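import Cfsg.Statements.S1443
import Cfsg.Agent.Lib.Local.CentralizerTrick
import Cfsg.Agent.Lib.Fusion.OmegaSeries

set_option autoImplicit false
open Cfsg

namespace Cfsg.Agent.S1443

theorem result {G : Type*} [Group G] [Finite G] (p : ℕ) [Fact p.Prime] (hp : p ≠ 2) (H E A : Subgroup G) (hH : IsPGroup p H) (hE : E ≤ H) (hEe : Cfsg.IsElementaryAbelian p E)
    (hA : (A ≤ Subgroup.normalizer (H : Set G))) (hcop : (Nat.card A).Coprime p)
    (hfix : ∀ x ∈ (H ⊓ Subgroup.centralizer (E : Set G)), orderOf x = p → A ≤ Subgroup.centralizer ({x} : Set G)) :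
    A ≤ Subgroup.centralizer (H : Set G) := by
  obtain ⟨k, hk⟩ := IsPGroup.iff_card.1 hH
  set D := H ⊓ Subgroup.centralizer (E : Set G) with hD
  have hord : ∀ x : G, x ∈ D → x ^ p = 1 → A ≤ Subgroup.centralizer ({x} : Set G) := by
    intro x hx hxp
    by_cases hx1 : x = 1
    · subst hx1
      exact fun a _ => Subgroup.mem_centralizer_singleton_iff.2 (by simp)
    · exact hfix x hx (orderOf_eq_prime hxp hx1)
  have hEc : ∀ e ∈ E, ∀ a ∈ A, a * e = e * a := by
    intro e he a ha
    refine (Subgroup.mem_centralizer_singleton_iff.1 (hord e ?_ (hEe.2 e he) ha))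
    refine Subgroup.mem_inf.2 ⟨hE he, Subgroup.mem_centralizer_iff.2 fun y hy => ?_⟩
    exact congrArg Subtype.val (hEe.1.is_comm.comm (⟨y, hy⟩ : E) ⟨e, he⟩)
  have hAD : A ≤ Subgroup.normalizer (D : Set G) := by
    intro a ha
    have hinv : ∀ e ∈ E, a⁻¹ * e * a = e := fun e he => by
      rw [mul_assoc, ← hEc e he a ha]; group
    rw [Subgroup.mem_normalizer_iff]
    intro x
    rw [hD, Subgroup.mem_inf, Subgroup.mem_inf, Subgroup.mem_centralizer_iff, Subgroup.mem_centralizer_iff,
      ← Subgroup.mem_normalizer_iff.1 (hA ha) x]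
    refine and_congr_right fun _ => forall₂_congr fun e he => ?_
    have h1 := hEc e he a ha
    constructor <;> intro h2
    · calc e * (a * x * a⁻¹) = a * (a⁻¹ * e * a) * x * a⁻¹ := by group
        _ = a * (e * x) * a⁻¹ := by rw [hinv e he]; group
        _ = a * (x * e) * a⁻¹ := by rw [h2]
        _ = a * x * (e * a⁻¹) := by group
        _ = a * x * (a⁻¹ * e) := by
          congr 1
          calc e * a⁻¹ = a⁻¹ * (a * e) * a⁻¹ := by group
            _ = a⁻¹ * e := by rw [h1]; group
        _ = a * x * a⁻¹ * e := by group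
    · calc e * x = a⁻¹ * (a * e) * x := by group
        _ = a⁻¹ * (e * (a * x * a⁻¹)) * a := by rw [h1]; group
        _ = a⁻¹ * (a * x * a⁻¹ * e) * a := by rw [h2]
        _ = x * (a⁻¹ * e * a) := by group
        _ = x * e := by rw [hinv e he]
  have hDc : D ≤ Subgroup.centralizer (A : Set G) := by
    intro x hx
    rw [Subgroup.mem_centralizer_iff]
    intro a ha
    obtain ⟨α, hα, hαo⟩ := Fusion.exists_conj_aut (hAD ha)
    have hco : (orderOf α).Coprime p :=
      hcop.coprime_dvd_left (hαo.trans (Subgroup.orderOf_dvd_natCard A ha))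
    have h1 : α = 1 := Fusion.aut_eq_one_of_fix_omega (hH.to_le inf_le_left) α hco fun y hy => by
      rcases hy with hy | ⟨hp2, -⟩
      · refine Subtype.ext ?_
        rw [hα]
        have h2 := Subgroup.mem_centralizer_singleton_iff.1
          (hord (y : G) y.2 (by simpa using congrArg Subtype.val hy) ha)
        rw [h2]; group
      · exact absurd hp2 hp
    have h2 := hα ⟨x, hx⟩
    rw [h1] at h2
    calc a * x = a * x * a⁻¹ * a := by group
      _ = x * a := by rw [← h2]; rfl
  refine CentTrick.centralizes_of_self_centralizing hH.isNilpotent hA (hk ▸ hcop.pow_right k) ?_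
  intro x hx
  refine Subgroup.mem_inf.2 ⟨(Subgroup.mem_inf.1 hx).1, hDc ?_⟩
  refine Subgroup.mem_inf.2 ⟨(Subgroup.mem_inf.1 hx).1, Subgroup.centralizer_le ?_ (Subgroup.mem_inf.1 hx).2⟩
  intro e he
  exact Subgroup.mem_inf.2 ⟨hE he, Subgroup.mem_centralizer_iff.2 fun a ha => hEc e he a ha⟩

end Cfsg.Agent.S1443
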