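import Cfsg.Statements.S3736
import Cfsg.Agent.Lib.Solv.Coprime
import Cfsg.Agent.Lib.Solv.Extraspecial
import Cfsg.Agent.Lib.Solv.Cores

set_option autoImplicit false
set_option linter.style.haveILetI false
open Cfsg

open scoped Pointwise commutatorElement

namespace Cfsg.Agent.S3736

theorem mul_pow_class_two {G : Type*} [Group G] {x y : G} (hc : ⁅y, x⁆ ∈ Subgroup.center G) (n : ℕ) :
    (x * y) ^ n = x ^ n * y ^ n * ⁅y, x⁆ ^ (n.choose 2) := by
  obtain ⟨c, hcd⟩ : ∃ c, c = ⁅y, x⁆ := ⟨_, rfl⟩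
  rw [← hcd] at hc ⊢
  have hcom : ∀ v : G, Commute c v := fun v => (Subgroup.mem_center_iff.1 hc v).symm
  have hyx : ∀ m : ℕ, y ^ m * x = x * y ^ m * c ^ m := by
    intro m
    induction m with
    | zero => simp
    | succ m ih =>
      have h1 : y * x = x * y * c := by
        rw [← (hcom (x * y)).eq, hcd, commutatorElement_def]; group
      calc y ^ (m + 1) * x = y * (y ^ m * x) := by rw [pow_succ', mul_assoc]
        _ = y * x * y ^ m * c ^ m := by rw [ih]; group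
        _ = x * y * (c * y ^ m) * c ^ m := by rw [h1]; group
        _ = x * y * y ^ m * (c * c ^ m) := by rw [(hcom _).eq]; group
        _ = _ := by rw [← pow_succ', mul_assoc x y, ← pow_succ']
  induction n with
  | zero => simp
  | succ n ih =>
    calc (x * y) ^ (n + 1) = x ^ n * y ^ n * (c ^ (n.choose 2) * x) * y := by
          rw [pow_succ, ih]; group
      _ = x ^ n * (y ^ n * x) * (c ^ (n.choose 2) * y) := by
          rw [((hcom x).pow_left _).eq]; group
      _ = x ^ n * x * y ^ n * (c ^ n * y) * c ^ (n.choose 2) := by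
          rw [hyx, ((hcom y).pow_left (n.choose 2)).eq]; group
      _ = x ^ n * x * (y ^ n * y) * (c ^ n * c ^ (n.choose 2)) := by
          rw [((hcom y).pow_left n).eq]; group
      _ = _ := by
          rw [← pow_succ, ← pow_succ, ← pow_add, Nat.choose_succ_succ, Nat.choose_one_right]

/-- The Hall–Higman reduction for a minimal non-trivial action. Let B, A and P be subgroups of a finite group with P a p-group, B normalizing P, and A a normal subgroup of B of order prime to p. Suppose A does not centralize P but centralizes every proper B-invariant subgroup of P. Then [P, A] = P; P is elementary abelian or special; B acts irreducibly on P/Φ(P), that is, the only B-invariant subgroups of P containing Φ(P) are Φ(P) and P; and if p is odd then every element of P has order dividing p. -/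
theorem result {X : Type*} [Group X] [Finite X] {p : ℕ} [Fact p.Prime] (B A P : Subgroup X) (hP : IsPGroup p P) (hBP : B ≤ Subgroup.normalizer (P : Set X)) (hAB : A ≤ B) (hAn : B ≤ Subgroup.normalizer (A : Set X)) (hAp : (Nat.card A).Coprime p) (hnt : ⁅P, A⁆ ≠ ⊥) (hmin : ∀ U : Subgroup X, U < P → B ≤ Subgroup.normalizer (U : Set X) → ⁅U, A⁆ = ⊥) : ⁅P, A⁆ = P ∧ (Cfsg.IsElementaryAbelian p P ∨ Cfsg.IsSpecial p ↥P) ∧ (∀ U : Subgroup X, (frattini ↥P).map P.subtype ≤ U → U ≤ P → B ≤ Subgroup.normalizer (U : Set X) → U = (frattini ↥P).map P.subtype ∨ U = P) ∧ (p ≠ 2 → ∀ x ∈ P, x ^ p = 1) := by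
  have hp : p.Prime := Fact.out
  obtain ⟨k₀, hk₀⟩ := IsPGroup.iff_card.1 hP
  have hAP : A ≤ Subgroup.normalizer (P : Set X) := hAB.trans hBP
  have hco : (Nat.card A).Coprime (Nat.card P) := by rw [hk₀]; exact hAp.pow_right _
  haveI hPnil : Group.IsNilpotent P := hP.isNilpotent
  have hsol : Group.IsSolvable A ∨ Group.IsSolvable P := Or.inr inferInstance
  obtain ⟨hle, -, -⟩ := Solv.commutator_normal_in hAP
  have hcomm : ⁅P, A⁆ = P := by
    refine hle.lt_or_eq.resolve_left fun hlt => hnt ?_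
    rw [← Solv.commutator_commutator_eq hAP hco hsol]
    refine hmin _ hlt fun b hb => Solv.mem_normalizer_of_conj_smul ?_
    rw [Solv.conj_smul_eq_map, Subgroup.map_commutator, ← Solv.conj_smul_eq_map, ← Solv.conj_smul_eq_map,
      Solv.conj_smul_of_mem_normalizer (hBP hb), Solv.conj_smul_of_mem_normalizer (hAn hb)]
  obtain ⟨Φ, hΦ⟩ : ∃ Φ, Φ = (frattini ↥P).map P.subtype := ⟨_, rfl⟩
  rw [← hΦ]
  have hΦP : Φ ≤ P := hΦ ▸ Subgroup.map_subtype_le _
  have hPP : ⁅P, P⁆ ≤ Φ := by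
    rw [hΦ]
    refine le_trans (le_of_eq ?_) (Subgroup.map_mono (Solv.commutator_le_frattini_pgroup hP))
    rw [commutator_def, Subgroup.map_commutator, ← MonoidHom.range_eq_map, Subgroup.range_subtype]
  have hpow : ∀ x ∈ P, x ^ p ∈ Φ := fun x hx =>
    hΦ ▸ ⟨⟨x, hx⟩ ^ p, Solv.pow_mem_frattini hP _, rfl⟩
  have hΦB : ∀ b ∈ Subgroup.normalizer (P : Set X), ∀ x ∈ Φ, b * x * b⁻¹ ∈ Φ := by
    intro b hb x hx
    rw [hΦ] at hx ⊢
    obtain ⟨y, hy, rfl⟩ := hx
    obtain ⟨e, he⟩ : ∃ e : P ≃* P, ∀ z : P, (e z : X) = b * z * b⁻¹ :=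
      ⟨MulEquiv.mk' ⟨fun z => ⟨b * z * b⁻¹, (Subgroup.mem_normalizer_iff.1 hb _).1 z.2⟩,
        fun z => ⟨b⁻¹ * z * b, (Subgroup.mem_normalizer_iff.1 hb _).2 (by
          simp [mul_assoc])⟩, fun z => Subtype.ext (by simp [mul_assoc]),
        fun z => Subtype.ext (by simp [mul_assoc])⟩ fun u v => Subtype.ext (by simp),
        fun _ => rfl⟩
    refine ⟨e y, ?_, he y⟩
    rw [← Subgroup.characteristic_iff_map_eq.1 (inferInstance : (frattini ↥P).Characteristic) e]
    exact ⟨y, hy, rfl⟩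
  have hΦn : B ≤ Subgroup.normalizer (Φ : Set X) := fun b hb => Subgroup.mem_normalizer_fintype fun x hx =>
    hΦB b (hBP hb) x hx
  -- elements fixed modulo a subgroup with abelian quotient lie in it
  have fixed : ∀ D : Subgroup X, ⁅P, P⁆ ≤ D → (∀ a ∈ A, ∀ d ∈ D, a * d * a⁻¹ ∈ D) → D ≤ P →
      ∀ u ∈ P, (∀ a ∈ A, ⁅u, a⁆ ∈ D) → u ∈ D := by
    intro D hPD hDA hDP u hu hua
    classical
    haveI := Fintype.ofFinite A
    haveI hDn : (D.subgroupOf P).Normal := ⟨fun d hd g => by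
      rw [Subgroup.mem_subgroupOf] at hd ⊢
      have h1 : ((g * d * g⁻¹ : P) : X) = ⁅(g : X), (d : X)⁆ * d := by
        rw [commutatorElement_def]; simp
      rw [h1]
      exact mul_mem (hPD (Subgroup.commutator_mem_commutator g.2 d.2)) hd⟩
    letI : CommGroup (P ⧸ D.subgroupOf P) :=
      { (inferInstance : Group (P ⧸ D.subgroupOf P)) with
        mul_comm := Solv.quotient_mul_comm _ fun a b => by
          rw [Subgroup.mem_subgroupOf]
          exact hPD (Subgroup.commutator_mem_commutator a.2 b.2) }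
    obtain ⟨φ, hφ⟩ : ∃ φ : A → (P →* P ⧸ D.subgroupOf P), ∀ (a : A) (z : P), φ a z =
        QuotientGroup.mk' _ ⟨a * z * (a : X)⁻¹, (Subgroup.mem_normalizer_iff.1 (hAP a.2) _).1 z.2⟩ :=
      ⟨fun a => (QuotientGroup.mk' _).comp (MonoidHom.mk' (fun z : P =>
        (⟨a * z * (a : X)⁻¹, (Subgroup.mem_normalizer_iff.1 (hAP a.2) _).1 z.2⟩ : P))
        fun u v => Subtype.ext (by simp)), fun _ _ => rfl⟩
    obtain ⟨ν, hν⟩ : ∃ ν : P →* P ⧸ D.subgroupOf P, ∀ z, ν z = ∏ a, φ a z :=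
      ⟨∏ a, φ a, fun z => MonoidHom.finsetProd_apply _ _ z⟩
    have hinv : ∀ (b : X) (hb : b ∈ A) (z : P),
        ν ⟨b * z * b⁻¹, (Subgroup.mem_normalizer_iff.1 (hAP hb) _).1 z.2⟩ = ν z := by
      intro b hb z
      rw [hν, hν]
      refine Fintype.prod_equiv (Equiv.mulRight (⟨b, hb⟩ : A)) _ _ fun a => ?_
      rw [hφ, hφ]
      congr 1
      refine Subtype.ext ?_
      simp [mul_assoc]
    have hker : ⁅P, A⁆ ≤ ν.ker.map P.subtype := by
      refine Subgroup.commutator_le.2 fun x hx a ha => ?_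
      have hm : a * x⁻¹ * a⁻¹ ∈ P := (Subgroup.mem_normalizer_iff.1 (hAP ha) _).1 (inv_mem hx)
      refine ⟨⟨x, hx⟩ * ⟨a * x⁻¹ * a⁻¹, hm⟩, ?_, ?_⟩
      · rw [SetLike.mem_coe, MonoidHom.mem_ker, map_mul]
        rw [show ν ⟨a * x⁻¹ * a⁻¹, hm⟩ = ν ⟨x, hx⟩⁻¹ from hinv a ha (⟨x, hx⟩⁻¹), map_inv,
          mul_inv_cancel]
      · rw [commutatorElement_def]; simp [mul_assoc]
    obtain ⟨v, hv, hvu⟩ := (hcomm.ge.trans hker) hu
    have hv' : v = ⟨u, hu⟩ := Subtype.ext hvu
    rw [SetLike.mem_coe, MonoidHom.mem_ker, hv', hν] at hv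
    have hall : ∀ a : A, φ a ⟨u, hu⟩ = QuotientGroup.mk' _ ⟨u, hu⟩ := by
      intro a
      rw [hφ, QuotientGroup.mk'_apply, QuotientGroup.mk'_apply, QuotientGroup.eq, Subgroup.mem_subgroupOf]
      have h1 := hDA a a.2 _ (hua (a : X)⁻¹ (inv_mem a.2))
      have h2 : ((⟨(a : X) * u * (a : X)⁻¹, (Subgroup.mem_normalizer_iff.1 (hAP a.2) _).1 hu⟩ : P)⁻¹ *
          ⟨u, hu⟩ : P) = (⟨(a : X) * u * (a : X)⁻¹, (Subgroup.mem_normalizer_iff.1 (hAP a.2) _).1 hu⟩ : P)⁻¹ *
          ⟨u, hu⟩ := rfl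
      have h3 : ((a : X) * u * (a : X)⁻¹)⁻¹ * u ∈ D := by
        have h4 : a * ⁅u, (a : X)⁻¹⁆ * (a : X)⁻¹ ∈ D := h1
        have h5 : ((a : X) * u * (a : X)⁻¹)⁻¹ * u =
            (a * u * (a : X)⁻¹)⁻¹ * (a * ⁅u, (a : X)⁻¹⁆ * (a : X)⁻¹)⁻¹ * (a * u * (a : X)⁻¹) := by
          rw [commutatorElement_def]; group
        rw [h5]
        have hm := (Subgroup.mem_normalizer_iff.1 (hAP a.2) _).1 hu
        have hd : (⟨_, hDP (inv_mem h4)⟩ : P) ∈ D.subgroupOf P := inv_mem h4
        have := hDn.conj_mem _ hd (⟨_, hm⟩ : P)⁻¹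
        rw [Subgroup.mem_subgroupOf] at this
        simpa using this
      exact h3
    rw [Finset.prod_congr rfl (fun a _ => hall a), Finset.prod_const, Finset.card_univ,
      ← Nat.card_eq_fintype_card] at hv
    have h1 : QuotientGroup.mk' (D.subgroupOf P) ⟨u, hu⟩ = 1 := by
      rw [← orderOf_eq_one_iff]
      refine Nat.eq_one_of_dvd_coprimes hco (orderOf_dvd_of_pow_eq_one hv) ?_
      exact (orderOf_map_dvd _ _).trans (orderOf_dvd_natCard _)
    rw [QuotientGroup.mk'_apply, QuotientGroup.eq_one_iff, Subgroup.mem_subgroupOf] at h1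
    exact h1
  have hPb : P ≠ ⊥ := fun h => hnt (by rw [h, Subgroup.commutator_bot_left])
  have hirr : ∀ U : Subgroup X, Φ ≤ U → U ≤ P → B ≤ Subgroup.normalizer (U : Set X) → U = Φ ∨ U = P := by
    intro U hΦU hUP hU
    by_cases hUP' : U = P
    · exact Or.inr hUP'
    refine Or.inl (le_antisymm (fun u hu => ?_) hΦU)
    have h0 := hmin U (lt_of_le_of_ne hUP hUP') hU
    refine fixed Φ hPP (fun a ha d hd => hΦB a (hAP ha) d hd) hΦP u (hUP hu) fun a ha => ?_
    have h1 := Subgroup.commutator_mem_commutator hu ha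
    rw [h0, Subgroup.mem_bot] at h1
    rw [h1]; exact one_mem _
  -- the Frattini subgroup is centralized by `A`
  have hΦlt : Φ < P := by
    refine lt_of_le_of_ne hΦP fun h => ?_
    haveI : Nontrivial P := (Subgroup.nontrivial_iff_ne_bot P).2 hPb
    have h1 : frattini P = ⊤ := by
      apply Subgroup.map_injective P.subtype_injective
      rw [← hΦ, h, ← MonoidHom.range_eq_map, Subgroup.range_subtype]
    obtain ⟨M, hM, -⟩ := (eq_top_or_exists_le_coatom (⊥ : Subgroup P)).resolve_left bot_ne_top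
    exact hM.1 (top_le_iff.1 (h1 ▸ frattini_le_coatom hM))
  have hΦA : ⁅Φ, A⁆ = ⊥ := hmin Φ hΦlt hΦn
  have hfixΦ : ∀ x ∈ Φ, ∀ a ∈ A, ⁅x, a⁆ = 1 := fun x hx a ha => by
    rw [← Subgroup.mem_bot, ← hΦA]; exact Subgroup.commutator_mem_commutator hx ha
  have hPΦ : ⁅P, Φ⁆ = ⊥ := by
    have h := Subgroup.commutator_commutator_eq_bot_of_rotate (H₁ := P) (H₂ := A) (H₃ := Φ)
      (by rw [Subgroup.commutator_comm A Φ, hΦA, Subgroup.commutator_bot_left])
      (le_bot_iff.1 (le_trans (Subgroup.commutator_mono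
        (by rw [Subgroup.commutator_comm]; exact (Subgroup.commutator_mono le_rfl hΦP).trans hPP) le_rfl)
        hΦA.le))
    rwa [hcomm] at h
  -- abelian case
  by_cases hab : IsMulCommutative P
  · have hΦb : Φ = ⊥ := by
      refine le_bot_iff.1 fun x hx => fixed ⊥ ?_ (fun a _ d hd => ?_) bot_le x (hΦP hx) fun a ha => ?_
      · rw [le_bot_iff, Subgroup.commutator_eq_bot_iff_le_centralizer]
        exact Subgroup.le_centralizer_iff_isMulCommutative.2 hab
      · rw [Subgroup.mem_bot] at hd ⊢; rw [hd]; group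
      · exact hfixΦ x hx a ha
    have hexp : ∀ x ∈ P, x ^ p = 1 := fun x hx => Subgroup.mem_bot.1 (hΦb ▸ hpow x hx)
    exact ⟨hcomm, Or.inl ⟨hab, hexp⟩, hirr, fun _ => hexp⟩
  obtain ⟨Z, hZ⟩ : ∃ Z, Z = (Subgroup.center ↥P).map P.subtype := ⟨_, rfl⟩
  have hΦZ : Φ ≤ Z := fun x hx => by
    rw [hZ]
    refine ⟨⟨x, hΦP hx⟩, Subgroup.mem_center_iff.2 fun g => Subtype.ext ?_, rfl⟩
    have h1 := Subgroup.commutator_mem_commutator g.2 hx
    rw [hPΦ, Subgroup.mem_bot, commutatorElement_eq_one_iff_mul_comm] at h1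
    exact h1
  have hZΦ : Z = Φ := by
    refine (hirr Z hΦZ (hZ ▸ Subgroup.map_subtype_le _) fun b hb => Subgroup.mem_normalizer_fintype ?_).resolve_right ?_
    · intro x hx
      rw [hZ] at hx ⊢
      obtain ⟨y, hy, rfl⟩ := hx
      refine ⟨⟨b * (y : X) * b⁻¹, (Subgroup.mem_normalizer_iff.1 (hBP hb) _).1 y.2⟩,
        Subgroup.mem_center_iff.2 fun g => Subtype.ext ?_, rfl⟩
      have hg : b⁻¹ * (g : X) * b ∈ P := (Subgroup.mem_normalizer_iff.1 (hBP hb) _).2 (by simp [mul_assoc])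
      have h2 : b⁻¹ * (g : X) * b * y = y * (b⁻¹ * g * b) :=
        congrArg Subtype.val (Subgroup.mem_center_iff.1 hy ⟨_, hg⟩)
      show (g : X) * (b * y * b⁻¹) = b * y * b⁻¹ * g
      calc (g : X) * (b * y * b⁻¹) = b * (b⁻¹ * g * b * y) * b⁻¹ := by group
        _ = b * y * b⁻¹ * g := by rw [h2]; group
    · intro h
      refine hab ⟨⟨fun a c => ?_⟩⟩
      obtain ⟨y, hy, hya⟩ := hZ ▸ h.ge a.2
      exact ((Subtype.ext hya : y = a) ▸ Subgroup.mem_center_iff.1 hy c).symm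
  have hfc : frattini P = Subgroup.center P := Subgroup.map_injective P.subtype_injective (by
    rw [← hΦ, ← hZ, hZΦ])
  have hΦd : Φ ≤ ⁅P, P⁆ := fun x hx => fixed ⁅P, P⁆ le_rfl
    (fun a ha d hd => by
      have h1 : MulAut.conj a • ⁅P, P⁆ = ⁅P, P⁆ := by
        rw [Solv.conj_smul_eq_map, Subgroup.map_commutator, ← Solv.conj_smul_eq_map,
          Solv.conj_smul_of_mem_normalizer (hAP ha)]
      rw [← h1, Solv.mem_conj_smul]
      simpa [mul_assoc] using hd)
    (Subgroup.commutator_le_self P) x (hΦP hx) (fun a ha => by rw [hfixΦ x hx a ha]; exact one_mem _)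
  have hdc : commutator P = Subgroup.center P := Subgroup.map_injective P.subtype_injective (by
    rw [← hZ, hZΦ, commutator_def, Subgroup.map_commutator, ← MonoidHom.range_eq_map, Subgroup.range_subtype]
    exact le_antisymm hPP hΦd)
  refine ⟨hcomm, Or.inr ⟨hP, hfc, hdc⟩, hirr, fun hp2 x hx => ?_⟩
  -- the `p`-th power map
  have hmul : ∀ u v : P, (u * v) ^ p = u ^ p * v ^ p := by
    intro u v
    have hc : ∀ g h : P, ⁅g, h⁆ ∈ Subgroup.center P := fun g h =>
      hdc ▸ Subgroup.commutator_mem_commutator (Subgroup.mem_top _) (Subgroup.mem_top _)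
    have h3 : (⁅v, u⁆ : P) ^ p = 1 := by
      have h1 : ∀ n : ℕ, (⁅v, u⁆ : P) ^ n = ⁅v ^ n, u⁆ := by
        intro n
        induction n with
        | zero => simp
        | succ n ih => rw [pow_succ, ih, pow_succ, Solv.commutatorElement_mul_left_of_central (hc _ _)]
      rw [h1, commutatorElement_eq_one_iff_mul_comm]
      exact (Subgroup.mem_center_iff.1 (hfc ▸ Solv.pow_mem_frattini hP v) u).symm
    obtain ⟨q, hq⟩ := hp.dvd_choose_self two_ne_zero (lt_of_le_of_ne hp.two_le (Ne.symm hp2))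
    rw [mul_pow_class_two (hc v u) p, hq, pow_mul, h3, one_pow, mul_one]
  have hker : ⁅P, A⁆ ≤ (MonoidHom.mk' (fun u : P => u ^ p) hmul).ker.map P.subtype := by
    refine Subgroup.commutator_le.2 fun y hy a ha => ?_
    have hm : a * y⁻¹ * a⁻¹ ∈ P := (Subgroup.mem_normalizer_iff.1 (hAP ha) _).1 (inv_mem hy)
    refine ⟨⟨y, hy⟩ * ⟨a * y⁻¹ * a⁻¹, hm⟩, ?_, ?_⟩
    · rw [SetLike.mem_coe, MonoidHom.mem_ker, map_mul]
      refine Subtype.ext ?_
      show y ^ p * (a * y⁻¹ * a⁻¹) ^ p = 1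
      rw [conj_pow, inv_pow]
      have h1 := hfixΦ _ (hpow y hy) a ha
      rw [commutatorElement_def] at h1
      calc y ^ p * (a * (y ^ p)⁻¹ * a⁻¹) = y ^ p * a * (y ^ p)⁻¹ * a⁻¹ := by group
        _ = 1 := h1
    · rw [commutatorElement_def]; simp [mul_assoc]
  obtain ⟨v, hv, hvx⟩ := (hcomm.ge.trans hker) hx
  rw [← hvx]
  exact congrArg Subtype.val hv

end Cfsg.Agent.S3736
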