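import Cfsg.Statements.S1988
import Cfsg.Agent.Lib.Fusion.CoatomNPC
import Cfsg.Agent.Lib.Fusion.NPCFunctor
import Cfsg.Agent.Lib.Fusion.KInfMap
import Cfsg.Agent.Lib.Fusion.LocalGlobal

set_option autoImplicit false
universe u
open Cfsg
open Cfsg.Agent.Fusion
open scoped commutatorElement

namespace Cfsg.Agent.S1988

universe v

theorem hnpc_normalizer_of_centralize {G : Type v} [Group G] [Finite G] {p : ℕ} [Fact p.Prime]
    (S : Sylow p G) (W : Subgroup G) (hSW : (S : Subgroup G) ≤ Subgroup.normalizer (W : Set G))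
    (hW : (S : Subgroup G) ⊓ Subgroup.centralizer (W : Set G) ≤ W)
    (h : ∀ g ∈ Subgroup.normalizer (W : Set G), (orderOf g).Coprime p →
      g ∈ Subgroup.centralizer (W : Set G)) :
    HasNormalPComplement p ↥(Subgroup.normalizer (W : Set G)) := by
  set N := Subgroup.normalizer (W : Set G)
  set C := Subgroup.centralizer (W : Set G)
  have hN : N ≤ Subgroup.normalizer (C : Set G) := fun n hn => by
    rw [mem_normalizer_iff_cj, cj_centralizer, cj_eq_self hn]
  have hD : SylIn p ((S : Subgroup G) ⊓ C) C :=
    ((sylIn_top S).mono hSW le_top).inf_normal (Subgroup.centralizer_le_normalizer _) hN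
  obtain ⟨P, hP⟩ := hD.exists_sylow_subgroupOf
  have hCn : HasNormalPComplement p C := by
    refine hnpc_of_normalizer_le_centralizer P fun x _ => ?_
    rw [Subgroup.mem_centralizer_iff]
    intro y hy
    replace hy : y ∈ (P : Subgroup C) := hy
    rw [hP] at hy
    exact Subtype.ext (Subgroup.mem_centralizer_iff.1 x.2 y (hW hy))
  refine hnpc_iff.2 ((hnpc_iff.1 hCn).coprime_dvd_left ?_)
  rw [← Subgroup.card_map_of_injective N.subtype_injective,
    ← Subgroup.card_map_of_injective C.subtype_injective (K := pResidual p C)]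
  refine Subgroup.card_dvd_of_le ?_
  rw [Subgroup.map_le_iff_le_comap]
  refine (Subgroup.closure_le _).2 fun x hx => ?_
  have hxC : (x : G) ∈ C := h x x.2 (by rwa [Subgroup.orderOf_coe])
  exact ⟨⟨x, hxC⟩, Subgroup.subset_closure (by
    show (orderOf (⟨(x : G), hxC⟩ : C)).Coprime p
    rwa [Subgroup.orderOf_mk, Subgroup.orderOf_coe]), rfl⟩


/-- Let p be an odd prime, G a finite group with Sylow p-subgroup S and K the lower K-infinity subgroup of S. If N_G(K) has a normal p-complement, or if N_G(K)/C_G(K) is a p-group (every element of N_G(K) of order prime to p centralizes K), then G has a normal p-complement. -/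
theorem result {G : Type u} [Group G] [Finite G] {p : ℕ} [Fact p.Prime] (hp : p ≠ 2) (S : Sylow p G) (h : Cfsg.HasNormalPComplement p ↥(Subgroup.normalizer ((Cfsg.inducedFunctor Cfsg.kInfLower (S : Subgroup G) : Subgroup G) : Set G)) ∨ ∀ g ∈ Subgroup.normalizer ((Cfsg.inducedFunctor Cfsg.kInfLower (S : Subgroup G) : Subgroup G) : Set G), (orderOf g).Coprime p → g ∈ Subgroup.centralizer ((Cfsg.inducedFunctor Cfsg.kInfLower (S : Subgroup G) : Subgroup G) : Set G)) : Cfsg.HasNormalPComplement p G := by
  set W := Cfsg.inducedFunctor Cfsg.kInfLower (S : Subgroup G) with hW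
  have hN : Cfsg.HasNormalPComplement p ↥(Subgroup.normalizer (W : Set G)) := by
    refine h.elim id fun h' => hnpc_normalizer_of_centralize S W
      (sylow_le_normalizer_functor (isConjugacyFunctor_induced (isCharPFunctor_kInfLower p))
        S.isPGroup') ?_ h'
    haveI : Group.IsNilpotent (S : Subgroup G) := S.isPGroup'.isNilpotent
    rintro x ⟨hxS, hxC⟩
    refine ⟨⟨x, hxS⟩, centralizer_kInfLower_le (Subgroup.mem_centralizer_iff.2 fun y hy => ?_), rfl⟩
    exact Subtype.ext (Subgroup.mem_centralizer_iff.1 hxC y ⟨y, hy, rfl⟩)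
  exact hnpc_of_functor_sections (isCharPFunctor_kInfLower p) (G := G)
    (fun X _ _ _ hc hq T hT => kInf_normal_of_coatom hp hc hq (sylIn_top T) hT) G involves_refl S hN

end Cfsg.Agent.S1988
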