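import Cfsg.Statements.S1444
import Cfsg.Agent.Lib.Solv.PLengthFixed

set_option autoImplicit false
open Cfsg

namespace Cfsg.Agent.S1444

/-- Let G be a solvable group of odd order, H a normal subgroup of order coprime to its index, R a complement to H in G, and R₀ ≤ R a subgroup of prime order such that every Sylow subgroup of H ∩ C_G(R₀) is cyclic. Then for every prime p the commutator subgroup [H, R] satisfies [H,R] = O_{p',p,p'}([H,R]). -/
theorem result {G : Type*} [Group G] [Finite G] [Group.IsSolvable G] (hodd : Odd (Nat.card G)) (H R R₀ : Subgroup G) [H.Normal] (hHall : (Nat.card H).Coprime H.index)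
    (hR : Subgroup.IsComplement' H R) (hR₀ : R₀ ≤ R) (hR₀p : (Nat.card R₀).Prime) (hZ : IsZGroup ↥(H ⊓ Subgroup.centralizer (R₀ : Set G)))
    (p : ℕ) [Fact p.Prime] :
    Cfsg.PLengthLE p 1 ↥⁅H, R⁆ := by
  classical
  rw [Cfsg.Agent.Solv.PLen.pLengthLE_iff]
  haveI := Fact.mk hR₀p
  obtain ⟨⟨x, hxR₀⟩, hx⟩ := exists_prime_orderOf_dvd_card' (G := R₀) (Nat.card R₀) dvd_rfl
  have hxo : orderOf x = Nat.card R₀ := by rwa [Subgroup.orderOf_mk] at hx
  have hz : Subgroup.zpowers x = R₀ := Subgroup.eq_of_le_of_card_ge (Subgroup.zpowers_le.2 hxR₀)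
    (by rw [Nat.card_zpowers, hxo])
  have hr2 : Nat.card R₀ ≠ 2 := fun h => (Nat.not_even_iff_odd.2 hodd)
    (even_iff_two_dvd.2 (h ▸ Subgroup.card_subgroup_dvd_card R₀))
  have hco : (Nat.card H).Coprime (Nat.card R) := by
    have h1 : H.index = Nat.card R := hR.symm.index_eq_card
    rwa [h1] at hHall
  haveI : IsZGroup ↥(H ⊓ Subgroup.centralizer (R₀ : Set G)) := hZ
  refine Cfsg.Agent.Solv.PLenFix.pLength_aux (r := Nat.card R₀) hr2 _ H R (Nat.lt_succ_self _)
    (hodd.of_dvd_nat (Subgroup.card_subgroup_dvd_card H)) inferInstance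
    (fun y _ => Cfsg.Agent.Solv.PLenFix.mem_normalizer_of_normal H y) hco x (hR₀ hxR₀) hxo
    (Cfsg.Agent.Solv.PLenFix.isZGroup_of_le (B := H ⊓ Subgroup.centralizer (R₀ : Set G)) ?_)
  refine inf_le_inf_left _ fun y hy => Subgroup.mem_centralizer_iff.2 fun z hz' => ?_
  rw [← hz] at hz'
  obtain ⟨i, rfl⟩ := Subgroup.mem_zpowers_iff.1 hz'
  exact ((show Commute y x from Subgroup.mem_centralizer_singleton_iff.1 hy).zpow_right i).eq.symm

end Cfsg.Agent.S1444
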