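import Cfsg.Statements.S1459
import Cfsg.Agent.Lib.Fusion.AbelianHall
import Cfsg.Agent.Lib.Perm.NilpFrattini

set_option autoImplicit false
open Cfsg
open scoped commutatorElement Pointwise

namespace Cfsg.Agent.S1459

theorem result {G : Type*} [Group G] [Finite G] [Group.IsSolvable G] :
    (∀ (H K : Subgroup G), H.Normal → (Nat.card H).Coprime H.index → Subgroup.IsComplement' H K → H ≤ commutator G →
        H = ⁅H, K⁆ ∧ H ⊓ Subgroup.centralizer (K : Set G) ≤ ⁅H, H⁆) ∧
      (Group.IsNilpotent ↥(commutator G) → (commutator G).index.Prime →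
        (Nat.card ↥(commutator G)).Coprime (commutator G).index ∧
        ∀ K : Subgroup G, Subgroup.IsComplement' (commutator G) K → commutator G = ⁅(⊤ : Subgroup G), K⁆) := by
  classical
  have main : ∀ (H K : Subgroup G), H.Normal → (Nat.card H).Coprime H.index →
      Subgroup.IsComplement' H K → H ≤ commutator G →
      H = ⁅H, K⁆ ∧ H ⊓ Subgroup.centralizer (K : Set G) ≤ ⁅H, H⁆ := by
    intro H K hn hcop hc hle
    haveI := hn
    have hHN : ∀ a ∈ H, ∀ b ∈ K, ⁅a, b⁆ ∈ ⁅H, K⁆ := fun a ha b hb => Subgroup.commutator_mem_commutator ha hb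
    have htop : H ⊔ K = ⊤ := hc.sup_eq_top
    haveI hNn : (⁅H, K⁆ : Subgroup G).Normal := by
      rw [← Subgroup.normalizer_eq_top_iff, eq_top_iff, ← htop]
      refine sup_le ?_ ?_
      · exact Subgroup.normalizer_commutator_ge_left H K
      · exact Subgroup.normalizer_commutator_ge_right H K
    set N : Subgroup G := ⁅H, K⁆
    have hNH : N ≤ H := Subgroup.commutator_le_left H K
    let π := QuotientGroup.mk' N
    have hπ : ∀ x ∈ N, π x = 1 := fun x hx => (QuotientGroup.eq_one_iff x).2 hx
    have hq : H.map π ≤ ⁅H.map π, H.map π⁆ := by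
      have h1 : (commutator G).map π ≤ ⁅H.map π, H.map π⁆ ⊔ ⁅K.map π, K.map π⁆ := by
        rw [commutator_def, Subgroup.map_commutator, ← htop, Subgroup.map_sup]
        have hHK : ⁅H.map π, K.map π⁆ = ⊥ := by
          rw [← Subgroup.map_commutator]
          exact (Subgroup.map_eq_bot_iff _).2 (by rw [QuotientGroup.ker_mk'])
        have hc' : ∀ a ∈ H.map π, ∀ b ∈ K.map π, Commute a b := fun a ha b hb =>
          commutatorElement_eq_one_iff_commute.1 (Subgroup.mem_bot.1 (hHK ▸ Subgroup.commutator_mem_commutator ha hb))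
        rw [Subgroup.commutator_le]
        intro x hx y hy
        have hnorm : H.map π ≤ Subgroup.normalizer ((K.map π : Subgroup (G ⧸ N)) : Set (G ⧸ N)) :=
          fun a ha => Subgroup.centralizer_le_normalizer _
            (Subgroup.mem_centralizer_iff.2 fun b hb => (hc' a ha b hb).symm.eq)
        rw [← SetLike.mem_coe, Subgroup.coe_mul_of_left_le_normalizer_right _ _ hnorm] at hx hy
        obtain ⟨a, ha, b, hb, rfl⟩ := hx
        obtain ⟨c, hc₁, d, hd, rfl⟩ := hy
        have e : ⁅a * b, c * d⁆ = ⁅a, c⁆ * ⁅b, d⁆ := by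
          simp only [commutatorElement_def, mul_inv_rev]
          have e1 : b * c = c * b := (hc' c hc₁ b hb).symm.eq
          have e2 : a⁻¹ * b = b * a⁻¹ := (hc' _ (inv_mem ha) b hb).eq
          have e3 : a⁻¹ * d = d * a⁻¹ := (hc' _ (inv_mem ha) d hd).eq
          have e4 : c⁻¹ * b = b * c⁻¹ := (hc' _ (inv_mem hc₁) b hb).eq
          have e5 : a⁻¹ * b⁻¹ = b⁻¹ * a⁻¹ := (hc' _ (inv_mem ha) _ (inv_mem hb)).eq
          have e6 : a⁻¹ * d⁻¹ = d⁻¹ * a⁻¹ := (hc' _ (inv_mem ha) _ (inv_mem hd)).eq
          have e7 : c⁻¹ * d⁻¹ = d⁻¹ * c⁻¹ := (hc' _ (inv_mem hc₁) _ (inv_mem hd)).eq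
          have e8 : c⁻¹ * b⁻¹ = b⁻¹ * c⁻¹ := (hc' _ (inv_mem hc₁) _ (inv_mem hb)).eq
          calc a * b * (c * d) * (b⁻¹ * a⁻¹) * (d⁻¹ * c⁻¹)
              = a * (b * c) * d * (b⁻¹ * a⁻¹) * (d⁻¹ * c⁻¹) := by group
            _ = a * c * b * d * (a⁻¹ * b⁻¹) * (c⁻¹ * d⁻¹) := by rw [e1, ← e5, ← e7]; group
            _ = a * c * b * (d * a⁻¹) * (b⁻¹ * c⁻¹) * d⁻¹ := by group
            _ = a * c * b * (a⁻¹ * d) * (c⁻¹ * b⁻¹) * d⁻¹ := by rw [← e3, ← e8]
            _ = a * c * (b * a⁻¹) * (d * c⁻¹) * b⁻¹ * d⁻¹ := by group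
            _ = a * c * (a⁻¹ * b) * (c⁻¹ * d) * b⁻¹ * d⁻¹ := by
              rw [← e2, show d * c⁻¹ = c⁻¹ * d from ((hc' _ (inv_mem hc₁) d hd).eq).symm]
            _ = a * c * a⁻¹ * (b * c⁻¹) * d * b⁻¹ * d⁻¹ := by group
            _ = a * c * a⁻¹ * (c⁻¹ * b) * d * b⁻¹ * d⁻¹ := by rw [← e4]
            _ = a * c * a⁻¹ * c⁻¹ * (b * d * b⁻¹ * d⁻¹) := by group
        rw [e]
        exact mul_mem (Subgroup.mem_sup_left (Subgroup.commutator_mem_commutator ha hc₁))
          (Subgroup.mem_sup_right (Subgroup.commutator_mem_commutator hb hd))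
      intro x hx
      have hx' := h1 (Subgroup.map_mono hle hx)
      haveI : (⁅H.map π, H.map π⁆ : Subgroup (G ⧸ N)).Normal := by
        haveI := hn.map π (QuotientGroup.mk'_surjective N)
        exact Subgroup.commutator_normal _ _
      obtain ⟨u, hu, v, hv, rfl⟩ := Subgroup.mem_sup_of_normal_left.1 hx'
      have hv1 : v ∈ H.map π ⊓ K.map π := by
        refine Subgroup.mem_inf.2 ⟨?_, Subgroup.commutator_le_self _ hv⟩
        have := mul_mem (inv_mem (Subgroup.commutator_le_self _ hu)) hx
        simpa using this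
      obtain ⟨⟨h, hh, rfl⟩, k, hk, hke⟩ := Subgroup.mem_inf.1 hv1
      have h2 : k⁻¹ * h ∈ N := QuotientGroup.eq.1 hke
      have h3 : k ∈ H ⊓ K := by
        refine ⟨?_, hk⟩
        have := mul_mem hh (inv_mem (hNH h2))
        simpa [mul_assoc] using this
      rw [disjoint_iff.1 hc.disjoint, Subgroup.mem_bot] at h3
      rw [← hke, h3, map_one, mul_one]
      exact hu
    have hH1 : H = N := by
      refine le_antisymm ?_ hNH
      have hbot : H.map π = ⊥ := by
        by_contra hne
        exact (Group.IsSolvable.commutator_lt_of_ne_bot hne).not_ge hq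
      intro x hx
      have : π x ∈ H.map π := ⟨x, hx, rfl⟩
      rw [hbot, Subgroup.mem_bot] at this
      exact (QuotientGroup.eq_one_iff x).1 this
    refine ⟨hH1, fun c hc₁ => ?_⟩
    haveI := Fintype.ofFinite K
    let e : K → (H →* Abelianization H) := fun k =>
      Abelianization.of.comp (MulAut.conjNormal (k : G) : MulAut H).toMonoidHom
    let φ : H →* Abelianization H := ∏ k : K, e k
    have hφ : ∀ h : H, φ h = ∏ k : K, Abelianization.of (MulAut.conjNormal (k : G) h) := fun h => by
      simp [φ, e, MonoidHom.finsetProd_apply]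
    have hinv : ∀ (h : H) (k₀ : K), φ (MulAut.conjNormal (k₀ : G) h) = φ h := fun h k₀ => by
      rw [hφ, hφ]
      refine Fintype.prod_equiv (Equiv.mulRight k₀) _ _ fun k => congrArg _ (Subtype.ext ?_)
      simp [mul_assoc]
    have hker : H ≤ φ.ker.map H.subtype := by
      refine hH1.le.trans ?_
      refine Subgroup.commutator_le.2 fun a ha k hk => ?_
      refine ⟨⟨a, ha⟩ * MulAut.conjNormal k (⟨a, ha⟩⁻¹ : H), ?_, ?_⟩
      · rw [SetLike.mem_coe, MonoidHom.mem_ker, map_mul, show φ (MulAut.conjNormal k (⟨a, ha⟩⁻¹ : H)) =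
          φ (⟨a, ha⟩⁻¹ : H) from hinv _ ⟨k, hk⟩, ← map_mul, mul_inv_cancel, map_one]
      · simp [commutatorElement_def, mul_assoc]
    obtain ⟨hcH, hcK⟩ := Subgroup.mem_inf.1 hc₁
    have hφc : φ ⟨c, hcH⟩ = 1 := by
      obtain ⟨z, hz, hze⟩ := hker hcH
      rwa [show z = ⟨c, hcH⟩ from Subtype.ext hze] at hz
    have hpow : Abelianization.of (⟨c, hcH⟩ : H) ^ Nat.card K = 1 := by
      rw [← hφc, hφ, Finset.prod_congr rfl (g := fun _ => Abelianization.of (⟨c, hcH⟩ : H)) ?_,
        Finset.prod_const, Finset.card_univ, Nat.card_eq_fintype_card]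
      intro k _
      refine congrArg _ (Subtype.ext ?_)
      have := Subgroup.mem_centralizer_iff.1 hcK k k.2
      simp [this, mul_assoc]
    have hone : Abelianization.of (⟨c, hcH⟩ : H) = 1 := by
      rw [← orderOf_eq_one_iff]
      refine Nat.eq_one_of_dvd_coprimes ?_ ((orderOf_map_dvd _ _).trans (orderOf_dvd_natCard _)) (orderOf_dvd_of_pow_eq_one hpow)
      have := hcop
      rwa [hc.symm.index_eq_card] at this
    have hm : (⟨c, hcH⟩ : H) ∈ (commutator H).map (MonoidHom.id H) := by
      rw [Subgroup.map_id, ← Abelianization.ker_of]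
      exact hone
    rw [Subgroup.map_id] at hm
    rw [← Subgroup.map_subtype_commutator H]
    exact ⟨⟨c, hcH⟩, hm, rfl⟩
  refine ⟨main, fun hnil hp => ?_⟩
  haveI := hnil
  set p := (commutator G).index with hpdef
  haveI := Fact.mk hp
  have hcop : (Nat.card ↥(commutator G)).Coprime p := by
    set N : Subgroup G := (pPrimeCore p ↥(commutator G)).map (commutator G).subtype with hN
    haveI : N.Normal := inferInstance
    have hNc : (Nat.card N).Coprime p := by
      rw [hN, Subgroup.card_map_of_injective (commutator G).subtype_injective]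
      exact Fusion.card_pPrimeCore_coprime p _
    obtain ⟨P, M, hMn, hMc⟩ := Fusion.hnpc_of_isNilpotent (p := p) (G := ↥(commutator G))
    haveI := hMn
    have hML : M ≤ pPrimeCore p ↥(commutator G) :=
      Fusion.le_pPrimeCore (Fusion.coprime_card_of_isComplement' hMc)
    obtain ⟨k, hk⟩ := IsPGroup.iff_card.1 P.isPGroup'
    have hidx : M.index = p ^ k := hMc.symm.index_eq_card.trans hk
    have hQ : IsPGroup p (G ⧸ N) := by
      obtain ⟨j, -, hj⟩ := (Nat.dvd_prime_pow hp).1 (hidx ▸ Subgroup.index_dvd_of_le hML)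
      refine IsPGroup.of_card (n := j + 1) ?_
      rw [← Subgroup.index_eq_card, hN, Subgroup.index_map_subtype, hj, pow_succ]
    haveI := hQ.isNilpotent
    have hle : commutator G ≤ N := by
      obtain ⟨x, hx⟩ : ∃ x : G, x ∉ commutator G := by
        by_contra h
        push Not at h
        refine hp.ne_one ?_
        rw [hpdef, Subgroup.index_eq_one, eq_top_iff]
        exact fun g _ => h g
      have hNle : N ≤ commutator G := Subgroup.map_subtype_le _
      have hmap : (commutator G).map (QuotientGroup.mk' N) = commutator (G ⧸ N) := by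
        rw [commutator_def, commutator_def, Subgroup.map_commutator, Subgroup.map_top_of_surjective _ (QuotientGroup.mk'_surjective N)]
      have htop : Subgroup.zpowers (QuotientGroup.mk' N x) ⊔ commutator (G ⧸ N) = ⊤ := by
        rw [← hmap, ← MonoidHom.map_zpowers, ← Subgroup.map_sup]
        suffices h : Subgroup.zpowers x ⊔ commutator G = ⊤ by
          rw [h, Subgroup.map_top_of_surjective _ (QuotientGroup.mk'_surjective N)]
        rw [← Subgroup.index_eq_one]
        rcases (Nat.dvd_prime hp).1 (Subgroup.index_dvd_of_le (le_sup_right : commutator G ≤ Subgroup.zpowers x ⊔ commutator G)) with h | h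
        · exact h
        · exfalso
          have h1 := Subgroup.relIndex_mul_index (le_sup_right : commutator G ≤ Subgroup.zpowers x ⊔ commutator G)
          rw [h, ← hpdef] at h1
          have h2 : (commutator G).relIndex (Subgroup.zpowers x ⊔ commutator G) = 1 := by
            exact Nat.eq_of_mul_eq_mul_right hp.pos (h1.trans (one_mul p).symm)
          exact hx (Subgroup.relIndex_eq_one.1 h2 (Subgroup.mem_sup_left (Subgroup.mem_zpowers x)))
      have hgen : Subgroup.zpowers (QuotientGroup.mk' N x) = ⊤ := by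
        refine frattini_nongenerating (eq_top_iff.2 ?_)
        rw [← htop]
        exact sup_le_sup_left Perm.commutator_le_frattini _
      have hbot : commutator (G ⧸ N) = ⊥ := by
        rw [commutator_def, ← hgen, Subgroup.commutator_eq_bot_iff_le_centralizer]
        exact Subgroup.le_centralizer _
      intro g hg
      have : QuotientGroup.mk' N g ∈ commutator (G ⧸ N) := hmap ▸ ⟨g, hg, rfl⟩
      rw [hbot, Subgroup.mem_bot] at this
      exact (QuotientGroup.eq_one_iff g).1 this
    exact hNc.coprime_dvd_left (Subgroup.card_dvd_of_le hle)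
  refine ⟨hcop, fun K hK => ?_⟩
  refine le_antisymm ?_ (Subgroup.commutator_mono le_rfl le_top)
  exact ((main _ K inferInstance hcop hK le_rfl).1).le.trans (Subgroup.commutator_mono le_top le_rfl)

end Cfsg.Agent.S1459
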