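import Cfsg.Statements.S1452
import Cfsg.Agent.Lib.Fusion.RankTwoExponent
import Cfsg.Agent.Lib.Local.PuigBasic
import Cfsg.Agent.Lib.Fusion.PGroupAux
import Cfsg.Agent.Lib.Fusion.RankFourNormal

set_option autoImplicit false
open Cfsg
open Cfsg.Agent
open scoped commutatorElement

namespace Cfsg.Agent.S1452

theorem result {R : Type*} [Group R] [Finite R] (p : ℕ) [Fact p.Prime] (hp : p ≠ 2) (hR : IsPGroup p R) (hr : ¬ Cfsg.PRankLE p 2 R)
    (E : Subgroup R) [E.Normal] (hE : Cfsg.IsElementaryAbelian p E) (hE2 : Nat.card E = p ^ 2) :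
    ∃ A : Subgroup R, E ≤ A ∧ A.Normal ∧ Subgroup.centralizer (A : Set R) = A ∧ ¬ Cfsg.PRankLE p 2 A := by
  classical
  have hpp : p.Prime := Fact.out
  haveI : Group.IsNilpotent R := hR.isNilpotent
  obtain ⟨V, hVn, hVc, hVe, hV3⟩ : ∃ V : Subgroup R, V.Normal ∧ IsMulCommutative V ∧ (∀ a ∈ V, a ^ p = 1) ∧ Nat.card V = p ^ 3 := by
    by_contra hno
    refine hr fun X hXc hXe => Fusion.card_le_of_no_normal_rank_three hp hR (fun A h1 h2 h3 h4 => hno ⟨A, h1, h2, h3, h4⟩) X hXc hXe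
  haveI := hVn
  obtain ⟨z, hzE, hz1, hzc⟩ := Fusion.exists_central_of_normal hR E (fun h => by
    rw [h, Subgroup.card_bot] at hE2
    exact (Nat.one_lt_pow two_ne_zero hpp.one_lt).ne hE2)
  have hzo : orderOf z = p := orderOf_eq_prime (hE.2 z hzE) hz1
  obtain ⟨Z, hZ⟩ : ∃ Z, Z = Subgroup.zpowers z := ⟨_, rfl⟩
  have hZc : Z ≤ Subgroup.center R := hZ ▸ Subgroup.zpowers_le.2 hzc
  haveI hZn : Z.Normal := ⟨fun a ha g => by
    rw [Subgroup.mem_center_iff.1 (hZc ha) g, mul_inv_cancel_right]; exact ha⟩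
  have hZE : Z ≤ E := hZ ▸ Subgroup.zpowers_le.2 hzE
  have hZcard : Nat.card Z = p := by rw [hZ, Nat.card_zpowers, hzo]
  have hcomm : ∀ u ∈ E, ∀ g : R, ⁅u, g⁆ ∈ Z := fun u hu g =>
    Fusion.commutator_mem_of_index_prime hR Z E hZE (by rw [hZcard, hE2, pow_two]) hu g
  obtain ⟨e, heE, heZ⟩ : ∃ e ∈ E, e ∉ Z := by
    by_contra hno
    push Not at hno
    have h1 := Subgroup.card_le_of_le (show E ≤ Z from hno)
    rw [hE2, hZcard, pow_two] at h1
    nlinarith [hpp.two_le]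
  have hgenE : ∀ c : R, c * e = e * c → c ∈ Subgroup.centralizer (E : Set R) := by
    intro c hc
    have hle : Z ⊔ Subgroup.zpowers e = E := by
      refine Subgroup.eq_of_le_of_card_ge (sup_le hZE (Subgroup.zpowers_le.2 heE)) ?_
      by_contra hlt
      have hEp : IsPGroup p ↥(Z ⊔ Subgroup.zpowers e : Subgroup R) := hR.to_subgroup _
      obtain ⟨k, hk⟩ := IsPGroup.iff_card.1 hEp
      rw [hE2, not_le, hk, Nat.pow_lt_pow_iff_right hpp.one_lt] at hlt
      have h1 : Z = Z ⊔ Subgroup.zpowers e := Subgroup.eq_of_le_of_card_ge le_sup_left (by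
        rw [hk, hZcard]
        exact (Nat.pow_le_pow_right hpp.pos (show k ≤ 1 by omega)).trans (pow_one p).le)
      exact heZ (h1 ▸ Subgroup.mem_sup_right (Subgroup.mem_zpowers e))
    have hle2 : E ≤ Subgroup.centralizer ({c} : Set R) := by
      rw [← hle]
      refine sup_le (fun a ha => ?_) (Subgroup.zpowers_le.2 ?_)
      · exact Subgroup.mem_centralizer_singleton_iff.2 (Subgroup.mem_center_iff.1 (hZc ha) c).symm
      · exact Subgroup.mem_centralizer_singleton_iff.2 hc.symm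
    exact Subgroup.mem_centralizer_iff.2 fun a ha => (Subgroup.mem_centralizer_singleton_iff.1 (hle2 ha))
  obtain ⟨C, hC⟩ : ∃ C, C = V ⊓ Subgroup.centralizer (E : Set R) := ⟨_, rfl⟩
  let φ : ↥V →* ↥Z := MonoidHom.mk' (fun v => ⟨⁅e, (v : R)⁆, hcomm e heE v⟩) fun a b => Subtype.ext (by
    show ⁅e, (a : R) * b⁆ = ⁅e, (a : R)⁆ * ⁅e, (b : R)⁆
    calc ⁅e, (a : R) * b⁆ = ⁅e, (a : R)⁆ * ((a : R) * ⁅e, (b : R)⁆ * (a : R)⁻¹) := by
          simp only [commutatorElement_def]; group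
      _ = _ := by
          rw [Subgroup.mem_center_iff.1 (hZc (hcomm e heE b)) (a : R), mul_inv_cancel_right])
  have hker : φ.ker.map V.subtype ≤ C := by
    rintro _ ⟨v, hv, rfl⟩
    have h1 : ⁅e, (v : R)⁆ = 1 := congrArg Subtype.val hv
    exact hC ▸ Subgroup.mem_inf.2 ⟨v.2, hgenE _ (commutatorElement_eq_one_iff_mul_comm.1 h1).symm⟩
  have hC2 : p ^ 2 ≤ Nat.card C := by
    have h1 := Subgroup.card_mul_index φ.ker
    rw [Subgroup.index_ker, hV3] at h1
    have h2 : Nat.card φ.range ≤ p := hZcard ▸ Subgroup.card_le_card_group _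
    have h3 := Subgroup.card_le_of_le hker
    rw [Subgroup.card_map_of_injective V.subtype_injective] at h3
    have h4 : p ^ 2 * p ≤ Nat.card φ.ker * p := by
      rw [← pow_succ, ← h1]; exact Nat.mul_le_mul_left _ h2
    exact (Nat.le_of_mul_le_mul_right h4 hpp.pos).trans h3
  obtain ⟨W, hW⟩ : ∃ W, W = E ⊔ C := ⟨_, rfl⟩
  haveI : C.Normal := hC ▸ inferInstance
  haveI : W.Normal := hW ▸ inferInstance
  have hcEC : ∀ a ∈ E, ∀ b ∈ C, a * b = b * a := fun a ha b hb =>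
    Subgroup.mem_centralizer_iff.1 (Subgroup.mem_inf.1 (hC.le hb)).2 a ha
  have hWel : (∀ a ∈ W, ∀ b ∈ W, a * b = b * a) ∧ ∀ a ∈ W, a ^ p = 1 := by
    have hdec : ∀ a ∈ W, ∃ u ∈ E, ∃ c ∈ C, u * c = a := fun a ha => by
      rw [hW] at ha
      exact Subgroup.mem_sup_of_normal_left.1 ha
    refine ⟨fun a ha b hb => ?_, fun a ha => ?_⟩
    · obtain ⟨u, hu, c, hc, rfl⟩ := hdec a ha
      obtain ⟨u', hu', c', hc', rfl⟩ := hdec b hb
      have hcV : c ∈ V := (Subgroup.mem_inf.1 (hC.le hc)).1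
      have hcV' : c' ∈ V := (Subgroup.mem_inf.1 (hC.le hc')).1
      have e1 : Commute u u' := congrArg Subtype.val (hE.1.is_comm.comm ⟨u, hu⟩ ⟨u', hu'⟩)
      have e2 : Commute c c' := congrArg Subtype.val (hVc.is_comm.comm ⟨c, hcV⟩ ⟨c', hcV'⟩)
      exact ((e1.mul_right (hcEC u hu c' hc')).mul_left
        ((show Commute c u' from (hcEC u' hu' c hc).symm).mul_right e2)).eq
    · obtain ⟨u, hu, c, hc, rfl⟩ := hdec a ha
      rw [(show Commute u c from hcEC u hu c hc).mul_pow, hE.2 u hu, hVe c (Subgroup.mem_inf.1 (hC.le hc)).1, one_mul]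
  have hW3 : ¬ Nat.card W ≤ p ^ 2 := by
    intro hle
    have hEW : E = W := Subgroup.eq_of_le_of_card_ge (hW ▸ le_sup_left) (hle.trans hE2.ge)
    have hCE : C = E := Subgroup.eq_of_le_of_card_ge (hEW ▸ hW ▸ le_sup_right) (hE2.le.trans hC2)
    have hEV : E ≤ V := hCE ▸ hC ▸ inf_le_left
    have hVC : V ≤ C := fun v hv => hC ▸ Subgroup.mem_inf.2 ⟨hv, Subgroup.mem_centralizer_iff.2 fun a ha =>
      congrArg Subtype.val (hVc.is_comm.comm ⟨a, hEV ha⟩ ⟨v, hv⟩)⟩
    have h1 := Subgroup.card_le_of_le hVC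
    rw [hCE, hE2, hV3] at h1
    exact absurd ((Nat.pow_le_pow_iff_right hpp.one_lt).1 h1) (by norm_num)
  obtain ⟨A, hWA, hA⟩ := Finite.exists_le_maximal
    (p := fun A : Subgroup R => A.Normal ∧ A ≤ Subgroup.centralizer (A : Set R)) (a := W)
    ⟨inferInstance, fun a ha => Subgroup.mem_centralizer_iff.2 fun b hb => hWel.1 b hb a ha⟩
  haveI hAn := hA.1.1
  have hAa := hA.1.2
  refine ⟨A, (hW ▸ le_sup_left : E ≤ W).trans hWA, hAn, le_antisymm ?_ hAa, fun h => hW3 ?_⟩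
  · by_contra hCA
    obtain ⟨x, hxC, hxA, hx⟩ := Fusion.exists_fixed_mod (N := A)
      (C := Subgroup.centralizer (A : Set R)) (Q := (⊤ : Subgroup R))
      (by rw [Subgroup.normalizer_eq_top]) hCA
    obtain ⟨B, hB⟩ : ∃ B, B = A ⊔ Subgroup.zpowers x := ⟨_, rfl⟩
    have hBn : B.Normal := by
      refine Fusion.normal_iff_cj.2 fun g => Fusion.cj_eq_of_cj_le ?_
      rw [hB]
      show (A ⊔ Subgroup.zpowers x).map (MulAut.conj g).toMonoidHom ≤ _
      rw [Subgroup.map_sup, MonoidHom.map_zpowers]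
      refine sup_le ?_ (Subgroup.zpowers_le.2 ?_)
      · rintro _ ⟨a, ha, rfl⟩
        exact Subgroup.mem_sup_left (hAn.conj_mem a ha g)
      · have h1 : (MulAut.conj g) x = (⁅x, g⁆)⁻¹ * x := by
          simp [commutatorElement_def, mul_assoc]
        show (MulAut.conj g) x ∈ _
        rw [h1]
        exact mul_mem (Subgroup.mem_sup_left (inv_mem (hx g trivial)))
          (Subgroup.mem_sup_right (Subgroup.mem_zpowers x))
    have hBa : B ≤ Subgroup.centralizer (B : Set R) := by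
      rw [hB]
      refine sup_le (Subgroup.le_centralizer_iff.1 (sup_le hAa (Subgroup.zpowers_le.2 hxC)))
        (Subgroup.le_centralizer_iff.1 (sup_le (Subgroup.le_centralizer_iff.1 (Subgroup.zpowers_le.2 hxC)) ?_))
      intro y hy
      rw [Subgroup.mem_centralizer_iff]
      intro z hz
      obtain ⟨i, rfl⟩ := Subgroup.mem_zpowers_iff.1 hy
      obtain ⟨j, rfl⟩ := Subgroup.mem_zpowers_iff.1 hz
      exact ((Commute.refl x).zpow_zpow j i).eq
    exact hxA (hA.2 ⟨hBn, hBa⟩ (hB ▸ le_sup_left) (hB ▸ Subgroup.mem_sup_right (Subgroup.mem_zpowers x)))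
  · have h1 := h (W.subgroupOf A) ⟨⟨fun a b => Subtype.ext (Subtype.ext (hWel.1 _ a.2 _ b.2))⟩⟩
      (fun a ha => Subtype.ext (hWel.2 _ ha))
    rwa [Solv.card_subgroupOf hWA] at h1

end Cfsg.Agent.S1452
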