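import Cfsg.Statements.S1379
import Cfsg.Agent.Lib.OddLocal.KappaCover

set_option autoImplicit false
open Cfsg

namespace Cfsg.Agent.S1379

theorem result {G : Type*} [Group G] [Finite G] (hG : Cfsg.IsMinSimpleOddOrder G) :
    (∀ M N : Subgroup G, IsCoatom M → IsCoatom N → (∀ g : G, N ≠ M.map (MulAut.conj g).toMonoidHom) → Cfsg.tildeOf M ((Cfsg.sigmaCore M : Set G) \ {1}) ∩ Cfsg.tildeOf N ((Cfsg.sigmaCore N : Set G) \ {1}) = ∅) ∧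
      ((∀ M : Subgroup G, IsCoatom M → Cfsg.kappa M = ∅) →
        ∀ g : G, g ≠ 1 → ∃ M : Subgroup G, IsCoatom M ∧ g ∈ Cfsg.tildeOf M ((Cfsg.sigmaCore M : Set G) \ {1})) ∧
      ∀ (M K U : Subgroup G), IsCoatom M → Cfsg.IsSigmaDecomposition M K U → K ≠ ⊥ →
        (∀ g : G, g ≠ 1 → (∃ N : Subgroup G, IsCoatom N ∧ g ∈ Cfsg.tildeOf N ((Cfsg.sigmaCore N : Set G) \ {1})) ∨
            ∃ y : G, ∃ z ∈ ((↑(K ⊔ (Cfsg.sigmaCore M ⊓ Subgroup.centralizer (K : Set G))) : Set G) \ ((K : Set G) ∪ ↑(Cfsg.sigmaCore M ⊓ Subgroup.centralizer (K : Set G)))), g = y * z * y⁻¹) ∧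
        ∀ N : Subgroup G, IsCoatom N → ∀ y : G, ∀ z ∈ ((↑(K ⊔ (Cfsg.sigmaCore M ⊓ Subgroup.centralizer (K : Set G))) : Set G) \ ((K : Set G) ∪ ↑(Cfsg.sigmaCore M ⊓ Subgroup.centralizer (K : Set G)))), y * z * y⁻¹ ∉ Cfsg.tildeOf N ((Cfsg.sigmaCore N : Set G) \ {1}) := by
  refine ⟨fun M N hM hN hne => Cfsg.Agent.OddLocal.Kappa.tilde_disjoint' hG hM hN hne, fun hκ g hg => ?_,
    fun M K U hM hD hK => ⟨fun g hg => Cfsg.Agent.OddLocal.Kappa.cover_hat hG hM hD.hall hK hg,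
      fun N hN y z hz => Cfsg.Agent.OddLocal.Kappa.hat_not_tilde hG hM hD.hall hK hN hz⟩⟩
  rcases Cfsg.Agent.OddLocal.Kappa.cover hG hg with h | ⟨M, x, x', hM, -, -, -, hx'1, -, -, hk⟩
  · exact h
  · obtain ⟨q, hq, hqd⟩ := Nat.exists_prime_and_dvd fun h' => hx'1 (orderOf_eq_one_iff.1 h')
    have := hk q hq hqd
    rw [hκ M hM] at this
    exact this.elim

end Cfsg.Agent.S1379
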