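import Cfsg.Statements.S1421
import Cfsg.Agent.Lib.OddLocal.TauTwoFrobeniusAbelian

set_option autoImplicit false
open Cfsg

namespace Cfsg.Agent.S1421

theorem result {G : Type*} [Group G] [Finite G] (hG : Cfsg.IsMinSimpleOddOrder G)
    (M : Subgroup G) (hM : IsCoatom M) (E : Subgroup G) (hE : Cfsg.IsComplIn E (Cfsg.sigmaCore M) M)
    (h : ∀ e ∈ E, e ≠ 1 → (∀ p : ℕ, p.Prime → p ∣ orderOf e → p ∈ Cfsg.tau1 M ∪ Cfsg.tau3 M) →
      Cfsg.sigmaCore M ⊓ Subgroup.centralizer ({e} : Set G) = ⊥) :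
    (∃ A₀ : Subgroup G, A₀ ≤ E ∧ E ≤ Subgroup.normalizer (A₀ : Set G) ∧ IsMulCommutative A₀ ∧
        ∀ x ∈ Cfsg.sigmaCore M, x ≠ 1 → E ⊓ Subgroup.centralizer ({x} : Set G) ≤ A₀) ∧
      ∃ E₀ : Subgroup G, E₀ ≤ E ∧ Monoid.exponent E₀ = Monoid.exponent E ∧
        ∀ e ∈ E₀, e ≠ 1 → Cfsg.sigmaCore M ⊓ Subgroup.centralizer ({e} : Set G) = ⊥ := by
  by_cases hna : ∃ (p : ℕ) (_ : Fact p.Prime), p ∈ Cfsg.tau2 M ∧
      ∀ S : Sylow p G, ¬ IsMulCommutative (S : Subgroup G)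
  · obtain ⟨p, hp, hp2, hS⟩ := hna
    obtain ⟨A, hAE, s⟩ := OddLocal.TauTwo.exists_setup_in_compl hG hM hE hp2
    exact OddLocal.TauTwo.frobenius_nonabelian s hE hAE h hp2 hS
  · push Not at hna
    exact OddLocal.TauTwo.frobenius_abelian hG hM hE h
      (OddLocal.TauTwo.abelianTau2_of_forall hG hM hE fun q hqf hq => hna q hqf hq)

end Cfsg.Agent.S1421
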