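import Cfsg.Statements.S1496
import Cfsg.Agent.Lib.Solv.Coprime

set_option autoImplicit false
open Cfsg

namespace Cfsg.Agent.S1496

/-- Let H be a subgroup of the finite group G and g an element normalising H whose order is coprime to the order of H. Then for every h ∈ H there are x ∈ H and c ∈ H commuting with g such that x * (h * g) * x⁻¹ = c * g. -/
theorem result {G : Type*} [Group G] [Finite G] (H : Subgroup G) (g : G) (hg : g ∈ Subgroup.normalizer (H : Set G)) (hcop : Nat.Coprime (orderOf g) (Nat.card H)) (h : G) (hh : h ∈ H) : ∃ x ∈ H, ∃ c ∈ H, c * g = g * c ∧ x * (h * g) * x⁻¹ = c * g := by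
  classical
  set m := orderOf g with hm
  set n := Nat.card H with hn
  have hnorm : Subgroup.zpowers g ≤ Subgroup.normalizer (H : Set G) := by
    rwa [Subgroup.zpowers_le]
  -- powers of the coset element
  have hpow : ∀ k : ℕ, ∃ h' ∈ H, (h * g) ^ k = h' * g ^ k := by
    intro k
    induction k with
    | zero => exact ⟨1, H.one_mem, by simp⟩
    | succ k ih =>
      obtain ⟨h', hh', e⟩ := ih
      refine ⟨h' * (g ^ k * h * (g ^ k)⁻¹), H.mul_mem hh'
        (Cfsg.Agent.Solv.conj_mem_of_mem_normalizer ((Subgroup.normalizer _).pow_mem hg k) hh), ?_⟩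
      rw [pow_succ, e, pow_succ g]; group
  obtain ⟨e, he1, he0⟩ := Nat.chineseRemainder hcop 1 0
  obtain ⟨h1, hh1, e1⟩ := hpow e
  have hge : g ^ e = g := by
    conv_rhs => rw [← pow_one g]
    exact pow_eq_pow_iff_modEq.2 he1
  rw [hge] at e1
  set y := (h * g) ^ e with hy
  have hym : y ^ m = 1 := by
    obtain ⟨h2, hh2, e2⟩ := hpow m
    rw [hm, pow_orderOf_eq_one, mul_one] at e2
    obtain ⟨k, hk⟩ := (Nat.modEq_zero_iff_dvd).1 he0
    rw [hy, ← pow_mul, mul_comm e m, pow_mul, e2, hk, pow_mul]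
    have : h2 ^ n = 1 := by
      have := pow_card_eq_one' (G := H) (x := ⟨h2, hh2⟩)
      simpa only [SubgroupClass.coe_pow, OneMemClass.coe_one] using congrArg Subtype.val this
    rw [this, one_pow]
  have hordy : orderOf y = m := by
    refine Nat.dvd_antisymm (orderOf_dvd_of_pow_eq_one hym) ?_
    have key : ∀ k : ℕ, ∃ h' ∈ H, y ^ k = h' * g ^ k := by
      intro k
      induction k with
      | zero => exact ⟨1, H.one_mem, by simp⟩
      | succ k ih =>
        obtain ⟨h', hh', e'⟩ := ih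
        refine ⟨h' * (g ^ k * h1 * (g ^ k)⁻¹), H.mul_mem hh'
          (Cfsg.Agent.Solv.conj_mem_of_mem_normalizer ((Subgroup.normalizer _).pow_mem hg k) hh1), ?_⟩
        rw [pow_succ, e', e1, pow_succ g]; group
    obtain ⟨h', hh', e'⟩ := key (orderOf y)
    rw [pow_orderOf_eq_one] at e'
    have hgH : g ^ orderOf y ∈ H := by
      rw [eq_comm, mul_eq_one_iff_eq_inv] at e'
      simpa [e'] using hh'
    have : g ^ orderOf y = 1 := by
      have h2 : orderOf (g ^ orderOf y) ∣ n := by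
        rw [← Subgroup.orderOf_mk _ hgH]; exact orderOf_dvd_natCard _
      exact orderOf_eq_one_iff.1 (Nat.eq_one_of_dvd_coprimes hcop (orderOf_pow_dvd _) h2)
    exact orderOf_dvd_of_pow_eq_one this
  have hyN : Subgroup.zpowers y ≤ Subgroup.normalizer (H : Set G) := by
    rw [Subgroup.zpowers_le, e1]
    exact (Subgroup.normalizer _).mul_mem (Subgroup.le_normalizer hh1) hg
  obtain ⟨x, hxH, hxe⟩ := Cfsg.Agent.Solv.sz_conj_rel H (Subgroup.zpowers y) (Subgroup.zpowers g)
    hyN (by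
      rw [Subgroup.zpowers_le]
      have : h1⁻¹ * y ∈ H ⊔ Subgroup.zpowers y :=
        mul_mem (Subgroup.mem_sup_left (inv_mem hh1)) (Subgroup.mem_sup_right (Subgroup.mem_zpowers y))
      simpa [e1] using this)
    (by rw [Nat.card_zpowers, hordy]; exact hcop.symm)
    (by rw [Nat.card_zpowers, Nat.card_zpowers, hordy])
    (Or.inr (Group.isSolvable_of_comm (fun a b => Subtype.ext (by
      obtain ⟨i, hi⟩ := Subgroup.mem_zpowers_iff.1 a.2
      obtain ⟨j, hj⟩ := Subgroup.mem_zpowers_iff.1 b.2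
      simp only [Subgroup.coe_mul, ← hi, ← hj, ← zpow_add, add_comm]))))
  have hxyg : x * y * x⁻¹ = g := by
    have hz : x * y * x⁻¹ ∈ Subgroup.zpowers g := by
      rw [← hxe]
      exact ⟨y, Subgroup.mem_zpowers y, by simp [MulAut.conj]⟩
    have hzH : x * y * x⁻¹ * g⁻¹ ∈ H := by
      rw [show x * y * x⁻¹ * g⁻¹ = x * h1 * (g * x⁻¹ * g⁻¹) by rw [e1]; group]
      exact mul_mem (mul_mem hxH hh1) (Cfsg.Agent.Solv.conj_mem_of_mem_normalizer hg (inv_mem hxH))
    have h3 : x * y * x⁻¹ * g⁻¹ ∈ Subgroup.zpowers g :=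
      mul_mem hz (inv_mem (Subgroup.mem_zpowers g))
    have o1 : orderOf (x * y * x⁻¹ * g⁻¹) ∣ m := by
      rw [hm, ← Nat.card_zpowers g, ← Subgroup.orderOf_mk _ h3]; exact orderOf_dvd_natCard _
    have o2 : orderOf (x * y * x⁻¹ * g⁻¹) ∣ n := by
      rw [← Subgroup.orderOf_mk _ hzH]; exact orderOf_dvd_natCard _
    exact mul_inv_eq_one.1 (orderOf_eq_one_iff.1 (Nat.eq_one_of_dvd_coprimes hcop o1 o2))
  refine ⟨x, hxH, x * (h * g) * x⁻¹ * g⁻¹, ?_, ?_, by group⟩
  · rw [show x * (h * g) * x⁻¹ * g⁻¹ = x * h * (g * x⁻¹ * g⁻¹) by group]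
    exact mul_mem (mul_mem hxH hh) (Cfsg.Agent.Solv.conj_mem_of_mem_normalizer hg (inv_mem hxH))
  · set z := x * (h * g) * x⁻¹ with hz
    have hze : z ^ e = g := by rw [hz, conj_pow, ← hy, hxyg]
    have : z * g = g * z := by rw [← hze]; exact Commute.self_pow z e
    calc z * g⁻¹ * g = z := by group
      _ = g * (g⁻¹ * z) := by group
      _ = g * (z * g⁻¹) := by
          congr 1
          exact ((Commute.inv_right (show Commute z g from this)).eq).symm

end Cfsg.Agent.S1496
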