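import Cfsg.Statements.S1488
import Cfsg.Agent.Lib.Char.Inflate
import Cfsg.Agent.Lib.Char.Induction

set_option autoImplicit false
open Cfsg
open scoped ComplexConjugate

namespace Cfsg.Agent.S1488

/-- Let A be a normal subgroup of the finite group G contained in the subgroup H, let θ be a function on H and θ₁ a function on the image of H in G ⧸ A whose composite with the projection is θ. Then the function induced from θ₁ to G ⧸ A, composed with the projection G → G ⧸ A, equals the function induced from θ to G. -/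
theorem result {G : Type*} [Group G] [Fintype G] (A H : Subgroup G) [A.Normal] (hAH : A ≤ H) [Fintype (G ⧸ A)] [Fintype ↥(H.map (QuotientGroup.mk' A))] (θ : H → ℂ) (θ₁ : ↥(H.map (QuotientGroup.mk' A)) → ℂ) (hθ : ∀ x : H, θ₁ ⟨QuotientGroup.mk' A x, Subgroup.mem_map_of_mem _ x.2⟩ = θ x) (g : G) : Cfsg.indFun (H.map (QuotientGroup.mk' A)) θ₁ (QuotientGroup.mk' A g) = Cfsg.indFun H θ g := by
  classical
  have hf : ∀ z : G, Cfsg.extendByZero (H.map (QuotientGroup.mk' A)) θ₁ ((QuotientGroup.mk' A) z) = Cfsg.extendByZero H θ z := by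
    intro z
    by_cases hz : z ∈ H
    · rw [Cfsg.Agent.Char.extendByZero_mem H θ hz,
        Cfsg.Agent.Char.extendByZero_mem (H.map (QuotientGroup.mk' A)) θ₁ (Subgroup.mem_map_of_mem (QuotientGroup.mk' A) hz)]
      exact hθ ⟨z, hz⟩
    · rw [Cfsg.Agent.Char.extendByZero_not_mem H θ hz, Cfsg.Agent.Char.extendByZero_not_mem (H.map (QuotientGroup.mk' A)) θ₁]
      rintro ⟨y, hy, e⟩
      apply hz
      have : y⁻¹ * z ∈ A := QuotientGroup.eq.1 e
      simpa using H.mul_mem hy (hAH this)
  simp only [Cfsg.indFun]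
  have hsum : ∑ x : G, Cfsg.extendByZero H θ (x⁻¹ * g * x) =
      (Nat.card A : ℂ) * ∑ q : G ⧸ A, Cfsg.extendByZero (H.map (QuotientGroup.mk' A)) θ₁ (q⁻¹ * (QuotientGroup.mk' A) g * q) := by
    rw [← Cfsg.Agent.Char.sum_comp_mk A (fun q => Cfsg.extendByZero (H.map (QuotientGroup.mk' A)) θ₁ (q⁻¹ * (QuotientGroup.mk' A) g * q))]
    refine Finset.sum_congr rfl fun x _ => ?_
    rw [← hf]
    rfl
  have hcard : Nat.card H = Nat.card (H.map (QuotientGroup.mk' A)) * Nat.card A := by
    have h := ((QuotientGroup.mk' A).comp H.subtype).ker.card_mul_index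
    rw [Subgroup.index_ker, MonoidHom.range_comp, Subgroup.range_subtype] at h
    have hk : ((QuotientGroup.mk' A).comp H.subtype).ker = A.subgroupOf H := by
      ext a; simp [Subgroup.mem_subgroupOf]
    rw [hk, Nat.card_congr (Subgroup.subgroupOfEquivOfLe hAH).toEquiv] at h
    rw [mul_comm, h]
  rw [hsum, hcard, Nat.cast_mul, mul_inv]
  have hA : (Nat.card A : ℂ) ≠ 0 := Nat.cast_ne_zero.2 Nat.card_pos.ne'
  field_simp

end Cfsg.Agent.S1488
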