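import Cfsg.Statements.S0887
import Cfsg.Agent.Lib.Char.ProjRep

set_option autoImplicit false
open Cfsg
open scoped ComplexConjugate

namespace Cfsg.Agent.S0887

/-- Let N be a normal subgroup of the finite group G, χ an irreducible character of G and ϑ an irreducible character of N having nonzero inner product with the restriction of χ. If χ 1 = c and ϑ 1 = d as natural numbers, then d divides c and c / d divides the index of N. -/
theorem result {G : Type*} [Group G] [Fintype G] (N : Subgroup G) [N.Normal] [Fintype N] (χ : G → ℂ) (hχ : Cfsg.IsIrrCharacter G χ) (ϑ : N → ℂ) (hϑ : Cfsg.IsIrrCharacter N ϑ) (hcon : Cfsg.classInner (fun n : N => χ n) ϑ ≠ 0) (c d : ℕ) (hc : χ 1 = c) (hd : ϑ 1 = d) : d ∣ c ∧ c / d ∣ N.index := by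
  classical
  obtain ⟨T, ψ, e, hNT, hψ, hind, he, hT, hval, hm⟩ :=
    Cfsg.Agent.Char.exists_correspondent hχ N ⟨ϑ, hϑ⟩ hcon
  haveI : (N.subgroupOf T).Normal := Subgroup.Normal.comap inferInstance _
  let f : N.subgroupOf T ≃* N := Subgroup.subgroupOfEquivOfLe hNT
  have hθT : Cfsg.IsIrrCharacter (N.subgroupOf T) (fun x => ϑ (f x)) :=
    Cfsg.Agent.Char.isIrrCharacter_comp_equiv f hϑ
  have hdvd : e ∣ (N.subgroupOf T).index :=
    Cfsg.Agent.Char.invariant_mult_dvd_index hψ hθT (fun x => hval (f x))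
  have hψ1 : ψ 1 = (e : ℂ) * (d : ℂ) := by
    have := hval 1
    rw [map_one] at this
    rw [← hd]
    exact this
  have hc' : c = T.index * e * d := by
    have h2 := congrFun hind 1
    rw [Cfsg.Agent.Char.indFun_one, hψ1, hc, ← mul_assoc] at h2
    exact_mod_cast h2
  have hd0 : d ≠ 0 := fun h0 => Cfsg.Agent.Char.irr_one_ne_zero hϑ (by rw [hd, h0, Nat.cast_zero])
  refine ⟨⟨T.index * e, by rw [hc', mul_comm]⟩, ?_⟩
  rw [hc', Nat.mul_div_cancel _ (Nat.pos_of_ne_zero hd0), ← Subgroup.relIndex_mul_index hNT,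
    mul_comm _ T.index]
  exact Nat.mul_dvd_mul_left _ hdvd

end Cfsg.Agent.S0887
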