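import Cfsg.Statements.S0867
import Cfsg.Agent.Lib.Char.Coprime

set_option autoImplicit false
open Cfsg
open scoped ComplexConjugate

namespace Cfsg.Agent.S0867

/-- Let N be a normal subgroup of the finite group G and ϑ an irreducible character of N of degree d, invariant under conjugation by G, such that the index of N is coprime to the product of d and the determinantal order of ϑ. Then there is an irreducible character χ of G restricting to ϑ whose determinantal order equals that of ϑ, and χ is the only irreducible character of G restricting to ϑ whose determinantal order is coprime to the index of N. -/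
theorem result {G : Type*} [Group G] [Finite G] (N : Subgroup G) [hN : N.Normal] (ϑ : N → ℂ) (hϑ : Cfsg.IsIrrCharacter N ϑ) (hinv : ∀ (g : G) (n : N), ϑ ⟨g * n * g⁻¹, hN.conj_mem (n : G) n.2 g⟩ = ϑ n) (d : ℕ) (hd : ϑ 1 = d) (hcop : Nat.Coprime N.index (Cfsg.detOrder ϑ * d)) : ∃ χ : G → ℂ, (Cfsg.IsIrrCharacter G χ ∧ (∀ n : N, χ n = ϑ n) ∧ Cfsg.detOrder χ = Cfsg.detOrder ϑ) ∧ ∀ χ' : G → ℂ, Cfsg.IsIrrCharacter G χ' → (∀ n : N, χ' n = ϑ n) → Nat.Coprime N.index (Cfsg.detOrder χ') → χ' = χ := by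
  have hϑc := Cfsg.Agent.Char.irr_isCharacter hϑ
  have hinv' : ∀ (g : G) (n : N), ϑ (MulAut.conjNormal g n) = ϑ n := fun g n => hinv g n
  obtain ⟨a, σ, hσ⟩ := id hϑc
  set c := Cfsg.Agent.Char.detHom σ with hc
  have hdet : Cfsg.detChar ϑ = fun n => (c n : ℂ) := Cfsg.Agent.Char.detChar_eq_hom σ hσ
  have ho : Cfsg.detOrder ϑ = orderOf c := Cfsg.Agent.Char.detOrder_eq σ hσ
  obtain ⟨μ, hμ, hμo⟩ := Cfsg.Agent.Char.exists_linear_extension_coprime N c
    (fun g n => Units.ext (by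
      have := Cfsg.Agent.Char.detChar_conj_inv N hϑc hinv' g n
      rw [hdet] at this
      exact this)) (ho ▸ hcop.coprime_mul_right_right)
  have hμN : ∀ n : N, (μ (n : G) : ℂ) = Cfsg.detChar ϑ n := fun n => by rw [hdet, hμ]
  have hcd : N.index.Coprime d := hcop.coprime_mul_left_right
  obtain ⟨η, hη, hηN⟩ := Cfsg.Agent.Char.exists_extension_of_det_extension N hϑ hinv' d hd hcd μ hμN
  obtain ⟨χ, ⟨hχ, hχN, hχdet⟩, huniq⟩ :=
    Cfsg.Agent.Char.existsUnique_extension_det N hϑ d hd hcd hη hηN μ hμN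
  refine ⟨χ, ⟨hχ, hχN, ?_⟩, fun χ' hχ' hres' hcop' => huniq χ' ⟨hχ', hres', ?_⟩⟩
  · rw [ho, Cfsg.detOrder, hχdet, Cfsg.Agent.Char.orderOf_coe_hom, hμo]
  · obtain ⟨b, ρ, hρ⟩ := Cfsg.Agent.Char.irr_isCharacter hχ'
    rw [Cfsg.Agent.Char.detOrder_eq ρ hρ] at hcop'
    rw [Cfsg.Agent.Char.detChar_eq_hom ρ hρ]
    rw [Cfsg.Agent.Char.linear_extension_unique N (μ := μ) (μ' := Cfsg.Agent.Char.detHom ρ)
      (fun z => Units.ext (by
        rw [hμN, ← Cfsg.Agent.Char.detChar_restrict N (Cfsg.Agent.Char.irr_isCharacter hχ') hres',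
          Cfsg.Agent.Char.detChar_eq_hom ρ hρ]))
      (hμo ▸ ho ▸ hcop.coprime_mul_right_right) hcop']

end Cfsg.Agent.S0867
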