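import Cfsg.Statements.S4456
import Cfsg.Agent.Lib.Char.ThompsonDegree

set_option autoImplicit false
open Cfsg
open scoped ComplexConjugate

namespace Cfsg.Agent.S4456

/-- Let p be a prime and G a finite group such that p divides the degree of every irreducible character of G of degree greater than one. Then G has a normal p-complement: a normal subgroup of order prime to p whose index is a power of p. -/
theorem result {G : Type*} [Group G] [Finite G] (p : ℕ) (hp : p.Prime) (hdeg : ∀ χ : Cfsg.IrrCharacter G, Cfsg.charDegree (χ : G → ℂ) ≠ 1 → p ∣ Cfsg.charDegree (χ : G → ℂ)) : ∃ N : Subgroup G, N.Normal ∧ (Nat.card N).Coprime p ∧ ∃ k : ℕ, N.index = p ^ k := by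
  classical
  haveI := Fintype.ofFinite G
  haveI : Fact p.Prime := ⟨hp⟩
  haveI := Fintype.ofFinite (Cfsg.pResidual p G)
  haveI : Finite (G →* ℂˣ) := by
    rw [Cfsg.Agent.Char.linearEquiv.finite_iff]
    infer_instance
  refine ⟨Cfsg.pResidual p G, inferInstance, ?_,
    IsPGroup.iff_card.1 (Cfsg.Agent.Fusion.isPGroup_quotient_pResidual (G := G) (p := p))⟩
  have h := Cfsg.Agent.Char.card_pResidual_modEq (G := G) (p := p)
  obtain ⟨a, m, hm, hAm⟩ := Nat.exists_eq_pow_mul_and_not_dvd (Nat.card_pos (α := G →* ℂˣ)).ne' p hp.ne_one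
  -- only linear characters occur
  have hlin : ∀ χ : Cfsg.IrrCharacter G, ¬ p ∣ Cfsg.charDegree (χ : G → ℂ) → Cfsg.charDegree (χ : G → ℂ) = 1 :=
    fun χ hχ => by_contra fun hne => hχ (hdeg χ hne)
  have hdet : ∀ l : G →* ℂˣ, Cfsg.detOrder (fun g => (l g : ℂ)) = orderOf l := fun l => by
    obtain ⟨n, ρ, hρ⟩ := Cfsg.Agent.Char.isCharacter_linear l
    obtain rfl : n = 1 := by
      have := Cfsg.Agent.Char.char_one_eq_dim ρ hρ
      simp only [map_one, Units.val_one] at this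
      exact_mod_cast this.symm
    rw [Cfsg.Agent.Char.detOrder_eq ρ hρ]
    congr 1
    refine MonoidHom.ext fun g => Units.ext ?_
    rw [Cfsg.Agent.Char.detHom_apply, ← LinearMap.det_toMatrix', Matrix.det_fin_one, ← congrFun hρ g,
      Representation.character, LinearMap.trace_eq_matrix_trace ℂ (Pi.basisFun ℂ (Fin 1)),
      LinearMap.toMatrix_eq_toMatrix']
    simp [Matrix.trace]
  let W : Subgroup (G →* ℂˣ) :=
    { carrier := {l | ∀ g, l g ^ m = 1}
      one_mem' := fun g => by simp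
      mul_mem' := fun {a b} ha hb g => by rw [MonoidHom.mul_apply, mul_pow, ha g, hb g, one_mul]
      inv_mem' := fun {a} ha g => by rw [MonoidHom.inv_apply, inv_pow, ha g, inv_one] }
  have hWmem : ∀ l : G →* ℂˣ, l ∈ W ↔ ¬ p ∣ orderOf l := fun l => by
    rw [show l ∈ W ↔ orderOf l ∣ m from
      ⟨fun h => orderOf_dvd_of_pow_eq_one (x := l) (MonoidHom.ext fun g => by
          rw [MonoidHom.pow_apply, h g, MonoidHom.one_apply]),
        fun ⟨q, hq⟩ g => by
          rw [hq, pow_mul, ← MonoidHom.pow_apply, pow_orderOf_eq_one, MonoidHom.one_apply, one_pow]⟩]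
    refine ⟨fun hd hpd => hm (hpd.trans hd), fun hpd => ?_⟩
    have h1 : orderOf l ∣ p ^ a * m := hAm ▸ orderOf_dvd_natCard l
    exact (Nat.Coprime.pow_right a ((Nat.Prime.coprime_iff_not_dvd hp).2 hpd).symm).dvd_of_dvd_mul_left h1
  have hsum : ∑ χ ∈ Finset.univ.filter (fun χ : Cfsg.IrrCharacter G =>
      ¬ p ∣ Cfsg.charDegree (χ : G → ℂ) ∧ ¬ p ∣ Cfsg.detOrder (χ : G → ℂ)), Cfsg.charDegree (χ : G → ℂ) ^ 2 =
      Nat.card W := by
    rw [Finset.sum_congr rfl (g := fun _ => 1) (fun χ hχ => by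
      rw [hlin χ (Finset.mem_filter.1 hχ).2.1, one_pow]), Finset.sum_const, smul_eq_mul, mul_one,
      ← Fintype.card_subtype, ← Nat.card_eq_fintype_card]
    symm
    have hone : ∀ l : G →* ℂˣ, Cfsg.charDegree (fun g => (l g : ℂ)) = 1 := fun l => by
      simp [Cfsg.charDegree]
    refine Nat.card_congr (Equiv.ofBijective (fun l : W => (⟨⟨fun g => ((l : G →* ℂˣ) g : ℂ),
      Cfsg.Agent.Char.isIrrCharacter_linear _⟩, by rw [hone]; exact hp.not_dvd_one,
      by rw [hdet]; exact (hWmem _).1 l.2⟩ : {χ : Cfsg.IrrCharacter G //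
        ¬ p ∣ Cfsg.charDegree (χ : G → ℂ) ∧ ¬ p ∣ Cfsg.detOrder (χ : G → ℂ)})) ⟨?_, ?_⟩)
    · intro l l' hll
      exact Subtype.ext (MonoidHom.ext fun g => Units.ext (congrFun (congrArg (fun x => (x.1.1 : G → ℂ)) hll) g))
    · rintro ⟨χ, hd, ho⟩
      have h1 : (χ : G → ℂ) 1 = 1 := by
        rw [Cfsg.Agent.Char.char_one_eq_deg (Cfsg.Agent.Char.irr_isCharacter χ.2)]
        rw [show Cfsg.Agent.Char.deg (χ : G → ℂ) = 1 from hlin χ hd, Nat.cast_one]
      obtain ⟨l, hl⟩ := Cfsg.Agent.Char.exists_hom_of_degree_one (Cfsg.Agent.Char.irr_isCharacter χ.2) h1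
      refine ⟨⟨l, (hWmem l).2 ?_⟩, Subtype.ext (Subtype.ext hl.symm)⟩
      rw [← hdet, ← hl]
      exact ho
  rw [hsum] at h
  rw [Nat.coprime_comm, Nat.Prime.coprime_iff_not_dvd hp]
  intro hd
  rw [(CharP.cast_eq_zero_iff (ZMod p) p _).2 hd] at h
  obtain ⟨x, hx⟩ := exists_prime_orderOf_dvd_card' p ((CharP.cast_eq_zero_iff (ZMod p) p _).1 h.symm)
  exact (hWmem x).1 x.2 (by rw [← Subgroup.orderOf_coe] at hx; rw [hx])

end Cfsg.Agent.S4456
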