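import Cfsg.Statements.S0855
import Cfsg.Agent.S4456
import Cfsg.Agent.S0887
import Cfsg.Agent.Lib.Char.DegreeDvd
import Cfsg.Agent.Lib.Char.Linear

set_option autoImplicit false
open Cfsg Cfsg.Agent.Char
open scoped ComplexConjugate

namespace Cfsg.Agent.S0855

/-- For a finite group G and a prime p: every irreducible character of G has degree a power of p if and only if G has an abelian normal subgroup whose order is prime to p and whose index is a power of p. -/
theorem result {G : Type*} [Group G] [Finite G] (p : ℕ) (hp : p.Prime) : (∀ χ : Cfsg.IrrCharacter G, ∃ k : ℕ, (χ : G → ℂ) 1 = (p : ℂ) ^ k) ↔ ∃ A : Subgroup G, A.Normal ∧ (∀ a ∈ A, ∀ b ∈ A, a * b = b * a) ∧ Nat.Coprime (Nat.card A) p ∧ ∃ k : ℕ, A.index = p ^ k := by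
  haveI := Fintype.ofFinite G
  haveI := Fact.mk hp
  constructor
  · intro h
    obtain ⟨N, hNn, hNc, k, hk⟩ := Cfsg.Agent.S4456.result (G := G) p hp fun χ hχ => by
      obtain ⟨j, hj⟩ := h χ
      have hd : charDegree (χ : G → ℂ) = p ^ j := by
        apply Nat.cast_injective (R := ℂ)
        rw [charDegree_eq_deg, ← char_one_eq_deg (irr_isCharacter χ.2), hj, Nat.cast_pow]
      rcases Nat.eq_zero_or_pos j with rfl | hj0
      · exact absurd (hd.trans (pow_zero p)) hχ
      · rw [hd]; exact dvd_pow_self p hj0.ne'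
    haveI := Fintype.ofFinite N
    have hlin : ∀ θ : IrrCharacter N, (θ : N → ℂ) 1 = 1 := by
      intro θ
      obtain ⟨χ, hχ⟩ : ∃ χ : IrrCharacter G,
          classInner (indFun N (θ : N → ℂ)) (χ : G → ℂ) ≠ 0 := by
        by_contra hno
        push Not at hno
        have hi := classFun_expansion (isClassFunction_indFun N (θ : N → ℂ))
        simp only [hno, zero_smul, Finset.sum_const_zero] at hi
        have h1 := congrFun hi 1
        rw [indFun_one, Pi.zero_apply, mul_eq_zero] at h1
        rcases h1 with h1 | h1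
        · exact Subgroup.index_ne_zero_of_finite (Nat.cast_eq_zero.mp h1)
        · exact irr_one_ne_zero θ.2 h1
      obtain ⟨j, hj⟩ := h χ
      have hdeg : deg (χ : G → ℂ) = p ^ j := by
        apply Nat.cast_injective (R := ℂ)
        rw [← char_one_eq_deg (irr_isCharacter χ.2), hj, Nat.cast_pow]
      have hres : classInner (fun n : N => (χ : G → ℂ) n) (θ : N → ℂ) ≠ 0 := fun h0 => hχ (by
        rw [frobenius N _ (isClassFunction_character (irr_isCharacter χ.2)), ← classInner_symm, h0,
          map_zero])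
      obtain ⟨h1, -⟩ := Cfsg.Agent.S0887.result N (χ : G → ℂ) χ.2 (θ : N → ℂ) θ.2 hres _ _
        (char_one_eq_deg (irr_isCharacter χ.2)) (char_one_eq_deg (irr_isCharacter θ.2))
      rw [hdeg] at h1
      have h2 : deg (θ : N → ℂ) = 1 :=
        Nat.eq_one_of_dvd_coprimes (Nat.Coprime.pow_left j hNc.symm) h1 (deg_dvd_card θ.2)
      rw [char_one_eq_deg (irr_isCharacter θ.2), h2, Nat.cast_one]
    refine ⟨N, hNn, fun a ha b hb => ?_, hNc, k, hk⟩
    exact congrArg Subtype.val (forall_linear_iff_comm.mpr hlin ⟨a, ha⟩ ⟨b, hb⟩)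
  · rintro ⟨A, hA, hab, -, k, hk⟩ χ
    have h := deg_dvd_index_abelian_normal χ.2 A fun a b => Subtype.ext (hab a a.2 b b.2)
    rw [hk] at h
    obtain ⟨j, -, hj⟩ := (Nat.dvd_prime_pow hp).mp h
    exact ⟨j, by rw [char_one_eq_deg (irr_isCharacter χ.2), hj, Nat.cast_pow]⟩

end Cfsg.Agent.S0855
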