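import Cfsg.Statements.S1363
import Cfsg.Agent.Lib.OddLocal.KappaNeighbour

set_option autoImplicit false
open Cfsg

namespace Cfsg.Agent.S1363

theorem result {G : Type*} [Group G] [Finite G] (hG : Cfsg.IsMinSimpleOddOrder G)
    (M : Subgroup G) (hM : IsCoatom M) (K U : Subgroup G) (hKU : Cfsg.IsSigmaDecomposition M K U) (hK1 : K ≠ ⊥) :
    IsMulCommutative U ∧ ¬ Subgroup.normalizer (U : Set G) ≤ M := by
  have hF := OddLocal.Kappa.frame_of_decomp hG hM hKU hK1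
  refine ⟨hF.abelian, fun hle => ?_⟩
  by_cases hU : U = ⊥
  · subst hU
    refine hM.1 (top_le_iff.1 (le_trans (fun x _ => Subgroup.mem_normalizer_iff.2 fun y => ?_) hle))
    rw [Subgroup.mem_bot, Subgroup.mem_bot, conj_eq_one_iff]
  obtain ⟨N, d⟩ := OddLocal.Kappa.exists_duo hG hM hKU hK1 hU
  obtain ⟨r, hr, hrd⟩ := Nat.exists_prime_and_dvd fun h => hU (Subgroup.card_eq_one.1 h)
  haveI := Fact.mk hr
  obtain ⟨R, hR⟩ := Fusion.exists_sylIn (p := r) U
  have hR1 : R ≠ ⊥ := fun h => hR.not_dvd (by rw [h, Subgroup.relIndex_bot_left]; exact hrd)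
  obtain ⟨H, hH, hNR⟩ := OddLocal.Uniq.exists_coatom _
    (OddLocal.Sig.normalizer_pgroup_ne_top hG hR.isPGroup hR1)
  exact (d.neighbour hR hR1 hH hNR).2.2.2.1 (inf_le_right.trans hle)

end Cfsg.Agent.S1363
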