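import Cfsg.Statements.S1382
import Cfsg.Agent.Lib.OddLocal.KappaTypeData
import Cfsg.Agent.S1363

set_option autoImplicit false
open Cfsg

namespace Cfsg.Agent.S1382

theorem result {G : Type*} [Group G] [Finite G] (hG : Cfsg.IsMinSimpleOddOrder G)
    (M : Subgroup G) (hM : IsCoatom M) (K U : Subgroup G) (hKU : Cfsg.IsSigmaDecomposition M K U) :
    (Cfsg.IsOfTypeIII M ∨ Cfsg.IsOfTypeIV M) ↔ (K ≠ ⊥ ∧ U = ⊥ ∧ Cfsg.fittingHallOf M ≠ Cfsg.sigmaCore M) := by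
  constructor
  · intro h
    obtain ⟨W₁, D, W₂, hP, hD1, hN⟩ : ∃ W₁ D W₂ : Subgroup G, Cfsg.IsTypePWith M W₁ D W₂ ∧ D ≠ ⊥ ∧
        Subgroup.normalizer (D : Set G) ≤ M := by
      rcases h with ⟨W₁, D, W₂, hP, hD1, -, -, -, hN⟩ | ⟨W₁, D, W₂, hP, hD1, -, -, -, hN⟩ <;>
        exact ⟨W₁, D, W₂, hP, hD1, hN⟩
    have hK1 := Cfsg.Agent.OddLocal.Kappa.K_ne_bot_of_kappa hKU
      (Cfsg.Agent.OddLocal.Kappa.kappa_nonempty_of_typeP hG hM hP)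
    have hU : U = ⊥ := by
      by_contra hU
      have he := (Cfsg.Agent.OddLocal.Support.fittingHallOf_eq hG hM
        (Cfsg.Agent.OddLocal.Kappa.core_nilpotent_of_U hG hM hKU hU)).symm
      obtain ⟨m, hm, hmU⟩ := Cfsg.Agent.OddLocal.Kappa.compl_conj_U hG hM hKU hK1 (D := D) (he ▸ hP.U_compl)
      refine (Cfsg.Agent.S1363.result hG M hM K U hKU hK1).2 ?_
      rw [← hmU, ← Cfsg.Agent.Fusion.cj_normalizer]
      exact (Cfsg.Agent.Fusion.cj_mono hN m).trans (Cfsg.Agent.Fusion.cj_eq_self (Subgroup.le_normalizer hm)).le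
    refine ⟨hK1, hU, fun he => hD1 (eq_bot_iff.2 fun x hx => hP.U_compl.2.2.1.le ⟨?_, hx⟩)⟩
    have h1 := hP.U_compl.2.1 hx
    rwa [Cfsg.Agent.OddLocal.Kappa.derived_eq hG hM hKU hK1, hU, bot_sup_eq, ← he] at h1
  · rintro ⟨hK1, hU, hne⟩
    obtain ⟨D, hP, -⟩ := Cfsg.Agent.OddLocal.Kappa.exists_typeP hG hM hKU hK1
    obtain ⟨-, -, Q, D₀, H₁, hS⟩ := Cfsg.Agent.OddLocal.Kappa.exists_split hG hM hKU hne
    have hD1 : D ≠ ⊥ := fun h =>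
      hne (Cfsg.Agent.OddLocal.Kappa.U_bot_of_compl_bot hG hM hKU hK1 hP.U_compl h).2
    have hN := Cfsg.Agent.OddLocal.Kappa.normalizer_compl_le hG hM hKU hK1 hU hP.U_nilpotent hP.U_compl hD1
    have hp := (hS.facts hG hM hKU hK1 hne).1
    have hti := hS.ti hG hM hKU hK1 hne
    by_cases hab : IsMulCommutative D
    · exact Or.inl ⟨K, D, _, hP, hD1, hp, hti, hab, hN⟩
    · exact Or.inr ⟨K, D, _, hP, hD1, hp, hti, hab, hN⟩

end Cfsg.Agent.S1382
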