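import Cfsg.Statements.S1381
import Cfsg.Agent.Lib.OddLocal.KappaTypeF

set_option autoImplicit false
open Cfsg

namespace Cfsg.Agent.S1381

theorem result {G : Type*} [Group G] [Finite G] (hG : Cfsg.IsMinSimpleOddOrder G)
    (M : Subgroup G) (hM : IsCoatom M) (K U : Subgroup G) (hKU : Cfsg.IsSigmaDecomposition M K U) :
    Cfsg.IsOfTypeII M ↔ (K ≠ ⊥ ∧ U ≠ ⊥) := by
  exact ⟨Cfsg.Agent.OddLocal.Kappa.typeII_forward hG hM hKU,
    fun h => Cfsg.Agent.OddLocal.Kappa.typeII_of_factor hG hM hKU h.1 h.2⟩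

end Cfsg.Agent.S1381
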