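import Cfsg.Statements.S0018
import Cfsg.Agent.Lib.Solv.Cores
import Cfsg.Agent.Lib.Fusion.Cores

set_option autoImplicit false
open Cfsg

open scoped Pointwise commutatorElement

namespace Cfsg.Agent.S0018

/-- A finite solvable group whose Sylow p-subgroups are abelian has p-length one: a Sylow p-subgroup together with the largest normal subgroup of order prime to p generates a normal subgroup. -/
theorem result {G : Type*} [Group G] [Finite G] [Group.IsSolvable G]
    (p : ℕ) [Fact p.Prime] (P : Sylow p G) (hP : IsMulCommutative P) :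
    ((P : Subgroup G) ⊔ Cfsg.pPrimeCore p G).Normal := by
  have hN := Solv.pPrimeCore_normal (G := G) p
  set f := QuotientGroup.mk' (pPrimeCore p G) with hf
  have hsol : Group.IsSolvable (G ⧸ pPrimeCore p G) :=
    Group.isSolvable_of_surjective (QuotientGroup.mk'_surjective _)
  set P' := P.mapSurjective (QuotientGroup.mk'_surjective (pPrimeCore p G)) with hP'
  have hab : ∀ a ∈ (P : Subgroup G).map f, ∀ b ∈ (P : Subgroup G).map f, a * b = b * a := by
    rintro _ ⟨a, ha, rfl⟩ _ ⟨b, hb, rfl⟩
    rw [← map_mul, ← map_mul]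
    exact congrArg f (congrArg Subtype.val (hP.is_comm.comm ⟨a, ha⟩ ⟨b, hb⟩))
  have hn := Solv.pCore_normal (G := G ⧸ pPrimeCore p G) p
  have hOP : pCore p (G ⧸ pPrimeCore p G) ≤ (P : Subgroup G).map f := Fusion.pCore_le_sylow P'
  have hF : fittingSubgroup (G ⧸ pPrimeCore p G) ≤ pCore p (G ⧸ pPrimeCore p G) := by
    rw [Solv.fitting_eq_iSup_pCore]
    refine iSup_le fun q => ?_
    by_cases hq : (q : ℕ) = p
    · rw [hq]
    · have := Fact.mk q.2
      have := Solv.pCore_normal (G := G ⧸ pPrimeCore p G) (q : ℕ)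
      refine le_trans ?_ (bot_le)
      rw [← Fusion.pPrimeCore_quotient_eq_bot (G := G) (p := p)]
      refine Solv.normal_le_pPrimeCore ?_
      obtain ⟨k, hk⟩ := IsPGroup.iff_card.1 (Solv.pCore_isPGroup (G := G ⧸ pPrimeCore p G) (q : ℕ))
      rw [hk]
      exact ((Nat.coprime_primes q.2 (Fact.out : p.Prime)).2 hq).pow_left k
  have hle : (P : Subgroup G).map f ≤ fittingSubgroup (G ⧸ pPrimeCore p G) := by
    refine le_trans ?_ (Solv.centralizer_fitting_le hsol)
    intro a ha
    rw [Subgroup.mem_centralizer_iff]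
    intro b hb
    exact hab b (hOP (hF hb)) a ha
  have heq : (P : Subgroup G).map f = pCore p (G ⧸ pPrimeCore p G) :=
    le_antisymm (hle.trans hF) hOP
  have h1 : (P : Subgroup G) ⊔ pPrimeCore p G = ((P : Subgroup G).map f).comap f := by
    rw [Subgroup.comap_map_eq, hf, QuotientGroup.ker_mk']
  rw [h1, heq]
  exact hn.comap f

end Cfsg.Agent.S0018
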