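import Cfsg.Statements.S0948
import Cfsg.Agent.Lib.Char.KleinFour

set_option autoImplicit false
open Cfsg
open scoped ComplexConjugate

namespace Cfsg.Agent.S0948

/-- Let the finite group G have a Sylow 2-subgroup P that is a Klein four-group, suppose all involutions of G are conjugate, and fix a maximal ideal M of the algebraic integers containing 2. Then the principal block consists of exactly four irreducible characters, the principal character and ζ₂, ζ₃, ζ₄, and there is a sign ε such that for every involution z: ζ₂ z = 1, ζ₃ z = ε, ζ₄ z = -1; moreover ζ₂ 1 ≡ 1, ζ₃ 1 ≡ ε, ζ₄ 1 ≡ -1 (mod 4), and 1 + ζ₂ y + ε ζ₃ y - ζ₄ y = 0 for every y of odd order. -/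
theorem result {G : Type*} [Group G] [Finite G] (M : Ideal Cfsg.AlgInt) (hM : Cfsg.IsPModular 2 M) (P : Sylow 2 G) (hP : IsKleinFour (P : Subgroup G)) (hone : ∀ s t : G, orderOf s = 2 → orderOf t = 2 → IsConj s t) : ∃ ζ₂ ζ₃ ζ₄ : Cfsg.IrrCharacter G, ∃ ε : ℤ, (ε = 1 ∨ ε = -1) ∧ (ζ₂ : G → ℂ) ≠ (fun _ => 1) ∧ (ζ₃ : G → ℂ) ≠ (fun _ => 1) ∧ ζ₂ ≠ ζ₃ ∧ ζ₂ ≠ ζ₄ ∧ ζ₃ ≠ ζ₄ ∧ Cfsg.principalBlock M G = {χ : Cfsg.IrrCharacter G | (χ : G → ℂ) = (fun _ => 1) ∨ χ = ζ₂ ∨ χ = ζ₃ ∨ χ = ζ₄} ∧ (∀ z : G, orderOf z = 2 → (ζ₂ : G → ℂ) z = 1 ∧ (ζ₃ : G → ℂ) z = (ε : ℂ) ∧ (ζ₄ : G → ℂ) z = -1) ∧ (4 : ℤ) ∣ (Cfsg.charDegree (ζ₂ : G → ℂ) : ℤ) - 1 ∧ (4 : ℤ) ∣ (Cfsg.charDegree (ζ₃ : G → ℂ) : ℤ) - ε ∧ (4 : ℤ) ∣ (Cfsg.charDegree (ζ₄ : G → ℂ) : ℤ) + 1 ∧ ∀ y : G, Odd (orderOf y) → 1 + (ζ₂ : G → ℂ) y + (ε : ℂ) * (ζ₃ : G → ℂ) y - (ζ₄ : G → ℂ) y = 0 := by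
  classical
  have := Fintype.ofFinite G
  have := hP
  have hPr := Char.pmod_prime hM
  have hcard : Nat.card P = 4 := IsKleinFour.card_four
  have hexp : ∀ x : P, x * x = 1 := fun x => IsKleinFour.mul_self (G := (P : Subgroup G)) x
  obtain ⟨t, ht, ht1⟩ : ∃ t ∈ (P : Subgroup G), t ≠ 1 := by
    by_contra hcon
    push Not at hcon
    rw [(Subgroup.eq_bot_iff_forall _).2 hcon, Subgroup.card_bot] at hcard
    omega
  have ht2 : orderOf t = 2 := orderOf_eq_prime
    (by have := congrArg Subtype.val (hexp ⟨t, ht⟩); rw [← pow_two] at this; simpa using this) ht1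
  obtain ⟨z, hk, hz, hsq⟩ := Char.four_signs hM P hcard hexp hone ht ht1
  set B := Cfsg.principalBlock M G with hB
  have hblock : Cfsg.IsPBlock M B := Char.isPBlock_principalBlock M
  let one : Cfsg.IrrCharacter G := ⟨fun _ => 1, Char.isIrrCharacter_one⟩
  have hone' : one ∈ B := Char.self_mem_blockOf hPr one
  have hz1 : z one = 1 := by
    have h := hz one
    have h' : ((z one : ℤ) : ℂ) = ((1 : ℤ) : ℂ) := by rw [Int.cast_one, ← h]
    exact_mod_cast h'
  have hu : ∀ χ ∈ B, z χ = 1 ∨ z χ = -1 := fun χ hχ => sq_eq_one_iff.mp (hsq χ hχ)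
  -- orthogonality with odd elements
  have horth : ∀ y : G, Odd (orderOf y) → ∑ χ : Cfsg.IrrCharacter G with χ ∈ B, (z χ : ℂ) * (χ : G → ℂ) y = 0 := by
    intro y hy
    have h := Char.weak_orthogonality hM hblock (x := y) (y := t)
      (fun h => (Nat.not_even_iff_odd.mpr hy) (even_iff_two_dvd.mpr h)) (by rw [ht2])
    rw [Char.finsum_mem_irr] at h
    rw [← h]
    exact Finset.sum_congr rfl fun χ _ => by rw [hz χ, map_intCast, mul_comm]
  -- the three nontrivial members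
  set S := Finset.univ.filter fun χ : Cfsg.IrrCharacter G => χ ∈ B with hS
  have hScard : S.card = 4 := by
    rw [← hk, Nat.card_eq_fintype_card, Fintype.card_subtype]
  have hT : (S.erase one).card = 3 := by
    rw [Finset.card_erase_of_mem (Finset.mem_filter.mpr ⟨Finset.mem_univ _, hone'⟩), hScard]
  have hmem : ∀ χ ∈ S.erase one, χ ∈ B ∧ χ ≠ one := fun χ hχ =>
    ⟨(Finset.mem_filter.mp (Finset.mem_of_mem_erase hχ)).2, Finset.ne_of_mem_erase hχ⟩
  have hsum : (1 : ℤ) + ∑ χ ∈ S.erase one, z χ * Char.deg (χ : G → ℂ) = 0 := by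
    have h := horth 1 (by simp)
    rw [← Finset.add_sum_erase _ _ (Finset.mem_filter.mpr ⟨Finset.mem_univ _, hone'⟩ : one ∈ S), hz1] at h
    rw [Finset.sum_congr rfl (g := fun χ : Cfsg.IrrCharacter G => ((z χ * Char.deg (χ : G → ℂ) : ℤ) : ℂ))
      (fun χ _ => by rw [Char.char_one_eq_deg (Char.irr_isCharacter χ.2)]; push_cast; ring),
      ← Int.cast_sum] at h
    have h' : ((1 + ∑ χ ∈ S.erase one, z χ * Char.deg (χ : G → ℂ) : ℤ) : ℂ) = 0 := by
      rw [Int.cast_add, ← h]; simp [one, hS]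
    exact_mod_cast h'
  obtain ⟨a, ha, haz⟩ : ∃ χ ∈ S.erase one, z χ = 1 := by
    by_contra! hno
    have h : ∀ χ ∈ S.erase one, z χ * Char.deg (χ : G → ℂ) ≤ -1 := fun χ hχ => by
      rw [(hu χ (hmem χ hχ).1).resolve_left (hno χ hχ)]
      have := Char.deg_pos χ.2
      omega
    have := Finset.sum_le_card_nsmul _ _ _ h
    rw [hT] at this
    simp at this
    omega
  obtain ⟨d, hd, hdz⟩ : ∃ χ ∈ S.erase one, z χ = -1 := by
    by_contra! hno
    have : 0 ≤ ∑ χ ∈ S.erase one, z χ * Char.deg (χ : G → ℂ) := Finset.sum_nonneg fun χ hχ => by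
      rw [(hu χ (hmem χ hχ).1).resolve_right (hno χ hχ), one_mul]; exact Int.natCast_nonneg _
    omega
  have had : a ≠ d := fun h => by rw [h, hdz] at haz; norm_num at haz
  obtain ⟨c, hc⟩ : ∃ c, ((S.erase one).erase a).erase d = {c} := by
    refine Finset.card_eq_one.mp ?_
    rw [Finset.card_erase_of_mem (Finset.mem_erase.mpr ⟨had.symm, hd⟩), Finset.card_erase_of_mem ha, hT]
  have hc' : c ∈ ((S.erase one).erase a).erase d := by rw [hc]; exact Finset.mem_singleton_self c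
  simp only [Finset.mem_erase] at hc'
  obtain ⟨hcd, hca, hc1, hcS⟩ := hc'
  have hcB := (Finset.mem_filter.mp hcS).2
  have hset : ∀ χ, χ ∈ B ↔ (χ = one ∨ χ = a ∨ χ = c ∨ χ = d) := by
    intro χ
    constructor
    · intro hχ
      by_cases h1 : χ = one; · exact Or.inl h1
      by_cases h2 : χ = a; · exact Or.inr (Or.inl h2)
      by_cases h3 : χ = d; · exact Or.inr (Or.inr (Or.inr h3))
      have : χ ∈ ((S.erase one).erase a).erase d := by
        simp only [Finset.mem_erase]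
        exact ⟨h3, h2, h1, Finset.mem_filter.mpr ⟨Finset.mem_univ _, hχ⟩⟩
      rw [hc] at this
      exact Or.inr (Or.inr (Or.inl (Finset.mem_singleton.mp this)))
    · rintro (rfl | rfl | rfl | rfl)
      exacts [hone', (hmem _ ha).1, hcB, (hmem _ hd).1]
  have hne1 : ∀ χ : Cfsg.IrrCharacter G, χ ≠ one → (χ : G → ℂ) ≠ fun _ => 1 :=
    fun χ h e => h (Subtype.ext e)
  have hinv : ∀ (χ : Cfsg.IrrCharacter G) (w : G), orderOf w = 2 → (χ : G → ℂ) w = z χ := by
    intro χ w hw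
    obtain ⟨g, hg⟩ := isConj_iff.mp (hone t w ht2 hw)
    rw [← hg, Char.isClassFunction_character (Char.irr_isCharacter χ.2), hz]
  have hdvd : ∀ χ ∈ B, (4 : ℤ) ∣ (Cfsg.charDegree (χ : G → ℂ) : ℤ) - z χ := by
    intro χ hχ
    have : Fintype (P : Subgroup G) := Fintype.ofFinite _
    obtain ⟨n, hn⟩ := Char.classInner_natCast (Char.isCharacter_comp (P : Subgroup G).subtype
      (Char.irr_isCharacter χ.2)) (Char.isCharacter_one (G := (P : Subgroup G)))
    have e : Cfsg.classInner ((χ : G → ℂ) ∘ (P : Subgroup G).subtype) (fun _ => 1) =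
        ((χ : G → ℂ) 1 + 3 * z χ) / 4 := by
      simp only [Cfsg.classInner, Function.comp_apply, Subgroup.coe_subtype, map_one, mul_one]
      have e' : ∀ x ∈ (Finset.univ : Finset (P : Subgroup G)).erase 1, (χ : G → ℂ) (x : G) = (z χ : ℂ) :=
        fun x hx => hinv χ x (orderOf_eq_prime
          (by have := congrArg Subtype.val (hexp x); rw [← pow_two] at this; simpa using this)
          (fun h => Finset.ne_of_mem_erase hx (Subtype.ext h)))
      rw [← Finset.add_sum_erase _ _ (Finset.mem_univ (1 : (P : Subgroup G))), Finset.sum_congr rfl e',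
        Finset.sum_const, Finset.card_erase_of_mem (Finset.mem_univ _), Finset.card_univ,
        ← Nat.card_eq_fintype_card, show Nat.card (P : Subgroup G) = 4 from hcard]
      simp [div_eq_inv_mul]
    rw [e, Char.char_one_eq_deg (Char.irr_isCharacter χ.2), div_eq_iff (by norm_num : (4 : ℂ) ≠ 0)] at hn
    have h' : (Char.deg (χ : G → ℂ) : ℤ) + 3 * z χ = n * 4 := by exact_mod_cast hn
    rw [Char.charDegree_eq_deg]
    exact ⟨n - z χ, by linarith⟩
  refine ⟨a, c, d, z c, hu c hcB, hne1 a (hmem a ha).2, hne1 c hc1, hca.symm, had, hcd, ?_,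
    fun w hw => ⟨?_, hinv c w hw, ?_⟩, ?_, hdvd c hcB, ?_, fun y hy => ?_⟩
  · ext χ
    rw [hset, Set.mem_setOf_eq]
    exact or_congr ⟨fun h => h ▸ rfl, fun h => Subtype.ext h⟩ Iff.rfl
  · rw [hinv a w hw, haz, Int.cast_one]
  · rw [hinv d w hw, hdz, Int.cast_neg, Int.cast_one]
  · have := hdvd a (hmem a ha).1; rwa [haz] at this
  · have := hdvd d (hmem d hd).1; rwa [hdz, sub_neg_eq_add] at this
  · have h := horth y hy
    have hSset : S = {one, a, c, d} := by
      ext χ; simp [hS, hset]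
    rw [hSset, Finset.sum_insert (by simp [(hmem a ha).2.symm, hc1.symm, (hmem d hd).2.symm]),
      Finset.sum_insert (by simp [hca.symm, had]), Finset.sum_pair hcd, hz1, haz, hdz] at h
    push_cast at h
    rw [show ((one : Cfsg.IrrCharacter G) : G → ℂ) y = 1 from rfl] at h
    linear_combination h

end Cfsg.Agent.S0948
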