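import Cfsg.Statements.S0073
import Cfsg.Agent.Lib.Fusion.SmallSylow

set_option autoImplicit false
open Cfsg
open Cfsg.Agent.Fusion
open scoped commutatorElement

namespace Cfsg.Agent.S0073

/-- For a finite non-abelian simple group, either the cube of the least prime divisor of the order divides the order, or 12 does. -/
theorem result {G : Type*} [Group G] [Finite G] [IsSimpleGroup G] (hG : ∃ x y : G, x * y ≠ y * x) : (Nat.card G).minFac ^ 3 ∣ Nat.card G ∨ 12 ∣ Nat.card G := by
  obtain ⟨x₀, y₀, hxy⟩ := hG
  have : Nontrivial G := ⟨x₀, y₀, fun h => hxy (h ▸ rfl)⟩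
  have hcard : Nat.card G ≠ 1 := Finite.one_lt_card.ne'
  set p := (Nat.card G).minFac
  haveI := Fact.mk (Nat.minFac_prime hcard)
  have hp : p.Prime := Fact.out
  by_contra hcon
  push Not at hcon
  obtain ⟨h3, h12⟩ := hcon
  have hnc : ¬ Cfsg.HasNormalPComplement p G := by
    intro h
    rcases (inferInstance : (Cfsg.pResidual p G).Normal).eq_bot_or_eq_top with hb | ht
    · have hq : IsPGroup p (G ⧸ Cfsg.pResidual p G) := isPGroup_quotient_pResidual
      have hG' : IsPGroup p G := by
        intro g
        obtain ⟨k, hk⟩ := hq (QuotientGroup.mk g)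
        refine ⟨k, ?_⟩
        rw [← QuotientGroup.mk_pow, QuotientGroup.eq_one_iff, hb, Subgroup.mem_bot] at hk
        exact hk
      haveI := hG'.center_nontrivial
      have hZ : Subgroup.center G = ⊤ :=
        ((inferInstance : (Subgroup.center G).Normal).eq_bot_or_eq_top).resolve_left
          ((Subgroup.nontrivial_iff_ne_bot _).1 ‹_›)
      exact hxy ((Subgroup.mem_center_iff.1 (hZ ▸ Subgroup.mem_top y₀)) x₀)
    · have h1 := hnpc_iff.1 h
      rw [ht, Subgroup.card_top] at h1
      exact hp.ne_one (Nat.eq_one_of_dvd_coprimes h1 (Nat.minFac_dvd _) dvd_rfl)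
  obtain ⟨P⟩ : Nonempty (Sylow p G) := inferInstance
  obtain ⟨k, hk⟩ := IsPGroup.iff_card.1 P.isPGroup'
  have hPd : Nat.card (P : Subgroup G) ∣ Nat.card G := Subgroup.card_subgroup_dvd_card _
  have hk2 : k ≤ 2 := by
    by_contra hlt
    exact h3 ((pow_dvd_pow p (by omega : 3 ≤ k)).trans (hk ▸ hPd))
  rcases Nat.lt_or_ge k 2 with hk1 | hk1
  · have hcyc : IsCyclic (P : Subgroup G) := by
      interval_cases k
      · haveI : Subsingleton (P : Subgroup G) := (Nat.card_eq_one_iff_unique.1 (by simpa using hk)).1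
        exact isCyclic_of_subsingleton
      · exact isCyclic_of_prime_card (by simpa using hk)
    exact hnc (hnpc_of_normalizer_le_centralizer P (hcyc.normalizer_le_centralizer rfl))
  · have hk' : k = 2 := by omega
    subst hk'
    have hPc : IsMulCommutative (P : Subgroup G) :=
      ⟨⟨IsPGroup.commutative_of_card_eq_prime_sq hk⟩⟩
    refine hnc (hnpc_of_abelian_sylow_small P hPc fun r hr hrG hrp d hd hlt hdvd => ?_)
    rw [hk] at hd hlt hdvd
    have hpr : p < r := lt_of_le_of_ne (Nat.minFac_le_of_dvd hr.two_le hrG) (Ne.symm hrp)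
    obtain ⟨i, hi, rfl⟩ := (Nat.dvd_prime_pow hp).1 hd
    have key : r ∣ p + 1 := by
      have e : ¬ r ∣ p - 1 := fun h => by
        have := Nat.le_of_dvd (by have := hp.two_le; omega) h
        omega
      interval_cases i
      · have e2 : p ^ 2 - p ^ 0 = (p + 1) * (p - 1) := by
          simpa using Nat.sq_sub_sq p 1
        rw [e2] at hdvd
        exact (hr.dvd_mul.1 hdvd).resolve_right e
      · have e2 : p ^ 2 - p ^ 1 = p * (p - 1) := by rw [pow_two, pow_one, Nat.mul_sub_one]
        rw [e2] at hdvd
        rcases hr.dvd_mul.1 hdvd with h | h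
        · exact absurd ((Nat.prime_dvd_prime_iff_eq hr hp).1 h) hrp
        · exact absurd h e
      · exact absurd hlt (lt_irrefl _)
    have hre : r = p + 1 := le_antisymm (Nat.le_of_dvd (Nat.succ_pos _) key) hpr
    have hp2 : p = 2 := by
      rcases hp.eq_two_or_odd with h | h
      · exact h
      · rcases hr.eq_two_or_odd with h' | h'
        · have := hp.two_le; omega
        · omega
    refine h12 ?_
    have h4 : 4 ∣ Nat.card G := by
      have := hk ▸ hPd
      rwa [hp2] at this
    have h33 : 3 ∣ Nat.card G := by rwa [hre, hp2] at hrG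
    exact (show Nat.Coprime 4 3 by norm_num).mul_dvd_of_dvd_of_dvd h4 h33

end Cfsg.Agent.S0073
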