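import Cfsg.Statements.S0493
import Cfsg.Agent.S0073
import Cfsg.Agent.Lib.Small.SmallOrders

set_option autoImplicit false
open Cfsg

namespace Cfsg.Agent.S0493

open Cfsg.Agent.Small.SmallOrders

/-- A finite simple group of order at most 100 that is not cyclic has order 60. -/
theorem result {G : Type*} [Group G] [Finite G] [IsSimpleGroup G]
    (hG : ¬ IsCyclic G) (h : Nat.card G ≤ 100) : Nat.card G = 60 := by
  have hnc : ¬ IsMulCommutative G := fun hc => hG (by
    haveI := hc
    letI : CommGroup G := { (inferInstance : Group G) with mul_comm := hc.is_comm.comm }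
    haveI : Fact (Nat.card G).Prime := ⟨IsSimpleGroup.prime_card⟩
    exact isCyclic_of_prime_card rfl)
  have hex : ∃ x y : G, x * y ≠ y * x := by
    by_contra! h'
    exact hnc ⟨⟨h'⟩⟩
  have hd := Cfsg.Agent.S0073.result hex
  have hpk : ∀ p k : ℕ, p.Prime → Nat.card G = p ^ k → False := by
    intro p k hp hn
    haveI : Fact p.Prime := ⟨hp⟩
    obtain ⟨x, y, hxy⟩ := hex
    haveI : Nontrivial G := ⟨x, y, fun e => hxy (e ▸ rfl)⟩
    haveI := (IsPGroup.of_card (G := G) hn).center_nontrivial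
    exact ((Subgroup.nontrivial_iff_ne_bot _).1 this) (center_eq_bot hnc)
  have hfac : ∀ p k m : ℕ, p.Prime → 0 < k → 1 < m → ¬ p ∣ m → Nat.card G = p ^ k * m →
      (∀ c < m + 1, c ∣ m → c % p = 1 → c ≠ 1 → ¬ Nat.card G ∣ c.factorial) → False := by
    intro p k m hp hk hm hpm hn hall
    haveI : Fact p.Prime := ⟨hp⟩
    obtain ⟨P⟩ : Nonempty (Sylow p G) := inferInstance
    obtain ⟨hd, hmod, h1⟩ := sylow_number P (sylow_card_eq hn hpm P) hk hn hm
    refine hall _ (Nat.lt_succ_of_le (Nat.le_of_dvd (by omega) hd)) hd hmod h1 ?_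
    have hi := Sylow.card_eq_index_normalizer P
    rw [hi]
    refine card_dvd_index_factorial _ fun htop => h1 ?_
    rw [hi]
    exact Subgroup.index_eq_one.2 htop
  have hcen : ∀ p m : ℕ, p.Prime → 1 < m → ¬ p ∣ m → Nat.card G = p * m →
      (∀ c < m + 1, c ∣ m → c % p = 1 → c ≠ 1 → c = m) → False := by
    intro p m hp hm hpm hn hall
    haveI : Fact p.Prime := ⟨hp⟩
    obtain ⟨P⟩ : Nonempty (Sylow p G) := inferInstance
    have hn' : Nat.card G = p ^ 1 * m := by rw [hn, pow_one]
    have hP : Nat.card P = p := (sylow_card_eq hn' hpm P).trans (pow_one p)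
    obtain ⟨hd, hmod, h1⟩ := sylow_number P (sylow_card_eq hn' hpm P) one_pos hn' hm
    have hc := hall _ (Nat.lt_succ_of_le (Nat.le_of_dvd (by omega) hd)) hd hmod h1
    have hN := card_normalizer P
    rw [hc, hn, mul_comm p] at hN
    have hN' := Nat.eq_of_mul_eq_mul_left (by omega) hN
    refine false_of_central P (hP.symm ▸ hp.one_lt) (by rw [hP, hn]; exact lt_mul_of_one_lt_right hp.pos hm) ?_
    refine normalizer_le_centralizer (P : Subgroup G) hp hP ?_
    rw [hN']
    exact (Nat.coprime_self_sub_right hp.one_lt.le).2 (Nat.coprime_one_right p)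
  obtain ⟨n, hn⟩ : ∃ n, Nat.card G = n := ⟨_, rfl⟩
  rw [hn] at hd h hfac hcen hpk ⊢
  have h1 : n ≠ 1 := by
    obtain ⟨x, y, hxy⟩ := hex
    haveI : Nontrivial G := ⟨x, y, fun e => hxy (e ▸ rfl)⟩
    rw [← hn]; exact Finite.one_lt_card.ne'
  have hp := Nat.minFac_prime h1
  obtain ⟨p, hpe⟩ : ∃ p, n.minFac = p := ⟨_, rfl⟩
  rw [hpe] at hp hd
  have hcases : 8 ∣ n ∨ 12 ∣ n ∨ 27 ∣ n ∧ ¬ 2 ∣ n := by
    rcases hd with h3 | h12
    · have hn0 : 0 < n := hn ▸ Nat.card_pos
      have hle := Nat.le_of_dvd hn0 h3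
      have hp5 : p < 5 := by
        by_contra hlt
        have : 5 ^ 3 ≤ p ^ 3 := Nat.pow_le_pow_left (by omega) 3
        norm_num at this
        omega
      have h2le := hp.two_le
      interval_cases p
      · exact Or.inl h3
      · exact Or.inr (Or.inr ⟨h3, fun h2 => by
          have := Nat.minFac_le_of_dvd le_rfl h2
          omega⟩)
      · norm_num at hp
    · exact Or.inr (Or.inl h12)
  have hn0 : 0 < n := hn ▸ Nat.card_pos
  have hlist : n = 8 ∨ n = 12 ∨ n = 16 ∨ n = 24 ∨ n = 27 ∨ n = 32 ∨ n = 36 ∨ n = 40 ∨ n = 48 ∨ n = 56 ∨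
      n = 60 ∨ n = 64 ∨ n = 72 ∨ n = 80 ∨ n = 81 ∨ n = 84 ∨ n = 88 ∨ n = 96 := by omega
  rcases hlist with rfl | rfl | rfl | rfl | rfl | rfl | rfl | rfl | rfl | rfl | rfl | rfl | rfl | rfl | rfl | rfl | rfl | rfl
  · exact (hpk 2 3 Nat.prime_two rfl).elim
  · exact (hcen 3 4 Nat.prime_three (by norm_num) (by norm_num) rfl (by decide)).elim
  · exact (hpk 2 4 Nat.prime_two rfl).elim
  · exact (hfac 2 3 3 Nat.prime_two (by norm_num) (by norm_num) (by norm_num) rfl (by decide)).elim
  · exact (hpk 3 3 Nat.prime_three rfl).elim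
  · exact (hpk 2 5 Nat.prime_two rfl).elim
  · exact (hfac 3 2 4 Nat.prime_three (by norm_num) (by norm_num) (by norm_num) rfl (by decide)).elim
  · exact (hfac 5 1 8 (by norm_num) (by norm_num) (by norm_num) (by norm_num) rfl (by decide)).elim
  · exact (hfac 2 4 3 Nat.prime_two (by norm_num) (by norm_num) (by norm_num) rfl (by decide)).elim
  · exact (hcen 7 8 (by norm_num) (by norm_num) (by norm_num) rfl (by decide)).elim
  · rfl
  · exact (hpk 2 6 Nat.prime_two rfl).elim
  · exact (hfac 3 2 8 Nat.prime_three (by norm_num) (by norm_num) (by norm_num) rfl (by decide)).elim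
  · exact (hfac 2 4 5 Nat.prime_two (by norm_num) (by norm_num) (by norm_num) rfl (by decide)).elim
  · exact (hpk 3 4 Nat.prime_three rfl).elim
  · exact (hfac 7 1 12 (by norm_num) (by norm_num) (by norm_num) (by norm_num) rfl (by decide)).elim
  · exact (hfac 11 1 8 (by norm_num) (by norm_num) (by norm_num) (by norm_num) rfl (by decide)).elim
  · exact (hfac 2 5 3 Nat.prime_two (by norm_num) (by norm_num) (by norm_num) rfl (by decide)).elim

end Cfsg.Agent.S0493
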