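import Cfsg.Statements.S4479
import Cfsg.Agent.Lib.Char.FourOrder

set_option autoImplicit false
open Cfsg
open scoped ComplexConjugate

namespace Cfsg.Agent.S4479

/-- An order formula from the principal 2-block. Let G be a finite group of order 4·g₀ with g₀ odd having no normal 2-complement (no normal subgroup of order g₀); let P be a Sylow 2-subgroup, J an involution of P, and fix a maximal ideal M of the algebraic integers containing 2. Suppose the principal 2-block consists of the principal character and three further distinct characters χ₁, χ₂, χ₃ of degrees x₁, x₂, x₃, with χ_i(J) = ε_i = ±1. Then, writing c(J) and c(P) for the orders of the centralizers of J and of P, the order of G equals 8·α·c(J)³/c(P)² with α = x₁x₂x₃ / ((x₁ + ε₁)(x₂ + ε₂)(x₃ + ε₃)). -/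
theorem result {G : Type*} [Group G] [Finite G] (M : Ideal Cfsg.AlgInt) (hM : Cfsg.IsPModular 2 M) (g₀ : ℕ) (hg₀ : Odd g₀) (hG : Nat.card G = 4 * g₀) (hnc : ¬ ∃ N : Subgroup G, N.Normal ∧ Nat.card N = g₀) (P : Sylow 2 G) (J : G) (hJ : J ∈ (P : Subgroup G)) (hJ2 : orderOf J = 2) (χ₁ χ₂ χ₃ : Cfsg.IrrCharacter G) (ε₁ ε₂ ε₃ : ℤ) (hB : Cfsg.principalBlock M G = {χ : Cfsg.IrrCharacter G | (χ : G → ℂ) = (fun _ => 1) ∨ χ = χ₁ ∨ χ = χ₂ ∨ χ = χ₃}) (hdist : (χ₁ : G → ℂ) ≠ (fun _ => 1) ∧ (χ₂ : G → ℂ) ≠ (fun _ => 1) ∧ (χ₃ : G → ℂ) ≠ (fun _ => 1) ∧ χ₁ ≠ χ₂ ∧ χ₁ ≠ χ₃ ∧ χ₂ ≠ χ₃) (hε : (ε₁ = 1 ∨ ε₁ = -1) ∧ (ε₂ = 1 ∨ ε₂ = -1) ∧ (ε₃ = 1 ∨ ε₃ = -1)) (hval : (χ₁ : G → ℂ) J = ε₁ ∧ (χ₂ : G → ℂ) J = ε₂ ∧ (χ₃ : G → ℂ) J = ε₃) : (Nat.card G : ℚ) = 8 * (((Cfsg.charDegree (χ₁ : G → ℂ) : ℚ) * Cfsg.charDegree (χ₂ : G → ℂ) * Cfsg.charDegree (χ₃ : G → ℂ))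 / ((Cfsg.charDegree (χ₁ : G → ℂ) + ε₁) * (Cfsg.charDegree (χ₂ : G → ℂ) + ε₂) * (Cfsg.charDegree (χ₃ : G → ℂ) + ε₃))) * (Nat.card (Subgroup.centralizer ({J} : Set G)) : ℚ) ^ 3 / (Nat.card (Subgroup.centralizer ((P : Subgroup G) : Set G)) : ℚ) ^ 2 := by
  classical
  have := Fintype.ofFinite G
  obtain ⟨hP, hexp, hone⟩ := Char.four_sylow_setup hg₀ hG hnc P
  obtain ⟨hdeg, hcount, -⟩ := Char.four_equations hM P hP hexp hone hJ hJ2 hB hdist hε hval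
  set d₁ := (Cfsg.charDegree (χ₁ : G → ℂ) : ℚ) with h1
  set d₂ := (Cfsg.charDegree (χ₂ : G → ℂ) : ℚ) with h2
  set d₃ := (Cfsg.charDegree (χ₃ : G → ℂ) : ℚ) with h3
  set C : ℚ := (Nat.card (Subgroup.centralizer ({J} : Set G)) : ℚ) with hC
  set CP : ℚ := (Nat.card (Subgroup.centralizer ((P : Subgroup G) : Set G)) : ℚ) with hCP
  have hd : d₁ ≠ 0 ∧ d₂ ≠ 0 ∧ d₃ ≠ 0 := by
    simp only [h1, h2, h3, Char.charDegree_eq_deg, Nat.cast_ne_zero]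
    exact ⟨(Char.deg_pos χ₁.2).ne', (Char.deg_pos χ₂.2).ne', (Char.deg_pos χ₃.2).ne'⟩
  obtain ⟨hd1, hd2, hd3⟩ := hd
  have hCP0 : CP ≠ 0 := Nat.cast_ne_zero.mpr Nat.card_pos.ne'
  have hC0 : C ≠ 0 := Nat.cast_ne_zero.mpr Nat.card_pos.ne'
  have hdeg' : (1 : ℚ) + ε₁ * d₁ + ε₂ * d₂ + ε₃ * d₃ = 0 := by
    simp only [h1, h2, h3]; exact_mod_cast hdeg
  have hq : ∀ e : ℤ, (e = 1 ∨ e = -1) → (e : ℚ) * e = 1 := fun e he => by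
    rcases he with rfl | rfl <;> norm_num
  have hid : (d₁ + ε₁) * (d₂ + ε₂) * (d₃ + ε₃) =
      d₁ * d₂ * d₃ * (1 + (ε₁ : ℚ) / d₁ + (ε₂ : ℚ) / d₂ + (ε₃ : ℚ) / d₃) := by
    field_simp
    linear_combination ((ε₁ : ℚ) * ε₂ * ε₃) * hdeg' - d₁ * ε₂ * ε₃ * hq ε₁ hε.1
      - d₂ * ε₁ * ε₃ * hq ε₂ hε.2.1 - d₃ * ε₁ * ε₂ * hq ε₃ hε.2.2
  have key : (Nat.card G : ℚ) * ((d₁ + ε₁) * (d₂ + ε₂) * (d₃ + ε₃)) * CP ^ 2 =
      8 * (d₁ * d₂ * d₃) * C ^ 3 := by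
    rw [hid]; linear_combination (d₁ * d₂ * d₃) * hcount
  have hprod : (d₁ + ε₁) * (d₂ + ε₂) * (d₃ + ε₃) ≠ 0 := by
    intro h
    rw [h, mul_zero, zero_mul] at key
    exact mul_ne_zero (mul_ne_zero (by norm_num) (mul_ne_zero (mul_ne_zero hd1 hd2) hd3)) (pow_ne_zero 3 hC0) key.symm
  rw [← mul_div_assoc, div_mul_eq_mul_div, div_div, eq_div_iff (mul_ne_zero hprod (pow_ne_zero 2 hCP0))]
  linear_combination key

end Cfsg.Agent.S4479
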