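import Cfsg.Statements.S0502
import Cfsg.Agent.Lib.Local.ElemAb

set_option autoImplicit false
open Cfsg

namespace Cfsg.Agent.S0502

open Cfsg.Agent.Local

abbrev R {P : Type*} [Group P] := fun A B : Subgroup P =>
  IsKleinFour A ∧ IsKleinFour B ∧ ∀ a ∈ A, ∀ b ∈ B, a * b = b * a

theorem R_symm {P : Type*} [Group P] {A B : Subgroup P} (h : R A B) : R B A :=
  ⟨h.2.1, h.1, fun b hb a ha => (h.2.2 a ha b hb).symm⟩

theorem reach {P : Type*} [Group P] [Finite P] (hP : IsPGroup 2 P)
    (E : Subgroup P) [E.Normal] (hE : Cfsg.IsElementaryAbelian 2 E) (hE8 : 8 ≤ Nat.card E)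
    (U : Subgroup P) (hU : IsKleinFour U) :
    ∃ W : Subgroup P, IsKleinFour W ∧ W ≤ E ∧ Relation.ReflTransGen R U W ∧ Relation.ReflTransGen R W U := by
  have hUe := isKleinFour_elemAb hU
  have hU4 : Nat.card U = 4 := by haveI := hU; exact IsKleinFour.card_four
  have hconj : ∀ x : P, ∀ e ∈ E, x * e * x⁻¹ ∈ E := fun x e he => ‹E.Normal›.conj_mem e he x
  have hsq : ∀ x ∈ U, ∀ e : P, x ^ 2 * e = e * x ^ 2 := fun x hx e => by rw [hUe.2 x hx]; simp
  -- for u, v in U : a nontrivial element of E centralising both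
  have hbig : ∀ u ∈ U, 4 ≤ Nat.card ↥(E ⊓ Subgroup.centralizer {u}) := fun u hu => by
    have h := two_pow_bound (A := E ⊓ Subgroup.centralizer {u}) (elemAb_mono hE inf_le_left)
      (le_trans hE8 (card_le_sq_card_fixed hE (fun e he => hconj u e he) (fun e _ => hsq u hu e))) (m := 1)
      (by norm_num)
    simpa using h
  -- treat the case of a member of E inside
  have step : ∀ (V : Subgroup P), IsKleinFour V → ∀ z ∈ V, z ∈ E → z ≠ 1 →
      ∃ W : Subgroup P, IsKleinFour W ∧ W ≤ E ∧ R V W := by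
    intro V hV z hzV hzE hz1
    have hVe := isKleinFour_elemAb hV
    have hV4 : Nat.card V = 4 := by haveI := hV; exact IsKleinFour.card_four
    have hnle : ¬ V ≤ Subgroup.zpowers z := fun h => by
      have := Subgroup.card_le_of_le h
      rw [Nat.card_zpowers, hV4, orderOf_eq_prime (hVe.2 z hzV) hz1] at this
      omega
    obtain ⟨v, hvV, hvz⟩ := SetLike.not_le_iff_exists.mp hnle
    have hlt : Subgroup.zpowers z < Subgroup.closure {z, v} := by
      refine lt_of_le_of_ne (Subgroup.zpowers_le.mpr (Subgroup.subset_closure (Or.inl rfl))) fun h => hvz ?_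
      rw [h]; exact Subgroup.subset_closure (Or.inr rfl)
    have hclV : Subgroup.closure {z, v} ≤ V := by
      rw [Subgroup.closure_le]; rintro x (rfl | rfl) <;> assumption
    have hVeq : Subgroup.closure {z, v} = V := by
      refine Subgroup.eq_of_le_of_card_ge hclV ?_
      have := two_mul_card_le (elemAb_mono hVe hclV) hlt
      rw [Nat.card_zpowers, orderOf_eq_prime (hVe.2 z hzV) hz1] at this
      omega
    have h4 : 4 ≤ Nat.card ↥(E ⊓ Subgroup.centralizer {v}) := by
      have h := two_pow_bound (A := E ⊓ Subgroup.centralizer {v}) (elemAb_mono hE inf_le_left)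
        (le_trans hE8 (card_le_sq_card_fixed hE (fun e he => hconj v e he)
          (fun e _ => by rw [hVe.2 v hvV]; simp))) (m := 1) (by norm_num)
      simpa using h
    obtain ⟨W, hzW, hWle, hW4⟩ := exists_subgroup_two_pow (S := Subgroup.zpowers z) (n := 1) (m := 2)
      (elemAb_mono hE (inf_le_left : E ⊓ Subgroup.centralizer {v} ≤ E))
      (Subgroup.zpowers_le.mpr ⟨hzE, Subgroup.mem_centralizer_singleton_iff.mpr (elemAb_commute hVe hzV hvV)⟩)
      (by rw [Nat.card_zpowers, orderOf_eq_prime (hVe.2 z hzV) hz1]; norm_num) (by norm_num)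
      (by simpa using h4)
    refine ⟨W, elemAb_isKleinFour (elemAb_mono hE (hWle.trans inf_le_left)) (by simpa using hW4),
      hWle.trans inf_le_left, hV, elemAb_isKleinFour (elemAb_mono hE (hWle.trans inf_le_left)) (by simpa using hW4), ?_⟩
    intro a ha b hb
    have hle : V ≤ Subgroup.centralizer {b} := by
      rw [← hVeq, Subgroup.closure_le]
      rintro x (rfl | rfl)
      · exact Subgroup.mem_centralizer_singleton_iff.mpr (elemAb_commute hE hzE (hWle hb).1)
      · exact Subgroup.mem_centralizer_singleton_iff.mpr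
          (Subgroup.mem_centralizer_singleton_iff.mp (hWle hb).2).symm
    exact Subgroup.mem_centralizer_singleton_iff.mp (hle ha)
  -- an element of E centralising U
  have hnle : ¬ U ≤ ⊥ := fun h => by
    rw [le_bot_iff] at h; rw [h, Subgroup.card_bot] at hU4; omega
  obtain ⟨u, huU, hu1⟩ := SetLike.not_le_iff_exists.mp hnle
  rw [Subgroup.mem_bot] at hu1
  have hnle' : ¬ U ≤ Subgroup.zpowers u := fun h => by
    have := Subgroup.card_le_of_le h
    rw [Nat.card_zpowers, hU4, orderOf_eq_prime (hUe.2 u huU) hu1] at this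
    omega
  obtain ⟨v, hvU, hvu⟩ := SetLike.not_le_iff_exists.mp hnle'
  set E₁ := E ⊓ Subgroup.centralizer {u}
  have hE₁ : Cfsg.IsElementaryAbelian 2 E₁ := elemAb_mono hE inf_le_left
  have h2 : 2 ≤ Nat.card ↥(E₁ ⊓ Subgroup.centralizer {v}) := by
    have hu4 := hbig u huU
    have := two_pow_bound (A := E₁ ⊓ Subgroup.centralizer {v}) (elemAb_mono hE₁ inf_le_left)
      (le_trans hu4 (card_le_sq_card_fixed hE₁
        (inf_centralizer_conj_mem (fun e he => hconj v e he) (elemAb_commute hUe huU hvU))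
        (fun e _ => hsq v hvU e))) (m := 0) (by norm_num)
    simpa using this
  have : Nontrivial ↥(E₁ ⊓ Subgroup.centralizer {v}) := Finite.one_lt_card_iff_nontrivial.mp h2
  obtain ⟨⟨z, ⟨hzE, hzu⟩, hzv⟩, hz⟩ := exists_ne (1 : ↥(E₁ ⊓ Subgroup.centralizer {v}))
  have hz1 : z ≠ 1 := fun h => hz (Subtype.ext h)
  have hlt : Subgroup.zpowers u < Subgroup.closure {u, v} := by
    refine lt_of_le_of_ne (Subgroup.zpowers_le.mpr (Subgroup.subset_closure (Or.inl rfl))) fun h => hvu ?_
    rw [h]; exact Subgroup.subset_closure (Or.inr rfl)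
  have hclU : Subgroup.closure {u, v} ≤ U := by
    rw [Subgroup.closure_le]; rintro x (rfl | rfl) <;> assumption
  have hUeq : Subgroup.closure {u, v} = U := by
    refine Subgroup.eq_of_le_of_card_ge hclU ?_
    have := two_mul_card_le (elemAb_mono hUe hclU) hlt
    rw [Nat.card_zpowers, orderOf_eq_prime (hUe.2 u huU) hu1] at this
    omega
  have hzU : ∀ a ∈ U, a * z = z * a := by
    have hle : U ≤ Subgroup.centralizer {z} := by
      rw [← hUeq, Subgroup.closure_le]
      rintro x (rfl | rfl)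
      · exact Subgroup.mem_centralizer_singleton_iff.mpr (Subgroup.mem_centralizer_singleton_iff.mp hzu).symm
      · exact Subgroup.mem_centralizer_singleton_iff.mpr (Subgroup.mem_centralizer_singleton_iff.mp hzv).symm
    exact fun a ha => Subgroup.mem_centralizer_singleton_iff.mp (hle ha)
  by_cases hzmem : z ∈ U
  · obtain ⟨W, hW, hWE, hR⟩ := step U hU z hzmem hzE hz1
    exact ⟨W, hW, hWE, .single hR, .single (R_symm hR)⟩
  · have hz2 : z ^ 2 = 1 := hE.2 z hzE
    have hZ : Cfsg.IsElementaryAbelian 2 (U ⊔ Subgroup.zpowers z) := by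
      refine elemAb_sup hUe (elemAb_zpowers hz2) ?_
      intro a ha b hb
      obtain ⟨k, rfl⟩ := hb
      exact (Commute.zpow_right (hzU a ha) k).eq
    have h4 : 2 ^ 2 ≤ Nat.card ↥(U ⊔ Subgroup.zpowers z) := by
      have := Subgroup.card_le_of_le (le_sup_left : U ≤ U ⊔ Subgroup.zpowers z)
      rw [hU4] at this
      simpa using this
    obtain ⟨U', hzU', hU'le, hU'4⟩ := exists_subgroup_two_pow (S := Subgroup.zpowers z) (n := 1) hZ le_sup_right
      (by rw [Nat.card_zpowers, orderOf_eq_prime hz2 hz1]; norm_num) (by norm_num) h4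
    have hU' := elemAb_isKleinFour (elemAb_mono hZ hU'le) (by simpa using hU'4)
    have h1 : R U U' := ⟨hU, hU', fun a ha b hb => elemAb_commute hZ (le_sup_left (b := Subgroup.zpowers z) ha) (hU'le hb)⟩
    obtain ⟨W, hW, hWE, hR⟩ := step U' hU' z (hzU' (Subgroup.mem_zpowers z)) hzE hz1
    exact ⟨W, hW, hWE, (Relation.ReflTransGen.single h1).tail hR,
      (Relation.ReflTransGen.single (R_symm hR)).tail (R_symm h1)⟩

theorem result {P : Type*} [Group P] [Finite P] (hP : IsPGroup 2 P)
    (E : Subgroup P) [E.Normal] (hE : IsMulCommutative E) (hE2 : ∀ e ∈ E, e ^ 2 = 1) (hE8 : 8 ≤ Nat.card E) :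
    Cfsg.IsFourConnected P := by
  intro U V hU hV
  obtain ⟨W₁, hW₁, hW₁E, h1, _⟩ := reach hP E ⟨hE, hE2⟩ hE8 U hU
  obtain ⟨W₂, hW₂, hW₂E, _, h2⟩ := reach hP E ⟨hE, hE2⟩ hE8 V hV
  exact (h1.tail ⟨hW₁, hW₂, fun a ha b hb => elemAb_commute (p := 2) ⟨hE, hE2⟩ (hW₁E ha) (hW₂E hb)⟩).trans h2

end Cfsg.Agent.S0502
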