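import Cfsg.Statements.S1254
import Cfsg.Agent.Lib.Fusion.DihedralCriteria

set_option autoImplicit false
open Cfsg
open Cfsg.Agent.Fusion
open scoped commutatorElement

namespace Cfsg.Agent.S1254

/-- Let X be a finite group whose Sylow 2-subgroup S is dihedral (of order at least 4). Then X has a normal 2-complement if and only if, for every Klein four-subgroup U ≤ S, the normalizer N_X(U) is generated by C_X(U) and N_S(U). -/
theorem result {X : Type*} [Group X] [Finite X] (S : Sylow 2 X) (m : ℕ) (hm : 2 ≤ m) (eS : (S : Subgroup X) ≃* DihedralGroup m) : Cfsg.HasNormalPComplement 2 X ↔ ∀ U : Subgroup X, U ≤ S → IsKleinFour U → Subgroup.normalizer (U : Set X) = Subgroup.centralizer (U : Set X) ⊔ ((S : Subgroup X) ⊓ Subgroup.normalizer (U : Set X)) := by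
  haveI : Fact (Nat.Prime 2) := ⟨Nat.prime_two⟩
  haveI : NeZero m := ⟨by omega⟩
  refine ⟨fun h U hU _ => DihedralFours.normalizer_eq_of_hnpc h S hU, fun h => ?_⟩
  rcases (DihedralFours.card_eq_two_pow S eS hm).2 with rfl | ⟨l, hl⟩
  · have hK := DihedralFours.klein_of_dihedral_two _ eS
    have h1 := h S le_rfl hK
    refine hnpc_of_normalizer_le_centralizer S (h1.le.trans (sup_le le_rfl (inf_le_left.trans ?_)))
    intro x hx
    refine Subgroup.mem_centralizer_iff.2 fun y hy => ?_
    exact congrArg Subtype.val (IsKleinFour.isMulCommutative.is_comm.comm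
      (⟨y, hy⟩ : (S : Subgroup X)) ⟨x, hx⟩)
  set ι : DihedralGroup m →* X := (S : Subgroup X).subtype.comp eS.symm.toMonoidHom with hιdef
  have hι : Function.Injective ι := (S : Subgroup X).subtype_injective.comp eS.symm.injective
  have hrange : ι.range = (S : Subgroup X) := by
    rw [hιdef, MonoidHom.range_comp, MonoidHom.range_eq_top.2 eS.symm.surjective,
      ← MonoidHom.range_eq_map, Subgroup.range_subtype]
  have hm2 : 2 ∣ m := ⟨2 * l, by omega⟩
  refine DihedralFours.dihedral_hnpc_of_no_fusion S ⟨l, hl⟩ ι hι hrange fun i g hg => ?_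
  obtain ⟨n, hn, hnz⟩ := DihedralFours.exists_normalizer_moving S hl ι hι hrange hg
  set z := ι (DihedralGroup.r ((m / 2 : ℕ) : ZMod m)) with hz
  set U := (DihedralFours.four m i).map ι with hU
  have hUS : U ≤ S := hrange ▸ Subgroup.map_le_range _ _
  have hzU : z ∈ U := Subgroup.mem_map_of_mem _
    ((DihedralFours.mem_four hm2 i _).2 (Or.inr (Or.inl rfl)))
  have hle : Subgroup.normalizer (U : Set X) ≤ Subgroup.centralizer ({z} : Set X) := by
    refine (h U hUS (DihedralFours.four_map_klein hm2 ι hι i)).le.trans (sup_le ?_ ?_)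
    · intro x hx
      exact Subgroup.mem_centralizer_singleton_iff.2 (Subgroup.mem_centralizer_iff.1 hx z hzU).symm
    · refine inf_le_left.trans ?_
      rw [← hrange]
      rintro _ ⟨d, rfl⟩
      exact Subgroup.mem_centralizer_singleton_iff.2 (by
        rw [hz, ← map_mul, ← map_mul, DihedralFours.center_r_half hm2])
  have hc := Subgroup.mem_centralizer_singleton_iff.1 (hle hn)
  have e : ι (DihedralGroup.sr i) = z := by
    calc ι (DihedralGroup.sr i) = n⁻¹ * (n * ι (DihedralGroup.sr i) * n⁻¹) * n := by group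
      _ = n⁻¹ * (z * n) := by rw [hnz, mul_assoc]
      _ = z := by rw [← hc, inv_mul_cancel_left]
  cases hι e

end Cfsg.Agent.S1254
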