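import Cfsg.Statements.S1312
import Cfsg.Agent.Lib.Solv.Component
import Cfsg.Agent.Lib.Solv.Subnormal
import Cfsg.Agent.Lib.Solv.Zipper
import Cfsg.Agent.Lib.Fusion.Cores
import Cfsg.Agent.Lib.Local.Basics

set_option autoImplicit false
open Cfsg
open Cfsg.Agent.Fusion
open scoped commutatorElement

namespace Cfsg.Agent.S1312

theorem commute_iSup {H : Type*} [Group H] {ι : Sort*} (f : ι → Subgroup H) (W : Subgroup H)
    (h : ∀ i, f i ≤ Subgroup.centralizer (W : Set H)) : (⨆ i, f i) ≤ Subgroup.centralizer (W : Set H) :=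
  iSup_le h

theorem pgroup_split {H : Type*} [Group H] [Finite H] (q : Nat.Primes) {c : H}
    (hc : c ∈ Cfsg.fittingSubgroup H) :
    ∃ a b, c = a * b ∧ a ∈ Cfsg.pCore (q : ℕ) H ∧
      b ∈ ⨆ r : {r : Nat.Primes // r ≠ q}, Cfsg.pCore (r.1 : ℕ) H := by
  have hle : Cfsg.fittingSubgroup H ≤ Cfsg.pCore (q : ℕ) H ⊔
      ⨆ r : {r : Nat.Primes // r ≠ q}, Cfsg.pCore (r.1 : ℕ) H := by
    rw [Solv.fitting_eq_iSup_pCore]
    refine iSup_le fun r => ?_
    by_cases hr : r = q
    · rw [hr]; exact le_sup_left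
    · exact le_sup_of_le_right (le_iSup (fun r : {r : Nat.Primes // r ≠ q} => Cfsg.pCore (r.1 : ℕ) H) ⟨r, hr⟩)
  haveI := Solv.pCore_normal (G := H) (q : ℕ)
  obtain ⟨a, ha, b, hb, rfl⟩ := Subgroup.mem_sup_of_normal_left.1 (hle hc)
  exact ⟨a, b, rfl, ha, hb⟩

theorem cores_commute {H : Type*} [Group H] [Finite H] {p q : Nat.Primes} (h : p ≠ q) :
    Cfsg.pCore (p : ℕ) H ≤ Subgroup.centralizer (Cfsg.pCore (q : ℕ) H : Set H) := by
  haveI := Fact.mk p.2
  haveI := Fact.mk q.2
  haveI := Solv.pCore_normal (G := H) (p : ℕ)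
  haveI := Solv.pCore_normal (G := H) (q : ℕ)
  have hd : Disjoint (Cfsg.pCore (p : ℕ) H) (Cfsg.pCore (q : ℕ) H) :=
    (Solv.pCore_isPGroup (G := H) (p : ℕ)).disjoint_of_ne _ _ (fun e => h (Subtype.ext e)) _ _
      (Solv.pCore_isPGroup (G := H) (q : ℕ))
  intro x hx
  rw [Subgroup.mem_centralizer_iff]
  exact fun y hy => (Subgroup.commute_of_normal_of_disjoint _ _ inferInstance inferInstance hd x y hx hy).eq.symm

set_option maxHeartbeats 800000 in
/-- The key step, inside `H = M`. -/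
theorem core_step {H : Type*} [Group H] [Finite H] {p q : Nat.Primes} (hpq : p ≠ q)
    (hlayer : Cfsg.layer H = ⊥) (A R : Subgroup H) (hA : IsPGroup (p : ℕ) ↥A) (hR : IsPGroup (q : ℕ) ↥R)
    (hAS : ∀ r : Nat.Primes, r ≠ p → A ≤ Subgroup.centralizer (Cfsg.pCore (r : ℕ) H : Set H))
    (hRO : ∀ r : Nat.Primes, r ≠ q → R ≤ Subgroup.centralizer (Cfsg.pCore (r : ℕ) H : Set H))
    (hAR : A ≤ Subgroup.centralizer (R : Set H))
    (hY : Subgroup.centralizer (R : Set H) ≤ Subgroup.normalizer (A : Set H)) :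
    A ≤ Cfsg.pCore (p : ℕ) H := by
  haveI := Fact.mk p.2
  haveI := Fact.mk q.2
  have hFc : Subgroup.centralizer (Cfsg.fittingSubgroup H : Set H) ≤ Cfsg.fittingSubgroup H := by
    have := Solv.centralizer_gfit_le (G := H)
    rwa [Cfsg.generalizedFittingSubgroup, hlayer, bot_sup_eq] at this
  obtain ⟨S, hS⟩ : ∃ S : Subgroup H, S = ⨆ r : {r : Nat.Primes // r ≠ p}, Cfsg.pCore (r.1 : ℕ) H := ⟨_, rfl⟩
  haveI : S.Normal := by
    rw [hS]
    haveI : ∀ r : {r : Nat.Primes // r ≠ p}, (Cfsg.pCore (r.1 : ℕ) H).Normal := fun r => Solv.pCore_normal _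
    infer_instance
  obtain ⟨X, hX⟩ : ∃ X, X = Subgroup.centralizer (S : Set H) := ⟨_, rfl⟩
  haveI hXn : X.Normal := hX ▸ Subgroup.normal_centralizer
  have hXO : ∀ r : Nat.Primes, r ≠ p → ∀ x ∈ X, ∀ y ∈ Cfsg.pCore (r : ℕ) H, y * x = x * y := by
    intro r hr x hx y hy
    rw [hX, Subgroup.mem_centralizer_iff] at hx
    exact hx y (hS ▸ (le_iSup (fun r : {r : Nat.Primes // r ≠ p} => Cfsg.pCore (r.1 : ℕ) H) ⟨r, hr⟩) hy)
  have hAX : A ≤ X := by
    rw [hX, Subgroup.le_centralizer_iff, hS]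
    exact iSup_le fun r => Subgroup.le_centralizer_iff.1 (hAS r.1 r.2)
  obtain ⟨Q, hQ⟩ : ∃ Q, Q = Cfsg.pCore (q : ℕ) H := ⟨_, rfl⟩
  haveI hQn : Q.Normal := hQ ▸ Solv.pCore_normal _
  obtain ⟨P, hP⟩ : ∃ P, P = Q ⊔ R := ⟨_, rfl⟩
  have hPp : IsPGroup (q : ℕ) ↥P := hP ▸ (hQ ▸ Solv.pCore_isPGroup (G := H) (q : ℕ) : IsPGroup (q : ℕ) ↥Q).to_sup_of_normal_left hR
  have hXP : X ≤ Subgroup.normalizer (P : Set H) := by
    intro x hx
    refine mem_normalizer_of_cj_le (Subgroup.map_le_iff_le_comap.2 ?_)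
    rw [hP]
    refine sup_le (fun y hy => ?_) fun r hr => ?_
    · exact Subgroup.mem_sup_left (hQn.conj_mem y hy x)
    · show x * r * x⁻¹ ∈ Q ⊔ R
      obtain ⟨c, hc⟩ : ∃ c, c = x * r * x⁻¹ * r⁻¹ := ⟨_, rfl⟩
      have hcX : c ∈ X := by
        rw [hc, mul_assoc x r, mul_assoc x]
        exact mul_mem hx (hXn.conj_mem _ (inv_mem hx) r)
      have hcp : c ∈ Subgroup.centralizer (Cfsg.pCore (p : ℕ) H : Set H) := by
        rw [Subgroup.mem_centralizer_iff]
        intro y hy
        haveI := Solv.pCore_normal (G := H) (p : ℕ)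
        have hy' : x⁻¹ * y * x ∈ Cfsg.pCore (p : ℕ) H := by
          simpa using Subgroup.Normal.conj_mem inferInstance y hy x⁻¹
        have e1 := Subgroup.mem_centralizer_iff.1 (hRO p hpq hr) y hy
        have e2 := Subgroup.mem_centralizer_iff.1 (hRO p hpq hr) _ hy'
        calc y * c = x * ((x⁻¹ * y * x) * r) * x⁻¹ * r⁻¹ := by rw [hc]; group
          _ = x * (r * (x⁻¹ * y * x)) * x⁻¹ * r⁻¹ := by rw [e2]
          _ = x * r * x⁻¹ * r⁻¹ * (r * y) * r⁻¹ := by group
          _ = x * r * x⁻¹ * r⁻¹ * (y * r) * r⁻¹ := by rw [e1]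
          _ = c * y := by rw [hc]; group
      have hcF : c ∈ Cfsg.fittingSubgroup H := by
        refine hFc ?_
        rw [← Subgroup.zpowers_le, Solv.fitting_eq_iSup_pCore, Subgroup.le_centralizer_iff]
        refine iSup_le fun s => ?_
        rw [Subgroup.le_centralizer_iff, Subgroup.zpowers_le]
        by_cases hs : s = p
        · rw [hs]; exact hcp
        · exact Subgroup.mem_centralizer_iff.2 (hXO s hs c hcX)
      obtain ⟨a, b, hab, ha, hb⟩ := pgroup_split q hcF
      rw [← hQ] at ha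
      have har : a * r ∈ P := by rw [hP]; exact mul_mem (Subgroup.mem_sup_left ha) (Subgroup.mem_sup_right hr)
      have hb' : b ∈ Subgroup.centralizer (P : Set H) := by
        rw [← Subgroup.zpowers_le, Subgroup.le_centralizer_iff, hP]
        refine sup_le ?_ ?_ <;> rw [Subgroup.le_centralizer_iff, Subgroup.zpowers_le]
        · exact (hQ ▸ iSup_le fun s => cores_commute s.2 :
            (⨆ s : {s : Nat.Primes // s ≠ q}, Cfsg.pCore (s.1 : ℕ) H) ≤ Subgroup.centralizer (Q : Set H)) hb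
        · exact (iSup_le fun s => Subgroup.le_centralizer_iff.1 (hRO s.1 s.2) :
            (⨆ s : {s : Nat.Primes // s ≠ q}, Cfsg.pCore (s.1 : ℕ) H) ≤ Subgroup.centralizer (R : Set H)) hb
      have hcr : x * r * x⁻¹ = (a * r) * b := by
        rw [mul_assoc a r b, Subgroup.mem_centralizer_iff.1 hb' r (hP ▸ Subgroup.mem_sup_right hr), ← mul_assoc, ← hab, hc]
        group
      obtain ⟨i, hi⟩ := hPp ⟨_, har⟩
      obtain ⟨j, hj⟩ := hR ⟨r, hr⟩
      have hcomm : Commute (a * r) b := Subgroup.mem_centralizer_iff.1 hb' _ har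
      have hbq : b ^ (q : ℕ) ^ (i + j) = 1 := by
        have h1 : (x * r * x⁻¹) ^ (q : ℕ) ^ (i + j) = 1 := by
          rw [conj_pow, pow_add, mul_comm, pow_mul, show r ^ (q : ℕ) ^ j = 1 from congrArg Subtype.val hj, one_pow]
          group
        have h2 : (a * r) ^ (q : ℕ) ^ (i + j) = 1 := by
          rw [pow_add, pow_mul, show (a * r) ^ (q : ℕ) ^ i = 1 from congrArg Subtype.val hi, one_pow]
        rwa [hcr, hcomm.mul_pow, h2, one_mul] at h1
      have hbF : b ∈ Cfsg.fittingSubgroup H :=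
        (iSup_le fun s => by haveI := Fact.mk s.1.2; exact Solv.pCore_le_fitting _ :
          (⨆ s : {s : Nat.Primes // s ≠ q}, Cfsg.pCore (s.1 : ℕ) H) ≤ Cfsg.fittingSubgroup H) hb
      have hbQ : b ∈ Q := by
        rw [hQ]
        refine Solv.pgroup_le_pCore_of_le_fitting (A := Subgroup.zpowers b) ?_ (Subgroup.zpowers_le.2 hbF)
          (Subgroup.mem_zpowers b)
        rintro ⟨y, k, rfl⟩
        exact ⟨i + j, Subtype.ext (by
          show (b ^ k) ^ (q : ℕ) ^ (i + j) = 1
          rw [← zpow_natCast, ← zpow_mul, mul_comm, zpow_mul, zpow_natCast, hbq, one_zpow])⟩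
      rw [hcr]
      rw [hP] at har
      exact mul_mem har (Subgroup.mem_sup_left hbQ)
  obtain ⟨Y, hY'⟩ : ∃ Y, Y = X ⊓ Subgroup.centralizer (P : Set H) := ⟨_, rfl⟩
  have hAY : A ≤ Y := by
    rw [hY', le_inf_iff]
    refine ⟨hAX, ?_⟩
    rw [Subgroup.le_centralizer_iff, hP]
    exact sup_le (hQ ▸ Subgroup.le_centralizer_iff.1 (hAS q hpq.symm)) (Subgroup.le_centralizer_iff.1 hAR)
  have hYX : Y ≤ X := hY' ▸ inf_le_left
  have hAn : (A.subgroupOf Y).Normal := by
    rw [Subgroup.normal_subgroupOf_iff_le_normalizer hAY]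
    refine le_trans ?_ hY
    rw [hY', hP]
    exact inf_le_right.trans (Subgroup.centralizer_le (SetLike.coe_subset_coe.2 le_sup_right))
  have hYn : (Y.subgroupOf X).Normal := by
    rw [Subgroup.normal_subgroupOf_iff_le_normalizer hYX]
    intro x hx
    refine mem_normalizer_of_cj_le ?_
    rw [hY', cj_inf, cj_centralizer, cj_eq_self (hXP hx), cj_eq_self_of_mem hx]
  have hAsn : A.IsSubnormal :=
    Subgroup.IsSubnormal.step A Y hAY (Subgroup.IsSubnormal.step Y X hYX hXn.isSubnormal hYn) hAn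
  exact Solv.pgroup_le_pCore_of_le_fitting hA (Solv.subnormal_nilpotent_le_fitting hAsn hA.isNilpotent)

/-- Let G be a non-abelian finite simple group and M ≠ N maximal subgroups of G with F*(M) ≤ N and F*(N) ≤ M. Then there is a prime p such that F*(M) and F*(N) are both p-groups. -/
theorem result {G : Type*} [Group G] [Finite G] [IsSimpleGroup G] (hna : ¬ IsMulCommutative G) (M N : Subgroup G) (hM : IsCoatom M) (hN : IsCoatom N) (hMN : M ≠ N) (h1 : (Cfsg.generalizedFittingSubgroup ↥M).map M.subtype ≤ N) (h2 : (Cfsg.generalizedFittingSubgroup ↥N).map N.subtype ≤ M) : ∃ p : ℕ, p.Prime ∧ IsPGroup p ↥(Cfsg.generalizedFittingSubgroup ↥M) ∧ IsPGroup p ↥(Cfsg.generalizedFittingSubgroup ↥N) := by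
  -- maximal subgroups are self-normalising
  have norm : ∀ K : Subgroup G, IsCoatom K → ∀ U : Subgroup ↥K, U.Normal → U ≠ ⊥ →
      Subgroup.normalizer ((U.map K.subtype : Subgroup G) : Set G) = K := by
    intro K hK U hU hU1
    have hle : K ≤ Subgroup.normalizer ((U.map K.subtype : Subgroup G) : Set G) := by
      rw [← Subgroup.normal_subgroupOf_iff_le_normalizer (Subgroup.map_subtype_le U), Subgroup.subgroupOf,
        Subgroup.comap_map_eq_self_of_injective K.subtype_injective]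
      exact hU
    refine (hle.eq_or_lt.resolve_right fun hlt => ?_).symm
    have hn := Subgroup.normalizer_eq_top_iff.1 (hK.2 _ hlt)
    rcases hn.eq_bot_or_eq_top with h | h
    · exact hU1 ((Subgroup.map_eq_bot_iff_of_injective _ K.subtype_injective).1 h)
    · exact hK.1 (top_le_iff.1 (h ▸ Subgroup.map_subtype_le U))
  have nt : ∀ K : Subgroup G, IsCoatom K → K ≠ ⊥ := by
    intro K hK hb
    refine hna ?_
    obtain ⟨g, hg⟩ : ∃ g : G, g ≠ 1 := exists_ne 1
    have htop : Subgroup.zpowers g = ⊤ :=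
      hK.2 _ (hb ▸ bot_lt_iff_ne_bot.2 (fun h => hg (Subgroup.zpowers_eq_bot.1 h)))
    refine ⟨⟨fun a b => ?_⟩⟩
    obtain ⟨i, rfl⟩ := Subgroup.mem_zpowers_iff.1 (htop ▸ Subgroup.mem_top a)
    obtain ⟨j, rfl⟩ := Subgroup.mem_zpowers_iff.1 (htop ▸ Subgroup.mem_top b)
    exact Commute.zpow_zpow_self g i j
  -- the layers coincide
  have comp : ∀ K L : Subgroup G, (Cfsg.generalizedFittingSubgroup ↥K).map K.subtype ≤ L →
      (Cfsg.generalizedFittingSubgroup ↥L).map L.subtype ≤ K →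
      (Cfsg.layer ↥K).map K.subtype ≤ (Cfsg.layer ↥L).map L.subtype := by
    intro K L hKL hLK
    rw [Cfsg.layer, sSup_eq_iSup, Subgroup.map_iSup]
    refine iSup_le fun J => ?_
    rw [Subgroup.map_iSup]
    refine iSup_le fun hJ => ?_
    replace hJ : Cfsg.IsComponent J := hJ
    obtain ⟨J', hJ'⟩ : ∃ J', J' = J.map K.subtype := ⟨_, rfl⟩
    have hJK : J' ≤ K := hJ' ▸ Subgroup.map_subtype_le J
    have hJL : J' ≤ L := hJ' ▸ (Subgroup.map_mono
      ((Solv.component_le_layer hJ).trans le_sup_left)).trans hKL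
    rw [← hJ']
    obtain ⟨JL, hJLd⟩ : ∃ JL, JL = J'.subgroupOf L := ⟨_, rfl⟩
    obtain ⟨W, hW⟩ : ∃ W : Subgroup ↥L, W = K.subgroupOf L := ⟨_, rfl⟩
    have hgW : Cfsg.generalizedFittingSubgroup ↥L ≤ W := fun x hx => hW ▸ hLK ⟨x, hx, rfl⟩
    have hcJ : Cfsg.IsComponent (JL.subgroupOf W) := by
      have h1 : Cfsg.IsComponent (J.subgroupOf (L.subgroupOf K)) :=
        Solv.component_subgroupOf hJ (fun x hx => hJL (hJ' ▸ ⟨x, hx, rfl⟩))
      let e : ↥(L.subgroupOf K) ≃* ↥W :=
        { toFun := fun x => ⟨⟨x.1.1, x.2⟩, hW ▸ x.1.2⟩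
          invFun := fun x => ⟨⟨x.1.1, (hW ▸ x.2 : x.1 ∈ K.subgroupOf L)⟩, x.1.2⟩
          left_inv := fun x => rfl
          right_inv := fun x => rfl
          map_mul' := fun a b => rfl }
      have he : JL.subgroupOf W = (J.subgroupOf (L.subgroupOf K)).map e.toMonoidHom := by
        ext x
        simp only [hJLd, hJ', Subgroup.mem_subgroupOf, Subgroup.mem_map, MulEquiv.coe_toMonoidHom]
        constructor
        · rintro ⟨y, hy, hyx⟩
          refine ⟨e.symm x, ?_, e.apply_symm_apply x⟩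
          have : y = (e.symm x).1 := Subtype.ext hyx
          exact this ▸ hy
        · rintro ⟨y, hy, rfl⟩
          exact ⟨y.1, hy, rfl⟩
      rw [he]
      exact ⟨Subgroup.IsSubnormal.map (f := e.toMonoidHom) e.surjective h1.1,
        Local.isQuasisimple_congr (Subgroup.equivMapOfInjective _ _ e.injective) h1.2⟩
    have hJLW : JL ≤ W := fun x hx => by
      rw [hJLd, Subgroup.mem_subgroupOf] at hx
      rw [hW, Subgroup.mem_subgroupOf]
      exact hJK hx
    suffices h : JL ≤ Cfsg.layer ↥L by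
      rw [← Subgroup.map_subgroupOf_eq_of_le hJL, ← hJLd]
      exact Subgroup.map_mono h
    by_contra hnot
    have hcom : ∀ C : Subgroup ↥L, Cfsg.IsComponent C → C ≤ Subgroup.centralizer (JL : Set ↥L) := by
      intro C hC
      have hCW : C ≤ W := (Solv.component_le_layer hC).trans (le_trans le_sup_left hgW)
      have hne : C.subgroupOf W ≠ JL.subgroupOf W := fun h => hnot (by
        rw [← Subgroup.map_subgroupOf_eq_of_le hJLW, ← h, Subgroup.map_subgroupOf_eq_of_le hCW]
        exact Solv.component_le_layer hC)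
      have h2 := congrArg (Subgroup.map W.subtype)
        (Solv.components_commute (Solv.component_subgroupOf hC hCW) hcJ hne)
      rw [Subgroup.map_commutator, Subgroup.map_subgroupOf_eq_of_le hCW, Subgroup.map_subgroupOf_eq_of_le hJLW,
        Subgroup.map_bot, Subgroup.commutator_eq_bot_iff_le_centralizer] at h2
      exact h2
    have hFW : Cfsg.fittingSubgroup ↥L ≤ W := le_trans le_sup_right hgW
    have hF : Cfsg.fittingSubgroup ↥L ≤ Subgroup.centralizer (JL : Set ↥L) := by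
      haveI := Solv.fittingSubgroup_normal (G := ↥L)
      have hn : ((Cfsg.fittingSubgroup ↥L).subgroupOf W).Normal := inferInstance
      have hs : Group.IsSolvable ↥((Cfsg.fittingSubgroup ↥L).subgroupOf W) := by
        haveI := Solv.fittingSubgroup_nilpotent (G := ↥L)
        exact Group.isSolvable_of_isSolvable_injective (f := (Subgroup.subgroupOfEquivOfLe hFW).toMonoidHom)
          (Subgroup.subgroupOfEquivOfLe hFW).injective
      have h2 := congrArg (Subgroup.map W.subtype) (Solv.component_commutes_solvable hcJ hn.isSubnormal hs)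
      rw [Subgroup.map_commutator, Subgroup.map_subgroupOf_eq_of_le hJLW, Subgroup.map_subgroupOf_eq_of_le hFW,
        Subgroup.map_bot, Subgroup.commutator_comm, Subgroup.commutator_eq_bot_iff_le_centralizer] at h2
      exact h2
    have hgc : Cfsg.generalizedFittingSubgroup ↥L ≤ Subgroup.centralizer (JL : Set ↥L) :=
      sup_le (sSup_le hcom) hF
    have hJg : JL ≤ Cfsg.generalizedFittingSubgroup ↥L :=
      (Subgroup.le_centralizer_iff.1 hgc).trans Solv.centralizer_gfit_le
    have hq : Cfsg.IsQuasisimple ↥JL :=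
      Local.isQuasisimple_congr (Subgroup.subgroupOfEquivOfLe hJLW) hcJ.2
    exact Solv.qs_not_le_centralizer hq (Subgroup.commutator_eq_bot_iff_le_centralizer.2 (hJg.trans hgc))
  have hE : Cfsg.layer ↥M = ⊥ ∧ Cfsg.layer ↥N = ⊥ := by
    have he := le_antisymm (comp M N h1 h2) (comp N M h2 h1)
    by_cases hM0 : Cfsg.layer ↥M = ⊥
    · refine ⟨hM0, ?_⟩
      rw [hM0, Subgroup.map_bot, eq_comm, Subgroup.map_eq_bot_iff_of_injective _ N.subtype_injective] at he
      exact he
    · exfalso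
      have hN0 : Cfsg.layer ↥N ≠ ⊥ := fun h => hM0 (by
        rw [h, Subgroup.map_bot, Subgroup.map_eq_bot_iff_of_injective _ M.subtype_injective] at he
        exact he)
      apply hMN
      rw [← norm M hM _ Local.layer_normal hM0, he, norm N hN _ Local.layer_normal hN0]
  -- the p-cores
  obtain ⟨O, hO⟩ : ∃ O : Subgroup G → Nat.Primes → Subgroup G,
      ∀ K r, O K r = (Cfsg.pCore (r : ℕ) ↥K).map K.subtype := ⟨_, fun _ _ => rfl⟩
  have hOle : ∀ K L : Subgroup G, (Cfsg.generalizedFittingSubgroup ↥K).map K.subtype ≤ L → ∀ r, O K r ≤ L := by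
    intro K L h r
    haveI := Fact.mk r.2
    rw [hO]
    exact (Subgroup.map_mono ((Solv.pCore_le_fitting _).trans le_sup_right)).trans h
  have hOn : ∀ K r, K ≤ Subgroup.normalizer ((O K r : Subgroup G) : Set G) := by
    intro K r
    rw [hO, ← Subgroup.normal_subgroupOf_iff_le_normalizer (Subgroup.map_subtype_le _), Subgroup.subgroupOf,
      Subgroup.comap_map_eq_self_of_injective K.subtype_injective]
    exact Solv.pCore_normal _
  have hOp : ∀ K r, IsPGroup ((r : Nat.Primes) : ℕ) ↥(O K r) := by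
    intro K r
    haveI := Fact.mk r.2
    rw [hO]
    exact (Solv.pCore_isPGroup (G := ↥K) (r : ℕ)).map _
  have hOc : ∀ (K L : Subgroup G), (∀ r, O K r ≤ L) → (∀ r, O L r ≤ K) → ∀ r s : Nat.Primes, r ≠ s →
      O K r ≤ Subgroup.centralizer ((O L s : Subgroup G) : Set G) := by
    intro K L hKL hLK r s hrs
    haveI := Fact.mk r.2
    haveI := Fact.mk s.2
    have hd : Disjoint (O K r) (O L s) :=
      (hOp K r).disjoint_of_ne _ _ (fun e => hrs (Subtype.ext e)) _ _ (hOp L s)
    refine Subgroup.commutator_eq_bot_iff_le_centralizer.1 (eq_bot_iff.2 (le_trans ?_ hd.eq_bot.le))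
    rw [Subgroup.commutator_le]
    intro a ha b hb
    refine Subgroup.mem_inf.2 ⟨?_, ?_⟩
    · rw [commutatorElement_def, mul_assoc a b, mul_assoc a]
      exact mul_mem ha ((Subgroup.mem_normalizer_iff.1 (hOn K r (hLK s hb)) _).1 (inv_mem ha))
    · rw [commutatorElement_def]
      exact mul_mem ((Subgroup.mem_normalizer_iff.1 (hOn L s (hKL r ha)) _).1 hb) (inv_mem hb)
  have hOM := hOle M N h1
  have hON := hOle N M h2
  have hKK : ∀ K r, O K r ≤ K := fun K r => by rw [hO]; exact Subgroup.map_subtype_le _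
  have hself : ∀ K r, (O K r).subgroupOf K = Cfsg.pCore ((r : Nat.Primes) : ℕ) ↥K := fun K r => by
    rw [hO, Subgroup.subgroupOf, Subgroup.comap_map_eq_self_of_injective K.subtype_injective]
  have toK : ∀ {U V K : Subgroup G}, U ≤ Subgroup.centralizer (V : Set G) →
      U.subgroupOf K ≤ Subgroup.centralizer ((V.subgroupOf K : Subgroup ↥K) : Set ↥K) := by
    intro U V K h x hx
    refine Subgroup.mem_centralizer_iff.2 fun y hy => Subtype.ext ?_
    exact Subgroup.mem_centralizer_iff.1 (h hx) _ hy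
  have hFc : ∀ K : Subgroup G, Cfsg.layer ↥K = ⊥ →
      Subgroup.centralizer (Cfsg.fittingSubgroup ↥K : Set ↥K) ≤ Cfsg.fittingSubgroup ↥K := by
    intro K hK
    have := Solv.centralizer_gfit_le (G := ↥K)
    rwa [Cfsg.generalizedFittingSubgroup, hK, bot_sup_eq] at this
  have same : ∀ K L : Subgroup G, Cfsg.layer ↥L = ⊥ → (∀ r, O K r ≤ L) → (∀ r, O L r ≤ K) →
      ∀ r, O L r = ⊥ → O K r = ⊥ := by
    intro K L hL hKL hLK r hr
    haveI := Fact.mk r.2
    have h3 : (O K r).subgroupOf L ≤ Subgroup.centralizer (Cfsg.fittingSubgroup ↥L : Set ↥L) := by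
      rw [Solv.fitting_eq_iSup_pCore, Subgroup.le_centralizer_iff]
      refine iSup_le fun s => ?_
      rw [Subgroup.le_centralizer_iff, ← hself]
      by_cases hs : r = s
      · subst hs; rw [hr]
        intro x _
        refine Subgroup.mem_centralizer_iff.2 fun y hy => ?_
        rw [SetLike.mem_coe, Subgroup.bot_subgroupOf, Subgroup.mem_bot] at hy
        rw [hy, one_mul, mul_one]
      · exact toK (hOc K L hKL hLK r s hs)
    have h4 : (O K r).subgroupOf L ≤ Cfsg.pCore (r : ℕ) ↥L :=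
      Solv.pgroup_le_pCore_of_le_fitting ((hOp K r).of_equiv (Subgroup.subgroupOfEquivOfLe (hKL r)).symm)
        (h3.trans (hFc L hL))
    rw [← hself, hr, Subgroup.bot_subgroupOf, le_bot_iff, Subgroup.subgroupOf_eq_bot,
      disjoint_iff, inf_eq_left.2 (hKL r)] at h4
    exact h4
  have half : ∀ K L : Subgroup G, IsCoatom L → Cfsg.layer ↥K = ⊥ → Cfsg.layer ↥L = ⊥ →
      (∀ r, O K r ≤ L) → (∀ r, O L r ≤ K) → ∀ p q : Nat.Primes, p ≠ q → O K q ≠ ⊥ → O L p ≤ O K p := by
    intro K L hL hK0 hL0 hKL hLK p q hpq hq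
    have hqL : O L q ≠ ⊥ := fun h => hq (same K L hL0 hKL hLK q h)
    have hnorm : Subgroup.normalizer ((O L q : Subgroup G) : Set G) = L := by
      rw [hO]
      exact norm L hL _ (Solv.pCore_normal _) fun h => hqL (by rw [hO, h, Subgroup.map_bot])
    have h5 : (O L p).subgroupOf K ≤ Cfsg.pCore (p : ℕ) ↥K := by
      refine core_step hpq hK0 _ ((O L q).subgroupOf K)
        ((hOp L p).of_equiv (Subgroup.subgroupOfEquivOfLe (hLK p)).symm)
        ((hOp L q).of_equiv (Subgroup.subgroupOfEquivOfLe (hLK q)).symm) ?_ ?_ ?_ ?_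
      · intro r hr
        rw [← hself]
        exact toK (hOc L K hLK hKL p r hr.symm)
      · intro r hr
        rw [← hself]
        exact toK (hOc L K hLK hKL q r hr.symm)
      · apply toK
        rw [hO, hO]
        intro x hx
        obtain ⟨x, hx', rfl⟩ := hx
        refine Subgroup.mem_centralizer_iff.2 ?_
        rintro _ ⟨y, hy, rfl⟩
        exact congrArg Subtype.val (Subgroup.mem_centralizer_iff.1 (cores_commute hpq hx') y hy)
      · intro y hy
        have hyL : (y : G) ∈ L := by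
          rw [← hnorm]
          refine Subgroup.centralizer_le_normalizer _ (Subgroup.mem_centralizer_iff.2 fun z hz => ?_)
          exact congrArg Subtype.val (Subgroup.mem_centralizer_iff.1 hy ⟨z, hLK q hz⟩ hz)
        rw [Subgroup.mem_normalizer_iff]
        intro z
        exact Subgroup.mem_normalizer_iff.1 (hOn L p hyL) z.1
    rw [hO K p, ← Subgroup.map_subgroupOf_eq_of_le (hLK p)]
    exact Subgroup.map_mono h5
  -- some prime
  obtain ⟨p, hp⟩ : ∃ p, O M p ≠ ⊥ := by
    by_contra hall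
    push Not at hall
    have hF0 : Cfsg.fittingSubgroup ↥M = ⊥ := by
      rw [Solv.fitting_eq_iSup_pCore, iSup_eq_bot]
      intro r
      rw [← hself, hall r, Subgroup.bot_subgroupOf]
    refine nt M hM (Subgroup.eq_bot_iff_forall _ |>.2 fun x hx => ?_)
    have := hFc M hE.1 (show (⟨x, hx⟩ : ↥M) ∈ Subgroup.centralizer (Cfsg.fittingSubgroup ↥M : Set ↥M) by
      rw [Subgroup.mem_centralizer_iff, hF0]
      intro y hy
      rw [SetLike.mem_coe, Subgroup.mem_bot] at hy
      rw [hy, one_mul, mul_one])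
    rw [hF0, Subgroup.mem_bot] at this
    exact congrArg Subtype.val this
  have huniq : ∀ q, q ≠ p → O M q = ⊥ := by
    intro q hqp
    by_contra hq
    have hq' : O N q ≠ ⊥ := fun h => hq (same M N hE.2 hOM hON q h)
    have hp' : O N p ≠ ⊥ := fun h => hp (same M N hE.2 hOM hON p h)
    have e : O M p = O N p :=
      le_antisymm (half N M hM hE.2 hE.1 hON hOM p q hqp.symm hq') (half M N hN hE.1 hE.2 hOM hON p q hqp.symm hq)
    apply hMN
    rw [← norm M hM _ (Solv.pCore_normal (p : ℕ)) (fun h => hp (by rw [hO, h, Subgroup.map_bot])), ← hO, e, hO,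
      norm N hN _ (Solv.pCore_normal (p : ℕ)) (fun h => hp' (by rw [hO, h, Subgroup.map_bot]))]
  have huniq' : ∀ q, q ≠ p → O N q = ⊥ := fun q hq => same N M hE.1 hON hOM q (huniq q hq)
  have fin : ∀ K : Subgroup G, Cfsg.layer ↥K = ⊥ → (∀ q, q ≠ p → O K q = ⊥) →
      IsPGroup (p : ℕ) ↥(Cfsg.generalizedFittingSubgroup ↥K) := by
    intro K hK hu
    haveI := Fact.mk p.2
    refine (Solv.pCore_isPGroup (G := ↥K) (p : ℕ)).to_le ?_
    rw [Cfsg.generalizedFittingSubgroup, hK, bot_sup_eq, Solv.fitting_eq_iSup_pCore]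
    refine iSup_le fun r => ?_
    by_cases hr : r = p
    · rw [hr]
    · rw [← hself, hu r hr, Subgroup.bot_subgroupOf]; exact bot_le
  exact ⟨p, p.2, fin M hE.1 huniq, fin N hE.2 huniq'⟩

end Cfsg.Agent.S1312
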