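import Cfsg.Statements.S1247
import Cfsg.Agent.S1312
import Cfsg.Agent.Lib.Solv.Component
import Cfsg.Agent.Lib.Solv.Subnormal
import Cfsg.Agent.Lib.Solv.Zipper
import Cfsg.Agent.Lib.Fusion.Cores
import Cfsg.Agent.Lib.Fusion.AB
import Cfsg.Agent.Lib.Fusion.LocalLayer
import Cfsg.Agent.Lib.Local.Basics

set_option autoImplicit false
open Cfsg
open Cfsg.Agent.Fusion
open scoped commutatorElement

namespace Cfsg.Agent.S1247

theorem core_in_gfit {H : Type*} [Group H] [Finite H] (r : ℕ) [Fact r.Prime] :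
    Cfsg.pCore r H ≤ Cfsg.generalizedFittingSubgroup H :=
  (Solv.pCore_le_fitting r).trans le_sup_right

theorem others_commute {H : Type*} [Group H] [Finite H] (q : Nat.Primes) {b : H}
    (hb : b ∈ ⨆ t : {t : Nat.Primes // t ≠ q}, Cfsg.pCore (t.1 : ℕ) H) {a : H}
    (ha : a ∈ Cfsg.pCore (q : ℕ) H) : a * b = b * a := by
  have h : (⨆ t : {t : Nat.Primes // t ≠ q}, Cfsg.pCore (t.1 : ℕ) H) ≤
      Subgroup.centralizer (Cfsg.pCore (q : ℕ) H : Set H) := by
    refine iSup_le fun t => ?_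
    exact S1312.cores_commute t.2
  exact Subgroup.mem_centralizer_iff.1 (h hb) a ha

theorem others_le_fitting {H : Type*} [Group H] [Finite H] (q : Nat.Primes) {b : H}
    (hb : b ∈ ⨆ t : {t : Nat.Primes // t ≠ q}, Cfsg.pCore (t.1 : ℕ) H) : b ∈ Cfsg.fittingSubgroup H := by
  have h : (⨆ t : {t : Nat.Primes // t ≠ q}, Cfsg.pCore (t.1 : ℕ) H) ≤ Cfsg.fittingSubgroup H := by
    refine iSup_le fun t => ?_
    haveI := Fact.mk t.1.2
    exact Solv.pCore_le_fitting _
  exact h hb

theorem layer_perfect' {H : Type*} [Group H] : Group.IsPerfect ↥(Cfsg.layer H) :=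
  Subgroup.isPerfect_iff.2 Solv.layer_perfect

theorem layer_core {H : Type*} [Group H] [Finite H] (r : ℕ) [Fact r.Prime] :
    Cfsg.layer H ≤ Subgroup.centralizer (Cfsg.pCore r H : Set H) := by
  rw [← Subgroup.commutator_eq_bot_iff_le_centralizer, eq_bot_iff, ← Solv.layer_commutator_fitting (G := H)]
  exact Subgroup.commutator_mono le_rfl (Solv.pCore_le_fitting r)

/-- A self-centralizing subnormal subgroup of `F*` contains the layer. -/
theorem layer_le {H : Type*} [Group H] (S : Subgroup H) (hSF : S ≤ Cfsg.generalizedFittingSubgroup H)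
    (hsn : (S.subgroupOf (Cfsg.generalizedFittingSubgroup H)).IsSubnormal)
    (hC : Cfsg.generalizedFittingSubgroup H ⊓ Subgroup.centralizer (S : Set H) ≤ S) :
    Cfsg.layer H ≤ S := by
  obtain ⟨F, hF⟩ : ∃ F, F = Cfsg.generalizedFittingSubgroup H := ⟨_, rfl⟩
  rw [← hF] at hSF hsn hC
  refine sSup_le fun K hK => ?_
  have hKF : K ≤ F := hF ▸ (Solv.component_le_layer hK).trans le_sup_left
  rcases Solv.component_subnormal_dichotomy (Solv.component_subgroupOf hK hKF) hsn with h | h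
  · intro x hx
    exact h (show (⟨x, hKF hx⟩ : ↥F) ∈ K.subgroupOf F from hx)
  · have h2 := congrArg (Subgroup.map F.subtype) h
    rw [Subgroup.map_commutator, Subgroup.map_subgroupOf_eq_of_le hKF, Subgroup.map_subgroupOf_eq_of_le hSF,
      Subgroup.map_bot, Subgroup.commutator_eq_bot_iff_le_centralizer] at h2
    exact (le_inf hKF h2).trans hC

/-- An `r`-subgroup normalised by `S` centralises the `r'`-part of `F*`. -/
theorem centralizes {H : Type*} [Group H] [Finite H] (S : Subgroup H)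
    (hSF : S ≤ Cfsg.generalizedFittingSubgroup H) (hE : Cfsg.layer H ≤ S)
    (hC : Cfsg.generalizedFittingSubgroup H ⊓ Subgroup.centralizer (S : Set H) ≤ S)
    (r : ℕ) [Fact r.Prime] (V : Subgroup H) (hV : IsPGroup r ↥V) (hSV : S ≤ Subgroup.normalizer (V : Set H)) :
    Cfsg.layer H ≤ Subgroup.centralizer (V : Set H) ∧
      ∀ s : ℕ, s.Prime → s ≠ r → Cfsg.pCore s H ≤ Subgroup.centralizer (V : Set H) := by
  obtain ⟨E, hEd⟩ : ∃ E, E = Cfsg.layer H := ⟨_, rfl⟩
  haveI hEn : E.Normal := hEd ▸ Local.layer_normal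
  rw [← hEd] at hE ⊢
  have hEV : E ≤ Subgroup.centralizer (V : Set H) := by
    rw [← Subgroup.commutator_eq_bot_iff_le_centralizer]
    refine Solv.commutator_eq_bot_of_perfect (hEd ▸ Solv.layer_perfect) ?_
    have hle : ⁅E, V⁆ ≤ V ⊓ E := by
      rw [Subgroup.commutator_le]
      intro e he v hv
      rw [commutatorElement_def]
      refine Subgroup.mem_inf.2 ⟨mul_mem ((Subgroup.mem_normalizer_iff.1 (hSV (hE he)) v).1 hv) (inv_mem hv), ?_⟩
      rw [mul_assoc e v, mul_assoc e]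
      exact mul_mem he (hEn.conj_mem _ (inv_mem he) v)
    have hn : ((V ⊓ E).subgroupOf E).Normal := by
      rw [Subgroup.normal_subgroupOf_iff_le_normalizer inf_le_right]
      exact fun e he => mem_normalizer_of_cj_le (by rw [cj_inf, cj_eq_self (hSV (hE he)), cj_eq_self_of_mem he])
    have hsn : (V ⊓ E).IsSubnormal := Subgroup.IsSubnormal.step _ E inf_le_right hEn.isSubnormal hn
    haveI := (hV.to_le (inf_le_left : V ⊓ E ≤ V)).isNilpotent
    have h2 := Solv.layer_commutator_solvable hsn (inferInstance : Group.IsSolvable ↥(V ⊓ E))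
    rw [← hEd, Subgroup.commutator_comm] at h2
    exact eq_bot_iff.2 (h2 ▸ Subgroup.commutator_mono hle le_rfl)
  refine ⟨hEV, fun s hs hsr => ?_⟩
  haveI := Fact.mk hs
  obtain ⟨Q, hQ⟩ : ∃ Q, Q = Cfsg.pCore s H := ⟨_, rfl⟩
  haveI hQn : Q.Normal := hQ ▸ Solv.pCore_normal _
  have hQp : IsPGroup s ↥Q := hQ ▸ Solv.pCore_isPGroup (G := H) s
  rw [← hQ, Subgroup.le_centralizer_iff]
  intro v hv
  obtain ⟨i, hi⟩ := hV ⟨v, hv⟩
  have hvs : (orderOf v).Coprime s := by
    refine Nat.Coprime.coprime_dvd_left (orderOf_dvd_of_pow_eq_one (congrArg Subtype.val hi))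
      (Nat.Coprime.pow_left _ ((Nat.coprime_primes (Fact.out : r.Prime) hs).2 (Ne.symm hsr)))
  refine mem_centralizer_of_AB (T := Q ⊓ S) hQp (hQp.to_le inf_le_left) (inf_le_left.trans Subgroup.le_normalizer)
    (by rw [Subgroup.normalizer_eq_top]; trivial) (fun t ht => ?_) hvs (fun z hz hzT => ?_)
  · obtain ⟨htQ, htS⟩ := Subgroup.mem_inf.1 ht
    have h1 : t * v * t⁻¹ * v⁻¹ ∈ Q ⊓ V := by
      refine Subgroup.mem_inf.2 ⟨?_, ?_⟩
      · rw [mul_assoc t v, mul_assoc t]
        exact mul_mem htQ (hQn.conj_mem _ (inv_mem htQ) v)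
      · exact mul_mem ((Subgroup.mem_normalizer_iff.1 (hSV htS) v).1 hv) (inv_mem hv)
    rw [(hQp.disjoint_of_ne _ _ hsr _ _ hV).eq_bot, Subgroup.mem_bot, mul_inv_eq_one, mul_inv_eq_iff_eq_mul] at h1
    exact h1.symm
  · -- `z` commutes with all of `S`
    have hzF : z ∈ Cfsg.generalizedFittingSubgroup H := core_in_gfit s (hQ ▸ hz)
    have hzS : z ∈ S := by
      refine hC (Subgroup.mem_inf.2 ⟨hzF, Subgroup.mem_centralizer_iff.2 fun w hw => ?_⟩)
      obtain ⟨e, he, f, hf, rfl⟩ := Subgroup.mem_sup_of_normal_left.1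
        (show w ∈ E ⊔ Cfsg.fittingSubgroup H by rw [hEd]; exact hSF hw)
      have hfS : f ∈ S := (Subgroup.mul_mem_cancel_left S (hE he)).1 hw
      have hze : e * z = z * e := (Subgroup.mem_centralizer_iff.1 (layer_core s (hEd ▸ he)) z (hQ ▸ hz)).symm
      obtain ⟨a, b, hab, ha, hb⟩ := S1312.pgroup_split ⟨s, hs⟩ hf
      have hbz : z * b = b * z := others_commute ⟨s, hs⟩ hb (show z ∈ Cfsg.pCore s H by rw [← hQ]; exact hz)
      -- `a` is a power of `f`, hence lies in `S`
      have hab' : Commute a b := others_commute ⟨s, hs⟩ hb ha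
      obtain ⟨j, hj⟩ := Solv.pCore_isPGroup (G := H) s ⟨a, ha⟩
      have haj : orderOf a ∣ s ^ j := orderOf_dvd_of_pow_eq_one (congrArg Subtype.val hj)
      have hbc : (orderOf b).Coprime s := by
        have hF := Solv.fittingSubgroup_normal (G := H)
        by_contra hnc
        have hd : s ∣ orderOf b := by
          by_contra hnd; exact hnc (Nat.Coprime.symm ((Nat.Prime.coprime_iff_not_dvd hs).2 hnd))
        obtain ⟨k, hk⟩ := hd
        have hb0 : 0 < orderOf b := orderOf_pos b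
        have hbk : orderOf (b ^ k) = s := by
          rw [orderOf_pow_of_dvd (fun h => by rw [h, mul_zero] at hk; omega) ⟨s, by rw [hk, mul_comm]⟩, hk,
            Nat.mul_div_cancel _ (Nat.pos_of_ne_zero fun h => by rw [h, mul_zero] at hk; omega)]
        have hbkF : b ^ k ∈ Cfsg.fittingSubgroup H := by
          refine pow_mem ?_ k
          exact others_le_fitting ⟨s, hs⟩ hb
        have hbkQ : b ^ k ∈ Cfsg.pCore s H := by
          refine Solv.pgroup_le_pCore_of_le_fitting (A := Subgroup.zpowers (b ^ k)) ?_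
            (Subgroup.zpowers_le.2 hbkF) (Subgroup.mem_zpowers _)
          exact IsPGroup.of_card (n := 1) (by rw [Nat.card_zpowers, hbk, pow_one])
        have hc1 : b ^ k = 1 := by
          have hd2 : Disjoint (Cfsg.pCore s H)
              (⨆ t : {t : Nat.Primes // t ≠ ⟨s, hs⟩}, Cfsg.pCore (t.1 : ℕ) H) := by
            haveI := Solv.pPrimeCore_normal (G := H) s
            refine Disjoint.mono_right (c := Cfsg.pPrimeCore s H) (iSup_le fun t => ?_) ?_
            · haveI := Fact.mk t.1.2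
              haveI := Solv.pCore_normal (G := H) (t.1 : ℕ)
              refine Solv.normal_le_pPrimeCore ?_
              obtain ⟨m, hm⟩ := (Solv.pCore_isPGroup (G := H) (t.1 : ℕ)).exists_card_eq
              rw [hm]
              exact Nat.Coprime.pow_left m ((Nat.coprime_primes t.1.2 hs).2 fun e => t.2 (Subtype.ext e))
            · rw [disjoint_iff, inf_comm]
              exact coprime_inf_pGroup (Solv.pPrimeCore_coprime s) (Solv.pCore_isPGroup s)
          exact Subgroup.mem_bot.1 (hd2.le_bot (Subgroup.mem_inf.2 ⟨hbkQ, pow_mem hb k⟩))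
        rw [hc1, orderOf_one] at hbk
        exact hs.one_lt.ne hbk
      have haS : a ∈ S := by
        have hco : (orderOf a).Coprime (orderOf b) :=
          Nat.Coprime.coprime_dvd_left haj (Nat.Coprime.pow_left j hbc.symm)
        have hpow : f ^ orderOf b = a ^ orderOf b := by
          rw [hab, hab'.mul_pow, pow_orderOf_eq_one, mul_one]
        obtain ⟨m, hm⟩ := exists_pow_eq_self_of_coprime hco.symm
        rw [← hm, ← hpow]
        exact pow_mem (pow_mem hfS _) m
      have haz : z * a = a * z := hzT a (Subgroup.mem_inf.2 ⟨hQ ▸ ha, haS⟩)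
      rw [hab, mul_assoc e, mul_assoc a b z, ← hbz, ← mul_assoc a z b, ← haz, mul_assoc z a b, ← mul_assoc e, hze,
        mul_assoc z]
    have h1 : z * v * z⁻¹ * v⁻¹ ∈ Q ⊓ V := by
      refine Subgroup.mem_inf.2 ⟨?_, ?_⟩
      · rw [mul_assoc z v, mul_assoc z]
        exact mul_mem hz (hQn.conj_mem _ (inv_mem hz) v)
      · exact mul_mem ((Subgroup.mem_normalizer_iff.1 (hSV hzS) v).1 hv) (inv_mem hv)
    rw [(hQp.disjoint_of_ne _ _ hsr _ _ hV).eq_bot, Subgroup.mem_bot, mul_inv_eq_one, mul_inv_eq_iff_eq_mul] at h1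
    exact h1.symm

/-- Let G be a non-abelian finite simple group, A a maximal subgroup, F = F*(A) its generalized Fitting subgroup (viewed in G), and S ≤ F a subgroup subnormal in F with C_F(S) ≤ S. Let B be any subgroup of G containing S. Then (a) for every prime q not dividing |F(A)|, O_q(B) ∩ A = 1; and (b) for every prime p dividing |F(A)|, O_p(B) commutes elementwise with the subgroup of F generated by its elements of order prime to p. -/
theorem result {G : Type*} [Group G] [Finite G] [IsSimpleGroup G] (hna : ¬ IsMulCommutative G) (A : Subgroup G) (hA : IsCoatom A) (S : Subgroup G) (hSF : S ≤ (Cfsg.generalizedFittingSubgroup ↥A).map A.subtype) (hSsn : (S.subgroupOf ((Cfsg.generalizedFittingSubgroup ↥A).map A.subtype)).IsSubnormal) (hSC : (Cfsg.generalizedFittingSubgroup ↥A).map A.subtype ⊓ Subgroup.centralizer (S : Set G) ≤ S) (B : Subgroup G) (hSB : S ≤ B) : (∀ q : ℕ, q.Prime → ¬ q ∣ Nat.card (Cfsg.fittingSubgroup ↥A) → (Cfsg.pCore q ↥B).map B.subtype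 ⊓ A = ⊥) ∧ (∀ p : ℕ, p.Prime → p ∣ Nat.card (Cfsg.fittingSubgroup ↥A) → ∀ x ∈ (Cfsg.pCore p ↥B).map B.subtype, ∀ y ∈ (Cfsg.pResidual p ↥(Cfsg.generalizedFittingSubgroup ↥A)).map ((Cfsg.generalizedFittingSubgroup ↥A).subtype) , x * (A.subtype y) = (A.subtype y) * x) := by
  obtain ⟨S', hS'⟩ : ∃ S', S' = S.subgroupOf A := ⟨_, rfl⟩
  have hSA : S ≤ A := hSF.trans (Subgroup.map_subtype_le _)
  have hSF' : S' ≤ Cfsg.generalizedFittingSubgroup ↥A := by
    intro x hx
    rw [hS'] at hx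
    obtain ⟨y, hy, hyx⟩ := hSF hx
    have : y = x := Subtype.ext hyx
    exact this ▸ hy
  have hC' : Cfsg.generalizedFittingSubgroup ↥A ⊓ Subgroup.centralizer (S' : Set ↥A) ≤ S' := by
    intro x hx
    rw [hS']
    refine hSC (Subgroup.mem_inf.2 ⟨⟨x, (Subgroup.mem_inf.1 hx).1, rfl⟩, Subgroup.mem_centralizer_iff.2 fun y hy => ?_⟩)
    exact congrArg Subtype.val (Subgroup.mem_centralizer_iff.1 (Subgroup.mem_inf.1 hx).2 ⟨y, hSA hy⟩ (hS' ▸ hy))
  have hsn' : (S'.subgroupOf (Cfsg.generalizedFittingSubgroup ↥A)).IsSubnormal := by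
    let e := (Cfsg.generalizedFittingSubgroup ↥A).equivMapOfInjective A.subtype A.subtype_injective
    have he : S'.subgroupOf (Cfsg.generalizedFittingSubgroup ↥A) =
        (S.subgroupOf ((Cfsg.generalizedFittingSubgroup ↥A).map A.subtype)).map e.symm.toMonoidHom := by
      ext x
      rw [Subgroup.mem_map_equiv, MulEquiv.symm_symm]
      show (x : ↥A) ∈ S' ↔ ((e x : G)) ∈ S
      rw [hS']; rfl
    rw [he]
    exact Subgroup.IsSubnormal.map (f := e.symm.toMonoidHom) e.symm.surjective hSsn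
  have hE := layer_le S' hSF' hsn' hC'
  have norm : ∀ U : Subgroup ↥A, U.Normal → U ≠ ⊥ →
      Subgroup.normalizer ((U.map A.subtype : Subgroup G) : Set G) = A := by
    intro U hU hU1
    have hle : A ≤ Subgroup.normalizer ((U.map A.subtype : Subgroup G) : Set G) := by
      rw [← Subgroup.normal_subgroupOf_iff_le_normalizer (Subgroup.map_subtype_le U), Subgroup.subgroupOf,
        Subgroup.comap_map_eq_self_of_injective A.subtype_injective]
      exact hU
    refine (hle.eq_or_lt.resolve_right fun hlt => ?_).symm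
    have hn := Subgroup.normalizer_eq_top_iff.1 (hA.2 _ hlt)
    rcases hn.eq_bot_or_eq_top with h | h
    · exact hU1 ((Subgroup.map_eq_bot_iff_of_injective _ A.subtype_injective).1 h)
    · exact hA.1 (top_le_iff.1 (h ▸ Subgroup.map_subtype_le U))
  have hdvd : ∀ r : ℕ, r.Prime → (r ∣ Nat.card (Cfsg.fittingSubgroup ↥A) ↔ Cfsg.pCore r ↥A ≠ ⊥) := by
    intro r hr
    haveI := Fact.mk hr
    constructor
    · intro hd hb
      obtain ⟨x, hx⟩ := exists_prime_orderOf_dvd_card' r hd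
      have hx' : Subgroup.zpowers (x : ↥A) ≤ Cfsg.pCore r ↥A :=
        Solv.pgroup_le_pCore_of_le_fitting
          (IsPGroup.of_card (n := 1) (by rw [Nat.card_zpowers, Subgroup.orderOf_coe, hx, pow_one]))
          (Subgroup.zpowers_le.2 x.2)
      rw [hb, le_bot_iff, Subgroup.zpowers_eq_bot] at hx'
      rw [show x = 1 from Subtype.ext hx', orderOf_one] at hx
      exact hr.one_lt.ne hx
    · intro hne
      haveI : Nontrivial ↥(Cfsg.pCore r ↥A) := (Subgroup.nontrivial_iff_ne_bot _).2 hne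
      obtain ⟨j, hj, hj'⟩ := (IsPGroup.nontrivial_iff_card (Solv.pCore_isPGroup (G := ↥A) r)).1 inferInstance
      exact (dvd_pow_self r hj.ne').trans (hj' ▸ Subgroup.card_dvd_of_le (Solv.pCore_le_fitting r))
  have hnormO : ∀ r : ℕ, S ≤ Subgroup.normalizer (((Cfsg.pCore r ↥B).map B.subtype : Subgroup G) : Set G) := by
    intro r
    refine hSB.trans ?_
    rw [← Subgroup.normal_subgroupOf_iff_le_normalizer (Subgroup.map_subtype_le _), Subgroup.subgroupOf,
      Subgroup.comap_map_eq_self_of_injective B.subtype_injective]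
    exact Solv.pCore_normal _
  have hV : ∀ r : ℕ, r.Prime → IsPGroup r ↥(((Cfsg.pCore r ↥B).map B.subtype).subgroupOf A) ∧
      S' ≤ Subgroup.normalizer ((((Cfsg.pCore r ↥B).map B.subtype).subgroupOf A : Subgroup ↥A) : Set ↥A) := by
    intro r hr
    haveI := Fact.mk hr
    refine ⟨((Solv.pCore_isPGroup (G := ↥B) r).map _).comap_of_injective A.subtype A.subtype_injective, fun x hx => ?_⟩
    rw [Subgroup.mem_normalizer_iff]
    intro y
    have hxS : (x : G) ∈ S := by rw [hS', Subgroup.mem_subgroupOf] at hx; exact hx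
    exact Subgroup.mem_normalizer_iff.1 (hnormO r hxS) y.1
  refine ⟨fun q hq hqd => ?_, fun p hp hpd => ?_⟩
  · haveI := Fact.mk hq
    obtain ⟨hVp, hVn⟩ := hV q hq
    obtain ⟨V, hVd⟩ : ∃ V, V = ((Cfsg.pCore q ↥B).map B.subtype).subgroupOf A := ⟨_, rfl⟩
    rw [← hVd] at hVp hVn
    obtain ⟨h1, h2⟩ := centralizes S' hSF' hE hC' q V hVp hVn
    have hQ0 : Cfsg.pCore q ↥A = ⊥ := not_not.1 ((not_congr (hdvd q hq)).1 hqd)
    have h3 : Cfsg.generalizedFittingSubgroup ↥A ≤ Subgroup.centralizer (V : Set ↥A) := by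
      refine sup_le h1 ?_
      rw [Solv.fitting_eq_iSup_pCore]
      refine iSup_le fun s => ?_
      by_cases hs : (s : ℕ) = q
      · rw [hs, hQ0]; exact bot_le
      · exact h2 s s.2 hs
    have h4 : V ≤ Cfsg.generalizedFittingSubgroup ↥A :=
      (Subgroup.le_centralizer_iff.1 h3).trans Solv.centralizer_gfit_le
    have h5 : V ≤ Cfsg.fittingSubgroup ↥A := by
      refine Solv.subnormal_nilpotent_le_fitting ?_ hVp.isNilpotent
      refine Subgroup.IsSubnormal.step V _ h4 Local.gfit_normal.isSubnormal ?_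
      rw [Subgroup.normal_subgroupOf_iff_le_normalizer h4]
      exact (Subgroup.le_centralizer_iff.1 (Subgroup.le_centralizer_iff.1 h3)).trans (Subgroup.centralizer_le_normalizer _)
    have h6 := Solv.pgroup_le_pCore_of_le_fitting hVp h5
    rw [hQ0, le_bot_iff, hVd, Subgroup.subgroupOf_eq_bot] at h6
    exact h6.eq_bot
  haveI := Fact.mk hp
  obtain ⟨W, hWd⟩ : ∃ W, W = (Cfsg.pCore p ↥B).map B.subtype := ⟨_, rfl⟩
  rw [← hWd]
  have hWp : IsPGroup p ↥W := hWd ▸ (Solv.pCore_isPGroup (G := ↥B) p).map _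
  obtain ⟨hVp, hVn⟩ := hV p hp
  obtain ⟨h1, h2⟩ := centralizes S' hSF' hE hC' p _ hVp hVn
  rw [← hWd] at hVp hVn h1 h2
  -- the `p'`-part of `F*`
  obtain ⟨K, hK⟩ : ∃ K, K = Cfsg.layer ↥A ⊔ ⨆ s : {s : Nat.Primes // (s : ℕ) ≠ p}, Cfsg.pCore (s.1 : ℕ) ↥A := ⟨_, rfl⟩
  have hKV : K ≤ Subgroup.centralizer ((W.subgroupOf A : Subgroup ↥A) : Set ↥A) := by
    rw [hK]
    refine sup_le h1 (iSup_le fun s => ?_)
    exact h2 s.1 s.1.2 s.2
  have hKc : K ≤ Subgroup.centralizer (Cfsg.pCore p ↥A : Set ↥A) := by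
    rw [hK]
    refine sup_le (layer_core p) (iSup_le fun s => ?_)
    exact S1312.cores_commute (p := s.1) (q := ⟨p, hp⟩) fun e => s.2 (congrArg Subtype.val e)
  have hcen : ∀ r : ℕ, r.Prime → ∀ U : Subgroup ↥A, U ≤ Cfsg.pCore r ↥A →
      Cfsg.pCore r ↥A ≤ Subgroup.centralizer (U : Set ↥A) → U ≤ S' := by
    intro r hr U hU hUc
    haveI := Fact.mk hr
    refine le_trans (le_inf (hU.trans (core_in_gfit r)) ?_) hC'
    rw [Subgroup.le_centralizer_iff]
    refine hSF'.trans (sup_le ((layer_core r).trans (Subgroup.centralizer_le (SetLike.coe_subset_coe.2 hU))) ?_)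
    rw [Solv.fitting_eq_iSup_pCore]
    refine iSup_le fun s => ?_
    by_cases hs : s = ⟨r, hr⟩
    · rw [hs]; exact hUc
    · exact (S1312.cores_commute hs).trans (Subgroup.centralizer_le (SetLike.coe_subset_coe.2 hU))
  have hZ : ∀ r : ℕ, r.Prime → Cfsg.pCore r ↥A ≠ ⊥ → ∃ U : Subgroup ↥A, U.Normal ∧ U ≠ ⊥ ∧ U ≤ S' ∧ U ≤ Cfsg.pCore r ↥A := by
    intro r hr hne
    haveI := Fact.mk hr
    haveI := Solv.pCore_normal (G := ↥A) r
    haveI : Nontrivial ↥(Cfsg.pCore r ↥A) := (Subgroup.nontrivial_iff_ne_bot _).2 hne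
    refine ⟨(Subgroup.center ↥(Cfsg.pCore r ↥A)).map (Cfsg.pCore r ↥A).subtype,
      Solv.map_subtype_normal_of_characteristic _ _, ?_, hcen r hr _ (Subgroup.map_subtype_le _) ?_,
      Subgroup.map_subtype_le _⟩
    · rw [Ne, Subgroup.map_eq_bot_iff_of_injective _ (Subgroup.subtype_injective _)]
      haveI := (Solv.pCore_isPGroup (G := ↥A) r).center_nontrivial
      exact (Subgroup.nontrivial_iff_ne_bot _).1 inferInstance
    · intro y hy
      rw [Subgroup.mem_centralizer_iff]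
      rintro _ ⟨u, hu, rfl⟩
      exact (congrArg Subtype.val (Subgroup.mem_center_iff.1 hu ⟨y, hy⟩)).symm
  have centLe : ∀ U : Subgroup ↥A, U.Normal → U ≠ ⊥ →
      Subgroup.centralizer ((U.map A.subtype : Subgroup G) : Set G) ≤ A := fun U h1' h2' =>
    (Subgroup.centralizer_le_normalizer _).trans (norm U h1' h2').le
  obtain ⟨Zp, hZpn, hZp0, hZpS, hZpO⟩ := hZ p hp ((hdvd p hp).1 hpd)
  -- `p'`-elements of `S` in `K` centralise `W`
  have hk : ∀ k ∈ K, k ∈ S' → (orderOf k).Coprime p → (k : G) ∈ Subgroup.centralizer (W : Set G) := by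
    intro k hkK hkS hko
    refine mem_centralizer_of_AB (T := (Cfsg.pCore p ↥A ⊓ S').map A.subtype) hWp
      (((Solv.pCore_isPGroup (G := ↥A) p).to_le inf_le_left).map _) ?_
      (hWd ▸ hnormO p (by rw [hS', Subgroup.mem_subgroupOf] at hkS; exact hkS)) ?_ (by rwa [Subgroup.orderOf_coe]) ?_
    · rintro _ ⟨x, hx, rfl⟩
      have hxS := (Subgroup.mem_inf.1 hx).2
      rw [hS', Subgroup.mem_subgroupOf] at hxS
      exact hWd ▸ hnormO p hxS
    · rintro _ ⟨x, hx, rfl⟩
      exact (congrArg Subtype.val (Subgroup.mem_centralizer_iff.1 (hKc hkK) x (Subgroup.mem_inf.1 hx).1)).symm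
    · intro w hw hwT
      have hwA : w ∈ A := by
        refine centLe Zp hZpn hZp0 (Subgroup.mem_centralizer_iff.2 ?_)
        rintro _ ⟨u, hu, rfl⟩
        exact (hwT _ ⟨u, Subgroup.mem_inf.2 ⟨hZpO hu, hZpS hu⟩, rfl⟩).symm
      exact (congrArg Subtype.val (Subgroup.mem_centralizer_iff.1 (hKV hkK) ⟨w, hwA⟩ hw)).symm
  have hWE : (Cfsg.layer ↥A).map A.subtype ≤ Subgroup.centralizer (W : Set G) := by
    rw [Subgroup.map_le_iff_le_comap]
    refine Fusion.le_of_pPrime_elements layer_perfect' fun k hk' hko => hk k (hK ▸ Subgroup.mem_sup_left hk') (hE hk') hko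
  have hWs : ∀ s : Nat.Primes, (s : ℕ) ≠ p → (Cfsg.pCore (s : ℕ) ↥A ⊓ S').map A.subtype ≤ Subgroup.centralizer (W : Set G) := by
    intro s hs
    haveI := Fact.mk s.2
    rintro _ ⟨k, hk', rfl⟩
    refine hk k (hK ▸ Subgroup.mem_sup_right
      ((le_iSup (fun s : {s : Nat.Primes // (s : ℕ) ≠ p} => Cfsg.pCore (s.1 : ℕ) ↥A) ⟨s, hs⟩) (Subgroup.mem_inf.1 hk').1))
      (Subgroup.mem_inf.1 hk').2 ?_
    obtain ⟨j, hj⟩ := Solv.pCore_isPGroup (G := ↥A) (s : ℕ) ⟨k, (Subgroup.mem_inf.1 hk').1⟩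
    exact Nat.Coprime.coprime_dvd_left (orderOf_dvd_of_pow_eq_one (congrArg Subtype.val hj))
      (Nat.Coprime.pow_left _ ((Nat.coprime_primes s.2 hp).2 hs))
  -- hence `W` centralises `K`
  have hWK : K = ⊥ ∨ W ≤ A := by
    by_cases hE0 : Cfsg.layer ↥A = ⊥
    · by_cases hs : ∀ s : {s : Nat.Primes // (s : ℕ) ≠ p}, Cfsg.pCore (s.1 : ℕ) ↥A = ⊥
      · left
        rw [hK, hE0, bot_sup_eq, iSup_eq_bot]
        exact hs
      · right
        push Not at hs
        obtain ⟨s, hs⟩ := hs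
        obtain ⟨U, hUn, hU0, hUS, hUO⟩ := hZ s.1 s.1.2 hs
        refine le_trans ?_ (centLe U hUn hU0)
        rw [Subgroup.le_centralizer_iff]
        exact (Subgroup.map_mono (le_inf hUO hUS)).trans (hWs s.1 s.2)
    · right
      refine le_trans ?_ (centLe _ Local.layer_normal hE0)
      rw [Subgroup.le_centralizer_iff]
      exact hWE
  have hres : Cfsg.pResidual p ↥(Cfsg.generalizedFittingSubgroup ↥A) ≤
      K.subgroupOf (Cfsg.generalizedFittingSubgroup ↥A) := by
    refine (Subgroup.closure_le _).2 fun f hf => ?_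
    have hle : Cfsg.generalizedFittingSubgroup ↥A ≤ K ⊔ Cfsg.pCore p ↥A := by
      refine sup_le (hK ▸ le_sup_of_le_left le_sup_left) ?_
      rw [Solv.fitting_eq_iSup_pCore]
      refine iSup_le fun s => ?_
      by_cases hs : (s : ℕ) = p
      · rw [hs]; exact le_sup_right
      · exact hK ▸ le_sup_of_le_left (le_sup_of_le_right
          (le_iSup (fun s : {s : Nat.Primes // (s : ℕ) ≠ p} => Cfsg.pCore (s.1 : ℕ) ↥A) ⟨s, hs⟩))
    haveI := Solv.pCore_normal (G := ↥A) p
    obtain ⟨k, hk', u, hu, hku⟩ := Subgroup.mem_sup_of_normal_right.1 (hle f.2)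
    obtain ⟨j, hj⟩ := Solv.pCore_isPGroup (G := ↥A) p ⟨u, hu⟩
    have hpow : (f : ↥A) ^ p ^ j ∈ K := by
      rw [← hku, Commute.mul_pow ((Subgroup.mem_centralizer_iff.1 (hKc hk') u hu).symm : Commute k u),
        show u ^ p ^ j = 1 from congrArg Subtype.val hj, mul_one]
      exact pow_mem hk' _
    have hf' : (orderOf (f : ↥A)).Coprime p := by rw [Subgroup.orderOf_coe]; exact hf
    obtain ⟨m, hm⟩ := exists_pow_eq_self_of_coprime (x := (f : ↥A)) (n := p ^ j) (hf'.pow_right j).symm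
    show (f : ↥A) ∈ K
    rw [← hm]
    exact pow_mem hpow m
  intro x hx y hy
  obtain ⟨y', hy', rfl⟩ := hy
  have hyK : (y' : ↥A) ∈ K := hres hy'
  rcases hWK with h | h
  · rw [h, Subgroup.mem_bot] at hyK
    show x * A.subtype (y' : ↥A) = A.subtype (y' : ↥A) * x
    rw [hyK, map_one, one_mul, mul_one]
  · exact congrArg Subtype.val (Subgroup.mem_centralizer_iff.1 (hKV hyK) ⟨x, h hx⟩ hx)

end Cfsg.Agent.S1247
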