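import Cfsg.Statements.S4492
import Cfsg.Agent.Lib.Char.OverBlock
import Cfsg.Agent.Lib.Char.OneBlock
import Cfsg.Agent.Lib.Fusion.PConstrained
import Cfsg.Agent.Lib.Solv.PSolvHall

set_option autoImplicit false
open Cfsg
open scoped ComplexConjugate

namespace Cfsg.Agent.S4492

/-- Let G be a finite p-solvable group, N = O_{p'}(G) its largest normal subgroup of order prime to p, and θ an irreducible character of N invariant under conjugation by G; fix a maximal ideal M of the algebraic integers containing p. Then the irreducible characters of G lying over θ (those whose restriction to N contains θ) form a single p-block of G, and the defect groups of that block are exactly the Sylow p-subgroups of G. -/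
theorem result {G : Type*} [Group G] [Fintype G] (p : ℕ) [Fact p.Prime] (M : Ideal Cfsg.AlgInt) (hM : Cfsg.IsPModular p M) (hsolv : Cfsg.IsPSolvable p G) (N : Subgroup G) [hN : N.Normal] [Fintype N] (hNdef : N = Cfsg.pPrimeCore p G) (θ : Cfsg.IrrCharacter N) (hinv : ∀ (g : G) (n : N), (θ : N → ℂ) ⟨g * n * g⁻¹, hN.conj_mem n n.2 g⟩ = (θ : N → ℂ) n) : ∃ B : Set (Cfsg.IrrCharacter G), Cfsg.IsPBlock M B ∧ (∀ χ : Cfsg.IrrCharacter G, χ ∈ B ↔ Cfsg.classInner (fun n : N => (χ : G → ℂ) n) (θ : N → ℂ) ≠ 0) ∧ (∀ P : Sylow p G, Cfsg.IsDefectGroup p M B (P : Subgroup G)) ∧ ∀ D : Subgroup G, Cfsg.IsDefectGroup p M B D → ∃ P : Sylow p G, D = (P : Subgroup G) := by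
  subst hNdef
  set L := Cfsg.pPrimePCore p G with hL
  haveI : L.Normal := Cfsg.Agent.Fusion.pPrimePCore_normal
  obtain ⟨P₀⟩ : Nonempty (Sylow p L) := inferInstance
  set Q := (P₀ : Subgroup L).map L.subtype
  have hQ : Cfsg.Agent.Fusion.SylIn p Q L := Cfsg.Agent.Fusion.sylIn_map L P₀
  have hp : p.Prime := Fact.out
  have hc := Cfsg.Agent.Char.centralizer_pCore_le_of_pSolvable
    (Cfsg.Agent.Solv.isPSolvable_map hp hsolv (QuotientGroup.mk' (Cfsg.pPrimeCore p G))
      (QuotientGroup.mk'_surjective _))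
    Cfsg.Agent.Fusion.pPrimeCore_quotient_eq_bot
  have hctx : Cfsg.Agent.Char.OverCtx p (Cfsg.pPrimeCore p G) L Q := by
    refine ⟨inferInstance, inferInstance, fun hd => ?_, Cfsg.Agent.Fusion.pPrimeCore_le_pPrimePCore,
      ?_, hQ.le, hQ.isPGroup, fun x hx _ => ?_⟩
    · exact (Nat.Prime.dvd_iff_not_coprime hp).mp hd
        (Cfsg.Agent.Fusion.card_pPrimeCore_coprime p G).symm
    · obtain ⟨j, hj⟩ := IsPGroup.iff_card.mp
        (Cfsg.Agent.Fusion.isPGroup_pCore p (G ⧸ Cfsg.pPrimeCore p G))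
      refine ⟨j, ?_⟩
      have h2 := Subgroup.relIndex_ker (f := QuotientGroup.mk' (Cfsg.pPrimeCore p G)) (K := L)
      rw [QuotientGroup.ker_mk', hL, Cfsg.Agent.Fusion.map_pPrimePCore] at h2
      rw [hL, h2, hj]
    · refine Subgroup.mem_comap.2 (hc ?_)
      rw [← Cfsg.Agent.Fusion.map_sylIn_pPrimePCore hQ, Subgroup.mem_centralizer_iff]
      rintro _ ⟨q, hq, rfl⟩
      rw [← map_mul, ← map_mul, Subgroup.mem_centralizer_iff.1 hx q hq]
  refine ⟨{χ : Cfsg.IrrCharacter G | Cfsg.classInner (fun n : ↥(Cfsg.pPrimeCore p G) => (χ : G → ℂ) n)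
    (θ : ↥(Cfsg.pPrimeCore p G) → ℂ) ≠ 0}, ?_, fun χ => Iff.rfl, ?_, fun D hD => ?_⟩
  · exact (hctx.isPBlock hM θ hinv _ (fun χ => Iff.rfl)).1
  · exact (hctx.isPBlock hM θ hinv _ (fun χ => Iff.rfl)).2
  · obtain ⟨hB, hall⟩ := hctx.isPBlock hM θ hinv _ (fun χ => Iff.rfl)
    obtain ⟨P⟩ : Nonempty (Sylow p G) := inferInstance
    obtain ⟨t, ht⟩ := Cfsg.Agent.Char.defect_groups_conj hM hB (hall P) hD
    exact ⟨t • P, by rw [ht, Sylow.coe_subgroup_smul]; rfl⟩

end Cfsg.Agent.S4492
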