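import Cfsg.Statements.S0253
import Cfsg.Agent.Lib.Classical.SL2FourSylow
import Cfsg.Agent.Lib.Classical.AltFiveIso

set_option autoImplicit false
open Cfsg

namespace Cfsg.Agent.S0253

open Cfsg.Agent.Classical Cfsg.Agent.Classical.SL2Four Cfsg.Agent.Small in
theorem main {F : Type*} [Field F] [Fintype F] (hF : Fintype.card F = 5) :
    Nonempty (Matrix.ProjectiveSpecialLinearGroup (Fin 2) F ≃* alternatingGroup (Fin 5)) := by
  have h2 : (2 : F) ≠ 0 := two_ne_zero_of_odd hF (by decide)
  have hG : IsSimpleGroup (Matrix.ProjectiveSpecialLinearGroup (Fin 2) F) :=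
    Matrix.ProjectiveSpecialLinearGroup.rank_two_simple (by rw [Nat.card_eq_fintype_card, hF]; norm_num)
  have hP : Nat.card (Matrix.ProjectiveSpecialLinearGroup (Fin 2) F) = 60 := by
    have h := card_SL_eq (F := F) h2
    rw [SL2C.card_SL2, hF] at h
    norm_num at h
    omega
  have hK : Nat.card {V : Subgroup (Matrix.ProjectiveSpecialLinearGroup (Fin 2) F) // IsKleinFour V} = 5 := by
    have := twelve_mul_card_klein (F := F) h2
    omega
  let act : MulAction (Matrix.ProjectiveSpecialLinearGroup (Fin 2) F)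
      {V : Subgroup (Matrix.ProjectiveSpecialLinearGroup (Fin 2) F) // IsKleinFour V} :=
    { smul := fun g V => ⟨V.1.map (MulAut.conj g).toMonoidHom, @klein_map _ _ V.1 V.2 g⟩
      one_smul := fun V => Subtype.ext <| by
        show V.1.map _ = V.1
        rw [map_one]
        exact Subgroup.map_id _
      mul_smul := fun g h V => Subtype.ext <| by
        show V.1.map _ = (V.1.map _).map _
        rw [Subgroup.map_map]
        congr 1
        ext x; simp [mul_assoc] }
  refine nonempty_equiv_alt_five hG hP hK ?_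
  by_contra! hall
  obtain ⟨⟨V, hV⟩⟩ : Nonempty {V : Subgroup (Matrix.ProjectiveSpecialLinearGroup (Fin 2) F) // IsKleinFour V} :=
    (Nat.card_pos_iff.mp (by omega)).1
  have hn : V.Normal := ⟨fun n hn g => by
    have h : V.map (MulAut.conj g).toMonoidHom = V := congrArg Subtype.val (hall g ⟨V, hV⟩)
    have h' : g * n * g⁻¹ ∈ V.map (MulAut.conj g).toMonoidHom :=
      ⟨n, hn, by simp⟩
    rwa [h] at h'⟩
  have h4 : Nat.card V = 4 := IsKleinFour.card_four
  rcases hG.eq_bot_or_eq_top_of_normal V hn with rfl | rfl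
  · rw [Subgroup.card_bot] at h4; omega
  · rw [Subgroup.card_top] at h4; omega

/-- PSL_2(5) is isomorphic to A_5. -/
theorem result {F : Type*} [Field F] [Fintype F] (hF : Fintype.card F = 5) : Nonempty (Matrix.ProjectiveSpecialLinearGroup (Fin 2) F ≃* alternatingGroup (Fin 5)) := by
  exact main hF

end Cfsg.Agent.S0253
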