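import Cfsg.Statements.S3378
import Cfsg.Agent.Lib.Perm.Fpf.Structure
import Cfsg.Agent.Lib.Fusion.NPC
import Cfsg.Agent.Lib.Char.Burnside

set_option autoImplicit false
open Cfsg

namespace Cfsg.Agent.S3378

open Cfsg.Agent.Perm.Fpf

universe u

/-- The relations of the binary icosahedral group. -/
def Rels {G : Type u} [Group G] (x y z : G) : Prop :=
  x ^ 3 = 1 ∧ y ^ 5 = 1 ∧ z ^ 2 = 1 ∧ z * x = x * z ∧ z * y = y * z ∧ (x * y) ^ 2 = z

theorem bound_subgroup {G : Type u} [Group G] {y z : G} (hy : y ^ 5 = 1) (hz : z ^ 2 = 1)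
    (hzy : z * y = y * z) :
    Finite (Subgroup.closure ({y, z} : Set G)) ∧
      Nat.card (Subgroup.closure ({y, z} : Set G)) ≤ 10 := by
  have hc : Commute z y := hzy
  have key : ∀ g ∈ Subgroup.closure ({y, z} : Set G), ∃ i j : ℕ, g = y ^ i * z ^ j := by
    intro g hg
    induction hg using Subgroup.closure_induction with
    | mem w hw =>
      rcases hw with rfl | rfl
      · exact ⟨1, 0, by simp⟩
      · exact ⟨0, 1, by simp⟩
    | one => exact ⟨0, 0, by simp⟩
    | mul a b _ _ ha hb =>
      obtain ⟨i, j, rfl⟩ := ha; obtain ⟨k, l, rfl⟩ := hb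
      refine ⟨i + k, j + l, ?_⟩
      rw [pow_add, pow_add, mul_assoc, ← mul_assoc (z ^ j), (hc.pow_pow j k).eq]
      simp only [mul_assoc]
    | inv a _ ha =>
      obtain ⟨i, j, rfl⟩ := ha
      refine ⟨4 * i, j, inv_eq_of_mul_eq_one_right ?_⟩
      rw [mul_assoc, ← mul_assoc (z ^ j), (hc.pow_pow j (4 * i)).eq, mul_assoc, ← pow_add,
        ← mul_assoc, ← pow_add, show i + 4 * i = 5 * i by ring, show j + j = 2 * j by ring, pow_mul,
        pow_mul, hy, hz, one_pow, one_pow, one_mul]
  let f : Fin 5 × Fin 2 → Subgroup.closure ({y, z} : Set G) := fun p =>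
    ⟨y ^ (p.1 : ℕ) * z ^ (p.2 : ℕ), mul_mem (pow_mem (Subgroup.subset_closure (by simp)) _)
      (pow_mem (Subgroup.subset_closure (by simp)) _)⟩
  have hf : Function.Surjective f := by
    rintro ⟨g, hg⟩
    obtain ⟨i, j, rfl⟩ := key g hg
    exact ⟨(⟨i % 5, Nat.mod_lt _ (by norm_num)⟩, ⟨j % 2, Nat.mod_lt _ (by norm_num)⟩),
      Subtype.ext (by simp only [f]; rw [← pow_eq_pow_mod i hy, ← pow_eq_pow_mod j hz])⟩
  haveI := Finite.of_surjective f hf
  exact ⟨this, (Nat.card_le_card_of_surjective f hf).trans (by simp)⟩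

open scoped Pointwise in
/-- Coset enumeration. -/
theorem bound {G : Type u} [Group G] {x y z : G} (h : Rels x y z)
    (hgen : Subgroup.closure ({x, y} : Set G) = ⊤) : Finite G ∧ Nat.card G ≤ 120 := by
  obtain ⟨hx, hy, hz, hzx, hzy, hxy⟩ := h
  set H := Subgroup.closure ({y, z} : Set G) with hH
  have hcen : ∀ g : G, z * g = g * z := by
    intro g
    have hle : Subgroup.closure ({x, y} : Set G) ≤ Subgroup.centralizer {z} := by
      rw [Subgroup.closure_le]
      rintro w (rfl | rfl)
      · exact Subgroup.mem_centralizer_singleton_iff.2 hzx.symm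
      · exact Subgroup.mem_centralizer_singleton_iff.2 hzy.symm
    exact (Subgroup.mem_centralizer_singleton_iff.1 (hle (hgen ▸ Subgroup.mem_top g))).symm
  have hzfix : ∀ c : G ⧸ H, z • c = c := by
    intro c
    induction c using QuotientGroup.induction_on with
    | H g =>
      rw [MulAction.Quotient.smul_mk, smul_eq_mul, QuotientGroup.eq]
      rw [hcen, _root_.mul_inv_rev, mul_assoc, inv_mul_cancel, mul_one]
      exact inv_mem (Subgroup.subset_closure (by simp))
  have hrel : ∀ d : G ⧸ H, x • y • x • d = y⁻¹ • d := by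
    intro d
    have := hzfix (y⁻¹ • d)
    rw [← hxy, sq] at this
    simpa [mul_smul] using this
  have hA : ∀ d : G ⧸ H, y • x • d = x⁻¹ • y⁻¹ • d := fun d => by
    rw [← hrel d, inv_smul_smul]
  have hB : ∀ d : G ⧸ H, x • y • d = y⁻¹ • x⁻¹ • d := fun d => by
    have := hrel (x⁻¹ • d)
    rwa [smul_inv_smul] at this
  have hx3 : ∀ d : G ⧸ H, x • x • x • d = d := fun d => by
    rw [smul_smul, smul_smul, ← pow_three', hx, one_smul]
  have hy5 : ∀ d : G ⧸ H, y • y • y • y • y • d = d := fun d => by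
    rw [smul_smul, smul_smul, smul_smul, smul_smul,
      show y * y * y * y * y = y ^ 5 by simp [pow_succ], hy, one_smul]
  have ix : ∀ {a b : G ⧸ H}, x • a = b → x⁻¹ • b = a := fun h => by rw [← h, inv_smul_smul]
  have iy : ∀ {a b : G ⧸ H}, y • a = b → y⁻¹ • b = a := fun h => by rw [← h, inv_smul_smul]
  let c0 : G ⧸ H := ((1 : G) : G ⧸ H)
  have y0 : y • c0 = c0 := by
    rw [MulAction.Quotient.smul_mk, QuotientGroup.eq]
    simpa using Subgroup.subset_closure (k := ({y, z} : Set G)) (by simp : y ∈ ({y, z} : Set G))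
  let c1 := x • c0
  let c2 := x • c1
  let c3 := y • c2
  let c4 := y • c3
  let c5 := y • c4
  let c6 := x • c5
  let c7 := x • c4
  let c8 := y • c6
  let c9 := y • c8
  let c10 := y • c9
  let c11 := x • c10
  have x2 : x • c2 = c0 := hx3 c0
  have y1 : y • c1 = c2 := by
    rw [hA c0, iy y0, ix x2]
  have y5 : y • c5 = c1 := by
    have := hy5 c1
    rwa [y1] at this
  have x3 : x • c3 = c5 := by
    show x • y • c2 = c5
    rw [hB c2, ix (rfl : x • c1 = c2), iy y5]
  have x6 : x • c6 = c3 := by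
    have := hx3 c3
    rwa [x3] at this
  have x8 : x • c8 = c4 := by
    show x • y • c6 = c4
    rw [hB c6, ix (rfl : x • c5 = c6), iy (rfl : y • c4 = c5)]
  have x7 : x • c7 = c8 := by
    have := hx3 c8
    rwa [x8] at this
  have y7 : y • c7 = c6 := by
    show y • x • c4 = c6
    rw [hA c4, iy (rfl : y • c3 = c4), ix x6]
  have y10 : y • c10 = c7 := by
    have := hy5 c7
    rwa [y7] at this
  have x9 : x • c9 = c10 := by
    show x • y • c8 = c10
    rw [hB c8, ix x7, iy y10]
  have x11 : x • c11 = c9 := by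
    have := hx3 c9
    rwa [x9] at this
  have y11 : y • c11 = c11 := by
    show y • x • c10 = c11
    rw [hA c10, iy (rfl : y • c9 = c10), ix x11]
  let L : List (G ⧸ H) := [c0, c1, c2, c3, c4, c5, c6, c7, c8, c9, c10, c11]
  let S : Set (G ⧸ H) := {c | c ∈ L}
  have hS : S.Finite := L.finite_toSet
  have hstab : ∀ g ∈ ({x, y} : Set G), g ∈ MulAction.stabilizer G S := by
    intro g hg
    rw [MulAction.mem_stabilizer_iff]
    refine Set.eq_of_subset_of_ncard_le ?_ ?_ hS
    · rintro _ ⟨c, hc, rfl⟩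
      simp only [S, L, List.mem_cons, List.not_mem_nil, or_false, Set.mem_setOf_eq] at hc ⊢
      rcases hg with rfl | rfl <;> rcases hc with e | e | e | e | e | e | e | e | e | e | e | e <;>
        subst e <;>
        simp [y0, y1, y5, y7, y10, y11, x2, x3, x6, x7, x8, x9, x11, c1, c2, c3, c4, c5, c6, c7,
          c8, c9, c10, c11]
    · rw [← Set.image_smul, Set.ncard_image_of_injective _ (MulAction.injective g)]
  have hall : ∀ c : G ⧸ H, c ∈ S := by
    intro c
    induction c using QuotientGroup.induction_on with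
    | H g =>
      have hg : g ∈ MulAction.stabilizer G S :=
        (Subgroup.closure_le _).2 hstab (hgen ▸ Subgroup.mem_top g)
      rw [← MulAction.mem_stabilizer_iff.1 hg]
      exact ⟨c0, by simp [S, L], by simp [c0]⟩
  haveI : Finite (G ⧸ H) := Set.finite_univ_iff.1 (hS.subset fun c _ => hall c)
  obtain ⟨hfin, hle⟩ := bound_subgroup hy hz hzy
  have hq : Nat.card (G ⧸ H) ≤ 12 := by
    have hsur : Function.Surjective (fun i : Fin 12 => L.get ⟨i, by simp [L]⟩) := by
      intro c
      obtain ⟨i, hi⟩ := List.get_of_mem (show c ∈ L from hall c)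
      exact ⟨⟨(i : ℕ), lt_of_lt_of_eq i.2 (by simp [L])⟩, by simpa using hi⟩
    simpa using Nat.card_le_card_of_surjective _ hsur
  haveI : Finite G := Finite.of_subgroup_quotient H
  refine ⟨this, ?_⟩
  rw [Subgroup.card_eq_card_quotient_mul_card_subgroup H]
  exact (Nat.mul_le_mul hq hle).trans (by norm_num)

/-- The relators. -/
def relators : Set (FreeGroup (Fin 3)) :=
  {FreeGroup.of (0 : Fin 3) ^ 3, FreeGroup.of (1 : Fin 3) ^ 5, FreeGroup.of (2 : Fin 3) ^ 2,
        (FreeGroup.of (2 : Fin 3))⁻¹ * FreeGroup.of 0 * FreeGroup.of 2 * (FreeGroup.of (0 : Fin 3))⁻¹,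
        (FreeGroup.of (2 : Fin 3))⁻¹ * FreeGroup.of 1 * FreeGroup.of 2 * (FreeGroup.of (1 : Fin 3))⁻¹,
        (FreeGroup.of (0 : Fin 3) * FreeGroup.of 1) ^ 2 * (FreeGroup.of (2 : Fin 3))⁻¹}

theorem presented_equiv {G : Type u} [Group G] [Finite G] (hG : Nat.card G = 120) (x y z : G)
    (h : Rels x y z) (hgen : Subgroup.closure ({x, y} : Set G) = ⊤) :
    Nonempty (PresentedGroup relators ≃* G) := by
  let a : (PresentedGroup relators) := PresentedGroup.of 0
  let b : (PresentedGroup relators) := PresentedGroup.of 1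
  let c : (PresentedGroup relators) := PresentedGroup.of 2
  have h1 : ∀ r ∈ relators, PresentedGroup.mk relators r = 1 := fun r hr =>
    PresentedGroup.one_of_mem hr
  have r3 : c⁻¹ * a * c * a⁻¹ = 1 := by
    have := h1 ((FreeGroup.of (2 : Fin 3))⁻¹ * FreeGroup.of 0 * FreeGroup.of 2 *
      (FreeGroup.of (0 : Fin 3))⁻¹) (by simp [relators])
    rwa [map_mul, map_mul, map_mul, map_inv, map_inv] at this
  have r4 : c⁻¹ * b * c * b⁻¹ = 1 := by
    have := h1 ((FreeGroup.of (2 : Fin 3))⁻¹ * FreeGroup.of 1 * FreeGroup.of 2 *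
      (FreeGroup.of (1 : Fin 3))⁻¹) (by simp [relators])
    rwa [map_mul, map_mul, map_mul, map_inv, map_inv] at this
  have r5 : (a * b) ^ 2 * c⁻¹ = 1 := by
    have := h1 ((FreeGroup.of (0 : Fin 3) * FreeGroup.of 1) ^ 2 * (FreeGroup.of (2 : Fin 3))⁻¹)
      (by simp [relators])
    rwa [map_mul, map_pow, map_mul, map_inv] at this
  have habc : Rels a b c := by
    refine ⟨?_, ?_, ?_, ?_, ?_, mul_inv_eq_one.1 r5⟩
    · exact (map_pow (PresentedGroup.mk relators) _ 3).symm.trans (h1 (FreeGroup.of 0 ^ 3) (by simp [relators]))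
    · exact (map_pow (PresentedGroup.mk relators) _ 5).symm.trans (h1 (FreeGroup.of 1 ^ 5) (by simp [relators]))
    · exact (map_pow (PresentedGroup.mk relators) _ 2).symm.trans (h1 (FreeGroup.of 2 ^ 2) (by simp [relators]))
    · rw [mul_inv_eq_one, mul_assoc, inv_mul_eq_iff_eq_mul] at r3; exact r3.symm
    · rw [mul_inv_eq_one, mul_assoc, inv_mul_eq_iff_eq_mul] at r4; exact r4.symm
  have habgen : Subgroup.closure ({a, b} : Set (PresentedGroup relators)) = ⊤ := by
    have hc : c = (a * b) ^ 2 := (mul_inv_eq_one.1 r5).symm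
    have ha : a ∈ Subgroup.closure ({a, b} : Set (PresentedGroup relators)) :=
      Subgroup.subset_closure (Set.mem_insert _ _)
    have hb : b ∈ Subgroup.closure ({a, b} : Set (PresentedGroup relators)) :=
      Subgroup.subset_closure (Set.mem_insert_of_mem _ rfl)
    have hc' : c ∈ Subgroup.closure ({a, b} : Set (PresentedGroup relators)) := by
      rw [hc]; exact pow_mem (mul_mem ha hb) 2
    rw [eq_top_iff, ← PresentedGroup.closure_range_of, Subgroup.closure_le]
    rintro _ ⟨i, rfl⟩
    match i with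
    | ⟨0, _⟩ => exact ha
    | ⟨1, _⟩ => exact hb
    | ⟨2, _⟩ => exact hc'
  obtain ⟨hx, hy, hz, hzx, hzy, hxy⟩ := h
  obtain ⟨_, hP⟩ := bound habc habgen
  let v : Fin 3 → G := ![x, y, z]
  let φ : (PresentedGroup relators) →* G := PresentedGroup.toGroup (f := v) (fun r hr => by
    simp only [relators, Set.mem_insert_iff, Set.mem_singleton_iff] at hr
    rcases hr with rfl | rfl | rfl | rfl | rfl | rfl <;>
      simp [v, hx, hy, hz, hxy, mul_assoc]
    · rw [← mul_assoc, ← mul_assoc, mul_inv_eq_one, mul_assoc, ← hzx, inv_mul_cancel_left]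
    · rw [← mul_assoc, ← mul_assoc, mul_inv_eq_one, mul_assoc, ← hzy, inv_mul_cancel_left])
  have hφ : Function.Surjective φ := by
    rw [← MonoidHom.range_eq_top, eq_top_iff, ← hgen, Subgroup.closure_le]
    rintro w (rfl | rfl)
    · exact ⟨a, by simp [φ, a, v]⟩
    · exact ⟨b, by simp [φ, b, v]⟩
  have hb := Nat.bijective_iff_surjective_and_card φ |>.2
    ⟨hφ, le_antisymm (hP.trans hG.ge) (Nat.card_le_card_of_surjective φ hφ)⟩
  exact ⟨MulEquiv.ofBijective φ hb⟩

theorem solvable_small {H : Type u} [Group H] [Finite H] (n : ℕ)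
    (hn : Nat.card H = n) (h : n ∣ 24 ∨ n ∣ 20 ∨ n ∣ 40 ∨ n ∣ 30) : Group.IsSolvable H := by
  rcases h with h | h | h | h
  · refine Cfsg.Agent.Char.isSolvable_of_two_primes Nat.prime_two Nat.prime_three n hn fun r hr hrn => ?_
    have := hrn.trans h
    have := Nat.le_of_dvd (by norm_num) this
    interval_cases r <;> first | omega | (norm_num at hr) | (norm_num at *)
  · refine Cfsg.Agent.Char.isSolvable_of_two_primes Nat.prime_two Nat.prime_five n hn fun r hr hrn => ?_
    have := hrn.trans h
    have := Nat.le_of_dvd (by norm_num) this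
    interval_cases r <;> first | omega | (norm_num at hr) | (norm_num at *)
  · refine Cfsg.Agent.Char.isSolvable_of_two_primes Nat.prime_two Nat.prime_five n hn fun r hr hrn => ?_
    have := hrn.trans h
    have := Nat.le_of_dvd (by norm_num) this
    interval_cases r <;> first | omega | (norm_num at hr) | (norm_num at *)
  · haveI : IsZGroup H := IsZGroup.of_squarefree (hn ▸ Squarefree.squarefree_of_dvd h
      (Nat.squarefree_iff_prime_squarefree.2 fun r hr hd => by
        have h' := Nat.le_of_dvd (by norm_num) hd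
        have : r ≤ 5 := by nlinarith
        interval_cases r <;> norm_num at *))
    infer_instance

theorem quat_facts : ∀ a b : QuaternionGroup 2, a * a = 1 → b * b = 1 → a = 1 ∨ b = 1 ∨ a = b := by
  decide +kernel

theorem quat_order : ∀ a : QuaternionGroup 2, (a * a) * (a * a) = 1 := by decide +kernel

/-- A subgroup of order four of a quaternion group of order eight is cyclic. -/
theorem cyclic_four {A : Type u} [Group A] [Finite A] (hA : Nat.card A = 4)
    (f : A →* QuaternionGroup 2) (hf : Function.Injective f) : IsCyclic A := by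
  haveI := Fintype.ofFinite A
  haveI := Fact.mk Nat.prime_two
  by_cases h : ∃ a : A, a * a ≠ 1
  · obtain ⟨a, ha⟩ := h
    refine isCyclic_of_orderOf_eq_card a ?_
    have hd : orderOf a ∣ 2 ^ 2 := by
      rw [show (2 : ℕ) ^ 2 = Nat.card A by rw [hA]; rfl]; exact orderOf_dvd_natCard a
    obtain ⟨k, hk, hka⟩ := (Nat.dvd_prime_pow Nat.prime_two).1 hd
    rcases Nat.lt_or_ge k 2 with h2 | h2
    · refine absurd ?_ ha
      rw [← sq]
      exact orderOf_dvd_iff_pow_eq_one.1 (hka ▸ (Nat.pow_dvd_pow 2 (show k ≤ 1 by omega)))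
    · rw [hka, show k = 2 by omega, hA]; rfl
  · push Not at h
    haveI : Nontrivial A := Finite.one_lt_card_iff_nontrivial.1 (show 1 < Nat.card A by omega)
    obtain ⟨a, ha⟩ := exists_pair_ne A
    exfalso
    have key : ∀ b : A, b = 1 ∨ b = a ∨ a = 1 := fun b => by
      rcases quat_facts (f b) (f a) (by rw [← map_mul, h, map_one]) (by rw [← map_mul, h, map_one])
        with e | e | e
      · exact Or.inl (hf (e.trans (map_one f).symm))
      · exact Or.inr (Or.inr (hf (e.trans (map_one f).symm)))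
      · exact Or.inr (Or.inl (hf e))
    obtain ⟨b, hb⟩ := ha
    obtain ⟨c, hc1, hc2⟩ : ∃ c : A, c ≠ 1 ∧ ∀ d : A, d ≠ 1 → d = c := by
      by_cases ha1 : a = 1
      · refine ⟨b, fun e => hb (ha1.trans e.symm), fun d hd => ?_⟩
        rcases quat_facts (f d) (f b) (by rw [← map_mul, h, map_one]) (by rw [← map_mul, h, map_one])
          with e | e | e
        · exact absurd (hf (e.trans (map_one f).symm)) hd
        · exact absurd (hf (e.trans (map_one f).symm)) (fun e' => hb (ha1.trans e'.symm))
        · exact hf e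
      · exact ⟨a, ha1, fun d hd => ((key d).resolve_left hd).resolve_right ha1⟩
    have hsur : Function.Surjective (![1, c] : Fin 2 → A) := fun d => by
      by_cases hd : d = 1
      · exact ⟨0, by simp [hd]⟩
      · exact ⟨1, by simp [hc2 d hd]⟩
    have := Nat.card_le_card_of_surjective _ hsur
    rw [hA, Nat.card_fin] at this
    omega

theorem perm_facts :
    let α : Equiv.Perm (Fin 5) := Equiv.swap 0 3 * Equiv.swap 3 1
    let β : Equiv.Perm (Fin 5) :=
      Equiv.swap 0 4 * Equiv.swap 0 3 * Equiv.swap 0 2 * Equiv.swap 0 1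
    Equiv.Perm.sign α = 1 ∧ Equiv.Perm.sign β = 1 ∧ α ^ 3 = 1 ∧ β ^ 5 = 1 ∧
      (α * β) ^ 2 = 1 ∧ α * β ≠ 1 ∧ α ≠ 1 ∧ β ≠ 1 := by decide +kernel

variable {G : Type u} [Group G] [Finite G]

theorem no_index_two (hG : Nat.card G = 120) (hns : ¬ Group.IsSolvable G)
    (hP : ∀ P : Sylow 2 G, Nonempty ((P : Subgroup G) ≃* QuaternionGroup 2)) (M : Subgroup G) :
    M.index ≠ 2 := by
  intro hM
  haveI := Fact.mk Nat.prime_two
  haveI : M.Normal := Subgroup.normal_of_index_eq_two hM
  have hcard : Nat.card M = 60 := by have := M.card_mul_index; rw [hM, hG] at this; omega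
  obtain ⟨Q⟩ : Nonempty (Sylow 2 M) := inferInstance
  obtain ⟨R, hR⟩ := (Q.isPGroup'.map M.subtype).exists_le_sylow
  obtain ⟨e⟩ := hP R
  have hQ : Nat.card Q = 4 := by
    rw [Q.card_eq_multiplicity, hcard, show (60 : ℕ) = 2 ^ 2 * 15 by norm_num,
      Nat.factorization_mul (by norm_num) (by norm_num), Finsupp.add_apply,
      Nat.Prime.factorization_pow Nat.prime_two, Finsupp.single_eq_same,
      Nat.factorization_eq_zero_of_not_dvd (by norm_num)]
    rfl
  haveI : IsCyclic Q := cyclic_four hQ
    (e.toMonoidHom.comp ((Subgroup.inclusion hR).comp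
      (Subgroup.equivMapOfInjective (Q : Subgroup M) M.subtype M.subtype_injective).toMonoidHom))
    (e.injective.comp ((Subgroup.inclusion_injective hR).comp
      (Subgroup.equivMapOfInjective (Q : Subgroup M) M.subtype M.subtype_injective).injective))
  have hmin : (Nat.card M).minFac = 2 := by rw [hcard]; norm_num
  have hn := Cfsg.Agent.Fusion.hnpc_of_normalizer_le_centralizer Q
    (IsCyclic.normalizer_le_centralizer hmin inferInstance)
  obtain ⟨Q', N, hN, hc⟩ := hn
  have hQ' : Nat.card Q' = 4 := by rw [← hQ]; exact Nat.card_congr (Sylow.equiv Q' Q).toEquiv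
  haveI : Group.IsSolvable N := solvable_small (Nat.card N) rfl (Or.inr (Or.inr (Or.inr (by
    have := hc.card_mul; rw [hQ', hcard] at this; exact ⟨2, by omega⟩))))
  haveI : Group.IsSolvable (M ⧸ N) := solvable_small (Nat.card (M ⧸ N)) rfl (Or.inl (by
    rw [← Subgroup.index_eq_card, hc.symm.index_eq_card, hQ']; norm_num))
  haveI : Group.IsSolvable M := (Group.isSolvable_iff_subgroup_quotient N).2 ⟨inferInstance, inferInstance⟩
  exact hns ((Group.isSolvable_iff_subgroup_quotient M).2 ⟨inferInstance,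
    solvable_small (Nat.card (G ⧸ M)) rfl (Or.inl (by rw [← Subgroup.index_eq_card, hM]; norm_num))⟩)

/-- There are five Sylow two-subgroups. -/
theorem card_sylow (hG : Nat.card G = 120) (hns : ¬ Group.IsSolvable G)
    (hP : ∀ P : Sylow 2 G, Nonempty ((P : Subgroup G) ≃* QuaternionGroup 2)) :
    Nat.card (Sylow 2 G) = 5 := by
  haveI := Fact.mk Nat.prime_two
  obtain ⟨P⟩ : Nonempty (Sylow 2 G) := inferInstance
  obtain ⟨e⟩ := hP P
  have hPc : Nat.card (P : Subgroup G) = 8 := by
    rw [Nat.card_congr e.toEquiv, Nat.card_eq_fintype_card, QuaternionGroup.card]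
  have hidx : (P : Subgroup G).index = 15 := by
    have := (P : Subgroup G).card_mul_index; rw [hPc, hG] at this; omega
  have hd : Nat.card (Sylow 2 G) ∣ 15 := hidx ▸ P.card_dvd_index
  have hle := Nat.le_of_dvd (by norm_num) hd
  have hcases : Nat.card (Sylow 2 G) = 1 ∨ Nat.card (Sylow 2 G) = 3 ∨ Nat.card (Sylow 2 G) = 5 ∨
      Nat.card (Sylow 2 G) = 15 := by
    obtain ⟨d, hd'⟩ := hd
    interval_cases (Nat.card (Sylow 2 G)) <;> omega
  rcases hcases with h | h | h | h
  · exfalso
    haveI := (Nat.card_eq_one_iff_unique.1 h).1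
    haveI : (P : Subgroup G).Normal := P.normal_of_subsingleton
    exact hns ((Group.isSolvable_iff_subgroup_quotient (P : Subgroup G)).2
      ⟨solvable_small 8 hPc (Or.inl (by norm_num)), solvable_small 15
        (by rw [← Subgroup.index_eq_card, hidx]) (Or.inr (Or.inr (Or.inr (by norm_num))))⟩)
  · exfalso
    let f := MulAction.toPermHom G (Sylow 2 G)
    have hr : Nat.card f.range ∣ 6 := by
      have := Subgroup.card_subgroup_dvd_card f.range
      rwa [Nat.card_perm, h] at this
    have hrG : Nat.card f.ker * Nat.card f.range = 120 := by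
      rw [← Subgroup.index_ker, Subgroup.card_mul_index, hG]
    have hne : Nat.card f.range ≠ 1 := by
      intro h1
      obtain ⟨A, B, hAB⟩ : ∃ A B : Sylow 2 G, A ≠ B := by
        haveI := Finite.one_lt_card_iff_nontrivial.1 (show 1 < Nat.card (Sylow 2 G) by omega)
        exact exists_pair_ne _
      obtain ⟨g, hg⟩ := MulAction.exists_smul_eq G A B
      haveI := (Nat.card_eq_one_iff_unique.1 h1).1
      have := congrArg (fun σ : f.range => (σ : Equiv.Perm (Sylow 2 G)) A)
        (Subsingleton.elim ⟨f g, ⟨g, rfl⟩⟩ (1 : f.range))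
      exact hAB (by simpa [f, hg] using this.symm)
    have h24 : Nat.card f.range ∣ 24 := hr.trans (by norm_num)
    have hrs : Group.IsSolvable f.range := solvable_small _ rfl (Or.inl h24)
    have hcase : Nat.card f.range = 2 ∨ Nat.card f.range = 3 ∨ Nat.card f.range = 6 := by
      have h6 := Nat.mem_divisors.2 ⟨hr, show (6 : ℕ) ≠ 0 by norm_num⟩
      rw [show Nat.divisors 6 = {1, 2, 3, 6} by decide] at h6
      simp only [Finset.mem_insert, Finset.mem_singleton] at h6
      omega
    have hks : Group.IsSolvable f.ker := by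
      rcases hcase with e1 | e1 | e1 <;> rw [e1] at hrG
      · exact absurd (show f.ker.index = 2 by rw [Subgroup.index_ker, e1]) (no_index_two hG hns hP f.ker)
      · exact solvable_small 40 (by omega) (Or.inr (Or.inr (Or.inl dvd_rfl)))
      · exact solvable_small 20 (by omega) (Or.inr (Or.inl dvd_rfl))
    exact hns (Group.isSolvable_of_ker_le_range f.ker.subtype f.rangeRestrict
      (by rw [Subgroup.range_subtype, MonoidHom.ker_rangeRestrict]))
  · exact h
  · exfalso
    have hNP : Subgroup.normalizer ((P : Subgroup G) : Set G) = (P : Subgroup G) := by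
      refine (Subgroup.eq_of_le_of_card_ge Subgroup.le_normalizer ?_).symm
      have h1 := (Subgroup.normalizer ((P : Subgroup G) : Set G)).card_mul_index
      have h2 : (Subgroup.normalizer ((P : Subgroup G) : Set G)).index = 15 := by
        rw [← h]; exact P.card_eq_index_normalizer.symm
      rw [h2, hG] at h1
      omega
    obtain ⟨P', N, hN, hc⟩ := Cfsg.Agent.Fusion.hnpc_of_centralize (p := 2)
      (Cfsg.Agent.Fusion.sylIn_top P) fun Q hQ g hg hgo => by
        have hgodd : Odd (orderOf g) := (Nat.coprime_two_right.1 hgo)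
        have hQc : Nat.card Q ∣ 8 := hPc ▸ Subgroup.card_dvd_of_le hQ
        by_cases h8 : Nat.card Q = 8
        · have hQP : Q = (P : Subgroup G) := Subgroup.eq_of_le_of_card_ge hQ (by rw [h8, hPc])
          rw [hQP, hNP] at hg
          have h1 : orderOf g ∣ 8 := hPc ▸ Subgroup.orderOf_dvd_natCard _ hg
          have hg1 : g = 1 := orderOf_eq_one_iff.1 (Nat.eq_one_of_dvd_coprimes
            (show (orderOf g).Coprime 8 from (Nat.Coprime.pow_right 3 hgo : (orderOf g).Coprime (2 ^ 3)))
            dvd_rfl h1)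
          rw [hg1]; exact one_mem _
        have hcyc : IsCyclic Q := by
          obtain ⟨k, hk, hkQ⟩ := (Nat.dvd_prime_pow Nat.prime_two).1
            (show Nat.card Q ∣ 2 ^ 3 from hQc)
          interval_cases k
          · haveI := (Nat.card_eq_one_iff_unique.1 (hkQ.trans (pow_zero 2))).1
            infer_instance
          · exact isCyclic_of_prime_card (p := 2) (hkQ.trans (pow_one 2))
          · exact cyclic_four hkQ (e.toMonoidHom.comp (Subgroup.inclusion hQ))
              (e.injective.comp (Subgroup.inclusion_injective hQ))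
          · exact absurd hkQ h8
        obtain ⟨w, hw⟩ := hcyc.exists_generator
        have hQw : Q = Subgroup.zpowers (w : G) := le_antisymm (fun q hq => by
          obtain ⟨k, hk⟩ := hw ⟨q, hq⟩
          exact ⟨k, congrArg Subtype.val hk⟩) (Subgroup.zpowers_le.2 w.2)
        have hw4 : (w : G) ^ 4 = 1 := by
          have h4 : ((w : G)) * w * ((w : G) * w) = 1 := congrArg Subtype.val (show
            ((⟨(w : G), hQ w.2⟩ : (P : Subgroup G)) * ⟨(w : G), hQ w.2⟩) *
              (⟨(w : G), hQ w.2⟩ * ⟨(w : G), hQ w.2⟩) = 1 from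
            e.injective (by rw [map_mul, map_mul, map_one]; exact quat_order _))
          rw [← h4]; simp [pow_succ, mul_assoc]
        have hconj : ∀ h ∈ Subgroup.normalizer (Q : Set G),
            h * w * h⁻¹ = w ∨ h * w * h⁻¹ = (w : G)⁻¹ := by
          intro h hh
          have hm : h * w * h⁻¹ ∈ Subgroup.zpowers (w : G) :=
            hQw ▸ (Subgroup.mem_normalizer_iff.1 hh w).1 w.2
          obtain ⟨k, hk⟩ := hm
          dsimp only at hk
          rw [← hk]
          have hk4 : (w : G) ^ k = (w : G) ^ (k % 4) := by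
            conv_lhs => rw [← Int.emod_add_mul_ediv k 4, zpow_add, zpow_mul]
            rw [show (w : G) ^ (4 : ℤ) = 1 by exact_mod_cast hw4, one_zpow, mul_one]
          have := Int.emod_nonneg k (show (4 : ℤ) ≠ 0 by norm_num)
          have := Int.emod_lt_of_pos k (show (0 : ℤ) < 4 by norm_num)
          have hord : orderOf ((w : G) ^ k) = orderOf (w : G) := by
            rw [hk]
            exact orderOf_injective (MulAut.conj h).toMonoidHom (MulAut.conj h).injective w
          interval_cases hk' : k % 4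
          · left
            rw [hk4, zpow_zero] at hord ⊢
            rw [orderOf_one] at hord
            exact (orderOf_eq_one_iff.1 hord.symm).symm
          · left; rw [hk4, zpow_one]
          · left
            rw [hk4] at hord ⊢
            rw [show ((2 : ℤ)) = ((2 : ℕ) : ℤ) from rfl, zpow_natCast] at hord ⊢
            have h2 : orderOf ((w : G) ^ 2) ∣ 2 := orderOf_dvd_of_pow_eq_one (by rw [← pow_mul, hw4])
            rw [hord, orderOf_dvd_iff_pow_eq_one] at h2
            rw [h2] at hord ⊢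
            rw [orderOf_one] at hord
            exact (orderOf_eq_one_iff.1 hord.symm).symm
          · right
            rw [hk4, show ((3 : ℤ)) = ((3 : ℕ) : ℤ) from rfl, zpow_natCast]
            exact (inv_eq_of_mul_eq_one_right (by rw [← pow_succ', hw4])).symm
        have hg2 : g ^ 2 * w = w * g ^ 2 := by
          rw [← mul_inv_eq_iff_eq_mul]
          rw [show g ^ 2 * w * (g ^ 2)⁻¹ = g * (g * w * g⁻¹) * g⁻¹ by simp [sq, mul_assoc]]
          rcases hconj g hg with e1 | e1
          · rw [e1, e1]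
          · rw [e1, show g * (w : G)⁻¹ * g⁻¹ = (g * w * g⁻¹)⁻¹ by group, e1, inv_inv]
        obtain ⟨m, hm⟩ := hgodd
        have hgw : g * w = w * g := by
          have : g = (g ^ 2) ^ (m + 1) := by
            rw [← pow_mul, show 2 * (m + 1) = orderOf g + 1 by omega, pow_succ, pow_orderOf_eq_one,
              one_mul]
          rw [this]
          exact ((show Commute (g ^ 2) (w : G) from hg2).pow_left (m + 1)).eq
        rw [hQw, Subgroup.mem_centralizer_iff]
        rintro _ ⟨k, rfl⟩
        exact ((show Commute g (w : G) from hgw).zpow_right k).eq.symm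
    have hP'c : Nat.card (P' : Subgroup G) = 8 :=
      hPc ▸ Nat.card_congr (Sylow.equiv P' P).toEquiv
    haveI := hN
    exact hns ((Group.isSolvable_iff_subgroup_quotient N).2
      ⟨solvable_small (Nat.card N) rfl (Or.inr (Or.inr (Or.inr (by
        have := hc.card_mul; rw [hP'c, hG] at this; exact ⟨2, by omega⟩)))),
       solvable_small (Nat.card (G ⧸ N)) rfl (Or.inl (by
        rw [← Subgroup.index_eq_card, hc.symm.index_eq_card, hP'c]; norm_num))⟩)

theorem exists_gens (hG : Nat.card G = 120) (hns : ¬ Group.IsSolvable G)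
    (hP : ∀ P : Sylow 2 G, Nonempty ((P : Subgroup G) ≃* QuaternionGroup 2)) :
    ∃ x y z : G, Rels x y z ∧ Subgroup.closure ({x, y} : Set G) = ⊤ := by
  haveI := Fact.mk Nat.prime_two
  classical
  haveI := Fintype.ofFinite (Sylow 2 G)
  let ε : Sylow 2 G ≃ Fin 5 := Fintype.equivFinOfCardEq (by
    rw [← Nat.card_eq_fintype_card, card_sylow hG hns hP])
  let f : G →* Equiv.Perm (Fin 5) :=
    ε.permCongrHom.toMonoidHom.comp (MulAction.toPermHom G (Sylow 2 G))
  have hcm : Nat.card f.ker * Nat.card f.range = 120 := by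
    rw [← Subgroup.index_ker, Subgroup.card_mul_index, hG]
  have h5 : 5 ∣ Nat.card f.range := by
    obtain ⟨P⟩ : Nonempty (Sylow 2 G) := inferInstance
    have h1 : (MulAction.stabilizer G P).index = 5 := by
      rw [MulAction.index_stabilizer_of_transitive, card_sylow hG hns hP]
    have h2 : f.ker ≤ MulAction.stabilizer G P := fun g hg => by
      have h3 : MulAction.toPermHom G (Sylow 2 G) g = 1 :=
        ε.permCongrHom.map_eq_one_iff.1 (MonoidHom.mem_ker.1 hg)
      exact MulAction.mem_stabilizer_iff.2 (congrArg (fun σ : Equiv.Perm _ => σ P) h3)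
    have h4 := Subgroup.index_dvd_of_le h2
    rw [h1, Subgroup.index_ker] at h4
    exact h4
  have hk24 : Nat.card f.ker ∣ 24 := by
    obtain ⟨d, hd⟩ := h5
    exact ⟨d, by rw [hd] at hcm; nlinarith⟩
  haveI hks : Group.IsSolvable f.ker := solvable_small _ rfl (Or.inl hk24)
  have hnr : ¬ Group.IsSolvable f.range := fun hr => hns (Group.isSolvable_of_ker_le_range
    f.ker.subtype f.rangeRestrict (by rw [Subgroup.range_subtype, MonoidHom.ker_rangeRestrict]))
  have hr60 : f.range.index = 2 := by
    have hi : Nat.card f.range * f.range.index = 120 := by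
      rw [Subgroup.card_mul_index, Nat.card_perm, Nat.card_fin]; rfl
    have hid : f.range.index ∣ 24 := by
      obtain ⟨d, hd⟩ := h5
      exact ⟨d, by rw [hd] at hi; nlinarith⟩
    by_contra hne
    rcases eq_or_ne f.range.index 1 with h1 | h1
    · have hbij : Function.Bijective f := by
        rw [Nat.bijective_iff_surjective_and_card]
        exact ⟨MonoidHom.range_eq_top.1 (Subgroup.index_eq_one.1 h1),
          by rw [hG, Nat.card_perm, Nat.card_fin]; rfl⟩
      exact no_index_two hG hns hP ((alternatingGroup (Fin 5)).comap f)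
        (by rw [Subgroup.index_comap_of_surjective _ hbij.2, alternatingGroup.index_eq_two])
    · refine hnr (solvable_small _ rfl ?_)
      have hile : 3 ≤ f.range.index := by
        have : f.range.index ≠ 0 := Subgroup.index_ne_zero_of_finite
        omega
      obtain ⟨i, hi'⟩ : ∃ i, f.range.index = i := ⟨_, rfl⟩
      rw [hi'] at hi hid hile
      have := Nat.le_of_dvd (by norm_num) hid
      interval_cases i <;> first
        | omega
        | (rw [show Nat.card f.range = 40 by omega]; norm_num)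
        | (rw [show Nat.card f.range = 30 by omega]; norm_num)
        | (rw [show Nat.card f.range = 24 by omega]; norm_num)
        | (rw [show Nat.card f.range = 20 by omega]; norm_num)
        | (rw [show Nat.card f.range = 15 by omega]; norm_num)
        | (rw [show Nat.card f.range = 10 by omega]; norm_num)
        | (rw [show Nat.card f.range = 5 by omega]; norm_num)
  have hA : f.range = alternatingGroup (Fin 5) := Equiv.Perm.eq_alternatingGroup_of_index_eq_two hr60
  have hker : Nat.card f.ker = 2 := by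
    have hr : Nat.card f.range = 60 := by
      have := f.range.card_mul_index
      rw [hr60, Nat.card_perm, Nat.card_fin] at this
      rw [show Nat.factorial 5 = 120 from rfl] at this
      omega
    rw [hr] at hcm; omega
  have hpow : ∀ g : G, g ∈ f.ker → g ^ 2 = 1 := fun g hg => by
    have : (⟨g, hg⟩ : f.ker) ^ 2 = 1 := hker ▸ pow_card_eq_one'
    exact congrArg Subtype.val this
  have lift : ∀ σ : Equiv.Perm (Fin 5), Equiv.Perm.sign σ = 1 → ∃ g, f g = σ := fun σ hσ => by
    have : σ ∈ f.range := hA ▸ Equiv.Perm.mem_alternatingGroup.2 hσ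
    exact this
  let α : Equiv.Perm (Fin 5) := Equiv.swap 0 3 * Equiv.swap 3 1
  let β : Equiv.Perm (Fin 5) := Equiv.swap 0 4 * Equiv.swap 0 3 * Equiv.swap 0 2 * Equiv.swap 0 1
  obtain ⟨a, ha⟩ := lift α perm_facts.1
  obtain ⟨b, hb⟩ := lift β perm_facts.2.1
  obtain ⟨-, -, hα, hβ, hαβ, hne, hα1, hβ1⟩ := perm_facts
  set x := a ^ 4
  set y := b ^ 6
  have hfx : f x = α := by
    rw [map_pow, ha, show α ^ 4 = α ^ 3 * α from pow_succ α 3, hα, one_mul]
  have hfy : f y = β := by
    rw [map_pow, hb, show β ^ 6 = β ^ 5 * β from pow_succ β 5, hβ, one_mul]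
  have hx : x ^ 3 = 1 := by
    rw [← pow_mul, show 4 * 3 = 3 * 2 * 2 from rfl, pow_mul, hpow (a ^ 3) (by
      rw [MonoidHom.mem_ker, map_pow, ha, hα]) |> fun h => (pow_mul a 3 2).trans h, one_pow]
  have hy : y ^ 5 = 1 := by
    rw [← pow_mul, show 6 * 5 = 5 * 2 * 3 from rfl, pow_mul, hpow (b ^ 5) (by
      rw [MonoidHom.mem_ker, map_pow, hb, hβ]) |> fun h => (pow_mul b 5 2).trans h, one_pow]
  set z := (x * y) ^ 2 with hz
  have hzk : z ∈ f.ker := by
    rw [MonoidHom.mem_ker, map_pow, map_mul, hfx, hfy, hαβ]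
  have hcen : ∀ g : G, z * g = g * z := by
    intro g
    have hn : g * z * g⁻¹ ∈ f.ker := f.normal_ker.conj_mem z hzk g
    by_cases hz1 : z = 1
    · rw [hz1, one_mul, mul_one]
    · obtain ⟨⟨w, hw⟩, hw1⟩ := Finite.one_lt_card_iff_nontrivial.1
        (show 1 < Nat.card f.ker by omega) |>.exists_pair_ne
      have huniq : ∀ v : f.ker, v ≠ 1 → v = ⟨z, hzk⟩ := by
        intro v hv
        obtain ⟨p, q, hpq, huniv⟩ := Nat.card_eq_two_iff.1 hker
        have h3 : ∀ u : f.ker, u = p ∨ u = q := fun u => by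
          have : u ∈ ({p, q} : Set f.ker) := huniv ▸ Set.mem_univ u
          simpa using this
        have hzne : (⟨z, hzk⟩ : f.ker) ≠ 1 := fun e => hz1 (congrArg Subtype.val e)
        rcases h3 v with e1 | e1 <;> rcases h3 (1 : f.ker) with e2 | e2 <;>
          rcases h3 ⟨z, hzk⟩ with e3 | e3 <;> simp_all
      have h4 : (⟨g * z * g⁻¹, hn⟩ : f.ker) = ⟨z, hzk⟩ := huniq _ fun e => hz1 (by
        have e' : g * z * g⁻¹ = 1 := congrArg Subtype.val e
        rwa [mul_inv_eq_one, mul_eq_left] at e')
      exact (mul_inv_eq_iff_eq_mul.1 (congrArg Subtype.val h4)).symm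
  refine ⟨x, y, z, ⟨hx, hy, hpow z hzk, hcen x, hcen y, rfl⟩, ?_⟩
  set H := Subgroup.closure ({x, y} : Set G) with hH
  have hxH : x ∈ H := Subgroup.subset_closure (Set.mem_insert _ _)
  have hyH : y ∈ H := Subgroup.subset_closure (Set.mem_insert_of_mem _ rfl)
  have d3 : 3 ∣ Nat.card H := by
    have : orderOf x = 3 := orderOf_eq_prime hx fun e => hα1 (hfx.symm.trans (by rw [e, map_one]))
    exact (dvd_of_eq this.symm).trans (Subgroup.orderOf_dvd_natCard _ hxH)
  have d5 : 5 ∣ Nat.card H := by
    haveI : Fact (Nat.Prime 5) := ⟨by norm_num⟩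
    have : orderOf y = 5 := orderOf_eq_prime hy fun e => hβ1 (hfy.symm.trans (by rw [e, map_one]))
    exact (dvd_of_eq this.symm).trans (Subgroup.orderOf_dvd_natCard _ hyH)
  have d4 : 4 ∣ Nat.card H := by
    have hz1 : z ≠ 1 := by
      intro e
      obtain ⟨Q, hQ⟩ := (IsPGroup.of_card (n := 1) (p := 2) (G := Subgroup.zpowers (x * y)) (by
        rw [Nat.card_zpowers, pow_one]
        exact orderOf_eq_prime e fun e' => hne ((congrArg₂ (· * ·) hfx.symm hfy.symm).trans (by rw [← map_mul, e', map_one])))).exists_le_sylow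
      obtain ⟨eQ⟩ := hP Q
      obtain ⟨⟨w, hw⟩, hw1⟩ : ∃ w : f.ker, w ≠ 1 := by
        haveI := Finite.one_lt_card_iff_nontrivial.1 (show 1 < Nat.card f.ker by omega)
        exact exists_ne 1
      have hwQ : w ∈ (Q : Subgroup G) := by
        have hk2 : IsPGroup 2 f.ker := IsPGroup.of_card (n := 1) (by rw [hker]; norm_num)
        have hsup := Q.isPGroup'.to_sup_of_normal_right hk2
        have hEq : (Q : Subgroup G) ⊔ f.ker = (Q : Subgroup G) := Q.is_maximal' hsup le_sup_left
        exact hEq ▸ (le_sup_right : f.ker ≤ _) hw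
      have hxyQ : x * y ∈ (Q : Subgroup G) := hQ (Subgroup.mem_zpowers _)
      rcases quat_facts (eQ ⟨_, hxyQ⟩) (eQ ⟨w, hwQ⟩)
        (by rw [← map_mul]; exact (congrArg eQ (Subtype.ext ((sq (x * y)).symm.trans e))).trans (map_one _))
        (by rw [← map_mul]; exact (congrArg eQ (Subtype.ext (by
          show w * w = 1
          rw [← sq, hpow w hw]))).trans (map_one _)) with e1 | e1 | e1
      · exact hne ((congrArg₂ (· * ·) hfx.symm hfy.symm).trans (by rw [← map_mul,
          show x * y = 1 from congrArg Subtype.val (eQ.map_eq_one_iff.1 e1), map_one]))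
      · exact hw1 (Subtype.ext (congrArg Subtype.val (eQ.map_eq_one_iff.1 e1) :))
      · exact hne ((congrArg₂ (· * ·) hfx.symm hfy.symm).trans (by rw [← map_mul,
          show x * y = w from congrArg Subtype.val (eQ.injective e1), MonoidHom.mem_ker.1 hw]))
    have : orderOf (x * y) = 2 ^ (1 + 1) := orderOf_eq_prime_pow (by rwa [pow_one])
      (by rw [show (2 : ℕ) ^ (1 + 1) = 2 * 2 from rfl, pow_mul, hpow z hzk])
    exact (dvd_of_eq this.symm).trans (Subgroup.orderOf_dvd_natCard _ (mul_mem hxH hyH))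
  have h60 : 60 ∣ Nat.card H := by
    have := Nat.Coprime.mul_dvd_of_dvd_of_dvd (by norm_num : Nat.Coprime 3 5) d3 d5
    exact Nat.Coprime.mul_dvd_of_dvd_of_dvd (by norm_num : Nat.Coprime 4 15) d4 this
  have hmul := H.card_mul_index
  rw [hG] at hmul
  obtain ⟨d, hd⟩ := h60
  have hidx : H.index = 1 ∨ H.index = 2 := by
    have h2 : d * H.index = 2 := by rw [hd] at hmul; nlinarith
    have := Nat.le_of_dvd (by norm_num) (Dvd.intro_left _ h2)
    have : H.index ≠ 0 := Subgroup.index_ne_zero_of_finite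
    omega
  exact Subgroup.index_eq_one.1 (hidx.resolve_right (no_index_two hG hns hP H))

/-- A generator of order three. -/
def slX : SL25.SL := ⟨!![0, 1; 4, 4], by decide +kernel⟩

/-- A generator of order five. -/
def slY : SL25.SL := ⟨!![0, 4; 1, 2], by decide +kernel⟩

theorem sl_facts : slX ^ 3 = 1 ∧ slY ^ 5 = 1 ∧ ((slX * slY) ^ 2) ^ 2 = 1 ∧
    (slX * slY) ^ 2 * slX = slX * (slX * slY) ^ 2 ∧ (slX * slY) ^ 2 * slY = slY * (slX * slY) ^ 2 ∧
    (slX * slY) ^ 2 ≠ 1 ∧ slX ≠ 1 ∧ slY ≠ 1 ∧ slX * slY ≠ 1 := by decide +kernel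

theorem sl_gens : ∃ x y z : SL25.SL, Rels x y z ∧ orderOf x = 3 ∧ orderOf y = 5 ∧
    orderOf (x * y) = 4 := by
  haveI := Fact.mk Nat.prime_two
  haveI : Fact (Nat.Prime 3) := ⟨by norm_num⟩
  haveI : Fact (Nat.Prime 5) := ⟨by norm_num⟩
  obtain ⟨hx, hy, hz, hzx, hzy, hxy, hx1, hy1, hxy1⟩ := sl_facts
  refine ⟨slX, slY, (slX * slY) ^ 2, ⟨hx, hy, hz, hzx, hzy, rfl⟩, orderOf_eq_prime hx hx1,
    orderOf_eq_prime hy hy1, ?_⟩
  exact orderOf_eq_prime_pow (p := 2) (n := 1) (by rwa [pow_one])
    (by rw [show (2 : ℕ) ^ (1 + 1) = 2 * 2 from rfl, pow_mul]; exact hz)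

theorem sl_presented : Nonempty (PresentedGroup relators ≃* SL25.SL) := by
  obtain ⟨x, y, z, h, h3, h5, h4⟩ := sl_gens
  refine presented_equiv SL25.card_SL x y z h ?_
  set H := Subgroup.closure ({x, y} : Set SL25.SL) with hH
  have hxH : x ∈ H := Subgroup.subset_closure (Set.mem_insert _ _)
  have hyH : y ∈ H := Subgroup.subset_closure (Set.mem_insert_of_mem _ rfl)
  have h60 : 60 ∣ Nat.card H := by
    have := Nat.Coprime.mul_dvd_of_dvd_of_dvd (by norm_num : Nat.Coprime 3 5)
      ((dvd_of_eq h3.symm).trans (Subgroup.orderOf_dvd_natCard _ hxH)) ((dvd_of_eq h5.symm).trans (Subgroup.orderOf_dvd_natCard _ hyH))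
    exact Nat.Coprime.mul_dvd_of_dvd_of_dvd (by norm_num : Nat.Coprime 4 15)
      ((dvd_of_eq h4.symm).trans (Subgroup.orderOf_dvd_natCard _ (mul_mem hxH hyH))) this
  have hmul := H.card_mul_index
  rw [SL25.card_SL] at hmul
  obtain ⟨d, hd⟩ := h60
  have hidx : H.index = 1 ∨ H.index = 2 := by
    have h2 : d * H.index = 2 := by rw [hd] at hmul; nlinarith
    have := Nat.le_of_dvd (by norm_num) (Dvd.intro_left _ h2)
    have : H.index ≠ 0 := Subgroup.index_ne_zero_of_finite
    omega
  refine Subgroup.index_eq_one.1 (hidx.resolve_right fun h2 => ?_)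
  haveI : H.Normal := Subgroup.normal_of_index_eq_two h2
  haveI : IsCyclic (SL25.SL ⧸ H) :=
    isCyclic_of_prime_card (p := 2) (by rw [← Subgroup.index_eq_card, h2])
  letI := (IsCyclic.commGroup : CommGroup (SL25.SL ⧸ H))
  have hle : commutator SL25.SL ≤ H := by
    rw [← QuotientGroup.ker_mk' H]; exact Abelianization.commutator_subset_ker _
  rw [Group.IsPerfect.commutator_eq_top, top_le_iff] at hle
  rw [hle, Subgroup.index_top] at h2
  exact absurd h2 (by norm_num)


/-- Every non-solvable group of order 120 whose Sylow 2-subgroups are quaternion of order 8 is isomorphic to SL(2,5), and SL(2,5) has the presentation ⟨x, y, z | x³ = y⁵ = z² = 1, z⁻¹xz = x, z⁻¹yz = y, (xy)² = z⟩. -/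
theorem result :
    (∀ (G : Type*) [Group G] [Finite G], Nat.card G = 120 → ¬ Group.IsSolvable G →
      (∀ P : Sylow 2 G, Nonempty ((P : Subgroup G) ≃* QuaternionGroup 2)) →
      Nonempty (G ≃* Matrix.SpecialLinearGroup (Fin 2) (ZMod 5))) ∧
    Nonempty (PresentedGroup ({FreeGroup.of (0 : Fin 3) ^ 3, FreeGroup.of (1 : Fin 3) ^ 5, FreeGroup.of (2 : Fin 3) ^ 2,
        (FreeGroup.of (2 : Fin 3))⁻¹ * FreeGroup.of 0 * FreeGroup.of 2 * (FreeGroup.of (0 : Fin 3))⁻¹,
        (FreeGroup.of (2 : Fin 3))⁻¹ * FreeGroup.of 1 * FreeGroup.of 2 * (FreeGroup.of (1 : Fin 3))⁻¹,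
        (FreeGroup.of (0 : Fin 3) * FreeGroup.of 1) ^ 2 * (FreeGroup.of (2 : Fin 3))⁻¹} : Set (FreeGroup (Fin 3)))
      ≃* Matrix.SpecialLinearGroup (Fin 2) (ZMod 5)) := by
  refine ⟨fun G _ _ hG hns hP => ?_, sl_presented⟩
  obtain ⟨x, y, z, h, hgen⟩ := exists_gens hG hns hP
  obtain ⟨e⟩ := presented_equiv hG x y z h hgen
  obtain ⟨e'⟩ := sl_presented
  exact ⟨e.symm.trans e'⟩

end Cfsg.Agent.S3378
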