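import Cfsg.Statements.S0810
import Cfsg.Agent.Lib.Classical.Dickson.Solvable
import Cfsg.Agent.Lib.Classical.PSL2Ico

set_option autoImplicit false
open Cfsg

namespace Cfsg.Agent.S0810

open Cfsg.Agent.Small Cfsg.Agent.Small.SL2C
open Cfsg.Agent.Classical.Dickson

variable {F : Type*} [Field F] [Fintype F]

theorem vS_coe (x : F) : ((PSL2.vS x : Matrix.SpecialLinearGroup (Fin 2) F) : Matrix (Fin 2) (Fin 2) F) = !![1, 0; x, 1] := rfl

theorem uS_coe (x : F) : ((PSL2.uS x : Matrix.SpecialLinearGroup (Fin 2) F) : Matrix (Fin 2) (Fin 2) F) = !![1, x; 0, 1] := rfl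

theorem psl_simple_big (h : 4 ≤ Fintype.card F) :
    IsSimpleGroup (Matrix.ProjectiveSpecialLinearGroup (Fin 2) F) :=
  Matrix.ProjectiveSpecialLinearGroup.rank_two_simple (by rw [Nat.card_eq_fintype_card]; omega)

theorem psl_not_solvable (h : 4 ≤ Fintype.card F) :
    ¬ Group.IsSolvable (Matrix.ProjectiveSpecialLinearGroup (Fin 2) F) := fun hs => by
  haveI := psl_simple_big h
  have hc := (IsSimpleGroup.comm_iff_isSolvable.mpr hs) (PSL2.pr (PSL2.uS (1 : F))) (PSL2.pr (PSL2.vS 1))
  rw [← map_mul, ← map_mul, PSL2.pr, QuotientGroup.mk'_eq_mk'] at hc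
  obtain ⟨z, hz, hz'⟩ := hc
  obtain ⟨c, hc⟩ := SL2C.mem_center_iff.mp hz
  have h00 := congrArg (fun m : Matrix.SpecialLinearGroup (Fin 2) F => m.1 0 0) hz'
  have h11 := congrArg (fun m : Matrix.SpecialLinearGroup (Fin 2) F => m.1 1 1) hz'
  simp [Fusion.Dickson.mul_entry, hc, uS_coe, vS_coe] at h00 h11
  have h01 := congrArg (fun m : Matrix.SpecialLinearGroup (Fin 2) F => m.1 0 1) hz'
  simp [Fusion.Dickson.mul_entry, hc, uS_coe, vS_coe] at h01
  subst h01
  exact one_ne_zero (α := F) (by linear_combination h00)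

/-- A proper subgroup isomorphic to a non-solvable group rules out minimality. -/
theorem not_minimal {X : Type*} [Group X] {H : Subgroup (Matrix.ProjectiveSpecialLinearGroup (Fin 2) F)}
    (e : H ≃* X) (hX : ¬ Group.IsSolvable X) (hcard : Nat.card X ≠ Nat.card (Matrix.ProjectiveSpecialLinearGroup (Fin 2) F)) :
    ¬ IsMinimalSimple (Matrix.ProjectiveSpecialLinearGroup (Fin 2) F) := fun h => by
  haveI := h.2.2 H fun ht => hcard (by rw [← Nat.card_congr e.toEquiv, ht, Subgroup.card_top])
  exact hX (Group.isSolvable_of_surjective (f := e.toMonoidHom) e.surjective)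

theorem a5_not_solvable : ¬ Group.IsSolvable (alternatingGroup (Fin 5)) := fun h => by
  refine Equiv.Perm.not_isSolvable_fin_5 ?_
  exact Group.isSolvable_of_ker_le_range (alternatingGroup (Fin 5)).subtype Equiv.Perm.sign fun x hx =>
    ⟨⟨x, MonoidHom.mem_ker.mp hx⟩, rfl⟩

theorem a5_card : Nat.card (alternatingGroup (Fin 5)) = 60 := by
  rw [nat_card_alternatingGroup, Nat.card_fin]; rfl

/-- PSL_2(q) is minimal simple iff q is 2^r (r prime), 3^r (r an odd prime), a prime greater than 5 congruent to 2 or 3 mod 5, or 5. -/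
theorem result {F : Type*} [Field F] [Fintype F] {q : ℕ} (hF : Fintype.card F = q) : Cfsg.IsMinimalSimple (Matrix.ProjectiveSpecialLinearGroup (Fin 2) F) ↔ ((∃ r : ℕ, r.Prime ∧ q = 2 ^ r) ∨ (∃ r : ℕ, r.Prime ∧ r ≠ 2 ∧ q = 3 ^ r) ∨ (q.Prime ∧ 5 < q ∧ (q % 5 = 2 ∨ q % 5 = 3)) ∨ q = 5) := by
  classical
  subst hF
  have hP := card_P2 (F := F)
  have hd2 : Nat.gcd 2 (Fintype.card F - 1) ≤ 2 := Nat.le_of_dvd two_pos (Nat.gcd_dvd_left _ _)
  constructor
  · intro hms
    obtain ⟨p, hpc⟩ := CharP.exists F
    obtain ⟨n, hp, hn⟩ := FiniteField.card F p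
    haveI : Fact p.Prime := ⟨hp⟩
    have h4 : 4 ≤ Fintype.card F := by
      by_contra hlt
      have h2 : 2 ≤ Fintype.card F := Fintype.one_lt_card
      have hs : Group.IsSolvable (Matrix.ProjectiveSpecialLinearGroup (Fin 2) F) := by
        obtain h | h : Fintype.card F = 2 ∨ Fintype.card F = 3 := by omega
        all_goals rw [h] at hP
        · exact solvable_of_two_three (a := 1) (b := 1) (by simpa using hP)
        · exact solvable_of_two_three (a := 2) (b := 1) (by norm_num at hP ⊢; omega)
      haveI := hms.1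
      exact hms.2.1 ⟨⟨IsSimpleGroup.comm_iff_isSolvable.mpr hs⟩⟩
    have hsub : ∀ d m : ℕ, 1 ≤ d → 2 ≤ m → d * m = n → p ^ d < 4 := by
      intro d m hd hm hdm
      by_contra hge
      push Not at hge
      letI : Fintype (GaloisField p d) := Fintype.ofFinite _
      have hK : Fintype.card (GaloisField p d) = p ^ d := by
        rw [← Nat.card_eq_fintype_card, GaloisField.card p d (by omega)]
      obtain ⟨ι⟩ := exists_embedding (F := F) (K := GaloisField p d) m (by omega) (by rw [hK, ← pow_mul, hdm, hn])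
      obtain ⟨H, ⟨e⟩⟩ := exists_psl ι
      refine not_minimal e (psl_not_solvable (by rw [hK]; exact hge)) ?_ hms
      intro hc
      have hlt : p ^ d < Fintype.card F := by
        rw [hn, ← hdm, pow_mul]
        exact lt_self_pow₀ (Nat.one_lt_pow (by omega) hp.one_lt) (by omega)
      have h1 := card_psl (GaloisField p d)
      rw [hK] at h1
      have hsq : (p ^ d) ^ 2 - 1 < Fintype.card F ^ 2 - 1 := by
        have := Nat.pow_lt_pow_left hlt two_ne_zero
        have : 1 ≤ (p ^ d) ^ 2 := Nat.one_le_pow _ _ (by omega)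
        omega
      have := Nat.mul_lt_mul_of_lt_of_le hlt hsq.le (by omega)
      rcases Nat.eq_or_lt_of_le hd2 with hd | hd
      · have hodd : Nat.gcd 2 (p ^ d - 1) = 2 := by
          have h2 : (2 : F) ≠ 0 := fun h => by rw [gcd_eq_one_of_even h] at hd; omega
          have h2K : (2 : GaloisField p d) ≠ 0 := fun h => h2 (by rw [← map_ofNat ι 2, h, map_zero])
          rw [← hK]; exact two_dvd_pred h2K
        rw [hodd] at h1; rw [hd] at hP; omega
      · have : 0 < Nat.gcd 2 (Fintype.card F - 1) := Nat.gcd_pos_of_pos_left _ two_pos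
        have : 1 ≤ Nat.gcd 2 (p ^ d - 1) := Nat.gcd_pos_of_pos_left _ two_pos
        have := Nat.le_mul_of_pos_right (Nat.card (Matrix.ProjectiveSpecialLinearGroup (Fin 2) (GaloisField p d))) this
        have e1 : Nat.gcd 2 (Fintype.card F - 1) = 1 := by omega
        rw [e1] at hP; omega
    have hA5 : 5 ∣ Fintype.card F * (Fintype.card F ^ 2 - 1) → Fintype.card F = 5 ∨ Fintype.card F = 4 := by
      intro h5
      obtain ⟨f, hf⟩ := Cfsg.Agent.Classical.SL2Ico.exists_injective_alt_five h5
      by_contra hne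
      push Not at hne
      refine not_minimal (MonoidHom.ofInjective hf).symm a5_not_solvable ?_ hms
      rw [a5_card]
      intro hc
      rw [← hc] at hP
      have h6 : 6 ≤ Fintype.card F := by omega
      have : 6 * 35 ≤ Fintype.card F * (Fintype.card F ^ 2 - 1) :=
        Nat.mul_le_mul h6 (Nat.le_sub_of_add_le (Nat.pow_le_pow_left h6 2))
      omega
    rcases Nat.lt_or_ge (n : ℕ) 2 with hn1 | hn2
    · have h1 : (n : ℕ) = 1 := le_antisymm (by omega) n.pos
      rw [h1, pow_one] at hn
      have hq : (Fintype.card F).Prime := hn ▸ hp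
      by_cases h5 : Fintype.card F = 5
      · exact Or.inr (Or.inr (Or.inr h5))
      refine Or.inr (Or.inr (Or.inl ⟨hq, ?_, ?_⟩))
      · rcases Nat.lt_or_ge (Fintype.card F) 5 with h | h
        · have : Fintype.card F = 4 := by omega
          rw [this] at hq; norm_num at hq
        · omega
      · by_contra hmod
        push Not at hmod
        rcases hA5 (by
          rw [Nat.dvd_iff_mod_eq_zero, Nat.mul_mod]
          have hm : Fintype.card F % 5 = 0 ∨ Fintype.card F % 5 = 1 ∨ Fintype.card F % 5 = 4 := by omega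
          rcases hm with h | h | h
          · simp [h]
          all_goals
            have : (Fintype.card F ^ 2 - 1) % 5 = 0 := by
              have hsq : Fintype.card F ^ 2 % 5 = 1 := by rw [Nat.pow_mod, h]
              omega
            simp [this]) with h | h
        · exact h5 h
        · rw [h] at hq; norm_num at hq
    · have hprime : (n : ℕ).Prime := by
        obtain ⟨r, hr, d, hd⟩ := Nat.exists_prime_and_dvd (show (n : ℕ) ≠ 1 by omega)
        rcases Nat.lt_or_ge d 2 with hlt | hge
        · have : d = 1 := by rcases d with _ | _ | d <;> omega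
          rw [hd, this, mul_one]; exact hr
        · exfalso
          have h := hsub d r (by omega) hr.two_le (by rw [hd, mul_comm])
          have := Nat.pow_le_pow_left hp.two_le d
          have := Nat.pow_le_pow_right two_pos hge
          omega
      have hp4 := hsub 1 n le_rfl hn2 (one_mul _)
      rw [pow_one] at hp4
      obtain rfl | rfl : p = 2 ∨ p = 3 := by have := hp.two_le; omega
      · exact Or.inl ⟨n, hprime, hn⟩
      · refine Or.inr (Or.inl ⟨n, hprime, fun h2 => ?_, hn⟩)
        rw [h2] at hn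
        rcases hA5 (by rw [hn]; decide) with h | h <;> rw [hn] at h <;> norm_num at h
  · intro h
    have h4 : 4 ≤ Fintype.card F := by
      rcases h with ⟨r, hr, h⟩ | ⟨r, hr, -, h⟩ | ⟨-, h, -⟩ | h
      · exact h ▸ le_trans (by norm_num) (Nat.pow_le_pow_right two_pos hr.two_le)
      · exact h ▸ le_trans (by norm_num) (Nat.pow_le_pow_right (by norm_num) hr.two_le)
      · omega
      · omega
    refine ⟨psl_simple_big h4, fun hc => psl_not_solvable h4 ?_, fun H hH => ?_⟩
    · haveI := psl_simple_big h4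
      exact IsSimpleGroup.comm_iff_isSolvable.mp fun a b => hc.1.comm a b
    rcases solvable_or H with hs | ⟨h2, ⟨f⟩⟩ | ⟨K, m, hm, hKm, hK4, hK⟩
    · exact hs
    · exfalso
      have hdvd := Nat.mul_dvd_mul_right (Subgroup.card_subgroup_dvd_card H) (Nat.gcd 2 (Fintype.card F - 1))
      rw [hP, Nat.card_congr f.toEquiv, a5_card, two_dvd_pred h2] at hdvd
      have h5 : Fintype.card F * (Fintype.card F ^ 2 - 1) % 5 = 0 := Nat.mod_eq_zero_of_dvd (dvd_trans (by norm_num) hdvd)
      rcases h with ⟨r, hr, h⟩ | ⟨r, hr, hr2, h⟩ | ⟨-, h6, hm5⟩ | h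
      · have := Cfsg.Agent.Small.SL2C.not_two_dvd_iff.mpr h2
        exact this (h ▸ dvd_pow_self 2 hr.ne_zero)
      · obtain ⟨j, rfl⟩ := hr.odd_of_ne_two hr2
        have h9 : Fintype.card F % 5 = 3 ∨ Fintype.card F % 5 = 2 := by
          rw [h, pow_succ, pow_mul, Nat.mul_mod, Nat.pow_mod]
          rcases Nat.even_or_odd j with ⟨i, rfl⟩ | ⟨i, rfl⟩
          · left; norm_num [← two_mul, pow_mul, Nat.pow_mod]
          · right; norm_num [pow_succ, pow_mul, Nat.mul_mod, Nat.pow_mod]
        have hsq : Fintype.card F ^ 2 % 5 = 4 := by rw [Nat.pow_mod]; rcases h9 with h9 | h9 <;> rw [h9]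
        have : (Fintype.card F ^ 2 - 1) % 5 = 3 := by omega
        rw [Nat.mul_mod, this] at h5; rcases h9 with h9 | h9 <;> rw [h9] at h5 <;> norm_num at h5
      · have hsq : Fintype.card F ^ 2 % 5 = 4 := by rw [Nat.pow_mod]; rcases hm5 with h9 | h9 <;> rw [h9]
        have : (Fintype.card F ^ 2 - 1) % 5 = 3 := by omega
        rw [Nat.mul_mod, this] at h5; rcases hm5 with h9 | h9 <;> rw [h9] at h5 <;> norm_num at h5
      · refine hH (Subgroup.eq_top_of_card_eq _ ?_)
        rw [two_dvd_pred h2, h] at hP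
        rw [Nat.card_congr f.toEquiv, a5_card]
        norm_num [-Nat.card_eq_fintype_card] at hP; omega
    · exfalso
      have hm2 := two_le_degree hH hm hKm (hK.imp id fun h => ⟨h.2, h.1⟩)
      rcases h with ⟨r, hr, h⟩ | ⟨r, hr, hr2, h⟩ | ⟨hq, -, -⟩ | h
      · rw [h] at hKm
        obtain ⟨i, -, hi⟩ := (Nat.dvd_prime_pow Nat.prime_two).mp ((dvd_pow_self (Nat.card K) (by omega : m ≠ 0)).trans (dvd_of_eq hKm))
        rw [hi, ← pow_mul] at hKm
        have := Nat.pow_right_injective le_rfl hKm
        rcases hr.eq_one_or_self_of_dvd i ⟨m, this.symm⟩ with rfl | rfl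
        · rw [pow_one] at hi; omega
        · have : m = 1 := Nat.eq_of_mul_eq_mul_left hr.pos (by rw [this, mul_one])
          omega
      · rw [h] at hKm
        obtain ⟨i, -, hi⟩ := (Nat.dvd_prime_pow Nat.prime_three).mp ((dvd_pow_self (Nat.card K) (by omega : m ≠ 0)).trans (dvd_of_eq hKm))
        rw [hi, ← pow_mul] at hKm
        have := Nat.pow_right_injective (by norm_num) hKm
        rcases hr.eq_one_or_self_of_dvd i ⟨m, this.symm⟩ with rfl | rfl
        · rw [pow_one] at hi; omega
        · have : m = 1 := Nat.eq_of_mul_eq_mul_left hr.pos (by rw [this, mul_one])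
          omega
      · have := degree_one_of_prime hq hKm
        omega
      · have := degree_one_of_prime (show Nat.Prime 5 by norm_num) (hKm.trans h)
        omega

end Cfsg.Agent.S0810
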