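import Cfsg.Statements.S0219
import Mathlib


set_option autoImplicit false
open Cfsg

namespace Cfsg.Agent.S0219

/-- If a finite group has even order and a cyclic Sylow 2-subgroup, then it has a subgroup of index 2 (consider the parity of permutations in the regular representation). -/
theorem result {G : Type*} [Group G] [Finite G] (heven : Even (Nat.card G)) (T : Sylow 2 G) (hT : IsCyclic (T : Subgroup G)) : ∃ H : Subgroup G, H.index = 2 := by
  haveI : Fact (Nat.Prime 2) := ⟨Nat.prime_two⟩
  have hmin : (Nat.card G).minFac = 2 := (Nat.minFac_eq_two_iff _).2 heven.two_dvd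
  set K := (MonoidHom.transferSylow T (hT.normalizer_le_centralizer hmin)).ker
  have hK : K.IsComplement' (T : Subgroup G) := IsCyclic.isComplement' hmin hT
  obtain ⟨k, hk⟩ := IsPGroup.iff_card.1 T.isPGroup'
  have hindex : K.index = 2 ^ k := by rw [hK.symm.index_eq_card, hk]
  have hk0 : k ≠ 0 := fun h0 => by
    rw [h0, pow_zero] at hk
    refine T.not_dvd_index ?_
    rw [← Subgroup.card_mul_index (T : Subgroup G), hk, one_mul] at heven
    exact heven.two_dvd
  haveI : K.Normal := MonoidHom.normal_ker _
  rw [Subgroup.index_eq_card] at hindex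
  obtain ⟨L, hL⟩ := Sylow.exists_subgroup_card_pow_prime (G := G ⧸ K) 2 (n := k - 1)
    (hindex ▸ pow_dvd_pow 2 (Nat.sub_le k 1))
  refine ⟨L.comap (QuotientGroup.mk' K), ?_⟩
  rw [Subgroup.index_comap_of_surjective _ (QuotientGroup.mk'_surjective K)]
  have h1 := L.card_mul_index
  rw [hL, hindex] at h1
  refine Nat.eq_of_mul_eq_mul_left (Nat.two_pow_pos (k - 1)) (h1.trans ?_)
  rw [← pow_succ, show k - 1 + 1 = k by omega]

end Cfsg.Agent.S0219
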