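import Cfsg.Statements.S2602
import Cfsg.Agent.Lib.Small.PSL2

set_option autoImplicit false
open Cfsg

namespace Cfsg.Agent.S2602

open Cfsg.Agent.Small.PSL2 in
theorem main {F : Type*} [Field F] [Fintype F] {p f : ℕ} [Fact p.Prime] (hF : Fintype.card F = p ^ f) :
    ∃ φ : Cfsg.Out (Matrix.ProjectiveSpecialLinearGroup (Fin 2) F) →* Multiplicative (ZMod f), Function.Surjective φ ∧ IsCyclic φ.ker ∧ Nat.card φ.ker = Nat.gcd 2 (p ^ f - 1) := by
  classical
  let G := Matrix.ProjectiveSpecialLinearGroup (Fin 2) F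
  choose gOf σOf hOf using fun α : MulAut G => aut_eq hF α
  have huniq : ∀ (α : MulAut G) (g : GL (Fin 2) F) (σ : F ≃+* F),
      α = conjP g * fieldP σ → σOf α = σ := fun α g σ h =>
    field_unique ((hOf α).symm.trans h)
  let Θ : MulAut G →* (F ≃+* F) := MonoidHom.mk' σOf (fun α β => by
    refine huniq _ (gOf α * glField (σOf α) (gOf β)) _ ?_
    conv_lhs => rw [hOf α, hOf β]
    rw [map_mul, map_mul, mul_assoc, ← mul_assoc (fieldP (σOf α)), fieldP_conjP]
    simp only [mul_assoc])
  have hΘ : ∀ (g : GL (Fin 2) F) (σ : F ≃+* F), Θ (conjP g * fieldP σ) = σ :=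
    fun g σ => huniq _ g σ rfl
  have hinn : Inn G ≤ Θ.ker := by
    rintro _ ⟨k, rfl⟩
    obtain ⟨A, rfl⟩ := pr_surjective k
    rw [MonoidHom.mem_ker, ← conjP_toGL, ← mul_one (conjP _), ← map_one fieldP, hΘ]
  let Θ' : Cfsg.Out G →* (F ≃+* F) := QuotientGroup.lift (Inn G) Θ hinn
  have hΘsurj : Function.Surjective Θ' := fun σ =>
    ⟨QuotientGroup.mk (conjP 1 * fieldP σ), hΘ 1 σ⟩
  -- the field automorphisms form a cyclic group of order f
  have : CharP F p := charP_of_card_eq_prime_pow hF
  let := ZMod.algebra F p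
  have : Finite F := inferInstance
  let toGal : (F ≃+* F) ≃* Gal(F/ZMod p) :=
    { toFun := fun σ => AlgEquiv.ofRingEquiv (f := σ) (fun x => by
        exact DFunLike.congr_fun (RingHom.ext_zmod ((σ : F →+* F).comp (algebraMap (ZMod p) F))
          (algebraMap (ZMod p) F)) x)
      invFun := fun e => e.toRingEquiv
      left_inv := fun σ => by ext; rfl
      right_inv := fun e => by ext; rfl
      map_mul' := fun σ τ => by ext; rfl }
  have hfin : Module.finrank (ZMod p) F = f := by
    have h1 := Module.card_eq_pow_finrank (K := ZMod p) (V := F)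
    rw [hF, ZMod.card] at h1
    exact (Nat.pow_right_injective (Fact.out : p.Prime).two_le h1).symm
  have hcard : Nat.card Gal(F/ZMod p) = Nat.card (Multiplicative (ZMod f)) := by
    rw [IsGalois.card_aut_eq_finrank, hfin, Nat.card_congr Multiplicative.toAdd, Nat.card_zmod]
  have : IsCyclic (Multiplicative (ZMod f)) := isCyclic_multiplicative
  let e : Gal(F/ZMod p) ≃* Multiplicative (ZMod f) := mulEquivOfCyclicCardEq hcard
  let φ : Cfsg.Out G →* Multiplicative (ZMod f) := (toGal.trans e).toMonoidHom.comp Θ'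
  refine ⟨φ, (toGal.trans e).surjective.comp hΘsurj, ?_⟩
  have hφker : φ.ker = Θ'.ker := by
    ext x
    simp only [φ, MonoidHom.mem_ker, MonoidHom.comp_apply]
    exact (toGal.trans e).map_eq_one_iff
  let δ : Fˣ →* Cfsg.Out G := (QuotientGroup.mk' (Inn G)).comp (conjP.comp dGL)
  have hδ : δ.range = φ.ker := by
    rw [hφker]
    apply le_antisymm
    · rintro _ ⟨t, rfl⟩
      change Θ (conjP (dGL t)) = 1
      rw [← mul_one (conjP _), ← map_one fieldP, hΘ]
    · intro x hx
      obtain ⟨α, rfl⟩ := QuotientGroup.mk'_surjective _ x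
      have hσ : σOf α = 1 := hx
      set g := gOf α with hg
      refine ⟨Matrix.GeneralLinearGroup.det g, ?_⟩
      have hA : (((dGL (Matrix.GeneralLinearGroup.det g))⁻¹ * g : GL (Fin 2) F)).val.det = 1 := by
        rw [← Matrix.GeneralLinearGroup.val_det_apply, map_mul, map_inv]
        have : Matrix.GeneralLinearGroup.det (dGL (Matrix.GeneralLinearGroup.det g))
            = Matrix.GeneralLinearGroup.det g := by
          apply Units.ext
          rw [Matrix.GeneralLinearGroup.val_det_apply, det_dGL]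
        rw [this, inv_mul_cancel, Units.val_one]
      let A : Matrix.SpecialLinearGroup (Fin 2) F := ⟨_, hA⟩
      have hgA : g = dGL (Matrix.GeneralLinearGroup.det g) * Matrix.SpecialLinearGroup.toGL A := by
        have : Matrix.SpecialLinearGroup.toGL A = (dGL (Matrix.GeneralLinearGroup.det g))⁻¹ * g :=
          Units.ext rfl
        rw [this, mul_inv_cancel_left]
      change QuotientGroup.mk (conjP (dGL _)) = QuotientGroup.mk α
      rw [QuotientGroup.eq]
      refine ⟨pr A, ?_⟩
      rw [eq_inv_mul_iff_mul_eq, hOf α, hσ, map_one, mul_one, ← hg]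
      conv_rhs => rw [hgA, map_mul, conjP_toGL]
  have hδker : δ.ker = (powMonoidHom 2 : Fˣ →* Fˣ).range := by
    ext t
    constructor
    · intro ht
      have ht' : conjP (dGL t) ∈ Inn G := (QuotientGroup.eq_one_iff _).mp ht
      obtain ⟨k, hk⟩ := ht'
      obtain ⟨A, rfl⟩ := pr_surjective k
      rw [← conjP_toGL] at hk
      set h : GL (Fin 2) F := (Matrix.SpecialLinearGroup.toGL A)⁻¹ * dGL t with hh
      have h1 : conjP h = 1 := by rw [hh, map_mul, map_inv, ← hk, inv_mul_cancel]
      have h2 := congrArg Matrix.det (scalar_of_conjP_eq_one h1)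
      have hdet : h.val.det = t := by
        have h3 : Matrix.GeneralLinearGroup.det (Matrix.SpecialLinearGroup.toGL A) = 1 :=
          Units.ext A.2
        rw [← Matrix.GeneralLinearGroup.val_det_apply, hh, map_mul, map_inv, h3, inv_one,
          one_mul, Matrix.GeneralLinearGroup.val_det_apply, det_dGL]
      rw [hdet, Matrix.det_smul, Matrix.det_one, Fintype.card_fin, mul_one] at h2
      have hne : h.val 0 0 ≠ 0 := by
        intro h0
        rw [h0, zero_pow two_ne_zero] at h2
        exact t.ne_zero h2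
      exact ⟨Units.mk0 _ hne, Units.ext (by simp [h2])⟩
    · rintro ⟨s, rfl⟩
      refine (QuotientGroup.eq_one_iff _).mpr ⟨pr (hS s), ?_⟩
      rw [← conjP_toGL]
      ext x
      obtain ⟨B, rfl⟩ := pr_surjective x
      change _ = conjP (dGL (powMonoidHom 2 s)) (pr B)
      rw [conjP_apply, conjP_apply]
      congr 1
      apply Subtype.ext
      rw [conjSL_val, conjSL_val]
      have e1 : (dGL (powMonoidHom 2 s)).val = (s : F) • (hS s).1 := by
        simp [dGL, pow_two]
      have e2 : (dGL (powMonoidHom 2 s))⁻¹.val = (s : F)⁻¹ • (Matrix.SpecialLinearGroup.toGL (hS s))⁻¹.val := by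
        rw [← map_inv, ← map_inv Matrix.SpecialLinearGroup.toGL]
        change (dGL ((powMonoidHom 2 s)⁻¹)).val = (s : F)⁻¹ • ((hS s)⁻¹).1
        rw [Matrix.SpecialLinearGroup.coe_inv, hS_val, Matrix.adjugate_fin_two_of]
        simp [dGL, pow_two]
      rw [e1, e2, Matrix.smul_mul, Matrix.smul_mul, Matrix.mul_smul, smul_smul,
        mul_inv_cancel₀ s.ne_zero, one_smul]
      rfl
  rw [← hδ]
  refine ⟨isCyclic_of_surjective δ.rangeRestrict δ.rangeRestrict_surjective, ?_⟩
  rw [← Nat.card_congr (QuotientGroup.quotientKerEquivRange δ).toEquiv, ← Subgroup.index_eq_card,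
    hδker, IsCyclic.index_powMonoidHom_range, Nat.card_units, Nat.card_eq_fintype_card, hF,
    Nat.gcd_comm]

/-- Structure of the outer automorphism group of PSL_2(q), q = p^f ≥ 4: it has a normal cyclic subgroup of order gcd(2, q − 1) (diagonal automorphisms) with cyclic quotient of order f (field automorphisms); there is no graph automorphism in dimension 2. -/
theorem result {F : Type*} [Field F] [Fintype F] {p f : ℕ} [Fact p.Prime] (hf : 1 ≤ f) (hF : Fintype.card F = p ^ f) (h4 : 4 ≤ p ^ f) : ∃ φ : Cfsg.Out (Matrix.ProjectiveSpecialLinearGroup (Fin 2) F) →* Multiplicative (ZMod f), Function.Surjective φ ∧ IsCyclic φ.ker ∧ Nat.card φ.ker = Nat.gcd 2 (p ^ f - 1) := by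
  exact main hF

end Cfsg.Agent.S2602
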