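import Cfsg.Statements.S0254
import Cfsg.Agent.Lib.Classical.PSL2Ico
import Cfsg.Agent.Lib.Classical.SL2Four

set_option autoImplicit false
open Cfsg

namespace Cfsg.Agent.S0254

/-- PSL_2(9) is isomorphic to A_6. -/
theorem result {F : Type*} [Field F] [Fintype F] (hF : Fintype.card F = 9) : Nonempty (Matrix.ProjectiveSpecialLinearGroup (Fin 2) F ≃* alternatingGroup (Fin 6)) := by
  classical
  obtain ⟨f, hf⟩ := Cfsg.Agent.Classical.SL2Ico.exists_injective_alt_five (F := F) (by rw [hF]; norm_num)
  have h2 : (2 : F) ≠ 0 := Cfsg.Agent.Classical.SL2Four.two_ne_zero_of_odd hF (by decide)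
  have hG : IsSimpleGroup (Matrix.ProjectiveSpecialLinearGroup (Fin 2) F) :=
    Matrix.ProjectiveSpecialLinearGroup.rank_two_simple (by rw [Nat.card_eq_fintype_card, hF]; norm_num)
  have hP : Nat.card (Matrix.ProjectiveSpecialLinearGroup (Fin 2) F) = 360 := by
    have h := Cfsg.Agent.Classical.SL2Four.card_SL_eq (F := F) h2
    rw [Cfsg.Agent.Small.SL2C.card_SL2, hF] at h
    norm_num at h ⊢
    omega
  have hR : Nat.card f.range = 60 := by
    rw [← Nat.card_congr (MonoidHom.ofInjective hf).toEquiv, nat_card_alternatingGroup, Nat.card_fin]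
    rfl
  have h6 : f.range.index = 6 := by
    have h := Subgroup.card_mul_index f.range
    rw [hR, hP] at h
    omega
  let e : (Matrix.ProjectiveSpecialLinearGroup (Fin 2) F ⧸ f.range) ≃ Fin 6 :=
    Finite.equivFinOfCardEq h6
  let φ : Matrix.ProjectiveSpecialLinearGroup (Fin 2) F →* Equiv.Perm (Fin 6) :=
    e.permCongrHom.toMonoidHom.comp (MulAction.toPermHom _ _)
  have hinj : Function.Injective φ := by
    rw [← MonoidHom.ker_eq_bot_iff]
    refine (hG.eq_bot_or_eq_top_of_normal φ.ker (MonoidHom.normal_ker φ)).resolve_right fun h => ?_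
    have hle : φ.ker ≤ f.range := by
      intro g hg
      have h1 : MulAction.toPermHom (Matrix.ProjectiveSpecialLinearGroup (Fin 2) F)
          (Matrix.ProjectiveSpecialLinearGroup (Fin 2) F ⧸ f.range) g = 1 :=
        e.permCongrHom.injective (by rw [map_one]; exact MonoidHom.mem_ker.mp hg)
      have h2' := congrArg (fun p : Equiv.Perm _ =>
        p ((1 : Matrix.ProjectiveSpecialLinearGroup (Fin 2) F) : _ ⧸ f.range)) h1
      simp only [MulAction.toPermHom_apply, MulAction.toPerm_apply, Equiv.Perm.coe_one, id_eq,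
        MulAction.Quotient.smul_coe, smul_eq_mul, mul_one] at h2'
      have h3 := QuotientGroup.eq.mp h2'
      simpa using h3
    rw [h, top_le_iff] at hle
    rw [hle, Subgroup.index_top] at h6
    omega
  have hidx : φ.range.index = 2 := by
    have h := Subgroup.card_mul_index φ.range
    rw [← Nat.card_congr (MonoidHom.ofInjective hinj).toEquiv, hP, Nat.card_perm, Nat.card_fin,
      show Nat.factorial 6 = 720 from rfl] at h
    omega
  exact ⟨(MonoidHom.ofInjective hinj).trans
    (MulEquiv.subgroupCongr (Equiv.Perm.eq_alternatingGroup_of_index_eq_two hidx))⟩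

end Cfsg.Agent.S0254
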