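import Cfsg.Statements.S0984
import Cfsg.Agent.Lib.Small.AltSevenCosets
import Cfsg.Agent.Lib.Small.SimpleOrderTools

set_option autoImplicit false
open Cfsg

namespace Cfsg.Agent.S0984

/-- A simple group of order 2520 is isomorphic to the alternating group of degree 7. -/
theorem result {G : Type*} [Group G] [Finite G] [IsSimpleGroup G] (h : Nat.card G = 2520) : Nonempty (G ≃* alternatingGroup (Fin 7)) := by
  obtain ⟨H, hH⟩ := Small.AltSeven.exists_card_subgroup h
  have hidx : H.index = 7 := by
    have := H.index_mul_card
    rw [hH, h] at this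
    omega
  have hne : H ≠ ⊤ := fun e => by
    rw [e, Subgroup.card_top, h] at hH
    norm_num at hH
  obtain ⟨f, hf, hfr⟩ :=
    Small.SimpleOrderTools.card_dvd_half_factorial (Small.AltSeven.not_comm h) H hne
  have hall : ∀ g, f g ∈ alternatingGroup (Fin H.index) := fun g => hfr ⟨g, rfl⟩
  have hf' : Function.Injective (f.codRestrict _ hall) := fun a b e =>
    hf (congrArg Subtype.val e)
  have hcard : Nat.card G = Nat.card (alternatingGroup (Fin H.index)) := by
    rw [h, hidx, nat_card_alternatingGroup, Nat.card_fin]
    rfl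
  exact ⟨(MulEquiv.ofBijective _ ((Nat.bijective_iff_injective_and_card _).2 ⟨hf', hcard⟩)).trans
    (finCongr hidx).altCongrHom⟩

end Cfsg.Agent.S0984
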