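import Cfsg.Statements.S0514
import Cfsg.Agent.Lib.Fusion.NPC

set_option autoImplicit false
open Cfsg

namespace Cfsg.Agent.S0514

open Cfsg.Agent.Fusion

/-- In a finite group whose Sylow 2-subgroups are dihedral of order at least 4, the centralizer of any involution has a
normal subgroup of odd order whose index in the centralizer is a power of 2. -/
theorem result {X : Type*} [Group X] [Finite X]
    (S : Sylow 2 X) (n : ℕ) (hn : 2 ≤ n) (hS : Nonempty ((S : Subgroup X) ≃* DihedralGroup n)) (t : X)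
    (ht : orderOf t = 2) :
    ∃ N : Subgroup (Subgroup.centralizer ({t} : Set X)), N.Normal ∧ Odd (Nat.card N) ∧ ∃ k : ℕ, N.index = 2 ^ k := by
  haveI : Fact (Nat.Prime 2) := ⟨Nat.prime_two⟩
  haveI : NeZero n := ⟨by omega⟩
  obtain ⟨e⟩ := hS
  set C := Subgroup.centralizer ({t} : Set X) with hC
  suffices h : Cfsg.HasNormalPComplement 2 ↥C by
    refine ⟨Cfsg.pResidual 2 ↥C, inferInstance, Nat.coprime_two_right.1 (hnpc_iff.1 h), ?_⟩
    rw [Subgroup.index_eq_card]
    exact IsPGroup.iff_card.1 isPGroup_quotient_pResidual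
  have htC : t ∈ C := Subgroup.mem_centralizer_singleton_iff.2 rfl
  have htp : IsPGroup 2 (Subgroup.zpowers (⟨t, htC⟩ : ↥C)) := IsPGroup.of_card (n := 1) (by
    rw [Nat.card_zpowers, Subgroup.orderOf_mk, ht, pow_one])
  obtain ⟨T, hT, htT⟩ := exists_sylIn_ge htp le_top
  refine hnpc_of_centralize hT fun Q hQ g hg hgo => ?_
  -- embed T in the dihedral group
  obtain ⟨S', hS'⟩ := (hT.isPGroup.map C.subtype).exists_le_sylow
  obtain ⟨x, hx⟩ := MulAction.exists_smul_eq X S' S
  obtain ⟨ι, hι, hsurjι⟩ : ∃ ι : ↥C → DihedralGroup n,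
      (∀ a ∈ T, ∀ b ∈ T, ι a = ι b → a = b) ∧ (∀ a ∈ T, ∀ b ∈ T, ι (a * b) = ι a * ι b) := by
    have hmem : ∀ a ∈ T, x * (a : X) * x⁻¹ ∈ (S : Subgroup X) := by
      intro a ha
      rw [← hx]
      exact conj_mem_cj (hS' (Subgroup.mem_map_of_mem C.subtype ha))
    refine ⟨fun a => by classical exact if h : a ∈ T then e ⟨_, hmem a h⟩ else 1, ?_, ?_⟩
    · intro a ha b hb hab
      simp only [dif_pos ha, dif_pos hb] at hab
      have := congrArg Subtype.val (e.injective hab)
      simpa using this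
    · intro a ha b hb
      simp only [dif_pos ha, dif_pos hb, dif_pos (mul_mem ha hb), ← map_mul]
      congr 1
      refine Subtype.ext ?_
      simp [mul_assoc]
  -- enlarge Q by t
  obtain ⟨Q', hQ'⟩ : ∃ Q', Q' = Q ⊔ Subgroup.zpowers (⟨t, htC⟩ : ↥C) := ⟨_, rfl⟩
  have hQ'T : Q' ≤ T := hQ' ▸ sup_le hQ htT
  have htQ' : (⟨t, htC⟩ : ↥C) ∈ Q' := hQ' ▸ (le_sup_right : Subgroup.zpowers (⟨t, htC⟩ : ↥C) ≤ Q ⊔ _) (Subgroup.mem_zpowers _)
  have hgt : g * (⟨t, htC⟩ : ↥C) * g⁻¹ = ⟨t, htC⟩ := mul_inv_eq_iff_eq_mul.2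
    (Subtype.ext (Subgroup.mem_centralizer_singleton_iff.1 g.2))
  have hgQ' : g ∈ Subgroup.normalizer (Q' : Set ↥C) := by
    refine mem_normalizer_iff_cj.2 ?_
    rw [hQ', cj_sup, cj_eq_self hg, cj, MonoidHom.map_zpowers]
    congr 2
  suffices h : ∀ q ∈ Q', g * q = q * g by
    exact Subgroup.mem_centralizer_iff.2 fun q hq => (h q (hQ' ▸ (le_sup_left : Q ≤ _) hq)).symm
  have hmap : ∀ q ∈ Q', g * q * g⁻¹ ∈ Q' := fun q hq => (Subgroup.mem_normalizer_iff.1 hgQ' q).1 hq
  have hord : ∀ q ∈ Q', orderOf (ι q) = orderOf q := by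
    intro q hq
    let f : ↥T →* DihedralGroup n := MonoidHom.mk' (fun a => ι a) fun a b => hsurjι a a.2 b b.2
    have hf : Function.Injective f := fun a b hab => Subtype.ext (hι a a.2 b b.2 hab)
    have := orderOf_injective f hf ⟨q, hQ'T hq⟩
    rw [Subgroup.orderOf_mk] at this
    exact this
  -- conjugation by g on Q' is trivial
  have hiter : ∀ (φ : ↥Q' → ↥Q'), (∀ q, (φ q : ↥C) = g * q * g⁻¹) → ∀ (k : ℕ) (q : ↥Q'),
      ((φ^[k]) q : ↥C) = g ^ k * q * (g ^ k)⁻¹ := by
    intro φ hφ k
    induction k with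
    | zero => simp
    | succ k ih =>
      intro q
      rw [Function.iterate_succ_apply', hφ, ih, pow_succ']
      group
  obtain ⟨φ, hφ⟩ : ∃ φ : ↥Q' → ↥Q', ∀ q, (φ q : ↥C) = g * q * g⁻¹ :=
    ⟨fun q => ⟨_, hmap q q.2⟩, fun _ => rfl⟩
  suffices h : ∀ q : ↥Q', φ q = q by
    intro q hq
    exact mul_inv_eq_iff_eq_mul.1 ((hφ ⟨q, hq⟩).symm.trans (congrArg Subtype.val (h ⟨q, hq⟩)))
  -- an orbit of odd order elements
  have hper : ∀ q : ↥Q', Function.IsPeriodicPt φ (orderOf g) q := fun q => Subtype.ext (by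
    rw [hiter φ hφ, pow_orderOf_eq_one]; simp)
  have hodd : Odd (orderOf g) := Nat.coprime_two_right.1 hgo
  obtain ⟨t', ht'⟩ : ∃ t' : ↥Q', (t' : ↥C) = ⟨t, htC⟩ := ⟨⟨_, htQ'⟩, rfl⟩
  have hφt : φ t' = t' := Subtype.ext (by rw [hφ, ht', hgt])
  have hmul : ∀ a b : ↥Q', φ (a * b) = φ a * φ b := fun a b => Subtype.ext (by
    simp only [hφ, Subgroup.coe_mul]; group)
  have hinj : Function.Injective φ := fun a b hab => Subtype.ext (by
    have := congrArg Subtype.val hab
    rw [hφ, hφ] at this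
    exact mul_left_cancel (mul_right_cancel this))
  have hcomt : ∀ q : ↥Q', q * t' = t' * q := fun q => Subtype.ext (Subtype.ext (by
    have := Subgroup.mem_centralizer_singleton_iff.1 (q : ↥C).2
    simpa [ht'] using this))
  have ht1 : t' ≠ 1 := fun h => by
    have := congrArg (fun q : ↥Q' => ((q : ↥C) : X)) h
    simp [ht'] at this
    rw [this, orderOf_one] at ht
    omega
  have htt : t' * t' = 1 := Subtype.ext (Subtype.ext (by
    simpa [ht'] using show t * t = 1 by rw [← pow_two, ← ht, pow_orderOf_eq_one]))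
  -- the embedding
  obtain ⟨j, hj⟩ : ∃ j : ↥Q' →* DihedralGroup n, ∀ q : ↥Q', j q = ι q :=
    ⟨MonoidHom.mk' (fun q => ι q) fun a b => hsurjι a (hQ'T a.2) b (hQ'T b.2), fun _ => rfl⟩
  have hjinj : Function.Injective j := fun a b hab => Subtype.ext (hι a (hQ'T a.2) b (hQ'T b.2) (by rwa [← hj, ← hj]))
  have huniq : ∀ i i' : ZMod n, i + i = 0 → i' + i' = 0 → i ≠ 0 → i' ≠ 0 → i = i' := by
    have key : ∀ i : ZMod n, i + i = 0 → i ≠ 0 → 2 * i.val = n := by
      intro i hi hi0
      have h1 : ((i.val + i.val : ℕ) : ZMod n) = 0 := by push_cast; simpa using hi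
      rw [ZMod.natCast_eq_zero_iff] at h1
      have h2 := ZMod.val_lt i
      have h3 : i.val ≠ 0 := fun h => hi0 ((ZMod.val_eq_zero i).1 h)
      obtain ⟨c, hc⟩ := h1
      rcases c with _ | _ | c
      · omega
      · omega
      · nlinarith
    intro i i' h h' h0 h0'
    exact ZMod.val_injective n (by have := key i h h0; have := key i' h' h0'; omega)
  -- a moved element is not shifted by t
  have hshift : ∀ q : ↥Q', φ q = q * t' → False := by
    intro q hq
    have h2 : ∀ k, φ^[2 * k + 1] q = q * t' := fun k => by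
      induction k with
      | zero => simpa using hq
      | succ k ih =>
        rw [show 2 * (k + 1) + 1 = (2 * k + 1) + 1 + 1 by ring, Function.iterate_succ_apply',
          Function.iterate_succ_apply', ih, hmul, hφt, hq, mul_assoc, htt, mul_one, hq]
    obtain ⟨k, hk⟩ := hodd
    have := h2 k
    rw [← hk, hper q] at this
    exact ht1 (mul_left_cancel (a := q) (this.symm.trans (mul_one q).symm))
  -- powers of a fixed difference
  have hdiff : ∀ q d : ↥Q', φ q = q * d → φ d = d → d = 1 := by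
    intro q d hq hd
    have h2 : ∀ k, φ^[k] q = q * d ^ k := fun k => by
      induction k with
      | zero => simp
      | succ k ih =>
        rw [Function.iterate_succ_apply', ih, hmul, hq]
        have : ∀ k : ℕ, φ (d ^ k) = d ^ k := fun k => by
          induction k with
          | zero => exact mul_left_cancel (a := φ 1) (by rw [pow_zero, mul_one, ← hmul, mul_one])
          | succ k ih => rw [pow_succ, hmul, ih, hd]
        rw [this, pow_succ', mul_assoc]
    have h3 := h2 (orderOf g)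
    rw [hper q] at h3
    have h4 : d ^ orderOf g = 1 := (mul_eq_left.1 h3.symm)
    obtain ⟨k, hk⟩ := (hT.isPGroup.to_le hQ'T) d
    have h5 := pow_gcd_eq_one.2 (And.intro h4 hk)
    rwa [(Nat.Coprime.pow_right k (Nat.coprime_two_right.2 hodd)).gcd_eq_one, pow_one] at h5
  have hjt : j t' * j t' = 1 := by rw [← map_mul, htt, map_one]
  rcases hjeq : j t' with i₀ | i₀
  · -- t is a rotation
    have hi₀ : i₀ + i₀ = 0 ∧ i₀ ≠ 0 := by
      refine ⟨?_, fun h => ht1 (hjinj (by rw [hjeq, h, map_one]; rfl))⟩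
      rw [hjeq, DihedralGroup.r_mul_r, DihedralGroup.one_def, DihedralGroup.r.injEq] at hjt
      exact hjt
    have hrotmap : ∀ (m : ℕ) (q : ↥Q'), orderOf q = m → ∀ i, j q = DihedralGroup.r i → φ q = q := by
      intro m
      induction m using Nat.strong_induction_on with
      | _ m ih =>
      intro q hqm i hi
      have hφord : orderOf (φ q) = orderOf q := orderOf_injective (MonoidHom.mk' φ hmul) hinj q
      obtain ⟨i', hi'⟩ : ∃ i', j (φ q) = DihedralGroup.r i' := by
        rcases hjφ : j (φ q) with i' | i'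
        · exact ⟨i', rfl⟩
        exfalso
        have h2 : orderOf q = 2 := by
          rw [← hφord, ← orderOf_injective j hjinj, hjφ, DihedralGroup.orderOf_sr]
        have hii : i + i = 0 ∧ i ≠ 0 := by
          have h3 : j q * j q = 1 := by rw [← map_mul, ← pow_two, ← h2, pow_orderOf_eq_one, map_one]
          rw [hi, DihedralGroup.r_mul_r, DihedralGroup.one_def, DihedralGroup.r.injEq] at h3
          refine ⟨h3, fun h => ?_⟩
          have : q = 1 := hjinj (by rw [hi, h, map_one]; rfl)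
          rw [this, orderOf_one] at h2
          omega
        have hqt : q = t' := hjinj (by rw [hi, hjeq, huniq i i₀ hii.1 hi₀.1 hii.2 hi₀.2])
        rw [hqt, hφt, hjeq] at hjφ
        cases hjφ
      by_cases hq1 : q = 1
      · subst hq1
        exact mul_left_cancel (a := φ 1) (by rw [mul_one, ← hmul, mul_one])
      have hlt : orderOf (q * q) < m := by
        obtain ⟨k, hk⟩ := IsPGroup.iff_orderOf.1 (hT.isPGroup.to_le hQ'T) q
        rw [← pow_two, ← hqm, hk]
        rcases k with _ | k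
        · rw [pow_zero, orderOf_eq_one_iff] at hk; exact absurd hk hq1
        rw [orderOf_pow' _ (by norm_num : (2:ℕ) ≠ 0), hk, Nat.gcd_eq_right (dvd_pow_self 2 (Nat.succ_ne_zero k))]
        have : 0 < 2 ^ (k + 1) := by positivity
        omega
      have hsq : φ (q * q) = q * q := ih _ hlt _ rfl (i + i) (by rw [map_mul, hi, DihedralGroup.r_mul_r])
      have h3 : i' + i' = i + i := by
        have := congrArg j hsq
        rwa [hmul, map_mul, map_mul, hi', hi, DihedralGroup.r_mul_r, DihedralGroup.r_mul_r, DihedralGroup.r.injEq] at this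
      by_cases he : i' = i
      · exact hjinj (by rw [hi', hi, he])
      refine (hshift q (hjinj ?_)).elim
      rw [map_mul, hi', hi, hjeq, DihedralGroup.r_mul_r,
        ← huniq (i' - i) i₀ (by linear_combination h3) hi₀.1 (sub_ne_zero.2 he) hi₀.2, add_sub_cancel]
    intro q
    rcases hjq : j q with i | i
    · exact hrotmap _ q rfl i hjq
    rcases hjφ : j (φ q) with i' | i'
    · have h1 := hrotmap _ (φ q) rfl i' hjφ
      exact hinj h1
    have h1 : j (q⁻¹ * φ q) = DihedralGroup.r (i' - i) := by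
      rw [map_mul, map_inv, hjq, hjφ, DihedralGroup.inv_sr, DihedralGroup.sr_mul_sr]
    have := hdiff q (q⁻¹ * φ q) (mul_inv_cancel_left q _).symm (hrotmap _ _ rfl _ h1)
    exact (inv_mul_eq_one.1 this).symm
  · -- t is a reflection
    have hrot2 : ∀ q : ↥Q', ∀ i, j q = DihedralGroup.r i → i + i = 0 := by
      intro q i hi
      have h1 : j q * j t' = j t' * j q := by rw [← map_mul, hcomt, map_mul]
      rw [hi, hjeq, DihedralGroup.r_mul_sr, DihedralGroup.sr_mul_r, DihedralGroup.sr.injEq] at h1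
      linear_combination -h1
    have hclass : ∀ q : ↥Q', q ≠ 1 → q ≠ t' → ∃ d : ↥Q', (q = d ∨ q = d * t') ∧
        ∃ i, j d = DihedralGroup.r i ∧ i ≠ 0 := by
      intro q hq1 hqt
      rcases hjq : j q with i | i
      · exact ⟨q, Or.inl rfl, i, hjq, fun h => hq1 (hjinj (by rw [hjq, h, map_one]; rfl))⟩
      · refine ⟨q * t', Or.inr (by rw [mul_assoc, htt, mul_one]), i₀ - i, by
          rw [map_mul, hjq, hjeq, DihedralGroup.sr_mul_sr], fun h => hqt (hjinj ?_)⟩
        rw [hjq, hjeq, sub_eq_zero.1 h]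
    intro q
    by_cases hq1 : q = 1
    · subst hq1
      exact mul_left_cancel (a := φ 1) (by rw [mul_one, ← hmul, mul_one])
    by_cases hqt : q = t'
    · rw [hqt, hφt]
    obtain ⟨d, hd, i, hdi, hi0⟩ := hclass q hq1 hqt
    obtain ⟨d', hd', i', hdi', hi0'⟩ := hclass (φ q)
      (fun h => hq1 (hinj (h.trans (mul_left_cancel (a := φ 1) (by rw [mul_one, ← hmul, mul_one])).symm)))
      (fun h => hqt (hinj (h.trans hφt.symm)))
    have hdd : d' = d := hjinj (by rw [hdi', hdi, huniq i' i (hrot2 _ _ hdi') (hrot2 _ _ hdi) hi0' hi0])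
    subst hdd
    rcases hd with e | e <;> rcases hd' with e' | e'
    · rw [e', e]
    · exact (hshift q (by rw [e', ← e])).elim
    · exact (hshift q (by rw [e', e, mul_assoc, htt, mul_one])).elim
    · rw [e', e]

end Cfsg.Agent.S0514
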