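import Cfsg.Statements.S1279
import Cfsg.Agent.Lib.Fusion.SolvableBalance

set_option autoImplicit false
open Cfsg
open Cfsg.Agent.Fusion
open scoped commutatorElement

namespace Cfsg.Agent.S1279

/-- Let A be a noncyclic elementary abelian p-subgroup of the finite group G such that C_G(a) is solvable for every non-identity a ∈ A. Then a ↦ O_{p'}(C_G(a)) is a solvable A-signalizer functor on G. -/
theorem result {G : Type*} [Group G] [Finite G] (p : ℕ) [Fact p.Prime] (A : Subgroup G) (hA : Cfsg.IsElementaryAbelian p A) (hA2 : p ^ 2 ≤ Nat.card ↥A) (hsolv : ∀ a ∈ A, a ≠ 1 → Group.IsSolvable ↥(Subgroup.centralizer ({a} : Set G))) : Cfsg.IsSolvableSignalizerFunctor p A (fun a => Cfsg.centralizerPPrimeCore p a) := by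
  haveI := hA.1
  have hp : ∀ z ∈ A, IsPGroup p ↥(Subgroup.zpowers z) := fun z hz =>
    (show IsPGroup p ↥A from fun a => ⟨1, Subtype.ext (by rw [pow_one]; exact hA.2 a a.2)⟩).to_le
      (Subgroup.zpowers_le.2 hz)
  have hcomm : ∀ u ∈ A, ∀ v ∈ A, u * v = v * u := fun u hu v hv =>
    congrArg Subtype.val (mul_comm' (⟨u, hu⟩ : A) ⟨v, hv⟩)
  refine ⟨⟨fun a _ _ => Subgroup.map_subtype_le _, fun a _ _ => ?_, fun a ha _ b hb x hx => ?_,
    fun a ha ha1 b hb hb1 => centralizerPPrimeCore_inf_le (hp a ha) (hcomm a ha b hb) (hsolv b hb hb1)⟩,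
    fun a ha ha1 => ?_⟩
  · show ¬ p ∣ Nat.card ↥(Cfsg.centralizerPPrimeCore p a)
    rw [Cfsg.centralizerPPrimeCore, Subgroup.card_map_of_injective (Subgroup.subtype_injective _)]
    exact coprime_card_iff_not_dvd.1 (card_pPrimeCore_coprime p _)
  · obtain ⟨o, ho, rfl⟩ := hx
    have hbC : b ∈ Subgroup.centralizer ({a} : Set G) :=
      Subgroup.mem_centralizer_singleton_iff.2 (hcomm b hb a ha)
    exact ⟨⟨b, hbC⟩ * o * ⟨b, hbC⟩⁻¹, (inferInstance : (Cfsg.pPrimeCore p _).Normal).conj_mem o ho _, rfl⟩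
  · haveI := hsolv a ha ha1
    exact Group.isSolvable_of_isSolvable_injective
      (Subgroup.inclusion_injective (Subgroup.map_subtype_le (Cfsg.pPrimeCore p ↥(Subgroup.centralizer ({a} : Set G)))))

end Cfsg.Agent.S1279
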