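import Cfsg.Statements.S0950
import Cfsg.Agent.Lib.Fusion.NPC

set_option autoImplicit false
open Cfsg

namespace Cfsg.Agent.S0950

/-- Let S be a Sylow 2-subgroup of the finite group G that is isomorphic to the quaternion group of order 8, and suppose S has no normal complement in G. Then any two subgroups of order 4 of S are conjugate by an element of the normalizer of S. -/
theorem result {G : Type*} [Group G] [Finite G] (S : Sylow 2 G) (e : (S : Subgroup G) ≃* QuaternionGroup 2) (hnc : ∀ N : Subgroup G, N.Normal → ¬ Subgroup.IsComplement' N (S : Subgroup G)) (A B : Subgroup G) (hA : A ≤ S) (hB : B ≤ S) (hA4 : Nat.card A = 4) (hB4 : Nat.card B = 4) : ∃ n ∈ Subgroup.normalizer ((S : Subgroup G) : Set G), B = A.map (MulAut.conj n).toMonoidHom := by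
  classical
  haveI : Fact (Nat.Prime 2) := ⟨Nat.prime_two⟩
  have hS : Cfsg.Agent.Fusion.SylIn 2 (S : Subgroup G) ⊤ := ⟨le_top, S.2, by
    rw [Subgroup.relIndex_top_right]; exact S.not_dvd_index⟩
  -- facts about the quaternion group
  have hq2 : ∀ q : QuaternionGroup 2, q ^ 2 = 1 → q = 1 ∨ q = QuaternionGroup.a 2 := by decide
  have hq6 : ∀ q : QuaternionGroup 2, q ^ 2 ≠ 1 →
      (q = QuaternionGroup.a 1 ∨ q⁻¹ = QuaternionGroup.a 1) ∨
      (q = QuaternionGroup.xa 0 ∨ q⁻¹ = QuaternionGroup.xa 0) ∨
      (q = QuaternionGroup.xa 1 ∨ q⁻¹ = QuaternionGroup.xa 1) := by decide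
  have hq4 : ∀ q : QuaternionGroup 2, q ^ 4 = 1 := by decide
  let el : QuaternionGroup 2 → G := fun q => ((e.symm q : (S : Subgroup G)) : G)
  let Ki : Fin 3 → Subgroup G := ![Subgroup.zpowers (el (QuaternionGroup.a 1)),
    Subgroup.zpowers (el (QuaternionGroup.xa 0)), Subgroup.zpowers (el (QuaternionGroup.xa 1))]
  have hsq : ∀ q : QuaternionGroup 2, el q ^ 2 = 1 → q ^ 2 = 1 := by
    intro q h
    apply e.symm.injective
    rw [map_pow, map_one]
    exact Subtype.ext (by simpa [el] using h)
  have four : ∀ x ∈ (S : Subgroup G), x ^ 2 ≠ 1 → ∃ i, Subgroup.zpowers x = Ki i ∧ orderOf x = 4 := by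
    intro x hx hx2
    set q := e ⟨x, hx⟩ with hq
    have hxq : el q = x := by simp [el, hq]
    have hq2' : q ^ 2 ≠ 1 := fun h => hx2 (by
      rw [← hxq]
      have := congrArg (fun t : (S : Subgroup G) => (t : G)) (congrArg e.symm h)
      simpa [el] using this)
    have hinv : ∀ r : QuaternionGroup 2, el r⁻¹ = (el r)⁻¹ := fun r => by simp [el]
    have key : ∀ r : QuaternionGroup 2, (q = r ∨ q⁻¹ = r) → Subgroup.zpowers x = Subgroup.zpowers (el r) := by
      rintro r (rfl | rfl)
      · rw [hxq]
      · rw [hinv, hxq, Subgroup.zpowers_inv]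
    have h4 : orderOf x = 4 := by
      have h4' : x ^ 4 = 1 := by
        have : q ^ 4 = 1 := hq4 q
        rw [← hxq]
        have := congrArg (fun t : (S : Subgroup G) => (t : G)) (congrArg e.symm this)
        simpa [el] using this
      exact orderOf_eq_prime_pow (p := 2) (n := 1) (by simpa using hx2) (by simpa using h4')
    rcases hq6 q hq2' with h | h | h
    · exact ⟨0, key _ h, h4⟩
    · exact ⟨1, key _ h, h4⟩
    · exact ⟨2, key _ h, h4⟩
  have sub4 : ∀ K : Subgroup G, K ≤ (S : Subgroup G) → Nat.card K = 4 → ∃ i, K = Ki i := by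
    intro K hK h4
    by_cases h : ∃ x ∈ K, x ^ 2 ≠ 1
    · obtain ⟨x, hx, hx2⟩ := h
      obtain ⟨i, hi, ho⟩ := four x (hK hx) hx2
      refine ⟨i, ?_⟩
      rw [← hi]
      exact (Subgroup.eq_of_le_of_card_ge (Subgroup.zpowers_le.2 hx) (by rw [h4, Nat.card_zpowers, ho])).symm
    · exfalso
      simp only [not_exists, not_and, not_not] at h
      let f : K → ({1, QuaternionGroup.a 2} : Set (QuaternionGroup 2)) := fun x => ⟨e ⟨x, hK x.2⟩, by
        have : (⟨(x : G), hK x.2⟩ : (S : Subgroup G)) ^ 2 = 1 := Subtype.ext (by simpa using h x x.2)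
        exact hq2 _ (by rw [← map_pow, this, map_one])⟩
      have hf : Function.Injective f := fun a b hab => by
        have h1 := congrArg Subtype.val hab
        simp only [f, EmbeddingLike.apply_eq_iff_eq] at h1
        have h2 : (a : G) = (b : G) := congrArg (fun z : (S : Subgroup G) => (z : G)) h1
        exact Subtype.ext h2
      have hle := Nat.card_le_card_of_injective f hf
      have h2 : Nat.card ({1, QuaternionGroup.a 2} : Set (QuaternionGroup 2)) ≤ 2 := by
        rw [Nat.card_coe_set_eq]
        exact (Set.ncard_insert_le _ _).trans (by simp)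
      omega
  -- an element of odd order acts nontrivially
  obtain ⟨g, hgN, hgo, hgC⟩ : ∃ g ∈ Subgroup.normalizer ((S : Subgroup G) : Set G),
      (orderOf g).Coprime 2 ∧ g ∉ Subgroup.centralizer ((S : Subgroup G) : Set G) := by
    by_contra hcon
    simp only [not_exists, not_and, not_not] at hcon
    have hnpc := Cfsg.Agent.Fusion.hnpc_of_centralize hS (fun Q hQ g hg hgo => by
      by_cases hQS : Q = (S : Subgroup G)
      · subst hQS; exact hcon g hg hgo
      -- proper subgroups are cyclic of order at most 4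
      have hcard : Nat.card (S : Subgroup G) = 8 := by
        rw [Nat.card_congr e.toEquiv, Nat.card_eq_fintype_card]; rfl
      obtain ⟨k, hk⟩ := IsPGroup.iff_card.1 (S.2.to_le hQ)
      have hlt : Nat.card Q < 8 := by
        rcases (Subgroup.card_le_of_le hQ).lt_or_eq with h | h
        · rwa [hcard] at h
        · exact absurd (Subgroup.eq_of_le_of_card_ge hQ h.ge) hQS
      rw [Subgroup.mem_centralizer_iff]
      have hfix2 : ∀ x ∈ Q, x ^ 2 = 1 → x * g = g * x := by
        intro x hx hx2
        by_cases hx1 : x = 1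
        · simp [hx1]
        · have hgx := (Subgroup.mem_normalizer_iff.1 hg x).1 hx
          have key : ∀ y ∈ Q, y ^ 2 = 1 → y ≠ 1 → y = el (QuaternionGroup.a 2) := by
            intro y hy hy2 hy1
            have : (⟨y, hQ hy⟩ : (S : Subgroup G)) ^ 2 = 1 := Subtype.ext (by simpa using hy2)
            rcases hq2 (e ⟨y, hQ hy⟩) (by rw [← map_pow, this, map_one]) with h | h
            · rw [map_eq_one_iff e e.injective] at h
              exact absurd (congrArg Subtype.val h) hy1
            · simp [el, ← h]
          have e1 : g * x * g⁻¹ = x := (key _ hgx (by rw [conj_pow, hx2]; group) (by simpa using hx1)).trans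
            (key x hx hx2 hx1).symm
          exact (mul_inv_eq_iff_eq_mul.1 e1).symm
      intro x hx
      by_cases hx2 : x ^ 2 = 1
      · exact hfix2 x hx hx2
      · obtain ⟨i, hi, ho⟩ := four x (hQ hx) hx2
        have hQx : Subgroup.zpowers x = Q := Subgroup.eq_of_le_of_card_ge (Subgroup.zpowers_le.2 hx) (by
          rw [Nat.card_zpowers, ho, hk]
          have hk3 : k < 3 := (Nat.pow_lt_pow_iff_right (by norm_num : 1 < 2)).1 (by
            have : (2 : ℕ) ^ 3 = 8 := by norm_num
            rw [this, ← hk]; exact hlt)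
          exact (Nat.pow_le_pow_right (by norm_num : 1 ≤ 2) (by omega : k ≤ 2)).trans (by norm_num))
        have hgx : g * x * g⁻¹ ∈ Q := (Subgroup.mem_normalizer_iff.1 hg x).1 hx
        -- `g` sends `x` to `x` or to its inverse
        have hcases : g * x * g⁻¹ = x ∨ g * x * g⁻¹ = x⁻¹ := by
          rw [← hQx] at hgx
          obtain ⟨n, hn⟩ := Subgroup.mem_zpowers_iff.1 hgx
          have hn4 : g * x * g⁻¹ = x ^ (n % 4) := by
            rw [← hn, ← zpow_mod_orderOf, ho]; norm_num
          have h2 : (g * x * g⁻¹) ^ 2 ≠ 1 := by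
            rw [conj_pow]; simpa using hx2
          have hb1 := Int.emod_nonneg n (by norm_num : (4 : ℤ) ≠ 0)
          have hb2 := Int.emod_lt_of_pos n (by norm_num : (0 : ℤ) < 4)
          have x4 : x ^ (4 : ℤ) = 1 := by
            have := pow_orderOf_eq_one x
            rw [ho] at this
            exact_mod_cast this
          have : n % 4 = 0 ∨ n % 4 = 1 ∨ n % 4 = 2 ∨ n % 4 = 3 := by omega
          rcases this with h | h | h | h <;> rw [h] at hn4
          · exact absurd (by rw [hn4, zpow_zero, one_pow]) h2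
          · exact Or.inl (by rw [hn4, zpow_one])
          · refine absurd ?_ h2
            rw [hn4, ← zpow_natCast, ← zpow_mul]; exact x4
          · refine Or.inr ?_
            rw [hn4, eq_inv_iff_mul_eq_one, ← zpow_add_one]; exact x4
        rcases hcases with h | h
        · exact (mul_inv_eq_iff_eq_mul.1 h).symm
        · exfalso
          have hit : ∀ n : ℕ, g ^ (2 * n + 1) * x * (g ^ (2 * n + 1))⁻¹ = x⁻¹ := by
            intro n
            induction n with
            | zero => simpa using h
            | succ n ih =>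
              have h' : g * x⁻¹ * g⁻¹ = x := by
                have := congrArg Inv.inv h
                simpa [mul_assoc] using this
              calc g ^ (2 * (n + 1) + 1) * x * (g ^ (2 * (n + 1) + 1))⁻¹
                  = g * (g * (g ^ (2 * n + 1) * x * (g ^ (2 * n + 1))⁻¹) * g⁻¹) * g⁻¹ := by
                    rw [show 2 * (n + 1) + 1 = (2 * n + 1) + 1 + 1 by ring, pow_succ', pow_succ' g (2 * n + 1)]
                    group
                _ = x⁻¹ := by rw [ih, h', h]
          obtain ⟨n, hn⟩ := Nat.coprime_two_right.1 hgo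
          have := hit n
          rw [← hn, pow_orderOf_eq_one, one_mul, inv_one, mul_one] at this
          exact hx2 (by rw [sq]; exact eq_inv_iff_mul_eq_one.1 this))
    obtain ⟨N, hN, hNc⟩ := Cfsg.Agent.Fusion.hnpc_exists_complement hnpc S
    exact hnc N hN hNc
  obtain ⟨m, hm⟩ := Nat.coprime_two_right.1 hgo
  have hsmul : ∀ (x : G), x ∈ Subgroup.normalizer ((S : Subgroup G) : Set G) → ∀ K : Subgroup G,
      K ≤ (S : Subgroup G) → K.map (MulAut.conj x).toMonoidHom ≤ (S : Subgroup G) := by
    rintro x hx K hK _ ⟨u, hu, rfl⟩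
    exact (Subgroup.mem_normalizer_iff.1 hx u).1 (hK hu)
  have hcardmap : ∀ (x : G) (K : Subgroup G), Nat.card (K.map (MulAut.conj x).toMonoidHom) = Nat.card K :=
    fun x K => Subgroup.card_map_of_injective (MulAut.conj x).injective
  have hmapmul : ∀ (x y : G) (K : Subgroup G), (K.map (MulAut.conj y).toMonoidHom).map (MulAut.conj x).toMonoidHom =
      K.map (MulAut.conj (x * y)).toMonoidHom := by
    intro x y K
    rw [Subgroup.map_map]; congr 1; ext u; simp [mul_assoc]
  have hmapone : ∀ (K : Subgroup G), K.map (MulAut.conj (1 : G)).toMonoidHom = K := by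
    intro K; ext u; simp
  -- some subgroup of order four is moved
  obtain ⟨K, hKS, hK4, hKm⟩ : ∃ K : Subgroup G, K ≤ (S : Subgroup G) ∧ Nat.card K = 4 ∧
      K.map (MulAut.conj g).toMonoidHom ≠ K := by
    by_contra hcon
    simp only [not_exists, not_and, not_not] at hcon
    apply hgC
    have h4all : ∀ x ∈ (S : Subgroup G), x ^ 2 ≠ 1 → x * g = g * x := by
      intro x hx hx2
      obtain ⟨i, hi, ho⟩ := four x hx hx2
      have hKx := hcon (Subgroup.zpowers x) (Subgroup.zpowers_le.2 hx) (by rw [Nat.card_zpowers, ho])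
      have hgx : g * x * g⁻¹ ∈ Subgroup.zpowers x := hKx ▸ ⟨x, Subgroup.mem_zpowers x, rfl⟩
      obtain ⟨n, hn⟩ := Subgroup.mem_zpowers_iff.1 hgx
      have hn4 : g * x * g⁻¹ = x ^ (n % 4) := by rw [← hn, ← zpow_mod_orderOf, ho]; norm_num
      have h2 : (g * x * g⁻¹) ^ 2 ≠ 1 := by rw [conj_pow]; simpa using hx2
      have x4 : x ^ (4 : ℤ) = 1 := by
        have := pow_orderOf_eq_one x
        rw [ho] at this
        exact_mod_cast this
      have : n % 4 = 0 ∨ n % 4 = 1 ∨ n % 4 = 2 ∨ n % 4 = 3 := by omega
      rcases this with h | h | h | h <;> rw [h] at hn4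
      · exact absurd (by rw [hn4, zpow_zero, one_pow]) h2
      · rw [zpow_one] at hn4; exact (mul_inv_eq_iff_eq_mul.1 hn4).symm
      · refine absurd ?_ h2
        rw [hn4, ← zpow_natCast, ← zpow_mul]; exact x4
      · exfalso
        have hgi : g * x * g⁻¹ = x⁻¹ := by
          rw [hn4, eq_inv_iff_mul_eq_one, ← zpow_add_one]; exact x4
        have hit : ∀ n : ℕ, g ^ (2 * n + 1) * x * (g ^ (2 * n + 1))⁻¹ = x⁻¹ := by
          intro n
          induction n with
          | zero => simpa using hgi
          | succ n ih =>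
            have h' : g * x⁻¹ * g⁻¹ = x := by
              have := congrArg Inv.inv hgi
              simpa [mul_assoc] using this
            calc g ^ (2 * (n + 1) + 1) * x * (g ^ (2 * (n + 1) + 1))⁻¹
                = g * (g * (g ^ (2 * n + 1) * x * (g ^ (2 * n + 1))⁻¹) * g⁻¹) * g⁻¹ := by
                  rw [show 2 * (n + 1) + 1 = (2 * n + 1) + 1 + 1 by ring, pow_succ', pow_succ' g (2 * n + 1)]
                  group
              _ = x⁻¹ := by rw [ih, h', hgi]
        have := hit m
        rw [← hm, pow_orderOf_eq_one, one_mul, inv_one, mul_one] at this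
        exact hx2 (by rw [sq]; exact eq_inv_iff_mul_eq_one.1 this)
    rw [Subgroup.mem_centralizer_iff]
    intro x hx
    by_cases hx2 : x ^ 2 = 1
    · -- an involution is the square of an element of order four
      have hsq' : ∀ q : QuaternionGroup 2, q ^ 2 = 1 → q = 1 ∨ q = QuaternionGroup.a 1 ^ 2 := by decide
      have : (⟨x, hx⟩ : (S : Subgroup G)) ^ 2 = 1 := Subtype.ext (by simpa using hx2)
      rcases hsq' (e ⟨x, hx⟩) (by rw [← map_pow, this, map_one]) with h | h
      · rw [map_eq_one_iff e e.injective] at h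
        rw [show x = 1 from congrArg Subtype.val h]; simp
      · have hxe : x = el (QuaternionGroup.a 1) ^ 2 := by
          have := congrArg (fun t : (S : Subgroup G) => (t : G)) (congrArg e.symm h)
          simpa only [el, map_pow, MulEquiv.symm_apply_apply, SubgroupClass.coe_pow] using this
        rw [hxe]
        have hne : el (QuaternionGroup.a 1) ^ 2 ≠ 1 := fun h' => absurd (hsq _ h') (by decide)
        have := h4all _ (e.symm (QuaternionGroup.a 1)).2 hne
        exact ((show Commute (el (QuaternionGroup.a 1)) g from this).pow_left 2).eq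
    · exact h4all x hx hx2
  -- its orbit contains all three subgroups
  have hAll : ∀ L : Subgroup G, L ≤ (S : Subgroup G) → Nat.card L = 4 →
      ∃ n : ℕ, L = K.map (MulAut.conj (g ^ n)).toMonoidHom := by
    intro L hL hL4
    let O : Fin 3 → Subgroup G := fun i => K.map (MulAut.conj (g ^ (i : ℕ))).toMonoidHom
    have hO : ∀ i, ∃ j, O i = Ki j := fun i => sub4 _ (hsmul _ (pow_mem hgN _) K hKS) (by rw [hcardmap, hK4])
    choose τ hτ using hO
    have h2 : K.map (MulAut.conj (g ^ 2)).toMonoidHom ≠ K := by
      intro h2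
      apply hKm
      have hev : ∀ n : ℕ, K.map (MulAut.conj (g ^ (2 * n))).toMonoidHom = K := by
        intro n
        induction n with
        | zero => simp only [Nat.mul_zero, pow_zero, hmapone]
        | succ n ih => rw [Nat.mul_succ, add_comm, pow_add, ← hmapmul, ih, h2]
      have := hev (m + 1)
      rwa [show 2 * (m + 1) = orderOf g + 1 by omega, pow_succ, pow_orderOf_eq_one, one_mul] at this
    have h12 : K.map (MulAut.conj (g ^ 2)).toMonoidHom ≠ K.map (MulAut.conj g).toMonoidHom := by
      intro h
      apply hKm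
      rw [sq, ← hmapmul] at h
      exact Subgroup.map_injective (MulAut.conj g).injective h
    have hinj : Function.Injective τ := by
      intro a b hab
      have hOO : O a = O b := by rw [hτ, hτ, hab]
      have hd : ∀ i j : ℕ, i < j → j < 3 →
          K.map (MulAut.conj (g ^ i)).toMonoidHom ≠ K.map (MulAut.conj (g ^ j)).toMonoidHom := by
        intro i j hij hj3 he
        have : (i = 0 ∧ j = 1) ∨ (i = 0 ∧ j = 2) ∨ (i = 1 ∧ j = 2) := by omega
        rcases this with ⟨rfl, rfl⟩ | ⟨rfl, rfl⟩ | ⟨rfl, rfl⟩
        · rw [pow_zero, hmapone, pow_one] at he; exact hKm he.symm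
        · rw [pow_zero, hmapone] at he; exact h2 he.symm
        · rw [pow_one] at he; exact h12 he.symm
      rcases lt_trichotomy (a : ℕ) (b : ℕ) with h | h | h
      · exact absurd hOO (hd _ _ h b.2)
      · exact Fin.ext h
      · exact absurd hOO.symm (hd _ _ h a.2)
    obtain ⟨j, hj⟩ := sub4 L hL hL4
    obtain ⟨i, hi⟩ := (Finite.injective_iff_surjective.1 hinj) j
    exact ⟨i, by rw [hj, ← hi, ← hτ]⟩
  obtain ⟨a, ha⟩ := hAll A hA hA4
  obtain ⟨b, hb⟩ := hAll B hB hB4
  refine ⟨g ^ b * (g ^ a)⁻¹, mul_mem (pow_mem hgN b) (inv_mem (pow_mem hgN a)), ?_⟩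
  rw [ha, hb, hmapmul]
  congr 2
  group

end Cfsg.Agent.S0950
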