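import Cfsg.Statements.S0225
import Cfsg.Agent.Lib.Char.ZStar

set_option autoImplicit false
open Cfsg
open scoped ComplexConjugate

namespace Cfsg.Agent.S0225

/-- If a finite group G has even order but contains no Klein four-subgroup (2-rank 1), then some involution z of G is central modulo a normal subgroup of odd order: there is a normal subgroup N of odd order containing every commutator z g z⁻¹ g⁻¹. -/
theorem result {G : Type*} [Group G] [Finite G] (heven : Even (Nat.card G)) (hrank : ∀ E : Subgroup G, ¬ IsKleinFour E) : ∃ z : G, orderOf z = 2 ∧ ∃ N : Subgroup G, N.Normal ∧ Odd (Nat.card N) ∧ ∀ g : G, z * g * z⁻¹ * g⁻¹ ∈ N := by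
  haveI : Fact (Nat.Prime 2) := ⟨Nat.prime_two⟩
  obtain ⟨z, hz⟩ := exists_prime_orderOf_dvd_card' 2 heven.two_dvd
  refine ⟨z, hz, Cfsg.oddCore G, inferInstance, Cfsg.Agent.Char.card_oddCore_odd G,
    Cfsg.Agent.Char.zStar_isolated ⟨hz, fun g hc => ?_⟩⟩
  have hw : orderOf (g * z * g⁻¹) = 2 :=
    (orderOf_injective (MulAut.conj g).toMonoidHom (MulAut.conj g).injective z).trans hz
  generalize g * z * g⁻¹ = w at hc hw
  by_contra hne
  have hzz : z * z = 1 := by rw [← pow_two]; exact orderOf_dvd_iff_pow_eq_one.mp hz.dvd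
  have hww : w * w = 1 := by rw [← pow_two]; exact orderOf_dvd_iff_pow_eq_one.mp hw.dvd
  have hz1 : z ≠ 1 := fun e => by simp [e] at hz
  have hw1 : w ≠ 1 := fun e => by simp [e] at hw
  have hzw : z * w ≠ 1 := fun e => hne (mul_left_cancel (e.trans hzz.symm))
  let E : Subgroup G :=
    { carrier := {1, z, w, z * w}
      one_mem' := Or.inl rfl
      mul_mem' := by
        have hwz : w * z = z * w := hc.eq.symm
        intro a b ha hb
        simp only [Set.mem_insert_iff, Set.mem_singleton_iff] at ha hb ⊢
        have h1 : ∀ c, w * (z * c) = z * (w * c) := fun c => by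
          rw [← mul_assoc, hwz, mul_assoc]
        have h2 : ∀ c, z * (z * c) = c := fun c => by rw [← mul_assoc, hzz, one_mul]
        have h3 : ∀ c, w * (w * c) = c := fun c => by rw [← mul_assoc, hww, one_mul]
        rcases ha with rfl | rfl | rfl | rfl <;> rcases hb with rfl | rfl | rfl | rfl <;>
          simp [mul_assoc, hzz, hww, hwz, h1, h2, h3]
      inv_mem' := by
        have hzi : z⁻¹ = z := inv_eq_of_mul_eq_one_left hzz
        have hwi : w⁻¹ = w := inv_eq_of_mul_eq_one_left hww
        intro a ha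
        simp only [Set.mem_insert_iff, Set.mem_singleton_iff] at ha ⊢
        rcases ha with rfl | rfl | rfl | rfl <;> simp [hzi, hwi, hc.eq.symm] }
  refine hrank E (IsKleinFour.mk ?_ ?_)
  · show Nat.card ({1, z, w, z * w} : Set G) = 4
    rw [Nat.card_coe_set_eq, Set.ncard_insert_of_notMem, Set.ncard_insert_of_notMem,
      Set.ncard_pair]
    · exact fun e => hz1 (mul_eq_right.mp e.symm)
    · simp only [Set.mem_insert_iff, Set.mem_singleton_iff, not_or]
      exact ⟨fun e => hne e.symm, fun e => hw1 (mul_eq_left.mp e.symm)⟩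
    · simp only [Set.mem_insert_iff, Set.mem_singleton_iff, not_or]
      exact ⟨hz1.symm, hw1.symm, hzw.symm⟩
  · haveI : Nontrivial E := ⟨⟨⟨z, Or.inr (Or.inl rfl)⟩, 1, fun e => hz1 (congrArg Subtype.val e)⟩⟩
    refine (Monoid.exponent_eq_prime_iff Nat.prime_two).mpr fun a ha => ?_
    refine orderOf_eq_prime (Subtype.ext ?_) ha
    have hc' : (z * w) * (z * w) = 1 := by rw [hc.symm.mul_mul_mul_comm, hzz, hww, one_mul]
    rcases a.2 with h | h | h | h
    all_goals
      rw [Subgroup.coe_pow, Subgroup.coe_one, pow_two, h]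
    · exact one_mul 1
    · exact hzz
    · exact hww
    · exact hc'

end Cfsg.Agent.S0225
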