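import Cfsg.Statements.S1141
import Mathlib
import Cfsg.Agent.Lib.Lie.UnitarySylow
-- import your own Cfsg.Agent.* helpers here

set_option autoImplicit false
open Cfsg

namespace Cfsg.Agent.S1141

/-- Let `q = 2^n ≥ 4` and `|F| = q²`. A Sylow 2-subgroup `S` of `PSU₃(q)` has order `q³`, its centre has order `q`, and `S` is a Suzuki 2-group. -/
theorem result {F : Type*} [Field F] [Fintype F] {n : ℕ} (hn : 2 ≤ n)
    (hF : Fintype.card F = (2 ^ n) ^ 2) (S : Sylow 2 (Cfsg.PSU 3 F (2 ^ n))) :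
    Nat.card S = (2 ^ n) ^ 3 ∧ Nat.card (Subgroup.center ↥(S : Subgroup (Cfsg.PSU 3 F (2 ^ n)))) = 2 ^ n ∧
      Cfsg.IsSuzukiTwoGroup ↥(S : Subgroup (Cfsg.PSU 3 F (2 ^ n))) := by
  classical
  haveI : Fact (Nat.Prime 2) := ⟨Nat.prime_two⟩
  haveI : CharP F 2 := charP_of_card_eq_prime_pow (p := 2) (f := n * 2) (by rw [hF, ← pow_mul])
  obtain ⟨σ, hσ⟩ := Cfsg.Agent.Lie.UnitarySylow.sigma_props (by omega : 1 ≤ n) hF
  letI := Cfsg.Agent.Lie.UnitarySylow.uGroup hσ
  obtain ⟨e⟩ := Cfsg.Agent.Lie.UnitarySylow.sylow_PSU hσ (by omega : 1 ≤ n) rfl S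
  haveI := Cfsg.Agent.Lie.UnitarySylow.finite_U hσ
  have hcardS : Nat.card ↥(S : Subgroup (Cfsg.PSU 3 F (2 ^ n))) = (2 ^ n) ^ 3 := by
    rw [← Nat.card_congr e.toEquiv, Cfsg.Agent.Lie.UnitarySylow.card_U hσ]
  have hcent : ∀ g, e g ∈ Subgroup.center ↥(S : Subgroup (Cfsg.PSU 3 F (2 ^ n))) ↔ g.x = 0 := by
    intro g
    rw [← Cfsg.Agent.Lie.UnitarySylow.mem_center_iff hσ, Subgroup.mem_center_iff, Subgroup.mem_center_iff]
    constructor
    · intro h k; exact e.injective (by rw [map_mul, map_mul]; exact h (e k))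
    · intro h k
      obtain ⟨k, rfl⟩ := e.surjective k
      rw [← map_mul, ← map_mul, h k]
  have hsq : ∀ g, e g * e g = 1 ↔ g.x = 0 := fun g => by
    rw [← map_mul, map_eq_one_iff _ e.injective]
    exact Cfsg.Agent.Lie.UnitarySylow.sq_eq_one_iff hσ g
  refine ⟨hcardS, ?_, inferInstance, S.isPGroup', ?_, ?_, ?_⟩
  · refine (Nat.card_congr ?_).trans (Cfsg.Agent.Lie.UnitarySylow.card_fix hσ).1
    exact
      { toFun := fun c => ⟨(e.symm c).z, Cfsg.Agent.Lie.UnitarySylow.z_fixed ((hcent _).1 (by rw [e.apply_symm_apply]; exact c.2))⟩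
        invFun := fun z => ⟨e (Cfsg.Agent.Lie.UnitarySylow.central z.1 z.2), (hcent _).2 rfl⟩
        left_inv := fun c => Subtype.ext (by
          show e _ = (c : ↥(S : Subgroup (Cfsg.PSU 3 F (2 ^ n))))
          conv_rhs => rw [← e.apply_symm_apply (c : ↥(S : Subgroup (Cfsg.PSU 3 F (2 ^ n))))]
          exact congrArg e (Cfsg.Agent.Lie.UnitarySylow.U.ext (((hcent _).1 (by rw [e.apply_symm_apply]; exact c.2)).symm) rfl))
        right_inv := fun z => Subtype.ext (by
          show (e.symm (e _)).z = (z : F)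
          rw [e.symm_apply_apply]; rfl) }
  · obtain ⟨g, hg⟩ := Cfsg.Agent.Lie.UnitarySylow.exists_z hσ (1 : F)
    have hne : e g ∉ Subgroup.center ↥(S : Subgroup (Cfsg.PSU 3 F (2 ^ n))) := fun h => one_ne_zero (α := F) (hg ▸ (hcent g).1 h)
    rw [Subgroup.mem_center_iff] at hne
    push Not at hne
    obtain ⟨k, hk⟩ := hne
    exact ⟨k, e g, hk⟩
  · -- two involutions
    have hq : 4 ≤ 2 ^ n := le_trans (by norm_num) (Nat.pow_le_pow_right two_pos hn)
    obtain ⟨w, hw⟩ : ∃ w : {z : F // σ z = z}, (w : F) ≠ 0 ∧ (w : F) ≠ 1 := by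
      by_contra h
      push Not at h
      letI := Fintype.ofFinite {z : F // σ z = z}
      have hc := (Cfsg.Agent.Lie.UnitarySylow.card_fix hσ).1
      rw [Nat.card_eq_fintype_card, ← Finset.card_univ] at hc
      have hsub : (Finset.univ : Finset {z : F // σ z = z}) ⊆ {⟨0, map_zero σ⟩, ⟨1, map_one σ⟩} := fun z _ => by
        by_cases h0 : (z : F) = 0
        · simp [Subtype.ext_iff, h0]
        · simp [Subtype.ext_iff, h z h0]
      have := (Finset.card_le_card hsub).trans Finset.card_le_two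
      omega
    let a : Cfsg.Agent.Lie.UnitarySylow.U σ := Cfsg.Agent.Lie.UnitarySylow.central 1 (map_one σ)
    let b : Cfsg.Agent.Lie.UnitarySylow.U σ := Cfsg.Agent.Lie.UnitarySylow.central w.1 w.2
    refine ⟨e a, e b, fun h => hw.2 ?_, fun h => ?_, (hsq a).2 rfl, fun h => hw.1 ?_, (hsq b).2 rfl⟩
    · exact (congrArg Cfsg.Agent.Lie.UnitarySylow.U.z (e.injective h)).symm
    · exact one_ne_zero (α := F) (congrArg Cfsg.Agent.Lie.UnitarySylow.U.z (e.injective (h.trans e.map_one.symm)))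
    · exact congrArg Cfsg.Agent.Lie.UnitarySylow.U.z (e.injective (h.trans e.map_one.symm))
  · let Λ : Subgroup Fˣ :=
      { carrier := {l | σ (l : F) = l}
        one_mem' := map_one σ
        mul_mem' := fun {a b} ha hb => by
          show σ ((a * b : Fˣ) : F) = _
          rw [Units.val_mul, map_mul, show σ (a : F) = a from ha, show σ (b : F) = b from hb]
        inv_mem' := fun {a} ha => by
          show σ ((a⁻¹ : Fˣ) : F) = _
          rw [Units.val_inv_eq_inv_val, map_inv₀, show σ (a : F) = a from ha] }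
    let sc : Λ → Cfsg.Agent.Lie.UnitarySylow.U σ → Cfsg.Agent.Lie.UnitarySylow.U σ := fun l g =>
      ⟨(l.1 : F) * g.x, (l.1 : F) * (l.1 : F) * g.z, by
        rw [map_mul, map_mul, map_mul, show σ (l.1 : F) = l.1 from l.2]
        linear_combination ((l.1 : F) * (l.1 : F)) * g.rel⟩
    have sc_mul : ∀ l m g, sc (l * m) g = sc l (sc m g) := fun l m g => by
      refine Cfsg.Agent.Lie.UnitarySylow.U.ext ?_ ?_
      · show ((l.1 * m.1 : Fˣ) : F) * g.x = (l.1 : F) * ((m.1 : F) * g.x); rw [Units.val_mul]; ring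
      · show ((l.1 * m.1 : Fˣ) : F) * ((l.1 * m.1 : Fˣ) : F) * g.z = (l.1 : F) * (l.1 : F) * ((m.1 : F) * (m.1 : F) * g.z); rw [Units.val_mul]; ring
    have sc_one : ∀ g, sc 1 g = g := fun g => by
      refine Cfsg.Agent.Lie.UnitarySylow.U.ext ?_ ?_
      · show ((1 : Fˣ) : F) * g.x = g.x; simp
      · show ((1 : Fˣ) : F) * ((1 : Fˣ) : F) * g.z = g.z; simp
    let φ : Λ →* MulAut (Cfsg.Agent.Lie.UnitarySylow.U σ) :=
      { toFun := fun l =>
          { toFun := sc l
            invFun := sc l⁻¹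
            left_inv := fun g => by rw [← sc_mul, inv_mul_cancel, sc_one]
            right_inv := fun g => by rw [← sc_mul, mul_inv_cancel, sc_one]
            map_mul' := fun g h => by
              refine Cfsg.Agent.Lie.UnitarySylow.U.ext ?_ ?_
              · show (l.1 : F) * (g.x + h.x) = (l.1 : F) * g.x + (l.1 : F) * h.x; ring
              · show (l.1 : F) * (l.1 : F) * (g.z + h.z + σ g.x * h.x) =
                    (l.1 : F) * (l.1 : F) * g.z + (l.1 : F) * (l.1 : F) * h.z + σ ((l.1 : F) * g.x) * ((l.1 : F) * h.x)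
                rw [map_mul, show σ (l.1 : F) = l.1 from l.2]; ring }
        map_one' := MulEquiv.ext sc_one
        map_mul' := fun l m => MulEquiv.ext (sc_mul l m) }
    let Φ : Λ →* MulAut ↥(S : Subgroup (Cfsg.PSU 3 F (2 ^ n))) := (MulAut.congr e).toMonoidHom.comp φ
    have hΦ : ∀ l g, Φ l (e g) = e (sc l g) := fun l g => by
      show e (φ l (e.symm (e g))) = _
      rw [e.symm_apply_apply]; rfl
    refine ⟨Φ.range, isCyclic_of_surjective Φ.rangeRestrict Φ.rangeRestrict_surjective, ?_⟩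
    intro x y hx1 hx2 hy1 hy2
    obtain ⟨g, rfl⟩ := e.surjective x
    obtain ⟨h, rfl⟩ := e.surjective y
    rw [hsq] at hx2 hy2
    have hgz : g.z ≠ 0 := fun h0 => hx1 (by rw [show g = 1 from Cfsg.Agent.Lie.UnitarySylow.U.ext hx2 h0, map_one])
    have hhz : h.z ≠ 0 := fun h0 => hy1 (by rw [show h = 1 from Cfsg.Agent.Lie.UnitarySylow.U.ext hy2 h0, map_one])
    obtain ⟨l, hl⟩ : ∃ l : F, l * l = h.z / g.z := by
      have hinj : Function.Injective (fun l : F => l * l) := fun a b hab => by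
        have : (a + b) * (a + b) = 0 := by
          have h2 : (2 : F) = 0 := CharTwo.two_eq_zero
          have hab' : a * a = b * b := hab
          linear_combination hab' + (b * b + a * b) * h2
        exact CharTwo.add_eq_zero.1 (mul_self_eq_zero.1 this)
      exact (Finite.surjective_of_injective hinj) _
    have hl0 : l ≠ 0 := fun h0 => by rw [h0, mul_zero, eq_comm, div_eq_zero_iff] at hl; exact hl.elim hhz hgz
    have hlσ : σ l = l := by
      have h1 : σ l * σ l = l * l := by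
        rw [← map_mul, hl, map_div₀, Cfsg.Agent.Lie.UnitarySylow.z_fixed hy2, Cfsg.Agent.Lie.UnitarySylow.z_fixed hx2]
      have h2 : (σ l + l) * (σ l + l) = 0 := by
        linear_combination h1 + (l * l + σ l * l) * (CharTwo.two_eq_zero (R := F))
      exact CharTwo.add_eq_zero.1 (mul_self_eq_zero.1 h2)
    let L : Λ := ⟨Units.mk0 l hl0, hlσ⟩
    have hact : ∀ m : Λ, Φ m (e g) = e h → m = L := by
      intro m hm
      rw [hΦ] at hm
      have hz := congrArg Cfsg.Agent.Lie.UnitarySylow.U.z (e.injective hm)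
      change (m.1 : F) * (m.1 : F) * g.z = h.z at hz
      refine Subtype.ext (Units.ext ?_)
      show (m.1 : F) = l
      have h2 : ((m.1 : F) + l) * ((m.1 : F) + l) = 0 := by
        have hh : (m.1 : F) * (m.1 : F) = h.z / g.z := by rw [eq_div_iff hgz]; exact hz
        linear_combination hh - hl + (l * l + (m.1 : F) * l) * (CharTwo.two_eq_zero (R := F))
      exact CharTwo.add_eq_zero.1 (mul_self_eq_zero.1 h2)
    refine ⟨⟨Φ L, L, rfl⟩, ?_, ?_⟩
    · show Φ L (e g) = e h
      rw [hΦ]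
      refine congrArg e (Cfsg.Agent.Lie.UnitarySylow.U.ext ?_ ?_)
      · show l * g.x = h.x; rw [hx2, hy2, mul_zero]
      · show l * l * g.z = h.z; rw [hl, div_mul_cancel₀ _ hgz]
    · rintro ⟨_, m, rfl⟩ hm
      exact Subtype.ext (congrArg Φ (hact m hm))

end Cfsg.Agent.S1141
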