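import Cfsg.Statements.S0804
import Cfsg.Agent.Lib.Classical.PSL2Ico

set_option autoImplicit false
open Cfsg

namespace Cfsg.Agent.S0804

/-- PSL_2(q) has a subgroup isomorphic to A_5 iff 5 ∣ q(q² − 1). -/
theorem result {F : Type*} [Field F] [Fintype F] {q : ℕ} (hF : Fintype.card F = q) : (∃ H : Subgroup (Matrix.ProjectiveSpecialLinearGroup (Fin 2) F), Nonempty (H ≃* alternatingGroup (Fin 5))) ↔ 5 ∣ q * (q ^ 2 - 1) := by
  classical
  subst hF
  constructor
  · rintro ⟨H, ⟨e⟩⟩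
    rw [← Cfsg.Agent.Small.SL2C.card_SL2]
    refine ((show 5 ∣ Nat.card H by
      rw [Nat.card_congr e.toEquiv, nat_card_alternatingGroup, Nat.card_fin]; decide).trans
        (Subgroup.card_subgroup_dvd_card H)).trans ?_
    exact Subgroup.card_dvd_of_surjective Cfsg.Agent.Small.PSL2.pr Cfsg.Agent.Small.PSL2.pr_surjective
  · intro h5
    obtain ⟨f, hf⟩ := Cfsg.Agent.Classical.SL2Ico.exists_injective_alt_five h5
    exact ⟨f.range, ⟨(MonoidHom.ofInjective hf).symm⟩⟩

end Cfsg.Agent.S0804
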