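import Cfsg.Statements.S1220
import Cfsg.Agent.Lib.Bender.RankOne
import Cfsg.Agent.Lib.Bender.Transitive
import Cfsg.Agent.Lib.Bender.NoInside
-- import your own Cfsg.Agent.* helpers here

set_option autoImplicit false
set_option linter.style.haveILetI false
open Cfsg

namespace Cfsg.Agent.S1220

/-- Let H be a strongly embedded subgroup of the finite group G. Then either G acts doubly transitively on the cosets of H (H permutes transitively the cosets gH with g ∉ H), or every Sylow 2-subgroup of G is cyclic or generalized quaternion and G = O(G)H. -/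
theorem result {G : Type*} [Group G] [Finite G] (H : Subgroup G) (hH : Cfsg.IsStronglyEmbedded H) : (∀ g₁ g₂ : G, g₁ ∉ H → g₂ ∉ H → ∃ h ∈ H, g₂⁻¹ * (h * g₁) ∈ H) ∨ ((∀ S : Sylow 2 G, IsCyclic S ∨ ∃ m : ℕ, 1 ≤ m ∧ Nonempty ((S : Subgroup G) ≃* QuaternionGroup (2 ^ m))) ∧ Cfsg.oddCore G ⊔ H = ⊤) := by
  by_cases hone : Bender.OneClass H
  · exact Or.inr ⟨Bender.sylow_cyclic_or_quaternion hH hone, Bender.core_sup_eq_top hH hone⟩
  refine Or.inl ?_
  set x : G ⧸ H := QuotientGroup.mk 1 with hx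
  have hst : SEB.St x = H := by
    ext g
    rw [MulAction.mem_stabilizer_iff, hx, Fusion.SEPairs.smul_mk_eq_iff, inv_one, one_mul, mul_one]
  have hmb : SEB.mbar ↥H ≠ 1 := fun h1 => hone fun s t hs ht => by
    haveI := (Nat.card_eq_one_iff_unique.1 h1).1
    have h2 : SEB.cls (⟨s, hs⟩ : {t : H // orderOf t = 2}) = SEB.cls ⟨t, ht⟩ :=
      congrArg Subtype.val (Subsingleton.elim (α := Set.range (SEB.cls (X := H))) ⟨_, ⟨s, hs⟩, rfl⟩ ⟨_, ⟨t, ht⟩, rfl⟩)
    exact (SEB.cls_eq_iff _ _).1 h2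
  obtain ⟨p, hp, hpdvd⟩ := Nat.exists_prime_and_dvd hmb
  haveI : Fact p.Prime := ⟨hp⟩
  rw [← hst] at hpdvd
  have hdvd : p ∣ Bender.numInv H := by
    have h := hpdvd.trans (SEB.mbar_St_dvd hH x)
    rwa [hst] at h
  refine fun g₁ g₂ h₁ h₂ => Bender.transitive_of_noInside hH hdvd ?_ g₁ g₂ h₁ h₂
  intro a b c w P hab hw hwa hwc hP hwP hc
  have hca : a ≠ c := fun e => hab (by rw [← hwa, e, hwc])
  subst hwa
  obtain ⟨g, hg⟩ := MulAction.exists_smul_eq G x c
  exact SEB.no_inside hH hw hwc hca (by rw [← hg, SEB.mbar_St_smul hH]; exact hpdvd)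
    (SEB.isSylIn_iff.1 hP) hwP hc

end Cfsg.Agent.S1220
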