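import Cfsg.Statements.S2904
import Mathlib
-- import your own Cfsg.Agent.* helpers here

set_option autoImplicit false
open Cfsg

namespace Cfsg.Agent.S2904

open Polynomial in
theorem eval_pos {n : ℕ} {a : ℕ} (ha : 1 < a) : (0 : ℤ) < (cyclotomic n ℤ).eval (a : ℤ) :=
  cyclotomic_pos' n (by exact_mod_cast ha)

open Polynomial in
theorem lower {n a : ℕ} (hn : 1 < n) (ha : 1 < a) :
    ((a - 1 : ℕ) : ℤ) ^ Nat.totient n < (cyclotomic n ℤ).eval (a : ℤ) := by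
  have h := sub_one_pow_totient_lt_natAbs_cyclotomic_eval hn (by omega : a ≠ 1)
  have h2 : ((((cyclotomic n ℤ).eval (a : ℤ)).natAbs : ℕ) : ℤ) = (cyclotomic n ℤ).eval (a : ℤ) :=
    Int.natAbs_of_nonneg (eval_pos ha).le
  rw [← h2]; exact_mod_cast h

open Polynomial in
theorem upper {n a : ℕ} (ha : 1 < a) :
    (cyclotomic n ℤ).eval (a : ℤ) ≤ ((a + 1 : ℕ) : ℤ) ^ Nat.totient n := by
  have h := cyclotomic_eval_le_add_one_pow_totient (q := (a : ℝ)) (by exact_mod_cast ha) n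
  have e : (cyclotomic n ℝ).eval (a : ℝ) = (((cyclotomic n ℤ).eval (a : ℤ) : ℤ) : ℝ) := by
    rw [← map_cyclotomic_int, ← Int.cast_natCast a, eval_intCast_map, Int.coe_castRingHom]
    simp
  rw [e] at h
  exact_mod_cast h

open Polynomial in
/-- A nonprimitive prime divisor of the cyclotomic value has the form described by Bang and Zsigmondy. -/
theorem shape {n a r : ℕ} (hn : 1 < n) (hr : r.Prime)
    (hd : (r : ℤ) ∣ (cyclotomic n ℤ).eval (a : ℤ))
    (hnot : ¬ (r ∣ a ^ n - 1 ∧ ∀ k : ℕ, 0 < k → k < n → ¬ r ∣ a ^ k - 1)) :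
    ∃ k m : ℕ, 0 < k ∧ 0 < m ∧ n = r ^ k * m ∧ m ∣ r - 1 ∧ orderOf (a : ZMod r) = m ∧ (a : ZMod r) ≠ 0 := by
  haveI := Fact.mk hr
  obtain ⟨k, m, hm, he⟩ := Nat.exists_eq_pow_mul_and_not_dvd (show n ≠ 0 by omega) r hr.ne_one
  haveI : NeZero (m : ZMod r) := ⟨fun h => hm (((ZMod.natCast_eq_zero_iff m r).1 h))⟩
  have hroot : (cyclotomic (r ^ k * m) (ZMod r)).IsRoot (a : ZMod r) := by
    rw [IsRoot.def, ← he, ← map_cyclotomic_int, ← Int.cast_natCast a, eval_intCast_map, Int.coe_castRingHom]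
    exact (ZMod.intCast_zmod_eq_zero_iff_dvd _ _).2 hd
  have hprim := isRoot_cyclotomic_prime_pow_mul_iff_of_charP.1 hroot
  have ho : orderOf (a : ZMod r) = m := hprim.eq_orderOf.symm
  have ha0 : (a : ZMod r) ≠ 0 := hprim.ne_zero (fun h => hm (h ▸ dvd_zero r))
  have hmr : m ∣ r - 1 := ho ▸ orderOf_dvd_of_pow_eq_one (ZMod.pow_card_sub_one_eq_one ha0)
  have hapos : ∀ j, 1 ≤ a ^ j := fun j => Nat.one_le_pow _ _ (Nat.pos_of_ne_zero fun h => ha0 (by simp [h]))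
  have hiff : ∀ j, r ∣ a ^ j - 1 ↔ m ∣ j := fun j => by
    rw [← ho, orderOf_dvd_iff_pow_eq_one, ← ZMod.natCast_eq_zero_iff, Nat.cast_sub (hapos j), sub_eq_zero]
    push_cast
    rfl
  rcases Nat.eq_zero_or_pos k with rfl | hk
  · rw [pow_zero, one_mul] at he
    refine absurd ⟨(hiff n).2 (he ▸ dvd_rfl), fun j hj hjn h => ?_⟩ hnot
    exact absurd (Nat.le_of_dvd hj ((hiff j).1 h)) (Nat.not_le.2 (he ▸ hjn))
  · exact ⟨k, m, hk, Nat.pos_of_ne_zero fun h => hm (h ▸ dvd_zero r), he, hmr, ho, ha0⟩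

open Polynomial in
theorem geom_mod {r : ℕ} (hr : r.Prime) (h2 : r ≠ 2) {b : ℤ} (hb : (r : ℤ) ∣ b - 1) :
    ((∑ i ∈ Finset.range r, b ^ i : ℤ) : ZMod (r ^ 2)) = (r : ZMod (r ^ 2)) := by
  obtain ⟨t, ht⟩ := hb
  obtain ⟨ε, hε⟩ : ∃ ε : ZMod (r ^ 2), ε = (r : ZMod (r ^ 2)) * (t : ZMod (r ^ 2)) := ⟨_, rfl⟩
  have hr2 : (r : ZMod (r ^ 2)) * (r : ZMod (r ^ 2)) = 0 := by
    rw [← Nat.cast_mul, ← pow_two, ZMod.natCast_self]
  have hb' : (b : ZMod (r ^ 2)) = 1 + ε := by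
    have : b = 1 + (r : ℤ) * t := by linarith
    rw [this, hε]; push_cast; rfl
  have hεε : ε * ε = 0 := by rw [hε]; linear_combination (t : ZMod (r ^ 2)) * t * hr2
  have hpow : ∀ i : ℕ, (b : ZMod (r ^ 2)) ^ i = 1 + (i : ZMod (r ^ 2)) * ε := by
    intro i
    induction i with
    | zero => simp
    | succ i ih => rw [pow_succ (b : ZMod (r ^ 2)), ih, hb']; push_cast; linear_combination (i : ZMod (r ^ 2)) * hεε
  push_cast
  rw [Finset.sum_congr rfl fun i _ => hpow i, Finset.sum_add_distrib, ← Finset.sum_mul, ← Nat.cast_sum,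
    Finset.sum_range_id]
  obtain ⟨c, hc⟩ := hr.odd_of_ne_two h2
  have : r * (r - 1) / 2 = r * c := by
    rw [show r - 1 = 2 * c by omega, show r * (2 * c) = 2 * (r * c) by ring, Nat.mul_div_cancel_left _ two_pos]
  rw [this]
  simp only [Finset.sum_const, Finset.card_range, nsmul_eq_mul, mul_one]
  rw [hε]; push_cast
  linear_combination (c : ZMod (r ^ 2)) * t * hr2

open Polynomial in
theorem eq_prime {n a r : ℕ} (ha : 1 < a) (hn : 3 ≤ n) (hr : r.Prime)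
    (hall : ∀ s : ℕ, s.Prime → (s : ℤ) ∣ (cyclotomic n ℤ).eval (a : ℤ) → s = r)
    (hd : (r : ℤ) ∣ (cyclotomic n ℤ).eval (a : ℤ)) {k m : ℕ} (hk : 0 < k) (he : n = r ^ k * m)
    (hmr : m ∣ r - 1) (ho : orderOf (a : ZMod r) = m) (ha0 : (a : ZMod r) ≠ 0) :
    (cyclotomic n ℤ).eval (a : ℤ) = r := by
  obtain ⟨k, rfl⟩ : ∃ k', k = k' + 1 := ⟨k - 1, by omega⟩
  obtain ⟨d, hdd⟩ : ∃ d, d = r ^ k * m := ⟨_, rfl⟩
  have hnd : n = d * r := by rw [he, hdd, pow_succ]; ring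
  have hmem : d ∈ n.properDivisors := Nat.mem_properDivisors.2 ⟨Dvd.intro r hnd.symm, by
    rw [hnd]; exact (Nat.lt_mul_iff_one_lt_right (Nat.pos_of_ne_zero fun h => by rw [h, zero_mul] at hnd; omega)).2 hr.one_lt⟩
  have hdiv := eval_dvd (x := (a : ℤ)) (X_pow_sub_one_mul_cyclotomic_dvd_X_pow_sub_one_of_dvd ℤ hmem)
  simp only [eval_mul, eval_sub, eval_pow, eval_X, eval_one] at hdiv
  have hbne : (a : ℤ) ^ d - 1 ≠ 0 := by
    have : 1 < (a : ℤ) ^ d := one_lt_pow₀ (by exact_mod_cast ha) (fun h => by rw [h, zero_mul] at hnd; omega)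
    omega
  have hgeom : (∑ i ∈ Finset.range r, ((a : ℤ) ^ d) ^ i) * ((a : ℤ) ^ d - 1) = (a : ℤ) ^ n - 1 := by
    rw [geom_sum_mul, ← pow_mul, ← hnd]
  rw [← hgeom, mul_comm _ ((a : ℤ) ^ d - 1)] at hdiv
  have hsum := (mul_dvd_mul_iff_left hbne).1 hdiv
  -- the value is a power of `r` and is not divisible by `r ^ 2`
  obtain ⟨v, hve⟩ : ∃ v : ℕ, (cyclotomic n ℤ).eval (a : ℤ) = v := ⟨_, (Int.natAbs_of_nonneg (eval_pos ha).le).symm⟩
  rw [hve] at hd hall hsum ⊢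
  have hv0 : v ≠ 0 := fun h => by
    have := eval_pos (n := n) ha; rw [hve, h] at this; simp at this
  have hsq : ¬ (r ^ 2 ∣ v) := by
    intro hsq
    by_cases h2 : r = 2
    · subst h2
      have hm1 : m = 1 := Nat.dvd_one.1 (by simpa using hmr)
      rw [hm1, mul_one] at hdd he
      rcases k with _ | k
      · rw [he] at hn; norm_num at hn
      obtain ⟨c, hc⟩ : Odd (a ^ 2 ^ k) := Odd.pow (Nat.not_even_iff_odd.1 fun h => ha0 (by
        rw [ZMod.natCast_eq_zero_iff]; exact even_iff_two_dvd.1 h))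
      have h4 : (4 : ℤ) ∣ ∑ i ∈ Finset.range 2, ((a : ℤ) ^ d) ^ i :=
        (Int.natCast_dvd_natCast.2 hsq : ((2 ^ 2 : ℕ) : ℤ) ∣ (v : ℤ)).trans hsum
      rw [Finset.sum_range_succ, Finset.sum_range_one, pow_zero, pow_one, hdd, pow_succ, pow_mul] at h4
      have hc' : (a : ℤ) ^ 2 ^ k = 2 * c + 1 := by exact_mod_cast hc
      rw [hc'] at h4
      obtain ⟨e, he'⟩ := h4
      have h5 : (2 * (c : ℤ) + 1) ^ 2 = 4 * ((c : ℤ) ^ 2 + c) + 1 := by ring
      omega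
    · have hb : (r : ℤ) ∣ (a : ℤ) ^ d - 1 := by
        rw [← ZMod.intCast_zmod_eq_zero_iff_dvd]
        push_cast
        rw [sub_eq_zero, ← orderOf_dvd_iff_pow_eq_one, ho, hdd]
        exact dvd_mul_left _ _
      have h := geom_mod hr h2 hb
      have h0 : ((∑ i ∈ Finset.range r, ((a : ℤ) ^ d) ^ i : ℤ) : ZMod (r ^ 2)) = 0 :=
        (ZMod.intCast_zmod_eq_zero_iff_dvd _ _).2 ((Int.natCast_dvd_natCast.2 hsq).trans hsum)
      rw [h0] at h
      have := (ZMod.natCast_eq_zero_iff _ _).1 h.symm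
      exact absurd (Nat.le_of_dvd hr.pos this) (by nlinarith [hr.two_le])
  obtain ⟨j, u, hu, hju⟩ := Nat.exists_eq_pow_mul_and_not_dvd hv0 r hr.ne_one
  have hu1 : u = 1 := by
    by_contra hne
    obtain ⟨s, hs, hsu⟩ := Nat.exists_prime_and_dvd hne
    exact hu (hall s hs (Int.natCast_dvd_natCast.2 (hju ▸ dvd_mul_of_dvd_right hsu _)) ▸ hsu)
  rw [hu1, mul_one] at hju
  have hj : j = 1 := by
    rcases j with _ | _ | j
    · rw [hju, pow_zero] at hd
      exact absurd (Nat.dvd_one.1 (Int.natCast_dvd_natCast.1 hd)) hr.ne_one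
    · rfl
    · exact absurd (hju ▸ pow_dvd_pow r (by omega)) hsq
  rw [hju, hj, pow_one]



/-- Zsigmondy's Theorem: for natural numbers a > 1 and n > 1 there is a prime dividing aⁿ − 1 that divides aᵏ − 1 for no natural number 0 < k < n, unless a = 2 and n = 6, or n = 2 and a + 1 is a power of two. -/
theorem result (a n : ℕ) (ha : 1 < a) (hn : 1 < n) (h6 : ¬ (a = 2 ∧ n = 6)) (h2 : ¬ (n = 2 ∧ ∃ m : ℕ, a + 1 = 2 ^ m)) : ∃ r : ℕ, r.Prime ∧ r ∣ a ^ n - 1 ∧ ∀ k : ℕ, 0 < k → k < n → ¬ r ∣ a ^ k - 1 := by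
  by_contra hcon
  push Not at hcon
  rcases eq_or_lt_of_le (show 2 ≤ n by omega) with hn2 | hn3
  · subst hn2
    refine h2 ⟨rfl, ?_⟩
    obtain ⟨m, u, hu, hmu⟩ := Nat.exists_eq_pow_mul_and_not_dvd (show a + 1 ≠ 0 by omega) 2 (by norm_num)
    refine ⟨m, ?_⟩
    by_contra hne
    have hu1 : u ≠ 1 := fun h => hne (by rw [hmu, h, mul_one])
    obtain ⟨s, hs, hsu⟩ := Nat.exists_prime_and_dvd hu1
    have hs2 : s ≠ 2 := fun h => hu (h ▸ hsu)
    have hs1 : s ∣ a + 1 := hmu ▸ dvd_mul_of_dvd_right hsu _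
    obtain ⟨k, hk0, hk, hdk⟩ := hcon s hs (by
      rw [show a ^ 2 - 1 = (a + 1) * (a - 1) by rw [← Nat.sq_sub_sq]]
      exact dvd_mul_of_dvd_left hs1 _)
    obtain rfl : k = 1 := by omega
    rw [pow_one] at hdk
    have h3 : s ∣ 2 := by
      have := Nat.dvd_sub hs1 hdk
      rwa [show a + 1 - (a - 1) = 2 by omega] at this
    exact hs2 ((Nat.prime_dvd_prime_iff_eq hs Nat.prime_two).1 h3)
  obtain ⟨v, hve⟩ : ∃ v : ℕ, (Polynomial.cyclotomic n ℤ).eval (a : ℤ) = v :=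
    ⟨_, (Int.natAbs_of_nonneg (eval_pos ha).le).symm⟩
  have hv1 : v ≠ 1 := by
    intro h
    have hl := lower hn ha
    rw [hve, h] at hl
    have : (1 : ℤ) ≤ ((a - 1 : ℕ) : ℤ) ^ Nat.totient n := one_le_pow₀ (by omega)
    push_cast at hl
    omega
  obtain ⟨r, hr, hrv⟩ := Nat.exists_prime_and_dvd hv1
  have hnp : ∀ s : ℕ, s.Prime → ¬ (s ∣ a ^ n - 1 ∧ ∀ k : ℕ, 0 < k → k < n → ¬ s ∣ a ^ k - 1) :=
    fun s hs h => by
      obtain ⟨k, hk, hkn, hd⟩ := hcon s hs h.1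
      exact h.2 k hk hkn hd
  have hd : (r : ℤ) ∣ (Polynomial.cyclotomic n ℤ).eval (a : ℤ) := hve ▸ Int.natCast_dvd_natCast.2 hrv
  obtain ⟨k, m, hk, hm0, he, hmr, ho, ha0⟩ := shape hn hr hd (hnp r hr)
  have hle : ∀ s : ℕ, s.Prime → (s : ℤ) ∣ (Polynomial.cyclotomic n ℤ).eval (a : ℤ) → r ≤ s := by
    intro s hs hsd
    obtain ⟨j, l, hj, hl0, hel, hls, -, -⟩ := shape hn hs hsd (hnp s hs)
    have hrn : r ∣ s ^ j * l := hel ▸ he ▸ (dvd_pow_self r hk.ne').mul_right m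
    rcases hr.dvd_mul.1 hrn with h | h
    · exact ((Nat.prime_dvd_prime_iff_eq hr hs).1 (hr.dvd_of_dvd_pow h)).le
    · have := Nat.le_of_dvd (by have := hs.two_le; omega) (h.trans hls)
      omega
  have hall : ∀ s : ℕ, s.Prime → (s : ℤ) ∣ (Polynomial.cyclotomic n ℤ).eval (a : ℤ) → s = r := by
    intro s hs hsd
    refine le_antisymm ?_ (hle s hs hsd)
    obtain ⟨j, l, hj, hl0, hel, hls, -, -⟩ := shape hn hs hsd (hnp s hs)
    have hsn : s ∣ r ^ k * m := he ▸ hel ▸ (dvd_pow_self s hj.ne').mul_right l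
    rcases hs.dvd_mul.1 hsn with h | h
    · exact ((Nat.prime_dvd_prime_iff_eq hs hr).1 (hs.dvd_of_dvd_pow h)).le
    · have := Nat.le_of_dvd (by have := hr.two_le; omega) (h.trans hmr)
      omega
  have hval := eq_prime ha hn3 hr hall hd hk he hmr ho ha0
  have htot : r - 1 ≤ Nat.totient n := by
    refine Nat.le_of_dvd (Nat.totient_pos.2 (by omega)) ?_
    rw [← Nat.totient_prime hr]
    exact Nat.totient_dvd_of_dvd (he ▸ (dvd_pow_self r hk.ne').mul_right m)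
  have h2r : ∀ j : ℕ, j + 1 ≤ 2 ^ j := fun j => Nat.lt_two_pow_self
  have hbig : ¬ 3 ≤ a := by
    intro h3
    have h := lower hn ha
    rw [hval] at h
    have h1 : (2 : ℤ) ^ (r - 1) ≤ ((a - 1 : ℕ) : ℤ) ^ Nat.totient n :=
      le_trans (pow_le_pow_right₀ (by norm_num) htot) (pow_le_pow_left₀ (by norm_num) (by omega) _)
    have h4 : ((r - 1 + 1 : ℕ) : ℤ) ≤ (2 : ℤ) ^ (r - 1) := by exact_mod_cast h2r (r - 1)
    have := hr.two_le
    push_cast at h4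
    omega
  obtain rfl : a = 2 := by omega
  have hr2 : r ≠ 2 := by rintro rfl; exact ha0 (by decide)
  obtain ⟨k, rfl⟩ : ∃ k', k = k' + 1 := ⟨k - 1, by omega⟩
  obtain ⟨d, hdd⟩ : ∃ d, d = r ^ k * m := ⟨_, rfl⟩
  have hnd : n = d * r := by rw [he, hdd, pow_succ]; ring
  have hm1 : m ≠ 1 := by
    rintro rfl
    have h1 := orderOf_eq_one_iff.1 ho
    have : ((2 : ℕ) : ZMod r) = ((1 : ℕ) : ZMod r) := by rw [h1, Nat.cast_one]
    rw [ZMod.natCast_eq_natCast_iff, Nat.modEq_iff_dvd] at this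
    norm_num at this
    exact hr.not_dvd_one (by exact_mod_cast this)
  have hd1 : 1 < d := by
    have hp1 : 1 ≤ r ^ k := Nat.one_le_pow _ _ hr.pos
    rw [hdd]; nlinarith [show 2 ≤ m by omega]
  have h2pow : 1 < 2 ^ r := Nat.one_lt_two_pow hr.ne_zero
  have hlow := lower (n := d) (a := 2 ^ r) hd1 h2pow
  have hh : ((2 ^ r - 1 : ℕ) : ℤ) ≤ ((2 ^ r - 1 : ℕ) : ℤ) ^ Nat.totient d :=
    le_self_pow₀ (by omega) (Nat.totient_pos.2 (by omega)).ne'
  rcases k with _ | k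
  · have hdm : d = m := by rw [hdd, pow_zero, one_mul]
    have hrm : ¬ r ∣ d := fun h => by
      have := Nat.le_of_dvd (by have := hr.two_le; omega) ((hdm ▸ h).trans hmr); have := hr.two_le; omega
    have hexp2 := congrArg (Polynomial.eval ((2 : ℕ) : ℤ))
      (Polynomial.cyclotomic_expand_eq_cyclotomic_mul (p := r) (n := d) hr hrm ℤ)
    rw [Polynomial.expand_eval, Polynomial.eval_mul, ← hnd, hval] at hexp2
    have hup := upper (n := d) (a := 2) (by norm_num)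
    rw [show ((2 ^ r : ℕ) : ℤ) = ((2 : ℕ) : ℤ) ^ r by push_cast; rfl, hexp2] at hlow
    have hrpos : (0 : ℤ) < r := by exact_mod_cast hr.pos
    have h1 : ((2 ^ r - 1 : ℕ) : ℤ) ^ Nat.totient d < (r : ℤ) * ((2 + 1 : ℕ) : ℤ) ^ Nat.totient d :=
      hlow.trans_le (mul_le_mul_of_nonneg_left hup hrpos.le)
    have h3 : (r : ℤ) * ((2 + 1 : ℕ) : ℤ) ^ Nat.totient d ≤ ((3 * r : ℕ) : ℤ) ^ Nat.totient d := by
      push_cast
      rw [mul_pow, mul_comm]
      exact mul_le_mul_of_nonneg_left (le_self_pow₀ (by omega) (Nat.totient_pos.2 (by omega)).ne')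
        (by positivity)
    have h5 : 2 ^ r - 1 < 3 * r := by
      by_contra hc
      exact absurd (h1.trans_le h3) (not_lt.2 (pow_le_pow_left₀ (by positivity) (by exact_mod_cast Nat.not_lt.1 hc) _))
    have hr4 : r ≤ 3 := by
      by_contra hc
      have hgen : ∀ j : ℕ, 3 * (j + 4) + 1 ≤ 2 ^ (j + 4) := by
        intro j
        induction j with
        | zero => norm_num
        | succ j ih => rw [show j + 1 + 4 = j + 4 + 1 by ring, pow_succ]; omega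
      have := hgen (r - 4)
      rw [show r - 4 + 4 = r by omega] at this
      omega
    have hr3 : r = 3 := by have := hr.two_le; omega
    subst hr3
    have hm2 : m = 2 := by have := Nat.le_of_dvd (by norm_num) hmr; omega
    exact h6 ⟨rfl, by rw [hnd, hdm, hm2]⟩
  · have hrd : r ∣ d := hdd ▸ (dvd_pow_self r (Nat.succ_ne_zero k)).mul_right m
    have hexp2 := congrArg (Polynomial.eval ((2 : ℕ) : ℤ))
      (Polynomial.cyclotomic_expand_eq_cyclotomic (p := r) (n := d) hr hrd ℤ)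
    rw [Polynomial.expand_eval, ← hnd, hval] at hexp2
    rw [show ((2 ^ r : ℕ) : ℤ) = ((2 : ℕ) : ℤ) ^ r by push_cast; rfl, hexp2] at hlow
    have h3 := h2r r
    omega

end Cfsg.Agent.S2904
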