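import Cfsg.Statements.S1120
import Cfsg.Agent.Lib.Lie.RankOne
import Cfsg.Agent.Lib.Solv.Generation
import Cfsg.Agent.Lib.Fusion.Cores
-- import your own Cfsg.Agent.* helpers here

set_option autoImplicit false
open Cfsg

namespace Cfsg.Agent.S1120

/-- In the rank-one set-up (`G` finite and doubly transitive on `Ω`, `t` an involution moving `a`, `Q` normal in `G_a` with `G_a = Q D`, `Q ⊓ D = 1` for the two-point stabiliser `D = G_a ⊓ G_{t • a}`, `|Q|` even, `|D|` odd), if `G` has 2-rank at least 2 then `O_{2'}(G)` equals the normal core of `G_a`. -/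
theorem result {G Ω : Type*} [Group G] [Finite G] [MulAction G Ω] {a : Ω} {t : G} {Q : Subgroup G}
    (hS : Cfsg.IsRankOneSetup G Ω a t Q)
    (h2 : ∃ x y : G, x ≠ 1 ∧ y ≠ 1 ∧ x ≠ y ∧ x * x = 1 ∧ y * y = 1 ∧ x * y = y * x) :
    Cfsg.pPrimeCore 2 G = (MulAction.stabilizer G a).normalCore := by
  open Cfsg.Agent.Lie in
  haveI := hS.two_transitive
  haveI : MulAction.IsPretransitive G Ω := MulAction.isPretransitive_of_is_two_pretransitive
  obtain ⟨x, y, hx1, hy1, hxy, hx2, hy2, hcomm⟩ := h2
  have hodd : (Nat.card ↥(Cfsg.pPrimeCore 2 G)).Coprime 2 := Cfsg.Agent.Fusion.card_pPrimeCore_coprime 2 G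
  refine le_antisymm ?_ ?_
  · rw [Subgroup.normal_le_normalCore]
    intro o ho
    obtain ⟨c, hc, hcu⟩ := R1.inv_one_fix hS hx1 hx2
    have hyc : y • c = c := hcu _ (by
      show x • (y • c) = y • c
      rw [smul_smul, hcomm, mul_smul, hc])
    let A : Subgroup G :=
      { carrier := {g | g = 1 ∨ g = x ∨ g = y ∨ g = x * y}
        one_mem' := Or.inl rfl
        mul_mem' := by
          have e1 : x * (x * y) = y := by rw [← mul_assoc, hx2, one_mul]
          have e2 : y * (x * y) = x := by rw [hcomm, ← mul_assoc, hy2, one_mul]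
          have e3 : x * y * x = y := by rw [hcomm, mul_assoc, hx2, mul_one]
          have e4 : x * y * y = x := by rw [mul_assoc, hy2, mul_one]
          have e5 : x * y * (x * y) = 1 := by rw [← mul_assoc, e3, hy2]
          rintro g h (rfl | rfl | rfl | rfl) (rfl | rfl | rfl | rfl) <;>
            simp [hx2, hy2, e1, e2, e3, e4, e5, ← hcomm]
        inv_mem' := by
          rintro g (rfl | rfl | rfl | rfl) <;>
            simp [inv_eq_of_mul_eq_one_left hx2, inv_eq_of_mul_eq_one_left hy2, ← hcomm] }
    have hAfix : ∀ v ∈ A, v ≠ 1 → ∀ g : G, Commute g v → g • c = c := by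
      intro v hv hv1 g hg
      have hvv : v * v = 1 := by
        rcases hv with rfl | rfl | rfl | rfl
        · simp
        · exact hx2
        · exact hy2
        · rw [mul_assoc, ← mul_assoc y x, ← hcomm, mul_assoc x y y, hy2, mul_one, hx2]
      have hvc : v • c = c := by
        rcases hv with rfl | rfl | rfl | rfl
        · exact one_smul _ _
        · exact hc
        · exact hyc
        · rw [mul_smul, hyc, hc]
      exact (R1.inv_one_fix hS hv1 hvv).unique (by
        show v • (g • c) = g • c
        rw [smul_smul, ← hg.eq, mul_smul, hvc]) hvc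
    have hA : IsMulCommutative A := ⟨⟨by
      rintro ⟨g, hg⟩ ⟨h, hh⟩
      apply Subtype.ext
      show g * h = h * g
      have cxy : Commute x y := hcomm
      rcases hg with h1 | h1 | h1 | h1 <;> rcases hh with h2 | h2 | h2 | h2 <;> rw [h1, h2] <;>
        first
          | rfl
          | exact (Commute.one_left _).eq
          | exact (Commute.one_right _).eq
          | exact cxy.eq
          | exact cxy.symm.eq
          | exact (((Commute.refl x).mul_right cxy)).eq
          | exact (((Commute.refl x).mul_right cxy)).symm.eq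
          | exact ((cxy.symm.mul_right (Commute.refl y))).eq
          | exact ((cxy.symm.mul_right (Commute.refl y))).symm.eq⟩⟩
    have h4 : IsPGroup 2 A := fun g => ⟨1, Subtype.ext (by
      show g.1 ^ (2 ^ 1) = 1
      rw [pow_one, pow_two]
      rcases g.2 with h | h | h | h <;> rw [h]
      · simp
      · exact hx2
      · exact hy2
      · rw [mul_assoc, ← mul_assoc y x, ← hcomm, mul_assoc x y y, hy2, mul_one, hx2])⟩
    haveI : Fact (Nat.Prime 2) := ⟨Nat.prime_two⟩
    have hco : (Nat.card A).Coprime (Nat.card ↥(Cfsg.pPrimeCore 2 G)) := by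
      obtain ⟨n, hn⟩ := IsPGroup.iff_card.1 h4
      rw [hn]
      exact Nat.Coprime.pow_left n hodd.symm
    have hgen := Cfsg.Agent.Solv.gen_eq A (Cfsg.pPrimeCore 2 G) hA
      (fun g _ => by rw [Subgroup.normalizer_eq_top]; trivial) hco
    have hle : Cfsg.pPrimeCore 2 G ≤ MulAction.stabilizer G c := by
      rw [← hgen]
      refine iSup₂_le fun B hB g hg => ?_
      obtain ⟨hBA, b, hbA, hsup⟩ := hB
      obtain ⟨v, hvB, hv1⟩ : ∃ v ∈ B, v ≠ 1 := by
        by_contra hcon
        simp only [not_exists, not_and, not_not] at hcon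
        rw [(Subgroup.eq_bot_iff_forall B).2 hcon, bot_sup_eq] at hsup
        have hxA : x ∈ Subgroup.zpowers b := hsup ▸ (Or.inr (Or.inl rfl) : x ∈ A)
        have hyA : y ∈ Subgroup.zpowers b := hsup ▸ (Or.inr (Or.inr (Or.inl rfl)) : y ∈ A)
        have key : ∀ z ∈ Subgroup.zpowers b, z = 1 ∨ z = b := by
          intro z hz
          have hbb : b * b = 1 := by
            rcases hbA with rfl | rfl | rfl | rfl
            · simp
            · exact hx2
            · exact hy2
            · rw [mul_assoc, ← mul_assoc y x, ← hcomm, mul_assoc x y y, hy2, mul_one, hx2]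
          obtain ⟨i, rfl⟩ := Subgroup.mem_zpowers_iff.1 hz
          rcases Int.even_or_odd i with ⟨j, rfl⟩ | ⟨j, rfl⟩
          · left; rw [← two_mul, _root_.zpow_mul, zpow_ofNat, pow_two, hbb, _root_.one_zpow]
          · right; rw [_root_.zpow_add, zpow_one, _root_.zpow_mul, zpow_ofNat, pow_two, hbb, _root_.one_zpow, one_mul]
        rcases key x hxA with h | h
        · exact hx1 h
        · rcases key y hyA with h' | h'
          · exact hy1 h'
          · exact hxy (h.trans h'.symm)
      exact hAfix v (hBA hvB) hv1 g ((Subgroup.mem_centralizer_iff.1 (Subgroup.mem_inf.1 hg).2 v hvB).symm)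
    obtain ⟨k, hk⟩ := MulAction.exists_smul_eq G c a
    rw [← hk]
    show o • k • c = k • c
    have h5 : (k⁻¹ * o * k⁻¹⁻¹) • c = c :=
      hle ((inferInstance : (Cfsg.pPrimeCore 2 G).Normal).conj_mem o ho k⁻¹)
    rw [inv_inv, mul_smul, mul_smul, inv_smul_eq_iff] at h5
    exact h5
  · have hcore : (MulAction.stabilizer G a).normalCore ≤ R1.D G a t := by
      intro g hg
      refine ⟨Subgroup.normalCore_le _ hg, ?_⟩
      show g • (t • a) = t • a
      have h5 : (t * g * t⁻¹) • a = a := hg t
      rw [mul_smul, mul_smul, R1.t_inv hS] at h5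
      have := congrArg (fun b => t • b) h5
      simpa [smul_smul, ← mul_assoc, hS.mul_self] using this
    exact Cfsg.Agent.Fusion.le_pPrimeCore (Nat.Coprime.coprime_dvd_left (Subgroup.card_dvd_of_le hcore)
      hS.odd_card.coprime_two_right)

end Cfsg.Agent.S1120
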