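import Cfsg.Statements.S4037
import Cfsg.Agent.Lib.Perm.Kazarin

set_option autoImplicit false
set_option linter.style.haveILetI false
open Cfsg
open Cfsg.Agent.Perm.Kazarin

namespace Cfsg.Agent.S4037

/-- If an element x of a finite group G has a conjugacy class of prime-power size, then the normal closure of x in G (the subgroup generated by the conjugacy class of x) is solvable. -/
theorem result {G : Type*} [Group G] [Finite G]
    (x : G) {p : ℕ} (hp : p.Prime) (k : ℕ) (hx : (ConjClasses.mk x).carrier.ncard = p ^ k) :
    Group.IsSolvable ↥(Subgroup.normalClosure ({x} : Set G)) := by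
  classical
  haveI : Fact p.Prime := ⟨hp⟩
  have hidx : (Subgroup.centralizer ({x} : Set G)).index = p ^ k := by
    rw [← hx]
    have h1 := MulAction.index_stabilizer (ConjAct G) x
    have h2 : MulAction.orbit (ConjAct G) x = (ConjClasses.mk x).carrier := by
      ext y
      rw [ConjAct.mem_orbit_conjAct, ConjClasses.mem_carrier_iff_mk_eq, ConjClasses.mk_eq_mk_iff_isConj]
    rw [h2] at h1
    rw [← h1, Subgroup.centralizer_eq_comap_stabilizer]
    exact Subgroup.index_comap_of_surjective _ ConjAct.toConjAct.surjective
  haveI := rad_normal (G := G)
  haveI := rad_solvable (G := G)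
  have hle : Subgroup.normalClosure ({x} : Set G) ≤ solvableRadical G :=
    Subgroup.normalClosure_le_normal (Set.singleton_subset_iff.2 (mem_rad hidx))
  exact Group.isSolvable_of_isSolvable_injective (Subgroup.inclusion_injective hle)

end Cfsg.Agent.S4037
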