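import Cfsg.Statements.S1124
import Cfsg.Agent.Lib.Lie.RankOne
-- import your own Cfsg.Agent.* helpers here

set_option autoImplicit false
open scoped Pointwise
open Cfsg

namespace Cfsg.Agent.S1124

/-- Let `t` be an element of order 2 of a finite group normalising a subgroup `X` of odd order, `Y = C_X(t)` and `Z` the set of elements of `X` inverted by `t`. Then `(y, z) ↦ y z` is a bijection `Y × Z → X`, so `|X| = |Y| |Z|`, and the subgroup generated by `Z` is normal in `X`. -/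
theorem result {M : Type*} [Group M] [Finite M]
    (t : M) (ht : orderOf t = 2) (X : Subgroup M) (hodd : Odd (Nat.card X))
    (hnorm : ∀ x ∈ X, t * x * t⁻¹ ∈ X) :
    (∀ x ∈ X, ∃! p : M × M, p.1 ∈ X ⊓ Subgroup.centralizer {t} ∧ p.2 ∈ Cfsg.invertedBy X t ∧ x = p.1 * p.2) ∧
      Nat.card X = Nat.card ↥(X ⊓ Subgroup.centralizer {t}) * Nat.card (Cfsg.invertedBy X t) ∧
      ∀ x ∈ X, MulAut.conj x • Subgroup.closure (Cfsg.invertedBy X t) = Subgroup.closure (Cfsg.invertedBy X t) := by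
  classical
  have htt : t * t = 1 := by rw [← pow_two, ← ht, pow_orderOf_eq_one]
  have hti : t⁻¹ = t := inv_eq_of_mul_eq_one_left htt
  have hn : ∀ x ∈ X, t * x * t ∈ X := fun x hx => by
    have := hnorm x hx
    rwa [hti] at this
  have hmemY : ∀ y, y ∈ X ⊓ Subgroup.centralizer {t} ↔ y ∈ X ∧ t * y * t = y := fun y => by
    rw [Subgroup.mem_inf, Subgroup.mem_centralizer_singleton_iff]
    refine and_congr_right fun _ => ⟨fun h => ?_, fun h => ?_⟩
    · rw [← h, mul_assoc, htt, mul_one]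
    · conv_lhs => rw [← h]
      rw [mul_assoc, htt, mul_one]
  have hmemZ : ∀ z, z ∈ Cfsg.invertedBy X t ↔ z ∈ X ∧ t * z * t = z⁻¹ := fun z => by
    show z ∈ X ∧ t * z * t⁻¹ = z⁻¹ ↔ _
    rw [hti]
  have h1 : ∀ x ∈ X, ∃! p : M × M, p.1 ∈ X ⊓ Subgroup.centralizer {t} ∧ p.2 ∈ Cfsg.invertedBy X t ∧ x = p.1 * p.2 := by
    intro x hx
    obtain ⟨z, hz, hzi, hzy⟩ := Cfsg.Agent.Lie.exists_decomp htt hn hodd hx
    refine ⟨(x * z⁻¹, z), ⟨(hmemY _).2 ⟨mul_mem hx (inv_mem hz), hzy⟩, (hmemZ _).2 ⟨hz, hzi⟩, by group⟩, ?_⟩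
    rintro ⟨y', z'⟩ ⟨hy', hz', he⟩
    obtain ⟨e1, e2⟩ := Cfsg.Agent.Lie.decomp_unique htt hodd ((hmemZ _).1 hz').1 hz ((hmemY _).1 hy').2 hzy
      ((hmemZ _).1 hz').2 hzi (he.symm.trans (by group))
    exact Prod.ext e1 e2
  refine ⟨h1, ?_, ?_⟩
  · rw [← Nat.card_prod]
    refine (Nat.card_eq_of_bijective (fun p : ↥(X ⊓ Subgroup.centralizer {t}) × Cfsg.invertedBy X t =>
      (⟨p.1.1 * p.2.1, mul_mem (Subgroup.mem_inf.1 p.1.2).1 ((hmemZ _).1 p.2.2).1⟩ : X)) ⟨?_, ?_⟩).symm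
    · rintro ⟨y, z⟩ ⟨y', z'⟩ h
      obtain ⟨p, -, hp⟩ := h1 (y.1 * z.1) (mul_mem (Subgroup.mem_inf.1 y.2).1 ((hmemZ _).1 z.2).1)
      have e := (hp (y.1, z.1) ⟨y.2, z.2, rfl⟩).trans (hp (y'.1, z'.1) ⟨y'.2, z'.2, congrArg Subtype.val h⟩).symm
      exact Prod.ext (Subtype.ext (congrArg Prod.fst e)) (Subtype.ext (congrArg Prod.snd e))
    · rintro ⟨x, hx⟩
      obtain ⟨p, ⟨hy, hz, he⟩, -⟩ := h1 x hx
      exact ⟨(⟨p.1, hy⟩, ⟨p.2, hz⟩), Subtype.ext he.symm⟩
  · set C := Subgroup.closure (Cfsg.invertedBy X t)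
    have hX : X ≤ Subgroup.normalizer (C : Set M) := by
      intro x hx
      obtain ⟨⟨y, z⟩, ⟨hy, hz, he⟩, -⟩ := h1 x hx
      rw [he]
      refine mul_mem ?_ (Subgroup.le_normalizer (Subgroup.subset_closure hz))
      obtain ⟨hyX, hyt⟩ := (hmemY y).1 hy
      have key : ∀ u ∈ X ⊓ Subgroup.centralizer {t}, C ≤ C.comap (MulAut.conj u).toMonoidHom := by
        intro u hu
        refine (Subgroup.closure_le _).2 fun w hw => Subgroup.subset_closure ((hmemZ _).2 ?_)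
        obtain ⟨hwX, hwt⟩ := (hmemZ w).1 hw
        obtain ⟨huX, hut⟩ := (hmemY u).1 hu
        refine ⟨mul_mem (mul_mem huX hwX) (inv_mem huX), ?_⟩
        show t * (u * w * u⁻¹) * t = (u * w * u⁻¹)⁻¹
        have htc : ∀ a : M, t * (t * a) = a := fun a => by rw [← mul_assoc, htt, one_mul]
        calc t * (u * w * u⁻¹) * t = (t * u * t) * (t * w * t) * (t * u * t)⁻¹ := by
              simp [mul_assoc, htc, hti]
          _ = _ := by rw [hut, hwt]; group
      rw [Subgroup.mem_normalizer_iff]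
      refine fun w => ⟨fun hw => key y hy hw, fun hw => ?_⟩
      have := key y⁻¹ (inv_mem hy) hw
      simpa [mul_assoc] using this
    intro x hx
    ext w
    rw [Subgroup.mem_pointwise_smul_iff_inv_smul_mem]
    have h := Subgroup.mem_normalizer_iff.1 (hX (inv_mem hx)) w
    simpa [MulAut.smul_def, mul_assoc] using h.symm

end Cfsg.Agent.S1124
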