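import Cfsg.Statements.S4593
import Cfsg.Agent.Lib.Char.ZStarElement

set_option autoImplicit false
open Cfsg

namespace Cfsg.Agent.S4593

/-- A 2-power automorphism fixing an abelian Sylow 2-subgroup is inner when there is no odd core. -/
theorem main {G : Type*} [Group G] [Finite G] (hcore : Cfsg.pPrimeCore 2 G = ⊥) (P : Sylow 2 G)
    (hab : IsMulCommutative (P : Subgroup G)) (α : MulAut G) (h2 : ∃ j : ℕ, orderOf α = 2 ^ j)
    (hfix : ∀ x ∈ (P : Subgroup G), α x = x) : ∃ g : G, ∀ x : G, α x = g * x * g⁻¹ := by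
  classical
  haveI : Fact (Nat.Prime 2) := ⟨Nat.prime_two⟩
  obtain ⟨j, hj⟩ := h2
  let Z := Subgroup.zpowers α
  let φ : Z →* MulAut G := Z.subtype
  let H := G ⋊[φ] Z
  haveI : Finite H := Finite.of_equiv _ SemidirectProduct.equivProd.symm
  have hZfix : ∀ (z : Z), ∀ x ∈ (P : Subgroup G), φ z x = x := by
    rintro ⟨z, hz⟩ x hx
    have hst : Subgroup.zpowers α ≤ MulAction.stabilizer (MulAut G) x :=
      Subgroup.zpowers_le.2 (hfix x hx)
    exact hst hz
  let S : Subgroup H :=
    { carrier := {h | h.left ∈ (P : Subgroup G)}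
      one_mem' := (P : Subgroup G).one_mem
      mul_mem' := fun {a b} ha hb => by
        show (a * b).left ∈ (P : Subgroup G)
        rw [SemidirectProduct.mul_left, hZfix _ _ hb]
        exact (P : Subgroup G).mul_mem ha hb
      inv_mem' := fun {a} ha => by
        show (a⁻¹).left ∈ (P : Subgroup G)
        rw [SemidirectProduct.inv_left, hZfix _ _ ((P : Subgroup G).inv_mem ha)]
        exact (P : Subgroup G).inv_mem ha }
  have hScomm : ∀ a ∈ S, ∀ b ∈ S, a * b = b * a := by
    intro a ha b hb
    refine SemidirectProduct.ext ?_ ?_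
    · rw [SemidirectProduct.mul_left, SemidirectProduct.mul_left, hZfix _ _ hb, hZfix _ _ ha]
      exact congrArg Subtype.val (hab.is_comm.comm ⟨_, ha⟩ ⟨_, hb⟩)
    · rw [SemidirectProduct.mul_right, SemidirectProduct.mul_right]
      exact mul_comm' a.right b.right
  have hScard : Nat.card S = Nat.card (P : Subgroup G) * Nat.card Z := by
    rw [← Nat.card_prod]
    exact Nat.card_congr
      { toFun := fun a => (⟨a.1.left, a.2⟩, a.1.right)
        invFun := fun p => ⟨⟨p.1.1, p.2⟩, p.1.2⟩
        left_inv := fun a => rfl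
        right_inv := fun p => rfl }
  have hZcard : Nat.card Z = 2 ^ j := by rw [Nat.card_zpowers, hj]
  have hSp : IsPGroup 2 S := by
    obtain ⟨n, hn⟩ := IsPGroup.iff_card.1 P.2
    exact IsPGroup.of_card (n := n + j) (by rw [hScard, hn, hZcard, pow_add])
  have hSidx : S.index = (P : Subgroup G).index := by
    have h1 := S.card_mul_index
    rw [hScard, show Nat.card H = Nat.card G * Nat.card Z from SemidirectProduct.card,
      ← (P : Subgroup G).card_mul_index] at h1
    refine Nat.eq_of_mul_eq_mul_left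
      (Nat.mul_pos (Nat.card_pos (α := (P : Subgroup G))) (Nat.card_pos (α := Z))) ?_
    linarith
  let SS : Sylow 2 H := hSp.toSylow (hSidx ▸ P.not_dvd_index)
  have hSS : (SS : Subgroup H) = S := rfl
  letI : CommGroup S := { (inferInstance : Group S) with
    mul_comm := fun a b => Subtype.ext (hScomm a a.2 b b.2) }
  haveI hSc : IsMulCommutative (SS : Subgroup H) := ⟨⟨fun a b => Subtype.ext (hScomm a a.2 b b.2)⟩⟩
  letI : CommGroup Z := { (inferInstance : Group Z) with mul_comm := fun a b => mul_comm' a b }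
  let ρ := S.normalizerMonoidHom
  let R := ρ.range
  haveI : Fintype R := Fintype.ofFinite _
  let N := Subgroup.normalizer (S : Set H)
  have hker : S.subgroupOf N ≤ ρ.ker := by
    intro a ha
    rw [MonoidHom.mem_ker]
    refine MulEquiv.ext fun b => Subtype.ext ?_
    show (a : H) * b * (a : H)⁻¹ = b
    have haS : (a : H) ∈ S := ha
    rw [hScomm _ haS _ b.2, mul_inv_cancel_right]
  have hRodd : ¬ 2 ∣ Fintype.card R := by
    rw [← Nat.card_eq_fintype_card, ← Subgroup.index_ker]
    exact fun h => SS.not_dvd_index (h.trans ((Subgroup.index_dvd_of_le hker).trans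
      (Subgroup.relIndex_dvd_index_of_le (Subgroup.le_normalizer (H := S)))))
  let s : S := ⟨⟨1, ⟨α, Subgroup.mem_zpowers α⟩⟩, (P : Subgroup G).one_mem⟩
  let w : S := ∏ r : R, (r : MulAut S) s
  have hw : ∀ r : R, (r : MulAut S) w = w := by
    intro r
    rw [map_prod]
    exact Fintype.prod_equiv (Equiv.mulLeft r) _ _ fun x => rfl
  let pr : S →* Z := SemidirectProduct.rightHom.comp S.subtype
  have hpr : ∀ r : R, pr ((r : MulAut S) s) = pr s := by
    rintro ⟨r, n, rfl⟩
    show SemidirectProduct.rightHom ((n : H) * (s : H) * (n : H)⁻¹) = _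
    rw [map_mul, map_mul, map_inv, mul_comm' (SemidirectProduct.rightHom (n : H)), mul_inv_cancel_right]
    rfl
  have hprw : pr w = pr s ^ Fintype.card R := by
    rw [map_prod, Finset.prod_congr rfl fun r _ => hpr r, Finset.prod_const, Finset.card_univ]
  have hords : orderOf (pr s) = 2 ^ j := by
    rw [← hj]
    exact Subgroup.orderOf_mk α (Subgroup.mem_zpowers α)
  obtain ⟨m, hm⟩ := exists_pow_eq_self_of_coprime (x := pr s) (n := Fintype.card R) (by
    rw [hords]
    exact Nat.Coprime.pow_right _ ((Nat.prime_two.coprime_iff_not_dvd.2 hRodd).symm))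
  set c : S := w ^ m with hc
  have hcR : ∀ r : R, (r : MulAut S) c = c := fun r => by rw [hc, map_pow, hw]
  have hcr : (c : H).right = ⟨α, Subgroup.mem_zpowers α⟩ := by
    show pr c = pr s
    rw [hc, map_pow, hprw]
    exact hm
  have hcN : ∀ n ∈ N, n * (c : H) * n⁻¹ = c := fun n hn =>
    congrArg Subtype.val (hcR ⟨ρ ⟨n, hn⟩, ⟨n, hn⟩, rfl⟩)
  have hiso : ∀ y ∈ Subgroup.zpowers (c : H), ∀ h : H,
      h * y * h⁻¹ ∈ (SS : Subgroup H) → h * y * h⁻¹ = y := by
    intro y hy h hmem
    have hyS : y ∈ (SS : Subgroup H) := Subgroup.zpowers_le.2 c.2 hy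
    obtain ⟨k, hk, hky⟩ := Sylow.conj_eq_normalizer_conj_of_mem (P := SS) y h⁻¹ hyS
      (by rwa [inv_inv])
    rw [inv_inv] at hky
    rw [hky]
    obtain ⟨l, rfl⟩ := hy
    have h1 := hcN k⁻¹ ((Subgroup.normalizer _).inv_mem hk)
    rw [inv_inv] at h1
    show k⁻¹ * (c : H) ^ l * k = (c : H) ^ l
    conv_lhs => rw [← inv_inv k, inv_inv k⁻¹, ← conj_zpow]
    rw [inv_inv, h1]
  have hcent := Cfsg.Agent.Char.isolatedElt_central (S := SS) (x := (c : H)) c.2 hiso
  have hodd : Cfsg.oddCore H = ⊥ := by
    set K := Cfsg.oddCore H with hK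
    have hKodd : Odd (Nat.card K) := Cfsg.Agent.Char.card_oddCore_odd H
    have hKr : ∀ k ∈ K, k.right = 1 := by
      intro k hk
      have h1 : orderOf k.right ∣ Nat.card K :=
        (orderOf_map_dvd SemidirectProduct.rightHom k).trans (Subgroup.orderOf_dvd_natCard K hk)
      have h2 : orderOf k.right ∣ 2 ^ j := hZcard ▸ orderOf_dvd_natCard k.right
      exact orderOf_eq_one_iff.1 (Nat.eq_one_of_dvd_coprimes
        (Nat.Coprime.pow_left _ (Nat.coprime_two_left.2 hKodd)) h2 h1)
    set L := K.comap (SemidirectProduct.inl : G →* H) with hL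
    have hLc : Nat.card L = Nat.card K := Nat.card_congr
      { toFun := fun g => ⟨SemidirectProduct.inl g.1, g.2⟩
        invFun := fun k => ⟨k.1.left, by
          show SemidirectProduct.inl k.1.left ∈ K
          rw [show (SemidirectProduct.inl k.1.left : H) = k.1 from
            SemidirectProduct.ext rfl (hKr k.1 k.2).symm]
          exact k.2⟩
        left_inv := fun g => rfl
        right_inv := fun k => Subtype.ext (SemidirectProduct.ext rfl (hKr k.1 k.2).symm) }
    haveI : K.Normal := inferInstance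
    haveI : L.Normal := inferInstance
    have hLb : L = ⊥ := by
      rw [eq_bot_iff, ← hcore]
      exact Cfsg.Agent.Fusion.le_pPrimeCore (by
        rw [hLc]; exact Nat.coprime_comm.1 (Nat.coprime_two_left.2 hKodd))
    rw [hLb, Subgroup.card_bot] at hLc
    exact K.card_eq_one.1 hLc.symm
  refine ⟨((c : H).left)⁻¹, fun g => ?_⟩
  have h1 := hcent (SemidirectProduct.inl g)
  rw [hodd, Subgroup.mem_bot, mul_inv_eq_one, mul_inv_eq_iff_eq_mul] at h1
  have h2 := congrArg SemidirectProduct.left h1
  rw [SemidirectProduct.mul_left, SemidirectProduct.mul_left, hcr, SemidirectProduct.left_inl,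
    SemidirectProduct.right_inl, map_one] at h2
  have h3 : (c : H).left * α g = g * (c : H).left := h2
  rw [inv_inv, mul_assoc, ← h3, inv_mul_cancel_left]


/-- Let G be a finite group with trivial centre and no nontrivial normal subgroup of odd order, whose Sylow 2-subgroups are abelian, and let P be a Sylow 2-subgroup. Every automorphism of G of 2-power order that fixes P elementwise is inner. -/
theorem result {G : Type*} [Group G] [Finite G] (hZ : Subgroup.center G = ⊥) (hcore : Cfsg.pPrimeCore 2 G = ⊥) (P : Sylow 2 G) (hab : IsMulCommutative (P : Subgroup G))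
    (α : MulAut G) (h2 : ∃ j : ℕ, orderOf α = 2 ^ j) (hfix : ∀ x ∈ (P : Subgroup G), α x = x) :
    ∃ g : G, ∀ x : G, α x = g * x * g⁻¹ := by
  exact main hcore P hab α h2 hfix

end Cfsg.Agent.S4593
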