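import Cfsg.Statements.S2111
import Cfsg.Agent.Lib.Small.SuzukiMult
-- import your own Cfsg.Agent.* helpers here

set_option autoImplicit false
open Cfsg

namespace Cfsg.Agent.S2111

/-- Schur multipliers of the Suzuki groups: for q = 2^(2m+1) with m ≥ 2 the Schur multiplier of Sz(q) is trivial (here the Schur multiplier is described through stem extensions, as in the definitions); q = 8 is exceptional. -/
theorem result {F : Type*} [Field F] [Fintype F] {m : ℕ} (hm : 2 ≤ m) (hF : Fintype.card F = 2 ^ (2 * m + 1)) : Cfsg.HasCyclicSchurMultiplier ↥(Cfsg.Lie.Sz F (2 ^ (m + 1))) 1 := by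
  classical
  obtain ⟨e⟩ := Cfsg.Agent.Lie.Suzuki.lie_sz_equiv hF (show 1 ≤ m by omega)
  refine ⟨⟨_, inferInstance, inferInstance, MonoidHom.id _, ⟨Function.surjective_id, ?_, ?_⟩, ?_⟩, ?_⟩
  · intro x hx; rw [MonoidHom.mem_ker] at hx; rw [show x = 1 from hx]; exact one_mem _
  · intro x hx; rw [MonoidHom.mem_ker] at hx; rw [show x = 1 from hx]; exact one_mem _
  · haveI : Subsingleton ↥(MonoidHom.id ↥(Cfsg.Lie.Sz F (2 ^ (m + 1)))).ker :=
      ⟨fun a b => Subtype.ext (a.2.trans b.2.symm)⟩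
    haveI : Subsingleton (Multiplicative (ZMod 1)) := inferInstanceAs (Subsingleton (ZMod 1))
    exact ⟨{ toFun := fun _ => 1, invFun := fun _ => 1, left_inv := fun _ => Subsingleton.elim _ _,
             right_inv := fun _ => Subsingleton.elim _ _, map_mul' := fun _ _ => (one_mul 1).symm }⟩
  · intro Γ _ _ σ hσ
    obtain ⟨h1, h2, h3⟩ := hσ
    have hk : (e.symm.toMonoidHom.comp σ).ker = σ.ker := by
      ext y; simp [MonoidHom.mem_ker]
    have h := Small.SuzukiMult.stem_trivial hF (e.symm.toMonoidHom.comp σ) hm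
      ⟨e.symm.surjective.comp h1, hk ▸ h2, hk ▸ h3⟩
    rw [hk] at h
    exact ⟨1, fun y => ⟨1, Subtype.ext (Subgroup.mem_bot.1 (h ▸ y.2)).symm⟩⟩

end Cfsg.Agent.S2111
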