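import Cfsg.Statements.S0678
import Mathlib
import Cfsg.Agent.Lib.Perm.PrimeDegree
import Cfsg.Agent.Lib.Perm.Primitive

set_option autoImplicit false
set_option linter.style.haveILetI false
open Cfsg

namespace Cfsg.Agent.S0678

open MulAction
open scoped Pointwise

variable {α : Type*} [Fintype α] [DecidableEq α]

/-- In degree 7 a doubly transitive group contains a point stabiliser of index 7, hence 42 divides its order. -/
theorem dvd_of_two_trans (hα : Fintype.card α = 7) (G : Subgroup (Equiv.Perm α))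
    (h2 : IsMultiplyPretransitive G α 2) : 42 ∣ Nat.card G := by
  classical
  haveI : IsPretransitive G α := (isPreprimitive_of_is_two_pretransitive h2).toIsPretransitive
  haveI : Nonempty α := Fintype.card_pos_iff.1 (by omega)
  obtain ⟨a⟩ := ‹Nonempty α›
  obtain ⟨b, hb⟩ := Fintype.exists_ne_of_one_lt_card (by omega : 1 < Fintype.card α) a
  have horb : orbit (stabilizer G a) b = {a}ᶜ := by
    ext c
    constructor
    · rintro ⟨g, rfl⟩ h
      have hga : (g : G) • a = a := g.2
      exact hb (smul_left_cancel (g : G) ((h : (g : G) • b = a).trans hga.symm))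
    · intro hc
      obtain ⟨g, h1, h2'⟩ := is_two_pretransitive_iff.1 h2 hb.symm (fun e : a = c => hc e.symm)
      exact ⟨⟨g, h1⟩, h2'⟩
  have h6 : 6 ∣ Nat.card (stabilizer G a) := by
    have e : (stabilizer (stabilizer G a) b).index = 6 := by
      rw [index_stabilizer, horb, Set.ncard_compl, Nat.card_eq_fintype_card, hα, Set.ncard_singleton]
    rw [← e]; exact Subgroup.index_dvd_card _
  have h := Subgroup.card_mul_index (stabilizer G a)
  rw [index_stabilizer_of_transitive, Nat.card_eq_fintype_card (α := α), hα] at h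
  rw [← h]
  exact Nat.mul_dvd_mul_right h6 7

/-- A nontrivial normal subgroup of a transitive group of degree 7 is transitive. -/
theorem normal_trans (hα : Fintype.card α = 7) (G : Subgroup (Equiv.Perm α)) [IsPretransitive G α]
    (M : Subgroup G) [M.Normal] (hM : M ≠ ⊥) :
    IsPretransitive (M.map G.subtype) α ∧ Nat.card (M.map G.subtype) = Nat.card M ∧ 7 ∣ Nat.card M := by
  haveI : IsPreprimitive G α := IsPreprimitive.of_prime_card (by rw [Nat.card_eq_fintype_card, hα]; norm_num)
  haveI : IsPretransitive M α := Perm.normal_isPretransitive M hM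
  haveI : Nonempty α := Fintype.card_pos_iff.1 (by omega)
  obtain ⟨a⟩ := ‹Nonempty α›
  refine ⟨⟨fun x y => ?_⟩, Subgroup.card_map_of_injective G.subtype_injective, ?_⟩
  · obtain ⟨m, hm⟩ := exists_smul_eq M x y
    exact ⟨⟨_, ⟨(m : G), m.2, rfl⟩⟩, hm⟩
  · rw [← hα, ← Nat.card_eq_fintype_card, ← index_stabilizer_of_transitive M a]
    exact Subgroup.index_dvd_card _

/-- A normal subgroup of order not a multiple of 42 is solvable. -/
theorem solvable_normal (hα : Fintype.card α = 7) (G : Subgroup (Equiv.Perm α)) [IsPretransitive G α]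
    (M : Subgroup G) [M.Normal] (h42 : ¬ 42 ∣ Nat.card M) : Group.IsSolvable M := by
  haveI : Fact (Nat.Prime 7) := ⟨by norm_num⟩
  by_cases hM : M = ⊥
  · subst hM; infer_instance
  obtain ⟨ht, hc, -⟩ := normal_trans hα G M hM
  haveI := ht
  rcases Perm.burnside_prime_degree (p := 7) hα (M.map G.subtype) with h | h
  · haveI := h
    exact Group.isSolvable_of_isSolvable_injective (f := (M.equivMapOfInjective _ G.subtype_injective).toMonoidHom)
      (M.equivMapOfInjective _ G.subtype_injective).injective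
  · exact absurd (hc ▸ dvd_of_two_trans hα _ h) h42

/-- A non-solvable transitive permutation group on 7 points that does not contain the alternating group is a simple group of order 168. -/
theorem result {α : Type*} [Fintype α] [DecidableEq α] (hα : Fintype.card α = 7) (G : Subgroup (Equiv.Perm α)) [MulAction.IsPretransitive G α] (hG : ¬ Group.IsSolvable G) (hA : ¬ alternatingGroup α ≤ G) : Nat.card G = 168 ∧ IsSimpleGroup G := by
  classical
  haveI h7 : Fact (Nat.Prime 7) := ⟨by norm_num⟩
  have h2 := (Perm.burnside_prime_degree (p := 7) hα G).resolve_left hG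
  have h42 := dvd_of_two_trans hα G h2
  haveI hprim : IsPreprimitive G α := isPreprimitive_of_is_two_pretransitive h2
  have hS : Nat.card (Equiv.Perm α) = 5040 := by
    rw [Nat.card_perm, Nat.card_eq_fintype_card, hα]; decide
  have hdvd : Nat.card G ∣ 5040 := hS ▸ Subgroup.card_subgroup_dvd_card G
  have hfull : ∀ (q k : ℕ) [Fact q.Prime], q ^ k ∣ Nat.card G → ¬ q ^ (k + 1) ∣ 5040 →
      ∀ x : Equiv.Perm α, (∃ j, orderOf x = q ^ j) → ∃ y ∈ G, IsConj x y := by
    intro q k _ hk hk' x ⟨j, hj⟩
    obtain ⟨Q, hQ⟩ := Sylow.exists_subgroup_card_pow_prime q hk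
    have hfac : (5040 : ℕ).factorization q = k := le_antisymm
      (by
        by_contra hlt
        exact hk' ((Nat.Prime.pow_dvd_iff_le_factorization Fact.out (by norm_num)).2 (by omega)))
      ((Nat.Prime.pow_dvd_iff_le_factorization Fact.out (by norm_num)).1 (hk.trans hdvd))
    let S : Sylow q (Equiv.Perm α) := Sylow.ofCard (Q.map G.subtype) (by
      rw [Subgroup.card_map_of_injective G.subtype_injective, hQ, hS, hfac])
    obtain ⟨T, hT⟩ := (IsPGroup.of_card (n := j) (by rw [Nat.card_zpowers, hj]) :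
      IsPGroup q (Subgroup.zpowers x)).exists_le_sylow
    obtain ⟨g, hg⟩ := MulAction.exists_smul_eq (Equiv.Perm α) T S
    refine ⟨g * x * g⁻¹, ?_, isConj_iff.2 ⟨g, rfl⟩⟩
    have h1 : g * x * g⁻¹ ∈ (S : Subgroup (Equiv.Perm α)) := by
      rw [← hg, Sylow.smul_def, Sylow.pointwise_smul_def, ← MulAut.conj_apply]
      exact Subgroup.smul_mem_pointwise_smul _ _ _ (hT (Subgroup.mem_zpowers x))
    rw [Sylow.coe_ofCard] at h1
    exact Subgroup.map_subtype_le Q h1
  obtain ⟨a, b, c, hab, hac, hbc⟩ : ∃ a b c : α, a ≠ b ∧ a ≠ c ∧ b ≠ c :=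
    Fintype.two_lt_card_iff.1 (by omega)
  have h16 : ¬ 16 ∣ Nat.card G := fun h => by
    haveI : Fact (Nat.Prime 2) := ⟨Nat.prime_two⟩
    obtain ⟨y, hy, hconj⟩ := hfull 2 4 h (by decide) (Equiv.swap a b)
      ⟨1, by rw [pow_one]; exact orderOf_eq_prime (by rw [pow_two, Equiv.swap_mul_self]) (fun e => hab (by simpa using congrArg (fun f : Equiv.Perm α => f b) e))⟩
    obtain ⟨g, rfl⟩ := isConj_iff.1 hconj
    refine hA ((Equiv.Perm.subgroup_eq_top_of_isPreprimitive_of_isSwap_mem hprim _ ⟨g a, g b, g.injective.ne hab, ?_⟩ hy) ▸ le_top)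
    exact (Equiv.swap_apply_apply g a b).symm
  have h9 : ¬ 9 ∣ Nat.card G := fun h => by
    haveI : Fact (Nat.Prime 3) := ⟨Nat.prime_three⟩
    have ht := Equiv.Perm.isThreeCycle_swap_mul_swap_same hab hac hbc
    obtain ⟨y, hy, hconj⟩ := hfull 3 2 h (by decide) _ ⟨1, by rw [pow_one]; exact ht.orderOf⟩
    obtain ⟨g, rfl⟩ := isConj_iff.1 hconj
    refine hA (Equiv.Perm.alternatingGroup_le_of_isPreprimitive_of_isThreeCycle_mem hprim ?_ hy)
    rw [Equiv.Perm.IsThreeCycle, Equiv.Perm.cycleType_conj]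
    exact ht
  have hsolv : ∀ (M : Subgroup G) [M.Normal], Group.IsSolvable (G ⧸ M) → Group.IsSolvable M → False :=
    fun M _ hq hM => hG (by
      haveI := hq; haveI := hM
      exact Group.isSolvable_of_ker_le_range M.subtype (QuotientGroup.mk' M) (by rw [QuotientGroup.ker_mk', Subgroup.range_subtype]))
  have h84 : ¬ Nat.card G % 4 = 2 := fun h => by
    haveI : Fact (Nat.Prime 2) := ⟨Nat.prime_two⟩
    let T : Sylow 2 G := default
    have hT : Nat.card (T : Subgroup G) = 2 := by
      obtain ⟨k, hk⟩ := IsPGroup.iff_card.1 T.isPGroup'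
      have h1 : 2 ∣ Nat.card (T : Subgroup G) := T.dvd_card_of_dvd_card (by omega)
      have h3 : k < 2 := by
        by_contra hk2
        have : 4 ∣ Nat.card G := dvd_trans (by rw [hk]; exact (pow_dvd_pow 2 (by omega : 2 ≤ k))) (Subgroup.card_subgroup_dvd_card (T : Subgroup G))
        omega
      interval_cases k
      · rw [hk] at h1; norm_num at h1
      · rw [hk, pow_one]
    haveI : IsCyclic T := isCyclic_of_prime_card hT
    have hmin : (Nat.card G).minFac = 2 := (Nat.minFac_eq_two_iff _).mpr (by omega)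
    have hK := IsCyclic.isComplement' (P := T) hmin inferInstance
    set K := (MonoidHom.transferSylow T _).ker
    have hidx : K.index = 2 := hK.symm.index_eq_card.trans hT
    have h1 := Subgroup.card_mul_index K
    rw [hidx] at h1
    refine hsolv K ?_ (solvable_normal hα G K fun h' => ?_)
    · haveI : IsCyclic (G ⧸ K) := isCyclic_of_prime_card (p := 2) (Subgroup.index_eq_card K ▸ hidx)
      haveI := IsCyclic.isMulCommutative (α := G ⧸ K)
      exact Group.isSolvable_of_comm fun x y => mul_comm' x y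
    · obtain ⟨t, ht⟩ := h'
      rw [ht] at h1; omega
  -- a Sylow 7-subgroup
  let P : Sylow 7 G := default
  have hP7 : Nat.card (P : Subgroup G) = 7 := by
    rw [P.card_eq_multiplicity]
    have : (Nat.card G).factorization 7 = 1 := le_antisymm
      (by
        by_contra hlt
        have h49 : 7 ^ 2 ∣ Nat.card G :=
          (Nat.Prime.pow_dvd_iff_le_factorization (by norm_num) Nat.card_pos.ne').2 (by omega)
        exact absurd (h49.trans hdvd) (by decide))
      ((Nat.Prime.pow_dvd_iff_le_factorization (by norm_num) Nat.card_pos.ne').1 (by rw [pow_one]; exact dvd_trans (by norm_num) h42))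
    rw [this, pow_one]
  set N := Subgroup.normalizer ((P : Subgroup G) : Set G) with hN
  have hcentral : Subgroup.centralizer ((P : Subgroup G) : Set G) = (P : Subgroup G) := by
    obtain ⟨σ, hσG, hσ, -, hc⟩ := Perm.exists_cycle_prime_degree (p := 7) hα G
    obtain ⟨Q, hQ⟩ := (IsPGroup.of_card (n := 1) (by rw [Nat.card_zpowers, Subgroup.orderOf_mk, hσ, pow_one]) :
      IsPGroup 7 (Subgroup.zpowers (⟨σ, hσG⟩ : G))).exists_le_sylow
    have hQc : Subgroup.centralizer ((Q : Subgroup G) : Set G) = (Q : Subgroup G) := by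
      have hQz : (Subgroup.zpowers (⟨σ, hσG⟩ : G)) = (Q : Subgroup G) := Subgroup.eq_of_le_of_card_ge hQ (by
        rw [Nat.card_zpowers, Subgroup.orderOf_mk, hσ, Nat.card_congr (Q.equiv P).toEquiv, hP7])
      refine le_antisymm (fun x hx => ?_) ?_
      · rw [← hQz]
        have h1 := Subgroup.mem_centralizer_iff.1 hx _ (hQ (Subgroup.mem_zpowers _))
        obtain ⟨i, hi⟩ := Subgroup.mem_zpowers_iff.1 (hc (x : Equiv.Perm α) (congrArg Subtype.val h1.symm))
        exact Subgroup.mem_zpowers_iff.2 ⟨i, Subtype.ext (by simpa using hi)⟩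
      · rw [← hQz]
        intro x hx
        refine Subgroup.mem_centralizer_iff.2 fun y hy => ?_
        obtain ⟨i, rfl⟩ := Subgroup.mem_zpowers_iff.1 hx
        obtain ⟨j, rfl⟩ := Subgroup.mem_zpowers_iff.1 hy
        exact (Commute.refl _).zpow_zpow j i
    obtain ⟨g, hg⟩ := MulAction.exists_smul_eq G Q P
    rw [← hg, Sylow.smul_def, Sylow.pointwise_smul_def]
    suffices hmain : Subgroup.centralizer (((MulAut.conj g • (Q : Subgroup G)) : Subgroup G) : Set G) =
        MulAut.conj g • Subgroup.centralizer ((Q : Subgroup G) : Set G) from hmain.trans (by rw [hQc])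
    ext x
    rw [Subgroup.mem_pointwise_smul_iff_inv_smul_mem, Subgroup.mem_centralizer_iff, Subgroup.mem_centralizer_iff]
    constructor
    · intro h y hy
      have := congrArg ((MulAut.conj g)⁻¹ • ·) (h (MulAut.conj g • y) (Subgroup.smul_mem_pointwise_smul y _ _ hy))
      simpa only [smul_mul', inv_smul_smul] using this
    · intro h y hy
      rw [SetLike.mem_coe, Subgroup.mem_pointwise_smul_iff_inv_smul_mem] at hy
      have := congrArg (MulAut.conj g • ·) (h _ hy)
      simpa only [smul_mul', smul_inv_smul] using this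
  have hN42 : Nat.card N ∣ 42 := by
    haveI : IsCyclic (P : Subgroup G) := isCyclic_of_prime_card hP7
    have h1 := Subgroup.card_dvd_of_injective _
      (QuotientGroup.kerLift_injective (P : Subgroup G).normalizerMonoidHom)
    rw [IsCyclic.card_mulAut, hP7, Nat.totient_prime (by norm_num)] at h1
    rw [← Subgroup.index, Subgroup.normalizerMonoidHom_ker, hcentral] at h1
    have h3 := Subgroup.index_mul_card ((P : Subgroup G).subgroupOf N)
    rw [Nat.card_congr (Subgroup.subgroupOfEquivOfLe Subgroup.le_normalizer).toEquiv, hP7] at h3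
    rw [← h3]
    exact Nat.mul_dvd_mul_right h1 7
  have hn7 := card_sylow_modEq_one 7 G
  have hnN : Nat.card (Sylow 7 G) * Nat.card N = Nat.card G := by
    rw [P.card_eq_index_normalizer]
    exact Subgroup.index_mul_card N
  have h7N : 7 ∣ Nat.card N := hP7 ▸ Subgroup.card_dvd_of_le Subgroup.le_normalizer
  -- the Sylow number is not one
  have hn1 : Nat.card (Sylow 7 G) ≠ 1 := by
    intro h1
    have hd := hnN ▸ (by rw [h1, one_mul]; exact hN42 : Nat.card (Sylow 7 G) * Nat.card N ∣ 42)
    have e := Nat.dvd_antisymm hd h42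
    rw [e] at h84
    norm_num at h84
  -- the self-normalising case
  have hN7 : Nat.card N ≠ 7 := by
    intro h
    have hle : N ≤ Subgroup.centralizer ((P : Subgroup G) : Set G) := by
      rw [hcentral]
      exact (Subgroup.eq_of_le_of_card_ge Subgroup.le_normalizer (by rw [hP7]; exact h.le)).ge
    have hK := MonoidHom.ker_transferSylow_isComplement' P hle
    set K := (MonoidHom.transferSylow P hle).ker
    have hc := hK.card_mul
    by_cases hKb : K = ⊥
    · rw [hKb, Subgroup.card_bot, one_mul, hP7] at hc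
      rw [← hc] at h42
      norm_num at h42
    obtain ⟨-, -, h7⟩ := normal_trans hα G K hKb
    rw [hP7] at hc
    obtain ⟨t, ht⟩ := h7
    rw [ht] at hc
    have h49 : 7 ^ 2 ∣ Nat.card G := ⟨t, by rw [← hc]; ring⟩
    exact absurd (h49.trans hdvd) (by decide)
  have hcard : Nat.card G = 168 := by
    obtain ⟨u, hu⟩ := h42
    obtain ⟨v, hv⟩ := h7N
    have hu' : u ∣ 120 := by
      have : 42 * u ∣ 42 * 120 := hu ▸ hdvd
      exact Nat.dvd_of_mul_dvd_mul_left (by norm_num) this
    have hv' : v ∣ 6 := by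
      have : 7 * v ∣ 7 * 6 := hv ▸ hN42
      exact Nat.dvd_of_mul_dvd_mul_left (by norm_num) this
    have hne : v ≠ 1 := fun h => hN7 (by rw [hv, h])
    have hu2 : u ∈ Nat.divisors 120 := Nat.mem_divisors.2 ⟨hu', by norm_num⟩
    have hv2 : v ∈ Nat.divisors 6 := Nat.mem_divisors.2 ⟨hv', by norm_num⟩
    rw [Nat.ModEq] at hn7
    rw [hu, hv] at hnN
    rw [hu] at h9 h16 h84 ⊢
    generalize Nat.card (Sylow 7 G) = n at hn7 hn1 hnN
    have key : ∀ u ∈ Nat.divisors 120, ∀ v ∈ Nat.divisors 6, v ≠ 1 → ¬ 9 ∣ 42 * u → ¬ 16 ∣ 42 * u → ¬ 42 * u % 4 = 2 →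
        (6 * u) % v = 0 → (6 * u / v) % 7 = 1 → 6 * u / v ≠ 1 → 42 * u = 168 := by decide
    have hn' : n * v = 6 * u := by linarith
    have hvpos : 0 < v := Nat.pos_of_dvd_of_pos hv' (by norm_num)
    refine key u hu2 v hv2 hne h9 h16 h84 (by rw [← hn']; exact Nat.mul_mod_left n v) ?_ ?_ <;>
      rw [← hn', Nat.mul_div_cancel _ hvpos]
    · exact hn7
    · exact hn1
  refine ⟨hcard, ?_⟩
  haveI : Nontrivial G := by rw [← Finite.one_lt_card_iff_nontrivial, hcard]; norm_num
  refine ⟨fun M hM => ?_⟩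
  by_contra hne
  push Not at hne
  haveI := hM
  have hd : Nat.card M ∣ 168 := hcard ▸ Subgroup.card_subgroup_dvd_card M
  obtain ⟨-, -, h7M⟩ := normal_trans hα G M hne.1
  obtain ⟨Q, hQ⟩ := Sylow.exists_subgroup_card_pow_prime 7 (G := M) (n := 1) (by rwa [pow_one])
  -- all Sylow 7-subgroups lie in M
  have hall : ∀ R : Sylow 7 G, (R : Subgroup G) ≤ M := by
    intro R
    have hQ' : IsPGroup 7 (Q.map M.subtype) := IsPGroup.of_card (n := 1) (by rw [Subgroup.card_map_of_injective M.subtype_injective, hQ])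
    obtain ⟨S, hS⟩ := hQ'.exists_le_sylow
    have hSe : (Q.map M.subtype) = (S : Subgroup G) := Subgroup.eq_of_le_of_card_ge hS (by
      rw [Subgroup.card_map_of_injective M.subtype_injective, hQ, Nat.card_congr (S.equiv P).toEquiv, hP7, pow_one])
    obtain ⟨g, rfl⟩ := MulAction.exists_smul_eq G S R
    rw [Sylow.smul_def, Sylow.pointwise_smul_def, ← hSe]
    exact (Subgroup.pointwise_smul_le_pointwise_smul_iff.2 (Subgroup.map_subtype_le Q)).trans
      (Subgroup.Normal.conj_smul_eq_self g M).le
  have hn : Nat.card (Sylow 7 M) = Nat.card (Sylow 7 G) :=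
    Nat.card_congr (Equiv.ofBijective (fun R : Sylow 7 G => R.subtype (hall R))
      ⟨fun A B h => Sylow.subtype_injective h, fun R => by
        obtain ⟨S, hS⟩ := R.exists_comap_subtype_eq
        exact ⟨S, Sylow.ext hS⟩⟩) |>.symm
  have hM168 : Nat.card M ≠ 168 := fun h => hne.2 (Subgroup.eq_top_of_card_eq M (h.trans hcard.symm))
  let R : Sylow 7 M := default
  have hR1 := R.card_dvd_index
  have hR2 : Nat.card (R : Subgroup M) = 7 := by
    obtain ⟨S, hS⟩ := R.exists_comap_subtype_eq
    have : (R : Subgroup M) = (S : Subgroup G).subgroupOf M := hS.symm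
    rw [this, Nat.card_congr (Subgroup.subgroupOfEquivOfLe (hall S)).toEquiv, Nat.card_congr (S.equiv P).toEquiv, hP7]
  have hidx := Subgroup.index_mul_card (R : Subgroup M)
  rw [hR2] at hidx
  rw [hn] at hR1
  have h42M : ¬ 42 ∣ Nat.card M := by
    intro h
    rw [Nat.ModEq] at hn7
    have hsmall : (R : Subgroup M).index ∈ Nat.divisors 24 := Nat.mem_divisors.2
      ⟨Nat.dvd_of_mul_dvd_mul_right (by norm_num : 0 < 7) (hidx ▸ hd), by norm_num⟩
    have hnm : Nat.card (Sylow 7 G) ∈ Nat.divisors (R : Subgroup M).index :=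
      Nat.mem_divisors.2 ⟨hR1, Subgroup.index_ne_zero_of_finite⟩
    have key : ∀ i ∈ Nat.divisors 24, ∀ n ∈ Nat.divisors i, 42 ∣ i * 7 → i * 7 ≠ 168 → n % 7 = 1 → n = 1 := by decide
    exact hn1 (key _ hsmall _ hnm (hidx.symm ▸ h) (hidx.symm ▸ hM168) hn7)
  -- then G would be solvable
  refine hsolv M ?_ (solvable_normal hα G M h42M)
  have h56 : 56 ∣ Nat.card M := by
    rw [Nat.ModEq] at hn7
    have h8 : 8 ∣ (R : Subgroup M).index := by
      have hnd : Nat.card (Sylow 7 G) ∈ Nat.divisors 24 := Nat.mem_divisors.2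
        ⟨dvd_trans hR1 (Nat.dvd_of_mul_dvd_mul_right (by norm_num : 0 < 7) (hidx ▸ hd)), by norm_num⟩
      have key : ∀ n ∈ Nat.divisors 24, n % 7 = 1 → n ≠ 1 → 8 ∣ n := by decide
      exact (key _ hnd hn7 hn1).trans hR1
    rw [← hidx]
    exact Nat.mul_dvd_mul_right h8 7
  have hq : Nat.card (G ⧸ M) ∣ 3 := by
    obtain ⟨t, ht⟩ := h56
    have h1 := Subgroup.card_eq_card_quotient_mul_card_subgroup M
    rw [ht, hcard] at h1
    exact ⟨t, by linarith⟩
  haveI : IsCyclic (G ⧸ M) := by
    haveI : Fact (Nat.Prime 3) := ⟨Nat.prime_three⟩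
    exact isCyclic_of_card_dvd_prime hq
  haveI := IsCyclic.isMulCommutative (α := G ⧸ M)
  exact Group.isSolvable_of_comm fun x y => mul_comm' x y

end Cfsg.Agent.S0678
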