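import Cfsg.Statements.S0713
import Cfsg.Agent.Lib.Perm.Basic
import Mathlib.GroupTheory.GroupAction.Jordan
import Mathlib.GroupTheory.Sylow

set_option autoImplicit false
open Cfsg

namespace Cfsg.Agent.S0713

/-- Jordan's Theorem: a primitive permutation group of degree `n ≥ 5` containing a `p`-cycle for a prime `p ≤ n - 3` contains the alternating group. -/
theorem result {α : Type*} [Fintype α] [DecidableEq α] (G : Subgroup (Equiv.Perm α)) (hG : MulAction.IsPreprimitive G α) {p : ℕ} (hp : p.Prime) (hn : 5 ≤ Fintype.card α) (hpn : p + 3 ≤ Fintype.card α) {g : Equiv.Perm α} (hgc : g.IsCycle) (hgp : g.support.card = p) (hg : g ∈ G) : alternatingGroup α ≤ G := by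
  classical
  haveI := Fact.mk hp
  set s : Set α := ((g.support : Set α))ᶜ with hsdef
  have hscard : s.ncard = Fintype.card α - p := by
    rw [hsdef, Set.ncard_compl, Set.ncard_coe_finset, hgp, Nat.card_eq_fintype_card]
  have hmems : ∀ x, x ∈ s ↔ g x = x := fun x => by simp [hsdef]
  have hgs : (⟨g, hg⟩ : G) ∈ fixingSubgroup G s :=
    (mem_fixingSubgroup_iff G).2 fun x hx => (hmems x).1 hx
  have hnot : ∀ x : SubMulAction.ofFixingSubgroup G s, g (x : α) ≠ x := fun x =>
    fun e => (SubMulAction.mem_ofFixingSubgroup_iff G).1 x.2 ((hmems _).2 e)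
  have hcard : Nat.card (SubMulAction.ofFixingSubgroup G s) = p := by
    have h1 : Nat.card (SubMulAction.ofFixingSubgroup G s) = (sᶜ : Set α).ncard := rfl
    rw [h1, hsdef, compl_compl, Set.ncard_coe_finset, hgp]
  have htr : MulAction.IsPretransitive (fixingSubgroup G s) (SubMulAction.ofFixingSubgroup G s) :=
    ⟨fun x y => by
      obtain ⟨i, -, hi⟩ := (hgc.sameCycle (hnot x) (hnot y)).exists_pow_eq'
      exact ⟨⟨⟨g, hg⟩, hgs⟩ ^ i, Subtype.ext hi⟩⟩
  have hprim : MulAction.IsPreprimitive (fixingSubgroup G s) (SubMulAction.ofFixingSubgroup G s) :=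
    MulAction.IsPreprimitive.of_prime_card (hcard ▸ hp)
  obtain ⟨j, hj⟩ : ∃ j, s.ncard = j + 1 := ⟨s.ncard - 1, by omega⟩
  have hmp := (MulAction.IsPreprimitive.isMultiplyPreprimitive hG hj
    (by rw [Nat.card_eq_fintype_card]; have := hp.two_le; omega) hprim).isMultiplyPretransitive
  haveI hks : MulAction.IsMultiplyPretransitive G α (j + 1) := by
    haveI := hmp
    exact MulAction.isMultiplyPretransitive_of_le (n := j + 2) (by omega)
      (by rw [Nat.card_eq_fintype_card]; have := hp.two_le; omega)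
  let F : Subgroup G := fixingSubgroup G s
  have hF : Nat.card F ∣ p.factorial := by
    let f : F →* Equiv.Perm (SubMulAction.ofFixingSubgroup G s) := MulAction.toPermHom _ _
    have hf : Function.Injective f := fun u v e => by
      refine Subtype.ext (Subtype.ext (Equiv.ext fun x => ?_))
      by_cases hx : x ∈ s
      · exact ((mem_fixingSubgroup_iff G).1 u.2 x hx).trans
          ((mem_fixingSubgroup_iff G).1 v.2 x hx).symm
      · exact congrArg Subtype.val (Equiv.congr_fun e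
          ⟨x, (SubMulAction.mem_ofFixingSubgroup_iff G).2 hx⟩)
    have h1 := Subgroup.card_dvd_of_injective f hf
    rwa [Nat.card_perm, hcard] at h1
  have horder : ∀ u : F, ((u : G) : Equiv.Perm α).IsCycle →
      ((u : G) : Equiv.Perm α).support.card = p → Nat.card (Subgroup.zpowers u) = p := by
    intro u hc hu
    rw [Nat.card_zpowers, ← Subgroup.orderOf_coe, ← Subgroup.orderOf_coe, hc.orderOf, hu]
  have hsyl : ∀ H : Subgroup F, Nat.card H = p → ∃ P : Sylow p F, (P : Subgroup F) = H := by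
    intro H hH
    obtain ⟨P, hP⟩ := (IsPGroup.of_card (p := p) (n := 1) (by rw [hH, pow_one])).exists_le_sylow
    refine ⟨P, (Subgroup.eq_of_le_of_card_ge hP ?_).symm⟩
    rw [hH, P.card_eq_multiplicity]
    have h1 : (Nat.card F).factorization p ≤ 1 := by
      have h2 := (Nat.factorization_le_iff_dvd Nat.card_pos.ne' (Nat.factorial_ne_zero p)).2 hF p
      rw [← Nat.mul_factorial_pred hp.ne_zero,
        Nat.factorization_mul hp.ne_zero (Nat.factorial_ne_zero _), Finsupp.add_apply,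
        hp.factorization_self, Nat.factorization_eq_zero_of_not_dvd (n := (p - 1).factorial) (fun hd => by
          have := hp.dvd_factorial.1 hd
          have := hp.two_le
          omega), add_zero] at h2
      exact h2
    calc p ^ (Nat.card F).factorization p ≤ p ^ 1 := Nat.pow_le_pow_right hp.pos h1
      _ = p := pow_one p
  have key : ∀ σ : Equiv.Perm α, (∀ x, σ x ∈ s ↔ x ∈ s) →
      ∃ u ∈ G, (∀ x ∈ s, u x = σ x) ∧ u * g * u⁻¹ ∈ Subgroup.zpowers g := by
    intro σ hσ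
    haveI := Fintype.ofFinite s
    let e : Fin (j + 1) ≃ s := (Fintype.equivFinOfCardEq (by
      rw [← Nat.card_eq_fintype_card, Nat.card_coe_set_eq, hj])).symm
    let e₁ : Fin (j + 1) ↪ α := e.toEmbedding.trans (Function.Embedding.subtype _)
    let e₂ : Fin (j + 1) ↪ α := e₁.trans σ.toEmbedding
    obtain ⟨w, hw⟩ := MulAction.exists_smul_eq G e₁ e₂
    have hwσ : ∀ x ∈ s, (w : Equiv.Perm α) x = σ x := fun x hx => by
      have := congrArg (fun f : Fin (j + 1) ↪ α => f (e.symm ⟨x, hx⟩)) hw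
      simp only [e₁, e₂, Function.Embedding.trans_apply, Equiv.coe_toEmbedding,
        Function.Embedding.smul_apply, Equiv.apply_symm_apply, Function.Embedding.coe_subtype] at this
      exact this
    set g' : Equiv.Perm α := (w : Equiv.Perm α) * g * (w : Equiv.Perm α)⁻¹
    have hg' : (⟨g', mul_mem (mul_mem w.2 hg) (inv_mem w.2)⟩ : G) ∈ F := by
      refine (mem_fixingSubgroup_iff G).2 fun x hx => ?_
      have hx' : σ⁻¹ x ∈ s := by rw [← hσ]; simpa using hx
      have h1 : (w : Equiv.Perm α)⁻¹ x = σ⁻¹ x := by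
        rw [Equiv.Perm.inv_eq_iff_eq, hwσ _ hx']
        simp
      show g' x = x
      simp only [g', Equiv.Perm.mul_apply, h1, (hmems _).1 hx', hwσ _ hx']
      simp
    obtain ⟨P, hP⟩ := hsyl _ (horder ⟨⟨g, hg⟩, hgs⟩ hgc hgp)
    obtain ⟨Q, hQ⟩ := hsyl _ (horder ⟨_, hg'⟩ hgc.conj
      (by rw [Equiv.Perm.card_support_conj, hgp]))
    obtain ⟨f, hf⟩ := MulAction.exists_smul_eq F Q P
    have hmem : f * ⟨_, hg'⟩ * f⁻¹ ∈ (P : Subgroup F) := by
      rw [← hf, Sylow.coe_subgroup_smul]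
      exact ⟨⟨_, hg'⟩, hQ ▸ Subgroup.mem_zpowers _, rfl⟩
    rw [hP] at hmem
    obtain ⟨i, hi⟩ := hmem
    refine ⟨((f : G) : Equiv.Perm α) * (w : Equiv.Perm α), mul_mem (f : G).2 w.2,
      fun x hx => ?_, ⟨i, ?_⟩⟩
    · rw [Equiv.Perm.mul_apply, hwσ x hx]
      exact (mem_fixingSubgroup_iff G).1 f.2 _ ((hσ x).2 hx)
    · have hi' := congrArg (fun z : F => ((z : G) : Equiv.Perm α)) hi
      simp only [Subgroup.coe_zpow, Subgroup.coe_mul, Subgroup.coe_inv] at hi'
      show g ^ i = _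
      rw [hi', mul_inv_rev]
      simp only [g']
      group
  obtain ⟨a, b, c, ha, hb, hc, hab, hac, hbc⟩ : ∃ a b c, a ∈ s ∧ b ∈ s ∧ c ∈ s ∧
      a ≠ b ∧ a ≠ c ∧ b ≠ c := by
    have h2 : 2 < g.supportᶜ.card := by rw [Finset.card_compl, hgp]; omega
    obtain ⟨a, b, c, ha, hb, hc, h1, h2, h3⟩ := Finset.two_lt_card_iff.1 h2
    exact ⟨a, b, c, by simpa [hsdef] using ha, by simpa [hsdef] using hb,
      by simpa [hsdef] using hc, h1, h2, h3⟩
  have hswap : ∀ x y, x ∈ s → y ∈ s → ∀ z, Equiv.swap x y z ∈ s ↔ z ∈ s := fun x y hx hy z => by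
    by_cases hzx : z = x
    · subst hzx; simp [hx, hy]
    by_cases hzy : z = y
    · subst hzy; simp [hx, hy]
    rw [Equiv.swap_apply_of_ne_of_ne hzx hzy]
  obtain ⟨x₁, hx₁, hx₁s, i₁, hi₁⟩ := key (Equiv.swap a b) (hswap a b ha hb)
  obtain ⟨x₂, hx₂, hx₂s, i₂, hi₂⟩ := key (Equiv.swap b c) (hswap b c hb hc)
  have e12 : (x₁ * x₂) * g * (x₁ * x₂)⁻¹ = (x₂ * x₁) * g * (x₂ * x₁)⁻¹ := by
    have c1 : (x₁ * x₂) * g * (x₁ * x₂)⁻¹ = x₁ * (x₂ * g * x₂⁻¹) * x₁⁻¹ := by group
    have c2 : (x₂ * x₁) * g * (x₂ * x₁)⁻¹ = x₂ * (x₁ * g * x₁⁻¹) * x₂⁻¹ := by group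
    simp only at hi₁ hi₂
    rw [c1, c2, ← hi₂, ← hi₁, ← conj_zpow, ← conj_zpow, ← hi₁, ← hi₂, ← zpow_mul, ← zpow_mul,
      mul_comm]
  set x : Equiv.Perm α := (x₂ * x₁)⁻¹ * (x₁ * x₂)
  have hxG : x ∈ G := mul_mem (inv_mem (mul_mem hx₂ hx₁)) (mul_mem hx₁ hx₂)
  have hcomm : Commute x g := by
    show x * g = g * x
    rw [← mul_inv_eq_iff_eq_mul]
    calc x * g * x⁻¹ = (x₂ * x₁)⁻¹ * ((x₁ * x₂) * g * (x₁ * x₂)⁻¹) * (x₂ * x₁) := by
          simp only [x]; group
      _ = g := by rw [e12]; group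
  set τ : Equiv.Perm α :=
    (Equiv.swap b c * Equiv.swap a b)⁻¹ * (Equiv.swap a b * Equiv.swap b c)
  have hxs : ∀ z ∈ s, x z = τ z := fun z hz => by
    have h1 : (Equiv.swap b c) z ∈ s := (hswap b c hb hc z).2 hz
    have h2 : (Equiv.swap a b) (Equiv.swap b c z) ∈ s := (hswap a b ha hb _).2 h1
    simp only [x, τ, Equiv.Perm.mul_apply, hx₂s z hz, hx₁s _ h1, Equiv.Perm.inv_eq_iff_eq]
    set w := (Equiv.swap b c * Equiv.swap a b)⁻¹ ((Equiv.swap a b) (Equiv.swap b c z))
    have h3 : w ∈ s := by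
      simp only [w, mul_inv_rev, Equiv.swap_inv, Equiv.Perm.mul_apply]
      exact (hswap a b ha hb _).2 ((hswap b c hb hc _).2 h2)
    rw [hx₁s w h3, hx₂s _ ((hswap a b ha hb w).2 h3)]
    exact ((Equiv.swap b c * Equiv.swap a b).apply_symm_apply _).symm
  have hτ0 : ∀ z, z ∉ s → τ z = z := fun z hz => by
    have : z ≠ a ∧ z ≠ b ∧ z ≠ c :=
      ⟨fun e => hz (e ▸ ha), fun e => hz (e ▸ hb), fun e => hz (e ▸ hc)⟩
    simp [τ, Equiv.swap_apply_of_ne_of_ne, this.1, this.2.1, this.2.2]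
  obtain ⟨z₀, hz₀⟩ : g.support.Nonempty := Finset.card_pos.1 (by rw [hgp]; exact hp.pos)
  have hx0 : g (x z₀) ≠ x z₀ := by
    intro e
    have h1 := congrArg (fun q : Equiv.Perm α => q z₀) hcomm.eq
    simp only [Equiv.Perm.mul_apply] at h1
    rw [e] at h1
    exact Equiv.Perm.mem_support.1 hz₀ (x.injective h1)
  obtain ⟨i, -, hi⟩ := (hgc.sameCycle (Equiv.Perm.mem_support.1 hz₀) hx0).exists_pow_eq'
  have hτG : τ ∈ G := by
    have he : τ = (g ^ i)⁻¹ * x := by
      ext z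
      show τ z = (g ^ i)⁻¹ (x z)
      rw [eq_comm, Equiv.Perm.inv_eq_iff_eq]
      by_cases hz : z ∈ s
      · rw [hxs z hz]
        have : g (τ z) = τ z := by
          refine (hmems _).1 ?_
          simp only [τ, mul_inv_rev, Equiv.swap_inv, Equiv.Perm.mul_apply]
          exact (hswap a b ha hb _).2 ((hswap b c hb hc _).2 ((hswap a b ha hb _).2
            ((hswap b c hb hc _).2 hz)))
        exact (Equiv.Perm.pow_apply_eq_self_of_apply_eq_self this i).symm
      · rw [hτ0 z hz]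
        have hz' : g z ≠ z := fun e => hz ((hmems z).2 e)
        obtain ⟨k, -, hk⟩ := (hgc.sameCycle (Equiv.Perm.mem_support.1 hz₀) hz').exists_pow_eq'
        rw [← hk]
        have h2 := congrArg (fun q : Equiv.Perm α => q z₀) (hcomm.pow_right k).eq
        simp only [Equiv.Perm.mul_apply] at h2
        rw [h2, ← hi, ← Equiv.Perm.mul_apply, ← Equiv.Perm.mul_apply, ← pow_add, ← pow_add, add_comm]
    rw [he]
    exact mul_mem (inv_mem (pow_mem hg i)) hxG
  haveI := hG
  refine Equiv.Perm.alternatingGroup_le_of_isPreprimitive_of_isThreeCycle_mem inferInstance ?_ hτG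
  have hstd : Equiv.Perm.IsThreeCycle (Equiv.swap a b * Equiv.swap a c) :=
    Equiv.Perm.isThreeCycle_swap_mul_swap_same hab hac hbc
  convert hstd using 1
  ext z
  simp only [τ, mul_inv_rev, Equiv.swap_inv, Equiv.Perm.mul_apply]
  by_cases h1 : z = a
  · subst h1; simp [Equiv.swap_apply_of_ne_of_ne, hab, hac, hbc, hab.symm, hac.symm, hbc.symm]
  by_cases h2 : z = b
  · subst h2; simp [Equiv.swap_apply_of_ne_of_ne, hab, hac, hbc, hab.symm, hac.symm, hbc.symm]
  by_cases h3 : z = c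
  · subst h3; simp [Equiv.swap_apply_of_ne_of_ne, hab, hac, hbc, hab.symm, hac.symm, hbc.symm]
  simp [Equiv.swap_apply_of_ne_of_ne, h1, h2, h3]

end Cfsg.Agent.S0713
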