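import Cfsg.Statements.S0256
import Cfsg.Agent.Lib.Classical.KleinPSL
import Cfsg.Agent.Lib.Classical.OrthSymmetric

set_option autoImplicit false
open Cfsg

namespace Cfsg.Agent.S0256

/-- PSL_4(2) is isomorphic to A_8. -/
theorem result {F : Type*} [Field F] [Fintype F] (hF : Fintype.card F = 2) : Nonempty (Matrix.ProjectiveSpecialLinearGroup (Fin 4) F ≃* alternatingGroup (Fin 8)) := by
  haveI : Fact (Nat.Prime 2) := ⟨Nat.prime_two⟩
  let e : F ≃+* ZMod 2 := (ZMod.ringEquivOfPrime F Nat.prime_two hF).symm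
  obtain ⟨e8⟩ := Cfsg.Agent.Classical.OSymm.equiv_eight
  let E : ↥(isometryGroup F (quadFormPlus 3 F)) ≃* Equiv.Perm (Fin 8) :=
    (Cfsg.Agent.Classical.OSymm.fieldEquiv e (quadFormPlus 3 F) (quadFormPlus 3 (ZMod 2)) (fun x => by
      simp [Cfsg.quadFormPlus, map_sum])).trans e8
  have hmap : (Omega F (quadFormPlus 3 F)).map E.toMonoidHom = alternatingGroup (Fin 8) := by
    rw [Cfsg.Agent.Classical.OOmega.map_commutator_equiv E]
    exact alternatingGroup.commutator_perm_eq (by simp)
  let E' : ↥(Omega F (quadFormPlus 3 F)) ≃* ↥(alternatingGroup (Fin 8)) :=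
    ((Omega F (quadFormPlus 3 F)).equivMapOfInjective E.toMonoidHom E.injective).trans (MulEquiv.subgroupCongr hmap)
  have hc : Subgroup.center ↥(Omega F (quadFormPlus 3 F)) = ⊥ := by
    rw [Subgroup.eq_bot_iff_forall]
    intro x hx
    have h1 : E' x ∈ Subgroup.center ↥(alternatingGroup (Fin 8)) :=
      (Subgroup.centerCongr E' ⟨x, hx⟩).2
    rw [alternatingGroup.center_eq_bot (by simp), Subgroup.mem_bot] at h1
    exact E'.injective (h1.trans (map_one E').symm)
  obtain ⟨k⟩ := Cfsg.Agent.Classical.Klein.pOmega_six (F := F)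
  exact ⟨k.symm.trans (((QuotientGroup.quotientMulEquivOfEq hc).trans QuotientGroup.quotientBot).trans E')⟩

end Cfsg.Agent.S0256
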