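import Cfsg.Statements.S0165
import Cfsg.Agent.Lib.Char.Height
import Cfsg.Agent.Lib.Char.Burnside
import Cfsg.Agent.Lib.Char.LocalRing

set_option autoImplicit false
open Cfsg
open scoped ComplexConjugate

namespace Cfsg.Agent.S0165

/-- If p ^ n is the exact power of the prime p dividing the order of a finite group and p ^ n divides the degree of an irreducible complex representation, then its character vanishes at every element of order divisible by p. -/
theorem result {G : Type*} [Group G] [Finite G] {V : Type*} [AddCommGroup V] [Module ℂ V] [FiniteDimensional ℂ V] (ρ : Representation ℂ G V) [ρ.IsIrreducible] (p n : ℕ) (hp : p.Prime) (hn : p ^ n ∣ Nat.card G) (hn' : ¬ p ^ (n + 1) ∣ Nat.card G) (hdeg : p ^ n ∣ Module.finrank ℂ V) (x : G) (hx : p ∣ orderOf x) : ρ.character x = 0 := by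
  classical
  haveI := Fintype.ofFinite G
  haveI : Fact p.Prime := ⟨hp⟩
  obtain ⟨M, hM⟩ := Cfsg.Agent.Char.exists_pModular hp
  set χ : Cfsg.IrrCharacter G := ⟨ρ.character, Cfsg.Agent.Char.isIrrCharacter_character ρ inferInstance⟩
    with hχ
  have hfact : (Nat.card G).factorization p = n := by
    refine le_antisymm ?_ ((hp.pow_dvd_iff_le_factorization Nat.card_pos.ne').1 hn)
    by_contra h
    exact hn' ((hp.pow_dvd_iff_le_factorization Nat.card_pos.ne').2 (by omega))
  have hd : Cfsg.Agent.Char.deg (χ : G → ℂ) = Module.finrank ℂ V := Cfsg.Agent.Char.deg_character ρ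
  have hexp : Cfsg.Agent.Char.dexp p (χ : G → ℂ) = (Nat.card G).factorization p := by
    refine le_antisymm (Cfsg.Agent.Char.dexp_le χ.2) ?_
    rw [hfact, Cfsg.Agent.Char.dexp, hd]
    refine (hp.pow_dvd_iff_le_factorization ?_).1 hdeg
    rw [← hd]; exact (Cfsg.Agent.Char.deg_pos χ.2).ne'
  have hB := (Cfsg.Agent.Char.singleton_iff_dexp hM χ).2 hexp
  have h := Cfsg.Agent.Char.sum_block_einner hM χ
  rw [hB] at h
  simp only [Set.mem_singleton_iff, Finset.filter_eq', Finset.mem_univ, if_true,
    Finset.sum_singleton] at h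
  have h1 := congrFun h 1
  simp only [Pi.mul_apply, Pi.smul_apply, smul_eq_mul,
    Cfsg.Agent.Char.regInd_of_reg (x := (1 : G)) (p := p) (by simp [hp.ne_one]), mul_one] at h1
  have hc : Cfsg.Agent.Char.einner p (χ : G → ℂ) (χ : G → ℂ) = 1 :=
    mul_right_cancel₀ (Cfsg.Agent.Char.irr_one_ne_zero χ.2) (h1.symm.trans (one_mul _).symm)
  have h2 := congrFun h x
  simp only [Pi.mul_apply, Pi.smul_apply, smul_eq_mul, Cfsg.Agent.Char.regInd_of_sing hx, mul_zero,
    hc, one_mul] at h2
  exact h2.symm

end Cfsg.Agent.S0165
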