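import Cfsg.Statements.S4687
import Cfsg.Agent.Lib.Char.BlockNilpotent

set_option autoImplicit false
open Cfsg
open scoped ComplexConjugate

namespace Cfsg.Agent.S4687

/-- Fix a prime p and a maximal ideal M of the algebraic integers containing p, and a p-block B of the finite group G with maximal Brauer pair (P, e), P abelian. Then B is nilpotent if and only if its inertial quotient is trivial: every element of N_G(P) stabilizing e centralizes P. -/
theorem result {G : Type*} [Group G] [Fintype G] (p : ℕ) [Fact p.Prime] (M : Ideal Cfsg.AlgInt) (hM : Cfsg.IsPModular p M) (B : Set (Cfsg.IrrCharacter G)) (P : Subgroup G) (e : Set (Cfsg.IrrCharacter (Subgroup.centralizer (P : Set G)))) (hmax : Cfsg.IsMaximalBrauerPair p M B P e) (hab : ∀ x ∈ P, ∀ y ∈ P, x * y = y * x) : Cfsg.IsNilpotentBlock p M B ↔ ∀ x : G, x ∈ Subgroup.normalizer (P : Set G) → Cfsg.StabilizesBlock (Subgroup.centralizer (P : Set G)) e x → x ∈ Subgroup.centralizer (P : Set G) := by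
  classical
  have hMp := Char.pmod_prime hM
  have hPe := hmax.1.1
  have hF := Char.blockFusion_isOn hM hmax
  constructor
  · intro hnil x hx hst
    have hfix : Char.conjIdx x (⟨P, e⟩ : BrauerPairIdx G) = ⟨P, e⟩ :=
      (Char.conjIdx_eq_self_iff hMp hPe.2 x).mpr ⟨hx, hst⟩
    obtain ⟨s, hs, h⟩ := Char.maps_inner_of_nilpotent hM hmax hnil _ P e rfl Relation.ReflTransGen.refl x
      (by rw [hfix])
    intro u hu
    have h1 := h u hu
    rw [show s * u * s⁻¹ = u by rw [hab s hs u hu]; group] at h1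
    calc u * x = x * u * x⁻¹ * x := by rw [h1]
      _ = x * u := by group
  · intro h
    refine Char.nilpotent_of_inner hM hF (fun Q => Char.mem_inner_of
      (fun hφ => ((hF.2 _ _).mp hφ).1) (fun R φ hφ => ?_) Q)
    obtain ⟨-, g, hg, -, f, hf, hgf⟩ := (hF.2 R φ).mp hφ
    obtain ⟨c, hc, hfix⟩ := Char.abelian_conj_fix hM hmax hab hf hgf
    have hk := (Char.conjIdx_eq_self_iff hMp hPe.2 _).mp hfix
    have hkC := h _ hk.1 hk.2
    refine ⟨1, one_mem _, fun u => ?_⟩
    have h1 := hkC u ((Char.subpair_le hf) u.2)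
    have h2 : g * (u : G) * g⁻¹ * c = c * (g * (u : G) * g⁻¹) := hc _ ⟨u, u.2, rfl⟩
    rw [hg u, one_mul, inv_one, mul_one]
    calc g * (u : G) * g⁻¹ = c⁻¹ * (c * (g * (u : G) * g⁻¹)) := by group
      _ = c⁻¹ * (g * (u : G) * g⁻¹ * c) := by rw [h2]
      _ = g * u * g⁻¹ := by rw [h2]; group
      _ = (c * g) * u * (c * g)⁻¹ := by
          rw [show (c * g) * (u : G) * (c * g)⁻¹ = c * (g * u * g⁻¹) * c⁻¹ by group, ← h2]; group
      _ = u := by rw [← h1]; group

end Cfsg.Agent.S4687
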