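import Cfsg.Statements.S4503
import Cfsg.Agent.Lib.Char.SmallDegreeFirstPower

set_option autoImplicit false
open Cfsg
open Cfsg Cfsg.Agent

namespace Cfsg.Agent.S4503

/-- Let G be a finite group whose order is divisible by the prime p exactly once and which has no normal subgroup of order p. Then every faithful character χ of G has degree at least (p − 1)/2: 2·χ(1) + 1 ≥ p. -/
theorem result {G : Type*} [Group G] [Finite G] (p : ℕ) (hp : p.Prime) (hdiv : p ∣ Nat.card G) (hsq : ¬ p ^ 2 ∣ Nat.card G) (hnn : ∀ H : Subgroup G, H.Normal → Nat.card H ≠ p) (χ : G → ℂ) (hχ : Cfsg.IsCharacter G χ) (hfaith : ∀ g : G, χ g = χ 1 → g = 1) : p ≤ 2 * Cfsg.charDegree χ + 1 := by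
  classical
  haveI := Fintype.ofFinite G
  haveI := Fact.mk hp
  obtain ⟨n, ρ, rfl⟩ := hχ
  by_contra hlt
  push Not at hlt
  have h1 : (ρ.character 1) = (n : ℂ) := Char.SmallSylow.char_one_nat ρ
  have hd : charDegree ρ.character = n := by
    rw [charDegree, h1, Complex.natCast_re, Nat.floor_natCast]
  rw [hd] at hlt
  have hρ : Function.Injective ρ := by
    intro a b hab
    refine inv_mul_eq_one.mp (hfaith _ ?_)
    show LinearMap.trace ℂ _ (ρ (a⁻¹ * b)) = LinearMap.trace ℂ _ (ρ 1)
    rw [map_mul, ← hab, ← map_mul, inv_mul_cancel]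
  obtain ⟨P⟩ : Nonempty (Sylow p G) := inferInstance
  refine hnn (P : Subgroup G) (Char.SmallBound.normal_sylow_first_power hlt _ G ρ rfl hρ hsq P) ?_
  have hfac : (Nat.card G).factorization p = 1 := by
    have h2 := (hp.dvd_iff_one_le_factorization Nat.card_pos.ne').mp hdiv
    have h3 : ¬ 2 ≤ (Nat.card G).factorization p := fun h =>
      hsq ((hp.pow_dvd_iff_le_factorization Nat.card_pos.ne').mpr h)
    omega
  rw [P.card_eq_multiplicity, hfac, pow_one]

end Cfsg.Agent.S4503
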