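import Cfsg.Statements.S1213
import Cfsg.Agent.Lib.Fusion.WreathedCases
import Cfsg.Agent.Lib.Fusion.QuasiDihedralCases

set_option autoImplicit false
open Cfsg
open Cfsg.Agent.Fusion
open scoped commutatorElement

namespace Cfsg.Agent.S1213

variable {G : Type*} [Group G] [Finite G]

theorem qd_transport {H : Type*} [Group H] {K : Type*} [Group K] {n : ℕ} (e : H ≃* K)
    (D : QDData H n) : ∃ D' : QDData K n, D'.x = e D.x ∧ D'.y = e D.y :=
  ⟨{ x := e D.x
     y := e D.y
     hn := D.hn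
     hcard := by rw [← Nat.card_congr e.toEquiv, D.hcard]
     ox := by rw [MulEquiv.orderOf_eq, D.ox]
     oy := by rw [MulEquiv.orderOf_eq, D.oy]
     rel := by simp [← map_mul, ← map_inv, ← map_pow, D.rel] }, rfl, rfl⟩

theorem wr_transport {H : Type*} [Group H] {K : Type*} [Group K] {n : ℕ} (e : H ≃* K)
    (D : WRData H n) : ∃ D' : WRData K n, D'.x = e D.x ∧ D'.y = e D.y ∧ D'.t = e D.t :=
  ⟨{ x := e D.x
     y := e D.y
     t := e D.t
     hn := D.hn
     hcard := by rw [← Nat.card_congr e.toEquiv, D.hcard]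
     ox := by rw [MulEquiv.orderOf_eq, D.ox]
     comm := by rw [← map_mul, D.comm, map_mul]
     disj := by
       rw [show Subgroup.zpowers (e D.x) = (Subgroup.zpowers D.x).map e.toMonoidHom from
           (MonoidHom.map_zpowers e.toMonoidHom D.x).symm,
         show Subgroup.zpowers (e D.y) = (Subgroup.zpowers D.y).map e.toMonoidHom from
           (MonoidHom.map_zpowers e.toMonoidHom D.y).symm,
         ← Subgroup.map_inf _ _ _ e.injective, D.disj, Subgroup.map_bot]
     ot := by rw [MulEquiv.orderOf_eq, D.ot]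
     rel := by rw [← map_inv, ← map_mul, ← map_mul, D.rel] }, rfl, rfl, rfl⟩

theorem quat_equiv {S : Type*} [Group S] [Finite S] {n : ℕ} (D : QDData S n) {i : ℤ} (hi : Odd i) :
    Nonempty (D.quat i ≃* QuaternionGroup 2) := by
  haveI : Fact (Nat.Prime 2) := ⟨Nat.prime_two⟩
  have key : ∀ s : D.quat i, s ^ 2 = 1 → s ≠ 1 → (s : S) = D.z := by
    intro s h2 h1
    have ho : orderOf (s : S) = 2 := by
      rw [Subgroup.orderOf_coe]; exact orderOf_eq_prime h2 h1
    rcases D.invol_cases ho with h | ⟨j, hj, h⟩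
    · exact h
    · exfalso
      rcases (D.quat_mem _).1 (h ▸ s.2) with ⟨k, hk⟩ | ⟨k, hk⟩
      · exact D.refl_ne_rot j _ hk
      · rw [← mul_assoc, ← zpow_add, mul_left_inj, D.zpow_eq_iff] at hk
        obtain ⟨c, hc⟩ := hk
        obtain ⟨a, ha⟩ := hi
        obtain ⟨b, hb⟩ := hj
        obtain ⟨b', hb'⟩ : Even ((2 : ℤ) ^ n * c) :=
          (even_two.pow_of_ne_zero (by have := D.hn; omega)).mul_right c
        obtain ⟨q', hq'⟩ : Even (D.q * k) := (show Even D.q from ⟨(2 : ℤ) ^ (n - 3), by rw [D.q_eq]; ring⟩).mul_right k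
        omega
  have hu : Solv.UniqueOrderP 2 (D.quat i) := by
    intro a b ha hb hb1
    by_cases ha1 : a = 1
    · rw [ha1]; exact one_mem _
    · rw [show a = b from Subtype.ext ((key a ha ha1).trans (key b hb hb1).symm)]
      exact Subgroup.mem_zpowers b
  rcases Solv.cyclic_or_quaternion (D.isPGroup.to_subgroup _) hu with hc | ⟨-, k, ⟨e⟩⟩
  · exfalso
    obtain ⟨g, hg⟩ := hc.exists_generator
    obtain ⟨a, ha⟩ := Subgroup.mem_zpowers_iff.1 (hg ⟨D.x ^ D.q, Subgroup.mem_sup_left (Subgroup.mem_zpowers _)⟩)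
    obtain ⟨b, hb⟩ := Subgroup.mem_zpowers_iff.1
      (hg ⟨D.x ^ i * D.y, Subgroup.mem_sup_right (Subgroup.mem_zpowers _)⟩)
    have hcm : Commute (g ^ b) (g ^ a) := (Commute.refl g).zpow_zpow b a
    rw [ha, hb] at hcm
    have h1 : Commute (D.x ^ i * D.y) (D.x ^ D.q) := congrArg Subtype.val hcm
    have h3 : D.x ^ (-D.q) = D.x ^ D.q := by rw [← D.conj_a i, h1.eq, mul_inv_cancel_right]
    rw [D.zpow_eq_iff, ← D.four_q] at h3
    obtain ⟨c, hc⟩ := h3
    have h4 : D.q * (2 - 4 * c) = 0 := by linarith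
    rcases mul_eq_zero.1 h4 with h5 | h5
    · exact D.q_pos.ne' h5
    · omega
  · have hc := Nat.card_congr e.toEquiv
    haveI : NeZero (2 ^ k : ℕ) := ⟨pow_ne_zero _ two_ne_zero⟩
    rw [D.card_quat, Nat.card_eq_fintype_card, QuaternionGroup.card, show (8 : ℕ) = 2 ^ 3 by norm_num,
      show (4 : ℕ) = 2 ^ 2 by norm_num, ← pow_add] at hc
    have hk : k = 1 := by have := Nat.pow_right_injective (le_refl 2) hc; omega
    subst hk
    exact ⟨e⟩

/-- The Sylow subgroup viewed in the centralizer of a central element. -/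
theorem exists_sylow_centralizer (S : Sylow 2 G) {x : G}
    (hx : ∀ s ∈ (S : Subgroup G), s * x = x * s) :
    ∃ (R : Sylow 2 ↥(Subgroup.centralizer ({x} : Set G))) (e : (S : Subgroup G) ≃* (R : Subgroup ↥(Subgroup.centralizer ({x} : Set G)))),
      ∀ s : ↥(S : Subgroup G), (((e s : ↥(R : Subgroup ↥(Subgroup.centralizer ({x} : Set G)))) : ↥(Subgroup.centralizer ({x} : Set G))) : G) = s := by
  haveI : Fact (Nat.Prime 2) := ⟨Nat.prime_two⟩
  have hle : (S : Subgroup G) ≤ Subgroup.centralizer ({x} : Set G) := fun s hs =>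
    Subgroup.mem_centralizer_singleton_iff.2 (hx s hs)
  obtain ⟨R, hR⟩ := ((sylIn_top S).mono hle le_top).exists_sylow_subgroupOf
  refine ⟨R, (Subgroup.subgroupOfEquivOfLe hle).symm.trans (MulEquiv.subgroupCongr hR.symm),
    fun s => ?_⟩
  rfl

theorem qd_case (S : Sylow 2 G) {n : ℕ} (D : QDData (S : Subgroup G) n)
    (hG : ∀ H : Subgroup G, H.index ≠ 2) :
    ∃ R : Sylow 2 ↥(Subgroup.centralizer ({(D.z : G)} : Set G)), Nat.card R = Nat.card S ∧
      (∃ K : Subgroup ↥(Subgroup.centralizer ({(D.z : G)} : Set G)), K.Normal ∧ (∃ a : ℕ, K.index = 2 ^ a) ∧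
        (∀ H : Subgroup ↥K, H.index ≠ 2) ∧
        (∀ P : Sylow 2 ↥K, ∃ m : ℕ, 1 ≤ m ∧ Nonempty ((P : Subgroup ↥K) ≃* QuaternionGroup (2 ^ m)))) ∧
      (∀ Z₀ : Subgroup ↥(Subgroup.centralizer ({(D.z : G)} : Set G)),
        Z₀ ≤ ((Subgroup.center (R : Subgroup ↥(Subgroup.centralizer ({(D.z : G)} : Set G)))).map
          (R : Subgroup ↥(Subgroup.centralizer ({(D.z : G)} : Set G))).subtype) →
        Cfsg.IsWeaklyClosed Z₀ (R : Subgroup ↥(Subgroup.centralizer ({(D.z : G)} : Set G)))) := by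
  haveI : Fact (Nat.Prime 2) := ⟨Nat.prime_two⟩
  obtain ⟨R, e, he⟩ := exists_sylow_centralizer S (x := (D.z : G))
    (fun s hs => congrArg Subtype.val (D.z_central ⟨s, hs⟩).eq.symm)
  obtain ⟨E, hEx, hEy⟩ := qd_transport e D
  have hcoe := he
  have hxpow : ∀ k : ℤ, E.x ^ k = e (D.x ^ k) := fun k => by rw [hEx, map_zpow]
  have hz : E.z = e D.z := hxpow D.h
  have h2 : ¬ E.FusedTwo := by
    intro hf
    obtain ⟨c, hc⟩ := isConj_iff.1 hf
    have hc' : (c : G) * (D.z : G) * (c : G)⁻¹ = (D.y : G) := by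
      have := congrArg Subtype.val hc
      rw [hz, hEy] at this
      simpa [hcoe] using this
    have hcz : (c : G) * (D.z : G) = (D.z : G) * (c : G) := Subgroup.mem_centralizer_singleton_iff.1 c.2
    rw [hcz, mul_inv_cancel_right] at hc'
    exact D.refl_ne_rot 0 D.h (by rw [zpow_zero, one_mul]; exact (Subtype.ext hc' :).symm)
  have h4 : E.FusedFour := by
    obtain ⟨eq8⟩ := quat_equiv D (i := 1) odd_one
    have hf : D.FusedFour := by
      by_contra h
      obtain ⟨K, -, hK, -⟩ := D.exists_K_dihedral h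
      exact hG K hK
    obtain ⟨-, h6, h3⟩ := D.exists_Q_data (i := 1) odd_one eq8
    obtain ⟨a, -, ha, -⟩ := h6 (h3 ((D.conj_xy odd_one).trans hf.symm))
    set w : ↥(S : Subgroup G) := D.x ^ D.q with hw
    set v : ↥(S : Subgroup G) := D.x ^ (1 : ℤ) * D.y with hv
    rw [cj_zpowers] at ha
    have hwo : orderOf (w : G) = 4 := by rw [Subgroup.orderOf_coe]; exact D.orderOf_a
    have hcases := conj_eq_or_inv (by
        rw [show a * (w : G) * a⁻¹ = MulAut.conj a (w : G) from rfl, MulEquiv.orderOf_eq, hwo])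
      (by rw [Subgroup.orderOf_coe]; exact D.refl_orderOf_odd odd_one) ha
    have hv2 : (v : G) * (v : G) = (D.z : G) := by
      rw [← Subgroup.coe_mul, hv, D.refl_sq, D.h_mul_odd odd_one]
    have hw2 : (w : G) * (w : G) = (D.z : G) := by
      rw [← Subgroup.coe_mul, hw, ← zpow_add, ← two_mul, D.two_q]; rfl
    have haC : a ∈ Subgroup.centralizer ({(D.z : G)} : Set G) := by
      rw [Subgroup.mem_centralizer_singleton_iff, ← mul_inv_eq_iff_eq_mul]
      rw [← hw2, ← conj_mul]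
      rcases hcases with h | h <;> rw [h]
      · rw [hv2, hw2]
      · rw [← mul_inv_rev, hv2, hw2, ← Subgroup.coe_inv, invol_inv D.orderOf_z]
    have hvC : ∀ s : ↥(S : Subgroup G), (s : G) ∈ Subgroup.centralizer ({(D.z : G)} : Set G) := fun s =>
      Subgroup.mem_centralizer_singleton_iff.2 (congrArg Subtype.val (D.z_central s).eq.symm)
    have hconj : IsConj (((E.x ^ E.q : ↥(R : Subgroup ↥(Subgroup.centralizer ({(D.z : G)} : Set G)))) : ↥(Subgroup.centralizer ({(D.z : G)} : Set G)))) (((E.x * E.y : ↥(R : Subgroup ↥(Subgroup.centralizer ({(D.z : G)} : Set G)))) : ↥(Subgroup.centralizer ({(D.z : G)} : Set G)))) := by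
      have hxy : ((((E.x * E.y : ↥(R : Subgroup ↥(Subgroup.centralizer ({(D.z : G)} : Set G)))) : ↥(Subgroup.centralizer ({(D.z : G)} : Set G)))) : G) = (v : G) := by
        rw [hEx, hEy, ← map_mul, hcoe, hv, zpow_one]
      have hxq : ((((E.x ^ E.q : ↥(R : Subgroup ↥(Subgroup.centralizer ({(D.z : G)} : Set G)))) : ↥(Subgroup.centralizer ({(D.z : G)} : Set G)))) : G) = (w : G) := by
        rw [hxpow, hcoe]; rfl
      rcases hcases with h | h
      · exact isConj_iff.2 ⟨⟨a, haC⟩, Subtype.ext (by simp only [Subgroup.coe_mul, Subgroup.coe_inv] ; rw [hxq, h, ← hxy]; rfl)⟩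
      · refine isConj_iff.2 ⟨⟨(w : G) * a, mul_mem (hvC w) haC⟩, Subtype.ext ?_⟩
        show (w : G) * a * ((((E.x ^ E.q : ↥(R : Subgroup ↥(Subgroup.centralizer ({(D.z : G)} : Set G)))) : ↥(Subgroup.centralizer ({(D.z : G)} : Set G)))) : G) * ((w : G) * a)⁻¹ =
          ((((E.x * E.y : ↥(R : Subgroup ↥(Subgroup.centralizer ({(D.z : G)} : Set G)))) : ↥(Subgroup.centralizer ({(D.z : G)} : Set G)))) : G)
        rw [hxq, hxy, show (w : G) * a * (w : G) * ((w : G) * a)⁻¹ =
          (w : G) * (a * (w : G) * a⁻¹) * (w : G)⁻¹ by group, h]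
        have hwv : v * w * v⁻¹ = w⁻¹ := by rw [hv, hw, D.conj_a, zpow_neg]
        have h1 : v * w = w⁻¹ * v := mul_inv_eq_iff_eq_mul.1 hwv
        have h2 : w * v⁻¹ * w⁻¹ = v := by
          have hw2' : w * w = D.z := Subtype.ext hw2
          have hv2' : v * v = D.z := Subtype.ext hv2
          have h3 : v * w⁻¹ = w * v := by
            rw [← mul_inv_eq_iff_eq_mul, show v * w⁻¹ * v⁻¹ = (v * w * v⁻¹)⁻¹ by group, hwv, inv_inv]
          calc w * v⁻¹ * w⁻¹ = (w * (v * w⁻¹))⁻¹ := by group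
            _ = v⁻¹ * (v * v)⁻¹ := by rw [h3, ← mul_assoc, hw2', hv2', mul_inv_rev]
            _ = v := by
              rw [hv2', show (D.z)⁻¹ = D.z from Subtype.ext (by
                rw [Subgroup.coe_inv, invol_inv (by rw [Subgroup.orderOf_coe]; exact D.orderOf_z)]),
                ← hv2', inv_mul_cancel_left]
        exact congrArg Subtype.val h2
    exact hconj
  obtain ⟨K, hKn, hK, hy⟩ := E.exists_K_quaternion h2
  haveI := hKn
  have hr : ∀ i : ℤ, Even (i - 1) → (((E.x ^ i * E.y : ↥(R : Subgroup ↥(Subgroup.centralizer ({(D.z : G)} : Set G)))) : ↥(Subgroup.centralizer ({(D.z : G)} : Set G)))) ∈ K := by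
    intro i hi
    obtain ⟨c, hc⟩ := hi
    obtain ⟨a, ha⟩ := isConj_iff.1 ((E.conj_xy (i := i) ⟨c, by omega⟩).symm)
    exact ha ▸ ((index_two_facts hK).2.1 a _).1 ((E.index_two_mem hK).2.2 h4)
  have hKS := E.inf_eq_M hK (e := 1) hr
  obtain ⟨e8⟩ := quat_equiv E (i := 1) odd_one
  refine ⟨R, Nat.card_congr e.symm.toEquiv, ⟨K, hKn, ⟨1, hK⟩,
    fun H => E.K_quaternion_perfect h4 hK hKS e8 H, fun P => ?_⟩, fun Z₀ hZ => ?_⟩
  · obtain ⟨e1⟩ := sylow_normal_equiv R P
    obtain ⟨e'⟩ := E.M_one_quaternion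
    exact ⟨n - 2, by have := E.hn; omega, ⟨(e1.trans (MulEquiv.subgroupCongr hKS)).trans
      ((Subgroup.equivMapOfInjective _ _ (R : Subgroup ↥(Subgroup.centralizer ({(D.z : G)} : Set G))).subtype_injective).symm.trans e')⟩⟩
  · refine ⟨hZ.trans (Subgroup.map_subtype_le _), fun g hg => ?_⟩
    have hfix : ∀ z ∈ Z₀, g * z * g⁻¹ = z := by
      intro z hz'
      obtain ⟨y, hy', rfl⟩ := hZ hz'
      rw [E.center_eq] at hy'
      obtain ⟨k, rfl⟩ := Subgroup.mem_zpowers_iff.1 hy'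
      rw [map_zpow, ← conj_zpow]
      congr 1
      refine Subtype.ext ?_
      show (g : G) * ((((E.z : ↥(R : Subgroup ↥(Subgroup.centralizer ({(D.z : G)} : Set G)))) : ↥(Subgroup.centralizer ({(D.z : G)} : Set G)))) : G) * (g : G)⁻¹ = _
      rw [show (R : Subgroup ↥(Subgroup.centralizer ({(D.z : G)} : Set G))).subtype E.z = ((E.z : ↥(R : Subgroup ↥(Subgroup.centralizer ({(D.z : G)} : Set G)))) : ↥(Subgroup.centralizer ({(D.z : G)} : Set G))) from rfl, hz, hcoe,
        Subgroup.mem_centralizer_singleton_iff.1 g.2, mul_inv_cancel_right]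
    ext w
    constructor
    · rintro ⟨z, hz', rfl⟩
      show g * z * g⁻¹ ∈ Z₀
      rwa [hfix z hz']
    · intro hw
      exact ⟨w, hw, hfix w hw⟩

theorem wr_case (S : Sylow 2 G) {n : ℕ} (D : WRData (S : Subgroup G) n)
    (hG : ∀ H : Subgroup G, H.index ≠ 2) :
    ∃ R : Sylow 2 ↥(Subgroup.centralizer ({D.ug} : Set G)), Nat.card R = Nat.card S ∧
      (∃ K : Subgroup ↥(Subgroup.centralizer ({D.ug} : Set G)), K.Normal ∧ (∃ a : ℕ, K.index = 2 ^ a) ∧
        (∀ H : Subgroup ↥K, H.index ≠ 2) ∧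
        (∀ P : Sylow 2 ↥K, ∃ m : ℕ, 1 ≤ m ∧ Nonempty ((P : Subgroup ↥K) ≃* QuaternionGroup (2 ^ m)))) ∧
      (∀ Z₀ : Subgroup ↥(Subgroup.centralizer ({D.ug} : Set G)),
        Z₀ ≤ ((Subgroup.center (R : Subgroup ↥(Subgroup.centralizer ({D.ug} : Set G)))).map
          (R : Subgroup ↥(Subgroup.centralizer ({D.ug} : Set G))).subtype) →
        Cfsg.IsWeaklyClosed Z₀ (R : Subgroup ↥(Subgroup.centralizer ({D.ug} : Set G)))) := by
  haveI : Fact (Nat.Prime 2) := ⟨Nat.prime_two⟩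
  haveI : NeZero (2 ^ n : ℕ) := ⟨pow_ne_zero _ two_ne_zero⟩
  have hA : D.FusedA := by
    by_contra h
    obtain ⟨f, hf, -⟩ := D.exists_kernel h
    have hd : 2 ∣ 2 ^ n := dvd_pow_self 2 (by have := D.hn; omega)
    let π : Multiplicative (ZMod (2 ^ n)) →* Multiplicative (ZMod 2) :=
      AddMonoidHom.toMultiplicative (ZMod.castHom hd (ZMod 2)).toAddMonoidHom
    have hπ : Function.Surjective π := fun y => by
      obtain ⟨a, ha⟩ := ZMod.castHom_surjective hd y.toAdd
      exact ⟨Multiplicative.ofAdd a, congrArg Multiplicative.ofAdd ha⟩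
    refine hG (π.comp f).ker ?_
    rw [Subgroup.index_ker, (MonoidHom.range_eq_top (f := π.comp f)).2 (fun y => by
      obtain ⟨a, ha⟩ := hπ y
      obtain ⟨b, hb⟩ := hf a
      exact ⟨b, by simp [hb, ha]⟩), Subgroup.card_top,
      Nat.card_eq_fintype_card, Fintype.card_multiplicative, ZMod.card]
  have hE : D.FusedE := by
    by_contra h
    obtain ⟨K, -, hK, -, -⟩ := D.exists_K_abelian hA h
    exact hG K hK
  obtain ⟨R, e, he⟩ := exists_sylow_centralizer S (x := D.ug)
    (fun s hs => D.Zg_central (D.mem_Zg.2 (D.diag_central D.h)) hs)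
  obtain ⟨E, hEx, hEy, hEt⟩ := wr_transport e D
  have hcoe := he
  have hel : ∀ i j : ℤ, E.el i j = e (D.el i j) := fun i j => by
    rw [WRData.el, WRData.el, hEx, hEy, map_mul, map_zpow, map_zpow]
  have hug : (E.ug : G) = D.ug := by
    show ((((E.el E.h E.h : ↥(R : Subgroup ↥(Subgroup.centralizer ({D.ug} : Set G)))) : ↥(Subgroup.centralizer ({D.ug} : Set G)))) : G) = _
    rw [hel, hcoe]; rfl
  have heg : (E.eg : G) = D.eg := by
    show ((((E.el E.h 0 : ↥(R : Subgroup ↥(Subgroup.centralizer ({D.ug} : Set G)))) : ↥(Subgroup.centralizer ({D.ug} : Set G)))) : G) = _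
    rw [hel, hcoe]; rfl
  have hfg : ∀ i, (E.fg i : G) = D.fg i := fun i => by
    show ((((E.el i (-i) * E.t : ↥(R : Subgroup ↥(Subgroup.centralizer ({D.ug} : Set G)))) : ↥(Subgroup.centralizer ({D.ug} : Set G)))) : G) = _
    rw [hel, hEt, ← map_mul, hcoe]; rfl
  have hA' : ¬ E.FusedA := by
    intro hf
    obtain ⟨c, hc⟩ := isConj_iff.1 hf
    have hc' : (c : G) * D.ug * (c : G)⁻¹ = D.eg :=
      (show (c : G) * D.ug * (c : G)⁻¹ = (c : G) * (E.ug : G) * (c : G)⁻¹ from congrArg (fun u => (c : G) * u * (c : G)⁻¹) hug.symm).trans ((congrArg Subtype.val hc).trans heg)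
    rw [Subgroup.mem_centralizer_singleton_iff.1 c.2, mul_inv_cancel_right] at hc'
    have h1 : D.el D.h D.h = D.el D.h 0 := Subtype.ext hc'
    exact D.el_h_not_center (h1 ▸ D.diag_central D.h)
  have hE' : E.FusedE := by
    obtain ⟨a, ha, -, -, -, hae⟩ := (D.E_action 0).2.2.1 ((D.E_index_iff 0).1.2 hE)
    have haC : a ∈ Subgroup.centralizer ({D.ug} : Set G) := Subgroup.mem_centralizer_singleton_iff.2
      (D.normalizer_Eg_fixes_Zg ha (D.mem_Zg.2 (D.diag_central D.h)))
    rcases hae with hae | hae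
    · exact (isConj_iff.2 ⟨⟨a, haC⟩, Subtype.ext (by
        show a * (E.eg : G) * a⁻¹ = (E.fg 0 : G)
        rw [heg, hfg, hae])⟩ : IsConj E.eg (E.fg 0))
    · exact (isConj_iff.2 ⟨⟨a, haC⟩, Subtype.ext (by
        show a * (E.eg : G) * a⁻¹ = (E.fg (0 + D.h) : G)
        rw [heg, hfg, hae])⟩ : IsConj E.eg (E.fg (0 + D.h))).trans (E.isConj_refl_refl _ 0)
  obtain ⟨f, hf, hfY⟩ := E.exists_kernel hA'
  have hK : f.ker.index = 2 ^ n := by
    rw [Subgroup.index_ker, MonoidHom.range_eq_top.2 hf, Subgroup.card_top, Nat.card_eq_fintype_card,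
      Fintype.card_multiplicative, ZMod.card]
  have hKS : (R : Subgroup ↥(Subgroup.centralizer ({D.ug} : Set G))) ⊓ f.ker = E.Y.map (R : Subgroup ↥(Subgroup.centralizer ({D.ug} : Set G))).subtype := by
    ext x
    constructor
    · rintro ⟨hxS, hxK⟩
      exact ⟨⟨x, hxS⟩, (hfY ⟨x, hxS⟩).1 hxK, rfl⟩
    · rintro ⟨s, hs, rfl⟩
      exact ⟨s.2, (hfY s).2 hs⟩
  refine ⟨R, Nat.card_congr e.symm.toEquiv, ⟨f.ker, inferInstance, ⟨n, hK⟩,
    fun H => E.kernel_perfect hE' hK hfY H, fun P => ?_⟩, fun Z₀ hZ => E.center_weaklyClosed_all hA' Z₀ hZ⟩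
  obtain ⟨e1⟩ := sylow_normal_equiv R P
  obtain ⟨e'⟩ := E.Y_quaternion
  exact ⟨n - 1, by have := E.hn; omega, ⟨(e1.trans (MulEquiv.subgroupCongr hKS)).trans
    ((Subgroup.equivMapOfInjective _ _ (R : Subgroup ↥(Subgroup.centralizer ({D.ug} : Set G))).subtype_injective).symm.trans e')⟩⟩

theorem conj_sylow_equiv (S : Sylow 2 G) (g : G) :
    Nonempty ((S : Subgroup G) ≃* ((g • S : Sylow 2 G) : Subgroup G)) :=
  ⟨Subgroup.equivMapOfInjective (S : Subgroup G) (MulAut.conj g).toMonoidHom (MulAut.conj g).injective⟩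


/-- Let G be a finite group with quasi-dihedral or wreathed Sylow 2-subgroups and no subgroup of index 2, and let x be an involution with centralizer C. Then C has a Sylow 2-subgroup R which is a Sylow 2-subgroup of G; C has a normal subgroup K of index a power of 2 which has no subgroup of index 2 and whose Sylow 2-subgroups are generalized quaternion; and every subgroup of the centre of R is weakly closed in R with respect to C. -/
theorem result {G : Type*} [Group G] [Finite G] (S : Sylow 2 G) (hS : Cfsg.IsQuasiDihedral (S : Subgroup G) ∨ Cfsg.IsWreathed (S : Subgroup G)) (hG : ∀ H : Subgroup G, H.index ≠ 2) (x : G) (hx : orderOf x = 2) : ∃ R : Sylow 2 ↥(Subgroup.centralizer ({x} : Set G)), Nat.card R = Nat.card S ∧ (∃ K : Subgroup ↥(Subgroup.centralizer ({x} : Set G)), K.Normal ∧ (∃ a : ℕ, K.index = 2 ^ a) ∧ (∀ H : Subgroup ↥K, H.index ≠ 2) ∧ (∀ P : Sylow 2 ↥K, ∃ m : ℕ, 1 ≤ m ∧ Nonempty ((P : Subgroup ↥K) ≃* QuaternionGroup (2 ^ m)))) ∧ (∀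 Z₀ : Subgroup ↥(Subgroup.centralizer ({x} : Set G)), Z₀ ≤ ((Subgroup.center (R : Subgroup ↥(Subgroup.centralizer ({x} : Set G)))).map (R : Subgroup ↥(Subgroup.centralizer ({x} : Set G))).subtype) → Cfsg.IsWeaklyClosed Z₀ (R : Subgroup ↥(Subgroup.centralizer ({x} : Set G)))) := by
  haveI : Fact (Nat.Prime 2) := ⟨Nat.prime_two⟩
  rcases hS with hS | hS
  · obtain ⟨n, ⟨D⟩⟩ := exists_qdData' hS
    have hf : D.FusedTwo := by
      by_contra h
      obtain ⟨K, -, hK, -⟩ := D.exists_K_quaternion h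
      exact hG K hK
    obtain ⟨g, hg⟩ : ∃ g : G, g * (D.z : G) * g⁻¹ = x := by
      obtain ⟨b, hb⟩ := exists_conj_mem_sylow S (k := 1) (by rw [pow_one]; exact hx)
      have hb2 : orderOf (b * x * b⁻¹) = 2 := by
        rw [show b * x * b⁻¹ = MulAut.conj b x from rfl, MulEquiv.orderOf_eq, hx]
      have hc : IsConj (D.z : G) (b * x * b⁻¹) := by
        rcases D.involution_cases' (s := ⟨_, hb⟩) hb2 with h | h
        · exact h.symm
        · exact hf.trans h.symm
      exact isConj_iff.1 (hc.trans (isConj_iff.2 ⟨b⁻¹, by group⟩))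
    obtain ⟨e⟩ := conj_sylow_equiv S g
    obtain ⟨D', hx', -⟩ := qd_transport e D
    have hz : (D'.z : G) = g * (D.z : G) * g⁻¹ := by
      have h1 : D'.z = e D.z := by rw [QDData.z, QDData.z, map_zpow, hx']; rfl
      have h2 : D'.z = D'.z := rfl
      have ho : orderOf (D.z : G) = 2 := D.orders.1
      have hgz : g * (D.z : G) * g⁻¹ ∈ ((g • S : Sylow 2 G) : Subgroup G) := ⟨_, (D.z).2, rfl⟩
      have hcen : (⟨_, hgz⟩ : ↥((g • S : Sylow 2 G) : Subgroup G)) ∈ Subgroup.center _ := by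
        refine Subgroup.mem_center_iff.2 fun s => Subtype.ext ?_
        obtain ⟨t, ht, hte⟩ := s.2
        show (s : G) * _ = _ * (s : G)
        rw [← hte]
        show g * t * g⁻¹ * (g * (D.z : G) * g⁻¹) = g * (D.z : G) * g⁻¹ * (g * t * g⁻¹)
        rw [conj_mul, conj_mul, show t * (D.z : G) = (D.z : G) * t from congrArg Subtype.val (D.z_central ⟨t, ht⟩).eq.symm]
      rw [D'.center_eq] at hcen
      obtain ⟨k, hk⟩ := Subgroup.mem_zpowers_iff.1 hcen
      have hk' : (D'.z : G) ^ k = g * (D.z : G) * g⁻¹ := by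
        rw [← Subgroup.coe_zpow, hk]
      rw [← zpow_mod_orderOf, D'.orders.1] at hk'
      rcases Int.emod_two_eq k with h | h <;> push_cast at hk' <;> rw [h] at hk'
      · exfalso
        rw [zpow_zero, eq_comm, conj_eq_one_iff] at hk'
        rw [hk', orderOf_one] at ho; omega
      · rwa [zpow_one] at hk'
    have hmain := qd_case (g • S) D' hG
    rw [hz, hg] at hmain
    obtain ⟨R, h1, h2, h3⟩ := hmain
    refine ⟨R, h1.trans ?_, h2, h3⟩
    exact Nat.card_congr e.symm.toEquiv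
  · obtain ⟨n, ⟨D⟩⟩ := exists_wrData' hS
    haveI : NeZero (2 ^ n : ℕ) := ⟨pow_ne_zero _ two_ne_zero⟩
    have hA : D.FusedA := by
      by_contra h
      obtain ⟨f, hf, -⟩ := D.exists_kernel h
      have hd : 2 ∣ 2 ^ n := dvd_pow_self 2 (by have := D.hn; omega)
      let π : Multiplicative (ZMod (2 ^ n)) →* Multiplicative (ZMod 2) :=
        AddMonoidHom.toMultiplicative (ZMod.castHom hd (ZMod 2)).toAddMonoidHom
      have hπ : Function.Surjective π := fun y => by
        obtain ⟨a, ha⟩ := ZMod.castHom_surjective hd y.toAdd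
        exact ⟨Multiplicative.ofAdd a, congrArg Multiplicative.ofAdd ha⟩
      refine hG (π.comp f).ker ?_
      rw [Subgroup.index_ker, (MonoidHom.range_eq_top (f := π.comp f)).2 (fun y => by
      obtain ⟨a, ha⟩ := hπ y
      obtain ⟨b, hb⟩ := hf a
      exact ⟨b, by simp [hb, ha]⟩), Subgroup.card_top,
        Nat.card_eq_fintype_card, Fintype.card_multiplicative, ZMod.card]
    have hE : D.FusedE := by
      by_contra h
      obtain ⟨K, -, hK, -, -⟩ := D.exists_K_abelian hA h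
      exact hG K hK
    obtain ⟨g, hg⟩ : ∃ g : G, g * D.ug * g⁻¹ = x := by
      obtain ⟨b, hb⟩ := exists_conj_mem_sylow S (k := 1) (by rw [pow_one]; exact hx)
      have hb2 : orderOf (b * x * b⁻¹) = 2 := by
        rw [show b * x * b⁻¹ = MulAut.conj b x from rfl, MulEquiv.orderOf_eq, hx]
      have hc : IsConj D.ug (b * x * b⁻¹) := by
        rcases D.involution_cases' (s := ⟨_, hb⟩) hb2 with h | h | h
        · exact h.symm
        · exact (show IsConj D.ug D.eg from hA).trans h.symm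
        · exact ((show IsConj D.ug D.eg from hA).trans hE).trans h.symm
      exact isConj_iff.1 (hc.trans (isConj_iff.2 ⟨b⁻¹, by group⟩))
    obtain ⟨e⟩ := conj_sylow_equiv S g
    obtain ⟨D', -, -, -⟩ := wr_transport e D
    have hgu : g * D.ug * g⁻¹ ∈ ((g • S : Sylow 2 G) : Subgroup G) := ⟨_, (D.el D.h D.h).2, rfl⟩
    have hz : D'.ug = g * D.ug * g⁻¹ := by
      have hcen : (⟨_, hgu⟩ : ↥((g • S : Sylow 2 G) : Subgroup G)) ∈ Subgroup.center _ := by
        refine Subgroup.mem_center_iff.2 fun s => Subtype.ext ?_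
        obtain ⟨t, ht, hte⟩ := s.2
        show (s : G) * _ = _ * (s : G)
        rw [← hte]
        show g * t * g⁻¹ * (g * D.ug * g⁻¹) = g * D.ug * g⁻¹ * (g * t * g⁻¹)
        rw [conj_mul, conj_mul, show t * D.ug = D.ug * t from (D.Zg_central (D.mem_Zg.2 (D.diag_central D.h)) ht)]
      have ho : orderOf (⟨_, hgu⟩ : ↥((g • S : Sylow 2 G) : Subgroup G)) = 2 := by
        rw [← Subgroup.orderOf_coe]
        show orderOf (MulAut.conj g D.ug) = 2
        rw [MulEquiv.orderOf_eq, D.orderOf_ug]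
      exact (congrArg Subtype.val (D'.center_invol hcen ho)).symm
    have hmain := wr_case (g • S) D' hG
    rw [hz, hg] at hmain
    obtain ⟨R, h1, h2, h3⟩ := hmain
    refine ⟨R, h1.trans ?_, h2, h3⟩
    exact Nat.card_congr e.symm.toEquiv

end Cfsg.Agent.S1213
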