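import Cfsg.Statements.S0111
import Cfsg.Agent.Lib.Fusion.ThompsonTransferCyclic

set_option autoImplicit false
open Cfsg
open Cfsg.Agent.Fusion
open scoped commutatorElement

namespace Cfsg.Agent.S0111

/-- The Thompson transfer lemma states that an involution of a Sylow 2-subgroup P lying outside a subgroup Q of index 2 in P either lies outside some normal subgroup of index 2 in G or is conjugate to an element of Q. -/
theorem result {G : Type*} [Group G] [Finite G] (P : Sylow 2 G) (Q : Subgroup G) (hQP : Q ≤ (P : Subgroup G)) (hQi : Q.relIndex (P : Subgroup G) = 2) (u : G) (hu : orderOf u = 2) (huP : u ∈ (P : Subgroup G)) (huQ : u ∉ Q) : (∃ M : Subgroup G, M.Normal ∧ M.index = 2 ∧ u ∉ M) ∨ ∃ g : G, g * u * g⁻¹ ∈ Q := by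
  haveI hn : (Q.subgroupOf (P : Subgroup G)).Normal := Subgroup.normal_of_index_eq_two hQi
  have hcard : Nat.card (↥(P : Subgroup G) ⧸ Q.subgroupOf (P : Subgroup G)) = 2 :=
    (Subgroup.index_eq_card _).symm.trans hQi
  by_cases hk : ∀ f : G →* (↥(P : Subgroup G) ⧸ Q.subgroupOf (P : Subgroup G)), f u = 1
  · obtain ⟨g, hg, -, -⟩ :=
      extremal_transfer_cyclic_of_kills P Q hQP (isCyclic_of_prime_card hcard) hu huP huQ hk
    exact Or.inr ⟨g, hg⟩
  · simp only [not_forall] at hk
    obtain ⟨f, hf⟩ := hk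
    refine Or.inl ⟨f.ker, f.normal_ker, ?_, hf⟩
    rw [Subgroup.index_ker]
    have hd := Subgroup.card_subgroup_dvd_card f.range
    rw [hcard] at hd
    refine ((Nat.dvd_prime Nat.prime_two).1 hd).resolve_left fun h => hf ?_
    have h1 : f.range = ⊥ := Subgroup.card_eq_one.1 h
    exact Subgroup.mem_bot.1 (by rw [← h1]; exact ⟨u, rfl⟩)

end Cfsg.Agent.S0111
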