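import Cfsg.Statements.S1477
import Cfsg.Agent.Lib.OddLocal.CN
import Cfsg.Agent.Lib.Fusion.PGroupAux

set_option autoImplicit false
open Cfsg
open Cfsg.Agent
open scoped Pointwise

namespace Cfsg.Agent.S1477

theorem result {G : Type*} [Group G] [Finite G] (hCN : Cfsg.IsCNGroup G) (H : Subgroup G) (hH : Group.IsNilpotent H)
    (hmax : ∀ L : Subgroup G, Group.IsNilpotent L → H ≤ L → L = H) :
    (Nat.card H).Coprime H.index ∧
      (¬ IsPrimePow (Nat.card H) → Nat.card H ≠ 1 → ∀ g : G, H.map (MulAut.conj g).toMonoidHom ≠ H → H ⊓ H.map (MulAut.conj g).toMonoidHom = ⊥) ∧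
      ((∀ g : G, H.map (MulAut.conj g).toMonoidHom ≠ H → H ⊓ H.map (MulAut.conj g).toMonoidHom = ⊥) → ∀ x ∈ H, x ≠ 1 → Subgroup.centralizer ({x} : Set G) ≤ H) := by
  classical
  have hgen : ∀ C K : Subgroup G, (∀ q : ℕ, q.Prime → ∀ c ∈ C, (∃ k : ℕ, c ^ q ^ k = 1) → c ∈ K) → C ≤ K := by
    intro C K h
    rw [← Subgroup.relIndex_eq_one, Subgroup.relIndex, Nat.eq_one_iff_not_exists_prime_dvd]
    intro q hq hd
    haveI := Fact.mk hq
    obtain ⟨Q⟩ : Nonempty (Sylow q ↥C) := inferInstance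
    refine Q.not_dvd_index (hd.trans (Subgroup.index_dvd_of_le fun c hc => ?_))
    obtain ⟨k, hk⟩ := Q.isPGroup' ⟨c, hc⟩
    exact h q hq _ c.2 ⟨k, congrArg (fun z => ((z : ↥C) : G)) (congrArg Subtype.val hk)⟩
  have hzpart : ∀ r : ℕ, r.Prime → r ∣ Nat.card H →
      ∃ z ∈ H, z ≠ 1 ∧ (∃ k : ℕ, z ^ r ^ k = 1) ∧ Subgroup.centralizer ({z} : Set G) = H := by
    intro r hr hd
    haveI := Fact.mk hr
    obtain ⟨S⟩ : Nonempty (Sylow r ↥H) := inferInstance
    obtain ⟨z, -, hz1, hzc⟩ := Fusion.exists_central_of_normal S.isPGroup' (⊤ : Subgroup ↥(S : Subgroup ↥H)) (by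
      intro h
      have h1 : Nat.card (⊤ : Subgroup ↥(S : Subgroup ↥H)) = 1 := Subgroup.card_eq_one.2 h
      rw [Subgroup.card_top] at h1
      exact hr.ne_one (Nat.dvd_one.1 (h1 ▸ S.dvd_card_of_dvd_card hd)))
    have hzr : ∃ k : ℕ, ((z : ↥H) : G) ^ r ^ k = 1 := by
      obtain ⟨k, hk⟩ := S.isPGroup' z
      exact ⟨k, congrArg (fun w => ((w : ↥H) : G)) (congrArg Subtype.val hk)⟩
    have hz1' : ((z : ↥H) : G) ≠ 1 := fun h => hz1 (Subtype.ext (Subtype.ext h))
    refine ⟨_, (z : ↥H).2, hz1', hzr, hmax _ (hCN _ hz1') (hgen _ _ fun q hq c hc hck => ?_)⟩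
    haveI := Fact.mk hq
    rw [Subgroup.mem_centralizer_singleton_iff]
    rcases eq_or_ne q r with rfl | hqr
    · haveI := Sylow.unique_of_normal S (Perm.sylow_normal_of_nilpotent hH S)
      obtain ⟨k, hk⟩ := hck
      obtain ⟨j, -, hj⟩ := (Nat.dvd_prime_pow hq).1 (orderOf_dvd_of_pow_eq_one hk)
      obtain ⟨Q', hQ'⟩ := (IsPGroup.of_card (n := j) (by
        rw [Nat.card_zpowers, ← Subgroup.orderOf_coe, hj]) :
        IsPGroup q ↥(Subgroup.zpowers (⟨c, hc⟩ : ↥H))).exists_le_sylow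
      have hcS : (⟨c, hc⟩ : ↥H) ∈ (S : Subgroup ↥H) :=
        (Subsingleton.elim Q' S) ▸ hQ' (Subgroup.mem_zpowers _)
      exact congrArg (fun w => ((w : ↥H) : G)) (congrArg Subtype.val (Subgroup.mem_center_iff.1 hzc ⟨_, hcS⟩))
    · exact OddLocal.CN.commute_in hH hqr hc (z : ↥H).2 hck hzr
  have hcard : ∀ g : G, Nat.card ↥(H.map (MulAut.conj g).toMonoidHom) = Nat.card H := fun g =>
    Subgroup.card_map_of_injective (MulAut.conj g).injective
  have hhall : (Nat.card H).Coprime H.index := by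
    refine Nat.coprime_of_dvd fun q hq hqH hqi => ?_
    haveI := Fact.mk hq
    by_cases hpp : IsPGroup q ↥H
    · obtain ⟨Q, hQ⟩ := hpp.exists_le_sylow
      have := hmax (Q : Subgroup G) Q.isPGroup'.isNilpotent hQ
      exact Q.not_dvd_index (this ▸ hqi)
    · obtain ⟨r, hr, hrH, hrq⟩ : ∃ r, r.Prime ∧ r ∣ Nat.card H ∧ r ≠ q := by
        by_contra hno
        refine hpp (IsPGroup.of_card (n := (Nat.card ↥H).primeFactorsList.length)
          (Nat.eq_prime_pow_of_unique_prime_dvd Nat.card_pos.ne' fun {d} hd hdd => ?_))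
        by_contra hne
        exact hno ⟨d, hd, hdd, hne⟩
      haveI := Fact.mk hr
      obtain ⟨zr, hzrH, hzr1, hzrp, hCr⟩ := hzpart r hr hrH
      obtain ⟨zq, hzqH, hzq1, hzqp, hCq⟩ := hzpart q hq hqH
      obtain ⟨S⟩ : Nonempty (Sylow q ↥H) := inferInstance
      obtain ⟨Q, hQ⟩ := (S.isPGroup'.map H.subtype).exists_le_sylow
      have hzqQ : zq ∈ (Q : Subgroup G) := by
        refine hQ ?_
        obtain ⟨k, hk⟩ := hzqp
        obtain ⟨j, -, hj⟩ := (Nat.dvd_prime_pow hq).1 (orderOf_dvd_of_pow_eq_one hk)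
        obtain ⟨Q', hQ'⟩ := (IsPGroup.of_card (n := j) (by
          rw [Nat.card_zpowers, ← Subgroup.orderOf_coe, hj]) :
          IsPGroup q ↥(Subgroup.zpowers (⟨zq, hzqH⟩ : ↥H))).exists_le_sylow
        haveI := Sylow.unique_of_normal S (Perm.sylow_normal_of_nilpotent hH S)
        exact ⟨⟨zq, hzqH⟩, (Subsingleton.elim Q' S) ▸ hQ' (Subgroup.mem_zpowers _), rfl⟩
      obtain ⟨w, -, hw1, hwc⟩ := Fusion.exists_central_of_normal Q.isPGroup' (⊤ : Subgroup ↥(Q : Subgroup G)) (by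
        intro h
        have := Subgroup.eq_bot_iff_forall _ |>.1 h ⟨zq, hzqQ⟩ (Subgroup.mem_top _)
        exact hzq1 (congrArg Subtype.val this))
      have hw1' : (w : G) ≠ 1 := fun h => hw1 (Subtype.ext h)
      have hwQ : ∀ y ∈ (Q : Subgroup G), y * (w : G) = (w : G) * y := fun y hy =>
        congrArg Subtype.val (Subgroup.mem_center_iff.1 hwc ⟨y, hy⟩)
      have hwH : (w : G) ∈ H := hCq ▸ Subgroup.mem_centralizer_singleton_iff.2 (hwQ zq hzqQ).symm
      have hQH : (Q : Subgroup G) ≤ H := by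
        intro y hy
        have hzw : zr * (w : G) = (w : G) * zr :=
          (Subgroup.mem_centralizer_singleton_iff.1 (hCr.symm ▸ hwH : (w : G) ∈ Subgroup.centralizer {zr})).symm
        obtain ⟨k, hk⟩ := Q.isPGroup' ⟨y, hy⟩
        exact hCr ▸ Subgroup.mem_centralizer_singleton_iff.2 (OddLocal.CN.commute_in (hCN _ hw1') hrq.symm
          (Subgroup.mem_centralizer_singleton_iff.2 (hwQ y hy))
          (Subgroup.mem_centralizer_singleton_iff.2 hzw) ⟨k, congrArg Subtype.val hk⟩ hzrp)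
      exact Q.not_dvd_index (hqi.trans (Subgroup.index_dvd_of_le hQH))
  refine ⟨hhall, fun hnp hne g hg => ?_, fun hTI x hx hx1 => ?_⟩
  · rw [eq_bot_iff]
    intro x hx
    rw [Subgroup.mem_bot]
    by_contra hx1
    apply hg
    obtain ⟨q, hq, hqd⟩ := Nat.exists_prime_and_dvd (mt orderOf_eq_one_iff.1 hx1)
    haveI := Fact.mk hq
    set x' := x ^ (orderOf x / q) with hx'
    have hxo : orderOf x' = q := orderOf_pow_orderOf_div (orderOf_pos x).ne' hqd
    have hx'1 : x' ≠ 1 := fun h => hq.ne_one (by rw [← hxo, h, orderOf_one])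
    obtain ⟨hxH, hxHg⟩ := Subgroup.mem_inf.1 (pow_mem hx (orderOf x / q) : x' ∈ H ⊓ _)
    have hqH : q ∣ Nat.card H := hxo ▸ Subgroup.orderOf_mk x' hxH ▸ orderOf_dvd_natCard _
    obtain ⟨r, hr, hrH, hrq⟩ : ∃ r, r.Prime ∧ r ∣ Nat.card H ∧ r ≠ q := by
      by_contra hno
      refine hnp ?_
      rw [Nat.eq_prime_pow_of_unique_prime_dvd (n := Nat.card ↥H) Nat.card_pos.ne' (p := q) (fun {d} hd hdd => ?_)]
      · exact IsPrimePow.pow hq.isPrimePow (fun h0 => hne (by
          rw [Nat.eq_prime_pow_of_unique_prime_dvd (n := Nat.card ↥H) Nat.card_pos.ne' (p := q) (fun {d} hd hdd => by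
            by_contra hne'
            exact hno ⟨d, hd, hdd, hne'⟩), h0, pow_zero]))
      · by_contra hne'
        exact hno ⟨d, hd, hdd, hne'⟩
    haveI := Fact.mk hr
    obtain ⟨zq, hzqH, hzq1, hzqp, hCq⟩ := hzpart q hq hqH
    obtain ⟨zr, hzrH, hzr1, hzrp, hCr⟩ := hzpart r hr hrH
    obtain ⟨H', hH'⟩ : ∃ H', H' = H.map (MulAut.conj g).toMonoidHom := ⟨_, rfl⟩
    rw [← hH'] at hxHg ⊢
    have hH'nil : Group.IsNilpotent ↥H' := hH' ▸ Group.nilpotent_of_mulEquiv
      (H.equivMapOfInjective _ (MulAut.conj g).injective)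
    have hxq : ∃ k : ℕ, x' ^ q ^ k = 1 := ⟨1, by rw [pow_one, ← hxo, pow_orderOf_eq_one]⟩
    have hstep : ∀ s : ℕ, s.Prime → s ≠ q → ∀ y ∈ H', (∃ k : ℕ, y ^ s ^ k = 1) → y ∈ H := by
      intro s hs hsq y hy hyk
      haveI := Fact.mk hs
      have hyx : y * x' = x' * y := OddLocal.CN.commute_in hH'nil hsq hy hxHg hyk hxq
      have hzx : zq * x' = x' * zq :=
        (Subgroup.mem_centralizer_singleton_iff.1 (hCq.symm ▸ hxH : x' ∈ Subgroup.centralizer {zq})).symm
      exact hCq ▸ Subgroup.mem_centralizer_singleton_iff.2 (OddLocal.CN.commute_in (hCN x' hx'1) hsq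
        (Subgroup.mem_centralizer_singleton_iff.2 hyx)
        (Subgroup.mem_centralizer_singleton_iff.2 hzx) hyk hzqp)
    refine Subgroup.eq_of_le_of_card_ge (hgen H' H fun s hs y hy hyk => ?_) (by rw [hH', hcard g])
    rcases eq_or_ne s q with rfl | hsq
    swap
    · exact hstep s hs hsq y hy hyk
    obtain ⟨u, hu⟩ : ∃ u, u = MulAut.conj g zr := ⟨_, rfl⟩
    have huH' : u ∈ H' := hH' ▸ hu ▸ Subgroup.mem_map_of_mem (MulAut.conj g).toMonoidHom hzrH
    have hup : ∃ k : ℕ, u ^ r ^ k = 1 := by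
      obtain ⟨k, hk⟩ := hzrp
      exact ⟨k, by rw [hu, ← map_pow, hk, map_one]⟩
    have hu1 : u ≠ 1 := fun h => hzr1 ((MulAut.conj g).injective (by rw [map_one, ← hu, h]))
    have huH : u ∈ H := hstep r hr hrq u huH' hup
    have hzu : zr * u = u * zr :=
      (Subgroup.mem_centralizer_singleton_iff.1 (hCr.symm ▸ huH : u ∈ Subgroup.centralizer {zr})).symm
    exact hCr ▸ Subgroup.mem_centralizer_singleton_iff.2 (OddLocal.CN.commute_in (hCN u hu1) hrq.symm
      (Subgroup.mem_centralizer_singleton_iff.2 (OddLocal.CN.commute_in hH'nil hrq.symm hy huH' hyk hup))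
      (Subgroup.mem_centralizer_singleton_iff.2 hzu) hyk hzrp)
  · obtain ⟨r, hr, hrd⟩ := Nat.exists_prime_and_dvd (mt orderOf_eq_one_iff.1 hx1)
    haveI := Fact.mk hr
    set x' := x ^ (orderOf x / r) with hx'
    have hxo : orderOf x' = r := orderOf_pow_orderOf_div (orderOf_pos x).ne' hrd
    have hx'1 : x' ≠ 1 := fun h => hr.ne_one (by rw [← hxo, h, orderOf_one])
    have hx'H : x' ∈ H := pow_mem hx _
    obtain ⟨z, hzH, hz1, hzp, hCz⟩ := hzpart r hr (hxo ▸ Subgroup.orderOf_mk x' hx'H ▸ orderOf_dvd_natCard _)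
    refine hgen _ _ fun q hq c hc hck => ?_
    haveI := Fact.mk hq
    have hcx : c * x = x * c := Subgroup.mem_centralizer_singleton_iff.1 hc
    rcases eq_or_ne q r with rfl | hqr
    · have hmap : H.map (MulAut.conj c).toMonoidHom = H := by
        by_contra hne
        refine hx1 (Subgroup.mem_bot.1 (hTI c hne ▸ ⟨hx, x, hx, ?_⟩))
        show c * x * c⁻¹ = x
        rw [hcx, mul_inv_cancel_right]
      have hcN : c ∈ Subgroup.normalizer (H : Set G) :=
        Solv.mem_normalizer_of_conj_smul (by rw [Solv.conj_smul_eq_map, hmap])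
      obtain ⟨k, hk⟩ := hck
      obtain ⟨j, -, hj⟩ := (Nat.dvd_prime_pow hq).1 (orderOf_dvd_of_pow_eq_one hk)
      have hle := Solv.le_of_coprime_index (H.subgroupOf (Subgroup.normalizer (H : Set G)))
        (Subgroup.zpowers (⟨c, hcN⟩ : ↥(Subgroup.normalizer (H : Set G)))) (by
          rw [Nat.card_zpowers, ← Subgroup.orderOf_coe, hj]
          refine Nat.Coprime.pow_left j (Nat.Coprime.coprime_dvd_left
            (hxo ▸ Subgroup.orderOf_mk x' hx'H ▸ orderOf_dvd_natCard _) (hhall.coprime_dvd_right ?_))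
          exact Subgroup.relIndex_dvd_index_of_le Subgroup.le_normalizer)
      exact hle (Subgroup.mem_zpowers _)
    · have hcx' : c * x' = x' * c := (show Commute c x from hcx).pow_right _ |>.eq
      have hzx : z * x' = x' * z :=
        (Subgroup.mem_centralizer_singleton_iff.1 (hCz.symm ▸ hx'H : x' ∈ Subgroup.centralizer {z})).symm
      exact hCz ▸ Subgroup.mem_centralizer_singleton_iff.2 (OddLocal.CN.commute_in (hCN x' hx'1) hqr
        (Subgroup.mem_centralizer_singleton_iff.2 hcx')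
        (Subgroup.mem_centralizer_singleton_iff.2 hzx) hck hzp)

end Cfsg.Agent.S1477
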