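import Cfsg.Statements.S1473
import Cfsg.Agent.Lib.OddLocal.CN

set_option autoImplicit false
open Cfsg
open Cfsg.Agent

namespace Cfsg.Agent.S1473

universe u

theorem aux : ∀ (n : ℕ) (G : Type u) [Group G] [Finite G], Nat.card G ≤ n → IsCNGroup G →
    ∀ (H : Subgroup G) [H.Normal], Group.IsSolvable H → IsCNGroup (G ⧸ H) := by
  intro n
  induction n with
  | zero => intro G _ _ h; exact absurd h (not_le.2 Nat.card_pos)
  | succ n ih =>
    intro G _ _ hn hCN H _ hH
    rcases eq_or_ne H ⊥ with rfl | hH1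
    · exact OddLocal.CN.congr (QuotientGroup.quotientBot).symm hCN
    obtain ⟨M, hMn, hM1, hMH, hMmin⟩ := Solv.exists_minimal_normal_le H hH1
    obtain ⟨-, p, hp, -, hMp⟩ := Solv.minimal_normal_elementaryAbelian M (Solv.isSolvable_of_le hMH hH) hM1 hMmin
    haveI := Fact.mk hp
    haveI : (H.map (QuotientGroup.mk' M)).Normal :=
      Subgroup.Normal.map inferInstance _ (QuotientGroup.mk'_surjective M)
    have hlt : Nat.card (G ⧸ M) ≤ n := by
      have := Solv.card_quotient_lt M hM1
      omega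
    exact OddLocal.CN.congr (QuotientGroup.quotientQuotientEquivQuotient M H hMH)
      (ih (G ⧸ M) hlt (OddLocal.CN.quotient_pgroup hCN M hM1 hMp) _ (Solv.isSolvable_map _ hH))

theorem result {G : Type*} [Group G] [Finite G] (hCN : Cfsg.IsCNGroup G) (H : Subgroup G) [H.Normal] (hH : Group.IsSolvable H) :
    Cfsg.IsCNGroup (G ⧸ H) := by
  exact aux (Nat.card G) G le_rfl hCN H hH

end Cfsg.Agent.S1473
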