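import Cfsg.Statements.S1479
import Cfsg.Agent.Lib.OddLocal.CNKernels

set_option autoImplicit false
open Cfsg

namespace Cfsg.Agent.S1479

theorem result {G : Type*} [Group G] [Finite G] (hG : Cfsg.IsMinSimpleOddOrder G) (hCN : Cfsg.IsCNGroup G)  :
    (∀ H : Subgroup G, Group.IsNilpotent H → (∀ L : Subgroup G, Group.IsNilpotent L → H ≤ L → L = H) →
        (Nat.card H).Coprime H.index ∧ (∀ g : G, H.map (MulAut.conj g).toMonoidHom ≠ H → H ⊓ H.map (MulAut.conj g).toMonoidHom = ⊥) ∧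
        IsCoatom (Subgroup.normalizer (H : Set G)) ∧
        ∃ E : Subgroup G, Cfsg.IsComplIn H E (Subgroup.normalizer (H : Set G)) ∧ E ≠ ⊥ ∧
          ∀ e ∈ E, e ≠ 1 → H ⊓ Subgroup.centralizer ({e} : Set G) = ⊥) ∧
      ∀ M : Subgroup G, IsCoatom M → ∃ H E : Subgroup G, Group.IsNilpotent H ∧ (∀ L : Subgroup G, Group.IsNilpotent L → H ≤ L → L = H) ∧
        M ≤ Subgroup.normalizer (H : Set G) ∧ Cfsg.IsComplIn H E M ∧ H ≠ ⊥ ∧ E ≠ ⊥ ∧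
        ∀ e ∈ E, e ≠ 1 → H ⊓ Subgroup.centralizer ({e} : Set G) = ⊥ := by
  refine ⟨fun H hH hmax => ?_, fun M hM => ?_⟩
  · have h : Cfsg.Agent.OddLocal.CNMin.IsMaxNilpotent H := ⟨hH, hmax⟩
    obtain ⟨hco, hK⟩ := Cfsg.Agent.OddLocal.CNMin.max_kernel hG hCN h
    obtain ⟨E, hE, hE1, hfpf, -⟩ := hK.compl
    refine ⟨Cfsg.Agent.OddLocal.CNMin.max_hall hG hCN h, fun g hg => ?_, hco, E, hE, hE1, hfpf⟩
    by_contra hne
    exact hg (Cfsg.Agent.OddLocal.CNMin.max_ti hG hCN h g hne)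
  · obtain ⟨K, hK⟩ := Cfsg.Agent.OddLocal.CNMin.coatom_kernel hG hCN hM
    obtain ⟨hn, hmax⟩ := Cfsg.Agent.OddLocal.CNMin.coatom_kernel_max hG hCN hM hK
    obtain ⟨E, hE, hE1, hfpf, -⟩ := hK.compl
    exact ⟨K, E, hn, hmax, hK.norm, hE, hK.ne_bot, hE1, hfpf⟩

end Cfsg.Agent.S1479
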