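import Cfsg.Statements.S1483
import Cfsg.Agent.Lib.OddLocal.CNKernels

set_option autoImplicit false
open Cfsg

namespace Cfsg.Agent.S1483

theorem result {G : Type*} [Group G] [Finite G] (hG : Cfsg.IsMinSimpleOddOrder G) (hCN : Cfsg.IsCNGroup G) :
    (∀ H₁ H₂ : Subgroup G, (Group.IsNilpotent ↥H₁ ∧ ∀ L : Subgroup G, Group.IsNilpotent L → H₁ ≤ L → L = H₁) → (Group.IsNilpotent ↥H₂ ∧ ∀ L : Subgroup G, Group.IsNilpotent L → H₂ ≤ L → L = H₂) → (∃ g : G, H₂ = H₁.map (MulAut.conj g).toMonoidHom) ∨ (Nat.card H₁).Coprime (Nat.card H₂)) ∧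
      ∀ (p q r : ℕ), p.Prime → q.Prime → r.Prime → ∀ (x y y' z : G), x ≠ 1 → y ≠ 1 → y' ≠ 1 → z ≠ 1 →
        IsPGroup p (Subgroup.zpowers x) → IsPGroup q (Subgroup.zpowers y) → IsPGroup q (Subgroup.zpowers y') → IsPGroup r (Subgroup.zpowers z) →
        x * y = y * x → y' * z = z * y' →
        ∃ x' z' : G, x' ≠ 1 ∧ z' ≠ 1 ∧ IsPGroup p (Subgroup.zpowers x') ∧ IsPGroup r (Subgroup.zpowers z') ∧ x' * z' = z' * x' := by
  have conjOrCoprime : ∀ H₁ H₂ : Subgroup G, Cfsg.Agent.OddLocal.CNMin.IsMaxNilpotent H₁ →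
      Cfsg.Agent.OddLocal.CNMin.IsMaxNilpotent H₂ →
      (∃ g : G, H₂ = H₁.map (MulAut.conj g).toMonoidHom) ∨ (Nat.card H₁).Coprime (Nat.card H₂) := by
    intro H₁ H₂ h₁ h₂
    refine or_iff_not_imp_right.2 fun hco => ?_
    obtain ⟨q, hq, hq₁, hq₂⟩ := Nat.Prime.not_coprime_iff_dvd.1 hco
    haveI := Fact.mk hq
    obtain ⟨S₁, -, hS₁, -, -⟩ := Cfsg.Agent.OddLocal.CNMin.kernel_data (p := q) hG hCN h₁ hq₁
    obtain ⟨S₂, hne, hS₂, -, -⟩ := Cfsg.Agent.OddLocal.CNMin.kernel_data (p := q) hG hCN h₂ hq₂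
    obtain ⟨g, -, hg⟩ := (Cfsg.Agent.Fusion.sylIn_top S₁).conj_eq (Cfsg.Agent.Fusion.sylIn_top S₂)
    refine ⟨g, Cfsg.Agent.OddLocal.CNMin.max_eq_of_sylow hG hCN h₂ (h₁.conj g) S₂ hne hS₂ ?_⟩
    rw [← hg]
    exact Cfsg.Agent.Fusion.cj_mono hS₁ g
  refine ⟨fun H₁ H₂ h₁ h₂ => conjOrCoprime H₁ H₂ h₁ h₂, ?_⟩
  intro p q r hp hq hr x y y' z hx hy hy' hz hxp hyq hy'q hzr hxy hyz
  rcases eq_or_ne p r with rfl | hpr
  · exact ⟨x, x, hx, hx, hxp, hxp, rfl⟩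
  haveI := Fact.mk hp
  haveI := Fact.mk hq
  haveI := Fact.mk hr
  obtain ⟨H₁, h₁, hle₁⟩ := Cfsg.Agent.OddLocal.CNMin.exists_maxNilpotent_ge (hCN x hx)
  obtain ⟨H₂, h₂, hle₂⟩ := Cfsg.Agent.OddLocal.CNMin.exists_maxNilpotent_ge (hCN z hz)
  have hxH : x ∈ H₁ := hle₁ (Subgroup.mem_centralizer_singleton_iff.2 rfl)
  have hyH : y ∈ H₁ := hle₁ (Subgroup.mem_centralizer_singleton_iff.2 hxy.symm)
  have hzH : z ∈ H₂ := hle₂ (Subgroup.mem_centralizer_singleton_iff.2 rfl)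
  have hy'H : y' ∈ H₂ := hle₂ (Subgroup.mem_centralizer_singleton_iff.2 hyz)
  have hdvd : ∀ (H : Subgroup G) (w : G), w ∈ H → w ≠ 1 → IsPGroup q (Subgroup.zpowers w) → q ∣ Nat.card H := by
    intro H w hw hw1 hwq
    obtain ⟨n, hn⟩ := IsPGroup.iff_card.1 hwq
    refine dvd_trans ?_ (Subgroup.card_dvd_of_le (Subgroup.zpowers_le.2 hw))
    rw [hn]
    exact dvd_pow_self q fun h => hw1 (Subgroup.zpowers_eq_bot.1 (Subgroup.eq_bot_of_card_eq _ (by rw [hn, h, pow_zero])))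
  obtain ⟨g, hg⟩ := (conjOrCoprime H₁ H₂ h₁ h₂).resolve_right fun hco =>
    hq.ne_one (Nat.eq_one_of_dvd_coprimes hco (hdvd _ y hyH hy hyq) (hdvd _ y' hy'H hy' hy'q))
  obtain ⟨z', hz', hzz⟩ := hg.le hzH
  have hzz' : g * z' * g⁻¹ = z := hzz
  have hz'r : IsPGroup r (Subgroup.zpowers z') := by
    obtain ⟨n, hn⟩ := IsPGroup.iff_card.1 hzr
    refine IsPGroup.of_card (n := n) ?_
    rw [Nat.card_zpowers] at hn ⊢
    rw [← hn, ← hzz', ← orderOf_injective (MulAut.conj g).toMonoidHom (MulAut.conj g).injective z']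
    rfl
  refine ⟨x, z', hx, fun h => hz (by rw [← hzz', h, mul_one, mul_inv_cancel]), hxp, hz'r, ?_⟩
  obtain ⟨a, ha⟩ := hxp ⟨x, Subgroup.mem_zpowers x⟩
  obtain ⟨b, hb⟩ := hz'r ⟨z', Subgroup.mem_zpowers z'⟩
  exact Cfsg.Agent.OddLocal.CN.commute_in h₁.1 hpr hxH hz' ⟨a, congrArg Subtype.val ha⟩ ⟨b, congrArg Subtype.val hb⟩

end Cfsg.Agent.S1483
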