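import Cfsg.Statements.S0385
import Cfsg.Agent.Lib.Spor.GolayStabCount

set_option autoImplicit false
open Cfsg

namespace Cfsg.Agent.S0385

/-- The 6-point intersections of octads with a fixed dodecad form a Steiner system S(5, 6, 12) on the dodecad. -/
theorem result (d : Finset Cfsg.GolayPt) (hd : d ∈ Cfsg.dodecads) : Cfsg.IsSteinerSystem 5 6 {h : Finset {p : Cfsg.GolayPt // p ∈ d} | ∃ o ∈ Cfsg.octads, (o ∩ d).card = 6 ∧ h = Finset.subtype (fun p => p ∈ d) o} := by
  constructor
  · rintro h ⟨o, _, h6, rfl⟩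
    rw [Finset.card_subtype, ← h6, Finset.filter_mem_eq_inter]
  · intro s hs
    set t := s.map (Function.Embedding.subtype _) with ht
    have htc : t.card = 5 := by rw [ht, Finset.card_map, hs]
    have htd : t ⊆ d := Finset.map_subtype_subset s
    obtain ⟨o, ⟨ho, hto⟩, huniq⟩ := Spor.octads_steiner.2 t htc
    have h5 : 5 ≤ (o ∩ d).card := htc ▸ Finset.card_le_card (Finset.subset_inter hto htd)
    have h6 : (o ∩ d).card = 6 := by
      have hw := Spor.codeMasks_weight _ (Spor.mem_supports.1 (Spor.supports_symmDiff ho.1 hd.1))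
      rw [Spor.pc_mask] at hw
      have := Spor.card_symmDiff_add o d
      have := Finset.card_le_card (Finset.inter_subset_left (s₁ := o) (s₂ := d))
      have := ho.2
      have := hd.2
      omega
    have hsub : ∀ o', t ⊆ o' ↔ s ⊆ Finset.subtype (fun p => p ∈ d) o' := by
      intro o'
      rw [ht]
      exact ⟨fun h x hx => Finset.mem_subtype.2 (h (Finset.mem_map.2 ⟨x, hx, rfl⟩)),
        fun h x hx => by
          obtain ⟨y, hy, rfl⟩ := Finset.mem_map.1 hx
          exact Finset.mem_subtype.1 (h hy)⟩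
    refine ⟨Finset.subtype (fun p => p ∈ d) o, ⟨⟨o, ho, h6, rfl⟩, (hsub o).1 hto⟩, ?_⟩
    rintro h ⟨⟨o', ho', _, rfl⟩, hsh⟩
    rw [huniq o' ⟨ho', (hsub o').2 hsh⟩]

end Cfsg.Agent.S0385
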