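import Cfsg.Statements.S4482
import Cfsg.Agent.Lib.Char.DihedralOrder
import Cfsg.Agent.Lib.Char.DihedralHom

set_option autoImplicit false
open Cfsg
open scoped ComplexConjugate

namespace Cfsg.Agent.S4482

/-- An order formula for groups with dihedral Sylow 2-subgroups and one class of involutions. Let G be a finite group whose Sylow 2-subgroup P = ⟨σ, τ⟩ is dihedral of order 2^n ≥ 8 (σ of order 2^(n−1), τ an involution inverting σ), let J be the central involution σ^(2^(n−2)), and suppose J, τ and στ are conjugate in G. Fix M over 2 and let χ₁ be an irreducible character in the principal 2-block taking one constant value δ₁ = ±1 at every non-identity power of σ, with χ₁ ≠ 1. Then, with x₁ = χ₁(1) and c(·) denoting orders of centralizers, x₁ ≠ δ₁ and #G · (x₁ − δ₁)² = 2·x₁(x₁ + δ₁)·c(J)³·(1/c(J, τ) + 1/c(J, στ))², where c(J, y) is the order of the joint centralizer of J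 and y. -/
theorem result {G : Type*} [Group G] [Finite G] (M : Ideal Cfsg.AlgInt) (hM : Cfsg.IsPModular 2 M) (n : ℕ) (hn : 3 ≤ n) (P : Sylow 2 G) (σ τ : G) (hσ : σ ∈ (P : Subgroup G)) (hτ : τ ∈ (P : Subgroup G)) (hσo : orderOf σ = 2 ^ (n - 1)) (hτo : orderOf τ = 2) (hrel : τ * σ * τ⁻¹ = σ⁻¹) (hgen : Subgroup.closure ({σ, τ} : Set G) = (P : Subgroup G)) (hconj : IsConj (σ ^ (2 ^ (n - 2))) τ ∧ IsConj (σ ^ (2 ^ (n - 2))) (σ * τ)) (χ₁ : Cfsg.IrrCharacter G) (hχ₁ : χ₁ ∈ Cfsg.principalBlock M G) (h1 : (χ₁ : G → ℂ) ≠ (fun _ => 1)) (δ₁ : ℤ) (hδ₁ : δ₁ = 1 ∨ δ₁ = -1) (hval : ∀ l : ℕ, 0 < l → l < 2 ^ (n - 1) → (χ₁ : G → ℂ) (σ ^ l) = δ₁) : (Cfsg.charDegree (χ₁ : G → ℂ) : ℤ) ≠ δ₁ ∧ (Nat.card G : ℚ) * ((Cfsg.charDegree (χ₁ : G → ℂ) : ℚ) - δ₁) ^ 2 = 2 * (Cfsg.charDegree (χ₁ : G → ℂ) : ℚ) * ((Cfsg.charDegree (χ₁ : G → ℂ) : ℚ) + δ₁) * (Nat.card (Subgroup.centralizer ({σ ^ (2 ^ (n - 2))}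 : Set G)) : ℚ) ^ 3 * (1 / (Nat.card (Subgroup.centralizer ({σ ^ (2 ^ (n - 2)), τ} : Set G)) : ℚ) + 1 / (Nat.card (Subgroup.centralizer ({σ ^ (2 ^ (n - 2)), σ * τ} : Set G)) : ℚ)) ^ 2 := by
  classical
  letI : Fintype G := Fintype.ofFinite G
  obtain ⟨k, rfl⟩ : ∃ k, n = k + 3 := ⟨n - 3, by omega⟩
  set N := 2 ^ (k + 3 - 1) with hN
  haveI : NeZero N := ⟨by positivity⟩
  have h4 : 4 ∣ N := ⟨2 ^ k, by rw [hN, show k + 3 - 1 = k + 2 by omega, pow_add]; ring⟩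
  have hσ1 : σ ^ N = 1 := by rw [← hσo, pow_orderOf_eq_one]
  have hττ : τ * τ = 1 := by rw [← pow_two, ← hτo, pow_orderOf_eq_one]
  set ι := Cfsg.Agent.Char.dihHom hσ1 hττ hrel with hι
  have hinj : Function.Injective ι := Cfsg.Agent.Char.dihHom_injective h4 hσo hσ1 hττ hrel
  have hr : ∀ l : ℕ, ι (DihedralGroup.r (l : ZMod N)) = σ ^ l :=
    Cfsg.Agent.Char.dihHom_r hσ1 hττ hrel
  have hs0 : ι (DihedralGroup.sr 0) = τ := Cfsg.Agent.Char.dihHom_sr_zero hσ1 hττ hrel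
  have hrange : ι.range = (P : Subgroup G) := by
    refine le_antisymm (Cfsg.Agent.Char.dihHom_range_le hσ1 hττ hrel hσ hτ) ?_
    rw [← hgen, Subgroup.closure_le]
    rintro x (rfl | rfl)
    · exact ⟨DihedralGroup.r ((1 : ℕ) : ZMod N), by rw [hr, pow_one]⟩
    · exact ⟨_, hs0⟩
  have hD : Cfsg.Agent.Char.DihSyl P ι := ⟨h4, ⟨_, rfl⟩, hinj, hrange⟩
  have hH : N / 2 = 2 ^ (k + 3 - 2) := by
    rw [hN, show k + 3 - 1 = (k + 3 - 2) + 1 by omega, pow_succ, Nat.mul_div_cancel _ two_pos]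
  have hJ : Cfsg.Agent.Char.dihJ ι = σ ^ (2 ^ (k + 3 - 2)) := by
    rw [Cfsg.Agent.Char.dihJ, hr, hH]
  have hs1 : ι (DihedralGroup.sr (-1)) = σ * τ := by
    rw [show (DihedralGroup.sr (-1) : DihedralGroup N) =
      DihedralGroup.r ((1 : ℕ) : ZMod N) * DihedralGroup.sr 0 by
        rw [DihedralGroup.r_mul_sr, Nat.cast_one, zero_sub], map_mul, hr, pow_one, hs0]
  have := hD.order_formula hM (by rw [hJ, hs0]; exact hconj.1) (by rw [hJ, hs1]; exact hconj.2) χ₁ hχ₁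
    (fun e => h1 (e ▸ rfl)) δ₁ hδ₁ (fun l hl hlN => by rw [hr]; exact hval l hl hlN)
  rwa [hJ, hs0, hs1] at this

end Cfsg.Agent.S4482
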