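import Cfsg.Statements.S2300
import Cfsg.Agent.Lib.Lead.SL2Ind
import Mathlib

set_option autoImplicit false
open Cfsg

namespace Cfsg.Agent.S2300

/-- Over a finite field F with q elements, q even, every irreducible complex character of SL₂ has degree 1, q − 1, q or q + 1; and when q ≥ 4 (so that these four numbers are distinct) there are exactly one irreducible character of degree 1, one of degree q, (q − 2)/2 of degree q + 1 and q/2 of degree q − 1. -/
theorem result {F : Type*} [Field F] [Fintype F] [CharP F 2] :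
    (∀ χ : Matrix.SpecialLinearGroup (Fin 2) F → ℂ, Cfsg.IsIrrCharacter (Matrix.SpecialLinearGroup (Fin 2) F) χ →
      χ 1 = 1 ∨ χ 1 = (Fintype.card F : ℂ) - 1 ∨ χ 1 = (Fintype.card F : ℂ) ∨ χ 1 = (Fintype.card F : ℂ) + 1) ∧
    (4 ≤ Fintype.card F →
      Nat.card {χ : Cfsg.IrrCharacter (Matrix.SpecialLinearGroup (Fin 2) F) // (χ : Matrix.SpecialLinearGroup (Fin 2) F → ℂ) 1 = 1} = 1 ∧
      Nat.card {χ : Cfsg.IrrCharacter (Matrix.SpecialLinearGroup (Fin 2) F) // (χ : Matrix.SpecialLinearGroup (Fin 2) F → ℂ) 1 = (Fintype.card F : ℂ)} = 1 ∧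
      Nat.card {χ : Cfsg.IrrCharacter (Matrix.SpecialLinearGroup (Fin 2) F) // (χ : Matrix.SpecialLinearGroup (Fin 2) F → ℂ) 1 = (Fintype.card F : ℂ) + 1} = (Fintype.card F - 2) / 2 ∧
      Nat.card {χ : Cfsg.IrrCharacter (Matrix.SpecialLinearGroup (Fin 2) F) // (χ : Matrix.SpecialLinearGroup (Fin 2) F → ℂ) 1 = (Fintype.card F : ℂ) - 1} = Fintype.card F / 2) := by
  classical
  haveI : Fintype (MulChar F ℂ) := Fintype.ofFinite _
  have hq1 := Fintype.one_lt_card (α := F)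
  have h2 : ringChar F = 2 := ringChar.eq F 2
  have hev : Fintype.card F % 2 = 0 := FiniteField.even_card_iff_char_two.1 h2
  constructor
  · intro χ hχ
    obtain ⟨n, hn, hk⟩ := Cfsg.Agent.Lead.SL2.kind hχ
    rw [hn, ← Nat.cast_one, ← Nat.cast_add, ← Nat.cast_sub hq1.le]
    simp only [Nat.cast_inj]
    cases hk with
    | one _ hm => exact Or.inl hm
    | st _ hm => exact Or.inr (Or.inr (Or.inl hm))
    | prin γ _ _ hm => exact Or.inr (Or.inr (Or.inr hm))
    | cusp _ _ _ _ _ hm => exact Or.inr (Or.inl (by omega))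
    | halfPs _ ho _ hm => rw [Nat.odd_iff] at ho; omega
    | halfCusp _ _ _ _ _ ho _ hm => rw [Nat.odd_iff] at ho; omega
  intro h4
  refine ⟨?_, ?_, ?_, ?_⟩
  · exact Cfsg.Agent.Lead.SL2.card_single Cfsg.Agent.Char.isIrrCharacter_one
      (fun χ => Cfsg.Agent.Lead.SL2.deg_one h4 χ.2)
  · exact Cfsg.Agent.Lead.SL2.card_single Cfsg.Agent.Lead.SL2.St0_irr
      (fun χ => Cfsg.Agent.Lead.SL2.deg_q h4 χ.2)
  · rw [Nat.card_congr (Equiv.subtypeEquivRight fun χ => Cfsg.Agent.Lead.SL2.deg_R h4 χ.2)]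
    exact Cfsg.Agent.Lead.SL2.card_prin_even h2
  · rw [Nat.card_congr (Equiv.subtypeEquivRight fun χ => Cfsg.Agent.Lead.SL2.deg_free h4 χ.2)]
    exact Cfsg.Agent.Lead.SL2.card_freeCusp_even h2

end Cfsg.Agent.S2300
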