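import Cfsg.Statements.S0689
import Cfsg.Agent.Lib.Perm.Fpf.Entry

set_option autoImplicit false
open Cfsg

namespace Cfsg.Agent.S0689

open Cfsg.Agent.Perm.Fpf

universe u

theorem sl_pair : ∃ i j z : SL25.SL, i * i = z ∧ j * j = z ∧ z * z = 1 ∧ z ≠ 1 ∧
    i * j = z * (j * i) := by
  refine ⟨⟨!![0, -1; 1, 0], by decide +kernel⟩, ⟨!![2, 0; 0, 3], by decide +kernel⟩,
    ⟨!![-1, 0; 0, -1], by decide +kernel⟩, ?_, ?_, ?_, ?_, ?_⟩ <;>
    first
      | (refine Subtype.ext ?_; decide +kernel)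
      | (intro h; exact absurd (congrArg Subtype.val h) (by decide +kernel))

theorem check_one : ∀ q < 240, 120 % (q + 1) = 0 → (q * q - 1) % 120 = 0 →
    Nat.gcd ((q * q - 1) / 120) 30 = 1 → q = 11 ∨ q = 29 ∨ q = 59 := by decide +kernel

theorem check_two : ∀ q < 240, 240 % (q + 1) = 0 → (q * q - 1) % 240 = 0 →
    Nat.gcd ((q * q - 1) / 240) 30 = 1 → q = 119 := by decide +kernel

theorem numbers {q m j : ℕ} (h119 : q ≠ 119) (hq : 2 ≤ q) (hm : m ∣ q - 1) (hc : m.Coprime 30) (hj : j = 1 ∨ j = 2)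
    (h : q * q - 1 = 120 * m * j) :
    j = 1 ∧ (q = 11 ∧ m = 1 ∨ q = 29 ∧ m = 7 ∨ q = 59 ∧ m = 29) := by
  obtain ⟨t, ht⟩ := hm
  have hm0 : 0 < m := by
    rcases Nat.eq_zero_or_pos m with rfl | h0
    · simp at ht; omega
    · exact h0
  have hsq : q * q - 1 = (q + 1) * (q - 1) := by simpa using Nat.sq_sub_sq q 1 |>.symm ▸ (by simp [sq])
  have h1 : (q + 1) * t = 120 * j := by
    have : m * ((q + 1) * t) = m * (120 * j) := by
      rw [hsq, ht] at h
      linarith
    exact Nat.eq_of_mul_eq_mul_left hm0 this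
  have hd : q + 1 ∣ 120 * j := ⟨t, h1.symm⟩
  have hle := Nat.le_of_dvd (by omega) hd
  have hq' : q < 240 := by omega
  rcases hj with rfl | rfl
  · refine ⟨rfl, ?_⟩
    rw [mul_one] at hd h
    rcases check_one q hq' (Nat.mod_eq_zero_of_dvd hd) (by omega) (by
      rw [h, Nat.mul_div_cancel_left m (by norm_num)]; exact hc) with rfl | rfl | rfl <;> omega
  · exact absurd (check_two q hq' (Nat.mod_eq_zero_of_dvd hd) (by omega) (by
      rw [h, show 120 * m * 2 = 240 * m by ring, Nat.mul_div_cancel_left m (by norm_num)]; exact hc))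
      h119

theorem half {K : Type} [Field K] (h2 : (2 : K) ≠ 0) {V : Type u} [AddCommGroup V] [Module K V]
    (T U : Module.End K V) (hT : T * T = 1) (hU : U * U = -1) (hTU : T * U = -(U * T)) :
    Nonempty (V ≃ ({x : V // T x = x} × {x : V // T x = x})) := by
  have eT : ∀ x, T (T x) = x := fun x => LinearMap.congr_fun hT x
  have eU : ∀ x, U (U x) = -x := fun x => LinearMap.congr_fun hU x
  have eTU : ∀ x, T (U x) = -U (T x) := fun x => LinearMap.congr_fun hTU x
  refine ⟨{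
    toFun := fun x => (⟨(2 : K)⁻¹ • (x + T x), by rw [map_smul, map_add, eT, add_comm]⟩,
      ⟨(2 : K)⁻¹ • U (x - T x), by rw [map_smul, eTU, map_sub, eT, ← map_neg, neg_sub]⟩)
    invFun := fun p => (p.1 : V) - U (p.2 : V)
    left_inv := fun x => ?_
    right_inv := fun p => ?_ }⟩
  · show (2 : K)⁻¹ • (x + T x) - U ((2 : K)⁻¹ • U (x - T x)) = x
    rw [map_smul, eU, ← smul_sub, show x + T x - -(x - T x) = (2 : K) • x by
      rw [two_smul]; abel, smul_smul, inv_mul_cancel₀ h2, one_smul]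
  · obtain ⟨⟨a, ha⟩, ⟨b, hb⟩⟩ := p
    have e : T (a - U b) = a + U b := by rw [map_sub, eTU, ha, hb, sub_neg_eq_add]
    refine Prod.ext (Subtype.ext ?_) (Subtype.ext ?_)
    · show (2 : K)⁻¹ • (a - U b + T (a - U b)) = a
      rw [e, show a - U b + (a + U b) = (2 : K) • a by rw [two_smul]; abel, smul_smul,
        inv_mul_cancel₀ h2, one_smul]
    · show (2 : K)⁻¹ • U (a - U b - T (a - U b)) = b
      rw [e, show a - U b - (a + U b) = -((2 : K) • U b) by rw [two_smul]; abel, map_neg, map_smul, eU]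
      simp [smul_smul, h2]

variable {p : ℕ} [Fact p.Prime] {G : Type u} [Group G] [Finite G] {V : Type u} [AddCommGroup V]
  [Module (ZMod p) V] [Finite V]

theorem card_dvd_half (h2 : (2 : ZMod p) ≠ 0) (μ : G →* Module.End (ZMod p) V)
    (hμ : ∀ g, g ≠ 1 → ∀ x, μ g x = x → x = 0) {S M : Subgroup G}
    (hcomm : ∀ s ∈ S, ∀ x ∈ M, s * x = x * s) (hS : Nonempty (S ≃* SL25.SL)) :
    ∃ q, Nat.card V = q * q ∧ Nat.card M ∣ q - 1 := by
  obtain ⟨e⟩ := hS
  obtain ⟨i₀, j₀, z₀, hi, hj, hz, hz1, hij⟩ := sl_pair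
  let f : SL25.SL →* Module.End (ZMod p) V := μ.comp (S.subtype.comp e.symm.toMonoidHom)
  have hfz : f z₀ = -1 := by
    refine LinearMap.ext fun x => ?_
    have hne : ((e.symm z₀ : S) : G) ≠ 1 := fun h =>
      hz1 (e.symm.map_eq_one_iff.1 (Subtype.ext h))
    have hzz : ∀ y, f z₀ (f z₀ y) = y := fun y => by
      rw [← Module.End.mul_apply, ← map_mul, hz, map_one, Module.End.one_apply]
    have h0 := hμ _ hne (x + f z₀ x) (by
      show f z₀ (x + f z₀ x) = x + f z₀ x
      rw [map_add, hzz, add_comm])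
    simpa using eq_neg_of_add_eq_zero_right h0
  obtain ⟨a, b, hab⟩ := ZMod.sq_add_sq p (-1)
  set I := f i₀
  set J := f j₀
  have hI : I * I = -1 := by rw [← map_mul, hi, hfz]
  have hJ : J * J = -1 := by rw [← map_mul, hj, hfz]
  have hIJ : I * J = -(J * I) := by rw [← map_mul, hij, map_mul, map_mul, hfz, neg_one_mul]
  set T := a • I + b • J with hT
  have hTT : T * T = 1 := by
    rw [hT, add_mul, mul_add, mul_add, smul_mul_smul_comm, smul_mul_smul_comm, smul_mul_smul_comm,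
      smul_mul_smul_comm, hI, hJ, hIJ, mul_comm b a, smul_neg, smul_neg, smul_neg]
    rw [show -((a * a) • (1 : Module.End (ZMod p) V)) + -((a * b) • (J * I)) +
        ((a * b) • (J * I) + -((b * b) • 1)) = (-(a ^ 2 + b ^ 2)) • 1 by
      rw [neg_smul, add_smul, sq, sq]; abel, hab, neg_neg, one_smul]
  have hU : I * J * (I * J) = -1 := by
    rw [show I * J * (I * J) = I * (J * I) * J by simp [mul_assoc],
      show J * I = -(I * J) by rw [hIJ, neg_neg], mul_neg, neg_mul, ← mul_assoc I I J, hI,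
      neg_one_mul, neg_mul, neg_neg, hJ]
  have hTU : T * (I * J) = -(I * J * T) := by
    have e1 : I * J * I = J := by
      rw [hIJ, neg_mul, mul_assoc, hI, mul_neg, mul_one, neg_neg]
    have e2 : J * (I * J) = I := by
      rw [hIJ, mul_neg, ← mul_assoc, hJ, neg_one_mul, neg_neg]
    rw [hT, add_mul, mul_add, smul_mul_assoc, smul_mul_assoc, mul_smul_comm, mul_smul_comm,
      ← mul_assoc, hI, e1, e2, mul_assoc I J J, hJ, neg_one_mul, mul_neg, mul_one, smul_neg,
      smul_neg, neg_add, neg_neg, add_comm]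
  obtain ⟨eq⟩ := half h2 T (I * J) hTT hU hTU
  refine ⟨Nat.card {x : V // T x = x}, by rw [Nat.card_congr eq, Nat.card_prod], ?_⟩
  let W := {x : {x : V // T x = x} // (x : V) ≠ 0}
  have hinv : ∀ m ∈ M, ∀ x, T x = x → T (μ m x) = μ m x := by
    intro m hm x hx
    have hc : ∀ s : SL25.SL, f s * μ m = μ m * f s := fun s => by
      show μ _ * μ m = μ m * μ _
      rw [← map_mul, ← map_mul]
      exact congrArg μ (hcomm _ (e.symm s).2 m hm)
    have hTm : T * μ m = μ m * T := by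
      rw [hT, add_mul, mul_add, smul_mul_assoc, smul_mul_assoc, mul_smul_comm, mul_smul_comm, hc, hc]
    have := LinearMap.congr_fun hTm x
    rw [Module.End.mul_apply, Module.End.mul_apply, hx] at this
    exact this
  have hne : ∀ (g : G) (x : V), x ≠ 0 → μ g x ≠ 0 := fun g x hx h => hx (by
    have := congrArg (μ g⁻¹) h
    rwa [map_zero, ← Module.End.mul_apply, ← map_mul, inv_mul_cancel, map_one] at this)
  letI : MulAction M W :=
    { smul := fun m x => ⟨⟨μ m x.1.1, hinv m m.2 _ x.1.2⟩, hne _ _ x.2⟩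
      one_smul := fun x => Subtype.ext (Subtype.ext (show μ ((1 : M) : G) x.1.1 = x.1.1 by
        rw [OneMemClass.coe_one, map_one]; rfl))
      mul_smul := fun m k x => Subtype.ext (Subtype.ext
        (show μ ((m * k : M) : G) x.1.1 = μ m (μ k x.1.1) by
          rw [Subgroup.coe_mul, map_mul]; rfl)) }
  have hfree : ∀ x : W, MulAction.stabilizer M x = ⊥ := fun x => by
    rw [eq_bot_iff]
    intro m hm
    by_contra hm1
    exact x.2 (hμ m (fun h => hm1 (Subtype.ext h)) _
      (congrArg (fun y : W => (y.1 : V)) (MulAction.mem_stabilizer_iff.1 hm)))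
  have hcard : Nat.card W = Nat.card {x : V // T x = x} - 1 := by
    classical
    haveI := Fintype.ofFinite {x : V // T x = x}
    let o : {x : V // T x = x} := ⟨0, map_zero T⟩
    rw [Nat.card_eq_fintype_card, Nat.card_eq_fintype_card]
    rw [← Set.card_ne_eq o]
    exact Fintype.card_congr (Equiv.subtypeEquivRight fun x => by simp [Subtype.ext_iff, o])
  rw [← hcard, Nat.card_congr (MulAction.selfEquivOrbitsQuotientProd hfree), Nat.card_prod]
  exact Dvd.intro_left _ rfl

theorem cyclic_iso {M : Type u} [Group M] [Finite M] {m : ℕ} [Fact m.Prime] (h : Nat.card M = m) :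
    Nonempty (M ≃* Multiplicative (ZMod m)) := by
  haveI : IsCyclic M := isCyclic_of_prime_card h
  haveI : NeZero m := ⟨(Fact.out : m.Prime).ne_zero⟩
  exact ⟨mulEquivOfCyclicCardEq (by rw [h, Nat.card_congr Multiplicative.toAdd, Nat.card_zmod])⟩


/-- The insoluble sharply doubly transitive groups: a non-solvable linear group over the prime field that is regular on the non-zero vectors of `V` occurs only for `|V| = 11², 29², 59²`, and is `SL(2,5) × C_m` with `m = 1, 7, 29` respectively. -/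
theorem result {p : ℕ} [Fact p.Prime] {V : Type*} [AddCommGroup V] [Module (ZMod p) V] [Finite V] (H : Subgroup (V ≃ₗ[ZMod p] V)) (hreg : ∀ v w : V, v ≠ 0 → w ≠ 0 → ∃! h : H, (h : V ≃ₗ[ZMod p] V) v = w) (hsolv : ¬ Group.IsSolvable H) : (Nat.card V = 121 ∧ Nonempty (H ≃* Matrix.SpecialLinearGroup (Fin 2) (ZMod 5))) ∨ (Nat.card V = 841 ∧ Nonempty (H ≃* Matrix.SpecialLinearGroup (Fin 2) (ZMod 5) × Multiplicative (ZMod 7))) ∨ (Nat.card V = 3481 ∧ Nonempty (H ≃* Matrix.SpecialLinearGroup (Fin 2) (ZMod 5) × Multiplicative (ZMod 29))) := by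
  open Cfsg.Agent.Perm.Fpf in
  let μ : H →* Module.End (ZMod p) V :=
    { toFun := fun g => ((g : V ≃ₗ[ZMod p] V) : V →ₗ[ZMod p] V)
      map_one' := rfl
      map_mul' := fun a b => rfl }
  have hμ : ∀ g, g ≠ 1 → ∀ x, μ g x = x → x = 0 := by
    intro g hg x hx
    by_contra hx0
    exact hg ((hreg x x hx0 hx0).unique hx rfl)
  haveI : Nontrivial V := by
    by_contra hV
    rw [not_nontrivial_iff_subsingleton] at hV
    haveI : Subsingleton (V ≃ₗ[ZMod p] V) := ⟨fun a b => LinearEquiv.ext fun x => Subsingleton.elim _ _⟩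
    exact hsolv inferInstance
  haveI : Finite H := Finite.of_injective (fun g : H => ((g : V ≃ₗ[ZMod p] V) : V → V))
    fun a b h => Subtype.ext (LinearEquiv.ext (congrFun h))
  obtain ⟨G₀, hG₀n, hidx, S, M, hsup, hinf, hcomm, hS, hMz, hMc⟩ :=
    (hasFpf_of_linear μ hμ).nonsolvable_structure hsolv
  obtain ⟨v, hv⟩ := exists_ne (0 : V)
  have hHV : Nat.card H = Nat.card V - 1 := by
    classical
    haveI := Fintype.ofFinite V
    rw [Nat.card_eq_fintype_card (α := V), ← Set.card_ne_eq (0 : V), ← Nat.card_eq_fintype_card]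
    refine Nat.card_eq_of_bijective (fun g : H => (⟨μ g v, fun h => hv
      (LinearEquiv.map_eq_zero_iff (g : V ≃ₗ[ZMod p] V) |>.1 h)⟩ : ({x : V | x ≠ 0} : Set V))) ⟨?_, ?_⟩
    · intro g k hgk
      have e : μ g v = μ k v := congrArg Subtype.val hgk
      exact (hreg v (μ g v) hv (fun h => hv
        (LinearEquiv.map_eq_zero_iff (g : V ≃ₗ[ZMod p] V) |>.1 h))).unique rfl e.symm
    · intro w
      obtain ⟨g, hg, -⟩ := hreg v w hv w.2
      exact ⟨g, Subtype.ext hg⟩
  let φ : S × M →* H := MonoidHom.noncommCoprod S.subtype M.subtype (fun s x => hcomm s s.2 x x.2)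
  have hφinj : Function.Injective φ := by
    rw [injective_iff_map_eq_one]
    rintro ⟨s, x⟩ h
    have hsx : (s : H) * x = 1 := h
    have hs : (s : H) ∈ S ⊓ M := Subgroup.mem_inf.2 ⟨s.2, (eq_inv_of_mul_eq_one_left hsx).symm ▸ M.inv_mem x.2⟩
    rw [hinf, Subgroup.mem_bot] at hs
    rw [hs, one_mul] at hsx
    exact Prod.ext (Subtype.ext hs) (Subtype.ext hsx)
  have hφrange : φ.range = G₀ := by
    rw [← hsup]
    refine le_antisymm ?_ (sup_le ?_ ?_)
    · rintro _ ⟨⟨s, x⟩, rfl⟩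
      exact mul_mem (Subgroup.mem_sup_left s.2) (Subgroup.mem_sup_right x.2)
    · exact fun s hs => ⟨(⟨s, hs⟩, 1), mul_one s⟩
    · exact fun x hx => ⟨(1, ⟨x, hx⟩), one_mul x⟩
  have hcardG₀ : Nat.card G₀ = 120 * Nat.card M := by
    rw [← hφrange, Nat.card_congr (MonoidHom.ofInjective hφinj).toEquiv.symm, Nat.card_prod,
      card_block hS]
  have hHc : Nat.card V - 1 = 120 * Nat.card M * G₀.index := by
    rw [← hHV, ← hcardG₀, Subgroup.card_mul_index]
  have h2 : (2 : ZMod p) ≠ 0 := by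
    rw [show (2 : ZMod p) = ((2 : ℕ) : ZMod p) by norm_num, Ne, ZMod.natCast_eq_zero_iff]
    intro hd
    haveI : Module.Finite (ZMod p) V := Module.Finite.of_finite
    have hp2 := (Nat.prime_dvd_prime_iff_eq Fact.out Nat.prime_two).1 hd
    subst hp2
    have hpow := Module.natCard_eq_pow_finrank (K := ZMod 2) (V := V)
    rw [Nat.card_zmod] at hpow
    obtain ⟨k, hk⟩ := Nat.exists_eq_succ_of_ne_zero (Module.finrank_pos (R := ZMod 2) (M := V)).ne'
    rw [hk, pow_succ] at hpow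
    have hM0 : 0 < Nat.card M := Nat.card_pos
    have := Nat.two_pow_pos k
    have : Nat.card V - 1 = 2 * (60 * Nat.card M * G₀.index) := by rw [hHc]; ring
    omega
  obtain ⟨q, hVq, hMq⟩ := card_dvd_half h2 μ hμ hcomm hS
  have hq2 : 2 ≤ q := by
    have := Finite.one_lt_card (α := V)
    rcases q with _ | _ | q <;> simp_all
  rw [hVq] at hHc
  have h119 : q ≠ 119 := by
    rintro rfl
    haveI : Module.Finite (ZMod p) V := Module.Finite.of_finite
    have hpow := Module.natCard_eq_pow_finrank (K := ZMod p) (V := V)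
    rw [Nat.card_zmod, hVq] at hpow
    have h7 := (show Nat.Prime 7 by norm_num).dvd_of_dvd_pow (show 7 ∣ p ^ Module.finrank (ZMod p) V by rw [← hpow]; norm_num)
    have h17 := (show Nat.Prime 17 by norm_num).dvd_of_dvd_pow (show 17 ∣ p ^ Module.finrank (ZMod p) V by rw [← hpow]; norm_num)
    rw [Nat.prime_dvd_prime_iff_eq (by norm_num) Fact.out] at h7 h17
    omega
  obtain ⟨hj, hcase⟩ := numbers h119 hq2 hMq hMc hidx hHc
  have hsur : Function.Surjective φ := by
    rw [← MonoidHom.range_eq_top, hφrange, Subgroup.index_eq_one.1 hj]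
  let e : S × M ≃* H := MulEquiv.ofBijective φ ⟨hφinj, hsur⟩
  obtain ⟨eS⟩ := hS
  rcases hcase with ⟨rfl, hm⟩ | ⟨rfl, hm⟩ | ⟨rfl, hm⟩
  · haveI := (Nat.card_eq_one_iff_unique.1 hm).1
    haveI : Unique M := uniqueOfSubsingleton 1
    exact Or.inl ⟨hVq, ⟨(e.symm.trans MulEquiv.prodUnique).trans eS⟩⟩
  · haveI : Fact (Nat.Prime 7) := ⟨by norm_num⟩
    obtain ⟨eM⟩ := cyclic_iso hm
    exact Or.inr (Or.inl ⟨hVq, ⟨e.symm.trans (eS.prodCongr eM)⟩⟩)
  · haveI : Fact (Nat.Prime 29) := ⟨by norm_num⟩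
    obtain ⟨eM⟩ := cyclic_iso hm
    exact Or.inr (Or.inr ⟨hVq, ⟨e.symm.trans (eS.prodCongr eM)⟩⟩)

end Cfsg.Agent.S0689
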