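import Cfsg.Statements.S0688
import Cfsg.Agent.Lib.Perm.Fpf.Semilinear

set_option autoImplicit false
set_option linter.style.haveILetI false
open Cfsg

namespace Cfsg.Agent.S0688

open Cfsg.Agent.Perm.Fpf

theorem three_sq : ∀ c : ZMod 3, c = 0 ∨ c * c = 1 := by decide

/-- Degrees of the soluble exceptional sharply doubly transitive groups: if a solvable linear group over the prime field is regular on the non-zero vectors of `V` and has no irreducible cyclic normal subgroup, then `V` has 25, 49, 121 or 529 elements. -/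
theorem result {p : ℕ} [Fact p.Prime] {V : Type*} [AddCommGroup V] [Module (ZMod p) V] [Finite V] (H : Subgroup (V ≃ₗ[ZMod p] V)) (hreg : ∀ v w : V, v ≠ 0 → w ≠ 0 → ∃! h : H, (h : V ≃ₗ[ZMod p] V) v = w) (hI : ∀ A : Subgroup H, A.Normal → IsCyclic A → ∃ W : Submodule (ZMod p) V, W ≠ ⊥ ∧ W ≠ ⊤ ∧ ∀ a ∈ A, ∀ v ∈ W, ((a : H) : V ≃ₗ[ZMod p] V) v ∈ W) (hsolv : Group.IsSolvable H) : Nat.card V = 25 ∨ Nat.card V = 49 ∨ Nat.card V = 121 ∨ Nat.card V = 529 := by
  classical
  haveI := Semilinear.exists_proper hI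
  haveI := Semilinear.finite_H H
  haveI := hsolv
  obtain ⟨A, ⟨hAn, hAc⟩, hmax⟩ := Set.exists_max_image {A : Subgroup H | A.Normal ∧ IsMulCommutative A}
    (fun A : Subgroup H => Nat.card A) (Set.toFinite _) ⟨⊥, inferInstance, inferInstance⟩
  haveI := hAn
  have hAmax : ∀ B : Subgroup H, B.Normal → IsMulCommutative B → A ≤ B → B = A := fun B hB hBc hle =>
    (Subgroup.eq_of_le_of_card_ge hle (hmax B ⟨hB, hBc⟩)).symm
  obtain ⟨W, hW, hWt⟩ := Semilinear.exists_W hreg hI A hAn hAc
  obtain ⟨N, -, hN⟩ := Semilinear.exists_minNon A (inferInstance : (Subgroup.centralizer (A : Set H)).Normal) le_rfl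
    (Semilinear.centralizer_not_comm hreg A hAc hAmax hW hWt).2
  obtain ⟨k, m, i, hk, hm, hik, hi, hV, hn, hQ, -⟩ := Semilinear.count hreg hAc hAmax hN hW hWt
  have hQ8 : Nonempty (N ≃* QuaternionGroup 2) := (Semilinear.minNon_iso hreg hAc hAmax hN).resolve_right fun h =>
    not_solvable_of_iso h inferInstance
  obtain ⟨h1, h2⟩ := hQ hQ8
  have hi0 : i ≠ 0 := hi ▸ Subgroup.index_ne_zero_of_finite
  obtain ⟨rfl, rfl, hp⟩ := Semilinear.numbers_quat Fact.out h2 hk hm hi0 hik h1
  rw [pow_one] at hV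
  rw [hV]
  rcases hp with rfl | rfl | rfl | rfl | rfl
  · exfalso
    have hH : Nat.card H = 8 := by have := Semilinear.card_H hreg; omega
    obtain ⟨e⟩ := hQ8
    set x : N := e.symm (QuaternionGroup.a 1)
    have hxo : orderOf (x : H) = 4 := by
      rw [Subgroup.orderOf_coe, MulEquiv.orderOf_eq]; exact QuaternionGroup.orderOf_a_one
    have hidx : (Subgroup.zpowers (x : H)).index = 2 := by
      have h := Subgroup.card_mul_index (Subgroup.zpowers (x : H))
      rw [Nat.card_zpowers, hxo, hH] at h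
      omega
    obtain ⟨W0, hW0, hW0t, hW0i⟩ := hI _ (Subgroup.normal_of_index_eq_two hidx) inferInstance
    have hfin : Module.finrank (ZMod 3) W0 = 1 := by
      have h2 := Submodule.finrank_lt hW0t
      have h3 : Module.finrank (ZMod 3) W0 ≠ 0 := fun e => hW0 (Submodule.finrank_eq_zero.1 e)
      omega
    obtain ⟨v, hv0, hv⟩ := (finrank_eq_one_iff').1 hfin
    obtain ⟨c, hc⟩ := hv ⟨_, hW0i (x : H) (Subgroup.mem_zpowers _) v v.2⟩
    have hc1 : Semilinear.rho H (x : H) (v : V) = c • (v : V) := (congrArg Subtype.val hc).symm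
    have hc3 : ∀ c : ZMod 3, c = 0 ∨ c * c = 1 := three_sq
    have hcc : c * c = 1 := by
      rcases hc3 c with rfl | hcc
      · rw [zero_smul] at hc1
        exact absurd (by rw [← Semilinear.rho_inv_apply (x : H) (v : V), hc1, map_zero]) (fun e : (v : V) = 0 => hv0 (Subtype.ext e))
      · exact hcc
    have hsq : Semilinear.rho H ((x : H) * (x : H)) (v : V) = v := by
      rw [Semilinear.rho_mul_apply, hc1, map_smul, hc1, smul_smul, hcc, one_smul]
    have h4 : (x : H) ^ 2 ≠ 1 := fun e => by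
      have := Nat.le_of_dvd (by norm_num) (orderOf_dvd_of_pow_eq_one e)
      omega
    exact hv0 (Subtype.ext (Semilinear.fpf hreg _ (by rwa [← pow_two]) (v : V) hsq))
  all_goals norm_num

end Cfsg.Agent.S0688
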