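import Cfsg.Statements.S3361
import Mathlib
import Cfsg.Agent.Lib.Lie.HuppertRegular
import Cfsg.Agent.S0688
-- import your own Cfsg.Agent.* helpers here

set_option autoImplicit false
open Cfsg

namespace Cfsg.Agent.S3361

/-- Let q be a prime and V a non-trivial finite vector space over the field with q elements, and let G be a finite solvable group acting faithfully and linearly on V and regularly on the non-zero vectors (transitively, with only the identity fixing a non-zero vector). Then either V can be identified with the additive group of a finite field F so that every element of G acts as x ↦ a·σ(x) (a ∈ F, σ a field automorphism), or V has 5^2, 7^2, 11^2 or 23^2 elements. Moreover, if q ≠ 2 then G has a normal subgroup of index 2, except that when V has 25 elements G may be isomorphic to SL(2,3) and when V has 121 elements G may be isomorphic to SL(2,3) × C₅. -/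
theorem result
    (q : ℕ) [Fact q.Prime] {V : Type*} [AddCommGroup V] [Module (ZMod q) V] [Finite V] [Nontrivial V]
    {G : Type*} [Group G] [Finite G] (hsol : Group.IsSolvable G)
    (ρ : G →* (V ≃ₗ[ZMod q] V)) (hρ : Function.Injective ρ)
    (htrans : ∀ v w : V, v ≠ 0 → w ≠ 0 → ∃ g : G, ρ g v = w)
    (hreg : ∀ v : V, v ≠ 0 → ∀ g : G, ρ g v = v → g = 1) :
    ((∃ (F : Type) (_ : Field F) (_ : Fintype F) (e : V ≃+ F),
        ∀ g : G, ∃ (a : F) (σ : F ≃+* F), ∀ v : V, e (ρ g v) = a * σ (e v)) ∨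
      Nat.card V ∈ ({25, 49, 121, 529} : Set ℕ)) ∧
    (q ≠ 2 → (∃ N : Subgroup G, N.Normal ∧ N.index = 2) ∨
      (Nat.card V = 25 ∧ Nonempty (G ≃* Matrix.SpecialLinearGroup (Fin 2) (ZMod 3))) ∨
      (Nat.card V = 121 ∧ Nonempty (G ≃* Matrix.SpecialLinearGroup (Fin 2) (ZMod 3) × Multiplicative (ZMod 5)))) := by
  classical

  haveI := hsol
  set H : Subgroup (V ≃ₗ[ZMod q] V) := ρ.range with hH
  let i : G ≃* H := MonoidHom.ofInjective hρ
  have hreg' : ∀ v w : V, v ≠ 0 → w ≠ 0 → ∃! h : H, (h : V ≃ₗ[ZMod q] V) v = w := by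
    intro v w hv hw
    obtain ⟨g, hg⟩ := htrans v w hv hw
    refine ⟨i g, hg, fun h hh => ?_⟩
    obtain ⟨g', rfl⟩ := i.surjective h
    have h1 : g⁻¹ * g' = 1 := hreg v hv _ (by
      rw [map_mul, map_inv]
      show (ρ g).symm (ρ g' v) = v
      rw [show ρ g' v = w from hh, ← hg, LinearEquiv.symm_apply_apply])
    rw [← inv_mul_eq_one.1 h1]
  haveI hsolH : Group.IsSolvable H := solvable_of_surjective (f := i.toMonoidHom) i.surjective
  haveI := Cfsg.Agent.Perm.Fpf.Semilinear.finite_H H
  have hcardH := Cfsg.Agent.Perm.Fpf.Semilinear.card_H hreg'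
  by_cases hI : ∀ A : Subgroup H, A.Normal → IsCyclic A → ∃ W : Submodule (ZMod q) V,
      W ≠ ⊥ ∧ W ≠ ⊤ ∧ ∀ a ∈ A, ∀ v ∈ W, ((a : H) : V ≃ₗ[ZMod q] V) v ∈ W
  · have hV := S0688.result H hreg' hI hsolH
    refine ⟨Or.inr (by simpa using hV), fun _ => ?_⟩
    by_contra hcon
    rw [not_or, not_or] at hcon
    obtain ⟨hc1, hc2, hc3⟩ := hcon
    have hno : ∀ N : Subgroup H, N.Normal → N.index ≠ 2 := fun N hN hN2 => by
      haveI := hN
      exact hc1 ⟨N.comap i.toMonoidHom, inferInstance, by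
        exact (Subgroup.index_comap_of_surjective N (f := i.toMonoidHom) i.surjective).trans hN2⟩
    rcases Cfsg.Agent.Lie.HuppertRegular.index_two_or_exceptional
        (Cfsg.Agent.Perm.Fpf.Semilinear.fpf hreg') (by omega) hno with ⟨hc, ⟨j⟩⟩ | ⟨hc, ⟨j⟩⟩
    · exact hc2 ⟨by omega, ⟨i.trans j⟩⟩
    · exact hc3 ⟨by omega, ⟨i.trans j⟩⟩
  · push Not at hI
    obtain ⟨A, hAn, hAc, hA⟩ := hI
    haveI := hAn
    haveI := hAc
    obtain ⟨F, iF, iFF, e, he⟩ := Cfsg.Agent.Lie.HuppertRegular.semilinear_of_irreducible H A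
      IsCyclic.isMulCommutative (fun W hW => by
        by_contra hne
        rw [not_or] at hne
        obtain ⟨a, ha, v, hv, hv'⟩ := hA W hne.1 hne.2
        exact hv' (hW a ha v hv))
    have heG : ∀ g : G, ∃ (a : F) (σ : F ≃+* F), ∀ v : V, e (ρ g v) = a * σ (e v) := fun g => he (i g)
    refine ⟨Or.inl ⟨F, iF, iFF, e, heG⟩, fun hq => Or.inl ?_⟩
    refine Cfsg.Agent.Lie.HuppertRegular.index_two_of_semilinear (F := F) ?_ (fun g v => ρ g v)
      (fun g h x => by rw [map_mul]; rfl) (fun x => by rw [map_one]; rfl) e heG htrans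
    intro hchar
    haveI : CharP F 2 := hchar ▸ ringChar.charP F
    have h1 : ((q : ℕ) : F) = 0 := by
      have h2 : q • (e.symm 1 : V) = 0 := by
        rw [← Nat.cast_smul_eq_nsmul (ZMod q), ZMod.natCast_self, zero_smul]
      have := congrArg e h2
      rwa [map_nsmul, e.apply_symm_apply, map_zero, nsmul_one] at this
    rw [CharP.cast_eq_zero_iff F 2] at h1
    exact hq ((Nat.prime_dvd_prime_iff_eq Nat.prime_two Fact.out).1 h1).symm

end Cfsg.Agent.S3361
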