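import Cfsg.Statements.S0727
import Mathlib
import Cfsg.Agent.Lib.Lie.SharpBasic
import Cfsg.Agent.Lib.Lie.SharpStructure
import Cfsg.Agent.Lib.Lie.SharpPGL
-- import your own Cfsg.Agent.* helpers here

set_option autoImplicit false
open Cfsg

namespace Cfsg.Agent.S0727

/-- A sharply triply transitive permutation group of degree `2^f + 1` is isomorphic to the projective general linear group of degree 2 over the field with `2^f` elements. -/
theorem result {α : Type*} [Fintype α] [DecidableEq α] {f : ℕ} (hf : 1 ≤ f) (hα : Fintype.card α = 2 ^ f + 1) (G : Subgroup (Equiv.Perm α)) (h3 : MulAction.IsMultiplyPretransitive G α 3) (hsharp : ∀ x : Fin 3 ↪ α, MulAction.stabilizer G x = ⊥) : ∃ (F : Type) (_ : Field F) (_ : Fintype F), Fintype.card F = 2 ^ f ∧ Nonempty (G ≃* Matrix.ProjGenLinGroup (Fin 2) F) := by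
  classical
  haveI : Fact (Nat.Prime 2) := ⟨Nat.prime_two⟩
  have hq : 2 ≤ 2 ^ f := Nat.le_self_pow (by omega) 2
  have ht := Cfsg.Agent.Lie.SharpBasic.three_point hsharp
  have h2 := Cfsg.Agent.Lie.SharpBasic.two_trans h3 (by omega : 3 ≤ Fintype.card α)
  obtain ⟨a, b, hab⟩ := Fintype.exists_pair_of_one_lt_card (by omega : 1 < Fintype.card α)
  by_cases hbig : 4 ≤ Fintype.card α
  · have hcard := Cfsg.Agent.Lie.SharpBasic.card_two h3 ht hab (by omega)
    refine Cfsg.Agent.Lie.SharpCoords.with_coords h2 ht hab hcard hbig ?_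
    intro p' f' hpp V _ _ _ _ ρ π t e τ T z C
    have h1 : p' ^ f' = 2 ^ f := by
      have := C.card
      rw [C.pf] at this
      omega
    have he : p' = 2 := by
      rcases Nat.eq_zero_or_pos f' with rfl | hf'
      · rw [pow_zero] at h1; omega
      exact (Nat.prime_dvd_prime_iff_eq hpp.out Nat.prime_two).1
        (hpp.out.dvd_of_dvd_pow (n := f) (h1 ▸ dvd_pow_self p' (by omega)))
    obtain ⟨F, iF, iFF, hF, hiso⟩ := Cfsg.Agent.Lie.SharpPGL.pgl_of_comm h2 hab C
      (Cfsg.Agent.Lie.SharpStructure.comm_even C he)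
    exact ⟨F, iF, iFF, hF.trans h1, hiso⟩
  · -- three points
    have h3' : Fintype.card α = 3 := by omega
    have hf1 : 2 ^ f = 2 := by omega
    refine ⟨ZMod 2, inferInstance, inferInstance, by rw [ZMod.card, hf1], ?_⟩
    obtain ⟨c, hc⟩ : ∃ c, c ∈ ({a, b} : Finset α)ᶜ := by
      refine Finset.card_pos.1 ?_
      rw [Finset.card_compl, Finset.card_pair hab]
      omega
    rw [Finset.mem_compl, Finset.mem_insert, Finset.mem_singleton, not_or] at hc
    have hall : ∀ y, y = a ∨ y = b ∨ y = c := by
      intro y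
      have he : ({a, b, c} : Finset α) = Finset.univ := Finset.eq_univ_of_card _ (by
        rw [Finset.card_eq_three.2 ⟨a, b, c, hab, Ne.symm hc.1, Ne.symm hc.2, rfl⟩, h3'])
      have := he ▸ Finset.mem_univ y
      simpa using this
    obtain ⟨s, hsa, hsb, hsc⟩ := Cfsg.Agent.Lie.SharpBasic.exists_move h3 hab (Ne.symm hc.2) (Ne.symm hc.1)
      (Ne.symm hc.1) hc.2 hab (a := a) (b := b) (c := c) (a' := a) (b' := c) (c' := b)
    obtain ⟨t, hta, htb, htc⟩ := Cfsg.Agent.Lie.SharpBasic.exists_move h3 hab (Ne.symm hc.2) (Ne.symm hc.1)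
      hab.symm (Ne.symm hc.1) (Ne.symm hc.2) (a := a) (b := b) (c := c) (a' := b) (b' := a) (c' := c)
    have hG : Nat.card G = 6 := by
      haveI := h3
      have htop : G = ⊤ := Equiv.Perm.eq_top_of_isMultiplyPretransitive (by
        rw [Nat.card_eq_fintype_card, h3']
        haveI := h2
        exact h2)
      rw [htop, Nat.card_congr Subgroup.topEquiv.toEquiv, Nat.card_perm, Nat.card_eq_fintype_card, h3']
      rfl
    have two : ∀ x : ZMod 2, x = 0 ∨ x = 1 := by clear * -; decide +revert
    refine Cfsg.Agent.Lie.SharpPGL.pgl_of_coords a (fun x : ZMod 2 => if x = 0 then b else c)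
      ?_ ?_ ?_ (fun x => if x = 0 then 1 else s) ?_ ?_ ?_ t ?_ ?_ ?_ ?_
    · intro x
      rcases two x with rfl | rfl <;> simp [hab.symm, hc.1]
    · intro x y h
      rcases two x with rfl | rfl <;> rcases two y with rfl | rfl <;> simp_all [Ne.symm hc.2]
    · intro y hy
      rcases hall y with rfl | rfl | rfl
      · exact absurd rfl hy
      · exact ⟨0, by simp⟩
      · exact ⟨1, by simp⟩
    · intro x
      rcases two x with rfl | rfl <;> simp [hsa]
    · intro x y
      rcases two x with rfl | rfl <;> rcases two y with rfl | rfl <;>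
        simp [hsb, hsc, show (1 : ZMod 2) + 1 = 0 from rfl]
    · intro g hga hgb
      refine ⟨1, one_ne_zero, fun y => ?_⟩
      have hgc : g • c = c := by
        rcases hall (g • c) with h | h | h
        · exact absurd (MulAction.injective g (h.trans hga.symm)) hc.1
        · exact absurd (MulAction.injective g (h.trans (by simpa using hgb.symm))) hc.2
        · exact h
      rw [ht g a b c hab (Ne.symm hc.2) (Ne.symm hc.1) hga (by simpa using hgb) hgc, one_smul, one_mul]
    · simp [hta]
    · simp [htb]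
    · intro x hx
      rcases two x with rfl | rfl
      · exact absurd rfl hx
      · simp [htc]
    · rw [hG, ZMod.card]; norm_num

end Cfsg.Agent.S0727
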