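import Cfsg.Statements.S0730
import Mathlib
import Cfsg.Agent.Lib.Lie.SharpBasic
import Cfsg.Agent.Lib.Lie.SharpStructure
import Cfsg.Agent.Lib.Lie.SharpPGL
-- import your own Cfsg.Agent.* helpers here

set_option autoImplicit false
open Cfsg

namespace Cfsg.Agent.S0730

/-- A sharply triply transitive group of degree `p^f + 1`, `p` an odd prime and `f` odd, is isomorphic to the projective general linear group of degree 2 over the field with `p^f` elements (for even `f` there is a second, twisted, group). -/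
theorem result {α : Type*} [Fintype α] [DecidableEq α] {p f : ℕ} (hp : p.Prime) (hp2 : p ≠ 2) (hfo : Odd f) (hα : Fintype.card α = p ^ f + 1) (G : Subgroup (Equiv.Perm α)) (h3 : MulAction.IsMultiplyPretransitive G α 3) (hsharp : ∀ x : Fin 3 ↪ α, MulAction.stabilizer G x = ⊥) : ∃ (F : Type) (_ : Field F) (_ : Fintype F), Fintype.card F = p ^ f ∧ Nonempty (G ≃* Matrix.ProjGenLinGroup (Fin 2) F) := by
  classical
  haveI := Fact.mk hp
  have hq : 3 ≤ p ^ f := by
    obtain ⟨j, rfl⟩ := hfo
    have : p ≤ p ^ (2 * j + 1) := Nat.le_self_pow (by omega) p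
    have := hp.two_le
    omega
  have ht := Cfsg.Agent.Lie.SharpBasic.three_point hsharp
  have h2 := Cfsg.Agent.Lie.SharpBasic.two_trans h3 (by omega : 3 ≤ Fintype.card α)
  obtain ⟨a, b, hab⟩ := Fintype.exists_pair_of_one_lt_card (by omega : 1 < Fintype.card α)
  have hcard := Cfsg.Agent.Lie.SharpBasic.card_two h3 ht hab (by omega)
  refine Cfsg.Agent.Lie.SharpCoords.with_coords h2 ht hab hcard (by omega) ?_
  intro p' f' hpp V _ _ _ _ ρ π t e τ T z C
  have h1 : p' ^ f' = p ^ f := by
    have := C.card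
    rw [C.pf] at this
    omega
  obtain ⟨F, iF, iFF, hF, hiso⟩ := Cfsg.Agent.Lie.SharpPGL.pgl_of_comm h2 hab C
    (Cfsg.Agent.Lie.SharpStructure.comm_odd_exponent C (by
      rcases Nat.eq_zero_or_pos f' with rfl | hf'
      · rw [pow_zero] at h1; omega
      have he : p' = p := (Nat.prime_dvd_prime_iff_eq hpp.out hp).1
        (hpp.out.dvd_of_dvd_pow (n := f) (h1 ▸ dvd_pow_self p' (by omega)))
      subst he
      exact (Nat.pow_right_injective hp.two_le h1) ▸ hfo))
  exact ⟨F, iF, iFF, hF.trans h1, hiso⟩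

end Cfsg.Agent.S0730
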