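import Cfsg.Statements.S0878
import Mathlib

set_option autoImplicit false
open Cfsg

namespace Cfsg.Agent.S0878

/-- Let G be a Zassenhaus group on the finite set Ω, a a point, and let H be the subgroup of the stabilizer of a consisting of the identity and the elements fixing no point other than a (given here as a subgroup of the stabilizer of order one less than the number of points whose non-identity elements fix only a; it is the Frobenius kernel of the stabilizer). Then an element outside the stabilizer of a conjugates no non-identity element of H into H, and the normalizer of H is exactly the stabilizer of a. -/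
theorem result {G Ω : Type*} [Group G] [Finite G] [MulAction G Ω] [Fintype Ω] (hZ : Cfsg.IsZassenhausGroup G Ω) (a : Ω) (H : Subgroup G) (hHa : H ≤ MulAction.stabilizer G a) (hHcard : Nat.card H + 1 = Fintype.card Ω) (hHfix : ∀ u ∈ H, u ≠ 1 → ∀ c : Ω, u • c = c → c = a) : (∀ g : G, g ∉ MulAction.stabilizer G a → ∀ u ∈ H, g * u * g⁻¹ ∈ H → u = 1) ∧ Subgroup.normalizer (H : Set G) = MulAction.stabilizer G a := by
  classical
  obtain ⟨hf, h2, h3, hex, -⟩ := hZ
  haveI := hf
  have hH : H ≠ ⊥ := by
    intro hb
    rw [hb, Subgroup.card_bot] at hHcard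
    obtain ⟨g, hg1, x, y, hxy, hgx, hgy⟩ := hex
    apply hg1
    apply FaithfulSMul.eq_of_smul_eq_smul (α := Ω)
    intro c
    rw [one_smul]
    have : c = x ∨ c = y := by
      by_contra h
      simp only [not_or] at h
      have := Finset.card_le_univ ({c, x, y} : Finset Ω)
      rw [Finset.card_eq_three.2 ⟨c, x, y, h.1, h.2, hxy, rfl⟩] at this
      omega
    rcases this with rfl | rfl <;> assumption
  have hstab : ∀ g : G, g ∈ MulAction.stabilizer G a ↔ g • a = a := fun g => MulAction.mem_stabilizer_iff
  have hTI : ∀ g : G, g ∉ MulAction.stabilizer G a → ∀ u ∈ H, g * u * g⁻¹ ∈ H → u = 1 := by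
    intro g hg u hu hgu
    by_contra hne
    apply hg
    rw [hstab]
    refine hHfix _ hgu (by simpa using hne) _ ?_
    rw [mul_smul, mul_smul, inv_smul_smul, (hstab u).1 (hHa hu)]
  refine ⟨hTI, le_antisymm (fun n hn => ?_) (fun g hg => ?_)⟩
  · by_contra h
    obtain ⟨u, hu, hu1⟩ : ∃ u ∈ H, u ≠ 1 := by
      by_contra h'
      simp only [not_exists, not_and, not_not] at h'
      exact hH ((Subgroup.eq_bot_iff_forall H).2 h')
    exact hu1 (hTI n h u hu ((Subgroup.mem_normalizer_iff.1 hn u).1 hu))
  · haveI := Fintype.ofFinite G
    let S := MulAction.stabilizer G a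
    let F : Finset G := Finset.univ.filter (fun w : G => w • a = a ∧ (w = 1 ∨ ∀ c : Ω, w • c = c → c = a))
    let B : Ω → Finset G := fun b => Finset.univ.filter (fun w : G => w • a = a ∧ w • b = b)
    let SS : Finset G := Finset.univ.filter (fun w : G => w • a = a)
    let O : Finset Ω := Finset.univ.erase a
    have htr : ∀ b c : Ω, b ≠ a → c ≠ a → ∃ w : G, w • a = a ∧ w • b = c := by
      intro b c hb hc
      haveI := h2
      exact MulAction.is_two_pretransitive_iff.1 h2 (Ne.symm hb) (Ne.symm hc)
    have hB : ∀ b ∈ O, (B b).card * O.card = SS.card := by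
      intro b hb
      have hba : b ≠ a := (Finset.mem_erase.1 hb).1
      have hfw := Finset.card_eq_sum_card_fiberwise (s := SS) (f := fun w : G => w • b) (t := O)
        (fun w hw => ?_)
      · rw [hfw, Finset.sum_congr rfl (g := fun _ => (B b).card) (fun c hc => ?_), Finset.sum_const,
          smul_eq_mul, mul_comm]
        obtain ⟨w₀, hw₀a, hw₀b⟩ := htr b c hba (Finset.mem_erase.1 hc).1
        refine (Finset.card_equiv (Equiv.mulLeft w₀) (fun w => ?_)).symm
        simp only [B, SS, Finset.mem_filter, Finset.mem_univ, true_and, Equiv.coe_mulLeft, mul_smul]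
        constructor
        · rintro ⟨e1, e2⟩; rw [e1, e2]; exact ⟨hw₀a, hw₀b⟩
        · rintro ⟨e1, e2⟩
          exact ⟨MulAction.injective w₀ (e1.trans hw₀a.symm), MulAction.injective w₀ (e2.trans hw₀b.symm)⟩
      · have hwa : w • a = a := (Finset.mem_filter.1 hw).2
        refine Finset.mem_erase.2 ⟨fun e => hba ?_, Finset.mem_univ _⟩
        exact MulAction.injective w (e.trans hwa.symm)
    have hOc : O.card = Nat.card H := by
      simp only [O, Finset.card_erase_of_mem (Finset.mem_univ a), Finset.card_univ]
      omega
    -- the moving points of the nontrivial elements with two fixed points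
    have hdis : ∀ b ∈ O, ∀ c ∈ O, b ≠ c → Disjoint ((B b).erase 1) ((B c).erase 1) := by
      intro b hb c hc hbc
      rw [Finset.disjoint_left]
      intro w hw hw'
      simp only [B, Finset.mem_erase, Finset.mem_filter, Finset.mem_univ, true_and] at hw hw'
      exact hw.1 (h3 w a b c (Ne.symm (Finset.mem_erase.1 hb).1) hbc (Ne.symm (Finset.mem_erase.1 hc).1)
        hw.2.1 hw.2.2 hw'.2.2)
    have hdFU : Disjoint F (O.biUnion (fun b => (B b).erase 1)) := by
          rw [Finset.disjoint_left]
          intro w hw hw'
          simp only [F, B, Finset.mem_filter, Finset.mem_univ, true_and, Finset.mem_biUnion,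
            Finset.mem_erase] at hw hw'
          obtain ⟨b, hb, hw1, -, hwb⟩ := hw'
          rcases hw.2 with h | h
          · exact hw1 h
          · exact (Finset.mem_erase.1 hb).1 (h b hwb)
    have hsplit : SS = F ∪ O.biUnion (fun b => (B b).erase 1) := by
      ext w
      simp only [SS, F, B, Finset.mem_union, Finset.mem_filter, Finset.mem_univ, true_and,
        Finset.mem_biUnion, Finset.mem_erase]
      constructor
      · intro hw
        by_cases hq : w = 1 ∨ ∀ c : Ω, w • c = c → c = a
        · exact Or.inl ⟨hw, hq⟩
        · simp only [not_or, not_forall] at hq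
          obtain ⟨h1, c, hc, hca⟩ := hq
          exact Or.inr ⟨c, Finset.mem_erase.2 ⟨hca, Finset.mem_univ _⟩, h1, hw, hc⟩
      · rintro (h | ⟨b, -, -, h, -⟩)
        · exact h.1
        · exact h
    have hFc : F.card = Nat.card H := by
      have hc := congrArg Finset.card hsplit
      rw [Finset.card_union_of_disjoint hdFU, Finset.card_biUnion hdis] at hc
      obtain ⟨b₀, hb₀⟩ : O.Nonempty := by
        rw [← Finset.card_pos, hOc]; exact Nat.card_pos
      have hone : ∀ b, (1 : G) ∈ B b := fun b => by simp [B]
      have hsum : ∑ b ∈ O, ((B b).erase 1).card + O.card = SS.card := by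
        have : ∀ b ∈ O, ((B b).erase 1).card + 1 = (B b₀).card := by
          intro b hb
          rw [Finset.card_erase_of_mem (hone b), Nat.sub_add_cancel (Finset.card_pos.2 ⟨1, hone b⟩)]
          exact Nat.eq_of_mul_eq_mul_right (Finset.card_pos.2 ⟨b₀, hb₀⟩) ((hB b hb).trans (hB b₀ hb₀).symm)
        rw [← hB b₀ hb₀, Finset.card_eq_sum_ones O, ← Finset.sum_add_distrib,
          Finset.sum_congr rfl this, Finset.sum_const, ← Finset.card_eq_sum_ones, smul_eq_mul, mul_comm]
      omega
    have hHF : F = Finset.univ.filter (fun w : G => w ∈ H) := by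
      refine (Finset.eq_of_subset_of_card_le (fun w hw => ?_) (le_of_eq ?_)).symm
      · simp only [Finset.mem_filter, Finset.mem_univ, true_and] at hw
        simp only [F, Finset.mem_filter, Finset.mem_univ, true_and]
        refine ⟨(hstab w).1 (hHa hw), ?_⟩
        by_cases h1 : w = 1
        · exact Or.inl h1
        · exact Or.inr (hHfix w hw h1)
      · rw [hFc, Nat.card_eq_fintype_card, Fintype.card_subtype]
    refine Subgroup.mem_normalizer_fintype (fun u hu => ?_)
    have huF : u ∈ F := by rw [hHF]; simpa using hu
    have hga : g • a = a := (hstab g).1 hg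
    have hga' : g⁻¹ • a = a := by rw [inv_smul_eq_iff, hga]
    have hmem : g * u * g⁻¹ ∈ F := by
      simp only [F, Finset.mem_filter, Finset.mem_univ, true_and] at huF ⊢
      refine ⟨by rw [mul_smul, mul_smul, hga', huF.1, hga], ?_⟩
      rcases huF.2 with h | h
      · exact Or.inl (by rw [h]; group)
      · refine Or.inr (fun c hc => ?_)
        have : g⁻¹ • c = a := h _ (by
          rw [mul_smul, mul_smul] at hc
          exact eq_inv_smul_iff.2 hc)
        rw [inv_smul_eq_iff] at this
        rw [this, hga]
    rw [hHF] at hmem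
    simpa using hmem

end Cfsg.Agent.S0878
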