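import Cfsg.Statements.S0731
import Cfsg.Agent.Lib.Lie.Feit.Main
import Cfsg.Agent.Lib.Lie.ZassenhausHalf
import Cfsg.Agent.Lib.Lie.ZassenhausHalfOdd
-- import your own Cfsg.Agent.* helpers here

set_option autoImplicit false
open Cfsg

namespace Cfsg.Agent.S0731

/-- A finite Zassenhaus group whose point stabiliser has an abelian regular normal subgroup on the remaining points is sharply triply transitive or isomorphic to `PSL(2, F)` for a finite field `F` of odd characteristic. -/
theorem result {G Ω : Type*} [Group G] [Finite G] [MulAction G Ω] [Finite Ω] (hZ : Cfsg.IsZassenhausGroup G Ω) (x : Ω) (F : Subgroup G) (hFle : F ≤ MulAction.stabilizer G x) (hFn : (F.subgroupOf (MulAction.stabilizer G x)).Normal) (hFab : IsMulCommutative F) (hreg : ∀ y z : Ω, y ≠ x → z ≠ x → ∃! u : F, (u : G) • y = z) : (MulAction.IsMultiplyPretransitive G Ω 3 ∧ ∀ t : Fin 3 ↪ Ω, MulAction.stabilizer G t = ⊥) ∨ ∃ (K : Type) (_ : Field K) (_ : Fintype K), ringChar K ≠ 2 ∧ Nonempty (G ≃* Matrix.ProjectiveSpecialLinearGroup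 (Fin 2) K) := by
  classical
  haveI : Fintype Ω := Fintype.ofFinite Ω
  haveI : Fintype G := Fintype.ofFinite G
  obtain ⟨hF, h2, h3, hfix, -⟩ := id hZ
  haveI := hF
  haveI : Nontrivial Ω := by
    obtain ⟨g₀, -, a₀, b₀, hab₀, -⟩ := id hfix
    exact ⟨⟨a₀, b₀, hab₀⟩⟩
  obtain ⟨b, hb⟩ := exists_ne x
  have hab : x ≠ b := Ne.symm hb
  obtain ⟨y, hya, hyb⟩ := Cfsg.Agent.Lie.Zassenhaus.three_le_card (G := G) hfix hab
  have hthree : 3 ≤ Fintype.card Ω := by
    have h1 : ({x, b, y} : Finset Ω).card = 3 := Finset.card_eq_three.2 ⟨x, b, y, hab, hya.symm, hyb.symm, rfl⟩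
    have := Finset.card_le_univ ({x, b, y} : Finset Ω)
    omega
  obtain ⟨k, hk⟩ := Cfsg.Agent.Lie.Feit.stab_dvd (G := G) h3 hab
  set e := Nat.card ↥(MulAction.stabilizer G x ⊓ MulAction.stabilizer G b) with he
  by_cases hsharp : e = Fintype.card Ω - 2
  · exact Or.inl (Cfsg.Agent.Lie.ZassenhausHalfOdd.sharp_three h2 h3 hab (he ▸ hsharp))
  right
  have hk2 : 2 ≤ k := by
    rcases k with _ | _ | k
    · omega
    · omega
    · omega
  have hle : 2 * e ≤ Fintype.card Ω - 2 := by
    rw [hk, mul_comm]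
    exact Nat.mul_le_mul_left _ hk2
  rcases Nat.even_or_odd e with heven | hodd
  · obtain ⟨K, iK, iKF, hq, -, hiso⟩ := Cfsg.Agent.Lie.ZassenhausHalf.psl_of_half hZ hab heven hle
    refine ⟨K, iK, iKF, fun hc => ?_, hiso⟩
    have := FiniteField.even_card_iff_char_two.1 hc
    omega
  -- the kernel
  have hbij : Function.Bijective fun u : F => (⟨(u : G) • b, fun h => hab
      (MulAction.injective (u : G) (h.trans (hFle u.2).symm)).symm⟩ : {c : Ω // c ≠ x}) := by
    refine ⟨fun u u' h => ?_, fun c => ?_⟩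
    · obtain ⟨w, -, hw⟩ := hreg b ((u' : G) • b) hb (fun h' => hab
        (MulAction.injective (u' : G) (h'.trans (hFle u'.2).symm)).symm)
      exact (hw u (congrArg Subtype.val h)).trans (hw u' rfl).symm
    · obtain ⟨w, hw, -⟩ := hreg b c.1 hb c.2
      exact ⟨w, Subtype.ext hw⟩
  have hcard : Nat.card F + 1 = Fintype.card Ω := by
    rw [Nat.card_eq_of_bijective _ hbij, Nat.card_eq_fintype_card, Fintype.card_subtype_compl,
      Fintype.card_subtype_eq]
    omega
  have honly : ∀ u ∈ F, u ≠ 1 → ∀ c : Ω, u • c = c → c = x := by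
    intro u hu hu1 c hc
    by_contra hcx
    obtain ⟨w, -, hw⟩ := hreg c c hcx hcx
    exact hu1 (congrArg Subtype.val ((hw ⟨u, hu⟩ hc).trans (hw 1 (one_smul G c)).symm))
  have hFcomm : ∀ u v : F, u * v = v * u := fun u v => hFab.is_comm.comm u v
  -- the group is simple
  obtain ⟨N, hNn, hNb, hNs⟩ := Cfsg.Agent.Lie.Feit.exists_simple_normal hZ
  haveI := hNn
  haveI := hNs
  have hN2 := Cfsg.Agent.Lie.Zassenhaus.normal_isZassenhaus hZ N hNb
  haveI := hN2.1
  obtain ⟨K, hKN, hKle, hKcard, -⟩ := Cfsg.Agent.Lie.Feit.exists_kernel hZ N hNb hab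
  obtain rfl := Cfsg.Agent.Lie.Feit.kernel_unique hZ hab hFle hcard honly hKle hKcard
  haveI : MulAction.IsPretransitive G Ω := MulAction.isPretransitive_of_is_two_pretransitive
  let ι : ↥(MulAction.stabilizer N x ⊓ MulAction.stabilizer N b) →* ↥(MulAction.stabilizer G x ⊓ MulAction.stabilizer G b) :=
    (N.subtype.comp (MulAction.stabilizer N x ⊓ MulAction.stabilizer N b).subtype).codRestrict _
      fun z => (⟨z.2.1, z.2.2⟩ : ((z : N) : G) ∈ MulAction.stabilizer G x ⊓ MulAction.stabilizer G b)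
  have hι : Function.Injective ι := fun z z' h => Subtype.ext (Subtype.ext (congrArg Subtype.val h :))
  have hdvd := Subgroup.card_dvd_of_injective ι hι
  rw [← he] at hdvd
  obtain ⟨j, hj⟩ := hdvd
  have hNodd : Odd (Nat.card ↥(MulAction.stabilizer N x ⊓ MulAction.stabilizer N b)) :=
    hodd.of_dvd_nat ⟨j, hj⟩
  obtain ⟨hNF, hN22, hN23, hNfix, -⟩ := id hN2
  haveI : MulAction.IsPretransitive N Ω := MulAction.isPretransitive_of_is_two_pretransitive
  haveI : Fintype N := Fintype.ofFinite N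
  have C' := Cfsg.Agent.Lie.ZassenhausCount.oddCtx hN22 hN23 hNfix hab (h := Fintype.card Ω - 1) (by omega) rfl hNodd
  have hsmall : Fintype.card Ω - 2 ≤ 2 * Nat.card ↥(MulAction.stabilizer N x ⊓ MulAction.stabilizer N b) := by
    rcases Cfsg.Agent.Lie.Feit.feit_inequality hN2 hab (h := Fintype.card Ω - 1) (by omega) rfl hNodd
      (H := K.subgroupOf N) (fun z hz => hKle (Subgroup.mem_subgroupOf.1 hz))
      (by rw [Nat.card_congr (Subgroup.subgroupOfEquivOfLe hKN).toEquiv]; exact hKcard)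
      (fun z hz hz1 c hc => honly _ (Subgroup.mem_subgroupOf.1 hz) (fun e' => hz1 (Subtype.ext e')) c hc)
      with h1 | ⟨-, ⟨u, v, huv⟩, -⟩
    · omega
    · refine absurd ?_ huv
      exact Subtype.ext (Subtype.ext (congrArg (fun z : K => (z : G))
        (hFcomm ⟨_, Subgroup.mem_subgroupOf.1 u.2⟩ ⟨_, Subgroup.mem_subgroupOf.1 v.2⟩)))
  have hee : Nat.card ↥(MulAction.stabilizer N x ⊓ MulAction.stabilizer N b) = e := by
    obtain ⟨i, hi⟩ := hodd
    obtain ⟨i', hi'⟩ := hNodd
    rcases j with _ | _ | j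
    · omega
    · omega
    · nlinarith
  have hhalf : Fintype.card Ω - 2 = 2 * e := by omega
  -- it is the whole group
  have hNtop : N = ⊤ := by
    apply Subgroup.eq_top_of_le_card
    have h1 := Cfsg.Agent.Lie.ZassenhausCount.card_group C'
    rw [← Nat.card_eq_fintype_card, hee] at h1
    rw [h1]
    have h5 := Subgroup.card_mul_index (MulAction.stabilizer G x)
    have h7 : (MulAction.stabilizer G x ⊓ MulAction.stabilizer G b).relIndex (MulAction.stabilizer G x) ≤ Fintype.card Ω - 1 := by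
      rw [Subgroup.relIndex, show (MulAction.stabilizer G x ⊓ MulAction.stabilizer G b).subgroupOf (MulAction.stabilizer G x) =
        MulAction.stabilizer (MulAction.stabilizer G x) b from
        Subgroup.ext fun g => ⟨fun hg => hg.2, fun hg => ⟨g.2, hg⟩⟩, MulAction.index_stabilizer]
      refine (Set.ncard_le_ncard (t := ({x}ᶜ : Set Ω)) ?_).trans ?_
      · rintro ω ⟨g, rfl⟩ h
        exact hab (MulAction.injective (g : G) (h.trans g.2.symm)).symm
      · rw [Set.ncard_compl, Set.ncard_singleton, Nat.card_eq_fintype_card]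
    have h8 := Subgroup.card_mul_index (MulAction.stabilizer G x ⊓ MulAction.stabilizer G b)
    rw [← Subgroup.relIndex_mul_index (inf_le_left : MulAction.stabilizer G x ⊓ MulAction.stabilizer G b ≤ MulAction.stabilizer G x),
      MulAction.index_stabilizer_of_transitive, Nat.card_eq_fintype_card (α := Ω), ← he] at h8
    rw [← h8, show Fintype.card Ω - 1 + 1 = Fintype.card Ω by omega]
    calc e * ((MulAction.stabilizer G x ⊓ MulAction.stabilizer G b).relIndex (MulAction.stabilizer G x) * Fintype.card Ω)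
        ≤ e * ((Fintype.card Ω - 1) * Fintype.card Ω) := by gcongr
      _ = _ := by ring
  subst hNtop
  haveI : Nontrivial G := by
    obtain ⟨g₀, hg₀, -⟩ := hfix
    exact ⟨⟨g₀, 1, hg₀⟩⟩
  haveI : IsSimpleGroup G := IsSimpleGroup.isSimpleGroup_of_surjective
    (Subgroup.topEquiv (G := G)).toMonoidHom (Subgroup.topEquiv (G := G)).surjective
  have C := Cfsg.Agent.Lie.ZassenhausCount.oddCtx h2 h3 hfix hab (h := Fintype.card Ω - 1) (by omega) he.symm hodd
  exact Cfsg.Agent.Lie.ZassenhausHalfOdd.psl_of_half_odd C (by omega) K hKle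
    (fun g hg u hu => hFn.conj_mem ⟨u, hKle hu⟩ (Subgroup.mem_subgroupOf.2 hu) ⟨g, hg⟩) hFcomm
    (fun c hc => hreg b c hb hc)

end Cfsg.Agent.S0731
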