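import Cfsg.Statements.S0732
import Cfsg.Agent.Lib.Perm.DegreePrimeAddOne
import Cfsg.Agent.Lib.Perm.Sharp2
import Cfsg.Agent.Lib.Classical.Dickson.Tools
import Cfsg.Agent.S0727
import Cfsg.Agent.S0730
import Cfsg.Agent.S0731
-- import your own Cfsg.Agent.* helpers here

set_option autoImplicit false
open Cfsg

namespace Cfsg.Agent.S0732

open MulAction Cfsg.Agent.Perm.DegreePrimeAddOne

theorem ringEquiv_zmod {p : ℕ} [Fact p.Prime] (F : Type) [Field F] [Fintype F] (h : Fintype.card F = p) :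
    Nonempty (F ≃+* ZMod p) :=
  ⟨FiniteField.ringEquivOfCardEq (h.trans (ZMod.card p).symm)⟩

/-- Numerics: the order of `PSL₂` of a field of odd order `k` cannot be `(p + 1) p d`, unless `k = p`. -/
theorem numerics {p d k : ℕ} [Fact p.Prime] (hp2 : p ≠ 2) (hd0 : 0 < d) (hd : d ≤ p - 1) (r : ℕ) (hr : r.Prime) (j : ℕ)
    (hkj : k = r ^ j) (hk : Odd k) (h : (p + 1) * p * d * 2 = k * (k ^ 2 - 1)) :
    k = p ∧ 2 * d = p - 1 := by
  have hp : p.Prime := Fact.out
  have hpo : Odd p := hp.odd_of_ne_two hp2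
  have hk0 : 0 < k := hk.pos
  have hkk : k ^ 2 - 1 = (k + 1) * (k - 1) := by rw [← Nat.sq_sub_sq, one_pow]
  have hsmall : k < 2 * p - 1 := by
    by_contra hge
    rw [not_lt] at hge
    obtain ⟨p', rfl⟩ : ∃ p', p = p' + 2 := ⟨p - 2, by have := hp.two_le; omega⟩
    have h1 : (2 * (p' + 2) - 1) * ((2 * (p' + 2) - 1 + 1) * (2 * (p' + 2) - 1 - 1)) ≤
        k * ((k + 1) * (k - 1)) := by gcongr
    rw [← hkk, ← h] at h1
    have h2 : (p' + 2 + 1) * (p' + 2) * d * 2 ≤ (p' + 2 + 1) * (p' + 2) * (p' + 1) * 2 := by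
      gcongr; omega
    rw [show 2 * (p' + 2) - 1 = 2 * p' + 3 by omega, show 2 * p' + 3 + 1 = 2 * (p' + 2) by omega,
      show 2 * p' + 3 - 1 = 2 * (p' + 1) by omega] at h1
    nlinarith [h1, h2, Nat.zero_le (p' ^ 3), Nat.zero_le (p' ^ 2), Nat.zero_le p']
  have hkp : k = p := by
    have hd' : p ∣ k * ((k + 1) * (k - 1)) := by
      rw [← hkk, ← h]; exact ⟨(p + 1) * d * 2, by ring⟩
    obtain ⟨i, hi⟩ := hk
    obtain ⟨i', hi'⟩ := hpo
    rcases hp.dvd_mul.1 hd' with hk1 | hk1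
    · obtain ⟨c, hc⟩ := hk1
      rcases c with _ | _ | c
      · omega
      · omega
      · rw [hc] at hsmall; nlinarith [Nat.sub_le (2 * p) 1]
    rcases hp.dvd_mul.1 hk1 with hk2 | hk2
    · obtain ⟨c, hc⟩ := hk2
      rcases c with _ | _ | c
      · omega
      · omega
      · exfalso; have h3 : p * (c + 1 + 1) = p * c + 2 * p := by ring
        omega
    · obtain ⟨c, hc⟩ := hk2
      rcases c with _ | _ | c
      · exfalso
        rw [show k = 1 by omega, one_pow, Nat.sub_self, mul_zero] at h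
        have : 0 < (p + 1) * p * d * 2 :=
          Nat.mul_pos (Nat.mul_pos (Nat.mul_pos (Nat.succ_pos p) hp.pos) hd0) Nat.two_pos
        omega
      · omega
      · exfalso; have h3 : p * (c + 1 + 1) = p * c + 2 * p := by ring
        omega
  refine ⟨hkp, ?_⟩
  subst hkp
  rw [hkk] at h
  exact Nat.eq_of_mul_eq_mul_left (show 0 < k * (k + 1) by positivity) (by rw [mul_assoc k (k + 1) (k - 1), ← h]; ring)

/-- A transitive permutation group on `p + 1` points (`p` prime) of order `(p+1) p d` with `d < p` is isomorphic to `PGL(2,p)` with `d = p - 1`, or to `PSL(2,p)` with `2d = p - 1`, or else `p + 1 = 2^q` for a prime `q`, `d = 1` or `d = q`, and the group is permutation-isomorphic to a group of semi-affine maps `x ↦ a φ(x) + b` of the field with `2^q` elements. -/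
theorem result {α : Type*} [Fintype α] [DecidableEq α] {p d : ℕ} (hp : p.Prime) (hα : Fintype.card α = p + 1) (G : Subgroup (Equiv.Perm α)) [MulAction.IsPretransitive G α] (hG : Nat.card G = (p + 1) * p * d) (hd : d < p) : (d = p - 1 ∧ Nonempty (G ≃* Matrix.ProjGenLinGroup (Fin 2) (ZMod p))) ∨ (2 * d = p - 1 ∧ Nonempty (G ≃* Matrix.ProjectiveSpecialLinearGroup (Fin 2) (ZMod p))) ∨ (∃ q : ℕ, q.Prime ∧ p + 1 = 2 ^ q ∧ (d = 1 ∨ d = q) ∧ ∃ e : α ≃ GaloisField 2 q, ∀ g : G, (e.symm.trans (((g : Equiv.Perm α)).trans e)) ∈ Cfsg.semiaffineGroup (GaloisField 2 q)) := by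
  classical
  haveI := Fact.mk hp
  haveI : Nonempty α := Fintype.card_pos_iff.1 (by omega)
  obtain ⟨x⟩ := ‹Nonempty α›
  have hsd : ∀ z : α, Nonempty (StabData (G := G) p d z) := fun z => stabData hp hα hG hd z
  obtain ⟨D⟩ := hsd x
  have htwo : ∀ a b c e : α, a ≠ b → c ≠ e → ∃ g : G, g • a = c ∧ g • b = e := by
    intro a b c e hab hce
    obtain ⟨g, hg⟩ := MulAction.exists_smul_eq G a c
    obtain ⟨Dc⟩ := hsd c
    obtain ⟨v, hv, -⟩ := Dc.regular (g • b) e
      (fun h => hab (MulAction.injective g (hg.trans h.symm))) hce.symm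
    exact ⟨(v : G) * g, by rw [mul_smul, hg]; exact Dc.le v.2, by rw [mul_smul, hv]⟩
  by_cases hp2 : p = 2
  · subst hp2
    obtain rfl : d = 1 := by
      have : 0 < Nat.card G := Nat.card_pos
      rcases d with _ | d
      · simp at hG
      · omega
    have htop : G = ⊤ := Subgroup.eq_top_of_card_eq G (by
      rw [hG, Nat.card_perm, Nat.card_eq_fintype_card, hα]; rfl)
    obtain ⟨F, iF, iF', hFc, ⟨i⟩⟩ := Cfsg.Agent.S0727.result (α := α) (f := 1) le_rfl hα G
      (MulAction.isMultiplyPretransitive_iff.2 fun t t' => by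
        have hb : ∀ s : Fin 3 ↪ α, Function.Bijective s := fun s =>
          (Fintype.bijective_iff_injective_and_card s).2 ⟨s.injective, by rw [Fintype.card_fin, hα]⟩
        refine ⟨⟨(Equiv.ofBijective t (hb t)).symm.trans (Equiv.ofBijective t' (hb t')), htop ▸ Subgroup.mem_top _⟩, ?_⟩
        ext i
        show Equiv.ofBijective t' (hb t') ((Equiv.ofBijective t (hb t)).symm (t i)) = t' i
        rw [Equiv.ofBijective_symm_apply_apply]
        rfl)
      (fun t => by
        rw [Subgroup.eq_bot_iff_forall]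
        intro g hg
        have hb : Function.Surjective t :=
          ((Fintype.bijective_iff_injective_and_card t).2 ⟨t.injective, by rw [Fintype.card_fin, hα]⟩).2
        refine FaithfulSMul.eq_of_smul_eq_smul (α := α) fun a => ?_
        obtain ⟨i, rfl⟩ := hb a
        rw [one_smul]
        exact congrArg (fun s : Fin 3 ↪ α => s i) hg)
    obtain ⟨ε⟩ := ringEquiv_zmod (p := 2) F (by rw [hFc, pow_one])
    exact Or.inl ⟨rfl, ⟨i.trans (Cfsg.Agent.Classical.Dickson.pglCongr ε)⟩⟩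
  have hsemiaff : (∃ N : Subgroup G, N.Normal ∧ (∀ a b : α, ∃ n ∈ N, n • a = b) ∧
      ∀ n ∈ N, n • x = x → n = 1) → (∃ q : ℕ, q.Prime ∧ p + 1 = 2 ^ q ∧ (d = 1 ∨ d = q) ∧
      ∃ e : α ≃ GaloisField 2 q, ∀ g : G,
        (e.symm.trans (((g : Equiv.Perm α)).trans e)) ∈ Cfsg.semiaffineGroup (GaloisField 2 q)) := by
    rintro ⟨N, hN, htr, hsemi⟩
    haveI := hN
    obtain ⟨q, hq, hpq, hdq, e, he⟩ := affine hp hp2 hα D N htr hsemi
    exact ⟨q, hq, hpq, (Nat.dvd_prime hq).1 hdq, e, fun g => he g⟩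
  by_cases hd1 : d = 1
  · subst hd1
    obtain ⟨K, hKn, hKmem, hKtr, -⟩ := Cfsg.Agent.Perm.sharp2_kernel (G := G) (Ω := α)
      (by rw [Nat.card_eq_fintype_card, hα]; have := hp.two_le; omega) htwo
      (fun a b hab g ha hb => by
        obtain ⟨Da⟩ := hsd a
        have h1 := Da.two b hab.symm
        rw [Subgroup.card_eq_one] at h1
        have h2 : g ∈ stabilizer G a ⊓ stabilizer G b := Subgroup.mem_inf.2 ⟨ha, hb⟩
        rwa [h1, Subgroup.mem_bot] at h2)
    exact Or.inr (Or.inr (hsemiaff ⟨K, hKn, hKtr, fun n hn h =>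
      ((hKmem n).1 hn).resolve_right fun h' => h' x h⟩))
  by_cases hreg : ∃ N : Subgroup G, N.Normal ∧ (∀ a b : α, ∃ n ∈ N, n • a = b) ∧
      ∀ n ∈ N, n • x = x → n = 1
  · exact Or.inr (Or.inr (hsemiaff hreg))
  have hd2 : 2 ≤ d := by
    rcases d with _ | _ | d
    · rw [mul_zero] at hG; exact absurd hG Nat.card_pos.ne'
    · omega
    · omega
  have hZ : Cfsg.IsZassenhausGroup G α := by
    refine ⟨inferInstance, MulAction.is_two_pretransitive_iff.2 fun {a b c e} hab hce => htwo a b c e hab hce,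
      fun g a b c hab hbc hac ha hb hc => ?_, ?_, fun N hN hNtr => ?_⟩
    · obtain ⟨Da⟩ := hsd a
      exact Da.three g b c hab.symm hac.symm hbc ha hb hc
    · obtain ⟨y, hy⟩ := Fintype.exists_ne_of_one_lt_card (by rw [hα]; omega) x
      have h1 := D.two y hy
      haveI : Nontrivial ↥(stabilizer G x ⊓ stabilizer G y) := Finite.one_lt_card_iff_nontrivial.1 (by omega)
      obtain ⟨g, hg⟩ := exists_ne (1 : ↥(stabilizer G x ⊓ stabilizer G y))
      exact ⟨g, fun e => hg (Subtype.ext e), x, y, hy.symm, g.2.1, g.2.2⟩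
    · by_contra hno
      push_neg at hno
      refine hreg ⟨N, hN, fun a b => ?_, fun n hn h => ?_⟩
      · obtain ⟨n, hn⟩ := hNtr.exists_smul_eq a b
        exact ⟨n, n.2, hn⟩
      · have h1 : (⟨n, hn⟩ : N) ∈ stabilizer N x := h
        rw [hno x, Subgroup.mem_bot] at h1
        exact congrArg Subtype.val h1
  have hd' : d ≤ p - 1 := by omega
  rcases Cfsg.Agent.S0731.result hZ x D.P D.le D.normal D.comm D.regular with ⟨h3, hsharp⟩ | ⟨K, iK, iK', hK2, ⟨i⟩⟩
  · obtain ⟨F, iF, iF', hFc, ⟨i⟩⟩ := Cfsg.Agent.S0730.result (α := α) (f := 1) hp hp2 odd_one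
      (by rw [pow_one, hα]) G h3 hsharp
    rw [pow_one] at hFc
    obtain ⟨ε⟩ := ringEquiv_zmod (p := p) F hFc
    refine Or.inl ⟨?_, ⟨i.trans (Cfsg.Agent.Classical.Dickson.pglCongr ε)⟩⟩
    have h := Nat.card_congr i.toEquiv
    rw [hG, Cfsg.Agent.Classical.Dickson.card_pgl, hFc, show p ^ 2 - 1 = (p + 1) * (p - 1) by
      rw [← Nat.sq_sub_sq, one_pow]] at h
    exact Nat.eq_of_mul_eq_mul_left (show 0 < (p + 1) * p from Nat.mul_pos (Nat.succ_pos p) hp.pos) (h.trans (by ring))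
  · obtain ⟨r, hr⟩ := CharP.exists K
    obtain ⟨j, hrp, hj⟩ := FiniteField.card K r
    have hodd : Odd (Fintype.card K) := Nat.odd_iff.2 (by
      rcases Nat.mod_two_eq_zero_or_one (Fintype.card K) with h | h
      · exact absurd (FiniteField.even_card_iff_char_two.2 h) hK2
      · exact h)
    have h2K : (2 : K) ≠ 0 := Ring.two_ne_zero hK2
    have h := Nat.card_congr i.toEquiv
    have h' := Cfsg.Agent.Classical.Dickson.card_psl K
    rw [← h, hG, Cfsg.Agent.Classical.Dickson.two_dvd_pred h2K] at h'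
    obtain ⟨hkp, hd2'⟩ := numerics hp2 (by omega) hd' r hrp (j : ℕ) hj hodd h'
    obtain ⟨ε⟩ := ringEquiv_zmod (p := p) K hkp
    exact Or.inr (Or.inl ⟨hd2', ⟨i.trans (Cfsg.Agent.Classical.Dickson.pslCongr ε)⟩⟩)

end Cfsg.Agent.S0732
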