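import Cfsg.Statements.S4702
import Mathlib
import Cfsg.Agent.S0727
import Cfsg.Agent.Lib.Lead.GLBasic
import Cfsg.Agent.Lib.Lie.SharpBasic
import Cfsg.Agent.Lib.Lie.SharpCoords
import Cfsg.Agent.Lib.Lie.SharpStructure
-- import your own Cfsg.Agent.* helpers here

set_option autoImplicit false
open Cfsg

namespace Cfsg.Agent.S4702

/-- Let G be a triply transitive permutation group on a finite set of odd size m ≥ 3 in which only the identity fixes three or more points. Then m = 2^a + 1 for some a ≥ 1 and G is isomorphic to SL(2, 2^a). -/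
theorem result {α : Type*} [Fintype α] [DecidableEq α] (hm : 3 ≤ Fintype.card α) (hodd : Odd (Fintype.card α)) (G : Subgroup (Equiv.Perm α)) (h3 : MulAction.IsMultiplyPretransitive G α 3) (hfix : ∀ g : G, 3 ≤ Nat.card (MulAction.fixedBy α g) → g = 1) : ∃ a : ℕ, 1 ≤ a ∧ Fintype.card α = 2 ^ a + 1 ∧ ∃ (F : Type) (_ : Field F) (_ : Fintype F), Fintype.card F = 2 ^ a ∧ Nonempty (G ≃* Matrix.SpecialLinearGroup (Fin 2) F) := by
  classical
  have hsharp : ∀ x : Fin 3 ↪ α, MulAction.stabilizer G x = ⊥ := by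
    intro x
    refine (Subgroup.eq_bot_iff_forall _).2 fun g hg => hfix g ?_
    have h1 : ∀ i, g • x i = x i := fun i => by
      conv_rhs => rw [← (show g • x = x from hg)]
      rfl
    let F : Fin 3 → MulAction.fixedBy α g := fun i => ⟨x i, h1 i⟩
    have := Nat.card_le_card_of_injective F (fun i j h => x.injective (congrArg Subtype.val h))
    rwa [Nat.card_eq_fintype_card (α := Fin 3), Fintype.card_fin] at this
  have ht := Cfsg.Agent.Lie.SharpBasic.three_point hsharp
  obtain ⟨f, hf, hα⟩ : ∃ f, 1 ≤ f ∧ Fintype.card α = 2 ^ f + 1 := by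
    by_cases hbig : 4 ≤ Fintype.card α
    · have h2 := Cfsg.Agent.Lie.SharpBasic.two_trans h3 hm
      obtain ⟨a, b, hab⟩ := Fintype.exists_pair_of_one_lt_card (by omega : 1 < Fintype.card α)
      have hcard := Cfsg.Agent.Lie.SharpBasic.card_two h3 ht hab hm
      refine Cfsg.Agent.Lie.SharpCoords.with_coords h2 ht hab hcard hbig ?_
      intro p f hpp V _ _ _ _ ρ π t e τ T z C
      have h1 : p ^ f + 1 = Fintype.card α := by rw [← C.pf, C.card]
      rcases hpp.out.eq_two_or_odd' with rfl | hp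
      · refine ⟨f, Nat.one_le_iff_ne_zero.2 fun h => ?_, h1.symm⟩
        rw [h, pow_zero] at h1
        omega
      · exact absurd hodd (by rw [← h1, Nat.not_odd_iff_even]; exact (hp.pow).add_one)
    · exact ⟨1, le_rfl, by norm_num; omega⟩
  obtain ⟨F, iF, iFF, hF, ⟨e⟩⟩ := Cfsg.Agent.S0727.result hf hα G h3 hsharp
  refine ⟨f, hf, hα, F, iF, iFF, hF, ⟨e.trans ?_⟩⟩
  have h2 : (2 : F) = 0 := by
    have h := FiniteField.even_card_iff_char_two (F := F).2 (by
      rw [hF]
      obtain ⟨k, rfl⟩ := Nat.exists_eq_add_of_le hf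
      rw [pow_add, pow_one, Nat.mul_mod_right])
    haveI : CharP F 2 := h ▸ ringChar.charP F
    exact CharTwo.two_eq_zero
  haveI : Finite (Matrix.ProjGenLinGroup (Fin 2) F) := Finite.of_surjective _ Matrix.ProjGenLinGroup.mk_surjective
  refine (MulEquiv.ofBijective (Matrix.ProjGenLinGroup.mk.comp Matrix.SpecialLinearGroup.toGL)
    ((Nat.bijective_iff_injective_and_card _).2 ⟨?_, (Cfsg.Agent.Lead.GLBasic.card_PGL (F := F) 2).symm⟩)).symm
  rw [injective_iff_map_eq_one]
  intro A hA
  have hA' : Matrix.SpecialLinearGroup.toGL A ∈ Subgroup.center (GL (Fin 2) F) := by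
    rw [← Matrix.ProjGenLinGroup.ker_mk]
    exact hA
  rw [Matrix.SpecialLinearGroup.toGL_mem_center_iff, Matrix.SpecialLinearGroup.mem_center_iff] at hA'
  obtain ⟨r, hr, hrA⟩ := hA'
  have hr1 : r = 1 := by
    rw [Fintype.card_fin] at hr
    have : (r + 1) * (r + 1) = 0 := by linear_combination hr + (r + 1) * h2
    have := mul_self_eq_zero.1 this
    linear_combination this - h2
  ext i j
  rw [← hrA, hr1]
  simp [Matrix.one_apply]

end Cfsg.Agent.S4702
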