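import Cfsg.Statements.S4706
import Cfsg.Statements.S4706
import Cfsg.Agent.S4702
import Cfsg.Agent.S0675
import Cfsg.Agent.S1013
import Cfsg.Agent.Lib.Perm.PrimeDegree
import Cfsg.Agent.Lib.Lead.DegreeTwoP.Bound
import Cfsg.Agent.Lib.Perm.PermChar

set_option autoImplicit false
open Cfsg

namespace Cfsg.Agent.S4706

open Cfsg.Agent.Char MulAction
open scoped ComplexConjugate

/-- Let p > 2 be a prime and G a permutation group on p letters whose Sylow p-subgroup P has normalizer of order 2p. Then either P is normal in G, or p − 1 = 2^a for some a and G is isomorphic to SL(2, 2^a). -/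
theorem result {α : Type*} [Fintype α] [DecidableEq α] {p : ℕ} [Fact p.Prime] (hp : 2 < p) (hα : Fintype.card α = p) (G : Subgroup (Equiv.Perm α)) (P : Sylow p G) (hN : Nat.card (Subgroup.normalizer ((P : Subgroup G) : Set G)) = 2 * p) : (P : Subgroup G).Normal ∨ ∃ (a : ℕ) (F : Type) (_ : Field F) (_ : Fintype F), p = 2 ^ a + 1 ∧ Fintype.card F = 2 ^ a ∧ Nonempty (G ≃* Matrix.SpecialLinearGroup (Fin 2) F) := by
  classical
  have hpp : p.Prime := Fact.out
  by_cases hPn : (P : Subgroup G).Normal
  · exact Or.inl hPn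
  refine Or.inr ?_
  haveI := Fintype.ofFinite G
  -- the Sylow subgroup has order `p` and `G` is transitive
  have hPne : (P : Subgroup G) ≠ ⊥ := fun e => hPn (e ▸ inferInstance)
  have hPp : Nat.card P = p := by
    obtain ⟨n, hn⟩ := P.2.exists_card_eq
    have hdvd : Nat.card P ∣ 2 * p := hN ▸ Subgroup.card_dvd_of_le Subgroup.le_normalizer
    have hn1 : n ≤ 1 := by
      by_contra hlt
      have h2 : p * p ∣ 2 * p := (pow_two p ▸ pow_dvd_pow p (by omega : 2 ≤ n)).trans (hn ▸ hdvd)
      have := Nat.le_of_dvd (by norm_num) ((Nat.mul_dvd_mul_iff_right hpp.pos).1 h2)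
      omega
    have hn0 : n ≠ 0 := by
      rintro rfl
      rw [pow_zero, Subgroup.card_eq_one] at hn
      exact hPne hn
    rw [hn, show n = 1 by omega, pow_one]
  obtain ⟨x, hx⟩ : ∃ x : G, orderOf x = p := by
    obtain ⟨x, hx⟩ := exists_prime_orderOf_dvd_card' (G := (P : Subgroup G)) p (by rw [hPp])
    exact ⟨(x : G), by rw [Subgroup.orderOf_coe, hx]⟩
  haveI htr : IsPretransitive G α := by
    have hxo : orderOf (x : Equiv.Perm α) = p := by rw [Subgroup.orderOf_coe, hx]
    have hcyc : (x : Equiv.Perm α).IsCycle :=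
      Equiv.Perm.isCycle_of_prime_order'' (hα ▸ hpp) (by rw [hxo, hα])
    have hsupp : (x : Equiv.Perm α).support = Finset.univ := by
      rw [← Finset.card_eq_iff_eq_univ, ← hcyc.orderOf, hxo, hα]
    refine ⟨fun a b => ?_⟩
    obtain ⟨i, -, hi⟩ := (hcyc.sameCycle (Equiv.Perm.mem_support.1 (hsupp ▸ Finset.mem_univ a))
      (Equiv.Perm.mem_support.1 (hsupp ▸ Finset.mem_univ b))).exists_pow_eq'
    exact ⟨x ^ i, hi⟩
  obtain ⟨a₀⟩ : Nonempty α := Fintype.card_pos_iff.1 (by omega)
  set Hs := stabilizer G a₀ with hHs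
  have hG : Nat.card G = p * Nat.card Hs := by
    rw [← hα, ← Nat.card_eq_fintype_card, ← index_stabilizer_of_transitive G a₀,
      Subgroup.index_mul_card]
  have hn : 1 < Nat.card (Sylow p G) := by
    by_contra h1
    push Not at h1
    haveI : Subsingleton (Sylow p G) := Finite.card_le_one_iff_subsingleton.1 h1
    exact hPn (Sylow.normal_of_subsingleton P)
  haveI : IsCyclic ↥(P : Subgroup G) := isCyclic_of_prime_card hPp
  have hPC : (P : Subgroup G) ≤ Subgroup.centralizer ((P : Subgroup G) : Set G) :=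
    haveI : IsMulCommutative ↥(P : Subgroup G) := IsCyclic.commutative
    Subgroup.le_centralizer _
  have hidx : ((P : Subgroup G).subgroupOf
      (Subgroup.normalizer ((P : Subgroup G) : Set G))).index = 2 := by
    have h := Subgroup.index_mul_card ((P : Subgroup G).subgroupOf
      (Subgroup.normalizer ((P : Subgroup G) : Set G)))
    rw [Nat.card_congr (Subgroup.subgroupOfEquivOfLe Subgroup.le_normalizer).toEquiv, hN, hPp] at h
    exact Nat.eq_of_mul_eq_mul_right hpp.pos h
  have hsimple : IsSimpleGroup G :=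
    Cfsg.Agent.S1013.result hα G P hn (by rw [hidx]; exact Nat.prime_two)
  have hns : ¬ Group.IsSolvable G := by
    intro hs
    haveI := hsimple
    have hcomm : ∀ a b : G, a * b = b * a := IsSimpleGroup.comm_iff_isSolvable.2 hs
    exact hPn ⟨fun w hw g => by rw [hcomm g w, mul_inv_cancel_right]; exact hw⟩
  have h2t : IsMultiplyPretransitive G α 2 :=
    (Cfsg.Agent.S0675.result (hα ▸ hpp) G).resolve_left hns
  have hC : Subgroup.centralizer ((P : Subgroup G) : Set G) = (P : Subgroup G) := by
    obtain ⟨σ, hσG, hσo, -, hσc⟩ := Perm.exists_cycle_prime_degree hα G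
    obtain ⟨Q, hQ⟩ := (IsPGroup.of_card (n := 1)
      (by rw [Nat.card_zpowers, ← Subgroup.orderOf_coe, hσo, pow_one]) :
      IsPGroup p (Subgroup.zpowers (⟨σ, hσG⟩ : G))).exists_le_sylow
    obtain ⟨c, hc⟩ := MulAction.exists_smul_eq G Q P
    refine le_antisymm (fun w hw => ?_) hPC
    have hmem : c * ⟨σ, hσG⟩ * c⁻¹ ∈ (P : Subgroup G) := by
      rw [← hc, Sylow.coe_subgroup_smul]
      exact ⟨_, hQ (Subgroup.mem_zpowers _), rfl⟩
    have h1 : Commute (c⁻¹ * w * c) ⟨σ, hσG⟩ := by
      have h2 := Subgroup.mem_centralizer_iff.1 hw _ hmem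
      show c⁻¹ * w * c * ⟨σ, hσG⟩ = ⟨σ, hσG⟩ * (c⁻¹ * w * c)
      calc c⁻¹ * w * c * ⟨σ, hσG⟩ = c⁻¹ * (w * (c * ⟨σ, hσG⟩ * c⁻¹)) * c := by group
        _ = _ := by rw [← h2]; group
    obtain ⟨k, hk⟩ := hσc _ (h1.map G.subtype)
    have h3 : c⁻¹ * w * c ∈ Subgroup.zpowers (⟨σ, hσG⟩ : G) := ⟨k, Subtype.ext (by simpa using hk)⟩
    have h4 : (c : G) * (c⁻¹ * w * c) * c⁻¹ ∈ (P : Subgroup G) := by
      rw [← hc, Sylow.coe_subgroup_smul]
      exact ⟨_, hQ h3, rfl⟩
    rwa [show c * (c⁻¹ * w * c) * c⁻¹ = w by group] at h4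
  have htwo : (Subgroup.centralizer ((P : Subgroup G) : Set G)).relIndex
      (Subgroup.normalizer ((P : Subgroup G) : Set G)) = 2 := by rw [hC]; exact hidx
  have hp : 3 < p := by
    by_contra hle
    have hp3 : p = 3 := by omega
    have h1 := Subgroup.card_dvd_of_le (le_top : G ≤ (⊤ : Subgroup (Equiv.Perm α)))
    rw [Subgroup.card_top, Nat.card_perm, Nat.card_eq_fintype_card (α := α), hα, hp3] at h1
    have h2 := Nat.le_of_dvd (by decide) h1
    have htop : Subgroup.normalizer ((P : Subgroup G) : Set G) = ⊤ :=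
      Subgroup.eq_top_of_card_eq _ (le_antisymm (Subgroup.card_le_card_group _) (by
        rw [hN, hp3]; exact h2.trans (by decide)))
    exact hPn (Subgroup.normalizer_eq_top_iff.1 htop)
  have H : DegTwoP.Hyp P := ⟨hPp, hC, htwo⟩
  have hH : ¬ p ∣ Nat.card Hs := by
    intro hd
    have h2 : p ^ 2 ∣ Nat.card G := by rw [hG, pow_two]; exact Nat.mul_dvd_mul_left p hd
    have h3 := (hpp.pow_dvd_iff_le_factorization Nat.card_pos.ne').1 h2
    have h4 : Nat.card P = p ^ (Nat.card G).factorization p := P.card_eq_multiplicity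
    rw [hPp] at h4
    have h5 := Nat.pow_right_injective hpp.two_le ((pow_one p).trans h4)
    omega
  -- the permutation character
  set π := Perm.PermChar.permChar G α with hπ
  have hsing : ∀ g : G, p ∣ orderOf g → π g = 0 := by
    intro g hg
    simp only [hπ, Perm.PermChar.permChar, Nat.cast_eq_zero, Nat.card_eq_zero]
    refine Or.inl ⟨fun c => ?_⟩
    obtain ⟨k, hk⟩ := MulAction.exists_smul_eq G (c : α) a₀
    refine hH ?_
    have hmem : k * g * k⁻¹ ∈ stabilizer G a₀ := by
      have hc : g • (c : α) = (c : α) := c.2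
      rw [mem_stabilizer_iff, mul_smul, mul_smul, ← hk, inv_smul_smul, hc]
    have h1 := orderOf_dvd_natCard (⟨_, hmem⟩ : stabilizer G a₀)
    rw [Subgroup.orderOf_mk, ← MulAut.conj_apply, MulEquiv.orderOf_eq] at h1
    exact hg.trans h1
  obtain ⟨m, hm⟩ := exists_decomposition (Perm.PermChar.isCharacter_permChar (G := G) (Ω := α))
  set one : IrrCharacter G := ⟨fun _ => 1, isIrrCharacter_one⟩ with hone
  have hm1 : m one = 1 := by
    have h := decomposition_coeff m hm one
    rw [show ((one : IrrCharacter G) : G → ℂ) = fun _ => 1 from rfl,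
      Perm.PermChar.inner_one a₀] at h
    exact_mod_cast h.symm
  have h2r : ∀ u v : α, u ≠ a₀ → v ≠ a₀ → ∃ k : Hs, k • u = v := by
    intro u v hu hv
    obtain ⟨g, hg1, hg2⟩ := MulAction.is_two_pretransitive_iff.1 h2t hu.symm hv.symm
    exact ⟨⟨g, hg1⟩, hg2⟩
  have hc2 : Nat.card (orbitRel.Quotient Hs α) = 2 := by
    obtain ⟨b, hb⟩ : ∃ b : α, b ≠ a₀ := Fintype.exists_ne_of_one_lt_card (by omega) a₀
    rw [Nat.card_eq_two_iff]
    refine ⟨Quotient.mk'' a₀, Quotient.mk'' b, fun e => ?_, ?_⟩
    · obtain ⟨k, hk⟩ := Quotient.exact' e.symm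
      exact hb (hk.symm.trans k.2)
    · refine Set.eq_univ_of_forall fun q => ?_
      obtain ⟨c, rfl⟩ := Quotient.mk''_surjective q
      rcases eq_or_ne c a₀ with rfl | hc
      · exact Set.mem_insert _ _
      · obtain ⟨k, hk⟩ := h2r b c hb hc
        exact Set.mem_insert_of_mem _ (Quotient.sound' ⟨k, hk⟩)
  have hsq : ∑ χ ∈ Finset.univ.erase one, m χ * m χ = 1 := by
    have h := Perm.PermChar.inner_self (G := G) a₀ (Ω := α)
    rw [hc2] at h
    have h' : classInner (Perm.PermChar.permChar G α) (Perm.PermChar.permChar G α) =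
        ∑ χ, ((m χ : ℂ) * m χ) := by
      conv_lhs => rw [hm]
      simp only [← Nat.cast_smul_eq_nsmul ℂ, classInner_sum_left, classInner_smul_left,
        classInner_sum_right, classInner_smul_right, irrC_orth, mul_ite, mul_one, mul_zero,
        Finset.mem_univ, if_true, Complex.conj_natCast]
      exact Finset.sum_congr rfl fun x _ => by simp
    rw [h'] at h
    have h'' : ∑ χ, m χ * m χ = 2 := by exact_mod_cast h
    rw [← Finset.add_sum_erase _ _ (Finset.mem_univ one), hm1] at h''
    omega
  obtain ⟨u, hu, hu0⟩ : ∃ u ∈ Finset.univ.erase one, m u * m u ≠ 0 :=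
    Finset.exists_ne_zero_of_sum_ne_zero (by rw [hsq]; norm_num)
  have hrest : ∀ χ ∈ (Finset.univ.erase one).erase u, m χ * m χ = 0 ∧ m u = 1 := by
    intro χ hχ
    have h := hsq
    rw [← Finset.add_sum_erase _ _ hu, ← Finset.add_sum_erase _ _ hχ] at h
    refine ⟨by omega, ?_⟩
    have : m u * m u = 1 := by omega
    exact (mul_eq_one.1 this).1
  have hu1 : m u = 1 := by
    have h := hsq
    rw [← Finset.add_sum_erase _ _ hu] at h
    have : m u * m u = 1 := by omega
    exact (mul_eq_one.1 this).1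
  have hval : ∀ g, π g = 1 + (u : G → ℂ) g := by
    intro g
    rw [hπ, congrFun hm g, Finset.sum_apply, ← Finset.add_sum_erase _ _ (Finset.mem_univ one), hm1,
      one_smul, ← Finset.add_sum_erase _ _ hu, hu1, one_smul, Finset.sum_eq_zero, add_zero]
    intro χ hχ
    rw [mul_self_eq_zero.1 (hrest χ hχ).1, zero_smul]
    rfl
  have hπ1 : π (1 : G) = (p : ℂ) := by
    simp only [hπ, Perm.PermChar.permChar]
    rw [show fixedBy α (1 : G) = Set.univ from Set.eq_univ_of_forall (one_smul G),
      Nat.card_univ, Nat.card_eq_fintype_card, hα]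
  have hS : DegTwoP.Special P u := by
    refine ⟨?_, fun y hy => ?_⟩
    · have := hval 1
      rw [hπ1] at this
      linear_combination -this
    · have h := hval (y : G)
      rw [hsing _ ?_] at h
      · linear_combination -h
      · obtain ⟨k, hk⟩ := FrobSylow.ppower (P := P) y
        rw [hk]
        refine dvd_pow_self p ?_
        rintro rfl
        rw [pow_zero] at hk
        exact mem_nonOne.1 hy (orderOf_eq_one_iff.1 hk)
  have hall : ∀ g : G, Nat.card (fixedBy α g) = p → g = 1 := by
    intro g hg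
    refine FaithfulSMul.eq_of_smul_eq_smul (α := α) fun c => ?_
    have := Set.eq_of_subset_of_ncard_le (Set.subset_univ (fixedBy α g)) (by
      rw [Set.ncard_univ, ← Nat.card_coe_set_eq, hg, Nat.card_eq_fintype_card, hα]) (Set.toFinite _)
    rw [one_smul]
    exact (this ▸ Set.mem_univ c : c ∈ fixedBy α g)
  have hker : ∀ g : G, g ≠ 1 → (u : G → ℂ) g ≠ (u : G → ℂ) 1 := by
    intro g hg1 hg
    refine hg1 (hall g ?_)
    have h1 := hval g
    rw [hg, ← hval 1, hπ1] at h1
    simp only [hπ, Perm.PermChar.permChar] at h1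
    exact Nat.cast_injective (R := ℂ) h1
  obtain ⟨hle, heq⟩ := DegTwoP.bound H hp hS hker
  -- the order
  obtain ⟨b, hb⟩ : ∃ b : α, b ≠ a₀ := Fintype.exists_ne_of_one_lt_card (by omega) a₀
  set K := stabilizer Hs b with hK
  have horbb : orbit Hs b = {a₀}ᶜ := by
    ext c
    constructor
    · rintro ⟨k, rfl⟩ hk
      exact hb (smul_left_cancel (k : G) ((Set.mem_singleton_iff.1 hk).trans k.2.symm))
    · intro hc
      obtain ⟨k, hk⟩ := h2r b c hb hc
      exact ⟨k, hk⟩
  have hHK : Nat.card Hs = (p - 1) * Nat.card K := by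
    rw [← Subgroup.index_mul_card K, index_stabilizer, horbb, Set.ncard_compl,
      Set.ncard_singleton, Nat.card_eq_fintype_card, hα]
  have hsyl : Nat.card Hs = 2 * Nat.card (Sylow p G) := by
    have h1 : Nat.card (Sylow p G) = (Subgroup.normalizer ((P : Subgroup G) : Set G)).index :=
      P.card_eq_index_normalizer
    have h2 := Subgroup.index_mul_card (Subgroup.normalizer ((P : Subgroup G) : Set G))
    rw [hN, hG, ← h1] at h2
    exact Nat.eq_of_mul_eq_mul_left hpp.pos (h2.symm.trans (by ring))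
  have hkle : Nat.card K ≤ p - 2 := by
    rw [hG, hHK] at hle
    rw [← mul_assoc] at hle
    exact Nat.le_of_mul_le_mul_left hle (Nat.mul_pos hpp.pos (show 0 < p - 1 by omega))
  have hk : Nat.card K = p - 2 := by
    have hd : p ∣ Nat.card K + 2 := by
      rw [← ZMod.natCast_eq_zero_iff]
      have h1 := congrArg (fun j : ℕ => (j : ZMod p)) (hsyl.symm.trans hHK)
      push_cast [hpp.one_le] at h1
      rw [(ZMod.natCast_eq_natCast_iff _ _ _).2 (card_sylow_modEq_one p G), ZMod.natCast_self] at h1
      push_cast at h1 ⊢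
      linear_combination h1
    have := Nat.le_of_dvd (by omega) hd
    omega
  have hcard : Nat.card G = p * (p - 1) * (p - 2) := by rw [hG, hHK, hk]; ring
  -- no non-identity element fixes three points
  have hfix3 : ∀ g : G, 3 ≤ Nat.card (fixedBy α g) → g = 1 := by
    intro g h3
    by_contra hg1
    by_cases hgp : p ∣ orderOf g
    · have := hsing g hgp
      simp only [hπ, Perm.PermChar.permChar, Nat.cast_eq_zero] at this
      omega
    · have hv := hval g
      simp only [hπ, Perm.PermChar.permChar] at hv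
      rcases heq hcard g hg1 hgp with e | e | e
      · rw [e, add_zero] at hv
        have : Nat.card (fixedBy α g) = 1 := by exact_mod_cast hv
        omega
      · rw [e] at hv
        have : Nat.card (fixedBy α g) = 2 :=
          Nat.cast_injective (R := ℂ) (by push_cast; rw [hv]; norm_num)
        omega
      · rw [e] at hv
        have : Nat.card (fixedBy α g) + 1 = p := by
          have h : ((Nat.card (fixedBy α g) + 1 : ℕ) : ℂ) = (p : ℂ) := by
            push_cast
            linear_combination hv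
          exact_mod_cast h
        refine Equiv.Perm.card_support_ne_one (g : Equiv.Perm α) ?_
        have h1 : ((g : Equiv.Perm α).support : Set α) = (fixedBy α g)ᶜ := by
          ext c
          simp [Equiv.Perm.mem_support, mem_fixedBy, Subgroup.smul_def, Equiv.Perm.smul_def]
        rw [← Set.ncard_coe_finset, h1, Set.ncard_compl, ← Nat.card_coe_set_eq,
          Nat.card_eq_fintype_card (α := α), hα]
        omega
  -- triple transitivity
  have h3t : IsMultiplyPretransitive G α 3 := by
    have hstep : ∀ c d : α, c ≠ a₀ → c ≠ b → d ≠ a₀ → d ≠ b → ∃ k : K, k • c = d := by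
      intro c d hca hcb hda hdb
      have hst : stabilizer K c = ⊥ := by
        rw [Subgroup.eq_bot_iff_forall]
        intro k hk
        have : ((k : Hs) : G) = 1 := by
          refine hfix3 _ ?_
          have hsub : ({a₀, b, c} : Set α) ⊆ fixedBy α ((k : Hs) : G) := by
            rintro w (rfl | rfl | rfl)
            · exact (k : Hs).2
            · exact k.2
            · exact hk
          have := Set.ncard_le_ncard hsub (Set.toFinite _)
          rw [Nat.card_coe_set_eq]
          rwa [Set.ncard_eq_three.2 ⟨a₀, b, c, hb.symm, hca.symm, hcb.symm, rfl⟩] at this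
        exact Subtype.ext (Subtype.ext this)
      have hoc : (orbit K c).ncard = p - 2 := by
        rw [← index_stabilizer, hst, Subgroup.index_bot, hk]
      have hsub : orbit K c ⊆ ({a₀, b} : Set α)ᶜ := by
        rintro _ ⟨k, rfl⟩ hk'
        rcases hk' with h | h
        · exact hca (smul_left_cancel ((k : Hs) : G) (h.trans (k : Hs).2.symm))
        · exact hcb (smul_left_cancel ((k : Hs) : G)
            ((Set.mem_singleton_iff.1 h).trans (k.2 : (k : Hs) • b = b).symm))
      have heq' := Set.eq_of_subset_of_ncard_le hsub (by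
        rw [Set.ncard_compl, Set.ncard_pair hb.symm, Nat.card_eq_fintype_card, hα, hoc]) (Set.toFinite _)
      have hdm : d ∈ orbit K c := by
        rw [heq']
        simp [hda, hdb]
      exact hdm
    refine ⟨fun x y => ?_⟩
    have key : ∀ x : Fin 3 ↪ α, ∃ g : G, g • x 0 = a₀ ∧ g • x 1 = b := by
      intro x
      have h01 : x 0 ≠ x 1 := fun e => by simpa using x.injective e
      obtain ⟨g, h1, h2⟩ := MulAction.is_two_pretransitive_iff.1 h2t h01 hb.symm
      exact ⟨g, h1, h2⟩
    obtain ⟨g, hg0, hg1⟩ := key x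
    obtain ⟨g', hg0', hg1'⟩ := key y
    have hne : ∀ (z : Fin 3 ↪ α) (w : G), w • z 0 = a₀ → w • z 1 = b →
        w • z 2 ≠ a₀ ∧ w • z 2 ≠ b := fun z w e0 e1 =>
      ⟨fun e => by simpa using z.injective (smul_left_cancel w (e.trans e0.symm)),
        fun e => by simpa using z.injective (smul_left_cancel w (e.trans e1.symm))⟩
    obtain ⟨k, hk2⟩ := hstep (g • x 2) (g' • y 2) (hne x g hg0 hg1).1 (hne x g hg0 hg1).2
      (hne y g' hg0' hg1').1 (hne y g' hg0' hg1').2
    refine ⟨g'⁻¹ * (((k : Hs) : G) * g), Function.Embedding.ext fun i => ?_⟩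
    show (g'⁻¹ * (((k : Hs) : G) * g)) • x i = y i
    rw [mul_smul, mul_smul, inv_smul_eq_iff]
    fin_cases i
    · show ((k : Hs) : G) • g • x 0 = g' • y 0
      rw [hg0, hg0']
      exact (k : Hs).2
    · show ((k : Hs) : G) • g • x 1 = g' • y 1
      rw [hg1, hg1']
      exact k.2
    · exact hk2
  obtain ⟨a, -, ha, F, hF, hF', hcardF, e⟩ := Cfsg.Agent.S4702.result (by omega)
    (hα ▸ (hpp.odd_of_ne_two (by omega))) G h3t hfix3
  exact ⟨a, F, hF, hF', hα ▸ ha, hcardF, e⟩

end Cfsg.Agent.S4706
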