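import Cfsg.Statements.S1230
import Cfsg.Agent.Lib.Fusion.ElemCentralizersTriple
import Cfsg.Agent.Lib.Small.PSL2
import Cfsg.Agent.Lib.Lead.GLBasic
import Cfsg.Agent.Lib.Lead.ProjLine

set_option autoImplicit false
open Cfsg
open Cfsg.Agent.Fusion
open scoped commutatorElement

namespace Cfsg.Agent.S1230

theorem field_coords {G : Type*} [Group G] [Finite G] {T : Sylow 2 G} (h : ECent.Ctx T) {u : G} (huu : u * u = 1)
    (huH : u ∉ ECent.Hn T) {m : ℕ} (hm2 : 2 ≤ m) (hm : Nat.card ↥(T : Subgroup G) = 2 ^ m) :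
    ∃ e : GaloisField 2 m → G, (∀ a, e a ∈ (T : Subgroup G)) ∧ Function.Injective e ∧
      (∀ t ∈ (T : Subgroup G), ∃ a, e a = t) ∧ (∀ a b, e (a + b) = e a * e b) ∧
      ∀ a, a ≠ 0 → ∃ d ∈ ECent.Dg T u, ∀ x, e (a * x) = d * e x * d⁻¹ := by
  classical
  letI : CommGroup ↥(T : Subgroup G) :=
    { (inferInstance : Group ↥(T : Subgroup G)) with mul_comm := fun x y => Subtype.ext (ECent.T_comm h x.2 y.2) }
  let f : ↥(ECent.Dg T u) → AddMonoid.End (Additive ↥(T : Subgroup G)) := fun d =>
    MonoidHom.toAdditive (MonoidHom.mk' (fun t : ↥(T : Subgroup G) =>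
      (⟨(d : G) * t * (d : G)⁻¹, ECent.conj_T (ECent.mem_Dg.1 d.2).1 t.2⟩ : ↥(T : Subgroup G))) (fun a b => Subtype.ext (by
        show (d : G) * ((a : G) * b) * (d : G)⁻¹ = (d : G) * a * (d : G)⁻¹ * ((d : G) * b * (d : G)⁻¹)
        group)))
  have hf : ∀ d (t : ↥(T : Subgroup G)), (((Additive.toMul (f d (Additive.ofMul t)) : ↥(T : Subgroup G))) : G) = (d : G) * t * (d : G)⁻¹ :=
    fun d t => rfl
  have hcomm : ∀ x ∈ Set.range f, ∀ y ∈ Set.range f, x * y = y * x := by
    rintro _ ⟨a, rfl⟩ _ ⟨b, rfl⟩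
    refine AddMonoidHom.ext fun v => ?_
    apply Additive.toMul.injective
    apply Subtype.ext
    show (a : G) * ((b : G) * (Additive.toMul v).1 * (b : G)⁻¹) * (a : G)⁻¹ =
      (b : G) * ((a : G) * (Additive.toMul v).1 * (a : G)⁻¹) * (b : G)⁻¹
    have e := ECent.D_comm h huu huH a.2 b.2
    calc _ = ((a : G) * b) * (Additive.toMul v).1 * ((a : G) * b)⁻¹ := by group
      _ = ((b : G) * a) * (Additive.toMul v).1 * ((b : G) * a)⁻¹ := by rw [e]
      _ = _ := by group
  letI : CommRing ↥(Subring.closure (Set.range f)) := Subring.closureCommRingOfComm hcomm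
  obtain ⟨t₀, ht₀, ht₀1⟩ := ECent.exists_t1 h huu huH
  obtain ⟨v₀, hv₀⟩ : ∃ v₀ : Additive ↥(T : Subgroup G), v₀ = Additive.ofMul ⟨t₀, ht₀⟩ := ⟨_, rfl⟩
  have horb : ∀ v : Additive ↥(T : Subgroup G), v = 0 ∨ ∃ d, f d v₀ = v := by
    intro v
    by_cases hv : v = 0
    · exact Or.inl hv
    right
    have hv1 : ((Additive.toMul v : ↥(T : Subgroup G)) : G) ≠ 1 := fun e => hv (Additive.toMul.injective (Subtype.ext e))
    obtain ⟨d, hd, e⟩ := ECent.conj_D h huu huH ht₀ ht₀1 (Additive.toMul v).2 hv1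
    refine ⟨⟨d, hd⟩, Additive.toMul.injective (Subtype.ext ?_)⟩
    rw [hv₀, hf]; exact e
  have hrc : ∀ (r : ↥(Subring.closure (Set.range f))) d, r.1 * f d = f d * r.1 := fun r d =>
    congrArg Subtype.val (mul_comm r ⟨f d, Subring.subset_closure ⟨d, rfl⟩⟩)
  have hinj : Function.Injective (fun r : ↥(Subring.closure (Set.range f)) => r.1 v₀) := by
    intro a b e
    apply Subtype.ext
    refine AddMonoidHom.ext fun v => ?_
    rcases horb v with rfl | ⟨d, rfl⟩
    · exact (AddMonoidHom.map_zero (a.1 : Additive ↥(T : Subgroup G) →+ _)).trans (AddMonoidHom.map_zero (b.1 : Additive ↥(T : Subgroup G) →+ _)).symm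
    · have ea : a.1 (f d v₀) = f d (a.1 v₀) := DFunLike.congr_fun (hrc a d) v₀
      have eb : b.1 (f d v₀) = f d (b.1 v₀) := DFunLike.congr_fun (hrc b d) v₀
      exact ea.trans ((congrArg (f d) (show a.1 v₀ = b.1 v₀ from e)).trans eb.symm)
  haveI : Finite ↥(Subring.closure (Set.range f)) := Finite.of_injective _ hinj
  haveI : Fintype ↥(Subring.closure (Set.range f)) := Fintype.ofFinite _
  have hsurj : Function.Surjective (fun r : ↥(Subring.closure (Set.range f)) => r.1 v₀) := by
    intro v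
    rcases horb v with rfl | ⟨d, rfl⟩
    · exact ⟨0, rfl⟩
    · exact ⟨⟨f d, Subring.subset_closure ⟨d, rfl⟩⟩, rfl⟩
  have hunit : ∀ r : ↥(Subring.closure (Set.range f)), r ≠ 0 → ∃ d, r.1 = f d := by
    intro r hr
    rcases horb (r.1 v₀) with e | ⟨d, e⟩
    · exact absurd (hinj (show r.1 v₀ = (0 : ↥(Subring.closure (Set.range f))).1 v₀ from e.trans rfl)) hr
    · exact ⟨d, congrArg Subtype.val (hinj (show r.1 v₀ = (⟨f d, Subring.subset_closure ⟨d, rfl⟩⟩ : ↥(Subring.closure (Set.range f))).1 v₀ from e.symm))⟩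
  have hF : IsField ↥(Subring.closure (Set.range f)) := by
    refine ⟨⟨0, 1, fun e => ?_⟩, mul_comm, fun {r} hr => ?_⟩
    · have := congrArg (fun r : ↥(Subring.closure (Set.range f)) => r.1 v₀) e
      have h1 : (0 : Additive ↥(T : Subgroup G)) = v₀ := this
      rw [hv₀] at h1
      exact ht₀1 (congrArg (fun v : Additive ↥(T : Subgroup G) => ((Additive.toMul v : ↥(T : Subgroup G)) : G)) h1).symm
    · obtain ⟨d, hd⟩ := hunit r hr
      refine ⟨⟨f d⁻¹, Subring.subset_closure ⟨_, rfl⟩⟩, Subtype.ext ?_⟩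
      show r.1 * f d⁻¹ = 1
      rw [hd]
      refine AddMonoidHom.ext fun v => ?_
      apply Additive.toMul.injective
      apply Subtype.ext
      show (d : G) * ((d : G)⁻¹ * (Additive.toMul v).1 * (d : G)⁻¹⁻¹) * (d : G)⁻¹ = (Additive.toMul v).1
      group
  letI : Field ↥(Subring.closure (Set.range f)) := hF.toField
  haveI : Fintype (GaloisField 2 m) := Fintype.ofFinite _
  have hcK : Fintype.card (GaloisField 2 m) = 2 ^ m := by
    rw [← Nat.card_eq_fintype_card, GaloisField.card 2 m (by omega)]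
  have hcR : Fintype.card ↥(Subring.closure (Set.range f)) = 2 ^ m := by
    rw [← Nat.card_eq_fintype_card, Nat.card_eq_of_bijective _ ⟨hinj, hsurj⟩, ← hm]
    exact Nat.card_congr Additive.toMul
  obtain θ := FiniteField.ringEquivOfCardEq (hcK.trans hcR.symm)
  refine ⟨fun a => ((Additive.toMul ((θ a).1 v₀) : ↥(T : Subgroup G)) : G), fun a => SetLike.coe_mem _, ?_, ?_, ?_, ?_⟩
  · intro a b e
    exact θ.injective (hinj (Additive.toMul.injective (Subtype.ext e)))
  · intro t ht
    obtain ⟨r, hr⟩ := hsurj (Additive.ofMul ⟨t, ht⟩)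
    refine ⟨θ.symm r, ?_⟩
    simp only [RingEquiv.apply_symm_apply]
    rw [show r.1 v₀ = Additive.ofMul ⟨t, ht⟩ from hr]
    rfl
  · intro a b
    simp only [map_add]
    rfl
  · intro a ha
    obtain ⟨d, hd⟩ := hunit (θ a) (fun e => ha (θ.injective (e.trans (map_zero θ).symm)))
    refine ⟨d, d.2, fun x => ?_⟩
    simp only [map_mul]
    show ((Additive.toMul ((θ a).1 ((θ x).1 v₀)) : ↥(T : Subgroup G)) : G) = _
    rw [hd]
    rfl

/-- Let G be a finite group with a Sylow 2-subgroup T that is neither cyclic nor normal, such that the centralizer of every involution is an elementary abelian 2-group. Then G ≅ PSL(2,F) for a finite field F with |F| = |T|. -/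
theorem result {G : Type*} [Group G] [Finite G] (T : Sylow 2 G) (hnc : ¬ IsCyclic (T : Subgroup G)) (hnn : ¬ (T : Subgroup G).Normal) (hC : ∀ t : G, orderOf t = 2 → IsMulCommutative (Subgroup.centralizer ({t} : Set G)) ∧ ∀ c ∈ Subgroup.centralizer ({t} : Set G), c ^ 2 = 1) : ∃ (F : Type) (_ : Field F) (_ : Fintype F), Fintype.card F = Nat.card T ∧ Nonempty (G ≃* Matrix.ProjectiveSpecialLinearGroup (Fin 2) F) := by
  classical
  have h : ECent.Ctx T := ⟨hnc, hnn, hC⟩
  obtain ⟨u, huu, -, huH⟩ := ECent.exists_invol_outside h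
  obtain ⟨m, hm2, hm⟩ := ECent.T_card h
  obtain ⟨e, heT, heinj, hesurj, hadd, hmul⟩ := field_coords h huu huH hm2 hm
  haveI : Fintype (GaloisField 2 m) := Fintype.ofFinite _
  have hK : Fintype.card (GaloisField 2 m) = Nat.card ↥(T : Subgroup G) := by
    rw [hm, ← Nat.card_eq_fintype_card, GaloisField.card 2 m (by omega)]
  refine ⟨GaloisField 2 m, inferInstance, inferInstance, hK, ?_⟩
  have he0 : e 0 = 1 := by
    have := hadd 0 0
    rw [add_zero] at this
    exact left_eq_mul.1 this
  have he1 : e 1 ≠ 1 := fun e1 => one_ne_zero (heinj (e1.trans he0.symm))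
  -- a normalised inverting involution
  obtain ⟨w, hwb, hwu, hw1, hwinv⟩ : ∃ w : G,
      w • (QuotientGroup.mk 1 : G ⧸ ECent.Hn T) = QuotientGroup.mk u ∧
      w • (QuotientGroup.mk u : G ⧸ ECent.Hn T) = QuotientGroup.mk 1 ∧
      w • (QuotientGroup.mk (e 1 * u) : G ⧸ ECent.Hn T) = QuotientGroup.mk (e 1 * u) ∧
      ∀ d ∈ ECent.Dg T u, w * d * w⁻¹ = d⁻¹ := by
    have hub : u • (QuotientGroup.mk u : G ⧸ ECent.Hn T) = QuotientGroup.mk 1 := by
      rw [MulAction.Quotient.smul_mk, smul_eq_mul, huu]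
    obtain ⟨t', ht', et'⟩ := ECent.mk_tu h huu huH (x := u • (QuotientGroup.mk (e 1 * u) : G ⧸ ECent.Hn T)) (by
      intro e'
      have := MulAction.injective u (e'.trans hub.symm)
      exact he1 (ECent.mk_tu_inj h huu huH (heT 1) (one_mem _) (by rw [one_mul]; exact this)))
    have ht'1 : t' ≠ 1 := by
      intro e'
      rw [e', one_mul, ← ECent.base_eq (g := u)] at et'
      exact ECent.tu_ne_base huH (heT 1) (MulAction.injective u et'.symm)
    obtain ⟨d, hd, ed⟩ := ECent.conj_D h huu huH (heT 1) he1 ht' ht'1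
    refine ⟨d⁻¹ * u, ?_, ?_, ?_, fun x hx => ?_⟩
    · rw [mul_smul, ECent.base_eq (g := u)]
      have := ECent.D_on_tu h huu huH (t := 1) (inv_mem hd)
      simpa using this
    · rw [mul_smul, hub, ECent.fix_base]; exact inv_mem (ECent.mem_Dg.1 hd).1
    · rw [mul_smul, ← et', ECent.D_on_tu h huu huH (inv_mem hd), ← ed]
      congr 1; group
    · rw [show d⁻¹ * u * x * (d⁻¹ * u)⁻¹ = d⁻¹ * (u * x * u⁻¹) * d by group, ECent.u_inverts h huu huH hx,
        mul_assoc, ECent.D_comm h huu huH (inv_mem hx) hd, inv_mul_cancel_left]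
  -- coordinates
  let P : OnePoint (GaloisField 2 m) → G ⧸ ECent.Hn T := fun x =>
    OnePoint.elim x (QuotientGroup.mk 1) (fun a => QuotientGroup.mk (e a * u))
  have hP0 : P (0 : GaloisField 2 m) = QuotientGroup.mk u := by
    show QuotientGroup.mk (e 0 * u) = _
    rw [he0, one_mul]
  have hPb : Function.Bijective P := by
    constructor
    · intro x y hxy
      induction x using OnePoint.rec <;> induction y using OnePoint.rec
      · rfl
      · exact absurd hxy.symm (ECent.tu_ne_base huH (heT _))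
      · exact absurd hxy (ECent.tu_ne_base huH (heT _))
      · rw [heinj (ECent.mk_tu_inj h huu huH (heT _) (heT _) hxy)]
    · intro x
      by_cases hx : x = QuotientGroup.mk 1
      · exact ⟨OnePoint.infty, hx.symm⟩
      · obtain ⟨t, ht, et⟩ := ECent.mk_tu h huu huH hx
        obtain ⟨a, ha⟩ := hesurj t ht
        exact ⟨(a : OnePoint (GaloisField 2 m)), by rw [← et, ← ha]; rfl⟩
  let Pe := Equiv.ofBijective P hPb
  let ρ : G →* Equiv.Perm (OnePoint (GaloisField 2 m)) :=
    Pe.symm.permCongrHom.toMonoidHom.comp (MulAction.toPermHom G (G ⧸ ECent.Hn T))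
  have hρ : ∀ g x y, g • P x = P y → ρ g x = y := by
    intro g x y e'
    show Pe.symm (g • Pe x) = y
    rw [Equiv.symm_apply_eq]
    exact e'
  have hρ' : ∀ g x, P (ρ g x) = g • P x := fun g x => Pe.apply_symm_apply (g • Pe x)
  have hρinj : Function.Injective ρ := by
    rw [injective_iff_map_eq_one]
    intro g hg
    have hfix : ∀ x, g • P x = P x := fun x => by rw [← hρ', hg]; rfl
    refine ECent.free3 h huu huH (x₁ := P OnePoint.infty) (x₂ := P (0 : GaloisField 2 m)) (x₃ := P (1 : GaloisField 2 m))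
      ?_ ?_ ?_ (hfix _) (hfix _) (hfix _) <;> intro e' <;> have := hPb.1 e'
    · exact OnePoint.infty_ne_coe _ this
    · exact OnePoint.infty_ne_coe _ this
    · exact zero_ne_one (OnePoint.coe_injective this)
  -- the Möbius action
  let ψ : Matrix.SpecialLinearGroup (Fin 2) (GaloisField 2 m) →* Equiv.Perm (OnePoint (GaloisField 2 m)) :=
    (MulAction.toPermHom (GL (Fin 2) (GaloisField 2 m)) (OnePoint (GaloisField 2 m))).comp
      Matrix.SpecialLinearGroup.toGL
  have huS : ∀ b, ψ (Small.PSL2.uS b) = ρ (e b) := by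
    intro b
    refine Equiv.ext fun x => (hρ (e b) x _ ?_).symm
    show e b • P x = P (Matrix.SpecialLinearGroup.toGL (Small.PSL2.uS b) • x)
    induction x using OnePoint.rec with
    | infty =>
      rw [OnePoint.smul_infty_eq_ite, if_pos (by simp)]
      exact ECent.fix_base.2 (ECent.T_le (heT b))
    | coe a =>
      rw [OnePoint.smul_some_eq_ite, if_neg (by simp)]
      show e b • (QuotientGroup.mk (e a * u) : G ⧸ ECent.Hn T) = QuotientGroup.mk (e _ * u)
      rw [MulAction.Quotient.smul_mk, smul_eq_mul, ← mul_assoc, ← hadd, add_comm]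
      simp
  have hwS : ψ Small.PSL2.wS = ρ w := by
    refine Equiv.ext fun x => (hρ w x _ ?_).symm
    show w • P x = P (Matrix.SpecialLinearGroup.toGL (Small.PSL2.wS (F := GaloisField 2 m)) • x)
    induction x using OnePoint.rec with
    | infty =>
      rw [OnePoint.smul_infty_eq_ite, if_neg (by simp)]
      have : (Matrix.SpecialLinearGroup.toGL (Small.PSL2.wS (F := GaloisField 2 m))) 0 0 = 0 := by simp
      rw [this, zero_div, hP0]
      exact hwb
    | coe a =>
      by_cases ha : a = 0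
      · subst ha
        rw [OnePoint.smul_some_eq_ite, if_pos (by simp), hP0]
        exact hwu
      · rw [OnePoint.smul_some_eq_ite, if_neg (by simp [ha])]
        obtain ⟨d, hd, hdx⟩ := hmul a ha
        have e1 : e a = d * e 1 * d⁻¹ := by rw [← hdx, mul_one]
        have e2 : e a⁻¹ = d⁻¹ * e 1 * d := by
          have := hdx a⁻¹
          rw [mul_inv_cancel₀ ha] at this
          rw [this]; group
        show w • (QuotientGroup.mk (e a * u) : G ⧸ ECent.Hn T) = QuotientGroup.mk (e _ * u)
        rw [e1, ← ECent.D_on_tu h huu huH hd, ← mul_smul,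
          show w * d = (w * d * w⁻¹) * w by group, hwinv d hd, mul_smul, hw1,
          ECent.D_on_tu h huu huH (inv_mem hd)]
        congr 2
        rw [inv_inv, ← e2]
        simp [div_eq_mul_inv, CharTwo.neg_eq]
  have hrange : ∀ A : Matrix.SpecialLinearGroup (Fin 2) (GaloisField 2 m), ψ A ∈ ρ.range := by
    have hu' : ∀ c, ψ (Small.PSL2.uS c) ∈ ρ.range := fun c => ⟨_, (huS c).symm⟩
    have hv : ∀ c, ψ (Small.PSL2.vS c) ∈ ρ.range := by
      intro c
      have : Small.PSL2.vS c = Small.PSL2.wS * Small.PSL2.uS (-c) * Small.PSL2.wS⁻¹ := by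
        rw [Small.PSL2.wS_uS, neg_neg, mul_inv_cancel_right]
      rw [this, map_mul, map_mul, map_inv]
      exact mul_mem (mul_mem ⟨w, hwS.symm⟩ (hu' _)) (inv_mem ⟨w, hwS.symm⟩)
    intro A
    refine Matrix.SL2.transvection_induction (fun B => ψ B ∈ ρ.range) ?_ ?_ A
    · intro i j hij c
      fin_cases i <;> fin_cases j
      · exact absurd rfl hij
      · convert hu' c using 2
        apply Subtype.ext; rw [Matrix.SpecialLinearGroup.transvection_coe, Small.PSL2.uS_val]
        ext a b; fin_cases a <;> fin_cases b <;> simp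
      · convert hv c using 2
        apply Subtype.ext; rw [Matrix.SpecialLinearGroup.transvection_coe, Small.PSL2.vS_val]
        ext a b; fin_cases a <;> fin_cases b <;> simp
      · exact absurd rfl hij
    · intro B C hB hC
      rw [map_mul]; exact mul_mem hB hC
  have hq2 : 2 ∣ Fintype.card (GaloisField 2 m) := by
    rw [hK, hm]; exact dvd_pow_self 2 (by omega)
  have hq := ECent.four_le h
  haveI : Nonempty (Fin 2) := ⟨0⟩
  have hgcd : Nat.gcd 2 (Fintype.card (GaloisField 2 m) - 1) = 1 := by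
    refine Nat.coprime_iff_gcd_eq_one.1 (Nat.coprime_two_left.2 ?_)
    obtain ⟨k, hk⟩ := hq2
    exact ⟨k - 1, by omega⟩
  have hcen : Subgroup.center (Matrix.SpecialLinearGroup (Fin 2) (GaloisField 2 m)) = ⊥ := by
    rw [← Subgroup.card_eq_one, Lead.GLBasic.card_center_SL, hgcd]
  have hψinj : Function.Injective ψ := by
    rw [injective_iff_map_eq_one]
    intro A hA
    have hfix : ∀ x : OnePoint (GaloisField 2 m), Matrix.SpecialLinearGroup.toGL A • x = x := fun x =>
      congrFun (congrArg DFunLike.coe hA) x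
    have h10 : A.1 1 0 = 0 := OnePoint.smul_infty_eq_self_iff.1 (hfix OnePoint.infty)
    have hd := Small.PSL2.det_two A
    rw [h10, mul_zero, sub_zero] at hd
    have h11 : A.1 1 1 ≠ 0 := fun e' => by simp [e'] at hd
    have hA' : ∀ i j, (Matrix.SpecialLinearGroup.toGL A) i j = A.1 i j := fun i j => rfl
    have hat : ∀ k : GaloisField 2 m, (A.1 0 0 * k + A.1 0 1) / A.1 1 1 = k := by
      intro k
      have := hfix (k : OnePoint (GaloisField 2 m))
      rw [OnePoint.smul_some_eq_ite] at this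
      simp only [hA', h10, zero_mul, zero_add, if_neg h11] at this
      exact OnePoint.coe_injective this
    have h01 : A.1 0 1 = 0 := by
      have := hat 0
      rw [mul_zero, zero_add, div_eq_zero_iff] at this
      exact this.resolve_right h11
    have h00 : A.1 0 0 = A.1 1 1 := by
      have := hat 1
      rw [h01, mul_one, add_zero, div_eq_one_iff_eq h11] at this
      exact this
    have : A ∈ Subgroup.center (Matrix.SpecialLinearGroup (Fin 2) (GaloisField 2 m)) := by
      rw [Subgroup.mem_center_iff]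
      intro B
      apply Subtype.ext
      simp only [Matrix.SpecialLinearGroup.coe_mul]
      ext i j
      fin_cases i <;> fin_cases j <;> simp [Matrix.mul_apply, Fin.sum_univ_two, h10, h01, h00, mul_comm]
    rwa [hcen, Subgroup.mem_bot] at this
  obtain ⟨χ, hχ⟩ : ∃ χ : Matrix.SpecialLinearGroup (Fin 2) (GaloisField 2 m) →* G, ∀ A, ρ (χ A) = ψ A :=
    ⟨(MonoidHom.ofInjective hρinj).symm.toMonoidHom.comp (ψ.codRestrict ρ.range hrange),
      fun A => congrArg Subtype.val ((MonoidHom.ofInjective hρinj).apply_symm_apply ⟨ψ A, hrange A⟩)⟩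
  have hχinj : Function.Injective χ := fun a b e' => hψinj (by rw [← hχ, ← hχ, e'])
  have hcard : Nat.card (Matrix.SpecialLinearGroup (Fin 2) (GaloisField 2 m)) = Nat.card G := by
    have h1 := Subgroup.card_eq_card_quotient_mul_card_subgroup (ECent.Hn T)
    rw [← Nat.card_congr Pe, ECent.card_H h, ← hK, Nat.card_eq_fintype_card (α := OnePoint (GaloisField 2 m))] at h1
    have h2 : Fintype.card (OnePoint (GaloisField 2 m)) = Fintype.card (GaloisField 2 m) + 1 := Fintype.card_option
    rw [h2] at h1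
    have h3 := Lead.ProjLine.card_SL2_mul (F := GaloisField 2 m)
    obtain ⟨c, hc⟩ : ∃ c, Fintype.card (GaloisField 2 m) = c + 4 := ⟨Fintype.card (GaloisField 2 m) - 4, by omega⟩
    rw [hc] at h1 h3
    have e1 : (c + 4) ^ 2 - 1 = (c + 5) * (c + 3) :=
      Nat.sub_eq_of_eq_add (by ring)
    have e2 : (c + 4) ^ 2 - (c + 4) = (c + 4) * (c + 3) :=
      Nat.sub_eq_of_eq_add (by ring)
    have e3 : c + 4 - 1 = c + 3 := by omega
    rw [e1, e2, e3] at h3
    rw [e3] at h1
    rw [h1]
    refine Nat.eq_of_mul_eq_mul_left (show 0 < c + 3 by omega) ?_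
    rw [h3]; ring
  have hbij : Function.Bijective χ := (Nat.bijective_iff_injective_and_card χ).2 ⟨hχinj, hcard⟩
  exact ⟨(MulEquiv.ofBijective χ hbij).symm.trans
    ((QuotientGroup.quotientBot.symm).trans (QuotientGroup.quotientMulEquivOfEq hcen.symm))⟩

end Cfsg.Agent.S1230
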