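import Cfsg.Statements.S1951
import Cfsg.Agent.Lib.Char.OneClassProducts

set_option autoImplicit false
open Cfsg

namespace Cfsg.Agent.S1951

open Cfsg.Agent.Char
open scoped ComplexConjugate

theorem int_values {G : Type*} [Group G] [Fintype G] {P : Subgroup G} (hP : 1 < Nat.card P)
    {χ : G → ℂ} (h : IsCharacter G χ) {x : G} (hconst : ∀ u : P, u ≠ 1 → χ u = χ x) :
    ∃ (d : ℕ) (c t : ℤ), χ 1 = (d : ℂ) ∧ χ x = (c : ℂ) ∧ (d : ℤ) = c + (Nat.card P : ℤ) * t := by
  classical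
  haveI : Fintype P := Fintype.ofFinite _
  obtain ⟨d, hd⟩ := charOne_eq_natCast h
  obtain ⟨n, hn⟩ := classInner_natCast (isCharacter_comp P.subtype h) (isCharacter_one (G := P))
  have hq0 : (Nat.card P : ℂ) ≠ 0 := Nat.cast_ne_zero.2 Nat.card_pos.ne'
  have hsum : (∑ u : P, χ u) = (Nat.card P : ℂ) * n := by
    rw [← hn, classInner, ← mul_assoc, mul_inv_cancel₀ hq0, one_mul]
    simp
  have hsum2 : (∑ u : P, χ u) = d + ((Nat.card P : ℂ) - 1) * χ x := by
    rw [← Finset.add_sum_erase _ _ (Finset.mem_univ (1 : P)),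
      Finset.sum_congr rfl fun u hu => hconst u (Finset.ne_of_mem_erase hu), Finset.sum_const,
      Finset.card_erase_of_mem (Finset.mem_univ _), Finset.card_univ, ← Nat.card_eq_fintype_card,
      nsmul_eq_mul, Nat.cast_sub hP.le, OneMemClass.coe_one, hd, Nat.cast_one]
  rw [hsum2] at hsum
  have hq1 : ((Nat.card P : ℚ) - 1) ≠ 0 := by
    have : (1 : ℚ) < Nat.card P := by exact_mod_cast hP
    linarith
  have hq1' : ((Nat.card P : ℂ) - 1) ≠ 0 := by exact_mod_cast hq1
  have hx : χ x = (((((Nat.card P : ℚ) * n - d) / ((Nat.card P : ℚ) - 1)) : ℚ) : ℂ) := by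
    push_cast
    rw [eq_div_iff hq1']
    linear_combination hsum
  obtain ⟨c, hc⟩ := isIntegral_rat_cast_imp (hx ▸ char_isIntegral h x)
  have hxc : χ x = (c : ℂ) := by rw [hx, ← hc]; norm_num
  refine ⟨d, c, n - c, hd, hxc, ?_⟩
  rw [hxc] at hsum
  have : ((d : ℤ) : ℂ) = ((c + (Nat.card P : ℤ) * ((n : ℤ) - c) : ℤ) : ℂ) := by
    push_cast
    linear_combination hsum
  exact_mod_cast this

theorem eq_trivial_of_value {G : Type*} [Group G] [Fintype G] [IsSimpleGroup G] (χ : IrrCharacter G)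
    {x : G} (hx : x ≠ 1) (h : (χ : G → ℂ) x = (χ : G → ℂ) 1) :
    χ = ⟨fun _ => 1, isIrrCharacter_one⟩ := by
  have hn := blockKerSub_normal ({χ} : Set (IrrCharacter G))
  have hx' : x ∈ blockKerSub ({χ} : Set (IrrCharacter G)) := fun ψ hψ => by
    rw [Set.mem_singleton_iff.1 hψ]; exact h
  have htop := (hn.eq_bot_or_eq_top).resolve_left fun hb => hx (by
    rw [hb] at hx'; exact Subgroup.mem_bot.1 hx')
  have hall : ∀ g : G, (χ : G → ℂ) g = (χ : G → ℂ) 1 := fun g => by
    have hg : g ∈ blockKerSub ({χ} : Set (IrrCharacter G)) := htop ▸ Subgroup.mem_top g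
    exact hg χ rfl
  obtain ⟨d, hd⟩ := charOne_eq_natCast (irr_isCharacter χ.2)
  have h1 := irr_self χ.2
  have he : ∀ g : G, (χ : G → ℂ) g * conj ((χ : G → ℂ) g) = (d : ℂ) * d := fun g => by
    rw [hall g, hd, map_natCast]
  rw [classInner, Finset.sum_congr rfl fun g _ => he g, Finset.sum_const,
    Finset.card_univ, nsmul_eq_mul, ← Nat.card_eq_fintype_card, ← mul_assoc,
    inv_mul_cancel₀ (Nat.cast_ne_zero.2 Nat.card_pos.ne'), one_mul] at h1
  have h2 : d * d = 1 := by exact_mod_cast h1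
  apply Subtype.ext
  funext g
  have hd1 : d = 1 := Nat.eq_one_of_mul_eq_one_left h2
  rw [hall g, hd, hd1, Nat.cast_one]

/-- The arithmetic contradiction. -/
theorem no_column {ι : Type*} [DecidableEq ι] (B : Finset ι) (c : ι → ℤ) (d : ι → ℕ) (e : ι) (he : e ∈ B)
    (hce : c e = 1) (hde : d e = 1) (p q : ℕ) (hp : 3 ≤ p) (hq : p ∣ q) (hq0 : 0 < q) (hodd : Odd q)
    (hsq : ∑ i ∈ B, c i ^ 2 = q) (horth : ∑ i ∈ B, c i * d i = 0)
    (hd : ∀ i ∈ B, i ≠ e → 0 < d i ∧ ∃ t : ℤ, t ≠ 0 ∧ (d i : ℤ) = c i + q * t)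
    (hineq : ((q : ℝ) * ((p : ℝ) - 2)) ≤ ((p : ℝ) - 1) * ∑ i ∈ B, (c i : ℝ) ^ 3 / (d i : ℝ)) :
    False := by
  rw [← Finset.add_sum_erase _ _ he, hce] at hsq
  rw [← Finset.add_sum_erase _ _ he, hce, hde] at horth
  rw [← Finset.add_sum_erase _ _ he, hce, hde] at hineq
  norm_num at hsq horth hineq
  set B' := B.erase e with hB'
  have hq3 : 3 ≤ q := hp.trans (Nat.le_of_dvd hq0 hq)
  have hc2 : ∀ i ∈ B', c i ^ 2 + 1 ≤ (q : ℤ) := fun i hi => by
    have : c i ^ 2 ≤ ∑ j ∈ B', c j ^ 2 :=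
      Finset.single_le_sum (f := fun j => c j ^ 2) (fun j _ => sq_nonneg _) hi
    omega
  have hdeg : ∀ i ∈ B', 0 < (d i : ℝ) ∧ (q : ℝ) - |(c i : ℝ)| ≤ d i ∧ (0 : ℝ) < (q : ℝ) - |(c i : ℝ)| := by
    intro i hi
    obtain ⟨hd0, t, ht, hdt⟩ := hd i (Finset.mem_of_mem_erase hi) (Finset.ne_of_mem_erase hi)
    have h2 := hc2 i hi
    have habs : |c i| < (q : ℤ) := by
      have := sq_abs (c i)
      nlinarith [abs_nonneg (c i)]
    have hle : (q : ℤ) - |c i| ≤ (d i : ℤ) := by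
      rcases lt_or_gt_of_ne ht with ht | ht
      · exfalso
        have : (q : ℤ) * t ≤ -q := by nlinarith
        have := le_abs_self (c i)
        omega
      · have : (q : ℤ) ≤ (q : ℤ) * t := by nlinarith
        have := neg_abs_le (c i)
        omega
    refine ⟨by exact_mod_cast hd0, ?_, ?_⟩
    · exact_mod_cast hle
    · have : (0 : ℤ) < (q : ℤ) - |c i| := by omega
      exact_mod_cast this
  have hbound : ∀ β : ℝ, 0 ≤ β → ∀ i ∈ B', |(c i : ℝ)| ≤ β * ((q : ℝ) - |(c i : ℝ)|) →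
      (c i : ℝ) ^ 3 / (d i : ℝ) ≤ (c i : ℝ) ^ 2 * β := by
    intro β hβ0 i hi hβ
    obtain ⟨h1, h2, h3⟩ := hdeg i hi
    rw [div_le_iff₀ h1]
    have h4 : (c i : ℝ) ≤ β * (d i : ℝ) := (le_abs_self _).trans (hβ.trans
      (mul_le_mul_of_nonneg_left h2 hβ0))
    calc (c i : ℝ) ^ 3 = (c i : ℝ) ^ 2 * (c i : ℝ) := by ring
      _ ≤ (c i : ℝ) ^ 2 * (β * (d i : ℝ)) := mul_le_mul_of_nonneg_left h4 (sq_nonneg _)
      _ = _ := by ring
  have hsqR : ∑ i ∈ B', (c i : ℝ) ^ 2 = (q : ℝ) - 1 := by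
    have : ((∑ i ∈ B', c i ^ 2 : ℤ) : ℝ) = (((q : ℤ) - 1 : ℤ) : ℝ) := by
      congr 1
      omega
    push_cast at this
    exact this
  set S := ∑ i ∈ B', (c i : ℝ) ^ 3 / (d i : ℝ) with hS
  have hpR : (3 : ℝ) ≤ p := by exact_mod_cast hp
  by_cases h7 : 7 ≤ q
  · have hqR : (7 : ℝ) ≤ q := by exact_mod_cast h7
    have hγ : ∀ i ∈ B', |(c i : ℝ)| * (3 * (q : ℝ) - 4) + 1 ≤ (q : ℝ) * ((q : ℝ) - 2) := by
      intro i hi
      have key : |c i| * (3 * (q : ℤ) - 4) + 1 ≤ (q : ℤ) * ((q : ℤ) - 2) := by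
        have h2 := hc2 i hi
        rw [← sq_abs] at h2
        have h0 := abs_nonneg (c i)
        have h7' : (7 : ℤ) ≤ q := by exact_mod_cast h7
        generalize |c i| = a at h0 h2 ⊢
        by_contra hcon
        have h3 : (q : ℤ) - 1 < 3 * a := by nlinarith
        have h4 : a < 3 := by nlinarith
        interval_cases a <;> nlinarith
      exact_mod_cast key
    set β : ℝ := ((q : ℝ) - 2 - 1 / (2 * (q : ℝ))) / (2 * ((q : ℝ) - 1)) with hβ
    have hq1 : (0 : ℝ) < 2 * ((q : ℝ) - 1) := by linarith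
    have hb1 : 1 / (2 * (q : ℝ)) * (q : ℝ) = 1 / 2 := by field_simp
    have hb2 : 1 / (2 * (q : ℝ)) ≤ 1 := by
      rw [div_le_one (by linarith)]; linarith
    have hβ0 : 0 ≤ β := div_nonneg (by linarith) hq1.le
    have hall : ∀ i ∈ B', (c i : ℝ) ^ 3 / (d i : ℝ) ≤ (c i : ℝ) ^ 2 * β := by
      intro i hi
      refine hbound β hβ0 i hi ?_
      rw [hβ, div_mul_eq_mul_div, le_div_iff₀ hq1]
      have := hγ i hi
      have h0 := abs_nonneg (c i : ℝ)
      nlinarith
    have h1 : S ≤ ((q : ℝ) - 1) * β := by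
      rw [← hsqR, Finset.sum_mul]
      exact Finset.sum_le_sum hall
    have h2 : ((q : ℝ) - 1) * β < ((q : ℝ) - 2) / 2 := by
      rw [hβ, mul_div, div_lt_iff₀ hq1]
      have : 0 < 1 / (2 * (q : ℝ)) := by positivity
      nlinarith
    nlinarith
  · have hq35 : q = 3 ∨ q = 5 := by
      obtain ⟨m, hm⟩ := hodd
      omega
    rcases hq35 with rfl | rfl
    · obtain rfl : p = 3 := le_antisymm (Nat.le_of_dvd hq0 hq) hp
      have hall : ∀ i ∈ B', (c i : ℝ) ^ 3 / (d i : ℝ) ≤ (c i : ℝ) ^ 2 * (1 / 4) := by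
        intro i hi
        obtain ⟨hd0, t, ht, hdt⟩ := hd i (Finset.mem_of_mem_erase hi) (Finset.ne_of_mem_erase hi)
        have h2 := hc2 i hi
        push_cast at h2 hdt
        have hlo : -1 ≤ c i := by nlinarith
        have hhi : c i ≤ 1 := by nlinarith
        have hdR : (0 : ℝ) < d i := by exact_mod_cast hd0
        rw [div_le_iff₀ hdR]
        obtain hc | hc | hc : c i = -1 ∨ c i = 0 ∨ c i = 1 := by omega
        · rw [hc]; push_cast; linarith
        · rw [hc]; simp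
        · rw [hc]
          have : (4 : ℝ) ≤ d i := by
            have : 4 ≤ d i := by omega
            exact_mod_cast this
          push_cast; linarith
      have h1 : S = ((3 : ℝ) - 1) * (1 / 4) := by
        refine le_antisymm ?_ (by push_cast at hineq; linarith)
        rw [show ((3 : ℝ) - 1) = ∑ i ∈ B', (c i : ℝ) ^ 2 by rw [hsqR]; norm_num, Finset.sum_mul]
        exact Finset.sum_le_sum hall
      rw [show ((3 : ℝ) - 1) = ∑ i ∈ B', (c i : ℝ) ^ 2 by rw [hsqR]; norm_num, Finset.sum_mul] at h1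
      have h2 := (Finset.sum_eq_sum_iff_of_le hall).1 h1
      have h3 : ∀ i ∈ B', c i * (d i : ℤ) = 4 * c i ^ 2 := by
        intro i hi
        have h := h2 i hi
        have hdR := (hdeg i hi).1
        rw [div_eq_iff hdR.ne'] at h
        rcases eq_or_ne (c i) 0 with hc | hc
        · simp [hc]
        · have hcR : (c i : ℝ) ^ 2 ≠ 0 := pow_ne_zero 2 (Int.cast_ne_zero.2 hc)
          have h4 : (c i : ℝ) * 4 = d i := mul_left_cancel₀ hcR (by linarith)
          have h5 : c i * 4 = (d i : ℤ) := by exact_mod_cast h4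
          rw [← h5]; ring
      rw [Finset.sum_congr rfl h3, ← Finset.mul_sum] at horth
      omega
    · obtain rfl : p = 5 := by
        have hp5 : p ≤ 5 := Nat.le_of_dvd hq0 hq
        interval_cases p <;> omega
      have hall : ∀ i ∈ B', (c i : ℝ) ^ 3 / (d i : ℝ) ≤ (c i : ℝ) ^ 2 * (2 / 3) := by
        intro i hi
        refine hbound _ (by norm_num) i hi ?_
        have h2 := hc2 i hi
        rw [← sq_abs] at h2
        push_cast at h2
        have h4 : |c i| ≤ 2 := by nlinarith [abs_nonneg (c i)]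
        have h5 : |(c i : ℝ)| ≤ 2 := by exact_mod_cast h4
        push_cast
        linarith
      have h1 : S ≤ ((5 : ℝ) - 1) * (2 / 3) := by
        rw [show ((5 : ℝ) - 1) = ∑ i ∈ B', (c i : ℝ) ^ 2 by rw [hsqR]; norm_num, Finset.sum_mul]
        exact Finset.sum_le_sum hall
      push_cast at hineq
      linarith

theorem result {G : Type*} [Group G] [Finite G] [IsSimpleGroup G] (hG : ¬ IsMulCommutative G) {p : ℕ} [Fact p.Prime] (P : Sylow p G)
    (hP1 : (P : Subgroup G) ≠ ⊥) (hPe : Cfsg.IsElementaryAbelian p (P : Subgroup G))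
    (hconj : ∀ x ∈ (P : Subgroup G), ∀ y ∈ (P : Subgroup G), x ≠ 1 → y ≠ 1 → ∃ g : G, g * x * g⁻¹ = y)
    (ha : ∀ x ∈ (P : Subgroup G), ∀ y ∈ (P : Subgroup G), (∃ g : G, g * x * g⁻¹ = y) →
      ∃ n ∈ Subgroup.normalizer ((P : Subgroup G) : Set G), n * x * n⁻¹ = y)
    (hb : ∀ x ∈ (P : Subgroup G), orderOf x = p → Cfsg.HasNormalPComplement p ↥(Subgroup.centralizer ({x} : Set G)))
    (hc : ∀ x y : G, orderOf x = p → orderOf y = p → Cfsg.IsPSolvable p ↥(Subgroup.closure ({x, y} : Set G))) :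
    p = 2 := by
  classical
  by_contra hp2
  haveI : Fintype G := Fintype.ofFinite G
  have hp : p.Prime := Fact.out
  have hp3 : 3 ≤ p := by have := hp.two_le; omega
  obtain ⟨x, hxP, hx1⟩ := (P : Subgroup G).bot_or_exists_ne_one.resolve_left hP1
  have hox : orderOf x = p := orderOf_eq_prime (hPe.2 x hxP) hx1
  have hone : ∀ u : G, (∃ i : ℕ, orderOf u = p ^ i) → u ≠ 1 → IsConj x u := by
    rintro u ⟨i, hi⟩ hu
    have hup : IsPGroup p (Subgroup.zpowers u) := IsPGroup.of_card (n := i) (by rw [Nat.card_zpowers, hi])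
    obtain ⟨S, hS⟩ := hup.exists_le_sylow
    obtain ⟨g, hg⟩ := MulAction.exists_smul_eq G S P
    have hmem : g * u * g⁻¹ ∈ (P : Subgroup G) := by
      rw [← hg, Sylow.coe_subgroup_smul]
      exact ⟨u, hS (Subgroup.mem_zpowers u), rfl⟩
    obtain ⟨k, hk⟩ := hconj x hxP _ hmem hx1 (by simpa using hu)
    exact isConj_iff.2 ⟨g⁻¹ * k, by
      rw [mul_inv_rev, inv_inv, show g⁻¹ * k * x * (k⁻¹ * g) = g⁻¹ * (k * x * k⁻¹) * g by group, hk]
      group⟩
  set C := Subgroup.centralizer ({x} : Set G) with hC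
  haveI : Fintype C := Fintype.ofFinite _
  obtain ⟨K, hKn, hK, ⟨k, hk⟩, -⟩ := exists_complement_index (hb x hxP hox)
  haveI := hKn
  have hPC : (P : Subgroup G) ≤ C := fun y hy => Subgroup.mem_centralizer_singleton_iff.2
    (congrArg Subtype.val (hPe.1.is_comm.comm ⟨y, hy⟩ ⟨x, hxP⟩))
  have hq : K.index = Nat.card (P : Subgroup G) := by
    rw [← card_sylow_eq_index K hK hk (P.subtype hPC), Sylow.coe_subtype]
    exact Nat.card_congr (Subgroup.subgroupOfEquivOfLe hPC).toEquiv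
  obtain ⟨M, hM⟩ := exists_pModular hp
  have hP1' : 1 < Nat.card (P : Subgroup G) := by
    rw [Subgroup.one_lt_card_iff_ne_bot]; exact hP1
  have hconstP : ∀ (χ : IrrCharacter G) (u : (P : Subgroup G)), u ≠ 1 →
      (χ : G → ℂ) u = (χ : G → ℂ) x := fun χ u hu => by
    obtain ⟨g, hg⟩ := hconj x hxP u u.2 hx1 (by simpa using hu)
    rw [← hg, isClassFunction_character (irr_isCharacter χ.2) x g]
  choose d c t hd hcx hdt using fun χ : IrrCharacter G =>
    int_values hP1' (irr_isCharacter χ.2) (x := x) (hconstP χ)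
  -- few regular products
  set R : ℕ → Finset G := fun j =>
    Finset.univ.filter fun h : G => ¬ p ∣ orderOf (x * (h * x * h⁻¹) ^ j) with hR
  have hab : ∀ (L : Subgroup G) (S : Sylow p L), IsMulCommutative (S : Subgroup L) := by
    intro L S
    obtain ⟨T, hT⟩ := (S.2.map L.subtype).exists_le_sylow
    obtain ⟨g, hg⟩ := MulAction.exists_smul_eq G T P
    refine ⟨⟨fun a b => Subtype.ext (Subtype.ext ?_)⟩⟩
    have hmem : ∀ a : (S : Subgroup L), g * ((a : L) : G) * g⁻¹ ∈ (P : Subgroup G) := fun a => by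
      rw [← hg, Sylow.coe_subgroup_smul]
      exact ⟨_, hT (Subgroup.mem_map_of_mem _ a.2), rfl⟩
    have h := congrArg Subtype.val (hPe.1.is_comm.comm ⟨_, hmem a⟩ ⟨_, hmem b⟩)
    simp only [Subgroup.coe_mul, conj_mul, mul_left_inj, mul_right_inj] at h ⊢
    exact h
  have hdisj : ((Finset.Icc 1 (p - 1) : Finset ℕ) : Set ℕ).PairwiseDisjoint R := by
    intro i hi j hj hij
    rw [Function.onFun, Finset.disjoint_left]
    intro h hhi hhj
    simp only [hR, Finset.mem_filter, Finset.mem_univ, true_and] at hhi hhj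
    set y := h * x * h⁻¹ with hy
    have hoy : orderOf y = p := by rw [hy, ← MulAut.conj_apply, MulEquiv.orderOf_eq, hox]
    set L := Subgroup.closure ({x, y} : Set G) with hL
    have hxL : x ∈ L := Subgroup.subset_closure (Set.mem_insert _ _)
    have hyL : y ∈ L := Subgroup.subset_closure (Set.mem_insert_of_mem _ rfl)
    have hgen : Subgroup.closure ({⟨x, hxL⟩, ⟨y, hyL⟩} : Set L) = ⊤ := by
      apply Subgroup.map_injective L.subtype_injective
      rw [MonoidHom.map_closure, Set.image_pair, ← MonoidHom.range_eq_map, Subgroup.range_subtype]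
      rfl
    have hmod := OneClass.modEq_of_regular (x := (⟨x, hxL⟩ : L)) (y := ⟨y, hyL⟩) (p := p)
      (by rw [Subgroup.orderOf_mk, hox])
      (Subtype.ext (by show y ^ p = 1; rw [← hoy]; exact pow_orderOf_eq_one y)) hgen
      (hc x y hox hoy) (hab L) (i := i) (j := j)
      (by rw [← Subgroup.orderOf_coe]; exact hhi) (by rw [← Subgroup.orderOf_coe]; exact hhj)
    have hi' := Finset.mem_Icc.1 (Finset.mem_coe.1 hi)
    have hj' := Finset.mem_Icc.1 (Finset.mem_coe.1 hj)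
    exact hij (hmod.eq_of_lt_of_lt (by omega) (by omega))
  have hcardR : ∀ j ∈ Finset.Icc 1 (p - 1), (R j).card = (R 1).card := by
    intro j hj
    have hj' := Finset.mem_Icc.1 hj
    have hne : x ^ j ≠ 1 := fun h => by
      have := Nat.le_of_dvd (by omega) (orderOf_dvd_of_pow_eq_one h)
      omega
    obtain ⟨n, hn⟩ := hconj x hxP (x ^ j) (pow_mem hxP j) hx1 hne
    refine Finset.card_equiv (Equiv.mulRight n) fun h => ?_
    simp only [hR, Finset.mem_filter, Finset.mem_univ, true_and, Equiv.coe_mulRight, pow_one]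
    rw [conj_pow, ← hn, show h * (n * x * n⁻¹) * h⁻¹ = h * n * x * (h * n)⁻¹ by group]
  have hregle : (p - 1) * (R 1).card ≤ Nat.card G := by
    rw [Nat.card_eq_fintype_card]
    calc (p - 1) * (R 1).card = ((Finset.Icc 1 (p - 1)).biUnion R).card := by
          rw [Finset.card_biUnion hdisj, Finset.sum_congr rfl hcardR, Finset.sum_const, Nat.card_Icc,
            smul_eq_mul]
          congr 1
      _ ≤ Fintype.card G := Finset.card_le_univ _
  have hsing := OneClass.card_singular_products K hM hox hone hK hk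
  set N1 := (Finset.univ.filter fun h : G => p ∣ orderOf (x * (h * x * h⁻¹))).card with hN1
  have hsplit : N1 + (R 1).card = Nat.card G := by
    rw [hN1, hR, Nat.card_eq_fintype_card, ← Finset.card_univ]
    simp only [pow_one]
    exact Finset.card_filter_add_card_filter_not _
  set B := Finset.univ.filter fun χ : IrrCharacter G => χ ∈ principalBlock M G with hB
  have hS : ∑ χ ∈ B, (χ : G → ℂ) x * (χ : G → ℂ) x * conj ((χ : G → ℂ) x) / (χ : G → ℂ) 1 =
      ((∑ χ ∈ B, (c χ : ℝ) ^ 3 / (d χ : ℝ) : ℝ) : ℂ) := by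
    push_cast
    refine Finset.sum_congr rfl fun χ _ => ?_
    rw [hcx, hd, map_intCast]
    ring
  rw [hS, hq] at hsing
  have hsing' : (N1 : ℝ) * (Nat.card (P : Subgroup G) : ℝ) =
      (Nat.card G : ℝ) * ∑ χ ∈ B, (c χ : ℝ) ^ 3 / (d χ : ℝ) := Complex.ofReal_injective (by
    push_cast; rw [hsing]; push_cast; rfl)
  have hpd : p ∣ Nat.card (P : Subgroup G) := by
    have h := orderOf_dvd_natCard (⟨x, hxP⟩ : (P : Subgroup G))
    rwa [Subgroup.orderOf_mk, hox] at h
  have hodd : Odd (Nat.card (P : Subgroup G)) := by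
    obtain ⟨m, hm⟩ := IsPGroup.iff_card.1 P.2
    rw [hm]
    exact (hp.odd_of_ne_two hp2).pow
  set e : IrrCharacter G := ⟨fun _ => 1, isIrrCharacter_one⟩ with he
  have hce : c e = 1 := by
    have h : ((c e : ℤ) : ℂ) = ((1 : ℤ) : ℂ) := by rw [← hcx e]; simp [he]
    exact_mod_cast h
  have hde : d e = 1 := by
    have h : (d e : ℂ) = ((1 : ℕ) : ℂ) := by rw [← hd e]; simp [he]
    exact_mod_cast h
  refine no_column B c d e (Finset.mem_filter.2 ⟨Finset.mem_univ _, one_mem_principal hM⟩) hce hde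
    p (Nat.card (P : Subgroup G)) hp3 hpd Nat.card_pos hodd ?_ ?_ ?_ ?_
  · have h := sum_principal_sq_section hM ⟨1, by rw [hox, pow_one]⟩ K hK hk
    rw [hq] at h
    have h' : ((∑ χ ∈ B, c χ ^ 2 : ℤ) : ℂ) = ((Nat.card (P : Subgroup G) : ℤ) : ℂ) := by
      rw [Int.cast_natCast, ← h, Int.cast_sum]
      refine Finset.sum_congr rfl fun χ _ => ?_
      rw [hcx, map_intCast]
      push_cast
      ring
    exact_mod_cast h'
  · have h := OneClass.sum_degree_column K hM hox hK hk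
    have h' : ((∑ χ ∈ B, c χ * (d χ : ℤ) : ℤ) : ℂ) = ((0 : ℤ) : ℂ) := by
      rw [Int.cast_zero, ← h, Int.cast_sum]
      refine Finset.sum_congr rfl fun χ _ => ?_
      rw [hcx, hd, map_natCast]
      push_cast
      ring
    exact_mod_cast h'
  · intro χ _ hne
    refine ⟨?_, t χ, fun h0 => hne ?_, hdt χ⟩
    · rcases Nat.eq_zero_or_pos (d χ) with h | h
      · exact absurd (by rw [hd, h, Nat.cast_zero]) (irr_one_ne_zero χ.2)
      · exact h
    · refine eq_trivial_of_value χ hx1 ?_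
      have h := hdt χ
      rw [h0, mul_zero, add_zero] at h
      rw [hd, hcx, ← h, Int.cast_natCast]
  · have h1 : (((p - 1) * (R 1).card : ℕ) : ℝ) ≤ (Nat.card G : ℝ) := by exact_mod_cast hregle
    rw [Nat.cast_mul, Nat.cast_sub hp.one_le, Nat.cast_one] at h1
    have h2 : (N1 : ℝ) + (R 1).card = (Nat.card G : ℝ) := by exact_mod_cast hsplit
    have hG0 : (0 : ℝ) < Nat.card G := Nat.cast_pos.2 Nat.card_pos
    have hq0 : (0 : ℝ) ≤ Nat.card (P : Subgroup G) := Nat.cast_nonneg _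
    refine le_of_mul_le_mul_left ?_ hG0
    rw [mul_left_comm (Nat.card G : ℝ) ((p : ℝ) - 1), ← hsing', show (N1 : ℝ) = (Nat.card G : ℝ) - (R 1).card by linarith]
    linarith [mul_le_mul_of_nonneg_left h1 hq0]

end Cfsg.Agent.S1951
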