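import Cfsg.Statements.S4652
import Cfsg.Agent.Lib.Char.ThirdMain
import Cfsg.Agent.Lib.Char.Defect

set_option autoImplicit false
open Cfsg
open scoped ComplexConjugate

namespace Cfsg.Agent.S4652

/-- Fix a prime p and a maximal ideal M of the algebraic integers containing p. The defect groups of the principal p-block of a finite group G are exactly the Sylow p-subgroups of G: a subgroup D is a defect group of the principal block if and only if D is a Sylow p-subgroup. -/
theorem result {G : Type*} [Group G] [Fintype G] (p : ℕ) [Fact p.Prime] (M : Ideal Cfsg.AlgInt) (hM : Cfsg.IsPModular p M) (D : Subgroup G) : Cfsg.IsDefectGroup p M (Cfsg.principalBlock M G) D ↔ ∃ S : Sylow p G, (S : Subgroup G) = D := by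
  classical
  haveI := Fact.mk hM.1
  have hP := Char.pmod_prime hM
  have hB := Char.isPBlock_principalBlock (G := G) M
  have h1 : (⟨fun _ => 1, Char.isIrrCharacter_one⟩ : IrrCharacter G) ∈ principalBlock M G :=
    Char.sameBlock_refl hP _
  have hd : blockDefect p (principalBlock M G) = (Nat.card G).factorization p := by
    rw [blockDefect]
    have : sInf ((fun χ : IrrCharacter G => (charDegree (χ : G → ℂ)).factorization p) ''
        principalBlock M G) = 0 := by
      refine Nat.eq_zero_of_le_zero (Nat.sInf_le ⟨_, h1, ?_⟩)
      simp [charDegree]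
    rw [this, Nat.sub_zero]
  constructor
  · intro hD
    exact ⟨Sylow.ofCard D (by rw [Char.card_defectGroup hM hB hD, hd]), rfl⟩
  · rintro ⟨S, rfl⟩
    obtain ⟨D, hD⟩ := Char.exists_isDefectGroup hM hB
    let T : Sylow p G := Sylow.ofCard D (by rw [Char.card_defectGroup hM hB hD, hd])
    obtain ⟨t, ht⟩ := MulAction.exists_smul_eq G T S
    have : (S : Subgroup G) = D.map (MulAut.conj t).toMonoidHom := by
      rw [← ht]; rfl
    rw [this]
    exact Char.isDefectGroup_conj hM hD t

end Cfsg.Agent.S4652
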