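import Cfsg.Statements.S0065
import Cfsg.Agent.Lib.Solv.Subnormal

set_option autoImplicit false
open Cfsg

open scoped Pointwise commutatorElement

namespace Cfsg.Agent.S0065

/-- A nontrivial normal subgroup of a nilpotent group intersects the centre nontrivially. -/
theorem result {G : Type*} [Group G] [Finite G] [Group.IsNilpotent G]
    (N : Subgroup G) [N.Normal] (hN : N ≠ ⊥) : N ⊓ Subgroup.center G ≠ ⊥ := by
  obtain ⟨M, hM, hMb, hMN, hmin⟩ := Solv.exists_minimal_normal_le N hN
  rcases hmin ⁅(⊤ : Subgroup G), M⁆ inferInstance (Subgroup.commutator_le_right _ _) with h | h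
  · refine fun hb => hMb (eq_bot_iff.2 (hb ▸ le_inf hMN fun m hm => ?_))
    rw [Subgroup.mem_center_iff]
    intro q
    rw [← commutatorElement_eq_one_iff_mul_comm, ← Subgroup.mem_bot, ← h]
    exact Subgroup.commutator_mem_commutator (Subgroup.mem_top q) hm
  · exfalso
    obtain ⟨n, hn⟩ := Subgroup.nilpotent_iff_lowerCentralSeries.1
      (inferInstance : Group.IsNilpotent G)
    have : ∀ k, M ≤ (⊤ : Subgroup G).lowerCentralSeries k := by
      intro k
      induction k with
      | zero => exact le_top
      | succ k ih =>
        rw [← h, Subgroup.commutator_comm, Subgroup.lowerCentralSeries_succ]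
        exact Subgroup.commutator_mono ih le_rfl
    exact hMb (eq_bot_iff.2 (hn ▸ this n))

end Cfsg.Agent.S0065
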