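import Cfsg.Statements.S0983
import Cfsg.Agent.Lib.Small.SieveRange
import Cfsg.Agent.Lib.Small.OrderFiftyForty
import Cfsg.Agent.Lib.Small.OrderFiftyFourHundred

set_option autoImplicit false
open Cfsg

namespace Cfsg.Agent.S0983

/-- A non-abelian finite simple group of order greater than 3640 and at most 6232 has order 4080, 5616, 6048 or 6072. -/
theorem result {G : Type*} [Group G] [Finite G] [IsSimpleGroup G] (hG : ¬ IsMulCommutative G) (h1 : 3640 < Nat.card G) (h2 : Nat.card G ≤ 6232) : Nat.card G = 4080 ∨ Nat.card G = 5616 ∨ Nat.card G = 6048 ∨ Nat.card G = 6072 := by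
  have key := Cfsg.Agent.Small.SieveRange.good_of_range (N := Nat.card G) (by omega) h2
  have h40 := Cfsg.Agent.Small.OrderFiftyForty.card_ne_5040 (G := G)
  have h54 := Cfsg.Agent.Small.OrderFiftyFourHundred.card_ne_5400 hG
  have hk := Cfsg.Agent.Small.OrderSieve.kill_eq_false hG (by omega)
  rw [Cfsg.Agent.Small.SieveRange.good, hk, Bool.or_false, decide_eq_true_eq] at key
  omega

end Cfsg.Agent.S0983
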