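import Cfsg.Statements.S5083
import Cfsg.Agent.Lib.Local.FS.Series

set_option autoImplicit false
open Cfsg

namespace Cfsg.Agent.S5083

theorem result {Ω : Type*} [Group Ω] {S : Subgroup Ω} [Finite S] (p : ℕ) [Fact p.Prime] (hS : IsPGroup p S) (F : Cfsg.FusionSystem S) (hF : F.IsSaturated p) (h : ∀ P : Subgroup Ω, P ≤ S → IsPGroup p (F.autGroup P)) : F = Cfsg.innerFusionSystem S := by
  open Cfsg.Agent.Local.FS in
  have hle : ∀ P : Subgroup Ω, F.Hom P ⊆ (Cfsg.innerFusionSystem S).Hom P := by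
    intro P φ hφ
    refine mem_iff_map.2 (alperin hS hF (isClosedClass_map _) (fun R hR α hα => ?_) P _ (map_of_mem hφ))
    rcases hR with rfl | hE
    · haveI := mulAut_finite_of_le (le_refl R)
      obtain ⟨-, hsyl⟩ := fa_iff.1 (fc_fa_of_fn hS hF (fn_self (F := F))).2
      obtain ⟨s, hs, hsα⟩ := mem_autInducedBy.1 ((hsyl.eq_of_le (h R le_rfl) hsyl.le le_rfl).le hα)
      exact (map_conjBy le_rfl hs).congr fun x hx => (hsα x hx).symm
    · exfalso
      have hRS := hE.1.1
      haveI := mulAut_finite_of_le hRS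
      have hrad := (radical_of_essential hS hF hE).2
      obtain ⟨-, -, hn, E, hdvd, -, -⟩ := hE
      have htop : Cfsg.pCore p ↥(F.autGroup R) = ⊤ :=
        top_le_iff.1 (Cfsg.Agent.Fusion.le_pCore ((h R hRS).to_subgroup _))
      have hin : (Cfsg.Inn R).subgroupOf (F.autGroup R) = ⊤ := by
        rw [Subgroup.subgroupOf_eq_top, ← hrad, htop, ← MonoidHom.range_eq_map, Subgroup.range_subtype]
      have h1 : Nat.card (↥(F.autGroup R) ⧸ (Cfsg.Inn R).subgroupOf (F.autGroup R)) = 1 := by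
        rw [← Subgroup.index_eq_card, hin, Subgroup.index_top]
      rw [h1] at hdvd
      exact (Fact.out : p.Prime).ne_one (Nat.dvd_one.1 hdvd)
  have hge : ∀ P : Subgroup Ω, (Cfsg.innerFusionSystem S).Hom P ⊆ F.Hom P := by
    rintro P φ ⟨hP, g, hg, hφ⟩
    rw [show φ = Cfsg.conjHom P g from MonoidHom.ext hφ]
    exact F.conj_mem hP hg
  have heq : F.Hom = (Cfsg.innerFusionSystem S).Hom := funext fun P => Set.Subset.antisymm (hle P) (hge P)
  revert heq
  generalize Cfsg.innerFusionSystem S = E'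
  intro heq
  obtain ⟨H₁, _, _, _, _, _⟩ := F
  obtain ⟨H₂, _, _, _, _, _⟩ := E'
  subst heq
  rfl

end Cfsg.Agent.S5083
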