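import Cfsg.Statements.S5076
import Cfsg.Agent.Lib.Local.FS.Group

set_option autoImplicit false
open Cfsg

namespace Cfsg.Agent.S5076

theorem result {G : Type*} [Group G] [Finite G] (p : ℕ) [Fact p.Prime] (S : Sylow p G) : (Cfsg.groupFusionSystem (S : Subgroup G)).IsSaturated p := by
  exact Cfsg.Agent.Local.FS.group_saturated (Cfsg.Agent.Fusion.sylIn_top S)

end Cfsg.Agent.S5076
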