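import Cfsg.Statements.S5124
import Cfsg.Agent.Lib.Local.FS.Focal

set_option autoImplicit false
open Cfsg

namespace Cfsg.Agent.S5124

theorem result {Ω : Type*} [Group Ω] {S : Subgroup Ω} [Finite S] (p : ℕ) [Fact p.Prime] (hS : IsPGroup p S) (F : Cfsg.FusionSystem S) (hF : F.IsSaturated p) : F.StronglyClosed (F.hyperfocalSubgroup p) := by
  open Cfsg.Agent.Local.FS in
  refine stronglyClosed_iff.2 ⟨hyperfocal_le, ?_⟩
  have key := alperin hS hF
    (K := fun P f => ∀ x ∈ P, (x ∈ F.hyperfocalSubgroup p ↔ f x ∈ F.hyperfocalSubgroup p)) ?_ ?_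
  · exact fun P f hP hf x hx => (key P f hf x hx).1 (hP hx)
  · refine ⟨fun h he x hx => he x hx ▸ h x hx, fun _ h hR x hx => h x (hR hx), ?_, ?_⟩
    · intro P Q f g _ _ hf hg hm x hx
      exact (hf x hx).trans (hg _ (hm x hx))
    · intro P f g hM hf hg y hy
      obtain ⟨x, hx, rfl⟩ := hM.mem_im.1 hy
      rw [hg x hx]
      exact (hf x hx).symm
  · intro R hR α hα x hx
    have hRfn := gen_fn hR
    obtain ⟨β, hβ, γ, hγ, rfl⟩ := exists_autS_mul_residual hS hF hRfn hα
    obtain ⟨s, hs, hsβ⟩ := mem_autInducedBy.1 hβ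
    have h1 := inv_mul_mem_hyperfocal hRfn.1 hγ hx
    rw [av_mul _ _ hx, hsβ _ (av_mem _ hx)]
    constructor
    · intro hxh
      exact hyperfocal_conj_mem hs (by simpa using Subgroup.mul_mem _ hxh h1)
    · intro hxh
      have h2 := hyperfocal_conj_mem (S.inv_mem hs) hxh
      have h3 := Subgroup.mul_mem _ (show av (γ : MulAut R) x ∈ F.hyperfocalSubgroup p by
        simpa [mul_assoc] using h2) (Subgroup.inv_mem _ h1)
      simpa using h3

end Cfsg.Agent.S5124
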