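import Cfsg.Statements.S5093
import Cfsg.Agent.Lib.Local.FS.Tate
import Cfsg.Agent.Lib.Local.FS.Group
import Cfsg.Agent.Lib.Fusion.Focal
import Cfsg.Agent.Lib.Fusion.NPC

set_option autoImplicit false
open Cfsg

namespace Cfsg.Agent.S5093

theorem result {G : Type*} [Group G] [Finite G] (p : ℕ) [Fact p.Prime] (S : Sylow p G) : (Cfsg.groupFusionSystem (S : Subgroup G)).hyperfocalSubgroup p = (S : Subgroup G) ⊓ Cfsg.pResidual p G := by
  open Cfsg.Agent.Local.FS Cfsg.Agent.Fusion Cfsg.FusionSystem in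
  set F := Cfsg.groupFusionSystem (S : Subgroup G) with hFdef
  have hS : IsPGroup p ↥(S : Subgroup G) := S.2
  have hF : F.IsSaturated p := group_saturated (sylIn_top S)
  set N := Cfsg.pResidual p G with hNdef
  haveI hNn : N.Normal := Subgroup.normal_of_characteristic N
  set K := F.hyperfocalSubgroup p with hK
  refine le_antisymm (le_inf hyperfocal_le ((Subgroup.closure_le _).2 ?_)) ?_
  · rintro _ ⟨P, α, x, hP, hα, rfl⟩
    have hmem : ∀ a ∈ pResidual p ↥(F.autGroup P), ∃ g ∈ N, ∀ y ∈ P, av (a : MulAut P) y = g * y * g⁻¹ := by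
      intro a ha
      induction ha using Subgroup.closure_induction with
      | mem a ha =>
        obtain ⟨-, -, g, hg⟩ := map_group_iff.1 (map_of_mem_autGroup hP a.2)
        obtain ⟨k, m, hm, hkm⟩ := Nat.exists_eq_pow_mul_and_not_dvd (orderOf_pos g).ne' p (Nat.Prime.ne_one Fact.out)
        have hgn : g ^ p ^ k ∈ N := by
          refine Subgroup.subset_closure ?_
          show Nat.Coprime _ p
          rw [orderOf_pow' _ (pow_ne_zero _ (Nat.Prime.ne_zero Fact.out)), hkm, Nat.gcd_mul_right_left,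
            Nat.mul_div_cancel_left _ (pow_pos (Nat.Prime.pos Fact.out) k)]
          exact ((Nat.Prime.coprime_iff_not_dvd Fact.out).2 hm).symm
        obtain ⟨i, hi⟩ := exists_pow_eq_self_of_coprime (x := (a : MulAut P)) (n := p ^ k) (by
          rw [Subgroup.orderOf_coe]
          exact (Nat.Coprime.pow_right k ha).symm)
        have hpow : ∀ n : ℕ, ∀ y ∈ P, av ((a : MulAut P) ^ n) y = g ^ n * y * (g ^ n)⁻¹ := by
          intro n
          induction n with
          | zero => intro y hy; simp [av_one hy]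
          | succ n ih =>
            intro y hy
            rw [pow_succ', av_mul _ _ hy, hg _ (av_mem _ hy), ih y hy, pow_succ']; group
        refine ⟨(g ^ p ^ k) ^ i, N.pow_mem hgn i, fun y hy => ?_⟩
        rw [← pow_mul, ← hpow _ y hy, pow_mul, hi]
      | one => exact ⟨1, N.one_mem, fun y hy => by simp [av_one hy]⟩
      | mul a b _ _ iha ihb =>
        obtain ⟨g, hg, hga⟩ := iha
        obtain ⟨h, hh, hhb⟩ := ihb
        refine ⟨g * h, N.mul_mem hg hh, fun y hy => ?_⟩
        show av ((a : MulAut P) * (b : MulAut P)) y = _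
        rw [av_mul _ _ hy, hga _ (av_mem _ hy), hhb y hy]; group
      | inv a _ iha =>
        obtain ⟨g, hg, hga⟩ := iha
        refine ⟨g⁻¹, N.inv_mem hg, fun y hy => ?_⟩
        have h1 := hga _ (av_mem (a : MulAut P)⁻¹ hy)
        rw [av_av_inv _ hy] at h1
        show av (a : MulAut P)⁻¹ y = _
        calc av (a : MulAut P)⁻¹ y = g⁻¹ * (g * av (a : MulAut P)⁻¹ y * g⁻¹) * g⁻¹⁻¹ := by group
          _ = _ := by rw [← h1]
    obtain ⟨g, hg, hga⟩ := hmem α hα
    rw [SetLike.mem_coe, ← av_coe, hga x x.2,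
      show (x : G)⁻¹ * (g * x * g⁻¹) = ((x : G)⁻¹ * g * (x : G)⁻¹⁻¹) * g⁻¹ by group]
    exact N.mul_mem (hNn.conj_mem g hg _) (N.inv_mem hg)
  · set T := (S : Subgroup G) ⊓ N with hT
    have hTN : SylIn p T N := (sylIn_top S).inf_normal le_top (fun g _ => Subgroup.mem_normalizer_iff.2 fun x =>
      ⟨fun h => hNn.conj_mem x h g, fun h => by simpa [mul_assoc] using hNn.conj_mem _ h g⁻¹⟩)
    have hTN' : T ≤ ⁅N, N⁆ := by
      intro t ht
      haveI : (⁅N, N⁆ : Subgroup G).Normal := inferInstance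
      obtain ⟨j, hj⟩ := hS ⟨t, ht.1⟩
      let π := QuotientGroup.mk' (⁅N, N⁆ : Subgroup G)
      have key : ∀ x ∈ N, Nat.Coprime (orderOf (π x)) p := by
        intro x hx
        induction hx using Subgroup.closure_induction with
        | mem x hx => exact Nat.Coprime.coprime_dvd_left (orderOf_map_dvd π x) hx
        | one => rw [map_one, orderOf_one]; exact Nat.coprime_one_left p
        | mul a b ha hb iha ihb =>
          have hc : Commute (π a) (π b) := by
            rw [← commutatorElement_eq_one_iff_commute, ← map_commutatorElement]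
            exact (QuotientGroup.eq_one_iff _).2 (Subgroup.commutator_mem_commutator ha hb)
          rw [map_mul]
          exact Nat.Coprime.coprime_dvd_left hc.orderOf_mul_dvd_lcm
            (Nat.Coprime.coprime_dvd_left (Nat.lcm_dvd_mul _ _) (Nat.Coprime.mul_left iha ihb))
        | inv a _ iha => rwa [map_inv, orderOf_inv]
      have h1 : orderOf (π t) ∣ p ^ j := orderOf_dvd_of_pow_eq_one (by
        rw [← map_pow, show t ^ p ^ j = 1 from congrArg Subtype.val hj, map_one])
      exact (QuotientGroup.eq_one_iff t).1 (orderOf_eq_one_iff.1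
        (Nat.eq_one_of_dvd_coprimes (Nat.Coprime.pow_right j (key t ht.2)) dvd_rfl h1))
    have hfoc : T ≤ focalIn T N := (inf_commutator_eq_focalIn hTN) ▸ le_inf le_rfl hTN'
    have hTS : T ≤ (S : Subgroup G) := inf_le_left
    set K' := K.subgroupOf (S : Subgroup G) with hK'
    haveI : K'.Normal := ⟨fun n hn g => hyperfocal_conj_mem g.2 hn⟩
    let q := QuotientGroup.mk' K'
    set T' := (T.subgroupOf (S : Subgroup G)).map q with hT'
    have hstep : T' ≤ ⁅T', ⊤⁆ := by
      suffices h : T ≤ ((⁅T', ⊤⁆ : Subgroup _).comap q).map (S : Subgroup G).subtype by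
        rintro _ ⟨t, ht, rfl⟩
        obtain ⟨u, hu, hut⟩ := h ht
        exact Subtype.ext hut ▸ hu
      refine hfoc.trans ((Subgroup.closure_le _).2 ?_)
      rintro _ ⟨x, hx, h, hh, hxh, rfl⟩
      have hx' := hTS hx
      have hm : Map F (Subgroup.zpowers x) (fun y => h * y * h⁻¹) := map_group_iff.2
        ⟨Subgroup.zpowers_le.2 hx', fun y hy => by
          obtain ⟨i, rfl⟩ := Subgroup.mem_zpowers_iff.1 hy
          rw [show h * x ^ i * h⁻¹ = (h * x * h⁻¹) ^ i from (map_zpow (MulAut.conj h) x i)]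
          exact Subgroup.zpow_mem _ (hTS hxh) i, h, fun y _ => rfl⟩
      obtain ⟨g, hg, hgx⟩ := conj_mod_hyperfocal hS hF hm
      have h1 : (g * x * g⁻¹)⁻¹ * (h * x * h⁻¹) ∈ K := hgx x (Subgroup.mem_zpowers x)
      refine ⟨⟨x, hx'⟩⁻¹ * ⟨_, hTS hxh⟩, ?_, rfl⟩
      rw [SetLike.mem_coe, Subgroup.mem_comap]
      have h3 : (⟨g, hg⟩ * ⟨x, hx'⟩ * (⟨g, hg⟩ : ↥(S : Subgroup G))⁻¹ : ↥(S : Subgroup G))⁻¹ *
          (⟨_, hTS hxh⟩ : ↥(S : Subgroup G)) ∈ K' := h1
      have h2 : q ⟨_, hTS hxh⟩ = q (⟨g, hg⟩ * ⟨x, hx'⟩ * (⟨g, hg⟩ : ↥(S : Subgroup G))⁻¹) :=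
        (QuotientGroup.eq.2 h3).symm
      rw [map_mul, h2, map_inv, map_mul, map_mul, map_inv]
      have hxT : q (⟨x, hx'⟩ : ↥(S : Subgroup G)) ∈ T' := ⟨_, hx, rfl⟩
      have := Subgroup.commutator_mem_commutator (T'.inv_mem hxT)
        (Subgroup.mem_top (q (⟨g, hg⟩ : ↥(S : Subgroup G))))
      simpa [commutatorElement_def, mul_assoc] using this
    have hall : ∀ i, T' ≤ (⊤ : Subgroup _).lowerCentralSeries i := by
      intro i
      induction i with
      | zero => exact le_top
      | succ i ih => exact hstep.trans (Subgroup.commutator_mono ih le_rfl)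
    haveI : Group.IsNilpotent (↥(S : Subgroup G) ⧸ K') := IsPGroup.isNilpotent (p := p) (hS.to_quotient K')
    obtain ⟨c, hc⟩ := (Subgroup.isNilpotent_iff_lowerCentralSeries (⊤ : Subgroup (↥(S : Subgroup G) ⧸ K'))).1
      ((Group.isNilpotent_congr (Subgroup.topEquiv (G := ↥(S : Subgroup G) ⧸ K'))).2 inferInstance)
    intro t ht
    have h1 : q ⟨t, hTS ht⟩ = 1 := Subgroup.mem_bot.1 (hc ▸ hall c ⟨⟨t, hTS ht⟩, ht, rfl⟩)
    exact (QuotientGroup.eq_one_iff (⟨t, hTS ht⟩ : ↥(S : Subgroup G))).1 h1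

end Cfsg.Agent.S5093
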