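import Cfsg.Statements.S4215
import Cfsg.Agent.Lib.Perm.HallWielandt

set_option autoImplicit false
open Cfsg

namespace Cfsg.Agent.S4215

/-- Let `P` be a Sylow `p`-subgroup of the finite group `G`, `Q` a subgroup of `P` weakly closed in `P` with respect to `G`, and `H` the normalizer of `Q`. Suppose that for all `u ∈ P` and `z ∈ Q` the iterated commutator `[u, z, …, z]` with `p - 1` entries `z` is trivial, where `[x, z] = x⁻¹z⁻¹xz` and `[x, z, z] = [[x, z], z]`. Then `O^p(H) = O^p(G) ∩ H`, where `O^p` denotes the subgroup generated by the elements of order prime to `p`; so the largest `p`-factor groups of `G` and of `H` are isomorphic. -/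
theorem result {G : Type*} [Group G] [Finite G] {p : ℕ} [Fact p.Prime] (P : Sylow p G) (Q : Subgroup G) (hQ : Cfsg.IsWeaklyClosed Q (P : Subgroup G)) (h : ∀ u ∈ (P : Subgroup G), ∀ z ∈ Q, (fun y : G => y⁻¹ * z⁻¹ * y * z)^[p - 1] u = 1) : Cfsg.pResidualOf p (Subgroup.normalizer (Q : Set G)) = Cfsg.pResidual p G ⊓ Subgroup.normalizer (Q : Set G) := by
  obtain ⟨hQP, hwc⟩ := hQ
  have hSH : (P : Subgroup G) ≤ Subgroup.normalizer (Q : Set G) := by
    intro s hs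
    have h1 : Q.map (MulAut.conj s).toMonoidHom = Q := hwc s (by
      rintro _ ⟨q, hq, rfl⟩
      exact Subgroup.mul_mem _ (Subgroup.mul_mem _ hs (hQP hq)) (Subgroup.inv_mem _ hs))
    refine Subgroup.mem_normalizer_iff.2 fun a => ⟨fun ha => h1.le ⟨a, ha, rfl⟩, fun ha => ?_⟩
    obtain ⟨b, hb, e⟩ := h1.ge ha
    exact (MulAut.conj s).injective e ▸ hb
  refine Cfsg.Agent.Perm.HallWielandt.pResidualOf_eq P _ Q hSH hQP (fun g hg => ?_) h
  set W := Q.map (MulAut.conj g⁻¹).toMonoidHom with hW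
  have hWH : W ≤ Subgroup.normalizer (Q : Set G) := by
    rintro _ ⟨w, hw, rfl⟩
    show g⁻¹ * w * (g⁻¹)⁻¹ ∈ _
    rw [inv_inv]; exact hg w hw
  have hWp : IsPGroup p (W.subgroupOf (Subgroup.normalizer (Q : Set G))) :=
    ((P.2.to_le hQP).map (MulAut.conj g⁻¹).toMonoidHom).of_equiv (Subgroup.subgroupOfEquivOfLe hWH).symm
  obtain ⟨P', hP'⟩ := hWp.exists_le_sylow
  obtain ⟨k, hk⟩ := MulAction.exists_smul_eq (Subgroup.normalizer (Q : Set G)) P' (P.subtype hSH)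
  have hc : ∀ w ∈ Q, (k : G) * g⁻¹ * w * ((k : G) * g⁻¹)⁻¹ ∈ (P : Subgroup G) := fun w hw => by
    have hwW : g⁻¹ * w * g ∈ W := ⟨w, hw, show g⁻¹ * w * (g⁻¹)⁻¹ = _ by rw [inv_inv]⟩
    have h2 : k * ⟨g⁻¹ * w * g, hWH hwW⟩ * k⁻¹ ∈ ((P.subtype hSH : Sylow p _) : Subgroup _) := by
      rw [← hk, Sylow.coe_subgroup_smul]
      exact ⟨_, hP' (Subgroup.mem_subgroupOf.2 hwW), rfl⟩
    have h3 : (k : G) * (g⁻¹ * w * g) * (k : G)⁻¹ ∈ (P : Subgroup G) := h2
    simpa [mul_assoc] using h3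
  have h4 := hwc ((k : G) * g⁻¹) (by rintro _ ⟨w, hw, rfl⟩; exact hc w hw)
  have h5 : (k : G) * g⁻¹ ∈ Subgroup.normalizer (Q : Set G) := by
    refine Subgroup.mem_normalizer_iff.2 fun a => ⟨fun ha => h4.le ⟨a, ha, rfl⟩, fun ha => ?_⟩
    obtain ⟨b, hb, e⟩ := h4.ge ha
    exact (MulAut.conj _).injective e ▸ hb
  have h6 := Subgroup.mul_mem _ (Subgroup.inv_mem _ k.2) h5
  rw [inv_mul_cancel_left] at h6
  exact (Subgroup.inv_mem_iff _).1 h6

end Cfsg.Agent.S4215
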