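import Cfsg.Statements.S4488
import Cfsg.Agent.Lib.Char.SchurBound

set_option autoImplicit false
open Cfsg Cfsg.Agent.Char
open scoped ComplexConjugate

namespace Cfsg.Agent.S4488

/-- Let the finite group G have a faithful p-rational character χ of degree n (all values of χ lie in the field generated over ℚ by a root of unity of order prime to p), and let p^a be the order of a Sylow p-subgroup of G. Then a ≤ Σ_{i ≥ 0} ⌊n / ((p − 1)·p^i)⌋ (a finite sum; the terms vanish once (p − 1)p^i > n). -/
theorem result {G : Type*} [Group G] [Finite G] (p : ℕ) (hp : p.Prime) (χ : G → ℂ) (hχ : Cfsg.IsCharacter G χ) (hfaith : ∀ g : G, χ g = χ 1 → g = 1) (hrat : (∃ r : ℕ, 0 < r ∧ ¬ p ∣ r ∧ ∀ g : G, χ g ∈ IntermediateField.adjoin ℚ ({Complex.exp (2 * Real.pi * Complex.I / r)} : Set ℂ))) (n : ℕ) (hn : Cfsg.charDegree χ = n) : (Nat.card G).factorization p ≤ ∑ i ∈ Finset.range (n + 1), n / ((p - 1) * p ^ i) := by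
  classical
  haveI := Fintype.ofFinite G
  haveI : Fact p.Prime := ⟨hp⟩
  obtain ⟨r, hr0, hr, hval⟩ := hrat
  rcases Nat.eq_zero_or_pos ((Nat.card G).factorization p) with h0 | hv
  · rw [h0]; exact Nat.zero_le _
  obtain P : Sylow p G := default
  haveI := Fintype.ofFinite (P : Subgroup G)
  set ψ : ↥(P : Subgroup G) → ℂ := fun x => χ (x : G) with hψ
  have hdeg : deg ψ = n := hn
  rw [← hdeg]
  refine SchurBound.pgroup_bound P.isPGroup' P.card_eq_multiplicity hv (isCharacter_comp (P : Subgroup G).subtype hχ)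
    (fun g hg => Subtype.ext (hfaith g hg)) fun u g => ?_
  show χ ((g ^ (u : ZMod (p ^ (Nat.card G).factorization p)).val : (P : Subgroup G)) : G) = χ g
  rw [Subgroup.coe_pow]
  refine SchurBound.gal_fix hχ hr0 hr hval u (g : G) ?_
  rw [← Subgroup.coe_pow, ← P.card_eq_multiplicity, pow_card_eq_one', Subgroup.coe_one]

end Cfsg.Agent.S4488
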