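import Cfsg.Statements.S4637
import Cfsg.Agent.Lib.Char.KleinFourBlock
import Cfsg.Agent.Lib.Char.KleinFour

set_option autoImplicit false
open Cfsg
open Cfsg.Agent

namespace Cfsg.Agent.S4637

/-- Let B be a block of the finite group G relative to a maximal ideal M of the algebraic integers containing 2, with a Klein four defect group P. Let c be a block of C_G(P) inducing B, T the stabilizer of c in N_G(P) and e the index of C_G(P) in T (the inertial index). Then e is 1 or 3, B contains exactly four irreducible characters, and the 2-regular rank of B (its number of irreducible Brauer characters) equals e. -/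
theorem result {G : Type*} [Group G] [Finite G] (M : Ideal Cfsg.AlgInt) (hM : Cfsg.IsPModular 2 M) (B : Set (Cfsg.IrrCharacter G)) (hB : Cfsg.IsPBlock M B) (P : Subgroup G) (hPD : Cfsg.IsDefectGroup 2 M B P) (hV : IsKleinFour P) (c : Set (Cfsg.IrrCharacter (Subgroup.centralizer (P : Set G)))) (hc : Cfsg.IsInducedBlock M (Subgroup.centralizer (P : Set G)) c B) (T : Subgroup G) (hT : ∀ g : G, g ∈ T ↔ (g ∈ Subgroup.normalizer (P : Set G) ∧ Cfsg.StabilizesBlock (Subgroup.centralizer (P : Set G)) c g)) (e : ℕ) (he : (Subgroup.centralizer (P : Set G)).relIndex T = e) : (e = 1 ∨ e = 3) ∧ Nat.card B = 4 ∧ Cfsg.blockRank 2 B = e := by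
  classical
  haveI := Fintype.ofFinite G
  haveI : Fact (Nat.Prime 2) := ⟨Nat.prime_two⟩
  have hMp := Char.pmod_prime hM
  set C := Subgroup.centralizer (P : Set G) with hCdef
  have hP4 : Nat.card P = 4 := hV.card_four
  have hab : ∀ x ∈ P, ∀ y ∈ P, x * y = y * x := Char.comm_of_exp_two (P := P) fun x => by
    rw [← pow_two, ← hV.exponent_two]; exact Monoid.pow_exponent_eq_one x
  have hsq : ∀ x ∈ P, x * x = 1 := fun x hx => by
    have := Monoid.pow_exponent_eq_one (⟨x, hx⟩ : P)
    rw [hV.exponent_two, pow_two] at this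
    exact congrArg Subtype.val this
  have hpair := Char.SubsectionOrbits.pair_of_induced hM (IsPGroup.of_card (n := 2) (by rw [hP4]; norm_num)) hc
  have hmax := Char.maximal_of_defect hM hPD hpair
  have hTS : T = Char.pairStab hMp hmax.1.1.2 := by
    ext g
    rw [hT, Char.mem_pairStab]
  subst hTS
  have hCT : C ≤ Char.pairStab hMp hmax.1.1.2 := fun g hg => (Char.mem_pairStab hMp _).mpr
    ⟨Char.centralizer_le_norm P hg, Char.stabilizesBlock_of_centralizer hM hmax.1.1.1 hmax.1.1.2 hg⟩
  set S := (Finset.univ.filter fun z : G => z ∈ P ∧ z ≠ 1) with hS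
  have hScard : S.card = 3 := by
    have h1 : S = ((P : Set G).toFinset).erase 1 := by ext z; simp [hS, and_comm]
    rw [h1, Finset.card_erase_of_mem (by simp), Set.toFinset_card, ← Nat.card_eq_fintype_card]
    show Nat.card P - 1 = 3
    omega
  -- the action on the involutions
  let σ : Char.pairStab hMp hmax.1.1.2 →* Equiv.Perm S :=
    { toFun := fun t =>
        { toFun := fun z => ⟨(t : G) * z * (t : G)⁻¹, by
            obtain ⟨hz, hz1⟩ := (Finset.mem_filter.mp z.2).2
            exact Finset.mem_filter.mpr ⟨Finset.mem_univ _,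
              (Subgroup.mem_normalizer_iff.mp ((Char.mem_pairStab hMp _).mp t.2).1 _).mp hz,
              fun h => hz1 (conj_eq_one_iff.mp h)⟩⟩
          invFun := fun z => ⟨(t : G)⁻¹ * z * (t : G), by
            obtain ⟨hz, hz1⟩ := (Finset.mem_filter.mp z.2).2
            refine Finset.mem_filter.mpr ⟨Finset.mem_univ _, ?_, fun h => hz1 ?_⟩
            · simpa using (Subgroup.mem_normalizer_iff.mp ((Char.mem_pairStab hMp _).mp (inv_mem t.2)).1 _).mp hz
            · have := congrArg (fun w => (t : G) * w * (t : G)⁻¹) h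
              simpa [mul_assoc] using this⟩
          left_inv := fun z => Subtype.ext (by simp [mul_assoc])
          right_inv := fun z => Subtype.ext (by simp [mul_assoc]) }
      map_one' := Equiv.ext fun z => Subtype.ext (by simp)
      map_mul' := fun a b => Equiv.ext fun z => Subtype.ext (by simp [mul_assoc]) }
  have hker : σ.ker = C.subgroupOf (Char.pairStab hMp hmax.1.1.2) := by
    ext t
    rw [MonoidHom.mem_ker, Subgroup.mem_subgroupOf, hCdef, Subgroup.mem_centralizer_iff]
    constructor
    · intro h z hz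
      by_cases hz1 : z = 1
      · simp [hz1]
      · have h2 : (t : G) * z * (t : G)⁻¹ = z := congrArg Subtype.val (Equiv.congr_fun h
          ⟨z, Finset.mem_filter.mpr ⟨Finset.mem_univ _, hz, hz1⟩⟩)
        exact (mul_inv_eq_iff_eq_mul.mp h2).symm
    · intro h
      refine Equiv.ext fun z => Subtype.ext ?_
      show (t : G) * z * (t : G)⁻¹ = z
      rw [← h (z : G) (Finset.mem_filter.mp z.2).2.1, mul_inv_cancel_right]
  have he6 : e ∣ 6 := by
    rw [← he, Subgroup.relIndex, ← hker, Subgroup.index_ker]
    have h1 := Subgroup.card_subgroup_dvd_card σ.range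
    rwa [Nat.card_perm, Nat.card_eq_fintype_card (α := S), Fintype.card_coe, hScard] at h1
  have hodd : ¬ 2 ∣ e := by
    intro h2
    have h0 := Char.KleinBlock.inertial_prime hM hmax hab
    rw [he] at h0
    have h2' := (Nat.prime_two.dvd_iff_one_le_factorization (fun h => by rw [h] at he6; norm_num at he6)).mp h2
    omega
  have he13 : e = 1 ∨ e = 3 := by
    have := Nat.le_of_dvd (by norm_num) he6
    interval_cases e <;> simp_all (config := { decide := true })
  obtain ⟨Φ, h1, h3, hcount⟩ := Char.SubsectionOrbits.card_eq_rank_add hM hmax hab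
  have hd : blockDefect 2 B = 2 := Nat.pow_right_injective le_rfl
    ((Char.card_defectGroup hM hB hPD).symm.trans (hP4.trans (by norm_num)))
  have hl1 : ∀ a ∈ S.image Φ, blockRank 2 a.2 = 1 := by
    intro a ha
    obtain ⟨z, hz, rfl⟩ := Finset.mem_image.mp ha
    obtain ⟨hzP, hz1⟩ := (Finset.mem_filter.mp hz).2
    obtain ⟨-, hconj, hind, hdef⟩ := h1 z hzP hz1
    haveI := Fintype.ofFinite (Subgroup.centralizer ({(Φ z).1} : Set G))
    refine Char.KleinBlock.rank_one_of_central hM hind.1
      (z := ⟨(Φ z).1, Subgroup.mem_centralizer_singleton_iff.mpr rfl⟩)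
      (fun c => Subtype.ext (Subgroup.mem_centralizer_singleton_iff.mp c.2).symm) ?_ (hdef.trans hd)
    obtain ⟨g, hg⟩ := isConj_iff.mp hconj
    rw [Subgroup.orderOf_mk, ← hg, ← MulAut.conj_apply, MulEquiv.orderOf_eq]
    exact orderOf_eq_prime (by rw [pow_two]; exact hsq z hzP) hz1
  rw [Finset.sum_congr rfl hl1, Finset.sum_const, smul_eq_mul, mul_one] at hcount
  have hk4 : Nat.card B ≤ 4 := by
    rw [Char.CentralClass.natCard_eq_bset]; exact Char.KleinBlock.card_le_four hM hB hd
  have hpos := Char.KleinBlock.rank_pos hM hB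
  rcases he13 with rfl | rfl
  · have hTC : Char.pairStab hMp hmax.1.1.2 ≤ C := Subgroup.relIndex_eq_one.mp he
    have hinj : (S.image Φ).card = 3 := by
      rw [Finset.card_image_of_injOn, hScard]
      intro z hz z' hz' heq
      obtain ⟨hzP, hz1⟩ := (Finset.mem_filter.mp hz).2
      obtain ⟨hz'P, hz'1⟩ := (Finset.mem_filter.mp hz').2
      obtain ⟨t, ht, htz⟩ := (h3 z hzP hz1 z' hz'P hz'1).mp heq
      rw [← htz, ← (Subgroup.mem_centralizer_iff.mp (hTC ht)) z hzP, mul_inv_cancel_right]
    rw [hinj] at hcount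
    exact ⟨Or.inl rfl, by omega, by omega⟩
  · obtain ⟨t, ht, htC⟩ := SetLike.not_le_iff_exists.mp
      (fun h : Char.pairStab hMp hmax.1.1.2 ≤ C => by rw [Subgroup.relIndex_eq_one.mpr h] at he; norm_num at he)
    have hσ : σ ⟨t, ht⟩ ≠ 1 := fun h => htC (by
      have : (⟨t, ht⟩ : Char.pairStab hMp hmax.1.1.2) ∈ C.subgroupOf _ := hker ▸ h
      exact this)
    have hσ3 : σ ⟨t, ht⟩ ^ 3 = 1 := by
      rw [← map_pow, ← MonoidHom.mem_ker, hker, ← he, Subgroup.relIndex]
      haveI : (C.subgroupOf (Char.pairStab hMp hmax.1.1.2)).Normal := hker ▸ MonoidHom.normal_ker σ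
      exact Subgroup.pow_index_mem _ _
    set π := σ ⟨t, ht⟩ with hπ
    obtain ⟨z0, hz0⟩ : ∃ z0, π z0 ≠ z0 := by
      by_contra h
      push Not at h
      exact hσ (Equiv.ext h)
    have h33 : π (π (π z0)) = z0 := by
      have h := Equiv.congr_fun hσ3 z0
      simpa [pow_succ, Equiv.Perm.mul_apply] using h
    have horb : ∀ w : S, w = z0 ∨ w = π z0 ∨ w = π (π z0) := by
      intro w
      by_contra hw
      push Not at hw
      have hne : π (π z0) ≠ z0 := fun h => hz0 (by rw [h] at h33; exact h33)
      have hne2 : π (π z0) ≠ π z0 := fun h => hz0 (π.injective h)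
      have h4 : ({w, z0, π z0, π (π z0)} : Finset S).card = 4 := by
        rw [Finset.card_insert_of_notMem (by simp [hw.1, hw.2.1, hw.2.2]),
          Finset.card_insert_of_notMem (by simp [Ne.symm hz0, Ne.symm hne]), Finset.card_pair (Ne.symm hne2)]
      have h5 := Finset.card_le_univ ({w, z0, π z0, π (π z0)} : Finset S)
      rw [h4, Fintype.card_coe, hScard] at h5
      norm_num at h5
    have hone : (S.image Φ).card = 1 := by
      refine Finset.card_eq_one.mpr ⟨Φ z0, ?_⟩
      ext a
      simp only [Finset.mem_image, Finset.mem_singleton]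
      refine ⟨?_, fun h => ⟨z0, z0.2, h.symm⟩⟩
      rintro ⟨w, hw, rfl⟩
      obtain ⟨hz0P, hz01⟩ := (Finset.mem_filter.mp z0.2).2
      obtain ⟨hwP, hw1⟩ := (Finset.mem_filter.mp hw).2
      refine ((h3 z0 hz0P hz01 w hwP hw1).mpr ?_).symm
      rcases horb ⟨w, hw⟩ with h | h | h
      · exact ⟨1, one_mem _, by rw [← congrArg Subtype.val h]; simp⟩
      · exact ⟨t, ht, (congrArg Subtype.val h).symm⟩
      · refine ⟨t * t, mul_mem ht ht, ?_⟩
        have h6 : (w : G) = t * (t * z0 * t⁻¹) * t⁻¹ := congrArg Subtype.val h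
        rw [h6]; group
    rw [hone] at hcount
    have hk : Nat.card B = 4 := by
      have h := Char.KleinBlock.card_eq_four hM hB hd
        (by rw [← Char.CentralClass.natCard_eq_bset]; exact hcount)
      rw [Char.CentralClass.natCard_eq_bset]; exact h
    exact ⟨Or.inr rfl, hk, by omega⟩

end Cfsg.Agent.S4637
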