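import Cfsg.Statements.S0247
import Cfsg.Agent.Lib.Classical.SymmetricSymplectic

set_option autoImplicit false
open Cfsg

namespace Cfsg.Agent.S0247

/-- Sp_4(2) is isomorphic to the symmetric group S_6. -/
theorem result {F : Type*} [Field F] [Fintype F] (hF : Fintype.card F = 2) : Nonempty (Matrix.symplecticGroup (Fin 2) F ≃* Equiv.Perm (Fin 6)) := by
  classical
  obtain ⟨f, hf⟩ := Cfsg.Agent.Classical.SymmSp.exists_injective 3 le_rfl
  have hcard2 : ∀ (K : Type) [Field K] [Fintype K], Fintype.card K = 2 →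
      Nat.card (Matrix.symplecticGroup (Fin 2) K) = 720 := by
    intro K _ _ hK
    rw [Cfsg.Agent.Classical.SpCount.card_symplecticGroup, hK]
    decide
  have hcard : Nat.card (Matrix.symplecticGroup (Fin 2) F) = 720 := by
    rw [Cfsg.Agent.Classical.SpCount.card_symplecticGroup, hF]
    decide
  let e : ZMod 2 ≃+* F := ZMod.ringEquivOfPrime F Nat.prime_two hF
  have hmap : ∀ A : Matrix (Fin 2 ⊕ Fin 2) (Fin 2 ⊕ Fin 2) (ZMod 2),
      A ∈ Matrix.symplecticGroup (Fin 2) (ZMod 2) → A.map e ∈ Matrix.symplecticGroup (Fin 2) F := by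
    intro A hA
    have h := congrArg (fun M : Matrix (Fin 2 ⊕ Fin 2) (Fin 2 ⊕ Fin 2) (ZMod 2) => M.map e)
      (SymplecticGroup.mem_iff.mp hA)
    simp only [Matrix.map_mul] at h
    rw [SymplecticGroup.mem_iff, ← Matrix.map_J (Fin 2) e]
    exact h
  let g : Matrix.symplecticGroup (Fin 2) (ZMod 2) →* Matrix.symplecticGroup (Fin 2) F :=
    MonoidHom.mk' (fun A => ⟨_, hmap A.1 A.2⟩) fun A B => Subtype.ext (Matrix.map_mul (f := e))
  have hg : Function.Injective g := fun A B h =>
    Subtype.ext (Matrix.map_injective e.injective (congrArg Subtype.val h))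
  refine ⟨(MulEquiv.ofBijective (g.comp f) ((Nat.bijective_iff_injective_and_card _).mpr
    ⟨hg.comp hf, ?_⟩)).symm⟩
  rw [hcard, Nat.card_perm, Nat.card_fin]
  decide

end Cfsg.Agent.S0247
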