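import Cfsg.Statements.S0870
import Cfsg.Agent.Lib.Char.IndValue
import Cfsg.Agent.Lib.Char.Basic

set_option autoImplicit false
open Cfsg
open scoped ComplexConjugate

namespace Cfsg.Agent.S0870

/-- For subgroups H and K of a finite group G, the pointwise product of the functions induced from the constant function 1 on H and on K is a sum, over subgroups U of H with natural-number coefficients, of the functions induced from the constant function 1 on U. -/
theorem result {G : Type*} [Group G] [Fintype G] (H K : Subgroup G) : ∃ a : Subgroup G → ℕ, (∀ U, a U ≠ 0 → U ≤ H) ∧ Cfsg.indFun H (fun _ => 1) * Cfsg.indFun K (fun _ => 1) = ∑ U : Subgroup G, (a U : ℂ) • Cfsg.indFun U (fun _ => 1) := by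
  classical
  haveI : Fintype H := Fintype.ofFinite H
  haveI : Fintype K := Fintype.ofFinite K
  let Ω := MulAction.orbitRel.Quotient H (G ⧸ K)
  haveI : Fintype Ω := Fintype.ofFinite Ω
  let U : Ω → Subgroup G := fun ω => (MulAction.stabilizer H (Quotient.out ω)).map H.subtype
  have hUH : ∀ ω, U ω ≤ H := fun ω => Subgroup.map_subtype_le _
  refine ⟨fun V => (Finset.univ.filter (fun ω : Ω => U ω = V)).card, ?_, ?_⟩
  · intro V hV
    obtain ⟨ω, hω⟩ := Finset.card_ne_zero.1 hV
    rw [← (Finset.mem_filter.1 hω).2]
    exact hUH ω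
  · set π : G → ℂ := Cfsg.indFun K (fun _ => 1) with hπ
    have hπc : Cfsg.IsClassFunction G π := Cfsg.Agent.Char.isClassFunction_indFun K _
    have hprod : Cfsg.indFun H (fun _ => 1) * π = Cfsg.indFun H (fun h : H => π h) := by
      funext g
      simp only [Pi.mul_apply, Cfsg.indFun]
      rw [mul_assoc, Finset.sum_mul]
      congr 1
      refine Finset.sum_congr rfl (fun x _ => ?_)
      by_cases hx : x⁻¹ * g * x ∈ H
      · rw [Cfsg.Agent.Char.extendByZero_mem H _ hx, Cfsg.Agent.Char.extendByZero_mem H _ hx, one_mul]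
        have := hπc g x⁻¹
        simpa using this.symm
      · rw [Cfsg.Agent.Char.extendByZero_not_mem H _ hx, Cfsg.Agent.Char.extendByZero_not_mem H _ hx,
          zero_mul]
    have hdec : (fun h : H => π h) =
        ∑ ω : Ω, Cfsg.indFun (MulAction.stabilizer H (Quotient.out ω)) (fun _ => 1) := by
      funext h
      rw [Finset.sum_apply]
      have e1 : π h = (Nat.card (MulAction.fixedBy (G ⧸ K) (h : G)) : ℂ) := by
        rw [hπ, Cfsg.Agent.Char.card_fixedBy_eq_indFun (QuotientGroup.mk 1 : G ⧸ K)]
        have : MulAction.stabilizer G (QuotientGroup.mk 1 : G ⧸ K) = K := MulAction.stabilizer_quotient K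
        rw [this]
      rw [e1]
      let e : MulAction.fixedBy (G ⧸ K) (h : G) ≃
          Σ ω : Ω, MulAction.fixedBy (MulAction.orbit H (Quotient.out ω)) h :=
        { toFun := fun y => ⟨Quotient.mk'' y.1, ⟨y.1, MulAction.orbitRel_apply.1
              (Quotient.exact (Quotient.out_eq (Quotient.mk'' y.1 : Ω)).symm)⟩,
            Subtype.ext y.2⟩
          invFun := fun z => ⟨z.2.1.1, congrArg Subtype.val z.2.2⟩
          left_inv := fun y => rfl
          right_inv := fun ⟨ω, ⟨y, hy⟩, hz⟩ => by
            have h1 : (Quotient.mk'' y : Ω) = ω := by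
              conv_rhs => rw [← Quotient.out_eq ω]
              exact Quotient.sound (MulAction.orbitRel_apply.2 hy)
            subst h1
            rfl }
      rw [Nat.card_congr e, Nat.card_sigma, Nat.cast_sum]
      refine Finset.sum_congr rfl (fun ω _ => ?_)
      rw [Cfsg.Agent.Char.card_fixedBy_eq_indFun
        (⟨Quotient.out ω, MulAction.mem_orbit_self _⟩ : MulAction.orbit H (Quotient.out ω))]
      have hst : MulAction.stabilizer H
          (⟨Quotient.out ω, MulAction.mem_orbit_self _⟩ : MulAction.orbit H (Quotient.out ω)) =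
          MulAction.stabilizer H (Quotient.out ω) := by
        ext k
        simp [MulAction.mem_stabilizer_iff, Subtype.ext_iff]
      rw [hst]
    have htr : ∀ ω : Ω, Cfsg.indFun H (Cfsg.indFun (MulAction.stabilizer H (Quotient.out ω))
        (fun _ => 1)) = Cfsg.indFun (U ω) (fun _ => 1) := by
      intro ω
      rw [← Cfsg.Agent.Char.indFun_trans (U ω) H (hUH ω) (fun _ => 1)]
      have : (U ω).subgroupOf H = MulAction.stabilizer H (Quotient.out ω) := by
        simp [U, Subgroup.subgroupOf, Subgroup.comap_map_eq_self_of_injective H.subtype_injective]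
      rw [this]
    rw [hprod, hdec, Cfsg.Agent.Char.indFun_sum, Finset.sum_congr rfl (fun ω _ => htr ω),
      ← Finset.sum_fiberwise (Finset.univ : Finset Ω) U]
    refine Finset.sum_congr rfl (fun V _ => ?_)
    rw [Finset.sum_congr rfl (g := fun _ => Cfsg.indFun V (fun _ => 1)) (fun ω hω => by
      rw [(Finset.mem_filter.1 hω).2]), Finset.sum_const, Nat.cast_smul_eq_nsmul]

end Cfsg.Agent.S0870
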