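import Cfsg.Statements.S4551
import Cfsg.Agent.Lib.Char.InnerCover

set_option autoImplicit false
open Cfsg
open scoped ComplexConjugate

namespace Cfsg.Agent.S4551

/-- Let N be a normal subgroup of the finite group G of index prime to p, P a Sylow p-subgroup of G with G = N·C_G(P), and M a maximal ideal of the algebraic integers containing p. Then restriction to N is a bijection from the principal p-block of G onto the principal p-block of N: every member of the principal block of G restricts to a member of the principal block of N, and every member of the principal block of N is the restriction of exactly one member of the principal block of G. -/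
theorem result {G : Type*} [Group G] [Finite G] (p : ℕ) [Fact p.Prime] (M : Ideal Cfsg.AlgInt) (hM : Cfsg.IsPModular p M) (N : Subgroup G) [N.Normal] (hidx : ¬ p ∣ N.index) (P : Sylow p G) (hsup : N ⊔ Subgroup.centralizer ((P : Subgroup G) : Set G) = ⊤) : (∀ χ ∈ Cfsg.principalBlock M G, ∃ θ ∈ Cfsg.principalBlock M ↥N, ∀ n : N, (χ : G → ℂ) n = (θ : N → ℂ) n) ∧ ∀ θ ∈ Cfsg.principalBlock M ↥N, ∃! χ : Cfsg.IrrCharacter G, χ ∈ Cfsg.principalBlock M G ∧ ∀ n : N, (χ : G → ℂ) n = (θ : N → ℂ) n := by
  classical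
  have hp : p.Prime := Fact.out
  have := Fintype.ofFinite G
  have := Fintype.ofFinite N
  have := Fintype.ofFinite (G ⧸ N)
  have hP := Char.pmod_prime hM
  let t : Cfsg.IrrCharacter G := ⟨fun _ => 1, Char.isIrrCharacter_one⟩
  let t' : Cfsg.IrrCharacter N := ⟨fun _ => 1, Char.isIrrCharacter_one⟩
  set b := Cfsg.principalBlock M N with hbd
  set B := Cfsg.principalBlock M G with hBd
  have hb : Cfsg.IsPBlock M b := Char.isPBlock_blockOf M t'
  have hB : Cfsg.IsPBlock M B := Char.isPBlock_blockOf M t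
  have ht : t ∈ B := Char.self_mem_blockOf hP t
  have ht' : t' ∈ b := Char.self_mem_blockOf hP t'
  have htriv : Cfsg.classInner (fun n : N => (t : G → ℂ) n) (t' : N → ℂ) ≠ 0 := fun h0 =>
    Char.irr_one_ne_zero t'.2 (congrFun (Char.classInner_self_eq_zero (a := (t' : N → ℂ)) h0) 1)
  have hcons : ∀ χ ∈ B, ∀ η : Cfsg.IrrCharacter N,
      Cfsg.classInner (fun n : N => (χ : G → ℂ) n) (η : N → ℂ) ≠ 0 → η ∈ b := by
    intro χ hχ η hη
    obtain ⟨g, hg⟩ := Char.mem_orbU_of_sameBlock hM (Char.block_sameBlock hP hB ht hχ) htriv hη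
    have hmem : Char.irrComp (MulAut.conjNormal g) η ∈ b :=
      (Char.mem_block_iff hP hb ht' _).mpr hg
    have himg : Char.irrTransport (MulAut.conjNormal g⁻¹ : N ≃* N) '' b = b :=
      Char.block_disjoint hP (Char.isPBlock_transport _ hb) hb ⟨t', ht', rfl⟩
        (by convert ht' using 1; exact Subtype.ext (funext fun _ => rfl))
    have := Set.mem_image_of_mem (Char.irrTransport (MulAut.conjNormal g⁻¹ : N ≃* N)) hmem
    rw [himg] at this
    convert this using 1
    refine Subtype.ext (funext fun k => ?_)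
    rw [Char.irrTransport_apply, Char.irrComp_apply]
    congr 1
    rw [← MulAut.mul_apply, ← map_mul]
    simp
  -- only the trivial character of the quotient lies in the principal block
  have honly : ∀ χ ∈ B, Cfsg.classInner (fun n : N => (χ : G → ℂ) n) (t' : N → ℂ) ≠ 0 → χ = t := by
    intro χ hχ hc
    have horb : Char.cliffOrbit N t' = {t'} := by
      ext φ
      simp only [Char.mem_cliffOrbit, Finset.mem_singleton]
      refine ⟨?_, fun h => ⟨1, by subst h; exact Subtype.ext (funext fun _ => rfl)⟩⟩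
      rintro ⟨g, rfl⟩
      exact Subtype.ext (funext fun _ => rfl)
    have hres := Char.clifford_restrict χ t' hc
    rw [horb, Finset.sum_singleton] at hres
    have hker : ∀ n : N, (χ : G → ℂ) n = (χ : G → ℂ) 1 := fun n =>
      (congrFun hres n).trans (congrFun hres 1).symm
    obtain ⟨n, hn⟩ := Char.charOne_eq_natCast (Char.irr_isCharacter χ.2)
    have hn' : n = Cfsg.charDegree (χ : G → ℂ) := by
      rw [Char.charDegree_eq_deg]
      exact_mod_cast hn.symm.trans (Char.char_one_eq_deg (Char.irr_isCharacter χ.2))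
    have hnp : ¬ p ∣ n := by
      let K : Subgroup G :=
        { carrier := {g | (χ : G → ℂ) g = (χ : G → ℂ) 1}
          one_mem' := rfl
          mul_mem' := fun {a b} ha hb' => by
            show (χ : G → ℂ) (a * b) = _
            rw [Char.char_mul_of_ker (Char.irr_isCharacter χ.2) ha]; exact hb'
          inv_mem' := fun {a} ha => by
            show (χ : G → ℂ) a⁻¹ = _
            rw [Char.char_inv (Char.irr_isCharacter χ.2), ha, hn, Complex.conj_natCast] }
      have : K.Normal := ⟨fun a ha g => by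
        show (χ : G → ℂ) (g * a * g⁻¹) = _
        rw [Char.isClassFunction_character (Char.irr_isCharacter χ.2) a g]; exact ha⟩
      have hd := Char.charDegree_dvd_index_kernel χ (K := K) fun g => Iff.rfl
      rw [← hn'] at hd
      exact fun hdp => hidx ((hdp.trans hd).trans (Subgroup.index_dvd_of_le fun a ha => hker ⟨a, ha⟩))
    have hv : ∀ x : G, Cfsg.MemLocalIdeal M ((χ : G → ℂ) x - n) := by
      intro x
      obtain ⟨a, ha, c, hc', hx⟩ := Subgroup.mem_sup_of_normal_left.mp
        (hsup ▸ Subgroup.mem_top x : x ∈ N ⊔ Subgroup.centralizer ((P : Subgroup G) : Set G))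
      rw [← hx, Char.char_mul_of_ker (Char.irr_isCharacter χ.2) (hker ⟨a, ha⟩)]
      have hk : ¬ p ∣ Nat.card {y : G // IsConj c y} := by
        intro hd
        rw [Char.card_conjClass_eq_index] at hd
        refine P.not_dvd_index (hd.trans (Subgroup.index_dvd_of_le fun y hy => ?_))
        exact Subgroup.mem_centralizer_singleton_iff.mpr (hc' y hy)
      have hs := Char.block_sameBlock hP hB hχ ht c
      rw [← Char.omega_eq_centralChar, ← Char.omega_eq_centralChar, Char.omega, Char.omega] at hs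
      simp only [t, mul_one, div_one, hn] at hs
      have hn0 : (n : ℂ) ≠ 0 := by
        rw [← hn]; exact Char.irr_one_ne_zero χ.2
      have hk0 : (Nat.card {y : G // IsConj c y} : ℂ) ≠ 0 :=
        Nat.cast_ne_zero.mpr (Char.card_conjClass_ne_zero c)
      rw [show (χ : G → ℂ) c - n = ((n : ℂ) * (Nat.card {y : G // IsConj c y} : ℂ)⁻¹) *
        ((Nat.card {y : G // IsConj c y} : ℂ) * (χ : G → ℂ) c / n - Nat.card {y : G // IsConj c y}) by
        field_simp]
      exact Char.memLI_mul_left hP (Char.memLR_mul hP (Char.memLR_natCast hP _)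
        (Char.memLR_inv_natCast hM hk)) hs
    by_contra hne
    have horth : ∑ x : G, (χ : G → ℂ) x * (starRingEnd ℂ) ((t : G → ℂ) x) = 0 := by
      have h := Char.irr_orth χ.2 t.2
      rw [if_neg fun h => hne (Subtype.ext h), Cfsg.classInner] at h
      exact (mul_eq_zero.mp h).resolve_left (inv_ne_zero (Nat.cast_ne_zero.mpr Nat.card_pos.ne'))
    simp only [t, map_one, mul_one] at horth
    have hrep : ∑ x : G, (χ : G → ℂ) x = (Nat.card N : ℂ) * ∑ q : G ⧸ N, (χ : G → ℂ) q.out := by
      rw [← Finset.sum_fiberwise Finset.univ (fun x : G => (x : G ⧸ N)), Finset.mul_sum]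
      refine Finset.sum_congr rfl fun q _ => ?_
      rw [Finset.sum_congr rfl (g := fun _ => (χ : G → ℂ) q.out) fun x hx => ?_,
        Finset.sum_const, nsmul_eq_mul]
      · congr 2
        rw [Nat.card_eq_fintype_card, ← Finset.card_univ]
        refine Finset.card_bij (fun x hx => ⟨q.out⁻¹ * x, ?_⟩) (fun x hx => Finset.mem_univ _)
          (fun x _ y _ h => by simpa using congrArg Subtype.val h)
          (fun m _ => ⟨q.out * m, by simp [(QuotientGroup.eq_one_iff (m : G)).mpr m.2], by simp⟩)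
        rw [← QuotientGroup.eq_one_iff, QuotientGroup.mk_mul, QuotientGroup.mk_inv,
          QuotientGroup.out_eq', (Finset.mem_filter.mp hx).2, inv_mul_cancel]
      · have hm : x * q.out⁻¹ ∈ N := by
          rw [← QuotientGroup.eq_one_iff, QuotientGroup.mk_mul, QuotientGroup.mk_inv,
            QuotientGroup.out_eq', (Finset.mem_filter.mp hx).2, mul_inv_cancel]
        conv_lhs => rw [show x = (x * q.out⁻¹) * q.out by group]
        exact Char.char_mul_of_ker (Char.irr_isCharacter χ.2) (hker ⟨_, hm⟩) _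
    rw [horth, eq_comm, mul_eq_zero] at hrep
    have h0 := hrep.resolve_left (Nat.cast_ne_zero.mpr Nat.card_pos.ne')
    have h1 : Cfsg.MemLocalIdeal M (∑ q : G ⧸ N, ((χ : G → ℂ) q.out - n)) :=
      Char.memLI_sum hP _ _ fun q _ => hv _
    rw [Finset.sum_sub_distrib, h0, zero_sub, Finset.sum_const, Finset.card_univ, nsmul_eq_mul,
      ← Nat.cast_mul] at h1
    have h2 := Char.memLI_neg hP h1
    rw [neg_neg, Char.memLI_natCast_iff hM, hp.dvd_mul, ← Nat.card_eq_fintype_card] at h2
    exact h2.elim hidx hnp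
  -- coset totals of the idempotent
  set e := Cfsg.blockCoeff B with hed
  have heI := Char.isIntClassFun_blockCoeff hM hB
  have htot : ∀ q : G ⧸ N, ∑ x, Char.piece e q x = (N.index : ℂ)⁻¹ := by
    intro q
    set i' := Char.idem (t' : N → ℂ) with hi'
    have hginv : Char.GInvariant N (t' : N → ℂ) := fun _ _ => rfl
    have hT : Char.conv e (Cfsg.extendByZero N i') = Char.idem (t : G → ℂ) := by
      have hcl := Char.isClassFunction_extend (Char.ginv_idem hginv)
      rw [Char.classFun_eq_sum_idem (Char.isClassFunction_conv heI.1 hcl), Finset.sum_eq_single t]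
      · rw [Char.lam_conv t.2 heI.1 hcl, Char.lam_blockCoeff, if_pos ht,
          Char.lam_extend_idem t' hginv, if_pos htriv, mul_one, one_smul]
      · intro χ _ hne
        rw [Char.lam_conv χ.2 heI.1 hcl, Char.lam_blockCoeff]
        by_cases hχ : χ ∈ B
        · rw [Char.lam_extend_idem t' hginv, if_neg (fun h => hne (honly χ hχ h)), mul_zero, zero_smul]
        · rw [if_neg hχ, zero_mul, zero_smul]
      · exact fun h0 => absurd (Finset.mem_univ t) h0
    obtain ⟨x, rfl⟩ := QuotientGroup.mk_surjective q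
    have h := congrFun hT x
    simp only [Char.conv, hi', Char.idem, t, t', map_one, mul_one] at h
    have hterm : ∀ y : G, e y * Cfsg.extendByZero N (fun _ => (Nat.card N : ℂ)⁻¹) (y⁻¹ * x) =
        (Nat.card N : ℂ)⁻¹ * Char.piece e (x : G ⧸ N) y := by
      intro y
      simp only [Char.piece]
      by_cases hy : y⁻¹ * x ∈ N
      · rw [Char.extendByZero_mem N _ hy, if_pos (QuotientGroup.eq.mpr hy), mul_comm]
      · rw [Char.extendByZero_not_mem N _ hy, if_neg (fun h => hy (QuotientGroup.eq.mp h)), mul_zero,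
          mul_zero]
    rw [show Char.idem (fun _ : N => (1 : ℂ)) = fun _ => (Nat.card N : ℂ)⁻¹ from
      funext fun _ => by simp [Char.idem]] at *
    rw [Finset.sum_congr rfl fun y _ => hterm y, ← Finset.mul_sum] at h
    have hN0 : (Nat.card N : ℂ) ≠ 0 := Nat.cast_ne_zero.mpr Nat.card_pos.ne'
    have hNi : (Nat.card G : ℂ) = (Nat.card N : ℂ) * N.index := by
      rw [← Nat.cast_mul, Subgroup.card_mul_index]
    rw [hNi, mul_inv, mul_right_inj' (inv_ne_zero hN0)] at h
    exact h
  have hlamb : ∀ θ ∈ b, Char.lamN θ e = (N.index : ℂ)⁻¹ := fun θ hθ =>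
    Char.lamN_eq_inv_index hM hidx heI (Char.conv_blockCoeff B) htot (t' := t') rfl
      (Char.block_sameBlock hP hb hθ ht')
  have hnout : ∀ θ ∉ b, Char.lamN θ e = 0 := by
    intro θ hθ
    have hc : ∀ χ ∈ B, Cfsg.classInner (fun n : N => (χ : G → ℂ) n) (θ : N → ℂ) = 0 := by
      intro χ hχ
      by_contra h
      exact hθ (hcons χ hχ θ h)
    have hI : Cfsg.IsClassFunction N (fun n : N => e n) := fun a k => heI.1 a k
    have h0 : Char.conv (Char.idem (θ : N → ℂ)) (fun n : N => e n) = 0 := by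
      funext n
      rw [← Char.conv_extend_left_apply, Char.conv_idem_eq_zero B θ hc]
      rfl
    have h1 := congrArg (Char.lam (θ : N → ℂ)) h0
    rw [Char.lam_conv θ.2 (Char.isClassFunction_idem (Char.irr_isCharacter θ.2)) hI, Char.lam_idem,
      if_pos rfl, one_mul, Char.lam_zero] at h1
    exact h1
  choose m hm using fun χ : Cfsg.IrrCharacter G =>
    Char.exists_decomposition (Char.isCharacter_comp N.subtype (Char.irr_isCharacter χ.2))
  have hmc : ∀ (χ : Cfsg.IrrCharacter G) (η : Cfsg.IrrCharacter N),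
      Cfsg.classInner (fun n : N => (χ : G → ℂ) n) (η : N → ℂ) = m χ η :=
    fun χ η => Char.decomposition_coeff (m χ) (hm χ) η
  choose d hd using fun χ : Cfsg.IrrCharacter G => Char.charOne_eq_natCast (Char.irr_isCharacter χ.2)
  choose c hc using fun η : Cfsg.IrrCharacter N => Char.charOne_eq_natCast (Char.irr_isCharacter η.2)
  have hres : ∀ χ, d χ = ∑ η, m χ η * c η := by
    intro χ
    have h := congrFun (hm χ) 1
    simp only [Function.comp_apply, map_one, hd, Finset.sum_apply, nsmul_eq_mul, Pi.mul_apply,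
      Pi.natCast_apply, hc] at h
    exact_mod_cast h
  set sB := Finset.univ.filter fun χ : Cfsg.IrrCharacter G => χ ∈ B with hsB
  set sb := Finset.univ.filter fun η : Cfsg.IrrCharacter N => η ∈ b with hsb
  have hres' : ∀ χ ∈ sB, d χ = ∑ η ∈ sb, m χ η * c η := by
    intro χ hχ
    rw [hres χ]
    refine (Finset.sum_subset (Finset.subset_univ _) fun η _ hη => ?_).symm
    rw [show m χ η = 0 from ?_, zero_mul]
    by_contra h0
    exact hη (Finset.mem_filter.mpr ⟨Finset.mem_univ _, hcons χ (Finset.mem_filter.mp hχ).2 η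
      (by rw [hmc]; exact_mod_cast h0)⟩)
  -- the two sums of squares agree
  have hsq : ∑ χ ∈ sB, d χ ^ 2 = ∑ η ∈ sb, c η ^ 2 := by
    have h1 : (1 : G) ∈ N := N.one_mem
    have hL : e 1 = (Nat.card G : ℂ)⁻¹ * ∑ χ ∈ sB, (d χ : ℂ) ^ 2 := by
      rw [show e = _ from Char.blockCoeff_eq B, Finset.sum_apply, Finset.mul_sum]
      exact Finset.sum_congr rfl fun χ _ => by rw [Char.idem, hd, Complex.conj_natCast, pow_two]
    have hcl : Cfsg.IsClassFunction N (fun n : N => e n) := fun a k => heI.1 a k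
    have hR := congrFun (Char.classFun_eq_sum_idem hcl) 1
    simp only [OneMemClass.coe_one, Finset.sum_apply, Pi.smul_apply, smul_eq_mul, Char.idem, hc,
      Complex.conj_natCast] at hR
    rw [← Finset.sum_subset (s₁ := sb) (Finset.subset_univ _) fun η _ hη => by
        rw [show Char.lam (η : N → ℂ) (fun n : N => e n) = 0 from
          hnout η fun h => hη (Finset.mem_filter.mpr ⟨Finset.mem_univ _, h⟩), zero_mul],
      Finset.sum_congr rfl (g := fun η => (Nat.card G : ℂ)⁻¹ * (c η : ℂ) ^ 2) fun η hη => by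
        rw [show Char.lam (η : N → ℂ) (fun n : N => e n) = (N.index : ℂ)⁻¹ from
          hlamb η (Finset.mem_filter.mp hη).2, show (Nat.card G : ℂ) = (Nat.card N : ℂ) * N.index by
            rw [← Nat.cast_mul, Subgroup.card_mul_index], mul_inv]
        ring,
      ← Finset.mul_sum, hL] at hR
    exact_mod_cast mul_left_cancel₀ (inv_ne_zero (Nat.cast_ne_zero.mpr Nat.card_pos.ne')) hR
  have htotal : ∑ χ ∈ sB, d χ ^ 2 = ∑ η ∈ sb, c η * ∑ χ ∈ sB, m χ η * d χ := by
    simp only [Finset.mul_sum]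
    rw [Finset.sum_comm]
    refine Finset.sum_congr rfl fun χ hχ => ?_
    rw [pow_two]
    conv_lhs => arg 1; rw [hres' χ hχ]
    rw [Finset.sum_mul]
    exact Finset.sum_congr rfl fun η _ => by ring
  have hge : ∀ η ∈ sb, ∀ χ ∈ sB, m χ η ≠ 0 → c η ≤ d χ := by
    intro η hη χ hχ h0
    rw [hres' χ hχ]
    exact le_trans (Nat.le_mul_of_pos_left _ (Nat.pos_of_ne_zero h0))
      (Finset.single_le_sum (f := fun η => m χ η * c η) (fun _ _ => Nat.zero_le _) hη)
  have hc0 : ∀ η, c η ≠ 0 := fun η h => Char.irr_one_ne_zero η.2 (by rw [hc, h, Nat.cast_zero])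
  have hd0 : ∀ χ, d χ ≠ 0 := fun χ h => Char.irr_one_ne_zero χ.2 (by rw [hd, h, Nat.cast_zero])
  have hex : ∀ η ∈ sb, ∃ χ ∈ sB, m χ η ≠ 0 := by
    intro η hη
    obtain ⟨χ, hχ, hne⟩ := Char.exists_over_of_covered hM hB hb ht ht' htriv (Finset.mem_filter.mp hη).2
    exact ⟨χ, Finset.mem_filter.mpr ⟨Finset.mem_univ _, hχ⟩,
      fun h => hne (by rw [hmc, h, Nat.cast_zero])⟩
  have hlow : ∀ η ∈ sb, c η * c η ≤ c η * ∑ χ ∈ sB, m χ η * d χ := by
    intro η hη
    obtain ⟨χ, hχ, h0⟩ := hex η hη
    exact Nat.mul_le_mul_left _ ((hge η hη χ hχ h0).trans ((Nat.le_mul_of_pos_left _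
      (Nat.pos_of_ne_zero h0)).trans (Finset.single_le_sum (f := fun χ => m χ η * d χ)
        (fun _ _ => Nat.zero_le _) hχ)))
  have heq : ∀ η ∈ sb, ∑ χ ∈ sB, m χ η * d χ = c η := by
    intro η hη
    have h := (Finset.sum_eq_sum_iff_of_le hlow).mp
      (by rw [← htotal, hsq]; exact Finset.sum_congr rfl fun η _ => (pow_two _).symm) η hη
    exact (Nat.eq_of_mul_eq_mul_left (Nat.pos_of_ne_zero (hc0 η)) h).symm
  -- restriction is irreducible and unique
  have hirr : ∀ η ∈ sb, ∀ χ ∈ sB, m χ η ≠ 0 →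
      (∀ n : N, (χ : G → ℂ) n = (η : N → ℂ) n) ∧ ∀ χ' ∈ sB, m χ' η ≠ 0 → χ' = χ := by
    intro η hη χ hχ h0
    have h := heq η hη
    have h1 : m χ η * d χ ≤ c η := h ▸ Finset.single_le_sum (f := fun χ => m χ η * d χ)
      (fun _ _ => Nat.zero_le _) hχ
    have h2 := hge η hη χ hχ h0
    have h3 : d χ = c η := le_antisymm ((Nat.le_mul_of_pos_left _ (Nat.pos_of_ne_zero h0)).trans h1) h2
    refine ⟨fun n => ?_, fun χ' hχ' h0' => ?_⟩
    · have hne : Cfsg.classInner ((χ : G → ℂ) ∘ N.subtype) (η : N → ℂ) ≠ 0 := by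
        rw [show ((χ : G → ℂ) ∘ N.subtype) = fun n : N => (χ : G → ℂ) n from rfl, hmc]
        exact_mod_cast h0
      exact congrFun (Char.eq_of_inner_ne_zero_of_deg
        (Char.isCharacter_comp N.subtype (Char.irr_isCharacter χ.2)) η hne
        (by rw [Function.comp_apply, map_one, hd, h3, hc])) n
    · by_contra hne
      have h4 : m χ η * d χ + m χ' η * d χ' ≤ c η := by
        rw [← h, ← Finset.sum_pair (f := fun χ => m χ η * d χ) (Ne.symm hne)]
        exact Finset.sum_le_sum_of_subset (Finset.insert_subset_iff.mpr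
          ⟨hχ, Finset.singleton_subset_iff.mpr hχ'⟩)
      have h5 : c η ≤ m χ η * d χ := h3 ▸ Nat.le_mul_of_pos_left _ (Nat.pos_of_ne_zero h0)
      have h6 : 0 < m χ' η * d χ' := Nat.pos_of_ne_zero (mul_ne_zero h0' (hd0 χ'))
      omega
  refine ⟨fun χ hχ => ?_, fun θ hθ => ?_⟩
  · have hχ' : χ ∈ sB := Finset.mem_filter.mpr ⟨Finset.mem_univ _, hχ⟩
    obtain ⟨η, hη, h0⟩ := Finset.exists_ne_zero_of_sum_ne_zero (hres' χ hχ' ▸ hd0 χ)
    exact ⟨η, (Finset.mem_filter.mp hη).2, (hirr η hη χ hχ' (mul_ne_zero_iff.mp h0).1).1⟩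
  · have hθ' : θ ∈ sb := Finset.mem_filter.mpr ⟨Finset.mem_univ _, hθ⟩
    obtain ⟨χ, hχ, h0⟩ := hex θ hθ'
    obtain ⟨hval, huniq⟩ := hirr θ hθ' χ hχ h0
    refine ⟨χ, ⟨(Finset.mem_filter.mp hχ).2, hval⟩, ?_⟩
    rintro χ' ⟨hχ'B, hv'⟩
    refine huniq χ' (Finset.mem_filter.mpr ⟨Finset.mem_univ _, hχ'B⟩) fun h => ?_
    have h7 := hmc χ' θ
    rw [funext hv', h, Nat.cast_zero] at h7
    exact Char.irr_one_ne_zero θ.2 (congrFun (Char.classInner_self_eq_zero h7) 1)

end Cfsg.Agent.S4551
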