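import Cfsg.Statements.S1280
import Cfsg.Agent.Lib.Solv.Coprime
import Cfsg.Agent.Lib.Fusion.Basic

set_option autoImplicit false
open Cfsg
open Cfsg.Agent.Fusion
open scoped commutatorElement Pointwise

namespace Cfsg.Agent.S1280

/-- Let θ be a solvable A-signalizer functor (A a noncyclic elementary abelian p-subgroup of the finite group G), and X, Y members of its family with Y ≤ N_G(X). Then X ⊔ Y (= XY) is again in the family. -/
theorem result {G : Type*} [Group G] [Finite G] (p : ℕ) [Fact p.Prime] (A : Subgroup G) (hA : Cfsg.IsElementaryAbelian p A) (hA2 : p ^ 2 ≤ Nat.card ↥A) (θ : G → Subgroup G) (hθ : Cfsg.IsSolvableSignalizerFunctor p A θ) (X Y : Subgroup G) (hX : X ∈ Cfsg.signalizerFamily p A θ) (hY : Y ∈ Cfsg.signalizerFamily p A θ) (hn : Y ≤ Subgroup.normalizer (X : Set G)) : X ⊔ Y ∈ Cfsg.signalizerFamily p A θ := by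
  obtain ⟨hXs, hXp, hXA, hXθ⟩ := hX
  obtain ⟨hYs, hYp, hYA, hYθ⟩ := hY
  have hp := (Fact.out : p.Prime)
  have hset : ((X ⊔ Y : Subgroup G) : Set G) = (X : Set G) * (Y : Set G) :=
    Subgroup.coe_mul_of_right_le_normalizer_left X Y hn
  refine ⟨?_, ?_, fun b hb => ?_, fun a ha ha1 => ?_⟩
  · -- solvable extension
    haveI hXn : (X.subgroupOf (X ⊔ Y)).Normal :=
      (Subgroup.normal_subgroupOf_iff_le_normalizer le_sup_left).2 (sup_le Subgroup.le_normalizer hn)
    let φ : ↥Y →* ↥(X ⊔ Y) ⧸ X.subgroupOf (X ⊔ Y) :=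
      (QuotientGroup.mk' _).comp (Subgroup.inclusion le_sup_right)
    have hφ : Function.Surjective φ := by
      intro q
      obtain ⟨⟨w, hw⟩, rfl⟩ := QuotientGroup.mk_surjective q
      obtain ⟨x, hx, y, hy, rfl⟩ := (Set.ext_iff.1 hset w).1 hw
      refine ⟨⟨y, hy⟩, QuotientGroup.eq.2 ?_⟩
      show y⁻¹ * (x * y) ∈ X
      have := (Subgroup.mem_normalizer_iff.1 (hn (inv_mem hy)) x).1 hx
      rwa [inv_inv, mul_assoc] at this
    haveI := hYs; haveI := hXs
    haveI : Group.IsSolvable (↥(X ⊔ Y) ⧸ X.subgroupOf (X ⊔ Y)) := Group.isSolvable_of_surjective hφ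
    haveI : Group.IsSolvable ↥(X.subgroupOf (X ⊔ Y)) := Group.isSolvable_of_isSolvable_injective
      (f := (Subgroup.subgroupOfEquivOfLe (le_sup_left : X ≤ X ⊔ Y)).toMonoidHom) (Subgroup.subgroupOfEquivOfLe _).injective
    exact Group.isSolvable_of_ker_le_range (X.subgroupOf (X ⊔ Y)).subtype (QuotientGroup.mk' (X.subgroupOf (X ⊔ Y)))
      (by rw [QuotientGroup.ker_mk', Subgroup.range_subtype])
  · intro hd
    have hc := Cfsg.Agent.Solv.card_sup_mul_card_inf' X Y hn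
    rcases hp.dvd_mul.1 (hd.trans (hc ▸ dvd_mul_right _ _)) with h | h
    exacts [hXp h, hYp h]
  · intro w hw
    obtain ⟨x, hx, y, hy, rfl⟩ := (Set.ext_iff.1 hset w).1 hw
    rw [show b * (x * y) * b⁻¹ = (b * x * b⁻¹) * (b * y * b⁻¹) by group]
    exact mul_mem (Subgroup.mem_sup_left (hXA b hb x hx)) (Subgroup.mem_sup_right (hYA b hb y hy))
  · intro z hz
    obtain ⟨hz1, hz2⟩ := Subgroup.mem_inf.1 hz
    obtain ⟨x, hx, y, hy, rfl⟩ := (Set.ext_iff.1 hset z).1 hz1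
    have hz2' := Subgroup.mem_centralizer_singleton_iff.1 hz2
    have han : ∀ (W : Subgroup G), (∀ b ∈ A, ∀ w ∈ W, b * w * b⁻¹ ∈ W) →
        Subgroup.zpowers a ≤ Subgroup.normalizer (W : Set G) := fun W hW => Subgroup.zpowers_le.2
      (mem_normalizer_of_cj_le (by rintro _ ⟨w, hw, rfl⟩; exact hW a ha w hw))
    have hD : Subgroup.zpowers a ≤ Subgroup.normalizer ((X ⊓ Y : Subgroup G) : Set G) := fun t ht =>
      mem_normalizer_of_cj_le (by rw [cj_inf, cj_eq_self (han X hXA ht), cj_eq_self (han Y hYA ht)])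
    have hcop : (Nat.card ↥(Subgroup.zpowers a)).Coprime (Nat.card ↥Y) := by
      rw [Nat.card_zpowers]
      exact Nat.Coprime.coprime_dvd_left (orderOf_dvd_of_pow_eq_one (hA.2 a ha))
        ((Nat.Prime.coprime_iff_not_dvd hp).2 hYp)
    have hfix : ∀ t ∈ Subgroup.zpowers a, y⁻¹ * (t * y * t⁻¹) ∈ X ⊓ Y := by
      intro t ht
      have hty := (Subgroup.mem_normalizer_iff.1 (han Y hYA ht) y).1 hy
      refine Subgroup.mem_inf.2 ⟨?_, mul_mem (inv_mem hy) hty⟩
      obtain ⟨i, rfl⟩ := Subgroup.mem_zpowers_iff.1 ht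
      have hc : a ^ i * (x * y) * (a ^ i)⁻¹ = x * y := by
        rw [((show Commute (x * y) a from hz2').zpow_right i).symm.eq, mul_inv_cancel_right]
      have e : a ^ i * y * (a ^ i)⁻¹ = (a ^ i * x * (a ^ i)⁻¹)⁻¹ * x * y := by
        rw [mul_assoc _ x y]
        conv_rhs => rw [← hc]
        group
      rw [e]
      have h1 : (a ^ i * x * (a ^ i)⁻¹)⁻¹ * x ∈ X :=
        mul_mem (inv_mem ((Subgroup.mem_normalizer_iff.1 (han X hXA ht) x).1 hx)) hx
      have h2 := (Subgroup.mem_normalizer_iff.1 (hn (inv_mem hy)) _).1 h1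
      rwa [inv_inv, mul_assoc y⁻¹] at h2
    obtain ⟨c, hc, hcy⟩ := Cfsg.Agent.Solv.exists_fixed_in_coset' (Subgroup.zpowers a) Y (X ⊓ Y)
      (han Y hYA) hcop (Or.inr hYs) inf_le_right hD hy hfix
    obtain ⟨hc1, hc2⟩ := Subgroup.mem_inf.1 hc
    have hca : c * a = a * c := (Subgroup.mem_centralizer_iff.1 hc2 a (Subgroup.mem_zpowers a)).symm
    have hcθ : c ∈ θ a := hYθ a ha ha1 (Subgroup.mem_inf.2 ⟨hc1, Subgroup.mem_centralizer_singleton_iff.2 hca⟩)
    have hx' : x * y * c⁻¹ ∈ X := by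
      have h1 := (Subgroup.mem_normalizer_iff.1 (hn hy) _).1 (inv_mem (Subgroup.mem_inf.1 hcy).1)
      rw [mul_assoc]
      refine mul_mem hx ?_
      rwa [show y * (y⁻¹ * c)⁻¹ * y⁻¹ = y * c⁻¹ by group] at h1
    have hxθ : x * y * c⁻¹ ∈ θ a := hXθ a ha ha1 (Subgroup.mem_inf.2 ⟨hx', Subgroup.mem_centralizer_singleton_iff.2
      ((show Commute (x * y) a from hz2').mul_left (show Commute c a from hca).inv_left).eq⟩)
    have := mul_mem hxθ hcθ
    rwa [inv_mul_cancel_right] at this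

end Cfsg.Agent.S1280
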