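import Cfsg.Statements.S4744
import Cfsg.Agent.Lib.Char.DefectZeroProduct

set_option autoImplicit false
open Cfsg Cfsg.Agent.Char
open scoped ComplexConjugate

namespace Cfsg.Agent.S4744

/-- Let p be an odd prime and G a finite group of even order divisible by p in which the centralizer of every non-identity p-element has odd order. Then either G has an irreducible character of p-defect zero, or the normalizer of every Sylow p-subgroup P of G has even order and P is abelian. -/
theorem result {G : Type*} [Group G] [Finite G] (p : ℕ) [Fact p.Prime] (hp2 : p ≠ 2) (hpG : p ∣ Nat.card G) (h2G : 2 ∣ Nat.card G) (hC : ∀ g : G, g ≠ 1 → (∃ k : ℕ, orderOf g = p ^ k) → Odd (Nat.card ↥(Subgroup.centralizer ({g} : Set G)))) : (∃ χ : Cfsg.IrrCharacter G, (Cfsg.charDegree (χ : G → ℂ)).factorization p = (Nat.card G).factorization p) ∨ ∀ P : Sylow p G, Even (Nat.card ↥(Subgroup.normalizer ((P : Subgroup G) : Set G))) ∧ IsMulCommutative ↥(P : Subgroup G) := by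
  haveI := Fintype.ofFinite G
  haveI : Fact (Nat.Prime 2) := ⟨Nat.prime_two⟩
  obtain ⟨z, hz⟩ := exists_prime_orderOf_dvd_card' 2 h2G
  have hz1 : z ≠ 1 := fun h => by rw [h, orderOf_one] at hz; omega
  refine (pq_dichotomy (p := p) (q := 2) fun g h1 h2 hd =>
    (Nat.not_even_iff_odd.mpr (hC g h1 h2)) (even_iff_two_dvd.mpr hd)).imp_right fun h P => ?_
  obtain ⟨g, k, hg, hk, hne, hu⟩ := h z hz1 ⟨1, by rw [hz, pow_one]⟩
  have hord : ∀ w, IsConj z w → orderOf w = 2 := fun w hw => by
    obtain ⟨c, rfl⟩ := isConj_iff.mp hw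
    rw [← MulAut.conj_apply, MulEquiv.orderOf_eq, hz]
  have hinv : ∀ w, IsConj z w → w⁻¹ = w := fun w hw => inv_eq_of_mul_eq_one_right (by
    rw [← pow_two, ← hord w hw, pow_orderOf_eq_one])
  refine abelian_sylow_of_inverted hp2 hC hne hu (hord g hg) ?_ P
  rw [mul_inv_rev, inv_inv, hinv g hg, hinv k hk, ← mul_assoc g g k]
  conv_lhs => rw [show g * g = 1 by conv_lhs => arg 1; rw [← hinv g hg]
                                    exact inv_mul_cancel g, one_mul]

end Cfsg.Agent.S4744
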