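import Cfsg.Statements.S3341
import Cfsg.Agent.Lib.Solv.ThreeLocal.SixB
import Cfsg.Agent.Lib.Solv.ThreeLocal.Make
import Cfsg.Agent.Lib.Small.Order360

set_option autoImplicit false
open Cfsg

namespace Cfsg.Agent.S3341

/-- Let G be a finite simple group whose Sylow 3-subgroup S is elementary abelian of order 9, such that G has more than one conjugacy class of elements of order 3 and C_G(s) = S for every non-identity s in S. Then G is isomorphic to the alternating group of degree 6. -/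
theorem result {G : Type*} [Group G] [Finite G] [IsSimpleGroup G]
    (P : Sylow 3 G) (S : Subgroup G) (hSP : S = P) (hcomm : IsMulCommutative S) (hexp : ∀ a ∈ S, a ^ 3 = 1)
    (hcard : Nat.card S = 9)
    (hclasses : ∃ a b : G, orderOf a = 3 ∧ orderOf b = 3 ∧ ∀ g : G, g * a * g⁻¹ ≠ b)
    (hcent : ∀ s ∈ S, s ≠ 1 → Subgroup.centralizer ({s} : Set G) = S) :
    Nonempty (G ≃* alternatingGroup (Fin 6)) := by
  classical
  haveI := Fintype.ofFinite G
  have hloc : ∀ s ∈ S, s ≠ 1 → Subgroup.centralizer ({s} : Set G) ≤ Subgroup.normalizer (S : Set G) :=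
    fun s hs h1 => by rw [hcent s hs h1]; exact Subgroup.le_normalizer
  obtain ⟨X, hX⟩ := Solv.ThreeLocal.exists_ctx P hSP hcard hexp hloc
  have hsemi : ∀ v, v ≠ 0 → Subgroup.centralizer ({X.e v} : Set G) = X.S := fun v hv => by
    rw [hX]
    exact hcent _ (hX ▸ X.e_mem v) (fun e => hv (X.e_eq_one_iff.1 e))
  have hrep : ∀ a : G, orderOf a = 3 → ∃ v, v ≠ 0 ∧ IsConj a (X.e v) := by
    intro a ha
    haveI : Fact (Nat.Prime 3) := ⟨Nat.prime_three⟩
    obtain ⟨Q, hQ⟩ := (IsPGroup.of_card (n := 1) (by rw [Nat.card_zpowers, ha, pow_one] :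
      Nat.card (Subgroup.zpowers a) = 3 ^ 1)).exists_le_sylow
    obtain ⟨g, hg⟩ := MulAction.exists_smul_eq G Q P
    have hm : g * a * g⁻¹ ∈ X.S := by
      rw [hX, hSP, ← hg, Sylow.coe_subgroup_smul]
      exact ⟨a, hQ (Subgroup.mem_zpowers a), rfl⟩
    obtain ⟨v, hv⟩ := (X.mem_iff _).1 hm
    refine ⟨v, ?_, isConj_iff.2 ⟨g, hv.symm⟩⟩
    rintro rfl
    rw [X.e_zero, eq_comm, conj_eq_one_iff] at hv
    rw [hv, orderOf_one] at ha
    norm_num at ha
  have hcl : ∃ v w, v ≠ 0 ∧ w ≠ 0 ∧ ¬ IsConj (X.e v) (X.e w) := by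
    obtain ⟨a, b, ha, hb, hab⟩ := hclasses
    obtain ⟨v, hv, hav⟩ := hrep a ha
    obtain ⟨w, hw, hbw⟩ := hrep b hb
    refine ⟨v, w, hv, hw, fun h => ?_⟩
    obtain ⟨g, hg⟩ := isConj_iff.1 ((hav.trans h).trans hbw.symm)
    exact hab g hg
  have h360 : Nat.card G = 360 :=
    Solv.ThreeLocal.card_eq_360 X P (by rw [hX, hSP]) hsemi hcl
  haveI : IsSimpleGroup (alternatingGroup (Fin 6)) := alternatingGroup.isSimpleGroup (by simp)
  exact Small.Order360.iso h360 (by rw [nat_card_alternatingGroup]; simp [Nat.factorial])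

end Cfsg.Agent.S3341
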