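import Cfsg.Statements.S1190
import Cfsg.Agent.Lib.Fusion.QuasiDihedralSub

set_option autoImplicit false
open Cfsg Cfsg.Agent
open Cfsg.Agent.Fusion
open scoped commutatorElement

namespace Cfsg.Agent.S1190

/-- In a quasi-dihedral 2-group S, any two Klein four-subgroups are conjugate, and every Klein four-subgroup T satisfies C_S(T) = T and |N_S(T) : T| = 2. -/
theorem result {S : Type*} [Group S] [Finite S] (hS : Cfsg.IsQuasiDihedral S) : (∀ T₁ T₂ : Subgroup S, IsKleinFour T₁ → IsKleinFour T₂ → ∃ s : S, T₁.map (MulAut.conj s).toMonoidHom = T₂) ∧ (∀ T : Subgroup S, IsKleinFour T → Subgroup.centralizer (T : Set S) = T ∧ T.relIndex (Subgroup.normalizer (T : Set S)) = 2) := by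
  obtain ⟨n, ⟨D⟩⟩ := exists_qdData' hS
  refine ⟨fun T₁ T₂ h₁ h₂ => ?_, fun T hT => ?_⟩
  · obtain ⟨i, hi, rfl⟩ := D.four_eq h₁
    obtain ⟨k, hk, rfl⟩ := D.four_eq h₂
    obtain ⟨j, hj⟩ := D.conj_same_parity (i := i) (k := k) (hk.sub hi)
    exact ⟨D.x ^ j, by rw [QDData.map_centralizer_singleton, hj]⟩
  · obtain ⟨i, hi, rfl⟩ := D.four_eq hT
    refine ⟨le_antisymm (Subgroup.centralizer_le (Set.singleton_subset_iff.2
      (Subgroup.mem_centralizer_singleton_iff.2 rfl))) fun s hs => Subgroup.mem_centralizer_iff.2 fun t ht =>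
      congrArg Subtype.val ((IsKleinFour.isMulCommutative (G := _)).is_comm.comm ⟨t, ht⟩ ⟨s, hs⟩), D.four_relIndex⟩

end Cfsg.Agent.S1190
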