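import Cfsg.Statements.S0498
import Cfsg.Agent.Lib.Small.ProjLineRecog
import Cfsg.Agent.Lib.Small.PSL2Eleven

set_option autoImplicit false
open Cfsg

namespace Cfsg.Agent.S0498

theorem result {G : Type*} [Group G] [Finite G] [IsSimpleGroup G] (p : ℕ)
    (hp : p = 11 ∨ p = 13) (h : 2 * Nat.card G = p * (p ^ 2 - 1)) {F : Type*} [Field F] [Fintype F]
    (hF : Fintype.card F = p) : Nonempty (G ≃* Matrix.ProjectiveSpecialLinearGroup (Fin 2) F) := by
  haveI : IsSimpleGroup (Matrix.ProjectiveSpecialLinearGroup (Fin 2) F) :=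
    Matrix.ProjectiveSpecialLinearGroup.rank_two_simple (by rw [Nat.card_eq_fintype_card]; omega)
  have h2 : (2 : F) ≠ 0 := Small.SL2C.not_two_dvd_iff.1 (by rw [hF]; rcases hp with rfl | rfl <;> decide)
  have hP := Classical.Dickson.card_P2 (F := F)
  rw [Classical.Dickson.two_dvd_pred h2, hF] at hP
  have key : ∀ (q : ℕ) [Fact q.Prime] (D : Small.ProjLine.Data q),
      Nat.card G = q * ((q + 1) * D.m) →
        Nat.card (Matrix.ProjectiveSpecialLinearGroup (Fin 2) F) = q * ((q + 1) * D.m) →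
          Nonempty (G ≃* Matrix.ProjectiveSpecialLinearGroup (Fin 2) F) := by
    intro q _ D e1 e2
    obtain ⟨f1⟩ := Small.ProjLine.main D e1
    obtain ⟨f2⟩ := Small.ProjLine.main D e2
    exact ⟨f1.trans f2.symm⟩
  rcases hp with rfl | rfl
  · haveI : Fact (Nat.Prime 11) := ⟨by norm_num⟩
    exact key 11 Small.ProjLine.data11 (by show Nat.card G = 11 * ((11 + 1) * 5); omega)
      (by show Nat.card _ = 11 * ((11 + 1) * 5); omega)
  · haveI : Fact (Nat.Prime 13) := ⟨by norm_num⟩
    exact key 13 Small.ProjLine.data13 (by show Nat.card G = 13 * ((13 + 1) * 6); omega)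
      (by show Nat.card _ = 13 * ((13 + 1) * 6); omega)

end Cfsg.Agent.S0498
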