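import Cfsg.Statements.S0089
import Cfsg.Agent.Lib.Fusion.TransferSplit

set_option autoImplicit false
open Cfsg
open Cfsg.Agent.Fusion
open scoped commutatorElement

namespace Cfsg.Agent.S0089

/-- When all Sylow subgroups are abelian, the derived subgroup meets the centre trivially. -/
theorem result {G : Type*} [Group G] [Finite G] (h : ∀ p : ℕ, p.Prime → ∀ P : Sylow p G, IsMulCommutative P) : commutator G ⊓ Subgroup.center G = ⊥ := by
  rw [eq_bot_iff]
  rintro x ⟨hxG', hxZ⟩
  rw [Subgroup.mem_bot]
  by_contra hx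
  have hord : orderOf x ≠ 1 := fun h' => hx (orderOf_eq_one_iff.1 h')
  have hq : (orderOf x).minFac.Prime := Nat.minFac_prime hord
  set q := (orderOf x).minFac
  haveI := Fact.mk hq
  set y := x ^ (orderOf x / q)
  have hy : orderOf y = q := orderOf_pow_orderOf_div (orderOf_pos x).ne' (Nat.minFac_dvd _)
  obtain ⟨P, hP⟩ := (IsPGroup.of_card (p := q) (n := 1)
    (by rw [Nat.card_zpowers, hy, pow_one]) : IsPGroup q (Subgroup.zpowers y)).exists_le_sylow
  have hPc := h q hq P
  letI : CommGroup (P : Subgroup G) :=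
    { (inferInstance : Group (P : Subgroup G)) with mul_comm := hPc.is_comm.comm }
  have hyP : y ∈ (P : Subgroup G) := hP (Subgroup.mem_zpowers y)
  have h1 := transfer_central (MonoidHom.id (P : Subgroup G)) hyP (pow_mem hxZ _)
  have h2 : MonoidHom.transfer (MonoidHom.id (P : Subgroup G)) y = 1 :=
    Abelianization.commutator_subset_ker _ (pow_mem hxG' _)
  rw [h2, MonoidHom.id_apply] at h1
  have h3 := congrArg Subtype.val h1
  simp only [OneMemClass.coe_one, SubmonoidClass.coe_pow] at h3
  have h4 := orderOf_dvd_of_pow_eq_one h3.symm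
  rw [hy] at h4
  exact P.not_dvd_index h4

end Cfsg.Agent.S0089
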