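import Cfsg.Statements.S3285
import Cfsg.Agent.Lib.Lead.JankoTwoAlt.Five
import Cfsg.Agent.Lib.Lead.JankoTwoAlt.Model

set_option autoImplicit false
open Cfsg

namespace Cfsg.Agent.S3285

/-- Let G be a finite non-solvable group with no normal subgroup of index 2, and J an involution lying in the centre of a Sylow 2-subgroup of G whose centralizer is the internal direct product of ⟨J⟩ with a subgroup isomorphic to the alternating group of degree m. Then either m = 4 and G is isomorphic to the automorphism group PΓL(2, 8) of PSL(2, 8), or m = 5 and G is isomorphic to the first Janko group. -/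
theorem result {G : Type*} [Group G] [Finite G] (hns : ¬ Group.IsSolvable G) (h2 : ∀ N : Subgroup G, N.Normal → N.index ≠ 2)
    (J : G) (hJ : Cfsg.IsTwoCentralInvolution J) (m : ℕ) (T : Subgroup G)
    (hT : Nonempty (↥T ≃* ↥(alternatingGroup (Fin m))))
    (hd : Cfsg.IsInternalDirectProduct (Subgroup.zpowers J) T (Subgroup.centralizer ({J} : Set G))) :
    (m = 4 ∧ ∃ (F : Type) (_ : Field F) (_ : Fintype F), Fintype.card F = 8 ∧
        Nonempty (G ≃* MulAut (Matrix.ProjectiveSpecialLinearGroup (Fin 2) F))) ∨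
      (m = 5 ∧ Cfsg.Spor.IsoJ1 G) := by
  obtain ⟨e⟩ := hT
  obtain ⟨hJ2, P, hJP, hcen⟩ := hJ
  obtain ⟨-, hTC, hcomm, hmeet, hsup⟩ := hd
  have hJJ : J * J = 1 := by rw [← pow_two, ← hJ2]; exact pow_orderOf_eq_one J
  have hJne : J ≠ 1 := fun h => by rw [h, orderOf_one] at hJ2; omega
  have hTJ : ∀ t ∈ T, t * J = J * t := fun t ht => Subgroup.mem_centralizer_singleton_iff.1 (hTC ht)
  let D : Agent.Lead.JankoTwoAlt.Ctx G m :=
    { J := J, T := T, e := e, hJ := hJ2, P := P, hJP := hJP, hcen := hcen, comm := hTJ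
      hJT := fun h => hJne (by
        have : J ∈ Subgroup.zpowers J ⊓ T := ⟨Subgroup.mem_zpowers J, h⟩
        rwa [hmeet] at this)
      split := fun x hx => by
        have hle : T ≤ Subgroup.normalizer (Subgroup.zpowers J : Set G) := fun t ht =>
          Subgroup.centralizer_le_normalizer _ (Subgroup.mem_centralizer_iff.2 fun y hy => hcomm y hy t ht)
        have hm : x ∈ Subgroup.zpowers J ⊔ T := by
          rw [hsup]; exact Subgroup.mem_centralizer_singleton_iff.2 hx
        rw [← SetLike.mem_coe, Subgroup.coe_mul_of_right_le_normalizer_left _ _ hle] at hm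
        obtain ⟨a, ha, t, ht, rfl⟩ := hm
        obtain ⟨i, rfl⟩ := Subgroup.mem_zpowers_iff.1 ha
        have hJ2' : J ^ (2 : ℤ) = 1 := by rw [zpow_two, hJJ]
        rcases Int.even_or_odd' i with ⟨l, rfl | rfl⟩
        · exact Or.inl (by simpa only [SetLike.mem_coe, zpow_mul, hJ2', one_zpow, one_mul] using ht)
        · exact Or.inr (by simpa only [SetLike.mem_coe, zpow_add, zpow_mul, hJ2', one_zpow, one_mul, zpow_one, ← mul_assoc, hJJ] using ht)
      noTwo := h2 }
  rcases D.m_cases with rfl | rfl
  · exact Or.inl ⟨rfl, D.isoMulAut hns⟩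
  · exact Or.inr ⟨rfl, D.isoJ1⟩

end Cfsg.Agent.S3285
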