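import Cfsg.Statements.S3304
import Cfsg.Agent.Lib.Solv.GLTwoThree
import Cfsg.Agent.Lib.Solv.UniqueSub
import Cfsg.Agent.Lib.Solv.Cores
import Cfsg.Agent.Lib.Fusion.SolvableBalance
import Cfsg.Agent.Lib.Fusion.Cores
-- import your own Cfsg.Agent.* helpers here

set_option autoImplicit false
open Cfsg

namespace Cfsg.Agent.S3304

open scoped Pointwise

/-- The quaternion subgroup of `GL(2,3)`. -/
def qmat : QuaternionGroup 2 → Matrix (Fin 2) (Fin 2) (ZMod 3)
  | .a k => !![0, 2; 1, 0] ^ k.val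
  | .xa k => !![1, 1; 1, 2] * !![0, 2; 1, 0] ^ k.val

theorem qmat_facts : (∀ u v, qmat (u * v) = qmat u * qmat v) ∧ qmat 1 = 1 ∧ Function.Injective qmat ∧
    (∀ A : Matrix (Fin 2) (Fin 2) (ZMod 3), A.det ≠ 0 → ∀ u, ∃ v, A * qmat u = qmat v * A) ∧
    (∀ A : Matrix (Fin 2) (Fin 2) (ZMod 3), A.det ≠ 0 → (∀ u, A * qmat u = qmat u * A) → ∃ u, A = qmat u) ∧
    (∀ u, qmat u ≠ !![1, 0; 0, 2]) := by
  decide +kernel

theorem gl_iso {K : Type*} [Group K] [Finite K] (hK : Nat.card K = 48) (Q : Subgroup K)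
    [Q.Normal] (e : QuaternionGroup 2 ≃* Q) (hC : Subgroup.centralizer (Q : Set K) ≤ Q)
    {t : K} (ht : orderOf t = 2) (htQ : t ∉ Q) : Nonempty (K ≃* GL (Fin 2) (ZMod 3)) := by
  classical
  obtain ⟨φ, hφ⟩ := Cfsg.Agent.Perm.Fpf.QuatAut.aut_perm
  obtain ⟨e1⟩ := Solv.GL23.iso_semidirect hK Q e hC ht htQ φ hφ
  obtain ⟨hmul, hone, hinj, hnorm, hcent, hd⟩ := qmat_facts
  let f0 : QuaternionGroup 2 →* Matrix (Fin 2) (Fin 2) (ZMod 3) :=
    { toFun := qmat, map_one' := hone, map_mul' := hmul }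
  let f : QuaternionGroup 2 →* GL (Fin 2) (ZMod 3) := f0.toHomUnits
  have hf : ∀ u, ((f u : GL (Fin 2) (ZMod 3)) : Matrix (Fin 2) (Fin 2) (ZMod 3)) = qmat u := fun _ => rfl
  have hdet : ∀ g : GL (Fin 2) (ZMod 3), (g : Matrix (Fin 2) (Fin 2) (ZMod 3)).det ≠ 0 := fun g =>
    ((Matrix.isUnit_iff_isUnit_det _).1 g.isUnit).ne_zero
  have hfinj : Function.Injective f := fun a b h => hinj (by rw [← hf, ← hf, h])
  haveI hn : f.range.Normal := ⟨by
    rintro _ ⟨u, rfl⟩ g
    obtain ⟨v, hv⟩ := hnorm _ (hdet g) u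
    refine ⟨v, ?_⟩
    rw [eq_mul_inv_iff_mul_eq]
    exact Units.ext (by simp only [Units.val_mul, hf]; exact hv.symm)⟩
  let t' : GL (Fin 2) (ZMod 3) := ⟨!![1, 0; 0, 2], !![1, 0; 0, 2], by decide, by decide⟩
  haveI := Fact.mk Nat.prime_two
  have ht' : orderOf t' = 2 := orderOf_eq_prime (Units.ext (by decide))
    (fun h => absurd (congrArg Units.val h) (by decide))
  obtain ⟨e2⟩ := Solv.GL23.iso_semidirect (K := GL (Fin 2) (ZMod 3)) (t := t')
    (by
      rw [Matrix.card_GL_field, Fin.prod_univ_two, ZMod.card]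
      decide)
    f.range (MonoidHom.ofInjective hfinj)
    (fun g hg => by
      obtain ⟨u, hu⟩ := hcent _ (hdet g) (fun u => by
        have := Subgroup.mem_centralizer_iff.1 hg (f u) ⟨u, rfl⟩
        have h2 := congrArg Units.val this
        simp only [Units.val_mul, hf] at h2
        exact h2.symm)
      exact ⟨u, Units.ext hu.symm⟩)
    ht'
    (by
      rintro ⟨u, hu⟩
      exact hd u (congrArg Units.val hu))
    φ hφ
  exact ⟨e1.symm.trans e2⟩

theorem card_perm_four : Nat.card (Equiv.Perm (Fin 4)) = 24 := by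
  rw [Nat.card_perm, Nat.card_fin]; rfl

/-- The classification of the quotient. -/
theorem core {H : Type*} [Group H] [Finite H] (hs : Group.IsSolvable H) (hO : Cfsg.oddCore H = ⊥)
    (hI : ∀ S T : Sylow 2 H, S ≠ T → ∀ A : Subgroup H, A ≤ (S : Subgroup H) → A ≤ (T : Subgroup H) →
      IsMulCommutative A → (∀ a ∈ A, a ^ 2 = 1) → A ≤ Cfsg.pCore 2 H → Nat.card A ≤ 2) :
    (∃ P : Sylow 2 H, (P : Subgroup H).Normal) ∨ Nonempty (H ≃* GL (Fin 2) (ZMod 3)) ∨
    (Nat.card H = 48 ∧ Nat.card ↥(Subgroup.center H) = 2 ∧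
      Nonempty (H ⧸ Subgroup.center H ≃* Equiv.Perm (Fin 4)) ∧
      ∀ P : Sylow 2 H, Nonempty (↥(P : Subgroup H) ≃* QuaternionGroup 4)) := by
  classical
  haveI := Fact.mk Nat.prime_two
  by_cases hclosed : ∃ P : Sylow 2 H, (P : Subgroup H).Normal
  · exact Or.inl hclosed
  obtain ⟨Q, hQ⟩ : ∃ Q, Q = Cfsg.pCore 2 H := ⟨_, rfl⟩
  haveI hQn : Q.Normal := hQ ▸ Solv.pCore_normal 2
  have hQp : IsPGroup 2 Q := hQ ▸ Solv.pCore_isPGroup 2
  have hC : Subgroup.centralizer (Q : Set H) ≤ Q := by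
    rw [hQ]; exact Fusion.centralizer_pCore_le_of_solvable hs hO
  have hQS : ∀ S : Sylow 2 H, Q ≤ (S : Subgroup H) := fun S => hQp.le_sylow_of_normal S
  obtain ⟨S, T, hST⟩ : ∃ S T : Sylow 2 H, S ≠ T := by
    by_contra hcon
    push Not at hcon
    haveI : Subsingleton (Sylow 2 H) := ⟨hcon⟩
    exact hclosed ⟨default, Sylow.normal_of_subsingleton _⟩
  -- `H` is not a two-group
  have hnot2 : ¬ IsPGroup 2 H := fun h2 => hclosed ⟨default, by
    rw [show ((default : Sylow 2 H) : Subgroup H) = ⊤ from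
      ((default : Sylow 2 H).3 (h2.to_subgroup ⊤) le_top).symm]
    infer_instance⟩
  -- odd elements act faithfully
  let c : H →* MulAut Q := MulAut.conjNormal
  have hcker : ∀ g, c g = 1 → g ∈ Q := fun g hg => hC (Subgroup.mem_centralizer_iff.2 fun q hq => by
    have h1 := congrArg Subtype.val (MulEquiv.congr_fun hg ⟨q, hq⟩)
    rw [MulAut.conjNormal_apply] at h1
    exact (mul_inv_eq_iff_eq_mul.1 h1).symm)
  obtain ⟨g3, q3, hq3, hq32, hg3⟩ : ∃ (g : H) (r : ℕ), r.Prime ∧ r ≠ 2 ∧ orderOf g = r := by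
    by_contra hcon
    push Not at hcon
    refine hnot2 (IsPGroup.of_card (n := (Nat.card H).factorization 2) ?_)
    refine Nat.eq_pow_of_factorization_eq_single Nat.card_pos.ne' (Finsupp.ext fun r => ?_)
    by_cases hr : r = 2
    · subst hr; simp
    · rw [Finsupp.single_eq_of_ne hr]
      by_contra hne
      have hrp := Nat.prime_of_mem_primeFactors (Finsupp.mem_support_iff.2 hne)
      haveI := Fact.mk hrp
      obtain ⟨g, hg⟩ := exists_prime_orderOf_dvd_card' r (Nat.dvd_of_factorization_pos hne)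
      exact hcon g r hrp hr hg
  have hmove : c g3 ≠ 1 := fun h => by
    obtain ⟨k, hk⟩ := hQp ⟨g3, hcker g3 h⟩
    have h1 : orderOf g3 ∣ 2 ^ k := orderOf_dvd_of_pow_eq_one (congrArg Subtype.val hk)
    rw [hg3] at h1
    exact hq32 ((Nat.prime_dvd_prime_iff_eq hq3 Nat.prime_two).1 (hq3.dvd_of_dvd_pow h1))
  have hodd3 : Odd q3 := hq3.odd_of_ne_two hq32
  have hc3 : c g3 ^ q3 = 1 := by rw [← map_pow, ← hg3, pow_orderOf_eq_one, map_one]
  -- unique involution
  have hu : Solv.UniqueOrderP 2 Q := by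
    haveI : Nontrivial Q := by
      by_contra hnt
      rw [not_nontrivial_iff_subsingleton] at hnt
      exact hmove (MulEquiv.ext fun x => Subsingleton.elim _ _)
    obtain ⟨z, hz⟩ : ∃ z : Subgroup.center Q, z ≠ 1 := by
      haveI := hQp.center_nontrivial
      exact exists_ne 1
    obtain ⟨z', hz'⟩ := exists_prime_orderOf_dvd_card' (G := Subgroup.center Q) 2 (by
      obtain ⟨k, hk⟩ := (hQp.to_subgroup (Subgroup.center Q)).exists_card_eq
      rw [hk]
      refine dvd_pow_self 2 ?_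
      rintro rfl
      rw [pow_zero] at hk
      haveI := (Nat.card_eq_one_iff_unique.1 hk).1
      exact hz (Subsingleton.elim _ _))
    set z0 : Q := (z' : Q) with hz0
    have hz0o : orderOf z0 = 2 := by rw [hz0, Subgroup.orderOf_coe, hz']
    have hz02 : z0 ^ 2 = 1 := by rw [← hz0o, pow_orderOf_eq_one]
    have hz01 : z0 ≠ 1 := fun h => by rw [h, orderOf_one] at hz0o; omega
    have key : ∀ x : Q, x ^ 2 = 1 → x = 1 ∨ x = z0 := by
      intro x hx
      by_contra hcon
      push Not at hcon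
      have hxz : x * z0 = z0 * x := (Subgroup.mem_center_iff.1 z'.2 x)
      obtain ⟨A, hA⟩ : ∃ A, A = Subgroup.closure ({(x : H), (z0 : H)} : Set H) := ⟨_, rfl⟩
      have hcm : IsMulCommutative A := by
        rw [hA]
        refine Subgroup.isMulCommutative_closure ?_
        have hxz' : (x : H) * z0 = z0 * x := congrArg Subtype.val hxz
        rintro a (rfl | rfl) b (rfl | rfl) <;> first | rfl | exact hxz' | exact hxz'.symm
      have hA2 : ∀ a ∈ A, a ^ 2 = 1 := by
        intro a ha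
        have hsub : A ≤ A := le_rfl
        have h := hA ▸ ha
        induction h using Subgroup.closure_induction with
        | mem y hy =>
          rcases hy with rfl | rfl
          · exact congrArg Subtype.val hx
          · exact congrArg Subtype.val hz02
        | one => exact one_pow 2
        | mul a b ha' hb' iha ihb =>
          have hab : Commute a b := congrArg Subtype.val
            (hcm.is_comm.comm ⟨a, hA ▸ ha'⟩ ⟨b, hA ▸ hb'⟩)
          rw [hab.mul_pow, iha (hA ▸ ha'), ihb (hA ▸ hb'), one_mul]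
        | inv a ha' iha => rw [inv_pow, iha (hA ▸ ha'), inv_one]
      have hAQ : A ≤ Q := by
        rw [hA, Subgroup.closure_le]
        rintro a (rfl | rfl)
        · exact x.2
        · exact z0.2
      have h2 := hI S T hST A (hAQ.trans (hQS S)) (hAQ.trans (hQS T)) hcm hA2 (hQ ▸ hAQ)
      have hxA : (x : H) ∈ A := hA ▸ Subgroup.subset_closure (by simp)
      have hzA : (z0 : H) ∈ A := hA ▸ Subgroup.subset_closure (by simp)
      have h3 : ({1, (x : H), (z0 : H)} : Set H) ⊆ A := by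
        rintro a (rfl | rfl | rfl)
        · exact one_mem A
        · exact hxA
        · exact hzA
      have h4 := Set.ncard_le_ncard h3 (Set.toFinite _)
      rw [Set.ncard_eq_three.2 ⟨(1 : H), (x : H), (z0 : H), fun h => hcon.1 (Subtype.ext h.symm),
        fun h => hz01 (Subtype.ext h.symm), fun h => hcon.2 (Subtype.ext h), rfl⟩, ← Nat.card_coe_set_eq,
        SetLike.coe_sort_coe] at h4
      omega
    intro x y hx hy hy1
    rcases key x hx with h | h
    · rw [h]; exact one_mem _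
    · rw [h, (key y hy).resolve_left hy1]; exact Subgroup.mem_zpowers _
  rcases Solv.cyclic_or_quaternion hQp hu with hcyc | ⟨-, j, ⟨e⟩⟩
  · exact absurd (Cfsg.Agent.Perm.Fpf.QuatAut.eq_one_of_odd_cyclic hQp hodd3 hc3) hmove
  haveI : NeZero (2 ^ j) := ⟨pow_ne_zero _ two_ne_zero⟩
  have hQQ : IsPGroup 2 (QuaternionGroup (2 ^ j)) := hQp.of_equiv e
  obtain rfl : j = 1 := by
    by_contra hj
    rcases Nat.eq_zero_or_pos j with rfl | hj0
    · haveI : IsCyclic (QuaternionGroup (2 ^ 0)) := by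
        rw [pow_zero]; exact QuaternionGroup.quaternionGroup_one_isCyclic
      haveI : IsCyclic Q := e.isCyclic.2 inferInstance
      exact hmove (Cfsg.Agent.Perm.Fpf.QuatAut.eq_one_of_odd_cyclic hQp hodd3 hc3)
    · have h3 : 3 ≤ 2 ^ j := le_trans (by norm_num) (Nat.pow_le_pow_right two_pos (show 2 ≤ j by omega))
      have := Cfsg.Agent.Perm.Fpf.QuatAut.eq_one_of_odd_big h3 hQQ (f := MulAut.congr e (c g3)) hodd3
        (by rw [← map_pow, hc3, map_one])
      exact hmove ((MulAut.congr e).injective (this.trans (map_one _).symm))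
  obtain ⟨e'⟩ : Nonempty (QuaternionGroup 2 ≃* Q) := ⟨e.symm⟩
  have hQ8 : Nat.card Q = 8 := by
    rw [← Nat.card_congr e'.toEquiv, Nat.card_eq_fintype_card, QuaternionGroup.card]
  obtain ⟨φ, hφ⟩ := Cfsg.Agent.Perm.Fpf.QuatAut.aut_perm
  obtain ⟨ψ, hψdef⟩ : ∃ ψ : H →* Equiv.Perm (Fin 4), ψ = φ.comp ((MulAut.congr e'.symm).toMonoidHom.comp c) :=
    ⟨_, rfl⟩
  have hψ1 : ∀ g, ψ g = 1 ↔ c g = 1 := fun g => by
    rw [hψdef]
    show φ (MulAut.congr e'.symm (c g)) = 1 ↔ _
    constructor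
    · intro h
      exact (MulAut.congr e'.symm).injective (((injective_iff_map_eq_one φ).1 hφ _ h).trans (map_one _).symm)
    · intro h; rw [h, map_one, map_one]
  have hker : ψ.ker = Subgroup.centralizer (Q : Set H) := by
    ext g
    rw [MonoidHom.mem_ker, hψ1, Subgroup.mem_centralizer_iff]
    constructor
    · intro h q hq
      have h1 := congrArg Subtype.val (MulEquiv.congr_fun h ⟨q, hq⟩)
      rw [MulAut.conjNormal_apply] at h1
      exact (mul_inv_eq_iff_eq_mul.1 h1).symm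
    · intro h
      refine MulEquiv.ext fun q => Subtype.ext ?_
      rw [MulAut.one_apply, MulAut.conjNormal_apply, ← h _ q.2, mul_inv_cancel_right]
  have hZQ : ψ.ker = (Subgroup.center Q).map Q.subtype := by
    rw [hker]
    ext g
    constructor
    · intro hg
      refine ⟨⟨g, hC hg⟩, Subgroup.mem_center_iff.2 fun q => Subtype.ext ?_, rfl⟩
      exact Subgroup.mem_centralizer_iff.1 hg _ q.2
    · rintro ⟨q, hq, rfl⟩
      refine Subgroup.mem_centralizer_iff.2 fun r hr => ?_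
      exact congrArg Subtype.val (Subgroup.mem_center_iff.1 hq ⟨r, hr⟩)
  have hker2 : Nat.card ψ.ker = 2 := by
    rw [hZQ, Subgroup.card_map_of_injective Q.subtype_injective, ← Solv.GL23.center_card]
    exact (Nat.card_congr (Subgroup.centerCongr e').toEquiv).symm
  have hprod : Nat.card H = Nat.card ψ.range * 2 := by
    rw [← hker2, ← Nat.card_congr (QuotientGroup.quotientKerEquivRange ψ).toEquiv]
    exact ψ.ker.card_eq_card_quotient_mul_card_subgroup
  have hrdvd : Nat.card ψ.range ∣ 24 := card_perm_four ▸ Subgroup.card_subgroup_dvd_card _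
  have h8 : 8 ∣ Nat.card H := hQ8 ▸ Subgroup.card_subgroup_dvd_card Q
  have h3H : q3 ∣ Nat.card H := hg3 ▸ orderOf_dvd_natCard g3
  have h24 : Nat.card H ≠ 24 := by
    intro h
    refine hclosed ⟨Sylow.ofCard Q ?_, ?_⟩
    · rw [hQ8, h, show (24 : ℕ) = 2 ^ 3 * 3 by rfl, Nat.factorization_mul (by norm_num) (by norm_num),
        Finsupp.add_apply, Nat.Prime.factorization_pow Nat.prime_two, Finsupp.single_eq_same,
        Nat.factorization_eq_zero_of_not_dvd (by norm_num : ¬ 2 ∣ 3)]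
      rfl
    · exact hQn
  have hr24 : Nat.card ψ.range = 24 := by
    have hle := Nat.le_of_dvd (by norm_num) hrdvd
    have hnot8 : ∀ k, Nat.card H ≠ 2 ^ k := fun k hk => hnot2 (IsPGroup.of_card hk)
    have h8' := hnot8 3
    have h16 := hnot8 4
    have h32 := hnot8 5
    rw [hprod] at h8 h24 h8' h16 h32
    interval_cases hn : Nat.card ψ.range <;> omega
  have hH : Nat.card H = 48 := by rw [hprod, hr24]
  have hsurj : Function.Surjective ψ := by
    rw [← MonoidHom.range_eq_top]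
    exact Subgroup.eq_top_of_card_eq _ (by rw [hr24, card_perm_four])
  right
  by_cases ht : ∃ t : H, orderOf t = 2 ∧ t ∉ Q
  · obtain ⟨t, ht2, htQ⟩ := ht
    exact Or.inl (gl_iso hH Q e' hC ht2 htQ)
  push Not at ht
  right
  have hcen : Subgroup.center H = ψ.ker := by
    refine le_antisymm (fun g hg => ?_) ?_
    · rw [hker]
      exact Subgroup.mem_centralizer_iff.2 fun q _ => Subgroup.mem_center_iff.1 hg q
    · intro g hg
      obtain ⟨u, v, -, huv⟩ := Nat.card_eq_two_iff.1 hker2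
      rw [Subgroup.mem_center_iff]
      intro k
      by_cases hg1 : g = 1
      · rw [hg1, mul_one, one_mul]
      have hmem : k * g * k⁻¹ ∈ ψ.ker := (MonoidHom.normal_ker ψ).conj_mem g hg k
      have hall : ∀ w w' : ψ.ker, w ≠ 1 → w' ≠ 1 → w = w' := by
        intro w w' hw hw'
        have h1' : (1 : ψ.ker) = u ∨ (1 : ψ.ker) = v := by
          have := huv.symm ▸ Set.mem_univ (1 : ψ.ker); simpa using this
        have hw1 : w = u ∨ w = v := by have := huv.symm ▸ Set.mem_univ w; simpa using this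
        have hw1' : w' = u ∨ w' = v := by have := huv.symm ▸ Set.mem_univ w'; simpa using this
        rcases h1' with h | h <;> rcases hw1 with h' | h' <;> rcases hw1' with h'' | h'' <;>
          simp_all
      have := congrArg Subtype.val (hall ⟨_, hmem⟩ ⟨_, hg⟩
        (fun e1 => hg1 (conj_eq_one_iff.1 (congrArg Subtype.val e1))) (fun e1 => hg1 (congrArg Subtype.val e1)))
      exact mul_inv_eq_iff_eq_mul.1 this
  refine ⟨hH, by rw [hcen]; exact hker2, ⟨(QuotientGroup.quotientMulEquivOfEq hcen).trans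
    (QuotientGroup.quotientKerEquivOfSurjective ψ hsurj)⟩, fun P => ?_⟩
  have hP : Nat.card (P : Subgroup H) = 16 := by
    rw [P.card_eq_multiplicity, hH, show (48 : ℕ) = 2 ^ 4 * 3 by rfl,
      Nat.factorization_mul (by norm_num) (by norm_num), Finsupp.add_apply,
      Nat.Prime.factorization_pow Nat.prime_two, Finsupp.single_eq_same,
      Nat.factorization_eq_zero_of_not_dvd (by norm_num : ¬ 2 ∣ 3)]
    rfl
  have huP : Solv.UniqueOrderP 2 (P : Subgroup H) := by
    intro x y hx hy hy1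
    by_cases hx1 : x = 1
    · rw [hx1]; exact one_mem _
    have hxo : orderOf (x : H) = 2 := by
      rw [Subgroup.orderOf_coe]; exact orderOf_eq_prime hx hx1
    have hyo : orderOf (y : H) = 2 := by
      rw [Subgroup.orderOf_coe]; exact orderOf_eq_prime hy hy1
    have hxQ := ht _ hxo
    have hyQ := ht _ hyo
    obtain ⟨k, hk⟩ := hu ⟨_, hxQ⟩ ⟨_, hyQ⟩
      (Subtype.ext (show (x : H) ^ 2 = 1 by rw [← SubmonoidClass.coe_pow, hx]; rfl))
      (Subtype.ext (show (y : H) ^ 2 = 1 by rw [← SubmonoidClass.coe_pow, hy]; rfl)) (fun h => hy1 (Subtype.ext (congrArg (fun w : Q => (w : H)) h)))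
    exact ⟨k, Subtype.ext (congrArg (fun w : Q => (w : H)) hk)⟩
  rcases Solv.cyclic_or_quaternion P.2 huP with hcP | ⟨-, k, ⟨eP⟩⟩
  · exfalso
    haveI := hcP
    haveI : IsCyclic Q := isCyclic_of_injective (Subgroup.inclusion (hQS P)) (Subgroup.inclusion_injective _)
    exact hmove (Cfsg.Agent.Perm.Fpf.QuatAut.eq_one_of_odd_cyclic hQp hodd3 hc3)
  · haveI : NeZero (2 ^ k) := ⟨pow_ne_zero _ two_ne_zero⟩
    rw [Nat.card_congr eP.toEquiv, Nat.card_eq_fintype_card, QuaternionGroup.card] at hP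
    have hk : 2 ^ k = 4 := by omega
    obtain rfl : k = 2 := Nat.pow_right_injective le_rfl (hk.trans (by norm_num : (4 : ℕ) = 2 ^ 2))
    exact ⟨eP⟩

/-- Let G be a finite solvable group in which the intersection of any two distinct Sylow 2-subgroups has 2-rank at most 1 (contains no Klein four-group). Write Q = G/O(G), O(G) the largest normal subgroup of odd order. Then Q has a normal Sylow 2-subgroup; or Q is isomorphic to GL(2,3); or Q has order 48, centre of order 2 with central quotient isomorphic to the symmetric group of degree 4, and generalized quaternion Sylow 2-subgroups of order 16 (the binary octahedral group). The last two are the two representation groups of the symmetric group of degree 4. -/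
theorem result {G : Type*} [Group G] [Finite G] (hs : Group.IsSolvable G)
    (hI : ∀ S T : Sylow 2 G, S ≠ T → Cfsg.PRankLE 2 1 ↥((S : Subgroup G) ⊓ (T : Subgroup G))) :
    (∃ P : Sylow 2 (G ⧸ Cfsg.oddCore G), (P : Subgroup (G ⧸ Cfsg.oddCore G)).Normal) ∨
    Nonempty ((G ⧸ Cfsg.oddCore G) ≃* GL (Fin 2) (ZMod 3)) ∨
    (Nat.card (G ⧸ Cfsg.oddCore G) = 48 ∧ Nat.card ↥(Subgroup.center (G ⧸ Cfsg.oddCore G)) = 2 ∧
      Nonempty ((G ⧸ Cfsg.oddCore G) ⧸ Subgroup.center (G ⧸ Cfsg.oddCore G) ≃* Equiv.Perm (Fin 4)) ∧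
      ∀ P : Sylow 2 (G ⧸ Cfsg.oddCore G), Nonempty (↥(P : Subgroup (G ⧸ Cfsg.oddCore G)) ≃* QuaternionGroup 4)) := by
  classical
  haveI := Fact.mk Nat.prime_two
  haveI hOn : (Cfsg.oddCore G).Normal := Cfsg.pPrimeCore_normal 2 G
  haveI : Group.IsSolvable (G ⧸ Cfsg.oddCore G) :=
    Group.isSolvable_of_surjective (QuotientGroup.mk'_surjective (Cfsg.oddCore G))
  refine core inferInstance Fusion.pPrimeCore_quotient_eq_bot ?_
  intro S' T' hne A hAS hAT hAc hA2 _
  set π := QuotientGroup.mk' (Cfsg.oddCore G) with hπ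
  have hπs : Function.Surjective π := QuotientGroup.mk'_surjective _
  obtain ⟨S, hS⟩ := Sylow.mapSurjective_surjective hπs 2 S'
  have hSmap : (S : Subgroup G).map π = (S' : Subgroup (G ⧸ Cfsg.oddCore G)) := by
    rw [← hS, Sylow.coe_mapSurjective]
  have hinjS : ∀ s ∈ (S : Subgroup G), π s = 1 → s = 1 := by
    intro s hs h1
    obtain ⟨k, hk⟩ := S.2 ⟨s, hs⟩
    have hs' : s ∈ Cfsg.oddCore G := (QuotientGroup.eq_one_iff s).1 h1
    exact orderOf_eq_one_iff.1 (Nat.eq_one_of_dvd_coprimes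
      ((Solv.pPrimeCore_coprime (G := G) 2).pow_right k) (Subgroup.orderOf_dvd_natCard _ hs')
      (orderOf_dvd_of_pow_eq_one (congrArg Subtype.val hk)))
  obtain ⟨A0, hA0⟩ : ∃ A0, A0 = (S : Subgroup G) ⊓ A.comap π := ⟨_, rfl⟩
  have hA0map : A0.map π = A := by
    refine le_antisymm (Subgroup.map_le_iff_le_comap.2 (hA0 ▸ inf_le_right)) fun a ha => ?_
    obtain ⟨s, hs, rfl⟩ : a ∈ (S : Subgroup G).map π := hSmap ▸ hAS ha
    exact ⟨s, hA0 ▸ ⟨hs, ha⟩, rfl⟩
  have hA0S : A0 ≤ (S : Subgroup G) := hA0 ▸ inf_le_left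
  have hA0inj : ∀ a ∈ A0, π a = 1 → a = 1 := fun a ha => hinjS a (hA0S ha)
  have hA0c : IsMulCommutative A0 := ⟨⟨fun a b => Subtype.ext (by
    have ha : π a ∈ A := hA0map ▸ Subgroup.mem_map_of_mem π a.2
    have hb : π b ∈ A := hA0map ▸ Subgroup.mem_map_of_mem π b.2
    have hab : π a * π b = π b * π a := congrArg Subtype.val (hAc.is_comm.comm ⟨_, ha⟩ ⟨_, hb⟩)
    have h1 := hA0inj _ (mul_mem (mul_mem a.2 b.2) (inv_mem (mul_mem b.2 a.2)))
      (by rw [map_mul, map_inv, map_mul, map_mul, hab, mul_inv_cancel])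
    exact mul_inv_eq_one.1 h1)⟩⟩
  have hA02 : ∀ a ∈ A0, a ^ 2 = 1 := fun a ha => hA0inj _ (pow_mem ha 2)
    (by rw [map_pow]; exact hA2 _ (hA0map ▸ Subgroup.mem_map_of_mem π ha))
  -- a Sylow subgroup over `T'` containing `A0`
  obtain ⟨X, hX⟩ : ∃ X, X = (T' : Subgroup (G ⧸ Cfsg.oddCore G)).comap π := ⟨_, rfl⟩
  have hA0X : A0 ≤ X := fun a ha => by
    rw [hX, Subgroup.mem_comap]
    exact hAT (hA0map ▸ Subgroup.mem_map_of_mem π ha)
  obtain ⟨T1, hT1⟩ := ((S.2.to_le hA0S).comap_subtype (K := X)).exists_le_sylow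
  let f : X →* (T' : Subgroup (G ⧸ Cfsg.oddCore G)) :=
    (π.comp X.subtype).codRestrict _ (fun x => by
      have : (x : G) ∈ (T' : Subgroup (G ⧸ Cfsg.oddCore G)).comap π := hX ▸ x.2
      exact this)
  have hfs : Function.Surjective f := fun y => by
    obtain ⟨g, hg⟩ := hπs y
    exact ⟨⟨g, by rw [hX, Subgroup.mem_comap, hg]; exact y.2⟩, Subtype.ext hg⟩
  have htop : ((T1 : Subgroup X).map f) = ⊤ := by
    have h1 := ((T1.mapSurjective hfs).3 ((T'.2).to_subgroup ⊤) le_top).symm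
    rwa [Sylow.coe_mapSurjective] at h1
  obtain ⟨T, hT⟩ := (T1.2.map X.subtype).exists_le_sylow
  have hTmap : (T' : Subgroup (G ⧸ Cfsg.oddCore G)) ≤ (T : Subgroup G).map π := by
    intro y hy
    obtain ⟨x, hx, hxy⟩ : (⟨y, hy⟩ : (T' : Subgroup (G ⧸ Cfsg.oddCore G))) ∈ (T1 : Subgroup X).map f :=
      htop ▸ Subgroup.mem_top _
    exact ⟨(x : G), hT ⟨x, hx, rfl⟩, congrArg Subtype.val hxy⟩
  have hne' : S ≠ T := by
    rintro rfl
    refine hne (Sylow.ext ?_)
    exact T'.3 S'.2 (hSmap ▸ hTmap)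
  have hA0T : A0 ≤ (T : Subgroup G) := fun a ha => hT ⟨⟨a, hA0X ha⟩, hT1 ha, rfl⟩
  have hle := hI S T hne' (A0.subgroupOf ((S : Subgroup G) ⊓ (T : Subgroup G)))
    ⟨⟨fun a b => by
      apply Subtype.ext
      apply Subtype.ext
      exact congrArg (fun w : A0 => (w : G)) (hA0c.is_comm.comm ⟨_, a.2⟩ ⟨_, b.2⟩)⟩⟩
    (fun a ha => Subtype.ext (hA02 _ ha))
  rw [Nat.card_congr (Subgroup.subgroupOfEquivOfLe (le_inf hA0S hA0T)).toEquiv, pow_one] at hle
  rw [← hA0map]
  exact le_trans (le_of_eq (Nat.card_congr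
    (Equiv.ofBijective (fun a : A0 => (⟨π a, Subgroup.mem_map_of_mem π a.2⟩ : A0.map π))
      ⟨fun a b h => Subtype.ext (mul_inv_eq_one.1 (hA0inj _ (mul_mem a.2 (inv_mem b.2))
        (by rw [map_mul, map_inv, show π a = π b from congrArg Subtype.val h, mul_inv_cancel]))),
       fun y => by obtain ⟨a, ha, he⟩ := y.2; exact ⟨⟨a, ha⟩, Subtype.ext he⟩⟩)).symm) hle

end Cfsg.Agent.S3304
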