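import Cfsg.Statements.S2751
import Cfsg.Agent.Lib.Solv.Amalgam.SymThree
import Cfsg.Agent.Lib.LocalEven.Amalgam33.Final

set_option autoImplicit false
open Cfsg

namespace Cfsg.Agent.S2751

open Cfsg.Agent.Solv.Amalgam

/-- Goldschmidt's bound for amalgams of index (3, 3): let M₁ and M₂ be finite subgroups of a group G such that M₁ ⊓ M₂ is a Sylow 2-subgroup of both M₁ and M₂, each quotient Mᵢ / O₂(Mᵢ) is isomorphic to the symmetric group of degree 3, and no nontrivial subgroup of M₁ ⊓ M₂ is normal in both M₁ and M₂. Then M₁ ⊓ M₂ has order at most 2^7. -/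
theorem result {G : Type*} [Group G] (M₁ M₂ : Subgroup G) [Finite M₁] [Finite M₂] (ha₁ : ∃ P : Sylow 2 M₁, (P : Subgroup M₁) = (M₁ ⊓ M₂).subgroupOf M₁) (ha₂ : ∃ P : Sylow 2 M₂, (P : Subgroup M₂) = (M₁ ⊓ M₂).subgroupOf M₂) (hb₁ : Nonempty (M₁ ⧸ Cfsg.pCore 2 M₁ ≃* Equiv.Perm (Fin 3))) (hb₂ : Nonempty (M₂ ⧸ Cfsg.pCore 2 M₂ ≃* Equiv.Perm (Fin 3))) (hc : ∀ N : Subgroup G, N ≤ M₁ ⊓ M₂ → (N.subgroupOf M₁).Normal → (N.subgroupOf M₂).Normal → N = ⊥) : Nat.card ↥(M₁ ⊓ M₂) ≤ 2 ^ 7 := by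
  classical
  haveI : Fact (Nat.Prime 2) := ⟨Nat.prime_two⟩
  set T := M₁ ⊓ M₂ with hT
  haveI : Finite T := Finite.of_injective _ (Subgroup.inclusion_injective (inf_le_left : T ≤ M₁))
  let P : Bool → Subgroup G := fun i => cond i M₂ M₁
  haveI hfin : ∀ i, Finite ↥(P i) := fun i => by cases i <;> assumption
  have hTP : ∀ i, T ≤ P i := fun i => by cases i; exacts [inf_le_left, inf_le_right]
  have hS : ∀ i, ∃ S : Sylow 2 (P i), (S : Subgroup (P i)) = T.subgroupOf (P i) := fun i => by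
    cases i; exacts [ha₁, ha₂]
  have he : ∀ i, Nonempty (↥(P i) ⧸ Cfsg.pCore 2 ↥(P i) ≃* Equiv.Perm (Fin 3)) := fun i => by
    cases i; exacts [hb₁, hb₂]
  have hp : IsPGroup 2 T := by
    obtain ⟨S, hS⟩ := hS false
    have := S.2
    rw [hS] at this
    exact this.of_equiv (Subgroup.subgroupOfEquivOfLe (hTP false))
  obtain ⟨e3⟩ := dihThree_iso
  have hidx : ∀ i, ¬ 2 ∣ T.relIndex (P i) := fun i => by
    obtain ⟨S, hS⟩ := hS i
    have := S.not_dvd_index
    rwa [hS] at this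
  have hdih : ∀ i, Dih (P i) T ((Cfsg.pCore 2 ↥(P i)).map (P i).subtype) := fun i => by
    obtain ⟨e⟩ := he i
    exact dih_of_iso (P i) T (hTP i) hp (hidx i) (n := 3) (by norm_num) (e.trans e3)
  have hfaith : ∀ N : Subgroup G, N ≤ T → (∀ i, ∀ g ∈ P i, ∀ n ∈ N, g * n * g⁻¹ ∈ N) → N = ⊥ :=
    fun N hN hn => hc N hN ⟨fun n hn' g => hn false g g.2 n hn'⟩ ⟨fun n hn' g => hn true g g.2 n hn'⟩
  by_cases hne : (Cfsg.pCore 2 ↥(P false)).map (P false).subtype = (Cfsg.pCore 2 ↥(P true)).map (P true).subtype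
  · have hbot := hfaith _ (hdih false).Q_le fun i g hg n hn => by
      have key : ∀ i, ∀ n ∈ (Cfsg.pCore 2 ↥(P i)).map (P i).subtype, ∀ g ∈ P i,
          g * n * g⁻¹ ∈ (Cfsg.pCore 2 ↥(P i)).map (P i).subtype := fun i n hn g hg =>
        (Subgroup.mem_normalizer_iff.1 ((hdih i).norm hg) n).1 hn
      cases i
      · exact key false n hn g hg
      · rw [hne] at hn ⊢
        exact key true n hn g hg
    have h2 := card_eq_two_mul (hdih false).Q_le (hdih false).proper (hdih false).two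
    rw [hbot, Subgroup.card_bot] at h2
    omega
  let X : Data G :=
    { P := P
      Q := fun i => (Cfsg.pCore 2 ↥(P i)).map (P i).subtype
      T := T
      fin := inferInstance
      finP := hfin
      pgroup := hp
      dih := hdih
      ne := hne
      faithful := hfaith }
  have h3 : X.Three := by
    intro i
    obtain ⟨e⟩ := he i
    have h1 : Nat.card ↥(P i) = _ := Subgroup.card_eq_card_quotient_mul_card_subgroup (Cfsg.pCore 2 ↥(P i))
    rw [Nat.card_congr e.toEquiv, Nat.card_perm, Nat.card_fin] at h1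
    have hQc : Nat.card ↥((Cfsg.pCore 2 ↥(P i)).map (P i).subtype) = Nat.card ↥(Cfsg.pCore 2 ↥(P i)) :=
      (Nat.card_congr (Subgroup.equivMapOfInjective _ (P i).subtype (P i).subtype_injective).toEquiv).symm
    have h2 : Nat.card T = 2 * Nat.card ↥(Cfsg.pCore 2 ↥(P i)) := by
      rw [← hQc]
      exact card_eq_two_mul (hdih i).Q_le (hdih i).proper (hdih i).two
    have h6 := (T.subgroupOf (P i)).card_mul_index
    rw [Nat.card_congr (Subgroup.subgroupOfEquivOfLe (hTP i)).toEquiv, h1, h2] at h6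
    simp only [Nat.factorial] at h6
    show (T.subgroupOf (P i)).index = 3
    exact Nat.eq_of_mul_eq_mul_left
      (show 0 < 2 * Nat.card ↥(Cfsg.pCore 2 ↥(P i)) from Nat.mul_pos two_pos Nat.card_pos)
      (h6.trans (by ring))
  exact (Cfsg.Agent.LocalEven.Amalgam33.bound (X := X) h3).trans (by norm_num)

end Cfsg.Agent.S2751
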