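import Cfsg.Statements.S3743
import Cfsg.Agent.Lib.Solv.Subnormal

set_option autoImplicit false
open Cfsg

open scoped Pointwise commutatorElement

namespace Cfsg.Agent.S3743

theorem pi_le_aux : ∀ (n : ℕ) (G : Type _) [Group G] [Finite G], Nat.card G = n →
    ∀ A : Subgroup G, A.IsSubnormal → ∀ π : Set ℕ,
      (∀ p : ℕ, p.Prime → p ∣ Nat.card A → p ∈ π) → A ≤ Cfsg.piCore π G := by
  intro n
  induction n using Nat.strong_induction_on with
  | _ n ih =>
    intro G _ _ hn A hA π hπ
    subst hn
    by_cases hAt : A = ⊤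
    · subst hAt; exact le_sSup ⟨inferInstance, hπ⟩
    obtain ⟨K, hKn, hAK, hKt⟩ := hA.exists_normal_and_le_and_lt_top_of_ne hAt
    have h := ih _ (Solv.card_lt_of_ne_top hKt.ne) K rfl (A.subgroupOf K)
      (Solv.isSubnormal_subgroupOf hA) π (fun p hp hd => hπ p hp (Solv.card_subgroupOf hAK ▸ hd))
    have hchar : (Cfsg.piCore π K).Characteristic := by
      refine Subgroup.characteristic_iff_map_le.2 fun e => ?_
      rw [Subgroup.map_le_iff_le_comap]
      refine sSup_le fun N hN => ?_
      rw [← Subgroup.map_le_iff_le_comap]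
      exact le_sSup ⟨hN.1.map _ e.surjective, fun p hp hd => hN.2 p hp
        (by rwa [Subgroup.card_map_of_injective e.injective] at hd)⟩
    obtain ⟨M, -, hM⟩ := Finite.exists_le_maximal
      (p := fun N : Subgroup K => N.Normal ∧ ∀ p : ℕ, p.Prime → p ∣ Nat.card N → p ∈ π) (a := ⊥)
      ⟨inferInstance, fun p hp hd => absurd (Nat.dvd_one.1 (by simpa using hd)) hp.ne_one⟩
    have hcore : Cfsg.piCore π K = M := by
      refine le_antisymm (sSup_le fun N hN => ?_) (le_sSup hM.1)
      have := hM.1.1; have := hN.1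
      exact le_sup_right.trans (hM.2 ⟨inferInstance, fun p hp hd => by
        rcases hp.dvd_mul.1 (hd.trans (Solv.card_sup_dvd M N)) with h | h
        exacts [hM.1.2 p hp h, hN.2 p hp h]⟩ le_sup_left)
    have hn' : ((Cfsg.piCore π K).map K.subtype).Normal := inferInstance
    rw [← Subgroup.map_subgroupOf_eq_of_le hAK]
    refine (Subgroup.map_mono h).trans (le_sSup ⟨hn', fun p hp hd => ?_⟩)
    rw [Solv.card_map_subtype, hcore] at hd
    exact hM.1.2 p hp hd

theorem pi_le (G : Type _) [Group G] [Finite G] (A : Subgroup G) (hA : A.IsSubnormal) (π : Set ℕ)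
    (hπ : ∀ p : ℕ, p.Prime → p ∣ Nat.card A → p ∈ π) : A ≤ Cfsg.piCore π G :=
  pi_le_aux _ G rfl A hA π hπ

/-- In a finite group G, every subnormal nilpotent subgroup lies in the Fitting subgroup F(G), and, for a set of primes π, every subnormal subgroup all of whose prime divisors lie in π lies in O_π(G). -/
theorem result {G : Type*} [Group G] [Finite G] (A : Subgroup G) (hA : A.IsSubnormal) : (Group.IsNilpotent A → A ≤ Cfsg.fittingSubgroup G) ∧ ∀ π : Set ℕ, (∀ p : ℕ, p.Prime → p ∣ Nat.card A → p ∈ π) → A ≤ Cfsg.piCore π G := by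
  refine ⟨fun hn => Solv.subnormal_nilpotent_le_fitting hA hn, ?_⟩
  intro π hπ
  exact pi_le G A hA π hπ

end Cfsg.Agent.S3743
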