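import Cfsg.Statements.S0252
import Cfsg.Agent.Lib.Small.SL2.Orders
import Cfsg.Agent.Lib.Classical.AltFiveIso

set_option autoImplicit false
open Cfsg

namespace Cfsg.Agent.S0252

open Cfsg.Agent.Classical Cfsg.Agent.Small in
theorem main {F : Type*} [Field F] [Fintype F] (hF : Fintype.card F = 4) :
    Nonempty (Matrix.ProjectiveSpecialLinearGroup (Fin 2) F ≃* alternatingGroup (Fin 5)) := by
  have h4 : 4 ≤ Nat.card F := by rw [Nat.card_eq_fintype_card, hF]
  have hG : IsSimpleGroup (Matrix.ProjectiveSpecialLinearGroup (Fin 2) F) :=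
    Matrix.ProjectiveSpecialLinearGroup.rank_two_simple h4
  have h2 : (2 : F) = 0 := SL2C.two_dvd_iff.mp (by rw [hF]; norm_num)
  have hP : Nat.card (Matrix.ProjectiveSpecialLinearGroup (Fin 2) F) = 60 := by
    have h := Subgroup.card_eq_card_quotient_mul_card_subgroup
      (Subgroup.center (Matrix.SpecialLinearGroup (Fin 2) F))
    rw [SL2C.card_SL2, hF, SL2C.center_card_even h2, mul_one] at h
    simpa using h.symm
  have hX : Nat.card (Projectivization F (Fin 2 → F)) = 5 := by
    rw [Projectivization.card_of_finrank_two F _ (by simp), Nat.card_eq_fintype_card, hF]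
  refine nonempty_equiv_alt_five hG hP hX ?_
  by_contra! hall
  obtain ⟨g, hg⟩ : ∃ g : Matrix.ProjectiveSpecialLinearGroup (Fin 2) F, g ≠ 1 := exists_ne 1
  exact hg (eq_of_smul_eq_smul (α := Projectivization F (Fin 2 → F)) fun x => by rw [hall g x, one_smul])

/-- PSL_2(4) is isomorphic to A_5. -/
theorem result {F : Type*} [Field F] [Fintype F] (hF : Fintype.card F = 4) : Nonempty (Matrix.ProjectiveSpecialLinearGroup (Fin 2) F ≃* alternatingGroup (Fin 5)) := by
  exact main hF

end Cfsg.Agent.S0252
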