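import Cfsg.Statements.S0058
import Cfsg.Agent.Lib.Solv.Generation

set_option autoImplicit false
open Cfsg

open scoped Pointwise commutatorElement

namespace Cfsg.Agent.S0058

/-- Generation by centralisers: when a noncyclic abelian group A normalises K with coprime orders, K is generated by the fixed-point subgroups of the nonidentity elements of A. -/
theorem result {G : Type*} [Group G] [Finite G] (A K : Subgroup G)
    [IsMulCommutative A] (hA : ¬ IsCyclic A) (hAK : A ≤ Subgroup.normalizer (K : Set G)) (hcop : (Nat.card A).Coprime (Nat.card K)) :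
    (⨆ a ∈ {a : G | a ∈ A ∧ a ≠ 1}, K ⊓ Subgroup.centralizer {a}) = K := by
  refine le_antisymm (iSup₂_le fun a _ => inf_le_left) ?_
  refine (Solv.gen_eq A K ‹_› hAK hcop).ge.trans (iSup₂_le fun B hB => ?_)
  obtain ⟨hBA, a, ha, hsup⟩ := hB
  have hBb : B ≠ ⊥ := by
    rintro rfl
    rw [bot_sup_eq] at hsup
    exact hA (hsup ▸ (inferInstance : IsCyclic (Subgroup.zpowers a)))
  obtain ⟨⟨b, hb⟩, hb1⟩ := Subgroup.ne_bot_iff_exists_ne_one.1 hBb
  refine le_iSup_of_le b (le_iSup_of_le ⟨hBA hb, fun e => hb1 (Subtype.ext e)⟩ ?_)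
  exact inf_le_inf_left _ (Subgroup.centralizer_le (Set.singleton_subset_iff.2 hb))

end Cfsg.Agent.S0058
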