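import Cfsg.Statements.S2758
import Cfsg.Agent.Lib.Fusion.Sections
import Cfsg.Agent.Lib.Fusion.Basic

set_option autoImplicit false
open Cfsg

namespace Cfsg.Agent.S2758

theorem result {G : Type*} [Group G] [Finite G] {p : ℕ} [Fact p.Prime] (hp : p ≠ 2) : (Cfsg.Involves (DihedralGroup p) G ↔ ∃ (x : G) (P : Subgroup G), (∃ k : ℕ, orderOf x = 2 ^ k) ∧ IsPGroup p ↥P ∧ x ∈ Subgroup.normalizer (P : Set G) ∧ x ∉ Subgroup.centralizer (P : Set G)) ∧ (Cfsg.Involves (DihedralGroup p) G ↔ ∃ x y : G, (∃ k : ℕ, orderOf x = 2 ^ k) ∧ (∃ k : ℕ, orderOf y = p ^ k) ∧ y ≠ 1 ∧ x * y * x⁻¹ = y⁻¹) := by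
  classical
  have hpP : p.Prime := Fact.out
  haveI : NeZero p := ⟨hpP.ne_zero⟩
  have hr1 : (DihedralGroup.r 1 : DihedralGroup p) * DihedralGroup.r 1 ≠ 1 := by
    rw [DihedralGroup.r_mul_r, DihedralGroup.one_def, ne_eq, DihedralGroup.r.injEq, one_add_one_eq_two]
    intro h
    have h2 : ((2 : ℕ) : ZMod p) = 0 := by simpa using h
    rw [ZMod.natCast_eq_zero_iff] at h2
    exact hp ((Nat.prime_dvd_prime_iff_eq hpP Nat.prime_two).1 h2)
  -- from the section to `(x, P)`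
  have hA : Involves (DihedralGroup p) G → ∃ (x : G) (P : Subgroup G), (∃ k : ℕ, orderOf x = 2 ^ k) ∧
      IsPGroup p ↥P ∧ x ∈ Subgroup.normalizer (P : Set G) ∧ x ∉ Subgroup.centralizer (P : Set G) := by
    intro h
    obtain ⟨K, f, hf⟩ := Fusion.involves_exists_surjective h
    set C : Subgroup (DihedralGroup p) := Subgroup.zpowers (DihedralGroup.r 1)
    haveI : C.Normal := Subgroup.normal_of_index_eq_two (by
      have h1 := C.card_mul_index
      rw [Nat.card_zpowers, DihedralGroup.orderOf_r_one, DihedralGroup.nat_card, mul_comm 2 p] at h1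
      exact mul_left_cancel₀ hpP.ne_zero h1)
    set N : Subgroup ↥K := C.comap f
    haveI : N.Normal := inferInstance
    obtain ⟨P⟩ : Nonempty (Sylow p ↥N) := inferInstance
    set P₀ : Subgroup ↥K := (P : Subgroup ↥N).map N.subtype
    have hfr := Sylow.normalizer_sup_eq_top P
    have hsr : (DihedralGroup.sr 0 : DihedralGroup p) ∉ C := by
      rintro ⟨i, hi⟩
      simp [DihedralGroup.r_one_zpow] at hi
    obtain ⟨m, hm, hfm⟩ : ∃ m ∈ Subgroup.normalizer (P₀ : Set ↥K), f m ∉ C := by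
      by_contra! hno
      obtain ⟨k, hk⟩ := hf (DihedralGroup.sr 0)
      have h1 : k ∈ Subgroup.normalizer (P₀ : Set ↥K) ⊔ N := hfr ▸ Subgroup.mem_top k
      have h2 : Subgroup.normalizer (P₀ : Set ↥K) ⊔ N ≤ N := sup_le hno le_rfl
      exact hsr (hk ▸ h2 h1)
    obtain ⟨i, hmi⟩ : ∃ i, f m = DihedralGroup.sr i := by
      rcases hfm' : f m with i | i
      · exact absurd (hfm' ▸ ⟨i.val, by simp [DihedralGroup.r_one_pow]⟩ : f m ∈ C) hfm
      · exact ⟨i, rfl⟩
    -- the `2`-part of `m`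
    obtain ⟨k, o, ho, hko⟩ := Nat.exists_eq_two_pow_mul_odd (orderOf_pos m).ne'
    have hfx : f (m ^ o) = DihedralGroup.sr i := by
      obtain ⟨j, rfl⟩ := ho
      rw [map_pow, hmi, pow_succ, pow_mul, pow_two, DihedralGroup.sr_mul_self, one_pow, one_mul]
    -- a generator of the rotations in the image of `P`
    obtain ⟨z, hz, hfz⟩ : ∃ z ∈ P₀, f z = DihedralGroup.r 1 := by
      let fN : ↥N →* ↥C := (f.comp N.subtype).codRestrict C fun a => a.2
      have hfN : Function.Surjective fN := by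
        rintro ⟨c, hc⟩
        obtain ⟨a, rfl⟩ := hf c
        exact ⟨⟨a, hc⟩, rfl⟩
      have h1 : IsPGroup p ↥C := IsPGroup.of_card (n := 1) (by
        rw [Nat.card_zpowers, DihedralGroup.orderOf_r_one, pow_one])
      have h2 : ((P.mapSurjective hfN : Sylow p ↥C) : Subgroup ↥C) = ⊤ :=
        ((P.mapSurjective hfN).3 (Q := ⊤) (h1.of_equiv Subgroup.topEquiv.symm) le_top).symm
      obtain ⟨a, ha, hae⟩ : (⟨_, Subgroup.mem_zpowers _⟩ : ↥C) ∈ (P : Subgroup ↥N).map fN := by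
        rw [← Sylow.coe_mapSurjective hfN P, h2]; trivial
      exact ⟨a, ⟨a, ha, rfl⟩, congrArg Subtype.val hae⟩
    refine ⟨((m ^ o : ↥K) : G), P₀.map K.subtype, ⟨k, ?_⟩, (P.isPGroup'.map _).map _,
      Subgroup.le_normalizer_map K.subtype ⟨m ^ o, pow_mem hm o, rfl⟩, fun hc => ?_⟩
    · rw [Subgroup.orderOf_coe, orderOf_pow, hko, Nat.gcd_eq_right (dvd_mul_left o _),
        Nat.mul_div_cancel _ ho.pos]
    · have h1 := Subgroup.mem_centralizer_iff.1 hc _ ⟨z, hz, rfl⟩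
      have h2 : f z * f (m ^ o) = f (m ^ o) * f z := by
        rw [← map_mul, ← map_mul]
        exact congrArg f (Subtype.ext h1)
      rw [hfz, hfx, DihedralGroup.r_mul_sr, DihedralGroup.sr_mul_r, DihedralGroup.sr.injEq] at h2
      apply hr1
      rw [DihedralGroup.r_mul_r, DihedralGroup.one_def, DihedralGroup.r.injEq]
      linear_combination -h2
  -- from `(x, P)` to `(x, y)`
  have hB : (∃ (x : G) (P : Subgroup G), (∃ k : ℕ, orderOf x = 2 ^ k) ∧ IsPGroup p ↥P ∧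
      x ∈ Subgroup.normalizer (P : Set G) ∧ x ∉ Subgroup.centralizer (P : Set G)) →
      ∃ x y : G, (∃ k : ℕ, orderOf x = 2 ^ k) ∧ (∃ k : ℕ, orderOf y = p ^ k) ∧ y ≠ 1 ∧
        x * y * x⁻¹ = y⁻¹ := by
    rintro ⟨x, P, ⟨k, hk⟩, hP, hxn, hxc⟩
    have hex : ∃ j, x ^ 2 ^ j ∈ Subgroup.centralizer (P : Set G) :=
      ⟨k, by rw [← hk, pow_orderOf_eq_one]; exact one_mem _⟩
    obtain ⟨j, hj⟩ : ∃ j, Nat.find hex = j + 1 := by
      refine Nat.exists_eq_add_one.2 (Nat.pos_of_ne_zero fun h0 => hxc ?_)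
      have := Nat.find_spec hex
      rwa [h0, pow_zero, pow_one] at this
    have h2 : x ^ 2 ^ (j + 1) ∈ Subgroup.centralizer (P : Set G) := hj ▸ Nat.find_spec hex
    set a := x ^ 2 ^ j with ha
    have hac : a ∉ Subgroup.centralizer (P : Set G) := Nat.find_min hex (by omega)
    have haa : a * a ∈ Subgroup.centralizer (P : Set G) := by
      rwa [ha, ← pow_add, ← two_mul, ← pow_succ']
    obtain ⟨w, hw, hwa⟩ : ∃ w ∈ P, w * a ≠ a * w := by
      by_contra! hno
      exact hac (Subgroup.mem_centralizer_iff.2 hno)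
    have han : a ∈ Subgroup.normalizer (P : Set G) := pow_mem hxn _
    set y := w⁻¹ * (a * w * a⁻¹) with hy
    have hyP : y ∈ P := mul_mem (inv_mem hw) ((Subgroup.mem_normalizer_iff.1 han w).1 hw)
    obtain ⟨i, hi⟩ := IsPGroup.iff_orderOf.1 hP ⟨y, hyP⟩
    rw [Subgroup.orderOf_mk] at hi
    refine ⟨a, y, ?_, ⟨i, hi⟩, fun h1 => hwa ?_, ?_⟩
    · obtain ⟨m, -, hm⟩ := (Nat.dvd_prime_pow Nat.prime_two).1 (hk ▸ orderOf_pow_dvd (2 ^ j))
      exact ⟨m, hm⟩
    · rw [hy, inv_mul_eq_one] at h1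
      rw [eq_mul_inv_iff_mul_eq] at h1
      exact h1
    · have hw2 : a * (a * w * a⁻¹) * a⁻¹ = w := by
        have h3 := Subgroup.mem_centralizer_iff.1 haa w hw
        calc a * (a * w * a⁻¹) * a⁻¹ = a * a * w * (a * a)⁻¹ := by group
          _ = w * (a * a) * (a * a)⁻¹ := by rw [h3]
          _ = w := by group
      calc a * y * a⁻¹ = (a * w * a⁻¹)⁻¹ * (a * (a * w * a⁻¹) * a⁻¹) := by rw [hy]; group
        _ = (a * w * a⁻¹)⁻¹ * w := by rw [hw2]
        _ = y⁻¹ := by rw [hy]; group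
  -- from `(x, y)` to the section
  have hC : (∃ x y : G, (∃ k : ℕ, orderOf x = 2 ^ k) ∧ (∃ k : ℕ, orderOf y = p ^ k) ∧ y ≠ 1 ∧
      x * y * x⁻¹ = y⁻¹) → Involves (DihedralGroup p) G := by
    rintro ⟨x, y', ⟨k, hk⟩, ⟨l', hl'⟩, hy', hxy'⟩
    obtain ⟨l, rfl⟩ : ∃ l, l' = l + 1 := Nat.exists_eq_add_one.2 (Nat.pos_of_ne_zero fun h0 =>
      hy' (orderOf_eq_one_iff.1 (by rw [hl', h0, pow_zero])))
    set y := y' ^ p ^ l with hy
    have hyo : orderOf y = p := by
      rw [hy, orderOf_pow' _ (pow_ne_zero _ hpP.ne_zero), hl', Nat.gcd_eq_right (pow_dvd_pow p l.le_succ),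
        Nat.pow_div l.le_succ hpP.pos, Nat.succ_eq_add_one, Nat.add_sub_cancel_left, pow_one]
    have hxy : x * y * x⁻¹ = y⁻¹ := by rw [hy, ← conj_pow, hxy', inv_pow]
    obtain ⟨k, rfl⟩ : ∃ j, k = j + 1 := Nat.exists_eq_add_one.2 (Nat.pos_of_ne_zero fun h0 => by
      rw [h0, pow_zero, orderOf_eq_one_iff] at hk
      rw [hk, one_mul, inv_one, mul_one, eq_inv_iff_mul_eq_one] at hxy
      have h3 : orderOf y ∣ 2 := orderOf_dvd_of_pow_eq_one (by rw [pow_two, hxy])
      rw [hyo] at h3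
      exact hp ((Nat.prime_dvd_prime_iff_eq hpP Nat.prime_two).1 h3))
    set Y : G × DihedralGroup p := (y, DihedralGroup.r 1)
    set X : G × DihedralGroup p := (x, DihedralGroup.sr 0)
    have hn : Subgroup.zpowers X ≤ Subgroup.normalizer (Subgroup.zpowers Y : Set (G × DihedralGroup p)) := by
      rw [Subgroup.zpowers_le]
      apply Fusion.mem_normalizer_of_cj_le
      rw [Fusion.cj, MonoidHom.map_zpowers, Subgroup.zpowers_le,
        show (MulAut.conj X).toMonoidHom Y = Y⁻¹ from Prod.ext hxy (by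
          show DihedralGroup.sr 0 * DihedralGroup.r 1 * (DihedralGroup.sr 0)⁻¹ = (DihedralGroup.r 1)⁻¹
          simp)]
      exact inv_mem (Subgroup.mem_zpowers Y)
    set Γ : Subgroup (G × DihedralGroup p) := Subgroup.zpowers Y ⊔ Subgroup.zpowers X
    have hinj : ∀ g ∈ Γ, g.1 = 1 → g.2 = 1 := by
      intro g hg h1
      rw [← SetLike.mem_coe, Subgroup.coe_mul_of_right_le_normalizer_left _ _ hn] at hg
      obtain ⟨_, ⟨i, rfl⟩, _, ⟨j, rfl⟩, rfl⟩ := hg
      have h2 : y ^ i * x ^ j = 1 := h1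
      have h3 : y ^ i = 1 := by
        rw [← Subgroup.mem_bot, ← Subgroup.inf_eq_bot_of_coprime
          (show (Nat.card (Subgroup.zpowers y)).Coprime (Nat.card (Subgroup.zpowers x)) by
            rw [Nat.card_zpowers, Nat.card_zpowers, hyo, hk]
            exact Nat.Coprime.pow_right _ ((Nat.coprime_primes hpP Nat.prime_two).2 hp))]
        refine Subgroup.mem_inf.2 ⟨⟨i, rfl⟩, ?_⟩
        rw [eq_inv_of_mul_eq_one_left h2]
        exact inv_mem ⟨j, rfl⟩
      rw [h3, one_mul] at h2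
      have h4 := orderOf_dvd_iff_zpow_eq_one.2 h3
      have h5 := orderOf_dvd_iff_zpow_eq_one.2 h2
      rw [hyo] at h4
      rw [hk] at h5
      show (DihedralGroup.r 1 : DihedralGroup p) ^ i * (DihedralGroup.sr 0) ^ j = 1
      rw [orderOf_dvd_iff_zpow_eq_one.1 (by rwa [DihedralGroup.orderOf_r_one]),
        orderOf_dvd_iff_zpow_eq_one.1 (by
          rw [DihedralGroup.orderOf_sr]
          exact dvd_trans (by rw [Nat.cast_pow]; exact dvd_pow_self _ k.succ_ne_zero) h5), one_mul]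
    let F₁ : ↥Γ →* G := (MonoidHom.fst G (DihedralGroup p)).comp Γ.subtype
    let F₂ : ↥Γ →* DihedralGroup p := (MonoidHom.snd G (DihedralGroup p)).comp Γ.subtype
    have hF₁ : Function.Injective F₁ := by
      rw [← MonoidHom.ker_eq_bot_iff, eq_bot_iff]
      intro g hg
      exact Subgroup.mem_bot.2 (Subtype.ext (Prod.ext hg (hinj g g.2 hg)))
    have hF₂ : Function.Surjective F₂ := by
      rw [← MonoidHom.range_eq_top, eq_top_iff]
      have hr : (DihedralGroup.r 1 : DihedralGroup p) ∈ F₂.range :=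
        ⟨⟨Y, Subgroup.mem_sup_left (Subgroup.mem_zpowers Y)⟩, rfl⟩
      have hs : (DihedralGroup.sr 0 : DihedralGroup p) ∈ F₂.range :=
        ⟨⟨X, Subgroup.mem_sup_right (Subgroup.mem_zpowers X)⟩, rfl⟩
      rintro (i | i) -
      · have := pow_mem hr i.val
        simpa using this
      · have := mul_mem hs (pow_mem hr i.val)
        simpa using this
    exact Fusion.involves_of_surjective (F₂.comp (MonoidHom.ofInjective hF₁).symm.toMonoidHom)
      (hF₂.comp (MulEquiv.surjective _))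
  exact ⟨⟨hA, fun h => hC (hB h)⟩, ⟨fun h => hB (hA h), hC⟩⟩

end Cfsg.Agent.S2758
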