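import Cfsg.Statements.S4774
import Cfsg.Agent.Lib.Char.PSL2Degrees

set_option autoImplicit false
open Cfsg
open scoped ComplexConjugate

namespace Cfsg.Agent.S4774

/-- Let F be a finite field of odd characteristic t with q > 5 elements and let S be isomorphic to PSL(2,F) or to SL(2,F). Then the vertices of the character degree graph of S are the primes dividing q(q²−1); the prime t is adjacent to no vertex; two distinct primes dividing q² − 1 are adjacent exactly when one of them is 2, or both divide q + 1, or both divide q − 1. -/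
theorem result (F : Type*) [Field F] [Fintype F] (t : ℕ) [Fact t.Prime] [CharP F t] (ht : t ≠ 2) (q : ℕ) (hq : Fintype.card F = q) (h5 : 5 < q) {S : Type*} [Group S] [Finite S] (hS : Nonempty (S ≃* Matrix.ProjectiveSpecialLinearGroup (Fin 2) F) ∨ Nonempty (S ≃* Matrix.SpecialLinearGroup (Fin 2) F)) : Cfsg.degreePrimes S = {r : ℕ | r.Prime ∧ r ∣ q * (q ^ 2 - 1)} ∧ ∀ r s : ℕ, (Cfsg.degreeGraph S).Adj r s ↔ (r ≠ s ∧ r.Prime ∧ s.Prime ∧ r ∣ q ^ 2 - 1 ∧ s ∣ q ^ 2 - 1 ∧ (r = 2 ∨ s = 2 ∨ (r ∣ q + 1 ∧ s ∣ q + 1) ∨ (r ∣ q - 1 ∧ s ∣ q - 1))) := by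
  subst hq
  obtain ⟨k, -, hk⟩ := FiniteField.card F t
  obtain ⟨hD, h0, hp, hm⟩ := Cfsg.Agent.Char.PSL2Deg.degrees (by omega) (by omega) hS
  obtain ⟨hV, hA⟩ := Cfsg.Agent.Char.PSL2Deg.graph ⟨_, hk⟩ (by omega) hD h0 hp hm
  refine ⟨hV, fun r s => ?_⟩
  rw [hA]
  have ht2 : t % 2 = 1 := (Fact.out : t.Prime).eq_two_or_odd.resolve_left ht
  have hodd : Fintype.card F % 2 = 1 := by
    rw [hk, Nat.pow_mod, ht2, one_pow, Nat.one_mod]
  have hsq : Fintype.card F ^ 2 - 1 = (Fintype.card F + 1) * (Fintype.card F - 1) := by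
    rw [← one_pow 2, Nat.sq_sub_sq, one_pow]
  have h2a : 2 ∣ Fintype.card F + 1 := by omega
  have h2b : 2 ∣ Fintype.card F - 1 := by omega
  rw [hsq]
  constructor
  · rintro ⟨h1, h2, h3, h | h⟩
    · exact ⟨h1, h2, h3, dvd_mul_of_dvd_left h.1 _, dvd_mul_of_dvd_left h.2 _, by tauto⟩
    · exact ⟨h1, h2, h3, dvd_mul_of_dvd_right h.1 _, dvd_mul_of_dvd_right h.2 _, by tauto⟩
  · rintro ⟨h1, h2, h3, hr, hs, h | h | h⟩
    · subst h
      refine ⟨h1, h2, h3, ?_⟩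
      rcases h3.dvd_mul.mp hs with h | h
      · exact Or.inl ⟨h2a, h⟩
      · exact Or.inr ⟨h2b, h⟩
    · subst h
      refine ⟨h1, h2, h3, ?_⟩
      rcases h2.dvd_mul.mp hr with h | h
      · exact Or.inl ⟨h, h2a⟩
      · exact Or.inr ⟨h, h2b⟩
    · exact ⟨h1, h2, h3, h⟩

end Cfsg.Agent.S4774
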