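import Cfsg.Statements.S4134
import Cfsg.Agent.Lib.Perm.CoprimeClassSizes

set_option autoImplicit false
open Cfsg
open scoped Pointwise

namespace Cfsg.Agent.S4134

open Cfsg.Agent.Perm.CoprimeSizes

variable {G : Type*} [Group G] [Finite G] {n : ℕ}

/-- All noncentral classes have size `n`. -/
def Two (G : Type*) [Group G] (n : ℕ) : Prop := ∀ g : G, cls g = 1 ∨ cls g = n

theorem Two.cls_eq (h : Two G n) {a : G} (ha : a ∉ Subgroup.center G) : cls a = n :=
  (h a).resolve_left fun e => ha (cls_eq_one_iff.1 e)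

theorem Two.eq_of_le (h : Two G n) {a b : G} (ha : a ∉ Subgroup.center G) (hb : b ∉ Subgroup.center G)
    (hle : cent a ≤ cent b) : cent b = cent a :=
  cent_eq_of_le hle ((h.cls_eq hb).trans (h.cls_eq ha).symm)

theorem Two.eq_of_coprime (h : Two G n) {a b : G} (ha : a ∉ Subgroup.center G)
    (hb : b ∉ Subgroup.center G) (hab : a * b = b * a) (hco : (orderOf a).Coprime (orderOf b)) :
    cent a = cent b := by
  have hc := cent_mul_of_coprime hab hco
  have hne : a * b ∉ Subgroup.center G := fun hz => ha (cls_eq_one_iff.1 (Nat.eq_one_of_dvd_one (by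
    rw [← cls_eq_one_iff.2 hz]; exact Subgroup.index_dvd_of_le (hc.le.trans inf_le_left))))
  rw [h.eq_of_le hne ha (hc.le.trans inf_le_left), h.eq_of_le hne hb (hc.le.trans inf_le_right)]

/-- The common relative index of the centre in the noncentral centralizers. -/
theorem Two.relIndex_eq (h : Two G n) (hn : 0 < n) {a b : G} (ha : a ∉ Subgroup.center G)
    (hb : b ∉ Subgroup.center G) :
    (Subgroup.center G).relIndex (cent a) = (Subgroup.center G).relIndex (cent b) := by
  refine Nat.eq_of_mul_eq_mul_right hn ?_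
  have e1 := Subgroup.relIndex_mul_index (center_le_cent a)
  have e2 := Subgroup.relIndex_mul_index (center_le_cent b)
  rw [show (cent a).index = n from h.cls_eq ha] at e1
  rw [show (cent b).index = n from h.cls_eq hb] at e2
  exact e1.trans e2.symm

theorem exists_order_mod {H : Subgroup G} {r : ℕ} (hr : r.Prime)
    (hd : r ∣ (Subgroup.center G).relIndex H) :
    ∃ a ∈ H, (∃ k, orderOf a = r ^ k) ∧ a ∉ Subgroup.center G := by
  haveI := Fact.mk hr
  obtain ⟨P⟩ := (inferInstance : Nonempty (Sylow r H))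
  by_contra! hcon
  refine P.not_dvd_index (hd.trans (Subgroup.index_dvd_of_le fun a ha => ?_))
  obtain ⟨k, hk⟩ := IsPGroup.iff_orderOf.1 P.isPGroup' ⟨a, ha⟩
  rw [Subgroup.orderOf_mk] at hk
  exact hcon _ a.2 ⟨k, by show orderOf (a : G) = _; rw [Subgroup.orderOf_coe, hk]⟩

theorem dvd_relIndex_of_mem {H : Subgroup G} {r : ℕ} [Fact r.Prime] {a : G} (haH : a ∈ H)
    (hak : ∃ k, orderOf a = r ^ k) (haZ : a ∉ Subgroup.center G) :
    r ∣ (Subgroup.center G).relIndex H := by
  obtain ⟨k, hk⟩ := hak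
  by_contra hd
  refine haZ ?_
  have h3 := Subgroup.pow_index_mem ((Subgroup.center G).subgroupOf H) ⟨a, haH⟩
  have hco : ((Subgroup.center G).relIndex H).Coprime (orderOf (⟨a, haH⟩ : H)) := by
    rw [Subgroup.orderOf_mk, hk]
    exact ((Fact.out : r.Prime).coprime_iff_not_dvd.2 hd).symm.pow_right k
  obtain ⟨i, hi⟩ := exists_pow_eq_self_of_coprime hco
  have h4 := pow_mem h3 i
  rw [show ((Subgroup.center G).subgroupOf H).index = (Subgroup.center G).relIndex H from rfl, hi] at h4
  exact h4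

/-- In the mixed case all centralizers are abelian. -/
theorem Two.abelian (h : Two G n) (hn : 0 < n) {a : G} (ha : a ∉ Subgroup.center G)
    (hc : ¬ IsPrimePow ((Subgroup.center G).relIndex (cent a))) {x : G} (hx : x ∉ Subgroup.center G) :
    ∀ u ∈ cent x, ∀ v ∈ cent x, u * v = v * u := by
  obtain ⟨p, hp, b, hb, ⟨k, hk⟩, hbZ⟩ := exists_noncentral_part hx
  haveI := Fact.mk hp
  have hbx : cent b = cent x := h.eq_of_le hx hbZ (cent_le_of_mem_zpowers hb)
  have hc' : ¬ IsPrimePow ((Subgroup.center G).relIndex (cent b)) := h.relIndex_eq hn ha hbZ ▸ hc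
  -- a second prime
  obtain ⟨r, hr, hrp, hrd⟩ : ∃ r : ℕ, r.Prime ∧ r ≠ p ∧ r ∣ (Subgroup.center G).relIndex (cent b) := by
    have hpd : p ∣ (Subgroup.center G).relIndex (cent b) := dvd_relIndex_of_mem (self_mem_cent b) ⟨k, hk⟩ hbZ
    by_contra! hcon
    refine hc' ((isPrimePow_iff_unique_prime_dvd).2 ⟨p, ⟨hp, hpd⟩, fun r hr => ?_⟩)
    by_contra hne
    exact hcon r hr.1 hne hr.2
  haveI := Fact.mk hr
  obtain ⟨w, hw, ⟨j, hj⟩, hwZ⟩ := exists_order_mod hr hrd
  have hwb : cent w = cent b := h.eq_of_coprime hwZ hbZ (mem_cent.1 hw)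
    (by rw [hj, hk]; exact ((Nat.coprime_primes hr hp).2 hrp).pow j k)
  have hcen : ∀ e ∈ cent b, cent b ≤ cent e := by
    intro e he
    obtain ⟨e1, e2, he1, he2, he12, ⟨i, hi⟩, hco⟩ := Solv.exists_ppart p e
    have h1 : cent b ≤ cent e1 := by
      by_cases hz : e1 ∈ Subgroup.center G
      · exact fun g _ => mem_cent.2 (Subgroup.mem_center_iff.1 hz g)
      rw [← hwb]
      exact (h.eq_of_coprime hwZ hz (mem_cent.1 (hwb.symm ▸ mem_of_zpowers_mem he he1 : e1 ∈ cent w)).symm
        (by rw [hj, hi]; exact ((Nat.coprime_primes hr hp).2 hrp).pow j i)).le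
    have h2 : cent b ≤ cent e2 := by
      by_cases hz : e2 ∈ Subgroup.center G
      · exact fun g _ => mem_cent.2 (Subgroup.mem_center_iff.1 hz g)
      exact (h.eq_of_coprime hbZ hz (mem_cent.1 (mem_of_zpowers_mem he he2)).symm
        (by rw [hk]; exact (hco.pow_right k).symm)).le
    intro g hg
    rw [← he12]
    exact mem_cent.2 ((show Commute g e1 from mem_cent.1 (h1 hg)).mul_right (mem_cent.1 (h2 hg))).eq
  intro u hu v hv
  rw [← hbx] at hu hv
  exact mem_cent.1 (hcen v hv hu)

/-- Centralizers of noncentral elements partition the noncentral elements. -/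
theorem Two.mixed (h : Two G n) (hn : 1 < n) (hex : ∃ x : G, cls x = n)
    (hc : ∀ a : G, a ∉ Subgroup.center G → ¬ IsPrimePow ((Subgroup.center G).relIndex (cent a))) :
    False := by
  classical
  set Z := Subgroup.center G
  obtain ⟨x0, hx0⟩ := hex
  have hx0Z : x0 ∉ Z := fun hz => by have := cls_eq_one_iff.2 hz; omega
  have hab : ∀ {x : G}, x ∉ Z → ∀ u ∈ cent x, ∀ v ∈ cent x, u * v = v * u :=
    fun {x} hx => h.abelian (by omega) hx0Z (hc x0 hx0Z) hx
  have same : ∀ {a b : G}, a ∉ Z → b ∉ Z → b ∈ cent a → cent b = cent a := fun {a b} ha hb hba =>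
    h.eq_of_le ha hb fun g hg => mem_cent.2 (hab ha g hg b hba)
  set c := Z.relIndex (cent x0)
  have hcx : ∀ {x : G}, x ∉ Z → Z.relIndex (cent x) = c := fun {x} hx => h.relIndex_eq (by omega) hx hx0Z
  -- every prime of `|G/Z|` divides `n` and `c`
  have hn_dvd : ∀ r : ℕ, r.Prime → r ∣ Z.index → r ∣ n ∧ r ∣ c := by
    intro r hr hrd
    haveI := Fact.mk hr
    obtain ⟨a, -, hak, haZ⟩ := exists_order_mod (H := (⊤ : Subgroup G)) hr (by rwa [Subgroup.relIndex_top_right])
    refine ⟨?_, hcx haZ ▸ dvd_relIndex_of_mem (self_mem_cent a) hak haZ⟩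
    by_contra hrn
    obtain ⟨P⟩ := (inferInstance : Nonempty (Sylow r G))
    have hC : Subgroup.centralizer ((P : Subgroup G) : Set G) = ⊤ := by
      refine Solv.eq_top_of_forall_conj_mem _ fun g => ?_
      obtain ⟨c0, hc0⟩ := P.isPGroup'.nonempty_fixed_point_of_prime_not_dvd_card (α := G ⧸ cent g)
        (by
          rw [← Subgroup.index_eq_card]
          rcases h g with e | e
          · rw [show (cent g).index = 1 from e]; exact hr.not_dvd_one
          · rwa [show (cent g).index = n from e])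
      induction c0 using QuotientGroup.induction_on with
      | H d =>
      refine ⟨d, Subgroup.mem_centralizer_iff.2 fun e he => ?_⟩
      have e1 : ((e * d : G) : G ⧸ cent g) = (d : G) := hc0 ⟨e, he⟩
      have h1 := QuotientGroup.eq.1 e1.symm
      rw [← mul_assoc, ← cent_conj_mem, mem_cent] at h1
      exact h1
    refine P.not_dvd_index (hrd.trans (Subgroup.index_dvd_of_le fun a ha => ?_))
    rw [Subgroup.mem_center_iff]
    intro g
    exact (Subgroup.mem_centralizer_iff.1 (hC ▸ Subgroup.mem_top g) a ha).symm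
  -- for each prime `r` there is an outside element of order `r` modulo the centre
  have key : ∀ r : ℕ, r.Prime → r ∣ Z.index → ¬ r ^ 2 ∣ n ∧ ∀ s : ℕ, s.Prime → s ≠ r → s ∣ c →
      ∃ C : G, C ∉ Z ∧ ∃ y, y ∉ cent C ∧ y ^ r ∈ Z ∧ (∃ k, orderOf y = r ^ k) ∧
        (∀ a ∈ cent C, y * a * y⁻¹ ∈ cent C) := by
    intro r hr hrd
    haveI := Fact.mk hr
    obtain ⟨R⟩ := (inferInstance : Nonempty (Sylow r G))
    have hRZ : ¬ (R : Subgroup G) ≤ Z := fun hle =>
      R.not_dvd_index (hrd.trans (Subgroup.index_dvd_of_le hle))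
    set π := QuotientGroup.mk' Z
    haveI : Nontrivial ((R : Subgroup G).map π) := by
      rw [Subgroup.nontrivial_iff_ne_bot]
      intro e
      refine hRZ fun a ha => (QuotientGroup.eq_one_iff a).1 ?_
      exact (Subgroup.eq_bot_iff_forall _).1 e (π a) ⟨a, ha, rfl⟩
    haveI := (R.isPGroup'.map π).center_nontrivial
    obtain ⟨⟨⟨q, hq⟩, hqc⟩, hqne⟩ := exists_ne (1 : Subgroup.center ((R : Subgroup G).map π))
    obtain ⟨z0, hz0, rfl⟩ := hq
    have hz0Z : z0 ∉ Z := fun hz => hqne (Subtype.ext (Subtype.ext ((QuotientGroup.eq_one_iff z0).2 hz)))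
    obtain ⟨k, hk⟩ := IsPGroup.iff_orderOf.1 R.isPGroup' ⟨z0, hz0⟩
    rw [Subgroup.orderOf_mk] at hk
    obtain ⟨z, hz, hzZ, hzr⟩ := exists_power (q := r) hz0Z
      ⟨k, by rw [← hk, pow_orderOf_eq_one]; exact one_mem _⟩
    have hzR : z ∈ (R : Subgroup G) := mem_of_zpowers_mem hz0 hz
    have hcz : ∀ y ∈ (R : Subgroup G), y * z * y⁻¹ * z⁻¹ ∈ Z := by
      intro y hy
      obtain ⟨j, rfl⟩ := Subgroup.mem_zpowers_iff.1 hz
      rw [← QuotientGroup.eq_one_iff (N := Z)]
      show π _ = 1
      have e : π y * π z0 = π z0 * π y :=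
        congrArg Subtype.val (Subgroup.mem_center_iff.1 hqc ⟨π y, y, hy, rfl⟩)
      rw [map_mul, map_mul, map_mul, map_inv, map_inv, map_zpow,
        ((show Commute (π y) (π z0) from e).zpow_right j).eq, mul_inv_cancel_right, mul_inv_cancel]
    have hnorm : ∀ y ∈ (R : Subgroup G), ∀ a ∈ cent z, y * a * y⁻¹ ∈ cent z := by
      intro y hy a ha
      have e0 : Commute (y * a * y⁻¹) (y * z * y⁻¹) := by
        show y * a * y⁻¹ * (y * z * y⁻¹) = y * z * y⁻¹ * (y * a * y⁻¹)
        calc y * a * y⁻¹ * (y * z * y⁻¹) = y * (a * z) * y⁻¹ := by group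
          _ = y * z * y⁻¹ * (y * a * y⁻¹) := by rw [mem_cent.1 ha]; group
      have hε : Commute (y * a * y⁻¹) (y * z * y⁻¹ * z⁻¹)⁻¹ :=
        (show Commute (y * a * y⁻¹) _ from Subgroup.mem_center_iff.1 (inv_mem (hcz y hy)) _)
      have := hε.mul_right e0
      rw [show (y * z * y⁻¹ * z⁻¹)⁻¹ * (y * z * y⁻¹) = z by group] at this
      exact mem_cent.2 this.eq
    have hout : ∀ y ∈ (R : Subgroup G), y ∉ cent z → y ^ r ∈ Z := by
      intro y hy hyz
      by_contra hyr
      have hyZ : y ∉ Z := fun hh => hyz (center_le_cent z hh)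
      have hε := hcz y hy
      set ε := y * z * y⁻¹ * z⁻¹ with hεdef
      have e1 : y * z * y⁻¹ = ε * z := by rw [hεdef]; group
      have hεc : Commute ε z := (Subgroup.mem_center_iff.1 hε z).symm
      have hεr : ε ^ r = 1 := by
        have e2 : (ε * z) ^ r = y * z ^ r * y⁻¹ := by rw [← e1, conj_pow]
        rw [hεc.mul_pow, Subgroup.mem_center_iff.1 hzr y, mul_inv_cancel_right] at e2
        exact mul_eq_right.1 e2
      have hpow : ∀ i : ℕ, y ^ i * z * (y ^ i)⁻¹ = ε ^ i * z := fun i => by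
        induction i with
        | zero => simp
        | succ i ih =>
          calc y ^ (i + 1) * z * (y ^ (i + 1))⁻¹ = y * (y ^ i * z * (y ^ i)⁻¹) * y⁻¹ := by
                rw [pow_succ']; group
            _ = y * ε ^ i * (z * y⁻¹) := by rw [ih]; group
            _ = ε ^ i * (y * z * y⁻¹) := by rw [Subgroup.mem_center_iff.1 (pow_mem hε i) y]; group
            _ = ε ^ (i + 1) * z := by rw [e1, ← mul_assoc, ← pow_succ]
      have h1 := hpow r
      rw [hεr, one_mul, mul_inv_eq_iff_eq_mul] at h1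
      have h2 : cent (y ^ r) = cent y := h.eq_of_le hyZ hyr
        (cent_le_of_mem_zpowers (Subgroup.npow_mem_zpowers y r))
      exact hyz (mem_cent_comm.1 (h2 ▸ mem_cent.2 h1.symm : z ∈ cent y))
    -- the part outside `cent z` is cyclic
    have hcyc : ∀ y ∈ (R : Subgroup G), y ∉ cent z → ∀ e ∈ (R : Subgroup G),
        ∃ j : ℕ, e * y ^ j ∈ cent z := by
      intro y hy hyz e he
      by_contra! hno
      haveI : NeZero r := ⟨hr.ne_zero⟩
      obtain ⟨p', hp', hp'r, hp'c⟩ : ∃ s : ℕ, s.Prime ∧ s ≠ r ∧ s ∣ c := by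
        by_contra! hcon
        refine hc x0 hx0Z ((isPrimePow_iff_unique_prime_dvd).2 ⟨r, ⟨hr, (hn_dvd r hr hrd).2⟩, fun s hs => ?_⟩)
        by_contra hne
        exact hcon s hs.1 hne hs.2
      haveI := Fact.mk hp'
      obtain ⟨w, hw, ⟨i, hi⟩, hwZ⟩ := exists_order_mod (H := cent z) hp' (by rw [hcx hzZ]; exact hp'c)
      let C := cent z
      letI : CommGroup C := { (inferInstance : Group C) with
        mul_comm := fun a b => Subtype.ext (hab hzZ a a.2 b b.2) }
      let κ : ↥(R : Subgroup G) → C →* C := fun g => MonoidHom.mk'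
        (fun a => ⟨(g : G) * a * (g : G)⁻¹, hnorm g g.2 a a.2⟩)
        (fun a b => Subtype.ext (by simp only [Subgroup.coe_mul]; group))
      have κ_mul : ∀ (g g' : (R : Subgroup G)) (a : C), κ (g * g') a = κ g (κ g' a) := fun g g' a =>
        Subtype.ext (by simp only [κ, MonoidHom.mk'_apply, Subgroup.coe_mul]; group)
      have κ_one : ∀ a : C, κ 1 a = a := fun a => Subtype.ext (by simp [κ])
      have κ_cen : ∀ g : (R : Subgroup G), (g : G) ∈ Z → ∀ a : C, κ g a = a := fun g hg a =>
        Subtype.ext (by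
          simp only [κ, MonoidHom.mk'_apply]
          rw [← Subgroup.mem_center_iff.1 hg (a : G), mul_inv_cancel_right])
      have κ_mod : ∀ g : (R : Subgroup G), (g : G) ^ r ∈ Z → ∀ a b : ℕ, (a : ZMod r) = b → ∀ u,
          κ (g ^ a) u = κ (g ^ b) u := by
        intro g hg a b hab' u
        rw [← Nat.mod_add_div a r, ← Nat.mod_add_div b r, (ZMod.natCast_eq_natCast_iff' a b r).1 hab',
          pow_add, pow_add, κ_mul, κ_mul, pow_mul, pow_mul,
          κ_cen ((g ^ r) ^ (a / r)) (by simpa using pow_mem hg (a / r)),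
          κ_cen ((g ^ r) ^ (b / r)) (by simpa using pow_mem hg (b / r))]
      let Zc : Subgroup C := Z.subgroupOf C
      have hN : ∀ g : (R : Subgroup G), (g : G) ∉ cent z → ∀ u,
          ∏ i : ZMod r, κ (g ^ i.val) u ∈ Zc := by
        intro g hg u
        have hgr := hout g g.2 hg
        set P := ∏ i : ZMod r, κ (g ^ i.val) u
        have h1 : κ g P = P := by
          rw [map_prod]
          refine Fintype.prod_equiv (Equiv.addRight 1) _ _ fun i => ?_
          rw [← κ_mul, ← pow_succ']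
          exact κ_mod g hgr _ _ (by simp) u
        by_contra hP
        have hP' : (P : G) ∉ Z := hP
        have h2 : (g : G) ∈ cent (P : G) := by
          have := congrArg Subtype.val h1
          simp only [κ, MonoidHom.mk'_apply, mul_inv_eq_iff_eq_mul] at this
          exact mem_cent.2 this
        exact hg (same hzZ hP' P.2 ▸ h2)
      set ey : (R : Subgroup G) := ⟨y, hy⟩
      set ee : (R : Subgroup G) := ⟨e, he⟩
      set w0 : C := ⟨w, hw⟩
      have htot : ∏ j : ZMod r, ∏ i : ZMod r, κ ((ee * ey ^ j.val) ^ i.val) w0 ∈ Zc :=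
        prod_mem fun j _ => hN _ (by simpa [ee, ey] using hno j.val) w0
      -- conjugation by `R` on `C` is commutative
      have hcommR : ∀ g g' : (R : Subgroup G), ∀ a : C, κ (g * g') a = κ (g' * g) a := by
        intro g g' a
        have hd : (((g' * g)⁻¹ * (g * g') : (R : Subgroup G)) : G) ∈ cent z := by
          refine mem_cent.2 ?_
          set εg := (g : G) * z * (g : G)⁻¹ * z⁻¹ with hg1
          set εg' := (g' : G) * z * (g' : G)⁻¹ * z⁻¹ with hg2
          have hA : ∀ u : G, Commute εg u := fun u => (Subgroup.mem_center_iff.1 (hcz g g.2) u).symm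
          have hB : ∀ u : G, Commute εg' u := fun u => (Subgroup.mem_center_iff.1 (hcz g' g'.2) u).symm
          have e1 : (g : G) * z * (g : G)⁻¹ = εg * z := by rw [hg1]; group
          have e2 : (g' : G) * z * (g' : G)⁻¹ = εg' * z := by rw [hg2]; group
          have e3 : ((g : G) * g') * z * ((g : G) * g')⁻¹ = εg' * εg * z := by
            calc ((g : G) * g') * z * ((g : G) * g')⁻¹ = g * ((g' : G) * z * (g' : G)⁻¹) * (g : G)⁻¹ := by group
              _ = (g * εg') * z * (g : G)⁻¹ := by rw [e2]; group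
              _ = εg' * ((g : G) * z * (g : G)⁻¹) := by rw [← (hB g).eq]; group
              _ = εg' * εg * z := by rw [e1, ← mul_assoc]
          have e4 : ((g' : G) * g) * z * ((g' : G) * g)⁻¹ = εg' * εg * z := by
            calc ((g' : G) * g) * z * ((g' : G) * g)⁻¹ = g' * ((g : G) * z * (g : G)⁻¹) * (g' : G)⁻¹ := by group
              _ = (g' * εg) * z * (g' : G)⁻¹ := by rw [e1]; group
              _ = εg * ((g' : G) * z * (g' : G)⁻¹) := by rw [← (hA g').eq]; group
              _ = εg' * εg * z := by rw [e2, ← mul_assoc, (hA εg').eq]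
          simp only [Subgroup.coe_mul, Subgroup.coe_inv]
          have e5 := e3.trans e4.symm
          calc ((g' : G) * g)⁻¹ * ((g : G) * g') * z =
                ((g' : G) * g)⁻¹ * (((g : G) * g') * z * ((g : G) * g')⁻¹) * ((g : G) * g') := by group
            _ = z * (((g' : G) * g)⁻¹ * ((g : G) * g')) := by rw [e5]; group
        rw [show g * g' = (g' * g) * ((g' * g)⁻¹ * (g * g')) by group, κ_mul]
        congr 1
        refine Subtype.ext ?_
        simp only [κ, MonoidHom.mk'_apply]
        rw [hab hzZ _ hd _ a.2, mul_inv_cancel_right]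
      have hpowm : ∀ (g g' : (R : Subgroup G)) (m : ℕ) (a : C),
          κ ((g * g') ^ m) a = κ (g ^ m) (κ (g' ^ m) a) := by
        intro g g' m
        induction m with
        | zero => intro a; simp [κ_one]
        | succ m ih =>
          intro a
          rw [pow_succ, κ_mul, ih, κ_mul g g', ← κ_mul (g' ^ m) g, hcommR, κ_mul, ← κ_mul (g' ^ m) g',
            ← pow_succ, ← κ_mul, ← pow_succ]
      rw [Finset.prod_comm] at htot
      rw [← Finset.mul_prod_erase Finset.univ _ (Finset.mem_univ (0 : ZMod r))] at htot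
      have hrest : ∀ i ∈ Finset.univ.erase (0 : ZMod r),
          ∏ j : ZMod r, κ ((ee * ey ^ j.val) ^ i.val) w0 ∈ Zc := by
        intro i hi
        have hi0 : i ≠ 0 := (Finset.mem_erase.1 hi).1
        have h1 : ∀ j : ZMod r, κ ((ee * ey ^ j.val) ^ i.val) w0 =
            κ (ee ^ i.val) (κ (ey ^ (j * i).val) w0) := fun j => by
          rw [hpowm, ← pow_mul,
            κ_mod ey (hout y hy hyz) (j.val * i.val) (j * i).val (by simp) w0]
        rw [Finset.prod_congr rfl fun j _ => h1 j, ← map_prod,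
          Fintype.prod_equiv (Equiv.mulRight₀ i hi0) (fun j => κ (ey ^ (j * i).val) w0)
            (fun k => κ (ey ^ k.val) w0) fun j => rfl]
        have h2 : ((∏ k : ZMod r, κ (ey ^ k.val) w0 : C) : G) ∈ Z := hN ey hyz w0
        show ((ee ^ i.val : (R : Subgroup G)) : G) * _ * ((ee ^ i.val : (R : Subgroup G)) : G)⁻¹ ∈ Z
        rw [Subgroup.mem_center_iff.1 h2, mul_inv_cancel_right]
        exact h2
      have hw0r := (Zc.mul_mem_cancel_right (prod_mem hrest)).1 htot
      simp only [ZMod.val_zero, pow_zero, κ_one, Finset.prod_const, Finset.card_univ, ZMod.card] at hw0r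
      have hwr : w ^ r ∈ Z := hw0r
      obtain ⟨l, hl⟩ := exists_pow_eq_self_of_coprime (x := w) (n := r)
        (by rw [hi]; exact ((Nat.coprime_primes hr hp').2 hp'r.symm).pow_right i)
      exact hwZ (hl ▸ pow_mem hwr l)
    -- `R` is not in `cent z`
    obtain ⟨y, hy, hyz⟩ : ∃ y ∈ (R : Subgroup G), y ∉ cent z := by
      by_contra! hle
      exact R.not_dvd_index ((h.cls_eq hzZ).symm ▸ (hn_dvd r hr hrd).1 |>.trans
        (Subgroup.index_dvd_of_le hle))
    refine ⟨fun hr2 => ?_, fun s hs hsr hsc => ⟨z, hzZ, y, hyz, hout y hy hyz, ?_, hnorm y hy⟩⟩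
    · -- the Sylow intersection has index at most `r`
      have hrel : (cent z).relIndex (R : Subgroup G) ≤ r := by
        set T := (cent z).subgroupOf (R : Subgroup G)
        let f : Fin r → (R : Subgroup G) ⧸ T := fun j => QuotientGroup.mk ((⟨y, hy⟩ : (R : Subgroup G)) ^ (j : ℕ))
        have hf : Function.Surjective f := by
          intro q
          induction q using QuotientGroup.induction_on with
          | H e =>
          obtain ⟨j, hj⟩ := hcyc y hy hyz (e : G)⁻¹ (inv_mem e.2)
          refine ⟨⟨j % r, Nat.mod_lt j hr.pos⟩, Eq.symm ?_⟩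
          refine QuotientGroup.eq.2 (Subgroup.mem_subgroupOf.2 ?_)
          simp only [Subgroup.coe_mul, Subgroup.coe_inv, Subgroup.coe_pow]
          have hd : (y ^ r) ^ (j / r) ∈ cent z := center_le_cent z (pow_mem (hout y hy hyz) _)
          have := mul_mem hj (inv_mem hd)
          rwa [← pow_mul, mul_assoc, show y ^ j * (y ^ (r * (j / r)))⁻¹ = y ^ (j % r) by
            rw [mul_inv_eq_iff_eq_mul, ← pow_add, Nat.mod_add_div]] at this
        have := Nat.card_le_card_of_surjective f hf
        simpa [Subgroup.relIndex, Subgroup.index_eq_card, T] using this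
      have h1 := Subgroup.card_mul_index (cent z)
      rw [show (cent z).index = n from h.cls_eq hzZ] at h1
      have h2 : Nat.card ((cent z ⊓ (R : Subgroup G) : Subgroup G)) * (cent z).relIndex R = Nat.card R := by
        have := Subgroup.relIndex_mul_relIndex (⊥ : Subgroup G) (cent z ⊓ R) R bot_le inf_le_right
        rwa [Subgroup.relIndex_bot_left, Subgroup.relIndex_bot_left, Subgroup.inf_relIndex_right] at this
      have h3 : r ^ 2 * Nat.card ((cent z ⊓ (R : Subgroup G) : Subgroup G)) ∣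
          Nat.card R * (R : Subgroup G).index := by
        rw [Subgroup.card_mul_index, ← h1, mul_comm (Nat.card (cent z))]
        exact mul_dvd_mul hr2 (Subgroup.card_dvd_of_le inf_le_left)
      rw [← h2, mul_comm (r ^ 2), mul_assoc] at h3
      have h4 := Nat.dvd_of_mul_dvd_mul_left Nat.card_pos h3
      have h5 : (r ^ 2).Coprime (R : Subgroup G).index :=
        (hr.coprime_iff_not_dvd.2 R.not_dvd_index).pow_left 2
      have h6 := Nat.le_of_dvd (Nat.pos_of_ne_zero Subgroup.index_ne_zero_of_finite)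
        (h5.dvd_of_dvd_mul_right h4)
      have h7 : (cent z).relIndex (R : Subgroup G) ≤ r := hrel
      change r ^ 2 ≤ (cent z).relIndex (R : Subgroup G) at h6
      have := hr.two_le
      nlinarith
    · obtain ⟨k', hk'⟩ := IsPGroup.iff_orderOf.1 R.isPGroup' ⟨y, hy⟩
      rw [Subgroup.orderOf_mk] at hk'
      exact ⟨k', hk'⟩
  -- `n` is squarefree, so divides `c`
  have hzi : c * n = Z.index := by
    rw [← h.cls_eq hx0Z]; exact Subgroup.relIndex_mul_index (center_le_cent x0)
  have hnc : n ∣ c := by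
    rw [Nat.dvd_iff_prime_pow_dvd_dvd]
    intro r k hr hrk
    rcases k with _ | _ | k
    · simp
    · rw [pow_one] at hrk ⊢
      exact (hn_dvd r hr (hzi ▸ hrk.mul_left c)).2
    · exfalso
      refine (key r hr (hzi ▸ ((dvd_pow_self r (by omega)).trans hrk).mul_left c)).1 ?_
      exact (pow_dvd_pow r (by omega)).trans hrk
  -- partition of the noncentral elements
  haveI := Fintype.ofFinite G
  have hcard : ∀ x : G, x ∉ Z → Nat.card (cent x) = c * Nat.card Z := by
    intro x hx
    have := Subgroup.relIndex_mul_relIndex (⊥ : Subgroup G) Z (cent x) bot_le (center_le_cent x)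
    rw [Subgroup.relIndex_bot_left, Subgroup.relIndex_bot_left, hcx hx] at this
    rw [← this, mul_comm]
  have hpart : (c - 1) * Nat.card Z ∣ Nat.card G - Nat.card Z := by
    let S := Finset.univ.filter fun g : G => g ∉ Z
    have hS : S.card = Nat.card G - Nat.card Z := by
      show (Finset.univ.filter fun g : G => g ∉ Z).card = _
      rw [Finset.filter_not, Finset.card_sdiff, Finset.inter_univ, Finset.card_univ,
        Nat.card_eq_fintype_card, Nat.card_eq_fintype_card, Fintype.card_subtype]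
    rw [← hS, Finset.card_eq_sum_card_image (fun g => cent g) S]
    refine Finset.dvd_sum fun C hC => ?_
    obtain ⟨x, hx, rfl⟩ := Finset.mem_image.1 hC
    have hxZ : x ∉ Z := (Finset.mem_filter.1 hx).2
    have e : S.filter (fun g => cent g = cent x) =
        (Finset.univ.filter fun g : G => g ∈ cent x) \ (Finset.univ.filter fun g : G => g ∈ Z) := by
      ext g
      simp only [S, Finset.mem_filter, Finset.mem_univ, true_and, Finset.mem_sdiff]
      exact ⟨fun hg => ⟨hg.2 ▸ self_mem_cent g, hg.1⟩, fun hg => ⟨hg.2, same hxZ hg.2 hg.1⟩⟩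
    rw [e, Finset.card_sdiff_of_subset (by
      intro g hg
      simp only [Finset.mem_filter, Finset.mem_univ, true_and] at hg ⊢
      exact center_le_cent x hg), ← Fintype.card_subtype, ← Fintype.card_subtype,
      ← Nat.card_eq_fintype_card, ← Nat.card_eq_fintype_card]
    change (c - 1) * Nat.card Z ∣ Nat.card (cent x) - Nat.card Z
    rw [hcard x hxZ, Nat.sub_mul, one_mul]
  have hG : Nat.card G = c * n * Nat.card Z := by
    rw [hzi, mul_comm, Z.card_mul_index]
  rw [hG, show c * n * Nat.card Z - Nat.card Z = (c * n - 1) * Nat.card Z by rw [Nat.sub_mul, one_mul]]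
    at hpart
  have h1 := Nat.dvd_of_mul_dvd_mul_right Nat.card_pos hpart
  have hc2 : n ≤ c := Nat.le_of_dvd (Nat.pos_of_ne_zero (by
    intro e; rw [e, zero_mul] at hzi; exact Subgroup.index_ne_zero_of_finite hzi.symm)) hnc
  have h2 : c - 1 ∣ n - 1 := by
    have e : c * n - 1 = (c - 1) * n + (n - 1) := by
      have : n ≤ c * n := Nat.le_mul_of_pos_left n (by omega)
      rw [Nat.sub_mul, one_mul]; omega
    rw [e] at h1
    exact (Nat.dvd_add_right (dvd_mul_right _ _)).1 h1
  have hceq : c = n := by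
    have := Nat.le_of_dvd (by omega) h2
    omega
  -- the largest prime
  obtain ⟨r, hr, hmax⟩ := Finset.exists_max_image n.primeFactors id
    (Nat.nonempty_primeFactors.2 hn)
  rw [Nat.mem_primeFactors] at hr
  obtain ⟨s, hs, hsr, hsc⟩ : ∃ s : ℕ, s.Prime ∧ s ≠ r ∧ s ∣ c := by
    by_contra! hcon
    refine hc x0 hx0Z ((isPrimePow_iff_unique_prime_dvd).2 ⟨r, ⟨hr.1, by rw [show Z.relIndex (cent x0) = n from hceq]; exact hr.2.1⟩, fun s hs => ?_⟩)
    by_contra hne
    exact hcon s hs.1 hne hs.2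
  have hslt : s < r := lt_of_le_of_ne
    (hmax s (Nat.mem_primeFactors.2 ⟨hs, hceq ▸ hsc, by omega⟩)) hsr
  obtain ⟨C, hC, y, hyC, hyr, hyk, hyn⟩ := (key r hr.1 (hzi ▸ hr.2.1.mul_left c)).2 s hs hsr hsc
  haveI := Fact.mk hs
  haveI := Fact.mk hr.1
  have hs2 : ¬ s ^ 2 ∣ c := hceq ▸ (key s hs (hzi ▸ hsc.mul_right n)).1
  obtain ⟨w, hw, ⟨i, hi⟩, hwZ⟩ := exists_order_mod (H := cent C) hs (by rwa [hcx hC])
  -- conjugation by `y` permutes the `s - 1` nontrivial cosets of `s`-elements
  let Zc := Z.subgroupOf (cent C)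
  let π := QuotientGroup.mk' Zc
  let κ : cent C →* cent C := MonoidHom.mk' (fun a => ⟨y * a * y⁻¹, hyn a a.2⟩)
    (fun a b => Subtype.ext (by simp only [Subgroup.coe_mul]; group))
  have hκZ : Zc ≤ Zc.comap κ := fun a ha => by
    rw [Subgroup.mem_comap, Subgroup.mem_subgroupOf]
    show y * (a : G) * y⁻¹ ∈ Z
    exact (inferInstance : Z.Normal).conj_mem _ ha y
  set κ' := QuotientGroup.map Zc Zc κ hκZ
  have hκr : ∀ k : ℕ, ∀ a : cent C, ((κ')^[k]) (π a) = π ⟨y ^ k * a * (y ^ k)⁻¹, by
      induction k generalizing a with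
      | zero => simp
      | succ k ih =>
        have := hyn _ (ih a)
        convert this using 1
        rw [pow_succ']; group⟩ := by
    intro k
    induction k with
    | zero => intro a; simp
    | succ k ih =>
      intro a
      rw [Function.iterate_succ_apply', ih]
      refine congrArg π (Subtype.ext ?_)
      show y * (y ^ k * (a : G) * (y ^ k)⁻¹) * y⁻¹ = y ^ (k + 1) * a * (y ^ (k + 1))⁻¹
      rw [pow_succ']; group
  set W := Subgroup.zpowers (π ⟨w, hw⟩)
  have hWcard : Nat.card W = s := by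
    rw [Nat.card_zpowers]
    have h3 : orderOf (π ⟨w, hw⟩) ∣ s ^ i := hi ▸ Subgroup.orderOf_mk w hw ▸ orderOf_map_dvd π _
    obtain ⟨l, -, hl⟩ := (Nat.dvd_prime_pow hs).1 h3
    have h4 : orderOf (π ⟨w, hw⟩) ∣ c := (orderOf_dvd_natCard _).trans
      (dvd_of_eq (by rw [← Subgroup.index_eq_card]; exact hcx hC))
    rcases l with _ | _ | l
    · refine absurd ((QuotientGroup.eq_one_iff (N := Zc) _).1 ((orderOf_eq_one_iff (x := π ⟨w, hw⟩)).1 (by rw [hl, pow_zero]))) hwZ
    · rw [hl, pow_one]
    · exact absurd ((pow_dvd_pow s (by omega)).trans (hl ▸ h4)) hs2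
  haveI : Fintype (cent C ⧸ Zc) := Fintype.ofFinite _
  have hWinv : ∀ q ∈ W, κ' q ∈ W := by
    intro q hq
    have hqs : κ' q ^ s = 1 := by
      rw [← map_pow]
      have : orderOf q ∣ s := hWcard ▸ Subgroup.orderOf_dvd_natCard _ hq
      rw [orderOf_dvd_iff_pow_eq_one.1 this, map_one]
    obtain ⟨S, hS⟩ := (IsPGroup.of_card (p := s) (n := 1) (G := W) (by rw [hWcard, pow_one])).exists_le_sylow
    letI : CommGroup (cent C ⧸ Zc) := { (inferInstance : Group (cent C ⧸ Zc)) with
      mul_comm := fun a b => by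
        induction a using QuotientGroup.induction_on with
        | H a => induction b using QuotientGroup.induction_on with
          | H b => exact congrArg π (Subtype.ext (hab hC a a.2 b b.2)) }
    have hSs : Nat.card S = s := by
      have hd : Nat.card S ∣ c := (Subgroup.card_subgroup_dvd_card _).trans
        (dvd_of_eq (by rw [← Subgroup.index_eq_card]; exact hcx hC))
      obtain ⟨l, hl⟩ := IsPGroup.iff_card.1 S.isPGroup'
      have hsd : s ∣ Nat.card S := (dvd_of_eq hWcard.symm).trans (Subgroup.card_dvd_of_le hS)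
      rcases l with _ | _ | l
      · rw [hl, pow_zero] at hsd; exact absurd (Nat.eq_one_of_dvd_one hsd) hs.ne_one
      · rw [hl, pow_one]
      · exact absurd ((pow_dvd_pow s (by omega)).trans (hl ▸ hd)) hs2
    rw [Subgroup.eq_of_le_of_card_ge hS (by rw [hSs, hWcard])]
    obtain ⟨S', hS'⟩ := (IsPGroup.of_card (p := s) (G := Subgroup.zpowers (κ' q))
      (n := _) (Nat.card_zpowers (κ' q) |>.trans
        ((Nat.dvd_prime_pow hs).1 ((pow_one s).symm ▸ orderOf_dvd_of_pow_eq_one hqs)).choose_spec.2)).exists_le_sylow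
    obtain ⟨g, hg⟩ := MulAction.exists_smul_eq (cent C ⧸ Zc) S' S
    rw [← hg, Sylow.coe_subgroup_smul, Solv.mem_conj_smul, mul_comm, mul_inv_cancel_left]
    exact hS' (Subgroup.mem_zpowers _)
  let W' := {q : cent C ⧸ Zc // q ∈ W ∧ q ≠ 1}
  have hκinj : ∀ q, κ' q = 1 → q = 1 := by
    intro q hq
    induction q using QuotientGroup.induction_on with
    | H a =>
    have h5 : y * (a : G) * y⁻¹ ∈ Z := (QuotientGroup.eq_one_iff (N := Zc) _).1 hq
    refine (QuotientGroup.eq_one_iff _).2 ?_
    show (a : G) ∈ Z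
    have := (inferInstance : Z.Normal).conj_mem _ h5 y⁻¹
    simpa [mul_assoc] using this
  let σ : W' → W' := fun q => ⟨κ' q.1, hWinv _ q.2.1, fun e => q.2.2 (hκinj _ e)⟩
  have hσr : σ^[r] = id := by
    funext q
    refine Subtype.ext ?_
    have e : ∀ k : ℕ, (σ^[k] q).1 = (κ')^[k] q.1 := fun k => by
      induction k with
      | zero => rfl
      | succ k ih => rw [Function.iterate_succ_apply', Function.iterate_succ_apply', ← ih]
    rw [e]
    obtain ⟨a, ha⟩ := QuotientGroup.mk'_surjective Zc q.1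
    show _ = q.1
    rw [← ha, hκr]
    refine congrArg π (Subtype.ext ?_)
    show y ^ r * (a : G) * (y ^ r)⁻¹ = a
    rw [← Subgroup.mem_center_iff.1 hyr (a : G), mul_inv_cancel_right]
  haveI : DecidableEq W' := Classical.decEq _
  haveI : Fintype W' := Fintype.ofFinite _
  let τ : Equiv.Perm W' := ⟨σ, σ^[r - 1],
    fun q => (Function.iterate_succ_apply σ (r - 1) q).symm.trans
      (by rw [show (r - 1).succ = r by have := hr.1.pos; omega, hσr]; rfl),
    fun q => (Function.iterate_succ_apply' σ (r - 1) q).symm.trans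
      (by rw [show (r - 1).succ = r by have := hr.1.pos; omega, hσr]; rfl)⟩
  have hτ : τ ^ r ^ 1 = 1 := by
    rw [pow_one]
    ext q
    rw [Equiv.Perm.coe_pow, show (τ : W' → W') = σ from rfl, hσr]; rfl
  have hWc : Fintype.card W' = s - 1 := by
    rw [← Nat.card_eq_fintype_card]
    have e : Nat.card W' = ((W : Set (cent C ⧸ Zc)) \ {1}).ncard :=
      (Nat.card_congr (Equiv.subtypeEquivRight fun q => Iff.rfl)).trans (Nat.card_coe_set_eq _)
    rw [e, Set.ncard_diff_singleton_of_mem (one_mem W), ← Nat.card_coe_set_eq]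
    exact congrArg (· - 1) hWcard
  obtain ⟨q, hq⟩ := Equiv.Perm.exists_fixed_point_of_prime (p := r) (n := 1) (by
    rw [hWc]
    intro hd
    have := Nat.le_of_dvd (by have := hs.two_le; omega) hd
    omega) (σ := τ) hτ
  obtain ⟨a, ha⟩ := QuotientGroup.mk'_surjective Zc q.1
  have hfix : κ' (π a) = π a := by rw [show π a = q.1 from ha]; exact congrArg Subtype.val hq
  have hε' : a⁻¹ * κ a ∈ Zc := (QuotientGroup.eq (s := Zc)).1
    (show (QuotientGroup.mk a : cent C ⧸ Zc) = QuotientGroup.mk (κ a) from hfix.symm)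
  have hε : (a : G)⁻¹ * (y * a * y⁻¹) ∈ Z := hε'
  set ε := (a : G)⁻¹ * (y * a * y⁻¹) with hεdef
  have hεc : ∀ u : G, Commute ε u := fun u => (Subgroup.mem_center_iff.1 hε u).symm
  have e1 : y * a * y⁻¹ = (a : G) * ε := by rw [hεdef]; group
  have has : (a : G) ^ s ∈ Z := by
    have : orderOf q.1 ∣ s := hWcard ▸ Subgroup.orderOf_dvd_natCard _ q.2.1
    have h5 : π (a ^ s) = 1 := by
      rw [map_pow, show π a = q.1 from ha, orderOf_dvd_iff_pow_eq_one.1 this]
    exact (QuotientGroup.eq_one_iff (N := Zc) _).1 h5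
  have hε1 : ε ^ s = 1 := by
    have e2 : ((a : G) * ε) ^ s = y * (a : G) ^ s * y⁻¹ := by rw [← e1, conj_pow]
    rw [((hεc a).symm).mul_pow, Subgroup.mem_center_iff.1 has y, mul_inv_cancel_right] at e2
    exact mul_eq_left.1 e2
  have hε2 : ε ^ r = 1 := by
    have hp : ∀ k : ℕ, y ^ k * a * (y ^ k)⁻¹ = (a : G) * ε ^ k := fun k => by
      induction k with
      | zero => simp
      | succ k ih =>
        calc y ^ (k + 1) * a * (y ^ (k + 1))⁻¹ = y * (y ^ k * a * (y ^ k)⁻¹) * y⁻¹ := by
              rw [pow_succ']; group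
          _ = (y * (a : G)) * (ε ^ k * y⁻¹) := by rw [ih]; group
          _ = (y * (a : G)) * (y⁻¹ * ε ^ k) := by rw [((hεc y⁻¹).pow_left k).eq]
          _ = (y * a * y⁻¹) * ε ^ k := by group
          _ = (a : G) * ε ^ (k + 1) := by rw [e1, mul_assoc, pow_succ']
    have := hp r
    rw [← Subgroup.mem_center_iff.1 hyr (a : G), mul_inv_cancel_right] at this
    exact mul_eq_left.1 this.symm
  have hε0 : ε = 1 := orderOf_eq_one_iff.1 (Nat.eq_one_of_dvd_coprimes
    ((Nat.coprime_primes hs hr.1).2 hsr) (orderOf_dvd_of_pow_eq_one hε1) (orderOf_dvd_of_pow_eq_one hε2))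
  have haZ : (a : G) ∉ Z := fun hh => q.2.2 (by rw [← ha]; exact (QuotientGroup.eq_one_iff _).2 hh)
  rw [hε0, mul_one, mul_inv_eq_iff_eq_mul] at e1
  exact hyC (same hC haZ a.2 ▸ mem_cent.2 e1)

/-- Let G be a finite group whose conjugacy classes have exactly two sizes, 1 and n > 1. Then n is a power of a prime p and G is the direct product of a p-group and an abelian group of order prime to p: its Sylow p-subgroup P is normal with an abelian normal complement centralizing it; moreover P has an abelian normal subgroup A with P/A of exponent dividing p. -/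
theorem result {G : Type*} [Group G] [Finite G] (n : ℕ) (hn : 1 < n)
    (h : ∀ x : G, (Subgroup.centralizer ({x} : Set G)).index = 1 ∨ (Subgroup.centralizer ({x} : Set G)).index = n) (hex : ∃ x : G, (Subgroup.centralizer ({x} : Set G)).index = n) :
    ∃ (p : ℕ) (_ : Fact p.Prime) (a : ℕ), n = p ^ a ∧ ∀ P : Sylow p G, (P : Subgroup G).Normal ∧
      (∃ N : Subgroup G, N.Normal ∧ N.IsComplement' (P : Subgroup G) ∧ IsMulCommutative N ∧
        ∀ x ∈ N, ∀ y ∈ (P : Subgroup G), x * y = y * x) ∧
      ∃ A : Subgroup (P : Subgroup G), A.Normal ∧ IsMulCommutative A ∧ ∀ y : (P : Subgroup G), y ^ p ∈ A := by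
  classical
  change ∀ x : G, cls x = 1 ∨ cls x = n at h
  have h2 : Two G n := h
  set Z := Subgroup.center G
  obtain ⟨x0, hx0⟩ := hex
  have hx0Z : x0 ∉ Z := fun hz => by
    have h1 : cls x0 = 1 := cls_eq_one_iff.2 hz
    change cls x0 = n at hx0; omega
  obtain ⟨a, ha, hpp⟩ : ∃ a, a ∉ Z ∧ IsPrimePow (Z.relIndex (cent a)) := by
    by_contra! hc
    exact h2.mixed hn ⟨x0, hx0⟩ hc
  obtain ⟨p, k, hp, -, hpk⟩ := (isPrimePow_nat_iff _).1 hpp
  haveI := Fact.mk hp
  have hprimary : ∀ r : ℕ, r.Prime → r ≠ p → ∀ g : G, (∃ j, orderOf g = r ^ j) → g ∈ Z := by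
    intro r hr hrp g hg
    haveI := Fact.mk hr
    by_contra hgZ
    have := dvd_relIndex_of_mem (self_mem_cent g) hg hgZ
    rw [h2.relIndex_eq (by omega) hgZ ha, ← hpk] at this
    exact hrp ((Nat.prime_dvd_prime_iff_eq hr hp).1 (hr.dvd_of_dvd_pow this))
  have hZi : ∀ r : ℕ, r.Prime → r ∣ Z.index → r = p := by
    intro r hr hd
    by_contra hne
    haveI := Fact.mk hr
    obtain ⟨g, -, hg, hgZ⟩ := exists_order_mod (H := (⊤ : Subgroup G)) hr (by rwa [Subgroup.relIndex_top_right])
    exact hgZ (hprimary r hr hne g hg)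
  obtain ⟨b, hb⟩ : ∃ b, Z.index = p ^ b :=
    ⟨_, Nat.eq_prime_pow_of_unique_prime_dvd Subgroup.index_ne_zero_of_finite fun {d} hd => hZi d hd⟩
  obtain ⟨e, he1, he2⟩ := (Nat.dvd_prime_pow hp).1
    (hb ▸ (show n ∣ Z.index from h2.cls_eq ha ▸ Subgroup.index_dvd_of_le (center_le_cent a)))
  have hGnil : Group.IsNilpotent G := by
    haveI : Group.IsNilpotent (G ⧸ Z) :=
      (IsPGroup.of_card (p := p) (n := b) (by rw [← Subgroup.index_eq_card, hb])).isNilpotent
    exact Group.of_quotient_center_nilpotent inferInstance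
  refine ⟨p, inferInstance, e, he2, fun P => ?_⟩
  have hPn : (P : Subgroup G).Normal :=
    haveI := hGnil
    Sylow.normal_of_normalizerCondition Group.normalizerCondition_of_isNilpotent P
  refine ⟨hPn, ?_, ?_⟩
  · obtain ⟨N, hN⟩ := Subgroup.exists_right_complement'_of_coprime (N := (P : Subgroup G))
      (P.card_coprime_index)
    have hNZ : N ≤ Z := by
      intro g hg
      obtain ⟨u, v, hu, hv, huv, ⟨j, hj⟩, hco⟩ := Solv.exists_ppart p g
      have hu1 : u = 1 := by
        have h1 : orderOf u ∣ Nat.card N := Subgroup.orderOf_dvd_natCard _ (mem_of_zpowers_mem hg hu)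
        rw [← hN.symm.index_eq_card] at h1
        exact orderOf_eq_one_iff.1 (Nat.eq_one_of_dvd_coprimes
          ((hp.coprime_iff_not_dvd.2 P.not_dvd_index).pow_left j) (hj ▸ dvd_rfl) h1)
      rw [← huv, hu1, one_mul]
      -- a `p'`-element is central
      have hvc : ∀ w : G, (orderOf w).Coprime p → w ∈ Z := by
        intro w hw
        have h3 := Subgroup.pow_index_mem Z w
        obtain ⟨l, hl⟩ := exists_pow_eq_self_of_coprime (x := w) (n := Z.index)
          (by rw [hb]; exact (hw.symm.pow_left b))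
        exact hl ▸ pow_mem h3 l
      exact hvc v hco
    refine ⟨N, ⟨fun t ht g => ?_⟩, hN.symm, ⟨⟨fun s t => ?_⟩⟩, fun s hs t _ => ?_⟩
    · rw [Subgroup.mem_center_iff.1 (hNZ ht) g, mul_inv_cancel_right]; exact ht
    · exact Subtype.ext (Subgroup.mem_center_iff.1 (hNZ t.2) (s : G))
    · exact (Subgroup.mem_center_iff.1 (hNZ hs) t).symm
  · haveI : Nontrivial (G ⧸ Z) := by
      rw [QuotientGroup.nontrivial_iff]
      exact fun e => hx0Z (e ▸ Subgroup.mem_top x0)
    haveI : Nontrivial (Subgroup.center (G ⧸ Z)) :=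
      (IsPGroup.of_card (p := p) (n := b) (by rw [← Subgroup.index_eq_card, hb])).center_nontrivial
    obtain ⟨⟨qz, hqz⟩, hqne⟩ := exists_ne (1 : Subgroup.center (G ⧸ Z))
    obtain ⟨z0, rfl⟩ := QuotientGroup.mk'_surjective Z qz
    have hz0Z : z0 ∉ Z := fun hz => hqne (Subtype.ext ((QuotientGroup.eq_one_iff z0).2 hz))
    obtain ⟨z, hz, hzZ, hzp⟩ := exists_power (q := p) hz0Z
      ⟨b, by rw [← hb]; exact Subgroup.pow_index_mem Z z0⟩
    have hcz : ∀ y : G, y * z * y⁻¹ * z⁻¹ ∈ Z := by
      intro y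
      obtain ⟨j, rfl⟩ := Subgroup.mem_zpowers_iff.1 hz
      rw [← QuotientGroup.eq_one_iff (N := Z)]
      show QuotientGroup.mk' Z _ = 1
      rw [map_mul, map_mul, map_mul, map_inv, map_inv, map_zpow,
        ((show Commute (QuotientGroup.mk' Z y) (QuotientGroup.mk' Z z0) from
          Subgroup.mem_center_iff.1 hqz _).zpow_right j).eq, mul_inv_cancel_right, mul_inv_cancel]
    set D : Subgroup G := cent z ⊓ Subgroup.centralizer (cent z : Set G)
    have hDc : ∀ s ∈ D, ∀ t ∈ D, s * t = t * s := fun s hs t ht =>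
      Subgroup.mem_centralizer_iff.1 ht.2 s hs.1
    have hnorm : ∀ g a : G, a ∈ cent z → g * a * g⁻¹ ∈ cent z := by
      intro g a ha
      have e0 : Commute (g * a * g⁻¹) (g * z * g⁻¹) := by
        show g * a * g⁻¹ * (g * z * g⁻¹) = g * z * g⁻¹ * (g * a * g⁻¹)
        calc g * a * g⁻¹ * (g * z * g⁻¹) = g * (a * z) * g⁻¹ := by group
          _ = g * z * g⁻¹ * (g * a * g⁻¹) := by rw [mem_cent.1 ha]; group
      have h3 := (show Commute (g * a * g⁻¹) (g * z * g⁻¹ * z⁻¹)⁻¹ from
        Subgroup.mem_center_iff.1 (inv_mem (hcz g)) _).mul_right e0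
      rw [show (g * z * g⁻¹ * z⁻¹)⁻¹ * (g * z * g⁻¹) = z by group] at h3
      exact mem_cent.2 h3.eq
    refine ⟨D.subgroupOf (P : Subgroup G), ⟨fun t ht g => ?_⟩, ⟨⟨fun s t => ?_⟩⟩, fun y => ?_⟩
    · rw [Subgroup.mem_subgroupOf] at ht ⊢
      simp only [Subgroup.coe_mul, Subgroup.coe_inv]
      refine Subgroup.mem_inf.2 ⟨hnorm _ _ ht.1, Subgroup.mem_centralizer_iff.2 fun u hu => ?_⟩
      have h3 := hnorm ((g : G)⁻¹) u hu
      rw [inv_inv] at h3
      have h4 := Subgroup.mem_centralizer_iff.1 ht.2 _ h3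
      calc u * ((g : G) * t * (g : G)⁻¹) = g * (((g : G)⁻¹ * u * g) * t) * (g : G)⁻¹ := by group
        _ = (g : G) * t * (g : G)⁻¹ * u := by rw [h4]; group
    · exact Subtype.ext (Subtype.ext (hDc _ s.2 _ t.2))
    · rw [Subgroup.mem_subgroupOf, Subgroup.coe_pow]
      by_cases hyp : (y : G) ^ p ∈ Z
      · exact Subgroup.mem_inf.2 ⟨center_le_cent z hyp, Subgroup.center_le_centralizer _ hyp⟩
      have hyZ : (y : G) ∉ Z := fun hh => hyp (pow_mem hh p)
      set ε := (y : G) * z * (y : G)⁻¹ * z⁻¹ with hεdef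
      have hε : ε ∈ Z := hcz y
      have e1 : (y : G) * z * (y : G)⁻¹ = ε * z := by rw [hεdef]; group
      have hεp : ε ^ p = 1 := by
        have e2 : (ε * z) ^ p = (y : G) * z ^ p * (y : G)⁻¹ := by rw [← e1, conj_pow]
        rw [(show Commute ε z from (Subgroup.mem_center_iff.1 hε z).symm).mul_pow,
          Subgroup.mem_center_iff.1 hzp (y : G), mul_inv_cancel_right] at e2
        exact mul_eq_right.1 e2
      have hpow : ∀ i : ℕ, (y : G) ^ i * z * ((y : G) ^ i)⁻¹ = ε ^ i * z := fun i => by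
        induction i with
        | zero => simp
        | succ i ih =>
          calc (y : G) ^ (i + 1) * z * ((y : G) ^ (i + 1))⁻¹ =
                y * ((y : G) ^ i * z * ((y : G) ^ i)⁻¹) * (y : G)⁻¹ := by rw [pow_succ']; group
            _ = y * ε ^ i * (z * (y : G)⁻¹) := by rw [ih]; group
            _ = ε ^ i * ((y : G) * z * (y : G)⁻¹) := by
              rw [Subgroup.mem_center_iff.1 (pow_mem hε i) (y : G)]; group
            _ = ε ^ (i + 1) * z := by rw [e1, ← mul_assoc, ← pow_succ]
      have h5 := hpow p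
      rw [hεp, one_mul, mul_inv_eq_iff_eq_mul] at h5
      have hcy : cent ((y : G) ^ p) = cent (y : G) :=
        h2.eq_of_le hyZ hyp (cent_le_of_mem_zpowers (Subgroup.npow_mem_zpowers _ p))
      have hzy : z ∈ cent (y : G) := hcy ▸ mem_cent.2 h5.symm
      have hyz : Commute (y : G) z := (mem_cent.1 hzy).symm
      have hwp : ((y : G) * z) ^ p = (y : G) ^ p * z ^ p := hyz.mul_pow p
      have hwZ : (y : G) * z ∉ Z := fun hh => hyp (by
        have := mul_mem (pow_mem hh p) (inv_mem hzp)
        rwa [hwp, mul_inv_cancel_right] at this)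
      have hwp' : ((y : G) * z) ^ p ∉ Z := fun hh => hyp (by
        have := mul_mem hh (inv_mem hzp)
        rwa [hwp, mul_inv_cancel_right] at this)
      have hle : cent ((y : G) ^ p) ≤ cent (((y : G) * z) ^ p) := fun g hg => mem_cent.2 (by
        rw [hwp]
        exact ((show Commute g ((y : G) ^ p) from mem_cent.1 hg).mul_right
          (Subgroup.mem_center_iff.1 hzp g)).eq)
      have hwc : cent ((y : G) * z) = cent (y : G) := by
        rw [← h2.eq_of_le hwZ hwp' (cent_le_of_mem_zpowers (Subgroup.npow_mem_zpowers _ p)),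
          h2.eq_of_le hyp hwp' hle, hcy]
      have hle2 : cent (y : G) ≤ cent z := fun g hg => mem_cent.2 (by
        have h6 := (show Commute g (y : G) from mem_cent.1 hg).inv_right.mul_right
          (mem_cent.1 (hwc.symm ▸ hg : g ∈ cent ((y : G) * z)))
        rw [inv_mul_cancel_left] at h6
        exact h6.eq)
      have hzc : cent z = cent (y : G) := h2.eq_of_le hyZ hzZ hle2
      refine pow_mem (Subgroup.mem_inf.2 ⟨hzc ▸ self_mem_cent (y : G), ?_⟩) p
      rw [Subgroup.mem_centralizer_iff, hzc]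
      exact fun g hg => mem_cent.1 hg

end Cfsg.Agent.S4134
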