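import Cfsg.Statements.S0214
import Cfsg.Agent.Lib.Local.StrongEmb

set_option autoImplicit false
open Cfsg Cfsg.Agent
open Cfsg.Agent.Fusion
open scoped commutatorElement

namespace Cfsg.Agent.S0214

/-- Let H be a proper subgroup of the finite group G and P a nontrivial Sylow 2-subgroup of H. Then H is strongly embedded in G if and only if N_G(X) ≤ H for every nontrivial subgroup X of P. -/
theorem result {G : Type*} [Group G] [Finite G] (H : Subgroup G) (hH : H ≠ ⊤) (P : Sylow 2 ↥H) (hP : (P : Subgroup ↥H) ≠ ⊥) : Cfsg.IsStronglyEmbedded H ↔ (∀ X : Subgroup ↥H, X ≤ (P : Subgroup ↥H) → X ≠ ⊥ → Subgroup.normalizer ((X.map H.subtype : Subgroup G) : Set G) ≤ H) := by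
  haveI : Fact (Nat.Prime 2) := ⟨Nat.prime_two⟩
  constructor
  · rintro ⟨-, -, hodd⟩ X hX hX1 g hg
    by_contra hgH
    obtain ⟨Y, hY⟩ : ∃ Y, Y = X.map H.subtype := ⟨_, rfl⟩
    rw [← hY] at hg
    have hYH : Y ≤ H := hY ▸ Subgroup.map_subtype_le _
    have hle : Y ≤ H ⊓ H.map (MulAut.conj g).toMonoidHom :=
      le_inf hYH ((cj_eq_self hg).ge.trans (cj_mono hYH g))
    obtain ⟨k, hk⟩ := IsPGroup.iff_card.1 (P.isPGroup'.to_le hX)
    have hk0 : k ≠ 0 := by
      rintro rfl
      exact hX1 (Subgroup.eq_bot_of_card_eq _ (by simpa using hk))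
    have h2 : 2 ∣ Nat.card Y := by
      rw [hY, Subgroup.card_map_of_injective H.subtype_injective, hk]; exact dvd_pow_self 2 hk0
    exact Nat.not_even_iff_odd.2 (hodd g hgH) (even_iff_two_dvd.2 (h2.trans (Subgroup.card_dvd_of_le hle)))
  · intro h
    obtain ⟨T, hTdef⟩ : ∃ T, T = (P : Subgroup H).map H.subtype := ⟨_, rfl⟩
    have hTH : T ≤ H := hTdef ▸ Subgroup.map_subtype_le _
    have hTp : IsPGroup 2 T := hTdef ▸ P.isPGroup'.map _
    have hTne : T ≠ ⊥ := fun he => hP ((Subgroup.map_eq_bot_iff_of_injective _ H.subtype_injective).1 (hTdef ▸ he))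
    have hΓ : ∀ Q : Subgroup G, Q ≤ T → Q ≠ ⊥ → Subgroup.normalizer (Q : Set G) ≤ H := by
      intro Q hQ hne
      have hQH : Q ≤ H := hQ.trans hTH
      have := h (Q.subgroupOf H) (fun x hx => by
        obtain ⟨y, hy, he⟩ : (x : G) ∈ (P : Subgroup H).map H.subtype := hTdef ▸ hQ hx
        rwa [← Subtype.ext (show (y : G) = x from he)]) (fun he => hne (by
          rw [← Subgroup.map_subgroupOf_eq_of_le hQH, he, Subgroup.map_bot]))
      rwa [Subgroup.map_subgroupOf_eq_of_le hQH] at this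
    have hT : SylIn 2 T ⊤ := by
      obtain ⟨U, hU, hTU⟩ := exists_sylIn_ge hTp (le_top : T ≤ ⊤)
      rcases eq_or_ne T U with he | hne
      · rw [he]; exact hU
      exfalso
      have hlt := SylIn.normalizer_growth hTU hne hU.isPGroup
      have hle : U ⊓ Subgroup.normalizer (T : Set G) ≤ H := inf_le_right.trans (hΓ T le_rfl hTne)
      exact hlt.ne ((hTdef ▸ sylIn_map H P : SylIn 2 T H).eq_of_le (hU.isPGroup.to_le inf_le_left) hlt.le hle).symm
    refine ⟨hH, ?_, fun g hg => ?_⟩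
    · rw [even_iff_two_dvd]
      obtain ⟨k, hk⟩ := IsPGroup.iff_card.1 hTp
      have hk0 : k ≠ 0 := by
        rintro rfl
        exact hTne (Subgroup.eq_bot_of_card_eq _ (by simpa using hk))
      exact (hk ▸ dvd_pow_self 2 hk0).trans (Subgroup.card_dvd_of_le hTH)
    · by_contra hev
      rw [Nat.not_odd_iff_even, even_iff_two_dvd] at hev
      obtain ⟨t, ht⟩ := exists_prime_orderOf_dvd_card' 2 hev
      obtain ⟨ht1, s, hs, hst⟩ := Subgroup.mem_inf.1 t.2
      have hts : (t : G) = g * s * g⁻¹ := hst.symm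
      have hpt : IsPGroup 2 ↥(Subgroup.zpowers (t : G)) := by
        refine IsPGroup.of_card (n := 1) ?_
        rw [Nat.card_zpowers, Subgroup.orderOf_coe, ht, pow_one]
      have hps : IsPGroup 2 ↥(Subgroup.zpowers s) := by
        refine IsPGroup.of_card (n := 1) ?_
        rw [Nat.card_zpowers, pow_one, ← ht, ← Subgroup.orderOf_coe, hts]
        exact (orderOf_injective (MulAut.conj g).toMonoidHom (MulAut.conj g).injective s).symm
      have hT' : SylIn 2 T H := hTdef ▸ sylIn_map H P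
      obtain ⟨h₁, hh₁, hle₁⟩ := hT'.conj_le hps (Subgroup.zpowers_le.2 hs)
      obtain ⟨h₂, hh₂, hle₂⟩ := hT'.conj_le hpt (Subgroup.zpowers_le.2 ht1)
      have hne : cj (Subgroup.zpowers s) h₁ ≠ ⊥ := fun he => by
        have h1 : h₁ * s * h₁⁻¹ ∈ cj (Subgroup.zpowers s) h₁ := conj_mem_cj (Subgroup.mem_zpowers s)
        rw [he, Subgroup.mem_bot, conj_eq_one_iff] at h1
        rw [h1, mul_one, mul_inv_cancel] at hts
        rw [← Subgroup.orderOf_coe, hts, orderOf_one] at ht
        omega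
      have hmem := Local.mem_of_conj_le (E := H) hT hΓ hle₁ hne (g := h₂ * g * h₁⁻¹) (by
        rw [cj_cj, inv_mul_cancel_right]
        refine le_trans ?_ hle₂
        rw [← cj_cj]
        refine cj_mono ?_ _
        rw [cj, MonoidHom.map_zpowers, hts]
        exact le_rfl)
      apply hg
      have h3 := mul_mem (mul_mem (inv_mem hh₂) hmem) hh₁
      simpa [mul_assoc] using h3

end Cfsg.Agent.S0214
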