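import Cfsg.Statements.S0560
import Mathlib.GroupTheory.Sylow
import Cfsg.Agent.Lib.Solv.Basic
import Mathlib.Tactic.Group

set_option autoImplicit false
open Pointwise
open Cfsg

namespace Cfsg.Agent.S0560

open scoped Pointwise

/-- Let the finite group G be the product HK of two subgroups and p a prime. Then there are Sylow p-subgroups P of H and Q of K and a Sylow p-subgroup R of G whose underlying set is the product set of P and Q. -/
theorem result {G : Type*} [Group G] [Finite G] (H K : Subgroup G) (hHK : ∀ g : G, ∃ h ∈ H, ∃ k ∈ K, g = h * k) (p : ℕ) [Fact p.Prime] : ∃ (P : Sylow p H) (Q : Sylow p K) (R : Sylow p G), ((R : Subgroup G) : Set G) = (((P : Subgroup H).map H.subtype : Subgroup G) : Set G) * (((Q : Subgroup K).map K.subtype : Subgroup G) : Set G) := by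
  obtain ⟨P0⟩ : Nonempty (Sylow p H) := inferInstance
  obtain ⟨Q0⟩ : Nonempty (Sylow p K) := inferInstance
  obtain ⟨R0, hR0⟩ := (P0.2.map H.subtype).exists_le_sylow
  obtain ⟨R1, hR1⟩ := (Q0.2.map K.subtype).exists_le_sylow
  obtain ⟨g, hg⟩ := MulAction.exists_smul_eq G R0 R1
  obtain ⟨h, hh, k, hk, e⟩ := hHK g⁻¹
  set R : Sylow p G := h⁻¹ • R0 with hRdef
  have hR' : R = k • R1 := by
    rw [hRdef, ← hg, smul_smul, show g = k⁻¹ * h⁻¹ by rw [← mul_inv_rev, ← e, inv_inv],
      ← mul_assoc, mul_inv_cancel, one_mul]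
  let P : Sylow p H := (⟨h, hh⟩⁻¹ : H) • P0
  let Q : Sylow p K := (⟨k, hk⟩ : K) • Q0
  have hP : (P : Subgroup H) = (R : Subgroup G).subgroupOf H := by
    refine (P.is_maximal' (R.2.comap_of_injective _ H.subtype_injective) ?_).symm
    intro x hx
    have hx' : x ∈ MulAut.conj (⟨h, hh⟩⁻¹ : H) • (P0 : Subgroup H) := hx
    show (x : G) ∈ MulAut.conj h⁻¹ • (R0 : Subgroup G)
    rw [Cfsg.Agent.Solv.mem_conj_smul] at hx' ⊢
    exact hR0 ⟨_, hx', by simp⟩
  have hQ : (Q : Subgroup K) = (R : Subgroup G).subgroupOf K := by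
    refine (Q.is_maximal' (R.2.comap_of_injective _ K.subtype_injective) ?_).symm
    intro x hx
    have hx' : x ∈ MulAut.conj (⟨k, hk⟩ : K) • (Q0 : Subgroup K) := hx
    rw [hR']
    show (x : G) ∈ MulAut.conj k • (R1 : Subgroup G)
    rw [Cfsg.Agent.Solv.mem_conj_smul] at hx' ⊢
    exact hR1 ⟨_, hx', by simp⟩
  refine ⟨P, Q, R, ?_⟩
  rw [hP, hQ, Subgroup.subgroupOf_map_subtype, Subgroup.subgroupOf_map_subtype]
  have cH : Nat.card ((R : Subgroup G) ⊓ H : Subgroup G) = p ^ (Nat.card H).factorization p := by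
    rw [← P.card_eq_multiplicity, ← Cfsg.Agent.Solv.card_map_subtype (P : Subgroup H), hP,
      Subgroup.subgroupOf_map_subtype]
  have cK : Nat.card ((R : Subgroup G) ⊓ K : Subgroup G) = p ^ (Nat.card K).factorization p := by
    rw [← Q.card_eq_multiplicity, ← Cfsg.Agent.Solv.card_map_subtype (Q : Subgroup K), hQ,
      Subgroup.subgroupOf_map_subtype]
  have hc : ∀ X Y : Subgroup G, Nat.card (X ⊓ Y : Subgroup G) * X.relIndex Y = Nat.card Y := by
    intro X Y
    rw [← Subgroup.relIndex_bot_left (X ⊓ Y), ← Subgroup.inf_relIndex_right X Y,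
      Subgroup.relIndex_mul_relIndex ⊥ _ _ bot_le inf_le_right, Subgroup.relIndex_bot_left]
  have hprod : Nat.card H * Nat.card K = Nat.card G * Nat.card (K ⊓ H : Subgroup G) := by
    have hidx : K.relIndex H = K.relIndex ⊤ := by
      refine Nat.card_eq_of_bijective (Subgroup.quotientSubgroupOfEmbeddingOfLE K (le_top : H ≤ ⊤))
        ⟨(Subgroup.quotientSubgroupOfEmbeddingOfLE K (le_top : H ≤ ⊤)).injective, fun x => ?_⟩
      induction x using QuotientGroup.induction_on with
      | H x =>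
        obtain ⟨a, ha, b, hb, e⟩ := hHK x
        refine ⟨QuotientGroup.mk ⟨a, ha⟩, ?_⟩
        rw [Subgroup.quotientSubgroupOfEmbeddingOfLE_apply_mk, QuotientGroup.eq, Subgroup.mem_subgroupOf]
        simpa [e] using hb
    rw [← hc K H, hidx, Subgroup.relIndex_top_right, ← K.card_mul_index]
    ring
  set P' := (R : Subgroup G) ⊓ H
  set Q' := (R : Subgroup G) ⊓ K
  have hle : Q'.relIndex (R : Subgroup G) ≤ Q'.relIndex P' := by
    have hpi : IsPGroup p (Q' ⊓ P' : Subgroup G) := R.2.to_le (inf_le_left.trans inf_le_left)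
    obtain ⟨a, ha⟩ := IsPGroup.iff_card.mp hpi
    have hdvd : p ^ a ∣ Nat.card (K ⊓ H : Subgroup G) := by
      rw [← ha]
      exact Subgroup.card_dvd_of_le (inf_le_inf inf_le_right inf_le_right)
    have hale : a ≤ (Nat.card (K ⊓ H : Subgroup G)).factorization p :=
      ((Fact.out : p.Prime).pow_dvd_iff_le_factorization Nat.card_pos.ne').1 hdvd
    have hv := congrArg (fun n => n.factorization p) hprod
    simp only [Nat.factorization_mul Nat.card_pos.ne' Nat.card_pos.ne', Finsupp.add_apply] at hv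
    have h1 : Nat.card (Q' ⊓ P' : Subgroup G) * Nat.card (R : Subgroup G) ≤
        Nat.card P' * Nat.card Q' := by
      rw [ha, cH, cK, R.card_eq_multiplicity, ← pow_add, ← pow_add]
      exact Nat.pow_le_pow_right (Fact.out : p.Prime).pos (by omega)
    have h2 := hc Q' P'
    have h3 := hc Q' (R : Subgroup G)
    rw [inf_eq_left.2 (inf_le_left : Q' ≤ (R : Subgroup G))] at h3
    rw [← h2, ← h3] at h1
    refine Nat.le_of_mul_le_mul_left ?_
      (Nat.mul_pos (Nat.card_pos (α := (Q' ⊓ P' : Subgroup G))) (Nat.card_pos (α := Q')))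
    calc Nat.card (Q' ⊓ P' : Subgroup G) * Nat.card Q' * Q'.relIndex (R : Subgroup G)
        = Nat.card (Q' ⊓ P' : Subgroup G) * (Nat.card Q' * Q'.relIndex (R : Subgroup G)) := by ring
      _ ≤ _ := h1
      _ = _ := by ring
  have hsurj : Function.Surjective
      (Subgroup.quotientSubgroupOfEmbeddingOfLE Q' (inf_le_left : P' ≤ (R : Subgroup G))) := by
    have hinj := (Subgroup.quotientSubgroupOfEmbeddingOfLE Q' (inf_le_left : P' ≤ (R : Subgroup G))).injective
    exact ((Nat.bijective_iff_injective_and_card _).2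
      ⟨hinj, le_antisymm (Nat.card_le_card_of_injective _ hinj) hle⟩).2
  ext x
  constructor
  · intro hx
    obtain ⟨y, hy⟩ := hsurj (QuotientGroup.mk ⟨x, hx⟩)
    induction y using QuotientGroup.induction_on with
    | H y =>
      rw [Subgroup.quotientSubgroupOfEmbeddingOfLE_apply_mk, QuotientGroup.eq, Subgroup.mem_subgroupOf] at hy
      exact ⟨y, y.2, (y : G)⁻¹ * x, by simpa using hy, by simp⟩
  · rintro ⟨a, ha, b, hb, rfl⟩
    exact mul_mem ha.1 hb.1

end Cfsg.Agent.S0560
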