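import Cfsg.Statements.S0168
import Cfsg.Agent.Lib.Char.Ortho
import Cfsg.Agent.Lib.Char.Linear

set_option autoImplicit false
open Cfsg
open scoped ComplexConjugate

namespace Cfsg.Agent.S0168

/-- The Burnside–Brauer Theorem. Let χ be the character of a faithful complex representation of a finite group, taking m distinct values. Then every irreducible character has nonzero inner product with χ ^ i for some i < m. -/
theorem result {G : Type*} [Group G] [Fintype G] {V : Type*} [AddCommGroup V] [Module ℂ V] [FiniteDimensional ℂ V] (ρ : Representation ℂ G V) (hfaithful : Function.Injective ρ) (ψ : G → ℂ) (hψ : Cfsg.IsIrrCharacter G ψ) : ∃ i : ℕ, i < Nat.card (Set.range ρ.character) ∧ Cfsg.classInner (fun g => ρ.character g ^ i) ψ ≠ 0 := by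
  classical
  by_contra hcon
  simp only [not_exists, not_and, not_not] at hcon
  set χ := ρ.character with hχ
  let A := (Finset.univ.image χ).erase (χ 1)
  let P : Polynomial ℂ := ∏ a ∈ A, (Polynomial.X - Polynomial.C a)
  have hcard : Nat.card (Set.range χ) = A.card + 1 := by
    rw [Finset.card_erase_add_one (Finset.mem_image_of_mem χ (Finset.mem_univ 1)), Nat.card_coe_set_eq,
      ← Set.ncard_coe_finset, Finset.coe_image, Finset.coe_univ, Set.image_univ]
  have hdegP : P.natDegree = A.card := Polynomial.natDegree_finsetProd_X_sub_C_eq_card _ _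
  have hzero : ∑ g : G, P.eval (χ g) * conj (ψ g) = 0 := by
    simp only [Polynomial.eval_eq_sum_range, Finset.sum_mul]
    rw [Finset.sum_comm]
    refine Finset.sum_eq_zero fun i hi => ?_
    have h := hcon i (by rw [hcard]; rw [Finset.mem_range, hdegP] at hi; exact hi)
    rw [Cfsg.classInner, mul_eq_zero] at h
    have h' := h.resolve_left (inv_ne_zero (Nat.cast_ne_zero.2 Nat.card_pos.ne'))
    simp only [mul_assoc, ← Finset.mul_sum]
    rw [h', mul_zero]
  have hoff : ∀ g : G, g ≠ 1 → P.eval (χ g) = 0 := by
    intro g hg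
    rw [Polynomial.eval_prod]
    refine Finset.prod_eq_zero (i := χ g) (Finset.mem_erase.2 ⟨fun e => hg ?_,
      Finset.mem_image_of_mem χ (Finset.mem_univ g)⟩) (by simp)
    apply hfaithful
    rw [map_one]
    refine (Cfsg.Agent.Char.eq_id_iff ρ g).1 ?_
    rw [← hχ, e, hχ, Representation.char_one]
  rw [Finset.sum_eq_single 1 (fun g _ hg => by rw [hoff g hg, zero_mul]) (by simp), mul_eq_zero] at hzero
  rcases hzero with h | h
  · rw [Polynomial.eval_prod, Finset.prod_eq_zero_iff] at h
    obtain ⟨a, ha, he⟩ := h
    simp only [Polynomial.eval_sub, Polynomial.eval_X, Polynomial.eval_C, sub_eq_zero] at he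
    exact (Finset.mem_erase.1 ha).1 he.symm
  · exact Cfsg.Agent.Char.irr_one_ne_zero hψ ((map_eq_zero _).1 h)

end Cfsg.Agent.S0168
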