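import Cfsg.Statements.S4717
import Cfsg.Agent.Lib.Char.ThirdMain
import Cfsg.Agent.Lib.Char.DefectLocal
import Cfsg.Agent.Lib.Char.SectionPart
import Cfsg.Agent.Lib.Char.FirstMain
import Cfsg.Agent.Lib.Char.FirstMainInduced
import Cfsg.Agent.Lib.Char.FongReynolds

set_option autoImplicit false
open Cfsg
open scoped ComplexConjugate

namespace Cfsg.Agent.S4717

/-- Let p be a prime, M a maximal ideal of the algebraic integers containing p, and r a natural number; say that a finite group X has deficiency class r when X has no non-principal p-block of defect ≥ r. If G has deficiency class r then so does the centralizer of every p-element of G; conversely, if r > 0 and the centralizer of every element of order p has deficiency class r, then G has deficiency class r. -/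
theorem result {G : Type*} [Group G] [Finite G] (p : ℕ) [Fact p.Prime] (M : Ideal Cfsg.AlgInt) (hM : Cfsg.IsPModular p M) (r : ℕ) : ((∀ B' : Set (Cfsg.IrrCharacter G), Cfsg.IsPBlock M B' → B' ≠ Cfsg.principalBlock M G → Cfsg.blockDefect p B' < r) → ∀ y : G, (∃ k : ℕ, orderOf y = p ^ k) → (∀ B' : Set (Cfsg.IrrCharacter ↥(Subgroup.centralizer ({y} : Set G))), Cfsg.IsPBlock M B' → B' ≠ Cfsg.principalBlock M ↥(Subgroup.centralizer ({y} : Set G)) → Cfsg.blockDefect p B' < r)) ∧ (0 < r → (∀ y : G, orderOf y = p → (∀ B' : Set (Cfsg.IrrCharacter ↥(Subgroup.centralizer ({y} : Set G))), Cfsg.IsPBlock M B' → B' ≠ Cfsg.principalBlock M ↥(Subgroup.centralizer ({y} : Set G)) → Cfsg.blockDefect p B' < r)) → (∀ B' : Set (Cfsg.IrrCharacter G), Cfsg.IsPBlock M B' → B' ≠ Cfsg.principalBlock M G → Cfsg.blockDefect p B' < r)) := by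
  classical
  have hp : p.Prime := Fact.out
  have := Fintype.ofFinite G
  have hP := Char.pmod_prime hM
  have hmono : ∀ (H : Subgroup G) [Fintype H] (b : Set (Cfsg.IrrCharacter H)) (B : Set (Cfsg.IrrCharacter G)),
      Cfsg.IsInducedBlock M H b B → Cfsg.blockDefect p b ≤ Cfsg.blockDefect p B := by
    intro H _ b B hind
    obtain ⟨D, hD⟩ := Char.exists_isDefectGroup hM hind.1
    obtain ⟨E, hE, hle⟩ := Char.induced_defect_le hM hind hD
    have h := Subgroup.card_le_of_le hle
    rw [Subgroup.card_map_of_injective (Subgroup.subtype_injective H),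
      Char.card_defectGroup hM hind.1 hD, Char.card_defectGroup hM hind.2.1 hE] at h
    exact (Nat.pow_le_pow_iff_right hp.one_lt).mp h
  refine ⟨fun hG y hy B' hB' hne => ?_, fun hr hloc B hB hne => ?_⟩
  · have := Fintype.ofFinite (Subgroup.centralizer ({y} : Set G))
    obtain ⟨B, hind⟩ := Char.exists_induced_centralizer hM hy hB'
    exact lt_of_le_of_lt (hmono _ _ _ hind)
      (hG B hind.2.1 fun h => hne ((Char.third_main hM hind).mp h))
  · by_contra hlt
    push Not at hlt
    obtain ⟨D, hD⟩ := Char.exists_isDefectGroup hM hB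
    obtain ⟨g, hg, hDg⟩ := (Char.isDefectGroup_iff B D).mp hD
    have hDcard := Char.card_defectGroup hM hB hD
    have hnt : Nontrivial D := Finite.one_lt_card_iff_nontrivial.mp
      (hDcard ▸ Nat.one_lt_pow (by omega) hp.one_lt)
    have hcn : Nontrivial (Subgroup.center D) := hDg.isPGroup.center_nontrivial
    obtain ⟨k, hk⟩ := IsPGroup.iff_card.mp (hDg.isPGroup.to_subgroup (Subgroup.center D))
    have hpd : p ∣ Nat.card (Subgroup.center D) := hk ▸ dvd_pow_self p (fun h0 => by
      have := Finite.one_lt_card_iff_nontrivial.mpr hcn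
      rw [hk, h0, pow_zero] at this
      omega)
    obtain ⟨z, hz⟩ := exists_prime_orderOf_dvd_card' p hpd
    set y : G := ((z : D) : G) with hyd
    have hyo : orderOf y = p := by rw [hyd, Subgroup.orderOf_coe, Subgroup.orderOf_coe, hz]
    set C := Subgroup.centralizer ({y} : Set G) with hCd
    have := Fintype.ofFinite C
    have hDC : D ≤ C := fun d hd => Subgroup.mem_centralizer_singleton_iff.mpr
      (congrArg Subtype.val (Subgroup.mem_center_iff.mp z.2 ⟨d, hd⟩))
    have hmap : (D.subgroupOf C).map C.subtype = D := Subgroup.map_subgroupOf_eq_of_le hDC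
    have hCC : Subgroup.centralizer (((D.subgroupOf C).map C.subtype : Subgroup G) : Set G) ≤ C := by
      rw [hmap]
      exact Subgroup.centralizer_le (Set.singleton_subset_iff.mpr (z : D).2)
    obtain ⟨e, he⟩ := Char.exists_pair_of_le_defect hM hB (P := (D.subgroupOf C).map C.subtype) hD
      (le_of_eq hmap)
    obtain ⟨e0, c, hc, rfl⟩ := Char.exists_pre_pairOf hM hCC he.1
    obtain ⟨B'', hind⟩ := Char.exists_induced_centralizer hM ⟨1, by rw [hyo, pow_one]⟩ hc.2.1
    obtain rfl := Char.pairOf_unique hM he (Char.pairOf_of_induced hM hind hCC hc)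
    obtain ⟨E, hE⟩ := Char.exists_isDefectGroup hM hc.2.1
    obtain ⟨t, ht⟩ := Char.card_pairOf_le hM hE hc
    have h1 := Subgroup.card_le_of_le ht
    rw [Subgroup.card_map_of_injective (MulEquiv.injective (MulAut.conj t)),
      Nat.card_congr (Subgroup.subgroupOfEquivOfLe hDC).toEquiv, hDcard,
      Char.card_defectGroup hM hc.2.1 hE] at h1
    have h2 := (Nat.pow_le_pow_iff_right hp.one_lt).mp h1
    have h3 := hloc y hyo c hc.2.1 fun h => hne ((Char.third_main hM hind).mpr h)
    omega

end Cfsg.Agent.S4717
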