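import Cfsg.Statements.S4211
import Mathlib
import Cfsg.Agent.Lib.Solv.Parts

set_option autoImplicit false
open Cfsg

namespace Cfsg.Agent.S4211


section Aux

theorem quat_two_center : ∀ q : QuaternionGroup 2, q * QuaternionGroup.a 1 = QuaternionGroup.a 1 * q →
    q * QuaternionGroup.xa 0 = QuaternionGroup.xa 0 * q → q = 1 ∨ q = QuaternionGroup.a 2 := by decide
variable {G : Type*} [Group G] [Finite G]

theorem le_of_ppow' {H K : Subgroup G}
    (h : ∀ (q : ℕ), q.Prime → ∀ v ∈ H, (∃ k, orderOf v = q ^ k) → v ∈ K) : H ≤ K := by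
  rw [← Subgroup.subgroupOf_eq_top]
  refine Subgroup.eq_top_of_card_eq _ (Nat.dvd_antisymm (Subgroup.card_subgroup_dvd_card _) ?_)
  refine (Nat.dvd_iff_prime_pow_dvd_dvd _ _).2 fun q k hq hk => ?_
  haveI : Fact q.Prime := ⟨hq⟩
  obtain ⟨Q, hQ⟩ := Sylow.exists_subgroup_card_pow_prime q hk
  rw [← hQ]
  refine Subgroup.card_dvd_of_le fun v hv => ?_
  rw [Subgroup.mem_subgroupOf]
  obtain ⟨j, hj⟩ := IsPGroup.iff_orderOf.1 (IsPGroup.of_card hQ) ⟨v, hv⟩
  exact h q hq v v.2 ⟨j, by rw [← hj]; exact (Subgroup.orderOf_mk (v : H) hv).symm ▸ (Subgroup.orderOf_coe v)⟩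

omit [Finite G] in
theorem pow_mul_formula {b u d : G} (h : u * b = d * (b * u)) (hb : Commute d b) (hu : Commute d u) :
    ∀ n : ℕ, (b * u) ^ n = b ^ n * u ^ n * d ^ n.choose 2 := by
  have key : ∀ n : ℕ, u ^ n * b = d ^ n * (b * u ^ n) := by
    intro n
    induction n with
    | zero => simp
    | succ n ih =>
      calc u ^ (n + 1) * b = u * (u ^ n * b) := by rw [pow_succ', mul_assoc]
        _ = u * (d ^ n * (b * u ^ n)) := by rw [ih]
        _ = d ^ n * (u * b) * u ^ n := by rw [← mul_assoc u, ← (hu.pow_left n).eq]; simp [mul_assoc]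
        _ = d ^ (n + 1) * (b * u ^ (n + 1)) := by rw [h, pow_succ d, pow_succ' u]; simp [mul_assoc]
  intro n
  induction n with
  | zero => simp
  | succ n ih =>
    have hdu : Commute (d ^ n.choose 2) (b * u) := ((hb.pow_left _).mul_right (hu.pow_left _))
    calc (b * u) ^ (n + 1) = b ^ n * u ^ n * d ^ n.choose 2 * (b * u) := by rw [pow_succ, ih]
      _ = b ^ n * (u ^ n * b) * u * d ^ n.choose 2 := by rw [mul_assoc (b ^ n * u ^ n), hdu.eq]; simp [mul_assoc]
      _ = b ^ n * (d ^ n * (b * u ^ (n + 1))) * d ^ n.choose 2 := by rw [key, pow_succ u]; simp [mul_assoc]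
      _ = b ^ (n + 1) * u ^ (n + 1) * (d ^ n * d ^ n.choose 2) := by
        rw [((hb.mul_right (hu.pow_right (n + 1))).pow_left n).eq, pow_succ b]; simp [mul_assoc]
      _ = _ := by rw [← pow_add, Nat.choose_succ_succ, Nat.choose_one_right]

variable (hn : ∀ H : Subgroup G, H.Normal)
include hn

omit [Finite G] in
theorem conj_mem_zpowers (a g : G) : g * a * g⁻¹ ∈ Subgroup.zpowers a :=
  (hn _).conj_mem a (Subgroup.mem_zpowers a) g

omit [Finite G] in
theorem comm_mem (a b : G) :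
    a * b * a⁻¹ * b⁻¹ ∈ Subgroup.zpowers a ∧ a * b * a⁻¹ * b⁻¹ ∈ Subgroup.zpowers b := by
  constructor
  · have := mul_mem (Subgroup.mem_zpowers a) (conj_mem_zpowers hn a⁻¹ b |> fun h => Subgroup.zpowers_inv (g := a) ▸ h)
    simpa [mul_assoc] using this
  · exact mul_mem (conj_mem_zpowers hn b a) (inv_mem (Subgroup.mem_zpowers b))

omit [Finite G] in
theorem commute_of_coprime {a b : G} (h : (orderOf a).Coprime (orderOf b)) : a * b = b * a := by
  obtain ⟨h1, h2⟩ := comm_mem hn a b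
  have hd : Disjoint (Subgroup.zpowers a) (Subgroup.zpowers b) :=
    Subgroup.disjoint_of_coprime_natCard (by rwa [Nat.card_zpowers, Nat.card_zpowers])
  have : a * b * a⁻¹ * b⁻¹ = 1 := Subgroup.disjoint_def.1 hd h1 h2
  rw [mul_inv_eq_one, mul_inv_eq_iff_eq_mul] at this
  exact this

theorem exists_quaternion_pair {p : ℕ} [hp : Fact p.Prime] {x y : G} (hx : ∃ i, orderOf x = p ^ i)
    (hy : ∃ i, orderOf y = p ^ i) (hxy : x * y ≠ y * x) :
    p = 2 ∧ ∃ a b : G, orderOf a = 4 ∧ orderOf b = 4 ∧ b * b = a * a ∧ b * a * b⁻¹ = a⁻¹ := by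
  classical
  have hex : ∃ n, ∃ a b : G, orderOf a + orderOf b = n ∧ (∃ i, orderOf a = p ^ i) ∧ (∃ i, orderOf b = p ^ i) ∧
      a * b ≠ b * a ∧ orderOf b ≤ orderOf a := by
    rcases le_total (orderOf y) (orderOf x) with h | h
    · exact ⟨_, x, y, rfl, hx, hy, hxy, h⟩
    · exact ⟨_, y, x, rfl, hy, hx, hxy.symm, h⟩
  obtain ⟨a, b, hsum, ⟨r, hr⟩, ⟨s, hs⟩, hab, hle⟩ := Nat.find_spec hex
  have hmin : ∀ a' b' : G, (∃ i, orderOf a' = p ^ i) → (∃ i, orderOf b' = p ^ i) →
      orderOf a' + orderOf b' < orderOf a + orderOf b → a' * b' = b' * a' := by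
    intro a' b' h1 h2 hlt
    by_contra hne
    rw [hsum] at hlt
    rcases le_total (orderOf b') (orderOf a') with h | h
    · exact Nat.find_min hex hlt ⟨a', b', rfl, h1, h2, hne, h⟩
    · exact Nat.find_min hex hlt ⟨b', a', add_comm _ _, h2, h1, Ne.symm hne, h⟩
  set c := a * b * a⁻¹ * b⁻¹ with hc
  obtain ⟨hca, hcb⟩ := comm_mem hn a b
  have hc1 : c ≠ 1 := fun h => hab (by rwa [hc, mul_inv_eq_one, mul_inv_eq_iff_eq_mul] at h)
  have hcA : Commute c a := by
    obtain ⟨i, hi⟩ := Subgroup.mem_zpowers_iff.1 hca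
    rw [show c = a ^ i from hi.symm]; exact (Commute.refl a).zpow_left i
  have hcB : Commute c b := by
    obtain ⟨i, hi⟩ := Subgroup.mem_zpowers_iff.1 hcb
    rw [show c = b ^ i from hi.symm]; exact (Commute.refl b).zpow_left i
  have hab' : a * b = c * (b * a) := by rw [hc]; group
  have hpow : ∀ n : ℕ, a ^ n * b = c ^ n * (b * a ^ n) := by
    intro n
    induction n with
    | zero => simp
    | succ n ih =>
      calc a ^ (n + 1) * b = a * (a ^ n * b) := by rw [pow_succ', mul_assoc]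
        _ = a * (c ^ n * (b * a ^ n)) := by rw [ih]
        _ = c ^ n * (a * b) * a ^ n := by rw [← mul_assoc a, ← (hcA.pow_left n).eq]; simp [mul_assoc]
        _ = c ^ (n + 1) * (b * a ^ (n + 1)) := by rw [hab', pow_succ c, pow_succ' a]; simp [mul_assoc]
  have hr0 : r ≠ 0 := fun h => hab (by
    rw [h, pow_zero, orderOf_eq_one_iff] at hr; rw [hr]; simp)
  have hs0 : s ≠ 0 := fun h => hab (by
    rw [h, pow_zero, orderOf_eq_one_iff] at hs; rw [hs]; simp)
  have hap : orderOf (a ^ p) = p ^ (r - 1) := by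
    rw [orderOf_pow_of_dvd hp.out.ne_zero (hr ▸ dvd_pow_self p hr0), hr]
    exact Nat.div_eq_of_eq_mul_left hp.out.pos (by rw [← pow_succ, Nat.sub_add_cancel (Nat.pos_of_ne_zero hr0)])
  have hcp : c ^ p = 1 := by
    have h1 := hmin (a ^ p) b ⟨_, hap⟩ ⟨_, hs⟩ (by
      rw [hap, hr]
      exact Nat.add_lt_add_right (Nat.pow_lt_pow_right hp.out.one_lt (by omega)) _)
    rw [hpow p] at h1
    exact mul_eq_right.1 h1
  have hco : orderOf c = p := orderOf_eq_prime hcp hc1
  -- location of c inside cyclic subgroups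
  have hloc : ∀ (w : G) (t : ℕ), orderOf w = p ^ t → c ∈ Subgroup.zpowers w → t ≠ 0 →
      ∃ l : ℤ, c = w ^ (l * (p ^ (t - 1) : ℕ)) ∧ ¬ (p : ℤ) ∣ l := by
    intro w t hw hcw ht
    obtain ⟨l, hl⟩ := Subgroup.mem_zpowers_iff.1 hcw
    have h1 : ((p ^ t : ℕ) : ℤ) ∣ l * p := by
      rw [← hw, orderOf_dvd_iff_zpow_eq_one, zpow_mul, hl, zpow_natCast, hcp]
    obtain ⟨u, hu⟩ := h1
    have h2 : l = u * ((p ^ (t - 1) : ℕ) : ℤ) := by
      have h3 : (p ^ t : ℕ) = p ^ (t - 1) * p := by rw [← pow_succ, Nat.sub_add_cancel (Nat.pos_of_ne_zero ht)]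
      rw [h3] at hu
      push_cast at hu
      have hp0 : (p : ℤ) ≠ 0 := by exact_mod_cast hp.out.ne_zero
      apply mul_right_cancel₀ hp0
      rw [hu]; push_cast; ring
    refine ⟨u, by rw [← h2, hl], fun ⟨v, hv⟩ => hc1 ?_⟩
    have h4 : w ^ ((p ^ t : ℕ) : ℤ) = 1 := by rw [zpow_natCast, ← hw, pow_orderOf_eq_one]
    rw [← hl, h2, hv, show (p : ℤ) * v * ((p ^ (t - 1) : ℕ) : ℤ) = ((p ^ t : ℕ) : ℤ) * v by
      conv_rhs => rw [show t = t - 1 + 1 from (Nat.sub_add_cancel (Nat.pos_of_ne_zero ht)).symm, pow_succ]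
      push_cast; ring, zpow_mul, h4, one_zpow]
  obtain ⟨la, hla, hlap⟩ := hloc a r hr hca hr0
  obtain ⟨lb, hlb, hlbp⟩ := hloc b s hs hcb hs0
  have hsr : s ≤ r := by rw [hr, hs] at hle; exact (Nat.pow_le_pow_iff_right hp.out.one_lt).1 hle
  have hs2 : 2 ≤ s := by
    by_contra h
    have hs1 : s = 1 := by omega
    rw [hs1, pow_one] at hs
    haveI : Fact (Nat.card (Subgroup.zpowers b)).Prime := ⟨by rw [Nat.card_zpowers, hs]; exact hp.out⟩
    have : Subgroup.zpowers c = Subgroup.zpowers b := Subgroup.eq_of_le_of_card_ge (Subgroup.zpowers_le.2 hcb)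
      (by rw [Nat.card_zpowers, Nat.card_zpowers, hs, hco])
    obtain ⟨i, hi⟩ := Subgroup.mem_zpowers_iff.1 (this ▸ Subgroup.mem_zpowers b : b ∈ Subgroup.zpowers c)
    exact hab (hi ▸ (hcA.zpow_left i).eq.symm)
  -- inverse of lb modulo p
  obtain ⟨u, v, huv⟩ : IsCoprime lb (p : ℤ) :=
    ((Nat.prime_iff_prime_int.1 hp.out).coprime_iff_not_dvd.2 hlbp).symm
  set n := p ^ (s - 1) with hndef
  have hbn : b ^ n = c ^ u := by
    have h1 : c ^ u = b ^ ((n : ℤ) * (1 - v * p)) := by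
      rw [hlb, ← zpow_mul]; congr 1
      linear_combination (n : ℤ) * huv
    have h2 : b ^ ((n : ℤ) * (p : ℤ)) = 1 := by
      rw [show (n : ℤ) * (p : ℤ) = ((p ^ s : ℕ) : ℤ) by
        rw [hndef, ← Nat.cast_mul, ← pow_succ, Nat.sub_add_cancel (Nat.pos_of_ne_zero hs0)],
        zpow_natCast, ← hs, pow_orderOf_eq_one]
    rw [h1, show (n : ℤ) * (1 - v * p) = (n : ℤ) + (n : ℤ) * p * (-v) by ring, zpow_add, zpow_mul, h2, one_zpow,
      mul_one, zpow_natCast]
  obtain ⟨k, hk⟩ : ∃ k : ℕ, (k : ℤ) ≡ -(la * u) [ZMOD (p : ℤ)] := by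
    refine ⟨((-(la * u)) % (p : ℤ)).toNat, ?_⟩
    rw [Int.toNat_of_nonneg (Int.emod_nonneg _ (by exact_mod_cast hp.out.ne_zero))]
    exact Int.mod_modEq _ _
  set m := k * p ^ (r - s) with hm
  have ham : (a ^ m) ^ n = (c ^ u)⁻¹ := by
    have e1 : m * n = k * p ^ (r - 1) := by
      rw [hm, hndef, mul_assoc, ← pow_add, show r - s + (s - 1) = r - 1 by omega]
    have e2 : (c ^ u)⁻¹ = a ^ (-(la * u) * ((p ^ (r - 1) : ℕ) : ℤ)) := by
      rw [hla, ← zpow_mul, ← zpow_neg]; congr 1; ring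
    rw [← pow_mul, e1, e2, ← zpow_natCast, zpow_eq_zpow_iff_modEq, hr]
    have := hk.mul_right' (c := ((p ^ (r - 1) : ℕ) : ℤ))
    rw [show (p : ℤ) * ((p ^ (r - 1) : ℕ) : ℤ) = ((p ^ r : ℕ) : ℤ) by
      rw [← Nat.cast_mul, ← pow_succ', Nat.sub_add_cancel (Nat.pos_of_ne_zero hr0)]] at this
    push_cast at this ⊢
    exact this
  have hcm : a ^ m * b = c ^ m * (b * a ^ m) := hpow m
  have hform := pow_mul_formula hcm (hcB.pow_left m) ((hcA.pow_left m).pow_right m) n
  rw [hbn, ham, mul_inv_cancel, one_mul] at hform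
  -- the new b does not commute with a
  have hne' : a * (b * a ^ m) ≠ b * a ^ m * a := fun h => hab (by
    have h1 : a * b * a ^ m = b * a * a ^ m := by
      rw [mul_assoc, h, mul_assoc, ← pow_succ, pow_succ', ← mul_assoc]
    exact mul_right_cancel h1)
  have hndvd : ¬ p ∣ m * n.choose 2 := by
    intro hd
    have h1 : (b * a ^ m) ^ n = 1 := by
      rw [hform, ← pow_mul, ← orderOf_dvd_iff_pow_eq_one, hco]; exact hd
    obtain ⟨j, hj1, hj⟩ := (Nat.dvd_prime_pow hp.out).1 (orderOf_dvd_of_pow_eq_one h1)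
    refine hne' (hmin a (b * a ^ m) ⟨r, hr⟩ ⟨j, hj⟩ ?_)
    rw [hj, hs]
    exact Nat.add_lt_add_left (Nat.pow_lt_pow_right hp.out.one_lt (by omega)) _
  have hpn : p ∣ n := dvd_pow_self p (by omega)
  have hchoose : 2 * n.choose 2 = n * (n - 1) := by
    rw [Nat.choose_two_right, Nat.mul_div_cancel' (Nat.even_mul_pred_self n).two_dvd]
  have hp2 : p = 2 := by
    by_contra hne
    refine hndvd (dvd_mul_of_dvd_right ?_ _)
    exact (Nat.Coprime.dvd_of_dvd_mul_left ((Nat.coprime_primes hp.out Nat.prime_two).2 hne)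
      (hchoose ▸ dvd_mul_of_dvd_left hpn (n - 1)))
  subst hp2
  have hs_eq : s = 2 := by
    by_contra hne
    refine hndvd (dvd_mul_of_dvd_right ?_ _)
    have h4 : 4 ∣ n := by
      rw [hndef, show (4 : ℕ) = 2 ^ 2 by norm_num]; exact pow_dvd_pow 2 (by omega)
    obtain ⟨w, hw⟩ := h4
    have h5 : 2 * n.choose 2 = 2 * (2 * w * (n - 1)) := by rw [hchoose, hw]; ring
    exact ⟨w * (n - 1), by rw [Nat.eq_of_mul_eq_mul_left two_pos h5]; ring⟩
  have hr_eq : r = 2 := by
    by_contra hne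
    refine hndvd (dvd_mul_of_dvd_left ?_ _)
    rw [hm]; exact dvd_mul_of_dvd_right (dvd_pow_self 2 (by omega)) _
  subst hr_eq hs_eq
  have hr4 : orderOf a = 4 := by rw [hr]; norm_num
  have hs4 : orderOf b = 4 := by rw [hs]; norm_num
  have hsq : ∀ (w : G) (l : ℤ), orderOf w = 4 → c = w ^ (l * ((2 ^ (2 - 1) : ℕ) : ℤ)) → ¬ ((2 : ℕ) : ℤ) ∣ l → c = w * w := by
    intro w l hw hl hl2
    obtain ⟨t, rfl⟩ : Odd l := by
      rw [← Int.not_even_iff_odd, even_iff_two_dvd]; simpa using hl2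
    rw [hl, show ((2 * t + 1) * ((2 ^ (2 - 1) : ℕ) : ℤ)) = 4 * t + 2 by push_cast; ring, zpow_add, zpow_mul,
      show w ^ (4 : ℤ) = 1 by rw [show (4 : ℤ) = ((4 : ℕ) : ℤ) by norm_num, zpow_natCast, ← hw, pow_orderOf_eq_one],
      one_zpow, one_mul, zpow_two]
  have ha2 := hsq a la hr4 hla hlap
  have hb2 := hsq b lb hs4 hlb hlbp
  refine ⟨rfl, a, b, hr4, hs4, hb2.symm.trans ha2, ?_⟩
  have h4 : a * a * (a * a) = 1 := by
    rw [← pow_orderOf_eq_one a, hr4, ← sq, ← sq, ← pow_mul]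
  have hcinv : c⁻¹ = c := by rw [ha2]; exact inv_eq_of_mul_eq_one_right h4
  have h6 : b * a * b⁻¹ = c⁻¹ * a := by
    rw [mul_inv_eq_iff_eq_mul, mul_assoc c⁻¹ a b, hab', inv_mul_cancel_left]
  rw [h6, hcinv, ha2]
  refine eq_inv_of_mul_eq_one_left ?_
  rw [mul_assoc (a * a) a a]; exact h4

end Aux


/-- A finite non-abelian group in which every subgroup is normal is the internal direct product of a subgroup isomorphic to the quaternion group of order `8`, an elementary abelian `2`-subgroup and an abelian subgroup of odd order. -/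
theorem result {G : Type*} [Group G] [Finite G] (hna : ¬ IsMulCommutative G) (hn : ∀ H : Subgroup G, H.Normal) : ∃ Q E A : Subgroup G, Nonempty (Q ≃* QuaternionGroup 2) ∧ Cfsg.IsElementaryAbelian 2 E ∧ IsMulCommutative A ∧ Odd (Nat.card A) ∧ E ⊓ A = ⊥ ∧ Q ⊓ (E ⊔ A) = ⊥ ∧ Q ⊔ (E ⊔ A) = ⊤ := by
  classical
  -- a pair of non-commuting p-elements
  obtain ⟨p, hp, x, y, hx, hy, hxy⟩ : ∃ p, p.Prime ∧ ∃ x y : G, (∃ i, orderOf x = p ^ i) ∧
      (∃ i, orderOf y = p ^ i) ∧ x * y ≠ y * x := by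
    by_contra hcon
    push Not at hcon
    apply hna
    refine ⟨⟨fun a b => ?_⟩⟩
    have key : ∀ q, q.Prime → ∀ v : G, (∃ k, orderOf v = q ^ k) → v ∈ Subgroup.center G := by
      intro q hq v hv
      rw [Subgroup.mem_center_iff]
      intro g
      have hle : (⊤ : Subgroup G) ≤ Subgroup.centralizer {v} := le_of_ppow' fun r hr w _ hw => by
        rw [Subgroup.mem_centralizer_singleton_iff]
        by_cases hrq : r = q
        · subst hrq; exact hcon r hr w v hw hv
        · obtain ⟨i, hi⟩ := hv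
          obtain ⟨j, hj⟩ := hw
          exact commute_of_coprime hn (by rw [hi, hj]; exact Nat.Coprime.pow _ _ ((Nat.coprime_primes hr hq).2 hrq))
      exact Subgroup.mem_centralizer_singleton_iff.1 (hle (Subgroup.mem_top g))
    have hle : (⊤ : Subgroup G) ≤ Subgroup.center G := le_of_ppow' fun q hq v _ hv => key q hq v hv
    exact Subgroup.mem_center_iff.1 (hle (Subgroup.mem_top b)) a
  haveI : Fact p.Prime := ⟨hp⟩
  haveI h2f : Fact (Nat.Prime 2) := ⟨Nat.prime_two⟩
  obtain ⟨-, a, b, ha, hb, hbb, hbab⟩ := exists_quaternion_pair hn hx hy hxy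
  have ha4 : a ^ 4 = 1 := ha ▸ pow_orderOf_eq_one a
  set c := a * a with hc
  have hcc : c * c = 1 := by rw [hc, ← sq, ← sq, ← pow_mul]; exact ha4
  -- the hom from the quaternion group
  let f : QuaternionGroup 2 → G := fun q => match q with
    | .a i => a ^ i.val
    | .xa i => b * a ^ i.val
  have hval : ∀ i j : ZMod (2 * 2), a ^ (i + j).val = a ^ i.val * a ^ j.val := by
    intro i j
    rw [← pow_add, pow_eq_pow_iff_modEq, ha, ZMod.val_add]
    exact Nat.mod_modEq _ _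
  have hcom : ∀ n : ℕ, a ^ n * b = b * (a ^ n)⁻¹ := by
    intro n
    have h1 : b * a ^ n * b⁻¹ = (a ^ n)⁻¹ := by rw [← conj_pow, hbab, inv_pow]
    have h2 : b * a ^ n = (a ^ n)⁻¹ * b := mul_inv_eq_iff_eq_mul.1 h1
    calc a ^ n * b = a ^ n * (b * a ^ n) * (a ^ n)⁻¹ := by group
      _ = b * (a ^ n)⁻¹ := by rw [h2]; group
  have hsub : ∀ i j : ZMod (2 * 2), a ^ (j - i).val = (a ^ i.val)⁻¹ * a ^ j.val := by
    intro i j
    rw [eq_inv_mul_iff_mul_eq, ← hval, add_sub_cancel]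
  have hfmul : ∀ q r, f (q * r) = f q * f r := by
    rintro (i | i) (j | j)
    · exact hval i j
    · show b * a ^ (j - i).val = a ^ i.val * (b * a ^ j.val)
      rw [hsub, ← mul_assoc (a ^ i.val), hcom, mul_assoc]
    · show b * a ^ (i + j).val = b * a ^ i.val * a ^ j.val
      rw [hval, mul_assoc]
    · show a ^ (((2 : ℕ) : ZMod (2 * 2)) + j - i).val = b * a ^ i.val * (b * a ^ j.val)
      rw [← mul_assoc, mul_assoc b (a ^ i.val) b, hcom, ← mul_assoc, hbb, hsub, hval,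
        show (((2 : ℕ) : ZMod (2 * 2))).val = 2 from rfl, pow_two, ← mul_assoc, ← mul_assoc]
      congr 1
      rw [mul_assoc]
      exact ((((Commute.refl a).pow_left i.val).inv_left.mul_right ((Commute.refl a).pow_left i.val).inv_left)).eq
  let φ : QuaternionGroup 2 →* G := MonoidHom.mk' f hfmul
  have hφ : Function.Injective φ := by
    rw [injective_iff_map_eq_one]
    rintro (i | i) h
    · have h1 : a ^ i.val = 1 := h
      have h2 := orderOf_dvd_of_pow_eq_one h1
      rw [ha] at h2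
      have h3 : i.val = 0 := Nat.eq_zero_of_dvd_of_lt h2 i.val_lt
      rw [QuaternionGroup.one_def]
      congr 1
      exact (ZMod.val_eq_zero i).1 h3
    · exfalso
      have h1 : b * a ^ i.val = 1 := h
      have h2 : b = (a ^ i.val)⁻¹ := eq_inv_of_mul_eq_one_left h1
      have h3 : b * a * b⁻¹ = a := by
        rw [h2]; group
      rw [hbab] at h3
      have h4 := orderOf_dvd_of_pow_eq_one (show a ^ 2 = 1 by rw [sq]; exact inv_eq_iff_mul_eq_one.1 h3)
      rw [ha] at h4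
      exact absurd (Nat.le_of_dvd two_pos h4) (by norm_num)
  set Q := φ.range with hQ
  have haQ : a ∈ Q := ⟨QuaternionGroup.a 1, pow_one a⟩
  have hbQ : b ∈ Q := ⟨QuaternionGroup.xa 0, by show b * a ^ 0 = b; rw [pow_zero, mul_one]⟩
  set C := Subgroup.centralizer ({a, b} : Set G) with hC
  have hmemC : ∀ w, w ∈ C ↔ w * a = a * w ∧ w * b = b * w := by
    intro w
    rw [hC, Subgroup.mem_centralizer_iff]
    constructor
    · exact fun h => ⟨(h a (by simp)).symm, (h b (by simp)).symm⟩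
    · rintro ⟨h1, h2⟩ z (rfl | rfl)
      exacts [h1.symm, h2.symm]
  have hconj : ∀ w g : G, orderOf w = 4 → g * w * g⁻¹ = w ∨ g * w * g⁻¹ = w⁻¹ := by
    intro w g hw
    have hw4 : w ^ 4 = 1 := hw ▸ pow_orderOf_eq_one w
    obtain ⟨n, hn4, hn'⟩ : ∃ n, n < 4 ∧ w ^ n = g * w * g⁻¹ := by
      have h1 := mem_powers_iff_mem_zpowers.2 (conj_mem_zpowers hn w g)
      rw [mem_powers_iff_mem_range_orderOf, Finset.mem_image] at h1
      obtain ⟨n, hn1, hn2⟩ := h1
      rw [hw, Finset.mem_range] at hn1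
      exact ⟨n, hn1, hn2⟩
    have ho : orderOf (w ^ n) = 4 := by
      rw [hn', show g * w * g⁻¹ = MulAut.conj g w from rfl, MulEquiv.orderOf_eq, hw]
    rw [← hn']
    interval_cases n
    · rw [pow_zero, orderOf_one] at ho; exact absurd ho (by norm_num)
    · left; rw [pow_one]
    · exfalso
      have h2 := orderOf_dvd_of_pow_eq_one (show (w ^ 2) ^ 2 = 1 by rw [← pow_mul]; exact hw4)
      rw [ho] at h2; exact absurd (Nat.le_of_dvd two_pos h2) (by norm_num)
    · right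
      exact eq_inv_of_mul_eq_one_left (by rw [← pow_succ]; exact hw4)
  have hdec : ∀ g : G, ∃ q ∈ Q, ∃ w ∈ C, q * w = g := by
    intro g
    obtain ⟨q1, hq1, hq1a⟩ : ∃ q ∈ Q, q * g * a * (q * g)⁻¹ = a := by
      rcases hconj a g ha with h | h
      · exact ⟨1, one_mem _, by rw [one_mul]; exact h⟩
      · refine ⟨b, hbQ, ?_⟩
        calc b * g * a * (b * g)⁻¹ = b * (g * a * g⁻¹) * b⁻¹ := by group
          _ = a := by rw [h, ← conj_inv, hbab, inv_inv]
    obtain ⟨q2, hq2, hq2a, hq2b⟩ : ∃ q ∈ Q, q * (q1 * g) * a * (q * (q1 * g))⁻¹ = a ∧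
        q * (q1 * g) * b * (q * (q1 * g))⁻¹ = b := by
      rcases hconj b (q1 * g) hb with h | h
      · exact ⟨1, one_mem _, by rw [one_mul]; exact hq1a, by rw [one_mul]; exact h⟩
      · refine ⟨a, haQ, ?_, ?_⟩
        · calc a * (q1 * g) * a * (a * (q1 * g))⁻¹ = a * (q1 * g * a * (q1 * g)⁻¹) * a⁻¹ := by group
            _ = a := by rw [hq1a]; group
        · have hb4 : b * b * (b * b) = 1 := by rw [hbb]; exact hcc
          have h2 : a * b = b * a⁻¹ := by have := hcom 1; rwa [pow_one] at this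
          calc a * (q1 * g) * b * (a * (q1 * g))⁻¹ = a * (q1 * g * b * (q1 * g)⁻¹) * a⁻¹ := by group
            _ = a * b⁻¹ * a⁻¹ := by rw [h]
            _ = (a * b * a⁻¹)⁻¹ := by group
            _ = (b * (a * a)⁻¹)⁻¹ := by rw [h2]; group
            _ = b * b * b⁻¹ := by rw [mul_inv_rev, inv_inv, hbb]
            _ = b := by group
    refine ⟨(q2 * q1)⁻¹, inv_mem (mul_mem hq2 hq1), q2 * q1 * g, (hmemC _).2 ⟨?_, ?_⟩, by group⟩
    · rw [mul_assoc q2 q1 g]; exact mul_inv_eq_iff_eq_mul.1 hq2a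
    · rw [mul_assoc q2 q1 g]; exact mul_inv_eq_iff_eq_mul.1 hq2b
  -- exponent two on the 2-elements of C
  have hexp : ∀ w ∈ C, w ^ 4 = 1 → w ^ 2 = 1 := by
    intro w hw hw4
    obtain ⟨hwa, hwb⟩ := (hmemC w).1 hw
    obtain ⟨-, hz⟩ := comm_mem hn a (b * w)
    have hcm : a * (b * w) * a⁻¹ * (b * w)⁻¹ = c := by
      calc a * (b * w) * a⁻¹ * (b * w)⁻¹ = a * b * (w * a⁻¹ * w⁻¹) * b⁻¹ := by group
        _ = a * (b * a * b⁻¹)⁻¹ := by
            rw [show w * a⁻¹ * w⁻¹ = a⁻¹ by rw [← conj_inv, hwa, mul_inv_cancel_right]]; group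
        _ = c := by rw [hbab, inv_inv]
    rw [hcm] at hz
    have hbw : (b * w) ^ 2 = c * w ^ 2 := by
      rw [(show Commute b w from hwb.symm).mul_pow, sq b, hbb]
    have hbw4 : (b * w) ^ 4 = 1 := by
      rw [show (4 : ℕ) = 2 * 2 from rfl, pow_mul, hbw, sq (c * w ^ 2)]
      have hcw : Commute c (w ^ 2) := ((show Commute w a from hwa).symm.mul_left (show Commute w a from hwa).symm).pow_right 2
      calc c * w ^ 2 * (c * w ^ 2) = c * c * (w ^ 2 * w ^ 2) := by
            rw [mul_assoc c (w ^ 2), ← mul_assoc (w ^ 2) c, ← hcw.eq]; simp [mul_assoc]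
        _ = 1 := by rw [hcc, ← pow_add, hw4, one_mul]
    have hcne : a * b ≠ b * a := fun h => by
      have h3 : b * a * b⁻¹ = a := by rw [← h, mul_inv_cancel_right]
      rw [hbab] at h3
      have h4 := orderOf_dvd_of_pow_eq_one (show a ^ 2 = 1 by rw [sq]; exact inv_eq_iff_mul_eq_one.1 h3)
      rw [ha] at h4
      exact absurd (Nat.le_of_dvd two_pos h4) (by norm_num)
    obtain ⟨i, hi⟩ := Subgroup.mem_zpowers_iff.1 hz
    rcases Int.even_or_odd i with ⟨t, rfl⟩ | ⟨t, rfl⟩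
    · rw [← two_mul, zpow_mul] at hi
      rcases Int.even_or_odd t with ⟨r, rfl⟩ | ⟨r, rfl⟩
      · exfalso
        rw [← two_mul, ← zpow_mul, ← mul_assoc, zpow_mul,
          show ((2 : ℤ) * 2) = ((4 : ℕ) : ℤ) by norm_num, zpow_natCast, hbw4, one_zpow] at hi
        rw [hc] at hi
        exact absurd (Nat.le_of_dvd two_pos (ha ▸ orderOf_dvd_of_pow_eq_one (show a ^ 2 = 1 by rw [sq, ← hi]))) (by norm_num)
      · rw [zpow_add_one, zpow_mul] at hi
        have h8 : ((b * w) ^ (2 : ℤ)) ^ (2 : ℤ) = 1 := by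
          rw [show (2 : ℤ) = ((2 : ℕ) : ℤ) from rfl, zpow_natCast, zpow_natCast, ← pow_mul]; exact hbw4
        rw [h8, one_zpow, one_mul, show (2 : ℤ) = ((2 : ℕ) : ℤ) from rfl, zpow_natCast, hbw] at hi
        exact mul_eq_left.1 hi
    · exfalso
      -- c would generate ⟨b w⟩
      have h9 : Commute ((b * w) ^ (2 * t + 1)) a := by rw [hi]; exact (Commute.refl a).mul_left (Commute.refl a)
      have h10 : Commute ((b * w) ^ (2 * t)) a := by
        have hb2a : Commute ((b * w) ^ 2) a := by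
          rw [hbw]; exact ((Commute.refl a).mul_left (Commute.refl a)).mul_left ((show Commute w a from hwa).pow_left 2)
        rw [zpow_mul, show (2 : ℤ) = ((2 : ℕ) : ℤ) from rfl, zpow_natCast]
        exact hb2a.zpow_left t
      have h11 : Commute (b * w) a := by
        have := h10.inv_left.mul_left h9
        rwa [← zpow_neg, ← zpow_add, neg_add_cancel_left, zpow_one] at this
      apply hcne
      have h12 : b * a * w = a * b * w := by
        rw [mul_assoc b a w, ← hwa, ← mul_assoc, h11.eq, mul_assoc]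
      exact (mul_right_cancel h12).symm
  have hpart2 : ∀ w ∈ C, (∃ k, orderOf w = 2 ^ k) → w ^ 2 = 1 := by
    intro w hw ⟨k, hk⟩
    induction k using Nat.strong_induction_on generalizing w with
    | _ k IH =>
      by_cases hk2 : k ≤ 2
      · refine hexp w hw (orderOf_dvd_iff_pow_eq_one.1 ?_)
        rw [hk, show (4 : ℕ) = 2 ^ 2 by norm_num]; exact pow_dvd_pow 2 hk2
      · exfalso
        have h1 : orderOf (w ^ 2) = 2 ^ (k - 1) := by
          rw [orderOf_pow_of_dvd two_ne_zero (hk ▸ dvd_pow_self 2 (by omega)), hk]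
          exact Nat.div_eq_of_eq_mul_left two_pos (by rw [← pow_succ, Nat.sub_add_cancel (by omega)])
        have h2 := IH (k - 1) (by omega) (w ^ 2) (pow_mem hw 2) h1
        have h3 := orderOf_dvd_of_pow_eq_one h2
        rw [h1, show (2 : ℕ) = 2 ^ 1 from rfl, ← pow_mul, one_mul, Nat.pow_dvd_pow_iff_le_right (by norm_num)] at h3
        omega
  have hCab : ∀ v ∈ C, ∀ w ∈ C, v * w = w * v := by
    have key : ∀ q, q.Prime → ∀ v ∈ C, (∃ k, orderOf v = q ^ k) → C ≤ Subgroup.centralizer {v} := by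
      intro q hq v hv hvk
      refine le_of_ppow' fun r hr w hw hwk => ?_
      rw [Subgroup.mem_centralizer_singleton_iff]
      by_cases hrq : r = q
      · subst hrq
        by_contra hne
        haveI : Fact r.Prime := ⟨hr⟩
        obtain ⟨hr2, -⟩ := exists_quaternion_pair hn hwk hvk hne
        subst hr2
        apply hne
        have h1 := hpart2 v hv hvk
        have h2 := hpart2 w hw hwk
        have hwv : (w * v) ^ 2 = 1 := by
          obtain ⟨j, hj⟩ := Subgroup.mem_zpowers_iff.1 (conj_mem_zpowers hn v w)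
          rcases Int.even_or_odd j with ⟨t, rfl⟩ | ⟨t, rfl⟩
          · rw [← two_mul, zpow_mul, zpow_two, ← sq, h1, one_zpow, eq_comm, conj_eq_one_iff] at hj
            rw [hj, mul_one, h2]
          · rw [zpow_add_one, zpow_mul, zpow_two, ← sq, h1, one_zpow, one_mul, eq_mul_inv_iff_mul_eq] at hj
            rw [(show Commute w v from hj.symm).mul_pow, h1, h2, one_mul]
        rw [sq] at h1 h2 hwv
        calc w * v = (w * v)⁻¹ := eq_inv_of_mul_eq_one_left hwv
          _ = v⁻¹ * w⁻¹ := mul_inv_rev _ _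
          _ = v * w := by rw [inv_eq_of_mul_eq_one_right h1, inv_eq_of_mul_eq_one_right h2]
      · obtain ⟨i, hi⟩ := hvk
        obtain ⟨j, hj⟩ := hwk
        exact commute_of_coprime hn (by rw [hi, hj]; exact Nat.Coprime.pow _ _ ((Nat.coprime_primes hr hq).2 hrq))
    intro v hv w hw
    have hle : C ≤ Subgroup.centralizer (C : Set G) := le_of_ppow' fun q hq u hu huk => by
      rw [Subgroup.mem_centralizer_iff]
      intro z hz
      exact Subgroup.mem_centralizer_singleton_iff.1 (key q hq u hu huk hz)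
    exact (Subgroup.mem_centralizer_iff.1 (hle hv) w hw).symm
  let E0 : Subgroup G :=
    { carrier := {w | w ∈ C ∧ w ^ 2 = 1}
      one_mem' := ⟨one_mem _, one_pow _⟩
      mul_mem' := fun {v w} hv hw => ⟨mul_mem hv.1 hw.1, by
        rw [(show Commute v w from hCab v hv.1 w hw.1).mul_pow, hv.2, hw.2, one_mul]⟩
      inv_mem' := fun {v} hv => ⟨inv_mem hv.1, by rw [inv_pow, hv.2, inv_one]⟩ }
  obtain ⟨k2, m, hm, hcard⟩ := Nat.exists_eq_pow_mul_and_not_dvd (Nat.card_pos (α := G)).ne' 2 (by norm_num)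
  let A : Subgroup G :=
    { carrier := {w | w ∈ C ∧ w ^ m = 1}
      one_mem' := ⟨one_mem _, one_pow _⟩
      mul_mem' := fun {v w} hv hw => ⟨mul_mem hv.1 hw.1, by
        rw [(show Commute v w from hCab v hv.1 w hw.1).mul_pow, hv.2, hw.2, one_mul]⟩
      inv_mem' := fun {v} hv => ⟨inv_mem hv.1, by rw [inv_pow, hv.2, inv_one]⟩ }
  have hcC : c ∈ C := by
    rw [hmemC]
    refine ⟨by rw [hc, mul_assoc], ?_⟩
    show c * b = b * c
    rw [← hbb, mul_assoc]
  have hc1 : c ≠ 1 := fun h => by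
    have h4 := orderOf_dvd_of_pow_eq_one (show a ^ 2 = 1 by rw [sq]; exact h)
    rw [ha] at h4
    exact absurd (Nat.le_of_dvd two_pos h4) (by norm_num)
  have hcE0 : c ∈ E0 := ⟨hcC, by rw [sq]; exact hcc⟩
  obtain ⟨E, ⟨hEle, hcE⟩, hEmax⟩ := (Set.toFinite {E : Subgroup G | E ≤ E0 ∧ c ∉ E}).exists_maximal
    ⟨⊥, bot_le, by rwa [Subgroup.mem_bot]⟩
  have hE0dec : ∀ w ∈ E0, w ∈ E ∨ c * w ∈ E := by
    intro w hw
    by_cases hwE : w ∈ E
    · exact Or.inl hwE
    right
    let E1 : Subgroup G :=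
      { carrier := {v | v ∈ E0 ∧ (v ∈ E ∨ w * v ∈ E)}
        one_mem' := ⟨one_mem _, Or.inl (one_mem _)⟩
        mul_mem' := fun {u v} hu hv => ⟨mul_mem hu.1 hv.1, by
          have hcm : w * u = u * w := hCab w hw.1 u hu.1.1
          have hww : w * w = 1 := by rw [← sq]; exact hw.2
          rcases hu.2 with h1 | h1 <;> rcases hv.2 with h2 | h2
          · exact Or.inl (mul_mem h1 h2)
          · right; have := mul_mem h1 h2; rwa [← mul_assoc, ← hcm, mul_assoc] at this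
          · right; have := mul_mem h1 h2; rwa [mul_assoc] at this
          · left
            have := mul_mem h1 h2
            rwa [hcm, mul_assoc, ← mul_assoc w w, hww, one_mul] at this⟩
        inv_mem' := fun {u} hu => ⟨inv_mem hu.1, by
          have hcm : w * u⁻¹ = u⁻¹ * w⁻¹ := by
            rw [show w⁻¹ = w from inv_eq_of_mul_eq_one_right (by rw [← sq]; exact hw.2)]
            exact hCab w hw.1 _ (inv_mem hu.1.1)
          rcases hu.2 with h1 | h1
          · exact Or.inl (inv_mem h1)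
          · right; have := inv_mem h1; rwa [mul_inv_rev, ← hcm] at this⟩ }
    have hc_in : c ∈ E1 := by
      by_contra hcn
      have hle : E1 ≤ E := hEmax ⟨fun v hv => hv.1, hcn⟩ (fun v hv => ⟨hEle hv, Or.inl hv⟩)
      exact hwE (hle ⟨hw, Or.inr (by rw [← sq, hw.2]; exact one_mem _)⟩)
    rw [hCab c hcC w hw.1]
    exact hc_in.2.resolve_left hcE
  refine ⟨Q, E, A, ⟨(MonoidHom.ofInjective hφ).symm⟩, ⟨⟨⟨fun u v => ?_⟩⟩, fun v hv => (hEle hv).2⟩,
    ⟨⟨fun u v => Subtype.ext (hCab _ u.2.1 _ v.2.1)⟩⟩, ?_, ?_, ?_, ?_⟩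
  · exact Subtype.ext (hCab _ (hEle u.2).1 _ (hEle v.2).1)
  · rw [Nat.odd_iff]
    by_contra h0
    have h2 : 2 ∣ Nat.card A := by omega
    obtain ⟨z, hz⟩ := exists_prime_orderOf_dvd_card' 2 h2
    have h3 : orderOf (z : G) ∣ m := orderOf_dvd_of_pow_eq_one z.2.2
    rw [Subgroup.orderOf_coe, hz] at h3
    exact hm h3
  · rw [eq_bot_iff]
    rintro v ⟨hvE, -, hvm⟩
    rw [Subgroup.mem_bot, ← orderOf_eq_one_iff]
    exact Nat.eq_one_of_dvd_coprimes (Nat.prime_two.coprime_iff_not_dvd.2 hm)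
      (orderOf_dvd_of_pow_eq_one (hEle hvE).2) (orderOf_dvd_of_pow_eq_one hvm)
  · rw [eq_bot_iff]
    rintro v ⟨hvQ, hvEA⟩
    rw [Subgroup.mem_bot]
    obtain ⟨q, rfl⟩ := hvQ
    have hEA : E ⊔ A ≤ C := sup_le (fun w hw => (hEle hw).1) (fun w hw => hw.1)
    obtain ⟨hqa, hqb⟩ := (hmemC _).1 (hEA hvEA)
    have hq : q = 1 ∨ q = QuaternionGroup.a 2 := by
      have h1 : q * QuaternionGroup.a 1 = QuaternionGroup.a 1 * q := hφ (by
        rw [map_mul, map_mul]; show φ q * a ^ 1 = a ^ 1 * φ q; rw [pow_one]; exact hqa)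
      have h2 : q * QuaternionGroup.xa 0 = QuaternionGroup.xa 0 * q := hφ (by
        rw [map_mul, map_mul]; show φ q * (b * a ^ 0) = b * a ^ 0 * φ q; rw [pow_zero, mul_one]; exact hqb)
      exact quat_two_center q h1 h2
    rcases hq with rfl | rfl
    · exact map_one φ
    exfalso
    have hval2 : φ (QuaternionGroup.a 2) = c := by show a ^ 2 = c; rw [sq]
    rw [hval2] at hvEA
    haveI := hn E
    obtain ⟨e, he, t, ht, het⟩ := Subgroup.mem_sup_of_normal_left.1 hvEA
    have ht1 : t = 1 := by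
      rw [← orderOf_eq_one_iff]
      refine Nat.eq_one_of_dvd_coprimes (Nat.prime_two.coprime_iff_not_dvd.2 hm) ?_ (orderOf_dvd_of_pow_eq_one ht.2)
      refine orderOf_dvd_of_pow_eq_one ?_
      have : t = e⁻¹ * c := by rw [← het, inv_mul_cancel_left]
      rw [this]; exact (E0.mul_mem (inv_mem (hEle he)) hcE0).2
    rw [ht1, mul_one] at het
    exact hcE (het ▸ he)
  · rw [eq_top_iff]
    intro g _
    obtain ⟨q, hq, w, hw, rfl⟩ := hdec g
    refine mul_mem (Subgroup.mem_sup_left hq) ?_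
    obtain ⟨u, v, hu, hv, huv, hu2, hvm⟩ := Cfsg.Agent.Solv.exists_split_of_coprime
      (g := w) (a := 2 ^ k2) (b := m) ((Nat.prime_two.coprime_iff_not_dvd.2 hm).pow_left k2)
      (by rw [← hcard]; exact pow_card_eq_one')
    rw [← huv]
    refine mul_mem ?_ (Subgroup.mem_sup_right (Subgroup.mem_sup_right ⟨Subgroup.zpowers_le.2 hw hv, hvm⟩))
    obtain ⟨i, -, hi⟩ := (Nat.dvd_prime_pow Nat.prime_two).1 (orderOf_dvd_of_pow_eq_one hu2)
    have huC := Subgroup.zpowers_le.2 hw hu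
    rcases hE0dec u ⟨huC, hpart2 u huC ⟨i, hi⟩⟩ with h | h
    · exact Subgroup.mem_sup_right (Subgroup.mem_sup_left h)
    · have h5 := mul_mem (Subgroup.mem_sup_left (T := E ⊔ A) (show c ∈ Q from mul_mem haQ haQ))
        (Subgroup.mem_sup_right (S := Q) (Subgroup.mem_sup_left (T := A) h))
      rwa [← mul_assoc, hcc, one_mul] at h5

end Cfsg.Agent.S4211
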