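import Cfsg.Statements.S0803
import Cfsg.Agent.Lib.Classical.PSL2Poly

set_option autoImplicit false
open Cfsg

namespace Cfsg.Agent.S0803

/-- PSL_2(q) has a subgroup isomorphic to S_4 iff q² ≡ 1 (mod 16). -/
theorem result {F : Type*} [Field F] [Fintype F] {q : ℕ} (hF : Fintype.card F = q) : (∃ H : Subgroup (Matrix.ProjectiveSpecialLinearGroup (Fin 2) F), Nonempty (H ≃* Equiv.Perm (Fin 4))) ↔ q ^ 2 % 16 = 1 := by
  classical
  subst hF
  have hiff : Fintype.card F ^ 2 % 16 = 1 ↔ Fintype.card F % 8 = 1 ∨ Fintype.card F % 8 = 7 := by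
    rw [show Fintype.card F % 8 = Fintype.card F % 16 % 8 by omega, Nat.pow_mod]
    have : Fintype.card F % 16 < 16 := Nat.mod_lt _ (by norm_num)
    interval_cases Fintype.card F % 16 <;> decide
  rw [hiff]
  constructor
  · rintro ⟨H, ⟨e⟩⟩
    by_cases h2 : (2 : F) = 0
    · exfalso
      obtain ⟨p, hchar⟩ := CharP.exists F
      have : Fact p.Prime := ⟨CharP.char_is_prime F p⟩
      obtain ⟨g, hg⟩ : ∃ g : Equiv.Perm (Fin 4), orderOf g = 4 := by
        have : Fact (Nat.Prime 2) := ⟨Nat.prime_two⟩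
        exact ⟨Equiv.swap 0 1 * Equiv.swap 1 2 * Equiv.swap 2 3,
          orderOf_eq_prime_pow (p := 2) (n := 1) (by decide) (by decide)⟩
      have hy : orderOf ((e.symm g : H) : Matrix.ProjectiveSpecialLinearGroup (Fin 2) F) = 4 := by
        rw [Subgroup.orderOf_coe, e.symm.orderOf_eq, hg]
      have hev := Cfsg.Agent.Small.SL2C.two_dvd_iff.mpr h2
      have := Fintype.one_lt_card (α := F)
      have hgcd : Nat.gcd 2 (Fintype.card F - 1) = 1 :=
        Nat.coprime_two_left.mpr (Nat.odd_iff.mpr (by omega))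
      rcases Cfsg.Agent.Small.SL2C.orderOf_dvd p
        ((e.symm g : H) : Matrix.ProjectiveSpecialLinearGroup (Fin 2) F) with h | h | h <;> rw [hy] at h
      · have hp4 := Nat.le_of_dvd (Nat.Prime.pos Fact.out) h
        exact absurd (Nat.prime_dvd_prime_iff_eq Nat.prime_two Fact.out |>.mp
          (dvd_trans (by norm_num) h)) (by omega)
      · rw [hgcd] at h; omega
      · rw [hgcd] at h; omega
    · have hodd := Cfsg.Agent.Classical.SL2Four.card_odd_of_two_ne_zero h2
      by_contra hcon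
      have h8 : Fintype.card F % 8 = 3 ∨ Fintype.card F % 8 = 5 := by omega
      have : Fact (Nat.Prime 2) := ⟨Nat.prime_two⟩
      obtain ⟨S⟩ : Nonempty (Sylow 2 (Matrix.ProjectiveSpecialLinearGroup (Fin 2) F)) := inferInstance
      have hS := Cfsg.Agent.Classical.SL2Four.sylow_psl_klein h2 h8 S
      have hH : Nat.card H = 24 := by
        rw [Nat.card_congr e.toEquiv, Nat.card_perm, Nat.card_fin]; rfl
      have h' : 2 ^ 3 ∣ Nat.card (S : Subgroup (Matrix.ProjectiveSpecialLinearGroup (Fin 2) F)) :=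
        S.pow_dvd_card_of_pow_dvd_card
          ((show 2 ^ 3 ∣ Nat.card H by rw [hH]; norm_num).trans (Subgroup.card_subgroup_dvd_card H))
      rw [IsKleinFour.card_four] at h'
      omega
  · intro h8
    have h2 : (2 : F) ≠ 0 := fun h => by
      have := Cfsg.Agent.Small.SL2C.two_dvd_iff.mpr h; omega
    obtain ⟨H, ⟨-, -, h⟩ | ⟨-, h, -⟩⟩ := Cfsg.Agent.Classical.SL2Four.exists_normalizer_odd (F := F) h2
    · omega
    · exact ⟨H, h⟩

end Cfsg.Agent.S0803
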