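import Cfsg.Statements.S0806
import Cfsg.Agent.Lib.Classical.Dickson.Tools

set_option autoImplicit false
open Cfsg

namespace Cfsg.Agent.S0806

open Cfsg.Agent.Classical in
/-- A subgroup isomorphic to `PSL₂` or `PGL₂` over a subfield of full degree is everything. -/
theorem field_small {F : Type*} [Field F] [Fintype F] {H : Subgroup (Matrix.ProjectiveSpecialLinearGroup (Fin 2) F)}
    (hH : H ≠ ⊤) {Q m : ℕ} (hm : 1 ≤ m) (hQ : Q ^ m = Fintype.card F)
    (h : Nat.card H = Q * (Q ^ 2 - 1) ∨ ((2 : F) ≠ 0 ∧ 2 * Nat.card H = Q * (Q ^ 2 - 1))) : 2 ≤ m := by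
  by_contra hlt
  obtain rfl : m = 1 := by omega
  rw [pow_one] at hQ
  subst hQ
  refine hH (Subgroup.eq_top_of_le_card _ ?_)
  have hP := Dickson.card_P2 (F := F)
  rcases h with h | ⟨h2, h⟩
  · rw [h, ← hP]
    exact Nat.le_mul_of_pos_right _ (Nat.gcd_pos_of_pos_left _ two_pos)
  · rw [Dickson.two_dvd_pred h2] at hP
    omega
/-- Minimal index (Galois): if q ∉ {2, 3, 5, 7, 9, 11} then every proper subgroup of PSL_2(q) has index ≥ q + 1, and some subgroup has index exactly q + 1. -/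
theorem result {F : Type*} [Field F] [Fintype F] {q : ℕ} (hF : Fintype.card F = q) (hq : q ∉ ({2, 3, 5, 7, 9, 11} : Finset ℕ)) : (∀ H : Subgroup (Matrix.ProjectiveSpecialLinearGroup (Fin 2) F), H ≠ ⊤ → q + 1 ≤ H.index) ∧ ∃ H : Subgroup (Matrix.ProjectiveSpecialLinearGroup (Fin 2) F), H.index = q + 1 := by
  classical
  subst hF
  simp only [Finset.mem_insert, Finset.mem_singleton, not_or] at hq
  obtain ⟨hq2, hq3, hq5, hq7, hq9, hq11⟩ := hq
  have hP := Cfsg.Agent.Classical.Dickson.card_P2 (F := F)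
  have h1q := Fintype.one_lt_card (α := F)
  obtain ⟨q, hq⟩ : ∃ q, q = Fintype.card F := ⟨_, rfl⟩
  obtain ⟨d, hd⟩ : ∃ d, d = Nat.gcd 2 (Fintype.card F - 1) := ⟨_, rfl⟩
  rw [← hd, ← hq] at hP
  rw [← hq] at hq2 hq3 hq5 hq7 hq9 hq11 h1q ⊢
  have hd12 : d = 1 ∨ d = 2 := (Nat.dvd_prime Nat.prime_two).mp (hd ▸ Nat.gcd_dvd_left 2 _)
  have hsq : q ^ 2 - 1 = (q + 1) * (q - 1) := by rw [← Nat.sq_sub_sq, one_pow]
  rw [hsq] at hP
  have hB := Cfsg.Agent.Classical.Dickson.card_borelP (F := F)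
  rw [← hd, ← hq] at hB
  have hd0 : 0 < d := by omega
  have key : ∀ H : Subgroup (Matrix.ProjectiveSpecialLinearGroup (Fin 2) F),
      Nat.card H * d ≤ (q - 1) * q → q + 1 ≤ H.index := fun H hH => by
    by_contra hc
    push Not at hc
    have h1 := H.card_mul_index
    have h2 : Nat.card H * d * H.index = (q - 1) * q * (q + 1) := by
      rw [mul_right_comm, h1, hP]; ring
    have h3 := Nat.mul_lt_mul_of_le_of_lt hH hc (Nat.mul_pos (by omega) (by omega))
    omega
  refine ⟨fun H hH => key H ?_, Cfsg.Agent.Classical.Dickson.borelP F, ?_⟩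
  swap
  · refine Nat.eq_of_mul_eq_mul_left (Nat.mul_pos (show 0 < q - 1 by omega) (show 0 < q by omega)) ?_
    have h1 := (Cfsg.Agent.Classical.Dickson.borelP F).card_mul_index
    calc (q - 1) * q * (Cfsg.Agent.Classical.Dickson.borelP F).index
        = Nat.card (Cfsg.Agent.Classical.Dickson.borelP F) * (Cfsg.Agent.Classical.Dickson.borelP F).index * d := by
          rw [← hB]; ring
      _ = _ := by rw [h1, hP]; ring
  have hodd : d = 2 → 13 ≤ q := fun h => by
    have := Nat.gcd_dvd_right 2 (Fintype.card F - 1)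
    rw [← hd, ← hq, h] at this
    omega
  have hev : d = 1 → q % 2 = 0 := fun h => by
    by_contra hc
    have : Nat.gcd 2 (Fintype.card F - 1) = 2 := Nat.gcd_eq_left (by omega)
    omega
  rcases Cfsg.Agent.Classical.Dickson.cases_on H with
    ⟨k, hk, hc⟩ | ⟨g, hg, -⟩ | ⟨h2, he⟩ | ⟨h2, he⟩ | ⟨h2, he⟩ | ⟨K, m, hm, hKm, hK⟩
  · rw [← hd, ← hq] at hk
    have hcard : Nat.card H ≤ 2 * k ∧ 0 < k := by
      rcases hc with ⟨-, hc⟩ | ⟨h2k, ⟨e⟩⟩
      · have := Nat.card_pos (α := H); omega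
      · rw [Nat.card_congr e.toEquiv, DihedralGroup.nat_card]; omega
    have hkle : k * d ≤ q + 1 := by
      have hdiv : k ≤ (q + 1) / d := by
        rcases hk with hk | hk
        · rcases Nat.eq_zero_or_pos ((q - 1) / d) with h | h
          · have := Nat.div_eq_zero_iff.mp h; omega
          · exact (Nat.le_of_dvd h hk).trans (Nat.div_le_div_right (by omega))
        · exact Nat.le_of_dvd (Nat.div_pos (by omega) hd0) hk
      exact (Nat.mul_le_mul_right d hdiv).trans (Nat.div_mul_le_self _ _)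
    calc Nat.card H * d ≤ 2 * k * d := Nat.mul_le_mul_right d hcard.1
      _ = 2 * (k * d) := mul_assoc _ _ _
      _ ≤ 2 * (q + 1) := Nat.mul_le_mul_left 2 hkle
      _ ≤ (q - 1) * q := by
        obtain ⟨r, hr⟩ : ∃ r, q = r + 4 := ⟨q - 4, by omega⟩
        subst hr
        rw [show r + 4 - 1 = r + 3 by omega]
        nlinarith
  · have h := Subgroup.card_le_of_le hg
    rw [← Nat.card_congr (H.equivMapOfInjective (Cfsg.Agent.Small.PSL2.conjP g).toMonoidHom (Cfsg.Agent.Small.PSL2.conjP g).injective).toEquiv] at h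
    exact hB ▸ Nat.mul_le_mul_right d h
  all_goals try
    obtain ⟨e⟩ := he
    rw [Nat.card_congr e.toEquiv]
    obtain rfl : d = 2 := by rw [hd]; exact Cfsg.Agent.Classical.Dickson.two_dvd_pred h2
    have h13 := hodd rfl
    first
      | rw [nat_card_alternatingGroup, Nat.card_fin]
      | rw [Nat.card_perm, Nat.card_fin]
    have := Nat.mul_le_mul (show 12 ≤ q - 1 by omega) h13
    simp [Nat.factorial]
    omega
  have hm2 := field_small hH hm hKm (hK.imp (fun h => h.2) fun h => ⟨h.1, h.2.2⟩)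
  obtain ⟨Q, hQ⟩ : ∃ Q, Q = Nat.card K := ⟨_, rfl⟩
  rw [← hQ, ← hq] at hKm
  rw [← hQ] at hK
  have hQ2 : 2 ≤ Q := by
    by_contra hc
    interval_cases Q <;> simp [show m ≠ 0 by omega] at hKm <;> omega
  have hQq : Q ^ 2 ≤ q := hKm ▸ Nat.pow_le_pow_right (by omega) hm2
  have hQd : d = 2 → 3 ≤ Q := fun h => by
    by_contra hc
    obtain rfl : Q = 2 := by omega
    have := Nat.gcd_dvd_right 2 (Fintype.card F - 1)
    rw [← hd, ← hq, h, ← hKm] at this
    have : 2 ∣ 2 ^ m := dvd_pow_self 2 (by omega)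
    omega
  have hmain : Q * (Q ^ 2 - 1) * d ≤ (q - 1) * q := by
    have h1 := Nat.mul_le_mul (Nat.sub_le_sub_right hQq 1) hQq
    have h2 : Q * d ≤ Q ^ 2 := by rw [pow_two]; exact Nat.mul_le_mul_left Q (by omega)
    calc Q * (Q ^ 2 - 1) * d = (Q ^ 2 - 1) * (Q * d) := by ring
      _ ≤ (Q ^ 2 - 1) * Q ^ 2 := Nat.mul_le_mul_left _ h2
      _ ≤ _ := h1
  rcases hK with ⟨-, h⟩ | ⟨-, -, h⟩
  · rwa [h]
  · exact (Nat.mul_le_mul_right d (by omega : Nat.card H ≤ Q * (Q ^ 2 - 1))).trans hmain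

end Cfsg.Agent.S0806
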