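import Cfsg.Statements.S0801
import Cfsg.Agent.Lib.Classical.Dickson.SubfieldMax
import Cfsg.Agent.Lib.Classical.Dickson.Orders

set_option autoImplicit false
open Cfsg

namespace Cfsg.Agent.S0801

open Cfsg.Agent.Small Cfsg.Agent.Small.SL2C
open Cfsg.Agent.Classical.Dickson

abbrev E := ZMod 3 × ZMod 3
abbrev T := E × E × E × E

def emul (x y : E) : E := (x.1 * y.1 - x.2 * y.2, x.1 * y.2 + x.2 * y.1)

def tmul (p q : T) : T :=
  (emul p.1 q.1 + emul p.2.1 q.2.2.1, emul p.1 q.2.1 + emul p.2.1 q.2.2.2,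
    emul p.2.2.1 q.1 + emul p.2.2.2 q.2.2.1, emul p.2.2.1 q.2.1 + emul p.2.2.2 q.2.2.2)

def digit (n i : ℕ) : ZMod 3 := ((n / 3 ^ i % 3 : ℕ) : ZMod 3)

def dec (n : ℕ) : T := ((digit n 0, digit n 1), (digit n 2, digit n 3), (digit n 4, digit n 5), (digit n 6, digit n 7))

def enc (t : T) : ℕ :=
  t.1.1.val + 3 * (t.1.2.val + 3 * (t.2.1.1.val + 3 * (t.2.1.2.val + 3 * (t.2.2.1.1.val + 3 * (t.2.2.1.2.val +
    3 * (t.2.2.2.1.val + 3 * t.2.2.2.2.val))))))

def elems : List ℕ := [387, 392, 394, 477, 481, 485, 603, 607, 611, 693, 698, 700, 730, 757, 784, 811, 841, 871, 892, 925, 949, 1460, 1487, 1514, 1541, 1574, 1598, 1622, 1652, 1682, 2193, 2202, 2211, 2436, 2446, 2456, 2679, 2690, 2698, 3013, 3025, 3073, 3103, 3118, 3133, 3183, 3203, 3220, 3338, 3352, 3393, 3417, 3436, 3482, 3509, 3519, 3541, 3743, 3776, 3782, 3833, 3836, 3875, 3903, 3940, 3950, 3994, 4001, 4032, 4155, 4166, 4201, 4309, 4338, 4352, 4377, 4386, 4395, 4620, 4631, 4639, 4863, 4873, 4883, 5197,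 5236, 5239, 5287, 5293, 5335, 5358, 5396, 5404, 5450, 5461, 5490, 5610, 5620, 5657, 5765, 5796, 5812, 5927, 5942, 5993, 6017, 6038, 6050, 6096, 6115, 6134, 6250, 6272, 6309, 6330, 6350, 6394, 6421, 6435, 6461]

def tA : T := ((1, 0), (0, 0), (1, 0), (1, 0))

def tB : T := ((1, 0), (0, 1), (0, 0), (1, 0))

set_option maxHeartbeats 2000000 in
theorem elems_closed : ∀ n ∈ elems, enc (tmul (dec n) tA) ∈ elems ∧ enc (tmul (dec n) tB) ∈ elems := by decide +kernel

theorem one_mem_elems : 730 ∈ elems ∧ dec 730 = ((1, 0), (0, 0), (0, 0), (1, 0)) ∧ elems.length = 120 := by decide +kernel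

set_option maxHeartbeats 2000000 in
theorem dec_enc : ∀ n ∈ elems, dec (enc (tmul (dec n) tA)) = tmul (dec n) tA ∧ dec (enc (tmul (dec n) tB)) = tmul (dec n) tB := by
  decide +kernel

theorem a4_products : ∀ x : alternatingGroup (Fin 4), x ^ 2 = 1 ∨ x ^ 3 = 1 ∨ x ^ 5 = 1 := by decide +kernel

theorem s4_products : ∀ a b : Equiv.Perm (Fin 4), a ^ 3 = 1 → b ^ 3 = 1 →
    (a * b) ^ 2 = 1 ∨ (a * b) ^ 3 = 1 ∨ (a * b) ^ 5 = 1 := by decide +kernel

theorem a5_products : ∀ x : alternatingGroup (Fin 5), x ^ 2 = 1 ∨ x ^ 3 = 1 ∨ x ^ 5 = 1 := by decide +kernel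

theorem s4_index_two : ∀ a : Equiv.Perm (Fin 4), a ^ 3 = 1 → Equiv.Perm.sign a = 1 := by decide +kernel

theorem a4_five : ∀ a : alternatingGroup (Fin 4), a ^ 5 = 1 → a = 1 := by decide +kernel

theorem s4_five : ∀ a : Equiv.Perm (Fin 4), a ^ 5 = 1 → a = 1 := by decide +kernel

section

variable {F : Type*} [Field F] [Fintype F]

local notation "SL2" => Matrix.SpecialLinearGroup (Fin 2) F
local notation "P2" => Matrix.ProjectiveSpecialLinearGroup (Fin 2) F

def gens (lam : F) : Set SL2 :=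
  {g : SL2 | (g : Matrix (Fin 2) (Fin 2) F) = !![1, 0; 1, 1] ∨ (g : Matrix (Fin 2) (Fin 2) F) = !![1, lam; 0, 1]}

theorem vS_coe (x : F) : ((PSL2.vS x : SL2) : Matrix (Fin 2) (Fin 2) F) = !![1, 0; x, 1] := rfl

theorem uS_coe (x : F) : ((PSL2.uS x : SL2) : Matrix (Fin 2) (Fin 2) F) = !![1, x; 0, 1] := rfl

theorem vS_pow (n : ℕ) : (PSL2.vS (1 : F)) ^ n = PSL2.vS (n : F) := by
  induction n with
  | zero => apply Fusion.Dickson.ext' <;> simp [vS_coe]
  | succ n ih =>
    rw [pow_succ, ih]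
    apply Fusion.Dickson.ext' <;> simp [vS_coe, Fusion.Dickson.mul_entry] <;> ring

theorem uS_pow (lam : F) (n : ℕ) : (PSL2.uS lam) ^ n = PSL2.uS ((n : F) * lam) := by
  induction n with
  | zero => apply Fusion.Dickson.ext' <;> simp [uS_coe]
  | succ n ih =>
    rw [pow_succ, ih]
    apply Fusion.Dickson.ext' <;> simp [uS_coe, Fusion.Dickson.mul_entry] <;> ring

/-- The exceptional group has at most `120` elements. -/
theorem card_exception (lam : F) (hlam : lam ^ 2 = -1) (h3 : (3 : F) = 0) :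
    Nat.card (Subgroup.closure (gens lam)) ≤ 120 := by
  classical
  haveI : Fact (Nat.Prime 3) := ⟨Nat.prime_three⟩
  haveI : CharP F 3 := by
    obtain ⟨p, hp⟩ := CharP.exists F
    obtain ⟨n, hpp, -⟩ := FiniteField.card F p
    have : p ∣ 3 := (CharP.cast_eq_zero_iff F p 3).mp (by exact_mod_cast h3)
    rcases (Nat.dvd_prime Nat.prime_three).mp this with rfl | rfl
    · exact absurd hpp Nat.not_prime_one
    · exact hp
  let c : ZMod 3 →+* F := ZMod.castHom dvd_rfl F
  let ι : E → F := fun e => c e.1 + c e.2 * lam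
  have hadd : ∀ x y : E, ι (x + y) = ι x + ι y := fun x y => by simp [ι]; ring
  have hmul : ∀ x y : E, ι (emul x y) = ι x * ι y := fun x y => by
    simp only [ι, emul, map_add, map_sub, map_mul]
    linear_combination (-(c x.2) * c y.2) * hlam
  let mat : T → Matrix (Fin 2) (Fin 2) F := fun t => !![ι t.1, ι t.2.1; ι t.2.2.1, ι t.2.2.2]
  have hmat : ∀ p q : T, mat (tmul p q) = mat p * mat q := fun p q => by
    simp only [mat, tmul, hadd, hmul, Matrix.mul_fin_two]
  have hA : mat tA = !![1, 0; 1, 1] := by simp [mat, tA, ι]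
  have hB : mat tB = !![1, lam; 0, 1] := by simp [mat, tB, ι]
  let S : Finset (Matrix (Fin 2) (Fin 2) F) := (elems.map fun n => mat (dec n)).toFinset
  have h1 : ∀ x : SL2, x.1 ∈ S → ∀ g ∈ gens lam, (x * g).1 ∈ S := by
    intro x hx g hg
    simp only [S, List.mem_toFinset, List.mem_map] at hx ⊢
    obtain ⟨n, hn, hnx⟩ := hx
    rcases hg with hg | hg
    · exact ⟨_, (elems_closed n hn).1, by rw [(dec_enc n hn).1, hmat, hA, hnx, Matrix.SpecialLinearGroup.coe_mul, hg]⟩
    · exact ⟨_, (elems_closed n hn).2, by rw [(dec_enc n hn).2, hmat, hB, hnx, Matrix.SpecialLinearGroup.coe_mul, hg]⟩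
  have hpow : ∀ g ∈ gens lam, g⁻¹ = g * g := fun g hg => by
    refine inv_eq_of_mul_eq_one_right ?_
    rcases hg with hg | hg
    · rw [show g = PSL2.vS 1 from Subtype.ext hg, ← pow_two, ← pow_succ', vS_pow,
        show ((2 + 1 : ℕ) : F) = 0 by norm_num; exact h3]
      exact Subtype.ext (by simp [vS_coe, Matrix.one_fin_two])
    · rw [show g = PSL2.uS lam from Subtype.ext hg, ← pow_two, ← pow_succ', uS_pow,
        show ((2 + 1 : ℕ) : F) = 0 by norm_num; exact h3, zero_mul]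
      exact Subtype.ext (by simp [uS_coe, Matrix.one_fin_two])
  have hsub : ∀ x ∈ Subgroup.closure (gens lam), x.1 ∈ S := fun x hx => by
    induction hx using Subgroup.closure_induction_right with
    | one =>
      simp only [S, List.mem_toFinset, List.mem_map]
      exact ⟨730, one_mem_elems.1, by rw [one_mem_elems.2.1]; simp [mat, ι, Matrix.one_fin_two]⟩
    | mul_right x _ y hy ih => exact h1 x ih y hy
    | mul_inv_cancel x _ y hy ih =>
      rw [hpow y hy, ← mul_assoc]
      exact h1 _ (h1 x ih y hy) y hy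
  have hcard : S.card ≤ 120 :=
    (List.toFinset_card_le _).trans (by rw [List.length_map, one_mem_elems.2.2])
  refine le_trans ?_ hcard
  rw [← Nat.card_eq_finsetCard]
  exact Nat.card_le_card_of_injective (fun x => (⟨x.1.1, hsub x.1 x.2⟩ : S)) fun x y h =>
    Subtype.ext (Subtype.ext (Subtype.mk.inj h))

theorem center_le_of_neg (G : Subgroup SL2) (x : SL2) (hx : x ∈ G) (hxx : (x * x).1 = -1) :
    Subgroup.center SL2 ≤ G := fun z hz => by
  obtain ⟨c, hc⟩ := SL2C.mem_center_iff.mp hz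
  have hd := z.2
  rw [hc] at hd
  simp [Matrix.det_fin_two] at hd
  rcases hd with rfl | rfl
  · rw [show z = 1 from Subtype.ext (hc.trans (one_smul _ _))]; exact one_mem _
  · rw [show z = x * x from Subtype.ext (hc.trans (by rw [hxx, neg_one_smul]))]; exact mul_mem hx hx

theorem exists_neg_of_involution (h2 : (2 : F) ≠ 0) {G : Subgroup SL2} {y : P2} (hy : y ∈ G.map PSL2.pr)
    (hyy : y * y = 1) (hy1 : y ≠ 1) : ∃ x ∈ G, (x * x).1 = -1 := by
  obtain ⟨x, hx, rfl⟩ := hy
  refine ⟨x, hx, ?_⟩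
  rw [← map_mul, pr_eq_one_iff, isSc_iff] at hyy
  rw [Ne, pr_eq_one_iff, isSc_iff] at hy1
  obtain ⟨e1, e2, e3⟩ := hyy
  have hd := Fusion.Dickson.det_eq x
  simp only [Fusion.Dickson.mul_entry] at e1 e2 e3
  have ht : x.1 0 0 + x.1 1 1 = 0 := by
    by_contra ht
    have h01 : x.1 0 1 = 0 := (mul_eq_zero.mp (show x.1 0 1 * (x.1 0 0 + x.1 1 1) = 0 by linear_combination e1)).resolve_right ht
    have h10 : x.1 1 0 = 0 := (mul_eq_zero.mp (show x.1 1 0 * (x.1 0 0 + x.1 1 1) = 0 by linear_combination e2)).resolve_right ht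
    refine hy1 ⟨h01, h10, ?_⟩
    have hh := e3
    rw [h01, h10] at hh
    exact sub_eq_zero.mp ((mul_eq_zero.mp (show (x.1 0 0 - x.1 1 1) * (x.1 0 0 + x.1 1 1) = 0 by linear_combination hh)).resolve_right ht)
  ext i j
  fin_cases i <;> fin_cases j <;> simp [Fusion.Dickson.mul_entry, Matrix.one_apply]
  · linear_combination x.1 0 0 * ht - hd
  · linear_combination x.1 0 1 * ht
  · linear_combination x.1 1 0 * ht
  · linear_combination x.1 1 1 * ht - hd

/-- The lower left entries of powers of a product of the two transvections. -/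
theorem word_equation {s : F} (h : PSL2.pr (PSL2.vS 1 * PSL2.uS s) ^ 2 = 1 ∨ PSL2.pr (PSL2.vS 1 * PSL2.uS s) ^ 3 = 1 ∨
    PSL2.pr (PSL2.vS 1 * PSL2.uS s) ^ 5 = 1) :
    s + 2 = 0 ∨ (s + 2) ^ 2 - 1 = 0 ∨ (s + 2) ^ 4 - 3 * (s + 2) ^ 2 + 1 = 0 := by
  rcases h with h | h | h <;> rw [← map_pow, pr_eq_one_iff, isSc_iff] at h <;> obtain ⟨-, h, -⟩ := h <;>
    simp [pow_succ, uS_coe, vS_coe, Matrix.mul_fin_two] at h
  · left; linear_combination h
  · right; left; linear_combination h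
  · right; right; linear_combination h

end

theorem pow_fix_bound {F : Type*} [Field F] [Fintype F] (p n : ℕ) [Fact p.Prime] [CharP F p] (hn : 1 ≤ n)
    (lam : F) (hgen : Subfield.closure ({lam} : Set F) = ⊤) (h : lam ^ (p ^ n) = lam) : Fintype.card F ≤ p ^ n := by
  have hp1 : 1 < p ^ n := Nat.one_lt_pow (by omega) (Fact.out (p := p.Prime)).one_lt
  have hall : ∀ x : F, x ^ (p ^ n) = x := by
    intro x
    have : Subfield.closure ({lam} : Set F) ≤ (iterateFrobenius F p n).eqLocusField (RingHom.id F) := by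
      rw [Subfield.closure_le, Set.singleton_subset_iff]
      show iterateFrobenius F p n lam = lam
      rw [iterateFrobenius_def, h]
    rw [hgen] at this
    have h' : iterateFrobenius F p n x = x := this (Subfield.mem_top x)
    rwa [iterateFrobenius_def] at h'
  obtain ⟨u, hu⟩ := IsCyclic.exists_generator (α := Fˣ)
  have hord : orderOf u = Fintype.card F - 1 := by
    rw [orderOf_eq_card_of_forall_mem_zpowers hu, Nat.card_units, Nat.card_eq_fintype_card]
  have h1 : u ^ (p ^ n - 1) = 1 := by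
    have h2 : u ^ (p ^ n - 1) * u = 1 * u := by
      rw [← pow_succ, Nat.sub_add_cancel hp1.le, one_mul]
      exact Units.ext (by rw [Units.val_pow_eq_pow_val, hall])
    exact mul_right_cancel h2
  have := Nat.le_of_dvd (by omega) (hord ▸ orderOf_dvd_of_pow_eq_one h1)
  omega

theorem a5_has_involution : ∃ y : alternatingGroup (Fin 5), y * y = 1 ∧ y ≠ 1 :=
  ⟨⟨Equiv.swap 0 1 * Equiv.swap 2 3, Equiv.Perm.mem_alternatingGroup.mpr (by decide)⟩, by decide, by decide⟩

/-- Let F be a finite field of odd characteristic and λ ≠ 0 an element generating F as a field. Then the lower and upper unitriangular matrices with off-diagonal entries 1 and λ generate SL_2(F), unless |F| = 9 and λ² = −1, in which case they generate a subgroup of order 120. -/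
theorem result {F : Type*} [Field F] [Fintype F] (h2 : (2 : F) ≠ 0) (lam : F) (hlam : lam ≠ 0) (hgen : Subfield.closure ({lam} : Set F) = ⊤) : (Subgroup.closure {g : Matrix.SpecialLinearGroup (Fin 2) F | (g : Matrix (Fin 2) (Fin 2) F) = !![1, 0; 1, 1] ∨ (g : Matrix (Fin 2) (Fin 2) F) = !![1, lam; 0, 1]} = ⊤ ∧ ¬ (Fintype.card F = 9 ∧ lam ^ 2 = -1)) ∨ (Fintype.card F = 9 ∧ lam ^ 2 = -1 ∧ Nat.card ↥(Subgroup.closure {g : Matrix.SpecialLinearGroup (Fin 2) F | (g : Matrix (Fin 2) (Fin 2) F) = !![1, 0; 1, 1] ∨ (g : Matrix (Fin 2) (Fin 2) F) = !![1, lam; 0, 1]}) = 120) := by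
  classical
  show (Subgroup.closure (gens lam) = ⊤ ∧ _) ∨ (_ ∧ _ ∧ Nat.card (Subgroup.closure (gens lam)) = 120)
  obtain ⟨p, hpc⟩ := CharP.exists F
  obtain ⟨n, hp, hn⟩ := FiniteField.card F p
  haveI : Fact p.Prime := ⟨hp⟩
  have hp2 : p ≠ 2 := fun h => by subst h; exact h2 (CharP.cast_eq_zero F 2)
  obtain ⟨G, hG⟩ : ∃ G, G = Subgroup.closure (gens lam) := ⟨_, rfl⟩
  rw [← hG]
  have hv : PSL2.vS (1 : F) ∈ G := hG ▸ Subgroup.subset_closure (Or.inl rfl)
  have hu : PSL2.uS lam ∈ G := hG ▸ Subgroup.subset_closure (Or.inr rfl)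
  have hu' : PSL2.uS (-lam) ∈ G := by
    have : PSL2.uS (-lam) = (PSL2.uS lam)⁻¹ := eq_inv_of_mul_eq_one_left (by
      apply Fusion.Dickson.ext' <;> simp [uS_coe])
    rw [this]; exact inv_mem hu
  have hd : Nat.gcd 2 (Fintype.card F - 1) = 2 := two_dvd_pred h2
  have hP := card_P2 (F := F)
  rw [hd] at hP
  have hex : Fintype.card F = 9 → lam ^ 2 = -1 → Nat.card G ≤ 120 := fun h9 hl => by
    have h3 : (3 : F) = 0 := by
      have h := Nat.cast_card_eq_zero F
      rw [h9, show ((9 : ℕ) : F) = 3 * 3 by norm_num] at h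
      exact mul_self_eq_zero.mp h
    rw [hG]; exact card_exception lam hl h3
  have hcent : ∀ y ∈ G.map PSL2.pr, y * y = 1 → y ≠ 1 → Subgroup.center _ ≤ G := fun y hy hyy hy1 => by
    obtain ⟨x, hx, hxx⟩ := exists_neg_of_involution h2 hy hyy hy1
    exact center_le_of_neg G x hx hxx
  suffices key : G.map PSL2.pr = ⊤ ∨ (Fintype.card F = 9 ∧ lam ^ 2 = -1 ∧
      Nonempty (G.map PSL2.pr ≃* alternatingGroup (Fin 5))) by
    rcases key with htop | ⟨h9, hl, ⟨f⟩⟩
    · left
      have hc : Subgroup.center _ ≤ G := hcent (PSL2.pr PSL2.wS) (by rw [htop]; trivial)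
        (by rw [← map_mul, pr_eq_one_iff, isSc_iff]; simp [show ((PSL2.wS : Matrix.SpecialLinearGroup (Fin 2) F) : Matrix (Fin 2) (Fin 2) F) = !![0, 1; -1, 0] from rfl, Fusion.Dickson.mul_entry])
        (by rw [Ne, pr_eq_one_iff, isSc_iff]; simp [PSL2.wS])
      have hGtop : G = ⊤ := by
        rw [← Subgroup.comap_map_eq_self (f := PSL2.pr) (H := G) (by rw [PSL2.pr, QuotientGroup.ker_mk']; exact hc), htop,
          Subgroup.comap_top]
      refine ⟨hGtop, fun ⟨h9, hl⟩ => ?_⟩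
      have := hex h9 hl
      rw [hGtop, Subgroup.card_top, Small.SL2C.card_SL2, h9] at this
      norm_num at this
    · right
      refine ⟨h9, hl, ?_⟩
      obtain ⟨y, hy, hy1⟩ := a5_has_involution
      have hc : Subgroup.center _ ≤ G := hcent (f.symm y : G.map PSL2.pr).1 (f.symm y).2
        (by rw [← Subgroup.coe_mul, ← map_mul, hy, map_one]; rfl)
        (fun h => hy1 (by
          have h' : f.symm y = 1 := Subtype.ext h
          exact (map_eq_one_iff _ f.symm.injective).mp h'))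
      rw [card_map_pr hc, hd, Nat.card_congr f.toEquiv, nat_card_alternatingGroup, Nat.card_fin]
      norm_num [Nat.factorial]
  have hvp : (PSL2.vS (1 : F)) ^ p = 1 := by
    rw [vS_pow, CharP.cast_eq_zero]; apply Fusion.Dickson.ext' <;> simp [vS_coe]
  have hup : (PSL2.uS lam) ^ p = 1 := by
    rw [uS_pow, CharP.cast_eq_zero, zero_mul]; apply Fusion.Dickson.ext' <;> simp [uS_coe]
  have hup' : (PSL2.uS (-lam)) ^ p = 1 := by
    rw [uS_pow, CharP.cast_eq_zero, zero_mul]; apply Fusion.Dickson.ext' <;> simp [uS_coe]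
  obtain ⟨H, hH⟩ : ∃ H, H = G.map PSL2.pr := ⟨_, rfl⟩
  rw [← hH]
  have hvH : PSL2.pr (PSL2.vS (1 : F)) ∈ H := hH ▸ ⟨_, hv, rfl⟩
  have hpH : p ∣ Nat.card H := by
    have h1 : PSL2.pr (PSL2.vS (1 : F)) ≠ 1 := by rw [Ne, pr_eq_one_iff, isSc_iff]; simp [vS_coe]
    have : orderOf (⟨_, hvH⟩ : H) = p := orderOf_eq_prime (Subtype.ext (by
      rw [Subgroup.coe_pow, ← map_pow, hvp, map_one]; rfl)) (fun h => h1 (congrArg Subtype.val h))
    exact this ▸ orderOf_dvd_natCard _
  have hpq : p ∣ Fintype.card F := hn ▸ dvd_pow_self p n.ne_zero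
  have hword : ∀ (s : F), PSL2.uS s ∈ G → ∀ (Q : Prop),
      (∀ x : H, (x : Matrix.ProjectiveSpecialLinearGroup (Fin 2) F) = PSL2.pr (PSL2.vS 1 * PSL2.uS s) → Q) → Q :=
    fun s hs Q h => h ⟨_, hH ▸ ⟨_, mul_mem hv hs, rfl⟩⟩ rfl
  have htop : Fintype.card F * (Fintype.card F ^ 2 - 1) ≤ Nat.card H * 2 → H = ⊤ := fun h =>
    Subgroup.eq_top_of_le_card _ (by rw [← hP] at h; omega)
  have hsmall : (∀ s : F, s = lam ∨ s = -lam → (PSL2.pr (PSL2.vS 1 * PSL2.uS s)) ^ 2 = 1 ∨
      (PSL2.pr (PSL2.vS 1 * PSL2.uS s)) ^ 3 = 1 ∨ (PSL2.pr (PSL2.vS 1 * PSL2.uS s)) ^ 5 = 1) →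
      p = 3 ∨ p = 5 → Fintype.card F = p ∨ (Fintype.card F = 9 ∧ lam ^ 2 = -1 ∧
        ¬ ∀ s : F, s = lam ∨ s = -lam → (PSL2.pr (PSL2.vS 1 * PSL2.uS s)) ^ 2 = 1 ∨
          (PSL2.pr (PSL2.vS 1 * PSL2.uS s)) ^ 3 = 1) := by
    intro hw hp35
    have hbase : lam ^ p = lam → Fintype.card F = p := fun h =>
      le_antisymm (by have := pow_fix_bound p 1 le_rfl lam hgen (by rwa [pow_one]); rwa [pow_one] at this)
        (Nat.le_of_dvd Fintype.card_pos hpq)
    have w1 := word_equation (hw lam (Or.inl rfl))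
    have w2 := word_equation (hw (-lam) (Or.inr rfl))
    rcases hp35 with rfl | rfl
    · have h3 : (3 : F) = 0 := by exact_mod_cast CharP.cast_eq_zero F 3
      have hlin : ∀ s : F, s + 2 = 0 ∨ (s + 2) ^ 2 - 1 = 0 → s ^ 3 = s := fun s h => by
        rcases h with h | h
        · linear_combination (s ^ 2 - 2 * s + 3) * h - 2 * h3
        · linear_combination (s - 4) * h + 4 * (s + 1) * h3
      have hneg : (-lam) ^ 3 = -lam → lam ^ 3 = lam := fun h => by linear_combination -h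
      by_cases hb : lam ^ 3 = lam
      · exact Or.inl (hbase hb)
      right
      rcases w1 with w | w | w
      · exact absurd (hlin _ (Or.inl w)) hb
      · exact absurd (hlin _ (Or.inr w)) hb
      rcases w2 with w' | w' | w'
      · exact absurd (hneg (hlin _ (Or.inl w'))) hb
      · exact absurd (hneg (hlin _ (Or.inr w'))) hb
      have hl : lam ^ 2 = -1 := by
        have h' : lam * (lam ^ 2 + 1) = 0 := by
          linear_combination w - w' - (5 * lam ^ 3 + 13 * lam) * h3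
        linear_combination (mul_eq_zero.mp h').resolve_left hlam
      have h9 := pow_fix_bound 3 2 (by norm_num) lam hgen (by
        rw [show (3 : ℕ) ^ 2 = 2 * 4 + 1 from rfl, pow_succ, pow_mul, hl]; ring)
      refine ⟨?_, hl, fun hw' => ?_⟩
      · rw [hn] at h9 ⊢
        have : (n : ℕ) ≤ 2 := (Nat.pow_le_pow_iff_right (by norm_num)).mp h9
        rcases Nat.lt_or_ge (n : ℕ) 2 with hlt | hge
        · exfalso
          have h1 : (n : ℕ) = 1 := le_antisymm (by omega) n.pos
          have hf := FiniteField.pow_card lam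
          rw [hn, h1, pow_one] at hf
          exact hb hf
        · rw [show (n : ℕ) = 2 by omega]; rfl
      · rcases word_equation ((hw' lam (Or.inl rfl)).imp_right Or.inl) with w | w | w
        · exact hb (hlin _ (Or.inl w))
        · exact hb (hlin _ (Or.inr w))
        · rcases hw' lam (Or.inl rfl) with e | e <;> rw [← map_pow, pr_eq_one_iff, isSc_iff] at e <;>
            obtain ⟨-, e, -⟩ := e <;> simp [pow_succ, uS_coe, vS_coe, Matrix.mul_fin_two] at e
          · exact hb (hlin _ (Or.inl (by linear_combination e)))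
          · exact hb (hlin _ (Or.inr (by linear_combination e)))
    · left
      refine hbase ?_
      have h5 : (5 : F) = 0 := by exact_mod_cast CharP.cast_eq_zero F 5
      have key : ∀ t : F, (t = 0 ∨ t ^ 2 - 1 = 0 ∨ t ^ 4 - 3 * t ^ 2 + 1 = 0) → t ^ 5 = t := fun t h => by
        rcases h with h | h | h
        · rw [h]; ring
        · linear_combination (t ^ 3 + t) * h
        · have h' : t ^ 2 + 1 = 0 := mul_self_eq_zero.mp (by linear_combination h + t ^ 2 * h5)
          linear_combination (t ^ 3 - t) * h'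
      have := key (lam + 2) w1
      rw [add_pow_char] at this
      linear_combination this - 6 * h5
  obtain ⟨G1, hG1⟩ : ∃ G1, G1 = H.comap PSL2.pr := ⟨_, rfl⟩
  have hGle : G ≤ G1 := by rw [hG1, hH]; exact Subgroup.le_comap_map _ _
  have e1 : G1.map PSL2.pr = H := by rw [hG1, map_comap_pr]
  have hK := classify H
  rw [← hG1] at hK
  have hnd : ∀ N, N ∣ 2 * ((Fintype.card F - 1) / 2) ∨ N ∣ 2 * ((Fintype.card F + 1) / 2) → ¬ p ∣ N := fun N hN hpN => by
    have hev : 2 ∣ Fintype.card F - 1 := by have := Nat.gcd_dvd_right 2 (Fintype.card F - 1); rwa [hd] at this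
    have h1 := Fintype.one_lt_card (α := F)
    rcases hN with h | h
    · have h' := hpN.trans h
      rw [Nat.mul_div_cancel' hev] at h'
      have := Nat.dvd_sub hpq h'
      rw [Nat.sub_sub_self (by omega)] at this
      exact hp.one_lt.ne' (Nat.dvd_one.mp this)
    · have h' := hpN.trans h
      rw [Nat.mul_div_cancel' (by omega : 2 ∣ Fintype.card F + 1)] at h'
      have := Nat.dvd_sub h' hpq
      rw [Nat.add_sub_cancel_left] at this
      exact hp.one_lt.ne' (Nat.dvd_one.mp this)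
  cases hK with
  | cyclic k hk hc hcard =>
    exfalso
    rw [hd] at hk
    rw [e1] at hcard
    exact hnd k (hk.imp (fun h => h.mul_left 2) fun h => h.mul_left 2) (hcard ▸ hpH)
  | dihedral k hk hk2 hiso =>
    exfalso
    rw [hd] at hk
    rw [e1] at hiso
    obtain ⟨f⟩ := hiso
    exact hnd (2 * k) (hk.imp (mul_dvd_mul_left 2) (mul_dvd_mul_left 2))
      (by rw [← DihedralGroup.nat_card, ← Nat.card_congr f.toEquiv]; exact hpH)
  | borel g hg _ =>
    exfalso
    have hy : ∀ z ∈ G, z.1 0 0 + z.1 1 1 = 2 → ∃ x, PSL2.conjSL g z = Fusion.Dickson.upU x := fun z hz ht => by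
      have h10 : (PSL2.conjSL g z).1 1 0 = 0 := hg _ ⟨z, hGle hz, rfl⟩
      have htr : (PSL2.conjSL g z).1.trace = 2 := by
        rw [PSL2.conjSL_val, Matrix.trace_units_conj, Matrix.trace_fin_two, ht]
      rw [Matrix.trace_fin_two] at htr
      have hdet := Fusion.Dickson.det_eq (PSL2.conjSL g z)
      rw [h10, mul_zero, sub_zero] at hdet
      have h00 : (PSL2.conjSL g z).1 0 0 = 1 := by
        have : ((PSL2.conjSL g z).1 0 0 - 1) * ((PSL2.conjSL g z).1 0 0 - 1) = 0 := by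
          linear_combination ((PSL2.conjSL g z).1 0 0) * htr - hdet
        exact sub_eq_zero.mp (mul_self_eq_zero.mp this)
      exact ⟨_, Fusion.Dickson.eq_upU h10 h00⟩
    obtain ⟨x, hx⟩ := hy _ hv (by simp [vS_coe]; norm_num)
    obtain ⟨y, hy⟩ := hy _ hu (by simp [uS_coe]; norm_num)
    have hcm : PSL2.vS (1 : F) * PSL2.uS lam = PSL2.uS lam * PSL2.vS 1 := by
      apply (PSL2.conjSL g).injective
      rw [map_mul, map_mul, hx, hy, ← uS_eq_upU, ← uS_eq_upU, ← PSL2.uS_add, ← PSL2.uS_add, add_comm]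
    have := congrArg (fun m : Matrix.SpecialLinearGroup (Fin 2) F => m.1 0 0) hcm
    simp [Fusion.Dickson.mul_entry, uS_coe, vS_coe] at this
    exact hlam this
  | a4 _ hiso =>
    rw [e1] at hiso
    obtain ⟨f⟩ := hiso
    have hc : Nat.card H = 12 := by rw [Nat.card_congr f.toEquiv, nat_card_alternatingGroup, Nat.card_fin]; rfl
    have hp3 : p = 3 := by
      have : p ∣ 2 * 2 * 3 := by rw [hc] at hpH; exact hpH
      rcases hp.dvd_mul.mp this with h | h
      · rcases hp.dvd_mul.mp h with h | h <;> exact absurd ((Nat.prime_dvd_prime_iff_eq hp Nat.prime_two).mp h) hp2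
      · exact (Nat.prime_dvd_prime_iff_eq hp Nat.prime_three).mp h
    have h23 : ∀ s : F, s = lam ∨ s = -lam → (PSL2.pr (PSL2.vS 1 * PSL2.uS s)) ^ 2 = 1 ∨
        (PSL2.pr (PSL2.vS 1 * PSL2.uS s)) ^ 3 = 1 := fun s hs => hword s (by rcases hs with rfl | rfl <;> assumption) _ fun x hx => by
      have hh : ∀ k : ℕ, (f x) ^ k = 1 → (PSL2.pr (PSL2.vS 1 * PSL2.uS s)) ^ k = 1 := fun k h => by
        rw [← map_pow, map_eq_one_iff _ f.injective] at h
        rw [← hx, ← Subgroup.coe_pow, h, Subgroup.coe_one]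
      rcases a4_products (f x) with h | h | h
      · exact Or.inl (hh 2 h)
      · exact Or.inr (hh 3 h)
      · exact Or.inl (hh 2 (by rw [a4_five _ h, one_pow]))
    rcases hsmall (fun s hs => (h23 s hs).imp_right Or.inl) (Or.inl hp3) with h | ⟨-, -, h⟩
    · exact Or.inl (htop (by rw [h, hp3, hc]; norm_num))
    · exact absurd h23 h
  | s4 _ hiso =>
    rw [e1] at hiso
    obtain ⟨f⟩ := hiso
    have hc : Nat.card H = 24 := by rw [Nat.card_congr f.toEquiv, Nat.card_perm, Nat.card_fin]; rfl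
    have hp3 : p = 3 := by
      have : p ∣ 2 * 2 * 2 * 3 := by rw [hc] at hpH; exact hpH
      rcases hp.dvd_mul.mp this with h | h
      · rcases hp.dvd_mul.mp h with h | h
        · rcases hp.dvd_mul.mp h with h | h <;> exact absurd ((Nat.prime_dvd_prime_iff_eq hp Nat.prime_two).mp h) hp2
        · exact absurd ((Nat.prime_dvd_prime_iff_eq hp Nat.prime_two).mp h) hp2
      · exact (Nat.prime_dvd_prime_iff_eq hp Nat.prime_three).mp h
    subst hp3
    have h23 : ∀ s : F, s = lam ∨ s = -lam → (PSL2.pr (PSL2.vS 1 * PSL2.uS s)) ^ 2 = 1 ∨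
        (PSL2.pr (PSL2.vS 1 * PSL2.uS s)) ^ 3 = 1 := fun s hs => hword s (by rcases hs with rfl | rfl <;> assumption) _ fun x hx => by
      have hh : ∀ k : ℕ, (f x) ^ k = 1 → (PSL2.pr (PSL2.vS 1 * PSL2.uS s)) ^ k = 1 := fun k h => by
        rw [← map_pow, map_eq_one_iff _ f.injective] at h
        rw [← hx, ← Subgroup.coe_pow, h, Subgroup.coe_one]
      have hs3 : (PSL2.uS s) ^ 3 = 1 := by rcases hs with rfl | rfl <;> assumption
      have hsG : PSL2.uS s ∈ G := by rcases hs with rfl | rfl <;> assumption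
      obtain ⟨a, ha⟩ : ∃ a : H, (a : Matrix.ProjectiveSpecialLinearGroup (Fin 2) F) = PSL2.pr (PSL2.vS 1) := ⟨⟨_, hvH⟩, rfl⟩
      obtain ⟨b, hb⟩ : ∃ b : H, (b : Matrix.ProjectiveSpecialLinearGroup (Fin 2) F) = PSL2.pr (PSL2.uS s) :=
        ⟨⟨_, hH ▸ ⟨_, hsG, rfl⟩⟩, rfl⟩
      have hab : x = a * b := Subtype.ext (by rw [hx, Subgroup.coe_mul, ha, hb, map_mul])
      have h3a : (f a) ^ 3 = 1 := by
        rw [← map_pow, show a ^ 3 = 1 from Subtype.ext (by rw [Subgroup.coe_pow, ha, ← map_pow, hvp, map_one]; rfl), map_one]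
      have h3b : (f b) ^ 3 = 1 := by
        rw [← map_pow, show b ^ 3 = 1 from Subtype.ext (by rw [Subgroup.coe_pow, hb, ← map_pow, hs3, map_one]; rfl), map_one]
      rcases s4_products _ _ h3a h3b with h | h | h <;> rw [← map_mul, ← hab] at h
      · exact Or.inl (hh 2 h)
      · exact Or.inr (hh 3 h)
      · exact Or.inl (hh 2 (by rw [s4_five _ h, one_pow]))
    rcases hsmall (fun s hs => (h23 s hs).imp_right Or.inl) (Or.inl rfl) with h | ⟨-, -, h⟩
    · exact Or.inl (htop (by rw [h, hc]; norm_num))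
    · exact absurd h23 h
  | a5 _ hiso =>
    rw [e1] at hiso
    obtain ⟨f⟩ := hiso
    have hc : Nat.card H = 60 := by rw [Nat.card_congr f.toEquiv, nat_card_alternatingGroup, Nat.card_fin]; rfl
    have hp35 : p = 3 ∨ p = 5 := by
      have : p ∣ 2 * 2 * 3 * 5 := by rw [hc] at hpH; exact hpH
      rcases hp.dvd_mul.mp this with h | h
      · rcases hp.dvd_mul.mp h with h | h
        · rcases hp.dvd_mul.mp h with h | h <;> exact absurd ((Nat.prime_dvd_prime_iff_eq hp Nat.prime_two).mp h) hp2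
        · exact Or.inl ((Nat.prime_dvd_prime_iff_eq hp Nat.prime_three).mp h)
      · exact Or.inr ((Nat.prime_dvd_prime_iff_eq hp (by norm_num)).mp h)
    have hw : ∀ s : F, s = lam ∨ s = -lam → (PSL2.pr (PSL2.vS 1 * PSL2.uS s)) ^ 2 = 1 ∨
        (PSL2.pr (PSL2.vS 1 * PSL2.uS s)) ^ 3 = 1 ∨ (PSL2.pr (PSL2.vS 1 * PSL2.uS s)) ^ 5 = 1 :=
      fun s hs => hword s (by rcases hs with rfl | rfl <;> assumption) _ fun x hx => by
      have hh : ∀ k : ℕ, (f x) ^ k = 1 → (PSL2.pr (PSL2.vS 1 * PSL2.uS s)) ^ k = 1 := fun k h => by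
        rw [← map_pow, map_eq_one_iff _ f.injective] at h
        rw [← hx, ← Subgroup.coe_pow, h, Subgroup.coe_one]
      exact (a5_products (f x)).imp (hh 2) (Or.imp (hh 3) (hh 5))
    rcases hsmall hw hp35 with h | ⟨h9, hl, -⟩
    · rcases hp35 with rfl | rfl <;> exact Or.inl (htop (by rw [h, hc]; norm_num))
    · exact Or.inr ⟨h9, hl, ⟨f⟩⟩
  | field g K hlow hhigh hiso =>
    left
    have hent : ∀ z ∈ G, z.1 0 0 + z.1 1 1 = 2 → ∀ i j, (PSL2.conjSL g z).1 i j ∈ K := fun z hz ht => by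
      obtain ⟨c, M, hM, hy⟩ := hhigh _ ⟨z, hGle hz, rfl⟩
      have htr : (PSL2.conjSL g z).1.trace = 2 := by
        rw [PSL2.conjSL_val, Matrix.trace_units_conj, Matrix.trace_fin_two, ht]
      have hy' : (PSL2.conjSL g z).1 = c • M := hy
      rw [hy', Matrix.trace_smul, smul_eq_mul, Matrix.trace_fin_two] at htr
      have hne : M 0 0 + M 1 1 ≠ 0 := fun e => by rw [e, mul_zero] at htr; exact h2 htr.symm
      have hc : c = 2 * (M 0 0 + M 1 1)⁻¹ := by rw [← htr, mul_assoc, mul_inv_cancel₀ hne, mul_one]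
      intro i j
      rw [hy', Matrix.smul_apply, smul_eq_mul, hc]
      exact K.mul_mem (K.mul_mem (ofNat_mem K 2) (K.inv_mem (K.add_mem (hM 0 0) (hM 1 1)))) (hM i j)
    have he1 := hent _ hv (by simp [vS_coe]; norm_num)
    have he2 := hent _ hu (by simp [uS_coe]; norm_num)
    have htr : ((PSL2.conjSL g (PSL2.vS 1)) * (PSL2.conjSL g (PSL2.uS lam))).1.trace ∈ K := by
      rw [Matrix.trace_fin_two]
      simp only [Fusion.Dickson.mul_entry]
      exact K.add_mem (K.add_mem (K.mul_mem (he1 0 0) (he2 0 0)) (K.mul_mem (he1 0 1) (he2 1 0)))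
        (K.add_mem (K.mul_mem (he1 1 0) (he2 0 1)) (K.mul_mem (he1 1 1) (he2 1 1)))
    rw [← map_mul, PSL2.conjSL_val, Matrix.trace_units_conj, Matrix.trace_fin_two] at htr
    simp only [Fusion.Dickson.mul_entry, uS_coe, vS_coe] at htr
    have hl : lam ∈ K := by
      have := K.sub_mem htr (ofNat_mem K 2)
      convert this using 1
      simp
      ring
    have hKt : K = ⊤ := top_le_iff.mp (hgen ▸ Subfield.closure_le.mpr (Set.singleton_subset_iff.mpr hl))
    haveI : Fintype K := Fintype.ofFinite K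
    have hKc : Fintype.card K = Fintype.card F := by
      rw [← Nat.card_eq_fintype_card, ← Nat.card_eq_fintype_card, hKt]
      exact Nat.card_congr Subfield.topEquiv.toEquiv
    rw [e1] at hiso
    refine htop ?_
    rcases hiso with ⟨⟨f⟩⟩ | ⟨-, ⟨f⟩⟩
    · rw [Nat.card_congr f.toEquiv, card_pgl, hKc]; omega
    · have := card_psl K
      rw [hKc, hd, ← Nat.card_congr f.toEquiv] at this
      omega

end Cfsg.Agent.S0801
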