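import Cfsg.Statements.S0255
import Cfsg.Agent.Lib.Spor.SL5Transvection
import Cfsg.Agent.Lib.Classical.SL2Four
import Cfsg.Agent.Lib.Classical.PSL2Ico

set_option autoImplicit false
open Cfsg

namespace Cfsg.Agent.S0255

/-- The order seven element of `SL₃(2)`. -/
def mU : Matrix (Fin 3) (Fin 3) (ZMod 2) := !![0, 0, 1; 1, 0, 1; 0, 1, 0]

/-- The Frobenius of the field with eight elements. -/
def mT : Matrix (Fin 3) (Fin 3) (ZMod 2) := !![1, 0, 0; 0, 0, 1; 0, 1, 1]

/-- An involution inverting `mT`. -/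
def mW : Matrix (Fin 3) (Fin 3) (ZMod 2) := !![1, 0, 0; 0, 0, 1; 0, 1, 0]

/-- The exponent of two. -/
def lg (x : ZMod 7) : ℕ := if x = 2 then 1 else if x = 4 then 2 else 0

/-- The map `SL₂(7) → SL₃(2)` read off the Bruhat decomposition. -/
def fm (a b c d : ZMod 7) : Matrix (Fin 3) (Fin 3) (ZMod 2) :=
  if c = 0 then mT ^ lg (a * a) * mU ^ (b * a ^ 5).val
  else mU ^ (a * c ^ 5).val * mW * (mT ^ lg (c * c) * mU ^ (d * c ^ 5).val)

theorem fm_det : ∀ a b c d : ZMod 7, a * d - b * c = 1 → (fm a b c d).det = 1 := by decide +kernel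

theorem fm_left : ∀ a b c d : ZMod 7, a * d - b * c = 1 →
    fm (a + c) (b + d) c d = fm 1 1 0 1 * fm a b c d ∧ fm (-c) (-d) a b = fm 0 (-1) 1 0 * fm a b c d := by
  decide +kernel

theorem fm_one : fm 1 0 0 1 = 1 ∧ fm 6 0 0 6 = 1 ∧ fm 1 1 0 1 ≠ 1 := by decide +kernel

/-- `PSL_n` of isomorphic fields are isomorphic. -/
noncomputable def pslCongr {n : ℕ} {A B : Type*} [Field A] [Field B] (e : A ≃+* B) :
    Matrix.ProjectiveSpecialLinearGroup (Fin n) A ≃* Matrix.ProjectiveSpecialLinearGroup (Fin n) B :=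
  let E : Matrix.SpecialLinearGroup (Fin n) A ≃* Matrix.SpecialLinearGroup (Fin n) B :=
    { toFun := Matrix.SpecialLinearGroup.map (e : A →+* B)
      invFun := Matrix.SpecialLinearGroup.map (e.symm : B →+* A)
      left_inv := fun g => Subtype.ext (Matrix.ext fun i j => e.symm_apply_apply _)
      right_inv := fun g => Subtype.ext (Matrix.ext fun i j => e.apply_symm_apply _)
      map_mul' := map_mul _ }
  QuotientGroup.congr _ _ E (by
    ext z
    constructor
    · rintro ⟨w, hw, rfl⟩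
      refine Subgroup.mem_center_iff.mpr fun g => ?_
      obtain ⟨g, rfl⟩ := E.surjective g
      exact (map_mul E g w).symm.trans ((congrArg E (Subgroup.mem_center_iff.mp hw g)).trans (map_mul E w g))
    · intro hz
      refine ⟨E.symm z, Subgroup.mem_center_iff.mpr fun g => E.injective ?_, E.apply_symm_apply z⟩
      rw [map_mul, map_mul, E.apply_symm_apply]
      exact Subgroup.mem_center_iff.mp hz _)

theorem mu_det : (!![1, 1; 0, 1] : Matrix (Fin 2) (Fin 2) (ZMod 7)).det = 1 ∧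
    (!![0, -1; 1, 0] : Matrix (Fin 2) (Fin 2) (ZMod 7)).det = 1 := by decide

theorem mu_pow : ∀ x : ZMod 7, (!![1, 1; 0, 1] : Matrix (Fin 2) (Fin 2) (ZMod 7)) ^ x.val = !![1, x; 0, 1] := by
  decide +kernel

theorem ml_eq : ∀ x : ZMod 7, (!![0, -1; 1, 0] : Matrix (Fin 2) (Fin 2) (ZMod 7)) * !![1, -x; 0, 1] *
    (!![0, -1; 1, 0] * !![0, -1; 1, 0] * !![0, -1; 1, 0]) = !![1, 0; x, 1] := by decide +kernel

theorem center_seven : ∀ c : ZMod 7, c ^ 2 = 1 → fm c 0 0 c = 1 := by decide +kernel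

theorem center_two : ∀ c : ZMod 2, c ^ 3 = 1 → c = 1 := by decide

theorem two_ne_seven : (2 : ZMod 7) ≠ 0 := by decide
/-- PSL_2(7) is isomorphic to PSL_3(2). -/
theorem result {F K : Type*} [Field F] [Fintype F] [Field K] [Fintype K] (hF : Fintype.card F = 7) (hK : Fintype.card K = 2) : Nonempty (Matrix.ProjectiveSpecialLinearGroup (Fin 2) F ≃* Matrix.ProjectiveSpecialLinearGroup (Fin 3) K) := by
  classical
  haveI : Fact (Nat.Prime 7) := ⟨by norm_num⟩
  haveI : Fact (Nat.Prime 2) := ⟨Nat.prime_two⟩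
  let e7 : F ≃+* ZMod 7 := (ZMod.ringEquivOfPrime F (by norm_num) hF).symm
  let e2 : K ≃+* ZMod 2 := (ZMod.ringEquivOfPrime K Nat.prime_two hK).symm
  have hdet : ∀ g : (Matrix.SpecialLinearGroup (Fin 2) (ZMod 7)), g.1 0 0 * g.1 1 1 - g.1 0 1 * g.1 1 0 = 1 := fun g => by
    rw [← Matrix.det_fin_two]; exact g.2
  let φ : (Matrix.SpecialLinearGroup (Fin 2) (ZMod 7)) → Matrix.SpecialLinearGroup (Fin 3) (ZMod 2) := fun g =>
    ⟨fm (g.1 0 0) (g.1 0 1) (g.1 1 0) (g.1 1 1), fm_det _ _ _ _ (hdet g)⟩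
  have hval : ∀ g : (Matrix.SpecialLinearGroup (Fin 2) (ZMod 7)), ((φ g : Matrix.SpecialLinearGroup (Fin 3) (ZMod 2)) : Matrix (Fin 3) (Fin 3) (ZMod 2)) =
      fm (g.1 0 0) (g.1 0 1) (g.1 1 0) (g.1 1 1) := fun _ => rfl
  obtain ⟨u, hu⟩ : ∃ u : (Matrix.SpecialLinearGroup (Fin 2) (ZMod 7)), u.1 = !![1, 1; 0, 1] := ⟨⟨_, mu_det.1⟩, rfl⟩
  obtain ⟨w, hw⟩ : ∃ w : (Matrix.SpecialLinearGroup (Fin 2) (ZMod 7)), w.1 = !![0, -1; 1, 0] := ⟨⟨_, mu_det.2⟩, rfl⟩
  have hφu : ∀ g, φ (u * g) = φ u * φ g := fun g => Subtype.ext (by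
    rw [Matrix.SpecialLinearGroup.coe_mul, hval, hval, hval, Matrix.SpecialLinearGroup.coe_mul, hu]
    simpa [Matrix.mul_apply, Fin.sum_univ_two] using (fm_left _ _ _ _ (hdet g)).1)
  have hφw : ∀ g, φ (w * g) = φ w * φ g := fun g => Subtype.ext (by
    rw [Matrix.SpecialLinearGroup.coe_mul, hval, hval, hval, Matrix.SpecialLinearGroup.coe_mul, hw]
    simpa [Matrix.mul_apply, Fin.sum_univ_two] using (fm_left _ _ _ _ (hdet g)).2)
  have hone : φ 1 = 1 := Subtype.ext (by rw [hval]; simpa using fm_one.1)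
  let M : Subgroup (Matrix.SpecialLinearGroup (Fin 2) (ZMod 7)) :=
    { carrier := {s | ∀ g, φ (s * g) = φ s * φ g}
      one_mem' := fun g => by rw [one_mul, hone, one_mul]
      mul_mem' := fun {x y} hx hy g => by rw [mul_assoc, hx, hy, hx y, mul_assoc]
      inv_mem' := fun {x} hx g => by
        have h1 := hx (x⁻¹ * g)
        have h2 := hx x⁻¹
        rw [mul_inv_cancel_left] at h1
        rw [mul_inv_cancel, hone] at h2
        rw [h1, ← mul_assoc, mul_eq_one_comm.mp h2.symm, one_mul] }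
  have hM : M = ⊤ := by
    have hup : ∀ x : ZMod 7, ∃ s ∈ M, s.1 = !![1, x; 0, 1] := fun x => by
      refine ⟨u ^ x.val, M.pow_mem hφu _, ?_⟩
      rw [Matrix.SpecialLinearGroup.coe_pow, hu, mu_pow]
    have hlo : ∀ x : ZMod 7, ∃ s ∈ M, s.1 = !![1, 0; x, 1] := fun x => by
      obtain ⟨s, hs, hs'⟩ := hup (-x)
      refine ⟨w * s * (w * w * w), M.mul_mem (M.mul_mem hφw hs) (M.mul_mem (M.mul_mem hφw hφw) hφw), ?_⟩
      rw [Matrix.SpecialLinearGroup.coe_mul, Matrix.SpecialLinearGroup.coe_mul, Matrix.SpecialLinearGroup.coe_mul,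
        Matrix.SpecialLinearGroup.coe_mul, hw, hs', ml_eq]
    rw [eq_top_iff]
    intro g _
    have hc : ∀ g : (Matrix.SpecialLinearGroup (Fin 2) (ZMod 7)), g.1 1 0 ≠ 0 → g ∈ M := fun g hc => by
      obtain ⟨s1, h1, h1'⟩ := hup ((g.1 0 0 - 1) * (g.1 1 0)⁻¹)
      obtain ⟨s2, h2, h2'⟩ := hlo (g.1 1 0)
      obtain ⟨s3, h3, h3'⟩ := hup ((g.1 1 1 - 1) * (g.1 1 0)⁻¹)
      have : g = s1 * s2 * s3 := by
        apply Subtype.ext
        rw [Matrix.SpecialLinearGroup.coe_mul, Matrix.SpecialLinearGroup.coe_mul, h1', h2', h3']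
        have := hdet g
        ext i j
        fin_cases i <;> fin_cases j <;> simp [Matrix.mul_apply, Fin.sum_univ_two] <;> field_simp <;>
          first | (linear_combination (-1 : ZMod 7) * this) | (linear_combination (1 : ZMod 7) * this) | ring
      rw [this]; exact M.mul_mem (M.mul_mem h1 h2) h3
    by_cases h : g.1 1 0 = 0
    · obtain ⟨s, hs, hs'⟩ := hlo 1
      have h2 : s * g ∈ M := hc _ (by
        rw [Matrix.SpecialLinearGroup.coe_mul, hs']
        have := hdet g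
        simp [Matrix.mul_apply, Fin.sum_univ_two, h] at this ⊢
        exact fun e => by simp [e] at this)
      exact (M.mul_mem_cancel_left hs).mp h2
    · exact hc g h
  let Φ : (Matrix.SpecialLinearGroup (Fin 2) (ZMod 7)) →* Matrix.SpecialLinearGroup (Fin 3) (ZMod 2) :=
    MonoidHom.mk' φ fun s g => (show s ∈ M by rw [hM]; trivial) g
  have hker : Subgroup.center (Matrix.SpecialLinearGroup (Fin 2) (ZMod 7)) ≤ Φ.ker := by
    intro z hz
    obtain ⟨c, hc, hm⟩ := Matrix.SpecialLinearGroup.mem_center_iff.mp hz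
    rw [Fintype.card_fin] at hc
    rw [MonoidHom.mem_ker]
    apply Subtype.ext
    show fm _ _ _ _ = 1
    rw [← hm]
    simpa using center_seven c hc
  let Ψ := QuotientGroup.lift (Subgroup.center (Matrix.SpecialLinearGroup (Fin 2) (ZMod 7))) Φ hker
  have hG : IsSimpleGroup (Matrix.ProjectiveSpecialLinearGroup (Fin 2) (ZMod 7)) :=
    Matrix.ProjectiveSpecialLinearGroup.rank_two_simple (by rw [Nat.card_eq_fintype_card, ZMod.card]; norm_num)
  have hinj : Function.Injective Ψ := by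
    rw [← MonoidHom.ker_eq_bot_iff]
    refine (hG.eq_bot_or_eq_top_of_normal Ψ.ker (MonoidHom.normal_ker Ψ)).resolve_right fun h => ?_
    have h1 : Ψ (QuotientGroup.mk u) = 1 := MonoidHom.mem_ker.mp (h ▸ Subgroup.mem_top _)
    have h2 := congrArg Subtype.val h1
    rw [show Ψ (QuotientGroup.mk u) = φ u from rfl, hval, hu] at h2
    exact fm_one.2.2 (by simpa using h2)
  have h3 : Nat.card (Matrix.SpecialLinearGroup (Fin 3) (ZMod 2)) = 168 :=
    Cfsg.Agent.Spor.card_det_one_three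
  have h7 : 168 ≤ Nat.card (Matrix.ProjectiveSpecialLinearGroup (Fin 2) (ZMod 7)) := by
    have h := Cfsg.Agent.Classical.SL2Four.card_SL_eq (F := ZMod 7) two_ne_seven
    rw [Cfsg.Agent.Small.SL2C.card_SL2, ZMod.card] at h
    omega
  have hbij : Function.Bijective Ψ := hinj.bijective_of_nat_card_le (by rw [h3]; exact h7)
  have hz : Subgroup.center (Matrix.SpecialLinearGroup (Fin 3) (ZMod 2)) = ⊥ := by
    rw [Subgroup.eq_bot_iff_forall]
    intro z hz
    obtain ⟨c, hc, hm⟩ := Matrix.SpecialLinearGroup.mem_center_iff.mp hz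
    rw [Fintype.card_fin] at hc
    have : c = 1 := center_two c hc
    apply Subtype.ext
    rw [← hm, this, map_one]; rfl
  exact ⟨(pslCongr e7).trans ((MulEquiv.ofBijective Ψ hbij).trans
    ((QuotientGroup.quotientBot.symm.trans (QuotientGroup.quotientMulEquivOfEq hz.symm)).trans
      (pslCongr e2.symm)))⟩

end Cfsg.Agent.S0255
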