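import Cfsg.Statements.S2530
import Mathlib
import Cfsg.Agent.Lib.Lie.SymCoxeter
-- import your own Cfsg.Agent.* helpers here

set_option autoImplicit false
open Cfsg

namespace Cfsg.Agent.S2530

/-- The Coxeter presentation of the symmetric group: for every n, the symmetric group on n+1 letters is the Coxeter group of type A_n with the adjacent transpositions (i, i+1) as simple reflections; that is, it is presented by generators r_1, …, r_n subject to r_i² = 1, (r_i r_j)² = 1 for |i − j| > 1 and (r_i r_{i+1})³ = 1, with r_i mapping to (i, i+1). -/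
theorem result (n : ℕ) :
    ∃ cs : CoxeterSystem (CoxeterMatrix.A n) (Equiv.Perm (Fin (n + 1))), ∀ i : Fin n, cs.simple i = Equiv.swap i.castSucc i.succ := by
  classical
  let v : Fin n → Equiv.Perm (Fin (n + 1)) := fun i => Equiv.swap i.castSucc i.succ
  have hlift : (CoxeterMatrix.A n).IsLiftable v := by
    intro i j
    show (v i * v j) ^ (CoxeterMatrix.A n).M i j = 1
    simp only [CoxeterMatrix.A, Matrix.of_apply]
    split_ifs with h1 h2
    · subst h1; simp [v]
    · rcases eq_or_ne i.castSucc j.succ with h | h
      · have hne : j.castSucc ≠ i.succ := by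
          intro e; have := Fin.ext_iff.1 e; have := Fin.ext_iff.1 h; simp at *; omega
        have e : v i * v j = Equiv.swap i.castSucc i.succ * Equiv.swap i.castSucc j.castSucc := by
          simp only [v]; rw [h, Equiv.swap_comm j.castSucc j.succ]
        rw [e]
        have h3 := (Equiv.Perm.isThreeCycle_swap_mul_swap_same (a := i.castSucc) (b := i.succ)
          (c := j.castSucc) (Fin.castSucc_lt_succ).ne (by rw [h]; exact (Fin.castSucc_lt_succ).ne')
          hne.symm).orderOf
        rw [← h3]; exact pow_orderOf_eq_one _
      · have h' : i.succ = j.castSucc := by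
          have hv : (i : ℕ) + 1 = j := by
            rcases h2 with h2 | h2
            · exact absurd (Fin.ext (by simp; omega)) h
            · exact h2
          exact Fin.ext (by simpa using hv)
        have e : v i * v j = Equiv.swap i.succ i.castSucc * Equiv.swap i.succ j.succ := by
          simp only [v]; rw [← h', Equiv.swap_comm i.castSucc i.succ]
        rw [e]
        have h3 := (Equiv.Perm.isThreeCycle_swap_mul_swap_same (a := i.succ) (b := i.castSucc)
          (c := j.succ) (Fin.castSucc_lt_succ).ne' (by rw [h']; exact (Fin.castSucc_lt_succ).ne)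
          h).orderOf
        rw [← h3]; exact pow_orderOf_eq_one _
    · have h1' : (i : ℕ) ≠ j := fun e => h1 (Fin.ext e)
      have hc : Commute (v i) (v j) := by
        refine Equiv.Perm.Disjoint.commute fun x => ?_
        by_cases hx : x = i.castSucc ∨ x = i.succ
        · right
          refine Equiv.swap_apply_of_ne_of_ne ?_ ?_ <;> rcases hx with rfl | rfl <;>
            simp [Fin.ext_iff] <;> omega
        · push Not at hx
          left; exact Equiv.swap_apply_of_ne_of_ne hx.1 hx.2
      rw [sq, ← mul_assoc, mul_assoc (v i), ← hc.eq, ← mul_assoc]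
      simp [v]
  let φ : (CoxeterMatrix.A n).Group →* Equiv.Perm (Fin (n + 1)) :=
    (CoxeterMatrix.A n).toCoxeterSystem.lift ⟨v, hlift⟩
  have hφ : ∀ i, φ ((CoxeterMatrix.A n).simple i) = v i := fun i => by
    have := (CoxeterMatrix.A n).toCoxeterSystem.lift_apply_simple (f := v) hlift i
    rwa [CoxeterMatrix.toCoxeterSystem_simple] at this
  have hsur : Function.Surjective φ := by
    rw [← MonoidHom.range_eq_top, eq_top_iff]
    intro g hgt
    clear hgt
    have := Equiv.Perm.mclosure_swap_castSucc_succ n
    have hg : g ∈ Submonoid.closure (Set.range fun i : Fin n => Equiv.swap i.castSucc i.succ) :=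
      this ▸ Submonoid.mem_top g
    induction hg using Submonoid.closure_induction with
    | mem x hx => obtain ⟨i, rfl⟩ := hx; exact ⟨_, hφ i⟩
    | one => exact one_mem _
    | mul a b _ _ ha hb => exact mul_mem ha hb
  let cs := (CoxeterMatrix.A n).toCoxeterSystem
  let s : ℕ → (CoxeterMatrix.A n).Group := fun k => if hk : k < n then cs.simple ⟨k, hk⟩ else 1
  have hs : ∀ k (hk : k < n), s k = cs.simple ⟨k, hk⟩ := fun k hk => dif_pos hk
  have hrel : Cfsg.Agent.Lie.SymRels s n := by
    constructor
    · intro i hi; rw [hs i hi]; exact cs.simple_mul_simple_self _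
    · intro i hi
      rw [hs i (by omega), hs _ hi]
      have h3 := cs.simple_mul_simple_pow ⟨i, by omega⟩ ⟨i + 1, hi⟩
      simp [CoxeterMatrix.A, Fin.ext_iff] at h3
      exact Cfsg.Agent.Lie.braid_of_pow_three (cs.simple_mul_simple_self _) (cs.simple_mul_simple_self _) h3
    · intro i j hij hj
      rw [hs i (by omega), hs _ hj]
      have h2 := cs.simple_mul_simple_pow ⟨i, by omega⟩ ⟨j, hj⟩
      simp [CoxeterMatrix.A, Fin.ext_iff, show i ≠ j by omega, show j + 1 ≠ i by omega, show i + 1 ≠ j by omega] at h2
      exact Cfsg.Agent.Lie.comm_of_pow_two (cs.simple_mul_simple_self _) (cs.simple_mul_simple_self _) h2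
  have hgen : Subgroup.closure (s '' {i | i < n}) = ⊤ := by
    rw [eq_top_iff, ← cs.subgroup_closure_range_simple]
    refine Subgroup.closure_mono ?_
    rintro _ ⟨i, rfl⟩
    exact ⟨i, i.2, hs i i.2⟩
  obtain ⟨hfin, hle⟩ := hrel.card_le hgen
  have hcard : Nat.card (Equiv.Perm (Fin (n + 1))) = (n + 1).factorial := by
    rw [Nat.card_perm, Nat.card_fin]
  have hbij : Function.Bijective φ := (Nat.bijective_iff_surjective_and_card φ).2
    ⟨hsur, le_antisymm (hle.trans hcard.ge) (Nat.card_le_card_of_surjective φ hsur)⟩
  refine ⟨⟨(MulEquiv.ofBijective φ hbij).symm⟩, fun i => ?_⟩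
  exact hφ i

end Cfsg.Agent.S2530
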