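import Cfsg.Statements.S0440
import Cfsg.Agent.Lib.Classical.SpGeneration

set_option autoImplicit false
open Cfsg

namespace Cfsg.Agent.S0440

open Matrix Cfsg.Agent.Small.PSpn
open Cfsg.Agent.Lead.Symp (form_eq form_self form_swap trans_mulVec)

section
variable {n : ℕ}

local notation "Vn" => Fin n ⊕ Fin n → ZMod 2
local notation "Gn" => Matrix.symplecticGroup (Fin n) (ZMod 2)

theorem two_cases : ∀ a : ZMod 2, a = 0 ∨ a = 1 := by decide

noncomputable def tr (v : Vn) : Gn := eich v 0 1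

theorem act_tr (v x : Vn) : act (tr v) x = x + sf v x • v := by
  rw [tr, act_eich_zero, one_mul]

theorem sf_symm (u v : Vn) : sf u v = sf v u := by
  have h := (form_swap v u : sf u v = - sf v u)
  show Cfsg.sympForm n (ZMod 2) u v = _
  rw [h, ZModModule.neg_eq_self]

theorem exists_one {v : Vn} (hv : v ≠ 0) : ∃ w, sf v w = 1 := by
  obtain ⟨k, hk⟩ : ∃ k, v k ≠ 0 := Function.ne_iff.1 hv
  have hk1 := (two_cases _).resolve_left hk
  rcases k with i | i
  · exact ⟨se i, by rw [sf_symm, sf_se_left]; exact hk1⟩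
  · exact ⟨sff i, by rw [sf_sff_right]; exact hk1⟩

theorem tr_conj (g : Gn) (v : Vn) : g * tr v * g⁻¹ = tr (act g v) := by
  rw [tr, eich_conj g 1 (sf_zero_right v), act_zero, tr]

theorem tr_sq (v : Vn) : tr v * tr v = 1 := by
  refine eq_of_act fun x => ?_
  rw [act_mul, act_tr, act_tr, act_one, sf_add_right, sf_smul_right, show sf v v = 0 from form_self v,
    mul_zero, add_zero, add_assoc, ZModModule.add_self, add_zero]

theorem tr_ne {v : Vn} (hv : v ≠ 0) : tr v ≠ 1 := fun h => by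
  obtain ⟨w, hw⟩ := exists_one hv
  have h2 : act (tr v) w = w := by rw [h, act_one]
  rw [act_tr, hw, one_smul, add_eq_left] at h2
  exact hv h2

theorem tr_move {u v : Vn} (h : sf u v = 1) : act (tr (u + v)) u = v := by
  rw [act_tr, sf_add_left, show sf u u = 0 from form_self u, sf_symm v u, h, zero_add, one_smul,
    ← add_assoc, ZModModule.add_self, zero_add]

theorem transitive {u v : Vn} (hu : u ≠ 0) (hv : v ≠ 0) : ∃ g : Gn, act g u = v := by
  rcases two_cases (sf u v) with h | h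
  · obtain ⟨w, hw, hw'⟩ : ∃ w, sf u w = 1 ∧ sf v w = 1 := by
      obtain ⟨a, ha⟩ := exists_one hu
      obtain ⟨b, hb⟩ := exists_one hv
      rcases two_cases (sf v a) with h1 | h1
      · rcases two_cases (sf u b) with h2 | h2
        · exact ⟨a + b, by rw [sf_add_right, ha, h2, add_zero], by rw [sf_add_right, h1, hb, zero_add]⟩
        · exact ⟨b, h2, hb⟩
      · exact ⟨a, ha, h1⟩
    refine ⟨tr (w + v) * tr (u + w), ?_⟩
    rw [act_mul, tr_move hw, tr_move (by rw [sf_symm]; exact hw')]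
  · exact ⟨_, tr_move h⟩

theorem sub_one_mulVec (g : Gn) (x : Vn) :
    ((g : Matrix (Fin n ⊕ Fin n) (Fin n ⊕ Fin n) (ZMod 2)) - 1) *ᵥ x = act g x - x := by
  rw [Matrix.sub_mulVec, Matrix.one_mulVec]; rfl

theorem rank_tr {v : Vn} (hv : v ≠ 0) :
    ((tr v : Matrix (Fin n ⊕ Fin n) (Fin n ⊕ Fin n) (ZMod 2)) - 1).rank = 1 := by
  have e : LinearMap.range ((tr v : Matrix (Fin n ⊕ Fin n) (Fin n ⊕ Fin n) (ZMod 2)) - 1).mulVecLin =
      (ZMod 2) ∙ v := ?_
  · rw [Matrix.rank, e, finrank_span_singleton hv]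
  obtain ⟨w, hw⟩ := exists_one hv
  refine le_antisymm ?_ ((Submodule.span_singleton_le_iff_mem _ _).2 ⟨w, ?_⟩)
  · rintro _ ⟨x, rfl⟩
    rw [Matrix.mulVecLin_apply, sub_one_mulVec, act_tr, add_sub_cancel_left]
    exact Submodule.smul_mem _ _ (Submodule.mem_span_singleton_self v)
  · rw [Matrix.mulVecLin_apply, sub_one_mulVec, act_tr, add_sub_cancel_left, hw, one_smul]

theorem eq_tr_of_rank {g : Gn}
    (h : ((g : Matrix (Fin n ⊕ Fin n) (Fin n ⊕ Fin n) (ZMod 2)) - 1).rank = 1) :
    ∃ v : Vn, v ≠ 0 ∧ g = tr v := by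
  obtain ⟨⟨v, hvR⟩, hv, hall⟩ := finrank_eq_one_iff'.1 h
  have hv' : v ≠ 0 := fun e => hv (Subtype.ext e)
  have hc : ∀ x, ∃ c : ZMod 2, act g x = x + c • v := fun x => by
    obtain ⟨c, hc⟩ := hall ⟨_, LinearMap.mem_range_self _ x⟩
    refine ⟨c, ?_⟩
    have e := congrArg Subtype.val hc
    have e' : c • v = act g x - x := e.trans (sub_one_mulVec g x)
    rw [e', add_sub_cancel]
  choose c hc using hc
  have key : ∀ x y, c y * sf x v + c x * sf v y = 0 := fun x y => by
    have h1 := sf_act g x y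
    rw [hc x, hc y] at h1
    simp only [sf_add_left, sf_add_right, sf_smul_left, sf_smul_right, show sf v v = 0 from form_self v,
      mul_zero, add_zero] at h1
    linear_combination h1
  obtain ⟨y, hy⟩ := exists_one hv'
  have hcx : ∀ x, c x = c y * sf v x := fun x => by
    have h1 := key x y
    rw [hy, mul_one, sf_symm x v] at h1
    rw [← sub_eq_zero, ZModModule.sub_eq_add, add_comm]
    exact h1
  have hcy : c y = 1 := by
    rcases two_cases (c y) with h0 | h1
    · exfalso
      have hg : (g : Matrix (Fin n ⊕ Fin n) (Fin n ⊕ Fin n) (ZMod 2)) - 1 = 0 := ext_mulVec fun x => by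
        rw [sub_one_mulVec, hc, hcx, h0, zero_mul, zero_smul, add_zero, sub_self, Matrix.zero_mulVec]
      rw [hg, Matrix.rank_zero] at h
      exact zero_ne_one h
    · exact h1
  exact ⟨v, hv', eq_of_act fun x => by rw [hc, hcx, hcy, one_mul, act_tr]⟩

end

/-- In the symplectic group in dimension 2n ≥ 2 over the field with two elements, the elements g for which g - 1 has rank one (the symplectic transvections) form a conjugacy class of 3-transpositions generating the group. -/
theorem result (n : ℕ) (hn : 1 ≤ n) : Cfsg.IsThreeTranspositionClass {g : Matrix.symplecticGroup (Fin n) (ZMod 2) | ((g : Matrix (Fin n ⊕ Fin n) (Fin n ⊕ Fin n) (ZMod 2)) - 1).rank = 1} := by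
  set S := {g : Matrix.symplecticGroup (Fin n) (ZMod 2) |
    ((g : Matrix (Fin n ⊕ Fin n) (Fin n ⊕ Fin n) (ZMod 2)) - 1).rank = 1} with hS
  have hmem : ∀ {v : Fin n ⊕ Fin n → ZMod 2}, v ≠ 0 → tr v ∈ S := fun hv => rank_tr hv
  have he : (Pi.single (Sum.inl ⟨0, hn⟩) 1 : Fin n ⊕ Fin n → ZMod 2) ≠ 0 := by
    simp
  refine ⟨⟨fun g hg => ?_, fun g hg g' hg' => ?_⟩, ⟨_, hmem he, ?_⟩, ?_⟩
  · obtain ⟨v, hv, rfl⟩ := eq_tr_of_rank hg
    exact orderOf_eq_prime (by rw [sq, tr_sq]) (tr_ne hv)
  · obtain ⟨u, -, rfl⟩ := eq_tr_of_rank hg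
    obtain ⟨v, -, rfl⟩ := eq_tr_of_rank hg'
    have hi : ∀ w, (tr w : Matrix.symplecticGroup (Fin n) (ZMod 2))⁻¹ = tr w := fun w =>
      inv_eq_of_mul_eq_one_right (tr_sq w)
    have h1 := tr_conj (tr u) v
    rw [hi, act_tr] at h1
    rcases two_cases (sf u v) with h | h <;> rw [h] at h1
    · rw [zero_smul, add_zero] at h1
      refine Or.inl ?_
      rw [sq]
      calc tr u * tr v * (tr u * tr v) = (tr u * tr v * tr u) * tr v := by simp only [mul_assoc]
        _ = 1 := by rw [h1, tr_sq]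
    · rw [one_smul] at h1
      have h2 := tr_conj (tr v) u
      rw [hi, act_tr, sf_symm, h, one_smul, add_comm] at h2
      refine Or.inr ?_
      calc (tr u * tr v) ^ 3 = (tr u * tr v * tr u) * (tr v * tr u * tr v) := by
            rw [pow_succ, pow_two]; simp only [mul_assoc]
        _ = 1 := by rw [h1, h2, tr_sq]
  · ext g
    refine ⟨fun hg => ?_, fun hg => ?_⟩
    · obtain ⟨v, hv, rfl⟩ := eq_tr_of_rank hg
      obtain ⟨g, hg⟩ := transitive he hv
      exact isConj_iff.2 ⟨g, by rw [tr_conj, hg]⟩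
    · obtain ⟨c, rfl⟩ := isConj_iff.1 hg
      rw [tr_conj]
      exact hmem fun e => he (act_injective c (e.trans (act_zero c).symm))
  · rw [eq_top_iff, ← Classical.SpGen.sp_generated, Classical.SpGen.TG, Subgroup.closure_le]
    rintro _ ⟨v, t, rfl⟩
    rcases two_cases t with rfl | rfl
    · rw [eich_zero_zero]; exact one_mem _
    · by_cases hv : v = 0
      · subst hv
        have : eich (0 : Fin n ⊕ Fin n → ZMod 2) 0 (1 : ZMod 2) = 1 :=
          eq_of_act fun x => by rw [act_eich_zero, act_one, smul_zero, add_zero]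
        rw [this]; exact one_mem _
      · exact Subgroup.subset_closure (hmem hv)

end Cfsg.Agent.S0440
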