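import Cfsg.Statements.S0226
import Cfsg.Agent.Lib.Fusion.Involutions

set_option autoImplicit false
open Cfsg
open Cfsg.Agent.Fusion
open scoped commutatorElement

namespace Cfsg.Agent.S0226

/-- A finite group of even order has an odd number of involutions. -/
theorem result {G : Type*} [Group G] [Finite G] (heven : Even (Nat.card G)) : Odd (Nat.card {t : G // orderOf t = 2}) := by
  classical
  haveI : Fintype G := Fintype.ofFinite G
  have h2 : 2 ∣ Fintype.card G := by
    rw [← Nat.card_eq_fintype_card]; exact heven.two_dvd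
  let f : Function.End G := fun g => g⁻¹
  have hmod := Equiv.Perm.card_fixedPoints_modEq (p := 2) (n := 1) (f := f) (by
    rw [pow_one, sq]; funext g; exact inv_inv g)
  have h3 : Nat.card (Option {t : G // orderOf t = 2}) = Fintype.card (Function.fixedPoints f) := by
    rw [← Nat.card_eq_fintype_card]
    refine Nat.card_eq_of_bijective (fun o => match o with
      | none => ⟨1, inv_one⟩
      | some t => ⟨t.1, invol_inv t.2⟩) ⟨?_, ?_⟩
    · rintro (- | ⟨s, hs⟩) (- | ⟨t, ht⟩) h <;> have h' := congrArg Subtype.val h
      · rfl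
      · exfalso; rw [show t = 1 from h'.symm, orderOf_one] at ht; omega
      · exfalso; rw [show s = 1 from h', orderOf_one] at hs; omega
      · exact congrArg some (Subtype.ext h')
    · rintro ⟨g, hg⟩
      by_cases h1 : g = 1
      · exact ⟨none, Subtype.ext h1.symm⟩
      · exact ⟨some ⟨g, orderOf_eq_prime (by rw [sq]; nth_rewrite 1 [← (hg : g⁻¹ = g)]; rw [inv_mul_cancel]) h1⟩, rfl⟩
  rw [Finite.card_option] at h3
  rw [← h3] at hmod
  rw [Nat.odd_iff]
  have := hmod
  unfold Nat.ModEq at this
  omega

end Cfsg.Agent.S0226
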