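import Cfsg.Statements.S0611
import Cfsg.Agent.Lib.Fusion.OffenderFamily

set_option autoImplicit false
open Cfsg
open Cfsg.Agent.Fusion
open scoped commutatorElement

namespace Cfsg.Agent.S0611

/-- Minimal nontrivially-acting best offenders in such a faithful group have order p, commutator [V, B] of order p and fixed points of index p. -/
theorem result {G : Type*} [Group G] [Finite G] {p : ℕ} [Fact p.Prime] (V H : Subgroup G) (hV : Cfsg.IsElementaryAbelian p V) (hHV : H ≤ Subgroup.normalizer (V : Set G)) (hf : H ⊓ Subgroup.centralizer (V : Set G) = ⊥) (hS1 : Subgroup.centralizer (Cfsg.pPrimeCore p ↥H : Set ↥H) ≤ Cfsg.pPrimeCore p ↥H) (hS3 : H = ⨆ A : {A : Subgroup G // A ≤ H ∧ Cfsg.IsBestOffenderOn p V A}, (A : Subgroup G)) (hH1 : H ≠ ⊥) (A : Subgroup G) (hAH : A ≤ H) (hA : Cfsg.IsBestOffenderOn p V A) (hAV : ⁅V, A⁆ ≠ ⊥) (hmin : ∀ B : Subgroup G, B ≤ A → Cfsg.IsBestOffenderOn p V B → ⁅V, B⁆ ≠ ⊥ → B = A) : Nat.card A = p ∧ Nat.card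 ↥(⁅V, A⁆) = p ∧ ((V ⊓ Subgroup.centralizer (A : Set G))).relIndex V = p := by
  have c : OffCtx p V H := ⟨hV, hHV, hf, hS1⟩
  have hcard := c.card_of_minimal hAH hA hAV hmin
  have hm := c.measure_eq hAH hA
  set C := V ⊓ Subgroup.centralizer (A : Set G) with hC
  have hrel : C.relIndex V = p := by
    have h1 := card_mul_relIndex_of_le (inf_le_left : C ≤ V)
    refine Nat.eq_of_mul_eq_mul_left (Nat.card_pos (α := C)) ?_
    rw [h1, mul_comm, ← hcard]
    exact hm.symm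
  refine ⟨hcard, ?_, hrel⟩
  obtain ⟨a, ha, ha1⟩ := A.bot_or_exists_ne_one.resolve_left fun h => hAV (by rw [h, Subgroup.commutator_bot_right])
  have hgen : A = Subgroup.zpowers a := by
    refine (Subgroup.eq_of_le_of_card_ge (Subgroup.zpowers_le.2 ha) ?_).symm
    rw [hcard, Nat.card_zpowers]
    rcases (Nat.dvd_prime (Fact.out : p.Prime)).1 (hcard ▸ Subgroup.orderOf_dvd_natCard A ha) with h | h
    · exact absurd (orderOf_eq_one_iff.1 h) ha1
    · exact h.ge
  have hAV' : A ≤ Subgroup.normalizer (V : Set G) := hAH.trans hHV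
  have hVc : ∀ x ∈ V, ∀ y ∈ V, x * y = y * x := fun x hx y hy => Agent.Local.elemAb_commute hV hx hy
  let φ : V →* V := MonoidHom.mk' (fun x => ⟨⁅(x : G), a⁆, act_comm_mem hAV' x.2 ha⟩)
    (fun x y => Subtype.ext (act_comm_mul hVc hAV' x.2 y.2 ha))
  have hker : φ.ker = C.subgroupOf V := by
    ext x
    rw [MonoidHom.mem_ker, Subgroup.mem_subgroupOf, hC, Subgroup.mem_inf, hgen, Subgroup.zpowers_eq_closure,
      Subgroup.centralizer_closure, Subgroup.mem_centralizer_singleton_iff]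
    constructor
    · intro h
      exact ⟨x.2, commutatorElement_eq_one_iff_mul_comm.1 (congrArg Subtype.val h)⟩
    · intro h
      exact Subtype.ext (commutatorElement_eq_one_iff_mul_comm.2 h.2)
  have hrange : Nat.card φ.range = p := by
    rw [← Subgroup.index_ker, hker]; exact hrel
  rw [← hrange, ← Subgroup.card_map_of_injective V.subtype_injective]
  congr 2
  set R := φ.range.map V.subtype with hR
  have hfix : ∀ w ∈ R, a * w = w * a := by
    -- the image is centralized by `a` as it has order `p`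
    intro w hw
    by_contra hne
    have hwV : w ∈ V := Subgroup.map_subtype_le _ hw
    have h1 : ⁅w, a⁆ ∈ R := ⟨φ ⟨w, hwV⟩, ⟨_, rfl⟩, rfl⟩
    have h2 : ⁅w, a⁆ ≠ 1 := fun h => hne (commutatorElement_eq_one_iff_mul_comm.1 h).symm
    have hRp : Nat.card R = p := by rw [hR, Subgroup.card_map_of_injective V.subtype_injective, hrange]
    have h3 : R ≤ ⁅R, A⁆ := by
      have h4 : Subgroup.zpowers ⁅w, a⁆ = R := Subgroup.eq_of_le_of_card_ge (Subgroup.zpowers_le.2 h1) (by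
        rcases (Nat.dvd_prime (Fact.out : p.Prime)).1 (hRp ▸ Subgroup.orderOf_dvd_natCard R h1) with h | h
        · exact absurd (orderOf_eq_one_iff.1 h) h2
        · rw [Nat.card_zpowers, h, hRp])
      calc R = Subgroup.zpowers ⁅w, a⁆ := h4.symm
        _ ≤ ⁅R, A⁆ := Subgroup.zpowers_le.2 (Subgroup.commutator_mem_commutator hw ha)
    have := eq_bot_of_le_act_comm hAV' (Agent.Local.elemAb_isPGroup hV) hA.2.2 (Subgroup.map_subtype_le _) h3
    rw [hR, this, Subgroup.mem_bot] at h1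
    exact h2 h1
  refine le_antisymm (Subgroup.commutator_le.2 fun x hx b hb => ?_) ?_
  · rw [hgen] at hb
    obtain ⟨i, rfl⟩ := Subgroup.mem_zpowers_iff.1 hb
    have hxa : ⁅x, a⁆ ∈ R := ⟨φ ⟨x, hx⟩, ⟨_, rfl⟩, rfl⟩
    induction i using Int.induction_on with
    | zero => simp
    | succ i ih =>
      rw [zpow_add_one, show ⁅x, a ^ (i : ℤ) * a⁆ = ⁅x, a ^ (i : ℤ)⁆ * (a ^ (i : ℤ) * ⁅x, a⁆ * (a ^ (i : ℤ))⁻¹) by
        simp [commutatorElement_def, mul_assoc], (Commute.zpow_left (hfix _ hxa) (i : ℤ)).eq, mul_inv_cancel_right]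
      exact mul_mem (ih (zpow_mem (Subgroup.mem_zpowers a) _)) hxa
    | pred i ih =>
      rw [zpow_sub_one, show ⁅x, a ^ (-(i : ℤ)) * a⁻¹⁆ = ⁅x, a ^ (-(i : ℤ))⁆ *
          (a ^ (-(i : ℤ)) * (a⁻¹ * ⁅x, a⁆⁻¹ * a) * (a ^ (-(i : ℤ)))⁻¹) by
        simp [commutatorElement_def, mul_assoc]]
      have h5 : a⁻¹ * ⁅x, a⁆⁻¹ * a = ⁅x, a⁆⁻¹ := by
        rw [(Commute.inv_inv (hfix _ hxa)).eq, inv_mul_cancel_right]
      rw [h5, (Commute.zpow_left (Commute.inv_right (hfix _ hxa)) (-(i : ℤ))).eq, mul_inv_cancel_right]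
      exact mul_mem (ih (zpow_mem (Subgroup.mem_zpowers a) _)) (inv_mem hxa)
  · rintro _ ⟨_, ⟨x, rfl⟩, rfl⟩
    exact Subgroup.commutator_mem_commutator x.2 ha

end Cfsg.Agent.S0611
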