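import Cfsg.Statements.S0012
import Cfsg.Agent.Lib.Solv.Cores

set_option autoImplicit false
open Cfsg

open scoped Pointwise commutatorElement

namespace Cfsg.Agent.S0012

/-- In a finite p-group every commutator and every p-th power lies in the Frattini subgroup, so the Frattini quotient is elementary abelian. -/
theorem result {G : Type*} [Group G] [Finite G] (p : ℕ) [Fact p.Prime]
    (hG : IsPGroup p G) : commutator G ≤ frattini G ∧ ∀ x : G, x ^ p ∈ frattini G := by
  have := hG.isNilpotent
  have hM : ∀ M : Subgroup G, IsCoatom M →
      commutator G ≤ M ∧ ∀ x : G, x ^ p ∈ M := by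
    intro M hM
    have hn : M.Normal :=
      Subgroup.NormalizerCondition.normal_of_coatom M Group.normalizerCondition_of_isNilpotent hM
    have : Nontrivial (G ⧸ M) := by
      rw [← Finite.one_lt_card_iff_nontrivial, ← Subgroup.index_eq_card]
      exact Subgroup.one_lt_index_of_ne_top hM.1
    have : IsSimpleGroup (G ⧸ M) := ⟨fun K hK => by
      have hle := QuotientGroup.le_comap_mk' M K
      rcases eq_or_lt_of_le hle with h | h
      · left
        rw [← Subgroup.map_comap_eq_self_of_surjective (QuotientGroup.mk'_surjective M) K, ← h,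
          QuotientGroup.map_mk'_self]
      · right
        rw [← Subgroup.map_comap_eq_self_of_surjective (QuotientGroup.mk'_surjective M) K, hM.2 _ h,
          Subgroup.map_top_of_surjective _ (QuotientGroup.mk'_surjective M)]⟩
    have hq : IsPGroup p (G ⧸ M) := hG.to_quotient M
    have := hq.isNilpotent
    have hc : IsCyclic (G ⧸ M) := inferInstance
    have hab : ∀ a b : G ⧸ M, a * b = b * a := fun a b => IsMulCommutative.is_comm.comm a b
    refine ⟨?_, fun x => ?_⟩
    · rw [commutator_def, Subgroup.commutator_le]
      intro a _ b _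
      rw [← QuotientGroup.eq_one_iff, commutatorElement_def]
      simp only [QuotientGroup.mk_mul, QuotientGroup.mk_inv]
      rw [hab (a : G ⧸ M) b]; group
    · rw [← QuotientGroup.eq_one_iff, QuotientGroup.mk_pow]
      have hp : (Nat.card (G ⧸ M)).Prime := IsSimpleGroup.prime_card
      obtain ⟨k, hk⟩ := IsPGroup.iff_card.1 hq
      rw [hk] at hp
      have hk1 : k = 1 := Nat.Prime.eq_one_of_pow hp
      rw [show p = Nat.card (G ⧸ M) by rw [hk, hk1, pow_one]]
      exact pow_card_eq_one'
  refine ⟨le_iInf₂ fun M hM' => (hM M hM').1, fun x => ?_⟩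
  rw [frattini, Order.radical]
  simp only [Subgroup.mem_iInf]
  exact fun M hM' => (hM M hM').2 x

end Cfsg.Agent.S0012
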