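import Cfsg.Statements.S0093
import Cfsg.Agent.Lib.Fusion.Critical

set_option autoImplicit false
open Cfsg
open Cfsg.Agent.Fusion
open scoped commutatorElement

namespace Cfsg.Agent.S0093

/-- Every finite p-group has a critical subgroup: a characteristic subgroup H whose Frattini subgroup and whose commutator with the whole group lie in the centre of H, and whose centralizer is contained in H. -/
theorem result {P : Type*} [Group P] [Finite P] {p : ℕ} [Fact p.Prime] (hP : IsPGroup p P) : ∃ H : Subgroup P, H.Characteristic ∧ (frattini H).map H.subtype ≤ Subgroup.centralizer (H : Set P) ∧ ⁅H, (⊤ : Subgroup P)⁆ ≤ H ⊓ Subgroup.centralizer (H : Set P) ∧ Subgroup.centralizer (H : Set P) ≤ H := by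
  obtain ⟨H, hc, hp', hcomm, hC⟩ := exists_critical hP
  refine ⟨H, hc, ?_, hcomm, hC⟩
  have hsub : zOf H ≤ H := inf_le_left
  haveI : ((zOf H).subgroupOf H).Normal := ⟨fun a ha b => by
    rw [Subgroup.mem_subgroupOf] at ha ⊢
    have h1 : (b : P) * (a : P) = (a : P) * b := (Subgroup.mem_centralizer_iff.1 ha.2) _ b.2
    simpa [h1] using ha⟩
  have h := frattini_le_of_elementary_quotient (p := p) ((zOf H).subgroupOf H)
    (fun a b => Subgroup.mem_subgroupOf.2 (hcomm (Subgroup.commutator_mem_commutator a.2 trivial)))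
    (fun a => Subgroup.mem_subgroupOf.2 (hp' a a.2))
  rintro _ ⟨x, hx, rfl⟩
  exact (Subgroup.mem_subgroupOf.1 (h hx)).2

end Cfsg.Agent.S0093
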