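import Cfsg.Statements.S0208
import Cfsg.Agent.Lib.Fusion.Dihedral

set_option autoImplicit false
open Cfsg
open Cfsg.Agent.Fusion
open scoped commutatorElement

namespace Cfsg.Agent.S0208

/-- If x, y are involutions and xy has odd order, then some element of the subgroup generated by x and y conjugates x to y. -/
theorem result {G : Type*} [Group G] [Finite G] (x y : G) (hx : orderOf x = 2) (hy : orderOf y = 2) (hodd : Odd (orderOf (x * y))) : ∃ d ∈ Subgroup.closure ({x, y} : Set G), d * x * d⁻¹ = y := by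
  obtain ⟨m, hm⟩ := hodd
  obtain ⟨d, hd, he⟩ := exists_conj_invol hx hy ((m : ℤ) + 1)
  refine ⟨d, hd, ?_⟩
  rw [he, show (2 * ((m : ℤ) + 1)) = ((orderOf (x * y) : ℕ) : ℤ) + 1 by rw [hm]; push_cast; ring,
    zpow_add_one, zpow_natCast, pow_orderOf_eq_one, one_mul, ← mul_assoc, invol_mul_self hx, one_mul]

end Cfsg.Agent.S0208
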