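import Cfsg.Statements.S0209
import Cfsg.Agent.Lib.Fusion.Dihedral

set_option autoImplicit false
open Cfsg
open Cfsg.Agent.Fusion
open scoped commutatorElement

namespace Cfsg.Agent.S0209

/-- If x, y are involutions whose product has even order n, the element (xy)^(n/2) is an involution that commutes with x and with y. -/
theorem result {G : Type*} [Group G] [Finite G] (x y : G) (hx : orderOf x = 2) (hy : orderOf y = 2) (heven : Even (orderOf (x * y))) : orderOf ((x * y) ^ (orderOf (x * y) / 2)) = 2 ∧ Commute ((x * y) ^ (orderOf (x * y) / 2)) x ∧ Commute ((x * y) ^ (orderOf (x * y) / 2)) y := by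
  set n := orderOf (x * y)
  have hn : 0 < n := orderOf_pos _
  obtain ⟨m, hm⟩ := heven
  have hm' : n / 2 = m := by omega
  rw [hm']
  have hcx : Commute ((x * y) ^ m) x := by
    have h := invol_conj_zpow hx hy (m : ℤ)
    rw [zpow_neg, zpow_natCast] at h
    have h2 : ((x * y) ^ m)⁻¹ = (x * y) ^ m :=
      inv_eq_of_mul_eq_one_right (by rw [← pow_add, ← hm]; exact pow_orderOf_eq_one _)
    rw [h2, mul_inv_eq_iff_eq_mul] at h
    exact h.symm
  refine ⟨orderOf_eq_prime ?_ (fun h => ?_), hcx, ?_⟩
  · rw [← pow_mul, mul_two, ← hm]; exact pow_orderOf_eq_one _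
  · have := Nat.le_of_dvd (by omega) (orderOf_dvd_of_pow_eq_one h)
    omega
  · have h : Commute ((x * y) ^ m) (x * (x * y)) :=
      hcx.mul_right ((Commute.refl (x * y)).pow_left m)
    rwa [← mul_assoc, invol_mul_self hx, one_mul] at h

end Cfsg.Agent.S0209
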