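import Cfsg.Statements.S4207
import Mathlib
import Cfsg.Agent.Lib.Perm.GenTuples

set_option autoImplicit false
open Cfsg

namespace Cfsg.Agent.S4207

/-- Let `P` be a group of order `p^n` whose Frattini subgroup has index `p^r`. Then any group of automorphisms of `P` each of which induces the identity on the Frattini quotient has order dividing `p^(r(n-r))`; in particular it is a `p`-group. -/
theorem result {P : Type*} [Group P] [Finite P] {p n r : ℕ} [Fact p.Prime] (hP : Nat.card P = p ^ n) (hr : (frattini P).index = p ^ r) (A : Subgroup (MulAut P)) (hA : ∀ α ∈ A, ∀ x : P, α x * x⁻¹ ∈ frattini P) : Nat.card A ∣ p ^ (r * (n - r)) := by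
  classical
  have hPp : IsPGroup p P := IsPGroup.of_card hP
  obtain ⟨hrn, hc⟩ := Cfsg.Agent.Perm.card_frattini hP hr
  obtain ⟨f, hf⟩ := Cfsg.Agent.Perm.exists_goodTuple hPp hP hr
  have hgen : Subgroup.closure (Set.range f) = ⊤ := Cfsg.Agent.Perm.good_gen hP hr ⟨f, hf⟩
  have hbase : ∀ (α : A) (i : Fin r) (y : frattini P), (α : MulAut P) (f i * (y : P)) = f i * ((f i)⁻¹ * (α : MulAut P) (f i * (y : P))) :=
    fun α i y => by group
  have hmem : ∀ (α : A) (i : Fin r) (y : frattini P), (f i)⁻¹ * (α : MulAut P) (f i * (y : P)) ∈ frattini P := by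
    intro α i y
    have h1 := hA α α.2 (f i * y)
    have h2 := Subgroup.Normal.conj_mem (inferInstance : (frattini P).Normal) _ h1 (f i)⁻¹
    have h3 := (frattini P).mul_mem h2 y.2
    rw [inv_inv] at h3
    rwa [show (f i)⁻¹ * ((α : MulAut P) (f i * (y : P)) * (f i * (y : P))⁻¹) * f i * (y : P) =
      (f i)⁻¹ * (α : MulAut P) (f i * (y : P)) by group] at h3
  letI : MulAction A (Fin r → frattini P) :=
    { smul := fun α y i => ⟨(f i)⁻¹ * (α : MulAut P) (f i * (y i : P)), hmem α i (y i)⟩
      one_smul := fun y => funext fun i => Subtype.ext (show (f i)⁻¹ * (f i * (y i : P)) = y i by group)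
      mul_smul := fun α β y => funext fun i => Subtype.ext (by
        show (f i)⁻¹ * (α : MulAut P) ((β : MulAut P) (f i * (y i : P))) =
          (f i)⁻¹ * (α : MulAut P) (f i * ((f i)⁻¹ * (β : MulAut P) (f i * (y i : P))))
        rw [mul_inv_cancel_left]) }
  have h := Cfsg.Agent.Perm.card_dvd_of_free (A := A) (X := Fin r → frattini P) fun α y hy => by
    have hfix : ∀ i, (α : MulAut P) (f i * (y i : P)) = f i * (y i : P) := by
      intro i
      have e : (f i)⁻¹ * (α : MulAut P) (f i * (y i : P)) = (y i : P) :=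
        congrArg (fun w : Fin r → frattini P => (w i : P)) hy
      calc (α : MulAut P) (f i * (y i : P)) = f i * ((f i)⁻¹ * (α : MulAut P) (f i * (y i : P))) := hbase α i (y i)
        _ = f i * (y i : P) := by rw [e]
    have hgen' : Subgroup.closure (Set.range fun i => f i * (y i : P)) = ⊤ := by
      refine frattini_nongenerating (top_le_iff.1 ?_)
      rw [← hgen, Subgroup.closure_le]
      rintro _ ⟨i, rfl⟩
      have : f i = (f i * (y i : P)) * (y i : P)⁻¹ := by group
      rw [this]
      exact Subgroup.mul_mem _ (Subgroup.mem_sup_left (Subgroup.subset_closure ⟨i, rfl⟩))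
        (Subgroup.inv_mem _ (Subgroup.mem_sup_right (y i).2))
    exact Subtype.ext (Cfsg.Agent.Perm.aut_eq_one_of_gen hgen' hfix)
  rwa [Nat.card_fun, Nat.card_fin, hc, ← pow_mul, mul_comm] at h

end Cfsg.Agent.S4207
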