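import Cfsg.Statements.S1903
import Cfsg.Agent.Lib.Lie.UnitarySylow
import Cfsg.Agent.Lib.Fusion.ChiefAction
import Cfsg.Agent.Lib.Fusion.Basic
import Cfsg.Agent.Lib.Solv.Cores

set_option autoImplicit false
set_option linter.unusedSectionVars false
set_option linter.style.haveILetI false
open Cfsg
open Cfsg.Agent.Fusion
open scoped commutatorElement

namespace Cfsg.Agent.S1903

section Abstract

/-- The conjugates of `w` under powers of `x`. -/
def wi {G : Type*} [Group G] (x w : G) (i : ℕ) : G := x ^ i * w * (x ^ i)⁻¹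

/-- The relations of the group of order `320`. -/
structure Std {G : Type*} [Group G] (x w : G) : Prop where
  x5 : x ^ 5 = 1
  cen : ∀ i j, ⁅wi x w i, wi x w j⁆ ∈ Subgroup.center G
  inv : ∀ i j, ⁅wi x w i, wi x w j⁆ ^ 2 = 1
  sq : w * w ∈ Subgroup.center G
  sq1 : (w * w) ^ 2 = 1
  rel : wi x w 4 = wi x w 0 * wi x w 1 * wi x w 2 * wi x w 3

theorem map_wi {G H : Type*} [Group G] [Group H] (f : G →* H) (x w : G) (i : ℕ) :
    f (wi x w i) = wi (f x) (f w) i := by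
  simp [wi]

theorem Std.prod {G H : Type*} [Group G] [Group H] {x w : G} {x' w' : H} (h : Std x w) (h' : Std x' w') :
    Std (x, x') (w, w') := by
  have hw : ∀ i, wi (x, x') (w, w') i = (wi x w i, wi x' w' i) := fun i => rfl
  have hc : ∀ {g : G} {g' : H}, g ∈ Subgroup.center G → g' ∈ Subgroup.center H → (g, g') ∈ Subgroup.center (G × H) :=
    fun hg hg' => Subgroup.mem_center_iff.2 fun y =>
      Prod.ext (Subgroup.mem_center_iff.1 hg y.1) (Subgroup.mem_center_iff.1 hg' y.2)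
  refine ⟨Prod.ext h.x5 h'.x5, fun i j => ?_, fun i j => ?_, hc h.sq h'.sq, Prod.ext h.sq1 h'.sq1, ?_⟩
  · rw [hw, hw]; exact hc (h.cen i j) (h'.cen i j)
  · rw [hw, hw]; exact Prod.ext (h.inv i j) (h'.inv i j)
  · simp only [hw, Prod.mk_mul_mk]; exact Prod.ext h.rel h'.rel

theorem Std.of_injective {G H : Type*} [Group G] [Group H] (f : G →* H) (hf : Function.Injective f) {x w : G}
    (h : Std (f x) (f w)) : Std x w := by
  have hc : ∀ g, f g ∈ Subgroup.center H → g ∈ Subgroup.center G := fun g hg =>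
    Subgroup.mem_center_iff.2 fun y => hf (by rw [map_mul, map_mul, Subgroup.mem_center_iff.1 hg])
  refine ⟨hf (by rw [map_pow, map_one]; exact h.x5), fun i j => hc _ ?_, fun i j => hf ?_, hc _ ?_, hf ?_, hf ?_⟩
  · rw [map_commutatorElement, map_wi, map_wi]; exact h.cen i j
  · rw [map_pow, map_one, map_commutatorElement, map_wi, map_wi]; exact h.inv i j
  · rw [map_mul]; exact h.sq
  · rw [map_pow, map_one, map_mul]; exact h.sq1
  · simp only [map_mul, map_wi]; exact h.rel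

theorem card_sup_zpowers_le {G : Type*} [Group G] [Finite G] (H : Subgroup G) (a : G) (m : ℕ) (hm : 0 < m)
    (ha : a ∈ Subgroup.normalizer (H : Set G)) (ham : a ^ m ∈ H) :
    Nat.card (H ⊔ Subgroup.zpowers a : Subgroup G) ≤ Nat.card H * m := by
  rw [← Nat.card_fin m, ← Nat.card_prod]
  refine Nat.card_le_card_of_surjective (fun y => (⟨(y.1 : G) * a ^ (y.2 : ℕ),
    mul_mem (Subgroup.mem_sup_left y.1.2) (pow_mem (Subgroup.mem_sup_right (Subgroup.mem_zpowers a)) _)⟩ :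
      (H ⊔ Subgroup.zpowers a : Subgroup G))) fun g => ?_
  have hg : (g : G) ∈ Subgroup.zpowers a ⊔ H := by rw [sup_comm]; exact g.2
  obtain ⟨b, hb, h, hh, hbh⟩ := exists_mul_of_mem_sup (Subgroup.zpowers_le.2 ha) hg
  obtain ⟨k, hk⟩ := Submonoid.mem_powers_iff _ _ |>.1 ((mem_powers_iff_mem_zpowers).2 hb)
  have hbn : b * h * b⁻¹ ∈ H := (Subgroup.mem_normalizer_iff.1 (Subgroup.zpowers_le.2 ha hb) h).1 hh
  refine ⟨(⟨b * h * b⁻¹ * (a ^ m) ^ (k / m), mul_mem hbn (pow_mem ham _)⟩, ⟨k % m, Nat.mod_lt _ hm⟩), Subtype.ext ?_⟩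
  show b * h * b⁻¹ * (a ^ m) ^ (k / m) * a ^ (k % m) = g
  rw [mul_assoc (b * h * b⁻¹), ← pow_mul, ← pow_add, Nat.div_add_mod, hk, inv_mul_cancel_right, hbh]

theorem sq_mul_of_cen {G : Type*} [Group G] {a b : G} (h : ⁅b, a⁆ ∈ Subgroup.center G) :
    a * b * (a * b) = a * a * (b * b) * ⁅b, a⁆ := by
  have h1 := Subgroup.mem_center_iff.1 h
  have e : b * a = ⁅b, a⁆ * (a * b) := by rw [commutatorElement_def]; group
  calc a * b * (a * b) = a * (b * a) * b := by simp [mul_assoc]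
    _ = a * (⁅b, a⁆ * (a * b)) * b := by rw [← e]
    _ = a * ((a * b) * ⁅b, a⁆) * b := by rw [← h1]
    _ = a * a * b * (⁅b, a⁆ * b) := by simp [mul_assoc]
    _ = a * a * b * (b * ⁅b, a⁆) := by rw [← h1 b]
    _ = _ := by simp [mul_assoc]

theorem comm_mul_of_cen {G : Type*} [Group G] {a b c : G} (h : ⁅c, b⁆ ∈ Subgroup.center G) :
    ⁅c, a * b⁆ = ⁅c, a⁆ * ⁅c, b⁆ := by
  rw [show ⁅c, a * b⁆ = ⁅c, a⁆ * (a * ⁅c, b⁆ * a⁻¹) by simp only [commutatorElement_def]; group,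
    Subgroup.mem_center_iff.1 h a, mul_inv_cancel_right]

variable {G : Type*} [Group G] {x w : G}

theorem Std.period (h : Std x w) (i : ℕ) : wi x w (i + 5) = wi x w i := by
  rw [wi, wi, pow_add, h.x5, mul_one]

theorem Std.conj (_h : Std x w) (i : ℕ) : x * wi x w i * x⁻¹ = wi x w (i + 1) := by
  rw [wi, wi, pow_succ']; group

theorem Std.wi_sq (h : Std x w) (i : ℕ) : wi x w i * wi x w i = w * w := by
  rw [wi, show x ^ i * w * (x ^ i)⁻¹ * (x ^ i * w * (x ^ i)⁻¹) = x ^ i * (w * w) * (x ^ i)⁻¹ by group,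
    Subgroup.mem_center_iff.1 h.sq, mul_inv_cancel_right]

theorem Std.shift (h : Std x w) (i j k : ℕ) :
    ⁅wi x w (i + k), wi x w (j + k)⁆ = ⁅wi x w i, wi x w j⁆ := by
  have e : ∀ m, wi x w (m + k) = MulAut.conj (x ^ k) (wi x w m) := fun m => by
    rw [MulAut.conj_apply, wi, wi, add_comm, pow_add]; group
  rw [e, e]
  have h2 : ⁅MulAut.conj (x ^ k) (wi x w i), MulAut.conj (x ^ k) (wi x w j)⁆ =
      MulAut.conj (x ^ k) ⁅wi x w i, wi x w j⁆ := (map_commutatorElement (MulAut.conj (x ^ k)) _ _).symm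
  rw [h2, MulAut.conj_apply, Subgroup.mem_center_iff.1 (h.cen i j), mul_inv_cancel_right]

theorem Std.swap (h : Std x w) (i j : ℕ) : ⁅wi x w i, wi x w j⁆ = ⁅wi x w j, wi x w i⁆ := by
  rw [← commutatorElement_inv (wi x w j), eq_comm, ← mul_eq_one_iff_eq_inv, ← _root_.sq]
  exact h.inv j i

theorem Std.comm_mem (h : Std x w) (i j : ℕ) :
    ⁅wi x w i, wi x w j⁆ ∈ Subgroup.closure ({⁅wi x w 0, wi x w 1⁆, ⁅wi x w 0, wi x w 2⁆} : Set G) := by
  have hmod : ∀ m, wi x w m = wi x w (m % 5) := fun m => by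
    conv_lhs => rw [← Nat.mod_add_div m 5]
    induction m / 5 with
    | zero => rw [mul_zero, add_zero]
    | succ t ih => rw [show m % 5 + 5 * (t + 1) = m % 5 + 5 * t + 5 by ring, h.period, ih]
  have h3 : ⁅wi x w 0, wi x w 3⁆ = ⁅wi x w 0, wi x w 2⁆ := by
    rw [← h.shift 0 3 2, show 3 + 2 = 0 + 5 from rfl, h.period, zero_add, h.swap]
  have h4 : ⁅wi x w 0, wi x w 4⁆ = ⁅wi x w 0, wi x w 1⁆ := by
    rw [← h.shift 0 4 1, show 4 + 1 = 0 + 5 from rfl, h.period, zero_add, h.swap]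
  have h0 : ∀ d, d < 5 → ⁅wi x w 0, wi x w d⁆ ∈
      Subgroup.closure ({⁅wi x w 0, wi x w 1⁆, ⁅wi x w 0, wi x w 2⁆} : Set G) := by
    intro d hd
    interval_cases d
    · rw [commutatorElement_self]; exact one_mem _
    · exact Subgroup.subset_closure (by simp)
    · exact Subgroup.subset_closure (by simp)
    · rw [h3]; exact Subgroup.subset_closure (by simp)
    · rw [h4]; exact Subgroup.subset_closure (by simp)
  rcases le_total i j with hij | hij
  · obtain ⟨d, rfl⟩ : ∃ d, j = d + i := ⟨j - i, by omega⟩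
    rw [show ⁅wi x w i, wi x w (d + i)⁆ = ⁅wi x w (0 + i), wi x w (d + i)⁆ by rw [zero_add], h.shift, hmod d]
    exact h0 _ (Nat.mod_lt _ (by norm_num))
  · obtain ⟨d, rfl⟩ : ∃ d, i = d + j := ⟨i - j, by omega⟩
    rw [h.swap (d + j) j, show ⁅wi x w j, wi x w (d + j)⁆ = ⁅wi x w (0 + j), wi x w (d + j)⁆ by rw [zero_add], h.shift, hmod d]
    exact h0 _ (Nat.mod_lt _ (by norm_num))

theorem Std.sq_mem (h : Std x w) :
    w * w ∈ Subgroup.closure ({⁅wi x w 0, wi x w 1⁆, ⁅wi x w 0, wi x w 2⁆} : Set G) := by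
  have hz := fun i j => h.comm_mem i j
  obtain ⟨Z, hZ⟩ : ∃ Z, Z = Subgroup.closure ({⁅wi x w 0, wi x w 1⁆, ⁅wi x w 0, wi x w 2⁆} : Set G) := ⟨_, rfl⟩
  rw [← hZ] at hz ⊢
  obtain ⟨s, hs⟩ : ∃ s, s = w * w := ⟨_, rfl⟩
  have hss : s * s = 1 := by rw [hs, ← _root_.sq]; exact h.sq1
  have c1 : ⁅wi x w 1, wi x w 0⁆ ∈ Subgroup.center G := h.cen 1 0
  have e2 : wi x w 0 * wi x w 1 * (wi x w 0 * wi x w 1) = ⁅wi x w 1, wi x w 0⁆ := by
    rw [sq_mul_of_cen c1, h.wi_sq, h.wi_sq, ← hs, hss, one_mul]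
  have c2 : ⁅wi x w 2, wi x w 0 * wi x w 1⁆ = ⁅wi x w 2, wi x w 0⁆ * ⁅wi x w 2, wi x w 1⁆ :=
    comm_mul_of_cen (h.cen 2 1)
  have e3 : wi x w 0 * wi x w 1 * wi x w 2 * (wi x w 0 * wi x w 1 * wi x w 2) =
      ⁅wi x w 1, wi x w 0⁆ * s * (⁅wi x w 2, wi x w 0⁆ * ⁅wi x w 2, wi x w 1⁆) := by
    rw [sq_mul_of_cen (by rw [c2]; exact mul_mem (h.cen 2 0) (h.cen 2 1)), e2, h.wi_sq, ← hs, c2]
  have c3 : ⁅wi x w 3, wi x w 0 * wi x w 1 * wi x w 2⁆ =
      ⁅wi x w 3, wi x w 0⁆ * ⁅wi x w 3, wi x w 1⁆ * ⁅wi x w 3, wi x w 2⁆ := by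
    rw [comm_mul_of_cen (h.cen 3 2), comm_mul_of_cen (h.cen 3 1)]
  have e4 := h.wi_sq 4
  rw [h.rel, sq_mul_of_cen (by rw [c3]; exact mul_mem (mul_mem (h.cen 3 0) (h.cen 3 1)) (h.cen 3 2)), e3, h.wi_sq,
    ← hs, c3] at e4
  have hsc : ∀ g : G, g * s = s * g := Subgroup.mem_center_iff.1 (hs ▸ h.sq)
  obtain ⟨a, ha⟩ : ∃ a, a = ⁅wi x w 1, wi x w 0⁆ := ⟨_, rfl⟩
  obtain ⟨b, hb⟩ : ∃ b, b = ⁅wi x w 2, wi x w 0⁆ * ⁅wi x w 2, wi x w 1⁆ := ⟨_, rfl⟩
  obtain ⟨d, hd⟩ : ∃ d, d = ⁅wi x w 3, wi x w 0⁆ * ⁅wi x w 3, wi x w 1⁆ * ⁅wi x w 3, wi x w 2⁆ := ⟨_, rfl⟩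
  rw [← ha, ← hb, ← hd] at e4
  have e5 : a * b * d = s := by
    calc a * b * d = a * (s * s) * b * d := by rw [hss, mul_one]
      _ = a * s * (s * b) * d := by simp [mul_assoc]
      _ = a * s * (b * s) * d := by rw [hsc b]
      _ = a * s * b * s * d := by simp [mul_assoc]
      _ = s := e4
  rw [← hs, ← e5, ha, hb, hd]
  exact mul_mem (mul_mem (hz _ _) (mul_mem (hz _ _) (hz _ _))) (mul_mem (mul_mem (hz _ _) (hz _ _)) (hz _ _))

theorem Std.card_le [Finite G] (h : Std x w) (hgen : Subgroup.closure ({x, w} : Set G) = ⊤) :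
    Nat.card G ≤ 320 := by
  obtain ⟨z2, hz2⟩ : ∃ z, z = ⁅wi x w 0, wi x w 1⁆ := ⟨_, rfl⟩
  obtain ⟨z3, hz3⟩ : ∃ z, z = ⁅wi x w 0, wi x w 2⁆ := ⟨_, rfl⟩
  obtain ⟨Z, hZ⟩ : ∃ Z, Z = Subgroup.closure ({z2, z3} : Set G) := ⟨_, rfl⟩
  have hzc : Z ≤ Subgroup.center G := by
    rw [hZ, Subgroup.closure_le]
    rintro g (rfl | rfl)
    · rw [hz2]; exact h.cen _ _
    · rw [hz3]; exact h.cen _ _
  have hnorm : ∀ g : G, g ∈ Subgroup.normalizer (Z : Set G) := fun g =>
    mem_normalizer_of_cj_le (by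
      rintro _ ⟨v, hv, rfl⟩
      show g * v * g⁻¹ ∈ Z
      rw [Subgroup.mem_center_iff.1 (hzc hv) g, mul_inv_cancel_right]; exact hv)
  have hZ4 : Nat.card Z ≤ 4 := by
    have e : Z = Subgroup.zpowers z2 ⊔ Subgroup.zpowers z3 := by
      rw [hZ, Subgroup.zpowers_eq_closure, Subgroup.zpowers_eq_closure, ← Subgroup.closure_union]; rfl
    have hn : z3 ∈ Subgroup.normalizer (Subgroup.zpowers z2 : Set G) := mem_normalizer_of_cj_le (by
      rintro _ ⟨v, hv, rfl⟩
      show z3 * v * z3⁻¹ ∈ Subgroup.zpowers z2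
      rw [← (Subgroup.mem_center_iff.1 (hz3 ▸ h.cen 0 2) v), mul_inv_cancel_right]
      exact hv)
    rw [e]
    refine (card_sup_zpowers_le _ z3 2 two_pos hn (by rw [hz3, h.inv]; exact one_mem _)).trans ?_
    have : Nat.card (Subgroup.zpowers z2) ≤ 2 := by
      rw [Nat.card_zpowers]; exact orderOf_le_of_pow_eq_one two_pos (by rw [hz2]; exact h.inv _ _)
    omega
  have hcomm : ∀ i j, ⁅wi x w i, wi x w j⁆ ∈ Z := fun i j => by rw [hZ, hz2, hz3]; exact h.comm_mem i j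
  let N : ℕ → Subgroup G := fun k => Z ⊔ Subgroup.closure (wi x w '' Set.Iio k)
  have hw : ∀ m k, m < k → wi x w m ∈ N k := fun m k hm =>
    Subgroup.mem_sup_right (Subgroup.subset_closure ⟨m, hm, rfl⟩)
  have hN : ∀ (g : G) (k : ℕ), (∀ m < k, g * wi x w m * g⁻¹ ∈ N k) → g ∈ Subgroup.normalizer (N k : Set G) := by
    intro g k hg
    refine mem_normalizer_of_cj_le ?_
    show (N k).map (MulAut.conj g).toMonoidHom ≤ N k
    rw [Subgroup.map_le_iff_le_comap]
    refine sup_le (fun v hv => ?_) ((Subgroup.closure_le _).2 ?_)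
    · show g * v * g⁻¹ ∈ N k
      exact Subgroup.mem_sup_left ((Subgroup.mem_normalizer_iff.1 (hnorm g) v).1 hv)
    · rintro _ ⟨m, hm, rfl⟩
      exact hg m hm
  have hwn : ∀ i k, wi x w i ∈ Subgroup.normalizer (N k : Set G) := fun i k => hN _ _ fun m hm => by
    rw [show wi x w i * wi x w m * (wi x w i)⁻¹ = ⁅wi x w i, wi x w m⁆ * wi x w m by
      rw [commutatorElement_def, inv_mul_cancel_right]]
    exact mul_mem (Subgroup.mem_sup_left (hcomm i m)) (hw m k hm)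
  have hcard : ∀ k, Nat.card (N k) ≤ 4 * 2 ^ k := by
    intro k
    induction k with
    | zero => simpa [N] using hZ4
    | succ k ih =>
      have e : N (k + 1) = N k ⊔ Subgroup.zpowers (wi x w k) := by
        show Z ⊔ _ = Z ⊔ _ ⊔ _
        rw [sup_assoc, Subgroup.zpowers_eq_closure, ← Subgroup.closure_union, Set.union_singleton,
          ← Set.image_insert_eq]
        congr 3
        ext m
        simp only [Set.mem_Iio, Set.mem_insert_iff]
        omega
      rw [e, pow_succ, ← mul_assoc]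
      refine (card_sup_zpowers_le _ _ 2 two_pos (hwn k k) ?_).trans (Nat.mul_le_mul_right 2 ih)
      rw [_root_.sq, h.wi_sq]
      exact Subgroup.mem_sup_left (by rw [hZ, hz2, hz3]; exact h.sq_mem)
  have hxn : x ∈ Subgroup.normalizer (N 4 : Set G) := hN _ _ fun m hm => by
    rw [h.conj]
    rcases Nat.lt_or_ge (m + 1) 4 with h4 | h4
    · exact hw _ _ h4
    · rw [show m + 1 = 4 by omega, h.rel]
      exact mul_mem (mul_mem (mul_mem (hw 0 4 (by omega)) (hw 1 4 (by omega))) (hw 2 4 (by omega))) (hw 3 4 (by omega))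
  have htop : N 4 ⊔ Subgroup.zpowers x = ⊤ := by
    rw [eq_top_iff, ← hgen, Subgroup.closure_le]
    rintro g (rfl | rfl)
    · exact Subgroup.mem_sup_right (Subgroup.mem_zpowers _)
    · exact Subgroup.mem_sup_left (by simpa [wi] using hw 0 4 (by omega))
  rw [← Subgroup.card_top (G := G), ← htop]
  refine (card_sup_zpowers_le _ x 5 (by norm_num) hxn (by rw [h.x5]; exact one_mem _)).trans ?_
  have := hcard 4
  omega

/-- Two groups of order `320` with standard generators are isomorphic. -/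
theorem iso_of_std {H : Type*} [Group H] [Finite G] [Finite H] {x' w' : H} (h : Std x w) (h' : Std x' w')
    (hG : Nat.card G = 320) (hH : Nat.card H = 320) (hgen : Subgroup.closure ({x, w} : Set G) = ⊤)
    (hgen' : Subgroup.closure ({x', w'} : Set H) = ⊤) : Nonempty (G ≃* H) := by
  obtain ⟨K, hK⟩ : ∃ K, K = Subgroup.closure ({(x, x'), (w, w')} : Set (G × H)) := ⟨_, rfl⟩
  have hx : (x, x') ∈ K := hK ▸ Subgroup.subset_closure (by simp)
  have hw : (w, w') ∈ K := hK ▸ Subgroup.subset_closure (by simp)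
  have hS : Std (⟨_, hx⟩ : K) ⟨_, hw⟩ := Std.of_injective K.subtype K.subtype_injective (h.prod h')
  have hgK : Subgroup.closure ({⟨_, hx⟩, ⟨_, hw⟩} : Set K) = ⊤ := by
    refine Subgroup.map_injective K.subtype_injective ?_
    rw [MonoidHom.map_closure, ← MonoidHom.range_eq_map, Subgroup.range_subtype, Set.image_pair]
    exact hK.symm
  have hcard := hS.card_le hgK
  let f₁ : K →* G := (MonoidHom.fst G H).comp K.subtype
  let f₂ : K →* H := (MonoidHom.snd G H).comp K.subtype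
  have hs₁ : Function.Surjective f₁ := by
    rw [← MonoidHom.range_eq_top, eq_top_iff, ← hgen, Subgroup.closure_le]
    rintro g (rfl | rfl)
    exacts [⟨⟨_, hx⟩, rfl⟩, ⟨⟨_, hw⟩, rfl⟩]
  have hs₂ : Function.Surjective f₂ := by
    rw [← MonoidHom.range_eq_top, eq_top_iff, ← hgen', Subgroup.closure_le]
    rintro g (rfl | rfl)
    exacts [⟨⟨_, hx⟩, rfl⟩, ⟨⟨_, hw⟩, rfl⟩]
  have hb₁ : Function.Bijective f₁ := (Nat.bijective_iff_surjective_and_card _).2
    ⟨hs₁, le_antisymm (hG ▸ hcard) (Nat.card_le_card_of_surjective f₁ hs₁)⟩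
  have hb₂ : Function.Bijective f₂ := (Nat.bijective_iff_surjective_and_card _).2
    ⟨hs₂, le_antisymm (hH ▸ hcard) (Nat.card_le_card_of_surjective f₂ hs₂)⟩
  exact ⟨(MulEquiv.ofBijective f₁ hb₁).symm.trans (MulEquiv.ofBijective f₂ hb₂)⟩

theorem fix_of_card_le {T : Type*} [Group T] [Finite T] (φ : MulAut T) (h5 : φ ^ 5 = 1) {k : ℕ}
    (hT : Nat.card T = 2 ^ k) (hk : k ≤ 3) : ∀ t, φ t = t := by
  haveI : Fact (Nat.Prime 5) := ⟨by norm_num⟩
  have hp : IsPGroup 5 (Subgroup.zpowers φ) := by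
    rintro ⟨_, i, rfl⟩
    refine ⟨1, Subtype.ext ?_⟩
    show (φ ^ i) ^ (5 ^ 1) = 1
    rw [pow_one, ← zpow_natCast, zpow_comm, zpow_natCast, h5, one_zpow]
  have h := hp.card_modEq_card_fixedPoints T
  let Fx : Subgroup T :=
    { carrier := {t | φ t = t}
      one_mem' := map_one φ
      mul_mem' := fun {a b} ha hb => by show φ (a * b) = a * b; rw [map_mul, ha, hb]
      inv_mem' := fun {a} ha => by show φ a⁻¹ = a⁻¹; rw [map_inv, ha] }
  have hfx : Nat.card (MulAction.fixedPoints (Subgroup.zpowers φ) T) = Nat.card Fx := by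
    refine Nat.card_congr (Equiv.subtypeEquivRight fun t => ⟨fun ht => ht ⟨φ, Subgroup.mem_zpowers φ⟩, fun ht => ?_⟩)
    rintro ⟨g, i, rfl⟩
    have hle : Subgroup.zpowers φ ≤ MulAction.stabilizer (MulAut T) t := Subgroup.zpowers_le.2 ht
    exact hle ⟨i, rfl⟩
  obtain ⟨i, hi, hc⟩ := (Nat.dvd_prime_pow Nat.prime_two).1 (hT ▸ Subgroup.card_subgroup_dvd_card Fx)
  rw [hfx, hc, hT] at h
  have hik : i = k := by
    interval_cases k <;> interval_cases i <;> first | rfl | simp [Nat.ModEq] at h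
  have htop : Fx = ⊤ := Subgroup.eq_top_of_card_eq Fx (by rw [hc, hT, hik])
  exact fun t => (htop ▸ Subgroup.mem_top t : t ∈ Fx)

/-- A group of order `320` with derived subgroup of order `64` having a Klein four centre has standard generators. -/
theorem exists_std [Finite G] (hG : Nat.card G = 320) (hD : Nat.card (commutator G) = 64)
    (hZ : IsKleinFour (Subgroup.center (commutator G))) :
    ∃ x w : G, Std x w ∧ Subgroup.closure ({x, w} : Set G) = ⊤ := by
  haveI : Fact (Nat.Prime 2) := ⟨Nat.prime_two⟩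
  haveI : Fact (Nat.Prime 5) := ⟨by norm_num⟩
  obtain ⟨x, hx⟩ := exists_prime_orderOf_dvd_card' (G := G) 5 (by rw [hG]; norm_num)
  have hx5 : x ^ 5 = 1 := hx ▸ pow_orderOf_eq_one x
  have hDp : IsPGroup 2 (commutator G) := IsPGroup.of_card (n := 6) (by rw [hD]; norm_num)
  have hGD : commutator G ⊔ Subgroup.zpowers x = ⊤ := by
    refine Subgroup.eq_top_of_card_eq _ (le_antisymm (Subgroup.card_le_card_group _) ?_)
    rw [hG]
    refine Nat.le_of_dvd Nat.card_pos ?_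
    rw [show 320 = 64 * 5 from rfl]
    exact (show Nat.Coprime 64 5 by norm_num).mul_dvd_of_dvd_of_dvd (hD ▸ Subgroup.card_dvd_of_le le_sup_left)
      (hx ▸ Nat.card_zpowers x ▸ Subgroup.card_dvd_of_le le_sup_right)
  -- small quotients
  have hsmall : ∀ R : Subgroup G, R.Normal → R ≤ commutator G → R.relIndex (commutator G) ∣ 8 → commutator G ≤ R := by
    intro R hR hRD h8
    let π := QuotientGroup.mk' R
    obtain ⟨Dq, hDq⟩ : ∃ Dq, Dq = (commutator G).map π := ⟨_, rfl⟩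
    haveI : Dq.Normal := hDq ▸ Subgroup.Normal.map inferInstance π (QuotientGroup.mk'_surjective R)
    obtain ⟨k, hk3, hk⟩ := (Nat.dvd_prime_pow Nat.prime_two).1 (show R.relIndex (commutator G) ∣ 2 ^ 3 from h8)
    have hcq : Nat.card Dq = 2 ^ k := by rw [← hk, hDq, ← Subgroup.relIndex_ker, QuotientGroup.ker_mk']
    have hφ := fix_of_card_le (MulAut.conjNormal (H := Dq) (π x))
      (by rw [← map_pow, ← map_pow, hx5, map_one, map_one]) hcq hk3
    have hc : ∀ d ∈ Dq, Commute (π x) d := fun d hd => by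
      have := congrArg Subtype.val (hφ ⟨d, hd⟩)
      rw [MulAut.conjNormal_apply] at this
      exact mul_inv_eq_iff_eq_mul.1 this
    have hcomm : Dq ≤ ⁅Dq, Dq⁆ := by
      conv_lhs => rw [hDq, commutator_def, Subgroup.map_commutator]
      refine Subgroup.commutator_le.2 ?_
      rintro _ ⟨a, -, rfl⟩ _ ⟨b, -, rfl⟩
      obtain ⟨a₁, ha₁, _, ⟨i, rfl⟩, rfl⟩ := Subgroup.mem_sup_of_normal_left.1 (hGD.symm ▸ Subgroup.mem_top a : a ∈ commutator G ⊔ Subgroup.zpowers x)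
      obtain ⟨b₁, hb₁, _, ⟨j, rfl⟩, rfl⟩ := Subgroup.mem_sup_of_normal_left.1 (hGD.symm ▸ Subgroup.mem_top b : b ∈ commutator G ⊔ Subgroup.zpowers x)
      have ha : π a₁ ∈ Dq := hDq ▸ ⟨a₁, ha₁, rfl⟩
      have hb : π b₁ ∈ Dq := hDq ▸ ⟨b₁, hb₁, rfl⟩
      rw [map_mul, map_mul, map_zpow, map_zpow]
      have e : ⁅π a₁ * π x ^ i, π b₁ * π x ^ j⁆ = ⁅π a₁, π b₁⁆ := by
        have c1 : Commute (π x ^ i) (π b₁) := (hc _ hb).zpow_left i
        have c2 : Commute (π a₁) (π x ^ j) := ((hc _ ha).zpow_left j).symm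
        have c3 : Commute (π x ^ i) (π x ^ j) := Commute.zpow_zpow_self _ i j
        have c4 : Commute (π b₁) (π x ^ j) := ((hc _ hb).zpow_left j).symm
        have c5 : π x ^ i * (π b₁ * π x ^ j) * (π x ^ i)⁻¹ = π b₁ * π x ^ j := by
          rw [(c1.mul_right c3).eq, mul_inv_cancel_right]
        have c6 : π a₁ * (π b₁ * π x ^ j) * (π a₁)⁻¹ * (π b₁ * π x ^ j)⁻¹ = ⁅π a₁, π b₁⁆ := by
          rw [commutatorElement_def, mul_assoc (π a₁), mul_assoc (π b₁), ← c2.inv_left.eq]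
          group
        rw [← c6, commutatorElement_def]
        calc _ = π a₁ * (π x ^ i * (π b₁ * π x ^ j) * (π x ^ i)⁻¹) * (π a₁)⁻¹ * (π b₁ * π x ^ j)⁻¹ := by group
          _ = _ := by rw [c5]
      rw [e]
      exact Subgroup.commutator_mem_commutator ha hb
    haveI : Group.IsNilpotent Dq := (IsPGroup.of_card hcq).isNilpotent
    have hbot : Dq = ⊥ := by
      by_contra hne
      haveI : Nontrivial Dq := (Subgroup.nontrivial_iff_ne_bot Dq).2 hne
      refine (Group.IsSolvable.commutator_lt_top_of_nontrivial (G := Dq)).ne ?_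
      refine Subgroup.map_injective Dq.subtype_injective ?_
      rw [commutator_def, Subgroup.map_commutator, ← MonoidHom.range_eq_map, Subgroup.range_subtype]
      exact le_antisymm (Subgroup.commutator_le_left _ _) hcomm
    intro d hd
    rw [← QuotientGroup.eq_one_iff]
    exact Subgroup.mem_bot.1 (hbot ▸ hDq ▸ ⟨d, hd, rfl⟩)
  -- the centre of the derived subgroup
  obtain ⟨Z, hZdef⟩ : ∃ Z, Z = (Subgroup.center (commutator G)).map (commutator G).subtype := ⟨_, rfl⟩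
  haveI : Z.Normal := hZdef ▸ inferInstance
  have hZc : Nat.card Z = 4 := by
    rw [hZdef, Subgroup.card_map_of_injective (commutator G).subtype_injective]; exact hZ.card_four
  have hZD : Z ≤ commutator G := hZdef ▸ Subgroup.map_subtype_le _
  have hZ2 : ∀ z ∈ Z, z * z = 1 := by
    subst hZdef
    rintro _ ⟨z, hz, rfl⟩
    rw [← map_mul, show z * z = 1 from congrArg Subtype.val (IsKleinFour.mul_self (⟨z, hz⟩ : Subgroup.center (commutator G))), map_one]
  have hZcen : Z ≤ Subgroup.center G := by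
    intro z hz
    have hφ := fix_of_card_le (MulAut.conjNormal (H := Z) x) (by rw [← map_pow, hx5, map_one])
      (k := 2) (by rw [hZc]; norm_num) (by norm_num)
    have hxz : x * z = z * x := by
      have := congrArg Subtype.val (hφ ⟨z, hz⟩)
      rw [MulAut.conjNormal_apply] at this
      exact mul_inv_eq_iff_eq_mul.1 this
    have hle : commutator G ⊔ Subgroup.zpowers x ≤ Subgroup.centralizer ({z} : Set G) := by
      refine sup_le (fun d hd => Subgroup.mem_centralizer_singleton_iff.2 ?_)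
        (Subgroup.zpowers_le.2 (Subgroup.mem_centralizer_singleton_iff.2 hxz))
      rw [hZdef] at hz
      obtain ⟨z', hz', rfl⟩ := hz
      exact congrArg Subtype.val (Subgroup.mem_center_iff.1 hz' ⟨d, hd⟩)
    rw [hGD] at hle
    exact Subgroup.mem_center_iff.2 fun g => Subgroup.mem_centralizer_singleton_iff.1 (hle (Subgroup.mem_top g))
  have hZidx : Z.relIndex (commutator G) = 16 := by
    have h := Subgroup.relIndex_mul_relIndex ⊥ Z (commutator G) bot_le hZD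
    rw [Subgroup.relIndex_bot_left, Subgroup.relIndex_bot_left, hZc, hD] at h
    omega
  have hmid : ∀ R : Subgroup G, R.Normal → Z ≤ R → R ≤ commutator G → R ≠ Z → commutator G ≤ R := by
    intro R hR hZR hRD hne
    refine hsmall R hR hRD ?_
    have h := Subgroup.relIndex_mul_relIndex Z R (commutator G) hZR hRD
    rw [hZidx] at h
    have h1 : Z.relIndex R ≠ 1 := fun e => hne (le_antisymm (Subgroup.relIndex_eq_one.1 e) hZR)
    obtain ⟨a, -, ha⟩ := (Nat.dvd_prime_pow Nat.prime_two).1 (show Z.relIndex R ∣ 2 ^ 4 from ⟨_, h.symm⟩)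
    obtain ⟨b, -, hb⟩ := (Nat.dvd_prime_pow Nat.prime_two).1
      (show R.relIndex (commutator G) ∣ 2 ^ 4 from ⟨Z.relIndex R, by rw [mul_comm, h]; norm_num⟩)
    rw [ha] at h1
    rw [ha, hb, ← pow_add] at h
    have hab : a + b = 4 := Nat.pow_right_injective le_rfl (h.trans (by norm_num : (16 : ℕ) = 2 ^ 4))
    have ha0 : a ≠ 0 := fun e => h1 (by rw [e, pow_zero])
    rw [hb, show 8 = 2 ^ 3 from rfl]
    exact pow_dvd_pow 2 (by omega)
  -- squares
  have hsq : ∀ d ∈ commutator G, d * d ∈ Z := by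
    obtain ⟨Φ, hΦ⟩ : ∃ Φ, Φ = Subgroup.closure {g : G | ∃ d ∈ commutator G, g = d * d} := ⟨_, rfl⟩
    haveI hΦn : Φ.Normal := by
      refine ⟨fun a ha g => ?_⟩
      have hle : Φ.map (MulAut.conj g).toMonoidHom ≤ Φ := by
        rw [hΦ, MonoidHom.map_closure]
        refine Subgroup.closure_mono ?_
        rintro _ ⟨_, ⟨d, hd, rfl⟩, rfl⟩
        exact ⟨g * d * g⁻¹, (inferInstance : (commutator G).Normal).conj_mem d hd g, map_mul (MulAut.conj g) d d⟩
      exact hle ⟨a, ha, rfl⟩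
    have hΦD : Φ ≤ commutator G := by
      rw [hΦ, Subgroup.closure_le]; rintro _ ⟨d, hd, rfl⟩; exact mul_mem hd hd
    intro d hd
    by_contra hdZ
    have hDR := hmid (Φ ⊔ Z) inferInstance le_sup_right (sup_le hΦD hZD) fun e =>
      hdZ (e.le (Subgroup.mem_sup_left (hΦ ▸ Subgroup.subset_closure ⟨d, hd, rfl⟩)))
    haveI : Group.IsNilpotent (commutator G) := hDp.isNilpotent
    obtain ⟨P, hPi⟩ : ∃ P : Subgroup (commutator G), Nat.card P = 2 ^ 5 :=
      Sylow.exists_subgroup_card_pow_prime 2 (by rw [hD]; norm_num)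
    have hP2 : P.index = 2 := by
      have h := P.card_mul_index
      rw [hPi, hD] at h
      omega
    haveI := Subgroup.normal_of_index_eq_two hP2
    have hPle : Φ ≤ P.map (commutator G).subtype := by
      rw [hΦ, Subgroup.closure_le]
      rintro _ ⟨e, he, rfl⟩
      exact ⟨⟨e, he⟩ * ⟨e, he⟩, Subgroup.mul_self_mem_of_index_two hP2 _, rfl⟩
    have h1 : Nat.card (Φ ⊔ Z : Subgroup G) ≤ 16 * 4 := le_trans (Subgroup.card_le_of_le (sup_le hΦD hZD)) hD.le
    have h2 : Φ ⊔ Z ≤ P.map (commutator G).subtype ⊔ Z := sup_le_sup_right hPle Z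
    have h3 : Nat.card (Φ : Subgroup G) ≤ 4 := by
      by_contra hgt
      obtain ⟨j, hj, hjc⟩ := (Nat.dvd_prime_pow Nat.prime_two).1 (show Nat.card Φ ∣ 2 ^ 6 from (Subgroup.card_dvd_of_le hΦD).trans (by rw [hD]; norm_num))
      have hj3 : 3 ≤ j := by
        by_contra hj3
        rw [hjc] at hgt
        exact hgt (le_trans (Nat.pow_le_pow_right two_pos (show j ≤ 2 by omega)) le_rfl)
      have h := Subgroup.relIndex_mul_relIndex ⊥ Φ (commutator G) bot_le hΦD
      rw [Subgroup.relIndex_bot_left, Subgroup.relIndex_bot_left, hjc, hD] at h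
      have h8 : Φ.relIndex (commutator G) ∣ 8 := by
        refine Nat.dvd_of_mul_dvd_mul_left (pow_pos two_pos j) ?_
        rw [h, show (64 : ℕ) = 2 ^ 3 * 8 from rfl]
        exact Nat.mul_dvd_mul_right (pow_dvd_pow 2 hj3) 8
      have := Subgroup.card_le_of_le ((hsmall Φ hΦn hΦD h8).trans hPle)
      rw [Subgroup.card_map_of_injective (commutator G).subtype_injective, hPi, hD] at this
      norm_num at this
    have h4 := Nat.le_of_dvd (Nat.mul_pos Nat.card_pos Nat.card_pos) (Cfsg.Agent.Solv.card_sup_dvd Φ Z)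
    have h5 := Subgroup.card_le_of_le hDR
    rw [hD] at h5
    rw [hZc] at h4
    omega
  have hcommZ : ∀ a ∈ commutator G, ∀ b ∈ commutator G, ⁅a, b⁆ ∈ Z := by
    intro a ha b hb
    have h1 : ⁅a, b⁆ = a * a * (a⁻¹ * b * (a⁻¹ * b)) * (b⁻¹ * b⁻¹) := by rw [commutatorElement_def]; group
    rw [h1]
    exact mul_mem (mul_mem (hsq a ha) (hsq _ (mul_mem (inv_mem ha) hb))) (hsq _ (inv_mem hb))
  have hfpf : ∀ d ∈ commutator G, ⁅x, d⁆ ∈ Z → d ∈ Z := by
    let π := QuotientGroup.mk' Z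
    obtain ⟨C, hC⟩ : ∃ C, C = commutator G ⊓ (Subgroup.centralizer ({π x} : Set (G ⧸ Z))).comap π := ⟨_, rfl⟩
    have hCm : ∀ d, d ∈ C ↔ d ∈ commutator G ∧ ⁅x, d⁆ ∈ Z := fun d => by
      rw [hC, Subgroup.mem_inf, Subgroup.mem_comap, Subgroup.mem_centralizer_singleton_iff, ← QuotientGroup.eq_one_iff (N := Z) ⁅x, d⁆,
        ← QuotientGroup.mk'_apply, map_commutatorElement, commutatorElement_eq_one_iff_mul_comm]
      exact and_congr_right fun _ => eq_comm
    haveI hCn : C.Normal := by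
      refine ⟨fun c hc g => ?_⟩
      obtain ⟨hcD, hcx⟩ := (hCm c).1 hc
      have hcen : ∀ g : G, ⁅g, c⁆ ∈ Z := by
        intro g
        rw [← QuotientGroup.eq_one_iff, ← QuotientGroup.mk'_apply, map_commutatorElement,
          commutatorElement_eq_one_iff_mul_comm]
        have hle : commutator G ⊔ Subgroup.zpowers x ≤ (Subgroup.centralizer ({π c} : Set (G ⧸ Z))).comap π := by
          refine sup_le (fun d hd => ?_) (Subgroup.zpowers_le.2 ?_)
          · rw [Subgroup.mem_comap, Subgroup.mem_centralizer_singleton_iff, ← commutatorElement_eq_one_iff_mul_comm,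
              ← map_commutatorElement]
            exact (QuotientGroup.eq_one_iff _).2 (hcommZ d hd c hcD)
          · rw [Subgroup.mem_comap, Subgroup.mem_centralizer_singleton_iff, ← commutatorElement_eq_one_iff_mul_comm,
              ← map_commutatorElement]
            exact (QuotientGroup.eq_one_iff _).2 hcx
        rw [hGD] at hle
        exact Subgroup.mem_centralizer_singleton_iff.1 (Subgroup.mem_comap.1 (hle (Subgroup.mem_top g)))
      have e : g * c * g⁻¹ = ⁅g, c⁆ * c := by rw [commutatorElement_def, inv_mul_cancel_right]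
      rw [e]
      refine mul_mem ((hCm _).2 ⟨hZD (hcen g), ?_⟩) hc
      rw [commutatorElement_eq_one_iff_mul_comm.2 (Subgroup.mem_center_iff.1 (hZcen (hcen g)) x)]
      exact one_mem _
    have hZC : Z ≤ C := fun z hz => (hCm z).2 ⟨hZD hz, by
      rw [commutatorElement_eq_one_iff_mul_comm.2 (Subgroup.mem_center_iff.1 (hZcen hz) x)]; exact one_mem _⟩
    intro d hd hdx
    by_contra hdZ
    have hDC := hmid C hCn hZC (fun c hc => ((hCm c).1 hc).1) fun e => hdZ (e.le ((hCm d).2 ⟨hd, hdx⟩))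
    have hab : commutator G ≤ Z := by
      rw [commutator_def, Subgroup.commutator_le]
      intro a _ b _
      rw [← QuotientGroup.eq_one_iff, ← QuotientGroup.mk'_apply, map_commutatorElement,
        commutatorElement_eq_one_iff_commute]
      have hgen : ∀ u v : G, u ∈ commutator G ∨ u = x → v ∈ commutator G ∨ v = x → Commute (π u) (π v) := by
        intro u v hu hv
        rw [← commutatorElement_eq_one_iff_commute, ← map_commutatorElement]
        refine (QuotientGroup.eq_one_iff _).2 ?_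
        rcases hu with hu | rfl <;> rcases hv with hv | rfl
        · exact hcommZ u hu v hv
        · rw [← commutatorElement_inv]; exact inv_mem ((hCm u).1 (hDC hu)).2
        · exact ((hCm v).1 (hDC hv)).2
        · rw [commutatorElement_self]; exact one_mem _
      have hle : ∀ u : G, u ∈ commutator G ∨ u = x →
          commutator G ⊔ Subgroup.zpowers x ≤ (Subgroup.centralizer ({π u} : Set (G ⧸ Z))).comap π := fun u hu =>
        sup_le (fun d hd => Subgroup.mem_centralizer_singleton_iff.2 (hgen d u (Or.inl hd) hu).eq)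
          (Subgroup.zpowers_le.2 (Subgroup.mem_centralizer_singleton_iff.2 (hgen x u (Or.inr rfl) hu).eq))
      have hle2 : commutator G ⊔ Subgroup.zpowers x ≤ (Subgroup.centralizer ({π b} : Set (G ⧸ Z))).comap π := by
        have hb : ∀ u, (u ∈ commutator G ∨ u = x) → π b * π u = π u * π b := fun u hu => by
          have h := hle u hu
          rw [hGD] at h
          exact Subgroup.mem_centralizer_singleton_iff.1 (Subgroup.mem_comap.1 (h (Subgroup.mem_top b)))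
        exact sup_le (fun d hd => Subgroup.mem_centralizer_singleton_iff.2 (hb d (Or.inl hd)).symm)
          (Subgroup.zpowers_le.2 (Subgroup.mem_centralizer_singleton_iff.2 (hb x (Or.inr rfl)).symm))
      rw [hGD] at hle2
      exact Subgroup.mem_centralizer_singleton_iff.1 (Subgroup.mem_comap.1 (hle2 (Subgroup.mem_top a)))
    have := Subgroup.card_le_of_le hab
    omega
  obtain ⟨w₀, hw₀, hw₀Z⟩ := SetLike.exists_of_lt (lt_of_le_of_ne hZD fun e => by rw [e, hD] at hZc; norm_num at hZc)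
  have hwD : ∀ {u : G}, u ∈ commutator G → ∀ i, wi x u i ∈ commutator G := fun hu i =>
    (inferInstance : (commutator G).Normal).conj_mem _ hu _
  obtain ⟨p, hp⟩ : ∃ p, p = wi x w₀ 0 * wi x w₀ 1 * wi x w₀ 2 * wi x w₀ 3 := ⟨_, rfl⟩
  have hpD : p ∈ commutator G := hp ▸ mul_mem (mul_mem (mul_mem (hwD hw₀ 0) (hwD hw₀ 1)) (hwD hw₀ 2)) (hwD hw₀ 3)
  have hpq : p * wi x w₀ 4 ∈ Z := by
    refine hfpf _ (mul_mem hpD (hwD hw₀ 4)) ?_
    have h5 : wi x w₀ 5 = wi x w₀ 0 := by rw [wi, wi, hx5, pow_zero]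
    have hs : ∀ i, x * wi x w₀ i * x⁻¹ = wi x w₀ (i + 1) := fun i => by rw [wi, wi, pow_succ']; group
    have hshift : x * (p * wi x w₀ 4) * x⁻¹ = (wi x w₀ 0)⁻¹ * (p * wi x w₀ 4) * wi x w₀ 0 := by
      rw [hp]
      calc _ = (x * wi x w₀ 0 * x⁻¹) * (x * wi x w₀ 1 * x⁻¹) * (x * wi x w₀ 2 * x⁻¹) * (x * wi x w₀ 3 * x⁻¹) *
            (x * wi x w₀ 4 * x⁻¹) := by group
        _ = _ := by rw [hs, hs, hs, hs, hs, h5]; group
    rw [commutatorElement_def, hshift,
      show (wi x w₀ 0)⁻¹ * (p * wi x w₀ 4) * wi x w₀ 0 * (p * wi x w₀ 4)⁻¹ = ⁅(wi x w₀ 0)⁻¹, p * wi x w₀ 4⁆ by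
        rw [commutatorElement_def, inv_inv]]
    exact hcommZ _ (inv_mem (hwD hw₀ 0)) _ (mul_mem hpD (hwD hw₀ 4))
  obtain ⟨c, hc⟩ : ∃ c, c = p⁻¹ * wi x w₀ 4 := ⟨_, rfl⟩
  have hcZ : c ∈ Z := by
    rw [hc, show p⁻¹ * wi x w₀ 4 = p⁻¹ * p⁻¹ * (p * wi x w₀ 4) by group]
    exact mul_mem (hsq _ (inv_mem hpD)) hpq
  have hcc := Subgroup.mem_center_iff.1 (hZcen hcZ)
  have hwc : ∀ i, wi x (w₀ * c) i = wi x w₀ i * c := fun i => by
    calc wi x (w₀ * c) i = x ^ i * w₀ * (c * (x ^ i)⁻¹) := by simp [wi, mul_assoc]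
      _ = x ^ i * w₀ * ((x ^ i)⁻¹ * c) := by rw [hcc]
      _ = _ := by simp [wi, mul_assoc]
  have hwZ : ∀ i, wi x (w₀ * c) i ∈ commutator G := hwD (mul_mem hw₀ (hZD hcZ))
  have hS : Std x (w₀ * c) := by
    have hww : w₀ * c * (w₀ * c) ∈ Z := hsq _ (mul_mem hw₀ (hZD hcZ))
    refine ⟨hx5, fun i j => hZcen (hcommZ _ (hwZ i) _ (hwZ j)),
      fun i j => by rw [sq]; exact hZ2 _ (hcommZ _ (hwZ i) _ (hwZ j)), hZcen hww, by rw [sq]; exact hZ2 _ hww, ?_⟩
    simp only [hwc]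
    have k : ∀ a b : G, a * c * (b * c) = a * b := fun a b => by
      rw [hcc b, mul_assoc, ← mul_assoc c c b, hZ2 c hcZ, one_mul]
    have hw4 : wi x w₀ 4 = p * c := by rw [hc, mul_inv_cancel_left]
    rw [k, mul_assoc (wi x w₀ 0 * wi x w₀ 1), k, ← mul_assoc, ← hp, hw4, mul_assoc, hZ2 c hcZ, mul_one]
  refine ⟨x, w₀ * c, hS, ?_⟩
  obtain ⟨K, hK⟩ : ∃ K, K = Subgroup.closure ({x, w₀ * c} : Set G) := ⟨_, rfl⟩
  rw [← hK]
  have hxK : x ∈ K := hK ▸ Subgroup.subset_closure (by simp)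
  obtain ⟨R, hR⟩ : ∃ R, R = Z ⊔ K ⊓ commutator G := ⟨_, rfl⟩
  have hRD : R ≤ commutator G := hR ▸ sup_le hZD inf_le_right
  have hDn : commutator G ≤ Subgroup.normalizer (R : Set G) := fun d hd => mem_normalizer_of_cj_le (by
    rintro _ ⟨r, hr, rfl⟩
    show d * r * d⁻¹ ∈ R
    rw [show d * r * d⁻¹ = ⁅d, r⁆ * r by rw [commutatorElement_def, inv_mul_cancel_right]]
    exact mul_mem (hR ▸ Subgroup.mem_sup_left (hcommZ d hd r (hRD hr))) hr)
  have hxn : x ∈ Subgroup.normalizer (R : Set G) := mem_normalizer_of_cj_le (by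
    show R.map (MulAut.conj x).toMonoidHom ≤ R
    rw [hR, Subgroup.map_le_iff_le_comap]
    refine sup_le (fun z hz => Subgroup.mem_sup_left ((inferInstance : Z.Normal).conj_mem z hz x)) fun k hk => ?_
    exact Subgroup.mem_sup_right (Subgroup.mem_inf.2
      ⟨mul_mem (mul_mem hxK hk.1) (inv_mem hxK), (inferInstance : (commutator G).Normal).conj_mem k hk.2 x⟩))
  haveI hRn : R.Normal := Subgroup.normalizer_eq_top_iff.1 (eq_top_iff.2 (hGD ▸ sup_le hDn (Subgroup.zpowers_le.2 hxn)))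
  have hDR := hmid R hRn (hR ▸ le_sup_left) hRD fun e => hw₀Z (by
    have h1 : w₀ * c ∈ R := hR ▸ Subgroup.mem_sup_right
      (Subgroup.mem_inf.2 ⟨hK ▸ Subgroup.subset_closure (by simp), mul_mem hw₀ (hZD hcZ)⟩)
    rw [e] at h1
    exact (mul_mem_cancel_right hcZ).1 h1)
  have hsup : Subgroup.center G ⊔ K = ⊤ := by
    rw [eq_top_iff, ← hGD]
    refine sup_le (hDR.trans (hR ▸ sup_le (hZcen.trans le_sup_left) (inf_le_left.trans le_sup_right))) ?_
    exact Subgroup.zpowers_le.2 (Subgroup.mem_sup_right hxK)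
  have hDK : commutator G ≤ K := by
    rw [commutator_def, Subgroup.commutator_le]
    intro a _ b _
    obtain ⟨z, hz, k, hk, rfl⟩ := Subgroup.mem_sup_of_normal_left.1 (hsup ▸ Subgroup.mem_top a : a ∈ Subgroup.center G ⊔ K)
    obtain ⟨z', hz', k', hk', rfl⟩ := Subgroup.mem_sup_of_normal_left.1 (hsup ▸ Subgroup.mem_top b : b ∈ Subgroup.center G ⊔ K)
    have e : ⁅z * k, z' * k'⁆ = ⁅k, k'⁆ := by
      have c1 := Subgroup.mem_center_iff.1 hz
      have c2 := Subgroup.mem_center_iff.1 hz'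
      calc ⁅z * k, z' * k'⁆ = z * (k * z') * k' * k⁻¹ * z⁻¹ * (k'⁻¹ * z'⁻¹) := by rw [commutatorElement_def]; group
        _ = z * z' * (k * k' * k⁻¹) * z⁻¹ * (k'⁻¹ * z'⁻¹) := by rw [c2 k]; group
        _ = z' * z * (k * k' * k⁻¹) * z⁻¹ * (k'⁻¹ * z'⁻¹) := by rw [c1 z']
        _ = z' * ((k * k' * k⁻¹) * z) * z⁻¹ * (k'⁻¹ * z'⁻¹) := by rw [c1 (k * k' * k⁻¹)]; group
        _ = z' * ⁅k, k'⁆ * z'⁻¹ := by rw [commutatorElement_def]; group
        _ = ⁅k, k'⁆ := by rw [← c2 ⁅k, k'⁆, mul_inv_cancel_right]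
    rw [e, commutatorElement_def]
    exact mul_mem (mul_mem (mul_mem hk hk') (inv_mem hk)) (inv_mem hk')
  rw [eq_top_iff, ← hGD]
  exact sup_le hDK (Subgroup.zpowers_le.2 hxK)

end Abstract

section Concrete

open Matrix Cfsg.Agent.Classical Cfsg.Agent.Lie.UnitarySylow

universe u

variable {F : Type u} [Field F] [Fintype F] [CharP F 2] {σ : F ≃+* F} (hσ : IsUSigma 4 σ) {a₀ : F} (ha₀ : a₀ + σ a₀ = 1)

include hσ ha₀

theorem exists_lift (M : Matrix (Fin 3) (Fin 3) F) (hd : M.det = 1) (hM : Mᵀ * K3 * M.map σ = K3) :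
    ∃ g : ↥(Cfsg.SU 3 F 4), Q3 a₀ * g.1.1 * P3 a₀ = M := by
  obtain ⟨hQP, hPQ, hP, hQ⟩ := basis_facts ha₀
  obtain ⟨g, hg⟩ := Cfsg.Agent.Local.FS.PSU3Simple.exists_SU_of_gram hσ (P3 a₀ * M * Q3 a₀)
    (by rw [Matrix.det_mul, Matrix.det_mul, hd, mul_one, ← Matrix.det_mul, hPQ, Matrix.det_one]) (by
      rw [Matrix.map_mul, Matrix.map_mul, Matrix.transpose_mul, Matrix.transpose_mul]
      calc (Q3 a₀)ᵀ * (Mᵀ * (P3 a₀)ᵀ) * ((P3 a₀).map σ * M.map σ * (Q3 a₀).map σ)
          = (Q3 a₀)ᵀ * (Mᵀ * ((P3 a₀)ᵀ * (P3 a₀).map σ) * M.map σ) * (Q3 a₀).map σ := by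
            simp only [Matrix.mul_assoc]
        _ = 1 := by rw [hP, hM, hQ])
  refine ⟨g, ?_⟩
  rw [hg]
  calc Q3 a₀ * (P3 a₀ * M * Q3 a₀) * P3 a₀ = (Q3 a₀ * P3 a₀) * M * (Q3 a₀ * P3 a₀) := by simp only [Matrix.mul_assoc]
    _ = M := by rw [hQP, Matrix.one_mul, Matrix.mul_one]

theorem coord_mul (g h : ↥(Cfsg.SU 3 F 4)) :
    Q3 a₀ * (g * h).1.1 * P3 a₀ = (Q3 a₀ * g.1.1 * P3 a₀) * (Q3 a₀ * h.1.1 * P3 a₀) := by
  obtain ⟨-, hPQ, -, -⟩ := basis_facts ha₀
  calc Q3 a₀ * (g.1.1 * h.1.1) * P3 a₀ = Q3 a₀ * g.1.1 * (P3 a₀ * Q3 a₀) * h.1.1 * P3 a₀ := by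
        rw [hPQ, Matrix.mul_one]; simp only [Matrix.mul_assoc]
    _ = _ := by simp only [Matrix.mul_assoc]

theorem coord_inj {g h : ↥(Cfsg.SU 3 F 4)} (e : Q3 a₀ * g.1.1 * P3 a₀ = Q3 a₀ * h.1.1 * P3 a₀) : g = h := by
  obtain ⟨-, hPQ, -, -⟩ := basis_facts ha₀
  refine Cfsg.Agent.Local.FS.PSU3Simple.ext_val ?_
  have : P3 a₀ * (Q3 a₀ * g.1.1 * P3 a₀) * Q3 a₀ = P3 a₀ * (Q3 a₀ * h.1.1 * P3 a₀) * Q3 a₀ := by rw [e]
  rw [show P3 a₀ * (Q3 a₀ * g.1.1 * P3 a₀) * Q3 a₀ = (P3 a₀ * Q3 a₀) * g.1.1 * (P3 a₀ * Q3 a₀) by simp only [Matrix.mul_assoc],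
    show P3 a₀ * (Q3 a₀ * h.1.1 * P3 a₀) * Q3 a₀ = (P3 a₀ * Q3 a₀) * h.1.1 * (P3 a₀ * Q3 a₀) by simp only [Matrix.mul_assoc],
    hPQ, Matrix.one_mul, Matrix.mul_one, Matrix.one_mul, Matrix.mul_one] at this
  exact this

theorem coord_gram (g : ↥(Cfsg.SU 3 F 4)) :
    (Q3 a₀ * g.1.1 * P3 a₀)ᵀ * K3 * (Q3 a₀ * g.1.1 * P3 a₀).map σ = K3 := by
  obtain ⟨-, -, hP, hQ⟩ := basis_facts ha₀
  have hg : g.1.1ᵀ * g.1.1.map σ = 1 :=
    UCount.gram_mul hσ (g := Matrix.SpecialLinearGroup.toGL g.1) g.2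
  rw [Matrix.map_mul, Matrix.map_mul, Matrix.transpose_mul, Matrix.transpose_mul]
  calc (P3 a₀)ᵀ * (g.1.1ᵀ * (Q3 a₀)ᵀ) * K3 * ((Q3 a₀).map σ * g.1.1.map σ * (P3 a₀).map σ)
      = (P3 a₀)ᵀ * (g.1.1ᵀ * ((Q3 a₀)ᵀ * K3 * (Q3 a₀).map σ) * g.1.1.map σ) * (P3 a₀).map σ := by
        simp only [Matrix.mul_assoc]
    _ = K3 := by rw [hQ, Matrix.mul_one, hg, Matrix.mul_one, hP]

/-- The centralizer of a central involution of a Sylow subgroup of `SU₃(4)`. -/
theorem exists_centralizer : ∃ t : ↥(Cfsg.SU 3 F 4), orderOf t = 2 ∧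
    Nat.card (Subgroup.centralizer ({t} : Set ↥(Cfsg.SU 3 F 4))) = 320 ∧
    Nat.card (commutator (Subgroup.centralizer ({t} : Set ↥(Cfsg.SU 3 F 4)))) = 64 ∧
    IsKleinFour (Subgroup.center (commutator (Subgroup.centralizer ({t} : Set ↥(Cfsg.SU 3 F 4))))) := by
  classical
  letI := uGroup hσ
  haveI := finite_U hσ
  have h2 : (2 : F) = 0 := CharTwo.two_eq_zero
  obtain ⟨hQP, hPQ, hP, hQ⟩ := basis_facts ha₀
  have hlift : ∀ u : U σ, ∃ g : ↥(Cfsg.SU 3 F 4), Q3 a₀ * g.1.1 * P3 a₀ = M3 u := fun u =>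
    exists_lift hσ ha₀ _ (M3_det u) (M3_gram hσ u)
  choose E hE using hlift
  obtain ⟨t, ht⟩ : ∃ t, t = E (central 1 (map_one σ)) := ⟨_, rfl⟩
  have hE1 : E 1 = 1 := coord_inj hσ ha₀ (by
    rw [hE]
    show M3 (1 : U σ) = Q3 a₀ * (1 : Matrix (Fin 3) (Fin 3) F) * P3 a₀
    rw [Matrix.mul_one, hQP]
    unfold M3
    rw [one_x hσ, one_z hσ, map_zero]
    ext i j; fin_cases i <;> fin_cases j <;> simp)
  have hEm : ∀ u v, E (u * v) = E u * E v := fun u v => coord_inj hσ ha₀ (by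
    rw [hE, coord_mul hσ ha₀, hE, hE, M3_mul hσ])
  have hEi : Function.Injective E := fun u v e => by
    have h : M3 u = M3 v := by rw [← hE, ← hE, e]
    exact U.ext (by simpa [M3] using congrFun (congrFun h 1) 2) (by simpa [M3] using congrFun (congrFun h 0) 2)
  have htc : ∀ u, E u ∈ Subgroup.centralizer ({t} : Set ↥(Cfsg.SU 3 F 4)) := fun u => by
    rw [Subgroup.mem_centralizer_singleton_iff, ht, ← hEm, ← hEm]
    congr 1
    exact Subgroup.mem_center_iff.1 ((mem_center_iff hσ (central 1 (map_one σ))).2 rfl) u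
  have hto : orderOf t = 2 := by
    refine orderOf_eq_prime ?_ fun e => ?_
    · rw [ht, sq, ← hEm, (sq_eq_one_iff hσ _).2 rfl, hE1]
    · have := congrArg U.z (hEi ((ht ▸ e).trans hE1.symm))
      rw [one_z hσ] at this
      exact one_ne_zero (α := F) this
  let C := Subgroup.centralizer ({t} : Set ↥(Cfsg.SU 3 F 4))
  -- the shape of the centralizer
  have hshape : ∀ g ∈ C, ∃ a d b c e : F, Q3 a₀ * g.1.1 * P3 a₀ = !![a, b, c; 0, d, e; 0, 0, a] ∧
      a * σ a = 1 ∧ a * a * d = 1 ∧ (a = 1 → b = σ e ∧ c + σ c = e * σ e) := by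
    intro g hg
    obtain ⟨M, hM⟩ : ∃ M, M = Q3 a₀ * g.1.1 * P3 a₀ := ⟨_, rfl⟩
    have hgr : Mᵀ * K3 * M.map σ = K3 := hM ▸ coord_gram hσ ha₀ g
    have hcm : M * M3 (central 1 (map_one σ)) = M3 (central 1 (map_one σ)) * M := by
      rw [hM, ← hE, ← coord_mul hσ ha₀, ← coord_mul hσ ha₀, ← ht,
        Subgroup.mem_centralizer_singleton_iff.1 hg]
    have hdet : M.det = 1 := by
      rw [hM, Matrix.det_mul, Matrix.det_mul, show g.1.1.det = 1 from g.1.2, mul_one, ← Matrix.det_mul, hQP,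
        Matrix.det_one]
    have e00 := congrFun (congrFun hcm 0) 0
    have e01 := congrFun (congrFun hcm 0) 1
    have e02 := congrFun (congrFun hcm 0) 2
    have e12 := congrFun (congrFun hcm 1) 2
    simp [M3, central, Matrix.mul_apply, Fin.sum_univ_three] at e00 e01 e02 e12
    have m20 : M 2 0 = 0 := e00
    have m21 : M 2 1 = 0 := e01
    have m10 : M 1 0 = 0 := e12
    have m22 : M 2 2 = M 0 0 := by linear_combination -e02
    have g02 := congrFun (congrFun hgr 0) 2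
    have g12 := congrFun (congrFun hgr 1) 2
    have g22 := congrFun (congrFun hgr 2) 2
    simp [K3, Matrix.mul_apply, Fin.sum_univ_three, m20, m21, m10, m22] at g02 g12 g22
    rw [Matrix.det_fin_three, m20, m21, m10, m22] at hdet
    refine ⟨M 0 0, M 1 1, M 0 1, M 0 2, M 1 2, ?_, g02, by linear_combination hdet, fun ha => ?_⟩
    · rw [← hM]
      ext i j; fin_cases i <;> fin_cases j <;> simp [m20, m21, m10, m22]
    · have hd1 : M 1 1 = 1 := by rw [ha] at hdet; linear_combination hdet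
      rw [ha, map_one] at g12 g22
      rw [hd1] at g12
      exact ⟨by linear_combination g12 - σ (M 1 2) * h2, by linear_combination g22 - (M 1 2 * σ (M 1 2)) * h2⟩
  choose ga gd gb gc ge hgM hga hgd hgu using hshape
  -- the torus entry
  let χ₀ : ↥C →* F :=
    { toFun := fun g => (Q3 a₀ * (g : ↥(Cfsg.SU 3 F 4)).1.1 * P3 a₀) 0 0
      map_one' := by
        show (Q3 a₀ * (1 : Matrix (Fin 3) (Fin 3) F) * P3 a₀) 0 0 = 1
        rw [Matrix.mul_one, hQP, Matrix.one_apply_eq]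
      map_mul' := fun g h => by
        show (Q3 a₀ * ((g : ↥(Cfsg.SU 3 F 4)) * (h : ↥(Cfsg.SU 3 F 4))).1.1 * P3 a₀) 0 0 = _
        rw [coord_mul hσ ha₀, hgM _ g.2, hgM _ h.2]
        simp [Matrix.mul_apply, Fin.sum_univ_three] }
  let χ : ↥C →* Fˣ := χ₀.toHomUnits
  have hχ : ∀ g : ↥C, ((χ g : Fˣ) : F) = ga _ g.2 := fun g => by
    show (Q3 a₀ * (g : ↥(Cfsg.SU 3 F 4)).1.1 * P3 a₀) 0 0 = _
    rw [hgM _ g.2]
    simp
  let EC : U σ →* ↥C := MonoidHom.mk' (fun u => ⟨E u, htc u⟩) fun u v => Subtype.ext (hEm u v)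
  have hECi : Function.Injective EC := fun u v e => hEi (congrArg Subtype.val e)
  have hker : χ.ker = EC.range := by
    ext g
    rw [MonoidHom.mem_ker]
    constructor
    · intro hg
      have ha : ga _ g.2 = 1 := by rw [← hχ, hg, Units.val_one]
      obtain ⟨hb, hc⟩ := hgu _ g.2 ha
      have hd : gd _ g.2 = 1 := by have := hgd _ g.2; rwa [ha, one_mul, one_mul] at this
      refine ⟨⟨ge _ g.2, gc _ g.2, hc⟩, Subtype.ext (coord_inj hσ ha₀ ?_)⟩
      show Q3 a₀ * (E _).1.1 * P3 a₀ = _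
      rw [hE, hgM _ g.2, ha, hd, hb]
      rfl
    · rintro ⟨u, rfl⟩
      refine Units.ext ?_
      show (Q3 a₀ * (E u).1.1 * P3 a₀) 0 0 = 1
      rw [hE]; simp [M3]
  -- torus elements
  have htor : ∀ a : F, a * σ a = 1 → ∃ g : ↥C, Q3 a₀ * (g : ↥(Cfsg.SU 3 F 4)).1.1 * P3 a₀ =
      !![a, 0, 0; 0, a ^ 3, 0; 0, 0, a] := by
    intro a ha
    have h5 : a * a * a ^ 3 = 1 := by rw [hσ.apply_eq] at ha; linear_combination ha
    obtain ⟨g, hg⟩ := exists_lift hσ ha₀ !![a, 0, 0; 0, a ^ 3, 0; 0, 0, a]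
      (by simp [Matrix.det_fin_three]; linear_combination h5) (by
        ext i j
        fin_cases i <;> fin_cases j <;> simp [K3, Matrix.mul_apply, Fin.sum_univ_three] <;>
          first
            | linear_combination ha
            | linear_combination ((a * σ a) ^ 2 + a * σ a + 1) * ha)
    refine ⟨⟨g, Subgroup.mem_centralizer_singleton_iff.2 (coord_inj hσ ha₀ ?_)⟩, hg⟩
    rw [coord_mul hσ ha₀, coord_mul hσ ha₀, hg, ht, hE]
    ext i j; fin_cases i <;> fin_cases j <;> simp [M3, central, Matrix.mul_apply, Fin.sum_univ_three]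
  have hrange : χ.range = (powMonoidHom 5 : Fˣ →* Fˣ).ker := by
    ext v
    constructor
    · rintro ⟨g, rfl⟩
      exact MonoidHom.mem_ker.2 (UCount.pow_eq_one_of_norm hσ (by rw [hχ]; exact hga _ g.2))
    · intro hv
      obtain ⟨g, hg⟩ := htor v (UCount.norm_of_pow_eq_one hσ (MonoidHom.mem_ker.1 hv))
      refine ⟨g, Units.ext ?_⟩
      show (Q3 a₀ * (g : ↥(Cfsg.SU 3 F 4)).1.1 * P3 a₀) 0 0 = _
      rw [hg]; simp
  have hcker : Nat.card χ.ker = 64 := by
    rw [hker, ← Nat.card_congr (MonoidHom.ofInjective hECi).toEquiv, card_U hσ]; norm_num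
  have hcard : Nat.card ↥C = 320 := by
    rw [← χ.ker.card_mul_index, Subgroup.index_ker, hrange, hcker, UCount.card_mu hσ]
  -- the derived subgroup
  have hK : commutator ↥C = EC.range := by
    refine le_antisymm ?_ ?_
    · rw [← hker, commutator_def, Subgroup.commutator_le]
      intro g _ h _
      rw [MonoidHom.mem_ker, map_commutatorElement]
      exact commutatorElement_eq_one_iff_mul_comm.2 (mul_comm _ _)
    obtain ⟨v, hv, hv1⟩ : ∃ v : Fˣ, v ^ 5 = 1 ∧ v ≠ 1 := by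
      haveI : Nontrivial ↥(powMonoidHom (4 + 1) : Fˣ →* Fˣ).ker :=
        Finite.one_lt_card_iff_nontrivial.1 (by rw [UCount.card_mu hσ]; norm_num)
      obtain ⟨v, hv⟩ := exists_ne (1 : ↥(powMonoidHom (4 + 1) : Fˣ →* Fˣ).ker)
      exact ⟨v, MonoidHom.mem_ker.1 v.2, fun h => hv (Subtype.ext h)⟩
    have ha : (v : F) * σ v = 1 := UCount.norm_of_pow_eq_one hσ hv
    obtain ⟨g, hg⟩ := htor v ha
    have hv5 : (v : F) ^ 5 = 1 := by rw [← Units.val_pow_eq_pow_val, hv, Units.val_one]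
    have hne : (v : F) ^ 2 + 1 ≠ 0 := by
      intro h0
      have h1 : ((v : F) + 1) ^ 2 = 0 := by linear_combination h0 + (v : F) * h2
      refine hv1 (Units.ext ?_)
      rw [Units.val_one]
      linear_combination (pow_eq_zero_iff two_ne_zero).1 h1 - h2
    let S : Subgroup (U σ) := (commutator ↥C).comap EC
    have hx : ∀ x : F, ∃ u ∈ S, u.x = x := by
      intro x
      obtain ⟨u, hu⟩ := exists_z hσ (((v : F) ^ 2 + 1)⁻¹ * x)
      have hrel : u.z + σ u.z = (v : F) ^ 2 * u.x * σ ((v : F) ^ 2 * u.x) := by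
        rw [u.rel, map_mul, map_pow]
        linear_combination -(u.x * σ u.x * ((v : F) * σ v + 1)) * ha
      obtain ⟨u', hu'⟩ : ∃ u' : U σ, u' = ⟨(v : F) ^ 2 * u.x, u.z, hrel⟩ := ⟨_, rfl⟩
      have hconj : g * EC u = EC u' * g := by
        refine Subtype.ext (coord_inj hσ ha₀ ?_)
        show Q3 a₀ * ((g : ↥(Cfsg.SU 3 F 4)) * E u).1.1 * P3 a₀ = Q3 a₀ * (E u' * (g : ↥(Cfsg.SU 3 F 4))).1.1 * P3 a₀
        rw [coord_mul hσ ha₀, coord_mul hσ ha₀, hg, hE, hE, hu']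
        have hsv : σ (v : F) ^ 2 * (v : F) ^ 3 = (v : F) := by
          linear_combination ((v : F) * ((v : F) * σ v + 1)) * ha
        ext i j
        fin_cases i <;> fin_cases j <;> simp [M3, Matrix.mul_apply, Fin.sum_univ_three] <;>
          first
            | ring1
            | linear_combination -(σ u.x) * hsv
      refine ⟨u' * u⁻¹, ?_, ?_⟩
      · show EC (u' * u⁻¹) ∈ commutator ↥C
        rw [map_mul, map_inv, ← mul_inv_cancel_right (EC u') g, ← hconj, commutator_def]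
        exact Subgroup.commutator_mem_commutator (Subgroup.mem_top _) (Subgroup.mem_top _)
      · show u'.x + u.x = x
        rw [hu']
        show (v : F) ^ 2 * u.x + u.x = x
        rw [hu]
        field_simp
    rintro _ ⟨u, rfl⟩
    obtain ⟨w, hw, hwx⟩ := hx u.x
    have hc : (w⁻¹ * u).x = 0 := by
      show w.x + u.x = 0
      rw [hwx]; exact CharTwo.add_self_eq_zero _
    obtain ⟨z, hz⟩ : ∃ z, z = w⁻¹ * u := ⟨_, rfl⟩
    suffices hzS : z ∈ S by
      have := mul_mem hw hzS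
      rwa [hz, mul_inv_cancel_left] at this
    rw [← hz] at hc
    obtain ⟨s, hs, hsx⟩ := hx (z.z ^ 2)
    have e : z = s * s := by
      refine U.ext (by rw [hc, sq_x hσ]) ?_
      rw [sq_z hσ, hsx, hσ.apply_eq]
      have hfix : z.z ^ 4 = z.z := (hσ.apply_eq z.z).symm.trans (z_fixed hc)
      linear_combination (-1 - z.z ^ 3 - z.z ^ 6) * hfix
    exact e ▸ mul_mem hs hs
  refine ⟨t, hto, hcard, by rw [show commutator _ = EC.range from hK, ← Nat.card_congr (MonoidHom.ofInjective hECi).toEquiv, card_U hσ]; norm_num, ?_⟩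
  let e : U σ ≃* ↥(commutator ↥C) := (MonoidHom.ofInjective hECi).trans (MulEquiv.subgroupCongr hK.symm)
  have hcent : ∀ u, e u ∈ Subgroup.center ↥(commutator ↥C) ↔ u.x = 0 := by
    intro u
    rw [← mem_center_iff hσ, Subgroup.mem_center_iff, Subgroup.mem_center_iff]
    refine ⟨fun h k => e.injective (by rw [map_mul, map_mul]; exact h (e k)), fun h k => ?_⟩
    obtain ⟨k, rfl⟩ := e.surjective k
    rw [← map_mul, ← map_mul, h k]
  have h4 : Nat.card (Subgroup.center ↥(commutator ↥C)) = 4 := by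
    refine (Nat.card_congr ?_).trans (card_fix hσ).1
    exact
      { toFun := fun c => ⟨(e.symm c).z, z_fixed ((hcent _).1 (by rw [e.apply_symm_apply]; exact c.2))⟩
        invFun := fun z => ⟨e (central z.1 z.2), (hcent _).2 rfl⟩
        left_inv := fun c => Subtype.ext (by
          show e _ = (c : ↥(commutator ↥C))
          conv_rhs => rw [← e.apply_symm_apply (c : ↥(commutator ↥C))]
          exact congrArg e (U.ext (((hcent _).1 (by rw [e.apply_symm_apply]; exact c.2)).symm) rfl))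
        right_inv := fun z => Subtype.ext (by
          show (e.symm (e _)).z = (z : F)
          rw [e.symm_apply_apply]; rfl) }
  have h2' : ∀ c : Subgroup.center ↥(commutator ↥C), c ^ 2 = 1 := by
    rintro ⟨c, hc⟩
    obtain ⟨u, rfl⟩ := e.surjective c
    refine Subtype.ext ?_
    show e u ^ 2 = 1
    rw [sq, ← map_mul, (sq_eq_one_iff hσ u).2 ((hcent u).1 hc), map_one]
  haveI : Nontrivial (Subgroup.center ↥(commutator ↥C)) := Finite.one_lt_card_iff_nontrivial.1 (by rw [h4]; norm_num)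
  refine ⟨h4, ?_⟩
  rcases (Nat.dvd_prime Nat.prime_two).1 (Monoid.exponent_dvd_of_forall_pow_eq_one h2') with h | h
  · exact absurd (Monoid.exp_eq_one_iff.1 h) (not_subsingleton _)
  · exact h

end Concrete


/-- A finite group of order 320 whose derived subgroup has order 64 and has centre a Klein four-group is isomorphic to the centralizer of an involution in PSU₃(4). -/
theorem result {G : Type*} [Group G] [Finite G] (hG : Nat.card G = 320) (hD : Nat.card (commutator G) = 64)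
    (hZ : IsKleinFour (Subgroup.center (commutator G)))
    {F : Type*} [Field F] [Fintype F] (hF : Fintype.card F = 16) :
    ∃ t : Cfsg.PSU 3 F 4, orderOf t = 2 ∧ Nonempty (G ≃* Subgroup.centralizer ({t} : Set (Cfsg.PSU 3 F 4))) := by
  classical
  haveI : Fact (Nat.Prime 2) := ⟨Nat.prime_two⟩
  haveI : CharP F 2 := charP_of_card_eq_prime_pow (p := 2) (f := 4) (by rw [hF]; norm_num)
  obtain ⟨p, n, σ, -, -, -, -, hσ⟩ := Cfsg.Agent.Classical.exists_usigma (F := F) (q := 4) (by rw [hF]; norm_num)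
  obtain ⟨a₀, ha₀⟩ : ∃ a : F, a + σ a = 1 := by
    have h := (Cfsg.Agent.Lie.UnitarySylow.card_fix hσ).2 1 (map_one σ)
    obtain ⟨⟨a, ha⟩⟩ := (Nat.card_pos_iff.1 (by rw [h]; norm_num : 0 < Nat.card {z : F // z + σ z = 1})).1
    exact ⟨a, ha⟩
  obtain ⟨t, ht, hcard, hder, hcen⟩ := exists_centralizer hσ ha₀
  obtain ⟨x, w, hS, hgen⟩ := exists_std hG hD hZ
  obtain ⟨x', w', hS', hgen'⟩ := exists_std hcard hder hcen
  obtain ⟨e⟩ := iso_of_std hS hS' hG hcard hgen hgen'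
  have hinj : Function.Injective (QuotientGroup.mk' (Subgroup.center ↥(Cfsg.SU 3 F 4))) := by
    rw [← MonoidHom.ker_eq_bot_iff, QuotientGroup.ker_mk']
    exact Subgroup.card_eq_one.1 (by rw [Cfsg.Agent.Classical.UCount.card_center_SU hσ (by norm_num)]; norm_num)
  have hπ := QuotientGroup.mk'_surjective (Subgroup.center ↥(Cfsg.SU 3 F 4))
  let π : ↥(Cfsg.SU 3 F 4) ≃* Cfsg.PSU 3 F 4 := MulEquiv.ofBijective _ ⟨hinj, hπ⟩
  refine ⟨π t, by rw [MulEquiv.orderOf_eq]; exact ht, ⟨e.trans ((MulEquiv.subgroupMap π _).trans (MulEquiv.subgroupCongr ?_))⟩⟩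
  ext g
  obtain ⟨g, rfl⟩ := π.surjective g
  rw [Subgroup.mem_centralizer_singleton_iff, ← map_mul, ← map_mul, π.injective.eq_iff]
  refine ⟨?_, fun h => ⟨g, Subgroup.mem_centralizer_singleton_iff.2 h, rfl⟩⟩
  rintro ⟨k, hk, hkg⟩
  rw [← π.injective hkg]
  exact Subgroup.mem_centralizer_singleton_iff.1 hk

end Cfsg.Agent.S1903
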