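import Cfsg.Statements.S1237
import Cfsg.Agent.Lib.Fusion.RankTwoTransitive
import Cfsg.Agent.S1903

set_option autoImplicit false
set_option linter.style.haveILetI false
open Cfsg
open Cfsg.Agent.Fusion
open scoped commutatorElement

namespace Cfsg.Agent.S1237

open Cfsg.Agent.Fusion.RankTwoTransitive
open scoped commutatorElement

theorem exists_data {T : Type*} [Group T] [Finite T] (hT : IsPGroup 2 T) (h2 : Cfsg.PRankLE 2 2 T)
    (h1 : ¬ Cfsg.PRankLE 2 1 T) (φ : MulAut T)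
    (htrans : ∀ s t : T, orderOf s = 2 → orderOf t = 2 → ∃ k : ℕ, (φ ^ k) s = t) :
    ∃ ψ : MulAut T, Data ψ := by
  haveI : Fact (Nat.Prime 2) := ⟨Nat.prime_two⟩
  rw [Cfsg.PRankLE] at h1
  push Not at h1
  obtain ⟨A, -, hA2, hAc⟩ := h1
  haveI : Nontrivial T := by
    by_contra h
    rw [not_nontrivial_iff_subsingleton] at h
    have : Nat.card A ≤ 1 := Finite.card_le_one_iff_subsingleton.2 inferInstance
    omega
  obtain ⟨z, hz, hz2⟩ : ∃ z ∈ Subgroup.center T, orderOf z = 2 := by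
    haveI := hT.center_nontrivial
    obtain ⟨⟨y, hy⟩, hy1⟩ := exists_ne (1 : Subgroup.center T)
    obtain ⟨k, hk⟩ := IsPGroup.iff_orderOf.1 hT y
    have hk0 : k ≠ 0 := fun h => hy1 (Subtype.ext (orderOf_eq_one_iff.1 (by rw [hk, h, pow_zero])))
    refine ⟨y ^ 2 ^ (k - 1), pow_mem hy _, ?_⟩
    rw [orderOf_pow' _ (pow_ne_zero _ two_ne_zero), hk,
      Nat.gcd_eq_right (pow_dvd_pow 2 (Nat.sub_le k 1)), Nat.pow_div (Nat.sub_le k 1) two_pos,
      show k - (k - 1) = 1 by omega, pow_one]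
  have hord : ∀ v : T, v ^ 2 = 1 → v ≠ 1 → orderOf v = 2 := fun v h h' => orderOf_eq_prime h h'
  have hcen : ∀ v : T, v ^ 2 = 1 → v ∈ Subgroup.center T := by
    intro v hv
    by_cases h : v = 1
    · rw [h]; exact one_mem _
    obtain ⟨k, rfl⟩ := htrans z v hz2 (hord v hv h)
    exact Subgroup.mem_center_iff.2 fun g => by
      obtain ⟨g', rfl⟩ := (φ ^ k).surjective g
      rw [← map_mul, ← map_mul, Subgroup.mem_center_iff.1 hz g']
  let V : Subgroup T :=
    { carrier := {v | v ^ 2 = 1}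
      one_mem' := one_pow 2
      mul_mem' := fun {a b} ha hb => by
        show (a * b) ^ 2 = 1
        rw [(show Commute a b from (Subgroup.mem_center_iff.1 (hcen a ha) b).symm).mul_pow, ha, hb, mul_one]
      inv_mem' := fun {a} ha => by show a⁻¹ ^ 2 = 1; rw [inv_pow, ha, inv_one] }
  have hV4 : Nat.card V = 4 := by
    have hle : Nat.card V ≤ 4 := h2 V ⟨⟨fun a b => Subtype.ext (Subgroup.mem_center_iff.1 (hcen b b.2) a)⟩⟩ fun a ha => ha
    have hge : Nat.card A ≤ Nat.card V := Subgroup.card_le_of_le (fun a ha => hA2 a ha)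
    obtain ⟨k, hk⟩ := IsPGroup.iff_card.1 (hT.to_subgroup V)
    have hk' : k < 3 ∧ 2 ≤ k := by
      refine ⟨?_, ?_⟩
      · by_contra h; have := Nat.pow_le_pow_right (show 0 < 2 by omega) (show 3 ≤ k by omega); omega
      · by_contra h; have := Nat.pow_le_pow_right (show 0 < 2 by omega) (show k ≤ 1 by omega); omega
    rw [hk, show k = 2 by omega]; rfl
  -- the automorphism permutes the three involutions cyclically
  have hmv : ∀ v : T, v ^ 2 = 1 → v ≠ 1 → φ v ≠ v ∧ φ (φ v) ≠ v ∧ φ (φ (φ v)) = v := by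
    intro v hv hv1
    have hφv : φ v ^ 2 = 1 := by rw [← map_pow, hv, map_one]
    have h1 : φ v ≠ v := by
      intro h
      have hall : ∀ u : V, u = 1 ∨ u = ⟨v, hv⟩ := by
        intro u
        by_cases hu : (u : T) = 1
        · exact Or.inl (Subtype.ext hu)
        · obtain ⟨k, hk⟩ := htrans v u (hord v hv hv1) (hord u u.2 hu)
          refine Or.inr (Subtype.ext ?_)
          rw [← hk]
          clear hk
          induction k with
          | zero => rfl
          | succ k ih => rw [pow_succ, MulAut.mul_apply, h]; exact ih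
      have : Nat.card V ≤ 2 := by
        have hs : Function.Surjective (fun i : Fin 2 => if i = 0 then (1 : V) else ⟨v, hv⟩) := fun u => by
          rcases hall u with e | e
          · exact ⟨0, by simp [e]⟩
          · exact ⟨1, by simp [e]⟩
        exact (Nat.card_le_card_of_surjective _ hs).trans (Nat.card_fin 2).le
      omega
    have h2' : φ (φ v) ≠ v := by
      intro h
      have hp : ∀ k : ℕ, (φ ^ k) v = v ∨ (φ ^ k) v = φ v := by
        intro k
        induction k with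
        | zero => exact Or.inl rfl
        | succ k ih =>
          rw [pow_succ', MulAut.mul_apply]
          rcases ih with e | e <;> rw [e]
          · exact Or.inr rfl
          · exact Or.inl h
      have hw : (v * φ v) ^ 2 = 1 := (mul_mem (show v ∈ V from hv) (show φ v ∈ V from hφv) : v * φ v ∈ V)
      have hw1 : v * φ v ≠ 1 := fun e => h1 (by
        rw [mul_eq_one_iff_inv_eq.1 e |>.symm, inv_eq_iff_mul_eq_one, ← sq, hv])
      obtain ⟨k, hk⟩ := htrans v _ (hord v hv hv1) (hord _ hw hw1)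
      rcases hp k with e | e <;> rw [e] at hk
      · exact hv1 (φ.injective (by rw [map_one]; exact mul_eq_left.1 hk.symm))
      · exact hv1 (mul_eq_right.1 hk.symm)
    refine ⟨h1, h2', ?_⟩
    have hφ2 : φ (φ v) = v * φ v := by
      by_contra hne
      have hφ1 : φ v ≠ 1 := fun e => hv1 (φ.injective (e.trans (map_one φ).symm))
      have hφφ : φ (φ v) ≠ 1 := fun e => hφ1 (φ.injective (e.trans (map_one φ).symm))
      have hne' : φ (φ v) ≠ φ v := fun e => h1 (φ.injective e)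
      have hw : v * φ v ≠ 1 := fun e => h1 (by
        rw [mul_eq_one_iff_inv_eq.1 e |>.symm, inv_eq_iff_mul_eq_one, ← sq, hv])
      classical
      haveI : Fintype V := Fintype.ofFinite V
      let s : Finset V := {1, ⟨v, hv⟩, ⟨φ v, hφv⟩, ⟨φ (φ v), by show φ (φ v) ^ 2 = 1; rw [← map_pow, hφv, map_one]⟩,
        ⟨v * φ v, mul_mem (show v ∈ V from hv) (show φ v ∈ V from hφv)⟩}
      have hs : s.card = 5 := by
        simp [s, Finset.card_insert_of_notMem, Subtype.ext_iff, Ne.symm hv1, Ne.symm hφ1, Ne.symm hφφ, Ne.symm h1,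
          Ne.symm h2', Ne.symm hne', Ne.symm hw, hne, hv1, hφ1, hφφ]
      have := s.card_le_univ
      rw [← Nat.card_eq_fintype_card, hV4] at this
      omega
    calc φ (φ (φ v)) = φ (v * φ v) := congrArg φ hφ2
      _ = φ v * (v * φ v) := by rw [map_mul, hφ2]
      _ = v := by
        rw [Subgroup.mem_center_iff.1 (hcen _ hφv) v, ← mul_assoc, ← sq (φ v), hφv, one_mul]
  obtain ⟨N, hN⟩ : ∃ N, N = orderOf φ := ⟨_, rfl⟩
  have hN0 : N ≠ 0 := hN ▸ (orderOf_pos φ).ne'
  obtain ⟨m, hm⟩ : ∃ m, m = N / 3 ^ N.factorization 3 := ⟨_, rfl⟩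
  have hm3 : m % 3 ≠ 0 := fun h => Nat.not_dvd_ordCompl Nat.prime_three hN0 (hm ▸ Nat.dvd_of_mod_eq_zero h)
  have hpow : ∀ v : T, v ^ 2 = 1 → v ≠ 1 → ∀ k, (φ ^ (3 * k)) v = v := by
    intro v hv hv1 k
    induction k with
    | zero => rfl
    | succ k ih =>
      rw [mul_add, mul_one, pow_add, MulAut.mul_apply, show (φ ^ 3) v = v from (hmv v hv hv1).2.2]
      exact ih
  have hmod : ∀ v : T, v ^ 2 = 1 → v ≠ 1 → ∀ k, (φ ^ k) v = (φ ^ (k % 3)) v := fun v hv hv1 k => by
    conv_lhs => rw [← Nat.mod_add_div k 3, pow_add, MulAut.mul_apply, hpow v hv hv1]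
  refine ⟨φ ^ m, hT, hcen, hV4, fun v hv h => ?_, fun v hv => ?_, N.factorization 3, ?_⟩
  · by_contra hv1
    rw [hmod v hv hv1] at h
    rcases (show m % 3 = 1 ∨ m % 3 = 2 by omega) with e | e <;> rw [e] at h
    · rw [pow_one] at h; exact (hmv v hv hv1).1 h
    · exact (hmv v hv hv1).2.1 h
  · by_cases hv1 : v = 1
    · simp [hv1]
    · rw [← MulAut.mul_apply, ← MulAut.mul_apply, ← pow_add, ← pow_add, show m + m + m = 3 * m by ring, hpow v hv hv1]
  · rw [orderOf_pow_of_dvd (fun h => hm3 (by rw [h])) (by rw [← hN, hm]; exact Nat.ordCompl_dvd N 3), ← hN, hm]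
    exact Nat.div_div_self (Nat.ordProj_dvd N 3) hN0

theorem abelian_case {T : Type*} [Group T] [Finite T] {ψ : MulAut T} (D : Data ψ) (hab : ∀ x y : T, x * y = y * x) :
    ∃ n : ℕ, 1 ≤ n ∧ Nonempty (T ≃* Multiplicative (ZMod (2 ^ n) × ZMod (2 ^ n))) := by
  obtain ⟨a, hmax⟩ := Finite.exists_max (fun x : T => orderOf x)
  obtain ⟨n, hn⟩ := IsPGroup.iff_orderOf.1 D.pgroup a
  have hall : ∀ x : T, x ^ 2 ^ n = 1 := fun x => by
    obtain ⟨k, hk⟩ := IsPGroup.iff_orderOf.1 D.pgroup x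
    refine orderOf_dvd_iff_pow_eq_one.1 ?_
    rw [hk]
    refine pow_dvd_pow 2 ((Nat.pow_le_pow_iff_right (show 1 < 2 by omega)).1 ?_)
    rw [← hk, ← hn]; exact hmax x
  have hn1 : 1 ≤ n := by
    by_contra h
    obtain rfl : n = 0 := by omega
    have : Subsingleton {v : T // v ^ 2 = 1} := ⟨fun x y => Subtype.ext (by
      rw [← pow_one (x : T), ← pow_one (y : T)]
      exact (hall x).trans (hall y).symm)⟩
    have h4 := D.four
    rw [← Finite.card_le_one_iff_subsingleton] at this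
    omega
  refine ⟨n, hn1, ?_⟩
  obtain ⟨b, hb⟩ : ∃ b, b = ψ a := ⟨_, rfl⟩
  have hbn : orderOf b = 2 ^ n := by rw [hb, MulEquiv.orderOf_eq, hn]
  obtain ⟨v, hv⟩ : ∃ v, v = a ^ 2 ^ (n - 1) := ⟨_, rfl⟩
  have hv2 : v ^ 2 = 1 := by rw [hv, ← pow_mul, ← pow_succ, Nat.sub_add_cancel hn1, hall]
  have hv1 : v ≠ 1 := fun h => by
    have := orderOf_dvd_of_pow_eq_one (hv ▸ h)
    rw [hn, Nat.pow_dvd_pow_iff_le_right (by norm_num)] at this
    omega
  have huniq : ∀ (c : T), orderOf c = 2 ^ n → ∀ x ∈ Subgroup.zpowers c, x ^ 2 = 1 → x = 1 ∨ x = c ^ 2 ^ (n - 1) := by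
    intro c hc x hx hx2
    obtain ⟨i, hi⟩ := Submonoid.mem_powers_iff _ _ |>.1 (mem_powers_iff_mem_zpowers.2 hx)
    rw [← hi, ← pow_mul] at hx2
    have hd := orderOf_dvd_of_pow_eq_one hx2
    rw [hc, ← Nat.sub_add_cancel hn1, pow_succ] at hd
    obtain ⟨j, rfl⟩ := Nat.dvd_of_mul_dvd_mul_right two_pos hd
    have hc2 : (c ^ 2 ^ (n - 1)) ^ 2 = 1 := by
      rw [← pow_mul, ← pow_succ, Nat.sub_add_cancel hn1, ← hc, pow_orderOf_eq_one]
    rw [pow_mul] at hi
    rcases Nat.even_or_odd' j with ⟨t, rfl | rfl⟩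
    · left; rw [← hi, pow_mul, hc2, one_pow]
    · right; rw [← hi, pow_succ, pow_mul, hc2, one_pow, one_mul]
  have hdisj : Disjoint (Subgroup.zpowers a) (Subgroup.zpowers b) := by
    rw [disjoint_iff, Subgroup.eq_bot_iff_forall]
    intro x hx
    obtain ⟨hxa, hxb⟩ := Subgroup.mem_inf.1 hx
    by_contra hx1
    obtain ⟨k, hk⟩ := IsPGroup.iff_orderOf.1 D.pgroup x
    have hk0 : k ≠ 0 := fun h => hx1 (orderOf_eq_one_iff.1 (by rw [hk, h, pow_zero]))
    obtain ⟨y, hy⟩ : ∃ y, y = x ^ 2 ^ (k - 1) := ⟨_, rfl⟩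
    have hy2 : y ^ 2 = 1 := by rw [hy, ← pow_mul, ← pow_succ, Nat.sub_add_cancel (by omega), ← hk, pow_orderOf_eq_one]
    have hy1 : y ≠ 1 := fun h => by
      have := orderOf_dvd_of_pow_eq_one (hy ▸ h)
      rw [hk, Nat.pow_dvd_pow_iff_le_right (by norm_num)] at this
      omega
    have e1 := (huniq a hn y (hy ▸ pow_mem hxa _) hy2).resolve_left hy1
    have e2 := (huniq b hbn y (hy ▸ pow_mem hxb _) hy2).resolve_left hy1
    rw [← hv] at e1
    rw [hb, ← map_pow, ← hv, e1] at e2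
    exact hv1 (D.moves v hv2 e2.symm)
  letI : CommGroup T := { ‹Group T› with mul_comm := hab }
  have hbound : ∀ i, Nat.card (powMonoidHom (2 ^ i) : T →* T).ker ≤ 4 ^ i := by
    intro i
    induction i with
    | zero =>
      rw [pow_zero, pow_zero, Finite.card_le_one_iff_subsingleton]
      exact ⟨fun x y => Subtype.ext (by
        have hx : (x : T) ^ 1 = 1 := x.2
        have hy : (y : T) ^ 1 = 1 := y.2
        rw [← pow_one (x : T), ← pow_one (y : T), hx, hy])⟩
    | succ i ih =>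
      obtain ⟨K, hK⟩ : ∃ K, K = (powMonoidHom (2 ^ (i + 1)) : T →* T).ker := ⟨_, rfl⟩
      let f : K →* T := (powMonoidHom 2).comp K.subtype
      have h1 : f.range ≤ (powMonoidHom (2 ^ i) : T →* T).ker := by
        rintro _ ⟨⟨x, hx⟩, rfl⟩
        rw [hK, MonoidHom.mem_ker, powMonoidHom_apply] at hx
        show (x ^ 2) ^ 2 ^ i = 1
        rw [← pow_mul, ← pow_succ', hx]
      have h2 : Nat.card f.ker ≤ 4 := D.four ▸ Nat.card_le_card_of_injective
        (fun x : f.ker => (⟨(x : K), x.2⟩ : {v : T // v ^ 2 = 1}))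
        (fun x y h => Subtype.ext (Subtype.ext (congrArg (fun w : {v : T // v ^ 2 = 1} => (w : T)) h)))
      rw [← hK, pow_succ, mul_comm, ← f.ker.card_mul_index, Subgroup.index_ker]
      exact Nat.mul_le_mul h2 ((Subgroup.card_le_of_le h1).trans ih)
  have hle : Nat.card T ≤ 4 ^ n :=
    (Nat.card_le_card_of_injective (fun x : T => (⟨x, hall x⟩ : (powMonoidHom (2 ^ n) : T →* T).ker))
      (fun x y h => congrArg (fun w : (powMonoidHom (2 ^ n) : T →* T).ker => (w : T)) h)).trans (hbound n)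
  let f : Subgroup.zpowers a × Subgroup.zpowers b →* T :=
    MonoidHom.coprod (Subgroup.zpowers a).subtype (Subgroup.zpowers b).subtype
  have hf : Function.Injective f := by
    rw [← MonoidHom.ker_eq_bot_iff, Subgroup.eq_bot_iff_forall]
    rintro ⟨⟨x, hx⟩, ⟨y, hy⟩⟩ h
    have e : x * y = 1 := h
    have hx1 : x = 1 := Subgroup.disjoint_def.1 hdisj hx (by rw [eq_inv_of_mul_eq_one_left e]; exact inv_mem hy)
    subst hx1
    rw [one_mul] at e
    subst e
    rfl
  have hcz : ∀ c : T, orderOf c = 2 ^ n → Nonempty (Subgroup.zpowers c ≃* Multiplicative (ZMod (2 ^ n))) := fun c hc =>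
    ⟨mulEquivOfCyclicCardEq (by rw [Nat.card_zpowers, hc]; exact (Nat.card_zmod _).symm)⟩
  have hbij : Function.Bijective f := (Nat.bijective_iff_injective_and_card _).2 ⟨hf, by
    refine le_antisymm (Nat.card_le_card_of_injective f hf) (hle.trans (le_of_eq ?_))
    rw [Nat.card_prod, Nat.card_zpowers, Nat.card_zpowers, hn, hbn, ← mul_pow]
    norm_num⟩
  obtain ⟨ea⟩ := hcz a hn
  obtain ⟨eb⟩ := hcz b hbn
  exact ⟨(MulEquiv.ofBijective f hbij).symm.trans ((ea.prodCongr eb).trans (MulEquiv.prodMultiplicative _ _).symm)⟩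

theorem rel_of_injective {G H : Type*} [Group G] [Group H] (f : G →* H) (hf : Function.Injective f) {a b g h : G}
    (r : Rel (f a) (f b) (f g) (f h)) : Rel a b g h := by
  have hc : ∀ z, f z ∈ Subgroup.center H → z ∈ Subgroup.center G := fun z hz =>
    Subgroup.mem_center_iff.2 fun y => hf (by rw [map_mul, map_mul, Subgroup.mem_center_iff.1 hz])
  exact ⟨hf (by simp only [map_mul]; exact r.ab), hf (by simp only [map_mul]; exact r.gh),
    hc _ (by simp only [map_mul]; exact r.a2), hc _ (by simp only [map_mul]; exact r.b2),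
    hf (by rw [map_pow, map_one]; exact r.a4), hf (by rw [map_pow, map_one]; exact r.b4),
    hf (by simp only [map_mul]; exact r.g2), hf (by simp only [map_mul]; exact r.h2),
    hf (by rw [map_commutatorElement, map_mul]; exact r.ga),
    hf (by rw [map_commutatorElement]; simp only [map_mul]; exact r.gb),
    hf (by rw [map_commutatorElement]; simp only [map_mul]; exact r.ha),
    hf (by rw [map_commutatorElement, map_mul]; exact r.hb)⟩

theorem rel_prod {G H : Type*} [Group G] [Group H] {a b g h : G} {a' b' g' h' : H} (r : Rel a b g h)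
    (r' : Rel a' b' g' h') : Rel (a, a') (b, b') (g, g') (h, h') := by
  have hc : ∀ {z : G} {z' : H}, z ∈ Subgroup.center G → z' ∈ Subgroup.center H → (z, z') ∈ Subgroup.center (G × H) :=
    fun hz hz' => Subgroup.mem_center_iff.2 fun y =>
      Prod.ext (Subgroup.mem_center_iff.1 hz y.1) (Subgroup.mem_center_iff.1 hz' y.2)
  exact ⟨Prod.ext r.ab r'.ab, Prod.ext r.gh r'.gh, hc r.a2 r'.a2, hc r.b2 r'.b2, Prod.ext r.a4 r'.a4,
    Prod.ext r.b4 r'.b4, Prod.ext r.g2 r'.g2, Prod.ext r.h2 r'.h2, Prod.ext r.ga r'.ga, Prod.ext r.gb r'.gb,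
    Prod.ext r.ha r'.ha, Prod.ext r.hb r'.hb⟩

theorem rel_card {G : Type*} [Group G] [Finite G] {a b g h : G} (r : Rel a b g h)
    (hgen : Subgroup.closure ({a, b, g, h} : Set G) = ⊤) : Nat.card G ≤ 64 := by
  have hnorm : ∀ (H : Subgroup G) (x : G) (s : Set G), H = Subgroup.closure s → (∀ y ∈ s, x * y * x⁻¹ ∈ H) →
      x ∈ Subgroup.normalizer (H : Set G) := by
    intro H x s hs hy
    refine mem_normalizer_of_cj_le ?_
    show H.map (MulAut.conj x).toMonoidHom ≤ H
    rw [Subgroup.map_le_iff_le_comap]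
    refine hs.le.trans ((Subgroup.closure_le _).2 fun y h' => ?_)
    exact hy y h'
  obtain ⟨A, hA⟩ : ∃ A, A = Subgroup.zpowers a ⊔ Subgroup.zpowers b := ⟨_, rfl⟩
  have hAeq : A = Subgroup.closure ({a, b} : Set G) := by
    rw [hA, Subgroup.zpowers_eq_closure, Subgroup.zpowers_eq_closure, ← Subgroup.closure_union]; rfl
  have ha : a ∈ A := hA ▸ Subgroup.mem_sup_left (Subgroup.mem_zpowers a)
  have hb : b ∈ A := hA ▸ Subgroup.mem_sup_right (Subgroup.mem_zpowers b)
  have h16 : Nat.card A ≤ 16 := by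
    rw [hA]
    refine (S1903.card_sup_zpowers_le _ b 4 (by norm_num) (hnorm _ _ _ (Subgroup.zpowers_eq_closure a) ?_)
      (by rw [r.b4]; exact one_mem _)).trans ?_
    · rintro y rfl
      rw [← r.ab, mul_inv_cancel_right]; exact Subgroup.mem_zpowers _
    · rw [Nat.card_zpowers]
      exact Nat.mul_le_mul_right 4 (orderOf_le_of_pow_eq_one (by norm_num) r.a4)
  have hconj : ∀ x y : G, x * y * x⁻¹ = ⁅x, y⁆ * y := fun x y => by rw [commutatorElement_def, inv_mul_cancel_right]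
  have hgn : g ∈ Subgroup.normalizer (A : Set G) := hnorm _ _ _ hAeq (by
    rintro y (rfl | rfl)
    · rw [hconj, r.ga]; exact mul_mem (mul_mem ha ha) ha
    · rw [hconj, r.gb]; exact mul_mem (mul_mem (mul_mem ha ha) (mul_mem hb hb)) hb)
  obtain ⟨B, hB⟩ : ∃ B, B = A ⊔ Subgroup.zpowers g := ⟨_, rfl⟩
  have hBeq : B = Subgroup.closure ({a, b, g} : Set G) := by
    rw [hB, hAeq, Subgroup.zpowers_eq_closure, ← Subgroup.closure_union]
    congr 1
    ext
    simp only [Set.mem_union, Set.mem_insert_iff, Set.mem_singleton_iff]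
    tauto
  have hAB : A ≤ B := hB ▸ le_sup_left
  have hgB : g ∈ B := hB ▸ Subgroup.mem_sup_right (Subgroup.mem_zpowers g)
  have h32 : Nat.card B ≤ 32 := by
    rw [hB]
    refine (S1903.card_sup_zpowers_le _ g 2 two_pos hgn (by rw [sq, r.g2]; exact mul_mem hb hb)).trans ?_
    omega
  have hhn : h ∈ Subgroup.normalizer (B : Set G) := hnorm _ _ _ hBeq (by
    rintro y (rfl | rfl | rfl)
    · rw [hconj, r.ha]; exact hAB (mul_mem (mul_mem (mul_mem ha ha) (mul_mem hb hb)) ha)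
    · rw [hconj, r.hb]; exact hAB (mul_mem (mul_mem hb hb) hb)
    · rw [← r.gh, mul_inv_cancel_right]; exact hgB)
  have htop : B ⊔ Subgroup.zpowers h = ⊤ := by
    rw [← hgen, hBeq, Subgroup.zpowers_eq_closure, ← Subgroup.closure_union]
    congr 1
    ext
    simp only [Set.mem_union, Set.mem_insert_iff, Set.mem_singleton_iff]
    tauto
  rw [← Subgroup.card_top (G := G), ← htop]
  refine (S1903.card_sup_zpowers_le _ h 2 two_pos hhn
    (by rw [sq, r.h2]; exact hAB (mul_mem (mul_mem ha ha) (mul_mem hb hb)))).trans ?_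
  omega

theorem iso_of_rel {G H : Type*} [Group G] [Group H] [Finite G] [Finite H] {a b g h : G} {a' b' g' h' : H}
    (r : Rel a b g h) (r' : Rel a' b' g' h') (hG : Nat.card G = 64) (hH : Nat.card H = 64)
    (hgen : Subgroup.closure ({a, b, g, h} : Set G) = ⊤)
    (hgen' : Subgroup.closure ({a', b', g', h'} : Set H) = ⊤) : Nonempty (G ≃* H) := by
  obtain ⟨K, hK⟩ : ∃ K, K = Subgroup.closure ({(a, a'), (b, b'), (g, g'), (h, h')} : Set (G × H)) := ⟨_, rfl⟩
  have hak : (a, a') ∈ K := hK ▸ Subgroup.subset_closure (by simp)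
  have hbk : (b, b') ∈ K := hK ▸ Subgroup.subset_closure (by simp)
  have hgk : (g, g') ∈ K := hK ▸ Subgroup.subset_closure (by simp)
  have hhk : (h, h') ∈ K := hK ▸ Subgroup.subset_closure (by simp)
  have hS : Rel (⟨_, hak⟩ : K) ⟨_, hbk⟩ ⟨_, hgk⟩ ⟨_, hhk⟩ :=
    rel_of_injective K.subtype K.subtype_injective (rel_prod r r')
  have hgK : Subgroup.closure ({⟨_, hak⟩, ⟨_, hbk⟩, ⟨_, hgk⟩, ⟨_, hhk⟩} : Set K) = ⊤ := by
    refine Subgroup.map_injective K.subtype_injective ?_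
    rw [MonoidHom.map_closure, ← MonoidHom.range_eq_map, Subgroup.range_subtype, Set.image_insert_eq,
      Set.image_insert_eq, Set.image_pair]
    exact hK.symm
  have hcard := rel_card hS hgK
  let f₁ : K →* G := (MonoidHom.fst G H).comp K.subtype
  let f₂ : K →* H := (MonoidHom.snd G H).comp K.subtype
  have hs₁ : Function.Surjective f₁ := by
    rw [← MonoidHom.range_eq_top, eq_top_iff, ← hgen, Subgroup.closure_le]
    rintro x (rfl | rfl | rfl | rfl)
    exacts [⟨⟨_, hak⟩, rfl⟩, ⟨⟨_, hbk⟩, rfl⟩, ⟨⟨_, hgk⟩, rfl⟩, ⟨⟨_, hhk⟩, rfl⟩]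
  have hs₂ : Function.Surjective f₂ := by
    rw [← MonoidHom.range_eq_top, eq_top_iff, ← hgen', Subgroup.closure_le]
    rintro x (rfl | rfl | rfl | rfl)
    exacts [⟨⟨_, hak⟩, rfl⟩, ⟨⟨_, hbk⟩, rfl⟩, ⟨⟨_, hgk⟩, rfl⟩, ⟨⟨_, hhk⟩, rfl⟩]
  have hb₁ : Function.Bijective f₁ := (Nat.bijective_iff_surjective_and_card _).2
    ⟨hs₁, le_antisymm (hG ▸ hcard) (Nat.card_le_card_of_surjective f₁ hs₁)⟩
  have hb₂ : Function.Bijective f₂ := (Nat.bijective_iff_surjective_and_card _).2
    ⟨hs₂, le_antisymm (hH ▸ hcard) (Nat.card_le_card_of_surjective f₂ hs₂)⟩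
  exact ⟨(MulEquiv.ofBijective f₁ hb₁).symm.trans (MulEquiv.ofBijective f₂ hb₂)⟩

theorem nonabelian_std {T : Type*} [Group T] [Finite T] {ψ : MulAut T} (D : Data ψ)
    (hnab : ∃ x y : T, x * y ≠ y * x) :
    Nat.card T = 64 ∧ ∃ a b g h : T, Rel a b g h ∧ Subgroup.closure ({a, b, g, h} : Set T) = ⊤ := by
  obtain ⟨A, hAn, hAψ, hA, hVA, hmax⟩ := D.exists_max_abelian
  haveI := hAn
  exact D.exists_rel hAψ hA hVA hmax hnab

open Cfsg.Agent.Lie.UnitarySylow in
theorem exists_std_psu {F : Type*} [Field F] [Fintype F] (hF : Fintype.card F = 16) (P : Sylow 2 (Cfsg.PSU 3 F 4)) :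
    Nat.card ↥(P : Subgroup (Cfsg.PSU 3 F 4)) = 64 ∧ ∃ a b g h : ↥(P : Subgroup (Cfsg.PSU 3 F 4)),
      Rel a b g h ∧ Subgroup.closure ({a, b, g, h} : Set ↥(P : Subgroup (Cfsg.PSU 3 F 4))) = ⊤ := by
  classical
  haveI : Fact (Nat.Prime 2) := ⟨Nat.prime_two⟩
  haveI : CharP F 2 := charP_of_card_eq_prime_pow (p := 2) (f := 4) (by rw [hF]; norm_num)
  obtain ⟨p, n, σ, -, -, -, -, hσ⟩ := Cfsg.Agent.Classical.exists_usigma (F := F) (q := 4) (by rw [hF]; norm_num)
  letI := uGroup hσ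
  haveI := finite_U hσ
  obtain ⟨e⟩ := sylow_PSU hσ (n := 2) (by norm_num) (by norm_num) P
  obtain ⟨μ, hμf, hμ0, hμ1⟩ : ∃ μ : F, σ μ = μ ∧ μ ≠ 0 ∧ μ ≠ 1 := by
    by_contra h
    push Not at h
    have hs : Function.Surjective
        (fun i : Fin 2 => if i = 0 then (⟨0, map_zero σ⟩ : {z : F // σ z = z}) else ⟨1, map_one σ⟩) := fun z => by
      by_cases h0 : (z : F) = 0
      · exact ⟨0, by simp [Subtype.ext_iff, h0]⟩
      · exact ⟨1, by simp [Subtype.ext_iff, h z z.2 h0]⟩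
    have h4 := Nat.card_le_card_of_surjective _ hs
    rw [(card_fix hσ).1, Nat.card_fin] at h4
    omega
  have hfix3 : ∀ z : F, σ z = z → z ≠ 0 → z ^ 3 = 1 := fun z hz hz0 =>
    mul_left_cancel₀ hz0 (by rw [mul_one, ← pow_succ', ← hσ.apply_eq z]; exact hz)
  obtain ⟨ν, hν⟩ : ∃ ν, ν = μ * μ := ⟨_, rfl⟩
  have hν0 : ν ≠ 0 := by rw [hν]; exact mul_ne_zero hμ0 hμ0
  have hν3 : ν ^ 3 = 1 := by rw [hν, ← pow_two, ← pow_mul, mul_comm, pow_mul, hfix3 μ hμf hμ0, one_pow]
  have hν1 : ν ≠ 1 := by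
    intro h
    have h3 := hfix3 μ hμf hμ0
    rw [pow_succ, pow_two, ← hν, h, one_mul] at h3
    exact hμ1 h3
  let φ : MulAut (U σ) :=
    { toFun := fun u => ⟨μ * u.x, ν * u.z, by rw [hν, map_mul, map_mul, map_mul, hμf]; linear_combination μ * μ * u.rel⟩
      invFun := fun u => ⟨μ⁻¹ * u.x, ν⁻¹ * u.z, by
        rw [hν, map_mul, map_mul, map_inv₀, map_inv₀, map_mul, hμf, mul_inv]; linear_combination μ⁻¹ * μ⁻¹ * u.rel⟩
      left_inv := fun u => U.ext (inv_mul_cancel_left₀ hμ0 _) (inv_mul_cancel_left₀ hν0 _)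
      right_inv := fun u => U.ext (mul_inv_cancel_left₀ hμ0 _) (mul_inv_cancel_left₀ hν0 _)
      map_mul' := fun u w => U.ext (by show μ * (u.x + w.x) = μ * u.x + μ * w.x; ring) (by
        show ν * (u.z + w.z + σ u.x * w.x) = ν * u.z + ν * w.z + σ (μ * u.x) * (μ * w.x)
        rw [map_mul, hμf, hν]; ring) }
  have hφ : ∀ (k : ℕ) (u : U σ), ((φ ^ k) u).x = μ ^ k * u.x ∧ ((φ ^ k) u).z = ν ^ k * u.z := by
    intro k u
    induction k with
    | zero => exact ⟨by rw [pow_zero, pow_zero, one_mul]; rfl, by rw [pow_zero, pow_zero, one_mul]; rfl⟩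
    | succ k ih =>
      rw [pow_succ', MulAut.mul_apply, pow_succ', mul_assoc, ← ih.1, pow_succ', mul_assoc, ← ih.2]
      exact ⟨rfl, rfl⟩
  have hinv : ∀ u : U σ, u ^ 2 = 1 ↔ u.x = 0 := fun u => by rw [sq]; exact sq_eq_one_iff hσ u
  have hcard : Nat.card {u : U σ // u.x = 0} = 4 := by
    refine (Nat.card_congr ?_).trans (card_fix hσ).1
    exact
      { toFun := fun u => ⟨u.1.z, z_fixed u.2⟩
        invFun := fun z => ⟨central z.1 z.2, rfl⟩
        left_inv := fun u => Subtype.ext (U.ext u.2.symm rfl)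
        right_inv := fun z => rfl }
  have hP2 : Cfsg.PRankLE 2 2 (U σ) := by
    intro A _ hA
    rw [show (2 : ℕ) ^ 2 = 4 from rfl, ← hcard]
    exact Nat.card_le_card_of_injective (fun a : A => (⟨a, (hinv _).1 (hA a a.2)⟩ : {u : U σ // u.x = 0}))
      (fun a b h => Subtype.ext (congrArg (fun w : {u : U σ // u.x = 0} => (w : U σ)) h))
  have hP1 : ¬ Cfsg.PRankLE 2 1 (U σ) := by
    intro h
    let Z : Subgroup (U σ) :=
      { carrier := {u | u.x = 0}
        one_mem' := rfl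
        mul_mem' := fun {a b} ha hb => by
          show (a * b).x = 0
          rw [mul_x hσ, show a.x = 0 from ha, show b.x = 0 from hb, add_zero]
        inv_mem' := fun {a} ha => (show a.x = 0 from ha) }
    have h4 := h Z ⟨⟨fun a b => Subtype.ext (Subgroup.mem_center_iff.1 ((mem_center_iff hσ (b : U σ)).2 b.2) a)⟩⟩
      fun a ha => (hinv a).2 ha
    change Nat.card {u : U σ // u.x = 0} ≤ _ at h4
    omega
  have htr : ∀ s t : U σ, orderOf s = 2 → orderOf t = 2 → ∃ k : ℕ, (φ ^ k) s = t := by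
    have key : ∀ s : U σ, orderOf s = 2 → s.x = 0 ∧ σ s.z = s.z ∧ s.z ≠ 0 := by
      intro s hs
      have hx := (hinv s).1 (by rw [← hs]; exact pow_orderOf_eq_one s)
      refine ⟨hx, z_fixed hx, fun hz => ?_⟩
      have : s = 1 := U.ext hx hz
      rw [this, orderOf_one] at hs
      omega
    intro s t hs ht
    obtain ⟨s1, s2, s3⟩ := key s hs
    obtain ⟨t1, t2, t3⟩ := key t ht
    obtain ⟨r, hr⟩ : ∃ r, r = t.z / s.z := ⟨_, rfl⟩
    have hr3 : r ^ 3 = 1 := by rw [hr, div_pow, hfix3 _ t2 t3, hfix3 _ s2 s3, div_one]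
    have hsum : 1 + ν + ν ^ 2 = 0 := by
      have h0 : (ν - 1) * (1 + ν + ν ^ 2) = 0 := by linear_combination hν3
      exact (mul_eq_zero.1 h0).resolve_left (sub_ne_zero.2 hν1)
    have hprod : (r - 1) * (r - ν) * (r - ν ^ 2) = 0 := by
      linear_combination hr3 + (ν * r - r ^ 2) * hsum - hν3
    obtain ⟨k, hk⟩ : ∃ k : ℕ, r = ν ^ k := by
      rcases mul_eq_zero.1 hprod with h | h
      · rcases mul_eq_zero.1 h with h | h
        · exact ⟨0, by rw [pow_zero]; exact sub_eq_zero.1 h⟩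
        · exact ⟨1, by rw [pow_one]; exact sub_eq_zero.1 h⟩
      · exact ⟨2, sub_eq_zero.1 h⟩
    refine ⟨k, U.ext ?_ ?_⟩
    · rw [(hφ k s).1, s1, t1, mul_zero]
    · rw [(hφ k s).2, ← hk, hr, div_mul_cancel₀ _ s3]
  obtain ⟨ψ, D⟩ := exists_data (isPGroup hσ) hP2 hP1 φ htr
  have hnab : ∃ x y : U σ, x * y ≠ y * x := by
    obtain ⟨g, hg⟩ := exists_z hσ 1
    by_contra h
    push Not at h
    have := (mem_center_iff hσ g).1 (Subgroup.mem_center_iff.2 fun k => h k g)
    rw [hg] at this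
    exact one_ne_zero this
  obtain ⟨h64, a, b, g, h, r, hgen⟩ := nonabelian_std D hnab
  refine ⟨by rw [← Nat.card_congr e.toEquiv, h64], e a, e b, e g, e h,
    rel_of_injective e.symm.toMonoidHom e.symm.injective (by simpa using r), ?_⟩
  have himg := e.toMonoidHom.map_closure {a, b, g, h}
  rw [hgen, Subgroup.map_top_of_surjective e.toMonoidHom e.surjective, Set.image_insert_eq, Set.image_insert_eq,
    Set.image_pair] at himg
  exact himg.symm


/-- Let T be a finite 2-group of 2-rank exactly 2 (it has a Klein four-subgroup but no elementary abelian subgroup of order 8) admitting an automorphism φ such that any two involutions of T are carried to one another by a power of φ. Then T ≅ Z_{2^n} × Z_{2^n} for some n ≥ 1, or T is isomorphic to a Sylow 2-subgroup of PSU(3) over the field with 16 elements. -/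
theorem result {T : Type*} [Group T] [Finite T] (hT : IsPGroup 2 T) (h2 : Cfsg.PRankLE 2 2 T) (h1 : ¬ Cfsg.PRankLE 2 1 T) (φ : MulAut T) (htrans : ∀ s t : T, orderOf s = 2 → orderOf t = 2 → ∃ k : ℕ, (φ ^ k) s = t) {F : Type*} [Field F] [Fintype F] (hF : Fintype.card F = 16) (P : Sylow 2 (Cfsg.PSU 3 F 4)) : (∃ n : ℕ, 1 ≤ n ∧ Nonempty (T ≃* Multiplicative (ZMod (2 ^ n) × ZMod (2 ^ n)))) ∨ Nonempty (T ≃* (P : Subgroup (Cfsg.PSU 3 F 4))) := by
  obtain ⟨ψ, D⟩ := exists_data hT h2 h1 φ htrans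
  by_cases hab : ∀ x y : T, x * y = y * x
  · exact Or.inl (abelian_case D hab)
  · push Not at hab
    obtain ⟨hT64, a, b, g, h, r, hgen⟩ := nonabelian_std D hab
    obtain ⟨hP64, a', b', g', h', r', hgen'⟩ := exists_std_psu hF P
    exact Or.inr (iso_of_rel r r' hT64 hP64 hgen hgen')

end Cfsg.Agent.S1237
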