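import Cfsg.Statements.S1160
import Mathlib
import Cfsg.Agent.Lib.Solv.Kulakoff
-- import your own Cfsg.Agent.* helpers here

set_option autoImplicit false
open Cfsg

namespace Cfsg.Agent.S1160

/-- Let `p ≠ 2` be prime and `P` a finite `p`-group acting faithfully by additive automorphisms on a finite elementary abelian `q`-group `E` (`q` prime), such that `|P_a|` is the same for all `a ≠ 0`. Then `P` is cyclic and every non-identity element of `P` fixes only `0`. -/
theorem result {P E : Type*} [Group P] [Finite P]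
    [AddCommGroup E] [Finite E] [DistribMulAction P E] [FaithfulSMul P E]
    {p q : ℕ} [Fact p.Prime] (hp2 : p ≠ 2) (hP : IsPGroup p P) (hq : q.Prime) (hE : ∀ e : E, q • e = 0)
    (hconst : ∀ a b : E, a ≠ 0 → b ≠ 0 →
      Nat.card (MulAction.stabilizer P a) = Nat.card (MulAction.stabilizer P b)) :
    IsCyclic P ∧ ∀ g : P, g ≠ 1 → ∀ a : E, g • a = a → a = 0 := by
  classical
  have hp : p.Prime := Fact.out
  haveI := Fintype.ofFinite P
  let St : E → Subgroup P := fun a => MulAction.stabilizer P a
  rcases subsingleton_or_nontrivial E with hE1 | hE1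
  · haveI : Subsingleton P := ⟨fun g h => eq_of_smul_eq_smul (α := E) fun a => Subsingleton.elim _ _⟩
    exact ⟨inferInstance, fun g hg => absurd (Subsingleton.elim g 1) hg⟩
  have hfix_all : ∀ g : P, (∀ a : E, g • a = a) → g = 1 := fun g h =>
    eq_of_smul_eq_smul (α := E) fun a => by rw [h, one_smul]
  by_cases hpq : p = q
  · subst hpq
    haveI := Fintype.ofFinite E
    have hdiv : p ∣ Nat.card E := by
      obtain ⟨e, he⟩ := exists_ne (0 : E)
      have : addOrderOf e = p := addOrderOf_eq_prime (hE e) he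
      exact this ▸ addOrderOf_dvd_natCard e
    obtain ⟨b, hb, hb0⟩ := hP.exists_fixed_point_of_prime_dvd_card_of_fixed_point (α := E) hdiv
      (a := 0) (fun g => smul_zero g)
    haveI : Subsingleton P := by
      refine ⟨fun g h => ?_⟩
      have key : ∀ g : P, g = 1 := fun g => hfix_all g fun a => by
        by_cases ha : a = 0
        · rw [ha, smul_zero]
        have h1 : St b = ⊤ := eq_top_iff.2 fun g _ => hb g
        have h2 : St a = ⊤ := Subgroup.eq_top_of_card_eq _ (by
          rw [show Nat.card (St a) = Nat.card (St b) from hconst a b ha (Ne.symm hb0), h1, Subgroup.card_top])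
        exact (show g ∈ St a from h2 ▸ Subgroup.mem_top g)
      rw [key g, key h]
    exact ⟨inferInstance, fun g hg => absurd (Subsingleton.elim g 1) hg⟩
  -- multiplication by p is injective
  have hpinj : ∀ a : E, p • a = 0 → a = 0 := fun a ha => by
    have h1 : addOrderOf a ∣ q := addOrderOf_dvd_of_nsmul_eq_zero (hE a)
    have h2 : addOrderOf a ∣ p := addOrderOf_dvd_of_nsmul_eq_zero ha
    have h3 : addOrderOf a ∣ 1 := ((Nat.coprime_primes hp hq).2 hpq) ▸ Nat.dvd_gcd h2 h1
    exact AddMonoid.addOrderOf_eq_one_iff.1 (Nat.dvd_one.1 h3)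
  have hcyc : IsCyclic P := by
    by_contra hnc
    obtain ⟨A, hAn, hAe, hAc⟩ := Cfsg.Agent.Solv.exists_normal_elementary_sq hp2 hP hnc
    have hAcomm : ∀ x ∈ A, ∀ y ∈ A, x * y = y * x := fun x hx y hy =>
      congrArg Subtype.val (hAe.1.is_comm.comm (⟨x, hx⟩ : A) ⟨y, hy⟩)
    let N : Subgroup P → E → E := fun X a => ∑ x : X, (x : P) • a
    have hNfix : ∀ X a, ∀ x ∈ X, x • N X a = N X a := fun X a x hx => by
      show x • ∑ y : X, (y : P) • a = _
      rw [Finset.smul_sum]
      exact Fintype.sum_equiv (Equiv.mulLeft (⟨x, hx⟩ : X)) _ _ fun y => by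
        rw [Equiv.coe_mulLeft, Subgroup.coe_mul, mul_smul]
    have hNself : ∀ X a, (∀ x ∈ X, x • a = a) → N X a = Nat.card X • a := fun X a h => by
      show ∑ x : X, (x : P) • a = _
      rw [Finset.sum_congr rfl fun x _ => h _ x.2, Finset.sum_const, Finset.card_univ, Nat.card_eq_fintype_card]
    have hNadd : ∀ X a b, N X (a + b) = N X a + N X b := fun X a b => by
      show ∑ x : X, (x : P) • (a + b) = ∑ x : X, (x : P) • a + ∑ x : X, (x : P) • b
      simp only [smul_add, Finset.sum_add_distrib]
    have hNg : ∀ (g : P) X a, g • N X a = N (X.map (MulAut.conj g).toMonoidHom) (g • a) := fun g X a => by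
      show g • ∑ x : X, (x : P) • a = _
      rw [Finset.smul_sum]
      refine Fintype.sum_equiv (X.equivMapOfInjective (MulAut.conj g).toMonoidHom (MulAut.conj g).injective).toEquiv _ _ fun x => ?_
      show g • (x : P) • a = (MulAut.conj g (x : P)) • g • a
      rw [MulAut.conj_apply, smul_smul, smul_smul, inv_mul_cancel_right]
    have hAmap : ∀ g : P, A.map (MulAut.conj g).toMonoidHom = A := fun g => Subgroup.Normal.map_conj_eq A g
    -- equal stabilisers
    have heq : ∀ a b : E, a ≠ 0 → b ≠ 0 → a + b ≠ 0 → St (a + b) ≤ St a ⊓ St b → St a = St b := by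
      intro a b ha hb hab h
      have h1 : St (a + b) = St a := Subgroup.eq_of_le_of_card_ge (h.trans inf_le_left) (hconst a (a + b) ha hab).le
      have h2 : St (a + b) = St b := Subgroup.eq_of_le_of_card_ge (h.trans inf_le_right) (hconst b (a + b) hb hab).le
      exact h1.symm.trans h2
    have hA0 : ∀ a : E, (∀ x ∈ A, x • a = a) → a = 0 := by
      intro a ha
      by_contra ha0
      obtain ⟨x, hx, e, hxe⟩ : ∃ x ∈ A, ∃ e : E, x • e ≠ e := by
        by_contra hcon
        push Not at hcon
        have := hAc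
        rw [(Subgroup.eq_bot_iff_forall A).2 fun x hx => hfix_all x (hcon x hx), Subgroup.card_bot] at this
        exact absurd this.symm (Nat.one_lt_pow two_ne_zero hp.one_lt).ne'
      let b := Nat.card A • e - N A e
      have hb : x • b ≠ b := by
        intro h
        simp only [b, smul_sub, smul_comm x (Nat.card A), hNfix A e x hx, sub_left_inj] at h
        apply hxe
        rw [← sub_eq_zero]
        refine hpinj _ (hpinj _ ?_)
        rw [← mul_nsmul, ← pow_two, ← hAc, nsmul_sub, h, sub_self]
      have hb0 : b ≠ 0 := fun h => hb (by rw [h, smul_zero])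
      have hab : a + b ≠ 0 := fun h => hb (by
        rw [eq_neg_of_add_eq_zero_right h, smul_neg, ha x hx])
      have hNb : N A b = 0 := by
        show N A (Nat.card A • e - N A e) = 0
        have hsub : ∀ u v, N A (u - v) = N A u - N A v := fun u v => by
          rw [eq_sub_iff_add_eq, ← hNadd, sub_add_cancel]
        rw [hsub, hNself A (N A e) (hNfix A e)]
        show ∑ y : A, (y : P) • (Nat.card A • e) - _ = 0
        rw [Finset.sum_congr rfl fun (y : A) _ => smul_comm (y : P) (Nat.card A) e, ← Finset.smul_sum, sub_self]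
      have hle : St (a + b) ≤ St a ⊓ St b := fun g hg => by
        have h2 := hNg g A (a + b)
        rw [hAmap, show g • (a + b) = a + b from hg, hNadd, hNb, add_zero, hNself A a ha, smul_comm, hAc] at h2
        have h1 : g • a = a := by
          rw [← sub_eq_zero]
          refine hpinj _ (hpinj _ ?_)
          rw [← mul_nsmul, ← pow_two, nsmul_sub, h2, sub_self]
        refine ⟨h1, ?_⟩
        have h3 : g • (a + b) = a + b := hg
        rw [smul_add, h1] at h3
        exact add_left_cancel h3
      have := heq a b ha0 hb0 hab hle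
      exact hb (show x ∈ St b from this ▸ ha x hx)
    let 𝒳 : Finset (Subgroup P) := {X | X ≤ A ∧ Nat.card X = p}
    have hgen : ∀ X ∈ 𝒳, ∀ Y ∈ 𝒳, X ≠ Y → ∀ c : E, (∀ x ∈ X, x • c = c) → (∀ y ∈ Y, y • c = c) → c = 0 := by
      intro X hX Y hY hne c hc hd
      simp only [𝒳, Finset.mem_filter] at hX hY
      refine hA0 c fun x hx => ?_
      have htop : X ⊔ Y = A := by
        refine Subgroup.eq_of_le_of_card_ge (sup_le hX.2.1 hY.2.1) ?_
        have hlt : Y < X ⊔ Y := lt_of_le_of_ne le_sup_right fun h => hne (Subgroup.eq_of_le_of_card_ge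
          (h.symm ▸ le_sup_left) (hY.2.2.trans hX.2.2.symm).le)
        obtain ⟨k, hk, hk'⟩ := (Nat.dvd_prime_pow hp).1 (hAc ▸ Subgroup.card_dvd_of_le (sup_le hX.2.1 hY.2.1))
        have hlt' : Nat.card Y < Nat.card (X ⊔ Y : Subgroup P) := Set.ncard_lt_ncard (SetLike.coe_ssubset_coe.2 hlt)
        rw [hk', hY.2.2] at hlt'
        rw [hk', hAc]
        exact Nat.pow_le_pow_right hp.pos (by
          by_contra h
          have := Nat.pow_le_pow_right hp.pos (show k ≤ 1 by omega)
          rw [pow_one] at this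
          omega)
      exact (show X ⊔ Y ≤ St c from sup_le hc hd) (htop.symm ▸ hx)
    have hNN : ∀ X ∈ 𝒳, ∀ Y ∈ 𝒳, X ≠ Y → ∀ b, (∀ y ∈ Y, y • b = b) → N X b = 0 := by
      intro X hX Y hY hne b hb
      refine hgen X hX Y hY hne _ (hNfix X b) fun y hy => ?_
      show y • ∑ x : X, (x : P) • b = _
      rw [Finset.smul_sum]
      refine Finset.sum_congr rfl fun x _ => ?_
      simp only [𝒳, Finset.mem_filter] at hX hY
      rw [smul_smul, hAcomm y (hY.2.1 hy) x (hX.2.1 x.2), mul_smul, hb y hy]
    let R : Subgroup P → Finset P := fun X => Finset.univ.filter (fun g : P => g ∈ X ∧ g ≠ 1)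
    have hdisj : (𝒳 : Set (Subgroup P)).PairwiseDisjoint R := by
      intro X hX Y hY hne
      simp only [𝒳, Finset.coe_filter, Finset.mem_univ, true_and, Set.mem_ofPred_eq] at hX hY
      refine Finset.disjoint_left.2 fun g hg hg' => hne ?_
      simp only [R, Finset.mem_filter, Finset.mem_univ, true_and] at hg hg'
      have hc : Nat.card (Subgroup.zpowers g) = p := by
        rw [Nat.card_zpowers]; exact orderOf_eq_prime (hAe.2 g (hX.1 hg.1)) hg.2
      have e1 := Subgroup.eq_of_le_of_card_ge (Subgroup.zpowers_le.2 hg.1) (by rw [hc, hX.2])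
      have e2 := Subgroup.eq_of_le_of_card_ge (Subgroup.zpowers_le.2 hg'.1) (by rw [hc, hY.2])
      exact e1.symm.trans e2
    have hcover : R A = 𝒳.biUnion R := by
      ext g
      simp only [R, Finset.mem_filter, Finset.mem_univ, true_and, Finset.mem_biUnion, 𝒳]
      constructor
      · rintro ⟨hg, hg1⟩
        exact ⟨Subgroup.zpowers g, ⟨Subgroup.zpowers_le.2 hg, by
          rw [Nat.card_zpowers]; exact orderOf_eq_prime (hAe.2 g hg) hg1⟩, Subgroup.mem_zpowers g, hg1⟩
      · rintro ⟨X, hX, hg, hg1⟩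
        exact ⟨hX.1 hg, hg1⟩
    have hRcard : ∀ X : Subgroup P, (R X).card + 1 = Nat.card X := fun X => by
      rw [Nat.card_eq_fintype_card, Fintype.card_subtype, show R X = (Finset.univ.filter (fun g : P => g ∈ X)).erase 1 by
        ext g; simp [R, and_comm]]
      exact Finset.card_erase_add_one (by simp [X.one_mem])
    have hcard : 𝒳.card = p + 1 := by
      have e : (R A).card = 𝒳.card * (p - 1) := by
        rw [hcover, Finset.card_biUnion hdisj, Finset.sum_const_nat fun X hX => ?_]
        have := hRcard X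
        simp only [𝒳, Finset.mem_filter] at hX
        rw [hX.2.2] at this
        omega
      have e2 := hRcard A
      rw [e, hAc] at e2
      obtain ⟨k, hk⟩ : ∃ k, p = k + 2 := ⟨p - 2, by have := hp.two_le; omega⟩
      rw [hk, show k + 2 - 1 = k + 1 by omega] at e2
      rw [hk]
      refine Nat.eq_of_mul_eq_mul_right (show 0 < k + 1 by omega) (Nat.succ_injective ?_)
      show 𝒳.card * (k + 1) + 1 = (k + 2 + 1) * (k + 1) + 1
      rw [e2]; ring
    have hid : ∀ a : E, ∑ X ∈ 𝒳, N X a = p • a + N A a := by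
      intro a
      have hone : ∀ X : Subgroup P, N X a = a + ∑ x ∈ R X, x • a := by
        intro X
        show ∑ x : X, (x : P) • a = _
        rw [← Finset.sum_subtype (Finset.univ.filter (fun g : P => g ∈ X)) (fun g => by simp) (fun g => g • a),
          ← Finset.add_sum_erase _ _ (show (1 : P) ∈ Finset.univ.filter (fun g : P => g ∈ X) by simp [X.one_mem]), one_smul]
        congr 1
        refine Finset.sum_congr ?_ fun _ _ => rfl
        ext g; simp [R, and_comm]
      rw [Finset.sum_congr rfl fun X _ => hone X, Finset.sum_add_distrib, Finset.sum_const, hcard, hone A,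
        hcover, Finset.sum_biUnion hdisj, succ_nsmul, add_assoc]
    have hNA : ∀ a, N A a = 0 := fun a => hA0 _ (hNfix A a)
    -- nonzero components different from a given one
    have hex : ∀ Y ∈ 𝒳, ∃ X ∈ 𝒳, X ≠ Y ∧ ∃ a : E, a ≠ 0 ∧ ∀ x ∈ X, x • a = a := by
      intro Y hY
      by_contra hcon
      push Not at hcon
      have hfixY : ∀ a : E, ∀ y ∈ Y, y • a = a := by
        intro a y hy
        have h0 : ∀ X ∈ 𝒳, X ≠ Y → N X a = 0 := fun X hX hne => by
          by_contra h
          obtain ⟨x, hx, hx'⟩ := hcon X hX hne _ h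
          exact hx' (hNfix X a x hx)
        have := hid a
        rw [Finset.sum_eq_single_of_mem Y hY h0, hNA, add_zero] at this
        have e := hNfix Y a y hy
        rw [this, smul_comm] at e
        exact sub_eq_zero.1 (hpinj _ (by rw [nsmul_sub, e, sub_self]))
      simp only [𝒳, Finset.mem_filter] at hY
      have hbot : Y = ⊥ := (Subgroup.eq_bot_iff_forall Y).2 fun y hy => hfix_all y fun a => hfixY a y hy
      rw [hbot, Subgroup.card_bot] at hY
      exact hp.ne_one hY.2.2.symm
    obtain ⟨g₀, hg₀, hg₀1⟩ := A.bot_or_exists_ne_one.resolve_left (fun h => by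
      rw [h, Subgroup.card_bot] at hAc
      exact absurd hAc.symm (Nat.one_lt_pow two_ne_zero hp.one_lt).ne')
    obtain ⟨X, hX, -⟩ := hex (Subgroup.zpowers g₀) (by
      simp only [𝒳, Finset.mem_filter, Finset.mem_univ, true_and]
      exact ⟨Subgroup.zpowers_le.2 hg₀, by rw [Nat.card_zpowers]; exact orderOf_eq_prime (hAe.2 g₀ hg₀) hg₀1⟩)
    obtain ⟨X₁, hX₁, -, a, ha, hfa⟩ := hex X hX
    obtain ⟨Y, hY, hne, b, hb, hfb⟩ := hex X₁ hX₁
    have hab : a + b ≠ 0 := fun h => ha (hgen X₁ hX₁ Y hY hne.symm a hfa fun y hy => by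
      rw [eq_neg_of_add_eq_zero_left h, smul_neg, hfb y hy])
    have hmap : ∀ (g : P), ∀ Z ∈ 𝒳, Z.map (MulAut.conj g).toMonoidHom ∈ 𝒳 := fun g Z hZ => by
      simp only [𝒳, Finset.mem_filter, Finset.mem_univ, true_and] at hZ ⊢
      exact ⟨hAmap g ▸ Subgroup.map_mono hZ.1, by rw [Subgroup.card_map_of_injective (MulAut.conj g).injective, hZ.2]⟩
    have hconjfix : ∀ (g : P) (Z : Subgroup P) (c : E), (∀ z ∈ Z, z • c = c) →
        ∀ z ∈ Z.map (MulAut.conj g).toMonoidHom, z • g • c = g • c := by
      rintro g Z c hc _ ⟨z, hz, rfl⟩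
      rw [MulEquiv.coe_toMonoidHom, MulAut.conj_apply, smul_smul, inv_mul_cancel_right, mul_smul, hc z hz]
    have hcardX : ∀ Z ∈ 𝒳, Nat.card Z = p := fun Z hZ => by
      simp only [𝒳, Finset.mem_filter] at hZ; exact hZ.2.2
    -- a component of g (a + b)
    have hcomp : ∀ X ∈ 𝒳, ∀ Y ∈ 𝒳, X ≠ Y → ∀ a b : E, (∀ x ∈ X, x • a = a) → (∀ y ∈ Y, y • b = b) → a ≠ 0 →
        ∀ g : P, g • (a + b) = a + b →
        (X.map (MulAut.conj g).toMonoidHom = X ∧ g • a = a ∧ g • b = b) ∨
          (X.map (MulAut.conj g).toMonoidHom ≠ X ∧ Y.map (MulAut.conj g).toMonoidHom = X) := by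
      intro X hX Y hY hne a b hfa hfb ha g hg
      have e := congrArg (N X) hg
      rw [smul_add, hNadd, hNadd, hNN X hX Y hY hne b hfb, add_zero, hNself X a hfa, hcardX X hX] at e
      by_cases h1 : X.map (MulAut.conj g).toMonoidHom = X
      · left
        have hfga : ∀ x ∈ X, x • g • a = g • a := fun x hx => hconjfix g X a hfa x (h1.symm ▸ hx)
        have hYX : Y.map (MulAut.conj g).toMonoidHom ≠ X := fun h =>
          hne (Subgroup.map_injective (MulAut.conj g).injective (h1.trans h.symm))
        rw [hNself X _ hfga, hcardX X hX, hNN X hX _ (hmap g Y hY) hYX.symm _ (hconjfix g Y b hfb), add_zero] at e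
        have hga : g • a = a := sub_eq_zero.1 (hpinj _ (by rw [nsmul_sub, e, sub_self]))
        refine ⟨h1, hga, ?_⟩
        rw [smul_add, hga] at hg
        exact add_left_cancel hg
      · refine Or.inr ⟨h1, ?_⟩
        by_contra h2
        rw [hNN X hX _ (hmap g X hX) (Ne.symm h1) _ (hconjfix g X a hfa),
          hNN X hX _ (hmap g Y hY) (Ne.symm h2) _ (hconjfix g Y b hfb), add_zero] at e
        exact ha (hpinj a e.symm)
    have hle : St (a + b) ≤ St a ⊓ St b := by
      intro g hg
      rcases hcomp X₁ hX₁ Y hY hne.symm a b hfa hfb ha g hg with ⟨-, h1, h2⟩ | ⟨h1, h2⟩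
      · exact ⟨h1, h2⟩
      exfalso
      rcases hcomp Y hY X₁ hX₁ hne b a hfb hfa hb g (by rw [add_comm b a]; exact hg) with ⟨h3, -, -⟩ | ⟨-, h4⟩
      · exact hne (h3.symm.trans h2)
      -- g swaps X₁ and Y, but has odd order
      have hsw : ∀ k : ℕ, X₁.map (MulAut.conj (g ^ k)).toMonoidHom = if Even k then X₁ else Y := by
        intro k
        induction k with
        | zero => ext z; simp
        | succ k ih =>
          have : (MulAut.conj (g ^ (k + 1))).toMonoidHom =
              (MulAut.conj g).toMonoidHom.comp (MulAut.conj (g ^ k)).toMonoidHom := by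
            ext z; simp [pow_succ', mul_assoc]
          rw [this, ← Subgroup.map_map, ih]
          by_cases hk : Even k
          · rw [if_pos hk, if_neg (by simp [Nat.even_add_one, hk]), h4]
          · rw [if_neg hk, if_pos (by simp [Nat.even_add_one, hk]), h2]
      have hodd : ¬ Even (orderOf g) := by
        obtain ⟨k, hk⟩ := IsPGroup.iff_orderOf.1 hP g
        rw [hk, Nat.even_pow]
        exact fun h => hp2 ((hp.even_iff).1 h.1)
      have := hsw (orderOf g)
      rw [pow_orderOf_eq_one, if_neg hodd] at this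
      refine hne (this.symm.trans ?_)
      ext z; simp
    have hSt := heq a b ha hb hab hle
    exact ha (hgen X₁ hX₁ Y hY hne.symm a hfa fun y hy => (show y ∈ St a from hSt ▸ (hfb y hy : y ∈ St b)))
  refine ⟨hcyc, fun g hg a hga => ?_⟩
  by_contra ha
  have hs : St a ≠ ⊥ := fun h => hg (Subgroup.mem_bot.1 (h ▸ (hga : g ∈ St a)))
  obtain ⟨u, hu⟩ : ∃ u : P, orderOf u = p ∧ u ∈ St a := by
    have hdiv : p ∣ Nat.card (St a) := by
      obtain ⟨k, hk⟩ := IsPGroup.iff_card.1 (hP.to_subgroup (St a))
      rcases k with _ | k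
      · exact absurd (Subgroup.card_eq_one.1 (by simpa using hk)) hs
      · exact hk ▸ dvd_pow_self p k.succ_ne_zero
    obtain ⟨u, hu⟩ := exists_prime_orderOf_dvd_card' p hdiv
    exact ⟨u, by rw [Subgroup.orderOf_coe, hu], u.2⟩
  refine absurd (hfix_all u fun b => ?_) (fun h => hp.ne_one (hu.1 ▸ h ▸ orderOf_one))
  by_cases hb : b = 0
  · rw [hb, smul_zero]
  have hdiv : p ∣ Nat.card (St b) := by
    rw [show Nat.card (St b) = Nat.card (St a) from hconst b a hb ha]
    exact hu.1 ▸ Subgroup.orderOf_mk u hu.2 ▸ orderOf_dvd_natCard (⟨u, hu.2⟩ : St a)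
  obtain ⟨v, hv⟩ := exists_prime_orderOf_dvd_card' p hdiv
  have hz : Subgroup.zpowers (v : P) = Subgroup.zpowers u := by
    have hv' : orderOf (v : P) = p := by rw [Subgroup.orderOf_coe, hv]
    refine Subgroup.eq_of_le_of_card_ge (Subgroup.zpowers_le.2 ?_) (by rw [Nat.card_zpowers, Nat.card_zpowers, hv', hu.1])
    by_contra hvu
    have hsub : insert (v : P) ((Finset.univ : Finset P).filter (· ∈ Subgroup.zpowers u)) ⊆ Finset.univ.filter (fun x : P => x ^ p = 1) := by
      intro x hx
      rw [Finset.mem_filter]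
      refine ⟨Finset.mem_univ _, ?_⟩
      rcases Finset.mem_insert.1 hx with rfl | hx
      · exact hv' ▸ pow_orderOf_eq_one _
      · obtain ⟨k, rfl⟩ := (Finset.mem_filter.1 hx).2
        show (u ^ k) ^ p = 1
        rw [← zpow_natCast, ← zpow_mul, mul_comm, zpow_mul, zpow_natCast, (hu.1 ▸ pow_orderOf_eq_one u : u ^ p = 1), one_zpow]
    have h1 := (Finset.card_le_card hsub).trans (IsCyclic.card_pow_eq_one_le hp.pos)
    rw [Finset.card_insert_of_notMem (by simpa using hvu), ← Fintype.card_subtype, ← Nat.card_eq_fintype_card] at h1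
    have h2 : Nat.card {x : P // x ∈ Subgroup.zpowers u} = p := (Nat.card_zpowers u).trans hu.1
    omega
  exact (show Subgroup.zpowers (v : P) ≤ St b from Subgroup.zpowers_le.2 v.2) (hz ▸ Subgroup.mem_zpowers u)

end Cfsg.Agent.S1160
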