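import Cfsg.Statements.S1215
import Cfsg.Agent.Lib.Fusion.CentralIsolated

set_option autoImplicit false
open Cfsg
open Cfsg.Agent.Fusion
open scoped commutatorElement

namespace Cfsg.Agent.S1215

/-- Let H be a finite group with quasi-dihedral or wreathed Sylow 2-subgroup S such that H has a normal subgroup K of index a power of 2 with no subgroup of index 2 and with generalized quaternion Sylow 2-subgroups, and such that every subgroup of Z(S) is weakly closed in S with respect to H. Then H = O(H) C_H(Z(S)): every element of H is the product of an element of the largest normal odd-order subgroup and an element centralizing Z(S). -/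
theorem result {H : Type*} [Group H] [Finite H] (S : Sylow 2 H) (hS : Cfsg.IsQuasiDihedral (S : Subgroup H) ∨ Cfsg.IsWreathed (S : Subgroup H)) (hQ : (∃ K : Subgroup H, K.Normal ∧ (∃ a : ℕ, K.index = 2 ^ a) ∧ (∀ M : Subgroup ↥K, M.index ≠ 2) ∧ (∀ P : Sylow 2 ↥K, ∃ m : ℕ, 1 ≤ m ∧ Nonempty ((P : Subgroup ↥K) ≃* QuaternionGroup (2 ^ m)))) ∧ (∀ Z₀ : Subgroup H, Z₀ ≤ ((Subgroup.center (S : Subgroup H)).map (S : Subgroup H).subtype) → Cfsg.IsWeaklyClosed Z₀ (S : Subgroup H))) (h : H) : ∃ o ∈ Cfsg.oddCore H, ∃ c ∈ Subgroup.centralizer (((Subgroup.center (S : Subgroup H)).map (S : Subgroup H).subtype : Subgroup H) : Set H), h = o * c := by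
  haveI : Fact (Nat.Prime 2) := ⟨Nat.prime_two⟩
  set Z : Subgroup H := (Subgroup.center (S : Subgroup H)).map (S : Subgroup H).subtype with hZ
  have hZS : Z ≤ (S : Subgroup H) := Subgroup.map_subtype_le _
  have hcen : ∀ y ∈ Z, ∀ s ∈ (S : Subgroup H), s * y = y * s := by
    rintro _ ⟨y, hy, rfl⟩ s hs
    exact congrArg Subtype.val (Subgroup.mem_center_iff.mp hy ⟨s, hs⟩)
  have hkey : ∀ z ∈ Z, ∀ g : H, z * g * z⁻¹ * g⁻¹ ∈ Cfsg.oddCore H := by
    intro z hz
    refine Char.isolatedElt_central (hZS hz) fun y hy g hg => ?_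
    have hyZ : y ∈ Z := Subgroup.zpowers_le.mpr hz hy
    have hW := hQ.2 (Subgroup.zpowers y) (Subgroup.zpowers_le.mpr hyZ)
    have hm : (Subgroup.zpowers y).map (MulAut.conj g).toMonoidHom ≤ (S : Subgroup H) := by
      rw [MonoidHom.map_zpowers, Subgroup.zpowers_le]
      exact hg
    have h1 : g * y * g⁻¹ ∈ Subgroup.zpowers y := by
      rw [← hW.2 g hm]
      exact ⟨y, Subgroup.mem_zpowers y, rfl⟩
    exact Fusion.eq_of_conj_mem_zpowers S (hZS hyZ) (hcen y hyZ) h1
  exact Fusion.exists_core_mul_centralizer (S.isPGroup'.to_le hZS)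
    (fun a ha b hb => hcen b hb a (hZS ha)) hkey h

end Cfsg.Agent.S1215
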