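import Cfsg.Statements.S3742

set_option autoImplicit false
set_option linter.style.haveILetI false
open Cfsg

open scoped Pointwise commutatorElement

namespace Cfsg.Agent.S3742

/-- The images of the two standard generators under the automorphism attached to a permutation. -/
def tbl : Fin 4 → Fin 4 → Fin 4 → QuaternionGroup 2 × QuaternionGroup 2
  | 0, 1, 2 => (QuaternionGroup.a 1, QuaternionGroup.xa 0)
  | 0, 1, 3 => (QuaternionGroup.a 3, QuaternionGroup.xa 3)
  | 0, 2, 1 => (QuaternionGroup.xa 3, QuaternionGroup.xa 2)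
  | 0, 2, 3 => (QuaternionGroup.xa 1, QuaternionGroup.a 1)
  | 0, 3, 1 => (QuaternionGroup.xa 0, QuaternionGroup.xa 1)
  | 0, 3, 2 => (QuaternionGroup.xa 2, QuaternionGroup.a 3)
  | 1, 0, 2 => (QuaternionGroup.a 3, QuaternionGroup.xa 1)
  | 1, 0, 3 => (QuaternionGroup.a 1, QuaternionGroup.xa 2)
  | 1, 2, 0 => (QuaternionGroup.xa 2, QuaternionGroup.xa 3)
  | 1, 2, 3 => (QuaternionGroup.xa 0, QuaternionGroup.a 3)
  | 1, 3, 0 => (QuaternionGroup.xa 1, QuaternionGroup.xa 0)
  | 1, 3, 2 => (QuaternionGroup.xa 3, QuaternionGroup.a 1)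
  | 2, 0, 1 => (QuaternionGroup.xa 1, QuaternionGroup.a 3)
  | 2, 0, 3 => (QuaternionGroup.xa 3, QuaternionGroup.xa 0)
  | 2, 1, 0 => (QuaternionGroup.xa 0, QuaternionGroup.a 1)
  | 2, 1, 3 => (QuaternionGroup.xa 2, QuaternionGroup.xa 1)
  | 2, 3, 0 => (QuaternionGroup.a 3, QuaternionGroup.xa 2)
  | 2, 3, 1 => (QuaternionGroup.a 1, QuaternionGroup.xa 3)
  | 3, 0, 1 => (QuaternionGroup.xa 2, QuaternionGroup.a 1)
  | 3, 0, 2 => (QuaternionGroup.xa 0, QuaternionGroup.xa 3)
  | 3, 1, 0 => (QuaternionGroup.xa 3, QuaternionGroup.a 3)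
  | 3, 1, 2 => (QuaternionGroup.xa 1, QuaternionGroup.xa 2)
  | 3, 2, 0 => (QuaternionGroup.a 1, QuaternionGroup.xa 1)
  | 3, 2, 1 => (QuaternionGroup.a 3, QuaternionGroup.xa 0)
  | _, _, _ => (1, 1)

/-- The images attached to a permutation. -/
def img (σ : Equiv.Perm (Fin 4)) : QuaternionGroup 2 × QuaternionGroup 2 := tbl (σ 0) (σ 1) (σ 2)

/-- Evaluation of the endomorphism with given images of the generators. -/
def ev (w : QuaternionGroup 2 × QuaternionGroup 2) : QuaternionGroup 2 → QuaternionGroup 2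
  | .a i => w.1 ^ i.val
  | .xa i => w.2 * w.1 ^ i.val

theorem ev_mul : ∀ σ : Equiv.Perm (Fin 4), ∀ x y : QuaternionGroup 2,
    ev (img σ) (x * y) = ev (img σ) x * ev (img σ) y := by decide +kernel

theorem ev_comp : ∀ σ τ : Equiv.Perm (Fin 4), ∀ x : QuaternionGroup 2,
    ev (img σ) (ev (img τ) x) = ev (img (σ * τ)) x := by decide +kernel

theorem ev_one : ∀ x : QuaternionGroup 2, ev (img 1) x = x := by decide +kernel

theorem img_inj : ∀ σ τ : Equiv.Perm (Fin 4), img σ = img τ → σ = τ := by decide +kernel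

theorem ev_gen : ∀ σ : Equiv.Perm (Fin 4),
    ev (img σ) (QuaternionGroup.a 1) = (img σ).1 ∧ ev (img σ) (QuaternionGroup.xa 0) = (img σ).2 := by
  decide +kernel

theorem img_surj : ∀ u v : QuaternionGroup 2, (∀ x y : QuaternionGroup 2,
    ev (u, v) (x * y) = ev (u, v) x * ev (u, v) y ∧ (ev (u, v) x = ev (u, v) y → x = y)) →
    ∃ σ, img σ = (u, v) := by decide +kernel

theorem ev_of_hom (α : MulAut (QuaternionGroup 2)) (x : QuaternionGroup 2) :
    ev (α (QuaternionGroup.a 1), α (QuaternionGroup.xa 0)) x = α x := by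
  have h : ∀ x : QuaternionGroup 2,
      ev (QuaternionGroup.a 1, QuaternionGroup.xa 0) x = x := by decide +kernel
  refine Eq.trans ?_ (congrArg α (h x))
  cases x with
  | a i => exact (map_pow α _ _).symm
  | xa i => exact ((map_mul α _ _).trans (congrArg _ (map_pow α _ _))).symm

/-- The automorphism group of the quaternion group of order 8 is isomorphic to the symmetric group of degree 4. -/
theorem result : Nonempty (MulAut (QuaternionGroup 2) ≃* Equiv.Perm (Fin 4)) := by
  let φ : Equiv.Perm (Fin 4) →* MulAut (QuaternionGroup 2) :=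
    MonoidHom.mk' (fun σ =>
      { toFun := ev (img σ)
        invFun := ev (img σ⁻¹)
        left_inv := fun x => by rw [ev_comp, inv_mul_cancel, ev_one]
        right_inv := fun x => by rw [ev_comp, mul_inv_cancel, ev_one]
        map_mul' := ev_mul σ }) fun σ τ => MulEquiv.ext fun x => (ev_comp σ τ x).symm
  refine ⟨(MulEquiv.ofBijective φ ⟨fun σ τ h => img_inj σ τ ?_, fun α => ?_⟩).symm⟩
  · have h1 : ev (img σ) (QuaternionGroup.a 1) = ev (img τ) (QuaternionGroup.a 1) :=
      DFunLike.congr_fun h (QuaternionGroup.a 1)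
    have h2 : ev (img σ) (QuaternionGroup.xa 0) = ev (img τ) (QuaternionGroup.xa 0) :=
      DFunLike.congr_fun h (QuaternionGroup.xa 0)
    rw [(ev_gen σ).1, (ev_gen τ).1] at h1
    rw [(ev_gen σ).2, (ev_gen τ).2] at h2
    exact Prod.ext h1 h2
  · obtain ⟨σ, hσ⟩ := img_surj (α (QuaternionGroup.a 1)) (α (QuaternionGroup.xa 0)) fun x y => by
      simp only [ev_of_hom]
      exact ⟨map_mul α x y, fun h => α.injective h⟩
    refine ⟨σ, MulEquiv.ext fun x => ?_⟩
    show ev (img σ) x = α x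
    rw [hσ]
    exact ev_of_hom α x

end Cfsg.Agent.S3742
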