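import Cfsg.Statements.S0516
import Cfsg.Agent.Lib.Local.FS.RankTwo.Central
import Cfsg.Agent.Lib.Char.ZStar
import Cfsg.Agent.Lib.Char.HomocyclicSylow
import Cfsg.Agent.S0225
import Cfsg.Agent.S0205

set_option autoImplicit false
open Cfsg

namespace Cfsg.Agent.S0516

/-- In a non-abelian finite simple group of 2-rank at most 2, a Sylow 2-subgroup is dihedral (of order at least 4),
quasi-dihedral, wreathed, or isomorphic to a Sylow 2-subgroup of the projective special unitary group of dimension 3
over the field with 16 elements. -/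
theorem result {G : Type*} [Group G] [Finite G] [IsSimpleGroup G]
    (hG : ¬ IsMulCommutative G) (h2 : Cfsg.PRankLE 2 2 G) (S : Sylow 2 G) {F : Type*} [Field F] [Fintype F]
    (hF : Fintype.card F = 16) (P : Sylow 2 (Cfsg.PSU 3 F 4)) :
    (∃ n : ℕ, 2 ≤ n ∧ Nonempty ((S : Subgroup G) ≃* DihedralGroup n)) ∨ Cfsg.IsQuasiDihedral (S : Subgroup G) ∨
      Cfsg.IsWreathed (S : Subgroup G) ∨ Nonempty ((S : Subgroup G) ≃* (P : Subgroup (Cfsg.PSU 3 F 4))) := by
  haveI : Fact (Nat.Prime 2) := ⟨Nat.prime_two⟩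
  have hns : ¬ Group.IsSolvable G := by
    intro hsol
    refine hG ⟨⟨fun a b => ?_⟩⟩
    exact IsSimpleGroup.comm_iff_isSolvable.2 hsol a b
  have hO : Cfsg.oddCore G = ⊥ := by
    refine (Subgroup.Normal.eq_bot_or_eq_top (inferInstance : (Cfsg.oddCore G).Normal)).resolve_right fun h => hns ?_
    refine Cfsg.Agent.S0205.result ?_
    have := Cfsg.Agent.Char.card_oddCore_odd G
    rwa [h, Subgroup.card_top] at this
  have hnc : ∀ z : G, orderOf z = 2 → (∀ g : G, z * g = g * z) → False := by
    intro z hz hzc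
    refine hG ?_
    rcases (Subgroup.center G).normal_of_characteristic.eq_bot_or_eq_top with h | h
    · have : z ∈ (⊥ : Subgroup G) := h ▸ Subgroup.mem_center_iff.2 fun g => (hzc g).symm
      rw [Subgroup.mem_bot] at this
      rw [this, orderOf_one] at hz
      norm_num at hz
    · exact ⟨⟨fun a b => Subgroup.mem_center_iff.1 (h ▸ Subgroup.mem_top b) a⟩⟩
  have hiso : ∀ z : G, ¬ Cfsg.IsIsolatedInvolution z := by
    intro z hz
    refine hnc z hz.1 fun g => ?_
    have := Cfsg.Agent.Char.zStar_isolated hz g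
    rw [hO, Subgroup.mem_bot] at this
    exact commutatorElement_eq_one_iff_mul_comm.1 this
  have heven : Even (Nat.card G) := by
    by_contra h
    exact hns (Cfsg.Agent.S0205.result (Nat.not_even_iff_odd.1 h))
  have h1 : ¬ Cfsg.PRankLE 2 1 G := by
    intro h
    obtain ⟨z, hz, N, hN, hodd, hzN⟩ := Cfsg.Agent.S0225.result heven fun E hE => by
      have h4 := h E ⟨⟨fun a b => mul_comm_of_exponent_two hE.exponent_two a b⟩⟩ fun a ha => by
        have := Monoid.pow_exponent_eq_one (⟨a, ha⟩ : E)
        rw [hE.exponent_two] at this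
        exact congrArg Subtype.val this
      rw [hE.card_four] at h4
      norm_num at h4
    refine hnc z hz fun g => ?_
    have hNb : N = ⊥ := (Subgroup.Normal.eq_bot_or_eq_top hN).resolve_right fun h' => hns
      (Cfsg.Agent.S0205.result (by rwa [h', Subgroup.card_top] at hodd))
    have := hzN g
    rw [hNb, Subgroup.mem_bot] at this
    exact commutatorElement_eq_one_iff_mul_comm.1 this
  obtain ⟨hctx, hS1⟩ := Cfsg.Agent.FSRankTwo.group_ctx S h2 h1
  rcases Cfsg.Agent.FSRankTwo.shapes hctx (Cfsg.Agent.FSRankTwo.moves_of_fusion_simple S hiso) hS1 hF P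
    with h | h | h | ⟨n, hn, ⟨e⟩⟩ | h
  · exact Or.inl h
  · exact Or.inr (Or.inl h)
  · exact Or.inr (Or.inr (Or.inl h))
  · exfalso
    haveI : NeZero (2 ^ n) := ⟨pow_ne_zero n two_ne_zero⟩
    letI : Fintype G := Fintype.ofFinite G
    have hO' : ∀ K : Subgroup G, K.Normal → Odd (Nat.card K) → K = ⊥ := fun K hK hodd =>
      (Subgroup.Normal.eq_bot_or_eq_top hK).resolve_right fun h' => hns
        (Cfsg.Agent.S0205.result (by rwa [h', Subgroup.card_top] at hodd))
    obtain ⟨hN, -, -⟩ := Cfsg.Agent.Char.homocyclic_sylow_two S ((S : Subgroup G).subtype.comp e.symm.toMonoidHom)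
      ⟨2 ^ (n - 2), by rw [show (4 : ℕ) = 2 ^ 2 by norm_num, ← pow_add, Nat.add_sub_cancel' hn]⟩ ⟨n, rfl⟩
      ((Subgroup.subtype_injective _).comp e.symm.injective)
      (by rw [MonoidHom.range_comp, MonoidHom.range_eq_top_of_surjective _ e.symm.surjective, ← MonoidHom.range_eq_map,
        Subgroup.range_subtype]) hO'
    rcases Subgroup.Normal.eq_bot_or_eq_top hN with h' | h'
    · refine hS1 fun A _ _ => ?_
      haveI : Subsingleton ↥(S : Subgroup G) := by rw [h']; infer_instance
      rw [Subgroup.card_eq_one.2 (Subsingleton.elim A ⊥)]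
      norm_num
    · refine hns ?_
      haveI : Group.IsNilpotent ↥(S : Subgroup G) := S.2.isNilpotent
      haveI : Group.IsSolvable ↥(S : Subgroup G) := inferInstance
      exact Group.isSolvable_of_surjective (f := (S : Subgroup G).subtype) fun g => ⟨⟨g, h' ▸ Subgroup.mem_top g⟩, rfl⟩
  · exact Or.inr (Or.inr (Or.inr h))

end Cfsg.Agent.S0516
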