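import Cfsg.Statements.S1201
import Cfsg.Agent.Lib.Fusion.WreathedSub
import Cfsg.Agent.Lib.Local.ElemAb

set_option autoImplicit false
open Cfsg Cfsg.Agent
open Cfsg.Agent.Fusion
open scoped commutatorElement

namespace Cfsg.Agent.S1201

/-- If X is a non-commutative subgroup of a wreathed 2-group S, then Z(X) ≤ Z(S). -/
theorem result {S : Type*} [Group S] [Finite S] (hS : Cfsg.IsWreathed S) (X : Subgroup S) (hX : ¬ IsMulCommutative X) : (Subgroup.center X).map X.subtype ≤ Subgroup.center S := by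
  obtain ⟨n, ⟨D⟩⟩ := exists_wrData' hS
  rintro _ ⟨c, hc, rfl⟩
  have hcx : ∀ s ∈ X, s * (c : S) = c * s := fun s hs =>
    congrArg Subtype.val (Subgroup.mem_center_iff.1 hc ⟨s, hs⟩)
  obtain ⟨s, hs, hsA⟩ : ∃ s ∈ X, s ∉ D.A := SetLike.not_le_iff_exists.1 fun hle =>
    hX ⟨⟨fun a b => Subtype.ext (D.A_comm (hle a.2) (hle b.2))⟩⟩
  obtain ⟨i, j, rfl | rfl⟩ := D.exists_form s
  · exact absurd (D.el_mem _ _) hsA
  obtain ⟨k, l, hkl | hkl⟩ := D.exists_form (c : S)
  · have h1 : Commute (D.el k l) (D.el i j * D.t) := hkl ▸ (hcx _ hs).symm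
    rw [D.commute_out_el] at h1
    show (c : S) ∈ Subgroup.center S
    rw [hkl, show D.el k l = D.el k k from (D.el_eq_iff _ _ _ _).2 ⟨by simp, by
      rw [dvd_sub_comm]; exact h1⟩]
    exact D.diag_central k
  · exfalso
    have key : ∀ a ∈ X, ∃ p q : ℤ, a = D.el p q * (c : S) ^ (0 : ℕ) ∧ D.N ∣ p - q ∨
        a = D.el p q * (c : S) ∧ D.N ∣ p - q := by
      intro a ha
      obtain ⟨p, q, rfl | rfl⟩ := D.exists_form a
      · refine ⟨p, q, Or.inl ⟨by simp, ?_⟩⟩
        exact (D.commute_out_el k l p q).1 (hkl ▸ hcx _ ha)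
      · refine ⟨p - k, q - l, Or.inr ⟨by rw [hkl, ← mul_assoc, D.el_mul]; ring_nf, ?_⟩⟩
        have h1 : Commute (D.el (p - k) (q - l)) (D.el k l * D.t) := by
          have h2 : Commute (D.el p q * D.t) (D.el k l * D.t) := hkl ▸ hcx _ ha
          have h3 := h2.mul_left ((Commute.refl (D.el k l * D.t)).inv_left)
          rwa [show D.el p q * D.t * (D.el k l * D.t)⁻¹ = D.el p q * (D.el k l)⁻¹ by group, D.el_inv,
            D.el_mul, ← sub_eq_add_neg, ← sub_eq_add_neg] at h3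
        exact (D.commute_out_el k l _ _).1 h1
    refine hX ⟨⟨fun a b => Subtype.ext ?_⟩⟩
    show (a : S) * b = b * a
    have hz : ∀ p q : ℤ, D.N ∣ p - q → ∀ s : S, Commute (D.el p q) s := fun p q hpq s => by
      rw [show D.el p q = D.el p p from (D.el_eq_iff _ _ _ _).2 ⟨by simp, by rw [dvd_sub_comm]; exact hpq⟩]
      exact (Subgroup.mem_center_iff.1 (D.diag_central p) s).symm
    obtain ⟨p, q, ⟨ha, hpq⟩ | ⟨ha, hpq⟩⟩ := key a a.2
    · rw [ha, pow_zero, mul_one]; exact (hz p q hpq _).eq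
    · obtain ⟨p', q', ⟨hb, hpq'⟩ | ⟨hb, hpq'⟩⟩ := key b b.2
      · rw [hb, pow_zero, mul_one]; exact (hz p' q' hpq' _).eq.symm
      · rw [ha, hb]
        exact (((hz p q hpq _).mul_left (((hz p' q' hpq' (c : S)).symm).mul_right (Commute.refl _)))).eq

end Cfsg.Agent.S1201
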