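import Cfsg.Statements.S0811
import Cfsg.Agent.Lib.Classical.Dickson.SubfieldMax
import Cfsg.Agent.Lib.Classical.Dickson.Orders

set_option autoImplicit false
open Cfsg

namespace Cfsg.Agent.S0811

/-- For q ∉ {2, 7, 9}, PSL_2(q) has a maximal subgroup isomorphic to the dihedral group of order 2(q + 1)/d, d = gcd(2, q − 1). -/
theorem result {F : Type*} [Field F] [Fintype F] {q : ℕ} (hF : Fintype.card F = q) (hq : q ∉ ({2, 7, 9} : Finset ℕ)) : ∃ H : Subgroup (Matrix.ProjectiveSpecialLinearGroup (Fin 2) F), IsCoatom H ∧ Nonempty (H ≃* DihedralGroup ((q + 1) / Nat.gcd 2 (q - 1))) := by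
  classical
  have hq2 : q ≠ 2 ∧ q ≠ 7 ∧ q ≠ 9 := by simpa using hq
  have h1 : 2 ≤ q := hF ▸ Fintype.one_lt_card
  have h3 : 3 ≤ q := by omega
  obtain ⟨H, hcH, ⟨e⟩⟩ := Cfsg.Agent.Classical.Dickson.exists_dihedral_plus (F := F) (by omega)
  have hP := Cfsg.Agent.Classical.Dickson.card_P2 (F := F)
  rw [hF] at hcH hP
  revert e
  rw [hF]
  intro e
  obtain ⟨d, hd⟩ : ∃ d, Nat.gcd 2 (q - 1) = d := ⟨_, rfl⟩
  rw [hd] at hcH e hP ⊢
  have hdd : d ∣ q + 1 := by
    have h : d ∣ q - 1 := hd ▸ Nat.gcd_dvd_right _ _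
    have h' : d ∣ 2 := hd ▸ Nat.gcd_dvd_left _ _
    have := dvd_add h h'
    rwa [show q - 1 + 2 = q + 1 by omega] at this
  have hd2 : d = 1 ∨ d = 2 := (Nat.dvd_prime Nat.prime_two).mp (hd ▸ Nat.gcd_dvd_left _ _)
  have hd0 : 0 < d := by omega
  have hHd : Nat.card H * d = 2 * (q + 1) := by rw [hcH, mul_assoc, Nat.div_mul_cancel hdd]
  have hco : (q + 1).Coprime q := by simp
  refine ⟨H, ⟨fun h => ?_, fun M hM => ?_⟩, ⟨e⟩⟩
  · rw [h, Subgroup.card_top, hP, show q ^ 2 - 1 = (q + 1) * (q - 1) from Nat.sq_sub_sq q 1] at hHd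
    have hb : 3 * ((q + 1) * 2) ≤ q * ((q + 1) * (q - 1)) :=
      Nat.mul_le_mul h3 (Nat.mul_le_mul_left _ (by omega))
    omega
  by_contra hne
  have hdvd := Subgroup.card_dvd_of_le hM.le
  have hdvd' : 2 * (q + 1) ∣ Nat.card M * d := hHd ▸ Nat.mul_dvd_mul_right hdvd d
  suffices hle : Nat.card M * d ≤ 2 * (q + 1) by
    exact hM.ne (Subgroup.eq_of_le_of_card_ge hM.le (Nat.le_of_mul_le_mul_right (hHd ▸ hle) hd0))
  have hMP : Nat.card M * d ∣ q * (q ^ 2 - 1) := hP ▸ Nat.mul_dvd_mul_right (Subgroup.card_subgroup_dvd_card M) d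
  have hMtop : Nat.card M * d ≠ q * (q ^ 2 - 1) := fun h => hne (Subgroup.eq_top_of_card_eq _ (by
    rw [← hP] at h; exact Nat.eq_of_mul_eq_mul_right hd0 h))
  have hsmall : (2 : F) ≠ 0 → (Nonempty (M ≃* alternatingGroup (Fin 4)) ∨ Nonempty (M ≃* Equiv.Perm (Fin 4)) ∨
      Nonempty (M ≃* alternatingGroup (Fin 5))) → q = 3 ∨ q = 5 := fun h2 hpoly => by
    have hodd : ¬ 2 ∣ Fintype.card F := Cfsg.Agent.Small.SL2C.not_two_dvd_iff.mpr h2
    rw [hF] at hodd
    obtain rfl : d = 2 := by rw [← hd, ← hF]; exact Cfsg.Agent.Classical.Dickson.two_dvd_pred h2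
    obtain ⟨x, hx⟩ := Cfsg.Agent.Classical.Dickson.exists_orderOf_of_dihedral hM.le e
    have := Cfsg.Agent.Classical.Dickson.orderOf_polyhedral_le hpoly x
    omega
  rcases Cfsg.Agent.Classical.Dickson.cases_on M with
    ⟨k, hk, hc⟩ | ⟨g, hg, -⟩ | ⟨h2, ⟨f⟩⟩ | ⟨h2, ⟨f⟩⟩ | ⟨h2, ⟨f⟩⟩ | ⟨K, m, hm, hKm, hK⟩
  · rcases Cfsg.Agent.Classical.Dickson.card_dvd_torus hk hc with h | h <;> rw [hF, hd] at h
    · exfalso
      have hdd' : d ∣ q - 1 := hd ▸ Nat.gcd_dvd_right _ _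
      have := hdvd'.trans (Nat.mul_dvd_mul_right h d)
      rw [mul_assoc, Nat.div_mul_cancel hdd'] at this
      have := Nat.le_of_dvd (by omega) this
      omega
    · have h' := Nat.mul_dvd_mul_right h d
      rw [mul_assoc, Nat.div_mul_cancel hdd] at h'
      exact Nat.le_of_dvd (by omega) h'
  · exfalso
    have h := Cfsg.Agent.Classical.Dickson.card_dvd_borel hg
    rw [hF, hd] at h
    have h' := hco.dvd_of_dvd_mul_right ((dvd_mul_left _ _).trans (hdvd'.trans h))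
    have := Nat.le_of_dvd (by omega) h'
    omega
  case' inr.inr.inl => 
    have hs := hsmall h2 (Or.inl ⟨f⟩)
    rw [Nat.card_congr f.toEquiv, nat_card_alternatingGroup, Nat.card_fin] at hMP hMtop
    exfalso
    rcases hs with rfl | rfl
    · norm_num [Nat.factorial, hd.symm] at hMP hMtop
    · subst hd
      obtain ⟨φ, hφ⟩ : ∃ φ : DihedralGroup ((5 + 1) / Nat.gcd 2 (5 - 1)) →* alternatingGroup (Fin 4), Function.Injective φ :=
        ⟨f.toMonoidHom.comp ((Subgroup.inclusion hM.le).comp e.symm.toMonoidHom),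
          f.injective.comp ((Subgroup.inclusion_injective hM.le).comp e.symm.injective)⟩
      rcases Cfsg.Agent.Classical.Dickson.no_d3_in_a4 (φ (DihedralGroup.r 1)) (φ (DihedralGroup.sr 0))
        (by rw [← map_pow, show (DihedralGroup.r 1 : DihedralGroup ((5 + 1) / Nat.gcd 2 (5 - 1))) ^ 3 = 1 from by decide, map_one])
        (by rw [← map_mul, show (DihedralGroup.sr 0 : DihedralGroup ((5 + 1) / Nat.gcd 2 (5 - 1))) * DihedralGroup.sr 0 = 1 from by decide, map_one])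
        (by rw [← map_mul, ← map_mul]; exact congrArg φ (by decide)) with h | h <;>
        exact absurd ((map_eq_one_iff φ hφ).mp h) (by decide)
  case' inr.inr.inr.inl => 
    have hs := hsmall h2 (Or.inr (Or.inl ⟨f⟩))
    rw [Nat.card_congr f.toEquiv, Nat.card_perm, Nat.card_fin] at hMP hMtop
    exfalso
    rcases hs with rfl | rfl <;> norm_num [Nat.factorial, hd.symm] at hMP
  case' inr.inr.inr.inr.inl => 
    have hs := hsmall h2 (Or.inr (Or.inr ⟨f⟩))
    rw [Nat.card_congr f.toEquiv, nat_card_alternatingGroup, Nat.card_fin] at hMP hMtop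
    exfalso
    rcases hs with rfl | rfl <;> (revert hMP hMtop; norm_num [Nat.factorial, hd.symm])
  exfalso
  have hm2 := Cfsg.Agent.Classical.Dickson.two_le_degree hne hm hKm (hK.imp (fun h => h.2) fun h => ⟨h.2.2, h.1⟩)
  rw [hF] at hKm
  have hQ : 2 ≤ Nat.card K := Finite.one_lt_card
  have hdvd2 : 2 * (q + 1) ∣ 2 * (Nat.card K * (Nat.card K ^ 2 - 1)) := by
    rcases hK with ⟨-, h⟩ | ⟨h2, -, h⟩
    · rw [← h]
      refine hdvd'.trans ?_
      rcases hd2 with rfl | rfl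
      · rw [mul_one]; exact dvd_mul_left _ _
      · rw [mul_comm]
    · have hd' : d = 2 := by rw [← hd, ← hF]; exact Cfsg.Agent.Classical.Dickson.two_dvd_pred h2
      subst hd'
      rw [← h]
      refine hdvd'.trans ?_
      rw [mul_comm (Nat.card M)]
      exact dvd_mul_left _ _
  have h' : q + 1 ∣ Nat.card K * (Nat.card K ^ 2 - 1) := Nat.dvd_of_mul_dvd_mul_left two_pos hdvd2
  have hQq : Nat.card K ∣ q := hKm ▸ dvd_pow_self _ (by omega)
  have h'' : q + 1 ∣ Nat.card K ^ 2 - 1 := (Nat.Coprime.coprime_dvd_right hQq hco).dvd_of_dvd_mul_left h'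
  have hge : Nat.card K ^ 2 ≤ q := hKm ▸ Nat.pow_le_pow_right (by omega) hm2
  have := Nat.le_of_dvd (by
    have := Nat.pow_le_pow_left hQ 2
    omega) h''
  omega

end Cfsg.Agent.S0811
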