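import Cfsg.Statements.S0812
import Cfsg.Agent.Lib.Classical.Dickson.SubfieldMax
import Cfsg.Agent.Lib.Classical.Dickson.Orders

set_option autoImplicit false
open Cfsg Cfsg.Agent.Small

namespace Cfsg.Agent.S0812

/-- For q ∉ {2, 3, 5, 7, 9, 11}, PSL_2(q) has a maximal subgroup isomorphic to the dihedral group of order 2(q − 1)/d, d = gcd(2, q − 1). -/
theorem result {F : Type*} [Field F] [Fintype F] {q : ℕ} (hF : Fintype.card F = q) (hq : q ∉ ({2, 3, 5, 7, 9, 11} : Finset ℕ)) : ∃ H : Subgroup (Matrix.ProjectiveSpecialLinearGroup (Fin 2) F), IsCoatom H ∧ Nonempty (H ≃* DihedralGroup ((q - 1) / Nat.gcd 2 (q - 1))) := by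
  classical
  have hq2 : q ≠ 2 ∧ q ≠ 3 ∧ q ≠ 5 ∧ q ≠ 7 ∧ q ≠ 9 ∧ q ≠ 11 := by simpa using hq
  have h1 : 2 ≤ q := hF ▸ Fintype.one_lt_card
  have h4 : 4 ≤ q := by omega
  obtain ⟨H, hcH, ⟨e⟩⟩ := Cfsg.Agent.Classical.Dickson.exists_dihedral_minus (F := F) (by omega) (by omega)
  have hP := Cfsg.Agent.Classical.Dickson.card_P2 (F := F)
  rw [hF] at hcH hP
  revert e
  rw [hF]
  intro e
  obtain ⟨d, hd⟩ : ∃ d, Nat.gcd 2 (q - 1) = d := ⟨_, rfl⟩
  rw [hd] at hcH e hP ⊢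
  have hdd : d ∣ q - 1 := hd ▸ Nat.gcd_dvd_right _ _
  have hd2 : d = 1 ∨ d = 2 := (Nat.dvd_prime Nat.prime_two).mp (hd ▸ Nat.gcd_dvd_left _ _)
  have hd0 : 0 < d := by omega
  have hdp : d ∣ q + 1 := by
    have := dvd_add hdd (hd ▸ Nat.gcd_dvd_left _ _ : d ∣ 2)
    rwa [show q - 1 + 2 = q + 1 by omega] at this
  have hHd : Nat.card H * d = 2 * (q - 1) := by rw [hcH, mul_assoc, Nat.div_mul_cancel hdd]
  have hco : (q - 1).Coprime q := by
    have := (Nat.coprime_one_right (q - 1))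
    rwa [← Nat.coprime_add_self_right, show 1 + (q - 1) = q by omega] at this
  refine ⟨H, ⟨fun h => ?_, fun M hM => ?_⟩, ⟨e⟩⟩
  · rw [h, Subgroup.card_top, hP, show q ^ 2 - 1 = (q + 1) * (q - 1) from Nat.sq_sub_sq q 1] at hHd
    have hb : 4 * (5 * (q - 1)) ≤ q * ((q + 1) * (q - 1)) :=
      Nat.mul_le_mul h4 (Nat.mul_le_mul_right _ (by omega))
    omega
  by_contra hne
  have hdvd := Subgroup.card_dvd_of_le hM.le
  have hdvd' : 2 * (q - 1) ∣ Nat.card M * d := hHd ▸ Nat.mul_dvd_mul_right hdvd d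
  suffices hle : Nat.card M * d ≤ 2 * (q - 1) by
    exact hM.ne (Subgroup.eq_of_le_of_card_ge hM.le (Nat.le_of_mul_le_mul_right (hHd ▸ hle) hd0))
  obtain ⟨x, hx⟩ := Cfsg.Agent.Classical.Dickson.exists_orderOf_of_dihedral hM.le e
  have hsmall : (2 : F) ≠ 0 → (Nonempty (M ≃* alternatingGroup (Fin 4)) ∨ Nonempty (M ≃* Equiv.Perm (Fin 4)) ∨
      Nonempty (M ≃* alternatingGroup (Fin 5))) → False := fun h2 hpoly => by
    have hodd : ¬ 2 ∣ Fintype.card F := Cfsg.Agent.Small.SL2C.not_two_dvd_iff.mpr h2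
    rw [hF] at hodd
    have := Cfsg.Agent.Classical.Dickson.orderOf_polyhedral_le hpoly x
    rw [hx] at this
    rcases hd2 with rfl | rfl
    · rw [Nat.div_one] at this; omega
    · omega
  rcases Cfsg.Agent.Classical.Dickson.cases_on M with
    ⟨k, hk, hc⟩ | ⟨g, hg, -⟩ | ⟨h2, h⟩ | ⟨h2, h⟩ | ⟨h2, h⟩ | ⟨K, m, hm, hKm, hK⟩
  · rcases Cfsg.Agent.Classical.Dickson.card_dvd_torus hk hc with h | h <;> rw [hF, hd] at h
    · have h' := Nat.mul_dvd_mul_right h d
      rw [mul_assoc, Nat.div_mul_cancel hdd] at h'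
      exact Nat.le_of_dvd (by omega) h'
    · exfalso
      have := hdvd'.trans (Nat.mul_dvd_mul_right h d)
      rw [mul_assoc, Nat.div_mul_cancel hdp] at this
      have h2' := Nat.dvd_sub (Nat.dvd_of_mul_dvd_mul_left two_pos this) (dvd_refl (q - 1))
      have := Nat.le_of_dvd (by omega) h2'
      omega
  · exfalso
    have h := Cfsg.Agent.Classical.Dickson.card_dvd_borel hg
    rw [hF, hd] at h
    have h' : 2 ∣ q := Nat.dvd_of_mul_dvd_mul_right (by omega : 0 < q - 1) ((hdvd'.trans h).trans (dvd_of_eq (mul_comm _ _)))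
    have h20 : (2 : F) = 0 := Cfsg.Agent.Small.SL2C.two_dvd_iff.mp (hF ▸ h')
    obtain rfl : d = 1 := by rw [← hd, ← hF]; exact Cfsg.Agent.Classical.Dickson.gcd_eq_one_of_even h20
    have key : ∀ a b : DihedralGroup ((q - 1) / 1), a * a = 1 → b * b = 1 → a * b = b * a := fun a b ha hb => by
      obtain ⟨φ, hφ⟩ : ∃ φ : DihedralGroup ((q - 1) / 1) →* M, Function.Injective φ :=
        ⟨(Subgroup.inclusion hM.le).comp e.symm.toMonoidHom, (Subgroup.inclusion_injective hM.le).comp e.symm.injective⟩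
      have hm : ∀ z : M, (PSL2.conjP g) z.1 ∈ Cfsg.Agent.Classical.Dickson.borelP F := fun z => hg ⟨z.1, z.2, rfl⟩
      have h3 : ∀ z : M, z * z = 1 → (PSL2.conjP g) z.1 * (PSL2.conjP g) z.1 = 1 := fun z hz => by
        rw [← map_mul, ← Subgroup.coe_mul, hz, Subgroup.coe_one, map_one]
      have h5 := Cfsg.Agent.Classical.Dickson.borel_involutions h20 (hm (φ a)) (hm (φ b))
        (h3 _ (by rw [← map_mul, ha, map_one])) (h3 _ (by rw [← map_mul, hb, map_one]))
      rw [← map_mul, ← map_mul] at h5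
      apply hφ
      rw [map_mul, map_mul]
      exact Subtype.ext ((PSL2.conjP g).injective h5)
    have h6 := key (DihedralGroup.sr 0) (DihedralGroup.sr 1) (DihedralGroup.sr_mul_self 0) (DihedralGroup.sr_mul_self 1)
    rw [DihedralGroup.sr_mul_sr, DihedralGroup.sr_mul_sr, DihedralGroup.r.injEq] at h6
    have h7 : ((2 : ℕ) : ZMod ((q - 1) / 1)) = 0 := by push_cast; linear_combination h6
    rw [ZMod.natCast_eq_zero_iff, Nat.div_one] at h7
    have := Nat.le_of_dvd two_pos h7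
    omega
  · exact (hsmall h2 (Or.inl h)).elim
  · exact (hsmall h2 (Or.inr (Or.inl h))).elim
  · exact (hsmall h2 (Or.inr (Or.inr h))).elim
  have hm2 := Cfsg.Agent.Classical.Dickson.two_le_degree hne hm hKm (hK.imp (fun h => h.2) fun h => ⟨h.2.2, h.1⟩)
  rw [hF] at hKm
  have hQ : 2 ≤ Nat.card K := Finite.one_lt_card
  have hdvd2 : 2 * (q - 1) ∣ 2 * (Nat.card K * (Nat.card K ^ 2 - 1)) := by
    rcases hK with ⟨-, h⟩ | ⟨h2, -, h⟩
    · rw [← h]
      refine hdvd'.trans ?_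
      rcases hd2 with rfl | rfl
      · rw [mul_one]; exact dvd_mul_left _ _
      · rw [mul_comm]
    · have hd' : d = 2 := by rw [← hd, ← hF]; exact Cfsg.Agent.Classical.Dickson.two_dvd_pred h2
      subst hd'
      rw [← h]
      refine hdvd'.trans ?_
      rw [mul_comm (Nat.card M)]
      exact dvd_mul_left _ _
  have h' : q - 1 ∣ Nat.card K * (Nat.card K ^ 2 - 1) := Nat.dvd_of_mul_dvd_mul_left two_pos hdvd2
  have hQq : Nat.card K ∣ q := hKm ▸ dvd_pow_self _ (by omega)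
  have h'' : q - 1 ∣ Nat.card K ^ 2 - 1 := (Nat.Coprime.coprime_dvd_right hQq hco).dvd_of_dvd_mul_left h'
  have hge : Nat.card K ^ 2 ≤ q := hKm ▸ Nat.pow_le_pow_right (by omega) hm2
  have h4Q : 4 ≤ Nat.card K ^ 2 := Nat.pow_le_pow_left hQ 2
  have hqQ : q = Nat.card K ^ 2 := by
    have := Nat.le_of_dvd (by omega) h''
    omega
  have hord := Cfsg.Agent.Classical.Dickson.orderOf_subfield_le K (hK.imp (fun h => h.1) fun h => h.2.1) x
  rw [hx] at hord
  have hQ2 : Nat.card K = 2 := by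
    by_contra hQ2
    have hQ3 : Nat.card K ≠ 3 := fun h => by rw [h] at hqQ; omega
    have h9 : (Nat.card K + 1) * 2 < q - 1 := by
      have : 4 * Nat.card K ≤ Nat.card K ^ 2 := by rw [pow_two]; exact Nat.mul_le_mul_right _ (by omega)
      omega
    rcases hd2 with rfl | rfl
    · rw [Nat.div_one] at hord; omega
    · omega
  rw [hQ2] at hqQ hK
  subst hqQ
  obtain rfl : d = 1 := by rw [← hd]; rfl
  rcases hK with ⟨-, h⟩ | ⟨-, -, h⟩ <;> omega

end Cfsg.Agent.S0812
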