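import Cfsg.Statements.S0946
import Cfsg.Agent.Lib.Char.Homocyclic

set_option autoImplicit false
open Cfsg Cfsg.Agent.Char
open scoped ComplexConjugate

namespace Cfsg.Agent.S0946

/-- Let P be a Sylow 2-subgroup of the finite group G isomorphic to Z/2^m × Z/2^m with m ≥ 1. Then either P has a normal complement in G, or all involutions of G are conjugate. -/
theorem result {G : Type*} [Group G] [Finite G] (P : Sylow 2 G) (m : ℕ) (hm : 1 ≤ m) (e : (P : Subgroup G) ≃* Multiplicative (ZMod (2 ^ m) × ZMod (2 ^ m))) : (∃ N : Subgroup G, N.Normal ∧ Subgroup.IsComplement' N (P : Subgroup G)) ∨ ∀ s t : G, orderOf s = 2 → orderOf t = 2 → IsConj s t := by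
  classical
  by_cases hNC : Subgroup.normalizer ((P : Subgroup G) : Set G) ≤
      Subgroup.centralizer ((P : Subgroup G) : Set G)
  · exact Or.inl ⟨(MonoidHom.transferSylow P hNC).ker, inferInstance,
      MonoidHom.ker_transferSylow_isComplement' P hNC⟩
  right
  obtain ⟨g, hgN, hgC⟩ := SetLike.not_le_iff_exists.mp hNC
  letI : CommGroup (P : Subgroup G) :=
    { (inferInstance : Group (P : Subgroup G)) with
      mul_comm := fun a b => e.injective (by rw [map_mul, map_mul, mul_comm]) }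
  set Nz := Subgroup.normalizer ((P : Subgroup G) : Set G) with hNz
  let φ : Nz →* MulAut (P : Subgroup G) := (P : Subgroup G).normalizerMonoidHom
  have hφ : ∀ (y : Nz) (x : (P : Subgroup G)), ((φ y x : (P : Subgroup G)) : G) =
      (y : G) * (x : G) * (y : G)⁻¹ := fun y x => rfl
  set a : MulAut (P : Subgroup G) := φ ⟨g, hgN⟩ with ha
  have hker : ∀ y : Nz, (y : G) ∈ (P : Subgroup G) → φ y = 1 := fun y hy => by
    ext x
    rw [hφ, MulAut.one_apply]
    have h : (⟨_, hy⟩ : (P : Subgroup G)) * x = x * ⟨_, hy⟩ := mul_comm _ _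
    rw [show (y : G) * (x : G) = (x : G) * (y : G) from congrArg Subtype.val h, mul_inv_cancel_right]
  set n := ((P : Subgroup G).subgroupOf Nz).index with hn
  have hnodd : Odd n := by
    rw [← Nat.not_even_iff_odd, even_iff_two_dvd]
    intro h2
    exact P.not_dvd_index (h2.trans (by
      rw [hn, ← Subgroup.relIndex]
      exact Subgroup.relIndex_dvd_index_of_le Subgroup.le_normalizer))
  haveI : ((P : Subgroup G).subgroupOf Nz).Normal := Subgroup.normal_in_normalizer
  have han : a ^ n = 1 := by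
    rw [ha, ← map_pow]
    exact hker _ (Subgroup.mem_subgroupOf.mp (Subgroup.pow_index_mem _ _))
  have hne : a ≠ 1 := fun h => hgC (Subgroup.mem_centralizer_iff.mpr fun x hx => by
    have h1 : ((a ⟨x, hx⟩ : (P : Subgroup G)) : G) = x := by rw [h]; rfl
    rw [ha, hφ] at h1
    exact (mul_inv_eq_iff_eq_mul.mp h1).symm)
  have h4 : Nat.card {t : (P : Subgroup G) // t ^ 2 = 1} ≤ 4 := by
    let f : {t : (P : Subgroup G) // t ^ 2 = 1} →
        {v : ZMod (2 ^ m) // 2 • v = 0} × {v : ZMod (2 ^ m) // 2 • v = 0} := fun t =>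
      have h : 2 • (e t.1).toAdd = 0 := by
        rw [← toAdd_pow, ← map_pow, t.2, map_one, toAdd_one]
      (⟨(e t.1).toAdd.1, congrArg Prod.fst h⟩, ⟨(e t.1).toAdd.2, congrArg Prod.snd h⟩)
    have hf : Function.Injective f := fun x y h => by
      simp only [f, Prod.mk.injEq, Subtype.mk.injEq] at h
      exact Subtype.ext (e.injective (Multiplicative.toAdd.injective (Prod.ext h.1 h.2)))
    haveI : NeZero (2 ^ m) := ⟨(Nat.two_pow_pos m).ne'⟩
    refine (Nat.card_le_card_of_injective f hf).trans ?_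
    rw [Nat.card_prod]
    have hc : Nat.card {v : ZMod (2 ^ m) // 2 • v = 0} ≤ 2 := by
      rw [Nat.card_eq_fintype_card, Fintype.card_subtype]
      exact IsAddCyclic.card_nsmul_eq_zero_le (α := ZMod (2 ^ m)) two_pos
    calc Nat.card {v : ZMod (2 ^ m) // 2 • v = 0} * Nat.card {v : ZMod (2 ^ m) // 2 • v = 0}
        ≤ 2 * 2 := Nat.mul_le_mul hc hc
      _ = 4 := rfl
  intro s t hs ht
  have conjP : ∀ u : G, orderOf u = 2 → ∃ v : (P : Subgroup G), orderOf v = 2 ∧ IsConj u (v : G) := by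
    intro u hu
    have hz : IsPGroup 2 (Subgroup.zpowers u) :=
      IsPGroup.of_card (n := 1) (by rw [Nat.card_zpowers, hu, pow_one])
    obtain ⟨Q, hQ⟩ := hz.exists_le_sylow
    obtain ⟨c, hc⟩ := MulAction.exists_smul_eq G Q P
    have hmem : c * u * c⁻¹ ∈ (P : Subgroup G) := by
      rw [← hc, Sylow.coe_subgroup_smul]
      exact ⟨u, hQ (Subgroup.mem_zpowers u), rfl⟩
    refine ⟨⟨_, hmem⟩, ?_, isConj_iff.mpr ⟨c, rfl⟩⟩
    rw [Subgroup.orderOf_mk, ← MulAut.conj_apply, MulEquiv.orderOf_eq, hu]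
  obtain ⟨s', hs', hcs⟩ := conjP s hs
  obtain ⟨t', ht', hct⟩ := conjP t ht
  obtain ⟨j, hj⟩ := aut_transitive_involutions P.isPGroup' h4 a hnodd han hne hs' ht'
  refine hcs.trans (IsConj.trans ?_ hct.symm)
  rw [ha, ← map_pow] at hj
  exact isConj_iff.mpr ⟨_, (hφ _ s').symm.trans (congrArg Subtype.val hj)⟩

end Cfsg.Agent.S0946
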