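import Cfsg.Statements.S1250
import Cfsg.Agent.Lib.Fusion.Basic

set_option autoImplicit false
open Cfsg
open Cfsg.Agent.Fusion
open scoped commutatorElement

namespace Cfsg.Agent.S1250

/-- Let S be a Sylow p-subgroup of the finite group G, A ≤ S strongly closed in S, and N a normal subgroup. Then the image of A in G ⧸ N is strongly closed in the image of S (which is a Sylow p-subgroup of G ⧸ N). -/
theorem result {G : Type*} [Group G] [Finite G] {p : ℕ} [Fact p.Prime] (S : Sylow p G) (A : Subgroup G) (hA : Cfsg.IsStronglyClosed A (S : Subgroup G)) (N : Subgroup G) [N.Normal] : Cfsg.IsStronglyClosed (A.map (QuotientGroup.mk' N)) ((S : Subgroup G).map (QuotientGroup.mk' N)) := by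
  refine ⟨Subgroup.map_mono hA.1, ?_⟩
  rintro _ ⟨x, hx, rfl⟩ q hq
  obtain ⟨g, rfl⟩ := QuotientGroup.mk'_surjective N q
  rw [← map_inv, ← map_mul, ← map_mul] at hq ⊢
  have hmem : g * x * g⁻¹ ∈ (S : Subgroup G) ⊔ N := by
    rw [← QuotientGroup.ker_mk' N, ← Subgroup.comap_map_eq]
    exact hq
  obtain ⟨y, hy, hle⟩ := ((sylIn_top S).mono (le_sup_left : (S : Subgroup G) ≤ (S : Subgroup G) ⊔ N) le_top).conj_le
    (Q := Subgroup.zpowers (g * x * g⁻¹))
    ((isPGroup_cj (S.isPGroup'.to_le (Subgroup.zpowers_le.2 (hA.1 hx))) g).to_le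
      (Subgroup.zpowers_le.2 (conj_mem_cj (Subgroup.mem_zpowers x))))
    (Subgroup.zpowers_le.2 hmem)
  obtain ⟨s, hs, n, hn, rfl⟩ := Subgroup.mem_sup_of_normal_right.1 hy
  have h1 := hle (conj_mem_cj (g := s * n) (Subgroup.mem_zpowers (g * x * g⁻¹)))
  have h2 : n * g * x * (n * g)⁻¹ ∈ (S : Subgroup G) := by
    have := mul_mem (mul_mem (inv_mem hs) h1) hs
    rwa [show s⁻¹ * (s * n * (g * x * g⁻¹) * (s * n)⁻¹) * s = n * g * x * (n * g)⁻¹ by group] at this
  have h3 := Subgroup.mem_map_of_mem (QuotientGroup.mk' N) (hA.2 x hx (n * g) h2)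
  have h4 : QuotientGroup.mk' N n = 1 := (QuotientGroup.eq_one_iff n).2 hn
  rw [map_mul, map_mul, map_inv, map_mul, h4, one_mul] at h3
  rwa [map_mul, map_mul, map_inv]

end Cfsg.Agent.S1250
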