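import Cfsg.Statements.S0802
import Cfsg.Agent.Lib.Classical.PSL2Poly

set_option autoImplicit false
open Cfsg

namespace Cfsg.Agent.S0802

/-- PSL_2(p^n) has a subgroup isomorphic to A_4 if and only if it is not the case that p = 2 and n is odd. -/
theorem result {F : Type*} [Field F] [Fintype F] (p n : ℕ) [Fact p.Prime] [CharP F p] (hF : Fintype.card F = p ^ n) : (∃ H : Subgroup (Matrix.ProjectiveSpecialLinearGroup (Fin 2) F), Nonempty (H ≃* alternatingGroup (Fin 4))) ↔ ¬ (p = 2 ∧ Odd n) := by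
  classical
  have hp : p.Prime := Fact.out
  constructor
  · rintro ⟨H, ⟨e⟩⟩ ⟨rfl, ⟨k, rfl⟩⟩
    have h2 : (2 : F) = 0 := CharTwo.two_eq_zero
    refine Cfsg.Agent.Classical.SL2Four.no_alt_four_even h2 ?_ H e
    rw [hF]
    intro h3
    have h1 : 2 ^ (2 * k + 1) % 3 = 2 := by
      rw [pow_succ, pow_mul, Nat.mul_mod, Nat.pow_mod]; norm_num
    generalize 2 ^ (2 * k + 1) = x at h1 h3
    omega
  · intro h
    by_cases hp2 : p = 2
    · subst hp2
      have h2 : (2 : F) = 0 := CharTwo.two_eq_zero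
      obtain ⟨k, rfl⟩ : Even n := Nat.not_odd_iff_even.mp fun ho => h ⟨rfl, ho⟩
      refine Cfsg.Agent.Classical.SL2Four.exists_alt_four_even h2 ?_
      rw [hF]
      have h1 : 2 ^ (k + k) % 3 = 1 := by
        rw [← two_mul, pow_mul, Nat.pow_mod]; norm_num
      generalize 2 ^ (k + k) = x at h1
      omega
    · exact Cfsg.Agent.Classical.SL2Four.exists_alt_four_odd
        (Cfsg.Agent.Small.SL2C.two_ne_zero_of_char p hp2)

end Cfsg.Agent.S0802
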