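import Cfsg.Statements.S3966
import Mathlib.Tactic.LinearCombination

set_option autoImplicit false
open Cfsg

open scoped Pointwise commutatorElement

namespace Cfsg.Agent.S3966

/-- For even `n ≥ 2` the dicyclic group of order `4 n` is a stem extension of the dihedral group of order `2 n` with kernel of order `2`: there is a surjective homomorphism `QuaternionGroup n →* DihedralGroup n` whose kernel is central, lies in the commutator subgroup and has two elements. Together with the order of the multiplier this exhibits the dicyclic group as a Schur covering group of the dihedral group. -/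
theorem result (n : ℕ) [NeZero n] (hn : Even n) : ∃ σ : QuaternionGroup n →* DihedralGroup n, Cfsg.IsStemExtension σ ∧ Nat.card σ.ker = 2 := by
  have hc : ((n : ℕ) : ZMod n) = 0 := ZMod.natCast_self n
  let ρ : ZMod (2 * n) →+* ZMod n := ZMod.castHom (Dvd.intro_left 2 rfl) _
  let σ₀ : QuaternionGroup n → DihedralGroup n := fun q => match q with
    | .a i => .r (ρ i)
    | .xa i => .sr (ρ i)
  have hσ : ∀ x y, σ₀ (x * y) = σ₀ x * σ₀ y := by
    rintro (i | i) (j | j)
    · rw [QuaternionGroup.a_mul_a]; show DihedralGroup.r (ρ (i + j)) = DihedralGroup.r (ρ i) * DihedralGroup.r (ρ j)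
      rw [DihedralGroup.r_mul_r, map_add]
    · rw [QuaternionGroup.a_mul_xa]; show DihedralGroup.sr (ρ (j - i)) = DihedralGroup.r (ρ i) * DihedralGroup.sr (ρ j)
      rw [DihedralGroup.r_mul_sr, map_sub]
    · rw [QuaternionGroup.xa_mul_a]; show DihedralGroup.sr (ρ (i + j)) = DihedralGroup.sr (ρ i) * DihedralGroup.r (ρ j)
      rw [DihedralGroup.sr_mul_r, map_add]
    · rw [QuaternionGroup.xa_mul_xa]; show DihedralGroup.r (ρ ((n : ZMod (2 * n)) + j - i)) = DihedralGroup.sr (ρ i) * DihedralGroup.sr (ρ j)
      rw [DihedralGroup.sr_mul_sr, map_sub, map_add, map_natCast, hc, zero_add]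
  let σ := MonoidHom.mk' σ₀ hσ
  have hρ : Function.Surjective ρ := ZMod.castHom_surjective _
  have hker : ∀ x : QuaternionGroup n, x ∈ σ.ker ↔ x = .a 0 ∨ x = .a (n : ZMod (2 * n)) := by
    rintro (i | i)
    · rw [MonoidHom.mem_ker]
      show DihedralGroup.r (ρ i) = 1 ↔ _
      rw [← DihedralGroup.r_zero, DihedralGroup.r.injEq, QuaternionGroup.a.injEq, QuaternionGroup.a.injEq]
      constructor
      · intro h
        obtain ⟨k, rfl⟩ := ZMod.natCast_zmod_surjective i
        rw [map_natCast, ZMod.natCast_eq_zero_iff] at h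
        obtain ⟨t, rfl⟩ := h
        rcases Nat.even_or_odd t with ⟨s, rfl⟩ | ⟨s, rfl⟩
        · left
          rw [ZMod.natCast_eq_zero_iff]; exact ⟨s, by ring⟩
        · right
          have h0 : (((2 * n) * s : ℕ) : ZMod (2 * n)) = 0 := by
            rw [ZMod.natCast_eq_zero_iff]; exact dvd_mul_right _ _
          rw [show n * (2 * s + 1) = (2 * n) * s + n by ring, Nat.cast_add, h0, zero_add]
      · rintro (rfl | rfl)
        · exact map_zero ρ
        · rw [map_natCast, hc]
    · rw [MonoidHom.mem_ker]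
      show DihedralGroup.sr (ρ i) = 1 ↔ _
      rw [← DihedralGroup.r_zero]
      simp [-QuaternionGroup.a_zero, -DihedralGroup.r_zero]
  have hn0 : (n : ZMod (2 * n)) ≠ 0 := by
    rw [Ne, ZMod.natCast_eq_zero_iff]
    intro h
    have := Nat.le_of_dvd (NeZero.pos n) h
    have := NeZero.pos n
    omega
  refine ⟨σ, ⟨?_, ?_, ?_⟩, ?_⟩
  · rintro (i | i)
    · obtain ⟨j, rfl⟩ := hρ i; exact ⟨.a j, rfl⟩
    · obtain ⟨j, rfl⟩ := hρ i; exact ⟨.xa j, rfl⟩
  · intro x hx
    rw [Subgroup.mem_center_iff]
    have h2n : (n : ZMod (2 * n)) + n = 0 := by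
      rw [← Nat.cast_add, ← two_mul, ZMod.natCast_self]
    rcases (hker x).1 hx with rfl | rfl
    · intro g; rw [QuaternionGroup.a_zero, mul_one, one_mul]
    · rintro (i | i)
      · rw [QuaternionGroup.a_mul_a, QuaternionGroup.a_mul_a, add_comm]
      · rw [QuaternionGroup.a_mul_xa, QuaternionGroup.xa_mul_a, QuaternionGroup.xa.injEq]
        linear_combination h2n
  · intro x hx
    rcases (hker x).1 hx with rfl | rfl
    · rw [QuaternionGroup.a_zero]; exact Subgroup.one_mem _
    · obtain ⟨k, hk⟩ := hn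
      have he : (QuaternionGroup.a (n : ZMod (2 * n))) =
          ⁅(QuaternionGroup.a (1 : ZMod (2 * n))), QuaternionGroup.xa (0 : ZMod (2 * n))⁆ ^ k := by
        have h1 : ⁅(QuaternionGroup.a (1 : ZMod (2 * n))), QuaternionGroup.xa (0 : ZMod (2 * n))⁆ =
            QuaternionGroup.a 2 := by
          rw [commutatorElement_def, mul_inv_eq_iff_eq_mul, mul_inv_eq_iff_eq_mul]
          simp only [QuaternionGroup.a_mul_xa, QuaternionGroup.a_mul_a, QuaternionGroup.xa_mul_a]
          rw [QuaternionGroup.xa.injEq]; ring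
        rw [h1, show (2 : ZMod (2 * n)) = ((2 : ℕ) : ZMod (2 * n)) by norm_num,
          ← QuaternionGroup.a_one_pow 2, ← pow_mul, QuaternionGroup.a_one_pow]
        congr 2; omega
      rw [he]
      exact Subgroup.pow_mem _ (Subgroup.commutator_mem_commutator (Subgroup.mem_top _) (Subgroup.mem_top _)) k
  · have hset : (σ.ker : Set (QuaternionGroup n)) = {.a 0, .a (n : ZMod (2 * n))} := by
      ext x; exact hker x
    rw [← SetLike.coe_sort_coe, Nat.card_coe_set_eq, hset, Set.ncard_pair]
    rw [Ne, QuaternionGroup.a.injEq]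
    exact hn0.symm

end Cfsg.Agent.S3966
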