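import Cfsg.Statements.S4403
import Mathlib
import Cfsg.Agent.Lib.Solv.CyclicSylowBasic
import Cfsg.Agent.Lib.Solv.Component
import Cfsg.Agent.Lib.Solv.Parts
import Cfsg.Agent.Lib.Perm.CharSimple
import Cfsg.Agent.Lib.Fusion.AbelianHall
import Cfsg.Agent.Lib.Fusion.NPC

set_option autoImplicit false
open Cfsg
open scoped Pointwise commutatorElement

namespace Cfsg.Agent.S4403

open Cfsg.Agent

universe u

variable {K : Type u} [Group K] [Finite K] {p : ℕ} [hp : Fact p.Prime] {P : Sylow p K}

/-- In a cyclic group, an element of prime order lies in every nontrivial subgroup of that prime's power order. -/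
theorem mem_zpowers_of_order {R : Subgroup K} (hR : IsCyclic R) {z q : K} (hz : z ∈ R) (hq : q ∈ R)
    (hzo : orderOf z = p) (hqo : orderOf q = p) : z ∈ Subgroup.zpowers q := by
  classical
  haveI := hR
  haveI := Fintype.ofFinite R
  let z' : R := ⟨z, hz⟩
  let q' : R := ⟨q, hq⟩
  have hsub : ((Subgroup.zpowers q' : Subgroup R) : Set R).toFinset = Finset.univ.filter fun a : R => a ^ p = 1 := by
    refine Finset.eq_of_subset_of_card_le (fun a ha => ?_) ?_
    · rw [Set.mem_toFinset] at ha
      obtain ⟨k, rfl⟩ := Subgroup.mem_zpowers_iff.1 ha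
      refine Finset.mem_filter.2 ⟨Finset.mem_univ _, ?_⟩
      rw [← zpow_natCast, ← zpow_mul, mul_comm, zpow_mul, zpow_natCast]
      have : q' ^ p = 1 := Subtype.ext (by simpa using orderOf_dvd_iff_pow_eq_one.1 (dvd_of_eq hqo))
      rw [this, one_zpow]
    · rw [Set.toFinset_card, ← Nat.card_eq_fintype_card]
      show _ ≤ Nat.card (Subgroup.zpowers q')
      rw [Nat.card_zpowers, Subgroup.orderOf_mk, hqo]
      exact IsCyclic.card_pow_eq_one_le hp.out.pos
  have hz' : z' ∈ (Subgroup.zpowers q' : Subgroup R) := by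
    rw [← SetLike.mem_coe, ← Set.mem_toFinset, hsub]
    refine Finset.mem_filter.2 ⟨Finset.mem_univ _, Subtype.ext ?_⟩
    simpa using orderOf_dvd_iff_pow_eq_one.1 (dvd_of_eq hzo)
  obtain ⟨k, hk⟩ := Subgroup.mem_zpowers_iff.1 hz'
  exact ⟨k, by simpa using congrArg Subtype.val hk⟩

/-- A subgroup centralizing an element of order `p` has a normal `p`-complement. -/
theorem hnpc_of_centralizes (hcyc : IsCyclic P) {z : K} (hzo : orderOf z = p) (H : Subgroup K)
    (hH : ∀ h ∈ H, h * z = z * h) : HasNormalPComplement p H := by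
  obtain ⟨S⟩ : Nonempty (Sylow p H) := inferInstance
  refine Fusion.hnpc_of_centralize (Fusion.sylIn_top S) fun Q hQS g hgN hgp => ?_
  set R : Subgroup K := Q.map H.subtype with hR
  have hRp : IsPGroup p R := (S.isPGroup'.to_le hQS).map _
  have hgN' : (g : K) ∈ Subgroup.normalizer (R : Set K) := by
    refine Subgroup.mem_normalizer_fintype (S := (R : Set K)) fun u hu => ?_
    obtain ⟨w, hw, rfl⟩ := hu
    exact ⟨g * w * g⁻¹, (Subgroup.mem_normalizer_iff.1 hgN w).1 hw, by simp⟩
  refine Subgroup.mem_centralizer_iff.2 fun q hq => Subtype.ext ?_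
  have hqR : (q : K) ∈ R := ⟨q, hq, rfl⟩
  by_cases hq1 : (q : K) = 1
  · simp [hq1]
  obtain ⟨k, hk⟩ := IsPGroup.iff_orderOf.1 hRp ⟨q, hqR⟩
  rw [Subgroup.orderOf_mk] at hk
  have hk0 : k ≠ 0 := fun h => hq1 (orderOf_eq_one_iff.1 (by rw [hk, h, pow_zero]))
  set q₁ := (q : K) ^ p ^ (k - 1) with hq₁
  have hq₁o : orderOf q₁ = p := by
    rw [hq₁, orderOf_pow' _ (pow_ne_zero _ hp.out.ne_zero), hk, Nat.gcd_eq_right (pow_dvd_pow p (by omega)),
      Nat.pow_div (by omega) hp.out.pos, show k - (k - 1) = 1 by omega, pow_one]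
  have hZ : IsPGroup p (Subgroup.zpowers z) := IsPGroup.of_card (n := 1) (by rw [Nat.card_zpowers, hzo, pow_one])
  have hRZ : IsPGroup p (R ⊔ Subgroup.zpowers z : Subgroup K) := hRp.to_sup_of_normal_left' hZ (by
    rw [Subgroup.zpowers_le]
    refine Subgroup.mem_normalizer_fintype (S := (R : Set K)) fun u hu => ?_
    obtain ⟨w, hw, rfl⟩ := hu
    refine ⟨w, hw, ?_⟩
    show (w : K) = z * (w : K) * z⁻¹
    rw [← hH w w.2, mul_inv_cancel_right])
  have hzR : z ∈ R := by
    have h1 := mem_zpowers_of_order (Solv.CyclicDichotomy.isCyclic_of_isPGroup hcyc hRZ)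
      (Subgroup.mem_sup_right (Subgroup.mem_zpowers z)) (Subgroup.mem_sup_left (pow_mem hqR (p ^ (k - 1)))) hzo hq₁o
    exact (Subgroup.zpowers_le.2 (pow_mem hqR _)) h1
  have hz1 : z ≠ 1 := fun h => hp.out.one_lt.ne (by rw [← hzo, h, orderOf_one])
  exact (Solv.centralizes_cyclic hRp (Solv.CyclicDichotomy.isCyclic_of_isPGroup hcyc hRp) hgN'
    (by rwa [Subgroup.orderOf_coe]) hzR hz1 (hH g g.2) q hqR).symm

omit [Finite K] in
/-- A group isomorphic to a power of a simple group with two commuting independent elements. -/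
theorem power_one {T : Type*} [Group T] [Finite T] {m : ℕ} (hpT : p ∣ Nat.card T) (hm : 1 < m)
    {N : Subgroup K} (e : N ≃* (Fin m → T)) :
    ∃ a b : K, orderOf a = p ∧ orderOf b = p ∧ a * b = b * a ∧ a ∉ Subgroup.zpowers b := by
  classical
  obtain ⟨t, ht⟩ := exists_prime_orderOf_dvd_card' p hpT
  have ht1 : t ≠ 1 := fun h => hp.out.one_lt.ne (by rw [← ht, h, orderOf_one])
  let i₀ : Fin m := ⟨0, by omega⟩
  let i₁ : Fin m := ⟨1, hm⟩
  have hne : i₀ ≠ i₁ := by simp [i₀, i₁]
  have ho : ∀ i : Fin m, orderOf ((e.symm (Pi.mulSingle i t) : N) : K) = p := fun i => by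
    rw [Subgroup.orderOf_coe, MulEquiv.orderOf_eq, ← ht]
    exact orderOf_injective (MonoidHom.mulSingle (fun _ : Fin m => T) i) (Pi.mulSingle_injective (M := fun _ : Fin m => T) i) t
  refine ⟨_, _, ho i₀, ho i₁, ?_, fun hmem => ?_⟩
  · rw [← Subgroup.coe_mul, ← Subgroup.coe_mul, ← map_mul, ← map_mul, (Pi.mulSingle_commute (f := fun _ : Fin m => T) hne t t).eq]
  · obtain ⟨k, hk⟩ := Subgroup.mem_zpowers_iff.1 hmem
    rw [← SubgroupClass.coe_zpow, ← map_zpow] at hk
    have h1 := congrFun (e.symm.injective (Subtype.ext hk)) i₀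
    rw [Pi.pow_apply, Pi.mulSingle_eq_of_ne hne, one_zpow, Pi.mulSingle_eq_same] at h1
    exact ht1 h1.symm

/-- Let K be a finite group, p a prime dividing its order with O_{p'}(K) = 1 (no nontrivial normal subgroup of order prime to p), and P a cyclic Sylow p-subgroup of K. Then either P is normal and self-centralizing in K with K/P cyclic of order dividing p − 1 (so K is the semidirect product of P by a group of automorphisms of P of order dividing p − 1), or the generalized Fitting subgroup F*(K) is a non-abelian simple group and p does not divide the index of F*(K) in K. -/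
theorem result {K : Type*} [Group K] [Finite K] (p : ℕ) [Fact p.Prime] (hp : p ∣ Nat.card K) (hO : Cfsg.pPrimeCore p K = ⊥)
    (P : Sylow p K) (hP : IsCyclic ↥(P : Subgroup K)) :
    ((P : Subgroup K).Normal ∧ Subgroup.centralizer ((P : Subgroup K) : Set K) = (P : Subgroup K) ∧
      (∀ (_ : (P : Subgroup K).Normal), IsCyclic (K ⧸ (P : Subgroup K))) ∧ (P : Subgroup K).index ∣ p - 1) ∨
    (IsSimpleGroup ↥(Cfsg.generalizedFittingSubgroup K) ∧ ¬ IsMulCommutative ↥(Cfsg.generalizedFittingSubgroup K) ∧
      ¬ p ∣ (Cfsg.generalizedFittingSubgroup K).index) := by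
  classical
  have hpp : p.Prime := Fact.out
  have hcoreEq : ∀ (M : Subgroup K), M.Normal → (Nat.card M).Coprime p → M = ⊥ := fun M hM hc => by
    haveI := hM
    exact le_bot_iff.1 (hO ▸ Fusion.le_pPrimeCore hc)
  haveI : Nontrivial K := Finite.one_lt_card_iff_nontrivial.1 (hpp.one_lt.trans_le (Nat.le_of_dvd Nat.card_pos hp))
  obtain ⟨N, hNn, hNb, hNmin⟩ := Solv.exists_minimal_normal (G := K)
  haveI := hNn
  have hpN : p ∣ Nat.card N := by
    by_contra h
    exact hNb (hcoreEq N hNn ((hpp.coprime_iff_not_dvd.2 h).symm))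
  have hcentre : ∀ (z : K), orderOf z = p → ∀ (H : Subgroup K), (∀ h ∈ H, h * z = z * h) →
      HasNormalPComplement p H := fun z hz H hH => hnpc_of_centralizes hP hz H hH
  by_cases hsol : Group.IsSolvable N
  · -- a central subgroup of order p
    left
    obtain ⟨hNab, q, hq, hexp, hqN⟩ := Solv.minimal_normal_elementaryAbelian N hsol hNb hNmin
    obtain ⟨z₀, hz₀⟩ := exists_prime_orderOf_dvd_card' p hpN
    set z : K := (z₀ : K) with hzdef
    have hzo : orderOf z = p := by rw [hzdef, Subgroup.orderOf_coe, hz₀]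
    have hqp : q = p := by
      have h1 : p ∣ q := hzo ▸ orderOf_dvd_of_pow_eq_one (hexp z z₀.2)
      exact ((Nat.prime_dvd_prime_iff_eq hpp hq).1 h1).symm
    subst hqp
    have hNP : N ≤ (P : Subgroup K) := Solv.CyclicDichotomy.le_P_of_normal hqN
    have hNz : N = Subgroup.zpowers z := by
      refine le_antisymm (fun x hx => ?_) (Subgroup.zpowers_le.2 z₀.2)
      by_cases hx1 : x = 1
      · rw [hx1]; exact one_mem _
      have hxo : orderOf x = q := orderOf_eq_prime (hexp x hx) hx1
      exact mem_zpowers_of_order hP (hNP hx) (hNP z₀.2) hxo hzo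
    have hNcard : Nat.card N = q := by rw [hNz, Nat.card_zpowers, hzo]
    set C := Subgroup.centralizer (N : Set K) with hC
    haveI : C.Normal := by rw [hC]; infer_instance
    have hCnpc : HasNormalPComplement q C := hcentre z hzo C fun h hh =>
      (Subgroup.mem_centralizer_iff.1 hh z z₀.2).symm
    have hres : pResidual q C = ⊥ := by
      have h1 := Fusion.hnpc_iff.1 hCnpc
      haveI : (pResidual q C).Characteristic := by
        rw [Subgroup.characteristic_iff_map_le]
        intro φ
        rw [Cfsg.pResidual, MonoidHom.map_closure]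
        refine Subgroup.closure_mono ?_
        rintro _ ⟨x, hx, rfl⟩
        show (orderOf (φ x)).Coprime q
        rw [MulEquiv.orderOf_eq]; exact hx
      have h2 : ((pResidual q C).map C.subtype).Normal := inferInstance
      have h3 := hcoreEq _ h2 (by rw [Subgroup.card_map_of_injective C.subtype_injective]; exact h1)
      exact (Subgroup.map_eq_bot_iff_of_injective _ C.subtype_injective).1 h3
    have hCp : IsPGroup q C := by
      refine (Fusion.isPGroup_quotient_pResidual (p := q) (G := C)).of_equiv ?_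
      exact (QuotientGroup.quotientMulEquivOfEq hres).trans QuotientGroup.quotientBot
    have hPC : (P : Subgroup K) ≤ C := fun x hx => Subgroup.mem_centralizer_iff.2 fun n hn =>
      Solv.CyclicDichotomy.comm_of_cyclic hP (hNP hn) hx
    have hCP : C = (P : Subgroup K) := P.3 hCp hPC
    have hPn : (P : Subgroup K).Normal := hCP ▸ inferInstance
    have hself : Subgroup.centralizer ((P : Subgroup K) : Set K) = (P : Subgroup K) :=
      le_antisymm ((Subgroup.centralizer_le (SetLike.coe_subset_coe.2 hNP)).trans hCP.le)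
        (Solv.CyclicDichotomy.le_centralizer_self hP)
    haveI : IsCyclic N := isCyclic_of_prime_card hNcard
    let ψ : K →* MulAut N := MulAut.conjNormal
    have hker : ψ.ker = (P : Subgroup K) := by
      rw [← hCP]
      ext x
      rw [MonoidHom.mem_ker, hC, Subgroup.mem_centralizer_iff]
      constructor
      · intro h n hn
        have h1 : ((ψ x ⟨n, hn⟩ : N) : K) = n := by rw [h]; rfl
        rw [MulAut.conjNormal_apply] at h1
        exact (mul_inv_eq_iff_eq_mul.1 h1).symm
      · intro h
        refine MulEquiv.ext fun n => Subtype.ext ?_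
        rw [MulAut.conjNormal_apply, MulAut.one_apply, ← h n n.2, mul_inv_cancel_right]
    let Φ : MulAut N ≃* (ZMod q)ˣ := (IsCyclic.mulAutMulEquiv N).trans (MulEquiv.cast (M := fun k => (ZMod k)ˣ) hNcard)
    let ψ' : K →* (ZMod q)ˣ := Φ.toMonoidHom.comp ψ
    have hker' : ψ'.ker = (P : Subgroup K) := by
      rw [← hker]
      ext x
      simp [ψ', MonoidHom.mem_ker]
    refine ⟨hPn, hself, fun _ => ?_, ?_⟩
    · haveI : IsCyclic ψ'.range := inferInstance
      let e : K ⧸ (P : Subgroup K) ≃* ψ'.range :=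
        (QuotientGroup.quotientMulEquivOfEq hker'.symm).trans (QuotientGroup.quotientKerEquivRange ψ')
      exact isCyclic_of_surjective e.symm.toMonoidHom e.symm.surjective
    · rw [← hker', Subgroup.index_ker, ← Nat.totient_prime hpp, ← ZMod.card_units_eq_totient q, ← Nat.card_eq_fintype_card]
      exact Subgroup.card_subgroup_dvd_card ψ'.range
  · -- a nonabelian minimal normal subgroup
    right
    obtain ⟨T, hTg, m, hTs, hm, ⟨e⟩⟩ := Perm.minimal_normal_power N hNb hNmin
    haveI : Finite (Fin m → T) := Finite.of_equiv N e.toEquiv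
    haveI : Finite T := Finite.of_surjective (fun f : Fin m → T => f ⟨0, hm⟩) fun t => ⟨fun _ => t, rfl⟩
    have hm1 : m = 1 := by
      by_contra h
      have hpT : p ∣ Nat.card T := by
        have h1 : p ∣ Nat.card T ^ m := by
          rw [← Nat.card_fin m, ← Nat.card_fun, ← Nat.card_congr e.toEquiv]
          simpa using hpN
        exact hpp.dvd_of_dvd_pow h1
      obtain ⟨a, b, ha, hb, hab, hne⟩ := power_one hpT (by omega) e
      have hA : IsPGroup p (Subgroup.zpowers a) := IsPGroup.of_card (n := 1) (by rw [Nat.card_zpowers, ha, pow_one])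
      have hB : IsPGroup p (Subgroup.zpowers b) := IsPGroup.of_card (n := 1) (by rw [Nat.card_zpowers, hb, pow_one])
      have hAB : IsPGroup p (Subgroup.zpowers b ⊔ Subgroup.zpowers a : Subgroup K) :=
        hB.to_sup_of_normal_left' hA (by
          rw [Subgroup.zpowers_le]
          refine Subgroup.mem_normalizer_fintype (S := ((Subgroup.zpowers b : Subgroup K) : Set K)) fun u hu => ?_
          obtain ⟨k, rfl⟩ := Subgroup.mem_zpowers_iff.1 hu
          rw [((show Commute a b from hab).zpow_right k).eq, mul_inv_cancel_right]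
          exact hu)
      exact hne (mem_zpowers_of_order (Solv.CyclicDichotomy.isCyclic_of_isPGroup hP hAB)
        (Subgroup.mem_sup_right (Subgroup.mem_zpowers a)) (Subgroup.mem_sup_left (Subgroup.mem_zpowers b)) ha hb)
    subst hm1
    haveI := hTs
    let e' : N ≃* T := e.trans (MulEquiv.funUnique (Fin 1) T)
    haveI : Nontrivial N := (Subgroup.nontrivial_iff_ne_bot N).2 hNb
    haveI hNs : IsSimpleGroup N := IsSimpleGroup.isSimpleGroup_of_surjective e'.symm.toMonoidHom e'.symm.surjective
    have hNna : ¬ IsMulCommutative N := fun h => hsol (Group.isSolvable_of_comm fun a b => h.is_comm.comm a b)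
    have hcomN : ∀ a b : N, True := fun _ _ => trivial
    have hzN : Subgroup.center N = ⊥ := by
      rcases (inferInstance : (Subgroup.center N).Normal).eq_bot_or_eq_top with h | h
      · exact h
      · exact absurd ⟨⟨fun a b => (Subgroup.mem_center_iff.1 (h ▸ Subgroup.mem_top b) a)⟩⟩ hNna
    have hNperf : ⁅N, N⁆ = N := by
      rcases hNmin ⁅N, N⁆ inferInstance (Subgroup.commutator_le_left N N) with h | h
      · refine absurd ⟨⟨fun a b => Subtype.ext ?_⟩⟩ hNna
        have h1 := Subgroup.commutator_mem_commutator a.2 b.2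
        rw [h, Subgroup.mem_bot] at h1
        exact commutatorElement_eq_one_iff_mul_comm.1 h1
      · exact h
    -- the centralizer is trivial
    have hCN : Subgroup.centralizer (N : Set K) = ⊥ := by
      by_contra hne
      haveI : (Subgroup.centralizer (N : Set K)).Normal := inferInstance
      obtain ⟨M, hMn, hMb, hMC, hMmin⟩ : ∃ M : Subgroup K, M.Normal ∧ M ≠ ⊥ ∧ M ≤ Subgroup.centralizer (N : Set K) ∧
          ∀ L : Subgroup K, L.Normal → L ≤ M → L = ⊥ ∨ L = M := by
        obtain ⟨M, h1, h2, h3, h4⟩ := Solv.exists_minimal_normal_le (Subgroup.centralizer (N : Set K)) hne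
        exact ⟨M, by assumption, by assumption, by assumption, by assumption⟩
      haveI := hMn
      have hpM : p ∣ Nat.card M := by
        by_contra h
        exact hMb (hcoreEq M hMn ((hpp.coprime_iff_not_dvd.2 h).symm))
      obtain ⟨a, ha⟩ := exists_prime_orderOf_dvd_card' p hpN
      obtain ⟨b, hb⟩ := exists_prime_orderOf_dvd_card' p hpM
      have hab : Commute (a : K) (b : K) := Subgroup.mem_centralizer_iff.1 (hMC b.2) a a.2
      have hA : IsPGroup p (Subgroup.zpowers (a : K)) := IsPGroup.of_card (n := 1) (by rw [Nat.card_zpowers, Subgroup.orderOf_coe, ha, pow_one])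
      have hB : IsPGroup p (Subgroup.zpowers (b : K)) := IsPGroup.of_card (n := 1) (by rw [Nat.card_zpowers, Subgroup.orderOf_coe, hb, pow_one])
      have hAB : IsPGroup p (Subgroup.zpowers (b : K) ⊔ Subgroup.zpowers (a : K) : Subgroup K) :=
        hB.to_sup_of_normal_left' hA (by
          rw [Subgroup.zpowers_le]
          refine Subgroup.mem_normalizer_fintype (S := ((Subgroup.zpowers (b : K) : Subgroup K) : Set K)) fun u hu => ?_
          obtain ⟨k, rfl⟩ := Subgroup.mem_zpowers_iff.1 hu
          rw [(hab.zpow_right k).eq, mul_inv_cancel_right]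
          exact hu)
      have hmem := mem_zpowers_of_order (Solv.CyclicDichotomy.isCyclic_of_isPGroup hP hAB)
        (Subgroup.mem_sup_right (Subgroup.mem_zpowers (a : K))) (Subgroup.mem_sup_left (Subgroup.mem_zpowers (b : K)))
        (by rw [Subgroup.orderOf_coe, ha]) (by rw [Subgroup.orderOf_coe, hb])
      have haC : (a : K) ∈ Subgroup.centralizer (N : Set K) := hMC ((Subgroup.zpowers_le.2 b.2) hmem)
      have haZ : a ∈ Subgroup.center N := Subgroup.mem_center_iff.2 fun n =>
        Subtype.ext (Subgroup.mem_centralizer_iff.1 haC n n.2)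
      rw [hzN, Subgroup.mem_bot] at haZ
      exact hpp.one_lt.ne (by rw [← ha, haZ, orderOf_one])
    -- the generalised Fitting subgroup
    have hgf : Cfsg.generalizedFittingSubgroup K = N := by
      have hNsn : N.IsSubnormal := (inferInstance : N.Normal).isSubnormal
      have hNcomp : Cfsg.IsComponent N := Solv.isComponent_of_minimal hNsn hNb hNperf fun M hM hMne => by
        rcases hM.eq_bot_or_eq_top with h | h
        · rw [h]; exact bot_le
        · exact absurd h hMne
      refine le_antisymm (sup_le (sSup_le ?_) ?_) ((Solv.component_le_layer hNcomp).trans le_sup_left)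
      · intro J hJ
        rcases Solv.component_normal_dichotomy (show Cfsg.IsComponent J from hJ) N with h | h
        · exact h
        · rw [Subgroup.commutator_eq_bot_iff_le_centralizer] at h
          rw [hCN] at h
          exact h.trans bot_le
      · rw [Solv.fitting_eq_iSup_pCore]
        refine iSup_le fun q => ?_
        haveI := Fact.mk q.2
        haveI := Solv.pCore_normal (G := K) (q : ℕ)
        rcases hNmin (N ⊓ Cfsg.pCore (q : ℕ) K) inferInstance inf_le_left with h | h
        · have h1 : Cfsg.pCore (q : ℕ) K ≤ Subgroup.centralizer (N : Set K) := by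
            rw [← Subgroup.commutator_eq_bot_iff_le_centralizer, eq_bot_iff]
            refine (Subgroup.commutator_le_inf _ _).trans ?_
            rw [inf_comm, h]
          rw [hCN] at h1
          exact h1.trans bot_le
        · have hNq : IsPGroup (q : ℕ) N := (Solv.pCore_isPGroup (G := K) (q : ℕ)).to_le (inf_eq_left.1 h)
          haveI := hNq.isNilpotent
          exact (hsol inferInstance).elim
    rw [hgf]
    refine ⟨hNs, hNna, fun hdvd => ?_⟩
    -- the index is prime to p
    set Q : Subgroup K := (P : Subgroup K) ⊓ N with hQdef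
    have hQsyl : Fusion.SylIn p Q N := (Fusion.sylIn_top P).inf_normal le_top
      (Subgroup.normalizer_eq_top_iff.2 hNn).ge
    have hQne : ¬ (P : Subgroup K) ≤ N := fun hle =>
      P.not_dvd_index (hdvd.trans (Subgroup.index_dvd_of_le hle))
    have hNnot : ¬ HasNormalPComplement p N := fun hn => by
      have h1 := Fusion.hnpc_iff.1 hn
      rcases (inferInstance : (pResidual p N).Normal).eq_bot_or_eq_top with h | h
      · have hpg : IsPGroup p N := (Fusion.isPGroup_quotient_pResidual (p := p) (G := N)).of_equiv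
          ((QuotientGroup.quotientMulEquivOfEq h).trans QuotientGroup.quotientBot)
        haveI := hpg.isNilpotent
        exact hsol inferInstance
      · rw [h, Subgroup.card_top] at h1
        exact hpp.one_lt.ne (Nat.eq_one_of_dvd_coprimes h1 hpN dvd_rfl).symm
    obtain ⟨SN, hSN⟩ := hQsyl.exists_sylow_subgroupOf
    have hex : ∃ R : Subgroup K, R ≤ Q ∧ ∃ g ∈ N, g ∈ Subgroup.normalizer (R : Set K) ∧ (orderOf g).Coprime p ∧
        g ∉ Subgroup.centralizer (R : Set K) := by
      by_contra hno
      push Not at hno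
      refine hNnot (Fusion.hnpc_of_centralize (Fusion.sylIn_top SN) fun R hR g hgN hgp => ?_)
      have hRQ : R.map N.subtype ≤ Q := by
        rintro _ ⟨w, hw, rfl⟩
        have := hR hw
        rw [hSN] at this
        exact this
      have h1 := hno _ hRQ (g : K) g.2 (Subgroup.mem_normalizer_fintype
          (S := ((R.map N.subtype : Subgroup K) : Set K)) fun u hu => by
        obtain ⟨w, hw, rfl⟩ := hu
        exact ⟨g * w * g⁻¹, (Subgroup.mem_normalizer_iff.1 hgN w).1 hw, by simp⟩) (by rwa [Subgroup.orderOf_coe])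
      exact Subgroup.mem_centralizer_iff.2 fun w hw => Subtype.ext (Subgroup.mem_centralizer_iff.1 h1 w ⟨w, hw, rfl⟩)
    obtain ⟨R, hRQ, g, hgN, hgR, hgp, hgC⟩ := hex
    obtain ⟨r, hr, hr1⟩ : ∃ r ∈ R, r ≠ 1 := by
      by_contra hno
      push Not at hno
      exact hgC (Subgroup.mem_centralizer_iff.2 fun w hw => by rw [hno w hw, one_mul, mul_one])
    obtain ⟨j, hj⟩ := IsPGroup.iff_orderOf.1 (hQsyl.isPGroup.to_le hRQ) ⟨r, hr⟩
    rw [Subgroup.orderOf_mk] at hj
    have hj0 : j ≠ 0 := fun h => hr1 (orderOf_eq_one_iff.1 (by rw [hj, h, pow_zero]))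
    set z := r ^ p ^ (j - 1)
    have hzo : orderOf z = p := by
      rw [orderOf_pow' _ (pow_ne_zero _ hpp.ne_zero), hj, Nat.gcd_eq_right (pow_dvd_pow p (by omega)),
        Nat.pow_div (by omega) hpp.pos, show j - (j - 1) = 1 by omega, pow_one]
    set C := Subgroup.centralizer (R : Set K) with hCdef
    have hPC : (P : Subgroup K) ≤ C := fun x hx => Subgroup.mem_centralizer_iff.2 fun w hw =>
      Solv.CyclicDichotomy.comm_of_cyclic hP ((Subgroup.mem_inf.1 (hRQ hw)).1) hx
    have hCnpc : HasNormalPComplement p C := hcentre z hzo C fun h hh =>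
      (Subgroup.mem_centralizer_iff.1 hh z (pow_mem hr _)).symm
    have hgCn : g ∈ Subgroup.normalizer ((C : Subgroup K) : Set K) := by
      refine Subgroup.mem_normalizer_fintype (S := (C : Set K)) fun u hu => Subgroup.mem_centralizer_iff.2 fun w hw => ?_
      have h1 := Subgroup.mem_centralizer_iff.1 hu (g⁻¹ * w * g) (by
        have := (Subgroup.mem_normalizer_iff.1 (inv_mem hgR) w).1 hw
        rwa [inv_inv] at this)
      calc w * (g * u * g⁻¹) = g * ((g⁻¹ * w * g) * u) * g⁻¹ := by group
        _ = g * u * g⁻¹ * w := by rw [h1]; group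
    obtain ⟨c, hc, hcg⟩ := Fusion.frattini_conj (H := Subgroup.normalizer ((C : Subgroup K) : Set K))
      ((Fusion.sylIn_top P).mono hPC le_top) le_rfl hgCn
    -- the p'-part
    obtain ⟨u, v, hu, hv, huv, ⟨i, hui⟩, hvp⟩ := Solv.exists_ppart p (c * g)
    have huN := (Subgroup.zpowers_le.2 hcg) hu
    have hvN := (Subgroup.zpowers_le.2 hcg) hv
    have huP : u ∈ (P : Subgroup K) := Solv.CyclicDichotomy.mem_P_of_normalizer hui huN
    have hvC : v ∉ C := fun hvC => by
      have h1 : c * g ∈ C := huv ▸ mul_mem (hPC huP) hvC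
      exact hgC ((Subgroup.mul_mem_cancel_left _ hc).1 h1)
    have hvP : v ∉ Subgroup.centralizer ((P : Subgroup K) : Set K) := fun h =>
      hvC (Subgroup.centralizer_le (SetLike.coe_subset_coe.2 (hRQ.trans inf_le_left)) h)
    -- c normalises the image of P and centralizes it
    have hcomm : ∀ x ∈ (P : Subgroup K), x⁻¹ * (v * x * v⁻¹) ∈ N := by
      have hD := Fusion.hnpc_iff.1 hCnpc
      have hsyl : ∃ S : Sylow p C, (S : Subgroup C) = (P : Subgroup K).subgroupOf C :=
        ((Fusion.sylIn_top P).mono hPC le_top).exists_sylow_subgroupOf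
      obtain ⟨S, hS⟩ := hsyl
      have hsplit := Fusion.pResidual_sup_sylow (p := p) S
      have hmemc : (⟨c, hc⟩ : C) ∈ pResidual p C ⊔ (S : Subgroup C) := hsplit.ge (Subgroup.mem_top _)
      obtain ⟨d, hd, y, hy, hdy⟩ := Subgroup.mem_sup_of_normal_left.1 hmemc
      have hdy' : (d : K) * (y : K) = c := congrArg Subtype.val hdy
      have hyP : (y : K) ∈ (P : Subgroup K) := by rw [hS] at hy; exact hy
      let π := QuotientGroup.mk' N
      have key : ∀ x ∈ (P : Subgroup K), Commute (π (c * g)) (π x) := by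
        intro x hx
        have hgN' : π g = 1 := (QuotientGroup.eq_one_iff g).2 hgN
        rw [map_mul, hgN', mul_one, ← hdy', map_mul]
        refine Commute.mul_left ?_ ((show Commute (y : K) x from Solv.CyclicDichotomy.comm_of_cyclic hP hyP hx).map π)
        -- conjugate of x by d lies in P N
        have hx' : c * x * c⁻¹ = (c * g) * (g⁻¹ * x * g) * (c * g)⁻¹ := by group
        have hdx : (d : K) * x * (d : K)⁻¹ = c * x * c⁻¹ := by
          rw [← hdy']
          calc (d : K) * x * (d : K)⁻¹ = (d : K) * (x * (y : K)) * (y : K)⁻¹ * (d : K)⁻¹ := by group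
            _ = _ := by rw [Solv.CyclicDichotomy.comm_of_cyclic hP hx hyP]; group
        have h1 : π ((d : K) * x * (d : K)⁻¹ * x⁻¹) ∈ (P : Subgroup K).map π := by
          have hcgx : (c * g) * x * (c * g)⁻¹ ∈ (P : Subgroup K) := (Subgroup.mem_normalizer_iff.1 hcg x).1 hx
          refine ⟨(c * g) * x * (c * g)⁻¹ * x⁻¹, mul_mem hcgx (inv_mem hx), ?_⟩
          rw [hdx]
          simp only [map_mul, map_inv, hgN', mul_one]
        have h2 : ⁅d, (⟨x, hPC hx⟩ : C)⁆ ∈ pResidual p C := by
          rw [commutatorElement_def, mul_assoc d, mul_assoc d]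
          exact mul_mem hd (Subgroup.Normal.conj_mem inferInstance _ (inv_mem hd) _)
        set w := (d : K) * x * (d : K)⁻¹ * x⁻¹ with hw
        have hwo : (orderOf w).Coprime p := by
          have e : w = ((⁅d, (⟨x, hPC hx⟩ : C)⁆ : C) : K) := by simp [hw, commutatorElement_def]
          rw [e, Subgroup.orderOf_coe]
          exact hD.coprime_dvd_left (Subgroup.orderOf_dvd_natCard _ h2)
        obtain ⟨l, hl⟩ := IsPGroup.iff_orderOf.1 (P.isPGroup'.map π) ⟨π w, h1⟩
        rw [Subgroup.orderOf_mk] at hl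
        have h3 : π w = 1 := orderOf_eq_one_iff.1 (Nat.eq_one_of_dvd_coprimes (Nat.Coprime.pow_right l hwo)
          (orderOf_map_dvd π w) (dvd_of_eq hl))
        rw [hw] at h3
        simp only [map_mul, map_inv] at h3
        show π (d : K) * π x = π x * π (d : K)
        exact mul_inv_eq_iff_eq_mul.1 (mul_inv_eq_one.1 h3)
      intro x hx
      obtain ⟨k, hk⟩ := Subgroup.mem_zpowers_iff.1 hv
      rw [← QuotientGroup.eq_one_iff]
      show π (x⁻¹ * (v * x * v⁻¹)) = 1
      rw [map_mul, map_mul, map_mul, map_inv, map_inv, ← hk, map_zpow, ((key x hx).zpow_left k).eq,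
        mul_inv_cancel_right, inv_mul_cancel]
    -- v fixes the element of order p
    haveI := hP
    obtain ⟨x₀, hx₀⟩ := IsCyclic.exists_generator (α := (P : Subgroup K))
    obtain ⟨a, ha⟩ := IsPGroup.iff_card.1 P.isPGroup'
    have hx₀o : orderOf (x₀ : K) = p ^ a := by
      rw [Subgroup.orderOf_coe, orderOf_eq_card_of_forall_mem_zpowers hx₀, ha]
    set q := (x₀ : K)⁻¹ * (v * x₀ * v⁻¹) with hqdef
    have hqQ : q ∈ Q := Subgroup.mem_inf.2
      ⟨mul_mem (inv_mem x₀.2) ((Subgroup.mem_normalizer_iff.1 hvN _).1 x₀.2), hcomm _ x₀.2⟩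
    obtain ⟨b, hbQ⟩ := IsPGroup.iff_card.1 hQsyl.isPGroup
    have hba : b < a := by
      by_contra h
      refine hQne fun x hx => ?_
      have he : Q = (P : Subgroup K) := Subgroup.eq_of_le_of_card_ge inf_le_left (by
        rw [hbQ, ha]; exact Nat.pow_le_pow_right hpp.pos (not_lt.1 h))
      exact (Subgroup.mem_inf.1 (he.ge hx)).2
    have hqm : q ^ p ^ (a - 1) = 1 := by
      have h1 : q ^ p ^ b = 1 := by
        have := congrArg Subtype.val (pow_card_eq_one' (x := (⟨q, hqQ⟩ : Q)))
        rwa [hbQ] at this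
      rw [show a - 1 = b + (a - 1 - b) by omega, pow_add, pow_mul, h1, one_pow]
    set w := (x₀ : K) ^ p ^ (a - 1) with hwdef
    have hwo : w ≠ 1 := fun h => by
      have h1 := orderOf_dvd_of_pow_eq_one h
      rw [hx₀o, Nat.pow_dvd_pow_iff_le_right hpp.one_lt] at h1
      omega
    have hfix : v * w = w * v := by
      have hcm : Commute (x₀ : K) q := Solv.CyclicDichotomy.comm_of_cyclic hP x₀.2 (Subgroup.mem_inf.1 hqQ).1
      have h1 : v * w * v⁻¹ = w := by
        rw [hwdef, ← conj_pow, show v * (x₀ : K) * v⁻¹ = x₀ * q by rw [hqdef, mul_inv_cancel_left],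
          hcm.mul_pow, hqm, mul_one]
      nth_rewrite 2 [← h1]
      rw [inv_mul_cancel_right]
    exact hwo (Solv.CyclicDichotomy.fpf hP hvN hvP hvp (pow_mem x₀.2 _) hfix)

end Cfsg.Agent.S4403
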