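import Cfsg.Statements.S5061
import Mathlib

set_option autoImplicit false
open Cfsg

namespace Cfsg.Agent.S5061

variable {k : Type*} [Field k] {M : Type*} [AddCommGroup M] [Module k M]

local notation "GL'" => LinearMap.GeneralLinearGroup k M

/-- The endomorphism `g - 1`. -/
def dd (g : GL') : Module.End k M := (g : M →ₗ[k] M) - 1

/-- Spans of long products. -/
def Ap (T : Set GL') (m : ℕ) : Submodule k (Module.End k M) :=
  Submodule.span k {z | ∃ l : List GL', (∀ g ∈ l, g ∈ T) ∧ m ≤ l.length ∧ (l.map dd).prod = z}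

theorem Ap_mono {T T' : Set GL'} (h : T ⊆ T') (m : ℕ) : Ap T m ≤ Ap T' m :=
  Submodule.span_mono fun z ⟨l, h1, h2, h3⟩ => ⟨l, fun g hg => h (h1 g hg), h2, h3⟩

theorem Ap_anti (T : Set GL') {m m' : ℕ} (h : m ≤ m') : Ap T m' ≤ Ap T m :=
  Submodule.span_mono fun z ⟨l, h1, h2, h3⟩ => ⟨l, h1, h.trans h2, h3⟩

theorem Ap_mul {T : Set GL'} {a b : ℕ} {x y : Module.End k M} (hx : x ∈ Ap T a) (hy : y ∈ Ap T b) :
    x * y ∈ Ap T (a + b) := by
  induction hx using Submodule.span_induction with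
  | mem x hx =>
    induction hy using Submodule.span_induction with
    | mem y hy =>
      obtain ⟨l, h1, h2, rfl⟩ := hx
      obtain ⟨l', h1', h2', rfl⟩ := hy
      exact Submodule.subset_span ⟨l ++ l', fun g hg => (List.mem_append.mp hg).elim (h1 g) (h1' g),
        by rw [List.length_append]; omega, by rw [List.map_append, List.prod_append]⟩
    | zero => rw [mul_zero]; exact zero_mem _
    | add y y' _ _ ih ih' => rw [mul_add]; exact add_mem ih ih'
    | smul c y _ ih => rw [mul_smul_comm]; exact Submodule.smul_mem _ _ ih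
  | zero => rw [zero_mul]; exact zero_mem _
  | add x x' _ _ ih ih' => rw [add_mul]; exact add_mem ih ih'
  | smul c x _ ih => rw [smul_mul_assoc]; exact Submodule.smul_mem _ _ ih

theorem dd_mem {T : Set GL'} {g : GL'} (hg : g ∈ T) : dd g ∈ Ap T 1 :=
  Submodule.subset_span ⟨[g], by simp [hg], le_rfl, by simp⟩

theorem list_mem {T : Set GL'} : ∀ l : List GL', (∀ g ∈ l, dd g ∈ Ap T 1) → (l.map dd).prod ∈ Ap T l.length
  | [], _ => Submodule.subset_span ⟨[], by simp, le_rfl, rfl⟩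
  | g :: l, h => by
    rw [List.map_cons, List.prod_cons, List.length_cons, add_comm]
    exact Ap_mul (h g List.mem_cons_self) (list_mem l fun a ha => h a (List.mem_cons_of_mem _ ha))

/-- A set acting unipotently. -/
def Uni (T : Set GL') : Prop := ∃ n, Ap T n = ⊥

theorem uni_of_prod {T : Set GL'} {n : ℕ}
    (h : ∀ l : List GL', (∀ g ∈ l, g ∈ T) → l.length = n → (l.map dd).prod = 0) : Uni T := by
  refine ⟨n, Submodule.span_eq_bot.mpr ?_⟩
  rintro z ⟨l, h1, h2, rfl⟩
  rw [← List.take_append_drop n l, List.map_append, List.prod_append,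
    h (l.take n) (fun g hg => h1 g (List.mem_of_mem_take hg)) (by rw [List.length_take]; omega), zero_mul]

theorem Uni.mono {T T' : Set GL'} (h : T ⊆ T') (hT : Uni T') : Uni T := by
  obtain ⟨n, hn⟩ := hT
  exact ⟨n, le_bot_iff.mp (hn ▸ Ap_mono h n)⟩

theorem uni_of_isUnipotentOn {H : Subgroup GL'} (h : IsUnipotentOn H) : Uni (H : Set GL') := by
  obtain ⟨n, hn⟩ := h
  refine uni_of_prod (n := n) fun l hl hlen => ?_
  have h' := hn l hl hlen
  simp [dd, Function.comp_def, List.map_flatMap, ← List.map_eq_flatMap] at h' ⊢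
  exact h'

theorem uni_of_le {T : Set GL'} {T' : Set GL'} (hT : Uni T) (h : ∀ g ∈ T', dd g ∈ Ap T 1) : Uni T' := by
  obtain ⟨n, hn⟩ := hT
  refine uni_of_prod (n := n) fun l hl hlen => ?_
  have := list_mem l fun g hg => h g (hl g hg)
  rw [hlen, hn] at this
  exact this

theorem coe_mul_inv (g : GL') : (g : M →ₗ[k] M) * ((g⁻¹ : GL') : M →ₗ[k] M) = 1 := by
  rw [← Units.val_mul, mul_inv_cancel, Units.val_one]

theorem coe_inv_mul (g : GL') : ((g⁻¹ : GL') : M →ₗ[k] M) * (g : M →ₗ[k] M) = 1 := by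
  rw [← Units.val_mul, inv_mul_cancel, Units.val_one]

/-- The inverse deviation lies in every multiplicatively closed subspace containing the deviation. -/
theorem inv_mem_of {g : GL'} {P : Submodule k (Module.End k M)} (hP : ∀ a ∈ P, ∀ b ∈ P, a * b ∈ P)
    (hg : dd g ∈ P) {n : ℕ} (hn : dd g ^ n = 0) : dd g⁻¹ ∈ P := by
  set u := dd g with hu
  have hpow : ∀ i : ℕ, (-u) ^ (i + 1) ∈ P := fun i => by
    induction i with
    | zero => rw [pow_one]; exact P.neg_mem hg
    | succ i ih => rw [pow_succ]; exact hP _ ih _ (P.neg_mem hg)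
  have hgeo : ((g⁻¹ : GL') : M →ₗ[k] M) = ∑ i ∈ Finset.range (n + 1), (-u) ^ i := by
    have h1 := mul_geom_sum (-u) (n + 1)
    have h2 : (-u) ^ (n + 1) = 0 := by rw [neg_pow, pow_succ u, hn, zero_mul, mul_zero]
    have h3 : (-u) - 1 = -(g : M →ₗ[k] M) := by rw [hu, dd]; abel
    rw [h2, h3, zero_sub, neg_mul, neg_inj] at h1
    calc ((g⁻¹ : GL') : M →ₗ[k] M) = ((g⁻¹ : GL') : M →ₗ[k] M) * 1 := (mul_one _).symm
      _ = _ := by rw [← h1, ← mul_assoc, coe_inv_mul, one_mul]
  have e : dd g⁻¹ = ∑ i ∈ Finset.range n, (-u) ^ (i + 1) := by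
    rw [dd, hgeo, Finset.sum_range_succ', pow_zero, add_sub_cancel_right]
  rw [e]
  exact P.sum_mem fun i _ => hpow i

theorem dd_mul (g h : GL') : dd (g * h) = dd g * dd h + dd g + dd h := by
  simp only [dd, Units.val_mul]; noncomm_ring

theorem dd_conj (h x : GL') : dd (h * x * h⁻¹) = (h : M →ₗ[k] M) * dd x * ((h⁻¹ : GL') : M →ₗ[k] M) := by
  simp only [dd, Units.val_mul, mul_sub, sub_mul, mul_one, coe_mul_inv]

theorem prod_conj (h : GL') : ∀ l : List GL',
    (h : M →ₗ[k] M) * (l.map dd).prod * ((h⁻¹ : GL') : M →ₗ[k] M) =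
      ((l.map fun x => h * x * h⁻¹).map dd).prod
  | [] => by simp only [List.map_nil, List.prod_nil, mul_one]; exact coe_mul_inv h
  | x :: l => by
    simp only [List.map_cons, List.prod_cons]
    rw [← prod_conj h l, dd_conj]
    simp only [mul_assoc]
    rw [← mul_assoc ((h⁻¹ : GL') : M →ₗ[k] M), coe_inv_mul, one_mul]

variable (D : Set (LinearMap.GeneralLinearGroup k M))

/-- Saturated unipotent subsets. -/
def Sat (T : Set GL') : Prop := T ⊆ D ∧ Uni T ∧ ∀ g ∈ D, dd g ∈ Ap T 1 → g ∈ T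

variable {D}

theorem sat_hull {U : Set GL'} (hU : U ⊆ D) (hu : Uni U) :
    Sat D {g | g ∈ D ∧ dd g ∈ Ap U 1} ∧ U ⊆ {g | g ∈ D ∧ dd g ∈ Ap U 1} := by
  refine ⟨⟨fun g hg => hg.1, uni_of_le hu fun g hg => hg.2, fun g hg hd => ⟨hg, ?_⟩⟩, fun g hg => ⟨hU hg, dd_mem hg⟩⟩
  refine (Submodule.span_le.mpr ?_) hd
  rintro z ⟨l, h1, h2, rfl⟩
  exact Ap_anti U h2 (list_mem l fun a ha => (h1 a ha).2)

theorem exists_maximal_sat [FiniteDimensional k M] {U : Set GL'} (hU : U ⊆ D) (hu : Uni U) :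
    ∃ T, Sat D T ∧ U ⊆ T ∧ ∀ T', Sat D T' → T ⊆ T' → T' = T := by
  obtain ⟨S, ⟨T, hT, hUT, rfl⟩, hmax⟩ := (wellFounded_gt (α := Submodule k (Module.End k M))).has_min
    {S | ∃ T, Sat D T ∧ U ⊆ T ∧ Ap T 1 = S} ⟨_, _, (sat_hull (D := D) hU hu).1, (sat_hull (D := D) hU hu).2, rfl⟩
  refine ⟨T, hT, hUT, fun T' hT' hle => ?_⟩
  have heq : Ap T 1 = Ap T' 1 := by
    refine (eq_or_lt_of_le (Ap_mono hle 1)).resolve_right fun hlt => hmax _ ⟨T', hT', hUT.trans hle, rfl⟩ hlt
  exact Set.Subset.antisymm (fun g hg => hT.2.2 g (hT'.1 hg) (heq ▸ dd_mem hg)) hle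

/-- Some element outside a smaller saturated set normalises it. -/
theorem exists_normalising (hconj : ∀ h ∈ D, ∀ x ∈ D, h * x * h⁻¹ ∈ D) {I T : Set GL'} (hI : Sat D I)
    (hT : Sat D T) (hIT : I ⊆ T) (hne : ¬ T ⊆ I) : ∃ h ∈ T, h ∉ I ∧ ∀ x ∈ I, h * x * h⁻¹ ∈ I := by
  by_contra hno
  simp only [not_exists, not_and] at hno
  obtain ⟨n, hn⟩ := hT.2.1
  have hsub : Ap I 1 ≤ Ap T 1 := Ap_mono hIT 1
  have key : ∀ m, ∃ h ∈ T, h ∉ I ∧ dd h ∈ Ap I 1 ⊔ Ap T (m + 1) := by
    intro m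
    induction m with
    | zero =>
      obtain ⟨h, hh, hhI⟩ := Set.not_subset.mp hne
      exact ⟨h, hh, hhI, le_sup_right (α := Submodule k (Module.End k M)) (dd_mem hh)⟩
    | succ m ih =>
      obtain ⟨h, hhT, hhI, hd⟩ := ih
      obtain ⟨x, hx⟩ := not_forall.mp (hno h hhT hhI)
      obtain ⟨hxI, hx'⟩ := Classical.not_imp.mp hx
      have hclosed : ∀ a ∈ Ap I 1 ⊔ Ap T (m + 1), ∀ b ∈ Ap I 1 ⊔ Ap T (m + 1),
          a * b ∈ Ap I 1 ⊔ Ap T (m + 1) := by
        intro a ha b hb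
        obtain ⟨p, hp, q, hq, rfl⟩ := Submodule.mem_sup.mp ha
        obtain ⟨p', hp', q', hq', rfl⟩ := Submodule.mem_sup.mp hb
        rw [add_mul, mul_add, mul_add]
        refine add_mem (add_mem (Submodule.mem_sup_left (Ap_anti I (by omega) (Ap_mul hp hp')))
          (Submodule.mem_sup_right (Ap_anti T (by omega) (Ap_mul (hsub hp) hq')))) (add_mem
          (Submodule.mem_sup_right (Ap_anti T (by omega) (Ap_mul hq (hsub hp'))))
          (Submodule.mem_sup_right (Ap_anti T (by omega) (Ap_mul hq hq'))))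
      have hnil : dd h ^ n = 0 := by
        have := list_mem (List.replicate n h) fun g hg => (List.eq_of_mem_replicate hg) ▸ dd_mem hhT
        rw [List.map_replicate, List.prod_replicate, List.length_replicate, hn] at this
        exact this
      have hv := inv_mem_of hclosed hd hnil
      have hy : dd x ∈ Ap I 1 := dd_mem hxI
      have hform : dd (h * x * h⁻¹) = dd x + (dd h * dd x - dd x * dd h) * (1 + dd h⁻¹) := by
        have h1 : (h : M →ₗ[k] M) = 1 + dd h := by simp [dd]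
        have h2 : ((h⁻¹ : GL') : M →ₗ[k] M) = 1 + dd h⁻¹ := by simp [dd]
        have h3 : (1 + dd h) * (1 + dd h⁻¹) = 1 := by rw [← h1, ← h2, coe_mul_inv]
        rw [dd_conj, h1, h2]
        have e : (1 + dd h) * dd x * (1 + dd h⁻¹) =
            dd x * ((1 + dd h) * (1 + dd h⁻¹)) + (dd h * dd x - dd x * dd h) * (1 + dd h⁻¹) := by
          noncomm_ring
        rw [e, h3, mul_one]
      obtain ⟨p, hp, q, hq, hpq⟩ := Submodule.mem_sup.mp hd
      obtain ⟨p', hp', q', hq', hpq'⟩ := Submodule.mem_sup.mp hv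
      have hmem : dd (h * x * h⁻¹) ∈ Ap I 1 ⊔ Ap T (m + 1 + 1) := by
        rw [hform, ← hpq, ← hpq']
        have e : ((p + q) * dd x - dd x * (p + q)) * (1 + (p' + q')) =
            ((p * dd x - dd x * p) + (p * dd x - dd x * p) * p') + ((p * dd x - dd x * p) * q' +
            ((q * dd x - dd x * q) + ((q * dd x - dd x * q) * p' + (q * dd x - dd x * q) * q'))) := by
          noncomm_ring
        rw [e]
        have hpy : p * dd x - dd x * p ∈ Ap I 1 :=
          Ap_anti I (by omega) (sub_mem (Ap_mul hp hy) (Ap_mul hy hp))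
        have hqy : q * dd x - dd x * q ∈ Ap T (m + 1 + 1) := by
          refine sub_mem (Ap_mul hq (hsub hy)) ?_
          rw [add_comm (m + 1) 1]
          exact Ap_mul (hsub hy) hq
        refine add_mem (Submodule.mem_sup_left hy) (add_mem (Submodule.mem_sup_left
          (add_mem hpy (Ap_anti I (by omega) (Ap_mul hpy hp')))) (Submodule.mem_sup_right (add_mem
            (Ap_anti T (by omega) (Ap_mul (hsub hpy) hq')) (add_mem hqy (add_mem
              (Ap_anti T (by omega) (Ap_mul hqy (hsub hp'))) (Ap_anti T (by omega) (Ap_mul hqy hq')))))))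
      have hle : Ap I 1 ⊔ Ap T (m + 1 + 1) ≤ Ap T 1 := sup_le hsub (Ap_anti T (by omega))
      exact ⟨_, hT.2.2 _ (hconj h (hT.1 hhT) x (hI.1 hxI)) (hle hmem), hx', hmem⟩
  obtain ⟨h, hhT, hhI, hd⟩ := key n
  rw [show Ap T (n + 1) = ⊥ from le_bot_iff.mp ((Ap_anti T (Nat.le_succ n)).trans hn.le), sup_bot_eq] at hd
  exact hhI (hI.2.2 h (hT.1 hhT) hd)

theorem uni_union {I P : Set GL'} (hI : Uni I) (hP : Uni P) (hn : ∀ h ∈ P, ∀ x ∈ I, h * x * h⁻¹ ∈ I) :
    Uni (I ∪ P) := by
  classical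
  obtain ⟨n, hn0⟩ := hI
  obtain ⟨r, hr⟩ := hP
  let Wk : ℕ → Submodule k M := fun j => Submodule.span k {w | ∃ z ∈ Ap I j, ∃ m : M, z m = w}
  have hconjAp : ∀ h ∈ P, ∀ j, ∀ z ∈ Ap I j,
      (h : M →ₗ[k] M) * z * ((h⁻¹ : GL') : M →ₗ[k] M) ∈ Ap I j := by
    intro h hh j z hz
    induction hz using Submodule.span_induction with
    | mem z hz =>
      obtain ⟨l, h1, h2, rfl⟩ := hz
      rw [prod_conj]
      refine Submodule.subset_span ⟨_, fun g hg => ?_, by simpa using h2, rfl⟩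
      obtain ⟨x, hx, rfl⟩ := List.mem_map.mp hg
      exact hn h hh x (h1 x hx)
    | zero => simp
    | add a b _ _ iha ihb => rw [mul_add, add_mul]; exact add_mem iha ihb
    | smul c a _ ih => rw [mul_smul_comm, smul_mul_assoc]; exact Submodule.smul_mem _ _ ih
  have hstepI : ∀ x ∈ I, ∀ j, ∀ w ∈ Wk j, dd x w ∈ Wk (j + 1) := by
    intro x hx j w hw
    induction hw using Submodule.span_induction with
    | mem w hw =>
      obtain ⟨z, hz, m, rfl⟩ := hw
      refine Submodule.subset_span ⟨dd x * z, ?_, m, rfl⟩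
      rw [add_comm]; exact Ap_mul (dd_mem hx) hz
    | zero => rw [map_zero]; exact zero_mem _
    | add a b _ _ iha ihb => rw [map_add]; exact add_mem iha ihb
    | smul c a _ ih => rw [map_smul]; exact Submodule.smul_mem _ _ ih
  have hkeep : ∀ g ∈ I ∪ P, ∀ j, ∀ w ∈ Wk j, dd g w ∈ Wk j := by
    intro g hg j w hw
    rcases hg with hg | hg
    · refine (Submodule.span_mono ?_) (hstepI g hg j w hw)
      rintro _ ⟨z, hz, m, rfl⟩
      exact ⟨z, Ap_anti I (Nat.le_succ j) hz, m, rfl⟩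
    · induction hw using Submodule.span_induction with
      | mem w hw =>
        obtain ⟨z, hz, m, rfl⟩ := hw
        change (g : M →ₗ[k] M) (z m) - z m ∈ Wk j
        refine sub_mem (Submodule.subset_span ⟨_, hconjAp g hg j z hz, (g : M →ₗ[k] M) m, ?_⟩)
          (Submodule.subset_span ⟨z, hz, m, rfl⟩)
        have : ((g⁻¹ : GL') : M →ₗ[k] M) ((g : M →ₗ[k] M) m) = m :=
          congrArg (fun f : M →ₗ[k] M => f m) (coe_inv_mul g)
        simp only [Module.End.mul_apply, this]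
      | zero => rw [map_zero]; exact zero_mem _
      | add a b _ _ iha ihb => rw [map_add]; exact add_mem iha ihb
      | smul c a _ ih => rw [map_smul]; exact Submodule.smul_mem _ _ ih
  have hkeepL : ∀ (l : List GL'), (∀ g ∈ l, g ∈ I ∪ P) → ∀ j, ∀ w ∈ Wk j, (l.map dd).prod w ∈ Wk j := by
    intro l hl
    induction l with
    | nil => intro j w hw; simpa using hw
    | cons g l ih =>
      intro j w hw
      rw [List.map_cons, List.prod_cons]
      exact hkeep g (hl g List.mem_cons_self) j _ (ih (fun a ha => hl a (List.mem_cons_of_mem _ ha)) j w hw)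
  have main : ∀ j, ∀ l : List GL', (∀ g ∈ l, g ∈ I ∪ P) → j * r ≤ l.length →
      ∀ m, (l.map dd).prod m ∈ Wk j := by
    intro j
    induction j with
    | zero =>
      intro l _ _ m
      exact Submodule.subset_span ⟨1, Submodule.subset_span ⟨[], by simp, le_rfl, by simp⟩, _, rfl⟩
    | succ j ih =>
      intro l hl hlen m
      rw [Nat.succ_mul] at hlen
      rw [← List.take_append_drop r l, List.map_append, List.prod_append, Module.End.mul_apply]
      have hw := ih (l.drop r) (fun g hg => hl g (List.mem_of_mem_drop hg))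
        (by rw [List.length_drop]; omega) m
      by_cases hex : ∃ x ∈ l.take r, x ∈ I
      · obtain ⟨x, hx, hxI⟩ := hex
        obtain ⟨s, t, hst⟩ := List.append_of_mem hx
        have hs : ∀ g ∈ s ++ x :: t, g ∈ I ∪ P := fun g hg => hl g (List.mem_of_mem_take (hst ▸ hg))
        rw [hst, List.map_append, List.prod_append, List.map_cons, List.prod_cons, Module.End.mul_apply,
          Module.End.mul_apply]
        exact hkeepL s (fun g hg => hs g (by simp [hg])) _ _ (hstepI x hxI j _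
          (hkeepL t (fun g hg => hs g (by simp [hg])) j _ hw))
      · have h0 : ((l.take r).map dd).prod ∈ Ap P r :=
          Submodule.subset_span ⟨_, fun g hg => ((hl g (List.mem_of_mem_take hg)).resolve_left
            fun h => hex ⟨g, hg, h⟩), by rw [List.length_take]; omega, rfl⟩
        rw [hr, Submodule.mem_bot] at h0
        rw [h0, LinearMap.zero_apply]
        exact zero_mem _
  refine uni_of_prod (n := n * r) fun l hl hlen => LinearMap.ext fun m => ?_
  have h := main n l hl hlen.ge m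
  have hW : Wk n = ⊥ := Submodule.span_eq_bot.mpr (by
    rintro _ ⟨z, hz, m, rfl⟩
    rw [hn0, Submodule.mem_bot] at hz
    rw [hz, LinearMap.zero_apply])
  rw [hW, Submodule.mem_bot] at h
  exact h

theorem uni_all [FiniteDimensional k M] (hconj : ∀ h ∈ D, ∀ x ∈ D, h * x * h⁻¹ ∈ D)
    (hpair : ∀ g ∈ D, ∀ h ∈ D, Uni ({g, h} : Set GL')) : Uni D := by
  obtain ⟨M0, hM0, -, hmax0⟩ := exists_maximal_sat (Set.empty_subset D)
    (uni_of_prod (T := (∅ : Set GL')) (n := 1) fun l hl hlen => by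
      obtain ⟨g, rfl⟩ := List.length_eq_one_iff.mp hlen
      exact absurd (hl g (by simp)) (by simp))
  have huniq : ∀ T, Sat D T → (∀ T', Sat D T' → T ⊆ T' → T' = T) → T = M0 := by
    by_contra hno
    simp only [not_forall] at hno
    obtain ⟨T0, hT0, hT0max, hT0ne⟩ := hno
    obtain ⟨S, ⟨T1, T2, hT1, hT1m, hT2, hT2m, hne, rfl⟩, hmax⟩ :=
      (wellFounded_gt (α := Submodule k (Module.End k M))).has_min
      {S | ∃ T1 T2, Sat D T1 ∧ (∀ T', Sat D T' → T1 ⊆ T' → T' = T1) ∧ Sat D T2 ∧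
        (∀ T', Sat D T' → T2 ⊆ T' → T' = T2) ∧ T1 ≠ T2 ∧ Ap (T1 ∩ T2) 1 = S}
      ⟨_, T0, M0, hT0, hT0max, hM0, hmax0, hT0ne, rfl⟩
    have hI : Sat D (T1 ∩ T2) := ⟨fun g hg => hT1.1 hg.1, hT1.2.1.mono Set.inter_subset_left,
      fun g hg hd => ⟨hT1.2.2 g hg (Ap_mono Set.inter_subset_left 1 hd),
        hT2.2.2 g hg (Ap_mono Set.inter_subset_right 1 hd)⟩⟩
    obtain ⟨h1, h1T, h1I, h1n⟩ := exists_normalising hconj hI hT1 Set.inter_subset_left
      (fun h => hne (hT1m T2 hT2 (h.trans Set.inter_subset_right)).symm)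
    obtain ⟨h2, h2T, h2I, h2n⟩ := exists_normalising hconj hI hT2 Set.inter_subset_right
      (fun h => hne (hT2m T1 hT1 (h.trans Set.inter_subset_left)))
    have hu : Uni ((T1 ∩ T2) ∪ {h1, h2}) := uni_union hI.2.1 (hpair h1 (hT1.1 h1T) h2 (hT2.1 h2T)) (by
      rintro h (rfl | rfl)
      · exact h1n
      · exact h2n)
    obtain ⟨T3, hT3, hUT3, hT3m⟩ := exists_maximal_sat (D := D) (Set.union_subset hI.1
      (by rintro g (rfl | rfl); exacts [hT1.1 h1T, hT2.1 h2T])) hu
    have hlt : ∀ (T : Set GL') (g : GL'), g ∈ T → g ∈ T3 → g ∉ T1 ∩ T2 → g ∈ D → T1 ∩ T2 ⊆ T →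
        Ap (T1 ∩ T2) 1 < Ap (T ∩ T3) 1 := fun T g hgT hg3 hgI hgD hsub => by
      refine lt_of_le_of_ne (Ap_mono (Set.subset_inter hsub (Set.subset_union_left.trans hUT3)) 1) fun he => ?_
      exact hgI (hI.2.2 g hgD (he ▸ dd_mem (T := T ∩ T3) ⟨hgT, hg3⟩))
    have e1 : T1 = T3 := by
      by_contra h13
      exact hmax _ ⟨T1, T3, hT1, hT1m, hT3, hT3m, h13, rfl⟩
        (hlt T1 h1 h1T (hUT3 (by simp)) h1I (hT1.1 h1T) Set.inter_subset_left)
    have e2 : T2 = T3 := by
      by_contra h23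
      exact hmax _ ⟨T2, T3, hT2, hT2m, hT3, hT3m, h23, rfl⟩
        (hlt T2 h2 h2T (hUT3 (by simp)) h2I (hT2.1 h2T) Set.inter_subset_right)
    exact hne (e1.trans e2.symm)
  refine hM0.2.1.mono fun g hg => ?_
  obtain ⟨T, hT, hgT, hTm⟩ := exists_maximal_sat (D := D) (U := {g}) (by simpa using hg)
    ((hpair g hg g hg).mono (by simp))
  exact huniq T hT hTm ▸ hgT rfl

/-- Let M be a finite-dimensional vector space over a field k, G ≤ GL(M), and 𝒲 a set of subgroups of G, invariant under conjugation by G, such that any two members of 𝒲 generate a subgroup acting unipotently on M (for some n all products of n endomorphisms g − 1 from it vanish). Then the subgroup generated by all members of 𝒲 acts unipotently on M and is normal in G. -/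
theorem result {k : Type*} [Field k] {M : Type*} [AddCommGroup M] [Module k M] [FiniteDimensional k M]
    {G : Subgroup (LinearMap.GeneralLinearGroup k M)} {W : Set (Subgroup (LinearMap.GeneralLinearGroup k M))} (hWG : ∀ A ∈ W, A ≤ G)
    (hWW : ∀ A ∈ W, ∀ B ∈ W, Cfsg.IsUnipotentOn (A ⊔ B)) (hWconj : ∀ A ∈ W, ∀ g ∈ G, Cfsg.conjBy A g ∈ W) :
    Cfsg.IsUnipotentOn (⨆ A ∈ W, A) ∧ ∀ g ∈ G, Cfsg.conjBy (⨆ A ∈ W, A) g = ⨆ A ∈ W, A := by
  classical
  let D : Set (LinearMap.GeneralLinearGroup k M) := {g | ∃ A ∈ W, g ∈ A}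
  have hcD : ∀ h ∈ D, ∀ x ∈ D, h * x * h⁻¹ ∈ D := by
    rintro h ⟨A, hA, hhA⟩ x ⟨B, hB, hxB⟩
    exact ⟨_, hWconj B hB h (hWG A hA hhA), ⟨x, hxB, rfl⟩⟩
  have hpair : ∀ g ∈ D, ∀ h ∈ D, Uni ({g, h} : Set (LinearMap.GeneralLinearGroup k M)) := by
    rintro g ⟨A, hA, hgA⟩ h ⟨B, hB, hhB⟩
    refine (uni_of_isUnipotentOn (hWW A hA B hB)).mono ?_
    rintro x (rfl | rfl)
    exacts [Subgroup.mem_sup_left hgA, Subgroup.mem_sup_right hhB]
  obtain ⟨n, hn⟩ := uni_all hcD hpair
  let K : Subgroup (LinearMap.GeneralLinearGroup k M) :=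
    { carrier := {g | dd g ∈ Ap D 1}
      one_mem' := by simp [dd]
      mul_mem' := fun {g h} hg hh => by
        change dd (g * h) ∈ Ap D 1
        rw [dd_mul]
        exact add_mem (add_mem (Ap_anti D (by omega) (Ap_mul hg hh)) hg) hh
      inv_mem' := fun {g} hg => by
        refine inv_mem_of (n := n) (fun a ha b hb => Ap_anti D (by omega) (Ap_mul ha hb)) hg ?_
        have := list_mem (T := D) (List.replicate n g) fun a ha => (List.eq_of_mem_replicate ha) ▸ hg
        rw [List.map_replicate, List.prod_replicate, List.length_replicate, hn] at this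
        exact this }
  have hle : (⨆ A ∈ W, A) ≤ K := iSup₂_le fun A hA g hg => dd_mem (T := D) ⟨A, hA, hg⟩
  refine ⟨⟨n, fun l hl hlen => ?_⟩, ?_⟩
  · have := list_mem (T := D) l fun g hg => hle (hl g hg)
    rw [hlen, hn] at this
    simp [dd, Function.comp_def, List.map_flatMap, ← List.map_eq_flatMap] at this ⊢
    exact this
  have hmap : ∀ g ∈ G, conjBy (⨆ A ∈ W, A) g ≤ ⨆ A ∈ W, A := fun g hg => by
    rw [conjBy, Subgroup.map_iSup]
    refine iSup_le fun A => ?_
    rw [Subgroup.map_iSup]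
    exact iSup_le fun hA => le_iSup₂_of_le _ (hWconj A hA g hg) le_rfl
  intro g hg
  refine le_antisymm (hmap g hg) fun x hx => ?_
  have := hmap g⁻¹ (inv_mem hg) (Subgroup.mem_map_of_mem _ hx)
  exact ⟨_, this, by simp [mul_assoc]⟩

end Cfsg.Agent.S5061
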