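import Cfsg.Statements.S0107
import Cfsg.Agent.Lib.Solv.DihedralSylowClasses
import Cfsg.Agent.Lib.Fusion.NPC

set_option autoImplicit false
open Cfsg
open Cfsg.Agent.Fusion
open scoped commutatorElement

namespace Cfsg.Agent.S0107

/-- A finite group with no nontrivial 2-group quotient and dihedral Sylow 2-subgroups of order at least 8 has a single class of involutions. -/
theorem result {G : Type*} [Group G] [Finite G] (T : Sylow 2 G) (n : ℕ) (hn : 2 ≤ n) (hT : Nonempty ((T : Subgroup G) ≃* DihedralGroup (2 ^ n))) (hO : Cfsg.pResidual 2 G = ⊤) (x y : G) (hx : orderOf x = 2) (hy : orderOf y = 2) : ∃ g : G, g * x * g⁻¹ = y := by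
  haveI : Fact (Nat.Prime 2) := ⟨Nat.prime_two⟩
  obtain ⟨e⟩ := hT
  haveI : NeZero (2 ^ n) := ⟨pow_ne_zero _ two_ne_zero⟩
  have hno : ∀ N : Subgroup G, N.Normal → N.index ≠ 2 := by
    intro N hN hi
    have h1 := pResidual_le_of_isPGroup_quotient (p := 2) (N := N)
      (IsPGroup.of_card (n := 1) (by rw [← Subgroup.index_eq_card, hi, pow_one]))
    rw [hO, top_le_iff] at h1
    rw [h1, Subgroup.index_top] at hi
    omega
  set ι : DihedralGroup (2 ^ n) →* G := (T : Subgroup G).subtype.comp e.symm.toMonoidHom with hι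
  have hinj : Function.Injective ι := (T : Subgroup G).subtype_injective.comp e.symm.injective
  have hrange : ι.range = (T : Subgroup G) := by
    rw [hι, MonoidHom.range_comp, MonoidHom.range_eq_top.2 e.symm.surjective,
      ← MonoidHom.range_eq_map, Subgroup.range_subtype]
  have h4 : 4 ∣ 2 ^ n := ⟨2 ^ (n - 2), by rw [show (4 : ℕ) = 2 ^ 2 from rfl, ← pow_add]; congr 1; omega⟩
  rcases Cfsg.Agent.Solv.DihedralClasses.main T h4 ι hinj hrange with
    ⟨h1, -⟩ | ⟨-, ⟨N, hN, hi⟩, -⟩ | ⟨-, hc⟩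
  · haveI := (Nat.card_eq_one_iff_unique.1 h1).1
    have := congrArg Subtype.val (Subsingleton.elim
      (⟨ConjClasses.mk x, x, rfl, hx⟩ : {C : ConjClasses G // ∃ g : G, ConjClasses.mk g = C ∧ orderOf g = 2})
      ⟨ConjClasses.mk y, y, rfl, hy⟩)
    exact isConj_iff.1 (ConjClasses.mk_eq_mk_iff_isConj.1 this)
  · exact absurd hi (hno N hN)
  · exfalso
    have h2 := hnpc_iff.1 hc
    rw [hO, Subgroup.card_top] at h2
    have h3 : Nat.card (DihedralGroup (2 ^ n)) ∣ Nat.card G :=
      (Nat.card_congr e.toEquiv) ▸ Subgroup.card_subgroup_dvd_card _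
    rw [DihedralGroup.nat_card] at h3
    exact absurd h2 (fun h => by
      have := Nat.Prime.coprime_iff_not_dvd Nat.prime_two |>.1 h.symm
      exact this ((dvd_mul_right 2 _).trans h3))

end Cfsg.Agent.S0107
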