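import Cfsg.Statements.S1255
import Cfsg.Agent.Lib.Fusion.DihedralCriteria

set_option autoImplicit false
open Cfsg
open Cfsg.Agent.Fusion
open scoped commutatorElement

namespace Cfsg.Agent.S1255

/-- Let X be a finite group whose Sylow 2-subgroup S is dihedral of order 2m ≥ 4. Then X has no subgroup of index 2 and no isolated involution if and only if either all involutions of X are conjugate, or for every Klein four-subgroup U ≤ S the index |N_X(U) : C_X(U)| equals 3 when |S| = 4 and equals 6 when |S| > 4. -/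
theorem result {X : Type*} [Group X] [Finite X] (S : Sylow 2 X) (m : ℕ) (hm : 2 ≤ m) (eS : (S : Subgroup X) ≃* DihedralGroup m) : ((∀ H : Subgroup X, H.index ≠ 2) ∧ (∀ z : X, ¬ Cfsg.IsIsolatedInvolution z)) ↔ ((∀ a b : X, orderOf a = 2 → orderOf b = 2 → IsConj a b) ∨ (∀ U : Subgroup X, U ≤ S → IsKleinFour U → (Subgroup.centralizer (U : Set X)).relIndex (Subgroup.normalizer (U : Set X)) = (if Nat.card S = 4 then 3 else 6))) := by
  haveI : Fact (Nat.Prime 2) := ⟨Nat.prime_two⟩
  haveI : NeZero m := ⟨by omega⟩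
  obtain ⟨hm2, hcases⟩ := DihedralFours.card_eq_two_pow S eS hm
  set ι : DihedralGroup m →* X := (S : Subgroup X).subtype.comp eS.symm.toMonoidHom with hιdef
  have hι : Function.Injective ι := (S : Subgroup X).subtype_injective.comp eS.symm.injective
  have hrange : ι.range = (S : Subgroup X) := by
    rw [hιdef, MonoidHom.range_comp, MonoidHom.range_eq_top.2 eS.symm.surjective,
      ← MonoidHom.range_eq_map, Subgroup.range_subtype]
  have hS2 : 2 ∣ Nat.card X := by
    refine dvd_trans ?_ (Subgroup.card_subgroup_dvd_card (S : Subgroup X))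
    rw [Nat.card_congr eS.toEquiv, DihedralGroup.nat_card]
    exact dvd_mul_right 2 m
  constructor
  · rintro ⟨hno, -⟩
    left
    intro a b ha hb
    refine ConjClasses.mk_eq_mk_iff_isConj.1 ?_
    rcases hcases with rfl | ⟨l, hl⟩
    · rcases klein_sylow_dichotomy S (DihedralFours.klein_of_dihedral_two _ eS) with ⟨-, hc⟩ | ⟨h1, -⟩
      · obtain ⟨M, hM⟩ := DihedralFours.index_two_of_hnpc (DihedralFours.hnpc_of_complement S hc) hS2
        exact absurd hM (hno M)
      · haveI := (Nat.card_eq_one_iff_unique.1 h1).1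
        exact congrArg Subtype.val (Subsingleton.elim
          (⟨_, a, ha, rfl⟩ : {C : ConjClasses X // ∃ g : X, orderOf g = 2 ∧ ConjClasses.mk g = C})
          ⟨_, b, hb, rfl⟩)
    · rcases Solv.DihedralClasses.main S ⟨l, hl⟩ ι hι hrange with ⟨h1, -⟩ | ⟨-, ⟨N, -, hi⟩, -⟩ | ⟨-, hc⟩
      · haveI := (Nat.card_eq_one_iff_unique.1 h1).1
        exact congrArg Subtype.val (Subsingleton.elim
          (⟨_, a, rfl, ha⟩ : {C : ConjClasses X // ∃ g : X, ConjClasses.mk g = C ∧ orderOf g = 2})
          ⟨_, b, rfl, hb⟩)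
      · exact absurd hi (hno N)
      · obtain ⟨M, hM⟩ := DihedralFours.index_two_of_hnpc hc hS2
        exact absurd hM (hno M)
  intro h
  set zD : DihedralGroup m := DihedralGroup.r ((m / 2 : ℕ) : ZMod m) with hzD
  have hzo : orderOf (ι zD) = 2 := by
    rw [orderOf_injective ι hι]
    refine orderOf_eq_prime ?_ fun e => ?_
    · rw [pow_two, hzD, DihedralGroup.r_mul_r, ← Nat.cast_add, show m / 2 + m / 2 = m by omega,
        ZMod.natCast_self]
      rfl
    · rw [hzD, DihedralGroup.one_def] at e
      exact DihedralFours.half_ne_zero hm2 (DihedralGroup.r.inj e)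
  have hso : ∀ i, orderOf (ι (DihedralGroup.sr i)) = 2 := fun i => by
    rw [orderOf_injective ι hι, DihedralGroup.orderOf_sr]
  have hall : ∀ a b : X, orderOf a = 2 → orderOf b = 2 → IsConj a b := by
    rcases h with h | h
    · exact h
    rcases hcases with rfl | ⟨l, hl⟩
    · have hK := DihedralFours.klein_of_dihedral_two _ eS
      have h1 := h S le_rfl hK
      rw [if_pos hK.card_four] at h1
      rcases klein_sylow_dichotomy S hK with ⟨-, hc⟩ | ⟨h2, -⟩
      · exfalso
        have h3 := DihedralFours.normalizer_eq_of_hnpc (DihedralFours.hnpc_of_complement S hc) S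
          (le_refl (S : Subgroup X))
        have h4 : (S : Subgroup X) ≤ Subgroup.centralizer ((S : Subgroup X) : Set X) := fun x hx =>
          Subgroup.mem_centralizer_iff.2 fun y hy => congrArg Subtype.val
            (IsKleinFour.isMulCommutative.is_comm.comm (⟨y, hy⟩ : (S : Subgroup X)) ⟨x, hx⟩)
        rw [Subgroup.relIndex_eq_one.2 (h3.le.trans (sup_le le_rfl (inf_le_left.trans h4)))] at h1
        omega
      · intro a b ha hb
        haveI := (Nat.card_eq_one_iff_unique.1 h2).1
        exact ConjClasses.mk_eq_mk_iff_isConj.1 (congrArg Subtype.val (Subsingleton.elim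
          (⟨_, a, ha, rfl⟩ : {C : ConjClasses X // ∃ g : X, orderOf g = 2 ∧ ConjClasses.mk g = C})
          ⟨_, b, hb, rfl⟩))
    have hS4 : ¬ Nat.card S = 4 := by
      rw [Nat.card_congr eS.toEquiv, DihedralGroup.nat_card]
      have := NeZero.ne m
      omega
    have hz : ∀ a, orderOf a = 2 → IsConj a (ι zD) := by
      intro a ha
      obtain ⟨c, -, hc⟩ := (sylIn_top S).conj_le
        (IsPGroup.of_card (p := 2) (n := 1) (by rw [Nat.card_zpowers, ha, pow_one]) :
          IsPGroup 2 (Subgroup.zpowers a)) le_top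
      obtain ⟨x, hx⟩ : c * a * c⁻¹ ∈ ι.range := hrange ▸ hc (conj_mem_cj (Subgroup.mem_zpowers a))
      have hax : IsConj a (ι x) := isConj_iff.2 ⟨c, hx.symm⟩
      refine hax.trans ?_
      have hxo : orderOf x = 2 := by
        rw [← orderOf_injective ι hι x, hx, show c * a * c⁻¹ = (MulAut.conj c).toMonoidHom a by simp,
          orderOf_injective _ (MulAut.conj c).injective, ha]
      rcases Solv.DihedralClasses.involution_cases' hxo with rfl | ⟨i, rfl⟩
      · exact IsConj.refl _
      set U := (DihedralFours.four m i).map ι with hU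
      have hUS : U ≤ S := hrange ▸ Subgroup.map_le_range _ _
      have h1 := h U hUS (DihedralFours.four_map_klein hm2 ι hι i)
      rw [if_neg hS4] at h1
      obtain ⟨n, hn, hnz⟩ := DihedralFours.exists_moving_of_relIndex S ι hl hι hrange i
        (by rw [← hU]; omega)
      obtain ⟨d, hd, hde⟩ : n * ι zD * n⁻¹ ∈ U := (Subgroup.mem_normalizer_iff.1 hn _).1
        (Subgroup.mem_map_of_mem _ ((DihedralFours.mem_four hm2 i _).2 (Or.inr (Or.inl rfl))))
      have hd1 : d ≠ 1 := fun e => by
        rw [e, map_one] at hde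
        rw [conj_eq_one_iff.1 hde.symm, orderOf_one] at hzo
        omega
      have hdz : d ≠ zD := fun e => hnz (by rw [← hde, e])
      have hzd : IsConj (ι zD) (ι d) := isConj_iff.2 ⟨n, hde.symm⟩
      refine IsConj.trans ?_ hzd.symm
      by_cases hsd : (DihedralGroup.sr i : DihedralGroup m) = d
      · rw [hsd]
      · have h3 := (DihedralFours.four_swap hl i ((DihedralFours.mem_four hm2 i _).2
          (Or.inr (Or.inr (Or.inl rfl)))) hd (fun e => by cases e) hd1 (fun e => by cases e) hdz).2.2 hsd
        rw [h3, map_mul, map_mul, map_inv]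
        exact isConj_iff.2 ⟨_, rfl⟩
    exact fun a b ha hb => (hz a ha).trans (hz b hb).symm
  refine ⟨fun H hH => ?_, fun z0 hz0 => ?_⟩
  · haveI := Subgroup.normal_of_index_eq_two hH
    have hiff : ∀ a b, orderOf a = 2 → orderOf b = 2 → a ∈ H → b ∈ H := fun a b ha hb haH => by
      obtain ⟨c, rfl⟩ := isConj_iff.1 (hall a b ha hb)
      exact Subgroup.Normal.conj_mem inferInstance _ haH c
    have hin : ∀ i, ι (DihedralGroup.sr i) ∈ H := by
      by_contra hcon
      push Not at hcon
      obtain ⟨i, hi⟩ := hcon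
      have hzH : ι zD ∉ H := fun e => hi (hiff _ _ hzo (hso i) e)
      have h2 : ι zD * ι (DihedralGroup.sr i) ∈ H :=
        (Subgroup.mul_mem_iff_of_index_two hH).2 (iff_of_false hzH hi)
      rw [← map_mul, hzD, DihedralGroup.r_mul_sr] at h2
      exact hi (hiff _ _ (hso _) (hso i) h2)
    have hSH : (S : Subgroup X) ≤ H := by
      rw [← hrange]
      rintro _ ⟨d, rfl⟩
      cases d with
      | r j =>
        rw [show (DihedralGroup.r j : DihedralGroup m) = DihedralGroup.sr 0 * DihedralGroup.sr j by
          rw [DihedralGroup.sr_mul_sr, sub_zero], map_mul]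
        exact H.mul_mem (hin 0) (hin j)
      | sr j => exact hin j
    have h3 := Subgroup.index_dvd_of_le hSH
    rw [hH] at h3
    exact S.not_dvd_index h3
  · obtain ⟨hz0o, hiso⟩ := hz0
    obtain ⟨c, hc⟩ := isConj_iff.1 (hall _ _ hzo hz0o)
    obtain ⟨g, hg⟩ := isConj_iff.1 (hall z0 (c * ι (DihedralGroup.sr 0) * c⁻¹) hz0o (by
      rw [show c * ι (DihedralGroup.sr 0) * c⁻¹ = (MulAut.conj c).toMonoidHom (ι (DihedralGroup.sr 0)) by simp,
        orderOf_injective _ (MulAut.conj c).injective, hso]))
    have h1 := hiso g (by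
      rw [hg, ← hc]
      show _ * _ = _ * _
      calc c * ι zD * c⁻¹ * (c * ι (DihedralGroup.sr 0) * c⁻¹)
          = c * ι (zD * DihedralGroup.sr 0) * c⁻¹ := by rw [map_mul]; group
        _ = c * ι (DihedralGroup.sr 0 * zD) * c⁻¹ := by rw [hzD, DihedralFours.center_r_half hm2]
        _ = _ := by rw [map_mul]; group)
    rw [hg, ← hc] at h1
    have h5 := hι (mul_left_cancel (mul_right_cancel h1))
    rw [hzD] at h5
    cases h5

end Cfsg.Agent.S1255
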