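import Cfsg.Statements.S1193
import Cfsg.Agent.Lib.Fusion.QuasiDihedralMax

set_option autoImplicit false
open Cfsg Cfsg.Agent
open Cfsg.Agent.Fusion
open scoped commutatorElement

namespace Cfsg.Agent.S1193

/-- Let S be quasi-dihedral of order 2^(n+1). Then S' = Φ(S) is cyclic of order 2^(n-1), the centre of S has order 2, and the subgroup generated by the involutions of S is dihedral of order 2^n. -/
theorem result {S : Type*} [Group S] [Finite S] (hS : Cfsg.IsQuasiDihedral S) (n : ℕ) (hn : Nat.card S = 2 ^ (n + 1)) : commutator S = frattini S ∧ IsCyclic (commutator S) ∧ Nat.card (commutator S) = 2 ^ (n - 1) ∧ Nat.card (Subgroup.center S) = 2 ∧ Nonempty (↥(Subgroup.closure {x : S | orderOf x = 2}) ≃* DihedralGroup (2 ^ (n - 1))) := by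
  obtain ⟨D⟩ := exists_qdData hS hn
  refine ⟨D.commutator_eq.trans D.frattini_eq.symm, ?_, ?_, ?_, ?_⟩
  · rw [D.commutator_eq]; infer_instance
  · rw [D.commutator_eq, Nat.card_zpowers, D.orderOf_x_sq]
  · rw [D.center_eq, Nat.card_zpowers, D.orderOf_z]
  · obtain ⟨e⟩ := D.M_zero_dihedral
    exact ⟨(MulEquiv.subgroupCongr D.closure_invol).trans e⟩

end Cfsg.Agent.S1193
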