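import Cfsg.Statements.S0112
import Cfsg.Agent.Lib.Solv.MaxClass

set_option autoImplicit false
open Cfsg Cfsg.Agent
open scoped commutatorElement

namespace Cfsg.Agent.S0112

/-- A p-group with a self-centralizing subgroup of order p^2 is of maximal class. -/
theorem result {X : Type*} [Group X] [Finite X] {p : ℕ} [Fact p.Prime] (n : ℕ) (hX : Nat.card X = p ^ n) (A : Subgroup X) (hA : Nat.card A = p ^ 2) (hC : Subgroup.centralizer (A : Set X) = A) : Group.nilpotencyClass X = n - 1 := by
  have hG : IsPGroup p X := IsPGroup.of_card hX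
  haveI : Group.IsNilpotent X := hG.isNilpotent
  have hp : p.Prime := Fact.out
  have hn2 : 2 ≤ n := by
    have h := Subgroup.card_subgroup_dvd_card A
    rw [hA, hX] at h
    exact (Nat.pow_dvd_pow_iff_le_right hp.one_lt).1 h
  obtain ⟨m, rfl⟩ : ∃ m, n = m + 2 := ⟨n - 2, by omega⟩
  have hAab : ∀ a ∈ A, ∀ b ∈ A, a * b = b * a := fun a ha b hb => by
    rw [← hC] at ha
    exact (Subgroup.mem_centralizer_iff.1 ha b hb).symm
  have hZA : Subgroup.center X ≤ A := hC ▸ Subgroup.center_le_centralizer _
  have ht : ∃ t : X, Nat.card (Subgroup.centralizer ({t} : Set X)) ≤ p ^ 2 := by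
    by_cases hAZ : A ≤ Subgroup.center X
    · refine ⟨1, ?_⟩
      have htop : A = ⊤ := by
        rw [← hC, eq_top_iff]
        exact fun g _ => Subgroup.mem_centralizer_iff.2 fun a ha => (Subgroup.mem_center_iff.1 (hAZ ha) g).symm
      rw [← hA, htop, Subgroup.card_top]
      exact Subgroup.card_le_card_group _
    · obtain ⟨t, htA, htZ⟩ := SetLike.not_le_iff_exists.1 hAZ
      refine ⟨t, ?_⟩
      have hlt : Subgroup.center X < Subgroup.center X ⊔ Subgroup.zpowers t :=
        lt_of_le_of_ne le_sup_left fun h => htZ (h ▸ Subgroup.mem_sup_right (Subgroup.mem_zpowers t))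
      have hle : Subgroup.center X ⊔ Subgroup.zpowers t ≤ A := sup_le hZA (Subgroup.zpowers_le.2 htA)
      haveI : Nontrivial X := ⟨⟨t, 1, fun h => htZ (h ▸ one_mem _)⟩⟩
      have hd := Subgroup.card_dvd_of_le hle
      rw [hA, Nat.dvd_prime_pow hp] at hd
      obtain ⟨k, hk, hkc⟩ := hd
      have h1 : 1 < Nat.card (Subgroup.center X) := by
        haveI := hG.center_nontrivial; exact Finite.one_lt_card
      obtain ⟨j, hj⟩ := (hG.to_subgroup (Subgroup.center X)).exists_card_eq
      have h2 : Nat.card (Subgroup.center X) < p ^ k := by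
        rw [← hkc]
        exact lt_of_le_of_ne (Subgroup.card_le_of_le hlt.le) fun h => hlt.ne (Subgroup.eq_of_le_of_card_ge hlt.le h.ge)
      have hk2 : k = 2 := by
        rw [hj] at h1 h2
        have h3 : j < k := (Nat.pow_lt_pow_iff_right hp.one_lt).1 h2
        have h4 : j ≠ 0 := by rintro rfl; simp at h1
        omega
      have hEq : Subgroup.center X ⊔ Subgroup.zpowers t = A :=
        Subgroup.eq_of_le_of_card_ge hle (by rw [hkc, hk2, hA])
      rw [← hA]
      refine Subgroup.card_le_of_le fun g hg => ?_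
      rw [← hC, Subgroup.mem_centralizer_iff]
      intro a ha
      have : A ≤ Subgroup.centralizer ({g} : Set X) := by
        rw [← hEq]
        refine sup_le (Subgroup.center_le_centralizer _) (Subgroup.zpowers_le.2 ?_)
        exact Subgroup.mem_centralizer_singleton_iff.2 (Subgroup.mem_centralizer_singleton_iff.1 hg).symm
      exact Subgroup.mem_centralizer_singleton_iff.1 (this ha)
  have h1 := Solv.lcs_ne_bot_of_small_centralizer m hX ht
  rw [Ne, Subgroup.lowerCentralSeries_eq_bot_iff_nilpotencyClass_le, not_le] at h1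
  have h2 := Solv.lcs_eq_bot hG hX (by omega)
  rw [Subgroup.lowerCentralSeries_eq_bot_iff_nilpotencyClass_le] at h2
  omega

end Cfsg.Agent.S0112
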