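import Cfsg.Statements.S0113
import Cfsg.Agent.Lib.Solv.MaxClass

set_option autoImplicit false
open Cfsg Cfsg.Agent
open scoped commutatorElement

namespace Cfsg.Agent.S0113

/-- A 2-group of maximal class contains a cyclic subgroup of index 2. -/
theorem result {X : Type*} [Group X] [Finite X] (n : ℕ) (hn : 3 ≤ n) (hX : Nat.card X = 2 ^ n) (hc : Group.nilpotencyClass X = n - 1) : ∃ C : Subgroup X, IsCyclic C ∧ C.index = 2 := by
  obtain ⟨m, rfl⟩ : ∃ m, n = m + 3 := ⟨n - 3, by omega⟩
  haveI : Group.IsNilpotent X := (IsPGroup.of_card (p := 2) hX).isNilpotent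
  obtain ⟨x, hx⟩ := Solv.exists_cyclic_index_two m hX (by
    rw [Ne, Subgroup.lowerCentralSeries_eq_bot_iff_nilpotencyClass_le, hc]; omega)
  refine ⟨Subgroup.zpowers x, inferInstance, ?_⟩
  have h := (Subgroup.zpowers x).card_mul_index
  rw [Nat.card_zpowers, hx, hX, pow_succ 2 (m + 2)] at h
  exact Nat.eq_of_mul_eq_mul_left (pow_pos two_pos _) h

end Cfsg.Agent.S0113
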