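import Cfsg.Statements.S0080
import Cfsg.Agent.Lib.Fusion.Basic

set_option autoImplicit false
open Cfsg
open Cfsg.Agent.Fusion
open scoped commutatorElement

namespace Cfsg.Agent.S0080

/-- When the index of H is prime to the order of H/H', the focal subgroup of H is G' ∩ H, and H/(G' ∩ H) has a normal complement. -/
theorem result {G : Type*} [Group G] [Finite G] (H : Subgroup G) (h : Nat.Coprime H.index (⁅H, H⁆.relIndex H)) : Subgroup.focalSubgroup H = commutator G ⊓ H ∧ ∃ N : Subgroup G, N.Normal ∧ N ⊓ H = commutator G ⊓ H ∧ N ⊔ H = ⊤ := by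
  have hcop : (Nat.card (H ⧸ Subgroup.focalSubgroupOf H)).Coprime H.index := by
    refine Nat.Coprime.coprime_dvd_left ?_ h.symm
    have e : ⁅H, H⁆.subgroupOf H = commutator H := by
      rw [← Subgroup.map_subtype_commutator, Subgroup.subgroupOf,
        Subgroup.comap_map_eq_self_of_injective H.subtype_injective]
    rw [← Subgroup.index_eq_card, Subgroup.relIndex, e]
    exact Subgroup.index_dvd_of_le (Subgroup.commutator_le_focalSubgroupOf H)
  have hV : ∀ x : H, H.transferFocal x = powCoprime hcop (x : H ⧸ H.focalSubgroupOf) :=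
    fun x => Subgroup.transferFocal_eq_pow H x
  have hcomm : commutator G ≤ H.transferFocal.ker := by
    rw [commutator_def, Subgroup.commutator_le]
    intro a _ b _
    rw [MonoidHom.mem_ker, map_commutatorElement]
    exact commutatorElement_eq_one_iff_commute.2 (mul_comm' _ _)
  have hker : H.transferFocal.ker ⊓ H = H.focalSubgroup := by
    refine le_antisymm ?_ (le_inf ?_ (Subgroup.focalSubgroup_le H))
    · rintro x ⟨hx1, hx2⟩
      have h1 := hV ⟨x, hx2⟩
      rw [MonoidHom.mem_ker.1 hx1, ← powCoprime_one hcop] at h1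
      exact (QuotientGroup.eq_one_iff (⟨x, hx2⟩ : H)).1 ((powCoprime hcop).injective h1).symm
    · exact (Subgroup.focalSubgroup_le_commutator H).trans hcomm
  have heq : H.focalSubgroup = commutator G ⊓ H := le_antisymm
    (le_inf (Subgroup.focalSubgroup_le_commutator H) (Subgroup.focalSubgroup_le H))
    ((inf_le_inf_right _ hcomm).trans hker.le)
  refine ⟨heq, H.transferFocal.ker, inferInstance, hker.trans heq, ?_⟩
  rw [eq_top_iff]
  intro g _
  obtain ⟨y, hy⟩ := (powCoprime hcop).surjective (H.transferFocal g)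
  obtain ⟨x, rfl⟩ := QuotientGroup.mk_surjective y
  rw [Subgroup.mem_sup_of_normal_left]
  refine ⟨g * (x : G)⁻¹, ?_, x, x.2, by group⟩
  rw [MonoidHom.mem_ker, map_mul, map_inv, hV, hy, mul_inv_cancel]

end Cfsg.Agent.S0080
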