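import Cfsg.Statements.S2905
import Cfsg.Agent.Lib.LocalEven.PIrred
import Cfsg.Agent.Lib.Solv.Zipper
import Cfsg.Agent.Lib.Solv.Coprime
import Cfsg.Agent.Lib.Fusion.OperatorFactor

set_option autoImplicit false
open Cfsg

namespace Cfsg.Agent.S2905

theorem result {P : Type*} [Group P] [Finite P] {p : ℕ} [Fact p.Prime] (hP : Cfsg.IsPMinimal p P) (S : Sylow p P) (M : Subgroup P) (hM : IsCoatom M) (hSM : (S : Subgroup P) ≤ M) [hF : M.normalCore.Normal] : (∀ N : Subgroup P, N.IsSubnormal → N ≤ M → N ⊓ (S : Subgroup P) ≤ Cfsg.pCore p P) ∧ ((∀ T : Sylow p ↥(Cfsg.pResidual p P), (T : Subgroup ↥(Cfsg.pResidual p P)).Normal) → (Nat.card P).primeFactors.card ≤ 2) ∧ (∀ N : Subgroup P, N.Normal → Cfsg.pResidual p P ≤ N ∨ N ≤ M.normalCore) ∧ (∀ N : Subgroup P, N.Normal → M.normalCore ≤ N → N ≤ Cfsg.pResidual p P ⊔ M.normalCore → N = M.normalCore ∨ N = Cfsg.pResidual p P ⊔ M.normalCore) ∧ M.normalCore < Cfsg.pResidual p P ⊔ M.normalCore := by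
  classical
  have hSM' : ∀ X : Subgroup P, X ≠ ⊤ → (S : Subgroup P) ≤ X → X ≤ M := by
    obtain ⟨-, M', -, hu⟩ := hP S
    exact fun X hX hSX => LocalEven.PIrr.le_max
      (fun M'' h'' => (hu M'' h'').trans (hu M ⟨hM, hSM⟩).symm) hX hSX
  have hSylT : Fusion.SylIn p (S : Subgroup P) ⊤ := Fusion.sylIn_top S
  -- normal subgroups inside `M`
  have hcore : M.normalCore ⊓ (S : Subgroup P) ≤ pCore p P := by
    set F := M.normalCore
    have hs : Fusion.SylIn p ((S : Subgroup P) ⊓ F) F :=
      hSylT.inf_normal le_top (by rw [Subgroup.normalizer_eq_top])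
    set T := (S : Subgroup P) ⊓ F
    have hST : (S : Subgroup P) ≤ Subgroup.normalizer (T : Set P) := fun s hs' =>
      Fusion.mem_normalizer_iff_cj.2 (by
        rw [Fusion.cj_inf, Fusion.cj_eq_self_of_mem hs', Fusion.cj_of_normal])
    have hn : Subgroup.normalizer (T : Set P) = ⊤ := by
      by_contra hne
      have h1 := hSM' _ hne hST
      refine hM.1 (eq_top_iff.2 fun g _ => ?_)
      obtain ⟨n, hn, hng⟩ := Fusion.frattini_conj hs (H := ⊤) (by rw [Subgroup.normalizer_eq_top]) (Subgroup.mem_top g)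
      have := mul_mem (inv_mem (Subgroup.normalCore_le M hn)) (h1 hng)
      rwa [inv_mul_cancel_left] at this
    haveI := Subgroup.normalizer_eq_top_iff.1 hn
    rw [inf_comm]
    exact Fusion.le_pCore hs.isPGroup
  have hnorm : ∀ N : Subgroup P, N.Normal → pResidual p P ≤ N ∨ N ≤ M.normalCore := by
    intro N hN
    haveI := hN
    by_cases hNM : N ≤ M
    · exact Or.inr (Subgroup.normal_le_normalCore.2 hNM)
    · left
      refine LocalEven.PIrr.residual_le_of_sup S.isPGroup' ?_
      by_contra hne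
      exact hNM (le_sup_left.trans (hSM' _ hne le_sup_right))
  have hRM : ¬ pResidual p P ≤ M := by
    intro h
    apply hM.1
    rw [eq_top_iff, ← Fusion.pResidual_sup_sylow S]
    exact sup_le h hSM
  have hRF : ¬ pResidual p P ≤ M.normalCore := fun h => hRM (h.trans (Subgroup.normalCore_le M))
  refine ⟨fun N hN hNM => ?_, fun hT => ?_, hnorm, fun N hN hFN hNR => ?_,
    lt_of_le_not_ge le_sup_right fun h => hRF (le_sup_left.trans h)⟩
  · obtain ⟨L, hL, hNL, hLM, hML, hmax⟩ := Solv.exists_maximal_subnormal_le hN hNM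
    have hLn : L.Normal := by
      by_contra hn
      obtain ⟨x, hx, hxN⟩ := Solv.exists_conj_le_normalizer hL hn
      have hNLM : Subgroup.normalizer (L : Set P) = M := by
        by_contra hne
        exact hn (Subgroup.normalizer_eq_top_iff.1 (hM.2 _ (lt_of_le_of_ne hML (Ne.symm hne))))
      rw [hNLM] at hxN
      have h1 := hmax _ (Solv.isSubnormal_sup hL (Solv.isSubnormal_conj hL x)) le_sup_left
        (sup_le hLM hxN)
      exact hx (Subgroup.eq_of_le_of_card_ge (le_sup_right.trans h1.le) (by rw [Solv.card_conj_smul]))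
    haveI := hLn
    exact (inf_le_inf_right _ (hNL.trans (Subgroup.normal_le_normalCore.2 hLM))).trans hcore
  · -- at most two primes
    set R := pResidual p P
    set D := pCore p P
    set π := QuotientGroup.mk' D
    have hπ := QuotientGroup.mk'_surjective D
    have hDp : IsPGroup p ↥D := Fusion.isPGroup_pCore p P
    have hDS : D ≤ (S : Subgroup P) := Fusion.pCore_le_sylow S
    have hTR : Fusion.SylIn p ((S : Subgroup P) ⊓ R) R :=
      hSylT.inf_normal le_top (by rw [Subgroup.normalizer_eq_top])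
    have hTD : (S : Subgroup P) ⊓ R ≤ D := by
      obtain ⟨T, hTe⟩ := hTR.exists_sylow_subgroupOf
      have hn := hT T
      exact (le_inf inf_le_left inf_le_right).trans ((LocalEven.PIrr.inf_le_of_closed R hT S.isPGroup'))
    have hRp : ¬ p ∣ Nat.card ↥(R.map π) := by
      have h1 := hTR.map_hom π
      have h2 : ((S : Subgroup P) ⊓ R).map π = ⊥ := by
        rw [Subgroup.map_eq_bot_iff, QuotientGroup.ker_mk']; exact hTD
      rw [h2] at h1
      have h3 := h1.not_dvd
      rwa [Subgroup.relIndex_bot_left] at h3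
    have hSp : IsPGroup p ↥((S : Subgroup P).map π) := S.isPGroup'.map π
    have hco : (Nat.card ↥((S : Subgroup P).map π)).Coprime (Nat.card ↥(R.map π)) := by
      obtain ⟨k, hk⟩ := IsPGroup.iff_card.1 hSp
      rw [hk]
      exact ((Fact.out : p.Prime).coprime_iff_not_dvd.2 hRp).pow_left k
    haveI := hSp.isNilpotent
    haveI : (R.map π).Normal := Subgroup.Normal.map inferInstance π hπ
    have hsup : R.map π ⊔ (S : Subgroup P).map π = ⊤ := by
      rw [← Subgroup.map_sup, Fusion.pResidual_sup_sylow S, Subgroup.map_top_of_surjective _ hπ]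
    have hprod : Nat.card (P ⧸ D) ∣ Nat.card ↥((S : Subgroup P).map π) * Nat.card ↥(R.map π) := by
      have := Fusion.card_sup_dvd (R.map π) ((S : Subgroup P).map π)
      rwa [sup_comm, hsup, Nat.card_congr Subgroup.topEquiv.toEquiv] at this
    have key : ∀ q : ℕ, q.Prime → q ≠ p → ∃ H : Subgroup P, (S : Subgroup P) ≤ H ∧
        ¬ q ∣ H.index ∧ ∀ r : ℕ, r.Prime → r ∣ Nat.card ↥H → r = p ∨ r = q := by
      intro q hq hqp
      haveI := Fact.mk hq
      obtain ⟨Q, hQ, hQA⟩ := Solv.exists_invariant_sylow (A := (S : Subgroup P).map π) (K := R.map π)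
        (by rw [Subgroup.normalizer_eq_top]; exact le_top) hco (Or.inl inferInstance) q
      have hnR : ¬ q ∣ Nat.card ↥((S : Subgroup P).map π) := by
        obtain ⟨k, hk⟩ := IsPGroup.iff_card.1 hSp
        rw [hk]
        exact fun hd => hqp ((Nat.prime_dvd_prime_iff_eq hq Fact.out).1 (hq.dvd_of_dvd_pow hd))
      have hd1 : Nat.card ↥((S : Subgroup P).map π) * Nat.card ↥Q ∣
          Nat.card ↥((S : Subgroup P).map π ⊔ Q) := by
        refine Nat.Coprime.mul_dvd_of_dvd_of_dvd (hco.coprime_dvd_right (Subgroup.card_dvd_of_le hQ.1))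
          (Subgroup.card_dvd_of_le le_sup_left) (Subgroup.card_dvd_of_le le_sup_right)
      have hd2 : Nat.card ↥((S : Subgroup P).map π ⊔ Q) ∣
          Nat.card ↥((S : Subgroup P).map π) * Nat.card ↥Q := by
        set U := (S : Subgroup P).map π
        haveI : (Q.subgroupOf (U ⊔ Q)).Normal :=
          (Subgroup.normal_subgroupOf_iff_le_normalizer le_sup_right).2 (sup_le hQA Subgroup.le_normalizer)
        have h := Fusion.card_sup_dvd (Q.subgroupOf (U ⊔ Q)) (U.subgroupOf (U ⊔ Q))
        rwa [← Subgroup.subgroupOf_sup le_sup_left le_sup_right, Subgroup.subgroupOf_self,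
          Nat.card_congr Subgroup.topEquiv.toEquiv,
          Nat.card_congr (Subgroup.subgroupOfEquivOfLe (le_sup_left : U ≤ U ⊔ Q)).toEquiv,
          Nat.card_congr (Subgroup.subgroupOfEquivOfLe (le_sup_right : Q ≤ U ⊔ Q)).toEquiv] at h
      have hcard := Nat.dvd_antisymm hd2 hd1
      set Hb := (S : Subgroup P).map π ⊔ Q
      refine ⟨Hb.comap π, (Subgroup.le_comap_map π (S : Subgroup P)).trans (Subgroup.comap_mono le_sup_left),
        ?_, fun r hr hrd => ?_⟩
      · rw [Subgroup.index_comap_of_surjective _ hπ]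
        intro hd
        have h1 := Hb.card_mul_index
        rw [hcard] at h1
        have h2 : q ^ ((Nat.card ↥(R.map π)).factorization q + 1) ∣ Nat.card (P ⧸ D) := by
          rw [← h1, hQ.2, pow_succ]
          exact mul_dvd_mul (dvd_mul_left _ _) hd
        have h3 := (Nat.Coprime.pow_left _ (hq.coprime_iff_not_dvd.2 hnR)).dvd_of_dvd_mul_left
          (h2.trans hprod)
        have h4 := (hq.pow_dvd_iff_le_factorization Nat.card_pos.ne').1 h3
        omega
      · have h1 : Nat.card ↥(Hb.comap π) = Nat.card ↥D * Nat.card ↥Hb := by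
          have h5 := (Hb.comap π).card_mul_index
          rw [Subgroup.index_comap_of_surjective _ hπ, D.card_eq_card_quotient_mul_card_subgroup,
            ← Hb.card_mul_index] at h5
          have h6 : 0 < Hb.index := Nat.pos_of_ne_zero Subgroup.index_ne_zero_of_finite
          apply Nat.eq_of_mul_eq_mul_right h6
          rw [h5]; ring
        rw [h1, hcard] at hrd
        obtain ⟨i, hi⟩ := IsPGroup.iff_card.1 hDp
        obtain ⟨j, hj⟩ := IsPGroup.iff_card.1 hSp
        rw [hi, hj, hQ.2] at hrd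
        rcases hr.dvd_mul.1 hrd with h | h
        · exact Or.inl ((Nat.prime_dvd_prime_iff_eq hr Fact.out).1 (hr.dvd_of_dvd_pow h))
        · rcases hr.dvd_mul.1 h with h | h
          · exact Or.inl ((Nat.prime_dvd_prime_iff_eq hr Fact.out).1 (hr.dvd_of_dvd_pow h))
          · exact Or.inr ((Nat.prime_dvd_prime_iff_eq hr hq).1 (hr.dvd_of_dvd_pow h))
    obtain ⟨q, hq, hqp, H, hSH, hHtop, hHr⟩ : ∃ q : ℕ, q.Prime ∧ q ≠ p ∧ ∃ H : Subgroup P,
        (S : Subgroup P) ≤ H ∧ H = ⊤ ∧ ∀ r : ℕ, r.Prime → r ∣ Nat.card ↥H → r = p ∨ r = q := by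
      by_contra hno
      apply hM.1
      rw [← Subgroup.index_eq_one]
      refine Nat.eq_one_iff_not_exists_prime_dvd.2 fun q hq hqd => ?_
      by_cases hqp : q = p
      · exact S.not_dvd_index ((hqp ▸ hqd).trans (Subgroup.index_dvd_of_le hSM))
      · obtain ⟨H, hSH, hnd, hr⟩ := key q hq hqp
        have hne : H ≠ ⊤ := fun h => hno ⟨q, hq, hqp, H, hSH, h, hr⟩
        exact hnd (hqd.trans (Subgroup.index_dvd_of_le (hSM' H hne hSH)))
    have hsub : (Nat.card P).primeFactors ⊆ {p, q} := fun r hr => by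
      obtain ⟨h1, h2, -⟩ := Nat.mem_primeFactors.1 hr
      rw [Finset.mem_insert, Finset.mem_singleton]
      exact hHr r h1 (by rwa [hHtop, Nat.card_congr Subgroup.topEquiv.toEquiv])
    exact (Finset.card_le_card hsub).trans Finset.card_le_two
  · haveI := hN
    rcases hnorm N hN with h | h
    · exact Or.inr (le_antisymm hNR (sup_le h hFN))
    · exact Or.inl (le_antisymm h hFN)

end Cfsg.Agent.S2905
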