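import Cfsg.Statements.S2906
import Cfsg.Agent.S2905
import Cfsg.Agent.Lib.LocalEven.ParabolicInherit
import Cfsg.Agent.Lib.LocalEven.PIrred
import Cfsg.Agent.Lib.Solv.Component
import Cfsg.Agent.Lib.Fusion.SchreierBalance
import Cfsg.Agent.Lib.Local.Basics
import Cfsg.Agent.Lib.Solv.Cores
import Cfsg.Agent.Lib.Perm.Subnormalizer
import Cfsg.Agent.Lib.Solv.Coprime

set_option autoImplicit false
open Cfsg
open Cfsg.Agent Cfsg.Agent.Fusion
open scoped Pointwise
open scoped commutatorElement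

namespace Cfsg.Agent.S2906

open Cfsg.Agent.Fusion in
/-- The Sylow subgroups of a finite group all witness `p`-minimality once one does. -/
theorem isPMinimal_of {H : Type*} [Group H] [Finite H] {p : ℕ} [Fact p.Prime] (R : Subgroup H) (hR : SylIn p R ⊤)
    (hn : ¬ R.Normal) (M : Subgroup H) (hM : M ≠ ⊤) (hRM : R ≤ M)
    (hu : ∀ X : Subgroup H, X ≠ ⊤ → R ≤ X → X ≤ M) : Cfsg.IsPMinimal p H := by
  intro S
  obtain ⟨g, -, hg⟩ := hR.conj_eq (sylIn_top S)
  have hMc : ∀ X : Subgroup H, X ≠ ⊤ → (S : Subgroup H) ≤ X → X ≤ cj M g := by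
    intro X hX hSX
    rw [← cj_inv_cj X g, cj_le_cj]
    refine hu _ (fun h => hX ?_) ?_
    · rw [← cj_inv_cj X g, h, cj_of_normal]
    · rw [← cj_le_cj (g := g), cj_inv_cj, hg]; exact hSX
  have hMt : cj M g ≠ ⊤ := fun h => hM (by rw [← cj_cj_inv M g, h, cj_of_normal])
  have hSM : (S : Subgroup H) ≤ cj M g := hg ▸ cj_mono hRM g
  refine ⟨fun h => hn ?_, cj M g, ⟨?_, hSM⟩, fun M' hM' => ?_⟩
  · haveI := h
    have : R = (S : Subgroup H) := by rw [← cj_cj_inv R g, hg, cj_of_normal]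
    exact this ▸ h
  · exact ⟨hMt, fun X hX => by_contra fun hne => hX.not_ge (hMc X hne (hSM.trans hX.le))⟩
  · exact le_antisymm (hMc M' hM'.1.1 hM'.2) (by
      by_contra h
      exact hMt (hM'.1.2 _ (lt_of_le_of_ne (hMc M' hM'.1.1 hM'.2) fun e => h e.ge)))


open Cfsg.Agent.Fusion in
/-- A join of mutually normalising `p'`-subgroups is a `p'`-group. -/
theorem not_dvd_card_iSup {H : Type*} [Group H] [Finite H] {ι : Type*} [Finite ι] {p : ℕ} (hp : p.Prime)
    (f : ι → Subgroup H) (hc : ∀ i, ¬ p ∣ Nat.card (f i))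
    (hn : ∀ i j, f i ≤ Subgroup.normalizer (f j : Set H)) : ¬ p ∣ Nat.card (iSup f : Subgroup H) := by
  classical
  haveI := Fintype.ofFinite ι
  rw [← Finset.sup_univ_eq_iSup]
  suffices h : ∀ s : Finset ι, ¬ p ∣ Nat.card (s.sup f : Subgroup H) from h _
  intro s
  induction s using Finset.induction_on with
  | empty => simpa using hp.not_dvd_one
  | insert a t ha ih =>
    rw [Finset.sup_insert]
    intro hd
    have hnt : (t.sup f : Subgroup H) ≤ Subgroup.normalizer (f a : Set H) := Finset.sup_le fun j _ => hn j a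
    have h := Solv.card_sup_mul_card_inf' (f a) (t.sup f) hnt
    exact (hp.dvd_mul.1 (h ▸ dvd_mul_of_dvd_left hd _)).elim (hc a) ih

/-- A subgroup all of whose invariant Sylow subgroups lie in `M` lies in `M`. -/
theorem le_of_invariant_sylow {H : Type*} [Group H] [Finite H] {p : ℕ} [Fact p.Prime] (E S M : Subgroup H) [E.Normal]
    (hS : IsPGroup p S) (hE : ¬ p ∣ Nat.card E)
    (h : ∀ (q : ℕ), q.Prime → ∀ Q : Subgroup H, Q ≤ E → IsPGroup q Q → S ≤ Subgroup.normalizer (Q : Set H) → Q ≤ M) :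
    E ≤ M := by
  have hco : (Nat.card S).Coprime (Nat.card E) := by
    obtain ⟨n, hn⟩ := IsPGroup.iff_card.1 hS
    rw [hn]
    exact ((Fact.out : p.Prime).coprime_iff_not_dvd.2 hE).pow_left n
  have hsol : Group.IsSolvable S ∨ Group.IsSolvable E := Or.inl (by
    haveI := hS.isNilpotent
    infer_instance)
  suffices hd : Nat.card E ∣ Nat.card (E ⊓ M : Subgroup H) from
    (Subgroup.eq_of_le_of_card_ge (inf_le_left : E ⊓ M ≤ E) (Nat.le_of_dvd Nat.card_pos hd)) ▸ inf_le_right
  rw [← Nat.factorization_le_iff_dvd Nat.card_pos.ne' Nat.card_pos.ne']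
  intro q
  by_cases hq : q.Prime
  · haveI := Fact.mk hq
    obtain ⟨Q, hQ, hSQ⟩ := Solv.exists_invariant_sylow (A := S) (K := E)
      (by rw [Subgroup.normalizer_eq_top]; exact le_top) hco hsol q
    have hQM := h q hq Q hQ.1 (hQ.isPGroup) hSQ
    have h1 : q ^ (Nat.card E).factorization q ∣ Nat.card (E ⊓ M : Subgroup H) :=
      hQ.2 ▸ Subgroup.card_dvd_of_le (le_inf hQ.1 hQM)
    exact (hq.pow_dvd_iff_le_factorization Nat.card_pos.ne').1 h1
  · rw [Nat.factorization_eq_zero_of_not_prime _ hq]; exact Nat.zero_le _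

/-- Let P be a finite p-minimal group with O_p(P) = 1, S a Sylow p-subgroup of P and K a component of P. Then O^p(P) = F*(P) = E(P) is generated by the S-conjugates of K, and the subgroup K·N_S(K) is again p-minimal. -/
theorem result {P : Type*} [Group P] [Finite P] {p : ℕ} [Fact p.Prime] (hP : Cfsg.IsPMinimal p P) (hOp : Cfsg.pCore p P = ⊥) (S : Sylow p P) (K : Subgroup P) (hK : Cfsg.IsComponent K) : Cfsg.pResidual p P = Cfsg.generalizedFittingSubgroup P ∧ Cfsg.generalizedFittingSubgroup P = Cfsg.layer P ∧ Cfsg.layer P = ⨆ s : ↥(S : Subgroup P), K.map (MulAut.conj (s : P)).toMonoidHom ∧ Cfsg.IsPMinimal p ↥(K ⊔ ((S : Subgroup P) ⊓ Subgroup.normalizer (K : Set P))) := by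
  classical
  have hp : p.Prime := Fact.out
  obtain ⟨hSn, M, ⟨hM, hSM⟩, huniq⟩ := hP S
  have hSM' : ∀ X : Subgroup P, X ≠ ⊤ → (S : Subgroup P) ≤ X → X ≤ M := fun X hX hSX =>
    LocalEven.PIrr.le_max (fun M' h' => huniq M' h') hX hSX
  obtain ⟨hsub, -, hnorm, -⟩ := S2905.result hP S M hM hSM
  have hsylK : SylIn p ((S : Subgroup P) ⊓ K) K := LocalEven.sylIn_inf_subnormal S hK.1
  -- a normal `p'`-subgroup inside `M` lies in the Frattini subgroup
  have hprime : ∀ N : Subgroup P, N.Normal → N ≤ M → N ≤ frattini P := by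
    intro N hN hNM
    have hNS : N ⊓ (S : Subgroup P) = ⊥ := eq_bot_iff.2 (hOp ▸ hsub N hN.isSubnormal hNM)
    have hNp : ¬ p ∣ Nat.card N := by
      have h := (sylIn_top S).inf_normal (N := N) le_top (by rw [Subgroup.normalizer_eq_top])
      rw [inf_comm, hNS] at h
      simpa [Subgroup.relIndex_bot_left] using h.not_dvd
    refine le_iInf₂ fun K' hK' => ?_
    by_contra hle
    haveI := hN
    have hNK : N ⊔ K' = ⊤ := hK'.2 _ (lt_of_le_of_ne le_sup_right fun e => hle (e.symm ▸ le_sup_left))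
    have hidx : ¬ p ∣ K'.index := by
      intro hd
      have h1 := Solv.card_sup_mul_card_inf N K'
      rw [hNK, Subgroup.card_top, ← Subgroup.card_mul_index K'] at h1
      have h2 : K'.index ∣ Nat.card N := by
        refine ⟨Nat.card (N ⊓ K' : Subgroup P), ?_⟩
        refine Nat.eq_of_mul_eq_mul_left (Nat.card_pos (α := K')) ?_
        rw [mul_comm (Nat.card K') (Nat.card N), ← h1]; ring
      exact hNp (hd.trans h2)
    obtain ⟨R, hR⟩ := exists_sylIn (p := p) K'
    have hR' : SylIn p R ⊤ := ⟨le_top, hR.isPGroup, fun hd => by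
      rw [Subgroup.relIndex_top_right, ← Subgroup.relIndex_mul_index hR.le] at hd
      rcases hp.dvd_mul.1 hd with h | h
      · exact hR.not_dvd h
      · exact hidx h⟩
    obtain ⟨g, -, hg⟩ := hR'.conj_eq (sylIn_top S)
    have hle' : cj K' g ≤ M := hSM' _ (fun h => hK'.1 (by rw [← cj_cj_inv K' g, h, cj_of_normal]))
      (hg ▸ cj_mono hR.le g)
    refine hM.1 (top_le_iff.1 ?_)
    rw [← cj_of_normal (⊤ : Subgroup P) g, ← hNK, cj_sup, cj_of_normal N]
    exact sup_le hNM hle'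
  have hnil : ∀ N : Subgroup P, N.Normal → N ≤ M → Group.IsNilpotent N := fun N hN hNM => by
    haveI : Group.IsNilpotent (frattini P) := frattini_nilpotent
    exact Group.nilpotent_of_mulEquiv (Subgroup.subgroupOfEquivOfLe (hprime N hN hNM))
  have hKnil : ∀ N : Subgroup P, Group.IsNilpotent N → ¬ K ≤ N := fun N hN hKN => by
    have hKs : Group.IsSolvable K := Solv.isSolvable_of_le hKN inferInstance
    haveI := Solv.qs_nontrivial hK.2
    haveI := hKs
    exact (Group.IsSolvable.commutator_lt_top_of_nontrivial K).ne hK.2.1.1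
  -- `O^p(P) = E(P)`
  haveI hEn : (Cfsg.layer P).Normal := Local.layer_normal
  have hKM : ¬ K ≤ M := by
    intro hKM
    have hL : ¬ Cfsg.layer P ≤ M := fun h => hKnil _ (hnil _ hEn h) (Solv.component_le_layer hK)
    -- then the conjugates of `K` under `S` lie in `M` and so does their join
    obtain ⟨L, hLdef⟩ : ∃ L, L = ⨆ s : ↥(S : Subgroup P), K.map (MulAut.conj (s : P)).toMonoidHom := ⟨_, rfl⟩
    have hLM : L ≤ M := hLdef ▸ iSup_le fun s => by
      rintro _ ⟨k, hk, rfl⟩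
      exact mul_mem (mul_mem (hSM s.2) (hKM hk)) (inv_mem (hSM s.2))
    have hRE : Cfsg.pResidual p P ≤ Cfsg.layer P := (hnorm _ hEn).resolve_right fun h => hL (h.trans (Subgroup.normalCore_le M))
    haveI : L.Normal := by
      refine Subgroup.normalizer_eq_top_iff.1 (top_le_iff.1 ?_)
      rw [← pResidual_sup_sylow (p := p) S]
      refine sup_le (hRE.trans fun e he => ?_) fun s hs => mem_normalizer_of_cj_le ?_
      · refine mem_normalizer_of_cj_le ?_
        rw [hLdef, cj, Subgroup.map_iSup]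
        refine iSup_le fun s => le_iSup_of_le s ?_
        exact (cj_eq_self (layer_le_normalizer_component (Solv.component_conj hK (s : P)) he)).le
      · rw [hLdef, cj, Subgroup.map_iSup]
        refine iSup_le fun t => ?_
        refine le_iSup_of_le ⟨s * t, mul_mem hs t.2⟩ ?_
        exact (cj_cj K (t : P) s).le
    refine hKnil _ (hnil L inferInstance hLM) ?_
    rw [hLdef]
    exact le_iSup_of_le 1 (by rw [Subgroup.coe_one]; exact (cj_one K).ge)
  have hEM : ¬ Cfsg.layer P ≤ M := fun h => hKM ((Solv.component_le_layer hK).trans h)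
  have hRE : Cfsg.pResidual p P ≤ Cfsg.layer P :=
    (hnorm _ hEn).resolve_right fun h => hEM (h.trans (Subgroup.normalCore_le M))
  have hEperf : ⁅Cfsg.layer P, Cfsg.layer P⁆ = Cfsg.layer P := Solv.layer_perfect
  have hER : Cfsg.layer P ≤ Cfsg.pResidual p P := by
    obtain ⟨E', hE'⟩ : ∃ E', E' = (Cfsg.layer P).map (QuotientGroup.mk' (Cfsg.pResidual p P)) := ⟨_, rfl⟩
    have hperf : ⁅E', E'⁆ = E' := by rw [hE', ← Subgroup.map_commutator, hEperf]
    have hE'p : IsPGroup p E' := (isPGroup_quotient_pResidual (p := p) (G := P)).to_subgroup E'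
    have hbot : E' = ⊥ := by
      by_contra hne
      haveI := (Subgroup.nontrivial_iff_ne_bot E').2 hne
      haveI : Group.IsNilpotent E' := hE'p.isNilpotent
      refine (Group.IsSolvable.commutator_lt_top_of_nontrivial E').ne ?_
      apply Subgroup.map_injective E'.subtype_injective
      rw [commutator_def, Subgroup.map_commutator, ← MonoidHom.range_eq_map, Subgroup.range_subtype]
      exact hperf
    rw [hE', Subgroup.map_eq_bot_iff, QuotientGroup.ker_mk'] at hbot
    exact hbot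
  have heq : Cfsg.pResidual p P = Cfsg.layer P := le_antisymm hRE hER
  have hFR : Cfsg.fittingSubgroup P ≤ Cfsg.pResidual p P := by
    rw [Solv.fitting_eq_iSup_pCore]
    refine iSup_le fun q => ?_
    by_cases hq : (q : ℕ) = p
    · rw [hq, hOp]; exact bot_le
    · haveI := Fact.mk q.2
      intro w hw
      refine Subgroup.subset_closure ?_
      show (orderOf w).Coprime p
      obtain ⟨k, hk⟩ := IsPGroup.iff_orderOf.1 (isPGroup_pCore (q : ℕ) P) ⟨w, hw⟩
      rw [Subgroup.orderOf_mk] at hk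
      rw [hk]
      exact ((Nat.coprime_primes q.2 hp).2 hq).pow_left k
  have hgfit : Cfsg.generalizedFittingSubgroup P = Cfsg.layer P :=
    le_antisymm (sup_le le_rfl (heq ▸ hFR)) le_sup_left
  obtain ⟨L, hLdef⟩ : ∃ L, L = ⨆ s : ↥(S : Subgroup P), K.map (MulAut.conj (s : P)).toMonoidHom := ⟨_, rfl⟩
  have hLE : L ≤ Cfsg.layer P := hLdef ▸ iSup_le fun s => Solv.component_le_layer (Solv.component_conj hK (s : P))
  have hKL : K ≤ L := hLdef ▸ le_iSup_of_le 1 (by rw [Subgroup.coe_one]; exact (cj_one K).ge)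
  have hEL : Cfsg.layer P = L := by
    haveI : L.Normal := by
      refine Subgroup.normalizer_eq_top_iff.1 (top_le_iff.1 ?_)
      rw [← pResidual_sup_sylow (p := p) S]
      refine sup_le (hRE.trans fun e he => ?_) fun s hs => mem_normalizer_of_cj_le ?_
      · refine mem_normalizer_of_cj_le ?_
        rw [hLdef, cj, Subgroup.map_iSup]
        refine iSup_le fun s => le_iSup_of_le s ?_
        exact (cj_eq_self (layer_le_normalizer_component (Solv.component_conj hK (s : P)) he)).le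
      · rw [hLdef, cj, Subgroup.map_iSup]
        refine iSup_le fun t => ?_
        refine le_iSup_of_le ⟨s * t, mul_mem hs t.2⟩ ?_
        exact (cj_cj K (t : P) s).le
    refine le_antisymm (heq ▸ (hnorm L inferInstance).resolve_right fun h => ?_) hLE
    exact hKM (hKL.trans (h.trans (Subgroup.normalCore_le M)))
  refine ⟨heq.trans hgfit.symm, hgfit, hEL.trans hLdef, ?_⟩
  -- the subgroup `K N_S(K)`
  obtain ⟨R, hR⟩ : ∃ R, R = (S : Subgroup P) ⊓ Subgroup.normalizer (K : Set P) := ⟨_, rfl⟩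
  rw [← hR]
  obtain ⟨H, hH⟩ : ∃ H, H = K ⊔ R := ⟨_, rfl⟩
  rw [← hH]
  have hKH : K ≤ H := hH ▸ le_sup_left
  have hRH : R ≤ H := hH ▸ le_sup_right
  have hRS : R ≤ (S : Subgroup P) := hR ▸ inf_le_left
  have hRN : R ≤ Subgroup.normalizer (K : Set P) := hR ▸ inf_le_right
  have hdecH : ∀ {A : Subgroup P}, R ≤ Subgroup.normalizer (A : Set P) → ∀ x ∈ A ⊔ R, ∃ a ∈ A, ∃ r ∈ R, x = a * r := by
    intro A hA x hx
    have h : x ∈ (A : Set P) * (R : Set P) := by
      rw [← Subgroup.coe_mul_of_right_le_normalizer_left _ _ hA]; exact hx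
    obtain ⟨a, ha, r, hr, rfl⟩ := h
    exact ⟨a, ha, r, hr, rfl⟩
  have hKR : K ⊓ R = K ⊓ (S : Subgroup P) := le_antisymm (inf_le_inf_left K hRS)
    (le_inf inf_le_left (hR ▸ le_inf inf_le_right (inf_le_left.trans Subgroup.le_normalizer)))
  have hRsyl : SylIn p R H := by
    refine ⟨hRH, S.isPGroup'.to_le hRS, fun hd => ?_⟩
    have h1 := Solv.card_sup_mul_card_inf' K R hRN
    rw [← hH, hKR, inf_comm K] at h1
    have h2 : Nat.card H = Nat.card R * R.relIndex H := by
      have := Subgroup.relIndex_mul_relIndex (⊥ : Subgroup P) R H bot_le hRH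
      rw [Subgroup.relIndex_bot_left, Subgroup.relIndex_bot_left] at this
      exact this.symm
    have h3 : Nat.card K = Nat.card ((S : Subgroup P) ⊓ K : Subgroup P) * ((S : Subgroup P) ⊓ K).relIndex K := by
      have := Subgroup.relIndex_mul_relIndex (⊥ : Subgroup P) ((S : Subgroup P) ⊓ K) K bot_le inf_le_right
      rw [Subgroup.relIndex_bot_left, Subgroup.relIndex_bot_left] at this
      exact this.symm
    refine hsylK.not_dvd ?_
    rw [h2, h3] at h1
    have h4 : R.relIndex H = ((S : Subgroup P) ⊓ K).relIndex K := by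
      refine Nat.eq_of_mul_eq_mul_left (Nat.mul_pos (Nat.card_pos (α := R))
        (Nat.card_pos (α := ((S : Subgroup P) ⊓ K : Subgroup P)))) ?_
      linarith [h1]
    rwa [← h4]
  obtain ⟨M₀, hM₀⟩ : ∃ M₀, M₀ = (M ⊓ K) ⊔ R := ⟨_, rfl⟩
  have hRMK : R ≤ Subgroup.normalizer ((M ⊓ K : Subgroup P) : Set P) := fun r hr =>
    mem_normalizer_iff_cj.2 (by rw [cj_inf, cj_eq_self_of_mem (hSM (hRS hr)), cj_eq_self (hRN hr)])
  have hM₀H : M₀ ≤ H := hM₀ ▸ sup_le (inf_le_right.trans hKH) hRH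
  have hKM₀ : ¬ K ≤ M₀ := by
    refine fun h => hKM fun k hk => ?_
    obtain ⟨a, ha, r, hr, rfl⟩ := hdecH hRMK k (hM₀ ▸ h hk)
    exact mul_mem (Subgroup.mem_inf.1 ha).1 (hSM (hRS hr))
  have hRtop : SylIn p (R.subgroupOf H) ⊤ := by
    obtain ⟨P', hP'⟩ := hRsyl.exists_sylow_subgroupOf
    rw [← hP']; exact sylIn_top P'
  refine isPMinimal_of (R.subgroupOf H) hRtop ?_ (M₀.subgroupOf H) ?_ ?_ ?_
  · -- `R` is not normal
    intro hn
    have hHR : H ≤ Subgroup.normalizer (R : Set P) := (Subgroup.normal_subgroupOf_iff_le_normalizer hRH).1 hn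
    have hKS : K ⊓ R ≤ Cfsg.pCore p P := by
      have h1 : ((K ⊓ R).subgroupOf K).Normal :=
        (Subgroup.normal_subgroupOf_iff_le_normalizer inf_le_left).2 fun k hk =>
          mem_normalizer_iff_cj.2 (by rw [cj_inf, cj_eq_self_of_mem hk, cj_eq_self (hHR (hKH hk))])
      refine Perm.subnormal_pgroup_le_pCore ?_ (S.isPGroup'.to_le (inf_le_right.trans hRS))
      exact Subgroup.IsSubnormal.step _ K inf_le_left hK.1 h1
    rw [hOp, le_bot_iff, hKR] at hKS
    -- then every component is a `p'`-group and `E(P) ≤ M`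
    have hKc : ¬ p ∣ Nat.card K := by
      have h := hsylK.not_dvd
      rwa [inf_comm, hKS, Subgroup.relIndex_bot_left] at h
    have hEd : ¬ p ∣ Nat.card (Cfsg.layer P) := by
      rw [hEL, hLdef]
      exact not_dvd_card_iSup hp (fun s : ↥(S : Subgroup P) => K.map (MulAut.conj (s : P)).toMonoidHom)
        (fun s => (card_cj K (s : P)).symm ▸ hKc)
        (fun s t u hu => layer_le_normalizer_component (Solv.component_conj hK (t : P))
          (Solv.component_le_layer (Solv.component_conj hK (s : P)) hu))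
    refine hEM (le_of_invariant_sylow (Cfsg.layer P) (S : Subgroup P) M S.isPGroup' hEd
      (fun q hq Q hQE hQq hQn => le_sup_left.trans (hSM' (Q ⊔ (S : Subgroup P)) (fun htop => ?_) le_sup_right)))
    -- the join with an invariant Sylow subgroup is proper
    haveI := Fact.mk hq
    refine hKnil (Cfsg.layer P) ?_ (Solv.component_le_layer hK)
    have hEQ : Cfsg.layer P = Q := by
      refine le_antisymm (fun e he => ?_) hQE
      have h : e ∈ (Q : Set P) * ((S : Subgroup P) : Set P) := by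
        rw [← Subgroup.coe_mul_of_right_le_normalizer_left _ _ hQn, htop]; trivial
      obtain ⟨a, ha, s, hs, rfl⟩ := h
      have hsE : s ∈ Cfsg.layer P := by
        have := mul_mem (inv_mem (hQE ha)) he; rwa [inv_mul_cancel_left] at this
      obtain ⟨k, hk⟩ := IsPGroup.iff_orderOf.1 S.isPGroup' ⟨s, hs⟩
      rw [Subgroup.orderOf_mk] at hk
      have : s = 1 := orderOf_eq_one_iff.1 (Nat.eq_one_of_dvd_coprimes (((hp.coprime_iff_not_dvd.2 hEd).symm).pow_right k)
        (Subgroup.orderOf_dvd_natCard _ hsE) hk.dvd)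
      simpa [this] using ha
    haveI := hQq.isNilpotent
    rw [hEQ]; exact this
  · rw [Ne, Subgroup.subgroupOf_eq_top]
    exact fun h => hKM₀ (hKH.trans h)
  · exact Subgroup.comap_mono (hM₀ ▸ le_sup_right)
  intro X hX hRX
  -- map back to `P`
  obtain ⟨Y, hY⟩ : ∃ Y, Y = X.map H.subtype := ⟨_, rfl⟩
  have hYH : Y ≤ H := hY ▸ Subgroup.map_subtype_le X
  have hRY : R ≤ Y := fun r hr => hY ▸ ⟨⟨r, hRH hr⟩, hRX (Subgroup.mem_subgroupOf.2 hr), rfl⟩
  suffices hYM : Y ≤ M₀ from fun x hx => Subgroup.mem_subgroupOf.2 (hYM (hY ▸ ⟨x, hx, rfl⟩))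
  have hKY : ¬ K ≤ Y := by
    intro h
    refine hX (Subgroup.map_injective H.subtype_injective ?_)
    rw [← hY, ← MonoidHom.range_eq_map, Subgroup.range_subtype]
    exact le_antisymm hYH (hH ▸ sup_le h hRY)
  obtain ⟨Xs, hXs⟩ : ∃ Xs, Xs = ⨆ s : ↥(S : Subgroup P), cj (Y ⊓ K) (s : P) := ⟨_, rfl⟩
  have hXsE : Xs ≤ Cfsg.layer P := hXs ▸ iSup_le fun s =>
    (cj_mono inf_le_right _).trans (Solv.component_le_layer (Solv.component_conj hK (s : P)))
  have hXsS : (S : Subgroup P) ≤ Subgroup.normalizer (Xs : Set P) := fun s hs => by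
    refine mem_normalizer_of_cj_le ?_
    rw [hXs, cj, Subgroup.map_iSup]
    refine iSup_le fun t => le_iSup_of_le ⟨s * t, mul_mem hs t.2⟩ ?_
    exact (cj_cj (Y ⊓ K) (t : P) s).le
  have hYK1 : Y ⊓ K ≤ Xs := hXs ▸ le_iSup_of_le 1 (by rw [Subgroup.coe_one]; exact (cj_one _).ge)
  have hXsM : Xs ⊔ (S : Subgroup P) ≤ M := by
    refine hSM' _ (fun htop => hKY ?_) le_sup_right
    obtain ⟨C, hC⟩ : ∃ C, C = Subgroup.centralizer (K : Set P) := ⟨_, rfl⟩
    have hXsC : Xs ≤ (Y ⊓ K) ⊔ C := hXs ▸ iSup_le fun s => by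
      by_cases hs : cj K (s : P) = K
      · have hsR : (s : P) ∈ R := hR ▸ Subgroup.mem_inf.2 ⟨s.2, mem_normalizer_iff_cj.2 hs⟩
        refine le_sup_of_le_left ?_
        rw [cj_inf, cj_eq_self_of_mem (hRY hsR), hs]
      · refine le_sup_of_le_right ((cj_mono inf_le_right _).trans ?_)
        rw [hC, ← Subgroup.commutator_eq_bot_iff_le_centralizer]
        exact Solv.components_commute (Solv.component_conj hK (s : P)) hK hs
    have hKC : ∀ k ∈ K, ∀ c ∈ C, k * c = c * k := fun k hk c hc =>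
      Subgroup.mem_centralizer_iff.1 (hC ▸ hc) k hk
    have hEKC : Cfsg.layer P ≤ K ⊔ C := by
      rw [hEL, hLdef]
      refine iSup_le fun s => ?_
      by_cases hs : cj K (s : P) = K
      · exact le_sup_of_le_left hs.le
      · refine le_sup_of_le_right ?_
        rw [hC, ← Subgroup.commutator_eq_bot_iff_le_centralizer]
        exact Solv.components_commute (Solv.component_conj hK (s : P)) hK hs
    have hdecC : ∀ {A : Subgroup P}, A ≤ K → ∀ x ∈ A ⊔ C, ∃ a ∈ A, ∃ c ∈ C, x = a * c := by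
      intro A hA x hx
      have hn : A ≤ Subgroup.normalizer (C : Set P) := fun a ha => mem_normalizer_of_cj_le (by
        rintro _ ⟨c, hc, rfl⟩
        show a * c * a⁻¹ ∈ C
        rw [hKC a (hA ha) c hc, mul_inv_cancel_right]; exact hc)
      have h : x ∈ (A : Set P) * (C : Set P) := by
        rw [← Subgroup.coe_mul_of_left_le_normalizer_right _ _ hn]; exact hx
      obtain ⟨a, ha, c, hc, rfl⟩ := h
      exact ⟨a, ha, c, hc, rfl⟩
    -- the Sylow subgroup of `E(P)` contributes nothing new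
    have hSE : (S : Subgroup P) ⊓ Cfsg.layer P ≤ (Y ⊓ K) ⊔ C := by
      intro t ht
      obtain ⟨htS, htE⟩ := Subgroup.mem_inf.1 ht
      obtain ⟨k, hk, c, hc, rfl⟩ := hdecC le_rfl t (hEKC htE)
      obtain ⟨U, hU⟩ : ∃ U, U = K ⊓ C := ⟨_, rfl⟩
      -- the `p`-part of `k` lies in `S ∩ K`
      obtain ⟨a, ha⟩ := IsPGroup.iff_orderOf.1 S.isPGroup' ⟨k * c, htS⟩
      rw [Subgroup.orderOf_mk] at ha
      have hkpU : k ^ p ^ a ∈ C := by
        have h1 : (k * c) ^ p ^ a = 1 := by rw [← ha, pow_orderOf_eq_one]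
        rw [(show Commute k c from hKC k hk c hc).mul_pow] at h1
        rw [eq_inv_of_mul_eq_one_left h1]
        exact inv_mem (pow_mem hc _)
      have hkn : k ∈ Subgroup.normalizer (((S : Subgroup P) ⊓ K : Subgroup P) : Set P) := by
        have h1 : k * c ∈ Subgroup.normalizer (((S : Subgroup P) ⊓ K : Subgroup P) : Set P) := by
          refine mem_normalizer_iff_cj.2 ?_
          have hn : k * c ∈ Subgroup.normalizer (K : Set P) := mem_normalizer_iff_cj.2 (by
            rw [← cj_cj, show cj K c = K from cj_eq_self (mem_normalizer_of_cj_le (by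
              rintro _ ⟨v, hv, rfl⟩
              show c * v * c⁻¹ ∈ K
              rw [← hKC v hv c hc, mul_inv_cancel_right]; exact hv)), cj_eq_self_of_mem hk])
          rw [cj_inf, cj_eq_self_of_mem htS, cj_eq_self hn]
        have h2 : c⁻¹ ∈ Subgroup.normalizer (((S : Subgroup P) ⊓ K : Subgroup P) : Set P) :=
          inv_mem (mem_normalizer_of_cj_le (by
            rintro _ ⟨v, hv, rfl⟩
            show c * v * c⁻¹ ∈ (S : Subgroup P) ⊓ K
            rw [← hKC v (Subgroup.mem_inf.1 hv).2 c hc, mul_inv_cancel_right]; exact hv))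
        have := mul_mem h1 h2
        rwa [mul_inv_cancel_right] at this
      obtain ⟨i, m, hm, him⟩ := Nat.exists_eq_pow_mul_and_not_dvd (orderOf_pos k).ne' p hp.ne_one
      have hco : Nat.Coprime m (p ^ a) := ((hp.coprime_iff_not_dvd.2 hm).pow_left a).symm
      have hkm : k ^ m ∈ (S : Subgroup P) ⊓ K := by
        have hpm : IsPGroup p (Subgroup.zpowers (k ^ m)) := by
          obtain ⟨j, -, hj⟩ := (Nat.dvd_prime_pow hp).1 (orderOf_dvd_of_pow_eq_one
            (show (k ^ m) ^ p ^ i = 1 by rw [← pow_mul, mul_comm, ← him, pow_orderOf_eq_one]))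
          exact IsPGroup.of_card (n := j) (by rw [Nat.card_zpowers, hj])
        rw [← hsylK.eq_of_le (hpm.to_sup_of_normal_right' (S.isPGroup'.to_le inf_le_left)
          (Subgroup.zpowers_le.2 (pow_mem hkn m))) le_sup_right
          (sup_le (Subgroup.zpowers_le.2 (pow_mem hk m)) inf_le_right)]
        exact Subgroup.mem_sup_left (Subgroup.mem_zpowers _)
      have hkmY : k ^ m ∈ Y ⊓ K := by
        obtain ⟨h1, h2⟩ := Subgroup.mem_inf.1 hkm
        refine Subgroup.mem_inf.2 ⟨hRY ?_, h2⟩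
        exact (hKR.ge.trans inf_le_right : K ⊓ (S : Subgroup P) ≤ R) (Subgroup.mem_inf.2 ⟨h2, h1⟩)
      obtain ⟨u, v, huv⟩ : ∃ u v : ℤ, u * (m : ℤ) + v * ((p ^ a : ℕ) : ℤ) = 1 :=
        Int.isCoprime_iff_nat_coprime.2 (by simpa using hco)
      refine mul_mem ?_ (Subgroup.mem_sup_right hc)
      have hk2 : k = (k ^ m) ^ u * (k ^ p ^ a) ^ v := by
        rw [← zpow_natCast k m, ← zpow_natCast k (p ^ a), ← zpow_mul, ← zpow_mul, ← zpow_add,
          show (m : ℤ) * u + ((p ^ a : ℕ) : ℤ) * v = 1 by linarith, zpow_one]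
      rw [hk2]
      exact mul_mem (Subgroup.mem_sup_left (zpow_mem hkmY u)) (Subgroup.mem_sup_right (zpow_mem hkpU v))
    have hKle : K ≤ (Y ⊓ K) ⊔ C := by
      intro k hk
      have h : k ∈ (Xs : Set P) * ((S : Subgroup P) : Set P) := by
        rw [← Subgroup.coe_mul_of_right_le_normalizer_left _ _ hXsS, htop]; trivial
      obtain ⟨x, hx, s, hs, rfl⟩ := h
      have hsE : s ∈ Cfsg.layer P := by
        have := mul_mem (inv_mem (hXsE hx)) (Solv.component_le_layer hK hk)
        rwa [inv_mul_cancel_left] at this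
      exact mul_mem (hXsC hx) (hSE (Subgroup.mem_inf.2 ⟨hs, hsE⟩))
    calc K = ⁅K, K⁆ := (Solv.qs_self_commutator hK.2).symm
      _ ≤ Y ⊓ K := Subgroup.commutator_le.2 fun k₁ hk₁ k₂ hk₂ => by
          obtain ⟨a₁, ha₁, c₁, hc₁, rfl⟩ := hdecC inf_le_right k₁ (hKle hk₁)
          obtain ⟨a₂, ha₂, c₂, hc₂, rfl⟩ := hdecC inf_le_right k₂ (hKle hk₂)
          have e1 : c₁ * (a₂ * c₂) = a₂ * c₂ * c₁ := (hKC _ hk₂ c₁ hc₁).symm
          have e2 : a₁ * c₂ = c₂ * a₁ := hKC a₁ (Subgroup.mem_inf.1 ha₁).2 c₂ hc₂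
          have e : ⁅a₁ * c₁, a₂ * c₂⁆ = ⁅a₁, a₂⁆ := by
            calc ⁅a₁ * c₁, a₂ * c₂⁆ = a₁ * (c₁ * (a₂ * c₂)) * c₁⁻¹ * a₁⁻¹ * c₂⁻¹ * a₂⁻¹ := by
                  rw [commutatorElement_def]; group
              _ = a₁ * a₂ * (c₂ * (a₁⁻¹ * c₂⁻¹)) * a₂⁻¹ := by rw [e1]; group
              _ = a₁ * a₂ * a₁⁻¹ * a₂⁻¹ := by
                  rw [show a₁⁻¹ * c₂⁻¹ = c₂⁻¹ * a₁⁻¹ from (show Commute a₁ c₂ from e2).inv_inv.eq, mul_inv_cancel_left]
              _ = ⁅a₁, a₂⁆ := (commutatorElement_def _ _).symm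
          rw [e]
          exact mul_mem (mul_mem (mul_mem ha₁ ha₂) (inv_mem ha₁)) (inv_mem ha₂)
      _ ≤ Y := inf_le_left
  intro x hx
  obtain ⟨k, hk, r, hr, rfl⟩ := hdecH hRN x (hH ▸ hYH hx)
  have hkY : k ∈ Y := by
    have := mul_mem hx (inv_mem (hRY hr)); rwa [mul_inv_cancel_right] at this
  rw [hM₀]
  exact mul_mem (Subgroup.mem_sup_left (Subgroup.mem_inf.2
    ⟨hXsM (Subgroup.mem_sup_left (hYK1 (Subgroup.mem_inf.2 ⟨hkY, hk⟩))), hk⟩)) (Subgroup.mem_sup_right hr)

end Cfsg.Agent.S2906
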