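import Cfsg.Statements.S1224
import Cfsg.Agent.Lib.Fusion.StronglyEmbeddedPairs

set_option autoImplicit false
open Cfsg
open Cfsg.Agent.Fusion
open scoped commutatorElement

namespace Cfsg.Agent.S1224

/-- Let H be a strongly embedded subgroup of the finite group G and x ≠ y two cosets in G/H. Then the number of involutions i of G with i • x = y equals the number of involutions lying in H. -/
theorem result {G : Type*} [Group G] [Finite G] (H : Subgroup G) (hH : Cfsg.IsStronglyEmbedded H) (x y : G ⧸ H) (hxy : x ≠ y) : Nat.card {i : G // orderOf i = 2 ∧ i • x = y} = Nat.card {t : G // orderOf t = 2 ∧ t ∈ H} := by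
  rw [SEPairs.card_swappers hH hxy]
  -- move the fixed point to the coset `H`
  obtain ⟨g, hg⟩ := MulAction.exists_smul_eq G x (QuotientGroup.mk 1 : G ⧸ H)
  refine Nat.card_congr ((MulAut.conj g).toEquiv.subtypeEquiv fun t => ?_)
  show _ ↔ orderOf (g * t * g⁻¹) = 2 ∧ g * t * g⁻¹ ∈ H
  rw [show orderOf (g * t * g⁻¹) = orderOf t from
    orderOf_injective (MulAut.conj g).toMonoidHom (MulAut.conj g).injective t]
  refine and_congr_right fun _ => ?_
  have h1 : (g * t * g⁻¹) • (g • x) = g • x ↔ t • x = x := by
    rw [mul_smul, mul_smul, inv_smul_smul, smul_left_cancel_iff]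
  rw [hg, SEPairs.smul_mk_eq_iff, inv_one, one_mul, mul_one] at h1
  exact h1.symm

end Cfsg.Agent.S1224
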