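import Cfsg.Statements.S2791
import Cfsg.Agent.Lib.Fusion.NormalControl
-- import your own Cfsg.Agent.* helpers here

set_option autoImplicit false
open Cfsg

open Cfsg.Agent Cfsg.Agent.Fusion
open scoped commutatorElement

namespace Cfsg.Agent.S2791

/-- Let S be a Sylow p-subgroup of the finite group G and A an abelian subgroup of S that is strongly closed in S with respect to G. Then A controls strong fusion in G: for some Sylow p-subgroup T containing A, whenever a subset of T is conjugated into T by an element of G, the same elementwise conjugation is induced by an element of N_G(A). -/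
theorem result {G : Type*} [Group G] [Finite G] {p : ℕ} [Fact p.Prime] (S : Sylow p G) (A : Subgroup G) (hA : IsMulCommutative ↥A) (hsc : Cfsg.IsStronglyClosed A (S : Subgroup G)) : Cfsg.ControlsStrongFusion p A := by
  obtain ⟨hAS, hcl⟩ := hsc
  have hPW : (S : Subgroup G) ≤ Subgroup.normalizer (A : Set G) := fun s hs => mem_normalizer_of_cj_le (by
    rintro _ ⟨a, ha, rfl⟩
    exact hcl a ha s (mul_mem (mul_mem hs (hAS ha)) (inv_mem hs)))
  have hsucc : ∀ i, A.lowerCentralSeries (i + 1) = ⊥ := by
    intro i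
    rw [Subgroup.lowerCentralSeries_succ, eq_bot_iff, Subgroup.commutator_le]
    intro a ha b hb
    rw [Subgroup.mem_bot, commutatorElement_eq_one_iff_mul_comm]
    exact congrArg Subtype.val (mul_comm' (⟨a, lower_le A i ha⟩ : ↥A) ⟨b, hb⟩)
  refine ⟨S, hAS, fun B hB => ⟨hB, fun g hg => ?_⟩⟩
  obtain ⟨c, hc, n, hn, he⟩ := normalizer_controls_of_series (W := A) (sylIn_top S) hAS hPW
    (fun i x hx t ht => by
      rcases i with _ | i
      · simp only [Subgroup.lowerCentralSeries_zero] at hx ⊢
        exact hcl x hx t ht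
      · rw [hsucc i, Subgroup.mem_bot] at hx ⊢
        rw [hx]; simp) (g := g⁻¹) hB
    (by rintro _ ⟨a, ha, rfl⟩; exact hg ⟨a, ha, by group⟩)
  refine ⟨n⁻¹, inv_mem hn, fun a ha => ?_⟩
  have h1 := Subgroup.mem_centralizer_iff.1 (inv_mem hc) a ha
  have he' : g = (c * n)⁻¹ := by rw [← he, inv_inv]
  calc g * a * g⁻¹ = n⁻¹ * (c⁻¹ * a) * c * n := by rw [he']; group
    _ = n⁻¹ * (a * c⁻¹) * c * n := by rw [h1]
    _ = n⁻¹ * a * n⁻¹⁻¹ := by group

end Cfsg.Agent.S2791
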