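import Cfsg.Statements.S2947
import Cfsg.Agent.Lib.Fusion.Basic
import Cfsg.Agent.Lib.Fusion.Cores
import Cfsg.Agent.Lib.LocalEven.SylowGraph
-- import your own Cfsg.Agent.* helpers here

set_option autoImplicit false
open Cfsg

namespace Cfsg.Agent.S2947

open Cfsg.Agent.Fusion Cfsg.Agent.LocalEven
open scoped commutatorElement Pointwise

/-- Let G be a finite group of characteristic 2 type in which every 2-local subgroup is solvable and the centralizer of Ω₁(Z(S)) lies in N_G(S) for every Sylow 2-subgroup S; suppose O₂(G) = 1, fix a Sylow 2-subgroup S and a 2-local subgroup M containing N_G(J(S)) (J the Thompson subgroup generated by the elementary abelian 2-subgroups of largest order). Then M is strongly embedded in G (a proper subgroup of even order whose intersection with each conjugate by an element outside M has odd order) if and only if no nontrivial 2-subgroup of M lies in a 2-local subgroup of G not contained in M. -/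
theorem result {G : Type*} [Group G] [Finite G] (hL : Cfsg.IsCharacteristicTwoType G) (hN : ∀ N : Subgroup G, Cfsg.IsTwoLocal N → Group.IsSolvable ↥N)
    (hZ : ∀ S : Sylow 2 G, Subgroup.centralizer (Cfsg.omegaCenterOf (S : Subgroup G) : Set G) ≤ Subgroup.normalizer ((S : Subgroup G) : Set G)) (hO : Cfsg.pCore 2 G = ⊥) (S : Sylow 2 G) (M : Subgroup G) (hM : Cfsg.IsTwoLocal M)
    (hMJ : Subgroup.normalizer (Cfsg.thompsonSubgroupOf 2 (S : Subgroup G) : Set G) ≤ M) :
    Cfsg.IsStronglyEmbedded M ↔ Cfsg.straddlingTwoSubgroups M = ∅ := by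
  have _ := hL; have _ := hN; have _ := hZ
  haveI : Fact (Nat.Prime 2) := ⟨Nat.prime_two⟩
  obtain ⟨Q₀, hQ₀, hQ₀1, hMeq⟩ := hM
  have hdvd : ∀ {X : Subgroup G}, IsPGroup 2 X → X ≠ ⊥ → 2 ∣ Nat.card X := fun h h' => SylowGraph.dvd_of_pgroup h h'
  constructor
  · intro hse
    have hse' : ∀ g : G, g ∉ M → ¬ 2 ∣ Nat.card ↥(M ⊓ cj M g) := fun g hg hd =>
      (Nat.not_even_iff_odd.2 (hse.2.2 g hg)) (even_iff_two_dvd.2 hd)
    refine Set.eq_empty_iff_forall_notMem.2 ?_
    rintro T ⟨hT, hT1, hTM, L, ⟨Q, hQ, hQ1, rfl⟩, hTL, hLM⟩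
    refine hLM (SylowGraph.normalizer_le hse' hQ hQ1 ?_)
    obtain ⟨P, hP⟩ := (show IsPGroup 2 ↥(T ⊔ Q) from hT.to_sup_of_normal_right' hQ hTL).exists_le_sylow
    refine (le_sup_right.trans hP).trans (SylowGraph.sylow_le hse' fun h => hT1 (le_bot_iff.1 (h ▸ le_inf (le_sup_left.trans hP) hTM)))
  · intro hempty
    have hnorm : ∀ X : Subgroup G, IsPGroup 2 X → X ≠ ⊥ → X ≤ M → Subgroup.normalizer (X : Set G) ≤ M := by
      intro X hX hX1 hXM
      by_contra h
      exact (Set.eq_empty_iff_forall_notMem.1 hempty X) ⟨hX, hX1, hXM, _, ⟨X, hX, hX1, rfl⟩, Subgroup.le_normalizer, h⟩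
    have hgrow : ∀ P : Sylow 2 G, (P : Subgroup G) ⊓ M ≠ ⊥ → (P : Subgroup G) ≤ M := by
      intro P hP
      by_contra hle
      have hne : (P : Subgroup G) ⊓ M ≠ (P : Subgroup G) := fun h => hle (h ▸ inf_le_right)
      exact (SylIn.normalizer_growth inf_le_left hne P.isPGroup').not_ge
        (le_inf inf_le_left (inf_le_right.trans (hnorm _ P.isPGroup'.to_inf_left hP inf_le_right)))
    have hQ₀M : Q₀ ≤ M := hMeq ▸ Subgroup.le_normalizer
    refine ⟨fun htop => ?_, even_iff_two_dvd.2 ((hdvd hQ₀ hQ₀1).trans (Subgroup.card_dvd_of_le hQ₀M)), ?_⟩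
    · haveI : Q₀.Normal := Subgroup.normalizer_eq_top_iff.1 (hMeq.symm.trans htop)
      exact hQ₀1 (le_bot_iff.1 (hO ▸ le_pCore hQ₀))
    intro g hg
    rw [← Nat.not_even_iff_odd, even_iff_two_dvd]
    intro hd
    obtain ⟨t, ⟨htM, htg⟩, hto⟩ := SylowGraph.exists_order_p hd
    have hX : IsPGroup 2 (Subgroup.zpowers t) := IsPGroup.of_card (n := 1) (by rw [Nat.card_zpowers, hto, pow_one])
    obtain ⟨P, hP⟩ := hX.exists_le_sylow
    have ht1 : t ≠ 1 := fun h => by rw [h, orderOf_one] at hto; omega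
    have hPM : (P : Subgroup G) ≤ M := hgrow P fun h => ht1 (Subgroup.mem_bot.1
      (h ▸ (⟨hP (Subgroup.mem_zpowers t), htM⟩ : t ∈ (P : Subgroup G) ⊓ M)))
    have hPg : cj (P : Subgroup G) g⁻¹ ≤ M := by
      refine hgrow (g⁻¹ • P) fun h => ?_
      have hm : g⁻¹ * t * g⁻¹⁻¹ ∈ ((g⁻¹ • P : Sylow 2 G) : Subgroup G) ⊓ M :=
        ⟨conj_mem_cj (hP (Subgroup.mem_zpowers t)), by simpa using mem_cj.1 htg⟩
      rw [h, Subgroup.mem_bot, conj_eq_one_iff] at hm
      exact ht1 hm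
    have hs : SylIn 2 (P : Subgroup G) M := (sylIn_top P).mono hPM le_top
    have hs' : SylIn 2 (cj (P : Subgroup G) g⁻¹) M := (sylIn_top (g⁻¹ • P)).mono hPg le_top
    obtain ⟨m, hm, hme⟩ := hs'.conj_eq hs
    rw [cj_cj] at hme
    have hP1 : (P : Subgroup G) ≠ ⊥ := fun h => ht1 (Subgroup.mem_bot.1 (h ▸ hP (Subgroup.mem_zpowers t)))
    have h1 := hnorm _ P.isPGroup' hP1 hPM (mem_normalizer_iff_cj.2 hme)
    exact hg (by simpa using inv_mem ((Subgroup.mul_mem_cancel_left _ hm).1 h1))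

end Cfsg.Agent.S2947
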