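import Cfsg.Statements.S2941
import Cfsg.Agent.Lib.Fusion.Basic
import Cfsg.Agent.Lib.Fusion.Cores
import Cfsg.Agent.Lib.LocalEven.SylowGraph
-- import your own Cfsg.Agent.* helpers here

set_option autoImplicit false
open Cfsg

namespace Cfsg.Agent.S2941

open Cfsg.Agent.Fusion Cfsg.Agent.LocalEven
open scoped commutatorElement Pointwise

/-- Let G be a finite group of characteristic 2 type in which every 2-local subgroup is solvable and the centralizer of Ω₁(Z(S)) lies in N_G(S) for every Sylow 2-subgroup S, and let T be a nontrivial 2-subgroup and K a J(T)-component (J the Thompson subgroup generated by the elementary abelian 2-subgroups of largest order). If a subgroup Q is normalized by ⟨K, J(T)⟩ and normalizes J(T), then Q normalizes K. -/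
theorem result {G : Type*} [Group G] [Finite G] (hL : Cfsg.IsCharacteristicTwoType G) (hN : ∀ N : Subgroup G, Cfsg.IsTwoLocal N → Group.IsSolvable ↥N)
    (hZ : ∀ S : Sylow 2 G, Subgroup.centralizer (Cfsg.omegaCenterOf (S : Subgroup G) : Set G) ≤ Subgroup.normalizer ((S : Subgroup G) : Set G)) (T : Subgroup G) (hT : IsPGroup 2 ↥T) (hT1 : T ≠ ⊥) (K : Subgroup G) (hK : Cfsg.IsJComponent T K)
    (Q : Subgroup G) (hQ1 : K ⊔ Cfsg.thompsonSubgroupOf 2 T ≤ Subgroup.normalizer (Q : Set G)) (hQ2 : Q ≤ Subgroup.normalizer (Cfsg.thompsonSubgroupOf 2 T : Set G)) :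
    Q ≤ Subgroup.normalizer (K : Set G) := by
  have _ := hL; have _ := hN; have _ := hZ; have _ := hT1
  haveI : Fact (Nat.Prime 2) := ⟨Nat.prime_two⟩
  obtain ⟨hgen, hcomm, -, -, -, -⟩ := hK
  set J := Cfsg.thompsonSubgroupOf 2 T
  have hJ : IsPGroup 2 J := hT.to_le (Subgroup.map_subtype_le _)
  have hKn : J ≤ Subgroup.normalizer (K : Set G) := by
    have h := Subgroup.normalizer_commutator_ge_right (H₁ := K) (H₂ := J)
    rwa [hcomm] at h
  set L := K ⊔ J
  haveI hnK : (K.subgroupOf L).Normal :=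
    Subgroup.normal_subgroupOf_of_le_normalizer (sup_le Subgroup.le_normalizer hKn)
  have hLJ : L = ⨆ k : ↥L, cj J k := by
    refine le_antisymm (sup_le ?_ (le_iSup_of_le 1 (by simp [cj_one]))) (iSup_le fun k => ?_)
    · have hle : J ≤ ⨆ k : ↥L, cj J k := le_iSup_of_le 1 (by simp [cj_one])
      conv_lhs => rw [← hcomm]
      rw [Subgroup.commutator_le]
      intro k hk j hj
      have h1 : k * j * k⁻¹ ∈ ⨆ k : ↥L, cj J k :=
        (le_iSup (fun k : ↥L => cj J k) ⟨k, Subgroup.mem_sup_left hk⟩) (conj_mem_cj hj)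
      rw [commutatorElement_def]
      exact mul_mem h1 (inv_mem (hle hj))
    · exact (cj_mono le_sup_right _).trans (cj_eq_self_of_mem k.2).le
  intro q hq
  have hqJ : ∀ k : ↥L, cj (cj J k) q = cj J k := by
    intro k
    have hk : (k : G)⁻¹ * q * k ∈ Q := (Subgroup.mem_normalizer_iff''.1 (hQ1 k.2) q).1 hq
    have e := cj_eq_self (hQ2 hk)
    rw [cj_cj]
    calc cj J (q * k) = cj J (k * ((k : G)⁻¹ * q * k)) := by group
      _ = cj J k := by rw [← cj_cj, e]
  have hqL : cj L q = L := by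
    conv_lhs => rw [hLJ]
    rw [cj, Subgroup.map_iSup]
    conv_rhs => rw [hLJ]
    exact iSup_congr hqJ
  have hodd : ∀ x ∈ L, Odd (orderOf x) → x ∈ K := by
    intro x hx ho
    have hquot : IsPGroup 2 (↥L ⧸ K.subgroupOf L) := by
      refine (hJ.map (MonoidHom.id G)).of_surjective
        ((QuotientGroup.mk' (K.subgroupOf L)).comp (Subgroup.inclusion (show J.map (MonoidHom.id G) ≤ L by rw [Subgroup.map_id]; exact le_sup_right))) ?_
      intro y
      obtain ⟨⟨y, hy⟩, rfl⟩ := QuotientGroup.mk'_surjective _ y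
      obtain ⟨k, hk, j, hj, rfl⟩ : ∃ k ∈ K, ∃ j ∈ J, k * j = y := by
        have : y ∈ ((K ⊔ J : Subgroup G) : Set G) := hy
        rw [Subgroup.coe_mul_of_right_le_normalizer_left K J hKn] at this
        exact this
      refine ⟨⟨j, by rw [Subgroup.map_id]; exact hj⟩, ?_⟩
      rw [MonoidHom.comp_apply, QuotientGroup.mk'_apply, QuotientGroup.mk'_apply, eq_comm, QuotientGroup.eq]
      have := (hKn (inv_mem hj))
      rw [Subgroup.mem_subgroupOf]
      change (k * j)⁻¹ * j ∈ K
      rw [mul_inv_rev]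
      simpa [mul_assoc] using (Subgroup.mem_normalizer_iff.1 this k⁻¹).1 (inv_mem hk)
    obtain ⟨m, hm⟩ := hquot (QuotientGroup.mk ⟨x, hx⟩)
    have h2 : orderOf (QuotientGroup.mk ⟨x, hx⟩ : ↥L ⧸ K.subgroupOf L) ∣ orderOf x :=
      (orderOf_map_dvd (QuotientGroup.mk' (K.subgroupOf L)) ⟨x, hx⟩).trans (Subgroup.orderOf_mk x hx).dvd
    have h3 := Nat.eq_one_of_dvd_coprimes ((Nat.coprime_two_left.2 ho).pow_left m) (orderOf_dvd_iff_pow_eq_one.2 hm) h2
    exact (QuotientGroup.eq_one_iff (N := K.subgroupOf L) (⟨x, hx⟩ : ↥L)).1 (orderOf_eq_one_iff.1 h3)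
  refine mem_normalizer_of_cj_le ?_
  conv_lhs => rw [← hgen]
  rw [cj, MonoidHom.map_closure, Subgroup.closure_le]
  rintro _ ⟨x, ⟨hxK, hxo⟩, rfl⟩
  refine hodd _ (hqL.le (conj_mem_cj (g := q) (Subgroup.mem_sup_left hxK))) ?_
  rwa [orderOf_injective _ (MulAut.conj q).injective]

end Cfsg.Agent.S2941
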