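import Cfsg.Statements.S2820
import Cfsg.Agent.Lib.LocalEven.Isolated
import Cfsg.Agent.Lib.Perm.Subnormalizer
-- import your own Cfsg.Agent.* helpers here

set_option autoImplicit false
open Cfsg

open Cfsg.Agent Cfsg.Agent.Fusion
open scoped commutatorElement

namespace Cfsg.Agent.S2820

/-- Let A and B be subnormal subgroups of the finite group H with A a p-group and B = O^p(B) (B generated by its elements of order prime to p). Then A normalizes B and B = O^p(AB), the subgroup of ⟨A, B⟩ generated by its elements of order prime to p. -/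
theorem result {H : Type*} [Group H] [Finite H] {p : ℕ} [Fact p.Prime] (A B : Subgroup H) (hA : A.IsSubnormal) (hB : B.IsSubnormal) (hAp : IsPGroup p ↥A) (hBres : (Cfsg.pResidual p ↥B).map B.subtype = B) : A ≤ Subgroup.normalizer (B : Set H) ∧ (Cfsg.pResidual p ↥(A ⊔ B)).map (A ⊔ B).subtype = B := by
  have hAR : A ≤ Cfsg.pCore p H := Perm.subnormal_pgroup_le_pCore hA hAp
  have hmem : ∀ x : H, x ∈ B ⊔ Cfsg.pCore p H → (orderOf x).Coprime p → x ∈ B := by
    clear hBres
    induction hB with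
    | top => exact fun x _ _ => Subgroup.mem_top x
    | step B K hBK _ hn ih =>
      intro x hx hxc
      have hxK := ih x (sup_le_sup_right hBK _ hx) hxc
      obtain ⟨b, hb, r, hr, rfl⟩ := Subgroup.mem_sup_of_normal_right.1 hx
      have hrK : r ∈ K := by simpa using mul_mem (inv_mem (hBK hb)) hxK
      haveI := hn
      obtain ⟨n, hn'⟩ := isPGroup_pCore p H ⟨r, hr⟩
      have hq : (QuotientGroup.mk (⟨b * r, hxK⟩ : ↥K) : ↥K ⧸ B.subgroupOf K) = QuotientGroup.mk ⟨r, hrK⟩ := by
        rw [show (⟨b * r, hxK⟩ : ↥K) = ⟨b, hBK hb⟩ * ⟨r, hrK⟩ from rfl, QuotientGroup.mk_mul,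
          (QuotientGroup.eq_one_iff _).2 (show (⟨b, hBK hb⟩ : ↥K) ∈ B.subgroupOf K from hb), one_mul]
      have h1 : (QuotientGroup.mk (⟨b * r, hxK⟩ : ↥K) : ↥K ⧸ B.subgroupOf K) = 1 := by
        refine LocalEven.eq_one_of_pow_coprime (n := n) ?_ ?_ hxc
        · rw [hq, ← QuotientGroup.mk_pow, show (⟨r, hrK⟩ : ↥K) ^ p ^ n = 1 from
            Subtype.ext (show r ^ p ^ n = 1 from congrArg Subtype.val hn'), QuotientGroup.mk_one]
        · rw [← QuotientGroup.mk_pow, show (⟨b * r, hxK⟩ : ↥K) ^ orderOf (b * r) = 1 from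
            Subtype.ext (pow_orderOf_eq_one (b * r)), QuotientGroup.mk_one]
      exact (QuotientGroup.eq_one_iff (⟨b * r, hxK⟩ : ↥K)).1 h1
  have hgen : B = Subgroup.closure {x : H | x ∈ B ∧ (orderOf x).Coprime p} := by
    refine le_antisymm ?_ ((Subgroup.closure_le _).2 fun x hx => hx.1)
    conv_lhs => rw [← hBres, Cfsg.pResidual, MonoidHom.map_closure]
    refine Subgroup.closure_mono ?_
    rintro _ ⟨b, hb, rfl⟩
    exact ⟨b.2, by show (orderOf (b : H)).Coprime p; rw [Subgroup.orderOf_coe]; exact hb⟩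
  have hnorm : Cfsg.pCore p H ≤ Subgroup.normalizer (B : Set H) := by
    intro r hr
    refine mem_normalizer_of_cj_le ?_
    rw [cj_le_iff]
    conv_lhs => rw [hgen]
    refine (Subgroup.closure_le _).2 ?_
    rintro x ⟨hx, hxc⟩
    rw [SetLike.mem_coe, mem_cj, inv_inv]
    refine hmem _ (mul_mem (mul_mem (Subgroup.mem_sup_right hr) (Subgroup.mem_sup_left hx))
      (Subgroup.mem_sup_right (inv_mem hr))) ?_
    rwa [← MulAut.conj_apply, MulEquiv.orderOf_eq]
  refine ⟨hAR.trans hnorm, le_antisymm ?_ ?_⟩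
  · rw [Cfsg.pResidual, MonoidHom.map_closure, Subgroup.closure_le]
    rintro _ ⟨x, hx, rfl⟩
    refine hmem _ (sup_le (hAR.trans le_sup_right) le_sup_left x.2) ?_
    show (orderOf (x : H)).Coprime p
    rw [Subgroup.orderOf_coe]; exact hx
  · conv_lhs => rw [hgen]
    refine (Subgroup.closure_le _).2 ?_
    rintro x ⟨hx, hxc⟩
    refine ⟨⟨x, Subgroup.mem_sup_right hx⟩, Subgroup.subset_closure ?_, rfl⟩
    show (orderOf (⟨x, Subgroup.mem_sup_right hx⟩ : ↥(A ⊔ B))).Coprime p
    rwa [Subgroup.orderOf_mk]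

end Cfsg.Agent.S2820
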