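import Cfsg.Statements.S1993
import Cfsg.Agent.Lib.Fusion.KInfTransfer
import Cfsg.Agent.Lib.Fusion.StableFusion

set_option autoImplicit false
universe u
open Cfsg
open Cfsg.Agent.Fusion
open scoped commutatorElement

namespace Cfsg.Agent.S1993

/-- Let p be a prime, G a finite group with Sylow p-subgroup S, and K the upper K-infinity subgroup of S. If p ≥ 5 then S ∩ G' = S ∩ (N_G(K))'; and if p is odd and every section of G is p-stable in the normalizer form, then K controls strong fusion in G. -/
theorem result {G : Type u} [Group G] [Finite G] {p : ℕ} [Fact p.Prime] (S : Sylow p G) : (5 ≤ p → (S : Subgroup G) ⊓ commutator G = (S : Subgroup G) ⊓ ⁅Subgroup.normalizer ((Cfsg.inducedFunctor Cfsg.kInfUpper (S : Subgroup G) : Subgroup G) : Set G), Subgroup.normalizer ((Cfsg.inducedFunctor Cfsg.kInfUpper (S : Subgroup G) : Subgroup G) : Set G)⁆) ∧ (p ≠ 2 → (∀ (K R : Subgroup G) [hR : (R.subgroupOf K).Normal], Cfsg.IsNormalizerPStable p (↥K ⧸ R.subgroupOf K)) → Cfsg.ControlsStrongFusion p (Cfsg.inducedFunctor Cfsg.kInfUpper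 (S : Subgroup G))) := by
  refine ⟨fun hp => ?_, fun _ hst => controlsStrongFusion_of_normal (isCharPFunctor_kInfUpper p)
    (fun X _ _ hX hc T hT =>
      (kInf_normal_of_stable hT hc fun N _ => stable_section_quotient hst X hX N).2) S⟩
  obtain ⟨T, hT, hf⟩ := (controlsTransfer_iff _ _).1 (kInfUpper_transfer hp G)
  have hf' := (famTransAt_singleton _ _ _).1 (hf.sylow (fun W' hW' => by
    rw [Set.mem_singleton_iff.1 hW']; exact isConjugacyFunctor_induced (isCharPFunctor_kInfUpper p))
    hT (sylIn_top S))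
  rw [top_inf_eq] at hf'
  rw [← hf', commutator_def]

end Cfsg.Agent.S1993
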