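import Cfsg.Statements.S3125
import Cfsg.Agent.S1993
import Cfsg.Agent.S0144
import Cfsg.Agent.Lib.Solv.ThompsonFPF

set_option autoImplicit false
open Cfsg

namespace Cfsg.Agent.S3125

universe u

theorem not_le_commutator : ∀ (n : ℕ) (G : Type u) [Group G] [Finite G], Nat.card G ≤ n →
    ∀ (p : ℕ) [Fact p.Prime], 5 ≤ p → ∀ P : Sylow p G, (P : Subgroup G) ≠ ⊥ →
      Subgroup.normalizer ((P : Subgroup G) : Set G) = P → ¬ (P : Subgroup G) ≤ commutator G := by
  intro n
  induction n with
  | zero => intro G _ _ hn; exact absurd hn (by have := Nat.card_pos (α := G); omega)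
  | succ n ih =>
    intro G _ _ hn p _ hp P hPne hN hle
    set K := inducedFunctor kInfUpper (P : Subgroup G) with hK
    have hW := Fusion.isCharPFunctor_kInfUpper.{u} p
    obtain ⟨hKle, hKne, -⟩ := Fusion.isConjugacyFunctor_induced (G := G) hW (P : Subgroup G) P.2
    have hKb : K ≠ ⊥ := hKne hPne
    set H := Subgroup.normalizer (K : Set G) with hH
    have hPH : (P : Subgroup G) ≤ H := by
      rw [hH, hK, inducedFunctor]
      intro x hx
      refine Solv.mem_normalizer_of_map_conj ?_
      have := Fusion.inducedFunctor_map_of_injOn hW (MulAut.conj x).toMonoidHom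
        (MulAut.conj x).injective.injOn P.2
      rw [Solv.map_conj_of_mem (Subgroup.le_normalizer hx)] at this
      exact this.symm
    have htr := (S1993.result P).1 hp
    by_cases hKn : K.Normal
    · -- pass to the quotient
      by_cases hPK : (P : Subgroup G) = K
      · have htop : (P : Subgroup G) = ⊤ := by
          rw [← hN, Subgroup.normalizer_eq_top_iff, hPK]
          exact hKn
        have hnt : Nontrivial G := by
          obtain ⟨a, ha⟩ := Subgroup.ne_bot_iff_exists_ne_one.1 hPne
          exact ⟨(a : G), 1, fun h => ha (Subtype.ext h)⟩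
        have hnil : Group.IsNilpotent G := by
          have hG : IsPGroup p (⊤ : Subgroup G) := htop ▸ P.2
          exact (hG.of_equiv Subgroup.topEquiv).isNilpotent
        have hsol : Group.IsSolvable G := inferInstance
        exact (Group.IsSolvable.commutator_lt_top_of_nontrivial G).ne (top_le_iff.1 (htop ▸ hle))
      · haveI := hKn
        let f := QuotientGroup.mk' K
        have hf : Function.Surjective f := QuotientGroup.mk'_surjective K
        have hlt : Nat.card (G ⧸ K) ≤ n := by
          have h2 := Subgroup.card_eq_card_quotient_mul_card_subgroup K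
          have h3 : 2 ≤ Nat.card K := (Subgroup.one_lt_card_iff_ne_bot K).2 hKb
          have h4 : Nat.card (G ⧸ K) * 2 ≤ Nat.card G := h2 ▸ Nat.mul_le_mul_left _ h3
          have h5 : 0 < Nat.card (G ⧸ K) := Nat.card_pos
          omega
        let P' : Sylow p (G ⧸ K) := P.mapSurjective hf
        have hP' : (P' : Subgroup (G ⧸ K)) = (P : Subgroup G).map f := rfl
        refine ih (G ⧸ K) hlt p hp P' ?_ ?_ ?_
        · rw [hP', Ne, Subgroup.map_eq_bot_iff, QuotientGroup.ker_mk']
          exact fun h => hPK (le_antisymm h hKle)
        · rw [hP']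
          apply le_antisymm ?_ Subgroup.le_normalizer
          intro z hz
          obtain ⟨x, rfl⟩ := hf z
          refine ⟨x, ?_, rfl⟩
          show x ∈ (P : Subgroup G)
          rw [← hN]
          refine Solv.mem_normalizer_of_map_conj ?_
          refine Subgroup.eq_of_le_of_card_ge ?_ (le_of_eq
            (Subgroup.card_map_of_injective (MulAut.conj x).injective).symm)
          rintro _ ⟨y, hy, rfl⟩
          obtain ⟨w, hw, hwe⟩ := (Subgroup.mem_normalizer_iff.1 hz (f y)).1 ⟨y, hy, rfl⟩
          have hk : w⁻¹ * (x * y * x⁻¹) ∈ K := by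
            rw [← QuotientGroup.eq_one_iff]
            show f (w⁻¹ * (x * y * x⁻¹)) = 1
            rw [map_mul, map_mul, map_mul, map_inv, map_inv, hwe]
            group
          have := (P : Subgroup G).mul_mem hw (hKle hk)
          rwa [mul_inv_cancel_left] at this
        · rw [hP']
          refine (Subgroup.map_mono hle).trans ?_
          rw [commutator_def, commutator_def, Subgroup.map_commutator]
          exact Subgroup.commutator_mono le_top le_top
    · -- pass to the normalizer
      have hHne : H ≠ ⊤ := fun h => hKn (Subgroup.normalizer_eq_top_iff.1 h)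
      have hlt : Nat.card H ≤ n := by
        have h1 : Nat.card H < Nat.card G := by
          refine lt_of_le_of_ne (Nat.card_le_card_of_injective _ H.subtype_injective) fun h => hHne ?_
          exact Subgroup.eq_top_of_card_eq H h
        omega
      have hnd : ¬ p ∣ ((P : Subgroup G).subgroupOf H).index := fun h =>
        P.not_dvd_index (h.trans (Subgroup.relIndex_dvd_index_of_le hPH))
      let Q : Sylow p H :=
        (P.2.comap_of_injective H.subtype H.subtype_injective).toSylow hnd
      have hQ : (Q : Subgroup H) = (P : Subgroup G).subgroupOf H := IsPGroup.toSylow_coe _ _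
      refine ih H hlt p hp Q ?_ ?_ ?_
      · rw [hQ, Ne, Subgroup.subgroupOf_eq_bot, disjoint_iff, inf_eq_left.2 hPH]
        exact hPne
      · rw [hQ]
        apply le_antisymm ?_ Subgroup.le_normalizer
        intro x hx
        show (x : G) ∈ (P : Subgroup G)
        rw [← hN]
        refine Solv.mem_normalizer_of_map_conj ?_
        refine Subgroup.eq_of_le_of_card_ge ?_ (le_of_eq
          (Subgroup.card_map_of_injective (MulAut.conj (x : G)).injective).symm)
        rintro _ ⟨y, hy, rfl⟩
        exact (Subgroup.mem_normalizer_iff.1 hx ⟨y, hPH hy⟩).1 hy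
      · rw [hQ]
        intro x hx
        have h1 : (x : G) ∈ (P : Subgroup G) ⊓ commutator G := ⟨hx, hle hx⟩
        rw [htr] at h1
        obtain ⟨z, hz, hzx⟩ : (x : G) ∈ (commutator H).map H.subtype := by
          rw [commutator_def, Subgroup.map_commutator, ← MonoidHom.range_eq_map,
            Subgroup.range_subtype]
          exact h1.2
        rwa [← Subtype.ext hzx]

/-- Let G be a finite group such that, for every prime p dividing the order of G, every Sylow p-subgroup of G is its own normalizer. Then G is not a non-abelian simple group. -/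
theorem result {G : Type*} [Group G] [Finite G]
    (h : ∀ p : ℕ, p.Prime → p ∣ Nat.card G → ∀ P : Sylow p G, Subgroup.normalizer ((P : Subgroup G) : Set G) = P) :
    ¬ (IsSimpleGroup G ∧ ¬ IsMulCommutative G) := by
  rintro ⟨hs, hna⟩
  have hperf : commutator G = ⊤ := by
    rcases hs.eq_bot_or_eq_top_of_normal (commutator G) inferInstance with h | h
    · refine absurd ⟨⟨fun a b => ?_⟩⟩ hna
      have := Subgroup.commutator_mem_commutator (Subgroup.mem_top a) (Subgroup.mem_top b)
      rw [← commutator_def, h, Subgroup.mem_bot, commutatorElement_eq_one_iff_mul_comm] at this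
      exact this
    · exact h
  have hall : ∀ p : ℕ, p.Prime → p ∣ Nat.card G → p = 2 ∨ p = 3 := by
    intro p hp hd
    by_contra hno
    have h5 : 5 ≤ p := by
      have h2 := hp.two_le
      have h4 : p ≠ 4 := fun e => by rw [e] at hp; exact absurd hp (by norm_num)
      omega
    haveI := Fact.mk hp
    obtain ⟨P⟩ := (inferInstance : Nonempty (Sylow p G))
    refine not_le_commutator (Nat.card G) G le_rfl p h5 P ?_ (h p hp hd P) (hperf ▸ le_top)
    exact P.ne_bot_of_dvd_card hd
  have hsol : Group.IsSolvable G :=
    Cfsg.Agent.Char.isSolvable_of_two_primes Nat.prime_two Nat.prime_three _ rfl hall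
  haveI := hs
  exact (Group.IsSolvable.commutator_lt_top_of_nontrivial G).ne hperf

end Cfsg.Agent.S3125
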