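import Cfsg.Statements.S0223
import Cfsg.Agent.Lib.Fusion.Involutions

set_option autoImplicit false
open Cfsg
open Cfsg.Agent.Fusion
open scoped commutatorElement

namespace Cfsg.Agent.S0223

/-- Let H be a proper subgroup of even order of the finite group G. Then H is strongly embedded if and only if (i) C_G(t) ≤ H for every involution t of H and (ii) H controls fusion of its involutions: involutions of H conjugate in G are conjugate in H. -/
theorem result {G : Type*} [Group G] [Finite G] (H : Subgroup G) (hH : H ≠ ⊤) (heven : Even (Nat.card H)) : Cfsg.IsStronglyEmbedded H ↔ ((∀ t ∈ H, orderOf t = 2 → Subgroup.centralizer ({t} : Set G) ≤ H) ∧ (∀ t ∈ H, ∀ s ∈ H, orderOf t = 2 → orderOf s = 2 → IsConj t s → ∃ h ∈ H, h * t * h⁻¹ = s)) := by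
  constructor
  · rintro ⟨-, -, hse⟩
    have key : ∀ g t : G, orderOf t = 2 → t ∈ H → g * t * g⁻¹ ∈ H → g ∈ H := by
      intro g t ht htH hgt
      by_contra hg
      have h2 := orderOf_dvd_natCard (⟨g * t * g⁻¹, hgt, ⟨t, htH, rfl⟩⟩ :
        ↥(H ⊓ H.map (MulAut.conj g).toMonoidHom))
      rw [← Subgroup.orderOf_coe] at h2
      change orderOf (g * t * g⁻¹) ∣ _ at h2
      rw [show orderOf (g * t * g⁻¹) = 2 from
        (orderOf_injective (MulAut.conj g).toMonoidHom (MulAut.conj g).injective t).trans ht] at h2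
      exact Nat.not_even_iff_odd.2 (hse g hg) (even_iff_two_dvd.2 h2)
    refine ⟨fun t ht ho g hg => key g t ho ht ?_, fun t ht s hs hot _ hc => ?_⟩
    · rw [mem_centralizer_set.1 hg t rfl]; exact ht
    · obtain ⟨g, hg⟩ := isConj_iff.1 hc
      exact ⟨g, key g t hot ht (hg ▸ hs), hg⟩
  · rintro ⟨hC, hfus⟩
    refine ⟨hH, heven, fun g hg => ?_⟩
    by_contra hodd
    rw [Nat.not_odd_iff_even, even_iff_two_dvd] at hodd
    obtain ⟨⟨s, hsH, t, htH, hts⟩, hs⟩ := exists_prime_orderOf_dvd_card' 2 hodd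
    rw [← Subgroup.orderOf_coe] at hs
    change orderOf s = 2 at hs
    replace hts : g * t * g⁻¹ = s := hts
    have ht : orderOf t = 2 := by
      rw [← hts] at hs
      exact (orderOf_injective (MulAut.conj g).toMonoidHom (MulAut.conj g).injective t).symm.trans hs
    obtain ⟨h, hh, he⟩ := hfus t htH s hsH ht hs (isConj_iff.2 ⟨g, hts⟩)
    refine hg ?_
    have : h⁻¹ * g ∈ H := hC t htH ht (mem_centralizer_set.2 fun z hz => by
      rw [Set.mem_singleton_iff.1 hz]
      calc h⁻¹ * g * t * (h⁻¹ * g)⁻¹ = h⁻¹ * (g * t * g⁻¹) * h := by group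
        _ = h⁻¹ * (h * t * h⁻¹) * h := by rw [hts, he]
        _ = t := by group)
    have := mul_mem hh this
    rwa [mul_inv_cancel_left] at this

end Cfsg.Agent.S0223
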