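import Cfsg.Statements.S0744
import Cfsg.Agent.Lib.Perm.Swap

set_option autoImplicit false
open Cfsg

namespace Cfsg.Agent.S0744

/-- If for some `k > 1` the pointwise stabilisers of all `(k-1)`-subsets have the same order `> 1` and those of all `k`-subsets have the same order, then the group is `(k-1)`-transitive. -/
theorem result {α : Type*} [Fintype α] [DecidableEq α] (G : Subgroup (Equiv.Perm α)) {k : ℕ} (hk : 1 < k) (hkn : k ≤ Fintype.card α) (l m : ℕ) (hl : 1 < l) (hkm1 : ∀ s : Finset α, s.card = k - 1 → Nat.card (fixingSubgroup G (s : Set α)) = l) (hkm : ∀ s : Finset α, s.card = k → Nat.card (fixingSubgroup G (s : Set α)) = m) : MulAction.IsMultiplyPretransitive G α (k - 1) := by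
  classical
  have key : ∀ s : Finset α, s.card = k - 1 → ∀ x, x ∉ s →
      Nat.card (MulAction.orbit (fixingSubgroup G (s : Set α)) x) * m = l := by
    intro s hs x hx
    have h1 := MulAction.index_stabilizer (fixingSubgroup G (s : Set α)) x
    have h2 := (MulAction.stabilizer (fixingSubgroup G (s : Set α)) x).index_mul_card
    rw [hkm1 s hs] at h2
    have h3 : Nat.card (MulAction.stabilizer (fixingSubgroup G (s : Set α)) x) = m := by
      rw [← hkm (insert x s) (by rw [Finset.card_insert_of_notMem hx]; omega)]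
      refine Nat.card_congr ⟨fun g => ⟨g.1.1, ?_⟩, fun g => ⟨⟨g.1, ?_⟩, ?_⟩, fun g => rfl, fun g => rfl⟩
      · rw [mem_fixingSubgroup_iff]
        intro y hy
        rcases Finset.mem_insert.1 hy with rfl | hy
        · exact g.2
        · exact (mem_fixingSubgroup_iff G).1 g.1.2 y hy
      · exact (mem_fixingSubgroup_iff G).2 fun y hy =>
          (mem_fixingSubgroup_iff G).1 g.2 y (Finset.mem_insert_of_mem hy)
      · exact (mem_fixingSubgroup_iff G).1 g.2 x (Finset.mem_insert_self x s)
    rw [h3, h1, ← Nat.card_coe_set_eq] at h2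
    exact h2
  obtain ⟨s₀, -, hs₀⟩ := Finset.exists_subset_card_eq (s := (Finset.univ : Finset α)) (n := k - 1)
    (by rw [Finset.card_univ]; omega)
  obtain ⟨x₀, hx₀⟩ : ∃ x, x ∉ s₀ := by
    by_contra hh
    push Not at hh
    rw [Finset.eq_univ_iff_forall.2 hh, Finset.card_univ] at hs₀
    omega
  have hm : 0 < m := by
    rcases Nat.eq_zero_or_pos m with rfl | hm
    · have := key s₀ hs₀ x₀ hx₀
      omega
    · exact hm
  have hd : m ∣ l := Dvd.intro_left _ (key s₀ hs₀ x₀ hx₀)
  have hne : l ≠ m := by
    intro hlm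
    have hfix : ∀ g ∈ fixingSubgroup G (s₀ : Set α), ∀ x, g • x = x := fun g hg x => by
      by_cases hx : x ∈ s₀
      · exact (mem_fixingSubgroup_iff G).1 hg x hx
      · have h1 := key s₀ hs₀ x hx
        rw [hlm] at h1
        have h2 := Nat.eq_of_mul_eq_mul_right hm (h1.trans (one_mul m).symm)
        haveI := (Nat.card_eq_one_iff_unique.1 h2).1
        exact congrArg Subtype.val (Subsingleton.elim
          (⟨(⟨g, hg⟩ : fixingSubgroup G (s₀ : Set α)) • x, MulAction.mem_orbit _ _⟩ :
            MulAction.orbit (fixingSubgroup G (s₀ : Set α)) x) ⟨x, MulAction.mem_orbit_self x⟩)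
    have : fixingSubgroup G (s₀ : Set α) = ⊥ := (Subgroup.eq_bot_iff_forall _).2 fun g hg =>
      Subtype.ext (Equiv.ext fun x => hfix g hg x)
    have h1 := hkm1 s₀ hs₀
    rw [this, Subgroup.card_bot] at h1
    omega
  have hd1 : 1 < l / m := by
    obtain ⟨c, rfl⟩ := hd
    rw [Nat.mul_div_cancel_left _ hm]
    by_contra hc
    interval_cases c <;> simp at hne hl
  refine Perm.isMultiplyPretransitive_of_dvd hd1 (by omega) fun s hs B hB hdis => ?_
  refine Perm.dvd_card_of_invariant (G := fixingSubgroup G (s : Set α)) B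
    (fun g x hx => hB g (fun t ht => (mem_fixingSubgroup_iff G).1 g.2 t ht) x hx) fun x hx => ?_
  rw [← key s hs x (Finset.disjoint_left.1 hdis hx), Nat.mul_div_cancel _ hm]

end Cfsg.Agent.S0744
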