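import Cfsg.Statements.S0743
import Cfsg.Agent.Lib.Perm.Swap
import Mathlib.GroupTheory.PGroup

set_option autoImplicit false
open Cfsg

namespace Cfsg.Agent.S0743

/-- Gleason's Lemma: let `p` be a prime and `1 ≤ k < n`; if every `k`-subset of the `n` points is exactly the fixed-point set of some `p`-subgroup of `G`, then `G` is `k`-transitive. -/
theorem result {α : Type*} [Fintype α] [DecidableEq α] (G : Subgroup (Equiv.Perm α)) {p k : ℕ} (hp : p.Prime) (hk : 1 ≤ k) (hkn : k < Fintype.card α) (h : ∀ s : Finset α, s.card = k → ∃ P : Subgroup G, IsPGroup p P ∧ MulAction.fixedPoints P α = (s : Set α)) : MulAction.IsMultiplyPretransitive G α k := by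
  classical
  haveI := Fact.mk hp
  refine Perm.isMultiplyPretransitive_of_dvd (d := p) hp.one_lt hkn fun s hs B hB hdis => ?_
  obtain ⟨P, hP, hfix⟩ := h s hs
  refine Perm.dvd_card_of_invariant (G := P) B (fun g x hx => hB g (fun t ht => ?_) x hx)
    fun x hx => ?_
  · exact (hfix.symm ▸ ht : t ∈ MulAction.fixedPoints P α) g
  · obtain ⟨e, he⟩ := hP.card_orbit x
    rcases Nat.eq_zero_or_pos e with rfl | hpos
    · exfalso
      rw [pow_zero] at he
      haveI := (Nat.card_eq_one_iff_unique.1 he).1
      have hmem : x ∈ MulAction.fixedPoints P α := fun g => congrArg Subtype.val (Subsingleton.elim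
        (⟨g • x, MulAction.mem_orbit _ _⟩ : MulAction.orbit P x) ⟨x, MulAction.mem_orbit_self x⟩)
      rw [hfix] at hmem
      exact Finset.disjoint_left.1 hdis hx hmem
    · exact he ▸ dvd_pow_self p hpos.ne'

end Cfsg.Agent.S0743
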