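import Cfsg.Statements.S4219


set_option autoImplicit false
open Cfsg

namespace Cfsg.Agent.S4219

/-- Let a finite group `G` act `t`-fold transitively on a finite set, let `H` be the stabilizer of `t` distinct points and `P` a Sylow `p`-subgroup of `H`. Then the normalizer of `P` in `G` is `t`-fold transitive on the fixed points of `P`: any `t` distinct fixed points of `P` can be carried to any other `t` distinct fixed points of `P` by an element normalizing `P`. -/
theorem result {G : Type*} [Group G] [Finite G] {α : Type*} [Fintype α] [MulAction G α] {t : ℕ} (hG : MulAction.IsMultiplyPretransitive G α t) (x : Fin t ↪ α) {p : ℕ} [Fact p.Prime] (P : Sylow p (MulAction.stabilizer G x)) (a b : Fin t ↪ α) (ha : ∀ i, a i ∈ MulAction.fixedPoints ((P : Subgroup (MulAction.stabilizer G x)).map (MulAction.stabilizer G x).subtype) α) (hb : ∀ i, b i ∈ MulAction.fixedPoints ((P : Subgroup (MulAction.stabilizer G x)).map (MulAction.stabilizer G x).subtype) α) : ∃ g ∈ Subgroup.normalizer ((((P : Subgroup (MulAction.stabilizer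 G x)).map (MulAction.stabilizer G x).subtype) : Subgroup G) : Set G), g • a = b := by
  classical
  obtain ⟨Q, hQ⟩ : ∃ Q : Subgroup G, Q = (P : Subgroup (MulAction.stabilizer G x)).map (MulAction.stabilizer G x).subtype := ⟨_, rfl⟩
  rw [← hQ] at ha hb ⊢
  obtain ⟨g₀, hg₀⟩ : ∃ g : G, g • a = b := by
    haveI := hG
    exact MulAction.exists_smul_eq G a b
  obtain ⟨k, hk⟩ : ∃ k : G, k • x = b := by
    haveI := hG
    exact MulAction.exists_smul_eq G x b
  set T := MulAction.stabilizer G b
  have hQT : ∀ q ∈ Q, q ∈ T := fun q hq => by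
    rw [MulAction.mem_stabilizer_iff]
    exact Function.Embedding.ext fun i => hb i ⟨q, hq⟩
  have hQT' : ∀ q ∈ Q, g₀ * q * g₀⁻¹ ∈ T := fun q hq => by
    have h1 : q • a = a := Function.Embedding.ext fun i => ha i ⟨q, hq⟩
    rw [MulAction.mem_stabilizer_iff, mul_smul, mul_smul, inv_smul_eq_iff.2 hg₀.symm, h1, hg₀]
  have hTS : Nat.card T = Nat.card (MulAction.stabilizer G x) := by
    refine (Nat.card_congr ?_).symm
    exact
      { toFun := fun s => ⟨k * s * k⁻¹, by
          rw [MulAction.mem_stabilizer_iff, mul_smul, mul_smul, inv_smul_eq_iff.2 hk.symm,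
            MulAction.mem_stabilizer_iff.1 s.2, hk]⟩
        invFun := fun t => ⟨k⁻¹ * t * k, by
          rw [MulAction.mem_stabilizer_iff, mul_smul, mul_smul, hk, MulAction.mem_stabilizer_iff.1 t.2,
            inv_smul_eq_iff.2 hk.symm]⟩
        left_inv := fun s => Subtype.ext (by simp [mul_assoc])
        right_inv := fun t => Subtype.ext (by simp [mul_assoc]) }
  have hQc : Nat.card Q = p ^ (Nat.card T).factorization p := by
    rw [hTS, hQ, Subgroup.card_map_of_injective (MulAction.stabilizer G x).subtype_injective, P.card_eq_multiplicity]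
  let R1 : Subgroup T := Q.subgroupOf T
  let R2 : Subgroup T := (Q.map (MulAut.conj g₀).toMonoidHom).subgroupOf T
  have h1 : Nat.card R1 = p ^ (Nat.card T).factorization p :=
    (Nat.card_congr (Subgroup.subgroupOfEquivOfLe hQT).toEquiv).trans hQc
  have h2 : Nat.card R2 = p ^ (Nat.card T).factorization p := by
    refine (Nat.card_congr (Subgroup.subgroupOfEquivOfLe ?_).toEquiv).trans
      ((Subgroup.card_map_of_injective (MulAut.conj g₀).injective).trans hQc)
    rintro _ ⟨q, hq, rfl⟩
    exact hQT' q hq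
  obtain ⟨h, hh⟩ := MulAction.exists_smul_eq T (Sylow.ofCard R2 h2) (Sylow.ofCard R1 h1)
  have hh' : R2.map (MulAut.conj h).toMonoidHom = R1 := congrArg Sylow.toSubgroup hh
  refine ⟨(h : G) * g₀, ?_, by rw [mul_smul, hg₀]; exact MulAction.mem_stabilizer_iff.1 h.2⟩
  rw [Subgroup.mem_normalizer_iff]
  intro q
  constructor
  · intro hq
    have hm : (⟨g₀ * q * g₀⁻¹, hQT' q hq⟩ : T) ∈ R2 := ⟨q, hq, rfl⟩
    have hm2 := Subgroup.mem_map_of_mem (MulAut.conj h).toMonoidHom hm
    rw [hh'] at hm2
    simpa [R1, Subgroup.mem_subgroupOf, mul_assoc] using hm2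
  · intro hq
    have hm : (⟨_, hQT _ hq⟩ : T) ∈ R1 := hq
    rw [← hh'] at hm
    obtain ⟨t, ht, he⟩ := hm
    obtain ⟨q', hq', he'⟩ := (ht : ((t : T) : G) ∈ Q.map (MulAut.conj g₀).toMonoidHom)
    have e := congrArg (fun z : T => (z : G)) he
    simp at e he'
    rw [← he'] at e
    have : q' = q := by
      simpa [mul_assoc] using congrArg (fun z => g₀⁻¹ * ((h : G)⁻¹ * z * h) * g₀) e
    exact this ▸ hq'

end Cfsg.Agent.S4219
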