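import Cfsg.Statements.S0055
import Cfsg.Agent.Lib.Solv.Coprime
import Cfsg.Agent.Lib.Solv.Cores

set_option autoImplicit false
open Cfsg

open scoped Pointwise commutatorElement

namespace Cfsg.Agent.S0055

open scoped IsMulCommutative in
theorem decomp {G : Type*} [Group G] [Finite G] (A V : Subgroup G) [IsMulCommutative V]
    (hAV : A ≤ Subgroup.normalizer (V : Set G)) (hcop : (Nat.card A).Coprime (Nat.card V)) :
    (V ⊓ Subgroup.centralizer (A : Set G)) ⊓ ⁅V, A⁆ = ⊥ ∧
      (V ⊓ Subgroup.centralizer (A : Set G)) ⊔ ⁅V, A⁆ = V := by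
  have : Fintype A := Fintype.ofFinite A
  refine ⟨?_, by
    rw [sup_comm]
    exact Solv.commutator_sup_fixed hAV hcop (Or.inr (Group.isSolvable_of_comm fun x y => mul_comm x y))⟩
  let c : A → V →* V := fun a =>
    { toFun := fun v => ⟨a * v * (a : G)⁻¹, Solv.conj_mem_of_mem_normalizer (hAV a.2) v.2⟩
      map_one' := Subtype.ext (by simp)
      map_mul' := fun v w => Subtype.ext (by
        show (a : G) * (v * w : V) * (a : G)⁻¹ = a * v * (a : G)⁻¹ * (a * w * (a : G)⁻¹)
        rw [Subgroup.coe_mul]; group) }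
  let φ : V →* V := ∏ a : A, c a
  have hshift : ∀ (b : A) (v : V), φ (c b v) = φ v := by
    intro b v
    simp only [φ, MonoidHom.finsetProd_apply]
    refine Fintype.prod_equiv (Equiv.mulRight b) _ _ fun a => Subtype.ext ?_
    show (a : G) * (b * v * (b : G)⁻¹) * (a : G)⁻¹ = ((a * b : A) : G) * v * ((a * b : A) : G)⁻¹
    rw [Subgroup.coe_mul]; group
  have hker : ⁅V, A⁆ ≤ φ.ker.map V.subtype := by
    rw [Subgroup.commutator_le]
    intro v hv a ha
    refine ⟨⟨v, hv⟩ * c ⟨a, ha⟩ ⟨v, hv⟩⁻¹, ?_, ?_⟩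
    · rw [SetLike.mem_coe, MonoidHom.mem_ker, map_mul, hshift, map_inv, mul_inv_cancel]
    · show v * (a * v⁻¹ * a⁻¹) = ⁅v, a⁆
      rw [commutatorElement_def]; group
  rw [eq_bot_iff]
  rintro x ⟨⟨hxV, hxC⟩, hx⟩
  obtain ⟨y, hy, rfl⟩ := hker hx
  have hfix : ∀ a : A, c a y = y := fun a => Subtype.ext (by
    show (a : G) * y * (a : G)⁻¹ = y
    rw [mul_inv_eq_iff_eq_mul]
    exact Subgroup.mem_centralizer_iff.1 hxC a a.2)
  have h1 : y ^ Nat.card A = 1 := by
    rw [← (MonoidHom.mem_ker.1 hy : φ y = 1)]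
    simp only [φ, MonoidHom.finsetProd_apply, hfix, Finset.prod_const, Finset.card_univ,
      Nat.card_eq_fintype_card]
  have h2 : orderOf y = 1 :=
    Nat.eq_one_of_dvd_coprimes hcop (orderOf_dvd_of_pow_eq_one h1) (orderOf_dvd_natCard y)
  rw [orderOf_eq_one_iff] at h2
  simp [h2]

/-- If A normalises an abelian subgroup V of coprime order, then V is the internal direct product of its A-fixed points and its commutator with A: the two meet trivially and generate V. -/
theorem result {G : Type*} [Group G] [Finite G] (A V : Subgroup G) [IsMulCommutative V]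
    (hAV : A ≤ Subgroup.normalizer (V : Set G)) (hcop : (Nat.card A).Coprime (Nat.card V)) :
    (V ⊓ Subgroup.centralizer (A : Set G)) ⊓ ⁅V, A⁆ = ⊥ ∧ (V ⊓ Subgroup.centralizer (A : Set G)) ⊔ ⁅V, A⁆ = V := by
  exact decomp A V hAV hcop

end Cfsg.Agent.S0055
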