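import Cfsg.Statements.S0056
import Cfsg.Agent.S0055

set_option autoImplicit false
open Cfsg

open scoped Pointwise commutatorElement

namespace Cfsg.Agent.S0056

/-- A coprime action on an abelian group that fixes all elements of prime order is trivial. -/
theorem result {G : Type*} [Group G] [Finite G] (A V : Subgroup G) [IsMulCommutative V]
    (hAV : A ≤ Subgroup.normalizer (V : Set G)) (hcop : (Nat.card A).Coprime (Nat.card V))
    (hΩ : ∀ v ∈ V, (orderOf v).Prime → ∀ a ∈ A, a * v = v * a) : A ≤ Subgroup.centralizer (V : Set G) := by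
  have hd := (Cfsg.Agent.S0055.result A V hAV hcop).1
  have hb : ⁅V, A⁆ = ⊥ := by
    by_contra hne
    obtain ⟨x, hx⟩ := exists_prime_orderOf_dvd_card' (G := (⁅V, A⁆ : Subgroup G))
      (Nat.card (⁅V, A⁆ : Subgroup G)).minFac
      (hp := ⟨Nat.minFac_prime fun h => hne (Subgroup.card_eq_one.1 h)⟩) (Nat.minFac_dvd _)
    have hpr : (orderOf (x : G)).Prime := by
      rw [Subgroup.orderOf_coe, hx]
      exact Nat.minFac_prime fun h => hne (Subgroup.card_eq_one.1 h)
    have hxV : (x : G) ∈ V := (Solv.commutator_normal_in hAV).1 x.2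
    have hxC : (x : G) ∈ Subgroup.centralizer (A : Set G) :=
      Subgroup.mem_centralizer_iff.2 fun a ha => hΩ x hxV hpr a ha
    have : (x : G) ∈ (⊥ : Subgroup G) := hd ▸ ⟨⟨hxV, hxC⟩, x.2⟩
    rw [Subgroup.mem_bot] at this
    rw [this, orderOf_one] at hpr
    exact Nat.not_prime_one hpr
  intro a ha
  rw [Subgroup.mem_centralizer_iff]
  intro v hv
  rw [← commutatorElement_eq_one_iff_mul_comm, ← Subgroup.mem_bot, ← hb]
  exact Subgroup.commutator_mem_commutator hv ha

end Cfsg.Agent.S0056
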