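import Cfsg.Statements.S1458
import Cfsg.Agent.Lib.SSF.HU
import Cfsg.Agent.Lib.Fusion.SolvableBalance
import Cfsg.Agent.Lib.Fusion.Sections

set_option autoImplicit false
open Cfsg

namespace Cfsg.Agent.S1458

theorem result {G : Type*} [Group G] [Finite G] [Group.IsSolvable G] (hodd : Odd (Nat.card G)) (p : ℕ) [Fact p.Prime] (S : Sylow p G) :
    (Cfsg.centerThompsonOf p (S : Subgroup G) ⊔ Cfsg.pPrimeCore p G).Normal := by
  set N := pPrimeCore p G with hN
  rcases eq_or_ne p 2 with rfl | hp2
  · have hS : (S : Subgroup G) = ⊥ := by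
      obtain ⟨k, hk⟩ := IsPGroup.iff_card.1 S.isPGroup'
      rcases Nat.eq_zero_or_pos k with rfl | hk0
      · exact Subgroup.card_eq_one.1 (by simpa using hk)
      · exact absurd ((hk ▸ dvd_pow_self 2 hk0.ne').trans (Subgroup.card_subgroup_dvd_card _))
          (fun h => (Nat.not_even_iff_odd.2 hodd) (even_iff_two_dvd.2 h))
    have hz : centerThompsonOf 2 (S : Subgroup G) = ⊥ := le_bot_iff.1 (hS ▸ by
      rw [← Fusion.zElem_eq]; exact Fusion.zElem_le _)
    rw [hz, bot_sup_eq]
    infer_instance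
  · set π := QuotientGroup.mk' N
    have hπ := QuotientGroup.mk'_surjective N
    have hcop : (Nat.card N).Coprime p := Fusion.card_pPrimeCore_coprime p G
    haveI : Group.IsSolvable (G ⧸ N) := solvable_of_surjective hπ
    have hc := Fusion.centralizer_pCore_le_of_solvable (p := p) (G := G ⧸ N) inferInstance
      Fusion.pPrimeCore_quotient_eq_bot
    have hoddQ : Odd (Nat.card (G ⧸ N)) := Odd.of_dvd_nat hodd (Subgroup.card_quotient_dvd_card N)
    have hst : ∀ (P : Subgroup (G ⧸ N)) [P.Normal], IsPGroup p P → IsPStableOn p P := fun P _ hP =>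
      Fusion.isPStableOn_of_qd_free hp2 (fun hinv => (Nat.not_even_iff_odd.2 hoddQ) (even_iff_two_dvd.2
        ((SSF.even_card_qd hp2).trans (SSF.involves_card_dvd hinv)))) P hP
    obtain ⟨T, hT⟩ := (Fusion.sylIn_map_mk (N := N) (Fusion.sylIn_top S)).exists_sylow
    have h1 := Fusion.centerThompsonOf_normal hp2 hc hst T
    rw [hT, Fusion.inducedFunctor_map_of_injOn Fusion.isCharPFunctor_wZE π
      (Fusion.injOn_mk_of_coprime hcop S.isPGroup') S.isPGroup', Fusion.inducedFunctor_wZE] at h1
    rw [show centerThompsonOf p (S : Subgroup G) ⊔ N = ((centerThompsonOf p (S : Subgroup G)).map π).comap π by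
      rw [QuotientGroup.comap_map_mk', sup_comm]]
    exact Subgroup.Normal.comap h1 π

end Cfsg.Agent.S1458
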