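import Cfsg.Statements.S0039
import Cfsg.Agent.Lib.Solv.Cores

set_option autoImplicit false
open Cfsg

open scoped Pointwise commutatorElement

namespace Cfsg.Agent.S0039

/-- In a finite group that is a semidirect product of a normal subgroup K by a nontrivial subgroup H, H is a Frobenius complement exactly when each nonidentity element of H acts without nonidentity fixed points on K by conjugation. -/
theorem result {G : Type*} [Group G] [Finite G] (K H : Subgroup G) [K.Normal]
    (hc : Subgroup.IsComplement' K H) (hK : K ≠ ⊥) (hH : H ≠ ⊥) :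
    Cfsg.IsFrobeniusComplement H ↔ ∀ h ∈ H, h ≠ 1 → K ⊓ Subgroup.centralizer {h} = ⊥ := by
  constructor
  · intro hF h hh h1
    rw [eq_bot_iff]
    rintro k ⟨hk, hkc⟩
    rw [Subgroup.mem_bot]
    by_contra hk1
    have hkH : k ∉ H := fun hkH => hk1 (Subgroup.mem_bot.1 (hc.disjoint.eq_bot ▸ ⟨hk, hkH⟩))
    have hmem : h ∈ H ⊓ MulAut.conj k • H := by
      refine ⟨hh, ?_⟩
      show h ∈ MulAut.conj k • H
      rw [Solv.mem_conj_smul, mul_assoc, ← Subgroup.mem_centralizer_singleton_iff.1 hkc,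
        inv_mul_cancel_left]
      exact hh
    rw [hF.2.2 k hkH, Subgroup.mem_bot] at hmem
    exact h1 hmem
  · intro hf
    refine ⟨hH, fun h => hK ?_, fun g hg => ?_⟩
    · rw [h, Subgroup.isComplement'_top_right] at hc
      exact hc
    have hmem : g ∈ ((K ⊔ H : Subgroup G) : Set G) := by rw [hc.sup_eq_top]; exact Subgroup.mem_top g
    rw [Subgroup.normal_mul] at hmem
    obtain ⟨k, hk, h, hh, rfl⟩ := hmem
    rw [eq_bot_iff]
    rintro x ⟨hxH, hx⟩
    rw [← Solv.conj_smul_conj, Subgroup.conj_smul_eq_self_of_mem hh] at hx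
    change x ∈ MulAut.conj k • H at hx
    rw [Solv.mem_conj_smul] at hx
    have h1 : x⁻¹ * k⁻¹ * x * k ∈ K := by
      refine K.mul_mem ?_ hk
      have := (inferInstance : K.Normal).conj_mem k⁻¹ (K.inv_mem hk) x⁻¹
      rwa [inv_inv] at this
    have h2 : x⁻¹ * k⁻¹ * x * k ∈ H := by
      rw [show x⁻¹ * k⁻¹ * x * k = x⁻¹ * (k⁻¹ * x * k) by group]
      exact H.mul_mem (H.inv_mem hxH) hx
    have h3 : x⁻¹ * k⁻¹ * x * k = 1 := Subgroup.mem_bot.1 (hc.disjoint.eq_bot ▸ ⟨h1, h2⟩)
    rw [Subgroup.mem_bot]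
    by_contra hx1
    have hkc : k ∈ K ⊓ Subgroup.centralizer {x} := ⟨hk, Subgroup.mem_centralizer_singleton_iff.2 (by
      have h4 : k * x * (x⁻¹ * k⁻¹ * x * k) = k * x := by rw [h3, mul_one]
      rw [← h4]; group)⟩
    rw [hf x hxH hx1, Subgroup.mem_bot] at hkc
    exact hg (by show k * h ∈ H; rw [hkc, one_mul]; exact hh)

end Cfsg.Agent.S0039
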