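import Cfsg.Statements.S0041
import Cfsg.Agent.Lib.Solv.FrobeniusFPF
import Cfsg.Agent.Lib.Solv.Generation

set_option autoImplicit false
open Cfsg

open scoped Pointwise commutatorElement

namespace Cfsg.Agent.S0041

theorem abelian_cyclic {G : Type*} [Group G] [Finite G] (A V : Subgroup G) [IsMulCommutative V]
    (hV : V ≠ ⊥) (hAV : A ≤ Subgroup.normalizer (V : Set G))
    (hfpf : ∀ a ∈ A, a ≠ 1 → V ⊓ Subgroup.centralizer {a} = ⊥) (hab : IsMulCommutative A) :
    IsCyclic A := by
  obtain ⟨W, hWV, hW⟩ := Finite.exists_le_minimal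
    (p := fun W : Subgroup G => W ≠ ⊥ ∧ W ≤ V ∧ A ≤ Subgroup.normalizer (W : Set G)) (a := V)
    ⟨hV, le_rfl, hAV⟩
  obtain ⟨hWb, -, hAW⟩ := hW.1
  letI : CommGroup A := { (inferInstance : Group A) with mul_comm := hab.is_comm.comm }
  have hWc : ∀ x y : W, x * y = y * x := fun x y => Subtype.ext
    (congrArg (fun t : V => (t : G))
      ((‹IsMulCommutative V›).is_comm.comm ⟨x, hWV x.2⟩ ⟨y, hWV y.2⟩))
  letI : CommGroup W := { (inferInstance : Group W) with mul_comm := hWc }
  have := (Subgroup.nontrivial_iff_ne_bot W).2 hWb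
  let g : A → (W →* W) := fun a => Solv.conjHom (a : G) (hAW a.2)
  have hg : ∀ (a : A) (w : W), ((g a w : W) : G) = a * w * (a : G)⁻¹ := fun a w => rfl
  obtain ⟨a, ha⟩ := Solv.exists_gen_mod_ker g
    (fun w => Subtype.ext (by rw [hg]; simp))
    (fun a b w => Subtype.ext (by rw [hg, hg, hg, Subgroup.coe_mul]; group))
    (fun U hU => by
      by_cases hUb : U.map W.subtype = ⊥
      · left; rwa [Subgroup.map_eq_bot_iff_of_injective _ W.subtype_injective] at hUb
      · right
        have hinv : A ≤ Subgroup.normalizer (U.map W.subtype : Set G) := by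
          intro b hb
          refine Solv.mem_normalizer_of_conj_smul (Subgroup.eq_of_le_of_card_ge ?_
            (by rw [Solv.card_conj_smul]))
          rw [Solv.conj_smul_eq_map]
          rintro _ ⟨_, ⟨w, hw, rfl⟩, rfl⟩
          exact ⟨g ⟨b, hb⟩ w, hU ⟨b, hb⟩ w hw, rfl⟩
        have h := hW.2 ⟨hUb, (Subgroup.map_subtype_le U).trans hWV, hinv⟩ (Subgroup.map_subtype_le U)
        rw [eq_top_iff]
        intro w _
        obtain ⟨w', hw', e⟩ := h w.2
        rwa [← Subtype.ext e])
  refine ⟨a, fun x => ?_⟩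
  obtain ⟨i, hi⟩ := ha x
  refine ⟨-i, ?_⟩
  by_contra hne
  obtain ⟨⟨w, hw⟩, hw1⟩ := Subgroup.ne_bot_iff_exists_ne_one.1 hWb
  have hne' : ((x * a ^ i : A) : G) ≠ 1 := by
    intro e
    apply hne
    have : x * a ^ i = 1 := Subtype.ext e
    rw [mul_eq_one_iff_eq_inv] at this
    show a ^ (-i) = x
    rw [this, zpow_neg]
  have hfix := congrArg Subtype.val (hi ⟨w, hw⟩)
  rw [hg] at hfix
  have : w ∈ V ⊓ Subgroup.centralizer {((x * a ^ i : A) : G)} :=
    ⟨hWV hw, Subgroup.mem_centralizer_singleton_iff.2 (mul_inv_eq_iff_eq_mul.1 hfix).symm⟩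
  rw [hfpf _ (x * a ^ i).2 hne', Subgroup.mem_bot] at this
  exact hw1 (Subtype.ext this)

/-- A group acting on a nontrivial abelian group so that no nonidentity element has a nonidentity fixed point is cyclic, provided it is abelian or its order is a product of two (possibly equal) primes. -/
theorem result {G : Type*} [Group G] [Finite G] (A V : Subgroup G) [IsMulCommutative V]
    (hV : V ≠ ⊥) (hAV : A ≤ Subgroup.normalizer (V : Set G)) (hfpf : ∀ a ∈ A, a ≠ 1 → V ⊓ Subgroup.centralizer {a} = ⊥)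
    (hA : IsMulCommutative A ∨ ∃ p q : ℕ, p.Prime ∧ q.Prime ∧ Nat.card A = p * q) : IsCyclic A := by
  rcases hA with hab | ⟨p, q, hp, hq, hpq⟩
  · exact abelian_cyclic A V hV hAV hfpf hab
  by_cases hab : ∀ a b : A, a * b = b * a
  · exact abelian_cyclic A V hV hAV hfpf ⟨⟨hab⟩⟩
  exfalso
  rcases eq_or_ne p q with rfl | hne
  · have := Fact.mk hp
    exact hab (IsPGroup.commutative_of_card_eq_prime_sq (G := A) (by rw [hpq, pow_two]))
  -- a non-normal subgroup of prime order is a Frobenius complement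
  have key : ∀ (r s : ℕ), r.Prime → s.Prime → Nat.card A = r * s → ∀ D : Subgroup A,
      Nat.card D = r → D.Normal := by
    intro r s hr hs hrs D hD
    by_contra hn
    have hidx : D.index = s := by
      have h := D.card_mul_index
      rw [hD, hrs] at h
      exact Nat.eq_of_mul_eq_mul_left hr.pos h
    refine Solv.fpf_not_frobenius hV hAV hfpf D ⟨fun h => hr.ne_one ?_, fun h => hs.ne_one ?_,
      fun g hg => ?_⟩
    · rw [← hD, h, Subgroup.card_bot]
    · rw [← hidx, h, Subgroup.index_top]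
    · rw [eq_bot_iff]
      intro x hx
      rw [Subgroup.mem_bot]
      by_contra hx1
      have hgen : ∀ E : Subgroup A, Nat.card E = r → x ∈ E → Subgroup.zpowers x = E := by
        intro E hE hxE
        refine Subgroup.eq_of_le_of_card_ge (Subgroup.zpowers_le.2 hxE) ?_
        rw [hE, Nat.card_zpowers]
        have h1 : orderOf x ∣ r := by
          rw [← hE, ← Subgroup.orderOf_mk x hxE]; exact orderOf_dvd_natCard _
        rcases (Nat.dvd_prime hr).1 h1 with h | h
        · exact absurd (orderOf_eq_one_iff.1 h) hx1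
        · exact h.ge
      have e1 := hgen D hD hx.1
      have e2 := hgen (MulAut.conj g • D) (by rw [Solv.card_conj_smul, hD]) hx.2
      have hgN : g ∈ Subgroup.normalizer (D : Set A) :=
        Solv.mem_normalizer_of_conj_smul (e2.symm.trans e1)
      have hd : (Subgroup.normalizer (D : Set A)).index ∣ s :=
        hidx ▸ Subgroup.index_dvd_of_le Subgroup.le_normalizer
      rcases (Nat.dvd_prime hs).1 hd with h | h
      · exact hn (Subgroup.normalizer_eq_top_iff.1 (Subgroup.index_eq_one.1 h))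
      · refine hg ?_
        have h3 : D = Subgroup.normalizer (D : Set A) := by
          refine Subgroup.eq_of_le_of_card_ge Subgroup.le_normalizer ?_
          have h4 := (Subgroup.normalizer (D : Set A)).card_mul_index
          rw [h, ← hidx, ← D.card_mul_index] at h4
          exact (Nat.eq_of_mul_eq_mul_right (hidx ▸ hs.pos) h4).le
        rw [h3]; exact hgN
  have := Fact.mk hp
  have := Fact.mk hq
  obtain ⟨x, hx⟩ := exists_prime_orderOf_dvd_card' (G := A) p (hpq ▸ dvd_mul_right p q)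
  obtain ⟨y, hy⟩ := exists_prime_orderOf_dvd_card' (G := A) q (hpq ▸ dvd_mul_left q p)
  have h1 := key p q hp hq hpq _ (by rw [Nat.card_zpowers, hx] : Nat.card (Subgroup.zpowers x) = p)
  have h2 := key q p hq hp (hpq.trans (mul_comm p q)) _
    (by rw [Nat.card_zpowers, hy] : Nat.card (Subgroup.zpowers y) = q)
  have hco : (Nat.card (Subgroup.zpowers x)).Coprime (Nat.card (Subgroup.zpowers y)) := by
    rw [Nat.card_zpowers, Nat.card_zpowers, hx, hy]
    exact (Nat.coprime_primes hp hq).2 hne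
  have hdis : Disjoint (Subgroup.zpowers x) (Subgroup.zpowers y) :=
    Subgroup.disjoint_of_coprime_natCard hco
  have hc := Subgroup.isComplement'_of_coprime (H := Subgroup.zpowers x) (K := Subgroup.zpowers y)
    (by rw [Nat.card_zpowers, Nat.card_zpowers, hx, hy, hpq]) hco
  refine hab fun a b => ?_
  obtain ⟨⟨⟨a₁, ha₁⟩, ⟨a₂, ha₂⟩⟩, rfl⟩ := hc.2 a
  obtain ⟨⟨⟨b₁, hb₁⟩, ⟨b₂, hb₂⟩⟩, rfl⟩ := hc.2 b
  have hcm : ∀ u ∈ Subgroup.zpowers x, ∀ w ∈ Subgroup.zpowers y, Commute u w :=
    fun u hu w hw => Subgroup.commute_of_normal_of_disjoint _ _ h1 h2 hdis u w hu hw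
  obtain ⟨i, rfl⟩ := ha₁; obtain ⟨j, rfl⟩ := hb₁; obtain ⟨k, rfl⟩ := ha₂; obtain ⟨l, rfl⟩ := hb₂
  have e1 : Commute (x ^ i * y ^ k) (x ^ j) :=
    ((Commute.refl x).zpow_zpow i j).mul_left (hcm _ ⟨j, rfl⟩ _ ⟨k, rfl⟩).symm
  have e2 : Commute (x ^ i * y ^ k) (y ^ l) :=
    (hcm _ ⟨i, rfl⟩ _ ⟨l, rfl⟩).mul_left ((Commute.refl y).zpow_zpow k l)
  exact e1.mul_right e2

end Cfsg.Agent.S0041
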