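import Cfsg.Statements.S1474
import Cfsg.Agent.Lib.OddLocal.CNFrob
import Cfsg.Agent.Lib.Local.TypePBasic
import Cfsg.Agent.Lib.Solv.FrobeniusGK

set_option autoImplicit false
open Cfsg
open Cfsg.Agent

namespace Cfsg.Agent.S1474

theorem result {G : Type*} [Group G] [Finite G] (hCN : Cfsg.IsCNGroup G) (hnn : ¬ Group.IsNilpotent G) (p : ℕ) [Fact p.Prime] (P : Sylow p G)
    (hP1 : (P : Subgroup G) ≠ ⊥) (hPn : (P : Subgroup G).Normal) :
    Cfsg.fittingHall G ≠ ⊥ ∧ Cfsg.fittingHall G ≠ ⊤ ∧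
      (∃ E : Subgroup G, Subgroup.IsComplement' (Cfsg.fittingHall G) E ∧ Cfsg.IsFrobeniusComplement E ∧
        ∀ e ∈ E, e ≠ 1 → Cfsg.fittingHall G ⊓ Subgroup.centralizer ({e} : Set G) = ⊥) ∧
      Group.IsNilpotent (G ⧸ Cfsg.fittingHall G) := by
  classical
  set F := fittingHall G with hF
  have hhall : (Nat.card ↥F).Coprime F.index := TypePBasic.fittingHall_hall
  haveI := hPn
  have hPF : (P : Subgroup G) ≤ F := le_sSup ⟨hPn, P.isPGroup'.isNilpotent, P.card_coprime_index⟩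
  have hFnil : Group.IsNilpotent ↥F :=
    Solv.isNilpotent_of_le TypePBasic.fittingHall_le_fitting (Solv.fittingSubgroup_nilpotent (G := G))
  have hFtop : F ≠ ⊤ := fun h => hnn (by
    rw [h] at hFnil
    exact Group.nilpotent_of_mulEquiv Subgroup.topEquiv)
  have hFbot : F ≠ ⊥ := fun h => hP1 (le_bot_iff.1 (h ▸ hPF))
  obtain ⟨E, hE⟩ := Subgroup.exists_right_complement'_of_coprime (N := F) hhall
  have hE1 : E ≠ ⊥ := fun h => hFtop (by
    rw [h] at hE
    exact Subgroup.isComplement'_bot_right.1 hE)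
  have hEF : (Nat.card ↥E).Coprime (Nat.card ↥F) := by
    rw [← hE.symm.index_eq_card]; exact hhall.symm
  have hfpf : ∀ e ∈ E, e ≠ 1 → F ⊓ Subgroup.centralizer ({e} : Set G) = ⊥ := by
    intro e he he1
    rw [eq_bot_iff]
    rintro x ⟨hxF, hxe⟩
    rw [Subgroup.mem_bot]
    by_contra hx1
    obtain ⟨q, hq, hqd⟩ := Nat.exists_prime_and_dvd (mt orderOf_eq_one_iff.1 he1)
    obtain ⟨r, hr, hrd⟩ := Nat.exists_prime_and_dvd (mt orderOf_eq_one_iff.1 hx1)
    haveI := Fact.mk hq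
    haveI := Fact.mk hr
    set e' := e ^ (orderOf e / q) with he'
    set x' := x ^ (orderOf x / r) with hx'
    have heo : orderOf e' = q := orderOf_pow_orderOf_div (orderOf_pos e).ne' hqd
    have hxo : orderOf x' = r := orderOf_pow_orderOf_div (orderOf_pos x).ne' hrd
    have hcom : x' * e' = e' * x' :=
      ((show Commute x e from Subgroup.mem_centralizer_singleton_iff.1 hxe).pow_pow _ _).eq
    have hqF : ¬ q ∣ Nat.card ↥F := fun hd => hq.ne_one (Nat.eq_one_of_dvd_coprimes hEF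
      ((hqd.trans (Subgroup.orderOf_mk e he ▸ orderOf_dvd_natCard (⟨e, he⟩ : ↥E)))) hd)
    have hrF : r ∣ Nat.card ↥F := hrd.trans (Subgroup.orderOf_mk x hxF ▸ orderOf_dvd_natCard (⟨x, hxF⟩ : ↥F))
    have hqr : q ≠ r := fun h => hqF (h ▸ hrF)
    have hep : ∃ k : ℕ, e' ^ q ^ k = 1 := ⟨1, by rw [pow_one, ← heo, pow_orderOf_eq_one]⟩
    have hxp : ∃ k : ℕ, x' ^ r ^ k = 1 := ⟨1, by rw [pow_one, ← hxo, pow_orderOf_eq_one]⟩
    have hx'1 : x' ≠ 1 := fun h => hr.ne_one (by rw [← hxo, h, orderOf_one])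
    obtain ⟨S₀⟩ : Nonempty (Sylow r ↥F) := inferInstance
    haveI hS₀n := Perm.sylow_normal_of_nilpotent hFnil S₀
    haveI := Sylow.characteristic_of_normal S₀ hS₀n
    obtain ⟨S, hS⟩ : ∃ S, S = (S₀ : Subgroup ↥F).map F.subtype := ⟨_, rfl⟩
    haveI : S.Normal := hS ▸ ConjAct.normal_of_characteristic_of_normal
    have hSp : IsPGroup r ↥S := hS ▸ S₀.isPGroup'.map _
    have hx'S : x' ∈ S := by
      have hx'F : x' ∈ F := pow_mem hxF _
      refine hS ▸ ⟨⟨x', hx'F⟩, ?_, rfl⟩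
      obtain ⟨Q', hQ'⟩ := (IsPGroup.of_card (n := 1) (by
        rw [Nat.card_zpowers, ← Subgroup.orderOf_coe, hxo, pow_one]) :
        IsPGroup r ↥(Subgroup.zpowers (⟨x', hx'F⟩ : ↥F))).exists_le_sylow
      haveI := Sylow.unique_of_normal S₀ hS₀n
      exact (Subsingleton.elim Q' S₀) ▸ hQ' (Subgroup.mem_zpowers _)
    obtain ⟨z, hz, hz1, hzc⟩ := Fusion.exists_central_of_normal hSp (⊤ : Subgroup ↥S) (by
      intro h
      have := Subgroup.eq_bot_iff_forall _ |>.1 h ⟨x', hx'S⟩ (Subgroup.mem_top _)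
      exact hx'1 (congrArg Subtype.val this))
    have hz1' : (z : G) ≠ 1 := fun h => hz1 (Subtype.ext h)
    have hzS : ∀ s ∈ S, s * (z : G) = (z : G) * s := fun s hs =>
      congrArg Subtype.val (Subgroup.mem_center_iff.1 hzc ⟨s, hs⟩)
    have hrp : ∀ s ∈ S, ∃ k : ℕ, s ^ r ^ k = 1 := fun s hs => by
      obtain ⟨k, hk⟩ := hSp ⟨s, hs⟩
      exact ⟨k, congrArg Subtype.val hk⟩
    have hkey : ∀ y : G, (∃ k : ℕ, y ^ q ^ k = 1) → x' * y = y * x' → ∀ s ∈ S, y * s = s * y := by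
      intro y hy hyx s hs
      have h1 : y * (z : G) = (z : G) * y := OddLocal.CN.commute_in (hCN x' hx'1) hqr
        (Subgroup.mem_centralizer_singleton_iff.2 hyx.symm)
        (Subgroup.mem_centralizer_singleton_iff.2 (hzS x' hx'S).symm) hy (hrp _ z.2)
      exact OddLocal.CN.commute_in (hCN _ hz1') hqr (Subgroup.mem_centralizer_singleton_iff.2 h1)
        (Subgroup.mem_centralizer_singleton_iff.2 (hzS s hs)) hy (hrp s hs)
    obtain ⟨D, hD⟩ : ∃ D, D = Subgroup.centralizer (S : Set G) := ⟨_, rfl⟩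
    haveI : D.Normal := hD ▸ inferInstance
    have hDnil : Group.IsNilpotent ↥D := Solv.isNilpotent_of_le (by
      intro d hd
      rw [hD] at hd
      exact Subgroup.mem_centralizer_singleton_iff.2 (Subgroup.mem_centralizer_iff.1 hd x' hx'S).symm) (hCN x' hx'1)
    have he'D : e' ∈ D := hD ▸ Subgroup.mem_centralizer_iff.2 fun s hs =>
      (hkey e' hep hcom s hs).symm
    obtain ⟨R₀, hR₀⟩ := (IsPGroup.of_card (n := 1) (by
        rw [Nat.card_zpowers, ← Subgroup.orderOf_coe, heo, pow_one]) :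
        IsPGroup q ↥(Subgroup.zpowers (⟨e', he'D⟩ : ↥D))).exists_le_sylow
    haveI := Sylow.characteristic_of_normal R₀ (Perm.sylow_normal_of_nilpotent hDnil R₀)
    obtain ⟨R, hR⟩ : ∃ R, R = (R₀ : Subgroup ↥D).map D.subtype := ⟨_, rfl⟩
    haveI : R.Normal := hR ▸ ConjAct.normal_of_characteristic_of_normal
    have he'R : e' ∈ R := hR ▸ ⟨⟨e', he'D⟩, hR₀ (Subgroup.mem_zpowers _), rfl⟩
    have hRD : R ≤ D := hR ▸ Subgroup.map_subtype_le _
    obtain ⟨Q, hRQ⟩ := (hR ▸ R₀.isPGroup'.map _ : IsPGroup q ↥R).exists_le_sylow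
    have he'1 : e' ≠ 1 := fun h => hq.ne_one (by rw [← heo, h, orderOf_one])
    obtain ⟨w, hwR, hw1, hwc⟩ := Fusion.exists_central_of_normal Q.isPGroup' (R.subgroupOf (Q : Subgroup G)) (by
      intro h
      have := Subgroup.eq_bot_iff_forall _ |>.1 h ⟨e', hRQ he'R⟩ he'R
      exact he'1 (congrArg Subtype.val this))
    have hw1' : (w : G) ≠ 1 := fun h => hw1 (Subtype.ext h)
    have hQD : (Q : Subgroup G) ≤ D := by
      intro y hy
      have hwD : (w : G) ∈ D := hRD hwR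
      rw [hD] at hwD
      obtain ⟨k, hk⟩ := Q.isPGroup' ⟨y, hy⟩
      have hyk : ∃ k : ℕ, y ^ q ^ k = 1 := ⟨k, congrArg Subtype.val hk⟩
      have hyx : y * x' = x' * y := OddLocal.CN.commute_in (hCN _ hw1') hqr
        (Subgroup.mem_centralizer_singleton_iff.2 (congrArg Subtype.val (Subgroup.mem_center_iff.1 hwc ⟨y, hy⟩)))
        (Subgroup.mem_centralizer_singleton_iff.2 (Subgroup.mem_centralizer_iff.1 hwD x' hx'S)) hyk hxp
      exact hD ▸ Subgroup.mem_centralizer_iff.2 fun s hs => (hkey y hyk hyx.symm s hs).symm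
    have hQR : (Q : Subgroup G) = R := by
      refine le_antisymm (fun y hy => ?_) hRQ
      obtain ⟨Q', hQ'⟩ := (Q.isPGroup'.comap_subtype : IsPGroup q ↥((Q : Subgroup G).subgroupOf D)).exists_le_sylow
      haveI := Sylow.unique_of_normal R₀ (Perm.sylow_normal_of_nilpotent hDnil R₀)
      exact hR ▸ ⟨⟨y, hQD hy⟩, (Subsingleton.elim Q' R₀) ▸ hQ' hy, rfl⟩
    have hQn : (Q : Subgroup G).Normal := hQR ▸ inferInstance
    have hQF : (Q : Subgroup G) ≤ F := le_sSup ⟨hQn, Q.isPGroup'.isNilpotent, Q.card_coprime_index⟩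
    exact hqF (heo ▸ Subgroup.orderOf_mk e' (hQF (hRQ he'R)) ▸ orderOf_dvd_natCard (⟨e', hQF (hRQ he'R)⟩ : ↥F))
  have hfrob := (Solv.frob_of_fpf_complement hE hFbot hE1 hfpf).1
  refine ⟨hFbot, hFtop, ⟨E, hE, hfrob, hfpf⟩, ?_⟩
  haveI := OddLocal.CN.nilpotent_complement hCN hfrob
  exact Group.nilpotent_of_mulEquiv hE.symm.QuotientMulEquiv.symm

end Cfsg.Agent.S1474
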