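import Cfsg.Statements.S1476
import Cfsg.Agent.S1473
import Cfsg.Agent.S1474
import Cfsg.Agent.Lib.OddLocal.CNStructure
import Cfsg.Agent.Lib.Solv.Cores

set_option autoImplicit false
open Cfsg
open Cfsg.Agent
open scoped Pointwise

namespace Cfsg.Agent.S1476

theorem result {G : Type*} [Group G] [Finite G] [Group.IsSolvable G] (hCN : Cfsg.IsCNGroup G) :
    Group.IsNilpotent G ∨
      (∃ K E : Subgroup G, K.Normal ∧ Subgroup.IsComplement' K E ∧ Cfsg.IsFrobeniusComplement E ∧
        (IsCyclic E ∨ ∃ C Q : Subgroup G, C ⊔ Q = E ∧ (∀ a ∈ C, ∀ b ∈ Q, a * b = b * a) ∧ IsCyclic C ∧ Odd (Nat.card C) ∧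
          ∃ n : ℕ, Nonempty (↥Q ≃* QuaternionGroup (2 ^ n)))) ∨
      ∃ p : ℕ, p.Prime ∧ Cfsg.IsThreeStepGroup p G := by
  classical
  by_cases hnil : Group.IsNilpotent G
  · exact Or.inl hnil
  refine Or.inr ?_
  by_cases hsyl : ∃ p : ℕ, ∃ _ : Fact p.Prime, ∃ P : Sylow p G, (P : Subgroup G) ≠ ⊥ ∧ (P : Subgroup G).Normal
  · left
    obtain ⟨p, hp, P, hP1, hPn⟩ := hsyl
    obtain ⟨-, -, ⟨E, hE, hfrob, -⟩, -⟩ := S1474.result hCN hnil p P hP1 hPn
    refine ⟨fittingHall G, E, inferInstance, hE, hfrob, ?_⟩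
    rcases OddLocal.CN.nilpotent_structure (Perm.Fpf.hasFpf_of_frobenius hfrob)
        (OddLocal.CN.nilpotent_complement hCN hfrob) with h | ⟨C, Q, hCQ, hcomm, hC, hodd, n, ⟨e⟩⟩
    · exact Or.inl h
    · refine Or.inr ⟨C.map E.subtype, Q.map E.subtype, ?_, ?_, ?_, ?_, n, ⟨?_⟩⟩
      · rw [← Subgroup.map_sup, hCQ, ← MonoidHom.range_eq_map, Subgroup.range_subtype]
      · rintro _ ⟨a, ha, rfl⟩ _ ⟨b, hb, rfl⟩
        exact congrArg Subtype.val (hcomm a ha b hb)
      · exact isCyclic_of_surjective (C.equivMapOfInjective _ E.subtype_injective).toMonoidHom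
          (C.equivMapOfInjective _ E.subtype_injective).surjective
      · rwa [Subgroup.card_map_of_injective E.subtype_injective]
      · exact (Q.equivMapOfInjective _ E.subtype_injective).symm.trans e
  right
  have hno : ∀ (p : ℕ) [Fact p.Prime] (P : Sylow p G), (P : Subgroup G).Normal → (P : Subgroup G) = ⊥ :=
    fun p hp P hn => by
      by_contra h
      exact hsyl ⟨p, hp, P, h, hn⟩
  haveI : Nontrivial G := by
    rcases subsingleton_or_nontrivial G with h | h
    · exact absurd (Group.isNilpotent_of_subsingleton) hnil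
    · exact h
  obtain ⟨M, hMn, hM1, hMmin⟩ := Solv.exists_minimal_normal (G := G)
  obtain ⟨-, p, hp, -, hMp⟩ := Solv.minimal_normal_elementaryAbelian M inferInstance hM1 hMmin
  haveI := Fact.mk hp
  haveI := hMn
  refine ⟨p, hp, ?_⟩
  set P0 := pCore p G with hP0
  have hP01 : P0 ≠ ⊥ := fun h => hM1 (le_bot_iff.1 (h ▸ Fusion.le_pCore hMp))
  have hP0p : IsPGroup p ↥P0 := Fusion.isPGroup_pCore p G
  -- no other prime has a core
  have hone : ∀ r : ℕ, r.Prime → r ≠ p → pCore r G = ⊥ := by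
    intro r hr hrp
    haveI := Fact.mk hr
    by_contra hR
    obtain ⟨P⟩ : Nonempty (Sylow p G) := inferInstance
    have hle : P0 ≤ P := hP0p.le_sylow_of_normal P
    have hne : P0.subgroupOf (P : Subgroup G) ≠ ⊥ := by
      rw [Ne, Subgroup.subgroupOf_eq_bot, disjoint_iff, inf_eq_left.2 hle]
      exact hP01
    obtain ⟨t, ht, ht1, htc⟩ := Fusion.exists_central_of_normal P.isPGroup' (P0.subgroupOf (P : Subgroup G)) hne
    have ht1' : (t : G) ≠ 1 := fun h => ht1 (Subtype.ext h)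
    have hRp : IsPGroup r ↥(pCore r G) := Fusion.isPGroup_pCore r G
    have htR : ∀ u ∈ pCore r G, u * (t : G) = (t : G) * u := by
      intro u hu
      have h1 := Subgroup.commute_of_normal_of_disjoint (pCore r G) P0 inferInstance inferInstance
        (IsPGroup.disjoint_of_ne r p hrp _ _ hRp hP0p) u t hu ht
      exact h1.eq
    obtain ⟨D, hD⟩ : ∃ D, D = Subgroup.centralizer (pCore r G : Set G) := ⟨_, rfl⟩
    haveI : D.Normal := hD ▸ inferInstance
    obtain ⟨z, -, hz1, -⟩ := Fusion.exists_central_of_normal hRp (⊤ : Subgroup ↥(pCore r G)) (fun h => hR (by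
      rw [Subgroup.eq_bot_iff_forall] at h ⊢
      exact fun y hy => congrArg Subtype.val (h ⟨y, hy⟩ (Subgroup.mem_top _))))
    have hDnil : Group.IsNilpotent ↥D := Solv.isNilpotent_of_le (by
      intro d hd
      rw [hD] at hd
      exact Subgroup.mem_centralizer_singleton_iff.2 (Subgroup.mem_centralizer_iff.1 hd z z.2).symm)
      (hCN (z : G) (fun h => hz1 (Subtype.ext h)))
    have hPD : (P : Subgroup G) ≤ D := by
      intro y hy
      obtain ⟨k, hk⟩ := P.isPGroup' ⟨y, hy⟩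
      refine hD ▸ Subgroup.mem_centralizer_iff.2 fun u hu => ?_
      obtain ⟨l, hl⟩ := hRp ⟨u, hu⟩
      exact OddLocal.CN.commute_in (hCN _ ht1') hrp
        (Subgroup.mem_centralizer_singleton_iff.2 (htR u hu))
        (Subgroup.mem_centralizer_singleton_iff.2 (congrArg Subtype.val (Subgroup.mem_center_iff.1 htc ⟨y, hy⟩)))
        ⟨l, congrArg Subtype.val hl⟩ ⟨k, congrArg Subtype.val hk⟩
    have hn : (P : Subgroup G).Normal := by
      have hP' := Perm.sylow_normal_of_nilpotent hDnil (P.subtype hPD)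
      haveI := Sylow.characteristic_of_normal (P.subtype hPD) hP'
      have hmap : ((P.subtype hPD : Sylow p ↥D) : Subgroup ↥D).map D.subtype = (P : Subgroup G) := by
        rw [Sylow.coe_subtype, Subgroup.map_subgroupOf_eq_of_le hPD]
      exact hmap ▸ ConjAct.normal_of_characteristic_of_normal
    exact hP01 (le_bot_iff.1 (hle.trans (hno p P hn).le))
  have hfit : fittingSubgroup G ≤ P0 := by
    rw [Solv.fitting_eq_iSup_pCore]
    refine iSup_le fun q => ?_
    by_cases hq : (q : ℕ) = p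
    · rw [hq]
    · rw [hone q q.2 hq]; exact bot_le
  have hcent : Subgroup.centralizer (P0 : Set G) ≤ P0 := by
    refine le_trans ?_ ((Solv.centralizer_fitting_le (G := G) inferInstance).trans hfit)
    exact Subgroup.centralizer_le hfit
  -- the quotient
  set π := QuotientGroup.mk' P0 with hπ
  have hQCN : IsCNGroup (G ⧸ P0) := S1473.result hCN P0 inferInstance
  have hQcore : pCore p (G ⧸ P0) = ⊥ := by
    have h1 : IsPGroup p ↥((pCore p (G ⧸ P0)).comap π) :=
      (Fusion.isPGroup_pCore p _).comap_of_ker_isPGroup π (by rw [hπ, QuotientGroup.ker_mk']; exact hP0p)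
    have h2 := Fusion.le_pCore h1
    rw [← Subgroup.map_comap_eq_self_of_surjective (f := π) (QuotientGroup.mk'_surjective P0) (pCore p (G ⧸ P0))]
    refine le_bot_iff.1 ((Subgroup.map_mono h2).trans ?_)
    rw [QuotientGroup.map_mk'_self]
  have hQnil : ¬ Group.IsNilpotent (G ⧸ P0) := by
    intro h
    obtain ⟨S⟩ : Nonempty (Sylow p (G ⧸ P0)) := inferInstance
    haveI := Perm.sylow_normal_of_nilpotent h S
    have hS : (S : Subgroup (G ⧸ P0)) = ⊥ := le_bot_iff.1 (hQcore ▸ Fusion.le_pCore S.isPGroup')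
    have hnd : ¬ p ∣ P0.index := by
      rw [Subgroup.index_eq_card]
      intro hd
      have := S.dvd_card_of_dvd_card hd
      rw [hS, Subgroup.card_bot] at this
      exact hp.ne_one (Nat.dvd_one.1 this)
    exact hP01 (hno p (hP0p.toSylow hnd) (by rw [IsPGroup.toSylow_coe]; infer_instance))
  obtain ⟨Fb, hFb⟩ : ∃ Fb, Fb = fittingSubgroup (G ⧸ P0) := ⟨_, rfl⟩
  haveI hFbn : Fb.Normal := hFb ▸ Solv.fittingSubgroup_normal
  have hFbnil : Group.IsNilpotent ↥Fb := hFb ▸ Solv.fittingSubgroup_nilpotent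
  have hFb1 : Fb ≠ ⊥ := by
    haveI : Nontrivial (G ⧸ P0) := by
      rcases subsingleton_or_nontrivial (G ⧸ P0) with h | h
      · exact absurd (Group.isNilpotent_of_subsingleton) hQnil
      · exact h
    exact hFb ▸ Solv.fitting_ne_bot inferInstance
  have hFbcent : Subgroup.centralizer (Fb : Set (G ⧸ P0)) ≤ Fb := hFb ▸ Solv.centralizer_fitting_le inferInstance
  have hFbp : (Nat.card ↥Fb).Coprime p := by
    rw [Fusion.coprime_card_iff_not_dvd]
    intro hd
    obtain ⟨S⟩ : Nonempty (Sylow p ↥Fb) := inferInstance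
    haveI := Sylow.characteristic_of_normal S (Perm.sylow_normal_of_nilpotent hFbnil S)
    have h1 : (S : Subgroup ↥Fb).map Fb.subtype = ⊥ :=
      le_bot_iff.1 (hQcore ▸ Fusion.le_pCore (hn := ConjAct.normal_of_characteristic_of_normal) (S.isPGroup'.map _))
    have := S.dvd_card_of_dvd_card hd
    rw [(Subgroup.map_eq_bot_iff_of_injective _ Fb.subtype_injective).1 h1, Subgroup.card_bot] at this
    exact hp.ne_one (Nat.dvd_one.1 this)
  -- complements of `P0`
  have hcompl : ∀ L : Subgroup (G ⧸ P0), (Nat.card ↥L).Coprime p → ∃ B : Subgroup G,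
      B.map π = L ∧ P0 ⊔ B = L.comap π ∧ (Nat.card ↥B).Coprime p ∧ Nonempty (↥B ≃* ↥L) := by
    intro L hL
    obtain ⟨n, hn⟩ := IsPGroup.iff_card.1 hP0p
    have hle : P0 ≤ L.comap π := QuotientGroup.le_comap_mk' P0 L
    have hidx : (P0.subgroupOf (L.comap π)).index = Nat.card ↥L := by
      have h1 := Subgroup.card_mul_index (P0.subgroupOf (L.comap π))
      rw [Solv.card_subgroupOf hle, Solv.card_comap_mk', mul_comm (Nat.card ↥L)] at h1
      exact Nat.eq_of_mul_eq_mul_left Nat.card_pos h1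
    obtain ⟨B₀, hB₀⟩ := Subgroup.exists_right_complement'_of_coprime (N := P0.subgroupOf (L.comap π)) (by
      rw [Solv.card_subgroupOf hle, hidx, hn]
      exact hL.symm.pow_left n)
    have hsup : P0 ⊔ B₀.map (L.comap π).subtype = L.comap π := by
      have h := congrArg (Subgroup.map (L.comap π).subtype) hB₀.sup_eq_top
      rwa [Subgroup.map_sup, Subgroup.map_subgroupOf_eq_of_le hle, ← MonoidHom.range_eq_map,
        Subgroup.range_subtype] at h
    have hmap : (B₀.map (L.comap π).subtype).map π = L := by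
      have h := congrArg (Subgroup.map π) hsup
      rwa [Subgroup.map_sup, QuotientGroup.map_mk'_self, bot_sup_eq,
        Subgroup.map_comap_eq_self_of_surjective (QuotientGroup.mk'_surjective P0)] at h
    have hcard : Nat.card ↥(B₀.map (L.comap π).subtype) = Nat.card ↥L := by
      rw [Solv.card_map_subtype, ← hB₀.symm.index_eq_card, hidx]
    refine ⟨_, hmap, hsup, hcard.symm ▸ hL, ⟨?_⟩⟩
    refine (MulEquiv.ofBijective (π.subgroupMap _) ((Nat.bijective_iff_surjective_and_card _).2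
      ⟨π.subgroupMap_surjective _, by rw [hmap, hcard]⟩)).trans (MulEquiv.subgroupCongr hmap)
  have hfpf : ∀ L : Subgroup (G ⧸ P0), (Nat.card ↥L).Coprime p → Perm.Fpf.HasFpf ↥L := by
    intro L hL
    obtain ⟨B, -, -, hB, ⟨e⟩⟩ := hcompl L hL
    exact (OddLocal.CN.hasFpf_on_pcore hCN P0 hP0p hP01 hcent B hB).comp e.symm.toMonoidHom e.symm.injective
  have hFbodd : Odd (Nat.card ↥Fb) := by
    rw [← Nat.not_even_iff_odd, even_iff_two_dvd]
    intro h2
    haveI := Fact.mk Nat.prime_two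
    obtain ⟨z, hz⟩ := exists_prime_orderOf_dvd_card' 2 h2
    have hz1 : z ≠ 1 := fun e => by rw [e, orderOf_one] at hz; exact absurd hz (by norm_num)
    refine (hfpf Fb hFbp).elim fun ρ hρ => ?_
    have hzc : ∀ g : G ⧸ P0, g * (z : G ⧸ P0) = (z : G ⧸ P0) * g := by
      intro g
      have hmem : g * (z : G ⧸ P0) * g⁻¹ ∈ Fb := hFbn.conj_mem _ z.2 g
      have h1 : (⟨g * (z : G ⧸ P0) * g⁻¹, hmem⟩ : ↥Fb) = z :=
        hρ.involution_unique (fun h => hz1 (Subtype.ext (conj_eq_one_iff.1 (congrArg Subtype.val h))))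
          (Subtype.ext (by
            show (g * (z : G ⧸ P0) * g⁻¹) ^ 2 = 1
            rw [conj_pow, ← SubmonoidClass.coe_pow, ← hz, pow_orderOf_eq_one]
            simp))
          hz1 (hz ▸ pow_orderOf_eq_one z)
      exact mul_inv_eq_iff_eq_mul.1 (congrArg Subtype.val h1)
    refine hQnil ?_
    have htop : Subgroup.centralizer ({(z : G ⧸ P0)} : Set (G ⧸ P0)) = ⊤ :=
      eq_top_iff.2 fun g _ => Subgroup.mem_centralizer_singleton_iff.2 (hzc g)
    have := hQCN (z : G ⧸ P0) (fun h => hz1 (Subtype.ext h))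
    rw [htop] at this
    exact Group.nilpotent_of_mulEquiv Subgroup.topEquiv
  have hFbcyc : IsCyclic ↥Fb := by
    rcases OddLocal.CN.nilpotent_structure (hfpf Fb hFbp) hFbnil with h | ⟨C, Q, -, -, -, -, n, ⟨e⟩⟩
    · exact h
    · exfalso
      have hdvd : Nat.card ↥Q ∣ Nat.card ↥Fb := Subgroup.card_subgroup_dvd_card Q
      rw [Nat.card_congr e.toEquiv, Nat.card_eq_fintype_card, QuaternionGroup.card] at hdvd
      exact Nat.not_even_iff_odd.2 hFbodd (even_iff_two_dvd.2 ((dvd_mul_right 2 2).trans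
          ((dvd_mul_right 4 _).trans hdvd)))
  have hcentel : ∀ a ∈ Fb, a ≠ 1 → Subgroup.centralizer ({a} : Set (G ⧸ P0)) ≤ Fb := by
    intro a ha ha1
    obtain ⟨T, hT⟩ : ∃ T, T = Subgroup.zpowers a := ⟨_, rfl⟩
    have hTF : T ≤ Fb := hT ▸ Subgroup.zpowers_le.2 ha
    haveI hTn : T.Normal := by
      refine ⟨fun x hx g => ?_⟩
      obtain ⟨j, rfl⟩ := hT.le hx
      show g * a ^ j * g⁻¹ ∈ T
      rw [← conj_zpow]
      refine hT ▸ Subgroup.zpow_mem _ ?_ j
      have hmem : g * a * g⁻¹ ∈ Fb := hFbn.conj_mem a ha g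
      haveI := hFbcyc
      obtain ⟨y, hy⟩ := IsCyclic.exists_generator (α := ↥Fb)
      obtain ⟨i, hi⟩ := hy ⟨a, ha⟩
      obtain ⟨m, hm⟩ := (MulAut.conjNormal g : MulAut ↥Fb).toMonoidHom.map_cyclic
      have hga := congrArg Subtype.val (hm ⟨a, ha⟩)
      exact ⟨m, hga.symm⟩
    haveI : (Subgroup.centralizer (T : Set (G ⧸ P0))).Normal := inferInstance
    intro c hc
    rw [hFb]
    refine Solv.normal_le_fitting (N := Subgroup.centralizer (T : Set (G ⧸ P0)))
      (Solv.isNilpotent_of_le ?_ (hQCN a ha1)) (Subgroup.mem_centralizer_iff.2 fun x hx => ?_)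
    · intro d hd
      exact Subgroup.mem_centralizer_singleton_iff.2
        (Subgroup.mem_centralizer_iff.1 hd a (hT ▸ Subgroup.mem_zpowers a)).symm
    · obtain ⟨j, rfl⟩ := hT.le hx
      exact (Commute.zpow_left (Subgroup.mem_centralizer_singleton_iff.1 hc).symm j).eq
  obtain ⟨A, hAmap, hAsup, hAcop, ⟨eA⟩⟩ := hcompl Fb hFbp
  have hMtop : P0 ⊔ A ≠ ⊤ := by
    intro h
    rw [hAsup] at h
    refine hQnil ?_
    have : Fb = ⊤ := by
      rw [← Subgroup.map_comap_eq_self_of_surjective (QuotientGroup.mk'_surjective P0) Fb, h,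
        Subgroup.map_top_of_surjective _ (QuotientGroup.mk'_surjective P0)]
    rw [this] at hFbnil
    exact Group.nilpotent_of_mulEquiv Subgroup.topEquiv
  refine ⟨hP01, A, fun h => hFb1 (by rw [← hAmap, h, Subgroup.map_bot]),
    isCyclic_of_surjective eA.symm.toMonoidHom eA.symm.surjective, ?_, hAcop,
    hAsup ▸ hFbn.comap π, hMtop, ?_,
    OddLocal.CN.fpf_on_pcore hCN P0 hP0p hcent A hAcop, ?_⟩
  · rw [Nat.card_congr eA.toEquiv]; exact hFbodd
  · rw [hAsup, Subgroup.index_comap_of_surjective _ (QuotientGroup.mk'_surjective P0)]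
    refine ⟨Fb.index.primeFactorsList.length, Nat.eq_prime_pow_of_unique_prime_dvd
      Subgroup.index_ne_zero_of_finite fun {q} hq hqd => ?_⟩
    by_contra hqp
    haveI := Fact.mk hq
    rw [Subgroup.index_eq_card] at hqd
    obtain ⟨ub, hub⟩ := exists_prime_orderOf_dvd_card' q hqd
    obtain ⟨L, hL⟩ : ∃ L, L = (Subgroup.zpowers ub).comap (QuotientGroup.mk' Fb) := ⟨_, rfl⟩
    have hLcard : Nat.card ↥L = q * Nat.card ↥Fb := by
      rw [hL, Solv.card_comap_mk', Nat.card_zpowers, hub]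
    have hLp : (Nat.card ↥L).Coprime p :=
      hLcard ▸ Nat.Coprime.mul_left ((Nat.coprime_primes hq hp).2 hqp) hFbp
    have hLnil : Group.IsNilpotent ↥L := by
      refine (hfpf L hLp).elim fun ρ hρ => ?_
      haveI := OddLocal.CN.nilpotent_of_isFpf hρ (OddLocal.CN.subgroup hQCN L)
      exact Group.nilpotent_of_mulEquiv Subgroup.topEquiv
    have hFL : Fb ≤ L := hL ▸ QuotientGroup.le_comap_mk' Fb _
    haveI : Nontrivial ↥L := (Subgroup.nontrivial_iff_ne_bot L).2 (fun h => hFb1 (le_bot_iff.1 (h ▸ hFL)))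
    haveI := hLnil
    haveI : Nontrivial ↥(Subgroup.center ↥L) := (Subgroup.nontrivial_iff_ne_bot _).2 ((Group.IsNilpotent.center_ne_bot _))
    obtain ⟨⟨w, hwc⟩, hw1⟩ := exists_ne (1 : ↥(Subgroup.center ↥L))
    have hw1' : (w : G ⧸ P0) ≠ 1 := fun h => hw1 (Subtype.ext (Subtype.ext h))
    have hwF : (w : G ⧸ P0) ∈ Fb := hFbcent (Subgroup.mem_centralizer_iff.2 fun x hx =>
      congrArg Subtype.val (Subgroup.mem_center_iff.1 hwc ⟨x, hFL hx⟩))
    have hLF : L ≤ Fb := fun x hx => hcentel _ hwF hw1' (Subgroup.mem_centralizer_singleton_iff.2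
      (congrArg Subtype.val (Subgroup.mem_center_iff.1 hwc ⟨x, hx⟩)))
    have h1 : Nat.card ↥L ≤ Nat.card ↥Fb := Subgroup.card_le_of_le hLF
    rw [hLcard] at h1
    nlinarith [hq.two_le, Nat.card_pos (α := ↥Fb)]
  · intro x hx a ha ha1 hmem
    apply hx
    rw [hAsup, Subgroup.mem_comap]
    have haF : π a ∈ Fb := hAmap ▸ Subgroup.mem_map_of_mem π ha
    refine hcentel _ haF (fun h => ha1 ?_) (Subgroup.mem_centralizer_singleton_iff.2 ?_)
    · obtain ⟨n, hn⟩ := IsPGroup.iff_card.1 hP0p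
      rw [← orderOf_eq_one_iff]
      have haP : a ∈ P0 := (QuotientGroup.eq_one_iff a).1 h
      refine Nat.eq_one_of_dvd_coprimes (hAcop.pow_right n)
        (Subgroup.orderOf_mk a ha ▸ orderOf_dvd_natCard (⟨a, ha⟩ : ↥A))
        (hn ▸ Subgroup.orderOf_mk a haP ▸ orderOf_dvd_natCard (⟨a, haP⟩ : ↥P0))
    · have h1 : π (x * a * x⁻¹ * a⁻¹) = 1 := (QuotientGroup.eq_one_iff _).2 hmem
      rw [map_mul, map_mul, map_mul, map_inv, map_inv, mul_inv_eq_one, mul_inv_eq_iff_eq_mul] at h1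
      exact h1

end Cfsg.Agent.S1476
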