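import Cfsg.Statements.S1355
import Cfsg.Agent.Lib.OddLocal.KappaSecond

set_option autoImplicit false
open Cfsg

namespace Cfsg.Agent.S1355

theorem result {G : Type*} [Group G] [Finite G] (hG : Cfsg.IsMinSimpleOddOrder G)
    (M : Subgroup G) (hM : IsCoatom M) :
    Cfsg.fittingHallOf M ≠ ⊥ ∧ Cfsg.fittingHallOf M ≤ Cfsg.sigmaCore M ∧ Cfsg.sigmaCore M ≤ ⁅M, M⁆ ∧ ⁅M, M⁆ < M ∧
      Group.IsNilpotent ↥((commutator ↥M).map (QuotientGroup.mk' (Cfsg.fittingHall ↥M))) := by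
  exact ⟨Cfsg.Agent.OddLocal.Kappa.fittingHall_ne_bot hG hM, Cfsg.Agent.OddLocal.Support.fittingHallOf_le hG hM,
    Cfsg.Agent.OddLocal.Kappa.core_le_derived hG hM, Cfsg.Agent.OddLocal.Kappa.derived_lt hG hM,
    Cfsg.Agent.OddLocal.Kappa.derived_quot_nilpotent hG hM⟩

end Cfsg.Agent.S1355
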