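import Cfsg.Statements.S5060
import Cfsg.Agent.Lib.Classical.SL2SimpleExt
-- import your own Cfsg.Agent.* helpers here

set_option autoImplicit false
open Cfsg

namespace Cfsg.Agent.S5060

/-- Let k ⊆ K be fields with the characteristic of k not 2 and k not of order 3, and let α ∈ K be a non-zero element algebraic over k. Then the subgroup of SL₂(K) generated by the upper unitriangular matrices with entry c and the lower unitriangular matrices with entry cα, c ranging over k, is exactly the group of matrices of SL₂(K) with all entries in k(α). -/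
theorem result {k K : Type*} [Field k] [Field K] [Algebra k K] (hk2 : ringChar k ≠ 2) (hk3 : Nat.card k ≠ 3)
    (α : K) (hα : IsAlgebraic k α) (hα0 : α ≠ 0) :
    (Subgroup.closure ({g : Matrix.SpecialLinearGroup (Fin 2) K | ∃ c : k, (g : Matrix (Fin 2) (Fin 2) K) = !![1, algebraMap k K c; 0, 1]} ∪
        {g : Matrix.SpecialLinearGroup (Fin 2) K | ∃ c : k, (g : Matrix (Fin 2) (Fin 2) K) = !![1, 0; algebraMap k K c * α, 1]}) :
      Set (Matrix.SpecialLinearGroup (Fin 2) K)) =
    {g : Matrix.SpecialLinearGroup (Fin 2) K | ∀ i j : Fin 2, (g : Matrix (Fin 2) (Fin 2) K) i j ∈ IntermediateField.adjoin k ({α} : Set K)} := by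
  set L := IntermediateField.adjoin k ({α} : Set K) with hL
  have hαL : α ∈ L := IntermediateField.mem_adjoin_simple_self k α
  refine Set.Subset.antisymm ?_ fun g hg => ?_
  · intro g hg
    let H : Subgroup (Matrix.SpecialLinearGroup (Fin 2) K) :=
      (Matrix.SpecialLinearGroup.map (algebraMap L K)).range
    have hH : ∀ x : Matrix.SpecialLinearGroup (Fin 2) K, (∀ i j, x.1 i j ∈ L) → x ∈ H := fun x hx =>
      ⟨⟨Matrix.of fun i j => (⟨x.1 i j, hx i j⟩ : L), Subtype.ext (by
        have h := x.2
        rw [Matrix.det_fin_two] at h ⊢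
        simpa using h)⟩, Subtype.ext (by ext i j; rfl)⟩
    suffices hgH : g ∈ H by
      obtain ⟨x, rfl⟩ := hgH
      exact fun i j => (x.1 i j).2
    refine (Subgroup.closure_le H).mpr ?_ hg
    rintro x (⟨c, hc⟩ | ⟨c, hc⟩) <;> refine hH x fun i j => ?_ <;> rw [hc] <;> fin_cases i <;> fin_cases j <;>
      simp [IntermediateField.algebraMap_mem, zero_mem, one_mem, mul_mem, hαL]
  · exact Classical.SL2SimpleExt.mem_of_entries (fun c => Subgroup.subset_closure (Or.inl ⟨c, rfl⟩))
      (fun c => Subgroup.subset_closure (Or.inr ⟨c, rfl⟩)) (Ring.two_ne_zero hk2) hk3 hα.isIntegral hα0 hg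

end Cfsg.Agent.S5060
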