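import Cfsg.Statements.S2299
import Cfsg.Agent.Lib.Lead.SL2Ind
import Mathlib

set_option autoImplicit false
open Cfsg

namespace Cfsg.Agent.S2299

/-- Over a finite field F with q elements, q odd, every irreducible complex character of SL₂ has degree 1, q, q + 1, q − 1, (q + 1)/2 or (q − 1)/2; and when q ≥ 5 (so that these six numbers are distinct) there are exactly one irreducible character of degree 1, one of degree q, (q − 3)/2 of degree q + 1, (q − 1)/2 of degree q − 1, two of degree (q + 1)/2 and two of degree (q − 1)/2. -/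
theorem result {F : Type*} [Field F] [Fintype F] (hodd : Odd (Fintype.card F)) :
    (∀ χ : Matrix.SpecialLinearGroup (Fin 2) F → ℂ, Cfsg.IsIrrCharacter (Matrix.SpecialLinearGroup (Fin 2) F) χ →
      χ 1 = 1 ∨ χ 1 = (Fintype.card F : ℂ) ∨ χ 1 = (Fintype.card F : ℂ) + 1 ∨ χ 1 = (Fintype.card F : ℂ) - 1 ∨
        χ 1 = (((Fintype.card F + 1) / 2 : ℕ) : ℂ) ∨ χ 1 = (((Fintype.card F - 1) / 2 : ℕ) : ℂ)) ∧
    (5 ≤ Fintype.card F →
      Nat.card {χ : Cfsg.IrrCharacter (Matrix.SpecialLinearGroup (Fin 2) F) // (χ : Matrix.SpecialLinearGroup (Fin 2) F → ℂ) 1 = 1} = 1 ∧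
      Nat.card {χ : Cfsg.IrrCharacter (Matrix.SpecialLinearGroup (Fin 2) F) // (χ : Matrix.SpecialLinearGroup (Fin 2) F → ℂ) 1 = (Fintype.card F : ℂ)} = 1 ∧
      Nat.card {χ : Cfsg.IrrCharacter (Matrix.SpecialLinearGroup (Fin 2) F) // (χ : Matrix.SpecialLinearGroup (Fin 2) F → ℂ) 1 = (Fintype.card F : ℂ) + 1} = (Fintype.card F - 3) / 2 ∧
      Nat.card {χ : Cfsg.IrrCharacter (Matrix.SpecialLinearGroup (Fin 2) F) // (χ : Matrix.SpecialLinearGroup (Fin 2) F → ℂ) 1 = (Fintype.card F : ℂ) - 1} = (Fintype.card F - 1) / 2 ∧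
      Nat.card {χ : Cfsg.IrrCharacter (Matrix.SpecialLinearGroup (Fin 2) F) // (χ : Matrix.SpecialLinearGroup (Fin 2) F → ℂ) 1 = (((Fintype.card F + 1) / 2 : ℕ) : ℂ)} = 2 ∧
      Nat.card {χ : Cfsg.IrrCharacter (Matrix.SpecialLinearGroup (Fin 2) F) // (χ : Matrix.SpecialLinearGroup (Fin 2) F → ℂ) 1 = (((Fintype.card F - 1) / 2 : ℕ) : ℂ)} = 2) := by
  classical
  haveI : Fintype (MulChar F ℂ) := Fintype.ofFinite _
  have hq1 := Fintype.one_lt_card (α := F)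
  have ho := Nat.odd_iff.1 hodd
  constructor
  · intro χ hχ
    obtain ⟨n, hn, hk⟩ := Cfsg.Agent.Lead.SL2.kind hχ
    rw [hn, ← Nat.cast_one, ← Nat.cast_add, ← Nat.cast_sub hq1.le]
    simp only [Nat.cast_inj]
    cases hk with
    | one _ hm => exact Or.inl hm
    | st _ hm => exact Or.inr (Or.inl hm)
    | prin γ _ _ hm => exact Or.inr (Or.inr (Or.inl hm))
    | cusp _ _ _ _ _ hm => exact Or.inr (Or.inr (Or.inr (Or.inl (by omega))))
    | halfPs _ _ _ hm => exact Or.inr (Or.inr (Or.inr (Or.inr (Or.inl (by omega)))))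
    | halfCusp _ _ _ _ _ _ _ hm => exact Or.inr (Or.inr (Or.inr (Or.inr (Or.inr (by omega)))))
  intro h5
  obtain ⟨a, b, hab⟩ := Cfsg.Agent.Lead.SL2.exists_halves_ps hodd
  obtain ⟨c0, hc0⟩ := Cfsg.Agent.Lead.SL2.exists_fixed_cusp hodd
  obtain ⟨c, d, hcd⟩ : ∃ c d, Cfsg.Agent.Lead.SL2.Halves _ c d :=
    Cfsg.Agent.Lead.SL2.halves c0.1.2 (Cfsg.Agent.Lead.SL2.stab_card_fixed c0.1.2 hc0)
  refine ⟨?_, ?_, ?_, ?_, ?_, ?_⟩
  · exact Cfsg.Agent.Lead.SL2.card_single Cfsg.Agent.Char.isIrrCharacter_one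
      (fun χ => Cfsg.Agent.Lead.SL2.deg_one (by omega) χ.2)
  · exact Cfsg.Agent.Lead.SL2.card_single Cfsg.Agent.Lead.SL2.St0_irr
      (fun χ => Cfsg.Agent.Lead.SL2.deg_q (by omega) χ.2)
  · rw [Nat.card_congr (Equiv.subtypeEquivRight fun χ => Cfsg.Agent.Lead.SL2.deg_R (by omega) χ.2)]
    exact Cfsg.Agent.Lead.SL2.card_prin_odd hodd
  · rw [Nat.card_congr (Equiv.subtypeEquivRight fun χ => Cfsg.Agent.Lead.SL2.deg_free (by omega) χ.2)]
    exact Cfsg.Agent.Lead.SL2.card_freeCusp_odd hodd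
  · refine Cfsg.Agent.Lead.SL2.card_pair hab.1 hab.2.1 hab.2.2.1 fun χ => ?_
    rw [Cfsg.Agent.Lead.SL2.deg_half_plus hodd h5 χ.2]
    constructor
    · rintro ⟨φ, h⟩; exact hab.eq_or h
    · rintro (h | h)
      · exact ⟨b, by rw [h]; exact hab⟩
      · exact ⟨a, by rw [h]; exact hab.symm⟩
  · refine Cfsg.Agent.Lead.SL2.card_pair hcd.1 hcd.2.1 hcd.2.2.1 fun χ => ?_
    rw [Cfsg.Agent.Lead.SL2.deg_half_minus hodd h5 χ.2]
    constructor
    · rintro ⟨χ', φ, hχ', hc', h⟩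
      exact Cfsg.Agent.Lead.SL2.cusp_halves_unique hodd c0.1.2 hχ' c0.2 hc' hcd h
    · rintro (h | h)
      · exact ⟨_, d, c0.1.2, c0.2, by rw [h]; exact hcd⟩
      · exact ⟨_, c, c0.1.2, c0.2, by rw [h]; exact hcd.symm⟩

end Cfsg.Agent.S2299
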