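import Cfsg.Statements.S0518
import Cfsg.Agent.Lib.JComp.Residual

set_option autoImplicit false
open Cfsg

namespace Cfsg.Agent.S0518

/-- Let G be a finite group of characteristic 2 type with trivial 2-core in which every 2-local subgroup is solvable
and, for every Sylow 2-subgroup S, the centralizer of the set of central involutions of S lies in the normalizer of S.
Then either G has a strongly embedded subgroup, or the subgroup generated by the elements of odd order has two distinct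
maximal 2-local subgroups, each isomorphic to the symmetric group of degree 4, whose intersection has order 8. -/
theorem result {G : Type*} [Group G] [Finite G]
    (hL : Cfsg.IsCharacteristicTwoType G) (hO : Cfsg.pCore 2 G = ⊥)
    (hN : ∀ N : Subgroup G, Cfsg.IsTwoLocal N → Group.IsSolvable N)
    (hZ : ∀ S : Sylow 2 G,
      Subgroup.centralizer {z : G | z ∈ (S : Subgroup G) ∧ z ^ 2 = 1 ∧ ∀ s ∈ (S : Subgroup G), s * z = z * s} ≤
        Subgroup.normalizer ((S : Subgroup G) : Set G))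
    (H : Subgroup G) (hH : H = Subgroup.closure {g : G | Odd (orderOf g)}) :
    (∃ K : Subgroup G, Cfsg.IsStronglyEmbedded K) ∨
      ∃ M₁ M₂ : Subgroup H, M₁ ≠ M₂ ∧ Cfsg.IsMaximalTwoLocal M₁ ∧ Cfsg.IsMaximalTwoLocal M₂ ∧
        Nonempty (M₁ ≃* Equiv.Perm (Fin 4)) ∧ Nonempty (M₂ ≃* Equiv.Perm (Fin 4)) ∧ Nat.card ↥(M₁ ⊓ M₂) = 8 := by
  haveI : Fact (Nat.Prime 2) := ⟨Nat.prime_two⟩
  have hcen : ∀ S : Sylow 2 G, Subgroup.centralizer (Cfsg.omegaCenterOf (S : Subgroup G) : Set G) ≤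
      Subgroup.normalizer ((S : Subgroup G) : Set G) := fun S => le_trans
    (fun g hg => Subgroup.mem_centralizer_iff.2 fun z hz =>
      Subgroup.mem_centralizer_iff.1 hg z (JComp.mem_omegaCenter hz.1 hz.2.1 hz.2.2)) (hZ S)
  obtain ⟨P⟩ : Nonempty (Sylow 2 G) := inferInstance
  have hP : (P : Subgroup G) ≠ ⊥ := fun hb => by
    have hP2 := P.not_dvd_index
    rw [hb, Subgroup.index_bot] at hP2
    exact hP2 hL.1.two_dvd
  set M := Subgroup.normalizer (Cfsg.thompsonSubgroupOf 2 (P : Subgroup G) : Set G)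
  have hM : Cfsg.IsTwoLocal M := ⟨_, P.isPGroup'.to_le (JComp.J_le _), JComp.J_ne_bot P.isPGroup' hP, rfl⟩
  by_cases hSE : Cfsg.IsStronglyEmbedded M
  · exact Or.inl ⟨M, hSE⟩
  have hne : (Cfsg.straddlingTwoSubgroups M).Nonempty := Set.nonempty_iff_ne_empty.2 fun he =>
    hSE ((S2947.result hL hN hcen hO P M hM le_rfl).2 he)
  obtain ⟨T, hT⟩ := JComp.exists_max hne
  have c₀ : JComp.Ctx M T := ⟨⟨hL, hN, hcen⟩, hO, hT, P, le_rfl⟩
  obtain ⟨M', K₁, K₂, c, s₁, s₂, hneL, hnc⟩ := c₀.exists_nc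
  exact Or.inr (c.nc_residual s₁ s₂ hneL hnc hH)

end Cfsg.Agent.S0518
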