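import Cfsg.Statements.S3224
import Mathlib
import Cfsg.Agent.Lib.Solv.MaxClass
import Cfsg.Agent.Lib.Fusion.Dihedral
-- import your own Cfsg.Agent.* helpers here

set_option autoImplicit false
open Cfsg

namespace Cfsg.Agent.S3224

/-- A finite 2-group containing an involution whose centralizer has order 4 is dihedral, quasi-dihedral (semidihedral), or of order 4. -/
theorem result {S : Type*} [Group S] [Finite S] (hS : IsPGroup 2 S)
    (x : S) (hx : orderOf x = 2) (hC : Nat.card ↥(Subgroup.centralizer ({x} : Set S)) = 4) :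
    (∃ n : ℕ, Nonempty (S ≃* DihedralGroup n)) ∨ Cfsg.IsQuasiDihedral S ∨ Nat.card S = 4 := by
  classical
  haveI : Fact (Nat.Prime 2) := ⟨Nat.prime_two⟩
  obtain ⟨k, hk⟩ := hS.exists_card_eq
  have h4 : 4 ≤ 2 ^ k := by
    rw [← hk, ← hC]; exact Subgroup.card_le_card_group _
  have hk2 : 2 ≤ k := (Nat.pow_le_pow_iff_right (by norm_num : 1 < 2)).1 (show 2 ^ 2 ≤ 2 ^ k from h4)
  rcases (show k = 2 ∨ 3 ≤ k by omega) with rfl | hk3
  · exact Or.inr (Or.inr (hk.trans (by norm_num)))
  obtain ⟨m, rfl⟩ : ∃ m, k = m + 3 := ⟨k - 3, by omega⟩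
  have hne := Cfsg.Agent.Solv.lcs_ne_bot_of_small_centralizer (p := 2) (m + 1) (G := S) hk ⟨x, by rw [hC]; norm_num⟩
  obtain ⟨z, hz⟩ := Cfsg.Agent.Solv.exists_cyclic_index_two m hk hne
  have hidx : (Subgroup.zpowers z).index = 2 := by
    have h := (Subgroup.zpowers z).card_mul_index
    rw [Nat.card_zpowers, hz, hk, pow_succ 2 (m + 2)] at h
    exact Nat.eq_of_mul_eq_mul_left (pow_pos two_pos _) h
  haveI := Subgroup.normal_of_index_eq_two hidx
  have hx2 : x * x = 1 := by rw [← pow_two, ← hx, pow_orderOf_eq_one]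
  have hx1 : x ≠ 1 := fun h => by rw [h, orderOf_one] at hx; omega
  have hxinv : x⁻¹ = x := inv_eq_of_mul_eq_one_right hx2
  have hcz : ∀ w : S, Commute x w → x ∉ Subgroup.zpowers w → orderOf w ≤ 2 := by
    intro w hw hxw
    have h1 : Subgroup.zpowers w < Subgroup.centralizer ({x} : Set S) := by
      refine lt_of_le_of_ne (Subgroup.zpowers_le.2 (Subgroup.mem_centralizer_singleton_iff.2 hw.symm.eq))
        fun h => hxw (h ▸ Subgroup.mem_centralizer_singleton_iff.2 rfl)
    have h2 := Subgroup.card_dvd_of_le h1.le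
    have h3 : Nat.card (Subgroup.zpowers w) ≠ 4 := fun h =>
      h1.ne (Subgroup.eq_of_le_of_card_ge h1.le (by rw [h, hC]))
    rw [hC, Nat.card_zpowers] at h2
    rw [Nat.card_zpowers] at h3
    have := Nat.le_of_dvd (by norm_num) h2
    interval_cases h : orderOf w <;> simp_all
  have hxz : x ∉ Subgroup.zpowers z := by
    intro hmem
    have hall : Subgroup.centralizer ({x} : Set S) = ⊤ := by
      rw [eq_top_iff]
      intro g _
      rw [Subgroup.mem_centralizer_singleton_iff]
      have hc : g * x * g⁻¹ ∈ Subgroup.zpowers z := Subgroup.Normal.conj_mem inferInstance _ hmem g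
      have e : g * x * g⁻¹ = x := by
        have h1 : (g * x * g⁻¹) ^ 2 = 1 := by rw [conj_pow, pow_two, hx2, mul_one, mul_inv_cancel]
        have h2 : g * x * g⁻¹ ≠ 1 := fun h => hx1 (by simpa [mul_inv_eq_one] using h)
        have huniq : ∀ w ∈ Subgroup.zpowers z, w ^ 2 = 1 → w ≠ 1 → w = z ^ 2 ^ (m + 1) := by
          intro w hw hw2 hw1
          obtain ⟨i, -, rfl⟩ := Finset.mem_image.1 (mem_zpowers_iff_mem_range_orderOf.1 hw)
          rw [← pow_mul, ← orderOf_dvd_iff_pow_eq_one, hz, pow_succ 2 (m + 1)] at hw2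
          obtain ⟨c, hc⟩ := Nat.dvd_of_mul_dvd_mul_right two_pos hw2
          rcases Nat.even_or_odd' c with ⟨e, rfl | rfl⟩
          · exfalso; apply hw1
            rw [hc, ← mul_assoc, ← pow_succ, pow_mul, ← hz, pow_orderOf_eq_one, one_pow]
          · rw [hc, mul_add, mul_one, pow_add, ← mul_assoc, ← pow_succ, pow_mul, ← hz, pow_orderOf_eq_one,
              one_pow, one_mul]
        rw [huniq _ hc h1 h2, huniq _ hmem (by rw [pow_two, hx2]) hx1]
      exact mul_inv_eq_iff_eq_mul.1 e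
    rw [hall, Subgroup.card_top, hk] at hC
    have : 2 ^ 3 ≤ 2 ^ (m + 3) := Nat.pow_le_pow_right two_pos (by omega)
    omega
  obtain ⟨r, hr⟩ : ∃ r : ℤ, x * z * x⁻¹ = z ^ r := by
    obtain ⟨r, hr⟩ := Subgroup.mem_zpowers_iff.1
      (Subgroup.Normal.conj_mem inferInstance _ (Subgroup.mem_zpowers z) x)
    exact ⟨r, hr.symm⟩
  have hpow : ∀ i : ℤ, x * z ^ i * x⁻¹ = z ^ (r * i) := fun i => by
    rw [← conj_zpow, hr, zpow_mul]
  have hdvd : ((2 : ℤ) ^ (m + 2)) ∣ (r - 1) * (r + 1) := by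
    have h : z ^ (r * r) = z ^ (1 : ℤ) := by
      rw [← hpow, ← hr]
      simp [hxinv, mul_assoc, hx2, ← mul_assoc x x]
    rw [zpow_eq_zpow_iff_modEq, hz, Int.modEq_iff_dvd] at h
    have h' := h.neg_right
    push_cast at h'
    rwa [show (r - 1) * (r + 1) = -(1 - r * r) by ring]
  have hno : ¬ (2 : ℤ) ^ (m + 2) ∣ r - 1 := by
    intro h
    have hc : Commute x z := by
      rw [Commute, SemiconjBy, ← mul_inv_eq_iff_eq_mul, hr]
      nth_rw 2 [← zpow_one z]
      rw [zpow_eq_zpow_iff_modEq, hz, Int.modEq_iff_dvd]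
      have h' := h.neg_right
      push_cast
      rwa [show (1 : ℤ) - r = -(r - 1) by ring]
    have := hcz z hc hxz
    rw [hz] at this
    have : 2 ^ 2 ≤ 2 ^ (m + 2) := Nat.pow_le_pow_right two_pos (by omega)
    omega
  have hodd : ¬ (2 : ℤ) ∣ r := by
    intro h
    have h2 : (2 : ℤ) ∣ (r - 1) * (r + 1) := (dvd_pow_self 2 (by omega)).trans hdvd
    rcases (Int.prime_two).dvd_or_dvd h2 with h3 | h3 <;> omega
  have hcases : (2 : ℤ) ^ (m + 2) ∣ r + 1 ∨ (1 ≤ m ∧ (2 : ℤ) ^ (m + 2) ∣ r + 1 - 2 ^ (m + 1)) := by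
    obtain ⟨u, hu⟩ : ∃ u, r = 2 * u + 1 := ⟨r / 2, by omega⟩
    subst hu
    have h1 : (2 : ℤ) ^ m ∣ u * (u + 1) := by
      have h : (2 : ℤ) ^ m * 4 ∣ (u * (u + 1)) * 4 := by
        rw [show (2 : ℤ) ^ m * 4 = 2 ^ (m + 2) by rw [pow_add]; norm_num]
        rwa [show u * (u + 1) * 4 = (2 * u + 1 - 1) * (2 * u + 1 + 1) by ring]
      exact Int.dvd_of_mul_dvd_mul_right (by norm_num) h
    rcases (show (2 : ℤ) ^ m ∣ u ∨ (2 : ℤ) ^ m ∣ u + 1 by
      rcases Int.even_or_odd u with he | ho
      · left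
        exact IsCoprime.dvd_of_dvd_mul_right (IsCoprime.pow_left
          ((Int.prime_two.coprime_iff_not_dvd).2 (by obtain ⟨a, rfl⟩ := he; omega))) h1
      · right
        exact IsCoprime.dvd_of_dvd_mul_left (IsCoprime.pow_left
          ((Int.prime_two.coprime_iff_not_dvd).2 (by obtain ⟨a, rfl⟩ := ho; omega))) h1) with h | h
    · obtain ⟨c, hc⟩ := h
      by_cases hm : m = 0
      · subst hm
        simp only [pow_zero, one_mul] at hc
        subst hc
        left
        rcases Int.even_or_odd' u with ⟨e, rfl | rfl⟩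
        · exact absurd ⟨e, by ring⟩ hno
        · exact ⟨e + 1, by ring⟩
      · exfalso
        have hw : Commute x (z ^ (2 : ℤ)) := by
          rw [Commute, SemiconjBy, ← mul_inv_eq_iff_eq_mul, hpow, zpow_eq_zpow_iff_modEq, hz,
            Int.modEq_iff_dvd]
          push_cast
          exact ⟨-c, by rw [hc]; ring⟩
        have h3 := hcz _ hw fun h => hxz ((Subgroup.zpowers_le.2 (zpow_mem (Subgroup.mem_zpowers z) _)) h)
        have h4 : orderOf (z ^ (2 : ℤ)) = 2 ^ (m + 1) := by
          rw [zpow_two, ← pow_two, orderOf_pow' _ two_ne_zero, hz,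
            Nat.gcd_eq_right (dvd_pow_self 2 (by omega)), pow_succ, Nat.mul_div_cancel _ two_pos]
        rw [h4] at h3
        have : 2 ^ 2 ≤ 2 ^ (m + 1) := Nat.pow_le_pow_right two_pos (by omega)
        omega
    · obtain ⟨c, hc⟩ := h
      rcases Int.even_or_odd' c with ⟨e, rfl | rfl⟩
      · left
        exact ⟨e, by rw [show (2 : ℤ) * u + 1 + 1 = 2 * (u + 1) by ring, hc]; ring⟩
      · by_cases hm : m = 0
        · subst hm
          exfalso
          refine hno ⟨e, ?_⟩
          simp only [pow_zero, one_mul] at hc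
          rw [show u = 2 * e by omega]
          ring
        · right
          exact ⟨by omega, e, by rw [show (2 : ℤ) * u + 1 + 1 = 2 * (u + 1) by ring, hc]; ring⟩
  rcases hcases with h | ⟨hm, h⟩
  · left
    have hinv : x * z * x⁻¹ = z⁻¹ := by
      rw [hr, ← zpow_neg_one, zpow_eq_zpow_iff_modEq, hz, Int.modEq_iff_dvd]
      push_cast
      rw [show (-1 : ℤ) - r = -(r + 1) by ring]
      exact h.neg_right
    have hy : orderOf (x * z) = 2 := by
      refine orderOf_eq_prime ?_ fun h => hxz ?_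
      · rw [pow_two, ← mul_assoc, show x * z * x = x * z * x⁻¹ by rw [hxinv], hinv, inv_mul_cancel]
      · rw [mul_eq_one_iff_eq_inv.1 h]; exact inv_mem (Subgroup.mem_zpowers z)
    have hne' : x ≠ x * z := fun h => by
      rw [left_eq_mul] at h
      rw [h, orderOf_one] at hz
      exact absurd hz.symm (Nat.one_lt_pow (by omega) (by norm_num)).ne'
    obtain ⟨e⟩ := Cfsg.Agent.Fusion.closure_pair_equiv_dihedral hx hy hne'
    have htop : Subgroup.closure ({x, x * z} : Set S) = ⊤ := by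
      have hzm : z ∈ Subgroup.closure ({x, x * z} : Set S) := by
        have := mul_mem (inv_mem (Subgroup.subset_closure (show x ∈ ({x, x * z} : Set S) from Or.inl rfl)))
          (Subgroup.subset_closure (show x * z ∈ ({x, x * z} : Set S) from Or.inr rfl))
        rwa [inv_mul_cancel_left] at this
      refine eq_top_iff.2 fun g _ => ?_
      by_cases hg : g ∈ Subgroup.zpowers z
      · exact Subgroup.zpowers_le.2 hzm hg
      · have h1 := (Subgroup.mul_mem_iff_of_index_two hidx (a := x) (b := g)).2 (iff_of_false hxz hg)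
        have h2 := mul_mem (inv_mem (Subgroup.subset_closure (show x ∈ ({x, x * z} : Set S) from Or.inl rfl)))
          (Subgroup.zpowers_le.2 hzm h1)
        rwa [inv_mul_cancel_left] at h2
    exact ⟨_, ⟨((MulEquiv.subgroupCongr htop).trans Subgroup.topEquiv).symm.trans e⟩⟩
  · right; left
    refine ⟨m + 2, by omega, hk, z, x, hz, hx, ?_⟩
    rw [hr, ← zpow_natCast, zpow_eq_zpow_iff_modEq, hz, Int.modEq_iff_dvd]
    rw [show m + 2 - 1 = m + 1 by omega, Nat.cast_sub Nat.one_le_two_pow]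
    push_cast
    rw [show (2 : ℤ) ^ (m + 1) - 1 - r = -(r + 1 - 2 ^ (m + 1)) by ring]
    exact h.neg_right

end Cfsg.Agent.S3224
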