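import Cfsg.Statements.S0700
import Mathlib
import Cfsg.Agent.Lib.Perm.Primitive
import Cfsg.Agent.Lib.Perm.CharSimple
import Cfsg.Agent.Lib.Solv.Basic
import Cfsg.Agent.Lib.Solv.Frobenius

set_option autoImplicit false
open Cfsg
open scoped Pointwise

namespace Cfsg.Agent.S0700

open Cfsg.Agent MulAction

/-- A group in which all nontrivial elements have the same order is nilpotent. -/
theorem isNilpotent_of_same_order {K : Type*} [Group K] [Finite K]
    (h : ∀ a b : K, a ≠ 1 → b ≠ 1 → orderOf a = orderOf b) : Group.IsNilpotent K := by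
  rcases subsingleton_or_nontrivial K with hs | hn
  · infer_instance
  obtain ⟨a, ha⟩ := exists_ne (1 : K)
  set r := orderOf a with hr
  have hr1 : r ≠ 1 := fun e => ha (orderOf_eq_one_iff.1 e)
  have hq : r.minFac.Prime := Nat.minFac_prime hr1
  haveI := Fact.mk hq
  have hrq : r = r.minFac := by
    have ho : orderOf (a ^ (r / r.minFac)) = r.minFac := by
      rw [orderOf_pow' a (Nat.div_pos (Nat.le_of_dvd (orderOf_pos a) (Nat.minFac_dvd _)) hq.pos).ne',
        Nat.gcd_eq_right (Nat.div_dvd_of_dvd (Nat.minFac_dvd _)), Nat.div_div_self (Nat.minFac_dvd _) (orderOf_pos a).ne']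
    rw [← ho]
    exact h a _ ha fun e => hq.ne_one (by rw [← ho, e, orderOf_one])
  have hp : IsPGroup r.minFac K := IsPGroup.iff_orderOf.2 fun g => by
    rcases eq_or_ne g 1 with rfl | hg
    · exact ⟨0, by simp⟩
    · exact ⟨1, by rw [pow_one, ← hrq, hr]; exact h g a hg ha⟩
  exact hp.isNilpotent

variable {G : Type*} [Group G] [Finite G] {Ω : Type*} [MulAction G Ω] [FaithfulSMul G Ω] [Finite Ω]

omit [Finite G] [Finite Ω] in
theorem semiregular {M : Subgroup G} [IsPretransitive M Ω] {c d : G}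
    (hc : c ∈ Subgroup.centralizer (M : Set G)) (hd : d ∈ Subgroup.centralizer (M : Set G)) {a : Ω}
    (h : c • a = d • a) : c = d := by
  have h1 := Perm.eq_one_of_centralizes (mul_mem (inv_mem hd) hc) (ω := a) (by rw [mul_smul, h, inv_smul_smul])
  exact (inv_mul_eq_one.1 h1).symm

theorem mem_conj_stabilizer {M : Type*} [Group M] {X : Type*} [MulAction M X] (g n : M) (a : X) :
    n ∈ MulAut.conj g • stabilizer M a ↔ n • (g • a) = g • a := by
  rw [Subgroup.mem_pointwise_smul_iff_inv_smul_mem, mem_stabilizer_iff]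
  simp only [MulAut.smul_def, ← map_inv, MulAut.conj_apply, inv_inv, mul_smul]
  exact inv_smul_eq_iff

variable (h2 : IsMultiplyPretransitive G Ω 2)

omit [Finite G] [Finite Ω] [FaithfulSMul G Ω] in
include h2 in
theorem exists_move {a b c d : Ω} (hab : a ≠ b) (hcd : c ≠ d) : ∃ g : G, g • a = c ∧ g • b = d :=
  is_two_pretransitive_iff.1 h2 hab hcd

include h2 in
theorem regular_nilpotent (N : Subgroup G) [N.Normal] [IsPretransitive N Ω] (a : Ω)
    (h : stabilizer N a = ⊥) : Group.IsNilpotent N := by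
  have hinj : ∀ u v : N, (u : G) • a = (v : G) • a → u = v := fun u v e => by
    have : v⁻¹ * u ∈ stabilizer N a := by
      show ((v⁻¹ * u : N) : G) • a = a
      rw [Subgroup.coe_mul, Subgroup.coe_inv, mul_smul, e, inv_smul_smul]
    rw [h, Subgroup.mem_bot] at this
    exact (inv_mul_eq_one.1 this).symm
  refine isNilpotent_of_same_order fun u v hu hv => ?_
  have hne : ∀ w : N, w ≠ 1 → (w : G) • a ≠ a := fun w hw e => hw (hinj w 1 (by rw [e, OneMemClass.coe_one, one_smul]))
  obtain ⟨g, hga, hgu⟩ := exists_move h2 (Ne.symm (hne u hu)) (Ne.symm (hne v hv))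
  have hmem : g * u * g⁻¹ ∈ N := Subgroup.Normal.conj_mem inferInstance _ u.2 g
  have e : (⟨g * u * g⁻¹, hmem⟩ : N) = v := hinj _ _ (by
    show (g * (u : G) * g⁻¹) • a = (v : G) • a
    rw [mul_smul, mul_smul, show g⁻¹ • a = a by rw [inv_smul_eq_iff, hga], hgu])
  rw [← e, ← Subgroup.orderOf_coe, ← Subgroup.orderOf_coe]
  exact (orderOf_injective (MulAut.conj g).toMonoidHom (MulAut.conj g).injective (u : G)).symm

include h2 in
theorem primitive_of_nonregular (N : Subgroup G) [hNn : N.Normal] (hmin : ∀ M : Subgroup G, M.Normal → M ≤ N → M = ⊥ ∨ M = N)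
    [IsPretransitive N Ω] (hnt : Nontrivial Ω) (hnr : ∀ a : Ω, stabilizer N a ≠ ⊥) : IsPreprimitive N Ω := by
  classical
  by_contra hnp
  obtain ⟨B₀, hB₀, hB₀nt⟩ : ∃ B : Set Ω, IsBlock N B ∧ ¬ IsTrivialBlock B := by
    by_contra hno
    push Not at hno
    exact hnp ⟨fun {B} hB => hno B hB⟩
  simp only [IsTrivialBlock, not_or] at hB₀nt
  obtain ⟨B, ⟨hBblock, hBns⟩, hBmin⟩ := Set.exists_min_image {B : Set Ω | IsBlock N B ∧ ¬ B.Subsingleton}
    (fun B => B.ncard) (Set.toFinite _) ⟨B₀, hB₀, hB₀nt.1⟩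
  have hBuniv : B ≠ Set.univ := fun e => hB₀nt.2 (by
    refine Set.eq_univ_of_forall fun x => ?_
    have := hBmin B₀ ⟨hB₀, hB₀nt.1⟩
    rw [e, Set.ncard_univ] at this
    have he : B₀ = Set.univ := Set.eq_of_subset_of_ncard_le (Set.subset_univ _) (by rwa [Set.ncard_univ]) (Set.toFinite _)
    rw [he]; trivial)
  -- translates are blocks
  have hblock : ∀ g : G, IsBlock N (g • B) := by
    intro g
    have h1 := hBblock.of_subgroup_of_conjugate g
    rwa [show N.map (MulAut.conj g).toMonoidHom = N from le_antisymm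
      (by rintro _ ⟨x, hx, rfl⟩; exact hNn.conj_mem x hx g)
      (fun x hx => ⟨g⁻¹ * x * g, by simpa using hNn.conj_mem x hx g⁻¹, by simp [mul_assoc]⟩)] at h1
  have huniq : ∀ g k : G, ∀ x y : Ω, x ≠ y → x ∈ g • B → y ∈ g • B → x ∈ k • B → y ∈ k • B → g • B = k • B := by
    intro g k x y hxy hxg hyg hxk hyk
    have hI := (hblock g).inter (hblock k)
    have hns : ¬ (g • B ∩ k • B).Subsingleton := fun h => hxy (h ⟨hxg, hxk⟩ ⟨hyg, hyk⟩)
    have h1 := hBmin _ ⟨hI, hns⟩
    have e1 : g • B ∩ k • B = g • B := Set.eq_of_subset_of_ncard_le Set.inter_subset_left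
      (by rw [Set.ncard_smul_set]; exact h1) (Set.toFinite _)
    have e2 : g • B ∩ k • B = k • B := Set.eq_of_subset_of_ncard_le Set.inter_subset_right
      (by rw [Set.ncard_smul_set]; exact h1) (Set.toFinite _)
    exact e1.symm.trans e2
  obtain ⟨p, hp, q, hq, hpq⟩ := Set.not_subsingleton_iff.1 hBns
  have hline : ∀ x y : Ω, x ≠ y → ∃ g : G, x ∈ g • B ∧ y ∈ g • B := fun x y hxy => by
    obtain ⟨g, h1, h2'⟩ := exists_move h2 hpq hxy
    exact ⟨g, ⟨p, hp, h1⟩, ⟨q, hq, h2'⟩⟩
  have hfix : ∀ (n : N) (x : Ω), n • x = x → ∀ g : G, x ∈ g • B → n • (g • B) = g • B := fun n x hn g hx =>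
    (hblock g).smul_eq_of_mem hx (by rwa [hn])
  -- two fixed points
  have hTI : ∀ (n : N) (x y : Ω), x ≠ y → n • x = x → n • y = y → n = 1 := by
    intro n x y hxy hnx hny
    obtain ⟨g, hxg, hyg⟩ := hline x y hxy
    have hout : ∀ z, z ∉ g • B → n • z = z := by
      intro z hz
      have hxz : x ≠ z := fun e => hz (e ▸ hxg)
      have hyz : y ≠ z := fun e => hz (e ▸ hyg)
      obtain ⟨k, hxk, hzk⟩ := hline x z hxz
      obtain ⟨l, hyl, hzl⟩ := hline y z hyz
      by_contra hne
      have h1 : n • z ∈ k • B := by rw [← hfix n x hnx k hxk]; exact Set.smul_mem_smul_set hzk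
      have h2' : n • z ∈ l • B := by rw [← hfix n y hny l hyl]; exact Set.smul_mem_smul_set hzl
      have e := huniq k l z (n • z) (Ne.symm hne) hzk h1 hzl h2'
      have e' := huniq g k x y hxy hxg hyg hxk (e ▸ hyl)
      exact hz (e' ▸ hzk)
    obtain ⟨z, hz⟩ : ∃ z, z ∉ g • B := by
      by_contra hno
      push Not at hno
      refine hBuniv (Set.eq_of_subset_of_ncard_le (Set.subset_univ _) ?_ (Set.toFinite _))
      rw [← Set.ncard_smul_set g B, Set.eq_univ_of_forall hno]
    have hxz : x ≠ z := fun e => hz (e ▸ hxg)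
    obtain ⟨k, hxk, hzk⟩ := hline x z hxz
    have hgk : g • B ≠ k • B := fun e => hz (e ▸ hzk)
    refine Subtype.ext (FaithfulSMul.eq_of_smul_eq_smul (α := Ω) fun w => ?_)
    rw [Subgroup.coe_one, one_smul]
    show n • w = w
    by_cases hw : w ∈ g • B
    · rcases eq_or_ne w x with rfl | hwx
      · exact hnx
      -- use the line xz
      have hwk : w ∉ k • B := fun hw' => hgk (huniq g k w x hwx hw hxg hw' hxk)
      have hwz : w ≠ z := fun e => hz (e ▸ hw)
      obtain ⟨l, hwl, hzl⟩ := hline w z hwz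
      by_contra hne
      have h1 : n • w ∈ g • B := by rw [← hfix n x hnx g hxg]; exact Set.smul_mem_smul_set hw
      have h2' : n • w ∈ l • B := by rw [← hfix n z (hout z hz) l hzl]; exact Set.smul_mem_smul_set hwl
      exact hz ((huniq g l w (n • w) (Ne.symm hne) hw h1 hwl h2') ▸ hzl)
    · exact hout w hw
  -- a Frobenius group
  obtain ⟨a, b, hab⟩ := exists_pair_ne Ω
  set H := stabilizer N a with hH
  have hFC : Cfsg.IsFrobeniusComplement H := by
    refine ⟨hnr a, fun h => ?_, fun g hg => ?_⟩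
    · obtain ⟨n, hn⟩ := exists_smul_eq N a b
      have : n ∈ H := h ▸ Subgroup.mem_top n
      exact hab ((this : n • a = a) ▸ hn)
    · refine (Subgroup.eq_bot_iff_forall _).2 fun u hu => ?_
      obtain ⟨hu1, hu2⟩ := Subgroup.mem_inf.1 hu
      rw [hH, mem_conj_stabilizer] at hu2
      exact hTI u a (g • a) (fun e => hg e.symm) hu1 hu2
  obtain ⟨K, hK, hKn, hKc⟩ := Solv.frobenius_theorem hFC
  have hKmem : ∀ n : N, n ∈ K ↔ n = 1 ∨ ∀ x : Ω, n • x ≠ x := by
    intro n
    rw [← SetLike.mem_coe, hK]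
    refine or_congr Iff.rfl ⟨fun h x hx => ?_, fun h g hg => ?_⟩
    · obtain ⟨g, rfl⟩ := exists_smul_eq N a x
      refine h g ?_
      rw [hH, mem_conj_stabilizer]
      exact hx
    · rw [hH, mem_conj_stabilizer] at hg
      exact h _ hg
  have hKG : (K.map N.subtype).Normal := by
    refine ⟨?_⟩
    rintro _ ⟨n, hn, rfl⟩ g
    refine ⟨⟨g * n * g⁻¹, hNn.conj_mem _ n.2 g⟩, (hKmem _).2 ?_, rfl⟩
    rcases (hKmem n).1 hn with rfl | h
    · exact Or.inl (Subtype.ext (by simp))
    · refine Or.inr fun x hx => h (g⁻¹ • x) ?_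
      have hx' : (g * (n : G) * g⁻¹) • x = x := hx
      show (n : G) • (g⁻¹ • x) = g⁻¹ • x
      conv_rhs => rw [← hx']
      rw [mul_smul, mul_smul, inv_smul_smul]
  have hcard := hKc.card_mul_card
  rcases hmin _ hKG (Subgroup.map_subtype_le K) with h | h
  · rw [(Subgroup.map_eq_bot_iff_of_injective _ N.subtype_injective).1 h, Subgroup.card_bot, one_mul] at hcard
    exact hFC.2.1 (Subgroup.eq_top_of_card_eq H hcard)
  · have e : K = ⊤ := Subgroup.map_injective N.subtype_injective (by
      rw [h, ← MonoidHom.range_eq_map, Subgroup.range_subtype])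
    rw [e, Subgroup.card_top] at hcard
    refine hnr a (Subgroup.card_eq_one.1 (Nat.eq_of_mul_eq_mul_left (Nat.card_pos (α := N)) ?_))
    rw [mul_one]; exact hcard

include h2 in
theorem one_factor (N : Subgroup G) [N.Normal] [IsPreprimitive N Ω] (hnt : Nontrivial Ω) (hsol : ¬ Group.IsSolvable N)
    {T : Type*} [Group T] [IsSimpleGroup T] {m : ℕ} (hm : 0 < m) (e : N ≃* (Fin m → T)) : m = 1 := by
  classical
  by_contra hm1
  haveI : Finite (Fin m → T) := Finite.of_equiv N e.toEquiv
  let i0 : Fin m := ⟨0, hm⟩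
  let i1 : Fin m := ⟨1, by omega⟩
  have h01 : i0 ≠ i1 := by simp [i0, i1]
  let ι : Fin m → (T →* N) := fun i => e.symm.toMonoidHom.comp (MonoidHom.mulSingle (fun _ : Fin m => T) i)
  have hι : ∀ i, Function.Injective (ι i) := fun i =>
    e.symm.injective.comp (Pi.mulSingle_injective (M := fun _ : Fin m => T) i)
  let U : Fin m → Subgroup N := fun i => (ι i).range
  have hmemU : ∀ i (w : N), w ∈ U i ↔ ∀ k, k ≠ i → e w k = 1 := by
    intro i w
    constructor
    · rintro ⟨t, rfl⟩ k hk
      show e (e.symm (Pi.mulSingle i t)) k = 1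
      rw [MulEquiv.apply_symm_apply, Pi.mulSingle_eq_of_ne hk]
    · intro h
      refine ⟨e w i, e.injective ?_⟩
      show e (e.symm (Pi.mulSingle i (e w i))) = e w
      rw [MulEquiv.apply_symm_apply]
      funext k
      rcases eq_or_ne k i with rfl | hk
      · simp
      · rw [Pi.mulSingle_eq_of_ne hk, h k hk]
  haveI hUn : ∀ i, (U i).Normal := fun i => ⟨fun w hw g => (hmemU i _).2 fun k hk => by
    rw [map_mul, map_mul, Pi.mul_apply, Pi.mul_apply, (hmemU i w).1 hw k hk, mul_one, map_inv, Pi.inv_apply, mul_inv_cancel]⟩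
  haveI : Nontrivial T := IsSimpleGroup.toNontrivial
  have hUne : ∀ i, U i ≠ ⊥ := fun i h => by
    obtain ⟨t, ht⟩ := exists_ne (1 : T)
    refine ht (hι i ?_)
    rw [map_one, ← Subgroup.mem_bot, ← h]
    exact ⟨t, rfl⟩
  haveI hfa : FaithfulSMul N Ω := ⟨fun {u v} h => Subtype.ext (FaithfulSMul.eq_of_smul_eq_smul (α := Ω) h)⟩
  haveI hUt : ∀ i, IsPretransitive (U i) Ω := fun i => Perm.normal_isPretransitive (U i) (hUne i)
  have hcom : ∀ i j, i ≠ j → U i ≤ Subgroup.centralizer (U j : Set N) := by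
    intro i j hij w hw
    refine Subgroup.mem_centralizer_iff.2 fun v hv => e.injective (funext fun k => ?_)
    rw [map_mul, map_mul, Pi.mul_apply, Pi.mul_apply]
    rcases eq_or_ne k i with rfl | hk
    · rw [(hmemU j v).1 hv k hij, one_mul, mul_one]
    · rw [(hmemU i w).1 hw k hk, one_mul, mul_one]
  obtain ⟨a, b, hab⟩ := exists_pair_ne Ω
  -- only two factors
  have htwo : ∀ k, k = i0 ∨ k = i1 := by
    intro k
    by_contra hk
    push Not at hk
    obtain ⟨t, ht⟩ := exists_ne (1 : T)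
    obtain ⟨u, hu⟩ := exists_smul_eq (U i1) a ((ι k t) • a)
    have h1 : (u : N) = ι k t := semiregular (hcom i1 i0 h01.symm u.2) (hcom k i0 hk.1 ⟨t, rfl⟩) hu
    refine ht (hι k ?_)
    rw [map_one]
    refine e.injective (funext fun l => ?_)
    rw [map_one, Pi.one_apply]
    rcases eq_or_ne l k with rfl | hlk
    · rw [← h1]; exact (hmemU i1 _).1 u.2 l hk.2
    · exact (hmemU k _).1 ⟨t, rfl⟩ l hlk
  have hconv : ∀ s u : N, s ∈ U i0 → u ∈ U i1 → s • a = u • a → orderOf u = orderOf s := by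
    intro s u hs hu he
    have hpow : ∀ k : ℕ, (u ^ k) • a = (s ^ k) • a := by
      intro k
      induction k with
      | zero => simp
      | succ k ih =>
        rw [pow_succ, mul_smul, ← he, ← mul_smul,
          ((show Commute u s from (Subgroup.mem_centralizer_iff.1 (hcom i1 i0 h01.symm hu) s hs).symm).pow_left k).eq,
          mul_smul, ih, ← mul_smul, ← pow_succ']
    refine Nat.dvd_antisymm (orderOf_dvd_of_pow_eq_one ?_) (orderOf_dvd_of_pow_eq_one ?_)
    · refine semiregular (hcom i1 i0 h01.symm (pow_mem hu _)) (one_mem _) (a := a) ?_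
      rw [hpow, pow_orderOf_eq_one]
    · refine semiregular (hcom i0 i1 h01 (pow_mem hs _)) (one_mem _) (a := a) ?_
      rw [← hpow, pow_orderOf_eq_one]
  have hTna : ¬ Group.IsSolvable T := fun hT => hsol <| by
    haveI := hT
    haveI : Group.IsSolvable (Fin m → T) := by
      have : ∀ x y : T, x * y = y * x := IsSimpleGroup.comm_iff_isSolvable.2 hT
      exact Group.isSolvable_of_comm fun f g => funext fun k => this _ _
    exact Group.isSolvable_of_isSolvable_injective (f := e.toMonoidHom) e.injective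
  have hTsimple : ∀ (i : Fin m) (J : Subgroup N), J.Normal → J ≤ U i → J = ⊥ ∨ J = U i := by
    intro i J hJ hJU
    haveI : (J.comap (ι i)).Normal := hJ.comap _
    rcases (inferInstance : (J.comap (ι i)).Normal).eq_bot_or_eq_top with h | h
    · left
      refine (Subgroup.eq_bot_iff_forall _).2 fun w hw => ?_
      obtain ⟨t, rfl⟩ := hJU hw
      have : t ∈ J.comap (ι i) := hw
      rw [h, Subgroup.mem_bot] at this
      rw [this, map_one]
    · right
      refine le_antisymm hJU ?_
      rintro _ ⟨t, rfl⟩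
      exact (h.ge (Subgroup.mem_top t) : t ∈ J.comap (ι i))
  suffices hh : ∀ s t : T, s ≠ 1 → t ≠ 1 → orderOf s = orderOf t from hTna (by
    haveI : Finite T := Finite.of_injective (ι i0) (hι i0)
    haveI := isNilpotent_of_same_order hh
    infer_instance)
  intro s t hs ht
  have hne : ∀ r : T, r ≠ 1 → (ι i0 r) • a ≠ a := fun r hr h => hr (hι i0 (by
    rw [map_one]
    exact semiregular (hcom i0 i1 h01 ⟨r, rfl⟩) (one_mem _) (a := a) (by rw [h, one_smul])))
  obtain ⟨g, hga, hgs⟩ := exists_move h2 (Ne.symm (hne s hs)) (Ne.symm (hne t ht))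
  let c : N →* N := ((MulAut.conjNormal g : MulAut N) : N ≃* N).toMonoidHom
  have hc : c (ι i0 s) • a = ι i0 t • a := by
    show (((MulAut.conjNormal g : MulAut N) (ι i0 s) : N) : G) • a = _
    rw [MulAut.conjNormal_apply, mul_smul, mul_smul, show g⁻¹ • a = a by rw [inv_smul_eq_iff, hga]]
    exact hgs
  have hord : orderOf (c (ι i0 s)) = orderOf s := by
    show orderOf ((MulAut.conjNormal g : MulAut N) (ι i0 s)) = orderOf s
    rw [MulEquiv.orderOf_eq, orderOf_injective (ι i0) (hι i0)]
  have hcU : ∃ i, c (ι i0 s) ∈ U i := by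
    set J := (U i0).map c with hJ
    haveI : J.Normal := (hUn i0).map _ (MulAut.conjNormal g : MulAut N).surjective
    by_contra hno
    push Not at hno
    have hbot : ∀ i, J ⊓ U i = ⊥ := by
      intro i
      rcases hTsimple i (J ⊓ U i) inferInstance inf_le_right with h | h
      · exact h
      · exfalso
        have hUJ : U i ≤ J := inf_eq_right.1 h
        have hcard : Nat.card J = Nat.card (U i) := by
          rw [hJ, Subgroup.card_map_of_injective (show Function.Injective c from (MulAut.conjNormal g : MulAut N).injective),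
            ← Nat.card_congr (MonoidHom.ofInjective (hι i0)).toEquiv, ← Nat.card_congr (MonoidHom.ofInjective (hι i)).toEquiv]
        exact hno i ((Subgroup.eq_of_le_of_card_ge hUJ hcard.le).ge ⟨ι i0 s, ⟨s, rfl⟩, rfl⟩)
    have hcen : ∀ i, ∀ v ∈ U i, Commute (c (ι i0 s)) v := fun i v hv =>
      Subgroup.commute_of_normal_of_disjoint J (U i) inferInstance (hUn i) (disjoint_iff.2 (hbot i)) _ v ⟨ι i0 s, ⟨s, rfl⟩, rfl⟩ hv
    set w := e (c (ι i0 s)) with hw
    have hw1 : ∀ k, w k = 1 := by
      intro k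
      by_contra hk
      have hcz : w k ∈ Subgroup.center T := Subgroup.mem_center_iff.2 fun r => by
        have := congrFun (congrArg e (hcen k (ι k r) ⟨r, rfl⟩).eq) k
        simp only [ι, MonoidHom.comp_apply, MulEquiv.coe_toMonoidHom, map_mul, MulEquiv.apply_symm_apply,
          MonoidHom.mulSingle_apply, Pi.mul_apply, Pi.mulSingle_eq_same] at this
        exact this.symm
      rcases (inferInstance : (Subgroup.center T).Normal).eq_bot_or_eq_top with h | h
      · rw [h, Subgroup.mem_bot] at hcz; exact hk hcz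
      · exact hTna (Group.isSolvable_of_comm fun x y => (Subgroup.mem_center_iff.1 (h ▸ Subgroup.mem_top y) x))
    have h1 : c (ι i0 s) = 1 := e.injective ((funext hw1).trans (map_one e).symm)
    rw [h1, orderOf_one] at hord
    exact hs (orderOf_eq_one_iff.1 hord.symm)
  obtain ⟨i, hi⟩ := hcU
  rw [← hord, ← orderOf_injective (ι i0) (hι i0) t]
  rcases htwo i with rfl | rfl
  · rw [semiregular (hcom i0 i1 h01 hi) (hcom i0 i1 h01 ⟨t, rfl⟩) hc]
  · exact hconv _ _ ⟨t, rfl⟩ hi hc.symm

/-- Burnside's Theorem on doubly transitive groups: a minimal normal subgroup of a finite doubly transitive permutation group is elementary abelian and regular, or simple and primitive. -/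
theorem result {α : Type*} [Fintype α] [DecidableEq α] (G : Subgroup (Equiv.Perm α)) (hG : MulAction.IsMultiplyPretransitive G α 2) (N : Subgroup G) [N.Normal] (hN : N ≠ ⊥) (hmin : ∀ M : Subgroup G, M.Normal → M ≤ N → M = ⊥ ∨ M = N) : (IsMulCommutative N ∧ (∃ p : ℕ, p.Prime ∧ ∀ n ∈ N, n ^ p = 1) ∧ ∀ a : α, MulAction.stabilizer N a = ⊥) ∨ (IsSimpleGroup N ∧ MulAction.IsPreprimitive N α) := by
  classical
  haveI hprim : IsPreprimitive G α := isPreprimitive_of_is_two_pretransitive hG
  haveI hNt : IsPretransitive N α := Perm.normal_isPretransitive N hN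
  obtain ⟨n₀, hn₀, hn₀1⟩ := (Subgroup.ne_bot_iff_exists_ne_one.1 hN) |> fun ⟨x, hx⟩ => (⟨x.1, x.2, fun e => hx (Subtype.ext e)⟩ : ∃ n ∈ N, n ≠ 1)
  have hnt : Nontrivial α := by
    by_contra h
    rw [not_nontrivial_iff_subsingleton] at h
    exact hn₀1 (Subtype.ext (Equiv.ext fun x => Subsingleton.elim _ _))
  by_cases hsol : Group.IsSolvable N
  · left
    obtain ⟨hab, q, hq, hexp, -⟩ := Solv.minimal_normal_elementaryAbelian N hsol hN hmin
    exact ⟨hab, ⟨q, hq, hexp⟩, fun a => Perm.stabilizer_eq_bot_of_isMulCommutative hab a⟩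
  right
  have hnr : ∀ a : α, stabilizer N a ≠ ⊥ := fun a ha => hsol (by
    haveI := regular_nilpotent hG N a ha
    infer_instance)
  haveI hNp : IsPreprimitive N α := primitive_of_nonregular hG N hmin hnt hnr
  obtain ⟨T, hTg, m, hTs, hm, ⟨e⟩⟩ := Perm.minimal_normal_power N hN hmin
  haveI := hTs
  have hm1 := one_factor hG N hnt hsol hm e
  subst hm1
  let e' : N ≃* T := e.trans (MulEquiv.funUnique (Fin 1) T)
  haveI : Nontrivial N := (Subgroup.nontrivial_iff_ne_bot N).2 hN
  exact ⟨IsSimpleGroup.isSimpleGroup_of_surjective e'.symm.toMonoidHom e'.symm.surjective, hNp⟩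

end Cfsg.Agent.S0700
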