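import Cfsg.Statements.S0883
import Mathlib
import Cfsg.Agent.S0878
import Cfsg.Agent.Lib.Solv.ThompsonFPF
import Cfsg.Agent.Lib.Lie.ZassenhausCount
import Cfsg.Agent.Lib.Lie.NilpotentCenter
-- import your own Cfsg.Agent.* helpers here

set_option autoImplicit false
open Cfsg

namespace Cfsg.Agent.S0883

/-- Let G be a finite simple Zassenhaus group on Ω with h + 1 points whose two-point stabilizer E has odd order e with 2e < h - 1, and let H be the subgroup of the stabilizer of a consisting of the identity and the elements fixing no point other than a (given here as a subgroup of the stabilizer of order one less than the number of points whose non-identity elements fix only a; it is the Frobenius kernel of the stabilizer). If a non-identity element u of H is a product of two involutions of G, then u is an involution. -/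
theorem result {G Ω : Type*} [Group G] [Finite G] [MulAction G Ω] [Fintype Ω] (hZ : Cfsg.IsZassenhausGroup G Ω) {a b : Ω} (hab : a ≠ b) [IsSimpleGroup G] (h e : ℕ) (hh : Fintype.card Ω = h + 1) (he : Nat.card ↥(MulAction.stabilizer G a ⊓ MulAction.stabilizer G b : Subgroup G) = e) (hodd : Odd e) (hlt : 2 * e < h - 1) (H : Subgroup G) (hHa : H ≤ MulAction.stabilizer G a) (hHcard : Nat.card H + 1 = Fintype.card Ω) (hHfix : ∀ u ∈ H, u ≠ 1 → ∀ c : Ω, u • c = c → c = a) (u : G) (hu : u ∈ H) (hu1 : u ≠ 1) (x y : G) (hx : orderOf x = 2) (hy : orderOf y = 2) (hxy : x * y = u) : orderOf u = 2 := by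
  classical
  haveI : Fintype G := Fintype.ofFinite G
  obtain ⟨hF, h2, h3, hfix, -⟩ := id hZ
  haveI := hF
  have C := Cfsg.Agent.Lie.ZassenhausCount.oddCtx h2 h3 hfix hab hh he hodd
  obtain ⟨-, hnorm⟩ := Cfsg.Agent.S0878.result hZ a H hHa hHcard hHfix
  have hinv : ∀ {w : G}, orderOf w = 2 → w ≠ 1 ∧ w * w = 1 := fun {w} hw =>
    ⟨fun h1 => by rw [h1, orderOf_one] at hw; exact absurd hw (by norm_num), by rw [← sq, ← hw, pow_orderOf_eq_one]⟩
  obtain ⟨hx1, hxx⟩ := hinv hx
  obtain ⟨hy1, hyy⟩ := hinv hy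
  have hua : u • a = a := hHa hu
  have hxa : x • a = a := by
    refine hHfix u hu hu1 _ ?_
    have h1 : u * x = x * u⁻¹ := by
      rw [← hxy, mul_inv_rev, inv_eq_of_mul_eq_one_right hyy, inv_eq_of_mul_eq_one_right hxx, mul_assoc]
    rw [smul_smul, h1, mul_smul, inv_smul_eq_iff.2 hua.symm]
  have hya : y • a = a := by
    have h1 : y = x * u := by rw [← hxy, ← mul_assoc, hxx, one_mul]
    rw [h1, mul_smul, hua, hxa]
  -- transitivity of the kernel on the other points
  have hHinj : Function.Injective fun k : H => (⟨(k : G) • b, fun h => hab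
      (MulAction.injective (k : G) (h.trans (hHa k.2).symm)).symm⟩ : {c : Ω // c ≠ a}) := by
    intro k k' h
    have h' : (k : G) • b = (k' : G) • b := congrArg Subtype.val h
    by_contra hne
    have h1 : (k'⁻¹ * k : H) ≠ 1 := fun e => hne (inv_mul_eq_one.1 e).symm
    refine hab (hHfix _ (k'⁻¹ * k).2 (fun e => h1 (Subtype.ext e)) b ?_).symm
    rw [Subgroup.coe_mul, mul_smul, h', Subgroup.coe_inv, inv_smul_smul]
  haveI : Fintype H := Fintype.ofFinite _
  have hHsurj : ∀ c : Ω, c ≠ a → ∃ k : H, (k : G) • b = c := by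
    intro c hc
    obtain ⟨k, hk⟩ := ((Fintype.bijective_iff_injective_and_card _).2 ⟨hHinj, by
      rw [Fintype.card_subtype_compl, Fintype.card_subtype_eq, ← Nat.card_eq_fintype_card (α := H)]
      omega⟩).2 ⟨c, hc⟩
    exact ⟨k, congrArg Subtype.val hk⟩
  -- involutions fixing the point lie in the kernel
  have hfix1 : ∀ w : G, w ≠ 1 → w * w = 1 → ∀ c d : Ω, c ≠ d → w • c = c → w • d = d → False := by
    intro w hw hww c d hcd hc hd
    have h1 := Cfsg.Agent.Lie.ZassenhausCount.nfix_invol C hw hww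
    have h2' : 2 ≤ Cfsg.Agent.Lie.ZassenhausCount.nfix (Ω := Ω) w := by
      rw [Cfsg.Agent.Lie.ZassenhausCount.nfix]
      exact Finset.one_lt_card.2 ⟨c, by simp [hc], d, by simp [hd], hcd⟩
    split_ifs at h1 <;> omega
  have hyH : ∀ w : G, w ≠ 1 → w * w = 1 → w • a = a → w ∈ H := by
    intro w hw hww hwa
    have heven : 2 ∣ Nat.card H := by
      have h1 := Cfsg.Agent.Lie.ZassenhausCount.nfix_invol C hw hww
      have h2' : 1 ≤ Cfsg.Agent.Lie.ZassenhausCount.nfix (Ω := Ω) w := by
        rw [Cfsg.Agent.Lie.ZassenhausCount.nfix]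
        exact Finset.card_pos.2 ⟨a, by simp [hwa]⟩
      split_ifs at h1 with hev
      · rw [show Nat.card H = h by omega]
        exact hev.two_dvd
      · omega
    haveI : Fact (Nat.Prime 2) := ⟨Nat.prime_two⟩
    obtain ⟨i, hi⟩ := exists_prime_orderOf_dvd_card' (G := H) 2 heven
    have hi1 : (i : G) ≠ 1 := fun h1 => by
      rw [show i = 1 from Subtype.ext h1, orderOf_one] at hi; exact absurd hi (by norm_num)
    have hii : (i : G) * i = 1 := by rw [← Subgroup.coe_mul, ← sq, ← hi, pow_orderOf_eq_one]; rfl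
    obtain ⟨g, hg⟩ := isConj_iff.1 (Cfsg.Agent.Lie.ZassenhausCount.invol_conj C hi1 hii hw hww)
    have hga : g • a = a := by
      by_contra hne
      refine hfix1 w hw hww a (g • a) (Ne.symm hne) hwa ?_
      rw [← hg, mul_smul, mul_smul, inv_smul_smul, (hHa i.2 : (i : G) • a = a)]
    rw [← hg]
    exact (Subgroup.mem_normalizer_iff.1 (hnorm ▸ (hga : g ∈ MulAction.stabilizer G a)) _).1 i.2
  have hxH := hyH x hx1 hxx hxa
  have hyH' := hyH y hy1 hyy hya
  -- the kernel is nilpotent, so some involution is central in it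
  haveI : Group.IsNilpotent H := by
    obtain ⟨g₀, hg₀, hga, hgb⟩ := Cfsg.Agent.Lie.Zassenhaus.exists_fix_pair h2 hfix hab
    have hne : orderOf g₀ ≠ 1 := fun h1 => hg₀ (orderOf_eq_one_iff.1 h1)
    obtain ⟨r, hr, hrd⟩ := Nat.exists_prime_and_dvd hne
    obtain ⟨k, hk⟩ := hrd
    have hk0 : 0 < k := by
      rcases Nat.eq_zero_or_pos k with h0 | h0
      · exact absurd (orderOf_pos g₀) (by rw [hk, h0, mul_zero]; exact lt_irrefl 0)
      · exact h0
    have hord : orderOf (g₀ ^ k) = r := by
      rw [orderOf_pow, hk, Nat.gcd_eq_right (dvd_mul_left k r), Nat.mul_div_cancel _ hk0]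
    have hpa : (g₀ ^ k) • a = a := (Subgroup.pow_mem (MulAction.stabilizer G a) hga k : _)
    have hpb : (g₀ ^ k) • b = b := (Subgroup.pow_mem (MulAction.stabilizer G b) hgb k : _)
    refine Cfsg.Agent.Solv.fpf_nilpotent H (g₀ ^ k) hr (by rw [← hord, pow_orderOf_eq_one])
      (hnorm ▸ (hpa : g₀ ^ k ∈ MulAction.stabilizer G a)) ?_
    rw [Subgroup.eq_bot_iff_forall]
    intro v hv
    obtain ⟨hvH, hvc⟩ := Subgroup.mem_inf.1 hv
    by_contra hv1
    have h1 : (g₀ ^ k) • v • b = v • b := by
      rw [smul_smul, Subgroup.mem_centralizer_singleton_iff.1 hvc |>.symm, mul_smul, hpb]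
    have hne1 : g₀ ^ k ≠ 1 := fun h1' => by rw [h1', orderOf_one] at hord; exact hr.ne_one hord.symm
    refine hne1 (h3 _ a b (v • b) hab (fun hvb => hab (hHfix v hvH hv1 b hvb.symm).symm) ?_ hpa hpb h1)
    intro hva
    exact hab (MulAction.injective v ((hHa hvH : v • a = a).trans hva))
  have hcen : ∀ w : G, w ≠ 1 → w * w = 1 → w • a = a → ∀ v ∈ H, w * v = v * w := by
    intro w hw hww hwa v hv
    haveI : Fact (Nat.Prime 2) := ⟨Nat.prime_two⟩
    obtain ⟨P⟩ : Nonempty (Sylow 2 H) := inferInstance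
    have hw2 : orderOf (⟨w, hyH w hw hww hwa⟩ : H) = 2 :=
      orderOf_eq_prime (Subtype.ext (by show w ^ 2 = 1; rw [sq, hww])) (fun h1 => hw (congrArg Subtype.val h1))
    have hP1 : Nontrivial (P : Subgroup H) := by
      rw [← Finite.one_lt_card_iff_nontrivial, P.card_eq_multiplicity]
      refine Nat.one_lt_pow ?_ (by norm_num)
      exact (Nat.prime_two.factorization_pos_of_dvd Nat.card_pos.ne' (hw2 ▸ orderOf_dvd_natCard _)).ne'
    haveI := hP1
    have hcenP : Nontrivial (Subgroup.center (P : Subgroup H)) := P.2.center_nontrivial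
    obtain ⟨i, hi⟩ := exists_prime_orderOf_dvd_card' (G := Subgroup.center (P : Subgroup H)) 2 (by
      obtain ⟨n, hn⟩ := IsPGroup.iff_card.1 (P.2.to_subgroup (Subgroup.center (P : Subgroup H)))
      rw [hn]
      exact dvd_pow_self 2 fun h0 => by
        have := Finite.one_lt_card (α := Subgroup.center (P : Subgroup H))
        rw [hn, h0] at this
        omega)
    -- central in the nilpotent group
    have hicen : ((i : (P : Subgroup H)) : H) ∈ Subgroup.center H := by
      rw [Subgroup.mem_center_iff]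
      intro z
      exact Cfsg.Agent.Lie.NilpotentCenter.central_of_sylow P i z
    have hi1 : (((i : (P : Subgroup H)) : H) : G) ≠ 1 := fun h1 => by
      rw [show i = 1 from Subtype.ext (Subtype.ext (Subtype.ext h1)), orderOf_one] at hi
      exact absurd hi (by norm_num)
    have hii : (((i : (P : Subgroup H)) : H) : G) * ((i : (P : Subgroup H)) : H) = 1 := by
      have h1 : i * i = 1 := (sq i).symm.trans ((congrArg (i ^ ·) hi).symm.trans (pow_orderOf_eq_one i))
      exact congrArg (fun z : Subgroup.center (P : Subgroup H) => (((z : (P : Subgroup H)) : H) : G)) h1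
    obtain ⟨g, hg⟩ := isConj_iff.1 (Cfsg.Agent.Lie.ZassenhausCount.invol_conj C hi1 hii hw hww)
    have hga : g • a = a := by
      by_contra hne
      refine hfix1 w hw hww a (g • a) (Ne.symm hne) hwa ?_
      rw [← hg, mul_smul, mul_smul, inv_smul_smul, (hHa ((i : (P : Subgroup H)) : H).2 : (((i : (P : Subgroup H)) : H) : G) • a = a)]
    have hv' : g⁻¹ * v * g ∈ H := by
      have h1 := (Subgroup.mem_normalizer_iff.1 (inv_mem (show g ∈ Subgroup.normalizer (H : Set G) by rw [hnorm]; exact hga)) v).1 hv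
      rwa [inv_inv] at h1
    have h1 : (g⁻¹ * v * g) * (((i : (P : Subgroup H)) : H) : G) = (((i : (P : Subgroup H)) : H) : G) * (g⁻¹ * v * g) :=
      congrArg Subtype.val (Subgroup.mem_center_iff.1 hicen ⟨_, hv'⟩)
    calc w * v = g * ((((i : (P : Subgroup H)) : H) : G) * (g⁻¹ * v * g)) * g⁻¹ := by rw [← hg]; group
      _ = v * w := by rw [← h1, ← hg]; group
  refine orderOf_eq_prime ?_ hu1
  rw [sq, ← hxy, show x * y * (x * y) = x * (y * x) * y by group, hcen y hy1 hyy hya x hxH]
  rw [show x * (x * y) * y = (x * x) * (y * y) by group, hxx, hyy, one_mul]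

end Cfsg.Agent.S0883
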