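import Cfsg.Statements.S0881
import Mathlib
import Cfsg.Agent.Lib.Lie.ZassenhausOdd
import Cfsg.Agent.Lib.Char.Induction
import Cfsg.Agent.Lib.Char.Coherence
import Cfsg.Agent.Lib.Char.Linear
-- import your own Cfsg.Agent.* helpers here

set_option autoImplicit false
open Cfsg

namespace Cfsg.Agent.S0881

/-- Let G be a finite simple Zassenhaus group on Ω with n points, a ≠ b points with two-point stabilizer E of odd order less than n - 2, and let H be the subgroup of the stabilizer of a consisting of the identity and the elements fixing no point other than a (given here as a subgroup of the stabilizer of order one less than the number of points whose non-identity elements fix only a; it is the Frobenius kernel of the stabilizer). Let μ be a character of degree 1 of the stabilizer of a that is identically 1 on H but not identically 1. Then the function induced from μ to G is an irreducible character of G, and it takes the value 1 at every non-identity element of H. -/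
theorem result {G Ω : Type*} [Group G] [Fintype G] [MulAction G Ω] [Fintype Ω] (hZ : Cfsg.IsZassenhausGroup G Ω) {a b : Ω} (hab : a ≠ b) [IsSimpleGroup G] (hodd : Odd (Nat.card ↥(MulAction.stabilizer G a ⊓ MulAction.stabilizer G b : Subgroup G))) (hlt : Nat.card ↥(MulAction.stabilizer G a ⊓ MulAction.stabilizer G b : Subgroup G) < Fintype.card Ω - 2) (H : Subgroup G) (hHa : H ≤ MulAction.stabilizer G a) (hHcard : Nat.card H + 1 = Fintype.card Ω) (hHfix : ∀ u ∈ H, u ≠ 1 → ∀ c : Ω, u • c = c → c = a) (μ : MulAction.stabilizer G a → ℂ) (hμ : Cfsg.IsCharacter (MulAction.stabilizer G a) μ ∧ μ 1 = 1) (hμH : ∀ u : MulAction.stabilizer G a, (u : G) ∈ H → μ u = 1) (hμne : μ ≠ fun _ => 1) : Cfsg.IsIrrCharacter G (Cfsg.indFun (MulAction.stabilizer G a) μ) ∧ ∀ u ∈ H, u ≠ 1 → Cfsg.indFun (MulAction.stabilizer G a) μ u = 1 := by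
  classical
  obtain ⟨hF, h2, h3, hfix, -⟩ := hZ
  haveI := hF
  obtain ⟨hEc, -, hswap⟩ := Cfsg.Agent.Lie.ZassenhausOdd.cyclic_inverted h2 h3 hfix hab hodd
    (Cfsg.Agent.Lie.ZassenhausOdd.no_complement h2 hab hodd)
  obtain ⟨w, hwa, hwb⟩ := MulAction.is_two_pretransitive_iff.1 h2 hab hab.symm
  obtain ⟨hww, hwinv⟩ := hswap w hwa hwb
  obtain ⟨l, hl⟩ := Cfsg.Agent.Char.exists_hom_of_degree_one hμ.1 hμ.2
  let A : Subgroup G := MulAction.stabilizer G a
  let E : Subgroup G := MulAction.stabilizer G a ⊓ MulAction.stabilizer G b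
  haveI : Fintype A := Fintype.ofFinite _
  haveI : Fintype E := Fintype.ofFinite _
  haveI : Fintype H := Fintype.ofFinite _
  haveI : MulAction.IsPretransitive G Ω := MulAction.isPretransitive_of_is_two_pretransitive
  -- values of μ
  let μE : E → ℂ := fun x => μ ⟨x, x.2.1⟩
  have hμmul : ∀ x y : A, μ (x * y) = μ x * μ y := fun x y => by simp [hl]
  have hμinv : ∀ x : A, μ x⁻¹ = starRingEnd ℂ (μ x) := fun x => Cfsg.Agent.Char.char_inv hμ.1 x
  have hμone : ∀ x : A, μ x * starRingEnd ℂ (μ x) = 1 := fun x => by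
    rw [← hμinv, ← hμmul, mul_inv_cancel, hμ.2]
  have hμconj : ∀ x y : A, μ (x * y * x⁻¹) = μ y := fun x y => by
    rw [hμmul, hμmul, mul_comm (μ x), mul_assoc, ← hμmul, mul_inv_cancel, hμ.2, mul_one]
  -- the stabiliser as kernel and conjugates of the two-point stabiliser
  have hHinj : Function.Injective fun k : H => (⟨(k : G) • b, fun h => hab
      (MulAction.injective (k : G) (h.trans (hHa k.2).symm)).symm⟩ : {c : Ω // c ≠ a}) := by
    intro k k' h
    have h' : (k : G) • b = (k' : G) • b := congrArg Subtype.val h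
    by_contra hne
    have h1 : (k'⁻¹ * k : H) ≠ 1 := fun e => hne (inv_mul_eq_one.1 e).symm
    refine hab (hHfix _ (k'⁻¹ * k).2 (fun e => h1 (Subtype.ext e)) b ?_).symm
    rw [Subgroup.coe_mul, mul_smul, h', Subgroup.coe_inv, inv_smul_smul]
  have hHsurj : ∀ c : Ω, c ≠ a → ∃ k : H, (k : G) • b = c := by
    intro c hc
    obtain ⟨k, hk⟩ := ((Fintype.bijective_iff_injective_and_card _).2 ⟨hHinj, by
      rw [Fintype.card_subtype_compl, Fintype.card_subtype_eq, ← Nat.card_eq_fintype_card (α := H)]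
      omega⟩).2 ⟨c, hc⟩
    exact ⟨k, congrArg Subtype.val hk⟩
  let Ψ : H ⊕ H × {x : E // x ≠ 1} → A := fun s => match s with
    | Sum.inl k => ⟨k, hHa k.2⟩
    | Sum.inr (k, x) => ⟨k * (x : E) * (k : G)⁻¹, A.mul_mem (A.mul_mem (hHa k.2) (x : E).2.1) (A.inv_mem (hHa k.2))⟩
  have hEfix : ∀ x : E, x ≠ 1 → ∀ c : Ω, (x : G) • c = c → c = a ∨ c = b := by
    intro x hx c hc
    by_contra h
    rw [not_or] at h
    exact hx (Subtype.ext (h3 _ a b c hab (Ne.symm h.2) (Ne.symm h.1) x.2.1 x.2.2 hc))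
  have hkb : ∀ k : H, (k : G) • b ≠ a := fun k h => hab (MulAction.injective (k : G) (h.trans (hHa k.2).symm)).symm
  have hΨinj : Function.Injective Ψ := by
    have hmix : ∀ (k k' : H) (x : {x : E // x ≠ 1}), (k : G) ≠ k' * (x : E) * (k' : G)⁻¹ := by
      intro k k' x h
      by_cases hk : (k : G) = 1
      · rw [hk, eq_comm, conj_eq_one_iff] at h
        exact x.2 (Subtype.ext h)
      · refine hkb k' (hHfix _ k.2 hk _ ?_)
        rw [h, mul_smul, mul_smul, inv_smul_smul, (x : E).2.2]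
    rintro (k | ⟨k, x⟩) (k' | ⟨k', x'⟩) h <;> have h' := congrArg Subtype.val h
    · exact congrArg Sum.inl (Subtype.ext h')
    · exact absurd h' (hmix k k' x')
    · exact absurd h'.symm (hmix k' k x)
    · have h'' : (k : G) * (x : E) * (k : G)⁻¹ = k' * (x' : E) * (k' : G)⁻¹ := h'
      have hkk : k = k' := by
        have h1 : ((x' : E) : G) • (k' : G)⁻¹ • (k : G) • b = (k' : G)⁻¹ • (k : G) • b := by
          have : ((k : G) * (x : E) * (k : G)⁻¹) • (k : G) • b = (k : G) • b := by
            rw [mul_smul, mul_smul, inv_smul_smul, (x : E).2.2]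
          rw [h'', mul_smul, mul_smul] at this
          conv_rhs => rw [← this, inv_smul_smul]
        rcases hEfix _ x'.2 _ h1 with h2' | h2'
        · rw [inv_smul_eq_iff, (hHa k'.2 : (k' : G) • a = a)] at h2'
          exact absurd h2' (hkb k)
        · rw [inv_smul_eq_iff] at h2'
          exact hHinj (Subtype.ext h2')
      subst hkk
      refine congrArg Sum.inr (Prod.ext rfl (Subtype.ext (Subtype.ext ?_)))
      exact mul_left_cancel (mul_right_cancel h'')
  have hEA : Nat.card A = Nat.card E * Nat.card H := by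
    have h1 : (E.subgroupOf A).index = Nat.card H := by
      rw [show E.subgroupOf A = MulAction.stabilizer A b from
        Subgroup.ext fun g => ⟨fun hg => hg.2, fun hg => ⟨g.2, hg⟩⟩, MulAction.index_stabilizer,
        show MulAction.orbit A b = ({a}ᶜ : Set Ω) from ?_, Set.ncard_compl, Set.ncard_singleton,
        Nat.card_eq_fintype_card (α := Ω)]
      · omega
      · ext ω
        constructor
        · rintro ⟨g, rfl⟩ h
          exact hab (MulAction.injective (g : G) (h.trans g.2.symm)).symm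
        · intro hω
          obtain ⟨k, hk⟩ := hHsurj ω hω
          exact ⟨⟨k, hHa k.2⟩, hk⟩
    rw [← Subgroup.card_mul_index (E.subgroupOf A), h1,
      Nat.card_congr (Subgroup.subgroupOfEquivOfLe (show E ≤ A from inf_le_left)).toEquiv]
  have hΨ : Function.Bijective Ψ := by
    refine (Fintype.bijective_iff_injective_and_card Ψ).2 ⟨hΨinj, ?_⟩
    rw [Fintype.card_sum, Fintype.card_prod, Fintype.card_subtype_compl, Fintype.card_subtype_eq,
      ← Nat.card_eq_fintype_card (α := A), hEA, Nat.card_eq_fintype_card, Nat.card_eq_fintype_card]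
    have h0 : 0 < Fintype.card E := Fintype.card_pos
    obtain ⟨j, hj⟩ : ∃ j, Fintype.card E = j + 1 := ⟨Fintype.card E - 1, by omega⟩
    rw [hj, Nat.add_sub_cancel]
    ring
  -- the induced function
  obtain ⟨F, hFdef⟩ : ∃ F, F = Cfsg.indFun A μ := ⟨_, rfl⟩
  have hext : ∀ g : G, g ∈ A → ∀ (hg : g ∈ A), Cfsg.extendByZero A μ g = μ ⟨g, hg⟩ :=
    fun g _ hg => Cfsg.Agent.Char.extendByZero_mem A μ hg
  have hone : ∀ u ∈ H, u ≠ 1 → F u = 1 := by
    intro u hu hu1
    have hterm : ∀ x : G, Cfsg.extendByZero A μ (x⁻¹ * u * x) = if x ∈ A then 1 else 0 := by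
      intro x
      split_ifs with hx
      · have hm : x⁻¹ * u * x ∈ A := A.mul_mem (A.mul_mem (A.inv_mem hx) (hHa hu)) hx
        rw [Cfsg.Agent.Char.extendByZero_mem A μ hm,
          show (⟨x⁻¹ * u * x, hm⟩ : A) = (⟨x, hx⟩ : A)⁻¹ * ⟨u, hHa hu⟩ * ((⟨x, hx⟩ : A)⁻¹)⁻¹ from
            Subtype.ext (by simp),
          hμconj, hμH _ hu]
      · refine Cfsg.Agent.Char.extendByZero_not_mem A μ fun hm => hx ?_
        refine hHfix u hu hu1 (x • a) ?_
        have hm' : (x⁻¹ * u * x) • a = a := hm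
        rwa [mul_smul, mul_smul, inv_smul_eq_iff] at hm'
    rw [hFdef, Cfsg.indFun]
    rw [Finset.sum_congr rfl fun x _ => hterm x, ← Finset.sum_filter, Finset.sum_const, nsmul_eq_mul, mul_one]
    rw [show ({x ∈ (Finset.univ : Finset G) | x ∈ A} : Finset G).card = Nat.card A by
      rw [Nat.card_eq_fintype_card, Fintype.card_subtype], inv_mul_cancel₀]
    exact_mod_cast Nat.card_pos.ne'
  have hwA : ∀ x : E, (w⁻¹ * (x : G) * w : G) = (x : G)⁻¹ := fun x => by
    have h1 := hwinv _ x.2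
    rw [inv_eq_of_mul_eq_one_right hww] at h1 ⊢
    exact h1
  have hFE : ∀ x : E, x ≠ 1 → F x = μE x + starRingEnd ℂ (μE x) := by
    intro x hx
    have hterm : ∀ y : G, Cfsg.extendByZero A μ (y⁻¹ * (x : G) * y) =
        (if y ∈ A then μE x else 0) + (if w⁻¹ * y ∈ A then starRingEnd ℂ (μE x) else 0) := by
      intro y
      by_cases hy : y ∈ A
      · have hm : y⁻¹ * (x : G) * y ∈ A := A.mul_mem (A.mul_mem (A.inv_mem hy) x.2.1) hy
        have hwy : w⁻¹ * y ∉ A := fun h => by
          have h' : (w⁻¹ * y) • a = a := h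
          rw [mul_smul, (hy : y • a = a), inv_smul_eq_iff, hwa] at h'
          exact hab h'
        rw [if_pos hy, if_neg hwy, add_zero, Cfsg.Agent.Char.extendByZero_mem A μ hm,
          show (⟨y⁻¹ * x * y, hm⟩ : A) = (⟨y, hy⟩ : A)⁻¹ * ⟨x, x.2.1⟩ * ((⟨y, hy⟩ : A)⁻¹)⁻¹ from
            Subtype.ext (by simp), hμconj]
      · rw [if_neg hy, zero_add]
        by_cases hwy : w⁻¹ * y ∈ A
        · rw [if_pos hwy]
          have e1 : y⁻¹ * (x : G) * y = (w⁻¹ * y)⁻¹ * (x : G)⁻¹ * (w⁻¹ * y) := by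
            rw [← hwA x]; group
          have hm : y⁻¹ * (x : G) * y ∈ A := e1 ▸ A.mul_mem (A.mul_mem (A.inv_mem hwy) (A.inv_mem x.2.1)) hwy
          rw [Cfsg.Agent.Char.extendByZero_mem A μ hm,
            show (⟨y⁻¹ * x * y, hm⟩ : A) = (⟨_, hwy⟩ : A)⁻¹ * (⟨x, x.2.1⟩ : A)⁻¹ * ((⟨_, hwy⟩ : A)⁻¹)⁻¹ from
              Subtype.ext (by simp only [Subgroup.coe_mul, Subgroup.coe_inv, inv_inv]; exact e1), hμconj, hμinv]
        · rw [if_neg hwy]
          refine Cfsg.Agent.Char.extendByZero_not_mem A μ fun hm => ?_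
          have hm' : (y⁻¹ * (x : G) * y) • a = a := hm
          rw [mul_smul, mul_smul, inv_smul_eq_iff] at hm'
          rcases hEfix x hx _ hm' with h | h
          · exact hy h
          · apply hwy
            show (w⁻¹ * y) • a = a
            rw [mul_smul, h, inv_smul_eq_iff, hwa]
    rw [hFdef, Cfsg.indFun]
    rw [Finset.sum_congr rfl fun y _ => hterm y, Finset.sum_add_distrib, ← Finset.sum_filter, ← Finset.sum_filter,
      Finset.sum_const, Finset.sum_const, nsmul_eq_mul, nsmul_eq_mul]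
    have e1 : ({y ∈ (Finset.univ : Finset G) | y ∈ A} : Finset G).card = Nat.card A := by
      rw [Nat.card_eq_fintype_card, Fintype.card_subtype]
    have e2 : ({y ∈ (Finset.univ : Finset G) | w⁻¹ * y ∈ A} : Finset G).card = Nat.card A := by
      rw [← e1]
      exact Finset.card_equiv (Equiv.mulLeft w⁻¹) (by simp)
    rw [e1, e2, ← mul_add, inv_mul_cancel_left₀]
    exact_mod_cast Nat.card_pos.ne'
  have hFclass := Cfsg.Agent.Char.isClassFunction_indFun A μ
  rw [← hFdef] at hFclass
  -- the norm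
  have hμsum : ∑ x : E, μE x * μE x = 0 := by
    have hEmul : ∀ x y : E, μE (x * y) = μE x * μE y := fun x y => hμmul ⟨x, x.2.1⟩ ⟨y, y.2.1⟩
    obtain ⟨x₀, hx₀⟩ : ∃ x₀ : E, μE x₀ ≠ 1 := by
      by_contra hall
      push Not at hall
      refine hμne (funext fun g => ?_)
      obtain ⟨s, rfl⟩ := hΨ.2 g
      rcases s with k | ⟨k, x⟩
      · exact hμH _ k.2
      · rw [show Ψ (Sum.inr (k, x)) = (⟨k, hHa k.2⟩ : A) * ⟨(x : E), (x : E).2.1⟩ * (⟨k, hHa k.2⟩ : A)⁻¹ from rfl,
          hμconj]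
        exact hall x
    have hx₀sq : μE x₀ * μE x₀ ≠ 1 := by
      intro h
      have hpow : ∀ j, μE (x₀ ^ j) = μE x₀ ^ j := by
        intro j
        induction j with
        | zero => rw [pow_zero, pow_zero]; exact hμ.2
        | succ j ih => rw [pow_succ, pow_succ, hEmul, ih]
      have h1 := hpow (Nat.card E)
      rw [pow_card_eq_one'] at h1
      obtain ⟨j, hj⟩ : Odd (Nat.card E) := hodd
      rw [hj, pow_succ, pow_mul, sq, h, one_pow, one_mul, show μE 1 = 1 from hμ.2] at h1
      exact hx₀ h1.symm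
    have h1 : (μE x₀ * μE x₀) * ∑ x : E, μE x * μE x = ∑ x : E, μE x * μE x := by
      rw [Finset.mul_sum]
      exact Fintype.sum_equiv (Equiv.mulLeft x₀) _ _ fun x => by
        rw [Equiv.coe_mulLeft, hEmul]; ring
    by_contra hne
    exact hx₀sq ((mul_eq_right₀ hne).1 h1)
  have hnorm : Cfsg.classInner F F = 1 := by
    rw [hFdef, Cfsg.Agent.Char.frobenius A μ (Cfsg.Agent.Char.isClassFunction_indFun A μ), Cfsg.classInner, ← hFdef]
    rw [← Fintype.sum_equiv (Equiv.ofBijective Ψ hΨ) (fun s => μ (Ψ s) * starRingEnd ℂ (F (Ψ s))) _ (fun s => rfl),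
      Fintype.sum_sum_type, Fintype.sum_prod_type]
    have hR : ∀ k : H, ∑ x : {x : E // x ≠ 1}, μ (Ψ (Sum.inr (k, x))) * starRingEnd ℂ (F (Ψ (Sum.inr (k, x)))) =
        (Nat.card E : ℂ) - 2 := by
      intro k
      have hv : ∀ x : {x : E // x ≠ 1}, μ (Ψ (Sum.inr (k, x))) * starRingEnd ℂ (F (Ψ (Sum.inr (k, x)))) =
          1 + μE x * μE x := by
        intro x
        rw [show Ψ (Sum.inr (k, x)) = (⟨k, hHa k.2⟩ : A) * ⟨(x : E), (x : E).2.1⟩ * (⟨k, hHa k.2⟩ : A)⁻¹ from rfl,
          hμconj]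
        show μE x * starRingEnd ℂ (F ((k : G) * (x : E) * (k : G)⁻¹)) = _
        rw [hFclass, hFE _ x.2, map_add, Complex.conj_conj, mul_add]
        rw [show μE (x : E) * starRingEnd ℂ (μE x) = 1 from hμone _]
      rw [Fintype.sum_congr _ _ hv, ← Finset.sum_subtype (s := Finset.univ.erase (1 : E)) (by simp) (fun x => 1 + μE x * μE x),
        Finset.sum_erase_eq_sub (Finset.mem_univ _), Finset.sum_add_distrib, hμsum,
        show μE 1 = 1 from hμ.2, Finset.sum_const, Finset.card_univ, ← Nat.card_eq_fintype_card, nsmul_eq_mul]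
      ring
    have hL : ∑ k : H, μ (Ψ (Sum.inl k)) * starRingEnd ℂ (F (Ψ (Sum.inl k))) = 2 * (Nat.card H : ℂ) := by
      have hv : ∀ k : H, μ (Ψ (Sum.inl k)) * starRingEnd ℂ (F (Ψ (Sum.inl k))) =
          if k = 1 then (Nat.card H : ℂ) + 1 else 1 := by
        intro k
        rw [show μ (Ψ (Sum.inl k)) = 1 from hμH _ k.2, one_mul]
        split_ifs with hk
        · subst hk
          show starRingEnd ℂ (F ((1 : H) : G)) = _
          rw [OneMemClass.coe_one, hFdef, Cfsg.Agent.Char.indFun_one, hμ.2, mul_one, map_natCast,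
            MulAction.index_stabilizer_of_transitive, Nat.card_eq_fintype_card (α := Ω), ← hHcard, Nat.cast_add,
            Nat.cast_one]
        · show starRingEnd ℂ (F (k : G)) = 1
          rw [hone k k.2 (fun h => hk (Subtype.ext h)), map_one]
      rw [Fintype.sum_congr _ _ hv, ← Finset.add_sum_erase _ _ (Finset.mem_univ (1 : H)), if_pos rfl,
        Finset.sum_congr rfl (fun k hk => if_neg (Finset.mem_erase.1 hk).1), Finset.sum_const,
        Finset.card_erase_of_mem (Finset.mem_univ _), Finset.card_univ, ← Nat.card_eq_fintype_card (α := H),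
        nsmul_eq_mul, Nat.cast_sub Nat.card_pos]
      push_cast
      ring
    rw [hL, Fintype.sum_congr _ _ hR, Finset.sum_const, Finset.card_univ, ← Nat.card_eq_fintype_card (α := H),
      nsmul_eq_mul, hEA, Nat.cast_mul]
    have hE0 : (Nat.card E : ℂ) ≠ 0 := by exact_mod_cast Nat.card_pos.ne'
    have hH0 : (Nat.card H : ℂ) ≠ 0 := by exact_mod_cast Nat.card_pos.ne'
    field_simp
    ring
  have hchar : Cfsg.IsCharacter G F := hFdef ▸ Cfsg.Agent.Char.isCharacter_indFun A hμ.1
  refine ⟨?_, fun u hu hu1 => hFdef ▸ hone u hu hu1⟩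
  obtain ⟨ε, χ, hε, hFχ⟩ := Cfsg.Agent.Char.exists_sign_of_norm_one
    ⟨F, 0, hchar, Cfsg.Agent.Char.isCharacter_zero, (sub_zero F).symm⟩ hnorm
  rcases hε with rfl | rfl
  · rw [Int.cast_one, one_smul] at hFχ
    rw [← hFdef, hFχ]
    exact χ.2
  · exfalso
    have h1 : F 1 = -((χ : G → ℂ) 1) := by rw [hFχ]; simp
    rw [hFdef, Cfsg.Agent.Char.indFun_one, hμ.2, mul_one,
      Cfsg.Agent.Char.char_one_eq_deg (Cfsg.Agent.Char.irr_isCharacter χ.2)] at h1
    have h2' : ((A.index + Cfsg.Agent.Char.deg (χ : G → ℂ) : ℕ) : ℂ) = 0 := by push_cast; linear_combination h1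
    have h3' := Cfsg.Agent.Char.deg_pos χ.2
    have h4 : A.index + Cfsg.Agent.Char.deg (χ : G → ℂ) = 0 := by exact_mod_cast h2'
    omega

end Cfsg.Agent.S0881
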