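import Cfsg.Statements.S1078
import Cfsg.Agent.Lib.Lie.Steinberg
-- import your own Cfsg.Agent.* helpers here

set_option autoImplicit false
open Cfsg

namespace Cfsg.Agent.S1078

/-- For G₂, F₄, E₈ the presented group has trivial centre (the universal and adjoint groups coincide). -/
theorem result {K : Type*} [Field K] (D : Cfsg.Lie.ChevalleyDatum) (hD : D ∈ [Cfsg.Lie.chevG2, Cfsg.Lie.chevF4, Cfsg.Lie.chevE8]) :
    Subgroup.center (D.SteinbergGroup K) = ⊥ := by
  have key : ∀ {D : Cfsg.Lie.ChevalleyDatum} (hF : Lie.Facts D), Lie.StHyp D →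
      ∀ d : Fin 0 → ℕ, Lie.KerCert (Lie.cartanSys D) d → Subgroup.center (D.SteinbergGroup K) = ⊥ := by
    intro D hF hH d C
    have hinj : Function.Injective (Lie.torus D K) := by
      refine (injective_iff_map_eq_one _).2 fun c hc => ?_
      rw [Lie.coe_torus_eq_one, hF.torChar_eq_one_iff] at hc
      have hone : ∀ s, ∑ m, Lie.cartanSys D s m • (0 : Additive Kˣ) = 0 := fun s => by simp
      have hc' : ∀ s, ∑ m, Lie.cartanSys D s m • Additive.ofMul (c m) = 0 := by
        intro s
        apply Additive.toMul.injective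
        rw [toMul_sum, toMul_zero]
        simpa [Lie.torChar, Lie.cartanSys] using hc s
      have h := congrArg Subtype.val ((C.equiv (M := Additive Kˣ)).injective
        (a₁ := ⟨fun m => Additive.ofMul (c m), hc'⟩) (a₂ := ⟨fun _ => 0, hone⟩) (funext fun a => a.elim0))
      funext m
      exact Additive.ofMul.injective (congrFun h m)
    rw [Subgroup.eq_bot_iff_forall]
    intro z hz
    rw [← hF.ker_eq_center hH hH.2.2] at hz
    exact hF.H0_torus hH (hF.H_le_H0 hH (hF.ker_le_H hH hz)) hinj hz
  simp only [List.mem_cons, List.not_mem_nil, or_false] at hD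
  rcases hD with rfl | rfl | rfl
  · exact key Lie.factsG2 (Lie.stHyp_of_mem (by simp)) _ Lie.kerCertG2
  · exact key Lie.factsF4 (Lie.stHyp_of_mem (by simp)) _ Lie.kerCertF4
  · exact key Lie.factsE8 (Lie.stHyp_of_mem (by simp)) _ Lie.kerCertE8

end Cfsg.Agent.S1078
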