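import Cfsg.Statements.S0674
import Mathlib
import Cfsg.Agent.Lib.Perm.PrimeDegree

set_option autoImplicit false
set_option linter.style.haveILetI false
open Cfsg

namespace Cfsg.Agent.S0674

open Polynomial

variable {p : ℕ} [Fact p.Prime] (K : Type*) [Field K] [CharP K p]

/-- The embedding of `ZMod p` in `K`. -/
def ι : ZMod p →+* K := ZMod.castHom dvd_rfl K

theorem ι_inj : Function.Injective (ι K : ZMod p →+* K) := RingHom.injective _

/-- Evaluation of polynomials as functions on `ZMod p`. -/
noncomputable def ev : K[X] →ₗ[K] (ZMod p → K) := LinearMap.pi fun x => Polynomial.leval (ι K x)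

theorem ev_apply (q : K[X]) (x : ZMod p) : ev K q x = q.eval (ι K x) := rfl

/-- Functions given by polynomials of degree less than `k`. -/
noncomputable def Pk (k : ℕ) : Submodule K (ZMod p → K) := (Polynomial.degreeLT K k).map (ev K)

theorem mem_Pk {k : ℕ} {f : ZMod p → K} : f ∈ Pk K k ↔ ∃ q : K[X], q.degree < k ∧ ev K q = f := by
  simp [Pk, Submodule.mem_map, Polynomial.mem_degreeLT]

theorem natDegree_le_of_lt {n : ℕ} {q : K[X]} (h : q.degree < ((n + 1 : ℕ) : WithBot ℕ)) : q.natDegree ≤ n :=
  Polynomial.natDegree_le_iff_coeff_eq_zero.2 fun m hm => (Polynomial.degree_lt_iff_coeff_zero _ _).1 h m hm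

theorem ev_inj {q r : K[X]} (hq : q.degree < p) (hr : r.degree < p) (h : (ev K q : ZMod p → K) = ev K r) : q = r := by
  classical
  refine Polynomial.eq_of_degrees_lt_of_eval_finset_eq (Finset.univ.image (ι K : ZMod p → K)) ?_ ?_ ?_
  · rw [Finset.card_image_of_injective _ (ι_inj K), Finset.card_univ, ZMod.card]; exact hq
  · rw [Finset.card_image_of_injective _ (ι_inj K), Finset.card_univ, ZMod.card]; exact hr
  · intro y hy
    obtain ⟨x, -, rfl⟩ := Finset.mem_image.1 hy
    exact congrFun h x

theorem mem_Pk_top (f : ZMod p → K) : f ∈ Pk K p := by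
  classical
  refine (mem_Pk K).2 ⟨Lagrange.interpolate Finset.univ (ι K : ZMod p → K) f, ?_, ?_⟩
  · have := Lagrange.degree_interpolate_lt (s := Finset.univ) (v := (ι K : ZMod p → K)) f
      (fun x _ y _ h => ι_inj K h)
    rwa [Finset.card_univ, ZMod.card] at this
  · funext x
    exact Lagrange.eval_interpolate_at_node f (fun x _ y _ h => ι_inj K h) (Finset.mem_univ x)

theorem lower_step {U : Submodule K (ZMod p → K)} (hU : ∀ f ∈ U, (fun x => f (x + 1)) ∈ U) :
    ∀ n : ℕ, n < p → ∀ q : K[X], q.natDegree = n → q ≠ 0 → ev K q ∈ U → Pk K (n + 1) ≤ U := by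
  intro n
  induction n with
  | zero =>
    intro _ q hq hq0 hqU f hf
    obtain ⟨r, hr, rfl⟩ := (mem_Pk K).1 hf
    have hq' : q = C (q.coeff 0) := Polynomial.eq_C_of_natDegree_eq_zero hq
    have hr' : r = C (r.coeff 0) := Polynomial.eq_C_of_natDegree_le_zero (natDegree_le_of_lt K hr)
    have hc : q.coeff 0 ≠ 0 := fun h => hq0 (by rw [hq', h, map_zero])
    have e : ev (p := p) K r = (r.coeff 0 * (q.coeff 0)⁻¹) • ev (p := p) K q := by
      rw [← map_smul]
      congr 1
      rw [Polynomial.smul_eq_C_mul]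
      conv_rhs => arg 2; rw [hq']
      rw [← C_mul, mul_assoc, inv_mul_cancel₀ hc, mul_one]
      exact hr'
    rw [e]; exact U.smul_mem _ hqU
  | succ n ih =>
    intro hn q hq hq0 hqU
    set q' := taylor 1 q - q with hq'
    have hev : ev (p := p) K q' = (fun x => ev (p := p) K q (x + 1)) - ev (p := p) K q := by
      funext x
      simp only [hq', Pi.sub_apply, ev_apply, eval_sub, taylor_eval, map_add, map_one]
    have hq'U : ev K q' ∈ U := hev ▸ U.sub_mem (hU _ hqU) hqU
    have hlc : q.coeff (n + 1) ≠ 0 := by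
      rw [← hq]; exact Polynomial.leadingCoeff_ne_zero.2 hq0
    have htop : (taylor 1 q).coeff (n + 1) = q.coeff (n + 1) := by
      have h := Polynomial.taylor_coeff (r := (1 : K)) (f := q) (n + 1)
      rw [h]
      have hd : (hasseDeriv (n + 1) q).natDegree ≤ 0 := (Polynomial.natDegree_hasseDeriv_le q (n + 1)).trans (by omega)
      rw [Polynomial.eq_C_of_natDegree_le_zero hd, eval_C, hasseDeriv_coeff]
      simp
    have hcn : q'.coeff n = (n + 1 : ℕ) * q.coeff (n + 1) := by
      rw [hq', coeff_sub, Polynomial.taylor_coeff]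
      have hd : (hasseDeriv n q).natDegree < 2 := lt_of_le_of_lt (Polynomial.natDegree_hasseDeriv_le q n) (by omega)
      rw [Polynomial.eval_eq_sum_range' hd, Finset.sum_range_succ, Finset.sum_range_one, hasseDeriv_coeff, hasseDeriv_coeff]
      simp [Nat.choose_succ_self_right, add_comm 1 n]
    have hne : ((n + 1 : ℕ) : K) ≠ 0 := by
      rw [Ne, CharP.cast_eq_zero_iff K p]
      exact fun h => absurd (Nat.le_of_dvd (by omega) h) (by omega)
    have hcn0 : q'.coeff n ≠ 0 := by rw [hcn]; exact mul_ne_zero hne hlc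
    have hdeg : q'.natDegree = n := by
      refine le_antisymm (Polynomial.natDegree_le_iff_coeff_eq_zero.2 fun m hm => ?_) (Polynomial.le_natDegree_of_ne_zero hcn0)
      rcases (show m = n + 1 ∨ n + 1 < m by omega) with rfl | hm'
      · rw [hq', coeff_sub, htop, sub_self]
      · exact Polynomial.coeff_eq_zero_of_natDegree_lt (lt_of_le_of_lt
          ((Polynomial.natDegree_sub_le _ _).trans (by rw [natDegree_taylor, max_self, hq])) hm')
    have hlow := ih (by omega) q' hdeg (fun h => hcn0 (by rw [h, coeff_zero])) hq'U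
    intro f hf
    obtain ⟨r, hr, rfl⟩ := (mem_Pk K).1 hf
    set c := r.coeff (n + 1) * (q.coeff (n + 1))⁻¹ with hc
    have hr' : (r - c • q).degree < ((n + 1 : ℕ) : WithBot ℕ) := by
      rw [Polynomial.degree_lt_iff_coeff_zero]
      intro m hm
      rcases (show m = n + 1 ∨ n + 1 < m by omega) with rfl | hm'
      · rw [coeff_sub, coeff_smul, smul_eq_mul, hc, mul_assoc, inv_mul_cancel₀ hlc, mul_one, sub_self]
      · rw [coeff_sub, coeff_smul, Polynomial.coeff_eq_zero_of_degree_lt (lt_of_lt_of_le hr (by exact_mod_cast hm')),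
          Polynomial.coeff_eq_zero_of_natDegree_lt (by omega : q.natDegree < m), smul_zero, sub_zero]
    have := U.add_mem (hlow ((mem_Pk K).2 ⟨_, hr', rfl⟩)) (U.smul_mem c hqU)
    rwa [map_sub, map_smul, sub_add_cancel] at this

theorem invariant_eq_Pk {U : Submodule K (ZMod p → K)} (hU : ∀ f ∈ U, (fun x => f (x + 1)) ∈ U) :
    ∃ k ≤ p, U = Pk K k := by
  classical
  have hex : ∃ k, U ≤ Pk K k := ⟨p, fun f _ => mem_Pk_top K f⟩
  refine ⟨Nat.find hex, Nat.find_min' hex fun f _ => mem_Pk_top K f, le_antisymm (Nat.find_spec hex) ?_⟩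
  rcases Nat.eq_zero_or_pos (Nat.find hex) with h | h
  · rw [h]
    intro f hf
    obtain ⟨q, hq, rfl⟩ := (mem_Pk K).1 hf
    have : q = 0 := Polynomial.degree_eq_bot.1 (Nat.WithBot.lt_zero_iff.1 (by exact_mod_cast hq))
    rw [this, map_zero]; exact U.zero_mem
  · have hk := Nat.find_min' hex (m := p) fun f _ => mem_Pk_top K f
    obtain ⟨k, hk'⟩ : ∃ k, Nat.find hex = k + 1 := ⟨Nat.find hex - 1, by omega⟩
    have hnot := Nat.find_min hex (m := k) (by omega)
    obtain ⟨f, hfU, hf⟩ := SetLike.not_le_iff_exists.1 hnot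
    obtain ⟨q, hq, rfl⟩ := (mem_Pk K).1 (Nat.find_spec hex hfU)
    rw [hk'] at hq
    have hqd : ¬ q.degree < k := fun h' => hf ((mem_Pk K).2 ⟨q, h', rfl⟩)
    have hq0 : q ≠ 0 := fun h' => hqd (by rw [h', degree_zero]; exact WithBot.bot_lt_coe k)
    rw [Polynomial.degree_eq_natDegree hq0] at hq hqd
    have hdeg : q.natDegree = k := by
      have h1 : q.natDegree < k + 1 := by exact_mod_cast hq
      have h2 : ¬ q.natDegree < k := fun h' => hqd (by exact_mod_cast h')
      omega
    rw [hk']
    exact lower_step K hU k (by omega) q hdeg hq0 hfU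

theorem sum_eval {q : K[X]} (hq : q.natDegree < p) :
    ∑ x : ZMod p, q.eval (ι K x) = - q.coeff (p - 1) := by
  have hp := (Fact.out : p.Prime)
  simp only [Polynomial.eval_eq_sum_range' hq]
  rw [Finset.sum_comm]
  have h : ∀ j ∈ Finset.range p, ∑ x : ZMod p, q.coeff j * ι K x ^ j = if j = p - 1 then - q.coeff j else 0 := by
    intro j hj
    rw [← Finset.mul_sum]
    simp only [← map_pow, ← map_sum]
    split
    · next h' =>
      have e : ∑ x : ZMod p, x ^ j = -1 := by
        subst h'
        rw [← Finset.sum_erase_add _ _ (Finset.mem_univ (0 : ZMod p)), zero_pow (by have := hp.two_le; omega), add_zero,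
          Finset.sum_congr rfl fun x hx => ZMod.pow_card_sub_one_eq_one (Finset.mem_erase.1 hx).1, Finset.sum_const,
          Finset.card_erase_of_mem (Finset.mem_univ _), Finset.card_univ, ZMod.card, nsmul_one,
          Nat.cast_sub hp.one_le, ZMod.natCast_self, Nat.cast_one, zero_sub]
      rw [e, map_neg, map_one, mul_neg, mul_one]
    · next h' =>
      rw [FiniteField.sum_pow_lt_card_sub_one (ZMod p) j (by
        rw [ZMod.card]; have := Finset.mem_range.1 hj; omega), map_zero, mul_zero]
  rw [Finset.sum_congr rfl h, Finset.sum_ite_eq']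
  simp [hp.pos]

/-- Let `G` be a non-solvable transitive permutation group of prime degree `p` and `K` a field of characteristic `p`. Then the heart of the permutation module is irreducible: an invariant subspace containing the constants and contained in the sum-zero functions is one or the other. -/
theorem result {α : Type*} [Fintype α] [DecidableEq α] {p : ℕ} [Fact p.Prime] (hα : Fintype.card α = p) (G : Subgroup (Equiv.Perm α)) [MulAction.IsPretransitive G α] (hG : ¬ Group.IsSolvable G) {K : Type*} [Field K] [CharP K p] (W : Subrepresentation (Cfsg.permRep K G α)) (h₁ : (Cfsg.permConstants K G α).toSubmodule ≤ W.toSubmodule) (h₂ : W.toSubmodule ≤ (Cfsg.permSumZero K G α).toSubmodule) : W = Cfsg.permConstants K G α ∨ W = Cfsg.permSumZero K G α := by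
  classical
  have hp := (Fact.out : p.Prime)
  obtain ⟨σ, hσG, hσ, htr, -⟩ := Perm.exists_cycle_prime_degree hα G
  haveI : Nonempty α := Fintype.card_pos_iff.1 (hα ▸ hp.pos)
  obtain ⟨a₀⟩ := ‹Nonempty α›
  let pw : ZMod p → Equiv.Perm α := fun i => σ ^ i.val
  have hpwadd : ∀ i j, pw (i + j) = pw i * pw j := fun i j => by
    show σ ^ _ = σ ^ _ * σ ^ _
    rw [← pow_add, pow_eq_pow_iff_modEq, hσ, ZMod.val_add]
    exact Nat.mod_modEq _ _
  have hbij : Function.Bijective fun i : ZMod p => pw i a₀ := by
    rw [Fintype.bijective_iff_surjective_and_card]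
    refine ⟨fun b => ?_, by rw [ZMod.card, hα]⟩
    obtain ⟨i, hi⟩ := htr a₀ b
    refine ⟨(i : ZMod p), ?_⟩
    show (σ ^ _) a₀ = b
    rw [← hi, ZMod.val_natCast, show σ ^ (i % p) = σ ^ i from hσ ▸ pow_mod_orderOf σ i]
  let e : ZMod p ≃ α := Equiv.ofBijective _ hbij
  have he : ∀ i j, pw i (e j) = e (i + j) := fun i j => by
    show pw i (pw j a₀) = pw (i + j) a₀
    rw [hpwadd, Equiv.Perm.mul_apply]
  let L : (ZMod p → K) →ₗ[K] (α → K) := LinearMap.funLeft K K e.symm
  let U : Submodule K (ZMod p → K) := W.toSubmodule.comap L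
  let φ : G → ZMod p → ZMod p := fun g i => e.symm ((g : Equiv.Perm α) (e i))
  have hUG : ∀ g : G, ∀ f ∈ U, (fun x => f (φ g x)) ∈ U := by
    intro g f hf
    have h := W.apply_mem_toSubmodule g⁻¹ hf
    show L (fun x => f (φ g x)) ∈ W.toSubmodule
    convert h using 1
    funext a
    show f (φ g (e.symm a)) = f (e.symm ((g⁻¹⁻¹ : G) • a))
    rw [inv_inv]
    show f (e.symm ((g : Equiv.Perm α) (e (e.symm a)))) = _
    rw [e.apply_symm_apply]
    rfl
  let s : G := ⟨pw 1, pow_mem hσG _⟩
  have hφs : ∀ x, φ s x = x + 1 := fun x => by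
    show e.symm (pw 1 (e x)) = x + 1
    rw [he, e.symm_apply_apply, add_comm]
  have hshift : ∀ f ∈ U, (fun x => f (x + 1)) ∈ U := fun f hf => by simpa only [hφs] using hUG s f hf
  obtain ⟨k, hkp, hUk⟩ := invariant_eq_Pk K hshift
  have hWU : ∀ v : α → K, v ∈ W.toSubmodule ↔ (fun x => v (e x)) ∈ U := fun v => by
    show _ ↔ L (fun x => v (e x)) ∈ W.toSubmodule
    rw [show L (fun x => v (e x)) = v from funext fun a => congrArg v (e.apply_symm_apply a)]
  have hone : (fun _ => 1 : ZMod p → K) ∈ U := h₁ (Submodule.subset_span rfl)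
  have hk1 : 1 ≤ k := by
    by_contra hk
    rw [hUk, show k = 0 by omega] at hone
    obtain ⟨q, hq, hq'⟩ := (mem_Pk K).1 hone
    have : q = 0 := Polynomial.degree_eq_bot.1 (Nat.WithBot.lt_zero_iff.1 (by exact_mod_cast hq))
    rw [this, map_zero] at hq'
    exact one_ne_zero (congrFun hq' 0).symm
  have hsum0 : ∀ v : α → K, v ∈ (Cfsg.permSumZero K G α).toSubmodule ↔ ∑ x : ZMod p, v (e x) = 0 := fun v => by
    show (∑ a, v a) = 0 ↔ _
    rw [← e.sum_comp v]
  have hklt : k < p := by
    by_contra hk
    have hmem : ev (p := p) K ((X : K[X]) ^ (p - 1)) ∈ U := by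
      rw [hUk]; exact (mem_Pk K).2 ⟨_, by rw [degree_X_pow]; exact_mod_cast (by omega : p - 1 < k), rfl⟩
    have h := (hsum0 _).1 (h₂ hmem)
    simp only [L, LinearMap.funLeft_apply, e.symm_apply_apply, ev_apply] at h
    rw [sum_eval K (by rw [natDegree_X_pow]; omega), coeff_X_pow_self] at h
    exact one_ne_zero (neg_eq_zero.1 h)
  rcases (show k = 1 ∨ 1 < k by omega) with hk | hk
  · left
    refine Subrepresentation.toSubmodule_injective (le_antisymm (fun v hv => ?_) h₁)
    rw [hWU, hUk, hk] at hv
    obtain ⟨q, hq, hq'⟩ := (mem_Pk K).1 hv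
    have hqC : q = C (q.coeff 0) := Polynomial.eq_C_of_natDegree_le_zero (natDegree_le_of_lt K hq)
    refine Submodule.mem_span_singleton.2 ⟨q.coeff 0, funext fun a => ?_⟩
    have := congrFun hq' (e.symm a)
    rw [ev_apply, hqC, eval_C, e.apply_symm_apply] at this
    rw [Pi.smul_apply, smul_eq_mul, mul_one, this]
  rcases (show k = p - 1 ∨ k < p - 1 by omega) with hk' | hk'
  · right
    refine Subrepresentation.toSubmodule_injective (le_antisymm h₂ fun v hv => ?_)
    rw [hsum0] at hv
    rw [hWU, hUk]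
    obtain ⟨q, hq, hq'⟩ := (mem_Pk K).1 (mem_Pk_top K fun x => v (e x))
    refine (mem_Pk K).2 ⟨q, ?_, hq'⟩
    have hqn : q.natDegree < p := by
      rcases eq_or_ne q 0 with rfl | h0
      · simpa using hp.pos
      · rw [Polynomial.degree_eq_natDegree h0] at hq; exact_mod_cast hq
    have hv' : ∑ x : ZMod p, q.eval (ι K x) = 0 :=
      (Finset.sum_congr rfl fun x _ => congrFun hq' x).trans hv
    rw [sum_eval K hqn, neg_eq_zero] at hv'
    rw [hk', Polynomial.degree_lt_iff_coeff_zero]
    intro m hm
    rcases (show m = p - 1 ∨ p ≤ m by omega) with rfl | hm'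
    · exact hv'
    · exact Polynomial.coeff_eq_zero_of_natDegree_lt (by omega)
  exfalso
  -- an invariant space of small degree
  obtain ⟨d, hd1, hd2, hinv⟩ : ∃ d, 1 ≤ d ∧ 2 * d + 1 ≤ p ∧
      ∀ g : G, ∀ f ∈ Pk (p := p) K (d + 1), (fun x => f (φ g x)) ∈ Pk K (d + 1) := by
    by_cases hsmall : 2 * (k - 1) + 1 ≤ p
    · exact ⟨k - 1, by omega, hsmall, by rw [show k - 1 + 1 = k by omega, ← hUk]; exact hUG⟩
    · refine ⟨p - k - 1, by omega, by omega, ?_⟩
      rw [show p - k - 1 + 1 = p - k by omega]
      let U' : Submodule K (ZMod p → K) :=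
        { carrier := {h | ∀ f ∈ U, ∑ x, f x * h x = 0}
          add_mem' := fun ha hb f hf => by
            simp only [Pi.add_apply, mul_add, Finset.sum_add_distrib]; rw [ha f hf, hb f hf, add_zero]
          zero_mem' := fun f _ => by simp
          smul_mem' := fun c h hh f hf => by
            simp only [Pi.smul_apply, smul_eq_mul, mul_left_comm _ c, ← Finset.mul_sum]; rw [hh f hf, mul_zero] }
      have hU'G : ∀ g : G, ∀ h ∈ U', (fun x => h (φ g x)) ∈ U' := by
        intro g h hh f hf
        have h2 := hh _ (hUG g⁻¹ f hf)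
        have hinv' : ∀ x, φ g⁻¹ (φ g x) = x := fun x => by
          show e.symm ((g⁻¹ : G).1 (e (e.symm (g.1 (e x))))) = x
          rw [e.apply_symm_apply]
          simp
        rw [← h2]
        refine Fintype.sum_bijective (φ g) ?_ _ _ fun x => by simp only [hinv']
        exact (e.trans ((g : Equiv.Perm α).trans e.symm)).bijective
      have hU'shift : ∀ h ∈ U', (fun x => h (x + 1)) ∈ U' := fun h hh => by simpa only [hφs] using hU'G s h hh
      obtain ⟨m, -, hm⟩ := invariant_eq_Pk K hU'shift
      have h0 : ∀ j < p - k, ev (p := p) K ((X : K[X]) ^ j) ∈ U' := by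
        intro j hj f hf
        rw [hUk] at hf
        obtain ⟨q, hq, rfl⟩ := (mem_Pk K).1 hf
        simp only [ev_apply, ← eval_mul]
        have hqn : q.natDegree < k := by
          rcases eq_or_ne q 0 with rfl | h0
          · simp; omega
          · rw [Polynomial.degree_eq_natDegree h0] at hq; exact_mod_cast hq
        have hdeg : (q * X ^ j).natDegree < p - 1 := by
          refine lt_of_le_of_lt natDegree_mul_le ?_
          rw [natDegree_X_pow]; omega
        rw [sum_eval K (by omega), Polynomial.coeff_eq_zero_of_natDegree_lt hdeg, neg_zero]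
      have hmk : m = p - k := by
        refine le_antisymm ?_ ?_
        · by_contra hlt
          have hx : ev (p := p) K ((X : K[X]) ^ (p - k)) ∈ U' := by
            rw [hm]; exact (mem_Pk K).2 ⟨_, by rw [degree_X_pow]; exact_mod_cast (by omega : p - k < m), rfl⟩
          have := hx (ev K ((X : K[X]) ^ (k - 1))) (by
            rw [hUk]; exact (mem_Pk K).2 ⟨_, by rw [degree_X_pow]; exact_mod_cast (by omega : k - 1 < k), rfl⟩)
          simp only [ev_apply, ← eval_mul, ← pow_add] at this
          rw [show k - 1 + (p - k) = p - 1 by omega, sum_eval K (by rw [natDegree_X_pow]; omega), coeff_X_pow_self] at this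
          exact one_ne_zero (neg_eq_zero.1 this)
        · by_contra hlt
          have hx := h0 m (by omega)
          rw [hm] at hx
          obtain ⟨q, hq, hq'⟩ := (mem_Pk K).1 hx
          have := ev_inj K (lt_of_lt_of_le hq (by exact_mod_cast (by omega : m ≤ p))) (by rw [degree_X_pow]; exact_mod_cast (by omega : m < p)) hq'
          rw [this, degree_X_pow] at hq
          exact lt_irrefl _ hq
      rw [← hmk, ← hm]
      exact hU'G
  -- hence the group is affine
  have haff : ∀ g : G, ∀ x, φ g x = (φ g 1 - φ g 0) * x + φ g 0 := by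
    intro g
    have hX : ev (p := p) K X ∈ Pk K (d + 1) :=
      (mem_Pk K).2 ⟨X, by rw [degree_X]; exact_mod_cast (by omega : 1 < d + 1), rfl⟩
    obtain ⟨q, hq, hq'⟩ := (mem_Pk K).1 (hinv g _ hX)
    have hqe : ∀ x, q.eval (ι K x) = ι K (φ g x) := fun x => by
      exact (congrFun hq' x).trans eval_X
    have hqn : q.natDegree ≤ d := natDegree_le_of_lt K hq
    have hm1 : q.natDegree ≤ 1 := by
      by_contra hm1
      set m := q.natDegree
      set j := d / m + 1 with hj
      have hjd : j ≤ d := by
        have : d / m ≤ d / 2 := Nat.div_le_div_left (by omega) (by omega)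
        omega
      have hmj1 : d < j * m := by
        have h1 := Nat.div_add_mod d m
        have h2 := Nat.mod_lt d (show m > 0 by omega)
        rw [hj, add_mul, one_mul, mul_comm]; omega
      have hmj2 : j * m < p := by
        have h1 := Nat.div_mul_le_self d m
        rw [hj, add_mul, one_mul]; omega
      have hXj : ev (p := p) K ((X : K[X]) ^ j) ∈ Pk K (d + 1) :=
        (mem_Pk K).2 ⟨_, by rw [degree_X_pow]; exact_mod_cast (by omega : j < d + 1), rfl⟩
      obtain ⟨r, hr, hr'⟩ := (mem_Pk K).1 (hinv g _ hXj)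
      have hr2 : r = q ^ j := by
        refine ev_inj K (lt_of_lt_of_le hr (by exact_mod_cast (by omega : d + 1 ≤ p))) ?_ ?_
        · refine lt_of_le_of_lt Polynomial.degree_le_natDegree ?_
          rw [natDegree_pow]; exact_mod_cast hmj2
        · rw [hr']
          funext x
          show eval (ι K (φ g x)) (X ^ j) = eval (ι K x) (q ^ j)
          rw [eval_pow, eval_X, eval_pow, hqe]
      have hq0 : q ≠ 0 := fun h => hm1 (by simp [m, h])
      rw [hr2, Polynomial.degree_eq_natDegree (pow_ne_zero _ hq0), natDegree_pow] at hr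
      have : j * m < d + 1 := by exact_mod_cast hr
      omega
    intro x
    obtain ⟨b, a, rfl⟩ := Polynomial.exists_eq_X_add_C_of_natDegree_le_one hm1
    apply ι_inj K
    have h0 := hqe 0
    have h1 := hqe 1
    have hx := hqe x
    simp only [eval_add, eval_mul, eval_C, eval_X, map_zero, map_one, mul_zero, zero_add, mul_one] at h0 h1 hx
    rw [map_add, map_mul, map_sub, ← hx, ← h1, ← h0]
    ring
  apply hG
  have hmulφ : ∀ g h : G, ∀ x, φ (g * h) x = φ g (φ h x) := fun g h x => by simp [φ]
  let lin : G →* ZMod p :=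
    { toFun := fun g => φ g 1 - φ g 0
      map_one' := by simp [φ]
      map_mul' := fun g h => by
        rw [hmulφ, hmulφ, haff g (φ h 1), haff g (φ h 0)]
        ring }
  haveI : IsMulCommutative lin.toHomUnits.ker := by
    refine ⟨⟨fun g h => Subtype.ext (Subtype.ext (Equiv.ext fun x => ?_))⟩⟩
    have hk : ∀ g : lin.toHomUnits.ker, ∀ y, φ (g : G) y = y + φ (g : G) 0 := fun g y => by
      have h1 : φ (g : G) 1 - φ (g : G) 0 = 1 := by
        have := congrArg (fun u : (ZMod p)ˣ => (u : ZMod p)) (MonoidHom.mem_ker.1 g.2)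
        simp only [MonoidHom.coe_toHomUnits, Units.val_one] at this
        exact this
      rw [haff (g : G), h1, one_mul]
    refine e.symm.injective ?_
    have := congrArg id (show φ ((g : G) * (h : G)) (e.symm x) = φ ((h : G) * (g : G)) (e.symm x) by
      rw [hmulφ, hmulφ, hk g (φ _ _), hk h (φ _ _), hk g (e.symm x), hk h (e.symm x)]
      abel)
    simpa [φ] using this
  haveI : Group.IsSolvable lin.toHomUnits.ker :=
    Group.isSolvable_of_comm fun a b => mul_comm' a b
  exact Group.isSolvable_of_ker_le_range lin.toHomUnits.ker.subtype lin.toHomUnits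
    (by rw [Subgroup.range_subtype])

end Cfsg.Agent.S0674
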