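import Cfsg.Statements.S0344
import Mathlib
import Cfsg.Agent.Lib.Lie.ZassenhausHalf
import Cfsg.Agent.Lib.Lie.SharpSimple
import Cfsg.Agent.Lib.Perm.GenTuples
-- import your own Cfsg.Agent.* helpers here

set_option autoImplicit false
open Cfsg

namespace Cfsg.Agent.S0344

/-- A finite simple Zassenhaus group with a two-point stabiliser of even order is isomorphic to `PSL₂(F)` for a finite
field `F` with more than three elements. -/
theorem result {G Ω : Type*} [Group G] [Finite G] [MulAction G Ω] [Finite Ω]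
    (hZ : Cfsg.IsZassenhausGroup G Ω) [IsSimpleGroup G]
    {a b : Ω} (hab : a ≠ b) (heven : Even (Nat.card ↥(MulAction.stabilizer G a ⊓ MulAction.stabilizer G b))) :
    ∃ (F : Type) (_ : Field F) (_ : Fintype F), 3 < Fintype.card F ∧ Nonempty (G ≃* Matrix.ProjectiveSpecialLinearGroup (Fin 2) F) := by
  classical
  haveI : Fintype Ω := Fintype.ofFinite Ω
  obtain ⟨hF, h2, h3, hfix, -⟩ := id hZ
  haveI := hF
  obtain ⟨x, hxa, hxb⟩ := Cfsg.Agent.Lie.Zassenhaus.three_le_card (G := G) hfix hab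
  have hpos : 0 < Nat.card ↥(MulAction.stabilizer G a ⊓ MulAction.stabilizer G b) := Nat.card_pos
  have hdvd : Nat.card ↥(MulAction.stabilizer G a ⊓ MulAction.stabilizer G b) ∣ Fintype.card Ω - 2 := by
    letI : MulAction ↥(MulAction.stabilizer G a ⊓ MulAction.stabilizer G b) {y : Ω // y ≠ a ∧ y ≠ b} :=
      { smul := fun g y => ⟨(g : G) • (y : Ω),
          fun h => y.2.1 (MulAction.injective (g : G) (h.trans g.2.1.symm)),
          fun h => y.2.2 (MulAction.injective (g : G) (h.trans g.2.2.symm))⟩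
        one_smul := fun y => Subtype.ext (one_smul G (y : Ω))
        mul_smul := fun g g' y => Subtype.ext (mul_smul (g : G) (g' : G) (y : Ω)) }
    have h1 := Cfsg.Agent.Perm.card_dvd_of_free (X := {y : Ω // y ≠ a ∧ y ≠ b})
      (A := ↥(MulAction.stabilizer G a ⊓ MulAction.stabilizer G b)) fun g y hy =>
      Subtype.ext (h3 g a b y hab (Ne.symm y.2.2) (Ne.symm y.2.1) g.2.1 g.2.2 (congrArg Subtype.val hy))
    rwa [Nat.card_eq_fintype_card (α := {y : Ω // y ≠ a ∧ y ≠ b}), Fintype.card_subtype,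
      show (Finset.univ.filter fun y : Ω => y ≠ a ∧ y ≠ b) = ({a, b} : Finset Ω)ᶜ by ext; simp,
      Finset.card_compl, Finset.card_pair hab] at h1
  by_cases hle : 2 * Nat.card ↥(MulAction.stabilizer G a ⊓ MulAction.stabilizer G b) ≤ Fintype.card Ω - 2
  · obtain ⟨F, iF, iFF, hq, hcard, hiso⟩ := Cfsg.Agent.Lie.ZassenhausHalf.psl_of_half hZ hab heven hle
    refine ⟨F, iF, iFF, ?_, hiso⟩
    obtain ⟨m, hm⟩ := heven
    omega
  · refine absurd ?_ (fun h => Cfsg.Agent.Lie.SharpSimple.false_of_sharp hZ hab heven h)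
    obtain ⟨k, hk⟩ := hdvd
    have hΩ : 0 < Fintype.card Ω - 2 := by
      have h1 : ({a, b, x} : Finset Ω).card = 3 := Finset.card_eq_three.2 ⟨a, b, x, hab, hxa.symm, hxb.symm, rfl⟩
      have := Finset.card_le_univ ({a, b, x} : Finset Ω)
      omega
    rcases k with _ | _ | k
    · omega
    · omega
    · exfalso
      apply hle
      rw [hk]
      nlinarith

end Cfsg.Agent.S0344
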