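import Cfsg.Statements.S1287
import Cfsg.Agent.Lib.Fusion.FixedPointFormula
import Cfsg.Agent.Lib.Fusion.Cores
import Cfsg.Agent.Lib.Solv.SetMul

set_option autoImplicit false
open scoped Pointwise
open Cfsg Cfsg.Agent
open scoped Pointwise
open Cfsg.Agent.Fusion
open scoped commutatorElement

namespace Cfsg.Agent.S1287

/-- Let A be a noncyclic elementary abelian p-subgroup of a finite group H normalizing a subgroup K of order prime to p, and X, Y ≤ K subgroups normalized by A with C_K(a) = C_X(a) C_Y(a) (as sets) for every non-identity a ∈ A, where X is also normalized by C_K(A). Then K = XY as sets. -/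
theorem result {H : Type*} [Group H] [Finite H] (p : ℕ) [Fact p.Prime] (A K X Y : Subgroup H) (hA : Cfsg.IsElementaryAbelian p A) (hA2 : p ^ 2 ≤ Nat.card ↥A) (hK : ¬ p ∣ Nat.card ↥K) (hAK : A ≤ Subgroup.normalizer (K : Set H)) (hX : X ≤ K) (hY : Y ≤ K) (hAX : A ≤ Subgroup.normalizer (X : Set H)) (hAY : A ≤ Subgroup.normalizer (Y : Set H)) (hCX : K ⊓ Subgroup.centralizer (A : Set H) ≤ Subgroup.normalizer (X : Set H)) (hfac : ∀ a ∈ A, a ≠ 1 → ((K ⊓ Subgroup.centralizer {a} : Subgroup H) : Set H) = ((X ⊓ Subgroup.centralizer {a} : Subgroup H) : Set H) * ((Y ⊓ Subgroup.centralizer {a} : Subgroup H) : Set H)) : (K : Set H) = (X : Set H) * (Y : Set H) := by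
  classical
  have hp : p.Prime := Fact.out
  obtain ⟨k, hk⟩ := IsPGroup.iff_card.1 (show IsPGroup p A from fun a => ⟨1, by rw [pow_one]; exact Subtype.ext (hA.2 a a.2)⟩)
  have hk2 : 2 ≤ k := by
    rw [hk] at hA2; exact (Nat.pow_le_pow_iff_right hp.one_lt).1 hA2
  obtain ⟨B, hB⟩ := Sylow.exists_subgroup_card_pow_prime p (show p ^ 2 ∣ Nat.card A from hk ▸ pow_dvd_pow p hk2)
  obtain ⟨A₀, hA₀⟩ : ∃ A₀, A₀ = B.map A.subtype := ⟨_, rfl⟩
  have hle : A₀ ≤ A := hA₀ ▸ Subgroup.map_subtype_le B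
  have hcard : Nat.card A₀ = p ^ 2 := by rw [hA₀, Subgroup.card_map_of_injective A.subtype_injective, hB]
  have hc : IsMulCommutative A₀ := ⟨⟨fun s t => Subtype.ext (by
    simpa using congrArg Subtype.val (hA.1.is_comm.comm ⟨(s : H), hle s.2⟩ ⟨(t : H), hle t.2⟩))⟩⟩
  have hexp : ∀ a ∈ A₀, a ^ p = 1 := fun a ha => hA.2 a (hle ha)
  have hcoK : (Nat.card A₀).Coprime (Nat.card K) := by
    rw [hcard]; exact Nat.Coprime.pow_left 2 ((Nat.Prime.coprime_iff_not_dvd hp).2 hK)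
  obtain ⟨D, hD⟩ : ∃ D, D = X ⊓ Y := ⟨_, rfl⟩
  have hDK : D ≤ K := hD ▸ inf_le_left.trans hX
  have hAD : A₀ ≤ Subgroup.normalizer (D : Set H) := fun a ha => mem_normalizer_of_cj_le (by
    rw [hD, cj_inf, cj_eq_self (hAX (hle ha)), cj_eq_self (hAY (hle ha))])
  have hFK := fixed_formula hc hcard hexp (hle.trans hAK) hcoK
  have hFD := fixed_formula hc hcard hexp hAD (hcoK.coprime_dvd_right (Subgroup.card_dvd_of_le hDK))
  have hFX := fixed_formula hc hcard hexp (hle.trans hAX) (hcoK.coprime_dvd_right (Subgroup.card_dvd_of_le hX))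
  have hFY := fixed_formula hc hcard hexp (hle.trans hAY) (hcoK.coprime_dvd_right (Subgroup.card_dvd_of_le hY))
  have hcount : ∀ s : Set H, ((K ⊓ Subgroup.centralizer s : Subgroup H) : Set H) =
      ((X ⊓ Subgroup.centralizer s : Subgroup H) : Set H) * ((Y ⊓ Subgroup.centralizer s : Subgroup H) : Set H) →
      Nat.card (K ⊓ Subgroup.centralizer s : Subgroup H) * Nat.card (D ⊓ Subgroup.centralizer s : Subgroup H) =
        Nat.card (X ⊓ Subgroup.centralizer s : Subgroup H) * Nat.card (Y ⊓ Subgroup.centralizer s : Subgroup H) := by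
    intro s hs
    have h := Solv.card_mul_set_mul_card_inf (X ⊓ Subgroup.centralizer s) (Y ⊓ Subgroup.centralizer s)
    rw [← hs, show (X ⊓ Subgroup.centralizer s) ⊓ (Y ⊓ Subgroup.centralizer s) = D ⊓ Subgroup.centralizer s by
      rw [hD, ← inf_inf_distrib_right]] at h
    exact h
  obtain ⟨a, ha, ha1⟩ : ∃ a ∈ A₀, a ≠ 1 := by
    by_contra hno
    have : A₀ = ⊥ := A₀.eq_bot_iff_forall.2 fun x hx => by_contra fun h => hno ⟨x, hx, h⟩
    rw [this, Subgroup.card_bot] at hcard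
    exact absurd hcard.symm (Nat.one_lt_pow two_ne_zero hp.one_lt).ne'
  have hfA : ((K ⊓ Subgroup.centralizer (A₀ : Set H) : Subgroup H) : Set H) =
      ((X ⊓ Subgroup.centralizer (A₀ : Set H) : Subgroup H) : Set H) *
        ((Y ⊓ Subgroup.centralizer (A₀ : Set H) : Subgroup H) : Set H) := by
    ext g
    constructor
    · intro hg
      obtain ⟨hgK, hgC⟩ := Subgroup.mem_inf.1 hg
      have hga : g ∈ ((K ⊓ Subgroup.centralizer {a} : Subgroup H) : Set H) :=
        Subgroup.mem_inf.2 ⟨hgK, Subgroup.centralizer_le (Set.singleton_subset_iff.2 ha) hgC⟩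
      rw [hfac a (hle ha) ha1] at hga
      obtain ⟨x, hx, y, hy, rfl⟩ := hga
      obtain ⟨hxX, hxa⟩ := Subgroup.mem_inf.1 hx
      obtain ⟨hyY, hya⟩ := Subgroup.mem_inf.1 hy
      obtain ⟨c, hc', hcd⟩ := Solv.exists_fixed_in_coset' A₀ X D (hle.trans hAX)
        (hcoK.coprime_dvd_right (Subgroup.card_dvd_of_le hX))
        (Or.inl (Group.isSolvable_of_comm fun s t => hc.is_comm.comm s t))
        (hD ▸ inf_le_left) hAD hxX (fun b hb => by
          have e : b * (x * y) = x * y * b := Subgroup.mem_centralizer_iff.1 hgC b hb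
          have e2 : x⁻¹ * (b * x * b⁻¹) = y * (b * y⁻¹ * b⁻¹) := by
            calc x⁻¹ * (b * x * b⁻¹) = x⁻¹ * (b * (x * y)) * (y⁻¹ * b⁻¹) := by group
              _ = x⁻¹ * (x * y * b) * (y⁻¹ * b⁻¹) := by rw [e]
              _ = _ := by group
          rw [hD, Subgroup.mem_inf]
          refine ⟨mul_mem (inv_mem hxX) ((Subgroup.mem_normalizer_iff.1 (hAX (hle hb)) x).1 hxX), ?_⟩
          rw [e2]
          exact mul_mem hyY ((Subgroup.mem_normalizer_iff.1 (hAY (hle hb)) _).1 (inv_mem hyY)))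
      obtain ⟨hcX, hcA⟩ := Subgroup.mem_inf.1 hc'
      refine ⟨c, hc', c⁻¹ * (x * y), Subgroup.mem_inf.2 ⟨?_, mul_mem (inv_mem hcA) hgC⟩, by group⟩
      have hcdY : x⁻¹ * c ∈ Y := (hD.le hcd).2
      rw [show c⁻¹ * (x * y) = (x⁻¹ * c)⁻¹ * y by group]
      exact mul_mem (inv_mem hcdY) hyY
    · rintro ⟨x, hx, y, hy, rfl⟩
      exact mul_mem (inf_le_inf_right (Subgroup.centralizer (A₀ : Set H)) hX hx)
        (inf_le_inf_right (Subgroup.centralizer (A₀ : Set H)) hY hy)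
  have hA' := hcount _ hfA
  have hprod : (∏ b ∈ nonId A₀, Nat.card (K ⊓ Subgroup.centralizer {b} : Subgroup H)) *
      ∏ b ∈ nonId A₀, Nat.card (D ⊓ Subgroup.centralizer {b} : Subgroup H) =
      (∏ b ∈ nonId A₀, Nat.card (X ⊓ Subgroup.centralizer {b} : Subgroup H)) *
      ∏ b ∈ nonId A₀, Nat.card (Y ⊓ Subgroup.centralizer {b} : Subgroup H) := by
    rw [← Finset.prod_mul_distrib, ← Finset.prod_mul_distrib]
    exact Finset.prod_congr rfl fun b hb =>
      hcount _ (hfac b (hle (mem_nonId.1 hb).1) (mem_nonId.1 hb).2)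
  rw [hFK, hFD, hFX, hFY, mul_mul_mul_comm, ← mul_pow, ← mul_pow, mul_mul_mul_comm (Nat.card X ^ (p - 1)),
    ← mul_pow, ← mul_pow, hA'] at hprod
  have h2 : Nat.card K * Nat.card D = Nat.card X * Nat.card Y :=
    Nat.pow_left_injective (by have := hp.two_le; omega : p - 1 ≠ 0)
      (Nat.eq_of_mul_eq_mul_right (pow_pos (Nat.mul_pos Nat.card_pos Nat.card_pos) _) hprod)
  have hsub : (X : Set H) * (Y : Set H) ⊆ (K : Set H) := by
    rintro _ ⟨x, hx, y, hy, rfl⟩; exact mul_mem (hX hx) (hY hy)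
  refine (Set.eq_of_subset_of_ncard_le hsub ?_ (Set.toFinite _)).symm
  have h3 := Solv.card_mul_set_mul_card_inf X Y
  rw [← hD, ← h2] at h3
  have h4 := Nat.eq_of_mul_eq_mul_right Nat.card_pos h3
  rw [← Nat.card_coe_set_eq, ← Nat.card_coe_set_eq]
  exact h4.ge

end Cfsg.Agent.S1287
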