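import Cfsg.Statements.S0077
import Cfsg.Agent.Lib.Fusion.NPC
import Cfsg.Agent.Lib.Fusion.BurnsideFusion

set_option autoImplicit false
open Cfsg
open Cfsg.Agent.Fusion
open scoped commutatorElement

namespace Cfsg.Agent.S0077

/-- If a subgroup Z of the centre of a Sylow p-subgroup P is weakly closed in P, then P meets the derived subgroup of G exactly where it meets the derived subgroup of the normalizer of Z. -/
theorem result {G : Type*} [Group G] [Finite G] {p : ℕ} [Fact p.Prime] (P : Sylow p G) (Z : Subgroup G) (hZ : Z ≤ Subgroup.centralizer (P : Set G)) (hW : Cfsg.IsWeaklyClosed Z P) : commutator G ⊓ (P : Subgroup G) = ⁅Subgroup.normalizer (Z : Set G), Subgroup.normalizer (Z : Set G)⁆ ⊓ (P : Subgroup G) := by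
  have hPN : (P : Subgroup G) ≤ Subgroup.normalizer (Z : Set G) := by
    intro x hx
    rw [Subgroup.mem_normalizer_iff]
    intro z
    refine ⟨fun hz => ?_, fun hz => ?_⟩
    · have h1 : x * z = z * x := Subgroup.mem_centralizer_iff.1 (hZ hz) x hx
      rw [h1, mul_inv_cancel_right]; exact hz
    · have h1 : x * (x * z * x⁻¹) = (x * z * x⁻¹) * x := Subgroup.mem_centralizer_iff.1 (hZ hz) x hx
      have h2 : x * z * x⁻¹ = z := by
        refine mul_left_cancel (a := x) ?_
        rw [h1, inv_mul_cancel_right]
      rwa [h2] at hz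
  rw [inf_comm, inf_commutator_eq_focalIn_top (sylIn_top P), inf_comm,
    inf_commutator_eq_focalIn ((sylIn_top P).mono hPN le_top)]
  exact focalIn_eq_of_fusion le_top fun x hx g _ hxg =>
    fusion_of_central_weaklyClosed (sylIn_top P) hZ hW hx hxg

end Cfsg.Agent.S0077
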