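import Cfsg.Statements.S3333
import Cfsg.Agent.Lib.Solv.ThreeLocal.DihMain
import Cfsg.Agent.Lib.Solv.ThreeLocal.Make

set_option autoImplicit false
open Cfsg

namespace Cfsg.Agent.S3333

/-- Let G be a finite group with a Sylow 3-subgroup S of order 9 that is its own centralizer, with N_G(S)/S dihedral of order 8, and such that C_G(x) ≤ N_G(S) for every non-identity x in S. Then S is normal in G or G is isomorphic to the symmetric group of degree 6. -/
theorem result {G : Type*} [Group G] [Finite G]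
    (P : Sylow 3 G) (S : Subgroup G) (hSP : S = P) (hcard : Nat.card S = 9)
    (hC : Subgroup.centralizer (S : Set G) = S)
    (eN : Subgroup.normalizer (S : Set G) ⧸ S.subgroupOf (Subgroup.normalizer (S : Set G)) ≃* DihedralGroup 4)
    (hcent : ∀ x ∈ S, x ≠ 1 → Subgroup.centralizer ({x} : Set G) ≤ Subgroup.normalizer (S : Set G)) :
    S.Normal ∨ Nonempty (G ≃* Equiv.Perm (Fin 6)) := by
  classical
  rw [or_iff_not_imp_left]
  intro hnn
  set N := Subgroup.normalizer (S : Set G) with hN
  haveI : Fact (Nat.Prime 2) := ⟨Nat.prime_two⟩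
  let K := S.subgroupOf N
  -- the exponent is three
  have hexp : ∀ a ∈ S, a ^ 3 = 1 := by
    intro a ha
    by_contra ha3
    have hd : orderOf a ∣ 3 ^ 2 := by
      have := orderOf_dvd_natCard (⟨a, ha⟩ : S)
      rw [Subgroup.orderOf_mk, hcard] at this
      simpa using this
    have ho : orderOf a = 9 := by
      obtain ⟨k, hk, e⟩ := (Nat.dvd_prime_pow Nat.prime_three).1 hd
      interval_cases k
      · have h1 : a = 1 := orderOf_eq_one_iff.1 (by simpa using e)
        exact absurd (by rw [h1, one_pow]) ha3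
      · exact absurd (by rw [show 3 = orderOf a by simpa using e.symm, pow_orderOf_eq_one]) ha3
      · simpa using e
    have hgen : Subgroup.zpowers a = S :=
      Subgroup.eq_of_le_of_card_ge (Subgroup.zpowers_le.2 ha) (by rw [Nat.card_zpowers, ho, hcard])
    obtain ⟨g1, hg1⟩ := QuotientGroup.mk_surjective (eN.symm (DihedralGroup.r 1))
    obtain ⟨g2, hg2⟩ := QuotientGroup.mk_surjective (eN.symm (DihedralGroup.sr 0))
    have hpow : ∀ n : N, ∃ k : ℤ, (n : G) * a * (n : G)⁻¹ = a ^ k := fun n => by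
      have h := (Subgroup.mem_normalizer_iff.1 n.2 a).1 ha
      rw [← hgen, Subgroup.mem_zpowers_iff] at h
      obtain ⟨k, hk⟩ := h
      exact ⟨k, hk.symm⟩
    obtain ⟨k1, hk1⟩ := hpow g1
    obtain ⟨k2, hk2⟩ := hpow g2
    have hcc : ((g1 : G) * g2) * a * ((g1 : G) * g2)⁻¹ = ((g2 : G) * g1) * a * ((g2 : G) * g1)⁻¹ := by
      calc ((g1 : G) * g2) * a * ((g1 : G) * g2)⁻¹ = (g1 : G) * ((g2 : G) * a * (g2 : G)⁻¹) * (g1 : G)⁻¹ := by group
        _ = ((g1 : G) * a * (g1 : G)⁻¹) ^ k2 := by rw [hk2, conj_zpow]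
        _ = ((g2 : G) * a * (g2 : G)⁻¹) ^ k1 := by rw [hk1, hk2, ← zpow_mul, ← zpow_mul, mul_comm]
        _ = (g2 : G) * ((g1 : G) * a * (g1 : G)⁻¹) * (g2 : G)⁻¹ := by rw [hk1, conj_zpow]
        _ = _ := by group
    have hmem : (g1 * g2)⁻¹ * (g2 * g1) ∈ K := by
      rw [Subgroup.mem_subgroupOf]
      refine hC.le (Subgroup.mem_centralizer_iff.2 ?_)
      intro s hs
      rw [SetLike.mem_coe, ← hgen, Subgroup.mem_zpowers_iff] at hs
      obtain ⟨j, rfl⟩ := hs
      have hc : Commute (((g1 * g2)⁻¹ * (g2 * g1) : N) : G) a := by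
        show _ * a = a * _
        simp only [Subgroup.coe_mul, Subgroup.coe_inv]
        calc ((g1 : G) * g2)⁻¹ * ((g2 : G) * g1) * a
            = ((g1 : G) * g2)⁻¹ * (((g2 : G) * g1) * a * ((g2 : G) * g1)⁻¹) * ((g2 : G) * g1) := by group
          _ = _ := by rw [← hcc]; group
      exact (hc.zpow_right j).eq.symm
    have h := QuotientGroup.eq.2 hmem
    have h' := congrArg eN h
    rw [QuotientGroup.mk_mul, QuotientGroup.mk_mul, map_mul, map_mul, hg1, hg2, MulEquiv.apply_symm_apply,
      MulEquiv.apply_symm_apply] at h'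
    revert h'
    decide
  obtain ⟨X, hX⟩ := Solv.ThreeLocal.exists_ctx P hSP hcard hexp hcent
  have hcent' : Subgroup.centralizer (X.S : Set G) = X.S := by rw [hX]; exact hC
  have h72 : Nat.card N = 72 := by
    rw [Subgroup.card_eq_card_quotient_mul_card_subgroup K, Nat.card_congr eN.toEquiv,
      DihedralGroup.nat_card, Nat.card_congr (Subgroup.subgroupOfEquivOfLe Subgroup.le_normalizer).toEquiv, hcard]
  obtain ⟨S2⟩ : Nonempty (Sylow 2 N) := inferInstance
  have h8 : Nat.card (S2 : Subgroup N) = 8 := by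
    rw [Sylow.card_eq_multiplicity, h72, show (72 : ℕ) = 2 ^ 3 * 9 from rfl,
      Nat.factorization_mul (by norm_num) (by norm_num), Finsupp.add_apply, Nat.prime_two.factorization_pow,
      Finsupp.single_eq_same, Nat.factorization_eq_zero_of_not_dvd (show ¬ 2 ∣ 9 by norm_num)]
    norm_num
  let ρ : (S2 : Subgroup N) →* DihedralGroup 4 :=
    eN.toMonoidHom.comp ((QuotientGroup.mk' K).comp (S2 : Subgroup N).subtype)
  have hρ : Function.Injective ρ := by
    rw [injective_iff_map_eq_one]
    intro x hx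
    have hxK : (x : N) ∈ K := by
      rw [← QuotientGroup.eq_one_iff]
      exact eN.injective (hx.trans (map_one eN).symm)
    have h1 : orderOf x ∣ 8 := h8 ▸ orderOf_dvd_natCard x
    have h3 : x ^ 3 = 1 := Subtype.ext (Subtype.ext (by simpa using hexp _ (Subgroup.mem_subgroupOf.1 hxK)))
    have h2 : orderOf x ∣ 1 := (Nat.dvd_gcd h1 (orderOf_dvd_of_pow_eq_one h3)).trans (by norm_num)
    exact orderOf_eq_one_iff.1 (Nat.eq_one_of_dvd_one h2)
  have hρb : Function.Bijective ρ :=
    (Nat.bijective_iff_injective_and_card _).2 ⟨hρ, by rw [h8, DihedralGroup.nat_card]⟩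
  let e := (MulEquiv.ofBijective ρ hρb).symm
  let φ : DihedralGroup 4 →* G := (N.subtype.comp (S2 : Subgroup N).subtype).comp e.toMonoidHom
  refine Solv.ThreeLocal.main X P (by rw [hX, hSP]) hcent' φ
    ((Subtype.val_injective.comp Subtype.val_injective).comp e.injective)
    (fun x => by rw [hX]; exact Subtype.coe_prop _) (by rw [hX]; exact h72) (by rw [hX]; exact hnn)

end Cfsg.Agent.S3333
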