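import Cfsg.Statements.S3805
import Cfsg.Agent.Lib.Solv.ThreeLocal.KleinMain
import Cfsg.Agent.Lib.Solv.ThreeLocal.Make
-- import your own Cfsg.Agent.* helpers here

set_option autoImplicit false
open Cfsg

namespace Cfsg.Agent.S3805

/-- Let G be a finite group whose Sylow 3-subgroup T is elementary abelian of order 9 and self-centralizing, with N_G(T)/T a Klein four-group, and suppose that the centralizer of every nonidentity element of T lies in N_G(T). Then T is normal in G. -/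
theorem result {G : Type*} [Group G] [Finite G]
    (T : Sylow 3 G) (hT : Cfsg.IsElementaryAbelian 3 (T : Subgroup G)) (hcard : Nat.card T = 9)
    (hC : Subgroup.centralizer ((T : Subgroup G) : Set G) = T)
    [hn : ((T : Subgroup G).subgroupOf (Subgroup.normalizer ((T : Subgroup G) : Set G))).Normal]
    (hK : IsKleinFour (↥(Subgroup.normalizer ((T : Subgroup G) : Set G)) ⧸
      (T : Subgroup G).subgroupOf (Subgroup.normalizer ((T : Subgroup G) : Set G))))
    (hloc : ∀ t ∈ (T : Subgroup G), t ≠ 1 →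
      Subgroup.centralizer ({t} : Set G) ≤ Subgroup.normalizer ((T : Subgroup G) : Set G)) :
    Subgroup.normalizer ((T : Subgroup G) : Set G) = ⊤ := by
  classical
  haveI : Fintype G := Fintype.ofFinite G
  obtain ⟨X, hX⟩ := Cfsg.Agent.Solv.ThreeLocal.exists_ctx T rfl hcard hT.2 hloc
  set N := Subgroup.normalizer ((T : Subgroup G) : Set G) with hN
  set S' := (T : Subgroup G).subgroupOf N with hS'
  haveI := hK
  have hS9 : Nat.card S' = 9 := by
    rw [hS', Nat.card_congr (Subgroup.subgroupOfEquivOfLe Subgroup.le_normalizer).toEquiv]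
    exact hcard
  haveI : Fact (Nat.Prime 2) := ⟨Nat.prime_two⟩
  have hcardN : Nat.card N = 2 ^ 2 * 9 := by
    rw [Subgroup.card_eq_card_quotient_mul_card_subgroup S', IsKleinFour.card_four, hS9]
    norm_num
  obtain ⟨Q, hQ⟩ : ∃ Q : Subgroup N, Nat.card Q = 2 ^ 2 :=
    Sylow.exists_subgroup_card_pow_prime 2 (hcardN ▸ dvd_mul_right _ _)
  have hQS : ∀ q ∈ Q, q ∈ S' → q = 1 := by
    intro q hq hqS
    have h1 : orderOf q ∣ 4 := by
      have := orderOf_dvd_natCard (⟨q, hq⟩ : Q)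
      rwa [hQ, ← Subgroup.orderOf_coe] at this
    have h2 : orderOf q ∣ 9 := by
      have := orderOf_dvd_natCard (⟨q, hqS⟩ : S')
      rwa [hS9, ← Subgroup.orderOf_coe] at this
    exact orderOf_eq_one_iff.1 (Nat.dvd_one.1 (by simpa using Nat.dvd_gcd h1 h2))
  have hsq : ∀ q ∈ Q, q * q = 1 := fun q hq => hQS _ (Q.mul_mem hq hq) ((QuotientGroup.eq_one_iff _).1
    (by rw [QuotientGroup.mk_mul]; exact IsKleinFour.mul_self _))
  have hcomm : ∀ p ∈ Q, ∀ q ∈ Q, p * q = q * p := fun p hp q hq => by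
    have h := hsq _ (Q.mul_mem hp hq)
    rw [← inv_eq_iff_mul_eq_one, mul_inv_rev] at h
    rw [← h, inv_eq_of_mul_eq_one_right (hsq p hp), inv_eq_of_mul_eq_one_right (hsq q hq)]
  have hbij : Function.Bijective (fun q : Q => ((q : N) : N ⧸ S')) := by
    refine (Nat.bijective_iff_injective_and_card _).2 ⟨fun p q h => ?_, ?_⟩
    · have h1 := hQS _ (Q.mul_mem (Q.inv_mem p.2) q.2) (QuotientGroup.eq.1 h)
      exact Subtype.ext (inv_mul_eq_one.1 h1)
    · rw [hQ, IsKleinFour.card_four]; norm_num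
  -- the action on the plane
  have hmem : ∀ v, X.e v ∈ (T : Subgroup G) := fun v => hX ▸ X.e_mem v
  have hact : ∀ p ∈ Q, ∀ q ∈ Q, (∀ v, (p : G) * X.e v * (p : G)⁻¹ = (q : G) * X.e v * (q : G)⁻¹) →
      p = q := by
    intro p hp q hq h
    refine inv_mul_eq_one.1 (hQS _ (Q.mul_mem (Q.inv_mem hp) hq) ?_)
    have h1 : (p : G)⁻¹ * (q : G) ∈ Subgroup.centralizer ((T : Subgroup G) : Set G) := by
      rw [Subgroup.mem_centralizer_iff]
      intro g hg
      obtain ⟨v, rfl⟩ := (X.mem_iff g).1 (hX ▸ hg)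
      have h2 := h v
      rw [eq_mul_inv_iff_mul_eq] at h2
      calc X.e v * ((p : G)⁻¹ * q) = (p : G)⁻¹ * ((p : G) * X.e v * (p : G)⁻¹ * q) := by group
        _ = (p : G)⁻¹ * q * X.e v := by rw [h2]; group
    rw [hC] at h1
    exact h1
  have hne : ∀ q ∈ Q, q ≠ 1 → ¬ ∀ v, (q : G) * X.e v * (q : G)⁻¹ = X.e v := fun q hq hq1 h =>
    hq1 (hact q hq 1 Q.one_mem fun v => by rw [h v]; simp)
  obtain ⟨u, hu, hu1, w, hw, hw1, hwu⟩ :
      ∃ u ∈ Q, u ≠ 1 ∧ ∃ w ∈ Q, w ≠ 1 ∧ w ≠ u := by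
    haveI : Nontrivial Q := Finite.one_lt_card_iff_nontrivial.1 (by rw [hQ]; norm_num)
    obtain ⟨u, hu⟩ := exists_ne (1 : Q)
    obtain ⟨w, hw, hwu⟩ : ∃ w : Q, w ≠ 1 ∧ w ≠ u := by
      by_contra hcon
      push Not at hcon
      have : Nat.card Q ≤ 2 := by
        haveI := Fintype.ofFinite Q
        rw [Nat.card_eq_fintype_card, ← Finset.card_univ]
        exact (Finset.card_le_card (fun x _ => by
          simp only [Finset.mem_insert, Finset.mem_singleton]
          exact (em (x = 1)).imp id (hcon x))).trans Finset.card_le_two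
      omega
    exact ⟨u, u.2, fun h => hu (Subtype.ext h), w, w.2, fun h => hw (Subtype.ext h),
      fun h => hwu (Subtype.ext h)⟩
  obtain ⟨a, ha, ha1, b, hb, hb1, hba, hneg⟩ : ∃ a ∈ Q, a ≠ 1 ∧ ∃ b ∈ Q, b ≠ 1 ∧ b ≠ a ∧
      ¬ ∀ v, (a : G) * X.e v * (a : G)⁻¹ = X.e (-v) := by
    by_cases h : ∀ v, (u : G) * X.e v * (u : G)⁻¹ = X.e (-v)
    · exact ⟨w, hw, hw1, u, hu, hu1, hwu.symm, fun h' => hwu (hact w hw u hu fun v => by rw [h, h'])⟩
    · exact ⟨u, hu, hu1, w, hw, hw1, hwu, h⟩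
  have hcov : ∀ g ∈ Subgroup.normalizer (X.S : Set G), ∃ v, g = X.e v ∨ g = X.e v * a ∨ g = X.e v * b ∨
      g = X.e v * ((a : G) * b) := by
    intro g hg
    rw [hX] at hg
    obtain ⟨q, hq⟩ := hbij.2 ((⟨g, hg⟩ : N) : N ⧸ S')
    have h0 : (q : N)⁻¹ * ⟨g, hg⟩ ∈ S' := QuotientGroup.eq.1 hq
    have h1 : ((q : N) : G)⁻¹ * g ∈ (T : Subgroup G) := h0
    have h2 : g * ((q : N) : G)⁻¹ ∈ (T : Subgroup G) := by
      have h3 := (Subgroup.mem_normalizer_iff.1 (q : N).2 ((q : G)⁻¹ * g)).1 h1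
      simpa [mul_assoc] using h3
    obtain ⟨v, hv⟩ := (X.mem_iff _).1 (hX ▸ h2)
    refine ⟨v, ?_⟩
    have hg' : g = X.e v * (q : G) := by rw [hv, inv_mul_cancel_right]
    rcases (show (q : N) = 1 ∨ (q : N) = a ∨ (q : N) = b ∨ (q : N) = a * b by
      by_contra hcon
      push Not at hcon
      obtain ⟨c1, c2, c3, c4⟩ := hcon
      have hab1 : a * b ≠ 1 := fun h => hba
        ((inv_eq_of_mul_eq_one_right h).symm.trans (inv_eq_of_mul_eq_one_right (hsq a ha)))
      have hc : ({(1 : N), a, b, a * b, (q : N)} : Finset N).card = 5 := by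
        have e1 : a ≠ a * b := fun h => hb1 (mul_eq_left.1 h.symm)
        have e2 : b ≠ a * b := fun h => ha1 (mul_eq_right.1 h.symm)
        simp [Finset.card_insert_of_notMem, ha1.symm, hb1.symm, hba.symm, hab1.symm, c1.symm, c2.symm,
          c3.symm, c4.symm, e1, e2]
      have hle : ({(1 : N), a, b, a * b, (q : N)} : Finset N).card ≤ Nat.card Q := by
        rw [← Nat.card_eq_finsetCard]
        refine Nat.card_le_card_of_injective (fun x => (⟨x.1, ?_⟩ : Q)) fun x y h =>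
          Subtype.ext (congrArg Subtype.val h :)
        have := x.2
        simp only [Finset.mem_insert, Finset.mem_singleton] at this
        rcases this with h | h | h | h | h <;> rw [h]
        exacts [Q.one_mem, ha, hb, Q.mul_mem ha hb, q.2]
      omega) with h | h | h | h <;> rw [h] at hg' <;> try simp only [Subgroup.coe_mul, Subgroup.coe_one] at hg'
    · exact Or.inl (by rw [hg', mul_one])
    · exact Or.inr (Or.inl hg')
    · exact Or.inr (Or.inr (Or.inl hg'))
    · exact Or.inr (Or.inr (Or.inr hg'))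
  obtain ⟨Y, hY, ⟨K⟩⟩ := Cfsg.Agent.Solv.ThreeLocal.exists_kl X (a := (a : G)) (b := (b : G))
    (congrArg Subtype.val (hsq a ha)) (congrArg Subtype.val (hsq b hb))
    (congrArg Subtype.val (hcomm a ha b hb)) (hX ▸ (a : N).2) (hX ▸ (b : N).2)
    (hne a ha ha1) (hne b hb hb1) (fun h => hba (hact a ha b hb h).symm) hneg hcov
  have h := K.normal T (by rw [hY, hX]) (by rw [hY, hX]; exact hC)
  rwa [hY, hX] at h

end Cfsg.Agent.S3805
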