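import Cfsg.Statements.S3347
import Cfsg.Agent.Lib.Char.InvertedSylow.Main

set_option autoImplicit false
open Cfsg

namespace Cfsg.Agent.S3347

/-- Let G be a finite group, p an odd prime, and P an abelian, non-cyclic Sylow p-subgroup of G with [N_G(P) : C_G(P)] = 2. Then either O^p(G) is a proper subgroup of G, or G has p-length 1 (G = O_{p',p,p'}(G)). -/
theorem result {G : Type*} [Group G] [Finite G]
    (p : ℕ) [Fact p.Prime] (hp : p ≠ 2) (P : Sylow p G) (hab : IsMulCommutative (P : Subgroup G)) (hnc : ¬ IsCyclic (P : Subgroup G))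
    (hidx : ((Subgroup.centralizer ((P : Subgroup G) : Set G)).subgroupOf (Subgroup.normalizer ((P : Subgroup G) : Set G))).index = 2) :
    Cfsg.pResidual p G ≠ ⊤ ∨ Cfsg.PLengthLE p 1 G := by
  classical
  obtain ⟨n₀, hn₀, hn₀C, hout⟩ := Subgroup.relIndex_eq_two_iff_exists_notMem_and.mp
    (show (Subgroup.centralizer ((P : Subgroup G) : Set G)).relIndex
      (Subgroup.normalizer ((P : Subgroup G) : Set G)) = 2 from hidx)
  have hfix : ∀ c ∈ Subgroup.centralizer ((P : Subgroup G) : Set G), ∀ y ∈ (P : Subgroup G),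
      c * y * c⁻¹ = y := fun c hc y hy => by
    rw [← Subgroup.mem_centralizer_iff.mp hc y hy, mul_inv_cancel_right]
  have hsq : n₀ * n₀ ∈ Subgroup.centralizer ((P : Subgroup G) : Set G) :=
    (hout n₀ hn₀).resolve_right hn₀C
  have hmem : ∀ {n : G}, n ∈ Subgroup.normalizer ((P : Subgroup G) : Set G) →
      ∀ {y : G}, y ∈ (P : Subgroup G) → n * y * n⁻¹ ∈ (P : Subgroup G) :=
    fun hn _ hy => (Subgroup.mem_normalizer_iff.mp hn _).mp hy
  have hact : ∀ n ∈ Subgroup.normalizer ((P : Subgroup G) : Set G), ∀ y ∈ (P : Subgroup G),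
      n * y * n⁻¹ = y ∨ n * y * n⁻¹ = n₀⁻¹ * y * n₀ := by
    intro n hn y hy
    rcases hout n hn with h | h
    · right
      have hw : n₀⁻¹ * y * n₀ ∈ (P : Subgroup G) := by
        simpa using hmem (inv_mem hn₀) hy
      rw [← hfix _ h _ hw]
      group
    · exact Or.inl (hfix n h y hy)
  by_cases hA : ∃ y ∈ (P : Subgroup G), y ≠ 1 ∧ n₀ * y * n₀⁻¹ = y
  · left
    obtain ⟨y, hy, hy1, hy0⟩ := hA
    have hy0' : n₀⁻¹ * y * n₀ = y := by
      conv_lhs => rw [← hy0]
      group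
    have key : ∀ (k : ℕ) (g₀ : G), g₀⁻¹ * y ^ k * g₀ ∈ (P : Subgroup G) →
        g₀⁻¹ * y ^ k * g₀ = y ^ k := by
      intro k g₀ h
      obtain ⟨n, hn, e⟩ := P.conj_eq_normalizer_conj_of_mem (y ^ k) g₀ (pow_mem hy k) h
      rw [e]
      have e0 : n⁻¹ * y * n⁻¹⁻¹ = y := (hact _ (inv_mem hn) y hy).elim id fun e => e.trans hy0'
      calc n⁻¹ * y ^ k * n = n⁻¹ * y ^ k * n⁻¹⁻¹ := by rw [inv_inv]
        _ = (n⁻¹ * y * n⁻¹⁻¹) ^ k := (conj_pow).symm
        _ = y ^ k := by rw [e0]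
    open scoped IsMulCommutative in
    let f : G →* (P : Subgroup G) := MonoidHom.transfer (MonoidHom.id (P : Subgroup G))
    have hf : (f y : G) = y ^ (P : Subgroup G).index := by
      simp only [f, MonoidHom.transfer_eq_pow _ y key, MonoidHom.id_apply]
    have hne : f y ≠ 1 := by
      intro h
      rw [h, OneMemClass.coe_one] at hf
      obtain ⟨k, hk⟩ := (IsPGroup.iff_orderOf.mp P.isPGroup') ⟨y, hy⟩
      rw [Subgroup.orderOf_mk] at hk
      refine hy1 (orderOf_eq_one_iff.mp (Nat.eq_one_of_dvd_coprimes ?_ (dvd_of_eq hk)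
        (orderOf_dvd_of_pow_eq_one hf.symm)))
      exact Nat.Coprime.pow_left k ((Fact.out : p.Prime).coprime_iff_not_dvd.mpr P.not_dvd_index)
    have hle : Cfsg.pResidual p G ≤ f.ker := by
      rw [Cfsg.pResidual, Subgroup.closure_le]
      intro g hg
      obtain ⟨k, hk⟩ := (IsPGroup.iff_orderOf.mp P.isPGroup') (f g)
      refine MonoidHom.mem_ker.mpr (orderOf_eq_one_iff.mp ?_)
      exact Nat.eq_one_of_dvd_coprimes (Nat.Coprime.pow_right k hg) (orderOf_map_dvd f g)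
        (dvd_of_eq hk)
    intro htop
    exact hne (MonoidHom.mem_ker.mp (hle (htop ▸ Subgroup.mem_top y)))
  · right
    have hinv : ∀ y ∈ (P : Subgroup G), n₀ * y * n₀⁻¹ = y⁻¹ := by
      intro y hy
      have hy' := hmem hn₀ hy
      have hc : n₀ * y * n₀⁻¹ * y = y * (n₀ * y * n₀⁻¹) :=
        congrArg Subtype.val (hab.is_comm.comm (⟨_, hy'⟩ : (P : Subgroup G)) ⟨y, hy⟩)
      have hz : n₀ * (y * (n₀ * y * n₀⁻¹)) * n₀⁻¹ = y * (n₀ * y * n₀⁻¹) := by
        calc n₀ * (y * (n₀ * y * n₀⁻¹)) * n₀⁻¹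
            = n₀ * y * n₀⁻¹ * (n₀ * n₀ * y * (n₀ * n₀)⁻¹) := by group
          _ = y * (n₀ * y * n₀⁻¹) := by rw [hfix _ hsq y hy, hc]
      by_contra hne
      refine hA ⟨_, mul_mem hy hy', fun e => hne ?_, hz⟩
      exact eq_inv_of_mul_eq_one_right e
    refine Cfsg.Agent.Char.InvertedSylow.Inv.pLength (P := P) ⟨hab, hnc, hp, ?_, ⟨n₀, hn₀, hinv⟩⟩
    intro n hn
    have hinv' : ∀ y ∈ (P : Subgroup G), n₀⁻¹ * y * n₀ = y⁻¹ := fun y hy => by
      have := hinv _ (inv_mem hy)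
      rw [inv_inv] at this
      conv_lhs => rw [← this]
      group
    rcases hout n hn with h | h
    · exact Or.inr fun y hy => by
        have hw : n₀⁻¹ * y * n₀ ∈ (P : Subgroup G) := by rw [hinv' y hy]; exact inv_mem hy
        rw [← hinv' y hy]
        conv_rhs => rw [← hfix _ h _ hw]
        group
    · exact Or.inl (hfix n h)

end Cfsg.Agent.S3347
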