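import Cfsg.Statements.S0672
import Mathlib
import Cfsg.Agent.Lib.Perm.Basic

set_option autoImplicit false
open Cfsg

namespace Cfsg.Agent.S0672


open MulAction
open scoped Pointwise


/-- Let a finite group act faithfully and doubly transitively with point stabilisers of even order, and let `K` have characteristic `p` dividing the degree. If the heart of the permutation module admits no non-zero equivariant map to the permutation module on unordered pairs (phrased: every intertwining map from the sum-zero functions vanishing on the constants is zero), the action is triply transitive. -/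
theorem result {G : Type*} [Group G] [Finite G] {K : Type*} [Field K] {p : ℕ} [Fact p.Prime] [CharP K p] {Ω : Type*} [Fintype Ω] [DecidableEq Ω] [MulAction G Ω] [FaithfulSMul G Ω] (h2 : MulAction.IsMultiplyPretransitive G Ω 2) (hp : p ∣ Fintype.card Ω) (heven : ∀ a : Ω, Even (Nat.card (MulAction.stabilizer G a))) (h : ∀ f : Representation.IntertwiningMap (Cfsg.permSumZero K G Ω).toRepresentation (Cfsg.permRep K G (Set.powersetCard Ω 2)), (∀ v : (Cfsg.permSumZero K G Ω).toSubmodule, (v : Ω → K) ∈ (Cfsg.permConstants K G Ω).toSubmodule → f v = 0) → f = 0) : MulAction.IsMultiplyPretransitive G Ω 3 := by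
  classical
  haveI : Fintype G := Fintype.ofFinite G
  rw [is_two_pretransitive_iff] at h2
  -- a swap fixing a third point
  have hswap : ∀ a b : Ω, a ≠ b → ∃ (s : G) (c : Ω), s • a = b ∧ s • b = a ∧ s • c = c ∧ c ≠ a ∧ c ≠ b := by
    intro a b hab
    haveI : Fact (Nat.Prime 2) := ⟨Nat.prime_two⟩
    obtain ⟨t', ht'⟩ := exists_prime_orderOf_dvd_card' (G := stabilizer G a) 2 (heven a).two_dvd
    obtain ⟨t, hta, ht⟩ : ∃ t : G, t • a = a ∧ orderOf t = 2 :=
      ⟨t', t'.2, by rw [Subgroup.orderOf_coe]; exact ht'⟩
    have htt : t * t = 1 := by rw [← sq, ← ht, pow_orderOf_eq_one]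
    obtain ⟨u, hu⟩ : ∃ u : Ω, t • u ≠ u := by
      by_contra hall
      push Not at hall
      have : t = 1 := eq_of_smul_eq_smul fun x : Ω => by rw [hall x, one_smul]
      simp [this] at ht
    have htu : t • t • u = u := by rw [← mul_smul, htt, one_smul]
    obtain ⟨k, hk1, hk2⟩ := h2 (Ne.symm hu) hab
    refine ⟨k * t * k⁻¹, k • a, ?_, ?_, ?_, ?_, ?_⟩
    · rw [← hk1, ← hk2]; simp [mul_smul]
    · rw [← hk1, ← hk2]; simp only [mul_smul, inv_smul_smul]; rw [htu]
    · simp only [mul_smul, inv_smul_smul, hta]
    · intro e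
      have hau : a = u := smul_left_cancel k (e.trans hk1.symm)
      exact hu (by rwa [hau] at hta)
    · intro e
      have h' := smul_left_cancel k (e.trans hk2.symm)
      have h'' : t • a = t • t • u := congrArg (t • ·) h'
      rw [hta, htu] at h''
      exact hu (by rwa [h''] at hta)
  -- pair stabilisers are transitive on the rest
  have hpair : ∀ a b x y : Ω, a ≠ b → x ≠ a → x ≠ b → y ≠ a → y ≠ b →
      ∃ g : G, ((g • a = a ∧ g • b = b) ∨ (g • a = b ∧ g • b = a)) ∧ g • x = y := by
    intro a b x y hab hxa hxb hya hyb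
    by_contra hno
    -- the orbit
    let O : Finset Ω → Ω → Prop := fun P z => ∃ g : G, ({g • a, g • b} : Finset Ω) = P ∧ g • x = z
    have hO : ∀ (g : G) (P : Finset Ω) z, O (P.image (g • ·)) (g • z) ↔ O P z := by
      intro g P z
      constructor
      · rintro ⟨h', hP, hz⟩
        refine ⟨g⁻¹ * h', ?_, by rw [mul_smul, hz, inv_smul_smul]⟩
        have := congrArg (Finset.image (g⁻¹ • ·)) hP
        rw [Finset.image_image] at this
        simpa [mul_smul, Function.comp_def] using this
      · rintro ⟨h', hP, hz⟩
        refine ⟨g * h', ?_, by rw [mul_smul, hz]⟩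
        rw [← hP]; simp [mul_smul]
    let P0 : Finset Ω := {a, b}
    let N : Finset Ω → ℕ := fun P => (Finset.univ.filter (O P)).card
    let c : Finset Ω → Ω → K := fun P z =>
      if (N P0 : K) = 0 then (if O P z then 1 else 0)
      else (N P0 : K) * (if z ∈ P then 1 else 0) - 2 * (if O P z then 1 else 0)
    have hc : ∀ (g : G) P z, c (P.image (g • ·)) (g • z) = c P z := by
      intro g P z
      have hm : g • z ∈ P.image (g • ·) ↔ z ∈ P := by
        simp [Finset.mem_image]
      simp only [c, hO, hm]
    have hNeq : ∀ g : G, N (P0.image (g • ·)) = N P0 := by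
      intro g
      refine (Finset.card_bij (fun z _ => g • z) ?_ ?_ ?_).symm
      · intro z hz
        simp only [Finset.mem_filter, Finset.mem_univ, true_and] at hz ⊢
        exact (hO g P0 z).2 hz
      · intro z _ z' _ e; exact smul_left_cancel g e
      · intro z hz
        simp only [Finset.mem_filter, Finset.mem_univ, true_and] at hz
        exact ⟨g⁻¹ • z, by
          simp only [Finset.mem_filter, Finset.mem_univ, true_and]
          exact (hO g P0 _).1 (by rwa [smul_inv_smul]), smul_inv_smul g z⟩
    have hsum : ∀ P : Finset Ω, P.card = 2 → ∑ z, c P z = 0 := by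
      intro P hP
      obtain ⟨u, w, huw, rfl⟩ := Finset.card_eq_two.1 hP
      obtain ⟨g, hg1, hg2⟩ := h2 hab huw
      have hN : N {u, w} = N P0 := by
        rw [← hNeq g]
        simp [P0, hg1, hg2]
      have h1 : (∑ z, if O {u, w} z then (1 : K) else 0) = N P0 := by
        rw [Finset.sum_boole, ← hN]
      by_cases h0 : (N P0 : K) = 0
      · simp only [c, if_pos h0]
        rw [h1, h0]
      · simp only [c, if_neg h0]
        rw [Finset.sum_sub_distrib, ← Finset.mul_sum, ← Finset.mul_sum, h1,
          Finset.sum_boole, Finset.filter_univ_mem, hP]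
        push_cast; ring
    let L : (Cfsg.permSumZero K G Ω).toSubmodule →ₗ[K] (Set.powersetCard Ω 2 → K) :=
      { toFun := fun v P => ∑ z, c (P : Finset Ω) z * (v : Ω → K) z
        map_add' := fun v w => by funext P; simp [mul_add, Finset.sum_add_distrib]
        map_smul' := fun r v => by
          funext P
          simp only [Submodule.coe_smul, Pi.smul_apply, smul_eq_mul, RingHom.id_apply, Finset.mul_sum]
          exact Finset.sum_congr rfl fun z _ => by ring }
    let φ := LinearMap.intertwiningMap_of_isIntertwiningMap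
      (ρ := (Cfsg.permSumZero K G Ω).toRepresentation)
      (σ := Cfsg.permRep K G (Set.powersetCard Ω 2)) L (by
        intro g v
        funext P
        show ∑ z, c (P : Finset Ω) z * (v : Ω → K) (g⁻¹ • z) =
          ∑ z, c ((g⁻¹ • P : Set.powersetCard Ω 2) : Finset Ω) z * (v : Ω → K) z
        refine (Fintype.sum_equiv (MulAction.toPerm g) _ _ fun z => ?_).symm
        rw [MulAction.toPerm_apply, inv_smul_smul, Set.powersetCard.coe_smul]
        rw [← hc g (g⁻¹ • (P : Finset Ω)) z]
        congr 2
        rw [Finset.smul_finset_def, Finset.image_image]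
        simp [Function.comp_def])
    have hφ0 := h φ (by
      rintro ⟨v, hv⟩ hvc
      obtain ⟨r, hr⟩ := Submodule.mem_span_singleton.1 hvc
      funext P
      show ∑ z, c (P : Finset Ω) z * v z = 0
      have hr' : ∀ z, v z = r := fun z => by simpa using (congrFun hr z).symm
      simp only [hr', ← Finset.sum_mul]
      rw [hsum _ P.2, zero_mul])
    let v0 : Ω → K := fun z => (if z = a then 1 else 0) - (if z = y then 1 else 0)
    let v1 : Ω → K := fun z => (if z = x then 1 else 0) - (if z = y then 1 else 0)
    have hdiff : ∀ w : Ω, (∑ z, ((if z = w then (1 : K) else 0) - (if z = y then 1 else 0))) = 0 := by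
      intro w; simp [Finset.sum_sub_distrib]
    have hP0 : P0.card = 2 := Finset.card_pair hab
    have hOy : ¬ O P0 y := by
      rintro ⟨g, hg, hgx⟩
      refine hno ⟨g, ?_, hgx⟩
      have h1 : g • a ∈ P0 := hg ▸ Finset.mem_insert_self _ _
      have h2' : g • b ∈ P0 := hg ▸ Finset.mem_insert_of_mem (Finset.mem_singleton_self _)
      simp only [P0] at h1 h2'
      simp only [Finset.mem_insert, Finset.mem_singleton] at h1 h2'
      have hne : g • a ≠ g • b := fun e => hab (smul_left_cancel g e)
      rcases h1 with e1 | e1 <;> rcases h2' with e2 | e2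
      · exact absurd (e1.trans e2.symm) hne
      · exact Or.inl ⟨e1, e2⟩
      · exact Or.inr ⟨e1, e2⟩
      · exact absurd (e1.trans e2.symm) hne
    have hcy : c P0 y = 0 := by
      have : y ∉ P0 := by simp [P0, hya, hyb]
      simp only [c, if_neg hOy, if_neg this]
      split_ifs <;> simp
    have key : ∀ w : Ω, c P0 w = 0 := by
      intro w
      have := congrFun (congrArg (fun f => (f : (Cfsg.permSumZero K G Ω).toSubmodule → _)
        ⟨fun z => (if z = w then 1 else 0) - (if z = y then 1 else 0), hdiff w⟩)
        (show (⇑φ) = ⇑(0 : Representation.IntertwiningMap (Cfsg.permSumZero K G Ω).toRepresentation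
          (Cfsg.permRep K G (Set.powersetCard Ω 2))) from congrArg DFunLike.coe hφ0))
        (⟨P0, hP0⟩ : Set.powersetCard Ω 2)
      have e : ∑ z, c P0 z * ((if z = w then 1 else 0) - (if z = y then (1 : K) else 0)) = 0 := this
      simpa [mul_sub, Finset.sum_sub_distrib, hcy] using e
    by_cases h0 : (N P0 : K) = 0
    · have := key x
      simp only [c, if_pos h0, if_pos (show O P0 x from ⟨1, by simp [P0], one_smul _ _⟩)] at this
      exact one_ne_zero this
    · have hOa : ¬ O P0 a := by
        rintro ⟨g, hg, hgx⟩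
        have hmem : g • x ∈ ({g • a, g • b} : Finset Ω) := by rw [hg, hgx]; simp [P0]
        simp only [Finset.mem_insert, Finset.mem_singleton] at hmem
        rcases hmem with e | e
        · exact hxa (smul_left_cancel g e)
        · exact hxb (smul_left_cancel g e)
      have := key a
      simp only [c, if_neg h0, if_neg hOa, if_pos (show a ∈ P0 by simp [P0]), mul_one, mul_zero, sub_zero] at this
      exact h0 this
  refine Cfsg.Agent.Perm.isMultiplyPretransitive_of_fixing fun T hT x y hx hy => ?_
  interval_cases hc : T.card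
  · obtain rfl := Finset.card_eq_zero.1 hc
    by_cases hxy : x = y
    · exact ⟨1, by simp, by simp [hxy]⟩
    · obtain ⟨g, hg, -⟩ := h2 hxy (Ne.symm hxy)
      exact ⟨g, by simp, hg⟩
  · obtain ⟨a, rfl⟩ := Finset.card_eq_one.1 hc
    simp only [Finset.mem_singleton] at hx hy
    obtain ⟨g, hg1, hg2⟩ := h2 (Ne.symm hx) (Ne.symm hy)
    exact ⟨g, by simpa using hg1, hg2⟩
  · obtain ⟨a, b, hab, rfl⟩ := Finset.card_eq_two.1 hc
    simp only [Finset.mem_insert, Finset.mem_singleton, not_or] at hx hy
    obtain ⟨s, d, hs1, hs2, hs3, hda, hdb⟩ := hswap a b hab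
    have hto : ∀ z, z ≠ a → z ≠ b → ∃ g : G, g • a = a ∧ g • b = b ∧ g • d = z := by
      intro z hza hzb
      obtain ⟨g, (⟨g1, g2⟩ | ⟨g1, g2⟩), g3⟩ := hpair a b d z hab hda hdb hza hzb
      · exact ⟨g, g1, g2, g3⟩
      · exact ⟨g * s, by rw [mul_smul, hs1, g2], by rw [mul_smul, hs2, g1], by rw [mul_smul, hs3, g3]⟩
    obtain ⟨g, ga, gb, gd⟩ := hto x hx.1 hx.2
    obtain ⟨g', ga', gb', gd'⟩ := hto y hy.1 hy.2
    refine ⟨g' * g⁻¹, ?_, by rw [mul_smul, ← gd, inv_smul_smul, gd']⟩
    intro t ht
    simp only [Finset.mem_insert, Finset.mem_singleton] at ht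
    rcases ht with rfl | rfl
    · rw [mul_smul, inv_smul_eq_iff.2 ga.symm, ga']
    · rw [mul_smul, inv_smul_eq_iff.2 gb.symm, gb']

end Cfsg.Agent.S0672
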