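import Cfsg.Statements.S0676
import Cfsg.Agent.S0672
import Cfsg.Agent.S0674
-- import your own Cfsg.Agent.* helpers here

set_option autoImplicit false
set_option linter.style.haveILetI false
open Cfsg
open scoped Pointwise

namespace Cfsg.Agent.S0676

/-- A non-solvable transitive permutation group of prime degree `p` whose Sylow `p`-normaliser has even order is triply transitive. -/
theorem result {α : Type*} [Fintype α] [DecidableEq α] {p : ℕ} [Fact p.Prime] (hα : Fintype.card α = p) (G : Subgroup (Equiv.Perm α)) [MulAction.IsPretransitive G α] (hG : ¬ Group.IsSolvable G) (P : Sylow p G) (heven : Even (Nat.card (Subgroup.normalizer ((P : Subgroup G) : Set G)))) : MulAction.IsMultiplyPretransitive G α 3 := by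
  classical
  have hp := (Fact.out : p.Prime)
  have h2 : MulAction.IsMultiplyPretransitive G α 2 :=
    (Perm.burnside_prime_degree hα G).resolve_left hG
  -- the degree is odd
  have hp2 : p ≠ 2 := by
    rintro rfl
    apply hG
    haveI : Fact (Nat.Prime 2) := ⟨Nat.prime_two⟩
    have hc : Nat.card (Equiv.Perm α) = 2 := by
      rw [Nat.card_eq_fintype_card, Fintype.card_perm, hα]; rfl
    haveI : IsCyclic (Equiv.Perm α) := isCyclic_of_prime_card hc
    refine Group.isSolvable_of_comm fun a b => ?_
    obtain ⟨g, hg⟩ := IsCyclic.exists_generator (α := Equiv.Perm α)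
    obtain ⟨i, hi⟩ := Subgroup.mem_zpowers_iff.1 (hg a.1)
    obtain ⟨j, hj⟩ := Subgroup.mem_zpowers_iff.1 (hg b.1)
    apply Subtype.ext
    rw [Subgroup.coe_mul, Subgroup.coe_mul, ← hi, ← hj, ← zpow_add, ← zpow_add, add_comm]
  -- the Sylow subgroup has order `p`
  haveI : Nonempty α := Fintype.card_pos_iff.1 (hα ▸ hp.pos)
  obtain ⟨a₀⟩ := ‹Nonempty α›
  have hdvd : p ∣ Nat.card G := by
    rw [← hα, ← Nat.card_eq_fintype_card, ← MulAction.index_stabilizer_of_transitive G a₀]
    exact Subgroup.index_dvd_card _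
  have hPc : Nat.card (P : Subgroup G) = p := by
    obtain ⟨n, hn⟩ := P.isPGroup'.exists_card_eq
    have h1 : p ∣ Nat.card (P : Subgroup G) := P.dvd_card_of_dvd_card hdvd
    have h3 : Nat.card (P : Subgroup G) ∣ p.factorial := by
      have e : Nat.card (Equiv.Perm α) = p.factorial := by
        rw [Nat.card_eq_fintype_card, Fintype.card_perm, hα]
      rw [← e]
      exact (Subgroup.card_subgroup_dvd_card _).trans (Subgroup.card_subgroup_dvd_card G)
    rw [hn] at h1 h3 ⊢
    rcases n with _ | _ | n
    · simp at h1; exact absurd h1 hp.one_lt.ne'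
    · simp
    · exfalso
      have h4 : p * p ∣ p.factorial := dvd_trans (dvd_of_eq (sq p).symm) ((pow_dvd_pow p (by omega)).trans h3)
      rw [← Nat.mul_factorial_pred hp.ne_zero] at h4
      have h5 := (hp.dvd_factorial).1 ((Nat.mul_dvd_mul_iff_left hp.pos).1 h4)
      have := hp.two_le; omega
  obtain ⟨sP, hsP⟩ := exists_prime_orderOf_dvd_card' (G := (P : Subgroup G)) p (by rw [hPc])
  set S : G := (sP : G) with hSdef
  set s : Equiv.Perm α := (S : Equiv.Perm α) with hsdef
  have hs : orderOf s = p := by rw [hsdef, Subgroup.orderOf_coe, hSdef, Subgroup.orderOf_coe, hsP]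
  have hgen : (P : Subgroup G) = Subgroup.zpowers S := by
    refine (Subgroup.eq_of_le_of_card_ge ((Subgroup.zpowers_le).2 sP.2) ?_).symm
    rw [Nat.card_zpowers, Subgroup.orderOf_coe, hsP, hPc]
  -- the involution in the normaliser
  haveI : Fact (Nat.Prime 2) := ⟨Nat.prime_two⟩
  obtain ⟨tN, htN⟩ := exists_prime_orderOf_dvd_card'
    (G := Subgroup.normalizer ((P : Subgroup G) : Set G)) 2 heven.two_dvd
  set T : G := (tN : G) with hTdef
  set t : Equiv.Perm α := (T : Equiv.Perm α) with htdef
  have ht : orderOf t = 2 := by rw [htdef, Subgroup.orderOf_coe, hTdef, Subgroup.orderOf_coe, htN]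
  have htt : t * t = 1 := by rw [← sq, ← ht, pow_orderOf_eq_one]
  obtain ⟨a, hta⟩ := Equiv.Perm.exists_fixed_point_of_prime (p := 2) (n := 1) (σ := t)
    (by rw [hα]; intro h; exact hp2 ((Nat.prime_dvd_prime_iff_eq Nat.prime_two hp).1 h).symm)
    (by rw [pow_one, sq, htt])
  -- coordinates
  let pw : ZMod p → Equiv.Perm α := fun i => s ^ i.val
  have hpw : ∀ n : ℕ, pw (n : ZMod p) = s ^ n := fun n => by
    show s ^ _ = s ^ n
    rw [ZMod.val_natCast, ← hs, pow_mod_orderOf]
  have hpwadd : ∀ i j, pw (i + j) = pw i * pw j := fun i j => by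
    rw [← ZMod.natCast_zmod_val i, ← ZMod.natCast_zmod_val j, ← Nat.cast_add, hpw, hpw, hpw, pow_add]
  have hpw0 : pw 0 = 1 := by simpa using hpw 0
  have hpw1 : pw 1 = s := by simpa using hpw 1
  have hcyc : ∀ b, ∃ i : ZMod p, pw i a = b := by
    intro b
    have hc : s.IsCycle := Equiv.Perm.isCycle_of_prime_order'' (by rw [hα]; exact hp) (by rw [hs, hα])
    have hsupp : s.support = Finset.univ :=
      Finset.eq_univ_of_card _ (by rw [← hc.orderOf, hs, hα])
    have hne : ∀ x, s x ≠ x := fun x => Equiv.Perm.mem_support.1 (hsupp ▸ Finset.mem_univ x)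
    obtain ⟨i, hi⟩ := hc.exists_pow_eq (hne a) (hne b)
    exact ⟨(i : ZMod p), by rw [hpw, hi]⟩
  have hbij : Function.Bijective fun i : ZMod p => pw i a := by
    rw [Fintype.bijective_iff_surjective_and_card]
    exact ⟨hcyc, by rw [ZMod.card, hα]⟩
  let c : ZMod p ≃ α := Equiv.ofBijective _ hbij
  have hc : ∀ i j, pw i (c j) = c (i + j) := fun i j => by
    show pw i (pw j a) = pw (i + j) a
    rw [hpwadd, Equiv.Perm.mul_apply]
  have hcs : ∀ i, s (c i) = c (i + 1) := fun i => by rw [← hpw1, hc, add_comm]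
  have hpwinj : ∀ i j, pw i = pw j → i = j := fun i j h => hbij.1 (by simp only [h])
  -- the involution inverts the cycle
  obtain ⟨k, hk⟩ : ∃ k : ZMod p, t * s * t⁻¹ = pw k := by
    have hmem : T * S * T⁻¹ ∈ (P : Subgroup G) := (Subgroup.mem_normalizer_iff.1 tN.2 S).1 sP.2
    rw [hgen] at hmem
    obtain ⟨n, hn⟩ := (mem_powers_iff_mem_zpowers (x := S)).2 hmem
    refine ⟨(n : ZMod p), ?_⟩
    rw [hpw]
    have e := congrArg (fun g : G => (g : Equiv.Perm α)) hn
    simp only [Subgroup.coe_mul, Subgroup.coe_inv, SubmonoidClass.coe_pow] at e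
    exact e.symm
  have hconj : ∀ i, t * pw i * t⁻¹ = pw (k * i) := by
    have h1 : ∀ n : ℕ, t * pw (n : ZMod p) * t⁻¹ = pw (k * n) := by
      intro n
      induction n with
      | zero => simp [hpw0]
      | succ n ih =>
        rw [Nat.cast_succ, hpwadd, hpw1, mul_add, mul_one, hpwadd, ← ih, ← hk]
        group
    intro i
    rw [← ZMod.natCast_zmod_val i]; exact h1 _
  have hkk : k * k = 1 := by
    apply hpwinj
    rw [← hconj k, ← hk, hpw1]
    have e : t⁻¹ = t := inv_eq_of_mul_eq_one_right htt
    rw [e, ← mul_assoc, ← mul_assoc, htt, one_mul, mul_assoc, htt, mul_one]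
  have hk' : k = -1 := by
    refine (mul_self_eq_one_iff.1 hkk).resolve_left fun h1 => ?_
    have : t = 1 := by
      refine Equiv.ext fun b => ?_
      obtain ⟨i, rfl⟩ := hcyc b
      have e := congrArg (fun f : Equiv.Perm α => f a) (mul_inv_eq_iff_eq_mul.1 (hconj i))
      simp only [h1, one_mul, Equiv.Perm.mul_apply] at e
      rw [hta] at e
      simpa using e
    rw [this, orderOf_one] at ht
    omega
  have hct : ∀ i, t (c i) = c (-i) := by
    intro i
    have e := congrArg (fun f : Equiv.Perm α => f a) (mul_inv_eq_iff_eq_mul.1 (hconj i))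
    simp only [hk', neg_one_mul, Equiv.Perm.mul_apply] at e
    rw [hta] at e
    exact e
  -- the hypotheses of the criterion
  refine Cfsg.Agent.S0672.result (K := ZMod p) (p := p) h2 (by rw [hα]) ?_ ?_
  · intro b
    have hT : T ∈ MulAction.stabilizer G a := hta
    have hcard : Nat.card (MulAction.stabilizer G b) = Nat.card (MulAction.stabilizer G a) := by
      have h1 := Subgroup.card_mul_index (MulAction.stabilizer G a)
      have h3 := Subgroup.card_mul_index (MulAction.stabilizer G b)
      rw [MulAction.index_stabilizer_of_transitive, Nat.card_eq_fintype_card (α := α), hα] at h1 h3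
      exact Nat.eq_of_mul_eq_mul_right hp.pos (h3.trans h1.symm)
    have h4 : orderOf (⟨T, hT⟩ : MulAction.stabilizer G a) = 2 := by
      rw [← Subgroup.orderOf_coe]
      show orderOf T = 2
      rw [hTdef, Subgroup.orderOf_coe, htN]
    rw [hcard, even_iff_two_dvd, ← h4]
    exact orderOf_dvd_natCard _
  intro f hf
  have hsumone : ∑ _x : α, (1 : ZMod p) = 0 := by simp [hα]
  let W : Subrepresentation (Cfsg.permRep (ZMod p) G α) :=
    { toSubmodule := f.toLinearMap.ker.map (Cfsg.permSumZero (ZMod p) G α).toSubmodule.subtype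
      apply_mem_toSubmodule := by
        intro g v hv
        obtain ⟨w, hw, rfl⟩ := Submodule.mem_map.1 hv
        refine Submodule.mem_map.2 ⟨(Cfsg.permSumZero (ZMod p) G α).toRepresentation g w, ?_, rfl⟩
        rw [LinearMap.mem_ker] at hw ⊢
        show f _ = 0
        rw [Representation.IntertwiningMap.isIntertwining]
        rw [show f w = 0 from hw, map_zero] }
  have hW1 : (Cfsg.permConstants (ZMod p) G α).toSubmodule ≤ W.toSubmodule := by
    intro v hv
    obtain ⟨r, rfl⟩ := Submodule.mem_span_singleton.1 hv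
    refine Submodule.mem_map.2 ⟨⟨_, ?_⟩, ?_, rfl⟩
    · refine Submodule.smul_mem _ r ?_
      show ∑ _x : α, (1 : ZMod p) = 0
      exact hsumone
    · rw [LinearMap.mem_ker]
      exact hf _ (Submodule.mem_span_singleton.2 ⟨r, rfl⟩)
  have hW2 : W.toSubmodule ≤ (Cfsg.permSumZero (ZMod p) G α).toSubmodule := by
    intro v hv
    obtain ⟨w, -, rfl⟩ := Submodule.mem_map.1 hv
    exact w.2
  have htwo : ∀ x : ZMod p, x = -x → x = 0 := by
    intro x hx
    have h2x : (2 : ZMod p) * x = 0 := by rw [two_mul]; nth_rewrite 1 [hx]; exact neg_add_cancel x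
    refine (mul_eq_zero.1 h2x).resolve_left ?_
    have : ((2 : ℕ) : ZMod p) ≠ 0 := by
      rw [Ne, ZMod.natCast_eq_zero_iff]
      intro h; exact hp2 ((Nat.prime_dvd_prime_iff_eq hp Nat.prime_two).1 h)
    exact_mod_cast this
  let v : α → ZMod p := fun x => c.symm x
  have hv : v ∈ (Cfsg.permSumZero (ZMod p) G α).toSubmodule := by
    show ∑ x, c.symm x = 0
    rw [c.symm.sum_comp fun i => i]
    refine htwo _ ?_
    conv_lhs => rw [← Equiv.sum_comp (Equiv.neg (ZMod p))]
    exact Finset.sum_neg_distrib _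
  let one' : (Cfsg.permSumZero (ZMod p) G α).toSubmodule := ⟨fun _ => 1, hsumone⟩
  have hone : f one' = 0 := hf _ (Submodule.subset_span rfl)
  have hfv : f ⟨v, hv⟩ = 0 := by
    set F : Set.powersetCard α 2 → ZMod p := f ⟨v, hv⟩ with hF
    have hS : ∀ Q : Set.powersetCard α 2, F (S • Q) = F Q := by
      intro Q
      have e1 : (Cfsg.permSumZero (ZMod p) G α).toRepresentation S ⟨v, hv⟩ = ⟨v, hv⟩ - one' := by
        apply Subtype.ext
        funext x
        show c.symm (s⁻¹ x) = c.symm x - 1
        obtain ⟨i, rfl⟩ := c.surjective x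
        apply eq_sub_of_add_eq
        apply c.injective
        rw [← hcs, c.apply_symm_apply, c.symm_apply_apply, ← Equiv.Perm.mul_apply, mul_inv_cancel, Equiv.Perm.one_apply]
      have e2 := congrFun (Representation.IntertwiningMap.isIntertwining _ _ f S ⟨v, hv⟩) (S • Q)
      rw [e1, map_sub, hone, sub_zero] at e2
      exact e2.trans (congrArg F (inv_smul_smul S Q))
    have hT : ∀ Q : Set.powersetCard α 2, F (T • Q) = - F Q := by
      intro Q
      have e1 : (Cfsg.permSumZero (ZMod p) G α).toRepresentation T ⟨v, hv⟩ = - ⟨v, hv⟩ := by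
        apply Subtype.ext
        funext x
        show c.symm (t⁻¹ x) = - c.symm x
        obtain ⟨i, rfl⟩ := c.surjective x
        rw [show t⁻¹ = t from inv_eq_of_mul_eq_one_right htt, hct, c.symm_apply_apply, c.symm_apply_apply]
      have e2 := congrFun (Representation.IntertwiningMap.isIntertwining _ _ f T ⟨v, hv⟩) (T • Q)
      rw [e1, map_neg, Pi.neg_apply] at e2
      have e3 : - F (T • Q) = F Q := e2.trans (congrArg F (inv_smul_smul T Q))
      rw [← e3, neg_neg]
    have hSn : ∀ (n : ℕ) (Q : Set.powersetCard α 2), F (S ^ n • Q) = F Q := by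
      intro n
      induction n with
      | zero => simp
      | succ n ih => intro Q; rw [pow_succ', mul_smul, hS, ih]
    funext Q
    obtain ⟨x, y, -, hQ⟩ := Finset.card_eq_two.1 Q.2
    obtain ⟨i, rfl⟩ := c.surjective x
    obtain ⟨j, rfl⟩ := c.surjective y
    apply htwo
    calc F Q = F (S ^ (i + j).val • T • Q) := by
          congr 1
          apply Subtype.ext
          have hsm : ∀ (g : G) (z : α), g • z = (g : Equiv.Perm α) z := fun g z => rfl
          have hpc : ∀ z, ((S ^ (i + j).val : G) : Equiv.Perm α) z = pw (i + j) z := fun z => by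
            rw [SubmonoidClass.coe_pow]
          show (Q : Finset α) = (S ^ (i + j).val) • (T • (Q : Finset α))
          rw [hQ]
          simp only [Finset.smul_finset_insert, Finset.smul_finset_singleton, hsm, ← htdef, hct, hpc, hc]
          rw [Finset.pair_comm]
          congr 1 <;> ring_nf
      _ = - F Q := by rw [hSn, hT]
  have hvW : v ∈ W.toSubmodule := Submodule.mem_map.2 ⟨⟨v, hv⟩, hfv, rfl⟩
  rcases Cfsg.Agent.S0674.result hα G hG W hW1 hW2 with h | h
  · exfalso
    rw [h] at hvW
    obtain ⟨r, hr⟩ := Submodule.mem_span_singleton.1 hvW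
    have e0 := congrFun hr (c 0)
    have e1 := congrFun hr (c 1)
    simp [v] at e0 e1
    rw [e0] at e1
    exact zero_ne_one e1
  · refine DFunLike.ext _ _ fun w => ?_
    have hw : (w : α → ZMod p) ∈ W.toSubmodule := by rw [h]; exact w.2
    obtain ⟨w', hw', e⟩ := Submodule.mem_map.1 hw
    obtain rfl : w' = w := Subtype.ext e
    simpa using hw'

end Cfsg.Agent.S0676
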