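import Cfsg.Statements.S0345
import Mathlib
import Cfsg.Agent.Lib.Lie.ZassenhausOdd
import Cfsg.Agent.Lib.Lie.ZassenhausEvenTorus
import Cfsg.Agent.Lib.Lie.SharpSimple
import Cfsg.Agent.Lib.Perm.GenTuples
-- import your own Cfsg.Agent.* helpers here

set_option autoImplicit false
open Cfsg

namespace Cfsg.Agent.S0345

/-- In a finite simple Zassenhaus group the stabiliser `H` of two points `a ≠ b` is cyclic, and some involution
interchanging `a` and `b` inverts every element of `H`. -/
theorem result {G Ω : Type*} [Group G] [Finite G] [MulAction G Ω] [Finite Ω]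
    (hZ : Cfsg.IsZassenhausGroup G Ω) [IsSimpleGroup G]
    {a b : Ω} (hab : a ≠ b) :
    IsCyclic ↥(MulAction.stabilizer G a ⊓ MulAction.stabilizer G b) ∧
      ∃ v : G, orderOf v = 2 ∧ v • a = b ∧ v • b = a ∧ ∀ h ∈ MulAction.stabilizer G a ⊓ MulAction.stabilizer G b, v * h * v⁻¹ = h⁻¹ := by
  classical
  haveI : Fintype Ω := Fintype.ofFinite Ω
  obtain ⟨hF, h2, h3, hfix, -⟩ := id hZ
  haveI := hF
  rcases Nat.even_or_odd (Nat.card ↥(MulAction.stabilizer G a ⊓ MulAction.stabilizer G b)) with heven | hodd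
  swap
  · obtain ⟨hc, -, hs⟩ := Cfsg.Agent.Lie.ZassenhausOdd.cyclic_inverted h2 h3 hfix hab hodd
      (Cfsg.Agent.Lie.ZassenhausOdd.no_complement h2 hab hodd)
    obtain ⟨s, hsa, hsb⟩ := MulAction.is_two_pretransitive_iff.1 h2 hab hab.symm
    obtain ⟨hss, hinv⟩ := hs s hsa hsb
    exact ⟨hc, s, orderOf_eq_prime (by rw [sq, hss]) (fun h => hab (by rw [← hsa, h, one_smul])), hsa, hsb, hinv⟩
  · refine Cfsg.Agent.Lie.ZassenhausEvenTorus.cyclic_inverted h2 h3 hfix hab heven ?_
    by_contra hle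
    refine Cfsg.Agent.Lie.SharpSimple.false_of_sharp hZ hab heven ?_
    obtain ⟨x, hxa, hxb⟩ := Cfsg.Agent.Lie.Zassenhaus.three_le_card (G := G) hfix hab
    have hdvd : Nat.card ↥(MulAction.stabilizer G a ⊓ MulAction.stabilizer G b) ∣ Fintype.card Ω - 2 := by
      letI : MulAction ↥(MulAction.stabilizer G a ⊓ MulAction.stabilizer G b) {y : Ω // y ≠ a ∧ y ≠ b} :=
        { smul := fun g y => ⟨(g : G) • (y : Ω),
            fun h => y.2.1 (MulAction.injective (g : G) (h.trans g.2.1.symm)),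
            fun h => y.2.2 (MulAction.injective (g : G) (h.trans g.2.2.symm))⟩
          one_smul := fun y => Subtype.ext (one_smul G (y : Ω))
          mul_smul := fun g g' y => Subtype.ext (mul_smul (g : G) (g' : G) (y : Ω)) }
      have h1 := Cfsg.Agent.Perm.card_dvd_of_free (X := {y : Ω // y ≠ a ∧ y ≠ b})
        (A := ↥(MulAction.stabilizer G a ⊓ MulAction.stabilizer G b)) fun g y hy =>
        Subtype.ext (h3 g a b y hab (Ne.symm y.2.2) (Ne.symm y.2.1) g.2.1 g.2.2 (congrArg Subtype.val hy))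
      rwa [Nat.card_eq_fintype_card (α := {y : Ω // y ≠ a ∧ y ≠ b}), Fintype.card_subtype,
        show (Finset.univ.filter fun y : Ω => y ≠ a ∧ y ≠ b) = ({a, b} : Finset Ω)ᶜ by ext; simp,
        Finset.card_compl, Finset.card_pair hab] at h1
    have hΩ : 0 < Fintype.card Ω - 2 := by
      have h1 : ({a, b, x} : Finset Ω).card = 3 := Finset.card_eq_three.2 ⟨a, b, x, hab, hxa.symm, hxb.symm, rfl⟩
      have := Finset.card_le_univ ({a, b, x} : Finset Ω)
      omega
    obtain ⟨k, hk⟩ := hdvd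
    rcases k with _ | _ | k
    · omega
    · omega
    · exfalso
      apply hle
      rw [hk]
      nlinarith

end Cfsg.Agent.S0345
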