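import Cfsg.Statements.S3620
import Mathlib
import Cfsg.Agent.Lib.Lie.JordanAlt

set_option autoImplicit false
open Cfsg

namespace Cfsg.Agent.S3620

open MulAction
open Cfsg.Agent.Lie.JordanThree (IsJ)
open scoped Pointwise

universe u v

theorem qp_even : ∀ (n : ℕ) (G : Type u) (Ω : Type v) [Group G] [Finite G] [MulAction G Ω]
    [FaithfulSMul G Ω] [Fintype Ω] [DecidableEq Ω] (Γ : Set Ω), Nat.card Ω = n →
    (∀ N : Subgroup G, N.Normal → N ≠ ⊥ → IsPretransitive ↥N Ω) → IsJ G Γ → 1 < Γ.ncard →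
    2 * Γ.ncard < n →
    ∀ σ : Equiv.Perm Ω, Equiv.Perm.sign σ = 1 → ∃ x : G, (MulAction.toPerm x : Equiv.Perm Ω) = σ := by
  intro n
  induction n using Nat.strong_induction_on with
  | _ n ih =>
    intro G Ω _ _ _ _ _ _ Γ hn hqp hJ h1 h2 σ hσ
    classical
    obtain ⟨γ, hγ⟩ : Γ.Nonempty := (Set.ncard_pos (Set.toFinite _)).1 (by omega)
    obtain ⟨δ, hδ, hδγ⟩ := Set.exists_ne_of_one_lt_ncard h1 γ
    obtain ⟨k₀, hk₀, hk₀γ⟩ := hJ γ hγ δ hδ
    have htop : (⊤ : Subgroup G) ≠ ⊥ := fun h => hδγ (by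
      have h' : k₀ = 1 := Subgroup.mem_bot.1 (h ▸ Subgroup.mem_top k₀)
      rw [← hk₀γ, h', one_smul])
    haveI hpt : IsPretransitive G Ω := ⟨fun x y => by
      obtain ⟨g, hg⟩ := (hqp ⊤ inferInstance htop).1 x y
      exact ⟨(g : G), hg⟩⟩
    by_cases hprim : IsPreprimitive G Ω
    · exact Cfsg.Agent.Lie.JordanAlt.even_mem hprim hJ h1 (hn ▸ h2) σ hσ
    exfalso
    obtain ⟨B, hB, htriv⟩ : ∃ B : Set Ω, IsBlock G B ∧ ¬ IsTrivialBlock B := by
      by_contra hcon
      exact hprim ⟨fun {B} hB => not_not.1 fun h => hcon ⟨B, hB, h⟩⟩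
    rw [IsTrivialBlock, not_or] at htriv
    obtain ⟨hsub, hBuniv⟩ := htriv
    obtain ⟨b₀, hb₀⟩ : B.Nonempty := by
      by_contra h
      exact hsub (Set.not_nonempty_iff_eq_empty.1 h ▸ Set.subsingleton_empty)
    set b := B.ncard
    have hb2 : 2 ≤ b := by
      by_contra h
      exact hsub (Set.ncard_le_one_iff_subsingleton.1 (by omega))
    let O := MulAction.orbit G B
    have hmeet : ∀ (X Y : O) (z : Ω), z ∈ (X : Set Ω) → z ∈ (Y : Set Ω) → X = Y := by
      rintro ⟨_, u, rfl⟩ ⟨_, w, rfl⟩ z hz1 hz2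
      rcases hB.smul_eq_smul_or_disjoint u w with h | h
      · exact Subtype.ext h
      · exact absurd hz2 (Set.disjoint_left.1 h hz1)
    have hXb : ∀ X : O, (X : Set Ω).ncard = b := by
      rintro ⟨_, u, rfl⟩
      show (u • B).ncard = b
      rw [← Set.image_smul, Set.ncard_image_of_injective _ (MulAction.injective u)]
    have hcov : ∀ z : Ω, ∃ X : O, z ∈ (X : Set Ω) := fun z => by
      obtain ⟨g, hg⟩ := exists_smul_eq G b₀ z
      exact ⟨⟨g • B, g, rfl⟩, b₀, hb₀, hg⟩
    choose cl hcl using hcov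
    have hclX : ∀ (X : O) z, z ∈ (X : Set Ω) → cl z = X := fun X z hz => hmeet _ _ z (hcl z) hz
    have hsmul : ∀ (g : G) (X : O) z, z ∈ (X : Set Ω) → g • z ∈ ((g • X : O) : Set Ω) :=
      fun g X z hz => Set.smul_mem_smul_set (a := g) hz
    have hne : ∀ X : O, (X : Set Ω).Nonempty := fun X =>
      (Set.ncard_pos (Set.toFinite _)).1 (by rw [hXb]; omega)
    -- elements fixing everything outside Γ
    have hfixX : ∀ k : G, (∀ z ∉ Γ, k • z = z) → ∀ X : O, ∀ z ∈ (X : Set Ω), z ∉ Γ → k • X = X :=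
      fun k hk X z hz hzΓ => hmeet _ _ z (by rw [← hk z hzΓ]; exact hsmul k X z hz) hz
    -- no translate contains Γ
    have hnotin : ∀ X₀ : O, ¬ Γ ⊆ (X₀ : Set Ω) := by
      intro X₀ hX₀
      let N : Subgroup G :=
        { carrier := {g | ∀ X : O, g • X = X}
          one_mem' := fun X => one_smul G X
          mul_mem' := fun {a c} ha hc X => by rw [mul_smul, hc, ha]
          inv_mem' := fun {a} ha X => by rw [inv_smul_eq_iff, ha] }
      have hN : N.Normal := ⟨fun a ha g X => by rw [mul_smul, mul_smul, ha, smul_inv_smul]⟩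
      have hkN : k₀ ∈ N := by
        intro X
        by_cases h : X = X₀
        · subst h
          exact hmeet _ _ δ (hk₀γ ▸ hsmul k₀ X γ (hX₀ hγ)) (hX₀ hδ)
        · obtain ⟨z, hz⟩ := hne X
          exact hfixX k₀ hk₀ X z hz fun hzΓ => h (hmeet _ _ z hz (hX₀ hzΓ))
      have hNne : N ≠ ⊥ := fun h => hδγ (by
        have h' : k₀ = 1 := Subgroup.mem_bot.1 (h ▸ hkN)
        rw [← hk₀γ, h', one_smul])
      obtain ⟨z, hz⟩ : ∃ z, z ∉ B := by
        by_contra hcon
        exact hBuniv (Set.eq_univ_of_forall fun z => not_not.1 fun h => hcon ⟨z, h⟩)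
      obtain ⟨g, hg⟩ := (hqp N hN hNne).1 b₀ z
      have := hsmul (g : G) ⟨B, mem_orbit_self B⟩ b₀ hb₀
      rw [g.2 ⟨B, mem_orbit_self B⟩] at this
      exact hz (hg ▸ this)
    -- translates meeting Γ lie in Γ
    have hinΓ : ∀ X : O, ∀ z ∈ (X : Set Ω), z ∈ Γ → (X : Set Ω) ⊆ Γ := by
      intro X z hz hzΓ w hw
      by_contra hwΓ
      refine hnotin X fun y hy => ?_
      obtain ⟨k, hk, hky⟩ := hJ z hzΓ y hy
      have := hsmul k X z hz
      rw [hfixX k hk X w hw hwΓ, hky] at this
      exact this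
    let Γb : Set O := {X | (X : Set Ω) ⊆ Γ}
    have houtΓ : ∀ X : O, X ∉ Γb → ∀ z ∈ (X : Set Ω), z ∉ Γ := fun X hX z hz hzΓ => hX (hinΓ X z hz hzΓ)
    have hfixb : ∀ k : G, (∀ z ∉ Γ, k • z = z) → ∀ X : O, X ∉ Γb → k • X = X := fun k hk X hX => by
      obtain ⟨z, hz⟩ := hne X
      exact hfixX k hk X z hz (houtΓ X hX z hz)
    -- counting
    haveI : Fintype O := Fintype.ofFinite O
    have hcount : ∀ (P : Set O) (A : Set Ω), (∀ z, z ∈ A ↔ cl z ∈ P) → A.ncard = P.ncard * b := by
      intro P A hPA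
      rw [Set.ncard_eq_toFinset_card' A, Set.ncard_eq_toFinset_card' P,
        Finset.card_eq_sum_card_fiberwise (f := cl) (t := P.toFinset) (fun z hz => by simpa using (hPA z).1 (by simpa using hz)),
        Finset.sum_const_nat (m := b) fun X hX => by
          rw [← hXb X, Set.ncard_eq_toFinset_card']
          congr 1
          ext z
          simp only [Finset.mem_filter, Set.mem_toFinset]
          exact ⟨fun h => h.2 ▸ hcl z, fun h => ⟨(hPA z).2 (by rw [hclX X z h]; simpa using hX), hclX X z h⟩⟩]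
    have hΓeq : Γ.ncard = Γb.ncard * b := hcount Γb Γ fun z =>
      ⟨fun hz => hinΓ _ z (hcl z) hz, fun h => h (hcl z)⟩
    have hΩeq : Nat.card Ω = Nat.card O * b := by
      rw [← Set.ncard_univ, ← Set.ncard_univ]; exact hcount _ _ fun z => by simp
    set m := Nat.card O
    have hcb : 2 ≤ Γb.ncard := by
      by_contra hle
      have hcl' : cl γ ∈ Γb := hinΓ _ γ (hcl γ) hγ
      refine hnotin (cl γ) fun y hy => ?_
      have hcl'' : cl y ∈ Γb := hinΓ _ y (hcl y) hy
      rw [← (Set.ncard_le_one (Set.toFinite _)).1 (by omega) _ hcl'' _ hcl']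
      exact hcl y
    have h2m : 2 * Γb.ncard < m := by
      rw [← hn, hΓeq, hΩeq] at h2
      exact Nat.lt_of_mul_lt_mul_right (a := b) (by rw [mul_assoc]; exact h2)
    -- the action on translates
    haveI : FaithfulSMul G O := by
      let N : Subgroup G :=
        { carrier := {g | ∀ X : O, g • X = X}
          one_mem' := fun X => one_smul G X
          mul_mem' := fun {a c} ha hc X => by rw [mul_smul, hc, ha]
          inv_mem' := fun {a} ha X => by rw [inv_smul_eq_iff, ha] }
      have hN : N.Normal := ⟨fun a ha g X => by rw [mul_smul, mul_smul, ha, smul_inv_smul]⟩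
      have hNbot : N = ⊥ := by
        by_contra hNne
        obtain ⟨z, hz⟩ : ∃ z, z ∉ B := by
          by_contra hcon
          exact hBuniv (Set.eq_univ_of_forall fun z => not_not.1 fun h => hcon ⟨z, h⟩)
        obtain ⟨g, hg⟩ := (hqp N hN hNne).1 b₀ z
        have := hsmul (g : G) ⟨B, mem_orbit_self B⟩ b₀ hb₀
        rw [g.2 ⟨B, mem_orbit_self B⟩] at this
        exact hz (hg ▸ this)
      refine ⟨fun {g g'} h => ?_⟩
      have : g'⁻¹ * g ∈ N := fun X => by rw [mul_smul, h, inv_smul_smul]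
      rw [hNbot, Subgroup.mem_bot, inv_mul_eq_one] at this
      exact this.symm
    have hqpb : ∀ N : Subgroup G, N.Normal → N ≠ ⊥ → IsPretransitive N O := by
      intro N hN hNne
      refine ⟨fun X Y => ?_⟩
      obtain ⟨x, hx⟩ := hne X
      obtain ⟨y, hy⟩ := hne Y
      obtain ⟨g, hg⟩ := (hqp N hN hNne).1 x y
      refine ⟨g, hmeet _ _ y ?_ hy⟩
      show y ∈ (((g : G) • X : O) : Set Ω)
      rw [← hg]
      exact hsmul (g : G) X x hx
    have hJb : IsJ G Γb := by
      intro X hX Y hY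
      obtain ⟨x, hx⟩ := hne X
      obtain ⟨y, hy⟩ := hne Y
      obtain ⟨k, hk, hkx⟩ := hJ x (hX hx) y (hY hy)
      exact ⟨k, hfixb k hk, hmeet _ _ y (hkx ▸ hsmul k X x hx) hy⟩
    have hm1 : 1 ≤ m := by omega
    have hmn : m < n := by
      rw [← hn, hΩeq]
      calc m = m * 1 := (mul_one m).symm
        _ < m * b := Nat.mul_lt_mul_of_pos_left (by omega) (by omega)
    have hreal := ih m hmn G O Γb rfl hqpb hJb (by omega) h2m
    let φ : G →* Equiv.Perm O := toPermHom G O
    have hφ : Function.Injective φ := toPerm_injective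
    let A : Subgroup G := (alternatingGroup O).comap φ
    haveI : Nontrivial O := Finite.one_lt_card_iff_nontrivial.1 (show 1 < Nat.card O by omega)
    -- the even part of the stabiliser of Γ
    obtain ⟨k, hk, hkA, hk1⟩ : ∃ k : G, (∀ z ∉ Γ, k • z = z) ∧ k ∈ A ∧ k ≠ 1 := by
      by_contra hcon
      push Not at hcon
      have hsub : Γ ⊆ {γ, δ} := by
        intro y hy
        obtain ⟨k, hk, hky⟩ := hJ γ hγ y hy
        by_cases hkA : k ∈ A
        · left; rw [← hky, hcon k hk hkA, one_smul]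
        right
        have hk₀A : k₀ ∉ A := fun h => hδγ (by rw [← hk₀γ, hcon k₀ hk₀ h, one_smul])
        have hmul : k₀⁻¹ * k ∈ A := by
          simp only [A, Subgroup.mem_comap, Equiv.Perm.mem_alternatingGroup] at hkA hk₀A ⊢
          rw [map_mul, map_inv, map_mul, map_inv,
            (Int.units_eq_one_or _).resolve_left hkA, (Int.units_eq_one_or _).resolve_left hk₀A]
          rfl
        have hz : ∀ z ∉ Γ, (k₀⁻¹ * k) • z = z := fun z hz => by
          rw [mul_smul, hk z hz, inv_smul_eq_iff, hk₀ z hz]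
        have he := inv_mul_eq_one.1 (hcon _ hz hmul)
        rw [Set.mem_singleton_iff, ← hky, ← he, hk₀γ]
      have hle := Set.ncard_le_ncard hsub (Set.toFinite _)
      rw [hΓeq, Set.ncard_pair hδγ.symm] at hle
      have : 2 * 2 ≤ Γb.ncard * b := Nat.mul_le_mul hcb hb2
      omega
    have hksupp : ∀ X : O, φ k X ≠ X → X ∈ Γb := fun X hX =>
      not_not.1 fun h => hX (hfixb k hk X h)
    have hcb3 : 3 ≤ Γb.ncard := by
      by_contra h3
      have hle : (φ k).support.card ≤ 2 := by
        refine le_trans ?_ (show Γb.ncard ≤ 2 by omega)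
        rw [Set.ncard_eq_toFinset_card']
        refine Finset.card_le_card fun X hX => ?_
        rw [Set.mem_toFinset]
        exact hksupp X (Equiv.Perm.mem_support.1 hX)
      have h0 : (φ k).support.card ≠ 0 := fun e =>
        hk1 (hφ ((Equiv.Perm.card_support_eq_zero.1 e).trans (map_one φ).symm))
      have h1' := Equiv.Perm.card_support_ne_one (φ k)
      have hsw := Equiv.Perm.card_support_eq_two.1 (show (φ k).support.card = 2 by omega)
      have := Equiv.Perm.mem_alternatingGroup.1 hkA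
      rw [hsw.sign_eq] at this
      exact absurd this (by decide)
    obtain ⟨X₀, hX₀⟩ : ∃ X₀ : O, X₀ ∉ Γb := by
      by_contra hcon
      push Not at hcon
      rw [Set.eq_univ_of_forall hcon, Set.ncard_univ] at h2m
      omega
    let P := {X : O // X ≠ X₀}
    have hPcard : 5 ≤ Nat.card P := by
      rw [Nat.card_eq_fintype_card, Fintype.card_subtype_compl, Fintype.card_subtype_eq, ← Nat.card_eq_fintype_card]
      omega
    have hsimp : IsSimpleGroup (alternatingGroup P) := alternatingGroup.isSimpleGroup hPcard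
    have hlift : ∀ s : alternatingGroup P, Equiv.Perm.ofSubtype (s : Equiv.Perm P) ∈ φ.range := fun s => by
      obtain ⟨x, hx⟩ := hreal (Equiv.Perm.ofSubtype (s : Equiv.Perm P))
        (by rw [Equiv.Perm.sign_ofSubtype]; exact Equiv.Perm.mem_alternatingGroup.1 s.2)
      exact ⟨x, hx⟩
    let ψ : alternatingGroup P →* G :=
      (MonoidHom.ofInjective hφ).symm.toMonoidHom.comp
        (((Equiv.Perm.ofSubtype : Equiv.Perm P →* Equiv.Perm O).comp
          (alternatingGroup P).subtype).codRestrict φ.range hlift)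
    have hψ : ∀ s : alternatingGroup P, φ (ψ s) = Equiv.Perm.ofSubtype (s : Equiv.Perm P) := fun s =>
      MonoidHom.apply_ofInjective_symm hφ ⟨_, hlift s⟩
    have hψX : ∀ s : alternatingGroup P, ψ s • X₀ = X₀ := fun s => by
      show φ (ψ s) X₀ = X₀
      rw [hψ, Equiv.Perm.ofSubtype_apply_of_not_mem]
      exact fun h => h rfl
    let L : Subgroup (alternatingGroup P) := (fixingSubgroup G (X₀ : Set Ω)).comap ψ
    have hL : L.Normal := by
      constructor
      intro a ha g
      rw [Subgroup.mem_comap, mem_fixingSubgroup_iff] at ha ⊢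
      intro z hz
      have hz' : (ψ g)⁻¹ • z ∈ (X₀ : Set Ω) := by
        have := hsmul (ψ g)⁻¹ X₀ z hz
        rwa [show (ψ g)⁻¹ • X₀ = X₀ by rw [inv_smul_eq_iff, hψX]] at this
      rw [map_mul, map_mul, map_inv, mul_smul, mul_smul, ha _ hz', smul_inv_smul]
    have hpre : ∀ g : G, g ∈ A → g • X₀ = X₀ → ∃ s : alternatingGroup P, ψ s = g := by
      intro g hgA hg
      have hiff : ∀ X, φ g X ≠ X₀ ↔ X ≠ X₀ := fun X => by
        show g • X ≠ X₀ ↔ X ≠ X₀
        conv_lhs => rw [← hg, (MulAction.injective g).ne_iff]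
      refine ⟨⟨(φ g).subtypePerm hiff, ?_⟩, hφ ?_⟩
      · rw [Equiv.Perm.mem_alternatingGroup, ← Equiv.Perm.sign_ofSubtype, Equiv.Perm.ofSubtype_subtypePerm]
        · exact Equiv.Perm.mem_alternatingGroup.1 hgA
        · intro X hX e; subst e; exact hX hg
      · rw [hψ]
        exact Equiv.Perm.ofSubtype_subtypePerm hiff (fun X hX e => by subst e; exact hX hg)
    have hLtop : L = ⊤ := by
      rcases hsimp.eq_bot_or_eq_top_of_normal L hL with h | h
      · exfalso
        obtain ⟨s, hs⟩ := hpre k hkA (hfixb k hk X₀ hX₀)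
        have hsL : s ∈ L := by
          rw [Subgroup.mem_comap, hs, mem_fixingSubgroup_iff]
          exact fun z hz => hk z (houtΓ X₀ hX₀ z hz)
        rw [h, Subgroup.mem_bot] at hsL
        rw [hsL, map_one] at hs
        exact hk1 hs.symm
      · exact h
    have hA : A.Normal := Subgroup.Normal.comap inferInstance φ
    have hAne : A ≠ ⊥ := fun h => hk1 (Subgroup.mem_bot.1 (h ▸ hkA))
    obtain ⟨x, hx⟩ := hne X₀
    obtain ⟨y, hy, hyx⟩ := Set.exists_ne_of_one_lt_ncard (show 1 < (X₀ : Set Ω).ncard by rw [hXb]; omega) x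
    obtain ⟨g, hg⟩ := (hqp A hA hAne).1 x y
    have hgX : (g : G) • X₀ = X₀ := hmeet _ _ y (hg ▸ hsmul (g : G) X₀ x hx) hy
    obtain ⟨s, hs⟩ := hpre g g.2 hgX
    have hsL : s ∈ L := hLtop ▸ Subgroup.mem_top s
    rw [Subgroup.mem_comap, hs, mem_fixingSubgroup_iff] at hsL
    exact hyx (hg.symm.trans (hsL x hx))

/-- Let G act faithfully on a finite set in such a way that every non-trivial normal subgroup of G is transitive (G is quasiprimitive). Let Γ be a subset with more than one point and fewer than half of the points, such that the pointwise stabilizer of the complement of Γ acts transitively on Γ. Then G induces every even permutation of the set (G is the alternating or the symmetric group). -/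
theorem result {G Ω : Type*} [Group G] [Finite G] [MulAction G Ω] [FaithfulSMul G Ω] [Fintype Ω] [DecidableEq Ω]
    (hqp : ∀ N : Subgroup G, N.Normal → N ≠ ⊥ → MulAction.IsPretransitive ↥N Ω)
    (Γ : Set Ω) (hΓ1 : 1 < Γ.ncard) (hΓ2 : 2 * Γ.ncard < Fintype.card Ω)
    (hJ : MulAction.IsPretransitive ↥(fixingSubgroup G Γᶜ) ↥(SubMulAction.ofFixingSubgroup G Γᶜ)) :
    ∀ σ : Equiv.Perm Ω, Equiv.Perm.sign σ = 1 → ∃ x : G, (MulAction.toPerm x : Equiv.Perm Ω) = σ := by
  have hn : Nat.card Ω = Fintype.card Ω := Nat.card_eq_fintype_card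
  refine qp_even _ G Ω Γ hn hqp ?_ hΓ1 hΓ2
  intro x hx y hy
  obtain ⟨k, hk⟩ := hJ.1 ⟨x, by simpa [SubMulAction.mem_ofFixingSubgroup_iff] using hx⟩
    ⟨y, by simpa [SubMulAction.mem_ofFixingSubgroup_iff] using hy⟩
  exact ⟨k, fun z hz => (mem_fixingSubgroup_iff G).1 k.2 z hz, congrArg Subtype.val hk⟩

end Cfsg.Agent.S3620
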