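import Cfsg.Statements.S0051
import Cfsg.Agent.Lib.Solv.Basic

set_option autoImplicit false
open Cfsg

open scoped Pointwise commutatorElement

namespace Cfsg.Agent.S0051

/-- Gaschütz's Theorem, existence: an abelian normal subgroup K that is complemented inside a subgroup U ≥ K whose index is coprime to the order of K is complemented in the whole group. -/
theorem result {G : Type*} [Group G] [Finite G] (K U : Subgroup G) [K.Normal] [IsMulCommutative K]
    (hKU : K ≤ U) (hcop : (Nat.card K).Coprime U.index)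
    (A : Subgroup G) (hAU : A ≤ U) (hAK : A ⊓ K = ⊥) (hKA : K ⊔ A = U) :
    ∃ H : Subgroup G, Subgroup.IsComplement' K H := by
  classical
  letI : CommGroup K := { (inferInstance : Group K) with mul_comm := (‹IsMulCommutative K›).is_comm.comm }
  have := Fintype.ofFinite (G ⧸ U)
  obtain ⟨τ, hτ⟩ := Function.Surjective.hasRightInverse (QuotientGroup.mk_surjective (s := U))
  have hdec : ∀ g : G, ∀ c : G ⧸ U, ∃ k : K, ∃ a ∈ A, g * τ c = k * τ (g • c) * a := by
    intro g c
    have hu : (τ (g • c))⁻¹ * (g * τ c) ∈ U := by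
      refine QuotientGroup.eq.1 ?_
      rw [hτ]
      show g • c = g • ((τ c : G) : G ⧸ U)
      rw [hτ]
    obtain ⟨k, hk, a, ha, e⟩ := Subgroup.mem_sup_of_normal_left.1 (hKA.ge hu)
    refine ⟨⟨_, (‹K.Normal›).conj_mem k hk (τ (g • c))⟩, a, ha, ?_⟩
    calc g * τ c = τ (g • c) * ((τ (g • c))⁻¹ * (g * τ c)) := by group
      _ = _ := by rw [← e]; group
  choose κ α hα hκ using hdec
  have huniq : ∀ (x : G) (k k' : K) (a a' : G), a ∈ A → a' ∈ A →
      (k : G) * x * a = k' * x * a' → k = k' := by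
    intro x k k' a a' ha ha' e
    have h1 : x⁻¹ * ((k'⁻¹ * k : K) : G) * x = a' * a⁻¹ := by
      push_cast
      calc x⁻¹ * ((k' : G)⁻¹ * k) * x = x⁻¹ * (k' : G)⁻¹ * (k * x * a) * a⁻¹ := by group
        _ = x⁻¹ * (k' : G)⁻¹ * (k' * x * a') * a⁻¹ := by rw [e]
        _ = _ := by group
    have h2 : a' * a⁻¹ ∈ A ⊓ K := ⟨A.mul_mem ha' (A.inv_mem ha), by
      rw [← h1]
      simpa using (‹K.Normal›).conj_mem _ (k'⁻¹ * k).2 x⁻¹⟩
    rw [hAK, Subgroup.mem_bot] at h2
    rw [h2] at h1
    have h3 : ((k'⁻¹ * k : K) : G) = 1 := by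
      have h4 := congrArg (fun t => x * t * x⁻¹) h1
      simpa [mul_assoc] using h4
    exact (inv_mul_eq_one.1 (Subtype.ext h3 : k'⁻¹ * k = 1)).symm
  let D : G → K := fun g => ∏ c, κ g c
  have hmul : ∀ g h, D (g * h) = MulAut.conjNormal g (D h) * D g := by
    intro g h
    show ∏ c, κ (g * h) c = MulAut.conjNormal g (∏ c, κ h c) * ∏ c, κ g c
    rw [map_prod, ← Equiv.prod_comp (MulAction.toPerm h) (κ g), ← Finset.prod_mul_distrib]
    refine Finset.prod_congr rfl fun c _ => ?_
    refine huniq (τ ((g * h) • c)) _ _ (α (g * h) c) (α g (h • c) * α h c) (hα _ _)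
      (A.mul_mem (hα _ _) (hα _ _)) ?_
    rw [← hκ, Subgroup.coe_mul, MulAut.conjNormal_apply, MulAction.toPerm_apply, mul_smul]
    have h1 := hκ h c
    have h2 := hκ g (h • c)
    calc g * h * τ c = g * (h * τ c) := mul_assoc _ _ _
      _ = g * (κ h c : G) * g⁻¹ * (g * τ (h • c)) * α h c := by rw [h1]; group
      _ = _ := by rw [h2]; group
  have hK : ∀ k : K, D (k : G) = k ^ U.index := by
    intro k
    show ∏ c, κ (k : G) c = _
    rw [Finset.prod_eq_pow_card (b := k), Finset.card_univ, ← Nat.card_eq_fintype_card]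
    · rfl
    intro c _
    have hc : (k : G) • c = c := by
      conv_lhs => rw [← hτ c]
      conv_rhs => rw [← hτ c]
      show ((k : G) * τ c : G ⧸ U) = _
      rw [eq_comm, QuotientGroup.eq, ← mul_assoc]
      have := (‹K.Normal›).conj_mem _ k.2 (τ c)⁻¹
      rw [inv_inv] at this
      exact hKU this
    refine huniq (τ c) _ _ (α (k : G) c) 1 (hα _ _) A.one_mem ?_
    have := hκ (k : G) c
    rw [hc] at this
    rw [← this, mul_one]
  have h1 : D 1 = 1 := by simpa using hK 1
  let H : Subgroup G :=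
    { carrier := {g | D g = 1}
      one_mem' := h1
      mul_mem' := fun {a b} (ha : D a = 1) (hb : D b = 1) => by
        show D (a * b) = 1
        rw [hmul, ha, hb, map_one, one_mul]
      inv_mem' := fun {a} (ha : D a = 1) => by
        have := hmul a⁻¹ a
        rw [inv_mul_cancel, h1, ha, map_one, one_mul] at this
        exact this.symm }
  have hbij := (powCoprime (G := K) hcop).bijective
  refine ⟨H, Subgroup.isComplement'_of_disjoint_and_mul_eq_univ ?_ ?_⟩
  · rw [disjoint_iff, eq_bot_iff]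
    rintro x ⟨hxK, hx : D x = 1⟩
    have h2 := hK ⟨x, hxK⟩
    rw [show D ((⟨x, hxK⟩ : K) : G) = 1 from hx] at h2
    have h3 : (⟨x, hxK⟩ : K) = 1 := hbij.1 (by
      show (⟨x, hxK⟩ : K) ^ U.index = (1 : K) ^ U.index
      rw [← h2, one_pow])
    exact Subgroup.mem_bot.2 (congrArg Subtype.val h3)
  · rw [Set.eq_univ_iff_forall]
    intro g
    obtain ⟨k, hk⟩ := hbij.2 (D g)
    have hk : k ^ U.index = D g := hk
    refine ⟨k, k.2, (k⁻¹ : K) * g, ?_, by simp⟩
    show D ((k⁻¹ : K) * g) = 1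
    have hfix : MulAut.conjNormal ((k⁻¹ : K) : G) (D g) = D g := by
      apply Subtype.ext
      rw [MulAut.conjNormal_apply]
      have h5 := congrArg Subtype.val (mul_comm (k⁻¹ : K) (D g))
      rw [Subgroup.coe_mul, Subgroup.coe_mul] at h5
      rw [h5, mul_inv_cancel_right]
    rw [hmul, hK, inv_pow, hfix, ← hk, mul_inv_cancel]

end Cfsg.Agent.S0051
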