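import Cfsg.Statements.S3278
import Mathlib
import Cfsg.Agent.Lib.Lie.InvCentralizerFour
-- import your own Cfsg.Agent.* helpers here

set_option autoImplicit false
open Cfsg

namespace Cfsg.Agent.S3278

/-- Let G be a finite simple group with an involution x such that a Sylow 2-subgroup of C_G(x) is a Klein four-group which is normal in C_G(x). Then G is isomorphic to the alternating group of degree 5 (that is, to PSL(2, 5)). -/
theorem result {G : Type*} [Group G] [Finite G] [IsSimpleGroup G] (x : G) (hx : orderOf x = 2)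
    (S₀ : Subgroup G) (hle : S₀ ≤ Subgroup.centralizer ({x} : Set G)) (hK : IsKleinFour ↥S₀)
    (hodd : ¬ 2 ∣ S₀.relIndex (Subgroup.centralizer ({x} : Set G))) (hn : (S₀.subgroupOf (Subgroup.centralizer ({x} : Set G))).Normal) :
    Nonempty (G ≃* ↥(alternatingGroup (Fin 5))) := by
  classical
  letI := Fintype.ofFinite G
  haveI : Fact (Nat.Prime 2) := ⟨Nat.prime_two⟩
  haveI := hn
  set C := Subgroup.centralizer ({x} : Set G) with hCdef
  have hxx : x * x = 1 := by rw [← pow_two, ← hx, pow_orderOf_eq_one]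
  have hx1 : x ≠ 1 := fun h => by simp [h] at hx
  have hxC : x ∈ C := Subgroup.mem_centralizer_singleton_iff.2 rfl
  have hV4 : Nat.card S₀ = 4 := hK.card_four
  obtain ⟨r, hr⟩ : ∃ r, S₀.relIndex C = r := ⟨_, rfl⟩
  rw [hr] at hodd
  have hCr : Nat.card C = r * 4 := by
    have := Subgroup.index_mul_card (S₀.subgroupOf C)
    rw [Nat.card_congr (Subgroup.subgroupOfEquivOfLe hle).toEquiv, hV4] at this
    rw [← this, ← hr]; rfl
  have hexpV : ∀ a ∈ S₀, a * a = 1 := fun a ha => congrArg Subtype.val (@IsKleinFour.mul_self S₀ _ hK ⟨a, ha⟩)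
  have hcomV := Cfsg.Agent.Char.comm_of_exp_two (P := S₀) fun a => Subtype.ext (hexpV a a.2)
  -- two-elements of the centraliser lie in the four group
  have hinto : ∀ w ∈ C, (∃ k : ℕ, w ^ 2 ^ k = 1) → w ∈ S₀ := by
    intro w hw ⟨k, hk⟩
    have h1 : w ^ r ∈ S₀ := by
      have := Subgroup.pow_index_mem (S₀.subgroupOf C) ⟨w, hw⟩
      rw [show (S₀.subgroupOf C).index = r from hr] at this
      exact Subgroup.mem_subgroupOf.1 this
    have hco : (orderOf w).Coprime r :=
      Nat.Coprime.coprime_dvd_left (orderOf_dvd_of_pow_eq_one hk)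
        (Nat.Coprime.pow_left _ (Nat.prime_two.coprime_iff_not_dvd.2 hodd))
    obtain ⟨m, hm⟩ := exists_pow_eq_self_of_coprime hco.symm
    rw [← hm]; exact pow_mem h1 m
  have hxV : x ∈ S₀ := hinto x hxC ⟨1, by rw [pow_one, pow_two, hxx]⟩
  have hV2 : IsPGroup 2 S₀ := IsPGroup.of_card (n := 2) (by rw [hV4]; rfl)
  obtain ⟨P, hVP⟩ := hV2.exists_le_sylow
  have hPtor : ∀ p ∈ (P : Subgroup G), ∃ k : ℕ, p ^ 2 ^ k = 1 := fun p hp => by
    obtain ⟨k, hk⟩ := P.2 ⟨p, hp⟩
    exact ⟨k, by simpa using congrArg Subtype.val hk⟩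
  have hsimp : ∀ E : Subgroup G, E.Normal → Nat.card E ≠ 1 → E = ⊤ := fun E hE h =>
    (hE.eq_bot_or_eq_top).resolve_left fun e => h (Subgroup.card_eq_one.2 e)
  by_cases hPV : (P : Subgroup G) ≤ S₀
  swap
  · exfalso
    have hlt : S₀ < (P : Subgroup G) := lt_of_le_of_ne hVP fun h => hPV h.ge
    have h4lt : 4 < Nat.card (P : Subgroup G) := hV4 ▸ Set.ncard_lt_ncard hlt (Set.toFinite _)
    haveI : Nontrivial (P : Subgroup G) := (Subgroup.nontrivial_iff_ne_bot _).2 (fun h => hPV (h ▸ bot_le))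
    haveI := P.2.center_nontrivial
    obtain ⟨c, hc⟩ := exists_prime_orderOf_dvd_card' (G := Subgroup.center (P : Subgroup G)) 2 (by
      have h2 : IsPGroup 2 (Subgroup.center (P : Subgroup G)) := P.2.to_subgroup _
      obtain ⟨k, hk⟩ := IsPGroup.iff_card.1 h2
      rw [hk]
      refine dvd_pow_self 2 fun h0 => ?_
      rw [h0, pow_zero] at hk
      exact (Finite.one_lt_card (α := Subgroup.center (P : Subgroup G))).ne' hk)
    set z : G := ((c : (P : Subgroup G)) : G) with hzdef
    have hz2 : orderOf z = 2 := by rw [hzdef, Subgroup.orderOf_coe, Subgroup.orderOf_coe, hc]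
    have hzz : z * z = 1 := by rw [← pow_two, ← hz2, pow_orderOf_eq_one]
    have hz1 : z ≠ 1 := fun h => by simp [h] at hz2
    have hzc' : ∀ p ∈ (P : Subgroup G), p * z = z * p := fun p hp =>
      congrArg Subtype.val (Subgroup.mem_center_iff.1 c.2 ⟨p, hp⟩)
    have hxz : x * z = z * x := hzc' x (hVP hxV)
    have hzC : z ∈ C := Subgroup.mem_centralizer_singleton_iff.2 hxz.symm
    have hzV : z ∈ S₀ := hinto z hzC ⟨1, by rw [pow_one, pow_two, hzz]⟩
    have hzx : z ≠ x := fun h => hPV fun p hp =>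
      hinto p (Subgroup.mem_centralizer_singleton_iff.2 (h ▸ hzc' p hp)) (hPtor p hp)
    have hVeq : ∀ w ∈ S₀, w = 1 ∨ w = x ∨ w = z ∨ w = x * z := by
      intro w hw
      have hxz1 : x * z ≠ 1 := fun h => hzx (by
        rw [← inv_eq_of_mul_eq_one_right h, inv_eq_of_mul_eq_one_right hxx])
      have hall : (Finset.univ : Finset S₀) = {1, ⟨x, hxV⟩, ⟨z, hzV⟩, ⟨x * z, mul_mem hxV hzV⟩} := by
        refine (Finset.eq_univ_of_card _ ?_).symm
        rw [← Nat.card_eq_fintype_card, hV4, Finset.card_insert_of_notMem, Finset.card_insert_of_notMem, Finset.card_pair]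
        · intro h; exact hx1 (right_eq_mul.1 (congrArg Subtype.val h))
        · simp only [Finset.mem_insert, Finset.mem_singleton, Subtype.mk.injEq, not_or]
          exact ⟨Ne.symm hzx, fun h => hz1 (left_eq_mul.1 h)⟩
        · simp only [Finset.mem_insert, Finset.mem_singleton, not_or, Subtype.ext_iff, OneMemClass.coe_one]
          exact ⟨Ne.symm hx1, Ne.symm hz1, Ne.symm hxz1⟩
      have : (⟨w, hw⟩ : S₀) ∈ ({1, ⟨x, hxV⟩, ⟨z, hzV⟩, ⟨x * z, mul_mem hxV hzV⟩} : Finset S₀) := hall ▸ Finset.mem_univ _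
      simpa [Subtype.ext_iff] using this
    obtain ⟨g, hgN, hgV⟩ : ∃ g : (P : Subgroup G), g ∈ Subgroup.normalizer ((S₀.subgroupOf P) : Set (P : Subgroup G)) ∧
        g ∉ S₀.subgroupOf P := by
      have hlt' : S₀.subgroupOf P < ⊤ := lt_top_iff_ne_top.2 fun h => hPV (Subgroup.subgroupOf_eq_top.1 h)
      haveI : Group.IsNilpotent (P : Subgroup G) := P.2.isNilpotent
      exact SetLike.exists_of_lt (Group.normalizerCondition_of_isNilpotent _ hlt')
    rw [Subgroup.mem_subgroupOf] at hgV
    have hgx : (g : G) * x * (g : G)⁻¹ ∈ S₀ := (Subgroup.mem_normalizer_iff.1 hgN ⟨x, hVP hxV⟩).1 hxV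
    have hgz : (g : G) * z = z * g := hzc' g g.2
    have hconj : IsConj x (x * z) := by
      rcases hVeq _ hgx with h | h | h | h
      · exact absurd (conj_eq_one_iff.1 h) hx1
      · exact absurd (hinto g (Subgroup.mem_centralizer_singleton_iff.2 (mul_inv_eq_iff_eq_mul.1 h)) (hPtor g g.2)) hgV
      · exfalso
        have h' : (g : G) * x * (g : G)⁻¹ = (g : G) * z * (g : G)⁻¹ := by rw [h, hgz, mul_inv_cancel_right]
        exact hzx (mul_left_cancel (mul_right_cancel h')).symm
      · exact isConj_iff.2 ⟨g, h⟩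
    have hncj : ¬ IsConj x z := by
      intro h
      obtain ⟨h', he⟩ := isConj_iff.1 h
      have hle' : (P : Subgroup G) ≤ C.map (MulAut.conj h').toMonoidHom := fun p hp =>
        ⟨h'⁻¹ * p * h', Subgroup.mem_centralizer_singleton_iff.2 (by
          have e := hzc' p hp
          rw [← he] at e
          have := congrArg (fun t => h'⁻¹ * t * h') e
          convert this using 1 <;> group), by simp [mul_assoc]⟩
      have h1 := Subgroup.card_dvd_of_le hle'
      rw [Subgroup.card_map_of_injective (MulAut.conj h').injective, hCr] at h1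
      obtain ⟨k, hk⟩ := IsPGroup.iff_card.1 P.2
      rw [hk] at h1 h4lt
      have h2 : 2 ^ k ∣ 4 := (Nat.Coprime.pow_left k (Nat.prime_two.coprime_iff_not_dvd.2 hodd)).dvd_of_dvd_mul_left h1
      have := Nat.le_of_dvd (by norm_num) h2
      omega
    obtain ⟨E, hE, hEl, hEc⟩ := Cfsg.Agent.Lie.InvFour.exists_small_normal hxx hzz hx1 hz1 hxz
      (fun w hw hc => hVeq w (hinto w (Subgroup.mem_centralizer_singleton_iff.2 hc) ⟨1, by rw [pow_one, pow_two, hw]⟩))
      hconj hncj
    have htop := hsimp E hE (by rcases hEc with h | h <;> omega)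
    rw [htop, Subgroup.card_top] at hEc
    have := Subgroup.card_le_card_group (P : Subgroup G)
    rcases hEc with h | h <;> omega
  have hPeq : (P : Subgroup G) = S₀ := le_antisymm hPV hVP
  have hP : Nat.card P = 4 := (congrArg (fun K : Subgroup G => Nat.card K) hPeq).trans hV4
  have hG4 : Nat.card G ≠ 4 := fun h => by
    have hcomm : ∀ a b : G, a * b = b * a := by
      have htop : (P : Subgroup G) = ⊤ := Subgroup.eq_top_of_card_eq _ (hP.trans h.symm)
      intro a b
      exact hcomV a (hPeq ▸ htop ▸ Subgroup.mem_top a) b (hPeq ▸ htop ▸ Subgroup.mem_top b)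
    have hz : (Subgroup.zpowers x).Normal := ⟨fun n hn g => by rwa [hcomm g n, mul_inv_cancel_right]⟩
    have := hsimp _ hz (by rw [Nat.card_zpowers, hx]; norm_num)
    have := congrArg (fun K : Subgroup G => Nat.card K) this
    simp only [Nat.card_zpowers, hx, Subgroup.card_top, h] at this
    omega
  have hnc : ¬ HasNormalPComplement 2 G := by
    rintro ⟨Q, N, hN, hc⟩
    have h1 := hc.card_mul
    have hQ : Nat.card (Q : Subgroup G) = 4 := by
      rw [Q.card_eq_multiplicity, ← P.card_eq_multiplicity]; exact hP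
    rw [hQ] at h1
    by_cases hN1 : Nat.card N = 1
    · rw [hN1] at h1; exact hG4 h1.symm
    · rw [hsimp N hN hN1, Subgroup.card_top] at h1
      have : 0 < Nat.card G := Nat.card_pos
      omega
  have hCeq : C = Subgroup.centralizer ((P : Subgroup G) : Set G) := by
    refine le_antisymm (fun c hc => ?_) (Subgroup.centralizer_le (Set.singleton_subset_iff.2 (hVP hxV)))
    refine Subgroup.mem_centralizer_iff.2 fun v hv => ?_
    rw [hPeq] at hv
    by_contra hne
    have hcc := Subgroup.mem_centralizer_singleton_iff.1 hc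
    have hconjmem : ∀ b ∈ C, ∀ a ∈ S₀, b * a * b⁻¹ ∈ S₀ := fun b hb a ha =>
      Subgroup.mem_subgroupOf.1 (hn.conj_mem ⟨a, hle ha⟩ (Subgroup.mem_subgroupOf.2 ha) ⟨b, hb⟩)
    have hv1 : v ≠ 1 := fun h => hne (by simp [h])
    have hvx : v ≠ x := fun h => hne (h ▸ hcc.symm)
    have hxv1 : x * v ≠ 1 := fun h => hvx (by
      rw [← inv_eq_of_mul_eq_one_right h, inv_eq_of_mul_eq_one_right hxx])
    have hcv : ∀ b ∈ C, b * v * b⁻¹ = v ∨ b * v * b⁻¹ = x * v := by
      intro b hb
      have hw := hconjmem b hb v hv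
      have hall : (Finset.univ : Finset S₀) = {1, ⟨x, hxV⟩, ⟨v, hv⟩, ⟨x * v, mul_mem hxV hv⟩} := by
        refine (Finset.eq_univ_of_card _ ?_).symm
        rw [← Nat.card_eq_fintype_card, hV4, Finset.card_insert_of_notMem, Finset.card_insert_of_notMem, Finset.card_pair]
        · intro h; exact hx1 (right_eq_mul.1 (congrArg Subtype.val h))
        · simp only [Finset.mem_insert, Finset.mem_singleton, Subtype.mk.injEq, not_or]
          exact ⟨Ne.symm hvx, fun h => hv1 (left_eq_mul.1 h)⟩
        · simp only [Finset.mem_insert, Finset.mem_singleton, not_or, Subtype.ext_iff, OneMemClass.coe_one]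
          exact ⟨Ne.symm hx1, Ne.symm hv1, Ne.symm hxv1⟩
      have : (⟨_, hw⟩ : S₀) ∈ ({1, ⟨x, hxV⟩, ⟨v, hv⟩, ⟨x * v, mul_mem hxV hv⟩} : Finset S₀) := hall ▸ Finset.mem_univ _
      simp only [Finset.mem_insert, Finset.mem_singleton, Subtype.ext_iff, OneMemClass.coe_one] at this
      rcases this with h | h | h | h
      · exact absurd (conj_eq_one_iff.1 h) hv1
      · exfalso
        have hbx := Subgroup.mem_centralizer_singleton_iff.1 hb
        have : b * v * b⁻¹ = b * x * b⁻¹ := by rw [h, hbx, mul_inv_cancel_right]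
        exact hvx (mul_left_cancel (mul_right_cancel this))
      · exact Or.inl h
      · exact Or.inr h
    have hsw : c * v * c⁻¹ = x * v := (hcv c hc).resolve_left fun h =>
      hne (mul_inv_eq_iff_eq_mul.1 h).symm
    have hc2 : c ^ 2 * v = v * c ^ 2 := by
      rw [← mul_inv_eq_iff_eq_mul]
      calc c ^ 2 * v * (c ^ 2)⁻¹ = c * (c * v * c⁻¹) * c⁻¹ := by rw [pow_two]; group
        _ = c * (x * v) * c⁻¹ := by rw [hsw]
        _ = c * x * c⁻¹ * (c * v * c⁻¹) := by group
        _ = v := by rw [hsw, hcc, mul_inv_cancel_right, ← mul_assoc, hxx, one_mul]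
    obtain ⟨j, hj⟩ := (Nat.odd_iff.2 (by omega : r % 2 = 1) : Odd r)
    have hr' : c ^ r ∈ S₀ := by
      have := Subgroup.pow_index_mem (S₀.subgroupOf C) ⟨c, hc⟩
      rw [show (S₀.subgroupOf C).index = r from hr] at this
      exact Subgroup.mem_subgroupOf.1 this
    have h1 : Commute (c ^ r) v := hcomV _ hr' v hv
    have h2 : Commute ((c ^ 2) ^ j) v := (show Commute (c ^ 2) v from hc2).pow_left j
    refine hne ?_
    have h3 : Commute c v := by
      have e : c = ((c ^ 2) ^ j)⁻¹ * c ^ r := by rw [hj, ← pow_mul, pow_succ, inv_mul_cancel_left]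
      rw [e]; exact h2.inv_left.mul_left h1
    exact h3.eq.symm
  obtain ⟨hexp, -⟩ := Cfsg.Agent.Char.one_class_of_four P hP (fun ⟨N, hN, hc⟩ => hnc ⟨P, N, hN, hc⟩)
  obtain ⟨a, b, c, ha, hb, hc, hsum, hprod, -⟩ :=
    Cfsg.Agent.Lie.InvFour.degree_equation P hP (hVP hxV) hx hCeq hnc
  -- the bound on the order
  have hbound : Nat.card G ≤ 18 * Nat.card C := by
    have key : ∀ t : ℤ, t % 4 = 1 → 0 < |1 + t| ∧ 2 * |t| ≤ 3 * |1 + t| ∧ (0 ≤ t → |t| ≤ |1 + t|) := fun t ht => by
      rcases abs_cases t with ⟨e, he⟩ | ⟨e, he⟩ <;> rcases abs_cases (1 + t) with ⟨e', he'⟩ | ⟨e', he'⟩ <;>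
        refine ⟨?_, ?_, fun _ => ?_⟩ <;> omega
    obtain ⟨a0, ka, pa⟩ := key a ha
    obtain ⟨b0, kb, pb⟩ := key b hb
    obtain ⟨c0, kc, pc⟩ := key c hc
    have h2 : 4 * (|a| * |b| * |c|) ≤ 9 * (|1 + a| * |1 + b| * |1 + c|) := by
      rcases (show 0 ≤ a ∨ 0 ≤ b ∨ 0 ≤ c by omega) with h | h | h
      · have := mul_le_mul (mul_le_mul (pa h) kb (by positivity) (by positivity)) kc (by positivity) (by positivity)
        linarith
      · have := mul_le_mul (mul_le_mul ka (pb h) (by positivity) (by positivity)) kc (by positivity) (by positivity)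
        linarith
      · have := mul_le_mul (mul_le_mul ka kb (by positivity) (by positivity)) (pc h) (by positivity) (by positivity)
        linarith
    have habs := congrArg abs hprod
    simp only [abs_mul, Nat.abs_cast] at habs
    rw [show |(8 : ℤ)| = 8 by norm_num] at habs
    have hpos : (0 : ℤ) < |1 + a| * |1 + b| * |1 + c| := by positivity
    have hcard : (0 : ℤ) ≤ (Nat.card C : ℤ) := by positivity
    have : (Nat.card G : ℤ) ≤ 18 * (Nat.card C : ℤ) := by
      refine le_of_mul_le_mul_right ?_ hpos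
      nlinarith [habs, mul_le_mul_of_nonneg_left h2 hcard]
    exact_mod_cast this
  -- the normaliser
  set N := Subgroup.normalizer ((P : Subgroup G) : Set G) with hNdef
  have hCN : C ≤ N := by rw [hCeq]; exact Subgroup.centralizer_le_normalizer _
  have hPN : (P : Subgroup G) ≤ N := Subgroup.le_normalizer
  have hPC : (P : Subgroup G) ≤ C := hPeq.le.trans hle
  have hNC : N ≠ C := fun h => hnc ⟨P, _, inferInstance, MonoidHom.ker_transferSylow_isComplement' P
    (show N ≤ Subgroup.centralizer ((P : Subgroup G) : Set G) from (h.trans hCeq).le)⟩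
  have hPodd : ¬ 2 ∣ (P : Subgroup G).index := Sylow.not_dvd_index P
  have h3 : 3 * Nat.card C ≤ Nat.card N := by
    have hmul : C.relIndex N * Nat.card C = Nat.card N := by
      have := Subgroup.index_mul_card (C.subgroupOf N)
      rwa [Nat.card_congr (Subgroup.subgroupOfEquivOfLe hCN).toEquiv] at this
    have h1 : C.relIndex N ≠ 1 := fun h => hNC (le_antisymm (Subgroup.relIndex_eq_one.1 h) hCN)
    have h0 : C.relIndex N ≠ 0 := fun h => by
      rw [h, zero_mul] at hmul
      exact (Nat.card_pos (α := N)).ne hmul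
    have h2 : ¬ 2 ∣ C.relIndex N := fun h => hPodd
      ((h.trans (Subgroup.relIndex_dvd_index_of_le hCN)).trans (Subgroup.index_dvd_of_le hPC))
    calc 3 * Nat.card C ≤ C.relIndex N * Nat.card C := Nat.mul_le_mul_right _ (by omega)
      _ = Nat.card N := hmul
  have hmulN := N.index_mul_card
  have hn6 : N.index ≤ 6 := by
    refine Nat.le_of_mul_le_mul_right ?_ (Nat.card_pos (α := C))
    nlinarith
  have hnodd : ¬ 2 ∣ N.index := fun h => hPodd (h.trans (Subgroup.index_dvd_of_le hPN))
  have hn1 : N.index ≠ 1 := fun h => by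
    have := hsimp _ (Subgroup.normalizer_eq_top_iff.1 (Subgroup.index_eq_one.1 h)) (by
      rw [show Nat.card (P : Subgroup G) = 4 from hP]; norm_num)
    exact hG4 (by rw [← Subgroup.card_top (G := G), ← this]; exact hP)
  have hdiv : Nat.card G ∣ N.index.factorial := by
    have hinj : Function.Injective (MulAction.toPermHom G (G ⧸ N)) := by
      rw [← MonoidHom.ker_eq_bot_iff]
      refine ((MonoidHom.normal_ker _).eq_bot_or_eq_top).resolve_right fun h => hn1 ?_
      rw [Subgroup.index_eq_one, ← top_le_iff, ← h, ← Subgroup.normalCore_eq_ker]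
      exact Subgroup.normalCore_le N
    have := Subgroup.card_dvd_of_injective _ hinj
    rwa [Nat.card_perm] at this
  have h4 : 4 ∣ Nat.card G := hP ▸ Subgroup.card_subgroup_dvd_card (P : Subgroup G)
  have h8 : ¬ 8 ∣ Nat.card G := fun h => by
    refine hPodd ?_
    have e := (P : Subgroup G).index_mul_card
    rw [show Nat.card (P : Subgroup G) = 4 from hP] at e
    omega
  have h12 : 12 ≤ Nat.card N := by
    have : 4 ≤ Nat.card C := hP ▸ Subgroup.card_le_of_le hPC
    omega
  have hidx0 : N.index ≠ 0 := Subgroup.index_ne_zero_of_finite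
  refine @Cfsg.Agent.Lie.simple_sixty G _ _ _ ?_
  obtain ⟨n, hn'⟩ : ∃ n, N.index = n := ⟨_, rfl⟩
  rw [hn'] at hdiv hn6 hnodd hn1 hidx0 hmulN
  rcases (show n = 3 ∨ n = 5 by omega) with rfl | rfl
  · have := h4.trans hdiv
    norm_num at this
  · have hle' := Nat.le_of_dvd (by norm_num) hdiv
    have hm : Nat.card G ∈ Nat.divisors 120 := Nat.mem_divisors.2 ⟨hdiv.trans (dvd_of_eq rfl), by norm_num⟩
    rw [show Nat.divisors 120 = {1, 2, 3, 4, 5, 6, 8, 10, 12, 15, 20, 24, 30, 40, 60, 120} from by decide +kernel] at hm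
    simp only [Finset.mem_insert, Finset.mem_singleton] at hm
    omega

end Cfsg.Agent.S3278
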