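import Cfsg.Statements.S1285
import Cfsg.Agent.Lib.Fusion.Signalizer

set_option autoImplicit false
open Cfsg Cfsg.Agent
open Cfsg.Agent.Fusion
open scoped commutatorElement

namespace Cfsg.Agent.S1285

/-- Let θ be a solvable A-signalizer functor on the finite group G with A elementary abelian of rank at least 3, and suppose that for some prime q every θ a (a ∈ A non-identity) is a q-group. Then θ is complete. -/
theorem result {G : Type*} [Group G] [Finite G] (p : ℕ) [Fact p.Prime] (A : Subgroup G) (hA : Cfsg.IsElementaryAbelian p A) (hA3 : p ^ 3 ≤ Nat.card ↥A) (θ : G → Subgroup G) (hθ : Cfsg.IsSolvableSignalizerFunctor p A θ) (q : ℕ) [Fact q.Prime] (hq : ∀ a ∈ A, a ≠ 1 → IsPGroup q ↥(θ a)) : Cfsg.IsCompleteSignalizerFunctor p A θ := by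
  have hp2 : 1 < Nat.card A := lt_of_lt_of_le (Nat.one_lt_pow (by norm_num) (Fact.out : p.Prime).one_lt) hA3
  obtain ⟨a₀, ha₀, ha₀1⟩ : ∃ a ∈ A, a ≠ 1 := by
    by_contra hno
    have : A = ⊥ := (Subgroup.eq_bot_iff_forall _).2 fun x hx => by_contra fun h => hno ⟨x, hx, h⟩
    rw [this, Subgroup.card_bot] at hp2
    exact lt_irrefl _ hp2
  obtain ⟨J, hJ⟩ : ∃ J, J = Cfsg.signalizerInf A θ := ⟨_, rfl⟩
  have hJfam : J ∈ Cfsg.signalizerFamily p A θ := by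
    refine fam_of_le (theta_mem_fam hθ ha₀ ha₀1) (hJ ▸ iInf_le_of_le ⟨a₀, ha₀, ha₀1⟩ le_rfl) ?_
    exact (hJ ▸ Subgroup.le_centralizer_iff.1 (signalizerInf_le_centralizer hθ) :
      A ≤ Subgroup.centralizer (J : Set G)).trans (Subgroup.centralizer_le_normalizer _)
  have hJq : IsPGroup q J := (hq a₀ ha₀ ha₀1).to_le (hJ ▸ iInf_le_of_le ⟨a₀, ha₀, ha₀1⟩ le_rfl)
  obtain ⟨Q, hJQ, hQ, hQq, hQm⟩ := exists_max_member hJfam hJq
  refine ⟨hθ.1, Q, hQ.2.2.1, hQ.2.1, fun a ha ha1 => le_antisymm (hQ.2.2.2 a ha ha1) ?_⟩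
  obtain ⟨c, hc, hle⟩ := member_conj_le hA hA3 hθ hQ hQq hQm (theta_mem_fam hθ ha ha1) (hq a ha ha1)
  rw [cj_eq_self (Subgroup.le_normalizer (hJQ (hJ ▸ hc)))] at hle
  exact le_inf hle (hθ.1.1 a ha ha1)

end Cfsg.Agent.S1285
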