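import Cfsg.Statements.S0001
import Cfsg.Agent.Lib.Solv.SZ

set_option autoImplicit false
open Pointwise
open Cfsg

namespace Cfsg.Agent.S0001

/-- Conjugacy half of the Schur–Zassenhaus Theorem, under a solvability assumption on the normal Hall subgroup or on its quotient. -/
theorem result {G : Type*} [Group G] [Finite G] (N : Subgroup G) [N.Normal]
    (hN : (Nat.card N).Coprime N.index) (hsolv : Group.IsSolvable N ∨ Group.IsSolvable (G ⧸ N))
    (H K : Subgroup G) (hH : Subgroup.IsComplement' N H) (hK : Subgroup.IsComplement' N K) :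
    ∃ g : G, MulAut.conj g • H = K := by
  have hHc : Nat.card H = N.index := hH.symm.index_eq_card.symm
  have hKc : Nat.card K = N.index := hK.symm.index_eq_card.symm
  have hs : Group.IsSolvable N ∨ Group.IsSolvable H := by
    refine hsolv.imp id fun h => ?_
    have := h
    refine Group.isSolvable_of_isSolvable_injective (G' := G ⧸ N)
      (f := (QuotientGroup.mk' N).comp H.subtype) ?_
    rw [injective_iff_map_eq_one]
    intro x hx
    have hx' : (x : G) ∈ N := (QuotientGroup.eq_one_iff _).1 hx
    have : (x : G) ∈ N ⊓ H := ⟨hx', x.2⟩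
    rw [hH.disjoint.eq_bot, Subgroup.mem_bot] at this
    exact Subtype.ext this
  obtain ⟨g, -, hg⟩ := Solv.sz_conj N H K hN hHc hKc hs
  exact ⟨g, hg⟩

end Cfsg.Agent.S0001
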