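import Cfsg.Statements.S0346
import Cfsg.Agent.Lib.Lie.Feit.Main
import Cfsg.Agent.Lib.Lie.ZassenhausHalf
import Cfsg.Agent.Lib.Lie.ZassenhausKernel
import Cfsg.Agent.Lib.Lie.SharpSimple
-- import your own Cfsg.Agent.* helpers here

set_option autoImplicit false
open Cfsg

namespace Cfsg.Agent.S0346

/-- The number of points of a finite simple Zassenhaus group is `p^k + 1` for some prime power `p^k` (the regular normal
subgroup of a point stabiliser is a `p`-group). -/
theorem result {G Ω : Type*} [Group G] [Finite G] [MulAction G Ω] [Fintype Ω]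
    (hZ : Cfsg.IsZassenhausGroup G Ω) [IsSimpleGroup G] :
    IsPrimePow (Fintype.card Ω - 1) := by
  classical
  obtain ⟨hF, h2, h3, hfix, -⟩ := id hZ
  haveI := hF
  obtain ⟨g₀, hg₀, a, b, hab, -, -⟩ := id hfix
  obtain ⟨x, hxa, hxb⟩ := Cfsg.Agent.Lie.Zassenhaus.three_le_card (G := G) hfix hab
  have hthree : 3 ≤ Fintype.card Ω := by
    have h1 : ({a, b, x} : Finset Ω).card = 3 := Finset.card_eq_three.2 ⟨a, b, x, hab, hxa.symm, hxb.symm, rfl⟩
    have := Finset.card_le_univ ({a, b, x} : Finset Ω)
    omega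
  obtain ⟨k, hk⟩ := Cfsg.Agent.Lie.Feit.stab_dvd (G := G) h3 hab
  set e := Nat.card ↥(MulAction.stabilizer G a ⊓ MulAction.stabilizer G b) with he
  rcases Nat.even_or_odd e with heven | hodd
  · by_cases hle : 2 * e ≤ Fintype.card Ω - 2
    · obtain ⟨F, iF, iFF, -, hcard, -⟩ := Cfsg.Agent.Lie.ZassenhausHalf.psl_of_half hZ hab heven hle
      rw [hcard, Nat.add_sub_cancel]
      exact FiniteField.isPrimePow_card F
    · refine absurd ?_ (fun h => Cfsg.Agent.Lie.SharpSimple.false_of_sharp hZ hab heven h)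
      rcases k with _ | _ | k
      · omega
      · omega
      · exfalso
        apply hle
        rw [hk]
        nlinarith
  · obtain ⟨H, -, hle, hcard, honly⟩ :=
      Cfsg.Agent.Lie.Feit.exists_kernel hZ ⊤ (fun h => hg₀ (by
        have h1 := Subgroup.mem_top g₀
        rw [h, Subgroup.mem_bot] at h1
        exact h1)) hab
    rcases Cfsg.Agent.Lie.Feit.feit_inequality hZ hab (h := Fintype.card Ω - 1) (by omega) rfl hodd hle hcard honly
      with hsmall | ⟨hp, -, -⟩
    · obtain ⟨-, hnorm⟩ := Cfsg.Agent.S0878.result hZ a H hle hcard honly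
      have hn : (H.subgroupOf (MulAction.stabilizer G a)).Normal :=
        Subgroup.normal_subgroupOf_of_le_normalizer (le_of_eq hnorm.symm)
      obtain ⟨-, p, f, hp, -, hpf⟩ := Cfsg.Agent.Lie.ZassenhausKernel.kernel_elementary hZ hab (by omega) H hle hn
        fun y z hy hz => Cfsg.Agent.Lie.Feit.kernel_orbit (Ne.symm hy) hle hcard honly z hz
      rw [hpf, Nat.add_sub_cancel]
      refine hp.isPrimePow.pow fun h0 => ?_
      rw [h0, pow_zero] at hpf
      omega
    · obtain ⟨n, hn⟩ := hp.exists_card_eq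
      rw [show Fintype.card Ω - 1 = Nat.card H by omega, hn]
      refine Nat.prime_two.isPrimePow.pow fun h0 => ?_
      rw [h0, pow_zero] at hn
      omega

end Cfsg.Agent.S0346
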