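import Cfsg.Statements.S5342
import Cfsg.Agent.Lib.Local.FS.Constrained

set_option autoImplicit false
open Cfsg

namespace Cfsg.Agent.S5342

theorem result {Ω : Type*} [Group Ω] {S : Subgroup Ω} [Finite S] (p : ℕ) [Fact p.Prime] (hS : IsPGroup p S) (F : Cfsg.FusionSystem S) (hF : F.IsConstrained p) {T : Subgroup Ω} (E : Cfsg.FusionSystem T) (hE : E.IsSubnormalIn F p) : E.IsConstrained p := by
  suffices ∀ {T S' : Subgroup Ω} (E : Cfsg.FusionSystem T) (F' : Cfsg.FusionSystem S') (q : ℕ),
      E.IsSubnormalIn F' q → q = p → Finite ↥S' → IsPGroup p ↥S' → F'.IsConstrained p → E.IsConstrained p from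
    this E F p hE rfl inferInstance hS hF
  intro T S' E F' q h
  induction h with
  | refl F' q => intro _ _ _ h; exact h
  | step hED hD ih =>
    intro hq hfin hS' hF'
    subst hq
    haveI := hfin
    have hT := hD.1.2.2.2.1
    exact ih rfl (Cfsg.Agent.Local.FS.finite_of_le hT.1) (hS'.to_le hT.1)
      (Cfsg.Agent.Local.FS.constrained_of_sub hS' hF' hT hD.1.2.2.1 hD.1.1)

end Cfsg.Agent.S5342
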