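import Cfsg.Statements.S5235
import Cfsg.Agent.Lib.Solv.MetacyclicTwoStep
import Cfsg.Agent.Lib.Solv.MetacyclicTwoAut
import Cfsg.Agent.Lib.Local.FS.Normal
import Cfsg.Agent.Lib.Local.FS.Essential
import Cfsg.Agent.Lib.Local.FS.InnerBasic

set_option autoImplicit false
open Cfsg

namespace Cfsg.Agent.S5235

theorem result {Ω : Type*} [Group Ω] {S : Subgroup Ω} [Finite S] (p : ℕ) [Fact p.Prime] (hS : IsPGroup p S) (F : Cfsg.FusionSystem S) (hF : F.IsSaturated p) (P : Subgroup Ω) (hP : F.StronglyClosed P) (hp : p = 2) (hm : Cfsg.IsMetacyclic ↥P) (hd : ¬ ∃ m : ℕ, Nonempty (↥P ≃* DihedralGroup m)) (hq : ¬ ∃ m : ℕ, Nonempty (↥P ≃* QuaternionGroup m)) (hsd : ¬ Cfsg.IsQuasiDihedral ↥P) : F.IsNormal P := by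
  open Cfsg.Agent.Local.FS Cfsg.Agent.Solv.MetaTwo in
  classical
  subst hp
  haveI : Fact (Nat.Prime 2) := ⟨Nat.prime_two⟩
  have hPS : P ≤ S := hP.1
  haveI := finite_of_le hPS
  have hPp : IsPGroup 2 P := hS.to_le hPS
  have hPn : ∀ s ∈ S, ∀ x ∈ P, s * x * s⁻¹ ∈ P := fun s hs x hx =>
    stronglyClosed_map hP (map_conjBy hPS hs) hx hx
  have height : ∀ X : Subgroup P, Nat.card X = 8 → ¬ ∃ x ∈ X, ∃ y ∈ X, x * y ≠ y * x := by
    intro X h8 hx
    rcases left_case_of_eight hPp hm X h8 hx with h | h | h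
    · exact hd h
    · exact hq h
    · exact hsd h
  refine normal_of_gen hS hF hPS fun R hR => ?_
  have hinv : R ≤ S → P ≤ R → ∀ α ∈ F.autGroup R, ∀ x ∈ P, av α x ∈ P := fun hRS hPR α hα x hx =>
    stronglyClosed_map hP (map_of_mem_autGroup hRS hα) (hPR hx) hx
  rcases hR with rfl | hE
  · exact ⟨hPS, hinv le_rfl hPS⟩
  have hRS : R ≤ S := hE.1.1
  suffices hle : P ≤ R from ⟨hle, hinv hRS hle⟩
  by_contra hnle
  haveI := finite_of_le hRS
  haveI := mulAut_finite_of_le hRS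
  have hrad := radical_of_essential hS hF hE
  have hC : Cfsg.FusionSystem.centralizerIn S R ≤ R := hE.1.2 R (isConj_refl hRS)
  obtain ⟨Q, hQ⟩ : ∃ Q : Subgroup Ω, Q = P ⊓ R := ⟨_, rfl⟩
  have hQP : Q ≤ P := hQ ▸ inf_le_left
  have hQR : Q ≤ R := hQ ▸ inf_le_right
  have hmemQ : ∀ x, x ∈ P → x ∈ R → x ∈ Q := fun x h1 h2 => hQ ▸ ⟨h1, h2⟩
  haveI := finite_of_le hQP
  have hQp : IsPGroup 2 Q := hPp.to_le hQP
  have hRp : IsPGroup 2 R := hS.to_le hRS
  -- an element of `P` normalising `R`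
  obtain ⟨t, htP, htR, ht2, htN⟩ : ∃ t ∈ P, t ∉ R ∧ t * t ∈ R ∧ t ∈ Subgroup.normalizer (R : Set Ω) := by
    obtain ⟨T, hT⟩ : ∃ T : Subgroup Ω, T = R ⊔ P := ⟨_, rfl⟩
    have hTS : T ≤ S := hT ▸ sup_le hRS hPS
    haveI := finite_of_le hTS
    haveI := (hS.to_le hTS).isNilpotent
    have hne : R.subgroupOf T < ⊤ := lt_top_iff_ne_top.2 fun h =>
      hnle (le_sup_right.trans (hT.ge.trans (Subgroup.subgroupOf_eq_top.1 h)))
    obtain ⟨z, hzN, hzR⟩ := SetLike.exists_of_lt (Group.normalizerCondition_of_isNilpotent _ hne)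
    have hzn : (z : Ω) ∈ Subgroup.normalizer (R : Set Ω) := by
      rw [Subgroup.mem_normalizer_iff] at hzN ⊢
      intro y
      constructor
      · intro hy
        exact (hzN ⟨y, hT.ge (Subgroup.mem_sup_left hy)⟩).1 hy
      · intro hy
        have hyT : y ∈ T := by
          have h := mul_mem (mul_mem (inv_mem z.2) (hT.ge (Subgroup.mem_sup_left hy) : (z : Ω) * y * (z : Ω)⁻¹ ∈ T)) z.2
          simpa [mul_assoc] using h
        exact (hzN ⟨y, hyT⟩).2 hy
    have hRn : R ≤ Subgroup.normalizer (P : Set Ω) := fun r hr => Subgroup.mem_normalizer_iff.2 fun x =>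
      ⟨hPn r (hRS hr) x, fun hx => by
        have h := hPn r⁻¹ (inv_mem (hRS hr)) _ hx
        simpa [mul_assoc] using h⟩
    have hz' : (z : Ω) ∈ R ⊔ P := hT.le z.2
    rw [← SetLike.mem_coe, Subgroup.coe_mul_of_left_le_normalizer_right R P hRn, Set.mem_mul] at hz'
    obtain ⟨r, hr, y, hy, e⟩ := hz'
    have hyR : y ∉ R := fun h => hzR (Subgroup.mem_subgroupOf.2 (e ▸ mul_mem hr h))
    have hyN : y ∈ Subgroup.normalizer (R : Set Ω) := by
      rw [show y = r⁻¹ * z by rw [← e, inv_mul_cancel_left]]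
      exact mul_mem (inv_mem (Subgroup.le_normalizer hr)) hzn
    obtain ⟨k, hk⟩ := hPp ⟨y, hy⟩
    have hex : ∃ k : ℕ, y ^ 2 ^ k ∈ R := ⟨k, by
      have h : y ^ 2 ^ k = 1 := congrArg Subtype.val hk
      rw [h]; exact one_mem R⟩
    have h0 : Nat.find hex ≠ 0 := fun e0 => hyR (by
      have := Nat.find_spec hex
      rwa [e0, pow_zero, pow_one] at this)
    obtain ⟨j, hj⟩ : ∃ j, Nat.find hex = j + 1 := ⟨_, (Nat.succ_pred_eq_of_ne_zero h0).symm⟩
    refine ⟨y ^ 2 ^ j, pow_mem hy _, Nat.find_min hex (by omega), ?_, pow_mem hyN _⟩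
    have := Nat.find_spec hex
    rwa [hj, pow_succ, pow_mul, sq] at this
  obtain ⟨α, hα, hαK⟩ := exists_aut_conj htN
  have hαF : α ∈ F.autGroup R := autInducedBy_le_autGroup hRS (hαK S (hPS htP))
  have htr : ∀ r ∈ R, t * r * t⁻¹ ∈ R := fun r hr => (Subgroup.mem_normalizer_iff.1 htN r).1 hr
  have hαQ : ∀ x : R, ((α x * x⁻¹ : R) : Ω) ∈ Q := by
    intro x
    show (α x : Ω) * (x : Ω)⁻¹ ∈ Q
    rw [← av_coe, hα x x.2]
    refine hmemQ _ ?_ (mul_mem (htr x x.2) (inv_mem x.2))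
    rw [show t * (x : Ω) * t⁻¹ * (x : Ω)⁻¹ = t * ((x : Ω) * t⁻¹ * (x : Ω)⁻¹) by group]
    exact mul_mem htP (hPn _ (hRS x.2) _ (inv_mem htP))
  -- restriction to `Q`
  have hclosed : ∀ β ∈ F.autGroup R, ∀ x ∈ Q, av β x ∈ Q := fun β hβ x hx =>
    hmemQ _ (stronglyClosed_map hP (map_of_mem_autGroup hRS hβ) (hQR hx) (hQP hx)) (av_mem β (hQR hx))
  let res : F.autGroup R →* MulAut Q :=
    { toFun := fun β =>
        { toFun := fun x => ⟨av (β : MulAut R) x, hclosed _ β.2 x x.2⟩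
          invFun := fun x => ⟨av (β : MulAut R)⁻¹ x, hclosed _ (inv_mem β.2) x x.2⟩
          left_inv := fun x => Subtype.ext (av_inv_av _ (hQR x.2))
          right_inv := fun x => Subtype.ext (av_av_inv _ (hQR x.2))
          map_mul' := fun x y => Subtype.ext (by
            show av (β : MulAut R) ((x : Ω) * y) = av (β : MulAut R) x * av (β : MulAut R) y
            rw [av_apply _ (mul_mem (hQR x.2) (hQR y.2)), av_apply _ (hQR x.2), av_apply _ (hQR y.2)]
            exact congrArg Subtype.val (map_mul (β : MulAut R) ⟨x, hQR x.2⟩ ⟨y, hQR y.2⟩)) }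
      map_one' := MulEquiv.ext fun x => Subtype.ext (av_one (hQR x.2))
      map_mul' := fun β γ => MulEquiv.ext fun x => Subtype.ext (av_mul _ _ (hQR x.2)) }
  let B : Subgroup (F.autGroup R) :=
    { carrier := {β | ∀ x : R, (((β : MulAut R) x * x⁻¹ : R) : Ω) ∈ Q}
      one_mem' := fun x => by simp
      mul_mem' := fun {β γ} hb hg x => by
        rw [show ((β * γ : F.autGroup R) : MulAut R) = (β : MulAut R) * (γ : MulAut R) from rfl, MulAut.mul_apply,
          show (β : MulAut R) ((γ : MulAut R) x) * x⁻¹ =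
            ((β : MulAut R) ((γ : MulAut R) x) * ((γ : MulAut R) x)⁻¹) * ((γ : MulAut R) x * x⁻¹) by group,
          Subgroup.coe_mul]
        exact mul_mem (hb _) (hg x)
      inv_mem' := fun {β} hb x => by
        have h := inv_mem (hb ((β : MulAut R)⁻¹ x))
        rw [MulAut.apply_inv_self, ← Subgroup.coe_inv, mul_inv_rev, inv_inv] at h
        exact h }
  haveI hBn : B.Normal := ⟨fun β hb γ x => by
    have h := hclosed _ γ.2 _ (hb ((γ : MulAut R)⁻¹ x))
    rw [av_coe, map_mul, map_inv, MulAut.apply_inv_self] at h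
    simpa [MulAut.mul_apply] using h⟩
  -- a 2-group normal in the automiser consists of inner automorphisms
  have hfinal : ∀ K : Subgroup (F.autGroup R), K.Normal → IsPGroup 2 K → (⟨α, hαF⟩ : F.autGroup R) ∉ K := by
    intro K hK hKp hmem
    haveI := hK
    have hαI : α ∈ Cfsg.Inn R := hrad.2 ▸ ⟨_, Cfsg.Agent.Fusion.le_pCore hKp hmem, rfl⟩
    obtain ⟨g, hg, hgα⟩ := mem_Inn.1 hαI
    apply htR
    have hc : g⁻¹ * t ∈ Cfsg.FusionSystem.centralizerIn S R :=
      ⟨S.mul_mem (S.inv_mem (hRS hg)) (hPS htP), Subgroup.mem_centralizer_iff.2 fun r hr => by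
        have e := (hgα r hr).symm.trans (hα r hr)
        calc r * (g⁻¹ * t) = g⁻¹ * (g * r * g⁻¹) * t := by group
          _ = g⁻¹ * t * r := by rw [e]; group⟩
    have h := mul_mem hg (hC hc)
    rwa [mul_inv_cancel_left] at h
  -- an element of odd prime order on `R / Q` acts faithfully on `Q`
  have hfaith : ∀ (β : F.autGroup R) (q : ℕ), q.Prime → q ≠ 2 → β ∈ B → β ^ q = 1 → res β = 1 → β = 1 := by
    intro β q hq hq2 hβ hβq h1
    refine Subtype.ext (MulEquiv.ext fun x => ?_)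
    have hfix : ∀ y : R, (y : Ω) ∈ Q → (β : MulAut R) y = y := fun y hy => Subtype.ext (by
      rw [← av_coe]; exact congrArg Subtype.val (DFunLike.congr_fun h1 ⟨(y : Ω), hy⟩))
    obtain ⟨d, hd⟩ : ∃ d, d = (β : MulAut R) x * x⁻¹ := ⟨_, rfl⟩
    have hdQ : (d : Ω) ∈ Q := hd ▸ hβ x
    have hit : ∀ m : ℕ, ((β : MulAut R) ^ m) x = d ^ m * x := by
      intro m
      induction m with
      | zero => simp
      | succ m ih =>
        rw [pow_succ', MulAut.mul_apply, ih, map_mul, map_pow, hfix d hdQ, pow_succ,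
          show (β : MulAut R) x = d * x by rw [hd, inv_mul_cancel_right], mul_assoc]
    have e := hit q
    rw [← SubmonoidClass.coe_pow, hβq, OneMemClass.coe_one, MulAut.one_apply, right_eq_mul] at e
    obtain ⟨k, hk⟩ := IsPGroup.iff_orderOf.1 hRp d
    have hd1 : d = 1 := orderOf_eq_one_iff.1 (Nat.eq_one_of_dvd_coprimes
      ((Nat.coprime_primes hq Nat.prime_two).2 hq2 |>.pow_right k) (orderOf_dvd_of_pow_eq_one e) hk.dvd)
    rw [OneMemClass.coe_one, MulAut.one_apply]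
    rw [hd, mul_inv_eq_one] at hd1
    exact hd1
  -- `Q` has an automorphism of odd order
  obtain ⟨q, hq', hq2, β, hβB, hβq, hβ1⟩ : ∃ q : ℕ, q.Prime ∧ q ≠ 2 ∧ ∃ β : F.autGroup R, β ∈ B ∧ β ^ q = 1 ∧ β ≠ 1 := by
    by_contra h
    push Not at h
    refine hfinal B hBn ?_ hαQ
    refine IsPGroup.of_card (Nat.eq_prime_pow_of_unique_prime_dvd Nat.card_pos.ne' fun {d} hdp hdd => ?_)
    by_contra hne
    haveI := Fact.mk hdp
    obtain ⟨β, hβ⟩ := exists_prime_orderOf_dvd_card' d hdd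
    have h1 := h d hdp hne β β.2 (by rw [← SubmonoidClass.coe_pow, ← hβ, pow_orderOf_eq_one]; rfl)
    rw [show β = 1 from Subtype.ext h1, orderOf_one] at hβ
    exact hdp.one_lt.ne hβ
  haveI := Fact.mk hq'
  have hφq : res β ^ q = 1 := by rw [← map_pow, hβq, map_one]
  have hmv := moves_of_ne_one hQp hq2 hφq fun h => hβ1 (hfaith β q hq' hq2 hβB hβq h)
  have hQm : Cfsg.IsMetacyclic Q := metacyclic_of_injective (Subgroup.inclusion hQP) (Subgroup.inclusion_injective hQP) hm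
  have hidx := index_frattini_le hQp hQm
  have hna : ¬ ∃ x y : Q, x * y ≠ y * x := by
    rintro ⟨x, y, hxy⟩
    refine height (Q.subgroupOf P) ?_ ⟨⟨x, hQP x.2⟩, x.2, ⟨y, hQP y.2⟩, y.2,
      fun h => hxy (Subtype.ext (by simpa using congrArg Subtype.val h))⟩
    rw [Nat.card_congr (Subgroup.subgroupOfEquivOfLe hQP).toEquiv, card_eight hQp _ hidx hmv hQm ⟨x, y, hxy⟩]
  push Not at hna
  obtain ⟨n, hn1, -, hcard, hinvl⟩ := abelian_structure hQp _ hidx hmv hna
  have htQ : ∀ x ∈ Q, t * x * t⁻¹ ∈ Q := fun x hx =>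
    hmemQ _ (mul_mem (mul_mem htP (hQP hx)) (inv_mem htP)) (htr x (hQR hx))
  have ht2Q : t * t ∈ Q := hmemQ _ (mul_mem htP htP) ht2
  -- the action of `t` on `Q` is trivial modulo the Frattini subgroup
  have hαΦ : ∀ x : Q, res ⟨α, hαF⟩ x * x⁻¹ ∈ frattini Q := by
    have hval : ∀ x : Q, ((res ⟨α, hαF⟩ x : Q) : Ω) = t * x * t⁻¹ := fun x => hα _ (hQR x.2)
    rcases Nat.lt_or_ge n 2 with hn2 | hn2
    · -- `t` centralises `Q`
      obtain rfl : n = 1 := by omega
      intro x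
      suffices hcomm : t * (x : Ω) * t⁻¹ = x by
        rw [show res ⟨α, hαF⟩ x = x from Subtype.ext ((hval x).trans hcomm), mul_inv_cancel]
        exact one_mem _
      by_contra hne
      obtain ⟨M, hM⟩ : ∃ M : Subgroup P, M = Q.subgroupOf P ⊔ Subgroup.zpowers (⟨t, htP⟩ : P) := ⟨_, rfl⟩
      obtain ⟨t', ht'⟩ : ∃ t' : P, t' = ⟨t, htP⟩ := ⟨_, rfl⟩
      rw [← ht'] at hM
      have hmem : ∀ y : P, y ∈ Q.subgroupOf P ↔ (y : Ω) ∈ Q := fun y => Iff.rfl
      have hnorm : Subgroup.zpowers t' ≤ Subgroup.normalizer ((Q.subgroupOf P : Subgroup P) : Set P) := by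
        rw [Subgroup.zpowers_le, Subgroup.mem_normalizer_iff]
        intro y
        rw [hmem, hmem, ht']
        refine ⟨htQ _, fun hy => hmemQ _ y.2 ?_⟩
        exact (Subgroup.mem_normalizer_iff.1 htN _).2 (hQR hy)
      have hc4 : Nat.card (Q.subgroupOf P) = 4 := by
        rw [Nat.card_congr (Subgroup.subgroupOfEquivOfLe hQP).toEquiv, hcard]; norm_num
      have h8 : Nat.card M = 8 := by
        have h2 : ((Q.subgroupOf P).subgroupOf M).index = 2 := by
          rw [Subgroup.index_eq_two_iff]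
          refine ⟨⟨t', hM ▸ Subgroup.mem_sup_right (Subgroup.mem_zpowers t')⟩, fun b => ?_⟩
          have hb : (b : P) ∈ (Q.subgroupOf P ⊔ Subgroup.zpowers t' : Subgroup P) := hM ▸ b.2
          rw [← SetLike.mem_coe, Subgroup.coe_mul_of_right_le_normalizer_left (Q.subgroupOf P) (Subgroup.zpowers t') hnorm,
            Set.mem_mul] at hb
          obtain ⟨r, hr, _, ⟨k, rfl⟩, e⟩ := hb
          have ht1 : t' ∉ Q.subgroupOf P := fun h => htR (hQR (by rw [hmem, ht'] at h; exact h))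
          have ht2' : t' * t' ∈ Q.subgroupOf P := by rw [hmem, ht']; exact ht2Q
          show Xor' ((b : P) * t' ∈ Q.subgroupOf P) ((b : P) ∈ Q.subgroupOf P)
          rw [← e]
          have hev : ∀ j : ℤ, t' ^ (j + j) ∈ Q.subgroupOf P := fun j => by
            rw [← two_mul, zpow_mul, zpow_ofNat, sq]; exact zpow_mem ht2' j
          rcases Int.even_or_odd k with ⟨j, rfl⟩ | ⟨j, rfl⟩
          · refine Or.inr ⟨mul_mem hr (hev j), fun h => ht1 ?_⟩
            exact (Subgroup.mul_mem_cancel_left _ (mul_mem hr (hev j))).1 h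
          · refine Or.inl ⟨?_, fun h => ht1 ?_⟩
            · rw [mul_assoc, ← zpow_add_one, show 2 * j + 1 + 1 = (j + 1) + (j + 1) by ring]
              exact mul_mem hr (hev _)
            · rw [show r * t' ^ (2 * j + 1) = r * t' ^ (j + j) * t' by rw [mul_assoc, ← zpow_add_one, two_mul]] at h
              exact (Subgroup.mul_mem_cancel_left _ (mul_mem hr (hev j))).1 h
        have h := ((Q.subgroupOf P).subgroupOf M).card_mul_index
        rw [h2, Nat.card_congr (Subgroup.subgroupOfEquivOfLe (hM ▸ le_sup_left : Q.subgroupOf P ≤ M)).toEquiv, hc4] at h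
        omega
      refine height M h8 ⟨t', hM ▸ Subgroup.mem_sup_right (Subgroup.mem_zpowers t'), ⟨x, hQP x.2⟩,
        hM ▸ Subgroup.mem_sup_left (show (⟨(x : Ω), hQP x.2⟩ : P) ∈ Q.subgroupOf P from x.2), fun h => hne ?_⟩
      rw [ht'] at h
      have h' : t * (x : Ω) = x * t := congrArg Subtype.val h
      rw [h', mul_inv_cancel_right]
    · intro x
      have hsq := trivial_mod_squares hPp hm (Q.subgroupOf P)
        (fun u hu v hv => Subtype.ext (by simpa using congrArg Subtype.val (hna ⟨u, hu⟩ ⟨v, hv⟩)))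
        (fun c hc hc1 => by
          obtain ⟨s, hs⟩ := hinvl hn2 ⟨c, hc⟩ (Subtype.ext (by simpa using congrArg Subtype.val hc1))
          exact ⟨⟨s, hQP s.2⟩, s.2, Subtype.ext (by simpa using congrArg Subtype.val hs)⟩)
        ⟨t, htP⟩ (fun u hu => htQ _ hu) ht2Q
      obtain ⟨s, hs, e⟩ := hsq ⟨x, hQP x.2⟩ x.2
      have e' : t * (x : Ω) * t⁻¹ * (x : Ω)⁻¹ = s * s := congrArg Subtype.val e
      have hx : res ⟨α, hαF⟩ x * x⁻¹ = ⟨(s : Ω), hs⟩ * ⟨(s : Ω), hs⟩ := by
        refine Subtype.ext ?_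
        rw [Subgroup.coe_mul, Subgroup.coe_mul, Subgroup.coe_inv, hval x]
        exact e'
      rw [hx]
      exact sq_mem hQp _
  let K : Subgroup (F.autGroup R) :=
    B ⊓ { carrier := {γ | ∀ x : Q, res γ x * x⁻¹ ∈ frattini Q}
          one_mem' := fun x => by simp
          mul_mem' := fun {γ δ} hb hg x => by
            rw [map_mul, MulAut.mul_apply,
              show res γ (res δ x) * x⁻¹ = (res γ (res δ x) * (res δ x)⁻¹) * (res δ x * x⁻¹) by group]
            exact mul_mem (hb _) (hg x)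
          inv_mem' := fun {γ} hb x => by
            have h := inv_mem (hb ((res γ)⁻¹ x))
            rw [MulAut.apply_inv_self, mul_inv_rev, inv_inv] at h
            rw [map_inv]
            exact h }
  have hKn : K.Normal := by
    refine ⟨fun γ hγ δ => ⟨hBn.conj_mem γ hγ.1 δ, fun x => ?_⟩⟩
    have h := frattini_invariant (res δ) _ (hγ.2 ((res δ)⁻¹ x))
    rw [map_mul (res δ), map_inv (res δ), MulAut.apply_inv_self] at h
    rw [map_mul, map_mul, map_inv, MulAut.mul_apply, MulAut.mul_apply]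
    exact h
  refine hfinal K hKn ?_ ⟨hαQ, hαΦ⟩
  refine IsPGroup.of_card (Nat.eq_prime_pow_of_unique_prime_dvd Nat.card_pos.ne' fun {d} hdp hdd => ?_)
  by_contra hne
  haveI := Fact.mk hdp
  obtain ⟨γ, hγ⟩ := exists_prime_orderOf_dvd_card' d hdd
  have hγd : (γ : F.autGroup R) ^ d = 1 := by
    rw [← SubmonoidClass.coe_pow, ← hγ, pow_orderOf_eq_one]; rfl
  have h1 := eq_one_of_trivial hQp hne (show res γ ^ d = 1 by rw [← map_pow, hγd, map_one]) γ.2.2
  rw [show γ = 1 from Subtype.ext (hfaith γ d hdp hne γ.2.1 hγd h1), orderOf_one] at hγ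
  exact hdp.one_lt.ne hγ

end Cfsg.Agent.S5235
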