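import Cfsg.Statements.S5198
import Cfsg.Agent.Lib.Local.FS.Quotient
import Cfsg.Agent.Lib.Local.FS.Focal

set_option autoImplicit false
open Cfsg

namespace Cfsg.Agent.S5198

theorem result {Ω : Type*} [Group Ω] {S : Subgroup Ω} [Finite S] (p : ℕ) [Fact p.Prime] (hS : IsPGroup p S) (F : Cfsg.FusionSystem S) (hF : F.IsSaturated p) (T : Subgroup Ω) (hT : F.StronglyClosed T) : ∀ x ∈ F.hyperfocalSubgroup p, ∃ α ∈ ((Cfsg.pResidual p ↥(F.autGroup T)).map (F.autGroup T).subtype ⊔ Cfsg.Inn ↥T : Subgroup (MulAut ↥T)), ∀ t : ↥T, ((α t : ↥T) : Ω) = x * (t : Ω) * x⁻¹ := by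
  open Cfsg.Agent.Local.FS Cfsg.Agent.Fusion Cfsg.FusionSystem in
  intro x hx
  have hTS := hT.1
  haveI := mulAut_finite_of_le hTS
  have hV : S ≤ normalizerIn S T := le_inf le_rfl (stronglyClosed_le_normalizer hT)
  set A := F.autGroup T
  let cT : ↥S →* ↥A := ((normalizerHomS S T).comp (Subgroup.inclusion hV)).codRestrict A fun s =>
    autInducedBy_le_autGroup hTS (range_normalizerHomS.le ⟨_, rfl⟩)
  have hcT : ∀ (s : ↥S) (t : Ω), t ∈ T → av (cT s : MulAut T) t = (s : Ω) * t * (s : Ω)⁻¹ :=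
    fun s t ht => normalizerHomS_apply _ ht
  set X : Subgroup ↥A := pResidual p ↥A ⊔ (Inn ↥T).subgroupOf A with hX
  haveI : X.Normal := inferInstanceAs (pResidual p ↥A ⊔ (Inn ↥T).subgroupOf A).Normal
  have hB : IsPGroup p (↥A ⧸ X) :=
    (isPGroup_quotient_pResidual (p := p) (G := ↥A)).of_surjective
      (QuotientGroup.map (pResidual p ↥A) X (MonoidHom.id _) (by rw [Subgroup.comap_id]; exact le_sup_left))
      (fun q => by
        obtain ⟨a, rfl⟩ := QuotientGroup.mk_surjective q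
        exact ⟨QuotientGroup.mk a, rfl⟩)
  let θ : ↥S →* ↥A ⧸ X := (QuotientGroup.mk' X).comp cT
  have hθT : ∀ t : ↥S, (t : Ω) ∈ T → θ t = 1 := fun t ht =>
    (QuotientGroup.eq_one_iff _).2 (Subgroup.mem_sup_right (mem_Inn.2 ⟨t, ht, fun y hy => hcT t y hy⟩))
  -- maps act on the quotient by conjugation
  have hmap : ∀ (P : Subgroup Ω) (f : Ω → Ω), Map F P f → ∃ b : ↥A ⧸ X,
      ∀ y z : ↥S, (y : Ω) ∈ P → (z : Ω) = f y → θ z = b * θ y * b⁻¹ := by
    intro P f hf
    obtain ⟨g, hg, hgf⟩ := quotMap_all hS hF hT P f hf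
    haveI := finite_of_le hTS
    have hgT := hg.restrict le_sup_right
    obtain ⟨a, ha, hag⟩ := exists_aut hgT (Subgroup.eq_of_le_of_card_ge
      (im_le_iff.2 fun w hw => stronglyClosed_map hT hgT hw hw) hgT.card_im.ge)
    refine ⟨QuotientGroup.mk' X ⟨a, ha⟩, fun y z hy hz => ?_⟩
    have hyP : (y : Ω) ∈ P ⊔ T := Subgroup.mem_sup_left hy
    let w : ↥S := ⟨g y, hg.mem hyP⟩
    have hzw : θ z = θ w := by
      have h : ((z⁻¹ * w : ↥S) : Ω) ∈ T := by
        show (z : Ω)⁻¹ * g y ∈ T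
        rw [hz]; exact hgf y hy
      have h1 := hθT _ h
      rwa [map_mul, map_inv, inv_mul_eq_one] at h1
    have hw : cT w = ⟨a, ha⟩ * cT y * (⟨a, ha⟩ : ↥A)⁻¹ := by
      refine Subtype.ext (aut_ext fun t ht => ?_)
      have hu : av (a⁻¹ : MulAut T) t ∈ T := av_mem _ ht
      have hc : (y : Ω) * av (a⁻¹ : MulAut T) t * (y : Ω)⁻¹ ∈ T := by
        rw [← hcT y _ hu]; exact av_mem _ hu
      rw [Subgroup.coe_mul, Subgroup.coe_mul, InvMemClass.coe_inv, av_mul _ _ ht, av_mul _ _ hu, hcT y _ hu,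
        hcT w t ht, hag _ hc, hg.map_conj hyP (Subgroup.mem_sup_right hu), ← hag _ hu, av_av_inv _ ht]
    rw [hzw]
    show QuotientGroup.mk' X (cT w) = _
    rw [hw, map_mul, map_mul, map_inv]
    rfl
  have hker : F.hyperfocalSubgroup p ≤ θ.ker.map S.subtype := by
    refine (Subgroup.closure_le _).2 ?_
    rintro _ ⟨P, α, y, hP, hα, rfl⟩
    haveI := mulAut_finite_of_le hP
    let i : ↥P → ↥S := fun u => ⟨u, hP u.2⟩
    let D : Subgroup ↥(F.autGroup P) :=
      { carrier := {β | ∀ u : ↥P, θ (i ((β : MulAut P) u)) = θ (i u)}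
        one_mem' := fun u => rfl
        mul_mem' := fun {β γ} hβ hγ u => by
          rw [Subgroup.coe_mul, MulAut.mul_apply, hβ, hγ]
        inv_mem' := fun {β} hβ u => by
          have h := hβ ((β : MulAut P)⁻¹ u)
          rw [MulAut.apply_inv_self] at h
          rw [InvMemClass.coe_inv, h] }
    have hD : pResidual p ↥(F.autGroup P) ≤ D := by
      refine (Subgroup.closure_le _).2 fun β hβ u => ?_
      obtain ⟨b, hb⟩ := hmap P _ (map_of_mem_autGroup hP β.2)
      have hb' : ∀ v : ↥P, θ (i ((β : MulAut P) v)) = b * θ (i v) * b⁻¹ := fun v =>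
        hb (i v) _ v.2 (by show _ = av (β : MulAut P) (v : Ω); rw [av_coe])
      have hpow : ∀ (n : ℕ) (v : ↥P), θ (i (((β ^ n : ↥(F.autGroup P)) : MulAut P) v)) = b ^ n * θ (i v) * (b ^ n)⁻¹ := by
        intro n
        induction n with
        | zero => intro v; simp
        | succ n ih => intro v; rw [pow_succ, Subgroup.coe_mul, MulAut.mul_apply, ih, hb', pow_succ]; group
      have hm := hpow (orderOf β) u
      rw [pow_orderOf_eq_one] at hm
      have hcomm : Commute (b ^ orderOf β) (θ (i u)) := by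
        have h1 : θ (i u) = b ^ orderOf β * θ (i u) * (b ^ orderOf β)⁻¹ := hm
        exact (eq_mul_inv_iff_mul_eq.1 h1).symm
      obtain ⟨k, hk⟩ := IsPGroup.iff_orderOf.1 hB b
      obtain ⟨j, hj⟩ := exists_pow_eq_self_of_coprime (x := b) (n := orderOf β) (hk ▸ Nat.Coprime.pow_right k hβ)
      have hbc := hcomm.pow_left j
      rw [hj] at hbc
      rw [hb', hbc.eq, mul_inv_cancel_right]
    refine ⟨(i y)⁻¹ * i ((α : MulAut P) y), ?_, rfl⟩
    rw [SetLike.mem_coe, MonoidHom.mem_ker, map_mul, map_inv, hD hα y, inv_mul_cancel]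
  obtain ⟨s, hs, rfl⟩ := hker hx
  have hsX : cT s ∈ X := (QuotientGroup.eq_one_iff _).1 hs
  refine ⟨(cT s : MulAut T), ?_, fun t => ?_⟩
  · have h := Subgroup.mem_map_of_mem A.subtype hsX
    rw [hX, Subgroup.map_sup] at h
    exact sup_le_sup_left (Subgroup.map_comap_le _ _) _ h
  · rw [← av_coe]; exact hcT s t t.2

end Cfsg.Agent.S5198
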