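import Cfsg.Statements.S5186
import Cfsg.Agent.Lib.Local.FS.EssentialCube

set_option autoImplicit false
universe u
open Cfsg

namespace Cfsg.Agent.S5186

theorem result {Ω : Type u} [Group Ω] {S : Subgroup Ω} [Finite S] (p : ℕ) [Fact p.Prime] (hS : IsPGroup p S)
    (F : Cfsg.FusionSystem S) (hF : F.IsSaturated p) (H : Subgroup Ω) (hH : F.IsEssential p H) (hcard : Nat.card H = p ^ 3) :
    Cfsg.IsElementaryAbelian p H ∨ (Odd p ∧ Cfsg.IsExtraspecial p ↥H ∧ ∀ x ∈ H, x ^ p = 1) ∨
      (p = 2 ∧ Nonempty (↥H ≃* QuaternionGroup 2)) := by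
  obtain ⟨hC, hn, hN, E, hE⟩ := hH
  haveI := Cfsg.Agent.Local.FS.finite_of_le hn.1
  haveI := Cfsg.Agent.Local.FS.mulAut_finite_of_le hn.1
  haveI := hN
  rcases Cfsg.Agent.Local.FS.order_cube_cases (H := H) hcard with
    ⟨Z, M, hZc, hMc, hZM, hZ, hM⟩ | ⟨hc, he⟩ | ⟨ho, hx, he⟩ | h
  · exfalso
    haveI := hZc
    haveI := hMc
    have hA : IsPGroup p (commutator ↥(F.autGroup H)) := by
      have hle : (commutator ↥(F.autGroup H)).map (F.autGroup H).subtype ≤ commutator (MulAut H) := by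
        rw [Subgroup.map_subtype_commutator, commutator_def]
        exact Subgroup.commutator_mono le_top le_top
      exact ((Cfsg.Agent.Local.FS.isPGroup_commutator (IsPGroup.of_card hcard) Z M hZM hZ hM hcard).to_le hle).of_equiv
        (Subgroup.equivMapOfInjective _ _ (F.autGroup H).subtype_injective).symm
    refine Cfsg.Agent.Local.FS.not_stronglyPEmbedded ?_ hE
    have h : commutator (↥(F.autGroup H) ⧸ (Inn ↥H).subgroupOf (F.autGroup H)) =
        (commutator ↥(F.autGroup H)).map (QuotientGroup.mk' _) := by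
      rw [commutator_def, commutator_def, Subgroup.map_commutator,
        Subgroup.map_top_of_surjective _ (QuotientGroup.mk'_surjective _)]
    rw [h]
    exact hA.map _
  · exact Or.inl ⟨⟨⟨hc⟩⟩, fun x hx => congrArg Subtype.val (he ⟨x, hx⟩)⟩
  · exact Or.inr (Or.inl ⟨ho, hx, fun x hx' => congrArg Subtype.val (he ⟨x, hx'⟩)⟩)
  · exact Or.inr (Or.inr h)

end Cfsg.Agent.S5186
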