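import Cfsg.Statements.S0015
import Cfsg.Agent.Lib.Solv.Cores

set_option autoImplicit false
open Cfsg

open scoped Pointwise commutatorElement

namespace Cfsg.Agent.S0015

/-- In a finite nilpotent group, an abelian normal subgroup that is maximal among abelian normal subgroups equals its own centralizer. -/
theorem result {G : Type*} [Group G] [Finite G] [Group.IsNilpotent G]
    (N : Subgroup G) [N.Normal] [IsMulCommutative N]
    (hmax : ∀ M : Subgroup G, M.Normal → IsMulCommutative M → N ≤ M → M = N) :
    Subgroup.centralizer (N : Set G) = N := by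
  refine le_antisymm ?_ (fun n hn => Subgroup.mem_centralizer_iff.2 fun m hm =>
    congrArg Subtype.val ((IsMulCommutative.is_comm (M := N)).comm ⟨m, hm⟩ ⟨n, hn⟩))
  by_contra hne
  set C := Subgroup.centralizer (N : Set G) with hC
  have hCn : C.Normal := by rw [hC]; infer_instance
  set f := QuotientGroup.mk' N with hf
  have hNC : N ≤ C := fun n hn => Subgroup.mem_centralizer_iff.2 fun m hm =>
    congrArg Subtype.val ((IsMulCommutative.is_comm (M := N)).comm ⟨m, hm⟩ ⟨n, hn⟩)
  have hMn : (C.map f).Normal := hCn.map f (QuotientGroup.mk'_surjective N)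
  have hMb : C.map f ≠ ⊥ := by
    rw [Ne, Subgroup.map_eq_bot_iff, hf, QuotientGroup.ker_mk']; exact hne
  obtain ⟨M, hM, hMb', hMC, hmin⟩ := Solv.exists_minimal_normal_le (C.map f) hMb
  have hlt : ⁅(⊤ : Subgroup (G ⧸ N)), M⁆ ≠ M := by
    intro h
    obtain ⟨n, hn⟩ := Subgroup.nilpotent_iff_lowerCentralSeries.1
      (inferInstance : Group.IsNilpotent (G ⧸ N))
    have : ∀ k, M ≤ (⊤ : Subgroup (G ⧸ N)).lowerCentralSeries k := by
      intro k
      induction k with
      | zero => exact le_top
      | succ k ih =>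
        rw [← h, Subgroup.commutator_comm, Subgroup.lowerCentralSeries_succ]
        exact Subgroup.commutator_mono ih le_rfl
    exact hMb' (eq_bot_iff.2 (hn ▸ this n))
  have hcentral : ∀ m ∈ M, ∀ q : G ⧸ N, q * m = m * q := by
    rcases hmin ⁅(⊤ : Subgroup (G ⧸ N)), M⁆ inferInstance
      (Subgroup.commutator_le_right _ _) with h | h
    · intro m hm q
      rw [← commutatorElement_eq_one_iff_mul_comm, ← Subgroup.mem_bot, ← h]
      exact Subgroup.commutator_mem_commutator (Subgroup.mem_top q) hm
    · exact absurd h hlt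
  obtain ⟨m, hm, hm1⟩ := (Subgroup.ne_bot_iff_exists_ne_one.1 hMb').elim fun m hm =>
    (⟨m.1, m.2, fun h => hm (Subtype.ext h)⟩ : ∃ m ∈ M, m ≠ 1)
  obtain ⟨c, hc, rfl⟩ := hMC hm
  set A := N ⊔ Subgroup.zpowers c with hA
  have hAn : A.Normal := by
    refine ⟨fun x hx g => ?_⟩
    have : A = (Subgroup.zpowers (f c)).comap f := by
      rw [← MonoidHom.map_zpowers, Subgroup.comap_map_eq, hf, QuotientGroup.ker_mk', sup_comm]
    rw [this, Subgroup.mem_comap, map_mul, map_mul, map_inv]
    rw [this, Subgroup.mem_comap] at hx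
    obtain ⟨i, hi⟩ := Subgroup.mem_zpowers_iff.1 hx
    rw [← hi]
    have hcomm : Commute (f g) (f c ^ i) := Commute.zpow_right (show Commute (f g) (f c) from hcentral _ hm (f g)) i
    rw [hcomm.eq, mul_inv_cancel_right]
    exact Subgroup.zpow_mem_zpowers _ _
  have hle : A ≤ Subgroup.centralizer (A : Set G) := by
    rw [hA, sup_le_iff, Subgroup.zpowers_le]
    constructor
    · rw [Subgroup.le_centralizer_iff]
      exact sup_le hNC (Subgroup.zpowers_le.2 hc)
    · rw [Subgroup.mem_centralizer_iff]
      have hsub : N ⊔ Subgroup.zpowers c ≤ Subgroup.centralizer ({c} : Set G) :=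
        sup_le (fun n hn => Subgroup.mem_centralizer_singleton_iff.2
          (Subgroup.mem_centralizer_iff.1 hc n hn))
          (Subgroup.zpowers_le.2 (Subgroup.mem_centralizer_singleton_iff.2 rfl))
      exact fun x hx => Subgroup.mem_centralizer_singleton_iff.1 (hsub hx)
  have hAab : IsMulCommutative A := ⟨⟨fun a b => Subtype.ext
    (Subgroup.mem_centralizer_iff.1 (hle b.2) a a.2)⟩⟩
  have := hmax A hAn hAab le_sup_left
  refine hm1 ((QuotientGroup.eq_one_iff c).2 ?_)
  rw [← this]
  exact Subgroup.mem_sup_right (Subgroup.mem_zpowers c)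

end Cfsg.Agent.S0015
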