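import Cfsg.Agent.S3761
import Cfsg.Agent.S0015
import Cfsg.Agent.Lib.Solv.Kulakoff
import Mathlib

/-!
# p-groups whose abelian normal subgroups are cyclic
-/

set_option autoImplicit false
open Cfsg

namespace Cfsg.Agent.S0519

/-- The Klein four subgroup of the dihedral group of order eight. -/
def klein : Subgroup (DihedralGroup 4) where
  carrier := {x | x = DihedralGroup.r 0 ∨ x = DihedralGroup.r 2 ∨ x = DihedralGroup.sr 0 ∨ x = DihedralGroup.sr 2}
  one_mem' := Or.inl rfl
  mul_mem' := by
    intro a b ha hb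
    rcases ha with rfl | rfl | rfl | rfl <;> rcases hb with rfl | rfl | rfl | rfl <;>
      simp only [Set.mem_setOf_eq] <;> decide
  inv_mem' := by
    intro a ha
    rcases ha with rfl | rfl | rfl | rfl <;> simp only [Set.mem_setOf_eq] <;> decide

theorem klein_facts : klein.Normal ∧ IsMulCommutative klein ∧ ¬ IsCyclic klein := by
  refine ⟨⟨fun x hx g => ?_⟩, ⟨⟨fun a b => Subtype.ext ?_⟩⟩, fun h => ?_⟩
  · show g * x * g⁻¹ = _ ∨ _
    revert hx
    show (x = _ ∨ _) → _
    revert x g
    decide
  · obtain ⟨a, ha⟩ := a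
    obtain ⟨b, hb⟩ := b
    show a * b = b * a
    rcases ha with rfl | rfl | rfl | rfl <;> rcases hb with rfl | rfl | rfl | rfl <;> decide
  · obtain ⟨⟨x, hx⟩, hgen⟩ := h.exists_generator
    have h1 := hgen ⟨DihedralGroup.r 2, Or.inr (Or.inl rfl)⟩
    have h2 := hgen ⟨DihedralGroup.sr 0, Or.inr (Or.inr (Or.inl rfl))⟩
    obtain ⟨i, hi⟩ := h1
    obtain ⟨j, hj⟩ := h2
    have hi' : x ^ i = DihedralGroup.r 2 := congrArg Subtype.val hi
    have hj' : x ^ j = DihedralGroup.sr 0 := congrArg Subtype.val hj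
    have hx2 : x ^ (2 : ℤ) = 1 := by rcases hx with rfl | rfl | rfl | rfl <;> decide
    have red : ∀ k : ℤ, x ^ k = 1 ∨ x ^ k = x := fun k => by
      rcases Int.even_or_odd k with ⟨t, rfl⟩ | ⟨t, rfl⟩
      · left; rw [← two_mul, zpow_mul, hx2, one_zpow]
      · right; rw [zpow_add, zpow_mul, hx2, one_zpow, one_mul, zpow_one]
    rcases red i with h | h <;> rcases red j with h' | h' <;> rw [h] at hi' <;> rw [h'] at hj'
    · exact absurd hi' (by decide)
    · exact absurd hi' (by decide)
    · exact absurd hj' (by decide)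
    · exact absurd (hi'.symm.trans hj') (by decide)

/-- Let P be a finite p-group in which every abelian normal subgroup is cyclic, but which has a non-cyclic abelian
subgroup. Then p = 2 and P is generalized quaternion, dihedral of order at least 16, or quasi-dihedral. -/
theorem result {P : Type*} [Group P] [Finite P] (p : ℕ) [Fact p.Prime]
    (hP : IsPGroup p P) (hn : ∀ A : Subgroup P, A.Normal → IsMulCommutative A → IsCyclic A)
    (hm : ∃ B : Subgroup P, IsMulCommutative B ∧ ¬ IsCyclic B) :
    p = 2 ∧ ((∃ n : ℕ, Nonempty (P ≃* QuaternionGroup n)) ∨ (∃ n : ℕ, 8 ≤ n ∧ Nonempty (P ≃* DihedralGroup n)) ∨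
      Cfsg.IsQuasiDihedral P) := by
  obtain ⟨B, hB, hBnc⟩ := hm
  have hncyc : ¬ IsCyclic P := fun h => hBnc inferInstance
  have hna : ¬ IsMulCommutative P := fun h => by
    haveI := h
    haveI := hn ⊤ inferInstance inferInstance
    exact hncyc (Subgroup.topEquiv.isCyclic.1 inferInstance)
  have hp2 : p = 2 := by
    by_contra hp2
    obtain ⟨E, hEn, hEe, hEc⟩ := Cfsg.Agent.Solv.exists_normal_elementary_sq hp2 hP hncyc
    haveI := hn E hEn hEe.1
    obtain ⟨x, hx⟩ := IsCyclic.exists_generator (α := E)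
    have h3 : orderOf x ∣ p := orderOf_dvd_of_pow_eq_one (Subtype.ext (hEe.2 x x.2))
    rw [orderOf_eq_card_of_forall_mem_zpowers hx, hEc, pow_two] at h3
    have hp : p.Prime := Fact.out
    have := Nat.le_of_dvd hp.pos h3
    have := hp.two_le
    nlinarith
  subst hp2
  refine ⟨rfl, ?_⟩
  haveI : Group.IsNilpotent P := hP.isNilpotent
  obtain ⟨A, -, hA⟩ := Finite.exists_le_maximal (p := fun A : Subgroup P => A.Normal ∧ IsMulCommutative A)
    (a := (⊥ : Subgroup P)) ⟨inferInstance, inferInstance⟩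
  haveI := hA.1.1
  haveI := hA.1.2
  have hC := Cfsg.Agent.S0015.result A fun M hM hMc hle => le_antisymm (hA.2 ⟨hM, hMc⟩ hle) hle
  have hc := hn A hA.1.1 hA.1.2
  obtain ⟨k, hk⟩ := IsPGroup.iff_card.1 (hP.to_subgroup A)
  rcases Cfsg.Agent.S3761.result hP hna A hc k hk hC with ⟨-, hcard, hD | hQ | hS⟩ | ⟨-, hel, hc4, hch⟩
  · obtain ⟨m, ⟨e⟩⟩ := hD
    refine Or.inr (Or.inl ⟨m, ?_, ⟨e⟩⟩)
    have h2m : 2 * m = 2 ^ (k + 1) := by
      rw [← hcard, Nat.card_congr e.toEquiv, DihedralGroup.nat_card]
    rw [pow_succ, mul_comm (2 ^ k)] at h2m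
    have hm : m = 2 ^ k := Nat.eq_of_mul_eq_mul_left (by norm_num) h2m
    by_contra hlt
    rcases k with _ | _ | _ | k
    · exact hna ⟨⟨fun a b => e.injective (by
        rw [map_mul, map_mul]
        subst hm
        generalize e a = x
        generalize e b = y
        revert x y
        decide)⟩⟩
    · exact hna ⟨⟨fun a b => e.injective (by
        rw [map_mul, map_mul]
        subst hm
        generalize e a = x
        generalize e b = y
        revert x y
        decide)⟩⟩
    · have hm4 : m = 4 := hm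
      subst hm4
      obtain ⟨h1, h2, h3⟩ := klein_facts
      set V := klein.map e.symm.toMonoidHom
      let f := klein.equivMapOfInjective e.symm.toMonoidHom e.symm.injective
      have hVc : IsMulCommutative V := ⟨⟨fun a b => f.symm.injective (by
        rw [map_mul, map_mul]; exact h2.is_comm.comm _ _)⟩⟩
      exact h3 (f.isCyclic.2 (hn V (h1.map _ e.symm.surjective) hVc))
    · have : 8 ≤ 2 ^ (k + 3) := by
        rw [pow_add]; exact Nat.le_mul_of_pos_left 8 (by positivity)
      rw [hm] at hlt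
      exact hlt this
  · exact Or.inl hQ
  · exact Or.inr (Or.inr hS)
  · exfalso
    haveI := hch
    haveI := hn _ (Subgroup.normal_of_characteristic _) hel.1
    obtain ⟨x, hx⟩ := IsCyclic.exists_generator
      (α := Cfsg.omegaOne 2 (Subgroup.centralizer (Cfsg.powerClosure 2 1 A : Set P)))
    have h3 : orderOf x ∣ 2 := orderOf_dvd_of_pow_eq_one (Subtype.ext (hel.2 x x.2))
    rw [orderOf_eq_card_of_forall_mem_zpowers hx, hc4] at h3
    norm_num at h3

end Cfsg.Agent.S0519
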