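import Cfsg.Statements.S5144
import Cfsg.Agent.Lib.Local.FS.Normal

set_option autoImplicit false
open Cfsg

namespace Cfsg.Agent.S5144

theorem result {Ω : Type*} [Group Ω] {S : Subgroup Ω} [Finite S] (F : Cfsg.FusionSystem S) : F.IsCentral F.center := by
  open Cfsg.Agent.Local.FS in
  have hfin : {Q : Subgroup Ω | F.IsCentral Q}.Finite := by
    refine Set.Finite.subset ((Set.toFinite (Set.univ : Set (Subgroup S))).image (fun K => K.map S.subtype)) ?_
    intro Q hQ
    exact ⟨Q.subgroupOf S, trivial, Subgroup.map_subgroupOf_eq_of_le hQ.1⟩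
  unfold Cfsg.FusionSystem.center
  rw [← hfin.coe_toFinset, ← Finset.sup_id_eq_sSup]
  refine Finset.sup_induction (p := fun Q => F.IsCentral Q) ?_ ?_ fun Q hQ => hfin.mem_toFinset.1 hQ
  · refine ⟨bot_le, fun P φ hφ => ?_⟩
    have hm : Map F (P ⊔ ⊥) (fn φ) := by rw [sup_bot_eq]; exact map_of_mem hφ
    obtain ⟨ψ, hψ, he⟩ := hm
    refine ⟨ψ, hψ, fun x => ?_, fun x => ?_⟩
    · rw [he]; exact fn_coe φ x
    · have hx : x = 1 := Subsingleton.elim _ _
      subst hx
      simp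
  · intro A hA B hB
    refine ⟨sup_le hA.1 hB.1, fun P φ hφ => ?_⟩
    obtain ⟨ψ, hψ, hψP, hψA⟩ := hA.2 P φ hφ
    obtain ⟨χ, hχ, hχP, hχB⟩ := hB.2 _ ψ hψ
    have hm : Map F (P ⊔ (A ⊔ B)) (fn χ) := by rw [← sup_assoc]; exact map_of_mem hχ
    obtain ⟨χ', hχ', he⟩ := hm
    refine ⟨χ', hχ', fun x => ?_, fun x => ?_⟩
    · rw [he]
      exact (fn_apply χ (Subgroup.mem_sup_left (Subgroup.mem_sup_left x.2))).trans
        ((hχP (Subgroup.inclusion le_sup_left x)).trans (hψP x))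
    · have hle : A ⊔ B ≤ (χ'.eqLocus (P ⊔ (A ⊔ B)).subtype).map (P ⊔ (A ⊔ B)).subtype := by
        refine sup_le (fun y hy => ?_) (fun y hy => ?_)
        · refine ⟨⟨y, Subgroup.mem_sup_right (Subgroup.mem_sup_left hy)⟩, ?_, rfl⟩
          show χ' _ = y
          rw [he]
          exact (fn_apply χ (Subgroup.mem_sup_left (Subgroup.mem_sup_right hy))).trans
            ((hχP (Subgroup.inclusion le_sup_right ⟨y, hy⟩)).trans (hψA ⟨y, hy⟩))
        · refine ⟨⟨y, Subgroup.mem_sup_right (Subgroup.mem_sup_right hy)⟩, ?_, rfl⟩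
          show χ' _ = y
          rw [he]
          exact (fn_apply χ (Subgroup.mem_sup_right hy)).trans (hχB ⟨y, hy⟩)
      obtain ⟨y, hy, hyx⟩ := hle x.2
      have : y = Subgroup.inclusion le_sup_right x := Subtype.ext hyx
      rw [← this]
      exact (show χ' y = y from hy).trans hyx

end Cfsg.Agent.S5144
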