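import Cfsg.Statements.S5187
import Cfsg.Agent.Lib.Local.FS.EssentialRankTwo
import Cfsg.Agent.Lib.Local.FS.Aut
import Cfsg.Agent.Lib.Local.FS.Essential

set_option autoImplicit false
universe u
open Cfsg

namespace Cfsg.Agent.S5187

theorem result {Ω : Type u} [Group Ω] {S : Subgroup Ω} [Finite S] (p : ℕ) [Fact p.Prime] (hS : IsPGroup p S)
    (F : Cfsg.FusionSystem S) (hF : F.IsSaturated p) (H : Subgroup Ω) (hH : F.IsEssential p H) (hab : IsMulCommutative ↥H) (hrk : (frattini ↥H).index ≤ p ^ 2) :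
    (Cfsg.IsElementaryAbelian p H ∧ Nat.card H = p ^ 2) ∨
      (p ≤ 3 ∧ ∃ k : ℕ, Nonempty (↥H ≃* Multiplicative (ZMod (p ^ k) × ZMod (p ^ k)))) := by
  obtain ⟨hC, hn, hN, E, hE⟩ := hH
  haveI := Cfsg.Agent.Local.FS.finite_of_le hn.1
  haveI := Cfsg.Agent.Local.FS.mulAut_finite_of_le hn.1
  haveI := hN
  letI : CommGroup H := { (inferInstance : Group H) with mul_comm := hab.is_comm.comm }
  have hI : (Inn ↥H).subgroupOf (F.autGroup H) = ⊥ := by
    rw [eq_bot_iff]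
    intro a ha
    obtain ⟨g, hg⟩ := Subgroup.mem_subgroupOf.1 ha
    rw [Subgroup.mem_bot]
    refine Subtype.ext (MulEquiv.ext fun x => ?_)
    rw [← hg]
    show g * x * g⁻¹ = x
    rw [mul_comm g x, mul_inv_cancel_right]
  obtain ⟨e, he⟩ : ∃ e : ↥(F.autGroup H) ≃* ↥(F.autGroup H) ⧸ (Inn ↥H).subgroupOf (F.autGroup H), True :=
    ⟨MulEquiv.ofBijective (QuotientGroup.mk' _) ⟨by
      rw [← MonoidHom.ker_eq_bot_iff, QuotientGroup.ker_mk', hI], QuotientGroup.mk'_surjective _⟩, trivial⟩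
  have hHp : IsPGroup p H := hS.to_le hn.1
  rcases Cfsg.Agent.Local.FS.rank_two_cases hHp hrk (F.autGroup H)
    (Cfsg.Agent.Local.FS.isStronglyPEmbedded_map e.symm hE) with ⟨hexp, hc⟩ | h
  · exact Or.inl ⟨⟨hab, fun x hx => congrArg Subtype.val (hexp ⟨x, hx⟩)⟩, hc⟩
  · exact Or.inr h

end Cfsg.Agent.S5187
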