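import Cfsg.Statements.S5118
import Cfsg.Agent.Lib.Local.FS.Transport
import Cfsg.Agent.Lib.Local.FS.Sub

set_option autoImplicit false
open Cfsg

namespace Cfsg.Agent.S5118

theorem result {G : Type*} [Group G] [Finite G] (p : ℕ) [Fact p.Prime] (S : Sylow p G) (H : Subgroup G) [H.Normal] : (Cfsg.fusionSystemOfSubgroup H ((S : Subgroup G) ⊓ H) inf_le_right).IsNormalIn (Cfsg.groupFusionSystem (S : Subgroup G)) p := by
  open Cfsg.Agent.Local.FS Cfsg.Agent.Fusion in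
  set T := (S : Subgroup G) ⊓ H with hT
  have hTS : T ≤ (S : Subgroup G) := inf_le_left
  have hTH : T ≤ H := inf_le_right
  have hS := S.isPGroup'
  have hHn : ∀ (g : G) {x : G}, x ∈ H → g * x * g⁻¹ ∈ H := fun g x hx => Subgroup.Normal.conj_mem inferInstance x hx g
  have hTsyl : SylIn p T H := by
    have := (sylIn_top S).inf_normal (N := H) le_top (by rw [Subgroup.normalizer_eq_top])
    exact this
  set E := Cfsg.fusionSystemOfSubgroup H T hTH
  have hEmap : ∀ {P : Subgroup G} {φ : P →* G}, φ ∈ E.Hom P ↔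
      P ≤ T ∧ (∀ x : P, φ x ∈ T) ∧ ∃ g ∈ H, ∀ x : P, φ x = g * (x : G) * g⁻¹ := Iff.rfl
  have hsub : E.IsSubsystemOf (Cfsg.groupFusionSystem (S : Subgroup G)) := by
    rintro P φ ⟨hP, hm, g, -, hg⟩
    exact ⟨hP.trans hTS, fun x => hTS (hm x), g, hg⟩
  have hsat : E.IsSaturated p := by
    have hr : E.IsRealizedBy (Subgroup.inclusion hTH) := by
      refine ⟨Subgroup.inclusion_injective hTH, fun P hP φ hφ => ⟨?_, ?_⟩⟩
      · rintro ⟨-, -, g, hgH, hg⟩
        exact ⟨⟨g, hgH⟩, fun x => Subtype.ext (hg x)⟩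
      · rintro ⟨g, hg⟩
        exact ⟨hP, hφ, g, g.2, fun x => congrArg Subtype.val (hg x)⟩
    refine (fiso_of_realized hr).saturated (hS.to_le hTS) (group_saturated ?_)
    refine ⟨le_top, ?_, ?_⟩
    · exact (hS.to_le hTS).of_surjective _ (Subgroup.inclusion hTH).rangeRestrict_surjective
    · rw [Subgroup.inclusion_range, Subgroup.relIndex_top_right]
      exact hTsyl.not_dvd
  have hTsc : (Cfsg.groupFusionSystem (S : Subgroup G)).StronglyClosed T := by
    refine stronglyClosed_iff.2 ⟨hTS, fun P f hP hf x hx => ⟨hf.mem hx, ?_⟩⟩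
    obtain ⟨-, -, g, hg⟩ := map_group_iff.1 hf
    rw [hg x hx]
    exact hHn g (hTH (hP hx))
  haveI := mulAut_finite_of_le hTS
  have hconj : ∀ g ∈ Subgroup.normalizer (T : Set G), ∀ x, x ∈ T ↔ g * x * g⁻¹ ∈ T :=
    fun g hg x => Subgroup.mem_normalizer_iff.1 hg x
  refine ⟨⟨hsat, group_saturated (sylIn_top S), hsub, hTsc, ?_, ?_⟩, ?_⟩
  · rintro P hPT φ ⟨-, hm, k, hk, hkφ⟩ α hα
    rw [autGroup_group hTS] at hα
    obtain ⟨g, -, hg⟩ := Cfsg.Agent.Local.FS.mem_autInducedBy.1 hα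
    have hgn := mem_normalizer_of_conj_aut hg
    set P' := (P.subgroupOf T).map (T.subtype.comp α.toMonoidHom)
    have hmem : ∀ y ∈ P', ∃ x ∈ P, g * x * g⁻¹ = y := by
      rintro _ ⟨x, hx, rfl⟩
      exact ⟨x, hx, ((av_coe α x).symm.trans (hg x x.2)).symm⟩
    have hval : ∀ y ∈ P', (g * k * g⁻¹) * y * (g * k * g⁻¹)⁻¹ ∈ T := by
      intro y hy
      obtain ⟨x, hx, rfl⟩ := hmem y hy
      have h1 := (hconj g hgn _).1 (hkφ ⟨x, hx⟩ ▸ hm ⟨x, hx⟩)
      simpa [mul_assoc] using h1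
    refine ⟨(MulAut.conj (g * k * g⁻¹)).toMonoidHom.comp P'.subtype,
      ⟨fun y hy => ?_, fun y => hval y y.2, g * k * g⁻¹, hHn g hk, fun y => rfl⟩, fun x hφx hαx => ?_⟩
    · obtain ⟨x, hx, rfl⟩ := hmem y hy
      exact (hconj g hgn x).1 (hPT hx)
    · show (g * k * g⁻¹) * ((α ⟨x, hPT x.2⟩ : ↥T) : G) * (g * k * g⁻¹)⁻¹ = _
      rw [← av_coe, hg _ (hPT x.2), ← av_coe, hg _ hφx]
      show _ = g * φ x * g⁻¹
      rw [hkφ]; group
  · rintro P hPT φ ⟨-, hm, g, hg⟩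
    obtain ⟨k, hk, hkT⟩ := hTsyl.conj_le (isPGroup_cj (hS.to_le hTS) g)
      (fun y hy => by
        obtain ⟨x, hx, rfl⟩ := hy
        exact hHn g (hTH hx))
    rw [cj_cj] at hkT
    set n := k * g with hn
    have hnn : n ∈ Subgroup.normalizer (T : Set G) :=
      mem_normalizer_of_conj_mem (S := (S : Subgroup G)) hTS fun y hy => hkT (conj_mem_cj hy)
    obtain ⟨α, hαv, hαT⟩ := exists_aut_conj hnn
    have hαF : α ∈ (Cfsg.groupFusionSystem (S : Subgroup G)).autGroup T := by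
      rw [autGroup_group hTS]; exact hαT ⊤ trivial
    have hhH : n⁻¹ * k⁻¹ * n ∈ H := by simpa using hHn n⁻¹ (H.inv_mem hk)
    have hφT : ∀ x : P, φ x ∈ T := fun x => ⟨hm x, hg x ▸ hHn g (hTH (hPT x.2))⟩
    have hval : ∀ x : P, (n⁻¹ * k⁻¹ * n) * (x : G) * (n⁻¹ * k⁻¹ * n)⁻¹ = n⁻¹ * φ x * n := fun x => by
      rw [hg x, hn]; group
    refine ⟨α, hαF, (MulAut.conj (n⁻¹ * k⁻¹ * n)).toMonoidHom.comp P.subtype,
      ⟨hPT, fun x => ?_, _, hhH, fun x => rfl⟩, fun x hx => ?_⟩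
    · show (n⁻¹ * k⁻¹ * n) * (x : G) * (n⁻¹ * k⁻¹ * n)⁻¹ ∈ T
      rw [hval]
      have h1 := (hconj n⁻¹ (Subgroup.inv_mem _ hnn) (φ x)).1 (hφT x)
      simpa using h1
    · rw [← av_coe, hαv _ hx]
      show _ = n * ((n⁻¹ * k⁻¹ * n) * (x : G) * (n⁻¹ * k⁻¹ * n)⁻¹) * n⁻¹
      rw [hval]; group
  · intro α hα
    haveI := finite_of_le (hTS)
    obtain ⟨φ, ⟨-, -, k, hk, hkφ⟩, he⟩ := map_of_mem_autGroup le_rfl hα
    have hkα : ∀ x ∈ T, av α x = k * x * k⁻¹ := fun x hx => by rw [← he ⟨x, hx⟩, hkφ]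
    have hkn := mem_normalizer_of_conj_aut hkα
    set C := Cfsg.FusionSystem.centralizerIn (S : Subgroup G) T
    set CG := Subgroup.centralizer (T : Set G)
    have hCG : SylIn p C CG := sylIn_centralizer_of_normalizer (by
      have h1 : Cfsg.FusionSystem.normalizerIn (S : Subgroup G) T = (S : Subgroup G) :=
        inf_eq_left.2 (stronglyClosed_le_normalizer hTsc)
      rw [h1]
      exact (sylIn_top S).mono (stronglyClosed_le_normalizer hTsc) le_top)
    set L := C ⊔ (H ⊓ CG)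
    have hLle : L ≤ CG := sup_le inf_le_right inf_le_right
    have hLsyl : SylIn p C L := hCG.mono le_sup_left hLle
    have hCGn : ∀ g ∈ Subgroup.normalizer (T : Set G), ∀ c ∈ CG, g * c * g⁻¹ ∈ CG := by
      intro g hgn c hc
      refine Subgroup.mem_centralizer_iff.2 fun t ht => ?_
      have h1 := Subgroup.mem_centralizer_iff.1 hc _ ((hconj g⁻¹ (Subgroup.inv_mem _ hgn) t).1 ht)
      rw [inv_inv] at h1
      calc t * (g * c * g⁻¹) = g * (g⁻¹ * t * g * c) * g⁻¹ := by group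
        _ = g * (c * (g⁻¹ * t * g)) * g⁻¹ := by rw [h1]
        _ = _ := by group
    have hcjC : cj C k ≤ L := by
      rintro _ ⟨c, hc, rfl⟩
      show k * c * k⁻¹ ∈ L
      rw [show k * c * k⁻¹ = c * ((c⁻¹ * k * c) * k⁻¹) by group]
      refine Subgroup.mul_mem_sup hc ⟨H.mul_mem ?_ (H.inv_mem hk), ?_⟩
      · simpa using hHn c⁻¹ hk
      · have h1 := CG.mul_mem (CG.inv_mem hc.2) (hCGn k hkn c hc.2)
        simpa [mul_assoc] using h1
    obtain ⟨l, hl, hlC⟩ := hLsyl.conj_le (isPGroup_cj (hS.to_le inf_le_left) k) hcjC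
    have hCn : C ≤ Subgroup.normalizer ((H ⊓ CG : Subgroup G) : Set G) := by
      intro c hc
      refine mem_normalizer_of_conj_mem (S := (⊤ : Subgroup G)) le_top fun y hy => ⟨hHn c hy.1, ?_⟩
      exact CG.mul_mem (CG.mul_mem hc.2 hy.2) (CG.inv_mem hc.2)
    rw [← SetLike.mem_coe, Subgroup.coe_mul_of_left_le_normalizer_right C (H ⊓ CG) hCn] at hl
    obtain ⟨s, hs, m, hm, rfl⟩ := hl
    rw [cj_cj] at hlC
    have hk' : cj C (m * k) ≤ C := by
      intro y hy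
      obtain ⟨c, hc, rfl⟩ := hy
      have h1 := hlC (conj_mem_cj hc)
      have h2 := C.mul_mem (C.mul_mem (C.inv_mem hs) h1) hs
      show (m * k) * c * (m * k)⁻¹ ∈ C
      simpa [mul_assoc] using h2
    have hk'T : ∀ x ∈ T, (m * k) * x * (m * k)⁻¹ = k * x * k⁻¹ := by
      intro x hx
      have h1 := Subgroup.mem_centralizer_iff.1 hm.2 _ ((hconj k hkn x).1 hx)
      calc m * k * x * (m * k)⁻¹ = m * (k * x * k⁻¹) * m⁻¹ := by group
        _ = k * x * k⁻¹ * m * m⁻¹ := by rw [h1]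
        _ = _ := by group
    set R := T ⊔ C
    have hRS : R ≤ (S : Subgroup G) := sup_le hTS inf_le_left
    have hRn : (m * k) ∈ Subgroup.normalizer (R : Set G) := by
      have h1 : R ≤ R.comap (MulAut.conj (m * k)).toMonoidHom := sup_le
        (fun x hx => Subgroup.mem_sup_left (by
          show (m * k) * x * (m * k)⁻¹ ∈ T
          rw [hk'T x hx]; exact (hconj k hkn x).1 hx))
        (fun x hx => Subgroup.mem_sup_right (hk' (conj_mem_cj hx)))
      exact mem_normalizer_of_conj_mem (S := (S : Subgroup G)) hRS fun y hy => h1 hy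
    obtain ⟨β, hβ, hβR⟩ := exists_aut_conj hRn
    refine ⟨β, ?_, fun x => ?_, fun c hc => ?_⟩
    · rw [autGroup_group hRS]; exact hβR ⊤ trivial
    · rw [← av_coe, ← av_coe, hβ _ (Subgroup.inclusion le_sup_left x).2, hkα x x.2]
      exact hk'T x x.2
    · have hmkH : m * k ∈ H := H.mul_mem hm.1 hk
      rw [← av_coe, hβ _ c.2]
      have hC1 : (c : G)⁻¹ * ((m * k) * (c : G) * (m * k)⁻¹) ∈ C :=
        C.mul_mem (C.inv_mem hc) (hk' (conj_mem_cj hc))
      refine ⟨⟨hC1.1, ?_⟩, hC1.2⟩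
      have h1 := H.mul_mem (hHn (c : G)⁻¹ hmkH) (H.inv_mem hmkH)
      simpa [mul_assoc] using h1

end Cfsg.Agent.S5118
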