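import Cfsg.Statements.S5092
import Cfsg.Agent.Lib.Local.FS.Focal

set_option autoImplicit false
open Cfsg
open scoped commutatorElement

namespace Cfsg.Agent.S5092

theorem result {Ω : Type*} [Group Ω] {S : Subgroup Ω} [Finite S] (p : ℕ) [Fact p.Prime] (hS : IsPGroup p S) (F : Cfsg.FusionSystem S) (hF : F.IsSaturated p) : F.focalSubgroup = F.hyperfocalSubgroup p ⊔ ⁅(S : Subgroup Ω), (S : Subgroup Ω)⁆ := by
  open Cfsg.Agent.Local.FS in
  set H := F.hyperfocalSubgroup p ⊔ ⁅(S : Subgroup Ω), (S : Subgroup Ω)⁆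
  refine le_antisymm ((Subgroup.closure_le _).2 ?_) (sup_le ((Subgroup.closure_le _).2 ?_) ?_)
  · have hcomm : ∀ {a b : Ω}, a ∈ S → b ∈ S → a⁻¹ * (b * a * b⁻¹) ∈ H := by
      intro a b ha hb
      have : ⁅a⁻¹, b⁆ ∈ H :=
        Subgroup.mem_sup_right (Subgroup.commutator_mem_commutator (S.inv_mem ha) hb)
      simpa [commutatorElement_def, mul_assoc] using this
    have key := alperin hS hF (K := fun P f => ∀ x ∈ P, x⁻¹ * f x ∈ H) ?_ ?_
    · rintro _ ⟨P, φ, x, hφ, rfl⟩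
      rw [← fn_coe φ x]
      exact key P _ (map_of_mem hφ) x x.2
    · refine ⟨fun h he x hx => he x hx ▸ h x hx, fun _ h hR x hx => h x (hR hx), ?_, ?_⟩
      · intro P Q f g _ _ hf hg hm x hx
        simpa [mul_assoc] using H.mul_mem (hf x hx) (hg _ (hm x hx))
      · intro P f g hM hf hg y hy
        obtain ⟨x, hx, rfl⟩ := hM.mem_im.1 hy
        rw [hg x hx]
        simpa using H.inv_mem (hf x hx)
    · intro R hR α hα x hx
      have hRfn := gen_fn hR
      obtain ⟨β, hβ, γ, hγ, rfl⟩ := exists_autS_mul_residual hS hF hRfn hα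
      obtain ⟨s, hs, hsβ⟩ := mem_autInducedBy.1 hβ
      have h1 : x⁻¹ * av (γ : MulAut R) x ∈ H :=
        Subgroup.mem_sup_left (inv_mul_mem_hyperfocal hRfn.1 hγ hx)
      have h2 := hcomm (hRfn.1 (av_mem (γ : MulAut R) hx)) hs
      rw [← hsβ _ (av_mem (γ : MulAut R) hx), ← av_mul _ _ hx] at h2
      simpa [mul_assoc] using H.mul_mem h1 h2
  · rintro _ ⟨P, α, x, hP, -, rfl⟩
    haveI := finite_of_le hP
    obtain ⟨φ, hφ, he⟩ := (mem_autGroup_iff hP).1 α.2
    refine Subgroup.subset_closure ⟨P, φ, x, hφ, ?_⟩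
    rw [he, av_coe]
  · refine Subgroup.commutator_le.2 fun a ha b hb => Subgroup.subset_closure ?_
    obtain ⟨φ, hφ, he⟩ := map_conjBy (F := F) (le_refl S) hb
    refine ⟨S, φ, ⟨a⁻¹, S.inv_mem ha⟩, hφ, ?_⟩
    rw [he]
    simp [commutatorElement_def, mul_assoc]

end Cfsg.Agent.S5092
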