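import Cfsg.Statements.S1249
import Cfsg.Agent.Lib.Fusion.Basic

set_option autoImplicit false
open Cfsg
open Cfsg.Agent.Fusion
open scoped commutatorElement

namespace Cfsg.Agent.S1249

/-- Let P and Q be Sylow p-subgroups of the finite group G both containing the subgroup A. If A is strongly closed in P, then A is strongly closed in Q. -/
theorem result {G : Type*} [Group G] [Finite G] {p : ℕ} [Fact p.Prime] (P Q : Sylow p G) (A : Subgroup G) (hAQ : A ≤ Q) (hA : Cfsg.IsStronglyClosed A (P : Subgroup G)) : Cfsg.IsStronglyClosed A (Q : Subgroup G) := by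
  refine ⟨hAQ, fun x hx g hg => ?_⟩
  obtain ⟨c, -, hc⟩ := (sylIn_top P).conj_eq (sylIn_top Q)
  have hback : ∀ y ∈ (Q : Subgroup G), c⁻¹ * y * c ∈ (P : Subgroup G) := fun y hy => mem_cj.1 (hc.symm ▸ hy)
  have hA' : cj A c⁻¹ = A := cj_eq_of_cj_le (by
    rintro _ ⟨a, ha, rfl⟩
    have := hA.2 a ha c⁻¹ (by rw [inv_inv]; exact hback a (hAQ ha))
    simpa using this)
  have h2 := hA.2 x hx (c⁻¹ * g) (by
    have := hback _ hg
    rwa [show c⁻¹ * g * x * (c⁻¹ * g)⁻¹ = c⁻¹ * (g * x * g⁻¹) * c by group])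
  rw [← cj_inv_cj A c] at hA'
  have h3 : cj A c = A := by
    have := congrArg (fun K => cj K c) (cj_inv_cj A c ▸ hA' : cj A c⁻¹ = A)
    simpa [cj_inv_cj] using this.symm
  rw [← h3, mem_cj]
  rwa [show c⁻¹ * g * x * (c⁻¹ * g)⁻¹ = c⁻¹ * (g * x * g⁻¹) * c by group] at h2

end Cfsg.Agent.S1249
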