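import Cfsg.Statements.S2845
import Cfsg.Agent.Lib.LocalEven.LargeBasic

set_option autoImplicit false
open Cfsg

namespace Cfsg.Agent.S2845

theorem result {H : Type*} [Group H] [Finite H] {p : ℕ} [Fact p.Prime] (Q : Subgroup H) (hQp : IsPGroup p ↥Q) (hQ1 : Q ≠ ⊥) (hL : Cfsg.IsLarge Q) : (∀ L : Subgroup H, Q ≤ L → Cfsg.pCore p ↥L ≠ ⊥ → IsPGroup p ↥(Subgroup.centralizer (((Cfsg.pCoreOf p L) : Subgroup H) : Set H)) ∧ Subgroup.centralizer (Cfsg.pCore p ↥L : Set ↥L) ≤ Cfsg.pCore p ↥L ∧ (Cfsg.weakClosure Q L = Q ∨ Subgroup.centralizer (((Cfsg.weakClosure Q L) : Subgroup H) : Set H) = ⊥)) ∧ (∀ R : Subgroup H, Cfsg.IsParabolic p R → Cfsg.pCore p ↥R ≠ ⊥ → Subgroup.centralizer (((Cfsg.pCoreOf p R) : Subgroup H) : Set H) ≤ (Cfsg.pCoreOf p R)) ∧ Cfsg.IsOfParabolicCharacteristic p H := by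
  have main : ∀ (Q : Subgroup H), IsPGroup p ↥Q → IsLarge Q → ∀ L : Subgroup H, Q ≤ L →
      pCore p ↥L ≠ ⊥ → IsPGroup p ↥(Subgroup.centralizer (pCoreOf p L : Set H)) ∧
        Subgroup.centralizer (pCore p ↥L : Set ↥L) ≤ pCore p ↥L := by
    intro Q hQp hL L hQL hne
    set P := pCoreOf p L
    set C := Subgroup.centralizer (P : Set H)
    have hCN : C ≤ Subgroup.normalizer (Q : Set H) := LocalEven.Large.centralizer_core_le hQp hL hQL hne
    have hLC : L ≤ Subgroup.normalizer (C : Set H) := fun l hl => Fusion.mem_normalizer_iff_cj.2 (by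
      rw [Fusion.cj_centralizer, Fusion.cj_eq_self (Fusion.le_normalizer_pCoreOf L hl)])
    have hC0 : (L ⊓ C) ≤ L := inf_le_left
    -- `Q ∩ C` lies in the core
    have hK : Q ⊓ C ≤ P := by
      have hn : L ⊓ C ≤ Subgroup.normalizer ((Q ⊓ C : Subgroup H) : Set H) := fun x hx => by
        obtain ⟨hxL, hxC⟩ := Subgroup.mem_inf.1 hx
        refine Fusion.mem_normalizer_iff_cj.2 ?_
        rw [Fusion.cj_inf, Fusion.cj_eq_self (hCN hxC), Fusion.cj_eq_self (hLC hxL)]
      have h1 : Q ⊓ C ≤ pCoreOf p (L ⊓ C) :=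
        Fusion.le_pCoreOf (le_inf (inf_le_left.trans hQL) inf_le_right) hn hQp.to_inf_left
      refine h1.trans (Fusion.le_pCoreOf ((Fusion.pCoreOf_le _).trans hC0) (fun l hl => ?_)
        (Fusion.pCoreOf_isPGroup _))
      have hl' : l ∈ Subgroup.normalizer ((L ⊓ C : Subgroup H) : Set H) :=
        Fusion.mem_normalizer_iff_cj.2 (by
          rw [Fusion.cj_inf, Fusion.cj_eq_self_of_mem hl, Fusion.cj_eq_self (hLC hl)])
      refine Fusion.mem_normalizer_of_cj_le (Fusion.le_pCoreOf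
        ((Fusion.cj_mono (Fusion.pCoreOf_le _) l).trans (Fusion.cj_eq_self hl').le) ?_
        (Fusion.isPGroup_cj (Fusion.pCoreOf_isPGroup _) l))
      have := Fusion.cj_mono (Fusion.le_normalizer_pCoreOf (p := p) (L ⊓ C)) l
      rwa [Fusion.cj_eq_self hl', Fusion.cj_normalizer] at this
    have hCp : IsPGroup p ↥C := by
      rw [IsPGroup.iff_orderOf]
      rintro ⟨x, hx⟩
      rw [Subgroup.orderOf_mk]
      obtain ⟨k, m, hm, hkm⟩ := Nat.exists_eq_pow_mul_and_not_dvd (orderOf_pos x).ne' p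
        (Fact.out : p.Prime).ne_one
      have hyC : x ^ p ^ k ∈ C := pow_mem hx _
      have hym : (x ^ p ^ k) ^ m = 1 := by rw [← pow_mul, ← hkm, pow_orderOf_eq_one]
      set y := x ^ p ^ k
      have hyQ : y ∈ Subgroup.centralizer (Q : Set H) := by
        rw [Subgroup.mem_centralizer_iff]
        intro q hq
        set c := q⁻¹ * (y * q * y⁻¹) with hc
        have hcK : c ∈ Q ⊓ C := by
          refine Subgroup.mem_inf.2 ⟨mul_mem (inv_mem hq) ((Subgroup.mem_normalizer_iff.1 (hCN hyC) q).1 hq), ?_⟩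
          rw [hc, show q⁻¹ * (y * q * y⁻¹) = (q⁻¹ * y * q) * y⁻¹ by group]
          exact mul_mem ((Subgroup.mem_normalizer_iff''.1 (hLC (hQL hq)) y).1 hyC) (inv_mem hyC)
        have hcy : y * c * y⁻¹ = c := by
          rw [mul_inv_eq_iff_eq_mul, Subgroup.mem_centralizer_iff.1 hyC c (hK hcK)]
        have hyc : y * q * y⁻¹ = q * c := by rw [hc]; group
        have hpow : ∀ n : ℕ, y ^ n * q * (y ^ n)⁻¹ = q * c ^ n := by
          intro n
          induction n with
          | zero => simp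
          | succ n ih =>
            calc y ^ (n + 1) * q * (y ^ (n + 1))⁻¹ = y * (y ^ n * q * (y ^ n)⁻¹) * y⁻¹ := by
                  rw [pow_succ']; group
              _ = y * q * y⁻¹ * (y * c * y⁻¹) ^ n := by rw [ih, conj_pow]; group
              _ = q * c ^ (n + 1) := by rw [hcy, hyc, pow_succ', mul_assoc]
        have h1 := hpow m
        rw [hym, one_mul, inv_one, mul_one] at h1
        have h2 : c ^ m = 1 := left_eq_mul.1 h1
        have h3 : c = 1 := by
          obtain ⟨j, hj⟩ := IsPGroup.iff_orderOf.1 hQp ⟨c, (Subgroup.mem_inf.1 hcK).1⟩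
          rw [Subgroup.orderOf_mk] at hj
          have h4 := orderOf_dvd_of_pow_eq_one h2
          rw [hj] at h4
          rcases j with _ | j
          · exact orderOf_eq_one_iff.1 (by rw [hj, pow_zero])
          · exact absurd ((dvd_pow_self p j.succ_ne_zero).trans h4) hm
        rw [h3, eq_comm, inv_mul_eq_one, eq_mul_inv_iff_mul_eq] at hc
        exact hc
      obtain ⟨j, hj⟩ := IsPGroup.iff_orderOf.1 hQp ⟨y, hL.1 hyQ⟩
      rw [Subgroup.orderOf_mk] at hj
      have h5 : orderOf y = 1 := by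
        have h4 := orderOf_dvd_of_pow_eq_one hym
        rw [hj] at h4 ⊢
        rcases j with _ | j
        · exact pow_zero p
        · exact absurd ((dvd_pow_self p j.succ_ne_zero).trans h4) hm
      exact ⟨_, Classical.choose_spec ((Nat.dvd_prime_pow (Fact.out : p.Prime)).1
        (orderOf_dvd_of_pow_eq_one (orderOf_eq_one_iff.1 h5))) |>.2⟩
    refine ⟨hCp, fun x hx => ?_⟩
    have hn : L ≤ Subgroup.normalizer ((L ⊓ C : Subgroup H) : Set H) := fun l hl =>
      Fusion.mem_normalizer_iff_cj.2 (by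
        rw [Fusion.cj_inf, Fusion.cj_eq_self_of_mem hl, Fusion.cj_eq_self (hLC hl)])
    have h1 := Fusion.le_pCoreOf hC0 hn hCp.to_inf_right (Subgroup.mem_inf.2 ⟨x.2, (by
      rw [Subgroup.mem_centralizer_iff]
      rintro _ ⟨z, hz, rfl⟩
      exact congrArg Subtype.val (Subgroup.mem_centralizer_iff.1 hx z hz) :
        (x : H) ∈ Subgroup.centralizer ((pCoreOf p L : Subgroup H) : Set H))⟩)
    obtain ⟨z, hz, hzx⟩ := h1
    rwa [← Subtype.ext hzx]
  have para : ∀ R : Subgroup H, IsParabolic p R → pCore p ↥R ≠ ⊥ →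
      Subgroup.centralizer (pCoreOf p R : Set H) ≤ pCoreOf p R ∧
        Subgroup.centralizer (pCore p ↥R : Set ↥R) ≤ pCore p ↥R := by
    rintro R ⟨T, hT⟩ hne
    obtain ⟨g, -, hg⟩ := (Fusion.sylIn_top T).conj_le hQp le_top
    obtain ⟨h1, h2⟩ := main _ (Fusion.isPGroup_cj hQp g) (LocalEven.Large.conj hL g) R (hg.trans hT) hne
    refine ⟨?_, h2⟩
    set C := Subgroup.centralizer (pCoreOf p R : Set H)
    have hRC : R ≤ Subgroup.normalizer (C : Set H) := fun l hl => Fusion.mem_normalizer_iff_cj.2 (by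
      rw [Fusion.cj_centralizer, Fusion.cj_eq_self (Fusion.le_normalizer_pCoreOf R hl)])
    have h3 : IsPGroup p ↥(C ⊔ (T : Subgroup H)) := h1.to_sup_of_normal_left' T.isPGroup' (hT.trans hRC)
    have h4 : C ⊔ (T : Subgroup H) = T := T.3 h3 le_sup_right
    exact Fusion.le_pCoreOf ((le_sup_left.trans h4.le).trans hT) hRC h1
  refine ⟨fun L hQL hne => ⟨(main Q hQp hL L hQL hne).1, (main Q hQp hL L hQL hne).2, ?_⟩,
    fun R hR hne => (para R hR hne).1, fun R hR hR1 hpar => (para _ hpar ?_).2⟩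
  · by_contra hno
    obtain ⟨h1, h2⟩ := not_or.1 hno
    have hQW : Q ≤ weakClosure Q L := by
      refine le_trans (Fusion.cj_one Q).ge ?_
      exact le_iSup (fun g : {g : H // Q.map (MulAut.conj g).toMonoidHom ≤ L} =>
        Q.map (MulAut.conj (g : H)).toMonoidHom) ⟨1, le_trans (Fusion.cj_one Q).le hQL⟩
    refine h1 (le_antisymm (iSup_le fun g => ?_) hQW)
    by_contra hle
    apply h2
    rw [eq_bot_iff, ← LocalEven.Large.centralizer_inf_eq_bot hQp hQ1 hL (g := (g : H))
      (fun h => hle h.le)]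
    exact le_inf (Subgroup.centralizer_le hQW) (Subgroup.centralizer_le
      (le_iSup (fun g : {g : H // Q.map (MulAut.conj g).toMonoidHom ≤ L} =>
        Q.map (MulAut.conj (g : H)).toMonoidHom) g))
  · intro h
    have h1 : R ≤ pCoreOf p (Subgroup.normalizer (R : Set H)) :=
      Fusion.le_pCoreOf Subgroup.le_normalizer le_rfl hR
    rw [pCoreOf, h, Subgroup.map_bot] at h1
    exact hR1 (le_bot_iff.1 h1)

end Cfsg.Agent.S2845
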