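import Cfsg.Statements.S2824
import Cfsg.Agent.Lib.LocalEven.ReducedFac

set_option autoImplicit false
open Cfsg
open scoped commutatorElement Pointwise

namespace Cfsg.Agent.S2824

theorem result {H : Type*} [Group H] [Finite H] {p : ℕ} [Fact p.Prime] (T : Sylow p H) (L M : Subgroup H) (hTL : (T : Subgroup H) ≤ L) (hTM : (T : Subgroup H) ≤ M) (hL : Subgroup.centralizer (Cfsg.pCore p ↥L : Set ↥L) ≤ Cfsg.pCore p ↥L) (hM : Subgroup.centralizer (Cfsg.pCore p ↥M : Set ↥M) ≤ Cfsg.pCore p ↥M) (T₀ : Subgroup H) (hT₀ : T₀ = (T : Subgroup H) ⊓ Subgroup.centralizer (((Cfsg.largestPReducedOf p L) : Subgroup H) : Set H)) (hfac : M ⊔ Subgroup.centralizer (((Cfsg.largestPReducedOf p L) : Subgroup H) : Set H) = L ⊔ Subgroup.centralizer (((Cfsg.largestPReducedOf p L) : Subgroup H) : Set H)) (Ls : Subgroup H) (hLs : Ls = M ⊓ Subgroup.normalizer ((T₀ : Subgroup H) : Set H)) : (Cfsg.largestPReducedOf p Ls) = (Cfsg.largestPReducedOf p L) ∧ L ⊔ Subgroup.centralizer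 (((Cfsg.largestPReducedOf p L) : Subgroup H) : Set H) = Ls ⊔ Subgroup.centralizer (((Cfsg.largestPReducedOf p L) : Subgroup H) : Set H) := by
  set Y : Subgroup H := largestPReducedOf p L with hY
  set C := Subgroup.centralizer (Y : Set H) with hC
  have hYN := LocalEven.Red.le_normalizer_Y (p := p) L
  have hLC := LocalEven.Red.le_normalizer_centralizer hYN
  have hMN : M ≤ Subgroup.normalizer (Y : Set H) :=
    (le_sup_left.trans hfac.le).trans (sup_le hYN (Subgroup.centralizer_le_normalizer _))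
  have hMC := LocalEven.Red.le_normalizer_centralizer hMN
  have hsC : Fusion.SylIn p T₀ C := by
    rw [hT₀]
    exact ((Fusion.sylIn_top T).mono (hTL.trans hYN) le_top).inf_normal (Subgroup.centralizer_le_normalizer _)
      (LocalEven.Red.le_normalizer_centralizer le_rfl)
  have hTT₀ : T₀ ≤ (T : Subgroup H) := hT₀ ▸ inf_le_left
  have hTLs : (T : Subgroup H) ≤ Ls := by
    rw [hLs]
    refine le_inf hTM fun t ht => Fusion.mem_normalizer_iff_cj.2 ?_
    rw [hT₀, Fusion.cj_inf, Fusion.cj_eq_self_of_mem ht, Fusion.cj_centralizer, Fusion.cj_eq_self (hYN (hTL ht))]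
  have hMLs : M ≤ Ls ⊔ C := by
    intro m hm
    have hs : Fusion.SylIn p T₀ (M ⊓ C) :=
      hsC.mono (le_inf (hTT₀.trans hTM) hsC.le) inf_le_right
    obtain ⟨n, hn, hnm⟩ := Fusion.frattini_conj (H := M) hs (fun x hx => Fusion.mem_normalizer_iff_cj.2 (by
      rw [Fusion.cj_inf, Fusion.cj_eq_self_of_mem hx, Fusion.cj_eq_self (hMC hx)])) hm
    have h1 : n * m ∈ Ls := hLs ▸ Subgroup.mem_inf.2 ⟨mul_mem (Subgroup.mem_inf.1 hn).1 hm, hnm⟩
    have := mul_mem (Subgroup.mem_sup_right (S := Ls) (inv_mem (Subgroup.mem_inf.1 hn).2)) (Subgroup.mem_sup_left h1)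
    simpa using this
  have hfac' : L ⊔ C = Ls ⊔ C := by
    refine le_antisymm ?_ ?_
    · rw [← hfac]; exact sup_le hMLs le_sup_right
    · rw [← hfac, hLs]; exact sup_le (inf_le_left.trans le_sup_left) le_sup_right
  refine ⟨le_antisymm ?_ (LocalEven.Red.Y_mono_of_fac T Ls L hTLs hTL hfac'.symm), hfac'⟩
  have hge : Y ≤ largestPReducedOf p Ls := LocalEven.Red.Y_mono_of_fac T Ls L hTLs hTL hfac'.symm
  set X : Subgroup H := largestPReducedOf p Ls
  have hcore : pCoreOf p Ls ≤ (T : Subgroup H) :=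
    Fusion.pCoreOf_le_sylIn ((Fusion.sylIn_top T).mono hTLs le_top)
  have hXL : X ≤ L := ((LocalEven.Red.Y_le_core Ls).trans hcore).trans hTL
  have hT₀core : T₀ ≤ pCoreOf p Ls :=
    Fusion.le_pCoreOf (hTT₀.trans hTLs) (hLs ▸ inf_le_right) hsC.isPGroup
  have hXT₀ : ∀ x ∈ X, ∀ t ∈ T₀, t * x = x * t := fun x hx t ht =>
    (Subgroup.mem_centralizer_iff.1 (LocalEven.Red.core_le_centralizer_Y Ls (hT₀core ht)) x hx).symm
  have hPT₀ : pCoreOf p L ≤ T₀ := hT₀ ▸ le_inf
    (Fusion.pCoreOf_le_sylIn ((Fusion.sylIn_top T).mono hTL le_top)) (LocalEven.Red.core_le_centralizer_Y L)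
  obtain ⟨S, hS⟩ := ((Fusion.sylIn_top T).mono hTL le_top).exists_sylow_subgroupOf
  have hred : IsPReducedNormal p (Subgroup.normalClosure ((X.subgroupOf L : Subgroup ↥L) : Set ↥L)) := by
    refine LocalEven.Red.reduced_closure S (fun x hx => ?_) fun N hN _ hp => ?_
    · have hc : ∀ z ∈ pCore p ↥L, z * x = x * z := fun z hz => Subtype.ext (hXT₀ x hx z (hPT₀ ⟨z, hz, rfl⟩))
      exact LocalEven.mem_omega_center.2 ⟨hL (Subgroup.mem_centralizer_iff.2 hc), hc,
        Subtype.ext (by simpa using (LocalEven.mem_omega_center.1 (LocalEven.Red.Y_le_omega Ls hx)).2.2)⟩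
    · have hsub : ((largestPReduced p ↥L : Subgroup ↥L) : Set ↥L) ⊆
          (Subgroup.normalClosure ((X.subgroupOf L : Subgroup ↥L) : Set ↥L) : Subgroup ↥L) :=
        fun y hy => Subgroup.subset_normalClosure (hge ⟨y, hy, rfl⟩)
      have h1 := ((LocalEven.Red.reduced_iff _).1 (LocalEven.Red.largest_reduced (p := p) (L := ↥L))).2.2 N hN
        (LocalEven.Red.pmod_mono hp (Subgroup.centralizer_le hsub))
      intro t ht
      obtain ⟨htS, htN⟩ := Subgroup.mem_inf.1 ht
      have htT₀ : (t : H) ∈ T₀ := by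
        rw [hT₀]
        refine Subgroup.mem_inf.2 ⟨?_, Subgroup.mem_centralizer_iff.2 ?_⟩
        · rw [hS] at htS; exact htS
        · rintro _ ⟨y, hy, rfl⟩
          exact congrArg Subtype.val (Subgroup.mem_centralizer_iff.1 (h1 htN) y hy)
      exact Subgroup.mem_centralizer_iff.2 fun x hx => Subtype.ext (hXT₀ x hx t htT₀).symm
  intro x hx
  exact ⟨⟨x, hXL hx⟩, LocalEven.Red.le_largest hred (Subgroup.subset_normalClosure hx), rfl⟩

end Cfsg.Agent.S2824
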