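import Cfsg.Statements.S2984
import Cfsg.Agent.Lib.LocalEven.BlockFacts

set_option autoImplicit false
open scoped commutatorElement
open Cfsg

namespace Cfsg.Agent.S2984

theorem result {G : Type*} [Group G] [Finite G] {p : ℕ} [Fact p.Prime] (hG : Subgroup.centralizer (Cfsg.pCore p G : Set G) ≤ Cfsg.pCore p G) (T : Sylow p G) (E : Subgroup G) (hE : Cfsg.IsBaumannBlock p (T : Subgroup G) E) : Cfsg.pResidualOf p (E ⊔ Cfsg.pCore p G) = E ∧ ⁅Cfsg.omegaOneCenter p (Cfsg.pCoreOf p E), E⁆ ≤ Cfsg.omegaOneCenter p (Cfsg.pCore p G) ∧ ⁅⁅Cfsg.omegaOneCenter p (Cfsg.pCoreOf p E), E⁆, Cfsg.thompsonSubgroupOf p (T : Subgroup G)⁆ ≠ ⊥ := by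
  have hRp : IsPGroup p (pCore p G) := Fusion.isPGroup_pCore p G
  haveI hRn : (pCore p G).Normal := inferInstance
  have hn := LocalEven.Block.normal_le_normalizer (R := pCore p G) T hE hRp
  obtain ⟨hWn, hnc, -⟩ := LocalEven.Block.block_section hE
  have hc := LocalEven.Block.normal_centralizes (R := pCore p G) T hE hRp
  have hW : ∀ x ∈ ⁅omegaOneCenter p (pCoreOf p E), E⁆, x ∈ omegaOneCenter p (pCoreOf p E) :=
    fun x hx => Subgroup.le_normalizer_iff_commutator_le_left.1 hWn hx
  have hR : ⁅omegaOneCenter p (pCoreOf p E), E⁆ ≤ omegaOneCenter p (pCore p G) := fun x hx =>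
    LocalEven.Block.mem_omegaOneCenter (hG (hc hx)) (hc hx)
      (LocalEven.Block.omegaOneCenter_props (hW x hx)).2.2
  refine ⟨le_antisymm ?_ ?_, hR, fun h => hnc ?_⟩
  · have h1 := LocalEven.Res.le_of_sup (p := p) hRp hn (le_refl (E ⊔ pCore p G))
    rw [show (pResidual p ↥E).map E.subtype = E from hE.1] at h1
    exact h1
  · have h1 := LocalEven.Res.mono (p := p) (le_sup_left : E ≤ E ⊔ pCore p G)
    rw [show (pResidual p ↥E).map E.subtype = E from hE.1] at h1
    exact h1
  · set W₁ := ⁅omegaOneCenter p (pCoreOf p E), E⁆ with hW₁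
    set B := baumannSubgroupOf p (T : Subgroup G) with hB
    have hJ : W₁ ≤ omegaOne p (Fusion.zElem p (T : Subgroup G)) := by
      intro x hx
      have hxp : x ^ p = 1 := (LocalEven.Block.omegaOneCenter_props (hW x hx)).2.2
      have hxT : x ∈ (T : Subgroup G) :=
        Fusion.pCore_le_sylow T (LocalEven.Block.omegaOneCenter_props (hR hx)).1
      have hxc : x ∈ Subgroup.centralizer (Fusion.jElem p (T : Subgroup G) : Set G) := by
        rw [Fusion.jElem_eq]
        exact Subgroup.commutator_eq_bot_iff_le_centralizer.1 h hx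
      obtain ⟨A, hA⟩ := (Fusion.replFamily_elementary p).maxIn_nonempty (T : Subgroup G)
      have hxA : x ∈ A := Fusion.mem_of_maxIn hA hxT (Fusion.isElementaryAbelian_closure_insert hA.2.1
        (fun a ha => (Subgroup.mem_centralizer_iff.1 hxc a (le_sSup hA ha)).symm) hxp)
      exact Subgroup.subset_closure ⟨⟨le_sSup hA hxA, hxc⟩, hxp⟩
    have hBW : ⁅B, W₁⁆ = ⊥ := by
      rw [Subgroup.commutator_eq_bot_iff_le_centralizer, hB, LocalEven.Block.baumann_eq]
      exact inf_le_right.trans (Subgroup.centralizer_le hJ)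
    have hEW : E ≤ Subgroup.normalizer (W₁ : Set G) := Subgroup.normalizer_commutator_ge_right _ _
    have h2 : ⁅⁅E, B⁆, W₁⁆ = ⊥ := by
      refine Subgroup.commutator_commutator_eq_bot_of_rotate ?_ ?_
      · rw [hBW, Subgroup.commutator_bot_left]
      · refine le_bot_iff.1 ((Subgroup.commutator_mono
          (Subgroup.le_normalizer_iff_commutator_le_left.1 hEW) le_rfl).trans ?_)
        rw [Subgroup.commutator_comm, hBW]
    rw [hE.2.1, Subgroup.commutator_comm] at h2
    refine LocalEven.Block.centralizes_of_twice hE.1 ?_ hWn h2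
    exact (Fusion.pCoreOf_isPGroup (p := p) E).to_le fun x hx =>
      (LocalEven.Block.omegaOneCenter_props hx).1

end Cfsg.Agent.S2984
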