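import Cfsg.Statements.S4417
import Cfsg.Agent.Lib.Solv.Kulakoff
import Cfsg.Agent.Lib.Solv.PGroupPhi
import Cfsg.Agent.S0015
import Mathlib

set_option autoImplicit false
set_option linter.style.haveILetI false
open Cfsg
open scoped commutatorElement

namespace Cfsg.Agent.S4417

universe u v w

/-- A noncyclic abelian normal subgroup of a p-group contains a normal subgroup of type `(p, p)`. -/
theorem exists_sq {P : Type u} [Group P] [Finite P] {p : ℕ} [Fact p.Prime] (hP : IsPGroup p P) (A : Subgroup P)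
    [A.Normal] (hA : IsMulCommutative A) (hnc : ¬ IsCyclic A) :
    ∃ E : Subgroup P, E.Normal ∧ (∀ a ∈ E, a ^ p = 1) ∧ (∀ a ∈ E, ∀ b ∈ E, a * b = b * a) ∧ Nat.card E = p ^ 2 ∧
      ∃ z ∈ E, z ∈ Subgroup.center P ∧ z ≠ 1 := by
  have hp : p.Prime := Fact.out
  have hab : ∀ a ∈ A, ∀ b ∈ A, a * b = b * a := fun a ha b hb => congrArg Subtype.val (hA.is_comm.comm ⟨a, ha⟩ ⟨b, hb⟩)
  let W : Subgroup P :=
    { carrier := {t | t ∈ A ∧ t ^ p = 1}
      one_mem' := ⟨A.one_mem, one_pow _⟩
      mul_mem' := fun {s t} hs ht => ⟨A.mul_mem hs.1 ht.1, by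
        rw [Commute.mul_pow (hab s hs.1 t ht.1), hs.2, ht.2, one_mul]⟩
      inv_mem' := fun {s} hs => ⟨A.inv_mem hs.1, by rw [inv_pow, hs.2, inv_one]⟩ }
  haveI hWn : W.Normal := ⟨fun t ht g => ⟨(inferInstance : A.Normal).conj_mem t ht.1 g, by rw [conj_pow, ht.2]; group⟩⟩
  have hWne : W ≠ ⊥ := by
    intro h
    rcases eq_or_ne (Nat.card A) 1 with h1 | h1
    · haveI : Subsingleton A := (Nat.card_eq_one_iff_unique.1 h1).1
      exact hnc inferInstance
    obtain ⟨k, hk⟩ := IsPGroup.iff_card.1 (hP.to_subgroup A)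
    obtain ⟨a, ha⟩ := exists_prime_orderOf_dvd_card' (G := A) p (hk ▸ dvd_pow_self p (fun h0 => h1 (by rw [hk, h0, pow_zero])))
    have : (a : P) ∈ W := ⟨a.2, by rw [← Subgroup.coe_pow, ← ha, pow_orderOf_eq_one]; rfl⟩
    rw [h, Subgroup.mem_bot] at this
    rw [← Subgroup.orderOf_coe, this, orderOf_one] at ha
    exact hp.ne_one ha.symm
  obtain ⟨z, hzW, hzc, hzo⟩ := Cfsg.Agent.Solv.exists_central_order hP W hWne
  set Z := Subgroup.zpowers z with hZ
  have hZW : Z ≤ W := Subgroup.zpowers_le.2 hzW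
  haveI : Z.Normal := Cfsg.Agent.Solv.normal_of_le_center' (Subgroup.zpowers_le.2 hzc)
  set f := QuotientGroup.mk' Z with hf
  haveI : (W.map f).Normal := hWn.map f (QuotientGroup.mk'_surjective Z)
  have hb : W.map f ≠ ⊥ := by
    rw [Ne, Subgroup.map_eq_bot_iff, hf, QuotientGroup.ker_mk']
    intro hle
    -- a unique subgroup of order p in an abelian p-group means cyclic
    refine hnc ?_
    have hu : Cfsg.Agent.Solv.UniqueOrderP p A := by
      intro x y hx hy hy1
      have hxW : (x : P) ∈ W := ⟨x.2, congrArg Subtype.val hx⟩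
      have hyW : (y : P) ∈ W := ⟨y.2, congrArg Subtype.val hy⟩
      have heq : Subgroup.zpowers (y : P) = Z := Subgroup.eq_of_le_of_card_ge (Subgroup.zpowers_le.2 (hle hyW))
        (by rw [hZ, Nat.card_zpowers, Nat.card_zpowers, hzo,
          orderOf_eq_prime (congrArg Subtype.val hy) (fun h => hy1 (Subtype.ext h))])
      have h := hle hxW
      rw [← heq, Subgroup.mem_zpowers_iff] at h
      obtain ⟨i, hi⟩ := h
      exact Subgroup.mem_zpowers_iff.2 ⟨i, Subtype.ext (by rw [SubgroupClass.coe_zpow]; exact hi)⟩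
    obtain ⟨a, -, ha⟩ := Cfsg.Agent.Solv.abelian_cyclic_of_unique (hP.to_subgroup A) hu ⊤
      (fun x _ y _ => Subtype.ext (hab x x.2 y y.2))
    exact ⟨⟨a, fun b => Subgroup.mem_zpowers_iff.1 (ha ▸ Subgroup.mem_top b)⟩⟩
  obtain ⟨-, ⟨w, hwW, rfl⟩, hwc, hwo⟩ := Cfsg.Agent.Solv.exists_central_order (hP.to_quotient Z) (W.map f) hb
  set B := (Subgroup.zpowers (f w)).comap f with hB
  haveI hBn : B.Normal := by
    haveI : (Subgroup.zpowers (f w)).Normal :=
      Cfsg.Agent.Solv.normal_of_le_center' (Subgroup.zpowers_le.2 hwc)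
    exact Subgroup.Normal.comap inferInstance f
  have hBW : B ≤ W := by
    intro x hx
    obtain ⟨i, hi⟩ := hx
    have h1 : x * (w ^ i)⁻¹ ∈ Z := by
      rw [← QuotientGroup.eq_one_iff, QuotientGroup.mk_mul, QuotientGroup.mk_inv, mul_inv_eq_one]
      exact hi.symm.trans (map_zpow f w i).symm
    have h2 := W.mul_mem (hZW h1) (W.zpow_mem hwW i)
    rwa [inv_mul_cancel_right] at h2
  refine ⟨B, hBn, fun a ha => (hBW ha).2, fun a ha b hb' => hab a (hBW ha).1 b (hBW hb').1, ?_, z, ?_, hzc,
    fun h => hp.ne_one (by rw [← hzo, h, orderOf_one])⟩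
  · have hZB : Z ≤ B := fun x hx => by
      show f x ∈ Subgroup.zpowers (f w)
      rw [show f x = 1 from (QuotientGroup.eq_one_iff x).2 hx]
      exact Subgroup.one_mem _
    have h1 := Subgroup.relIndex_mul_relIndex (⊥ : Subgroup P) Z B bot_le hZB
    rw [Subgroup.relIndex_bot_left, Subgroup.relIndex_bot_left] at h1
    have h2 := Subgroup.relIndex_ker B f
    rw [hf, QuotientGroup.ker_mk', ← hf, hB, Subgroup.map_comap_eq_self_of_surjective (QuotientGroup.mk'_surjective Z),
      Nat.card_zpowers, hwo, ← hB] at h2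
    rw [← h1, h2, hZ, Nat.card_zpowers, hzo, pow_two]
  · show f z ∈ Subgroup.zpowers (f w)
    rw [show f z = 1 from (QuotientGroup.eq_one_iff z).2 (Subgroup.mem_zpowers z)]
    exact Subgroup.one_mem _

section Rep

variable {F : Type v} [Field F]

/-- The subrepresentation on an invariant subspace. -/
def sub {P : Type u} [Group P] {V : Type w} [AddCommGroup V] [Module F V] (ρ : Representation F P V)
    (U : Submodule F V) (hU : ∀ g, ∀ x ∈ U, ρ g x ∈ U) : Representation F P U where
  toFun g := (ρ g).restrict (hU g)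
  map_one' := LinearMap.ext fun x => Subtype.ext (by show ρ 1 (x : V) = x; rw [map_one]; rfl)
  map_mul' g h := LinearMap.ext fun x => Subtype.ext (by show ρ (g * h) (x : V) = ρ g (ρ h x); rw [map_mul]; rfl)

theorem rho_inv {P : Type u} [Group P] {V : Type w} [AddCommGroup V] [Module F V] (ρ : Representation F P V)
    (g : P) (x : V) : ρ g (ρ g⁻¹ x) = x := by
  rw [← Module.End.mul_apply, ← map_mul, mul_inv_cancel, map_one]; rfl

variable [Fintype F] {p : ℕ} [Fact p.Prime]

theorem natCast_p_ne (hpq : ¬ p ∣ Fintype.card F) : (p : F) ≠ 0 := by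
  intro h
  obtain ⟨n, hr, hn⟩ := FiniteField.card F (ringChar F)
  have : ringChar F = p := by
    haveI := ringChar.charP F
    have h1 : ringChar F ∣ p := (CharP.cast_eq_zero_iff F (ringChar F) p).1 h
    exact ((Nat.prime_dvd_prime_iff_eq hr Fact.out).1 h1)
  rw [this] at hn
  exact hpq (hn ▸ dvd_pow_self p n.ne_zero)

theorem p_ne_smul (hpq : ¬ p ∣ Fintype.card F) {V : Type w} [AddCommGroup V] [Module F V] {x : V} (hx : x ≠ 0) :
    (p : F) • x ≠ 0 := smul_ne_zero (natCast_p_ne hpq) hx

/-- A nontrivial action needs dimension at least `e`. -/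
theorem e_le (hpq : ¬ p ∣ Fintype.card F) {P : Type u} [Group P] [Finite P] (hP : IsPGroup p P) {V : Type w}
    [AddCommGroup V] [Module F V] [FiniteDimensional F V] (ρ : Representation F P V) (g : P) (hg : ρ g ≠ 1) :
    orderOf (Fintype.card F : ZMod p) ≤ Module.finrank F V := by
  classical
  haveI : Finite V := Module.finite_of_finite F
  letI : MulAction P V :=
    { smul := fun a x => ρ a x
      one_smul := fun x => by show ρ 1 x = x; rw [map_one]; rfl
      mul_smul := fun a b x => by show ρ (a * b) x = ρ a (ρ b x); rw [map_mul]; rfl }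
  let X : Submodule F V :=
    { carrier := {x | ∀ a, ρ a x = x}
      add_mem' := fun {x y} hx hy a => by rw [map_add, hx a, hy a]
      zero_mem' := fun a => map_zero _
      smul_mem' := fun c x hx a => by rw [map_smul, hx a] }
  have hXlt : Module.finrank F X < Module.finrank F V := by
    refine Submodule.finrank_lt fun h => hg (LinearMap.ext fun x => ?_)
    have hx : x ∈ X := h ▸ Submodule.mem_top
    exact hx g
  have h1 := hP.card_modEq_card_fixedPoints V
  have h2 : Nat.card (MulAction.fixedPoints P V) = Nat.card X := Nat.card_congr (Equiv.subtypeEquivRight fun x => Iff.rfl)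
  rw [h2, Module.natCard_eq_pow_finrank (K := F) (V := V), Module.natCard_eq_pow_finrank (K := F) (V := X),
    Nat.card_eq_fintype_card (α := F), ← ZMod.natCast_eq_natCast_iff, Nat.cast_pow, Nat.cast_pow] at h1
  have hq0 : (Fintype.card F : ZMod p) ≠ 0 := fun h => hpq ((ZMod.natCast_eq_zero_iff _ _).1 h)
  obtain ⟨d, hd⟩ : ∃ d, Module.finrank F V = Module.finrank F X + d := ⟨_, (Nat.add_sub_cancel' hXlt.le).symm⟩
  rw [hd, pow_add] at h1
  have h3 : (Fintype.card F : ZMod p) ^ d = 1 := mul_left_cancel₀ (pow_ne_zero _ hq0) (h1.trans (mul_one _).symm)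
  have := Nat.le_of_dvd (by omega) (orderOf_dvd_of_pow_eq_one h3)
  omega

theorem derived_le_map {P : Type u} [Group P] (M : Subgroup P) [M.Normal] (hM : commutator P ≤ M) :
    ∀ k : ℕ, derivedSeries P (k + 1) ≤ (derivedSeries M k).map M.subtype
  | 0 => by
    rw [derivedSeries_one, derivedSeries_zero, ← MonoidHom.range_eq_map, Subgroup.range_subtype]
    exact hM
  | k + 1 => by
    rw [derivedSeries_succ P, derivedSeries_succ M, Subgroup.map_commutator]
    exact Subgroup.commutator_mono (derived_le_map M hM k) (derived_le_map M hM k)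

theorem log_bound {a b e p : ℕ} (hp : 2 ≤ p) (he : 0 < e) (hea : e ≤ a) (hab : p * a ≤ b) :
    Nat.log 2 (a / e) + 1 + 1 ≤ Nat.log 2 (b / e) + 1 := by
  have h1 : 1 ≤ a / e := (Nat.one_le_div_iff he).2 hea
  have h2 : 2 * (a / e) ≤ b / e := by
    rw [Nat.le_div_iff_mul_le he]
    have := Nat.div_mul_le_self a e
    calc 2 * (a / e) * e = 2 * (a / e * e) := by ring
      _ ≤ 2 * a := by omega
      _ ≤ p * a := Nat.mul_le_mul_right _ hp
      _ ≤ b := hab
  have h3 : Nat.log 2 (2 * (a / e)) = Nat.log 2 (a / e) + 1 := by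
    rw [mul_comm, Nat.log_mul_base (by norm_num) (by omega)]
  have := Nat.log_mono_right (b := 2) h2
  omega

theorem derived_two_of_cyclic {P : Type u} [Group P] (A : Subgroup P) [A.Normal] [IsCyclic A]
    (hC : Subgroup.centralizer (A : Set P) = A) : derivedSeries P 2 = ⊥ := by
  have hle : commutator P ≤ A := by
    letI : CommGroup (MulAut A) :=
      { (inferInstance : Group (MulAut A)) with
        mul_comm := fun a b => MulEquiv.ext fun x => by
          obtain ⟨g, hg⟩ := IsCyclic.exists_generator (α := A)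
          obtain ⟨i, hi⟩ := Subgroup.mem_zpowers_iff.1 (hg (a g))
          obtain ⟨j, hj⟩ := Subgroup.mem_zpowers_iff.1 (hg (b g))
          obtain ⟨k, rfl⟩ := Subgroup.mem_zpowers_iff.1 (hg x)
          simp only [MulAut.mul_apply, map_zpow]
          rw [← hj, ← hi, map_zpow, map_zpow, ← hj, ← hi, ← zpow_mul, ← zpow_mul, ← zpow_mul, ← zpow_mul]
          congr 1; ring }
    have h1 := Abelianization.commutator_subset_ker (MulAut.conjNormal (H := A) : P →* MulAut A)
    intro x hx
    rw [← hC]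
    refine Subgroup.mem_centralizer_iff.2 fun a ha => ?_
    have h2 := congrArg Subtype.val (DFunLike.congr_fun (MonoidHom.mem_ker.1 (h1 hx)) (⟨a, ha⟩ : A))
    rw [MulAut.conjNormal_apply] at h2
    exact (mul_inv_eq_iff_eq_mul.1 h2).symm
  rw [derivedSeries_succ, derivedSeries_one, eq_bot_iff, Subgroup.commutator_le]
  intro a ha b hb
  haveI := IsCyclic.isMulCommutative (α := A)
  rw [Subgroup.mem_bot, commutatorElement_eq_one_iff_mul_comm]
  exact congrArg Subtype.val (mul_comm' (⟨a, hle ha⟩ : A) ⟨b, hle hb⟩)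

theorem exists_invariant_compl (hpq : ¬ p ∣ Fintype.card F) {P : Type u} [Group P] [Finite P] (hP : IsPGroup p P)
    {V : Type w} [AddCommGroup V] [Module F V] [FiniteDimensional F V] (ρ : Representation F P V)
    (U : Submodule F V) (hU : ∀ a, ∀ x ∈ U, ρ a x ∈ U) :
    ∃ W : Submodule F V, (∀ a, ∀ x ∈ W, ρ a x ∈ W) ∧ IsCompl U W := by
  classical
  obtain ⟨U0', hU0'⟩ := U.exists_isCompl
  let π0 : V →ₗ[F] V := U.subtype.comp (Submodule.linearProjOfIsCompl U U0' hU0')
  letI : Fintype P := Fintype.ofFinite P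
  let π : V →ₗ[F] V := ∑ a : P, (ρ a).comp (π0.comp (ρ a⁻¹))
  have hπU : ∀ x, π x ∈ U := fun x => by
    simp only [π, LinearMap.sum_apply, LinearMap.comp_apply]
    exact U.sum_mem fun a _ => hU a _ (Submodule.coe_mem _)
  have hπfix : ∀ x ∈ U, π x = (Fintype.card P : F) • x := fun x hx => by
    simp only [π, LinearMap.sum_apply, LinearMap.comp_apply]
    rw [Finset.sum_congr rfl (fun a _ => show ρ a (π0 (ρ a⁻¹ x)) = x by
      have : π0 (ρ a⁻¹ x) = ρ a⁻¹ x := by
        exact congrArg Subtype.val (Submodule.linearProjOfIsCompl_apply_left hU0' ⟨_, hU a⁻¹ x hx⟩)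
      rw [this, rho_inv]), Finset.sum_const, Finset.card_univ, Nat.cast_smul_eq_nsmul]
  have hc : (Fintype.card P : F) ≠ 0 := by
    obtain ⟨k, hk⟩ := IsPGroup.iff_card.1 hP
    rw [← Nat.card_eq_fintype_card, hk, Nat.cast_pow]
    exact pow_ne_zero _ (natCast_p_ne hpq)
  have hW : ∀ a, ∀ x ∈ LinearMap.ker π, ρ a x ∈ LinearMap.ker π := by
    intro a x hx
    rw [LinearMap.mem_ker] at hx ⊢
    have : π (ρ a x) = ρ a (π x) := by
      simp only [π, LinearMap.sum_apply, LinearMap.comp_apply, map_sum]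
      rw [← Equiv.sum_comp (Equiv.mulLeft a)]
      refine Finset.sum_congr rfl fun b _ => ?_
      simp only [Equiv.coe_mulLeft, mul_inv_rev, map_mul, Module.End.mul_apply]
      rw [show ρ a⁻¹ (ρ a x) = x by simpa using rho_inv ρ a⁻¹ x]
    rw [this, hx, map_zero]
  set W := LinearMap.ker π
  have hcompl : IsCompl U W := by
    constructor
    · rw [disjoint_iff, eq_bot_iff]
      intro x hx
      obtain ⟨hxU, hxW⟩ := Submodule.mem_inf.1 hx
      rw [LinearMap.mem_ker, hπfix x hxU] at hxW
      exact (Submodule.mem_bot F).2 ((smul_eq_zero.1 hxW).resolve_left hc)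
    · rw [codisjoint_iff, eq_top_iff]
      intro x _
      refine Submodule.mem_sup.2 ⟨(Fintype.card P : F)⁻¹ • π x, U.smul_mem _ (hπU x),
        x - (Fintype.card P : F)⁻¹ • π x, ?_, add_sub_cancel _ _⟩
      rw [LinearMap.mem_ker, map_sub, map_smul, hπfix _ (hπU x), smul_smul, inv_mul_cancel₀ hc, one_smul, sub_self]
  exact ⟨W, hW, hcompl⟩

theorem cyclic_case (hpq : ¬ p ∣ Fintype.card F) {P : Type u} [Group P] [Finite P] (hP : IsPGroup p P)
    {V : Type w} [AddCommGroup V] [Module F V] [FiniteDimensional F V] (ρ : Representation F P V)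
    (hfaith : ∀ g, ρ g = 1 → g = 1) (d : ℕ) (hd : Module.finrank F V = d)
    (hnab : ∀ A : Subgroup P, A.Normal → IsMulCommutative A → IsCyclic A) (g : P) (hg1 : g ≠ 1)
    (hg : g ∈ derivedSeries P (Nat.log 2 (d / orderOf (Fintype.card F : ZMod p)) + 1)) : False := by
  classical
  have hp : p.Prime := Fact.out
  set e := orderOf (Fintype.card F : ZMod p) with he
  haveI : Group.IsNilpotent P := hP.isNilpotent
  obtain ⟨A, -, hA⟩ := Finite.exists_le_maximal (p := fun A : Subgroup P => A.Normal ∧ IsMulCommutative A)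
    (a := (⊥ : Subgroup P)) ⟨inferInstance, inferInstance⟩
  haveI := hA.1.1
  haveI := hA.1.2
  haveI := hnab A hA.1.1 hA.1.2
  have h2 := derived_two_of_cyclic A
    (Cfsg.Agent.S0015.result A fun M hM hMc hle => le_antisymm (hA.2 ⟨hM, hMc⟩ hle) hle)
  rcases Nat.eq_zero_or_pos (Nat.log 2 (d / e)) with hlog | hlog
  swap
  · exact hg1 (Subgroup.mem_bot.1 (h2 ▸ derivedSeries_antitone P (by omega : 2 ≤ Nat.log 2 (d / e) + 1) hg))
  rw [hlog, derivedSeries_one] at hg
  have hnc : ¬ IsCyclic P := fun h => hg1 (by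
    haveI := IsCyclic.isMulCommutative (α := P)
    have hbot : commutator P = ⊥ := by
      rw [commutator_def, eq_bot_iff, Subgroup.commutator_le]
      intro a _ b _
      rw [Subgroup.mem_bot, commutatorElement_eq_one_iff_mul_comm]
      exact mul_comm' a b
    rwa [hbot, Subgroup.mem_bot] at hg)
  by_cases hp2 : p = 2
  · subst hp2
    have he1 : e = 1 := by
      rw [he, orderOf_eq_one_iff]
      have hq0 : (Fintype.card F : ZMod 2) ≠ 0 := fun h => hpq ((ZMod.natCast_eq_zero_iff _ _).1 h)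
      simpa using ZMod.pow_card_sub_one_eq_one hq0
    rw [he1, Nat.div_one] at hlog
    have hd1 : d ≤ 1 := by
      by_contra h
      have := Nat.log_pos (b := 2) (by norm_num) (by omega : 2 ≤ d)
      omega
    refine hg1 (hfaith g ?_)
    have hcm : ∀ a b : P, ρ a * ρ b = ρ b * ρ a := fun a b => by
      rcases Nat.eq_zero_or_pos d with h0 | h0
      · haveI : Subsingleton V := Module.finrank_zero_iff.1 (hd.trans h0)
        exact LinearMap.ext fun x => Subsingleton.elim _ _
      obtain ⟨v, hv0, hv⟩ := finrank_eq_one_iff'.1 (show Module.finrank F V = 1 by omega)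
      refine LinearMap.ext fun x => ?_
      obtain ⟨c, rfl⟩ := hv x
      obtain ⟨ca, hca⟩ := hv (ρ a v)
      obtain ⟨cb, hcb⟩ := hv (ρ b v)
      simp only [Module.End.mul_apply, map_smul, ← hcb, ← hca, smul_smul]
      congr 1
      ring
    have hle : commutator P ≤ MonoidHom.ker ρ := by
      rw [commutator_def, Subgroup.commutator_le]
      intro a _ b _
      refine MonoidHom.mem_ker.2 ?_
      rw [commutatorElement_def, map_mul, map_mul, map_mul, hcm a b, mul_assoc (ρ b), ← map_mul, ← map_mul, ← map_mul]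
      simp
    exact hle hg
  · obtain ⟨E, hEn, hEe, hEc⟩ := Cfsg.Agent.Solv.exists_normal_elementary_sq hp2 hP hnc
    haveI := hnab E hEn hEe.1
    obtain ⟨x, hx⟩ := IsCyclic.exists_generator (α := E)
    have h3 : orderOf x ∣ p := orderOf_dvd_of_pow_eq_one (Subtype.ext (hEe.2 x x.2))
    rw [orderOf_eq_card_of_forall_mem_zpowers hx, hEc, pow_two] at h3
    have := Nat.le_of_dvd hp.pos h3
    have := hp.two_le
    nlinarith

open scoped Classical in
set_option maxHeartbeats 1000000 in
theorem exists_block (hpq : ¬ p ∣ Fintype.card F) {P : Type u} [Group P] [Finite P] (hP : IsPGroup p P)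
    {V : Type w} [AddCommGroup V] [Module F V] [FiniteDimensional F V] (ρ : Representation F P V)
    (hfaith : ∀ g, ρ g = 1 → g = 1) (d : ℕ) (hd : Module.finrank F V = d)
    (hirr : ∀ U : Submodule F V, (∀ a, ∀ x ∈ U, ρ a x ∈ U) → U = ⊥ ∨ U = ⊤) (g : P) (hρg : ρ g ≠ 1)
    (A : Subgroup P) [hAn : A.Normal] (hAc : IsMulCommutative A) (hAnc : ¬ IsCyclic A) :
    ∃ (M : Subgroup P) (_ : M.Normal) (U : Submodule F V), commutator P ≤ M ∧ (∀ a ∈ M, ∀ x ∈ U, ρ a x ∈ U) ∧ U ≠ ⊥ ∧
      p * Module.finrank F U ≤ d ∧ orderOf (Fintype.card F : ZMod p) ≤ Module.finrank F U ∧ M.index = p := by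
  have hp : p.Prime := Fact.out
  set e := orderOf (Fintype.card F : ZMod p) with he
  haveI : Group.IsNilpotent P := hP.isNilpotent
  obtain ⟨E, hEn, hEp, hEc, hEcard, z, hzE, hzc, hz1⟩ := exists_sq hP A hAc hAnc
  haveI := hEn
  letI : Fintype P := Fintype.ofFinite P
  -- fixed space of a subgroup
  let Fix : Subgroup P → Submodule F V := fun H =>
    { carrier := {x | ∀ h ∈ H, ρ h x = x}
      add_mem' := fun {x y} hx hy h hh => by rw [map_add, hx h hh, hy h hh]
      zero_mem' := fun h _ => map_zero _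
      smul_mem' := fun c x hx h hh => by rw [map_smul, hx h hh] }
  have hFixinv : ∀ (H : Subgroup P) (a : P), (∀ h ∈ H, a⁻¹ * h * a ∈ H) → ∀ x ∈ Fix H, ρ a x ∈ Fix H :=
    fun H a ha x hx h hh => by
      rw [← Module.End.mul_apply, ← map_mul, show h * a = a * (a⁻¹ * h * a) by group, map_mul, Module.End.mul_apply,
        hx _ (ha h hh)]
  have hFixnormal : ∀ H : Subgroup P, H ≠ ⊥ → H.Normal → Fix H = ⊥ := by
    intro H hH hn
    refine (hirr (Fix H) fun a x hx => hFixinv H a (fun h hh => by simpa using hn.conj_mem h hh a⁻¹) x hx).resolve_right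
      fun h => hH (Subgroup.eq_bot_iff_forall H |>.2 fun b hb => hfaith b (LinearMap.ext fun x => ?_))
    have hx : x ∈ Fix H := h ▸ Submodule.mem_top
    exact hx b hb
  let lines : Finset (Subgroup P) := Finset.univ.filter fun H => H ≤ E ∧ Nat.card H = p
  have hjoin : ∀ H ∈ lines, ∀ H' ∈ lines, H ≠ H' → H ⊔ H' = E := by
    intro H hH H' hH' hne
    obtain ⟨hHE, hHc⟩ := (Finset.mem_filter.1 hH).2
    obtain ⟨hHE', hHc'⟩ := (Finset.mem_filter.1 hH').2
    refine Subgroup.eq_of_le_of_card_ge (sup_le hHE hHE') ?_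
    have hlt : H < H ⊔ H' := lt_of_le_of_ne le_sup_left fun h => hne
      (Subgroup.eq_of_le_of_card_ge (h ▸ le_sup_right : H' ≤ H) (by rw [hHc, hHc'])).symm
    obtain ⟨k, -, hk⟩ := (Nat.dvd_prime_pow hp).1 (hEcard ▸ Subgroup.card_dvd_of_le (sup_le hHE hHE'))
    have h1 : p < p ^ k := hk ▸ hHc ▸ lt_of_le_of_ne (Subgroup.card_le_of_le hlt.le)
      fun h => hlt.ne (Subgroup.eq_of_le_of_card_ge hlt.le h.ge)
    rw [hEcard, hk]
    exact Nat.pow_le_pow_right hp.pos (by
      by_contra h2
      have := Nat.pow_le_pow_right hp.pos (show k ≤ 1 by omega)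
      rw [pow_one] at this; omega)
  have hFixE : Fix E = ⊥ := hFixnormal E (fun h => by
    have h1 := hEcard
    rw [h, Subgroup.card_bot] at h1
    exact (Nat.one_lt_pow two_ne_zero hp.one_lt).ne h1) hEn
  have hE0 : ∀ x, (∀ h ∈ E, ρ h x = x) → x = 0 := fun x hx => by
    have : x ∈ Fix E := hx
    rwa [hFixE, Submodule.mem_bot] at this
  let av : Subgroup P → V →ₗ[F] V := fun H => ∑ h ∈ Finset.univ.filter (fun h => h ∈ H), ρ h
  have hav_fix : ∀ H, ∀ x, ∀ h ∈ H, ρ h (av H x) = av H x := by
    intro H x h hh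
    simp only [av, LinearMap.sum_apply, map_sum]
    refine Finset.sum_bij (fun a _ => h * a) (fun a ha => ?_) (fun a _ b _ hab => mul_left_cancel hab)
      (fun b hb => ⟨h⁻¹ * b, ?_, mul_inv_cancel_left h b⟩) (fun a _ => ?_)
    · simp only [Finset.mem_filter, Finset.mem_univ, true_and] at ha ⊢; exact H.mul_mem hh ha
    · simp only [Finset.mem_filter, Finset.mem_univ, true_and] at hb ⊢; exact H.mul_mem (H.inv_mem hh) hb
    · rw [map_mul]; rfl
  have hav_self : ∀ H ∈ lines, ∀ x ∈ Fix H, av H x = (p : F) • x := by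
    intro H hH x hx
    simp only [av, LinearMap.sum_apply]
    rw [Finset.sum_congr rfl (fun a ha => hx a (Finset.mem_filter.1 ha).2), Finset.sum_const, Nat.cast_smul_eq_nsmul]
    congr 1
    rw [← Fintype.card_subtype, ← Nat.card_eq_fintype_card]
    exact (Finset.mem_filter.1 hH).2.2
  have hav_other : ∀ H ∈ lines, ∀ H' ∈ lines, H ≠ H' → ∀ x ∈ Fix H', av H x = 0 := by
    intro H hH H' hH' hne x hx
    refine hE0 _ fun a ha => ?_
    rw [← hjoin H hH H' hH' hne] at ha
    let St : Subgroup P :=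
      { carrier := {a | ρ a (av H x) = av H x}
        one_mem' := by show ρ 1 _ = _; rw [map_one]; rfl
        mul_mem' := fun {a b} h1 h2 => by show ρ (a * b) _ = _; rw [map_mul, Module.End.mul_apply, h2, h1]
        inv_mem' := fun {a} h1 => by
          show ρ a⁻¹ _ = _
          conv_lhs => rw [← h1]
          simpa using rho_inv ρ a⁻¹ (av H x) }
    refine (sup_le (fun a ha => hav_fix H x a ha) (fun a ha => ?_) : H ⊔ H' ≤ St) ha
    show ρ a (av H x) = av H x
    simp only [av, LinearMap.sum_apply, map_sum]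
    refine Finset.sum_congr rfl fun h hh => ?_
    rw [← Module.End.mul_apply, ← map_mul,
      hEc a ((Finset.mem_filter.1 hH').2.1 ha) h ((Finset.mem_filter.1 hH).2.1 (Finset.mem_filter.1 hh).2),
      map_mul, Module.End.mul_apply, hx a ha]
  -- some line has fixed vectors
  obtain ⟨H0, hH0, hH0ne⟩ : ∃ H0 ∈ lines, Fix H0 ≠ ⊥ := by
    by_contra hall
    push Not at hall
    obtain ⟨x, hx⟩ : ∃ x : V, x ≠ 0 := by
      by_contra h
      push Not at h
      exact hρg (LinearMap.ext fun x => by rw [h x, map_zero, map_zero])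
    have hz0 : ∀ H ∈ lines, av H x = 0 := fun H hH => by
      have : av H x ∈ Fix H := hav_fix H x
      rwa [hall H hH, Submodule.mem_bot] at this
    -- every nontrivial element of E lies in exactly one line
    have hEsum : ∑ a ∈ Finset.univ.filter (fun a => a ∈ E ∧ a ≠ 1), ρ a x =
        ∑ H ∈ lines, ∑ a ∈ Finset.univ.filter (fun a => a ∈ H ∧ a ≠ 1), ρ a x := by
      rw [← Finset.sum_biUnion]
      · refine Finset.sum_congr ?_ fun _ _ => rfl
        ext a
        simp only [Finset.mem_filter, Finset.mem_univ, true_and, Finset.mem_biUnion]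
        refine ⟨fun ⟨ha, ha1⟩ => ⟨Subgroup.zpowers a, Finset.mem_filter.2 ⟨Finset.mem_univ _, Subgroup.zpowers_le.2 ha,
            by rw [Nat.card_zpowers, orderOf_eq_prime (hEp a ha) ha1]⟩, Subgroup.mem_zpowers a, ha1⟩,
          fun ⟨H, hH, ha, ha1⟩ => ⟨(Finset.mem_filter.1 hH).2.1 ha, ha1⟩⟩
      · intro H hH H' hH' hne
        refine Finset.disjoint_left.2 fun a ha ha' => ?_
        simp only [Finset.mem_filter, Finset.mem_univ, true_and] at ha ha'
        have hHc := (Finset.mem_filter.1 hH).2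
        have hHc' := (Finset.mem_filter.1 hH').2
        have h1 : Nat.card (Subgroup.zpowers a) = p := by
          rw [Nat.card_zpowers, orderOf_eq_prime (hEp a (hHc.1 ha.1)) ha.2]
        exact hne ((Subgroup.eq_of_le_of_card_ge (Subgroup.zpowers_le.2 ha.1) (by rw [h1, hHc.2])).symm.trans
          (Subgroup.eq_of_le_of_card_ge (Subgroup.zpowers_le.2 ha'.1) (by rw [h1, hHc'.2])))
    have hsplit : ∀ H : Subgroup P, ∑ a ∈ Finset.univ.filter (fun a => a ∈ H ∧ a ≠ 1), ρ a x = av H x - x := by
      intro H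
      simp only [av, LinearMap.sum_apply]
      rw [show Finset.univ.filter (fun a => a ∈ H ∧ a ≠ 1) = (Finset.univ.filter (fun a => a ∈ H)).erase 1 by
          ext a; simp [and_comm], Finset.sum_erase_eq_sub (by simp [H.one_mem]), map_one]
      rfl
    rw [hsplit, Finset.sum_congr rfl (fun H hH => by rw [hsplit, hz0 H hH]), Finset.sum_const] at hEsum
    have hEz : av E x = 0 := hE0 _ (hav_fix E x)
    rw [hEz] at hEsum
    -- number of lines is 1 modulo p
    have hcount : (lines.card : F) = (p : F) + 1 := by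
      have h2 : ∑ H ∈ lines, (Finset.univ.filter fun a => a ∈ H ∧ a ≠ 1).card =
          (Finset.univ.filter fun a => a ∈ E ∧ a ≠ 1).card := by
        rw [← Finset.card_biUnion]
        · congr 1
          ext a
          simp only [Finset.mem_filter, Finset.mem_univ, true_and, Finset.mem_biUnion]
          exact ⟨fun ⟨H, hH, ha, ha1⟩ => ⟨(Finset.mem_filter.1 hH).2.1 ha, ha1⟩, fun ⟨ha, ha1⟩ =>
            ⟨Subgroup.zpowers a, Finset.mem_filter.2 ⟨Finset.mem_univ _, Subgroup.zpowers_le.2 ha,
              by rw [Nat.card_zpowers, orderOf_eq_prime (hEp a ha) ha1]⟩, Subgroup.mem_zpowers a, ha1⟩⟩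
        · intro H hH H' hH' hne
          refine Finset.disjoint_left.2 fun a ha ha' => ?_
          simp only [Finset.mem_filter, Finset.mem_univ, true_and] at ha ha'
          have hHc := (Finset.mem_filter.1 hH).2
          have hHc' := (Finset.mem_filter.1 hH').2
          have h1 : Nat.card (Subgroup.zpowers a) = p := by
            rw [Nat.card_zpowers, orderOf_eq_prime (hEp a (hHc.1 ha.1)) ha.2]
          exact hne ((Subgroup.eq_of_le_of_card_ge (Subgroup.zpowers_le.2 ha.1) (by rw [h1, hHc.2])).symm.trans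
            (Subgroup.eq_of_le_of_card_ge (Subgroup.zpowers_le.2 ha'.1) (by rw [h1, hHc'.2])))
      have hcardm : ∀ H : Subgroup P, (Finset.univ.filter fun a => a ∈ H ∧ a ≠ 1).card = Nat.card H - 1 := fun H => by
        rw [show Finset.univ.filter (fun a => a ∈ H ∧ a ≠ 1) = (Finset.univ.filter (fun a => a ∈ H)).erase 1 by
          ext a; simp [and_comm], Finset.card_erase_of_mem (by simp [H.one_mem]), ← Fintype.card_subtype,
          ← Nat.card_eq_fintype_card]
      rw [hcardm, hEcard, Finset.sum_congr rfl (fun H hH => by rw [hcardm, (Finset.mem_filter.1 hH).2.2]),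
        Finset.sum_const, smul_eq_mul] at h2
      have h3 : lines.card = p + 1 := by
        refine Nat.eq_of_mul_eq_mul_right (show 0 < p - 1 by have := hp.two_le; omega) (h2.trans ?_)
        obtain ⟨r, rfl⟩ : ∃ r, p = r + 1 := ⟨p - 1, by have := hp.two_le; omega⟩
        simp only [Nat.add_sub_cancel]
        have : (r + 1) ^ 2 = (r + 1 + 1) * r + 1 := by ring
        omega
      rw [h3, Nat.cast_add, Nat.cast_one]
    rw [zero_sub, ← Nat.cast_smul_eq_nsmul F, hcount, add_smul, one_smul, smul_neg] at hEsum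
    refine p_ne_smul hpq hx ?_
    linear_combination (norm := module) hEsum
  have hH0n : ¬ H0.Normal := fun h => hH0ne (hFixnormal H0 (fun h' => by
    have h1 := (Finset.mem_filter.1 hH0).2.2
    rw [h', Subgroup.card_bot] at h1
    exact hp.ne_one h1.symm) h)
  obtain ⟨M, hM, hSM⟩ := (eq_top_or_exists_le_coatom (Subgroup.normalizer (H0 : Set P))).resolve_left
    fun h => hH0n (Subgroup.normalizer_eq_top_iff.1 h)
  haveI hMn : M.Normal := Subgroup.NormalizerCondition.normal_of_coatom M Group.normalizerCondition_of_isNilpotent hM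
  have hcomM : commutator P ≤ M := (Cfsg.Agent.Perm.commutator_le_frattini).trans (frattini_le_coatom hM)
  -- the block of M
  let U : Submodule F V := ⨆ m : M, (Fix H0).map (ρ (m : P))
  have hUinv : ∀ a ∈ M, ∀ x ∈ U, ρ a x ∈ U := by
    intro a ha x hx
    refine (show U ≤ U.comap (ρ a) from iSup_le fun m => ?_) hx
    rintro _ ⟨y, hy, rfl⟩
    refine Submodule.mem_iSup_of_mem (⟨a, ha⟩ * m) ⟨y, hy, ?_⟩
    show ρ (a * (m : P)) y = _
    rw [map_mul]; rfl
  have hU0 : U ≠ ⊥ := fun h => hH0ne (eq_bot_iff.2 fun x hx => by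
    have : x ∈ U := Submodule.mem_iSup_of_mem 1 ⟨x, hx, by
      show ρ ((1 : M) : P) x = x
      rw [Subgroup.coe_one, map_one]; rfl⟩
    rwa [h] at this)
  -- conjugates of the line
  let cj : P → Subgroup P := fun a => H0.map (MulAut.conj a).toMonoidHom
  have hcjl : ∀ a, cj a ∈ lines := fun a => Finset.mem_filter.2 ⟨Finset.mem_univ _, by
    rintro _ ⟨h, hh, rfl⟩
    exact hEn.conj_mem h ((Finset.mem_filter.1 hH0).2.1 hh) a, by
    rw [Subgroup.card_map_of_injective (MulAut.conj a).injective]; exact (Finset.mem_filter.1 hH0).2.2⟩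
  have hcjfix : ∀ a, ∀ x ∈ Fix H0, ρ a x ∈ Fix (cj a) := fun a x hx => by
    rintro _ ⟨h, hh, rfl⟩
    show ρ (a * h * a⁻¹) (ρ a x) = ρ a x
    rw [← Module.End.mul_apply, ← map_mul, inv_mul_cancel_right, map_mul, Module.End.mul_apply, hx h hh]
  have hcjM : ∀ a b, cj a = cj b → a⁻¹ * b ∈ M := by
    intro a b hab
    refine hSM (Subgroup.mem_normalizer_iff.2 fun h => ⟨fun hh => ?_, fun hh => ?_⟩)
    · obtain ⟨h', hh', e'⟩ := hab.ge (⟨h, hh, rfl⟩ : b * h * b⁻¹ ∈ cj b)
      have e'' : a * h' * a⁻¹ = b * h * b⁻¹ := e'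
      rw [show a⁻¹ * b * h * (a⁻¹ * b)⁻¹ = a⁻¹ * (b * h * b⁻¹) * a by group, ← e'']
      simpa [mul_assoc] using hh'
    · obtain ⟨h', hh', e'⟩ := hab.le (⟨_, hh, rfl⟩ : a * (a⁻¹ * b * h * (a⁻¹ * b)⁻¹) * a⁻¹ ∈ cj a)
      have e'' : b * h' * b⁻¹ = b * h * b⁻¹ := e'.trans (by group)
      rwa [mul_left_cancel (mul_right_cancel e'')] at hh'
  have hMi : M.index = p := by
    exact Cfsg.Agent.Solv.coatom_index hP hM
  haveI : Fintype (P ⧸ M) := Fintype.ofFinite _
  -- the conjugate blocks are independent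
  let Φ : ((P ⧸ M) → U) →ₗ[F] V := ∑ q : P ⧸ M, ((ρ (Quotient.out q)).comp U.subtype).comp (LinearMap.proj q)
  have hΦ : Function.Injective Φ := by
    rw [← LinearMap.ker_eq_bot, LinearMap.ker_eq_bot']
    intro c hc
    funext q
    apply Subtype.ext
    -- project onto the lines of the block q
    let S : Finset (Subgroup P) := Finset.univ.image fun m : M => cj (Quotient.out q * m)
    let proj : V →ₗ[F] V := ∑ H ∈ S, av H
    have hSl : ∀ H ∈ S, H ∈ lines := fun H hH => by
      obtain ⟨m, -, rfl⟩ := Finset.mem_image.1 hH; exact hcjl _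
    have hprojfix : ∀ H ∈ lines, ∀ x ∈ Fix H, proj x = if H ∈ S then (p : F) • x else 0 := by
      intro H hH x hx
      simp only [proj, LinearMap.sum_apply]
      split_ifs with hHS
      · rw [Finset.sum_eq_single H (fun H' hH' hne => hav_other H' (hSl H' hH') H hH hne x hx) (fun h => (h hHS).elim),
          hav_self H hH x hx]
      · exact Finset.sum_eq_zero fun H' hH' => hav_other H' (hSl H' hH') H hH (fun h => hHS (h ▸ hH')) x hx
    have hblock : ∀ (q' : P ⧸ M) (y : U), proj (ρ (Quotient.out q') y) =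
        if q' = q then (p : F) • ρ (Quotient.out q') y else 0 := by
      intro q' y
      have hU' : U ≤ (LinearMap.ker (proj.comp (ρ (Quotient.out q')) -
          (if q' = q then (p : F) • ρ (Quotient.out q') else 0))) := by
        refine iSup_le fun m => ?_
        rintro _ ⟨x, hx, rfl⟩
        rw [LinearMap.mem_ker, LinearMap.sub_apply, LinearMap.comp_apply, sub_eq_zero, ← Module.End.mul_apply (ρ (Quotient.out q')),
          ← map_mul, hprojfix _ (hcjl _) _ (hcjfix _ x hx)]
        have hiff : cj (Quotient.out q' * (m : P)) ∈ S ↔ q' = q := by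
          refine ⟨fun h => ?_, fun h => h ▸ Finset.mem_image.2 ⟨m, Finset.mem_univ _, rfl⟩⟩
          obtain ⟨m', -, e'⟩ := Finset.mem_image.1 h
          have h1 := hcjM _ _ e'
          rw [← QuotientGroup.eq, QuotientGroup.mk_mul_of_mem _ m'.2, QuotientGroup.mk_mul_of_mem _ m.2,
            QuotientGroup.out_eq', QuotientGroup.out_eq'] at h1
          exact h1.symm
        by_cases hq : q' = q
        · rw [if_pos (hiff.2 hq), if_pos hq, LinearMap.smul_apply, map_mul, Module.End.mul_apply]
        · rw [if_neg (fun h => hq (hiff.1 h)), if_neg hq, LinearMap.zero_apply]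
      have := hU' y.2
      rw [LinearMap.mem_ker, LinearMap.sub_apply, LinearMap.comp_apply, sub_eq_zero] at this
      rw [this]
      split_ifs <;> rfl
    have h1 := congrArg proj hc
    simp only [Φ, LinearMap.sum_apply, LinearMap.comp_apply, LinearMap.proj_apply, Submodule.subtype_apply, map_sum,
      map_zero, hblock, Finset.sum_ite_eq', Finset.mem_univ, if_true] at h1
    have h2 := (smul_eq_zero.1 h1).resolve_left (natCast_p_ne hpq)
    have h3 := congrArg (ρ (Quotient.out q)⁻¹) h2
    rw [map_zero] at h3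
    have h4 : ρ (Quotient.out q)⁻¹ (ρ (Quotient.out q) (c q : V)) = (c q : V) := by
      simpa using rho_inv ρ (Quotient.out q)⁻¹ (c q : V)
    exact h4.symm.trans h3
  have hdimU : p * Module.finrank F U ≤ d := by
    have := LinearMap.finrank_le_finrank_of_injective hΦ
    rwa [Module.finrank_pi_fintype, Finset.sum_const, Finset.card_univ, ← Nat.card_eq_fintype_card,
      ← Subgroup.index_eq_card, hMi, smul_eq_mul, hd] at this
  let ρM : Representation F M U := sub (ρ.comp M.subtype) U (fun m x hx => hUinv m m.2 x hx)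
  have hEM : E ≤ M := fun a ha => hSM (Subgroup.mem_normalizer_iff.2 fun h => by
    constructor
    · intro hh
      rwa [hEc a ha h ((Finset.mem_filter.1 hH0).2.1 hh), mul_inv_cancel_right]
    · intro hh
      have h1 := hEn.conj_mem _ ((Finset.mem_filter.1 hH0).2.1 hh) a⁻¹
      have h2 : h ∈ E := by simpa [mul_assoc] using h1
      rwa [hEc a ha h h2, mul_inv_cancel_right] at hh)
  have heU : e ≤ Module.finrank F U := by
    obtain ⟨a, ha, hne⟩ : ∃ a : P, ∃ ha : a ∈ E, ρM ⟨a, hEM ha⟩ ≠ 1 := by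
      by_contra hall
      push Not at hall
      exact hU0 (eq_bot_iff.2 fun x hx => (Submodule.mem_bot F).2 (hE0 x fun a ha =>
        congrArg Subtype.val (LinearMap.congr_fun (hall a ha) (⟨x, hx⟩ : U))))
    exact e_le hpq (hP.to_subgroup M) ρM _ hne
  exact ⟨M, hMn, U, hcomM, hUinv, hU0, hdimU, heU, hMi⟩

/-- Reduction to faithful representations. -/
theorem of_faithful {k : ℕ} {V : Type w} [AddCommGroup V] [Module F V]
    (h : ∀ (P : Type u) [Group P] [Finite P], IsPGroup p P → ∀ ρ : Representation F P V, (∀ g, ρ g = 1 → g = 1) →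
      ∀ g ∈ derivedSeries P k, ρ g = 1)
    {P : Type u} [Group P] [Finite P] (hP : IsPGroup p P) (ρ : Representation F P V) (g : P)
    (hg : g ∈ derivedSeries P k) : ρ g = 1 := by
  let K : Subgroup P := MonoidHom.ker (ρ : P →* Module.End F V)
  have key : ∀ a : P, (QuotientGroup.lift K (ρ : P →* Module.End F V) le_rfl) (QuotientGroup.mk a) = ρ a := fun a =>
    QuotientGroup.lift_mk' K le_rfl a
  have h1 : (QuotientGroup.mk' K g) ∈ derivedSeries (P ⧸ K) k :=
    map_derivedSeries_le_derivedSeries (QuotientGroup.mk' K) _ ⟨g, hg, rfl⟩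
  have h2 := h (P ⧸ K) (hP.to_quotient K) (QuotientGroup.lift K (ρ : P →* Module.End F V) le_rfl) (fun q hq => by
    obtain ⟨a, rfl⟩ := QuotientGroup.mk_surjective q
    rw [key] at hq
    exact (QuotientGroup.eq_one_iff a).2 (MonoidHom.mem_ker.2 hq)) _ h1
  exact (key g).symm.trans h2

open scoped Classical in
set_option maxHeartbeats 1000000 in
/-- The induction step for a faithful action. -/
theorem faithful_step (hpq : ¬ p ∣ Fintype.card F) (d : ℕ) (e : ℕ) (he : e = orderOf (Fintype.card F : ZMod p))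
    (he0 : 0 < e)
    (ih : ∀ m < d, ∀ (P : Type u) [Group P] [Finite P], IsPGroup p P → ∀ (V : Type w) [AddCommGroup V] [Module F V]
      [FiniteDimensional F V], Module.finrank F V = m → ∀ ρ : Representation F P V,
      ∀ g ∈ derivedSeries P (Nat.log 2 (m / e) + 1), ρ g = 1)
    (P : Type u) [Group P] [Finite P] (hP : IsPGroup p P) (V : Type w) [AddCommGroup V] [Module F V]
    [FiniteDimensional F V] (hd : Module.finrank F V = d) (ρ : Representation F P V) (hfaith : ∀ g, ρ g = 1 → g = 1)
    (g : P) (hg : g ∈ derivedSeries P (Nat.log 2 (d / e) + 1)) : ρ g = 1 := by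
  subst he
  set e := orderOf (Fintype.card F : ZMod p) with he
  have hp : p.Prime := Fact.out
  by_cases hirr : ∀ U : Submodule F V, (∀ a, ∀ x ∈ U, ρ a x ∈ U) → U = ⊥ ∨ U = ⊤
  swap
  · push Not at hirr
    obtain ⟨U, hU, hU0, hU1⟩ := hirr
    obtain ⟨W, hW, hcompl⟩ := exists_invariant_compl hpq hP ρ U hU
    have hUlt : Module.finrank F U < d := hd ▸ Submodule.finrank_lt hU1
    have hW1 : W ≠ ⊤ := fun h => hU0 (by
      have := hcompl.disjoint
      rw [h, disjoint_top] at this
      exact this)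
    have hWlt : Module.finrank F W < d := hd ▸ Submodule.finrank_lt hW1
    have hmono : ∀ k, k < d → derivedSeries P (Nat.log 2 (d / e) + 1) ≤ derivedSeries P (Nat.log 2 (k / e) + 1) := fun k hk =>
      derivedSeries_antitone _ (Nat.add_le_add_right (Nat.log_mono_right (Nat.div_le_div_right hk.le)) 1)
    have h1 := ih _ hUlt P hP U rfl (sub ρ U hU) g (hmono _ hUlt hg)
    have h2 := ih _ hWlt P hP W rfl (sub ρ W hW) g (hmono _ hWlt hg)
    refine LinearMap.ext fun x => ?_
    obtain ⟨y, hy, z, hz, rfl⟩ := Submodule.mem_sup.1 (hcompl.sup_eq_top.ge (Submodule.mem_top (x := x)))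
    have e1 : ρ g y = y := congrArg Subtype.val (LinearMap.congr_fun h1 (⟨y, hy⟩ : U))
    have e2 : ρ g z = z := congrArg Subtype.val (LinearMap.congr_fun h2 (⟨z, hz⟩ : W))
    rw [map_add, e1, e2]; rfl
  rcases eq_or_ne g 1 with rfl | hg1
  · exact map_one ρ
  have hρg : ρ g ≠ 1 := fun h => hg1 (hfaith g h)
  have hed : e ≤ d := hd ▸ e_le hpq hP ρ g hρg
  haveI : Group.IsNilpotent P := hP.isNilpotent
  by_cases hnab : ∃ A : Subgroup P, A.Normal ∧ IsMulCommutative A ∧ ¬ IsCyclic A
  swap
  · push Not at hnab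
    exact (cyclic_case hpq hP ρ hfaith d hd hnab g hg1 hg).elim
  obtain ⟨A, hAn, hAc, hAnc⟩ := hnab
  haveI := hAn
  obtain ⟨M, hMn, U, hcomM, hUinv, hU0, hdimU, heU, -⟩ := exists_block hpq hP ρ hfaith d hd hirr g hρg A hAc hAnc
  haveI := hMn
  let ρM : Representation F M U := sub (ρ.comp M.subtype) U (fun m x hx => hUinv m m.2 x hx)
  have hlog := log_bound hp.two_le he0 heU hdimU
  have hlt : Module.finrank F U < d := by
    have := hp.two_le
    nlinarith [heU, he0, hdimU]
  have hM' := ih _ hlt M (hP.to_subgroup M) U rfl ρM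
  have hgM := derived_le_map M hcomM _ (derivedSeries_antitone P hlog hg)
  -- acts trivially on every conjugate block
  have hcon : ∀ a : P, ∀ x ∈ U, ρ g (ρ a x) = ρ a x := by
    intro a x hx
    have hga : a⁻¹ * g * a ∈ (derivedSeries M (Nat.log 2 (Module.finrank F U / e) + 1)).map M.subtype := by
      haveI : ((derivedSeries M (Nat.log 2 (Module.finrank F U / e) + 1)).map M.subtype).Normal := inferInstance
      simpa using Subgroup.Normal.conj_mem this g hgM a⁻¹
    obtain ⟨m, hm, hma⟩ := hga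
    have h1 : ρ (a⁻¹ * g * a) x = x := by
      rw [← hma]
      exact congrArg Subtype.val (LinearMap.congr_fun (hM' m hm) (⟨x, hx⟩ : U))
    calc ρ g (ρ a x) = ρ (a * (a⁻¹ * g * a)) x := by
          rw [← Module.End.mul_apply, ← map_mul]; group
      _ = ρ a x := by rw [map_mul, Module.End.mul_apply, h1]
  refine LinearMap.ext fun v => ?_
  have hspan : (⨆ a : P, U.map (ρ a)) = ⊤ := by
    refine (hirr _ fun b x hx => ?_).resolve_left fun h => hU0 (eq_bot_iff.2 fun x hx => ?_)
    · refine (show (⨆ a : P, U.map (ρ a)) ≤ (⨆ a : P, U.map (ρ a)).comap (ρ b) from iSup_le fun a => ?_) hx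
      rintro _ ⟨y, hy, rfl⟩
      exact Submodule.mem_iSup_of_mem (b * a) ⟨y, hy, by rw [map_mul]; rfl⟩
    · have : x ∈ ⨆ a : P, U.map (ρ a) := Submodule.mem_iSup_of_mem 1 ⟨x, hx, by rw [map_one]; rfl⟩
      rwa [h] at this
  have hle : (⨆ a : P, U.map (ρ a)) ≤ LinearMap.eqLocus (ρ g) (1 : V →ₗ[F] V) := iSup_le fun a => by
    rintro _ ⟨y, hy, rfl⟩
    exact hcon a y hy
  exact hle (hspan ▸ Submodule.mem_top)

open scoped Classical in
set_option maxHeartbeats 1000000 in
theorem main (hpq : ¬ p ∣ Fintype.card F) :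
    ∀ (d : ℕ) (P : Type u) [Group P] [Finite P], IsPGroup p P → ∀ (V : Type w) [AddCommGroup V] [Module F V]
      [FiniteDimensional F V], Module.finrank F V = d → ∀ ρ : Representation F P V,
      ∀ g ∈ derivedSeries P (Nat.log 2 (d / orderOf (Fintype.card F : ZMod p)) + 1), ρ g = 1 := by
  have hp : p.Prime := Fact.out
  set e := orderOf (Fintype.card F : ZMod p) with he
  have he0 : 0 < e := by
    have hq0 : (Fintype.card F : ZMod p) ≠ 0 := fun h => hpq ((ZMod.natCast_eq_zero_iff _ _).1 h)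
    exact Nat.pos_of_ne_zero fun h => orderOf_eq_zero_iff'.1 h (p - 1) (by have := hp.two_le; omega)
      (ZMod.pow_card_sub_one_eq_one hq0)
  intro d
  induction d using Nat.strong_induction_on with
  | _ d ih =>
  -- reduce to a faithful action
  suffices h : ∀ (P : Type u) [Group P] [Finite P], IsPGroup p P → ∀ (V : Type w) [AddCommGroup V] [Module F V]
      [FiniteDimensional F V], Module.finrank F V = d → ∀ ρ : Representation F P V, (∀ g, ρ g = 1 → g = 1) →
      ∀ g ∈ derivedSeries P (Nat.log 2 (d / e) + 1), ρ g = 1 by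
    intro P _ _ hP V _ _ _ hd ρ g hg
    exact of_faithful (fun P' _ _ hP' ρ' hf g' hg' => h P' hP' V hd ρ' hf g' hg') hP ρ g hg
  exact faithful_step hpq d _ he he0 ih

end Rep

/-- Let F be a field with q elements, p a prime not dividing q, and e the multiplicative order of q modulo p; assume e ≤ n. Then every p-subgroup of GL_n(F) has derived length at most ⌊log₂(n/e)⌋ + 1: that term of its derived series is trivial (n/e is the integer quotient). -/
theorem result {F : Type*} [Field F] [Fintype F] (q : ℕ) (hF : Fintype.card F = q) (p : ℕ) [Fact p.Prime] (hpq : ¬ p ∣ q) (n e : ℕ) (he : e = orderOf (q : ZMod p)) (hen : e ≤ n) (P : Subgroup (GL (Fin n) F)) (hP : IsPGroup p P) : derivedSeries ↥P (Nat.log 2 (n / e) + 1) = ⊥ := by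
  classical
  subst hF he
  rw [eq_bot_iff]
  intro g hg
  let ρ : Representation F P (Fin n → F) :=
    { toFun := fun a => Matrix.mulVecLin ((a : GL (Fin n) F) : Matrix (Fin n) (Fin n) F)
      map_one' := by simp [Matrix.mulVecLin_one]; rfl
      map_mul' := fun a b => by simp [Matrix.mulVecLin_mul]; rfl }
  have h := main hpq n P hP (Fin n → F) (Module.finrank_fin_fun F) ρ g hg
  rw [Subgroup.mem_bot]
  apply Subtype.ext
  apply Units.ext
  refine Matrix.ext_iff_mulVec.2 fun x => ?_
  rw [Subgroup.coe_one, Units.val_one, Matrix.one_mulVec]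
  exact LinearMap.congr_fun h x

end Cfsg.Agent.S4417
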