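import Cfsg.Statements.S3761
import Cfsg.Agent.Lib.Solv.CyclicSelfCentral
import Cfsg.Agent.Lib.Fusion.RankTwoExponent

set_option autoImplicit false
open Cfsg

open scoped Pointwise commutatorElement

namespace Cfsg.Agent.S3761

/-- Let G be a finite non-abelian p-group with a cyclic normal subgroup U of order p^n such that C_G(U) = U. Then either p = 2 and G is dihedral, generalized quaternion or semidihedral of order 2^(n+1); or, writing U₁ for the subgroup generated by the p-th powers of elements of U and M = C_G(U₁), the subgroup U has index p in M and the subgroup Ω₁(M) generated by the elements of M of order dividing p is elementary abelian of order p² and characteristic in G. -/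
theorem result {G : Type*} [Group G] [Finite G] {p : ℕ} [Fact p.Prime] (hG : IsPGroup p G) (hna : ¬ IsMulCommutative G) (U : Subgroup G) [U.Normal] (hU : IsCyclic U) (n : ℕ) (hUn : Nat.card U = p ^ n) (hC : Subgroup.centralizer (U : Set G) = U) : (p = 2 ∧ Nat.card G = 2 ^ (n + 1) ∧ ((∃ m : ℕ, Nonempty (G ≃* DihedralGroup m)) ∨ (∃ m : ℕ, Nonempty (G ≃* QuaternionGroup m)) ∨ Cfsg.IsQuasiDihedral G)) ∨ (U.relIndex (Subgroup.centralizer (Cfsg.powerClosure p 1 U : Set G)) = p ∧ Cfsg.IsElementaryAbelian p (Cfsg.omegaOne p (Subgroup.centralizer (Cfsg.powerClosure p 1 U : Set G))) ∧ Nat.card ↥(Cfsg.omegaOne p (Subgroup.centralizer (Cfsg.powerClosure p 1 U : Set G))) = p ^ 2 ∧ (Cfsg.omegaOne p (Subgroup.centralizer (Cfsg.powerClosure p 1 U : Set G))).Characteristic) := by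
  classical
  have hne' : ∀ z ∈ U, ∀ g : G, g * z * g⁻¹ ∈ U := fun z hz g => Subgroup.Normal.conj_mem ‹_› z hz g
  obtain ⟨⟨u, hu⟩, hgen⟩ := hU.exists_generator
  have hUz : U = Subgroup.zpowers u := by
    refine le_antisymm (fun x hx => ?_) (Subgroup.zpowers_le.2 hu)
    obtain ⟨k, hk⟩ := Subgroup.mem_zpowers_iff.1 (hgen ⟨x, hx⟩)
    exact Subgroup.mem_zpowers_iff.2 ⟨k, congrArg Subtype.val hk⟩
  have hnab : U ≠ ⊤ := by
    intro htop
    apply hna
    rw [hUz] at htop
    refine ⟨⟨fun a b => ?_⟩⟩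
    obtain ⟨i, rfl⟩ := Subgroup.mem_zpowers_iff.1 (htop.ge (Subgroup.mem_top a))
    obtain ⟨j, rfl⟩ := Subgroup.mem_zpowers_iff.1 (htop.ge (Subgroup.mem_top b))
    rw [← zpow_add, ← zpow_add, add_comm]
  have hn : 2 ≤ n := by
    by_contra hlt
    have hle : Nat.card U ≤ p := by
      rw [hUn]
      calc p ^ n ≤ p ^ 1 := Nat.pow_le_pow_right (Fact.out : p.Prime).pos (by omega)
        _ = p := pow_one p
    have hc := Fusion.le_center_of_card_prime hG U hle
    apply hnab
    rw [eq_top_iff, ← hC]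
    intro g _
    exact Subgroup.mem_centralizer_iff.2 fun a ha => (Subgroup.mem_center_iff.1 (hc ha) g).symm
  have D : Solv.CyclicSelf.Data p n u := by
    refine ⟨hG, ?_, hn, fun x => ?_, fun x hx => ?_⟩
    · rw [← Nat.card_zpowers, ← hUz, hUn]
    · obtain ⟨m, hm⟩ := Subgroup.mem_zpowers_iff.1 (hUz ▸ hne' u hu x)
      exact ⟨m, hm.symm⟩
    · rw [← hUz, ← hC]
      refine Subgroup.mem_centralizer_iff.2 fun a ha => ?_
      rw [SetLike.mem_coe, hUz] at ha
      obtain ⟨i, rfl⟩ := Subgroup.mem_zpowers_iff.1 ha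
      exact (hx.zpow_right i).eq.symm
  subst hUz
  by_cases hleft : p = 2 ∧ (n = 2 ∨ ∀ x, Commute x (u ^ p) → x ∈ Subgroup.zpowers u)
  · obtain ⟨rfl, hl⟩ := hleft
    left
    refine ⟨rfl, Solv.CyclicSelf.two_case D hnab fun h3 => ?_⟩
    exact hl.resolve_left (by omega)
  right
  obtain ⟨h1, h2⟩ := Solv.CyclicSelf.Data.omega D (fun hp => by
      by_contra h
      exact hleft ⟨hp, Or.inl (by omega)⟩) (by
      by_cases hp : p = 2
      · by_contra h
        exact hleft ⟨hp, Or.inr fun x hx => by_contra fun hh => h ⟨x, hx, hh⟩⟩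
      · obtain ⟨x, hxU, hxp⟩ := Solv.CyclicSelf.exists_step D hnab
        exact ⟨x, Solv.CyclicSelf.mem_of_odd D hp hxp, hxU⟩)
  obtain ⟨E, hE, hEa, hEc, hEn, hmax⟩ := h2
  rw [hE]
  refine ⟨h1, hEa, hEc, Subgroup.characteristic_iff_map_eq.2 fun φ => ?_⟩
  have hcm : Nat.card (E.map φ.toMonoidHom) = p ^ 2 := by
    rw [← hEc]
    exact (Nat.card_congr (E.equivMapOfInjective φ.toMonoidHom φ.injective).toEquiv).symm
  refine Subgroup.eq_of_le_of_card_ge (hmax _ (hEn.map _ φ.surjective) ⟨⟨⟨?_⟩⟩, ?_⟩ hcm) (hEc.trans hcm.symm).le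
  · rintro ⟨_, a, ha, rfl⟩ ⟨_, b, hb, rfl⟩
    apply Subtype.ext
    show φ.toMonoidHom a * φ.toMonoidHom b = φ.toMonoidHom b * φ.toMonoidHom a
    rw [← map_mul, ← map_mul, Local.elemAb_commute hEa ha hb]
  · rintro _ ⟨a, ha, rfl⟩
    rw [← map_pow, hEa.2 a ha, map_one]

end Cfsg.Agent.S3761
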