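import Cfsg.Agent.S4417
import Cfsg.Agent.S3761
import Cfsg.Agent.S0015
import Cfsg.Agent.Lib.Solv.Kulakoff
import Mathlib

/-!
# Imprimitivity of an irreducible p-group

A normal subgroup `⟨w⟩ × ⟨z⟩` of type `(p, p)` with `z` central splits the space into the fixed spaces of the
`p` subgroups `⟨w z^i⟩`, which are permuted by conjugation through a homomorphism to `ℤ/p`.
-/

set_option autoImplicit false
open Cfsg

namespace Cfsg.Agent.S3380

universe u v

/-- A p-group that is neither cyclic nor quaternion, dihedral or semidihedral has a non-cyclic abelian normal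
subgroup. -/
theorem exists_noncyclic {G : Type u} [Group G] [Finite G] {p : ℕ} [Fact p.Prime] (hG : IsPGroup p G)
    (hnc : ¬ IsCyclic G) (hnq : ∀ n : ℕ, ¬ Nonempty (G ≃* QuaternionGroup n))
    (hnd : ∀ n : ℕ, ¬ Nonempty (G ≃* DihedralGroup n)) (hnsd : ¬ Cfsg.IsQuasiDihedral G) :
    ∃ A : Subgroup G, A.Normal ∧ IsMulCommutative A ∧ ¬ IsCyclic A := by
  by_contra hn
  push Not at hn
  by_cases hp2 : p = 2
  swap
  · obtain ⟨E, hEn, hEe, hEc⟩ := Cfsg.Agent.Solv.exists_normal_elementary_sq hp2 hG hnc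
    have := hn E hEn hEe.1
    obtain ⟨x, hx⟩ := IsCyclic.exists_generator (α := E)
    have h3 : orderOf x ∣ p := orderOf_dvd_of_pow_eq_one (Subtype.ext (hEe.2 x x.2))
    rw [orderOf_eq_card_of_forall_mem_zpowers hx, hEc, pow_two] at h3
    have hp : p.Prime := Fact.out
    have := Nat.le_of_dvd hp.pos h3
    have := hp.two_le
    nlinarith
  subst hp2
  have hna : ¬ IsMulCommutative G := fun h => by
    have := h
    have := hn ⊤ inferInstance inferInstance
    exact hnc (Subgroup.topEquiv.isCyclic.1 inferInstance)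
  have : Group.IsNilpotent G := hG.isNilpotent
  obtain ⟨A, -, hA⟩ := Finite.exists_le_maximal (p := fun A : Subgroup G => A.Normal ∧ IsMulCommutative A)
    (a := (⊥ : Subgroup G)) ⟨inferInstance, inferInstance⟩
  have := hA.1.1
  have := hA.1.2
  have hC := Cfsg.Agent.S0015.result A fun M hM hMc hle => le_antisymm (hA.2 ⟨hM, hMc⟩ hle) hle
  obtain ⟨k, hk⟩ := IsPGroup.iff_card.1 (hG.to_subgroup A)
  rcases Cfsg.Agent.S3761.result hG hna A (hn A hA.1.1 hA.1.2) k hk hC with
    ⟨-, -, ⟨m, hD⟩ | ⟨m, hQ⟩ | hS⟩ | ⟨-, hel, hc4, hch⟩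
  · exact hnd m hD
  · exact hnq m hQ
  · exact hnsd hS
  · have := hch
    have := hn _ (Subgroup.normal_of_characteristic _) hel.1
    obtain ⟨x, hx⟩ := IsCyclic.exists_generator
      (α := Cfsg.omegaOne 2 (Subgroup.centralizer (Cfsg.powerClosure 2 1 A : Set G)))
    have h3 : orderOf x ∣ 2 := orderOf_dvd_of_pow_eq_one (Subtype.ext (hel.2 x x.2))
    rw [orderOf_eq_card_of_forall_mem_zpowers hx, hc4] at h3
    norm_num at h3

/-- Let a finite p-group G act faithfully and irreducibly on a non-trivial finite vector space V over the field with q elements (q prime), and suppose G is not cyclic, generalized quaternion, dihedral or semidihedral. Then G has a subgroup H of index p and V is the direct sum of p subspaces, each invariant under H, on none of which H acts faithfully, and which every element of G outside H permutes in a single p-cycle. -/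
theorem result
    (q : ℕ) [Fact q.Prime] {V : Type*} [AddCommGroup V] [Module (ZMod q) V] [Finite V] [Nontrivial V]
    {G : Type*} [Group G] [Finite G] (p : ℕ) [Fact p.Prime] (hG : IsPGroup p G)
    (ρ : G →* (V ≃ₗ[ZMod q] V)) (hρ : Function.Injective ρ)
    (hirr : ∀ W : Submodule (ZMod q) V, (∀ g : G, ∀ w ∈ W, ρ g w ∈ W) → W = ⊥ ∨ W = ⊤)
    (hnc : ¬ IsCyclic G) (hnq : ∀ n : ℕ, ¬ Nonempty (G ≃* QuaternionGroup n))
    (hnd : ∀ n : ℕ, ¬ Nonempty (G ≃* DihedralGroup n)) (hnsd : ¬ Cfsg.IsQuasiDihedral G) :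
    ∃ (H : Subgroup G) (W : Fin p → Submodule (ZMod q) V), H.index = p ∧
      iSup W = ⊤ ∧ iSupIndep W ∧
      (∀ h ∈ H, ∀ i, ∀ w ∈ W i, ρ h w ∈ W i) ∧
      (∀ i, ∃ h ∈ H, h ≠ 1 ∧ ∀ w ∈ W i, ρ h w = w) ∧
      ∀ g : G, g ∉ H → ∃ σ : Equiv.Perm (Fin p), orderOf σ = p ∧ ∀ i, (W i).map (ρ g : V →ₗ[ZMod q] V) = W (σ i) := by
  classical
  have hp : p.Prime := Fact.out
  have hq : q.Prime := Fact.out
  let ρ' : Representation (ZMod q) G V :=
    { toFun := fun g => (ρ g : V →ₗ[ZMod q] V)
      map_one' := by rw [map_one]; rfl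
      map_mul' := fun a b => by rw [map_mul]; rfl }
  have hf : ∀ g, ρ' g = 1 → g = 1 := fun g hg => hρ (by
    rw [map_one]; exact LinearEquiv.toLinearMap_injective (hg.trans rfl))
  obtain ⟨A, hAn, hAc, hAnc⟩ := exists_noncyclic hG hnc hnq hnd hnsd
  obtain ⟨E, hEn, hEp, hEc, hEcard, z, hzE, hzc, hz1⟩ := Cfsg.Agent.S4417.exists_sq hG A hAc hAnc
  have hzp : z ^ p = 1 := hEp z hzE
  have hzcomm : ∀ a : G, a * z = z * a := Subgroup.mem_center_iff.1 hzc
  have hzo : orderOf z = p := orderOf_eq_prime hzp hz1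
  obtain ⟨w, hwE, hwZ⟩ : ∃ w ∈ E, w ∉ Subgroup.zpowers z := by
    by_contra h
    push Not at h
    have h1 := Subgroup.card_le_of_le (show E ≤ Subgroup.zpowers z from h)
    rw [hEcard, Nat.card_zpowers, hzo] at h1
    have := hp.two_le
    nlinarith
  have hwp : w ^ p = 1 := hEp w hwE
  -- exponents modulo `p`
  have hpm : ∀ x : G, x ^ p = 1 → ∀ a b : ℕ, (a : ZMod p) = b → x ^ a = x ^ b := fun x hx a b hab => by
    rw [pow_eq_pow_mod a hx, pow_eq_pow_mod b hx, (ZMod.natCast_eq_natCast_iff' a b p).1 hab]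
  let e : ZMod p → ZMod p → G := fun a b => w ^ a.val * z ^ b.val
  have hmul : ∀ a b a' b', e a b * e a' b' = e (a + a') (b + b') := fun a b a' b' => by
    show w ^ a.val * z ^ b.val * (w ^ a'.val * z ^ b'.val) = _
    rw [mul_assoc, ← mul_assoc (z ^ b.val), ← ((Commute.pow_pow (hEc w hwE z hzE) a'.val b.val)).eq, mul_assoc,
      ← pow_add, ← mul_assoc, ← pow_add]
    exact congrArg₂ (· * ·) (hpm w hwp _ _ (by simp)) (hpm z hzp _ _ (by simp))
  have he00 : e 0 0 = 1 := by simp [e]
  have hone : ∀ a b, e a b = 1 → a = 0 ∧ b = 0 := by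
    intro a b hab
    have hwo : orderOf w = p := orderOf_eq_prime hwp fun h => hwZ (h ▸ Subgroup.one_mem _)
    have ha : a = 0 := by
      by_contra ha
      refine hwZ ?_
      have h1 : w ^ a.val ∈ Subgroup.zpowers z := by
        rw [mul_eq_one_iff_eq_inv.1 hab]
        exact inv_mem (pow_mem (Subgroup.mem_zpowers z) _)
      have h2 := pow_mem h1 a⁻¹.val
      rwa [← pow_mul, hpm w hwp (a.val * a⁻¹.val) 1 (by simp [mul_inv_cancel₀ ha]), pow_one] at h2
    refine ⟨ha, ?_⟩
    subst ha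
    simp only [e, ZMod.val_zero, pow_zero, one_mul] at hab
    rw [← orderOf_dvd_iff_pow_eq_one, hzo] at hab
    rw [← ZMod.natCast_zmod_val b]
    exact (ZMod.natCast_eq_zero_iff _ _).2 hab
  have hinj : ∀ a b a' b', e a b = e a' b' → a = a' ∧ b = b' := fun a b a' b' h => by
    have h1 := hone (a - a') (b - b') (mul_right_cancel (b := e a' b') (by
      rw [hmul, sub_add_cancel, sub_add_cancel, one_mul, h]))
    exact ⟨sub_eq_zero.1 h1.1, sub_eq_zero.1 h1.2⟩
  have hsurj : ∀ x ∈ E, ∃ a b, e a b = x := by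
    intro x hx
    let f : ZMod p × ZMod p → E := fun ab => ⟨e ab.1 ab.2, mul_mem (pow_mem hwE _) (pow_mem hzE _)⟩
    have hf' : Function.Bijective f := by
      rw [Nat.bijective_iff_injective_and_card]
      exact ⟨fun x y h => Prod.ext (hinj _ _ _ _ (congrArg Subtype.val h)).1 (hinj _ _ _ _ (congrArg Subtype.val h)).2,
        by rw [Nat.card_prod, Nat.card_zmod, hEcard, pow_two]⟩
    obtain ⟨ab, hab⟩ := hf'.2 ⟨x, hx⟩
    exact ⟨ab.1, ab.2, congrArg Subtype.val hab⟩
  have hpow : ∀ (n : ℕ) a b, e a b ^ n = e (n * a) (n * b) := fun n a b => by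
    induction n with
    | zero => simp [he00]
    | succ n ih => rw [pow_succ, ih, hmul]; push_cast; ring_nf
  have hew : e 1 0 = w := by simp [e, ZMod.val_one]
  have hez : e 0 1 = z := by simp [e, ZMod.val_one]
  have hce : ∀ g a b a1 b1, g * w * g⁻¹ = e a1 b1 → g * e a b * g⁻¹ = e (a * a1) (a * b1 + b) := fun g a b a1 b1 hg => by
    have h1 : g * e a b * g⁻¹ = (g * w * g⁻¹) ^ a.val * z ^ b.val := by
      show g * (w ^ a.val * z ^ b.val) * g⁻¹ = _
      rw [conj_pow, show g * (w ^ a.val * z ^ b.val) * g⁻¹ = g * w ^ a.val * (z ^ b.val * g⁻¹) by group,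
        ← (Commute.pow_right (hzcomm g⁻¹) b.val).eq]
      group
    rw [h1, hg, hpow, show z ^ b.val = e 0 b by simp [e], hmul]
    simp
  -- the translation of each element
  have hc : ∀ g : G, ∃ c, g * w * g⁻¹ = e 1 c := by
    intro g
    obtain ⟨a, b, hab⟩ := hsurj _ (hEn.conj_mem w hwE g)
    have hit : ∀ n : ℕ, ∃ b', g ^ n * w * (g ^ n)⁻¹ = e (a ^ n) b' := by
      intro n
      induction n with
      | zero => exact ⟨0, by simp [hew]⟩
      | succ n ih =>
        obtain ⟨b', hb'⟩ := ih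
        refine ⟨a ^ n * b + b', ?_⟩
        rw [pow_succ a, ← hce g (a ^ n) b' a b hab.symm, ← hb', pow_succ']
        group
    obtain ⟨k, hk⟩ := hG g
    obtain ⟨b', hb'⟩ := hit (p ^ k)
    rw [hk, one_mul, inv_one, mul_one, ← hew] at hb'
    have h1 := (hinj _ _ _ _ hb').1
    rw [ZMod.pow_card_pow] at h1
    exact ⟨b, by rw [← hab, ← h1]⟩
  choose c hc using hc
  have hcmul : ∀ g h, c (g * h) = c g + c h := fun g h => by
    refine (hinj 1 _ 1 _ ((hc (g * h)).symm.trans ?_)).2
    have h2 : g * e 1 (c h) * g⁻¹ = e 1 (c g + c h) := by rw [hce g 1 (c h) 1 (c g) (hc g)]; simp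
    rw [← h2, ← hc h]; group
  let φ : G →* Multiplicative (ZMod p) := MonoidHom.mk' (fun g => Multiplicative.ofAdd (c g)) fun g h => by
    rw [hcmul]; rfl
  -- fixed spaces
  let W : ZMod p → Submodule (ZMod q) V := fun i => LinearMap.ker (ρ' (e 1 i) - 1)
  have hmemW : ∀ i x, x ∈ W i ↔ ρ' (e 1 i) x = x := fun i x => by
    simp [W, LinearMap.mem_ker, sub_eq_zero]
  have happ : ∀ a b x, ρ' (a * b) x = ρ' a (ρ' b x) := fun a b x => by rw [map_mul]; rfl
  have hmap : ∀ g i, (W i).map (ρ g : V →ₗ[ZMod q] V) = W (i + c g) := by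
    intro g i
    have hconj : g * e 1 i * g⁻¹ = e 1 (i + c g) := by rw [hce g 1 i 1 (c g) (hc g)]; simp [add_comm]
    ext x
    constructor
    · rintro ⟨y, hy, rfl⟩
      rw [hmemW, ← hconj]
      show ρ' (g * e 1 i * g⁻¹) (ρ' g y) = ρ' g y
      rw [← happ, inv_mul_cancel_right, happ, (hmemW i y).1 hy]
    · intro hx
      refine ⟨ρ' g⁻¹ x, (hmemW i _).2 ?_, ?_⟩
      · rw [← happ, show e 1 i * g⁻¹ = g⁻¹ * e 1 (i + c g) by rw [← hconj]; group, happ, (hmemW _ x).1 hx]
      · show ρ' g (ρ' g⁻¹ x) = x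
        rw [← happ, mul_inv_cancel, map_one]; rfl
  -- the central element has no fixed vector
  have hZfix : ∀ x, ρ' z x = x → x = 0 := by
    intro x hx
    rcases hirr (LinearMap.ker (ρ' z - 1)) fun g y hy => by
        rw [LinearMap.mem_ker, LinearMap.sub_apply, sub_eq_zero] at hy ⊢
        show ρ' z (ρ' g y) = ρ' g y
        rw [← happ, ← hzcomm, happ, hy]
        rfl with h | h
    · have : x ∈ LinearMap.ker (ρ' z - 1) := by simp [LinearMap.mem_ker, sub_eq_zero, hx]
      rwa [h, Submodule.mem_bot] at this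
    · refine absurd (hf z (LinearMap.ext fun y => ?_)) hz1
      have hy : y ∈ LinearMap.ker (ρ' z - 1) := h ▸ Submodule.mem_top
      simpa [LinearMap.mem_ker, sub_eq_zero] using hy
  -- averaging over the lines
  let L : ZMod p → ZMod p → G := fun i j => e j (i * j)
  let av : ZMod p → V →ₗ[ZMod q] V := fun i => ∑ j, ρ' (L i j)
  have hLmul : ∀ i j j', L i j * L i j' = L i (j + j') := fun i j j' => by simp only [L, hmul, mul_add]
  have hav_mem : ∀ i x, av i x ∈ W i := fun i x => by
    rw [hmemW, show e 1 i = L i 1 by simp [L]]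
    simp only [av, LinearMap.sum_apply, map_sum]
    rw [← Equiv.sum_comp (Equiv.addLeft (1 : ZMod p)) (fun j => ρ' (L i j) x)]
    exact Finset.sum_congr rfl fun j _ => by rw [← happ, hLmul]; rfl
  have hzero : ∀ x, (∑ k : ZMod p, ρ' (e 0 k) x) = 0 := fun x => hZfix _ (by
    rw [map_sum, ← hez]
    conv_rhs => rw [← Equiv.sum_comp (Equiv.addLeft (1 : ZMod p)) (fun k => ρ' (e 0 k) x)]
    exact Finset.sum_congr rfl fun k _ => by rw [← happ, hmul, add_zero]; rfl)
  have hsum : ∀ x, ∑ i, av i x = (p : ZMod q) • x := by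
    intro x
    simp only [av, LinearMap.sum_apply]
    rw [Finset.sum_comm, Finset.sum_eq_single (0 : ZMod p)]
    · simp only [L, mul_zero, he00, map_one, Module.End.one_apply, Finset.sum_const, Finset.card_univ, ZMod.card,
        Nat.cast_smul_eq_nsmul]
    · intro j _ hj
      rw [← Equiv.sum_comp (Equiv.mulRight₀ j⁻¹ (inv_ne_zero hj))]
      have : ∀ k : ZMod p, L (Equiv.mulRight₀ j⁻¹ (inv_ne_zero hj) k) j = e j 0 * e 0 k := fun k => by
        rw [hmul]; simp [L, hj]
      simp only [this, happ]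
      rw [← map_sum, hzero, map_zero]
    · exact fun h => absurd (Finset.mem_univ _) h
  have hqp : (p : ZMod q) ≠ 0 := by
    intro h
    rw [ZMod.natCast_eq_zero_iff] at h
    obtain rfl := (Nat.prime_dvd_prime_iff_eq hq hp).1 h
    -- a p-group in characteristic p fixes a nonzero vector
    obtain ⟨x, hx⟩ := exists_ne (0 : V)
    let _ : MulAction (Subgroup.zpowers z) V :=
      { smul := fun a x => ρ' (a : G) x
        one_smul := fun x => by show ρ' ((1 : Subgroup.zpowers z) : G) x = x; rw [Subgroup.coe_one, map_one]; rfl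
        mul_smul := fun a b x => happ a b x }
    have h0 : (0 : V) ∈ MulAction.fixedPoints (Subgroup.zpowers z) V := fun a => map_zero (ρ' (a : G))
    have hdvd : q ∣ Nat.card V := by
      have : Fintype V := Fintype.ofFinite V
      obtain ⟨n, hn⟩ : ∃ n, Nat.card V = q ^ n := ⟨_, by
        rw [Module.natCard_eq_pow_finrank (K := ZMod q), Nat.card_zmod]⟩
      rcases Nat.eq_zero_or_pos n with h | h
      · rw [h, pow_zero] at hn
        have := Finite.one_lt_card (α := V)
        omega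
      · rw [hn]; exact dvd_pow_self q h.ne'
    obtain ⟨y, hy, hy0⟩ := (hG.to_subgroup (Subgroup.zpowers z)).exists_fixed_point_of_prime_dvd_card_of_fixed_point V hdvd h0
    exact hy0 (hZfix y (hy ⟨z, Subgroup.mem_zpowers z⟩)).symm
  have hsup : iSup W = ⊤ := by
    rw [eq_top_iff]
    intro x _
    have : x = (p : ZMod q)⁻¹ • ∑ i, av i x := by rw [hsum, smul_smul, inv_mul_cancel₀ hqp, one_smul]
    rw [this]
    exact Submodule.smul_mem _ _ (Submodule.sum_mem _ fun i _ => Submodule.mem_iSup_of_mem i (hav_mem i x))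
  have hfixL : ∀ i x, x ∈ W i → ∀ j, ρ' (L i j) x = x := by
    intro i x hx j
    rw [← ZMod.natCast_zmod_val j]
    generalize j.val = n
    induction n with
    | zero => simp [L, he00]
    | succ n ih =>
      rw [Nat.cast_succ, ← hLmul, happ, show L i 1 = e 1 i by simp [L], (hmemW i x).1 hx, ih]
  have hindep : iSupIndep W := by
    intro i
    rw [disjoint_iff, eq_bot_iff]
    intro x hx
    obtain ⟨hxi, hxo⟩ := Submodule.mem_inf.1 hx
    have hker : (⨆ (j) (_ : j ≠ i), W j) ≤ LinearMap.ker (av i) := iSup₂_le fun j hj y hy => by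
      rw [LinearMap.mem_ker]
      refine hZfix _ ?_
      have h1 : ρ' (e 1 i) (av i y) = av i y := (hmemW i _).1 (hav_mem i y)
      have h2 : ρ' (e 1 j) (av i y) = av i y := by
        simp only [av, LinearMap.sum_apply, map_sum]
        refine Finset.sum_congr rfl fun k _ => ?_
        rw [← happ, show e 1 j * L i k = L i k * e 1 j by simp only [L, hmul, add_comm], happ, (hmemW j y).1 hy]
      have hstab : ∀ g, ρ' g (av i y) = av i y → ∀ n : ℕ, ρ' (g ^ n) (av i y) = av i y := fun g hg n => by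
        induction n with
        | zero => rw [pow_zero, map_one]; rfl
        | succ n ih => rw [pow_succ, happ, hg, ih]
      -- `z` is a product of powers of the two
      have hzz : z = e 1 i ^ ((i - j)⁻¹).val * e 1 j ^ ((-(i - j)⁻¹)).val := by
        rw [hpow, hpow, hmul, ← hez]
        simp only [ZMod.natCast_zmod_val, mul_one, add_neg_cancel, neg_mul]
        rw [← sub_eq_add_neg, ← mul_sub, inv_mul_cancel₀ (sub_ne_zero.2 (Ne.symm hj))]
      rw [hzz, happ, hstab _ h2, hstab _ h1]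
    have h3 : av i x = (p : ZMod q) • x := by
      simp only [av, LinearMap.sum_apply]
      rw [Finset.sum_congr rfl fun j _ => hfixL i x hxi j, Finset.sum_const, Finset.card_univ, ZMod.card,
        Nat.cast_smul_eq_nsmul]
    have h4 := hker hxo
    rw [LinearMap.mem_ker, h3] at h4
    exact (Submodule.mem_bot _).2 ((smul_eq_zero.1 h4).resolve_left hqp)
  have hsurjφ : Function.Surjective φ := by
    obtain ⟨g, hg⟩ : ∃ g, c g ≠ 0 := by
      by_contra hall
      push Not at hall
      have hbot : ∀ i, W i = ⊥ := fun i => (hirr (W i) fun g y hy => by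
        have h1 : ρ g y ∈ (W i).map (ρ g : V →ₗ[ZMod q] V) := ⟨y, hy, rfl⟩
        rwa [hmap, hall, add_zero] at h1).resolve_right fun h => by
          have h2 : e 1 i = 1 := hf _ (LinearMap.ext fun y => (hmemW i y).1 (h ▸ Submodule.mem_top))
          exact one_ne_zero (hone _ _ h2).1
      rw [iSup_congr hbot, iSup_bot] at hsup
      exact bot_ne_top hsup
    intro y
    refine ⟨g ^ ((Multiplicative.toAdd y) * (c g)⁻¹).val, ?_⟩
    rw [map_pow]
    show Multiplicative.ofAdd (c g) ^ _ = y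
    rw [← ofAdd_nsmul, nsmul_eq_mul, ZMod.natCast_zmod_val, mul_assoc, inv_mul_cancel₀ hg, mul_one, ofAdd_toAdd]
  let ι : Fin p ≃ ZMod p := (ZMod.finEquiv p).toEquiv
  refine ⟨φ.ker, fun i => W (ι i), ?_, ?_, hindep.comp ι.injective, ?_, ?_, ?_⟩
  · rw [Subgroup.index_ker, MonoidHom.range_eq_top.2 hsurjφ, Subgroup.card_top]
    exact (Nat.card_congr Multiplicative.toAdd).trans (Nat.card_zmod p)
  · rw [← hsup]; exact Equiv.iSup_comp ι
  · intro h hh i x hx
    have h1 : ρ h x ∈ (W (ι i)).map (ρ h : V →ₗ[ZMod q] V) := ⟨x, hx, rfl⟩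
    have h0 : c h = 0 := Multiplicative.ofAdd.injective (MonoidHom.mem_ker.1 hh)
    rwa [hmap, h0, add_zero] at h1
  · intro i
    refine ⟨e 1 (ι i), MonoidHom.mem_ker.2 ?_, fun h => one_ne_zero (hone _ _ h).1, fun x hx => (hmemW _ x).1 hx⟩
    have h1 : e 1 (ι i) * w * (e 1 (ι i))⁻¹ = e 1 0 := by
      rw [hew, hEc _ (mul_mem (pow_mem hwE _) (pow_mem hzE _)) w hwE, mul_inv_cancel_right]
    show Multiplicative.ofAdd (c _) = 1
    rw [(hinj _ _ _ _ ((hc _).symm.trans h1)).2]
    rfl
  · intro g hg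
    have hg0 : c g ≠ 0 := fun h => hg (MonoidHom.mem_ker.2 (by show Multiplicative.ofAdd (c g) = 1; rw [h]; rfl))
    let T : Multiplicative (ZMod p) →* Equiv.Perm (Fin p) :=
      MonoidHom.mk' (fun a => (ι.trans (Equiv.addRight (Multiplicative.toAdd a))).trans ι.symm) fun a b => by
        ext i
        simp [add_assoc, add_comm (Multiplicative.toAdd a)]
    refine ⟨T (Multiplicative.ofAdd (c g)), ?_, fun i => ?_⟩
    · rw [orderOf_injective T ?_]
      · refine orderOf_eq_prime ?_ ?_
        · rw [← ofAdd_nsmul, nsmul_eq_mul, ZMod.natCast_self, zero_mul]; rfl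
        · exact fun h => hg0 (Multiplicative.ofAdd.injective h)
      · intro a b hab
        have := congrArg (fun f => ι (f (ι.symm 0))) hab
        simpa [T] using this
    · rw [hmap]
      simp [T]

end Cfsg.Agent.S3380
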