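import Cfsg.Statements.S3888
import Cfsg.Agent.Lib.Solv.RankTwoMain

set_option autoImplicit false
open Cfsg

namespace Cfsg.Agent.S3888

/-- The classification of the p-groups of rank at most two for odd p. Let p be an odd prime and G a group of order p^n with no elementary abelian subgroup of order p³. Then one of the following holds: G is metacyclic; n ≥ 3 and G is generated by elements x, y, z with x^p = y^p = z^(p^(n−2)) = 1, z commuting with x and y, and x⁻¹yx = y z^(p^(n−3)); n ≥ 4 and G is generated by elements x, y, z with x^p = y^p = z^(p^(n−2)) = 1, yz = zy, x⁻¹yx = y z^(s p^(n−3)) and x⁻¹zx = yz, where s = 1 or s is a quadratic non-residue modulo p; or p = 3 and G has maximal class (nilpotency class n − 1). -/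
theorem result {G : Type*} [Group G] [Finite G] {p : ℕ} [Fact p.Prime] (hp : p ≠ 2) (n : ℕ) (hG : Nat.card G = p ^ n)
    (hrk : Cfsg.PRankLE p 2 G) :
    Cfsg.IsMetacyclic G ∨
    (3 ≤ n ∧ ∃ x y z : G, Subgroup.closure ({x, y, z} : Set G) = ⊤ ∧ x ^ p = 1 ∧ y ^ p = 1 ∧ z ^ p ^ (n - 2) = 1 ∧
        x * z = z * x ∧ y * z = z * y ∧ x⁻¹ * y * x = y * z ^ p ^ (n - 3)) ∨
    (4 ≤ n ∧ ∃ (s : ℕ) (x y z : G), (s = 1 ∨ ¬ IsSquare (s : ZMod p)) ∧ Subgroup.closure ({x, y, z} : Set G) = ⊤ ∧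
        x ^ p = 1 ∧ y ^ p = 1 ∧ z ^ p ^ (n - 2) = 1 ∧ y * z = z * y ∧ x⁻¹ * y * x = y * z ^ (s * p ^ (n - 3)) ∧
        x⁻¹ * z * x = y * z) ∨
    (p = 3 ∧ 2 ≤ n ∧ (⊤ : Subgroup G).lowerCentralSeries (n - 2) ≠ ⊥) := by
  classical
  have hR : IsPGroup p G := IsPGroup.of_card hG
  by_cases hcyc : IsCyclic G
  · exact Or.inl ⟨⊤, inferInstance, inferInstance,
      haveI : Subsingleton (G ⧸ (⊤ : Subgroup G)) := QuotientGroup.subsingleton_quotient_top
      inferInstance⟩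
  obtain ⟨E, hF⟩ := Cfsg.Agent.Solv.RankTwo.exists_frame hp hR hrk hcyc
  haveI := hF.norm
  have witness : p = 3 ∧ (∃ t : G, t ∉ Subgroup.centralizer (E : Set G) ∧
      Nat.card (Subgroup.centralizer ({t} : Set G)) ≤ p ^ 2) →
      p = 3 ∧ 2 ≤ n ∧ (⊤ : Subgroup G).lowerCentralSeries (n - 2) ≠ ⊥ := by
    rintro ⟨h3, t, ht, hc⟩
    have hn : 2 ≤ n := by
      have h1 : Nat.card E ≤ Nat.card G := Subgroup.card_le_card_group E
      rw [hF.card, hG] at h1
      exact (Nat.pow_le_pow_iff_right (Fact.out : p.Prime).one_lt).1 h1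
    exact ⟨h3, hn, Cfsg.Agent.Solv.lcs_ne_bot_of_small_centralizer (n - 2)
      (by rw [Nat.sub_add_cancel hn, hG]) ⟨t, hc⟩⟩
  by_cases hnone : ∀ g : G, g ^ p = 1 → g ∈ E
  · rcases Cfsg.Agent.Solv.RankTwo.tame hp _ rfl hR E hF hnone with h | h
    · exact Or.inl h
    · exact Or.inr (Or.inr (Or.inr (witness h)))
  push Not at hnone
  obtain ⟨x, hxp, hxE⟩ := hnone
  obtain ⟨e₀, hA⟩ := Cfsg.Agent.Solv.RankTwo.exists_axis hR hF (fun h => hxE (hF.key x h hxp))
  by_cases hC : IsCyclic (Subgroup.map (QuotientGroup.mk' E) (Subgroup.centralizer (E : Set G)))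
  · rcases Cfsg.Agent.Solv.RankTwo.cyclic_forms hp hR hF hG hA hxp hC with h | h
    · exact Or.inr (Or.inl h)
    · exact Or.inr (Or.inr (Or.inl h))
  · obtain ⟨A, hL⟩ := Cfsg.Agent.Solv.RankTwo.exists_layer hp hR hF hC
    obtain ⟨h3, hc⟩ := Cfsg.Agent.Solv.RankTwo.small_fix hp hR hF hL hA (by rw [hxp]; exact one_mem E)
    exact Or.inr (Or.inr (Or.inr (witness ⟨h3, x, hA.out, hc⟩)))

end Cfsg.Agent.S3888
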