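import Cfsg.Statements.S3012
-- import your own Cfsg.Agent.* helpers here

set_option autoImplicit false
open Cfsg

namespace Cfsg.Agent.S3012



/-- Let G be a finite group, V a nontrivial elementary abelian 2-subgroup of G satisfying the Sidki pair condition (every odd-order element inverted by an element of V commutes with a nontrivial element of V), and K a normal subgroup of G with V ∩ K = 1. Then the image of V in G/K satisfies the Sidki pair condition in G/K. -/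
theorem result {G : Type*} [Group G] [Finite G] (V K : Subgroup G) [K.Normal] (hV : Cfsg.IsElementaryAbelian 2 V) (hV1 : V ≠ ⊥) (hS : Cfsg.IsSidkiPair V) (hVK : V ⊓ K = ⊥) : Cfsg.IsSidkiPair (V.map (QuotientGroup.mk' K)) := by
  have _ := hV1
  obtain ⟨hab, hexp⟩ := hV
  have hinj : ∀ w ∈ V, (QuotientGroup.mk' K) w = 1 → w = 1 := fun w hw h => by
    have : w ∈ V ⊓ K := ⟨hw, (QuotientGroup.eq_one_iff w).1 h⟩
    rwa [hVK, Subgroup.mem_bot] at this
  intro hb vb hvb hodd hinv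
  obtain ⟨v, hv, rfl⟩ := hvb
  obtain ⟨h, rfl⟩ := QuotientGroup.mk'_surjective K hb
  set π := QuotientGroup.mk' K
  obtain ⟨j, hj⟩ := hodd
  set u := h ^ (j + 1) * v * (h ^ (j + 1))⁻¹ with hu
  have hvv : v * v = 1 := by rw [← pow_two]; exact hexp v hv
  have hvinv : v⁻¹ = v := inv_eq_of_mul_eq_one_right hvv
  have huu : u * u = 1 := by
    rw [hu, show h ^ (j + 1) * v * (h ^ (j + 1))⁻¹ * (h ^ (j + 1) * v * (h ^ (j + 1))⁻¹) =
      h ^ (j + 1) * (v * v) * (h ^ (j + 1))⁻¹ by group, hvv, mul_one, mul_inv_cancel]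
  have huv : π (u * v) = π h := by
    have e1 : π v * (π h ^ (j + 1))⁻¹ * (π v)⁻¹ = π h ^ (j + 1) := by
      rw [← inv_pow, ← conj_pow, show π v * (π h)⁻¹ * (π v)⁻¹ = (π v * π h * (π v)⁻¹)⁻¹ by group, hinv, inv_inv]
    have e2 : π v = (π v)⁻¹ := by rw [← map_inv, hvinv]
    rw [hu]
    simp only [map_mul, map_inv, map_pow]
    rw [show π h ^ (j + 1) * π v * (π h ^ (j + 1))⁻¹ * π v =
      π h ^ (j + 1) * (π v * (π h ^ (j + 1))⁻¹ * π v) by group]
    conv_lhs => rw [show π v * (π h ^ (j + 1))⁻¹ * π v = π v * (π h ^ (j + 1))⁻¹ * (π v)⁻¹ by rw [← e2]]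
    rw [e1, ← pow_add, show j + 1 + (j + 1) = 2 * j + 1 + 1 by omega, pow_succ, ← hj, pow_orderOf_eq_one, one_mul]
  obtain ⟨a, m, hm, hn⟩ := Nat.exists_eq_two_pow_mul_odd (n := orderOf (u * v)) (orderOf_pos _).ne'
  -- a power of `u * v` of odd order with the same image
  obtain ⟨k, hk⟩ : ∃ k : ℕ, 2 ^ a * k ≡ 1 [MOD orderOf (π h)] := by
    have hco : Nat.Coprime (2 ^ a) (orderOf (π h)) := (Nat.coprime_two_left.2 ⟨j, hj⟩).pow_left a
    rcases Nat.lt_or_ge 1 (orderOf (π h)) with h1 | h1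
    · obtain ⟨k, -, hk⟩ := Nat.exists_mul_mod_eq_one_of_coprime hco h1
      exact ⟨k, by rw [Nat.ModEq, hk, Nat.mod_eq_of_lt h1]⟩
    · exact ⟨0, by rw [show orderOf (π h) = 1 by omega]; exact Nat.modEq_one⟩
  set y := (u * v) ^ (2 ^ a * k) with hy
  have hyo : Odd (orderOf y) := by
    have h1 : orderOf y ∣ m := orderOf_dvd_of_pow_eq_one (by
      rw [hy, ← pow_mul, show 2 ^ a * k * m = 2 ^ a * m * k by ring, ← hn, pow_mul, pow_orderOf_eq_one, one_pow])
    exact Odd.of_dvd_nat hm h1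
  have hyinv : v * y * v⁻¹ = y⁻¹ := by
    rw [hy, ← conj_pow, ← inv_pow]
    congr 1
    rw [mul_inv_rev, hvinv, mul_assoc, mul_assoc, hvv, mul_one, inv_eq_of_mul_eq_one_right huu]
  have hπy : π y = π h := by
    rw [hy, map_pow, huv]
    exact (pow_eq_pow_iff_modEq.2 hk).trans (pow_one _)
  obtain ⟨w, hw, hw1, hwy⟩ := hS y v hv hyo hyinv
  refine ⟨π w, Subgroup.mem_map_of_mem _ hw, fun h1 => hw1 (hinj w hw h1), ?_⟩
  rw [← hπy, ← map_mul, hwy, map_mul]

end Cfsg.Agent.S3012
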