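import Cfsg.Statements.S3013
-- import your own Cfsg.Agent.* helpers here

set_option autoImplicit false
open Cfsg

namespace Cfsg.Agent.S3013



/-- Let G be a finite group and V a nontrivial elementary abelian 2-subgroup of G satisfying the Sidki pair condition. Let v ∈ V and let x be an element of odd order inverted by v, and put C = C_G(v) ∩ C_G(x), the centralizer of the dihedral subgroup generated by v and x. Then C ∩ V is nontrivial and satisfies the Sidki pair condition inside C: every odd-order element of C inverted by an element of C ∩ V commutes with a nontrivial element of C ∩ V. -/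
theorem result {G : Type*} [Group G] [Finite G] (V : Subgroup G) (hV : Cfsg.IsElementaryAbelian 2 V) (hV1 : V ≠ ⊥) (hS : Cfsg.IsSidkiPair V) (v x : G) (hv : v ∈ V) (hx : Odd (orderOf x)) (hinv : v * x * v⁻¹ = x⁻¹) (C : Subgroup G) (hC : C = Subgroup.centralizer ({v} : Set G) ⊓ Subgroup.centralizer ({x} : Set G)) : C ⊓ V ≠ ⊥ ∧ Cfsg.IsSidkiPair ((C ⊓ V).subgroupOf C) := by
  subst hC
  obtain ⟨hab, hexp⟩ := hV
  have _ := hV1
  have hcomm : ∀ a ∈ V, ∀ b ∈ V, Commute a b := fun a ha b hb => congrArg Subtype.val (hab.is_comm.comm ⟨a, ha⟩ ⟨b, hb⟩)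
  refine ⟨fun h0 => ?_, ?_⟩
  · obtain ⟨w, hw, hw1, hwx⟩ := hS x v hv hx hinv
    have : w ∈ Subgroup.centralizer ({v} : Set G) ⊓ Subgroup.centralizer ({x} : Set G) ⊓ V :=
      ⟨⟨Subgroup.mem_centralizer_singleton_iff.2 (hcomm w hw v hv).eq,
        Subgroup.mem_centralizer_singleton_iff.2 hwx⟩, hw⟩
    rw [h0, Subgroup.mem_bot] at this
    exact hw1 this
  rintro ⟨h, hhv, hhx⟩ ⟨u, ⟨huv, hux⟩⟩ huV hodd hu
  have hhv' : Commute h v := Subgroup.mem_centralizer_singleton_iff.1 hhv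
  have hhx' : Commute h x := Subgroup.mem_centralizer_singleton_iff.1 hhx
  have hux' : Commute u x := Subgroup.mem_centralizer_singleton_iff.1 hux
  have huV' : u ∈ V := huV.2
  have hu' : u * h * u⁻¹ = h⁻¹ := congrArg Subtype.val hu
  have hodd' : Odd (orderOf h) := by rwa [← Subgroup.orderOf_coe] at hodd
  have hprod : Odd (orderOf (x * h)) :=
    Odd.of_dvd_nat (hx.mul hodd') (hhx'.symm.orderOf_mul_dvd_mul_orderOf)
  have hinv2 : (u * v) * (x * h) * (u * v)⁻¹ = (x * h)⁻¹ := by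
    calc (u * v) * (x * h) * (u * v)⁻¹ = u * (v * x * v⁻¹ * (v * h * v⁻¹)) * u⁻¹ := by group
      _ = (u * x⁻¹ * u⁻¹) * (u * h * u⁻¹) := by
          rw [hinv, show v * h * v⁻¹ = h from mul_inv_eq_iff_eq_mul.2 hhv'.eq.symm]; group
      _ = x⁻¹ * h⁻¹ := by
          rw [hu', show u * x⁻¹ * u⁻¹ = x⁻¹ from mul_inv_eq_iff_eq_mul.2 hux'.inv_right.eq]
      _ = (x * h)⁻¹ := by rw [mul_inv_rev, hhx'.inv_inv.eq]
  obtain ⟨w, hw, hw1, hwc⟩ := hS (x * h) (u * v) (mul_mem huV' hv) hprod hinv2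
  have hwv := hcomm w hw v hv
  have h1 : Commute w (x * h) := hwc
  have h2 : Commute w (x⁻¹ * h) := by
    have := h1.map (MulAut.conj v)
    simp only [MulAut.conj_apply] at this
    rw [show v * w * v⁻¹ = w from mul_inv_eq_iff_eq_mul.2 hwv.eq.symm,
      show v * (x * h) * v⁻¹ = (v * x * v⁻¹) * (v * h * v⁻¹) by group, hinv,
      show v * h * v⁻¹ = h from mul_inv_eq_iff_eq_mul.2 hhv'.eq.symm] at this
    exact this
  have h3 : Commute w (h ^ 2) := by
    have := h1.mul_right h2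
    rwa [show x * h * (x⁻¹ * h) = x * (h * x⁻¹) * h by group, hhx'.inv_right.eq, ← mul_assoc x x⁻¹ h,
      mul_inv_cancel, one_mul, ← pow_two] at this
  obtain ⟨j, hj⟩ := hodd'
  have h4 : Commute w h := by
    have := h3.pow_right (j + 1)
    rwa [← pow_mul, show 2 * (j + 1) = 2 * j + 1 + 1 by omega, pow_succ, ← hj, pow_orderOf_eq_one, one_mul] at this
  have h5 : Commute w x := by
    have := h1.mul_right h4.inv_right
    rwa [mul_inv_cancel_right] at this
  refine ⟨⟨w, Subgroup.mem_centralizer_singleton_iff.2 hwv.eq, Subgroup.mem_centralizer_singleton_iff.2 h5.eq⟩,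
    ⟨⟨Subgroup.mem_centralizer_singleton_iff.2 hwv.eq, Subgroup.mem_centralizer_singleton_iff.2 h5.eq⟩, hw⟩,
    fun he => hw1 (congrArg Subtype.val he), Subtype.ext h4.eq⟩

end Cfsg.Agent.S3013
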