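import Cfsg.Statements.S1378
import Cfsg.Agent.Lib.OddLocal.SigmaDisjoint

set_option autoImplicit false
open Cfsg

namespace Cfsg.Agent.S1378

theorem result {G : Type*} [Group G] [Finite G] (hG : Cfsg.IsMinSimpleOddOrder G) :
    (∀ p : ℕ, p.Prime → p ∣ Nat.card G → ∃ M : Subgroup G, IsCoatom M ∧ p ∈ Cfsg.sigma M) ∧
      ∀ M N : Subgroup G, IsCoatom M → IsCoatom N → (Cfsg.sigma M ∩ Cfsg.sigma N).Nonempty → ∃ g : G, N = M.map (MulAut.conj g).toMonoidHom := by
  refine ⟨fun p hp hd => ?_, fun M N hM hN hne => ?_⟩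
  · haveI := Fact.mk hp
    have P : Sylow p G := default
    obtain ⟨M, S, hM, hσ, -, -⟩ := OddLocal.Sig.exists_maximal_sylow hG P (fun h => P.not_dvd_index (by
      rw [h, Subgroup.index_bot]; exact hd))
    exact ⟨M, hM, hσ⟩
  · obtain ⟨p, hp, hp'⟩ := hne
    haveI := Fact.mk hp.1
    exact OddLocal.Disjoint.conjugate_of_sigma hG hM hN hp hp'

end Cfsg.Agent.S1378
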