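import Cfsg.Statements.S1508
import Cfsg.Agent.Lib.Char.CyclicTIUnique
import Cfsg.Agent.Lib.Char.Galois

set_option autoImplicit false
open Cfsg Cfsg.Agent.Char
open scoped ComplexConjugate

namespace Cfsg.Agent.S1508

/-- Let W₁, W₂ ≤ G form a self-normalising cyclic subgroup W = W₁ ⊔ W₂ of odd order and χ an orthonormal family of irreducible characters of G up to sign, indexed by the linear characters ω of W, with χ_1 = 1, χ_ω = ω on W outside W₁ ∪ W₂, and the induction identity for (1 − φ)(1 − ψ). Let ω be a linear character of W and g an element of G whose order is coprime to the order of ω. Then χ ω g is an integer. -/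
theorem result {G : Type*} [Group G] [Fintype G] (W₁ W₂ : Subgroup G) (hW : Cfsg.IsSelfNormalizingCyclic W₁ W₂) (hodd : Odd (Nat.card ↥(W₁ ⊔ W₂))) (χ : (↥(W₁ ⊔ W₂) →* ℂˣ) → (G → ℂ)) (hχ : Cfsg.IsCyclicTIFamily W₁ W₂ χ) (ω : ↥(W₁ ⊔ W₂) →* ℂˣ) (g : G) (hg : Nat.Coprime (orderOf g) (orderOf ω)) : ∃ n : ℤ, χ ω g = n := by
  classical
  set N := Nat.card G with hN
  have hN0 : N ≠ 0 := Nat.card_pos.ne'
  haveI : NeZero N := ⟨hN0⟩
  have hmdvd : orderOf ω ∣ N := orderOf_dvd_of_pow_eq_one (MonoidHom.ext fun w => by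
    rw [MonoidHom.pow_apply, ← map_pow, MonoidHom.one_apply, ← map_one ω]
    exact congrArg ω (Subtype.ext (pow_card_eq_one' (x := (w : G)))))
  have hodvd : orderOf g ∣ N := orderOf_dvd_natCard g
  have hdvd : orderOf ω * orderOf g ∣ N := Nat.Coprime.mul_dvd_of_dvd_of_dvd hg.symm hmdvd hodvd
  have key : ∀ k : ℕ, k.Coprime N → χ ω (g ^ k) = χ ω g := by
    intro k hk
    obtain ⟨l0, hl1, hl2⟩ := Nat.chineseRemainder hg.symm k 1
    have hc1 : l0.Coprime (orderOf ω) := by
      rw [Nat.coprime_iff_gcd_eq_one, hl1.gcd_eq]; exact (hk.coprime_dvd_right hmdvd).gcd_eq_one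
    have hc2 : l0.Coprime (orderOf g) := by
      rw [Nat.coprime_iff_gcd_eq_one, hl2.gcd_eq, Nat.gcd_one_left]
    obtain ⟨u, hu⟩ := ZMod.unitsMap_surjective hdvd (ZMod.unitOfCoprime l0 (hc1.mul_right hc2))
    set l := (u : ZMod N).val with hldef
    have hlN : l.Coprime N := ZMod.val_coe_unit_coprime u
    have hl : l ≡ l0 [MOD orderOf ω * orderOf g] := by
      rw [← ZMod.natCast_eq_natCast_iff, hldef, ZMod.natCast_val]
      exact congrArg Units.val hu
    have e1 : ω ^ k = ω ^ l := MonoidHom.ext fun w => by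
      rw [MonoidHom.pow_apply, MonoidHom.pow_apply]
      refine pow_eq_pow_iff_modEq.mpr ((hl1.symm.trans (hl.symm.of_dvd (dvd_mul_right _ _))).of_dvd ?_)
      exact orderOf_dvd_of_pow_eq_one (DFunLike.congr_fun (pow_orderOf_eq_one ω) w)
    have e2 : g ^ l = g := by
      conv_rhs => rw [← pow_one g]
      exact pow_eq_pow_iff_modEq.mpr ((hl.of_dvd (dvd_mul_left _ _)).trans hl2)
    rw [cyclicTIFamily_pow hW hodd hχ hk, e1, ← cyclicTIFamily_pow hW hodd hχ hlN, e2]
  have fin : ∀ v : G → ℂ, IsIrrCharacter G v → (∀ k : ℕ, k.Coprime N → v (g ^ k) = v g) →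
      ∃ n : ℤ, v g = n := by
    intro v hv hk
    obtain ⟨hm, hgal⟩ := char_galois (irr_isCharacter hv) g
    obtain ⟨q, hq⟩ := exists_rat_of_fixed hN0 hm fun φ => by
      obtain ⟨k, hkc, hkμ⟩ := exists_power_of_embedding hN0 φ
      exact (hgal φ k hkμ).trans (hk k hkc)
    obtain ⟨z, hz⟩ := isIntegral_rat_cast_imp (q := q) (hq ▸ char_isIntegral (irr_isCharacter hv) g)
    exact ⟨z, by rw [hq, ← hz]; simp⟩
  rcases hχ.irr_or_neg ω with h | h
  · exact fin _ h key
  · obtain ⟨n, hn⟩ := fin _ h fun k hk => congrArg Neg.neg (key k hk)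
    exact ⟨-n, by push_cast; rw [← hn]; simp⟩

end Cfsg.Agent.S1508
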