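import Cfsg.Statements.S1537
import Cfsg.Agent.Lib.OddLocal.TypeSets
import Cfsg.Agent.Lib.OddLocal.KappaSupport

set_option autoImplicit false
open Cfsg

namespace Cfsg.Agent.S1537

open Cfsg.Agent.OddLocal

theorem result {G : Type*} [Group G] [Finite G] (hG : Cfsg.IsMinSimpleOddOrder G) (M : Subgroup G) (hM : IsCoatom M) (A : Set G) (hA : A = Cfsg.typeA1 M ∨ A = Cfsg.typeA M ∨ A = Cfsg.typeA0 M) : Subgroup.normalizer A = M ∧ Cfsg.DadeHypothesis A M (Cfsg.supportR M) := by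
  obtain ⟨-, h2, h3, hN⟩ := Kappa.sets_facts hG hM hA
  have hM1 : ∀ a ∈ A, a ∈ M ∧ a ≠ 1 := fun a ha => Kappa.typeA0_mem hG hM (h2 ha)
  have hσ : ∀ a ∈ A, ¬ Subgroup.centralizer ({a} : Set G) ≤ M → a ∈ Cfsg.sigmaCore M := fun a ha hc =>
    by_contra fun h => hc (Kappa.centralizer_le_of_not_core hG hM (h2 ha) h)
  refine ⟨hN, ⟨fun h => (hM1 1 h).2 rfl, fun a ha => (hM1 a ha).1, h3, ?_, ?_, ?_, ?_, ?_, ?_⟩⟩
  · intro a ha g hga
    by_cases haσ : a ∈ Cfsg.sigmaCore M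
    · obtain ⟨n, hn, he⟩ := Kappa.hall_fusion hG hM le_rfl
        (by rw [Subgroup.relIndex_self]; exact Nat.coprime_one_right _) haσ
        (Kappa.mem_core_of_conj hG hM haσ (hM1 _ hga).1)
      exact ⟨n, hn.1, he⟩
    · exact ⟨g, Kappa.mem_of_fused hG hM (h2 ha) haσ (h2 hga), rfl⟩
  · intro a _
    unfold Cfsg.supportR
    split
    · exact inf_le_right
    · exact bot_le
  · intro a ha c hc u hu
    by_cases hcM : Subgroup.centralizer ({a} : Set G) ≤ M
    · rw [Support.supportR_bot hcM, Subgroup.mem_bot] at hu ⊢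
      rw [hu, mul_one, mul_inv_cancel]
    obtain ⟨H, hH, hCH, -, hcompl, hinf, -⟩ := Support.over_centralizer hG hM (hσ a ha hcM) (hM1 a ha).2 hcM
    rw [Support.supportR_eq hG hM (hσ a ha hcM) (hM1 a ha).2 hcM hH hCH] at hu ⊢
    exact (Subgroup.mem_normalizer_iff.1
      ((Support.centralizer_compl hG hM (hσ a ha hcM) hH hCH hcompl hinf).1 hc) u).1 hu
  · intro a ha
    by_cases hcM : Subgroup.centralizer ({a} : Set G) ≤ M
    · rw [Support.supportR_bot hcM, bot_inf_eq]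
    obtain ⟨H, hH, hCH, -, hcompl, hinf, -⟩ := Support.over_centralizer hG hM (hσ a ha hcM) (hM1 a ha).2 hcM
    rw [Support.supportR_eq hG hM (hσ a ha hcM) (hM1 a ha).2 hcM hH hCH, inf_comm]
    exact (Support.centralizer_compl hG hM (hσ a ha hcM) hH hCH hcompl hinf).2.1.2.2.1
  · intro a ha
    by_cases hcM : Subgroup.centralizer ({a} : Set G) ≤ M
    · rw [Support.supportR_bot hcM, bot_sup_eq, inf_eq_right.2 hcM]
    obtain ⟨H, hH, hCH, -, hcompl, hinf, -⟩ := Support.over_centralizer hG hM (hσ a ha hcM) (hM1 a ha).2 hcM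
    rw [Support.supportR_eq hG hM (hσ a ha hcM) (hM1 a ha).2 hcM hH hCH]
    refine le_antisymm (sup_le inf_le_right inf_le_right) fun x hx => ?_
    obtain ⟨b, hb, r, hr, rfl⟩ := (Support.centralizer_compl hG hM (hσ a ha hcM) hH hCH hcompl hinf).2.1.2.2.2 x hx
    exact Subgroup.mul_mem _ (Subgroup.mem_sup_right hb) (Subgroup.mem_sup_left hr)
  · intro a ha b hb
    refine Nat.coprime_of_dvd fun p hp h1 h2' => ?_
    haveI := Fact.mk hp
    have hcM : ¬ Subgroup.centralizer ({a} : Set G) ≤ M := fun h => by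
      rw [Support.supportR_bot h, Subgroup.card_bot, Nat.dvd_one] at h1
      exact hp.ne_one h1
    have haσ := hσ a ha hcM
    have ha1 := (hM1 a ha).2
    obtain ⟨H, hH, hCH, -⟩ := Support.over_centralizer hG hM haσ ha1 hcM
    obtain ⟨⟨ρ, hρ⟩, hρo⟩ := exists_prime_orderOf_dvd_card' p h1
    rw [Subgroup.orderOf_mk] at hρo
    have hpM : p ∉ Cfsg.sigma M := Support.supportR_pi hG hM haσ ha1 hρ p hp hρo.symm.dvd
    have hpH : p ∈ Cfsg.sigma H := (Sig.sigmaCore_hall hG hH).1.2.1 p hp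
      (h1.trans (Subgroup.card_dvd_of_le ((Support.supportR_eq hG hM haσ ha1 hcM hH hCH).le.trans inf_le_left)))
    obtain ⟨r, hr, hrσ, hr2, hc⟩ := Kappa.over_data hG hM haσ ha1 hcM hH hCH
    haveI := Fact.mk hr
    obtain ⟨hκ, hτ⟩ := Kappa.kappa_tau_empty hG hM hH hrσ hr2 hc hpH
      (h2'.trans (Subgroup.card_dvd_of_le inf_le_left))
    obtain ⟨K, U, hKU⟩ := Kappa.exists_full_decomp hG hM
    have hbσ : b ∈ Cfsg.sigmaCore M := by
      by_contra hbσ
      rcases Kappa.typeA0_cases hG hM hKU (h2 hb) with h | ⟨-, h⟩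
      · obtain ⟨L, d, hL⟩ := Kappa.exists_upper hG hM hKU
        obtain ⟨-, -, y, hy, hy1, hby⟩ := Kappa.typeA_fixed hG hM h
        obtain ⟨c, -, hc1, -, hcτ⟩ := d.exists_part hG (hL b h) hbσ hy hy1 hby
        obtain ⟨t, ht, htd⟩ := Nat.exists_prime_and_dvd fun h => hc1 (orderOf_eq_one_iff.1 h)
        exact Set.eq_empty_iff_forall_notMem.1 hτ t (hcτ t ht htd)
      · obtain ⟨t, -, -, ht⟩ := Kappa.hatConj_prime hG hM hKU h
        exact Set.eq_empty_iff_forall_notMem.1 hκ t ht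
    obtain ⟨⟨w, hw⟩, hwo⟩ := exists_prime_orderOf_dvd_card' p h2'
    rw [Subgroup.orderOf_mk] at hwo
    rcases Prime.fixed_class hG hM hw.1 hbσ (hM1 b hb).2 (Subgroup.mem_centralizer_singleton_iff.1 hw.2) hp
      hwo.symm.dvd hpM with h | h
    · exact Set.eq_empty_iff_forall_notMem.1 hκ p h.1
    · exact Set.eq_empty_iff_forall_notMem.1 hτ p h

end Cfsg.Agent.S1537
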