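import Cfsg.Statements.S1524
import Cfsg.Agent.Lib.Char.SibleyApps

set_option autoImplicit false
open Cfsg Cfsg.Agent.Char
open scoped ComplexConjugate

namespace Cfsg.Agent.S1524

/-- Let G be a finite group and H ≤ L subgroups with L of odd order, H ≠ ⊥ nilpotent and normal in L with a nontrivial complement W₁ in L (H ⊓ W₁ = ⊥, H ⊔ W₁ = L) acting on H without non-identity fixed points (L is a Frobenius group with kernel H), and suppose the underlying set of H is a TI-subset of G whose normaliser is L. Let S be the set of functions on L induced from the non-principal irreducible characters of H. Then (S, L minus 1, induction to G) is coherent. -/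
theorem result {G : Type*} [Group G] [Fintype G] (H L W₁ : Subgroup G) [Fintype L] (hodd : Odd (Nat.card L)) (hHL : H ≤ L) (hW₁L : W₁ ≤ L) (hH1 : H ≠ ⊥) (hW1 : W₁ ≠ ⊥) (hnil : Group.IsNilpotent H) (hHn : ∀ x ∈ L, ∀ h ∈ H, x * h * x⁻¹ ∈ H) (hinf : H ⊓ W₁ = ⊥) (hsup : H ⊔ W₁ = L) (hfpf : ∀ w ∈ W₁, w ≠ 1 → ∀ h ∈ H, w * h = h * w → h = 1) (hTI : Cfsg.IsTISubset (H : Set G)) (hN : Subgroup.normalizer (H : Set G) = L) : Cfsg.IsCoherent (Cfsg.inducedIrrAbove (H.subgroupOf L) ⊥) {1}ᶜ (fun α : L → ℂ => Cfsg.indFun L α) := by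
  classical
  have hC := centralizer_le_of_ti_frobenius H L W₁ hHL hW₁L hHn hsup hfpf hTI hN
  subst hN
  haveI : (H.subgroupOf (Subgroup.normalizer (H : Set G))).Normal := Subgroup.normal_in_normalizer
  haveI := Fintype.ofFinite (H.subgroupOf (Subgroup.normalizer (H : Set G)))
  have hlt : H < Subgroup.normalizer (H : Set G) := lt_of_le_of_ne hHL fun h => hW1 (by
    rw [← hinf, inf_eq_right.2]
    exact le_of_le_of_eq hW₁L h.symm)
  rw [inducedIrrAbove_eq_chSet _ (tifn_centralizer H hC), chSet_eq_tifnSet H]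
  have hcard := card_subgroupOf_normalizer H
  have hprod := (H.subgroupOf (Subgroup.normalizer (H : Set G))).card_mul_index
  rw [← hprod, Nat.odd_mul, hcard] at hodd
  rcases sibley_trichotomy H hH1 hTI hlt hC with ⟨-, h2, -⟩ | ⟨h1, -⟩ | h
  · exfalso
    rw [h2] at hodd
    exact Nat.not_odd_iff_even.2 hodd.2.add_one hodd.1
  · exfalso
    rcases Nat.eq_zero_or_pos ((Nat.card G).factorization 2) with h0 | h0
    · rw [h0, pow_zero] at h1
      exact hH1 (Subgroup.card_eq_one.1 h1)
    · rw [h1] at hodd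
      exact Nat.not_odd_iff_even.2 ((even_two).pow_of_ne_zero h0.ne') hodd.1
  · exact h

end Cfsg.Agent.S1524
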