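import Cfsg.Statements.S1542
import Cfsg.Agent.Lib.OddChar.FrobeniusCoherent
import Cfsg.Agent.S1521
import Cfsg.Agent.S1524
import Cfsg.Agent.S1537

set_option autoImplicit false
open Cfsg

namespace Cfsg.Agent.S1542

/-- Let G be a minimal simple group of odd order and L a maximal subgroup of Type I in which every non-identity element of H = L_F has its centraliser within L inside H. Let S be the set of functions on L induced from non-principal irreducible characters of H. Then every member of S is an irreducible character of L, and (S, L minus 1, τ) is coherent for τ the Dade map relative to A(L), L and a ↦ R(a). -/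
theorem result {G : Type*} [Group G] [Fintype G] (hG : Cfsg.IsMinSimpleOddOrder G) (L : Subgroup G) [Fintype L] (hL : IsCoatom L) (hI : Cfsg.IsOfTypeI L) (hfrob : ∀ x ∈ Cfsg.fittingHallOf L, x ≠ 1 → L ⊓ Subgroup.centralizer ({x} : Set G) ≤ Cfsg.fittingHallOf L) : (∀ χ ∈ Cfsg.inducedIrrAbove (Cfsg.fittingHall L) ⊥, Cfsg.IsIrrCharacter L χ) ∧ Cfsg.IsCoherent (Cfsg.inducedIrrAbove (Cfsg.fittingHall L) ⊥) {1}ᶜ (Cfsg.dadeIsometry (Cfsg.typeA L) L (Cfsg.supportR L)) := by
  classical
  set H : Subgroup G := fittingHallOf L with hH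
  set K : Subgroup L := fittingHall ↥L with hK
  have hHK : H.subgroupOf L = K := by
    rw [hH, fittingHallOf, Subgroup.subgroupOf, Subgroup.comap_map_eq_self_of_injective L.subtype_injective]
  have hKmem : ∀ {z : L}, z ∈ K ↔ (z : G) ∈ H := fun {z} => by rw [← hHK, Subgroup.mem_subgroupOf]
  have hC : ∀ h ∈ K, h ≠ 1 → Subgroup.centralizer ({h} : Set L) ≤ K := fun h hh h1 z hz => by
    refine hKmem.2 (hfrob h (hKmem.1 hh) (fun e => h1 (Subtype.ext e)) ⟨z.2, Subgroup.mem_centralizer_singleton_iff.2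
      (congrArg Subtype.val (Subgroup.mem_centralizer_singleton_iff.1 hz) :)⟩)
  have hI' := hI
  obtain ⟨-, hodd, hKne, hKtop, U, hU1, hc, -, -⟩ := hI'.1
  haveI hnil : Group.IsNilpotent K := Char.frobKernel_nilpotent K hKtop hC
  have hsolv : Group.IsSolvable K := inferInstance
  haveI : Fintype K := Fintype.ofFinite K
  have hfree : ∀ u ∈ U, u ≠ 1 → ∀ v ∈ K, u * v = v * u → v = 1 := fun u hu hu1 v hv e => by
    by_contra hv1
    exact hu1 (Subgroup.mem_bot.1 (disjoint_iff.1 hc.disjoint ▸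
      (⟨hC v hv hv1 (Subgroup.mem_centralizer_singleton_iff.2 e), hu⟩ : u ∈ K ⊓ U)))
  -- the set of characters
  have hset := Char.inducedIrrAbove_eq_chSet K hC
  have hirr : ∀ χ ∈ inducedIrrAbove K ⊥, IsIrrCharacter L χ := fun χ hχ => (hset ▸ hχ : χ ∈ Char.chSet K ⊥).1
  refine ⟨hirr, ?_⟩
  have hconj : ∀ χ ∈ inducedIrrAbove K ⊥, conjFun χ ∈ inducedIrrAbove K ⊥ ∧ conjFun χ ≠ χ := by
    rw [hset]
    exact fun χ hχ => ⟨Char.conjFun_mem_chSet K hχ, Char.conjFun_ne_self K hodd hχ⟩
  have hA : typeA L = {a | a ∈ L ∧ a ≠ 1 ∧ ∃ x ∈ H, x ≠ 1 ∧ a * x = x * a} := by rw [typeA, if_pos hI]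
  have hsupp : ∀ χ ∈ inducedIrrAbove K ⊥, ∀ x : L, x ≠ 1 → (x : G) ∉ typeA L → χ x = 0 := by
    rintro χ ⟨θ, -, -, -, rfl⟩ x hx1 hxA
    have hxK : x ∉ K := fun h => hxA (by
      rw [hA]
      exact ⟨x.2, fun e => hx1 (Subtype.ext e), x, hKmem.1 h, fun e => hx1 (Subtype.ext e), rfl⟩)
    rw [indFun, Finset.sum_eq_zero, mul_zero]
    intro y _
    refine Function.extend_apply' _ _ _ ?_
    rintro ⟨k, hk⟩
    refine hxK ?_
    have h := (inferInstance : K.Normal).conj_mem _ k.2 y
    rw [show (k : L) = y⁻¹ * x * y from hk, show y * (y⁻¹ * x * y) * y⁻¹ = x by group] at h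
    exact h
  obtain ⟨-, hD⟩ := S1537.result hG L hL (typeA L) (Or.inr (Or.inl rfl))
  have hchar : ∀ χ ∈ inducedIrrAbove K ⊥, IsCharacter L χ := fun χ hχ => Char.irr_isCharacter (hirr χ hχ)
  obtain ⟨hiso, hone⟩ := OddChar.dade_isometryOn hD _ hchar hsupp
  obtain ⟨φ, hφ, -⟩ := Char.iia_exists_linear K hsolv (A := ⊥) (bot_lt_iff_ne_bot.2 hKne)
  obtain ⟨R, hR⟩ := Char.exists_coherenceSystem (inducedIrrAbove K ⊥) ⟨φ, hφ⟩ hirr hconj _ hiso hone
  by_cases hti : IsTISubset (H : Set G)
  · -- a TI kernel: Sibley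
    have hHL : H ≤ L := Subgroup.map_subtype_le _
    have hHne : H ≠ ⊥ := fun h => hKne (hHK.symm.trans (by rw [h, Subgroup.bot_subgroupOf]))
    have hHn : L ≤ Subgroup.normalizer (H : Set G) := OddLocal.Bender.le_normalizer_map _
    have hN : Subgroup.normalizer (H : Set G) = L := by
      rcases hL.le_iff.1 hHn with h | h
      · exfalso
        haveI := hG.2.1
        rcases Subgroup.Normal.eq_bot_or_eq_top (Subgroup.normalizer_eq_top_iff.1 h) with h2 | h2
        · exact hHne h2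
        · exact hL.1 (top_le_iff.1 (h2.ge.trans hHL))
      · exact h
    have hbot : ∀ a ∈ typeA L, supportR L a = ⊥ := fun a ha => by
      rw [hA] at ha
      obtain ⟨haL, ha1, x, hx, hx1, hax⟩ := ha
      have haH : a ∈ H := hfrob x hx hx1 ⟨haL, Subgroup.mem_centralizer_singleton_iff.2 hax⟩
      rw [supportR, dif_neg]
      rintro ⟨hnot, -⟩
      refine hnot fun c hc' => ?_
      by_contra hcL
      refine ha1 (hti c (fun h => hcL (hN ▸ h)) a haH ?_)
      rwa [Subgroup.mem_centralizer_singleton_iff.1 hc', mul_inv_cancel_right]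
    have hH' : Group.IsNilpotent ↥H :=
      Group.nilpotent_of_mulEquiv (K.equivMapOfInjective L.subtype L.subtype_injective)
    have hco := S1524.result H L (U.map L.subtype) hodd hHL (Subgroup.map_subtype_le _) hHne
      (fun h => hU1 ((Subgroup.map_eq_bot_iff_of_injective _ L.subtype_injective).1 h)) hH'
      (fun x hx h hh => (Subgroup.mem_normalizer_iff.1 (hHn hx) h).1 hh)
      (by rw [hH, fittingHallOf, ← Subgroup.map_inf _ _ _ L.subtype_injective, disjoint_iff.1 hc.disjoint,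
        Subgroup.map_bot])
      (by rw [hH, fittingHallOf, ← Subgroup.map_sup, hc.sup_eq_top, ← MonoidHom.range_eq_map,
        Subgroup.range_subtype])
      (by
        rintro _ ⟨w, hw, rfl⟩ hw1 _ ⟨h, hh, rfl⟩ e
        rw [hfree w hw (fun e' => hw1 (by rw [e', map_one])) h hh (L.subtype_injective (by simpa using e)),
          map_one]) hti hN
    rw [hHK] at hco
    obtain ⟨hne, τ₁, hτ₁, hext⟩ := hco
    refine ⟨hne, τ₁, hτ₁, fun α hα => (hext α hα).trans ?_⟩
    refine (OddChar.dade_eq_ind hD hbot (OddChar.isClassFunction_genChar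
      (OddChar.isGenChar_of_mem_zspan hchar hα.1)) ?_).symm
    obtain ⟨hαs, hα1⟩ := hα
    intro x hx
    by_cases hx1 : x = 1
    · exact hα1 x (by simp [hx1])
    clear hext hα1
    induction hαs using Submodule.span_induction with
    | mem χ hχ => exact hsupp χ hχ x hx1 hx
    | zero => rfl
    | add a b _ _ ha hb => rw [Pi.add_apply, ha, hb, add_zero]
    | smul n a _ ha => rw [Pi.smul_apply, ha, smul_zero]
  have hHlt : ⁅K, K⁆ < K := by
    haveI : Nontrivial K := (Subgroup.nontrivial_iff_ne_bot K).2 hKne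
    refine lt_of_le_of_ne (Subgroup.commutator_le_self K) fun h => ?_
    refine (Group.IsSolvable.commutator_lt_top_of_nontrivial K).ne ?_
    refine Subgroup.map_injective K.subtype_injective ?_
    rw [K.map_subtype_commutator, ← MonoidHom.range_eq_map, Subgroup.range_subtype, h]
  haveI : ((⊥ : Subgroup L).subgroupOf K).Normal := by rw [Subgroup.bot_subgroupOf]; infer_instance
  refine S1521.result K hsolv _ R hR hodd ⊥ bot_le (Group.nilpotent_quotient_of_nilpotent _) ⁅K, K⁆
    (sup_bot_eq _).symm hHlt (lt_top_iff_ne_top.2 hKtop) (OddChar.frob_mod_derived K hC) ?_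
  rw [Subgroup.relIndex_bot_left]
  rcases hI.2 with h | ⟨hab, -, -⟩ | ⟨hexpM, -⟩
  · exact absurd h hti
  · refine Or.inr (Or.inr (Or.inr (Or.inl (Subgroup.commutator_le.2 fun a ha b hb => ?_))))
    exact Subgroup.mem_bot.2 (commutatorElement_eq_one_iff_mul_comm.2 (Subtype.ext (congrArg Subtype.val
      (hab.is_comm.comm (⟨_, hKmem.1 ha⟩ : H) ⟨_, hKmem.1 hb⟩) :)))
  by_cases hpp : ∃ p m : ℕ, p.Prime ∧ Nat.card K = p ^ m
  swap
  · exact Or.inr (Or.inr (Or.inl hpp))
  obtain ⟨p, m, hp, hm⟩ := hpp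
  refine Or.inr (Or.inr (Or.inr (Or.inr ⟨p, m, hp, hm, ?_⟩)))
  have hcardH : Nat.card H = Nat.card K := Subgroup.card_map_of_injective L.subtype_injective
  have hpd : p ∣ Nat.card H := by
    rw [hcardH, hm]
    exact dvd_pow_self p fun h0 => hKne (Subgroup.card_eq_one.1 (by rw [hm, h0, pow_zero]))
  have hcop : (Nat.card K).Coprime K.index := by
    have h := TypePBasic.fittingHallOf_hall L
    rw [← hH, Subgroup.relIndex, hHK, hcardH] at h
    exact h
  rw [hc.symm.index_eq_card] at hcop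
  haveI hZ : IsZGroup ↥U := OddChar.isZGroup_of_fpf hodd hKne hfree hcop.symm
  haveI : IsZGroup (L ⧸ K) := IsZGroup.of_surjective (f := (QuotientGroup.mk' K).comp U.subtype) (fun q => by
    obtain ⟨x, rfl⟩ := QuotientGroup.mk'_surjective K q
    obtain ⟨⟨k, u⟩, hku⟩ := hc.2 x
    refine ⟨u, ?_⟩
    simp only [MonoidHom.coe_comp, Function.comp_apply, ← hku, map_mul]
    rw [show (QuotientGroup.mk' K) (k : L) = 1 from (QuotientGroup.eq_one_iff _).2 k.2, one_mul]
    rfl)
  rw [Subgroup.index_eq_card, ← IsZGroup.exponent_eq_card]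
  exact hexpM p hp hpd

end Cfsg.Agent.S1542
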