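import Cfsg.Statements.S1494
import Cfsg.Agent.Lib.Char.Linear
import Cfsg.Agent.Lib.Char.Ortho

set_option autoImplicit false
open Cfsg
open scoped ComplexConjugate

namespace Cfsg.Agent.S1494

/-- Let χ be a generalized character of the finite group G, p a prime, x an element of order p and y an element commuting with x. Then χ(x * y) − χ(y) = (1 − ε) * ω for some algebraic integer ω, where ε = exp(2πi/p). -/
theorem result {G : Type*} [Group G] [Finite G] (χ : G → ℂ) (hχ : Cfsg.IsGeneralizedCharacter G χ) (p : ℕ) (hp : p.Prime) (x y : G) (hx : orderOf x = p) (hxy : x * y = y * x) : ∃ ω : ℂ, IsIntegral ℤ ω ∧ χ (x * y) - χ y = (1 - Complex.exp (2 * Real.pi * Complex.I / p)) * ω := by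
  classical
  set ζ : ℂ := Complex.exp (2 * Real.pi * Complex.I / p) with hζ
  have hζp : IsPrimitiveRoot ζ p := Complex.isPrimitiveRoot_exp p hp.ne_zero
  suffices h : ∀ f : G → ℂ, Cfsg.IsCharacter G f →
      ∃ ω : ℂ, IsIntegral ℤ ω ∧ f (x * y) - f y = (1 - ζ) * ω by
    obtain ⟨a, b, ha, hb, rfl⟩ := hχ
    obtain ⟨u, hu, e1⟩ := h a ha
    obtain ⟨v, hv, e2⟩ := h b hb
    exact ⟨u - v, hu.sub hv, by simp only [Pi.sub_apply]; linear_combination e1 - e2⟩
  intro f hf
  let K : Subgroup G := Subgroup.closure {x, y}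
  haveI := Fintype.ofFinite K
  haveI : IsMulCommutative K := Subgroup.isMulCommutative_closure fun a ha b hb => by
    simp only [Set.mem_insert_iff, Set.mem_singleton_iff] at ha hb
    rcases ha with rfl | rfl <;> rcases hb with rfl | rfl
    · rfl
    · exact hxy
    · exact hxy.symm
    · rfl
  let x' : K := ⟨x, Subgroup.subset_closure (Set.mem_insert _ _)⟩
  let y' : K := ⟨y, Subgroup.subset_closure (Set.mem_insert_of_mem _ rfl)⟩
  obtain ⟨m, hm⟩ := Char.exists_decomposition (Char.isCharacter_comp K.subtype hf)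
  have key : ∀ ψ : IrrCharacter K, ∃ ω : ℂ, IsIntegral ℤ ω ∧
      (ψ : K → ℂ) (x' * y') - (ψ : K → ℂ) y' = (1 - ζ) * ω := by
    intro ψ
    obtain ⟨l, hl⟩ := Char.exists_hom_of_degree_one (Char.irr_isCharacter ψ.2)
      ((Char.forall_linear_iff_comm (G := K)).mp (fun a b => mul_comm' a b) ψ)
    have hlp : ((l x' : ℂ)) ^ p = 1 := by
      have := Char.linear_pow_card l x'
      rwa [show orderOf x' = p by rw [← hx]; exact (Subgroup.orderOf_coe x').symm] at this
    haveI : NeZero p := ⟨hp.ne_zero⟩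
    obtain ⟨i, -, hi⟩ := hζp.eq_pow_of_pow_eq_one (ξ := (l x' : ℂ)) hlp
    refine ⟨-(∑ j ∈ Finset.range i, ζ ^ j) * (l y' : ℂ),
      IsIntegral.mul (IsIntegral.sum _ fun j _ => (hζp.isIntegral hp.pos).pow j).neg ?_, ?_⟩
    · refine IsIntegral.of_pow (orderOf_pos y') ?_
      rw [Char.linear_pow_card]
      exact isIntegral_one
    · simp only [hl, map_mul, Units.val_mul, ← hi]
      have := geom_sum_mul ζ i
      linear_combination -(l y' : ℂ) * this
  choose ω hω hω' using key
  refine ⟨∑ ψ, (m ψ : ℂ) * ω ψ, IsIntegral.sum _ fun ψ _ => isIntegral_algebraMap.mul (hω ψ), ?_⟩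
  have e1 := congrFun hm (x' * y')
  have e2 := congrFun hm y'
  simp only [Function.comp_apply, Subgroup.coe_subtype, Finset.sum_apply, Pi.smul_apply,
    nsmul_eq_mul] at e1 e2
  rw [show x * y = ((x' * y' : K) : G) from rfl, show y = ((y' : K) : G) from rfl, e1, e2,
    ← Finset.sum_sub_distrib, Finset.mul_sum]
  refine Finset.sum_congr rfl fun ψ _ => ?_
  simp only [Pi.mul_apply, Pi.natCast_apply]
  linear_combination (m ψ : ℂ) * hω' ψ

end Cfsg.Agent.S1494
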