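import Cfsg.Statements.S1495
import Mathlib

set_option autoImplicit false
open Cfsg
open scoped ComplexConjugate

namespace Cfsg.Agent.S1495

/-- Let p be a prime, ε = exp(2πi/p), and n an integer such that n = (1 − ε) * ω for some algebraic integer ω. Then p divides n. -/
theorem result (p : ℕ) (hp : p.Prime) (n : ℤ) (ω : ℂ) (hω : IsIntegral ℤ ω) (h : (n : ℂ) = (1 - Complex.exp (2 * Real.pi * Complex.I / p)) * ω) : (p : ℤ) ∣ n := by
  classical
  set R := integralClosure ℤ ℂ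
  set ε : ℂ := Complex.exp (2 * Real.pi * Complex.I / p) with hε
  have hpr : IsPrimitiveRoot ε p := Complex.isPrimitiveRoot_exp p hp.ne_zero
  have hεi : IsIntegral ℤ ε := hpr.isIntegral hp.pos
  let e : R := ⟨ε, hεi⟩
  let w : R := ⟨ω, hω⟩
  have he : e ^ p = 1 := Subtype.ext (by simpa using hpr.pow_eq_one)
  have hn : (n : R) = (1 - e) * w := Subtype.ext (by simpa [e, w] using h)
  have hdvd : (p : R) ∣ (1 - e) ^ p := by
    obtain ⟨r, hr⟩ := exists_add_pow_prime_eq hp (1 : R) (-e)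
    rw [sub_eq_add_neg, hr, one_pow, neg_pow, he, mul_one]
    rcases hp.eq_two_or_odd' with h2 | h2
    · subst h2
      refine ⟨1 + (1 * -e * r), ?_⟩
      push_cast
      ring
    · rw [h2.neg_one_pow]
      exact ⟨1 * -e * r, by ring⟩
  have h3 : (p : R) ∣ ((n ^ p : ℤ) : R) := by
    push_cast
    rw [hn, mul_pow]
    exact hdvd.mul_right _
  obtain ⟨r, hr⟩ := h3
  have h4 : ((n ^ p : ℤ) : ℂ) = (p : ℂ) * (r : ℂ) := by
    have := congrArg (fun x : R => (x : ℂ)) hr
    simpa using this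
  have hq : IsIntegral ℤ ((((n ^ p : ℤ) : ℚ) / p : ℚ)) := by
    rw [← isIntegral_algebraMap_iff (algebraMap ℚ ℂ).injective]
    have : algebraMap ℚ ℂ (((n ^ p : ℤ) : ℚ) / p) = (r : ℂ) := by
      rw [map_div₀, map_intCast, map_natCast, h4, mul_div_cancel_left₀]
      exact_mod_cast hp.ne_zero
    rw [this]
    exact r.2
  obtain ⟨k, hk⟩ := (IsIntegrallyClosed.isIntegral_iff (R := ℤ)).1 hq
  have : (p : ℤ) ∣ n ^ p := ⟨k, by
    have hk' : (k : ℚ) = ((n ^ p : ℤ) : ℚ) / p := by simpa using hk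
    rw [eq_div_iff (by exact_mod_cast hp.ne_zero)] at hk'
    have : ((n ^ p : ℤ) : ℚ) = ((p * k : ℤ) : ℚ) := by push_cast at hk' ⊢; linarith
    exact_mod_cast this⟩
  exact (Nat.prime_iff_prime_int.1 hp).dvd_of_dvd_pow this

end Cfsg.Agent.S1495
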