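import Cfsg.Statements.S1359
import Cfsg.Agent.Lib.OddLocal.Decomposition

set_option autoImplicit false
open Cfsg

namespace Cfsg.Agent.S1359

theorem result {G : Type*} [Group G] [Finite G] (hG : Cfsg.IsMinSimpleOddOrder G)
    (M : Subgroup G) (hM : IsCoatom M) (K U : Subgroup G) (hKU : Cfsg.IsSigmaDecomposition M K U) :
    IsMulCommutative (Subgroup.closure ((U : Set G) ∩ Cfsg.sigmaHat M)) := by
  obtain ⟨A₀, -, -, hab, hmem⟩ := Cfsg.Agent.OddLocal.TauTwo.fixed_normal_abelian hG hM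
    (Cfsg.Agent.OddLocal.Decomp.compl hG hM hKU)
  have hsub : Subgroup.closure ((U : Set G) ∩ Cfsg.sigmaHat M) ≤ A₀ := by
    rw [Subgroup.closure_le]
    rintro y ⟨hyU, hyM, x, hx, hx1, hxy⟩
    refine hmem y (Subgroup.mem_sup_left hyU) x hx hx1 hxy fun q hq hd => ?_
    have hdU := hd.trans (Subgroup.orderOf_dvd_natCard U hyU)
    have hdM := hdU.trans (Subgroup.card_dvd_of_le (Cfsg.Agent.OddLocal.Decomp.U_le hKU))
    obtain ⟨hσ, hκ⟩ := Cfsg.Agent.OddLocal.Decomp.U_pi hG hM hKU hq hdU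
    refine (Cfsg.Agent.OddLocal.TauTwo.classify hG hM hq hσ hdM).resolve_right fun h13 => ?_
    exact hκ (Cfsg.Agent.OddLocal.Decomp.kappa_of_fixed hG hM hq hσ hdM
      (h13.elim (fun h => h.2.2.2.2) fun h => h.2.2.2) hyM hd hx hx1 hxy)
  exact ⟨⟨fun a b => Subtype.ext (congrArg Subtype.val (hab.is_comm.comm (⟨a, hsub a.2⟩ : A₀) ⟨b, hsub b.2⟩) :)⟩⟩

end Cfsg.Agent.S1359
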