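import Cfsg.Statements.S1480
import Cfsg.Agent.Lib.Lead.InvariantQ
import Cfsg.Agent.Lib.Fusion.Signalizer
import Cfsg.Agent.Lib.Fusion.NPC

set_option autoImplicit false
open Cfsg

namespace Cfsg.Agent.S1480

open Cfsg.Agent

section

variable {G : Type*} [Group G] [Finite G] {p q : ℕ} [hp : Fact p.Prime] [hq : Fact q.Prime] {E : Subgroup G}

theorem not_dvd_of_pGroup (hqp : q ≠ p) {Q : Subgroup G} (hQ : IsPGroup q Q) : ¬ p ∣ Nat.card Q := by
  intro h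
  obtain ⟨k, hk⟩ := IsPGroup.iff_card.1 hQ
  rw [hk] at h
  exact hqp ((Nat.prime_dvd_prime_iff_eq hp.out hq.out).1 (hp.out.dvd_of_dvd_pow h)).symm

theorem mem_maxInv {Q : Subgroup G} :
    Q ∈ Cfsg.maxInvSubgroups ⊤ E {q} ↔ (IsPGroup q Q ∧ E ≤ Subgroup.normalizer (Q : Set G)) ∧
      ∀ R : Subgroup G, IsPGroup q R → E ≤ Subgroup.normalizer (R : Set G) → Q ≤ R → R = Q := by
  have key : ∀ R : Subgroup G, (∀ r : ℕ, r.Prime → r ∣ Nat.card R → r ∈ ({q} : Set ℕ)) ↔ IsPGroup q R :=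
    fun R => ⟨fun h => IsPGroup.of_card (n := (Nat.card R).factorization q) (by
        conv_lhs => rw [← Nat.prod_primeFactorsList Nat.card_pos.ne']
        rw [List.prod_eq_pow_card _ q fun r hr => h r (Nat.prime_of_mem_primeFactorsList hr)
          (Nat.dvd_of_mem_primeFactorsList hr), ← Nat.primeFactorsList_count_eq]
        congr 1
        exact (List.count_eq_length.2 fun r hr => (h r (Nat.prime_of_mem_primeFactorsList hr)
          (Nat.dvd_of_mem_primeFactorsList hr)).symm).symm),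
      fun h r hr hd => by
        obtain ⟨k, hk⟩ := IsPGroup.iff_card.1 h
        rw [hk] at hd
        exact (Nat.prime_dvd_prime_iff_eq hr hq.out).1 (hr.dvd_of_dvd_pow hd)⟩
  constructor
  · rintro ⟨⟨-, h1, h2⟩, h3⟩
    exact ⟨⟨(key Q).1 h1, h2⟩, fun R hR hER hle => h3 R ⟨le_top, (key R).2 hR, hER⟩ hle⟩
  · rintro ⟨⟨h1, h2⟩, h3⟩
    exact ⟨⟨le_top, (key Q).2 h1, h2⟩, fun R hR hle => h3 R ((key R).1 hR.2.1) hR.2.2 hle⟩

theorem exists_max (U : Subgroup G) (hU : IsPGroup q U) (hEU : E ≤ Subgroup.normalizer (U : Set G)) :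
    ∃ M, U ≤ M ∧ M ∈ Cfsg.maxInvSubgroups ⊤ E {q} := by
  obtain ⟨M, hUM, hM⟩ := Finite.exists_le_maximal
    (p := fun M : Subgroup G => IsPGroup q M ∧ E ≤ Subgroup.normalizer (M : Set G)) (a := U) ⟨hU, hEU⟩
  exact ⟨M, hUM, mem_maxInv.2 ⟨hM.1, fun R h1 h2 hle => le_antisymm (hM.2 ⟨h1, h2⟩ hle) hle⟩⟩

theorem le_normalizer_cj {X : Subgroup G} {c : G} (hc : ∀ e ∈ E, e * c = c * e)
    (hEX : E ≤ Subgroup.normalizer (X : Set G)) : E ≤ Subgroup.normalizer ((Fusion.cj X c : Subgroup G) : Set G) :=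
  fun e he => Fusion.mem_normalizer_of_cj_le (by rw [Fusion.cj_cj, hc e he, ← Fusion.cj_cj,
    Fusion.cj_eq_self (hEX he)])

theorem cj_max {X : Subgroup G} {c : G} (hc : ∀ e ∈ E, e * c = c * e)
    (hX : X ∈ Cfsg.maxInvSubgroups ⊤ E {q}) : Fusion.cj X c ∈ Cfsg.maxInvSubgroups ⊤ E {q} := by
  rw [mem_maxInv] at hX ⊢
  refine ⟨⟨Fusion.isPGroup_cj hX.1.1 c, le_normalizer_cj hc hX.1.2⟩, fun R hR hER hle => ?_⟩
  have h := hX.2 (Fusion.cj R c⁻¹) (Fusion.isPGroup_cj hR _)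
    (le_normalizer_cj (fun e he => (Commute.inv_right (hc e he)).eq) hER)
    (by rw [← Fusion.cj_cj_inv X c]; exact Fusion.cj_mono hle _)
  rw [← h, Fusion.cj_inv_cj]

theorem transitive_aux
    (hloc : ∀ T : Subgroup G, IsPGroup p T → T ≠ ⊥ → Cfsg.IsPConstrained p ↥(Subgroup.normalizer (T : Set G)))
    (hcl : Lead.ClassTwoHyp p G) (hEp : IsPGroup p E) (hEc : IsMulCommutative E)
    (hEfull : ∀ x ∈ Subgroup.centralizer (E : Set G), IsPGroup p (Subgroup.zpowers x) → x ∈ E)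
    (hqp : q ≠ p) {A : Subgroup G} (hAE : A ≤ E) (hA : Cfsg.IsElementaryAbelian p A)
    (h3 : p ^ 3 ≤ Nat.card A) {K : Subgroup G}
    (hK : ∀ c : G, c ∈ Subgroup.centralizer (E : Set G) → (orderOf c).Coprime p → c ∈ K) :
    ∀ (n : ℕ) (Q₁ Q₂ : Subgroup G), Nat.card G - Nat.card (Q₁ ⊓ Q₂ : Subgroup G) = n →
      Q₁ ∈ Cfsg.maxInvSubgroups ⊤ E {q} → Q₂ ∈ Cfsg.maxInvSubgroups ⊤ E {q} →
      ∃ c ∈ K, (∀ e ∈ E, e * c = c * e) ∧ Fusion.cj Q₁ c = Q₂ := by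
  intro n
  induction n using Nat.strong_induction_on with
  | _ n ih =>
    intro Q₁ Q₂ hn m₁ m₂
    obtain ⟨⟨hq₁, hE₁⟩, hm₁⟩ := mem_maxInv.1 m₁
    obtain ⟨⟨hq₂, hE₂⟩, hm₂⟩ := mem_maxInv.1 m₂
    by_cases heq : Q₁ = Q₂
    · exact ⟨1, one_mem _, fun e _ => by rw [one_mul, mul_one], by rw [Fusion.cj_one, heq]⟩
    have hD₁ : Q₁ ⊓ Q₂ ≠ Q₁ := fun h => heq (hm₁ Q₂ hq₂ hE₂ (h ▸ inf_le_right)).symm
    have hD₂ : Q₁ ⊓ Q₂ ≠ Q₂ := fun h => heq (hm₂ Q₁ hq₁ hE₁ (h ▸ inf_le_left))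
    obtain ⟨a, ha, ha1, hn₁, hn₂⟩ := Fusion.exists_common_escape hA h3 hq₁ hq₂
      (not_dvd_of_pGroup hqp hq₁) (not_dvd_of_pGroup hqp hq₂) (hAE.trans hE₁) (hAE.trans hE₂) hD₁ hD₂
    obtain ⟨D, hD⟩ : ∃ D, D = Q₁ ⊓ Q₂ := ⟨_, rfl⟩
    rw [← hD] at hn hn₁ hn₂
    have hED : E ≤ Subgroup.normalizer (D : Set G) := fun b hb => Fusion.mem_normalizer_of_cj_le (by
      rw [hD, Fusion.cj_inf, Fusion.cj_eq_self (hE₁ hb), Fusion.cj_eq_self (hE₂ hb)])
    have hEa : ∀ b ∈ E, b * a = a * b := fun b hb =>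
      congrArg Subtype.val (hEc.is_comm.comm ⟨b, hb⟩ ⟨a, hAE ha⟩)
    have hEC : E ≤ Subgroup.centralizer ({a} : Set G) := fun b hb =>
      Subgroup.mem_centralizer_singleton_iff.2 (hEa b hb)
    set X := Subgroup.normalizer ((Subgroup.zpowers a : Subgroup G) : Set G) with hX
    have hCX : Subgroup.centralizer ({a} : Set G) ≤ X := fun x hx => by
      refine Fusion.mem_normalizer_of_cj_le ?_
      rintro _ ⟨y, ⟨i, rfl⟩, rfl⟩
      exact ⟨i, by
        show a ^ i = x * a ^ i * x⁻¹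
        rw [(Commute.zpow_right (show Commute x a from Subgroup.mem_centralizer_singleton_iff.1 hx) i).eq,
          mul_inv_cancel_right]⟩
    have hXc : Cfsg.IsPConstrained p X := hloc _
      (hEp.to_le (Subgroup.zpowers_le.2 (hAE ha)))
      (fun h => ha1 (Subgroup.zpowers_eq_bot.1 h))
    set O := (Cfsg.pPrimeCore p X).map X.subtype with hO
    have hXO : X ≤ Subgroup.normalizer (O : Set G) := fun x hx => Fusion.mem_normalizer_of_cj_le (by
      rintro _ ⟨_, ⟨o, ho, rfl⟩, rfl⟩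
      haveI : (Cfsg.pPrimeCore p X).Normal := Solv.pPrimeCore_normal p
      exact ⟨⟨x, hx⟩ * o * ⟨x, hx⟩⁻¹, Subgroup.Normal.conj_mem inferInstance o ho _, rfl⟩)
    have hOp : (Nat.card O).Coprime p := by
      rw [hO, Subgroup.card_map_of_injective X.subtype_injective]
      exact Fusion.card_pPrimeCore_coprime p X
    have hEX : E ≤ X := hEC.trans hCX
    have inO : ∀ T : Subgroup G, IsPGroup q T → T ≤ Subgroup.centralizer ({a} : Set G) →
        E ≤ Subgroup.normalizer (T : Set G) → T ≤ O := by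
      intro T hT hTa hET x hx
      have h := Lead.invariant_le_pPrimeCore (G := X) hXc (E := E.subgroupOf X) (Q := T.subgroupOf X)
        hEp.comap_subtype
        ⟨⟨fun u v => by
          have h := congrArg Subtype.val (hEc.is_comm.comm (⟨u.1.1, u.2⟩ : E) (⟨v.1.1, v.2⟩ : E))
          exact Subtype.ext (Subtype.ext h)⟩⟩
        (fun y hy hyp => hEfull y.1 (Subgroup.mem_centralizer_iff.2 fun e he =>
          congrArg Subtype.val (hy ⟨e, hEX he⟩ he)) (by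
            have := hyp.map X.subtype
            rwa [MonoidHom.map_zpowers] at this))
        (by rw [Solv.card_subgroupOf (hTa.trans hCX)]; exact not_dvd_of_pGroup hqp hT)
        (fun e he => Fusion.mem_normalizer_of_cj_le (by
          rintro _ ⟨t, ht, rfl⟩
          exact (Solv.conj_mem_of_mem_normalizer (hET he : (e : G) ∈ _) (ht : (t : G) ∈ T) :
            (e : G) * t * (e : G)⁻¹ ∈ T)))
        (Lead.classTwoHyp_subgroup hcl X)
      exact ⟨⟨x, hCX (hTa hx)⟩, h hx, rfl⟩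
    obtain ⟨H, hH⟩ : ∃ H, H = O ⊓ Subgroup.normalizer (D : Set G) := ⟨_, rfl⟩
    have hEH : E ≤ Subgroup.normalizer (H : Set G) := fun b hb => Fusion.mem_normalizer_of_cj_le (by
      rw [hH, Fusion.cj_inf, Fusion.cj_normalizer, Fusion.cj_eq_self (hXO (hEX hb)), Fusion.cj_eq_self (hED hb)])
    have hHp : (Nat.card H).Coprime p :=
      hOp.coprime_dvd_left (Subgroup.card_dvd_of_le (hH ▸ inf_le_left))
    have hco : (Nat.card E).Coprime (Nat.card H) := by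
      obtain ⟨k, hk⟩ := IsPGroup.iff_card.1 hEp
      rw [hk]; exact hHp.symm.pow_left k
    have hsol : Group.IsSolvable E ∨ Group.IsSolvable H :=
      Or.inl (Group.isSolvable_of_comm fun u v => hEc.is_comm.comm u v)
    have step : ∀ Q : Subgroup G, IsPGroup q Q → E ≤ Subgroup.normalizer (Q : Set G) →
        ¬ Subgroup.normalizer (D : Set G) ⊓ Q ⊓ Subgroup.centralizer {a} ≤ D →
        ∃ T, T ≤ Q ∧ T ≤ H ∧ ¬ T ≤ D ∧ IsPGroup q T ∧ E ≤ Subgroup.normalizer (T : Set G) := by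
      intro Q hQ hEQ hesc
      obtain ⟨T, hT⟩ : ∃ T, T = Subgroup.normalizer (D : Set G) ⊓ Q ⊓ Subgroup.centralizer {a} := ⟨_, rfl⟩
      rw [← hT] at hesc
      have hTQ : T ≤ Q := hT ▸ inf_le_left.trans inf_le_right
      have hET : E ≤ Subgroup.normalizer (T : Set G) := fun b hb => Fusion.mem_normalizer_of_cj_le (by
        rw [hT, Fusion.cj_inf, Fusion.cj_inf, Fusion.cj_normalizer, Fusion.cj_eq_self (hED hb),
          Fusion.cj_eq_self (hEQ hb)]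
        refine inf_le_inf_left _ ?_
        rintro _ ⟨x, hx, rfl⟩
        exact mul_mem (mul_mem (hEC hb) hx) (inv_mem (hEC hb)))
      exact ⟨T, hTQ, hH ▸ le_inf (inO T (hQ.to_le hTQ) (hT ▸ inf_le_right) hET)
        (hT ▸ inf_le_left.trans inf_le_left), hesc, hQ.to_le hTQ, hET⟩
    obtain ⟨T₁, hT₁Q, hT₁H, hT₁D, hT₁q, hET₁⟩ := step Q₁ hq₁ hE₁ hn₁
    obtain ⟨T₂, hT₂Q, hT₂H, hT₂D, hT₂q, hET₂⟩ := step Q₂ hq₂ hE₂ hn₂
    obtain ⟨R₁, hR₁, hTR₁, hER₁⟩ := Solv.exists_invariant_sylow_ge hEH hco hsol T₁ hT₁H hT₁q hET₁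
    obtain ⟨R₂, hR₂, hTR₂, hER₂⟩ := Solv.exists_invariant_sylow_ge hEH hco hsol T₂ hT₂H hT₂q hET₂
    obtain ⟨c, hc, hcR⟩ := Solv.invariant_sylow_conj hEH hco hsol hR₁ hR₂ hER₁ hER₂
    obtain ⟨hcH, hcC⟩ := Subgroup.mem_inf.1 hc
    have hce : ∀ e ∈ E, e * c = c * e := fun e he => Subgroup.mem_centralizer_iff.1 hcC e he
    have hcD : c ∈ Subgroup.normalizer (D : Set G) := (Subgroup.mem_inf.1 (hH ▸ hcH)).2
    have hcK : c ∈ K := hK c hcC (hHp.coprime_dvd_left (Subgroup.orderOf_dvd_natCard H hcH))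
    have hDq : IsPGroup q D := hq₁.to_le (hD ▸ inf_le_left)
    have hDR : ∀ R : Subgroup G, Solv.IsSylIn q R H → E ≤ Subgroup.normalizer (R : Set G) →
        IsPGroup q (D ⊔ R : Subgroup G) ∧ E ≤ Subgroup.normalizer ((D ⊔ R : Subgroup G) : Set G) :=
      fun R hR hER => ⟨hDq.to_sup_of_normal_left' hR.isPGroup (hR.1.trans (hH ▸ inf_le_right)),
        fun b hb => Fusion.mem_normalizer_of_cj_le (by
          rw [Fusion.cj_sup, Fusion.cj_eq_self (hED hb), Fusion.cj_eq_self (hER hb)])⟩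
    obtain ⟨M₁, hRM₁, hM₁⟩ := exists_max _ (hDR R₁ hR₁ hER₁).1 (hDR R₁ hR₁ hER₁).2
    obtain ⟨M₂, hRM₂, hM₂⟩ := exists_max _ (hDR R₂ hR₂ hER₂).1 (hDR R₂ hR₂ hER₂).2
    have hlt : ∀ X Y : Subgroup G, D < X ⊓ Y → Nat.card G - Nat.card (X ⊓ Y : Subgroup G) < n := by
      intro X Y h
      have h5 := Subgroup.card_le_card_group (X ⊓ Y)
      have h6 := Solv.card_lt_of_lt h
      omega
    have hDT : ∀ {T : Subgroup G}, ¬ T ≤ D → D < D ⊔ T := fun {T} h =>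
      lt_of_le_not_ge le_sup_left fun h' => h (le_sup_right.trans h')
    obtain ⟨c₁, hc₁, hc₁e, he₁⟩ := ih _ (hlt Q₁ M₁ ((hDT hT₁D).trans_le (le_inf
      (sup_le (hD ▸ inf_le_left) hT₁Q) ((sup_le_sup_left hTR₁ _).trans hRM₁)))) Q₁ M₁ rfl m₁ hM₁
    have hDR₂M : D ⊔ R₂ ≤ Fusion.cj M₁ c := by
      refine le_trans (le_of_eq ?_) (Fusion.cj_mono hRM₁ c)
      rw [Fusion.cj_sup, Fusion.cj_eq_self hcD, ← hcR, Solv.conj_smul_eq_map]
    obtain ⟨c₂, hc₂, hc₂e, he₂⟩ := ih _ (hlt (Fusion.cj M₁ c) M₂ ((hDT hT₂D).trans_le (le_inf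
      ((sup_le_sup_left hTR₂ _).trans hDR₂M) ((sup_le_sup_left hTR₂ _).trans hRM₂))))
      (Fusion.cj M₁ c) M₂ rfl (cj_max hce hM₁) hM₂
    obtain ⟨c₃, hc₃, hc₃e, he₃⟩ := ih _ (hlt M₂ Q₂ ((hDT hT₂D).trans_le (le_inf
      ((sup_le_sup_left hTR₂ _).trans hRM₂) (sup_le (hD ▸ inf_le_right) hT₂Q)))) M₂ Q₂ rfl hM₂ m₂
    refine ⟨c₃ * (c₂ * (c * c₁)), mul_mem hc₃ (mul_mem hc₂ (mul_mem hcK hc₁)), fun e he => ?_, ?_⟩
    · exact (((show Commute e c₃ from hc₃e e he).mul_right ((show Commute e c₂ from hc₂e e he).mul_right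
        ((show Commute e c from hce e he).mul_right (hc₁e e he))))).eq
    · rw [← Fusion.cj_cj, ← Fusion.cj_cj, ← Fusion.cj_cj, he₁, he₂, he₃]

end

/-- Let G be a finite group and p a prime such that the normalizer of every nontrivial p-subgroup of G is p-constrained; if p = 2 assume also that the Sylow 2-subgroups of G have nilpotency class at most 2. Let E be an abelian p-subgroup containing an elementary abelian subgroup of order p ^ 3 and containing every element of p-power order of C_G(E). Then for every prime q ≠ p, any two maximal E-invariant q-subgroups of G are conjugate by an element of O_{p'}(C_G(E)). -/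
theorem result {G : Type*} [Group G] [Finite G] (p : ℕ) [Fact p.Prime]
    (hloc : ∀ T : Subgroup G, IsPGroup p T → T ≠ ⊥ → Cfsg.IsPConstrained p ↥(Subgroup.normalizer (T : Set G)))
    (h2 : p = 2 → ∀ S : Sylow p G, Group.IsNilpotent (S : Subgroup G) ∧ Group.nilpotencyClass (S : Subgroup G) ≤ 2)
    (E : Subgroup G) (hEp : IsPGroup p E) (hEc : IsMulCommutative E) (hE3 : ¬ Cfsg.PRankLE p 2 E)
    (hEfull : ∀ x ∈ Subgroup.centralizer (E : Set G), IsPGroup p (Subgroup.zpowers x) → x ∈ E)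
    (q : ℕ) [Fact q.Prime] (hqp : q ≠ p) :
    ∀ Q₁ ∈ Cfsg.maxInvSubgroups ⊤ E {q}, ∀ Q₂ ∈ Cfsg.maxInvSubgroups ⊤ E {q},
        ∃ k ∈ Cfsg.piCoreOf (Cfsg.primesNotDvd p) (Subgroup.centralizer (E : Set G)), Q₂ = Q₁.map (MulAut.conj k).toMonoidHom := by
  obtain ⟨A₀, hA₀⟩ := not_forall.1 hE3
  push Not at hA₀
  obtain ⟨hA₀c, hA₀e, hA₀n⟩ := hA₀
  have hA : Cfsg.IsElementaryAbelian p (A₀.map E.subtype) := by
    refine ⟨⟨⟨fun u v => ?_⟩⟩, ?_⟩
    · obtain ⟨u', hu', eu⟩ := u.2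
      obtain ⟨v', hv', ev⟩ := v.2
      refine Subtype.ext ?_
      show (u : G) * v = v * u
      rw [← eu, ← ev]
      exact congrArg Subtype.val (congrArg Subtype.val (hA₀c.is_comm.comm ⟨u', hu'⟩ ⟨v', hv'⟩))
    · rintro _ ⟨u, hu, rfl⟩
      rw [← map_pow, hA₀e u hu, map_one]
  have h3 : p ^ 3 ≤ Nat.card (A₀.map E.subtype) := by
    rw [Subgroup.card_map_of_injective E.subtype_injective]
    obtain ⟨k, hk⟩ := IsPGroup.iff_card.1 ((hEp.to_subgroup A₀))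
    rw [hk] at hA₀n ⊢
    exact Nat.pow_le_pow_right (Fact.out : p.Prime).pos
      ((Nat.pow_lt_pow_iff_right (Fact.out : p.Prime).one_lt).1 hA₀n)
  set C := Subgroup.centralizer (E : Set G)
  obtain ⟨P⟩ : Nonempty (Sylow p C) := inferInstance
  have hnpc : Cfsg.HasNormalPComplement p C := Fusion.hnpc_of_normalizer_le_centralizer P fun g _ => by
    refine Subgroup.mem_centralizer_iff.2 fun y hy => Subtype.ext ?_
    have hyE : (y : G) ∈ E := hEfull y y.2 (by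
      rw [show (y : G) = C.subtype y from rfl, ← MonoidHom.map_zpowers]
      exact (P.isPGroup'.to_le (Subgroup.zpowers_le.2 hy)).map _)
    exact Subgroup.mem_centralizer_iff.1 g.2 _ hyE
  have hle : Cfsg.pResidual p C ≤ Cfsg.piCore (Cfsg.primesNotDvd p) C := by
    refine le_sSup ⟨inferInstance, fun r hr hd => ⟨hr, fun hrp => ?_⟩⟩
    have := Nat.Coprime.coprime_dvd_left hd (Fusion.hnpc_iff.1 hnpc)
    exact hr.ne_one (Nat.eq_one_of_dvd_coprimes this dvd_rfl hrp)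
  intro Q₁ h₁ Q₂ h₂
  obtain ⟨c, hc, -, he⟩ := transitive_aux (K := Cfsg.piCoreOf (Cfsg.primesNotDvd p) C) hloc
    (Lead.classTwoHyp_of_sylow h2) hEp hEc hEfull hqp (Subgroup.map_subtype_le _) hA h3
    (fun c hc hco => ⟨⟨c, hc⟩, hle ((Fusion.hnpc_mem_iff hnpc).2 (by rwa [Subgroup.orderOf_mk])), rfl⟩)
    _ Q₁ Q₂ rfl h₁ h₂
  exact ⟨c, hc, he.symm⟩

end Cfsg.Agent.S1480
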