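import Cfsg.Statements.S1461
import Cfsg.Agent.Lib.Solv.SZ
import Cfsg.Agent.Lib.Solv.PLength

set_option autoImplicit false
open Cfsg
open scoped commutatorElement Pointwise

namespace Cfsg.Agent.S1461

theorem result {G : Type*} [Group G] [Finite G] [Group.IsSolvable G] (p : ℕ) [Fact p.Prime] (hpl : Cfsg.PLengthLE p 1 G) (S : Sylow p G) :
    ((S : Subgroup G) ≤ commutator G → (S : Subgroup G) ≤ ⁅Subgroup.normalizer ((S : Subgroup G) : Set G), Subgroup.normalizer ((S : Subgroup G) : Set G)⁆) ∧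
      (∀ (Y : Set G) (x : G), Y ⊆ (S : Subgroup G) → (fun y => x * y * x⁻¹) '' Y ⊆ (S : Subgroup G) →
        ∃ g ∈ Subgroup.normalizer ((S : Subgroup G) : Set G), ∃ c ∈ Subgroup.centralizer Y, g * c = x) ∧
      ∀ Q : Subgroup G, IsPGroup p Q → ∃ x ∈ Subgroup.centralizer ((Q ⊓ (S : Subgroup G) : Subgroup G) : Set G), Q.map (MulAut.conj x).toMonoidHom ≤ (S : Subgroup G) := by
  obtain ⟨f, hf0, hftop, hfn, hfle, hok⟩ := (Solv.PLen.pLengthLE_iff 1).1 hpl
  have hpr : p.Prime := Fact.out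
  haveI := hfn 1
  haveI := hfn 2
  set M := f 1 with hM
  have hMc : (Nat.card M).Coprime p := by
    have := hok 0
    rw [hf0, Subgroup.relIndex_bot_left] at this
    simpa [Solv.PLen.OkIndex] using this
  obtain ⟨a, ha⟩ : ∃ a, M.relIndex (f 2) = p ^ a := by
    simpa [Solv.PLen.OkIndex] using hok 1
  have hidx : (f 2).index.Coprime p := by
    have := hok 2
    rw [hftop 3 le_rfl, Subgroup.relIndex_top_right] at this
    simpa [Solv.PLen.OkIndex] using this
  have hpf2 : ∀ Q : Subgroup G, IsPGroup p Q → Q ≤ f 2 := by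
    intro Q hQ x hx
    obtain ⟨j, hj⟩ := IsPGroup.iff_orderOf.1 hQ ⟨x, hx⟩
    rw [Subgroup.orderOf_mk] at hj
    rw [← QuotientGroup.eq_one_iff, ← orderOf_eq_one_iff]
    exact Nat.eq_one_of_dvd_coprimes (hidx.pow_right j)
      ((orderOf_dvd_natCard _).trans (Subgroup.index_eq_card _).symm.dvd)
      (hj ▸ orderOf_map_dvd (QuotientGroup.mk' (f 2)) x)
  have hsup : M ⊔ (S : Subgroup G) = f 2 := by
    refine le_antisymm (sup_le (hfle 1) (hpf2 _ S.isPGroup')) (Subgroup.relIndex_eq_one.1 ?_)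
    refine Nat.eq_one_of_dvd_coprimes (k := (M ⊔ (S : Subgroup G)).relIndex (f 2)) (a := p ^ a) (b := (S : Subgroup G).index)
      (Nat.Coprime.pow_left a ((hpr.coprime_iff_not_dvd).2 S.not_dvd_index)) ?_ ?_
    · rw [← ha]; exact Subgroup.relIndex_dvd_of_le_left _ le_sup_left
    · exact (dvd_mul_right _ _).trans ((Subgroup.relIndex_mul_index (sup_le (hfle 1) (hpf2 _ S.isPGroup'))).dvd.trans
        (Subgroup.index_dvd_of_le le_sup_right))
  have hcop : ∀ Q : Subgroup G, IsPGroup p Q → (Nat.card M).Coprime (Nat.card Q) := by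
    intro Q hQ
    obtain ⟨j, hj⟩ := IsPGroup.iff_card.1 hQ
    exact hj ▸ hMc.pow_right j
  have hsol : ∀ Q : Subgroup G, IsPGroup p Q → Group.IsSolvable Q := fun Q hQ =>
    haveI := hQ.isNilpotent; inferInstance
  have hfix : ∀ m ∈ M, ∀ y ∈ (S : Subgroup G), m * y * m⁻¹ ∈ (S : Subgroup G) → m * y = y * m := by
    intro m hm y hy hmy
    have h1 : m * y * m⁻¹ * y⁻¹ ∈ M ⊓ (S : Subgroup G) := by
      refine Subgroup.mem_inf.2 ⟨?_, mul_mem hmy (inv_mem hy)⟩
      have := mul_mem hm ((hfn 1).conj_mem m⁻¹ (inv_mem hm) y)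
      simpa [mul_assoc] using this
    rw [Subgroup.inf_eq_bot_of_coprime (hcop _ S.isPGroup'), Subgroup.mem_bot, mul_inv_eq_one,
      mul_inv_eq_iff_eq_mul] at h1
    exact h1
  have hconj : ∀ Q : Subgroup G, IsPGroup p Q →
      ∃ m ∈ M, ∀ q ∈ Q, m * q * m⁻¹ ∈ (S : Subgroup G) := by
    intro Q hQ
    obtain ⟨m, hm, hle⟩ := Solv.sz_contain M (S : Subgroup G) Q
      (by rw [Subgroup.normalizer_eq_top]; exact le_top) (hsup ▸ hpf2 Q hQ) (hcop Q hQ)
      (hcop _ S.isPGroup') (Or.inr (hsol Q hQ))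
    refine ⟨m⁻¹, inv_mem hm, fun q hq => ?_⟩
    have := hle hq
    rw [Subgroup.mem_pointwise_smul_iff_inv_smul_mem] at this
    simpa [MulAut.smul_def, MulAut.conj_inv_apply] using this
  have hfr : ∀ x : G, ∃ m ∈ M, m * x ∈ Subgroup.normalizer ((S : Subgroup G) : Set G) := by
    intro x
    obtain ⟨m, hm, hms⟩ := hconj _ (S.isPGroup'.map (MulAut.conj x).toMonoidHom)
    refine ⟨m, hm, Subgroup.mem_normalizer_iff_map_conj_eq.2 ?_⟩
    refine Subgroup.eq_of_le_of_card_ge ?_ (by rw [Subgroup.card_map_of_injective (MulAut.conj (m * x)).injective])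
    rintro _ ⟨s, hs, rfl⟩
    have := hms _ ⟨s, hs, rfl⟩
    simpa [mul_assoc] using this
  refine ⟨fun hS s hs => ?_, fun Y x hY hxY => ?_, fun Q hQ => ?_⟩
  · set N := Subgroup.normalizer ((S : Subgroup G) : Set G)
    let π := QuotientGroup.mk' M
    have hN : N.map π = ⊤ := by
      refine eq_top_iff.2 fun z _ => ?_
      obtain ⟨x, rfl⟩ := QuotientGroup.mk'_surjective M z
      obtain ⟨m, hm, hmx⟩ := hfr x
      refine ⟨m * x, hmx, ?_⟩
      rw [map_mul, show π m = 1 from (QuotientGroup.eq_one_iff m).2 hm, one_mul]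
    have h1 : π s ∈ (⁅N, N⁆ : Subgroup G).map π := by
      rw [Subgroup.map_commutator, hN, ← Subgroup.map_top_of_surjective π (QuotientGroup.mk'_surjective M),
        ← Subgroup.map_commutator]
      exact ⟨s, hS hs, rfl⟩
    obtain ⟨w, hw, hwe⟩ := h1
    have hwM : w⁻¹ * s ∈ M := QuotientGroup.eq.1 hwe
    have hwN : w ∈ N := Subgroup.commutator_le_self N hw
    have hsN : s ∈ N := Subgroup.le_normalizer hs
    set q := Abelianization.of (G := N)
    have e1 : q ⟨s, hsN⟩ = q ⟨w, hwN⟩ * q ⟨w⁻¹ * s, mul_mem (inv_mem hwN) hsN⟩ := by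
      rw [← map_mul]; congr 1; exact Subtype.ext (by simp)
    have e2 : q ⟨w, hwN⟩ = 1 := by
      rw [← MonoidHom.mem_ker, Abelianization.ker_of, ← Subgroup.mem_map_iff_mem N.subtype_injective,
        Subgroup.map_subtype_commutator]
      exact hw
    rw [e2, one_mul] at e1
    have h4 : orderOf (q ⟨s, hsN⟩) = 1 := by
      refine Nat.eq_one_of_dvd_coprimes (hcop _ S.isPGroup').symm ?_ ?_
      · exact (orderOf_map_dvd q _).trans (by rw [Subgroup.orderOf_mk]; exact Subgroup.orderOf_dvd_natCard _ hs)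
      · rw [e1]; exact (orderOf_map_dvd q _).trans (by rw [Subgroup.orderOf_mk]; exact Subgroup.orderOf_dvd_natCard _ hwM)
    rw [orderOf_eq_one_iff, ← MonoidHom.mem_ker, Abelianization.ker_of,
      ← Subgroup.mem_map_iff_mem N.subtype_injective, Subgroup.map_subtype_commutator] at h4
    exact h4
  · obtain ⟨m, hm, hg⟩ := hfr x
    refine ⟨m * x, hg, x⁻¹ * m⁻¹ * x, Subgroup.mem_centralizer_iff.2 fun y hy => ?_, by group⟩
    have hxy : x * y * x⁻¹ ∈ (S : Subgroup G) := hxY ⟨y, hy, rfl⟩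
    have hgy : m * (x * y * x⁻¹) * m⁻¹ ∈ (S : Subgroup G) := by
      have := (Subgroup.mem_normalizer_iff.1 hg y).1 (hY hy)
      simpa [mul_assoc] using this
    have hc : Commute m (x * y * x⁻¹) := hfix m hm _ hxy hgy
    have hc' := hc.inv_left
    calc y * (x⁻¹ * m⁻¹ * x) = x⁻¹ * ((x * y * x⁻¹) * m⁻¹) * x := by group
      _ = x⁻¹ * (m⁻¹ * (x * y * x⁻¹)) * x := by rw [hc'.eq]
      _ = x⁻¹ * m⁻¹ * x * y := by group
  · obtain ⟨m, hm, hms⟩ := hconj Q hQ
    refine ⟨m, Subgroup.mem_centralizer_iff.2 fun y hy => (hfix m hm y hy.2 (hms y hy.1)).symm, ?_⟩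
    rintro _ ⟨q, hq, rfl⟩
    exact hms q hq

end Cfsg.Agent.S1461
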