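import Cfsg.Statements.S1429
import Cfsg.Agent.Lib.OddLocal.TauTwoNormal

set_option autoImplicit false
open Cfsg

namespace Cfsg.Agent.S1429

theorem result {G : Type*} [Group G] [Finite G] (hG : Cfsg.IsMinSimpleOddOrder G)
    (M : Subgroup G) (hM : IsCoatom M) (hP1 : ¬ (∀ q : ℕ, q.Prime → q ∣ Nat.card M → q ∉ Cfsg.sigma M → q ∈ Cfsg.kappa M))
    (p : ℕ) [Fact p.Prime] (hpM : p ∣ Nat.card M) (hp : p ∉ Cfsg.sigma M ∪ Cfsg.kappa M) (S : Sylow p M) :
    Nat.card ↥(Subgroup.closure {x : G | x ∈ (S : Subgroup M).map M.subtype ∧ x ^ p = 1}) ≤ p ^ 2 ∧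
      Cfsg.sigmaCore M ⊓ Subgroup.centralizer ((Subgroup.closure {x : G | x ∈ (S : Subgroup M).map M.subtype ∧ x ^ p = 1} : Subgroup G) : Set G) = ⊥ ∧
      Group.IsNilpotent (Cfsg.sigmaCore M) := by
  have hpr : p.Prime := Fact.out
  have hσ : p ∉ Cfsg.sigma M := fun h => hp (Or.inl h)
  have hκ : p ∉ Cfsg.kappa M := fun h => hp (Or.inr h)
  have hS' := Cfsg.Agent.Fusion.sylIn_map M S
  set P := (S : Subgroup M).map M.subtype with hPdef
  by_cases hc : IsCyclic ↥P
  · have hpS : p ∣ Nat.card ↥P := by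
      rw [hPdef, Subgroup.card_map_of_injective M.subtype_injective]
      exact S.dvd_card_of_dvd_card hpM
    obtain ⟨⟨x, hxP⟩, hxo⟩ := exists_prime_orderOf_dvd_card' p hpS
    rw [Subgroup.orderOf_mk] at hxo
    have hxc : Nat.card (Subgroup.zpowers x) = p := by rw [Nat.card_zpowers, hxo]
    have hA : Subgroup.closure {y : G | y ∈ P ∧ y ^ p = 1} = Subgroup.zpowers x := by
      refine le_antisymm ((Subgroup.closure_le _).2 ?_)
        (Subgroup.zpowers_le.2 (Subgroup.subset_closure ⟨hxP, by rw [← hxo]; exact pow_orderOf_eq_one x⟩))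
      rintro y ⟨hy, hyp⟩
      by_cases hy1 : y = 1
      · rw [hy1]; exact one_mem _
      rw [SetLike.mem_coe, ← Cfsg.Agent.OddLocal.Sig.cyclic_eq hc (Subgroup.zpowers_le.2 hy)
        (Subgroup.zpowers_le.2 hxP)
        (by rw [Nat.card_zpowers]; exact orderOf_eq_prime hyp hy1) hxc]
      exact Subgroup.mem_zpowers y
    have hxM : x ∈ M := Subgroup.map_subtype_le _ hxP
    have hfix : Cfsg.sigmaCore M ⊓ Subgroup.centralizer ({x} : Set G) = ⊥ := by
      have h : ¬ ∀ Q : Sylow p M, IsCyclic Q ∧ ∃ z : M, z ∈ (Q : Subgroup M) ∧ z ≠ 1 ∧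
          ∃ y ∈ Cfsg.sigmaCore M, y ≠ 1 ∧ (z : G) * y = y * z := fun h => hκ ⟨hpr, hpM, hσ, h⟩
      obtain ⟨Q, hQ⟩ := not_forall.1 h
      obtain ⟨g, hg⟩ := MulAction.exists_smul_eq M S Q
      have hQc : IsCyclic ↥(Q : Subgroup M) := by
        haveI := hc
        haveI : IsCyclic ↥(S : Subgroup M) := isCyclic_of_injective
          (M.subtype.subgroupMap (S : Subgroup M)) (fun a b hab => by
            have h' := congrArg Subtype.val hab
            simp only [MonoidHom.subgroupMap_apply_coe] at h'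
            exact Subtype.ext (M.subtype_injective h'))
        exact isCyclic_of_surjective (S.equiv Q).toMonoidHom (S.equiv Q).surjective
      refine (Subgroup.eq_bot_iff_forall _).2 fun y hy => ?_
      by_contra hy1
      refine hQ ⟨hQc, g * ⟨x, hxM⟩ * g⁻¹, ?_, ?_, (g : G) * y * (g : G)⁻¹, ?_, ?_, ?_⟩
      · rw [← hg, Sylow.smul_def]
        show g * ⟨x, hxM⟩ * g⁻¹ ∈ (S : Subgroup M).map (MulAut.conj g).toMonoidHom
        refine Subgroup.mem_map.2 ⟨⟨x, hxM⟩, ?_, by simp⟩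
        obtain ⟨z, hz, hzx⟩ := hxP
        have : z = ⟨x, hxM⟩ := Subtype.ext hzx
        exact this ▸ hz
      · intro h0
        rw [conj_eq_one_iff] at h0
        exact hpr.ne_one (hxo ▸ (by rw [show x = 1 from congrArg Subtype.val h0, orderOf_one]))
      · exact (Subgroup.mem_normalizer_iff.1 (Cfsg.Agent.OddLocal.Sig.le_normalizer_piCoreOf g.2) y).1 hy.1
      · rwa [Ne, conj_eq_one_iff]
      · have h' := Subgroup.mem_centralizer_singleton_iff.1 hy.2
        push_cast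
        calc (g : G) * x * (g : G)⁻¹ * ((g : G) * y * (g : G)⁻¹) = g * (x * y) * (g : G)⁻¹ := by group
          _ = g * (y * x) * (g : G)⁻¹ := by rw [h']
          _ = _ := by group
    rw [hA]
    refine ⟨by rw [hxc]; exact Nat.le_self_pow two_ne_zero p, ?_, ?_⟩
    · rwa [Cfsg.Agent.OddLocal.Sig.centralizer_zpowers]
    · exact Cfsg.Agent.Solv.fpf_nilpotent _ x hpr (by rw [← hxo]; exact pow_orderOf_eq_one x)
        (Cfsg.Agent.OddLocal.Sig.le_normalizer_piCoreOf hxM) hfix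
  · have hp2 : p ≠ 2 := Cfsg.Agent.OddLocal.Uniq.ne_two hG hS'.isPGroup fun h => hc (by rw [h]; infer_instance)
    obtain ⟨B, hBP, hBe, hBc⟩ := Cfsg.Agent.OddLocal.TauTwo.exists_elab_sq hp2 hS'.isPGroup hc
    have s : Cfsg.Agent.OddLocal.TauTwo.Setup p M B := ⟨hG, hM, hσ, hBP.trans hS'.le, hBe, hBc⟩
    have hA : Subgroup.closure {y : G | y ∈ P ∧ y ^ p = 1} = B :=
      le_antisymm ((Subgroup.closure_le _).2 fun y hy =>
          (Cfsg.Agent.OddLocal.TauTwo.omega_iff s hS' hBP y hy.1).1 hy.2)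
        fun b hb => Subgroup.subset_closure ⟨hBP hb, hBe.2 b hb⟩
    rw [hA]
    exact ⟨hBc.le, Cfsg.Agent.OddLocal.TauTwo.sigmaCore_inf_centralizer s,
      Cfsg.Agent.OddLocal.TauTwo.sigmaCore_nilpotent s⟩

end Cfsg.Agent.S1429
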