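import Cfsg.Statements.S1225
import Cfsg.Agent.Lib.Fusion.StronglyEmbeddedPairs

set_option autoImplicit false
open Cfsg
open Cfsg.Agent.Fusion
open scoped commutatorElement

namespace Cfsg.Agent.S1225

/-- Let H be a strongly embedded subgroup of the finite group G, u an involution outside H and D = H ∩ uHu⁻¹. Then any two involutions of H are conjugate by an element of D, and any two involutions of G are conjugate in G. -/
theorem result {G : Type*} [Group G] [Finite G] (H : Subgroup G) (hH : Cfsg.IsStronglyEmbedded H) (u : G) (hu : orderOf u = 2) (huH : u ∉ H) (s t : G) (hs : orderOf s = 2) (hsH : s ∈ H) (ht : orderOf t = 2) (htH : t ∈ H) : (∃ d ∈ (H ⊓ H.map (MulAut.conj u).toMonoidHom), d * s * d⁻¹ = t) ∧ ∀ a b : G, orderOf a = 2 → orderOf b = 2 → IsConj a b := by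
  refine ⟨?_, fun a b ha hb => SEPairs.involutions_conj hH ha hb⟩
  have hyx : (QuotientGroup.mk u : G ⧸ H) ≠ QuotientGroup.mk 1 := fun e => huH (by
    rw [QuotientGroup.eq, mul_one] at e
    exact inv_inv u ▸ H.inv_mem e)
  have hfix : ∀ {v : G}, v ∈ H → v • (QuotientGroup.mk 1 : G ⧸ H) = QuotientGroup.mk 1 := fun hv =>
    SEPairs.smul_mk_eq_iff.2 (by simpa using hv)
  obtain ⟨d, hd1, hd2, hd⟩ := SEPairs.pair_transitive hH hyx hs (hfix hsH) ht (hfix htH)
  rw [SEPairs.smul_mk_eq_iff] at hd1 hd2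
  exact ⟨d, ⟨by simpa using hd1, u⁻¹ * d * u, hd2, by
    show u * (u⁻¹ * d * u) * u⁻¹ = d
    group⟩, hd⟩

end Cfsg.Agent.S1225
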