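import Cfsg.Statements.S0736
import Mathlib.Data.Nat.Choose.Factorization
import Mathlib.Data.Fintype.Powerset
import Mathlib.Algebra.IsPrimePow
import Mathlib.GroupTheory.GroupAction.Basic

set_option autoImplicit false
open Cfsg

namespace Cfsg.Agent.S0736

open scoped Pointwise

/-- A `k`-homogeneous permutation group of degree `n`, `k ≥ 2`, with `k + q - 1 ≤ n` for every prime power `q` dividing `k`, is `(k-1)`-homogeneous. -/
theorem result {α : Type*} [Fintype α] [DecidableEq α] (G : Subgroup (Equiv.Perm α)) {k : ℕ} (hk : 2 ≤ k) (hG : MulAction.IsPretransitive G (Set.powersetCard α k)) (hq : ∀ q : ℕ, IsPrimePow q → q ∣ k → k + q - 1 ≤ Fintype.card α) : MulAction.IsPretransitive G (Set.powersetCard α (k - 1)) := by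
  classical
  have hkn : k ≤ Fintype.card α := by
    obtain ⟨p, hp, hpk⟩ := Nat.exists_prime_and_dvd (show k ≠ 1 by omega)
    have := hq p hp.isPrimePow hpk
    have := hp.two_le
    omega
  refine ⟨fun A B => ?_⟩
  let O : Finset (Finset α) := (Finset.univ.powersetCard (k - 1)).filter fun X =>
    ∃ g : G, g • (A : Finset α) = X
  let cnt : Finset α → ℕ := fun U => (O.filter fun X => X ⊆ U).card
  have hOinv : ∀ (g : G) X, X ∈ O → g • X ∈ O := by
    intro g X hX
    obtain ⟨hc, u, hu⟩ := Finset.mem_filter.1 hX
    rw [Finset.mem_powersetCard] at hc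
    refine Finset.mem_filter.2 ⟨Finset.mem_powersetCard.2
      ⟨Finset.subset_univ _, by rw [Finset.card_smul_finset]; exact hc.2⟩, g * u, ?_⟩
    rw [mul_smul, hu]
  have hcnt : ∀ (g : G) (U : Finset α), cnt (g • U) = cnt U := by
    intro g U
    refine Finset.card_bij' (fun X _ => g⁻¹ • X) (fun X _ => g • X) ?_ ?_
      (fun X _ => smul_inv_smul g X) (fun X _ => inv_smul_smul g X)
    · intro X hX
      obtain ⟨h1, h2⟩ := Finset.mem_filter.1 hX
      refine Finset.mem_filter.2 ⟨hOinv g⁻¹ X h1, ?_⟩
      have := Finset.smul_finset_subset_smul_finset (a := g⁻¹) h2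
      rwa [inv_smul_smul] at this
    · intro X hX
      obtain ⟨h1, h2⟩ := Finset.mem_filter.1 hX
      exact Finset.mem_filter.2 ⟨hOinv g X h1, Finset.smul_finset_subset_smul_finset h2⟩
  obtain ⟨U₀, hA₀, -, hU₀⟩ := Finset.exists_subsuperset_card_eq (s := (A : Finset α))
    (t := Finset.univ) (n := k) (Finset.subset_univ _)
    (by rw [show (A : Finset α).card = k - 1 from A.2]; omega) (by rw [Finset.card_univ]; exact hkn)
  set lam := cnt U₀
  have hall : ∀ U : Finset α, U.card = k → cnt U = lam := by
    intro U hU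
    obtain ⟨g, hg⟩ := hG.exists_smul_eq (⟨U₀, hU₀⟩ : Set.powersetCard α k) ⟨U, hU⟩
    rw [show U = g • U₀ from (congrArg Subtype.val hg).symm]
    exact hcnt g U₀
  have hpos : 0 < lam := Finset.card_pos.2 ⟨(A : Finset α), Finset.mem_filter.2
    ⟨Finset.mem_filter.2 ⟨Finset.mem_powersetCard.2 ⟨Finset.subset_univ _, A.2⟩, 1, one_smul _ _⟩,
      hA₀⟩⟩
  have hle : lam ≤ k := by
    refine (Finset.card_le_card (t := U₀.powersetCard (k - 1)) fun X hX => ?_).trans ?_
    · obtain ⟨h1, h2⟩ := Finset.mem_filter.1 hX
      exact Finset.mem_powersetCard.2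
        ⟨h2, (Finset.mem_powersetCard.1 (Finset.mem_filter.1 h1).1).2⟩
    · rw [Finset.card_powersetCard, hU₀, ← Nat.choose_symm (show k - 1 ≤ k by omega),
        show k - (k - 1) = 1 by omega, Nat.choose_one_right]
  have hdvd : k ∣ lam := by
    rw [← Nat.factorization_le_iff_dvd (by omega) hpos.ne']
    intro p
    by_cases hp : p.Prime
    swap
    · rw [Nat.factorization_eq_zero_of_not_prime _ hp]; exact Nat.zero_le _
    set a := k.factorization p
    rcases Nat.eq_zero_or_pos a with ha | ha
    · rw [ha]; exact Nat.zero_le _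
    set q := p ^ a
    have hqk : q ∣ k := Nat.ordProj_dvd k p
    have hq1 := hq q ⟨p, a, Nat.prime_iff.1 hp, ha, rfl⟩ hqk
    have hq0 : 0 < q := pow_pos hp.pos a
    obtain ⟨W, -, hW⟩ := Finset.exists_subset_card_eq (s := (Finset.univ : Finset α))
      (n := k + q - 1) (by rw [Finset.card_univ]; exact hq1)
    have h1 : (Nat.choose (q - 1 + k) k) * lam = q * (O.filter fun X => X ⊆ W).card := by
      have e1 : ∑ U ∈ W.powersetCard k, cnt U = Nat.choose (q - 1 + k) k * lam := by
        rw [Finset.sum_congr rfl fun U hU => hall U (Finset.mem_powersetCard.1 hU).2,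
          Finset.sum_const, smul_eq_mul, Finset.card_powersetCard, hW,
          show k + q - 1 = q - 1 + k by omega]
      have e2 : ∀ X ∈ O.filter (fun X => X ⊆ W),
          ((W.powersetCard k).filter fun U => X ⊆ U).card = q := by
        intro X hX
        obtain ⟨hXO, hXW⟩ := Finset.mem_filter.1 hX
        have hXc := (Finset.mem_powersetCard.1 (Finset.mem_filter.1 hXO).1).2
        have : (W.powersetCard k).filter (fun U => X ⊆ U) = (W \ X).image fun z => insert z X := by
          ext U
          simp only [Finset.mem_filter, Finset.mem_powersetCard, Finset.mem_image, Finset.mem_sdiff]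
          constructor
          · rintro ⟨⟨hUW, hUc⟩, hXU⟩
            obtain ⟨z, hz⟩ := Finset.card_eq_one.1 (show (U \ X).card = 1 by
              rw [Finset.card_sdiff_of_subset hXU]; omega)
            have hz' : z ∈ U \ X := hz ▸ Finset.mem_singleton_self z
            rw [Finset.mem_sdiff] at hz'
            exact ⟨z, ⟨hUW hz'.1, hz'.2⟩, Finset.eq_of_subset_of_card_le
              (Finset.insert_subset hz'.1 hXU)
              (by rw [Finset.card_insert_of_notMem hz'.2]; omega)⟩
          · rintro ⟨z, ⟨hz1, hz2⟩, rfl⟩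
            exact ⟨⟨Finset.insert_subset hz1 hXW,
              by rw [Finset.card_insert_of_notMem hz2]; omega⟩, Finset.subset_insert _ _⟩
        rw [this, Finset.card_image_of_injOn, Finset.card_sdiff_of_subset hXW, hW, hXc]
        · omega
        · intro y hy z hz hyz
          simp only [Finset.coe_sdiff, Set.mem_sdiff, Finset.mem_coe] at hy hz
          have hyz' : insert y X = insert z X := hyz
          have : y ∈ insert z X := hyz' ▸ Finset.mem_insert_self y X
          exact (Finset.mem_insert.1 this).resolve_right hy.2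
      rw [← e1, mul_comm, ← smul_eq_mul, ← Finset.sum_const, ← Finset.sum_congr rfl e2]
      simp only [Finset.card_filter, cnt]
      rw [Finset.sum_comm, Finset.sum_filter (p := fun X : Finset α => X ⊆ W)]
      refine Finset.sum_congr rfl fun X hX => ?_
      split_ifs with hXW
      · rfl
      · refine Finset.sum_eq_zero fun U hU => if_neg fun hXU => hXW ?_
        exact hXU.trans (Finset.mem_powersetCard.1 hU).1
    have h2 : (Nat.choose (q - 1 + k) k).factorization p = 0 := by
      rw [Nat.factorization_choose' hp (Nat.lt_add_one _), Finset.card_eq_zero,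
        Finset.filter_eq_empty_iff]
      intro i hi
      rw [not_le]
      have hpi : 0 < p ^ i := pow_pos hp.pos i
      rcases Nat.lt_or_ge a i with hai | hai
      · have hqi : q ∣ p ^ i := pow_dvd_pow p hai.le
        have hqlt : q < p ^ i := Nat.pow_lt_pow_right hp.one_lt hai
        obtain ⟨c, hc⟩ := (Nat.dvd_mod_iff hqi).2 hqk
        obtain ⟨d, hd⟩ := hqi
        have hlt := Nat.mod_lt k hpi
        rw [Nat.mod_eq_of_lt (show q - 1 < p ^ i by omega), hc]
        rw [hc, hd] at hlt
        have hcd : c + 1 ≤ d := Nat.lt_of_mul_lt_mul_left hlt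
        have := Nat.mul_le_mul_left q hcd
        rw [Nat.mul_succ, ← hd] at this
        omega
      · rw [Nat.mod_eq_zero_of_dvd ((pow_dvd_pow p hai).trans hqk), zero_add]
        exact Nat.mod_lt _ hpi
    have h3 := congrArg (fun z => z.factorization p) h1
    by_cases hz : (O.filter fun X => X ⊆ W).card = 0
    · rw [hz, mul_zero] at h1
      rcases Nat.mul_eq_zero.1 h1 with h | h
      · exact absurd h (Nat.choose_pos (by omega)).ne'
      · omega
    simp only [Nat.factorization_mul (Nat.choose_pos (show k ≤ q - 1 + k by omega)).ne' hpos.ne',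
      Nat.factorization_mul hq0.ne' hz, Finsupp.add_apply, h2] at h3
    rw [hp.factorization_pow, Finsupp.single_eq_same, zero_add] at h3
    omega
  have heq : lam = k := le_antisymm hle (Nat.le_of_dvd hpos hdvd)
  obtain ⟨U, hBU, -, hU⟩ := Finset.exists_subsuperset_card_eq (s := (B : Finset α))
    (t := Finset.univ) (n := k) (Finset.subset_univ _)
    (by rw [show (B : Finset α).card = k - 1 from B.2]; omega) (by rw [Finset.card_univ]; exact hkn)
  have hfull : O.filter (fun X => X ⊆ U) = U.powersetCard (k - 1) := by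
    refine Finset.eq_of_subset_of_card_le (fun X hX => ?_) ?_
    · obtain ⟨h1, h2⟩ := Finset.mem_filter.1 hX
      exact Finset.mem_powersetCard.2
        ⟨h2, (Finset.mem_powersetCard.1 (Finset.mem_filter.1 h1).1).2⟩
    · rw [Finset.card_powersetCard, hU, ← Nat.choose_symm (show k - 1 ≤ k by omega),
        show k - (k - 1) = 1 by omega, Nat.choose_one_right, ← heq, ← hall U hU]
  have hB : (B : Finset α) ∈ O.filter (fun X => X ⊆ U) :=
    hfull ▸ Finset.mem_powersetCard.2 ⟨hBU, B.2⟩
  obtain ⟨g, hg⟩ := (Finset.mem_filter.1 (Finset.mem_filter.1 hB).1).2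
  exact ⟨g, Subtype.ext hg⟩

end Cfsg.Agent.S0736
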