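import Cfsg.Statements.S4221
import Cfsg.Agent.Lib.Perm.HallFourPerm
-- import your own Cfsg.Agent.* helpers here

set_option autoImplicit false
open Cfsg

namespace Cfsg.Agent.S4221

open Cfsg.Agent.Perm.HallFour Cfsg.Agent.Perm.HallFourPerm

/-- Let `G` be a `4`-fold transitive permutation group on a finite set of `n` points in which the pointwise stabilizer of some four distinct points has odd order. Then `n = 4` or `n = 5` with `G` the full symmetric group, or `n = 6` or `n = 7` with `G` the alternating group, or `n = 11` and `G` has order `7920`. -/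
theorem result {α : Type*} [Fintype α] [DecidableEq α] (G : Subgroup (Equiv.Perm α)) (hG : MulAction.IsMultiplyPretransitive G α 4) (x : Fin 4 ↪ α) (hodd : Odd (Nat.card (MulAction.stabilizer G x))) : ((Fintype.card α = 4 ∨ Fintype.card α = 5) ∧ G = ⊤) ∨ ((Fintype.card α = 6 ∨ Fintype.card α = 7) ∧ G = alternatingGroup α) ∨ (Fintype.card α = 11 ∧ Nat.card G = 7920) := by
  have H := h4_of_perm hG x hodd
  have hc := card_eq hG x
  set k := Nat.card (MulAction.stabilizer G x) with hk
  have hidx := G.card_mul_index
  rw [Nat.card_perm, Nat.card_eq_fintype_card (α := α)] at hidx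
  have h4 : 4 ≤ Nat.card α := by
    rw [Nat.card_eq_fintype_card, ← Fintype.card_fin 4]
    exact Fintype.card_le_of_embedding x
  have hd := degree H h4
  rw [Nat.card_eq_fintype_card] at hd
  obtain ⟨j, hj⟩ := hodd
  rw [hc] at hidx
  rcases hd with e | e | e | e | e <;> rw [e] at hc hidx <;>
    norm_num [Nat.descFactorial, Nat.factorial] at hc hidx
  · refine Or.inl ⟨Or.inl e, ?_⟩
    refine Subgroup.index_eq_one.1 ?_
    have : k * G.index = 1 := by nlinarith
    exact Nat.eq_one_of_mul_eq_one_left this
  · refine Or.inl ⟨Or.inr e, ?_⟩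
    refine Subgroup.index_eq_one.1 ?_
    have : k * G.index = 1 := by nlinarith
    exact Nat.eq_one_of_mul_eq_one_left this
  · refine Or.inr (Or.inl ⟨Or.inl e, ?_⟩)
    refine Equiv.Perm.eq_alternatingGroup_of_index_eq_two ?_
    have h2 : k * G.index = 2 := by nlinarith
    have hk1 : k = 1 := by
      have : k ∣ 2 := ⟨_, h2.symm⟩
      have := Nat.le_of_dvd two_pos this
      omega
    rwa [hk1, one_mul] at h2
  · refine Or.inr (Or.inl ⟨Or.inr e, ?_⟩)
    refine Equiv.Perm.eq_alternatingGroup_of_index_eq_two ?_
    have h2 : k * G.index = 6 := by nlinarith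
    have hk6 : k ∣ 6 := ⟨_, h2.symm⟩
    have hle := Nat.le_of_dvd (by norm_num) hk6
    have hne := index_ne_six (G := G) e
    interval_cases k <;> omega
  · refine Or.inr (Or.inr ⟨e, ?_⟩)
    have hk1 : k = 1 := by
      rw [hk, Subgroup.card_eq_one, Subgroup.eq_bot_iff_forall]
      intro g hg
      have hx : ∀ i, g • x i = x i := fun i => DFunLike.congr_fun (hg : g • x = x) i
      exact stab_eleven H (by rw [Nat.card_eq_fintype_card, e])
        (nodup4 (x.injective.ne (by decide)) (x.injective.ne (by decide))
          (x.injective.ne (by decide)) (x.injective.ne (by decide)) (x.injective.ne (by decide))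
          (x.injective.ne (by decide))) (hx 0) (hx 1) (hx 2) (hx 3)
    rw [hc, hk1]

end Cfsg.Agent.S4221
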