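import Cfsg.Statements.S4365
import Mathlib

set_option autoImplicit false
set_option linter.style.haveILetI false
open Cfsg

namespace Cfsg.Agent.S4365

variable {P : Type*} [Group P]

theorem mem_cen {x y : P} : y ∈ Subgroup.centralizer ({x} : Set P) ↔ x * y = y * x :=
  Subgroup.mem_centralizer_iff.trans ⟨fun h => h x rfl, fun h z hz => by rw [Set.mem_singleton_iff.1 hz]; exact h⟩

/-- The commutator with an element of the second centre, as a homomorphism. -/
def delta (g : P) (hg : ∀ y : P, g * y * g⁻¹ * y⁻¹ ∈ Subgroup.center P) : P →* P :=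
  MonoidHom.mk' (fun y => g * y * g⁻¹ * y⁻¹) fun x y => by
    have h := Subgroup.mem_center_iff.1 (hg y) x
    calc g * (x * y) * g⁻¹ * (x * y)⁻¹ = g * x * g⁻¹ * (g * y * g⁻¹ * y⁻¹) * x⁻¹ := by group
      _ = g * x * g⁻¹ * x⁻¹ * (x * (g * y * g⁻¹ * y⁻¹)) * x⁻¹ := by group
      _ = g * x * g⁻¹ * x⁻¹ * ((g * y * g⁻¹ * y⁻¹) * x) * x⁻¹ := by rw [h]
      _ = g * x * g⁻¹ * x⁻¹ * (g * y * g⁻¹ * y⁻¹) := by group

/-- Let P be a finite p-group whose conjugacy class sizes are exactly 1 and pᵃ for some a ≥ 1. Then every element of P has its p-th power in the center of P (P/Z(P) has exponent p). -/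
theorem result {P : Type*} [Group P] [Finite P] (p : ℕ) [Fact p.Prime]
    (hP : IsPGroup p P) (a : ℕ) (ha : 1 ≤ a)
    (hcs : {k : ℕ | ∃ x : P, (Subgroup.centralizer ({x} : Set P)).index = k} = {1, p ^ a}) (x : P) :
    x ^ p ∈ Subgroup.center P := by
  classical
  by_contra hx
  set Z := Subgroup.center P with hZdef
  have hp1 : 1 < p := (Fact.out : p.Prime).one_lt
  have hidx : ∀ y : P, y ∉ Z → (Subgroup.centralizer ({y} : Set P)).index = p ^ a := by
    intro y hy
    have hm : (Subgroup.centralizer ({y} : Set P)).index ∈ ({1, p ^ a} : Set ℕ) := hcs ▸ ⟨y, rfl⟩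
    rcases hm with h | h
    · refine (hy (Subgroup.mem_center_iff.2 fun z => ?_)).elim
      rw [Subgroup.index_eq_one] at h
      exact (mem_cen.1 (h ▸ Subgroup.mem_top z)).symm
    · exact h
  have heq : ∀ y w : P, y ∉ Z → w ∉ Z → Subgroup.centralizer ({y} : Set P) ≤ Subgroup.centralizer ({w} : Set P) →
      Subgroup.centralizer ({y} : Set P) = Subgroup.centralizer ({w} : Set P) := fun y w hy hw hle =>
    le_antisymm hle (Subgroup.relIndex_eq_one.1 (by
      have h1 := Subgroup.relIndex_mul_index hle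
      rw [hidx y hy, hidx w hw] at h1
      exact Nat.eq_of_mul_eq_mul_right (pow_pos (by omega) a) (h1.trans (one_mul _).symm)))
  have hZpow : ∀ y : P, y ∈ Z → ∀ k : ℕ, y ^ k ∈ Z := fun y hy k => pow_mem hy k
  have hcp : ∀ y : P, y ^ p ∉ Z → Subgroup.centralizer ({y} : Set P) = Subgroup.centralizer ({y ^ p} : Set P) :=
    fun y hy => heq _ _ (fun h => hy (hZpow y h p)) hy fun z hz =>
      mem_cen.2 (((show Commute y z from mem_cen.1 hz).pow_left p).eq)
  -- (2)
  have h2 : ∀ y w : P, y ^ p ∉ Z → w ^ p ∈ Z → y * w = w * y → ∀ c ∈ Subgroup.centralizer ({y} : Set P), w * c = c * w := by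
    intro y w hy hw hyw c hc
    have he : (y * w) ^ p = y ^ p * w ^ p := (show Commute y w from hyw).mul_pow p
    have hn : (y * w) ^ p ∉ Z := fun h => hy (by
      rw [he] at h
      simpa using mul_mem h (inv_mem hw))
    have hc2 : c ∈ Subgroup.centralizer ({y * w} : Set P) := by
      rw [hcp _ hn, mem_cen, he]
      have hc' : y ^ p * c = c * y ^ p := ((show Commute y c from mem_cen.1 hc).pow_left p).eq
      rw [mul_assoc, ← Subgroup.mem_center_iff.1 hw c, ← mul_assoc, hc', mul_assoc]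
    have h := mem_cen.1 hc2
    rw [← mul_assoc, ← mem_cen.1 hc, mul_assoc, mul_assoc] at h
    exact mul_left_cancel h
  -- g in the second centre
  haveI hnt : Nontrivial (P ⧸ Z) := ⟨⟨(x ^ p : P), 1, fun h => hx ((QuotientGroup.eq_one_iff _).1 h)⟩⟩
  haveI := (hP.to_quotient Z).center_nontrivial
  obtain ⟨⟨q, hq⟩, hq1⟩ := exists_ne (1 : Subgroup.center (P ⧸ Z))
  obtain ⟨k, hk⟩ := IsPGroup.iff_orderOf.1 (hP.to_quotient Z) q
  have hk0 : k ≠ 0 := by
    rintro rfl
    rw [pow_zero, orderOf_eq_one_iff] at hk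
    exact hq1 (Subtype.ext hk)
  obtain ⟨g, hg⟩ := QuotientGroup.mk_surjective (q ^ p ^ (k - 1))
  have hgc : (g : P ⧸ Z) ∈ Subgroup.center (P ⧸ Z) := hg ▸ pow_mem hq _
  have hgZ : g ∉ Z := fun h => by
    have h1 : q ^ p ^ (k - 1) = 1 := hg ▸ (QuotientGroup.eq_one_iff _).2 h
    have h2' := orderOf_dvd_of_pow_eq_one h1
    rw [hk, Nat.pow_dvd_pow_iff_le_right hp1] at h2'
    omega
  have hgp : g ^ p ∈ Z := by
    refine (QuotientGroup.eq_one_iff _).1 ?_
    rw [QuotientGroup.mk_pow, hg, ← pow_mul, ← pow_succ, show k - 1 + 1 = k by omega, ← hk, pow_orderOf_eq_one]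
  have hg2 : ∀ y : P, g * y * g⁻¹ * y⁻¹ ∈ Z := fun y => by
    refine (QuotientGroup.eq_one_iff _).1 ?_
    rw [QuotientGroup.mk_mul, QuotientGroup.mk_mul, QuotientGroup.mk_mul, ← Subgroup.mem_center_iff.1 hgc (y : P ⧸ Z)]
    simp [mul_assoc]
  let δ := delta g hg2
  have hδp : ∀ y : P, (δ y) ^ p = 1 := by
    intro y
    have hn : ∀ n : ℕ, g ^ n * y * (g ^ n)⁻¹ = (δ y) ^ n * y := by
      intro n
      induction n with
      | zero => simp
      | succ n ih =>
        have hc : g * (δ y) ^ n = (δ y) ^ n * g := Subgroup.mem_center_iff.1 (pow_mem (hg2 y) n) g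
        calc g ^ (n + 1) * y * (g ^ (n + 1))⁻¹ = g * (g ^ n * y * (g ^ n)⁻¹) * g⁻¹ := by rw [pow_succ']; group
          _ = g * ((δ y) ^ n * y) * g⁻¹ := by rw [ih]
          _ = g * (δ y) ^ n * y * g⁻¹ := by group
          _ = (δ y) ^ n * g * y * g⁻¹ := by rw [hc]
          _ = (δ y) ^ n * (g * y * g⁻¹ * y⁻¹) * y := by group
          _ = (δ y) ^ (n + 1) * y := by rw [pow_succ]; rfl
    have h := hn p
    rw [← Subgroup.mem_center_iff.1 hgp y, mul_inv_cancel_right] at h
    exact mul_right_cancel (h.symm.trans (one_mul y).symm)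
  set A := Subgroup.centralizer ({g} : Set P) with hA
  have hAmem : ∀ y : P, y ∈ A ↔ δ y = 1 := fun y => by
    rw [mem_cen]
    show _ ↔ g * y * g⁻¹ * y⁻¹ = 1
    rw [mul_inv_eq_one, mul_inv_eq_iff_eq_mul]
  have hAker : A = δ.ker := Subgroup.ext fun y => (hAmem y).trans MonoidHom.mem_ker.symm
  haveI hAn : A.Normal := hAker ▸ inferInstance
  have hpA : ∀ y : P, y ^ p ∈ A := fun y => (hAmem _).2 (by rw [map_pow, hδp])
  have huniq : ∀ y : P, y ^ p ∉ Z → Subgroup.centralizer ({y} : Set P) = A := by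
    intro y hy
    have hgy : y * g = g * y := by
      have h : g ∈ Subgroup.centralizer ({y ^ p} : Set P) := mem_cen.2 (mem_cen.1 (hpA y)).symm
      rw [← hcp y hy] at h
      exact mem_cen.1 h
    exact heq y g (fun h => hy (hZpow y h p)) hgZ fun c hc => mem_cen.2 (h2 y g hy hgp hgy c hc)
  have hxA := huniq x hx
  have hab : ∀ w ∈ A, ∀ c ∈ A, w * c = c * w := by
    intro w hw c hc
    by_cases hwp : w ^ p ∈ Z
    · exact h2 x w hx hwp (mem_cen.1 (hxA ▸ hw)) c (hxA ▸ hc)
    · exact mem_cen.1 ((huniq w hwp) ▸ hc)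
  have hxin : x ∈ A := hxA ▸ mem_cen.2 rfl
  have hout : ∀ y : P, y ∉ A → y ^ p ∈ Z := fun y hy => by
    by_contra h
    exact hy ((huniq y h) ▸ mem_cen.2 rfl)
  have hCA : ∀ y : P, y ∉ A → ∀ c ∈ A, y * c = c * y → c ∈ Z := by
    intro y hy c hc hyc
    by_contra hcZ
    have hle : A ≤ Subgroup.centralizer ({c} : Set P) := fun d hd => mem_cen.2 (hab c hc d hd)
    have := heq g c hgZ hcZ hle
    exact hy (by rw [hA, this]; exact mem_cen.2 hyc.symm)
  -- rank two modulo A
  have hAtop : A ≠ ⊤ := fun h => hgZ (Subgroup.mem_center_iff.2 fun z => (mem_cen.1 (h ▸ Subgroup.mem_top z : z ∈ A)).symm)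
  obtain ⟨u, hu⟩ : ∃ u, u ∉ A := by
    by_contra h; push Not at h; exact hAtop ((Subgroup.eq_top_iff' A).2 h)
  obtain ⟨v, hv⟩ : ∃ v : P, ∀ j : ℕ, u ^ j * v ∉ A := by
    by_contra h
    push Not at h
    have hZA : Z ≤ A := fun z hz => mem_cen.2 (Subgroup.mem_center_iff.1 hz g)
    have hindA : A.index = p ^ a := hidx g hgZ
    set Cu := Subgroup.centralizer ({u} : Set P) with hCu
    have huZ : u ∉ Z := fun h' => hu (hZA h')
    -- C(u) ∩ A = Z
    have hinf : Cu ⊓ A = Z := le_antisymm (fun c hc => hCA u hu c hc.2 (mem_cen.1 hc.1))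
      (le_inf (fun z hz => mem_cen.2 (Subgroup.mem_center_iff.1 hz u)) hZA)
    have h1 := Subgroup.relIndex_mul_index (inf_le_left : Cu ⊓ A ≤ Cu)
    have h2' := Subgroup.relIndex_mul_index (inf_le_right : Cu ⊓ A ≤ A)
    rw [Subgroup.inf_relIndex_left, hidx u huZ] at h1
    rw [Subgroup.inf_relIndex_right, hindA] at h2'
    have hsame : A.relIndex Cu = Cu.relIndex A := Nat.eq_of_mul_eq_mul_right (pow_pos (by omega) a) (h1.trans h2'.symm)
    have hZu : Z.relIndex A = Cu.relIndex A := by rw [← hinf, Subgroup.inf_relIndex_right]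
    -- P/A is generated by u
    have hsmall : A.index ≤ p := by
      rw [Subgroup.index_eq_card, show p = Nat.card (Fin p) by simp]
      refine Nat.card_le_card_of_surjective (fun j : Fin p => ((u ^ (j : ℕ) : P) : P ⧸ A)) fun q => ?_
      obtain ⟨w, rfl⟩ := QuotientGroup.mk_surjective q
      obtain ⟨j, hj⟩ := h w⁻¹
      refine ⟨⟨j % p, Nat.mod_lt _ (by omega)⟩, ?_⟩
      rw [QuotientGroup.eq]
      have e : u ^ (p * (j / p)) ∈ A := by rw [pow_mul]; exact pow_mem (hpA u) _
      have hj' : (u ^ (j % p))⁻¹ * u ^ j ∈ A := by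
        have : (u ^ (j % p))⁻¹ * u ^ j = u ^ (p * (j / p)) := by
          conv_lhs => arg 2; rw [← Nat.mod_add_div j p, pow_add]
          rw [inv_mul_cancel_left]
        rwa [this]
      have hc := hAn.conj_mem _ (inv_mem hj) (u ^ j)⁻¹
      simpa [mul_assoc] using mul_mem hj' hc
    have hdvd : A.relIndex Cu ∣ p ^ a := hindA ▸ Subgroup.relIndex_dvd_index_of_normal A Cu
    have hle : Z.relIndex A ≤ p := by
      rw [hZu, ← hsame]
      exact le_trans (Nat.le_of_dvd (pow_pos (by omega) a) hdvd) (hindA ▸ hsmall)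
    -- so every element of A has central p-th power
    apply hx
    obtain ⟨b, hb⟩ := (hP.to_subgroup A).index (Z.subgroupOf A)
    have hb1 : b ≤ 1 := by
      have : p ^ b ≤ p ^ 1 := by rw [pow_one, ← hb]; exact hle
      exact (Nat.pow_le_pow_iff_right hp1).1 this
    haveI : (Z.subgroupOf A).Normal := inferInstance
    have h3 := Subgroup.pow_index_mem (Z.subgroupOf A) ⟨x, hxin⟩
    rw [hb] at h3
    have h4 : x ^ p ^ b ∈ Z := by simpa [Subgroup.mem_subgroupOf] using h3
    interval_cases b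
    · rw [pow_zero, pow_one] at h4; exact hZpow x h4 p
    · rwa [pow_one] at h4
  letI : CommGroup A := { (inferInstance : Group A) with mul_comm := fun s t => Subtype.ext (hab s s.2 t t.2) }
  let φ : P →* MulAut A := MulAut.conjNormal
  let ZA : Subgroup A := Z.subgroupOf A
  have hφA : ∀ y ∈ A, φ y = 1 := fun y hy => MulEquiv.ext fun c => Subtype.ext (by
    show ((φ y c : A) : P) = c
    rw [MulAut.conjNormal_apply, hab y hy c c.2, mul_inv_cancel_right])
  have hNy : ∀ y : P, y ∉ A → ∀ c : A, (∏ i ∈ Finset.range p, φ (y ^ i) c) ∈ ZA := by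
    intro y hy c
    have hn : ∀ n : ℕ, ((c : P) * y) ^ n = ((∏ i ∈ Finset.range n, φ (y ^ i) c : A) : P) * y ^ n := by
      intro n
      induction n with
      | zero => simp
      | succ n ih =>
        rw [pow_succ, ih, Finset.prod_range_succ, Subgroup.coe_mul, MulAut.conjNormal_apply, pow_succ]
        group
    have hcy : (c : P) * y ∉ A := fun h => hy ((Subgroup.mul_mem_cancel_left A c.2).1 h)
    have := mul_mem (hout _ hcy) (inv_mem (hout y hy))
    rw [hn, mul_inv_cancel_right] at this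
    exact this
  have hfix : ∀ (y : P) (c : A), c ∈ ZA → φ y c = c := fun y c hc => Subtype.ext (by
    rw [MulAut.conjNormal_apply, show y * (c : P) = c * y from Subgroup.mem_center_iff.1 hc y, mul_inv_cancel_right])
  have hcomm : Commute (φ u) (φ v) := by
    have hm : u * v * (v * u)⁻¹ ∈ A := (hAmem _).2 (by
      rw [map_mul, map_inv, map_mul, map_mul,
        show δ u * δ v = δ v * δ u from (Subgroup.mem_center_iff.1 (hg2 u) (δ v)).symm, mul_inv_cancel])
    have := hφA _ hm
    rw [map_mul, map_inv, mul_inv_eq_one, map_mul, map_mul] at this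
    exact this
  have hup : φ u ^ p = 1 := by rw [← map_pow, hφA _ (hpA u)]
  set X : A := ⟨x, hxin⟩ with hX
  let T : ℕ → ℕ → A := fun k i => (φ u ^ k * φ v ^ i) X
  have hTmod : ∀ k i, T (k % p) i = T k i := fun k i => by
    show (φ u ^ (k % p) * φ v ^ i) X = (φ u ^ k * φ v ^ i) X
    rw [← pow_eq_pow_mod k hup]
  have hj : ∀ j : ℕ, (∏ i ∈ Finset.range p, T (j * i) i) ∈ ZA := fun j => by
    have := hNy (u ^ j * v) (hv j) X
    have e : ∀ i, φ ((u ^ j * v) ^ i) = φ u ^ (j * i) * φ v ^ i := fun i => by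
      rw [map_pow, map_mul, map_pow, (hcomm.pow_left j).mul_pow, ← pow_mul]
    simpa only [e] using this
  have hu' : (∏ k ∈ Finset.range p, T k 0) ∈ ZA := by
    have := hNy u hu X
    simpa only [map_pow, T, pow_zero, mul_one] using this
  have hall : (∏ i ∈ Finset.range p, ∏ k ∈ Finset.range p, T k i) ∈ ZA := by
    have e : ∀ i, (∏ k ∈ Finset.range p, T k i) = φ (v ^ i) (∏ k ∈ Finset.range p, T k 0) := fun i => by
      rw [map_prod]
      refine Finset.prod_congr rfl fun k _ => ?_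
      show (φ u ^ k * φ v ^ i) X = φ (v ^ i) ((φ u ^ k * φ v ^ 0) X)
      rw [map_pow, pow_zero, mul_one, (hcomm.pow_pow k i).eq, MulAut.mul_apply]
    rw [Finset.prod_congr rfl fun i _ => (e i).trans (hfix _ _ hu'), Finset.prod_const]
    exact pow_mem hu' _
  have hprod : (∏ j ∈ Finset.range p, ∏ i ∈ Finset.range p, T (j * i) i) ∈ ZA := prod_mem fun j _ => hj j
  rw [Finset.prod_comm] at hprod
  obtain ⟨p', hp'⟩ : ∃ p', p = p' + 1 := ⟨p - 1, by omega⟩
  have hperm : ∀ i ∈ Finset.range p, i ≠ 0 → (∏ j ∈ Finset.range p, T (j * i) i) = ∏ k ∈ Finset.range p, T k i := by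
    intro i hi hi0
    have hcop : Nat.Coprime p i := (Fact.out : p.Prime).coprime_iff_not_dvd.2 fun hd =>
      absurd (Nat.le_of_dvd (Nat.pos_of_ne_zero hi0) hd) (not_le.2 (Finset.mem_range.1 hi))
    have hinj : Set.InjOn (fun j => j * i % p) (Finset.range p : Set ℕ) := by
      intro j hj j' hj' h
      have := Nat.ModEq.cancel_right_of_coprime hcop h
      exact Nat.ModEq.eq_of_lt_of_lt this (Finset.mem_range.1 hj) (Finset.mem_range.1 hj')
    have himg : (Finset.range p).image (fun j => j * i % p) = Finset.range p := by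
      refine Finset.eq_of_subset_of_card_le (Finset.image_subset_iff.2 fun j _ => Finset.mem_range.2 (Nat.mod_lt _ (by omega))) ?_
      rw [Finset.card_image_of_injOn hinj]
    conv_rhs => rw [← himg, Finset.prod_image hinj]
    simp only [hTmod]
  rw [hp', Finset.prod_range_succ'] at hprod hall
  rw [show (∏ i ∈ Finset.range p', ∏ j ∈ Finset.range (p' + 1), T (j * (i + 1)) (i + 1)) =
      ∏ i ∈ Finset.range p', ∏ k ∈ Finset.range (p' + 1), T k (i + 1) from Finset.prod_congr rfl fun i hi => by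
    have := hperm (i + 1) (Finset.mem_range.2 (by have := Finset.mem_range.1 hi; omega)) (Nat.succ_ne_zero i)
    rwa [hp'] at this] at hprod
  rw [← hp'] at hprod hall
  have hR : (∏ i ∈ Finset.range p', ∏ k ∈ Finset.range p, T k (i + 1)) ∈ ZA :=
    (Subgroup.mul_mem_cancel_right ZA hu').1 hall
  have hlast := (Subgroup.mul_mem_cancel_left ZA hR).1 hprod
  simp only [mul_zero, T, pow_zero, mul_one, MulAut.one_apply, Finset.prod_const, Finset.card_range] at hlast
  exact hx hlast

end Cfsg.Agent.S4365
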