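import Cfsg.Statements.S4481
import Cfsg.Agent.Lib.Char.DihedralPrincipal
import Cfsg.Agent.Lib.Char.DihedralHom

set_option autoImplicit false
open Cfsg
open scoped ComplexConjugate

namespace Cfsg.Agent.S4481

/-- The principal 2-block of a group with dihedral Sylow 2-subgroups. Let G be a finite group whose Sylow 2-subgroup P is dihedral of order 2^n ≥ 8, let σ be an element of P of order 2^(n−1), ζ a primitive 2^(n−1)-th root of unity, and M a maximal ideal of the algebraic integers containing 2. Then the principal 2-block consists of exactly 3 + 2^(n−2) irreducible characters, which can be labelled 1, χ₁, χ₂, χ₃ and χ^(j) for 1 ≤ j ≤ 2^(n−2) − 1 (all distinct), with signs δ₁, δ₂, δ₃ such that for 0 < λ < 2^(n−1): χ₁(σ^λ) = δ₁, χ₂(σ^λ) = δ₂(−1)^(λ+1), χ₃(σ^λ) = δ₃(−1)^(λ+1) and χ^(j)(σ^λ) = δ₁(ζ^(jλ) + ζ^(−jλ)); and for every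 element ρ of odd order and every j: 1 + δ₁χ₁(ρ) = −δ₂χ₂(ρ) − δ₃χ₃(ρ) = δ₁χ^(j)(ρ). -/
theorem result {G : Type*} [Group G] [Finite G] (M : Ideal Cfsg.AlgInt) (hM : Cfsg.IsPModular 2 M) (n : ℕ) (hn : 3 ≤ n) (P : Sylow 2 G) (hP : Nonempty ((P : Subgroup G) ≃* DihedralGroup (2 ^ (n - 1)))) (σ : G) (hσ : σ ∈ (P : Subgroup G)) (hσo : orderOf σ = 2 ^ (n - 1)) (ζ : ℂ) (hζ : IsPrimitiveRoot ζ (2 ^ (n - 1))) : Nat.card (Cfsg.principalBlock M G) = 3 + 2 ^ (n - 2) ∧ ∃ (χ₁ χ₂ χ₃ : Cfsg.IrrCharacter G) (χ' : Fin (2 ^ (n - 2) - 1) → Cfsg.IrrCharacter G) (δ₁ δ₂ δ₃ : ℤ), (δ₁ = 1 ∨ δ₁ = -1) ∧ (δ₂ = 1 ∨ δ₂ = -1) ∧ (δ₃ = 1 ∨ δ₃ = -1) ∧ Function.Injective χ' ∧ (χ₁ : G → ℂ) ≠ (fun _ => 1) ∧ (χ₂ : G → ℂ) ≠ (fun _ => 1) ∧ (χ₃ : G → ℂ) ≠ (fun _ => 1) ∧ χ₁ ≠ χ₂ ∧ χ₁ ≠ χ₃ ∧ χ₂ ≠ χ₃ ∧ (∀ j, χ' j ≠ χ₁ ∧ χ' j ≠ χ₂ ∧ χ' j ≠ χ₃ ∧ (χ' j : G → ℂ) ≠ (fun _ => 1))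 ∧ Cfsg.principalBlock M G = {χ : Cfsg.IrrCharacter G | (χ : G → ℂ) = (fun _ => 1) ∨ χ = χ₁ ∨ χ = χ₂ ∨ χ = χ₃ ∨ ∃ j, χ = χ' j} ∧ (∀ l : ℕ, 0 < l → l < 2 ^ (n - 1) → (χ₁ : G → ℂ) (σ ^ l) = δ₁ ∧ (χ₂ : G → ℂ) (σ ^ l) = δ₂ * (-1) ^ (l + 1) ∧ (χ₃ : G → ℂ) (σ ^ l) = δ₃ * (-1) ^ (l + 1) ∧ ∀ j : Fin (2 ^ (n - 2) - 1), (χ' j : G → ℂ) (σ ^ l) = δ₁ * (ζ ^ (((j : ℕ) + 1) * l) + (ζ ^ (((j : ℕ) + 1) * l))⁻¹)) ∧ ∀ ρ : G, Odd (orderOf ρ) → ∀ j : Fin (2 ^ (n - 2) - 1), 1 + δ₁ * (χ₁ : G → ℂ) ρ = -δ₂ * (χ₂ : G → ℂ) ρ - δ₃ * (χ₃ : G → ℂ) ρ ∧ 1 + δ₁ * (χ₁ : G → ℂ) ρ = δ₁ * (χ' j : G → ℂ) ρ := by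
  classical
  letI : Fintype G := Fintype.ofFinite G
  obtain ⟨e⟩ := hP
  obtain ⟨k, rfl⟩ : ∃ k, n = k + 3 := ⟨n - 3, by omega⟩
  set N := 2 ^ (k + 3 - 1) with hN
  haveI : NeZero N := ⟨by positivity⟩
  have h4 : 4 ∣ N := ⟨2 ^ k, by rw [hN, show k + 3 - 1 = k + 2 by omega, pow_add]; ring⟩
  have hN3 : 2 < N := lt_of_lt_of_le (by norm_num) (Nat.le_of_dvd (NeZero.pos N) h4)
  obtain ⟨u, hu⟩ : ∃ u, e ⟨σ, hσ⟩ = DihedralGroup.r u := by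
    cases he : e ⟨σ, hσ⟩ with
    | r u => exact ⟨u, rfl⟩
    | sr u =>
      exfalso
      have h2 : orderOf (e ⟨σ, hσ⟩) = 2 := by rw [he, DihedralGroup.orderOf_sr]
      rw [MulEquiv.orderOf_eq, Subgroup.orderOf_mk, hσo] at h2
      omega
  set τ : G := ((e.symm (DihedralGroup.sr 0) : (P : Subgroup G)) : G) with hτ
  have hσ1 : σ ^ N = 1 := by rw [← hσo, pow_orderOf_eq_one]
  have hττ : τ * τ = 1 := by
    rw [hτ, ← Subgroup.coe_mul, ← map_mul, DihedralGroup.sr_mul_self, map_one, Subgroup.coe_one]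
  have hrel : τ * σ * τ⁻¹ = σ⁻¹ := by
    have h1 : e.symm (DihedralGroup.sr 0) * ⟨σ, hσ⟩ * (e.symm (DihedralGroup.sr 0))⁻¹ = (⟨σ, hσ⟩ : (P : Subgroup G))⁻¹ := by
      apply e.injective
      rw [map_mul, map_mul, map_inv, map_inv, hu, e.apply_symm_apply, DihedralGroup.inv_r,
        DihedralGroup.inv_sr, DihedralGroup.sr_mul_r, DihedralGroup.sr_mul_sr, zero_add, zero_sub]
    exact congrArg Subtype.val h1
  set ι := Cfsg.Agent.Char.dihHom hσ1 hττ hrel with hι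
  have hinj : Function.Injective ι := Cfsg.Agent.Char.dihHom_injective h4 hσo hσ1 hττ hrel
  have hrange : ι.range = (P : Subgroup G) := by
    refine Subgroup.eq_of_le_of_card_ge
      (Cfsg.Agent.Char.dihHom_range_le hσ1 hττ hrel hσ (SetLike.coe_mem _)) ?_
    rw [← Nat.card_congr (MonoidHom.ofInjective hinj).toEquiv, Nat.card_congr e.toEquiv]
  have hD : Cfsg.Agent.Char.DihSyl P ι := ⟨h4, ⟨_, rfl⟩, hinj, hrange⟩
  have hH : N = 2 * 2 ^ (k + 3 - 2) := by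
    rw [hN, show k + 3 - 1 = (k + 3 - 2) + 1 by omega, pow_succ]; ring
  obtain ⟨χ₁, χ₂, χ₃, χ', δ₁, δ₂, δ₃, h1, h2, h3, hinj', hn1, hn2, hn3, h12, h13, h23, hne', hmem,
    hvals, hreg⟩ := hD.principal_block hM hζ (2 ^ (k + 3 - 2)) hH
  have hfun : ∀ χ : IrrCharacter G, (χ : G → ℂ) = (fun _ => 1) ↔ χ = Cfsg.Agent.Char.irrOne :=
    fun χ => ⟨fun h => Subtype.ext h, fun h => h ▸ rfl⟩
  have hset : Cfsg.principalBlock M G = {χ : Cfsg.IrrCharacter G | (χ : G → ℂ) = (fun _ => 1) ∨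
      χ = χ₁ ∨ χ = χ₂ ∨ χ = χ₃ ∨ ∃ j, χ = χ' j} := by
    ext χ
    rw [Set.mem_ofPred_eq, hfun, hmem]
  refine ⟨?_, χ₁, χ₂, χ₃, χ', δ₁, δ₂, δ₃, h1, h2, h3, hinj', fun h => hn1 ((hfun _).1 h),
    fun h => hn2 ((hfun _).1 h), fun h => hn3 ((hfun _).1 h), h12, h13, h23,
    fun j => ⟨(hne' j).1, (hne' j).2.1, (hne' j).2.2.1, fun h => (hne' j).2.2.2 ((hfun _).1 h)⟩,
    hset, fun l hl hlN => ?_, fun ρ hρ j => hreg ρ (fun h => (Nat.not_even_iff_odd.2 hρ) (even_iff_two_dvd.2 h)) j⟩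
  · have hfin : (Cfsg.principalBlock M G).toFinset =
        insert Cfsg.Agent.Char.irrOne (insert χ₁ (insert χ₂ (insert χ₃ (Finset.univ.image χ')))) := by
      ext χ
      simp [hmem χ, eq_comm]
    rw [Nat.card_coe_set_eq, Set.ncard_eq_toFinset_card', hfin,
      Finset.card_insert_of_notMem (by simp [hn1.symm, hn2.symm, hn3.symm, fun j => (hne' j).2.2.2]),
      Finset.card_insert_of_notMem (by simp [h12, h13, fun j => (hne' j).1]),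
      Finset.card_insert_of_notMem (by simp [h23, fun j => (hne' j).2.1]),
      Finset.card_insert_of_notMem (by simp [fun j => (hne' j).2.2.1]),
      Finset.card_image_of_injective _ hinj', Finset.card_univ, Fintype.card_fin]
    have : 0 < 2 ^ (k + 3 - 2) := by positivity
    omega
  · have := hvals l hl hlN
    rw [show ι (DihedralGroup.r (l : ZMod N)) = σ ^ l from Cfsg.Agent.Char.dihHom_r hσ1 hττ hrel l] at this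
    exact this

end Cfsg.Agent.S4481
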