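import Cfsg.Statements.S4480
import Cfsg.Agent.Lib.Char.FourOrder
import Cfsg.Agent.Lib.Char.Congr

set_option autoImplicit false
open Cfsg
open scoped ComplexConjugate

namespace Cfsg.Agent.S4480

/-- Same setting as the Klein-four order formula: G of order 4·g₀ (g₀ odd) with no normal 2-complement, P a Sylow 2-subgroup, J an involution of P, M over 2, principal 2-block {1, χ₁, χ₂, χ₃} with χ_i(J) = ε_i = ±1. Suppose ε₁ε₂ε₃ = −1 and ε₃ = −1, and put q = x₃ = χ₃(1). Then there is a natural number m with 4·c(J) = m·c(P)·(q + 1), and the order of G equals (m³·c(P)/4)·(q³ − q)/2, that is 8·#G = m³·c(P)·(q³ − q). -/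
theorem result {G : Type*} [Group G] [Finite G] (M : Ideal Cfsg.AlgInt) (hM : Cfsg.IsPModular 2 M) (g₀ : ℕ) (hg₀ : Odd g₀) (hG : Nat.card G = 4 * g₀) (hnc : ¬ ∃ N : Subgroup G, N.Normal ∧ Nat.card N = g₀) (P : Sylow 2 G) (J : G) (hJ : J ∈ (P : Subgroup G)) (hJ2 : orderOf J = 2) (χ₁ χ₂ χ₃ : Cfsg.IrrCharacter G) (ε₁ ε₂ ε₃ : ℤ) (hB : Cfsg.principalBlock M G = {χ : Cfsg.IrrCharacter G | (χ : G → ℂ) = (fun _ => 1) ∨ χ = χ₁ ∨ χ = χ₂ ∨ χ = χ₃}) (hdist : (χ₁ : G → ℂ) ≠ (fun _ => 1) ∧ (χ₂ : G → ℂ) ≠ (fun _ => 1) ∧ (χ₃ : G → ℂ) ≠ (fun _ => 1) ∧ χ₁ ≠ χ₂ ∧ χ₁ ≠ χ₃ ∧ χ₂ ≠ χ₃) (hε : (ε₁ = 1 ∨ ε₁ = -1) ∧ (ε₂ = 1 ∨ ε₂ = -1) ∧ (ε₃ = 1 ∨ ε₃ = -1)) (hval : (χ₁ : G → ℂ) J = ε₁ ∧ (χ₂ : G → ℂ) J = ε₂ ∧ (χ₃ : G → ℂ) J = ε₃) (hprod : ε₁ * ε₂ * ε₃ = -1) (hε₃ : ε₃ = -1) : ∃ m : ℕ, 4 * Nat.card (Subgroup.centralizer ({J} : Set G)) = m * Nat.card (Subgroup.centralizer ((P : Subgroup G) : Set G)) * (Cfsg.charDegree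 (χ₃ : G → ℂ) + 1) ∧ 8 * Nat.card G = m ^ 3 * Nat.card (Subgroup.centralizer ((P : Subgroup G) : Set G)) * (Cfsg.charDegree (χ₃ : G → ℂ) ^ 3 - Cfsg.charDegree (χ₃ : G → ℂ)) := by
  classical
  have := Fintype.ofFinite G
  have hPr := Char.pmod_prime hM
  obtain ⟨hP, hexp, hone⟩ := Char.four_sylow_setup hg₀ hG hnc P
  obtain ⟨hdeg, hcount, hind⟩ := Char.four_equations hM P hP hexp hone hJ hJ2 hB hdist hε hval
  subst hε₃
  have hpos : ∀ χ : Cfsg.IrrCharacter G, 0 < Cfsg.charDegree (χ : G → ℂ) := fun χ => by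
    rw [Char.charDegree_eq_deg]; exact Char.deg_pos χ.2
  have hp1 := hpos χ₁
  have hp2 := hpos χ₂
  have hp3 := hpos χ₃
  have h12 : ε₁ = 1 ∧ ε₂ = 1 := by
    rcases hε.1 with a | a <;> rcases hε.2.1 with b | b <;> subst a <;> subst b <;>
      first | exact ⟨rfl, rfl⟩ | (exfalso; omega)
  obtain ⟨rfl, rfl⟩ := h12
  -- odd degrees
  have hodd : ∀ χ : Cfsg.IrrCharacter G, χ = χ₁ ∨ χ = χ₂ ∨ χ = χ₃ → Odd (Cfsg.charDegree (χ : G → ℂ)) := by
    intro χ hχ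
    obtain ⟨e, he, hv⟩ : ∃ e : ℤ, (e = 1 ∨ e = -1) ∧ (χ : G → ℂ) J = e := by
      rcases hχ with rfl | rfl | rfl
      exacts [⟨_, hε.1, hval.1⟩, ⟨_, hε.2.1, hval.2.1⟩, ⟨_, hε.2.2, hval.2.2⟩]
    have h := Char.char_congr_deg hM (Char.irr_isCharacter χ.2) (g := J) ⟨1, by rw [hJ2, pow_one]⟩
    rw [hv, Char.char_one_eq_deg (Char.irr_isCharacter χ.2), show ((e : ℂ) - (Char.deg (χ : G → ℂ) : ℂ)) =
      ((e - (Char.deg (χ : G → ℂ) : ℤ) : ℤ) : ℂ) by push_cast; ring] at h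
    have h2 : (2 : ℤ) ∣ e - (Char.deg (χ : G → ℂ) : ℤ) := (Char.memLI_intCast_iff hM _).mp h
    rw [Char.charDegree_eq_deg, Nat.odd_iff]
    rcases he with rfl | rfl <;> omega
  -- indicators
  let one : Cfsg.IrrCharacter G := ⟨fun _ => 1, Char.isIrrCharacter_one⟩
  have hreal : ∀ χ : Cfsg.IrrCharacter G, χ = χ₁ ∨ χ = χ₂ ∨ χ = χ₃ →
      (Char.indicator2 (χ : G → ℂ) = 1 ∧ Char.irrConj χ = χ) ∨
      (Char.indicator2 (χ : G → ℂ) = 0 ∧ Char.irrConj χ ≠ χ) := by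
    intro χ hχ
    by_cases hr : ∀ g, ((χ : G → ℂ) g).im = 0
    · refine Or.inl ⟨Char.indicator_odd_deg χ.2 hr _ ?_ (hodd χ hχ), (Char.irrConj_eq_iff χ).mpr hr⟩
      rw [Char.char_one_eq_deg (Char.irr_isCharacter χ.2), Char.charDegree_eq_deg]
    · exact Or.inr ⟨(Char.indicator_trichotomy χ.2).2.mpr (not_forall.mp hr),
        fun h => hr ((Char.irrConj_eq_iff χ).mp h)⟩
  have hclosed : ∀ χ ∈ Cfsg.principalBlock M G, Char.irrConj χ ∈ Cfsg.principalBlock M G := by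
    intro χ hχ
    have h := Char.sameBlock_irrConj (show Cfsg.SameBlock M (one : G → ℂ) (χ : G → ℂ) from hχ)
    have e : (Char.irrConj one : G → ℂ) = fun _ => 1 := funext fun g => by
      rw [Char.irrConj_apply]; exact map_one _
    rw [e] at h
    exact h
  have h12 : Cfsg.charDegree (χ₁ : G → ℂ) = Cfsg.charDegree (χ₂ : G → ℂ) := by
    rcases hreal χ₁ (Or.inl rfl) with ⟨i1, c1⟩ | ⟨i1, c1⟩ <;>
      rcases hreal χ₂ (Or.inr (Or.inl rfl)) with ⟨i2, c2⟩ | ⟨i2, c2⟩ <;>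
        rcases hreal χ₃ (Or.inr (Or.inr rfl)) with ⟨i3, c3⟩ | ⟨i3, c3⟩ <;>
          rw [i1, i2, i3] at hind <;> first | (norm_num at hind; done) | skip
    have h1 : Char.irrConj χ₁ ∈ Cfsg.principalBlock M G := hclosed χ₁ (by rw [hB]; simp)
    rw [hB] at h1
    rcases h1 with h | h | h | h
    · exfalso
      refine hdist.1 (funext fun g => ?_)
      have := congrArg (starRingEnd ℂ) (congrFun h g)
      simpa [Char.irrConj_apply] using this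
    · exact absurd h c1
    · rw [← h, Char.charDegree_eq_deg, Char.charDegree_eq_deg]
      have : ((Char.deg (χ₁ : G → ℂ) : ℕ) : ℂ) = (Char.deg (Char.irrConj χ₁ : G → ℂ) : ℂ) := by
        rw [← Char.char_one_eq_deg (Char.irr_isCharacter (Char.irrConj χ₁).2), Char.irrConj_apply,
          Char.char_one_eq_deg (Char.irr_isCharacter χ₁.2), Complex.conj_natCast]
      exact_mod_cast this
    · exact absurd ((Char.irrConj_irrConj χ₁).symm.trans ((congrArg Char.irrConj h).trans c3)) hdist.2.2.2.2.1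
  set d := Cfsg.charDegree (χ₁ : G → ℂ) with hd
  rw [← h12] at hdeg hcount
  have hd3 : Cfsg.charDegree (χ₃ : G → ℂ) = 2 * d + 1 := by omega
  rw [hd3] at hcount ⊢
  obtain ⟨r, hr⟩ : ∃ r, d + 1 = 2 * r := by
    obtain ⟨i, hi⟩ := hodd χ₁ (Or.inl rfl)
    exact ⟨i + 1, by omega⟩
  -- orders
  have hPcard : Nat.card (P : Subgroup G) = 4 := hP
  have hPCP : (P : Subgroup G) ≤ Subgroup.centralizer ((P : Subgroup G) : Set G) := fun a ha =>
    Subgroup.mem_centralizer_iff.mpr fun b hb => Char.comm_of_exp_two hexp b hb a ha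
  obtain ⟨c, hc⟩ := hPcard ▸ Subgroup.card_dvd_of_le hPCP
  obtain ⟨x, hx⟩ := Subgroup.card_dvd_of_le
    (Subgroup.centralizer_le (Set.singleton_subset_iff.mpr hJ) :
      Subgroup.centralizer ((P : Subgroup G) : Set G) ≤ Subgroup.centralizer ({J} : Set G))
  obtain ⟨k, hk⟩ := (Subgroup.centralizer ({J} : Set G)).card_subgroup_dvd_card
  rw [hk, hx, hc] at hcount ⊢
  have hc0 : c ≠ 0 := fun h => by rw [h, mul_zero] at hc; exact Nat.card_pos.ne' hc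
  have hx0 : x ≠ 0 := fun h => by rw [h, mul_zero] at hx; exact Nat.card_pos.ne' hx
  push_cast at hcount
  have hdq : (d : ℚ) ≠ 0 := Nat.cast_ne_zero.mpr (by omega)
  have hdq' : (2 * d + 1 : ℚ) ≠ 0 := by positivity
  have hr' : (d : ℚ) + 1 = 2 * r := by exact_mod_cast hr
  have key : k * r ^ 2 = x ^ 2 * (d * (2 * d + 1)) := by
    have hq : (k : ℚ) * (r : ℚ) ^ 2 = (x : ℚ) ^ 2 * (d * (2 * d + 1)) := by
      have hne : (512 : ℚ) * (x : ℚ) * (c : ℚ) ^ 3 ≠ 0 := by positivity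
      field_simp at hcount
      refine mul_left_cancel₀ (by norm_num : (8 : ℚ) ≠ 0) ?_
      linear_combination hcount + (-2 * (k : ℚ)) * ((d : ℚ) + 1 + 2 * r) * hr'
    exact_mod_cast hq
  have hcop : Nat.Coprime (r ^ 2) (d * (2 * d + 1)) := by
    refine Nat.Coprime.pow_left 2 (Nat.Coprime.mul_right ?_ ?_)
    · have h : Nat.Coprime (2 * r) d := by rw [← hr]; simp
      exact h.coprime_mul_left
    · have e : 2 * d + 1 + 1 = 4 * r := by omega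
      have h : Nat.Coprime (4 * r) (2 * d + 1) := by rw [← e]; simp
      exact h.coprime_mul_left
  obtain ⟨m, hm⟩ : r ∣ x :=
    (Nat.pow_dvd_pow_iff two_ne_zero).mp (hcop.dvd_of_dvd_mul_right (key ▸ dvd_mul_left _ k))
  have hr0 : r ≠ 0 := by omega
  have hk' : k = m ^ 2 * (d * (2 * d + 1)) := by
    refine Nat.eq_of_mul_eq_mul_right (Nat.pos_of_ne_zero (pow_ne_zero 2 hr0)) ?_
    rw [key, hm]; ring
  refine ⟨m, ?_, ?_⟩
  · rw [hm, show 2 * d + 1 + 1 = 4 * r by omega]; ring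
  · have e : (2 * d + 1) ^ 3 - (2 * d + 1) = 8 * d * r * (2 * d + 1) := by
      refine Nat.sub_eq_of_eq_add ?_
      zify
      have hrz : (d : ℤ) + 1 = 2 * r := by exact_mod_cast hr
      linear_combination (4 * (d : ℤ) * (2 * d + 1)) * hrz
    rw [e, hk', hm]
    ring

end Cfsg.Agent.S4480
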