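import Cfsg.Statements.S2760
import Cfsg.Agent.Lib.LocalEven.PPrime
import Cfsg.Agent.Lib.LocalEven.Kieler
-- import your own Cfsg.Agent.* helpers here

set_option autoImplicit false
open Cfsg

open Cfsg.Agent Cfsg.Agent.Fusion
open scoped commutatorElement

namespace Cfsg.Agent.S2760

/-- Let G be a finite group with C_G(O₂(G)) ≤ O₂(G) and H a subgroup of G such that H is normal in G, or the subgroup O²(H) generated by the elements of H of odd order is normal in G. Then C_H(O₂(H)) ≤ O₂(H). -/
theorem result {G : Type*} [Group G] [Finite G] (hchar : Subgroup.centralizer (Cfsg.pCore 2 G : Set G) ≤ Cfsg.pCore 2 G) (H : Subgroup G) (hH : H.Normal ∨ ((Cfsg.pResidual 2 ↥H).map H.subtype).Normal) : Subgroup.centralizer (Cfsg.pCore 2 ↥H : Set ↥H) ≤ Cfsg.pCore 2 ↥H := by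
  change LocalEven.CharP 2 H
  rcases hH with hH | hH
  · exact LocalEven.charP_normal (LocalEven.charP_top hchar) le_top (hH.subgroupOf _)
  · set R := (Cfsg.pResidual 2 ↥H).map H.subtype with hR
    have hRH : R ≤ H := Subgroup.map_subtype_le _
    have hRc := LocalEven.charP_normal (LocalEven.charP_top hchar) le_top (hH.subgroupOf ⊤ : (R.subgroupOf ⊤).Normal)
    refine LocalEven.charP_of_elements fun x hx hxc hcent => ?_
    have hxR : x ∈ R := ⟨⟨x, hx⟩, Subgroup.subset_closure
      (show Nat.Coprime (orderOf (⟨x, hx⟩ : ↥H)) 2 by rwa [Subgroup.orderOf_mk]), rfl⟩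
    exact LocalEven.eq_one_of_centralizes_core hRc hxR hxc fun y hy =>
      hcent y (LocalEven.pCore_map_le_of_normal hRH (hH.subgroupOf H) hy)

end Cfsg.Agent.S2760
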