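import Cfsg.Statements.S1922
import Cfsg.Agent.Lib.Fusion.StronglyEmbeddedPairs
import Cfsg.Agent.Lib.Fusion.Basic

set_option autoImplicit false
open Cfsg
open Cfsg.Agent.Fusion
open scoped commutatorElement

namespace Cfsg.Agent.S1922

theorem middle_conj {G : Type*} [Group G] [Finite G] {a b : G} (ha : orderOf a = 2) (hb : orderOf b = 2)
    (h : Odd (orderOf (a * b))) :
    ∃ i : G, orderOf i = 2 ∧ i * a * i⁻¹ = b ∧ IsConj a i ∧
      ∀ c, Commute c a → Commute c b → Commute c i := by
  obtain ⟨k, hk⟩ := h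
  set r := b * a with hr
  have hrn : r ^ (2 * k + 1) = 1 := by
    rw [← hk, hr, show b * a = (a * b)⁻¹ by rw [mul_inv_rev, SEPairs.inv_self ha, SEPairs.inv_self hb],
      inv_pow, pow_orderOf_eq_one, inv_one]
  have hflip : ∀ j : ℕ, a * r ^ j * a⁻¹ = (r ^ j)⁻¹ := fun j => by
    rw [← conj_pow, ← inv_pow]
    congr 1
    rw [hr, mul_inv_rev, SEPairs.inv_self ha, SEPairs.inv_self hb]
    calc a * (b * a) * a = a * b * (a * a) := by group
      _ = a * b := by rw [SEPairs.sq_one ha, mul_one]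
  have key : ∀ j : ℕ, r ^ j * a * (r ^ j)⁻¹ = r ^ (2 * j) * a := by
    intro j
    calc r ^ j * a * (r ^ j)⁻¹ = r ^ j * a * (a * r ^ j * a⁻¹) := by rw [hflip]
      _ = r ^ j * (a * a) * r ^ j * a⁻¹ := by group
      _ = _ := by rw [SEPairs.sq_one ha, mul_one, ← pow_add, SEPairs.inv_self ha, two_mul]
  obtain ⟨i, hi, hconj, hc⟩ := SEPairs.exists_middle ha hb ⟨k, hk⟩
  have hi' : r ^ ((k + 1) * (k + 1)) * a * (r ^ ((k + 1) * (k + 1)))⁻¹ = r ^ (k + 1) * a := by
    rw [key, show 2 * ((k + 1) * (k + 1)) = (2 * k + 1) * (k + 1) + (k + 1) by ring, pow_add, pow_mul,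
      hrn, one_pow, one_mul]
  refine ⟨r ^ (k + 1) * a, ?_, ?_, isConj_iff.2 ⟨_, hi'⟩, fun c hca hcb => ?_⟩
  · rw [← hi']; exact SEPairs.conj_involution ha _
  · calc r ^ (k + 1) * a * a * (r ^ (k + 1) * a)⁻¹ = r ^ (k + 1) * a * (r ^ (k + 1))⁻¹ := by group
      _ = r ^ (k + 1) * a * (a * r ^ (k + 1) * a⁻¹) := by rw [hflip]
      _ = r ^ (k + 1) * (a * a) * r ^ (k + 1) * a⁻¹ := by group
      _ = r * a⁻¹ := by
        rw [SEPairs.sq_one ha, mul_one, ← pow_add, show k + 1 + (k + 1) = 2 * k + 1 + 1 by omega, pow_succ,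
          hrn, one_mul]
      _ = b := by rw [hr]; group
  · exact ((hcb.mul_right hca).pow_right _).mul_right hca

theorem even_class {G : Type*} [Group G] [Finite G] {a b : G} (ha : orderOf a = 2) (hb : orderOf b = 2)
    (h : ¬ Odd (orderOf (a * b))) :
    ∃ w : G, orderOf w = 2 ∧ Commute w a ∧ Commute w b ∧ (IsConj a (a * w) ∨ IsConj b (a * w)) := by
  obtain ⟨k, hk⟩ := Nat.not_odd_iff_even.1 h
  have hpos := orderOf_pos (a * b)
  set w := (a * b) ^ k with hw
  have hww : w * w = 1 := by rw [hw, ← pow_add, ← hk, pow_orderOf_eq_one]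
  have hw1 : w ≠ 1 := fun e => by
    have := Nat.le_of_dvd (by omega) (orderOf_dvd_of_pow_eq_one e)
    omega
  have hwi : w⁻¹ = w := inv_eq_of_mul_eq_one_right hww
  have hflip : ∀ j : ℕ, a * (a * b) ^ j * a⁻¹ = ((a * b) ^ j)⁻¹ := fun j => by
    rw [← conj_pow, ← inv_pow, show a * (a * b) * a⁻¹ = (a * a) * b * a⁻¹ by group, SEPairs.sq_one ha,
      one_mul, mul_inv_rev, SEPairs.inv_self hb, SEPairs.inv_self ha]
  have hflipb : b * w * b⁻¹ = w := by
    rw [hw, ← conj_pow, show b * (a * b) * b⁻¹ = b * a by group,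
      show b * a = (a * b)⁻¹ by rw [mul_inv_rev, SEPairs.inv_self ha, SEPairs.inv_self hb], inv_pow]
    exact hwi
  have hwa : Commute w a := (mul_inv_eq_iff_eq_mul.1 ((hflip k).trans hwi)).symm
  refine ⟨w, orderOf_eq_prime (by rw [pow_two]; exact hww) hw1, hwa,
    (mul_inv_eq_iff_eq_mul.1 hflipb).symm, ?_⟩
  obtain ⟨j, rfl | rfl⟩ := Nat.even_or_odd' k
  · refine Or.inl (isConj_iff.2 ⟨((a * b) ^ j)⁻¹, ?_⟩)
    rw [inv_inv, hw, two_mul, pow_add, ← mul_assoc a]
    have := hflip j
    rw [← this]; group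
  · refine Or.inr (isConj_iff.2 ⟨((a * b) ^ j)⁻¹, ?_⟩)
    rw [inv_inv, hw, show 2 * j + 1 = j + 1 + j by omega, pow_add, pow_succ, ← mul_assoc a,
      ← mul_assoc a, ← hflip j]
    calc a * (a * b) ^ j * a⁻¹ * b * (a * b) ^ j
        = a * (a * b) ^ j * a * b * (a * b) ^ j := by rw [SEPairs.inv_self ha]
      _ = _ := by group

/-- Let z be an involution of a finite group G and H a proper subgroup such that z lies in gHg⁻¹ exactly when g ∈ H. Then the following are equivalent: (1) for every conjugate t ≠ z of z commuting with z, the product zt lies in gHg⁻¹ exactly when g ∈ H; (2) z lies in the centre of some Sylow 2-subgroup of G, and for every conjugate t ≠ z of z commuting with z, the centralizer of zt is contained in H. -/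
theorem result {G : Type*} [Group G] [Finite G] (z : G) (hz : orderOf z = 2) (H : Subgroup G) (hH : H ≠ ⊤)
    (h0 : ∀ g : G, z ∈ H.map (MulAut.conj g).toMonoidHom ↔ g ∈ H) :
    (∀ t : G, IsConj z t → t ≠ z → t * z = z * t → ∀ g : G, z * t ∈ H.map (MulAut.conj g).toMonoidHom ↔ g ∈ H) ↔
      ((∃ P : Sylow 2 G, z ∈ (Subgroup.center ↥(P : Subgroup G)).map (P : Subgroup G).subtype) ∧
        ∀ t : G, IsConj z t → t ≠ z → t * z = z * t → Subgroup.centralizer ({z * t} : Set G) ≤ H) := by
  classical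
  haveI : Fact (Nat.Prime 2) := ⟨Nat.prime_two⟩
  set x : G ⧸ H := QuotientGroup.mk 1 with hx
  have hmem : ∀ g v : G, v ∈ H.map (MulAut.conj g).toMonoidHom ↔ v • (QuotientGroup.mk g : G ⧸ H) = QuotientGroup.mk g := by
    intro g v
    rw [SEPairs.smul_mk_eq_iff]
    exact ⟨fun ⟨w, hw, e⟩ => by rw [← e]; simpa [mul_assoc] using hw,
      fun h => ⟨g⁻¹ * v * g, h, by show g * (g⁻¹ * v * g) * g⁻¹ = v; group⟩⟩
  have hmk : ∀ g : G, (QuotientGroup.mk g : G ⧸ H) = x ↔ g ∈ H := fun g => by
    rw [hx, QuotientGroup.eq, mul_one]; exact H.inv_mem_iff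
  have hzx : z • x = x := (hmem 1 z).1 ((h0 1).2 H.one_mem)
  have hzu : ∀ w : G ⧸ H, z • w = w → w = x := by
    intro w hw
    obtain ⟨g, rfl⟩ := QuotientGroup.mk_surjective w
    exact (hmk g).2 ((h0 g).1 ((hmem g z).2 hw))
  have hstab : ∀ g : G, g • x = x → g ∈ H := fun g hg => by
    simpa using SEPairs.smul_mk_eq_iff.1 hg
  have hCz : ∀ c : G, Commute c z → c • x = x := fun c hc => hzu _ (by
    rw [smul_smul, ← hc.eq, ← smul_smul, hzx])
  have hto : ∀ g : G, g • x = (QuotientGroup.mk g : G ⧸ H) := fun g => by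
    rw [hx, MulAction.Quotient.smul_mk, smul_eq_mul, mul_one]
  constructor
  · intro h1
    have hu1 : ∀ t : G, IsConj z t → t ≠ z → t * z = z * t → ∀ w : G ⧸ H, (z * t) • w = w → w = x := by
      intro t a b c w hw
      obtain ⟨g, rfl⟩ := QuotientGroup.mk_surjective w
      exact (hmk g).2 ((h1 t a b c g).1 ((hmem g _).2 hw))
    refine ⟨?_, fun t a b c e he => hstab e (hu1 t a b c _ (by
      have hcom : Commute e (z * t) := Subgroup.mem_centralizer_singleton_iff.1 he
      rw [smul_smul, ← hcom.eq, ← smul_smul]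
      congr 1
      exact (hmem 1 _).1 ((h1 t a b c 1).2 H.one_mem)))⟩
    -- fixed points of conjugates of `z`
    have hfix : ∀ s : G, IsConj z s → ∃ y : G ⧸ H, s • y = y ∧ ∀ w : G ⧸ H, s • w = w → w = y := by
      intro s hs
      obtain ⟨g, rfl⟩ := isConj_iff.1 hs
      refine ⟨g • x, by rw [mul_smul, mul_smul, inv_smul_smul, hzx], fun w hw => ?_⟩
      rw [mul_smul, mul_smul, ← eq_inv_smul_iff] at hw
      rw [← hzu _ hw, smul_inv_smul]
    have hprod : ∀ s t : G, IsConj z s → IsConj z t → t ≠ s → Commute t s →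
        ∀ y w : G ⧸ H, s • y = y → (s * t) • w = w → w = y := by
      intro s t hs ht hts hcomm y w hy hw
      obtain ⟨g, rfl⟩ := isConj_iff.1 hs
      have hcomm' : g⁻¹ * t * g * z = z * (g⁻¹ * t * g) := by
        have h := hcomm.eq
        calc g⁻¹ * t * g * z = g⁻¹ * (t * (g * z * g⁻¹)) * g := by group
          _ = g⁻¹ * (g * z * g⁻¹ * t) * g := by rw [h]
          _ = _ := by group
      have hw' : g⁻¹ • w = x := by
        refine hu1 (g⁻¹ * t * g) (ht.trans (isConj_iff.2 ⟨g⁻¹, by group⟩)) (fun e => hts ?_) hcomm' _ ?_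
        · rw [← e]; group
        · rw [show z * (g⁻¹ * t * g) = g⁻¹ * (g * z * g⁻¹ * t) * g by group, mul_smul, mul_smul,
            smul_inv_smul, hw]
      have hy' : g⁻¹ • y = x := hzu _ (by
        rw [mul_smul, mul_smul, ← eq_inv_smul_iff] at hy
        exact hy)
      exact MulAction.injective g⁻¹ (hw'.trans hy'.symm)
    have hodd : ∀ a b : G, IsConj z a → IsConj z b → ∀ y w : G ⧸ H, a • y = y → b • w = w → y ≠ w →
        Odd (orderOf (a * b)) := by
      intro a b ha hb y w hay hbw hyw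
      by_contra hcon
      obtain ⟨ga, hga⟩ := isConj_iff.1 ha
      obtain ⟨gb, hgb⟩ := isConj_iff.1 hb
      have hao : orderOf a = 2 := hga ▸ SEPairs.conj_involution hz ga
      have hbo : orderOf b = 2 := hgb ▸ SEPairs.conj_involution hz gb
      obtain ⟨v, hv, hva, hvb, hcl⟩ := even_class hao hbo hcon
      have ht : IsConj z (a * v) := hcl.elim (fun h => ha.trans h) (fun h => hb.trans h)
      have hvw : v • w = w := by
        obtain ⟨y₀, -, hu⟩ := hfix b hb
        rw [hu (v • w) (by rw [smul_smul, ← hvb.eq, ← smul_smul, hbw]), ← hu w hbw]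
      refine hyw (hprod a (a * v) ha ht (fun e => ?_) ((Commute.refl a).mul_left hva) y w hay ?_).symm
      · rw [mul_eq_left.1 e, orderOf_one] at hv
        omega
      · rw [← mul_assoc, SEPairs.sq_one hao, one_mul, hvw]
    -- another point
    obtain ⟨g₀, hg₀⟩ : ∃ g₀ : G, g₀ ∉ H := by
      by_contra h; push Not at h; exact hH (top_le_iff.1 fun g _ => h g)
    set y : G ⧸ H := g₀ • x with hy
    have hyx : y ≠ x := fun e => hg₀ (hstab _ e)
    set b := g₀ * z * g₀⁻¹ with hb
    have hbc : IsConj z b := isConj_iff.2 ⟨g₀, rfl⟩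
    have hby : b • y = y := by rw [hb, hy, mul_smul, mul_smul, inv_smul_smul, hzx]
    have hbo : orderOf b = 2 := SEPairs.conj_involution hz _
    set K := {s : G // IsConj z s ∧ s • x = x}
    set J := {i : G // IsConj z i ∧ i • x = y}
    have hord : ∀ s : G, IsConj z s → orderOf s = 2 := fun s hs => by
      obtain ⟨g, rfl⟩ := isConj_iff.1 hs
      exact SEPairs.conj_involution hz g
    have hswap : ∀ i : J, i.1 • y = x := fun i =>
      (congrArg (i.1 • ·) i.2.2.symm).trans
        (by rw [smul_smul, SEPairs.sq_one (hord _ i.2.1), one_smul])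
    have hcommJ : ∀ i j : J, Commute i.1 j.1 → i = j := by
      intro i j hc
      refine Subtype.ext (Classical.by_contradiction fun hne => ?_)
      obtain ⟨w, hw, -⟩ := hfix _ i.2.1
      have h' : (i.1 * j.1) • x = x := by rw [mul_smul, j.2.2, hswap i]
      have h'' : (i.1 * j.1) • y = y := by rw [mul_smul, hswap j, i.2.2]
      exact hyx ((hprod _ _ i.2.1 j.2.1 (Ne.symm hne) hc.symm w y hw h'').trans
        (hprod _ _ i.2.1 j.2.1 (Ne.symm hne) hc.symm w x hw h').symm)
    let f : J → K := fun i => ⟨i.1 * b * i.1⁻¹, hbc.trans (isConj_iff.2 ⟨_, rfl⟩), by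
      have h : (i.1 * b * i.1⁻¹) • (i.1 • y) = i.1 • y := by
        rw [mul_smul, mul_smul, inv_smul_smul, hby]
      rwa [hswap i] at h⟩
    have hf : Function.Bijective f := by
      constructor
      · intro i j e
        have e : i.1 * b * i.1⁻¹ = j.1 * b * j.1⁻¹ := congrArg Subtype.val e
        set a := i.1 * b * i.1⁻¹ with ha
        have hao : orderOf a = 2 := SEPairs.conj_involution hbo _
        have hac : IsConj z a := (f i).2.1
        have hax : a • x = x := (f i).2.2
        obtain ⟨m, hm, hmab, hmz, hmc⟩ := middle_conj hao hbo (hodd a b hac hbc x y hax hby hyx.symm)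
        have hmx : m • x = y := by
          obtain ⟨y₀, -, hu⟩ := hfix b hbc
          rw [hu (m • x) (by rw [← hmab, mul_smul, mul_smul, inv_smul_smul, hax]), ← hu y hby]
        have key : ∀ k : J, k.1 * b * k.1⁻¹ = a → k = (⟨m, hac.trans hmz, hmx⟩ : J) := by
          intro k hk
          have hkab : k.1 * a * k.1⁻¹ = b := by
            rw [← hk]
            calc k.1 * (k.1 * b * k.1⁻¹) * k.1⁻¹ = (k.1 * k.1) * b * (k.1 * k.1)⁻¹ := by group
              _ = b := by rw [SEPairs.sq_one (hord _ k.2.1)]; group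
          set c := m⁻¹ * k.1 with hc
          have hca : Commute c a := by
            refine mul_inv_eq_iff_eq_mul.1 ?_
            calc c * a * c⁻¹ = m⁻¹ * (k.1 * a * k.1⁻¹) * m := by rw [hc]; group
              _ = m⁻¹ * (m * a * m⁻¹) * m := by rw [hkab, hmab]
              _ = a := by group
          have hcb : Commute c b := by
            refine mul_inv_eq_iff_eq_mul.1 ?_
            calc c * b * c⁻¹ = m⁻¹ * (k.1 * b * k.1⁻¹) * m := by rw [hc]; group
              _ = m⁻¹ * a * m := by rw [hk]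
              _ = m * a * m⁻¹ := by rw [SEPairs.inv_self hm]
              _ = b := hmab
          refine hcommJ k ⟨m, hac.trans hmz, hmx⟩ ?_
          show Commute k.1 m
          rw [show k.1 = m * c by rw [hc, mul_inv_cancel_left]]
          exact (Commute.refl m).mul_left (hmc c hca hcb)
        exact (key i rfl).trans (key j e.symm).symm
      · rintro ⟨a, hac, hax⟩
        obtain ⟨m, hm, hmab, hmz, -⟩ := middle_conj (hord a hac) hbo (hodd a b hac hbc x y hax hby hyx.symm)
        obtain ⟨y₀, -, hu⟩ := hfix b hbc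
        refine ⟨⟨m, hac.trans hmz,
          (hu _ (by rw [← hmab, mul_smul, mul_smul, inv_smul_smul, hax])).trans (hu y hby).symm⟩, Subtype.ext ?_⟩
        show m * b * m⁻¹ = a
        rw [← hmab]
        calc m * (m * a * m⁻¹) * m⁻¹ = (m * m) * a * (m * m)⁻¹ := by group
          _ = a := by rw [SEPairs.sq_one hm]; group
    -- parity of the class inside `H`
    have hJodd : Odd (Nat.card J) := by
      obtain ⟨i₀, -⟩ := hf.2 ⟨z, IsConj.refl z, hzx⟩
      let τ : J → J := fun j => ⟨i₀.1 * j.1⁻¹ * i₀.1⁻¹, by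
        rw [SEPairs.inv_self (hord _ j.2.1)]
        exact ⟨j.2.1.trans (isConj_iff.2 ⟨_, rfl⟩), by
          rw [mul_smul, mul_smul, show i₀.1⁻¹ • x = y by
            rw [SEPairs.inv_self (hord _ i₀.2.1)]; exact i₀.2.2, hswap j, i₀.2.2]⟩⟩
      have hτ : Function.Involutive τ := fun j => Subtype.ext (by
        show i₀.1 * (i₀.1 * j.1⁻¹ * i₀.1⁻¹)⁻¹ * i₀.1⁻¹ = j.1
        calc i₀.1 * (i₀.1 * j.1⁻¹ * i₀.1⁻¹)⁻¹ * i₀.1⁻¹ = (i₀.1 * i₀.1) * j.1 * (i₀.1 * i₀.1)⁻¹ := by group
          _ = j.1 := by rw [SEPairs.sq_one (hord _ i₀.2.1)]; group)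
      haveI : Fintype J := Fintype.ofFinite J
      set σ : Equiv.Perm J := hτ.toPerm
      have hσ : σ ^ 2 ^ 1 = 1 := Equiv.ext fun j => by
        rw [pow_one, pow_two, Equiv.Perm.mul_apply]; exact hτ j
      have hsupp : σ.supportᶜ = {i₀} := by
        ext j
        simp only [Finset.mem_compl, Equiv.Perm.mem_support, not_not, Finset.mem_singleton]
        refine ⟨fun e => ?_, fun e => ?_⟩
        · have e' : i₀.1 * j.1⁻¹ * i₀.1⁻¹ = j.1 := congrArg Subtype.val e
          rw [SEPairs.inv_self (hord _ j.2.1)] at e'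
          exact (hcommJ i₀ j (mul_inv_eq_iff_eq_mul.1 e')).symm
        · subst e
          exact Subtype.ext (show j.1 * j.1⁻¹ * j.1⁻¹ = j.1 by
            rw [mul_inv_cancel, one_mul, SEPairs.inv_self (hord _ j.2.1)])
      have h1 : σ.supportᶜ.card ≡ Fintype.card J [MOD 2] :=
        Equiv.Perm.card_compl_support_modEq hσ
      rw [hsupp, Finset.card_singleton] at h1
      rw [Nat.card_eq_fintype_card, Nat.odd_iff]
      exact h1.symm
    have hKodd : Odd (Nat.card K) := (Nat.card_eq_of_bijective f hf) ▸ hJodd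
    -- the index of `H` is odd
    have hmodd : Odd H.index := by
      haveI : Fintype (G ⧸ H) := Fintype.ofFinite _
      set σ : Equiv.Perm (G ⧸ H) := MulAction.toPerm z
      have hσ : σ ^ 2 ^ 1 = 1 := Equiv.ext fun w => by
        rw [pow_one, pow_two, Equiv.Perm.mul_apply, MulAction.toPerm_apply, MulAction.toPerm_apply, smul_smul,
          SEPairs.sq_one hz, one_smul]
        rfl
      have hsupp : σ.supportᶜ = {x} := by
        ext w
        simp only [Finset.mem_compl, Equiv.Perm.mem_support, not_not, Finset.mem_singleton]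
        exact ⟨fun e => hzu w e, fun e => e ▸ hzx⟩
      have h1 : σ.supportᶜ.card ≡ Fintype.card (G ⧸ H) [MOD 2] :=
        Equiv.Perm.card_compl_support_modEq hσ
      rw [hsupp, Finset.card_singleton] at h1
      rw [Subgroup.index_eq_card, Nat.card_eq_fintype_card, Nat.odd_iff]
      exact h1.symm
    have hCH : Subgroup.centralizer ({z} : Set G) ≤ H := fun c hc =>
      hstab c (hCz c (Subgroup.mem_centralizer_singleton_iff.1 hc))
    have hidx : ¬ 2 ∣ (Subgroup.centralizer ({z} : Set G)).index := by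
      rw [← Subgroup.relIndex_mul_index hCH]
      have hK : (Subgroup.centralizer ({z} : Set G)).relIndex H = Nat.card K := by
        rw [Subgroup.relIndex, Subgroup.index_eq_card]
        refine Nat.card_eq_of_bijective (fun q => Quotient.liftOn' q
          (fun h : H => (⟨(h : G) * z * (h : G)⁻¹, isConj_iff.2 ⟨_, rfl⟩, by
            rw [mul_smul, mul_smul, show (h : G)⁻¹ • x = x from
              (hto _).trans ((hmk _).2 (H.inv_mem h.2)), hzx]
            exact (hto _).trans ((hmk _).2 h.2)⟩ : K)) fun h h' hr => ?_) ⟨?_, ?_⟩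
        · refine Subtype.ext ?_
          show (h : G) * z * (h : G)⁻¹ = (h' : G) * z * (h' : G)⁻¹
          have := QuotientGroup.leftRel_apply.1 hr
          rw [Subgroup.mem_subgroupOf, Subgroup.mem_centralizer_singleton_iff] at this
          push_cast at this
          calc (h : G) * z * (h : G)⁻¹ = h * (z * ((h : G)⁻¹ * h')) * (h' : G)⁻¹ := by group
            _ = h * (((h : G)⁻¹ * h') * z) * (h' : G)⁻¹ := by rw [← this]
            _ = _ := by group
        · intro q q'
          induction q using QuotientGroup.induction_on with | _ h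
          induction q' using QuotientGroup.induction_on with | _ h'
          intro e
          have e : (h : G) * z * (h : G)⁻¹ = (h' : G) * z * (h' : G)⁻¹ := congrArg Subtype.val e
          refine QuotientGroup.eq.2 ?_
          rw [Subgroup.mem_subgroupOf, Subgroup.mem_centralizer_singleton_iff]
          push_cast
          calc (h : G)⁻¹ * h' * z = (h : G)⁻¹ * ((h' : G) * z * (h' : G)⁻¹) * h' := by group
            _ = (h : G)⁻¹ * ((h : G) * z * (h : G)⁻¹) * h' := by rw [e]
            _ = _ := by group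
        · rintro ⟨s, hs, hsx⟩
          obtain ⟨g, rfl⟩ := isConj_iff.1 hs
          have hgH : g ∈ H := by
            obtain ⟨y₀, -, hu⟩ := hfix _ hs
            refine hstab g ?_
            exact (hu (g • x) (by rw [mul_smul, mul_smul, inv_smul_smul, hzx])).trans (hu x hsx).symm
          exact ⟨QuotientGroup.mk ⟨g, hgH⟩, rfl⟩
      rw [hK, ← even_iff_two_dvd, Nat.not_even_iff_odd]
      exact hKodd.mul hmodd
    obtain ⟨T, hT⟩ := exists_sylIn (p := 2) (Subgroup.centralizer ({z} : Set G))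
    obtain ⟨P, hPT⟩ := (SylIn.exists_sylow (T := T) ⟨le_top, hT.isPGroup, by
      rw [Subgroup.relIndex_top_right, ← Subgroup.relIndex_mul_index hT.le]
      exact fun h => (Nat.Prime.dvd_mul Nat.prime_two).1 h |>.elim hT.not_dvd hidx⟩)
    have hcomm : ∀ w ∈ (P : Subgroup G), w * z = z * w := fun w hw => by
      rw [hPT] at hw
      exact Subgroup.mem_centralizer_singleton_iff.1 (hT.le hw)
    have hzP : z ∈ (P : Subgroup G) := by
      have hz2 : IsPGroup 2 (Subgroup.zpowers z) :=
        IsPGroup.of_card (n := 1) (by rw [Nat.card_zpowers, hz, pow_one])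
      have hsup := hz2.to_sup_of_normal_right' P.isPGroup' (Subgroup.zpowers_le.2
        (mem_normalizer_of_cj_le (g := z) (H := (P : Subgroup G)) (by
          rintro _ ⟨w, hw, rfl⟩
          show z * w * z⁻¹ ∈ (P : Subgroup G)
          rwa [← hcomm w hw, mul_inv_cancel_right])))
      rw [← P.is_maximal' hsup le_sup_right]
      exact Subgroup.mem_sup_left (Subgroup.mem_zpowers z)
    exact ⟨P, ⟨z, hzP⟩, Subgroup.mem_center_iff.2 fun w => Subtype.ext (hcomm w w.2), rfl⟩
  · rintro ⟨⟨P, ⟨z', hzP⟩, hzc, rfl⟩, h2⟩ t htc htne htcomm g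
    have htx : t • x = x := hCz t htcomm
    have hux : (z' * t : G) • x = x := by rw [mul_smul, htx]; exact hzx
    rw [hmem g, ← hmk g]
    refine ⟨fun hg => ?_, fun hg => by rw [hg]; exact hux⟩
    set u : G := (P : Subgroup G).subtype ⟨z', hzP⟩ * t with hu
    have hcen : ∀ p ∈ (P : Subgroup G), p * z' = z' * p := fun p hp =>
      congrArg Subtype.val (Subgroup.mem_center_iff.1 hzc ⟨p, hp⟩)
    have hPH : (P : Subgroup G) ≤ H := fun p hp => hstab p (hCz p (hcen p hp))
    have hvH : g⁻¹ * u * g ∈ H := SEPairs.smul_mk_eq_iff.1 hg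
    obtain ⟨q, rfl⟩ := isConj_iff.1 htc
    have hu2 : u ^ 2 ^ 1 = 1 := by
      rw [pow_one, hu, Commute.mul_pow (by exact htcomm.symm), pow_two, pow_two,
        SEPairs.sq_one hz, SEPairs.sq_one (SEPairs.conj_involution hz q), mul_one]
    obtain ⟨h, hh, hP'⟩ := ((sylIn_top P).mono hPH le_top).conj_le
      (show IsPGroup 2 (Subgroup.zpowers (g⁻¹ * u * g)) by
        intro v
        refine ⟨1, ?_⟩
        obtain ⟨_, n, rfl⟩ := v
        refine Subtype.ext ?_
        show ((g⁻¹ * u * g) ^ n) ^ (2 ^ 1) = 1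
        rw [← zpow_natCast, ← zpow_mul, mul_comm, zpow_mul, zpow_natCast,
          show g⁻¹ * u * g = g⁻¹ * u * g⁻¹⁻¹ by rw [inv_inv], conj_pow, hu2, mul_one, mul_inv_cancel,
          one_zpow])
      (Subgroup.zpowers_le.2 hvH)
    have hvP : h * (g⁻¹ * u * g) * h⁻¹ ∈ (P : Subgroup G) := hP' (conj_mem_cj (Subgroup.mem_zpowers _))
    set k := g * h⁻¹ with hk
    have hcu : Commute (k * z' * k⁻¹) u := by
      have hc := hcen _ hvP
      calc k * z' * k⁻¹ * u = k * (z' * (h * (g⁻¹ * u * g) * h⁻¹)) * k⁻¹ := by rw [hk]; group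
        _ = k * ((h * (g⁻¹ * u * g) * h⁻¹) * z') * k⁻¹ := by rw [hc]
        _ = u * (k * z' * k⁻¹) := by rw [hk]; group
    have hzk : (k * z' * k⁻¹) • x = x :=
      (hto _).trans ((hmk _).2 (h2 _ (isConj_iff.2 ⟨q, rfl⟩) htne htcomm
        (Subgroup.mem_centralizer_singleton_iff.2 hcu.eq)))
    rw [mul_smul, mul_smul, ← eq_inv_smul_iff] at hzk
    have := hzu _ hzk
    rw [inv_smul_eq_iff] at this
    rw [this, hto, hk]
    exact QuotientGroup.eq.2 (by rw [← mul_assoc, inv_mul_cancel, one_mul]; exact H.inv_mem hh)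

end Cfsg.Agent.S1922
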