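import Cfsg.Statements.S3776
import Cfsg.Agent.Lib.Solv.TwoAuto.Main
import Cfsg.Agent.Lib.Solv.Hall
import Cfsg.Agent.Lib.Solv.PGroupPhi

set_option autoImplicit false
open Cfsg
open scoped commutatorElement

namespace Cfsg.Agent.S3776

/-- Let G be a finite non-abelian 2-group with more than one involution admitting a solvable group of automorphisms that permutes its involutions transitively. Then the derived subgroup, the Frattini subgroup and the centre of G coincide and consist exactly of the elements x with x² = 1. -/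
theorem result {G : Type*} [Group G] [Finite G] (hG : IsPGroup 2 G) (hna : ¬ IsMulCommutative G) (htwo : ∃ x y : G, x ≠ y ∧ x ≠ 1 ∧ x ^ 2 = 1 ∧ y ≠ 1 ∧ y ^ 2 = 1) (hY : ∃ Y : Subgroup (MulAut G), Group.IsSolvable Y ∧ ∀ x y : G, x ≠ 1 → x ^ 2 = 1 → y ≠ 1 → y ^ 2 = 1 → ∃ a ∈ Y, a x = y) : commutator G = frattini G ∧ frattini G = Subgroup.center G ∧ ∀ x : G, x ∈ Subgroup.center G ↔ x ^ 2 = 1 := by
  classical
  haveI : Fact (Nat.Prime 2) := ⟨Nat.prime_two⟩
  obtain ⟨Y, hYsol, hYtr⟩ := hY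
  obtain ⟨i1, i2, hi12, hi1, hi1s, hi2, hi2s⟩ := htwo
  rw [pow_two] at hi1s hi2s
  haveI : Nontrivial G := ⟨⟨i1, 1, hi1⟩⟩
  haveI : Finite (MulAut G) := Finite.of_injective (fun k : MulAut G => (k : G → G)) DFunLike.coe_injective
  have hinvc : ∀ x : G, x * x = 1 → x ∈ Subgroup.center G := by
    intro x hx
    by_cases hx1 : x = 1
    · rw [hx1]; exact one_mem _
    haveI := hG.center_nontrivial
    obtain ⟨⟨z, hz⟩, hz1⟩ := exists_ne (1 : ↥(Subgroup.center G))
    obtain ⟨m, hm1, hm2⟩ := Cfsg.Agent.Char.SuzukiStruct.invol_pow hG z (fun h => hz1 (Subtype.ext h))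
    obtain ⟨k, -, hkx⟩ := hYtr _ x hm1 (by rw [pow_two]; exact hm2) hx1 (by rw [pow_two]; exact hx)
    rw [← hkx]
    exact Cfsg.Agent.Char.SuzukiStruct.center_inv k (pow_mem hz m)
  -- a subgroup of odd order which is still transitive
  let E : Subgroup G :=
    { carrier := {u | u * u = 1}
      one_mem' := mul_one 1
      mul_mem' := fun {a b} ha hb => by
        show a * b * (a * b) = 1
        have ha' : a * a = 1 := ha
        have hb' : b * b = 1 := hb
        rw [mul_assoc, ← mul_assoc b, Subgroup.mem_center_iff.1 (hinvc a ha') b, mul_assoc a, hb', mul_one, ha']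
      inv_mem' := fun {a} ha => by
        show a⁻¹ * a⁻¹ = 1
        rw [← mul_inv_rev, show a * a = 1 from ha, inv_one] }
  obtain ⟨m2, hm2⟩ := IsPGroup.iff_card.1 (hG.to_subgroup E)
  have hm20 : m2 ≠ 0 := by
    intro h
    rw [h, pow_zero] at hm2
    have : (⟨i1, hi1s⟩ : ↥E) ∈ (⊤ : Subgroup ↥E) := trivial
    haveI : Subsingleton ↥E := (Nat.card_eq_one_iff_unique.1 hm2).1
    exact hi1 (congrArg Subtype.val (Subsingleton.elim (⟨i1, hi1s⟩ : ↥E) 1))
  obtain ⟨a, m, hmodd, hcardY⟩ := Nat.exists_eq_two_pow_mul_odd (n := Nat.card ↥Y) Nat.card_pos.ne'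
  have hco : m.Coprime (2 ^ a) := (Nat.coprime_two_right.2 hmodd).pow_right a
  obtain ⟨H, hH⟩ := Cfsg.Agent.Solv.hall_exists hYsol (show Nat.card ↥Y = m * 2 ^ a by rw [hcardY, mul_comm]) hco
  have hHindex : H.index = 2 ^ a := by
    have h := Subgroup.card_mul_index H
    rw [hH, hcardY, mul_comm (2 ^ a)] at h
    exact Nat.eq_of_mul_eq_mul_left hmodd.pos h
  let B : Subgroup ↥Y := MulAction.stabilizer ↥Y i1
  have horbY : MulAction.orbit ↥Y i1 = {u : G | u * u = 1} \ {1} := by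
    ext u
    constructor
    · rintro ⟨k, rfl⟩
      exact ⟨by show k.1 i1 * k.1 i1 = 1; rw [← map_mul, hi1s, map_one],
        fun h => hi1 (k.1.injective (h.trans (map_one k.1).symm))⟩
    · rintro ⟨hu, hu1⟩
      obtain ⟨k, hk, hku⟩ := hYtr i1 u hi1 (by rw [pow_two]; exact hi1s) hu1 (by rw [pow_two]; exact hu)
      exact ⟨⟨k, hk⟩, hku⟩
  have hB : B.index = 2 ^ m2 - 1 := by
    rw [MulAction.index_stabilizer, horbY,
      Set.ncard_diff_singleton_of_mem (show (1 : G) ∈ {u : G | u * u = 1} from mul_one 1), ← hm2]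
    rfl
  have hcoB : Nat.Coprime B.index H.index := by
    rw [hB, hHindex]
    refine Nat.Coprime.pow_right a (Nat.coprime_two_right.2 ?_)
    exact Nat.Even.sub_odd Nat.one_le_two_pow ((Nat.even_pow).2 ⟨even_two, hm20⟩) odd_one
  have hdvd : B.index ∣ B.relIndex H := by
    refine hcoB.dvd_of_dvd_mul_right ?_
    rw [← Subgroup.inf_relIndex_right, Subgroup.relIndex_mul_index (inf_le_right : B ⊓ H ≤ H)]
    exact Subgroup.index_dvd_of_le inf_le_left
  let K : Subgroup (MulAut G) := H.map Y.subtype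
  have hKodd : Odd (Nat.card ↥K) := by
    rw [Subgroup.card_map_of_injective Y.subtype_injective, hH]; exact hmodd
  haveI := hYsol
  have hKsol : Group.IsSolvable ↥K := by
    haveI : Group.IsSolvable ↥H := inferInstance
    exact solvable_of_surjective (f := (H.equivMapOfInjective Y.subtype Y.subtype_injective).toMonoidHom)
      (H.equivMapOfInjective Y.subtype Y.subtype_injective).surjective
  have horbH : ∀ x : G, x ≠ 1 → x * x = 1 → ∃ k ∈ K, k i1 = x := by
    intro x hx1 hx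
    have hsub : MulAction.orbit ↥H i1 ⊆ MulAction.orbit ↥Y i1 := by
      rintro _ ⟨k, rfl⟩; exact ⟨k.1, rfl⟩
    have heq : MulAction.orbit ↥H i1 = MulAction.orbit ↥Y i1 := by
      refine Set.eq_of_subset_of_ncard_le hsub ?_ (Set.toFinite _)
      rw [← MulAction.index_stabilizer ↥Y i1, ← MulAction.index_stabilizer ↥H i1]
      have hs : MulAction.stabilizer ↥H i1 = B.subgroupOf H := by ext k; rfl
      rw [hs]
      refine Nat.le_of_dvd (Nat.pos_of_ne_zero Subgroup.index_ne_zero_of_finite) ?_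
      exact hdvd
    obtain ⟨k, hk⟩ := heq ▸ (horbY ▸ ⟨hx, hx1⟩ : x ∈ MulAction.orbit ↥Y i1)
    exact ⟨k.1.1, ⟨k.1, k.2, rfl⟩, hk⟩
  have htr : ∀ x y : G, x ≠ 1 → x * x = 1 → y ≠ 1 → y * y = 1 → ∃ k ∈ K, k x = y := by
    intro x y hx hxs hy hys
    obtain ⟨k, hk, rfl⟩ := horbH x hx hxs
    obtain ⟨l, hl, rfl⟩ := horbH y hy hys
    exact ⟨l * k⁻¹, mul_mem hl (inv_mem hk), by simp⟩
  obtain ⟨F, iF, iFF, iC, ⟨co⟩⟩ := Cfsg.Agent.Solv.TwoAuto.exists_coord hinvc
    ⟨i1, i2, hi12, hi1, hi1s, hi2, hi2s⟩ K hKodd hKsol htr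
  have hnab : ∃ x y : G, x * y ≠ y * x := by
    by_contra h
    push Not at h
    exact hna ⟨⟨h⟩⟩
  have hzc := Cfsg.Agent.Solv.TwoAuto.center_sq hG hnab K hinvc htr (Cfsg.Agent.Solv.TwoAuto.noPair hinvc co) co.hg
    (Cfsg.Agent.Solv.TwoAuto.fixed_point_free hG co)
  have hsq := Cfsg.Agent.Solv.TwoAuto.sq_central' hG hnab K hinvc hzc htr co
  have hcomm : ∀ a b : G, ⁅a, b⁆ ∈ Subgroup.center G := by
    intro a b
    have : ⁅a, b⁆ = (a * a) * ((a⁻¹ * b) * (a⁻¹ * b)) * (b * b)⁻¹ := by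
      rw [commutatorElement_def]; group
    rw [this]
    exact mul_mem (mul_mem (hsq a) (hsq _)) (inv_mem (hsq b))
  have h1 : frattini G ≤ Subgroup.center G :=
    Cfsg.Agent.Solv.frattini_le (p := 2) _ hcomm fun a => by rw [pow_two]; exact hsq a
  have h2 : commutator G ≤ frattini G := Cfsg.Agent.Solv.commutator_le_frattini_pgroup hG
  have h3 : Subgroup.center G ≤ commutator G := by
    intro z hz
    by_cases hz1 : z = 1
    · rw [hz1]; exact one_mem _
    obtain ⟨x, y, hxy⟩ := hnab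
    have hu : ⁅x, y⁆ ∈ commutator G := Subgroup.commutator_mem_commutator (Subgroup.mem_top x) (Subgroup.mem_top y)
    have hu1 : ⁅x, y⁆ ≠ 1 := fun h => hxy (commutatorElement_eq_one_iff_mul_comm.1 h)
    obtain ⟨k, -, hkz⟩ := htr _ z hu1 (hzc _ (hcomm x y)) hz1 (hzc z hz)
    rw [← hkz]
    have hchar : (commutator G).map k.toMonoidHom ≤ commutator G := Subgroup.characteristic_iff_map_le.1 inferInstance k
    exact hchar (Subgroup.mem_map_of_mem k.toMonoidHom hu)
  refine ⟨le_antisymm h2 (h1.trans h3), le_antisymm h1 (h3.trans h2), fun x => ?_⟩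
  rw [pow_two]
  exact ⟨hzc x, hinvc x⟩

end Cfsg.Agent.S3776
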