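import Cfsg.Statements.S3376
import Mathlib
-- import your own Cfsg.Agent.* helpers here

set_option autoImplicit false
open Cfsg

namespace Cfsg.Agent.S3376

theorem x_facts :
    (Equiv.swap (0 : Fin 9) 1 * Equiv.swap 1 2 * Equiv.swap 3 4 * Equiv.swap 4 5 * Equiv.swap 6 7 * Equiv.swap 7 8 : Equiv.Perm (Fin 9)) ^ 3 = 1 ∧
    ∀ i, (Equiv.swap (0 : Fin 9) 1 * Equiv.swap 1 2 * Equiv.swap 3 4 * Equiv.swap 4 5 * Equiv.swap 6 7 * Equiv.swap 7 8 : Equiv.Perm (Fin 9)) i ≠ i := by
  decide +kernel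

theorem cycleType_of_fpf (g : Equiv.Perm (Fin 9)) (h3 : g ^ 3 = 1) (hf : ∀ i, g i ≠ i) :
    g.cycleType = Multiset.replicate 3 3 := by
  have ho : orderOf g = 3 := by
    haveI : Fact (Nat.Prime 3) := ⟨Nat.prime_three⟩
    exact orderOf_eq_prime h3 fun h => hf 0 (by rw [h]; rfl)
  obtain ⟨n, hn⟩ := Equiv.Perm.cycleType_prime_order (show (orderOf g).Prime by rw [ho]; exact Nat.prime_three)
  rw [ho] at hn
  have hs : g.cycleType.sum = 9 := by
    rw [Equiv.Perm.sum_cycleType, show g.support = Finset.univ from Finset.eq_univ_iff_forall.2 fun i => Equiv.Perm.mem_support.2 (hf i)]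
    rfl
  rw [hn, Multiset.sum_replicate, smul_eq_mul] at hs
  rw [hn, show n + 1 = 3 by omega]

theorem card_centralizer_x :
    Nat.card (Subgroup.centralizer ({Equiv.swap (0 : Fin 9) 1 * Equiv.swap 1 2 * Equiv.swap 3 4 * Equiv.swap 4 5 * Equiv.swap 6 7 * Equiv.swap 7 8} : Set (Equiv.Perm (Fin 9)))) = 162 := by
  rw [Equiv.Perm.nat_card_centralizer, cycleType_of_fpf _ x_facts.1 x_facts.2]
  decide


/-- Let G be a group of order 162 = 3⁴·2 with Sylow 3-subgroup S and Sylow 2-subgroup T, having an elementary abelian normal subgroup J of order 27, such that Z = Z(S) has order 3, Z centralizes T, and C_S(T) ≠ S. Then G is isomorphic to the centralizer in Sym(9) of a product of three disjoint 3-cycles. -/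
theorem result {G : Type*} [Group G] [Finite G] (hG : Nat.card G = 162)
    (S : Sylow 3 G) (T : Sylow 2 G) (J : Subgroup G) [hJn : J.Normal] (hJcomm : IsMulCommutative J)
    (hJexp : ∀ a ∈ J, a ^ 3 = 1) (hJcard : Nat.card J = 27)
    (Z : Subgroup G) (hZ : Z = (S : Subgroup G) ⊓ Subgroup.centralizer ((S : Subgroup G) : Set G)) (hZcard : Nat.card Z = 3)
    (hZT : Z ≤ Subgroup.centralizer ((T : Subgroup G) : Set G))
    (hST : (S : Subgroup G) ⊓ Subgroup.centralizer ((T : Subgroup G) : Set G) ≠ S) :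
    Nonempty (G ≃* Subgroup.centralizer ({Equiv.swap (0 : Fin 9) 1 * Equiv.swap 1 2 * Equiv.swap 3 4 * Equiv.swap 4 5 * Equiv.swap 6 7 * Equiv.swap 7 8} : Set (Equiv.Perm (Fin 9)))) := by
  classical
  haveI f2 : Fact (Nat.Prime 2) := ⟨Nat.prime_two⟩
  haveI f3 : Fact (Nat.Prime 3) := ⟨Nat.prime_three⟩
  have hSc : Nat.card ↥(S : Subgroup G) = 81 := by
    have h : (162 : ℕ).factorization 3 = 4 := by
      rw [show (162 : ℕ) = 3 ^ 4 * 2 by norm_num, Nat.factorization_mul (by norm_num) (by norm_num), Finsupp.add_apply,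
        Nat.prime_three.factorization_pow, Finsupp.single_eq_same, Nat.factorization_eq_zero_of_not_dvd (show ¬ 3 ∣ 2 by norm_num)]
    rw [S.card_eq_multiplicity, hG, h]; norm_num
  have hTc : Nat.card ↥(T : Subgroup G) = 2 := by
    have h : (162 : ℕ).factorization 2 = 1 := by
      rw [show (162 : ℕ) = 2 ^ 1 * 81 by norm_num, Nat.factorization_mul (by norm_num) (by norm_num), Finsupp.add_apply,
        Nat.prime_two.factorization_pow, Finsupp.single_eq_same, Nat.factorization_eq_zero_of_not_dvd (show ¬ 2 ∣ 81 by norm_num)]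
    rw [T.card_eq_multiplicity, hG, h]; norm_num
  -- Sylow 3 is normal and contains J
  haveI hSn : (S : Subgroup G).Normal := Subgroup.normal_of_index_eq_two (by
    have := (S : Subgroup G).card_mul_index
    rw [hSc, hG] at this
    omega)
  have hJS : J ≤ (S : Subgroup G) := by
    obtain ⟨S', hS'⟩ := (IsPGroup.of_card (n := 3) (by rw [hJcard]; norm_num) : IsPGroup 3 J).exists_le_sylow
    haveI := Sylow.unique_of_normal S hSn
    rwa [Subsingleton.elim S' S] at hS'
  obtain ⟨t, ht⟩ : ∃ t : G, Subgroup.zpowers t = (T : Subgroup G) := by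
    haveI : IsCyclic ↥(T : Subgroup G) := isCyclic_of_prime_card hTc
    exact Subgroup.isCyclic_iff_exists_zpowers_eq_top _ |>.1 inferInstance
  have htT : t ∈ (T : Subgroup G) := ht ▸ Subgroup.mem_zpowers t
  have hto : orderOf t = 2 := by rw [← Nat.card_zpowers, ht, hTc]
  have ht2 : t * t = 1 := by rw [← pow_two, ← hto]; exact pow_orderOf_eq_one t
  -- G is generated by S and t
  have hgen : ∀ g : G, ∃ s ∈ (S : Subgroup G), g = s ∨ g = s * t := by
    intro g
    have hidx : (S : Subgroup G).index = 2 := by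
      have := (S : Subgroup G).card_mul_index
      rw [hSc, hG] at this
      omega
    have htS : t ∉ (S : Subgroup G) := fun h => by
      have := Subgroup.orderOf_dvd_natCard _ h
      rw [hto, hSc] at this
      norm_num at this
    by_cases hg : g ∈ (S : Subgroup G)
    · exact ⟨g, hg, Or.inl rfl⟩
    · refine ⟨g * t⁻¹, ?_, Or.inr (inv_mul_cancel_right g t).symm⟩
      rw [Subgroup.mul_mem_iff_of_index_two hidx]
      exact ⟨fun h => absurd h hg, fun h => absurd (inv_mem_iff.1 h) htS⟩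
  have hZm : ∀ z ∈ Z, z ∈ (S : Subgroup G) ∧ ∀ g : G, g * z = z * g := by
    intro z hz
    have hz' := hz
    rw [hZ] at hz'
    refine ⟨hz'.1, fun g => ?_⟩
    have hs : ∀ s ∈ (S : Subgroup G), s * z = z * s := Subgroup.mem_centralizer_iff.1 hz'.2
    have htz : t * z = z * t := Subgroup.mem_centralizer_iff.1 (hZT hz) t htT
    obtain ⟨s, hs', rfl | rfl⟩ := hgen g
    · exact hs _ hs'
    · rw [mul_assoc, htz, ← mul_assoc, hs s hs', mul_assoc]
  have hJcom : ∀ a ∈ J, ∀ b ∈ J, a * b = b * a := fun a ha b hb =>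
    congrArg Subtype.val (mul_comm' (⟨a, ha⟩ : J) ⟨b, hb⟩)
  have hZJ : Z ≤ J := by
    by_contra h
    obtain ⟨z, hz, hzJ⟩ := SetLike.not_le_iff_exists.1 h
    -- S is then abelian
    let C : Subgroup G := (S : Subgroup G) ⊓ Subgroup.centralizer (J : Set G)
    have hJC : J ≤ C := le_inf hJS fun a ha => Subgroup.mem_centralizer_iff.2 fun b hb => hJcom b hb a ha
    have hzC : z ∈ C := ⟨(hZm z hz).1, Subgroup.mem_centralizer_iff.2 fun b _ => (hZm z hz).2 b⟩
    have hd := Subgroup.card_dvd_of_le hJC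
    have hd2 := Subgroup.card_dvd_of_le (show C ≤ (S : Subgroup G) from inf_le_left)
    rw [hJcard] at hd
    rw [hSc] at hd2
    have hne : Nat.card C ≠ 27 := fun h27 => by
      have := Subgroup.eq_of_le_of_card_ge hJC (by rw [h27, hJcard])
      exact hzJ (this ▸ hzC)
    have h81 : Nat.card C = 81 := by
      obtain ⟨k, hk⟩ := hd
      have hk3 : k ∣ 3 := Nat.dvd_of_mul_dvd_mul_left (show 0 < 27 by norm_num) (by rw [← hk]; exact hd2)
      rcases (Nat.dvd_prime Nat.prime_three).1 hk3 with rfl | rfl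
      · exact absurd hk hne
      · exact hk
    have hCS : C = (S : Subgroup G) := Subgroup.eq_of_le_of_card_ge inf_le_left (by rw [h81, hSc])
    have hJZ : J ≤ Z := fun a ha => by
      rw [hZ]
      refine ⟨hJS ha, Subgroup.mem_centralizer_iff.2 fun s hs => ?_⟩
      have : s ∈ C := hCS ▸ hs
      exact (Subgroup.mem_centralizer_iff.1 this.2 a ha).symm
    have := Subgroup.card_le_of_le hJZ
    rw [hJcard, hZcard] at this
    omega
  haveI : Nontrivial Z := Finite.one_lt_card_iff_nontrivial.1 (by rw [hZcard]; norm_num)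
  obtain ⟨⟨z, hzZ⟩, hz1'⟩ := exists_ne (1 : Z)
  have hz1 : z ≠ 1 := fun h => hz1' (Subtype.ext h)
  have hz3 : z ^ 3 = 1 := hJexp z (hZJ hzZ)
  -- maximal t-invariant subgroup of J avoiding z
  obtain ⟨W, ⟨hWJ, hzW, hWt⟩, hWmax⟩ := (Set.toFinite {W : Subgroup G | W ≤ J ∧ z ∉ W ∧ ∀ w ∈ W, t * w * t⁻¹ ∈ W}).exists_maximal
    ⟨⊥, bot_le, fun h => hz1 (Subgroup.mem_bot.1 h), fun w hw => by rw [Subgroup.mem_bot.1 hw]; simp⟩
  have hW9 : 9 ≤ Nat.card W := by
    by_contra hlt
    push Not at hlt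
    -- W⟨z⟩
    let WZ : Subgroup G :=
      { carrier := {x | ∃ w ∈ W, ∃ k : ℤ, x = w * z ^ k}
        one_mem' := ⟨1, W.one_mem, 0, by simp⟩
        mul_mem' := by
          rintro _ _ ⟨w, hw, k, rfl⟩ ⟨w', hw', k', rfl⟩
          refine ⟨w * w', W.mul_mem hw hw', k + k', ?_⟩
          rw [zpow_add, mul_assoc, ← mul_assoc (z ^ k), ← (Commute.zpow_right ((hZm z hzZ).2 w') k).eq]
          group
        inv_mem' := by
          rintro _ ⟨w, hw, k, rfl⟩
          refine ⟨w⁻¹, W.inv_mem hw, -k, ?_⟩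
          rw [mul_inv_rev, zpow_neg, ((Commute.zpow_right ((hZm z hzZ).2 w) k).inv_inv).eq] }
    have hWZJ : WZ ≤ J := by
      rintro _ ⟨w, hw, k, rfl⟩; exact J.mul_mem (hWJ hw) (J.zpow_mem (hZJ hzZ) k)
    obtain ⟨a, ha, haW⟩ : ∃ a ∈ J, a ∉ WZ := by
      by_contra h
      push Not at h
      have hcard : Nat.card J ≤ Nat.card (W × Subgroup.zpowers z) := by
        refine Nat.card_le_card_of_surjective (fun p : W × Subgroup.zpowers z => (⟨p.1 * p.2, J.mul_mem (hWJ p.1.2) (by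
          obtain ⟨k, hk⟩ := p.2.2; rw [← hk]; exact J.zpow_mem (hZJ hzZ) k)⟩ : J)) ?_
        rintro ⟨a, ha⟩
        obtain ⟨w, hw, k, hk⟩ := h a ha
        exact ⟨(⟨w, hw⟩, ⟨z ^ k, k, rfl⟩), Subtype.ext hk.symm⟩
      rw [hJcard, Nat.card_prod, Nat.card_zpowers, orderOf_eq_prime hz3 hz1] at hcard
      have : Nat.card W * 3 ≤ 8 * 3 := Nat.mul_le_mul_right 3 (by omega)
      omega
    have hta : t * a * t⁻¹ ∈ J := hJn.conj_mem a ha t
    have htinv : t⁻¹ = t := inv_eq_of_mul_eq_one_right ht2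
    obtain ⟨b, hb, hbW, hbt⟩ : ∃ b ∈ J, b ∉ WZ ∧ (t * b * t⁻¹ = b ∨ t * b * t⁻¹ = b⁻¹) := by
      have hc := hJcom a ha _ hta
      have htt : t * (t * a * t⁻¹) * t⁻¹ = a := by
        rw [htinv, show t * (t * a * t) * t = (t * t) * a * (t * t) by group, ht2, one_mul, mul_one]
      by_cases h1 : a * (t * a * t⁻¹) ∈ WZ
      · refine ⟨a * (t * a * t⁻¹)⁻¹, J.mul_mem ha (J.inv_mem hta), fun h2 => haW ?_, Or.inr ?_⟩
        · have h12 := WZ.mul_mem h1 h2
          have e : a * (t * a * t⁻¹) * (a * (t * a * t⁻¹)⁻¹) = a ^ 2 := by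
            rw [hc, pow_two, mul_assoc, ← mul_assoc a a, hJcom _ hta (a * a * (t * a * t⁻¹)⁻¹)
              (J.mul_mem (J.mul_mem ha ha) (J.inv_mem hta))]
            group
          rw [e] at h12
          have h3 := WZ.inv_mem h12
          rwa [inv_eq_of_mul_eq_one_right (show a ^ 2 * a = 1 by rw [← pow_succ, hJexp a ha])] at h3
        · calc t * (a * (t * a * t⁻¹)⁻¹) * t⁻¹ = (t * a * t⁻¹) * (t * (t * a * t⁻¹) * t⁻¹)⁻¹ := by group
            _ = (t * a * t⁻¹) * a⁻¹ := by rw [htt]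
            _ = (a * (t * a * t⁻¹)⁻¹)⁻¹ := by group
      · refine ⟨_, J.mul_mem ha hta, h1, Or.inl ?_⟩
        calc t * (a * (t * a * t⁻¹)) * t⁻¹ = (t * a * t⁻¹) * (t * (t * a * t⁻¹) * t⁻¹) := by group
          _ = a * (t * a * t⁻¹) := by rw [htt, hc]
    -- W⟨b⟩
    let WB : Subgroup G :=
      { carrier := {x | ∃ w ∈ W, ∃ k : ℤ, x = w * b ^ k}
        one_mem' := ⟨1, W.one_mem, 0, by simp⟩
        mul_mem' := by
          rintro _ _ ⟨w, hw, k, rfl⟩ ⟨w', hw', k', rfl⟩
          refine ⟨w * w', W.mul_mem hw hw', k + k', ?_⟩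
          rw [zpow_add, mul_assoc, ← mul_assoc (b ^ k), ← hJcom w' (hWJ hw') (b ^ k) (J.zpow_mem hb k)]
          group
        inv_mem' := by
          rintro _ ⟨w, hw, k, rfl⟩
          refine ⟨w⁻¹, W.inv_mem hw, -k, ?_⟩
          rw [mul_inv_rev, zpow_neg, hJcom _ (J.inv_mem (J.zpow_mem hb k)) _ (J.inv_mem (hWJ hw))] }
    have hWB : W ≤ WB := fun w hw => ⟨w, hw, 0, by simp⟩
    have hmem : WB ≤ W := hWmax ⟨(by rintro _ ⟨w, hw, k, rfl⟩; exact J.mul_mem (hWJ hw) (J.zpow_mem hb k)), (fun ⟨w, hw, k, hk⟩ => by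
      have hbk : b ^ k ∈ WZ := ⟨w⁻¹, W.inv_mem hw, 1, by rw [zpow_one, hk, inv_mul_cancel_left]⟩
      by_cases hk3 : (3 : ℤ) ∣ k
      · obtain ⟨j, rfl⟩ := hk3
        rw [zpow_mul, show b ^ (3 : ℤ) = 1 by exact_mod_cast hJexp b hb, one_zpow, mul_one] at hk
        exact hzW (hk ▸ hw)
      · obtain ⟨u, v, huv⟩ := (Int.prime_iff_natAbs_prime.2 (by norm_num : (Int.natAbs 3).Prime)).coprime_iff_not_dvd.2 hk3
        apply hbW
        rw [← zpow_one b, ← huv, zpow_add, mul_comm u, mul_comm v, zpow_mul, zpow_mul,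
          show b ^ (3 : ℤ) = 1 by exact_mod_cast hJexp b hb, one_zpow, one_mul]
        exact WZ.zpow_mem hbk v),
      (by
        rintro _ ⟨w, hw, k, rfl⟩
        rw [← conj_mul, ← conj_zpow]
        refine WB.mul_mem (hWB (hWt w hw)) (WB.zpow_mem ?_ k)
        rcases hbt with h | h <;> rw [h]
        · exact ⟨1, W.one_mem, 1, by simp⟩
        · exact ⟨1, W.one_mem, -1, by simp⟩)⟩ hWB
    exact hbW ⟨b, hmem ⟨1, W.one_mem, 1, by simp⟩, 0, by simp⟩
  have hWc : Nat.card W = 9 := by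
    have hd := Subgroup.card_dvd_of_le hWJ
    rw [hJcard] at hd
    obtain ⟨i, hi, hW⟩ := (Nat.dvd_prime_pow Nat.prime_three).1 (show Nat.card W ∣ 3 ^ 3 by norm_num; exact hd)
    interval_cases i
    · omega
    · omega
    · simpa using hW
    · exact absurd ((Subgroup.eq_of_le_of_card_ge hWJ (by rw [hW, hJcard]; norm_num)) ▸ hZJ hzZ) hzW
  -- the stabiliser
  have htinv : t⁻¹ = t := inv_eq_of_mul_eq_one_right ht2
  have htJ : t ∉ J := fun h => by
    have := Subgroup.orderOf_dvd_natCard _ h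
    rw [hto, hJcard] at this
    norm_num at this
  let H : Subgroup G :=
    { carrier := {x | x ∈ W ∨ ∃ w ∈ W, x = w * t}
      one_mem' := Or.inl W.one_mem
      mul_mem' := by
        rintro x y (hx | ⟨w, hw, rfl⟩) (hy | ⟨v, hv, rfl⟩)
        · exact Or.inl (W.mul_mem hx hy)
        · exact Or.inr ⟨x * v, W.mul_mem hx hv, (mul_assoc _ _ _).symm⟩
        · exact Or.inr ⟨w * (t * y * t⁻¹), W.mul_mem hw (hWt y hy), by group⟩
        · refine Or.inl ?_
          rw [show w * t * (v * t) = w * (t * v * t) by group]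
          exact W.mul_mem hw (by have := hWt v hv; rwa [htinv] at this)
      inv_mem' := by
        rintro x (hx | ⟨w, hw, rfl⟩)
        · exact Or.inl (W.inv_mem hx)
        · refine Or.inr ⟨t * w⁻¹ * t⁻¹, hWt _ (W.inv_mem hw), ?_⟩
          rw [mul_inv_rev, inv_mul_cancel_right, htinv] }
  have hHJ : ∀ x ∈ H, x ∈ J → x ∈ W := by
    rintro x (hx | ⟨w, hw, rfl⟩) hxJ
    · exact hx
    · exact absurd (by simpa using J.mul_mem (J.inv_mem (hWJ hw)) hxJ) htJ
  have hHc : Nat.card H = 18 := by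
    let f : Bool × W → H := fun p => if p.1 then ⟨p.2 * t, Or.inr ⟨_, p.2.2, rfl⟩⟩ else ⟨p.2, Or.inl p.2.2⟩
    have hf : Function.Bijective f := by
      constructor
      · rintro ⟨i, v⟩ ⟨j, w⟩ h
        have h' := congrArg Subtype.val h
        cases i <;> cases j <;> simp [f] at h'
        · rw [h']
        · exact absurd (by rw [show t = (w : G)⁻¹ * v by rw [h', inv_mul_cancel_left]]; exact J.mul_mem (J.inv_mem (hWJ w.2)) (hWJ v.2)) htJ
        · exact absurd (by rw [show t = (v : G)⁻¹ * w by rw [← h', inv_mul_cancel_left]]; exact J.mul_mem (J.inv_mem (hWJ v.2)) (hWJ w.2)) htJ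
        · rw [h']
      · rintro ⟨x, hx | ⟨w, hw, rfl⟩⟩
        · exact ⟨(false, ⟨x, hx⟩), rfl⟩
        · exact ⟨(true, ⟨w, hw⟩), rfl⟩
    rw [← Nat.card_eq_of_bijective f hf, Nat.card_prod, hWc, Nat.card_eq_fintype_card, Fintype.card_bool]
  have hidx : Nat.card (G ⧸ H) = 9 := by
    have := H.card_mul_index
    rw [hHc, hG] at this
    change H.index = 9
    omega
  let e : G ⧸ H ≃ Fin 9 := Finite.equivFinOfCardEq hidx
  let ψ : G →* Equiv.Perm (Fin 9) := e.permCongrHom.toMonoidHom.comp (MulAction.toPermHom G (G ⧸ H))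
  have hψ : Function.Injective ψ := by
    refine e.permCongrHom.injective.comp ?_
    rw [← MonoidHom.ker_eq_bot_iff, ← Subgroup.normalCore_eq_ker]
    by_contra hN
    have hle := H.normalCore_le
    haveI := H.normalCore_normal
    by_cases hNJ : H.normalCore ⊓ J = ⊥
    · -- then the core is central
      obtain ⟨⟨x, hx⟩, hx1'⟩ := Subgroup.ne_bot_iff_exists_ne_one.1 hN
      have hx1 : x ≠ 1 := fun h => hx1' (Subtype.ext h)
      have hcen : ∀ a ∈ J, a * x = x * a := fun a ha => by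
        have h1 : a * x * a⁻¹ * x⁻¹ ∈ H.normalCore ⊓ J := ⟨H.normalCore.mul_mem (‹H.normalCore.Normal›.conj_mem x hx a) (H.normalCore.inv_mem hx), by
          rw [show a * x * a⁻¹ * x⁻¹ = a * (x * a⁻¹ * x⁻¹) by group]; exact J.mul_mem ha (hJn.conj_mem _ (J.inv_mem ha) x)⟩
        rw [hNJ, Subgroup.mem_bot] at h1
        exact mul_inv_eq_iff_eq_mul.1 (mul_inv_eq_one.1 h1)
      have hcomm : ∀ g : G, g * x * g⁻¹ * x⁻¹ ∈ H.normalCore := fun g =>
        H.normalCore.mul_mem (‹H.normalCore.Normal›.conj_mem x hx g) (H.normalCore.inv_mem hx)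
      have hxC : ∀ s ∈ (S : Subgroup G), s * x = x * s := fun s hs => by
        have h1 : s * x * s⁻¹ * x⁻¹ ∈ (S : Subgroup G) := by
          rw [show s * x * s⁻¹ * x⁻¹ = s * (x * s⁻¹ * x⁻¹) by group]
          exact (S : Subgroup G).mul_mem hs (hSn.conj_mem _ ((S : Subgroup G).inv_mem hs) x)
        have h2 : s * x * s⁻¹ * x⁻¹ ∈ J := by
          rcases hle (hcomm s) with h | ⟨w, hw, h⟩
          · exact hWJ h
          · exfalso
            have : t ∈ (S : Subgroup G) := by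
              rw [show t = w⁻¹ * (s * x * s⁻¹ * x⁻¹) by rw [h, inv_mul_cancel_left]]
              exact (S : Subgroup G).mul_mem ((S : Subgroup G).inv_mem (hJS (hWJ hw))) h1
            have := Subgroup.orderOf_dvd_natCard _ this
            rw [hto, hSc] at this
            norm_num at this
        have h3 : s * x * s⁻¹ * x⁻¹ ∈ H.normalCore ⊓ J := ⟨hcomm s, h2⟩
        rw [hNJ, Subgroup.mem_bot] at h3
        exact mul_inv_eq_iff_eq_mul.1 (mul_inv_eq_one.1 h3)
      have hxJ : x ∉ J := fun h => hx1 (Subgroup.mem_bot.1 (hNJ ▸ ⟨hx, h⟩))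
      rcases hle hx with h | ⟨w, hw, rfl⟩
      · exact hxJ (hWJ h)
      · have hwJ := hWJ hw
        have htC : ∀ a ∈ J, a * t = t * a := fun a ha => by
          have h1 := hcen a ha
          rw [← mul_assoc, hJcom a ha w hwJ, mul_assoc, mul_assoc] at h1
          exact mul_left_cancel h1
        apply hST
        rw [inf_eq_left]
        intro s hs
        rw [Subgroup.mem_centralizer_iff, ← ht]
        rintro _ ⟨k, rfl⟩
        -- the square of x is w * w
        have hsq : (w * t) * (w * t) = w * w := by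
          rw [mul_assoc, ← mul_assoc t, ← htC w hwJ, mul_assoc w t, ht2, mul_one]
        have hw1 : w * w = 1 := by
          have : w * w ∈ H.normalCore ⊓ J := ⟨hsq ▸ H.normalCore.mul_mem hx hx, J.mul_mem hwJ hwJ⟩
          rwa [hNJ, Subgroup.mem_bot] at this
        have hw' : w = 1 := by
          have := hJexp w hwJ
          rwa [pow_succ, pow_two, hw1, one_mul] at this
        have hst := hxC s hs
        rw [hw', one_mul] at hst
        exact ((show Commute s t from hst).zpow_right k).eq.symm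
    · obtain ⟨⟨a, ha⟩, ha1'⟩ := Subgroup.ne_bot_iff_exists_ne_one.1 hNJ
      have ha1 : a ≠ 1 := fun h => ha1' (Subtype.ext h)
      let M := (H.normalCore ⊓ J).subgroupOf (S : Subgroup G)
      haveI : M.Normal := inferInstance
      have hM : M ≠ ⊥ := fun h => ha1 (congrArg Subtype.val ((Subgroup.eq_bot_iff_forall M).1 h ⟨a, hJS ha.2⟩ ha))
      obtain ⟨⟨m, hmM⟩, hm1⟩ := Subgroup.ne_bot_iff_exists_ne_one.1
        (show M ⊓ Subgroup.center ↥(S : Subgroup G) ≠ ⊥ from fun h => by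
          have hp : IsPGroup 3 ↥(S : Subgroup G) := S.isPGroup'
          obtain ⟨k, hk⟩ := IsPGroup.iff_card.1 (hp.to_subgroup M)
          have hk0 : 3 ∣ Nat.card M := by
            rw [hk]; refine dvd_pow_self 3 fun h0 => hM (Subgroup.eq_bot_of_card_eq _ (by rw [hk, h0, pow_zero]))
          obtain ⟨b, hb1, hb⟩ := (hp.of_equiv (ConjAct.toConjAct : _ ≃* ConjAct ↥(S : Subgroup G))).exists_fixed_point_of_prime_dvd_card_of_fixed_point M hk0 (a := (1 : M)) (fun g => smul_one g)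
          refine hb.symm (Subtype.ext ((Subgroup.eq_bot_iff_forall _).1 h b ⟨b.2, Subgroup.mem_center_iff.2 fun g => ?_⟩))
          have := congrArg Subtype.val (hb1 (ConjAct.toConjAct g))
          rw [ConjAct.Subgroup.val_conj_smul, ConjAct.toConjAct_smul] at this
          exact mul_inv_eq_iff_eq_mul.1 this)
      have hmZ : (m : G) ∈ Z := by
        rw [hZ]
        exact ⟨m.2, Subgroup.mem_centralizer_iff.2 fun s hs => congrArg Subtype.val (Subgroup.mem_center_iff.1 hmM.2 ⟨s, hs⟩)⟩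
      have hm' : (m : G) ≠ 1 := fun h => hm1 (Subtype.ext (Subtype.ext h))
      have hgenZ : Subgroup.zpowers (m : G) = Z := Subgroup.eq_of_le_of_card_ge (Subgroup.zpowers_le.2 hmZ)
        (by rw [hZcard, Nat.card_zpowers, orderOf_eq_prime (hJexp (m : G) hmM.1.2) hm'])
      exact hzW (hHJ z (hle (Subgroup.zpowers_le.2 hmM.1.1 (hgenZ.symm ▸ hzZ))) (hZJ hzZ))
  set x₀ := (Equiv.swap (0 : Fin 9) 1 * Equiv.swap 1 2 * Equiv.swap 3 4 * Equiv.swap 4 5 * Equiv.swap 6 7 * Equiv.swap 7 8 : Equiv.Perm (Fin 9)) with hx₀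
  have hfz : ∀ i, ψ z i ≠ i := by
    intro i hi
    obtain ⟨c, rfl⟩ := e.surjective i
    have h1 : z • c = c := by
      simp only [ψ, MonoidHom.coe_comp, Function.comp_apply, MulEquiv.coe_toMonoidHom] at hi
      rw [Equiv.permCongrHom_coe, Equiv.permCongr_apply, Equiv.symm_apply_apply] at hi
      exact e.injective hi
    obtain ⟨g, rfl⟩ := QuotientGroup.mk_surjective c
    rw [MulAction.Quotient.smul_mk, QuotientGroup.eq, smul_eq_mul] at h1
    have hzH : z ∈ H := by
      rw [mul_inv_rev, show g⁻¹ * z⁻¹ * g = z⁻¹ by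
        rw [mul_assoc, ← ((show Commute g z from (hZm z hzZ).2 g).inv_right).eq, inv_mul_cancel_left]] at h1
      simpa using H.inv_mem h1
    exact hzW (hHJ z hzH (hZJ hzZ))
  have hz3' : ψ z ^ 3 = 1 := by rw [← map_pow, hz3, map_one]
  have hconj : IsConj (ψ z) x₀ := Equiv.Perm.isConj_iff_cycleType_eq.2
    (by rw [cycleType_of_fpf _ hz3' hfz, cycleType_of_fpf _ x_facts.1 x_facts.2])
  obtain ⟨π, hπ⟩ := isConj_iff.1 hconj
  let φ : G →* Subgroup.centralizer ({x₀} : Set (Equiv.Perm (Fin 9))) :=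
    ((MulAut.conj π).toMonoidHom.comp ψ).codRestrict _ fun g => by
      rw [Subgroup.mem_centralizer_singleton_iff, ← hπ]
      show π * ψ g * π⁻¹ * (π * ψ z * π⁻¹) = π * ψ z * π⁻¹ * (π * ψ g * π⁻¹)
      calc _ = π * ψ (g * z) * π⁻¹ := by rw [map_mul]; group
        _ = π * ψ (z * g) * π⁻¹ := by rw [(hZm z hzZ).2 g]
        _ = _ := by rw [map_mul]; group
  refine ⟨MulEquiv.ofBijective φ ((Nat.bijective_iff_injective_and_card φ).2 ⟨fun a b h => hψ ((MulAut.conj π).injective (congrArg Subtype.val h)), ?_⟩)⟩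
  rw [hG, hx₀, card_centralizer_x]

end Cfsg.Agent.S3376
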