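import Cfsg.Statements.S1046
import Cfsg.Agent.Lib.Lie.AllFacts
import Cfsg.Agent.Lib.Lie.BruhatAux
-- import your own Cfsg.Agent.* helpers here

set_option autoImplicit false
open Cfsg

namespace Cfsg.Agent.S1046

/-- Two elements of `H` conjugate in the Chevalley group are conjugate by an element of `N`. -/
theorem result {F : Type*} [Field F] (D : Cfsg.Lie.ChevalleyDatum) (hD : D ∈ [Cfsg.Lie.chevG2, Cfsg.Lie.chevB2, Cfsg.Lie.chevD4, Cfsg.Lie.chevF4, Cfsg.Lie.chevE6, Cfsg.Lie.chevE7, Cfsg.Lie.chevE8]) (h₁ h₂ g : GL D.Idx F) (h1 : h₁ ∈ D.diagonalSubgroup F) (h2 : h₂ ∈ D.diagonalSubgroup F)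
    (hg : g ∈ D.group F) (hc : g * h₁ * g⁻¹ = h₂) :
    ∃ n ∈ D.monomialSubgroup F, n * h₁ * n⁻¹ = h₂ := by
  obtain ⟨hF⟩ := Lie.facts_of_mem hD
  rw [← hF.tsys_H] at h1 h2
  rw [← hF.tsys_N]
  obtain ⟨b, hb, w, u, hu, rfl⟩ := hF.mem_bnu hg
  obtain ⟨u0, hu0, a, ha, rfl⟩ := (hF.tsys F).mem_B.1 hb
  set n := (hF.tsys F).nW w with hn
  have hk : n * h₁ * n⁻¹ ∈ (hF.tsys F).H := (hF.tsys F).nW_H h1
  have hu' : h₁⁻¹ * u * h₁ ∈ (hF.tsys F).US (Lie.TorusSys.invList w) := by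
    have h := (hF.tsys F).H_conj_US (inv_mem h1)
      (fun r hr => ((Lie.TorusSys.closed_invList w).mem_pos r hr).2) hu
    rw [inv_inv] at h
    exact h
  have heq : u0 * a * (n * h₁ * n⁻¹) * n * (h₁⁻¹ * u * h₁) = h₂ * (u0 * a) * n * u := by
    rw [← hc]; group
  have hb2 : u0 * a * (n * h₁ * n⁻¹) ∈ (hF.tsys F).B := mul_mem hb ((hF.tsys F).H_le_B hk)
  have h4 := (hF.bruhat_unique hb2 (mul_mem ((hF.tsys F).H_le_B h2) hb) hu' hu heq).2.1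
  have h5 : (h₂ * u0 * h₂⁻¹)⁻¹ * u0 ∈ (hF.tsys F).U :=
    mul_mem (inv_mem ((hF.tsys F).H_conj_US h2 Lie.TorusSys.posL_lt hu0)) hu0
  have h6 : (h₂ * u0 * h₂⁻¹)⁻¹ * u0 = h₂ * a * (a * (n * h₁ * n⁻¹))⁻¹ := by
    calc (h₂ * u0 * h₂⁻¹)⁻¹ * u0
        = (h₂ * u0 * h₂⁻¹)⁻¹ * (u0 * a * (n * h₁ * n⁻¹)) * (a * (n * h₁ * n⁻¹))⁻¹ := by group
      _ = _ := by rw [h4]; group
  have h7 := hF.U_inter_H h5 (h6 ▸ mul_mem (mul_mem h2 ha) (inv_mem (mul_mem ha hk)))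
  rw [h6] at h7
  refine ⟨a * n, mul_mem ((hF.tsys F).H_le_N ha) ((hF.tsys F).nW_mem_N w), ?_⟩
  calc a * n * h₁ * (a * n)⁻¹ = a * (n * h₁ * n⁻¹) * a⁻¹ := by group
    _ = h₂ * a * a⁻¹ := by rw [mul_inv_eq_one.1 h7]
    _ = h₂ := mul_inv_cancel_right _ _

end Cfsg.Agent.S1046
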