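import Cfsg.Statements.S4278
import Cfsg.Agent.Lib.Small.ChevInvol.Main
import Cfsg.Agent.Lib.Small.ChevInvol.DataG2

set_option autoImplicit false
open Cfsg

namespace Cfsg.Agent.S4278

/-- In the Chevalley group of type G₂ over a finite field of odd order, any two involutions are conjugate. -/
theorem result {F : Type*} [Field F] [Fintype F] (hF : Odd (Fintype.card F)) (s t : ↥(Cfsg.Lie.chevG2.group F)) (hs : orderOf s = 2) (ht : orderOf t = 2) : IsConj s t := by
  have h2 := Cfsg.Agent.Small.ChevInvol.two_ne_zero_of_odd hF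
  have hinj := Cfsg.Agent.Small.ChevInvol.torusInj_of_cert (F := F) Cfsg.Agent.Lie.factsG2 Cfsg.Agent.Lie.kerCertG2
  obtain ⟨r, -, hr⟩ := Cfsg.Agent.Small.ChevInvol.exists_sv_elt Cfsg.Agent.Lie.factsG2 hinj h2
    (Cfsg.Agent.Small.ChevInvol.okTable_length Cfsg.Agent.Small.ChevInvol.okOrbitG2A) rfl
  have key : ∀ u : ↥(Cfsg.Lie.chevG2.group F), orderOf u = 2 → IsConj u r := by
    intro u hu
    obtain ⟨p, hp, hp'⟩ := Cfsg.Agent.Small.ChevInvol.exists_isConj Cfsg.Agent.Lie.factsG2 hF hinj
      Cfsg.Agent.Small.ChevInvol.okCombG2 (reps := [([true, false], Cfsg.Agent.Small.ChevInvol.orbitG2A)])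
      (fun p hp => by
        rw [List.mem_singleton] at hp
        subst hp
        exact Cfsg.Agent.Small.ChevInvol.okOrbitG2A) Cfsg.Agent.Small.ChevInvol.okCoverG2 hu
    rw [List.mem_singleton] at hp
    subst hp
    exact hp' r hr
  exact (key s hs).trans (key t ht).symm

end Cfsg.Agent.S4278
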