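import Cfsg.Statements.S2286
import Cfsg.Agent.Lib.Lead.SL2PresEven

set_option autoImplicit false
open Cfsg

namespace Cfsg.Agent.S2286

open Cfsg.Agent.Lead.SL2Pres

/-- For every finite field F, SL_2(F) and PSL_2(F) have presentations with 3 generators and at most 9 relations; when F has characteristic 2, PSL_2(F) has a presentation with 3 generators and at most 5 relations. -/
theorem result {F : Type*} [Field F] [Fintype F] :
    (∃ rels : Finset (FreeGroup (Fin 3)), rels.card ≤ 9 ∧ Nonempty (PresentedGroup (↑rels : Set (FreeGroup (Fin 3))) ≃* Matrix.SpecialLinearGroup (Fin 2) F)) ∧ (∃ rels : Finset (FreeGroup (Fin 3)), rels.card ≤ 9 ∧ Nonempty (PresentedGroup (↑rels : Set (FreeGroup (Fin 3))) ≃* Matrix.ProjectiveSpecialLinearGroup (Fin 2) F)) ∧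
    (CharP F 2 → ∃ rels : Finset (FreeGroup (Fin 3)), rels.card ≤ 5 ∧ Nonempty (PresentedGroup (↑rels : Set (FreeGroup (Fin 3))) ≃* Matrix.ProjectiveSpecialLinearGroup (Fin 2) F)) := by
  classical
  obtain ⟨p, hp⟩ := CharP.exists F
  obtain ⟨n, hpp, hcard⟩ := FiniteField.card F p
  haveI : Fact p.Prime := ⟨hpp⟩
  haveI := hp
  set e := (n : ℕ) with he
  have hF : Nat.card F = p ^ e := by rw [Nat.card_eq_fintype_card, hcard]
  have hSL : Nat.card (Matrix.SpecialLinearGroup (Fin 2) F) =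
      p ^ e * (p ^ e - 1) * (p ^ e + 1) := by
    rw [Cfsg.Agent.Small.SL2C.card_SL2, hcard, mul_assoc]
    congr 1
    rw [mul_comm, ← Nat.sq_sub_sq, one_pow]
  have hPSL := Cfsg.Agent.Lead.GLBasic.card_PSL (F := F) 2
  rw [hSL, hcard] at hPSL
  have hq : 2 ≤ p ^ e := le_trans hpp.two_le (Nat.le_self_pow n.pos.ne' p)
  let π : Matrix.SpecialLinearGroup (Fin 2) F →* Matrix.ProjectiveSpecialLinearGroup (Fin 2) F :=
    QuotientGroup.mk' _
  have hπ : Function.Surjective π := QuotientGroup.mk'_surjective _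
  have hπinj : Function.Injective fun c => π (un c) := by
    intro a b h
    have h' : un (-a + b) ∈ Subgroup.center (Matrix.SpecialLinearGroup (Fin 2) F) := by
      have h2 := QuotientGroup.eq.mp h
      have : (un a)⁻¹ * un b = un (-a + b) := by
        rw [inv_mul_eq_iff_eq_mul, ← un_add, add_neg_cancel_left]
      rwa [this] at h2
    have := eq_zero_of_un_mem_center h'
    linear_combination -this
  have hidinj : Function.Injective fun c => MonoidHom.id _ (un (F := F) c) := un_injective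
  by_cases h2 : p = 2
  · subst h2
    have hg : Nat.gcd 2 (2 ^ e - 1) = 1 := by
      rw [← Nat.coprime_iff_gcd_eq_one, Nat.coprime_two_left]
      refine Nat.Even.sub_odd (by omega) ?_ odd_one
      exact Nat.even_pow.mpr ⟨even_two, n.pos.ne'⟩
    rw [hg, one_mul] at hPSL
    obtain ⟨r1, h1, e1⟩ := even_case e hF (MonoidHom.id _) (fun x => ⟨x, rfl⟩) hidinj hSL
    obtain ⟨r2, h2, e2⟩ := even_case e hF π hπ hπinj hPSL
    exact ⟨⟨r1, le_trans h1 (by norm_num), e1⟩, ⟨r2, le_trans h2 (by norm_num), e2⟩,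
      fun _ => ⟨r2, h2, e2⟩⟩
  · have hp3 : 3 ≤ p := by have := hpp.two_le; omega
    obtain ⟨ζ, hζ⟩ := IsCyclic.exists_generator (α := Fˣ)
    have hodd : Odd (p ^ e) := (hpp.odd_of_ne_two h2).pow
    obtain ⟨k, hk⟩ := hodd
    have hg : Nat.gcd 2 (p ^ e - 1) = 2 := Nat.gcd_eq_left ⟨k, by omega⟩
    rw [hg] at hPSL
    have hζN : ζ ^ (p ^ e - 1) = 1 := by
      have := pow_card_eq_one' (x := ζ)
      rwa [Nat.card_units, hF] at this
    have hdgN : dg ζ ^ (p ^ e - 1) = 1 := by rw [← dg_pow, hζN, dg_one]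
    have hhalf : dg ζ ^ k ∈ Subgroup.center (Matrix.SpecialLinearGroup (Fin 2) F) := by
      have hkk : ((ζ ^ k : Fˣ) : F) ^ 2 = 1 := by
        rw [Units.val_pow_eq_pow_val, ← pow_mul, show k * 2 = p ^ e - 1 by omega,
          ← Units.val_pow_eq_pow_val, hζN, Units.val_one]
      rw [← dg_pow, Matrix.SpecialLinearGroup.mem_center_iff]
      refine ⟨((ζ ^ k : Fˣ) : F), by simpa using hkk, ?_⟩
      have hinv : (((ζ ^ k)⁻¹ : Fˣ) : F) = ((ζ ^ k : Fˣ) : F) := by
        rw [Units.val_inv_eq_inv_val, inv_eq_of_mul_eq_one_right]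
        rw [← pow_two, hkk]
      ext i j
      fin_cases i <;> fin_cases j <;> simp [dg, Matrix.scalar, hinv] <;> simp_all
    obtain ⟨r1, h1, e1⟩ := odd_case p e hp3 hF (MonoidHom.id _) (fun x => ⟨x, rfl⟩) hidinj ζ hζ
      (p ^ e - 1) (by omega) hdgN hSL
    obtain ⟨r2, h2', e2⟩ := odd_case p e hp3 hF π hπ hπinj ζ hζ k (by omega)
      (by rw [← map_pow]; exact (QuotientGroup.eq_one_iff _).mpr hhalf)
      (by
        rw [show p ^ e - 1 = 2 * k by omega] at hPSL
        apply Nat.eq_of_mul_eq_mul_left (show 0 < 2 by norm_num)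
        rw [hPSL]; ring)
    refine ⟨⟨r1, h1, e1⟩, ⟨r2, h2', e2⟩, fun h => absurd ?_ h2⟩
    exact CharP.eq F hp h

end Cfsg.Agent.S2286
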