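import Cfsg.Statements.S2278
import Cfsg.Agent.Lib.Small.SLThreePair

set_option autoImplicit false
open Cfsg

namespace Cfsg.Agent.S2278

/-- Let F be a finite field. Then SL_3(F) is generated by two conjugate regular unipotent elements: there are u with u − 1 nilpotent and (u − 1)² ≠ 0, and g, such that u and g u g⁻¹ generate SL_3(F). -/
theorem result {F : Type*} [Field F] [Fintype F] :
    ∃ u g : Matrix.SpecialLinearGroup (Fin 3) F, IsNilpotent ((u : Matrix (Fin 3) (Fin 3) F) - 1) ∧ ((u : Matrix (Fin 3) (Fin 3) F) - 1) ^ (3 - 1) ≠ 0 ∧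
      Subgroup.closure ({u, g * u * g⁻¹} : Set (Matrix.SpecialLinearGroup (Fin 3) F)) = ⊤ := by
  classical
  suffices H : ∃ s : F, s ≠ 0 ∧ ∃ g : Matrix.SpecialLinearGroup (Fin 3) F,
      Subgroup.closure ({Small.SLThreeGen.uni s, g * Small.SLThreeGen.uni s * g⁻¹} :
        Set (Matrix.SpecialLinearGroup (Fin 3) F)) = ⊤ by
    obtain ⟨s, hs, g, hg⟩ := H
    exact ⟨Small.SLThreeGen.uni s, g, (Small.SLThreeGen.uni_regular hs).1, (Small.SLThreeGen.uni_regular hs).2, hg⟩
  by_cases h2 : (2 : F) = 0
  · rcases Small.SLThreeGen.two_zero_card_four_or_gen h2 with h4 | ⟨b, hb, hgen⟩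
    · obtain ⟨t, -, ht⟩ := Finset.exists_mem_notMem_of_card_lt_card
        (s := ({0, 1} : Finset F)) (t := Finset.univ)
        (by rw [Finset.card_univ, h4]; exact lt_of_le_of_lt Finset.card_le_two (by norm_num))
      simp only [Finset.mem_insert, Finset.mem_singleton, not_or] at ht
      have hcube : ∀ a : F, a ≠ 0 → a ^ 3 = 1 := fun a ha => by
        simpa [h4] using FiniteField.pow_card_sub_one_eq_one a ha
      have htt : t * t = t + 1 := by
        have : (t - 1) * (t * t + t + 1) = 0 := by linear_combination hcube t ht.1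
        rcases mul_eq_zero.1 this with h | h
        · exact absurd (sub_eq_zero.1 h) ht.2
        · linear_combination h - (t + 1) * h2
      refine ⟨1, one_ne_zero, Small.SLThreeGen.gen_four h2 htt fun K hK => eq_top_iff.2 fun a _ => ?_⟩
      by_cases ha : a = 0
      · rw [ha]; exact zero_mem K
      have : (a - 1) * (a - t) * (a - (t + 1)) = 0 := by
        have := hcube a ha
        grind
      rcases mul_eq_zero.1 this with h | h
      · rcases mul_eq_zero.1 h with h | h
        · rw [sub_eq_zero.1 h]; exact one_mem K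
        · rw [sub_eq_zero.1 h]; exact hK
      · rw [sub_eq_zero.1 h]; exact add_mem hK (one_mem K)
    · exact ⟨b ^ 2, pow_ne_zero 2 hb, Small.SLThreeGen.gen_even h2 hb hgen⟩
  · obtain ⟨g, hg0, -, hgen⟩ := Small.SLThreeGen.exists_gen (F := F)
    have hshift : ∀ k : ℕ, ∀ K : Subring F, g + (k : F) ∈ K → K = ⊤ := fun k K hK =>
      hgen K (by simpa using sub_mem hK (natCast_mem K k))
    refine ⟨1, one_ne_zero, ?_⟩
    by_cases hg : g ^ 2 + 12 = 0
    · have h3 : (3 : F) ≠ 0 := by
        intro h3
        exact hg0 (sq_eq_zero_iff.1 (by linear_combination hg - 4 * h3))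
      obtain ⟨k, hk1, hk2, hk3⟩ : ∃ k : ℕ, g + (k : F) ≠ 0 ∧ g + (k : F) ≠ g ∧ g + (k : F) ≠ -g := by
        by_cases a1 : g + 1 = 0
        · by_cases a2 : g + 2 = -g
          · exact ⟨3, by push_cast; grind, by push_cast; grind, by push_cast; grind⟩
          · exact ⟨2, by push_cast; grind, by push_cast; grind, by push_cast; exact a2⟩
        · by_cases a2 : g + 1 = -g
          · by_cases a3 : g + 2 = 0
            · exact absurd (by linear_combination -a2 + 2 * a3 : (3 : F) = 0) h3
            · exact ⟨2, by push_cast; exact a3, by push_cast; grind, by push_cast; grind⟩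
          · exact ⟨1, by push_cast; exact a1, by push_cast; grind, by push_cast; exact a2⟩
      refine Small.SLThreeGen.gen_odd h2 hk1 (fun h => ?_) (hshift k)
      have h' : (g + (k : F) - g) * (g + (k : F) - -g) = 0 := by linear_combination h - hg
      rcases mul_eq_zero.1 h' with h | h
      · exact hk2 (sub_eq_zero.1 h)
      · exact hk3 (sub_eq_zero.1 h)
    · exact Small.SLThreeGen.gen_odd h2 hg0 hg hgen

end Cfsg.Agent.S2278
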