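import Cfsg.Statements.S2279
import Cfsg.Agent.Lib.Small.Generation.TwoUnipotent.Twist
import Cfsg.Agent.Lib.Small.Generation.TwoUnipotent.Prime
-- import your own Cfsg.Agent.* helpers here

set_option autoImplicit false
open Cfsg

namespace Cfsg.Agent.S2279

/-- Let F be a finite field with q elements and n ≥ 4. Then SL_n(F) is generated by two regular unipotent elements (elements u with u − 1 nilpotent and (u − 1)^(n−1) ≠ 0); if q is prime, the two can be taken conjugate in SL_n(F). -/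
theorem result {F : Type*} [Field F] [Fintype F] (n : ℕ) (hn : 4 ≤ n) :
    (∃ u v : Matrix.SpecialLinearGroup (Fin n) F, (IsNilpotent ((u : Matrix (Fin n) (Fin n) F) - 1) ∧ ((u : Matrix (Fin n) (Fin n) F) - 1) ^ (n - 1) ≠ 0) ∧ (IsNilpotent ((v : Matrix (Fin n) (Fin n) F) - 1) ∧ ((v : Matrix (Fin n) (Fin n) F) - 1) ^ (n - 1) ≠ 0) ∧
      Subgroup.closure ({u, v} : Set (Matrix.SpecialLinearGroup (Fin n) F)) = ⊤) ∧
    ((Fintype.card F).Prime → ∃ u g : Matrix.SpecialLinearGroup (Fin n) F, (IsNilpotent ((u : Matrix (Fin n) (Fin n) F) - 1) ∧ ((u : Matrix (Fin n) (Fin n) F) - 1) ^ (n - 1) ≠ 0) ∧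
      Subgroup.closure ({u, g * u * g⁻¹} : Set (Matrix.SpecialLinearGroup (Fin n) F)) = ⊤) := by
  obtain ⟨m, rfl⟩ : ∃ m, n = m + 4 := ⟨n - 4, by omega⟩
  have hJ := Cfsg.Agent.Small.Generation.TwoUnip.J_regular (F := F) (n := m + 4) (by omega)
  refine ⟨?_, fun hp => ?_⟩
  · by_cases hp : (Fintype.card F).Prime
    · obtain ⟨g, hg⟩ := Cfsg.Agent.Small.Generation.TwoUnip.exists_two_conj (F := F) hp hn
      set u := Cfsg.Agent.Small.Generation.TwoUnip.J (F := F) (n := m + 4)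
      have hgi : (g : Matrix (Fin (m + 4)) (Fin (m + 4)) F) *
          ((g⁻¹ : Matrix.SpecialLinearGroup (Fin (m + 4)) F) : Matrix _ _ F) = 1 := by
        rw [← Matrix.SpecialLinearGroup.coe_mul, mul_inv_cancel, Matrix.SpecialLinearGroup.coe_one]
      have hig : ((g⁻¹ : Matrix.SpecialLinearGroup (Fin (m + 4)) F) : Matrix _ _ F) *
          (g : Matrix (Fin (m + 4)) (Fin (m + 4)) F) = 1 := by
        rw [← Matrix.SpecialLinearGroup.coe_mul, inv_mul_cancel, Matrix.SpecialLinearGroup.coe_one]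
      have hpow : ∀ k : ℕ, ((g * u * g⁻¹ : Matrix.SpecialLinearGroup (Fin (m + 4)) F) - 1 :
          Matrix (Fin (m + 4)) (Fin (m + 4)) F) ^ k =
          g.1 * ((u.1 - 1) ^ k) * (g⁻¹).1 := by
        intro k
        induction k with
        | zero => rw [pow_zero, pow_zero, mul_one]; exact hgi.symm
        | succ k ih =>
          have h1 : ((g * u * g⁻¹ : Matrix.SpecialLinearGroup (Fin (m + 4)) F) - 1 :
              Matrix (Fin (m + 4)) (Fin (m + 4)) F) = g.1 * (u.1 - 1) * (g⁻¹).1 := by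
            rw [mul_sub, mul_one, sub_mul, hgi, Matrix.SpecialLinearGroup.coe_mul,
              Matrix.SpecialLinearGroup.coe_mul]
          rw [pow_succ, ih, h1, pow_succ]
          simp only [mul_assoc]
          rw [← mul_assoc (g⁻¹).1 g.1, hig, one_mul]
      obtain ⟨e, he⟩ := hJ.1
      refine ⟨u, g * u * g⁻¹, hJ, ⟨⟨e, by rw [hpow, he, mul_zero, zero_mul]⟩, fun h => hJ.2 ?_⟩, hg⟩
      rw [hpow] at h
      have := congrArg (fun M => (g⁻¹).1 * M * g.1) h
      simp only [mul_zero, zero_mul, mul_assoc, hig, mul_one] at this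
      rwa [← mul_assoc, hig, one_mul] at this
    · obtain ⟨v, h1, h2, h3⟩ := Cfsg.Agent.Small.Generation.TwoUnip.exists_two (F := F) m hp
      exact ⟨_, v, hJ, ⟨h1, h2⟩, h3⟩
  · obtain ⟨g, hg⟩ := Cfsg.Agent.Small.Generation.TwoUnip.exists_two_conj (F := F) hp hn
    exact ⟨_, g, hJ, hg⟩

end Cfsg.Agent.S2279
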