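import Cfsg.Statements.S0281
import Cfsg.Agent.Lib.Small.QuadExt

set_option autoImplicit false
open Cfsg

namespace Cfsg.Agent.S0281

open Matrix

/-- SU_2(q) is isomorphic to SL_2(q). -/
theorem result {F K : Type*} [Field F] [Fintype F] [Field K] [Fintype K] {q : ℕ} (hF : Fintype.card F = q ^ 2) (hK : Fintype.card K = q) : Nonempty (Cfsg.SU 2 F q ≃* Matrix.SpecialLinearGroup (Fin 2) K) := by
  classical
  obtain ⟨S⟩ := Small.QuadExt.exists_setup hK hF
  obtain ⟨ν, hν⟩ := Small.QuadExt.exists_norm_neg_one S hK hF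
  obtain ⟨w, hw⟩ := Small.QuadExt.exists_not_fixed S hK hF
  obtain ⟨t, ht⟩ : ∃ t, t + ν * ν * S.conj t ≠ 0 := by
    by_contra h
    push Not at h
    have h1 := h 1
    rw [map_one, mul_one] at h1
    refine hw ?_
    linear_combination -(h w) + (S.conj w) * h1
  obtain ⟨J, hJ⟩ : ∃ J : Matrix (Fin 2) (Fin 2) F, J = !![0, 1; -1, 0] := ⟨_, rfl⟩
  obtain ⟨M, hM⟩ : ∃ M : Matrix (Fin 2) (Fin 2) F, M = !![1, ν; -(ν * S.conj t), t] := ⟨_, rfl⟩
  have hMdet : IsUnit M.det := by
    rw [hM, Matrix.det_fin_two_of, isUnit_iff_ne_zero]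
    intro h
    exact ht (by linear_combination h)
  have hJ2 : J * J = -1 := by
    rw [hJ]; ext i j; fin_cases i <;> fin_cases j <;> simp [Matrix.mul_apply, Fin.sum_univ_two]
  have hMJ : ν • (M.map S.conj * J) = M := by
    rw [hM, hJ]; ext i j
    fin_cases i <;> fin_cases j <;>
      simp [Matrix.mul_apply, Fin.sum_univ_two, map_neg, map_mul, S.conj_conj]
    · linear_combination -hν
    · linear_combination (-t) * hν
  have key : ∀ A : Matrix.SpecialLinearGroup (Fin 2) F, A ∈ Cfsg.SU 2 F q ↔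
      (A : Matrix (Fin 2) (Fin 2) F).map S.conj * J = J * (A : Matrix (Fin 2) (Fin 2) F) := by
    intro A
    have hd := A.2
    rw [Matrix.det_fin_two] at hd
    have hform : ∀ (B : Matrix (Fin 2) (Fin 2) F) (u v : Fin 2 → F),
        Cfsg.hermForm 2 F q (B *ᵥ u) (B *ᵥ v) = u ⬝ᵥ ((Bᵀ * B.map S.conj) *ᵥ fun i => v i ^ q) := by
      intro B u v
      simp only [Cfsg.hermForm, ← S.conj_eq]
      simp [dotProduct, Matrix.mulVec, Fin.sum_univ_two, Matrix.mul_apply, map_add, map_mul]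
      ring
    have h1 : A ∈ Cfsg.SU 2 F q ↔ ((A : Matrix (Fin 2) (Fin 2) F))ᵀ * (A : Matrix (Fin 2) (Fin 2) F).map S.conj = 1 := by
      constructor
      · intro h
        ext i j
        have e := h (Pi.single i 1) (Pi.single j 1)
        change Cfsg.hermForm 2 F q ((A : Matrix (Fin 2) (Fin 2) F) *ᵥ _) ((A : Matrix (Fin 2) (Fin 2) F) *ᵥ _) = _ at e
        rw [hform] at e
        simp only [Cfsg.hermForm, ← S.conj_eq] at e
        fin_cases i <;> fin_cases j <;>
          simpa [dotProduct, Matrix.mulVec, Fin.sum_univ_two, Pi.single_apply] using e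
      · intro h u v
        change Cfsg.hermForm 2 F q ((A : Matrix (Fin 2) (Fin 2) F) *ᵥ u) ((A : Matrix (Fin 2) (Fin 2) F) *ᵥ v) = _
        rw [hform, h, Matrix.one_mulVec]
        rfl
    have h2 : ((A : Matrix (Fin 2) (Fin 2) F))ᵀ * (J * (A : Matrix (Fin 2) (Fin 2) F)) = J := by
      rw [hJ]; ext i j
      fin_cases i <;> fin_cases j <;> simp [Matrix.mul_apply, Matrix.vecMul, dotProduct, Fin.sum_univ_two]
      · ring
      · linear_combination hd
      · linear_combination -hd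
      · ring
    have hT : IsUnit ((A : Matrix (Fin 2) (Fin 2) F))ᵀ :=
      (Matrix.isUnit_iff_isUnit_det _).mpr (by rw [Matrix.det_transpose, A.2]; exact isUnit_one)
    have hU : IsUnit J := (Matrix.isUnit_iff_isUnit_det _).mpr (by rw [hJ, Matrix.det_fin_two_of]; simp)
    rw [h1]
    constructor
    · intro h
      refine hT.mul_left_cancel ?_
      rw [← Matrix.mul_assoc, h, Matrix.one_mul, h2]
    · intro h
      refine hU.mul_right_cancel ?_
      rw [Matrix.mul_assoc, h, h2, Matrix.one_mul]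
  have hcm : ∀ X : Matrix (Fin 2) (Fin 2) K, (X.map S.emb).map S.conj = X.map S.emb := fun X => by
    ext i j; exact S.conj_emb _
  have hJu : IsUnit J := (Matrix.isUnit_iff_isUnit_det _).mpr (by rw [hJ, Matrix.det_fin_two_of]; simp)
  have hν0 : ν ≠ 0 := fun e => by rw [e, zero_mul] at hν; exact neg_ne_zero.mpr one_ne_zero hν.symm
  have hMi : (M⁻¹).map S.conj * M.map S.conj = 1 := by
    rw [← Matrix.map_mul, Matrix.nonsing_inv_mul M hMdet, Matrix.map_one S.conj (map_zero _) (map_one _)]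
  let ψ : Matrix.SpecialLinearGroup (Fin 2) K →* Matrix.SpecialLinearGroup (Fin 2) F :=
    MonoidHom.mk' (fun B => ⟨M⁻¹ * (B : Matrix (Fin 2) (Fin 2) K).map S.emb * M, by
        rw [Matrix.det_mul, Matrix.det_mul, mul_right_comm, ← Matrix.det_mul,
          Matrix.nonsing_inv_mul M hMdet, Matrix.det_one, one_mul, ← RingHom.mapMatrix_apply, ← RingHom.map_det, B.2,
          map_one]⟩)
      fun B C => Subtype.ext (by
        show M⁻¹ * ((B * C : Matrix.SpecialLinearGroup (Fin 2) K) : Matrix (Fin 2) (Fin 2) K).map S.emb * M =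
          (M⁻¹ * (B : Matrix (Fin 2) (Fin 2) K).map S.emb * M) * (M⁻¹ * (C : Matrix (Fin 2) (Fin 2) K).map S.emb * M)
        simp only [Matrix.SpecialLinearGroup.coe_mul, Matrix.map_mul]
        simp only [Matrix.mul_assoc]
        rw [← Matrix.mul_assoc M M⁻¹, Matrix.mul_nonsing_inv M hMdet, Matrix.one_mul])
  have hψ : ∀ B, ψ B ∈ Cfsg.SU 2 F q := by
    intro B
    rw [key]
    show (M⁻¹ * _ * M).map S.conj * J = J * (M⁻¹ * _ * M)
    rw [Matrix.map_mul, Matrix.map_mul, hcm, Matrix.mul_assoc _ (M.map S.conj) J]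
    have e : J = ν • ((M⁻¹) * (M.map S.conj * J) * J) := by
      rw [← Matrix.smul_mul, ← Matrix.mul_smul, hMJ, Matrix.nonsing_inv_mul M hMdet, Matrix.one_mul]
    have e1 : (M⁻¹).map S.conj * ((B : Matrix (Fin 2) (Fin 2) K).map S.emb * (ν • (M.map S.conj * J))) =
        ν • ((M⁻¹).map S.conj * (B : Matrix (Fin 2) (Fin 2) K).map S.emb * (M.map S.conj * J)) := by
      rw [Matrix.mul_smul, Matrix.mul_smul, Matrix.mul_assoc]
    rw [hMJ] at e1
    have e2 : (M⁻¹).map S.conj = ν • (J * M⁻¹) := by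
      have h3 : (M.map S.conj) * (ν • (J * M⁻¹)) = 1 := by
        rw [Matrix.mul_smul, ← Matrix.mul_assoc, ← Matrix.smul_mul, hMJ, Matrix.mul_nonsing_inv M hMdet]
      calc (M⁻¹).map S.conj = (M⁻¹).map S.conj * (M.map S.conj * (ν • (J * M⁻¹))) := by rw [h3, Matrix.mul_one]
        _ = _ := by rw [← Matrix.mul_assoc, hMi, Matrix.one_mul]
    refine smul_right_injective _ hν0 ?_
    show ν • ((M⁻¹).map S.conj * _ * (M.map S.conj * J)) = ν • (J * _)
    rw [← e1, e2, Matrix.smul_mul]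
    simp only [Matrix.mul_assoc]
  have hinj : Function.Injective ψ := by
    intro B C h
    have h' : M⁻¹ * (B : Matrix (Fin 2) (Fin 2) K).map S.emb * M = M⁻¹ * (C : Matrix (Fin 2) (Fin 2) K).map S.emb * M :=
      congrArg Subtype.val h
    have h'' := congrArg (fun X => M * X * M⁻¹) h'
    simp only [Matrix.mul_assoc, Matrix.mul_nonsing_inv M hMdet, Matrix.mul_one] at h''
    rw [← Matrix.mul_assoc, ← Matrix.mul_assoc M M⁻¹, Matrix.mul_nonsing_inv M hMdet, Matrix.one_mul,
      Matrix.one_mul] at h''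
    exact Subtype.ext (Matrix.map_injective S.emb.injective h'')
  refine ⟨(MulEquiv.ofBijective (ψ.codRestrict _ hψ) ⟨fun B C h => hinj (congrArg Subtype.val h), fun A => ?_⟩).symm⟩
  have hA := (key A.1).mp A.2
  obtain ⟨X, hX⟩ : ∃ X, X = M * (A.1 : Matrix (Fin 2) (Fin 2) F) * M⁻¹ := ⟨_, rfl⟩
  have hXc : X.map S.conj = X := by
    have h3 : (M⁻¹).map S.conj = ν • (J * M⁻¹) := by
      have h3 : (M.map S.conj) * (ν • (J * M⁻¹)) = 1 := by
        rw [Matrix.mul_smul, ← Matrix.mul_assoc, ← Matrix.smul_mul, hMJ, Matrix.mul_nonsing_inv M hMdet]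
      calc (M⁻¹).map S.conj = (M⁻¹).map S.conj * (M.map S.conj * (ν • (J * M⁻¹))) := by rw [h3, Matrix.mul_one]
        _ = _ := by rw [← Matrix.mul_assoc, hMi, Matrix.one_mul]
    rw [hX, Matrix.map_mul, Matrix.map_mul, h3, Matrix.mul_smul, Matrix.mul_assoc (M.map S.conj),
      ← Matrix.mul_assoc _ J, hA, ← Matrix.smul_mul]
    conv_rhs => arg 1; arg 1; rw [← hMJ]
    simp only [Matrix.smul_mul, Matrix.mul_assoc]
  choose Y hY using fun i j => S.fixed (X i j) (congrFun (congrFun hXc i) j)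
  have hYX : (Matrix.of Y).map S.emb = X := Matrix.ext hY
  refine ⟨⟨Matrix.of Y, S.emb.injective ?_⟩, Subtype.ext (Subtype.ext ?_)⟩
  · rw [RingHom.map_det, RingHom.mapMatrix_apply, hYX, map_one, hX, Matrix.det_mul, Matrix.det_mul,
      mul_right_comm, ← Matrix.det_mul, Matrix.mul_nonsing_inv M hMdet, Matrix.det_one, one_mul, A.1.2]
  · show M⁻¹ * (Matrix.of Y).map S.emb * M = _
    rw [hYX, hX]
    simp only [Matrix.mul_assoc, Matrix.nonsing_inv_mul M hMdet, Matrix.mul_one]
    rw [← Matrix.mul_assoc, Matrix.nonsing_inv_mul M hMdet, Matrix.one_mul]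

end Cfsg.Agent.S0281
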