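import Cfsg.Statements.S3639
import Cfsg.Agent.Lib.Lie.SuzukiSp4

set_option autoImplicit false
open Cfsg

namespace Cfsg.Agent.S3639

open Matrix Cfsg.Agent.Lie.Suzuki

section

variable {F : Type*} [Field F] [Fintype F] {m : ℕ} (hF : Fintype.card F = 2 ^ (2 * m + 1))
include hF

omit [Fintype F] hF in
theorem dvd_two_primes {r s d : ℕ} (hr : r.Prime) (hs : s.Prime) (h : d ∣ r * s) :
    d = r * s ∨ d ∣ r ∨ d ∣ s := by
  by_cases h1 : r ∣ d
  · obtain ⟨c, rfl⟩ := h1
    rcases (Nat.dvd_prime hs).1 (Nat.dvd_of_mul_dvd_mul_left hr.pos h) with rfl | rfl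
    · exact Or.inr (Or.inl (by rw [mul_one]))
    · exact Or.inl rfl
  · exact Or.inr (Or.inr ((Nat.Coprime.dvd_mul_left ((hr.coprime_iff_not_dvd.2 h1).symm)).1 h))

theorem pow_half_ne {k : Fˣ} (hk : k ≠ 1) : (k : F) ^ (2 ^ m) ≠ 1 ∧ (k : F) ^ (2 ^ m + 1) ≠ 1 := by
  have h1 : ((k : F) ^ 2 ^ m) ^ 2 ^ (m + 1) = k := by
    apply sq_inj hF
    rw [← pow_mul, ← pow_mul, show 2 ^ m * (2 ^ (m + 1) * 2) = 2 ^ (m + 1) * 2 ^ (m + 1) by ring,
      pow_mul, sg_sg hF]
  have hk' : (k : F) ≠ 1 := fun h => hk (Units.ext h)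
  refine ⟨fun h => hk' ?_, fun h => hk' (eq_one_of_pow_sg_add_one hF ?_)⟩
  · rw [← h1, h, one_pow]
  · have h2 := congrArg (· ^ 2 ^ (m + 1)) h
    simp only [pow_succ (k : F) (2 ^ m), mul_pow, h1, one_pow] at h2
    rw [pow_succ']
    exact h2

/-- An element of odd prime order fixes no nonzero vector. -/
theorem fixed_eq_zero (hm : 1 ≤ m) {g : Cfsg.Sz F m} {r : ℕ} (hr : r.Prime) (hr2 : r ≠ 2)
    (hg : orderOf g = r) {v : Fin 4 → F}
    (hv : ((g : Matrix.SpecialLinearGroup (Fin 4) F) : Matrix (Fin 4) (Fin 4) F) *ᵥ v = v) : v = 0 := by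
  classical
  haveI := Fact.mk hr
  set q := Fintype.card F with hq
  by_cases hd : r ∣ q ^ 2 + 1
  · -- the fixed space has a complement whose order is one more than a multiple of r
    by_contra hv0
    let M : Matrix (Fin 4) (Fin 4) F := ((g : Matrix.SpecialLinearGroup (Fin 4) F) : Matrix (Fin 4) (Fin 4) F)
    let W : Submodule F (Fin 4 → F) := LinearMap.ker (Matrix.mulVecLin M - LinearMap.id)
    have hW : ∀ w, w ∈ W ↔ M *ᵥ w = w := fun w => by simp [W, sub_eq_zero]
    let ψ : Cfsg.Sz F m →* Equiv.Perm (Fin 4 → F) :=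
      { toFun := fun h =>
          { toFun := fun w => ((h : Matrix.SpecialLinearGroup (Fin 4) F) : Matrix (Fin 4) (Fin 4) F) *ᵥ w
            invFun := fun w => (((h⁻¹ : Cfsg.Sz F m) : Matrix.SpecialLinearGroup (Fin 4) F) : Matrix (Fin 4) (Fin 4) F) *ᵥ w
            left_inv := fun w => by
              show _ *ᵥ (_ *ᵥ w) = w
              rw [Matrix.mulVec_mulVec, ← Matrix.SpecialLinearGroup.coe_mul, ← Subgroup.coe_mul, inv_mul_cancel]
              simp
            right_inv := fun w => by
              show _ *ᵥ (_ *ᵥ w) = w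
              rw [Matrix.mulVec_mulVec, ← Matrix.SpecialLinearGroup.coe_mul, ← Subgroup.coe_mul, mul_inv_cancel]
              simp }
        map_one' := by ext w; simp
        map_mul' := fun a b => by ext w; simp [Matrix.mulVec_mulVec] }
    letI : MulAction (Subgroup.zpowers g) (Fin 4 → F) :=
      MulAction.compHom _ (ψ.comp (Subgroup.zpowers g).subtype)
    have hP : IsPGroup r (Subgroup.zpowers g) := IsPGroup.of_card (n := 1) (by rw [Nat.card_zpowers, hg, pow_one])
    have hfix : MulAction.fixedPoints (Subgroup.zpowers g) (Fin 4 → F) = (W : Set (Fin 4 → F)) := by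
      ext w
      rw [SetLike.mem_coe, hW]
      refine ⟨fun h => h ⟨g, Subgroup.mem_zpowers g⟩, fun h => ?_⟩
      rintro ⟨_, i, rfl⟩
      show ψ (g ^ i) w = w
      rw [map_zpow]
      exact Equiv.Perm.zpow_apply_eq_self_of_apply_eq_self h i
    have hmod := hP.card_modEq_card_fixedPoints (Fin 4 → F)
    rw [hfix, Nat.card_fun, Nat.card_fin, Nat.card_eq_fintype_card, ← hq, SetLike.coe_sort_coe,
      Module.natCard_eq_pow_finrank (K := F) (V := W), Nat.card_eq_fintype_card, ← hq] at hmod
    set d := Module.finrank F W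
    have hd4 : d ≤ 4 := by simpa using Submodule.finrank_le W
    have hd0 : 0 < d := by
      refine Module.finrank_pos_iff_exists_ne_zero.2 ⟨⟨v, (hW v).2 hv⟩, ?_⟩
      simpa [Subtype.ext_iff] using hv0
    have hc : (q : ZMod r) ^ 2 = -1 := by
      have := (ZMod.natCast_eq_zero_iff _ r).2 hd
      push_cast at this
      linear_combination this
    have hc4 : (q : ZMod r) ^ 4 = 1 := by rw [show 4 = 2 * 2 from rfl, pow_mul, hc]; ring
    have hmod' : (q : ZMod r) ^ d = 1 := by
      have := (ZMod.natCast_eq_natCast_iff _ _ _).2 hmod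
      push_cast at this
      rw [hc4] at this
      exact this.symm
    have h2 : (2 : ZMod r) ≠ 0 := by
      intro h
      have h' : ((2 : ℕ) : ZMod r) = 0 := by exact_mod_cast h
      exact hr2 ((Nat.prime_dvd_prime_iff_eq hr Nat.prime_two).1 ((ZMod.natCast_eq_zero_iff _ r).1 h'))
    have hd4' : d = 4 := by
      interval_cases d
      · exfalso; rw [pow_one] at hmod'; rw [hmod'] at hc; exact h2 (by linear_combination hc)
      · exfalso; rw [hc] at hmod'; exact h2 (by linear_combination -hmod')
      · exfalso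
        have : (q : ZMod r) = 1 := by
          have h4 : (q : ZMod r) ^ 4 = (q : ZMod r) ^ 3 * q := by ring
          rw [hc4, hmod', one_mul] at h4
          exact h4.symm
        rw [this] at hc; exact h2 (by linear_combination hc)
      · rfl
    have htop : W = ⊤ := Submodule.eq_top_of_finrank_eq (by simp [hd4', d] )
    have hM1 : M = 1 := Matrix.ext_iff_mulVec.2 fun w => by
      rw [Matrix.one_mulVec]; exact (hW w).1 (htop ▸ Submodule.mem_top)
    have : g = 1 := Subtype.ext (Subtype.ext hM1)
    rw [this, orderOf_one] at hg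
    exact hr.ne_one hg.symm
  · -- a fixed point on the ovoid
    have hP : IsPGroup r (Subgroup.zpowers g) := IsPGroup.of_card (n := 1) (by rw [Nat.card_zpowers, hg, pow_one])
    obtain ⟨⟨p, hp⟩, hfix⟩ := hP.nonempty_fixed_point_of_prime_not_dvd_card
      (Cfsg.suzukiOvoid F m) (by rwa [card_ovoid])
    obtain ⟨h, hh, hinf⟩ := to_inf hF hp
    set g' : Cfsg.Sz F m := ⟨h, hh⟩ * g * (⟨h, hh⟩ : Cfsg.Sz F m)⁻¹ with hg'
    have hgo : orderOf g' = r := by
      rw [hg', ← MulAut.conj_apply, MulEquiv.orderOf_eq, hg]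
    have hgp : (g : Matrix.SpecialLinearGroup (Fin 4) F) • p = p :=
      congrArg Subtype.val (hfix ⟨g, Subgroup.mem_zpowers g⟩)
    have hginf : g' • Cfsg.suzukiPointInfinity F = Cfsg.suzukiPointInfinity F := by
      show (h * (g : Matrix.SpecialLinearGroup (Fin 4) F) * h⁻¹) • Cfsg.suzukiPointInfinity F = _
      rw [← hinf, mul_smul, mul_smul, inv_smul_smul, hgp]
    obtain ⟨a, b, k, hk⟩ := sz_fix hF hm g' hginf
    have hk1 : k ≠ 1 := by
      rintro rfl
      rw [map_one, mul_one] at hk
      have h4 : g' ^ 4 = 1 := uSub_pow_four hF (g := g') ⟨a, b, hk⟩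
      have := orderOf_dvd_of_pow_eq_one h4
      rw [hgo, show 4 = 2 ^ 2 from rfl] at this
      exact hr2 ((Nat.prime_dvd_prime_iff_eq hr Nat.prime_two).1 (hr.dvd_of_dvd_pow this))
    obtain ⟨u, hu⟩ : ∃ u, u = (h : Matrix (Fin 4) (Fin 4) F) *ᵥ v := ⟨_, rfl⟩
    have hfixu : ((tM m a b * dM m k : Matrix.SpecialLinearGroup (Fin 4) F) : Matrix (Fin 4) (Fin 4) F) *ᵥ u = u := by
      have e : (tM m a b * dM m k) = h * (g : Matrix.SpecialLinearGroup (Fin 4) F) * h⁻¹ :=
        (congrArg Subtype.val hk).symm
      rw [e, hu, Matrix.mulVec_mulVec, ← Matrix.SpecialLinearGroup.coe_mul, inv_mul_cancel_right,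
        Matrix.SpecialLinearGroup.coe_mul, ← Matrix.mulVec_mulVec, hv]
    rw [Matrix.SpecialLinearGroup.coe_mul, ← Matrix.mulVec_mulVec, dM_mulVec,
      show (tM m a b : Matrix (Fin 4) (Fin 4) F) = tMat m a b from rfl, tMat_mulVec] at hfixu
    have e3 := congrFun hfixu 3
    have e2 := congrFun hfixu 2
    have e1 := congrFun hfixu 1
    have e0 := congrFun hfixu 0
    simp at e3 e2 e1 e0
    obtain ⟨k1, k2⟩ := pow_half_ne hF hk1
    have key : ∀ c x : F, c ≠ 1 → c * x = x → x = 0 := fun c x hc h =>
      (mul_eq_zero.1 (show (c - 1) * x = 0 by linear_combination h)).resolve_left (sub_ne_zero.2 hc)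
    have u3 : u 3 = 0 := key _ _ (fun h => k2 (inv_eq_one.1 h)) e3
    have u2 : u 2 = 0 := by
      rw [u3] at e2
      simp at e2
      exact key _ _ (fun h => k1 (inv_eq_one.1 h)) e2
    have u1 : u 1 = 0 := by
      rw [u3, u2] at e1
      simp at e1
      exact key _ _ k1 e1
    have u0 : u 0 = 0 := by
      rw [u3, u2, u1] at e0
      simp at e0
      exact key _ _ k2 e0
    have hu0 : u = 0 := by funext i; fin_cases i <;> assumption
    have h5 := congrArg (fun w => ((h⁻¹ : Matrix.SpecialLinearGroup (Fin 4) F) : Matrix (Fin 4) (Fin 4) F) *ᵥ w) hu0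
    simp only [hu] at h5
    rwa [Matrix.mulVec_mulVec, ← Matrix.SpecialLinearGroup.coe_mul, inv_mul_cancel,
      Matrix.SpecialLinearGroup.coe_one, Matrix.one_mulVec, Matrix.mulVec_zero] at h5

end

/-- Let S be the Suzuki group over the field with q = 2^(2m+1) ≥ 8 elements. Then there are finite groups of arbitrarily large order with the same prime graph as S. -/
theorem result {F : Type*} [Field F] [Fintype F] {m : ℕ} (hm : 1 ≤ m) (hF : Fintype.card F = 2 ^ (2 * m + 1)) (N : ℕ) :
    ∃ (H : Type) (_ : Group H) (_ : Fintype H), N < Fintype.card H ∧ ((∀ r : ℕ, r.Prime → (r ∣ Nat.card ↥(Cfsg.Lie.Sz F (2 ^ (m + 1))) ↔ r ∣ Nat.card H)) ∧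
      (∀ r s : ℕ, r.Prime → s.Prime → r ≠ s → ((∃ x : ↥(Cfsg.Lie.Sz F (2 ^ (m + 1))), orderOf x = r * s) ↔ (∃ y : H, orderOf y = r * s)))) := by
  classical
  obtain ⟨e⟩ := lie_sz_equiv hF hm
  let ρ : Cfsg.Sz F m →* MulAut (Multiplicative (Fin (N + 1) → Fin 4 → F)) :=
    { toFun := fun g =>
        { toFun := fun w => Multiplicative.ofAdd fun i =>
            ((g : Matrix.SpecialLinearGroup (Fin 4) F) : Matrix (Fin 4) (Fin 4) F) *ᵥ w.toAdd i
          invFun := fun w => Multiplicative.ofAdd fun i =>
            (((g⁻¹ : Cfsg.Sz F m) : Matrix.SpecialLinearGroup (Fin 4) F) : Matrix (Fin 4) (Fin 4) F) *ᵥ w.toAdd i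
          left_inv := fun w => by
            refine Multiplicative.toAdd.injective (funext fun i => ?_)
            simp only [toAdd_ofAdd]
            rw [Matrix.mulVec_mulVec, ← Matrix.SpecialLinearGroup.coe_mul, ← Subgroup.coe_mul, inv_mul_cancel]
            simp
          right_inv := fun w => by
            refine Multiplicative.toAdd.injective (funext fun i => ?_)
            simp only [toAdd_ofAdd]
            rw [Matrix.mulVec_mulVec, ← Matrix.SpecialLinearGroup.coe_mul, ← Subgroup.coe_mul, mul_inv_cancel]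
            simp
          map_mul' := fun v w => congrArg Multiplicative.ofAdd (funext fun i => Matrix.mulVec_add _ _ _) }
      map_one' := MulEquiv.ext fun w => Multiplicative.toAdd.injective (funext fun i => by
        show _ *ᵥ w.toAdd i = w.toAdd i
        simp)
      map_mul' := fun a b => MulEquiv.ext fun w => Multiplicative.toAdd.injective (funext fun i => by
        exact (Matrix.mulVec_mulVec (w.toAdd i) _ _).symm) }
  let X := Multiplicative (Fin (N + 1) → Fin 4 → F) ⋊[ρ] Cfsg.Sz F m
  haveI : Finite X := Finite.of_equiv _ SemidirectProduct.equivProd.symm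
  let c : {_x : Fin (Nat.card X) // True} ≃ X :=
    (Equiv.subtypeUnivEquiv fun _ => trivial).trans (Finite.equivFin X).symm
  letI : Group {_x : Fin (Nat.card X) // True} := c.group
  let E : {_x : Fin (Nat.card X) // True} ≃* X := ⟨c, fun a b => c.apply_symm_apply (c a * c b)⟩
  have hcard : Nat.card X = Fintype.card F ^ (4 * (N + 1)) * Nat.card (Cfsg.Lie.Sz F (2 ^ (m + 1))) := by
    rw [SemidirectProduct.card, Nat.card_congr Multiplicative.toAdd, Nat.card_fun, Nat.card_fun, Nat.card_fin,
      Nat.card_fin, Nat.card_eq_fintype_card, ← pow_mul, Nat.card_congr e.toEquiv]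
  have hw : orderOf (wS (m := m) hF) = 2 := by
    refine orderOf_eq_prime (by rw [pow_two]; exact wS_mul_self hF) fun h => ?_
    have h' := congrFun (congrFun (congrArg Subtype.val (congrArg Subtype.val h)) 0) 0
    simp [wS, wM] at h'
  have h2L : 2 ∣ Nat.card (Cfsg.Lie.Sz F (2 ^ (m + 1))) := by
    rw [← Nat.card_congr e.toEquiv, ← hw]
    exact orderOf_dvd_natCard _
  have hexp : ∀ v : Multiplicative (Fin (N + 1) → Fin 4 → F), v ^ 2 = 1 := fun v => by
    refine Multiplicative.toAdd.injective ?_
    funext i j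
    rw [pow_two]
    show v.toAdd i j + v.toAdd i j = 0
    exact add_self hF _
  refine ⟨{_x : Fin (Nat.card X) // True}, inferInstance, inferInstance, ?_, fun r hr => ?_, fun r s hr hs hrs => ?_⟩
  · rw [← Nat.card_eq_fintype_card, Nat.card_congr c, hcard]
    have h1 : N < 2 ^ (4 * (N + 1)) := lt_trans (by omega) Nat.lt_two_pow_self
    have h2 : 2 ^ (4 * (N + 1)) ≤ Fintype.card F ^ (4 * (N + 1)) := by
      refine Nat.pow_le_pow_left ?_ _
      exact Fintype.one_lt_card
    exact lt_of_lt_of_le h1 (h2.trans (Nat.le_mul_of_pos_right _ Nat.card_pos))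
  · rw [Nat.card_congr c, hcard]
    refine ⟨fun h => h.mul_left _, fun h => ?_⟩
    rcases hr.dvd_mul.1 h with h' | h'
    · rw [hF, ← pow_mul] at h'
      rw [(Nat.prime_dvd_prime_iff_eq hr Nat.prime_two).1 (hr.dvd_of_dvd_pow h')]
      exact h2L
    · exact h'
  · constructor
    · rintro ⟨x, hx⟩
      exact ⟨E.symm (SemidirectProduct.inr (e.symm x)), by
        rw [MulEquiv.orderOf_eq, orderOf_injective _ SemidirectProduct.inr_injective, MulEquiv.orderOf_eq, hx]⟩
    · rintro ⟨y, hy⟩
      set z := E y with hz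
      have hzo : orderOf z = r * s := by rw [hz, MulEquiv.orderOf_eq, hy]
      have hdvd : orderOf z.right ∣ r * s := hzo ▸ orderOf_map_dvd SemidirectProduct.rightHom z
      have key : ∀ a b : ℕ, a.Prime → b.Prime → a ≠ b → orderOf z = a * b → orderOf z.right ∣ a →
          False := by
        intro a b ha hb hab hab' h
        have hra : (z ^ a).right = 1 := by
          show SemidirectProduct.rightHom (z ^ a) = 1
          rw [map_pow]
          exact orderOf_dvd_iff_pow_eq_one.1 h
        have hz2 : (z ^ a) ^ 2 = 1 := by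
          have : z ^ a = SemidirectProduct.inl (z ^ a).left := by
            conv_lhs => rw [← SemidirectProduct.inl_left_mul_inr_right (z ^ a)]
            rw [hra, map_one, mul_one]
          rw [this, ← map_pow, hexp, map_one]
        have hob : orderOf (z ^ a) = b := by
          rw [orderOf_pow' _ ha.ne_zero, hab', Nat.gcd_eq_right (dvd_mul_right a b), Nat.mul_div_cancel_left _ ha.pos]
        have hb2 : b = 2 := by
          have := orderOf_dvd_of_pow_eq_one hz2
          rw [hob] at this
          exact (Nat.prime_dvd_prime_iff_eq hb Nat.prime_two).1 this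
        subst hb2
        haveI := Fact.mk ha
        -- the odd element z ^ 2 moves every vector
        have hright : (z ^ 2).right ^ a = 1 := by
          show (SemidirectProduct.rightHom (z ^ 2)) ^ a = 1
          rw [← map_pow, ← pow_mul, mul_comm, ← hab', pow_orderOf_eq_one, map_one]
        have hne : (z ^ 2).right ≠ 1 := by
          intro h1
          have h2 : z ^ 2 = SemidirectProduct.inl (z ^ 2).left := by
            conv_lhs => rw [← SemidirectProduct.inl_left_mul_inr_right (z ^ 2)]
            rw [h1, map_one, mul_one]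
          have h3 : (z ^ 2) ^ 2 = 1 := by rw [h2, ← map_pow, hexp, map_one]
          rw [← pow_mul] at h3
          have := orderOf_dvd_of_pow_eq_one h3
          rw [hab', show 2 * 2 = 2 * 2 from rfl] at this
          have h4 : a ∣ 2 * 2 := (dvd_mul_right a 2).trans this
          rcases ha.dvd_mul.1 h4 with h5 | h5 <;>
            exact hab ((Nat.prime_dvd_prime_iff_eq ha Nat.prime_two).1 h5)
        set u := (z ^ a).left with hu
        have hcomm : z ^ 2 * z ^ a = z ^ a * z ^ 2 := (Commute.pow_pow (Commute.refl z) 2 a).eq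
        have hl := congrArg SemidirectProduct.left hcomm
        rw [SemidirectProduct.mul_left, SemidirectProduct.mul_left, hra, map_one, MulAut.one_apply,
          mul_comm u] at hl
        have hu0 : u = 1 := by
          refine Multiplicative.toAdd.injective (funext fun i => ?_)
          refine fixed_eq_zero hF hm ha hab (orderOf_eq_prime hright hne) ?_
          exact congrFun (congrArg Multiplicative.toAdd (mul_left_cancel hl)) i
        have : z ^ a = 1 := by
          rw [← SemidirectProduct.inl_left_mul_inr_right (z ^ a), ← hu, hu0, hra, map_one, map_one, mul_one]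
        rw [this, orderOf_one] at hob
        omega
      refine ⟨e z.right, ?_⟩
      rw [MulEquiv.orderOf_eq]
      rcases (dvd_two_primes hr hs hdvd) with h | h | h
      · exact h
      · exact absurd h (fun h => key r s hr hs hrs hzo h)
      · exact absurd h (fun h => key s r hs hr (Ne.symm hrs) (by rw [hzo, mul_comm]) h)

end Cfsg.Agent.S3639
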