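import Cfsg.Statements.S0572
import Mathlib.Tactic.Group

set_option autoImplicit false
open Cfsg

namespace Cfsg.Agent.S0572

/-- Itô's Theorem: if a group G is the product AB of two abelian subgroups, then the commutator subgroup of G is abelian, i.e. the second term of the derived series is trivial. -/
theorem result {G : Type*} [Group G] (A B : Subgroup G) [IsMulCommutative A] [IsMulCommutative B] (hAB : ∀ g : G, ∃ a ∈ A, ∃ b ∈ B, g = a * b) : derivedSeries G 2 = ⊥ := by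
  have hBA : ∀ g : G, ∃ b ∈ B, ∃ a ∈ A, g = b * a := by
    intro g
    obtain ⟨a, ha, b, hb, h⟩ := hAB g⁻¹
    exact ⟨b⁻¹, B.inv_mem hb, a⁻¹, A.inv_mem ha, by rw [← mul_inv_rev, ← h, inv_inv]⟩
  have cA : ∀ x ∈ A, ∀ y ∈ A, x * y = y * x := fun x hx y hy =>
    congrArg Subtype.val (mul_comm' (⟨x, hx⟩ : A) ⟨y, hy⟩)
  have cB : ∀ x ∈ B, ∀ y ∈ B, x * y = y * x := fun x hx y hy =>
    congrArg Subtype.val (mul_comm' (⟨x, hx⟩ : B) ⟨y, hy⟩)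
  set T : Set G := {c | ∃ a ∈ A, ∃ b ∈ B, c = a * b * a⁻¹ * b⁻¹} with hT
  have key : ∀ a ∈ A, ∀ b ∈ B, ∀ a1 ∈ A, ∀ b1 ∈ B, ∃ a2 ∈ A, ∃ b3 ∈ B,
      b1 * (a * b * a⁻¹ * b⁻¹) * b1⁻¹ = a2 * b * a2⁻¹ * b⁻¹ ∧
      a1 * (a * b * a⁻¹ * b⁻¹) * a1⁻¹ = a * b3 * a⁻¹ * b3⁻¹ ∧
      (a1 * b1) * (a * b * a⁻¹ * b⁻¹) * (a1 * b1)⁻¹ =
        (b1 * a1) * (a * b * a⁻¹ * b⁻¹) * (b1 * a1)⁻¹ := by
    intro a ha b hb a1 ha1 b1 hb1
    obtain ⟨a2, ha2, b2, hb2, e2⟩ := hAB (b1 * a * b1⁻¹)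
    obtain ⟨b3, hb3, a3, ha3, e3⟩ := hBA (a1 * b * a1⁻¹)
    have P : ∀ (x : G) (a' : G), a' ∈ A → ∀ b' ∈ B, x = b1 * a * b1⁻¹ → x = a' * b' →
        ∀ c ∈ B, b1 * (a * c * a⁻¹ * c⁻¹) * b1⁻¹ = a' * c * a'⁻¹ * c⁻¹ := by
      intro x a' _ b' hb' hx hx' c hc
      calc b1 * (a * c * a⁻¹ * c⁻¹) * b1⁻¹
          = (b1 * a * b1⁻¹) * (b1 * c * b1⁻¹) * (b1 * a * b1⁻¹)⁻¹ * (b1 * c * b1⁻¹)⁻¹ := by group
        _ = (a' * b') * c * (a' * b')⁻¹ * c⁻¹ := by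
            rw [← hx, hx', cB b1 hb1 c hc, mul_inv_cancel_right]
        _ = a' * (b' * c * b'⁻¹) * a'⁻¹ * c⁻¹ := by group
        _ = a' * c * a'⁻¹ * c⁻¹ := by rw [cB b' hb' c hc, mul_inv_cancel_right]
    have Q : ∀ (x : G) (b' : G), b' ∈ B → ∀ a' ∈ A, x = a1 * b * a1⁻¹ → x = b' * a' →
        ∀ c ∈ A, a1 * (c * b * c⁻¹ * b⁻¹) * a1⁻¹ = c * b' * c⁻¹ * b'⁻¹ := by
      intro x b' _ a' ha' hx hx' c hc
      calc a1 * (c * b * c⁻¹ * b⁻¹) * a1⁻¹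
          = (a1 * c * a1⁻¹) * (a1 * b * a1⁻¹) * (a1 * c * a1⁻¹)⁻¹ * (a1 * b * a1⁻¹)⁻¹ := by group
        _ = c * (b' * a') * c⁻¹ * (b' * a')⁻¹ := by
            rw [← hx, hx', cA a1 ha1 c hc, mul_inv_cancel_right]
        _ = c * b' * (a' * c⁻¹ * a'⁻¹) * b'⁻¹ := by group
        _ = c * b' * c⁻¹ * b'⁻¹ := by rw [cA a' ha' c⁻¹ (A.inv_mem hc), mul_inv_cancel_right]
    refine ⟨a2, ha2, b3, hb3, P _ a2 ha2 b2 hb2 rfl e2 b hb, Q _ b3 hb3 a3 ha3 rfl e3 a ha, ?_⟩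
    calc (a1 * b1) * (a * b * a⁻¹ * b⁻¹) * (a1 * b1)⁻¹
        = a1 * (b1 * (a * b * a⁻¹ * b⁻¹) * b1⁻¹) * a1⁻¹ := by group
      _ = a2 * b3 * a2⁻¹ * b3⁻¹ := by
          rw [P _ a2 ha2 b2 hb2 rfl e2 b hb, Q _ b3 hb3 a3 ha3 rfl e3 a2 ha2]
      _ = b1 * (a1 * (a * b * a⁻¹ * b⁻¹) * a1⁻¹) * b1⁻¹ := by
          rw [Q _ b3 hb3 a3 ha3 rfl e3 a ha, P _ a2 ha2 b2 hb2 rfl e2 b3 hb3]
      _ = (b1 * a1) * (a * b * a⁻¹ * b⁻¹) * (b1 * a1)⁻¹ := by group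
  have hS : (Subgroup.closure T).Normal := by
    have hmap : ∀ g : G, (∀ c ∈ T, g * c * g⁻¹ ∈ Subgroup.closure T) →
        ∀ n ∈ Subgroup.closure T, g * n * g⁻¹ ∈ Subgroup.closure T := by
      intro g hg n hn
      have : Subgroup.closure T ≤ (Subgroup.closure T).comap (MulAut.conj g).toMonoidHom :=
        (Subgroup.closure_le _).2 fun c hc => by simpa using hg c hc
      simpa using this hn
    refine ⟨fun n hn g => ?_⟩
    obtain ⟨a1, ha1, b1, hb1, rfl⟩ := hAB g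
    have h1 : b1 * n * b1⁻¹ ∈ Subgroup.closure T := by
      refine hmap b1 ?_ n hn
      rintro c ⟨a, ha, b, hb, rfl⟩
      obtain ⟨a2, ha2, b3, _, e, -, -⟩ := key a ha b hb 1 A.one_mem b1 hb1
      exact Subgroup.subset_closure ⟨a2, ha2, b, hb, e⟩
    have h2 : a1 * (b1 * n * b1⁻¹) * a1⁻¹ ∈ Subgroup.closure T := by
      refine hmap a1 ?_ _ h1
      rintro c ⟨a, ha, b, hb, rfl⟩
      obtain ⟨a2, _, b3, hb3, -, e, -⟩ := key a ha b hb a1 ha1 1 B.one_mem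
      exact Subgroup.subset_closure ⟨a, ha, b3, hb3, e⟩
    have e : a1 * (b1 * n * b1⁻¹) * a1⁻¹ = a1 * b1 * n * (a1 * b1)⁻¹ := by group
    rwa [← e]
  have hcomm : ∀ c ∈ T, ∀ d ∈ T, c * d = d * c := by
    rintro c ⟨a', ha', b', hb', rfl⟩ d ⟨a, ha, b, hb, rfl⟩
    obtain ⟨-, -, -, -, -, -, e⟩ := key a ha b hb a'⁻¹ (A.inv_mem ha') b'⁻¹ (B.inv_mem hb')
    generalize a * b * a⁻¹ * b⁻¹ = d at e ⊢
    calc a' * b' * a'⁻¹ * b'⁻¹ * d
        = a' * b' * (a'⁻¹ * b'⁻¹ * d * (a'⁻¹ * b'⁻¹)⁻¹) * (a'⁻¹ * b'⁻¹) := by group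
      _ = d * (a' * b' * a'⁻¹ * b'⁻¹) := by rw [e]; group
  have habel : Subgroup.closure T ≤ Subgroup.centralizer (Subgroup.closure T : Set G) := by
    rw [Subgroup.closure_le]
    intro c hc
    rw [SetLike.mem_coe, Subgroup.mem_centralizer_iff]
    intro x hx
    have : Subgroup.closure T ≤ Subgroup.centralizer {c} := (Subgroup.closure_le _).2 fun d hd => by
      rw [SetLike.mem_coe, Subgroup.mem_centralizer_singleton_iff]
      exact hcomm d hd c hc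
    exact (Subgroup.mem_centralizer_singleton_iff.1 (this hx))
  have hone : derivedSeries G 1 ≤ Subgroup.closure T := by
    rw [derivedSeries_one, commutator_def, Subgroup.commutator_le]
    intro g _ h _
    haveI := hS
    have hc : ∀ a ∈ A, ∀ b ∈ B,
        (a : G ⧸ Subgroup.closure T) * (b : G ⧸ Subgroup.closure T) = (b : G ⧸ Subgroup.closure T) * a := by
      intro a ha b hb
      rw [← QuotientGroup.mk_mul, ← QuotientGroup.mk_mul]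
      symm
      rw [QuotientGroup.eq]
      have : a⁻¹ * b⁻¹ * (a⁻¹)⁻¹ * (b⁻¹)⁻¹ ∈ Subgroup.closure T :=
        Subgroup.subset_closure ⟨a⁻¹, A.inv_mem ha, b⁻¹, B.inv_mem hb, rfl⟩
      simpa [mul_assoc] using this
    rw [← QuotientGroup.eq_one_iff]
    obtain ⟨a, ha, b, hb, rfl⟩ := hAB g
    obtain ⟨a', ha', b', hb', rfl⟩ := hAB h
    have hh : Commute ((a * b : G) : G ⧸ Subgroup.closure T) ((a' * b' : G) : G ⧸ Subgroup.closure T) := by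
      rw [QuotientGroup.mk_mul, QuotientGroup.mk_mul]
      have haa : Commute (a : G ⧸ Subgroup.closure T) (a' : G ⧸ Subgroup.closure T) := by
        show _ * _ = _ * _
        rw [← QuotientGroup.mk_mul, ← QuotientGroup.mk_mul, cA a ha a' ha']
      have hbb : Commute (b : G ⧸ Subgroup.closure T) (b' : G ⧸ Subgroup.closure T) := by
        show _ * _ = _ * _
        rw [← QuotientGroup.mk_mul, ← QuotientGroup.mk_mul, cB b hb b' hb']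
      exact (haa.mul_right (hc a ha b' hb')).mul_left ((Commute.symm (hc a' ha' b hb)).mul_right hbb)
    rw [commutatorElement_def, QuotientGroup.mk_mul, QuotientGroup.mk_mul, QuotientGroup.mk_mul,
      QuotientGroup.mk_inv, QuotientGroup.mk_inv]
    rw [hh.eq]
    group
  rw [derivedSeries_succ, eq_bot_iff]
  calc ⁅derivedSeries G 1, derivedSeries G 1⁆ ≤ ⁅Subgroup.closure T, Subgroup.closure T⁆ :=
        Subgroup.commutator_mono hone hone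
    _ ≤ ⊥ := le_of_eq (Subgroup.commutator_eq_bot_iff_le_centralizer.2 habel)

end Cfsg.Agent.S0572
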