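import Cfsg.Statements.S0617
import Cfsg.Agent.Lib.Fusion.OffenderStructure

set_option autoImplicit false
open Cfsg
open Cfsg.Agent.Fusion
open scoped commutatorElement

namespace Cfsg.Agent.S0617

/-- Structure Theorem for failure of factorization: a faithful group generated by best offenders, with self-centralizing p'-core, is a direct product of copies of SL(2, p) (p = 2 or 3), each acting on its own plane in V, which is the direct product of these planes and C_V(H). -/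
theorem result {G : Type*} [Group G] [Finite G] {p : ℕ} [Fact p.Prime] (V H : Subgroup G) (hV : Cfsg.IsElementaryAbelian p V) (hHV : H ≤ Subgroup.normalizer (V : Set G)) (hf : H ⊓ Subgroup.centralizer (V : Set G) = ⊥) (hS1 : Subgroup.centralizer (Cfsg.pPrimeCore p ↥H : Set ↥H) ≤ Cfsg.pPrimeCore p ↥H) (hS3 : H = ⨆ A : {A : Subgroup G // A ≤ H ∧ Cfsg.IsBestOffenderOn p V A}, (A : Subgroup G)) (hH1 : H ≠ ⊥) : (p = 2 ∨ p = 3) ∧ (∀ E : {E : Subgroup G // ∃ A : Subgroup G, A ≤ H ∧ Cfsg.IsBestOffenderOn p V A ∧ ⁅V, A⁆ ≠ ⊥ ∧ (∀ B : Subgroup G, B ≤ A → Cfsg.IsBestOffenderOn p V B → ⁅V, B⁆ ≠ ⊥ → B = A) ∧ E = ⁅((Cfsg.pPrimeCore p ↥H).map H.subtype), A⁆ ⊔ A}, H ≤ Subgroup.normalizer ((E : Subgroup G) : Set G) ∧ Nonempty (↥(E : Subgroup G) ≃* Matrix.SpecialLinearGroup (Fin 2) (ZMod p)) ∧ Nat.card ↥(⁅V, (E : Subgroup G)⁆) = p ^ 2) ∧ iSupIndep (fun E : {E : Subgroup G // ∃ A : Subgroup G, A ≤ H ∧ Cfsg.IsBestOffenderOn p V A ∧ ⁅V, A⁆ ≠ ⊥ ∧ (∀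 B : Subgroup G, B ≤ A → Cfsg.IsBestOffenderOn p V B → ⁅V, B⁆ ≠ ⊥ → B = A) ∧ E = ⁅((Cfsg.pPrimeCore p ↥H).map H.subtype), A⁆ ⊔ A} => (E : Subgroup G)) ∧ (⨆ E : {E : Subgroup G // ∃ A : Subgroup G, A ≤ H ∧ Cfsg.IsBestOffenderOn p V A ∧ ⁅V, A⁆ ≠ ⊥ ∧ (∀ B : Subgroup G, B ≤ A → Cfsg.IsBestOffenderOn p V B → ⁅V, B⁆ ≠ ⊥ → B = A) ∧ E = ⁅((Cfsg.pPrimeCore p ↥H).map H.subtype), A⁆ ⊔ A}, (E : Subgroup G)) = H ∧ iSupIndep (fun o : Option {E : Subgroup G // ∃ A : Subgroup G, A ≤ H ∧ Cfsg.IsBestOffenderOn p V A ∧ ⁅V, A⁆ ≠ ⊥ ∧ (∀ B : Subgroup G, B ≤ A → Cfsg.IsBestOffenderOn p V B → ⁅V, B⁆ ≠ ⊥ → B = A) ∧ E = ⁅((Cfsg.pPrimeCore p ↥H).map H.subtype), A⁆ ⊔ A} => o.elim (V ⊓ Subgroup.centralizer (H : Set G)) (fun E => ⁅V, (E : Subgroup G)⁆)) ∧ (V ⊓ Subgroup.centralizer (H : Set G)) ⊔ (⨆ E : {E : Subgroup G // ∃ A : Subgroup G, A ≤ H ∧ Cfsg.IsBestOffenderOn p V A ∧ ⁅V, A⁆ ≠ ⊥ ∧ (∀ B : Subgroup G, B ≤ A → Cfsg.IsBestOffenderOn p V B → ⁅V, B⁆ ≠ ⊥ →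 B = A) ∧ E = ⁅((Cfsg.pPrimeCore p ↥H).map H.subtype), A⁆ ⊔ A}, ⁅V, (E : Subgroup G)⁆) = V := by
  classical
  have g : OffGen p V H := ⟨⟨hV, hHV, hf, hS1⟩, hS3, hH1⟩
  set ι := {E : Subgroup G // ∃ A : Subgroup G, A ≤ H ∧ Cfsg.IsBestOffenderOn p V A ∧ ⁅V, A⁆ ≠ ⊥ ∧ (∀ B : Subgroup G, B ≤ A → Cfsg.IsBestOffenderOn p V B → ⁅V, B⁆ ≠ ⊥ → B = A) ∧ E = ⁅((Cfsg.pPrimeCore p ↥H).map H.subtype), A⁆ ⊔ A} with hι
  have data : ∀ E : ι, ∃ A x, TPair p V H A x ∧ (E : Subgroup G) = A ⊔ cjS x A := by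
    rintro ⟨E, A, hA1, hA2, hA3, hA4, rfl⟩
    obtain ⟨x, P⟩ := g.ctx.exists_pair (g.tgrp_of_minimal hA1 hA2 hA3 hA4) hA1
    exact ⟨A, x, P, P.sup_eq.symm⟩
  have split : ∀ E : ι, ⁅V, (E : Subgroup G)⁆ ≤ V ∧
      ⁅V, (E : Subgroup G)⁆ ⊓ Subgroup.centralizer ((E : Subgroup G) : Set G) = ⊥ ∧
      ⁅V, (E : Subgroup G)⁆ ⊔ (V ⊓ Subgroup.centralizer ((E : Subgroup G) : Set G)) = V := by
    intro E
    obtain ⟨A, x, P, e⟩ := data E
    rw [e, P.comm_eq]
    exact ⟨P.plane_le, P.fix_inf, P.fix_sup⟩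
  -- distinct factors centralize each other's planes
  have other : ∀ E E' : ι, E' ≠ E →
      (E' : Subgroup G) ≤ H ⊓ Subgroup.centralizer ((⁅V, (E : Subgroup G)⁆ : Subgroup G) : Set G) := by
    rintro E ⟨E', A', hA1, hA2, hA3, hA4, rfl⟩ hne
    obtain ⟨A, x, P, e⟩ := data E
    have t := g.tgrp_of_minimal hA1 hA2 hA3 hA4
    obtain ⟨x', P'⟩ := g.ctx.exists_pair t hA1
    rw [e, P.comm_eq]
    rcases P.dichotomy t hA1 with h | h
    · exfalso
      apply hne
      refine Subtype.ext ?_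
      show ⁅coreIn p H, A'⁆ ⊔ A' = _
      rw [← P'.sup_eq, e]
      have hle : A' ⊔ cjS x' A' ≤ A ⊔ cjS x A := by
        refine sup_le h ?_
        rintro _ ⟨a, ha, rfl⟩
        exact P.core_norm P'.mem (h ha)
      obtain ⟨-, σ, -⟩ := P.exists_natural
      obtain ⟨-, σ', -⟩ := P'.exists_natural
      refine Subgroup.eq_of_le_of_card_ge hle (le_of_eq ?_)
      rw [Nat.card_congr σ.toEquiv, Nat.card_congr σ'.toEquiv]
    · show ⁅coreIn p H, A'⁆ ⊔ A' ≤ _
      rw [← P'.sup_eq]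
      refine sup_le h ?_
      rintro _ ⟨a, ha, rfl⟩
      have hx' := coreIn_le P'.mem
      refine Subgroup.mem_inf.2 ⟨mul_mem (mul_mem hx' (Subgroup.mem_inf.1 (h ha)).1) (inv_mem hx'),
        Subgroup.mem_centralizer_iff.2 fun w hw => ?_⟩
      have h2 := Subgroup.mem_centralizer_iff.1 (Subgroup.mem_inf.1 (h ha)).2 (x'⁻¹ * w * x') (by
        simpa using P.core_plane (inv_mem P'.mem) hw)
      show w * (x' * a * x'⁻¹) = x' * a * x'⁻¹ * w
      calc w * (x' * a * x'⁻¹) = x' * (x'⁻¹ * w * x' * a) * x'⁻¹ := by group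
        _ = x' * (a * (x'⁻¹ * w * x')) * x'⁻¹ := by rw [h2]
        _ = _ := by group
  have plane_fix : ∀ E E' : ι, E' ≠ E →
      ⁅V, (E' : Subgroup G)⁆ ≤ V ⊓ Subgroup.centralizer ((E : Subgroup G) : Set G) := by
    intro E E' hne
    obtain ⟨A, x, P, e⟩ := data E
    have h := g.comm_le_fix P
    rw [← P.comm_eq, ← e] at h
    exact (Subgroup.commutator_mono le_rfl (other E E' hne)).trans h
  have hsup : (⨆ E : ι, (E : Subgroup G)) = H := by
    refine le_antisymm (iSup_le fun E => ?_) (g.induction fun B hB hoff t => ?_)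
    · obtain ⟨A, x, P, e⟩ := data E
      rw [e]; exact P.sup_le_H
    · obtain ⟨h1, h2⟩ := g.minimal_of_card hB t.card
      exact le_trans le_sup_right (le_iSup (fun E : ι => (E : Subgroup G))
        ⟨⁅((Cfsg.pPrimeCore p ↥H).map H.subtype), B⁆ ⊔ B, B, hB, hoff, h1, h2, rfl⟩)
  have allE : ∀ E : ι, V ⊓ Subgroup.centralizer (H : Set G) ≤ V ⊓ Subgroup.centralizer ((E : Subgroup G) : Set G) :=
    fun E => inf_le_inf_left _ (Subgroup.centralizer_le (by
      exact_mod_cast (le_iSup (fun E : ι => (E : Subgroup G)) E).trans hsup.le))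
  refine ⟨?_, fun E => ?_, ?_, hsup, ?_, ?_⟩
  · by_contra hp23
    obtain ⟨E⟩ : Nonempty ι := by
      by_contra hem
      haveI := not_nonempty_iff.1 hem
      rw [iSup_of_empty] at hsup
      exact hH1 hsup.symm
    obtain ⟨A, x, P, -⟩ := data E
    exact hp23 P.le_two_three
  · obtain ⟨A, x, P, e⟩ := data E
    obtain ⟨-, σ, -⟩ := P.exists_natural
    rw [e]
    exact ⟨g.le_normalizer P, ⟨σ⟩, by rw [P.comm_eq]; exact P.card_plane⟩
  · intro E
    rw [disjoint_iff, ← le_bot_iff]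
    obtain ⟨A, x, P, e⟩ := data E
    have h : (⨆ (E' : ι) (_ : E' ≠ E), (E' : Subgroup G)) ≤
        H ⊓ Subgroup.centralizer ((⁅V, (E : Subgroup G)⁆ : Subgroup G) : Set G) := iSup₂_le fun E' hne => other E E' hne
    refine (inf_le_inf_left _ h).trans (le_of_eq ?_)
    show (E : Subgroup G) ⊓ _ = ⊥
    rw [e, P.comm_eq]
    exact P.inf_complement
  · intro o
    rw [disjoint_iff, ← le_bot_iff]
    cases o with
    | some E =>
      have h : (⨆ (o' : Option ι) (_ : o' ≠ some E), o'.elim (V ⊓ Subgroup.centralizer (H : Set G)) (fun E => ⁅V, (E : Subgroup G)⁆)) ≤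
          V ⊓ Subgroup.centralizer ((E : Subgroup G) : Set G) := by
        refine iSup₂_le fun o' hne => ?_
        cases o' with
        | none => exact allE E
        | some E' => exact plane_fix E E' fun he => hne (congrArg some he)
      exact (inf_le_inf_left _ (h.trans inf_le_right)).trans (le_of_eq (split E).2.1)
    | none =>
      haveI : Fintype ι := Fintype.ofFinite ι
      have key : ∀ s : Finset ι, (s.sup fun E : ι => ⁅V, (E : Subgroup G)⁆) ⊓
          (V ⊓ Subgroup.centralizer (H : Set G)) = ⊥ := by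
        intro s
        induction s using Finset.induction_on with
        | empty => rw [Finset.sup_empty, bot_inf_eq]
        | @insert E s hEs ih =>
          rw [Finset.sup_insert, eq_bot_iff]
          rintro v ⟨hv, hvC⟩
          have hs : (s.sup fun E : ι => ⁅V, (E : Subgroup G)⁆) ≤ V ⊓ Subgroup.centralizer ((E : Subgroup G) : Set G) :=
            Finset.sup_le fun E' hE' => plane_fix E E' fun he => hEs (he ▸ hE')
          have hn : ⁅V, (E : Subgroup G)⁆ ≤ Subgroup.normalizer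
              ((s.sup fun E : ι => ⁅V, (E : Subgroup G)⁆ : Subgroup G) : Set G) := fun w hw => mem_normalizer_of_cj_le (by
            rintro _ ⟨c, hc, rfl⟩
            show w * c * w⁻¹ ∈ _
            rw [Agent.Local.elemAb_commute hV ((split E).1 hw) (hs hc).1, mul_inv_cancel_right]; exact hc)
          have h2 : v ∈ ((⁅V, (E : Subgroup G)⁆ ⊔ s.sup fun E : ι => ⁅V, (E : Subgroup G)⁆ : Subgroup G) : Set G) := hv
          rw [Subgroup.coe_mul_of_left_le_normalizer_right _ _ hn] at h2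
          obtain ⟨w, hw, c, hc, rfl⟩ := Set.mem_mul.1 h2
          have hw1 : w = 1 := by
            have h1 : w ∈ Subgroup.centralizer ((E : Subgroup G) : Set G) :=
              (Subgroup.mul_mem_cancel_right _ (hs hc).2).1 (allE E hvC).2
            exact Subgroup.mem_bot.1 ((split E).2.1 ▸ Subgroup.mem_inf.2 ⟨hw, h1⟩)
          rw [hw1, one_mul] at hvC ⊢
          exact ih ▸ Subgroup.mem_inf.2 ⟨hc, hvC⟩
      show (V ⊓ Subgroup.centralizer (H : Set G)) ⊓ _ ≤ ⊥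
      refine le_trans (inf_le_inf_left _ (iSup₂_le fun o' hne => ?_)) (le_of_eq ((inf_comm _ _).trans (key Finset.univ)))
      cases o' with
      | none => exact absurd rfl hne
      | some E' => exact Finset.le_sup (f := fun E : ι => ⁅V, (E : Subgroup G)⁆) (Finset.mem_univ E')
  · refine le_antisymm (sup_le inf_le_left (iSup_le fun E => (split E).1)) ?_
    haveI : Fintype ι := Fintype.ofFinite ι
    have key : ∀ s : Finset ι, V ≤ (s.inf fun E : ι => V ⊓ Subgroup.centralizer ((E : Subgroup G) : Set G)) ⊓ V ⊔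
        (s.sup fun E : ι => ⁅V, (E : Subgroup G)⁆) := by
      intro s
      induction s using Finset.induction_on with
      | empty => simp
      | @insert E s hEs ih =>
        refine ih.trans (sup_le (fun v hv => ?_) ((Finset.sup_mono (Finset.subset_insert E s)).trans le_sup_right))
        rw [Finset.inf_insert, Finset.sup_insert]
        have hn : ⁅V, (E : Subgroup G)⁆ ≤ Subgroup.normalizer
            ((V ⊓ Subgroup.centralizer ((E : Subgroup G) : Set G) : Subgroup G) : Set G) := fun w hw => mem_normalizer_of_cj_le (by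
          rintro _ ⟨c, hc, rfl⟩
          show w * c * w⁻¹ ∈ _
          rw [Agent.Local.elemAb_commute hV ((split E).1 hw) hc.1, mul_inv_cancel_right]; exact hc)
        have h2 : v ∈ ((⁅V, (E : Subgroup G)⁆ ⊔ (V ⊓ Subgroup.centralizer ((E : Subgroup G) : Set G)) : Subgroup G) : Set G) := by
          rw [(split E).2.2]; exact hv.2
        rw [Subgroup.coe_mul_of_left_le_normalizer_right _ _ hn] at h2
        obtain ⟨w, hw, c, hc, rfl⟩ := Set.mem_mul.1 h2
        have hws : w ∈ s.inf fun E : ι => V ⊓ Subgroup.centralizer ((E : Subgroup G) : Set G) :=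
          (Finset.le_inf fun E' hE' => plane_fix E' E (fun he => hEs (he ▸ hE')) :
            ⁅V, (E : Subgroup G)⁆ ≤ s.inf fun E : ι => V ⊓ Subgroup.centralizer ((E : Subgroup G) : Set G)) hw
        have hcs : c ∈ s.inf fun E : ι => V ⊓ Subgroup.centralizer ((E : Subgroup G) : Set G) :=
          (Subgroup.mul_mem_cancel_left _ hws).1 hv.1
        exact mul_mem (Subgroup.mem_sup_right (Subgroup.mem_sup_left hw))
          (Subgroup.mem_sup_left ⟨⟨hc, hcs⟩, hc.1⟩)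
    refine (key Finset.univ).trans (sup_le (le_sup_of_le_left (fun v hv => ⟨hv.2, ?_⟩))
      (le_sup_of_le_right (Finset.sup_le fun E _ => le_iSup (fun E : ι => ⁅V, (E : Subgroup G)⁆) E)))
    refine Subgroup.mem_centralizer_iff.2 fun h hh => ?_
    have hle : H ≤ Subgroup.centralizer ({v} : Set G) := hsup ▸ iSup_le fun E e he =>
      Subgroup.mem_centralizer_singleton_iff.2 (Subgroup.mem_centralizer_iff.1
        (((Finset.inf_le (Finset.mem_univ E) : Finset.univ.inf (fun E : ι => V ⊓ Subgroup.centralizer ((E : Subgroup G) : Set G)) ≤ _) hv.1).2) e he)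
    exact Subgroup.mem_centralizer_singleton_iff.1 (hle hh)

end Cfsg.Agent.S0617
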