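import Cfsg.Statements.S3178
import Mathlib
import Cfsg.Agent.Lib.Fusion.NPC
import Cfsg.Agent.Lib.Small.SylowInside
open scoped Pointwise
-- import your own Cfsg.Agent.* helpers here

set_option autoImplicit false
open Cfsg

namespace Cfsg.Agent.S3178

/-- Groups with a modular Sylow 2-subgroup have a normal 2-complement. Let S, of order 2^(n+1) with n ≥ 3, be a Sylow 2-subgroup of a finite group G, and suppose S contains an element a of order 2^n and an involution b with b a b⁻¹ = a^(2^(n-1) + 1); so S is the non-abelian 2-group with a cyclic subgroup of index 2 that is neither dihedral, semidihedral nor generalized quaternion. Then G has a normal 2-complement. -/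
theorem result {G : Type*} [Group G] [Finite G]
    (S : Sylow 2 G) (n : ℕ) (hn : 3 ≤ n) (hS : Nat.card ↥(S : Subgroup G) = 2 ^ (n + 1))
    (a b : G) (ha : a ∈ (S : Subgroup G)) (hb : b ∈ (S : Subgroup G))
    (hao : orderOf a = 2 ^ n) (hbo : orderOf b = 2) (hrel : b * a * b⁻¹ = a ^ (2 ^ (n - 1) + 1)) :
    Cfsg.HasNormalPComplement 2 G := by
  classical
  haveI : Fact (Nat.Prime 2) := ⟨Nat.prime_two⟩
  have hbb : b * b = 1 := by rw [← pow_two, ← hbo, pow_orderOf_eq_one]
  have han : a ^ 2 ^ n = 1 := hao ▸ pow_orderOf_eq_one a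
  have hn1 : 2 ^ n = 2 * 2 ^ (n - 1) := by rw [← pow_succ']; congr 1; omega
  set z := a ^ 2 ^ (n - 1) with hz
  have hconjb : ∀ k : ℕ, b * a ^ k * b⁻¹ = a ^ k * z ^ k := fun k => by
    rw [← conj_pow, hrel, pow_add, pow_one, ← hz, ((Commute.refl a).pow_left _).mul_pow]
    exact ((Commute.refl a).pow_pow _ _).pow_left _ |>.eq
  have hzz : z * z = 1 := by rw [hz, ← pow_add, ← two_mul, ← hn1, han]
  have hb2 : Commute b (a ^ 2) := by
    have h := hconjb 2
    rw [pow_two z, hzz, mul_one] at h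
    exact mul_inv_eq_iff_eq_mul.1 h
  have hz1 : z ≠ 1 := fun h => by
    have h1 := Nat.le_of_dvd (pow_pos two_pos _) (orderOf_dvd_of_pow_eq_one (h : a ^ 2 ^ (n - 1) = 1))
    rw [hao, Nat.pow_le_pow_iff_right (by norm_num)] at h1
    omega
  -- the cyclic subgroup has index two
  have hzpS : Subgroup.zpowers a ≤ (S : Subgroup G) := Subgroup.zpowers_le.2 ha
  have hbz : b ∉ Subgroup.zpowers a := by
    intro h
    obtain ⟨k, hk⟩ := Subgroup.mem_zpowers_iff.1 h
    have hc : b * a * b⁻¹ = a := by rw [← hk]; group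
    rw [hrel, pow_add, pow_one, mul_eq_right] at hc
    exact hz1 hc
  have hidx : ((Subgroup.zpowers a).subgroupOf (S : Subgroup G)).index = 2 := by
    have h := ((Subgroup.zpowers a).subgroupOf (S : Subgroup G)).card_mul_index
    rw [Nat.card_congr (Subgroup.subgroupOfEquivOfLe hzpS).toEquiv, Nat.card_zpowers, hao, hS, pow_succ] at h
    exact Nat.eq_of_mul_eq_mul_left (pow_pos two_pos _) h
  have hform : ∀ x ∈ (S : Subgroup G), ∃ i : ℕ, x = a ^ i ∨ x = a ^ i * b := by
    intro x hx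
    by_cases h : x ∈ Subgroup.zpowers a
    · obtain ⟨i, -, hi⟩ := Finset.mem_image.1 (mem_zpowers_iff_mem_range_orderOf.1 h)
      exact ⟨i, Or.inl hi.symm⟩
    · have h1 := (Subgroup.mul_mem_iff_of_index_two hidx (a := (⟨x, hx⟩ : (S : Subgroup G))) (b := ⟨b, hb⟩)).2
        (iff_of_false h hbz)
      obtain ⟨i, -, hi⟩ := Finset.mem_image.1 (mem_zpowers_iff_mem_range_orderOf.1
        (show x * b ∈ Subgroup.zpowers a from h1))
      exact ⟨i, Or.inr (by rw [hi, mul_assoc, hbb, mul_one])⟩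
  -- the elements of order less than `2 ^ n`
  have hA : ∀ x ∈ (S : Subgroup G), x ^ 2 ^ (n - 1) = 1 → ∃ i : ℕ, x = a ^ (2 * i) ∨ x = a ^ (2 * i) * b := by
    intro x hx hx'
    obtain ⟨i, hi⟩ := hform x hx
    rcases Nat.even_or_odd' i with ⟨j, hj | hj⟩
    · exact ⟨j, hj ▸ hi⟩
    exfalso
    have hpow : 2 ^ (n - 1) = 2 * 2 ^ (n - 2) := by rw [← pow_succ']; congr 1; omega
    have hzi : z ^ i = z := by rw [hj, pow_succ, pow_mul, pow_two, hzz, one_pow, one_mul]
    have hxx : x ^ 2 ^ (n - 1) = z := by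
      rcases hi with rfl | rfl
      · rw [← pow_mul, mul_comm, pow_mul, ← hz, hzi]
      · have e : a ^ i * b * (a ^ i * b) = a ^ (2 * i) * z ^ i := by
          calc a ^ i * b * (a ^ i * b) = a ^ i * (b * a ^ i * b⁻¹) * (b * b) := by group
            _ = a ^ (2 * i) * z ^ i := by rw [hconjb, hbb, mul_one, two_mul, pow_add, mul_assoc]
        rw [hpow, pow_mul, pow_two, e, hzi, hz, ← pow_add, ← pow_mul,
          show (2 * i + 2 ^ (n - 1)) * 2 ^ (n - 2) = 2 ^ (n - 1) * i + 2 ^ n * 2 ^ (n - 3) by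
            rw [hpow, show 2 ^ n = 2 * (2 * 2 ^ (n - 2)) by rw [← hpow, ← hn1]]
            have : 2 ^ (n - 2) = 2 * 2 ^ (n - 3) := by rw [← pow_succ']; congr 1; omega
            rw [this]; ring,
          pow_add, pow_mul a (2 ^ n), han, one_pow, mul_one, pow_mul, ← hz, hzi]
    exact hz1 (hxx.symm.trans hx')
  have hAcomm : ∀ x ∈ (S : Subgroup G), x ^ 2 ^ (n - 1) = 1 → ∀ y ∈ (S : Subgroup G), y ^ 2 ^ (n - 1) = 1 →
      Commute x y := by
    intro x hx hx' y hy hy'
    obtain ⟨i, hi⟩ := hA x hx hx'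
    obtain ⟨j, hj⟩ := hA y hy hy'
    have c0 : ∀ k l : ℕ, Commute (a ^ (2 * k)) (a ^ (2 * l)) := fun k l => (Commute.refl a).pow_pow _ _
    have c1 : ∀ k : ℕ, Commute b (a ^ (2 * k)) := fun k => by rw [pow_mul]; exact hb2.pow_right k
    rcases hi with rfl | rfl <;> rcases hj with rfl | rfl
    · exact c0 i j
    · exact (c0 i j).mul_right (c1 i).symm
    · exact (c0 i j).mul_left (c1 j)
    · exact ((c0 i j).mul_right (c1 i).symm).mul_left ((c1 j).mul_right (Commute.refl b))
  have hV : ∀ x ∈ (S : Subgroup G), x * x = 1 → x = 1 ∨ x = z ∨ x = b ∨ x = z * b := by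
    intro x hx hxx
    have hx' : x ^ 2 ^ (n - 1) = 1 := by
      rw [show 2 ^ (n - 1) = 2 * 2 ^ (n - 2) by rw [← pow_succ']; congr 1; omega, pow_mul, pow_two, hxx, one_pow]
    obtain ⟨i, hi⟩ := hA x hx hx'
    have hc : Commute b (a ^ (2 * i)) := by rw [pow_mul]; exact hb2.pow_right i
    have h4 : a ^ (2 * i) * a ^ (2 * i) = 1 := by
      rcases hi with rfl | rfl
      · exact hxx
      · calc a ^ (2 * i) * a ^ (2 * i) = a ^ (2 * i) * a ^ (2 * i) * (b * b) := by rw [hbb, mul_one]
          _ = a ^ (2 * i) * (a ^ (2 * i) * b) * b := by group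
          _ = a ^ (2 * i) * (b * a ^ (2 * i)) * b := by rw [hc.eq]
          _ = a ^ (2 * i) * b * (a ^ (2 * i) * b) := by group
          _ = 1 := hxx
    have h5 : a ^ (2 * i) = 1 ∨ a ^ (2 * i) = z := by
      rw [← pow_add, ← orderOf_dvd_iff_pow_eq_one, hao, hn1, ← two_mul] at h4
      obtain ⟨k, hk⟩ := Nat.dvd_of_mul_dvd_mul_left two_pos h4
      rcases Nat.even_or_odd' k with ⟨l, rfl | rfl⟩
      · left; rw [hk, ← mul_assoc, mul_comm _ 2, ← hn1, pow_mul, han, one_pow]
      · right; rw [hk, pow_mul, ← hz, pow_succ, pow_mul, pow_two, hzz, one_pow, one_mul]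
    rcases hi with rfl | rfl <;> rcases h5 with h5 | h5 <;> rw [h5]
    · exact Or.inl rfl
    · exact Or.inr (Or.inl rfl)
    · rw [one_mul]; exact Or.inr (Or.inr (Or.inl rfl))
    · exact Or.inr (Or.inr (Or.inr rfl))
  have hodd : ∀ g : G, (orderOf g).Coprime 2 → ∀ y : G, ∀ u : G, Commute g u → (∃ k, u ^ 2 ^ k = 1) →
      g * y * g⁻¹ = y * u → u = 1 := by
    intro g hg y u hgu hu e
    have hind : ∀ j : ℕ, g ^ j * y * (g ^ j)⁻¹ = y * u ^ j := by
      intro j
      induction j with
      | zero => simp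
      | succ j ih =>
        calc g ^ (j + 1) * y * (g ^ (j + 1))⁻¹ = g * (g ^ j * y * (g ^ j)⁻¹) * g⁻¹ := by rw [pow_succ']; group
          _ = g * (y * u ^ j) * g⁻¹ := by rw [ih]
          _ = (g * y * g⁻¹) * (g * u ^ j * g⁻¹) := by group
          _ = y * u * u ^ j := by rw [e, (hgu.pow_right j).eq, mul_inv_cancel_right]
          _ = _ := by rw [pow_succ', mul_assoc]
    have h := hind (orderOf g)
    rw [pow_orderOf_eq_one, one_mul, inv_one, mul_one, left_eq_mul] at h
    obtain ⟨k, hk⟩ := hu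
    exact orderOf_eq_one_iff.1 (Nat.eq_one_of_dvd_coprimes (hg.pow_right k)
      (orderOf_dvd_of_pow_eq_one h) (orderOf_dvd_of_pow_eq_one hk))
  -- subgroups with an element of order at least four
  have hbig : ∀ Q : Subgroup G, Q ≤ (S : Subgroup G) → (∃ x ∈ Q, x * x ≠ 1) →
      ∀ g ∈ Subgroup.normalizer (Q : Set G), (orderOf g).Coprime 2 → g ∈ Subgroup.centralizer (Q : Set G) := by
    intro Q hQS hex g hgN hg
    have hgQ : ∀ y ∈ Q, g * y * g⁻¹ ∈ Q := fun y hy => (Subgroup.mem_set_normalizer_iff.1 hgN y).1 hy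
    have hpw : ∀ y ∈ Q, ∃ k, y ^ 2 ^ k = 1 := fun y hy => by
      obtain ⟨k, hk⟩ := S.2 ⟨y, hQS hy⟩
      exact ⟨k, congrArg Subtype.val hk⟩
    -- the central involution is fixed
    have hfixz : Commute g z := by
      obtain ⟨x, hxQ, hxx⟩ := hex
      -- some power of a square is the central involution
      have hsq : ∃ j : ℕ, x * x = a ^ (2 * j) := by
        obtain ⟨i, hi⟩ := hform x (hQS hxQ)
        rcases hi with rfl | rfl
        · exact ⟨i, by rw [two_mul, pow_add]⟩
        · refine ⟨i + i * 2 ^ (n - 2), ?_⟩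
          calc a ^ i * b * (a ^ i * b) = a ^ i * (b * a ^ i * b⁻¹) * (b * b) := by group
            _ = a ^ i * (a ^ i * z ^ i) := by rw [hconjb, hbb, mul_one]
            _ = _ := by
              rw [hz, ← pow_mul, ← pow_add, ← pow_add]
              congr 1
              rw [show 2 ^ (n - 1) = 2 * 2 ^ (n - 2) by rw [← pow_succ']; congr 1; omega]
              ring
      obtain ⟨j, hj⟩ := hsq
      obtain ⟨k, hk⟩ := hpw x hxQ
      set w := x * x with hw
      obtain ⟨k', hk'⟩ : ∃ k', orderOf w = 2 ^ k' := by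
        have h1 : w ^ 2 ^ k = 1 := by rw [hw, ← pow_two, ← pow_mul, mul_comm, pow_mul, hk, one_pow]
        obtain ⟨k', -, hk'⟩ := (Nat.dvd_prime_pow Nat.prime_two).1 (orderOf_dvd_of_pow_eq_one h1)
        exact ⟨k', hk'⟩
      rcases k' with _ | k'
      · exact absurd (orderOf_eq_one_iff.1 (hk'.trans (pow_zero 2))) hxx
      -- the involution of the cyclic group generated by `w`
      have ht2 : orderOf (w ^ 2 ^ k') = 2 := by
        rw [orderOf_pow' _ (pow_pos two_pos _).ne', hk', Nat.gcd_eq_right (pow_dvd_pow 2 (Nat.le_succ k')),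
          pow_succ, Nat.mul_div_cancel_left _ (pow_pos two_pos _)]
      have htz : w ^ 2 ^ k' = z := by
        have h1 : a ^ (2 * j * 2 ^ k') * a ^ (2 * j * 2 ^ k') = 1 := by
          rw [pow_mul, ← hj, ← pow_two]; nth_rw 2 [← ht2]; exact pow_orderOf_eq_one _
        rw [← pow_add, ← orderOf_dvd_iff_pow_eq_one, hao, hn1, ← two_mul] at h1
        obtain ⟨l, hl⟩ := Nat.dvd_of_mul_dvd_mul_left two_pos h1
        have h2 : w ^ 2 ^ k' = a ^ (2 ^ (n - 1) * l) := by rw [hj, ← pow_mul, hl]
        rcases Nat.even_or_odd' l with ⟨l', rfl | rfl⟩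
        · rw [← mul_assoc, mul_comm _ 2, ← hn1, pow_mul a, han, one_pow] at h2
          rw [h2, orderOf_one] at ht2
          exact absurd ht2 (by norm_num)
        · rw [h2, pow_mul, ← hz, pow_succ, pow_mul, pow_two, hzz, one_pow, one_mul]
      have hzQ : z ∈ Q := htz ▸ pow_mem (mul_mem hxQ hxQ) _
      -- `g * z * g⁻¹` is again the involution of a cyclic group of squares
      set x' := g * x * g⁻¹ with hx'
      have hx'S : x' ∈ (S : Subgroup G) := hQS (hgQ x hxQ)
      have hw' : (x' * x') ^ 2 ^ k' = g * z * g⁻¹ := by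
        rw [← htz, ← conj_pow, hw]; congr 1; rw [hx']; group
      have hsq' : ∃ l : ℕ, x' * x' = a ^ l := by
        obtain ⟨i, hi⟩ := hform x' hx'S
        rcases hi with h | h
        · exact ⟨i + i, by rw [h, ← pow_add]⟩
        · refine ⟨i + (i + 2 ^ (n - 1) * i), ?_⟩
          rw [h, show a ^ i * b * (a ^ i * b) = a ^ i * (b * a ^ i * b⁻¹) * (b * b) by group, hconjb, hbb,
            mul_one, hz, ← pow_mul, ← pow_add, ← pow_add]
      obtain ⟨l, hl⟩ := hsq'
      have hgz : g * z * g⁻¹ = a ^ (l * 2 ^ k') := by rw [← hw', hl, pow_mul]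
      have hgz1 : g * z * g⁻¹ ≠ 1 := fun h => hz1 (by simpa [mul_inv_eq_one] using h)
      have hgz2 : a ^ (l * 2 ^ k') * a ^ (l * 2 ^ k') = 1 := by
        rw [← hgz, show g * z * g⁻¹ * (g * z * g⁻¹) = g * (z * z) * g⁻¹ by group, hzz]; group
      rw [← pow_add, ← orderOf_dvd_iff_pow_eq_one, hao, hn1, ← two_mul] at hgz2
      obtain ⟨l', hl'⟩ := Nat.dvd_of_mul_dvd_mul_left two_pos hgz2
      rw [hl', pow_mul, ← hz] at hgz
      rcases Nat.even_or_odd' l' with ⟨l'', rfl | rfl⟩
      · rw [pow_mul, pow_two, hzz, one_pow] at hgz; exact absurd hgz hgz1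
      · rw [pow_succ, pow_mul, pow_two, hzz, one_pow, one_mul] at hgz
        exact mul_inv_eq_iff_eq_mul.1 hgz
    have hfixV : ∀ y ∈ Q, y * y = 1 → Commute g y := by
      intro y hy hyy
      have hy' : (g * y * g⁻¹) * (g * y * g⁻¹) = 1 := by
        rw [show g * y * g⁻¹ * (g * y * g⁻¹) = g * (y * y) * g⁻¹ by group, hyy]; group
      have hone : g * y * g⁻¹ = 1 → y = 1 := fun h => by simpa [mul_inv_eq_one] using h
      have hzeq : g * y * g⁻¹ = z → y = z := fun h => by
        have h2 : g * z * g⁻¹ = z := by rw [hfixz.eq, mul_inv_cancel_right]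
        simpa using h.trans h2.symm
      have hc : g * y * g⁻¹ = y ∨ g * y * g⁻¹ = y * z := by
        have hzb : z * b * z = b := by
          have : Commute z b := by
            rw [hz, show 2 ^ (n - 1) = 2 * 2 ^ (n - 2) by rw [← pow_succ']; congr 1; omega, pow_mul]
            exact (hb2.pow_right _).symm
          rw [this.eq, mul_assoc, hzz, mul_one]
        have hbzb : b * z = z * b := by
          calc b * z = (z * b * z) * z := by rw [hzb]
            _ = z * b := by rw [mul_assoc _ z z, hzz, mul_one]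
        rcases hV y (hQS hy) hyy with rfl | rfl | rfl | rfl
        · left; simp
        · left; rw [hfixz.eq, mul_inv_cancel_right]
        · rcases hV _ (hQS (hgQ _ hy)) hy' with h | h | h | h
          · exact absurd (hone h) (fun h' => hbz (by rw [h']; exact one_mem _))
          · exact absurd (hzeq h) (fun h' => hbz (h' ▸ pow_mem (Subgroup.mem_zpowers a) _))
          · exact Or.inl h
          · exact Or.inr (h.trans hbzb.symm)
        · rcases hV _ (hQS (hgQ _ hy)) hy' with h | h | h | h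
          · have h' := hone h
            exact absurd (eq_inv_of_mul_eq_one_right h') (fun h' => hbz (h' ▸ inv_mem (pow_mem (Subgroup.mem_zpowers a) _)))
          · have h' := hzeq h
            rw [mul_eq_left] at h'
            exact absurd h' (fun h'' => hbz (by rw [h'']; exact one_mem _))
          · exact Or.inr (h.trans hzb.symm)
          · exact Or.inl h
      rcases hc with h | h
      · exact mul_inv_eq_iff_eq_mul.1 h
      · exact absurd (hodd g hg y z hfixz ⟨1, by rw [pow_one, pow_two, hzz]⟩ h) hz1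
    -- elements of the abelian maximal subgroup
    have hfixA : ∀ y ∈ Q, y ^ 2 ^ (n - 1) = 1 → Commute g y := by
      suffices ∀ k : ℕ, k ≤ n - 1 → ∀ y ∈ Q, y ^ 2 ^ k = 1 → Commute g y from this (n - 1) le_rfl
      intro k
      induction k with
      | zero => intro _ y _ h; rw [pow_zero, pow_one] at h; rw [h]; exact Commute.one_right g
      | succ k ih =>
        intro hk y hy hyk
        have hmem : y ^ 2 ^ (n - 1) = 1 := orderOf_dvd_iff_pow_eq_one.1
          ((orderOf_dvd_of_pow_eq_one hyk).trans (pow_dvd_pow 2 hk))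
        have h2 : Commute g (y * y) := ih (by omega) (y * y) (mul_mem hy hy) (by
          rw [← pow_two, ← pow_mul, ← pow_succ']; exact hyk)
        set y' := g * y * g⁻¹ with hy'
        have hy'A : y' ^ 2 ^ (n - 1) = 1 := by rw [hy', conj_pow, hmem]; group
        have hc := hAcomm y (hQS hy) hmem y' (hQS (hgQ y hy)) hy'A
        have hu2 : (y⁻¹ * y') * (y⁻¹ * y') = 1 := by
          have e : y' * y' = y * y := by
            rw [hy', show g * y * g⁻¹ * (g * y * g⁻¹) = g * (y * y) * g⁻¹ by group, h2.eq, mul_inv_cancel_right]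
          calc y⁻¹ * y' * (y⁻¹ * y') = y⁻¹ * (y' * y⁻¹) * y' := by group
            _ = y⁻¹ * (y⁻¹ * y') * y' := by rw [hc.inv_left.eq]
            _ = (y * y)⁻¹ * (y' * y') := by group
            _ = 1 := by rw [e, inv_mul_cancel]
        have hu := hodd g hg y (y⁻¹ * y') (hfixV _ (mul_mem (inv_mem hy) (hgQ y hy)) hu2)
          ⟨1, by rw [pow_one, pow_two, hu2]⟩ (by rw [hy', mul_inv_cancel_left])
        exact mul_inv_eq_iff_eq_mul.1 (inv_mul_eq_one.1 hu).symm
    rw [Subgroup.mem_centralizer_iff]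
    intro y hy
    by_cases hyA : y ^ 2 ^ (n - 1) = 1
    · exact (hfixA y hy hyA).eq.symm
    · set y' := g * y * g⁻¹ with hy'
      have hy'A : y' ^ 2 ^ (n - 1) ≠ 1 := fun h => hyA (by
        rw [hy', conj_pow] at h; simpa [mul_inv_eq_one] using h)
      have hu : (y⁻¹ * y') ^ 2 ^ (n - 1) = 1 := by
        -- both lie outside the same maximal subgroup
        have hsplit : ∀ w ∈ (S : Subgroup G), w ^ 2 ^ (n - 1) ≠ 1 → ∃ i : ℕ, Odd i ∧ (w = a ^ i ∨ w = a ^ i * b) := by
          intro w hw hw1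
          obtain ⟨i, hi⟩ := hform w hw
          refine ⟨i, ?_, hi⟩
          by_contra he
          rw [Nat.not_odd_iff_even] at he
          obtain ⟨j, rfl⟩ := he
          apply hw1
          have e1 : (a ^ (j + j)) ^ 2 ^ (n - 1) = 1 := by
            rw [← pow_mul, show (j + j) * 2 ^ (n - 1) = 2 ^ n * j by rw [hn1]; ring, pow_mul, han, one_pow]
          rcases hi with rfl | rfl
          · exact e1
          · have hc : Commute (a ^ (j + j)) b := by rw [← two_mul, pow_mul]; exact (hb2.pow_right j).symm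
            rw [hc.mul_pow, e1, one_mul, show 2 ^ (n - 1) = 2 * 2 ^ (n - 2) by rw [← pow_succ']; congr 1; omega,
              pow_mul, pow_two, hbb, one_pow]
        obtain ⟨i, hio, hi⟩ := hsplit y (hQS hy) hyA
        obtain ⟨j, hjo, hj⟩ := hsplit y' (hQS (hgQ y hy)) hy'A
        set u := y⁻¹ * y' with hu
        have huS : u ∈ (S : Subgroup G) := mul_mem (inv_mem (hQS hy)) (hQS (hgQ y hy))
        by_contra hu1
        obtain ⟨m, hmo, hm⟩ := hsplit u huS hu1
        have hyu : y * u = y' := by rw [hu, mul_inv_cancel_left]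
        -- parity of the exponent of `a` is multiplicative
        have key : ∀ (i m : ℕ) (w w' : G), (w = a ^ i ∨ w = a ^ i * b) → (w' = a ^ m ∨ w' = a ^ m * b) →
            ∃ l : ℕ, Even (l + (i + m)) ∧ (w * w' = a ^ l ∨ w * w' = a ^ l * b) := by
          intro i m w w' hw hw'
          have hba : b * a ^ m = a ^ (m + 2 ^ (n - 1) * m) * b := by
            rw [← mul_inv_eq_iff_eq_mul, hconjb, hz, ← pow_mul, ← pow_add]
          have hev : Even (2 ^ (n - 1) * m) := ((Nat.even_pow' (by omega)).2 even_two).mul_right m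
          obtain ⟨e, he⟩ := hev
          rcases hw with rfl | rfl <;> rcases hw' with rfl | rfl
          · exact ⟨i + m, ⟨i + m, rfl⟩, Or.inl (pow_add a i m).symm⟩
          · exact ⟨i + m, ⟨i + m, rfl⟩, Or.inr (by rw [pow_add, mul_assoc])⟩
          · refine ⟨i + (m + 2 ^ (n - 1) * m), ⟨i + m + e, by omega⟩, Or.inr ?_⟩
            rw [mul_assoc, hba, ← mul_assoc, ← pow_add]
          · refine ⟨i + (m + 2 ^ (n - 1) * m), ⟨i + m + e, by omega⟩, Or.inl ?_⟩
            rw [show a ^ i * b * (a ^ m * b) = a ^ i * (b * a ^ m) * b by group, hba,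
              show a ^ i * (a ^ (m + 2 ^ (n - 1) * m) * b) * b = a ^ i * a ^ (m + 2 ^ (n - 1) * m) * (b * b) by group,
              hbb, mul_one, ← pow_add]
        obtain ⟨l, hl, hl'⟩ := key i m y u hi hm
        rw [hyu] at hl'
        apply hy'A
        have hle : Even l := by
          rcases hio with ⟨i', rfl⟩
          rcases hmo with ⟨m', rfl⟩
          obtain ⟨t, ht⟩ := hl
          exact ⟨t - i' - m' - 1, by omega⟩
        obtain ⟨t, rfl⟩ := hle
        have e1 : (a ^ (t + t)) ^ 2 ^ (n - 1) = 1 := by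
          rw [← pow_mul, show (t + t) * 2 ^ (n - 1) = 2 ^ n * t by rw [hn1]; ring, pow_mul, han, one_pow]
        rcases hl' with h | h <;> rw [h]
        · exact e1
        · have hc : Commute (a ^ (t + t)) b := by rw [← two_mul, pow_mul]; exact (hb2.pow_right t).symm
          rw [hc.mul_pow, e1, one_mul, show 2 ^ (n - 1) = 2 * 2 ^ (n - 2) by rw [← pow_succ']; congr 1; omega,
            pow_mul, pow_two, hbb, one_pow]
      have hu' := hodd g hg y (y⁻¹ * y') (hfixA _ (mul_mem (inv_mem hy) (hgQ y hy)) hu) ⟨n - 1, hu⟩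
        (by rw [mul_inv_cancel_left])
      exact (mul_inv_eq_iff_eq_mul.1 (inv_mul_eq_one.1 hu').symm).symm
  refine Cfsg.Agent.Fusion.hnpc_of_centralize (p := 2) (Cfsg.Agent.Fusion.sylIn_top S) fun Q hQS g hgN hg => ?_
  by_cases hex : ∃ x ∈ Q, x * x ≠ 1
  · exact hbig Q hQS hex g hgN hg
  push Not at hex
  have hsub : ∀ y ∈ Q, y = 1 ∨ y = z ∨ y = b ∨ y = z * b := fun y hy => hV y (hQS hy) (hex y hy)
  -- the centraliser of the four group in `S` is a Sylow subgroup of its centraliser
  set V := Subgroup.closure ({z, b} : Set G) with hVdef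
  have hzS : z ∈ (S : Subgroup G) := pow_mem ha _
  have hQV : Q ≤ V := by
    intro y hy
    rcases hsub y hy with rfl | rfl | rfl | rfl
    · exact one_mem _
    · exact Subgroup.subset_closure (Or.inl rfl)
    · exact Subgroup.subset_closure (Or.inr rfl)
    · exact mul_mem (Subgroup.subset_closure (Or.inl rfl)) (Subgroup.subset_closure (Or.inr rfl))
  by_cases hQbig : z ∈ Q ∧ b ∈ Q
  swap
  · -- at most two elements
    rw [Subgroup.mem_centralizer_iff]
    intro y hy
    have hgy : g * y * g⁻¹ ∈ Q := (Subgroup.mem_set_normalizer_iff.1 hgN y).1 hy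
    by_cases hy1 : y = 1
    · rw [hy1, one_mul, mul_one]
    have : g * y * g⁻¹ = y := by
      have hne : g * y * g⁻¹ ≠ 1 := fun h => hy1 (by simpa [mul_inv_eq_one] using h)
      by_contra hdiff
      apply hQbig
      have hprod : ∀ u ∈ Q, ∀ w ∈ Q, u * w ∈ Q := fun u hu w hw => mul_mem hu hw
      rcases hsub y hy with rfl | e1 | e1 | e1 <;> rcases hsub _ hgy with e2 | e2 | e2 | e2
      all_goals first
        | exact absurd rfl hy1
        | exact absurd e2 hne
        | exact absurd (e2.trans e1.symm) hdiff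
        | exact ⟨e1 ▸ hy, e2 ▸ hgy⟩
        | exact ⟨e2 ▸ hgy, e1 ▸ hy⟩
        | (have h1 := mul_mem (e1 ▸ hy) (e2 ▸ hgy)
           have h2 := mul_mem (e2 ▸ hgy) (e1 ▸ hy)
           refine ⟨?_, ?_⟩ <;>
             first
               | exact e1 ▸ hy
               | exact e2 ▸ hgy
               | (rw [← mul_assoc, hzz, one_mul] at h1; exact h1)
               | (rw [← mul_assoc, hzz, one_mul] at h2; exact h2)
               | (rw [mul_assoc, hbb, mul_one] at h1; exact h1)
               | (rw [mul_assoc, hbb, mul_one] at h2; exact h2))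
    exact (mul_inv_eq_iff_eq_mul.1 this).symm
  obtain ⟨hzQ, hbQ⟩ := hQbig
  let A := (S : Subgroup G) ⊓ Subgroup.centralizer (Q : Set G)
  have ha2 : a ^ 2 ∈ A := by
    refine ⟨pow_mem ha 2, Subgroup.mem_centralizer_iff.2 fun y hy => ?_⟩
    have hzc : Commute (a ^ 2) z := (Commute.refl a).pow_pow 2 _
    rcases hsub y hy with rfl | rfl | rfl | rfl
    · exact (one_mul _).trans (mul_one _).symm
    · exact hzc.symm.eq
    · exact hb2.eq
    · exact (hzc.symm.mul_left hb2).eq
  have hQc : ∀ u ∈ Q, ∀ w ∈ Q, Commute u w := fun u hu w hw => by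
    have h1 := inv_eq_of_mul_eq_one_right (hex _ (mul_mem hu hw))
    rw [mul_inv_rev, inv_eq_of_mul_eq_one_right (hex u hu), inv_eq_of_mul_eq_one_right (hex w hw)] at h1
    exact h1.symm
  have hbA : b ∈ A := ⟨hb, Subgroup.mem_centralizer_iff.2 fun y hy => (hQc y hy b hbQ).eq⟩
  have haA : a ∉ A := fun h => by
    have h1 : b * a = a * b := Subgroup.mem_centralizer_iff.1 h.2 b hbQ
    rw [← mul_inv_eq_iff_eq_mul, hrel, pow_add, pow_one, mul_eq_right] at h1
    exact hz1 h1
  have hAcard : Nat.card A = 2 ^ n := by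
    obtain ⟨k, hk⟩ := (S.2.to_le (inf_le_left : A ≤ (S : Subgroup G))).exists_card_eq
    have h1 : Nat.card (Subgroup.zpowers (a ^ 2)) = 2 ^ (n - 1) := by
      rw [Nat.card_zpowers, orderOf_pow' _ two_ne_zero, hao, Nat.gcd_eq_right (dvd_pow_self 2 (by omega)), hn1,
        Nat.mul_div_cancel_left _ two_pos]
    have h2 : 2 ^ (n - 1) < 2 ^ k := by
      rw [← h1, ← hk]
      refine lt_of_le_of_ne (Subgroup.card_le_of_le (Subgroup.zpowers_le.2 ha2)) fun h => hbz ?_
      have := Subgroup.eq_of_le_of_card_ge (Subgroup.zpowers_le.2 ha2) h.ge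
      rw [← this] at hbA
      exact Subgroup.zpowers_le.2 (pow_mem (Subgroup.mem_zpowers a) 2) hbA
    have h3 : 2 ^ k < 2 ^ (n + 1) := by
      rw [← hS, ← hk]
      refine lt_of_le_of_ne (Subgroup.card_le_of_le inf_le_left) fun h => haA ?_
      exact (Subgroup.eq_of_le_of_card_ge (inf_le_left : A ≤ (S : Subgroup G)) h.ge).ge ha
    rw [Nat.pow_lt_pow_iff_right (by norm_num)] at h2 h3
    rw [hk]; congr 1; omega
  set C := Subgroup.centralizer (Q : Set G) with hC
  obtain ⟨T, hT⟩ := ((S.2.to_le (inf_le_left : A ≤ (S : Subgroup G))).comap_of_injective C.subtype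
    C.subtype_injective).exists_le_sylow
  have hTA : (T : Subgroup C).map C.subtype = A := by
    have hle : A ≤ (T : Subgroup C).map C.subtype := fun x hx => ⟨⟨x, hx.2⟩, hT hx, rfl⟩
    refine (Subgroup.eq_of_le_of_card_ge hle ?_).symm
    have hTQ : IsPGroup 2 ((T : Subgroup C).map C.subtype) := T.2.map _
    have hQp : IsPGroup 2 Q := S.2.to_le hQS
    obtain ⟨R, hR⟩ := (IsPGroup.to_sup_of_normal_right' hTQ hQp (by
      refine le_trans (Subgroup.map_subtype_le _) (fun c hc => ?_)
      refine Subgroup.mem_normalizer_fintype fun y hy => ?_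
      rw [(Subgroup.mem_centralizer_iff.1 hc y hy).symm, mul_inv_cancel_right]
      exact hy)).exists_le_sylow
    obtain ⟨w, hw⟩ := MulAction.exists_smul_eq G R S
    have hmem : ∀ x ∈ (R : Subgroup G), w * x * w⁻¹ ∈ (S : Subgroup G) := fun x hx => by
      rw [← hw]; exact ⟨x, hx, rfl⟩
    have himg : ∀ x ∈ Q, w * x * w⁻¹ ∈ Q := by
      intro x hx
      have h1 := hmem x (hR (Subgroup.mem_sup_right hx))
      have h2 : w * x * w⁻¹ * (w * x * w⁻¹) = 1 := by
        rw [show w * x * w⁻¹ * (w * x * w⁻¹) = w * (x * x) * w⁻¹ by group, hex x hx]; group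
      rcases hV _ h1 h2 with h | h | h | h <;> rw [h]
      exacts [one_mem Q, hzQ, hbQ, mul_mem hzQ hbQ]
    let f : (T : Subgroup C).map C.subtype → A := fun t => ⟨w * t * w⁻¹, hmem _ (hR (Subgroup.mem_sup_left t.2)), Subgroup.mem_centralizer_iff.2 <| by
      intro y hy
      let φ : Q → Q := fun u => ⟨w * u * w⁻¹, himg u u.2⟩
      have hφ : Function.Injective φ := fun u v huv => Subtype.ext
        (mul_left_cancel (mul_right_cancel (congrArg Subtype.val huv : w * (u : G) * w⁻¹ = w * v * w⁻¹)))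
      obtain ⟨u, hu⟩ := Finite.surjective_of_injective hφ ⟨y, hy⟩
      have hu' : w * (u : G) * w⁻¹ = y := congrArg Subtype.val hu
      have htC : (t : G) ∈ C := Subgroup.map_subtype_le _ t.2
      have e := Subgroup.mem_centralizer_iff.1 htC u u.2
      rw [← hu', show w * (u : G) * w⁻¹ * (w * t * w⁻¹) = w * ((u : G) * t) * w⁻¹ by group, e]; group⟩
    exact Nat.card_le_card_of_injective f fun s t h => Subtype.ext (mul_left_cancel (mul_right_cancel (congrArg Subtype.val h : w * (s : G) * w⁻¹ = w * t * w⁻¹)))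
  -- Frattini argument inside the normaliser of the four group
  obtain ⟨R, hR⟩ : ∃ R, MulAut.conjNormal (H := C.subgroupOf (Subgroup.normalizer (Q : Set G))) = R := ⟨_, rfl⟩
  clear hR R
  have hgC : ∀ c ∈ C, g * c * g⁻¹ ∈ C := by
    intro c hc
    rw [hC, Subgroup.mem_centralizer_iff]
    intro y hy
    have hy' : g⁻¹ * y * g ∈ Q := by
      have := (Subgroup.mem_set_normalizer_iff.1 (inv_mem hgN) y).1 hy
      simpa using this
    have e := Subgroup.mem_centralizer_iff.1 hc _ hy'
    calc y * (g * c * g⁻¹) = g * ((g⁻¹ * y * g) * c) * g⁻¹ := by group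
      _ = g * (c * (g⁻¹ * y * g)) * g⁻¹ := by rw [e]
      _ = g * c * g⁻¹ * y := by group
  -- translate `T` by `g`
  have hT' : ∀ t ∈ A, g * t * g⁻¹ ∈ C := fun t ht => hgC t ht.2
  let Ag : Subgroup C := (A.map (MulAut.conj g).toMonoidHom).subgroupOf C
  have hAgle : A.map (MulAut.conj g).toMonoidHom ≤ C := by
    rintro _ ⟨t, ht, rfl⟩; exact hT' t ht
  have hAgp : IsPGroup 2 Ag := ((S.2.to_le (inf_le_left : A ≤ (S : Subgroup G))).map _).comap_of_injective
    C.subtype C.subtype_injective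
  obtain ⟨T', hT''⟩ := hAgp.exists_le_sylow
  obtain ⟨c, hc⟩ := MulAction.exists_smul_eq C T' T
  set h := (c : G) * g with hh
  have hhA : ∀ t ∈ A, h * t * h⁻¹ ∈ A := by
    intro t ht
    have h1 : (⟨g * t * g⁻¹, hT' t ht⟩ : C) ∈ (T' : Subgroup C) := hT'' ⟨t, ht, rfl⟩
    have h2 : c * (⟨g * t * g⁻¹, hT' t ht⟩ : C) * c⁻¹ ∈ (T : Subgroup C) := by rw [← hc]; exact ⟨_, h1, rfl⟩
    rw [← hTA]
    exact ⟨_, h2, by simp [hh, mul_assoc]⟩
  have hhN : h ∈ Subgroup.normalizer (A : Set G) := Subgroup.mem_normalizer_fintype hhA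
  obtain ⟨k, m, hm, hmo⟩ := Nat.exists_eq_two_pow_mul_odd (orderOf_pos h).ne'
  have hho : (orderOf (h ^ 2 ^ k)).Coprime 2 := by
    rw [orderOf_pow' _ (pow_pos two_pos _).ne', hmo, Nat.gcd_eq_right (dvd_mul_right _ _),
      Nat.mul_div_cancel_left _ (pow_pos two_pos _)]
    exact Nat.coprime_two_right.2 hm
  have hcen := hbig A inf_le_left ⟨a ^ 2, ha2, fun h => by
    rw [← pow_add, ← orderOf_dvd_iff_pow_eq_one, hao] at h
    have := Nat.le_of_dvd (by norm_num) h
    have : 2 ^ 3 ≤ 2 ^ n := Nat.pow_le_pow_right two_pos hn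
    omega⟩ _ (pow_mem hhN _) hho
  -- `h` and `g` induce the same automorphism
  rw [Subgroup.mem_centralizer_iff]
  intro y hy
  have hsame : ∀ j : ℕ, ∀ y ∈ Q, h ^ j * y * (h ^ j)⁻¹ = g ^ j * y * (g ^ j)⁻¹ := by
    intro j
    induction j with
    | zero => intro y _; simp
    | succ j ih =>
      intro y hy
      have h1 : g * y * g⁻¹ ∈ Q := (Subgroup.mem_set_normalizer_iff.1 hgN y).1 hy
      have h2 : h * y * h⁻¹ = g * y * g⁻¹ := by
        rw [hh, show (c : G) * g * y * ((c : G) * g)⁻¹ = c * (g * y * g⁻¹) * (c : G)⁻¹ by group,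
          ← Subgroup.mem_centralizer_iff.1 c.2 _ h1, mul_inv_cancel_right]
      calc h ^ (j + 1) * y * (h ^ (j + 1))⁻¹ = h ^ j * (h * y * h⁻¹) * (h ^ j)⁻¹ := by rw [pow_succ]; group
        _ = g ^ j * (g * y * g⁻¹) * (g ^ j)⁻¹ := by rw [h2, ih _ h1]
        _ = _ := by rw [pow_succ]; group
  have hyA : y ∈ A := ⟨hQS hy, Subgroup.mem_centralizer_iff.2 fun u hu => (hQc u hu y hy).eq⟩
  have h3 : g ^ 2 ^ k * y * (g ^ 2 ^ k)⁻¹ = y := by
    rw [← hsame _ y hy, ← Subgroup.mem_centralizer_iff.1 hcen y hyA, mul_inv_cancel_right]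
  have h4 : Commute (g ^ 2 ^ k) y := mul_inv_eq_iff_eq_mul.1 h3
  obtain ⟨r, hr⟩ := exists_pow_eq_self_of_coprime (n := 2 ^ k) (x := g) (hg.symm.pow_left k)
  exact (hr ▸ h4.pow_left r : Commute g y).eq.symm

end Cfsg.Agent.S3178
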