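import Cfsg.Statements.S4418
import Cfsg.Agent.Lib.Solv.OddGated.MetacyclicTwo
import Cfsg.Agent.S0205

set_option autoImplicit false
open Cfsg

namespace Cfsg.Agent.S4418

/-- Let G be a finite group whose Sylow 2-subgroup S is metacyclic via a cyclic normal subgroup N of S with S/N cyclic of order greater than 2. Then G is soluble. -/
theorem result {G : Type*} [Group G] [Finite G] (S : Sylow 2 G) (N : Subgroup ↥(S : Subgroup G)) [hN : N.Normal] (hNc : IsCyclic N) (hQc : IsCyclic (↥(S : Subgroup G) ⧸ N)) (hQ : 2 < Nat.card (↥(S : Subgroup G) ⧸ N)) : Group.IsSolvable G := by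
  exact Cfsg.Agent.Solv.OddGated.MetacyclicTwo.solvable_of_sylow (fun X _ _ hX => Cfsg.Agent.S0205.result hX) S N hNc hQc hQ

end Cfsg.Agent.S4418
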