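import Cfsg.Statements.S3779
import Cfsg.Agent.Lib.Solv.FPFClass
import Cfsg.Agent.Lib.Solv.ThompsonFPF

set_option autoImplicit false
open Cfsg

namespace Cfsg.Agent.S3779

/-- Let G be a finite group with an automorphism of prime order p fixing only the identity. Then G is nilpotent; if p = 2 then G is abelian, if p = 3 then G has class at most 2, and in general the class of G is at most ξ = 1 + (p−1) + (p−1)² + ⋯ + (p−1)^(n−1) with n = 2^(p−1) − 1 (the Higman–Kreknin–Kostrikin bound). -/
theorem result {G : Type*} [Group G] [Finite G] {p : ℕ} (hp : p.Prime) (α : MulAut G) (hα : orderOf α = p) (hfpf : ∀ g : G, α g = g → g = 1) : (p = 2 → (⊤ : Subgroup G).lowerCentralSeries 1 = ⊥) ∧ (p = 3 → (⊤ : Subgroup G).lowerCentralSeries 2 = ⊥) ∧ (⊤ : Subgroup G).lowerCentralSeries (Finset.sum (Finset.range (2 ^ (p - 1) - 1)) (fun i => (p - 1) ^ i)) = ⊥ := by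
  haveI := Fact.mk hp
  have hpow : α ^ p = 1 := hα ▸ pow_orderOf_eq_one α
  have hmod : Nat.card G ≡ 1 [MOD p] := by
    have hP : IsPGroup p ↥(Subgroup.zpowers α) :=
      IsPGroup.of_card (n := 1) (by rw [Nat.card_zpowers, hα, pow_one])
    have h1 := hP.card_modEq_card_fixedPoints G
    have hset : MulAction.fixedPoints ↥(Subgroup.zpowers α) G = {1} := by
      ext g
      refine ⟨fun h => hfpf g (h ⟨α, Subgroup.mem_zpowers α⟩), fun h => ?_⟩
      rw [Set.mem_singleton_iff] at h
      subst h
      exact fun a => map_one (a : MulAut G)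
    have h2 : Nat.card ↥(MulAction.fixedPoints ↥(Subgroup.zpowers α) G) = 1 := by
      rw [hset]; simp
    rwa [h2] at h1
  have hco : (Nat.card G).Coprime p := Nat.Coprime.symm ((Nat.Prime.coprime_iff_not_dvd hp).2 fun hd => by
    rw [Nat.ModEq, Nat.mod_eq_zero_of_dvd hd, Nat.mod_eq_of_lt hp.one_lt] at hmod
    exact absurd hmod zero_ne_one)
  haveI : Group.IsNilpotent G := by
    haveI : Finite (MulAut G) := Finite.of_injective (fun e => (e : G → G)) DFunLike.coe_injective
    haveI : Finite (G ⋊[MonoidHom.id (MulAut G)] MulAut G) := Finite.of_equiv _ SemidirectProduct.equivProd.symm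
    have key : Group.IsNilpotent (SemidirectProduct.inl : G →* G ⋊[MonoidHom.id (MulAut G)] MulAut G).range := by
      refine Cfsg.Agent.Solv.fpf_nilpotent _ (SemidirectProduct.inr α) hp (by rw [← map_pow, hpow, map_one]) ?_ ?_
      · haveI : (SemidirectProduct.inl : G →* G ⋊[MonoidHom.id (MulAut G)] MulAut G).range.Normal := by
          rw [SemidirectProduct.range_inl_eq_ker_rightHom]; infer_instance
        rw [Subgroup.normalizer_eq_top]; trivial
      · refine (Subgroup.eq_bot_iff_forall _).2 fun y hy => ?_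
        obtain ⟨⟨x, rfl⟩, hy2⟩ := Subgroup.mem_inf.1 hy
        have h3 := SemidirectProduct.inl_aut (φ := MonoidHom.id (MulAut G)) α x
        rw [MonoidHom.id_apply, ← (Subgroup.mem_centralizer_singleton_iff.1 hy2), map_inv,
          mul_inv_cancel_right, SemidirectProduct.inl_inj] at h3
        rw [hfpf x h3, map_one]
    exact Group.nilpotent_of_mulEquiv
      (MonoidHom.ofInjective (SemidirectProduct.inl_injective (φ := MonoidHom.id (MulAut G)))).symm
  have hgr := Cfsg.Agent.Solv.FPFClass.graded p hpow hfpf hco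
  have hkk := Cfsg.Agent.Solv.GradedLie.hkk hgr
  refine ⟨fun h2 => ?_, fun h3 => ?_, Cfsg.Agent.Solv.FPFClass.γ_eq_bot p hpow hco hkk⟩
  · subst h2
    exact Cfsg.Agent.Solv.FPFClass.γ_eq_bot 2 hpow hco (by simpa using hkk)
  · exact Cfsg.Agent.Solv.FPFClass.γ_eq_bot p hpow hco (Cfsg.Agent.Solv.GradedLie.class_two hgr h3)

end Cfsg.Agent.S3779
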