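import Cfsg.Statements.S0618
import Cfsg.Agent.Lib.Fusion.ActModel
import Cfsg.Agent.S0617
import Cfsg.Agent.Lib.Char.OneBlock

set_option autoImplicit false
open Cfsg
open Cfsg.Agent.Fusion
open scoped commutatorElement

namespace Cfsg.Agent.S0618

/-- A p-separable group with trivial p'-core in which the Thompson factorization fails has p = 2 or 3, and J(G) induces on the normal closure of Ω₁(Z(S)) a group containing a normal SL(2, p). -/
theorem result {G : Type*} [Group G] [Finite G] {p : ℕ} [Fact p.Prime] (hsep : Cfsg.IsPSolvable p G) (hO : Cfsg.pPrimeCore p G = ⊥) (hnf : ¬ Cfsg.IsThompsonFactorizable p G) : (p = 2 ∨ p = 3) ∧ ∃ E : Subgroup G, Subgroup.centralizer ((⨆ S : Sylow p G, Cfsg.omegaOne p ((S : Subgroup G) ⊓ Subgroup.centralizer ((S : Subgroup G) : Set G))) : Set G) ≤ E ∧ E ≤ Cfsg.thompsonSubgroup p G ⊔ Subgroup.centralizer ((⨆ S : Sylow p G, Cfsg.omegaOne p ((S : Subgroup G) ⊓ Subgroup.centralizer ((S : Subgroup G) : Set G))) : Set G) ∧ Cfsg.thompsonSubgroup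 p G ⊔ Subgroup.centralizer ((⨆ S : Sylow p G, Cfsg.omegaOne p ((S : Subgroup G) ⊓ Subgroup.centralizer ((S : Subgroup G) : Set G))) : Set G) ≤ Subgroup.normalizer (E : Set G) ∧ ∃ hn : ((Subgroup.centralizer ((⨆ S : Sylow p G, Cfsg.omegaOne p ((S : Subgroup G) ⊓ Subgroup.centralizer ((S : Subgroup G) : Set G))) : Set G)).subgroupOf E).Normal, Nonempty ((↥E ⧸ (Subgroup.centralizer ((⨆ S : Sylow p G, Cfsg.omegaOne p ((S : Subgroup G) ⊓ Subgroup.centralizer ((S : Subgroup G) : Set G))) : Set G)).subgroupOf E) ≃* Matrix.SpecialLinearGroup (Fin 2) (ZMod p)) := by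
  set V := ⨆ S : Sylow p G, omegaZ p (S : Subgroup G) with hV
  haveI hVn : V.Normal := iSup_omegaZ_normal
  obtain ⟨C, hC⟩ : ∃ C, C = Subgroup.centralizer (V : Set G) := ⟨_, rfl⟩
  have hCC : Subgroup.centralizer ((⨆ S : Sylow p G, Cfsg.omegaOne p ((S : Subgroup G) ⊓ Subgroup.centralizer ((S : Subgroup G) : Set G))) : Set G) = C := by
    rw [hC, hV]
    refine le_antisymm (fun g hg => Subgroup.mem_centralizer_iff.2 fun y hy => ?_) (Subgroup.centralizer_le ?_)
    · exact Subgroup.mem_centralizer_singleton_iff.1 ((iSup_le fun S z hz =>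
        Subgroup.mem_centralizer_singleton_iff.2 (Subgroup.mem_centralizer_iff.1 hg z (Set.mem_iUnion.2 ⟨S, hz⟩)) :
        (⨆ S : Sylow p G, omegaZ p (S : Subgroup G)) ≤ Subgroup.centralizer ({g} : Set G)) hy)
    · exact Set.iUnion_subset fun S => SetLike.coe_subset_coe.2 (le_iSup (fun S : Sylow p G => omegaZ p (S : Subgroup G)) S)
  subst hC
  set C := Subgroup.centralizer (V : Set G) with hC
  haveI : C.Normal := Subgroup.normal_centralizer
  have hOp : ∀ T : Sylow p G, Cfsg.pCore p G ≤ (T : Subgroup G) := by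
    haveI := Agent.Solv.pCore_normal (G := G) p
    intro T
    exact pCore_le_sylow T
  have hVe : Cfsg.IsElementaryAbelian p V := by
    have hZ : ∀ T : Sylow p G, ∀ y ∈ omegaZ p (T : Subgroup G),
        y ∈ Cfsg.pCore p G ∧ y ∈ Subgroup.centralizer (Cfsg.pCore p G : Set G) := by
      intro T y hy
      have h1 := omegaZ_le _ hy
      have h2 : y ∈ Subgroup.centralizer (Cfsg.pCore p G : Set G) := Subgroup.centralizer_le (hOp T) h1.2
      exact ⟨Agent.Char.centralizer_pCore_le_of_pSolvable hsep hO h2, h2⟩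
    rw [hV, show (⨆ S : Sylow p G, omegaZ p (S : Subgroup G)) =
      Subgroup.closure (⋃ S : Sylow p G, {y : G | y ∈ (S : Subgroup G) ⊓ Subgroup.centralizer ((S : Subgroup G) : Set G) ∧ y ^ p = 1}) by
      rw [Subgroup.closure_iUnion]; rfl]
    refine Cfsg.Agent.Local.elemAb_closure _ ?_ ?_
    · intro a ha b hb
      obtain ⟨S, hS⟩ := Set.mem_iUnion.1 ha
      obtain ⟨T, hT⟩ := Set.mem_iUnion.1 hb
      exact (Subgroup.mem_centralizer_iff.1 (hZ S a (Subgroup.subset_closure hS)).2 b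
        (hZ T b (Subgroup.subset_closure hT)).1).symm
    · intro a ha
      obtain ⟨S, hS⟩ := Set.mem_iUnion.1 ha
      exact hS.2
  have hQ : Cfsg.pCore p (G ⧸ C) = ⊥ := by
    haveI := Agent.Solv.pCore_normal (G := G ⧸ C) p
    haveI hDn : ((Cfsg.pCore p (G ⧸ C)).comap (QuotientGroup.mk' C)).Normal := Subgroup.normal_comap _
    have hgen : V ≤ ⨆ S : Sylow p G, V ⊓ Subgroup.centralizer ((S : Subgroup G) : Set G) :=
      hV.le.trans (iSup_mono fun S => le_inf (hV ▸ le_iSup (fun S : Sylow p G => omegaZ p (S : Subgroup G)) S)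
        ((omegaZ_le _).trans inf_le_right))
    have hle : C ≤ (Cfsg.pCore p (G ⧸ C)).comap (QuotientGroup.mk' C) := fun g hg => by
      rw [Subgroup.mem_comap, QuotientGroup.mk'_apply, (QuotientGroup.eq_one_iff g).2 hg]; exact one_mem _
    have hD := eq_centralizer_of_generated_fixed hgen hle (by
      obtain ⟨k, hk⟩ := IsPGroup.iff_card.1 (isPGroup_pCore p (G ⧸ C))
      refine ⟨k, ?_⟩
      rw [← hk]
      calc C.relIndex _ = ((⊥ : Subgroup (G ⧸ C)).comap (QuotientGroup.mk' C)).relIndex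
            ((Cfsg.pCore p (G ⧸ C)).comap (QuotientGroup.mk' C)) := by rw [MonoidHom.comap_bot, QuotientGroup.ker_mk']
        _ = _ := ?_
      rw [Subgroup.relIndex_comap, Subgroup.map_comap_eq_self_of_surjective (QuotientGroup.mk'_surjective C),
        Subgroup.relIndex_bot_left])
    rw [← Subgroup.map_comap_eq_self_of_surjective (QuotientGroup.mk'_surjective C) (Cfsg.pCore p (G ⧸ C)), hD,
      QuotientGroup.map_mk'_self]
  set J := Cfsg.thompsonSubgroup p G with hJ
  haveI hJc : J.Characteristic := thompsonSubgroup_char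
  haveI : J.Normal := Subgroup.normal_of_characteristic J
  have hgen : J.map (ActModel.proj V) =
      ⨆ A : {A : Subgroup (ActModel.Ω V) // A ≤ J.map (ActModel.proj V) ∧
        Cfsg.IsBestOffenderOn p (ActModel.incl V).range A}, (A : Subgroup (ActModel.Ω V)) := by
    refine le_antisymm ?_ (iSup_le fun A => A.2.1)
    rw [Subgroup.map_le_iff_le_comap, hJ, Cfsg.thompsonSubgroup]
    refine sSup_le fun A hA => Subgroup.map_le_iff_le_comap.1 ?_
    exact le_iSup_of_le ⟨A.map (ActModel.proj V), Subgroup.map_mono (le_sSup hA),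
      ActModel.offender V (isBestOffender_of_maxElementary V hVe hA)⟩ le_rfl
  have hne : J.map (ActModel.proj V) ≠ ⊥ := fun h => hnf (factorizable_of_thompson_le_centralizer (by
    rw [Subgroup.map_eq_bot_iff, ActModel.ker_proj] at h
    exact h))
  have c := ActModel.ctx V hsep hVe hQ J
  obtain ⟨hp23, hE, -, hsup, -, -⟩ :=
    Cfsg.Agent.S0617.result _ _ c.elem c.norm c.faithful c.core hgen hne
  refine ⟨hp23, ?_⟩
  obtain ⟨E', hEx⟩ := nonempty_subtype.1 (show Nonempty _ from by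
    by_contra hem
    haveI := not_nonempty_iff.1 hem
    rw [iSup_of_empty] at hsup
    exact hne hsup.symm : Nonempty {E : Subgroup (ActModel.Ω V) // ∃ A : Subgroup (ActModel.Ω V),
      A ≤ J.map (ActModel.proj V) ∧ Cfsg.IsBestOffenderOn p (ActModel.incl V).range A ∧
      ⁅(ActModel.incl V).range, A⁆ ≠ ⊥ ∧ (∀ B : Subgroup (ActModel.Ω V), B ≤ A →
        Cfsg.IsBestOffenderOn p (ActModel.incl V).range B → ⁅(ActModel.incl V).range, B⁆ ≠ ⊥ → B = A) ∧
      E = ⁅((Cfsg.pPrimeCore p ↥(J.map (ActModel.proj V))).map (J.map (ActModel.proj V)).subtype), A⁆ ⊔ A})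
  obtain ⟨hEn, ⟨σ⟩, -⟩ := hE ⟨E', hEx⟩
  have hEle : E' ≤ J.map (ActModel.proj V) :=
    (le_iSup (fun E : {E : Subgroup (ActModel.Ω V) // ∃ A : Subgroup (ActModel.Ω V),
      A ≤ J.map (ActModel.proj V) ∧ Cfsg.IsBestOffenderOn p (ActModel.incl V).range A ∧
      ⁅(ActModel.incl V).range, A⁆ ≠ ⊥ ∧ (∀ B : Subgroup (ActModel.Ω V), B ≤ A →
        Cfsg.IsBestOffenderOn p (ActModel.incl V).range B → ⁅(ActModel.incl V).range, B⁆ ≠ ⊥ → B = A) ∧
      E = ⁅((Cfsg.pPrimeCore p ↥(J.map (ActModel.proj V))).map (J.map (ActModel.proj V)).subtype), A⁆ ⊔ A} =>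
        (E : Subgroup (ActModel.Ω V))) ⟨E', hEx⟩).trans hsup.le
  set E := E'.comap (ActModel.proj V) with hEdef
  have hCE : C ≤ E := by
    intro g hg
    rw [hEdef, Subgroup.mem_comap, (ActModel.proj_eq_one V).2 hg]
    exact one_mem _
  refine ⟨E, hCC.le.trans hCE, ?_, ?_, ?_⟩
  · refine le_trans ?_ (sup_le_sup_left hCC.ge J)
    calc E ≤ (J.map (ActModel.proj V)).comap (ActModel.proj V) := Subgroup.comap_mono hEle
      _ = J ⊔ (ActModel.proj V).ker := Subgroup.comap_map_eq _ _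
      _ ≤ J ⊔ C := sup_le_sup_left (ActModel.ker_proj V).le J
  · refine sup_le (fun g hg => ?_) (hCC.le.trans ((Subgroup.le_normalizer).trans' hCE))
    refine Subgroup.le_normalizer_comap _ ?_
    exact hEn ⟨g, hg, rfl⟩
  · let ψ : ↥E →* ↥E' := ((ActModel.proj V).comp E.subtype).codRestrict E' fun g => g.2
    have hψ : Function.Surjective ψ := fun e => by
      obtain ⟨g, -, hg⟩ := hEle e.2
      exact ⟨⟨g, by rw [hEdef, Subgroup.mem_comap, hg]; exact e.2⟩, Subtype.ext hg⟩
    have hker : ψ.ker = C.subgroupOf E := by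
      ext g
      rw [MonoidHom.mem_ker, Subgroup.mem_subgroupOf, ← ActModel.proj_eq_one V]
      exact ⟨fun h => congrArg Subtype.val h, fun h => Subtype.ext h⟩
    haveI hn : (C.subgroupOf E).Normal := hker ▸ inferInstance
    suffices main : ∀ C' : Subgroup G, C' = C → ∃ _ : (C'.subgroupOf E).Normal,
        Nonempty ((↥E ⧸ C'.subgroupOf E) ≃* Matrix.SpecialLinearGroup (Fin 2) (ZMod p)) from main _ hCC
    rintro _ rfl
    exact ⟨hn, ⟨((QuotientGroup.quotientMulEquivOfEq hker.symm).trans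
      (QuotientGroup.quotientKerEquivOfSurjective ψ hψ)).trans σ⟩⟩

end Cfsg.Agent.S0618
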