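import Cfsg.Statements.S3972
import Cfsg.Agent.Lib.Solv.BurnsideSchur

open Cfsg.Agent

set_option autoImplicit false
open scoped Pointwise
open Cfsg

namespace Cfsg.Agent.S3972

/-- Let `p` be a prime, `m ≥ 2`, and `G` a transitive but not doubly transitive permutation group on `p ^ m` points containing a permutation of order `p ^ m` (necessarily a full cycle). Then `G` is imprimitive, and the normal closure in `G` of the `p ^ (m - 1)`-th power of that permutation is an intransitive normal subgroup. -/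
theorem result {Ω : Type*} [Fintype Ω] [DecidableEq Ω] (p m : ℕ) (hp : p.Prime) (hm : 2 ≤ m) (hΩ : Fintype.card Ω = p ^ m) (G : Subgroup (Equiv.Perm Ω)) (htr : MulAction.IsPretransitive G Ω) (h2 : ¬ MulAction.IsMultiplyPretransitive G Ω 2) (g : G) (hg : orderOf g = p ^ m) : ¬ MulAction.IsPreprimitive G Ω ∧ ¬ MulAction.IsPretransitive (Subgroup.normalClosure ({g ^ (p ^ (m - 1))} : Set G)) Ω := by
  classical
  obtain ⟨N, hN⟩ : ∃ N, N = p ^ m := ⟨_, rfl⟩
  haveI : Fact p.Prime := ⟨hp⟩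
  haveI : NeZero N := ⟨hN ▸ (pow_pos hp.pos m).ne'⟩
  have hord : orderOf (g : Equiv.Perm Ω) = N := by rw [Subgroup.orderOf_coe, hg, hN]
  haveI : MulAction.IsPretransitive G Ω := htr
  -- a point with a full orbit
  obtain ⟨ω, hω⟩ : ∃ ω : Ω, ∀ k : ℕ, 0 < k → k < N → ((g : Equiv.Perm Ω) ^ k) ω ≠ ω := by
    by_contra hcon
    push Not at hcon
    have hfix : ∀ ω : Ω, ((g : Equiv.Perm Ω) ^ p ^ (m - 1)) ω = ω := by
      intro ω
      obtain ⟨k, hk0, hkN, hk⟩ := hcon ω
      obtain ⟨d, hdm, hd⟩ := (Nat.dvd_prime_pow hp).1 (Nat.gcd_dvd_right k (p ^ m))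
      have hdlt : d ≤ m - 1 := by
        by_contra h
        have hdm' : d = m := by omega
        rw [hdm'] at hd
        exact absurd (Nat.le_of_dvd hk0 (hd ▸ Nat.gcd_dvd_left k (p ^ m))) (by omega)
      have h1 : (g : Equiv.Perm Ω) ^ (k.gcd (p ^ m)) ∈ MulAction.stabilizer (Equiv.Perm Ω) ω := by
        rw [← zpow_natCast, Nat.gcd_eq_gcd_ab, zpow_add, zpow_mul, zpow_mul, zpow_natCast, zpow_natCast,
          ← hN, ← hord, pow_orderOf_eq_one, one_zpow, mul_one]
        exact zpow_mem (show (g : Equiv.Perm Ω) ^ k ∈ MulAction.stabilizer (Equiv.Perm Ω) ω from hk) _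
      rw [hd] at h1
      obtain ⟨j, hj⟩ := Nat.pow_dvd_pow p hdlt
      have h2 := Subgroup.pow_mem _ h1 j
      rw [← pow_mul, ← hj] at h2
      exact h2
    refine pow_ne_one_of_lt_orderOf (x := (g : Equiv.Perm Ω)) (n := p ^ (m - 1)) (pow_pos hp.pos _).ne' ?_ ?_
    · rw [hord, hN]; exact Nat.pow_lt_pow_right hp.one_lt (by omega)
    · exact Equiv.ext hfix
  -- numbering of the points
  obtain ⟨φ, hφ⟩ : ∃ φ : ZMod N ≃ Ω, ∀ i, φ i = ((g : Equiv.Perm Ω) ^ i.val) ω := by
    have hinj : Function.Injective fun i : ZMod N => ((g : Equiv.Perm Ω) ^ i.val) ω := by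
      suffices h : ∀ i j : ZMod N, i.val ≤ j.val →
          ((g : Equiv.Perm Ω) ^ i.val) ω = ((g : Equiv.Perm Ω) ^ j.val) ω → i = j by
        intro i j hij
        rcases le_total i.val j.val with h' | h'
        · exact h i j h' hij
        · exact (h j i h' hij.symm).symm
      intro i j hle hij
      by_contra hne
      have hlt : i.val < j.val := lt_of_le_of_ne hle fun h => hne (ZMod.val_injective N h)
      refine hω (j.val - i.val) (by omega) (by have := ZMod.val_lt j; omega) ?_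
      apply ((g : Equiv.Perm Ω) ^ i.val).injective
      rw [← Equiv.Perm.mul_apply, ← pow_add, Nat.add_sub_cancel' hle]
      exact hij.symm
    exact ⟨Equiv.ofBijective _ ((Fintype.bijective_iff_injective_and_card _).2
      ⟨hinj, by rw [ZMod.card, hΩ, hN]⟩), fun i => rfl⟩
  have hφadd : ∀ (i c : ZMod N), φ (i + c) = ((g : Equiv.Perm Ω) ^ c.val) (φ i) := by
    intro i c
    rw [hφ, hφ, ← Equiv.Perm.mul_apply, ← pow_add, pow_inj_mod.2]
    rw [hord, ZMod.val_add, Nat.mod_mod, add_comm]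
  have hφ0 : φ 0 = ω := by rw [hφ, ZMod.val_zero, pow_zero]; rfl
  letI act : MulAction G (ZMod N) :=
    { smul := fun σ i => φ.symm (σ • φ i)
      one_smul := fun i => by show φ.symm ((1 : G) • φ i) = i; rw [one_smul, Equiv.symm_apply_apply]
      mul_smul := fun a b i => by
        show φ.symm ((a * b) • φ i) = φ.symm (a • φ (φ.symm (b • φ i)))
        rw [Equiv.apply_symm_apply, mul_smul] }
  have hsmul : ∀ (σ : G) (i : ZMod N), φ (σ • i) = σ • φ i := fun σ i => Equiv.apply_symm_apply φ _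
  have hshift : ∀ (c i : ZMod N), (g ^ c.val) • i = i + c := fun c i => φ.injective (by
    rw [hsmul, hφadd]
    rfl)
  have hs : ∀ c : ZMod N, ∃ s : G, ∀ x : ZMod N, s • x = x + c := fun c => ⟨g ^ c.val, hshift c⟩
  have hrank : ∃ x y : ZMod N, x ≠ 0 ∧ y ≠ 0 ∧ ∀ σ : G, σ • (0 : ZMod N) = 0 → σ • x ≠ y := by
    by_contra hcon
    push Not at hcon
    refine h2 (MulAction.is_two_pretransitive_iff.2 ?_)
    suffices key : ∀ a b : Ω, a ≠ b → ∃ σ : G, σ • a = ω ∧ σ • b = φ 1 by
      intro a b c d hab hcd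
      obtain ⟨s, hsa, hsb⟩ := key a b hab
      obtain ⟨t, htc, htd⟩ := key c d hcd
      exact ⟨t⁻¹ * s, by rw [mul_smul, hsa, inv_smul_eq_iff, htc],
        by rw [mul_smul, hsb, inv_smul_eq_iff, htd]⟩
    intro a b hab
    obtain ⟨s, hsa⟩ := MulAction.exists_smul_eq G a ω
    have hx0 : φ.symm (s • b) ≠ 0 := fun h => hab (by
      rw [Equiv.symm_apply_eq, hφ0, ← hsa] at h
      exact (MulAction.injective s h).symm)
    have h10 : (1 : ZMod N) ≠ 0 := by
      haveI : Fact (1 < N) := ⟨hN ▸ Nat.one_lt_pow (by omega) hp.one_lt⟩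
      exact one_ne_zero
    obtain ⟨σ, hσ0, hσx⟩ := hcon _ _ hx0 h10
    refine ⟨σ * s, ?_, ?_⟩
    · rw [mul_smul, hsa, ← hφ0, ← hsmul, hσ0]
    · rw [mul_smul, ← φ.apply_symm_apply (s • b), ← hsmul, hσx]
  obtain ⟨L, hL0, hL1, hLinv⟩ := Solv.BSchur.exists_invariant_subgroup hm hN hs hrank
  have hinv : Solv.BSchur.Inv G (fun x : ZMod N => decide (x ∈ L)) := fun σ hσ x => by
    rw [decide_eq_decide]
    refine ⟨fun h => ?_, hLinv σ hσ x⟩
    have h1 := hLinv σ⁻¹ (by rw [inv_smul_eq_iff, hσ]) _ h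
    rwa [inv_smul_smul] at h1
  have hedge : ∀ (σ : G) (i j : ZMod N), σ • j - σ • i ∈ L ↔ j - i ∈ L := fun σ i j => by
    have h := hinv.edge hs σ i j
    rwa [decide_eq_decide] at h
  constructor
  · intro hprim
    have hB : MulAction.IsBlock G ((fun i => φ i) '' (L : Set (ZMod N))) := by
      rw [MulAction.isBlock_iff_smul_eq_or_disjoint]
      intro σ
      have hmem : ∀ z : ZMod N, φ z ∈ σ • ((fun i => φ i) '' (L : Set (ZMod N))) ↔ z - σ • (0 : ZMod N) ∈ L := by
        intro z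
        rw [Set.mem_smul_set_iff_inv_smul_mem, ← hsmul]
        constructor
        · rintro ⟨l, hl, hlz⟩
          have h := (hedge σ 0 l).2 (by rwa [sub_zero])
          rwa [show l = σ⁻¹ • z from φ.injective hlz, smul_inv_smul] at h
        · intro h
          refine ⟨σ⁻¹ • z, ?_, rfl⟩
          have h' := (hedge σ 0 (σ⁻¹ • z)).1 (by rwa [smul_inv_smul])
          rwa [sub_zero] at h'
      by_cases hc : σ • (0 : ZMod N) ∈ L
      · left
        ext w
        obtain ⟨z, rfl⟩ := φ.surjective w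
        rw [hmem]
        exact ⟨fun h => ⟨z, by simpa using L.add_mem h hc, rfl⟩,
          fun ⟨l, hl, he⟩ => φ.injective he ▸ L.sub_mem hl hc⟩
      · right
        rw [Set.disjoint_left]
        intro w hw
        obtain ⟨z, rfl⟩ := φ.surjective w
        rw [hmem] at hw
        rintro ⟨l, hl, he⟩
        refine hc ?_
        have h := L.sub_mem hl hw
        rwa [φ.injective he, sub_sub_cancel] at h
    rcases hprim.isTrivialBlock_of_isBlock hB with h | h
    · refine hL0 ((AddSubgroup.eq_bot_iff_forall _).2 fun x hx => ?_)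
      exact φ.injective (h ⟨x, hx, rfl⟩ ⟨0, L.zero_mem, rfl⟩)
    · refine hL1 (eq_top_iff.2 fun x _ => ?_)
      obtain ⟨l, hl, he⟩ := (h ▸ Set.mem_univ (φ x) : φ x ∈ (fun i => φ i) '' (L : Set (ZMod N)))
      rwa [← φ.injective he]
  · intro htrans
    obtain ⟨Nn, hNn⟩ : ∃ Nn : Subgroup G, ∀ σ, σ ∈ Nn ↔ ∀ i : ZMod N, σ • i - i ∈ L :=
      ⟨{ carrier := {σ | ∀ i : ZMod N, σ • i - i ∈ L}
         mul_mem' := fun {a b} ha hb i => by
          rw [mul_smul, ← sub_add_sub_cancel (a • (b • i)) (b • i) i]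
          exact L.add_mem (ha _) (hb i)
         one_mem' := fun i => by rw [one_smul, sub_self]; exact L.zero_mem
         inv_mem' := fun {a} ha i => by
          have h := L.neg_mem (ha (a⁻¹ • i))
          rwa [smul_inv_smul, neg_sub] at h }, fun _ => Iff.rfl⟩
    haveI : Nn.Normal := ⟨fun a ha σ => (hNn _).2 fun i => by
      have h := (hedge σ (σ⁻¹ • i) (a • σ⁻¹ • i)).2 ((hNn a).1 ha _)
      rwa [smul_inv_smul, ← mul_smul, ← mul_smul] at h⟩
    have hmemL : ((p ^ (m - 1) : ℕ) : ZMod N) ∈ L := by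
      obtain ⟨x, hx, hx0⟩ : ∃ x ∈ L, x ≠ 0 := by
        by_contra h
        push Not at h
        exact hL0 ((AddSubgroup.eq_bot_iff_forall _).2 h)
      obtain ⟨d, hdm, hd⟩ := (Nat.dvd_prime_pow hp).1 (Nat.gcd_dvd_right x.val (p ^ m))
      have hdlt : d ≤ m - 1 := by
        by_contra h
        have hdm' : d = m := by omega
        rw [hdm'] at hd
        have hlt' : x.val < p ^ m := lt_of_lt_of_eq (ZMod.val_lt x) hN
        refine hx0 ((ZMod.val_eq_zero x).1 (Nat.eq_zero_of_dvd_of_lt ?_ hlt'))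
        exact hd ▸ Nat.gcd_dvd_left x.val (p ^ m)
      obtain ⟨j, hj⟩ := Nat.pow_dvd_pow p hdlt
      have hbez : ((p ^ d : ℕ) : ZMod N) = (Int.cast (Nat.gcdA x.val (p ^ m)) : ZMod N) * x := by
        rw [← hd]
        have h := congrArg (fun z : ℤ => (z : ZMod N)) (Nat.gcd_eq_gcd_ab x.val (p ^ m))
        simp only [Int.cast_natCast, Int.cast_add, Int.cast_mul] at h
        rw [h, ← hN, ZMod.natCast_self, zero_mul, add_zero, ZMod.natCast_zmod_val, mul_comm]
      rw [hj, Nat.cast_mul, hbez, mul_comm, ← nsmul_eq_mul, ← zsmul_eq_mul]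
      exact L.nsmul_mem (L.zsmul_mem hx _) j
    have hle : Subgroup.normalClosure ({g ^ (p ^ (m - 1))} : Set G) ≤ Nn := by
      refine Subgroup.normalClosure_le_normal ?_
      rintro _ rfl
      refine (hNn _).2 fun i => ?_
      have hlt : p ^ (m - 1) < N := hN ▸ Nat.pow_lt_pow_right hp.one_lt (by omega)
      have h := hshift ((p ^ (m - 1) : ℕ) : ZMod N) i
      rw [ZMod.val_natCast_of_lt hlt] at h
      rw [h, add_sub_cancel_left]
      exact hmemL
    refine hL1 (eq_top_iff.2 fun x _ => ?_)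
    obtain ⟨σ, hσ⟩ := MulAction.exists_smul_eq (Subgroup.normalClosure ({g ^ (p ^ (m - 1))} : Set G)) ω (φ x)
    have h := (hNn _).1 (hle σ.2) 0
    have hx : (σ : G) • (0 : ZMod N) = x := φ.injective (by rw [hsmul, hφ0]; exact hσ)
    rwa [hx, sub_zero] at h

end Cfsg.Agent.S3972
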