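import Cfsg.Statements.S1167
import Cfsg.Agent.Lib.Lie.Feit.Main
import Cfsg.Agent.Lib.Lie.ZassenhausHalf
import Cfsg.Agent.Lib.Lie.ZassenhausKernel
import Cfsg.Agent.Lib.Lie.ZassenhausCount
-- import your own Cfsg.Agent.* helpers here

set_option autoImplicit false
open Cfsg

namespace Cfsg.Agent.S1167

/-- Let `G` be a finite simple Zassenhaus group on `Ω`, `U` a normal subgroup of `G_a` regular on `Ω` minus `a` which is an abelian 2-group, and `v` an involution with `v • a ≠ a`. Then there is a unique `u₀ ∈ U`, `u₀ ≠ 1`, with `v u₀ v = u₀ v u₀`. -/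
theorem result {G Ω : Type*} [Group G] [Finite G] [MulAction G Ω] [Finite Ω]
    (hZ : Cfsg.IsZassenhausGroup G Ω) [IsSimpleGroup G] {a : Ω}
    (U : Subgroup G) (hUle : U ≤ MulAction.stabilizer G a)
    (hUn : ∀ h ∈ MulAction.stabilizer G a, ∀ u ∈ U, h * u * h⁻¹ ∈ U)
    (hreg : ∀ c d : Ω, c ≠ a → d ≠ a → ∃! u : U, (u : G) • c = d)
    (hU2 : IsPGroup 2 U) (hUab : ∀ u ∈ U, ∀ u' ∈ U, u * u' = u' * u)
    (v : G) (hv1 : v ≠ 1) (hv2 : v * v = 1) (hva : v • a ≠ a) :
    ∃! u₀ : G, u₀ ∈ U ∧ u₀ ≠ 1 ∧ v * u₀ * v = u₀ * v * u₀ := by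
  classical
  haveI : Fintype Ω := Fintype.ofFinite Ω
  haveI : Fintype G := Fintype.ofFinite G
  obtain ⟨hF, h2, h3, hfix, -⟩ := id hZ
  haveI := hF
  obtain ⟨b, hb⟩ : ∃ b, b = v • a := ⟨_, rfl⟩
  have hba : b ≠ a := hb ▸ hva
  have hab : a ≠ b := hba.symm
  obtain ⟨y, hya, hyb⟩ := Cfsg.Agent.Lie.Zassenhaus.three_le_card (G := G) hfix hab
  have hthree : 3 ≤ Fintype.card Ω := by
    have h1 : ({a, b, y} : Finset Ω).card = 3 := Finset.card_eq_three.2 ⟨a, b, y, hab, hya.symm, hyb.symm, rfl⟩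
    have := Finset.card_le_univ ({a, b, y} : Finset Ω)
    omega
  -- the regular subgroup
  have hbij : Function.Bijective fun u : U => (⟨(u : G) • b, fun h => hab
      (MulAction.injective (u : G) (h.trans (hUle u.2).symm)).symm⟩ : {c : Ω // c ≠ a}) := by
    refine ⟨fun u u' h => ?_, fun c => ?_⟩
    · obtain ⟨w, -, hw⟩ := hreg b ((u' : G) • b) hba (fun h' => hab
        (MulAction.injective (u' : G) (h'.trans (hUle u'.2).symm)).symm)
      exact (hw u (congrArg Subtype.val h)).trans (hw u' rfl).symm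
    · obtain ⟨w, hw, -⟩ := hreg b c.1 hba c.2
      exact ⟨w, Subtype.ext hw⟩
  have hcard : Nat.card U + 1 = Fintype.card Ω := by
    rw [Nat.card_eq_of_bijective _ hbij, Nat.card_eq_fintype_card, Fintype.card_subtype_compl,
      Fintype.card_subtype_eq]
    omega
  have honly : ∀ u ∈ U, u ≠ 1 → ∀ c : Ω, u • c = c → c = a := by
    intro u hu hu1 c hc
    by_contra hca
    obtain ⟨w, -, hw⟩ := hreg c c hca hca
    exact hu1 (congrArg Subtype.val ((hw ⟨u, hu⟩ hc).trans (hw 1 (one_smul G c)).symm))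
  obtain ⟨n, hn⟩ := hU2.exists_card_eq
  have hn0 : n ≠ 0 := fun h0 => by rw [h0, pow_zero] at hn; omega
  have hUeven : 2 ∣ Nat.card U := hn ▸ dvd_pow_self 2 hn0
  -- the regular subgroup is elementary
  have hd : Fintype.card Ω - 2 ≤ 2 * Nat.card ↥(MulAction.stabilizer G a ⊓ MulAction.stabilizer G b) := by
    by_contra hsmall
    rcases Nat.even_or_odd (Nat.card ↥(MulAction.stabilizer G a ⊓ MulAction.stabilizer G b)) with heven | hodd
    · obtain ⟨K, iK, iKF, hq, hKc, -⟩ :=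
        Cfsg.Agent.Lie.ZassenhausHalf.psl_of_half hZ hab heven (by omega)
      omega
    · rcases Cfsg.Agent.Lie.Feit.feit_inequality hZ hab (h := Fintype.card Ω - 1) (by omega) rfl hodd hUle hcard honly
        with h1 | ⟨-, ⟨u, u', huu⟩, -⟩
      · omega
      · exact huu (Subtype.ext (hUab u u.2 u' u'.2))
  obtain ⟨-, p, f, hp, hexp, hpf⟩ := Cfsg.Agent.Lie.ZassenhausKernel.kernel_elementary hZ hab hd U hUle
    ⟨fun u hu g => Subgroup.mem_subgroupOf.2 (hUn g g.2 u (Subgroup.mem_subgroupOf.1 hu))⟩ hreg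
  have hp2 : p = 2 := by
    have h1 : 2 ∣ p ^ f := by
      have h2 : Nat.card U = p ^ f := by omega
      exact h2 ▸ hUeven
    exact ((Nat.prime_dvd_prime_iff_eq Nat.prime_two hp).1 (Nat.prime_two.dvd_of_dvd_pow h1)).symm
  subst hp2
  -- the fixed point of the involution
  have hfx : ∀ c d : Ω, v • c = c → v • d = d → c ≠ a → c ≠ b → c = d := by
    intro c d hc hd hca hcb
    by_contra hcd
    have h1 := Cfsg.Agent.Lie.ZassenhausCount.nfix_le (Ω := Ω) h3 hv1
    have hpar := Equiv.Perm.card_compl_support_modEq (n := 1) (p := 2) (σ := (MulAction.toPerm v : Equiv.Perm Ω))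
      (Equiv.ext fun z => by show v • v • z = z; rw [smul_smul, hv2, one_smul])
    have hsupp : (MulAction.toPerm v : Equiv.Perm Ω).supportᶜ = Finset.univ.filter fun z : Ω => v • z = z := by
      ext z
      simp
    rw [hsupp] at hpar
    change Cfsg.Agent.Lie.ZassenhausCount.nfix (Ω := Ω) v % 2 = Fintype.card Ω % 2 at hpar
    have h2' : 2 ≤ Cfsg.Agent.Lie.ZassenhausCount.nfix (Ω := Ω) v :=
      Finset.one_lt_card.2 ⟨c, by simp [hc], d, by simp [hd], hcd⟩
    omega
  obtain ⟨c, hc, hca, hcb⟩ : ∃ c, v • c = c ∧ c ≠ a ∧ c ≠ b := by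
    have hpar := Equiv.Perm.card_compl_support_modEq (n := 1) (p := 2) (σ := (MulAction.toPerm v : Equiv.Perm Ω))
      (Equiv.ext fun z => by show v • v • z = z; rw [smul_smul, hv2, one_smul])
    obtain ⟨c, hc⟩ : ((MulAction.toPerm v : Equiv.Perm Ω).supportᶜ).Nonempty := by
      rw [← Finset.card_pos]
      rw [Nat.ModEq] at hpar
      omega
    simp only [Finset.mem_compl, Equiv.Perm.mem_support, not_not, MulAction.toPerm_apply] at hc
    refine ⟨c, hc, fun h => hva (h ▸ hc), fun h => ?_⟩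
    rw [h, hb, smul_smul, hv2, one_smul] at hc
    exact hva hc.symm
  obtain ⟨u₀, hu₀, hu₀u⟩ := hreg b c hba hca
  have hu₀1 : (u₀ : G) ≠ 1 := fun h => hcb (by rw [← hu₀, h, one_smul])
  have hu₀2 : (u₀ : G) * u₀ = 1 := by rw [← sq]; exact hexp u₀ u₀.2
  have hu₀a : (u₀ : G) • a = a := hUle u₀.2
  refine ⟨u₀, ⟨u₀.2, hu₀1, ?_⟩, ?_⟩
  · have hvb : v • b = a := by rw [hb, smul_smul, hv2, one_smul]
    have hu₀c : (u₀ : G) • c = b := by rw [← hu₀, smul_smul, hu₀2, one_smul]
    have hga : (v * u₀) • a = b := by rw [mul_smul, hu₀a, hb]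
    have hgb : (v * u₀) • b = c := by rw [mul_smul, hu₀, hc]
    have hgc : (v * u₀) • c = a := by rw [mul_smul, hu₀c, hvb]
    have h1 : v * u₀ * (v * u₀) * (v * u₀) = 1 := h3 _ a b c hab (Ne.symm hcb) (Ne.symm hca)
      (by rw [mul_smul, mul_smul, hga, hgb, hgc]) (by rw [mul_smul, mul_smul, hgb, hgc, hga])
      (by rw [mul_smul, mul_smul, hgc, hga, hgb])
    calc v * (u₀ : G) * v = v * u₀ * (v * u₀) * (v * u₀) * ((u₀ : G)⁻¹ * v⁻¹ * (u₀ : G)⁻¹) := by group
      _ = u₀ * v * u₀ := by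
        rw [h1, one_mul, inv_eq_of_mul_eq_one_right hu₀2, inv_eq_of_mul_eq_one_right hv2]
  · rintro u ⟨huU, hu1, heq⟩
    have hfixu : v • u • b = u • b := by
      have h1 := congrArg (· • a) heq
      have hua : u • a = a := hUle huU
      simp only [mul_smul] at h1
      rw [hua, ← hb] at h1
      exact h1
    have hune : u • b ≠ a := fun h => hab (MulAction.injective u (h.trans (hUle huU).symm)).symm
    have hub : u • b ≠ b := fun h => hba (honly u huU hu1 b h)
    have := hu₀u ⟨u, huU⟩ (hfx (u • b) c hfixu hc hune hub)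
    exact congrArg Subtype.val this

end Cfsg.Agent.S1167
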