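import Cfsg.Statements.S2808
import Cfsg.Agent.Lib.PushUp.Fam.Choose

set_option autoImplicit false
universe u
open Cfsg Cfsg.Agent Cfsg.Agent.PushUp
open scoped commutatorElement

namespace Cfsg.Agent.S2808

/-- Let p be a prime and S a finite p-group with J(S) generated by the abelian subgroups of largest order, Z(J(S)) its centre and J̃(S) = C_S(Z(J(S))). Put S₀ = [Φ(S), S]·Φ(Φ(S)) if p = 2, S₀ = [[Φ(S), S], S]·Φ(Φ(S)) if p = 3, and S₀ = [Φ(S), S]·℧¹(S) if p > 3. If [Z(J(S)), S] ≠ 1 or S₀ ≠ 1, then S has nontrivial characteristic subgroups S₁ ≤ Z(S) and S₂ ≤ J̃(S), with S₂ characteristic in J̃(S), such that in every finite group G containing S as a Sylow p-subgroup with C_G(O_p(G)) ≤ O_p(G), S in exactly one maximal subgroup of G, and G/K ≅ PSL₂(p^n) for some normal K and n ≥ 1, at least one of S₁, S₂ is normal. -/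
theorem result {S : Type u} [Group S] [Finite S] {p : ℕ} [Fact p.Prime] (hS : IsPGroup p S) (S₀ : Subgroup S) (hS₀ : S₀ = if p = 2 then ⁅frattini S, (⊤ : Subgroup S)⁆ ⊔ (frattini ↥(frattini S)).map (frattini S).subtype else if p = 3 then ⁅⁅frattini S, (⊤ : Subgroup S)⁆, (⊤ : Subgroup S)⁆ ⊔ (frattini ↥(frattini S)).map (frattini S).subtype else ⁅frattini S, (⊤ : Subgroup S)⁆ ⊔ Cfsg.powerClosure p 1 (⊤ : Subgroup S)) (h : ⁅Cfsg.thompsonSubgroupA S ⊓ Subgroup.centralizer (Cfsg.thompsonSubgroupA S : Set S), (⊤ : Subgroup S)⁆ ≠ ⊥ ∨ S₀ ≠ ⊥) : ∃ S₁ S₂ : Subgroup S, S₁ ≠ ⊥ ∧ S₂ ≠ ⊥ ∧ S₁.Characteristic ∧ S₂.Characteristic ∧ S₁ ≤ Subgroup.center S ∧ S₂ ≤ Subgroup.centralizer ((Cfsg.thompsonSubgroupA S ⊓ Subgroup.centralizer (Cfsg.thompsonSubgroupA S : Set S) : Subgroup S) : Set S) ∧ (S₂.subgroupOf (Subgroup.centralizer ((Cfsg.thompsonSubgroupA S ⊓ Subgroup.centralizer (Cfsg.thompsonSubgroupA S : Set S) : Subgroup S) : Set S))).Characteristic ∧ ∀ (G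 : Type u) [Group G] [Finite G] (τ : S →* G), Function.Injective τ → (∃ P : Sylow p G, (P : Subgroup G) = τ.range) → Subgroup.centralizer (Cfsg.pCore p G : Set G) ≤ Cfsg.pCore p G → (∃! M : Subgroup G, IsCoatom M ∧ τ.range ≤ M) → (∃ (K : Subgroup G) (_ : K.Normal) (F : Type) (_ : Field F) (_ : Fintype F) (n : ℕ), 1 ≤ n ∧ Fintype.card F = p ^ n ∧ Nonempty (G ⧸ K ≃* Matrix.ProjectiveSpecialLinearGroup (Fin 2) F)) → (S₁.map τ).Normal ∨ (S₂.map τ).Normal := by
  classical
  subst hS₀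
  set ZJ := Cfsg.thompsonSubgroupA S ⊓ Subgroup.centralizer (Cfsg.thompsonSubgroupA S : Set S) with hZJ
  haveI hJc : (Cfsg.thompsonSubgroupA S).Characteristic :=
    Subgroup.characteristic_iff_map_eq.2 fun σ => Fusion.map_thompsonSubgroupA σ
  haveI hZc : ZJ.Characteristic := Subgroup.characteristic_inf
  have hne : (⊤ : Subgroup S) ≠ ⊥ := by
    intro h0
    rcases h with h | h
    · exact h (le_bot_iff.1 (h0 ▸ le_top))
    · exact h (le_bot_iff.1 (h0 ▸ le_top))
  -- the setting given by a group over `S`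
  have hset : ∀ (G : Type u) [Group G] [Finite G] (τ : S →* G) (P : Sylow p G), (P : Subgroup G) = τ.range →
      Subgroup.centralizer (Cfsg.pCore p G : Set G) ≤ Cfsg.pCore p G →
      (∃! M : Subgroup G, IsCoatom M ∧ τ.range ≤ M) → ∀ (K : Subgroup G) [K.Normal] (F : Type) [Field F]
      [Fintype F] (n : ℕ), 1 ≤ n → Fintype.card F = p ^ n →
      ∀ iso : G ⧸ K ≃* Matrix.ProjectiveSpecialLinearGroup (Fin 2) F,
      Setting p n P F (iso.toMonoidHom.comp (QuotientGroup.mk' K)) := by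
    intro G _ _ τ P hP hC hU K _ F _ _ n hn hF iso
    exact Setting.of_iso hC (hP.symm ▸ hU) K hn hF iso
  by_cases hJ : ⁅ZJ, (⊤ : Subgroup S)⁆ = ⊥
  swap
  · set jt := Subgroup.centralizer (ZJ : Set S) with hjt
    obtain ⟨z, hz, hzc, hz1⟩ := exists_center_mem hS ⁅ZJ, (⊤ : Subgroup S)⁆ hJ
    refine ⟨⁅ZJ, (⊤ : Subgroup S)⁆ ⊓ Subgroup.center S, jt, fun h0 => hz1 (Subgroup.mem_bot.1 (h0.le ⟨hz, hzc⟩)),
      fun h0 => hz1 (Subgroup.mem_bot.1 (h0.le (Subgroup.center_le_centralizer _ hzc))), inferInstance,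
      inferInstance, inf_le_right, le_rfl, by rw [Subgroup.subgroupOf_self]; infer_instance, ?_⟩
    rintro G _ _ τ hτ ⟨P, hP⟩ hC hU ⟨K, hK, F, hF1, hF2, n, hn, hF, ⟨iso⟩⟩
    haveI := hK
    letI := hF1
    letI := hF2
    have R := hset G τ P hP hC hU K F n hn hF iso
    have eJ : centerThompsonAOf (P : Subgroup G) = ZJ.map τ := by rw [hP, centerThompsonAOf_range τ hτ]
    rcases R.cases with h' | h' | h'
    · left
      refine normal_map_of_central τ (le_trans (Subgroup.map_mono inf_le_right) ?_)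
      rwa [map_center_range τ hτ, ← hP]
    · right
      rw [hjt, map_centralizer_range τ hτ, ← eJ, ← hP]
      exact h'
    · left
      refine normal_map_of_central τ (le_trans ?_ h'.comm_inf_le_center)
      rw [Subgroup.map_inf _ _ _ hτ, Subgroup.map_commutator, map_center_range τ hτ, eJ, hP,
        ← MonoidHom.range_eq_map]
  have hjt : Subgroup.centralizer (ZJ : Set S) = ⊤ := eq_top_iff.2 fun s _ =>
    Subgroup.mem_centralizer_iff.2 fun z hz => commutatorElement_eq_one_iff_mul_comm.1 (by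
      rw [← Subgroup.mem_bot, ← hJ]
      exact Subgroup.commutator_mem_commutator hz (Subgroup.mem_top s))
  by_cases hexp : ∀ z ∈ Subgroup.center S, z ^ p = 1
  swap
  · set S₁ := Cfsg.powerClosure p 1 (Subgroup.center S) with hS₁
    have hle : S₁ ≤ Subgroup.center S := (Subgroup.closure_le _).2 (by
      rintro _ ⟨z, hz, rfl⟩
      exact pow_mem hz _)
    haveI : S₁.Characteristic := by
      refine Subgroup.characteristic_iff_map_le.2 fun σ => ?_
      rw [hS₁, Cfsg.powerClosure, MonoidHom.map_closure]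
      refine Subgroup.closure_mono ?_
      rintro _ ⟨_, ⟨z, hz, rfl⟩, rfl⟩
      exact ⟨σ z, Subgroup.characteristic_iff_le_comap.1 inferInstance σ hz, map_pow σ z _⟩
    refine ⟨S₁, ⊤, fun h0 => hexp fun z hz => ?_, hne, inferInstance, inferInstance, hle, hjt.ge,
      char_subgroupOf_of_eq_top inferInstance hjt, ?_⟩
    · have h1 : z ^ p ^ 1 ∈ S₁ := Subgroup.subset_closure ⟨z, hz, rfl⟩
      rwa [h0, Subgroup.mem_bot, pow_one] at h1
    rintro G _ _ τ hτ ⟨P, hP⟩ hC hU ⟨K, hK, F, hF1, hF2, n, hn, hF, ⟨iso⟩⟩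
    haveI := hK
    letI := hF1
    letI := hF2
    have R := hset G τ P hP hC hU K F n hn hF iso
    have eJ : centerThompsonAOf (P : Subgroup G) = ZJ.map τ := by rw [hP, centerThompsonAOf_range τ hτ]
    rcases R.cases with h' | h' | h'
    · left
      refine normal_map_of_central τ (le_trans (Subgroup.map_mono hle) ?_)
      rwa [map_center_range τ hτ, ← hP]
    · right
      rw [← hjt, map_centralizer_range τ hτ, ← eJ, ← hP]
      exact h'
    · left
      refine normal_map_of_central τ ?_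
      rw [hS₁, Cfsg.powerClosure, MonoidHom.map_closure]
      refine (Subgroup.closure_le _).2 ?_
      rintro _ ⟨_, ⟨z, hz, rfl⟩, rfl⟩
      rw [map_pow, pow_one]
      exact h'.pow_mem_center (hP ▸ (map_center_range τ hτ).le ⟨z, hz, rfl⟩)
  have h0 : sZero p S ≠ ⊥ := h.resolve_left fun h' => h' hJ
  obtain ⟨S₁, S₂, h1, h2, h3, h4, h5, hlegs⟩ := exists_pair hS h0
  refine ⟨S₁, S₂, h1, h2, h3, h4, h5, hjt.symm ▸ le_top, char_subgroupOf_of_eq_top h4 hjt, ?_⟩
  rintro G _ _ τ hτ ⟨P, hP⟩ hC hU ⟨K, hK, F, hF1, hF2, n, hn, hF, ⟨iso⟩⟩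
  haveI := hK
  letI := hF1
  letI := hF2
  have R := hset G τ P hP hC hU K F n hn hF iso
  by_cases hz : (Subgroup.center S).map τ ≤ Subgroup.center G
  · exact Or.inl (normal_map_of_central τ ((Subgroup.map_mono h5).trans hz))
  · exact R.of_legs τ hτ hP hz hJ hexp (fun _ _ e => (S₁.map e).Normal ∨ (S₂.map e).Normal) hlegs

end Cfsg.Agent.S2808
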