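import Cfsg.Statements.S4020
import Cfsg.Agent.Lib.Solv.EqualOrderExtraspecial
-- import your own Cfsg.Agent.* helpers here

set_option autoImplicit false
open Cfsg

namespace Cfsg.Agent.S4020

/-- Let G be a finite group in which, for every prime p, any two p-subgroups of the same order are conjugate. Then every Sylow subgroup of G is cyclic, elementary abelian, or a quaternion group of order 8. -/
theorem result {G : Type*} [Group G] [Finite G]
    (hD : ∀ p : ℕ, p.Prime → ∀ H K : Subgroup G, IsPGroup p H → IsPGroup p K → Nat.card H = Nat.card K →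
      ∃ g : G, K = H.map (MulAut.conj g).toMonoidHom) {p : ℕ} [Fact p.Prime] (P : Sylow p G) :
    IsCyclic P ∨ Cfsg.IsElementaryAbelian p (P : Subgroup G) ∨ Nonempty ((P : Subgroup G) ≃* QuaternionGroup 2) := by
  have hiso : ∀ U V : Subgroup (P : Subgroup G), Nat.card U = Nat.card V → Nonempty (U ≃* V) := by
    intro U V hUV
    obtain ⟨g, hg⟩ := hD p Fact.out (U.map (P : Subgroup G).subtype)
      (V.map (P : Subgroup G).subtype)
      ((P.isPGroup'.to_subgroup U).map _) ((P.isPGroup'.to_subgroup V).map _)
      (by rw [Agent.Solv.card_map_subtype, Agent.Solv.card_map_subtype, hUV])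
    exact ⟨((U.equivMapOfInjective _ (Subgroup.subtype_injective _)).trans
      (((U.map (P : Subgroup G).subtype).equivMapOfInjective _ (MulAut.conj g).injective).trans
        (MulEquiv.subgroupCongr hg.symm))).trans
      (V.equivMapOfInjective _ (Subgroup.subtype_injective _)).symm⟩
  rcases Agent.Solv.IsoSubgroups.classify P.isPGroup' hiso with
    h | ⟨hc, he⟩ | ⟨-, he⟩ | ⟨hp2, hna, hcard, hexp⟩
  · exact Or.inl h
  · exact Or.inr (Or.inl ⟨hc, fun a ha => congrArg Subtype.val (he ⟨a, ha⟩)⟩)
  · exact Or.inr (Or.inr he)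
  · exact (Agent.Solv.EqualOrderExtraspecial.false_of_extraspecial hD hp2 P hcard hna
      fun r hr => congrArg Subtype.val
        (hexp ▸ Monoid.pow_exponent_eq_one (⟨r, hr⟩ : (P : Subgroup G)))).elim

end Cfsg.Agent.S4020
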