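import Cfsg.Statements.S5197
import Cfsg.Agent.Lib.Local.FS.TransferControl

set_option autoImplicit false
universe u
open Cfsg

namespace Cfsg.Agent.S5197

theorem result {p : ℕ} [Fact p.Prime] (W : ∀ (Q : Type u) [Group Q], Subgroup Q) (hW1 : ∀ (Q : Type u) [Group Q] [Finite Q], IsPGroup p Q → Nontrivial Q → W Q ≠ ⊥) (hW2 : ∀ (Q R : Type u) [Group Q] [Group R] [Finite Q], IsPGroup p Q → ∀ φ : Q ≃* R, (W Q).map φ.toMonoidHom = W R) (hT : ∀ (G : Type u) [Group G] [Finite G] (P : Sylow p G), Subgroup.centralizer ((Cfsg.pCore p G : Subgroup G) : Set G) ≤ Cfsg.pCore p G → Cfsg.pCore p G ⊓ commutator G = Cfsg.pCore p G ⊓ (commutator ↥(Subgroup.normalizer (((W ↥(P : Subgroup G)).map (P : Subgroup G).subtype : Subgroup G) : Set G))).map (Subgroup.normalizer (((W ↥(P : Subgroup G)).map (P : Subgroup G).subtype : Subgroup G) : Set G)).subtype) {Ω : Type u} [Group Ω] {S : Subgroup Ω} [Finite S] (hS : IsPGroup p S) (F : Cfsg.FusionSystem S) (hF : F.IsSaturated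 p) (N : Cfsg.FusionSystem (Cfsg.FusionSystem.normalizerIn S ((W ↥S).map S.subtype))) (hN : F.IsNormalizerSystem ((W ↥S).map S.subtype) N) : N.focalSubgroup = F.focalSubgroup := by
  open Cfsg.Agent.Local.FS Cfsg.FusionSystem in
  have h := focControlled (W := W) hW1 hW2 hT hS hF
  refine le_antisymm ((Subgroup.closure_le _).2 ?_) ((Subgroup.closure_le _).2 ?_)
  · rintro _ ⟨P, φ, x, hφ, rfl⟩
    have hm := (map_normalizerSystem_iff hN).1 (map_of_mem hφ)
    obtain ⟨-, -, g, hg, hgf, -⟩ := hm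
    obtain ⟨ψ, hψ, he⟩ := hg.restrict le_sup_left
    exact Subgroup.subset_closure ⟨P, ψ, x, hψ, by rw [he, hgf x x.2, fn_coe]⟩
  · have hle : normFoc F (inducedFunctor W S) ≤ N.focalSubgroup := by
      refine normFoc_le_of fun P g hg hU hgU x hx => ?_
      have hV : normalizerIn S (inducedFunctor W S) = S := normalizerIn_functor hS hW2
      have hg' : Map F (P ⊔ inducedFunctor W S) g := by rwa [sup_eq_left.2 hU]
      have hgN : Map N P g := (map_normalizerSystem_iff hN).2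
        ⟨hg.le.trans hV.ge, fun y hy => hV.ge (hg.mem hy), g, hg', fun _ _ => rfl, hgU⟩
      obtain ⟨φ, hφ, he⟩ := hgN
      exact Subgroup.subset_closure ⟨P, φ, ⟨x, hx⟩, hφ, by rw [he]⟩
    rintro _ ⟨P, φ, x, hφ, rfl⟩
    have h1 := hle (h P _ (map_of_mem hφ) x x.2)
    rwa [fn_coe] at h1

end Cfsg.Agent.S5197
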