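import Cfsg.Statements.S1996
import Cfsg.Agent.Lib.Fusion.Reduction

set_option autoImplicit false
universe u
open Cfsg
open Cfsg.Agent.Fusion
open scoped commutatorElement

namespace Cfsg.Agent.S1996

/-- Let p be a prime, G a finite group and W₁, W₂ two isomorphism-invariant p-group functors (W assigns to every group Q a subgroup W(Q), nontrivial whenever Q is a nontrivial finite p-group, and every isomorphism from a finite p-group Q onto a group R carries W(Q) onto W(R)). Suppose that G* = N_{G*}(W₁(S*)) N_{G*}(W₂(S*)) whenever G* = K/R is a section of G with C_{G*}(O_p(G*)) ≤ O_p(G*) and S* is a Sylow p-subgroup of G*. Then the pair {W₁, W₂} controls strong fusion in G. -/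
theorem result {G : Type u} [Group G] [Finite G] {p : ℕ} [Fact p.Prime] (W₁ W₂ : ∀ (Q : Type u) [Group Q], Subgroup Q) (hW₁ : Cfsg.IsCharPFunctor.{u} p W₁) (hW₂ : Cfsg.IsCharPFunctor.{u} p W₂) (hfac : ∀ (K R : Subgroup G) [hR : (R.subgroupOf K).Normal], Subgroup.centralizer ((Cfsg.pCore p (↥K ⧸ R.subgroupOf K) : Subgroup (↥K ⧸ R.subgroupOf K)) : Set (↥K ⧸ R.subgroupOf K)) ≤ Cfsg.pCore p (↥K ⧸ R.subgroupOf K) → ∀ T : Sylow p (↥K ⧸ R.subgroupOf K), ∀ x : (↥K ⧸ R.subgroupOf K), ∃ a ∈ Subgroup.normalizer ((Cfsg.inducedFunctor (G := (↥K ⧸ R.subgroupOf K)) W₁ (T : Subgroup (↥K ⧸ R.subgroupOf K)) : Subgroup (↥K ⧸ R.subgroupOf K)) : Set (↥K ⧸ R.subgroupOf K)), ∃ b ∈ Subgroup.normalizer ((Cfsg.inducedFunctor (G := (↥K ⧸ R.subgroupOf K)) W₂ (T : Subgroup (↥K ⧸ R.subgroupOf K)) : Subgroup (↥K ⧸ R.subgroupOf K)) : Set (↥K ⧸ R.subgroupOf K)), x = a * b) : Cfsg.FamilyControlsStrongFusionIn p {Cfsg.inducedFunctor (G := G) W₁, Cfsg.inducedFunctor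 (G := G) W₂} ⊤ := by
  have h𝓦 : ∀ W ∈ ({W₁, W₂} : Set (∀ (Q : Type u) [Group Q], Subgroup Q)),
      Cfsg.IsCharPFunctor.{u} p W := by
    intro W hW
    rcases hW with rfl | hW
    · exact hW₁
    · rw [Set.mem_singleton_iff.1 hW]; exact hW₂
  have hfam := familyFus_sections h𝓦 (G := G) (fun X _ _ hX hc => by
    obtain ⟨K', R', hR', ⟨e⟩⟩ := hX
    refine familyFus_of_equiv h𝓦 e ?_
    obtain ⟨T'⟩ : Nonempty (Sylow p (K' ⧸ R'.subgroupOf K')) := inferInstance
    have hS := sylIn_top T'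
    have hW1 := isConjugacyFunctor_induced (G := ↥K' ⧸ R'.subgroupOf K') hW₁
    have hW2 := isConjugacyFunctor_induced (G := ↥K' ⧸ R'.subgroupOf K') hW₂
    refine (familyFus_iff _).2 ⟨_, hS, fun A h _ hA hhA => ?_⟩
    exact (fusPred_fus (E := famE ((fun W => inducedFunctor (G := ↥K' ⧸ R'.subgroupOf K') W) ''
      ({W₁, W₂} : Set (∀ (Q : Type u) [Group Q], Subgroup Q))) ⊤ T') famE_inv _).of_factorization hS
      (sylow_le_normalizer_functor hW1 hS.isPGroup) (sylow_le_normalizer_functor hW2 hS.isPGroup)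
      (hfac K' R' (hR := hR') (centralizer_pCore_equiv e hc) T')
      (fun x hx B hB hxB => fus_step hB ⟨_, ⟨W₁, .inl rfl, rfl⟩, trivial, hx⟩ hxB)
      (fun x hx B hB hxB => fus_step hB ⟨_, ⟨W₂, .inr rfl, rfl⟩, trivial, hx⟩ hxB) hA hhA) G
    involves_refl
  rwa [Set.image_pair] at hfam

end Cfsg.Agent.S1996
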