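import Cfsg.Statements.S2752
import Cfsg.Agent.Lib.Solv.OffenderGain.Main

set_option autoImplicit false
universe u
open Cfsg
open scoped commutatorElement

namespace Cfsg.Agent.S2752


/-- Counting with characters: if the fixed characters are few, the displacement is large. -/
theorem displacement {X V : Type*} [Group X] [Finite X] [CommGroup V] [Finite V]
    (hV : ∀ v : V, v * v = 1) (φ : X →* MulAut V) (hφ : Function.Injective φ)
    (hS3 : ¬ Cfsg.Involves (Equiv.Perm (Fin 3)) X) (hO : Cfsg.pCore 2 X = ⊥)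
    (hK : Cfsg.IsCompositionKGroupWith Cfsg.IsSuzukiOrPSL2OddPowerThree X)
    {A : Subgroup X} (hA : Cfsg.IsElementaryAbelian 2 A) :
    Nat.card A ^ 2 ≤ Nat.card (Subgroup.closure {w : V | ∃ a ∈ A, ∃ v : V, w = v⁻¹ * φ a v}) := by
  classical
  have hdual : ∀ D : Subgroup V, Nat.card (V ⧸ D →* ℂˣ) = Nat.card (V ⧸ D) := fun D => by
    haveI : NeZero (Monoid.exponent (V ⧸ D) : ℂ) :=
      ⟨Nat.cast_ne_zero.2 Monoid.exponent_ne_zero_of_finite⟩
    obtain ⟨e⟩ := CommGroup.monoidHom_mulEquiv_of_hasEnoughRootsOfUnity (V ⧸ D) ℂ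
    exact Nat.card_congr e.toEquiv
  have hcardV : Nat.card (V →* ℂˣ) = Nat.card V := by
    haveI : NeZero (Monoid.exponent V : ℂ) := ⟨Nat.cast_ne_zero.2 Monoid.exponent_ne_zero_of_finite⟩
    obtain ⟨e⟩ := CommGroup.monoidHom_mulEquiv_of_hasEnoughRootsOfUnity V ℂ
    exact Nat.card_congr e.toEquiv
  haveI : Finite (V →* ℂˣ) := Nat.finite_of_card_ne_zero (by rw [hcardV]; exact Nat.card_pos.ne')
  let ψ : X →* MulAut (V →* ℂˣ) :=
    { toFun := fun g =>
        { toFun := fun f => f.comp (φ g⁻¹).toMonoidHom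
          invFun := fun f => f.comp (φ g).toMonoidHom
          left_inv := fun f => MonoidHom.ext fun v => congrArg f (by
            show φ g⁻¹ (φ g v) = v
            rw [Solv.OffGain.act_act, inv_mul_cancel, map_one]; rfl)
          right_inv := fun f => MonoidHom.ext fun v => congrArg f (by
            show φ g (φ g⁻¹ v) = v
            rw [Solv.OffGain.act_act, mul_inv_cancel, map_one]; rfl)
          map_mul' := fun f f' => rfl }
      map_one' := MulEquiv.ext fun f => MonoidHom.ext fun v => congrArg f (by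
        show φ (1 : X)⁻¹ v = v
        simp)
      map_mul' := fun g h => MulEquiv.ext fun f => MonoidHom.ext fun v => congrArg f (by
        show φ (g * h)⁻¹ v = φ h⁻¹ (φ g⁻¹ v)
        rw [Solv.OffGain.act_act, mul_inv_rev]) }
  have hψ : Function.Injective ψ := by
    rw [← MonoidHom.ker_eq_bot_iff, Subgroup.eq_bot_iff_forall]
    intro g hg
    have h1 : ∀ f : V →* ℂˣ, ∀ v, f (φ g⁻¹ v) = f v := fun f v =>
      DFunLike.congr_fun (DFunLike.congr_fun (MonoidHom.mem_ker.1 hg) f) v
    refine inv_eq_one.1 (hφ ((MulEquiv.ext fun v => ?_).trans (map_one φ).symm))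
    show φ g⁻¹ v = v
    by_contra hne
    set D := Subgroup.zpowers (φ g⁻¹ v * v⁻¹) with hD
    have hD1 : D ≠ ⊥ := by
      rw [hD, Ne, Subgroup.zpowers_eq_bot]
      exact fun h => hne (mul_inv_eq_one.1 h)
    have hle : Nat.card (V →* ℂˣ) ≤ Nat.card (V ⧸ D →* ℂˣ) := by
      haveI : Finite (V ⧸ D →* ℂˣ) := Nat.finite_of_card_ne_zero (by rw [hdual]; exact Nat.card_pos.ne')
      refine Nat.card_le_card_of_injective (fun f => QuotientGroup.lift D f ?_) fun f f' h => ?_
      · rw [hD, Subgroup.zpowers_le, MonoidHom.mem_ker, map_mul, map_inv f, h1, mul_inv_cancel]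
      · exact MonoidHom.ext fun w => DFunLike.congr_fun h (QuotientGroup.mk w)
    rw [hcardV, hdual, ← D.index_eq_card] at hle
    have h2 := D.card_mul_index
    have h3 := Subgroup.one_lt_card_iff_ne_bot D |>.2 hD1
    have h4 : 0 < D.index := Nat.pos_of_ne_zero Subgroup.index_ne_zero_of_finite
    nlinarith
  have hVd : ∀ f : V →* ℂˣ, f * f = 1 := fun f => MonoidHom.ext fun v => by
    rw [MonoidHom.mul_apply, ← map_mul, hV, map_one, MonoidHom.one_apply]
  have hb := Solv.OffGain.bound (V := V →* ℂˣ) (φ := ψ) hVd hψ hS3 hO hK A hA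
  set D := Subgroup.closure {w : V | ∃ a ∈ A, ∃ v : V, w = v⁻¹ * φ a v} with hD
  have hle : Nat.card (V ⧸ D →* ℂˣ) ≤ Nat.card ↥(Solv.OffGain.fixV (V := V →* ℂˣ) ψ (A : Set X)) := by
    refine Nat.card_le_card_of_injective (fun f => ⟨f.comp (QuotientGroup.mk' D), fun a ha => ?_⟩)
      fun f f' h => MonoidHom.ext fun w => ?_
    · refine MonoidHom.ext fun v => ?_
      show f (QuotientGroup.mk' D (φ a⁻¹ v)) = f (QuotientGroup.mk' D v)
      refine congrArg f (QuotientGroup.eq.2 ?_)
      have : v⁻¹ * φ a⁻¹ v ∈ D := Subgroup.subset_closure ⟨a⁻¹, inv_mem ha, v, rfl⟩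
      simpa using inv_mem this
    · obtain ⟨v, rfl⟩ := QuotientGroup.mk_surjective w
      exact DFunLike.congr_fun (congrArg Subtype.val h) v
  rw [hdual, ← D.index_eq_card] at hle
  rw [hcardV, ← D.card_mul_index] at hb
  exact Nat.le_of_mul_le_mul_right (le_trans (Nat.mul_le_mul_left _ hle) hb)
    (Nat.pos_of_ne_zero Subgroup.index_ne_zero_of_finite)

/-- Let M be an elementary abelian 2-subgroup of a finite group L and G a subgroup of L acting faithfully on M by conjugation (G normalizes M and meets C(M) trivially). Assume O₂(G) = 1, the symmetric group of degree 3 is not involved in G, and every non-abelian composition factor of G is a Suzuki group Sz(2^(2n+1)) or a group PSL₂(3^(2n+1)). Then every elementary abelian 2-subgroup A of G satisfies |M / C_M(A)| ≥ |A|² and |[M, A]| ≥ |A|². -/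
theorem result {L : Type u} [Group L] [Finite L] (M G : Subgroup L) (hM : Cfsg.IsElementaryAbelian 2 M) (hGM : G ≤ Subgroup.normalizer (M : Set L)) (hf : G ⊓ Subgroup.centralizer (M : Set L) = ⊥) (ha : Cfsg.pCore 2 ↥G = ⊥) (hb : ¬ Cfsg.Involves (Equiv.Perm (Fin 3)) ↥G) (hc : Cfsg.IsCompositionKGroupWith Cfsg.IsSuzukiOrPSL2OddPowerThree ↥G) (A : Subgroup L) (hA : A ≤ G) (hAe : Cfsg.IsElementaryAbelian 2 A) : Nat.card A ^ 2 * Nat.card ↥(M ⊓ Subgroup.centralizer (A : Set L)) ≤ Nat.card M ∧ Nat.card A ^ 2 ≤ Nat.card ↥⁅M, A⁆ := by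
  classical
  haveI := hM.1
  letI : CommGroup M := { (inferInstance : Group M) with mul_comm := fun x y => hM.1.is_comm.comm x y }
  let φ : ↥G →* MulAut M := (Subgroup.normalizerMonoidHom M).comp (Subgroup.inclusion hGM)
  have hφv : ∀ (g : ↥G) (v : M), ((φ g v : M) : L) = (g : L) * v * (g : L)⁻¹ := fun g v => rfl
  have hφ : Function.Injective φ := by
    rw [← MonoidHom.ker_eq_bot_iff, Subgroup.eq_bot_iff_forall]
    intro g hg
    have h1 : (g : L) ∈ G ⊓ Subgroup.centralizer (M : Set L) := by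
      refine ⟨g.2, Subgroup.mem_centralizer_iff.2 fun v hv => ?_⟩
      have h2 := congrArg Subtype.val (DFunLike.congr_fun (MonoidHom.mem_ker.1 hg) (⟨v, hv⟩ : M))
      rw [hφv] at h2
      calc v * (g : L) = (g : L) * v * (g : L)⁻¹ * g := by rw [h2]; rfl
        _ = g * v := by group
    rw [hf, Subgroup.mem_bot] at h1
    exact Subtype.ext h1
  have hV : ∀ v : M, v * v = 1 := fun v => Subtype.ext (by
    show (v : L) * v = 1
    rw [← pow_two]; exact hM.2 v v.2)
  set A' := A.subgroupOf G with hA'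
  have hA'e : Cfsg.IsElementaryAbelian 2 A' :=
    ⟨⟨⟨fun x y => Subtype.ext (Subtype.ext (congrArg Subtype.val
      (hAe.1.is_comm.comm ⟨_, x.2⟩ ⟨_, y.2⟩) :))⟩⟩,
      fun a ha => Subtype.ext (hAe.2 _ ha)⟩
  have hcA : Nat.card A' = Nat.card A := Nat.card_congr (Subgroup.subgroupOfEquivOfLe hA).toEquiv
  rw [← hcA]
  constructor
  · have h := Solv.OffGain.bound φ hV hφ hb ha hc A' hA'e
    have e : Nat.card ↥(Solv.OffGain.fixV φ (A' : Set ↥G)) =
        Nat.card ↥(M ⊓ Subgroup.centralizer (A : Set L)) := by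
      refine Nat.card_congr
        { toFun := fun v => ⟨(v.1 : L), v.1.2, Subgroup.mem_centralizer_iff.2 fun a haA => ?_⟩
          invFun := fun v => ⟨⟨v.1, v.2.1⟩, fun a haA => Subtype.ext ?_⟩
          left_inv := fun v => rfl
          right_inv := fun v => rfl }
      · have h1 := congrArg Subtype.val (v.2 ⟨a, hA haA⟩ haA)
        rw [hφv] at h1
        calc a * ((v.1 : M) : L) = a * (v.1 : L) * a⁻¹ * a := by group
          _ = (v.1 : L) * a := by rw [h1]
      · rw [hφv]
        show (a : L) * v.1 * (a : L)⁻¹ = v.1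
        rw [Subgroup.mem_centralizer_iff.1 v.2.2 (a : L) haA, mul_inv_cancel_right]
    rw [← e]
    exact h
  · refine (displacement hV φ hφ hb ha hc hA'e).trans ?_
    rw [← Subgroup.card_map_of_injective (f := M.subtype) M.subtype_injective]
    refine Subgroup.card_le_of_le ?_
    rw [MonoidHom.map_closure, Subgroup.closure_le]
    rintro _ ⟨w, ⟨a, haA, v, rfl⟩, rfl⟩
    show ((v : L))⁻¹ * ((φ a v : M) : L) ∈ ⁅M, A⁆
    rw [hφv, show (v : L)⁻¹ * ((a : L) * v * (a : L)⁻¹) = ⁅(v : L)⁻¹, (a : L)⁆ by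
      simp [commutatorElement_def, mul_assoc]]
    exact Subgroup.commutator_mem_commutator (inv_mem v.2) haA

end Cfsg.Agent.S2752
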