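import Cfsg.Statements.S0042
import Cfsg.Agent.Lib.Solv.ThompsonFPF
import Cfsg.Agent.Lib.Solv.FrobeniusFPF

set_option autoImplicit false
open Cfsg

open scoped Pointwise commutatorElement

namespace Cfsg.Agent.S0042

/-- In a finite Frobenius group, the Frobenius kernel is (the carrier of) a normal subgroup which is nilpotent. -/
theorem result {G : Type*} [Group G] [Finite G] (H : Subgroup G) (hH : Cfsg.IsFrobeniusComplement H) :
    ∃ N : Subgroup G, (N : Set G) = Cfsg.frobeniusKernel H ∧ N.Normal ∧ Group.IsNilpotent N := by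
  obtain ⟨N, hN, hNn, hc⟩ := Solv.frobenius_theorem hH
  refine ⟨N, hN, hNn, ?_⟩
  obtain ⟨r, hr, hrd⟩ := Nat.exists_prime_and_dvd (n := Nat.card H) (fun h => hH.1 (Subgroup.card_eq_one.1 h))
  have := Fact.mk hr
  obtain ⟨⟨x, hxH⟩, hx⟩ := exists_prime_orderOf_dvd_card' (G := H) r hrd
  rw [Subgroup.orderOf_mk] at hx
  have hx1 : x ≠ 1 := fun e => by rw [e, orderOf_one] at hx; exact hr.ne_one hx.symm
  exact Solv.fpf_nilpotent N x hr (by rw [← hx, pow_orderOf_eq_one])
    (by rw [Subgroup.normalizer_eq_top]; trivial) (Solv.frob_fpf hH hc.disjoint.eq_bot hxH hx1)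

end Cfsg.Agent.S0042
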