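import Cfsg.Statements.S5237
import Cfsg.Agent.Lib.Solv.FourFree.W.Systems

set_option autoImplicit false
open Cfsg

namespace Cfsg.Agent.S5237

/-- Let S be a nontrivial finite 2-group (p = 2). Then S has a nontrivial characteristic subgroup W that is normal in every saturated fusion system over S that is S₄-free (the symmetric group of degree 4 is not involved in any model of the normalizer system of a fully normalized centric subgroup). -/
theorem result {Ω : Type*} [Group Ω] {S : Subgroup Ω} [Finite S] (hS : IsPGroup 2 S) (hS1 : S ≠ ⊥) : ∃ W : Subgroup Ω, W ≤ S ∧ W ≠ ⊥ ∧ (W.subgroupOf S).Characteristic ∧ ∀ F : Cfsg.FusionSystem S, F.IsSaturated 2 → F.IsSectionFree 2 (Equiv.Perm (Fin 4)) → F.IsNormal W := by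
  refine ⟨(Agent.Solv.FourFree.wSub ↥S).map S.subtype, Subgroup.map_subtype_le _, ?_, ?_,
    fun F hF hfree => Agent.Solv.FourFree.wSub_normal_system hS hF hfree⟩
  · haveI := (Subgroup.nontrivial_iff_ne_bot S).2 hS1
    rw [Ne, Subgroup.map_eq_bot_iff_of_injective _ S.subtype_injective]
    exact Agent.Solv.FourFree.wSub_ne_bot hS
  · rw [Subgroup.subgroupOf, Subgroup.comap_map_eq_self_of_injective S.subtype_injective]
    exact Agent.Solv.FourFree.wSub_char

end Cfsg.Agent.S5237
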