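import Cfsg.Statements.S4065

set_option autoImplicit false
open Cfsg

open scoped Pointwise commutatorElement

namespace Cfsg.Agent.S4065

theorem cross_trans {K : Type*} [Field K] {a0 a1 a2 b0 b1 b2 c0 c1 c2 : K}
    (hb : b0 ≠ 0 ∨ b1 ≠ 0 ∨ b2 ≠ 0)
    (p1 : a0 * b1 = b0 * a1) (p2 : a0 * b2 = b0 * a2) (p3 : a1 * b2 = b1 * a2)
    (q1 : c0 * b1 = b0 * c1) (q2 : c0 * b2 = b0 * c2) (q3 : c1 * b2 = b1 * c2) :
    a0 * c1 = c0 * a1 ∧ a0 * c2 = c0 * a2 ∧ a1 * c2 = c1 * a2 := by
  rcases hb with h | h | h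
  · have R2 : a0 * c2 = c0 * a2 := mul_left_cancel₀ h (by linear_combination c0 * p2 - a0 * q2)
    exact ⟨mul_left_cancel₀ h (by linear_combination c0 * p1 - a0 * q1), R2,
      mul_left_cancel₀ h (by linear_combination b1 * R2 - c2 * p1 + a2 * q1)⟩
  · have R3 : a1 * c2 = c1 * a2 := mul_left_cancel₀ h (by linear_combination c1 * p3 - a1 * q3)
    exact ⟨mul_left_cancel₀ h (by linear_combination c1 * p1 - a1 * q1),
      mul_left_cancel₀ h (by linear_combination b0 * R3 + c2 * p1 - a2 * q1), R3⟩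
  · have R3 : a1 * c2 = c1 * a2 := mul_left_cancel₀ h (by linear_combination c2 * p3 - a2 * q3)
    exact ⟨mul_left_cancel₀ h (by linear_combination c1 * p2 - a1 * q2 - b0 * R3),
      mul_left_cancel₀ h (by linear_combination c2 * p2 - a2 * q2), R3⟩

theorem entries {K : Type*} [Field K] (A B : Matrix (Fin 2) (Fin 2) K) :
    A * B = B * A ↔ A 0 1 * B 1 0 = B 0 1 * A 1 0 ∧
      A 0 1 * (B 0 0 - B 1 1) = B 0 1 * (A 0 0 - A 1 1) ∧
      A 1 0 * (B 0 0 - B 1 1) = B 1 0 * (A 0 0 - A 1 1) := by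
  rw [← Matrix.ext_iff]
  simp only [Fin.forall_fin_two, Matrix.mul_apply, Fin.sum_univ_two]
  constructor
  · rintro ⟨⟨h1, h2⟩, h3, -⟩
    exact ⟨by linear_combination h1, by linear_combination -h2, by linear_combination h3⟩
  · rintro ⟨h1, h2, h3⟩
    exact ⟨⟨by linear_combination h1, by linear_combination -h2⟩,
      by linear_combination h3, by linear_combination -h1⟩

theorem comm_trans {K : Type*} [Field K] [CharP K 2]
    (a b c : Matrix.ProjectiveSpecialLinearGroup (Fin 2) K) (hb : b ≠ 1)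
    (h1 : a * b = b * a) (h2 : b * c = c * b) : a * c = c * a := by
  have hz : ∀ z ∈ Subgroup.center (Matrix.SpecialLinearGroup (Fin 2) K), z = 1 := by
    intro z hz
    obtain ⟨r, hr, hrz⟩ := Matrix.SpecialLinearGroup.mem_center_iff.1 hz
    have hr1 : r = 1 := by
      rw [Fintype.card_fin] at hr
      have h' : (r - 1) ^ 2 = 0 := by
        rw [sub_sq, hr, CharTwo.two_eq_zero]
        simp [CharTwo.add_self_eq_zero]
      exact sub_eq_zero.1 (eq_zero_of_pow_eq_zero h')
    apply Subtype.ext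
    rw [← hrz, hr1]
    simp
  obtain ⟨A, rfl⟩ := QuotientGroup.mk_surjective a
  obtain ⟨B, rfl⟩ := QuotientGroup.mk_surjective b
  obtain ⟨C, rfl⟩ := QuotientGroup.mk_surjective c
  have lift : ∀ {U V : Matrix.SpecialLinearGroup (Fin 2) K},
      ((U : Matrix.ProjectiveSpecialLinearGroup (Fin 2) K)) * V = (V : Matrix.ProjectiveSpecialLinearGroup (Fin 2) K) * U →
      (U : Matrix (Fin 2) (Fin 2) K) * V = (V : Matrix (Fin 2) (Fin 2) K) * U := by
    intro U V h
    have h' := hz _ (QuotientGroup.eq.1 h)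
    rw [inv_mul_eq_one] at h'
    exact congrArg Subtype.val h'
  have hAB := (entries _ _).1 (lift h1)
  have hCB := (entries _ _).1 (lift h2.symm)
  have hBns : B.1 0 1 ≠ 0 ∨ B.1 1 0 ≠ 0 ∨ B.1 0 0 - B.1 1 1 ≠ 0 := by
    by_contra hno
    push Not at hno
    obtain ⟨e1, e2, e3⟩ := hno
    apply hb
    rw [QuotientGroup.eq_one_iff]
    refine Matrix.SpecialLinearGroup.mem_center_iff.2 ⟨B.1 0 0, ?_, ?_⟩
    · have := B.2
      rw [Matrix.det_fin_two, e1, sub_eq_zero.1 e3] at this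
      rw [Fintype.card_fin, pow_two, sub_eq_zero.1 e3]
      simpa using this
    · ext i j
      fin_cases i <;> fin_cases j <;> simp [e1, e2, ← sub_eq_zero.1 e3]
  obtain ⟨r1, r2, r3⟩ := cross_trans hBns hAB.1 hAB.2.1 hAB.2.2 hCB.1 hCB.2.1 hCB.2.2
  have hmat : (A : Matrix (Fin 2) (Fin 2) K) * C = (C : Matrix (Fin 2) (Fin 2) K) * A := (entries _ _).2 ⟨r1, r2, r3⟩
  show ((A * C : Matrix.SpecialLinearGroup (Fin 2) K) : Matrix.ProjectiveSpecialLinearGroup (Fin 2) K) = ((C * A : Matrix.SpecialLinearGroup (Fin 2) K) : Matrix.ProjectiveSpecialLinearGroup (Fin 2) K)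
  exact congrArg _ (Subtype.ext hmat)

theorem ti_of_comm_trans {G : Type*} [Group G]
    (h : ∀ a b c : G, b ≠ 1 → a * b = b * a → b * c = c * b → a * c = c * a) (x : G) :
    Cfsg.IsTISubset (Subgroup.centralizer ({x} : Set G) : Set G) := by
  intro g hg y hy hgy
  by_contra hy1
  apply hg
  rw [SetLike.mem_coe, Subgroup.mem_centralizer_singleton_iff] at hy hgy
  by_cases hx : x = 1
  · subst hx
    rw [Subgroup.mem_normalizer_iff]
    intro n
    simp [Subgroup.mem_centralizer_singleton_iff]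
  have hC : ∀ w, w ≠ 1 → w * x = x * w → ∀ u : G, u * x = x * u ↔ u * w = w * u :=
    fun w hw hwx u => ⟨fun hu => h u x w hx hu hwx.symm, fun hu => h u w x hw hu hwx⟩
  have hconj : g * y * g⁻¹ ≠ 1 := fun e => hy1 (by simpa using e)
  rw [Subgroup.mem_normalizer_iff]
  intro u
  simp only [SetLike.mem_coe, Subgroup.mem_centralizer_singleton_iff]
  rw [hC y hy1 hy u, hC _ hconj hgy (g * u * g⁻¹)]
  constructor
  · intro hu
    calc g * u * g⁻¹ * (g * y * g⁻¹) = g * (u * y) * g⁻¹ := by group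
      _ = g * (y * u) * g⁻¹ := by rw [hu]
      _ = _ := by group
  · intro hu
    calc u * y = g⁻¹ * (g * u * g⁻¹ * (g * y * g⁻¹)) * g := by group
      _ = g⁻¹ * (g * y * g⁻¹ * (g * u * g⁻¹)) * g := by rw [hu]
      _ = _ := by group

/-- Let F be a finite field with 2ⁿ elements, n ≥ 2. In PSL₂(F) the centralizer of every element meets each of its conjugates by elements outside its normalizer trivially. -/
theorem result (n : ℕ) (hn : 2 ≤ n)
    (x : Matrix.ProjectiveSpecialLinearGroup (Fin 2) (GaloisField 2 n)) :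
    Cfsg.IsTISubset (Subgroup.centralizer ({x} : Set (Matrix.ProjectiveSpecialLinearGroup (Fin 2) (GaloisField 2 n))) :
      Set (Matrix.ProjectiveSpecialLinearGroup (Fin 2) (GaloisField 2 n))) := by
  haveI : CharP (GaloisField 2 n) 2 := inferInstance
  exact ti_of_comm_trans (fun a b c => comm_trans a b c) x

end Cfsg.Agent.S4065
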