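import Cfsg.Statements.S0840
import Cfsg.Agent.Lib.Char.Restrict
import Cfsg.Agent.Lib.Char.Ortho

set_option autoImplicit false
open scoped ComplexConjugate
open Cfsg

namespace Cfsg.Agent.S0840

/-- Class multiplication coefficients from the character table: for elements a, b, c of a finite group G, the number of ordered pairs (x, y) with x conjugate to a, y conjugate to b and x * y = c equals the product of the sizes of the conjugacy classes of a and b, divided by the order of G, times the sum over the irreducible characters χ of χ a * χ b * conj (χ c) / χ 1. -/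
theorem result {G : Type*} [Group G] [Finite G] (a b c : G) : (Nat.card {p : G × G // IsConj a p.1 ∧ IsConj b p.2 ∧ p.1 * p.2 = c} : ℂ) = (Nat.card {x : G // IsConj a x} : ℂ) * (Nat.card {x : G // IsConj b x} : ℂ) / (Nat.card G : ℂ) * ∑ᶠ χ : Cfsg.IrrCharacter G, (χ : G → ℂ) a * (χ : G → ℂ) b * conj ((χ : G → ℂ) c) / (χ : G → ℂ) 1 := by
  classical
  haveI := Fintype.ofFinite G
  rw [finsum_eq_sum_of_fintype]
  let ind : G → G → ℂ := fun u x => if IsConj u x then 1 else 0
  have hind : ∀ u, Cfsg.IsClassFunction G (ind u) := by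
    intro u x k
    simp only [ind]
    congr 1
    exact propext ⟨fun h => h.trans (isConj_iff.2 ⟨k, rfl⟩).symm, fun h => h.trans (isConj_iff.2 ⟨k, rfl⟩)⟩
  set K := fun u : G => (Nat.card {x : G // IsConj u x} : ℂ)
  have hsum : ∀ (u : G) (χ : Cfsg.IrrCharacter G),
      ∑ x : G, ind u x * (χ : G → ℂ) x = K u * (χ : G → ℂ) u := by
    intro u χ
    rw [Finset.sum_congr rfl (g := fun x => if IsConj u x then (χ : G → ℂ) u else 0) (fun x _ => by
      by_cases hx : IsConj u x
      · obtain ⟨k, rfl⟩ := isConj_iff.1 hx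
        simp only [ind, hx, if_true, one_mul,
          Cfsg.Agent.Char.isClassFunction_character (Cfsg.Agent.Char.irr_isCharacter χ.2) u k]
      · simp only [ind, hx, if_false, zero_mul]), ← Finset.sum_filter, Finset.sum_const, nsmul_eq_mul]
    simp only [K, Nat.card_eq_fintype_card, Fintype.card_subtype]
  -- the character sum of a class product
  have hprod : ∀ χ : Cfsg.IrrCharacter G, ∑ x : G, ∑ y : G, ind a x * ind b y * (χ : G → ℂ) (x * y) =
      K a * K b * ((χ : G → ℂ) a * (χ : G → ℂ) b / (χ : G → ℂ) 1) := by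
    intro χ
    rw [Finset.sum_comm]
    calc ∑ y : G, ∑ x : G, ind a x * ind b y * (χ : G → ℂ) (x * y)
        = ∑ y : G, ind b y * ∑ x : G, ind a x * (χ : G → ℂ) (x * y) := by
          refine Finset.sum_congr rfl fun y _ => ?_
          rw [Finset.mul_sum]
          exact Finset.sum_congr rfl fun x _ => by ring
      _ = ∑ y : G, ind b y * (χ : G → ℂ) y * Cfsg.Agent.Char.lam (χ : G → ℂ) (ind a) := by
          refine Finset.sum_congr rfl fun y _ => ?_
          rw [Cfsg.Agent.Char.sum_mul_shift χ.2 (hind a)]
          ring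
      _ = _ := by
          rw [← Finset.sum_mul, hsum b χ, Cfsg.Agent.Char.lam, hsum a χ]
          ring
  let N : G → ℂ := fun z => ∑ x : G, ∑ y : G, ind a x * ind b y * (if x * y = z then 1 else 0)
  have hN : ∀ z, N z = (Nat.card {p : G × G // IsConj a p.1 ∧ IsConj b p.2 ∧ p.1 * p.2 = z} : ℂ) := by
    intro z
    rw [Nat.card_eq_fintype_card, Fintype.card_subtype, ← Finset.sum_boole, Fintype.sum_prod_type]
    refine Finset.sum_congr rfl fun x _ => Finset.sum_congr rfl fun y _ => ?_
    simp only [ind]
    split_ifs <;> simp_all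
  have hNc : Cfsg.IsClassFunction G N := by
    intro z k
    rw [hN, hN]
    refine congrArg Nat.cast (Nat.card_congr (Equiv.subtypeEquiv
      (Equiv.prodCongr (MulAut.conj k).toEquiv (MulAut.conj k).toEquiv) (fun p => ?_))).symm
    have e1 : ∀ u v : G, IsConj u v ↔ IsConj u (k * v * k⁻¹) := fun u v =>
      ⟨fun h => h.trans (isConj_iff.2 ⟨k, rfl⟩), fun h => h.trans (isConj_iff.2 ⟨k, rfl⟩).symm⟩
    simp only [Equiv.prodCongr_apply, MulEquiv.toEquiv_eq_coe, EquivLike.coe_coe, Prod.map_fst,
      Prod.map_snd, MulAut.conj_apply]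
    rw [← e1, ← e1]
    refine and_congr_right fun _ => and_congr_right fun _ => ?_
    constructor
    · rintro rfl; group
    · intro h
      have := congrArg (fun t => k⁻¹ * t * k) h
      simpa [mul_assoc] using this
  have hcoef : ∀ χ : Cfsg.IrrCharacter G, Cfsg.classInner N (χ : G → ℂ) =
      (Nat.card G : ℂ)⁻¹ * conj (K a * K b * ((χ : G → ℂ) a * (χ : G → ℂ) b / (χ : G → ℂ) 1)) := by
    intro χ
    rw [← hprod, Cfsg.classInner, map_sum]
    congr 1
    simp only [N, Finset.sum_mul]
    rw [Finset.sum_comm]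
    refine Finset.sum_congr rfl fun x _ => ?_
    rw [map_sum, Finset.sum_comm]
    refine Finset.sum_congr rfl fun y _ => ?_
    simp only [mul_ite, mul_one, mul_zero, ite_mul, zero_mul, Finset.sum_ite_eq,
      Finset.mem_univ, if_true, map_mul]
    congr 1
    simp only [ind]
    split_ifs <;> simp
  have h := congrFun (Cfsg.Agent.Char.classFun_expansion hNc) c
  rw [hN c, Finset.sum_apply] at h
  have h2 := congrArg conj h
  rw [map_natCast, map_sum] at h2
  rw [h2, Finset.mul_sum]
  refine Finset.sum_congr rfl fun χ _ => ?_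
  simp only [Pi.smul_apply, smul_eq_mul, map_mul, hcoef, map_inv₀, map_natCast, Complex.conj_conj, K]
  ring

end Cfsg.Agent.S0840
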