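import Cfsg.Statements.S4066
import Cfsg.Agent.Lib.Solv.Basic

set_option autoImplicit false
open Cfsg

open scoped Pointwise commutatorElement

namespace Cfsg.Agent.S4066

/-- Let G be a finite group in which the centralizer of every element meets each of its conjugates by elements outside its normalizer trivially. Then any two distinct Sylow p-subgroups of G, for any prime p, intersect trivially. -/
theorem result {G : Type*} [Group G] [Finite G] (hTI : ∀ x : G, Cfsg.IsTISubset (Subgroup.centralizer ({x} : Set G) : Set G))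
    {p : ℕ} [Fact p.Prime] (P Q : Sylow p G) (hPQ : P ≠ Q) : (P : Subgroup G) ⊓ (Q : Subgroup G) = ⊥ := by
  by_contra hne
  obtain ⟨⟨d, hdP, hdQ⟩, hd1⟩ := Subgroup.ne_bot_iff_exists_ne_one.1 hne
  have hd1 : d ≠ 1 := fun e => hd1 (Subtype.ext e)
  have key : ∀ w c h : G, w ≠ 1 → c * w = w * c → h * w = w * h →
      ∀ v, v * c = c * v → (h * v * h⁻¹) * c = c * (h * v * h⁻¹) := by
    intro w c h hw hcw hhw v hv
    by_cases hn : h ∈ Subgroup.normalizer (Subgroup.centralizer ({c} : Set G) : Set G)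
    · exact Subgroup.mem_centralizer_singleton_iff.1
        ((Subgroup.mem_normalizer_iff.1 hn v).1 (Subgroup.mem_centralizer_singleton_iff.2 hv))
    · exact absurd (hTI c h hn w (Subgroup.mem_centralizer_singleton_iff.2 hcw.symm)
        (by rw [SetLike.mem_coe, hhw, mul_inv_cancel_right]
            exact Subgroup.mem_centralizer_singleton_iff.2 hcw.symm)) hw
  obtain ⟨g, hg⟩ := MulAction.exists_smul_eq G P Q
  have hnt : Nontrivial (P : Subgroup G) := ⟨⟨⟨d, hdP⟩, 1, fun e => hd1 (congrArg Subtype.val e)⟩⟩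
  have := P.isPGroup'.center_nontrivial
  obtain ⟨⟨⟨z, hzP⟩, hz⟩, hz1⟩ := exists_ne (1 : Subgroup.center (P : Subgroup G))
  have hz1 : z ≠ 1 := fun e => hz1 (Subtype.ext (Subtype.ext e))
  have hPz : ∀ u ∈ (P : Subgroup G), u * z = z * u := fun u hu =>
    congrArg Subtype.val (Subgroup.mem_center_iff.1 hz ⟨u, hu⟩)
  have hQc : ∀ u, u ∈ (Q : Subgroup G) ↔ g⁻¹ * u * g ∈ (P : Subgroup G) := fun u => by
    rw [← hg]
    show u ∈ MulAut.conj g • (P : Subgroup G) ↔ _
    rw [Solv.mem_conj_smul]
  have hgn : g ∈ Subgroup.normalizer (Subgroup.centralizer ({z} : Set G) : Set G) := by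
    by_contra hn
    have h1 := hPz _ ((hQc d).1 hdQ)
    have h2 := hTI z g hn (g⁻¹ * d * g) (Subgroup.mem_centralizer_singleton_iff.2 h1) (by
      rw [show g * (g⁻¹ * d * g) * g⁻¹ = d by group]
      exact Subgroup.mem_centralizer_singleton_iff.2 (hPz d hdP))
    exact hd1 (by
      have h3 := congrArg (fun t => g * t * g⁻¹) h2
      simpa [mul_assoc] using h3)
  have hQz : ∀ u ∈ (Q : Subgroup G), u * z = z * u := fun u hu => by
    have h1 := (Subgroup.mem_normalizer_iff.1 hgn _).1
      (Subgroup.mem_centralizer_singleton_iff.2 (hPz _ ((hQc u).1 hu)))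
    rw [show g * (g⁻¹ * u * g) * g⁻¹ = u by group] at h1
    exact Subgroup.mem_centralizer_singleton_iff.1 h1
  -- conjugates of a `p`-element inside `C(z)` commute
  have hcc : ∀ c h h', c * z = z * c → h * z = z * h → h' * z = z * h' →
      (h * c * h⁻¹) * (h' * c * h'⁻¹) = (h' * c * h'⁻¹) * (h * c * h⁻¹) := by
    intro c h h' hc hh hh'
    have hk : (h'⁻¹ * h) * z = z * (h'⁻¹ * h) :=
      ((Commute.inv_left (hh' : Commute h' z)).mul_left (hh : Commute h z)).eq
    have e := key z c (h'⁻¹ * h) hz1 hc hk c rfl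
    calc (h * c * h⁻¹) * (h' * c * h'⁻¹)
        = h' * ((h'⁻¹ * h) * c * (h'⁻¹ * h)⁻¹ * c) * h'⁻¹ := by group
      _ = h' * (c * ((h'⁻¹ * h) * c * (h'⁻¹ * h)⁻¹)) * h'⁻¹ := by rw [e]
      _ = _ := by group
  have hle : (P : Subgroup G) ≤ Q := by
    intro c hc
    set T : Set G := {t | ∃ h, h * z = z * h ∧ t = h * c * h⁻¹} with hT
    set A := Subgroup.closure T with hA
    have hcz := hPz c hc
    have hAc : ∀ a ∈ A, ∀ b ∈ A, a * b = b * a := by
      have h1 : A ≤ Subgroup.centralizer T := (Subgroup.closure_le _).2 (by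
        rintro _ ⟨h, hh, rfl⟩
        refine Subgroup.mem_centralizer_iff.2 ?_
        rintro _ ⟨h', hh', rfl⟩
        exact hcc c h' h hcz hh' hh)
      have h2 : A ≤ Subgroup.centralizer (A : Set G) := by
        refine (Subgroup.closure_le _).2 fun t ht => Subgroup.mem_centralizer_iff.2 fun a ha => ?_
        exact (Subgroup.mem_centralizer_iff.1 (h1 ha) t ht).symm
      exact fun a ha b hb => Subgroup.mem_centralizer_iff.1 (h2 hb) a ha
    have hAp : IsPGroup p A := by
      obtain ⟨k, hk⟩ := IsPGroup.iff_orderOf.1 P.isPGroup' ⟨c, hc⟩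
      rw [Subgroup.orderOf_mk] at hk
      rintro ⟨a, ha⟩
      refine ⟨k, Subtype.ext ?_⟩
      show a ^ p ^ k = 1
      induction ha using Subgroup.closure_induction with
      | mem t ht =>
        obtain ⟨h, -, rfl⟩ := ht
        rw [conj_pow, ← hk, pow_orderOf_eq_one, mul_one, mul_inv_cancel]
      | one => simp
      | mul a b ha hb iha ihb => rw [(show Commute a b from hAc a ha b hb).mul_pow, iha, ihb, mul_one]
      | inv a ha iha => rw [inv_pow, iha, inv_one]
    have hnorm : (Q : Subgroup G) ≤ Subgroup.normalizer (A : Set G) := fun u hu => by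
      refine Solv.mem_normalizer_of_conj_smul (Subgroup.eq_of_le_of_card_ge ?_ (by rw [Solv.card_conj_smul]))
      rw [Solv.conj_smul_eq_map, hA, MonoidHom.map_closure]
      refine (Subgroup.closure_le _).2 ?_
      rintro _ ⟨_, ⟨h, hh, rfl⟩, rfl⟩
      refine Subgroup.subset_closure ⟨u * h,
        (Commute.mul_left (show Commute u z from hQz u hu) (show Commute h z from hh)).eq, ?_⟩
      show u * (h * c * h⁻¹) * u⁻¹ = _
      group
    have hsup : IsPGroup p ((Q : Subgroup G) ⊔ A : Subgroup G) :=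
      Q.isPGroup'.to_sup_of_normal_right' hAp hnorm
    have heq := Q.3 hsup le_sup_left
    refine heq.le (Subgroup.mem_sup_right (Subgroup.subset_closure ?_))
    exact ⟨1, by simp, by simp⟩
  exact hPQ (Sylow.ext (P.3 Q.isPGroup' hle).symm)

end Cfsg.Agent.S4066
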