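import Cfsg.Statements.S0557
import Cfsg.Agent.S0080
import Cfsg.Agent.Lib.Solv.Basic
import Mathlib.GroupTheory.Focal
import Mathlib.Tactic.Group

set_option autoImplicit false
open Cfsg

namespace Cfsg.Agent.S0557

universe u

open scoped Pointwise commutatorElement

theorem focal_map_le {G : Type u} [Group G] (N : Subgroup G) (K : Subgroup N) (K' : Subgroup G)
    (h : K.map N.subtype ≤ K') :
    (Subgroup.focalSubgroup K).map N.subtype ≤ Subgroup.focalSubgroup K' := by
  rw [Subgroup.focalSubgroup_def, MonoidHom.map_closure, Subgroup.focalSubgroup_def]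
  refine Subgroup.closure_mono ?_
  rintro _ ⟨_, ⟨hg, x, hx, u, rfl⟩, rfl⟩
  exact ⟨h ⟨_, hg, rfl⟩, x, h ⟨x, hx, rfl⟩, u, map_commutatorElement N.subtype x u⟩

theorem iterate_map_le {G : Type u} [Group G] (N : Subgroup G) : ∀ (n : ℕ) (K : Subgroup N)
    (K' : Subgroup G), K.map N.subtype ≤ K' →
    (((fun L : Subgroup N => Subgroup.focalSubgroup L)^[n] K).map N.subtype) ≤
      (fun L : Subgroup G => Subgroup.focalSubgroup L)^[n] K' := by
  intro n
  induction n with
  | zero => exact fun _ _ h => h
  | succ n ih =>
    intro K K' h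
    rw [Function.iterate_succ_apply, Function.iterate_succ_apply]
    exact ih _ _ (focal_map_le N K K' h)

theorem aux : ∀ (n : ℕ) {G : Type u} [Group G] [Finite G] (H : Subgroup G),
    (Nat.card H).Coprime H.index → (fun K : Subgroup G => Subgroup.focalSubgroup K)^[n] H = ⊥ →
    ∃ N : Subgroup G, N.Normal ∧ Subgroup.IsComplement' N H := by
  intro n
  induction n with
  | zero =>
    intro G _ _ H _ h
    rw [Function.iterate_zero_apply] at h
    exact ⟨⊤, inferInstance, h ▸ Subgroup.isComplement'_top_bot⟩
  | succ n ih =>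
    intro G _ _ H hco h
    rw [Function.iterate_succ_apply] at h
    obtain ⟨hfoc, N, hN, hNH, htop⟩ := Cfsg.Agent.S0080.result H
      (hco.symm.coprime_dvd_right (Subgroup.relIndex_dvd_card _ _))
    haveI := hN
    set H₁ := Subgroup.focalSubgroup H with hH₁
    rw [← hfoc] at hNH
    have h1N : H₁ ≤ N := hNH ▸ inf_le_left
    have hsup := Cfsg.Agent.Solv.card_sup_mul_card_inf N H
    rw [htop, hNH, Subgroup.card_top, ← H.card_mul_index] at hsup
    have hidx : (H₁.subgroupOf N).index = H.index := by
      have h2 := (H₁.subgroupOf N).card_mul_index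
      rw [Cfsg.Agent.Solv.card_subgroupOf h1N] at h2
      refine Nat.eq_of_mul_eq_mul_left (Nat.mul_pos (Nat.card_pos (α := H)) (Nat.card_pos (α := H₁))) ?_
      calc Nat.card H * Nat.card H₁ * (H₁.subgroupOf N).index
          = Nat.card H * (Nat.card H₁ * (H₁.subgroupOf N).index) := by ring
        _ = Nat.card H * H.index * Nat.card H₁ := by rw [h2, hsup]; ring
        _ = _ := by ring
    have hco₁ : (Nat.card (H₁.subgroupOf N)).Coprime (H₁.subgroupOf N).index := by
      rw [hidx, Cfsg.Agent.Solv.card_subgroupOf h1N]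
      exact hco.coprime_dvd_left (Subgroup.card_dvd_of_le (hNH ▸ inf_le_right))
    obtain ⟨M, hM, hMc⟩ := ih (G := N) (H₁.subgroupOf N) hco₁ (by
      rw [← Subgroup.map_eq_bot_iff_of_injective _ N.subtype_injective, eq_bot_iff, ← h]
      exact iterate_map_le N n _ _ (Subgroup.map_subgroupOf_eq_of_le h1N).le)
    haveI := hM
    have hMcard : Nat.card M = H.index := by rw [← hidx]; exact hMc.index_eq_card.symm
    have hMn : (M.map N.subtype).Normal := by
      refine ⟨fun x hx g => ?_⟩
      obtain ⟨y, hy, rfl⟩ := hx
      let φ : N ≃* N := MulAut.conjNormal g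
      have hle : M.map φ.toMonoidHom ≤ M := by
        refine Cfsg.Agent.Solv.le_of_coprime_index M _ ?_
        rw [show Nat.card (M.map φ.toMonoidHom) = Nat.card M from
          Subgroup.card_map_of_injective (f := φ.toMonoidHom) φ.injective, hMcard, hMc.symm.index_eq_card,
          Cfsg.Agent.Solv.card_subgroupOf h1N]
        exact (hco.coprime_dvd_left (Subgroup.card_dvd_of_le (hNH ▸ inf_le_right))).symm
      exact ⟨φ y, hle ⟨y, hy, rfl⟩, by simp [φ]⟩
    refine ⟨_, hMn, Subgroup.isComplement'_of_coprime ?_ ?_⟩
    · rw [Cfsg.Agent.Solv.card_map_subtype, hMcard, mul_comm, H.card_mul_index]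
    · rw [Cfsg.Agent.Solv.card_map_subtype, hMcard]
      exact hco.symm

/-- Let H be a subgroup of a finite group G with order coprime to its index. If iterating the focal-subgroup construction starting from H reaches the trivial subgroup after finitely many steps, then H has a normal complement in G. -/
theorem result {G : Type*} [Group G] [Finite G] (H : Subgroup G) (hHall : (Nat.card H).Coprime H.index) (n : ℕ) (hfoc : (fun K : Subgroup G => Subgroup.focalSubgroup K)^[n] H = ⊥) : ∃ N : Subgroup G, N.Normal ∧ Subgroup.IsComplement' N H := by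
  exact aux n H hHall hfoc

end Cfsg.Agent.S0557
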