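import Cfsg.Statements.S0558
import Cfsg.Agent.S0557
import Cfsg.Agent.Lib.Perm.Schmidt
import Mathlib.GroupTheory.Nilpotent
import Mathlib.Tactic.Group

set_option autoImplicit false
open Cfsg

namespace Cfsg.Agent.S0558

open scoped Pointwise commutatorElement

/-- Let H be a subgroup of a finite group G that is not a Sylow subgroup of G for any prime, and suppose that for every prime p dividing the order of H and every Sylow p-subgroup P of H the normalizer of P in G is exactly H. Then some normal subgroup of G is a complement to H. -/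
theorem result {G : Type*} [Group G] [Finite G] (H : Subgroup G) (hnot : ∀ p : ℕ, p.Prime → ∀ P : Sylow p G, (P : Subgroup G) ≠ H) (hnorm : ∀ p : ℕ, p.Prime → p ∣ Nat.card H → ∀ P : Sylow p H, Subgroup.normalizer (((P : Subgroup H).map H.subtype : Subgroup G) : Set G) = H) : ∃ N : Subgroup G, N.Normal ∧ Subgroup.IsComplement' N H := by
  rcases eq_or_ne H ⊥ with rfl | hne
  · exact ⟨⊤, inferInstance, Subgroup.isComplement'_top_bot⟩
  have hsyl : ∀ (p : ℕ) [Fact p.Prime], p ∣ Nat.card H → ∀ P : Sylow p H,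
      (P : Subgroup H).Normal ∧ ¬ p ∣ ((P : Subgroup H).map H.subtype).index := by
    intro p _ hpd P
    have hN := hnorm p Fact.out hpd P
    set P' := (P : Subgroup H).map H.subtype
    refine ⟨?_, ?_⟩
    · refine ⟨fun x hx g => ?_⟩
      have hg : (g : G) ∈ Subgroup.normalizer (P' : Set G) := by rw [hN]; exact g.2
      obtain ⟨y, hy, e⟩ := (Subgroup.mem_normalizer_iff.1 hg (x : G)).1 ⟨x, hx, rfl⟩
      rwa [show g * x * g⁻¹ = y from Subtype.ext (by simpa using e.symm)]
    · obtain ⟨R, hR⟩ := (P.2.map H.subtype : IsPGroup p P').exists_le_sylow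
      have : P' = (R : Subgroup G) := by
        by_contra hlt
        have hlt' : P'.subgroupOf R < ⊤ := lt_top_iff_ne_top.2 fun h =>
          hlt (le_antisymm hR (Subgroup.subgroupOf_eq_top.1 h))
        haveI : Group.IsNilpotent (R : Subgroup G) := R.2.isNilpotent
        obtain ⟨r, hr, hrn⟩ := SetLike.exists_of_lt
          (Group.normalizerCondition_of_isNilpotent (G := (R : Subgroup G)) _ hlt')
        have hr' : (r : G) ∈ Subgroup.normalizer (P' : Set G) := by
          have := Subgroup.le_normalizer_map (R : Subgroup G).subtype (Subgroup.mem_map_of_mem _ hr)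
          rwa [Subgroup.map_subgroupOf_eq_of_le hR] at this
        have hrH : (r : G) ∈ H := hN ▸ hr'
        have heq : (R : Subgroup G).subgroupOf H = (P : Subgroup H) := P.is_maximal'
          (R.2.comap_of_injective H.subtype H.subtype_injective) fun x hx => hR ⟨x, hx, rfl⟩
        exact hrn ⟨⟨r, hrH⟩, (show (⟨r, hrH⟩ : H) ∈ (P : Subgroup H) from heq ▸ r.2), rfl⟩
      rw [this]; exact R.not_dvd_index
  have hnil : Group.IsNilpotent H := Perm.nilpotent_of_sylow_normal fun p hp P => by
    haveI := hp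
    by_cases hpd : p ∣ Nat.card H
    · exact (hsyl p hpd P).1
    · have : (P : Subgroup H) = ⊥ := Subgroup.card_eq_one.1 (by
        rw [P.card_eq_multiplicity, Nat.factorization_eq_zero_of_not_dvd hpd, pow_zero])
      rw [this]; infer_instance
  have hHall : (Nat.card H).Coprime H.index := Nat.coprime_of_dvd fun p hp h1 h2 => by
    haveI := Fact.mk hp
    obtain ⟨P⟩ : Nonempty (Sylow p H) := inferInstance
    exact (hsyl p h1 P).2 (h2.trans (Subgroup.index_dvd_of_le (Subgroup.map_subtype_le _)))
  -- `H` has another prime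
  have hother : ∀ p : ℕ, p.Prime → ∃ q : ℕ, q.Prime ∧ q ≠ p ∧ q ∣ Nat.card H := by
    intro p hp
    by_contra hcon
    push Not at hcon
    haveI := Fact.mk hp
    have hc : Nat.card H = p ^ (Nat.card H).primeFactorsList.length :=
      Nat.eq_prime_pow_of_unique_prime_dvd Nat.card_pos.ne' fun {r} hr hrd =>
        by_contra fun h => hcon r hr h hrd
    have hpH : p ∣ Nat.card H := by
      obtain ⟨r, hr, hrd⟩ := Nat.exists_prime_and_dvd ((Subgroup.one_lt_card_iff_ne_bot H).2 hne).ne'
      have : r = p := by_contra fun h => hcon r hr h hrd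
      rwa [← this]
    have hpg : IsPGroup p H := IsPGroup.of_card hc
    refine hnot p hp (hpg.toSylow fun hd => hp.not_dvd_one (hHall ▸ Nat.dvd_gcd hpH hd)) rfl
  -- fusion of elements of prime power order
  have hfus : ∀ (p k : ℕ), p.Prime → ∀ (x : G), x ∈ H → orderOf x = p ^ k → ∀ u : G, u * x * u⁻¹ ∈ H →
      ∃ h ∈ H, u * x * u⁻¹ = h * x * h⁻¹ := by
    intro p k hp x hx hxo u hy
    haveI := Fact.mk hp
    obtain ⟨q, hq, hqp, hqd⟩ := hother p hp
    haveI := Fact.mk hq
    obtain ⟨Q⟩ : Nonempty (Sylow q H) := inferInstance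
    set Q' := (Q : Subgroup H).map H.subtype with hQ'
    have hQn : ¬ q ∣ Q'.index := (hsyl q hqd Q).2
    have hcl : ∀ z : G, z ∈ H → orderOf z = p ^ k → Q' ≤ Subgroup.centralizer {z} := by
      intro z hz hzo
      have hzp : IsPGroup p (Subgroup.zpowers z) := IsPGroup.of_card (n := k) (by rw [Nat.card_zpowers, hzo])
      refine (Perm.commute_of_le_nilpotent hnil hqp (Q.2.map _) hzp (Subgroup.map_subtype_le _)
        (Subgroup.zpowers_le.2 hz)).trans (Subgroup.centralizer_le ?_)
      rintro _ rfl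
      exact Subgroup.mem_zpowers _
    set y := u * x * u⁻¹
    set C := Subgroup.centralizer {y}
    have hyo : orderOf y = p ^ k := by
      rw [← hxo]
      exact orderOf_injective (MulAut.conj u).toMonoidHom (MulAut.conj u).injective x
    have h1 : Q' ≤ C := hcl y hy hyo
    have h2 : MulAut.conj u • Q' ≤ C := by
      intro z hz
      rw [Cfsg.Agent.Solv.mem_conj_smul] at hz
      have h3 := Subgroup.mem_centralizer_singleton_iff.1 (hcl x hx hxo hz)
      rw [Subgroup.mem_centralizer_singleton_iff]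
      calc z * y = u * ((u⁻¹ * z * u) * x) * u⁻¹ := by simp only [y]; group
        _ = y * z := by rw [h3]; simp only [y]; group
    have hidx : ∀ X : Subgroup G, X ≤ C → ¬ q ∣ X.index → ¬ q ∣ (X.subgroupOf C).index := fun X hX hd h =>
      hd (by rw [← Subgroup.relIndex_mul_index hX]; exact h.mul_right _)
    have hci : (MulAut.conj u • Q').index = Q'.index := by
      have e1 := (MulAut.conj u • Q').card_mul_index
      rw [Cfsg.Agent.Solv.card_conj_smul, ← Q'.card_mul_index] at e1
      exact Nat.eq_of_mul_eq_mul_left Nat.card_pos e1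
    have hQp : IsPGroup q Q' := Q.2.map _
    have hQup : IsPGroup q (MulAut.conj u • Q' : Subgroup G) := hQp.map _
    let S1 : Sylow q C := (hQp.comap_of_injective C.subtype C.subtype_injective :
      IsPGroup q (Q'.subgroupOf C)).toSylow (hidx Q' h1 hQn)
    let S2 : Sylow q C := (hQup.comap_of_injective C.subtype C.subtype_injective :
      IsPGroup q ((MulAut.conj u • Q').subgroupOf C)).toSylow (hidx _ h2 (hci ▸ hQn))
    obtain ⟨c, hc⟩ := MulAction.exists_smul_eq C S2 S1
    have hc' : MulAut.conj c • (MulAut.conj u • Q').subgroupOf C = Q'.subgroupOf C :=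
      congrArg Sylow.toSubgroup hc
    have h4 := congrArg (Subgroup.map C.subtype) hc'
    rw [Cfsg.Agent.Solv.map_conj_smul, Subgroup.map_subgroupOf_eq_of_le h1,
      Subgroup.map_subgroupOf_eq_of_le h2, Cfsg.Agent.Solv.conj_smul_conj] at h4
    have hh : (c : G) * u ∈ H := by
      rw [← hnorm q hq hqd Q]
      exact Cfsg.Agent.Solv.mem_normalizer_of_conj_smul h4
    refine ⟨(c : G) * u, hh, ?_⟩
    have hcy : (c : G) * y = y * (c : G) := Subgroup.mem_centralizer_singleton_iff.1 c.2
    calc y = y * (c : G) * (c : G)⁻¹ := by rw [mul_inv_cancel_right]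
      _ = (c : G) * y * (c : G)⁻¹ := by rw [hcy]
      _ = (c : G) * u * x * ((c : G) * u)⁻¹ := by simp only [y]; group
  -- focal subgroups lie in the lower central series
  have hle : ∀ m : ℕ, H.lowerCentralSeries m ≤ H ∧ H ≤ Subgroup.normalizer (H.lowerCentralSeries m : Set G) := by
    intro m
    induction m with
    | zero => exact ⟨le_rfl, Subgroup.le_normalizer⟩
    | succ m ih =>
      rw [Subgroup.lowerCentralSeries_succ]
      refine ⟨(Subgroup.commutator_mono ih.1 le_rfl).trans ?_, fun x hx => ?_⟩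
      · refine Subgroup.commutator_le.2 fun a ha b hb => ?_
        rw [commutatorElement_def]
        exact H.mul_mem (H.mul_mem (H.mul_mem ha hb) (H.inv_mem ha)) (H.inv_mem hb)
      · refine Cfsg.Agent.Solv.mem_normalizer_of_conj_smul ?_
        rw [Cfsg.Agent.Solv.conj_smul_eq_map, Subgroup.map_commutator, ← Cfsg.Agent.Solv.conj_smul_eq_map,
          ← Cfsg.Agent.Solv.conj_smul_eq_map, Cfsg.Agent.Solv.conj_smul_of_mem_normalizer (ih.2 hx),
          Subgroup.conj_smul_eq_self_of_mem hx]
  have hcomm : ∀ m : ℕ, ∀ n : ℕ, ∀ z ∈ H.lowerCentralSeries m, orderOf z = n → ∀ u : G, u * z * u⁻¹ ∈ H →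
      ⁅z, u⁆ ∈ H.lowerCentralSeries (m + 1) := by
    intro m n
    induction n using Nat.recOnPosPrimePosCoprime with
    | zero => intro z _ hz; exact absurd hz (orderOf_pos z).ne'
    | one =>
      intro z _ hz u _
      rw [orderOf_eq_one_iff.1 hz]; simp
    | prime_pow p k hp hk =>
      intro z hz hzo u hu
      obtain ⟨h, hh, e⟩ := hfus p k hp z ((hle m).1 hz) hzo u hu
      have : ⁅z, u⁆ = ⁅z, h⁆ := by
        calc ⁅z, u⁆ = z * (u * z * u⁻¹)⁻¹ := by rw [commutatorElement_def]; group
          _ = ⁅z, h⁆ := by rw [e, commutatorElement_def]; group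
      rw [this, Subgroup.lowerCentralSeries_succ]
      exact Subgroup.commutator_mem_commutator hz hh
    | coprime a b ha hb hab iha ihb =>
      intro z hz hzo u hu
      obtain ⟨i, j, hij⟩ := Int.isCoprime_iff_gcd_eq_one.mpr (by simpa using hab : Int.gcd (a : ℤ) b = 1)
      have hconj : ∀ t : ℤ, u * z ^ t * u⁻¹ ∈ H := fun t => by
        rw [← conj_zpow]; exact H.zpow_mem hu t
      have split : ∀ (a : ℕ) (t : ℤ), (z ^ t) ^ a = 1 →
          (∀ w ∈ H.lowerCentralSeries m, orderOf w = a → ∀ u : G, u * w * u⁻¹ ∈ H → ⁅w, u⁆ ∈ H.lowerCentralSeries (m + 1)) →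
          orderOf (z ^ t) = a → ⁅z ^ t, u⁆ ∈ H.lowerCentralSeries (m + 1) :=
        fun a t _ hw ho => hw _ (zpow_mem hz t) ho u (hconj t)
      have e : z ^ (j * (b : ℤ)) * z ^ (i * (a : ℤ)) = z := by
        rw [← zpow_add, add_comm, hij, zpow_one]
      have hzo' : z ^ ((a * b : ℕ) : ℤ) = 1 := by rw [zpow_natCast, ← hzo, pow_orderOf_eq_one]
      have d1 : orderOf (z ^ (j * (b : ℤ))) ∣ a := orderOf_dvd_of_pow_eq_one (by
        rw [← zpow_natCast, ← zpow_mul, show j * (b : ℤ) * (a : ℤ) = ((a * b : ℕ) : ℤ) * j by push_cast; ring,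
          zpow_mul, hzo', one_zpow])
      have d2 : orderOf (z ^ (i * (a : ℤ))) ∣ b := orderOf_dvd_of_pow_eq_one (by
        rw [← zpow_natCast, ← zpow_mul, show i * (a : ℤ) * (b : ℤ) = ((a * b : ℕ) : ℤ) * i by push_cast; ring,
          zpow_mul, hzo', one_zpow])
      have hc : Commute (z ^ (j * (b : ℤ))) (z ^ (i * (a : ℤ))) := (Commute.refl z).zpow_zpow _ _
      have hord := hc.orderOf_mul_eq_mul_orderOf_of_coprime ((hab.coprime_dvd_left d1).coprime_dvd_right d2)
      rw [e, hzo] at hord
      have o1 : orderOf (z ^ (j * (b : ℤ))) = a := Nat.dvd_antisymm d1 (by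
        refine ((hab.coprime_dvd_right d2).dvd_of_dvd_mul_right ?_)
        rw [← hord]; exact dvd_mul_right _ _)
      have o2 : orderOf (z ^ (i * (a : ℤ))) = b := Nat.dvd_antisymm d2 (by
        refine ((hab.symm.coprime_dvd_right d1).dvd_of_dvd_mul_left ?_)
        rw [← hord]; exact dvd_mul_left _ _)
      have m1 := iha _ (zpow_mem hz _) o1 u (hconj _)
      have m2 := ihb _ (zpow_mem hz _) o2 u (hconj _)
      generalize z ^ (j * (b : ℤ)) = z1 at *
      have key : ⁅z, u⁆ = z1 * ⁅z ^ (i * (a : ℤ)), u⁆ * z1⁻¹ * ⁅z1, u⁆ := by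
        rw [commutatorElement_def, commutatorElement_def, commutatorElement_def]
        conv_lhs => rw [← e]
        group
      rw [key]
      have hz1 : z1 ∈ H := (hle m).1 (by
        have := (H.lowerCentralSeries m).mul_mem hz ((H.lowerCentralSeries m).inv_mem (zpow_mem hz (i * (a : ℤ))))
        rwa [show z * (z ^ (i * (a : ℤ)))⁻¹ = z1 by rw [mul_inv_eq_iff_eq_mul]; exact e.symm] at this)
      exact mul_mem ((Subgroup.mem_normalizer_iff.1 ((hle (m + 1)).2 hz1) _).1 m2) m1
  obtain ⟨n, hn⟩ := Subgroup.nilpotent_iff_lowerCentralSeries.1 hnil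
  refine Cfsg.Agent.S0557.result H hHall n (eq_bot_iff.2 ?_)
  have hiter : ∀ m : ℕ, (fun K : Subgroup G => Subgroup.focalSubgroup K)^[m] H ≤ H.lowerCentralSeries m := by
    intro m
    induction m with
    | zero => exact le_rfl
    | succ m ih =>
      rw [Function.iterate_succ_apply', Subgroup.focalSubgroup_def, Subgroup.closure_le]
      rintro _ ⟨hg, x, hx, u, rfl⟩
      refine hcomm m _ x (ih hx) rfl u ?_
      have h3 := H.mul_mem (H.inv_mem ((hle m).1 (ih hg))) ((hle m).1 (ih hx))
      rwa [show ⁅x, u⁆⁻¹ * x = u * x * u⁻¹ by rw [commutatorElement_def]; group] at h3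
  refine (hiter n).trans ?_
  have hmap : ∀ k, H.lowerCentralSeries k = ((⊤ : Subgroup H).lowerCentralSeries k).map H.subtype := by
    intro k
    induction k with
    | zero => rw [Subgroup.lowerCentralSeries_zero, Subgroup.lowerCentralSeries_zero, ← MonoidHom.range_eq_map, Subgroup.range_subtype]
    | succ k ih => rw [Subgroup.lowerCentralSeries_succ, Subgroup.lowerCentralSeries_succ, Subgroup.map_commutator, ← ih, ← MonoidHom.range_eq_map, Subgroup.range_subtype]
  rw [hmap n, hn, Subgroup.map_bot]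

end Cfsg.Agent.S0558
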