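import Cfsg.Statements.S0561
import Cfsg.Agent.Lib.Solv.Hall

set_option autoImplicit false
open Cfsg
open scoped Pointwise

namespace Cfsg.Agent.S0561

variable {G : Type*} [Group G]

theorem smul_eq_self {H A : Subgroup G} [Finite G] (hA : A ≤ H) (hAn : (A.subgroupOf H).Normal) {h : G}
    (hh : h ∈ H) : MulAut.conj h • A = A := by
  refine Subgroup.eq_of_le_of_card_ge ?_ (le_of_eq ?_)
  · rintro _ ⟨a, ha, rfl⟩
    have := hAn.conj_mem ⟨a, hA ha⟩ (Subgroup.mem_subgroupOf.2 ha) ⟨h, hh⟩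
    exact Subgroup.mem_subgroupOf.1 this
  · exact (Subgroup.card_map_of_injective (MulAut.conj h).injective).symm

/-- The product of the two subgroups is a subgroup. -/
theorem exists_product [Finite G] [Group.IsSolvable G] (H K A B : Subgroup G)
    (hHK : ∀ g : G, ∃ h ∈ H, ∃ k ∈ K, g = h * k) (hA : A ≤ H) (hAn : (A.subgroupOf H).Normal) (hB : B ≤ K)
    (hBn : (B.subgroupOf K).Normal) (hAh : (Nat.card A).Coprime A.index) (hBh : (Nat.card B).Coprime B.index) :
    ∃ L : Subgroup G, A ≤ L ∧ B ≤ L ∧ ∀ l ∈ L, ∃ a ∈ A, ∃ b ∈ B, l = a * b := by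
  have hmd : Nat.lcm (Nat.card A) (Nat.card B) ∣ Nat.card G :=
    Nat.lcm_dvd (Subgroup.card_subgroup_dvd_card A) (Subgroup.card_subgroup_dvd_card B)
  set m := Nat.lcm (Nat.card A) (Nat.card B) with hm
  obtain ⟨t, ht⟩ := hmd
  have key : ∀ X : Subgroup G, Nat.card X ∣ m → (Nat.card X).Coprime X.index → (Nat.card X).Coprime t := by
    intro X hX hXc
    obtain ⟨e, he⟩ := hX
    refine hXc.coprime_dvd_right ⟨e, ?_⟩
    have h1 := Subgroup.card_mul_index X
    rw [ht, he, mul_assoc] at h1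
    rw [Nat.eq_of_mul_eq_mul_left Nat.card_pos h1, mul_comm]
  have hcA := key A (Nat.dvd_lcm_left _ _) hAh
  have hcB := key B (Nat.dvd_lcm_right _ _) hBh
  have hco : m.Coprime t := (hcA.mul_left hcB).coprime_dvd_left (Nat.lcm_dvd_mul _ _)
  obtain ⟨M, hM⟩ := Cfsg.Agent.Solv.hall_exists ‹_› ht hco
  obtain ⟨gA, hgA⟩ := Cfsg.Agent.Solv.hall_contain ‹_› ht hco A M hcA hM
  obtain ⟨gB, hgB⟩ := Cfsg.Agent.Solv.hall_contain ‹_› ht hco B M hcB hM
  obtain ⟨h', hh', k', hk', e⟩ := hHK (gA * gB⁻¹)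
  set L := MulAut.conj (h'⁻¹ * gA) • M with hL
  have hAL : A ≤ L := by
    intro a ha
    rw [hL, map_mul, mul_smul]
    rw [← smul_eq_self hA hAn (inv_mem hh')] at ha
    exact Subgroup.pointwise_smul_le_pointwise_smul_iff.2 hgA ha
  have hBL : B ≤ L := by
    intro b hb
    rw [show h'⁻¹ * gA = k' * gB by
      rw [inv_mul_eq_iff_eq_mul, ← mul_assoc, ← e, inv_mul_cancel_right]] at hL
    rw [hL, map_mul, mul_smul]
    rw [← smul_eq_self hB hBn hk'] at hb
    exact Subgroup.pointwise_smul_le_pointwise_smul_iff.2 hgB hb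
  refine ⟨L, hAL, hBL, fun l hl => ?_⟩
  let f := Subgroup.quotientSubgroupOfEmbeddingOfLE B hAL
  have hcard : Nat.card (L ⧸ B.subgroupOf L) ≤ Nat.card (A ⧸ B.subgroupOf A) := by
    have h1 := Subgroup.card_mul_index (B.subgroupOf L)
    have h2 := Subgroup.card_mul_index (B.subgroupOf A)
    rw [Nat.card_congr (Subgroup.subgroupOfEquivOfLe hBL).toEquiv] at h1
    have hLm : Nat.card L = m := by
      rw [hL]; exact (Subgroup.card_map_of_injective (MulAut.conj _).injective).trans hM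
    have hD1 : Nat.card (B.subgroupOf A) ∣ Nat.card A := Subgroup.card_subgroup_dvd_card _
    have hD2 : Nat.card (B.subgroupOf A) ∣ Nat.card B :=
      Subgroup.card_dvd_of_injective
        (((A.subtype.comp (B.subgroupOf A).subtype)).codRestrict B (fun x => Subgroup.mem_subgroupOf.1 x.2))
        (fun x y h => Subtype.ext (Subtype.ext (congrArg (fun z : B => (z : G)) h)))
    have hg := Nat.le_of_dvd (Nat.pos_of_ne_zero (by
      intro h0; rw [Nat.gcd_eq_zero_iff] at h0; exact Nat.card_pos.ne' h0.1)) (Nat.dvd_gcd hD1 hD2)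
    show (B.subgroupOf L).index ≤ (B.subgroupOf A).index
    set D := Nat.card (B.subgroupOf A)
    have hDpos : 0 < D := Nat.card_pos
    have hgl := Nat.gcd_mul_lcm (Nat.card A) (Nat.card B)
    rw [← hm] at hgl
    by_contra hlt
    push Not at hlt
    have h3 : Nat.card B * (B.subgroupOf A).index * D < Nat.card B * (B.subgroupOf L).index * D :=
      Nat.mul_lt_mul_of_pos_right (Nat.mul_lt_mul_of_pos_left hlt Nat.card_pos) hDpos
    rw [h1, hLm, show Nat.card B * (B.subgroupOf A).index * D = (D * (B.subgroupOf A).index) * Nat.card B by ring,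
      h2, ← hgl, mul_comm (Nat.gcd _ _)] at h3
    exact absurd h3 (not_lt.2 (Nat.mul_le_mul_left _ hg))
  have hsurj : Function.Surjective f :=
    (f.injective.bijective_of_nat_card_le hcard).2
  obtain ⟨q, hq⟩ := hsurj ((⟨l, hl⟩ : L) : L ⧸ B.subgroupOf L)
  obtain ⟨a, rfl⟩ := QuotientGroup.mk_surjective q
  rw [Subgroup.quotientSubgroupOfEmbeddingOfLE_apply_mk, QuotientGroup.eq, Subgroup.mem_subgroupOf] at hq
  refine ⟨a, a.2, _, hq, ?_⟩
  simp

/-- Let the finite solvable group G be the product HK of subgroups, and let A be normal in H and B normal in K, where A and B are Hall subgroups of G (order coprime to index). Then for all x, y the product set of xAx⁻¹ and yBy⁻¹ is a subgroup of G. -/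
theorem result {G : Type*} [Group G] [Finite G] [Group.IsSolvable G] (H K A B : Subgroup G) (hHK : ∀ g : G, ∃ h ∈ H, ∃ k ∈ K, g = h * k) (hA : A ≤ H) (hAn : (A.subgroupOf H).Normal) (hB : B ≤ K) (hBn : (B.subgroupOf K).Normal) (hAh : (Nat.card A).Coprime A.index) (hBh : (Nat.card B).Coprime B.index) (x y : G) : ∃ S : Subgroup G, (S : Set G) = ((MulAut.conj x • A : Subgroup G) : Set G) * ((MulAut.conj y • B : Subgroup G) : Set G) := by
  obtain ⟨L, hAL, hBL, hL⟩ := exists_product H K A B hHK hA hAn hB hBn hAh hBh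
  obtain ⟨h, hh, k, hk, e⟩ := hHK (x⁻¹ * y)
  have ex : MulAut.conj (x * h) • A = MulAut.conj x • A := by
    rw [map_mul, mul_smul, smul_eq_self hA hAn hh]
  have ey : MulAut.conj (x * h) • B = MulAut.conj y • B := by
    rw [show y = x * h * k by rw [mul_assoc, ← e, mul_inv_cancel_left], map_mul _ (x * h) k, mul_smul,
      smul_eq_self hB hBn hk]
  refine ⟨MulAut.conj (x * h) • L, ?_⟩
  rw [← ex, ← ey]
  ext z
  constructor
  · rintro ⟨l, hl, rfl⟩
    obtain ⟨a, ha, b, hb, rfl⟩ := hL l hl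
    exact Set.mem_mul.2 ⟨_, ⟨a, ha, rfl⟩, _, ⟨b, hb, rfl⟩, (map_mul _ a b).symm⟩
  · intro hz
    obtain ⟨u, hu, v, hv, rfl⟩ := Set.mem_mul.1 hz
    exact mul_mem (Subgroup.pointwise_smul_le_pointwise_smul_iff.2 hAL hu)
      (Subgroup.pointwise_smul_le_pointwise_smul_iff.2 hBL hv)

end Cfsg.Agent.S0561
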