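import Cfsg.Statements.S0562
import Cfsg.Agent.Lib.Solv.Basic
import Mathlib.Tactic.Group

set_option autoImplicit false
open Cfsg

namespace Cfsg.Agent.S0562

open scoped Pointwise

/-- Let the finite group G be the product HK of subgroups, A normal in H, B normal in K, and L the normalizer of the subgroup generated by A and B. Then every element of L is a product of an element of L ∩ H and an element of L ∩ K. -/
theorem result {G : Type*} [Group G] [Finite G] (H K A B : Subgroup G) (hHK : ∀ g : G, ∃ h ∈ H, ∃ k ∈ K, g = h * k) (hA : A ≤ H) (hAn : (A.subgroupOf H).Normal) (hB : B ≤ K) (hBn : (B.subgroupOf K).Normal) : ∀ g ∈ Subgroup.normalizer ((A ⊔ B : Subgroup G) : Set G), ∃ h ∈ Subgroup.normalizer ((A ⊔ B : Subgroup G) : Set G) ⊓ H, ∃ k ∈ Subgroup.normalizer ((A ⊔ B : Subgroup G) : Set G) ⊓ K, g = h * k := by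
  intro g hg
  set J := A ⊔ B
  obtain ⟨h, hh, k, hk, rfl⟩ := hHK g
  have hAJ : ∀ a ∈ A, k⁻¹ * a * k ∈ J := by
    intro a ha
    have h1 : h * a * h⁻¹ ∈ A := hAn.conj_mem ⟨a, hA ha⟩ ha ⟨h, hh⟩
    have h2 : h * a * h⁻¹ ∈ J := Subgroup.mem_sup_left h1
    have h3 := (Subgroup.mem_normalizer_iff.1 (inv_mem hg) _).1 h2
    convert h3 using 1
    group
  have hBJ : ∀ b ∈ B, k⁻¹ * b * k ∈ J := by
    intro b hb
    have h1 : k⁻¹ * b * k ∈ B := by
      simpa [Subgroup.mem_subgroupOf] using hBn.conj_mem ⟨b, hB hb⟩ hb (⟨k, hk⟩⁻¹ : K)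
    exact Subgroup.mem_sup_right h1
  have hle : MulAut.conj k⁻¹ • J ≤ J := by
    intro x hx
    rw [Cfsg.Agent.Solv.mem_conj_smul, inv_inv] at hx
    have : J ≤ J.comap (MulAut.conj k⁻¹).toMonoidHom :=
      sup_le (fun a ha => by simpa using hAJ a ha) (fun b hb => by simpa using hBJ b hb)
    have := this hx
    simpa [mul_assoc] using this
  have heq : MulAut.conj k⁻¹ • J = J :=
    Subgroup.eq_of_le_of_card_ge hle (le_of_eq (Cfsg.Agent.Solv.card_conj_smul _ _).symm)
  have hkn : k ∈ Subgroup.normalizer (J : Set G) := by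
    simpa using inv_mem (Cfsg.Agent.Solv.mem_normalizer_of_conj_smul heq)
  have hhn : h ∈ Subgroup.normalizer (J : Set G) := by
    simpa using mul_mem hg (inv_mem hkn)
  exact ⟨h, ⟨hhn, hh⟩, k, ⟨hkn, hk⟩, rfl⟩

end Cfsg.Agent.S0562
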