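import Cfsg.Statements.S0566
import Cfsg.Agent.Lib.Solv.Basic
import Mathlib.Tactic.Group

set_option autoImplicit false
open Pointwise
open Cfsg

namespace Cfsg.Agent.S0566

open scoped Pointwise

variable {G : Type*} [Group G] [Finite G]

omit [Finite G] in
theorem perm_comm {A B S : Subgroup G} (h : (S : Set G) = (A : Set G) * (B : Set G)) :
    ∀ b ∈ B, ∀ a ∈ A, ∃ a' ∈ A, ∃ b' ∈ B, b * a = a' * b' := by
  intro b hb a ha
  have h1 : a⁻¹ * b⁻¹ ∈ S := by
    rw [← SetLike.mem_coe, h]; exact Set.mul_mem_mul (inv_mem ha) (inv_mem hb)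
  have h2 : b * a ∈ (S : Set G) := by simpa using inv_mem h1
  rw [h] at h2
  obtain ⟨a', ha', b', hb', e⟩ := h2
  exact ⟨a', ha', b', hb', e.symm⟩

omit [Finite G] in
theorem sup_perm {A A' B : Subgroup G}
    (h1 : ∀ b ∈ B, ∀ a ∈ A, ∃ a' ∈ A, ∃ b' ∈ B, b * a = a' * b')
    (h2 : ∀ b ∈ B, ∀ a ∈ A', ∃ a' ∈ A', ∃ b' ∈ B, b * a = a' * b') :
    ∀ b ∈ B, ∀ a ∈ A ⊔ A', ∃ a' ∈ A ⊔ A', ∃ b' ∈ B, b * a = a' * b' := by
  let P : G → Prop := fun a => ∀ b ∈ B, ∃ a' ∈ A ⊔ A', ∃ b' ∈ B, b * a = a' * b'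
  suffices h : ∀ a ∈ A ⊔ A', P a ∧ P a⁻¹ from fun b hb a ha => (h a ha).1 b hb
  intro a ha
  rw [Subgroup.sup_eq_closure] at ha
  induction ha using Subgroup.closure_induction with
  | mem y hy =>
    rcases hy with hy | hy
    · refine ⟨fun b hb => ?_, fun b hb => ?_⟩
      · obtain ⟨a', ha', r⟩ := h1 b hb y hy; exact ⟨a', Subgroup.mem_sup_left ha', r⟩
      · obtain ⟨a', ha', r⟩ := h1 b hb y⁻¹ (inv_mem hy); exact ⟨a', Subgroup.mem_sup_left ha', r⟩
    · refine ⟨fun b hb => ?_, fun b hb => ?_⟩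
      · obtain ⟨a', ha', r⟩ := h2 b hb y hy; exact ⟨a', Subgroup.mem_sup_right ha', r⟩
      · obtain ⟨a', ha', r⟩ := h2 b hb y⁻¹ (inv_mem hy); exact ⟨a', Subgroup.mem_sup_right ha', r⟩
  | one => exact ⟨fun b hb => ⟨1, one_mem _, b, hb, by simp⟩, fun b hb => ⟨1, one_mem _, b, hb, by simp⟩⟩
  | mul y z _ _ hy hz =>
    have key : ∀ y z : G, P y → P z → P (y * z) := by
      intro y z hy hz b hb
      obtain ⟨a1, ha1, b1, hb1, e1⟩ := hy b hb
      obtain ⟨a2, ha2, b2, hb2, e2⟩ := hz b1 hb1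
      exact ⟨a1 * a2, mul_mem ha1 ha2, b2, hb2, by rw [← mul_assoc, e1, mul_assoc, e2, mul_assoc]⟩
    exact ⟨key y z hy.1 hz.1, by rw [mul_inv_rev]; exact key _ _ hz.2 hy.2⟩
  | inv y _ hy => exact ⟨hy.2, by rw [inv_inv]; exact hy.1⟩

omit [Finite G] in
theorem exists_subgroup_of_perm {A B : Subgroup G}
    (h : ∀ b ∈ B, ∀ a ∈ A, ∃ a' ∈ A, ∃ b' ∈ B, b * a = a' * b') :
    ∃ S : Subgroup G, (S : Set G) = (A : Set G) * (B : Set G) :=
  ⟨{ carrier := (A : Set G) * (B : Set G)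
     one_mem' := ⟨1, A.one_mem, 1, B.one_mem, mul_one 1⟩
     mul_mem' := by
      rintro _ _ ⟨a, ha, b, hb, rfl⟩ ⟨c, hc, d, hd, rfl⟩
      obtain ⟨a', ha', b', hb', e⟩ := h b hb c hc
      exact ⟨a * a', A.mul_mem ha ha', b' * d, B.mul_mem hb' hd, by
        rw [show a * b * (c * d) = a * (b * c) * d by group, e]; group⟩
     inv_mem' := by
      rintro _ ⟨a, ha, b, hb, rfl⟩
      obtain ⟨a', ha', b', hb', e⟩ := h b⁻¹ (B.inv_mem hb) a⁻¹ (A.inv_mem ha)
      exact ⟨a', ha', b', hb', by rw [mul_inv_rev, e]⟩ }, rfl⟩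

/-- `A` and `B` permute, and all the products are proper. -/
def Pair (A B : Subgroup G) : Prop :=
  ∀ x : G, ∃ S : Subgroup G, S ≠ ⊤ ∧ (S : Set G) = (A : Set G) * ((MulAut.conj x • B : Subgroup G) : Set G)

theorem Pair.symm {A B : Subgroup G} (h : Pair A B) : Pair B A := by
  intro x
  obtain ⟨S, hS, e⟩ := h x⁻¹
  refine ⟨MulAut.conj x • S, fun h => hS ?_, ?_⟩
  · rw [← inv_smul_smul (MulAut.conj x) S, h, ← map_inv, Subgroup.Normal.conj_smul_eq_self]
  · ext y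
    rw [SetLike.mem_coe, Cfsg.Agent.Solv.mem_conj_smul]
    constructor
    · intro hy
      have hy' : (x⁻¹ * y * x)⁻¹ ∈ (S : Set G) := S.inv_mem hy
      rw [e] at hy'
      obtain ⟨a, ha, b, hb, hab⟩ := hy'
      rw [SetLike.mem_coe, Cfsg.Agent.Solv.mem_conj_smul, inv_inv] at hb
      refine ⟨(x * b * x⁻¹)⁻¹, B.inv_mem hb, (x * a * x⁻¹)⁻¹, ?_, ?_⟩
      · rw [SetLike.mem_coe, Cfsg.Agent.Solv.mem_conj_smul]; simpa [mul_assoc] using ha
      · show _ * _ = y
        rw [← mul_inv_rev, show x * a * x⁻¹ * (x * b * x⁻¹) = x * (a * b) * x⁻¹ by group,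
          show a * b = (x⁻¹ * y * x)⁻¹ from hab]
        group
    · rintro ⟨b, hb, a, ha, rfl⟩
      rw [SetLike.mem_coe, Cfsg.Agent.Solv.mem_conj_smul] at ha
      rw [← SetLike.mem_coe] at *
      have : (x⁻¹ * a * x)⁻¹ * (x⁻¹ * b * x)⁻¹ ∈ (S : Set G) := by
        rw [e]
        refine Set.mul_mem_mul (A.inv_mem ha) ?_
        rw [SetLike.mem_coe, Cfsg.Agent.Solv.mem_conj_smul]
        simpa [mul_assoc] using hb
      have := S.inv_mem this
      simpa [mul_assoc] using this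

theorem Pair.conj_eq {A B : Subgroup G} (h : Pair A B) (hmax : ∀ A' : Subgroup G, A < A' → ¬ Pair A' B)
    {x y : G} (hy : y ∈ MulAut.conj x • B) : MulAut.conj y • A = A := by
  by_contra hne
  have hlt : A < A ⊔ MulAut.conj y • A := by
    refine lt_of_le_of_ne le_sup_left fun e => hne ?_
    exact Subgroup.eq_of_le_of_card_ge (le_sup_right.trans e.ge) (Cfsg.Agent.Solv.card_conj_smul y A).ge
  refine hmax _ hlt ?_
  have hp : ∀ z : G, ∀ b ∈ MulAut.conj z • B, ∀ a ∈ A ⊔ MulAut.conj y • A,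
      ∃ a' ∈ A ⊔ MulAut.conj y • A, ∃ b' ∈ MulAut.conj z • B, b * a = a' * b' := by
    intro z
    obtain ⟨S, -, e⟩ := h z
    obtain ⟨S', -, e'⟩ := h (y⁻¹ * z)
    refine sup_perm (perm_comm e) fun b hb a ha => ?_
    rw [Cfsg.Agent.Solv.mem_conj_smul] at ha
    obtain ⟨a', ha', b', hb', h3⟩ := perm_comm e' (y⁻¹ * b * y)
      (by rw [Cfsg.Agent.Solv.mem_conj_smul] at hb ⊢; simpa [mul_assoc] using hb) _ ha
    refine ⟨y * a' * y⁻¹, by rw [Cfsg.Agent.Solv.mem_conj_smul]; simpa [mul_assoc] using ha',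
      y * b' * y⁻¹, by rw [Cfsg.Agent.Solv.mem_conj_smul] at hb' ⊢; simpa [mul_assoc] using hb', ?_⟩
    calc b * a = y * ((y⁻¹ * b * y) * (y⁻¹ * a * y)) * y⁻¹ := by group
      _ = _ := by rw [h3]; group
  intro z
  obtain ⟨T, hT⟩ := exists_subgroup_of_perm (hp z)
  refine ⟨T, fun htop => ?_, hT⟩
  -- then the product with every conjugate is everything, contradicting the product with the `x`-conjugate
  obtain ⟨S, hS, e⟩ := h x
  have hAS : A ≤ S := fun a ha => by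
    rw [← SetLike.mem_coe, e]; exact ⟨a, ha, 1, one_mem _, mul_one a⟩
  have hBS : MulAut.conj x • B ≤ S := fun b hb => by
    rw [← SetLike.mem_coe, e]; exact ⟨1, A.one_mem, b, hb, one_mul b⟩
  have hJS : A ⊔ MulAut.conj y • A ≤ S := sup_le hAS (by
    rw [← Subgroup.conj_smul_eq_self_of_mem (hBS hy)]
    exact Subgroup.pointwise_smul_le_pointwise_smul_iff.2 hAS)
  apply hS
  rw [eq_top_iff]
  intro g _
  have hu : x * z⁻¹ ∈ (T : Set G) := by rw [htop]; trivial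
  rw [hT] at hu
  obtain ⟨j, hj, b, hb, ejb⟩ := hu
  have hxB : MulAut.conj x • B = MulAut.conj j • (MulAut.conj z • B) := by
    have ejb' : j * b = x * z⁻¹ := ejb
    calc MulAut.conj x • B = MulAut.conj (j * b * z) • B := by rw [ejb', inv_mul_cancel_right]
      _ = MulAut.conj j • (MulAut.conj b • (MulAut.conj z • B)) := by
          rw [Cfsg.Agent.Solv.conj_smul_conj, Cfsg.Agent.Solv.conj_smul_conj]
      _ = _ := by rw [Subgroup.conj_smul_eq_self_of_mem hb]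
  have hg : j⁻¹ * g * j ∈ (T : Set G) := by rw [htop]; trivial
  rw [hT] at hg
  obtain ⟨j', hj', b', hb', e'⟩ := hg
  have e'' : j' * b' = j⁻¹ * g * j := e'
  rw [show g = (j * j' * j⁻¹) * (j * b' * j⁻¹) by
    rw [show j * j' * j⁻¹ * (j * b' * j⁻¹) = j * (j' * b') * j⁻¹ by group, e'']; group]
  refine S.mul_mem (hJS (mul_mem (mul_mem hj hj') (inv_mem hj))) (hBS ?_)
  rw [hxB, Cfsg.Agent.Solv.mem_conj_smul]
  rw [SetLike.mem_coe] at hb'
  simpa [mul_assoc] using hb'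

theorem aux : ∀ (n : ℕ) (A B : Subgroup G), 2 * Nat.card G - (Nat.card A + Nat.card B) = n → Pair A B →
    ∃ N : Subgroup G, N.Normal ∧ N ≠ ⊤ ∧ (A ≤ N ∨ B ≤ N) := by
  intro n
  induction n using Nat.strong_induction_on with
  | _ n ih =>
    intro A B hn h
    subst hn
    have hub : ∀ X : Subgroup G, Nat.card X ≤ Nat.card G := fun X => Subgroup.card_le_card_group X
    by_cases h1 : ∃ A' : Subgroup G, A < A' ∧ Pair A' B
    · obtain ⟨A', hlt, hA'⟩ := h1
      obtain ⟨N, hN, hne, hor⟩ := ih _ (by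
        have := Cfsg.Agent.Solv.card_lt_of_lt hlt
        have := hub A'; have := hub B
        omega) A' B rfl hA'
      exact ⟨N, hN, hne, hor.imp_left hlt.le.trans⟩
    by_cases h2 : ∃ B' : Subgroup G, B < B' ∧ Pair B' A
    · obtain ⟨B', hlt, hB'⟩ := h2
      obtain ⟨N, hN, hne, hor⟩ := ih _ (by
        have := Cfsg.Agent.Solv.card_lt_of_lt hlt
        have := hub A; have := hub B'
        omega) A B' rfl hB'.symm
      exact ⟨N, hN, hne, hor.imp_right hlt.le.trans⟩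
    push Not at h1 h2
    set N := Subgroup.normalClosure (B : Set G)
    by_cases hN : N = ⊤
    · have hle : N ≤ Subgroup.normalizer (A : Set G) := by
        refine (Subgroup.closure_le _).2 fun z hz => ?_
        obtain ⟨b, hb, hc⟩ := Group.mem_conjugatesOfSet_iff.1 hz
        obtain ⟨g, rfl⟩ := isConj_iff.1 hc
        refine Cfsg.Agent.Solv.mem_normalizer_of_conj_smul (h.conj_eq h1 (x := g) ?_)
        rw [Cfsg.Agent.Solv.mem_conj_smul]
        simpa [mul_assoc] using hb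
      rw [hN, top_le_iff, Subgroup.normalizer_eq_top_iff] at hle
      refine ⟨A, hle, fun hA => ?_, Or.inl le_rfl⟩
      obtain ⟨S, hS, e⟩ := h 1
      refine hS (eq_top_iff.2 fun g _ => ?_)
      rw [← SetLike.mem_coe, e]
      exact ⟨g, by rw [hA]; trivial, 1, one_mem _, mul_one g⟩
    · exact ⟨N, inferInstance, hN, Or.inr Subgroup.le_normalClosure⟩

/-- Let A and B be nontrivial subgroups of a finite group G such that for every x the product set of A and xBx⁻¹ is a proper subgroup of G. Then there is a proper normal subgroup of G containing A or containing B. -/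
theorem result {G : Type*} [Group G] [Finite G] (A B : Subgroup G) (hA : A ≠ ⊥) (hB : B ≠ ⊥) (h : ∀ x : G, ∃ S : Subgroup G, S ≠ ⊤ ∧ (S : Set G) = (A : Set G) * ((MulAut.conj x • B : Subgroup G) : Set G)) : ∃ N : Subgroup G, N.Normal ∧ N ≠ ⊤ ∧ (A ≤ N ∨ B ≤ N) := by
  refine aux _ A B rfl fun x => ?_
  obtain ⟨S, hS, hSe⟩ := h x
  exact ⟨S, hS, hSe⟩

end Cfsg.Agent.S0566
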