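import Cfsg.Statements.S5361
import Cfsg.Agent.Lib.Spor.ThreeConnected

set_option autoImplicit false
open Cfsg

namespace Cfsg.Agent.S5361

theorem isSimpleGroup_qs {G : Type*} [Group G] [Finite G] {L : Subgroup G} [hLn : L.Normal]
    (hL : Cfsg.IsQuasisimple L) (hFit : Cfsg.fittingSubgroup G = ⊥) : IsSimpleGroup L := by
  haveI hn : ((Subgroup.center L).map L.subtype).Normal := ConjAct.normal_of_characteristic_of_normal
  have hle : (Subgroup.center L).map L.subtype ≤ Cfsg.fittingSubgroup G := by
    letI : CommGroup ↥((Subgroup.center L).map L.subtype) :=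
      { (inferInstance : Group ↥((Subgroup.center L).map L.subtype)) with
        mul_comm := by
          rintro ⟨_, x, hx, rfl⟩ ⟨_, y, -, rfl⟩
          exact Subtype.ext (congrArg L.subtype (Subgroup.mem_center_iff.1 hx y).symm) }
    exact Solv.normal_le_fitting inferInstance
  rw [hFit, le_bot_iff, Subgroup.map_eq_bot_iff_of_injective _ L.subtype_injective] at hle
  haveI := hL.2
  haveI : Nontrivial L := Solv.qs_nontrivial hL
  refine ⟨fun N hN => ?_⟩
  rcases Solv.qs_normal_le_center_or_top (H := L) hL N with h | h
  · exact Or.inr h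
  · exact Or.inl (le_bot_iff.1 (hle ▸ h))

/-- Let D be a conjugacy class of 3-transpositions generating the finite group G, and suppose the centre of G is trivial and some two different members of D commute. Then the following are equivalent: (1) the commutator subgroup of G is simple (possibly of prime order); (2) G acts primitively on D by conjugation; (3) the largest normal 2-subgroup and the largest normal 3-subgroup of G are trivial and the commuting graph of D is connected. -/
theorem result {G : Type*} [Group G] [Finite G] {D : Set G} (hD : Cfsg.IsThreeTranspositionClass D) (hZ : Subgroup.center G = ⊥) (hw : ∃ a ∈ D, ∃ b ∈ D, a ≠ b ∧ Commute a b) : (IsSimpleGroup (commutator G) ↔ Cfsg.IsPrimitiveUnderConj D) ∧ (Cfsg.IsPrimitiveUnderConj D ↔ (Cfsg.pCore 2 G = ⊥ ∧ Cfsg.pCore 3 G = ⊥ ∧ (Cfsg.commutingGraph D).Connected)) := by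
  have hG := Spor.class_isGroup hD
  obtain ⟨a, ha, b, hb, hne, hab⟩ := hw
  have hD2 : ∃ a ∈ D, ∃ b ∈ D, a ≠ b := ⟨a, ha, b, hb, hne⟩
  have h23 : Cfsg.IsPrimitiveUnderConj D →
      Cfsg.pCore 2 G = ⊥ ∧ Cfsg.pCore 3 G = ⊥ ∧ (Cfsg.commutingGraph D).Connected := fun hp => by
    obtain ⟨h2, h3⟩ := Spor.cores_central_of_primitive hG hp ⟨a, ha, b, hb, hne, hab⟩
    rw [hZ, le_bot_iff] at h2 h3
    exact ⟨h2, h3, Spor.connected_of_primitive hG hp ⟨a, ha, b, hb, hne, hab⟩⟩
  have hbot : ∀ {p : ℕ}, Cfsg.pCore p G = ⊥ → Cfsg.pCore p G ≤ Subgroup.center G := fun h =>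
    h.le.trans bot_le
  have h32 : (Cfsg.pCore 2 G = ⊥ ∧ Cfsg.pCore 3 G = ⊥ ∧ (Cfsg.commutingGraph D).Connected) →
      Cfsg.IsPrimitiveUnderConj D := by
    rintro ⟨h2, h3, hc⟩
    obtain ⟨L, hLn, hL, hF⟩ := Spor.exists_qs hD hD2 (hbot h2) (hbot h3)
    exact Spor.primitive_of_index hD hD2 (hbot h2) (hbot h3) hL hF (Spor.index_le_of_connected hD hL hc)
  have hcomm_le : ∀ L : Subgroup G, Cfsg.IsQuasisimple L → L ≤ commutator G := fun L hL => by
    rw [← Solv.qs_self_commutator hL, commutator_def]
    exact Subgroup.commutator_mono le_top le_top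
  refine ⟨⟨fun hs => ?_, fun hp => ?_⟩, h23, h32⟩
  · -- simple derived group
    have hcore : ∀ p : ℕ, p.Prime → Cfsg.pCore p G = ⊥ := fun p hp => by
      haveI := Fact.mk hp
      haveI := Solv.pCore_normal (G := G) p
      rcases hs.eq_bot_or_eq_top_of_normal _ (inferInstance :
          ((Cfsg.pCore p G).subgroupOf (commutator G)).Normal) with h | h
      · rw [Subgroup.subgroupOf_eq_bot] at h
        refine le_bot_iff.1 (hZ ▸ fun g hg => Subgroup.mem_center_iff.2 fun x => ?_)
        have hmem : g * x * g⁻¹ * x⁻¹ ∈ Cfsg.pCore p G ⊓ commutator G := by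
          refine ⟨?_, ?_⟩
          · rw [SetLike.mem_coe, mul_assoc, mul_assoc, ← mul_assoc x]
            exact mul_mem hg ((Solv.pCore_normal p).conj_mem _ (inv_mem hg) x)
          · rw [SetLike.mem_coe, commutator_def]
            exact Subgroup.commutator_mem_commutator (Subgroup.mem_top g) (Subgroup.mem_top x)
        rw [h.eq_bot, Subgroup.mem_bot] at hmem
        exact (eq_mul_of_mul_inv_eq (mul_inv_eq_one.1 hmem)).symm
      · rw [Subgroup.subgroupOf_eq_top] at h
        exfalso
        have hsol : Group.IsSolvable (commutator G) :=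
          Spor.pgroup_solvable ((Solv.pCore_isPGroup (G := G) p).to_le h)
        haveI := hs
        haveI := hsol
        have hcyc : Nat.card (commutator G) |>.Prime := by
          letI : CommGroup (commutator G) :=
            { (inferInstance : Group (commutator G)) with
              mul_comm := IsSimpleGroup.comm_iff_isSolvable.2 hsol }
          exact IsSimpleGroup.prime_card
        have habm : a * b ∈ commutator G := by
          obtain ⟨g, rfl⟩ := Spor.class_conj hD ha hb
          rw [commutator_def]
          have := Subgroup.commutator_mem_commutator (Subgroup.mem_top a) (Subgroup.mem_top g)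
          rw [commutatorElement_def, Spor.inv_of_order_two (hD.1.1 a ha)] at this
          rw [show a * (g * a * g⁻¹) = a * g * a * g⁻¹ by group]
          exact this
        set t : commutator G := ⟨a * b, habm⟩ with ht
        have h2 : orderOf t = 2 := by
          rw [← Subgroup.orderOf_coe, ht]
          refine orderOf_eq_prime ?_ fun e => hne ?_
          · rw [sq, hab.symm.mul_mul_mul_comm, Spor.mul_self_of_order_two (hD.1.1 a ha),
              Spor.mul_self_of_order_two (hD.1.1 b hb), one_mul]
          · rw [mul_eq_one_iff_eq_inv, Spor.inv_of_order_two (hD.1.1 b hb)] at e; exact e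
        have hcard : Nat.card (commutator G) = 2 :=
          ((Nat.prime_dvd_prime_iff_eq Nat.prime_two hcyc).1 (h2 ▸ orderOf_dvd_natCard t)).symm
        have hcen : a * b ∈ Subgroup.center G := Subgroup.mem_center_iff.2 fun g => by
          have hu : g * (a * b) * g⁻¹ ∈ commutator G := Subgroup.Normal.conj_mem inferInstance _ habm g
          have ht1 : t ≠ 1 := fun e => by rw [e, orderOf_one] at h2; omega
          obtain ⟨p, q, -, hpq⟩ := Nat.card_eq_two_iff.1 hcard
          have hu1 : (⟨_, hu⟩ : commutator G) ≠ 1 := fun e => ht1 (Subtype.ext (by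
            simpa [ht, mul_inv_eq_one, mul_eq_left] using congrArg Subtype.val e))
          have e : (⟨_, hu⟩ : commutator G) = t := by
            have mem : ∀ z : commutator G, z = p ∨ z = q := fun z => by
              have : z ∈ ({p, q} : Set _) := hpq ▸ Set.mem_univ z
              simpa using this
            rcases mem 1 with h1 | h1 <;> rcases mem t with h3 | h3 <;>
              rcases mem ⟨_, hu⟩ with h4 | h4
            all_goals first
              | exact h4.trans h3.symm
              | exact absurd (h3.trans h1.symm) ht1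
              | exact absurd (h4.trans h1.symm) hu1
          exact mul_inv_eq_iff_eq_mul.1 (congrArg Subtype.val e)
        rw [hZ, Subgroup.mem_bot, mul_eq_one_iff_eq_inv, Spor.inv_of_order_two (hD.1.1 b hb)] at hcen
        exact hne hcen
    have h2 := hbot (hcore 2 Nat.prime_two)
    have h3 := hbot (hcore 3 Nat.prime_three)
    obtain ⟨L, hLn, hL, hF⟩ := Spor.exists_qs hD hD2 h2 h3
    refine Spor.primitive_of_index hD hD2 h2 h3 hL hF ?_
    have heq : commutator G = L := by
      refine le_antisymm ?_ (hcomm_le L hL)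
      rcases hs.eq_bot_or_eq_top_of_normal _ (inferInstance : (L.subgroupOf (commutator G)).Normal) with h | h
      · rw [Subgroup.subgroupOf_eq_bot] at h
        exact absurd (h.eq_bot_of_le (hcomm_le L hL)) (Solv.qs_ne_bot hL)
      · exact Subgroup.subgroupOf_eq_top.1 h
    have htop : Subgroup.zpowers a ⊔ L = ⊤ := by
      rw [eq_top_iff, ← hG.2.2, Subgroup.closure_le]
      intro e he
      obtain ⟨g, rfl⟩ := Spor.class_conj hD ha he
      rw [SetLike.mem_coe, show g * a * g⁻¹ = g * a * g⁻¹ * a⁻¹ * a by group]
      refine mul_mem (Subgroup.mem_sup_right ?_) (Subgroup.mem_sup_left (Subgroup.mem_zpowers a))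
      rw [← heq, commutator_def]
      exact Subgroup.commutator_mem_commutator (Subgroup.mem_top g) (Subgroup.mem_top a)
    have h1 : L.index = L.relIndex (Subgroup.zpowers a) := by
      rw [← Subgroup.relIndex_sup_right, htop, Subgroup.relIndex_top_right]
    rw [h1]
    exact (Nat.le_of_dvd (Nat.card_pos) (Subgroup.relIndex_dvd_card ..)).trans
      (le_of_eq ((Nat.card_zpowers a).trans (hD.1.1 a ha)))
  · obtain ⟨h2, h3, hc⟩ := h23 hp
    obtain ⟨L, hLn, hL, hF⟩ := Spor.exists_qs hD hD2 (hbot h2) (hbot h3)
    have hidx := Spor.index_le_of_connected hD hL hc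
    haveI := hLn
    have heq : commutator G = L := by
      refine le_antisymm ?_ (hcomm_le L hL)
      refine Subgroup.Normal.quotient_commutative_iff_commutator_le.1 ⟨⟨fun x y => ?_⟩⟩
      have hc' : Nat.card (G ⧸ L) ≤ 2 := by rwa [← Subgroup.index_eq_card]
      by_contra hxy
      have h1 : x ≠ 1 := by rintro rfl; simp at hxy
      have h1' : y ≠ 1 := by rintro rfl; simp at hxy
      have h1'' : x ≠ y := by rintro rfl; exact hxy rfl
      have : ({1, x, y} : Set (G ⧸ L)).ncard = 3 :=
        Set.ncard_eq_three.2 ⟨1, x, y, h1.symm, h1'.symm, h1'', rfl⟩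
      have h4 : ({1, x, y} : Set (G ⧸ L)).ncard ≤ Nat.card (G ⧸ L) := Set.ncard_le_card _
      omega
    rw [heq]
    refine isSimpleGroup_qs hL (le_bot_iff.1 ?_)
    rw [← hZ]
    exact Spor.fitting_le_center hG (hbot h2) (hbot h3)

end Cfsg.Agent.S5361
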