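import Cfsg.Statements.S2098
import Cfsg.Agent.Lib.Lie.OEightTwoMult.Main
import Cfsg.Agent.Lib.Lie.OEightTwoMult.Points
import Cfsg.Agent.S0293
import Cfsg.Agent.S0296

set_option autoImplicit false
open Cfsg

namespace Cfsg.Agent.S2098

/-- Exceptional Schur multiplier: over the field with 2 elements, PΩ⁺₈ (for the form Σ xᵢyᵢ) has Schur multiplier a four-group, the product of two cyclic groups of order 2 (here the Schur multiplier is described through stem extensions, as in the definitions). -/
theorem result {F : Type*} [Field F] [Fintype F] (hF : Fintype.card F = 2) : Cfsg.HasSchurMultiplier (Cfsg.POmega F (Cfsg.quadFormPlus 4 F)) (Multiplicative (ZMod 2 × ZMod 2)) := by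
  have hcard : Nat.card (Cfsg.POmega F (Cfsg.quadFormPlus 4 F)) = 174182400 := by
    have h := Cfsg.Agent.S0293.result hF 4 le_rfl
    norm_num [Finset.prod_range_succ] at h
    exact h
  haveI : Finite (Cfsg.POmega F (Cfsg.quadFormPlus 4 F)) := Nat.finite_of_card_ne_zero (by rw [hcard]; norm_num)
  obtain ⟨φ, hφ⟩ := Cfsg.Agent.Lie.OEightTwoMult.exists_action hF
  refine Cfsg.Agent.Lie.OEightTwoMult.multiplier φ hφ hcard ?_
  haveI := Cfsg.Agent.S0296.result (F := F) 4 le_rfl
  rcases (inferInstance : (commutator (Cfsg.POmega F (Cfsg.quadFormPlus 4 F))).Normal).eq_bot_or_eq_top with h | h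
  · exfalso
    letI : CommGroup (Cfsg.POmega F (Cfsg.quadFormPlus 4 F)) :=
      { (inferInstance : Group (Cfsg.POmega F (Cfsg.quadFormPlus 4 F))) with
        mul_comm := fun a b => commutatorElement_eq_one_iff_mul_comm.1 (Subgroup.mem_bot.1 (h ▸ by
          rw [commutator_def]; exact Subgroup.commutator_mem_commutator (Subgroup.mem_top a) (Subgroup.mem_top b))) }
    have hp : (Nat.card (Cfsg.POmega F (Cfsg.quadFormPlus 4 F))).Prime := IsSimpleGroup.prime_card
    rw [hcard] at hp
    norm_num at hp
  · exact h

end Cfsg.Agent.S2098
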