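import Cfsg.Statements.S0414
import Cfsg.Agent.Lib.Spor.SteinerUnique

set_option autoImplicit false
open Cfsg
open scoped Pointwise

namespace Cfsg.Agent.S0414

/-- Aut of an S(3, 6, 22) has order 887040, is 3-transitive, and contains a simple subgroup of index 2. -/
theorem result {α : Type*} [Fintype α] [DecidableEq α] (hα : Fintype.card α = 22) {B : Set (Finset α)} (hB : Cfsg.IsSteinerSystem 3 6 B) : Nat.card (Cfsg.setSystemAut B) = 887040 ∧ MulAction.IsMultiplyPretransitive (Cfsg.setSystemAut B) α 3 ∧ ∃ H : Subgroup (Cfsg.setSystemAut B), H.index = 2 ∧ Cfsg.IsM22 H := by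
  classical
  obtain ⟨F, rfl⟩ := Cfsg.Agent.Spor.Steiner.exists_finset B
  have h : Cfsg.Agent.Spor.Code24.Sys 2 F := ⟨by norm_num, by omega, hB⟩
  set p : Cfsg.GolayPt := none
  set q : Cfsg.GolayPt := some 0
  have hpq : p ≠ q := fun e => Option.some_ne_none _ e.symm
  let x : Fin 2 ↪ Cfsg.GolayPt := ⟨![p, q], fun i j hij => by
    fin_cases i <;> fin_cases j <;> first | rfl | (exfalso; first | exact hpq hij | exact hpq hij.symm)⟩
  obtain ⟨g, -, -, Φ, -⟩ := h.aut_equiv x
  set S := MulAction.stabilizer Cfsg.M24 (Finset.univ.image x) with hS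
  set S2 := MulAction.stabilizer Cfsg.M24 p ⊓ MulAction.stabilizer Cfsg.M24 q with hS2
  have hP : Finset.univ.image x = {p, q} := rfl
  have hle : S2 ≤ S := by
    intro σ hσ
    rw [hS, MulAction.mem_stabilizer_iff, hP, Finset.smul_finset_insert, Finset.smul_finset_singleton,
      MulAction.mem_stabilizer_iff.1 hσ.1, MulAction.mem_stabilizer_iff.1 hσ.2]
  -- the pairs form one orbit
  have horb : MulAction.orbit Cfsg.M24 (Finset.univ.image x) = {s : Finset Cfsg.GolayPt | s.card = 2} := by
    ext s
    constructor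
    · rintro ⟨σ, rfl⟩
      show (σ • Finset.univ.image x).card = 2
      rw [Finset.card_smul_finset, Finset.card_image_of_injective _ x.injective]
      rfl
    · intro hs
      obtain ⟨a, b, hab, rfl⟩ := Finset.card_eq_two.1 hs
      let y : Fin 2 ↪ Cfsg.GolayPt := ⟨![a, b], fun i j hij => by
        fin_cases i <;> fin_cases j <;> first | rfl | (exfalso; first | exact hab hij | exact hab hij.symm)⟩
      obtain ⟨σ, hσ, hxy⟩ := Cfsg.Agent.Spor.M24_trans (k := 2) (by norm_num) x y
      refine ⟨⟨σ, hσ⟩, ?_⟩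
      show σ • Finset.univ.image x = {a, b}
      rw [hP, Finset.smul_finset_insert, Finset.smul_finset_singleton]
      exact congrArg₂ (fun u v => ({u, v} : Finset Cfsg.GolayPt)) (hxy 0) (hxy 1)
  have hcardS : Nat.card S = 887040 := by
    have e := Subgroup.card_mul_index S
    have hn : {s : Finset Cfsg.GolayPt | s.card = 2}.ncard = 276 := by
      rw [show {s : Finset Cfsg.GolayPt | s.card = 2} = ((Finset.univ : Finset Cfsg.GolayPt).powersetCard 2 : Set (Finset Cfsg.GolayPt)) from by
        ext s; simp [Finset.mem_powersetCard], Set.ncard_coe_finset, Finset.card_powersetCard, Finset.card_univ,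
        show Fintype.card Cfsg.GolayPt = 24 from rfl]
      decide
    rw [hS, MulAction.index_stabilizer, horb, hn, Cfsg.Agent.Spor.card_M24, ← hS] at e
    omega
  have hc : Nat.card (Cfsg.setSystemAut (F : Set (Finset α))) = 887040 :=
    (Nat.card_congr Φ.toEquiv).symm.trans hcardS
  refine ⟨hc, h.aut_trans, (S2.subgroupOf S).map Φ.toMonoidHom, ?_, ?_⟩
  · have e := Subgroup.card_mul_index ((S2.subgroupOf S).map Φ.toMonoidHom)
    rw [hc, Nat.card_congr ((S2.subgroupOf S).equivMapOfInjective _ Φ.injective).toEquiv.symm,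
      Nat.card_congr (Subgroup.subgroupOfEquivOfLe hle).toEquiv, hS2, Cfsg.Agent.Spor.card_stabilizer_two hpq] at e
    rw [← hS2] at e
    omega
  · have e : ((S2.subgroupOf S).map Φ.toMonoidHom) ≃* S2 :=
      ((S2.subgroupOf S).equivMapOfInjective _ Φ.injective).symm.trans (Subgroup.subgroupOfEquivOfLe hle)
    haveI : IsSimpleGroup S2 := Cfsg.Agent.Spor.simple_stabilizer_two hpq
    exact ⟨e.isSimpleGroup, (Nat.card_congr e.toEquiv).trans (Cfsg.Agent.Spor.card_stabilizer_two hpq)⟩


end Cfsg.Agent.S0414
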