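import Cfsg.Statements.S1664
import Cfsg.Agent.Lib.Spor.MTwentyThreeOrder.FromTable
import Cfsg.Agent.Lib.Spor.MTwentyThreeOrder.Final

set_option autoImplicit false
open Cfsg

namespace Cfsg.Agent.S1664

/-- The Mathieu group of degree 23 is determined by its order: a finite simple group of order 10200960 is isomorphic to the concrete M₂₃ (a point stabiliser in the group of the length-24 Golay code). -/
theorem result {G : Type*} [Group G] [Finite G] (hG : Cfsg.IsM23 G) : Cfsg.Spor.IsoM23 G := by
  obtain ⟨hs, hc⟩ := hG
  haveI := Fintype.ofFinite G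
  haveI := hs
  obtain ⟨T⟩ := Cfsg.Agent.MTwentyThree.ByOrder.exists_table (G := G) hc
  obtain ⟨K⟩ := Cfsg.Agent.MTwentyThree.ByOrder.Table.exists_cols T
  exact K.isoM23

end Cfsg.Agent.S1664
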