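import Cfsg.Statements.S1663
import Cfsg.Agent.Lib.Spor.MTwentyTwoOrder.Iso
-- import your own Cfsg.Agent.* helpers here

set_option autoImplicit false
open Cfsg

namespace Cfsg.Agent.S1663

/-- The Mathieu group of degree 22 is determined by its order: a finite simple group of order 443520 is isomorphic to the concrete M₂₂ (a two-point stabiliser in the group of the length-24 Golay code). -/
theorem result {G : Type*} [Group G] [Finite G] (hG : Cfsg.IsM22 G) : Cfsg.Spor.IsoM22 G := by
  haveI := Fintype.ofFinite G
  haveI : IsSimpleGroup G := hG.1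
  exact Cfsg.Agent.MTwentyTwo.ByOrder.iso_of_cls (H := Cfsg.Agent.MTwentyTwo.ByOrder.exists_cls hG.2)

end Cfsg.Agent.S1663
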