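import Cfsg.Statements.S0075
import Cfsg.Agent.Lib.Fusion.NPC
import Cfsg.Agent.Lib.Fusion.BurnsideFusion

set_option autoImplicit false
open Cfsg
open Cfsg.Agent.Fusion
open scoped commutatorElement

namespace Cfsg.Agent.S0075

/-- For an abelian Sylow p-subgroup T, its intersection with the subgroup generated by the elements of order prime to p is the commutator of T with its normalizer. -/
theorem result {G : Type*} [Group G] [Finite G] {p : ℕ} [Fact p.Prime] (T : Sylow p G) (hT : IsMulCommutative T) : (T : Subgroup G) ⊓ Cfsg.pResidual p G = ⁅(T : Subgroup G), Subgroup.normalizer (T : Set G)⁆ := by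
  have hab : (T : Subgroup G) ≤ Subgroup.centralizer (T : Set G) :=
    Subgroup.le_centralizer_iff_isMulCommutative.2 hT
  set N := Subgroup.normalizer (T : Set G)
  have hTN : (T : Subgroup G) ≤ N := Subgroup.le_normalizer
  obtain ⟨T', hT'⟩ := ((sylIn_top T).mono hTN le_top).exists_sylow_subgroupOf
  refine le_antisymm ?_ (le_inf (Subgroup.le_normalizer_iff_commutator_le_left.1 le_rfl) ?_)
  · set R := Cfsg.pResidual p G with hR
    have hQ : SylIn p ((T : Subgroup G) ⊓ R) R := (sylIn_top T).inf_normal le_top (by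
      rw [Subgroup.normalizer_eq_top])
    obtain ⟨Q, hQ'⟩ := hQ.exists_sylow_subgroupOf
    have h1 : (T : Subgroup G) ⊓ R ≤ ⁅R, R⁆ := by
      by_contra hnle
      obtain ⟨M, hM, hMi⟩ := exists_normal_index_prime (G := R) (sylIn_top Q) (fun hle => hnle (by
        have := Subgroup.map_mono (f := R.subtype) hle
        rwa [hQ', Subgroup.map_subgroupOf_eq_of_le inf_le_right,
          Subgroup.map_subtype_commutator] at this))
      have h2 : Cfsg.pResidual p R ≤ M := pResidual_le_of_isPGroup_quotient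
        (IsPGroup.of_card (n := 1) (by rw [← Subgroup.index_eq_card, hMi, pow_one]))
      rw [pResidual_subtype_of_eq hR, top_le_iff] at h2
      rw [h2, Subgroup.index_top] at hMi
      exact (Fact.out : p.Prime).one_lt.ne hMi
    calc (T : Subgroup G) ⊓ R = ((T : Subgroup G) ⊓ R) ⊓ ⁅R, R⁆ := (inf_eq_left.2 h1).symm
      _ = focalIn ((T : Subgroup G) ⊓ R) R := inf_commutator_eq_focalIn hQ
      _ ≤ ⁅(T : Subgroup G), N⁆ := by
        refine (Subgroup.closure_le _).2 ?_
        rintro _ ⟨x, hx, g, -, hxg, rfl⟩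
        obtain ⟨n, hn, he⟩ := fusion_of_abelian (sylIn_top T) hab hx.1 hxg.1
        rw [← he]
        have := Subgroup.commutator_mem_commutator (inv_mem hx.1) hn
        simpa [commutatorElement_def, mul_assoc] using this
  · rw [Subgroup.commutator_le]
    intro t ht n hn
    have h3 : (⟨n, hn⟩ : N) ∈ Cfsg.pResidual p N ⊔ (T' : Subgroup N) := by
      rw [pResidual_sup_sylow]; trivial
    obtain ⟨a, ha, b, hb, he⟩ := Subgroup.mem_sup_of_normal_left.1 h3
    rw [hT'] at hb
    have haR : (a : G) ∈ Cfsg.pResidual p G := map_pResidual_le N.subtype ⟨a, ha, rfl⟩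
    have hn' : n = (a : G) * b := congrArg Subtype.val he.symm
    have hbt : (b : G) * t⁻¹ = t⁻¹ * (b : G) := Subgroup.mem_centralizer_iff.1 (hab (inv_mem ht)) _ hb
    have h4 : ⁅t, n⁆ = (t * (a : G) * t⁻¹) * (a : G)⁻¹ := by
      rw [commutatorElement_def, hn', mul_inv_rev]
      calc t * ((a : G) * b) * t⁻¹ * ((b : G)⁻¹ * (a : G)⁻¹)
          = t * (a : G) * ((b : G) * t⁻¹) * (b : G)⁻¹ * (a : G)⁻¹ := by group
        _ = _ := by rw [hbt]; group
    rw [h4]
    exact mul_mem ((inferInstance : (Cfsg.pResidual p G).Normal).conj_mem _ haR t) (inv_mem haR)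

end Cfsg.Agent.S0075
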