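import Cfsg.Statements.S1717
import Cfsg.Agent.Lib.Spor.SL5Transvection

set_option autoImplicit false
open Cfsg

namespace Cfsg.Agent.S1717

/-- Let G be a finite group with an involution z whose centraliser C is isomorphic to the centraliser of a transvection of SL(5, 2). Then a Sylow 2-subgroup of C, viewed in G, is a Sylow 2-subgroup of G (its index in G is odd). -/
theorem result {G : Type*} [Group G] [Finite G] (s : Matrix.SpecialLinearGroup (Fin 5) (ZMod 2)) (hs : (s : Matrix (Fin 5) (Fin 5) (ZMod 2)) = Matrix.transvection 0 1 1) (z : G) (hz : orderOf z = 2) (e : (Subgroup.centralizer ({z} : Set G)) ≃* Subgroup.centralizer ({s} : Set (Matrix.SpecialLinearGroup (Fin 5) (ZMod 2)))) (T : Sylow 2 (Subgroup.centralizer ({z} : Set G))) : ¬ 2 ∣ ((T : Subgroup (Subgroup.centralizer ({z} : Set G))).map (Subgroup.subtype (Subgroup.centralizer ({z} : Set G)))).index := by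
  haveI : Fact (Nat.Prime 2) := ⟨Nat.prime_two⟩
  obtain ⟨K, hK2, hKn, hKc⟩ := Cfsg.Agent.Spor.exists_tv_radical hs
  haveI := hKn
  have normal_le : ∀ M : Subgroup (Subgroup.centralizer ({z} : Set G)), M.Normal → IsPGroup 2 M → M ≤ (T : Subgroup (Subgroup.centralizer ({z} : Set G))) := by
    intro M hn hM
    haveI := hn
    have h := T.is_maximal' (T.isPGroup'.to_sup_of_normal_right hM) le_sup_left
    exact h ▸ le_sup_right
  let K' : Subgroup (Subgroup.centralizer ({z} : Set G)) := K.comap e.toMonoidHom
  have hK'2 : IsPGroup 2 K' := hK2.comap_of_injective _ e.injective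
  have hK'T : K' ≤ (T : Subgroup (Subgroup.centralizer ({z} : Set G))) := normal_le K' inferInstance hK'2
  let z' : (Subgroup.centralizer ({z} : Set G)) := ⟨z, Subgroup.mem_centralizer_singleton_iff.2 rfl⟩
  have hz'c : ∀ x : (Subgroup.centralizer ({z} : Set G)), x * z' = z' * x := fun x =>
    Subtype.ext (Subgroup.mem_centralizer_singleton_iff.1 x.2)
  have hz'T : z' ∈ (T : Subgroup (Subgroup.centralizer ({z} : Set G))) := by
    refine normal_le (Subgroup.zpowers z') ?_ ?_ (Subgroup.mem_zpowers z')
    · refine ⟨fun n hn g => ?_⟩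
      obtain ⟨k, rfl⟩ := Subgroup.mem_zpowers_iff.1 hn
      have h : Commute g (z' ^ k) := (Commute.zpow_right (hz'c g) k)
      rw [h.eq, mul_inv_cancel_right]
      exact hn
    · refine IsPGroup.of_card (n := 1) ?_
      rw [Nat.card_zpowers, ← Subgroup.orderOf_coe, hz]; norm_num
  -- an element of (Subgroup.centralizer ({z} : Set G)) centralising the radical is 1 or z
  have hez : (e z' : Matrix.SpecialLinearGroup (Fin 5) (ZMod 2)) = s := by
    rcases hKc (e z') (fun k _ => by
      obtain ⟨x, rfl⟩ := e.surjective k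
      rw [← map_mul, ← map_mul, hz'c]) with h | h
    · exfalso
      have h1 : z' = 1 := e.injective (by rw [map_one]; exact Subtype.ext h)
      have h2 : z = 1 := congrArg Subtype.val h1
      subst h2; simp at hz
    · exact h
  have key : ∀ v : (Subgroup.centralizer ({z} : Set G)), v ≠ 1 → (∀ k ∈ K', k * v = v * k) → v = z' := by
    intro v hv hk
    rcases hKc (e v) (fun k hkK => by
      obtain ⟨x, rfl⟩ := e.surjective k
      rw [← map_mul, ← map_mul, hk x hkK]) with h | h
    · exact absurd (e.injective (by rw [map_one]; exact Subtype.ext h)) hv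
    · exact e.injective (Subtype.ext (h.trans hez.symm))
  obtain ⟨S, hS⟩ := (T.isPGroup'.map (Subgroup.centralizer ({z} : Set G)).subtype).exists_le_sylow
  have hzS : z ∈ (S : Subgroup G) := hS ⟨z', hz'T, rfl⟩
  have hSC : (S : Subgroup G) ≤ (Subgroup.centralizer ({z} : Set G)) := by
    have hz1 : z ≠ 1 := by rintro rfl; simp at hz
    have hS2 : IsPGroup 2 (S : Subgroup G) := S.isPGroup'
    haveI : Nontrivial (S : Subgroup G) :=
      ⟨⟨⟨z, hzS⟩, 1, fun h => hz1 (congrArg Subtype.val h)⟩⟩
    haveI := hS2.center_nontrivial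
    obtain ⟨v, hv⟩ := exists_ne (1 : Subgroup.center (S : Subgroup G))
    set w : G := ((v : (S : Subgroup G)) : G) with hw
    have hvc : ∀ y ∈ (S : Subgroup G), y * w = w * y := fun y hy =>
      congrArg Subtype.val (Subgroup.mem_center_iff.1 v.2 ⟨y, hy⟩)
    have hwC : w ∈ (Subgroup.centralizer ({z} : Set G)) := Subgroup.mem_centralizer_singleton_iff.2 (hvc z hzS).symm
    have := key ⟨w, hwC⟩
      (fun h => hv (Subtype.ext (Subtype.ext (show w = 1 from congrArg Subtype.val h))))
      (fun k hk => Subtype.ext (hvc _ (hS ⟨k, hK'T hk, rfl⟩)))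
    have hwz : w = z := congrArg Subtype.val this
    intro y hy
    exact Subgroup.mem_centralizer_singleton_iff.2 (hwz ▸ hvc y hy)
  have heq : (S : Subgroup G).subgroupOf (Subgroup.centralizer ({z} : Set G)) = (T : Subgroup (Subgroup.centralizer ({z} : Set G))) :=
    T.is_maximal' (S.isPGroup'.comap_of_injective _ (Subgroup.centralizer ({z} : Set G)).subtype_injective)
      (fun x hx => hS ⟨x, hx, rfl⟩)
  rw [← heq, Subgroup.map_subgroupOf_eq_of_le hSC]
  exact S.not_dvd_index


end Cfsg.Agent.S1717
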