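import Cfsg.Statements.S1243
import Cfsg.Agent.Lib.Fusion.WeakClosure

set_option autoImplicit false
open Cfsg

namespace Cfsg.Agent.S1243

/-- Let T be a Sylow p-subgroup of the finite group G and W ≤ T a subgroup weakly closed in T. If d and g d g⁻¹ both centralize W, then g d g⁻¹ = h d h⁻¹ for some h ∈ N_G(W). -/
theorem result {G : Type*} [Group G] [Finite G] {p : ℕ} [Fact p.Prime] (T : Sylow p G) (W : Subgroup G) (hW : Cfsg.IsWeaklyClosed W (T : Subgroup G)) (d g : G) (hd : d ∈ Subgroup.centralizer (W : Set G)) (hgd : g * d * g⁻¹ ∈ Subgroup.centralizer (W : Set G)) : ∃ h ∈ Subgroup.normalizer (W : Set G), h * d * h⁻¹ = g * d * g⁻¹ := by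
  have hS := Fusion.sylIn_top T
  have hWp : IsPGroup p W := T.isPGroup'.to_le hW.1
  have h1 : W ≤ Subgroup.centralizer ({d} : Set G) := fun w hw =>
    Subgroup.mem_centralizer_singleton_iff.2 (Subgroup.mem_centralizer_iff.1 hd w hw)
  have h2 : Fusion.cj W g⁻¹ ≤ Subgroup.centralizer ({d} : Set G) := by
    intro w hw
    have := Subgroup.mem_centralizer_iff.1 hgd _ (Fusion.mem_cj.1 hw)
    rw [Subgroup.mem_centralizer_singleton_iff]
    have h3 := congrArg (fun z => g⁻¹ * z * g) this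
    simpa [mul_assoc] using h3
  obtain ⟨R, hR, hWR⟩ := Fusion.exists_sylIn_ge hWp h1
  obtain ⟨m, hm, hmR⟩ := hR.conj_le (Fusion.isPGroup_cj hWp g⁻¹) h2
  rw [Fusion.cj_cj] at hmR
  have h3 := Fusion.mem_normalizer_iff_cj.2
    (Fusion.weaklyClosed_eq_of_le hS hW hR.isPGroup hWR hmR)
  refine ⟨(m * g⁻¹)⁻¹, inv_mem h3, ?_⟩
  have h4 : m⁻¹ * d = d * m⁻¹ := Subgroup.mem_centralizer_singleton_iff.1 (inv_mem hm)
  have h5 : m⁻¹ * d * m = d := by rw [h4]; simp
  calc (m * g⁻¹)⁻¹ * d * (m * g⁻¹)⁻¹⁻¹ = g * (m⁻¹ * d * m) * g⁻¹ := by simp [mul_assoc]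
    _ = g * d * g⁻¹ := by rw [h5]

end Cfsg.Agent.S1243
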