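import Cfsg.Statements.S0007
import Cfsg.Agent.Lib.Solv.Cores

set_option autoImplicit false
open Cfsg

open scoped Pointwise commutatorElement

namespace Cfsg.Agent.S0007

/-- Subgroups of coprime index: the intersection has index equal to the product of the indices, and every element is a product of an element of the first subgroup and an element of the second. -/
theorem result {G : Type*} [Group G] [Finite G] (H K : Subgroup G)
    (h : H.index.Coprime K.index) :
    (H ⊓ K).index = H.index * K.index ∧ ∀ g : G, ∃ x ∈ H, ∃ y ∈ K, g = x * y := by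
  have h1 : H.index ∣ (H ⊓ K).index := Subgroup.index_dvd_of_le inf_le_left
  have h2 : K.index ∣ (H ⊓ K).index := Subgroup.index_dvd_of_le inf_le_right
  have heq : (H ⊓ K).index = H.index * K.index := by
    refine le_antisymm Subgroup.index_inf_le (Nat.le_of_dvd ?_ (h.mul_dvd_of_dvd_of_dvd h1 h2))
    exact Nat.pos_of_ne_zero Subgroup.index_ne_zero_of_finite
  refine ⟨heq, ?_⟩
  have hrel : H.relIndex K = H.index := by
    have := Subgroup.relIndex_mul_index (inf_le_right : H ⊓ K ≤ K)
    rw [Subgroup.inf_relIndex_right, heq] at this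
    exact Nat.eq_of_mul_eq_mul_right (Nat.pos_of_ne_zero Subgroup.index_ne_zero_of_finite) this
  have hb : Function.Bijective (Subgroup.quotientSubgroupOfEmbeddingOfLE H (le_top : K ≤ ⊤)) := by
    rw [Nat.bijective_iff_injective_and_card]
    refine ⟨Function.Embedding.injective _, ?_⟩
    rw [← Subgroup.index_eq_card, ← Subgroup.index_eq_card]
    exact hrel.trans (Subgroup.relIndex_top_right H).symm
  intro g
  obtain ⟨q, hq⟩ := hb.2 (QuotientGroup.mk (⟨g⁻¹, Subgroup.mem_top _⟩ : (⊤ : Subgroup G)))
  obtain ⟨k, rfl⟩ := QuotientGroup.mk_surjective q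
  rw [Subgroup.quotientSubgroupOfEmbeddingOfLE_apply_mk, QuotientGroup.eq] at hq
  have hq' : (k : G)⁻¹ * g⁻¹ ∈ H := hq
  refine ⟨((k : G)⁻¹ * g⁻¹)⁻¹, H.inv_mem hq', (k : G)⁻¹, K.inv_mem k.2, by group⟩

end Cfsg.Agent.S0007
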