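import Cfsg.Statements.S0010
import Cfsg.Agent.Lib.Solv.Cores

set_option autoImplicit false
open Cfsg

open scoped Pointwise commutatorElement

namespace Cfsg.Agent.S0010

/-- The largest normal p-subgroup of a finite group is the intersection of all its Sylow p-subgroups. -/
theorem result {G : Type*} [Group G] [Finite G] (p : ℕ) [Fact p.Prime] :
    Cfsg.pCore p G = ⨅ P : Sylow p G, (P : Subgroup G) := by
  have := Solv.pCore_normal (G := G) p
  refine le_antisymm (le_iInf fun P => IsPGroup.le_sylow_of_normal (Solv.pCore_isPGroup p) P) ?_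
  have hn : (⨅ P : Sylow p G, (P : Subgroup G)).Normal := by
    refine ⟨fun x hx g => ?_⟩
    rw [Subgroup.mem_iInf] at hx ⊢
    intro P
    have h : x ∈ MulAut.conj g⁻¹ • (P : Subgroup G) := hx (g⁻¹ • P)
    rwa [Solv.mem_conj_smul, inv_inv] at h
  obtain ⟨P⟩ : Nonempty (Sylow p G) := inferInstance
  exact Solv.normal_le_pCore (P.2.to_le (iInf_le _ P))

end Cfsg.Agent.S0010
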