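import Cfsg.Statements.S0011
import Cfsg.Agent.Lib.Solv.Cores

set_option autoImplicit false
open Cfsg

open scoped Pointwise commutatorElement

namespace Cfsg.Agent.S0011

/-- If the Frattini quotient of a finite group is nilpotent then the group is nilpotent. -/
theorem result {G : Type*} [Group G] [Finite G]
    (h : Group.IsNilpotent (G ⧸ frattini G)) : Group.IsNilpotent G := by
  refine (Group.isNilpotent_of_finite_tfae (G := G)).out 0 3 |>.2 fun p hp P => ?_
  have := hp
  have hP : ((P : Subgroup G).map (QuotientGroup.mk' (frattini G))).Normal := by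
    have key : ∀ (q : ℕ) (_hq : Fact q.Prime) (R : Sylow q (G ⧸ frattini G)), (R : Subgroup (G ⧸ frattini G)).Normal :=
      ((Group.isNilpotent_of_finite_tfae (G := G ⧸ frattini G)).out 0 3).1 h
    have := key p hp
      (P.mapSurjective (QuotientGroup.mk'_surjective (frattini G)))
    simpa using this
  set M := ((P : Subgroup G).map (QuotientGroup.mk' (frattini G))).comap
    (QuotientGroup.mk' (frattini G)) with hM
  have hMn : M.Normal := hP.comap _
  have hMeq : M = (P : Subgroup G) ⊔ frattini G := by
    rw [hM, Subgroup.comap_map_eq, QuotientGroup.ker_mk']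
  have hPM : (P : Subgroup G) ≤ M := hMeq ▸ le_sup_left
  have h1 := Sylow.normalizer_sup_eq_top' P hPM
  have h2 : Subgroup.normalizer ((P : Subgroup G) : Set G) ⊔ frattini G = ⊤ := by
    rw [← top_le_iff, ← h1, hMeq]
    refine sup_le le_sup_left (sup_le (Subgroup.le_normalizer.trans le_sup_left) le_sup_right)
  exact Subgroup.normalizer_eq_top_iff.1 (frattini_nongenerating h2)

end Cfsg.Agent.S0011
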