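import Cfsg.Statements.S0013
import Cfsg.Agent.Lib.Solv.Cores

set_option autoImplicit false
open Cfsg

open scoped Pointwise commutatorElement

namespace Cfsg.Agent.S0013

/-- In a finite p-group the Frattini subgroup is the smallest normal subgroup with elementary abelian quotient: it lies below any normal subgroup containing all commutators and all p-th powers. -/
theorem result {G : Type*} [Group G] [Finite G] (p : ℕ) [Fact p.Prime]
    (hG : IsPGroup p G) (N : Subgroup G) [N.Normal] (hcomm : commutator G ≤ N) (hpow : ∀ x : G, x ^ p ∈ N) :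
    frattini G ≤ N := by
  have key : ∀ x : G, x ∉ N → ∃ M : Subgroup G, IsCoatom M ∧ x ∉ M := by
    intro x hx
    obtain ⟨M, hNM, hM⟩ := Finite.exists_le_maximal
      (p := fun M : Subgroup G => N ≤ M ∧ x ∉ M) (a := N) ⟨le_rfl, hx⟩
    refine ⟨M, ⟨fun h => hM.1.2 (h ▸ Subgroup.mem_top x), fun K hK => ?_⟩, hM.1.2⟩
    have hxK : x ∈ K := by
      by_contra h
      exact hK.not_ge (hM.2 ⟨hNM.trans hK.le, h⟩ hK.le)
    rw [← top_le_iff]
    intro y _
    have step : ∀ M' : Subgroup G, M ≤ M' → (∀ g, g ∈ M' ↔ ∃ m ∈ M, ∃ i : ℤ, g = m * x ^ i) →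
        M' ≤ K := by
      intro M' _ h g hg
      obtain ⟨m, hm, i, rfl⟩ := (h g).1 hg
      exact mul_mem (hK.le hm) (K.zpow_mem hxK i)
    -- every element outside `M` generates, with `M`, a subgroup containing `x`
    by_contra hy
    have hMn : M.Normal := by
      refine ⟨fun m hm g => ?_⟩
      have : g * m * g⁻¹ * m⁻¹ ∈ N := hcomm (by
        rw [commutator_def, ← commutatorElement_def]
        exact Subgroup.commutator_mem_commutator (Subgroup.mem_top g) (Subgroup.mem_top m))
      simpa using mul_mem (hNM this) hm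
    have hyM : y ∉ M := fun h => hy (hK.le h)
    have hx' : x ∈ M ⊔ Subgroup.zpowers y := by
      by_contra h
      exact hyM (hM.2 ⟨hNM.trans le_sup_left, h⟩ le_sup_left
        (Subgroup.mem_sup_right (Subgroup.mem_zpowers y)))
    rw [← SetLike.mem_coe, Subgroup.normal_mul] at hx'
    obtain ⟨m, hm, _, ⟨i, rfl⟩, hmi⟩ := hx'
    have hi : ¬ (p : ℤ) ∣ i := by
      rintro ⟨k, rfl⟩
      refine hM.1.2 ?_
      rw [← hmi]
      refine mul_mem hm ?_
      show y ^ ((p : ℤ) * k) ∈ M
      rw [zpow_mul, zpow_natCast]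
      exact M.zpow_mem (hNM (hpow y)) k
    have hg : Int.gcd (p : ℤ) i = 1 := by
      rw [Int.gcd_def, Int.natAbs_natCast]
      exact (Fact.out : p.Prime).coprime_iff_not_dvd.2 (fun h => hi (Int.natCast_dvd.2 h))
    have hab := Int.gcd_eq_gcd_ab (p : ℤ) i
    rw [hg] at hab
    apply hy
    have e : y = (y ^ (p : ℤ)) ^ Int.gcdA p i * (y ^ i) ^ Int.gcdB p i := by
      rw [← zpow_mul, ← zpow_mul, ← zpow_add, ← hab, Nat.cast_one, zpow_one]
    rw [e]
    refine mul_mem (K.zpow_mem (hK.le (hNM ?_)) _) (K.zpow_mem ?_ _)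
    · rw [zpow_natCast]; exact hpow y
    · have : y ^ i = m⁻¹ * x := by rw [← hmi]; group
      rw [this]
      exact mul_mem (K.inv_mem (hK.le hm)) hxK
  intro x hx
  by_contra hxN
  obtain ⟨M, hM, hxM⟩ := key x hxN
  exact hxM (frattini_le_coatom hM hx)

end Cfsg.Agent.S0013
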