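import Cfsg.Statements.S0014
import Cfsg.Agent.Lib.Solv.Basic
import Cfsg.Agent.S0012

set_option autoImplicit false
open Cfsg

open scoped Pointwise commutatorElement

namespace Cfsg.Agent.S0014

/-- Burnside's basis Theorem: in a finite p-group whose Frattini quotient has order p ^ n, every generating set contains n elements that already generate, and no set with fewer than n elements generates. -/
theorem result {G : Type*} [Group G] [Finite G] (p n : ℕ) [Fact p.Prime]
    (hG : IsPGroup p G) (hn : (frattini G).index = p ^ n) :
    (∀ S : Finset G, Subgroup.closure (S : Set G) = ⊤ → ∃ T : Finset G, T ⊆ S ∧ T.card = n ∧ Subgroup.closure (T : Set G) = ⊤) ∧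
    (∀ T : Finset G, Subgroup.closure (T : Set G) = ⊤ → n ≤ T.card) := by
  classical
  obtain ⟨hΦc, hΦp⟩ := S0012.result p hG
  have hcomm : ∀ a b : G ⧸ frattini G, a * b = b * a := by
    intro a b
    obtain ⟨a, rfl⟩ := QuotientGroup.mk_surjective a
    obtain ⟨b, rfl⟩ := QuotientGroup.mk_surjective b
    rw [← QuotientGroup.mk_mul, ← QuotientGroup.mk_mul, QuotientGroup.eq]
    refine hΦc ?_
    rw [commutator_def]
    convert Subgroup.commutator_mem_commutator (Subgroup.mem_top b⁻¹) (Subgroup.mem_top a⁻¹) using 1
    rw [commutatorElement_def]; group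
  have hpow : ∀ a : G ⧸ frattini G, a ^ p = 1 := by
    intro a
    obtain ⟨a, rfl⟩ := QuotientGroup.mk_surjective a
    rw [← QuotientGroup.mk_pow, QuotientGroup.eq_one_iff]
    exact hΦp a
  set f := QuotientGroup.mk' (frattini G) with hf
  have hcl : ∀ (s : G) (T : Finset G), (Subgroup.closure ((insert s T : Finset G) : Set G)).map f
      = (Subgroup.closure (T : Set G)).map f ⊔ Subgroup.zpowers (f s) := by
    intro s T
    rw [Finset.coe_insert, Set.insert_eq, Subgroup.closure_union, Subgroup.map_sup, sup_comm,
      Subgroup.zpowers_eq_closure (f s), MonoidHom.map_closure f {s}, Set.image_singleton]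
  have step : ∀ (s : G) (T : Finset G), f s ∈ (Subgroup.closure (T : Set G)).map f ∨
      Nat.card ((Subgroup.closure ((insert s T : Finset G) : Set G)).map f)
        = Nat.card ((Subgroup.closure (T : Set G)).map f) * p := by
    intro s T
    by_cases hs : f s ∈ (Subgroup.closure (T : Set G)).map f
    · exact Or.inl hs
    right
    have hs1 : orderOf (f s) = p :=
      orderOf_eq_prime (hpow _) fun e => hs (e ▸ Subgroup.one_mem _)
    have hn : ((Subgroup.closure (T : Set G)).map f).Normal :=
      ⟨fun x hx y => by rwa [hcomm y x, mul_inv_cancel_right]⟩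
    have hinf : (Subgroup.closure (T : Set G)).map f ⊓ Subgroup.zpowers (f s) = ⊥ := by
      have hd : Nat.card ((Subgroup.closure (T : Set G)).map f ⊓ Subgroup.zpowers (f s) : Subgroup _) ∣ p := by
        rw [← hs1, ← Nat.card_zpowers]; exact Subgroup.card_dvd_of_le inf_le_right
      rcases (Nat.dvd_prime (Fact.out : p.Prime)).1 hd with h | h
      · exact Subgroup.card_eq_one.1 h
      · refine absurd ?_ hs
        have := Subgroup.eq_of_le_of_card_ge (inf_le_right :
          (Subgroup.closure (T : Set G)).map f ⊓ Subgroup.zpowers (f s) ≤ Subgroup.zpowers (f s))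
          (by rw [h, Nat.card_zpowers, hs1])
        exact (this.ge (Subgroup.mem_zpowers (f s))).1
    rw [hcl, Solv.card_sup_of_inf_eq_bot _ _ hinf, Nat.card_zpowers, hs1]
  have upper : ∀ T : Finset G, Nat.card ((Subgroup.closure (T : Set G)).map f) ≤ p ^ T.card := by
    intro T
    induction T using Finset.induction with
    | empty => simp
    | insert s T hs ih =>
      rw [Finset.card_insert_of_notMem hs, pow_succ]
      rcases step s T with h | h
      · rw [hcl, sup_eq_left.2 (Subgroup.zpowers_le.2 h)]
        exact ih.trans (Nat.le_mul_of_pos_right _ (Fact.out : p.Prime).pos)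
      · rw [h]; exact Nat.mul_le_mul_right _ ih
  have greedy : ∀ S : Finset G, ∃ T : Finset G, T ⊆ S ∧
      (Subgroup.closure (T : Set G)).map f = (Subgroup.closure (S : Set G)).map f ∧
      Nat.card ((Subgroup.closure (T : Set G)).map f) = p ^ T.card := by
    intro S
    induction S using Finset.induction with
    | empty => exact ⟨∅, subset_rfl, rfl, by simp⟩
    | insert s S hs ih =>
      obtain ⟨T, hTS, hT, hTc⟩ := ih
      rcases step s T with h | h
      · refine ⟨T, hTS.trans (Finset.subset_insert s S), ?_, hTc⟩
        rw [hcl s S, ← hT, sup_eq_left.2 (Subgroup.zpowers_le.2 h)]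
      · refine ⟨insert s T, Finset.insert_subset_insert s hTS, by rw [hcl, hcl, hT], ?_⟩
        rw [h, hTc, Finset.card_insert_of_notMem fun h' => hs (hTS h'), pow_succ]
  have hQ : Nat.card (G ⧸ frattini G) = p ^ n := by rw [← Subgroup.index_eq_card, hn]
  have htop : ∀ T : Finset G, Subgroup.closure (T : Set G) = ⊤ →
      Nat.card ((Subgroup.closure (T : Set G)).map f) = p ^ n := by
    intro T hT
    rw [hT, Subgroup.map_top_of_surjective _ (QuotientGroup.mk'_surjective _), Subgroup.card_top, hQ]
  refine ⟨fun S hS => ?_, fun T hT => ?_⟩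
  · obtain ⟨T, hTS, hT, hTc⟩ := greedy S
    refine ⟨T, hTS, ?_, ?_⟩
    · rw [hT, htop S hS] at hTc
      exact (Nat.pow_right_injective (Fact.out : p.Prime).two_le hTc).symm
    · refine frattini_nongenerating ?_
      have h2 := congrArg (Subgroup.comap f) hT
      rw [Subgroup.comap_map_eq, Subgroup.comap_map_eq, hf, QuotientGroup.ker_mk', hS, top_sup_eq] at h2
      exact h2
  · have := upper T
    rw [htop T hT] at this
    exact (Nat.pow_le_pow_iff_right (Fact.out : p.Prime).one_lt).1 this

end Cfsg.Agent.S0014
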