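import Cfsg.Statements.S0017
import Cfsg.Agent.Lib.Solv.Cores

set_option autoImplicit false
open Cfsg

open scoped Pointwise commutatorElement

namespace Cfsg.Agent.S0017

/-- In a finite solvable group whose largest normal subgroup of order prime to p is trivial, the centralizer of the p-core is contained in the p-core. -/
theorem result {G : Type*} [Group G] [Finite G] [Group.IsSolvable G] (p : ℕ) [Fact p.Prime]
    (h : Cfsg.pPrimeCore p G = ⊥) :
    Subgroup.centralizer (Cfsg.pCore p G : Set G) ≤ Cfsg.pCore p G := by
  have hle : Cfsg.fittingSubgroup G ≤ Cfsg.pCore p G := by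
    rw [Solv.fitting_eq_iSup_pCore]
    refine iSup_le fun q => ?_
    by_cases hq : (q : ℕ) = p
    · rw [hq]
    · have := Solv.pCore_normal (G := G) (q : ℕ)
      have := Fact.mk q.2
      obtain ⟨k, hk⟩ := IsPGroup.iff_card.1 (Solv.pCore_isPGroup (G := G) (q : ℕ))
      refine le_trans (Solv.normal_le_pPrimeCore (p := p) ?_) (h.le.trans bot_le)
      rw [hk]
      exact Nat.Coprime.pow_left k ((Nat.coprime_primes q.2 Fact.out).2 hq)
  have heq := le_antisymm hle (Solv.pCore_le_fitting p)
  rw [← heq]
  exact Solv.centralizer_fitting_le inferInstance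

end Cfsg.Agent.S0017
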