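import Cfsg.Statements.S0019
import Cfsg.Agent.Lib.Solv.Cores

set_option autoImplicit false
open Cfsg

open scoped Pointwise commutatorElement

namespace Cfsg.Agent.S0019

theorem normalClosure_le_of_conj {G : Type*} [Group G] {A H K : Subgroup G}
    (hK : K ≤ Subgroup.normalizer (A : Set G)) (hA : A ≤ H)
    (hG : ∀ g : G, ∃ x ∈ K, ∃ y ∈ H, g = x * y) : Subgroup.normalClosure (A : Set G) ≤ H := by
  rw [Subgroup.normalClosure, Subgroup.closure_le]
  intro z hz
  obtain ⟨a, ha, hac⟩ := Group.mem_conjugatesOfSet_iff.1 hz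
  obtain ⟨g, rfl⟩ := isConj_iff.1 hac
  obtain ⟨x, hx, y, hy, hxy⟩ := hG g⁻¹
  have hg : g = y⁻¹ * x⁻¹ := by rw [← inv_inv g, hxy, mul_inv_rev]
  rw [hg]
  have h1 : x⁻¹ * a * x⁻¹⁻¹ ∈ A :=
    (Subgroup.mem_normalizer_iff.1 (Subgroup.inv_mem _ (hK hx)) a).1 ha
  have := H.mul_mem (H.mul_mem (H.inv_mem hy) (hA h1)) hy
  show y⁻¹ * x⁻¹ * a * (y⁻¹ * x⁻¹)⁻¹ ∈ H
  rwa [show y⁻¹ * (x⁻¹ * a * x⁻¹⁻¹) * y = y⁻¹ * x⁻¹ * a * (y⁻¹ * x⁻¹)⁻¹ by group] at this

theorem wielandt : ∀ (n : ℕ) {G : Type _} [Group G] [Finite G], Nat.card G = n →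
    ∀ (H₁ H₂ H₃ : Subgroup G), Group.IsSolvable H₁ → Group.IsSolvable H₂ → Group.IsSolvable H₃ →
    (∀ g : G, ∃ x ∈ H₁, ∃ y ∈ H₂, g = x * y) → (∀ g : G, ∃ x ∈ H₁, ∃ y ∈ H₃, g = x * y) →
    H₂.index.Coprime H₃.index → Group.IsSolvable G := by
  intro n
  induction n using Nat.strong_induction_on with
  | _ n ih =>
    intro G _ _ hn H₁ H₂ H₃ h₁ h₂ h₃ h12 h13 hcop
    subst hn
    by_cases hb : H₁ = ⊥
    · have : H₂ = ⊤ := by
        refine top_le_iff.1 fun g _ => ?_
        obtain ⟨x, hx, y, hy, rfl⟩ := h12 g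
        rw [hb, Subgroup.mem_bot] at hx
        rwa [hx, one_mul]
      subst this
      exact Group.isSolvable_of_surjective (f := (⊤ : Subgroup G).subtype)
        (fun g => ⟨⟨g, Subgroup.mem_top g⟩, rfl⟩)
    have : Nontrivial H₁ := (Subgroup.nontrivial_iff_ne_bot _).2 hb
    obtain ⟨M₀, hM₀, hM₀b, hmin⟩ := Solv.exists_minimal_normal (G := H₁)
    obtain ⟨-, p, hp, -, hpg⟩ := Solv.minimal_normal_elementaryAbelian M₀ inferInstance hM₀b hmin
    have := Fact.mk hp
    set A := M₀.map H₁.subtype with hA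
    have hAn : H₁ ≤ Subgroup.normalizer (A : Set G) := fun h hh => by
      refine Solv.mem_normalizer_of_conj_smul ?_
      have := congrArg (Subgroup.map H₁.subtype)
        (Subgroup.Normal.conj_smul_eq_self (⟨h, hh⟩ : H₁) M₀)
      rwa [Solv.map_conj_smul] at this
    have hAb : A ≠ ⊥ := fun h =>
      hM₀b ((Subgroup.map_eq_bot_iff_of_injective _ H₁.subtype_injective).1 h)
    have key : ∀ H : Subgroup G, Group.IsSolvable H → ¬ p ∣ H.index →
        (∀ g : G, ∃ x ∈ H₁, ∃ y ∈ H, g = x * y) → Group.IsSolvable G := by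
      intro H hH hpH hfac
      obtain ⟨P, hP⟩ := IsPGroup.exists_le_sylow (hpg.map H₁.subtype)
      obtain ⟨Q⟩ : Nonempty (Sylow p H) := inferInstance
      have hQ : Nat.card ((Q : Subgroup H).map H.subtype) = p ^ (Nat.card G).factorization p := by
        rw [Solv.card_map_subtype, Q.card_eq_multiplicity, ← H.card_mul_index,
          Nat.factorization_mul Nat.card_pos.ne' Subgroup.index_ne_zero_of_finite, Finsupp.add_apply,
          Nat.factorization_eq_zero_of_not_dvd hpH, add_zero]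
      obtain ⟨g, hg⟩ := MulAction.exists_smul_eq G P (Sylow.ofCard _ hQ)
      obtain ⟨x, hx, y, hy, hxy⟩ := hfac g⁻¹
      have hgP : MulAut.conj g • (P : Subgroup G) = (Q : Subgroup H).map H.subtype :=
        congrArg Sylow.toSubgroup hg
      have h1 : A ≤ MulAut.conj g⁻¹ • H := by
        refine hP.trans ?_
        rw [map_inv, Subgroup.subset_pointwise_smul_iff, inv_inv, hgP]
        exact Subgroup.map_subtype_le _
      rw [hxy, ← Solv.conj_smul_conj, Subgroup.conj_smul_eq_self_of_mem hy,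
        Subgroup.subset_pointwise_smul_iff, ← map_inv,
        Solv.conj_smul_of_mem_normalizer (hAn (H₁.inv_mem hx))] at h1
      have hNH := normalClosure_le_of_conj hAn h1 hfac
      set N := Subgroup.normalClosure (A : Set G) with hN
      have hNb : N ≠ ⊥ := fun h => hAb (eq_bot_iff.2 (h ▸ Subgroup.le_normalClosure))
      set f := QuotientGroup.mk' N
      have hfac' : ∀ K : Subgroup G, (∀ g : G, ∃ x ∈ H₁, ∃ y ∈ K, g = x * y) →
          ∀ q : G ⧸ N, ∃ x ∈ H₁.map f, ∃ y ∈ K.map f, q = x * y := by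
        intro K hK q
        obtain ⟨g, rfl⟩ := QuotientGroup.mk'_surjective N q
        obtain ⟨x, hx, y, hy, rfl⟩ := hK g
        exact ⟨f x, Subgroup.mem_map_of_mem f hx, f y, Subgroup.mem_map_of_mem f hy, map_mul f x y⟩
      have hq := ih _ (Solv.card_quotient_lt N hNb) rfl (H₁.map f) (H₂.map f) (H₃.map f)
        (Solv.isSolvable_map f h₁) (Solv.isSolvable_map f h₂) (Solv.isSolvable_map f h₃)
        (hfac' H₂ h12) (hfac' H₃ h13)
        ((hcop.coprime_dvd_left (Subgroup.index_map_dvd _ (QuotientGroup.mk'_surjective N))).coprime_dvd_right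
          (Subgroup.index_map_dvd _ (QuotientGroup.mk'_surjective N)))
      exact (Group.isSolvable_iff_subgroup_quotient N).2 ⟨Solv.isSolvable_of_le hNH hH, hq⟩
    by_cases hpd : p ∣ H₂.index
    · exact key H₃ h₃ (fun h => hp.ne_one (Nat.eq_one_of_dvd_coprimes hcop hpd h)) h13
    · exact key H₂ h₂ hpd h12

/-- A finite group that factorises as H₁H₂ and as H₁H₃ with all three subgroups solvable and the indices of H₂ and H₃ coprime is solvable. -/
theorem result {G : Type*} [Group G] [Finite G] (H₁ H₂ H₃ : Subgroup G)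
    (h₁ : Group.IsSolvable H₁) (h₂ : Group.IsSolvable H₂) (h₃ : Group.IsSolvable H₃)
    (h12 : ∀ g : G, ∃ x ∈ H₁, ∃ y ∈ H₂, g = x * y) (h13 : ∀ g : G, ∃ x ∈ H₁, ∃ y ∈ H₃, g = x * y)
    (hcop : H₂.index.Coprime H₃.index) : Group.IsSolvable G := by
  exact wielandt _ rfl H₁ H₂ H₃ h₁ h₂ h₃ h12 h13 hcop

end Cfsg.Agent.S0019
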