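import Cfsg.Statements.S0021
import Cfsg.Agent.Lib.Solv.ThreeSolv

set_option autoImplicit false
open Pointwise
open Cfsg

open scoped Pointwise commutatorElement

namespace Cfsg.Agent.S0021

theorem prod_erase_mul {n : ℕ} (hn : n ≠ 0) (p : ℕ) :
    (∏ q ∈ n.primeFactors.erase p, q ^ n.factorization q) * p ^ n.factorization p = n := by
  have h : ∏ q ∈ n.primeFactors, q ^ n.factorization q = n := by
    conv_rhs => rw [← Nat.prod_factorization_pow_eq_self hn]
    rw [Finsupp.prod, Nat.support_factorization]
  by_cases hp : p ∈ n.primeFactors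
  · rw [Finset.prod_erase_mul _ _ hp, h]
  · have h0 : n.factorization p = 0 := by
      rw [← Nat.support_factorization, Finsupp.mem_support_iff, not_not] at hp
      exact hp
    rw [Finset.erase_eq_of_notMem hp, h, h0, pow_zero, mul_one]

/-- A finite group with a family of pairwise permuting Sylow subgroups, one for each prime, is solvable (this direction rests on Burnside's two-prime Theorem). -/
theorem result {G : Type*} [Group G] [Finite G]
    (S : (p : Nat.Primes) → Sylow (p : ℕ) G)
    (hS : ∀ p q : Nat.Primes, (S p : Set G) * (S q : Set G) = (S q : Set G) * (S p : Set G)) :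
    Group.IsSolvable G := by
  classical
  have key : ∀ s : Finset Nat.Primes, ∃ T : Subgroup G,
      (∀ r : Nat.Primes, (T : Set G) * (S r : Set G) = (S r : Set G) * (T : Set G)) ∧
        Nat.card T = ∏ q ∈ s, (q : ℕ) ^ (Nat.card G).factorization q := by
    intro s
    induction s using Finset.induction with
    | empty => exact ⟨⊥, fun r => by simp, by simp⟩
    | insert q s hq ih =>
      obtain ⟨T, hT, hc⟩ := ih
      obtain ⟨L, hL⟩ := Solv.exists_subgroup_eq_mul T (S q : Subgroup G) (hT q)
      refine ⟨L, fun r => ?_, ?_⟩
      · rw [hL]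
        show ((T : Set G) * (S q : Set G)) * (S r : Set G) = (S r : Set G) * ((T : Set G) * (S q : Set G))
        rw [mul_assoc, hS q r, ← mul_assoc, hT r, mul_assoc]
      · have := Fact.mk q.2
        have hinf : T ⊓ (S q : Subgroup G) = ⊥ := by
          refine Solv.coprime_inf ?_
          rw [hc, (S q).card_eq_multiplicity]
          exact Nat.Coprime.prod_left fun r hr => Nat.coprime_pow_primes _ _ r.2 q.2
            fun e => hq (Subtype.ext e ▸ hr)
        have h1 := Solv.card_set_mul T (S q : Subgroup G) hinf
        rw [← hL, hc, (S q).card_eq_multiplicity] at h1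
        rw [Finset.prod_insert hq, mul_comm]
        exact h1
  refine Solv.isSolvable_of_complements _ G rfl fun p hp => ?_
  obtain ⟨T, -, hc⟩ := key (((Nat.card G).primeFactors.erase p).subtype Nat.Prime)
  refine ⟨T, ?_⟩
  have h2 : (∏ q ∈ (((Nat.card G).primeFactors.erase p).subtype Nat.Prime : Finset Nat.Primes),
      (q : ℕ) ^ (Nat.card G).factorization q)
      = ∏ q ∈ (Nat.card G).primeFactors.erase p, q ^ (Nat.card G).factorization q :=
    Finset.prod_subtype_of_mem (fun q => q ^ (Nat.card G).factorization q)
      (fun q hq => Nat.prime_of_mem_primeFactors (Finset.mem_of_mem_erase hq))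
  have hc' : Nat.card T = ∏ q ∈ (Nat.card G).primeFactors.erase p, q ^ (Nat.card G).factorization q :=
    hc.trans h2
  refine Nat.eq_of_mul_eq_mul_left (Nat.card_pos (α := T)) ?_
  rw [T.card_mul_index, hc']
  exact (prod_erase_mul (Nat.card_pos (α := G)).ne' p).symm

end Cfsg.Agent.S0021
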