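import Cfsg.Statements.S0020
import Cfsg.Agent.Lib.Solv.ThreeSolv
import Cfsg.Agent.S0021

set_option autoImplicit false
open Pointwise
open Cfsg

open scoped Pointwise commutatorElement

namespace Cfsg.Agent.S0020

/-- A finite solvable group admits a Sylow system: Sylow subgroups, one for each prime, that pairwise permute as sets. -/
theorem result {G : Type*} [Group G] [Finite G] [Group.IsSolvable G] :
    ∃ S : (p : Nat.Primes) → Sylow (p : ℕ) G,
      ∀ p q : Nat.Primes, (S p : Set G) * (S q : Set G) = (S q : Set G) * (S p : Set G) := by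
  classical
  have hH : ∀ p : ℕ, ∃ H : Subgroup G, H.index = p ^ (Nat.card G).factorization p := by
    intro p
    by_cases hp : p.Prime
    · obtain ⟨H, hH⟩ := Solv.hall_exists (inferInstance : Group.IsSolvable G)
        (m := Nat.card G / p ^ (Nat.card G).factorization p)
        (n := p ^ (Nat.card G).factorization p)
        (by rw [mul_comm]; exact (Nat.ordProj_mul_ordCompl_eq_self _ _).symm)
        ((Nat.coprime_ordCompl hp Nat.card_pos.ne').pow_left _).symm
      refine ⟨H, Nat.eq_of_mul_eq_mul_left (Nat.card_pos (α := H)) ?_⟩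
      rw [H.card_mul_index, hH, mul_comm]
      exact (Nat.ordProj_mul_ordCompl_eq_self _ _).symm
    · exact ⟨⊤, by simp [Nat.factorization_eq_zero_of_not_prime _ hp]⟩
  choose H hH using hH
  let I : Finset ℕ → Subgroup G := fun s => s.inf H
  have hI : ∀ s : Finset ℕ, (∀ q ∈ s, q.Prime) →
      (I s).index = ∏ q ∈ s, q ^ (Nat.card G).factorization q := by
    intro s
    induction s using Finset.induction with
    | empty => simp [I]
    | insert q s hq ih =>
      intro hs
      have ih' := ih fun r hr => hs r (Finset.mem_insert_of_mem hr)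
      simp only [I] at ih' ⊢
      rw [Finset.inf_insert, Solv.inf_index_of_coprime, hH, ih', Finset.prod_insert hq]
      rw [hH, ih']
      exact Nat.Coprime.prod_right fun r hr => Nat.coprime_pow_primes _ _
        (hs q (Finset.mem_insert_self q s)) (hs r (Finset.mem_insert_of_mem hr))
        fun e => hq (e ▸ hr)
  set F := (Nat.card G).primeFactors
  have hF : ∀ q ∈ F, q.Prime := fun q => Nat.prime_of_mem_primeFactors
  have hcard : ∀ p : ℕ, Nat.card (I (F.erase p)) = p ^ (Nat.card G).factorization p := by
    intro p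
    have h1 := (I (F.erase p)).card_mul_index
    rw [hI _ fun q hq => hF q (Finset.mem_of_mem_erase hq)] at h1
    have h2 := S0021.prod_erase_mul (Nat.card_pos (α := G)).ne' p
    refine Nat.eq_of_mul_eq_mul_right ?_ (h1.trans (h2.symm.trans (mul_comm _ _)))
    exact Finset.prod_pos fun q hq => pow_pos (hF q (Finset.mem_of_mem_erase hq)).pos _
  refine ⟨fun p => haveI := Fact.mk p.2; Sylow.ofCard (I (F.erase p)) (hcard p), fun p q => ?_⟩
  show ((I (F.erase p) : Subgroup G) : Set G) * (I (F.erase q) : Subgroup G)
    = ((I (F.erase q) : Subgroup G) : Set G) * (I (F.erase p) : Subgroup G)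
  by_cases hpq : (p : ℕ) = q
  · rw [hpq]
  suffices key : ∀ a b : ℕ, a.Prime → b.Prime → a ≠ b →
      ((I (F.erase a) : Subgroup G) : Set G) * (I (F.erase b) : Subgroup G)
        = (I ((F.erase a).erase b) : Subgroup G) by
    rw [key p q p.2 q.2 hpq, key q p q.2 p.2 (Ne.symm hpq), Finset.erase_right_comm]
  intro a b ha hb hab
  set K := I ((F.erase a).erase b)
  have hA : I (F.erase a) ≤ K := Finset.inf_mono (Finset.erase_subset _ _)
  have hB : I (F.erase b) ≤ K := Finset.inf_mono (by
    intro x hx
    rw [Finset.mem_erase] at hx ⊢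
    exact ⟨hx.1, Finset.mem_of_mem_erase hx.2⟩)
  refine Set.eq_of_subset_of_ncard_le ?_ ?_
  · rintro _ ⟨x, hx, y, hy, rfl⟩; exact K.mul_mem (hA hx) (hB hy)
  rw [← Nat.card_coe_set_eq, ← Nat.card_coe_set_eq, Solv.card_set_mul _ _
    (Solv.coprime_inf (by rw [hcard, hcard]; exact Nat.coprime_pow_primes _ _ ha hb hab)),
    hcard, hcard]
  have h1 := K.card_mul_index
  rw [hI _ fun r hr => hF r (Finset.mem_of_mem_erase (Finset.mem_of_mem_erase hr))] at h1
  show Nat.card K ≤ _
  have hpos : 0 < ∏ r ∈ (F.erase a).erase b, r ^ (Nat.card G).factorization r :=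
    Finset.prod_pos fun r hr => pow_pos (hF r (Finset.mem_of_mem_erase (Finset.mem_of_mem_erase hr))).pos _
  refine le_of_eq (Nat.eq_of_mul_eq_mul_right hpos (h1.trans ?_))
  have h2 := S0021.prod_erase_mul (Nat.card_pos (α := G)).ne' a
  by_cases hbF : b ∈ F.erase a
  · rw [← Finset.prod_erase_mul _ _ hbF] at h2
    exact h2.symm.trans (by ring)
  · rw [Finset.erase_eq_of_notMem hbF]
    have h0 : (Nat.card G).factorization b = 0 := by
      have : b ∉ F := fun h => hbF (Finset.mem_erase.2 ⟨fun e => hab e.symm, h⟩)
      rw [show F = (Nat.card G).factorization.support from (Nat.support_factorization _).symm,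
        Finsupp.mem_support_iff, not_not] at this
      exact this
    rw [h0, pow_zero, mul_one, mul_comm]
    exact h2.symm

end Cfsg.Agent.S0020
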