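import Cfsg.Statements.S0028
import Cfsg.Agent.Lib.Solv.Coprime
import Cfsg.Agent.Lib.Fusion.NPC
import Cfsg.Agent.Lib.Solv.ClassPow

set_option autoImplicit false
open Cfsg

open scoped Pointwise commutatorElement

namespace Cfsg.Agent.S0028

theorem aux {G : Type*} [Group G] [Finite G] (p : ℕ) [Fact p.Prime]
    (P Q : Subgroup G) (hP : IsPGroup p P) (hQ : (Nat.card Q).Coprime p)
    (hPQ : P ≤ Subgroup.centralizer (Q : Set G)) :
    ∀ (n : ℕ) (U : Subgroup G), Nat.card U = n → IsPGroup p U →
      P ≤ Subgroup.normalizer (U : Set G) → Q ≤ Subgroup.normalizer (U : Set G) →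
      U ⊓ Subgroup.centralizer (P : Set G) ≤ Subgroup.centralizer (Q : Set G) →
      Q ≤ Subgroup.centralizer (U : Set G) := by
  intro n
  induction n using Nat.strong_induction_on with
  | _ n ih =>
    intro U hn hU hPU hQU hC
    rcases eq_or_ne U ⊥ with rfl | hUb
    · intro x _
      rw [Subgroup.mem_centralizer_iff]
      intro y hy
      rw [Subgroup.mem_bot.1 hy]; simp
    have hco : (Nat.card Q).Coprime (Nat.card U) := by
      obtain ⟨k, hk⟩ := IsPGroup.iff_card.1 hU
      exact hk ▸ hQ.pow_right k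
    have hsol : Group.IsSolvable U := Solv.isSolvable_of_isPGroup hU
    have norm_comm : ∀ (X Y : Subgroup G) (z : G), z ∈ Subgroup.normalizer (X : Set G) →
        z ∈ Subgroup.normalizer (Y : Set G) → z ∈ Subgroup.normalizer ((⁅X, Y⁆ : Subgroup G) : Set G) := by
      intro X Y z hX hY
      refine Solv.mem_normalizer_of_conj_smul ?_
      rw [Solv.conj_smul_eq_map, Subgroup.map_commutator, ← Solv.conj_smul_eq_map,
        ← Solv.conj_smul_eq_map, Solv.conj_smul_of_mem_normalizer hX, Solv.conj_smul_of_mem_normalizer hY]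
    have hQPn : Q ≤ Subgroup.normalizer (P : Set G) :=
      (Subgroup.le_centralizer_iff.1 hPQ).trans (Subgroup.centralizer_le_normalizer (P : Set G))
    have hrec : ∀ W : Subgroup G, W ≤ U → W ≠ U → P ≤ Subgroup.normalizer (W : Set G) →
        Q ≤ Subgroup.normalizer (W : Set G) → Q ≤ Subgroup.centralizer (W : Set G) := by
      intro W hW hWne h1 h2
      exact ih _ (hn ▸ Solv.card_lt_of_lt (lt_of_le_of_ne hW hWne)) W rfl (hU.to_le hW) h1 h2
        ((inf_le_inf_right _ hW).trans hC)
    obtain ⟨hUQ, -, hQUQ⟩ := Solv.commutator_normal_in hQU (A := Q) (K := U)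
    by_cases hne : ⁅U, Q⁆ = U
    swap
    · have h1 := hrec _ hUQ hne (fun z hz => norm_comm U Q z (hPU hz)
        ((hPQ.trans (Subgroup.centralizer_le_normalizer (Q : Set G))) hz)) hQUQ
      have h2 : ⁅⁅U, Q⁆, Q⁆ = ⊥ := by
        rw [Subgroup.commutator_eq_bot_iff_le_centralizer]
        exact Subgroup.le_centralizer_iff.1 h1
      rw [Solv.commutator_commutator_eq hQU hco (Or.inr hsol),
        Subgroup.commutator_eq_bot_iff_le_centralizer] at h2
      exact Subgroup.le_centralizer_iff.1 h2
    obtain ⟨hUP, -, hPUP⟩ := Solv.commutator_normal_in hPU (A := P) (K := U)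
    have hlt : ⁅U, P⁆ ≠ U := fun e =>
      Fusion.not_le_commutator_pgroup (S := U ⊔ P) (by
        rw [sup_comm]; exact hP.to_sup_of_normal_right' hU hPU) le_sup_left hUb
        (e.ge.trans (Subgroup.commutator_mono le_rfl le_sup_right))
    have h1 := hrec _ hUP hlt hPUP (fun z hz => norm_comm U P z (hQU hz) (hQPn hz))
    have h2 : ⁅⁅Q, U⁆, P⁆ = ⊥ := by
      refine Subgroup.commutator_commutator_eq_bot_of_rotate ?_ ?_
      · rw [Subgroup.commutator_eq_bot_iff_le_centralizer]
        exact Subgroup.le_centralizer_iff.1 h1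
      · rw [Subgroup.commutator_eq_bot_iff_le_centralizer.2 hPQ]
        rw [eq_bot_iff, Subgroup.commutator_le]
        intro x hx y _
        rw [Subgroup.mem_bot.1 hx]; simp
    rw [Subgroup.commutator_comm Q U, hne, Subgroup.commutator_eq_bot_iff_le_centralizer] at h2
    exact Subgroup.le_centralizer_iff.1 ((le_inf le_rfl h2).trans hC)

/-- Thompson's P × Q Lemma: let a p-subgroup P and a subgroup Q of order prime to p centralise each other and normalise a p-subgroup U; if every element of U fixed by P is fixed by Q, then Q centralises U. -/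
theorem result {G : Type*} [Group G] [Finite G] (p : ℕ) [Fact p.Prime]
    (P Q U : Subgroup G) (hP : IsPGroup p P) (hQ : (Nat.card Q).Coprime p) (hU : IsPGroup p U)
    (hPQ : P ≤ Subgroup.centralizer (Q : Set G))
    (hPU : P ≤ Subgroup.normalizer (U : Set G)) (hQU : Q ≤ Subgroup.normalizer (U : Set G))
    (hC : U ⊓ Subgroup.centralizer (P : Set G) ≤ Subgroup.centralizer (Q : Set G)) :
    Q ≤ Subgroup.centralizer (U : Set G) := by
  exact aux p P Q hP hQ hPQ _ U rfl hU hPU hQU hC

end Cfsg.Agent.S0028
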