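import Cfsg.Statements.S0029
import Cfsg.Agent.Lib.Solv.Coprime

set_option autoImplicit false
open Cfsg

namespace Cfsg.Agent.S0029

/-- An action that is trivial on the Frattini quotient and coprime on the Frattini subgroup is trivial: if A normalises K, the orders of A and of the Frattini subgroup of K are coprime, and every commutator of an element of A with an element of K lies in the Frattini subgroup of K, then A centralises K. -/
theorem result {G : Type*} [Group G] [Finite G] (A K : Subgroup G)
    (hAK : A ≤ Subgroup.normalizer (K : Set G))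
    (hcop : (Nat.card A).Coprime (Nat.card (frattini K)))
    (htriv : ∀ a ∈ A, ∀ k ∈ K, a * k * a⁻¹ * k⁻¹ ∈ (frattini K).map K.subtype) :
    A ≤ Subgroup.centralizer (K : Set G) := by
  intro a ha
  rw [Subgroup.mem_centralizer_iff]
  set F := (frattini K).map K.subtype with hF
  set B := Subgroup.zpowers a with hB
  have hBA : B ≤ A := Subgroup.zpowers_le.2 ha
  have hBn : B ≤ Subgroup.normalizer (F : Set G) := by
    intro b hb
    rw [Subgroup.mem_normalizer_iff]
    have key : ∀ b ∈ A, ∀ x ∈ F, b * x * b⁻¹ ∈ F := by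
      intro b hb x hx
      have := mul_mem (htriv b hb x (Subgroup.map_subtype_le _ hx)) hx
      rwa [inv_mul_cancel_right] at this
    refine fun x => ⟨fun hx => key b (hBA hb) x hx, fun hx => ?_⟩
    have := key b⁻¹ (A.inv_mem (hBA hb)) _ hx
    rwa [show b⁻¹ * (b * x * b⁻¹) * b⁻¹⁻¹ = x by group] at this
  have hco : (Nat.card B).Coprime (Nat.card F) := by
    rw [hF, Solv.card_map_subtype]
    exact hcop.coprime_dvd_left (Subgroup.card_dvd_of_le hBA)
  have hcyc : Group.IsSolvable B :=
    Group.isSolvable_of_comm fun x y => (IsMulCommutative.is_comm.comm x y)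
  have htop : Subgroup.centralizer ({a} : Set G) ⊓ K ⊔ F = K := by
    refine le_antisymm (sup_le inf_le_right (Subgroup.map_subtype_le _)) fun k hk => ?_
    have hFK : ∀ y ∈ F, y ∈ K := fun y hy => Subgroup.map_subtype_le _ hy
    obtain ⟨d, hd, hn⟩ := Solv.exists_fixed_in_coset B F hBn hco (Or.inl hcyc) (x := k)
      (fun b hb => by
        obtain ⟨z, hz, hzz⟩ := htriv b (hBA hb) k hk
        have hFn : ((frattini K).map K.subtype) = F := rfl
        have h := Subgroup.mem_map_of_mem K.subtype
          ((inferInstance : (frattini K).Normal).conj_mem z hz ⟨k, hk⟩⁻¹)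
        rw [hFn] at h
        simp only [map_mul, map_inv, inv_inv, Subgroup.coe_subtype] at h
        simp only [Subgroup.coe_subtype] at hzz
        rw [hzz] at h
        rwa [show k⁻¹ * (b * k * b⁻¹ * k⁻¹) * k = k⁻¹ * (b * k * b⁻¹) by group] at h)
    have hkd : k * d ∈ K := mul_mem hk (hFK d hd)
    have hcom : a * (k * d) * a⁻¹ * (k * d)⁻¹ ∈ F := htriv a ha _ hkd
    have h2 : a * (k * d) * a⁻¹ * (k * d)⁻¹ ∈ B :=
      by
      rw [show a * (k * d) * a⁻¹ * (k * d)⁻¹ = a * ((k * d) * a⁻¹ * (k * d)⁻¹) by group]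
      exact B.mul_mem (Subgroup.mem_zpowers a)
        (Solv.conj_mem_of_mem_normalizer hn (B.inv_mem (Subgroup.mem_zpowers a)))
    have h3 : a * (k * d) * a⁻¹ * (k * d)⁻¹ = 1 :=
      Subgroup.mem_bot.1 (Solv.coprime_inf hco ▸ ⟨h2, hcom⟩)
    have h4 : k * d ∈ Subgroup.centralizer ({a} : Set G) := by
      rw [Subgroup.mem_centralizer_singleton_iff]
      rw [mul_inv_eq_one, mul_inv_eq_iff_eq_mul] at h3
      exact h3.symm
    have := mul_mem (Subgroup.mem_sup_left ⟨h4, hkd⟩ : _ ∈ Subgroup.centralizer ({a} : Set G) ⊓ K ⊔ F)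
      (inv_mem (Subgroup.mem_sup_right hd))
    rwa [mul_inv_cancel_right] at this
  have hC : (Subgroup.centralizer ({a} : Set G)).subgroupOf K = ⊤ := by
    refine frattini_nongenerating (Subgroup.map_injective K.subtype_injective ?_)
    rw [Subgroup.map_sup, Subgroup.subgroupOf_map_subtype, ← MonoidHom.range_eq_map,
      Subgroup.range_subtype]
    exact htop
  intro k hk
  have := Subgroup.subgroupOf_eq_top.1 hC hk
  exact Subgroup.mem_centralizer_singleton_iff.1 this

end Cfsg.Agent.S0029
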