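import Cfsg.Statements.S0030
import Cfsg.Agent.Lib.Solv.Coprime

set_option autoImplicit false
open Cfsg

namespace Cfsg.Agent.S0030

/-- Under coprime action fixed points of a product of two invariant subgroups factor: if K = X Y with X and Y normalised by A then every A-fixed element of K is a product of an A-fixed element of X and an A-fixed element of Y. -/
theorem result {G : Type*} [Group G] [Finite G] (A K : Subgroup G) (hAK : A ≤ Subgroup.normalizer (K : Set G))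
    (hcop : (Nat.card A).Coprime (Nat.card K)) (hsolv : Group.IsSolvable A ∨ Group.IsSolvable K)
    (X Y : Subgroup G) (hX : X ≤ K) (hY : Y ≤ K) (hXA : A ≤ Subgroup.normalizer (X : Set G)) (hYA : A ≤ Subgroup.normalizer (Y : Set G))
    (hXY : ∀ k ∈ K, ∃ x ∈ X, ∃ y ∈ Y, k = x * y) (k : G) (hk : k ∈ K ⊓ Subgroup.centralizer (A : Set G)) :
    ∃ x ∈ X ⊓ Subgroup.centralizer (A : Set G), ∃ y ∈ Y ⊓ Subgroup.centralizer (A : Set G), k = x * y := by
  obtain ⟨x, hx, y, hy, rfl⟩ := hXY k hk.1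
  have hfix : ∀ a ∈ A, x⁻¹ * (a * x * a⁻¹) ∈ X ⊓ Y := by
    intro a ha
    have hc : a * (x * y) = x * y * a := Subgroup.mem_centralizer_iff.1 hk.2 a ha
    refine ⟨mul_mem (X.inv_mem hx) (Solv.conj_mem_of_mem_normalizer (hXA ha) hx), ?_⟩
    have e : x⁻¹ * (a * x * a⁻¹) = y * (a * y * a⁻¹)⁻¹ := by
      rw [mul_inv_rev, mul_inv_rev, inv_inv]
      have : a * x * a⁻¹ = x * y * a * y⁻¹ * a⁻¹ := by rw [← hc]; group
      rw [this]; group
    rw [e]
    exact mul_mem hy (Y.inv_mem (Solv.conj_mem_of_mem_normalizer (hYA ha) hy))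
  have hA : A ≤ Subgroup.normalizer ((X ⊓ Y : Subgroup G) : Set G) := fun a ha => by
    refine Solv.mem_normalizer_of_conj_smul ?_
    rw [Subgroup.smul_inf, Solv.conj_smul_of_mem_normalizer (hXA ha),
      Solv.conj_smul_of_mem_normalizer (hYA ha)]
  obtain ⟨c, hc, hcd⟩ := Solv.exists_fixed_in_coset' A K (X ⊓ Y) hAK hcop hsolv
    (inf_le_left.trans hX) hA (hX hx) hfix
  have hcX : c ∈ X := by
    have := mul_mem hx hcd.1
    rwa [mul_inv_cancel_left] at this
  have hd : c⁻¹ * (x * y) ∈ Y := by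
    rw [show c⁻¹ * (x * y) = (x⁻¹ * c)⁻¹ * y by group]
    exact mul_mem (Y.inv_mem hcd.2) hy
  exact ⟨c, ⟨hcX, hc.2⟩, c⁻¹ * (x * y), ⟨hd, mul_mem (Subgroup.inv_mem _ hc.2) hk.2⟩, by group⟩

end Cfsg.Agent.S0030
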