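import Cfsg.Statements.S0031
import Cfsg.Agent.Lib.Solv.Cores

set_option autoImplicit false
open Cfsg

open scoped Pointwise commutatorElement

namespace Cfsg.Agent.S0031

/-- A fixed-point-free automorphism of a finite group maps some Sylow p-subgroup to itself. -/
theorem result {G : Type*} [Group G] [Finite G] (φ : G ≃* G)
    (hφ : MonoidHom.FixedPointFree (φ : G →* G)) (p : ℕ) [Fact p.Prime] :
    ∃ P : Sylow p G, (P : Subgroup G).map (φ : G →* G) = P := by
  obtain ⟨P⟩ : Nonempty (Sylow p G) := inferInstance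
  have hsyl : ∃ g : G, (P : Subgroup G).map (φ : G →* G) = MulAut.conj g • (P : Subgroup G) := by
    obtain ⟨g, hg⟩ := MulAction.exists_smul_eq G P
      (P.mapSurjective (f := (φ : G →* G)) φ.surjective)
    exact ⟨g, (congrArg Sylow.toSubgroup hg).symm⟩
  obtain ⟨g, hg⟩ := hsyl
  obtain ⟨x, hx⟩ := (MonoidHom.FixedPointFree.commutatorMap_surjective hφ) g⁻¹
  refine ⟨x⁻¹ • P, ?_⟩
  show (MulAut.conj x⁻¹ • (P : Subgroup G)).map (φ : G →* G) = MulAut.conj x⁻¹ • (P : Subgroup G)
  rw [Solv.map_conj_smul, hg, Solv.conj_smul_conj]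
  congr 2
  have hx' : x / φ x = g⁻¹ := hx
  rw [div_eq_mul_inv] at hx'
  simp only [MonoidHom.coe_coe, map_inv]
  have : (φ x)⁻¹ = x⁻¹ * g⁻¹ := by rw [← hx']; group
  rw [this]; group

end Cfsg.Agent.S0031
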