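import Cfsg.Statements.S0032
import Cfsg.Agent.Lib.Solv.Cores

set_option autoImplicit false
open Cfsg

open scoped Pointwise commutatorElement

namespace Cfsg.Agent.S0032

/-- If an automorphism of a finite group fixes only the identity and maps a normal subgroup N into itself, then the only cosets of N it fixes are those in N: a fixed coset xN forces x ∈ N. -/
theorem result {G : Type*} [Group G] [Finite G] (φ : G ≃* G)
    (hφ : MonoidHom.FixedPointFree (φ : G →* G)) (N : Subgroup G) [N.Normal] (hN : ∀ n ∈ N, φ n ∈ N)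
    (x : G) (hx : (φ x)⁻¹ * x ∈ N) : x ∈ N := by
  obtain ⟨n, hn⟩ : ∃ n : N, (φ n)⁻¹ * (n : G) = (φ x)⁻¹ * x := by
    have hinj : Function.Injective fun n : N => (⟨(φ n)⁻¹ * (n : G),
        N.mul_mem (N.inv_mem (hN n n.2)) n.2⟩ : N) := by
      intro a b hab
      have h : (φ a)⁻¹ * (a : G) = (φ b)⁻¹ * (b : G) := congrArg Subtype.val hab
      refine Subtype.ext (eq_of_mul_inv_eq_one (hφ _ ?_))
      show φ ((a : G) * (b : G)⁻¹) = _
      rw [map_mul, map_inv]
      rw [inv_mul_eq_iff_eq_mul, ← mul_assoc, ← mul_inv_eq_iff_eq_mul] at h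
      exact h.symm
    obtain ⟨n, hn⟩ := (Finite.injective_iff_surjective.1 hinj) ⟨_, hx⟩
    exact ⟨n, congrArg Subtype.val hn⟩
  have : x = (n : G) := by
    refine eq_of_mul_inv_eq_one (hφ _ ?_)
    show φ (x * (n : G)⁻¹) = _
    rw [map_mul, map_inv]
    have e : φ x = x * (n : G)⁻¹ * φ (n : G) := by
      rw [inv_mul_eq_iff_eq_mul] at hn
      conv_rhs => arg 1; arg 2; rw [hn]
      group
    rw [e]; group
  rw [this]; exact n.2

end Cfsg.Agent.S0032
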