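import Cfsg.Statements.S0033
import Cfsg.Agent.Lib.Solv.ThompsonFPF
import Mathlib.GroupTheory.SemidirectProduct

set_option autoImplicit false
open Cfsg

open scoped Pointwise commutatorElement

namespace Cfsg.Agent.S0033

/-- Thompson's Theorem on fixed-point-free automorphisms: a finite group with an automorphism of prime order fixing only the identity is nilpotent. -/
theorem result {G : Type*} [Group G] [Finite G] (φ : G ≃* G)
    (hφ : MonoidHom.FixedPointFree (φ : G →* G)) (p : ℕ) (hp : p.Prime) (hord : orderOf φ = p) :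
    Group.IsNilpotent G := by
  let A : Subgroup (MulAut G) := Subgroup.zpowers φ
  let Γ := G ⋊[A.subtype] A
  have : Finite Γ := Finite.of_equiv _ SemidirectProduct.equivProd.symm
  let x : Γ := SemidirectProduct.inr ⟨φ, Subgroup.mem_zpowers φ⟩
  let K : Subgroup Γ := (SemidirectProduct.inl : G →* Γ).range
  have hxr : x ^ p = 1 := by
    show (SemidirectProduct.inr (⟨φ, _⟩ : A) : Γ) ^ p = 1
    rw [← map_pow, ← hord]
    have h : (⟨φ, Subgroup.mem_zpowers φ⟩ : A) ^ orderOf φ = 1 := Subtype.ext (pow_orderOf_eq_one φ)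
    rw [h, map_one]
  have hconj : ∀ g : G, x * SemidirectProduct.inl g * x⁻¹ = SemidirectProduct.inl (φ g) := fun g => by
    show (SemidirectProduct.inr (⟨φ, _⟩ : A) : Γ) * SemidirectProduct.inl g * (SemidirectProduct.inr _)⁻¹ = _
    rw [← map_inv]
    exact (SemidirectProduct.inl_aut (φ := A.subtype) ⟨φ, Subgroup.mem_zpowers φ⟩ g).symm
  have hxK : x ∈ Subgroup.normalizer (K : Set Γ) := by
    refine Solv.mem_normalizer_of_conj_smul (Subgroup.eq_of_le_of_card_ge ?_ (by rw [Solv.card_conj_smul]))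
    rw [Solv.conj_smul_eq_map]
    rintro _ ⟨_, ⟨g, rfl⟩, rfl⟩
    exact ⟨φ g, (hconj g).symm⟩
  have hfix : K ⊓ Subgroup.centralizer {x} = ⊥ := by
    rw [eq_bot_iff]
    rintro _ ⟨⟨g, rfl⟩, hg⟩
    have h1 := hconj g
    rw [← Subgroup.mem_centralizer_singleton_iff.1 hg, mul_inv_cancel_right] at h1
    have h2 : φ g = g := (SemidirectProduct.inl_injective h1).symm
    rw [hφ g h2, map_one]
    exact Subgroup.one_mem _
  have := Solv.fpf_nilpotent K x hp hxr hxK hfix
  exact Group.nilpotent_of_mulEquiv (MonoidHom.ofInjective (f := (SemidirectProduct.inl : G →* Γ)) SemidirectProduct.inl_injective).symm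

end Cfsg.Agent.S0033
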