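import Cfsg.Statements.S0038
import Cfsg.Agent.Lib.Solv.FrobeniusFPF

set_option autoImplicit false
open Pointwise
open Cfsg

open scoped Pointwise commutatorElement

namespace Cfsg.Agent.S0038

theorem main {G : Type*} [Group G] [Finite G] (H H₀ : Subgroup G)
    (hH : Cfsg.IsFrobeniusComplement H) (hH₀ : Cfsg.IsFrobeniusComplement H₀)
    (hle : Nat.card H₀ ≤ Nat.card H) : ∃ g : G, MulAut.conj g • H₀ = H := by
  obtain ⟨g, hg⟩ := Solv.frob_le_conj hH H₀ (Solv.frob_disjoint_kernel hH hH₀ hle)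
  refine ⟨g⁻¹, ?_⟩
  by_contra hne
  obtain ⟨V, a, hV, hVc, hVN, hfpf⟩ := Solv.frob_exists_fpf hH
  -- move `H₀` inside the fixed-point-free conjugate
  set H' := MulAut.conj a • H
  set K := MulAut.conj (a * g⁻¹) • H₀
  have hKH : K ≤ H' := by
    have h2 := (Subgroup.pointwise_smul_le_pointwise_smul_iff (a := MulAut.conj (a * g⁻¹))).2 hg
    rwa [Solv.conj_smul_conj, inv_mul_cancel_right] at h2
  have hK := Solv.frob_conj hH₀ (a * g⁻¹)
  refine Solv.fpf_not_frobenius hV hVN hfpf _ (Solv.frob_inter (L := H') hK ?_ fun h => hne ?_)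
  · rw [inf_eq_right.2 hKH]; exact hK.1
  · have e := congrArg (fun S : Subgroup G => MulAut.conj a⁻¹ • S) (le_antisymm hKH h : K = H')
    simp only [K, H', Solv.conj_smul_conj, inv_mul_cancel_left, inv_mul_cancel,
      Solv.conj_one_smul] at e
    exact e

/-- All Frobenius complements of a finite group are conjugate to one another. -/
theorem result {G : Type*} [Group G] [Finite G] (H H₀ : Subgroup G)
    (hH : Cfsg.IsFrobeniusComplement H) (hH₀ : Cfsg.IsFrobeniusComplement H₀) :
    ∃ g : G, MulAut.conj g • H₀ = H := by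
  rcases le_total (Nat.card H₀) (Nat.card H) with hle | hle
  · exact main H H₀ hH hH₀ hle
  · obtain ⟨g, hg⟩ := main H₀ H hH₀ hH hle
    exact ⟨g⁻¹, by rw [← hg, Solv.conj_smul_conj, inv_mul_cancel, Solv.conj_one_smul]⟩

end Cfsg.Agent.S0038
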