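import Cfsg.Statements.S0040
import Cfsg.Agent.S0041
import Cfsg.Agent.Lib.Solv.UniqueSub
import Cfsg.Agent.Lib.Solv.Coprime

set_option autoImplicit false
open Cfsg

open scoped Pointwise commutatorElement

namespace Cfsg.Agent.S0040

theorem comm_mem {G : Type*} [Group G] [Finite G] {K H : Subgroup G} [K.Normal] (hK : K ≠ ⊥)
    (hfpf : ∀ h ∈ H, h ≠ 1 → K ⊓ Subgroup.centralizer {h} = ⊥)
    {p : ℕ} [Fact p.Prime] {x y : G} (hxH : x ∈ H) (hyH : y ∈ H) (hx : x ^ p = 1) (hy : y ^ p = 1)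
    (hy1 : y ≠ 1) (hxy : x * y = y * x) : x ∈ Subgroup.zpowers y := by
  set A := Subgroup.closure ({x, y} : Set G) with hA
  have hAH : A ≤ H := (Subgroup.closure_le _).2 (by rintro _ (rfl | rfl) <;> assumption)
  have hcom : ∀ u ∈ ({x, y} : Set G), ∀ v ∈ ({x, y} : Set G), u * v = v * u := by
    rintro _ (rfl | rfl) _ (rfl | rfl) <;> first | rfl | exact hxy | exact hxy.symm
  have hAc : ∀ u ∈ A, ∀ v ∈ A, u * v = v * u := by
    intro u hu v hv
    have h1 : A ≤ Subgroup.centralizer ({x, y} : Set G) :=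
      (Subgroup.closure_le _).2 fun t ht => Subgroup.mem_centralizer_iff.2 fun s hs => hcom s hs t ht
    have h2 : ({x, y} : Set G) ⊆ Subgroup.centralizer (A : Set G) := fun s hs =>
      Subgroup.mem_centralizer_iff.2 fun t ht => (Subgroup.mem_centralizer_iff.1 (h1 ht) s hs).symm
    exact (Subgroup.mem_centralizer_iff.1 ((Subgroup.closure_le _).2 h2 hu) v hv).symm
  have hexp : ∀ u ∈ A, u ^ p = 1 := by
    intro u hu
    induction hu using Subgroup.closure_induction with
    | mem t ht => rcases ht with rfl | rfl <;> assumption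
    | one => simp
    | mul a b ha hb iha ihb => rw [(show Commute a b from hAc a ha b hb).mul_pow, iha, ihb, mul_one]
    | inv a ha iha => rw [inv_pow, iha, inv_one]
  have hfA : ∀ a ∈ A, a ≠ 1 → K ⊓ Subgroup.centralizer {a} = ⊥ := fun a ha => hfpf a (hAH ha)
  have hAK : A ≤ Subgroup.normalizer (K : Set G) := by
    rw [Subgroup.normalizer_eq_top]; exact le_top
  obtain ⟨q, hq, hqK⟩ := Nat.exists_prime_and_dvd (n := Nat.card K)
    (fun h => hK (Subgroup.card_eq_one.1 h))
  have := Fact.mk hq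
  letI : CommGroup A := { (inferInstance : Group A) with
    mul_comm := fun a b => Subtype.ext (hAc a a.2 b b.2) }
  have hsol : Group.IsSolvable A := inferInstance
  obtain ⟨Q, hQ, hAQ⟩ := Solv.exists_invariant_sylow hAK (Solv.fpf_coprime hAK hfA) (Or.inl hsol) q
  set V := Q ⊓ Subgroup.centralizer (Q : Set G) with hV
  have : IsMulCommutative V :=
    ⟨⟨fun a b => Subtype.ext (Subgroup.mem_centralizer_iff.1 b.2.2 a a.2.1)⟩⟩
  have hAV : A ≤ Subgroup.normalizer (V : Set G) := by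
    intro a ha
    have hn := hAQ ha
    rw [Subgroup.mem_normalizer_iff] at hn
    refine Solv.mem_normalizer_of_conj_smul (Subgroup.eq_of_le_of_card_ge ?_
      (by rw [Solv.card_conj_smul]))
    rw [Solv.conj_smul_eq_map]
    rintro _ ⟨v, ⟨hv1, hv2⟩, rfl⟩
    refine ⟨(hn v).1 hv1, Subgroup.mem_centralizer_iff.2 fun w hw => ?_⟩
    show w * (a * v * a⁻¹) = a * v * a⁻¹ * w
    have h' : a⁻¹ * w * a ∈ Q := (hn _).2 (by
      rw [show a * (a⁻¹ * w * a) * a⁻¹ = w by group]; exact hw)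
    have e := Subgroup.mem_centralizer_iff.1 hv2 _ h'
    calc w * (a * v * a⁻¹) = a * (a⁻¹ * w * a * v) * a⁻¹ := by group
      _ = a * (v * (a⁻¹ * w * a)) * a⁻¹ := by rw [e]
      _ = a * v * a⁻¹ * w := by group
  have hVne : V ≠ ⊥ := by
    have hQp : IsPGroup q Q := hQ.isPGroup
    have : Nontrivial Q := by
      apply Finite.one_lt_card_iff_nontrivial.1
      rw [hQ.2]
      exact Nat.one_lt_pow ((hq.factorization_pos_of_dvd Nat.card_pos.ne' hqK).ne') hq.one_lt
    have := hQp.center_nontrivial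
    obtain ⟨⟨z, hz⟩, hz1⟩ := exists_ne (1 : Subgroup.center Q)
    intro h
    have : (z : G) ∈ V := ⟨z.2, Subgroup.mem_centralizer_iff.2 fun w hw =>
      congrArg Subtype.val (Subgroup.mem_center_iff.1 hz ⟨w, hw⟩)⟩
    rw [h, Subgroup.mem_bot] at this
    exact hz1 (Subtype.ext (Subtype.ext this))
  have hVK : V ≤ K := inf_le_left.trans hQ.1
  obtain ⟨⟨⟨g, hg⟩, hgen⟩⟩ := S0041.abelian_cyclic A V hVne hAV
    (fun a ha ha1 => eq_bot_iff.2 ((inf_le_inf_right _ hVK).trans (hfA a ha ha1).le))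
    ⟨⟨fun a b => Subtype.ext (hAc a a.2 b b.2)⟩⟩
  have hAz : A ≤ Subgroup.zpowers g := fun u hu => by
    obtain ⟨k, hk⟩ := hgen ⟨u, hu⟩
    exact ⟨k, congrArg Subtype.val hk⟩
  have hyA : y ∈ A := Subgroup.subset_closure (by simp)
  have hxA : x ∈ A := Subgroup.subset_closure (by simp)
  have he : Subgroup.zpowers y = A := by
    refine Subgroup.eq_of_le_of_card_ge (Subgroup.zpowers_le.2 hyA)
      ((Subgroup.card_le_of_le hAz).trans ?_)
    rw [Nat.card_zpowers, Nat.card_zpowers, orderOf_eq_prime hy hy1]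
    exact Nat.le_of_dvd (Fact.out : p.Prime).pos (orderOf_dvd_of_pow_eq_one (hexp g hg))
  rw [he]; exact hxA

theorem unique_order {G : Type*} [Group G] [Finite G] (K H : Subgroup G) [K.Normal] (hK : K ≠ ⊥)
    (hfpf : ∀ h ∈ H, h ≠ 1 → K ⊓ Subgroup.centralizer {h} = ⊥) (p : ℕ) [Fact p.Prime]
    (P : Subgroup H) (hP : IsPGroup p P) : Solv.UniqueOrderP p P := by
  intro x y hx hy hy1
  have hpr : p.Prime := Fact.out
  have key : ∀ u v : P, u ^ p = 1 → v ^ p = 1 → v ≠ 1 → u * v = v * u → u ∈ Subgroup.zpowers v := by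
    intro u v hu hv hv1 huv
    obtain ⟨k, hk⟩ := comm_mem hK hfpf (u : H).2 (v : H).2
      (congrArg (fun t : P => ((t : H) : G)) hu) (congrArg (fun t : P => ((t : H) : G)) hv)
      (fun e => hv1 (Subtype.ext (Subtype.ext e))) (congrArg (fun t : P => ((t : H) : G)) huv)
    exact ⟨k, Subtype.ext (Subtype.ext hk)⟩
  have : Nontrivial P := ⟨⟨y, 1, hy1⟩⟩
  have hnt := hP.center_nontrivial
  obtain ⟨z₀, hz₀⟩ := exists_prime_orderOf_dvd_card' (G := Subgroup.center P) p (by
    obtain ⟨k, hk⟩ := IsPGroup.iff_card.mp (hP.to_subgroup (Subgroup.center P))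
    rw [hk]
    refine dvd_pow_self p fun h0 => ?_
    rw [h0, pow_zero] at hk
    have := Finite.one_lt_card (α := Subgroup.center P)
    omega)
  rw [← orderOf_submonoid z₀] at hz₀
  set z : P := (z₀ : P)
  have hz : z ^ p = 1 := orderOf_dvd_iff_pow_eq_one.1 hz₀.dvd
  have hz1 : z ≠ 1 := fun e => by rw [e, orderOf_one] at hz₀; exact hpr.ne_one hz₀.symm
  have hc : ∀ u, u * z = z * u := fun u => Subgroup.mem_center_iff.1 z₀.2 u
  obtain ⟨i, rfl⟩ := key x z hx hz hz1 (hc x)
  exact Subgroup.zpow_mem _ (key z y hz hy hy1 (hc y).symm) i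

/-- Sylow subgroups of Frobenius complements: if H complements a nontrivial normal subgroup K and every nonidentity element of H has trivial centraliser in K, then each Sylow subgroup of H is cyclic or isomorphic to a generalized quaternion group. -/
theorem result {G : Type*} [Group G] [Finite G] (K H : Subgroup G) [K.Normal]
    (hc : Subgroup.IsComplement' K H) (hK : K ≠ ⊥) (hfpf : ∀ h ∈ H, h ≠ 1 → K ⊓ Subgroup.centralizer {h} = ⊥)
    (p : ℕ) [Fact p.Prime] (P : Sylow p H) :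
    IsCyclic P ∨ ∃ n : ℕ, Nonempty (P ≃* QuaternionGroup (2 ^ n)) := by
  rcases Solv.cyclic_or_quaternion P.isPGroup' (unique_order K H hK hfpf p P P.isPGroup') with h | ⟨-, h⟩
  · exact Or.inl h
  · exact Or.inr h

end Cfsg.Agent.S0040
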