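import Cfsg.Statements.S0047
import Cfsg.Agent.Lib.Solv.Basic

set_option autoImplicit false
open Cfsg

open scoped Pointwise commutatorElement

namespace Cfsg.Agent.S0047

theorem comm_mem {G : Type*} [Group G] {A : Subgroup G} [IsMulCommutative A] {x y : G}
    (hx : x ∈ A) (hy : y ∈ A) : x * y = y * x :=
  congrArg Subtype.val ((IsMulCommutative.is_comm (M := A)).comm ⟨x, hx⟩ ⟨y, hy⟩)

theorem ito {G : Type*} [Group G] (A B : Subgroup G) [IsMulCommutative A] [IsMulCommutative B]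
    (hAB : ∀ g : G, ∃ a ∈ A, ∃ b ∈ B, g = a * b) : Group.IsSolvable G := by
  have hBA : ∀ g : G, ∃ b ∈ B, ∃ a ∈ A, g = b * a := fun g => by
    obtain ⟨a, ha, b, hb, h⟩ := hAB g⁻¹
    exact ⟨b⁻¹, B.inv_mem hb, a⁻¹, A.inv_mem ha, by rw [← inv_inv g, h, mul_inv_rev]⟩
  set S : Set G := {z | ∃ a ∈ A, ∃ b ∈ B, ⁅a, b⁆ = z} with hS
  have key : ∀ a ∈ A, ∀ b ∈ B, ∀ c ∈ A, ∀ d ∈ B,
      c * d * ⁅a, b⁆ * (c * d)⁻¹ = d * c * ⁅a, b⁆ * (d * c)⁻¹ := by
    intro a ha b hb c hc d hd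
    obtain ⟨b₁, hb₁, a₁, ha₁, h1⟩ := hBA (c * b * c⁻¹)
    obtain ⟨a₂, ha₂, b₂, hb₂, h2⟩ := hAB (d * a * d⁻¹)
    have eC : ∀ x ∈ A, c * ⁅x, b⁆ * c⁻¹ = ⁅x, b₁⁆ := by
      intro x hx
      have e0 : c * ⁅x, b⁆ * c⁻¹ = (c * x * c⁻¹) * (c * b * c⁻¹) * (c * x * c⁻¹)⁻¹ *
          (c * b * c⁻¹)⁻¹ := by rw [commutatorElement_def]; group
      rw [e0, h1, comm_mem hc hx, mul_inv_cancel_right, commutatorElement_def, mul_inv_rev,
        ← mul_assoc x b₁ a₁]
      rw [show x * b₁ * a₁ * x⁻¹ * (a₁⁻¹ * b₁⁻¹) = x * b₁ * (a₁ * x⁻¹) * a₁⁻¹ * b₁⁻¹ by group,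
        comm_mem ha₁ (A.inv_mem hx)]
      group
    have eD : ∀ y ∈ B, d * ⁅a, y⁆ * d⁻¹ = ⁅a₂, y⁆ := by
      intro y hy
      have e0 : d * ⁅a, y⁆ * d⁻¹ = (d * a * d⁻¹) * (d * y * d⁻¹) * (d * a * d⁻¹)⁻¹ *
          (d * y * d⁻¹)⁻¹ := by rw [commutatorElement_def]; group
      rw [e0, h2, comm_mem hd hy, mul_inv_cancel_right, commutatorElement_def, mul_inv_rev,
        show a₂ * b₂ * y * (b₂⁻¹ * a₂⁻¹) = a₂ * (b₂ * y) * b₂⁻¹ * a₂⁻¹ by group,
        comm_mem hb₂ hy]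
      group
    calc c * d * ⁅a, b⁆ * (c * d)⁻¹ = c * (d * ⁅a, b⁆ * d⁻¹) * c⁻¹ := by group
      _ = ⁅a₂, b₁⁆ := by rw [eD b hb, eC a₂ ha₂]
      _ = d * (c * ⁅a, b⁆ * c⁻¹) * d⁻¹ := by rw [eC a ha, eD b₁ hb₁]
      _ = d * c * ⁅a, b⁆ * (d * c)⁻¹ := by group
  set M := Subgroup.closure S with hM
  have hMab : ∀ x ∈ M, ∀ y ∈ M, x * y = y * x := by
    have hle : M ≤ Subgroup.centralizer (M : Set G) := by
      rw [hM, Subgroup.centralizer_closure, Subgroup.closure_le]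
      rintro x ⟨a, ha, b, hb, rfl⟩
      rw [SetLike.mem_coe, Subgroup.mem_centralizer_iff]
      rintro y ⟨c, hc, d, hd, rfl⟩
      have h := key a ha b hb c⁻¹ (A.inv_mem hc) d⁻¹ (B.inv_mem hd)
      have h2 : ⁅c, d⁆ * (c⁻¹⁻¹ * d⁻¹⁻¹)⁻¹⁻¹⁻¹ = ⁅c, d⁆ * (c * d)⁻¹ := by group
      generalize ⁅a, b⁆ = z at h ⊢
      have : ⁅c, d⁆ = c * d * (c⁻¹ * d⁻¹) := by rw [commutatorElement_def]; group
      rw [this]
      calc c * d * (c⁻¹ * d⁻¹) * z = c * d * (c⁻¹ * d⁻¹ * z * (c⁻¹ * d⁻¹)⁻¹) * (c⁻¹ * d⁻¹) := by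
            group
        _ = z * (c * d * (c⁻¹ * d⁻¹)) := by rw [h]; group
    exact fun x hx y hy => (Subgroup.mem_centralizer_iff.1 (hle hy) x hx)
  have hMn : M.Normal := by
    rw [← Subgroup.normalizer_eq_top_iff, ← top_le_iff]
    intro g _
    have genA : ∀ c ∈ A, ∀ x ∈ M, c * x * c⁻¹ ∈ M := by
      intro c hc x hx
      induction hx using Subgroup.closure_induction with
      | mem x hx =>
        obtain ⟨a, ha, b, hb, rfl⟩ := hx
        have e : c * ⁅a, b⁆ * c⁻¹ = ⁅c * a, b⁆ * ⁅c, b⁆⁻¹ := by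
          simp only [commutatorElement_def]; group
        rw [e]
        exact mul_mem (Subgroup.subset_closure ⟨_, mul_mem hc ha, b, hb, rfl⟩)
          (inv_mem (Subgroup.subset_closure ⟨c, hc, b, hb, rfl⟩))
      | one => simp
      | mul x y _ _ hx hy =>
        rw [show c * (x * y) * c⁻¹ = c * x * c⁻¹ * (c * y * c⁻¹) by group]
        exact mul_mem hx hy
      | inv x _ hx =>
        rw [show c * x⁻¹ * c⁻¹ = (c * x * c⁻¹)⁻¹ by group]
        exact inv_mem hx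
    have genB : ∀ d ∈ B, ∀ x ∈ M, d * x * d⁻¹ ∈ M := by
      intro d hd x hx
      induction hx using Subgroup.closure_induction with
      | mem x hx =>
        obtain ⟨a, ha, b, hb, rfl⟩ := hx
        have e : d * ⁅a, b⁆ * d⁻¹ = ⁅a, d⁆⁻¹ * ⁅a, d * b⁆ := by
          simp only [commutatorElement_def]; group
        rw [e]
        exact mul_mem (inv_mem (Subgroup.subset_closure ⟨a, ha, d, hd, rfl⟩))
          (Subgroup.subset_closure ⟨a, ha, _, mul_mem hd hb, rfl⟩)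
      | one => simp
      | mul x y _ _ hx hy =>
        rw [show d * (x * y) * d⁻¹ = d * x * d⁻¹ * (d * y * d⁻¹) by group]
        exact mul_mem hx hy
      | inv x _ hx =>
        rw [show d * x⁻¹ * d⁻¹ = (d * x * d⁻¹)⁻¹ by group]
        exact inv_mem hx
    have gen : ∀ g : G, ∀ x ∈ M, g * x * g⁻¹ ∈ M := by
      intro g x hx
      obtain ⟨a, ha, b, hb, rfl⟩ := hAB g
      rw [show a * b * x * (a * b)⁻¹ = a * (b * x * b⁻¹) * a⁻¹ by group]
      exact genA a ha _ (genB b hb x hx)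
    rw [Subgroup.mem_normalizer_iff]
    refine fun x => ⟨gen g x, fun hx => ?_⟩
    have := gen g⁻¹ _ hx
    rwa [show g⁻¹ * (g * x * g⁻¹) * g⁻¹⁻¹ = x by group] at this
  have hMs : Group.IsSolvable M :=
    Group.isSolvable_of_comm fun x y => Subtype.ext (hMab x x.2 y y.2)
  have hQ : Group.IsSolvable (G ⧸ M) := by
    refine Group.isSolvable_of_comm fun p q => ?_
    obtain ⟨x, rfl⟩ := QuotientGroup.mk_surjective p
    obtain ⟨y, rfl⟩ := QuotientGroup.mk_surjective q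
    have cAB : ∀ a ∈ A, ∀ b ∈ B, Commute (a : G ⧸ M) (b : G ⧸ M) := by
      intro a ha b hb
      have : ((⁅a, b⁆ : G) : G ⧸ M) = 1 :=
        (QuotientGroup.eq_one_iff _).2 (Subgroup.subset_closure ⟨a, ha, b, hb, rfl⟩)
      rw [commutatorElement_def, QuotientGroup.mk_mul, QuotientGroup.mk_mul, QuotientGroup.mk_mul,
        QuotientGroup.mk_inv, QuotientGroup.mk_inv, ← commutatorElement_def,
        commutatorElement_eq_one_iff_mul_comm] at this
      exact this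
    obtain ⟨a, ha, b, hb, rfl⟩ := hAB x
    obtain ⟨a', ha', b', hb', rfl⟩ := hAB y
    have c1 : Commute (a : G ⧸ M) (a' : G ⧸ M) := by
      show (a : G ⧸ M) * a' = a' * a
      rw [← QuotientGroup.mk_mul, comm_mem ha ha', QuotientGroup.mk_mul]
    have c2 : Commute (b : G ⧸ M) (b' : G ⧸ M) := by
      show (b : G ⧸ M) * b' = b' * b
      rw [← QuotientGroup.mk_mul, comm_mem hb hb', QuotientGroup.mk_mul]
    exact ((c1.mul_left (cAB a' ha' b hb).symm).mul_right ((cAB a ha b' hb').mul_left c2)).eq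
  exact (Group.isSolvable_iff_subgroup_quotient M).2 ⟨hMs, hQ⟩

/-- A finite group which is the product AB of two abelian subgroups A and B is solvable. -/
theorem result {G : Type*} [Group G] [Finite G] (A B : Subgroup G)
    [IsMulCommutative A] [IsMulCommutative B] (hAB : ∀ g : G, ∃ a ∈ A, ∃ b ∈ B, g = a * b) :
    Group.IsSolvable G := by
  exact ito A B hAB

end Cfsg.Agent.S0047
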