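import Cfsg.Statements.S0048
import Cfsg.Agent.Lib.Solv.Cores

set_option autoImplicit false
open Cfsg

open scoped Pointwise commutatorElement

namespace Cfsg.Agent.S0048

theorem index_primePow : ∀ (n : ℕ) {G : Type _} [Group G] [Finite G], Nat.card G = n →
    Group.IsSolvable G → ∀ M : Subgroup G, IsCoatom M → IsPrimePow M.index := by
  intro n
  induction n using Nat.strong_induction_on with
  | _ n ih =>
    intro G _ _ hn hG M hM
    subst hn
    have : Nontrivial G := by
      by_contra h
      rw [not_nontrivial_iff_subsingleton] at h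
      exact hM.1 (Subsingleton.elim _ _)
    obtain ⟨N, hN, hNb, hmin⟩ := Solv.exists_minimal_normal (G := G)
    by_cases hNM : N ≤ M
    · have hk : (QuotientGroup.mk' N).ker ≤ M := by rwa [QuotientGroup.ker_mk']
      have hc : IsCoatom (M.map (QuotientGroup.mk' N)) := by
        refine ⟨fun h => hM.1 ?_, fun K hK => ?_⟩
        · rw [← Subgroup.index_eq_one, ← Subgroup.index_map_eq _ (QuotientGroup.mk'_surjective N) hk,
            h, Subgroup.index_top]
        · have h1 : M < K.comap (QuotientGroup.mk' N) := by
            refine lt_of_le_of_ne (Subgroup.map_le_iff_le_comap.1 hK.le) fun e => hK.ne ?_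
            rw [e, Subgroup.map_comap_eq_self_of_surjective (QuotientGroup.mk'_surjective N)]
          rw [← Subgroup.map_comap_eq_self_of_surjective (QuotientGroup.mk'_surjective N) K,
            hM.2 _ h1, Subgroup.map_top_of_surjective _ (QuotientGroup.mk'_surjective N)]
      have := ih _ (Solv.card_quotient_lt N hNb) rfl
        (Group.isSolvable_of_surjective (QuotientGroup.mk'_surjective N)) _ hc
      rwa [Subgroup.index_map_eq _ (QuotientGroup.mk'_surjective N) hk] at this
    · obtain ⟨-, p, hp, -, hpg⟩ :=
        Solv.minimal_normal_elementaryAbelian N inferInstance hNb hmin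
      have := Fact.mk hp
      obtain ⟨k, hk⟩ := IsPGroup.iff_card.1 hpg
      have htop : N ⊔ M = ⊤ := hM.2 _ (lt_of_le_of_ne le_sup_right fun e => hNM (e ▸ le_sup_left))
      have h := Solv.card_sup_mul_card_inf N M
      rw [htop, Subgroup.card_top, ← M.card_mul_index] at h
      have hd : M.index ∣ p ^ k := by
        refine ⟨Nat.card (N ⊓ M : Subgroup G), ?_⟩
        refine Nat.eq_of_mul_eq_mul_left (Nat.card_pos (α := M)) ?_
        rw [← hk, ← mul_assoc, h, mul_comm]
      obtain ⟨i, -, hi⟩ := (Nat.dvd_prime_pow hp).1 hd
      refine ⟨p, i, hp.prime, ?_, hi.symm⟩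
      rcases Nat.eq_zero_or_pos i with h0 | h0
      · exact absurd (Subgroup.index_eq_one.1 (by rw [hi, h0, pow_zero])) hM.1
      · exact h0

/-- In a finite solvable group every maximal subgroup has index a prime power. -/
theorem result {G : Type*} [Group G] [Finite G] [Group.IsSolvable G]
    (M : Subgroup G) (hM : IsCoatom M) : IsPrimePow M.index := by
  exact index_primePow _ rfl inferInstance M hM

end Cfsg.Agent.S0048
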