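import Cfsg.Statements.S0049
import Cfsg.Agent.Lib.Solv.Cores
import Cfsg.Agent.Lib.Solv.SZ

set_option autoImplicit false
open Cfsg

open scoped Pointwise commutatorElement

namespace Cfsg.Agent.S0049

/-- A prime divisor of the order of a finite group also divides the index of the Frattini subgroup. -/
theorem result {G : Type*} [Group G] [Finite G] (p : ℕ) (hp : p.Prime) (hdvd : p ∣ Nat.card G) :
    p ∣ (frattini G).index := by
  have := Fact.mk hp
  by_contra hnd
  obtain ⟨P⟩ : Nonempty (Sylow p G) := inferInstance
  obtain ⟨Q⟩ : Nonempty (Sylow p (frattini G)) := inferInstance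
  have key : ∀ (q : ℕ) (_hq : Fact q.Prime) (R : Sylow q (frattini G)),
      (R : Subgroup (frattini G)).Normal :=
    ((Group.isNilpotent_of_finite_tfae (G := frattini G)).out 0 3).1 frattini_nilpotent
  have hQn : (Q : Subgroup (frattini G)).Normal := key p ⟨hp⟩ Q
  have hQc : (Q : Subgroup (frattini G)).Characteristic := Q.characteristic_of_normal hQn
  set A := (Q : Subgroup (frattini G)).map (frattini G).subtype with hA
  have hAn : A.Normal := inferInstance
  have hAcard : Nat.card A = p ^ (Nat.card G).factorization p := by
    rw [hA, Solv.card_map_subtype, Q.card_eq_multiplicity, ← (frattini G).card_mul_index,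
      Nat.factorization_mul Nat.card_pos.ne' Subgroup.index_ne_zero_of_finite, Finsupp.add_apply,
      Nat.factorization_eq_zero_of_not_dvd hnd, add_zero]
  have hco : (Nat.card A).Coprime A.index := (Sylow.ofCard A hAcard).card_coprime_index
  obtain ⟨C, hC⟩ := Subgroup.exists_right_complement'_of_coprime hco
  have hCtop : C = ⊤ := frattini_nongenerating
    (top_le_iff.1 (hC.sup_eq_top ▸ sup_le ((Subgroup.map_subtype_le _).trans le_sup_right) le_sup_left))
  have h1 := hC.card_mul_card
  rw [hCtop, hAcard, Nat.card_congr (Equiv.Set.univ G) |>.symm] at h1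
  have h2 : p ^ (Nat.card G).factorization p = 1 := by
    simpa [Nat.card_pos.ne'] using h1
  have h3 : 0 < (Nat.card G).factorization p := hp.factorization_pos_of_dvd Nat.card_pos.ne' hdvd
  rw [pow_eq_one_iff] at h2
  exact h2.elim hp.ne_one h3.ne'

end Cfsg.Agent.S0049
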