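import Cfsg.Statements.S0050
import Cfsg.Agent.Lib.Solv.Hall
import Cfsg.Agent.Lib.Solv.SZ

set_option autoImplicit false
open Cfsg

open scoped Pointwise commutatorElement

namespace Cfsg.Agent.S0050

/-- Frattini argument for Hall subgroups: if L is a solvable normal subgroup and H a subgroup of L of order coprime to its index in L, then L together with the normaliser of H generates the whole group. -/
theorem result {G : Type*} [Group G] [Finite G] (L : Subgroup G) [L.Normal] (hL : Group.IsSolvable L)
    (H : Subgroup G) (hHL : H ≤ L) (hHall : (Nat.card H).Coprime (H.relIndex L)) :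
    L ⊔ Subgroup.normalizer (H : Set G) = ⊤ := by
  rw [eq_top_iff]
  intro g _
  have hle : MulAut.conj g • H ≤ L := by
    rw [← Subgroup.Normal.conj_smul_eq_self g L]
    exact Subgroup.pointwise_smul_le_pointwise_smul_iff.2 hHL
  have hG : Nat.card L = Nat.card H * H.relIndex L := by
    rw [Subgroup.relIndex, ← Solv.card_subgroupOf hHL, Subgroup.card_mul_index]
  obtain ⟨l, hl⟩ := Solv.hall_conj hL hG hHall ((MulAut.conj g • H).subgroupOf L) (H.subgroupOf L)
    (by rw [Solv.card_subgroupOf hle, Solv.card_conj_smul]) (Solv.card_subgroupOf hHL)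
  have h2 := Solv.subgroupOf_conj_eq hle hHL l hl
  rw [Solv.conj_smul_conj] at h2
  have h3 : g = (l : G)⁻¹ * ((l : G) * g) := by group
  rw [h3]
  exact Subgroup.mul_mem_sup (L.inv_mem l.2) (Solv.mem_normalizer_of_conj_smul h2)

end Cfsg.Agent.S0050
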