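import Cfsg.Statements.S0052
import Cfsg.Agent.Lib.Solv.Basic

set_option autoImplicit false
open Pointwise
open Cfsg

open scoped Pointwise commutatorElement

namespace Cfsg.Agent.S0052

/-- Gaschütz's Theorem, conjugacy: for an abelian normal subgroup K ≤ U with the order of K coprime to the index of U, two complements of K in G having the same intersection with U are conjugate. -/
theorem result {G : Type*} [Group G] [Finite G] (K U : Subgroup G) [K.Normal] [IsMulCommutative K]
    (hKU : K ≤ U) (hcop : (Nat.card K).Coprime U.index)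
    (H₀ H₁ : Subgroup G) (h₀ : Subgroup.IsComplement' K H₀) (h₁ : Subgroup.IsComplement' K H₁) (hU : H₀ ⊓ U = H₁ ⊓ U) :
    ∃ g : G, MulAut.conj g • H₀ = H₁ := by
  classical
  letI : CommGroup K := { (inferInstance : Group K) with mul_comm := (‹IsMulCommutative K›).is_comm.comm }
  have := Fintype.ofFinite (G ⧸ U)
  have hδ : ∀ h : H₀, ∃ k : K, (k : G) * h ∈ H₁ := by
    intro h
    obtain ⟨⟨k, x⟩, hkx⟩ := h₁.2 (h : G)
    refine ⟨k⁻¹, ?_⟩
    have : (k : G) * x = h := hkx
    rw [← this, Subgroup.coe_inv, inv_mul_cancel_left]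
    exact x.2
  choose δ hδ using hδ
  have huniq : ∀ (h : H₀) (k : K), (k : G) * h ∈ H₁ → k = δ h := by
    intro h k hk
    have h2 : (k : G) * (δ h : G)⁻¹ ∈ K ⊓ H₁ := by
      refine ⟨K.mul_mem k.2 (K.inv_mem (δ h).2), ?_⟩
      rw [show (k : G) * (δ h : G)⁻¹ = (k * h) * ((δ h : G) * h)⁻¹ by group]
      exact H₁.mul_mem hk (H₁.inv_mem (hδ h))
    rw [disjoint_iff.1 h₁.disjoint, Subgroup.mem_bot, mul_inv_eq_one] at h2
    exact Subtype.ext h2
  have hmul : ∀ g h : H₀, δ (g * h) = δ g * MulAut.conjNormal (g : G) (δ h) := by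
    intro g h
    refine (huniq _ _ ?_).symm
    have := H₁.mul_mem (hδ g) (hδ h)
    rw [Subgroup.coe_mul, Subgroup.coe_mul, MulAut.conjNormal_apply]
    rw [show (δ g : G) * ((g : G) * δ h * (g : G)⁻¹) * ((g : G) * h) = (δ g * g) * (δ h * h) by group]
    exact this
  have hA : ∀ a : H₀, (a : G) ∈ U → δ a = 1 := fun a ha => (huniq a 1 (by
    rw [Subgroup.coe_one, one_mul]
    exact (hU.le ⟨a.2, ha⟩).1)).symm
  have hrep : ∀ c : G ⧸ U, ∃ h : H₀, ((h : G) : G ⧸ U) = c := by
    intro c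
    obtain ⟨g, rfl⟩ := QuotientGroup.mk_surjective c
    obtain ⟨⟨k, x⟩, rfl⟩ := h₀.2 g
    refine ⟨x, QuotientGroup.eq.2 ?_⟩
    have := (‹K.Normal›).conj_mem _ k.2 (x : G)⁻¹
    rw [inv_inv, mul_assoc] at this
    exact hKU this
  choose τ hτ using hrep
  set m := ∏ c, δ (τ c) with hm
  obtain ⟨w, hw⟩ := (powCoprime (G := K) hcop).surjective m
  have hw : w ^ U.index = m := hw
  have hkey : ∀ g : H₀, δ g = w * (MulAut.conjNormal (g : G) w)⁻¹ := by
    intro g
    have h1 : ∀ c, δ (τ ((g : G) • c)) = δ g * MulAut.conjNormal (g : G) (δ (τ c)) := by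
      intro c
      rw [← hmul]
      have hu : ((τ ((g : G) • c))⁻¹ * (g * τ c) : H₀).1 ∈ U := by
        rw [Subgroup.coe_mul, Subgroup.coe_inv, Subgroup.coe_mul]
        refine QuotientGroup.eq.1 ?_
        rw [hτ]
        show (g : G) • c = (g : G) • (((τ c : H₀) : G) : G ⧸ U)
        rw [hτ]
      have := hmul (τ ((g : G) • c)) ((τ ((g : G) • c))⁻¹ * (g * τ c))
      rw [mul_inv_cancel_left, hA _ hu, map_one, mul_one] at this
      exact this.symm
    have h2 : m = δ g ^ U.index * MulAut.conjNormal (g : G) m := by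
      conv_lhs => rw [hm, ← Equiv.prod_comp (MulAction.toPerm (g : G))]
      simp only [MulAction.toPerm_apply, h1]
      rw [Finset.prod_mul_distrib, Finset.prod_const, Finset.card_univ, ← Nat.card_eq_fintype_card,
        hm, map_prod]
      rfl
    apply (powCoprime (G := K) hcop).injective
    show δ g ^ U.index = (w * (MulAut.conjNormal (g : G) w)⁻¹) ^ U.index
    rw [mul_pow, inv_pow, ← map_pow, hw, eq_mul_inv_iff_mul_eq, ← h2]
  refine ⟨(w : G), Subgroup.eq_of_le_of_card_ge ?_ (le_of_eq ?_)⟩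
  · rw [Solv.conj_smul_eq_map]
    rintro _ ⟨h, hh, rfl⟩
    show (w : G) * h * (w : G)⁻¹ ∈ H₁
    have := hδ ⟨h, hh⟩
    rw [hkey, Subgroup.coe_mul, Subgroup.coe_inv, MulAut.conjNormal_apply] at this
    convert this using 1
    group
  · rw [Solv.card_conj_smul, ← h₀.symm.index_eq_card, ← h₁.symm.index_eq_card]

end Cfsg.Agent.S0052
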