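import Cfsg.Statements.S0053
import Cfsg.Agent.Lib.Solv.Cores

set_option autoImplicit false
open Cfsg

open scoped Pointwise commutatorElement

namespace Cfsg.Agent.S0053

/-- An abelian minimal normal subgroup N of a finite group is complemented exactly when N is not inside the Frattini subgroup. -/
theorem result {G : Type*} [Group G] [Finite G]
    (N : Subgroup G) [N.Normal] [IsMulCommutative N] (hN : N ≠ ⊥)
    (hmin : ∀ M : Subgroup G, M.Normal → M ≤ N → M = ⊥ ∨ M = N) :
    (∃ H : Subgroup G, Subgroup.IsComplement' N H) ↔ ¬ N ≤ frattini G := by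
  constructor
  · rintro ⟨H, hH⟩ hle
    have htop : H = ⊤ := frattini_nongenerating
      (top_le_iff.1 (hH.sup_eq_top ▸ sup_le (hle.trans le_sup_right) le_sup_left))
    rw [htop, Subgroup.isComplement'_top_right] at hH
    exact hN hH
  · intro hle
    obtain ⟨M, hM, hNM⟩ : ∃ M : Subgroup G, IsCoatom M ∧ ¬ N ≤ M := by
      by_contra h
      simp only [not_exists, not_and, not_not] at h
      exact hle (le_iInf₂ fun M hM => h M hM)
    have htop : N ⊔ M = ⊤ := hM.2 _ (lt_of_le_of_ne le_sup_right fun e => hNM (e ▸ le_sup_left))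
    have hn : (N ⊓ M).Normal := by
      rw [← Subgroup.normalizer_eq_top_iff, ← top_le_iff, ← htop]
      refine sup_le (fun x hx => ?_) (fun x hx => ?_)
      · rw [Subgroup.mem_normalizer_iff]
        intro y
        have hc : ∀ z ∈ N, x * z * x⁻¹ = z := fun z hz => by
          rw [mul_inv_eq_iff_eq_mul]
          exact congrArg Subtype.val ((IsMulCommutative.is_comm (M := N)).comm ⟨x, hx⟩ ⟨z, hz⟩)
        refine ⟨fun hy => by rw [hc y hy.1]; exact hy, fun hy => ?_⟩
        have hy1 : y ∈ N := by
          have := N.mul_mem (N.mul_mem (N.inv_mem hx) hy.1) hx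
          rwa [show x⁻¹ * (x * y * x⁻¹) * x = y by group] at this
        rwa [hc y hy1] at hy
      · refine Solv.mem_normalizer_of_conj_smul ?_
        rw [Subgroup.smul_inf, Subgroup.conj_smul_eq_self_of_mem hx,
          Subgroup.Normal.conj_smul_eq_self]
    rcases hmin (N ⊓ M) hn inf_le_left with h | h
    · refine ⟨M, Subgroup.isComplement'_of_card_mul_and_disjoint ?_ (disjoint_iff.2 h)⟩
      have := Solv.card_sup_of_inf_eq_bot N M h
      rw [htop, Subgroup.card_top] at this
      exact this.symm
    · exact absurd (h ▸ inf_le_right) hNM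

end Cfsg.Agent.S0053
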