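import Cfsg.Statements.S0054
import Cfsg.Agent.Lib.Solv.Cores

set_option autoImplicit false
open Cfsg

open scoped Pointwise commutatorElement

namespace Cfsg.Agent.S0054

theorem regular_normal {G : Type*} [Group G] [Finite G] {X : Type*} [Nonempty X] [MulAction G X]
    (h2 : MulAction.IsMultiplyPretransitive G X 2) (N : Subgroup G) [N.Normal]
    (_htrans : MulAction.IsPretransitive N X) (hreg : ∀ x : X, MulAction.stabilizer N x = ⊥) :
    IsMulCommutative N ∧ ∃ p : ℕ, p.Prime ∧ ∀ n ∈ N, n ^ p = 1 := by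
  rw [MulAction.is_two_pretransitive_iff] at h2
  obtain ⟨x⟩ : Nonempty X := inferInstance
  have hne : ∀ n : N, n ≠ 1 → (n : G) • x ≠ x := fun n hn h => by
    have : n ∈ MulAction.stabilizer N x := h
    rw [hreg x, Subgroup.mem_bot] at this
    exact hn this
  have hinj : ∀ n m : N, (n : G) • x = (m : G) • x → n = m := fun n m h => by
    have : m⁻¹ * n ∈ MulAction.stabilizer N x := by
      show ((m⁻¹ * n : N) : G) • x = x
      rw [Subgroup.coe_mul, mul_smul, h, Subgroup.coe_inv, inv_smul_smul]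
    rw [hreg x, Subgroup.mem_bot, inv_mul_eq_one] at this
    exact this.symm
  have hconj : ∀ n m : N, n ≠ 1 → m ≠ 1 → ∃ g : G, g * n * g⁻¹ = m := fun n m hn hm => by
    obtain ⟨g, hg1, hg2⟩ := h2 (a := x) (b := (n : G) • x) (c := x) (d := (m : G) • x)
      (hne n hn).symm (hne m hm).symm
    refine ⟨g, congrArg Subtype.val (hinj ⟨g * n * g⁻¹, ?_⟩ m ?_)⟩
    · exact (inferInstance : N.Normal).conj_mem n n.2 g
    · show (g * n * g⁻¹) • x = _
      rw [mul_smul, mul_smul]
      conv_lhs => rw [show g⁻¹ • x = x from inv_smul_eq_iff.2 hg1.symm]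
      exact hg2
  by_cases hsub : Subsingleton N
  · refine ⟨⟨⟨fun a b => Subsingleton.elim _ _⟩⟩, 2, Nat.prime_two, fun n hn => ?_⟩
    rw [show n = 1 from congrArg Subtype.val (Subsingleton.elim (⟨n, hn⟩ : N) 1), one_pow]
  rw [not_subsingleton_iff_nontrivial] at hsub
  have hne1 : Nat.card N ≠ 1 := fun h => by
    rw [Nat.card_eq_one_iff_unique] at h
    exact (not_subsingleton_iff_nontrivial.2 hsub) h.1
  obtain ⟨p, hp, hdvd⟩ := Nat.exists_prime_and_dvd hne1
  have := Fact.mk hp
  obtain ⟨n₀, hn₀⟩ := exists_prime_orderOf_dvd_card' p hdvd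
  have hn₀1 : n₀ ≠ 1 := fun h => hp.ne_one (by rw [← hn₀, h, orderOf_one])
  have hpow : ∀ n : N, n ^ p = 1 := fun n => by
    by_cases hn : n = 1
    · rw [hn, one_pow]
    · obtain ⟨g, hg⟩ := hconj n₀ n hn₀1 hn
      have : orderOf (n : G) = p := by
        rw [← hg, ← MulAut.conj_apply, MulEquiv.orderOf_eq, Subgroup.orderOf_coe, hn₀]
      rw [← this, Subgroup.orderOf_coe, pow_orderOf_eq_one]
  have hpg : IsPGroup p N := fun n => ⟨1, by rw [pow_one, hpow]⟩
  refine ⟨?_, p, hp, fun n hn => congrArg Subtype.val (hpow ⟨n, hn⟩)⟩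
  have := hpg.center_nontrivial
  obtain ⟨z, hz⟩ := exists_ne (1 : Subgroup.center N)
  have hzc : ∀ n : N, n ∈ Subgroup.center N := fun n => by
    by_cases hn : n = 1
    · rw [hn]; exact one_mem _
    · obtain ⟨g, hg⟩ := hconj z n (fun h => hz (Subtype.ext h)) hn
      have hnn : ((Subgroup.center N).map N.subtype).Normal := inferInstance
      obtain ⟨c, hc, hce⟩ := hnn.conj_mem _ (Subgroup.mem_map_of_mem N.subtype z.2) g
      have : c = n := Subtype.ext (hce.trans hg)
      rwa [← this]
  exact ⟨⟨fun a b => Subgroup.mem_center_iff.1 (hzc b) a⟩⟩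

/-- A regular normal subgroup of a finite 2-transitive group is elementary abelian: it is commutative and all its elements have order dividing one prime. -/
theorem result {G : Type*} [Group G] [Finite G]
    {X : Type*} [Nonempty X] [MulAction G X] (h2 : MulAction.IsMultiplyPretransitive G X 2)
    (N : Subgroup G) [N.Normal] (htrans : MulAction.IsPretransitive N X) (hreg : ∀ x : X, MulAction.stabilizer N x = ⊥) :
    IsMulCommutative N ∧ ∃ p : ℕ, p.Prime ∧ ∀ n ∈ N, n ^ p = 1 := by
  exact regular_normal h2 N htrans hreg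

end Cfsg.Agent.S0054
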