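import Cfsg.Statements.S0057
import Cfsg.Agent.Lib.Solv.Coprime
import Cfsg.Agent.Lib.Solv.ThreeSolv

set_option autoImplicit false
open Cfsg

open scoped Pointwise commutatorElement

namespace Cfsg.Agent.S0057

/-- Under coprime action, if the centraliser of A in K has prime index p in K then the commutator subgroup [K, A] has order exactly p. -/
theorem result {G : Type*} [Group G] [Finite G] (A K : Subgroup G) (hAK : A ≤ Subgroup.normalizer (K : Set G))
    (hcop : (Nat.card A).Coprime (Nat.card K)) (hsolv : Group.IsSolvable A ∨ Group.IsSolvable K)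
    (p : ℕ) (hp : p.Prime) (hidx : (K ⊓ Subgroup.centralizer (A : Set G)).relIndex K = p) :
    Nat.card (⁅K, A⁆ : Subgroup G) = p := by
  classical
  have := Fact.mk hp
  set C := K ⊓ Subgroup.centralizer (A : Set G) with hC
  have hrK : C.relIndex K = p := hidx
  obtain ⟨P, hP, hPA⟩ := Solv.exists_invariant_sylow hAK hcop hsolv p
  have hcoP : (Nat.card A).Coprime (Nat.card P) :=
    hcop.coprime_dvd_right (Subgroup.card_dvd_of_le hP.1)
  have hPs : Group.IsSolvable P := Solv.isSolvable_of_isPGroup hP.isPGroup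
  have hKC : Nat.card K = Nat.card C * p := by
    have h := Subgroup.relIndex_mul_relIndex ⊥ C K bot_le inf_le_left
    rw [Subgroup.relIndex_bot_left, Subgroup.relIndex_bot_left, hrK] at h
    exact h.symm
  have hPC : ¬ P ≤ C := by
    intro h
    have h1 := Subgroup.card_dvd_of_le h
    rw [hP.2, hKC, Nat.factorization_mul Nat.card_pos.ne' hp.ne_zero, Finsupp.add_apply,
      hp.factorization_self,
      hp.pow_dvd_iff_le_factorization Nat.card_pos.ne'] at h1
    omega
  have hne : C.relIndex K ≠ 0 := by rw [hrK]; exact hp.ne_zero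
  have hr : C.relIndex P = p := by
    have h1 : C.relIndex P ≤ p := hrK ▸ Subgroup.relIndex_le_of_le_right hP.1 hne
    obtain ⟨k, -, hk⟩ := (Nat.dvd_prime_pow hp).1 (hP.2 ▸ Subgroup.relIndex_dvd_card C P)
    rcases Nat.eq_zero_or_pos k with rfl | hk0
    · exact absurd (Subgroup.relIndex_eq_one.1 (by simpa using hk)) hPC
    · exact le_antisymm h1 (hk ▸ Nat.le_self_pow hk0.ne' p)
  have hDn : (C.subgroupOf P).Normal := by
    obtain ⟨k, hk⟩ := IsPGroup.iff_card.1 hP.isPGroup
    refine Subgroup.normal_of_index_eq_minFac_card ?_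
    show C.relIndex P = _
    rw [hr, hk]
    have hk0 : k ≠ 0 := by
      rintro rfl
      rw [pow_zero] at hk
      exact hp.ne_one (hr.symm.trans (Nat.dvd_one.1 (hk ▸ Subgroup.relIndex_dvd_card C P)))
    rw [Nat.pow_minFac hk0, hp.minFac_eq]
  set Q := ⁅P, A⁆ with hQ
  obtain ⟨hQP, hPQ, hAQ⟩ := Solv.commutator_normal_in hPA (A := A) (K := P)
  -- `D` centralises `Q`
  have hQD : ⁅Q, C ⊓ P⁆ = ⊥ := by
    refine Subgroup.commutator_commutator_eq_bot_of_rotate ?_ ?_
    · refine eq_bot_iff.2 (Subgroup.commutator_le.2 fun x hx y hy => ?_)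
      have h0 : ⁅A, C ⊓ P⁆ = ⊥ := by
        rw [Subgroup.commutator_eq_bot_iff_le_centralizer]
        intro a ha
        rw [Subgroup.mem_centralizer_iff]
        intro d hd
        exact (Subgroup.mem_centralizer_iff.1 (hC.le hd.1).2 a ha).symm
      rw [h0, Subgroup.mem_bot] at hx
      subst hx
      simp
    · have hle : ⁅C ⊓ P, P⁆ ≤ C := by
        refine Subgroup.commutator_le.2 fun d hd x hx => ?_
        have h1 := hDn.conj_mem ⟨d⁻¹, hd.2 |> P.inv_mem⟩ (C.inv_mem hd.1) ⟨x, hx⟩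
        have h2 := C.mul_mem hd.1 (Subgroup.mem_subgroupOf.1 h1)
        rw [commutatorElement_def]
        convert h2 using 1
        simp [mul_assoc]
      refine eq_bot_iff.2 ((Subgroup.commutator_mono hle le_rfl).trans (le_of_eq ?_))
      rw [Subgroup.commutator_eq_bot_iff_le_centralizer]
      exact inf_le_right
  -- `Q` is abelian
  have hQcomm : ∀ x ∈ Q, ∀ y ∈ Q, x * y = y * x := by
    intro x hx y hy
    have : IsCyclic (P ⧸ C.subgroupOf P) := isCyclic_of_prime_card (p := p)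
      (by rw [← Subgroup.index_eq_card]; exact hr)
    have h := commutative_of_cyclic_center_quotient
      ((QuotientGroup.mk' (C.subgroupOf P)).comp (Subgroup.inclusion hQP)) (fun z hz => by
        rw [Subgroup.mem_center_iff]
        intro w
        have hz' : (z : G) ∈ C ⊓ P := ⟨(QuotientGroup.eq_one_iff (Subgroup.inclusion hQP z)).1 hz, hQP z.2⟩
        exact Subtype.ext (Subgroup.mem_centralizer_iff.1
          ((Subgroup.commutator_eq_bot_iff_le_centralizer.1 hQD) w.2) _ hz').symm)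
      ⟨x, hx⟩ ⟨y, hy⟩
    exact congrArg Subtype.val h
  -- fixed points in `Q` are trivial
  have hQC : Q ⊓ C = ⊥ := by
    letI : CommGroup Q := { (inferInstance : Group Q) with
      mul_comm := fun x y => Subtype.ext (hQcomm x x.2 y y.2) }
    let := Fintype.ofFinite A
    let φ : A → (Q →* Q) := fun a =>
      ((MulAut.conj (a : G)).toMonoidHom.comp Q.subtype).codRestrict Q fun k =>
        Solv.conj_mem_of_mem_normalizer (hAQ a.2) k.2
    have hφ : ∀ (a : A) (k : Q), ((φ a k : Q) : G) = a * k * (a : G)⁻¹ := fun a k => rfl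
    let N : Q →* Q := ∏ a : A, φ a
    have hN : ∀ x, N x = ∏ a : A, φ a x := fun x => MonoidHom.finsetProd_apply _ _ x
    have hinv : ∀ (b : A) (x : Q), N (φ b x) = N x := by
      intro b x
      rw [hN, hN]
      exact Fintype.prod_equiv (Equiv.mulRight b) (fun a => φ a (φ b x)) (fun a => φ a x)
        fun a => Subtype.ext (by
          simp only [Equiv.coe_mulRight, hφ, Subgroup.coe_mul]
          group)
    have hker : ⁅Q, A⁆ ≤ N.ker.map Q.subtype := by
      refine Subgroup.commutator_le.2 fun x hx a ha => ?_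
      refine ⟨⟨x, hx⟩ * φ ⟨a, ha⟩ ⟨x, hx⟩⁻¹, ?_, ?_⟩
      · show N _ = 1
        rw [map_mul, hinv, ← map_mul, mul_inv_cancel, map_one]
      · show x * (a * x⁻¹ * a⁻¹) = _
        rw [commutatorElement_def]; group
    have e : ⁅Q, A⁆ = Q := Solv.commutator_commutator_eq hPA hcoP (Or.inr hPs)
    rw [eq_bot_iff]
    rintro x ⟨hx, hxC⟩
    obtain ⟨y, hy, rfl⟩ := hker (e.ge hx)
    have h1 : N y = y ^ Nat.card A := by
      rw [hN, Nat.card_eq_fintype_card, ← Finset.card_univ, ← Finset.prod_const]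
      refine Finset.prod_congr rfl fun a _ => Subtype.ext ?_
      rw [hφ]
      have := Subgroup.mem_centralizer_iff.1 (hC.le hxC).2 a a.2
      exact mul_inv_eq_iff_eq_mul.2 this
    rw [show N y = 1 from hy] at h1
    rw [Subgroup.mem_bot]
    have h2 : orderOf y = 1 := Nat.eq_one_of_dvd_coprimes
      (hcoP.coprime_dvd_right (Subgroup.card_dvd_of_le hQP))
      (orderOf_dvd_of_pow_eq_one h1.symm) (orderOf_dvd_natCard y)
    rw [orderOf_eq_one_iff.1 h2]; simp
  have hQb : Q ≠ ⊥ := by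
    intro h
    rw [hQ, Subgroup.commutator_eq_bot_iff_le_centralizer] at h
    exact hPC (le_inf hP.1 h)
  have hQp : Nat.card Q = p := by
    have h1 : C.relIndex Q = Nat.card Q := by
      rw [← Subgroup.inf_relIndex_right, inf_comm, hQC, Subgroup.relIndex_bot_left]
    have h2 : Nat.card Q ≤ p := h1 ▸ hrK ▸ Subgroup.relIndex_le_of_le_right (hQP.trans hP.1) hne
    obtain ⟨k, hk⟩ := IsPGroup.iff_card.1 (hP.isPGroup.to_le hQP)
    rcases Nat.eq_zero_or_pos k with rfl | hk0
    · exact absurd ((Subgroup.card_eq_one (H := Q)).1 (by simpa using hk)) hQb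
    · exact le_antisymm h2 (hk ▸ Nat.le_self_pow hk0.ne' p)
  have hset : ∀ k ∈ K, ∃ q ∈ Q, ∃ c ∈ C, q * c = k := by
    have : (Q : Set G) * (C : Set G) = (K : Set G) := by
      refine Set.eq_of_subset_of_ncard_le ?_ ?_
      · rintro _ ⟨q, hq, c, hc, rfl⟩
        exact K.mul_mem (hP.1 (hQP hq)) hc.1
      · rw [← Nat.card_coe_set_eq, ← Nat.card_coe_set_eq, Solv.card_set_mul _ _ hQC, hQp]
        show Nat.card K ≤ _
        rw [hKC, mul_comm]
    intro k hk
    have hk' : k ∈ (Q : Set G) * (C : Set G) := this ▸ hk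
    exact hk'
  -- `C` normalises `Q`
  obtain ⟨a, ha, q, hq, hqa⟩ : ∃ a ∈ A, ∃ q ∈ Q, a * q * a⁻¹ ≠ q := by
    by_contra hall
    push Not at hall
    refine hQb (eq_bot_iff.2 (hQC ▸ fun q hq => ⟨hq, hP.1 (hQP hq), ?_⟩))
    exact Subgroup.mem_centralizer_iff.2 fun a ha => mul_inv_eq_iff_eq_mul.1 (hall a ha q hq)
  set x := q * (a * q * a⁻¹)⁻¹ with hx
  have hxQ : x ∈ Q := Q.mul_mem hq (Q.inv_mem (Solv.conj_mem_of_mem_normalizer (hAQ ha) hq))
  have hzx : Subgroup.zpowers x = Q := by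
    refine Subgroup.eq_of_le_of_card_ge (Subgroup.zpowers_le.2 hxQ) ?_
    rw [hQp, Nat.card_zpowers]
    have h1 : orderOf x ∣ p := by
      rw [← hQp, ← Subgroup.orderOf_mk x hxQ]; exact orderOf_dvd_natCard _
    rcases (Nat.dvd_prime hp).1 h1 with h | h
    · rw [orderOf_eq_one_iff, hx, mul_inv_eq_one] at h
      exact absurd h.symm hqa
    · exact h.ge
  have hCQ : C ≤ Subgroup.normalizer (Q : Set G) := by
    intro c hc
    obtain ⟨q', hq', c', hc', e⟩ := hset (c * q) (K.mul_mem hc.1 (hP.1 (hQP hq)))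
    refine Solv.mem_normalizer_of_conj_smul (Subgroup.eq_of_le_of_card_ge ?_
      (by rw [Solv.card_conj_smul]))
    conv_lhs => rw [← hzx, Solv.conj_smul_eq_map, MonoidHom.map_zpowers]
    rw [Subgroup.zpowers_le]
    show c * x * c⁻¹ ∈ Q
    have hac : a * c = c * a := Subgroup.mem_centralizer_iff.1 hc.2 a ha
    have hac' : a * c' = c' * a := Subgroup.mem_centralizer_iff.1 hc'.2 a ha
    have e2 : (a * q' * a⁻¹) * c' = c * (a * q * a⁻¹) := by
      calc (a * q' * a⁻¹) * c' = a * q' * (a⁻¹ * (c' * a)) * a⁻¹ := by group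
        _ = a * (q' * c') * a⁻¹ := by rw [← hac']; group
        _ = a * c * (q * a⁻¹) := by rw [e]; group
        _ = c * (a * q * a⁻¹) := by rw [hac]; group
    have e3 : c * x * c⁻¹ = q' * (a * q' * a⁻¹)⁻¹ := by
      calc c * x * c⁻¹ = (c * q) * (c * (a * q * a⁻¹))⁻¹ := by rw [hx]; group
        _ = (q' * c') * ((a * q' * a⁻¹) * c')⁻¹ := by rw [e, e2]
        _ = q' * (a * q' * a⁻¹)⁻¹ := by group
    rw [e3]
    exact Q.mul_mem hq' (Q.inv_mem (Solv.conj_mem_of_mem_normalizer (hAQ ha) hq'))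
  have hle : ⁅K, A⁆ ≤ Q := by
    refine Subgroup.commutator_le.2 fun k hk b hb => ?_
    obtain ⟨q₁, hq₁, c₁, hc₁, rfl⟩ := hset k hk
    have hbc : b * c₁ = c₁ * b := Subgroup.mem_centralizer_iff.1 hc₁.2 b hb
    have : ⁅q₁ * c₁, b⁆ = q₁ * (b * q₁⁻¹ * b⁻¹) := by
      rw [commutatorElement_def, mul_inv_rev, mul_assoc q₁ c₁ b, ← hbc]; group
    rw [this]
    exact Q.mul_mem hq₁ (Solv.conj_mem_of_mem_normalizer (hAQ hb) (Q.inv_mem hq₁))
  rw [le_antisymm hle (Subgroup.commutator_mono hP.1 le_rfl)]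
  exact hQp

end Cfsg.Agent.S0057
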