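import Cfsg.Statements.S0059
import Cfsg.Agent.Lib.Solv.Coprime

set_option autoImplicit false
open Cfsg

open scoped Pointwise commutatorElement

namespace Cfsg.Agent.S0059

/-- Let a finite group act on a set on which a normal subgroup K of coprime order and index is transitive, with K or the quotient solvable. Then any complement H of K has a fixed point, and any two H-fixed points are interchanged by an element of K centralising H. -/
theorem result {G : Type*} [Group G] [Finite G] {X : Type*} [Nonempty X] [MulAction G X]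
    (K H : Subgroup G) [K.Normal] (hc : Subgroup.IsComplement' K H) (hcop : (Nat.card K).Coprime K.index)
    (hsolv : Group.IsSolvable K ∨ Group.IsSolvable (G ⧸ K)) (htrans : MulAction.IsPretransitive K X) :
    (∃ x : X, ∀ h ∈ H, h • x = x) ∧
    ∀ x y : X, (∀ h ∈ H, h • x = x) → (∀ h ∈ H, h • y = y) → ∃ k ∈ K ⊓ Subgroup.centralizer (H : Set G), k • x = y := by
  obtain ⟨x₀⟩ := ‹Nonempty X›
  have hHK : Nat.card H = K.index := hc.symm.index_eq_card.symm
  have hsolKH : ∀ S : Subgroup G, Nat.card S = K.index →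
      Group.IsSolvable K ∨ Group.IsSolvable S := fun S hS => hsolv.imp id fun h => by
    have hdis : S ⊓ K = ⊥ := Solv.coprime_inf (hS ▸ hcop.symm)
    haveI := h
    refine Group.isSolvable_of_isSolvable_injective
      (f := (QuotientGroup.mk' K).comp S.subtype) ?_
    rw [injective_iff_map_eq_one]
    intro s hs
    exact Subtype.ext (Subgroup.mem_bot.1 (hdis ▸ ⟨s.2, (QuotientGroup.eq_one_iff _).1 hs⟩))
  -- complements inside stabilisers
  have key : ∀ x : X, ∀ S : Subgroup G, Nat.card S = K.index → S ≤ MulAction.stabilizer G x →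
      ∀ T : Subgroup G, Nat.card T = K.index → T ≤ MulAction.stabilizer G x →
        ∃ g ∈ K ⊓ MulAction.stabilizer G x, MulAut.conj g • S = T := by
    intro x S hS hSx T hT hTx
    set M := K ⊓ MulAction.stabilizer G x
    have hSM : S ≤ Subgroup.normalizer (M : Set G) := fun s hs => by
      refine Solv.mem_normalizer_of_conj_smul ?_
      rw [Subgroup.smul_inf, Subgroup.Normal.conj_smul_eq_self,
        Subgroup.conj_smul_eq_self_of_mem (hSx hs)]
    refine Solv.sz_conj_rel M S T hSM (fun t ht => ?_)
      ((hS ▸ hcop).coprime_dvd_left (Subgroup.card_dvd_of_le inf_le_left)) (hT.trans hS.symm)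
      ((hsolKH S hS).imp (Solv.isSolvable_of_le inf_le_left) id)
    have ht' : t ∈ ((K ⊔ S : Subgroup G) : Set G) := by
      rw [Solv.sup_eq_top_of_card_eq_index K S hcop hS]; exact Subgroup.mem_top t
    rw [Subgroup.normal_mul] at ht'
    obtain ⟨k, hk, s, hs, rfl⟩ := ht'
    refine Subgroup.mul_mem_sup ⟨hk, ?_⟩ hs
    show k • x = x
    have h1 : (k * s) • x = x := hTx ht
    rwa [mul_smul, show s • x = x from hSx hs] at h1
  obtain ⟨htr⟩ := htrans
  refine ⟨?_, ?_⟩
  · set S₀ := MulAction.stabilizer G x₀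
    have hsup : K ⊔ S₀ = ⊤ := by
      rw [eq_top_iff]
      intro g _
      obtain ⟨k, hk⟩ := htr x₀ (g • x₀)
      rw [show g = (k : G) * ((k : G)⁻¹ * g) by group]
      refine Subgroup.mul_mem_sup k.2 ?_
      show ((k : G)⁻¹ * g) • x₀ = x₀
      rw [mul_smul, ← hk]
      exact inv_smul_smul _ _
    have hidx : (K.subgroupOf S₀).index = K.index := by
      show K.relIndex S₀ = _
      rw [← Subgroup.relIndex_sup_left, hsup, Subgroup.relIndex_top_right]
    obtain ⟨C, hC⟩ := Subgroup.exists_right_complement'_of_coprime (N := K.subgroupOf S₀)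
      (hidx.symm ▸ hcop.coprime_dvd_left (by
        rw [← Solv.card_map_subtype (K.subgroupOf S₀), Subgroup.subgroupOf_map_subtype]
        exact Subgroup.card_dvd_of_le inf_le_left))
    set S := C.map S₀.subtype
    have hS : Nat.card S = K.index := by
      rw [Solv.card_map_subtype, ← hidx, ← hC.symm.index_eq_card]
    obtain ⟨g, -, hg⟩ := Solv.sz_conj K H S hcop hHK hS (hsolKH H hHK)
    refine ⟨g⁻¹ • x₀, fun h hh => ?_⟩
    have : g * h * g⁻¹ ∈ S₀ := Subgroup.map_subtype_le C (hg ▸ Solv.mem_conj_smul.2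
      (by simpa [mul_assoc] using hh) : g * h * g⁻¹ ∈ S)
    have h2 : (g * h * g⁻¹) • x₀ = x₀ := this
    rw [mul_smul, mul_smul] at h2
    exact eq_inv_smul_iff.2 h2
  · intro x y hx hy
    obtain ⟨k, hk⟩ := htr x y
    have hT : MulAut.conj (k : G) • H ≤ MulAction.stabilizer G y := by
      intro t ht
      rw [Solv.mem_conj_smul] at ht
      have := hx _ ht
      rw [mul_smul, mul_smul, inv_smul_eq_iff] at this
      show t • y = y
      rwa [← hk]
    obtain ⟨l, hl, hlk⟩ := key y _ (by rw [Solv.card_conj_smul, hHK]) hT H hHK (fun h hh => hy h hh)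
    rw [Solv.conj_smul_conj] at hlk
    refine ⟨l * k, ⟨K.mul_mem hl.1 k.2, Solv.centralizer_of_normalizes
      (by rw [Subgroup.normalizer_eq_top]; exact le_top) hc.disjoint.eq_bot
      (K.mul_mem hl.1 k.2) (Solv.mem_normalizer_of_conj_smul hlk)⟩, ?_⟩
    rw [mul_smul, show ((k : G)) • x = y from hk]
    exact hl.2

end Cfsg.Agent.S0059
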