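import Cfsg.Statements.S0060
import Cfsg.Agent.Lib.Solv.Cores

set_option autoImplicit false
open Pointwise
open Cfsg

open scoped Pointwise commutatorElement

namespace Cfsg.Agent.S0060

/-- Brodkey's Theorem: in a finite group with abelian Sylow p-subgroups and no nontrivial normal p-subgroup, some conjugate of a Sylow p-subgroup meets it trivially. -/
theorem result {G : Type*} [Group G] [Finite G] (p : ℕ) [Fact p.Prime]
    (S : Sylow p G) (hS : IsMulCommutative S) (hOp : Cfsg.pCore p G = ⊥) :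
    ∃ g : G, (S : Subgroup G) ⊓ MulAut.conj g • (S : Subgroup G) = ⊥ := by
  by_contra hne
  push Not at hne
  obtain ⟨g, hg⟩ : ∃ g : G, ∀ h : G,
      Nat.card ((S : Subgroup G) ⊓ MulAut.conj g • (S : Subgroup G) : Subgroup G) ≤
        Nat.card ((S : Subgroup G) ⊓ MulAut.conj h • (S : Subgroup G) : Subgroup G) := by
    have := Fintype.ofFinite G
    obtain ⟨g, -, hg⟩ := Finset.exists_min_image (Finset.univ : Finset G)
      (fun h => Nat.card ((S : Subgroup G) ⊓ MulAut.conj h • (S : Subgroup G) : Subgroup G))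
      Finset.univ_nonempty
    exact ⟨g, fun h => hg h (Finset.mem_univ h)⟩
  set Q := g • S with hQ
  set D := (S : Subgroup G) ⊓ (Q : Subgroup G) with hD
  have hQs : (Q : Subgroup G) = MulAut.conj g • (S : Subgroup G) := rfl
  have hQab : ∀ a ∈ (Q : Subgroup G), ∀ b ∈ (Q : Subgroup G), a * b = b * a := by
    intro a ha b hb
    rw [hQs, Solv.mem_conj_smul] at ha hb
    have := congrArg Subtype.val (hS.is_comm.comm ⟨_, ha⟩ ⟨_, hb⟩)
    calc a * b = g * ((g⁻¹ * a * g) * (g⁻¹ * b * g)) * g⁻¹ := by group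
      _ = g * ((g⁻¹ * b * g) * (g⁻¹ * a * g)) * g⁻¹ := by
        rw [show (g⁻¹ * a * g) * (g⁻¹ * b * g) = (g⁻¹ * b * g) * (g⁻¹ * a * g) from this]
      _ = b * a := by group
  set L := Subgroup.centralizer (D : Set G) with hL
  have hSL : (S : Subgroup G) ≤ L := by
    intro a ha
    rw [hL, Subgroup.mem_centralizer_iff]
    intro d hd
    exact congrArg Subtype.val (hS.is_comm.comm ⟨d, hd.1⟩ ⟨a, ha⟩)
  have hQL : (Q : Subgroup G) ≤ L := by
    intro a ha
    rw [hL, Subgroup.mem_centralizer_iff]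
    exact fun d hd => hQab d hd.2 a ha
  -- `D` lies in every Sylow subgroup
  have key : ∀ R : Sylow p G, D ≤ (R : Subgroup G) := by
    intro R
    obtain ⟨T, hT⟩ := IsPGroup.exists_le_sylow (p := p) (R.2.comap_subtype (K := L))
    obtain ⟨n, hn⟩ := MulAction.exists_smul_eq L (S.subtype hSL) T
    have h1 : (R : Subgroup G) ⊓ L ≤ MulAut.conj (n : G) • (S : Subgroup G) := by
      intro x hx
      have h2 : (⟨x, hx.2⟩ : L) ∈ (T : Subgroup L) := hT hx.1
      rw [← hn, Sylow.smul_subtype] at h2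
      exact h2
    have hnD : ∀ x : G, x ∈ MulAut.conj (n : G) • D → x ∈ D := by
      intro x hx
      rw [Solv.mem_conj_smul] at hx
      have hcm := Subgroup.mem_centralizer_iff.1 (n.2 : (n : G) ∈ L) _ hx
      have e : x = (n : G)⁻¹ * x * n := by
        have h3 : (n : G)⁻¹ * x * n * n = x * n := by rw [hcm]; group
        exact (mul_right_cancel h3).symm
      rwa [e]
    set Q' := (n : G) • Q with hQ'
    have hQ'L : (Q' : Subgroup G) ≤ L := by
      show MulAut.conj (n : G) • (Q : Subgroup G) ≤ L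
      exact (Subgroup.pointwise_smul_le_pointwise_smul_iff.2 hQL).trans
        (Subgroup.conj_smul_eq_self_of_mem (n.2 : (n : G) ∈ L)).le
    have hle : (R : Subgroup G) ⊓ (Q' : Subgroup G) ≤ D := by
      intro x hx
      refine hnD x ?_
      rw [hD, Subgroup.smul_inf]
      exact ⟨h1 ⟨hx.1, hQ'L hx.2⟩, hx.2⟩
    obtain ⟨r, hr⟩ := MulAction.exists_smul_eq G S R
    obtain ⟨r', hr'⟩ := MulAction.exists_smul_eq G S Q'
    have hc : Nat.card D ≤ Nat.card ((R : Subgroup G) ⊓ (Q' : Subgroup G) : Subgroup G) := by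
      refine (hg (r⁻¹ * r')).trans_eq ?_
      rw [← hr, ← hr', Sylow.coe_subgroup_smul, Sylow.coe_subgroup_smul,
        ← Solv.card_conj_smul r ((S : Subgroup G) ⊓ MulAut.conj (r⁻¹ * r') • (S : Subgroup G)),
        Subgroup.smul_inf, Solv.conj_smul_conj, mul_inv_cancel_left]
    exact (Subgroup.eq_of_le_of_card_ge hle hc).ge.trans inf_le_left
  have hcore : D ≤ pCore p G := by
    have hn : (Subgroup.normalClosure (D : Set G)).Normal := inferInstance
    refine Subgroup.le_normalClosure.trans (Solv.normal_le_pCore (S.2.to_le ?_))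
    rw [Subgroup.normalClosure, Subgroup.closure_le]
    intro y hy
    obtain ⟨d, hd, hdy⟩ := Group.mem_conjugatesOfSet_iff.1 hy
    obtain ⟨c, rfl⟩ := isConj_iff.1 hdy
    have := key (c⁻¹ • S) hd
    rw [Sylow.coe_subgroup_smul, Solv.mem_conj_smul, inv_inv] at this
    exact this
  refine hne g (eq_bot_iff.2 ?_)
  rw [← hOp]
  exact hcore

end Cfsg.Agent.S0060
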