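import Cfsg.Statements.S0063
import Cfsg.Agent.Lib.Solv.Cores

set_option autoImplicit false
open Cfsg

open scoped Pointwise commutatorElement

namespace Cfsg.Agent.S0063

theorem class_le (p : ℕ) [Fact p.Prime] : ∀ (k : ℕ) {G : Type*} [Group G] [Finite G],
    Nat.card G = k → ∀ e : ℕ, Nat.card G = p ^ e → Group.nilpotencyClass G ≤ max 1 (e - 1) := by
  intro k
  induction k using Nat.strong_induction_on with
  | _ k ih =>
    intro H _ _ hk e he
    subst hk
    have hp : IsPGroup p H := IsPGroup.of_card he
    have := hp.isNilpotent
    by_cases hab : Group.nilpotencyClass H ≤ 1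
    · exact hab.trans (le_max_left _ _)
    have hnt : Nontrivial H := by
      by_contra hn
      rw [not_nontrivial_iff_subsingleton] at hn
      exact hab (by rw [Group.nilpotencyClass_zero_iff_subsingleton.2 hn]; omega)
    rw [Group.nilpotencyClass_eq_quotient_center_plus_one]
    have hlt := Solv.card_quotient_lt (Subgroup.center H) (Group.IsNilpotent.center_ne_bot H)
    obtain ⟨e', he'⟩ := IsPGroup.iff_card.1 (hp.to_quotient (Subgroup.center H))
    have h1 := ih _ hlt (G := H ⧸ Subgroup.center H) rfl e' he'
    have h2 : e' < e := by
      rw [he', he] at hlt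
      exact (Nat.pow_lt_pow_iff_right (Fact.out : p.Prime).one_lt).1 hlt
    have h3 : 2 ≤ e' := by
      by_contra h3
      have hc : IsCyclic (H ⧸ Subgroup.center H) := by
        rcases (show e' = 0 ∨ e' = 1 by omega) with rfl | rfl
        · have : Subsingleton (H ⧸ Subgroup.center H) := by
            rw [pow_zero] at he'
            exact (Nat.card_eq_one_iff_unique.1 he').1
          exact isCyclic_of_subsingleton
        · rw [pow_one] at he'
          exact isCyclic_of_prime_card he'
      refine hab ?_
      rw [Group.IsNilpotent.nilpotencyClass_le_one_iff]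
      exact ⟨⟨commutative_of_cyclic_center_quotient (QuotientGroup.mk' (Subgroup.center H))
        (QuotientGroup.ker_mk' _).le⟩⟩
    omega

/-- A finite group of prime-power order p ^ m with m > 1 is nilpotent of class at most m - 1. -/
theorem result {G : Type*} [Group G] [Finite G] (p m : ℕ) [Fact p.Prime]
    (hG : Nat.card G = p ^ m) (hm : 1 < m) : Group.nilpotencyClass G ≤ m - 1 := by
  have := class_le p _ (G := G) rfl m hG
  omega

end Cfsg.Agent.S0063
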