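import Cfsg.Statements.S0064
import Cfsg.Agent.Lib.Solv.Subnormal

set_option autoImplicit false
open Cfsg

open scoped Pointwise commutatorElement

namespace Cfsg.Agent.S0064

/-- A finite group is nilpotent exactly when each of its subgroups is subnormal. -/
theorem result {G : Type*} [Group G] [Finite G] :
    Group.IsNilpotent G ↔ ∀ H : Subgroup G, H.IsSubnormal := by
  refine ⟨fun h => Solv.isSubnormal_of_isNilpotent, fun h => ?_⟩
  have hnc : NormalizerCondition G := fun H hH => by
    rcases Subgroup.IsSubnormal.iff_eq_top_or_exists.1 (h H) with e | ⟨K, hlt, -, hKn⟩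
    · exact absurd e hH.ne
    · exact lt_of_lt_of_le hlt ((Subgroup.normal_subgroupOf_iff_le_normalizer hlt.le).1 hKn)
  exact ((Group.isNilpotent_of_finite_tfae (G := G)).out 0 1).2 hnc

end Cfsg.Agent.S0064
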