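import Cfsg.Statements.S0068
import Cfsg.Agent.Lib.Solv.Basic

set_option autoImplicit false
open Cfsg

open scoped Pointwise commutatorElement

namespace Cfsg.Agent.S0068

/-- Frobenius complements of even order: if H complements a nontrivial normal subgroup K, each nonidentity element of H has trivial centraliser in K, and H has even order, then H contains a unique involution s, K is abelian, and s inverts every element of K. -/
theorem result {G : Type*} [Group G] [Finite G] (K H : Subgroup G) [K.Normal]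
    (hc : Subgroup.IsComplement' K H) (hK : K ≠ ⊥) (hfpf : ∀ h ∈ H, h ≠ 1 → K ⊓ Subgroup.centralizer {h} = ⊥)
    (heven : 2 ∣ Nat.card H) :
    (∃ s ∈ H, orderOf s = 2 ∧ (∀ t ∈ H, orderOf t = 2 → t = s) ∧ ∀ k ∈ K, s * k * s⁻¹ = k⁻¹) ∧ IsMulCommutative K := by
  have hp2 : Fact (Nat.Prime 2) := ⟨Nat.prime_two⟩
  have inverts : ∀ s ∈ H, orderOf s = 2 → ∀ k ∈ K, s * k * s⁻¹ = k⁻¹ := by
    intro s hs hs2
    have hs1 : s ≠ 1 := fun e => by rw [e, orderOf_one] at hs2; omega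
    have hss : s * s = 1 := by rw [← pow_two, ← hs2, pow_orderOf_eq_one]
    have hsi : s⁻¹ = s := inv_eq_of_mul_eq_one_right hss
    have hmem : ∀ k : K, (k : G)⁻¹ * (s * k * s⁻¹) ∈ K := fun k =>
      K.mul_mem (K.inv_mem k.2) ((inferInstance : K.Normal).conj_mem _ k.2 s)
    let φ : K → K := fun k => ⟨_, hmem k⟩
    have hinj : Function.Injective φ := by
      intro a b e
      have e' : (a : G)⁻¹ * (s * a * s⁻¹) = (b : G)⁻¹ * (s * b * s⁻¹) := congrArg Subtype.val e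
      have h1 : s * ((b : G) * (a : G)⁻¹) = (b : G) * (a : G)⁻¹ * s := by
        calc s * ((b : G) * (a : G)⁻¹)
            = b * ((b : G)⁻¹ * (s * b * s⁻¹)) * (s * (a : G)⁻¹) := by group
          _ = b * ((a : G)⁻¹ * (s * a * s⁻¹)) * (s * (a : G)⁻¹) := by rw [e']
          _ = (b : G) * (a : G)⁻¹ * s := by group
      have h2 : (b : G) * (a : G)⁻¹ ∈ K ⊓ Subgroup.centralizer {s} :=
        ⟨K.mul_mem b.2 (K.inv_mem a.2), Subgroup.mem_centralizer_singleton_iff.2 h1.symm⟩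
      rw [hfpf s hs hs1, Subgroup.mem_bot, mul_inv_eq_one] at h2
      exact Subtype.ext h2.symm
    intro k hk
    obtain ⟨x, hx⟩ := (Finite.injective_iff_surjective.1 hinj) ⟨k, hk⟩
    have hxk : (x : G)⁻¹ * (s * x * s⁻¹) = k := congrArg Subtype.val hx
    rw [← hxk, mul_inv_rev, inv_inv, hsi]
    calc s * ((x : G)⁻¹ * (s * x * s)) * s = s * (x : G)⁻¹ * s * x * (s * s) := by group
      _ = s * (x : G)⁻¹ * s * x := by rw [hss, mul_one]
      _ = (s * x * s)⁻¹ * x := by simp only [mul_inv_rev, hsi, mul_assoc]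
  obtain ⟨s, hs⟩ := exists_prime_orderOf_dvd_card' 2 heven
  rw [← Subgroup.orderOf_coe] at hs
  refine ⟨⟨s, s.2, hs, fun t ht ht2 => ?_, inverts s s.2 hs⟩, ⟨⟨fun a b => Subtype.ext ?_⟩⟩⟩
  · by_contra hne
    obtain ⟨k, hk⟩ := (Subgroup.ne_bot_iff_exists_ne_one.1 hK)
    have hne1 : t⁻¹ * s ≠ 1 := fun e => hne (inv_mul_eq_one.1 e)
    have h1 : (k : G) ∈ K ⊓ Subgroup.centralizer {t⁻¹ * (s : G)} := by
      refine ⟨k.2, Subgroup.mem_centralizer_singleton_iff.2 ?_⟩
      have e1 := inverts s s.2 hs k k.2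
      have e2 := inverts t ht ht2 k k.2
      have e3 : t⁻¹ * (k : G)⁻¹ * t = k := by rw [← e2]; group
      have e4 : (s : G) * k = (k : G)⁻¹ * s := by rw [← e1]; group
      calc (k : G) * (t⁻¹ * s) = (t⁻¹ * (k : G)⁻¹ * t) * (t⁻¹ * s) := by rw [e3]
        _ = t⁻¹ * ((k : G)⁻¹ * s) := by group
        _ = t⁻¹ * s * k := by rw [← e4]; group
    rw [hfpf _ (H.mul_mem (H.inv_mem ht) s.2) hne1, Subgroup.mem_bot] at h1
    exact hk (Subtype.ext h1)
  · have e := fun k hk => inverts (s : G) s.2 hs k hk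
    have h1 : ((a : G) * b)⁻¹ = (a : G)⁻¹ * (b : G)⁻¹ := by
      rw [← e _ (K.mul_mem a.2 b.2), ← e _ a.2, ← e _ b.2]; group
    have h2 := congrArg (·⁻¹) h1
    simpa using h2

end Cfsg.Agent.S0068
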