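import Cfsg.Statements.S0069
import Cfsg.Agent.S0040
import Cfsg.Agent.Lib.Solv.Coprime
import Mathlib.GroupTheory.SpecificGroups.ZGroup

set_option autoImplicit false
open Cfsg

open scoped Pointwise commutatorElement

namespace Cfsg.Agent.S0069

theorem exists_invariant_abelian {G : Type*} [Group G] [Finite G] (K A : Subgroup G) [K.Normal]
    (hK : K ≠ ⊥) (hsol : Group.IsSolvable A)
    (hfpf : ∀ a ∈ A, a ≠ 1 → K ⊓ Subgroup.centralizer {a} = ⊥) :
    ∃ V : Subgroup G, V ≤ K ∧ V ≠ ⊥ ∧ IsMulCommutative V ∧ A ≤ Subgroup.normalizer (V : Set G) := by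
  have hAK : A ≤ Subgroup.normalizer (K : Set G) := by
    rw [Subgroup.normalizer_eq_top]; exact le_top
  obtain ⟨q, hq, hqK⟩ := Nat.exists_prime_and_dvd (n := Nat.card K)
    (fun h => hK (Subgroup.card_eq_one.1 h))
  have := Fact.mk hq
  obtain ⟨Q, hQ, hAQ⟩ := Solv.exists_invariant_sylow hAK (Solv.fpf_coprime hAK hfpf) (Or.inl hsol) q
  refine ⟨Q ⊓ Subgroup.centralizer (Q : Set G), inf_le_left.trans hQ.1, ?_,
    ⟨⟨fun a b => Subtype.ext (Subgroup.mem_centralizer_iff.1 b.2.2 a a.2.1)⟩⟩, ?_⟩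
  · have hQp : IsPGroup q Q := hQ.isPGroup
    have : Nontrivial Q := by
      apply Finite.one_lt_card_iff_nontrivial.1
      rw [hQ.2]
      exact Nat.one_lt_pow ((hq.factorization_pos_of_dvd Nat.card_pos.ne' hqK).ne') hq.one_lt
    have := hQp.center_nontrivial
    obtain ⟨⟨z, hz⟩, hz1⟩ := exists_ne (1 : Subgroup.center Q)
    intro h
    have : (z : G) ∈ Q ⊓ Subgroup.centralizer (Q : Set G) :=
      ⟨z.2, Subgroup.mem_centralizer_iff.2 fun w hw =>
        congrArg Subtype.val (Subgroup.mem_center_iff.1 hz ⟨w, hw⟩)⟩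
    rw [h, Subgroup.mem_bot] at this
    exact hz1 (Subtype.ext (Subtype.ext this))
  · intro a ha
    have hn := Subgroup.mem_normalizer_iff.1 (hAQ ha)
    refine Solv.mem_normalizer_of_conj_smul (Subgroup.eq_of_le_of_card_ge ?_
      (by rw [Solv.card_conj_smul]))
    rw [Solv.conj_smul_eq_map]
    rintro _ ⟨v, ⟨hv1, hv2⟩, rfl⟩
    refine ⟨(hn v).1 hv1, Subgroup.mem_centralizer_iff.2 fun w hw => ?_⟩
    show w * (a * v * a⁻¹) = a * v * a⁻¹ * w
    have h' : a⁻¹ * w * a ∈ Q := (hn _).2 (by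
      rw [show a * (a⁻¹ * w * a) * a⁻¹ = w by group]; exact hw)
    have e := Subgroup.mem_centralizer_iff.1 hv2 _ h'
    calc w * (a * v * a⁻¹) = a * (a⁻¹ * w * a * v) * a⁻¹ := by group
      _ = a * (v * (a⁻¹ * w * a)) * a⁻¹ := by rw [e]
      _ = a * v * a⁻¹ * w := by group

theorem involution_central {G : Type*} [Group G] [Finite G] {K H : Subgroup G} [K.Normal]
    (hK : K ≠ ⊥) (hfpf : ∀ h ∈ H, h ≠ 1 → K ⊓ Subgroup.centralizer {h} = ⊥)
    {x : G} (hx : x ∈ H) (hx2 : x * x = 1) (hx1 : x ≠ 1) {h : G} (hh : h ∈ H) : h * x = x * h := by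
  have hinv : ∀ y ∈ H, y * y = 1 → y ≠ 1 → ∀ k ∈ K, y * k * y⁻¹ = k⁻¹ := by
    intro y hy hy2 hy1 k hk
    have hfix : MonoidHom.FixedPointFree
        (((MulAut.conjNormal y : MulAut K)).toMonoidHom) := by
      intro u hu
      have e : y * (u : G) * y⁻¹ = u := by
        rw [← MulAut.conjNormal_apply (H := K)]; exact congrArg Subtype.val hu
      have h2 : (u : G) ∈ K ⊓ Subgroup.centralizer {y} :=
        ⟨u.2, Subgroup.mem_centralizer_singleton_iff.2 (mul_inv_eq_iff_eq_mul.1 e).symm⟩
      rw [hfpf y hy hy1, Subgroup.mem_bot] at h2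
      exact Subtype.ext h2
    have hi : Function.Involutive ((MulAut.conjNormal y : MulAut K)).toMonoidHom := fun u => by
      show (MulAut.conjNormal y) ((MulAut.conjNormal y) u) = u
      rw [← MulAut.mul_apply, ← map_mul, hy2, map_one, MulAut.one_apply]
    have := congrArg Subtype.val (congrFun (hfix.coe_eq_inv_of_involutive hi) ⟨k, hk⟩)
    simpa using this
  obtain ⟨⟨k, hk⟩, hk1⟩ := Subgroup.ne_bot_iff_exists_ne_one.1 hK
  set y := h * x * h⁻¹ with hy
  have hyH : y ∈ H := H.mul_mem (H.mul_mem hh hx) (H.inv_mem hh)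
  have e1 := hinv x hx hx2 hx1 k hk
  have e2 := hinv y hyH (by rw [hy, show h * x * h⁻¹ * (h * x * h⁻¹) = h * (x * x) * h⁻¹ by group, hx2]; group)
    (fun e => hx1 (conj_eq_one_iff.1 e)) k hk
  have hxy : x⁻¹ * y = 1 := by
    by_contra hne
    have h2 : k ∈ K ⊓ Subgroup.centralizer {x⁻¹ * y} := by
      refine ⟨hk, Subgroup.mem_centralizer_singleton_iff.2 ?_⟩
      calc k * (x⁻¹ * y) = x⁻¹ * (x * k * x⁻¹) * y := by group
        _ = x⁻¹ * (y * k * y⁻¹) * y := by rw [e1, e2]
        _ = _ := by group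
    rw [hfpf _ (H.mul_mem (H.inv_mem hx) hyH) hne, Subgroup.mem_bot] at h2
    exact hk1 (Subtype.ext h2)
  rw [inv_mul_eq_one] at hxy
  exact mul_inv_eq_iff_eq_mul.1 hxy.symm

theorem center_ne_bot {G : Type*} [Group G] [Finite G] (K H : Subgroup G) [K.Normal]
    (hK : K ≠ ⊥) (hH : H ≠ ⊥) (hfpf : ∀ h ∈ H, h ≠ 1 → K ⊓ Subgroup.centralizer {h} = ⊥) :
    Subgroup.center H ≠ ⊥ := by
  intro hZ
  have hcentral : ∀ z : H, (∀ h : H, h * z = z * h) → z = 1 := fun z hz => by
    have : z ∈ Subgroup.center H := Subgroup.mem_center_iff.2 hz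
    rwa [hZ, Subgroup.mem_bot] at this
  by_cases h2 : 2 ∣ Nat.card H
  · obtain ⟨x, hx⟩ := exists_prime_orderOf_dvd_card' (G := H) 2 h2
    have hx2 : (x : G) * x = 1 := by
      rw [← pow_two, ← hx, ← Subgroup.coe_pow, pow_orderOf_eq_one]; rfl
    have hx1 : (x : G) ≠ 1 := fun e => by
      rw [show x = 1 from Subtype.ext e, orderOf_one] at hx; exact absurd hx (by norm_num)
    exact hx1 (congrArg Subtype.val
      (hcentral x fun h => Subtype.ext (involution_central hK hfpf x.2 hx2 hx1 h.2)))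
  have hZG : IsZGroup H := by
    refine ⟨fun p hp P => ?_⟩
    have := Fact.mk hp
    rcases Solv.cyclic_or_quaternion P.isPGroup' (S0040.unique_order K H hK hfpf p P P.isPGroup') with
      hc | ⟨rfl, n, ⟨e⟩⟩
    · exact hc
    · exfalso
      have : NeZero (2 ^ n) := ⟨pow_ne_zero _ two_ne_zero⟩
      have hc := Nat.card_congr e.toEquiv
      rw [Nat.card_eq_fintype_card (α := QuaternionGroup (2 ^ n)), QuaternionGroup.card] at hc
      refine h2 ((Dvd.intro (2 * 2 ^ n) (by rw [hc]; ring) : 2 ∣ Nat.card P).trans ?_)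
      exact Subgroup.card_subgroup_dvd_card _
  have : Nontrivial H := (Subgroup.nontrivial_iff_ne_bot H).2 hH
  set C := commutator H
  have hCt : C ≠ ⊤ := (IsZGroup.commutator_lt H).ne
  have hco := IsZGroup.coprime_commutator_index H
  obtain ⟨B, hB⟩ := Subgroup.exists_right_complement'_of_coprime hco
  have hCcyc : IsCyclic C := IsZGroup.isCyclic_commutator H
  have hBab : ∀ a ∈ B, ∀ b ∈ B, a * b = b * a := by
    intro a ha b hb
    have h : ⁅a, b⁆ ∈ C ⊓ B := ⟨Subgroup.commutator_mem_commutator (Subgroup.mem_top a) (Subgroup.mem_top b),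
      B.mul_mem (B.mul_mem (B.mul_mem ha hb) (B.inv_mem ha)) (B.inv_mem hb)⟩
    rw [hB.disjoint.eq_bot, Subgroup.mem_bot] at h
    exact commutatorElement_eq_one_iff_mul_comm.1 h
  have hBne : B ≠ ⊥ := fun h => by
    rw [h] at hB
    exact hCt (Subgroup.isComplement'_bot_right.1 hB)
  obtain ⟨r, hr, hrB⟩ := Nat.exists_prime_and_dvd (n := Nat.card B)
    (fun h => hBne (Subgroup.card_eq_one.1 h))
  have := Fact.mk hr
  obtain ⟨⟨y, hyB⟩, hy⟩ := exists_prime_orderOf_dvd_card' (G := B) r hrB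
  rw [Subgroup.orderOf_mk] at hy
  letI : CommGroup C := IsCyclic.commGroup
  let φ : C →* C := ((MulAut.conjNormal y : MulAut C)).toMonoidHom
  let ψ : C →* C :=
    { toFun := fun c => c⁻¹ * φ c
      map_one' := by simp
      map_mul' := fun a b => by rw [map_mul, mul_inv, mul_mul_mul_comm] }
  -- elements of prime order of `C` are fixed by `y`
  have hprime : ∀ x : C, (orderOf x).Prime → φ x = x := by
    intro x hx
    set q := orderOf x with hq
    have := Fact.mk hx
    have hker : ∀ D : Subgroup C, Nat.card D = q → D = (powMonoidHom q : C →* C).ker := fun D hD => by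
      refine Subgroup.eq_of_le_of_card_ge (fun d hd => ?_) ?_
      · have h1 := pow_card_eq_one' (G := D) (x := ⟨d, hd⟩)
        rw [hD] at h1
        exact congrArg Subtype.val h1
      · rw [IsCyclic.card_powMonoidHom_ker, hD]
        exact Nat.gcd_le_right _ hx.pos
    set X := Subgroup.zpowers (x : H)
    have hX : Nat.card X = q := by rw [Nat.card_zpowers, hq, Subgroup.orderOf_coe]
    have hYn : Subgroup.zpowers y ≤ Subgroup.normalizer (X : Set H) := by
      rw [Subgroup.zpowers_le]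
      refine Solv.mem_normalizer_of_conj_smul (Subgroup.eq_of_le_of_card_ge ?_
        (by rw [Solv.card_conj_smul]))
      rw [Solv.conj_smul_eq_map, MonoidHom.map_zpowers, Subgroup.zpowers_le]
      have e := (hker (Subgroup.zpowers (φ x)) (by
        rw [Nat.card_zpowers]
        show orderOf ((MulAut.conjNormal y : MulAut C) x) = q
        rw [MulEquiv.orderOf_eq])).trans
        (hker (Subgroup.zpowers x) (Nat.card_zpowers x)).symm
      obtain ⟨i, hi⟩ := e.le (Subgroup.mem_zpowers (φ x))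
      exact ⟨i, congrArg Subtype.val hi⟩
    set A₀ := X ⊔ Subgroup.zpowers y with hA₀
    have hcard : Nat.card A₀ = q * r := by
      have h := Solv.card_sup_mul_card_inf' X (Subgroup.zpowers y) hYn
      have hd : X ⊓ Subgroup.zpowers y = ⊥ := by
        refine eq_bot_iff.2 ((inf_le_inf ?_ ?_).trans hB.disjoint.le_bot)
        · exact Subgroup.zpowers_le.2 x.2
        · exact Subgroup.zpowers_le.2 hyB
      rw [hd, Subgroup.card_bot, mul_one, hX, Nat.card_zpowers, hy] at h
      exact h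
    have hsol : Group.IsSolvable (A₀.map H.subtype : Subgroup G) :=
      solvable_of_surjective (f := (Subgroup.equivMapOfInjective A₀ H.subtype H.subtype_injective).toMonoidHom) (MulEquiv.surjective _)
    have hAH : ∀ a ∈ A₀.map H.subtype, a ≠ 1 → K ⊓ Subgroup.centralizer {a} = ⊥ :=
      fun a ha => hfpf a (Subgroup.map_subtype_le A₀ ha)
    obtain ⟨V, hVK, hVne, hVc, hVA⟩ := exists_invariant_abelian K _ hK hsol hAH
    have hcyc := S0041.result (A₀.map H.subtype) V hVne hVA
      (fun a ha ha1 => eq_bot_iff.2 ((inf_le_inf_right _ hVK).trans (hAH a ha ha1).le))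
      (Or.inr ⟨q, r, hx, hr, by rw [Solv.card_map_subtype, hcard]⟩)
    letI : CommGroup (A₀.map H.subtype : Subgroup G) := IsCyclic.commGroup
    have hxA : (x : H) ∈ A₀ := Subgroup.mem_sup_left (Subgroup.mem_zpowers _)
    have hyA : y ∈ A₀ := Subgroup.mem_sup_right (Subgroup.mem_zpowers _)
    have h := congrArg Subtype.val (mul_comm (⟨_, Subgroup.mem_map_of_mem H.subtype hyA⟩ :
      (A₀.map H.subtype : Subgroup G)) ⟨_, Subgroup.mem_map_of_mem H.subtype hxA⟩)
    simp only [Subgroup.coe_mul, Subgroup.coe_subtype] at h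
    apply Subtype.ext
    show ((MulAut.conjNormal y : MulAut C) x : H) = x
    rw [MulAut.conjNormal_apply]
    have h' : y * (x : H) = (x : H) * y := Subtype.ext h
    rw [h', mul_inv_cancel_right]
  have hψ : ψ.range = ⊥ := by
    by_contra hne
    obtain ⟨s, hs, hsd⟩ := Nat.exists_prime_and_dvd (n := Nat.card ψ.range)
      (fun h => hne (Subgroup.card_eq_one.1 h))
    have := Fact.mk hs
    obtain ⟨⟨z, c, rfl⟩, hz⟩ := exists_prime_orderOf_dvd_card' (G := ψ.range) s hsd
    rw [← Subgroup.orderOf_coe] at hz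
    have hfix := hprime (ψ c) (hz ▸ hs)
    have hit : ∀ i : ℕ, (φ^[i]) c = c * ψ c ^ i := by
      intro i
      induction i with
      | zero => simp
      | succ i ih =>
        rw [Function.iterate_succ_apply', ih, map_mul, map_pow, hfix, pow_succ', ← mul_assoc]
        congr 1
        exact (mul_inv_cancel_left c (φ c)).symm
    have hφr : (φ^[r]) c = c := by
      have h : ∀ i : ℕ, ((φ^[i]) c : H) = y ^ i * c * (y ^ i)⁻¹ := by
        intro i
        induction i with
        | zero => simp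
        | succ i ih =>
          rw [Function.iterate_succ_apply']
          show ((MulAut.conjNormal y : MulAut C) _ : H) = _
          rw [MulAut.conjNormal_apply, ih, pow_succ', mul_inv_rev]
          group
      refine Subtype.ext ?_
      rw [h, ← hy, pow_orderOf_eq_one]; simp
    have h1 := hit r
    rw [hφr, left_eq_mul, ← orderOf_dvd_iff_pow_eq_one, hz] at h1
    have hsr : s = r := (Nat.prime_dvd_prime_iff_eq hs hr).1 h1
    have h2 : s ∣ Nat.card C := hz ▸ orderOf_dvd_natCard (ψ c)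
    rw [hsr] at h2
    rw [← hB.symm.index_eq_card] at hrB
    exact hr.ne_one (Nat.eq_one_of_dvd_coprimes hco h2 hrB)
  have hy1 : y ≠ 1 := fun e => by rw [e, orderOf_one] at hy; exact hr.ne_one hy.symm
  refine hy1 (hcentral y fun h => ?_)
  obtain ⟨⟨c, b⟩, rfl⟩ := hB.2 h
  have hc : φ c = c := by
    have : ψ c ∈ ψ.range := ⟨c, rfl⟩
    rw [hψ, Subgroup.mem_bot] at this
    exact (inv_mul_eq_one.1 this).symm
  have hc' : y * (c : H) * y⁻¹ = c := by
    rw [← MulAut.conjNormal_apply (H := C)]; exact congrArg Subtype.val hc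
  have hcy : Commute y (c : H) := mul_inv_eq_iff_eq_mul.1 hc'
  exact ((hcy.mul_right (hBab y hyB b b.2)).eq).symm

/-- A Frobenius complement has nontrivial centre: if H ≠ 1 complements a nontrivial normal subgroup K and every nonidentity element of H has trivial centraliser in K, then the centre of H is nontrivial. -/
theorem result {G : Type*} [Group G] [Finite G] (K H : Subgroup G) [K.Normal]
    (hc : Subgroup.IsComplement' K H) (hK : K ≠ ⊥) (hH : H ≠ ⊥) (hfpf : ∀ h ∈ H, h ≠ 1 → K ⊓ Subgroup.centralizer {h} = ⊥) :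
    Subgroup.center H ≠ ⊥ := by
  exact center_ne_bot K H hK hH hfpf

end Cfsg.Agent.S0069
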