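import Cfsg.Statements.S0070
import Cfsg.Agent.Lib.Solv.Cores
import Cfsg.Agent.Lib.Perm.Huppert

set_option autoImplicit false
open Cfsg

open scoped Pointwise commutatorElement

namespace Cfsg.Agent.S0070

/-- The Fitting subgroup commutes with passing to the Frattini quotient: the Fitting subgroup of G modulo its Frattini subgroup is the image of the Fitting subgroup of G. -/
theorem result {G : Type*} [Group G] [Finite G] :
    Cfsg.fittingSubgroup (G ⧸ frattini G) = (Cfsg.fittingSubgroup G).map (QuotientGroup.mk' (frattini G)) := by
  have := Solv.fittingSubgroup_normal (G := G)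
  refine le_antisymm ?_ ?_
  · have := Solv.fittingSubgroup_normal (G := G ⧸ frattini G)
    set N := (fittingSubgroup (G ⧸ frattini G)).comap (QuotientGroup.mk' (frattini G)) with hN
    have hNn : N.Normal := inferInstance
    have hmap : N.map (QuotientGroup.mk' (frattini G)) = fittingSubgroup (G ⧸ frattini G) :=
      Subgroup.map_comap_eq_self_of_surjective (QuotientGroup.mk'_surjective _) _
    have h : Group.IsNilpotent N := Perm.isNilpotent_of_le_frattini N (frattini G)
      (QuotientGroup.le_comap_mk' _ _) le_rfl (by rw [hmap]; exact Solv.fittingSubgroup_nilpotent)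
    rw [← hmap]
    exact Subgroup.map_mono (Solv.normal_le_fitting h)
  · have : ((fittingSubgroup G).map (QuotientGroup.mk' (frattini G))).Normal :=
      Subgroup.Normal.map inferInstance _ (QuotientGroup.mk'_surjective _)
    have := Solv.fittingSubgroup_nilpotent (G := G)
    exact Solv.normal_le_fitting (Group.nilpotent_of_surjective _
      ((QuotientGroup.mk' (frattini G)).subgroupMap_surjective (fittingSubgroup G)))

end Cfsg.Agent.S0070
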