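import Cfsg.Statements.S0072
import Cfsg.Agent.Lib.Fusion.NPC

set_option autoImplicit false
open Cfsg
open Cfsg.Agent.Fusion
open scoped commutatorElement

namespace Cfsg.Agent.S0072

/-- A finite group has a normal p-complement if and only if every p-local subgroup (normalizer of a nontrivial p-subgroup) has one. -/
theorem result {G : Type*} [Group G] [Finite G] (p : ℕ) [Fact p.Prime] : Cfsg.HasNormalPComplement p G ↔ ∀ Q : Subgroup G, IsPGroup p Q → Q ≠ ⊥ → Cfsg.HasNormalPComplement p (Subgroup.normalizer (Q : Set G)) := by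
  refine ⟨fun h Q _ _ => hnpc_subgroup h _, fun h => ?_⟩
  obtain ⟨P⟩ : Nonempty (Sylow p G) := inferInstance
  refine hnpc_of_centralize (sylIn_top P) fun Q hQ g hg hgp => ?_
  rcases eq_or_ne Q ⊥ with rfl | hne
  · rw [mem_centralizer_set]
    intro s hs
    simp [Subgroup.mem_bot.1 hs]
  have hQp : IsPGroup p Q := P.isPGroup'.to_le hQ
  have h1 : (⟨g, hg⟩ : Subgroup.normalizer (Q : Set G)) ∈
      Subgroup.centralizer ((Q.subgroupOf (Subgroup.normalizer (Q : Set G)) :
        Subgroup (Subgroup.normalizer (Q : Set G))) : Set (Subgroup.normalizer (Q : Set G))) :=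
    hnpc_centralize (h Q hQp hne) (hQp.comap_of_injective _ (Subgroup.subtype_injective _))
      (Subgroup.mem_normalizer_iff.2 fun x => Subgroup.mem_normalizer_iff.1 hg (x : G))
      (by rwa [Subgroup.orderOf_mk])
  rw [mem_centralizer_set] at h1 ⊢
  intro s hs
  have := congrArg Subtype.val (h1 ⟨s, Subgroup.le_normalizer hs⟩ hs)
  simpa using this

end Cfsg.Agent.S0072
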