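import Cfsg.Statements.S0074
import Cfsg.Agent.Lib.Fusion.NPC
import Cfsg.Agent.Lib.Fusion.BurnsideFusion

set_option autoImplicit false
open Cfsg
open Cfsg.Agent.Fusion
open scoped commutatorElement

namespace Cfsg.Agent.S0074

/-- For an abelian Sylow p-subgroup P, the intersection of P with the derived subgroup of G equals its intersection with the derived subgroup of the normalizer of P. -/
theorem result {G : Type*} [Group G] [Finite G] {p : ℕ} [Fact p.Prime] (P : Sylow p G) (hP : IsMulCommutative P) : commutator G ⊓ (P : Subgroup G) = ⁅Subgroup.normalizer (P : Set G), Subgroup.normalizer (P : Set G)⁆ ⊓ (P : Subgroup G) := by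
  have hab : (P : Subgroup G) ≤ Subgroup.centralizer (P : Set G) :=
    Subgroup.le_centralizer_iff_isMulCommutative.2 hP
  rw [inf_comm, inf_commutator_eq_focalIn_top (sylIn_top P), inf_comm]
  refine Eq.trans ?_
    (inf_commutator_eq_focalIn ((sylIn_top P).mono Subgroup.le_normalizer le_top)).symm
  exact focalIn_eq_of_fusion le_top fun x hx g _ hxg =>
    fusion_of_abelian (sylIn_top P) hab hx hxg

end Cfsg.Agent.S0074
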