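import Cfsg.Statements.S0076
import Cfsg.Agent.Lib.Fusion.WeakClosure

set_option autoImplicit false
open Cfsg

namespace Cfsg.Agent.S0076

/-- Two P-invariant subsets of a Sylow p-subgroup P that are conjugate in G are conjugate under the normalizer of P. -/
theorem result {G : Type*} [Group G] [Finite G] {p : ℕ} [Fact p.Prime] (P : Sylow p G) (X Y : Set G) (hXP : X ⊆ P) (hYP : Y ⊆ P) (hX : ∀ x ∈ P, (fun y => x * y * x⁻¹) '' X = X) (hY : ∀ x ∈ P, (fun y => x * y * x⁻¹) '' Y = Y) (g : G) (hg : (fun y => g * y * g⁻¹) '' X = Y) : ∃ n ∈ Subgroup.normalizer (P : Set G), (fun y => n * y * n⁻¹) '' X = Y := by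
  let f : G → Equiv.Perm G := fun x => (MulAut.conj x).toEquiv
  let N : Subgroup G :=
    { carrier := {x | (fun y => x * y * x⁻¹) '' Y = Y}
      one_mem' := by simp
      mul_mem' := by
        intro a b ha hb
        show (fun y => a * b * y * (a * b)⁻¹) '' Y = Y
        conv_rhs => rw [← (show _ '' Y = Y from ha), ← (show _ '' Y = Y from hb)]
        simp [Set.image_image, mul_assoc]
      inv_mem' := by
        intro a ha
        show (fun y => a⁻¹ * y * a⁻¹⁻¹) '' Y = Y
        conv_lhs => rw [← (show _ '' Y = Y from ha)]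
        simp [Set.image_image, mul_assoc] }
  have hPN : (P : Subgroup G) ≤ N := hY
  have hgP : Fusion.cj (P : Subgroup G) g ≤ N := by
    intro z hz
    have h1 := hX _ (Fusion.mem_cj.1 hz)
    show (fun y => z * y * z⁻¹) '' Y = Y
    rw [← hg, Set.image_image]
    conv_rhs => rw [← h1, Set.image_image]
    exact congrArg (· '' X) (funext fun y => by simp [mul_assoc])
  have hP := Fusion.sylIn_top P
  obtain ⟨m, hm, hm'⟩ :=
    ((hP.cj' (Subgroup.le_normalizer (Subgroup.mem_top g))).mono hgP le_top).conj_eq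
      (hP.mono hPN le_top)
  rw [Fusion.cj_cj] at hm'
  refine ⟨m * g, Fusion.mem_normalizer_iff_cj.2 hm', ?_⟩
  have h2 : (fun y => m * y * m⁻¹) '' Y = Y := hm
  conv_rhs => rw [← h2, ← hg, Set.image_image]
  exact congrArg (· '' X) (funext fun y => by simp [mul_assoc])

end Cfsg.Agent.S0076
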