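import Cfsg.Statements.S0078
import Cfsg.Agent.S5093
import Cfsg.Agent.Lib.Fusion.BurnsideFusion
import Cfsg.Agent.Lib.Fusion.NPC
import Cfsg.Agent.Lib.Local.FS.Group

set_option autoImplicit false
open Cfsg
open Cfsg.Agent.Fusion
open scoped commutatorElement

namespace Cfsg.Agent.S0078

open Cfsg.Agent.Local.FS in
theorem hyperfocal_le_of_control {G : Type*} [Group G] [Finite G] {p : ℕ} [Fact p.Prime]
    (S : Sylow p G) (V : Subgroup G)
    (hc : ∀ Q : Subgroup G, Q ≤ S → ∀ g : G, (∀ x ∈ Q, g * x * g⁻¹ ∈ (S : Subgroup G)) →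
      ∃ m ∈ V, ∀ x ∈ Q, m * x * m⁻¹ = g * x * g⁻¹)
    (hSV : (S : Subgroup G) ≤ V) :
    (Cfsg.groupFusionSystem (S : Subgroup G)).hyperfocalSubgroup p ≤
      (Cfsg.pResidual p V).map V.subtype := by
  refine (Subgroup.closure_le _).2 ?_
  rintro _ ⟨Q, α, x, hQ, hα, rfl⟩
  set W : Subgroup G := Subgroup.normalizer (Q : Set G) ⊓ V with hW
  set ψ : W →* MulAut Q :=
    (Subgroup.normalizerMonoidHom Q).comp (Subgroup.inclusion inf_le_left) with hψ
  have hψa : ∀ (w : W) (y : Q), ((ψ w y : Q) : G) = w * y * (w : G)⁻¹ := fun w y => rfl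
  have hle : (Cfsg.groupFusionSystem (S : Subgroup G)).autGroup Q ≤ ψ.range := by
    refine (Subgroup.closure_le _).2 fun β hβ => ?_
    obtain ⟨-, hgS, g, hg⟩ := hβ
    have hg' : ∀ y : Q, ((β y : Q) : G) = g * y * g⁻¹ := hg
    obtain ⟨m, hm, hme⟩ := hc Q hQ g fun y hy => by
      rw [← hg' ⟨y, hy⟩]
      exact hgS ⟨y, hy⟩
    have hmQ : ∀ y : Q, ((β y : Q) : G) = m * y * m⁻¹ := fun y => by rw [hg', hme y y.2]
    have hmN : m ∈ Subgroup.normalizer (Q : Set G) :=
      mem_normalizer_of_cj_le (by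
        rintro _ ⟨y, hy, rfl⟩
        show m * y * m⁻¹ ∈ Q
        rw [← hmQ ⟨y, hy⟩]
        exact (β ⟨y, hy⟩).2)
    exact ⟨⟨m, hmN, hm⟩, MulEquiv.ext fun y => Subtype.ext (by rw [hψa, hmQ])⟩
  have h1 : Subgroup.inclusion hle α ∈ Cfsg.pResidual p ψ.range :=
    map_pResidual_le (Subgroup.inclusion hle) (Subgroup.mem_map_of_mem _ hα)
  rw [← map_pResidual_of_surjective ψ.rangeRestrict ψ.rangeRestrict_surjective] at h1
  obtain ⟨w, hw, hwe⟩ := h1
  have hwV : (⟨(w : G), w.2.2⟩ : V) ∈ Cfsg.pResidual p V :=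
    map_pResidual_le (Subgroup.inclusion (inf_le_right : W ≤ V)) (Subgroup.mem_map_of_mem _ hw)
  have hxV : (x : G) ∈ V := hSV (hQ x.2)
  have he : ψ w = (α : MulAut Q) := congrArg Subtype.val hwe
  refine ⟨⟨x, hxV⟩⁻¹ * ⟨w, w.2.2⟩ * ⟨x, hxV⟩ * ⟨w, w.2.2⟩⁻¹,
    mul_mem (Subgroup.Normal.conj_mem' inferInstance _ hwV _) (inv_mem hwV), ?_⟩
  rw [← he, hψa]
  simp [mul_assoc]

/-- In a p-normal group, a Sylow p-subgroup P meets O^p(G) exactly where it meets O^p(V), for any subgroup V containing the normalizer of the centre of P. -/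
theorem result {G : Type*} [Group G] [Finite G] {p : ℕ} [Fact p.Prime] (P : Sylow p G) (hn : ∀ Q : Sylow p G, (P : Subgroup G) ⊓ Subgroup.centralizer (P : Set G) ≤ (Q : Subgroup G) → (Q : Subgroup G) ⊓ Subgroup.centralizer (Q : Set G) = (P : Subgroup G) ⊓ Subgroup.centralizer (P : Set G)) (V : Subgroup G) (hV : Subgroup.normalizer (((P : Subgroup G) ⊓ Subgroup.centralizer (P : Set G) : Subgroup G) : Set G) ≤ V) : (P : Subgroup G) ⊓ Cfsg.pResidual p G = (P : Subgroup G) ⊓ (Cfsg.pResidual p V).map V.subtype := by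
  set Z := (P : Subgroup G) ⊓ Subgroup.centralizer (P : Set G) with hZdef
  have hZc : Z ≤ Subgroup.centralizer (P : Set G) := inf_le_right
  have hW : Cfsg.IsWeaklyClosed Z (P : Subgroup G) := by
    refine ⟨inf_le_left, fun g hg => ?_⟩
    have hle : Z ≤ ((g⁻¹ • P : Sylow p G) : Subgroup G) := by
      rw [Sylow.coe_subgroup_smul]
      intro z hz
      rw [Subgroup.mem_pointwise_smul_iff_inv_smul_mem]
      have := hg (Subgroup.mem_map_of_mem (MulAut.conj g).toMonoidHom hz)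
      simpa using this
    have h1 := hn (g⁻¹ • P) hle
    have h2 : cj Z g⁻¹ = Z := by
      refine Eq.trans ?_ h1
      rw [hZdef, cj_inf, show Subgroup.centralizer (P : Set G) = Subgroup.centralizer ((P : Subgroup G) : Set G) from rfl, cj_centralizer]
      have e : cj (P : Subgroup G) g⁻¹ = ((g⁻¹ • P : Sylow p G) : Subgroup G) := by
        rw [Sylow.coe_subgroup_smul]; rfl
      rw [e]
      rfl
    show cj Z g = Z
    conv_lhs => rw [← h2]
    exact cj_inv_cj Z g
  have hPN : (P : Subgroup G) ≤ Subgroup.normalizer (Z : Set G) := by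
    intro x hx
    exact mem_normalizer_iff_cj.2 (hW.2 x ((cj_mono inf_le_left x).trans
      (le_of_eq (cj_eq_self_of_mem hx))))
  have hctl : ∀ Q : Subgroup G, Q ≤ P → ∀ g : G, (∀ x ∈ Q, g * x * g⁻¹ ∈ (P : Subgroup G)) →
      ∃ m ∈ V, ∀ x ∈ Q, m * x * m⁻¹ = g * x * g⁻¹ := by
    intro Q hQ g hg
    set C := Subgroup.centralizer (cj Q g : Set G) with hC
    have hZp : IsPGroup p Z := P.isPGroup'.to_le hW.1
    have hZC : Z ≤ C := by
      intro z hz
      refine Subgroup.mem_centralizer_iff.2 fun w hw => ?_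
      obtain ⟨y, hy, rfl⟩ := hw
      exact Subgroup.mem_centralizer_iff.1 (hZc hz) _ (hg y hy)
    have hgC : cj Z g ≤ C := by
      rw [hC, ← cj_centralizer]
      exact cj_mono (hZc.trans (Subgroup.centralizer_le fun w hw => hQ hw)) g
    obtain ⟨T, hT, hZT⟩ := exists_sylIn_ge hZp hZC
    obtain ⟨c, hc, hcT⟩ := hT.conj_le (isPGroup_cj hZp g) hgC
    obtain ⟨h, -, hh⟩ := (sylIn_top P).conj_le hT.isPGroup le_top
    have h1 : h ∈ Subgroup.normalizer (Z : Set G) :=
      weaklyClosed_fixed_of_cj_le hW ((cj_mono hZT h).trans hh)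
    have h2 : h * (c * g) ∈ Subgroup.normalizer (Z : Set G) := by
      refine weaklyClosed_fixed_of_cj_le hW ?_
      rw [← cj_cj, ← cj_cj]
      exact (cj_mono hcT h).trans hh
    refine ⟨c * g, hV ((Subgroup.mul_mem_cancel_left _ h1).1 h2), fun x hx => ?_⟩
    have hcy := Subgroup.mem_centralizer_iff.1 hc _ (conj_mem_cj (g := g) hx)
    calc c * g * x * (c * g)⁻¹ = c * (g * x * g⁻¹) * c⁻¹ := by group
      _ = g * x * g⁻¹ := by rw [← hcy, mul_inv_cancel_right]
  refine le_antisymm ?_ (inf_le_inf_left _ (map_pResidual_le V.subtype))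
  refine le_inf inf_le_left ?_
  rw [← Cfsg.Agent.S5093.result p P]
  exact hyperfocal_le_of_control P V hctl (hPN.trans hV)

end Cfsg.Agent.S0078
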