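import Cfsg.Statements.S0079
import Cfsg.Agent.Lib.Fusion.AbelianHall

set_option autoImplicit false
open Cfsg
open Cfsg.Agent.Fusion
open scoped commutatorElement

namespace Cfsg.Agent.S0079

/-- A nilpotent Hall subgroup has a normal complement exactly when elements of it that are conjugate in the whole group are already conjugate inside it. -/
theorem result {G : Type*} [Group G] [Finite G] (H : Subgroup G) (hH : Group.IsNilpotent H) (hHall : Nat.Coprime (Nat.card H) H.index) : (∃ N : Subgroup G, N.Normal ∧ N.IsComplement' H) ↔ ∀ x ∈ H, ∀ y ∈ H, (∃ g : G, g * x * g⁻¹ = y) → ∃ h ∈ H, h * x * h⁻¹ = y := by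
  constructor
  · rintro ⟨N, hN, hc⟩ x hx y hy ⟨g, hg⟩
    have hg' : g ∈ N ⊔ H := by rw [hc.sup_eq_top]; trivial
    obtain ⟨n, hn, h, hh, rfl⟩ := Subgroup.mem_sup_of_normal_left.1 hg'
    refine ⟨h, hh, ?_⟩
    have hz : h * x * h⁻¹ ∈ H := mul_mem (mul_mem hh hx) (inv_mem hh)
    have h1 : y * (h * x * h⁻¹)⁻¹ ∈ N ⊓ H := by
      refine ⟨?_, H.mul_mem hy (H.inv_mem hz)⟩
      have e : y * (h * x * h⁻¹)⁻¹ = n * ((h * x * h⁻¹) * n⁻¹ * (h * x * h⁻¹)⁻¹) := by
        rw [← hg]; group
      rw [e]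
      exact mul_mem hn (hN.conj_mem _ (inv_mem hn) _)
    rw [hc.disjoint.eq_bot, Subgroup.mem_bot, mul_inv_eq_one] at h1
    exact h1.symm
  · intro hfus
    classical
    set s := (Nat.card H).primeFactors
    have hnpc : ∀ p ∈ s, Cfsg.HasNormalPComplement p G := by
      intro p hp
      haveI := Fact.mk (Nat.prime_of_mem_primeFactors hp)
      obtain ⟨P, hP⟩ := exists_sylIn (p := p) H
      have hPG := isHall_sylow hHall hP (Nat.dvd_of_mem_primeFactors hp)
      refine hnpc_of_fusion_controlled hPG fun x hx g hxg => ?_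
      obtain ⟨h, hh, he⟩ := hfus x (hP.le hx) _ (hP.le hxg) ⟨g, rfl⟩
      obtain ⟨P', hP'⟩ := hP.exists_sylow_subgroupOf
      haveI := hH
      have h1 : (⟨h, hh⟩ : H) ∈ (P' : Subgroup H) ⊔ Cfsg.pResidual p H := by
        rw [sup_comm, pResidual_sup_sylow]; trivial
      obtain ⟨b, hb, a, ha, hab⟩ := Subgroup.mem_sup_of_normal_right.1 h1
      rw [hP'] at hb
      refine ⟨b, hb, ?_⟩
      haveI : (P' : Subgroup H).Normal := ((Group.isNilpotent_of_finite_tfae (G := H)).out 0 3
        (a := Group.IsNilpotent H)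
        (b := ∀ (q : ℕ) (_ : Fact q.Prime) (R : Sylow q H), (R : Subgroup H).Normal)).1 hH p ‹_› P'
      have hac : a * ⟨x, hP.le hx⟩ * a⁻¹ = ⟨x, hP.le hx⟩ := by
        refine mem_centralizer_set.1 (hnpc_centralize (hnpc_of_isNilpotent (p := p)) P'.isPGroup'
          (g := a) (by rw [Subgroup.normalizer_eq_top]; trivial) ?_) _ (hP' ▸ hx)
        exact (hnpc_mem_iff (hnpc_of_isNilpotent (p := p))).1 ha
      have hac' : (a : G) * x * (a : G)⁻¹ = x := congrArg Subtype.val hac
      have hh' : h = (b : G) * a := congrArg Subtype.val hab.symm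
      rw [← he, hh']
      calc (b : G) * x * (b : G)⁻¹ = (b : G) * ((a : G) * x * (a : G)⁻¹) * (b : G)⁻¹ := by rw [hac']
        _ = _ := by group
    let M : Subgroup G := ⨅ p ∈ s, Cfsg.pResidual p G
    haveI hMn : M.Normal := Subgroup.normal_iInf_normal fun p => Subgroup.normal_iInf_normal fun _ =>
      inferInstance
    refine ⟨M, hMn, isComplement'_of_hall hHall ?_ ?_⟩
    · refine Nat.coprime_of_dvd fun q hq hqM hqH => ?_
      haveI := Fact.mk hq
      have hqs : q ∈ s := Nat.mem_primeFactors.2 ⟨hq, hqH, Nat.card_pos.ne'⟩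
      exact coprime_card_iff_not_dvd.1 (hnpc_iff.1 (hnpc q hqs))
        (hqM.trans (Subgroup.card_dvd_of_le (iInf₂_le q hqs)))
    · intro g hg
      simp only [M, Subgroup.mem_iInf]
      exact fun p hp => Subgroup.subset_closure
        (hg.coprime_dvd_right (Nat.dvd_of_mem_primeFactors hp))

end Cfsg.Agent.S0079
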