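import Cfsg.Statements.S0082
import Cfsg.Agent.Lib.Fusion.TransferSplit

set_option autoImplicit false
open Cfsg
open Cfsg.Agent.Fusion
open scoped commutatorElement

namespace Cfsg.Agent.S0082

/-- With a cyclic Sylow p-subgroup, either there is a normal p-complement or the elements of order prime to p generate the whole group. -/
theorem result {G : Type*} [Group G] [Finite G] {p : ℕ} [Fact p.Prime] (P : Sylow p G) (hP : IsCyclic P) : Cfsg.HasNormalPComplement p G ∨ Cfsg.pResidual p G = ⊤ := by
  by_cases htop : Cfsg.pResidual p G = ⊤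
  · exact .inr htop
  left
  have hnle : ¬ (P : Subgroup G) ≤ Cfsg.pResidual p G := fun h => htop (by
    have h1 := pResidual_sup_sylow P
    rwa [sup_eq_left.2 h] at h1)
  have hQ : Cfsg.pResidual p G ⊓ (P : Subgroup G) ≤ (frattini P).map (P : Subgroup G).subtype := by
    intro x hx
    refine ⟨⟨x, hx.2⟩, ?_, rfl⟩
    rw [SetLike.mem_coe, frattini, Order.radical, Subgroup.mem_iInf]
    intro M
    rw [Subgroup.mem_iInf]
    intro hM
    set Q : Subgroup (P : Subgroup G) := (Cfsg.pResidual p G).subgroupOf P
    have hQne : Q ≠ ⊤ := fun h => hnle (Subgroup.subgroupOf_eq_top.1 h)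
    obtain ⟨C, hQC, hC⟩ := exists_normal_index_p_above (p := p) P.isPGroup' hQne
    haveI : Group.IsNilpotent P := P.isPGroup'.isNilpotent
    haveI := Subgroup.NormalizerCondition.normal_of_coatom M normalizerCondition_of_isNilpotent hM
    obtain ⟨D, hMD, hD⟩ := exists_normal_index_p_above (p := p) P.isPGroup' hM.1
    have hDne : D ≠ ⊤ := fun h => (Fact.out : p.Prime).ne_one (by rw [← hD, h, Subgroup.index_top])
    have hMD' : M = D := by
      rcases eq_or_lt_of_le hMD with h | h
      · exact h
      · exact absurd (hM.2 D h) hDne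
    obtain ⟨g, hg⟩ := hP.exists_generator
    have huniq : ∀ E : Subgroup (P : Subgroup G), E.index = p → E = Subgroup.zpowers (g ^ p) := by
      intro E hE
      haveI : IsMulCommutative (P : Subgroup G) := inferInstance
      haveI : E.Normal := ⟨fun n hn a => by rw [mul_comm' a n, mul_inv_cancel_right]; exact hn⟩
      have hgE : g ^ p ∈ E := by simpa only [hE] using E.pow_index_mem g
      refine (Subgroup.eq_of_le_of_card_ge (Subgroup.zpowers_le.2 hgE) ?_).symm
      have h1 := E.card_mul_index
      have hcard : orderOf g = Nat.card (P : Subgroup G) := orderOf_eq_card_of_forall_mem_zpowers hg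
      rw [Nat.card_zpowers, orderOf_pow, hcard, ← h1, hE, Nat.gcd_mul_left_left,
        Nat.mul_div_cancel _ (Fact.out : p.Prime).pos]
    have hDC : D = C := (huniq D hD).trans (huniq C hC).symm
    rw [hMD', hDC]
    exact hQC hx.1
  have h1 := hnpc_iff.1 (hnpc_normal_of_frattini (Cfsg.pResidual p G) P hQ)
  rw [pResidual_pResidual, Subgroup.card_top] at h1
  exact hnpc_iff.2 h1

end Cfsg.Agent.S0082
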