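import Cfsg.Statements.S0083
import Cfsg.Agent.Lib.Fusion.SmallSylow

set_option autoImplicit false
open Cfsg
open Cfsg.Agent.Fusion
open scoped commutatorElement

namespace Cfsg.Agent.S0083

/-- For an abelian Sylow p-subgroup P, a normal p-complement exists exactly when the normalizer of P is an internal direct product of P with some subgroup. -/
theorem result {G : Type*} [Group G] [Finite G] {p : ℕ} [Fact p.Prime] (P : Sylow p G) (hP : IsMulCommutative P) : Cfsg.HasNormalPComplement p G ↔ ∃ Q : Subgroup G, Q ≤ Subgroup.centralizer (P : Set G) ∧ Q ⊓ (P : Subgroup G) = ⊥ ∧ Q ⊔ (P : Subgroup G) = Subgroup.normalizer (P : Set G) := by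
  have hPC : (P : Subgroup G) ≤ Subgroup.centralizer (P : Set G) :=
    Subgroup.le_centralizer_iff_isMulCommutative.2 hP
  set N := Subgroup.normalizer (P : Set G) with hN
  constructor
  · intro h
    obtain ⟨R, hR⟩ := ((sylIn_top P).mono Subgroup.le_normalizer le_top :
      SylIn p (P : Subgroup G) N).exists_sylow_subgroupOf
    refine ⟨(Cfsg.pResidual p N).map N.subtype, ?_, ?_, ?_⟩
    · rintro _ ⟨g, hg, rfl⟩
      refine hnpc_centralize h P.isPGroup' g.2 ?_
      rw [N.subtype_apply, Subgroup.orderOf_coe]
      exact (hnpc_mem_iff (hnpc_subgroup h N)).1 hg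
    · refine coprime_inf_pGroup ?_ P.isPGroup'
      rw [Subgroup.card_map_of_injective N.subtype_injective]
      exact hnpc_iff.1 (hnpc_subgroup h N)
    · have h1 : (P : Subgroup G) = (R : Subgroup N).map N.subtype := by
        rw [hR]; exact (Subgroup.map_subgroupOf_eq_of_le Subgroup.le_normalizer).symm
      rw [h1, ← Subgroup.map_sup, pResidual_sup_sylow R, ← MonoidHom.range_eq_map,
        Subgroup.range_subtype]
  · rintro ⟨Q, h1, -, h3⟩
    exact hnpc_of_normalizer_le_centralizer P (h3.ge.trans (sup_le h1 hPC))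

end Cfsg.Agent.S0083
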