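import Cfsg.Statements.S0084
import Cfsg.Agent.Lib.Fusion.SmallSylow

set_option autoImplicit false
open Cfsg
open Cfsg.Agent.Fusion
open scoped commutatorElement

namespace Cfsg.Agent.S0084

/-- A group whose Sylow 2-subgroups are Klein four-groups and whose order is prime to 3 has a normal 2-complement. -/
theorem result {G : Type*} [Group G] [Finite G] (T : Sylow 2 G) (hT : IsKleinFour T) (h3 : ¬ 3 ∣ Nat.card G) : Cfsg.HasNormalPComplement 2 G := by
  have h4 : Nat.card (T : Subgroup G) = 4 := hT.card_four
  have hc : IsMulCommutative (T : Subgroup G) :=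
    ⟨⟨mul_comm_of_exponent_two hT.exponent_two⟩⟩
  refine hnpc_of_abelian_sylow_small T hc fun r hr hrG hr2 d hd hlt hdvd => ?_
  rw [h4] at hd hlt hdvd
  have hr3 : r ≠ 3 := fun h => h3 (h ▸ hrG)
  have hle := Nat.le_of_dvd (by omega) hdvd
  have := hr.two_le
  interval_cases d <;> omega

end Cfsg.Agent.S0084
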