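import Cfsg.Statements.S0085
import Cfsg.Agent.Lib.Fusion.SmallSylow

set_option autoImplicit false
open Cfsg
open Cfsg.Agent.Fusion
open scoped commutatorElement

namespace Cfsg.Agent.S0085

/-- A group whose Sylow 2-subgroups are elementary abelian of order 8 and whose order is prime to 3 and to 7 has a normal 2-complement. -/
theorem result {G : Type*} [Group G] [Finite G] (T : Sylow 2 G) (h8 : Nat.card T = 8) (he : ∀ x : T, x * x = 1) (h3 : ¬ 3 ∣ Nat.card G) (h7 : ¬ 7 ∣ Nat.card G) : Cfsg.HasNormalPComplement 2 G := by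
  have hc : IsMulCommutative (T : Subgroup G) := by
    refine ⟨⟨fun a b => ?_⟩⟩
    have ha : a⁻¹ = a := inv_eq_of_mul_eq_one_left (he a)
    have hb : b⁻¹ = b := inv_eq_of_mul_eq_one_left (he b)
    have hab : (a * b)⁻¹ = a * b := inv_eq_of_mul_eq_one_left (he _)
    rw [← hab, mul_inv_rev, ha, hb]
  refine hnpc_of_abelian_sylow_small T hc fun r hr hrG hr2 d hd hlt hdvd => ?_
  have h8' : Nat.card (T : Subgroup G) = 8 := h8
  rw [h8'] at hd hlt hdvd
  have hr3 : r ≠ 3 := fun h => h3 (h ▸ hrG)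
  have hr7 : r ≠ 7 := fun h => h7 (h ▸ hrG)
  have hle : r ≤ 8 := (Nat.le_of_dvd (by omega) hdvd).trans (Nat.sub_le _ _)
  have := hr.two_le
  interval_cases d <;> interval_cases r <;> first | omega | exact absurd hr (by norm_num)

end Cfsg.Agent.S0085
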