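import Cfsg.Statements.S0087
import Cfsg.Agent.Lib.Fusion.AbelianHall

set_option autoImplicit false
open Cfsg
open Cfsg.Agent.Fusion
open scoped commutatorElement

namespace Cfsg.Agent.S0087

/-- A Hall subgroup that is central in its normalizer has a normal complement. -/
theorem result {G : Type*} [Group G] [Finite G] (H : Subgroup G) (hHall : Nat.Coprime (Nat.card H) H.index) (h : Subgroup.normalizer (H : Set G) ≤ Subgroup.centralizer (H : Set G)) : ∃ N : Subgroup G, N.Normal ∧ N.IsComplement' H := by
  have hHa : H ≤ Subgroup.centralizer (H : Set G) := Subgroup.le_normalizer.trans h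
  letI : CommGroup H :=
    { (inferInstance : Group H) with
      mul_comm := fun a b => Subtype.ext (Subgroup.mem_centralizer_iff.1 (hHa b.2) a a.2) }
  have hfus : ∀ x ∈ H, ∀ g : G, g * x * g⁻¹ ∈ H → g * x * g⁻¹ = x := by
    intro x hx g hxg
    set y := g * x * g⁻¹ with hy
    set C := Subgroup.centralizer ({y} : Set G)
    have h1 : H ≤ C := hHa.trans (Subgroup.centralizer_le (by simpa using hxg))
    have hga : cj H g ≤ Subgroup.centralizer (cj H g : Set G) := by
      rw [← cj_centralizer]; exact cj_mono hHa g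
    have h2 : cj H g ≤ C := hga.trans (Subgroup.centralizer_le
      (Set.singleton_subset_iff.2 (conj_mem_cj (g := g) hx)))
    have hcard : Nat.card ((cj H g).subgroupOf C) = Nat.card (H.subgroupOf C) := by
      rw [Nat.card_congr (Subgroup.subgroupOfEquivOfLe h1).toEquiv,
        Nat.card_congr (Subgroup.subgroupOfEquivOfLe h2).toEquiv, card_cj]
    have hab : ∀ L : Subgroup G, L ≤ C → L ≤ Subgroup.centralizer (L : Set G) →
        L.subgroupOf C ≤ Subgroup.centralizer (L.subgroupOf C : Set C) := by
      intro L _ hL a ha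
      rw [Subgroup.mem_centralizer_iff]
      intro b hb
      exact Subtype.ext (Subgroup.mem_centralizer_iff.1 (hL ha) b hb)
    have hHall' : (Nat.card (H.subgroupOf C)).Coprime (H.subgroupOf C).index := by
      rw [Nat.card_congr (Subgroup.subgroupOfEquivOfLe h1).toEquiv]
      exact hHall.coprime_dvd_right (Subgroup.relIndex_dvd_index_of_le h1)
    obtain ⟨c, hc⟩ := abelianHall_conj hHall' hcard (hab H h1 hHa) (hab _ h2 hga)
    have h3 : (c : G) * g ∈ Subgroup.normalizer (H : Set G) := by
      refine mem_normalizer_of_cj_le ?_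
      rintro z hz
      rw [← cj_cj] at hz
      obtain ⟨w, hw, rfl⟩ := hz
      have h5 : (⟨(c : G) * w * (c : G)⁻¹, mul_mem (mul_mem c.2 (h2 hw)) (inv_mem c.2)⟩ : C) ∈
          cj ((cj H g).subgroupOf C) c :=
        ⟨⟨w, h2 hw⟩, hw, rfl⟩
      rw [hc] at h5
      exact h5
    have h4 := mem_centralizer_set.1 (h h3) x hx
    have hcy : y * (c : G) = (c : G) * y := Subgroup.mem_centralizer_iff.1 c.2 y rfl
    calc y = (c : G) * y * (c : G)⁻¹ := by rw [← hcy, mul_inv_cancel_right]
      _ = (c : G) * g * x * ((c : G) * g)⁻¹ := by rw [hy]; group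
      _ = x := h4
  have hV : ∀ x : H, MonoidHom.transfer (MonoidHom.id H) (x : G) = powCoprime hHall x := by
    intro x
    rw [MonoidHom.transfer_eq_pow (MonoidHom.id H) (x : G) (fun k g₀ hk => by
      have := hfus ((x : G) ^ k) (pow_mem x.2 k) g₀⁻¹ (by simpa using hk)
      simpa using this)]
    exact Subtype.ext rfl
  refine ⟨(MonoidHom.transfer (MonoidHom.id H)).ker, inferInstance,
    Subgroup.isComplement'_of_disjoint_and_mul_eq_univ (disjoint_iff.2 ?_) ?_⟩
  · rw [eq_bot_iff]
    rintro x ⟨hx1, hx2⟩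
    have h1 := hV ⟨x, hx2⟩
    rw [MonoidHom.mem_ker.1 hx1, ← powCoprime_one hHall] at h1
    exact congrArg Subtype.val ((powCoprime hHall).injective h1).symm
  · rw [← Subgroup.normal_mul, ← Subgroup.coe_top]
    congr 1
    rw [eq_top_iff]
    intro g _
    obtain ⟨x, hx⟩ := (powCoprime hHall).surjective (MonoidHom.transfer (MonoidHom.id H) g)
    rw [Subgroup.mem_sup_of_normal_left]
    refine ⟨g * (x : G)⁻¹, ?_, x, x.2, by group⟩
    rw [MonoidHom.mem_ker, map_mul, map_inv, hV, hx, mul_inv_cancel]

end Cfsg.Agent.S0087
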