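import Cfsg.Statements.S0088
import Cfsg.Agent.Lib.Fusion.TransferSplit

set_option autoImplicit false
open Cfsg
open Cfsg.Agent.Fusion
open scoped commutatorElement

namespace Cfsg.Agent.S0088

/-- An abelian Hall subgroup meets G' ∩ Z(G) trivially. -/
theorem result {G : Type*} [Group G] [Finite G] (H : Subgroup G) (hc : IsMulCommutative H) (hHall : Nat.Coprime (Nat.card H) H.index) : H ⊓ commutator G ⊓ Subgroup.center G = ⊥ := by
  rw [eq_bot_iff]
  rintro x ⟨⟨hxH, hxG'⟩, hxZ⟩
  letI : CommGroup H := { (inferInstance : Group H) with mul_comm := hc.is_comm.comm }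
  have h1 := transfer_central (MonoidHom.id H) hxH hxZ
  have h2 : MonoidHom.transfer (MonoidHom.id H) x = 1 :=
    Abelianization.commutator_subset_ker _ hxG'
  rw [h2, MonoidHom.id_apply, ← powCoprime_apply hHall, ← powCoprime_one hHall] at h1
  rw [Subgroup.mem_bot]
  exact congrArg Subtype.val ((powCoprime hHall).injective h1).symm

end Cfsg.Agent.S0088
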