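import Cfsg.Statements.S0090
import Cfsg.Agent.Lib.Fusion.CoprimeAbelian
import Cfsg.Agent.Lib.Solv.Coprime

set_option autoImplicit false
open Cfsg
open Cfsg.Agent.Fusion
open scoped commutatorElement

namespace Cfsg.Agent.S0090

/-- An abelian normal Hall subgroup A splits as the internal direct product of G' ∩ A and Z(G) ∩ A, and [A, G] = G' ∩ A. -/
theorem result {G : Type*} [Group G] [Finite G] (A : Subgroup G) [A.Normal] (hc : IsMulCommutative A) (hHall : Nat.Coprime (Nat.card A) A.index) : ⁅A, (⊤ : Subgroup G)⁆ = commutator G ⊓ A ∧ (commutator G ⊓ A) ⊓ (Subgroup.center G ⊓ A) = ⊥ ∧ (commutator G ⊓ A) ⊔ (Subgroup.center G ⊓ A) = A := by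
  obtain ⟨H, hH⟩ := Subgroup.exists_right_complement'_of_coprime hHall
  have hsup : A ⊔ H = ⊤ := hH.sup_eq_top
  haveI := hc
  have hAc : ∀ a ∈ A, ∀ b ∈ A, a * b = b * a := fun a ha b hb =>
    congrArg Subtype.val (mul_comm' (⟨a, ha⟩ : A) ⟨b, hb⟩)
  have hM1 : ⁅A, (⊤ : Subgroup G)⁆ ≤ commutator G ⊓ A :=
    le_inf (commutator_def G ▸ Subgroup.commutator_mono le_top le_rfl) (Subgroup.commutator_le_left A ⊤)
  have hfix : ∀ v ∈ ⁅A, (⊤ : Subgroup G)⁆, v ∈ Subgroup.center G → v = 1 := by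
    intro v hv hz
    haveI : (A.subgroupOf (⊤ : Subgroup G)).Normal := inferInstance
    refine eq_one_of_fixed_commutator (N₀ := A) hc (fun n hn a ha => ?_) ?_ hv (fun n _ => ?_)
    · rw [hAc n hn a ha, mul_inv_cancel_right]
    · rwa [Subgroup.relIndex_top_right]
    · rw [Subgroup.mem_center_iff.1 hz n, mul_inv_cancel_right]
  obtain ⟨M, hM⟩ : ∃ M, M = ⁅A, (⊤ : Subgroup G)⁆ := ⟨_, rfl⟩
  rw [← hM] at hM1 hfix ⊢
  haveI : M.Normal := hM ▸ inferInstance
  have hder : commutator G ≤ M ⊔ H := by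
    rw [commutator_def, Subgroup.commutator_le]
    intro g _ g' _
    obtain ⟨a, ha, h, hh, rfl⟩ := Subgroup.mem_sup_of_normal_left.1 (hsup ▸ Subgroup.mem_top g : g ∈ A ⊔ H)
    obtain ⟨a', ha', h', hh', rfl⟩ := Subgroup.mem_sup_of_normal_left.1 (hsup ▸ Subgroup.mem_top g' : g' ∈ A ⊔ H)
    have hcent : ∀ b ∈ A, ∀ y : G ⧸ M, (b : G ⧸ M) * y = y * (b : G ⧸ M) := fun b hb y => by
      obtain ⟨y, rfl⟩ := QuotientGroup.mk_surjective y
      refine commutatorElement_eq_one_iff_mul_comm.1 ?_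
      show ((⁅b, y⁆ : G) : G ⧸ M) = 1
      exact (QuotientGroup.eq_one_iff _).2 (hM ▸ Subgroup.commutator_mem_commutator hb (Subgroup.mem_top y))
    have e : ((⁅a * h, a' * h'⁆ : G) : G ⧸ M) = ((⁅h, h'⁆ : G) : G ⧸ M) := by
      rw [commutatorElement_def, commutatorElement_def]
      simp only [QuotientGroup.mk_mul, QuotientGroup.mk_inv, mul_inv_rev]
      have c1 := hcent a ha
      have c2 := hcent a' ha'
      generalize (a : G ⧸ M) = x at c1 ⊢
      generalize (a' : G ⧸ M) = x' at c2 ⊢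
      generalize (h : G ⧸ M) = y
      generalize (h' : G ⧸ M) = y'
      calc x * y * (x' * y') * (y⁻¹ * x⁻¹) * (y'⁻¹ * x'⁻¹)
          = x * (y * x') * y' * y⁻¹ * x⁻¹ * y'⁻¹ * x'⁻¹ := by group
        _ = x * x' * (y * y' * y⁻¹) * x⁻¹ * y'⁻¹ * x'⁻¹ := by rw [← c2 y]; group
        _ = x' * (x * (y * y' * y⁻¹)) * x⁻¹ * y'⁻¹ * x'⁻¹ := by rw [← c2 x]; group
        _ = x' * (y * y' * y⁻¹ * y'⁻¹) * x'⁻¹ := by rw [c1, mul_assoc x', mul_inv_cancel_right]; group
        _ = y * y' * y⁻¹ * y'⁻¹ := by rw [c2, mul_inv_cancel_right]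
    have h2 := QuotientGroup.eq.1 e
    have h3 : ⁅h, h'⁆ ∈ H := by
      rw [commutatorElement_def]; exact mul_mem (mul_mem (mul_mem hh hh') (inv_mem hh)) (inv_mem hh')
    have := (M ⊔ H).mul_mem (Subgroup.mem_sup_right h3) ((M ⊔ H).inv_mem (Subgroup.mem_sup_left h2))
    rwa [mul_inv_rev, inv_inv, mul_inv_cancel_left] at this
  have hMeq : commutator G ⊓ A = M := by
    refine le_antisymm (fun x hx => ?_) hM1
    obtain ⟨hx1, hx2⟩ := Subgroup.mem_inf.1 hx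
    obtain ⟨m, hm, k, hk, rfl⟩ := Subgroup.mem_sup_of_normal_left.1 (hder hx1)
    have hkA : k ∈ A ⊓ H := Subgroup.mem_inf.2 ⟨by
      have := mul_mem (inv_mem (Subgroup.mem_inf.1 (hM1 hm)).2) hx2
      rwa [inv_mul_cancel_left] at this, hk⟩
    rw [hH.disjoint.eq_bot, Subgroup.mem_bot] at hkA
    rwa [hkA, mul_one]
  have hcop : (Nat.card H).Coprime (Nat.card A) := by
    rw [← hH.symm.index_eq_card]; exact hHall.symm
  have hdec := Cfsg.Agent.Solv.commutator_sup_fixed (A := H) (K := A)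
    (by rw [Subgroup.normalizer_eq_top]; exact le_top) hcop
    (Or.inr ⟨⟨1, by rw [derivedSeries_one]; exact (Subgroup.commutator_eq_bot_iff_le_centralizer).2 fun x _ =>
      Subgroup.mem_centralizer_iff.2 fun y _ => mul_comm' y x⟩⟩)
  refine ⟨hMeq.symm, ?_, le_antisymm (sup_le inf_le_right inf_le_right) ?_⟩
  · rw [hMeq, eq_bot_iff]
    intro x hx
    exact Subgroup.mem_bot.2 (hfix x (Subgroup.mem_inf.1 hx).1 (Subgroup.mem_inf.1 (Subgroup.mem_inf.1 hx).2).1)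
  · conv_lhs => rw [← hdec]
    refine sup_le ((Subgroup.commutator_mono le_rfl le_top).trans (hMeq ▸ hM.ge.trans le_sup_left))
      (le_sup_of_le_right fun x hx => ?_)
    obtain ⟨hxA, hxH⟩ := Subgroup.mem_inf.1 hx
    refine Subgroup.mem_inf.2 ⟨Subgroup.mem_center_iff.2 fun g => ?_, hxA⟩
    obtain ⟨a, ha, h, hh, rfl⟩ := Subgroup.mem_sup_of_normal_left.1 (hsup ▸ Subgroup.mem_top g : g ∈ A ⊔ H)
    rw [mul_assoc, Subgroup.mem_centralizer_iff.1 hxH h hh, ← mul_assoc, hAc a ha x hxA, mul_assoc]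

end Cfsg.Agent.S0090
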