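import Cfsg.Statements.S0091
import Cfsg.Agent.Lib.Fusion.NPC

set_option autoImplicit false
open Cfsg
open Cfsg.Agent.Fusion
open scoped commutatorElement

namespace Cfsg.Agent.S0091

/-- If a nontrivial Sylow p-subgroup controls its own fusion then it is not contained in the derived subgroup. -/
theorem result {G : Type*} [Group G] [Finite G] {p : ℕ} [Fact p.Prime] (P : Sylow p G) (hp : p ∣ Nat.card G) (h : ∀ x ∈ P, ∀ y ∈ P, (∃ g : G, g * x * g⁻¹ = y) → ∃ z ∈ P, z * x * z⁻¹ = y) : ¬ (P : Subgroup G) ≤ commutator G := by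
  intro hle
  have hne : (P : Subgroup G) ≠ ⊥ := P.ne_bot_of_dvd_card hp
  refine not_le_commutator_pgroup P.isPGroup' le_rfl hne ?_
  calc (P : Subgroup G) = (P : Subgroup G) ⊓ commutator G := (inf_eq_left.2 hle).symm
    _ = focalIn (P : Subgroup G) ⊤ := inf_commutator_eq_focalIn_top (sylIn_top P)
    _ ≤ ⁅(P : Subgroup G), (P : Subgroup G)⁆ := by
      refine (Subgroup.closure_le _).2 ?_
      rintro _ ⟨x, hx, g, -, hxg, rfl⟩
      obtain ⟨s, hs, hse⟩ := h x hx _ hxg ⟨g, rfl⟩
      rw [← hse]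
      have := Subgroup.commutator_mem_commutator (inv_mem hx) hs
      simpa [commutatorElement_def, mul_assoc] using this

end Cfsg.Agent.S0091
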