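import Cfsg.Statements.S0092
import Cfsg.Agent.Lib.Fusion.Cores
import Cfsg.Agent.Lib.Fusion.Basic
import Cfsg.Agent.Lib.Solv.SZ

set_option autoImplicit false
open Cfsg
open Cfsg.Agent.Fusion
open scoped commutatorElement

namespace Cfsg.Agent.S0092

open scoped Pointwise

open scoped Pointwise IsMulCommutative in
/-- A subgroup centralized by the normalizer of an abelian Sylow subgroup vanishes under a residual. -/
theorem central_in_normalizer_eq_one {G : Type*} [Group G] [Finite G] {p : ℕ} [Fact p.Prime]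
    {K : Subgroup G} (hK : K = pResidual p G) (Q : Sylow p K) [IsMulCommutative (Q : Subgroup K)] {x : K}
    (hx : x ∈ (Q : Subgroup K)) (hc : ∀ n ∈ Subgroup.normalizer ((Q : Subgroup K) : Set K), n * x = x * n) :
    x = 1 := by
  have key : ∀ (j : ℕ) (k₀ : K), k₀⁻¹ * x ^ j * k₀ ∈ (Q : Subgroup K) → k₀⁻¹ * x ^ j * k₀ = x ^ j := by
    intro j k₀ hj
    obtain ⟨n, hn, he⟩ := Q.conj_eq_normalizer_conj_of_mem (x ^ j) k₀ (pow_mem hx j) hj
    rw [he, mul_assoc, inv_mul_eq_iff_eq_mul]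
    exact (((show Commute n x from hc n hn).pow_right j).eq).symm
  haveI : (Q : Subgroup K).FiniteIndex := Subgroup.finiteIndex_of_finite
  let V : K →* (Q : Subgroup K) := MonoidHom.transfer (MonoidHom.id (Q : Subgroup K))
  have hV : ∀ k : K, V k = 1 := by
    rintro ⟨g, hg⟩
    have hg' : g ∈ pResidual p G := hK ▸ hg
    revert hg
    induction hg' using Subgroup.closure_induction with
    | mem g hgo =>
      intro hg
      obtain ⟨i, hi⟩ := IsPGroup.iff_orderOf.1 Q.2 (V ⟨g, hg⟩)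
      refine orderOf_eq_one_iff.1 (Nat.eq_one_of_dvd_coprimes ((hgo : (orderOf g).Coprime p).pow_right i)
        ((orderOf_map_dvd V _).trans (dvd_of_eq (Subgroup.orderOf_mk g hg))) (dvd_of_eq hi))
    | one => intro hg; exact map_one V
    | mul a b ha hb iha ihb =>
      intro hg
      have haK : a ∈ K := hK ▸ ha
      have hbK : b ∈ K := hK ▸ hb
      rw [show (⟨a * b, hg⟩ : K) = ⟨a, haK⟩ * ⟨b, hbK⟩ from rfl, map_mul, iha haK, ihb hbK, mul_one]
    | inv a ha iha =>
      intro hg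
      have haK : a ∈ K := hK ▸ ha
      rw [show (⟨a⁻¹, hg⟩ : K) = ⟨a, haK⟩⁻¹ from rfl, map_inv, iha haK, inv_one]
  have h1 := hV x
  rw [MonoidHom.transfer_eq_pow _ _ key] at h1
  have h2 : x ^ (Q : Subgroup K).index = 1 := congrArg Subtype.val h1
  obtain ⟨i, hi⟩ := IsPGroup.iff_orderOf.1 Q.2 ⟨x, hx⟩
  rw [Subgroup.orderOf_mk] at hi
  exact orderOf_eq_one_iff.1 (Nat.eq_one_of_dvd_coprimes
    (Nat.Coprime.pow_left i ((Fact.out : p.Prime).coprime_iff_not_dvd.2 Q.not_dvd_index))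
    (dvd_of_eq hi) (orderOf_dvd_of_pow_eq_one h2))


/-- If the Sylow p-subgroups of O^p(G) are abelian then G splits over O^p(G). -/
theorem result {G : Type*} [Group G] [Finite G] {p : ℕ} [Fact p.Prime] (h : ∀ Q : Sylow p (Cfsg.pResidual p G), IsMulCommutative Q) : ∃ K : Subgroup G, K.IsComplement' (Cfsg.pResidual p G) := by
  classical
  set K := Cfsg.pResidual p G with hK
  obtain ⟨Q₀⟩ : Nonempty (Sylow p K) := inferInstance
  haveI := h Q₀
  set Pg := (Q₀ : Subgroup K).map K.subtype with hPg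
  have hPK : Pg ≤ K := Subgroup.map_subtype_le _
  have hS : SylIn p Pg K := ⟨hPK, Q₀.2.map _, fun x => by
    rw [hPg, Subgroup.relIndex, Subgroup.subgroupOf,
      Subgroup.comap_map_eq_self_of_injective K.subtype_injective] at x
    exact Q₀.not_dvd_index x⟩
  set N := Subgroup.normalizer (Pg : Set G) with hN
  set L := N ⊓ K with hL
  have hPL : Pg ≤ L := le_inf Subgroup.le_normalizer hPK
  haveI : (Pg.subgroupOf L).Normal :=
    (Subgroup.normal_subgroupOf_iff_le_normalizer hPL).2 inf_le_left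
  have hSL : SylIn p Pg L := hS.mono hPL inf_le_right
  obtain ⟨QL, hQL⟩ := hSL.exists_sylow_subgroupOf
  have hco : (Nat.card (Pg.subgroupOf L)).Coprime (Pg.subgroupOf L).index := hQL ▸ QL.card_coprime_index
  obtain ⟨R', hR'⟩ := Subgroup.exists_right_complement'_of_coprime hco
  set Rg := R'.map L.subtype with hRg
  have hRL : Rg ≤ L := Subgroup.map_subtype_le _
  have hRcard : Nat.card R' = (Pg.subgroupOf L).index := hR'.symm.index_eq_card.symm
  have hPc : ∀ x ∈ Pg, ∀ y ∈ Pg, x * y = y * x := by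
    rintro _ ⟨x, hx, rfl⟩ _ ⟨y, hy, rfl⟩
    exact congrArg (fun u : (Q₀ : Subgroup K) => ((u : K) : G)) ((h Q₀).1.1 ⟨x, hx⟩ ⟨y, hy⟩)
  haveI : IsMulCommutative (Pg.subgroupOf L) :=
    ⟨⟨fun a b => Subtype.ext (Subtype.ext (hPc _ a.2 _ b.2))⟩⟩
  have hsol : Group.IsSolvable (Pg.subgroupOf L) ∨ Group.IsSolvable R' :=
    Or.inl (Group.isSolvable_of_comm fun a b => mul_comm' a b)
  have hLsup : Pg ⊔ Rg = L := by
    have := congrArg (Subgroup.map L.subtype) hR'.sup_eq_top
    rwa [Subgroup.map_sup, Subgroup.map_subgroupOf_eq_of_le hPL, ← MonoidHom.range_eq_map,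
      Subgroup.range_subtype] at this
  have hfr : ∀ n ∈ N, ∃ a ∈ Pg, a⁻¹ * n ∈ Subgroup.normalizer (Rg : Set G) ⊓ N := by
    intro n hn
    have hKn : cj K n = K := cj_of_normal K n
    have hLn : cj L n = L := by rw [hL, cj_inf, hKn, cj_eq_self (Subgroup.le_normalizer hn)]
    have hle : cj Rg n ≤ L := hLn ▸ cj_mono hRL n
    have hc : Nat.card ((cj Rg n).subgroupOf L) = (Pg.subgroupOf L).index := by
      rw [Nat.card_congr (Subgroup.subgroupOfEquivOfLe hle).toEquiv, card_cj, hRg,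
        Subgroup.card_map_of_injective L.subtype_injective, hRcard]
    obtain ⟨a, ha, hae⟩ := Solv.sz_conj (Pg.subgroupOf L) R' ((cj Rg n).subgroupOf L) hco hRcard hc hsol
    have he : MulAut.conj (a : G) • Rg = cj Rg n := by
      refine Solv.subgroupOf_conj_eq hRL hle a ?_
      rwa [show Rg.subgroupOf L = R' from Subgroup.comap_map_eq_self_of_injective L.subtype_injective R']
    refine ⟨a, ha, Subgroup.mem_inf.2 ⟨?_, mul_mem (inv_mem (Subgroup.le_normalizer ha)) hn⟩⟩
    rw [mem_normalizer_iff_cj, ← cj_cj, show cj Rg n = cj Rg (a : G) from he.symm, cj_cj_inv]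
  set M := Subgroup.normalizer (Rg : Set G) ⊓ N with hM
  obtain ⟨S₀⟩ : Nonempty (Sylow p M) := inferInstance
  set S := (S₀ : Subgroup M).map M.subtype with hSdef
  have hdis : S ⊓ K = ⊥ := by
    rw [eq_bot_iff]
    rintro x ⟨⟨x', hx', rfl⟩, hxK⟩
    have hxL : (x' : G) ∈ L := ⟨(Subgroup.mem_inf.1 x'.2).2, hxK⟩
    have hxP : (x' : G) ∈ Pg := by
      obtain ⟨l, hl, hle⟩ := hSL.conj_le (Q := Subgroup.zpowers (x' : G))
        ((S₀.2.map M.subtype).to_le (Subgroup.zpowers_le.2 ⟨x', hx', rfl⟩)) (Subgroup.zpowers_le.2 hxL)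
      have := hle ⟨x', Subgroup.mem_zpowers _, rfl⟩
      exact (Subgroup.mem_normalizer_iff.1 (Subgroup.mem_inf.1 hl).1 _).2 this
    have hcR : ∀ r ∈ Rg, Commute (x' : G) r := by
      intro r hr
      have h1 : ⁅(x' : G), r⁆ ∈ Pg ⊓ Rg := by
        refine Subgroup.mem_inf.2 ⟨?_, ?_⟩
        · rw [commutatorElement_def, mul_assoc (x' : G), mul_assoc (x' : G)]
          exact mul_mem hxP ((Subgroup.mem_normalizer_iff.1 (Subgroup.mem_inf.1 (hRL hr)).1 _).1 (inv_mem hxP))
        · rw [commutatorElement_def]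
          exact mul_mem ((Subgroup.mem_normalizer_iff.1 (Subgroup.mem_inf.1 x'.2).1 r).1 hr) (inv_mem hr)
      have hinf : Pg ⊓ Rg = ⊥ := by
        rw [← Subgroup.map_subgroupOf_eq_of_le hPL, hRg, ← Subgroup.map_inf _ _ _ L.subtype_injective,
          hR'.disjoint.eq_bot, Subgroup.map_bot]
      rw [hinf, Subgroup.mem_bot] at h1
      exact commutatorElement_eq_one_iff_mul_comm.1 h1
    have hcL : L ≤ Subgroup.centralizer ({(x' : G)} : Set G) := hLsup ▸ sup_le
      (fun y hy => Subgroup.mem_centralizer_singleton_iff.2 (hPc y hy _ hxP))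
      (fun r hr => Subgroup.mem_centralizer_singleton_iff.2 (hcR r hr).eq.symm)
    obtain ⟨x'', hx''Q, hxe⟩ := hxP
    have hone : x'' = 1 := central_in_normalizer_eq_one hK Q₀ hx''Q fun m hm => by
      refine Subtype.ext ?_
      have hmL : (m : G) ∈ L := by
        refine ⟨mem_normalizer_of_cj_le ?_, m.2⟩
        rintro _ ⟨_, ⟨q, hq, rfl⟩, rfl⟩
        exact ⟨m * q * m⁻¹, (Subgroup.mem_normalizer_iff.1 hm q).1 hq, rfl⟩
      show (m : G) * (x'' : G) = x'' * m
      rw [show (x'' : G) = x' from hxe]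
      exact Subgroup.mem_centralizer_singleton_iff.1 (hcL hmL)
    rw [Subgroup.mem_bot, show M.subtype x' = K.subtype x'' from hxe.symm, hone, map_one]
  have hsup : S ⊔ K = ⊤ := by
    set π := QuotientGroup.mk' K
    have hsurj : Function.Surjective (π.comp M.subtype) := by
      intro w
      obtain ⟨g, rfl⟩ := QuotientGroup.mk'_surjective K w
      obtain ⟨l, hl, he⟩ := (hS.cj' (g := g⁻¹)
        (by rw [Subgroup.normalizer_eq_top]; exact Subgroup.mem_top _)).conj_eq hS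
      have hn : (l * g⁻¹)⁻¹ ∈ N := inv_mem (mem_normalizer_iff_cj.2 (by rw [← cj_cj]; exact he))
      obtain ⟨a, ha, hm⟩ := hfr _ hn
      refine ⟨⟨_, hm⟩, QuotientGroup.eq.2 ?_⟩
      show (a⁻¹ * (l * g⁻¹)⁻¹)⁻¹ * g ∈ K
      rw [show (a⁻¹ * (l * g⁻¹)⁻¹)⁻¹ * g = l * (g⁻¹ * a * g) by group]
      exact mul_mem hl (by simpa using (inferInstance : K.Normal).conj_mem a (hPK ha) g⁻¹)
    have htop : ((S₀.mapSurjective hsurj : Sylow p (G ⧸ K)) : Subgroup (G ⧸ K)) = ⊤ := by
      refine ((S₀.mapSurjective hsurj).3 ?_ le_top).symm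
      exact IsPGroup.to_subgroup isPGroup_quotient_pResidual ⊤
    refine eq_top_iff.2 fun g _ => ?_
    have hg : π g ∈ ((S₀.mapSurjective hsurj : Sylow p (G ⧸ K)) : Subgroup (G ⧸ K)) := htop ▸ trivial
    rw [Sylow.coe_mapSurjective] at hg
    obtain ⟨s, hs, he⟩ := hg
    rw [show g = (s : G) * ((s : G)⁻¹ * g) by group]
    exact mul_mem (Subgroup.mem_sup_left ⟨s, hs, rfl⟩) (Subgroup.mem_sup_right (QuotientGroup.eq.1 he))
  refine ⟨S, Subgroup.isComplement'_of_disjoint_and_mul_eq_univ (disjoint_iff.2 hdis) ?_⟩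
  rw [← Subgroup.mul_normal, hsup, Subgroup.coe_top]

end Cfsg.Agent.S0092
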