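import Cfsg.Statements.S0094
import Cfsg.Agent.Lib.Solv.PGroupPhi

set_option autoImplicit false
open Cfsg
open Cfsg.Agent.Fusion
open scoped commutatorElement

namespace Cfsg.Agent.S0094

/-- In a special p-group every central element has order dividing p. -/
theorem result {P : Type*} [Group P] [Finite P] {p : ℕ} [Fact p.Prime] (h : Cfsg.IsSpecial p P) (z : P) (hz : z ∈ Subgroup.center P) : z ^ p = 1 := by
  obtain ⟨hP, hfr, hcm⟩ := h
  have hle : commutator P ≤ Subgroup.center P := hcm.le
  have hgen : ∀ a b : P, ⁅a, b⁆ ^ p = 1 := fun a b => by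
    have hcent : a ^ p ∈ Subgroup.center P := hfr ▸ Cfsg.Agent.Solv.pow_mem_frattini hP a
    have hc : ⁅a, b⁆ ∈ Subgroup.center P :=
      hle (commutator_def P ▸ Subgroup.commutator_mem_commutator (Subgroup.mem_top a) (Subgroup.mem_top b))
    have key : ∀ k : ℕ, a ^ k * b * (a ^ k)⁻¹ = ⁅a, b⁆ ^ k * b := by
      intro k
      induction k with
      | zero => simp
      | succ k ih =>
        calc a ^ (k + 1) * b * (a ^ (k + 1))⁻¹ = a * (a ^ k * b * (a ^ k)⁻¹) * a⁻¹ := by
              rw [pow_succ']; group
          _ = a * ⁅a, b⁆ ^ k * b * a⁻¹ := by rw [ih]; group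
          _ = ⁅a, b⁆ ^ k * (a * b * a⁻¹) := by
              rw [Subgroup.mem_center_iff.1 (pow_mem hc k) a]; group
          _ = ⁅a, b⁆ ^ (k + 1) * b := by
              rw [pow_succ, commutatorElement_def]; group
    have h1 := key p
    rw [← Subgroup.mem_center_iff.1 hcent b, mul_inv_cancel_right] at h1
    exact mul_eq_right.1 h1.symm
  rw [← hcm] at hz
  rw [commutator_eq_closure] at hz hle
  induction hz using Subgroup.closure_induction with
  | mem x hx => obtain ⟨a, b, rfl⟩ := hx; exact hgen a b
  | one => exact one_pow p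
  | mul x y hx hy ihx ihy =>
    rw [(show Commute x y from (Subgroup.mem_center_iff.1 (hle hx) y).symm).mul_pow, ihx, ihy, one_mul]
  | inv x _ ih => rw [inv_pow, ih, inv_one]

end Cfsg.Agent.S0094
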