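import Cfsg.Statements.S0097
import Cfsg.Agent.Lib.Fusion.SmallClassPow
import Cfsg.Agent.Lib.Solv.PGroupPhi

set_option autoImplicit false
open Cfsg
open Cfsg.Agent.Fusion
open scoped commutatorElement

namespace Cfsg.Agent.S0097

/-- For odd p and E extraspecial, the subgroup generated by the elements of order dividing p has exponent dividing p and index at most p. -/
theorem result {E : Type*} [Group E] [Finite E] {p : ℕ} [Fact p.Prime] (hp : p ≠ 2) (h : Cfsg.IsExtraspecial p E) : (Subgroup.closure {x : E | x ^ p = 1}).index ≤ p ∧ ∀ g ∈ Subgroup.closure {x : E | x ^ p = 1}, g ^ p = 1 := by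
  obtain ⟨⟨hP, hfr, hcm⟩, hZ⟩ := h
  have h2 : ⁅commutator E, (⊤ : Subgroup E)⁆ = ⊥ := by
    rw [Subgroup.commutator_eq_bot_iff_le_centralizer, hcm, Subgroup.coe_top, Subgroup.centralizer_univ]
  have hsc : SmallClass p E := Or.inl ⟨hp, h2⟩
  refine ⟨?_, fun g hg => pow_eq_one_of_mem_closure hsc hg⟩
  have hZp : ∀ z ∈ Subgroup.center E, z ^ p = 1 := fun z hz => by
    have := congrArg Subtype.val (pow_card_eq_one' (x := (⟨z, hz⟩ : Subgroup.center E)))
    rw [hZ] at this
    exact this
  let f : E →* E := MonoidHom.mk' (fun x => x ^ p) fun x y => by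
    obtain ⟨u, a, b, hu, ha', hb', h1, h2', h3, ha, hb, hp2, hcase⟩ := exists_collect hsc x y
    rw [hcm] at hu ha' hb'
    rw [mul_pow_class_three h1 h2' h3 ha hb, mul_assoc (x ^ p * y ^ p), mul_assoc (x ^ p * y ^ p),
      pow_eq_of_collect hp2 (hZp u hu) (hZp a ha') (hZp b hb') hcase, mul_one]
  have hf : f.range ≤ Subgroup.center E := by
    rintro _ ⟨x, rfl⟩
    rw [← hfr]
    exact Cfsg.Agent.Solv.pow_mem_frattini hP x
  refine le_trans ?_ (hZ ▸ Subgroup.card_le_of_le hf)
  rw [← Nat.card_congr (QuotientGroup.quotientKerEquivRange f).toEquiv, ← Subgroup.index_eq_card]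
  exact Nat.le_of_dvd (Nat.pos_of_ne_zero Subgroup.index_ne_zero_of_finite)
    (Subgroup.index_dvd_of_le fun x hx => Subgroup.subset_closure hx)

end Cfsg.Agent.S0097
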