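import Cfsg.Statements.S0099
import Cfsg.Agent.Lib.Solv.ExtraspecialTwo

set_option autoImplicit false
open Cfsg
open Cfsg.Agent.Fusion
open scoped commutatorElement

namespace Cfsg.Agent.S0099

set_option linter.style.haveILetI false
open Cfsg.Agent.Solv.ExtTwo

/-- Among three extraspecial 2-groups of equal order, some two are isomorphic. -/
theorem result {E₁ : Type*} {E₂ : Type*} {E₃ : Type*} [Group E₁] [Group E₂] [Group E₃] [Finite E₁] [Finite E₂] [Finite E₃] (h₁ : Cfsg.IsExtraspecial 2 E₁) (h₂ : Cfsg.IsExtraspecial 2 E₂) (h₃ : Cfsg.IsExtraspecial 2 E₃) (h12 : Nat.card E₁ = Nat.card E₂) (h23 : Nat.card E₂ = Nat.card E₃) : Nonempty (E₁ ≃* E₂) ∨ Nonempty (E₂ ≃* E₃) ∨ Nonempty (E₁ ≃* E₃) := by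
  haveI : Fact (Nat.Prime 2) := ⟨Nat.prime_two⟩
  obtain ⟨n, hn1, hn, -⟩ := Cfsg.Agent.Solv.extraspecial_card h₁
  obtain ⟨z₁, hz₁⟩ := of_extraspecial h₁
  obtain ⟨z₂, hz₂⟩ := of_extraspecial h₂
  obtain ⟨z₃, hz₃⟩ := of_extraspecial h₃
  have hn2 := h12 ▸ hn
  have hn3 := h23 ▸ hn2
  obtain ⟨hR1, hi12⟩ := Solv.ExtTwo.main n hn1 E₁ z₁ hz₁ hn
  obtain ⟨hR2, hi23⟩ := Solv.ExtTwo.main n hn1 E₂ z₂ hz₂ hn2
  obtain ⟨-, hi13⟩ := Solv.ExtTwo.main n hn1 E₁ z₁ hz₁ hn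
  obtain ⟨hR3, -⟩ := Solv.ExtTwo.main.{_, 0} n hn1 E₃ z₃ hz₃ hn3
  have key12 : ∀ m, IsRk E₁ m → IsRk E₂ m → Nonempty (E₁ ≃* E₂) := fun m a b => by
    obtain ⟨e, -⟩ := hi12 E₂ z₂ hz₂ hn2 m a b
    exact ⟨e⟩
  have key23 : ∀ m, IsRk E₂ m → IsRk E₃ m → Nonempty (E₂ ≃* E₃) := fun m a b => by
    obtain ⟨e, -⟩ := hi23 E₃ z₃ hz₃ hn3 m a b
    exact ⟨e⟩
  have key13 : ∀ m, IsRk E₁ m → IsRk E₃ m → Nonempty (E₁ ≃* E₃) := fun m a b => by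
    obtain ⟨e, -⟩ := hi13 E₃ z₃ hz₃ hn3 m a b
    exact ⟨e⟩
  rcases hR1 with a | a <;> rcases hR2 with b | b <;> rcases hR3 with c | c
  all_goals first
    | exact Or.inl (key12 _ a b)
    | exact Or.inr (Or.inl (key23 _ b c))
    | exact Or.inr (Or.inr (key13 _ a c))

end Cfsg.Agent.S0099
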