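import Cfsg.Statements.S0101
import Cfsg.Agent.Lib.Fusion.TransferSplit

set_option autoImplicit false
open Cfsg
open Cfsg.Agent.Fusion
open scoped commutatorElement

namespace Cfsg.Agent.S0101

/-- In a perfect central extension, the kernel meets each Sylow p-subgroup P inside the Frattini subgroup of P. -/
theorem result {H : Type*} {G : Type*} [Group H] [Group G] [Finite H] (σ : H →* G) (hσ : Function.Surjective σ) (hc : σ.ker ≤ Subgroup.center H) (hH : commutator H = ⊤) {p : ℕ} [Fact p.Prime] (P : Sylow p H) : σ.ker ⊓ (P : Subgroup H) ≤ (frattini P).map (P : Subgroup H).subtype := by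
  intro z hz
  refine ⟨⟨z, hz.2⟩, ?_, rfl⟩
  rw [SetLike.mem_coe, frattini, Order.radical, Subgroup.mem_iInf]
  intro M
  rw [Subgroup.mem_iInf]
  intro hM
  haveI : Group.IsNilpotent P := P.isPGroup'.isNilpotent
  haveI := Subgroup.NormalizerCondition.normal_of_coatom M normalizerCondition_of_isNilpotent hM
  obtain ⟨D, hMD, hD⟩ := exists_normal_index_p_above (p := p) P.isPGroup' hM.1
  have hMD' : M = D := by
    rcases eq_or_lt_of_le hMD with h | h
    · exact h
    · exact absurd (hM.2 D h) fun h' => (Fact.out : p.Prime).ne_one (by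
        rw [← hD, h', Subgroup.index_top])
  rw [← hMD', Subgroup.index_eq_card] at hD
  haveI : IsCyclic ((P : Subgroup H) ⧸ M) := isCyclic_of_prime_card hD
  letI := IsCyclic.commGroup (α := (P : Subgroup H) ⧸ M)
  have h1 := transfer_central (QuotientGroup.mk' M) hz.2 (hc hz.1)
  have h2 : MonoidHom.transfer (QuotientGroup.mk' M) z = 1 :=
    Abelianization.commutator_subset_ker _ (hH ▸ Subgroup.mem_top z)
  rw [h2] at h1
  have h4 := orderOf_dvd_of_pow_eq_one h1.symm
  by_contra hzM
  have h5 : orderOf (QuotientGroup.mk' M ⟨z, hz.2⟩) = p := by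
    rcases (Nat.dvd_prime (Fact.out : p.Prime)).1 (hD ▸ orderOf_dvd_natCard (QuotientGroup.mk' M ⟨z, hz.2⟩)) with h | h
    · exact absurd ((QuotientGroup.eq_one_iff _).1 (orderOf_eq_one_iff.1 h)) hzM
    · exact h
  rw [h5] at h4
  exact P.not_dvd_index h4

end Cfsg.Agent.S0101
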