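import Cfsg.Statements.S0102
import Cfsg.Agent.Lib.Fusion.TransferSplit

set_option autoImplicit false
open Cfsg
open Cfsg.Agent.Fusion
open scoped commutatorElement

namespace Cfsg.Agent.S0102

/-- A finite perfect group with cyclic Sylow p-subgroups has no perfect central extension whose kernel has order divisible by p. -/
theorem result {G : Type*} {H : Type*} [Group G] [Group H] [Finite G] [Finite H] (hG : commutator G = ⊤) {p : ℕ} [Fact p.Prime] (hcyc : ∀ P : Sylow p G, IsCyclic P) (σ : H →* G) (hσ : Function.Surjective σ) (hz : σ.ker ≤ Subgroup.center H) (hH : commutator H = ⊤) : ¬ p ∣ Nat.card σ.ker := by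
  have hzl : σ.ker ≤ Subgroup.center H := ‹σ.ker ≤ Subgroup.center H›
  intro hdvd
  obtain ⟨z, hz⟩ := exists_prime_orderOf_dvd_card' p hdvd
  have hzc : (z : H) ∈ Subgroup.center H := hzl z.2
  obtain ⟨P, hP⟩ := (IsPGroup.of_card (p := p) (n := 1)
    (by rw [Nat.card_zpowers, Subgroup.orderOf_coe, hz, pow_one]) :
      IsPGroup p (Subgroup.zpowers (z : H))).exists_le_sylow
  haveI : IsCyclic (P.mapSurjective hσ : Subgroup G) := hcyc _
  have hPc : IsMulCommutative P := by
    let f : (P : Subgroup H) →* ((P : Subgroup H).map σ) := σ.subgroupMap (P : Subgroup H)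
    haveI : IsCyclic ((P : Subgroup H).map σ) := ‹IsCyclic (P.mapSurjective hσ : Subgroup G)›
    have hf : f.ker ≤ Subgroup.center (P : Subgroup H) := by
      intro x hx
      rw [Subgroup.mem_center_iff]
      intro y
      have hx' : σ (x : H) = 1 := congrArg Subtype.val hx
      exact Subtype.ext (Subgroup.mem_center_iff.1 (hzl hx') (y : H))
    exact ⟨⟨commutative_of_cyclic_center_quotient f hf⟩⟩
  letI : CommGroup (P : Subgroup H) :=
    { (inferInstance : Group (P : Subgroup H)) with mul_comm := hPc.is_comm.comm }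
  have hzP : (z : H) ∈ (P : Subgroup H) := hP (Subgroup.mem_zpowers _)
  have h1 := transfer_central (MonoidHom.id (P : Subgroup H)) hzP hzc
  have h2 : MonoidHom.transfer (MonoidHom.id (P : Subgroup H)) (z : H) = 1 :=
    Abelianization.commutator_subset_ker _ (hH ▸ Subgroup.mem_top _)
  rw [h2, MonoidHom.id_apply] at h1
  have h3 := congrArg Subtype.val h1
  simp only [OneMemClass.coe_one, SubmonoidClass.coe_pow] at h3
  have h4 := orderOf_dvd_of_pow_eq_one h3.symm
  rw [Subgroup.orderOf_coe, hz] at h4
  exact P.not_dvd_index h4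

end Cfsg.Agent.S0102
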