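import Cfsg.Statements.S0104
import Cfsg.Agent.Lib.Fusion.WeakClosure

set_option autoImplicit false
open Cfsg

namespace Cfsg.Agent.S0104

/-- A subgroup Z of a Sylow p-subgroup P that is normalized by N_G(P) is weakly closed in P exactly when it is normal in every Sylow p-subgroup containing it. -/
theorem result {G : Type*} [Group G] [Finite G] {p : ℕ} [Fact p.Prime] (P : Sylow p G) (Z : Subgroup G) (hZP : Z ≤ (P : Subgroup G)) (hZN : Subgroup.normalizer (P : Set G) ≤ Subgroup.normalizer (Z : Set G)) : Cfsg.IsWeaklyClosed Z P ↔ ∀ R : Sylow p G, Z ≤ (R : Subgroup G) → (R : Subgroup G) ≤ Subgroup.normalizer (Z : Set G) := by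
  have hP := Fusion.sylIn_top P
  have hPN : (P : Subgroup G) ≤ Subgroup.normalizer (Z : Set G) := Subgroup.le_normalizer.trans hZN
  constructor
  · intro hW R hR
    exact Fusion.weaklyClosed_le_normalizer hP hW R.isPGroup' hR
  · intro h
    refine ⟨hZP, fun g hg => ?_⟩
    have h1 : Fusion.SylIn p (Fusion.cj (P : Subgroup G) g⁻¹) ⊤ :=
      hP.cj' (Subgroup.le_normalizer (Subgroup.mem_top g⁻¹))
    obtain ⟨R, hR⟩ := h1.exists_sylow
    have h2 : Z ≤ (R : Subgroup G) := by
      rw [hR, ← Fusion.cj_cj_inv Z g]; exact Fusion.cj_mono hg _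
    have h3 := h R h2
    obtain ⟨m, hm, hm'⟩ := (hP.mono hPN le_top).conj_eq ((Fusion.sylIn_top R).mono h3 le_top)
    rw [hR] at hm'
    have h4 : g * m ∈ Subgroup.normalizer ((P : Subgroup G) : Set G) := by
      rw [Fusion.mem_normalizer_iff_cj, ← Fusion.cj_cj, hm', Fusion.cj_inv_cj]
    have h5 := mul_mem (hZN h4) (inv_mem hm)
    rw [mul_assoc, mul_inv_cancel, mul_one] at h5
    exact Fusion.cj_eq_self h5

end Cfsg.Agent.S0104
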