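import Cfsg.Statements.S0105
import Cfsg.Agent.Lib.Fusion.BurnsideFusion
import Cfsg.Agent.Lib.Solv.Coprime

set_option autoImplicit false
open Cfsg
open Cfsg.Agent.Fusion
open scoped commutatorElement

namespace Cfsg.Agent.S0105

/-- With an abelian Sylow p-subgroup P, some quotient of G is isomorphic to the part of P central in N_G(P). -/
theorem result {G : Type*} [Group G] [Finite G] {p : ℕ} [Fact p.Prime] (P : Sylow p G) (hP : IsMulCommutative P) : ∃ (N : Subgroup G) (hN : N.Normal), Nonempty (G ⧸ N ≃* ((P : Subgroup G) ⊓ Subgroup.centralizer (Subgroup.normalizer (P : Set G) : Set G) : Subgroup G)) := by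
  haveI := hP
  letI : CommGroup ↥(P : Subgroup G) := { (inferInstance : Group ↥(P : Subgroup G)) with mul_comm := hP.1.1 }
  obtain ⟨N, hN⟩ : ∃ N, N = Subgroup.normalizer ((P : Subgroup G) : Set G) := ⟨_, rfl⟩
  obtain ⟨Z₀, hZ₀⟩ : ∃ Z₀, Z₀ = (P : Subgroup G) ⊓ Subgroup.centralizer (N : Set G) := ⟨_, rfl⟩
  have hab : (P : Subgroup G) ≤ Subgroup.centralizer ((P : Subgroup G) : Set G) :=
    Subgroup.le_centralizer_iff_isMulCommutative.2 hP
  let τ : G →* ↥(P : Subgroup G) := MonoidHom.transfer (MonoidHom.id ↥(P : Subgroup G))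
  have hτZ : ∀ z ∈ Z₀, ((τ z : ↥(P : Subgroup G)) : G) = z ^ (P : Subgroup G).index := by
    intro z hz
    rw [hZ₀] at hz
    obtain ⟨hzP, hzC⟩ := Subgroup.mem_inf.1 hz
    have key : ∀ (k : ℕ) (g₀ : G), g₀⁻¹ * z ^ k * g₀ ∈ (P : Subgroup G) → g₀⁻¹ * z ^ k * g₀ = z ^ k := by
      intro k g₀ hk
      obtain ⟨n, hn, he⟩ := fusion_of_abelian (sylIn_top P) hab (pow_mem hzP k) (g := g₀⁻¹) (by rwa [inv_inv])
      rw [inv_inv] at he
      rw [← he, Subgroup.mem_centralizer_iff.1 (pow_mem hzC k) n (hN ▸ hn : n ∈ N), mul_inv_cancel_right]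
    show ((MonoidHom.transfer (MonoidHom.id ↥(P : Subgroup G)) z : ↥(P : Subgroup G)) : G) = _
    rw [MonoidHom.transfer_eq_pow _ z key]
    rfl
  have hcop : ∀ z ∈ Z₀, (P : Subgroup G).index.Coprime (orderOf z) := fun z hz => by
    obtain ⟨j, hj⟩ := P.isPGroup' ⟨z, (Subgroup.mem_inf.1 (hZ₀.le hz)).1⟩
    exact Nat.Coprime.coprime_dvd_right (orderOf_dvd_of_pow_eq_one (congrArg Subtype.val hj))
      (((Fact.out : p.Prime).coprime_iff_not_dvd.2 P.not_dvd_index).symm.pow_right j)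
  -- the complement of `P` in its normaliser
  have hPN : (P : Subgroup G) ≤ N := hN ▸ Subgroup.le_normalizer
  haveI : ((P : Subgroup G).subgroupOf N).Normal :=
    (Subgroup.normal_subgroupOf_iff_le_normalizer hPN).2 hN.le
  have hc0 : (Nat.card ↥((P : Subgroup G).subgroupOf N)).Coprime ((P : Subgroup G).subgroupOf N).index := by
    rw [Nat.card_congr (Subgroup.subgroupOfEquivOfLe hPN).toEquiv, P.card_eq_multiplicity]
    refine Nat.Coprime.pow_left _ ((Fact.out : p.Prime).coprime_iff_not_dvd.2 fun hd => P.not_dvd_index ?_)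
    exact hd.trans ((P : Subgroup G).relIndex_dvd_index_of_le hPN)
  obtain ⟨K₀, hK₀⟩ := Subgroup.exists_right_complement'_of_coprime hc0
  obtain ⟨K, hK⟩ : ∃ K, K = K₀.map N.subtype := ⟨_, rfl⟩
  have hKN : K ≤ N := hK ▸ Subgroup.map_subtype_le _
  have hdecN : ∀ n ∈ N, ∃ u ∈ (P : Subgroup G), ∃ k ∈ K, n = u * k := fun n hn => by
    obtain ⟨u, hu, k, hk, he⟩ := Subgroup.mem_sup_of_normal_left.1
      (hK₀.sup_eq_top.symm ▸ Subgroup.mem_top (⟨n, hn⟩ : N) : (⟨n, hn⟩ : N) ∈ _ ⊔ K₀)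
    exact ⟨u, hu, k, hK ▸ Subgroup.mem_map_of_mem _ hk, (congrArg Subtype.val he).symm⟩
  have hKcop : (Nat.card K).Coprime (Nat.card ↥(P : Subgroup G)) := by
    rw [hK, Subgroup.card_map_of_injective N.subtype_injective, ← hK₀.symm.index_eq_card]
    rw [← Nat.card_congr (Subgroup.subgroupOfEquivOfLe hPN).toEquiv]
    exact hc0.symm
  have hdec := Cfsg.Agent.Solv.commutator_sup_fixed (A := K) (K := (P : Subgroup G))
    (hN ▸ hKN) hKcop (Or.inr (haveI := P.isPGroup'.isNilpotent; inferInstance))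
  have hZle : (P : Subgroup G) ⊓ Subgroup.centralizer (K : Set G) ≤ Z₀ := by
    intro x hx
    obtain ⟨hxP, hxK⟩ := Subgroup.mem_inf.1 hx
    rw [hZ₀]
    refine Subgroup.mem_inf.2 ⟨hxP, Subgroup.mem_centralizer_iff.2 fun n hn => ?_⟩
    obtain ⟨u, hu, k, hk, rfl⟩ := hdecN n hn
    rw [mul_assoc, Subgroup.mem_centralizer_iff.1 hxK k hk, ← mul_assoc,
      Subgroup.mem_centralizer_iff.1 (hab hxP) u hu, mul_assoc]
  have hPle : (P : Subgroup G) ≤ τ.ker ⊔ Z₀ := by
    conv_lhs => rw [← hdec]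
    refine sup_le (le_sup_of_le_left ?_) (le_sup_of_le_right hZle)
    rw [Subgroup.commutator_le]
    intro a _ b _
    rw [MonoidHom.mem_ker, map_commutatorElement]
    exact commutatorElement_eq_one_iff_mul_comm.2 (mul_comm _ _)
  have htop : τ.ker ⊔ (P : Subgroup G) = ⊤ := by
    have h1 : (τ.ker ⊔ (P : Subgroup G)).index ∣ Nat.card ↥(P : Subgroup G) := by
      refine (Subgroup.index_dvd_of_le (le_sup_left : τ.ker ≤ _)).trans ?_
      rw [Subgroup.index_ker]
      exact Subgroup.card_subgroup_dvd_card τ.range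
    have h2 : (τ.ker ⊔ (P : Subgroup G)).index ∣ (P : Subgroup G).index := Subgroup.index_dvd_of_le le_sup_right
    rw [P.card_eq_multiplicity] at h1
    exact Subgroup.index_eq_one.1 (Nat.eq_one_of_dvd_coprimes
      (((Fact.out : p.Prime).coprime_iff_not_dvd.2 P.not_dvd_index).pow_left _) h1 h2)
  have hrange : τ.range = Z₀.subgroupOf (P : Subgroup G) := by
    refine le_antisymm ?_ fun x hx => ?_
    · rintro _ ⟨g, rfl⟩
      obtain ⟨k, hk, u, hu, rfl⟩ := Subgroup.mem_sup_of_normal_left.1 (htop ▸ Subgroup.mem_top g : g ∈ τ.ker ⊔ (P : Subgroup G))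
      obtain ⟨k', hk', z, hz, rfl⟩ := Subgroup.mem_sup_of_normal_left.1 (hPle hu)
      show (τ (k * (k' * z)) : G) ∈ Z₀
      rw [map_mul, map_mul, MonoidHom.mem_ker.1 hk, MonoidHom.mem_ker.1 hk', one_mul, one_mul, hτZ z hz]
      exact pow_mem hz _
    · have hx' : (x : G) ∈ Z₀ := hx
      obtain ⟨m, hm⟩ := exists_pow_eq_self_of_coprime (hcop _ hx')
      refine ⟨(x : G) ^ m, Subtype.ext ?_⟩
      rw [hτZ _ (pow_mem hx' m), ← pow_mul, mul_comm, pow_mul, hm]
  refine ⟨τ.ker, inferInstance, ⟨((QuotientGroup.quotientKerEquivRange τ).trans (MulEquiv.subgroupCongr hrange)).trans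
    ((Subgroup.subgroupOfEquivOfLe (hZ₀ ▸ inf_le_left)).trans (MulEquiv.subgroupCongr (by rw [hZ₀, hN]; rfl)))⟩⟩

end Cfsg.Agent.S0105
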