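import Cfsg.Statements.S0109
import Cfsg.Agent.Lib.Fusion.StableFactorization

set_option autoImplicit false
open Cfsg
open Cfsg.Agent.Fusion
open scoped commutatorElement

namespace Cfsg.Agent.S0109

/-- The Thompson factorization Theorem for solvable groups states that, with p odd (and abelian Sylow 2-subgroups when p = 3) and no nontrivial normal subgroup of order prime to p, every element of G is a product of an element normalizing J(P) and an element centralizing the elements of order dividing p in the centre of P. -/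
theorem result {G : Type*} [Group G] [Finite G] {p : ℕ} [Fact p.Prime] (hp : p ≠ 2) (hs : Group.IsSolvable G) (h3 : p = 3 → ∀ T : Sylow 2 G, IsMulCommutative T) (hF : ∀ N : Subgroup G, N.Normal → Nat.Coprime (Nat.card N) p → N = ⊥) (P : Sylow p G) (g : G) : ∃ a ∈ Subgroup.normalizer (Cfsg.thompsonSubgroupOf p (P : Subgroup G) : Set G), ∃ c ∈ Subgroup.centralizer {x : G | x ∈ (P : Subgroup G) ∧ (∀ y ∈ (P : Subgroup G), x * y = y * x) ∧ x ^ p = 1}, g = a * c := by
  have hO : Cfsg.pPrimeCore p G = ⊥ := hF _ inferInstance (card_pPrimeCore_coprime p G)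
  have hc : Subgroup.centralizer (Cfsg.pCore p G : Set G) ≤ Cfsg.pCore p G := by
    have hle : Cfsg.fittingSubgroup G ≤ Cfsg.pCore p G := by
      rw [Solv.fitting_eq_iSup_pCore]
      refine iSup_le fun q => ?_
      haveI := Fact.mk q.2
      rcases eq_or_ne (q : ℕ) p with h | h
      · rw [h]
      · obtain ⟨k, hk⟩ := IsPGroup.iff_card.1 (isPGroup_pCore (q : ℕ) G)
        rw [hF (Cfsg.pCore (q : ℕ) G) inferInstance
          (hk ▸ Nat.Coprime.pow_left k ((Nat.coprime_primes q.2 (Fact.out : p.Prime)).2 h))]
        exact bot_le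
    exact ((Subgroup.centralizer_le (Solv.pCore_le_fitting p)).antisymm
      (Subgroup.centralizer_le hle)).symm ▸ (Solv.centralizer_fitting_le hs).trans hle
  have hnot : ¬ Cfsg.Involves (Matrix.SpecialLinearGroup (Fin 2) (ZMod p)) G := fun h => by
    obtain ⟨T⟩ : Nonempty (Sylow 2 G) := inferInstance
    exact not_isMulCommutative_of_involves hp h T (h3 (eq_three_of_solvable_involves hp hs h) T)
  have hfac := factorizable_of_thompson_le_centralizer
    (thompson_le_centralizer_of_stable (isActionPStable_of_not_involves hp hnot).1 hc)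
  obtain ⟨x, hx, c, hc', n, hn, he⟩ := hfac P g⁻¹
  rw [hO, Subgroup.mem_bot] at hx
  subst hx
  refine ⟨n⁻¹, inv_mem hn, c⁻¹, inv_mem (Subgroup.centralizer_le ?_ hc'), ?_⟩
  · intro z hz
    exact Subgroup.subset_closure ⟨⟨hz.1, Subgroup.mem_centralizer_iff.2 fun y hy => (hz.2.1 y hy).symm⟩, hz.2.2⟩
  · rw [← inv_inv g, he]; group

end Cfsg.Agent.S0109
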