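import Cfsg.Statements.S0110
import Cfsg.Agent.Lib.Fusion.HomCount

set_option autoImplicit false
open Cfsg
open Cfsg.Agent.Fusion
open scoped commutatorElement

namespace Cfsg.Agent.S0110

/-- In a p-group G, an extraspecial subgroup E with [G, E] ≤ Z(E) satisfies G = E C_G(E). -/
theorem result {G : Type*} [Group G] [Finite G] {p : ℕ} [Fact p.Prime] (hG : IsPGroup p G) (E : Subgroup G) (hE : Cfsg.IsExtraspecial p E) (h : ⁅(⊤ : Subgroup G), E⁆ ≤ E ⊓ Subgroup.centralizer (E : Set G)) : E ⊔ Subgroup.centralizer (E : Set G) = ⊤ := by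
  obtain ⟨⟨hE1, hfr, hcm⟩, hZ⟩ := hE
  obtain ⟨C, hC⟩ : ∃ C, C = Subgroup.centralizer (E : Set G) := ⟨_, rfl⟩
  rw [← hC] at h ⊢
  have hcomm : ∀ g e, e ∈ E → ⁅g, e⁆ ∈ E ∧ ∀ e' ∈ E, e' * ⁅g, e⁆ = ⁅g, e⁆ * e' := fun g e he => by
    have := h (Subgroup.commutator_mem_commutator (Subgroup.mem_top g) he)
    refine ⟨(Subgroup.mem_inf.1 this).1, fun e' he' => ?_⟩
    exact Subgroup.mem_centralizer_iff.1 (hC ▸ (Subgroup.mem_inf.1 this).2) e' he'
  let Z := Subgroup.center ↥E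
  let f : G → (↥E →* ↥Z) := fun g => MonoidHom.mk'
    (fun e => ⟨⟨⁅g, (e : G)⁆, (hcomm g e e.2).1⟩, Subgroup.mem_center_iff.2 fun e' =>
      Subtype.ext ((hcomm g e e.2).2 e' e'.2)⟩)
    (fun e e' => Subtype.ext (Subtype.ext (by
      show ⁅g, (e : G) * e'⁆ = ⁅g, (e : G)⁆ * ⁅g, (e' : G)⁆
      have h1 := (hcomm g e' e'.2).2 e e.2
      rw [commutatorElement_def g (e' : G)] at h1
      rw [commutatorElement_def, commutatorElement_def, commutatorElement_def]
      calc g * ((e : G) * e') * g⁻¹ * ((e : G) * e')⁻¹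
          = g * e * g⁻¹ * (g * e' * g⁻¹ * (e' : G)⁻¹) * (e : G)⁻¹ := by group
        _ = g * e * g⁻¹ * (e : G)⁻¹ * (e * (g * e' * g⁻¹ * (e' : G)⁻¹) * (e : G)⁻¹) := by group
        _ = g * e * g⁻¹ * (e : G)⁻¹ * (g * e' * g⁻¹ * (e' : G)⁻¹) := by rw [h1, mul_inv_cancel_right])))
  have hfk : ∀ g, Z ≤ (f g).ker := by
    intro g
    show Subgroup.center ↥E ≤ _
    rw [← hcm, commutator_def, Subgroup.commutator_le]
    intro a _ b _
    rw [MonoidHom.mem_ker, map_commutatorElement, commutatorElement_eq_one_iff_mul_comm]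
    exact Subtype.ext (Subgroup.mem_center_iff.1 ((f g b).2) _)
  let d : G ⧸ C → (↥E ⧸ Z →* ↥Z) := fun q => QuotientGroup.lift Z (f q.out) (hfk q.out)
  have hd : Function.Injective d := by
    intro q q' hqq
    have heq : ∀ e ∈ E, q.out * e * q.out⁻¹ = q'.out * e * q'.out⁻¹ := fun e he => by
      have : ⁅q.out, e⁆ = ⁅q'.out, e⁆ :=
        (congrArg (fun z : ↥Z => ((z : ↥E) : G)) (DFunLike.congr_fun hqq (QuotientGroup.mk (⟨e, he⟩ : ↥E))) :)
      exact mul_right_cancel this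
    rw [← q.out_eq', ← q'.out_eq', QuotientGroup.eq]
    refine hC.ge ?_
    rw [Subgroup.mem_centralizer_iff]
    intro e he
    calc e * (q.out⁻¹ * q'.out) = q.out⁻¹ * (q.out * e * q.out⁻¹) * q'.out := by group
      _ = q.out⁻¹ * q'.out * e := by rw [heq e he]; group
  haveI : Finite (↥E ⧸ Z →* ↥Z) := Finite.of_injective _ DFunLike.coe_injective
  have hcount : Nat.card (G ⧸ C) ≤ Nat.card (↥E ⧸ Z) :=
    (Nat.card_le_card_of_injective d hd).trans (card_hom_le hZ (hE1.to_quotient Z))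
  let j : ↥E ⧸ Z → G ⧸ C := Quotient.lift (fun e : ↥E => ((e : G) : G ⧸ C)) (fun a b hab => by
    change QuotientGroup.leftRel Z a b at hab
    rw [QuotientGroup.leftRel_apply] at hab
    refine QuotientGroup.eq.2 ?_
    rw [hC, Subgroup.mem_centralizer_iff]
    intro e he
    exact congrArg Subtype.val (Subgroup.mem_center_iff.1 hab ⟨e, he⟩))
  have hj : Function.Injective j := by
    intro a b
    refine Quotient.inductionOn₂ a b fun a b hab => ?_
    have h1 : (a : G)⁻¹ * (b : G) ∈ C := QuotientGroup.eq.1 hab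
    refine QuotientGroup.eq.2 (Subgroup.mem_center_iff.2 fun y => Subtype.ext ?_)
    exact Subgroup.mem_centralizer_iff.1 (hC.le h1) y y.2
  have hbij : Function.Bijective j := hj.bijective_of_nat_card_le hcount
  rw [eq_top_iff]
  intro g _
  obtain ⟨q, hq⟩ := hbij.2 (g : G ⧸ C)
  revert hq
  refine Quotient.inductionOn q fun e hq => ?_
  have h1 : (e : G)⁻¹ * g ∈ C := QuotientGroup.eq.1 hq
  rw [← mul_inv_cancel_left (e : G) g]
  exact mul_mem (Subgroup.mem_sup_left e.2) (Subgroup.mem_sup_right h1)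

end Cfsg.Agent.S0110
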