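import Cfsg.Statements.S0114
import Cfsg.Agent.Lib.Fusion.MaxClassTwo

set_option autoImplicit false
open Cfsg Cfsg.Agent
open Cfsg.Agent.Fusion
open scoped commutatorElement

namespace Cfsg.Agent.S0114

/-- The central quotient of a 2-group of maximal class is dihedral. -/
theorem result {X : Type*} [Group X] [Finite X] (n : ℕ) (hn : 3 ≤ n) (hX : Nat.card X = 2 ^ n) (hc : Group.nilpotencyClass X = n - 1) : Nonempty (X ⧸ Subgroup.center X ≃* DihedralGroup (2 ^ (n - 2))) := by
  obtain ⟨m, rfl⟩ : ∃ m, n = m + 3 := ⟨n - 3, by omega⟩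
  haveI : Group.IsNilpotent X := (IsPGroup.of_card (p := 2) hX).isNilpotent
  exact central_quotient_dihedral hX (by
    rw [Ne, Subgroup.lowerCentralSeries_eq_bot_iff_nilpotencyClass_le, hc]; omega)

end Cfsg.Agent.S0114
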