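import Cfsg.Statements.S0115
import Cfsg.Agent.Lib.Fusion.MaxClassTwo

set_option autoImplicit false
open Cfsg Cfsg.Agent
open Cfsg.Agent.Fusion
open scoped commutatorElement

namespace Cfsg.Agent.S0115

/-- A 2-group of order 2^n, n ≥ 3, is of maximal class exactly when its commutator quotient is a Klein four-group. -/
theorem result {X : Type*} [Group X] [Finite X] (n : ℕ) (hn : 3 ≤ n) (hX : Nat.card X = 2 ^ n) : Group.nilpotencyClass X = n - 1 ↔ IsKleinFour (X ⧸ commutator X) := by
  haveI : Fact (Nat.Prime 2) := ⟨Nat.prime_two⟩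
  obtain ⟨m, rfl⟩ : ∃ m, n = m + 3 := ⟨n - 3, by omega⟩
  have hG : IsPGroup 2 X := IsPGroup.of_card hX
  haveI := hG.isNilpotent
  have hup := Solv.lcs_eq_bot hG hX (by omega)
  rw [Subgroup.lowerCentralSeries_eq_bot_iff_nilpotencyClass_le] at hup
  have hiff : Group.nilpotencyClass X = m + 3 - 1 ↔ (⊤ : Subgroup X).lowerCentralSeries (m + 1) ≠ ⊥ := by
    rw [Ne, Subgroup.lowerCentralSeries_eq_bot_iff_nilpotencyClass_le]; omega
  rw [hiff]
  constructor
  · intro hne
    have hidx := commutator_index_of_maxClass (p := 2) hG (n := m + 1) hX hne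
    have h4 : Nat.card (X ⧸ commutator X) = 4 := by
      rw [← Subgroup.index_eq_card, hidx]; norm_num
    have hnc := not_isCyclic_abelianization_of_noncomm hG (by
      by_contra h
      simp only [not_exists, not_not] at h
      refine hne (eq_bot_iff.2 (((⊤ : Subgroup X).lowerCentralSeries_antitone (show 1 ≤ m + 1 by omega)).trans ?_))
      rw [Subgroup.lowerCentralSeries_succ, Subgroup.commutator_le]
      intro a _ b _
      rw [Subgroup.mem_bot, commutatorElement_eq_one_iff_mul_comm]
      exact h a b)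
    refine ⟨h4, ((Nat.dvd_prime Nat.prime_two).1 (Monoid.exponent_dvd_of_forall_pow_eq_one fun a => ?_)).resolve_left fun h1 => ?_⟩
    · rw [← orderOf_dvd_iff_pow_eq_one]
      have hd : orderOf a ∣ 2 ^ 2 := by
        have := orderOf_dvd_natCard a
        rw [h4] at this
        exact this
      obtain ⟨k, hk, hk'⟩ := (Nat.dvd_prime_pow Nat.prime_two).1 hd
      have : k ≠ 2 := fun h => hnc (isCyclic_of_orderOf_eq_card a (by rw [hk', h, h4]; norm_num))
      rw [hk']
      exact pow_dvd_pow 2 (show k ≤ 1 by omega)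
    · haveI := Monoid.exp_eq_one_iff.1 h1
      rw [Nat.card_unique] at h4
      omega
  · intro hK
    exact lcs_ne_bot_of_commutator_index_four m hX (by rw [Subgroup.index_eq_card]; exact hK.card_four)

end Cfsg.Agent.S0115
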