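import Cfsg.Statements.S0119
import Cfsg.Agent.Lib.Solv.PGroupPhi
import Cfsg.Agent.Lib.Fusion.KInf

set_option autoImplicit false
open Cfsg
open Cfsg.Agent.Fusion
open scoped commutatorElement

namespace Cfsg.Agent.S0119

open scoped commutatorElement

/-- If a p'-group A of automorphisms of a p-group G satisfies G = [G, A] and acts trivially on every characteristic abelian subgroup, then G is special with centre equal to the fixed points of A. -/
theorem result {G : Type*} [Group G] [Finite G] {p : ℕ} [Fact p.Prime] (hG : IsPGroup p G) (A : Subgroup (MulAut G)) (hA : Nat.Coprime (Nat.card A) p) (hGA : Subgroup.closure {x : G | ∃ g : G, ∃ a ∈ A, x = g⁻¹ * a g} = ⊤) (hchar : ∀ H : Subgroup G, H.Characteristic → IsMulCommutative H → ∀ a ∈ A, ∀ h ∈ H, a h = h) : Cfsg.IsSpecial p G ∧ (∀ g : G, (g ∈ Subgroup.center G ↔ ∀ a ∈ A, a g = g)) := by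
  classical
  haveI : Group.IsNilpotent G := hG.isNilpotent
  -- abelian characteristic subgroups are central
  have hcc : ∀ H : Subgroup G, H.Characteristic → IsMulCommutative H → H ≤ Subgroup.center G := by
    intro H hH hHc l hl
    rw [Subgroup.mem_center_iff]
    haveI : H.Normal := Subgroup.normal_of_characteristic H
    have hall : ∀ y, y ∈ Subgroup.centralizer ({l} : Set G) := by
      intro y
      have hy : y ∈ Subgroup.closure {x : G | ∃ g : G, ∃ a ∈ A, x = g⁻¹ * a g} := hGA ▸ Subgroup.mem_top y
      refine (Subgroup.closure_le _).2 ?_ hy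
      rintro _ ⟨g, a, ha, rfl⟩
      have h1 : g * l * g⁻¹ ∈ H := Subgroup.Normal.conj_mem inferInstance l hl g
      have h2 := hchar H hH hHc a ha _ h1
      rw [map_mul, map_mul, map_inv, hchar H hH hHc a ha l hl] at h2
      refine Subgroup.mem_centralizer_singleton_iff.2 ?_
      refine mul_inv_eq_iff_eq_mul.1 ?_
      calc g⁻¹ * a g * l * (g⁻¹ * a g)⁻¹ = g⁻¹ * (a g * l * (a g)⁻¹) * g := by group
        _ = g⁻¹ * (g * l * g⁻¹) * g := by rw [h2]
        _ = l := by group
    intro y
    exact Subgroup.mem_centralizer_singleton_iff.1 (hall y)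
  have hZfix : ∀ a ∈ A, ∀ z ∈ Subgroup.center G, a z = z := fun a ha z hz =>
    hchar (Subgroup.center G) inferInstance inferInstance a ha z hz
  -- class at most two
  have hderZ : commutator G ≤ Subgroup.center G := by
    by_contra hne
    set π := QuotientGroup.mk' (Subgroup.center G)
    set W := (Subgroup.center (G ⧸ Subgroup.center G)).comap π with hW
    have hWeq : W = Subgroup.upperCentralSeries G 2 := by
      rw [hW]
      ext x
      rw [Subgroup.mem_comap, Subgroup.mem_center_iff, Subgroup.mem_upperCentralSeries_succ_iff]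
      constructor
      · intro h y
        rw [Subgroup.upperCentralSeries_one, ← QuotientGroup.eq_one_iff]
        obtain ⟨q, rfl⟩ : ∃ q, q = π y := ⟨_, rfl⟩
        have h1 := h (π y)
        show π (x * y * x⁻¹ * y⁻¹) = 1
        rw [map_mul, map_mul, map_mul, ← h1, map_inv, map_inv]; group
      · intro h q
        obtain ⟨y, rfl⟩ := QuotientGroup.mk'_surjective _ q
        have h1 := h y
        rw [Subgroup.upperCentralSeries_one, ← QuotientGroup.eq_one_iff] at h1
        have h2 : π (x * y * x⁻¹ * y⁻¹) = 1 := h1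
        rw [map_mul, map_mul, map_mul, map_inv, map_inv, mul_inv_eq_one, mul_inv_eq_iff_eq_mul] at h2
        exact h2.symm
    haveI : W.Characteristic := by rw [hWeq]; infer_instance
    set K := commutator G ⊓ W with hK
    have hKchar : K.Characteristic := inferInstance
    have hWc : ∀ w ∈ W, ∀ y : G, ⁅w, y⁆ ∈ Subgroup.center G := by
      intro w hw y
      rw [← QuotientGroup.eq_one_iff, ← QuotientGroup.mk'_apply, map_commutatorElement,
        commutatorElement_eq_one_iff_mul_comm]
      exact (Subgroup.mem_center_iff.1 hw (π y)).symm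
    have hKab : IsMulCommutative K := by
      refine ⟨⟨fun u v => Subtype.ext ?_⟩⟩
      have h1 : commutator G ≤ Subgroup.centralizer ({(v : G)} : Set G) := by
        rw [commutator_eq_closure, Subgroup.closure_le]
        rintro _ ⟨g, k, rfl⟩
        refine Subgroup.mem_centralizer_singleton_iff.2 ?_
        have hc : ∀ z, ⁅(v : G), z⁆ ∈ Subgroup.center G := fun z => hWc v v.2.2 z
        have hcz : ∀ z w, w * ⁅(v : G), z⁆ = ⁅(v : G), z⁆ * w := fun z w => Subgroup.mem_center_iff.1 (hc z) w
        let f : G →* Subgroup.center G :=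
          { toFun := fun z => ⟨⁅(v : G), z⁆, hc z⟩
            map_one' := Subtype.ext (by show ⁅(v : G), (1 : G)⁆ = 1; simp)
            map_mul' := fun z w => Subtype.ext (by
              show ⁅(v : G), z * w⁆ = ⁅(v : G), z⁆ * ⁅(v : G), w⁆
              calc ⁅(v : G), z * w⁆ = ⁅(v : G), z⁆ * (z * ⁅(v : G), w⁆ * z⁻¹) := by
                    simp only [commutatorElement_def]; group
                _ = _ := by rw [hcz w z, mul_inv_cancel_right]) }
        have h2 : f ⁅g, k⁆ = 1 := by
          rw [map_commutatorElement, commutatorElement_eq_one_iff_mul_comm]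
          exact mul_comm' (f g) (f k)
        have h3 : ⁅(v : G), ⁅g, k⁆⁆ = 1 := congrArg Subtype.val h2
        exact (commutatorElement_eq_one_iff_mul_comm.1 h3).symm
      exact Subgroup.mem_centralizer_singleton_iff.1 (h1 u.2.1)
    have hKZ := hcc K hKchar hKab
    obtain ⟨x, hx, hxZ, hxq⟩ := exists_fixed_mod (N := Subgroup.center G) (C := commutator G)
      (Q := ⊤) (by rw [Subgroup.normalizer_eq_top]) hne
    refine hxZ (hKZ ⟨hx, Subgroup.mem_comap.2 (Subgroup.mem_center_iff.2 fun q => ?_)⟩)
    obtain ⟨y, rfl⟩ := QuotientGroup.mk'_surjective _ q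
    refine (commutatorElement_eq_one_iff_mul_comm.1 ?_).symm
    rw [← map_commutatorElement]
    exact (QuotientGroup.eq_one_iff _).2 (hxq y trivial)
  -- fixed points lie in the derived subgroup
  have hfix : ∀ g : G, (∀ a ∈ A, a g = g) → g ∈ commutator G := by
    intro g hg
    haveI : Fintype A := Fintype.ofFinite A
    let act : A → (Abelianization G →* Abelianization G) := fun a => Abelianization.map (a : MulAut G).toMonoidHom
    let N : G →* Abelianization G := (∏ a : A, act a).comp Abelianization.of
    have hN1 : N = 1 := by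
      refine MonoidHom.eq_of_eqOn_dense hGA ?_
      rintro _ ⟨h, b, hb, rfl⟩
      have e : N ((b : MulAut G) h) = N h := by
        simp only [N, MonoidHom.comp_apply, MonoidHom.finsetProd_apply]
        exact Fintype.prod_equiv (Equiv.mulRight (⟨b, hb⟩ : A)) _ _ fun a => by
          simp [act]
      rw [map_mul, map_inv, MonoidHom.one_apply, e, inv_mul_cancel]
    have h1 : N g = (Abelianization.of g) ^ (Nat.card A) := by
      simp only [N, MonoidHom.comp_apply, MonoidHom.finsetProd_apply]
      rw [Finset.prod_congr rfl (g := fun _ => Abelianization.of g) fun a _ => by simp [act, hg a a.2],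
        Finset.prod_const, Finset.card_univ, Nat.card_eq_fintype_card]
    rw [hN1, MonoidHom.one_apply] at h1
    obtain ⟨j, hj⟩ := hG g
    have h2 : (Abelianization.of g) ^ p ^ j = 1 := by rw [← map_pow, hj, map_one]
    have h3 := pow_gcd_eq_one.2 ⟨h1.symm, h2⟩
    rw [(hA.pow_right j).gcd_eq_one, pow_one] at h3
    rwa [← MonoidHom.mem_ker, Abelianization.ker_of] at h3
  have hZder : Subgroup.center G ≤ commutator G := fun z hz => hfix z fun a ha => hZfix a ha z hz
  have hder : commutator G = Subgroup.center G := le_antisymm hderZ hZder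
  -- exponent of the centre
  have hcm : ∀ a b : G, ⁅a, b⁆ ∈ Subgroup.center G := fun a b =>
    hderZ (Subgroup.commutator_mem_commutator (Subgroup.mem_top a) (Subgroup.mem_top b))
  have hcz : ∀ a b w : G, w * ⁅a, b⁆ = ⁅a, b⁆ * w := fun a b w => Subgroup.mem_center_iff.1 (hcm a b) w
  have hpl : ∀ (a b : G) (k : ℕ), ⁅a ^ k, b⁆ = ⁅a, b⁆ ^ k := by
    intro a b k
    induction k with
    | zero => simp
    | succ k ih =>
      calc ⁅a ^ (k + 1), b⁆ = a * ⁅a ^ k, b⁆ * a⁻¹ * ⁅a, b⁆ := by
            simp only [commutatorElement_def, pow_succ']; group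
        _ = ⁅a ^ k, b⁆ * ⁅a, b⁆ := by rw [hcz (a ^ k) b a, mul_inv_cancel_right]
        _ = _ := by rw [ih, ← pow_succ]
  have hexp : ∀ e : ℕ, (∀ a b : G, ⁅a, b⁆ ^ p ^ (e + 1) = 1) → ∀ a b : G, ⁅a, b⁆ ^ p = 1 := by
    intro e
    induction e with
    | zero => intro h; simpa using h
    | succ e ih =>
      intro h
      refine ih fun a b => ?_
      set q := p ^ (e + 1) with hq
      set Q := Subgroup.closure {y : G | ∃ x, y = x ^ q} with hQ
      have hQchar : Q.Characteristic := by
        rw [Subgroup.characteristic_iff_map_le]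
        intro φ
        rw [hQ, MonoidHom.map_closure, Subgroup.closure_le]
        rintro _ ⟨_, ⟨x, rfl⟩, rfl⟩
        exact Subgroup.subset_closure ⟨φ x, map_pow φ.toMonoidHom x q⟩
      have hQab : IsMulCommutative Q := by
        rw [hQ]
        refine Subgroup.isMulCommutative_closure ?_
        rintro _ ⟨u, rfl⟩ _ ⟨w, rfl⟩
        refine commutatorElement_eq_one_iff_mul_comm.1 ?_
        rw [hpl, ← inv_inv ⁅u, w ^ q⁆, commutatorElement_inv, hpl, inv_pow, ← pow_mul, inv_eq_one, hq, ← pow_add]
        obtain ⟨r, hr⟩ := pow_dvd_pow p (show e + 1 + 1 ≤ e + 1 + (e + 1) by omega)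
        rw [hr, pow_mul, h, one_pow]
      have hz := hcc Q hQchar hQab (Subgroup.subset_closure ⟨a, rfl⟩ : a ^ q ∈ Q)
      rw [← hpl, commutatorElement_eq_one_iff_mul_comm]
      exact (Subgroup.mem_center_iff.1 hz b).symm
  have hpow : ∀ x : G, x ^ p ∈ Subgroup.center G := by
    intro x
    rw [Subgroup.mem_center_iff]
    intro y
    obtain ⟨E, hE⟩ := hG.exists_card_eq
    refine (commutatorElement_eq_one_iff_mul_comm.1 ?_).symm
    rw [hpl]
    refine hexp E (fun a b => ?_) x y
    rw [pow_succ, pow_mul, ← hE, pow_card_eq_one', one_pow]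
  refine ⟨⟨hG, ?_, hder⟩, fun g => ⟨fun hg a ha => hZfix a ha g hg, fun hg => hderZ (hfix g hg)⟩⟩
  refine le_antisymm (Solv.frattini_le _ hcm hpow) ?_
  exact hZder.trans (Solv.commutator_le_frattini_pgroup hG)

end Cfsg.Agent.S0119
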