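import Cfsg.Statements.S0125
import Cfsg.Agent.Lib.Fusion.NPC

set_option autoImplicit false
open Cfsg
open Cfsg.Agent.Fusion
open scoped commutatorElement

namespace Cfsg.Agent.S0125

/-- The centralizer of a self-centralizing normal subgroup A of a Sylow p-subgroup is the direct product of A with a normal p'-subgroup. -/
theorem result {G : Type*} [Group G] [Finite G] {p : ℕ} [Fact p.Prime] (R : Sylow p G) (A : Subgroup G) (hAR : A ≤ (R : Subgroup G)) (hAn : (R : Subgroup G) ≤ Subgroup.normalizer (A : Set G)) (hC : (R : Subgroup G) ⊓ Subgroup.centralizer (A : Set G) = A) : ∃ H : Subgroup G, H ≤ Subgroup.centralizer (A : Set G) ∧ Nat.Coprime (Nat.card H) p ∧ Subgroup.centralizer (A : Set G) ≤ Subgroup.normalizer (H : Set G) ∧ H ⊓ A = ⊥ ∧ H ⊔ A = Subgroup.centralizer (A : Set G) := by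
  set C := Subgroup.centralizer (A : Set G) with hCdef
  have hAC : A ≤ C := hC.ge.trans inf_le_right
  have hCN : C ≤ Subgroup.normalizer (A : Set G) := Subgroup.centralizer_le_normalizer _
  have hRN := (sylIn_top R).mono hAn le_top
  have hA : SylIn p A C := by
    have h := hRN.inf_normal hCN ((show Subgroup.normalizer (A : Set G) ≤
      Subgroup.normalizer (C : Set G) from fun g hg => mem_normalizer_iff_cj.2 (by
        rw [hCdef, cj_centralizer, cj_eq_self hg])))
    rwa [hC] at h
  obtain ⟨A', hA'⟩ := hA.exists_sylow_subgroupOf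
  have hnpc : Cfsg.HasNormalPComplement p C := by
    refine hnpc_of_normalizer_le_centralizer A' fun g _ => ?_
    rw [Subgroup.mem_centralizer_iff]
    intro a ha
    have ha' : (a : G) ∈ A := by
      have ha2 : a ∈ (A' : Subgroup C) := ha
      rw [hA'] at ha2; exact ha2
    exact Subtype.ext (Subgroup.mem_centralizer_iff.1 g.2 a ha')
  have hcompl := isComplement'_of_coprime_card A' (hnpc_iff.1 hnpc)
  refine ⟨(Cfsg.pResidual p C).map C.subtype, Subgroup.map_subtype_le _, ?_, ?_, ?_, ?_⟩
  · rw [Subgroup.card_map_of_injective C.subtype_injective]; exact hnpc_iff.1 hnpc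
  · intro g hg
    rw [Subgroup.mem_normalizer_iff]
    intro x
    refine ⟨?_, ?_⟩
    · rintro ⟨y, hy, rfl⟩
      exact ⟨⟨g, hg⟩ * y * ⟨g, hg⟩⁻¹, (inferInstance : (Cfsg.pResidual p C).Normal).conj_mem _ hy _, rfl⟩
    · rintro ⟨y, hy, hyx⟩
      refine ⟨⟨g, hg⟩⁻¹ * y * ⟨g, hg⟩,
        (inferInstance : (Cfsg.pResidual p C).Normal).conj_mem' _ hy _, ?_⟩
      have hyx' : (y : G) = g * x * g⁻¹ := hyx
      show g⁻¹ * (y : G) * g = x
      rw [hyx']; group
  · have h1 := congrArg (Subgroup.map C.subtype) hcompl.disjoint.eq_bot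
    rw [Subgroup.map_inf _ _ _ C.subtype_injective, Subgroup.map_bot, hA',
      Subgroup.map_subgroupOf_eq_of_le hAC] at h1
    exact h1
  · have h1 := congrArg (Subgroup.map C.subtype) hcompl.sup_eq_top
    rw [Subgroup.map_sup, ← MonoidHom.range_eq_map, Subgroup.range_subtype, hA',
      Subgroup.map_subgroupOf_eq_of_le hAC] at h1
    exact h1

end Cfsg.Agent.S0125
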