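import Cfsg.Statements.S1894
import Cfsg.Agent.Lib.Fusion.PGroupAux

set_option autoImplicit false
open Cfsg
open Cfsg.Agent.Fusion
open scoped commutatorElement

namespace Cfsg.Agent.S1894

/-- Let P be a finite p-group, A a normal subgroup of P and B an abelian subgroup of A that is normal in P. Then some subgroup C of A containing B is normal in P and is self-centralizing and normal in A (C ∈ SCN(A)). -/
theorem result {P : Type*} [Group P] [Finite P] {p : ℕ} [Fact p.Prime] (hP : IsPGroup p P)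
    (A : Subgroup P) [A.Normal] (B : Subgroup P) [B.Normal] (hBA : B ≤ A) (hB : IsMulCommutative B) :
    ∃ C : Subgroup P, C.Normal ∧ B ≤ C ∧ Cfsg.IsSCN A C := by
  obtain ⟨C, ⟨hCn, hBC, hCA, hCab⟩, hmax⟩ := Set.Finite.exists_maximalFor (fun C : Subgroup P => C)
    {C : Subgroup P | C.Normal ∧ B ≤ C ∧ C ≤ A ∧ IsMulCommutative C} (Set.toFinite _)
    ⟨B, inferInstance, le_rfl, hBA, hB⟩
  haveI := hCn
  have hcc : C ≤ Subgroup.centralizer (C : Set P) := Subgroup.le_centralizer_iff_isMulCommutative.2 hCab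
  refine ⟨C, hCn, hBC, hCA, (Subgroup.normalizer_eq_top (H := C)).symm ▸ le_top, ?_⟩
  refine le_antisymm ?_ (le_inf hCA hcc)
  by_contra hne
  haveI : (Subgroup.centralizer (C : Set P)).Normal := Subgroup.normal_centralizer
  haveI : ((A ⊓ Subgroup.centralizer (C : Set P)).map (QuotientGroup.mk' C)).Normal :=
    Subgroup.Normal.map inferInstance _ (QuotientGroup.mk'_surjective _)
  obtain ⟨_, ⟨x, hx, rfl⟩, hx1, hxc⟩ := exists_central_of_normal (hP.to_quotient C)
    ((A ⊓ Subgroup.centralizer (C : Set P)).map (QuotientGroup.mk' C)) (fun h => hne (by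
      rwa [Subgroup.map_eq_bot_iff, QuotientGroup.ker_mk'] at h))
  have hxC : x ∉ C := fun h => hx1 ((QuotientGroup.eq_one_iff x).2 h)
  obtain ⟨hxA, hxCC⟩ := Subgroup.mem_inf.1 hx
  have hD : IsMulCommutative ↥(C ⊔ Subgroup.zpowers x) := by
    refine Subgroup.le_centralizer_iff_isMulCommutative.1 ?_
    have h1 : Subgroup.zpowers x ≤ Subgroup.centralizer (C : Set P) := Subgroup.zpowers_le.2 hxCC
    have h2 : C ≤ Subgroup.centralizer (Subgroup.zpowers x : Set P) := Subgroup.le_centralizer_iff.1 h1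
    refine sup_le ?_ ?_ <;> rw [Subgroup.le_centralizer_iff] <;> refine sup_le ?_ ?_
    · exact hcc
    · exact h1
    · exact h2
    · exact Subgroup.le_centralizer _
  have hDn : (C ⊔ Subgroup.zpowers x).Normal := by
    have e : C ⊔ Subgroup.zpowers x = (Subgroup.zpowers (QuotientGroup.mk' C x)).comap (QuotientGroup.mk' C) := by
      rw [← MonoidHom.map_zpowers, Subgroup.comap_map_eq, QuotientGroup.ker_mk', sup_comm]
    rw [e]
    haveI : (Subgroup.zpowers (QuotientGroup.mk' C x)).Normal := ⟨fun n hn g => by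
      rw [Subgroup.mem_center_iff.1 (Subgroup.zpowers_le.2 hxc hn) g, mul_inv_cancel_right]; exact hn⟩
    infer_instance
  exact hxC (hmax (show C ⊔ Subgroup.zpowers x ∈ {C : Subgroup P | C.Normal ∧ B ≤ C ∧ C ≤ A ∧ IsMulCommutative C}
    from ⟨hDn, hBC.trans le_sup_left, sup_le hCA (Subgroup.zpowers_le.2 hxA), hD⟩) le_sup_left
    (Subgroup.mem_sup_right (Subgroup.mem_zpowers x)))

end Cfsg.Agent.S1894
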