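import Cfsg.Statements.S0129
import Cfsg.Agent.S1894
import Cfsg.Agent.Lib.Fusion.HomCount

set_option autoImplicit false
open Cfsg
open Cfsg.Agent.Fusion
open scoped commutatorElement

namespace Cfsg.Agent.S0129

/-- The order of a p-group is bounded by p^(a(a+1)/2) when it has a maximal normal abelian subgroup of order p^a. -/
theorem result {G : Type*} [Group G] [Finite G] {p : ℕ} [Fact p.Prime] (hG : IsPGroup p G) (A : Subgroup G) [A.Normal] (hA : IsMulCommutative A) (hmax : ∀ B : Subgroup G, B.Normal → IsMulCommutative B → A ≤ B → B = A) (a : ℕ) (ha : Nat.card A = p ^ a) : Nat.card G ≤ p ^ (a * (a + 1) / 2) := by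
  obtain ⟨C, hCn, hAC, hCle, -, hCC⟩ := S1894.result hG ⊤ A le_top hA
  have hCab : IsMulCommutative ↥C := Subgroup.le_centralizer_iff_isMulCommutative.1 (by
    rw [top_inf_eq] at hCC; exact hCC.symm.le)
  obtain rfl := hmax C hCn hCab hAC
  rw [top_inf_eq] at hCC
  letI : CommGroup ↥C := { (inferInstance : Group ↥C) with mul_comm := hA.1.1 }
  let φ : G →* MulAut ↥C := MulAut.conjNormal
  have hker : φ.ker ≤ C := fun h hh => hCC.le (Subgroup.mem_centralizer_iff.2 fun x hx => by
    have h1 : h * x * h⁻¹ = x := by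
      have := congrArg (fun (f : MulAut ↥C) => ((f ⟨x, hx⟩ : ↥C) : G)) (MonoidHom.mem_ker.1 hh)
      simpa [φ] using this
    exact (mul_inv_eq_iff_eq_mul.1 h1).symm)
  have hr := card_pgroup_aut_le a ↥C ha φ.range (hG.of_surjective φ.rangeRestrict φ.rangeRestrict_surjective)
  have h1 := φ.ker.card_eq_card_quotient_mul_card_subgroup
  rw [Nat.card_congr (QuotientGroup.quotientKerEquivRange φ).toEquiv] at h1
  have hexp : a * (a - 1) / 2 + a = a * (a + 1) / 2 := by
    rcases a with _ | b
    · rfl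
    · rw [show (b + 1) * (b + 1 + 1) = (b + 1) * (b + 1 - 1) + 2 * (b + 1) by rw [Nat.add_sub_cancel]; ring,
        Nat.add_mul_div_left _ _ two_pos]
  rw [h1, ← hexp, pow_add]
  exact Nat.mul_le_mul hr ((Subgroup.card_le_of_le hker).trans ha.le)

end Cfsg.Agent.S0129
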