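import Cfsg.Statements.S0131
import Cfsg.Agent.Lib.Fusion.NPC

set_option autoImplicit false
open Cfsg
open Cfsg.Agent.Fusion
open scoped commutatorElement

namespace Cfsg.Agent.S0131

theorem pResidual_comm {A : Type*} [CommGroup A] [Finite A] {p : ℕ} {x : A}
    (hx : x ∈ Cfsg.pResidual p A) : (orderOf x).Coprime p := by
  induction hx using Subgroup.closure_induction with
  | mem y hy => exact hy
  | one => simp
  | mul y z _ _ hy hz =>
    exact Nat.Coprime.coprime_dvd_left ((Commute.all y z).orderOf_mul_dvd_mul_orderOf) (hy.mul_left hz)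
  | inv y _ hy => rwa [orderOf_inv]


/-- P/P' has a normal complement in G exactly when the focal subgroup G' ∩ P is as small as possible, namely P'. -/
theorem result {G : Type*} [Group G] [Finite G] {p : ℕ} [Fact p.Prime] (P : Sylow p G) : (∃ N : Subgroup G, N.Normal ∧ N ⊓ (P : Subgroup G) = ⁅(P : Subgroup G), (P : Subgroup G)⁆ ∧ N ⊔ (P : Subgroup G) = ⊤) ↔ commutator G ⊓ (P : Subgroup G) = ⁅(P : Subgroup G), (P : Subgroup G)⁆ := by
  constructor
  · rintro ⟨N, hN, h1, h2⟩
    refine le_antisymm ?_ (le_inf ?_ ?_)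
    · refine (inf_le_inf_right _ ?_).trans h1.le
      rw [commutator_def, Subgroup.commutator_le]
      intro a _ b _
      obtain ⟨n, hn, x, hx, rfl⟩ : ∃ n ∈ N, ∃ x ∈ (P : Subgroup G), n * x = a :=
        Subgroup.mem_sup_of_normal_left.1 (h2 ▸ Subgroup.mem_top a)
      obtain ⟨m, hm, y, hy, rfl⟩ : ∃ n ∈ N, ∃ x ∈ (P : Subgroup G), n * x = b :=
        Subgroup.mem_sup_of_normal_left.1 (h2 ▸ Subgroup.mem_top b)
      have hxy : ⁅x, y⁆ ∈ N := (h1.ge.trans inf_le_left) (Subgroup.commutator_mem_commutator hx hy)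
      rw [← QuotientGroup.ker_mk' N, MonoidHom.mem_ker] at hn hm hxy ⊢
      rw [map_commutatorElement] at hxy ⊢
      rwa [map_mul, map_mul, hn, hm, one_mul, one_mul]
    · rw [commutator_def]; exact Subgroup.commutator_mono le_top le_top
    · rw [Subgroup.commutator_le]
      intro a ha b hb
      rw [commutatorElement_def]
      exact mul_mem (mul_mem (mul_mem ha hb) (inv_mem ha)) (inv_mem hb)
  · intro h
    let f : G →* Abelianization G := Abelianization.of
    refine ⟨(Cfsg.pResidual p (Abelianization G)).comap f, inferInstance, ?_, ?_⟩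
    · rw [← h]
      refine le_antisymm (le_inf ?_ inf_le_right) (inf_le_inf_right _ ?_)
      · rintro x ⟨hx1, hx2⟩
        obtain ⟨k, hk⟩ := IsPGroup.iff_orderOf.1 P.isPGroup' ⟨x, hx2⟩
        rw [Subgroup.orderOf_mk] at hk
        rw [← Abelianization.ker_of, MonoidHom.mem_ker, ← orderOf_eq_one_iff]
        exact Nat.eq_one_of_dvd_coprimes
          ((pResidual_comm hx1).pow_right k) dvd_rfl (hk ▸ orderOf_map_dvd f x)
      · exact (Abelianization.ker_of G).ge.trans (MonoidHom.ker_le_comap f _)
    · rw [eq_top_iff, ← pResidual_sup_sylow P]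
      exact sup_le_sup_right (Subgroup.map_le_iff_le_comap.1 (map_pResidual_le f)) _

end Cfsg.Agent.S0131
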