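import Cfsg.Statements.S0132
import Cfsg.Agent.Lib.Fusion.AbelianHall
import Cfsg.Agent.Lib.Solv.Component

set_option autoImplicit false
open Cfsg
open Cfsg.Agent.Fusion
open scoped commutatorElement

namespace Cfsg.Agent.S0132

/-- A minimal non-p-nilpotent finite group is a minimal non-nilpotent group with a normal Sylow p-subgroup. -/
theorem result {G : Type*} [Group G] [Finite G] {p : ℕ} [Fact p.Prime] (h1 : ¬ Cfsg.HasNormalPComplement p G) (h2 : ∀ H : Subgroup G, H ≠ ⊤ → Cfsg.HasNormalPComplement p H) : (∀ H : Subgroup G, H ≠ ⊤ → Group.IsNilpotent H) ∧ ¬ Group.IsNilpotent G ∧ ∀ P : Sylow p G, (P : Subgroup G).Normal := by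
  classical
  have hpr : p.Prime := Fact.out
  obtain ⟨P₀⟩ : Nonempty (Sylow p G) := inferInstance
  obtain ⟨U, hUp, g₀, hg₀, hg₀p, hg₀c⟩ : ∃ U : Subgroup G, IsPGroup p U ∧ ∃ g ∈ Subgroup.normalizer (U : Set G),
      (orderOf g).Coprime p ∧ g ∉ Subgroup.centralizer (U : Set G) := by
    by_contra hc
    push Not at hc
    exact h1 (hnpc_of_centralize (sylIn_top P₀) fun Q hQ g hg hgp => hc Q (P₀.2.to_le hQ) g hg hgp)
  obtain ⟨g, ⟨hg, hgp, hgc⟩, hmin⟩ := Set.exists_min_image
    {g : G | g ∈ Subgroup.normalizer (U : Set G) ∧ (orderOf g).Coprime p ∧ g ∉ Subgroup.centralizer (U : Set G)}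
    (fun g => orderOf g) (Set.toFinite _) ⟨g₀, hg₀, hg₀p, hg₀c⟩
  have hord1 : orderOf g ≠ 1 := fun e => hgc (by rw [orderOf_eq_one_iff.1 e]; exact one_mem _)
  set q := (orderOf g).minFac with hq
  have hqp : q.Prime := Nat.minFac_prime hord1
  obtain ⟨k, hk⟩ : ∃ k, orderOf g = q ^ k := by
    obtain ⟨k, m, hm, hkm⟩ := Nat.exists_eq_pow_mul_and_not_dvd (orderOf_pos g).ne' q hqp.ne_one
    refine ⟨k, ?_⟩
    by_contra hne
    have hk0 : k ≠ 0 := fun e => hm (by
      have := Nat.minFac_dvd (orderOf g)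
      rw [← hq] at this
      rw [e, pow_zero, one_mul] at hkm
      rwa [hkm] at this)
    have hm1 : m ≠ 1 := fun e => hne (by rw [hkm, e, mul_one])
    have hpos := orderOf_pos g
    have hlt1 : orderOf (g ^ q ^ k) < orderOf g := by
      rw [orderOf_pow, Nat.gcd_eq_right (hkm ▸ dvd_mul_right _ _)]
      exact Nat.div_lt_self hpos (Nat.one_lt_pow hk0 hqp.one_lt)
    have hlt2 : orderOf (g ^ m) < orderOf g := by
      rw [orderOf_pow, Nat.gcd_eq_right (hkm ▸ dvd_mul_left _ _)]
      refine Nat.div_lt_self hpos ?_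
      rcases Nat.eq_zero_or_pos m with rfl | h
      · exact absurd (dvd_zero q) hm
      · omega
    have hcen : ∀ j : ℕ, orderOf (g ^ j) < orderOf g → g ^ j ∈ Subgroup.centralizer (U : Set G) := by
      intro j hj
      by_contra hjc
      exact absurd (hmin (g ^ j) ⟨pow_mem hg j, hgp.coprime_dvd_left (orderOf_pow_dvd j), hjc⟩) (not_le.2 hj)
    have hcop : Nat.Coprime (q ^ k) m := ((Nat.Prime.coprime_iff_not_dvd hqp).2 hm).pow_left k
    obtain ⟨α, β, hαβ⟩ := Nat.isCoprime_iff_coprime.2 hcop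
    apply hgc
    have : g = (g ^ q ^ k) ^ α * (g ^ m) ^ β := by
      rw [← zpow_natCast, ← zpow_natCast, ← zpow_mul, ← zpow_mul, ← zpow_add, mul_comm _ α, mul_comm _ β,
        hαβ, zpow_one]
    rw [this]
    exact mul_mem (zpow_mem (hcen _ hlt1) _) (zpow_mem (hcen _ hlt2) _)
  have hqne : q ≠ p := fun e => by
    have := hgp.coprime_dvd_left (Nat.minFac_dvd (orderOf g))
    rw [← hq, e, Nat.coprime_self] at this
    exact hpr.ne_one this
  have htop : U ⊔ Subgroup.zpowers g = ⊤ := by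
    by_contra hne
    have hgH : g ∈ U ⊔ Subgroup.zpowers g := Subgroup.mem_sup_right (Subgroup.mem_zpowers g)
    have h := hnpc_centralize (h2 _ hne) (Q := U.subgroupOf (U ⊔ Subgroup.zpowers g))
      (hUp.comap_of_injective _ (Subgroup.subtype_injective _)) (g := ⟨g, hgH⟩)
      (Subgroup.mem_normalizer_iff.2 fun x => Subgroup.mem_normalizer_iff.1 hg (x : G))
      (by rwa [Subgroup.orderOf_mk])
    refine hgc (Subgroup.mem_centralizer_iff.2 fun u hu => ?_)
    exact congrArg Subtype.val (Subgroup.mem_centralizer_iff.1 h ⟨u, Subgroup.mem_sup_left hu⟩ hu)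
  have hUn : U.Normal := by
    rw [← Subgroup.normalizer_eq_top_iff, eq_top_iff, ← htop]
    exact sup_le Subgroup.le_normalizer (Subgroup.zpowers_le.2 hg)
  have hcard : Nat.card G ∣ Nat.card U * q ^ k := by
    have h := Subgroup.card_eq_card_quotient_mul_card_subgroup U
    have hsurj : Function.Surjective ((QuotientGroup.mk' U).comp (Subgroup.zpowers g).subtype) := by
      intro y
      obtain ⟨x, rfl⟩ := QuotientGroup.mk'_surjective U y
      obtain ⟨u, hu, z, hz, rfl⟩ := Subgroup.mem_sup_of_normal_left.1 (htop.ge (Subgroup.mem_top x))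
      refine ⟨⟨z, hz⟩, ?_⟩
      show QuotientGroup.mk' U z = QuotientGroup.mk' U (u * z)
      rw [map_mul, show QuotientGroup.mk' U u = 1 from (QuotientGroup.eq_one_iff u).2 hu, one_mul]
    have h3 := Subgroup.card_dvd_of_surjective _ hsurj
    rw [Nat.card_zpowers, hk] at h3
    rw [h, mul_comm (Nat.card U)]
    exact Nat.mul_dvd_mul_right h3 _
  have hcopq : Nat.Coprime p (q ^ k) := ((Nat.coprime_primes hpr hqp).2 (Ne.symm hqne)).pow_right k
  have hsyl : ∀ P : Sylow p G, (P : Subgroup G) = U := by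
    intro P
    have hle : U ≤ (P : Subgroup G) := hUp.le_sylow_of_normal P
    obtain ⟨a, ha⟩ := (P.2).exists_card_eq
    obtain ⟨b, hb⟩ := hUp.exists_card_eq
    refine (Subgroup.eq_of_le_of_card_ge hle (Nat.le_of_dvd Nat.card_pos ?_)).symm
    have h3 : Nat.card (P : Subgroup G) ∣ Nat.card U * q ^ k := (P : Subgroup G).card_subgroup_dvd_card.trans hcard
    exact (Nat.Coprime.dvd_of_dvd_mul_right (by rw [ha]; exact hcopq.pow_left a) h3)
  refine ⟨fun H hH => ?_, fun hn => h1 (@hnpc_of_isNilpotent G _ _ p _ hn), fun P => by rw [hsyl P]; exact hUn⟩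
  have hK : (Nat.card (pResidual p H)).Coprime p := hnpc_iff.1 (h2 H hH)
  have hKq : Nat.card (pResidual p H) ∣ q ^ k := by
    obtain ⟨b, hb⟩ := hUp.exists_card_eq
    refine Nat.Coprime.dvd_of_dvd_mul_left (by rw [hb]; exact hK.pow_right b)
      (((Subgroup.card_subgroup_dvd_card _).trans (Subgroup.card_subgroup_dvd_card H)).trans hcard)
  obtain ⟨j, -, hj⟩ := (Nat.dvd_prime_pow hqp).1 hKq
  have := Fact.mk hqp
  have hKn : Group.IsNilpotent (pResidual p H) := (IsPGroup.of_card hj).isNilpotent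
  obtain ⟨T⟩ : Nonempty (Sylow p H) := inferInstance
  have hTU : (T : Subgroup H) ≤ U.subgroupOf H := by
    obtain ⟨P, hP⟩ := (T.2.map H.subtype).exists_le_sylow
    intro x hx
    have h4 := hP ⟨x, hx, rfl⟩
    rw [hsyl P] at h4
    exact h4
  have : (U.subgroupOf H).Normal := inferInstance
  have hUn' : Group.IsNilpotent (U.subgroupOf H) := (hUp.comap_of_injective _ H.subtype_injective).isNilpotent
  have e : Cfsg.fittingSubgroup H = ⊤ := by
    rw [eq_top_iff, ← pResidual_sup_sylow T]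
    refine sup_le ?_ (hTU.trans ?_)
    · exact Cfsg.Agent.Solv.subnormal_nilpotent_le_fitting (Subgroup.Normal.isSubnormal inferInstance) hKn
    · exact Cfsg.Agent.Solv.subnormal_nilpotent_le_fitting (Subgroup.Normal.isSubnormal inferInstance) hUn'
  have hF := Cfsg.Agent.Solv.fittingSubgroup_nilpotent (G := H)
  rw [e] at hF
  exact Group.isNilpotent_top.1 hF

end Cfsg.Agent.S0132
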