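import Cfsg.Statements.S0136
import Cfsg.Agent.Lib.Char.Central

set_option autoImplicit false
open Cfsg
open scoped ComplexConjugate

namespace Cfsg.Agent.S0136

/-- Two elements of a finite group are conjugate if and only if no irreducible complex character separates them. -/
theorem result {G : Type*} [Group G] [Finite G] (g h : G) : IsConj g h ↔ ∀ χ : Cfsg.IrrCharacter G, (χ : G → ℂ) g = (χ : G → ℂ) h := by
  have := Fintype.ofFinite G
  classical
  constructor
  · intro hc χ
    obtain ⟨k, hk⟩ := isConj_iff.mp hc
    rw [← hk, Char.isClassFunction_character (Char.irr_isCharacter χ.2)]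
  · intro hall
    by_contra hne
    have h1 := Char.second_orth g h
    rw [if_neg hne] at h1
    simp only [hall] at h1
    have h2 := Char.second_orth h h
    rw [if_pos (IsConj.refl h), h1] at h2
    have hn : (Nat.card {x : G // IsConj h x} : ℂ) ≠ 0 := by
      exact_mod_cast Char.card_conjClass_ne_zero h
    exact absurd h2.symm (div_ne_zero (by simp) hn)

end Cfsg.Agent.S0136
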