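import Cfsg.Statements.S0145
import Cfsg.Agent.Lib.Char.Central

set_option autoImplicit false
open scoped ComplexConjugate
open Cfsg

namespace Cfsg.Agent.S0145

/-- Column orthogonality: the sum over the irreducible characters χ of χ g * conj (χ h) is the order of the centralizer of g if g and h are conjugate, and is 0 otherwise. -/
theorem result {G : Type*} [Group G] [Finite G] (g h : G) : (IsConj g h → ∑ᶠ χ : Cfsg.IrrCharacter G, (χ : G → ℂ) g * conj ((χ : G → ℂ) h) = (Nat.card (Subgroup.centralizer ({g} : Set G)) : ℂ)) ∧ (¬ IsConj g h → ∑ᶠ χ : Cfsg.IrrCharacter G, (χ : G → ℂ) g * conj ((χ : G → ℂ) h) = 0) := by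
  have := Fintype.ofFinite G
  classical
  rw [Char.finsum_irr]
  refine ⟨fun hc => ?_, fun hn => ?_⟩
  · rw [Char.second_orth, if_pos hc]
    have e : Nat.card {x : G // IsConj h x} = Nat.card {x : G // IsConj g x} :=
      Nat.card_congr (Equiv.subtypeEquivRight fun x => ⟨hc.trans, hc.symm.trans⟩)
    have hn : (Nat.card {x : G // IsConj g x} : ℂ) ≠ 0 := by
      exact_mod_cast Char.card_conjClass_ne_zero g
    rw [e, div_eq_iff hn, ← Nat.cast_mul, mul_comm, Char.card_conjClass_mul_centralizer]
  · rw [Char.second_orth, if_neg hn]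

end Cfsg.Agent.S0145
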