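import Cfsg.Statements.S0156
import Cfsg.Agent.Lib.Char.Central

set_option autoImplicit false
open Cfsg
open scoped ComplexConjugate

namespace Cfsg.Agent.S0156

/-- The character of the left regular representation is the sum over the irreducible characters χ of χ 1 • χ. -/
theorem result {G : Type*} [Group G] [Fintype G] : (Representation.leftRegular ℂ G).character = ∑ᶠ χ : Cfsg.IrrCharacter G, (χ : G → ℂ) 1 • (χ : G → ℂ) := by
  classical
  have h0 : ∀ g : G, (Representation.leftRegular ℂ G).character g =
      if g = 1 then (Nat.card G : ℂ) else 0 := by
    intro g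
    rw [Representation.character, LinearMap.trace_eq_matrix_trace ℂ (MonoidAlgebra.basis G ℂ),
      Matrix.trace]
    simp [Matrix.diag_apply, LinearMap.toMatrix_apply, MonoidAlgebra.basis, Finsupp.single_apply]
  funext g
  rw [h0 g, Char.finsum_irr, ← Char.regular_sum g, Finset.sum_apply]
  rfl

end Cfsg.Agent.S0156
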