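import Cfsg.Statements.S0157
import Cfsg.Agent.Lib.Char.IndValue
import Cfsg.Agent.Lib.Char.Ortho
import Cfsg.Agent.Lib.Char.Induction

set_option autoImplicit false
open Cfsg
open scoped ComplexConjugate

namespace Cfsg.Agent.S0157

/-- For a transitive action of a finite group on a finite set with at least two points: the action is 2-transitive if and only if the function sending g to (number of fixed points of g) − 1 is an irreducible character. -/
theorem result {G : Type*} [Group G] [Finite G] (X : Type*) [MulAction G X] [Finite X] [MulAction.IsPretransitive G X] (hX : 2 ≤ Nat.card X) : Cfsg.IsIrrCharacter G (fun g => (Nat.card (MulAction.fixedBy X g) : ℂ) - 1) ↔ MulAction.IsMultiplyPretransitive G X 2 := by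
  classical
  haveI := Fintype.ofFinite G
  haveI := Fintype.ofFinite X
  obtain ⟨x₀⟩ : Nonempty X := (Nat.card_pos_iff.1 (by omega)).1
  set π : G → ℂ := fun g => (Nat.card (MulAction.fixedBy X g) : ℂ) with hπ
  have hπi : π = Cfsg.indFun (MulAction.stabilizer G x₀) (fun _ => 1) :=
    funext fun g => Cfsg.Agent.Char.card_fixedBy_eq_indFun x₀ g
  have hπc : Cfsg.IsCharacter G π := hπi ▸
    Cfsg.Agent.Char.isCharacter_indFun _ Cfsg.Agent.Char.isCharacter_one
  have burn : ∀ (Y : Type _) [MulAction G Y] [Finite Y],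
      (∑ g : G, (Nat.card (MulAction.fixedBy Y g) : ℂ)) =
        (Nat.card (MulAction.orbitRel.Quotient G Y) : ℂ) * (Nat.card G : ℂ) := by
    intro Y _ _
    haveI := Fintype.ofFinite Y
    haveI := Fintype.ofFinite (MulAction.orbitRel.Quotient G Y)
    have h := MulAction.sum_card_fixedBy_eq_card_orbits_mul_card_group G Y
    simp only [Nat.card_eq_fintype_card]
    exact_mod_cast h
  have hG : (Nat.card G : ℂ) ≠ 0 := Nat.cast_ne_zero.2 Nat.card_pos.ne'
  -- one orbit on points
  have h1 : Cfsg.classInner π (fun _ => 1) = 1 := by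
    simp only [Cfsg.classInner, map_one, mul_one, hπ]
    rw [burn X]
    have : Nat.card (MulAction.orbitRel.Quotient G X) = 1 := by
      rw [Nat.card_eq_one_iff_unique]
      exact ⟨⟨fun a b => Quotient.inductionOn₂' a b fun u v => Quotient.sound'
        (MulAction.orbitRel_apply.2 (MulAction.exists_smul_eq G v u))⟩, ⟨Quotient.mk'' x₀⟩⟩
    rw [this, Nat.cast_one, one_mul, inv_mul_cancel₀ hG]
  set r := Nat.card (MulAction.orbitRel.Quotient G (X × X))
  have h2 : Cfsg.classInner π π = (r : ℂ) := by
    simp only [Cfsg.classInner, hπ, map_natCast]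
    rw [Finset.sum_congr rfl (g := fun g => (Nat.card (MulAction.fixedBy (X × X) g) : ℂ)) (fun g _ => ?_),
      burn (X × X)]
    · rw [← mul_assoc, mul_comm ((Nat.card G : ℂ))⁻¹, mul_assoc, inv_mul_cancel₀ hG, mul_one]
    · rw [← Nat.cast_mul, ← Nat.card_prod]
      refine congrArg Nat.cast (Nat.card_congr
        { toFun := fun p => ⟨(p.1.1, p.2.1), Prod.ext p.1.2 p.2.2⟩
          invFun := fun q => (⟨q.1.1, congrArg Prod.fst q.2⟩, ⟨q.1.2, congrArg Prod.snd q.2⟩)
          left_inv := fun p => rfl
          right_inv := fun q => rfl })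
  have hone : Cfsg.classInner (fun _ : G => (1 : ℂ)) (fun _ => 1) = 1 :=
    Cfsg.Agent.Char.irr_self Cfsg.Agent.Char.isIrrCharacter_one
  have h1' : Cfsg.classInner (fun _ : G => (1 : ℂ)) π = 1 := by
    rw [← Cfsg.Agent.Char.classInner_symm, h1, map_one]
  have hψ : (fun g => (Nat.card (MulAction.fixedBy X g) : ℂ) - 1) = π - fun _ => 1 := rfl
  have hchar : Cfsg.IsCharacter G (π - fun _ => 1) := by
    obtain ⟨m, hm⟩ := Cfsg.Agent.Char.exists_decomposition hπc
    let one : Cfsg.IrrCharacter G := ⟨_, Cfsg.Agent.Char.isIrrCharacter_one⟩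
    have hm1 : m one = 1 := by
      have h := Cfsg.Agent.Char.decomposition_coeff m hm one
      rw [show Cfsg.classInner π (one : G → ℂ) = 1 from h1] at h
      exact_mod_cast h.symm
    have : π - (fun _ => 1) = ∑ χ ∈ Finset.univ.erase one, m χ • (χ : G → ℂ) := by
      rw [eq_comm, Finset.sum_erase_eq_sub (Finset.mem_univ one), ← hm, hm1, one_smul]
    rw [this]
    exact Cfsg.Agent.Char.isCharacter_sum _ _ fun χ _ =>
      Cfsg.Agent.Char.isCharacter_nsmul (Cfsg.Agent.Char.irr_isCharacter χ.2) _
  have hnorm : Cfsg.classInner (π - fun _ => 1) (π - fun _ => 1) = (r : ℂ) - 1 := by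
    rw [Cfsg.Agent.Char.classInner_sub_left, Cfsg.Agent.Char.classInner_sub_right,
      Cfsg.Agent.Char.classInner_sub_right, h2, h1, h1', hone]
    ring
  rw [hψ, Cfsg.Agent.Char.isIrr_iff_norm_one, hnorm]
  have hr : ((r : ℂ) - 1 = 1) ↔ r = 2 := by
    rw [sub_eq_iff_eq_add, show (1 : ℂ) + 1 = ((2 : ℕ) : ℂ) by norm_num, Nat.cast_inj]
  -- two orbits on pairs
  obtain ⟨y₀, hy₀⟩ : ∃ y : X, y ≠ x₀ := by
    haveI : Nontrivial X := Finite.one_lt_card_iff_nontrivial.1 (by omega)
    exact exists_ne x₀
  let D : MulAction.orbitRel.Quotient G (X × X) := Quotient.mk'' (x₀, x₀)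
  let O : MulAction.orbitRel.Quotient G (X × X) := Quotient.mk'' (x₀, y₀)
  have hDO : D ≠ O := fun h => by
    obtain ⟨g, hg⟩ := MulAction.orbitRel_apply.1 (Quotient.exact' h)
    exact hy₀ (MulAction.injective g ((congrArg Prod.snd hg).trans (congrArg Prod.fst hg).symm))
  have hdiag : ∀ u : X, (Quotient.mk'' (u, u) : MulAction.orbitRel.Quotient G (X × X)) = D := fun u => by
    obtain ⟨g, hg⟩ := MulAction.exists_smul_eq G x₀ u
    exact Quotient.sound' (MulAction.orbitRel_apply.2 ⟨g, by simp [hg]⟩)
  rw [MulAction.is_two_pretransitive_iff]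
  constructor
  · rintro ⟨-, hn⟩ a b c d hab hcd
    have hr2 := hr.1 hn
    have hall : ∀ q : MulAction.orbitRel.Quotient G (X × X), q = D ∨ q = O := by
      intro q
      by_contra hc
      simp only [not_or] at hc
      haveI := Fintype.ofFinite (MulAction.orbitRel.Quotient G (X × X))
      have := Finset.card_le_univ ({q, D, O} : Finset _)
      rw [Finset.card_eq_three.2 ⟨q, D, O, hc.1, hc.2, hDO, rfl⟩, ← Nat.card_eq_fintype_card] at this
      omega
    have hoff : ∀ u v : X, u ≠ v → (Quotient.mk'' (u, v) : MulAction.orbitRel.Quotient G (X × X)) = O :=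
      fun u v huv => (hall _).resolve_left fun h => by
        obtain ⟨g, hg⟩ := MulAction.orbitRel_apply.1 (Quotient.exact' h)
        exact huv ((congrArg Prod.fst hg).symm.trans (congrArg Prod.snd hg))
    obtain ⟨g, hg⟩ := MulAction.orbitRel_apply.1
      (Quotient.exact' ((hoff c d hcd).trans (hoff a b hab).symm))
    exact ⟨g, congrArg Prod.fst hg, congrArg Prod.snd hg⟩
  · intro h
    refine ⟨hchar, hr.2 ?_⟩
    haveI := Fintype.ofFinite (MulAction.orbitRel.Quotient G (X × X))
    have huniv : (Finset.univ : Finset (MulAction.orbitRel.Quotient G (X × X))) = {D, O} := by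
      ext q
      simp only [Finset.mem_univ, Finset.mem_insert, Finset.mem_singleton, true_iff]
      induction q using Quotient.inductionOn' with
      | h p =>
        obtain ⟨u, v⟩ := p
        by_cases huv : u = v
        · subst huv; exact Or.inl (hdiag u)
        · obtain ⟨g, hgu, hgv⟩ := h (Ne.symm hy₀) huv
          exact Or.inr (Quotient.sound' (MulAction.orbitRel_apply.2 ⟨g, Prod.ext hgu hgv⟩))
    show Nat.card _ = 2
    rw [Nat.card_eq_fintype_card, ← Finset.card_univ, huniv, Finset.card_pair hDO]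

end Cfsg.Agent.S0157
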