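import Cfsg.Statements.S0162
import Cfsg.Agent.Lib.Char.RealClass

set_option autoImplicit false
open Cfsg
open scoped ComplexConjugate

namespace Cfsg.Agent.S0162

/-- If a finite group has odd order, its order is congruent to its number of conjugacy classes modulo 16. -/
theorem result {G : Type*} [Group G] [Finite G] (hodd : Odd (Nat.card G)) : Nat.card G ≡ Nat.card (ConjClasses G) [MOD 16] := by
  classical
  haveI := Fintype.ofFinite G
  rw [← Cfsg.Agent.Char.card_irr, ← ZMod.natCast_eq_natCast_iff]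
  let d : Cfsg.IrrCharacter G → ℕ := fun χ => Cfsg.Agent.Char.deg (χ : G → ℂ)
  have hsum : Nat.card G = ∑ χ : Cfsg.IrrCharacter G, d χ ^ 2 := by
    have h := Cfsg.Agent.Char.sum_sq_deg (G := G)
    simp only [fun χ : Cfsg.IrrCharacter G =>
      Cfsg.Agent.Char.char_one_eq_deg (Cfsg.Agent.Char.irr_isCharacter χ.2)] at h
    exact_mod_cast h.symm
  have hd : ∀ χ, d (Cfsg.Agent.Char.irrConj χ) = d χ := by
    intro χ
    simp [d, Cfsg.Agent.Char.deg]
  have hsq : ∀ χ, ((d χ ^ 2 : ℕ) : ZMod 16) - 1 + (((d χ ^ 2 : ℕ) : ZMod 16) - 1) = 0 := by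
    intro χ
    obtain ⟨k, hk⟩ : Odd (d χ) := hodd.of_dvd_nat (Cfsg.Agent.Char.deg_dvd_card χ.2)
    have h8 : ((8 * ((k * (k + 1)) / 2) : ℕ) : ZMod 16) * 2 = 0 := by
      push_cast
      rw [show (8 : ZMod 16) * _ * 2 = 16 * (((k * (k + 1)) / 2 : ℕ) : ZMod 16) by ring,
        show (16 : ZMod 16) = 0 from rfl, zero_mul]
    have he : d χ ^ 2 = 8 * ((k * (k + 1)) / 2) + 1 := by
      rw [hk]
      have h2 : 2 * ((k * (k + 1)) / 2) = k * (k + 1) := Nat.mul_div_cancel' (Nat.even_mul_succ_self k).two_dvd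
      nlinarith
    rw [he]
    push_cast
    push_cast at h8
    linear_combination h8
  have h0 : ∑ χ : Cfsg.IrrCharacter G, (((d χ ^ 2 : ℕ) : ZMod 16) - 1) = 0 := by
    refine Finset.sum_involution (fun χ _ => Cfsg.Agent.Char.irrConj χ)
      (fun χ _ => by rw [hd]; exact hsq χ) (fun χ _ hne he => hne ?_)
      (fun χ _ => Finset.mem_univ _) (fun χ _ => Cfsg.Agent.Char.irrConj_irrConj χ)
    have h1 := Cfsg.Agent.Char.irrConj_eq_self_iff_one hodd χ he
    have : d χ = 1 := by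
      simp [d, Cfsg.Agent.Char.deg, h1]
    rw [this]; simp
  rw [Finset.sum_sub_distrib, sub_eq_zero, ← Nat.cast_sum, ← hsum] at h0
  rw [h0]
  simp

end Cfsg.Agent.S0162
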