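import Cfsg.Statements.S0167
import Cfsg.Agent.Lib.Char.Restrict
import Cfsg.Agent.Lib.Char.Ortho

set_option autoImplicit false
open Cfsg
open scoped ComplexConjugate

namespace Cfsg.Agent.S0167

/-- An element g of a finite group is a commutator if and only if the sum over the irreducible characters χ of χ g / χ 1 is nonzero. -/
theorem result {G : Type*} [Group G] [Finite G] (g : G) : (∃ a b : G, g = a * b * a⁻¹ * b⁻¹) ↔ ∑ᶠ χ : Cfsg.IrrCharacter G, (χ : G → ℂ) g / (χ : G → ℂ) 1 ≠ 0 := by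
  classical
  haveI := Fintype.ofFinite G
  rw [finsum_eq_sum_of_fintype]
  -- for each `χ`, the sum over all commutators
  have key : ∀ χ : Cfsg.IrrCharacter G, ∑ a : G, ∑ b : G, (χ : G → ℂ) (a * b * a⁻¹ * b⁻¹) =
      (Nat.card G : ℂ) * (Nat.card G : ℂ) / (χ : G → ℂ) 1 := by
    intro χ
    have hc := Cfsg.Agent.Char.isClassFunction_character (Cfsg.Agent.Char.irr_isCharacter χ.2)
    have h1 : ∀ a : G, ∑ b : G, (χ : G → ℂ) (a * b * a⁻¹ * b⁻¹) =
        (Nat.card G : ℂ) * ((χ : G → ℂ) a * conj ((χ : G → ℂ) a)) / (χ : G → ℂ) 1 := by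
      intro a
      let f : G → ℂ := fun x => ((Finset.univ.filter (fun b : G => b * a⁻¹ * b⁻¹ = x)).card : ℂ)
      have hf : Cfsg.IsClassFunction G f := by
        intro x k
        simp only [f]
        congr 1
        refine Finset.card_equiv (Equiv.mulLeft k⁻¹) fun b => ?_
        simp only [Finset.mem_filter, Finset.mem_univ, true_and, Equiv.coe_mulLeft]
        constructor
        · intro e
          calc k⁻¹ * b * a⁻¹ * (k⁻¹ * b)⁻¹ = k⁻¹ * (b * a⁻¹ * b⁻¹) * k := by group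
            _ = x := by rw [e]; group
        · intro e
          rw [← e]; group
      have e := Cfsg.Agent.Char.sum_mul_shift χ.2 hf a
      have e2 : ∀ φ : G → ℂ, ∑ b : G, φ (b * a⁻¹ * b⁻¹) = ∑ x : G, f x * φ x := by
        intro φ
        rw [← Finset.sum_fiberwise Finset.univ (fun b : G => b * a⁻¹ * b⁻¹)]
        refine Finset.sum_congr rfl fun x _ => ?_
        rw [Finset.sum_congr rfl (g := fun _ => φ x) (fun b hb => by rw [(Finset.mem_filter.1 hb).2]),
          Finset.sum_const, nsmul_eq_mul]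
      have hL : ∑ b : G, (χ : G → ℂ) (a * b * a⁻¹ * b⁻¹) = ∑ x : G, f x * (χ : G → ℂ) (x * a) := by
        rw [← e2 (fun x => (χ : G → ℂ) (x * a))]
        refine Finset.sum_congr rfl fun b _ => ?_
        have := hc (b * a⁻¹ * b⁻¹ * a) a
        rw [← this]; congr 1; group
      rw [hL, e, Cfsg.Agent.Char.lam, ← e2]
      rw [Finset.sum_congr rfl (g := fun _ => (χ : G → ℂ) a⁻¹) (fun b _ => hc a⁻¹ b), Finset.sum_const,
        Finset.card_univ, nsmul_eq_mul, Cfsg.Agent.Char.char_inv (Cfsg.Agent.Char.irr_isCharacter χ.2),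
        Nat.card_eq_fintype_card]
      ring
    rw [Finset.sum_congr rfl (fun a _ => h1 a), ← Finset.sum_div, ← Finset.mul_sum]
    have hs := Cfsg.Agent.Char.irr_self χ.2
    rw [Cfsg.classInner, inv_mul_eq_one₀ (Nat.cast_ne_zero.2 Nat.card_pos.ne')] at hs
    rw [← hs]
  -- second orthogonality
  have count : (Nat.card {p : G × G // IsConj (p.1 * p.2 * p.1⁻¹ * p.2⁻¹) g} : ℂ) *
      ((Nat.card G : ℂ) / Nat.card {x : G // IsConj g x}) =
      (Nat.card G : ℂ) * (Nat.card G : ℂ) *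
        conj (∑ χ : Cfsg.IrrCharacter G, (χ : G → ℂ) g / (χ : G → ℂ) 1) := by
    rw [Nat.card_eq_fintype_card (α := {p : G × G // _}), Fintype.card_subtype, ← Finset.sum_boole,
      Finset.sum_mul, map_sum, Finset.mul_sum]
    simp only [ite_mul, one_mul, zero_mul]
    rw [Finset.sum_congr rfl (fun (p : G × G) _ =>
      (Cfsg.Agent.Char.second_orth (p.1 * p.2 * p.1⁻¹ * p.2⁻¹) g).symm), Finset.sum_comm]
    refine Finset.sum_congr rfl fun χ _ => ?_
    rw [← Finset.sum_mul, Fintype.sum_prod_type, key χ, map_div₀,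
      Cfsg.Agent.Char.conj_char_one (Cfsg.Agent.Char.irr_isCharacter χ.2)]
    ring
  have hG : (Nat.card G : ℂ) ≠ 0 := Nat.cast_ne_zero.2 Nat.card_pos.ne'
  have hK : (Nat.card {x : G // IsConj g x} : ℂ) ≠ 0 := by
    exact_mod_cast Cfsg.Agent.Char.card_conjClass_ne_zero g
  constructor
  · rintro ⟨a, b, rfl⟩ h
    rw [h, map_zero, mul_zero, mul_eq_zero] at count
    rcases count with h' | h'
    · rw [Nat.cast_eq_zero] at h'
      haveI : Nonempty {p : G × G // IsConj (p.1 * p.2 * p.1⁻¹ * p.2⁻¹) (a * b * a⁻¹ * b⁻¹)} :=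
        ⟨⟨(a, b), IsConj.refl _⟩⟩
      exact Nat.card_pos.ne' h'
    · exact div_ne_zero hG hK h'
  · intro h
    have : Nat.card {p : G × G // IsConj (p.1 * p.2 * p.1⁻¹ * p.2⁻¹) g} ≠ 0 := by
      intro h0
      rw [h0, Nat.cast_zero, zero_mul, eq_comm, mul_eq_zero] at count
      rcases count with h' | h'
      · exact mul_ne_zero hG hG h'
      · exact h ((map_eq_zero _).1 h')
    obtain ⟨⟨⟨p, q⟩, hp⟩⟩ := (Nat.card_ne_zero.1 this).1
    obtain ⟨k, hk⟩ := isConj_iff.1 hp
    exact ⟨k * p * k⁻¹, k * q * k⁻¹, by rw [← hk]; group⟩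

end Cfsg.Agent.S0167
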