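import Cfsg.Statements.S0170
import Cfsg.Agent.Lib.Char.Exceptional
import Cfsg.Agent.Lib.Char.IndValue
import Cfsg.Agent.Lib.Char.Induction

set_option autoImplicit false
open Cfsg
open scoped ComplexConjugate

namespace Cfsg.Agent.S0170

/-- Exceptional characters. Let S be a subset of a finite group contained in its normalizer N and meeting its conjugates by elements outside N only in the identity. Given n ≥ 2 distinct irreducible characters of N of equal degree that vanish on N away from S, there exist a sign ε and n distinct irreducible characters θ_i of G such that inducing χ_i − χ_j to G gives ε (θ_i − θ_j) for all i, j. -/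
theorem result {G : Type*} [Group G] [Fintype G] (S : Set G) (hSN : S ⊆ Subgroup.normalizer S) (hTI : ∀ g : G, g ∉ Subgroup.normalizer S → ∀ s ∈ S, g * s * g⁻¹ ∈ S → s = 1) (n : ℕ) (hn : 2 ≤ n) (χ : Fin n → (Subgroup.normalizer S → ℂ)) (hirr : ∀ i, Cfsg.IsIrrCharacter (Subgroup.normalizer S) (χ i)) (hinj : Function.Injective χ) (hvan : ∀ i, ∀ x : Subgroup.normalizer S, (x : G) ∉ S → χ i x = 0) (hdeg : ∀ i j, χ i 1 = χ j 1) : ∃ ε : ℂ, (ε = 1 ∨ ε = -1) ∧ ∃ θ : Fin n → (G → ℂ), (∀ i, Cfsg.IsIrrCharacter G (θ i)) ∧ Function.Injective θ ∧ ∀ i j, Cfsg.indFun (Subgroup.normalizer S) (χ i) - Cfsg.indFun (Subgroup.normalizer S) (χ j) = ε • (θ i - θ j) := by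
  classical
  let i₀ : Fin n := ⟨0, by omega⟩
  haveI := Fintype.ofFinite (Subgroup.normalizer S)
  let τ : Fin n → (G → ℂ) := fun i => Cfsg.indFun (Subgroup.normalizer S) (χ i - χ i₀)
  have hvan' : ∀ i, ∀ x : (Subgroup.normalizer S), (x : G) ∉ S → (χ i - χ i₀) x = 0 := fun i x hx => by
    simp [hvan i x hx, hvan i₀ x hx]
  have hcf : ∀ i, Cfsg.IsClassFunction (Subgroup.normalizer S) (χ i - χ i₀) := fun i g h => by
    simp only [Pi.sub_apply, Char.isClassFunction_character (Char.irr_isCharacter (hirr i)) g h,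
      Char.isClassFunction_character (Char.irr_isCharacter (hirr i₀)) g h]
  obtain ⟨ε, hε, μ, hμ, hμi, hτμ⟩ := Char.exists_exceptional n i₀ τ
    (by simp only [τ, sub_self]; exact Char.indFun_zero (Subgroup.normalizer S))
    (fun i => ⟨_, _, Char.isCharacter_indFun (Subgroup.normalizer S) (Char.irr_isCharacter (hirr i)),
      Char.isCharacter_indFun (Subgroup.normalizer S) (Char.irr_isCharacter (hirr i₀)), Char.indFun_sub (Subgroup.normalizer S) _ _⟩)
    (fun i => by simp only [τ, Char.indFun_one, Pi.sub_apply, hdeg i i₀, sub_self, mul_zero])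
    (fun i j hi hj => by
      simp only [τ]
      rw [Char.classInner_indFun_ti S hTI _ _ (hvan' i) (hcf j) (hvan' j)
        (by simp [hdeg i i₀])]
      rw [Char.classInner_sub_left, Char.classInner_sub_right, Char.classInner_sub_right,
        Char.irr_orth (hirr i) (hirr j), Char.irr_orth (hirr i) (hirr i₀),
        Char.irr_orth (hirr i₀) (hirr j), Char.irr_orth (hirr i₀) (hirr i₀), if_pos rfl,
        if_neg (hinj.ne hi), if_neg (hinj.ne hj.symm)]
      by_cases hij : i = j
      · rw [if_pos hij, if_pos (congrArg χ hij)]; norm_num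
      · rw [if_neg hij, if_neg (hinj.ne hij)]; norm_num)
  refine ⟨ε, hε, μ, hμ, hμi, fun i j => ?_⟩
  have e : ∀ i, Cfsg.indFun (Subgroup.normalizer S) (χ i) - Cfsg.indFun (Subgroup.normalizer S) (χ i₀) = ε • (μ i - μ i₀) := fun i => by
    rw [← hτμ i, ← Char.indFun_sub]
  calc Cfsg.indFun (Subgroup.normalizer S) (χ i) - Cfsg.indFun (Subgroup.normalizer S) (χ j)
      = (Cfsg.indFun (Subgroup.normalizer S) (χ i) - Cfsg.indFun (Subgroup.normalizer S) (χ i₀)) - (Cfsg.indFun (Subgroup.normalizer S) (χ j) - Cfsg.indFun (Subgroup.normalizer S) (χ i₀)) :=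
        by abel
    _ = ε • (μ i - μ j) := by rw [e, e, ← smul_sub]; congr 1; abel

end Cfsg.Agent.S0170
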