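import Cfsg.Statements.S0172
import Mathlib
import Cfsg.Agent.Lib.Solv.Coprime

set_option autoImplicit false
open Cfsg

namespace Cfsg.Agent.S0172

/-- Class number of a Frobenius group: if G = K H with K normal, K ⊓ H trivial and no non-identity element of H commuting with a non-identity element of K, then |H| * k(G) + 1 = |H| * k(H) + k(K), where k denotes the number of conjugacy classes. -/
theorem result {G : Type*} [Group G] [Finite G] (K H : Subgroup G) [K.Normal] (hKH : K ⊓ H = ⊥) (hKH' : K ⊔ H = ⊤) (hfpf : ∀ h ∈ H, h ≠ 1 → ∀ k ∈ K, h * k = k * h → k = 1) : Nat.card H * Nat.card (ConjClasses G) + 1 = Nat.card H * Nat.card (ConjClasses H) + Nat.card (ConjClasses K) := by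
  classical
  haveI := Fintype.ofFinite G
  let T := {hh : H // hh ≠ 1}
  let f : K × T → {g : G // g ∉ K} := fun t =>
    ⟨(t.1 : G) * (t.2.1 : G) * (t.1 : G)⁻¹, fun hm => t.2.2 (by
      have h1 : (t.2.1 : G) ∈ K := by
        have := Subgroup.Normal.conj_mem ‹K.Normal› _ hm (t.1 : G)⁻¹
        simpa [mul_assoc] using this
      have h2 : (t.2.1 : G) ∈ K ⊓ H := ⟨h1, t.2.1.2⟩
      rw [hKH, Subgroup.mem_bot] at h2
      exact Subtype.ext h2)⟩
  have hmodK : ∀ (k : G) (h₁ h₂ : G), h₁ ∈ H → h₂ ∈ H → k ∈ K → h₁ = k * h₂ → k = 1 ∧ h₁ = h₂ := by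
    intro k h₁ h₂ h1 h2 hk e
    have : k ∈ K ⊓ H := ⟨hk, by rw [show k = h₁ * h₂⁻¹ by rw [e]; group]; exact H.mul_mem h1 (H.inv_mem h2)⟩
    rw [hKH, Subgroup.mem_bot] at this
    exact ⟨this, by rw [e, this, one_mul]⟩
  -- elements fixed by a nontrivial element of `H`
  have hcentH : ∀ h ∈ H, h ≠ 1 → ∀ u : G, u * h = h * u → u ∈ H := by
    intro h hh hh1 u hu
    obtain ⟨k, hk, h', hh', rfl⟩ : ∃ k ∈ K, ∃ h' ∈ H, k * h' = u := by
      have : u ∈ ((K ⊔ H : Subgroup G) : Set G) := by rw [hKH']; trivial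
      rw [Subgroup.normal_mul] at this
      exact this
    have e : h' * h = (k⁻¹ * (h * k * h⁻¹)) * (h * h') := by
      calc h' * h = k⁻¹ * (k * h' * h) := by group
        _ = k⁻¹ * (h * (k * h')) := by rw [hu]
        _ = _ := by group
    obtain ⟨h3, -⟩ := hmodK _ _ _ (H.mul_mem hh' hh) (H.mul_mem hh hh')
      (K.mul_mem (K.inv_mem hk) (Subgroup.Normal.conj_mem ‹K.Normal› _ hk h)) e
    have : k = 1 := hfpf h hh hh1 k hk (by
      calc h * k = k * (k⁻¹ * (h * k * h⁻¹)) * h := by group
        _ = k * h := by rw [h3, mul_one])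
    rw [this, one_mul]; exact hh'
  have hcard : Nat.card G = Nat.card K * Nat.card H := by
    have hn : H ≤ Subgroup.normalizer (K : Set G) := by rw [Subgroup.normalizer_eq_top]; exact le_top
    have := Cfsg.Agent.Solv.card_sup_mul_card_inf' K H hn
    rw [hKH, Subgroup.card_bot, mul_one, hKH', Subgroup.card_top] at this
    exact this
  have hinj : Function.Injective f := by
    rintro ⟨k1, h1, e1⟩ ⟨k2, h2, e2⟩ e
    have e' : (k1 : G) * (h1 : G) * (k1 : G)⁻¹ = (k2 : G) * (h2 : G) * (k2 : G)⁻¹ := congrArg Subtype.val e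
    set k : G := (k2 : G)⁻¹ * k1 with hk
    have hkm : k ∈ K := K.mul_mem (K.inv_mem k2.2) k1.2
    have e3 : (h2 : G) = (k * ((h1 : G) * k⁻¹ * (h1 : G)⁻¹)) * (h1 : G) := by
      calc (h2 : G) = (k2 : G)⁻¹ * ((k2 : G) * (h2 : G) * (k2 : G)⁻¹) * k2 := by group
        _ = _ := by rw [← e', hk]; group
    obtain ⟨h4, h5⟩ := hmodK _ _ _ h2.2 h1.2
      (K.mul_mem hkm (Subgroup.Normal.conj_mem ‹K.Normal› _ (K.inv_mem hkm) _)) e3
    have hk1 : k = 1 := hfpf h1 h1.2 (fun h => e1 (Subtype.ext h)) k hkm (by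
      calc (h1 : G) * k = (k * ((h1 : G) * k⁻¹ * (h1 : G)⁻¹)) * ((h1 : G) * k) := by rw [h4, one_mul]
        _ = _ := by group)
    obtain rfl : h2 = h1 := Subtype.ext h5
    obtain rfl : k1 = k2 := Subtype.ext (by
      rw [hk, inv_mul_eq_one] at hk1; exact hk1.symm)
    rfl
  have hfb : Function.Bijective f := by
    rw [Nat.bijective_iff_injective_and_card]
    refine ⟨hinj, ?_⟩
    simp only [T, Nat.card_eq_fintype_card, Fintype.card_prod, Fintype.card_subtype_compl,
      Fintype.card_subtype_eq]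
    rw [Nat.card_eq_fintype_card, Nat.card_eq_fintype_card, Nat.card_eq_fintype_card] at hcard
    rw [Nat.mul_sub, mul_one, ← hcard]
  let c : G → ℕ := fun g => Nat.card {y : G // Commute g y}
  have cpairs : ∀ (A : Type _) [Group A] [Fintype A],
      ∑ g : A, Nat.card {y : A // Commute g y} = Nat.card (ConjClasses A) * Nat.card A := by
    intro A _ _
    rw [← card_comm_eq_card_conjClasses_mul_card, ← Nat.card_sigma]
    exact Nat.card_congr (Equiv.subtypeProdEquivSigmaSubtype (fun a b : A => Commute a b)).symm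
  have hGsum := cpairs G
  rw [← Fintype.sum_subtype_add_sum_subtype (fun g : G => g ∈ K)
    (fun g => Nat.card {y : G // Commute g y})] at hGsum
  have hout : ∑ g : {g : G // g ∉ K}, Nat.card {y : G // Commute g.1 y} =
      Nat.card K * ∑ t : T, Nat.card {y : H // Commute t.1 y} := by
    rw [← (Equiv.ofBijective f hfb).sum_comp, Fintype.sum_prod_type, Finset.sum_congr rfl
      (g := fun _ => ∑ t : T, Nat.card {y : H // Commute t.1 y}) (fun k _ => ?_), Finset.sum_const,
      Finset.card_univ, smul_eq_mul, Nat.card_eq_fintype_card]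
    refine Finset.sum_congr rfl (fun t _ => Nat.card_congr ?_)
    let ci : G ≃* G := MulAut.conj ((k : G)⁻¹)
    refine (Equiv.subtypeEquiv ci.toEquiv (q := fun y => Commute (t.1 : G) y) (fun y => ?_)).trans
      { toFun := fun y => ⟨⟨y.1, hcentH _ t.1.2 (fun h => t.2 (Subtype.ext h)) _ y.2.symm.eq⟩,
          Subtype.ext y.2.eq⟩
        invFun := fun y => ⟨y.1.1, congrArg Subtype.val y.2.eq⟩
        left_inv := fun y => rfl
        right_inv := fun y => rfl }
    show Commute ((k : G) * (t.1 : G) * (k : G)⁻¹) y ↔ Commute (t.1 : G) (ci y)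
    rw [← commute_map_iff ci.injective]
    simp [ci, mul_assoc]
  have hin : ∑ g : {g : G // g ∈ K}, Nat.card {y : G // Commute g.1 y} + Nat.card K =
      Nat.card G + ∑ g : K, Nat.card {y : K // Commute g y} := by
    rw [← Finset.add_sum_erase _ _ (Finset.mem_univ (⟨1, K.one_mem⟩ : {g : G // g ∈ K})),
      ← Finset.add_sum_erase _ _ (Finset.mem_univ (⟨1, K.one_mem⟩ : K))]
    have a1 : Nat.card {y : G // Commute (1 : G) y} = Nat.card G :=
      Nat.card_congr (Equiv.subtypeUnivEquiv Commute.one_left)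
    have a2 : Nat.card {y : K // Commute (⟨1, K.one_mem⟩ : K) y} = Nat.card K :=
      Nat.card_congr (Equiv.subtypeUnivEquiv (fun y => Commute.one_left y))
    simp only [a1, a2]
    have hs : ∀ g ∈ (Finset.univ : Finset K).erase ⟨1, K.one_mem⟩,
        Nat.card {y : G // Commute (g : G) y} = Nat.card {y : K // Commute g y} := by
      intro g hg
      have hg1 : (g : G) ≠ 1 := fun h => (Finset.mem_erase.1 hg).1 (Subtype.ext h)
      refine Nat.card_congr
        { toFun := fun y => ⟨⟨y.1, ?_⟩, Subtype.ext y.2.eq⟩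
          invFun := fun y => ⟨y.1.1, congrArg Subtype.val y.2.eq⟩
          left_inv := fun y => rfl
          right_inv := fun y => rfl }
      by_contra hyK
      obtain ⟨⟨k, h, hh⟩, e⟩ := hfb.2 ⟨y.1, hyK⟩
      have e' : (k : G) * (h : G) * (k : G)⁻¹ = y.1 := congrArg Subtype.val e
      apply hg1
      have h2 : (k : G)⁻¹ * g * k = 1 := hfpf h h.2 (fun h' => hh (Subtype.ext h')) _
        (by simpa using Subgroup.Normal.conj_mem ‹K.Normal› _ g.2 (k : G)⁻¹) (by
          have := y.2.eq
          rw [← e'] at this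
          calc (h : G) * ((k : G)⁻¹ * g * k) = (k : G)⁻¹ * ((k : G) * (h : G) * (k : G)⁻¹ * g) * k := by group
            _ = (k : G)⁻¹ * ((g : G) * ((k : G) * (h : G) * (k : G)⁻¹)) * k := by rw [this]
            _ = _ := by group)
      simpa [mul_assoc] using congrArg (fun z => (k : G) * z * (k : G)⁻¹) h2
    have hs' : ∑ g ∈ (Finset.univ : Finset {g : G // g ∈ K}).erase ⟨1, K.one_mem⟩,
        Nat.card {y : G // Commute g.1 y} = ∑ g ∈ (Finset.univ : Finset K).erase ⟨1, K.one_mem⟩,
        Nat.card {y : K // Commute g y} := Finset.sum_congr rfl hs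
    omega
  rw [hout] at hGsum
  rw [cpairs K] at hin
  have hT : Nat.card H + ∑ t : T, Nat.card {y : H // Commute t.1 y} =
      Nat.card (ConjClasses H) * Nat.card H := by
    rw [← cpairs H, ← Finset.add_sum_erase _ _ (Finset.mem_univ (1 : H))]
    congr 1
    · exact (Nat.card_congr (Equiv.subtypeUnivEquiv (fun y => Commute.one_left y))).symm
    · exact (Finset.sum_subtype _ (fun x => by simp) (fun t => Nat.card {y : H // Commute t y})).symm
  rw [hcard] at hGsum hin
  have hK0 : 0 < Nat.card K := Nat.card_pos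
  nlinarith [hGsum, hin, hT]

end Cfsg.Agent.S0172
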