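import Cfsg.Statements.S0173
import Cfsg.Agent.Lib.Char.Glauberman

set_option autoImplicit false
open Cfsg
open scoped ComplexConjugate

namespace Cfsg.Agent.S0173

/-- Brauer's permutation lemma for a single automorphism: the number of conjugacy classes mapped to themselves equals the number of irreducible complex characters χ with χ ∘ α = χ. -/
theorem result {G : Type*} [Group G] [Finite G] (α : G ≃* G) : Nat.card {C : ConjClasses G // ConjClasses.map α.toMonoidHom C = C} = Nat.card {χ : Cfsg.IrrCharacter G // (χ : G → ℂ) ∘ α = (χ : G → ℂ)} := by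
  classical
  have := Fintype.ofFinite G
  have := Fintype.ofFinite (ConjClasses G)
  have key : ∀ χ : Cfsg.IrrCharacter G,
      Cfsg.classInner ((χ : G → ℂ) ∘ α) (χ : G → ℂ) =
        if (χ : G → ℂ) ∘ α = (χ : G → ℂ) then 1 else 0 := fun χ => by
    refine (Cfsg.Agent.Char.irrC_orth
      ⟨_, Cfsg.Agent.Char.isIrrCharacter_comp_equiv α χ.2⟩ χ).trans ?_
    simp only [Subtype.ext_iff]
    rfl
  have hfix : ∀ K : ConjClasses G, ∀ g : G, ConjClasses.mk g = K →
      ((IsConj (α g) g) ↔ ConjClasses.map α.toMonoidHom K = K) := fun K g hg => by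
    subst hg
    exact ConjClasses.mk_eq_mk_iff_isConj.symm
  have h1 : ((Nat.card {χ : Cfsg.IrrCharacter G // (χ : G → ℂ) ∘ α = (χ : G → ℂ)} : ℕ) : ℂ) =
      ∑ χ : Cfsg.IrrCharacter G, Cfsg.classInner ((χ : G → ℂ) ∘ α) (χ : G → ℂ) := by
    rw [Nat.card_eq_fintype_card, Fintype.card_subtype]
    simp only [key, Finset.sum_boole]
  have h2 : ((Nat.card {C : ConjClasses G // ConjClasses.map α.toMonoidHom C = C} : ℕ) : ℂ) =
      ∑ χ : Cfsg.IrrCharacter G, Cfsg.classInner ((χ : G → ℂ) ∘ α) (χ : G → ℂ) := by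
    simp only [Cfsg.classInner, ← Finset.mul_sum]
    rw [Finset.sum_comm]
    simp only [Function.comp_apply, Cfsg.Agent.Char.second_orth]
    rw [← Finset.sum_fiberwise Finset.univ ConjClasses.mk, Finset.mul_sum, Nat.card_eq_fintype_card,
      Fintype.card_subtype, ← Finset.sum_boole]
    refine Finset.sum_congr rfl fun K _ => ?_
    obtain ⟨g0, rfl⟩ := ConjClasses.exists_rep K
    have hc : ∀ g ∈ Finset.univ.filter (fun x : G => ConjClasses.mk x = ConjClasses.mk g0),
        (if IsConj (α g) g then ((Nat.card G : ℂ) / Nat.card {x : G // IsConj g x}) else 0) =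
        (if ConjClasses.map α.toMonoidHom (ConjClasses.mk g0) = ConjClasses.mk g0 then
          ((Nat.card G : ℂ) / Nat.card {x : G // IsConj g0 x}) else 0) := fun g hg => by
      have hg' := (Finset.mem_filter.mp hg).2
      have hgc : IsConj g g0 := ConjClasses.mk_eq_mk_iff_isConj.mp hg'
      rw [Nat.card_congr (Equiv.subtypeEquivRight fun x =>
        (⟨fun h => hgc.symm.trans h, fun h => hgc.trans h⟩ : IsConj g x ↔ IsConj g0 x))]
      simp only [hfix _ g hg']
    rw [Finset.sum_congr rfl hc, Finset.sum_const, nsmul_eq_mul]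
    have hcard : ((Finset.univ.filter (fun x : G => ConjClasses.mk x = ConjClasses.mk g0)).card : ℂ) =
        Nat.card {x : G // IsConj g0 x} := by
      rw [Nat.card_eq_fintype_card, Fintype.card_subtype]
      exact congrArg _ (congrArg _ (Finset.filter_congr fun x _ =>
        ⟨fun h => (ConjClasses.mk_eq_mk_iff_isConj.mp h).symm,
          fun h => ConjClasses.mk_eq_mk_iff_isConj.mpr h.symm⟩))
    rw [hcard]
    have h0 : (Nat.card {x : G // IsConj g0 x} : ℂ) ≠ 0 :=
      Nat.cast_ne_zero.mpr (Cfsg.Agent.Char.card_conjClass_ne_zero g0)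
    split_ifs
    · field_simp
    · simp
  exact_mod_cast h2.trans h1.symm

end Cfsg.Agent.S0173
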