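import Cfsg.Statements.S0174
import Cfsg.Agent.Lib.Char.Clifford

set_option autoImplicit false
open Cfsg
open scoped ComplexConjugate

namespace Cfsg.Agent.S0174

/-- The Clifford Theorem for characters: if θ is an irreducible character of a finite group G, N is a normal subgroup and χ is an irreducible character of N occurring in the restriction of θ, then θ restricted to N equals e times the sum of the distinct G-conjugates of χ, where e is the inner product of the restriction with χ. -/
theorem result {G : Type*} [Group G] [Fintype G] (N : Subgroup G) [Fintype N] (hN : N.Normal) (θ : G → ℂ) (hθ : Cfsg.IsIrrCharacter G θ) (χ : N → ℂ) (hχ : Cfsg.IsIrrCharacter N χ) (hconst : Cfsg.classInner (fun n : N => θ n) χ ≠ 0) : (fun n : N => θ n) = Cfsg.classInner (fun n : N => θ n) χ • ∑ᶠ ψ ∈ {ψ : N → ℂ | ∃ g : G, ψ = fun n : N => χ ⟨g * n * g⁻¹, hN.conj_mem n n.2 g⟩}, ψ := by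
  classical
  haveI := hN
  have hc := Cfsg.Agent.Char.clifford_restrict (⟨θ, hθ⟩ : Cfsg.IrrCharacter G) (⟨χ, hχ⟩ : Cfsg.IrrCharacter N) hconst
  refine hc.trans (congrArg _ ?_)
  have : DecidableEq (N → ℂ) := Classical.decEq _
  let θ0 : Cfsg.IrrCharacter N := ⟨χ, hχ⟩
  let T : Finset (N → ℂ) := Finset.image Subtype.val (Cfsg.Agent.Char.cliffOrbit N θ0)
  rw [finsum_mem_eq_sum_of_inter_support_eq (fun ψ : N → ℂ => ψ) (t := T)]
  · exact (Finset.sum_image (f := fun ψ : N → ℂ => ψ) (g := Subtype.val)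
      (s := Cfsg.Agent.Char.cliffOrbit N θ0) fun a _ b _ h => Subtype.ext h).symm
  · congr 1
    ext ψ
    simp only [T, Finset.coe_image, Set.mem_image, Finset.mem_coe, Set.mem_setOf_eq,
      Cfsg.Agent.Char.mem_cliffOrbit]
    constructor
    · rintro ⟨g, rfl⟩
      exact ⟨_, ⟨g, rfl⟩, funext fun n => congrArg χ (Subtype.ext (MulAut.conjNormal_apply g n))⟩
    · rintro ⟨_, ⟨g, rfl⟩, rfl⟩
      exact ⟨g, funext fun n => congrArg χ (Subtype.ext (MulAut.conjNormal_apply g n))⟩

end Cfsg.Agent.S0174
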