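import Cfsg.Statements.S0175
import Cfsg.Agent.Lib.Char.Degree
import Cfsg.Agent.Lib.Char.PermLemma

set_option autoImplicit false
open Cfsg
open scoped commutatorElement
open scoped ComplexConjugate

namespace Cfsg.Agent.S0175

/-- Taketa's Theorem on M-groups: if every irreducible complex character of a finite group is induced from a linear character (a homomorphism to ℂˣ) of some subgroup, the group is solvable. -/
theorem result {G : Type*} [Group G] [Fintype G] (hM : ∀ χ : G → ℂ, Cfsg.IsIrrCharacter G χ → ∃ (H : Subgroup G) (lam : H →* ℂˣ), χ = Cfsg.indFun H (fun h => (lam h : ℂ))) : Group.IsSolvable G := by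
  classical
  have hlin1 : ∀ (H : Subgroup G) (lam : H →* ℂˣ) (n : ℕ),
      (⁅H, H⁆ : Subgroup G) ≤ H → derivedSeries G n ≤ ⁅H, H⁆ →
      ∀ x ∈ derivedSeries G n, Cfsg.indFun H (fun h => (lam h : ℂ)) x =
        Cfsg.indFun H (fun h => (lam h : ℂ)) 1 := by
    intro H lam n hHH hle x hx
    have hn : (derivedSeries G n).Normal := derivedSeries_normal G n
    have hkill : ∀ y : H, (y : G) ∈ (⁅H, H⁆ : Subgroup G) → lam y = 1 := by
      intro y hy
      have hle' : (⁅H, H⁆ : Subgroup G) ≤ (MonoidHom.ker lam).map H.subtype := by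
        rw [Subgroup.commutator_le]
        intro a ha b hb
        refine ⟨⁅(⟨a, ha⟩ : H), ⟨b, hb⟩⁆, ?_, by simp [commutatorElement_def]⟩
        rw [SetLike.mem_coe, MonoidHom.mem_ker, map_commutatorElement, commutatorElement_eq_one_iff_mul_comm]
        exact mul_comm _ _
      obtain ⟨z, hz, hzy⟩ := hle' hy
      rw [show y = z from Subtype.ext hzy.symm]
      exact hz
    simp only [Cfsg.indFun]
    congr 1
    refine Finset.sum_congr rfl fun g _ => ?_
    have hm : g⁻¹ * x * g ∈ derivedSeries G n := by simpa using hn.conj_mem x hx g⁻¹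
    have hmH : g⁻¹ * x * g ∈ H := hHH (hle hm)
    have h1 : g⁻¹ * 1 * g ∈ H := by simp [H.one_mem]
    rw [Cfsg.Agent.Char.extendByZero_mem H _ hmH, Cfsg.Agent.Char.extendByZero_mem H _ h1,
      hkill ⟨_, hmH⟩ (hle hm)]
    have : (⟨g⁻¹ * 1 * g, h1⟩ : H) = 1 := Subtype.ext (by simp)
    rw [this, map_one]
  -- the `d`-th derived subgroup lies in the kernel of each character of degree at most `d`
  have key : ∀ d : ℕ, ∀ χ : Cfsg.IrrCharacter G, Cfsg.Agent.Char.deg (χ : G → ℂ) ≤ d →
      ∀ x ∈ derivedSeries G d, (χ : G → ℂ) x = (χ : G → ℂ) 1 := by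
    intro d
    induction d with
    | zero => intro χ hχ; exact absurd (Cfsg.Agent.Char.deg_pos χ.2) (by omega)
    | succ d ih =>
      intro χ hχ x hx
      rcases Nat.lt_or_ge (Cfsg.Agent.Char.deg (χ : G → ℂ)) (d + 1) with hlt | hge
      · exact ih χ (by omega) x (derivedSeries_antitone G (Nat.le_succ d) hx)
      obtain ⟨H, lam, hlam⟩ := hM _ χ.2
      have hidx : H.index = d + 1 := by
        have h := congrFun hlam 1
        rw [Cfsg.Agent.Char.indFun_one, map_one, Units.val_one, mul_one,
          Cfsg.Agent.Char.char_one_eq_deg (Cfsg.Agent.Char.irr_isCharacter χ.2)] at h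
        have : Cfsg.Agent.Char.deg (χ : G → ℂ) = H.index := by exact_mod_cast h
        omega
      have hdH : derivedSeries G d ≤ H := by
        rcases Nat.eq_zero_or_pos d with rfl | hd0
        · rw [Subgroup.index_eq_one] at hidx; simp [hidx]
        intro y hy
        let π := Cfsg.indFun H (fun _ : H => (1 : ℂ))
        have hπ : Cfsg.IsCharacter G π :=
          Cfsg.Agent.Char.isCharacter_indFun H Cfsg.Agent.Char.isCharacter_one
        obtain ⟨m, hm⟩ := Cfsg.Agent.Char.exists_decomposition hπ
        let one : Cfsg.IrrCharacter G := ⟨_, Cfsg.Agent.Char.isIrrCharacter_one⟩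
        have hm1 : m one = 1 := by
          haveI : Fintype H := Fintype.ofFinite H
          have h := Cfsg.Agent.Char.decomposition_coeff m hm one
          rw [Cfsg.Agent.Char.frobenius H _ (fun a b => rfl)] at h
          have h2 : Cfsg.classInner (fun _ : H => (1 : ℂ)) (fun _ => 1) = 1 :=
            Cfsg.Agent.Char.irr_self Cfsg.Agent.Char.isIrrCharacter_one
          rw [show (fun h : H => (one : G → ℂ) (h : G)) = fun _ => (1 : ℂ) from rfl, h2] at h
          exact_mod_cast h.symm
        have hnat : d + 1 = ∑ φ : Cfsg.IrrCharacter G, m φ * Cfsg.Agent.Char.deg (φ : G → ℂ) := by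
          have h := congrFun hm 1
          simp only [π] at h
          rw [Cfsg.Agent.Char.indFun_one, mul_one, hidx, Finset.sum_apply] at h
          simp only [Pi.smul_apply, nsmul_eq_mul,
            fun φ : Cfsg.IrrCharacter G => Cfsg.Agent.Char.char_one_eq_deg (Cfsg.Agent.Char.irr_isCharacter φ.2)] at h
          exact_mod_cast h
        have hπy : π y = π 1 := by
          simp only [π] at hm ⊢
          rw [hm, Finset.sum_apply, Finset.sum_apply]
          refine Finset.sum_congr rfl fun φ _ => ?_
          by_cases h0 : m φ = 0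
          · simp [h0]
          have hd' : Cfsg.Agent.Char.deg (φ : G → ℂ) ≤ d := by
            by_cases hone : φ = one
            · subst hone
              have : Cfsg.Agent.Char.deg (one : G → ℂ) = 1 := by simp [Cfsg.Agent.Char.deg, one]
              omega
            · rw [← Finset.add_sum_erase _ _ (Finset.mem_univ one), hm1, one_mul] at hnat
              have h3 := Finset.single_le_sum (f := fun φ => m φ * Cfsg.Agent.Char.deg (φ : G → ℂ))
                (fun φ _ => Nat.zero_le _) (Finset.mem_erase.2 ⟨hone, Finset.mem_univ φ⟩)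
              have h4 : Cfsg.Agent.Char.deg (one : G → ℂ) = 1 := by simp [Cfsg.Agent.Char.deg, one]
              have h5 := Nat.le_mul_of_pos_left (Cfsg.Agent.Char.deg (φ : G → ℂ)) (Nat.pos_of_ne_zero h0)
              omega
          simp only [Pi.smul_apply, ih φ hd' y hy]
        simp only [π, Cfsg.indFun] at hπy
        have h6 := mul_left_cancel₀ (inv_ne_zero (Nat.cast_ne_zero.2 Nat.card_pos.ne')) hπy
        have h7 : ∀ z : G, Cfsg.extendByZero H (fun _ => (1 : ℂ)) z = if z ∈ H then 1 else 0 := by
          intro z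
          by_cases hz : z ∈ H
          · rw [Cfsg.Agent.Char.extendByZero_mem H _ hz, if_pos hz]
          · rw [Cfsg.Agent.Char.extendByZero_not_mem H _ hz, if_neg hz]
        simp only [h7] at h6
        by_contra hyH
        rw [Finset.sum_boole, Finset.sum_boole] at h6
        have h8 : (Finset.univ.filter (fun g : G => g⁻¹ * y * g ∈ H)).card <
            (Finset.univ.filter (fun g : G => g⁻¹ * 1 * g ∈ H)).card := by
          refine Finset.card_lt_card ⟨fun g _ => by simp [H.one_mem], fun hs => hyH ?_⟩
          have := hs (show (1 : G) ∈ _ by simp [H.one_mem])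
          simpa using this
        exact h8.ne (by exact_mod_cast h6)
      have hx' : x ∈ derivedSeries G (d + 1) := hx
      rw [hlam]
      refine hlin1 H lam (d + 1) ?_ ?_ x hx'
      · rw [Subgroup.commutator_le]
        intro a ha b hb
        rw [commutatorElement_def]
        exact H.mul_mem (H.mul_mem (H.mul_mem ha hb) (H.inv_mem ha)) (H.inv_mem hb)
      · rw [derivedSeries_succ]
        exact Subgroup.commutator_mono hdH hdH
  rw [Group.isSolvable_def]
  refine ⟨Nat.card G, (Subgroup.eq_bot_iff_forall _).2 fun x hx => ?_⟩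
  by_contra hx1
  have h := Cfsg.Agent.Char.second_orth x 1
  rw [if_neg (fun h' => hx1 (isConj_one_left.1 h'))] at h
  have hall : ∀ χ : Cfsg.IrrCharacter G, (χ : G → ℂ) x = (χ : G → ℂ) 1 := fun χ =>
    key _ χ (Nat.le_of_dvd Nat.card_pos (Cfsg.Agent.Char.deg_dvd_card χ.2)) x hx
  simp only [hall] at h
  rw [Cfsg.Agent.Char.second_orth, if_pos (IsConj.refl 1)] at h
  exact div_ne_zero (Nat.cast_ne_zero.2 Nat.card_pos.ne')
    (by exact_mod_cast Cfsg.Agent.Char.card_conjClass_ne_zero (1 : G)) h

end Cfsg.Agent.S0175
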