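import Cfsg.Statements.S0180
import Cfsg.Agent.Lib.Char.Galois
import Cfsg.Agent.Lib.Char.Ortho
import Cfsg.Agent.Lib.Char.Central

set_option autoImplicit false
open Cfsg
open scoped ComplexConjugate

namespace Cfsg.Agent.S0180

/-- Every irreducible complex character of a finite group takes only rational values if and only if g is conjugate to g ^ m for every element g and every m coprime to the group order. -/
theorem result {G : Type*} [Group G] [Finite G] : (∀ χ : Cfsg.IrrCharacter G, ∀ g : G, ∃ q : ℚ, (χ : G → ℂ) g = (q : ℂ)) ↔ ∀ m : ℕ, m.Coprime (Nat.card G) → ∀ g : G, IsConj g (g ^ m) := by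
  classical
  haveI := Fintype.ofFinite G
  have hN : Nat.card G ≠ 0 := Nat.card_pos.ne'
  constructor
  · intro hrat m hm g
    obtain ⟨φ, hφ⟩ := Cfsg.Agent.Char.exists_embedding_of_power hN hm
    by_contra hnc
    have heq : ∀ χ : Cfsg.IrrCharacter G, (χ : G → ℂ) (g ^ m) = (χ : G → ℂ) g := by
      intro χ
      obtain ⟨hm', h⟩ := Cfsg.Agent.Char.char_galois (Cfsg.Agent.Char.irr_isCharacter χ.2) g
      obtain ⟨q, hq⟩ := hrat χ g
      rw [← h φ m hφ]
      have : (⟨(χ : G → ℂ) g, hm'⟩ : Cfsg.Agent.Char.cyc (Nat.card G)) =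
          algebraMap ℚ (Cfsg.Agent.Char.cyc (Nat.card G)) q := by
        apply Subtype.ext
        show (χ : G → ℂ) g = _
        rw [hq]
        simp
      rw [this, AlgHom.commutes, hq]
      simp
    have h1 := Cfsg.Agent.Char.second_orth g (g ^ m)
    rw [if_neg hnc] at h1
    simp only [heq] at h1
    rw [Cfsg.Agent.Char.second_orth, if_pos (IsConj.refl g)] at h1
    exact div_ne_zero (Nat.cast_ne_zero.2 hN)
      (by exact_mod_cast Cfsg.Agent.Char.card_conjClass_ne_zero g) h1
  · intro hconj χ g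
    obtain ⟨hm', h⟩ := Cfsg.Agent.Char.char_galois (Cfsg.Agent.Char.irr_isCharacter χ.2) g
    refine Cfsg.Agent.Char.exists_rat_of_fixed hN hm' fun φ => ?_
    obtain ⟨k, hk, hφ⟩ := Cfsg.Agent.Char.exists_power_of_embedding hN φ
    rw [h φ k hφ]
    obtain ⟨c, hc⟩ := isConj_iff.1 (hconj k hk g)
    rw [← hc, Cfsg.Agent.Char.isClassFunction_character (Cfsg.Agent.Char.irr_isCharacter χ.2)]

end Cfsg.Agent.S0180
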