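import Cfsg.Statements.S0181
import Cfsg.Agent.Lib.Char.Inflate

set_option autoImplicit false
open Cfsg
open scoped ComplexConjugate

namespace Cfsg.Agent.S0181

/-- Let H be a normal subgroup of a finite group G and ρ an irreducible complex representation whose kernel does not contain H. If g commutes with no non-identity element of H, then the character of ρ vanishes at g. -/
theorem result {G : Type*} [Group G] [Finite G] {V : Type*} [AddCommGroup V] [Module ℂ V] [FiniteDimensional ℂ V] (ρ : Representation ℂ G V) [ρ.IsIrreducible] (H : Subgroup G) [H.Normal] (hker : ∃ h ∈ H, ρ h ≠ LinearMap.id) (g : G) (hg : ∀ h ∈ H, h * g = g * h → h = 1) : ρ.character g = 0 := by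
  classical
  haveI := Fintype.ofFinite G
  haveI : Fintype (G ⧸ H) := Fintype.ofFinite _
  set χ : Cfsg.IrrCharacter G := ⟨ρ.character, Cfsg.Agent.Char.isIrrCharacter_character ρ inferInstance⟩
    with hχ
  set K := Subgroup.centralizer ({g} : Set G) with hK
  set Kb := Subgroup.centralizer ({(g : G ⧸ H)} : Set (G ⧸ H)) with hKb
  -- conjugates of `g` by elements of `H` fill the coset
  have hsurj : ∀ x : G, (x : G ⧸ H) ∈ Kb → ∃ c ∈ K, ∃ h ∈ H, x = h * c := by
    intro x hx
    let f : H → H := fun h => ⟨(h : G) * g * (h : G)⁻¹ * g⁻¹, by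
      rw [show (h : G) * g * (h : G)⁻¹ * g⁻¹ = (h : G) * (g * (h : G)⁻¹ * g⁻¹) by group]
      exact H.mul_mem h.2 (Subgroup.Normal.conj_mem ‹H.Normal› _ (H.inv_mem h.2) g)⟩
    have hf : Function.Injective f := by
      intro a b e
      have e' : (a : G) * g * (a : G)⁻¹ = (b : G) * g * (b : G)⁻¹ :=
        mul_right_cancel (congrArg Subtype.val e : (a : G) * g * (a : G)⁻¹ * g⁻¹ = _)
      have h1 := hg ((b : G)⁻¹ * a) (H.mul_mem (H.inv_mem b.2) a.2) (by
        calc (b : G)⁻¹ * a * g = (b : G)⁻¹ * ((a : G) * g * (a : G)⁻¹) * a := by group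
          _ = (b : G)⁻¹ * ((b : G) * g * (b : G)⁻¹) * a := by rw [e']
          _ = _ := by group)
      exact Subtype.ext (inv_mul_eq_one.1 h1).symm
    have hm : x * g * x⁻¹ * g⁻¹ ∈ H := by
      rw [hKb, Subgroup.mem_centralizer_singleton_iff] at hx
      rw [← QuotientGroup.eq_one_iff, QuotientGroup.mk_mul, QuotientGroup.mk_mul, QuotientGroup.mk_mul,
        hx, QuotientGroup.mk_inv, QuotientGroup.mk_inv]
      group
    obtain ⟨h, hh⟩ := (Finite.injective_iff_surjective.1 hf) ⟨_, hm⟩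
    have e : (h : G) * g * (h : G)⁻¹ = x * g * x⁻¹ := mul_right_cancel (congrArg Subtype.val hh :
      (h : G) * g * (h : G)⁻¹ * g⁻¹ = _)
    refine ⟨(h : G)⁻¹ * x, ?_, h, h.2, by group⟩
    rw [hK, Subgroup.mem_centralizer_singleton_iff]
    calc (h : G)⁻¹ * x * g = (h : G)⁻¹ * (x * g * x⁻¹) * x := by group
      _ = _ := by rw [← e]; group
  have hle : Nat.card Kb ≤ Nat.card K := by
    refine Nat.card_le_card_of_surjective (fun c : K => (⟨((c : G) : G ⧸ H), ?_⟩ : Kb)) ?_
    · rw [hKb, Subgroup.mem_centralizer_singleton_iff, ← QuotientGroup.mk_mul, ← QuotientGroup.mk_mul,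
        Subgroup.mem_centralizer_singleton_iff.1 c.2]
    · rintro ⟨q, hq⟩
      obtain ⟨x, rfl⟩ := QuotientGroup.mk_surjective q
      obtain ⟨c, hc, h, hh, rfl⟩ := hsurj x hq
      refine ⟨⟨c, hc⟩, Subtype.ext ?_⟩
      show (c : G ⧸ H) = ((h * c : G) : G ⧸ H)
      rw [QuotientGroup.mk_mul, (QuotientGroup.eq_one_iff h).2 hh, one_mul]
  have orth : ∀ (X : Type _) [Group X] [Fintype X] (y : X),
      ∑ φ : Cfsg.IrrCharacter X, Complex.normSq ((φ : X → ℂ) y) =
        (Nat.card (Subgroup.centralizer ({y} : Set X)) : ℝ) := by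
    intro X _ _ y
    have h := Cfsg.Agent.Char.second_orth y y
    rw [if_pos (IsConj.refl y), ← Cfsg.Agent.Char.card_conjClass_mul_centralizer y, Nat.cast_mul,
      mul_div_cancel_left₀ _ (by exact_mod_cast Cfsg.Agent.Char.card_conjClass_ne_zero y)] at h
    simp only [Complex.mul_conj] at h
    exact_mod_cast h
  have h1 := orth G g
  have h2 := orth (G ⧸ H) (g : G ⧸ H)
  rw [← Finset.sum_filter_add_sum_filter_not Finset.univ
    (fun φ : Cfsg.IrrCharacter G => ∀ n ∈ H, (φ : G → ℂ) n = (φ : G → ℂ) 1)] at h1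
  have h3 : ∑ φ ∈ Finset.univ.filter (fun φ : Cfsg.IrrCharacter G => ∀ n ∈ H, (φ : G → ℂ) n = (φ : G → ℂ) 1),
      Complex.normSq ((φ : G → ℂ) g) = (Nat.card Kb : ℝ) := by
    rw [← h2, Finset.sum_subtype (p := fun φ : Cfsg.IrrCharacter G =>
      ∀ n ∈ H, (φ : G → ℂ) n = (φ : G → ℂ) 1) _ (fun φ => by simp),
      ← (Cfsg.Agent.Char.inflateEquiv H).sum_comp]
    rfl
  rw [h3] at h1
  have hle' : (Nat.card Kb : ℝ) ≤ (Nat.card K : ℝ) := Nat.cast_le.2 hle
  have hge : (Nat.card K : ℝ) ≤ Nat.card Kb := by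
    have : Nat.card K ≤ Nat.card Kb := by
      refine Nat.card_le_card_of_injective (fun c : K => (⟨((c : G) : G ⧸ H), ?_⟩ : Kb)) ?_
      · rw [hKb, Subgroup.mem_centralizer_singleton_iff, ← QuotientGroup.mk_mul, ← QuotientGroup.mk_mul,
          Subgroup.mem_centralizer_singleton_iff.1 c.2]
      · intro a b e
        have e' := QuotientGroup.eq.1 (congrArg Subtype.val e)
        have hc := K.mul_mem (K.inv_mem a.2) b.2
        exact Subtype.ext (inv_mul_eq_one.1 (hg _ e' (Subgroup.mem_centralizer_singleton_iff.1 hc)))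
    exact Nat.cast_le.2 this
  have hzero : ∑ φ ∈ Finset.univ.filter (fun φ : Cfsg.IrrCharacter G => ¬(∀ n ∈ H, (φ : G → ℂ) n = (φ : G → ℂ) 1)),
      Complex.normSq ((φ : G → ℂ) g) = 0 := by linarith
  have := (Finset.sum_eq_zero_iff_of_nonneg (fun φ _ => Complex.normSq_nonneg _)).1 hzero χ (by
    simp only [Finset.mem_filter, Finset.mem_univ, true_and]
    intro h
    obtain ⟨n, hn, hne⟩ := hker
    apply hne
    rw [← Cfsg.Agent.Char.eq_id_iff]
    have := h n hn
    rw [hχ] at this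
    simp only [Representation.char_one] at this
    exact this)
  exact Complex.normSq_eq_zero.1 this

end Cfsg.Agent.S0181
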