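import Cfsg.Statements.S0184
import Cfsg.Agent.Lib.Char.Degree
import Cfsg.Agent.Lib.Char.PermLemma

set_option autoImplicit false
open Cfsg
open scoped ComplexConjugate

namespace Cfsg.Agent.S0184

/-- A finite p-group admits a faithful irreducible complex representation if and only if its centre is cyclic. -/
theorem result {G : Type*} [Group G] [Finite G] (p : ℕ) [Fact p.Prime] (hG : IsPGroup p G) : (∃ (n : ℕ) (ρ : Representation ℂ G (Fin n → ℂ)), ρ.IsIrreducible ∧ Function.Injective ρ) ↔ IsCyclic (Subgroup.center G) := by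
  classical
  haveI := Fintype.ofFinite G
  constructor
  · rintro ⟨n, ρ, hρ, hinj⟩
    have hχ : Cfsg.IsIrrCharacter G ρ.character := ⟨n, ρ, hρ, rfl⟩
    have hne := Cfsg.Agent.Char.irr_one_ne_zero hχ
    let f : Subgroup.center G →* ℂ :=
      { toFun := fun z => ρ.character z / ρ.character 1
        map_one' := by simp only [OneMemClass.coe_one]; exact div_self hne
        map_mul' := fun a b => by
          simp only [Subgroup.coe_mul]
          rw [Cfsg.Agent.Char.char_central_mul hχ a.2]
          field_simp }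
    refine isCyclic_of_subgroup_isDomain f ((injective_iff_map_eq_one f).2 fun z hz => ?_)
    have h1 : ρ.character z = ρ.character 1 := by
      have : ρ.character z / ρ.character 1 = 1 := hz
      exact (div_eq_one_iff_eq hne).1 this
    rw [Representation.char_one, Cfsg.Agent.Char.eq_id_iff] at h1
    exact Subtype.ext (hinj (h1.trans (map_one ρ).symm))
  · intro hcyc
    by_cases hG1 : Nontrivial G
    swap
    · rw [not_nontrivial_iff_subsingleton] at hG1
      obtain ⟨n, ρ, hρ, -⟩ := Cfsg.Agent.Char.isIrrCharacter_one (G := G)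
      exact ⟨n, ρ, hρ, fun a b _ => Subsingleton.elim a b⟩
    haveI : Nontrivial (Subgroup.center G) := hG.center_nontrivial
    obtain ⟨z, hz⟩ := exists_prime_orderOf_dvd_card' (G := Subgroup.center G) p (by
      obtain ⟨k, hk⟩ := IsPGroup.iff_card.1 (hG.to_subgroup (Subgroup.center G))
      rcases k with _ | k
      · exact absurd (hk.trans (pow_zero p)) Finite.one_lt_card.ne'
      · exact hk ▸ dvd_pow_self p (by omega))
    -- a character not trivial at `z`
    obtain ⟨χ, hχz⟩ : ∃ χ : Cfsg.IrrCharacter G, (χ : G → ℂ) (z : G) ≠ (χ : G → ℂ) 1 := by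
      by_contra hcon
      simp only [not_exists, not_not] at hcon
      have h := Cfsg.Agent.Char.second_orth (z : G) 1
      simp only [hcon] at h
      rw [Cfsg.Agent.Char.second_orth 1 1, if_pos (IsConj.refl 1), if_neg (fun h' => by
        have : (z : G) = 1 := isConj_one_left.1 h'
        rw [← Subgroup.orderOf_coe, this, orderOf_one] at hz
        exact (Fact.out : p.Prime).ne_one hz.symm)] at h
      exact div_ne_zero (Nat.cast_ne_zero.2 Nat.card_pos.ne')
        (by exact_mod_cast Cfsg.Agent.Char.card_conjClass_ne_zero (1 : G)) h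
    obtain ⟨n, ρ, hρ, hρχ⟩ := χ.2
    refine ⟨n, ρ, hρ, ?_⟩
    rw [injective_iff_map_eq_one]
    intro g hg
    by_contra hg1
    -- the kernel meets the centre, hence contains `z`
    set K : Subgroup G := MonoidHom.ker ρ with hK
    have hKn : K.Normal := MonoidHom.normal_ker ρ
    have hact : IsPGroup p (ConjAct G) := hG.of_equiv ConjAct.toConjAct
    obtain ⟨k, hkc, hk1⟩ : ∃ k : K, (k : G) ∈ Subgroup.center G ∧ k ≠ 1 := by
      have hpd : p ∣ Nat.card K := by
        obtain ⟨j, hj⟩ := IsPGroup.iff_card.1 (hG.to_subgroup K)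
        rcases j with _ | j
        · have := Subgroup.card_eq_one.1 (hj.trans (pow_zero p))
          exact absurd (by rw [← Subgroup.mem_bot, ← this]; exact hg) hg1
        · exact hj ▸ dvd_pow_self p (by omega)
      obtain ⟨k, hk, hk1⟩ := hact.exists_fixed_point_of_prime_dvd_card_of_fixed_point
        (α := K) hpd (a := 1) (fun u => Subtype.ext (by simp [ConjAct.Subgroup.val_conj_smul, ConjAct.smul_def]))
      refine ⟨k, Subgroup.mem_center_iff.2 fun u => ?_, Ne.symm hk1⟩
      have := congrArg Subtype.val (hk (ConjAct.toConjAct u))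
      rw [ConjAct.Subgroup.val_conj_smul, ConjAct.smul_def, ConjAct.ofConjAct_toConjAct] at this
      exact mul_inv_eq_iff_eq_mul.1 this
    let k' : Subgroup.center G := ⟨(k : G), hkc⟩
    have hk' : orderOf k' ≠ 1 := by
      rw [ne_eq, orderOf_eq_one_iff]
      exact fun h => hk1 (Subtype.ext (congrArg Subtype.val h :))
    obtain ⟨j, hj⟩ := IsPGroup.iff_orderOf.1 (hG.to_subgroup (Subgroup.center G)) k'
    obtain ⟨i, rfl⟩ : ∃ i, j = i + 1 :=
      Nat.exists_eq_succ_of_ne_zero (fun h => hk' (by rw [hj, h, pow_zero]))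
    have hw : orderOf (k' ^ (p ^ i)) = p := by
      rw [orderOf_pow, hj, Nat.gcd_eq_right (pow_dvd_pow p (by omega)), pow_succ',
        Nat.mul_div_cancel _ (pow_pos (Fact.out : p.Prime).pos _)]
    haveI := Fintype.ofFinite (Subgroup.center G)
    obtain ⟨m, hm⟩ : z ∈ Subgroup.zpowers (k' ^ (p ^ i)) := by
      let S := Finset.univ.filter (fun w : Subgroup.center G => w ^ p = 1)
      let T := Finset.univ.filter (fun w : Subgroup.center G => w ∈ Subgroup.zpowers (k' ^ (p ^ i)))
      have hT : T.card = p := by
        rw [← hw, ← Nat.card_zpowers, Nat.card_eq_fintype_card, Fintype.card_subtype]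
      have hTS : T ⊆ S := fun w hw' => by
        simp only [T, S, Finset.mem_filter, Finset.mem_univ, true_and] at hw' ⊢
        obtain ⟨n, rfl⟩ := Subgroup.mem_zpowers_iff.1 hw'
        rw [← zpow_natCast, zpow_comm, zpow_natCast, orderOf_dvd_iff_pow_eq_one.1 hw.dvd, one_zpow]
      have hST : S.card ≤ T.card := by
        rw [hT]; exact IsCyclic.card_pow_eq_one_le (Fact.out : p.Prime).pos
      have hzS : z ∈ S := by simp [S, ← hz, pow_orderOf_eq_one]
      rw [← Finset.eq_of_subset_of_card_le hTS hST] at hzS
      simpa [T] using hzS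
    apply hχz
    have hzK : (z : G) ∈ K := by
      rw [← hm]
      simp only [SubgroupClass.coe_zpow, SubgroupClass.coe_pow]
      exact K.zpow_mem (K.pow_mem k.2 _) m
    rw [← hρχ, Representation.char_one]
    exact (Cfsg.Agent.Char.eq_id_iff ρ _).2 (MonoidHom.mem_ker.1 hzK)

end Cfsg.Agent.S0184
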