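import Cfsg.Statements.S0185
import Cfsg.Agent.Lib.Char.DegreeDvd
import Cfsg.Agent.Lib.Char.Burnside
import Cfsg.Agent.Lib.Char.Linear

set_option autoImplicit false
open Cfsg
open scoped ComplexConjugate

namespace Cfsg.Agent.S0185

/-- If a finite group has a faithful complex representation of degree less than the smallest prime dividing its order, the group is abelian. -/
theorem result {G : Type*} [Group G] [Finite G] {V : Type*} [AddCommGroup V] [Module ℂ V] [FiniteDimensional ℂ V] (ρ : Representation ℂ G V) (hfaithful : Function.Injective ρ) (hdeg : ∀ p : ℕ, p.Prime → p ∣ Nat.card G → Module.finrank ℂ V < p) (a b : G) : a * b = b * a := by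
  classical
  haveI := Fintype.ofFinite G
  obtain ⟨m, hm⟩ := Cfsg.Agent.Char.exists_decomposition (Cfsg.Agent.Char.isCharacter_character ρ)
  have hlin : ∀ ψ : Cfsg.IrrCharacter G, m ψ ≠ 0 → (ψ : G → ℂ) 1 = 1 := by
    intro ψ hψ
    rw [Cfsg.Agent.Char.char_one_eq_deg (Cfsg.Agent.Char.irr_isCharacter ψ.2)]
    by_contra h1
    have hd1 : Cfsg.Agent.Char.deg (ψ : G → ℂ) ≠ 1 := fun h => h1 (by rw [h]; simp)
    obtain ⟨q, hq, hqd⟩ := Nat.exists_prime_and_dvd hd1
    have hlt := hdeg q hq (hqd.trans (Cfsg.Agent.Char.deg_dvd_card ψ.2))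
    have hle : Cfsg.Agent.Char.deg (ψ : G → ℂ) ≤ Module.finrank ℂ V := by
      have hne : Cfsg.classInner ρ.character (ψ : G → ℂ) ≠ 0 := by
        rw [Cfsg.Agent.Char.decomposition_coeff m hm ψ]
        exact_mod_cast hψ
      have h := Cfsg.Agent.Char.degree_le_of_classInner_ne_zero
        (Cfsg.Agent.Char.isCharacter_character ρ) ψ hne
      simp only [Cfsg.Agent.Char.char_one_eq_deg (Cfsg.Agent.Char.irr_isCharacter ψ.2),
        Representation.char_one, Complex.natCast_re] at h
      exact_mod_cast h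
    have := Nat.le_of_dvd (Cfsg.Agent.Char.deg_pos ψ.2) hqd
    omega
  have hc : ρ.character (a * b * a⁻¹ * b⁻¹) = ρ.character 1 := by
    rw [hm, Finset.sum_apply, Finset.sum_apply]
    refine Finset.sum_congr rfl fun ψ _ => ?_
    by_cases h0 : m ψ = 0
    · simp [h0]
    · obtain ⟨l, hl⟩ := Cfsg.Agent.Char.exists_hom_of_degree_one
        (Cfsg.Agent.Char.irr_isCharacter ψ.2) (hlin ψ h0)
      have e : l (a * b * a⁻¹ * b⁻¹) = 1 := by
        rw [map_mul, map_mul, map_mul, map_inv, map_inv, mul_right_comm (l a), mul_inv_cancel,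
          one_mul, mul_inv_cancel]
      simp only [Pi.smul_apply, hl, e, map_one]
  rw [Representation.char_one, Cfsg.Agent.Char.eq_id_iff] at hc
  have h2 : a * b * a⁻¹ * b⁻¹ = 1 := hfaithful (hc.trans (map_one ρ).symm)
  calc a * b = a * b * a⁻¹ * b⁻¹ * (b * a) := by group
    _ = _ := by rw [h2, one_mul]

end Cfsg.Agent.S0185
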