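import Cfsg.Statements.S0188
import Cfsg.Agent.Lib.Char.Inflate

set_option autoImplicit false
open Cfsg
open scoped ComplexConjugate

namespace Cfsg.Agent.S0188

/-- The irreducible complex characters of G × H are precisely the functions (g, h) ↦ φ g * ψ h with φ, ψ irreducible characters of G and H. -/
theorem result {G : Type*} [Group G] [Finite G] {H : Type*} [Group H] [Finite H] (θ : G × H → ℂ) : Cfsg.IsIrrCharacter (G × H) θ ↔ ∃ (φ : G → ℂ) (ψ : H → ℂ), Cfsg.IsIrrCharacter G φ ∧ Cfsg.IsIrrCharacter H ψ ∧ θ = fun x => φ x.1 * ψ x.2 := by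
  classical
  haveI := Fintype.ofFinite G
  haveI := Fintype.ofFinite H
  have hinner : ∀ (a c : G → ℂ) (b d : H → ℂ),
      Cfsg.classInner (fun x : G × H => a x.1 * b x.2) (fun x : G × H => c x.1 * d x.2) =
        Cfsg.classInner a c * Cfsg.classInner b d := by
    intro a c b d
    simp only [Cfsg.classInner, Nat.card_prod, Nat.cast_mul, mul_inv]
    rw [mul_mul_mul_comm, Finset.sum_mul_sum, Fintype.sum_prod_type]
    congr 1
    refine Finset.sum_congr rfl fun x _ => Finset.sum_congr rfl fun y _ => ?_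
    rw [map_mul]; ring
  have hirr : ∀ (φ : Cfsg.IrrCharacter G) (ψ : Cfsg.IrrCharacter H),
      Cfsg.IsIrrCharacter (G × H) (fun x => (φ : G → ℂ) x.1 * (ψ : H → ℂ) x.2) := by
    intro φ ψ
    refine Cfsg.Agent.Char.isIrr_of_norm_one ?_ ?_
    · exact Cfsg.Agent.Char.isCharacter_mul
        (Cfsg.Agent.Char.isCharacter_comp (MonoidHom.fst G H) (Cfsg.Agent.Char.irr_isCharacter φ.2))
        (Cfsg.Agent.Char.isCharacter_comp (MonoidHom.snd G H) (Cfsg.Agent.Char.irr_isCharacter ψ.2))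
    · rw [hinner, Cfsg.Agent.Char.irr_self φ.2, Cfsg.Agent.Char.irr_self ψ.2, one_mul]
  constructor
  · intro hθ
    let Φ : Cfsg.IrrCharacter G × Cfsg.IrrCharacter H → Cfsg.IrrCharacter (G × H) :=
      fun p => ⟨_, hirr p.1 p.2⟩
    have hinj : Function.Injective Φ := by
      rintro ⟨φ, ψ⟩ ⟨φ', ψ'⟩ e
      have h := hinner (φ : G → ℂ) (φ' : G → ℂ) (ψ : H → ℂ) (ψ' : H → ℂ)
      have e' : (fun x : G × H => (φ : G → ℂ) x.1 * (ψ : H → ℂ) x.2) =
          fun x : G × H => (φ' : G → ℂ) x.1 * (ψ' : H → ℂ) x.2 := congrArg Subtype.val e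
      rw [← e', Cfsg.Agent.Char.irr_self (hirr φ ψ), Cfsg.Agent.Char.irrC_orth,
        Cfsg.Agent.Char.irrC_orth] at h
      by_cases h1 : φ = φ'
      · by_cases h2 : ψ = ψ'
        · rw [h1, h2]
        · simp [h2] at h
      · simp [h1] at h
    have hsum : ∑ χ ∈ Finset.univ.image Φ, (χ : G × H → ℂ) 1 ^ 2 =
        ∑ χ : Cfsg.IrrCharacter (G × H), (χ : G × H → ℂ) 1 ^ 2 := by
      rw [Finset.sum_image fun x _ y _ h => hinj h, Cfsg.Agent.Char.sum_sq_deg, Fintype.sum_prod_type,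
        Nat.card_prod, Nat.cast_mul, ← Cfsg.Agent.Char.sum_sq_deg (G := G),
        ← Cfsg.Agent.Char.sum_sq_deg (G := H), Finset.sum_mul_sum]
      refine Finset.sum_congr rfl fun x _ => Finset.sum_congr rfl fun y _ => ?_
      show ((x : G → ℂ) 1 * (y : H → ℂ) 1) ^ 2 = _
      rw [mul_pow]
    rw [← Finset.sum_sdiff (Finset.subset_univ (Finset.univ.image Φ)), right_eq_add] at hsum
    have hnat : ∑ χ ∈ Finset.univ \ Finset.univ.image Φ,
        Cfsg.Agent.Char.deg (χ : G × H → ℂ) ^ 2 = 0 := by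
      have : ((∑ χ ∈ Finset.univ \ Finset.univ.image Φ,
          Cfsg.Agent.Char.deg (χ : G × H → ℂ) ^ 2 : ℕ) : ℂ) = 0 := by
        rw [← hsum]
        push_cast
        exact Finset.sum_congr rfl fun χ _ => by
          rw [Cfsg.Agent.Char.char_one_eq_deg (Cfsg.Agent.Char.irr_isCharacter χ.2)]
      exact_mod_cast this
    have hmem : (⟨θ, hθ⟩ : Cfsg.IrrCharacter (G × H)) ∈ Finset.univ.image Φ := by
      by_contra hno
      have := (Finset.sum_eq_zero_iff.1 hnat) ⟨θ, hθ⟩ (Finset.mem_sdiff.2 ⟨Finset.mem_univ _, hno⟩)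
      exact (pow_ne_zero 2 (Cfsg.Agent.Char.deg_pos hθ).ne') this
    obtain ⟨⟨φ, ψ⟩, -, e⟩ := Finset.mem_image.1 hmem
    exact ⟨φ, ψ, φ.2, ψ.2, (congrArg Subtype.val e).symm⟩
  · rintro ⟨φ, ψ, hφ, hψ, rfl⟩
    exact hirr ⟨φ, hφ⟩ ⟨ψ, hψ⟩

end Cfsg.Agent.S0188
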