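import Cfsg.Statements.S0189
import Cfsg.Agent.Lib.Char.Ortho

set_option autoImplicit false
open Cfsg
open scoped ComplexConjugate

namespace Cfsg.Agent.S0189

/-- If a complex character of a finite group vanishes at every non-identity element of a Sylow p-subgroup P, then |P| divides its degree. -/
theorem result {G : Type*} [Group G] [Finite G] (p : ℕ) [Fact p.Prime] (P : Sylow p G) (χ : G → ℂ) (hχ : Cfsg.IsCharacter G χ) (hvan : ∀ g : G, g ∈ P → g ≠ 1 → χ g = 0) : ∃ k : ℕ, χ 1 = (Nat.card P : ℂ) * k := by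
  classical
  haveI : Fintype G := Fintype.ofFinite G
  haveI : Fintype (P : Subgroup G) := Fintype.ofFinite _
  obtain ⟨n, hn⟩ := Cfsg.Agent.Char.classInner_natCast
    (Cfsg.Agent.Char.isCharacter_comp (P : Subgroup G).subtype hχ)
    (Cfsg.Agent.Char.isCharacter_one (G := (P : Subgroup G)))
  refine ⟨n, ?_⟩
  rw [← hn]
  simp only [Cfsg.classInner, map_one, mul_one, Function.comp]
  rw [Finset.sum_eq_single (1 : (P : Subgroup G))]
  · rw [← mul_assoc, mul_inv_cancel₀ (Nat.cast_ne_zero.2 Nat.card_pos.ne'), one_mul]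
    simp
  · intro b _ hb
    exact hvan b b.2 (by simpa using hb)
  · simp

end Cfsg.Agent.S0189
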