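import Cfsg.Statements.S0191
import Cfsg.Agent.Lib.Char.Galois
import Cfsg.Agent.Lib.Char.Ortho
import Cfsg.Agent.Lib.Char.Central

set_option autoImplicit false
open Cfsg
open scoped ComplexConjugate

namespace Cfsg.Agent.S0191

/-- An irreducible complex representation of a finite group of degree greater than 1 has a character that vanishes somewhere. -/
theorem result {G : Type*} [Group G] [Finite G] {V : Type*} [AddCommGroup V] [Module ℂ V] [FiniteDimensional ℂ V] (ρ : Representation ℂ G V) [ρ.IsIrreducible] (hdeg : 1 < Module.finrank ℂ V) : ∃ g : G, ρ.character g = 0 := by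
  classical
  haveI := Fintype.ofFinite G
  by_contra hcon
  simp only [not_exists] at hcon
  have hχ : Cfsg.IsIrrCharacter G ρ.character :=
    Cfsg.Agent.Char.isIrrCharacter_character ρ inferInstance
  have hc := Cfsg.Agent.Char.irr_isCharacter hχ
  have hN : Nat.card G ≠ 0 := Nat.card_pos.ne'
  set Q := ∏ g ∈ Finset.univ.erase (1 : G), ρ.character g with hQ
  have hint : IsIntegral ℤ Q := IsIntegral.prod _ fun g _ => Cfsg.Agent.Char.char_isIntegral hc g
  have hmem : Q ∈ Cfsg.Agent.Char.cyc (Nat.card G) :=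
    prod_mem fun g _ => (Cfsg.Agent.Char.char_galois hc g).choose
  obtain ⟨q, hq⟩ := Cfsg.Agent.Char.exists_rat_of_fixed hN hmem fun φ => by
    obtain ⟨k, hk, hφ⟩ := Cfsg.Agent.Char.exists_power_of_embedding hN φ
    have e : (⟨Q, hmem⟩ : Cfsg.Agent.Char.cyc (Nat.card G)) = ∏ g ∈ Finset.univ.erase (1 : G),
        (⟨ρ.character g, (Cfsg.Agent.Char.char_galois hc g).choose⟩ : Cfsg.Agent.Char.cyc (Nat.card G)) := by
      apply Subtype.ext
      push_cast
      exact hQ
    rw [e, map_prod, Finset.prod_congr rfl (fun g _ =>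
      (Cfsg.Agent.Char.char_galois hc g).choose_spec φ k hφ)]
    have hb := Cfsg.Agent.Char.powCoprime_bijective (G := G) hk
    refine Finset.prod_nbij (fun g => g ^ k) (fun g hg => ?_) (fun a _ b _ h => hb.1 h) (fun y hy => ?_)
      (fun g _ => rfl)
    · rw [Finset.mem_erase]
      refine ⟨fun h => (Finset.mem_erase.1 hg).1 (hb.1 ?_), Finset.mem_univ _⟩
      simpa using h
    · obtain ⟨g, rfl⟩ := hb.2 y
      refine ⟨g, Finset.mem_erase.2 ⟨fun h => ?_, Finset.mem_univ _⟩, rfl⟩
      rw [h, Finset.mem_coe, Finset.mem_erase] at hy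
      exact hy.1 (one_pow k)
  obtain ⟨z, hz⟩ := Cfsg.Agent.Char.isIntegral_rat_cast_imp (q := q) (hq ▸ hint)
  -- the product has absolute value less than one
  set w : G → ℝ := fun g => Complex.normSq (ρ.character g)
  have hsum : ∑ g : G, w g = (Nat.card G : ℝ) := by
    have h := Cfsg.Agent.Char.irr_self hχ
    rw [Cfsg.classInner, inv_mul_eq_one₀ (Nat.cast_ne_zero.2 hN)] at h
    simp only [Complex.mul_conj] at h
    exact_mod_cast h.symm
  have hw1 : 1 < w 1 := by
    simp only [w, Representation.char_one, Complex.normSq_natCast]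
    have h2 : (2 : ℝ) ≤ (Module.finrank ℂ V : ℝ) := by exact_mod_cast hdeg
    nlinarith
  rw [← Finset.add_sum_erase _ _ (Finset.mem_univ (1 : G))] at hsum
  set S := Finset.univ.erase (1 : G) with hS
  have hScard : (S.card : ℝ) + 1 = (Nat.card G : ℝ) := by
    rw [Nat.card_eq_fintype_card, ← Finset.card_univ, hS, ← Finset.card_erase_add_one (Finset.mem_univ (1 : G))]
    push_cast; ring
  have hlt : ∑ g ∈ S, w g < S.card := by linarith
  have hpos : ∀ g, 0 < w g := fun g => Complex.normSq_pos.2 (hcon g)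
  have hlog : Real.log (∏ g ∈ S, w g) < 0 := by
    rw [Real.log_prod (fun g _ => (hpos g).ne')]
    calc ∑ g ∈ S, Real.log (w g) ≤ ∑ g ∈ S, (w g - 1) :=
          Finset.sum_le_sum fun g _ => Real.log_le_sub_one_of_pos (hpos g)
      _ < 0 := by rw [Finset.sum_sub_distrib, Finset.sum_const, nsmul_one]; linarith
  have hprod : ∏ g ∈ S, w g < 1 := by
    by_contra h
    exact absurd hlog (not_lt.2 (Real.log_nonneg (not_lt.1 h)))
  have hz0 : z ≠ 0 := by
    intro h
    rw [h] at hz
    have : Q = 0 := by rw [hq, ← hz]; simp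
    obtain ⟨g, -, hg⟩ := Finset.prod_eq_zero_iff.1 this
    exact hcon g hg
  have hwQ : ∏ g ∈ S, w g = (z : ℝ) ^ 2 := by
    simp only [w, ← map_prod, ← hQ, hq, ← hz]
    push_cast
    rw [Complex.normSq_intCast]; ring
  rw [hwQ] at hprod
  have h2 : (1 : ℝ) ≤ (z : ℝ) ^ 2 := by
    have h3 : (1 : ℤ) ≤ z ^ 2 := by
      have := sq_pos_of_ne_zero hz0
      omega
    exact_mod_cast h3
  linarith

end Cfsg.Agent.S0191
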