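import Cfsg.Statements.S0192
import Cfsg.Agent.Lib.Char.Ortho
import Cfsg.Agent.Lib.Char.Basic

set_option autoImplicit false
open Cfsg
open scoped ComplexConjugate

namespace Cfsg.Agent.S0192

/-- Brauer's generation criterion. Let G be a finite simple group, H₁ and H₂ subgroups, and χ a non-principal irreducible character. If the multiplicity of the principal character in χ restricted to H₁ ⊓ H₂ is less than the sum of the corresponding multiplicities for H₁ and H₂, then H₁ and H₂ do not generate G. -/
theorem result {G : Type*} [Group G] [Fintype G] [IsSimpleGroup G] (H₁ H₂ : Subgroup G) [Fintype H₁] [Fintype H₂] [Fintype ↥(H₁ ⊓ H₂)] (χ : G → ℂ) (hχ : Cfsg.IsIrrCharacter G χ) (hχ1 : χ ≠ fun _ => 1) (hlt : (Cfsg.classInner (fun x : ↥(H₁ ⊓ H₂) => χ x) (fun _ => 1)).re < (Cfsg.classInner (fun x : H₁ => χ x) (fun _ => 1)).re + (Cfsg.classInner (fun x : H₂ => χ x) (fun _ => 1)).re) : H₁ ⊔ H₂ ≠ ⊤ := by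
  classical
  obtain ⟨n, ρ, hρ, rfl⟩ := hχ
  intro htop
  have key : ∀ (H : Subgroup G) [Fintype H],
      (Cfsg.classInner (fun x : H => ρ.character x) (fun _ => 1)).re =
        (Module.finrank ℂ (Representation.invariants (ρ.comp H.subtype)) : ℝ) := by
    intro H _
    haveI : Invertible (Fintype.card H : ℂ) :=
      invertibleOfNonzero (Nat.cast_ne_zero.2 Fintype.card_pos.ne')
    have e := (Representation.isProj_averageMap (ρ.comp H.subtype)).trace
    rw [← Complex.natCast_re, ← e]
    congr 1
    simp [Cfsg.classInner, Representation.averageMap, GroupAlgebra.average, Representation.character,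
      _root_.map_sum, Nat.card_eq_fintype_card, invOf_eq_inv]
  rw [key H₁, key H₂, key (H₁ ⊓ H₂)] at hlt
  set U₁ := Representation.invariants (ρ.comp H₁.subtype) with hU₁
  set U₂ := Representation.invariants (ρ.comp H₂.subtype) with hU₂
  set U := Representation.invariants (ρ.comp (H₁ ⊓ H₂).subtype) with hU
  have hle : U₁ ⊔ U₂ ≤ U := by
    refine sup_le (fun v hv k => ?_) (fun v hv k => ?_)
    · exact hv ⟨k, k.2.1⟩
    · exact hv ⟨k, k.2.2⟩
  have hbot : U₁ ⊓ U₂ = ⊥ := by
    rw [eq_bot_iff]
    rintro v ⟨h1, h2⟩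
    by_contra hv
    -- `v` is fixed by all of `G`
    let T : Subgroup G :=
      { carrier := {g | ρ g v = v}
        one_mem' := by simp
        mul_mem' := fun {x y} hx hy => by
          show ρ (x * y) v = v
          rw [map_mul, Module.End.mul_apply, (hy : ρ y v = v), (hx : ρ x v = v)]
        inv_mem' := fun {x} hx => by
          show ρ x⁻¹ v = v
          conv_lhs => rw [← (hx : ρ x v = v)]
          rw [← Module.End.mul_apply, ← map_mul, inv_mul_cancel, map_one, Module.End.one_apply] }
    have hT : T = ⊤ := top_le_iff.1 (htop ▸ sup_le (fun g hg => h1 ⟨g, hg⟩) (fun g hg => h2 ⟨g, hg⟩))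
    have hfix : ∀ g : G, ρ g v = v := fun g => (hT ▸ Subgroup.mem_top g : g ∈ T)
    let S : Subrepresentation ρ := ⟨Submodule.span ℂ {v}, fun g w hw => by
      obtain ⟨c, rfl⟩ := Submodule.mem_span_singleton.1 hw
      rw [map_smul, hfix]
      exact Submodule.mem_span_singleton.2 ⟨c, rfl⟩⟩
    haveI := hρ
    rcases IsSimpleOrder.eq_bot_or_eq_top S with h | h
    · apply hv
      have hs : v ∈ S.toSubmodule := Submodule.mem_span_singleton_self v
      rw [h] at hs
      exact hs
    · apply hχ1
      funext g
      have hid : ρ g = 1 := by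
        apply LinearMap.ext
        intro w
        have hs : w ∈ S.toSubmodule := by rw [h]; trivial
        obtain ⟨c, rfl⟩ := Submodule.mem_span_singleton.1 hs
        rw [map_smul, hfix]; rfl
      have hone : Module.finrank ℂ (Fin n → ℂ) = 1 := by
        have hs : Submodule.span ℂ ({v} : Set (Fin n → ℂ)) = ⊤ := congrArg Subrepresentation.toSubmodule h
        rw [← finrank_top, ← hs, finrank_span_singleton hv]
      show LinearMap.trace ℂ _ (ρ g) = 1
      rw [hid, LinearMap.trace_one, hone, Nat.cast_one]
  have h := Submodule.finrank_sup_add_finrank_inf_eq U₁ U₂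
  rw [hbot, finrank_bot, add_zero] at h
  have h' := Submodule.finrank_mono hle
  have : (Module.finrank ℂ U₁ : ℝ) + Module.finrank ℂ U₂ ≤ Module.finrank ℂ U := by
    exact_mod_cast h.symm.le.trans h'
  linarith

end Cfsg.Agent.S0192
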