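import Cfsg.Statements.S0194
import Cfsg.Agent.Lib.Char.RealClass
import Cfsg.Agent.Lib.Char.CliffordInd

set_option autoImplicit false
open scoped ComplexConjugate
open Cfsg

namespace Cfsg.Agent.S0194

/-- Let G have odd order, H be a normal subgroup and θ a non-principal irreducible character of H. Then the function induced from θ is orthogonal to its complex conjugate. -/
theorem result {G : Type*} [Group G] [Fintype G] (hodd : Odd (Nat.card G)) (H : Subgroup G) [H.Normal] (θ : H → ℂ) (hθ : Cfsg.IsIrrCharacter H θ) (hθ1 : θ ≠ fun _ => 1) : Cfsg.classInner (fun g => conj (Cfsg.indFun H θ g)) (Cfsg.indFun H θ) = 0 := by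
  classical
  haveI : Fintype H := Fintype.ofFinite H
  have hoddH : Odd (Nat.card H) := hodd.of_dvd_nat (Subgroup.card_subgroup_dvd_card H)
  set θ' : Cfsg.IrrCharacter H := ⟨θ, hθ⟩ with hθ'
  have hconj : (fun g => conj (Cfsg.indFun H θ g)) =
      Cfsg.indFun H (Cfsg.Agent.Char.irrConj θ' : H → ℂ) := by
    funext g
    simp only [Cfsg.indFun, map_mul, map_inv₀, map_natCast, map_sum]
    congr 1
    refine Finset.sum_congr rfl fun x _ => ?_
    by_cases hx : x⁻¹ * g * x ∈ H
    · rw [Cfsg.Agent.Char.extendByZero_mem H _ hx, Cfsg.Agent.Char.extendByZero_mem H _ hx]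
      rfl
    · rw [Cfsg.Agent.Char.extendByZero_not_mem H _ hx, Cfsg.Agent.Char.extendByZero_not_mem H _ hx,
        map_zero]
  rw [hconj, Cfsg.Agent.Char.classInner_indFun_normal H (Cfsg.Agent.Char.irrConj θ') θ']
  have : IsEmpty {g : G // Cfsg.Agent.Char.irrComp (MulAut.conjNormal g)
      (Cfsg.Agent.Char.irrConj θ') = θ'} := by
    refine ⟨fun ⟨g, hg⟩ => hθ1 ?_⟩
    apply Cfsg.Agent.Char.irrConj_eq_self_iff_one hoddH θ'
    apply Subtype.ext
    funext h
    have hval : ∀ k : H, conj ((θ' : H → ℂ) (MulAut.conjNormal g k)) = (θ' : H → ℂ) k := fun k => by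
      have := congrFun (congrArg Subtype.val hg) k
      rwa [Cfsg.Agent.Char.irrComp_apply, Cfsg.Agent.Char.irrConj_apply] at this
    have hit : ∀ (n : ℕ) (k : H),
        conj ((θ' : H → ℂ) (MulAut.conjNormal (g ^ (2 * n + 1)) k)) = (θ' : H → ℂ) k := by
      intro n
      induction n with
      | zero => simpa using hval
      | succ n ih =>
        intro k
        rw [show g ^ (2 * (n + 1) + 1) = g * (g ^ (2 * n + 1) * g) by group, map_mul, map_mul]
        simp only [MulAut.mul_apply]
        rw [hval]
        have e := congrArg conj (ih (MulAut.conjNormal g k))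
        rw [Complex.conj_conj] at e
        rw [e, hval]
    obtain ⟨m, hm⟩ := hodd.of_dvd_nat (orderOf_dvd_natCard g)
    have := hit m h
    rw [← hm, pow_orderOf_eq_one, map_one] at this
    simpa using this
  simp

end Cfsg.Agent.S0194
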