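import Cfsg.Statements.S0196
import Mathlib

set_option autoImplicit false
open Cfsg

namespace Cfsg.Agent.S0196

/-- Let A be a subgroup of a finite group G that equals the centralizer of each of its non-identity elements, and let N be its normalizer. Then the index of A in N divides |A| − 1 (N/A permutes the non-identity elements of A in orbits of full length). -/
theorem result {G : Type*} [Group G] [Finite G] (A : Subgroup G) (hA : ∀ x ∈ A, x ≠ 1 → Subgroup.centralizer ({x} : Set G) = A) : (A.subgroupOf (Subgroup.normalizer (A : Set G))).index ∣ Nat.card A - 1 := by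
  classical
  set N := Subgroup.normalizer (A : Set G) with hN
  let X := {a : A // a ≠ 1}
  letI : MulAction N X :=
    { smul := fun g a => ⟨⟨(g : G) * (a.1 : G) * (g : G)⁻¹,
          (Subgroup.mem_normalizer_iff.1 g.2 _).1 a.1.2⟩, fun h => a.2 (by
            have := congrArg Subtype.val h
            exact Subtype.ext (by simpa using this))⟩
      one_smul := fun a => by
        apply Subtype.ext; apply Subtype.ext
        show ((1 : N) : G) * (a.1 : G) * ((1 : N) : G)⁻¹ = _
        simp
      mul_smul := fun g h a => by
        apply Subtype.ext; apply Subtype.ext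
        show ((g * h : N) : G) * (a.1 : G) * ((g * h : N) : G)⁻¹ =
          (g : G) * ((h : G) * (a.1 : G) * (h : G)⁻¹) * (g : G)⁻¹
        simp [mul_assoc] }
  have hst : ∀ a : X, MulAction.stabilizer N a = A.subgroupOf N := by
    intro a
    ext g
    have hc := hA (a.1 : G) a.1.2 (fun h => a.2 (Subtype.ext h))
    rw [Subgroup.mem_subgroupOf, MulAction.mem_stabilizer_iff]
    conv_rhs => rw [← hc, Subgroup.mem_centralizer_singleton_iff]
    constructor
    · intro h
      have h' : (g : G) * (a.1 : G) * (g : G)⁻¹ = (a.1 : G) := congrArg (fun y : X => (y.1 : G)) h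
      calc (g : G) * a.1 = (g : G) * a.1 * (g : G)⁻¹ * g := by group
        _ = _ := by rw [h']
    · intro h
      apply Subtype.ext; apply Subtype.ext
      show (g : G) * (a.1 : G) * (g : G)⁻¹ = _
      rw [h]; group
  haveI := Fintype.ofFinite A
  have hX : Nat.card X = Nat.card A - 1 := by
    rw [Nat.card_eq_fintype_card, Nat.card_eq_fintype_card, Fintype.card_subtype_compl,
      Fintype.card_subtype_eq]
  rw [← hX, Nat.card_congr (MulAction.selfEquivSigmaOrbitsQuotientStabilizer N X), Nat.card_sigma]
  exact Finset.dvd_sum (fun ω _ => by rw [← Subgroup.index, hst])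

end Cfsg.Agent.S0196
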