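import Cfsg.Statements.S0210
import Cfsg.Agent.Lib.Fusion.Dihedral

set_option autoImplicit false
open Cfsg
open Cfsg.Agent.Fusion
open scoped commutatorElement

namespace Cfsg.Agent.S0210

/-- If x, y are involutions whose product has even order, no element of the subgroup generated by x and y conjugates x to y. -/
theorem result {G : Type*} [Group G] [Finite G] (x y : G) (hx : orderOf x = 2) (hy : orderOf y = 2) (heven : Even (orderOf (x * y))) (d : G) (hd : d ∈ Subgroup.closure ({x, y} : Set G)) : d * x * d⁻¹ ≠ y := by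
  intro h
  obtain ⟨k, hk⟩ := conj_invol_in_closure hx hy hd
  rw [h] at hk
  have h1 : (x * y) ^ (2 * k - 1) = 1 := by
    have h2 : x * y = (x * y) ^ (2 * k) := by
      nth_rewrite 1 [hk]
      rw [← mul_assoc, invol_mul_self hx, one_mul]
    rw [zpow_sub_one, ← h2, mul_inv_cancel]
  have h3 := (orderOf_dvd_iff_zpow_eq_one.2 h1)
  obtain ⟨m, hm⟩ := heven
  obtain ⟨c, hc⟩ := h3
  rw [hm] at hc
  push_cast at hc
  rcases Int.even_or_odd c with ⟨e, he⟩ | ⟨e, he⟩ <;> subst he <;> ring_nf at hc <;> omega

end Cfsg.Agent.S0210
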