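import Cfsg.Statements.S0211
import Cfsg.Agent.Lib.Fusion.Dihedral

set_option autoImplicit false
open Cfsg
open Cfsg.Agent.Fusion
open scoped commutatorElement

namespace Cfsg.Agent.S0211

/-- Let x, y be involutions with xy of even order n and z = (xy)^(n/2). Then xz is conjugate to x by an element of the subgroup generated by x, y if and only if 4 divides n. -/
theorem result {G : Type*} [Group G] [Finite G] (x y : G) (hx : orderOf x = 2) (hy : orderOf y = 2) (heven : Even (orderOf (x * y))) : (∃ d ∈ Subgroup.closure ({x, y} : Set G), d * x * d⁻¹ = x * (x * y) ^ (orderOf (x * y) / 2)) ↔ 4 ∣ orderOf (x * y) := by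
  set n := orderOf (x * y)
  obtain ⟨m, hm⟩ := heven
  have hm' : n / 2 = m := by omega
  rw [hm']
  constructor
  · rintro ⟨d, hd, h⟩
    obtain ⟨k, hk⟩ := conj_invol_in_closure hx hy hd
    have h1 : (x * y) ^ (2 * k - (m : ℤ)) = 1 := by
      rw [zpow_sub, zpow_natCast, ← mul_left_cancel (hk.symm.trans h), mul_inv_cancel]
    obtain ⟨c, hc⟩ := orderOf_dvd_iff_zpow_eq_one.2 h1
    have hc' : 2 * k - (m : ℤ) = ((m : ℤ) + m) * c := by
      rw [hc]; congr 1; exact_mod_cast hm
    have hme : Even (m : ℤ) := ⟨k - (m : ℤ) * c, by linarith⟩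
    obtain ⟨e, he⟩ := (Int.even_coe_nat m).1 hme
    exact ⟨e, by omega⟩
  · rintro ⟨e, he⟩
    obtain ⟨d, hd, h⟩ := exists_conj_invol hx hy (e : ℤ)
    refine ⟨d, hd, ?_⟩
    rw [h, show m = 2 * e by omega, ← zpow_natCast]
    push_cast
    rfl

end Cfsg.Agent.S0211
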