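import Cfsg.Statements.S0212
import Cfsg.Agent.Lib.Fusion.BrauerFowlerTools

set_option autoImplicit false
open Cfsg
open Cfsg.Agent.Fusion
open scoped commutatorElement

namespace Cfsg.Agent.S0212

/-- The Brauer–Fowler bound: if G is a finite simple group and t an involution of G whose centralizer has order n, then |G| ≤ (2n^2)!. -/
theorem result {G : Type*} [Group G] [Finite G] [IsSimpleGroup G] (t : G) (ht : orderOf t = 2) : Nat.card G ≤ Nat.factorial (2 * (Nat.card (Subgroup.centralizer ({t} : Set G))) ^ 2) := by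
  set c := Nat.card (Subgroup.centralizer ({t} : Set G)) with hc
  by_cases hna : IsMulCommutative G
  · letI : CommGroup G := { ‹Group G› with mul_comm := fun a b => hna.is_comm.comm a b }
    have hp := IsSimpleGroup.prime_card (α := G)
    have h2 : Nat.card G = 2 :=
      ((Nat.prime_dvd_prime_iff_eq Nat.prime_two hp).1 (ht ▸ orderOf_dvd_natCard t)).symm
    have hc1 : 1 ≤ c := Nat.card_pos
    have h3 : 2 ≤ 2 * c ^ 2 := by nlinarith
    exact (h2.le.trans h3).trans (Nat.self_le_factorial _)
  have hZ : Odd (Nat.card (Subgroup.center G)) := by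
    rw [center_eq_bot_of_simple hna, Subgroup.card_bot]; exact odd_one
  obtain ⟨H, hH, h2 | h2⟩ := brauerFowler_subgroup (even_iff_two_dvd.2 (ht ▸ orderOf_dvd_natCard t)) hZ
  · exact absurd h2 (no_index_two_of_simple hna H)
  have h1 := card_le_invol_mul_centralizer ht
  set n := Nat.card {t : G // orderOf t = 2}
  refine (Nat.le_of_dvd (Nat.factorial_pos _) (card_dvd_factorial_index H hH)).trans (Nat.factorial_le ?_)
  have h3 : Nat.card G * (Nat.card G + n) ≤ (n * c) * (n * c + n) := Nat.mul_le_mul h1 (Nat.add_le_add_right h1 n)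
  have h4 : 2 * H.index * n ^ 2 < (c * (c + 1)) * n ^ 2 := by
    calc _ < _ := h2
      _ ≤ _ := h3
      _ = _ := by ring
  have h5 := Nat.lt_of_mul_lt_mul_right h4
  nlinarith

end Cfsg.Agent.S0212
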