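import Cfsg.Statements.S0216
import Cfsg.Agent.Lib.Fusion.Involutions

set_option autoImplicit false
open Cfsg
open Cfsg.Agent.Fusion
open scoped commutatorElement

namespace Cfsg.Agent.S0216

/-- For an involution u in a Sylow 2-subgroup P of a finite group G, the following are equivalent: no G-conjugate of u other than u lies in P; every commutator of u with an element of G has odd order. -/
theorem result {G : Type*} [Group G] [Finite G] (P : Sylow 2 G) (u : G) (hu : orderOf u = 2) (huP : u ∈ P) : (∀ g : G, g * u * g⁻¹ ∈ P → g * u * g⁻¹ = u) ↔ (∀ g : G, Odd (orderOf (u * g * u⁻¹ * g⁻¹))) := by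
  constructor
  · intro h g
    have := odd_orderOf_mul_of_isolated hu huP h g
    rw [show u * g * u⁻¹ * g⁻¹ = u * (g * u * g⁻¹) by rw [invol_inv hu]; group]
    exact this
  · intro h g hg
    by_contra hne
    have hodd := h g
    rw [show u * g * u⁻¹ * g⁻¹ = u * (g * u * g⁻¹) by rw [invol_inv hu]; group] at hodd
    obtain ⟨k, hk⟩ := P.isPGroup' (⟨u, huP⟩ * ⟨g * u * g⁻¹, hg⟩ : (P : Subgroup G))
    have hk' : (u * (g * u * g⁻¹)) ^ 2 ^ k = 1 := congrArg Subtype.val hk
    have h1 : orderOf (u * (g * u * g⁻¹)) = 1 := Nat.eq_one_of_dvd_coprimes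
      (((Nat.coprime_two_right.2 hodd).symm).pow_left k) (orderOf_dvd_of_pow_eq_one hk') dvd_rfl
    rw [orderOf_eq_one_iff, mul_eq_one_iff_eq_inv, inv_eq_of_mul_eq_one_right (a := g * u * g⁻¹) (b := g * u * g⁻¹)
      (by rw [show g * u * g⁻¹ * (g * u * g⁻¹) = g * (u * u) * g⁻¹ by group, invol_mul_self hu]; group)] at h1
    exact hne h1.symm

end Cfsg.Agent.S0216
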