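import Cfsg.Statements.S0218
import Mathlib


set_option autoImplicit false
open Cfsg

namespace Cfsg.Agent.S0218

/-- The generalized quaternion group of order 2^(n+3) contains exactly one element of order 2. -/
theorem result (n : ℕ) : Nat.card {x : QuaternionGroup (2 ^ (n + 1)) // orderOf x = 2} = 1 := by
  set N := 2 ^ (n + 1)
  have hN : N = 2 * 2 ^ n := by rw [← pow_succ']
  haveI : NeZero N := ⟨by positivity⟩
  rw [Nat.card_eq_one_iff_unique]
  have key : ∀ x : QuaternionGroup N, orderOf x = 2 → x = QuaternionGroup.a (N : ZMod (2 * N)) := by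
    rintro (i | i) h
    · have h2 : (QuaternionGroup.a i) ^ 2 = 1 := h ▸ pow_orderOf_eq_one _
      have h1 : i ≠ 0 := fun h0 => by
        rw [h0, QuaternionGroup.a_zero, orderOf_one] at h; omega
      rw [sq, QuaternionGroup.a_mul_a, QuaternionGroup.one_def] at h2
      have hii : i + i = 0 := QuaternionGroup.a.inj h2
      congr 1
      rw [← ZMod.natCast_zmod_val i] at hii h1 ⊢
      rw [← Nat.cast_add, ZMod.natCast_eq_zero_iff] at hii
      have hv := ZMod.val_lt i
      have hv0 : i.val ≠ 0 := fun h0 => h1 (by rw [h0, Nat.cast_zero])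
      obtain ⟨c, hc⟩ := hii
      have hc1 : c = 1 := by
        rcases c with _ | _ | c
        · omega
        · rfl
        · nlinarith
      subst hc1
      rw [show i.val = N by omega]
    · rw [QuaternionGroup.orderOf_xa] at h; omega
  refine ⟨⟨fun x y => Subtype.ext ((key _ x.2).trans (key _ y.2).symm)⟩, ⟨⟨QuaternionGroup.a N, ?_⟩⟩⟩
  refine orderOf_eq_prime ?_ fun h => ?_
  · rw [sq, QuaternionGroup.a_mul_a, QuaternionGroup.one_def, ← Nat.cast_add, ← two_mul,
      ZMod.natCast_self]
  · rw [QuaternionGroup.one_def] at h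
    have h' := QuaternionGroup.a.inj h
    rw [ZMod.natCast_eq_zero_iff] at h'
    have := Nat.le_of_dvd (Nat.pos_of_ne_zero (NeZero.ne N)) h'
    have := NeZero.ne N
    omega

end Cfsg.Agent.S0218
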