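import Cfsg.Statements.S0220
import Cfsg.Agent.Lib.Fusion.Basic
import Cfsg.Agent.S0219

set_option autoImplicit false
open Cfsg
open Cfsg.Agent.Fusion
open scoped commutatorElement

namespace Cfsg.Agent.S0220

/-- If x is an involution of a finite group G and a Sylow 2-subgroup of the centralizer of x is cyclic, then G has a subgroup of index 2; in particular G is not simple unless it has order 2. -/
theorem result {G : Type*} [Group G] [Finite G] (x : G) (hx : orderOf x = 2) (S : Sylow 2 ↥(Subgroup.centralizer ({x} : Set G))) (hS : IsCyclic (S : Subgroup ↥(Subgroup.centralizer ({x} : Set G)))) : ∃ H : Subgroup G, H.index = 2 := by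
  haveI : Fact (Nat.Prime 2) := ⟨Nat.prime_two⟩
  haveI : IsCyclic (S : Subgroup ↥(Subgroup.centralizer ({x} : Set G))) := hS
  let C := Subgroup.centralizer ({x} : Set G)
  have hxC : x ∈ C := mem_centralizer_set.2 fun s hs => by rw [Set.mem_singleton_iff.1 hs]; group
  set R := (S : Subgroup C).map C.subtype
  have hR : SylIn 2 R C := sylIn_map C S
  haveI : IsCyclic R := isCyclic_of_surjective
    ((S : Subgroup C).equivMapOfInjective C.subtype C.subtype_injective).toMonoidHom
    (MulEquiv.surjective _)
  have hxR : x ∈ R := by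
    have hX : IsPGroup 2 (Subgroup.zpowers x) :=
      IsPGroup.of_card (n := 1) (by rw [Nat.card_zpowers, hx, pow_one])
    obtain ⟨R', hR', hxR'⟩ := exists_sylIn_ge hX (Subgroup.zpowers_le.2 hxC)
    obtain ⟨c, hc, hcR⟩ := hR'.conj_eq hR
    have h := hcR.le (conj_mem_cj (g := c) (hxR' (Subgroup.mem_zpowers x)))
    rwa [mem_centralizer_set.1 hc x rfl] at h
  obtain ⟨T, hT⟩ := hR.isPGroup.exists_le_sylow
  have hTR : (T : Subgroup G) = R := by
    by_contra hne
    have hlt : R < (T : Subgroup G) ⊓ Subgroup.normalizer (R : Set G) :=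
      SylIn.normalizer_growth (p := 2) hT (Ne.symm hne) T.isPGroup'
    refine hlt.ne (hR.eq_of_le (T.isPGroup'.to_inf_left) hlt.le fun s hs => ?_).symm
    refine mem_centralizer_set.2 fun z hz => ?_
    rw [Set.mem_singleton_iff.1 hz]
    have hy : s * x * s⁻¹ ∈ R := (Subgroup.mem_normalizer_iff.1 hs.2 x).1 hxR
    have ho : orderOf (⟨s * x * s⁻¹, hy⟩ : R) = 2 := by
      rw [Subgroup.orderOf_mk]
      exact (orderOf_injective (MulAut.conj s).toMonoidHom (MulAut.conj s).injective x).trans hx
    have ho' : orderOf (⟨x, hxR⟩ : R) = 2 := by rw [Subgroup.orderOf_mk]; exact hx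
    classical
    haveI : Fintype R := Fintype.ofFinite R
    have hle := IsCyclic.card_pow_eq_one_le (α := R) (n := 2) two_pos
    by_contra hne'
    have hsub : ({1, ⟨x, hxR⟩, ⟨s * x * s⁻¹, hy⟩} : Finset R) ⊆
        Finset.univ.filter fun a : R => a ^ 2 = 1 := by
      intro a ha
      simp only [Finset.mem_insert, Finset.mem_singleton] at ha
      rw [Finset.mem_filter]
      refine ⟨Finset.mem_univ _, ?_⟩
      rcases ha with rfl | rfl | rfl
      · exact one_pow _
      · exact ho' ▸ pow_orderOf_eq_one _
      · exact ho ▸ pow_orderOf_eq_one _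
    have h3 : ({1, ⟨x, hxR⟩, ⟨s * x * s⁻¹, hy⟩} : Finset R).card = 3 := by
      refine Finset.card_eq_three.2 ⟨_, _, _, fun h => ?_, fun h => ?_, fun h => ?_, rfl⟩
      · rw [← h, orderOf_one] at ho'; omega
      · rw [← h, orderOf_one] at ho; omega
      · exact hne' (congrArg Subtype.val h).symm
    have := (Finset.card_le_card hsub).trans hle
    omega
  have heven : Even (Nat.card G) := even_iff_two_dvd.2 (hx ▸ orderOf_dvd_natCard x)
  haveI : IsCyclic (T : Subgroup G) := hTR ▸ inferInstance
  exact Cfsg.Agent.S0219.result heven T inferInstance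

end Cfsg.Agent.S0220
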