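import Cfsg.Statements.S0221
import Cfsg.Agent.Lib.Fusion.NormalFour
import Cfsg.Agent.Lib.Fusion.ThompsonTransferCyclic

set_option autoImplicit false
open Cfsg Cfsg.Agent
open Cfsg.Agent.Fusion
open scoped commutatorElement

namespace Cfsg.Agent.S0221

/-- Let G be a finite group with no subgroup of index 2 whose 2-rank is at least 3 (it contains an elementary abelian subgroup of order 8). Then the centralizer of every involution of G also contains an elementary abelian subgroup of order 8. -/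
theorem result {G : Type*} [Group G] [Finite G] (hno : ∀ H : Subgroup G, H.index ≠ 2) (hrank : ∃ E : Subgroup G, Nat.card E = 8 ∧ ∀ e ∈ E, e ^ 2 = 1) (x : G) (hx : orderOf x = 2) : ∃ E : Subgroup G, E ≤ Subgroup.centralizer ({x} : Set G) ∧ Nat.card E = 8 ∧ ∀ e ∈ E, e ^ 2 = 1 := by
  classical
  haveI : Fact (Nat.Prime 2) := ⟨Nat.prime_two⟩
  obtain ⟨E, hE8, hE2⟩ := hrank
  have hEel : Cfsg.IsElementaryAbelian 2 E := ⟨⟨⟨fun a b => by
    have hs : ∀ c : E, c * c = 1 := fun c => Subtype.ext (by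
      show (c : G) * c = 1; rw [← sq]; exact hE2 c c.2)
    calc a * b = (b * b) * (a * b) * (a * a) := by rw [hs, hs, one_mul, mul_one]
      _ = b * ((b * a) * (b * a)) * a := by group
      _ = b * a := by rw [hs, mul_one]⟩⟩, hE2⟩
  have hxp : IsPGroup 2 (Subgroup.zpowers x) := IsPGroup.of_card (n := 1) (by rw [Nat.card_zpowers, hx, pow_one])
  obtain ⟨P, hP⟩ := hxp.exists_le_sylow
  have hxP : x ∈ (P : Subgroup G) := hP (Subgroup.mem_zpowers x)
  obtain ⟨Q, hQ⟩ := (IsPGroup.of_card (p := 2) (n := 3) (show Nat.card E = 2 ^ 3 from hE8)).exists_le_sylow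
  obtain ⟨g, hg⟩ := MulAction.exists_smul_eq G Q P
  obtain ⟨E', hE'⟩ : ∃ E', E' = E.map (MulAut.conj g).toMonoidHom := ⟨_, rfl⟩
  have hE'P : E' ≤ (P : Subgroup G) := by
    rw [hE', ← hg]; exact Subgroup.map_mono hQ
  have hE'el : Cfsg.IsElementaryAbelian 2 E' := by
    rw [hE']
    refine ⟨⟨⟨?_⟩⟩, ?_⟩
    · rintro ⟨_, a, ha, rfl⟩ ⟨_, b, hb, rfl⟩
      refine Subtype.ext ?_
      show (MulAut.conj g).toMonoidHom a * (MulAut.conj g).toMonoidHom b = (MulAut.conj g).toMonoidHom b * (MulAut.conj g).toMonoidHom a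
      rw [← map_mul, ← map_mul, Local.elemAb_commute hEel ha hb]
    · rintro _ ⟨a, ha, rfl⟩
      rw [← map_pow, hE2 a ha, map_one]
  have hE'8 : Nat.card E' = 8 := by
    rw [hE', Subgroup.card_map_of_injective (MulAut.conj g).injective, hE8]
  -- a normal four group of `P`
  obtain ⟨V₀, hV₀n, hV₀, hV₀4⟩ := exists_normal_four P.isPGroup' (E'.subgroupOf (P : Subgroup G))
    ⟨⟨⟨fun a b => Subtype.ext (Subtype.ext (Local.elemAb_commute hE'el a.2 b.2))⟩⟩,
      fun a ha => Subtype.ext (hE'el.2 _ ha)⟩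
    (by rw [Nat.card_congr (Subgroup.subgroupOfEquivOfLe hE'P).toEquiv, hE'8])
  obtain ⟨V, hV⟩ : ∃ V, V = V₀.map (P : Subgroup G).subtype := ⟨_, rfl⟩
  have hVP : V ≤ (P : Subgroup G) := hV ▸ Subgroup.map_subtype_le _
  have hV4 : Nat.card V = 4 := by
    rw [hV, Subgroup.card_map_of_injective (P : Subgroup G).subtype_injective, hV₀4]
  have hVn : ∀ q ∈ (P : Subgroup G), ∀ v ∈ V, q * v * q⁻¹ ∈ V := by
    intro q hq v hv
    rw [hV] at hv ⊢
    obtain ⟨w, hw, rfl⟩ := hv
    exact ⟨_, hV₀n.conj_mem w hw ⟨q, hq⟩, rfl⟩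
  have hVel : Cfsg.IsElementaryAbelian 2 V := by
    rw [hV]
    refine ⟨⟨⟨?_⟩⟩, ?_⟩
    · rintro ⟨_, a, ha, rfl⟩ ⟨_, b, hb, rfl⟩
      exact Subtype.ext ((map_mul _ a b).symm.trans ((congrArg _ (Local.elemAb_commute hV₀ ha hb)).trans (map_mul _ b a)))
    · rintro _ ⟨a, ha, rfl⟩
      exact congrArg Subtype.val (hV₀.2 a ha)
  obtain ⟨W, hW⟩ : ∃ W, W = (P : Subgroup G) ⊓ Subgroup.centralizer (V : Set G) := ⟨_, rfl⟩
  have hVW : V ≤ W := hW ▸ le_inf hVP fun v hv => Subgroup.mem_centralizer_iff.2 fun u hu =>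
    Local.elemAb_commute hVel hu hv
  -- a central element `z` of `P` in `V`
  haveI : Nontrivial V₀ := Finite.one_lt_card_iff_nontrivial.1 (by omega)
  obtain ⟨⟨z, hzP⟩, hzV₀, hzc, hz1⟩ := Perm.exists_ne_one_center P.isPGroup' V₀
  have hzV : z ∈ V := hV ▸ ⟨⟨z, hzP⟩, hzV₀, rfl⟩
  have hz1' : z ≠ 1 := fun h => hz1 (Subtype.ext h)
  have hzc' : ∀ q ∈ (P : Subgroup G), q * z * q⁻¹ = z := fun q hq => by
    rw [mul_inv_eq_iff_eq_mul]
    exact congrArg Subtype.val (Subgroup.mem_center_iff.1 hzc ⟨q, hq⟩)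
  obtain ⟨v, hvV, hvz⟩ : ∃ v ∈ V, v ∉ Subgroup.zpowers z := SetLike.not_le_iff_exists.1 fun h => by
    have := Subgroup.card_le_of_le h
    rw [hV4, Nat.card_zpowers, orderOf_eq_prime (hVel.2 z hzV) hz1'] at this
    omega
  have hv1 : v ≠ 1 := fun h => hvz (h ▸ one_mem _)
  have hvz' : v ≠ z := fun h => hvz (h ▸ Subgroup.mem_zpowers z)
  have hVcases : ∀ u ∈ V, u = 1 ∨ u = z ∨ u = v ∨ u = z * v := by
    intro u hu
    by_contra hne
    simp only [not_or] at hne
    obtain ⟨h1, h2, h3, h4⟩ := hne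
    have hzv1 : z * v ≠ 1 := fun h => hvz' (by
      have hzz : z * z = 1 := by rw [← sq]; exact hVel.2 z hzV
      exact mul_left_cancel (h.trans hzz.symm))
    let f : Fin 5 → V := ![1, ⟨z, hzV⟩, ⟨v, hvV⟩, ⟨z * v, mul_mem hzV hvV⟩, ⟨u, hu⟩]
    have hf : Function.Injective f := by
      intro i k hik
      have h' := congrArg Subtype.val hik
      fin_cases i <;> fin_cases k <;> simp [f] at h' ⊢ <;>
        first
          | exact absurd h' hz1' | exact absurd h'.symm hz1' | exact absurd h' hv1 | exact absurd h'.symm hv1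
          | exact absurd h' hvz' | exact absurd h'.symm hvz' | exact absurd h' h1 | exact absurd h'.symm h1
          | exact absurd h' h2 | exact absurd h'.symm h2 | exact absurd h' h3 | exact absurd h'.symm h3
          | exact absurd h' h4 | exact absurd h'.symm h4 | exact absurd h' hzv1 | exact absurd h'.symm hzv1
    have := Nat.card_le_card_of_injective f hf
    rw [hV4, Nat.card_fin] at this; omega
  have hmemW : ∀ q ∈ (P : Subgroup G), q * v * q⁻¹ = v → q ∈ W := by
    intro q hq hqv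
    rw [hW]
    refine Subgroup.mem_inf.2 ⟨hq, Subgroup.mem_centralizer_iff.2 fun u hu => ?_⟩
    have hqz := mul_inv_eq_iff_eq_mul.1 (hzc' q hq)
    have hqv' := mul_inv_eq_iff_eq_mul.1 hqv
    rcases hVcases u hu with rfl | rfl | rfl | rfl
    · rw [one_mul, mul_one]
    · exact hqz.symm
    · exact hqv'.symm
    · exact ((show Commute q z from hqz).mul_right hqv').eq.symm
  have himg : ∀ q ∈ (P : Subgroup G), q * v * q⁻¹ = v ∨ q * v * q⁻¹ = z * v := by
    intro q hq
    rcases hVcases _ (hVn q hq v hvV) with h | h | h | h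
    · exact absurd (conj_eq_one_iff.1 h) hv1
    · exact absurd (mul_left_cancel (mul_right_cancel (h.trans (hzc' q hq).symm))) hvz'
    · exact Or.inl h
    · exact Or.inr h
  -- `W` has rank at least three
  haveI : Fintype E' := Fintype.ofFinite E'
  have hE'W : 4 ≤ Nat.card ↥(E' ⊓ W) := by
    have hsplit : ∀ e ∈ E', ∀ f ∈ E', (e : G) * v * e⁻¹ = f * v * f⁻¹ → e⁻¹ * f ∈ E' ⊓ W := by
      intro e he f hf h
      refine Subgroup.mem_inf.2 ⟨mul_mem (inv_mem he) hf, hmemW _ (hE'P (mul_mem (inv_mem he) hf)) ?_⟩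
      calc _ = e⁻¹ * (f * v * f⁻¹) * e := by group
        _ = e⁻¹ * (e * v * e⁻¹) * e := by rw [h]
        _ = v := by group
    have hidx : (E' ⊓ W).relIndex E' ≤ 2 := by
      rw [Subgroup.relIndex, Subgroup.index_eq_card]
      refine (Nat.card_le_card_of_injective (β := Bool) (Quotient.lift
        (fun e : E' => decide ((e : G) * v * (e : G)⁻¹ = v)) ?_) ?_).trans (by simp)
      · intro a b hab
        have h1 := (QuotientGroup.leftRel_apply.1 hab : a⁻¹ * b ∈ (E' ⊓ W).subgroupOf E')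
        have h2 : ((a : G)⁻¹ * b) * v * ((a : G)⁻¹ * b)⁻¹ = v := by
          rw [mul_inv_eq_iff_eq_mul]
          have h3 := (Subgroup.mem_inf.1 (show (a : G)⁻¹ * b ∈ E' ⊓ W from h1)).2
          rw [hW] at h3
          exact (Subgroup.mem_centralizer_iff.1 (Subgroup.mem_inf.1 h3).2 v hvV).symm
        have h4 : (b : G) * v * (b : G)⁻¹ = a * v * (a : G)⁻¹ := by
          calc _ = (a : G) * (((a : G)⁻¹ * b) * v * ((a : G)⁻¹ * b)⁻¹) * (a : G)⁻¹ := by group
            _ = _ := by rw [h2]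
        simp only [h4]
      · intro a b
        refine Quotient.inductionOn₂ a b fun a b h => ?_
        refine Quotient.sound (QuotientGroup.leftRel_apply.2 ?_)
        refine hsplit a a.2 b b.2 ?_
        simp only [Quotient.lift_mk, decide_eq_decide] at h
        rcases himg a (hE'P a.2) with h1 | h1 <;> rcases himg b (hE'P b.2) with h2 | h2
        · rw [h1, h2]
        · rw [h1, h.1 h1]
        · rw [h2, h.2 h2]
        · rw [h1, h2]
    have := (E' ⊓ W).relIndex_mul_relIndex E' ⊥ inf_le_left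
    have h3 : Nat.card ↥((E' ⊓ W).subgroupOf E') * (E' ⊓ W).relIndex E' = 8 := by
      rw [Subgroup.relIndex, Subgroup.card_mul_index, hE'8]
    rw [Nat.card_congr (Subgroup.subgroupOfEquivOfLe inf_le_left).toEquiv] at h3
    nlinarith
  obtain ⟨F, hF⟩ : ∃ F, F = (E' ⊓ W) ⊔ V := ⟨_, rfl⟩
  have hFel : Cfsg.IsElementaryAbelian 2 F := by
    rw [hF]
    refine Local.elemAb_sup (Local.elemAb_mono hE'el inf_le_left) hVel fun a ha b hb => ?_
    have := (Subgroup.mem_inf.1 ha).2
    rw [hW] at this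
    exact (Subgroup.mem_centralizer_iff.1 (Subgroup.mem_inf.1 this).2 b hb).symm
  have hFW : F ≤ W := hF ▸ sup_le inf_le_right hVW
  have hF8 : 8 ≤ Nat.card F := by
    obtain ⟨k, hk⟩ := Local.elemAb_card_pow hFel
    have hVF : V ≤ F := hF ▸ le_sup_right
    have h4 := Subgroup.card_le_of_le hVF
    by_contra hlt
    have hFV : F = V := (Subgroup.eq_of_le_of_card_ge hVF (by
      rw [hV4] at h4 ⊢
      rw [hk] at h4 hlt ⊢
      have : k < 3 := by
        by_contra h; exact hlt ((Nat.pow_le_pow_right two_pos (not_lt.1 h)).trans' (by norm_num))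
      interval_cases k <;> first | omega | norm_num at h4 ⊢)).symm
    have hle : E' ⊓ W ≤ V := by rw [← hFV, hF]; exact le_sup_left
    have heq : E' ⊓ W = V := Subgroup.eq_of_le_of_card_ge hle (by rw [hV4]; exact hE'W)
    have hEW : E' ≤ W := by
      rw [hW]
      refine le_inf hE'P fun e he => Subgroup.mem_centralizer_iff.2 fun u hu => ?_
      rw [← heq] at hu
      exact Local.elemAb_commute hE'el (Subgroup.mem_inf.1 hu).1 he
    rw [inf_eq_left.2 hEW] at heq
    rw [heq, hV4] at hE'8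
    omega
  -- the conclusion for a conjugate lying in `W`
  have hfinal : ∀ h : G, h * x * h⁻¹ ∈ W →
      ∃ U : Subgroup G, U ≤ Subgroup.centralizer ({x} : Set G) ∧ Nat.card U = 8 ∧ ∀ e ∈ U, e ^ 2 = 1 := by
    intro h hh
    set y := h * x * h⁻¹ with hy
    have hy2 : y ^ 2 = 1 := by rw [hy, conj_pow, ← hx, pow_orderOf_eq_one]; group
    have key : ∃ U₀ : Subgroup G, U₀ ≤ Subgroup.centralizer ({y} : Set G) ∧ 8 ≤ Nat.card U₀ ∧ Cfsg.IsElementaryAbelian 2 U₀ := by
      by_cases hyV : y ∈ V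
      · refine ⟨F, fun f hf => Subgroup.mem_centralizer_singleton_iff.2 ?_, hF8, hFel⟩
        exact (Local.elemAb_commute hFel hf (hF ▸ Subgroup.mem_sup_right hyV))
      · have hcv : ∀ u ∈ V, y * u = u * y := fun u hu => by
          rw [hW] at hh
          exact (Subgroup.mem_centralizer_iff.1 (Subgroup.mem_inf.1 hh).2 u hu).symm
        have hel : Cfsg.IsElementaryAbelian 2 (Subgroup.zpowers y ⊔ V) :=
          Local.elemAb_sup (Local.elemAb_zpowers hy2) hVel fun a ha b hb => by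
            obtain ⟨i, rfl⟩ := Subgroup.mem_zpowers_iff.1 ha
            exact ((show Commute y b from hcv b hb).zpow_left i).eq
        refine ⟨_, fun f hf => Subgroup.mem_centralizer_singleton_iff.2
          (Local.elemAb_commute hel hf (Subgroup.mem_sup_left (Subgroup.mem_zpowers y))), ?_, hel⟩
        have hlt : V < Subgroup.zpowers y ⊔ V := lt_of_le_of_ne le_sup_right fun h =>
          hyV (h ▸ Subgroup.mem_sup_left (Subgroup.mem_zpowers y))
        have := Local.two_mul_card_le hel hlt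
        rw [hV4] at this
        omega
    obtain ⟨U₀, hUc, hU8, hUel⟩ := key
    obtain ⟨U₁, hU₁⟩ := Sylow.exists_subgroup_card_pow_prime (G := U₀) 2 (n := 3) (by
      obtain ⟨k, hk⟩ := Local.elemAb_card_pow hUel
      rw [hk] at hU8 ⊢
      exact pow_dvd_pow 2 (by by_contra h; have := Nat.pow_lt_pow_right one_lt_two (show k < 3 by omega); omega))
    refine ⟨(U₁.map U₀.subtype).map (MulAut.conj h⁻¹).toMonoidHom, ?_, ?_, ?_⟩
    · rintro _ ⟨_, ⟨u, hu, rfl⟩, rfl⟩
      have := Subgroup.mem_centralizer_singleton_iff.1 (hUc u.2)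
      refine Subgroup.mem_centralizer_singleton_iff.2 ?_
      show h⁻¹ * u * h⁻¹⁻¹ * x = x * (h⁻¹ * u * h⁻¹⁻¹)
      calc _ = h⁻¹ * ((u : G) * y) * h := by rw [hy]; group
        _ = h⁻¹ * (y * u) * h := by rw [this]
        _ = _ := by rw [hy]; group
    · rw [Subgroup.card_map_of_injective (MulAut.conj h⁻¹).injective,
        Subgroup.card_map_of_injective U₀.subtype_injective, hU₁]
      norm_num
    · rintro _ ⟨_, ⟨u, hu, rfl⟩, rfl⟩
      rw [← map_pow, show (U₀.subtype u) ^ 2 = 1 from hUel.2 u u.2, map_one]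
  by_cases hxW : x ∈ W
  · exact hfinal 1 (by simpa using hxW)
  have hWP : W ≤ (P : Subgroup G) := hW ▸ inf_le_left
  have hidx : (W.subgroupOf (P : Subgroup G)).index = 2 := by
    refine Subgroup.index_eq_two_iff.2 ⟨⟨x, hxP⟩, fun b => ?_⟩
    have hx' : x * v * x⁻¹ = z * v := (himg x hxP).resolve_left fun h => hxW (hmemW x hxP h)
    show Xor ((b : G) * x ∈ W) ((b : G) ∈ W)
    have hfix : ∀ q ∈ W, q * v * q⁻¹ = v := fun q hq => by
      rw [hW] at hq
      rw [mul_inv_eq_iff_eq_mul]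
      exact (Subgroup.mem_centralizer_iff.1 (Subgroup.mem_inf.1 hq).2 v hvV).symm
    have hbx : (b : G) * x * v * ((b : G) * x)⁻¹ = z * ((b : G) * v * (b : G)⁻¹) := by
      rw [show (b : G) * x * v * ((b : G) * x)⁻¹ = (b : G) * (x * v * x⁻¹) * (b : G)⁻¹ by group, hx',
        show (b : G) * (z * v) * (b : G)⁻¹ = ((b : G) * z * (b : G)⁻¹) * ((b : G) * v * (b : G)⁻¹) by group,
        hzc' b b.2]
    rcases himg b b.2 with hb | hb
    · refine Or.inr ⟨hmemW b b.2 hb, fun h => ?_⟩
      have := hfix _ h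
      rw [hbx, hb, mul_eq_right] at this
      exact hz1' this
    · refine Or.inl ⟨hmemW _ (mul_mem b.2 hxP) ?_, fun h => hz1' ?_⟩
      · rw [hbx, hb, ← mul_assoc, ← sq, hVel.2 z hzV, one_mul]
      · have := hfix _ h
        rwa [hb, mul_eq_right] at this
  haveI : (W.subgroupOf (P : Subgroup G)).Normal := Subgroup.normal_of_index_eq_two hidx
  have hcard : Nat.card (↥(P : Subgroup G) ⧸ W.subgroupOf (P : Subgroup G)) = 2 :=
    (Subgroup.index_eq_card _).symm.trans hidx
  obtain ⟨h, hh, -, -⟩ := extremal_transfer_cyclic_of_kills P W hWP (isCyclic_of_prime_card hcard) hx hxP hxW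
    fun f => by
      by_contra hf
      refine hno f.ker ?_
      rw [Subgroup.index_ker]
      have hd := Subgroup.card_subgroup_dvd_card f.range
      rw [hcard] at hd
      refine ((Nat.dvd_prime Nat.prime_two).1 hd).resolve_left fun hr => hf ?_
      have h1 : f.range = ⊥ := Subgroup.card_eq_one.1 hr
      exact Subgroup.mem_bot.1 (by rw [← h1]; exact ⟨x, rfl⟩)
  exact hfinal h hh

end Cfsg.Agent.S0221
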