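import Cfsg.Statements.S0224
import Cfsg.Agent.Lib.Fusion.Involutions

set_option autoImplicit false
open Cfsg
open Cfsg.Agent.Fusion
open scoped commutatorElement

namespace Cfsg.Agent.S0224

/-- Let H be a proper subgroup of even order of the finite group G. Then H is strongly embedded if and only if each involution of H fixes exactly one point (namely the coset H) in the action of G on the cosets of H. -/
theorem result {G : Type*} [Group G] [Finite G] (H : Subgroup G) (hH : H ≠ ⊤) (heven : Even (Nat.card H)) : Cfsg.IsStronglyEmbedded H ↔ ∀ t ∈ H, orderOf t = 2 → Nat.card {c : G ⧸ H // t • c = c} = 1 := by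
  have hfix : ∀ t g : G, (t • (QuotientGroup.mk g : G ⧸ H) = QuotientGroup.mk g) ↔ g⁻¹ * t * g ∈ H := by
    intro t g
    rw [MulAction.Quotient.smul_mk, eq_comm, QuotientGroup.eq, smul_eq_mul, mul_assoc]
  constructor
  · rintro ⟨-, -, hse⟩ t ht hot
    have hone : (QuotientGroup.mk 1 : G ⧸ H) ∈ {c : G ⧸ H | t • c = c} :=
      (hfix t 1).2 (by rw [inv_one, one_mul, mul_one]; exact ht)
    haveI : Unique {c : G ⧸ H // t • c = c} :=
      { default := ⟨_, hone⟩
        uniq := fun ⟨c, hc⟩ => by
          obtain ⟨g, rfl⟩ := QuotientGroup.mk_surjective c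
          refine Subtype.ext (QuotientGroup.eq.2 ?_)
          rw [mul_one]
          refine inv_mem ?_
          by_contra hg
          have h2 := orderOf_dvd_natCard (⟨t, ht, ⟨g⁻¹ * t * g, (hfix t g).1 hc,
            show g * (g⁻¹ * t * g) * g⁻¹ = t by group⟩⟩ : ↥(H ⊓ H.map (MulAut.conj g).toMonoidHom))
          rw [← Subgroup.orderOf_coe] at h2
          change orderOf t ∣ _ at h2
          rw [hot] at h2
          exact Nat.not_even_iff_odd.2 (hse g hg) (even_iff_two_dvd.2 h2) }
    exact Nat.card_unique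
  · intro h
    refine ⟨hH, heven, fun g hg => ?_⟩
    by_contra hodd
    rw [Nat.not_odd_iff_even, even_iff_two_dvd] at hodd
    obtain ⟨⟨s, hsH, t, htH, hts⟩, hs⟩ := exists_prime_orderOf_dvd_card' 2 hodd
    rw [← Subgroup.orderOf_coe] at hs
    change orderOf s = 2 at hs
    replace hts : g * t * g⁻¹ = s := hts
    obtain ⟨hss, -⟩ := Nat.card_eq_one_iff_unique.1 (h s hsH hs)
    have h1 : s • (QuotientGroup.mk 1 : G ⧸ H) = QuotientGroup.mk 1 :=
      (hfix s 1).2 (by rw [inv_one, one_mul, mul_one]; exact hsH)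
    have h2 : s • (QuotientGroup.mk g : G ⧸ H) = QuotientGroup.mk g :=
      (hfix s g).2 (by rw [← hts, show g⁻¹ * (g * t * g⁻¹) * g = t by group]; exact htH)
    have := congrArg Subtype.val (hss.elim (⟨_, h1⟩ : {c : G ⧸ H // s • c = c}) ⟨_, h2⟩)
    rw [QuotientGroup.eq, inv_one, one_mul] at this
    exact hg this

end Cfsg.Agent.S0224
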