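import Cfsg.Statements.S0228
import Mathlib


set_option autoImplicit false
open Cfsg

namespace Cfsg.Agent.S0228

/-- A group of order 12 in which no involution is central is isomorphic to the alternating group on four letters. -/
theorem result {G : Type*} [Group G] [Finite G] (hG : Nat.card G = 12) (hz : ∀ z : G, orderOf z = 2 → z ∉ Subgroup.center G) : Nonempty (G ≃* alternatingGroup (Fin 4)) := by
  haveI : Fact (Nat.Prime 3) := ⟨Nat.prime_three⟩
  haveI : Fact (Nat.Prime 2) := ⟨Nat.prime_two⟩
  have hf3 : (12 : ℕ).factorization 3 = 1 := by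
    rw [show (12 : ℕ) = 3 ^ 1 * 4 by norm_num, Nat.factorization_mul (by norm_num) (by norm_num),
      Finsupp.add_apply, Nat.Prime.factorization_pow Nat.prime_three,
      Nat.factorization_eq_zero_of_not_dvd (by norm_num : ¬ 3 ∣ 4)]
    simp
  have hf2 : (12 : ℕ).factorization 2 = 2 := by
    rw [show (12 : ℕ) = 2 ^ 2 * 3 by norm_num, Nat.factorization_mul (by norm_num) (by norm_num),
      Finsupp.add_apply, Nat.Prime.factorization_pow Nat.prime_two,
      Nat.factorization_eq_zero_of_not_dvd (by norm_num : ¬ 2 ∣ 3)]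
    simp
  have hn3 : Nat.card (Sylow 3 G) = 4 := by
    obtain ⟨P⟩ : Nonempty (Sylow 3 G) := inferInstance
    have hP : Nat.card (P : Subgroup G) = 3 := by
      rw [P.card_eq_multiplicity, hG, hf3, pow_one]
    have hidx : (P : Subgroup G).index = 4 := by
      have := (P : Subgroup G).card_mul_index; rw [hP, hG] at this; omega
    have hdvd : Nat.card (Sylow 3 G) ∣ 4 := hidx ▸ P.card_dvd_index
    have hmod := card_sylow_modEq_one 3 G
    have hle := Nat.le_of_dvd (by norm_num) hdvd
    rcases (show Nat.card (Sylow 3 G) = 1 ∨ Nat.card (Sylow 3 G) = 4 by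
      unfold Nat.ModEq at hmod; omega) with h | h
    swap
    · exact h
    exfalso
    haveI : Subsingleton (Sylow 3 G) := (Nat.card_eq_one_iff_unique.1 h).1
    haveI : (P : Subgroup G).Normal := Sylow.normal_of_subsingleton P
    set C := Subgroup.centralizer ((P : Subgroup G) : Set G)
    haveI : IsCyclic (P : Subgroup G) := isCyclic_of_prime_card hP
    haveI : IsMulCommutative (P : Subgroup G) := IsCyclic.isMulCommutative
    have hC2 : 2 ∣ Nat.card C := by
      have hk := Subgroup.card_dvd_of_injective _
        (QuotientGroup.kerLift_injective P.normalizerMonoidHom)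
      rw [Subgroup.normalizerMonoidHom_ker, ← Subgroup.index, IsCyclic.card_mulAut, hP,
        Subgroup.index_eq_card] at hk
      by_contra hodd
      have hN : Subgroup.normalizer ((P : Subgroup G) : Set G) = ⊤ := Subgroup.normalizer_eq_top _
      have hcardN : Nat.card (Subgroup.normalizer ((P : Subgroup G) : Set G)) = 12 := by
        rw [hN, Subgroup.card_top, hG]
      have hCN : Nat.card (C.subgroupOf (Subgroup.normalizer ((P : Subgroup G) : Set G))) = Nat.card C :=
        Nat.card_congr (Subgroup.subgroupOfEquivOfLe (by rw [hN]; exact le_top)).toEquiv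
      rw [Nat.totient_prime Nat.prime_three] at hk
      have h4 := Subgroup.card_eq_card_quotient_mul_card_subgroup
        (C.subgroupOf (Subgroup.normalizer ((P : Subgroup G) : Set G)))
      rw [hcardN, hCN] at h4
      rw [← Subgroup.index_eq_card] at h4
      rcases (Nat.dvd_prime Nat.prime_two).1 hk with hi | hi <;> rw [Subgroup.index_eq_card] at h4
      · exact hodd ⟨6, by rw [hi] at h4; omega⟩
      · exact hodd ⟨3, by rw [hi] at h4; omega⟩
    obtain ⟨⟨z, hzC⟩, hz2⟩ := exists_prime_orderOf_dvd_card' 2 hC2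
    rw [Subgroup.orderOf_mk] at hz2
    refine hz z hz2 ?_
    obtain ⟨T, hT⟩ := (IsPGroup.of_card (n := 1)
      (by rw [Nat.card_zpowers, hz2, pow_one]) : IsPGroup 2 (Subgroup.zpowers z)).exists_le_sylow
    have hTc : Nat.card (T : Subgroup G) = 2 ^ 2 := by
      rw [T.card_eq_multiplicity, hG, hf2]
    haveI : IsMulCommutative (T : Subgroup G) := IsPGroup.isMulCommutative_of_card_eq_prime_sq hTc
    have htop : (P : Subgroup G) ⊔ T = ⊤ := by
      refine Subgroup.eq_top_of_card_eq _ (Nat.dvd_antisymm (Subgroup.card_subgroup_dvd_card _) ?_)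
      rw [hG, show (12 : ℕ) = 3 * 4 by norm_num]
      refine Nat.Coprime.mul_dvd_of_dvd_of_dvd (by norm_num) (hP.symm.dvd.trans (Subgroup.card_dvd_of_le le_sup_left)) ?_
      have := Subgroup.card_dvd_of_le (le_sup_right : (T : Subgroup G) ≤ (P : Subgroup G) ⊔ T)
      rwa [hTc] at this
    refine Subgroup.mem_center_iff.2 fun g => ?_
    have hg : g ∈ Subgroup.centralizer ({z} : Set G) := by
      refine (sup_le (fun a ha => ?_) (fun a ha => ?_) : (P : Subgroup G) ⊔ T ≤ _) (htop ▸ Subgroup.mem_top g)
      · exact Subgroup.mem_centralizer_singleton_iff.2 (Subgroup.mem_centralizer_iff.1 hzC a ha)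
      · exact Subgroup.mem_centralizer_singleton_iff.2
          (congrArg Subtype.val (mul_comm' (⟨a, ha⟩ : (T : Subgroup G)) ⟨z, hT (Subgroup.mem_zpowers z)⟩))
    exact Subgroup.mem_centralizer_singleton_iff.1 hg
  -- the action on the Sylow 3-subgroups
  obtain ⟨e⟩ : Nonempty (Sylow 3 G ≃ Fin 4) := ⟨Finite.equivFinOfCardEq hn3⟩
  let f : G →* Equiv.Perm (Fin 4) :=
    (Equiv.permCongrHom e).toMonoidHom.comp (MulAction.toPermHom G (Sylow 3 G))
  have hker : f.ker = ⊥ := by
    rw [show f.ker = (MulAction.toPermHom G (Sylow 3 G)).ker from by ext k; simp [f]]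
    set K := (MulAction.toPermHom G (Sylow 3 G)).ker
    by_contra hne
    obtain ⟨P⟩ : Nonempty (Sylow 3 G) := inferInstance
    have hP : Nat.card (P : Subgroup G) = 3 := by
      rw [P.card_eq_multiplicity, hG, hf3, pow_one]
    have hN : Nat.card (Subgroup.normalizer ((P : Subgroup G) : Set G)) = 3 := by
      have h1 := P.card_eq_index_normalizer
      rw [hn3] at h1
      have h2 := (Subgroup.normalizer ((P : Subgroup G) : Set G)).card_mul_index
      change 4 = (Subgroup.normalizer ((P : Subgroup G) : Set G)).index at h1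
      rw [← h1, hG] at h2; omega
    have hKN : ∀ Q : Sylow 3 G, K ≤ Subgroup.normalizer ((Q : Subgroup G) : Set G) := fun Q k hk => by
      have : k • Q = Q := DFunLike.congr_fun (MonoidHom.mem_ker.1 hk) Q
      exact Sylow.smul_eq_iff_mem_normalizer.1 this
    have hPeq : Subgroup.normalizer ((P : Subgroup G) : Set G) = (P : Subgroup G) :=
      (Subgroup.eq_of_le_of_card_ge Subgroup.le_normalizer (by rw [hN, hP])).symm
    have hKP : K = (P : Subgroup G) := by
      refine Subgroup.eq_of_le_of_card_ge (hPeq ▸ hKN P) ?_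
      have hd : Nat.card K ∣ 3 := hP ▸ Subgroup.card_dvd_of_le (hPeq ▸ hKN P)
      rcases (Nat.dvd_prime Nat.prime_three).1 hd with h | h
      · exact absurd (Subgroup.card_eq_one.1 h) hne
      · rw [h, hP]
    haveI : (P : Subgroup G).Normal := hKP ▸ MonoidHom.normal_ker _
    have h2 : Subgroup.normalizer ((P : Subgroup G) : Set G) = ⊤ := Subgroup.normalizer_eq_top _
    rw [h2, Subgroup.card_top, hG] at hN
    omega
  have hinj : Function.Injective f := (MonoidHom.ker_eq_bot_iff f).1 hker
  have hrange : f.range = alternatingGroup (Fin 4) := by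
    refine Equiv.Perm.eq_alternatingGroup_of_index_eq_two ?_
    have h := f.range.card_mul_index
    rw [Nat.card_congr (MonoidHom.ofInjective hinj).symm.toEquiv, hG, Nat.card_perm, Nat.card_fin] at h
    norm_num [Nat.factorial] at h
    omega
  exact ⟨(MonoidHom.ofInjective hinj).trans (MulEquiv.subgroupCongr hrange)⟩

end Cfsg.Agent.S0228
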