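import Cfsg.Statements.S0229
import Cfsg.Agent.Lib.Fusion.Involutions

set_option autoImplicit false
open Cfsg
open Cfsg.Agent.Fusion
open scoped commutatorElement

namespace Cfsg.Agent.S0229

/-- Let t be an involution of a Sylow 2-subgroup S of a finite group G, conjugate in G to no other element of S, and let s be an involution of G not conjugate to t. Then the order of st is twice an odd number. -/
theorem result {G : Type*} [Group G] [Finite G] (S : Sylow 2 G) (t : G) (ht : orderOf t = 2) (htS : t ∈ S) (hiso : ∀ g : G, g * t * g⁻¹ ∈ S → g * t * g⁻¹ = t) (s : G) (hs : orderOf s = 2) (hns : ¬ IsConj s t) : orderOf (s * t) % 4 = 2 := by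
  set n := orderOf (s * t)
  have hev : Even n := by
    by_contra h
    obtain ⟨m, hm⟩ := Nat.not_even_iff_odd.1 h
    obtain ⟨d, -, hd⟩ := exists_conj_invol hs ht ((m : ℤ) + 1)
    refine hns (isConj_iff.2 ⟨d, ?_⟩)
    rw [hd, show (2 * ((m : ℤ) + 1)) = ((n : ℕ) : ℤ) + 1 by rw [hm]; push_cast; ring,
      zpow_add_one, zpow_natCast, pow_orderOf_eq_one, one_mul, ← mul_assoc, invol_mul_self hs,
      one_mul]
  obtain ⟨m, hm⟩ := hev
  rcases Nat.even_or_odd m with ⟨e, he⟩ | ⟨e, he⟩
  · exfalso
    obtain ⟨d, -, hd⟩ := exists_conj_invol ht hs (e : ℤ)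
    have hord : orderOf (t * s) = n := by
      rw [← orderOf_inv, mul_inv_rev, invol_inv ht, invol_inv hs]
    have hd' : d * t * d⁻¹ = t * (t * s) ^ m := by
      rw [hd, two_mul, zpow_add, zpow_natCast, ← pow_add, ← he]
    have h1 := invol_conj_zpow ht hs (m : ℤ)
    rw [zpow_neg, zpow_natCast] at h1
    have h2 : ((t * s) ^ m)⁻¹ = (t * s) ^ m :=
      inv_eq_of_mul_eq_one_right (by rw [← pow_add, ← hm, ← hord, pow_orderOf_eq_one])
    rw [h2, mul_inv_eq_iff_eq_mul] at h1
    have hc : Commute t (d * t * d⁻¹) := by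
      rw [hd']
      exact (congrArg (t * ·) h1).trans (mul_assoc _ _ _).symm
    have h3 := eq_of_isolated ht htS hiso hc
    rw [hd', mul_eq_left] at h3
    have h5 := orderOf_dvd_of_pow_eq_one h3
    rw [hord] at h5
    have hn : 0 < n := orderOf_pos _
    have := Nat.le_of_dvd (by omega) h5
    omega
  · omega

end Cfsg.Agent.S0229
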