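import Cfsg.Statements.S0230
import Cfsg.Agent.Lib.Fusion.Involutions

set_option autoImplicit false
open Cfsg
open Cfsg.Agent.Fusion
open scoped commutatorElement

namespace Cfsg.Agent.S0230

/-- Let G be a finite group with two non-conjugate involutions, and let t be an involution whose centralizer has maximal order among centralizers of involutions. Then |G| < |C_G(t)|^3. -/
theorem result {G : Type*} [Group G] [Finite G] (s t : G) (hs : orderOf s = 2) (ht : orderOf t = 2) (hnc : ¬ IsConj s t) (hmax : ∀ u : G, orderOf u = 2 → Nat.card (Subgroup.centralizer ({u} : Set G)) ≤ Nat.card (Subgroup.centralizer ({t} : Set G))) : Nat.card G < Nat.card (Subgroup.centralizer ({t} : Set G)) ^ 3 := by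
  classical
  set Ct := Subgroup.centralizer ({t} : Set G)
  set Cs := Subgroup.centralizer ({s} : Set G)
  let Z := {z : Ct // orderOf (z : G) = 2}
  have key : ∀ g : G, ∃ z : Z, g * s * g⁻¹ ∈ Subgroup.centralizer ({((z.1 : Ct) : G)} : Set G) := by
    intro g
    set s' := g * s * g⁻¹
    have hs' : orderOf s' = 2 :=
      (orderOf_injective (MulAut.conj g).toMonoidHom (MulAut.conj g).injective s).trans hs
    set n := orderOf (s' * t)
    have heven : Even n := by
      by_contra h
      obtain ⟨m, hm⟩ := Nat.not_even_iff_odd.1 h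
      obtain ⟨d, -, hd⟩ := exists_conj_invol hs' ht ((m : ℤ) + 1)
      refine hnc (isConj_iff.2 ⟨d * g, ?_⟩)
      rw [show d * g * s * (d * g)⁻¹ = d * s' * d⁻¹ by simp only [s']; group, hd,
        show (2 * ((m : ℤ) + 1)) = ((n : ℕ) : ℤ) + 1 by rw [hm]; push_cast; ring,
        zpow_add_one, zpow_natCast, pow_orderOf_eq_one, one_mul, ← mul_assoc, invol_mul_self hs', one_mul]
    obtain ⟨m, hm⟩ := heven
    have hn : 0 < n := orderOf_pos _
    have hcs : Commute ((s' * t) ^ m) s' := by
      have h := invol_conj_zpow hs' ht (m : ℤ)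
      rw [zpow_neg, zpow_natCast] at h
      have h2 : ((s' * t) ^ m)⁻¹ = (s' * t) ^ m :=
        inv_eq_of_mul_eq_one_right (by rw [← pow_add, ← hm]; exact pow_orderOf_eq_one _)
      rw [h2, mul_inv_eq_iff_eq_mul] at h
      exact h.symm
    have hct : Commute ((s' * t) ^ m) t := by
      have h : Commute ((s' * t) ^ m) (s' * (s' * t)) :=
        hcs.mul_right ((Commute.refl (s' * t)).pow_left m)
      rwa [← mul_assoc, invol_mul_self hs', one_mul] at h
    refine ⟨⟨⟨(s' * t) ^ m, mem_centralizer_set.2 fun z hz => ?_⟩, ?_⟩, mem_centralizer_set.2 fun z hz => ?_⟩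
    · rw [Set.mem_singleton_iff.1 hz, hct.eq, mul_inv_cancel_right]
    · refine orderOf_eq_prime ?_ fun h => ?_
      · rw [← pow_mul, mul_two, ← hm]; exact pow_orderOf_eq_one _
      · have := Nat.le_of_dvd (by omega) (orderOf_dvd_of_pow_eq_one h)
        omega
    · rw [Set.mem_singleton_iff.1 hz]
      show s' * (s' * t) ^ m * s'⁻¹ = (s' * t) ^ m
      rw [hcs.symm.eq, mul_inv_cancel_right]
  choose f hf using key
  let F : G ⧸ Cs → Σ z : Z, Subgroup.centralizer ({((z.1 : Ct) : G)} : Set G) := fun q =>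
    ⟨f q.out, ⟨_, hf q.out⟩⟩
  have hFinj : Function.Injective F := by
    intro a b h
    have h' : a.out * s * a.out⁻¹ = b.out * s * b.out⁻¹ :=
      congrArg (fun w : Σ z : Z, Subgroup.centralizer ({((z.1 : Ct) : G)} : Set G) => (w.2 : G)) h
    rw [← QuotientGroup.out_eq' a, ← QuotientGroup.out_eq' b, QuotientGroup.eq]
    refine mem_centralizer_set.2 fun z hz => ?_
    rw [Set.mem_singleton_iff.1 hz]
    calc a.out⁻¹ * b.out * s * (a.out⁻¹ * b.out)⁻¹ = a.out⁻¹ * (b.out * s * b.out⁻¹) * a.out := by group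
      _ = a.out⁻¹ * (a.out * s * a.out⁻¹) * a.out := by rw [h']
      _ = s := by group
  haveI : Fintype G := Fintype.ofFinite G
  haveI : Fintype Z := Fintype.ofFinite Z
  have h1 : Nat.card (G ⧸ Cs) ≤ Nat.card Z * Nat.card Ct := by
    refine (Nat.card_le_card_of_injective F hFinj).trans ?_
    rw [Nat.card_sigma]
    refine (Finset.sum_le_card_nsmul _ _ _ fun z _ => hmax _ z.2).trans ?_
    rw [Finset.card_univ, smul_eq_mul, Nat.card_eq_fintype_card (α := Z)]
  have h2 : Nat.card Z < Nat.card Ct := by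
    refine Finite.card_subtype_lt (x := (1 : Ct)) ?_
    show ¬ orderOf ((1 : Ct) : G) = 2
    rw [Subgroup.coe_one, orderOf_one]; omega
  rw [Subgroup.card_eq_card_quotient_mul_card_subgroup Cs]
  have h3 : Nat.card Cs ≤ Nat.card Ct := hmax s hs
  have h4 : 0 < Nat.card Ct := Nat.card_pos
  calc Nat.card (G ⧸ Cs) * Nat.card Cs ≤ Nat.card Z * Nat.card Ct * Nat.card Ct :=
        Nat.mul_le_mul h1 h3
    _ < Nat.card Ct * Nat.card Ct * Nat.card Ct :=
        Nat.mul_lt_mul_of_pos_right (Nat.mul_lt_mul_of_pos_right h2 h4) h4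
    _ = Nat.card Ct ^ 3 := by ring

end Cfsg.Agent.S0230
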