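import Cfsg.Statements.S0231
import Cfsg.Agent.Lib.Fusion.Involutions

set_option autoImplicit false
open scoped Pointwise
open Cfsg
open Cfsg.Agent.Fusion
open scoped commutatorElement

namespace Cfsg.Agent.S0231

/-- Let T be a Sylow 2-subgroup of the finite group G which is not normal and which intersects every other Sylow 2-subgroup trivially. Then G has a single conjugacy class of involutions. -/
theorem result {G : Type*} [Group G] [Finite G] (T : Sylow 2 G) (hnn : ¬ (T : Subgroup G).Normal) (hTI : ∀ g : G, MulAut.conj g • (T : Subgroup G) ≠ T → MulAut.conj g • (T : Subgroup G) ⊓ T = ⊥) (s t : G) (hs : orderOf s = 2) (ht : orderOf t = 2) : IsConj s t := by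
  haveI : Fact (Nat.Prime 2) := ⟨Nat.prime_two⟩
  have hTI' : ∀ P Q : Sylow 2 G, ∀ z : G, z ≠ 1 → z ∈ P → z ∈ Q → P = Q := by
    intro P Q z hz hP hQ
    obtain ⟨a, rfl⟩ := MulAction.exists_smul_eq G T P
    obtain ⟨b, rfl⟩ := MulAction.exists_smul_eq G T Q
    by_contra hne
    have h1 : MulAut.conj (a⁻¹ * b) • (T : Subgroup G) ≠ T := fun h => hne (Sylow.ext (by
      show MulAut.conj a • (T : Subgroup G) = MulAut.conj b • (T : Subgroup G)
      conv_lhs => rw [← h]
      rw [smul_smul, ← map_mul, mul_inv_cancel_left]))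
    have h2 : a⁻¹ * z * a ∈ MulAut.conj (a⁻¹ * b) • (T : Subgroup G) ⊓ T := by
      refine ⟨?_, ?_⟩
      · obtain ⟨t, ht, htz⟩ := hQ
        refine ⟨t, ht, ?_⟩
        show a⁻¹ * b * t * (a⁻¹ * b)⁻¹ = a⁻¹ * z * a
        rw [← show b * t * b⁻¹ = z from htz]; group
      · obtain ⟨t, ht, htz⟩ := hP
        rw [← show a * t * a⁻¹ = z from htz, show a⁻¹ * (a * t * a⁻¹) * a = t by group]
        exact ht
    rw [hTI _ h1, Subgroup.mem_bot] at h2
    apply hz
    have := congrArg (fun w => a * w * a⁻¹) h2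
    simpa [mul_assoc] using this
  have hsyl : ∀ u : G, orderOf u = 2 → ∃ P : Sylow 2 G, u ∈ P := fun u hu => by
    obtain ⟨P, hP⟩ := (IsPGroup.of_card (n := 1)
      (by rw [Nat.card_zpowers, hu, pow_one]) : IsPGroup 2 (Subgroup.zpowers u)).exists_le_sylow
    exact ⟨P, hP (Subgroup.mem_zpowers u)⟩
  have hne1 : ∀ u : G, orderOf u = 2 → u ≠ 1 := fun u hu h => by rw [h, orderOf_one] at hu; omega
  have hcom : ∀ u v : G, orderOf u = 2 → orderOf v = 2 → Commute u v → ∀ P : Sylow 2 G, u ∈ P → v ∈ P := by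
    intro u v hu hv hc P hP
    obtain ⟨Q, hQ⟩ := (isPGroup_closure_commuting hu hv hc).exists_le_sylow
    rw [hTI' P Q u (hne1 u hu) hP (hQ (Subgroup.subset_closure (by simp)))]
    exact hQ (Subgroup.subset_closure (by simp))
  have hnc : ∀ u v : G, orderOf u = 2 → orderOf v = 2 → ¬ IsConj u v →
      ∀ P : Sylow 2 G, u ∈ P → v ∈ P := by
    intro u v hu hv hc P hP
    set n := orderOf (u * v)
    have heven : Even n := by
      by_contra hodd
      obtain ⟨m, hm⟩ := Nat.not_even_iff_odd.1 hodd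
      obtain ⟨d, -, hd⟩ := exists_conj_invol hu hv ((m : ℤ) + 1)
      refine hc (isConj_iff.2 ⟨d, ?_⟩)
      rw [hd, show (2 * ((m : ℤ) + 1)) = ((n : ℕ) : ℤ) + 1 by rw [hm]; push_cast; ring,
        zpow_add_one, zpow_natCast, pow_orderOf_eq_one, one_mul, ← mul_assoc, invol_mul_self hu,
        one_mul]
    obtain ⟨m, hm⟩ := heven
    have hz : orderOf ((u * v) ^ m) = 2 := by
      refine orderOf_eq_prime ?_ fun h => ?_
      · rw [← pow_mul, mul_two, ← hm]; exact pow_orderOf_eq_one _
      · have hn : 0 < n := orderOf_pos _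
        have := Nat.le_of_dvd (by omega) (orderOf_dvd_of_pow_eq_one h)
        omega
    have hcu : Commute ((u * v) ^ m) u := by
      have h := invol_conj_zpow hu hv (m : ℤ)
      rw [zpow_neg, zpow_natCast] at h
      have h2 : ((u * v) ^ m)⁻¹ = (u * v) ^ m :=
        inv_eq_of_mul_eq_one_right (by rw [← pow_add, ← hm]; exact pow_orderOf_eq_one _)
      rw [h2, mul_inv_eq_iff_eq_mul] at h
      exact h.symm
    have hcv : Commute ((u * v) ^ m) v := by
      have h : Commute ((u * v) ^ m) (u * (u * v)) :=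
        hcu.mul_right ((Commute.refl (u * v)).pow_left m)
      rwa [← mul_assoc, invol_mul_self hu, one_mul] at h
    exact hcom _ v hz hv hcv P (hcom u _ hu hz hcu.symm P hP)
  by_contra hst
  obtain ⟨P, hsP⟩ := hsyl s hs
  have hall : ∀ g : G, g * t * g⁻¹ ∈ P := fun g => by
    refine hnc s _ hs ?_ (fun h => hst (h.trans (isConj_iff.2 ⟨g, rfl⟩).symm)) P hsP
    exact (orderOf_injective (MulAut.conj g).toMonoidHom (MulAut.conj g).injective t).trans ht
  refine hnn ?_
  haveI : Subsingleton (Sylow 2 G) := by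
    refine ⟨fun Q R => ?_⟩
    have hmem : ∀ Q : Sylow 2 G, Q = P := fun Q => by
      obtain ⟨g, rfl⟩ := MulAction.exists_smul_eq G P Q
      refine (hTI' _ P (g * t * g⁻¹) (hne1 _ ?_) ?_ (hall g))
      · exact (orderOf_injective (MulAut.conj g).toMonoidHom (MulAut.conj g).injective t).trans ht
      · exact ⟨t, by have := hall 1; simpa using this, rfl⟩
    rw [hmem Q, hmem R]
  exact Sylow.normal_of_subsingleton T

end Cfsg.Agent.S0231
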