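import Cfsg.Statements.S0232
import Cfsg.Agent.Lib.Fusion.BrauerFowlerTools
import Cfsg.Agent.S0219

set_option autoImplicit false
open Cfsg Cfsg.Agent
open Cfsg.Agent.Fusion
open scoped commutatorElement

namespace Cfsg.Agent.S0232

/-- A finite group G of even order greater than 2 has a proper subgroup H with |G| < |H|^3. -/
theorem result {G : Type*} [Group G] [Finite G] (heven : Even (Nat.card G)) (hgt : 2 < Nat.card G) : ∃ H : Subgroup G, H ≠ ⊤ ∧ Nat.card G < (Nat.card H) ^ 3 := by
  induction' hn : Nat.card G using Nat.strong_induction_on with N ih generalizing G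
  subst hn
  by_cases h2 : ∃ H : Subgroup G, H.index = 2
  · obtain ⟨H, hH⟩ := h2
    refine ⟨H, fun h => by rw [h, Subgroup.index_top] at hH; omega, ?_⟩
    have h := H.card_mul_index
    rw [hH] at h
    have : 2 ≤ Nat.card H := by omega
    calc Nat.card G = Nat.card H * 2 := h.symm
      _ ≤ Nat.card H * Nat.card H := Nat.mul_le_mul_left _ this
      _ < Nat.card H * Nat.card H * Nat.card H := by
          refine lt_mul_of_one_lt_right (by positivity) (by omega)
      _ = _ := by ring
  rcases Nat.even_or_odd (Nat.card (Subgroup.center G)) with hZ | hZ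
  · obtain ⟨⟨t, htZ⟩, ht⟩ := exists_prime_orderOf_dvd_card' 2 hZ.two_dvd
    rw [Subgroup.orderOf_mk] at ht
    haveI : (Subgroup.zpowers t).Normal := ⟨fun x hx g => by
      have : x ∈ Subgroup.center G := (Subgroup.zpowers_le.2 htZ) hx
      rw [Subgroup.mem_center_iff.1 this g, mul_inv_cancel_right]; exact hx⟩
    have hcard : Nat.card (G ⧸ Subgroup.zpowers t) * 2 = Nat.card G := by
      rw [← ht, ← Nat.card_zpowers, ← Subgroup.card_eq_card_quotient_mul_card_subgroup]
    rcases Nat.even_or_odd (Nat.card (G ⧸ Subgroup.zpowers t)) with he | ho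
    · by_cases h4 : Nat.card (G ⧸ Subgroup.zpowers t) = 2
      · refine ⟨Subgroup.zpowers t, fun h => ?_, ?_⟩
        · have := Subgroup.card_top (G := G); rw [← h, Nat.card_zpowers, ht] at this; omega
        · rw [Nat.card_zpowers, ht]; omega
      · have hlt : Nat.card (G ⧸ Subgroup.zpowers t) < Nat.card G := by
          have := (Nat.card_pos (α := G ⧸ Subgroup.zpowers t)); omega
        obtain ⟨H, hH, hHc⟩ := ih _ hlt he (by
          have := (Nat.card_pos (α := G ⧸ Subgroup.zpowers t)); obtain ⟨k, hk⟩ := he; omega) rfl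
        refine ⟨H.comap (QuotientGroup.mk' _), fun h => hH ?_, ?_⟩
        · rw [← Subgroup.map_comap_eq_self_of_surjective (QuotientGroup.mk'_surjective _) H, h,
            Subgroup.map_top_of_surjective _ (QuotientGroup.mk'_surjective _)]
        · have hc2 : Nat.card (H.comap (QuotientGroup.mk' (Subgroup.zpowers t))) = Nat.card H * 2 := by
            have h1 := (H.comap (QuotientGroup.mk' (Subgroup.zpowers t))).card_mul_index
            rw [Subgroup.index_comap_of_surjective _ (QuotientGroup.mk'_surjective _), ← hcard,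
              ← H.card_mul_index, mul_right_comm] at h1
            exact Nat.eq_of_mul_eq_mul_right (Nat.pos_of_ne_zero H.index_ne_zero_of_finite) h1
          rw [hc2, ← hcard, mul_pow]
          calc _ < Nat.card H ^ 3 * 2 := Nat.mul_lt_mul_of_pos_right hHc two_pos
            _ ≤ _ := Nat.mul_le_mul_left _ (by norm_num)
    · exfalso
      obtain ⟨T, hT⟩ := IsPGroup.exists_le_sylow (P := Subgroup.zpowers t) (p := 2)
        (IsPGroup.of_card (n := 1) (by rw [Nat.card_zpowers, ht, pow_one]))
      have hTc : IsCyclic (T : Subgroup G) := by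
        obtain ⟨k, hk⟩ := IsPGroup.iff_card.1 T.isPGroup'
        have hd := Subgroup.card_subgroup_dvd_card (T : Subgroup G)
        rw [hk, ← hcard] at hd
        have hk1 : k ≤ 1 := by
          by_contra hk2
          obtain ⟨m, hm⟩ := ho
          have h4 : 2 ^ 2 ∣ Nat.card (G ⧸ Subgroup.zpowers t) * 2 := (pow_dvd_pow 2 (by omega)).trans hd
          rw [hm] at h4; norm_num at h4; omega
        interval_cases k
        · haveI := (Nat.card_eq_one_iff_unique.1 (hk.trans (pow_zero 2))).1
          infer_instance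
        · exact isCyclic_of_prime_card (p := 2) (hk.trans (pow_one 2))
      exact h2 (S0219.result heven T hTc)
  obtain ⟨H, hH, h | h⟩ := brauerFowler_subgroup heven hZ
  · exact absurd ⟨H, h⟩ h2
  obtain ⟨t, ht⟩ := exists_prime_orderOf_dvd_card' (G := G) 2 heven.two_dvd
  set C := Subgroup.centralizer ({t} : Set G) with hC
  set c := Nat.card C with hcdef
  have hCtop : C ≠ ⊤ := fun h => by
    have hc : t ∈ Subgroup.center G := by
      rw [Subgroup.mem_center_iff]; intro g
      exact Subgroup.mem_centralizer_singleton_iff.1 (hC ▸ h ▸ Subgroup.mem_top g)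
    have h2 : 2 ∣ Nat.card (Subgroup.center G) := ht ▸ Subgroup.orderOf_dvd_natCard _ hc
    exact (Nat.not_even_iff_odd.2 hZ) (even_iff_two_dvd.2 h2)
  have h1 := card_le_invol_mul_centralizer ht
  rw [← hC, ← hcdef] at h1
  set n := Nat.card {t : G // orderOf t = 2}
  have h3 : Nat.card G * (Nat.card G + n) ≤ (n * c) * (n * c + n) := Nat.mul_le_mul h1 (Nat.add_le_add_right h1 n)
  have h4 : 2 * H.index * n ^ 2 < (c * (c + 1)) * n ^ 2 := by
    calc _ < _ := h
      _ ≤ _ := h3
      _ = _ := by ring
  have h5 : H.index < c ^ 2 := by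
    have := Nat.lt_of_mul_lt_mul_right h4
    have : 1 ≤ c := Nat.card_pos
    nlinarith
  rw [← H.card_mul_index]
  rcases le_or_gt c (Nat.card H) with hle | hlt
  · refine ⟨H, hH, ?_⟩
    calc _ < Nat.card H * c ^ 2 := Nat.mul_lt_mul_of_pos_left h5 Nat.card_pos
      _ ≤ Nat.card H * Nat.card H ^ 2 := Nat.mul_le_mul_left _ (Nat.pow_le_pow_left hle 2)
      _ = _ := by ring
  · refine ⟨C, hCtop, ?_⟩
    rw [← hcdef]
    calc _ ≤ c * H.index := Nat.mul_le_mul_right _ hlt.le
      _ < c * c ^ 2 := Nat.mul_lt_mul_of_pos_left h5 Nat.card_pos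
      _ = _ := by ring

end Cfsg.Agent.S0232
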