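import Cfsg.Statements.S0234
import Cfsg.Agent.Lib.Fusion.BrauerFowlerTools
import Cfsg.Agent.Lib.Char.Burnside

set_option autoImplicit false
open Cfsg Cfsg.Agent
open Cfsg.Agent.Fusion
open scoped commutatorElement

namespace Cfsg.Agent.S0234

/-- In a finite simple group G of even order greater than 2, the number n of involutions satisfies 3n < |G|. -/
theorem result {G : Type*} [Group G] [Finite G] [IsSimpleGroup G] (heven : Even (Nat.card G)) (hgt : 2 < Nat.card G) : 3 * Nat.card {t : G // orderOf t = 2} < Nat.card G := by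
  by_contra hcon
  rw [not_lt] at hcon
  have hna : ¬ IsMulCommutative G := fun hna => by
    letI : CommGroup G := { ‹Group G› with mul_comm := fun a b => hna.is_comm.comm a b }
    have hp := IsSimpleGroup.prime_card (α := G)
    have := (Nat.prime_dvd_prime_iff_eq Nat.prime_two hp).1 heven.two_dvd
    omega
  have hZ : Odd (Nat.card (Subgroup.center G)) := by
    rw [center_eq_bot_of_simple hna, Subgroup.card_bot]; exact odd_one
  have hsolv : ¬ Group.IsSolvable G := fun hs =>
    hna ⟨⟨IsSimpleGroup.comm_iff_isSolvable.2 hs⟩⟩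
  have hN : 0 < Nat.card G := Nat.card_pos
  by_cases hall : ∀ H : Subgroup G, H ≠ ⊤ → 6 ≤ H.index
  · have h := brauerFowler_ineq hZ (no_index_two_of_simple hna) 6 hall
    set n := Nat.card {t : G // orderOf t = 2}
    have h2 : Nat.card G * (Nat.card G + n) ≤ (3 * n) * (3 * n + n) :=
      Nat.mul_le_mul hcon (Nat.add_le_add_right hcon n)
    nlinarith
  obtain ⟨H, hH, hH6⟩ : ∃ H : Subgroup G, H ≠ ⊤ ∧ H.index < 6 := by
    by_contra h; exact hall fun H hH => not_lt.1 fun h' => h ⟨H, hH, h'⟩
  have hd := card_dvd_factorial_index H hH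
  have h24 : ¬ Nat.card G ∣ 24 := fun h => hsolv (Char.isSolvable_of_two_primes Nat.prime_two Nat.prime_three _ rfl fun r hr hr' => by
    rcases (Nat.Prime.dvd_mul hr).1 (show r ∣ 2 ^ 3 * 3 from hr'.trans h) with h' | h'
    · exact Or.inl ((Nat.prime_dvd_prime_iff_eq hr Nat.prime_two).1 (hr.dvd_of_dvd_pow h'))
    · exact Or.inr ((Nat.prime_dvd_prime_iff_eq hr Nat.prime_three).1 h'))
  have h5 : H.index = 5 := by
    have h0 := H.index_ne_zero_of_finite
    rcases (show H.index ≤ 4 ∨ H.index = 5 by omega) with h | h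
    · exact absurd (hd.trans (Nat.factorial_dvd_factorial h)) h24
    · exact h
  obtain ⟨e⟩ : Nonempty ((G ⧸ H) ≃ Fin 5) := ⟨Finite.equivFinOfCardEq (by rw [← Subgroup.index_eq_card]; exact h5)⟩
  let φ : G →* Equiv.Perm (Fin 5) := (e.permCongrHom.toMonoidHom).comp (MulAction.toPermHom G (G ⧸ H))
  have hφ : Function.Injective φ := by
    rw [← MonoidHom.ker_eq_bot_iff]
    refine (IsSimpleGroup.eq_bot_or_eq_top_of_normal _ φ.normal_ker).resolve_right fun h => hH ?_
    refine (Subgroup.eq_top_iff' H).2 fun g => ?_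
    have h1 : φ g = 1 := MonoidHom.mem_ker.1 (by rw [h]; exact Subgroup.mem_top g)
    have h2 : MulAction.toPermHom G (G ⧸ H) g = 1 :=
      e.permCongrHom.injective (h1.trans (map_one _).symm)
    have h3 := Equiv.congr_fun h2 (QuotientGroup.mk 1)
    change (QuotientGroup.mk (g * 1) : G ⧸ H) = QuotientGroup.mk 1 at h3
    have := QuotientGroup.eq.1 h3
    simpa using this
  have hA : ∀ g, φ g ∈ alternatingGroup (Fin 5) := fun g => by
    let ψ : G →* ℤˣ := Equiv.Perm.sign.comp φ
    rcases IsSimpleGroup.eq_bot_or_eq_top_of_normal _ ψ.normal_ker with h | h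
    · exact absurd ⟨⟨fun a b => (MonoidHom.ker_eq_bot_iff ψ).1 h
        (by rw [map_mul, map_mul, mul_comm])⟩⟩ hna
    · exact (h ▸ Subgroup.mem_top g : g ∈ ψ.ker)
  let ρ : G →* alternatingGroup (Fin 5) := φ.codRestrict _ hA
  have hρ : Function.Injective ρ := fun a b h => hφ (congrArg Subtype.val h)
  have hA60 : Nat.card (alternatingGroup (Fin 5)) = 60 := by
    rw [nat_card_alternatingGroup, Nat.card_fin]; rfl
  by_cases htop : ρ.range = ⊤
  · have e' : G ≃* alternatingGroup (Fin 5) :=
      MulEquiv.ofBijective ρ ⟨hρ, MonoidHom.range_eq_top.1 htop⟩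
    have hn : Nat.card {t : G // orderOf t = 2} = Nat.card {t : alternatingGroup (Fin 5) // t ≠ 1 ∧ t * t = 1} :=
      Nat.card_congr (e'.toEquiv.subtypeEquiv fun t => by
        show orderOf t = 2 ↔ e' t ≠ 1 ∧ e' t * e' t = 1
        rw [← e'.orderOf_eq t, orderOf_eq_prime_iff, sq]
        exact and_comm)
    have h15 : Fintype.card {t : alternatingGroup (Fin 5) // t ≠ 1 ∧ t * t = 1} = 15 := by decide
    rw [hn, Nat.card_eq_fintype_card (α := {t : alternatingGroup (Fin 5) // t ≠ 1 ∧ t * t = 1}), h15,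
      Nat.card_congr e'.toEquiv, hA60] at hcon
    omega
  · have hd2 := card_dvd_factorial_index ρ.range htop
    rw [hA60] at hd2
    have hc : Nat.card ρ.range = Nat.card G := Nat.card_congr (MonoidHom.ofInjective hρ).toEquiv.symm
    have hi := ρ.range.card_mul_index
    rw [hc, hA60] at hi
    have hi5 : 5 ≤ ρ.range.index := by
      by_contra h
      have := hd2.trans (Nat.factorial_dvd_factorial (show ρ.range.index ≤ 4 by omega))
      norm_num [Nat.factorial] at this
    have hdvd5 : 5 ∣ Nat.card G := h5 ▸ Subgroup.index_dvd_card H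
    have hle : Nat.card G ≤ 12 := by nlinarith
    have h10 : Nat.card G = 10 := by
      obtain ⟨a, ha⟩ := hdvd5
      obtain ⟨b, hb⟩ := heven
      omega
    haveI : Fact (Nat.Prime 5) := ⟨by norm_num⟩
    obtain ⟨x, hx⟩ := exists_prime_orderOf_dvd_card' (G := G) 5 hdvd5
    refine no_index_two_of_simple hna (Subgroup.zpowers x) ?_
    have := (Subgroup.zpowers x).card_mul_index
    rw [Nat.card_zpowers, hx, h10] at this
    omega

end Cfsg.Agent.S0234
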