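import Cfsg.Statements.S0235
import Cfsg.Agent.Lib.Fusion.Dihedral
import Cfsg.Agent.Lib.Fusion.Basic

set_option autoImplicit false
open Cfsg
open Cfsg.Agent.Fusion
open scoped commutatorElement

namespace Cfsg.Agent.S0235

/-- If x² ≠ 1, the ordered pairs (u, v) of involutions with uv = x correspond bijectively to the involutions t with t x t⁻¹ = x⁻¹ (via (u, v) ↦ u), so the two counts agree. -/
theorem result {G : Type*} [Group G] [Finite G] (x : G) (hx : x ^ 2 ≠ 1) : Nat.card {p : G × G // orderOf p.1 = 2 ∧ orderOf p.2 = 2 ∧ p.1 * p.2 = x} = Nat.card {t : G // orderOf t = 2 ∧ t * x * t⁻¹ = x⁻¹} := by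
  refine Nat.card_congr
    { toFun := fun p => ⟨p.1.1, p.2.1, ?_⟩
      invFun := fun t => ⟨(t.1, t.1 * x), t.2.1, ?_, ?_⟩
      left_inv := fun p => ?_
      right_inv := fun t => rfl }
  · obtain ⟨⟨s, t⟩, hs, ht, hst⟩ := p
    show s * x * s⁻¹ = x⁻¹
    rw [← hst, ← mul_assoc, invol_mul_self hs, one_mul, mul_inv_rev, invol_inv hs, invol_inv ht]
  · obtain ⟨t, ht, hc⟩ := t
    refine orderOf_eq_prime ?_ fun h => hx ?_
    · rw [sq, show t * x * (t * x) = (t * x * t⁻¹) * (t * t) * x by group, hc, invol_mul_self ht,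
        mul_one, inv_mul_cancel]
    · have hxt : x = t := by
        rw [← one_mul x, ← invol_mul_self ht, mul_assoc, show t * x = 1 from h, mul_one]
      rw [hxt, sq, invol_mul_self ht]
  · show t.1 * (t.1 * x) = x
    rw [← mul_assoc, invol_mul_self t.2.1, one_mul]
  · obtain ⟨⟨s, t⟩, hs, ht, hst⟩ := p
    refine Subtype.ext (Prod.ext rfl ?_)
    show s * x = t
    rw [← hst, ← mul_assoc, invol_mul_self hs, one_mul]

end Cfsg.Agent.S0235
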