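import Cfsg.Statements.S0236
import Cfsg.Agent.Lib.Fusion.Dihedral
import Cfsg.Agent.Lib.Fusion.Basic

set_option autoImplicit false
open Cfsg
open Cfsg.Agent.Fusion
open scoped commutatorElement

namespace Cfsg.Agent.S0236

/-- If x is an involution, the number of ordered pairs (u, v) of involutions with uv = x, plus one, equals the number of involutions in the centralizer of x. -/
theorem result {G : Type*} [Group G] [Finite G] (x : G) (hx : orderOf x = 2) : Nat.card {p : G × G // orderOf p.1 = 2 ∧ orderOf p.2 = 2 ∧ p.1 * p.2 = x} + 1 = Nat.card {t : G // orderOf t = 2 ∧ Commute t x} := by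
  classical
  haveI : Fintype G := Fintype.ofFinite G
  let T := {t : G // orderOf t = 2 ∧ Commute t x}
  let x' : T := ⟨x, hx, Commute.refl x⟩
  have hne : ∀ t : G, orderOf t = 2 → t * x ≠ 1 → Commute t x → orderOf (t * x) = 2 := by
    intro t ht h hc
    refine orderOf_eq_prime ?_ h
    rw [hc.mul_pow, sq, sq, invol_mul_self ht, invol_mul_self hx, one_mul]
  have e : {p : G × G // orderOf p.1 = 2 ∧ orderOf p.2 = 2 ∧ p.1 * p.2 = x} ≃
      {t : T // t ≠ x'} :=
    { toFun := fun p => ⟨⟨p.1.1, p.2.1, by
          obtain ⟨⟨s, t⟩, hs, ht, hst⟩ := p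
          show s * x = x * s
          have h1 : t * s = s * t := by
            have : (s * t)⁻¹ = s * t := by rw [hst]; exact invol_inv hx
            rwa [mul_inv_rev, invol_inv hs, invol_inv ht] at this
          rw [← hst, mul_assoc s t s, h1]⟩, fun h => by
          obtain ⟨⟨s, t⟩, hs, ht, hst⟩ := p
          have h' : s = x := congrArg Subtype.val h
          rw [h'] at hst
          have ht1 : t = 1 := by
            have := hst; rwa [mul_eq_left] at this
          rw [ht1, orderOf_one] at ht
          exact absurd ht (by norm_num)⟩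
      invFun := fun t => ⟨(t.1.1, t.1.1 * x), t.1.2.1, hne _ t.1.2.1 (fun h => t.2 (Subtype.ext (by
          show t.1.1 = x
          rw [← mul_one t.1.1, ← invol_mul_self hx, ← mul_assoc, h, one_mul]))) t.1.2.2,
        by rw [← mul_assoc, invol_mul_self t.1.2.1, one_mul]⟩
      left_inv := fun p => by
        obtain ⟨⟨s, t⟩, hs, ht, hst⟩ := p
        refine Subtype.ext (Prod.ext rfl ?_)
        show s * x = t
        rw [← hst, ← mul_assoc, invol_mul_self hs, one_mul]
      right_inv := fun t => rfl }
  rw [Nat.card_congr e]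
  show Nat.card {t : T // t ≠ x'} + 1 = Nat.card T
  rw [← Nat.card_congr (Equiv.optionSubtypeNe x'), Finite.card_option]

end Cfsg.Agent.S0236
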