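import Cfsg.Statements.S0237
import Cfsg.Agent.Lib.Fusion.Dihedral
import Cfsg.Agent.Lib.Fusion.Basic

set_option autoImplicit false
open Cfsg
open Cfsg.Agent.Fusion
open scoped commutatorElement

namespace Cfsg.Agent.S0237

/-- If x is real (conjugate to x⁻¹) in a finite group G, the number of g with g x g⁻¹ = x⁻¹ equals |C_G(x)|. -/
theorem result {G : Type*} [Group G] [Finite G] (x : G) (hreal : IsConj x x⁻¹) : Nat.card {g : G // g * x * g⁻¹ = x⁻¹} = Nat.card (Subgroup.centralizer ({x} : Set G)) := by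
  obtain ⟨g₀, hg₀⟩ := isConj_iff.1 hreal
  refine Nat.card_congr
    { toFun := fun g => ⟨g₀⁻¹ * g.1, mem_centralizer_set.2 ?_⟩
      invFun := fun c => ⟨g₀ * c.1, ?_⟩
      left_inv := fun g => Subtype.ext (mul_inv_cancel_left g₀ g.1)
      right_inv := fun c => Subtype.ext (inv_mul_cancel_left g₀ c.1) }
  · rintro s rfl
    calc g₀⁻¹ * g.1 * s * (g₀⁻¹ * g.1)⁻¹ = g₀⁻¹ * (g.1 * s * g.1⁻¹) * g₀ := by group
      _ = g₀⁻¹ * (g₀ * s * g₀⁻¹) * g₀ := by rw [g.2, hg₀]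
      _ = s := by group
  · have h := mem_centralizer_set.1 c.2 x rfl
    calc g₀ * c.1 * x * (g₀ * c.1)⁻¹ = g₀ * (c.1 * x * c.1⁻¹) * g₀⁻¹ := by group
      _ = x⁻¹ := by rw [h, hg₀]

end Cfsg.Agent.S0237
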