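import Cfsg.Statements.S0238
import Cfsg.Agent.Lib.Fusion.Involutions

set_option autoImplicit false
open Cfsg
open Cfsg.Agent.Fusion
open scoped commutatorElement

namespace Cfsg.Agent.S0238

/-- For every x in a finite group G, the number c of ordered pairs (u, v) of involutions with uv = x is at most |C_G(x)|; c = 0 when x is not conjugate to x⁻¹; and c + 2 ≤ |C_G(x)| when x is an involution. -/
theorem result {G : Type*} [Group G] [Finite G] (x : G) : Nat.card {p : G × G // orderOf p.1 = 2 ∧ orderOf p.2 = 2 ∧ p.1 * p.2 = x} ≤ Nat.card (Subgroup.centralizer ({x} : Set G)) ∧ (¬ IsConj x x⁻¹ → Nat.card {p : G × G // orderOf p.1 = 2 ∧ orderOf p.2 = 2 ∧ p.1 * p.2 = x} = 0) ∧ (orderOf x = 2 → Nat.card {p : G × G // orderOf p.1 = 2 ∧ orderOf p.2 = 2 ∧ p.1 * p.2 = x} + 2 ≤ Nat.card (Subgroup.centralizer ({x} : Set G))) := by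
  classical
  set C := Subgroup.centralizer ({x} : Set G)
  let P := {p : G × G // orderOf p.1 = 2 ∧ orderOf p.2 = 2 ∧ p.1 * p.2 = x}
  have hinv : ∀ p : P, p.1.1 * x * p.1.1⁻¹ = x⁻¹ := by
    rintro ⟨⟨s, t⟩, hs, ht, hst⟩
    show s * x * s⁻¹ = x⁻¹
    rw [← hst, ← mul_assoc, invol_mul_self hs, one_mul, mul_inv_rev, invol_inv hs, invol_inv ht]
  have hfst : ∀ p q : P, p.1.1 = q.1.1 → p = q := by
    rintro ⟨⟨s, t⟩, hs, ht, hst⟩ ⟨⟨s', t'⟩, hs', ht', hst'⟩ (rfl : s = s')
    refine Subtype.ext (Prod.ext rfl ?_)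
    exact mul_left_cancel (hst.trans hst'.symm)
  refine ⟨?_, fun h => ?_, fun hx => ?_⟩
  · rcases isEmpty_or_nonempty P with he | ⟨⟨p₀⟩⟩
    · exact (Nat.card_of_isEmpty (α := P)).le.trans (Nat.zero_le _)
    refine Nat.card_le_card_of_injective
      (fun p : P => (⟨p₀.1.1⁻¹ * p.1.1, mem_centralizer_set.2 fun z hz => ?_⟩ : C)) fun p q h =>
      hfst p q (mul_left_cancel (congrArg Subtype.val h))
    rw [Set.mem_singleton_iff.1 hz]
    calc p₀.1.1⁻¹ * p.1.1 * x * (p₀.1.1⁻¹ * p.1.1)⁻¹ = p₀.1.1⁻¹ * (p.1.1 * x * p.1.1⁻¹) * p₀.1.1 := by group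
      _ = p₀.1.1⁻¹ * (p₀.1.1 * x * p₀.1.1⁻¹) * p₀.1.1 := by rw [hinv p, hinv p₀]
      _ = x := by group
  · haveI : IsEmpty P := ⟨fun p => h (isConj_iff.2 ⟨_, hinv p⟩)⟩
    exact Nat.card_of_isEmpty
  · have hcC : ∀ p : P, p.1.1 ∈ C := fun p => mem_centralizer_set.2 fun z hz => by
      rw [Set.mem_singleton_iff.1 hz, hinv p, invol_inv hx]
    let f : Option (Option P) → C := fun o => match o with
      | none => 1
      | some none => ⟨x, mem_centralizer_set.2 fun z hz => by rw [Set.mem_singleton_iff.1 hz]; group⟩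
      | some (some p) => ⟨p.1.1, hcC p⟩
    have hx1 : x ≠ 1 := fun h => by rw [h, orderOf_one] at hx; omega
    have hp1 : ∀ p : P, p.1.1 ≠ 1 := fun p h => by
      have := p.2.1; rw [h, orderOf_one] at this; omega
    have hpx : ∀ p : P, p.1.1 ≠ x := fun p h => by
      have h2 := p.2.2.2
      rw [h, mul_eq_left] at h2
      have := p.2.2.1; rw [h2, orderOf_one] at this; omega
    have hf : Function.Injective f := by
      intro a b h
      have h' := congrArg Subtype.val h
      match a, b with
      | none, none => rfl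
      | none, some none => exact absurd h'.symm hx1
      | none, some (some p) => exact absurd h'.symm (hp1 p)
      | some none, none => exact absurd h' hx1
      | some none, some none => rfl
      | some none, some (some p) => exact absurd h'.symm (hpx p)
      | some (some p), none => exact absurd h' (hp1 p)
      | some (some p), some none => exact absurd h' (hpx p)
      | some (some p), some (some q) => rw [hfst p q h']
    have := Nat.card_le_card_of_injective f hf
    simp only [Finite.card_option] at this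
    exact this

end Cfsg.Agent.S0238
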