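import Cfsg.Statements.S0239
import Cfsg.Agent.Lib.Fusion.Dihedral
import Cfsg.Agent.Lib.Fusion.Basic

set_option autoImplicit false
open Cfsg
open Cfsg.Agent.Fusion
open scoped commutatorElement

namespace Cfsg.Agent.S0239

/-- If some nontrivial element x of a finite group G is conjugate to x⁻¹, then |G| is even. -/
theorem result {G : Type*} [Group G] [Finite G] (x : G) (hx : x ≠ 1) (hreal : IsConj x x⁻¹) : Even (Nat.card G) := by
  by_contra hne
  obtain ⟨g, hg⟩ := isConj_iff.1 hreal
  have hodd : Odd (orderOf g) := Odd.of_dvd_nat (Nat.not_even_iff_odd.1 hne) (orderOf_dvd_natCard g)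
  have hg' : g * x⁻¹ * g⁻¹ = x := by
    have := congrArg (·⁻¹) hg
    simpa [mul_assoc] using this
  have h2 : g * g * x * (g * g)⁻¹ = x := by
    calc g * g * x * (g * g)⁻¹ = g * (g * x * g⁻¹) * g⁻¹ := by group
      _ = x := by rw [hg, hg']
  obtain ⟨m, hm⟩ := hodd
  have hC : g ^ 2 ∈ Subgroup.centralizer ({x} : Set G) :=
    mem_centralizer_set.2 fun s hs => by rw [Set.mem_singleton_iff.1 hs, sq]; exact h2
  have hgC : g ∈ Subgroup.centralizer ({x} : Set G) := by
    have := pow_mem hC (m + 1)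
    rwa [← pow_mul, show 2 * (m + 1) = orderOf g + 1 by omega, pow_succ, pow_orderOf_eq_one,
      one_mul] at this
  have h3 : x⁻¹ = x := hg.symm.trans (mem_centralizer_set.1 hgC x rfl)
  have hx2 : orderOf x = 2 := orderOf_eq_prime (by rw [sq]; nth_rewrite 1 [← h3]; rw [inv_mul_cancel]) hx
  exact hne (even_iff_two_dvd.2 (hx2 ▸ orderOf_dvd_natCard x))

end Cfsg.Agent.S0239
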