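import Cfsg.Statements.S0240
import Cfsg.Agent.Lib.Fusion.Involutions

set_option autoImplicit false
open Cfsg
open Cfsg.Agent.Fusion
open scoped commutatorElement

namespace Cfsg.Agent.S0240

/-- Let G be a finite group with n involutions and H a subgroup with |H|·(n+1) > |G|. Then some nontrivial h ∈ H is strongly real in G: an involution t of G satisfies t h t⁻¹ = h⁻¹. -/
theorem result {G : Type*} [Group G] [Finite G] (H : Subgroup G) (hH : Nat.card G < Nat.card H * (Nat.card {t : G // orderOf t = 2} + 1)) : ∃ h : G, h ∈ H ∧ h ≠ 1 ∧ ∃ t : G, orderOf t = 2 ∧ t * h * t⁻¹ = h⁻¹ := by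
  classical
  let I := {t : G // orderOf t = 2}
  let f : Option I → G ⧸ H := fun o => match o with
    | none => QuotientGroup.mk 1
    | some t => QuotientGroup.mk t.1
  have hlt : Nat.card (G ⧸ H) < Nat.card (Option I) := by
    rw [Finite.card_option]
    rw [Subgroup.card_eq_card_quotient_mul_card_subgroup H, mul_comm] at hH
    exact Nat.lt_of_mul_lt_mul_left hH
  have hni : ¬ Function.Injective f := fun hf => absurd (Nat.card_le_card_of_injective f hf) (not_le.2 hlt)
  simp only [Function.Injective, not_forall] at hni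
  obtain ⟨a, b, hab, hne⟩ := hni
  have hsingle : ∀ t : I, (QuotientGroup.mk (1 : G) : G ⧸ H) = QuotientGroup.mk t.1 →
      ∃ h : G, h ∈ H ∧ h ≠ 1 ∧ ∃ s : G, orderOf s = 2 ∧ s * h * s⁻¹ = h⁻¹ := fun t ht => by
    refine ⟨t.1, ?_, fun h1 => ?_, t.1, t.2, ?_⟩
    · have := QuotientGroup.eq.1 ht
      simpa using this
    · have := t.2; rw [h1, orderOf_one] at this; omega
    · rw [invol_inv t.2, invol_mul_self t.2, one_mul]
  match a, b with
  | none, none => exact absurd rfl hne
  | none, some t => exact hsingle t hab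
  | some t, none => exact hsingle t hab.symm
  | some s, some t =>
    refine ⟨s.1⁻¹ * t.1, QuotientGroup.eq.1 hab, fun h1 => hne ?_, s.1, s.2, ?_⟩
    · rw [inv_mul_eq_one] at h1
      rw [Subtype.ext h1]
    · rw [mul_inv_rev, inv_inv, invol_inv t.2, invol_inv s.2, ← mul_assoc s.1 s.1, invol_mul_self s.2, one_mul]

end Cfsg.Agent.S0240
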