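import Cfsg.Statements.S0241
import Cfsg.Agent.Lib.Fusion.Dihedral
import Cfsg.Agent.Lib.Fusion.Basic

set_option autoImplicit false
open Cfsg
open Cfsg.Agent.Fusion
open scoped commutatorElement

namespace Cfsg.Agent.S0241

/-- If x ≠ 1 is conjugate to x⁻¹ in a finite group G and |C_G(x)| is odd, then some involution t satisfies t x t⁻¹ = x⁻¹. -/
theorem result {G : Type*} [Group G] [Finite G] (x : G) (hx : x ≠ 1) (hreal : IsConj x x⁻¹) (hodd : Odd (Nat.card (Subgroup.centralizer ({x} : Set G)))) : ∃ t : G, orderOf t = 2 ∧ t * x * t⁻¹ = x⁻¹ := by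
  obtain ⟨g, hg⟩ := isConj_iff.1 hreal
  have hg' : g * x⁻¹ * g⁻¹ = x := by
    have := congrArg (·⁻¹) hg
    simpa [mul_assoc] using this
  have hC2 : g ^ 2 ∈ Subgroup.centralizer ({x} : Set G) := mem_centralizer_set.2 fun s hs => by
    rw [Set.mem_singleton_iff.1 hs, sq]
    calc g * g * x * (g * g)⁻¹ = g * (g * x * g⁻¹) * g⁻¹ := by group
      _ = x := by rw [hg, hg']
  set C := Subgroup.centralizer ({x} : Set G)
  obtain ⟨m, hm⟩ := hodd.of_dvd_nat (orderOf_dvd_natCard (⟨g ^ 2, hC2⟩ : C))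
  rw [Subgroup.orderOf_mk] at hm
  have hgpow : ∀ i : ℕ, g ^ (2 * i + 1) * x * (g ^ (2 * i + 1))⁻¹ = x⁻¹ := fun i => by
    have h := mem_centralizer_set.1 (pow_mem hC2 i) x rfl
    rw [← pow_mul] at h
    calc g ^ (2 * i + 1) * x * (g ^ (2 * i + 1))⁻¹ = g * (g ^ (2 * i) * x * (g ^ (2 * i))⁻¹) * g⁻¹ := by
          rw [pow_succ']; group
      _ = x⁻¹ := by rw [h, hg]
  refine ⟨g ^ (2 * m + 1), orderOf_eq_prime ?_ fun h => ?_, hgpow m⟩
  · rw [← pow_mul, mul_comm, pow_mul, ← hm, pow_orderOf_eq_one]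
  · have h3 : x⁻¹ = x := by
      have := hgpow m
      rw [h, one_mul, inv_one, mul_one] at this
      exact this.symm
    have hx2 : orderOf x = 2 :=
      orderOf_eq_prime (by rw [sq]; nth_rewrite 1 [← h3]; rw [inv_mul_cancel]) hx
    have hxC : x ∈ C := mem_centralizer_set.2 fun s hs => by
      rw [Set.mem_singleton_iff.1 hs]; group
    have h4 := orderOf_dvd_natCard (⟨x, hxC⟩ : C)
    rw [Subgroup.orderOf_mk, hx2] at h4
    exact Nat.not_even_iff_odd.2 hodd (even_iff_two_dvd.2 h4)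

end Cfsg.Agent.S0241
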