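import Cfsg.Statements.S0269
import Cfsg.Agent.Lib.Classical.SpGeneration
import Cfsg.Agent.Lib.Small.PSpn.Simple

set_option autoImplicit false
open Cfsg

namespace Cfsg.Agent.S0269

/-- Sp_{2m}(q) is perfect except for Sp_2(2), Sp_2(3) and Sp_4(2): stated as m at least 3, or m = 2 and q at least 3, or q at least 4. -/
theorem result {F : Type*} [Field F] [Fintype F] (m : ℕ) (h : 3 ≤ m ∨ (m = 2 ∧ 3 ≤ Fintype.card F) ∨ 4 ≤ Fintype.card F) : commutator (Matrix.symplecticGroup (Fin m) F) = ⊤ := by
  classical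
  by_cases h4 : 4 ≤ Fintype.card F
  · obtain ⟨a, -, ha⟩ := Finset.exists_mem_notMem_of_card_lt_card (s := ({0, 1, -1} : Finset F)) (t := Finset.univ)
      (by rw [Finset.card_univ]; exact lt_of_le_of_lt Finset.card_le_three (by omega))
    simp only [Finset.mem_insert, Finset.mem_singleton, not_or] at ha
    exact Cfsg.Agent.Classical.SpGen.commutator_eq_top ha.1 fun e => (mul_self_eq_one_iff.mp e).elim ha.2.1 ha.2.2
  · exact Cfsg.Agent.Small.PSpn.sp_commutator_eq_top (by omega) (fun hm => by omega)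

end Cfsg.Agent.S0269
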