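import Cfsg.Statements.S0274
import Cfsg.Agent.Lib.Fusion.Dickson

set_option autoImplicit false
open Cfsg
open Cfsg.Agent.Fusion
open scoped commutatorElement

namespace Cfsg.Agent.S0274

/-- Dickson's Theorem for SL_2: if p is odd and H is a subgroup of SL_2(q), q a power of p, with more than one Sylow p-subgroup, then H contains a copy of SL_2(p). -/
theorem result {F : Type*} [Field F] [Fintype F] (p : ℕ) [Fact p.Prime] [CharP F p] (hp : p ≠ 2) (H : Subgroup (Matrix.SpecialLinearGroup (Fin 2) F)) (hH : 1 < Nat.card (Sylow p H)) : ∃ K : Subgroup (Matrix.SpecialLinearGroup (Fin 2) F), K ≤ H ∧ Nonempty (K ≃* Matrix.SpecialLinearGroup (Fin 2) (ZMod p)) := by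
  classical
  refine Cfsg.Agent.Fusion.Dickson.exists_sl2_le p hp H ?_
  by_contra hcon
  push Not at hcon
  obtain ⟨P, Q, hPQ⟩ : ∃ P Q : Sylow p H, P ≠ Q := by
    haveI : Nontrivial (Sylow p H) := Finite.one_lt_card_iff_nontrivial.1 hH
    exact exists_pair_ne _
  have hp1 : ∀ (R : Sylow p H) (x : H), x ∈ (R : Subgroup H) →
      (x : Matrix.SpecialLinearGroup (Fin 2) F) ^ p = 1 := by
    intro R x hx
    obtain ⟨j, hj⟩ := R.2 ⟨x, hx⟩
    exact Cfsg.Agent.Fusion.Dickson.pow_eq_one_of_tr p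
      (Cfsg.Agent.Fusion.Dickson.tr_of_pow_eq_one p (congrArg Subtype.val (congrArg Subtype.val hj)))
  have hc : (P : Subgroup H) ≤ Subgroup.normalizer ((Q : Subgroup H) : Set H) := by
    intro x hx
    rw [Subgroup.mem_normalizer_iff]
    intro y
    constructor
    · intro hy
      have e : x * y = y * x := Subtype.ext
        (hcon _ x.2 _ y.2 (hp1 P x hx) (hp1 Q y hy))
      rwa [e, mul_inv_cancel_right]
    · intro hy
      have e : x * (x * y * x⁻¹) = (x * y * x⁻¹) * x := Subtype.ext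
        (hcon _ x.2 _ (x * y * x⁻¹).2 (hp1 P x hx) (hp1 Q _ hy))
      have e' : x * y * x⁻¹ = y := by
        calc x * y * x⁻¹ = x⁻¹ * (x * (x * y * x⁻¹)) := by group
          _ = x⁻¹ * ((x * y * x⁻¹) * x) := by rw [e]
          _ = y := by group
      rwa [e'] at hy
  have hs : IsPGroup p ((P : Subgroup H) ⊔ (Q : Subgroup H) : Subgroup H) :=
    IsPGroup.to_sup_of_normal_right' P.2 Q.2 hc
  have h1 := P.is_maximal' hs le_sup_left
  have h2 := Q.is_maximal' hs le_sup_right
  exact hPQ (Sylow.ext (h1.symm.trans h2))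

end Cfsg.Agent.S0274
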