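import Cfsg.Statements.S0275
import Cfsg.Agent.Lib.Classical.SL2FourSylow
import Cfsg.Agent.S0274

set_option autoImplicit false
open Cfsg

namespace Cfsg.Agent.S0275

/-- If p is odd and H is a subgroup of SL_2(q), q a power of p, with more than one Sylow p-subgroup, then the Sylow 2-subgroups of H are generalised quaternion. -/
theorem result {F : Type*} [Field F] [Fintype F] (p : ℕ) [Fact p.Prime] [CharP F p] (hp : p ≠ 2) (H : Subgroup (Matrix.SpecialLinearGroup (Fin 2) F)) (hH : 1 < Nat.card (Sylow p H)) (S : Sylow 2 H) : ∃ k : ℕ, 1 ≤ k ∧ Nonempty ((S : Subgroup H) ≃* QuaternionGroup (2 ^ k)) := by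
  classical
  have : Fact (Nat.Prime 2) := ⟨Nat.prime_two⟩
  obtain ⟨K, hKH, ⟨e⟩⟩ := Cfsg.Agent.S0274.result p hp H hH
  have h2 : (2 : F) ≠ 0 := Cfsg.Agent.Small.SL2C.two_ne_zero_of_char p hp
  have h2p : (2 : ZMod p) ≠ 0 := Cfsg.Agent.Small.SL2C.two_ne_zero_of_char p hp
  obtain ⟨T⟩ : Nonempty (Sylow 2 (Matrix.SpecialLinearGroup (Fin 2) (ZMod p))) := inferInstance
  have hT := Cfsg.Agent.Classical.SL2Four.sylow_two_not_cyclic h2p T
  let φ : Matrix.SpecialLinearGroup (Fin 2) (ZMod p) →* H :=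
    (Subgroup.inclusion hKH).comp e.symm.toMonoidHom
  have hφ : Function.Injective φ := (Subgroup.inclusion_injective hKH).comp e.symm.injective
  obtain ⟨S', hS'⟩ := (T.2.map φ).exists_le_sylow
  have hnc : ¬ IsCyclic (S : Subgroup H) := by
    intro hc
    obtain ⟨g, rfl⟩ := MulAction.exists_smul_eq H S' S
    have : IsCyclic (S' : Subgroup H) :=
      isCyclic_of_surjective (Sylow.equiv (g • S') S').toMonoidHom (Sylow.equiv (g • S') S').surjective
    have : IsCyclic ((T : Subgroup _).map φ) :=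
      isCyclic_of_injective (Subgroup.inclusion hS') (Subgroup.inclusion_injective hS')
    exact hT (((T : Subgroup _).equivMapOfInjective φ hφ).isCyclic.mpr this)
  let ψ := (S : Subgroup H).equivMapOfInjective H.subtype H.subtype_injective
  obtain ⟨k, hk, ⟨f⟩⟩ := Cfsg.Agent.Classical.SL2Four.quaternion_of_not_cyclic h2
    ((S : Subgroup H).map H.subtype) (S.2.map _) (fun h => hnc (ψ.isCyclic.mpr h))
  exact ⟨k, hk, ⟨ψ.trans f⟩⟩

end Cfsg.Agent.S0275
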