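import Cfsg.Statements.S0282
import Cfsg.Agent.Lib.Classical.PSUThreeTwo

set_option autoImplicit false
open Cfsg

namespace Cfsg.Agent.S0282

/-- PSU_3(2) is a solvable group of order 72. -/
theorem result {F : Type*} [Field F] [Fintype F] (hF : Fintype.card F = 4) : Nat.card (Cfsg.PSU 3 F 2) = 72 ∧ Group.IsSolvable (Cfsg.PSU 3 F 2) := by
  refine ⟨Cfsg.Agent.Classical.PSUThreeTwo.card_eq hF, ?_⟩
  obtain ⟨N, hN, hc, -, ⟨e⟩⟩ := Cfsg.Agent.Classical.PSUThreeTwo.exists_structure hF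
  haveI := hN
  haveI : Fact (Nat.Prime 2) := ⟨Nat.prime_two⟩
  haveI : Fact (Nat.Prime 3) := ⟨Nat.prime_three⟩
  have h1 : Group.IsSolvable N := by
    haveI := (IsPGroup.of_card (p := 3) (G := N) (n := 2) hc).isNilpotent
    infer_instance
  have h2 : Group.IsSolvable (Cfsg.PSU 3 F 2 ⧸ N) := by
    haveI := (IsPGroup.of_card (p := 2) (G := QuaternionGroup 2) (n := 3) (by
      rw [Nat.card_eq_fintype_card, QuaternionGroup.card]; rfl)).isNilpotent
    exact Group.isSolvable_of_isSolvable_injective (f := e.toMonoidHom) e.injective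
  exact (Group.isSolvable_iff_subgroup_quotient N).mpr ⟨h1, h2⟩

end Cfsg.Agent.S0282
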