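import Cfsg.Statements.S0313
import Cfsg.Agent.Lib.Lie.Tits
-- import your own Cfsg.Agent.* helpers here

set_option autoImplicit false
open Cfsg

namespace Cfsg.Agent.S0313

/-- Two standard parabolic subgroups of a group with a (B,N)-pair which are conjugate in `G` coincide. -/
theorem result {G : Type*} [Group G] (P : Cfsg.BNPair G) {J K : Set G}
    (hJ : J ⊆ P.S) (hK : K ⊆ P.S) (g : G)
    (h : (P.parabolic J).map (MulAut.conj g).toMonoidHom = P.parabolic K) :
    P.parabolic J = P.parabolic K := by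
  have hg : g ∈ P.parabolic K := by
    refine Lie.Tits.mem_of_conj_B_le (le_sup_left : P.B ≤ P.parabolic K) g fun b hb => ?_
    have h1 : g * b * g⁻¹ ∈ (P.parabolic J).map (MulAut.conj g).toMonoidHom :=
      ⟨b, Subgroup.mem_sup_left hb, rfl⟩
    rw [h] at h1
    exact h1
  rw [← h]
  refine le_antisymm (fun x hx => ?_) (fun x hx => ?_)
  · have hxK : g * x * g⁻¹ ∈ P.parabolic K := h ▸ ⟨x, hx, rfl⟩
    rw [h, show x = g⁻¹ * (g * x * g⁻¹) * g by group]
    exact mul_mem (mul_mem (inv_mem hg) hxK) hg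
  · rw [h] at hx
    have hy : g * x * g⁻¹ ∈ P.parabolic K := mul_mem (mul_mem hg hx) (inv_mem hg)
    rw [← h] at hy
    obtain ⟨z, hz, hzx⟩ := hy
    have hzz : g * z * g⁻¹ = g * x * g⁻¹ := hzx
    have : z = x := mul_left_cancel (mul_right_cancel hzz)
    exact this ▸ hz

end Cfsg.Agent.S0313
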