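import Cfsg.Statements.S0316
import Cfsg.Agent.Lib.Lie.Tits
-- import your own Cfsg.Agent.* helpers here

set_option autoImplicit false
open Cfsg

namespace Cfsg.Agent.S0316

/-- The map `J ↦ P_J` is a lattice isomorphism from the power set of the set of distinguished generators onto the
subgroups containing `B`. -/
theorem result {G : Type*} [Group G] (P : Cfsg.BNPair G) :
    ∃ e : Set P.S ≃o {M : Subgroup G // P.B ≤ M},
      ∀ J : Set P.S, ((e J : {M : Subgroup G // P.B ≤ M}) : Subgroup G) = P.parabolic (Subtype.val '' J) := by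
  have hsub : ∀ J : Set P.S, Subtype.val '' J ⊆ P.S := fun J => Subtype.coe_image_subset _ J
  have key : ∀ (J : Set P.S) (s : P.S), (s : G) ∈ P.parabolic (Subtype.val '' J) ↔ s ∈ J := fun J s =>
    (Lie.Tits.S_inter_parabolic (hsub J) s.2).trans (Subtype.val_injective.mem_set_image)
  let e : Set P.S ≃ {M : Subgroup G // P.B ≤ M} :=
    { toFun := fun J => ⟨P.parabolic (Subtype.val '' J), le_sup_left⟩
      invFun := fun M => {s | (s : G) ∈ (M : Subgroup G)}
      left_inv := fun J => Set.ext fun s => key J s
      right_inv := fun M => by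
        refine Subtype.ext ?_
        show P.parabolic _ = M.1
        conv_rhs => rw [Lie.Tits.eq_parabolic M.2]
        congr 1
        ext s
        constructor
        · rintro ⟨t, ht, rfl⟩; exact ⟨t.2, ht⟩
        · rintro ⟨h1, h2⟩; exact ⟨⟨s, h1⟩, h2, rfl⟩ }
  refine ⟨{ e with map_rel_iff' := fun {J K} => ⟨fun h s hs => (key K s).1 (h ((key J s).2 hs)), fun h => ?_⟩ },
    fun J => rfl⟩
  exact sup_le_sup_left (Subgroup.closure_mono (Set.image_mono h)) _

end Cfsg.Agent.S0316
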