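import Cfsg.Statements.S0318
import Cfsg.Agent.Lib.Lie.Tits
-- import your own Cfsg.Agent.* helpers here

set_option autoImplicit false
open Cfsg

namespace Cfsg.Agent.S0318

/-- For `n ∈ N`, the subgroup generated by `B` and `n` coincides with the subgroup generated by `B` and the
conjugate `n B n⁻¹`. -/
theorem result {G : Type*} [Group G] (P : Cfsg.BNPair G) {n : G}
    (hn : n ∈ P.N) :
    P.B ⊔ Subgroup.closure {n} = P.B ⊔ P.B.map (MulAut.conj n).toMonoidHom := by
  refine le_antisymm (sup_le le_sup_left ((Subgroup.closure_le _).2 ?_)) (sup_le le_sup_left ?_)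
  · rintro x hx
    rw [Set.mem_singleton_iff] at hx
    subst hx
    exact Lie.Tits.mem_of_conj_le le_sup_left hn fun b hb => Subgroup.mem_sup_right ⟨b, hb, rfl⟩
  · rintro x ⟨b, hb, rfl⟩
    exact mul_mem (mul_mem (Subgroup.mem_sup_right (Subgroup.subset_closure rfl)) (Subgroup.mem_sup_left hb))
      (inv_mem (Subgroup.mem_sup_right (Subgroup.subset_closure rfl)))

end Cfsg.Agent.S0318
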