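import Cfsg.Statements.S0321
import Cfsg.Agent.Lib.Lie.Tits
-- import your own Cfsg.Agent.* helpers here

set_option autoImplicit false
open Cfsg

namespace Cfsg.Agent.S0321

/-- For `n ∈ N` not in `B`, the union `B ∪ B n B` is (the underlying set of) a subgroup exactly when `n` agrees
modulo `B ⊓ N` with one of the distinguished representatives; thus the distinguished involutions are
determined by `B` and `N`. -/
theorem result {G : Type*} [Group G] (P : Cfsg.BNPair G) {n : G}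
    (hn : n ∈ P.N) (hnB : n ∉ P.B) :
    (∃ H : Subgroup G, (H : Set G) = (P.B : Set G) ∪ DoubleCoset.doubleCoset n (P.B : Set G) P.B) ↔ ∃ s ∈ P.S, s⁻¹ * n ∈ P.B := by
  constructor
  · rintro ⟨M, hM⟩
    have hBM : P.B ≤ M := fun b hb => (hM.symm ▸ Or.inl hb : b ∈ (M : Set G))
    have hnM : n ∈ M := (hM.symm ▸ Or.inr (Lie.Tits.self_mem_DC n) : n ∈ (M : Set G))
    obtain ⟨ω, hω, hlen, hc⟩ := Lie.Tits.exists_reduced hn
    obtain ⟨s, hsω⟩ : ∃ s, s ∈ ω := by
      cases ω with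
      | nil => exact absurd (by simpa [Lie.Tits.Cong] using Lie.Tits.H_le_B hc) hnB
      | cons s _ => exact ⟨s, List.mem_cons_self⟩
    have hωM : ω.prod ∈ M := by
      rw [show ω.prod = n * (ω.prod⁻¹ * n)⁻¹ by group]
      exact mul_mem hnM (inv_mem (hBM (Lie.Tits.H_le_B hc)))
    have hsM := Lie.Tits.letters_mem hBM ω hω (by rw [Lie.Tits.len_congr hc, hlen])
      (fun b hb => mul_mem (mul_mem hωM (hBM hb)) (inv_mem hωM)) s hsω
    have hs := hω s hsω
    have h : s ∈ (P.B : Set G) ∪ DoubleCoset.doubleCoset n (P.B : Set G) P.B := hM ▸ hsM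
    rcases h with h | h
    · exact absurd h (Lie.Tits.S_not_B hs)
    · refine ⟨s, hs, Lie.Tits.H_le_B ?_⟩
      exact Lie.Tits.Cong_of_mem (Lie.Tits.S_N hs) hn (Lie.Tits.self_mem_DC s) h
  · rintro ⟨s, hs, h⟩
    refine ⟨P.parabolic {s}, ?_⟩
    have hc : Lie.Tits.Cong P s n := Lie.Tits.mem_H h (mul_mem (inv_mem (Lie.Tits.S_N hs)) hn)
    have hJ : {s} ⊆ P.S := Set.singleton_subset_iff.2 hs
    ext g
    rw [show DoubleCoset.doubleCoset n (P.B : Set G) P.B = Lie.Tits.DC P n from rfl, ← Lie.Tits.DC_congr hc]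
    rw [SetLike.mem_coe, Lie.Tits.mem_parabolic hJ, Set.mem_union]
    constructor
    · rintro ⟨m, hm, hg⟩
      rw [← Subgroup.zpowers_eq_closure] at hm
      obtain ⟨k, rfl⟩ := hm
      have h2 : ∀ j : ℤ, (s ^ (2 * j)) ∈ Lie.Tits.H P := fun j => by
        rw [zpow_mul, zpow_two]; exact zpow_mem (Lie.Tits.S_sq hs) j
      rcases Int.even_or_odd k with ⟨j, rfl⟩ | ⟨j, rfl⟩
      · left
        refine (Lie.Tits.mem_DC_iff_B (Lie.Tits.H_le_B (h2 j))).1 ?_
        rwa [two_mul]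
      · right
        rw [Lie.Tits.DC_congr (P := P) (n := s) (m := s ^ (2 * j + 1)) (by
          show s⁻¹ * s ^ (2 * j + 1) ∈ Lie.Tits.H P
          rw [show s⁻¹ * s ^ (2 * j + 1) = s ^ (2 * j) by group]; exact h2 j)]
        exact hg
    · rintro (hg | hg)
      · exact ⟨1, one_mem _, (Lie.Tits.mem_DC_iff_B (one_mem _)).2 hg⟩
      · exact ⟨s, Subgroup.subset_closure rfl, hg⟩

end Cfsg.Agent.S0321
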