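import Cfsg.Statements.S0322
import Cfsg.Agent.Lib.Lie.Tits
-- import your own Cfsg.Agent.* helpers here

set_option autoImplicit false
open Cfsg

namespace Cfsg.Agent.S0322

/-- A group with a (B,N)-pair of rank one acts doubly transitively on the left cosets of `B`. -/
theorem result {G : Type*} [Group G] (P : Cfsg.BNPair G) (h : P.rank = 1) : MulAction.IsMultiplyPretransitive G (G ⧸ P.B) 2 := by
  obtain ⟨hsub, ⟨⟨s, hs⟩⟩⟩ := Nat.card_eq_one_iff_unique.1 (h : Nat.card P.S = 1)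
  have huniq : ∀ t ∈ P.S, t = s := fun t ht =>
    congrArg Subtype.val (hsub.elim (⟨t, ht⟩ : P.S) ⟨s, hs⟩)
  have key : ∀ g : G, g ∉ P.B → g ∈ Lie.Tits.DC P s := by
    intro g hg
    obtain ⟨n, hn, hgn⟩ := Lie.Tits.bruhat (P := P) g
    obtain ⟨ω, hω, hlen, hc⟩ := Lie.Tits.exists_reduced hn
    rcases ω with _ | ⟨a, _ | ⟨b, τ⟩⟩
    · refine absurd ?_ hg
      have hnB : n ∈ P.B := by simpa [Lie.Tits.Cong] using Lie.Tits.H_le_B hc
      exact (Lie.Tits.mem_DC_iff_B hnB).1 hgn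
    · rw [List.prod_singleton, huniq a (hω a (by simp))] at hc
      rwa [Lie.Tits.DC_congr hc]
    · exfalso
      have hτ : Lie.Tits.IsWord P τ := fun x hx => hω x (by simp [hx])
      rw [List.prod_cons, List.prod_cons, huniq a (hω a (by simp)), huniq b (hω b (by simp))] at hc
      have := Lie.Tits.len_le hτ ((Lie.Tits.sq_cancel hs (Lie.Tits.word_N hτ)).symm.trans hc)
      simp only [List.length_cons] at hlen
      omega
  have pair : ∀ a b : G ⧸ P.B, a ≠ b →
      ∃ k : G, k • (QuotientGroup.mk 1 : G ⧸ P.B) = a ∧ k • (QuotientGroup.mk s : G ⧸ P.B) = b := by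
    intro a b hab
    obtain ⟨g, rfl⟩ := QuotientGroup.mk_surjective a
    obtain ⟨h', rfl⟩ := QuotientGroup.mk_surjective b
    obtain ⟨x, hx, y, hy, he⟩ := DoubleCoset.mem_doubleCoset.1
      (key (g⁻¹ * h') fun hmem => hab (QuotientGroup.eq.2 hmem))
    refine ⟨g * x, ?_, ?_⟩
    · rw [MulAction.Quotient.smul_mk, smul_eq_mul, mul_one, QuotientGroup.eq]
      simpa using inv_mem hx
    · rw [MulAction.Quotient.smul_mk, smul_eq_mul, QuotientGroup.eq]
      rw [show (g * x * s)⁻¹ * h' = y by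
        rw [show h' = g * (g⁻¹ * h') by group, he]; group]
      exact hy
  rw [MulAction.is_two_pretransitive_iff]
  intro a b c d hab hcd
  obtain ⟨k, hk1, hk2⟩ := pair a b hab
  obtain ⟨l, hl1, hl2⟩ := pair c d hcd
  refine ⟨l * k⁻¹, ?_, ?_⟩
  · rw [← hk1, mul_smul, inv_smul_smul, hl1]
  · rw [← hk2, mul_smul, inv_smul_smul, hl2]

end Cfsg.Agent.S0322
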