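import Cfsg.Statements.S0323
import Cfsg.Agent.Lib.Lie.Tits

open scoped Pointwise
-- import your own Cfsg.Agent.* helpers here

set_option autoImplicit false
open scoped Pointwise
open Cfsg

namespace Cfsg.Agent.S0323

/-- A doubly transitive action on a set with at least three points yields a (B,N)-pair of rank one:
`B` is the stabiliser of a point `x`, `N` the setwise stabiliser of a pair `{x, y}`. -/
theorem result {G Ω : Type*} [Group G] [MulAction G Ω]
    (h2 : MulAction.IsMultiplyPretransitive G Ω 2) {x y z : Ω} (hxy : x ≠ y) (hyz : y ≠ z) (hxz : x ≠ z) :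
    ∃ P : Cfsg.BNPair G, P.B = MulAction.stabilizer G x ∧
      P.N = MulAction.stabilizer G ({x, y} : Set Ω) ∧ P.rank = 1 := by
  have h2' : ∀ {a b c d : Ω}, a ≠ b → c ≠ d → ∃ g : G, g • a = c ∧ g • b = d := fun hab hcd =>
    MulAction.is_two_pretransitive_iff.1 h2 hab hcd
  obtain ⟨s, hsx, hsy⟩ := h2' hxy (Ne.symm hxy)
  set B := MulAction.stabilizer G x with hB
  set N := MulAction.stabilizer G ({x, y} : Set Ω) with hN
  have hmemN : ∀ n, n ∈ N ↔ (n • x = x ∧ n • y = y) ∨ (n • x = y ∧ n • y = x) := by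
    intro n
    rw [hN, MulAction.mem_stabilizer_iff, Set.smul_set_insert, Set.smul_set_singleton,
      Set.pair_eq_pair_iff]
  have hs : s ∈ N := (hmemN s).2 (Or.inr ⟨hsx, hsy⟩)
  have hBN : ∀ n, n ∈ B ⊓ N → n • x = x ∧ n • y = y := by
    rintro n ⟨hnB, hnN⟩
    rcases (hmemN n).1 hnN with h | h
    · exact h
    · exact absurd ((MulAction.mem_stabilizer_iff.1 hnB).symm.trans h.1) hxy
  have hdec : ∀ g, g ∉ B → g ∈ DoubleCoset.doubleCoset s (B : Set G) B := by
    intro g hg
    obtain ⟨b, hb1, hb2⟩ := h2' hxy (fun h => hg (MulAction.mem_stabilizer_iff.2 h.symm) : x ≠ g • x)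
    refine DoubleCoset.mem_doubleCoset.2 ⟨b, MulAction.mem_stabilizer_iff.2 hb1, (b * s)⁻¹ * g, ?_, by group⟩
    refine MulAction.mem_stabilizer_iff.2 ?_
    rw [mul_smul, inv_smul_eq_iff, mul_smul, hsx, hb2]
  have hNcases : ∀ n ∈ N, n ∈ B ⊓ N ∨ s⁻¹ * n ∈ B ⊓ N := by
    intro n hn
    rcases (hmemN n).1 hn with h | h
    · exact Or.inl ⟨MulAction.mem_stabilizer_iff.2 h.1, hn⟩
    · refine Or.inr (Subgroup.mem_inf.2 ⟨MulAction.mem_stabilizer_iff.2 ?_, mul_mem (inv_mem hs) hn⟩)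
      rw [mul_smul, inv_smul_eq_iff, h.1, hsx]
  refine ⟨{
    B := B
    N := N
    S := {s}
    sup_eq_top := ?_
    conj_mem := ?_
    subset := Set.singleton_subset_iff.2 hs
    sq_mem := ?_
    inj := ?_
    closure_sup := ?_
    mul_mem_union := ?_
    conj_ne := ?_ }, rfl, rfl, ?_⟩
  · rw [eq_top_iff]
    intro g _
    by_cases hg : g ∈ B
    · exact Subgroup.mem_sup_left hg
    · obtain ⟨a, ha, b, hb, rfl⟩ := DoubleCoset.mem_doubleCoset.1 (hdec g hg)
      exact mul_mem (mul_mem (Subgroup.mem_sup_left ha) (Subgroup.mem_sup_right hs)) (Subgroup.mem_sup_left hb)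
  · intro n hn t ht
    obtain ⟨htx, hty⟩ := hBN t ht
    refine MulAction.mem_stabilizer_iff.2 ?_
    rw [mul_smul, mul_smul]
    rcases (hmemN n).1 hn with h | h
    · rw [inv_smul_eq_iff.2 h.1.symm, htx, h.1]
    · rw [inv_smul_eq_iff.2 h.2.symm, hty, h.2]
  · rintro t rfl
    exact MulAction.mem_stabilizer_iff.2 (by rw [mul_smul, hsx, hsy])
  · rintro a rfl b rfl _; rfl
  · refine le_antisymm (sup_le ((Subgroup.closure_le _).2 (Set.singleton_subset_iff.2 hs)) inf_le_right) ?_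
    intro n hn
    rcases hNcases n hn with h | h
    · exact Subgroup.mem_sup_right h
    · rw [show n = s * (s⁻¹ * n) by group]
      exact mul_mem (Subgroup.mem_sup_left (Subgroup.subset_closure rfl)) (Subgroup.mem_sup_right h)
  · rintro t rfl n hn b hb
    have hmem : ∀ g h : G, (g ∈ B ∧ h ∈ B) ∨ (g ∉ B ∧ h ∉ B) →
        g ∈ DoubleCoset.doubleCoset h (B : Set G) B := by
      rintro g h (⟨hg, hh⟩ | ⟨hg, hh⟩)
      · exact DoubleCoset.mem_doubleCoset.2 ⟨g * h⁻¹, mul_mem hg (inv_mem hh), 1, one_mem _, by group⟩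
      · have h1 := hdec g hg
        rw [← DoubleCoset.doubleCoset_eq_of_mem (hdec h hh)] at h1
        exact h1
    have hsB : t ∉ B := fun h => hxy ((MulAction.mem_stabilizer_iff.1 h).symm.trans hsx)
    rcases hNcases n hn with hn' | hn'
    · have hts : t * n ∉ B := fun h => hsB (by simpa using mul_mem h (inv_mem hn'.1))
      by_cases hg : t * b * n ∈ B
      · exact Or.inr (hmem _ _ (Or.inl ⟨hg, hn'.1⟩))
      · exact Or.inl (hmem _ _ (Or.inr ⟨hg, hts⟩))
    · have hnB : n ∉ B := fun h => hsB (by simpa using mul_mem h (inv_mem hn'.1))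
      have ht2 : t * t ∈ B := MulAction.mem_stabilizer_iff.2 (by rw [mul_smul, hsx, hsy])
      have hts : t * n ∈ B := by
        rw [show t * n = t * t * (t⁻¹ * n) by group]
        exact mul_mem ht2 hn'.1
      by_cases hg : t * b * n ∈ B
      · exact Or.inl (hmem _ _ (Or.inl ⟨hg, hts⟩))
      · exact Or.inr (hmem _ _ (Or.inr ⟨hg, hnB⟩))
  · rintro t rfl he
    obtain ⟨b, hb1, hb2⟩ := h2' hxy hxz
    have h1 : t * b * t ∈ (B : Set G) := he ▸ Set.mem_image_of_mem _ (MulAction.mem_stabilizer_iff.2 hb1)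
    have h3 := MulAction.mem_stabilizer_iff.1 h1
    rw [mul_smul, mul_smul, hsx, hb2] at h3
    exact hyz (smul_left_cancel t (hsy.trans h3.symm))
  · simp [Cfsg.BNPair.rank]

end Cfsg.Agent.S0323
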