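import Cfsg.Statements.S0341
import Mathlib
import Cfsg.Agent.Lib.Lie.Zassenhaus
import Cfsg.Agent.Lib.Solv.FrobeniusGK
import Cfsg.Agent.Lib.Solv.ThompsonFPF
open scoped IsMulCommutative
-- import your own Cfsg.Agent.* helpers here

set_option autoImplicit false
open Cfsg

namespace Cfsg.Agent.S0341

/-- If a finite group acts faithfully and doubly transitively, no non-identity element fixes three points, some
non-identity element fixes two points, and some normal subgroup acts regularly, then the number of points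
is `2^p` with `p` prime. -/
theorem result {G Ω : Type*} [Group G]
    [MulAction G Ω] [Fintype Ω] [FaithfulSMul G Ω] (h2 : MulAction.IsMultiplyPretransitive G Ω 2)
    (h3 : ∀ g : G, ∀ a b c : Ω, a ≠ b → b ≠ c → a ≠ c → g • a = a → g • b = b → g • c = c → g = 1)
    (hfix : ∃ g : G, g ≠ 1 ∧ ∃ a b : Ω, a ≠ b ∧ g • a = a ∧ g • b = b)
    (N : Subgroup G) [N.Normal] (hNt : MulAction.IsPretransitive N Ω)
    (hNr : ∀ a : Ω, MulAction.stabilizer N a = ⊥) :
    ∃ p : ℕ, p.Prime ∧ Fintype.card Ω = 2 ^ p := by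
  classical
  haveI := Cfsg.Agent.Lie.Zassenhaus.finite_of_faithful (G := G) (Ω := Ω)
  haveI := hNt
  obtain ⟨g₀, hg₀, a, b, hab, hga, hgb⟩ := id hfix
  haveI : Nontrivial Ω := ⟨⟨a, b, hab⟩⟩
  obtain ⟨r, hr, hrd⟩ := Nat.exists_prime_and_dvd (show orderOf g₀ ≠ 1 from fun h => hg₀ (orderOf_eq_one_iff.1 h))
  haveI := Fact.mk hr
  set d := g₀ ^ (orderOf g₀ / r) with hd
  have hdo : orderOf d = r := orderOf_pow_orderOf_div (orderOf_pos g₀).ne' hrd
  have hd1 : d ≠ 1 := fun h => by rw [h, orderOf_one] at hdo; exact hr.one_lt.ne hdo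
  have hdr : d ^ r = 1 := hdo ▸ pow_orderOf_eq_one d
  have hda : d • a = a := Subgroup.pow_mem (MulAction.stabilizer G a) hga _
  have hdb : d • b = b := Subgroup.pow_mem (MulAction.stabilizer G b) hgb _
  have hdfix : ∀ c, d • c = c → c = a ∨ c = b := by
    intro c hc
    by_contra hcc
    rw [not_or] at hcc
    exact hd1 (h3 d a b c hab (Ne.symm hcc.2) (Ne.symm hcc.1) hda hdb hc)
  obtain ⟨hNc, p, hp, hpN, hexp⟩ := Cfsg.Agent.Lie.Zassenhaus.regular_normal_elementary h2 N hNr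
  haveI := hNc
  have inj : ∀ u v : N, (u : G) • a = (v : G) • a → u = v := fun u v h => by
    have h1 : v⁻¹ * u ∈ MulAction.stabilizer N a := by
      show ((v : G)⁻¹ * u) • a = a
      rw [mul_smul, h, inv_smul_smul]
    rw [hNr a, Subgroup.mem_bot, inv_mul_eq_one] at h1
    exact h1.symm
  obtain ⟨y, hy⟩ := MulAction.exists_smul_eq N a b
  replace hy : (y : G) • a = b := hy
  have hy1 : y ≠ 1 := fun h => hab (by rw [← hy, h]; simp)
  have hdy : d * y * d⁻¹ = (y : G) := by
    have := inj ⟨_, (inferInstance : N.Normal).conj_mem _ y.2 d⟩ y (by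
      show (d * (y : G) * d⁻¹) • a = (y : G) • a
      rw [mul_smul, mul_smul, inv_smul_eq_iff.2 hda.symm, hy, hdb])
    exact congrArg Subtype.val this
  have hp2 : p = 2 := by
    have h1 : d • (((y : G) * y) • a) = ((y : G) * y) • a := by
      rw [smul_smul]
      conv_rhs => rw [← hda, smul_smul]
      congr 1
      have hc : Commute d (y : G) := mul_inv_eq_iff_eq_mul.1 hdy
      exact (hc.mul_right hc).eq
    rcases hdfix _ h1 with h | h
    · have h4 : y * y = 1 := inj _ _ (by rw [Subgroup.coe_mul, h]; simp)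
      have h5 : orderOf y ∣ 2 := orderOf_dvd_of_pow_eq_one (by rw [pow_two, h4])
      have h6 : orderOf y ∣ p := orderOf_dvd_of_pow_eq_one (Subtype.ext (hexp y y.2))
      rcases (Nat.dvd_prime Nat.prime_two).1 h5 with h7 | h7
      · exact absurd (orderOf_eq_one_iff.1 h7) hy1
      · rw [h7] at h6
        exact ((Nat.prime_dvd_prime_iff_eq Nat.prime_two hp).1 h6).symm
    · exact absurd (mul_eq_left.1 (inj (y * y) y (by rw [Subgroup.coe_mul, h, hy]))) hy1
  subst hp2
  obtain ⟨K, -, hKa, hKt, hKfree, hKs⟩ := Cfsg.Agent.Lie.Zassenhaus.kernel_le h2 h3 hfix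
    (⊤ : Subgroup G) hab (Subgroup.mem_top d) hd1 hda hdb
  have hKfix : ∀ k ∈ K, ∀ c, c ≠ a → k • c = c → k = 1 := by
    intro k hk c hc hkc
    obtain ⟨k', hk', hk'c⟩ := hKt c hc
    have h1 := hKfree (k'⁻¹ * k * k') (mul_mem (mul_mem (inv_mem hk') hk) hk')
      (by rw [mul_smul, mul_smul, hk'c, hkc, ← hk'c, inv_smul_smul])
    calc k = k' * (k'⁻¹ * k * k') * k'⁻¹ := by group
      _ = 1 := by rw [h1, mul_one, mul_inv_cancel]
  have hdK : d ∈ Subgroup.normalizer (K : Set G) :=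
    Subgroup.mem_normalizer_fintype fun k hk => hKs d hda hdb k hk
  have hdKfix : ∀ k ∈ K, d * k * d⁻¹ = k → k = 1 := by
    intro k hk hc
    have h1 : d • (k • b) = k • b := by
      rw [smul_smul, mul_inv_eq_iff_eq_mul.1 hc, mul_smul, hdb]
    rcases hdfix _ h1 with h | h
    · exact absurd (MulAction.injective k ((hKa k hk).trans h.symm)) hab
    · exact hKfree k hk h
  have hnil := Cfsg.Agent.Solv.fpf_nilpotent K d hr hdr hdK (by
    rw [Subgroup.eq_bot_iff_forall]
    rintro k ⟨hk, hkd⟩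
    have e : k * d = d * k := Subgroup.mem_centralizer_singleton_iff.1 hkd
    exact hdKfix k hk (by rw [← e, mul_inv_cancel_right]))
  have hNne : N ≠ ⊥ := fun h => hy1 (Subtype.ext (Subgroup.mem_bot.1 (h ▸ y.2)))
  have hKfpf : ∀ k ∈ K, k ≠ 1 → N ⊓ Subgroup.centralizer {k} = ⊥ := by
    intro k hk hk1
    rw [Subgroup.eq_bot_iff_forall]
    rintro v ⟨hv, hvk⟩
    have e : v * k = k * v := Subgroup.mem_centralizer_singleton_iff.1 hvk
    have h1 : k • (v • a) = v • a := by rw [smul_smul, ← e, mul_smul, hKa k hk]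
    by_contra hv1
    refine hk1 (hKfix k hk (v • a) (fun h => hv1 ?_) h1)
    exact congrArg Subtype.val (inj ⟨v, hv⟩ 1 (by simpa using h))
  have hcyc : IsCyclic K := by
    refine (Cfsg.Agent.Solv.nilpotent_cyclic_odd hnil ?_ (Subgroup.normalizerMonoidHom K ⟨d, hdK⟩) ?_).1
    · intro q hq x z hc hxq hzq hz1
      haveI := Fact.mk hq
      obtain ⟨j, hj⟩ := Cfsg.Agent.Solv.fpf_unique_order (A := K) (V := N) hNne
        (by rw [Subgroup.normalizer_eq_top_iff.2 inferInstance]; exact le_top) hKfpf x.2 z.2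
        (congrArg Subtype.val hc) (congrArg Subtype.val hxq) (congrArg Subtype.val hzq)
        (fun h => hz1 (Subtype.ext h))
      exact ⟨j, Subtype.ext hj⟩
    · intro k hk
      exact Subtype.ext (hdKfix k k.2 (congrArg Subtype.val hk))
  have hKcomm : ∀ k ∈ K, ∀ l ∈ K, k * l = l * k := fun k hk l hl => by
    haveI := hcyc
    exact congrArg Subtype.val (mul_comm' (⟨k, hk⟩ : K) ⟨l, hl⟩)
  -- the commutant of `K` on `N` is a field
  let V := Additive N
  letI : AddCommGroup V := inferInstanceAs (AddCommGroup (Additive N))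
  let ρ : G →* AddMonoid.End V :=
    { toFun := fun g => MonoidHom.toAdditive ((MulAut.conjNormal (H := N) g).toMonoidHom)
      map_one' := by
        refine AddMonoidHom.ext fun v => Additive.toMul.injective (Subtype.ext ?_)
        show ((MulAut.conjNormal (1 : G) (Additive.toMul v) : N) : G) = ((Additive.toMul v : N) : G)
        simp
      map_mul' := fun g h => by
        refine AddMonoidHom.ext fun v => Additive.toMul.injective (Subtype.ext ?_)
        show ((MulAut.conjNormal (g * h) (Additive.toMul v) : N) : G) =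
          ((MulAut.conjNormal g (MulAut.conjNormal h (Additive.toMul v)) : N) : G)
        simp [mul_assoc] }
  have hρ : ∀ (g : G) (v : N), ((Additive.toMul (ρ g (Additive.ofMul v)) : N) : G) = g * v * g⁻¹ :=
    fun g v => MulAut.conjNormal_apply g v
  let S : Subring (AddMonoid.End V) := Subring.centralizer (ρ '' (K : Set G))
  let e₁ : V := Additive.ofMul y
  have hsurj : ∀ v : V, v ≠ 0 → ∃ k ∈ K, ρ k e₁ = v := by
    intro v hv
    have hva : ((Additive.toMul v : N) : G) • a ≠ a := fun h =>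
      hv (inj (Additive.toMul v) 1 (by simpa using h))
    obtain ⟨k, hk, hkb⟩ := hKt _ hva
    refine ⟨k, hk, ?_⟩
    apply Additive.toMul.injective
    refine inj _ _ ?_
    rw [hρ, mul_smul, mul_smul, inv_smul_eq_iff.2 (hKa k hk).symm, hy, hkb]
  have hkS : ∀ k ∈ K, ρ k ∈ S := fun k hk => by
    rw [Subring.mem_centralizer_iff]
    rintro _ ⟨l, hl, rfl⟩
    rw [← map_mul, ← map_mul, hKcomm l hl k hk]
  have hdet : ∀ φ ∈ S, ∀ ψ ∈ S, φ e₁ = ψ e₁ → φ = ψ := by
    intro φ hφ ψ hψ h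
    refine AddMonoidHom.ext fun v => ?_
    rcases eq_or_ne v 0 with rfl | hv
    · exact (map_zero φ).trans (map_zero ψ).symm
    obtain ⟨k, hk, rfl⟩ := hsurj v hv
    show (φ * ρ k) e₁ = (ψ * ρ k) e₁
    rw [← Subring.mem_centralizer_iff.1 hφ _ ⟨k, hk, rfl⟩, ← Subring.mem_centralizer_iff.1 hψ _ ⟨k, hk, rfl⟩]
    show ρ k (φ e₁) = ρ k (ψ e₁)
    rw [h]
  have hcases : ∀ φ ∈ S, φ = 0 ∨ ∃ k ∈ K, φ = ρ k := by
    intro φ hφ
    by_cases h : φ e₁ = 0
    · exact Or.inl (hdet φ hφ 0 (zero_mem S) h)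
    · obtain ⟨k, hk, hke⟩ := hsurj _ h
      exact Or.inr ⟨k, hk, hdet φ hφ _ (hkS k hk) hke.symm⟩
  letI : CommRing S :=
    { (inferInstance : Ring S) with
      mul_comm := fun φ ψ => Subtype.ext (by
        show (φ : AddMonoid.End V) * ψ = ψ * φ
        rcases hcases _ φ.2 with h | ⟨k, hk, h⟩
        · rw [h, zero_mul, mul_zero]
        · rw [h]
          exact Subring.mem_centralizer_iff.1 ψ.2 _ ⟨k, hk, rfl⟩) }
  haveI : Nontrivial S := ⟨⟨0, 1, fun h => hy1 (by
    have h' := congrArg (fun φ : AddMonoid.End V => φ e₁) (congrArg Subtype.val h)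
    exact (congrArg Additive.toMul h' : (1 : N) = y).symm)⟩⟩
  have hfield : IsField S := by
    refine ⟨exists_pair_ne S, mul_comm, fun {φ} hφ => ?_⟩
    rcases hcases _ φ.2 with h | ⟨k, hk, h⟩
    · exact absurd (Subtype.ext h) hφ
    · refine ⟨⟨ρ k⁻¹, hkS _ (inv_mem hk)⟩, Subtype.ext ?_⟩
      show (φ : AddMonoid.End V) * ρ k⁻¹ = 1
      rw [h, ← map_mul, mul_inv_cancel, map_one]
  letI : Field S := hfield.toField
  let ev : S ≃ V := Equiv.ofBijective (fun φ => (φ : AddMonoid.End V) e₁)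
    ⟨fun φ ψ h => Subtype.ext (hdet _ φ.2 _ ψ.2 h), fun v => by
      rcases eq_or_ne v 0 with rfl | hv
      · exact ⟨0, rfl⟩
      · obtain ⟨k, hk, hke⟩ := hsurj v hv
        exact ⟨⟨_, hkS k hk⟩, hke⟩⟩
  have hcardS : Nat.card S = Fintype.card Ω := by
    rw [Nat.card_congr ev, ← Nat.card_eq_fintype_card, Cfsg.Agent.Perm.card_eq_of_regular a (hNr a)]
    exact Nat.card_congr Additive.toMul
  haveI : Finite S := Finite.of_equiv V ev.symm
  -- the automorphism induced by `d`
  have hconjS : ∀ g ∈ Subgroup.normalizer (K : Set G), ∀ φ ∈ S, ρ g * φ * ρ g⁻¹ ∈ S := by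
    intro g hg φ hφ
    rw [Subring.mem_centralizer_iff]
    rintro _ ⟨l, hl, rfl⟩
    have hl' : g⁻¹ * l * g ∈ K := by
      have := (Subgroup.mem_set_normalizer_iff.1 (inv_mem hg) l).1 hl
      simpa using this
    have e := Subring.mem_centralizer_iff.1 hφ _ ⟨_, hl', rfl⟩
    calc ρ l * (ρ g * φ * ρ g⁻¹) = ρ g * (ρ (g⁻¹ * l * g) * φ) * ρ g⁻¹ := by
          rw [← mul_assoc, ← mul_assoc, ← mul_assoc, ← map_mul, ← map_mul]
          congr 3; group
      _ = ρ g * (φ * ρ (g⁻¹ * l * g)) * ρ g⁻¹ := by rw [e]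
      _ = ρ g * φ * ρ g⁻¹ * ρ l := by
          rw [mul_assoc (ρ g * φ) (ρ g⁻¹), ← map_mul, mul_assoc (ρ g), mul_assoc φ, ← map_mul,
            ← mul_assoc (ρ g)]
          congr 2; group
  let Γ := Subgroup.zpowers d
  have hΓ : Γ ≤ Subgroup.normalizer (K : Set G) := Subgroup.zpowers_le.2 hdK
  letI : MulSemiringAction Γ S :=
    { smul := fun g φ => ⟨ρ g * φ * ρ (g : G)⁻¹, hconjS _ (hΓ g.2) _ φ.2⟩
      one_smul := fun φ => Subtype.ext (by
        show ρ ((1 : Γ) : G) * φ * ρ ((1 : Γ) : G)⁻¹ = φ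
        simp)
      mul_smul := fun g h φ => Subtype.ext (by
        show ρ ((g * h : Γ) : G) * φ * ρ ((g * h : Γ) : G)⁻¹ = ρ g * (ρ h * φ * ρ (h : G)⁻¹) * ρ (g : G)⁻¹
        simp [mul_assoc])
      smul_zero := fun g => Subtype.ext (by
        show ρ (g : G) * 0 * ρ (g : G)⁻¹ = 0
        simp)
      smul_add := fun g φ ψ => Subtype.ext (by
        show ρ (g : G) * ((φ : AddMonoid.End V) + ψ) * ρ (g : G)⁻¹ = ρ g * φ * ρ (g : G)⁻¹ + ρ g * ψ * ρ (g : G)⁻¹
        rw [mul_add, add_mul])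
      smul_one := fun g => Subtype.ext (by
        show ρ (g : G) * 1 * ρ (g : G)⁻¹ = 1
        rw [mul_one, ← map_mul, mul_inv_cancel, map_one])
      smul_mul := fun g φ ψ => Subtype.ext (by
        show ρ (g : G) * ((φ : AddMonoid.End V) * ψ) * ρ (g : G)⁻¹ =
          (ρ g * φ * ρ (g : G)⁻¹) * (ρ g * ψ * ρ (g : G)⁻¹)
        rw [show (ρ g * (φ : AddMonoid.End V) * ρ (g : G)⁻¹) * (ρ g * ψ * ρ (g : G)⁻¹) =
          ρ g * φ * (ρ (g : G)⁻¹ * ρ g) * ψ * ρ (g : G)⁻¹ by simp only [mul_assoc],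
          ← map_mul, inv_mul_cancel, map_one, mul_one]
        simp only [mul_assoc]) }
  let dΓ : Γ := ⟨d, Subgroup.mem_zpowers d⟩
  have hρde : ∀ v : V, ρ d v = v → v = 0 ∨ v = e₁ := by
    intro v hv
    have h1 : d * (Additive.toMul v : N) * d⁻¹ = ((Additive.toMul v : N) : G) := by
      rw [← hρ]; exact congrArg (fun w : V => ((Additive.toMul w : N) : G)) hv
    have h4 : d • (((Additive.toMul v : N) : G) • a) = ((Additive.toMul v : N) : G) • a := by
      rw [smul_smul, mul_inv_eq_iff_eq_mul.1 h1, mul_smul, hda]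
    rcases hdfix _ h4 with h | h
    · exact Or.inl (inj (Additive.toMul v) 1 (h.trans (by simp)))
    · exact Or.inr (inj _ y (h.trans hy.symm))
  have hρe : ρ d⁻¹ e₁ = e₁ := by
    apply Additive.toMul.injective
    refine Subtype.ext ?_
    rw [hρ, inv_inv]
    show d⁻¹ * (y : G) * d = y
    conv_lhs => rw [← hdy]
    group
  have hfixed : ∀ φ : S, dΓ • φ = φ → φ = 0 ∨ φ = 1 := by
    intro φ hφ
    have h1 : ρ d ((φ : AddMonoid.End V) (ρ d⁻¹ e₁)) = (φ : AddMonoid.End V) e₁ :=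
      congrArg (fun ψ : AddMonoid.End V => ψ e₁) (congrArg Subtype.val hφ)
    rw [hρe] at h1
    rcases hρde _ h1 with h | h
    · exact Or.inl (Subtype.ext (hdet _ φ.2 0 (zero_mem S) h))
    · exact Or.inr (Subtype.ext (hdet _ φ.2 1 (one_mem S) h))
  haveI hfS : FaithfulSMul Γ S := by
    refine ⟨fun {g h} hgh => ?_⟩
    by_contra hne
    have hcardΓ : Nat.card Γ = r := by rw [Nat.card_zpowers, hdo]
    let T : Subgroup Γ :=
      { carrier := {u | ∀ φ : S, u • φ = φ}
        one_mem' := fun φ => one_smul _ φ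
        mul_mem' := fun {u v} hu hv φ => by rw [mul_smul, hv φ, hu φ]
        inv_mem' := fun {u} hu φ => by rw [inv_smul_eq_iff, hu φ] }
    have hmemT : g⁻¹ * h ∈ T := fun φ => by rw [mul_smul, ← hgh φ, inv_smul_smul]
    haveI : Fact (Nat.card Γ).Prime := ⟨by rw [hcardΓ]; exact hr⟩
    rcases T.eq_bot_or_eq_top_of_prime_card with hT | hT
    · rw [hT, Subgroup.mem_bot, inv_mul_eq_one] at hmemT; exact hne hmemT
    · have hall : ∀ φ : S, φ = 0 ∨ φ = 1 := fun φ => hfixed φ ((hT ▸ Subgroup.mem_top dΓ : dΓ ∈ T) φ)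
      haveI := Fintype.ofFinite S
      have h2' : Fintype.card S ≤ 2 := by
        rw [← Finset.card_univ]
        refine (Finset.card_le_card (t := {0, 1}) fun φ _ => ?_).trans Finset.card_le_two
        simpa using hall φ
      obtain ⟨c, hca, hcb⟩ := Cfsg.Agent.Lie.Zassenhaus.three_le_card hfix hab
      have h3' : 3 ≤ Fintype.card Ω := by
        rw [← Finset.card_univ]
        exact le_trans (Finset.card_eq_three.2 ⟨a, b, c, hab, hca.symm, hcb.symm, rfl⟩).ge
          (Finset.card_le_card (Finset.subset_univ _))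
      rw [← hcardS, Nat.card_eq_fintype_card] at h3'
      omega
  let L := FixedPoints.subfield Γ S
  haveI : Fintype Γ := Fintype.ofFinite _
  have hrank : Module.finrank L S = r := by
    rw [FixedPoints.finrank_eq_card, ← Nat.card_eq_fintype_card, Nat.card_zpowers, hdo]
  have hL : Nat.card L = 2 := by
    rw [Nat.card_eq_two_iff]
    refine ⟨0, 1, zero_ne_one, Set.eq_univ_of_forall fun φ => ?_⟩
    rcases hfixed (φ : S) (φ.2 dΓ) with h | h
    · exact Or.inl (Subtype.ext h)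
    · exact Or.inr (Subtype.ext h)
  exact ⟨r, hr, by rw [← hcardS, Module.natCard_eq_pow_finrank (K := L) (V := S), hL, hrank]⟩

end Cfsg.Agent.S0341
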