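import Cfsg.Statements.S0347
import Cfsg.Agent.Lib.Lie.ZassenhausSuzuki.Main
-- import your own Cfsg.Agent.* helpers here

set_option autoImplicit false
open Cfsg

namespace Cfsg.Agent.S0347

/-- If in a finite simple Zassenhaus group the stabiliser of a point `x` has a normal `2`-subgroup `U` which is
non-abelian and acts regularly on the points other than `x`, then the group is simple of Suzuki order (order-level
predicate `IsSuzuki`). -/
theorem result {G Ω : Type*} [Group G] [Finite G] [MulAction G Ω] [Finite Ω]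
    (hZ : Cfsg.IsZassenhausGroup G Ω) [IsSimpleGroup G]
    (x : Ω) (U : Subgroup G) (hUle : U ≤ MulAction.stabilizer G x) (hUn : (U.subgroupOf (MulAction.stabilizer G x)).Normal)
    (hU2 : IsPGroup 2 U) (hUna : ∃ u v : U, u * v ≠ v * u)
    (hreg : ∀ y z : Ω, y ≠ x → z ≠ x → ∃! u : U, (u : G) • y = z) :
    Cfsg.IsSuzuki G := by
  haveI := Fintype.ofFinite Ω
  obtain ⟨u, v, huv⟩ := id hUna
  have hne : ∃ b : Ω, b ≠ x := by
    obtain ⟨-, -, -, ⟨g, -, c, d, hcd, -⟩, -⟩ := hZ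
    by_cases hc : c = x
    · exact ⟨d, fun e => hcd (hc.trans e.symm)⟩
    · exact ⟨c, hc⟩
  obtain ⟨b, hb⟩ := hne
  obtain ⟨hcard, honly⟩ := Cfsg.Agent.Lie.ZassenhausSuzuki.kernel_of_regular ⟨b, hb⟩ U hUle hreg
  obtain ⟨n, hn, hn1, -, -, -, hc, -⟩ :=
    Cfsg.Agent.Lie.ZassenhausSuzuki.suzuki_data hZ (Ne.symm hb) U hUle hcard honly hU2 hUna
  exact Cfsg.Agent.Lie.ZassenhausSuzuki.isSuzuki_of_data hn hn1 hc

end Cfsg.Agent.S0347
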