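import Cfsg.Statements.S0349
import Cfsg.Agent.Lib.Lie.SplitRankOne.Regular.Kill
import Cfsg.Agent.S0322
import Cfsg.Agent.Lib.Char.ZStar

set_option autoImplicit false
open Cfsg

namespace Cfsg.Agent.S0349

/-- Let a finite simple group have a (B,N)-pair of rank one which is strongly split (`B = U (B ⊓ N)` with `U` nilpotent,
normal in `B` and meeting `N` trivially), with `[G : B]` and `|B ⊓ N|` odd. Then the group is isomorphic to `PSL₂(F)` with
`|F|` a power of `2`, or is simple of Suzuki order, or is isomorphic to `PSU₃` realised over a field with `q²` elements,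
`q = 2^n`, `n ≥ 2`. -/
theorem result {G : Type*} [Group G] [Finite G] [IsSimpleGroup G]
    (P : Cfsg.BNPair G) (hrank : P.rank = 1) (U : Subgroup G) (hUB : U ≤ P.B)
    (hUn : (U.subgroupOf P.B).Normal) (hUnil : Group.IsNilpotent U) (hsplit : U ⊔ (P.B ⊓ P.N) = P.B)
    (hdisj : U ⊓ P.N = ⊥) (hind : Odd P.B.index) (hH : Odd (Nat.card ↥(P.B ⊓ P.N))) :
    (∃ (F : Type) (_ : Field F) (_ : Fintype F), (∃ n : ℕ, Fintype.card F = 2 ^ n) ∧ Nonempty (G ≃* Matrix.ProjectiveSpecialLinearGroup (Fin 2) F)) ∨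
      Cfsg.IsSuzuki G ∨
      (∃ (F : Type) (_ : Field F) (_ : Fintype F) (n : ℕ), 2 ≤ n ∧ Fintype.card F = (2 ^ n) ^ 2 ∧
        Nonempty (G ≃* Cfsg.PSU 3 F (2 ^ n))) := by
  classical
  obtain ⟨a, ha⟩ : ∃ a : G ⧸ P.B, a = QuotientGroup.mk 1 := ⟨_, rfl⟩
  obtain ⟨-, ⟨⟨s, hs⟩⟩⟩ := Nat.card_eq_one_iff_unique.1 (hrank : Nat.card P.S = 1)
  obtain ⟨b, hb⟩ : ∃ b : G ⧸ P.B, b = QuotientGroup.mk s := ⟨_, rfl⟩
  haveI h2t := Cfsg.Agent.S0322.result P hrank
  haveI : MulAction.IsPretransitive G (G ⧸ P.B) := MulAction.isPretransitive_of_is_two_pretransitive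
  have hstab : ∀ g : G, g • a = a ↔ g ∈ P.B := fun g => by
    rw [ha, MulAction.Quotient.smul_mk, smul_eq_mul, mul_one, QuotientGroup.eq, mul_one, inv_mem_iff]
  have hsB : s ∉ P.B := fun h => by
    refine P.conj_ne s hs ?_
    ext x
    constructor
    · rintro ⟨y, hy, rfl⟩
      exact mul_mem (mul_mem h hy) h
    · intro hx
      exact ⟨s⁻¹ * x * s⁻¹, mul_mem (mul_mem (inv_mem h) hx) (inv_mem h), by group⟩
  have hab : a ≠ b := fun e => hsB (by
    rw [ha, hb, QuotientGroup.eq, inv_one, one_mul] at e; exact e)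
  have hfixb : ∀ h ∈ P.B ⊓ P.N, h • b = b := fun h hh => by
    have h1 := P.conj_mem s⁻¹ (inv_mem (P.subset hs)) h hh
    rw [inv_inv] at h1
    rw [hb, MulAction.Quotient.smul_mk, smul_eq_mul, QuotientGroup.eq]
    rw [show (h * s)⁻¹ * s = (s⁻¹ * h * s)⁻¹ by group]
    exact inv_mem h1
  haveI := hUn
  have hdec : ∀ g ∈ P.B, ∃ u ∈ U, ∃ h ∈ P.B ⊓ P.N, g = u * h := by
    intro g hg
    have htop : U.subgroupOf P.B ⊔ (P.B ⊓ P.N).subgroupOf P.B = ⊤ := by
      rw [← Subgroup.subgroupOf_sup hUB inf_le_left, hsplit, Subgroup.subgroupOf_self]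
    obtain ⟨u, hu, h, hh, e⟩ := Subgroup.mem_sup_of_normal_left.1
      (htop.symm ▸ Subgroup.mem_top (⟨g, hg⟩ : P.B) :
        (⟨g, hg⟩ : P.B) ∈ U.subgroupOf P.B ⊔ (P.B ⊓ P.N).subgroupOf P.B)
    exact ⟨(u : G), hu, (h : G), hh, (congrArg Subtype.val e).symm⟩
  have hconjU : ∀ g ∈ P.B, ∀ u ∈ U, g * u * g⁻¹ ∈ U := fun g hg u hu =>
    hUn.conj_mem ⟨u, hUB hu⟩ hu ⟨g, hg⟩
  have htrans : ∀ c, c ≠ a → ∃ u ∈ U, u • b = c := by
    intro c hc
    obtain ⟨g, hg1, hg2⟩ := MulAction.is_two_pretransitive_iff.1 h2t hab (Ne.symm hc)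
    obtain ⟨u, hu, h, hh, rfl⟩ := hdec g ((hstab g).1 hg1)
    exact ⟨u, hu, by rw [← hg2, mul_smul, hfixb h hh]⟩
  have hker : (MulAction.toPermHom G (G ⧸ P.B)).ker = ⊥ := by
    refine (inferInstance : (MulAction.toPermHom G (G ⧸ P.B)).ker.Normal).eq_bot_or_eq_top.resolve_right fun h => ?_
    obtain ⟨g, hg⟩ := MulAction.exists_smul_eq G a b
    exact hab ((DFunLike.congr_fun (MonoidHom.mem_ker.1 (h ▸ Subgroup.mem_top g)) a).symm.trans hg)
  haveI : FaithfulSMul G (G ⧸ P.B) := ⟨fun {g g'} hgg => by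
    have h1 : g⁻¹ * g' ∈ (MulAction.toPermHom G (G ⧸ P.B)).ker := Equiv.ext fun c => by
      show (g⁻¹ * g') • c = c
      rw [mul_smul, ← hgg c, inv_smul_smul]
    rw [hker, Subgroup.mem_bot] at h1
    exact inv_mul_eq_one.1 h1⟩
  -- elements of two-power order fixing the base points
  have htwo : ∀ x : G, x • a = a → x • b = b → ∀ k : ℕ, x ^ 2 ^ k = 1 → x ∈ U := by
    intro x hxa _ k hk
    have hxB := (hstab x).1 hxa
    obtain ⟨u, hu, h, hh, e⟩ := hdec x hxB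
    refine Cfsg.Agent.Lie.R1C.Reg.coprime_mem (H := P.B) (N := U) hxB (i := 2 ^ k) (j := Nat.card ↥(P.B ⊓ P.N))
      (Nat.Coprime.pow_left _ (Nat.coprime_two_left.2 hH)) (by rw [hk]; exact one_mem _) ?_
    have h0 : (QuotientGroup.mk (⟨x, hxB⟩ : P.B) : P.B ⧸ U.subgroupOf P.B) = QuotientGroup.mk ⟨h, hh.1⟩ := by
      rw [QuotientGroup.eq_iff_div_mem, Subgroup.mem_subgroupOf]
      simpa [e, div_eq_mul_inv] using hu
    have hh1 : (⟨h, hh.1⟩ : P.B) ^ Nat.card ↥(P.B ⊓ P.N) = 1 :=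
      Subtype.ext (orderOf_dvd_iff_pow_eq_one.1 (Subgroup.orderOf_dvd_natCard _ hh))
    have h1 := congrArg (fun q => q ^ Nat.card ↥(P.B ⊓ P.N)) h0
    rw [← QuotientGroup.mk_pow, ← QuotientGroup.mk_pow, hh1, QuotientGroup.mk_one, QuotientGroup.eq_one_iff,
      Subgroup.mem_subgroupOf] at h1
    exact h1
  -- a central involution
  have hfixU : ∀ u ∈ U, u • a = a := fun u hu => (hstab u).2 (hUB hu)
  have hUeven : Even (Nat.card U) := by
    have h1 := Cfsg.Agent.Lie.R1C.Reg.ncard_orbit_mul U b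
    have horb : MulAction.orbit U b = {a}ᶜ := by
      ext c
      constructor
      · rintro ⟨⟨v, hv⟩, rfl⟩ (e : v • b = a)
        exact hab (MulAction.injective v ((hfixU v hv).trans e.symm))
      · intro hc
        obtain ⟨v, hv, e⟩ := htrans c hc
        exact ⟨⟨v, hv⟩, e⟩
    erw [horb] at h1
    rw [Set.ncard_compl, Set.ncard_singleton, ← Subgroup.index_eq_card] at h1
    rw [← h1]
    exact (Nat.Odd.sub_odd hind odd_one).mul_right _
  obtain ⟨Q, V, hQV⟩ := Cfsg.Agent.Lie.R1C.exists_psplit hUnil Nat.prime_two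
  obtain ⟨z, hzQ, hz2, hzc⟩ := hQV.exists_central Nat.prime_two (even_iff_two_dvd.1 hUeven)
  have hzU : z ∈ U := hQV.S_le hzQ
  have hzz : z * z = 1 := by rw [← pow_two, ← hz2, pow_orderOf_eq_one]
  have hz1 : z ≠ 1 := fun e => by rw [e, orderOf_one] at hz2; omega
  have hsemi : ∀ x ∈ U, (∀ u ∈ U, x * u = u * x) → x • b = b → x = 1 := by
    intro x hx hc hxb
    refine FaithfulSMul.eq_of_smul_eq_smul (α := G ⧸ P.B) fun c => ?_
    rw [one_smul]
    by_cases hca : c = a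
    · rw [hca, hfixU x hx]
    obtain ⟨u, hu, rfl⟩ := htrans c hca
    rw [smul_smul, hc u hu, mul_smul, hxb]
  have honly : ∀ c, z • c = c → c = a := by
    intro c hc
    by_contra hca
    obtain ⟨u, hu, rfl⟩ := htrans c hca
    rw [smul_smul, hzc u hu, mul_smul, smul_left_cancel_iff] at hc
    exact hz1 (hsemi z hzU hzc hc)
  obtain ⟨g, hg, hgne⟩ : ∃ g : G, Commute z (g * z * g⁻¹) ∧ g * z * g⁻¹ ≠ z := by
    by_contra hno
    push Not at hno
    have hcomm := Cfsg.Agent.Char.zStar_isolated (z := z) ⟨hz2, hno⟩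
    have hcore : Cfsg.oddCore G = ⊥ := by
      refine (inferInstance : (Cfsg.oddCore G).Normal).eq_bot_or_eq_top.resolve_right fun h => ?_
      have h1 := Cfsg.Agent.Char.card_oddCore_odd G
      rw [h, Subgroup.card_top] at h1
      exact h1.not_two_dvd_nat (hz2 ▸ orderOf_dvd_natCard z)
    have hzcen : z ∈ Subgroup.center G := Subgroup.mem_center_iff.2 fun g => by
      have h := hcomm g
      rw [hcore, Subgroup.mem_bot, mul_inv_eq_one, mul_inv_eq_iff_eq_mul] at h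
      exact h.symm
    rcases (inferInstance : (Subgroup.center G).Normal).eq_bot_or_eq_top with h | h
    · rw [h, Subgroup.mem_bot] at hzcen
      exact hz1 hzcen
    · haveI : P.B.Normal := ⟨fun x hx g => by
        rw [Subgroup.mem_center_iff.1 (h ▸ Subgroup.mem_top x) g, mul_inv_cancel_right]
        exact hx⟩
      rcases (inferInstance : P.B.Normal).eq_bot_or_eq_top with h' | h'
      · exact hz1 (Subgroup.mem_bot.1 (h' ▸ hUB hzU))
      · exact hsB (h' ▸ Subgroup.mem_top s)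
  have hga : g • a = a := by
    have h1 : z • ((g * z * g⁻¹) • a) = (g * z * g⁻¹) • a := by
      rw [smul_smul, hg.eq, mul_smul, hfixU z hzU]
    have h2 := honly _ h1
    rw [mul_smul, mul_smul, ← eq_inv_smul_iff] at h2
    exact ((inv_smul_eq_iff.1 (honly _ h2)).symm)
  obtain ⟨z', hz'⟩ : ∃ z', z' = g * z * g⁻¹ := ⟨_, rfl⟩
  have hgB := (hstab g).1 hga
  have hz'U : z' ∈ U := hz' ▸ hconjU g hgB z hzU
  have hz'2 : z' * z' = 1 := by
    rw [hz', show g * z * g⁻¹ * (g * z * g⁻¹) = g * (z * z) * g⁻¹ by group, hzz]; group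
  have hz'c : ∀ u ∈ U, z' * u = u * z' := fun u hu => by
    have h1 := hzc _ (hconjU g⁻¹ (inv_mem hgB) u hu)
    rw [inv_inv] at h1
    rw [hz']
    calc g * z * g⁻¹ * u = g * (z * (g⁻¹ * u * g)) * g⁻¹ := by group
      _ = g * (g⁻¹ * u * g * z) * g⁻¹ := by rw [h1]
      _ = u * (g * z * g⁻¹) := by group
  have hz'1 : z' ≠ 1 := fun e => hz1 (conj_eq_one_iff.1 (hz' ▸ e))
  have hNR : Cfsg.Agent.Lie.R1C.Reg.NR G (G ⧸ P.B) a b U := by
    refine ⟨hab, inferInstance, fun u hu => hfixU u hu, fun x hx u hu => hconjU x ((hstab x).1 hx) u hu, hUnil,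
      htrans, htwo, z, z', hzU, hz'U, hzz, hz'2, hzc, hz'c, fun e => hz1 (hsemi z hzU hzc e),
      fun e => hz'1 (hsemi z' hz'U hz'c e), fun e => hgne ?_⟩
    have h1 := hsemi (z⁻¹ * z') (mul_mem (inv_mem hzU) hz'U) (fun u hu => by
      rw [inv_eq_of_mul_eq_one_right hzz, mul_assoc, hz'c u hu, ← mul_assoc, hzc u hu, mul_assoc]) (by
      rw [mul_smul, ← e, inv_smul_smul])
    rw [← hz']
    exact (inv_mul_eq_one.1 h1).symm
  obtain ⟨w, -, hctx⟩ :=
    Cfsg.Agent.Lie.R1C.Reg.ctx hNR (Cfsg.Agent.Lie.R1C.Reg.regular hNR)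
  refine (Cfsg.Agent.Lie.R1C.simple_main hctx).imp ?_ id
  rintro ⟨F, iF, iFF, ⟨n, -, hn⟩, he⟩
  exact ⟨F, iF, iFF, ⟨n, hn⟩, he⟩

end Cfsg.Agent.S0349
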