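import Cfsg.Statements.S0357
import Cfsg.Agent.Lib.Spor.SteinerCount

set_option autoImplicit false
open Cfsg

namespace Cfsg.Agent.S0357

/-- In a Steiner system S(5, 6, 12), the complement of every block is again a block. -/
theorem result {α : Type*} [Fintype α] [DecidableEq α] (hα : Fintype.card α = 12) {B : Set (Finset α)} (hB : Cfsg.IsSteinerSystem 5 6 B) {b : Finset α} (hb : b ∈ B) : bᶜ ∈ B := by
  obtain ⟨F, rfl⟩ := Spor.Steiner.exists_finset B
  obtain ⟨h0, -⟩ := Spor.Steiner.five_six hα hB hb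
  obtain ⟨c, hc⟩ := Finset.card_eq_one.1 h0
  have hc' : c ∈ F.filter (fun c => (b ∩ c).card = 0) := hc ▸ Finset.mem_singleton_self c
  rw [Finset.mem_filter, Finset.card_eq_zero] at hc'
  have : c = bᶜ := Finset.eq_of_subset_of_card_le
    (fun x hx => Finset.mem_compl.2 fun hb' =>
      Finset.notMem_empty x (hc'.2 ▸ Finset.mem_inter.2 ⟨hb', hx⟩))
    (by rw [Finset.card_compl, hB.1 b hb, hB.1 c hc'.1, hα])
  exact this ▸ hc'.1


end Cfsg.Agent.S0357
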