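import Cfsg.Statements.S0371
import Cfsg.Agent.Lib.Spor.GolayCount

set_option autoImplicit false
open Cfsg

namespace Cfsg.Agent.S0371

/-- Multiplication by a nonzero square residue modulo 23, fixing the extra point, lies in the group of the length-24 code. -/
theorem result (u : (ZMod 23)ˣ) (hu : IsSquare u) : Equiv.optionCongr (Units.mulLeft u) ∈ Cfsg.M24 := by
  have key : ∀ u : (ZMod 23)ˣ, (∃ r : (ZMod 23)ˣ, u = r * r) → ∀ g ∈ Cfsg.Agent.Spor.codeBasis,
      Cfsg.Agent.Spor.mask ((Cfsg.Agent.Spor.ofMask g).image (Equiv.optionCongr (Units.mulLeft u))) ∈ Cfsg.Agent.Spor.codeMasks := by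
    decide +kernel
  exact Cfsg.Agent.Spor.mem_M24.2 (key u hu)

end Cfsg.Agent.S0371
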