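import Cfsg.Statements.S0408
import Cfsg.Agent.Lib.Spor.SmallSteiner

set_option autoImplicit false
open Cfsg

namespace Cfsg.Agent.S0408

/-- Uniqueness of the Steiner system S(5, 6, 12) up to isomorphism. -/
theorem result {α β : Type*} [Fintype α] [DecidableEq α] [Fintype β] [DecidableEq β] (hα : Fintype.card α = 12) (hβ : Fintype.card β = 12) {B : Set (Finset α)} {B' : Set (Finset β)} (hB : Cfsg.IsSteinerSystem 5 6 B) (hB' : Cfsg.IsSteinerSystem 5 6 B') : Cfsg.SetSystemIso B B' := by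
  obtain ⟨F, rfl⟩ := Cfsg.Agent.Spor.Steiner.exists_finset B
  obtain ⟨F', rfl⟩ := Cfsg.Agent.Spor.Steiner.exists_finset B'
  obtain ⟨a⟩ : Nonempty (Fin 5 ↪ α) := Function.Embedding.nonempty_of_card_le (by rw [hα, Fintype.card_fin]; norm_num)
  obtain ⟨b⟩ : Nonempty (Fin 5 ↪ β) := Function.Embedding.nonempty_of_card_le (by rw [hβ, Fintype.card_fin]; norm_num)
  obtain ⟨e, he, -⟩ := Cfsg.Agent.Spor.SmallSys.iso_frames hα hB hβ hB' a b
  refine ⟨e, ?_⟩
  ext t
  simp only [Set.mem_image, Finset.mem_coe]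
  constructor
  · rintro ⟨s, hs, rfl⟩
    exact (he s).1 hs
  · intro ht
    have h : (t.image e.symm).image e = t := by rw [Finset.image_image, Equiv.self_comp_symm, Finset.image_id]
    exact ⟨t.image e.symm, (he _).2 (h.symm ▸ ht), h⟩


end Cfsg.Agent.S0408
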