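import Cfsg.Statements.S0412
import Cfsg.Agent.Lib.Spor.SteinerUnique

set_option autoImplicit false
open Cfsg
open scoped Pointwise

namespace Cfsg.Agent.S0412

/-- Aut of an S(5, 8, 24) is simple of order 244823040 and 5-transitive on points. -/
theorem result {α : Type*} [Fintype α] [DecidableEq α] (hα : Fintype.card α = 24) {B : Set (Finset α)} (hB : Cfsg.IsSteinerSystem 5 8 B) : Cfsg.IsM24 (Cfsg.setSystemAut B) ∧ MulAction.IsMultiplyPretransitive (Cfsg.setSystemAut B) α 5 := by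
  obtain ⟨F, rfl⟩ := Cfsg.Agent.Spor.Steiner.exists_finset B
  have h : Cfsg.Agent.Spor.Code24.Sys 0 F := ⟨by norm_num, by omega, hB⟩
  obtain ⟨g, -, -, Φ, -⟩ := h.aut_equiv ⟨Fin.elim0, fun i => i.elim0⟩
  have htop : MulAction.stabilizer Cfsg.M24 (Finset.univ.image (⟨Fin.elim0, fun i => i.elim0⟩ : Fin 0 ↪ Cfsg.GolayPt)) = ⊤ := by
    refine eq_top_iff.2 fun σ _ => ?_
    rw [MulAction.mem_stabilizer_iff, Finset.univ_eq_empty, Finset.image_empty]
    rfl
  have e : Cfsg.setSystemAut (F : Set (Finset α)) ≃* Cfsg.M24 :=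
    Φ.symm.trans ((MulEquiv.subgroupCongr htop).trans Subgroup.topEquiv)
  haveI := Cfsg.Agent.Spor.simple_M24
  exact ⟨⟨e.isSimpleGroup, (Nat.card_congr e.toEquiv).trans Cfsg.Agent.Spor.card_M24⟩, h.aut_trans⟩


end Cfsg.Agent.S0412
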