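import Cfsg.Statements.S0413
import Cfsg.Agent.Lib.Spor.SteinerUnique

set_option autoImplicit false
open Cfsg
open scoped Pointwise

namespace Cfsg.Agent.S0413

/-- Aut of an S(4, 7, 23) is simple of order 10200960 and 4-transitive. -/
theorem result {α : Type*} [Fintype α] [DecidableEq α] (hα : Fintype.card α = 23) {B : Set (Finset α)} (hB : Cfsg.IsSteinerSystem 4 7 B) : Cfsg.IsM23 (Cfsg.setSystemAut B) ∧ MulAction.IsMultiplyPretransitive (Cfsg.setSystemAut B) α 4 := by
  obtain ⟨F, rfl⟩ := Cfsg.Agent.Spor.Steiner.exists_finset B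
  have h : Cfsg.Agent.Spor.Code24.Sys 1 F := ⟨by norm_num, by omega, hB⟩
  let x : Fin 1 ↪ Cfsg.GolayPt := ⟨fun _ => none, fun i j _ => Subsingleton.elim i j⟩
  obtain ⟨g, -, -, Φ, -⟩ := h.aut_equiv x
  have hP : Finset.univ.image x = {(none : Cfsg.GolayPt)} := rfl
  have hst : MulAction.stabilizer Cfsg.M24 (Finset.univ.image x) = MulAction.stabilizer Cfsg.M24 (none : Cfsg.GolayPt) := by
    ext σ
    rw [MulAction.mem_stabilizer_iff, MulAction.mem_stabilizer_iff, hP, Finset.smul_finset_singleton,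
      Finset.singleton_inj]
  have e : Cfsg.setSystemAut (F : Set (Finset α)) ≃* MulAction.stabilizer Cfsg.M24 (none : Cfsg.GolayPt) :=
    Φ.symm.trans (MulEquiv.subgroupCongr hst)
  haveI := Cfsg.Agent.Spor.simple_stabilizer_point none
  exact ⟨⟨e.isSimpleGroup, (Nat.card_congr e.toEquiv).trans (Cfsg.Agent.Spor.card_stabilizer_point none)⟩, h.aut_trans⟩


end Cfsg.Agent.S0413
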