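import Cfsg.Statements.S0415
import Cfsg.Agent.Lib.Perm.HallFourPerm
-- import your own Cfsg.Agent.* helpers here

set_option autoImplicit false
open Cfsg

namespace Cfsg.Agent.S0415

open Cfsg.Agent.Perm.HallFour Cfsg.Agent.Perm.HallFourPerm

/-- Degrees of sharply 4-transitive permutation groups are 4, 5, 6, 11. -/
theorem result {α : Type*} [Fintype α] [DecidableEq α] (G : Subgroup (Equiv.Perm α)) (h4 : 4 ≤ Fintype.card α) [MulAction.IsMultiplyPretransitive G α 4] (hsharp : ∀ x : Fin 4 ↪ α, MulAction.stabilizer G x = ⊥) : Fintype.card α = 4 ∨ Fintype.card α = 5 ∨ Fintype.card α = 6 ∨ Fintype.card α = 11 := by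
  obtain ⟨x⟩ : Nonempty (Fin 4 ↪ α) :=
    Function.Embedding.nonempty_of_card_le (by rw [Fintype.card_fin]; exact h4)
  have hG : MulAction.IsMultiplyPretransitive G α 4 := inferInstance
  have hs : Nat.card (MulAction.stabilizer G x) = 1 := by rw [hsharp x, Subgroup.card_bot]
  have hd := degree (h4_of_perm hG x (by rw [hs]; exact odd_one))
    (by rw [Nat.card_eq_fintype_card]; exact h4)
  rw [Nat.card_eq_fintype_card] at hd
  rcases hd with e | e | e | e | e
  · exact Or.inl e
  · exact Or.inr (Or.inl e)
  · exact Or.inr (Or.inr (Or.inl e))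
  · exfalso
    have hc := card_eq hG x
    have hidx := G.card_mul_index
    rw [Nat.card_perm, Nat.card_eq_fintype_card (α := α), hc, hs, e] at hidx
    norm_num [Nat.descFactorial, Nat.factorial] at hidx
    exact index_ne_six (G := G) e (by omega)
  · exact Or.inr (Or.inr (Or.inr e))

end Cfsg.Agent.S0415
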