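import Cfsg.Statements.S0418
import Cfsg.Agent.Lib.Spor.SharpMathieu

set_option autoImplicit false
open Cfsg

namespace Cfsg.Agent.S0418

/-- A sharply 4-transitive group of degree 11 is simple of order 7920. -/
theorem result {α : Type*} [Fintype α] [DecidableEq α] (hα : Fintype.card α = 11) (G : Subgroup (Equiv.Perm α)) [MulAction.IsMultiplyPretransitive G α 4] (hsharp : ∀ x : Fin 4 ↪ α, MulAction.stabilizer G x = ⊥) : Cfsg.IsM11 G := by
  have ht : MulAction.IsMultiplyPretransitive G α 4 := inferInstance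
  have hn : (Fintype.card α = 11 ∧ 4 = 4) ∨ (Fintype.card α = 12 ∧ 4 = 5) := by omega
  obtain ⟨B, hB, hle⟩ := Cfsg.Agent.Spor.SmallSys.sharp_steiner ht hsharp hn
  rcases Cfsg.Agent.Spor.SmallSys.sharp_card ht hsharp with hc | hc
  · rw [hα] at hc
    have e : G = Cfsg.setSystemAut (B : Set (Finset α)) := Subgroup.eq_of_le_of_card_ge hle (by
      rw [hc, Cfsg.Agent.Spor.SmallSys.aut_card11 hα hB]; decide)
    exact ⟨e ▸ Cfsg.Agent.Spor.SmallSys.m11_spec hα hB, hc.trans (by decide)⟩
  · omega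


end Cfsg.Agent.S0418
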