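import Cfsg.Statements.S0421
import Cfsg.Agent.Lib.Spor.MTwelve.Index
import Cfsg.Agent.Lib.Spor.MTwelve.CentShape.Exclude
-- import your own Cfsg.Agent.* helpers here

set_option autoImplicit false
open scoped Pointwise
open Cfsg

namespace Cfsg.Agent.S0421

/-- Simple groups of order 95040 are all isomorphic to the concrete Mathieu group of degree 12. -/
theorem result {G : Type*} [Group G] [Finite G] (hG : Cfsg.IsM12 G) (d : Finset Cfsg.GolayPt) (hd : d ∈ Cfsg.dodecads) : Nonempty (G ≃* ↥(MulAction.stabilizer Cfsg.M24 d)) := by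
  obtain ⟨hS, hcard⟩ := hG
  haveI := hS
  obtain ⟨D⟩ := Cfsg.Agent.MTwelve.setup_of_card hS hcard
  refine Cfsg.Agent.MTwelve.isoM12_dodecad (Cfsg.Agent.MTwelve.isoM12_of_setup (fun h => ?_) D) hd
  haveI : Fact (Nat.Prime 11) := ⟨by norm_num⟩
  exact Cfsg.Agent.Lead.BlockDeg.not_comm (p := 11) (m := 8640) (by norm_num) (by rw [hcard]) (by norm_num) h

end Cfsg.Agent.S0421
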