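import Cfsg.Statements.S0439
import Cfsg.Agent.Lib.Spor.ThreeBasic

set_option autoImplicit false
open Cfsg

namespace Cfsg.Agent.S0439

/-- In the symmetric group of degree n ≥ 2, the set of transpositions is a conjugacy class of 3-transpositions which generates the group. -/
theorem result (n : ℕ) (hn : 2 ≤ n) : Cfsg.IsThreeTranspositionClass {σ : Equiv.Perm (Fin n) | σ.IsSwap} := by
  haveI : NeZero n := ⟨by omega⟩
  let d : Equiv.Perm (Fin n) := Equiv.swap ⟨0, by omega⟩ ⟨1, by omega⟩
  have hd : d.IsSwap := ⟨⟨0, by omega⟩, ⟨1, by omega⟩, by simp [Fin.ext_iff], rfl⟩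
  refine ⟨⟨?_, ?_⟩, ⟨d, hd, ?_⟩, Equiv.Perm.closure_isSwap⟩
  · rintro σ ⟨i, j, hij, rfl⟩
    exact orderOf_eq_prime (by rw [pow_two, Equiv.swap_mul_self])
      (fun h => hij (by simpa using (congrArg (fun p : Equiv.Perm (Fin n) => p i) h).symm))
  · rintro σ ⟨i, j, hij, rfl⟩ τ ⟨k, l, hkl, rfl⟩
    have three : ∀ a b c : Fin n, a ≠ b → a ≠ c → b ≠ c →
        (Equiv.swap a b * Equiv.swap a c) ^ 3 = 1 := by
      intro a b c hab hac hbc
      have h := (Equiv.Perm.isThreeCycle_swap_mul_swap_same hab hac hbc).orderOf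
      rw [← h, pow_orderOf_eq_one]
    by_cases hik : i = k
    · subst hik
      by_cases hjl : j = l
      · subst hjl; left; simp
      · exact Or.inr (three i j l hij hkl hjl)
    by_cases hil : i = l
    · subst hil
      by_cases hjk : j = k
      · subst hjk; left; simp [Equiv.swap_comm i j]
      · right; rw [Equiv.swap_comm k i]; exact three i j k hij (Ne.symm hkl) hjk
    by_cases hjk : j = k
    · subst hjk
      right; rw [Equiv.swap_comm i j]
      exact three j i l (Ne.symm hij) hkl hil
    by_cases hjl : j = l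
    · subst hjl
      right; rw [Equiv.swap_comm i j, Equiv.swap_comm k j]
      exact three j i k (Ne.symm hij) (Ne.symm hkl) hik
    left
    have hd : Equiv.Perm.Disjoint (Equiv.swap i j) (Equiv.swap k l) := by
      intro x
      by_cases hxi : x = i
      · right; subst hxi; exact Equiv.swap_apply_of_ne_of_ne hik hil
      by_cases hxj : x = j
      · right; subst hxj; exact Equiv.swap_apply_of_ne_of_ne hjk hjl
      · left; exact Equiv.swap_apply_of_ne_of_ne hxi hxj
    rw [hd.commute.mul_pow, pow_two, pow_two, Equiv.swap_mul_self, Equiv.swap_mul_self, one_mul]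
  · ext σ
    simp only [conjugatesOf, Set.mem_setOf_eq]
    constructor
    · rintro ⟨i, j, hij, rfl⟩
      exact Equiv.Perm.isConj_swap (by simp [Fin.ext_iff]) hij
    · intro h
      obtain ⟨g, rfl⟩ := isConj_iff.1 h
      exact ⟨g ⟨0, by omega⟩, g ⟨1, by omega⟩, by simp [Fin.ext_iff],
        by rw [Equiv.swap_apply_apply]⟩


end Cfsg.Agent.S0439
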