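import Cfsg.Statements.S0441
import Cfsg.Agent.Lib.Fischer.Transitive
-- import your own Cfsg.Agent.* helpers here

set_option autoImplicit false
open Cfsg
open scoped commutatorElement

namespace Cfsg.Agent.S0441

/-- Fischer's rank-three property. Let a finite group be generated by a conjugacy class D of 3-transpositions, with non-abelian simple commutator subgroup. Then for a in D there are members of D other than a commuting with a and members not commuting with a, and the centraliser of a acts transitively on each of these two sets. -/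
theorem result {G : Type*} [Group G] [Finite G] {D : Set G} (hD : Cfsg.IsThreeTranspositionClass D) (hsimple : IsSimpleGroup (commutator G)) (hnonab : ∃ x y : commutator G, x * y ≠ y * x) {a : G} (ha : a ∈ D) : (∃ b ∈ D, b ≠ a ∧ Commute a b) ∧ (∃ c ∈ D, ¬ Commute a c) ∧ (∀ b ∈ D, ∀ b' ∈ D, b ≠ a → b' ≠ a → Commute a b → Commute a b' → ∃ g : G, Commute g a ∧ g * b * g⁻¹ = b') ∧ (∀ c ∈ D, ∀ c' ∈ D, ¬ Commute a c → ¬ Commute a c' → ∃ g : G, Commute g a ∧ g * c * g⁻¹ = c') := by
  haveI := hsimple
  have hperf : ⁅commutator G, commutator G⁆ = commutator G := by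
    have h1 : (commutator (commutator G)).map (commutator G).subtype = ⁅commutator G, commutator G⁆ :=
      Subgroup.map_subtype_commutator _
    rcases (inferInstance : (commutator (commutator G)).Normal).eq_bot_or_eq_top with h | h
    · obtain ⟨x, y, hxy⟩ := hnonab
      refine absurd ?_ hxy
      have hm : ⁅x, y⁆ ∈ commutator (commutator G) := by
        rw [commutator_def (↥(commutator G))]
        exact Subgroup.commutator_mem_commutator (Subgroup.mem_top x) (Subgroup.mem_top y)
      rw [h, Subgroup.mem_bot] at hm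
      exact commutatorElement_eq_one_iff_mul_comm.1 hm
    · rw [← h1, h, ← MonoidHom.range_eq_map, Subgroup.range_subtype]
  have hcore : ∀ p : ℕ, p.Prime → Cfsg.pCore p G ≤ Subgroup.center G := fun p hp => by
    haveI := Fact.mk hp
    haveI := Solv.pCore_normal (G := G) p
    rcases hsimple.eq_bot_or_eq_top_of_normal _
        (inferInstance : ((Cfsg.pCore p G).subgroupOf (commutator G)).Normal) with h | h
    · rw [Subgroup.subgroupOf_eq_bot] at h
      refine fun g hg => Subgroup.mem_center_iff.2 fun x => ?_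
      have hmem : g * x * g⁻¹ * x⁻¹ ∈ Cfsg.pCore p G ⊓ commutator G := by
        refine ⟨?_, ?_⟩
        · rw [SetLike.mem_coe, mul_assoc, mul_assoc, ← mul_assoc x]
          exact mul_mem hg ((Solv.pCore_normal p).conj_mem _ (inv_mem hg) x)
        · rw [SetLike.mem_coe, commutator_def]
          exact Subgroup.commutator_mem_commutator (Subgroup.mem_top g) (Subgroup.mem_top x)
      rw [h.eq_bot, Subgroup.mem_bot] at hmem
      exact (eq_mul_of_mul_inv_eq (mul_inv_eq_one.1 hmem)).symm
    · rw [Subgroup.subgroupOf_eq_top] at h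
      exfalso
      obtain ⟨x, y, hxy⟩ := hnonab
      haveI : Group.IsSolvable (commutator G) :=
        Spor.pgroup_solvable ((Solv.pCore_isPGroup (G := G) p).to_le h)
      exact hxy (IsSimpleGroup.comm_iff_isSolvable.2 ‹_› x y)
  have hD2 : ∃ a ∈ D, ∃ b ∈ D, a ≠ b := by
    by_contra hno
    push Not at hno
    have hcomm : ∀ x y : G, x * y = y * x := by
      have htop : Subgroup.zpowers a = ⊤ := by
        rw [eq_top_iff, ← hD.2.2, Subgroup.closure_le]
        exact fun x hx => hno a ha x hx ▸ Subgroup.mem_zpowers a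
      intro x y
      obtain ⟨i, rfl⟩ := (htop ▸ Subgroup.mem_top x : x ∈ Subgroup.zpowers a)
      obtain ⟨j, rfl⟩ := (htop ▸ Subgroup.mem_top y : y ∈ Subgroup.zpowers a)
      exact ((Commute.refl a).zpow_zpow i j).eq
    obtain ⟨x, y, hxy⟩ := hnonab
    exact hxy (Subtype.ext (hcomm x y))
  obtain ⟨hprim, hw⟩ := Fischer.primitive hD hD2 (hcore 2 Nat.prime_two) (hcore 3 Nat.prime_three) hperf
  have h : Fischer.Hyp D := ⟨hD, hprim, hw⟩
  refine ⟨?_, Spor.exists_braid hD hD2 ha, ?_, ?_⟩
  · obtain ⟨p, hp, q, hq, hne, hc⟩ := hw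
    obtain ⟨g, rfl⟩ := Spor.class_conj hD hp ha
    exact ⟨g * q * g⁻¹, h.conj_mem g hq, fun e => hne (by simpa using e.symm),
      (Commute.conj_iff g).2 hc⟩
  · intro b hb b' hb' hba hb'a hc hc'
    obtain ⟨g, hg, hgb⟩ := h.nbr_transitive ha (⟨hb, hba, hc⟩ : b ∈ Fischer.nbr D a) ⟨hb', hb'a, hc'⟩
    exact ⟨g, Subgroup.mem_centralizer_singleton_iff.1 (Fischer.Hyp.closure_nbr_le a hg), hgb⟩
  · intro c hc c' hc' hn hn'
    exact h.outside_transitive ha hc hc' hn hn'

end Cfsg.Agent.S0441
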