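import Cfsg.Statements.S0442
import Cfsg.Agent.Lib.Spor.ThreeBasic

set_option autoImplicit false
open Cfsg

namespace Cfsg.Agent.S0442

/-- A standard trick for producing elements of an involution centraliser: for an involution a and an element g, let b be the conjugate g⁻¹ * a * g. If a * b has odd order 2m + 1 then g * (a * b) ^ m commutes with a; if a * b has even order 2m then (a * b) ^ m and (a * (g * a * g⁻¹)) ^ m commute with a. -/
theorem result {G : Type*} [Group G] (a g : G) (ha : orderOf a = 2) : (∀ m : ℕ, orderOf (a * (g⁻¹ * a * g)) = 2 * m + 1 → Commute (g * (a * (g⁻¹ * a * g)) ^ m) a) ∧ (∀ m : ℕ, orderOf (a * (g⁻¹ * a * g)) = 2 * m → Commute ((a * (g⁻¹ * a * g)) ^ m) a ∧ Commute ((a * (g * a * g⁻¹)) ^ m) a) := by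
  have haa := Cfsg.Agent.Spor.mul_self_of_order_two ha
  have conjinv : ∀ (b : G), b * b = 1 → ∀ m : ℕ, a * (a * b) ^ m * a = ((a * b) ^ m)⁻¹ := by
    intro b hb m
    have hai : a⁻¹ = a := inv_eq_of_mul_eq_one_right haa
    have hbi : b⁻¹ = b := inv_eq_of_mul_eq_one_right hb
    calc a * (a * b) ^ m * a = (a * (a * b) * a⁻¹) ^ m := by rw [conj_pow, hai]
      _ = ((a * b)⁻¹) ^ m := by
        congr 1; rw [mul_inv_rev, hai, hbi, ← mul_assoc a a, haa, one_mul]
      _ = ((a * b) ^ m)⁻¹ := inv_pow _ _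
  have even : ∀ (b : G), b * b = 1 → ∀ m : ℕ, (a * b) ^ (2 * m) = 1 →
      Commute ((a * b) ^ m) a := by
    intro b hb m hm
    have h1 : ((a * b) ^ m)⁻¹ = (a * b) ^ m :=
      inv_eq_of_mul_eq_one_right (by rw [← pow_add, ← two_mul, hm])
    have h2 := conjinv b hb m
    rw [h1] at h2
    calc (a * b) ^ m * a = a * (a * (a * b) ^ m * a) := by
          rw [← mul_assoc a, ← mul_assoc a a, haa, one_mul]
      _ = a * (a * b) ^ m := by rw [h2]
  have hb1 : (g⁻¹ * a * g) * (g⁻¹ * a * g) = 1 := by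
    calc _ = g⁻¹ * (a * a) * g := by group
      _ = 1 := by rw [haa]; group
  have hb2 : (g * a * g⁻¹) * (g * a * g⁻¹) = 1 := by
    calc _ = g * (a * a) * g⁻¹ := by group
      _ = 1 := by rw [haa]; group
  constructor
  · intro m hm
    set b := g⁻¹ * a * g with hb
    set t := a * b with ht
    have hN : t ^ (2 * m + 1) = 1 := by rw [← hm]; exact pow_orderOf_eq_one t
    have h2 := conjinv b hb1 m
    rw [← ht] at h2
    have e1 : t ^ m * a = b * t ^ m := by
      have i1 : t⁻¹ = t ^ m * t ^ m :=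
        inv_eq_of_mul_eq_one_right (by rw [← pow_add, ← pow_succ', ← two_mul, hN])
      calc t ^ m * a = a * (a * t ^ m * a) := by rw [← mul_assoc a, ← mul_assoc a a, haa, one_mul]
        _ = a * (t ^ m)⁻¹ := by rw [h2]
        _ = a * (t * t ^ m) := by
            congr 1
            rw [inv_eq_iff_mul_eq_one, ← pow_succ', ← pow_add,
              show m + (m + 1) = 2 * m + 1 by omega, hN]
        _ = b * t ^ m := by rw [ht, ← mul_assoc, ← mul_assoc, haa, one_mul]
    show g * t ^ m * a = a * (g * t ^ m)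
    rw [mul_assoc, e1, hb]; group
  · intro m hm
    refine ⟨even _ hb1 m (by rw [← hm]; exact pow_orderOf_eq_one _), even _ hb2 m ?_⟩
    have e : a * (g * a * g⁻¹) = g * (a * (g⁻¹ * a * g))⁻¹ * g⁻¹ := by
      simp [mul_assoc, Cfsg.Agent.Spor.inv_of_order_two ha]
    rw [e, conj_pow, inv_pow, ← hm, pow_orderOf_eq_one]; simp


end Cfsg.Agent.S0442
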