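import Cfsg.Statements.S0444
import Cfsg.Agent.Lib.Spor.ThreeBasic

set_option autoImplicit false
open Cfsg

namespace Cfsg.Agent.S0444

/-- Two members of a set of 3-transpositions which do not commute generate a subgroup isomorphic to the symmetric group on three letters. -/
theorem result {G : Type*} [Group G] {E : Set G} (hE : Cfsg.IsThreeTranspositionSet E) {d e : G} (hd : d ∈ E) (he : e ∈ E) (h : ¬ Commute d e) : Nonempty (Subgroup.closure ({d, e} : Set G) ≃* Equiv.Perm (Fin 3)) := by
  classical
  have hdd := Cfsg.Agent.Spor.mul_self_of_order_two (hE.1 d hd)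
  have hee := Cfsg.Agent.Spor.mul_self_of_order_two (hE.1 e he)
  have hbr := (Cfsg.Agent.Spor.commute_or_braid hE hd he).resolve_left h
  have hde : d ≠ e := fun hh => h (hh ▸ Commute.refl d)
  set S : Set G := {d, e, d * e * d} with hS
  have hcd : d * e * d ≠ d := by
    intro hh
    exact h (show d * e = e * d by
      calc d * e = d * e * (d * d) := by rw [hdd, mul_one]
        _ = d * d := by rw [← mul_assoc, hh]
        _ = _ := by
          have : e = d := by
            calc e = d * (d * e * d) * d := by
                  simp only [mul_assoc]; rw [hdd, mul_one, ← mul_assoc d d, hdd, one_mul]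
              _ = d := by rw [hh, hdd, one_mul]
          rw [this])
  have hce : d * e * d ≠ e := by
    intro hh
    exact h (show d * e = e * d by
      calc d * e = d * e * d * d := by rw [mul_assoc, hdd, mul_one]
        _ = e * d := by rw [hh])
  have hcard : S.ncard = 3 := by
    rw [Set.ncard_insert_of_notMem (by simp [hde, Ne.symm hcd]),
      Set.ncard_pair (Ne.symm hce)]
  have hpres : ∀ g ∈ Subgroup.closure ({d, e} : Set G), ∀ x ∈ S, g * x * g⁻¹ ∈ S := by
    intro g hg
    have hinv : ∀ g : G, (∀ x ∈ S, g * x * g⁻¹ ∈ S) → ∀ x ∈ S, g⁻¹ * x * g⁻¹⁻¹ ∈ S := by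
      intro g hg x hx
      have hfin : S.Finite := Set.toFinite _
      have hsurj := hfin.surjOn_iff_bijOn_of_mapsTo (f := fun x => g * x * g⁻¹) hg
      have himg : (fun x => g * x * g⁻¹) '' S = S :=
        Set.eq_of_subset_of_ncard_le (Set.image_subset_iff.2 hg)
          (le_of_eq (Set.ncard_image_of_injective _ (MulAut.conj g).injective).symm) hfin
      rw [← himg] at hx
      obtain ⟨y, hy, rfl⟩ := hx
      convert hy using 1; group
    induction hg using Subgroup.closure_induction with
    | mem g hg =>
      have hdi := Cfsg.Agent.Spor.inv_of_order_two (hE.1 d hd)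
      have hei := Cfsg.Agent.Spor.inv_of_order_two (hE.1 e he)
      intro x hx
      rcases hg with rfl | rfl <;> rcases hx with rfl | rfl | rfl <;>
        simp only [hS, hdi, hei, Set.mem_insert_iff, Set.mem_singleton_iff]
      · left; rw [hdd, one_mul]
      · right; right; trivial
      · right; left; simp only [mul_assoc]; rw [hdd, mul_one, ← mul_assoc, hdd, one_mul]
      · right; right; exact hbr.symm
      · right; left; rw [hee, one_mul]
      · left
        rw [hbr]; simp only [mul_assoc]; rw [hee, mul_one, ← mul_assoc, hee, one_mul]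
    | one => intro x hx; simpa using hx
    | mul g g' _ _ ih ih' =>
      intro x hx; convert ih _ (ih' x hx) using 1; group
    | inv g _ ih => exact hinv g ih
  let H := Subgroup.closure ({d, e} : Set G)
  let f : H →* Equiv.Perm S :=
    { toFun := fun g => Equiv.Perm.subtypePerm (p := fun x => x ∈ S) (MulAut.conj (g : G)).toEquiv (fun x => by
        constructor
        · intro hx
          have := hpres _ (H.inv_mem g.2) _ hx
          simpa [mul_assoc] using this
        · intro hx; exact hpres _ g.2 x hx)
      map_one' := by ext x; simp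
      map_mul' := fun g g' => by
        ext x
        show ((g : G) * g') * (x : G) * ((g : G) * g')⁻¹ =
          (g : G) * ((g' : G) * x * (g' : G)⁻¹) * (g : G)⁻¹
        group }
  have hdH : d ∈ H := Subgroup.subset_closure (Or.inl rfl)
  have heH : e ∈ H := Subgroup.subset_closure (Or.inr rfl)
  -- the group has at most six elements
  let six : Set G := {1, d, e, d * e, e * d, d * e * d}
  have hsix : (H : Set G) ⊆ six := by
    intro g hg
    have hdi := Cfsg.Agent.Spor.inv_of_order_two (hE.1 d hd)
    have hei := Cfsg.Agent.Spor.inv_of_order_two (hE.1 e he)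
    have step : ∀ x, x = d ∨ x = e → ∀ y ∈ six, x * y ∈ six := by
      intro x hx y hy
      simp only [six, Set.mem_insert_iff, Set.mem_singleton_iff] at hy ⊢
      rcases hx with rfl | rfl <;> rcases hy with rfl | rfl | rfl | rfl | rfl | rfl
      · simp
      · simp [hdd]
      · simp
      · simp [← mul_assoc, hdd]
      · simp [mul_assoc]
      · simp [← mul_assoc, hdd]
      · simp
      · simp
      · simp [hee]
      · right; right; right; right; right; rw [hbr, mul_assoc]
      · simp [← mul_assoc, hee]
      · right; right; right; left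
        rw [hbr, ← mul_assoc, ← mul_assoc, hee, one_mul]
    have : ∀ y ∈ six, g * y ∈ six := by
      induction hg using Subgroup.closure_induction_left with
      | one => intro y hy; simpa using hy
      | mul_left x hx g _ ih => intro y hy; rw [mul_assoc]; exact step x hx _ (ih y hy)
      | inv_mul_cancel x hx g _ ih =>
        intro y hy; rw [mul_assoc]
        refine step _ ?_ _ (ih y hy)
        rcases hx with rfl | rfl
        · left; exact hdi
        · right; exact hei
    simpa using this 1 (by simp [six])
  have hle : Nat.card H ≤ 6 := by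
    rw [← SetLike.coe_sort_coe, Nat.card_coe_set_eq]
    refine (Set.ncard_le_ncard hsix).trans ?_
    calc six.ncard ≤ _ := Set.ncard_insert_le _ _
      _ ≤ 5 + 1 := by
        gcongr
        calc _ ≤ _ := Set.ncard_insert_le _ _
          _ ≤ 4 + 1 := by
            gcongr
            calc _ ≤ _ := Set.ncard_insert_le _ _
              _ ≤ 3 + 1 := by
                gcongr
                calc _ ≤ _ := Set.ncard_insert_le _ _
                  _ ≤ 2 + 1 := by
                    gcongr
                    calc _ ≤ _ := Set.ncard_insert_le _ _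
                      _ ≤ 1 + 1 := by rw [Set.ncard_singleton]
      _ = 6 := rfl
  haveI : Finite S := (Set.toFinite S).to_subtype
  have hP : Nat.card (Equiv.Perm S) = 6 := by
    rw [Nat.card_perm, Nat.card_coe_set_eq, hcard]; rfl
  -- two different involutions in the range
  have hne : ∀ g : H, ∀ x ∈ S, (g : G) * x * (g : G)⁻¹ ≠ x → f g ≠ 1 := by
    intro g x hx hgx hf
    exact hgx (congrArg Subtype.val (congrArg (fun p : Equiv.Perm S => p ⟨x, hx⟩) hf))
  have hdi := Cfsg.Agent.Spor.inv_of_order_two (hE.1 d hd)
  have hei := Cfsg.Agent.Spor.inv_of_order_two (hE.1 e he)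
  have n1 : f ⟨d, hdH⟩ ≠ 1 := hne _ e (by simp [S]) (by simpa [hdi] using hce)
  have n2 : f ⟨e, heH⟩ ≠ 1 := hne _ d (by simp [S]) (by simpa [hei, ← hbr] using hcd)
  have n3 : f ⟨d, hdH⟩ ≠ f ⟨e, heH⟩ := by
    intro hh
    have := congrArg Subtype.val (congrArg (fun p : Equiv.Perm S => p ⟨e, by simp [S]⟩) hh)
    simp [f, hdi, hei, hee] at this
    exact hce this
  have sq1 : f ⟨d, hdH⟩ * f ⟨d, hdH⟩ = 1 := by
    rw [← map_mul, show (⟨d, hdH⟩ : H) * ⟨d, hdH⟩ = 1 from Subtype.ext hdd, map_one]
  have h2 : 2 ∣ Nat.card f.range := by
    have : orderOf (f ⟨d, hdH⟩) = 2 := orderOf_eq_prime (by rw [pow_two, sq1]) n1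
    rw [← this]
    exact Subgroup.orderOf_dvd_natCard _ ⟨_, rfl⟩
  have hge : 3 ≤ Nat.card f.range := by
    let k : Fin 3 → f.range := ![1, f.rangeRestrict ⟨d, hdH⟩, f.rangeRestrict ⟨e, heH⟩]
    have hk : Function.Injective k := by
      intro i j hij
      have := congrArg Subtype.val hij
      fin_cases i <;> fin_cases j <;> first
        | rfl
        | exact absurd this n1
        | exact absurd this.symm n1
        | exact absurd this n2
        | exact absurd this.symm n2
        | exact absurd this n3
        | exact absurd this.symm n3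
    simpa using Nat.card_le_card_of_injective k hk
  have hd6 : Nat.card f.range ∣ 6 := hP ▸ Subgroup.card_subgroup_dvd_card f.range
  have h6 : Nat.card f.range = 6 := by
    have hle6 := Nat.le_of_dvd (by norm_num) hd6
    interval_cases hc : Nat.card f.range <;> omega
  have hsurj : Function.Surjective f := by
    rw [← MonoidHom.range_eq_top]
    exact Subgroup.eq_top_of_card_eq _ (h6.trans hP.symm)
  have hHfin : Finite H := (Set.Finite.subset (Set.toFinite six) hsix).to_subtype
  have hbij : Function.Bijective f := by
    refine ⟨?_, hsurj⟩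
    exact (Function.Surjective.bijective_of_nat_card_le hsurj (hle.trans hP.ge)).1
  have eS : S ≃ Fin 3 := Finite.equivFinOfCardEq (by rw [Nat.card_coe_set_eq, hcard])
  exact ⟨(MulEquiv.ofBijective f hbij).trans eS.permCongrHom⟩


end Cfsg.Agent.S0444
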