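import Cfsg.Statements.S0462
import Cfsg.Agent.Lib.Spor.HeSp4

set_option autoImplicit false
open Cfsg

namespace Cfsg.Agent.S0462

open Cfsg.Agent.Spor.CC Cfsg.Agent.Spor.HeCert in
theorem exists_perm : ∃ H : Subgroup (Equiv.Perm (Fin 2058)), Cfsg.IsHe H ∧ MulAction.IsPretransitive H (Fin 2058) ∧ ∃ (F : Type) (_ : Field F) (_ : Fintype F), Fintype.card F = 4 ∧ ∃ N : Subgroup (MulAction.stabilizer H (0 : Fin 2058)), N.index = 2 ∧ Nonempty (N ≃* Matrix.symplecticGroup (Fin 2) F) := by
  let φ : pres.Grp →* Equiv.Perm (Fin 2058) := rep.hom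
  let e : pres.Grp ≃* φ.range := MonoidHom.ofInjective order.2.2
  haveI : IsSimpleGroup pres.Grp := simple
  haveI : Nontrivial φ.range := e.toEquiv.symm.nontrivial
  have hs : IsSimpleGroup φ.range := IsSimpleGroup.isSimpleGroup_of_surjective e.toMonoidHom e.surjective
  refine ⟨φ.range, ⟨hs, by rw [← Nat.card_congr e.toEquiv]; exact order.2.1⟩, ⟨fun x y => ?_⟩, ?_⟩
  · obtain ⟨p, hp⟩ := rep.exists_move x
    obtain ⟨q, hq⟩ := rep.exists_move y
    refine ⟨⟨φ (q * p⁻¹), _, rfl⟩, ?_⟩
    show φ (q * p⁻¹) x = y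
    rw [map_mul, map_inv, Equiv.Perm.mul_apply, ← hp, ← hq]
    show rep.hom q ((rep.hom p)⁻¹ (rep.hom p rep.z)) = rep.hom q rep.z
    rw [← Equiv.Perm.mul_apply (rep.hom p)⁻¹, inv_mul_cancel, Equiv.Perm.one_apply]
  · have hmem : ∀ s : pres.Grp, s ∈ Sp4Blocks.Hsub ↔ e s ∈ MulAction.stabilizer φ.range (0 : Fin 2058) := by
      intro s
      rw [Sp4Blocks.Hsub, stab_eq.1, mem_stab]
      exact Iff.rfl
    let eS : Sp4Blocks.Hsub ≃* MulAction.stabilizer φ.range (0 : Fin 2058) :=
      { toFun := fun s => ⟨e s, (hmem _).mp s.2⟩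
        invFun := fun t => ⟨e.symm t, (hmem _).mpr (by rw [MulEquiv.apply_symm_apply]; exact t.2)⟩
        left_inv := fun s => Subtype.ext (e.symm_apply_apply _)
        right_inv := fun t => Subtype.ext (e.apply_symm_apply _)
        map_mul' := fun s t => Subtype.ext (map_mul e _ _) }
    refine ⟨Cfsg.Agent.Spor.SpFour.F4, inferInstance, inferInstance, Cfsg.Agent.Spor.SpFour.F4.card,
      Sp4Blocks.sympPart.map eS.toMonoidHom, ?_, ?_⟩
    · exact (Subgroup.index_map_equiv Sp4Blocks.sympPart eS).trans Sp4Blocks.sympPart_index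
    · obtain ⟨i⟩ := Sp4Blocks.sympPart_equiv
      exact ⟨(Subgroup.equivMapOfInjective Sp4Blocks.sympPart eS.toMonoidHom eS.injective).symm.trans i⟩


/-- The Held group exists as a transitive permutation group of degree 2058: simple of order 4030387200, with point stabiliser containing, with index 2, a copy of the 4-dimensional symplectic group over the field with four elements. -/
theorem result : ∃ H : Subgroup (Equiv.Perm (Fin 2058)), Cfsg.IsHe H ∧ MulAction.IsPretransitive H (Fin 2058) ∧ ∃ (F : Type) (_ : Field F) (_ : Fintype F), Fintype.card F = 4 ∧ ∃ N : Subgroup (MulAction.stabilizer H (0 : Fin 2058)), N.index = 2 ∧ Nonempty (N ≃* Matrix.symplecticGroup (Fin 2) F) := by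
  exact exists_perm

end Cfsg.Agent.S0462
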