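import Cfsg.Statements.S0499
import Cfsg.Agent.Lib.Fusion.NPC
import Cfsg.Agent.Lib.Small.SymSylow

set_option autoImplicit false
open Cfsg

namespace Cfsg.Agent.S0499

open Cfsg.Agent.Fusion

/-- A non-abelian finite simple group of even order has order divisible by 12, 16 or 56. -/
theorem result {G : Type*} [Group G] [Finite G] [IsSimpleGroup G]
    (hG : ¬ IsMulCommutative G) (h2 : Even (Nat.card G)) :
    12 ∣ Nat.card G ∨ 16 ∣ Nat.card G ∨ 56 ∣ Nat.card G := by
  haveI : Fact (Nat.Prime 2) := ⟨Nat.prime_two⟩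
  obtain ⟨T⟩ : Nonempty (Sylow 2 G) := inferInstance
  by_cases h8 : 8 ∣ Nat.card G
  swap
  · obtain ⟨hk, h3⟩ := Small.SymSylow.klein_sylow hG h2 h8 T
    have h4 : 4 ∣ Nat.card G := hk.1 ▸ Subgroup.card_subgroup_dvd_card (T : Subgroup G)
    have h3' : 3 ∣ Nat.card G := by
      have h : (Subgroup.centralizer ((T : Subgroup G) : Set G)).relIndex (Subgroup.normalizer ((T : Subgroup G) : Set G)) ∣
          Nat.card ↥(Subgroup.normalizer ((T : Subgroup G) : Set G)) := Subgroup.index_dvd_card _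
      rw [h3] at h
      exact h.trans (Subgroup.card_subgroup_dvd_card _)
    exact Or.inl ((show Nat.Coprime 4 3 by norm_num).mul_dvd_of_dvd_of_dvd h4 h3')
  by_cases h16 : 16 ∣ Nat.card G
  · exact Or.inr (Or.inl h16)
  by_cases h3 : 3 ∣ Nat.card G
  · exact Or.inl ((show Nat.Coprime 4 3 by norm_num).mul_dvd_of_dvd_of_dvd (dvd_trans (by norm_num) h8) h3)
  by_cases h7 : 7 ∣ Nat.card G
  · exact Or.inr (Or.inr ((show Nat.Coprime 8 7 by norm_num).mul_dvd_of_dvd_of_dvd h8 h7))
  exfalso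
  have hT : Nat.card (T : Subgroup G) ∣ 8 := by
    obtain ⟨k, hk⟩ := IsPGroup.iff_card.1 T.isPGroup'
    have hd : Nat.card (T : Subgroup G) ∣ Nat.card G := Subgroup.card_subgroup_dvd_card _
    rw [hk] at hd ⊢
    refine (pow_dvd_pow 2 (?_ : k ≤ 3))
    by_contra hlt
    exact h16 ((pow_dvd_pow 2 (by omega : 4 ≤ k)).trans hd)
  have hnpc : Cfsg.HasNormalPComplement 2 G := by
    refine hnpc_of_centralize (sylIn_top T) fun Q hQ g hg hgo => ?_
    obtain ⟨σ, hσ⟩ : ∃ σ, σ = Q.normalizerMonoidHom ⟨g, hg⟩ := ⟨_, rfl⟩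
    suffices hσ1 : σ = 1 by
      have : (⟨g, hg⟩ : Subgroup.normalizer (Q : Set G)) ∈ Q.normalizerMonoidHom.ker :=
        MonoidHom.mem_ker.2 (hσ.symm.trans hσ1)
      rw [Subgroup.normalizerMonoidHom_ker] at this
      exact this
    by_contra hσ1
    have hd : orderOf σ ∣ orderOf g := by
      rw [hσ, ← Subgroup.orderOf_mk g hg]
      exact orderOf_map_dvd _ _
    obtain ⟨r, hr, hrd⟩ := Nat.exists_prime_and_dvd (fun h => hσ1 (orderOf_eq_one_iff.1 h))
    have hr2 : r ≠ 2 := fun h => by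
      have := (hgo.coprime_dvd_left (hrd.trans hd))
      rw [h] at this; norm_num at this
    have hr3 : r ≠ 3 := fun h => h3 (h ▸ (hrd.trans hd).trans (orderOf_dvd_natCard g))
    have hr7 : r ≠ 7 := fun h => h7 (h ▸ (hrd.trans hd).trans (orderOf_dvd_natCard g))
    haveI : Fact r.Prime := ⟨hr⟩
    obtain ⟨τ, hτo⟩ : ∃ τ : MulAut Q, orderOf τ = r := by
      exact ⟨σ ^ (orderOf σ / r), orderOf_pow_orderOf_div (orderOf_pos σ).ne' hrd⟩
    have hP : IsPGroup r (Subgroup.zpowers τ) := IsPGroup.of_card (n := 1) (by rw [Nat.card_zpowers, hτo, pow_one])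
    have hmod := hP.card_modEq_card_fixedPoints ↥Q
    obtain ⟨F, hF⟩ : ∃ F : Subgroup ↥Q, F = MonoidHom.eqLocus τ.toMonoidHom (MonoidHom.id ↥Q) := ⟨_, rfl⟩
    have hfix : MulAction.fixedPoints (Subgroup.zpowers τ) ↥Q = (F : Set ↥Q) := by
      ext q
      constructor
      · intro hq
        rw [hF]
        exact hq ⟨τ, Subgroup.mem_zpowers τ⟩
      · intro hq σ'
        obtain ⟨s, hs⟩ := σ'
        rw [hF] at hq
        have hq' : τ ∈ MulAction.stabilizer (MulAut ↥Q) q := hq
        exact (Subgroup.zpowers_le.2 hq' hs : s ∈ MulAction.stabilizer (MulAut ↥Q) q)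
    rw [Nat.card_coe_set_eq, hfix, ← Nat.card_coe_set_eq] at hmod
    have hFne : Nat.card F ≠ Nat.card Q := fun h => by
      have := Subgroup.eq_top_of_card_eq F h
      have : τ = 1 := MulEquiv.ext fun q => by
        have hq : q ∈ F := this ▸ Subgroup.mem_top q
        rw [hF] at hq
        exact hq
      rw [this, orderOf_one] at hτo
      exact hr.ne_one hτo.symm
    have hFd : Nat.card F ∣ Nat.card Q := Subgroup.card_subgroup_dvd_card _
    have hQd : Nat.card Q ∣ 8 := (Subgroup.card_dvd_of_le hQ).trans hT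
    have hr2' := hr.two_le
    have hle : Nat.card Q ≤ 8 := Nat.le_of_dvd (by norm_num) hQd
    have hFle := Nat.le_of_dvd Nat.card_pos hFd
    have hFpos : 0 < Nat.card F := Nat.card_pos
    have hsub : r ∣ Nat.card Q - Nat.card F := (Nat.modEq_iff_dvd' hFle).1 hmod.symm
    have hrle : r ≤ 8 := by
      have := Nat.le_of_dvd (by omega) hsub
      omega
    generalize Nat.card ↥Q = a at *
    generalize Nat.card ↥F = b at *
    revert hr hFne hFd hQd hsub hr2 hr3 hr7
    interval_cases r <;> interval_cases a <;> interval_cases b <;> norm_num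
  rcases IsSimpleGroup.eq_bot_or_eq_top_of_normal (Cfsg.pResidual 2 G) inferInstance with h | h
  · have hP : IsPGroup 2 G := by
      intro g
      obtain ⟨k, hk⟩ := (isPGroup_quotient_pResidual (p := 2) (G := G)) (QuotientGroup.mk g)
      rw [← QuotientGroup.mk_pow, QuotientGroup.eq_one_iff, h, Subgroup.mem_bot] at hk
      exact ⟨k, hk⟩
    haveI := hP.center_nontrivial
    have hZ : Subgroup.center G = ⊤ := (IsSimpleGroup.eq_bot_or_eq_top_of_normal _ inferInstance).resolve_left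
      ((Subgroup.nontrivial_iff_ne_bot _).1 ‹_›)
    exact hG ⟨⟨fun a b => Subgroup.mem_center_iff.1 (hZ ▸ Subgroup.mem_top b) a⟩⟩
  · have h1 := hnpc_iff.1 hnpc
    rw [h, Subgroup.card_top] at h1
    exact (Nat.not_odd_iff_even.2 h2) (Nat.coprime_two_right.1 h1)

end Cfsg.Agent.S0499
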