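import Cfsg.Statements.S0504
import Cfsg.Agent.Lib.Lead.CharTwoConn

set_option autoImplicit false
open Cfsg

namespace Cfsg.Agent.S0504

/-- Let G be a finite group containing an elementary abelian subgroup of order 8, with no nontrivial normal subgroup of
odd order, not of component type, and with a Sylow 2-subgroup whose commuting graph of Klein four-subgroups is
connected. Then every 2-local subgroup H of G satisfies C_H(O₂(H)) ≤ O₂(H). -/
theorem result {G : Type*} [Group G] [Finite G]
    (h3 : ¬ Cfsg.PRankLE 2 2 G) (hO : Cfsg.oddCore G = ⊥) (hc : ¬ Cfsg.IsComponentType G) (S : Sylow 2 G)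
    (hS : Cfsg.IsFourConnected (S : Subgroup G)) : Cfsg.IsCharacteristicTwoType G := by
  have h2c := Scn3.locCons_of_not_component hc
  refine ⟨?_, Scn3.charTwo_of_cores h2c (Scn3.cores_of_connected h2c h3 hO S hS)⟩
  by_contra hodd
  refine h3 fun A hA hA2 => ?_
  obtain ⟨k, hk⟩ := Local.elemAb_card_pow (⟨hA, hA2⟩ : Cfsg.IsElementaryAbelian 2 A)
  rcases Nat.eq_zero_or_pos k with rfl | hk0
  · rw [hk]; norm_num
  · exfalso
    refine hodd (even_iff_two_dvd.2 ?_)
    exact (hk ▸ dvd_pow_self 2 hk0.ne' : 2 ∣ Nat.card A).trans (Subgroup.card_subgroup_dvd_card A)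

end Cfsg.Agent.S0504
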