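import Cfsg.Statements.S0520
import Cfsg.Agent.Lib.Local.ElemAb
import Cfsg.Agent.Lib.Fusion.Basic

set_option autoImplicit false
open Cfsg

namespace Cfsg.Agent.S0520

open Cfsg.Agent.Fusion Cfsg.Agent.Local

/-- Let G be a finite group of 2-rank at least 2 and S a Sylow 2-subgroup whose commuting graph of Klein four-subgroups is
connected. Then the commuting graph of Klein four-subgroups of G is disconnected if and only if the 2-generated core — the
subgroup generated by the normalizers N_G(Q) of the subgroups Q of S that contain a Klein four-group — is a proper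
subgroup of G. -/
theorem result {G : Type*} [Group G] [Finite G] (h2 : ¬ Cfsg.PRankLE 2 1 G)
    (S : Sylow 2 G) (hS : Cfsg.IsFourConnected (S : Subgroup G)) :
    ¬ Cfsg.IsFourConnected G ↔
      (⨆ Q : {Q : Subgroup G // Q ≤ (S : Subgroup G) ∧ ¬ Cfsg.PRankLE 2 1 Q},
          Subgroup.normalizer ((Q : Subgroup G) : Set G)) ≠ ⊤ := by
  haveI : Fact (Nat.Prime 2) := ⟨Nat.prime_two⟩
  -- four-groups detect rank two
  have hfour : ∀ (X : Type _) [Group X] [Finite X], ¬ Cfsg.PRankLE 2 1 X → ∃ A : Subgroup X, IsKleinFour A := by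
    intro X _ _ hX
    simp only [Cfsg.PRankLE, not_forall] at hX
    obtain ⟨A, hc, ha, hA⟩ := hX
    have hEl : Cfsg.IsElementaryAbelian 2 A := ⟨hc, ha⟩
    obtain ⟨K, -, hK, hK4⟩ := exists_subgroup_two_pow hEl (S := ⊥) bot_le (n := 0) (m := 2) (by simp) (by norm_num)
      (by
        obtain ⟨k, hk⟩ := elemAb_card_pow hEl
        rw [hk] at hA ⊢
        refine Nat.pow_le_pow_right (by norm_num) ?_
        by_contra hlt
        exact hA (Nat.pow_le_pow_right (by norm_num) (by omega)))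
    exact ⟨K, elemAb_isKleinFour (elemAb_mono hEl hK) (by simpa using hK4)⟩
  have hrank : ∀ {X : Type _} [Group X] (A : Subgroup X), IsKleinFour A → ¬ Cfsg.PRankLE 2 1 X := by
    intro X _ A hA h
    have hEl := isKleinFour_elemAb hA
    have := h A hEl.1 hEl.2
    rw [hA.1] at this
    norm_num at this
  have hV : ∀ {A : Subgroup G}, IsKleinFour A → IsPGroup 2 A := fun hA => IsPGroup.of_card (n := 2) (by rw [hA.1]; norm_num)
  have hcjV : ∀ {A : Subgroup G}, IsKleinFour A → ∀ g, IsKleinFour (cj A g) := fun {A} hA g =>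
    elemAb_isKleinFour ⟨⟨⟨by
      rintro ⟨_, a, ha, rfl⟩ ⟨_, b, hb, rfl⟩
      refine Subtype.ext ?_
      show MulAut.conj g a * MulAut.conj g b = MulAut.conj g b * MulAut.conj g a
      have := congrArg Subtype.val ((isKleinFour_elemAb hA).1.is_comm.comm ⟨a, ha⟩ ⟨b, hb⟩)
      simp only [Subgroup.coe_mul] at this
      rw [← map_mul, ← map_mul, this]⟩⟩, by
      rintro _ ⟨a, ha, rfl⟩
      show (MulAut.conj g a) ^ 2 = 1
      rw [← map_pow, (isKleinFour_elemAb hA).2 a ha, map_one]⟩ (by rw [card_cj]; exact hA.1)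
  obtain ⟨R, hR⟩ : ∃ R : Subgroup G → Subgroup G → Prop, R = fun A B : Subgroup G =>
      IsKleinFour A ∧ IsKleinFour B ∧ ∀ a ∈ A, ∀ b ∈ B, a * b = b * a := ⟨_, rfl⟩
  obtain ⟨M, hM⟩ : ∃ M, M = ⨆ Q : {Q : Subgroup G // Q ≤ (S : Subgroup G) ∧ ¬ Cfsg.PRankLE 2 1 Q},
      Subgroup.normalizer ((Q : Subgroup G) : Set G) := ⟨_, rfl⟩
  rw [← hM, not_iff_not]
  show (∀ U V : Subgroup G, IsKleinFour U → IsKleinFour V → Relation.ReflTransGen _ U V) ↔ M = ⊤
  rw [← hR]
  have hNM : ∀ Q : Subgroup G, Q ≤ (S : Subgroup G) → (∃ A, A ≤ Q ∧ IsKleinFour A) →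
      Subgroup.normalizer (Q : Set G) ≤ M := by
    rintro Q hQ ⟨A, hAQ, hA⟩
    refine hM ▸ le_iSup (fun Q : {Q : Subgroup G // Q ≤ (S : Subgroup G) ∧ ¬ Cfsg.PRankLE 2 1 Q} =>
      Subgroup.normalizer ((Q : Subgroup G) : Set G)) ⟨Q, hQ, hrank (A.subgroupOf Q) ?_⟩
    refine elemAb_isKleinFour ⟨⟨⟨fun a b => Subtype.ext (Subtype.ext ?_)⟩⟩, fun a ha => Subtype.ext ?_⟩
      ((Nat.card_congr (Subgroup.subgroupOfEquivOfLe hAQ).toEquiv).trans hA.1)
    · exact congrArg (fun w : ↥A => (w : G)) ((isKleinFour_elemAb hA).1.is_comm.comm ⟨_, a.2⟩ ⟨_, b.2⟩)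
    · exact (isKleinFour_elemAb hA).2 _ ha
  -- a four-group in S
  obtain ⟨A₀, hA₀S, hA₀⟩ : ∃ A, A ≤ (S : Subgroup G) ∧ IsKleinFour A := by
    obtain ⟨A, hA⟩ := hfour G h2
    obtain ⟨g, -, hg⟩ := (sylIn_top S).conj_le (hV hA) le_top
    exact ⟨_, hg, hcjV hA g⟩
  have hSM : (S : Subgroup G) ≤ M := Subgroup.le_normalizer.trans (hNM _ le_rfl ⟨A₀, hA₀S, hA₀⟩)
  constructor
  · intro hconn
    -- four-groups of M are closed under commuting
    have hstep : ∀ A B, R A B → A ≤ M → B ≤ M := by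
      intro A B hAB hAM
      rw [hR] at hAB
      obtain ⟨hA, hB, hc⟩ := hAB
      obtain ⟨m, hm, hmle⟩ := ((sylIn_top S).mono hSM le_top).conj_le (hV hA) hAM
      intro b hb
      have h1 : m * b * m⁻¹ ∈ Subgroup.normalizer (cj A m : Set G) := by
        refine Subgroup.centralizer_le_normalizer _ (Subgroup.mem_centralizer_iff.2 ?_)
        rintro _ ⟨a, ha, rfl⟩
        show MulAut.conj m a * MulAut.conj m b = MulAut.conj m b * MulAut.conj m a
        rw [← map_mul, ← map_mul, hc a ha b hb]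
      have h3 := hNM _ hmle ⟨_, le_rfl, hcjV hA m⟩ h1
      simpa [mul_assoc] using M.mul_mem (M.mul_mem (M.inv_mem hm) h3) hm
    have hall : ∀ B : Subgroup G, IsKleinFour B → B ≤ M := by
      intro B hB
      have h := hconn A₀ B hA₀ hB
      induction h with
      | refl => exact hA₀S.trans hSM
      | tail _ hAB ih => exact hstep _ _ hAB (ih (by rw [hR] at hAB; exact hAB.1))
    obtain ⟨K, hK⟩ : ∃ K : Subgroup G, K = ⨆ B : {B : Subgroup G // IsKleinFour B}, (B : Subgroup G) := ⟨_, rfl⟩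
    have hKM : K ≤ M := hK ▸ iSup_le fun B => hall B B.2
    haveI hKn : K.Normal := normal_iff_cj.2 fun g => cj_eq_of_cj_le (by
      rw [hK, cj, Subgroup.map_iSup]
      exact iSup_le fun B => le_iSup (fun B : {B : Subgroup G // IsKleinFour B} => (B : Subgroup G))
        ⟨cj (B : Subgroup G) g, hcjV B.2 g⟩)
    have hSK : SylIn 2 ((S : Subgroup G) ⊓ K) K := (sylIn_top S).inf_normal le_top (by
      rw [Subgroup.normalizer_eq_top])
    refine eq_top_iff.2 fun g _ => ?_
    obtain ⟨k, hk, hke⟩ := (by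
      have h3 := hSK.cj g
      rw [cj_of_normal K] at h3
      exact h3.conj_eq hSK : ∃ k ∈ K, cj (cj ((S : Subgroup G) ⊓ K) g) k = (S : Subgroup G) ⊓ K)
    rw [cj_cj] at hke
    exact (Subgroup.mul_mem_cancel_left _ (hKM hk)).1 (hNM _ inf_le_left
      ⟨A₀, le_inf hA₀S (hK ▸ le_iSup (fun B : {B : Subgroup G // IsKleinFour B} => (B : Subgroup G)) ⟨A₀, hA₀⟩), hA₀⟩
      (mem_normalizer_iff_cj.2 hke))
  · intro htop U V hU hV'
    -- the component of A₀
    have hsymm : ∀ {A B}, Relation.ReflTransGen R A B → Relation.ReflTransGen R B A := by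
      intro A B h
      induction h with
      | refl => exact Relation.ReflTransGen.refl
      | tail _ hab ih =>
        refine Relation.ReflTransGen.head ?_ ih
        rw [hR] at hab ⊢
        exact ⟨hab.2.1, hab.1, fun x hx y hy => (hab.2.2 y hy x hx).symm⟩
    have hmove : ∀ (g : G) {A B}, Relation.ReflTransGen R A B → Relation.ReflTransGen R (cj A g) (cj B g) := by
      intro g A B h
      induction h with
      | refl => exact Relation.ReflTransGen.refl
      | tail _ hab ih =>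
        refine ih.tail ?_
        rw [hR] at hab ⊢
        refine ⟨hcjV hab.1 g, hcjV hab.2.1 g, ?_⟩
        rintro _ ⟨a, ha, rfl⟩ _ ⟨b, hb, rfl⟩
        show MulAut.conj g a * MulAut.conj g b = MulAut.conj g b * MulAut.conj g a
        rw [← map_mul, ← map_mul, hab.2.2 a ha b hb]
    have hinS : ∀ A, A ≤ (S : Subgroup G) → IsKleinFour A → Relation.ReflTransGen R A₀ A := by
      intro A hAS hA
      have hsub : ∀ W : Subgroup G, W ≤ (S : Subgroup G) → IsKleinFour W → IsKleinFour (W.subgroupOf (S : Subgroup G)) := by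
        intro W hW hWk
        refine elemAb_isKleinFour ⟨⟨⟨fun a b => Subtype.ext (Subtype.ext ?_)⟩⟩, fun a ha => Subtype.ext ?_⟩
          ((Nat.card_congr (Subgroup.subgroupOfEquivOfLe hW).toEquiv).trans hWk.1)
        · exact congrArg (fun w : ↥W => (w : G)) ((isKleinFour_elemAb hWk).1.is_comm.comm ⟨_, a.2⟩ ⟨_, b.2⟩)
        · exact (isKleinFour_elemAb hWk).2 _ ha
      have h := (hS _ _ (hsub A₀ hA₀S hA₀) (hsub A hAS hA)).lift (fun W => W.map (S : Subgroup G).subtype) (p := R)
        fun a b hab => by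
          obtain ⟨h1, h2, h3⟩ := hab
          have hmapK : ∀ W : Subgroup ↥(S : Subgroup G), IsKleinFour W → IsKleinFour (W.map (S : Subgroup G).subtype) := by
            intro W hW
            refine elemAb_isKleinFour ⟨⟨⟨?_⟩⟩, ?_⟩
              ((Subgroup.card_map_of_injective (S : Subgroup G).subtype_injective).trans hW.1)
            · rintro ⟨_, a, ha, rfl⟩ ⟨_, b, hb, rfl⟩
              exact Subtype.ext (congrArg (fun w : ↥W => (((w : ↥(S : Subgroup G))) : G))
                ((isKleinFour_elemAb hW).1.is_comm.comm ⟨a, ha⟩ ⟨b, hb⟩))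
            · rintro _ ⟨a, ha, rfl⟩
              exact congrArg Subtype.val ((isKleinFour_elemAb hW).2 a ha)
          rw [hR]
          refine ⟨hmapK _ h1, hmapK _ h2, ?_⟩
          rintro _ ⟨x, hx, rfl⟩ _ ⟨y, hy, rfl⟩
          exact congrArg Subtype.val (h3 x hx y hy)
      simpa only [Function.onFun, Subgroup.map_subgroupOf_eq_of_le hA₀S, Subgroup.map_subgroupOf_eq_of_le hAS] using h
    have hstab : ∀ g : G, Relation.ReflTransGen R A₀ (cj A₀ g) := by
      intro g
      have hg : g ∈ M := htop ▸ Subgroup.mem_top g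
      rw [hM] at hg
      induction hg using Subgroup.iSup_induction' with
      | hp Q g hg =>
        obtain ⟨Q, hQS, hQ⟩ := Q
        obtain ⟨A', hA'⟩ := hfour ↥Q hQ
        have hA'' : IsKleinFour (A'.map Q.subtype) := by
          refine elemAb_isKleinFour ⟨⟨⟨?_⟩⟩, ?_⟩ ((Subgroup.card_map_of_injective Q.subtype_injective).trans hA'.1)
          · rintro ⟨_, a, ha, rfl⟩ ⟨_, b, hb, rfl⟩
            exact Subtype.ext (congrArg (fun w : ↥A' => ((w : ↥Q) : G))
              ((isKleinFour_elemAb hA').1.is_comm.comm ⟨a, ha⟩ ⟨b, hb⟩))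
          · rintro _ ⟨a, ha, rfl⟩
            exact congrArg Subtype.val ((isKleinFour_elemAb hA').2 a ha)
        have hle : A'.map Q.subtype ≤ (S : Subgroup G) := (Subgroup.map_subtype_le _).trans hQS
        have hle' : cj (A'.map Q.subtype) g ≤ (S : Subgroup G) :=
          ((cj_mono (Subgroup.map_subtype_le _) g).trans (cj_eq_self hg).le).trans hQS
        exact (hinS _ hle' (hcjV hA'' g)).trans (hmove g (hsymm (hinS _ hle hA'')))
      | h1 => rw [cj_one]
      | hmul x y _ _ hx hy =>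
        rw [← cj_cj]
        exact hx.trans (hmove x hy)
    have hto : ∀ W : Subgroup G, IsKleinFour W → Relation.ReflTransGen R A₀ W := by
      intro W hW
      obtain ⟨g, -, hg⟩ := (sylIn_top S).conj_le (hV hW) le_top
      have h1 := hmove g⁻¹ (hinS _ hg (hcjV hW g))
      rw [cj_cj_inv] at h1
      exact (hstab g⁻¹).trans h1
    exact (hsymm (hto U hU)).trans (hto V hV')

end Cfsg.Agent.S0520
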