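import Cfsg.Statements.S0521
import Cfsg.Agent.Lib.Solv.FrattiniModule
import Cfsg.Agent.Lib.OddLocal.OddStable
import Cfsg.Agent.Lib.Char.ItoConverse
import Cfsg.Agent.Lib.Fusion.RankTwoExponent
-- import your own Cfsg.Agent.* helpers here

set_option autoImplicit false
open Cfsg

namespace Cfsg.Agent.S0521

open scoped commutatorElement

theorem abelian_sup {G : Type*} [Group G] (D : Subgroup G) (x : G) (hD : IsMulCommutative D)
    (hx : x ∈ Subgroup.centralizer (D : Set G)) : IsMulCommutative ↥(Subgroup.zpowers x ⊔ D) := by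
  have hcl : Subgroup.zpowers x ⊔ D = Subgroup.closure ({x} ∪ (D : Set G)) := by
    rw [Subgroup.closure_union, Subgroup.closure_eq, Subgroup.zpowers_eq_closure]
  rw [hcl]
  refine Subgroup.isMulCommutative_closure ?_
  rintro a (rfl | ha) b (rfl | hb)
  · rfl
  · exact (Subgroup.mem_centralizer_iff.1 hx b hb).symm
  · exact Subgroup.mem_centralizer_iff.1 hx a ha
  · exact congrArg Subtype.val (hD.is_comm.comm ⟨a, ha⟩ ⟨b, hb⟩)

theorem normalizes {G : Type*} [Group G] {S B : Subgroup G} (hBS : B ≤ S) (hD : ⁅S, S⁆ ≤ B) :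
    S ≤ Subgroup.normalizer (B : Set G) := by
  have h : ∀ y ∈ S, ∀ b ∈ B, y * b * y⁻¹ ∈ B := fun y hy b hb => by
    rw [show y * b * y⁻¹ = ⁅y, b⁆ * b by rw [commutatorElement_def]; group]
    exact mul_mem (hD (Subgroup.commutator_mem_commutator hy (hBS hb))) hb
  intro y hy
  rw [Subgroup.mem_normalizer_iff]
  refine fun b => ⟨h y hy b, fun hb => ?_⟩
  have := h y⁻¹ (inv_mem hy) _ hb
  rwa [show y⁻¹ * (y * b * y⁻¹) * y⁻¹⁻¹ = b by group] at this

theorem stable_step {G : Type*} [Group G] [Finite G] {p : ℕ} [Fact p.Prime] (hodd : Odd (Nat.card G)) (hp : p ≠ 2)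
    (V : Subgroup G) [V.Normal] (hVp : IsPGroup p V) (hVc : IsMulCommutative V)
    (hCV : Subgroup.centralizer (V : Set G) ≤ V) (h0 : Cfsg.pCore p (G ⧸ V) = ⊥)
    (S : Subgroup G) (hVS : V ≤ S) (hc : ⁅S, S⁆ ≤ Subgroup.centralizer (S : Set G)) : S ≤ V := by
  intro x hx
  have hle : ⁅S, S⁆ ≤ S := Subgroup.commutator_le_self S
  have hD : IsMulCommutative ↥⁅S, S⁆ := ⟨⟨fun a b => Subtype.ext
    (Subgroup.mem_centralizer_iff.1 (hc b.2) a (hle a.2))⟩⟩
  have hxc : x ∈ Subgroup.centralizer ((⁅S, S⁆ : Subgroup G) : Set G) :=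
    Subgroup.mem_centralizer_iff.2 fun d hd => (Subgroup.mem_centralizer_iff.1 (hc hd) x hx).symm
  have hb := OddLocal.OddStable.mk_mem_pCore hodd hp V hVp _ (abelian_sup _ x hD hxc)
    (hVS.trans (normalizes (sup_le (Subgroup.zpowers_le.2 hx) hle) le_sup_right))
    (Subgroup.mem_sup_left (Subgroup.mem_zpowers x))
  have hCeq : Subgroup.centralizer (V : Set G) = V := le_antisymm hCV fun v hv =>
    Subgroup.mem_centralizer_iff.2 fun u hu => congrArg Subtype.val (hVc.is_comm.comm ⟨u, hu⟩ ⟨v, hv⟩)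
  have key : ∀ (W : Subgroup G) [W.Normal], W = V → QuotientGroup.mk' W x ∈ Cfsg.pCore p (G ⧸ W) → x ∈ V := by
    intro W _ e h
    subst e
    rw [h0, Subgroup.mem_bot, QuotientGroup.mk'_apply, QuotientGroup.eq_one_iff] at h
    exact h
  exact key _ hCeq hb

theorem core_bot {G : Type*} [Group G] [Finite G] [Group.IsSolvable G] {p : ℕ} [hp : Fact p.Prime]
    (hodd : Odd (Nat.card G)) (hp2 : p ≠ 2) (h0 : Cfsg.pPrimeCore p G = ⊥) (S : Subgroup G) (hS : IsPGroup p S)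
    (hTS : Cfsg.pCore p G ≤ S) (hcyc : IsCyclic ↥⁅S, S⁆) : S ≤ Cfsg.pCore p G := by
  haveI := hcyc
  have hle : ⁅S, S⁆ ≤ S := Subgroup.commutator_le_self S
  have hDab : IsMulCommutative ↥⁅S, S⁆ := IsCyclic.isMulCommutative
  have hT : IsPGroup p (Cfsg.pCore p G) := Fusion.isPGroup_pCore p G
  have hST : ⁅S, S⁆ ≤ Cfsg.pCore p G := by
    intro x hx
    exact OddLocal.OddStable.le_pCore_of_normalized hodd hp2 (Cfsg.pCore p G) hT h0 inf_le_left _ hDab
      (hTS.trans (normalizes hle le_rfl)) hx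
  obtain ⟨Φ, hΦn, V, hVn, -, hVel, hmem, hCV, hO⟩ :=
    Solv.ThmB.exists_frattini_section (Char.isPSolvable_of_isSolvable hp.out _ rfl inferInstance) h0
  haveI := hΦn
  haveI := hVn
  obtain ⟨S₂, hS₂⟩ : ∃ S₂, S₂ = S.map (QuotientGroup.mk' Φ) := ⟨_, rfl⟩
  have hS₂p : IsPGroup p S₂ := hS₂ ▸ hS.map _
  have hVS : V ≤ S₂ := fun y hy => by
    obtain ⟨g, rfl⟩ := QuotientGroup.mk'_surjective Φ y
    exact hS₂ ▸ ⟨g, hTS ((hmem g).1 hy), rfl⟩
  have hVp : IsPGroup p V := hS₂p.to_le hVS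
  have hDV : ⁅S₂, S₂⁆ ≤ V := by
    rw [hS₂, ← Subgroup.map_commutator]
    rintro _ ⟨d, hd, rfl⟩
    exact (hmem d).2 (hST hd)
  haveI hDc : IsCyclic ↥⁅S₂, S₂⁆ := by
    rw [hS₂, ← Subgroup.map_commutator]
    exact isCyclic_of_surjective ((QuotientGroup.mk' Φ).subgroupMap ⁅S, S⁆) (MonoidHom.subgroupMap_surjective _ _)
  have hDcard : Nat.card ↥⁅S₂, S₂⁆ ≤ p := by
    obtain ⟨g, hg⟩ := IsCyclic.exists_generator (α := ↥⁅S₂, S₂⁆)
    rw [← orderOf_eq_card_of_forall_mem_zpowers hg]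
    exact Nat.le_of_dvd hp.out.pos (orderOf_dvd_of_pow_eq_one (Subtype.ext (hVel.2 _ (hDV g.2))))
  have hle₂ : ⁅S₂, S₂⁆ ≤ S₂ := Subgroup.commutator_le_self S₂
  have hc : ⁅S₂, S₂⁆ ≤ Subgroup.centralizer (S₂ : Set (G ⧸ Φ)) := by
    haveI : (⁅S₂, S₂⁆.subgroupOf S₂).Normal :=
      Subgroup.normal_subgroupOf_of_le_normalizer (normalizes hle₂ le_rfl)
    have h := Fusion.le_center_of_card_prime hS₂p (⁅S₂, S₂⁆.subgroupOf S₂)
      (by rw [Nat.card_congr (Subgroup.subgroupOfEquivOfLe hle₂).toEquiv]; exact hDcard)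
    intro d hd
    refine Subgroup.mem_centralizer_iff.2 fun s hs => ?_
    exact congrArg Subtype.val (Subgroup.mem_center_iff.1 (h (x := ⟨d, hle₂ hd⟩) hd) ⟨s, hs⟩)
  have h2 := stable_step (hodd.of_dvd_nat (Subgroup.card_quotient_dvd_card Φ)) hp2 V hVp hVel.1 hCV hO S₂ hVS hc
  intro x hx
  exact (hmem x).1 (h2 (hS₂ ▸ ⟨x, hx, rfl⟩))

/-- Let X be a finite solvable group of odd order, p a prime and S a Sylow p-subgroup of X whose commutator subgroup is
cyclic. Then the product of the largest normal subgroup of X of order prime to p with S is a normal subgroup of X. -/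
theorem result {X : Type*} [Group X] [Finite X] [Group.IsSolvable X]
    (hX : Odd (Nat.card X)) (p : ℕ) [Fact p.Prime] (S : Sylow p X) (hS : IsCyclic (commutator (S : Subgroup X))) :
    (Cfsg.pPrimeCore p X ⊔ (S : Subgroup X)).Normal := by
  classical
  obtain ⟨O, hO⟩ : ∃ O, O = Cfsg.pPrimeCore p X := ⟨_, rfl⟩
  haveI : O.Normal := hO ▸ Cfsg.pPrimeCore_normal p X
  rw [← hO]
  have hp : p.Prime := Fact.out
  by_cases hp2 : p = 2
  · subst hp2
    have hS1 : (S : Subgroup X) = ⊥ := by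
      rw [← Subgroup.card_eq_one]
      obtain ⟨k, hk⟩ := S.isPGroup'.exists_card_eq
      rcases Nat.eq_zero_or_pos k with rfl | hk0
      · simpa using hk
      · exact absurd (even_iff_two_dvd.2 ((dvd_pow_self 2 hk0.ne').trans (hk ▸ Subgroup.card_subgroup_dvd_card _)))
          (Nat.not_even_iff_odd.2 hX)
    rw [hS1, sup_bot_eq]; infer_instance
  obtain ⟨π, hπ⟩ : ∃ π, π = QuotientGroup.mk' O := ⟨_, rfl⟩
  have hπs : Function.Surjective π := hπ ▸ QuotientGroup.mk'_surjective O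
  have h0 : Cfsg.pPrimeCore p (X ⧸ O) = ⊥ := by subst hO; exact Fusion.pPrimeCore_quotient_eq_bot
  have hTS : Cfsg.pCore p (X ⧸ O) ≤ (S : Subgroup X).map π := Fusion.pCore_le_sylow (S.mapSurjective hπs)
  haveI : IsCyclic ↥⁅(S : Subgroup X), (S : Subgroup X)⁆ := by
    haveI := hS
    have e : ⁅(S : Subgroup X), (S : Subgroup X)⁆ = (commutator (S : Subgroup X)).map (S : Subgroup X).subtype := by
      rw [commutator_def, Subgroup.map_commutator, ← MonoidHom.range_eq_map, Subgroup.range_subtype]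
    rw [e]
    exact isCyclic_of_surjective ((S : Subgroup X).subtype.subgroupMap (commutator (S : Subgroup X)))
      (MonoidHom.subgroupMap_surjective _ _)
  have hcyc : IsCyclic ↥⁅(S : Subgroup X).map π, (S : Subgroup X).map π⁆ := by
    rw [← Subgroup.map_commutator]
    exact isCyclic_of_surjective (π.subgroupMap ⁅(S : Subgroup X), (S : Subgroup X)⁆)
      (MonoidHom.subgroupMap_surjective _ _)
  have heq : (S : Subgroup X).map π = Cfsg.pCore p (X ⧸ O) :=
    le_antisymm (core_bot (hX.of_dvd_nat (Subgroup.card_quotient_dvd_card O)) hp2 h0 _ (S.isPGroup'.map π) hTS hcyc) hTS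
  have hcm : O ⊔ (S : Subgroup X) = ((S : Subgroup X).map π).comap π := by
    rw [Subgroup.comap_map_eq, hπ, QuotientGroup.ker_mk', sup_comm]
  rw [hcm, heq]
  exact Subgroup.Normal.comap (Cfsg.pCore_normal p _) π

end Cfsg.Agent.S0521
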