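import Cfsg.Statements.S0522
import Cfsg.Agent.S1480
import Cfsg.Agent.Lib.Fusion.SolvableBalance

set_option autoImplicit false
open Cfsg

namespace Cfsg.Agent.S0522

/-- Transitivity Theorem (odd-order setting). Let X be a finite group of odd order in which the normalizer of every
nontrivial p-subgroup is solvable, P a Sylow p-subgroup, and B an abelian subgroup of P, normalized by P, with
C_P(B) = B and containing an elementary abelian subgroup of order p^3. Then for every prime q ≠ p, any two q-subgroups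
that are maximal among the q-subgroups normalized by B are conjugate by an element of the centralizer of B. -/
theorem result {X : Type*} [Group X] [Finite X] (hX : Odd (Nat.card X)) (p : ℕ)
    [Fact p.Prime] (hloc : ∀ T : Subgroup X, IsPGroup p T → T ≠ ⊥ → Group.IsSolvable (Subgroup.normalizer (T : Set X)))
    (P : Sylow p X) (B : Subgroup X) (hBP : B ≤ (P : Subgroup X))
    (hBn : ∀ x ∈ (P : Subgroup X), ∀ b ∈ B, x * b * x⁻¹ ∈ B) (hBa : IsMulCommutative B)
    (hBc : (P : Subgroup X) ⊓ Subgroup.centralizer (B : Set X) = B)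
    (hB3 : ∃ E : Subgroup X, E ≤ B ∧ (∀ e ∈ E, e ^ p = 1) ∧ p ^ 3 ≤ Nat.card E)
    (q : ℕ) [Fact q.Prime] (hqp : q ≠ p) (Q₁ Q₂ : Subgroup X)
    (h₁ : IsPGroup q Q₁ ∧ B ≤ Subgroup.normalizer (Q₁ : Set X) ∧
      ∀ R : Subgroup X, IsPGroup q R → B ≤ Subgroup.normalizer (R : Set X) → Q₁ ≤ R → R = Q₁)
    (h₂ : IsPGroup q Q₂ ∧ B ≤ Subgroup.normalizer (Q₂ : Set X) ∧
      ∀ R : Subgroup X, IsPGroup q R → B ≤ Subgroup.normalizer (R : Set X) → Q₂ ≤ R → R = Q₂) :
    ∃ c ∈ Subgroup.centralizer (B : Set X), Q₂ = Q₁.map (MulAut.conj c).toMonoidHom := by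
  have hpconst : ∀ T : Subgroup X, IsPGroup p T → T ≠ ⊥ →
      Cfsg.IsPConstrained p ↥(Subgroup.normalizer (T : Set X)) := fun T hT hT1 => by
    haveI : Group.IsSolvable ↥(Subgroup.normalizer (T : Set X)) := hloc T hT hT1
    haveI : (Cfsg.pPrimeCore p ↥(Subgroup.normalizer (T : Set X))).Normal := Agent.Solv.pPrimeCore_normal p
    exact Agent.Fusion.isPConstrained_iff.2 (Agent.Fusion.centralizer_pCore_le_of_solvable inferInstance
      Agent.Fusion.pPrimeCore_quotient_eq_bot)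
  obtain ⟨E, hEB, hEe, hE3⟩ := hB3
  have hBp : IsPGroup p B := P.isPGroup'.to_le hBP
  have hp2 : p ≠ 2 := by
    rintro rfl
    obtain ⟨k, hk⟩ := IsPGroup.iff_card.1 (hBp.to_le hEB)
    have h1 := Subgroup.card_subgroup_dvd_card E
    rw [hk] at h1 hE3
    have hk3 : 3 ≤ k := (Nat.pow_le_pow_iff_right (by norm_num)).1 hE3
    exact (Nat.not_even_iff_odd.2 hX) (even_iff_two_dvd.2 ((dvd_pow_self 2 (by omega)).trans h1))
  have hfull : ∀ x ∈ Subgroup.centralizer (B : Set X), IsPGroup p (Subgroup.zpowers x) → x ∈ B := by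
    intro x hx hxp
    set N := Subgroup.normalizer (B : Set X)
    have hPN : (P : Subgroup X) ≤ N := fun g hg => Agent.Fusion.mem_normalizer_of_cj_le (by
      rintro _ ⟨b, hb, rfl⟩
      exact hBn g hg b hb)
    have hsN : Agent.Fusion.SylIn p (P : Subgroup X) N := (Agent.Fusion.sylIn_top P).mono hPN le_top
    have hCN : N ≤ Subgroup.normalizer ((Subgroup.centralizer (B : Set X) : Subgroup X) : Set X) := fun g hg =>
      Agent.Fusion.mem_normalizer_of_cj_le (by
        rw [Agent.Fusion.cj_centralizer, Agent.Fusion.cj_eq_self hg])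
    have hsC := hsN.inf_normal (Subgroup.centralizer_le_normalizer _) hCN
    rw [hBc] at hsC
    have hxN : Subgroup.zpowers x ≤ N :=
      (Subgroup.zpowers_le.2 hx).trans (Subgroup.centralizer_le_normalizer _)
    have heq := hsC.eq_of_le (hBp.to_sup_of_normal_left' hxp hxN) le_sup_left
      (sup_le hsC.le (Subgroup.zpowers_le.2 hx))
    rw [← heq]; exact Subgroup.mem_sup_right (Subgroup.mem_zpowers x)
  have hA : Cfsg.IsElementaryAbelian p E := ⟨⟨⟨fun u v => by
    have h := congrArg Subtype.val (hBa.is_comm.comm (⟨u.1, hEB u.2⟩ : B) (⟨v.1, hEB v.2⟩ : B))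
    exact Subtype.ext h⟩⟩, hEe⟩
  have hmax : ∀ Q : Subgroup X, (IsPGroup q Q ∧ B ≤ Subgroup.normalizer (Q : Set X) ∧
      ∀ R : Subgroup X, IsPGroup q R → B ≤ Subgroup.normalizer (R : Set X) → Q ≤ R → R = Q) →
      Q ∈ Cfsg.maxInvSubgroups ⊤ B {q} := fun Q h => Agent.S1480.mem_maxInv.2 ⟨⟨h.1, h.2.1⟩, h.2.2⟩
  obtain ⟨c, -, hc, he⟩ := Agent.S1480.transitive_aux (K := ⊤) hpconst (fun h => absurd h hp2) hBp hBa hfull hqp
    hEB hA hE3 (fun c _ _ => Subgroup.mem_top c) _ Q₁ Q₂ rfl (hmax Q₁ h₁) (hmax Q₂ h₂)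
  exact ⟨c, Subgroup.mem_centralizer_iff.2 hc, he.symm⟩

end Cfsg.Agent.S0522
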