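import Cfsg.Statements.S0534
import Cfsg.Agent.Lib.Perm.Supersolvable
import Cfsg.Agent.Lib.Solv.Hall
import Mathlib.GroupTheory.SpecificGroups.Cyclic

set_option autoImplicit false
open Cfsg

namespace Cfsg.Agent.S0534

universe u

theorem supersolvable_of_comm : ∀ (n : ℕ) {G : Type u} [CommGroup G] [Finite G], Nat.card G = n →
    Cfsg.IsSupersolvable G := by
  intro n
  induction n using Nat.strong_induction_on with
  | _ n ih =>
    intro G _ _ hn
    subst hn
    rcases subsingleton_or_nontrivial G with hG | hG
    · exact Perm.isSupersolvable_of_subsingleton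
    obtain ⟨p, hp, hpd⟩ := Nat.exists_prime_and_dvd (Finite.one_lt_card (α := G)).ne'
    haveI := Fact.mk hp
    obtain ⟨x, hx⟩ := exists_prime_orderOf_dvd_card' (G := G) p hpd
    refine Perm.isSupersolvable_of_cyclic_normal (Subgroup.zpowers x) ?_
    refine ih _ (Perm.card_quotient_lt ?_) rfl
    rw [Ne, Subgroup.zpowers_eq_bot]
    rintro rfl
    rw [orderOf_one] at hx
    exact hp.one_lt.ne hx

/-- Let G be a finite solvable group and A a finite abelian group such that every prime dividing the order of A divides the order of G and, for each prime p dividing the order of G, the exponent of p in the order of A is one less than its exponent in the order of G. Then G × A has a subgroup of every order dividing its order. -/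
theorem result {G A : Type*} [Group G] [CommGroup A] [Finite G] [Finite A] [Group.IsSolvable G] (hA : ∀ p : ℕ, p.Prime → p ∣ Nat.card A → p ∣ Nat.card G) (hexp : ∀ p : ℕ, p.Prime → p ∣ Nat.card G → (Nat.card A).factorization p + 1 = (Nat.card G).factorization p) : Cfsg.HasSubgroupOfEveryOrder (G × A) := by
  intro d hd
  rw [Nat.card_prod] at hd
  have hd0 : d ≠ 0 := by
    rintro rfl
    exact (Nat.mul_ne_zero Nat.card_pos.ne' Nat.card_pos.ne') (zero_dvd_iff.1 hd)
  obtain ⟨m, n, hmn, hco, hm, hn⟩ := Cfsg.Agent.Solv.exists_pi_split
    {p | (Nat.card G).factorization p ≤ d.factorization p} (Nat.card G) Nat.card_pos.ne'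
  obtain ⟨H, hH⟩ := Cfsg.Agent.Solv.hall_exists inferInstance hmn hco
  have hm0 : m ≠ 0 := hH ▸ Nat.card_pos.ne'
  have hn0 : n ≠ 0 := fun h => (Nat.card_pos (α := G)).ne' (by rw [hmn, h, mul_zero])
  have key : ∀ p : ℕ, p.Prime → m.factorization p ≤ d.factorization p ∧
      d.factorization p ≤ m.factorization p + (Nat.card A).factorization p := by
    intro p hp
    have hg : (Nat.card G).factorization p = m.factorization p + n.factorization p := by
      rw [hmn, Nat.factorization_mul hm0 hn0, Finsupp.add_apply]
    have htot : d.factorization p ≤ (Nat.card G).factorization p + (Nat.card A).factorization p := by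
      have := (Nat.factorization_le_iff_dvd hd0 (Nat.mul_ne_zero Nat.card_pos.ne' Nat.card_pos.ne')).2 hd p
      rwa [Nat.factorization_mul Nat.card_pos.ne' Nat.card_pos.ne', Finsupp.add_apply] at this
    by_cases hpG : p ∣ Nat.card G
    · have hex := hexp p hp hpG
      by_cases hpi : (Nat.card G).factorization p ≤ d.factorization p
      · have : n.factorization p = 0 :=
          Nat.factorization_eq_zero_of_not_dvd fun h => hn p hp h hpi
        omega
      · have : m.factorization p = 0 :=
          Nat.factorization_eq_zero_of_not_dvd fun h => hpi (hm p hp h)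
        omega
    · have h0 : (Nat.card G).factorization p = 0 := Nat.factorization_eq_zero_of_not_dvd hpG
      have hA0 : (Nat.card A).factorization p = 0 :=
        Nat.factorization_eq_zero_of_not_dvd fun h => hpG (hA p hp h)
      omega
  obtain ⟨b, rfl⟩ : m ∣ d := (Nat.factorization_le_iff_dvd hm0 hd0).1 fun p => by
    by_cases hp : p.Prime
    · exact (key p hp).1
    · simp [Nat.factorization_eq_zero_of_not_prime _ hp]
  have hb0 : b ≠ 0 := right_ne_zero_of_mul hd0
  have hb : b ∣ Nat.card A := (Nat.factorization_le_iff_dvd hb0 Nat.card_pos.ne').1 fun p => by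
    by_cases hp : p.Prime
    · have := (key p hp).2
      rw [Nat.factorization_mul hm0 hb0, Finsupp.add_apply] at this
      omega
    · simp [Nat.factorization_eq_zero_of_not_prime _ hp]
  obtain ⟨B, hB⟩ := Cfsg.Agent.Perm.hasSubgroupOfEveryOrder (supersolvable_of_comm _ rfl (G := A)) b hb
  exact ⟨H.prod B, by rw [Nat.card_congr (Subgroup.prodEquiv H B).toEquiv, Nat.card_prod, hH, hB]⟩

end Cfsg.Agent.S0534
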