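import Cfsg.Statements.S0535
import Cfsg.Agent.S0019
import Cfsg.Agent.Lib.Char.Burnside

set_option autoImplicit false
open Cfsg

namespace Cfsg.Agent.S0535

universe u

theorem mul_of_coprime_index {G : Type u} [Group G] [Finite G] (H K : Subgroup G)
    (hcop : H.index.Coprime K.index) : ∀ g : G, ∃ x ∈ H, ∃ y ∈ K, g = x * y := by
  have h1 : K.index ∣ K.relIndex H := by
    have : (H ⊓ K).index = K.relIndex H * H.index := by
      rw [← Subgroup.inf_relIndex_left H K, Subgroup.relIndex_mul_index inf_le_left]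
    refine (Nat.Coprime.dvd_of_dvd_mul_right hcop.symm ?_)
    rw [← this]
    exact Subgroup.index_dvd_of_le inf_le_right
  let emb := Subgroup.quotientSubgroupOfEmbeddingOfLE K (le_top : H ≤ ⊤)
  have hle : K.relIndex (⊤ : Subgroup G) ≤ K.relIndex H := by
    rw [Subgroup.relIndex_top_right]
    exact Nat.le_of_dvd (Nat.pos_of_ne_zero Subgroup.index_ne_zero_of_finite) h1
  have hs : Function.Surjective emb := ((Nat.bijective_iff_injective_and_card _).2
    ⟨emb.injective, le_antisymm (Nat.card_le_card_of_injective _ emb.injective) hle⟩).2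
  intro g
  obtain ⟨x, hx⟩ := hs (QuotientGroup.mk ⟨g, Subgroup.mem_top g⟩)
  induction x using QuotientGroup.induction_on with
  | H x =>
    rw [Subgroup.quotientSubgroupOfEmbeddingOfLE_apply_mk, QuotientGroup.eq,
      Subgroup.mem_subgroupOf] at hx
    exact ⟨x, x.2, (x : G)⁻¹ * g, by simpa using hx, by simp⟩

theorem aux : ∀ (n : ℕ) {G : Type u} [Group G] [Finite G], Nat.card G = n →
    (∀ H : Subgroup G, H ≠ ⊥ → ∀ p : ℕ, p.Prime → p ∣ Nat.card H →
      ∃ K : Subgroup H, K ≠ ⊤ ∧ ∃ k : ℕ, K.index = p ^ k) → Group.IsSolvable G := by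
  intro n
  induction n using Nat.strong_induction_on with
  | _ n ih =>
    intro G _ _ hn h
    subst hn
    rcases subsingleton_or_nontrivial G with hG | hG
    · infer_instance
    have sub : ∀ L : Subgroup G, L ≠ ⊤ → Group.IsSolvable L := by
      intro L hL
      refine ih _ (Solv.card_lt_of_ne_top hL) rfl ?_
      intro H hH p hp hpd
      have e : H ≃* H.map L.subtype := H.equivMapOfInjective _ L.subtype_injective
      obtain ⟨K, hK, k, hk⟩ := h (H.map L.subtype)
        (fun hb => hH ((Subgroup.map_eq_bot_iff_of_injective _ L.subtype_injective).1 hb)) p hp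
        (by rwa [← Nat.card_congr e.toEquiv])
      refine ⟨K.comap e.toMonoidHom, fun ht => hK ?_, k, ?_⟩
      · rw [← Subgroup.map_comap_eq_self_of_surjective (f := e.toMonoidHom) e.surjective K, ht,
          Subgroup.map_top_of_surjective _ e.surjective]
      · rw [← hk]
        exact Subgroup.index_comap_of_surjective _ e.surjective
    have ex : ∀ p : ℕ, p.Prime → p ∣ Nat.card G →
        ∃ A : Subgroup G, Group.IsSolvable A ∧ ∃ k : ℕ, A.index = p ^ k := by
      intro p hp hpd
      obtain ⟨K, hK, k, hk⟩ := h ⊤ top_ne_bot p hp (by rwa [Subgroup.card_top])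
      let e : (⊤ : Subgroup G) ≃* G := Subgroup.topEquiv
      have hne : K.map e.toMonoidHom ≠ ⊤ := fun ht => hK (Subgroup.map_injective
        (f := e.toMonoidHom) e.injective (ht.trans (Subgroup.map_top_of_surjective _ e.surjective).symm))
      exact ⟨_, sub _ hne, k, (Subgroup.index_map_equiv (e := e) K).trans hk⟩
    by_cases h2 : ∃ p q : ℕ, p.Prime ∧ q.Prime ∧ ∀ r : ℕ, r.Prime → r ∣ Nat.card G → r = p ∨ r = q
    · obtain ⟨p, q, hp, hq, hr⟩ := h2
      exact Cfsg.Agent.Char.isSolvable_of_two_primes hp hq _ rfl hr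
    push Not at h2
    have hne : Nat.card G ≠ 1 := (Finite.one_lt_card (α := G)).ne'
    obtain ⟨p, hp, hpd⟩ := Nat.exists_prime_and_dvd hne
    obtain ⟨q, hq, hqd, hqp, -⟩ := h2 p p hp hp
    obtain ⟨r, hr, hrd, hrp, hrq⟩ := h2 p q hp hq
    obtain ⟨A, hA, a, ha⟩ := ex p hp hpd
    obtain ⟨B, hB, b, hb⟩ := ex q hq hqd
    obtain ⟨C, hC, c, hc⟩ := ex r hr hrd
    have cop : ∀ {s t : ℕ} (i j : ℕ), s.Prime → t.Prime → s ≠ t → (s ^ i).Coprime (t ^ j) :=
      fun i j hs ht hst => ((Nat.coprime_primes hs ht).2 hst).pow i j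
    exact Cfsg.Agent.S0019.result A B C hA hB hC
      (mul_of_coprime_index A B (by rw [ha, hb]; exact cop a b hp hq (Ne.symm hqp)))
      (mul_of_coprime_index A C (by rw [ha, hc]; exact cop a c hp hr (Ne.symm hrp)))
      (by rw [hb, hc]; exact cop b c hq hr (Ne.symm hrq))

/-- Suppose that for every nontrivial subgroup H of a finite group and every prime p dividing the order of H there is a proper subgroup of H whose index in H is a power of p. Then the group is solvable. -/
theorem result {G : Type*} [Group G] [Finite G] (h : ∀ H : Subgroup G, H ≠ ⊥ → ∀ p : ℕ, p.Prime → p ∣ Nat.card H → ∃ K : Subgroup H, K ≠ ⊤ ∧ ∃ k : ℕ, K.index = p ^ k) : Group.IsSolvable G := by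
  exact aux _ rfl h

end Cfsg.Agent.S0535
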