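import Cfsg.Statements.S0537
import Cfsg.Agent.Lib.Perm.Schmidt
import Cfsg.Agent.Lib.Solv.Coprime
import Mathlib.Algebra.BigOperators.Group.Finset.Basic

set_option autoImplicit false
open Cfsg

namespace Cfsg.Agent.S0537

open scoped commutatorElement

/-- A finite non-abelian group in which every proper subgroup is abelian is either of prime-power order, or is generated by a cyclic Sylow p-subgroup and a normal Sylow q-subgroup that is elementary abelian, for distinct primes p and q. -/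
theorem result {G : Type*} [Group G] [Finite G] (hna : ¬ IsMulCommutative G) (h : ∀ H : Subgroup G, H ≠ ⊤ → IsMulCommutative H) : (∃ p : ℕ, p.Prime ∧ IsPGroup p G) ∨ ∃ p q : ℕ, p.Prime ∧ q.Prime ∧ p ≠ q ∧ ∃ (P : Sylow p G) (Q : Sylow q G), IsCyclic P ∧ (Q : Subgroup G).Normal ∧ Cfsg.IsElementaryAbelian q (Q : Subgroup G) ∧ (P : Subgroup G) ⊔ Q = ⊤ := by
  have hnil : ∀ H : Subgroup G, H ≠ ⊤ → Group.IsNilpotent H := fun H hH => by
    haveI := h H hH
    open scoped IsMulCommutative in infer_instance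
  by_cases hG : Group.IsNilpotent G
  · left
    by_contra hno
    push Not at hno
    apply hna
    have hproper : ∀ (r : ℕ), r.Prime → ∀ R : Sylow r G, (R : Subgroup G) ≠ ⊤ := by
      intro r hr R e
      refine hno r hr ?_
      intro g
      obtain ⟨k, hk⟩ := R.2 ⟨g, e ▸ trivial⟩
      exact ⟨k, congrArg Subtype.val hk⟩
    have hcen : Subgroup.center G = ⊤ := by
      refine Cfsg.Agent.Solv.eq_top_of_forall_sylow_le _ fun r hr => ?_
      haveI : Fact r.Prime := hr
      obtain ⟨R⟩ : Nonempty (Sylow r G) := inferInstance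
      refine ⟨R, ?_⟩
      haveI := h _ (hproper r Fact.out R)
      have hC : Subgroup.centralizer ((R : Subgroup G) : Set G) = ⊤ := by
        refine Cfsg.Agent.Solv.eq_top_of_forall_sylow_le _ fun s hs => ?_
        haveI : Fact s.Prime := hs
        rcases eq_or_ne s r with rfl | hsr
        · exact ⟨R, Subgroup.le_centralizer_iff_isMulCommutative.2 inferInstance⟩
        · obtain ⟨T⟩ : Nonempty (Sylow s G) := inferInstance
          exact ⟨T, Cfsg.Agent.Perm.commute_of_le_nilpotent (H := (⊤ : Subgroup G))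
            (Group.nilpotent_of_mulEquiv Subgroup.topEquiv.symm) hsr T.2 R.2 le_top le_top⟩
      rw [← Subgroup.centralizer_univ, ← Subgroup.coe_top]
      exact Subgroup.le_centralizer_iff.1 (top_le_iff.2 hC)
    exact ⟨⟨fun a b => (Subgroup.mem_center_iff.1 ((Subgroup.eq_top_iff' _).1 hcen b) a)⟩⟩
  right
  obtain ⟨p, q, hp, hq, hne, P, Q, hc, hQ, hPQ, hPn⟩ := Cfsg.Agent.Perm.schmidt hnil hG
  haveI := Fact.mk hp
  haveI := Fact.mk hq
  haveI := hQ
  refine ⟨p, q, hp, hq, hne, P, Q, hc, hQ, ?_, hPQ⟩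
  have hQtop : (Q : Subgroup G) ≠ ⊤ := by
    intro e
    refine hG ?_
    haveI : Group.IsNilpotent (Q : Subgroup G) := Q.2.isNilpotent
    rw [e] at this
    exact Group.nilpotent_of_mulEquiv Subgroup.topEquiv
  haveI hQc : IsMulCommutative (Q : Subgroup G) := h _ hQtop
  have hdis : (Q : Subgroup G) ⊓ P = ⊥ := (IsPGroup.disjoint_of_ne q p hne.symm _ _ Q.2 P.2).eq_bot
  have hfull : ∀ W : Subgroup G, W ≤ Q → W.Normal → W ⊔ (P : Subgroup G) = ⊤ → (Q : Subgroup G) ≤ W := by
    intro W hW hWn e x hx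
    haveI := hWn
    have hx' : x ∈ W ⊔ (P : Subgroup G) := by rw [e]; trivial
    rw [Subgroup.mem_sup_of_normal_left] at hx'
    obtain ⟨w, hw, y, hy, rfl⟩ := hx'
    have : y ∈ (Q : Subgroup G) ⊓ P := ⟨((Q : Subgroup G).mul_mem_cancel_left (hW hw)).1 hx, hy⟩
    rw [hdis, Subgroup.mem_bot] at this
    simpa [this] using hw
  have cQ : ∀ a ∈ (Q : Subgroup G), ∀ b ∈ (Q : Subgroup G), a * b = b * a := fun a ha b hb =>
    congrArg Subtype.val (mul_comm' (⟨a, ha⟩ : (Q : Subgroup G)) ⟨b, hb⟩)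
  let W : Subgroup G :=
    { carrier := {x | x ∈ (Q : Subgroup G) ∧ x ^ q = 1}
      one_mem' := ⟨one_mem _, one_pow q⟩
      mul_mem' := fun {a b} ha hb => ⟨mul_mem ha.1 hb.1, by
        rw [(show Commute a b from cQ a ha.1 b hb.1).mul_pow, ha.2, hb.2, mul_one]⟩
      inv_mem' := fun {a} ha => ⟨inv_mem ha.1, by rw [inv_pow, ha.2, inv_one]⟩ }
  have hWn : W.Normal := ⟨fun x hx g =>
    ⟨hQ.conj_mem x hx.1 g, by rw [conj_pow, hx.2, mul_one, mul_inv_cancel]⟩⟩
  suffices hW : (Q : Subgroup G) ≤ W from ⟨hQc, fun x hx => (hW hx).2⟩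
  by_cases hWP : W ⊔ (P : Subgroup G) = ⊤
  · exact hfull W (fun x hx => hx.1) hWn hWP
  exfalso
  haveI := h _ hWP
  -- `P` centralizes `W` but has no fixed points in `Q`
  have hQne : (Q : Subgroup G) ≠ ⊥ := by
    intro e
    refine hPn ?_
    rw [e, sup_bot_eq] at hPQ
    rw [hPQ]; infer_instance
  obtain ⟨⟨x, hxQ⟩, hxo⟩ : ∃ x : (Q : Subgroup G), orderOf x = q := by
    obtain ⟨k, hk⟩ := IsPGroup.iff_card.1 Q.2
    refine exists_prime_orderOf_dvd_card' q ?_
    rw [hk]
    refine dvd_pow_self q fun h0 => hQne (Subgroup.card_eq_one.1 ?_)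
    rw [hk, h0, pow_zero]
  rw [Subgroup.orderOf_mk] at hxo
  have hxW : x ∈ W := ⟨hxQ, hxo ▸ pow_orderOf_eq_one x⟩
  have hxC : ∀ a ∈ (P : Subgroup G), a * x * a⁻¹ = x := by
    intro a ha
    have := congrArg Subtype.val (mul_comm' (⟨a, Subgroup.mem_sup_right ha⟩ : (W ⊔ (P : Subgroup G) : Subgroup G))
      ⟨x, Subgroup.mem_sup_left hxW⟩)
    exact mul_inv_eq_iff_eq_mul.2 this
  have hAK : (P : Subgroup G) ≤ Subgroup.normalizer ((Q : Subgroup G) : Set G) := by
    rw [Subgroup.normalizer_eq_top_iff.2 hQ]; exact le_top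
  have hco : (Nat.card (P : Subgroup G)).Coprime (Nat.card (Q : Subgroup G)) :=
    IsPGroup.coprime_card_of_ne p q hne _ _ P.2 Q.2
  have hsolP : Group.IsSolvable (P : Subgroup G) := by
    haveI := P.2.isNilpotent; infer_instance
  set D := ⁅(Q : Subgroup G), (P : Subgroup G)⁆
  have hD : D ⊔ (P : Subgroup G) = ⊤ := by
    by_contra hne'
    haveI := h _ hne'
    refine hPn (Subgroup.normalizer_eq_top_iff.1 (top_le_iff.1 (hPQ ▸ sup_le Subgroup.le_normalizer ?_)))
    refine le_trans ?_ (Subgroup.centralizer_le_normalizer _)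
    rw [← Subgroup.commutator_eq_bot_iff_le_centralizer,
      ← Cfsg.Agent.Solv.commutator_commutator_eq hAK hco (Or.inl hsolP),
      Subgroup.commutator_eq_bot_iff_le_centralizer]
    intro d hd
    rw [Subgroup.mem_centralizer_iff]
    intro a ha
    exact congrArg Subtype.val (mul_comm' (⟨a, Subgroup.mem_sup_right ha⟩ : (D ⊔ (P : Subgroup G) : Subgroup G))
      ⟨d, Subgroup.mem_sup_left hd⟩)
  have hDQ : D ≤ Q := (Cfsg.Agent.Solv.commutator_normal_in hAK).1
  have hDn : D.Normal := by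
    rw [← Subgroup.normalizer_eq_top_iff, eq_top_iff, ← hPQ]
    exact sup_le (Cfsg.Agent.Solv.commutator_normal_in hAK).2.2 (Cfsg.Agent.Solv.commutator_normal_in hAK).2.1
  have hxD : x ∈ D := hfull D hDQ hDn hD hxQ
  -- the norm map
  haveI := Fintype.ofFinite (P : Subgroup G)
  open scoped IsMulCommutative in
  have hx1 : x = 1 := by
    let φ : (Q : Subgroup G) →* (Q : Subgroup G) :=
      { toFun := fun y => ∏ a : (P : Subgroup G), MulAut.conjNormal (a : G) y
        map_one' := by simp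
        map_mul' := fun y z => by simp [map_mul, Finset.prod_mul_distrib] }
    have hker : D ≤ φ.ker.map (Q : Subgroup G).subtype := by
      rw [Subgroup.commutator_le]
      intro y hy a ha
      have hy' : a * y⁻¹ * a⁻¹ ∈ (Q : Subgroup G) := hQ.conj_mem _ (inv_mem hy) a
      refine ⟨⟨y, hy⟩ * MulAut.conjNormal a ⟨y, hy⟩⁻¹, ?_, ?_⟩
      · rw [SetLike.mem_coe, MonoidHom.mem_ker, map_mul]
        have : φ (MulAut.conjNormal a ⟨y, hy⟩⁻¹) = φ ⟨y, hy⟩⁻¹ := by
          refine Fintype.prod_equiv (Equiv.mulRight (⟨a, ha⟩ : (P : Subgroup G))) _ _ fun b => ?_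
          rw [Equiv.coe_mulRight, ← MulAut.mul_apply, ← map_mul]
          rfl
        rw [this, ← map_mul, mul_inv_cancel, map_one]
      · simp [commutatorElement_def, mul_assoc]
    obtain ⟨x', hx', e⟩ := hker hxD
    have hφ : φ ⟨x, hxQ⟩ = ⟨x, hxQ⟩ ^ Fintype.card (P : Subgroup G) := by
      show ∏ a : (P : Subgroup G), MulAut.conjNormal (a : G) (⟨x, hxQ⟩ : (Q : Subgroup G)) = _
      rw [← Finset.card_univ, ← Finset.prod_const]
      exact Finset.prod_congr rfl fun a _ => Subtype.ext (hxC a a.2)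
    rw [show x' = ⟨x, hxQ⟩ from Subtype.ext e, SetLike.mem_coe, MonoidHom.mem_ker, hφ] at hx'
    have h1 : x ^ Fintype.card (P : Subgroup G) = 1 := congrArg Subtype.val hx'
    have h2 := orderOf_dvd_of_pow_eq_one h1
    rw [hxo, ← Nat.card_eq_fintype_card] at h2
    obtain ⟨k, hk⟩ := IsPGroup.iff_card.1 P.2
    rw [hk] at h2
    exact absurd ((Nat.prime_dvd_prime_iff_eq hq hp).1 (hq.dvd_of_dvd_pow h2)) hne.symm
  rw [hx1, orderOf_one] at hxo
  exact hq.one_lt.ne hxo

end Cfsg.Agent.S0537
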