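import Cfsg.Statements.S0539
import Cfsg.Agent.Lib.Solv.Subnormal
import Cfsg.Agent.Lib.Solv.Basic
import Mathlib.Data.Set.Finite.Lattice

set_option autoImplicit false
open Pointwise
open Cfsg

namespace Cfsg.Agent.S0539

open scoped Pointwise in
theorem exists_conj_le_normalizer {G : Type*} [Group G] {K : Subgroup G} (hK : K.IsSubnormal) :
    ∀ {H : Subgroup G}, H ≤ K → K ≤ Subgroup.normalizer (H : Set G) → ¬ H.Normal →
      ∃ g : G, MulAut.conj g • H ≤ Subgroup.normalizer (H : Set G) ∧ MulAut.conj g • H ≠ H := by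
  induction hK with
  | top =>
    intro H _ hKH hn
    exact absurd (Subgroup.normalizer_eq_top_iff.1 (top_le_iff.1 hKH)) hn
  | step K L hle _ hN ih =>
    intro H hHK hKH hn
    by_cases hL : L ≤ Subgroup.normalizer (H : Set G)
    · exact ih (hHK.trans hle) hL hn
    obtain ⟨g, hgL, hg⟩ := SetLike.not_le_iff_exists.1 hL
    refine ⟨g, le_trans ?_ hKH, fun h => hg (Cfsg.Agent.Solv.mem_normalizer_of_conj_smul h)⟩
    intro x hx
    rw [Cfsg.Agent.Solv.mem_conj_smul] at hx
    have := hN.conj_mem ⟨_, hle (hHK hx)⟩ (hHK hx) ⟨g, hgL⟩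
    simpa [Subgroup.mem_subgroupOf, mul_assoc] using this

/-- Let S be a family of subnormal subgroups of a finite group that is closed under conjugation, and S₀ a proper subfamily. Then some member of S not in S₀ normalizes the join of S₀. -/
theorem result {G : Type*} [Group G] [Finite G] (S S₀ : Set (Subgroup G)) (hS : ∀ U ∈ S, U.IsSubnormal) (hconj : ∀ U ∈ S, ∀ g : G, MulAut.conj g • U ∈ S) (h₀ : S₀ ⊂ S) : ∃ X ∈ S, X ∉ S₀ ∧ X ≤ Subgroup.normalizer ((sSup S₀ : Subgroup G) : Set G) := by
  obtain ⟨hsub, X0, hX0, hX0'⟩ := (Set.ssubset_iff_exists.1 h₀)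
  set J := sSup S₀ with hJdef
  have hJ : J.IsSubnormal := by
    have key : ∀ T : Set (Subgroup G), T.Finite → (∀ U ∈ T, U.IsSubnormal) → (sSup T).IsSubnormal := by
      intro T hT
      induction T, hT using Set.Finite.induction_on with
      | empty => intro _; simp
      | @insert a T _ _ ih =>
        intro h
        rw [sSup_insert]
        exact Cfsg.Agent.Solv.isSubnormal_sup (h a (Set.mem_insert _ _))
          (ih fun U hU => h U (Set.mem_insert_of_mem _ hU))
    exact key S₀ (Set.toFinite _) fun U hU => hS U (hsub hU)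
  by_cases hn : J.Normal
  · exact ⟨X0, hX0, hX0', by rw [Subgroup.normalizer_eq_top_iff.2 hn]; exact le_top⟩
  obtain ⟨g, hg, hne⟩ := exists_conj_le_normalizer hJ le_rfl Subgroup.le_normalizer hn
  have hex : ∃ U ∈ S₀, ¬ MulAut.conj g • U ≤ J := by
    by_contra hcon
    push Not at hcon
    refine hne (Subgroup.eq_of_le_of_card_ge ?_ (Cfsg.Agent.Solv.card_conj_smul g J).ge)
    rw [hJdef, Subgroup.pointwise_smul_subset_iff]
    refine sSup_le fun U hU => ?_
    rw [← Subgroup.pointwise_smul_subset_iff]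
    exact hcon U hU
  obtain ⟨U, hU, hUn⟩ := hex
  refine ⟨_, hconj U (hsub hU) g, fun h => hUn (le_sSup h), le_trans ?_ hg⟩
  exact Subgroup.pointwise_smul_le_pointwise_smul_iff.2 (le_sSup hU)

end Cfsg.Agent.S0539
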