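import Cfsg.Statements.S0540
import Cfsg.Agent.S0539
import Mathlib.Data.Set.Card
import Mathlib.Data.Set.Finite.Lemmas

set_option autoImplicit false
open Pointwise
open Cfsg

namespace Cfsg.Agent.S0540

/-- A uniqueness lemma of zipper type. Let A be a subgroup of a finite group G and U a nonempty family of subgroups. For V in U write S(V) for the set of conjugates of A that lie in V and are subnormal in V. Assume: A belongs to S(V) for every V in U; a member of some S(W) that lies in V belongs to S(V); and for all V, W in U the normalizer of the join of S(V) ∩ S(W) lies in some member of U. Then U has a greatest element. -/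
theorem result {G : Type*} [Group G] [Finite G] (A : Subgroup G) (U : Set (Subgroup G)) (hU : U.Nonempty) (S : Subgroup G → Set (Subgroup G)) (hS : ∀ V B : Subgroup G, B ∈ S V ↔ (∃ g : G, B = MulAut.conj g • A) ∧ B ≤ V ∧ (B.subgroupOf V).IsSubnormal) (h1 : ∀ V ∈ U, A ∈ S V) (h2 : ∀ V ∈ U, ∀ W ∈ U, ∀ B ∈ S W, B ≤ V → B ∈ S V) (h3 : ∀ V ∈ U, ∀ W ∈ U, ∃ X ∈ U, Subgroup.normalizer ((sSup (S V ∩ S W) : Subgroup G) : Set G) ≤ X) : ∃ M ∈ U, ∀ V ∈ U, V ≤ M := by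
  have hAconj : ∀ V ∈ U, ∀ B ∈ S V, ∀ v ∈ V, MulAut.conj v • B ∈ S V := by
    intro V _ B hB v hv
    obtain ⟨⟨g, rfl⟩, hle, hsn⟩ := (hS V B).1 hB
    refine (hS V _).2 ⟨⟨v * g, Cfsg.Agent.Solv.conj_smul_conj v g A⟩, ?_, ?_⟩
    · exact (Subgroup.pointwise_smul_le_pointwise_smul_iff.2 hle).trans
        (Subgroup.conj_smul_eq_self_of_mem hv).le
    · have := Cfsg.Agent.Solv.isSubnormal_conj hsn ⟨v, hv⟩
      convert this using 1
      ext ⟨x, hx⟩
      simp [Subgroup.mem_subgroupOf, Cfsg.Agent.Solv.mem_conj_smul]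
  have hnorm : ∀ V ∈ U, V ≤ Subgroup.normalizer ((sSup (S V) : Subgroup G) : Set G) := by
    intro V hV v hv
    refine Cfsg.Agent.Solv.mem_normalizer_of_conj_smul ?_
    refine Subgroup.eq_of_le_of_card_ge ?_ (Cfsg.Agent.Solv.card_conj_smul v _).ge
    rw [Subgroup.pointwise_smul_subset_iff]
    refine sSup_le fun B hB => ?_
    rw [← Subgroup.pointwise_smul_subset_iff]
    exact le_sSup (hAconj V hV B hB v hv)
  have hle : ∀ V ∈ U, ∀ B ∈ S V, B ≤ V := fun V _ B hB => ((hS V B).1 hB).2.1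
  have step : ∀ V ∈ U, ∀ T : Set (Subgroup G), T ⊂ S V →
      ∃ B ∈ S V, B ∉ T ∧ B ≤ Subgroup.normalizer ((sSup T : Subgroup G) : Set G) := by
    intro V hV T hT
    have inj : Set.InjOn (fun B : Subgroup G => B.subgroupOf V) (S V) := fun B hB C hC h => by
      rw [← Subgroup.map_subgroupOf_eq_of_le (hle V hV B hB), show B.subgroupOf V = C.subgroupOf V from h,
        Subgroup.map_subgroupOf_eq_of_le (hle V hV C hC)]
    obtain ⟨X, ⟨B, hB, rfl⟩, hXT, hX⟩ := Cfsg.Agent.S0539.result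
      ((fun B : Subgroup G => B.subgroupOf V) '' S V) ((fun B : Subgroup G => B.subgroupOf V) '' T)
      (by rintro - ⟨B, hB, rfl⟩; exact ((hS V B).1 hB).2.2)
      (by
        rintro - ⟨B, hB, rfl⟩ v
        refine ⟨_, hAconj V hV B hB v v.2, ?_⟩
        ext ⟨x, hx⟩
        simp [Subgroup.mem_subgroupOf, Cfsg.Agent.Solv.mem_conj_smul])
      (inj.image_ssubset_image_iff hT.subset subset_rfl |>.2 hT)
    refine ⟨B, hB, fun h => hXT ⟨B, h, rfl⟩, ?_⟩
    have hmap : (sSup ((fun B : Subgroup G => B.subgroupOf V) '' T)).map V.subtype = sSup T := by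
      rw [sSup_image, Subgroup.map_iSup]
      rw [sSup_eq_iSup]
      refine iSup_congr fun C => ?_
      rw [Subgroup.map_iSup]
      exact iSup_congr fun hC => Subgroup.map_subgroupOf_eq_of_le (hle V hV C (hT.subset hC))
    have h2 := Subgroup.map_mono (f := V.subtype) hX
    rw [Subgroup.map_subgroupOf_eq_of_le (hle V hV B hB)] at h2
    refine h2.trans ((Subgroup.le_normalizer_map V.subtype).trans (le_of_eq ?_))
    rw [hmap]
  have hmax : ∀ V ∈ U, ∃ M ∈ U, V ≤ M ∧ ∀ W ∈ U, M ≤ W → W = M := by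
    intro V hV
    obtain ⟨M, hVM, hM⟩ := (Set.toFinite U).exists_le_maximal hV
    exact ⟨M, hM.1, hVM, fun W hW hMW => le_antisymm (hM.2 hW hMW) hMW⟩
  obtain ⟨V0, hV0⟩ := hU
  obtain ⟨M, hM, -, hMmax⟩ := hmax V0 hV0
  refine ⟨M, hM, fun V hV => ?_⟩
  obtain ⟨W, hW, hVW, hWmax⟩ := hmax V hV
  refine hVW.trans (le_of_eq ?_)
  by_contra hne
  let P : Set (Subgroup G × Subgroup G) := {q | q.1 ∈ U ∧ q.2 ∈ U ∧ (∀ X ∈ U, q.1 ≤ X → X = q.1) ∧
    (∀ X ∈ U, q.2 ≤ X → X = q.2) ∧ q.1 ≠ q.2}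
  obtain ⟨⟨M1, M2⟩, ⟨hU1, hU2, hm1, hm2, h12⟩, hq⟩ :=
    Set.exists_max_image P (fun q => (S q.1 ∩ S q.2).ncard) (Set.toFinite _) ⟨(W, M), hW, hM, hWmax, hMmax, hne⟩
  have main : ∀ M1 M2 : Subgroup G, M1 ∈ U → M2 ∈ U → (∀ X ∈ U, M1 ≤ X → X = M1) →
      (∀ X ∈ U, M2 ≤ X → X = M2) → M1 ≠ M2 →
      (∀ q ∈ P, (S q.1 ∩ S q.2).ncard ≤ (S M1 ∩ S M2).ncard) → S M1 ⊆ S M2 := by
    intro M1 M2 hU1 hU2 hm1 hm2 h12 hq
    by_contra hns
    have hT : S M1 ∩ S M2 ⊂ S M1 :=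
      Set.inter_subset_left.ssubset_of_ne fun h => hns (Set.inter_eq_left.1 h)
    obtain ⟨B, hB, hBT, hBn⟩ := step M1 hU1 _ hT
    obtain ⟨X, hX, hNX⟩ := h3 M1 hU1 M2 hU2
    obtain ⟨X', hX', hXX', hm'⟩ := hmax X hX
    have hNX' := hNX.trans hXX'
    have hsub : insert B (S M1 ∩ S M2) ⊆ S M1 ∩ S X' := by
      rintro C (rfl | hC)
      · exact ⟨hB, h2 X' hX' M1 hU1 C hB (hBn.trans hNX')⟩
      · exact ⟨hC.1, h2 X' hX' M1 hU1 C hC.1 (((le_sSup hC).trans Subgroup.le_normalizer).trans hNX')⟩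
    have hX'eq : X' = M1 := by
      by_contra hne'
      have h5 := Set.ncard_le_ncard hsub (Set.toFinite _)
      rw [Set.ncard_insert_of_notMem hBT (Set.toFinite _)] at h5
      have := hq (M1, X') ⟨hU1, hX', hm1, hm', Ne.symm hne'⟩
      dsimp only at this
      omega
    rw [hX'eq] at hNX'
    by_cases h6 : S M2 ⊆ S M1
    · refine h12 (hm2 M1 hU1 ?_)
      refine (hnorm M2 hU2).trans ?_
      rwa [Set.inter_eq_right.2 h6] at hNX'
    · have hT2 : S M1 ∩ S M2 ⊂ S M2 :=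
        Set.inter_subset_right.ssubset_of_ne fun h => h6 (Set.inter_eq_right.1 h)
      obtain ⟨C, hC, hCT, hCn⟩ := step M2 hU2 _ hT2
      exact hCT ⟨h2 M1 hU1 M2 hU2 C hC (hCn.trans hNX'), hC⟩
  have e1 := main M1 M2 hU1 hU2 hm1 hm2 h12 hq
  have e2 := main M2 M1 hU2 hU1 hm2 hm1 (Ne.symm h12) (fun q hq' => by
    rw [Set.inter_comm (S M2)]; exact hq q hq')
  obtain ⟨X, hX, hNX⟩ := h3 M1 hU1 M2 hU2
  obtain ⟨X', hX', hXX', -⟩ := hmax X hX
  have hN' := hNX.trans hXX'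
  rw [Set.inter_eq_left.2 e1] at hN'
  have hb := (hnorm M1 hU1).trans hN'
  rw [Set.Subset.antisymm e1 e2] at hN'
  have hc := (hnorm M2 hU2).trans hN'
  exact h12 ((hm1 X' hX' hb).symm.trans (hm2 X' hX' hc))

end Cfsg.Agent.S0540
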