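import Cfsg.Statements.S0541
import Cfsg.Agent.S0539
import Mathlib.GroupTheory.Sylow

set_option autoImplicit false
open Pointwise
open Cfsg

namespace Cfsg.Agent.S0541

/-- Let Z and Y be subgroups of a finite group G and p a prime. Suppose that for every g in G the subgroup generated by the conjugates of g Z g⁻¹ under Y is a p-group. Then there is a Sylow p-subgroup P of G such that Y normalizes the subgroup generated by all conjugates of Z contained in P. -/
theorem result {G : Type*} [Group G] [Finite G] (p : ℕ) [Fact p.Prime] (Z Y : Subgroup G) (h : ∀ g : G, IsPGroup p ↥(⨆ y ∈ Y, MulAut.conj (y * g) • Z)) : ∃ P : Sylow p G, Y ≤ Subgroup.normalizer ((⨆ g ∈ {g : G | MulAut.conj g • Z ≤ (P : Subgroup G)}, MulAut.conj g • Z : Subgroup G) : Set G) := by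
  let F : Subgroup G → Set (Subgroup G) := fun Q => {B | (∃ g : G, B = MulAut.conj g • Z) ∧ B ≤ Q}
  obtain ⟨Q, hQ⟩ := (Set.toFinite {Q : Subgroup G | IsPGroup p Q ∧
    Y ≤ Subgroup.normalizer (Q : Set G) ∧ Q ≤ sSup (F Q)}).exists_maximal
    ⟨⊥, IsPGroup.of_bot, by rw [Subgroup.normalizer_eq_top_iff.2 inferInstance]; exact le_top, bot_le⟩
  obtain ⟨hQp, hQY, hQgen⟩ := hQ.1
  have hQe : sSup (F Q) = Q := le_antisymm (sSup_le fun B hB => hB.2) hQgen
  obtain ⟨P, hP⟩ := hQp.exists_le_sylow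
  refine ⟨P, ?_⟩
  have hall : F (P : Subgroup G) ⊆ F Q := by
    by_contra hns
    have hT : F Q ⊂ F (P : Subgroup G) :=
      (show F Q ⊆ F (P : Subgroup G) from fun B hB => ⟨hB.1, hB.2.trans hP⟩).ssubset_of_ne
        fun h => hns h.ge
    haveI : Group.IsNilpotent (P : Subgroup G) := P.2.isNilpotent
    let f : Subgroup G → Subgroup (P : Subgroup G) := fun B => B.subgroupOf P
    have inj : Set.InjOn f (F (P : Subgroup G)) := fun B hB C hC h => by
      rw [← Subgroup.map_subgroupOf_eq_of_le hB.2, show B.subgroupOf P = C.subgroupOf P from h,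
        Subgroup.map_subgroupOf_eq_of_le hC.2]
    obtain ⟨X, ⟨B, hB, rfl⟩, hXT, hX⟩ := Cfsg.Agent.S0539.result (f '' F (P : Subgroup G)) (f '' F Q)
      (fun _ _ => Cfsg.Agent.Solv.isSubnormal_of_isNilpotent _)
      (by
        rintro - ⟨B, ⟨⟨g, rfl⟩, hBP⟩, rfl⟩ v
        refine ⟨MulAut.conj (v : G) • (MulAut.conj g • Z),
          ⟨⟨v * g, Cfsg.Agent.Solv.conj_smul_conj _ g Z⟩,
            (Subgroup.pointwise_smul_le_pointwise_smul_iff.2 hBP).trans
              (Subgroup.conj_smul_eq_self_of_mem v.2).le⟩, ?_⟩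
        ext ⟨x, hx⟩
        simp [f, Subgroup.mem_subgroupOf, Cfsg.Agent.Solv.mem_conj_smul])
      (inj.image_ssubset_image_iff hT.subset subset_rfl |>.2 hT)
    have hBQ : ¬ B ≤ Q := fun h => hXT ⟨B, ⟨hB.1, h⟩, rfl⟩
    have hBn : B ≤ Subgroup.normalizer (Q : Set G) := by
      have hmap : (sSup (f '' F Q)).map (P : Subgroup G).subtype = Q := by
        refine Eq.trans ?_ hQe
        rw [sSup_image, Subgroup.map_iSup, sSup_eq_iSup]
        refine iSup_congr fun C => ?_
        rw [Subgroup.map_iSup]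
        exact iSup_congr fun hC => Subgroup.map_subgroupOf_eq_of_le (hC.2.trans hP)
      have h2 := Subgroup.map_mono (f := (P : Subgroup G).subtype) hX
      rw [show (f B).map (P : Subgroup G).subtype = B from Subgroup.map_subgroupOf_eq_of_le hB.2] at h2
      refine h2.trans ((Subgroup.le_normalizer_map _).trans (le_of_eq ?_))
      rw [hmap]
    obtain ⟨⟨g, rfl⟩, -⟩ := hB
    set R := ⨆ y ∈ Y, MulAut.conj (y * g) • Z with hR
    have hRn : R ≤ Subgroup.normalizer (Q : Set G) := iSup₂_le fun y hy => by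
      rw [← Cfsg.Agent.Solv.conj_smul_conj y g Z]
      exact (Subgroup.pointwise_smul_le_pointwise_smul_iff.2 hBn).trans
        (Subgroup.conj_smul_eq_self_of_mem (hQY hy)).le
    have hBR : MulAut.conj g • Z ≤ R := by
      refine le_trans (le_of_eq ?_) (le_iSup₂ (f := fun y (_ : y ∈ Y) => MulAut.conj (y * g) • Z) 1 Y.one_mem)
      rw [one_mul]
    refine hBQ (hBR.trans (le_sup_right.trans (hQ.2 (y := Q ⊔ R) ⟨?_, ?_, ?_⟩ le_sup_left)))
    · exact hQp.to_sup_of_normal_left' (h g) hRn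
    · intro y hy
      refine Cfsg.Agent.Solv.mem_normalizer_of_conj_smul (Subgroup.eq_of_le_of_card_ge ?_
        (Cfsg.Agent.Solv.card_conj_smul y _).ge)
      rw [Subgroup.smul_sup, Cfsg.Agent.Solv.conj_smul_of_mem_normalizer (hQY hy)]
      refine sup_le le_sup_left (le_trans ?_ le_sup_right)
      rw [Subgroup.pointwise_smul_subset_iff]
      refine iSup₂_le fun y' hy' => ?_
      rw [← Subgroup.pointwise_smul_subset_iff, Cfsg.Agent.Solv.conj_smul_conj, ← mul_assoc]
      exact le_iSup₂ (f := fun y (_ : y ∈ Y) => MulAut.conj (y * g) • Z) (y * y') (Y.mul_mem hy hy')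
    · refine sup_le (hQgen.trans (sSup_le_sSup fun C hC => ⟨hC.1, hC.2.trans le_sup_left⟩))
        (iSup₂_le fun y hy => le_sSup ⟨⟨y * g, rfl⟩, le_trans ?_ le_sup_right⟩)
      exact le_iSup₂ (f := fun y (_ : y ∈ Y) => MulAut.conj (y * g) • Z) y hy
  have heq : (⨆ g ∈ {g : G | MulAut.conj g • Z ≤ (P : Subgroup G)}, MulAut.conj g • Z) = Q := by
    refine le_antisymm (iSup₂_le fun g hg => (hall ⟨⟨g, rfl⟩, hg⟩).2) (hQgen.trans (sSup_le ?_))
    rintro _ ⟨⟨g, rfl⟩, hB⟩
    exact le_iSup₂ (f := fun g (_ : g ∈ {g : G | MulAut.conj g • Z ≤ (P : Subgroup G)}) => MulAut.conj g • Z) g (hB.trans hP)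
  rw [heq]
  exact hQY

end Cfsg.Agent.S0541
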