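import Cfsg.Statements.S0542
import Mathlib.GroupTheory.IsSubnormal
import Mathlib.GroupTheory.Sylow
import Cfsg.Agent.Lib.Solv.Basic

set_option autoImplicit false
open Cfsg

namespace Cfsg.Agent.S0542

/-- A Sylow p-subgroup of a finite group meets every subnormal subgroup H in a Sylow p-subgroup of H. -/
theorem result {G : Type*} [Group G] [Finite G] (p : ℕ) [Fact p.Prime] (H : Subgroup G) (hH : H.IsSubnormal) (S : Sylow p G) : ∃ Q : Sylow p H, (Q : Subgroup H) = (S : Subgroup G).subgroupOf H := by
  have key : ∀ K : Subgroup G, K.IsSubnormal → ¬ p ∣ (S : Subgroup G).relIndex K := by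
    intro K hK
    induction hK with
    | top => rw [Subgroup.relIndex_top_right]; exact S.not_dvd_index
    | step A B hle _ hN ih =>
      intro hd
      apply ih
      set S' := (S : Subgroup G).subgroupOf B
      set N := A.subgroupOf B
      haveI : N.Normal := hN
      have hrel : S'.relIndex N = (S : Subgroup G).relIndex A := Subgroup.relIndex_subgroupOf hle
      have hc : ∀ X Y : Subgroup ↥B, Nat.card (X ⊓ Y : Subgroup ↥B) * X.relIndex Y = Nat.card Y := by
        intro X Y
        rw [← Subgroup.relIndex_bot_left (X ⊓ Y), ← Subgroup.inf_relIndex_right X Y,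
          Subgroup.relIndex_mul_relIndex ⊥ _ _ bot_le inf_le_right, Subgroup.relIndex_bot_left]
      have h1 := hc S' N
      have h2 := hc S' (N ⊔ S')
      rw [inf_eq_left.2 le_sup_right] at h2
      have h3 := Cfsg.Agent.Solv.card_sup_mul_card_inf N S'
      rw [inf_comm] at h1
      have h4 : S'.relIndex (N ⊔ S') = S'.relIndex N := by
        refine Nat.eq_of_mul_eq_mul_left
          (Nat.mul_pos (Nat.card_pos (α := S')) (Nat.card_pos (α := (N ⊓ S' : Subgroup ↥B)))) ?_
        calc Nat.card S' * Nat.card (N ⊓ S' : Subgroup ↥B) * S'.relIndex (N ⊔ S')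
            = (Nat.card S' * S'.relIndex (N ⊔ S')) * Nat.card (N ⊓ S' : Subgroup ↥B) := by ring
          _ = Nat.card S' * Nat.card N := by rw [h2, h3, Nat.mul_comm]
          _ = _ := by rw [← h1]; ring
      show p ∣ S'.index
      rw [← Subgroup.relIndex_mul_index (le_sup_right : S' ≤ N ⊔ S'), h4, hrel]
      exact hd.mul_right _
  have hp : IsPGroup p ((S : Subgroup G).subgroupOf H) :=
    S.2.comap_of_injective _ H.subtype_injective
  exact ⟨hp.toSylow (key H hH), rfl⟩

end Cfsg.Agent.S0542
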