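import Cfsg.Statements.S0546
import Cfsg.Agent.Lib.Perm.System

set_option autoImplicit false
open Cfsg

namespace Cfsg.Agent.S0546

open scoped commutatorElement

/-- The normal closure of a system normalizer of a finite solvable group is the whole group. -/
theorem result {G : Type*} [Group G] [Finite G] [Group.IsSolvable G] (K : Nat.Primes → Subgroup G) (hK : Cfsg.IsComplementSystem K) : Subgroup.normalClosure ((Cfsg.systemNormalizer K : Subgroup G) : Set G) = ⊤ := by
  by_contra hne
  set D := Cfsg.systemNormalizer K
  set N := Subgroup.normalClosure (D : Set G)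
  haveI : Nontrivial (G ⧸ N) := QuotientGroup.nontrivial_iff.2 hne
  set M := (commutator (G ⧸ N)).comap (QuotientGroup.mk' N)
  haveI : M.Normal := inferInstance
  have hNM : N ≤ M := fun x hx => by
    show QuotientGroup.mk' N x ∈ commutator (G ⧸ N)
    rw [QuotientGroup.mk'_apply, (QuotientGroup.eq_one_iff x).2 hx]
    exact one_mem _
  have hM : M ≠ ⊤ := fun e => (Group.IsSolvable.commutator_lt_top_of_nontrivial (G ⧸ N)).ne (by
    rw [← Subgroup.map_comap_eq_self_of_surjective (QuotientGroup.mk'_surjective N) (commutator (G ⧸ N)),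
      show (commutator (G ⧸ N)).comap (QuotientGroup.mk' N) = ⊤ from e,
      Subgroup.map_top_of_surjective _ (QuotientGroup.mk'_surjective N)])
  haveI : Nontrivial (G ⧸ M) := QuotientGroup.nontrivial_iff.2 hM
  have hc : commutator G ≤ M := by
    rw [← Subgroup.map_le_iff_le_comap, commutator_def, Subgroup.map_commutator]
    exact Subgroup.commutator_mono le_top le_top
  have habel : ∀ a b : G ⧸ M, a * b = b * a := by
    intro a b
    obtain ⟨x, rfl⟩ := QuotientGroup.mk'_surjective M a
    obtain ⟨y, rfl⟩ := QuotientGroup.mk'_surjective M b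
    rw [← commutatorElement_eq_one_iff_mul_comm, ← map_commutatorElement, QuotientGroup.mk'_apply,
      QuotientGroup.eq_one_iff]
    exact hc (Subgroup.commutator_mem_commutator trivial trivial)
  have htop : Cfsg.systemNormalizer (fun p => (K p).map (QuotientGroup.mk' M)) = ⊤ := by
    rw [eq_top_iff]
    intro x _
    rw [Cfsg.Agent.Perm.mem_systemNormalizer]
    intro p
    ext y
    rw [Cfsg.Agent.Solv.mem_conj_smul, habel x⁻¹ y, inv_mul_cancel_right]
  rw [Cfsg.Agent.Perm.map_systemNormalizer hK M] at htop
  refine top_ne_bot (α := Subgroup (G ⧸ M)) ?_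
  rw [← htop, Subgroup.map_eq_bot_iff, QuotientGroup.ker_mk']
  exact le_trans (fun x hx => Subgroup.subset_normalClosure hx) hNM

end Cfsg.Agent.S0546
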