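import Cfsg.Statements.S0547
import Cfsg.Agent.Lib.Perm.Primitive

set_option autoImplicit false
open Cfsg

namespace Cfsg.Agent.S0547

/-- Let a finite solvable group G act faithfully and primitively on a set, and let M be a minimal normal subgroup of G. Then M is transitive with trivial point stabilizers, and the number of points equals the order of M, which is a prime power p ^ d with d ≥ 1. -/
theorem result {G : Type*} [Group G] [Finite G] [Group.IsSolvable G] {Ω : Type*} [Nonempty Ω] [MulAction G Ω] [FaithfulSMul G Ω] (hprim : MulAction.IsPreprimitive G Ω) (M : Subgroup G) [M.Normal] (hM : M ≠ ⊥) (hmin : ∀ K : Subgroup G, K.Normal → K ≤ M → K = ⊥ ∨ K = M) : MulAction.IsPretransitive M Ω ∧ (∀ ω : Ω, MulAction.stabilizer M ω = ⊥) ∧ ∃ p d : ℕ, p.Prime ∧ 0 < d ∧ Nat.card Ω = p ^ d ∧ Nat.card M = p ^ d := by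
  haveI := hprim
  haveI := Cfsg.Agent.Perm.normal_isPretransitive (Ω := Ω) M hM
  have hN : Cfsg.Agent.Perm.IsMinNormal M := ⟨inferInstance, hM, hmin⟩
  have hc := hN.isMulCommutative inferInstance
  have hreg := fun ω : Ω => Cfsg.Agent.Perm.stabilizer_eq_bot_of_isMulCommutative hc ω
  obtain ⟨ω⟩ := ‹Nonempty Ω›
  obtain ⟨p, hp, -, -, k, hk, hcard⟩ := hN.exists_prime hc
  exact ⟨inferInstance, hreg, p, k, hp, hk,
    (Cfsg.Agent.Perm.card_eq_of_regular ω (hreg ω)).trans hcard, hcard⟩

end Cfsg.Agent.S0547
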