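import Cfsg.Statements.S0548
import Cfsg.Agent.Lib.Perm.Primitive
import Mathlib.Tactic.Group

set_option autoImplicit false
open Cfsg

namespace Cfsg.Agent.S0548

/-- Let a finite solvable group G act faithfully and primitively on a set, let M be a minimal normal subgroup and H the stabilizer of a point. Then H is a complement to M, no non-identity element of H centralizes M, and the only subgroups of M normalized by H are the trivial subgroup and M. -/
theorem result {G : Type*} [Group G] [Finite G] [Group.IsSolvable G] {Ω : Type*} [MulAction G Ω] [FaithfulSMul G Ω] (hprim : MulAction.IsPreprimitive G Ω) (M : Subgroup G) [M.Normal] (hM : M ≠ ⊥) (hmin : ∀ K : Subgroup G, K.Normal → K ≤ M → K = ⊥ ∨ K = M) (ω : Ω) : Subgroup.IsComplement' M (MulAction.stabilizer G ω) ∧ MulAction.stabilizer G ω ⊓ Subgroup.centralizer (M : Set G) = ⊥ ∧ ∀ K : Subgroup G, K ≤ M → MulAction.stabilizer G ω ≤ Subgroup.normalizer (K : Set G) → K = ⊥ ∨ K = M := by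
  haveI := hprim
  haveI := Cfsg.Agent.Perm.normal_isPretransitive (Ω := Ω) M hM
  have hN : Cfsg.Agent.Perm.IsMinNormal M := ⟨inferInstance, hM, hmin⟩
  have hc := hN.isMulCommutative inferInstance
  have hreg := Cfsg.Agent.Perm.stabilizer_eq_bot_of_isMulCommutative hc ω
  haveI : Nontrivial Ω := by
    by_contra h
    rw [not_nontrivial_iff_subsingleton] at h
    exact hM (eq_bot_iff.2 fun m _ => Subgroup.mem_bot.2
      (FaithfulSMul.eq_of_smul_eq_smul (α := Ω) fun x => Subsingleton.elim _ _))
  have hco := MulAction.IsPreprimitive.isCoatom_stabilizer_of_isPreprimitive (G := G) ω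
  have hdis : M ⊓ MulAction.stabilizer G ω = ⊥ := by
    rw [eq_bot_iff]
    rintro m ⟨hm, hs⟩
    have : (⟨m, hm⟩ : M) ∈ MulAction.stabilizer M ω := hs
    rw [hreg, Subgroup.mem_bot] at this
    exact Subgroup.mem_bot.2 (congrArg Subtype.val this)
  have hnle : ¬ M ≤ MulAction.stabilizer G ω := fun h => hM (by rwa [inf_eq_left.2 h] at hdis)
  obtain ⟨-, htop, hcomp, -⟩ := hN.complement_of_coatom hc hco hnle
  refine ⟨hcomp, ?_, fun K hK hs => hmin K ?_ hK⟩
  · rw [eq_bot_iff]
    rintro c ⟨hs, hcen⟩
    exact Subgroup.mem_bot.2 (Cfsg.Agent.Perm.eq_one_of_centralizes hcen hs)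
  · rw [← Subgroup.normalizer_eq_top_iff, eq_top_iff, ← htop]
    refine sup_le ?_ hs
    refine le_trans ?_ (Subgroup.centralizer_le_normalizer _)
    intro m hm
    rw [Subgroup.mem_centralizer_iff]
    intro k hk
    exact congrArg Subtype.val (hc.is_comm.comm (⟨k, hK hk⟩ : M) ⟨m, hm⟩)

end Cfsg.Agent.S0548
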