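import Cfsg.Statements.S0549
import Cfsg.Agent.Lib.Solv.Basic

set_option autoImplicit false
open Cfsg

namespace Cfsg.Agent.S0549

open scoped Pointwise

/-- Let U be a maximal subgroup of a finite group G whose normal core is trivial, and N a nontrivial normal subgroup with centralizer C. Then C ∩ U = 1, and either C = 1 or C is a minimal normal subgroup of G. -/
theorem result {G : Type*} [Group G] [Finite G] (U : Subgroup G) (hU : IsCoatom U) (hcore : U.normalCore = ⊥) (N : Subgroup G) [N.Normal] (hN : N ≠ ⊥) : Subgroup.centralizer (N : Set G) ⊓ U = ⊥ ∧ (Subgroup.centralizer (N : Set G) = ⊥ ∨ (Subgroup.centralizer (N : Set G) ≠ ⊥ ∧ ∀ K : Subgroup G, K.Normal → K ≤ Subgroup.centralizer (N : Set G) → K = ⊥ ∨ K = Subgroup.centralizer (N : Set G))) := by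
  have hnot : ∀ K : Subgroup G, K.Normal → K ≠ ⊥ → K ⊔ U = ⊤ := by
    intro K hK hK1
    refine hU.2 _ (lt_of_le_of_ne le_sup_right fun h => hK1 (eq_bot_iff.2 ?_))
    haveI := hK
    rw [← hcore]
    exact Subgroup.normal_le_normalCore.2 (h ▸ le_sup_left)
  have htop := hnot N inferInstance hN
  set C := Subgroup.centralizer (N : Set G)
  have hCU : C ⊓ U = ⊥ := by
    haveI : (C ⊓ U).Normal := by
      rw [← Subgroup.normalizer_eq_top_iff, eq_top_iff, ← htop]
      refine sup_le ?_ ?_
      · refine le_trans ?_ (Subgroup.centralizer_le_normalizer _)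
        intro n hn
        rw [Subgroup.mem_centralizer_iff]
        intro c hc
        exact (Subgroup.mem_centralizer_iff.1 hc.1 n hn).symm
      · intro u hu
        rw [Subgroup.mem_normalizer_iff]
        intro x
        refine ⟨fun hx => ⟨Subgroup.Normal.conj_mem inferInstance x hx.1 u,
          U.mul_mem (U.mul_mem hu hx.2) (U.inv_mem hu)⟩, fun hx => ?_⟩
        have h1 := Subgroup.Normal.conj_mem (inferInstance : C.Normal) _ hx.1 u⁻¹
        have h2 := U.mul_mem (U.mul_mem (U.inv_mem hu) hx.2) hu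
        simp [mul_assoc] at h1 h2
        exact ⟨h1, h2⟩
    rw [eq_bot_iff, ← hcore]
    exact Subgroup.normal_le_normalCore.2 inf_le_right
  refine ⟨hCU, ?_⟩
  rcases eq_or_ne C ⊥ with h | h
  · exact Or.inl h
  refine Or.inr ⟨h, fun K hK hKC => ?_⟩
  rcases eq_or_ne K ⊥ with hK1 | hK1
  · exact Or.inl hK1
  refine Or.inr (le_antisymm hKC fun c hc => ?_)
  haveI := hK
  have hcmem : c ∈ ((K ⊔ U : Subgroup G) : Set G) := by rw [hnot K hK hK1]; trivial
  rw [Subgroup.normal_mul] at hcmem
  obtain ⟨k, hk, u, hu, rfl⟩ := hcmem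
  have : u ∈ C ⊓ U := ⟨by simpa using C.mul_mem (C.inv_mem (hKC hk)) hc, hu⟩
  rw [hCU, Subgroup.mem_bot] at this
  simpa [this] using hk

end Cfsg.Agent.S0549
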