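import Cfsg.Statements.S0550
import Cfsg.Agent.S0549
import Cfsg.Agent.Lib.Solv.Basic

set_option autoImplicit false
open Cfsg

namespace Cfsg.Agent.S0550

open scoped Pointwise

/-- Let U be a maximal subgroup with trivial normal core in a finite group G, and A ≠ B two minimal normal subgroups. Then A is the centralizer of B and B that of A, U complements each of them, A and B are non-abelian, and A, B and (A ⊔ B) ∩ U are pairwise isomorphic. -/
theorem result {G : Type*} [Group G] [Finite G] (U : Subgroup G) (hU : IsCoatom U) (hcore : U.normalCore = ⊥) (A B : Subgroup G) [A.Normal] [B.Normal] (hA : A ≠ ⊥) (hB : B ≠ ⊥) (hAmin : ∀ K : Subgroup G, K.Normal → K ≤ A → K = ⊥ ∨ K = A) (hBmin : ∀ K : Subgroup G, K.Normal → K ≤ B → K = ⊥ ∨ K = B) (hAB : A ≠ B) : Subgroup.centralizer (B : Set G) = A ∧ Subgroup.centralizer (A : Set G) = B ∧ Subgroup.IsComplement' A U ∧ Subgroup.IsComplement' B U ∧ ¬ IsMulCommutative A ∧ Nonempty (A ≃* B) ∧ Nonempty (A ≃* ↥((A ⊔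 B) ⊓ U)) := by
  have hAB1 : A ⊓ B = ⊥ := by
    rcases hAmin (A ⊓ B) inferInstance inf_le_left with h | h
    · exact h
    · rcases hBmin A inferInstance (inf_eq_left.1 h) with h' | h'
      · exact absurd h' hA
      · exact absurd h' hAB
  have hcA : A ≤ Subgroup.centralizer (B : Set G) := by
    rw [← Subgroup.commutator_eq_bot_iff_le_centralizer, eq_bot_iff, ← hAB1]
    exact Subgroup.commutator_le_inf A B
  have hcB : B ≤ Subgroup.centralizer (A : Set G) := Subgroup.le_centralizer_iff.1 hcA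
  obtain ⟨hBU, hB'⟩ := Cfsg.Agent.S0549.result U hU hcore B hB
  obtain ⟨hAU, hA'⟩ := Cfsg.Agent.S0549.result U hU hcore A hA
  have eB : Subgroup.centralizer (B : Set G) = A := by
    rcases hB' with h | ⟨_, h⟩
    · exact absurd (eq_bot_iff.2 (h ▸ hcA)) hA
    · exact ((h A inferInstance hcA).resolve_left hA).symm
  have eA : Subgroup.centralizer (A : Set G) = B := by
    rcases hA' with h | ⟨_, h⟩
    · exact absurd (eq_bot_iff.2 (h ▸ hcB)) hB
    · exact ((h B inferInstance hcB).resolve_left hB).symm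
  rw [eB] at hBU
  rw [eA] at hAU
  have hnot : ∀ K : Subgroup G, K.Normal → K ≠ ⊥ → K ⊔ U = ⊤ := by
    intro K hK hK1
    refine hU.2 _ (lt_of_le_of_ne le_sup_right fun h => hK1 (eq_bot_iff.2 ?_))
    haveI := hK
    rw [← hcore]
    exact Subgroup.normal_le_normalCore.2 (h ▸ le_sup_left)
  have iso : ∀ (X Y : Subgroup G) [X.Normal] [Y.Normal], X ≠ ⊥ → Y ≠ ⊥ → X ⊓ Y = ⊥ → Y ⊓ U = ⊥ →
      Nonempty (X ≃* ↥((X ⊔ Y) ⊓ U)) := by
    intro X Y _ _ hX hY hXY hYU
    let f := QuotientGroup.mk' Y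
    have inj : ∀ Z : Subgroup G, Y ⊓ Z = ⊥ → Function.Injective (f.domRestrict Z) := by
      intro Z hZ
      refine (injective_iff_map_eq_one _).2 fun z hz => Subtype.ext ?_
      have : (z : G) ∈ Y ⊓ Z := ⟨(QuotientGroup.eq_one_iff _).1 hz, z.2⟩
      rwa [hZ, Subgroup.mem_bot] at this
    have hY' : Y ⊓ ((X ⊔ Y) ⊓ U) = ⊥ := eq_bot_iff.2 (hYU ▸ inf_le_inf_left _ inf_le_right)
    have himg : X.map f = ((X ⊔ Y) ⊓ U).map f := by
      refine le_antisymm ?_ ?_
      · rintro - ⟨x, hx, rfl⟩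
        have hxmem : x ∈ ((Y ⊔ U : Subgroup G) : Set G) := by rw [hnot Y inferInstance hY]; trivial
        rw [Subgroup.normal_mul] at hxmem
        obtain ⟨y, hy, u, hu, rfl⟩ := hxmem
        refine ⟨u, ⟨?_, hu⟩, ?_⟩
        · simpa using (X ⊔ Y).mul_mem ((X ⊔ Y).inv_mem (Subgroup.mem_sup_right hy)) (Subgroup.mem_sup_left hx)
        · rw [map_mul, show f y = 1 from (QuotientGroup.eq_one_iff _).2 hy, one_mul]
      · refine (Subgroup.map_mono inf_le_left).trans (le_of_eq ?_)
        rw [Subgroup.map_sup, show Y.map f = ⊥ from (Subgroup.map_eq_bot_iff _).2 (by simp [f]), sup_bot_eq]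
    exact ⟨((MonoidHom.ofInjective (inj X (by rwa [inf_comm]))).trans
      (MulEquiv.subgroupCongr (by rw [MonoidHom.domRestrict_range, MonoidHom.domRestrict_range, himg]))).trans
      (MonoidHom.ofInjective (inj _ hY')).symm⟩
  obtain ⟨e1⟩ := iso A B hA hB hAB1 hAU
  obtain ⟨e2⟩ := iso B A hB hA (by rwa [inf_comm]) hBU
  have compl : ∀ (X : Subgroup G) [X.Normal], X ≠ ⊥ → X ⊓ U = ⊥ → Subgroup.IsComplement' X U := by
    intro X _ hX hXU
    exact Subgroup.isComplement'_of_disjoint_and_mul_eq_univ (disjoint_iff.2 hXU)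
      (by rw [← Subgroup.normal_mul, hnot X inferInstance hX]; rfl)
  refine ⟨eB, eA, compl A hA hBU, compl B hB hAU, fun hc => hAB ?_, ?_, ⟨e1⟩⟩
  · have h1 : A ≤ B := by rw [← eA]; exact Subgroup.le_centralizer_iff_isMulCommutative.2 hc
    exact (hBmin A inferInstance h1).resolve_left hA
  · exact ⟨(e1.trans (MulEquiv.subgroupCongr (by rw [sup_comm]))).trans e2.symm⟩

end Cfsg.Agent.S0550
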