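import Cfsg.Statements.S0551
import Cfsg.Agent.S0549
import Cfsg.Agent.Lib.Perm.Huppert
import Cfsg.Agent.Lib.Solv.SZ

set_option autoImplicit false
open Pointwise
open Cfsg

namespace Cfsg.Agent.S0551

/-- In a finite solvable group all core-free maximal subgroups are conjugate. -/
theorem result {G : Type*} [Group G] [Finite G] [Group.IsSolvable G] (U V : Subgroup G) (hU : IsCoatom U) (hV : IsCoatom V) (hUc : U.normalCore = ⊥) (hVc : V.normalCore = ⊥) : ∃ g : G, MulAut.conj g • U = V := by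
  haveI : Nontrivial G := by
    by_contra h
    rw [not_nontrivial_iff_subsingleton] at h
    exact hU.1 (Subgroup.eq_top_of_card_eq _ (by
      rw [Nat.card_of_subsingleton (1 : U), Nat.card_of_subsingleton (1 : G)]))
  obtain ⟨N, hN⟩ := Cfsg.Agent.Perm.exists_isMinNormal (G := G)
  haveI := hN.1
  have hc := hN.isMulCommutative inferInstance
  obtain ⟨p, hp, -, hpg, a, ha, hpa⟩ := hN.exists_prime hc
  haveI := Fact.mk hp
  have nle : ∀ W : Subgroup G, W.normalCore = ⊥ → ¬ N ≤ W := fun W hW h =>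
    hN.2.1 (eq_bot_iff.2 (hW ▸ Subgroup.normal_le_normalCore.2 h))
  obtain ⟨hNU, hNUtop, hcU, -⟩ := hN.complement_of_coatom hc hU (nle U hUc)
  obtain ⟨hNV, hNVtop, hcV, -⟩ := hN.complement_of_coatom hc hV (nle V hVc)
  have hcard : Nat.card U = Nat.card V :=
    Nat.eq_of_mul_eq_mul_left (Nat.card_pos (α := N)) (hcU.card_mul.trans hcV.card_mul.symm)
  have hCN : Subgroup.centralizer (N : Set G) = N := by
    have hle : N ≤ Subgroup.centralizer (N : Set G) := Subgroup.le_centralizer_iff_isMulCommutative.2 hc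
    obtain ⟨-, h | ⟨-, h⟩⟩ := Cfsg.Agent.S0549.result U hU hUc N hN.2.1
    · exact absurd (eq_bot_iff.2 (h ▸ hle)) hN.2.1
    · exact ((h N hN.1 hle).resolve_left hN.2.1).symm
  rcases eq_or_ne N ⊤ with hNt | hNt
  · refine ⟨1, ?_⟩
    rw [map_one, one_smul]
    subst hNt
    rw [top_inf_eq] at hNU hNV
    rw [hNU, hNV]
  haveI : Nontrivial (G ⧸ N) := QuotientGroup.nontrivial_iff.2 hNt
  obtain ⟨Lb, hLb⟩ := Cfsg.Agent.Perm.exists_isMinNormal (G := G ⧸ N)
  haveI := hLb.1
  obtain ⟨q, hq, -, -, b, hb, hqb⟩ := hLb.exists_prime (hLb.isMulCommutative inferInstance)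
  set L := Lb.comap (QuotientGroup.mk' N) with hLdef
  haveI : L.Normal := inferInstance
  have hNL : N ≤ L := fun x hx => by
    show QuotientGroup.mk' N x ∈ Lb
    rw [QuotientGroup.mk'_apply, (QuotientGroup.eq_one_iff x).2 hx]
    exact one_mem _
  have hLcard : Nat.card L = Nat.card N * q ^ b := by
    rw [hLdef, Cfsg.Agent.Solv.card_comap_mk', hqb]
    try ring
  have split : ∀ W : Subgroup G, N ⊔ W = ⊤ → N ⊔ (L ⊓ W) = L := by
    intro W hW
    refine le_antisymm (sup_le hNL inf_le_left) fun l hl => ?_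
    have : l ∈ ((N ⊔ W : Subgroup G) : Set G) := by rw [hW]; trivial
    rw [Subgroup.normal_mul] at this
    obtain ⟨n, hn, w, hw, rfl⟩ := this
    exact mul_mem (Subgroup.mem_sup_left hn) (Subgroup.mem_sup_right
      ⟨by simpa using L.mul_mem (L.inv_mem (hNL hn)) hl, hw⟩)
  have cardW : ∀ W : Subgroup G, N ⊔ W = ⊤ → N ⊓ W = ⊥ → Nat.card (L ⊓ W : Subgroup G) = q ^ b := by
    intro W h1 h2
    have := Cfsg.Agent.Solv.card_sup_of_inf_eq_bot N (L ⊓ W)
      (eq_bot_iff.2 (h2 ▸ inf_le_inf_left _ inf_le_right))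
    rw [split W h1, hLcard] at this
    exact (Nat.eq_of_mul_eq_mul_left Nat.card_pos this).symm
  have hqp : q ≠ p := by
    intro e
    have hLp : IsPGroup p L := IsPGroup.of_card (n := a + b) (by rw [hLcard, hpa, e, pow_add])
    haveI : (N.subgroupOf L).Normal := Subgroup.Normal.subgroupOf inferInstance L
    haveI : Nontrivial (N.subgroupOf L) := by
      rw [Subgroup.nontrivial_iff_ne_bot, Ne, Subgroup.subgroupOf_eq_bot, disjoint_iff,
        inf_eq_left.2 hNL]
      exact hN.2.1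
    obtain ⟨z, hz, hzc, hz1⟩ := Cfsg.Agent.Perm.exists_ne_one_center hLp (N.subgroupOf L)
    have hzN : (z : G) ∈ N ⊓ Subgroup.centralizer (L : Set G) :=
      ⟨hz, Subgroup.mem_centralizer_iff.2 fun l hl =>
        congrArg Subtype.val (Subgroup.mem_center_iff.1 hzc ⟨l, hl⟩)⟩
    rcases hN.2.2 (N ⊓ Subgroup.centralizer (L : Set G)) inferInstance inf_le_left with h | h
    · rw [h, Subgroup.mem_bot] at hzN
      exact hz1 (Subtype.ext hzN)
    · have hLN : L ≤ N := hCN ▸ Subgroup.le_centralizer_iff.1 (inf_eq_left.1 h)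
      rw [le_antisymm hLN hNL] at hLcard
      have h1 : q ^ b = 1 := (Nat.mul_eq_left Nat.card_pos.ne').1 hLcard.symm
      exact (Nat.one_lt_pow hb.ne' hq.one_lt).ne' h1
  obtain ⟨g, -, hg⟩ := Cfsg.Agent.Solv.sz_conj_rel N (L ⊓ U) (L ⊓ V)
    (fun x _ => by rw [Subgroup.normalizer_eq_top_iff.2 hN.1]; trivial)
    (by rw [split U hNUtop]; exact inf_le_left)
    (by rw [hpa, cardW U hNUtop hNU]; exact ((Nat.coprime_primes hp hq).2 (Ne.symm hqp)).pow a b)
    ((cardW V hNVtop hNV).trans (cardW U hNUtop hNU).symm) (Or.inl inferInstance)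
  have hnorm : ∀ W : Subgroup G, W ≤ Subgroup.normalizer ((L ⊓ W : Subgroup G) : Set G) := by
    intro W w hw
    refine Cfsg.Agent.Solv.mem_normalizer_of_conj_smul ?_
    rw [Subgroup.smul_inf, Subgroup.Normal.conj_smul_eq_self w L,
      Subgroup.conj_smul_eq_self_of_mem hw]
  have hne : Subgroup.normalizer ((L ⊓ V : Subgroup G) : Set G) ≠ ⊤ := by
    intro h
    haveI := Subgroup.normalizer_eq_top_iff.1 h
    have : L ⊓ V = ⊥ := eq_bot_iff.2 (hVc ▸ Subgroup.normal_le_normalCore.2 inf_le_right)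
    have h2 := cardW V hNVtop hNV
    rw [this, Subgroup.card_bot] at h2
    exact (Nat.one_lt_pow hb.ne' hq.one_lt).ne h2
  have hVn : V = Subgroup.normalizer ((L ⊓ V : Subgroup G) : Set G) :=
    ((hnorm V).eq_or_lt).resolve_right fun h => hne (hV.2 _ h)
  refine ⟨g, Subgroup.eq_of_le_of_card_ge ?_ ?_⟩
  · rw [hVn]
    intro x hx
    rw [Cfsg.Agent.Solv.mem_conj_smul] at hx
    refine Cfsg.Agent.Solv.mem_normalizer_of_conj_smul ?_
    rw [← hg, Cfsg.Agent.Solv.conj_smul_conj, show x * g = g * (g⁻¹ * x * g) by group,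
      ← Cfsg.Agent.Solv.conj_smul_conj, Cfsg.Agent.Solv.conj_smul_of_mem_normalizer (hnorm U hx)]
  · rw [Cfsg.Agent.Solv.card_conj_smul, hcard]

end Cfsg.Agent.S0551
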