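import Cfsg.Statements.S0553
import Cfsg.Agent.Lib.Perm.MinNormal
import Cfsg.Agent.Lib.Solv.Basic
import Mathlib.GroupTheory.Frattini

set_option autoImplicit false
open Cfsg

namespace Cfsg.Agent.S0553

universe u

theorem aux : ∀ (n : ℕ) {G : Type u} [Group G] [Finite G] [Group.IsSolvable G] [Nontrivial G],
    Nat.card G = n → (∀ M : Subgroup G, IsCoatom M → (Nat.card M).Coprime M.index) →
    ∃ p : ℕ, p.Prime ∧ p ∣ Nat.card G ∧ ∀ P : Sylow p G, (P : Subgroup G).Normal := by
  intro n
  induction n using Nat.strong_induction_on with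
  | _ n ih =>
    intro G _ _ _ _ hn h
    subst hn
    obtain ⟨N, hN⟩ := Cfsg.Agent.Perm.exists_isMinNormal (G := G)
    haveI := hN.1
    have hc := hN.isMulCommutative inferInstance
    obtain ⟨p, hp, -, hpg, k, hk, hpk⟩ := hN.exists_prime hc
    haveI := Fact.mk hp
    have hpdvd : p ∣ Nat.card G := (dvd_pow_self p hk.ne').trans (hpk ▸ Subgroup.card_subgroup_dvd_card N)
    have hpN : ∀ (H : Subgroup G), H.Normal → IsPGroup p H → ¬ p ∣ H.index →
        ∀ P : Sylow p G, (P : Subgroup G).Normal := by
      intro H hH hHp hidx P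
      haveI := hH
      have hle : H ≤ (P : Subgroup G) := by
        refine Cfsg.Agent.Solv.normal_le_of_coprime_index H _ ?_
        obtain ⟨j, hj⟩ := IsPGroup.iff_card.mp hHp
        rw [hj]
        exact ((hp.coprime_iff_not_dvd).2 P.not_dvd_index).pow_left j
      have : H = (P : Subgroup G) := congrArg Sylow.toSubgroup
        (show hHp.toSylow hidx = P from Sylow.ext
          ((hHp.toSylow hidx).is_maximal' P.2 hle).symm)
      exact this ▸ hH
    by_cases hex : ∃ M : Subgroup G, IsCoatom M ∧ ¬ N ≤ M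
    · obtain ⟨M, hM, hNM⟩ := hex
      obtain ⟨-, -, hcomp, hidx⟩ := hN.complement_of_coatom hc hM hNM
      refine ⟨p, hp, hpdvd, hpN N hN.1 hpg fun hd => ?_⟩
      rw [hcomp.symm.index_eq_card] at hd
      have h1 := h M hM
      rw [hidx, hpk] at h1
      exact hp.coprime_iff_not_dvd.1 (h1.coprime_dvd_right (dvd_pow_self p hk.ne')).symm hd
    push Not at hex
    rcases eq_or_ne N ⊤ with hNt | hNt
    · refine ⟨p, hp, hpdvd, hpN N hN.1 hpg ?_⟩
      rw [hNt, Subgroup.index_top]
      exact hp.not_dvd_one
    haveI : Nontrivial (G ⧸ N) := QuotientGroup.nontrivial_iff.2 hNt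
    obtain ⟨q, hq, hqd, hQn⟩ := ih _ (Cfsg.Agent.Solv.card_quotient_lt N hN.2.1) (G := G ⧸ N) rfl (by
      intro M hM
      have hM' := h _ (Subgroup.isCoatom_comap_of_surjective (QuotientGroup.mk'_surjective N) hM)
      rw [Cfsg.Agent.Solv.card_comap_mk',
        Subgroup.index_comap_of_surjective _ (QuotientGroup.mk'_surjective N)] at hM'
      exact hM'.coprime_dvd_left (dvd_mul_right _ _))
    haveI := Fact.mk hq
    refine ⟨q, hq, hqd.trans (Subgroup.card_quotient_dvd_card N), fun P => ?_⟩
    set Qb := P.mapSurjective (QuotientGroup.mk'_surjective N)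
    haveI := hQn Qb
    set L := (Qb : Subgroup (G ⧸ N)).comap (QuotientGroup.mk' N) with hL
    haveI : L.Normal := inferInstance
    have hNL : N ≤ L := fun x hx => by
      show QuotientGroup.mk' N x ∈ (Qb : Subgroup (G ⧸ N))
      rw [QuotientGroup.mk'_apply, (QuotientGroup.eq_one_iff x).2 hx]
      exact one_mem _
    have hPL : (P : Subgroup G) ≤ L := fun x hx => ⟨x, hx, rfl⟩
    let P' : Sylow q L := P.subtype hPL
    have harg := Sylow.normalizer_sup_eq_top P'
    rw [Sylow.coe_subtype, Subgroup.map_subgroupOf_eq_of_le hPL] at harg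
    have hNΦ : N ≤ frattini G := le_iInf₂ fun M hM => hex M hM
    have hLP : L = N ⊔ (P : Subgroup G) := by
      rw [hL, Sylow.coe_mapSurjective, Subgroup.comap_map_eq, QuotientGroup.ker_mk', sup_comm]
    rw [← Subgroup.normalizer_eq_top_iff]
    refine frattini_nongenerating (eq_top_iff.2 (harg.ge.trans (sup_le le_sup_left ?_)))
    rw [hLP]
    exact sup_le (hNΦ.trans le_sup_right) (Subgroup.le_normalizer.trans le_sup_left)

/-- Let G be a nontrivial finite solvable group in which every maximal subgroup has order coprime to its index. Then for some prime p dividing the order of G the Sylow p-subgroups of G are normal. -/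
theorem result {G : Type*} [Group G] [Finite G] [Group.IsSolvable G] [Nontrivial G] (h : ∀ M : Subgroup G, IsCoatom M → (Nat.card M).Coprime M.index) : ∃ p : ℕ, p.Prime ∧ p ∣ Nat.card G ∧ ∀ P : Sylow p G, (P : Subgroup G).Normal := by
  exact aux _ rfl h

end Cfsg.Agent.S0553
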