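import Cfsg.Statements.S0554
import Cfsg.Agent.Lib.Perm.MinNormal
import Cfsg.Agent.Lib.Solv.Basic
import Mathlib.Tactic.Group

set_option autoImplicit false
open Cfsg

namespace Cfsg.Agent.S0554

universe u

theorem prod_update {G : Type u} [Group G] (N : Subgroup G) [N.Normal] :
    ∀ (t : ℕ) (s : Fin t → G) (k : Fin t) (n : G), n ∈ N →
      ∃ n' ∈ N, (List.ofFn (Function.update s k (s k * n'))).prod = (List.ofFn s).prod * n := by
  intro t
  induction t with
  | zero => exact fun _ k => k.elim0
  | succ t ih =>
    intro s k n hn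
    induction k using Fin.cases with
    | zero =>
      refine ⟨(List.ofFn (fun i => s (Fin.succ i))).prod * n * (List.ofFn (fun i => s (Fin.succ i))).prod⁻¹,
        Subgroup.Normal.conj_mem inferInstance n hn _, ?_⟩
      rw [List.ofFn_succ, List.ofFn_succ, List.prod_cons, List.prod_cons]
      simp only [Function.update_self, ne_eq, Fin.succ_ne_zero, not_false_eq_true,
        Function.update_of_ne]
      group
    | succ k =>
      obtain ⟨n', hn', e⟩ := ih (fun i => s i.succ) k n hn
      refine ⟨n', hn', ?_⟩
      rw [List.ofFn_succ, List.ofFn_succ, List.prod_cons, List.prod_cons,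
        Function.update_of_ne (Fin.succ_ne_zero k).symm]
      have : (fun i : Fin t => Function.update s k.succ (s k.succ * n') i.succ) =
          Function.update (fun i => s i.succ) k (s k.succ * n') :=
        Function.update_comp_eq_of_injective s (Fin.succ_injective t) k _
      rw [this, e, mul_assoc]

theorem aux (t : ℕ) (p : Fin t → ℕ) (hp : ∀ i, (p i).Prime) (hinj : Function.Injective p) :
    ∀ (m : ℕ) {G : Type u} [Group G] [Finite G] [Group.IsSolvable G], Nat.card G = m →
      (∀ q : ℕ, q.Prime → q ∣ Nat.card G → ∃ i, p i = q) → ∀ S : (i : Fin t) → Sylow (p i) G,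
      ∀ g : G, ∃ s : (i : Fin t) → G, (∀ i, s i ∈ (S i : Subgroup G)) ∧ g = (List.ofFn s).prod := by
  intro m
  induction m using Nat.strong_induction_on with
  | _ m ih =>
    intro G _ _ _ hm hall S g
    subst hm
    rcases subsingleton_or_nontrivial G with hG | hG
    · exact ⟨fun _ => 1, fun i => one_mem _, Subsingleton.elim _ _⟩
    obtain ⟨N, hN⟩ := Cfsg.Agent.Perm.exists_isMinNormal (G := G)
    haveI := hN.1
    obtain ⟨q, hq, -, hqg, k, hk, hqk⟩ := hN.exists_prime (hN.isMulCommutative inferInstance)
    obtain ⟨i, hi⟩ := hall q hq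
      ((dvd_pow_self q hk.ne').trans (hqk ▸ Subgroup.card_subgroup_dvd_card N))
    subst hi
    haveI := fun j => Fact.mk (hp j)
    have hNS : N ≤ (S i : Subgroup G) := by
      refine Cfsg.Agent.Solv.normal_le_of_coprime_index N _ ?_
      rw [hqk]
      exact (((hp i).coprime_iff_not_dvd).2 (S i).not_dvd_index).pow_left k
    obtain ⟨s', hs', e⟩ := ih _ (Cfsg.Agent.Solv.card_quotient_lt N hN.2.1) (G := G ⧸ N) rfl
      (fun r hr hrd => hall r hr (hrd.trans (Subgroup.card_quotient_dvd_card N)))
      (fun j => (S j).mapSurjective (QuotientGroup.mk'_surjective N)) (QuotientGroup.mk' N g)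
    choose s hs hse using fun j => Subgroup.mem_map.1 (hs' j)
    have : ((List.ofFn s).prod)⁻¹ * g ∈ N := by
      rw [← QuotientGroup.eq]
      show QuotientGroup.mk' N _ = QuotientGroup.mk' N g
      rw [e, map_list_prod, List.map_ofFn]
      congr 1
      exact congrArg List.ofFn (funext hse)
    obtain ⟨n', hn', e'⟩ := prod_update N t s i _ this
    refine ⟨Function.update s i (s i * n'), fun j => ?_, by rw [e', mul_inv_cancel_left]⟩
    rcases eq_or_ne j i with rfl | hj
    · rw [Function.update_self]
      exact mul_mem (hs j) (hNS hn')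
    · rw [Function.update_of_ne hj]
      exact hs j

/-- Let G be a finite solvable group and let S assign to each of t distinct primes, including every prime divisor of the order of G, a Sylow subgroup of G. Then every element of G is a product s_0 s_1 ⋯ s_(t-1) with s_i in S i, the factors taken in the given order. -/
theorem result {G : Type*} [Group G] [Finite G] [Group.IsSolvable G] (t : ℕ) (p : Fin t → ℕ) (hp : ∀ i, (p i).Prime) (hinj : Function.Injective p) (hall : ∀ q : ℕ, q.Prime → q ∣ Nat.card G → ∃ i, p i = q) (S : (i : Fin t) → Sylow (p i) G) : ∀ g : G, ∃ s : (i : Fin t) → G, (∀ i, s i ∈ (S i : Subgroup G)) ∧ g = (List.ofFn s).prod := by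
  exact aux t p hp hinj _ rfl hall S

end Cfsg.Agent.S0554
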