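import Cfsg.Statements.S0555
import Mathlib.GroupTheory.Solvable
import Mathlib.GroupTheory.SpecificGroups.Cyclic
import Mathlib.Tactic.Group

set_option autoImplicit false
open Cfsg

namespace Cfsg.Agent.S0555

open scoped commutatorElement

/-- Let i ≥ 1. If in the derived series of a group the quotient of the i-th term by the (i+1)-st and the quotient of the (i+1)-st by the (i+2)-nd are both cyclic, then the (i+1)-st and (i+2)-nd terms coincide. -/
theorem result {G : Type*} [Group G] (i : ℕ) (hi : 1 ≤ i) (h₁ : IsCyclic (↥(derivedSeries G i) ⧸ (derivedSeries G (i + 1)).subgroupOf (derivedSeries G i))) (h₂ : IsCyclic (↥(derivedSeries G (i + 1)) ⧸ (derivedSeries G (i + 2)).subgroupOf (derivedSeries G (i + 1)))) : derivedSeries G (i + 1) = derivedSeries G (i + 2) := by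
  have gen : ∀ j : ℕ, IsCyclic (↥(derivedSeries G j) ⧸ (derivedSeries G (j + 1)).subgroupOf (derivedSeries G j)) →
      ∃ x ∈ derivedSeries G j, ∀ d ∈ derivedSeries G j, ∃ n : ℤ, (x ^ n)⁻¹ * d ∈ derivedSeries G (j + 1) := by
    intro j hj
    obtain ⟨x', hx⟩ := hj.exists_generator
    obtain ⟨⟨x, hx'⟩, rfl⟩ := QuotientGroup.mk_surjective x'
    refine ⟨x, hx', fun d hd => ?_⟩
    obtain ⟨n, hn⟩ := Subgroup.mem_zpowers_iff.1 (hx (QuotientGroup.mk ⟨d, hd⟩))
    rw [← QuotientGroup.mk_zpow, QuotientGroup.eq, Subgroup.mem_subgroupOf] at hn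
    exact ⟨n, by simpa using hn⟩
  obtain ⟨x, hx, gx⟩ := gen i h₁
  obtain ⟨y, hy, gy⟩ := gen (i + 1) h₂
  refine le_antisymm ?_ (derivedSeries_antitone G (Nat.le_succ _))
  haveI := derivedSeries_normal G (i + 1)
  haveI := derivedSeries_normal G (i + 2)
  set f := QuotientGroup.mk' (derivedSeries G (i + 2)) with hf
  have hker : ∀ z, z ∈ derivedSeries G (i + 2) → f z = 1 := fun z hz => (QuotientGroup.eq_one_iff z).2 hz
  have ha : ∀ d ∈ derivedSeries G (i + 1), f d ∈ Subgroup.zpowers (f y) := by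
    intro d hd
    obtain ⟨n, hn⟩ := gy d hd
    refine Subgroup.mem_zpowers_iff.2 ⟨n, ?_⟩
    rw [← map_zpow]
    have := hker _ hn
    rwa [map_mul, map_inv, inv_mul_eq_one] at this
  have hcent : ∀ g h : G, f ⁅g, h⁆ * f y = f y * f ⁅g, h⁆ := by
    have hk : ∀ g : G, ∃ k : ℤ, f g * f y * (f g)⁻¹ = f y ^ k := by
      intro g
      obtain ⟨k, hk⟩ := Subgroup.mem_zpowers_iff.1 (ha _ (Subgroup.Normal.conj_mem inferInstance y hy g))
      exact ⟨k, by rw [hk, map_mul, map_mul, map_inv]⟩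
    intro g h
    obtain ⟨a, ha'⟩ := hk g⁻¹
    obtain ⟨b, hb'⟩ := hk h⁻¹
    rw [map_inv, inv_inv] at ha' hb'
    have e1 : (f h)⁻¹ * ((f g)⁻¹ * f y * f g) * f h = (f y ^ b) ^ a := by
      rw [ha', ← hb']
      rw [show (f h)⁻¹ * f y * f h = (f h)⁻¹ * f y * ((f h)⁻¹)⁻¹ by rw [inv_inv], conj_zpow, inv_inv]
    have e2 : (f g)⁻¹ * ((f h)⁻¹ * f y * f h) * f g = (f y ^ a) ^ b := by
      rw [hb', ← ha']
      rw [show (f g)⁻¹ * f y * f g = (f g)⁻¹ * f y * ((f g)⁻¹)⁻¹ by rw [inv_inv], conj_zpow, inv_inv]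
    have e3 : (f h)⁻¹ * ((f g)⁻¹ * f y * f g) * f h = (f g)⁻¹ * ((f h)⁻¹ * f y * f h) * f g := by
      rw [e1, e2, ← zpow_mul, ← zpow_mul, mul_comm a b]
    rw [map_commutatorElement, commutatorElement_def]
    calc f g * f h * (f g)⁻¹ * (f h)⁻¹ * f y
        = f g * f h * ((f g)⁻¹ * ((f h)⁻¹ * f y * f h) * f g) * (f g)⁻¹ * (f h)⁻¹ := by group
      _ = f g * f h * ((f h)⁻¹ * ((f g)⁻¹ * f y * f g) * f h) * (f g)⁻¹ * (f h)⁻¹ := by rw [e3]
      _ = _ := by group
  have hC : derivedSeries G i ≤ (Subgroup.centralizer {f y}).comap f := by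
    obtain ⟨j, rfl⟩ : ∃ j, i = j + 1 := ⟨i - 1, by omega⟩
    refine (derivedSeries_antitone G (Nat.le_add_left 1 j)).trans ?_
    rw [derivedSeries_one, commutator_def, Subgroup.commutator_le]
    intro g _ h _
    rw [Subgroup.mem_comap, Subgroup.mem_centralizer_singleton_iff]
    exact hcent g h
  have hxy : Commute (f x) (f y) := Subgroup.mem_centralizer_singleton_iff.1 (hC hx)
  have hform : ∀ d ∈ derivedSeries G i, ∃ n m : ℤ, f d = f x ^ n * f y ^ m := by
    intro d hd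
    obtain ⟨n, hn⟩ := gx d hd
    obtain ⟨m, hm⟩ := Subgroup.mem_zpowers_iff.1 (ha _ hn)
    exact ⟨n, m, by rw [hm, map_mul, map_inv, map_zpow, mul_inv_cancel_left]⟩
  rw [derivedSeries_succ, Subgroup.commutator_le]
  intro a ha' b hb'
  rw [← QuotientGroup.eq_one_iff]
  show f ⁅a, b⁆ = 1
  rw [map_commutatorElement, commutatorElement_eq_one_iff_commute]
  obtain ⟨n, m, e⟩ := hform a ha'
  obtain ⟨n', m', e'⟩ := hform b hb'
  rw [e, e']
  exact (((Commute.refl _).zpow_zpow n n').mul_right (hxy.zpow_zpow n m')).mul_left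
    ((hxy.symm.zpow_zpow m n').mul_right ((Commute.refl _).zpow_zpow m m'))

end Cfsg.Agent.S0555
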