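import Cfsg.Statements.S0588
import Mathlib.GroupTheory.Sylow

set_option autoImplicit false
open Cfsg

namespace Cfsg.Agent.S0588

/-- If a subgroup H of a finite group G contains the centralizer of every non-identity element of H, then the order of H is coprime to its index. -/
theorem result {G : Type*} [Group G] [Finite G] (H : Subgroup G) (h : ∀ x ∈ H, x ≠ 1 → Subgroup.centralizer ({x} : Set G) ≤ H) : (Nat.card H).Coprime H.index := by
  refine Nat.coprime_of_dvd fun p hp hpH hpi => ?_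
  haveI := Fact.mk hp
  obtain ⟨⟨x, hx⟩, hxp⟩ := exists_prime_orderOf_dvd_card' p hpH
  rw [Subgroup.orderOf_mk] at hxp
  have hx1 : x ≠ 1 := fun e => hp.one_lt.ne (by rw [← hxp, e, orderOf_one])
  have hz : IsPGroup p (Subgroup.zpowers x) :=
    IsPGroup.of_card (n := 1) (by rw [Nat.card_zpowers, hxp, pow_one])
  obtain ⟨Q, hQ⟩ := hz.exists_le_sylow
  have hxQ : x ∈ (Q : Subgroup G) := hQ (Subgroup.mem_zpowers x)
  haveI : Nontrivial (Q : Subgroup G) := ⟨⟨⟨x, hxQ⟩, 1, fun e => hx1 (congrArg Subtype.val e)⟩⟩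
  haveI := Q.2.center_nontrivial
  obtain ⟨⟨z, hz⟩, hz1⟩ := exists_ne (1 : Subgroup.center (Q : Subgroup G))
  have hcomm : ∀ q : (Q : Subgroup G), (q : G) * z = z * q := fun q =>
    congrArg Subtype.val (Subgroup.mem_center_iff.1 hz q)
  have hzH : (z : G) ∈ H :=
    h x hx hx1 (Subgroup.mem_centralizer_singleton_iff.2 (hcomm ⟨x, hxQ⟩).symm)
  have hz1' : (z : G) ≠ 1 := fun e => hz1 (Subtype.ext (Subtype.ext e))
  have hQH : (Q : Subgroup G) ≤ H := fun q hq =>
    h z hzH hz1' (Subgroup.mem_centralizer_singleton_iff.2 (hcomm ⟨q, hq⟩))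
  exact Q.not_dvd_index (hpi.trans (Subgroup.index_dvd_of_le hQH))

end Cfsg.Agent.S0588
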