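import Cfsg.Statements.S0556
import Cfsg.Agent.S0557
import Cfsg.Agent.S0588
import Cfsg.Agent.Lib.Solv.Coprime
import Cfsg.Agent.Lib.Perm.MinNormal
import Cfsg.Agent.Lib.Perm.NilpFrattini
import Mathlib.Tactic.Group

set_option autoImplicit false
open Cfsg

namespace Cfsg.Agent.S0556

open scoped commutatorElement Pointwise

set_option maxHeartbeats 1000000

/-- If a finite group has a maximal subgroup that is abelian, then the third term of its derived series is trivial (so the group is solvable of derived length at most three). -/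
theorem result {G : Type*} [Group G] [Finite G] (A : Subgroup G) (hA : IsCoatom A) [IsMulCommutative A] : derivedSeries G 3 = ⊥ := by
  have cA : ∀ x ∈ A, ∀ y ∈ A, x * y = y * x := fun x hx y hy =>
    congrArg Subtype.val (mul_comm' (⟨x, hx⟩ : A) ⟨y, hy⟩)
  by_cases hAn : A.Normal
  · haveI := hAn
    have h1 : derivedSeries G 1 ≤ A := by
      rw [derivedSeries_one]; exact Cfsg.Agent.Perm.commutator_le_of_normal_coatom hA
    have hAA : ⁅A, A⁆ = ⊥ := Cfsg.Agent.Perm.mulCommutative_iff_commutator_eq_bot.1 inferInstance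
    have h2 : derivedSeries G 2 = ⊥ := by
      rw [derivedSeries_succ, eq_bot_iff, ← hAA]
      exact Subgroup.commutator_mono h1 h1
    exact eq_bot_iff.2 (h2 ▸ derivedSeries_antitone G (by norm_num : 2 ≤ 3))
  have hNA : Subgroup.normalizer (A : Set G) = A :=
    (Subgroup.le_normalizer.eq_or_lt).elim Eq.symm fun h =>
      absurd (Subgroup.normalizer_eq_top_iff.1 (hA.2 _ h)) hAn
  set Z := Subgroup.center G
  have hZA : Z ≤ A := by
    rw [← hNA]; intro z hz
    rw [Subgroup.mem_normalizer_iff]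
    intro x
    rw [show z * x * z⁻¹ = x by rw [← Subgroup.mem_center_iff.1 hz x, mul_inv_cancel_right]]
  have hmeet : ∀ g, g ∉ A → ∀ x ∈ A, g * x * g⁻¹ ∈ A → g * x * g⁻¹ ∈ Z := by
    intro g hg x hx hy
    have hne : ¬ MulAut.conj g • A ≤ A := fun hle => hg (hNA.le
      (Cfsg.Agent.Solv.mem_normalizer_of_conj_smul
        (Subgroup.eq_of_le_of_card_ge hle (Cfsg.Agent.Solv.card_conj_smul g A).ge)))
    have htop : A ⊔ MulAut.conj g • A = ⊤ :=
      hA.2 _ (lt_of_le_of_ne le_sup_left fun h => hne (le_sup_right.trans h.ge))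
    have hc : A ⊔ MulAut.conj g • A ≤ Subgroup.centralizer {g * x * g⁻¹} := by
      refine sup_le (fun a ha => Subgroup.mem_centralizer_singleton_iff.2 (cA a ha _ hy)) fun a ha => ?_
      rw [Cfsg.Agent.Solv.mem_conj_smul] at ha
      rw [Subgroup.mem_centralizer_singleton_iff]
      calc a * (g * x * g⁻¹) = g * ((g⁻¹ * a * g) * x) * g⁻¹ := by group
        _ = g * x * g⁻¹ * a := by rw [cA _ ha x hx]; group
    rw [htop] at hc
    exact Subgroup.mem_center_iff.2 fun w => Subgroup.mem_centralizer_singleton_iff.1 (hc trivial)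
  set f := QuotientGroup.mk' Z with hf
  have hfs := QuotientGroup.mk'_surjective Z
  set B := A.map f with hB
  have hcomap : B.comap f = A := by
    rw [hB, Subgroup.comap_map_eq, QuotientGroup.ker_mk', sup_eq_left.2 hZA]
  have hBco : IsCoatom B := by
    refine ⟨fun h => hA.1 (by rw [← hcomap, h, Subgroup.comap_top]), fun C hC => ?_⟩
    have : A < C.comap f := by
      rw [← hcomap]
      exact (Subgroup.comap_lt_comap_of_surjective hfs).2 hC
    rw [← Subgroup.map_comap_eq_self_of_surjective hfs C, hA.2 _ this, Subgroup.map_top_of_surjective f hfs]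
  have cB : ∀ x ∈ B, ∀ y ∈ B, x * y = y * x := by
    rintro - ⟨x, hx, rfl⟩ - ⟨y, hy, rfl⟩
    rw [← map_mul, cA x hx y hy, map_mul]
  have hTI : ∀ x ∈ B, ∀ u : G ⧸ Z, u * x * u⁻¹ ∈ B → x ≠ 1 → u ∈ B := by
    rintro - ⟨x, hx, rfl⟩ u hu hx1
    obtain ⟨g, rfl⟩ := hfs u
    by_contra hg
    have hgA : g ∉ A := fun h => hg ⟨g, h, rfl⟩
    have hy : g * x * g⁻¹ ∈ A := by
      rw [← hcomap, Subgroup.mem_comap, map_mul, map_mul, map_inv]; exact hu
    have hz := hmeet g hgA x hx hy
    refine hx1 ((QuotientGroup.eq_one_iff x).2 ?_)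
    have : x = g * x * g⁻¹ := by
      have h1 := Subgroup.mem_center_iff.1 hz g⁻¹
      calc x = g⁻¹ * (g * x * g⁻¹) * g := by group
        _ = g * x * g⁻¹ := by rw [h1]; group
    rw [this]; exact hz
  have hHall : (Nat.card B).Coprime B.index := by
    refine Cfsg.Agent.S0588.result B fun x hx hx1 u hu => hTI x hx u ?_ hx1
    rw [Subgroup.mem_centralizer_singleton_iff.1 hu, mul_inv_cancel_right]
    exact hx
  obtain ⟨K, hK, hKB⟩ := Cfsg.Agent.S0557.result B hHall 1 (by
    rw [Function.iterate_one, eq_bot_iff, Subgroup.focalSubgroup_def, Subgroup.closure_le]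
    rintro - ⟨hg, x, hx, u, rfl⟩
    rw [SetLike.mem_coe, Subgroup.mem_bot]
    rcases eq_or_ne x 1 with rfl | hx1
    · simp
    rw [commutatorElement_eq_one_iff_commute]
    refine cB x hx u (hTI _ (B.inv_mem hx) u ?_ (by simpa using hx1))
    rw [show u * x⁻¹ * u⁻¹ = x⁻¹ * ⁅x, u⁆ by rw [commutatorElement_def]; group]
    exact B.mul_mem (B.inv_mem hx) hg)
  haveI := hK
  have hdis : ∀ x ∈ K, x ∈ B → x = 1 := fun x hx hx' =>
    Subgroup.mem_bot.1 (hKB.disjoint.le_bot ⟨hx, hx'⟩)
  have hB1 : IsMulCommutative B := ⟨⟨fun a b => Subtype.ext (cB a a.2 b b.2)⟩⟩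
  have hKne : K ≠ ⊥ := by
    intro h
    have := hKB.sup_eq_top
    rw [h, bot_sup_eq] at this
    exact hBco.1 this
  have hgen : ∀ L : Subgroup (G ⧸ Z), L ≤ K → L ≠ ⊥ → B ≤ Subgroup.normalizer (L : Set (G ⧸ Z)) → L = K := by
    intro L hLK hL hn
    have htop : L ⊔ B = ⊤ := hBco.2 _ (lt_of_le_of_ne le_sup_right fun h => hL (eq_bot_iff.2
      fun x hx => Subgroup.mem_bot.2 (hdis x (hLK hx) (h ▸ Subgroup.mem_sup_left hx))))
    refine le_antisymm hLK fun x hx => ?_
    have hx' : x ∈ ((L ⊔ B : Subgroup (G ⧸ Z)) : Set (G ⧸ Z)) := by rw [htop]; trivial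
    rw [Subgroup.coe_mul_of_right_le_normalizer_left L B hn] at hx'
    obtain ⟨l, hl, b, hb, rfl⟩ := hx'
    have : b = 1 := hdis b (by simpa using K.mul_mem (K.inv_mem (hLK hl)) hx) hb
    simpa [this] using hl
  have hKp : ∃ p : ℕ, p.Prime ∧ IsPGroup p K := by
    obtain ⟨p, hp, hpd⟩ := Nat.exists_prime_and_dvd (fun h => hKne (Subgroup.card_eq_one.1 h))
    haveI := Fact.mk hp
    obtain ⟨P, hP, hPB⟩ := Cfsg.Agent.Solv.exists_invariant_sylow (A := B) (K := K)
      (fun x _ => by rw [Subgroup.normalizer_eq_top_iff.2 hK]; trivial)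
      (by rw [← hKB.index_eq_card]; exact hHall)
      (Or.inl (Group.isSolvable_of_comm fun a b => Subtype.ext (cB a a.2 b b.2))) p
    refine ⟨p, hp, (hgen P hP.1 (fun h => ?_) hPB) ▸ hP.isPGroup⟩
    have := hP.2
    rw [h, Subgroup.card_bot] at this
    exact (Nat.one_lt_pow (hp.factorization_pos_of_dvd Nat.card_pos.ne' hpd).ne' hp.one_lt).ne this
  obtain ⟨p, hp, hKp⟩ := hKp
  haveI := Fact.mk hp
  haveI : Group.IsNilpotent K := hKp.isNilpotent
  have hKc : IsMulCommutative K := Cfsg.Agent.Perm.IsMinNormal.isMulCommutative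
    ⟨hK, hKne, fun L hL hLK => by
      rcases eq_or_ne L ⊥ with h | h
      · exact Or.inl h
      · exact Or.inr (hgen L hLK h (by rw [Subgroup.normalizer_eq_top_iff.2 hL]; exact le_top))⟩
    inferInstance
  have h1 : derivedSeries (G ⧸ Z) 1 ≤ K := by
    rw [derivedSeries_one, commutator_def, Subgroup.commutator_le]
    intro a _ b _
    have key : ∀ q : G ⧸ Z, ∃ c ∈ B, QuotientGroup.mk' K q = QuotientGroup.mk' K c := by
      intro q
      have hq : q ∈ ((K ⊔ B : Subgroup (G ⧸ Z)) : Set (G ⧸ Z)) := by rw [hKB.sup_eq_top]; trivial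
      rw [Subgroup.normal_mul] at hq
      obtain ⟨k, hk, c, hc, rfl⟩ := hq
      refine ⟨c, hc, ?_⟩
      rw [map_mul, show QuotientGroup.mk' K k = 1 from (QuotientGroup.eq_one_iff k).2 hk, one_mul]
    rw [← QuotientGroup.eq_one_iff]
    show QuotientGroup.mk' K ⁅a, b⁆ = 1
    obtain ⟨c, hc, e⟩ := key a
    obtain ⟨d, hd, e'⟩ := key b
    rw [map_commutatorElement, e, e', ← map_commutatorElement,
      commutatorElement_eq_one_iff_commute.2 (cB c hc d hd), map_one]
  have h2 : derivedSeries (G ⧸ Z) 2 = ⊥ := by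
    rw [derivedSeries_succ, eq_bot_iff, ← Cfsg.Agent.Perm.mulCommutative_iff_commutator_eq_bot.1 hKc]
    exact Subgroup.commutator_mono h1 h1
  have h3 : derivedSeries G 2 ≤ Z := by
    have h4 := map_derivedSeries_le_derivedSeries f 2
    rw [h2] at h4
    exact (Subgroup.map_eq_bot_iff _).1 (le_bot_iff.1 h4) |>.trans (QuotientGroup.ker_mk' Z).le
  rw [derivedSeries_succ, eq_bot_iff]
  refine (Subgroup.commutator_mono h3 h3).trans (le_of_eq ?_)
  rw [Subgroup.commutator_eq_bot_iff_le_centralizer]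
  exact fun z _ => Subgroup.mem_centralizer_iff.2 fun w hw => (Subgroup.mem_center_iff.1 hw z).symm

end Cfsg.Agent.S0556
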