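import Cfsg.Statements.S0563
import Cfsg.Agent.Lib.Solv.KegelProduct

set_option autoImplicit false
open Pointwise
open Cfsg

namespace Cfsg.Agent.S0563

/-- If a finite group G is the product AB of two nilpotent subgroups of coprime orders, then G is solvable, and for every Sylow p-subgroup P of A and Sylow q-subgroup Q of B the product set PQ is a subgroup. -/
theorem result {G : Type*} [Group G] [Finite G] (A B : Subgroup G) (hA : Group.IsNilpotent A) (hB : Group.IsNilpotent B) (hcop : (Nat.card A).Coprime (Nat.card B)) (hAB : ∀ g : G, ∃ a ∈ A, ∃ b ∈ B, g = a * b) : Group.IsSolvable G ∧ ∀ (p q : ℕ) [Fact p.Prime] [Fact q.Prime] (P : Sylow p A) (Q : Sylow q B), ∃ S : Subgroup G, (S : Set G) = (((P : Subgroup A).map A.subtype : Subgroup G) : Set G) * (((Q : Subgroup B).map B.subtype : Subgroup G) : Set G) := by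
  have h : Solv.Fct.IsFct A B := ⟨hAB, hcop, hA, hB⟩
  haveI hs : Group.IsSolvable G := Solv.Fct.solvable _ G A B rfl h
  refine ⟨hs, fun p q _ _ P Q => ?_⟩
  have key : ∀ {X Y : Subgroup G}, Solv.Fct.IsFct X Y → ∀ (c : ℕ) [Fact c.Prime],
      (Nat.card (Solv.Fct.part X c)).Coprime (Solv.Fct.part X c).index := by
    intro X Y hXY c _
    rw [Solv.Fct.part_card]
    by_cases hc : c ∣ Nat.card X
    · exact Nat.Coprime.pow_left _ (((Fact.out : c.Prime).coprime_iff_not_dvd).2 (hXY.part_index hc))
    · rw [Nat.factorization_eq_zero_of_not_dvd hc, pow_zero]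
      exact Nat.coprime_one_left _
  rw [Solv.Fct.part_unique hA P, Solv.Fct.part_unique hB Q]
  obtain ⟨S, hS⟩ := S0561.result A B (Solv.Fct.part A p) (Solv.Fct.part B q) hAB (Solv.Fct.part_le A p)
    ((Subgroup.normal_subgroupOf_iff_le_normalizer (Solv.Fct.part_le A p)).2 (Solv.Fct.le_normalizer_part hA p))
    (Solv.Fct.part_le B q)
    ((Subgroup.normal_subgroupOf_iff_le_normalizer (Solv.Fct.part_le B q)).2 (Solv.Fct.le_normalizer_part hB q))
    (key h p) (key h.symm q) 1 1
  rw [map_one, one_smul, one_smul] at hS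
  exact ⟨S, hS⟩

end Cfsg.Agent.S0563
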