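import Cfsg.Statements.S0567
import Mathlib.GroupTheory.IsSubnormal
import Mathlib.GroupTheory.Commutator.Basic
import Mathlib.Tactic.Group

set_option autoImplicit false
open Cfsg

namespace Cfsg.Agent.S0567

open scoped commutatorElement

/-- A subgroup H of a group G is subnormal exactly when, for some m, the subgroup obtained from G by taking the commutator with H m times in succession is contained in H. -/
theorem result {G : Type*} [Group G] (H : Subgroup G) : H.IsSubnormal ↔ ∃ m : ℕ, (fun K : Subgroup G => ⁅K, H⁆)^[m] ⊤ ≤ H := by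
  constructor
  · intro hH
    suffices h : ∀ K : Subgroup G, K.IsSubnormal → H ≤ K →
        ∃ m : ℕ, (fun L : Subgroup G => ⁅L, H⁆)^[m] ⊤ ≤ K from h H hH le_rfl
    intro K hK
    induction hK with
    | top => exact fun _ => ⟨0, le_rfl⟩
    | step A B hle _ hN ih =>
      intro hA
      obtain ⟨m, hm⟩ := ih (hA.trans hle)
      refine ⟨m + 1, ?_⟩
      rw [Function.iterate_succ_apply']
      refine (Subgroup.commutator_mono hm hA).trans (Subgroup.commutator_le.2 fun b hb a ha => ?_)
      have : b * a * b⁻¹ ∈ A := hN.conj_mem ⟨a, hle ha⟩ ha ⟨b, hb⟩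
      rw [commutatorElement_def]
      exact A.mul_mem this (A.inv_mem ha)
  · rintro ⟨m, hm⟩
    suffices h : ∀ i : ℕ, (((fun L : Subgroup G => ⁅L, H⁆)^[i] ⊤) ⊔ H).IsSubnormal by
      simpa [sup_eq_right.2 hm] using h m
    have hdec : ∀ i : ℕ, (fun L : Subgroup G => ⁅L, H⁆)^[i + 1] ⊤ ≤
        (fun L : Subgroup G => ⁅L, H⁆)^[i] ⊤ := by
      intro i
      induction i with
      | zero => exact le_top
      | succ i ih =>
        rw [Function.iterate_succ_apply', Function.iterate_succ_apply']
        rw [Function.iterate_succ_apply'] at ih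
        exact Subgroup.commutator_mono ih le_rfl
    intro i
    induction i with
    | zero => simp
    | succ i ih =>
      have hle := sup_le_sup_right (hdec i) H
      refine Subgroup.IsSubnormal.step _ _ hle ih ?_
      rw [Subgroup.normal_subgroupOf_iff_le_normalizer hle]
      have hs : (fun L : Subgroup G => ⁅L, H⁆)^[i + 1] ⊤ =
          ⁅(fun L : Subgroup G => ⁅L, H⁆)^[i] ⊤, H⁆ := Function.iterate_succ_apply' _ _ _
      rw [hs]
      set D := (fun L : Subgroup G => ⁅L, H⁆)^[i] ⊤
      refine sup_le (fun d hd => ?_) (le_sup_right.trans Subgroup.le_normalizer)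
      have key : ∀ d ∈ D, ∀ x ∈ ⁅D, H⁆ ⊔ H, d * x * d⁻¹ ∈ ⁅D, H⁆ ⊔ H := by
        intro d hd x hx
        have : ⁅D, H⁆ ⊔ H ≤ (⁅D, H⁆ ⊔ H).comap (MulAut.conj d).toMonoidHom := by
          refine sup_le (Subgroup.commutator_le.2 fun a ha h hh => ?_) fun h hh => ?_
          · show d * ⁅a, h⁆ * d⁻¹ ∈ ⁅D, H⁆ ⊔ H
            rw [show d * ⁅a, h⁆ * d⁻¹ = ⁅d * a, h⁆ * ⁅d, h⁆⁻¹ by
              simp only [commutatorElement_def]; group]
            exact Subgroup.mem_sup_left (mul_mem (Subgroup.commutator_mem_commutator (mul_mem hd ha) hh)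
              (inv_mem (Subgroup.commutator_mem_commutator hd hh)))
          · show d * h * d⁻¹ ∈ ⁅D, H⁆ ⊔ H
            rw [show d * h * d⁻¹ = ⁅d, h⁆ * h by simp only [commutatorElement_def]; group]
            exact mul_mem (Subgroup.mem_sup_left (Subgroup.commutator_mem_commutator hd hh))
              (Subgroup.mem_sup_right hh)
        simpa using this hx
      rw [Subgroup.mem_normalizer_iff]
      intro x
      refine ⟨key d hd x, fun hx => ?_⟩
      have := key d⁻¹ (inv_mem hd) _ hx
      simpa [mul_assoc] using this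

end Cfsg.Agent.S0567
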