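import Cfsg.Statements.S0568
import Cfsg.Agent.Lib.Perm.System
import Mathlib.GroupTheory.PGroup

set_option autoImplicit false
open Cfsg

namespace Cfsg.Agent.S0568

open scoped commutatorElement Pointwise

/-- Let D be the system normalizer of a Hall complement system of a finite solvable group G, and let A < B be normal subgroups with no normal subgroup of G strictly between them (a chief factor). If G centralizes B modulo A then B ≤ A ⊔ D (D covers the factor); otherwise B ∩ D ≤ A (D avoids it). -/
theorem result {G : Type*} [Group G] [Finite G] [Group.IsSolvable G] (K : Nat.Primes → Subgroup G) (hK : Cfsg.IsComplementSystem K) (A B : Subgroup G) [A.Normal] [B.Normal] (hAB : A < B) (hchief : ∀ N : Subgroup G, N.Normal → A ≤ N → N ≤ B → N = A ∨ N = B) : (⁅B, (⊤ : Subgroup G)⁆ ≤ A → B ≤ A ⊔ Cfsg.systemNormalizer K) ∧ (¬ ⁅B, (⊤ : Subgroup G)⁆ ≤ A → B ⊓ Cfsg.systemNormalizer K ≤ A) := by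
  set f := QuotientGroup.mk' A
  have hfs := QuotientGroup.mk'_surjective A
  set Bb := B.map f
  haveI : Bb.Normal := Subgroup.Normal.map inferInstance f hfs
  have hkerB : ∀ x, f x = 1 → x ∈ A := fun x hx => (QuotientGroup.eq_one_iff x).1 hx
  have hBb : Cfsg.Agent.Perm.IsMinNormal Bb := by
    refine ⟨inferInstance, fun h => hAB.not_ge ?_, fun L hL hLB => ?_⟩
    · have := (Subgroup.map_eq_bot_iff _).1 h
      rwa [QuotientGroup.ker_mk'] at this
    · have h1 : A ≤ L.comap f := fun x hx => by
        show f x ∈ L
        rw [show f x = 1 from (QuotientGroup.eq_one_iff x).2 hx]; exact one_mem _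
      have h2 : L.comap f ≤ B := by
        refine (Subgroup.comap_mono hLB).trans ?_
        rw [Subgroup.comap_map_eq, QuotientGroup.ker_mk', sup_eq_left.2 hAB.le]
      rcases hchief (L.comap f) inferInstance h1 h2 with h | h
      · left
        rw [← Subgroup.map_comap_eq_self_of_surjective hfs L, h, Subgroup.map_eq_bot_iff, QuotientGroup.ker_mk']
      · right
        rw [← Subgroup.map_comap_eq_self_of_surjective hfs L, h]
  have hDmap := Cfsg.Agent.Perm.map_systemNormalizer hK A
  set K' : Nat.Primes → Subgroup (G ⧸ A) := fun p => (K p).map f with hK'def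
  have hK' : Cfsg.IsComplementSystem K' := Cfsg.Agent.Perm.isComplementSystem_map hK A
  constructor
  · intro hcen b hb
    have h1 : f b ∈ Cfsg.systemNormalizer K' := by
      rw [Cfsg.Agent.Perm.mem_systemNormalizer]
      intro p
      ext y
      rw [Cfsg.Agent.Solv.mem_conj_smul]
      obtain ⟨g, rfl⟩ := hfs y
      have : f b * f g = f g * f b := by
        rw [← commutatorElement_eq_one_iff_mul_comm, ← map_commutatorElement]
        exact (QuotientGroup.eq_one_iff _).2 (hcen (Subgroup.commutator_mem_commutator hb trivial))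
      rw [mul_assoc, ← this, inv_mul_cancel_left]
    rw [hDmap] at h1
    obtain ⟨d, hd, e⟩ := h1
    have : b * d⁻¹ ∈ A := hkerB _ (by rw [map_mul, map_inv, e, mul_inv_cancel])
    have h2 := mul_mem (Subgroup.mem_sup_left (T := Cfsg.systemNormalizer K) this) (Subgroup.mem_sup_right (S := A) hd)
    simpa using h2
  · intro hecc
    obtain ⟨p, hp, -, hBp, k, hk, hpk⟩ := hBb.exists_prime (hBb.isMulCommutative inferInstance)
    haveI := Fact.mk hp
    set C := Subgroup.centralizer (Bb : Set (G ⧸ A)) with hC
    have hCtop : C ≠ ⊤ := by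
      intro e
      refine hecc ?_
      rw [Subgroup.commutator_le]
      intro b hb g _
      apply hkerB
      rw [map_commutatorElement, commutatorElement_eq_one_iff_mul_comm]
      have : f g ∈ C := by rw [e]; trivial
      exact Subgroup.mem_centralizer_iff.1 this _ ⟨b, hb, rfl⟩
    haveI : Nontrivial ((G ⧸ A) ⧸ C) := QuotientGroup.nontrivial_iff.2 hCtop
    obtain ⟨R, hR⟩ := Cfsg.Agent.Perm.exists_isMinNormal (G := (G ⧸ A) ⧸ C)
    haveI := hR.1
    obtain ⟨q, hq, -, -, l, hl, hql⟩ := hR.exists_prime (hR.isMulCommutative inferInstance)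
    set R' := R.comap (QuotientGroup.mk' C) with hR'
    haveI : R'.Normal := inferInstance
    have hCR : C ≤ R' := fun x hx => by
      show QuotientGroup.mk' C x ∈ R
      rw [QuotientGroup.mk'_apply, (QuotientGroup.eq_one_iff x).2 hx]; exact one_mem _
    have hX : Bb ⊓ Subgroup.centralizer (R' : Set (G ⧸ A)) = ⊥ := by
      refine (hBb.2.2 _ inferInstance inf_le_left).resolve_right fun h => hR.2.1 ?_
      rw [inf_eq_left, Subgroup.le_centralizer_iff] at h
      rw [← Subgroup.map_comap_eq_self_of_surjective (QuotientGroup.mk'_surjective C) R,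
        Subgroup.map_eq_bot_iff, QuotientGroup.ker_mk']
      exact h
    have hqp : q ≠ p := by
      intro e
      rw [e] at hql
      obtain ⟨S⟩ : Nonempty (Sylow p R') := inferInstance
      set S' := (S : Subgroup R').map R'.subtype with hS'
      have hgen : R' ≤ C ⊔ S' := by
        set J := C ⊔ S'
        rw [← Subgroup.relIndex_eq_one]
        have d1 : J.relIndex R' ∣ (S : Subgroup R').index := by
          have : S'.relIndex R' = (S : Subgroup R').index := by
            rw [Subgroup.relIndex, Subgroup.subgroupOf, hS',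
              Subgroup.comap_map_eq_self_of_injective R'.subtype_injective]
          rw [← this]
          exact Subgroup.relIndex_dvd_of_le_left R' le_sup_right
        have d2 : J.relIndex R' ∣ p ^ l := by
          refine (Subgroup.relIndex_dvd_of_le_left R' (le_sup_left : C ≤ J)).trans (dvd_of_eq ?_)
          have h1 := Subgroup.relIndex_mul_relIndex (⊥ : Subgroup (G ⧸ A)) C R' bot_le hCR
          rw [Subgroup.relIndex_bot_left, Subgroup.relIndex_bot_left, hR', Cfsg.Agent.Solv.card_comap_mk', hql] at h1
          rw [mul_comm (p ^ l)] at h1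
          exact Nat.eq_of_mul_eq_mul_left Nat.card_pos h1
        exact Nat.eq_one_of_dvd_coprimes ((hp.coprime_iff_not_dvd.2 S.not_dvd_index).pow_left l).symm d1 d2
      letI : MulAction S' Bb :=
        MulAction.compHom Bb ((MulAut.conjNormal : (G ⧸ A) →* MulAut Bb).comp S'.subtype)
      have hfix : MulAction.fixedPoints S' Bb = {(1 : Bb)} := by
        ext n
        rw [MulAction.mem_fixedPoints, Set.mem_singleton_iff]
        constructor
        · intro hn
          have h1 : (n : G ⧸ A) ∈ Bb ⊓ Subgroup.centralizer (R' : Set (G ⧸ A)) := by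
            refine ⟨n.2, ?_⟩
            refine (Subgroup.centralizer_le (show (R' : Set (G ⧸ A)) ⊆ ((C ⊔ S' : Subgroup (G ⧸ A)) : Set (G ⧸ A)) from hgen)) ?_
            rw [Subgroup.mem_centralizer_iff]
            intro y hy
            have : C ⊔ S' ≤ Subgroup.centralizer {(n : G ⧸ A)} := by
              refine sup_le (fun c hc => Subgroup.mem_centralizer_singleton_iff.2
                (Subgroup.mem_centralizer_iff.1 hc n n.2).symm) fun s hs => ?_
              have h := congrArg Subtype.val (hn ⟨s, hs⟩)
              change s * (n : G ⧸ A) * s⁻¹ = n at h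
              exact Subgroup.mem_centralizer_singleton_iff.2 (mul_inv_eq_iff_eq_mul.1 h)
            exact Subgroup.mem_centralizer_singleton_iff.1 (this hy)
          rw [hX, Subgroup.mem_bot] at h1
          exact Subtype.ext h1
        · rintro rfl s
          exact map_one (MulAut.conjNormal (s : G ⧸ A))
      have h1 := (S.2.map R'.subtype).card_modEq_card_fixedPoints Bb
      rw [hfix, show Nat.card ({(1 : Bb)} : Set Bb) = 1 by simp, hpk] at h1
      exact hp.not_dvd_one ((Nat.ModEq.dvd_iff h1 dvd_rfl).1 (dvd_pow_self p hk.ne'))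
    rintro b ⟨hb, hbD⟩
    apply hkerB
    have hfb : f b ∈ Cfsg.systemNormalizer K' := by rw [hDmap]; exact ⟨b, hbD, rfl⟩
    have hfB : f b ∈ Bb := ⟨b, hb, rfl⟩
    let P : Nat.Primes := ⟨p, hp⟩
    have hcKP : K' P ≤ Subgroup.centralizer {f b} := by
      intro y hy
      rw [Subgroup.mem_centralizer_singleton_iff, eq_comm, ← commutatorElement_eq_one_iff_mul_comm]
      have h1 : ⁅f b, y⁆ ∈ Bb := by
        rw [commutatorElement_def, mul_assoc, mul_assoc]
        exact mul_mem hfB (by rw [← mul_assoc]; exact Subgroup.Normal.conj_mem inferInstance _ (inv_mem hfB) y)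
      have h2 : ⁅f b, y⁆ ∈ K' P := by
        rw [commutatorElement_def]
        refine mul_mem ?_ (inv_mem hy)
        have := Subgroup.smul_mem_pointwise_smul y (MulAut.conj (f b)) (K' P) hy
        rw [Cfsg.Agent.Perm.mem_systemNormalizer.1 hfb P] at this
        exact this
      have hpd : p ∣ Nat.card (G ⧸ A) :=
        (dvd_pow_self p hk.ne').trans (hpk ▸ Subgroup.card_subgroup_dvd_card Bb)
      have hco := Cfsg.Agent.Perm.coprime_card_index hK' P
      rw [hK' P] at hco
      have hco' : (Nat.card Bb).Coprime (Nat.card (K' P)) := by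
        rw [hpk]
        exact Nat.Coprime.pow_left k ((Nat.coprime_pow_right_iff
          (hp.factorization_pos_of_dvd Nat.card_pos.ne' hpd) _ _).1 hco).symm
      exact Subgroup.mem_bot.1 (Cfsg.Agent.Solv.coprime_inf hco' ▸ ⟨h1, h2⟩)
    have hRle : R' ≤ C ⊔ K' P := by
      have h1 : R ≤ (K' P).map (QuotientGroup.mk' C) := by
        refine Cfsg.Agent.Solv.normal_le_of_coprime_index R _ ?_
        rw [hql]
        refine (Nat.Coprime.coprime_dvd_right (Subgroup.index_map_dvd _ (QuotientGroup.mk'_surjective C)) ?_)
        rw [hK' P]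
        exact Nat.Coprime.pow _ _ ((Nat.coprime_primes hq hp).2 hqp)
      refine (Subgroup.comap_mono h1).trans ?_
      rw [Subgroup.comap_map_eq, QuotientGroup.ker_mk', sup_comm]
    have h1 : f b ∈ Bb ⊓ Subgroup.centralizer (R' : Set (G ⧸ A)) := by
      refine ⟨hfB, Subgroup.mem_centralizer_iff.2 fun y hy => ?_⟩
      have : C ⊔ K' P ≤ Subgroup.centralizer {f b} :=
        sup_le (fun c hc => Subgroup.mem_centralizer_singleton_iff.2
          (Subgroup.mem_centralizer_iff.1 hc _ hfB).symm) hcKP
      exact Subgroup.mem_centralizer_singleton_iff.1 (this (hRle hy))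
    rwa [hX, Subgroup.mem_bot] at h1

end Cfsg.Agent.S0568
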