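import Cfsg.Statements.S0569
import Cfsg.Agent.Lib.Perm.Carter

set_option autoImplicit false
open Cfsg

namespace Cfsg.Agent.S0569

open scoped Pointwise

/-- In a finite solvable group: each nilpotent self-normalizing subgroup contains the system normalizer of some Hall complement system, and the system normalizer of any Hall complement system lies in some nilpotent self-normalizing subgroup. -/
theorem result {G : Type*} [Group G] [Finite G] [Group.IsSolvable G] : (∀ C : Subgroup G, Cfsg.IsCarterSubgroup C → ∃ K : Nat.Primes → Subgroup G, Cfsg.IsComplementSystem K ∧ Cfsg.systemNormalizer K ≤ C) ∧ ∀ K : Nat.Primes → Subgroup G, Cfsg.IsComplementSystem K → ∃ C : Subgroup G, Cfsg.IsCarterSubgroup C ∧ Cfsg.systemNormalizer K ≤ C := by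
  constructor
  · intro C hC
    obtain ⟨K, hK, hred⟩ := Cfsg.Agent.Perm.exists_reducing_system inferInstance C
    exact ⟨K, hK, Cfsg.Agent.Perm.systemNormalizer_le_of_reduces inferInstance hK hC hred⟩
  · intro K hK
    obtain ⟨C, hC⟩ := Cfsg.Agent.Perm.exists_carter (G := G) inferInstance
    obtain ⟨K', hK', hred⟩ := Cfsg.Agent.Perm.exists_reducing_system inferInstance C
    obtain ⟨g, hg⟩ := Cfsg.Agent.Perm.exists_conj_system hK' hK
    refine ⟨_, Cfsg.Agent.Perm.isCarterSubgroup_conj hC g, fun x hx => ?_⟩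
    rw [Cfsg.Agent.Solv.mem_conj_smul]
    refine Cfsg.Agent.Perm.systemNormalizer_le_of_reduces inferInstance hK' hC hred
      (Cfsg.Agent.Perm.mem_systemNormalizer.2 fun p => ?_)
    rw [← Cfsg.Agent.Solv.conj_smul_conj, ← Cfsg.Agent.Solv.conj_smul_conj g⁻¹ x, hg,
      Cfsg.Agent.Perm.mem_systemNormalizer.1 hx p, ← hg, Cfsg.Agent.Solv.conj_smul_conj, inv_mul_cancel,
      Cfsg.Agent.Solv.conj_one_smul]

end Cfsg.Agent.S0569
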