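import Cfsg.Statements.S0570
import Cfsg.Agent.Lib.Perm.Carter

set_option autoImplicit false
open Cfsg

namespace Cfsg.Agent.S0570

open scoped Pointwise

/-- Let G be a finite group with a nilpotent normal subgroup F such that G modulo F is nilpotent (nilpotent length at most two). Then a subgroup of G is a Carter subgroup if and only if it is the system normalizer of some Hall complement system. -/
theorem result {G : Type*} [Group G] [Finite G] (F : Subgroup G) [F.Normal] (hF : Group.IsNilpotent F) (hGF : Group.IsNilpotent (G ⧸ F)) (C : Subgroup G) : Cfsg.IsCarterSubgroup C ↔ ∃ K : Nat.Primes → Subgroup G, Cfsg.IsComplementSystem K ∧ C = Cfsg.systemNormalizer K := by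
  haveI : Group.IsSolvable G := (Group.isSolvable_iff_subgroup_quotient F).2
    ⟨by haveI := hF; infer_instance, by haveI := hGF; infer_instance⟩
  have main : ∀ (C : Subgroup G) (K : Nat.Primes → Subgroup G), Cfsg.IsCarterSubgroup C →
      Cfsg.IsComplementSystem K → Cfsg.Agent.Perm.Reduces K C → C = Cfsg.systemNormalizer K := by
    intro C K hC hK hred
    refine le_antisymm ?_ (Cfsg.Agent.Perm.systemNormalizer_le_of_reduces inferInstance hK hC hred)
    have hCF : C ⊔ F = ⊤ := by
      have h := congrArg (Subgroup.comap (QuotientGroup.mk' F))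
        (Cfsg.Agent.Perm.IsCarterSubgroup.eq_top (Cfsg.Agent.Perm.carter_map hC F) hGF)
      rwa [Subgroup.comap_map_eq, QuotientGroup.ker_mk', Subgroup.comap_top] at h
    refine le_iInf fun p => ?_
    haveI := Fact.mk p.2
    have hnd := Cfsg.Agent.Perm.not_dvd_card_of_system hK p
    obtain ⟨k, hk⟩ := hred p
    set W := F ⊓ (K p).normalCore with hWdef
    haveI : W.Normal := inferInstance
    have hW : W.relIndex F ∣ (p : ℕ) ^ (Nat.card F).factorization p := by
      have h1 : ∀ r : ℕ, r.Prime → r ∣ W.relIndex F → r = p := by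
        intro r hr hrd
        by_contra hne
        haveI := Fact.mk hr
        obtain ⟨R⟩ : Nonempty (Sylow r F) := inferInstance
        haveI hRn := Cfsg.Agent.Perm.sylow_normal_of_nilpotent hF R
        haveI := Sylow.characteristic_of_normal R hRn
        haveI hRG : ((R : Subgroup F).map F.subtype).Normal :=
          Cfsg.Agent.Solv.map_subtype_normal_of_characteristic F _
        have hRK : (R : Subgroup F).map F.subtype ≤ K p := by
          refine Cfsg.Agent.Solv.normal_le_of_coprime_index _ _ ?_
          rw [Cfsg.Agent.Solv.card_map_subtype, hK p]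
          obtain ⟨i, hi⟩ := IsPGroup.iff_card.1 R.2
          rw [hi]
          exact Nat.Coprime.pow _ _ ((Nat.coprime_primes hr p.2).2 hne)
        have hRW : (R : Subgroup F) ≤ W.subgroupOf F := fun x hx => by
          show (x : G) ∈ W
          exact ⟨x.2, Subgroup.normal_le_normalCore.2 hRK ⟨x, hx, rfl⟩⟩
        exact R.not_dvd_index (hrd.trans (Subgroup.index_dvd_of_le hRW))
      have h0 : W.relIndex F ≠ 0 := Subgroup.index_ne_zero_of_finite
      have h3 := Nat.eq_prime_pow_of_unique_prime_dvd h0 (fun {r} hr hrd => h1 r hr hrd)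
      have hd : W.relIndex F ∣ Nat.card F := Subgroup.relIndex_dvd_card W F
      rw [h3] at hd ⊢
      exact Nat.pow_dvd_pow _ ((p.2.pow_dvd_iff_le_factorization Nat.card_pos.ne').1 hd)
    -- `C` normalizes `K p`
    set J := (K p ⊓ C) ⊔ W
    have hJK : J ≤ K p := sup_le inf_le_left (inf_le_right.trans (Subgroup.normalCore_le _))
    haveI := hC.1
    have hCn : C ≤ Subgroup.normalizer ((K p ⊓ C : Subgroup G) : Set G) := by
      set Q := K p ⊓ C
      obtain ⟨P⟩ : Nonempty (Sylow p C) := inferInstance
      haveI := Cfsg.Agent.Perm.sylow_normal_of_nilpotent hC.1 P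
      have hcomm : (P : Subgroup C).map C.subtype ≤ Subgroup.centralizer (Q : Set G) := by
        rw [Subgroup.le_centralizer_iff]
        have h2 : (Subgroup.centralizer (((P : Subgroup C).map C.subtype : Subgroup G) : Set G)).subgroupOf Q = ⊤ := by
          refine Cfsg.Agent.Solv.eq_top_of_forall_sylow_le _ fun s hs => ?_
          haveI : Fact s.Prime := hs
          obtain ⟨S⟩ : Nonempty (Sylow s Q) := inferInstance
          refine ⟨S, fun x hx => ?_⟩
          by_cases hsp : s = p
          · have hbot : (S : Subgroup Q) = ⊥ := by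
              rw [← Subgroup.card_eq_one]
              obtain ⟨i, hi⟩ := IsPGroup.iff_card.1 S.2
              rcases Nat.eq_zero_or_pos i with h0 | h0
              · rw [hi, h0, pow_zero]
              · refine absurd ((((dvd_pow_self s h0.ne').trans
                  (hi ▸ Subgroup.card_subgroup_dvd_card _)).trans (Subgroup.card_dvd_of_le inf_le_left))) ?_
                rw [hsp]; exact hnd
            rw [hbot, Subgroup.mem_bot] at hx
            rw [hx]; exact one_mem _
          · exact Cfsg.Agent.Perm.commute_of_le_nilpotent hC.1 hsp (S.2.map Q.subtype) (P.2.map _)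
              ((Subgroup.map_subtype_le _).trans inf_le_right) (Subgroup.map_subtype_le _) ⟨x, hx, rfl⟩
        exact Subgroup.subgroupOf_eq_top.1 h2
      have hJ : C ≤ Q ⊔ (P : Subgroup C).map C.subtype := by
        rw [← Subgroup.relIndex_eq_one]
        refine Nat.eq_one_of_dvd_coprimes ((p.2.coprime_iff_not_dvd.2 P.not_dvd_index).pow_left k) ?_ ?_
        · refine (Subgroup.relIndex_dvd_of_le_left C le_sup_left).trans (dvd_of_eq ?_)
          rw [Subgroup.inf_relIndex_right, hk]
        · have : ((P : Subgroup C).map C.subtype).relIndex C = (P : Subgroup C).index := by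
            rw [Subgroup.relIndex, Subgroup.subgroupOf,
              Subgroup.comap_map_eq_self_of_injective C.subtype_injective]
          rw [← this]
          exact Subgroup.relIndex_dvd_of_le_left C le_sup_right
      exact hJ.trans (sup_le Subgroup.le_normalizer (hcomm.trans (Subgroup.centralizer_le_normalizer _)))
    have hCJ : C ≤ Subgroup.normalizer (J : Set G) := fun c hc => by
      refine Cfsg.Agent.Solv.mem_normalizer_of_conj_smul ?_
      rw [Subgroup.smul_sup, Cfsg.Agent.Solv.conj_smul_of_mem_normalizer (hCn hc),
        Subgroup.Normal.conj_smul_eq_self c W]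
    -- the index of `J` is a power of `p`
    set M := J ⊔ C
    have h1 : J.relIndex M ∣ J.relIndex C := by
      have hc := Cfsg.Agent.Solv.card_sup_mul_card_inf' J C hCJ
      have e1 : Nat.card J * J.relIndex M = Nat.card M := by
        have := Subgroup.relIndex_mul_relIndex (⊥ : Subgroup G) J M bot_le le_sup_left
        rwa [Subgroup.relIndex_bot_left, Subgroup.relIndex_bot_left] at this
      have e2 : Nat.card (J ⊓ C : Subgroup G) * J.relIndex C = Nat.card C := by
        have := Subgroup.relIndex_mul_relIndex (⊥ : Subgroup G) (J ⊓ C) C bot_le inf_le_right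
        rwa [Subgroup.relIndex_bot_left, Subgroup.relIndex_bot_left, Subgroup.inf_relIndex_right] at this
      rw [← e1, ← e2] at hc
      refine dvd_of_eq (Nat.eq_of_mul_eq_mul_left
        (Nat.mul_pos (Nat.card_pos (α := J)) (Nat.card_pos (α := (J ⊓ C : Subgroup G)))) ?_)
      calc _ = Nat.card J * J.relIndex M * Nat.card (J ⊓ C : Subgroup G) := by ring
        _ = _ := by rw [hc]; ring
    have h2 : J.relIndex C ∣ (p : ℕ) ^ k := by
      refine (Subgroup.relIndex_dvd_of_le_left C (le_sup_left : K p ⊓ C ≤ J)).trans (dvd_of_eq ?_)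
      rw [Subgroup.inf_relIndex_right, hk]
    have h3 : M.index ∣ W.relIndex F := by
      have htop : F ⊔ M = ⊤ := top_le_iff.1 (hCF.ge.trans (sup_le (le_sup_right.trans le_sup_right) le_sup_left))
      have : M.index = M.relIndex F := by
        have hc := Cfsg.Agent.Solv.card_sup_mul_card_inf F M
        rw [htop, Subgroup.card_top, ← M.card_mul_index] at hc
        have e2 : Nat.card (F ⊓ M : Subgroup G) * M.relIndex F = Nat.card F := by
          have := Subgroup.relIndex_mul_relIndex (⊥ : Subgroup G) (F ⊓ M) F bot_le inf_le_left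
          rwa [Subgroup.relIndex_bot_left, Subgroup.relIndex_bot_left, Subgroup.inf_relIndex_left] at this
        rw [← e2] at hc
        refine Nat.eq_of_mul_eq_mul_left
          (Nat.mul_pos (Nat.card_pos (α := M)) (Nat.card_pos (α := (F ⊓ M : Subgroup G)))) ?_
        calc _ = Nat.card M * M.index * Nat.card (F ⊓ M : Subgroup G) := by ring
          _ = _ := by rw [hc]; ring
      rw [this]
      exact Subgroup.relIndex_dvd_of_le_left F (le_sup_right.trans le_sup_left)
    have hJidx : J.index ∣ (p : ℕ) ^ (k + (Nat.card F).factorization p) := by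
      rw [← Subgroup.relIndex_mul_index (le_sup_left : J ≤ M), pow_add]
      exact mul_dvd_mul (h1.trans h2) (h3.trans hW)
    have heq : J = K p := by
      refine Subgroup.eq_of_le_of_card_ge hJK (Nat.le_of_dvd Nat.card_pos ?_)
      refine Nat.Coprime.dvd_of_dvd_mul_right
        ((((p.2.coprime_iff_not_dvd.2 hnd).symm).pow_right _).coprime_dvd_right hJidx) ?_
      rw [Subgroup.card_mul_index]
      exact Subgroup.card_subgroup_dvd_card _
    rw [← heq]
    exact hCJ
  constructor
  · intro hC
    obtain ⟨K, hK, hred⟩ := Cfsg.Agent.Perm.exists_reducing_system inferInstance C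
    exact ⟨K, hK, main C K hC hK hred⟩
  · rintro ⟨K, hK, rfl⟩
    obtain ⟨C, hC⟩ := Cfsg.Agent.Perm.exists_carter (G := G) inferInstance
    obtain ⟨K', hK', hred⟩ := Cfsg.Agent.Perm.exists_reducing_system inferInstance C
    obtain ⟨g, hg⟩ := Cfsg.Agent.Perm.exists_conj_system hK' hK
    have := main C K' hC hK' hred
    have heq : Cfsg.systemNormalizer K = MulAut.conj g • C := by
      rw [this]
      ext x
      rw [Cfsg.Agent.Solv.mem_conj_smul, Cfsg.Agent.Perm.mem_systemNormalizer, Cfsg.Agent.Perm.mem_systemNormalizer]
      refine forall_congr' fun p => ?_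
      rw [← hg p, ← Cfsg.Agent.Solv.conj_smul_conj (g⁻¹ * x) g, ← Cfsg.Agent.Solv.conj_smul_conj g⁻¹ x, map_inv]
      exact (inv_smul_eq_iff).symm
    rw [heq]
    exact Cfsg.Agent.Perm.isCarterSubgroup_conj hC g

end Cfsg.Agent.S0570
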