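import Cfsg.Statements.S0573
import Cfsg.Agent.S0572
import Cfsg.Agent.Lib.Perm.Carter
import Cfsg.Agent.Lib.Solv.Coprime
import Mathlib.GroupTheory.PGroup
import Mathlib.GroupTheory.Nilpotent

set_option autoImplicit false
open Cfsg

namespace Cfsg.Agent.S0573

open scoped commutatorElement Pointwise

variable {G : Type*} [Group G]

theorem swap (A B : Subgroup G) (hAB : ∀ g : G, ∃ a ∈ A, ∃ b ∈ B, g = a * b) :
    ∀ g : G, ∃ b ∈ B, ∃ a ∈ A, g = b * a := fun g => by
  obtain ⟨a, ha, b, hb, h⟩ := hAB g⁻¹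
  exact ⟨b⁻¹, B.inv_mem hb, a⁻¹, A.inv_mem ha, by rw [← mul_inv_rev, ← h, inv_inv]⟩

theorem comm_action {M : Subgroup G} (hM : ∀ τ ∈ commutator G, ∀ m ∈ M, τ * m = m * τ)
    [M.Normal] (g h : G) {m : G} (hm : m ∈ M) :
    g * (h * m * h⁻¹) * g⁻¹ = h * (g * m * g⁻¹) * h⁻¹ := by
  have h1 : h * (g * m * g⁻¹) * h⁻¹ ∈ M :=
    Subgroup.Normal.conj_mem inferInstance _ (Subgroup.Normal.conj_mem inferInstance m hm g) h
  have h2 := hM ⁅g, h⁆ (Subgroup.commutator_mem_commutator trivial trivial) _ h1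
  calc g * (h * m * h⁻¹) * g⁻¹ = (⁅g, h⁆ * (h * (g * m * g⁻¹) * h⁻¹)) * ⁅g, h⁆⁻¹ := by
        rw [commutatorElement_def]; group
    _ = h * (g * m * g⁻¹) * h⁻¹ := by rw [h2, mul_inv_cancel_right]

/-- No nontrivial element of `M` is centralized by `A`. -/
theorem fixed_eq_bot (A B : Subgroup G) [IsMulCommutative A] [IsMulCommutative B]
    (hAB : ∀ g : G, ∃ a ∈ A, ∃ b ∈ B, g = a * b) (hA : ∀ N : Subgroup G, N.Normal → N ≤ A → N = ⊥)
    (hB : ∀ N : Subgroup G, N.Normal → N ≤ B → N = ⊥) (M : Subgroup G) [M.Normal]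
    (hM : ∀ τ ∈ commutator G, ∀ m ∈ M, τ * m = m * τ) :
    ∀ x ∈ M, (∀ a ∈ A, a * x = x * a) → x = 1 := by
  let F : Subgroup G := M ⊓ Subgroup.centralizer (A : Set G)
  have hF : F.Normal := by
    refine ⟨fun x hx g => ?_⟩
    obtain ⟨a, ha, b, hb, rfl⟩ := hAB g
    have hy : ∀ a' ∈ A, a' * (b * x * b⁻¹) * a'⁻¹ = b * x * b⁻¹ := fun a' ha' => by
      rw [comm_action hM a' b hx.1, Subgroup.mem_centralizer_iff.1 hx.2 a' ha', mul_inv_cancel_right]
    rw [show a * b * x * (a * b)⁻¹ = a * (b * x * b⁻¹) * a⁻¹ by group, hy a ha]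
    exact ⟨Subgroup.Normal.conj_mem inferInstance x hx.1 b,
      Subgroup.mem_centralizer_iff.2 fun a' ha' => mul_inv_eq_iff_eq_mul.1 (hy a' ha')⟩
  have hFA : F ≤ A := by
    rintro x ⟨-, hxA⟩
    obtain ⟨a, ha, b, hb, rfl⟩ := hAB x
    have hcen : b ∈ Subgroup.center G := by
      rw [Subgroup.mem_center_iff]
      intro g
      obtain ⟨a', ha', b', hb', rfl⟩ := hAB g
      have h1 : a' * b = b * a' := by
        have e := Subgroup.mem_centralizer_iff.1 hxA a' ha'
        have e2 : a' * a = a * a' := congrArg Subtype.val (mul_comm' (⟨a', ha'⟩ : A) ⟨a, ha⟩)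
        have e3 : a * (a' * b) = a * (b * a') := by
          rw [← mul_assoc, ← e2, mul_assoc, e, mul_assoc]
        exact mul_left_cancel e3
      rw [mul_assoc, show b' * b = b * b' from congrArg Subtype.val (mul_comm' (⟨b', hb'⟩ : B) ⟨b, hb⟩),
        ← mul_assoc, h1, mul_assoc]
    have hn : (Subgroup.zpowers b).Normal := by
      refine ⟨fun n hn g => ?_⟩
      have hn' : n ∈ Subgroup.center G := Subgroup.zpowers_le.2 hcen hn
      rwa [Subgroup.mem_center_iff.1 hn' g, mul_inv_cancel_right]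
    have := hB _ hn (Subgroup.zpowers_le.2 hb)
    rw [Subgroup.zpowers_eq_bot] at this
    simpa [this] using ha
  intro x hx hxA
  have h1 : x ∈ F := ⟨hx, Subgroup.mem_centralizer_iff.2 hxA⟩
  rwa [hA F hF hFA, Subgroup.mem_bot] at h1

/-- `M` is generated by its commutators with `A`. -/
theorem le_commutator [Finite G] (A B : Subgroup G) [IsMulCommutative A] [IsMulCommutative B]
    (hAB : ∀ g : G, ∃ a ∈ A, ∃ b ∈ B, g = a * b) (hA : ∀ N : Subgroup G, N.Normal → N ≤ A → N = ⊥)
    (hB : ∀ N : Subgroup G, N.Normal → N ≤ B → N = ⊥) (M : Subgroup G) [M.Normal]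
    (hM : ∀ τ ∈ commutator G, ∀ m ∈ M, τ * m = m * τ) {p : ℕ} [Fact p.Prime] (hMp : IsPGroup p M) :
    M ≤ ⁅M, A⁆ := by
  have hp : p.Prime := Fact.out
  haveI : Group.IsSolvable A := Group.isSolvable_of_comm fun a b => mul_comm' a b
  obtain ⟨H0, hH0, hH0i⟩ := Cfsg.Agent.Perm.exists_hall_complement (G := A) inferInstance hp
  set H := H0.map A.subtype
  have hHA : H ≤ A := Subgroup.map_subtype_le _
  have hHM : H ≤ Subgroup.normalizer (M : Set G) := by
    rw [Subgroup.normalizer_eq_top_iff.2 inferInstance]; exact le_top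
  have hco : (Nat.card H).Coprime (Nat.card M) := by
    obtain ⟨k, hk⟩ := IsPGroup.iff_card.1 hMp
    rw [hk, Cfsg.Agent.Solv.card_map_subtype]
    exact ((hp.coprime_iff_not_dvd.2 hH0).symm).pow_right k
  have hsol : Group.IsSolvable H :=
    Group.isSolvable_of_isSolvable_injective (Subgroup.inclusion_injective hHA)
  have hfix : M ⊓ Subgroup.centralizer (H : Set G) = ⊥ := by
    by_contra hne
    set F := M ⊓ Subgroup.centralizer (H : Set G)
    obtain ⟨P⟩ : Nonempty (Sylow p A) := inferInstance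
    set P' := (P : Subgroup A).map A.subtype
    have hP'n : ∀ a ∈ P', ∀ x ∈ F, a * x * a⁻¹ ∈ F := by
      intro a ha x hx
      refine ⟨Subgroup.Normal.conj_mem inferInstance x hx.1 a, Subgroup.mem_centralizer_iff.2 fun h hh => ?_⟩
      refine mul_inv_eq_iff_eq_mul.1 ?_
      rw [comm_action hM h a hx.1, Subgroup.mem_centralizer_iff.1 hx.2 h hh, mul_inv_cancel_right]
    let act : MulAction P' F :=
      { smul := fun a x => ⟨(a : G) * x * (a : G)⁻¹, hP'n a a.2 x x.2⟩
        one_smul := fun x => Subtype.ext (by show ((1 : P') : G) * x * ((1 : P') : G)⁻¹ = x; simp)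
        mul_smul := fun a b x => Subtype.ext (by
          show ((a * b : P') : G) * x * ((a * b : P') : G)⁻¹ = (a : G) * ((b : G) * x * (b : G)⁻¹) * (a : G)⁻¹
          simp [mul_assoc]) }
    have h1 := (P.2.map A.subtype : IsPGroup p P').card_modEq_card_fixedPoints F
    have hpF : p ∣ Nat.card F := by
      obtain ⟨k, hk⟩ := IsPGroup.iff_card.1 (hMp.to_le (inf_le_left : F ≤ M))
      rcases Nat.eq_zero_or_pos k with h0 | h0
      · exact absurd (Subgroup.card_eq_one.1 (by rw [hk, h0, pow_zero])) hne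
      · exact hk ▸ dvd_pow_self p h0.ne'
    have hgen : ⊤ ≤ H0 ⊔ (P : Subgroup A) := by
      rw [← Subgroup.relIndex_eq_one, Subgroup.relIndex_top_right]
      exact Nat.eq_one_of_dvd_coprimes
        (((hp.coprime_iff_not_dvd.2 P.not_dvd_index).pow_left ((Nat.card A).factorization p)))
        (hH0i ▸ Subgroup.index_dvd_of_le le_sup_left) (Subgroup.index_dvd_of_le le_sup_right)
    have hsing : MulAction.fixedPoints P' F = {(1 : F)} := by
      ext x
      rw [MulAction.mem_fixedPoints, Set.mem_singleton_iff]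
      constructor
      · intro hx
        refine Subtype.ext (fixed_eq_bot A B hAB hA hB M hM x x.2.1 fun a ha => ?_)
        have : H0 ⊔ (P : Subgroup A) ≤ (Subgroup.centralizer {(x : G)}).comap A.subtype := by
          refine sup_le (fun h hh => ?_) fun h hh => ?_
          · exact Subgroup.mem_centralizer_singleton_iff.2
              (Subgroup.mem_centralizer_iff.1 x.2.2 h ⟨h, hh, rfl⟩)
          · exact Subgroup.mem_centralizer_singleton_iff.2
              (mul_inv_eq_iff_eq_mul.1 (congrArg Subtype.val (hx ⟨h, ⟨h, hh, rfl⟩⟩)))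
        exact Subgroup.mem_centralizer_singleton_iff.1 (this (hgen (Subgroup.mem_top ⟨a, ha⟩)))
      · rintro rfl a
        refine Subtype.ext ?_
        show (a : G) * ((1 : F) : G) * (a : G)⁻¹ = ((1 : F) : G)
        simp
    rw [hsing, show Nat.card ({(1 : F)} : Set F) = 1 by simp] at h1
    exact hp.not_dvd_one ((Nat.ModEq.dvd_iff h1 dvd_rfl).1 hpF)
  have := Cfsg.Agent.Solv.commutator_sup_fixed hHM hco (Or.inl hsol)
  rw [hfix, sup_bot_eq] at this
  exact this.ge.trans (Subgroup.commutator_mono le_rfl hHA)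

theorem no_module [Finite G] (A B : Subgroup G) [IsMulCommutative A] [IsMulCommutative B]
    (hAB : ∀ g : G, ∃ a ∈ A, ∃ b ∈ B, g = a * b) (hA : ∀ N : Subgroup G, N.Normal → N ≤ A → N = ⊥)
    (hB : ∀ N : Subgroup G, N.Normal → N ≤ B → N = ⊥) {p : ℕ} [Fact p.Prime] (M : Subgroup G) [M.Normal]
    (hMp : IsPGroup p M) (hM1 : M ≠ ⊥) (hM : ∀ τ ∈ commutator G, ∀ m ∈ M, τ * m = m * τ)
    (hk : ∃ k : ℕ, p.Coprime k ∧ ∀ τ ∈ commutator G, τ ^ k ∈ M) : False := by
  have cA : ∀ x ∈ A, ∀ y ∈ A, x * y = y * x := fun x hx y hy =>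
    congrArg Subtype.val (mul_comm' (⟨x, hx⟩ : A) ⟨y, hy⟩)
  have cB : ∀ x ∈ B, ∀ y ∈ B, x * y = y * x := fun x hx y hy =>
    congrArg Subtype.val (mul_comm' (⟨x, hx⟩ : B) ⟨y, hy⟩)
  have hdis : A ⊓ B = ⊥ := by
    refine hA _ ⟨fun x hx g => ?_⟩ inf_le_left
    obtain ⟨a, ha, b, hb, rfl⟩ := hAB g
    rw [show a * b * x * (a * b)⁻¹ = a * (b * x * b⁻¹) * a⁻¹ by group, cB b hb x hx.2,
      mul_inv_cancel_right, cA a ha x hx.1, mul_inv_cancel_right]
    exact hx
  set A1 := A ⊓ (M ⊔ B)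
  have hform : ∀ α ∈ A1, ∃ m ∈ M, ∃ β ∈ B, m * β = α := by
    intro α hα
    have := (Subgroup.mem_inf.1 hα).2
    rwa [Subgroup.mem_sup_of_normal_left] at this
  have hsurj : ∀ m ∈ M, ∃ α ∈ A1, ∃ β ∈ B, m * β = α := by
    intro m hm
    obtain ⟨a, ha, b, hb, e⟩ := hAB m
    have ea : a = m * b⁻¹ := by rw [e, mul_inv_cancel_right]
    exact ⟨a, ⟨ha, ea ▸ mul_mem (Subgroup.mem_sup_left hm) (Subgroup.mem_sup_right (B.inv_mem hb))⟩,
      b⁻¹, B.inv_mem hb, ea.symm⟩
  have hb_act : ∀ b ∈ B, ∀ m ∈ M, ∀ β ∈ B, b * (m * β) * b⁻¹ = ⁅b, m⁆ * (m * β) := by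
    intro b hb m hm β hβ
    calc b * (m * β) * b⁻¹ = b * m * (β * b⁻¹) := by group
      _ = b * m * (b⁻¹ * β) := by rw [cB β hβ b⁻¹ (B.inv_mem hb)]
      _ = _ := by rw [commutatorElement_def]; group
  have hcomM : ∀ g : G, ∀ m ∈ M, ⁅g, m⁆ ∈ M := fun g m hm => by
    rw [commutatorElement_def]
    exact mul_mem (Subgroup.Normal.conj_mem inferInstance m hm g) (inv_mem hm)
  -- `M` is abelian
  have cM : ∀ x ∈ M, ∀ y ∈ M, x * y = y * x := by
    intro x hx y hy
    obtain ⟨k, hk1, hk2⟩ := hk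
    have : x ∈ commutator G := le_commutator A B hAB hA hB M hM hMp hx |> Subgroup.commutator_mono le_top le_top
    exact hM x this y hy
  set M0 := ⁅M, A1⁆
  haveI hM0n : M0.Normal := by
    have key : ∀ g : G, MulAut.conj g • M0 ≤ M0 := by
      intro g
      rw [Cfsg.Agent.Solv.conj_smul_eq_map, Subgroup.map_commutator, Subgroup.commutator_le]
      rintro _ ⟨m, hm, rfl⟩ _ ⟨α, hα, rfl⟩
      obtain ⟨a, ha, b, hb, rfl⟩ := hAB g
      obtain ⟨m', hm', β, hβ, e⟩ := hform α hα
      set c := a * ⁅b, m'⁆ * a⁻¹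
      have hc : c ∈ M := Subgroup.Normal.conj_mem inferInstance _ (hcomM b m' hm') a
      have hα' : (MulAut.conj (a * b)).toMonoidHom α = c * α := by
        show a * b * α * (a * b)⁻¹ = c * α
        rw [show a * b * α * (a * b)⁻¹ = a * (b * α * b⁻¹) * a⁻¹ by group, ← e, hb_act b hb m' hm' β hβ, e]
        calc a * (⁅b, m'⁆ * α) * a⁻¹ = a * ⁅b, m'⁆ * a⁻¹ * (a * α * a⁻¹) := by group
          _ = c * α := by rw [cA a ha α hα.1, mul_inv_cancel_right]
      have hn : (MulAut.conj (a * b)).toMonoidHom m ∈ M := Subgroup.Normal.conj_mem inferInstance m hm _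
      rw [hα']
      generalize (MulAut.conj (a * b)).toMonoidHom m = n at hn ⊢
      have h2 : ⁅n, α⁆ ∈ M := by
        rw [← commutatorElement_inv α n]; exact inv_mem (hcomM α n hn)
      have h3 : ⁅n, c * α⁆ = ⁅n, α⁆ := by
        calc ⁅n, c * α⁆ = (n * c) * α * n⁻¹ * α⁻¹ * c⁻¹ := by rw [commutatorElement_def]; group
          _ = c * ⁅n, α⁆ * c⁻¹ := by rw [cM n hn c hc, commutatorElement_def]; group
          _ = ⁅n, α⁆ := by rw [cM c hc _ h2, mul_inv_cancel_right]
      rw [h3]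
      exact Subgroup.commutator_mem_commutator hn hα
    refine ⟨fun x hx g => key g ?_⟩
    rw [Cfsg.Agent.Solv.mem_conj_smul]
    simpa [mul_assoc] using hx
  -- the main identity
  have hmain : ∀ a ∈ A, ∀ b ∈ B, ∀ m ∈ M, ⁅a, ⁅b, m⁆⁆ ∈ M0 := by
    intro a ha b hb m hm
    obtain ⟨α, hα, β, hβ, e⟩ := hsurj m hm
    set c := ⁅b, m⁆
    have hc : c ∈ M := hcomM b m hm
    set c' := ⁅b⁻¹, m⁆
    have hc' : c' ∈ M := hcomM _ m hm
    have e1 : b * α * b⁻¹ = c * α := by rw [← e]; exact hb_act b hb m hm β hβ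
    have e2 : b⁻¹ * α * b = c' * α := by
      have := hb_act b⁻¹ (B.inv_mem hb) m hm β hβ
      rwa [inv_inv, e] at this
    have e3 : a * α = α * a := cA a ha α hα.1
    set τ := ⁅a, b⁆
    have hτ : τ ∈ commutator G := Subgroup.commutator_mem_commutator trivial trivial
    set x := ⁅a, c⁆
    have hx : x ∈ M := hcomM a c hc
    have e4 : τ * α * τ⁻¹ = x * α := by
      calc τ * α * τ⁻¹ = a * (b * (a⁻¹ * (b⁻¹ * α * b) * a) * b⁻¹) * a⁻¹ := by
            simp only [τ, commutatorElement_def]; group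
        _ = a * (b * (a⁻¹ * c' * a) * b⁻¹) * a⁻¹ * (a * (b * (a⁻¹ * α * a) * b⁻¹) * a⁻¹) := by rw [e2]; group
        _ = b * (a * (a⁻¹ * c' * a) * a⁻¹) * b⁻¹ * (a * (b * α * b⁻¹) * a⁻¹) := by
            rw [comm_action hM a b (by simpa using Subgroup.Normal.conj_mem inferInstance c' hc' a⁻¹)]
            congr 5
            rw [mul_assoc, ← e3, inv_mul_cancel_left]
        _ = c⁻¹ * (a * c * a⁻¹) * (a * α * a⁻¹) := by
            rw [e1]; simp only [c', c, commutatorElement_def]; group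
        _ = x * α := by
            rw [e3, mul_inv_cancel_right, cM _ (inv_mem hc) _ (Subgroup.Normal.conj_mem inferInstance c hc a)]
            rfl
    have e5 : ∀ n : ℕ, τ ^ n * α * (τ ^ n)⁻¹ = x ^ n * α := by
      intro n
      induction n with
      | zero => simp
      | succ n ih =>
        have hxn : τ * x ^ n = x ^ n * τ := hM τ hτ _ (pow_mem hx n)
        calc τ ^ (n + 1) * α * (τ ^ (n + 1))⁻¹ = τ * (τ ^ n * α * (τ ^ n)⁻¹) * τ⁻¹ := by
              rw [pow_succ']; group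
          _ = (τ * x ^ n) * α * τ⁻¹ := by rw [ih]; group
          _ = x ^ n * (τ * α * τ⁻¹) := by rw [hxn]; group
          _ = x ^ (n + 1) * α := by rw [e4, pow_succ, mul_assoc]
    obtain ⟨k, hk1, hk2⟩ := hk
    have h1 : x ^ k ∈ M0 := by
      have h := Subgroup.commutator_mem_commutator (hk2 τ hτ) hα
      rw [commutatorElement_def, e5 k, mul_inv_cancel_right] at h
      exact h
    obtain ⟨i, hi⟩ := IsPGroup.iff_orderOf.1 hMp ⟨x, hx⟩
    rw [Subgroup.orderOf_mk] at hi
    obtain ⟨j, hj⟩ := exists_pow_eq_self_of_coprime (n := k) (x := x) (hi ▸ hk1.symm.pow_right i)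
    rw [← hj]
    exact pow_mem h1 j
  -- hence `M = M0`
  have hle : M ≤ M0 := by
    refine (le_commutator A B hAB hA hB M hM hMp).trans (Subgroup.commutator_le.2 fun m hm a ha => ?_)
    have hS : ⁅M, B⁆ ≤ (Subgroup.centralizer {(a : G ⧸ M0)}).comap (QuotientGroup.mk' M0) := by
      refine Subgroup.commutator_le.2 fun m hm b hb => ?_
      rw [Subgroup.mem_comap, Subgroup.mem_centralizer_singleton_iff, ← commutatorElement_inv b m, map_inv]
      have h : Commute (a : G ⧸ M0) (QuotientGroup.mk' M0 ⁅b, m⁆) := by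
        rw [← commutatorElement_eq_one_iff_commute]
        show ⁅QuotientGroup.mk' M0 a, QuotientGroup.mk' M0 ⁅b, m⁆⁆ = 1
        rw [← map_commutatorElement]
        exact (QuotientGroup.eq_one_iff _).2 (hmain a ha b hb m hm)
      exact h.inv_right.symm.eq
    have h2 := hS (le_commutator B A (swap A B hAB) hB hA M hM hMp hm)
    rw [Subgroup.mem_comap, Subgroup.mem_centralizer_singleton_iff] at h2
    rw [← QuotientGroup.eq_one_iff]
    show QuotientGroup.mk' M0 ⁅m, a⁆ = 1
    rw [map_commutatorElement, commutatorElement_eq_one_iff_commute]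
    exact h2
  -- contradiction with nilpotency
  have hA1p : IsPGroup p A1 := by
    let emb := Subgroup.quotientSubgroupOfEmbeddingOfLE B (inf_le_right : A1 ≤ M ⊔ B)
    have hs : Function.Surjective emb := by
      intro q
      induction q using QuotientGroup.induction_on with
      | H y =>
        obtain ⟨y, hy⟩ := y
        obtain ⟨a, ha, b, hb, e⟩ := hAB y
        have ea : a = y * b⁻¹ := by rw [e, mul_inv_cancel_right]
        have ha1 : a ∈ A1 := ⟨ha, ea ▸ mul_mem hy (Subgroup.mem_sup_right (B.inv_mem hb))⟩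
        refine ⟨QuotientGroup.mk ⟨a, ha1⟩, ?_⟩
        rw [Subgroup.quotientSubgroupOfEmbeddingOfLE_apply_mk, QuotientGroup.eq, Subgroup.mem_subgroupOf]
        simpa [e] using hb
    have hcard : B.relIndex A1 = B.relIndex (M ⊔ B) := Nat.card_eq_of_bijective _ ⟨emb.injective, hs⟩
    rw [← Subgroup.inf_relIndex_right B A1, show B ⊓ A1 = ⊥ from
      eq_bot_iff.2 ((le_inf (inf_le_right.trans inf_le_left) inf_le_left).trans hdis.le),
      Subgroup.relIndex_bot_left] at hcard
    have e2 : Nat.card B * B.relIndex (M ⊔ B) = Nat.card (M ⊔ B : Subgroup G) := by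
      have := Subgroup.relIndex_mul_relIndex (⊥ : Subgroup G) B (M ⊔ B) bot_le le_sup_right
      rwa [Subgroup.relIndex_bot_left, Subgroup.relIndex_bot_left] at this
    have hc := Cfsg.Agent.Solv.card_sup_mul_card_inf M B
    rw [← e2, ← hcard] at hc
    have hdvd : Nat.card A1 ∣ Nat.card M := by
      refine Dvd.intro (Nat.card (M ⊓ B : Subgroup G)) (Nat.eq_of_mul_eq_mul_left (Nat.card_pos (α := B)) ?_)
      rw [← mul_assoc, hc, mul_comm]
    obtain ⟨i, hi⟩ := IsPGroup.iff_card.1 hMp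
    obtain ⟨j, -, hj⟩ := (Nat.dvd_prime_pow (Fact.out : p.Prime)).1 (hi ▸ hdvd)
    exact IsPGroup.of_card hj
  set P := M ⊔ A1
  haveI : Group.IsNilpotent P := (hMp.to_sup_of_normal_left hA1p).isNilpotent
  have hall : ∀ n, M ≤ ((⊤ : Subgroup P).lowerCentralSeries n).map P.subtype := by
    intro n
    induction n with
    | zero =>
      rw [Subgroup.lowerCentralSeries_zero, ← MonoidHom.range_eq_map, Subgroup.range_subtype]
      exact le_sup_left
    | succ n ih =>
      rw [Subgroup.lowerCentralSeries_succ, Subgroup.map_commutator, ← MonoidHom.range_eq_map, Subgroup.range_subtype]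
      exact hle.trans (Subgroup.commutator_mono ih le_sup_right)
  obtain ⟨n, hn⟩ := Subgroup.nilpotent_iff_lowerCentralSeries.1 (inferInstance : Group.IsNilpotent P)
  have := hall n
  rw [hn, Subgroup.map_bot] at this
  exact hM1 (eq_bot_iff.2 this)

open scoped commutatorElement

/-- If a nontrivial finite group G is the product AB of abelian subgroups A and B, then some nontrivial normal subgroup of G is contained in A or in B. -/
theorem result {G : Type*} [Group G] [Finite G] [Nontrivial G] (A B : Subgroup G) [IsMulCommutative A] [IsMulCommutative B] (hAB : ∀ g : G, ∃ a ∈ A, ∃ b ∈ B, g = a * b) : ∃ N : Subgroup G, N.Normal ∧ N ≠ ⊥ ∧ (N ≤ A ∨ N ≤ B) := by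
  by_contra hcon
  push Not at hcon
  have hA : ∀ N : Subgroup G, N.Normal → N ≤ A → N = ⊥ := fun N hN hle =>
    by_contra fun hne => (hcon N hN hne).1 hle
  have hB : ∀ N : Subgroup G, N.Normal → N ≤ B → N = ⊥ := fun N hN hle =>
    by_contra fun hne => (hcon N hN hne).2 hle
  by_cases hD : commutator G = ⊥
  · have hn : ∀ N : Subgroup G, N.Normal := fun N => Subgroup.Normal.of_commutator_le (G := G) (hD ▸ bot_le)
    have hA' := hA A (hn A) le_rfl
    have hB' := hB B (hn B) le_rfl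
    obtain ⟨x, hx⟩ := exists_ne (1 : G)
    obtain ⟨a, ha, b, hb, rfl⟩ := hAB x
    rw [hA', Subgroup.mem_bot] at ha
    rw [hB', Subgroup.mem_bot] at hb
    exact hx (by rw [ha, hb, one_mul])
  set D := commutator G with hDdef
  have hDc : ∀ x ∈ D, ∀ y ∈ D, x * y = y * x := by
    have h := Cfsg.Agent.S0572.result A B hAB
    rw [derivedSeries_succ, derivedSeries_one, Subgroup.commutator_eq_bot_iff_le_centralizer] at h
    exact fun x hx y hy => (Subgroup.mem_centralizer_iff.1 (h hx) y hy).symm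
  obtain ⟨p, hp, hpd⟩ := Nat.exists_prime_and_dvd (fun h => hD (Subgroup.card_eq_one.1 h))
  haveI := Fact.mk hp
  haveI : IsMulCommutative D := ⟨⟨fun a b => Subtype.ext (hDc a a.2 b b.2)⟩⟩
  obtain ⟨P⟩ : Nonempty (Sylow p D) := inferInstance
  haveI hPn : (P : Subgroup D).Normal := ⟨fun n hn g => by
    rwa [mul_comm' g n, mul_inv_cancel_right]⟩
  haveI := Sylow.characteristic_of_normal P hPn
  haveI hMn : ((P : Subgroup D).map D.subtype).Normal :=
    Cfsg.Agent.Solv.map_subtype_normal_of_characteristic D _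
  refine no_module A B hAB hA hB (p := p) ((P : Subgroup D).map D.subtype) (P.2.map _) ?_ ?_
    ⟨(P : Subgroup D).index, hp.coprime_iff_not_dvd.2 P.not_dvd_index, fun τ hτ => ?_⟩
  · intro h
    have h1 := (Subgroup.map_eq_bot_iff_of_injective _ D.subtype_injective).1 h
    have h2 := P.card_eq_multiplicity
    rw [h1, Subgroup.card_bot] at h2
    exact (Nat.one_lt_pow (hp.factorization_pos_of_dvd Nat.card_pos.ne' hpd).ne' hp.one_lt).ne h2
  · exact fun τ hτ m hm => hDc τ hτ m (Subgroup.map_subtype_le _ hm)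
  · exact ⟨⟨τ, hτ⟩ ^ (P : Subgroup D).index, Subgroup.pow_index_mem _ _, by simp⟩

end Cfsg.Agent.S0573
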