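import Cfsg.Statements.S0571
import Cfsg.Agent.S0573
import Cfsg.Agent.Lib.Perm.Supersolvable

set_option autoImplicit false
open Cfsg

namespace Cfsg.Agent.S0571

universe u

theorem aux : ∀ (n : ℕ) {G : Type u} [Group G] [Finite G], Nat.card G = n → ∀ A B : Subgroup G,
    IsCyclic A → IsCyclic B → (∀ g : G, ∃ a ∈ A, ∃ b ∈ B, g = a * b) → Cfsg.IsSupersolvable G := by
  intro n
  induction n using Nat.strong_induction_on with
  | _ n ih =>
    intro G _ _ hn A B hA hB hAB
    subst hn
    rcases subsingleton_or_nontrivial G with hG | hG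
    · exact Perm.isSupersolvable_of_subsingleton
    haveI : IsMulCommutative A := IsCyclic.isMulCommutative
    haveI : IsMulCommutative B := IsCyclic.isMulCommutative
    obtain ⟨N, hN, hN1, hNle⟩ := Cfsg.Agent.S0573.result A B hAB
    haveI := hN
    haveI : IsCyclic N := by
      rcases hNle with h | h
      · exact isCyclic_of_injective (Subgroup.inclusion h) (Subgroup.inclusion_injective h)
      · exact isCyclic_of_injective (Subgroup.inclusion h) (Subgroup.inclusion_injective h)
    refine Perm.isSupersolvable_of_cyclic_normal N ?_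
    refine ih _ (Cfsg.Agent.Solv.card_quotient_lt N hN1) rfl
      (A.map (QuotientGroup.mk' N)) (B.map (QuotientGroup.mk' N))
      (isCyclic_of_surjective _ ((QuotientGroup.mk' N).subgroupMap_surjective A))
      (isCyclic_of_surjective _ ((QuotientGroup.mk' N).subgroupMap_surjective B)) fun q => ?_
    obtain ⟨g, rfl⟩ := QuotientGroup.mk'_surjective N q
    obtain ⟨a, ha, b, hb, rfl⟩ := hAB g
    exact ⟨_, Subgroup.mem_map_of_mem _ ha, _, Subgroup.mem_map_of_mem _ hb, map_mul _ a b⟩

/-- If a finite group G is the product AB of two cyclic subgroups (every element is a product ab), then G is supersolvable. -/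
theorem result {G : Type*} [Group G] [Finite G] (A B : Subgroup G) [IsCyclic A] [IsCyclic B] (hAB : ∀ g : G, ∃ a ∈ A, ∃ b ∈ B, g = a * b) : Cfsg.IsSupersolvable G := by
  exact aux _ rfl A B inferInstance inferInstance hAB

end Cfsg.Agent.S0571
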