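import Cfsg.Statements.S0574
import Cfsg.Agent.Lib.Solv.AbelianClassTwo

set_option autoImplicit false
open Cfsg

namespace Cfsg.Agent.S0574

/-- Let the finite group G be the product AB of an abelian subgroup A and a subgroup B of nilpotency class at most two, and let Ω be the number of prime factors, with multiplicity, of the order of the commutator subgroup of B. Then the term of index 2(1 + Ω) of the derived series of G is trivial. -/
theorem result {G : Type*} [Group G] [Finite G] (A B : Subgroup G) [IsMulCommutative A] (hB : commutator ↥B ≤ Subgroup.center ↥B) (hAB : ∀ g : G, ∃ a ∈ A, ∃ b ∈ B, g = a * b) : derivedSeries G (2 * (1 + (Nat.card ↥(commutator ↥B)).primeFactorsList.length)) = ⊥ := by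
  have hc : (commutator B).map B.subtype = ⁅B, B⁆ := by
    rw [commutator_def, Subgroup.map_commutator, ← MonoidHom.range_eq_map, Subgroup.range_subtype]
  rw [← Solv.card_map_subtype (commutator B), hc]
  refine Solv.AbClassTwo.main _ G A B (fun a ha a' ha' => congrArg Subtype.val (mul_comm' (⟨a, ha⟩ : A) ⟨a', ha'⟩))
    (fun z hz b hb => ?_) hAB rfl
  rw [← hc] at hz
  obtain ⟨w, hw, rfl⟩ := hz
  exact congrArg Subtype.val ((Subgroup.mem_center_iff.1 (hB hw) ⟨b, hb⟩).symm)

end Cfsg.Agent.S0574
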