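import Cfsg.Statements.S0575
import Cfsg.Agent.Lib.Solv.Cores
import Mathlib.Tactic.Group

set_option autoImplicit false
open Cfsg

namespace Cfsg.Agent.S0575

open scoped Pointwise

/-- If H is a normal subgroup of a finite group G, then the Frattini subgroup of H, viewed in G, lies in the Frattini subgroup of G. -/
theorem result {G : Type*} [Group G] [Finite G] (H : Subgroup G) [H.Normal] : (frattini ↥H).map H.subtype ≤ frattini G := by
  haveI : ((frattini ↥H).map H.subtype).Normal :=
    Cfsg.Agent.Solv.map_subtype_normal_of_characteristic H _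
  refine le_iInf₂ fun M hM => ?_
  by_contra hle
  have htop : (frattini ↥H).map H.subtype ⊔ M = ⊤ :=
    hM.2 _ (lt_of_le_of_ne le_sup_right fun h => hle (h ▸ le_sup_left))
  have h2 : M.subgroupOf H ⊔ frattini ↥H = ⊤ := by
    rw [eq_top_iff]
    rintro ⟨h, hh⟩ -
    have : h ∈ (((frattini ↥H).map H.subtype ⊔ M : Subgroup G) : Set G) := by rw [htop]; trivial
    rw [Subgroup.normal_mul] at this
    obtain ⟨f, hf, m, hm, e⟩ := this
    obtain ⟨f', hf', rfl⟩ := Subgroup.mem_map.1 hf
    have hmH : m ∈ H := by
      have : m = (f' : G)⁻¹ * h := by rw [← e]; simp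
      rw [this]; exact H.mul_mem (H.inv_mem f'.2) hh
    have : (⟨h, hh⟩ : H) = f' * ⟨m, hmH⟩ := Subtype.ext e.symm
    rw [this]
    exact mul_mem (Subgroup.mem_sup_right hf') (Subgroup.mem_sup_left (by simpa [Subgroup.mem_subgroupOf] using hm))
  have h3 := frattini_nongenerating h2
  rw [Subgroup.subgroupOf_eq_top] at h3
  exact hle ((Subgroup.map_subtype_le _).trans h3)

end Cfsg.Agent.S0575
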