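import Cfsg.Statements.S0576
import Cfsg.Agent.Lib.Solv.Basic
import Mathlib.GroupTheory.Frattini

set_option autoImplicit false
open Cfsg

namespace Cfsg.Agent.S0576

/-- Let H be a normal subgroup of a finite group G with H contained in the Frattini subgroup of G. Then the group of inner automorphisms of H is contained in the Frattini subgroup of the automorphism group of H. -/
theorem result {G : Type*} [Group G] [Finite G] (H : Subgroup G) [H.Normal] (hH : H ≤ frattini G) : (MulAut.conj : ↥H →* MulAut ↥H).range ≤ frattini (MulAut ↥H) := by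
  let π : G →* MulAut H := MulAut.conjNormal
  set R := π.range
  set N := (MulAut.conj : ↥H →* MulAut ↥H).range
  have hHπ : ∀ h : H, π (h : G) = MulAut.conj h := fun h => MulEquiv.ext fun x => Subtype.ext (by simp [π])
  have hNR : N ≤ R := by
    rintro _ ⟨h, rfl⟩
    exact ⟨h, hHπ h⟩
  haveI hNn : N.Normal := by
    refine ⟨?_⟩
    rintro _ ⟨h, rfl⟩ φ
    exact ⟨φ h, MulEquiv.ext fun x => by simp [MulAut.conj_apply]⟩
  refine le_iInf₂ fun M hM => ?_
  by_contra hle
  have htop : N ⊔ M = ⊤ := hM.2 _ (lt_of_le_of_ne le_sup_right fun h => hle (h ▸ le_sup_left))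
  have hsup : (M.comap π) ⊔ frattini G = ⊤ := by
    rw [eq_top_iff]
    intro g _
    have hg : π g ∈ N ⊔ M := by rw [htop]; trivial
    rw [Subgroup.mem_sup_of_normal_left] at hg
    obtain ⟨_, ⟨h, rfl⟩, m, hm, e⟩ := hg
    have hx : ((h : G)⁻¹ * g) ∈ M.comap π := by
      rw [Subgroup.mem_comap, map_mul, map_inv, hHπ h, ← e, inv_mul_cancel_left]
      exact hm
    have := mul_mem (Subgroup.mem_sup_right (S := M.comap π) (hH h.2)) (Subgroup.mem_sup_left (T := frattini G) hx)
    simpa using this
  have h3 := frattini_nongenerating hsup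
  exact hle (hNR.trans fun y hy => by
    obtain ⟨g, rfl⟩ := hy
    exact (Subgroup.eq_top_iff' _).1 h3 g)

end Cfsg.Agent.S0576
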