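import Cfsg.Statements.S0577
import Cfsg.Agent.Lib.Perm.Schmidt
import Cfsg.Agent.Lib.Perm.Huppert
import Cfsg.Agent.S0575

set_option autoImplicit false
open Cfsg

namespace Cfsg.Agent.S0577

open scoped commutatorElement

/-- Let G be a finite minimal non-nilpotent group and Q a normal Sylow q-subgroup of G, and let D be the commutator subgroup of Q regarded in G (a normal subgroup). Then G modulo D is non-abelian and all its proper subgroups are abelian. -/
theorem result {G : Type*} [Group G] [Finite G] (hG : Cfsg.IsMinimalNonNilpotent G) (q : ℕ) [Fact q.Prime] (hq : q ∣ Nat.card G) (Q : Sylow q G) (hQ : (Q : Subgroup G).Normal) (D : Subgroup G) [D.Normal] (hD : D = (commutator ↥(Q : Subgroup G)).map (Q : Subgroup G).subtype) : ¬ IsMulCommutative (G ⧸ D) ∧ ∀ K : Subgroup (G ⧸ D), K ≠ ⊤ → IsMulCommutative K := by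
  obtain ⟨p, q', hp, hq', hne, P, Q', hc, hQ', hPQ, hPn⟩ := Cfsg.Agent.Perm.schmidt hG.2 hG.1
  haveI := Fact.mk hp
  haveI := Fact.mk hq'
  haveI := hQ
  have hidx : (Q' : Subgroup G).index = Nat.card (P : Subgroup G) := by
    haveI := hQ'
    have := Cfsg.Agent.Solv.card_sup_of_inf_eq_bot (Q' : Subgroup G) (P : Subgroup G)
      ((IsPGroup.disjoint_of_ne q' p hne.symm _ _ Q'.2 P.2).eq_bot)
    rw [sup_comm, hPQ, Subgroup.card_top, ← (Q' : Subgroup G).card_mul_index] at this
    exact Nat.eq_of_mul_eq_mul_left Nat.card_pos this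
  obtain ⟨j, hj⟩ := IsPGroup.iff_card.1 P.2
  obtain ⟨i, hi⟩ := IsPGroup.iff_card.1 Q'.2
  have hqq : q = q' := by
    rw [← (Q' : Subgroup G).card_mul_index, hidx, hi, hj] at hq
    rcases (Fact.out : q.Prime).dvd_mul.1 hq with h | h
    · exact (Nat.prime_dvd_prime_iff_eq Fact.out hq').1 ((Fact.out : q.Prime).dvd_of_dvd_pow h)
    · exfalso
      have := (Nat.prime_dvd_prime_iff_eq Fact.out hp).1 ((Fact.out : q.Prime).dvd_of_dvd_pow h)
      subst this
      obtain ⟨g, rfl⟩ := MulAction.exists_smul_eq G Q P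
      exact hPn (by rwa [Sylow.smul_eq_of_normal])
  subst hqq
  have hQQ : (Q' : Subgroup G) = (Q : Subgroup G) := by
    obtain ⟨g, rfl⟩ := MulAction.exists_smul_eq G Q Q'
    rw [Sylow.smul_eq_of_normal]
  rw [hQQ] at hidx hPQ
  haveI hQnil : Group.IsNilpotent (Q : Subgroup G) := Q.2.isNilpotent
  have hDΦ : D ≤ frattini G := by
    rw [hD]
    exact (Subgroup.map_mono Cfsg.Agent.Perm.commutator_le_frattini).trans (Cfsg.Agent.S0575.result _)
  set f := QuotientGroup.mk' D
  refine ⟨fun hab => hG.1 ?_, fun K hK => ?_⟩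
  · have hDtop : D ≤ ⊤ := le_top
    haveI : IsMulCommutative (G ⧸ D) := hab
    have hn : Group.IsNilpotent ((⊤ : Subgroup G).map (QuotientGroup.mk' D)) := by
      haveI : IsMulCommutative ((⊤ : Subgroup G).map (QuotientGroup.mk' D)) :=
        ⟨⟨fun a b => Subtype.ext (mul_comm' (a : G ⧸ D) b)⟩⟩
      open scoped IsMulCommutative in infer_instance
    haveI := Cfsg.Agent.Perm.isNilpotent_of_le_frattini (⊤ : Subgroup G) D hDtop hDΦ hn
    exact Group.nilpotent_of_mulEquiv Subgroup.topEquiv
  · set H := K.comap f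
    have hH : H ≠ ⊤ := fun e => hK (by
      rw [← Subgroup.map_comap_eq_self_of_surjective (QuotientGroup.mk'_surjective D) K]
      show H.map f = ⊤
      rw [e, Subgroup.map_top_of_surjective _ (QuotientGroup.mk'_surjective D)])
    have hHnil := hG.2 H hH
    obtain ⟨S⟩ : Nonempty (Sylow p H) := inferInstance
    set S' := (S : Subgroup H).map H.subtype with hS'
    have hS'p : IsPGroup p S' := S.2.map _
    have hS'c : IsMulCommutative S' := by
      obtain ⟨R, hR⟩ := hS'p.exists_le_sylow
      obtain ⟨g, hg⟩ := MulAction.exists_smul_eq G R P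
      haveI : IsCyclic (R : Subgroup G) :=
        isCyclic_of_surjective (R.equiv P).symm (R.equiv P).symm.surjective
      haveI : IsCyclic S' := isCyclic_of_injective (Subgroup.inclusion hR) (Subgroup.inclusion_injective hR)
      exact IsCyclic.isMulCommutative
    have hgen : H = (H ⊓ (Q : Subgroup G)) ⊔ S' := by
      refine le_antisymm ?_ (sup_le inf_le_left (Subgroup.map_subtype_le _))
      set J := (H ⊓ (Q : Subgroup G)) ⊔ S'
      rw [← Subgroup.relIndex_eq_one]
      have d1 : J.relIndex H ∣ (S : Subgroup H).index := by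
        have : S'.relIndex H = (S : Subgroup H).index := by
          rw [Subgroup.relIndex, Subgroup.subgroupOf, hS',
            Subgroup.comap_map_eq_self_of_injective H.subtype_injective]
        rw [← this]
        exact Subgroup.relIndex_dvd_of_le_left H le_sup_right
      have d2 : J.relIndex H ∣ p ^ j := by
        rw [← hj, ← hidx]
        refine (Subgroup.relIndex_dvd_of_le_left H (le_sup_left : _ ≤ J)).trans ?_
        rw [Subgroup.inf_relIndex_left]
        exact Subgroup.relIndex_dvd_index_of_normal _ _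
      exact Nat.eq_one_of_dvd_coprimes ((hp.coprime_iff_not_dvd.2 S.not_dvd_index).pow_left j).symm d1 d2
    have hKsup : K = (H ⊓ (Q : Subgroup G)).map f ⊔ S'.map f := by
      rw [← Subgroup.map_sup, ← hgen, Subgroup.map_comap_eq_self_of_surjective (QuotientGroup.mk'_surjective D)]
    have c1 : (H ⊓ (Q : Subgroup G)).map f ≤ Subgroup.centralizer ((H ⊓ (Q : Subgroup G)).map f : Set (G ⧸ D)) := by
      rw [← Subgroup.commutator_eq_bot_iff_le_centralizer, ← Subgroup.map_commutator, Subgroup.map_eq_bot_iff,
        QuotientGroup.ker_mk', hD, Subgroup.map_subtype_commutator]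
      exact Subgroup.commutator_mono inf_le_right inf_le_right
    have c2 : S'.map f ≤ Subgroup.centralizer (S'.map f : Set (G ⧸ D)) := by
      rw [← Subgroup.commutator_eq_bot_iff_le_centralizer, ← Subgroup.map_commutator,
        Subgroup.commutator_eq_bot_iff_le_centralizer.2
          (Subgroup.le_centralizer_iff_isMulCommutative.2 hS'c), Subgroup.map_bot]
    have c3 : (H ⊓ (Q : Subgroup G)).map f ≤ Subgroup.centralizer (S'.map f : Set (G ⧸ D)) := by
      rw [← Subgroup.commutator_eq_bot_iff_le_centralizer, ← Subgroup.map_commutator,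
        Subgroup.commutator_eq_bot_iff_le_centralizer.2 (Cfsg.Agent.Perm.commute_of_le_nilpotent hHnil
          hne.symm (Q.2.to_le inf_le_right) hS'p inf_le_left (Subgroup.map_subtype_le _)), Subgroup.map_bot]
    rw [← Subgroup.le_centralizer_iff_isMulCommutative, hKsup]
    refine sup_le (Subgroup.le_centralizer_iff.2 (sup_le ?_ ?_)) (Subgroup.le_centralizer_iff.2 (sup_le ?_ ?_))
    · exact c1
    · exact Subgroup.le_centralizer_iff.1 c3
    · exact c3
    · exact c2

end Cfsg.Agent.S0577
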