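import Cfsg.Statements.S0578
import Cfsg.Agent.Lib.Solv.Basic
import Mathlib.GroupTheory.Transfer
import Mathlib.GroupTheory.Sylow
import Mathlib.Tactic.Group

set_option autoImplicit false
open Cfsg

namespace Cfsg.Agent.S0578

open scoped commutatorElement

/-- If in a finite group the normalizer of each abelian subgroup coincides with its centralizer, then the group is abelian. -/
theorem result {G : Type*} [Group G] [Finite G] (h : ∀ A : Subgroup G, IsMulCommutative A → Subgroup.normalizer (A : Set G) = Subgroup.centralizer (A : Set G)) : IsMulCommutative G := by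
  have hab : ∀ (p : ℕ) [Fact p.Prime] (P : Sylow p G), IsMulCommutative (P : Subgroup G) := by
    intro p _ P
    by_contra hc
    have hne : Subgroup.center (P : Subgroup G) ≠ ⊤ := fun ht => hc ⟨⟨fun a b =>
      (Subgroup.mem_center_iff.1 ((Subgroup.eq_top_iff' _).1 ht b) a)⟩⟩
    haveI : Nontrivial ((P : Subgroup G) ⧸ Subgroup.center (P : Subgroup G)) :=
      QuotientGroup.nontrivial_iff.2 hne
    haveI := (P.2.to_quotient (Subgroup.center (P : Subgroup G))).center_nontrivial
    obtain ⟨⟨y, hy⟩, hy1⟩ := exists_ne
      (1 : Subgroup.center ((P : Subgroup G) ⧸ Subgroup.center (P : Subgroup G)))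
    obtain ⟨x, rfl⟩ := QuotientGroup.mk_surjective y
    have hxZ : x ∉ Subgroup.center (P : Subgroup G) := fun hx =>
      hy1 (Subtype.ext ((QuotientGroup.eq_one_iff x).2 hx))
    set A : Subgroup (P : Subgroup G) := Subgroup.center _ ⊔ Subgroup.zpowers x with hA
    have hconj : ∀ g n : (P : Subgroup G), n ∈ A → g * n * g⁻¹ ∈ A := by
      intro g n hn
      have : A ≤ A.comap (MulAut.conj g).toMonoidHom := by
        refine sup_le (fun z hz => ?_) (Subgroup.zpowers_le.2 ?_)
        · have : g * z * g⁻¹ = z := by rw [Subgroup.mem_center_iff.1 hz g, mul_inv_cancel_right]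
          exact Subgroup.mem_sup_left (by simpa [this] using hz)
        · have hz : x⁻¹ * (g * x * g⁻¹) ∈ Subgroup.center (P : Subgroup G) := by
            rw [← QuotientGroup.eq, QuotientGroup.mk_mul, QuotientGroup.mk_mul, QuotientGroup.mk_inv]
            rw [Subgroup.mem_center_iff.1 hy, mul_inv_cancel_right]
          have e : g * x * g⁻¹ = x * (x⁻¹ * (g * x * g⁻¹)) := by group
          show g * x * g⁻¹ ∈ A
          rw [e]
          exact A.mul_mem (Subgroup.mem_sup_right (Subgroup.mem_zpowers x)) (Subgroup.mem_sup_left hz)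
      simpa using this hn
    have hxc : A ≤ Subgroup.centralizer {x} := by
      refine sup_le (fun z hz => ?_) (Subgroup.zpowers_le.2 ?_)
      · exact Subgroup.mem_centralizer_singleton_iff.2 (Subgroup.mem_center_iff.1 hz x).symm
      · exact Subgroup.mem_centralizer_singleton_iff.2 rfl
    have hcA : A ≤ Subgroup.centralizer (A : Set (P : Subgroup G)) := by
      refine sup_le (fun z hz => ?_) (Subgroup.zpowers_le.2 ?_)
      · exact Subgroup.mem_centralizer_iff.2 fun a _ => Subgroup.mem_center_iff.1 hz a
      · exact Subgroup.mem_centralizer_iff.2 fun a ha => Subgroup.mem_centralizer_singleton_iff.1 (hxc ha)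
    have hAc : IsMulCommutative (A.map (P : Subgroup G).subtype) := by
      rw [← Subgroup.le_centralizer_iff_isMulCommutative]
      rintro - ⟨a, ha, rfl⟩
      rw [Subgroup.mem_centralizer_iff]
      rintro - ⟨b, hb, rfl⟩
      rw [← map_mul, ← map_mul, Subgroup.mem_centralizer_iff.1 (hcA ha) b hb]
    apply hxZ
    rw [Subgroup.mem_center_iff]
    intro g
    have hg : (g : G) ∈ Subgroup.normalizer ((A.map (P : Subgroup G).subtype : Subgroup G) : Set G) := by
      rw [Subgroup.mem_normalizer_iff]
      intro n
      constructor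
      · rintro ⟨a, ha, rfl⟩
        exact ⟨g * a * g⁻¹, hconj g a ha, rfl⟩
      · rintro ⟨a, ha, e⟩
        refine ⟨g⁻¹ * a * g⁻¹⁻¹, hconj g⁻¹ a ha, ?_⟩
        rw [map_mul, map_mul, e]
        simp [mul_assoc]
    rw [h _ hAc, Subgroup.mem_centralizer_iff] at hg
    exact Subtype.ext (hg x ⟨x, Subgroup.mem_sup_right (Subgroup.mem_zpowers x), rfl⟩).symm
  have hG' : commutator G = ⊥ := by
    rw [← Subgroup.card_eq_one]
    by_contra hne
    obtain ⟨p, hp, hpd⟩ := Nat.exists_prime_and_dvd hne
    haveI := Fact.mk hp
    obtain ⟨P⟩ : Nonempty (Sylow p G) := inferInstance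
    have hP := (h _ (hab p P)).le
    refine MonoidHom.not_dvd_card_ker_transferSylow P hP (hpd.trans (Subgroup.card_dvd_of_le ?_))
    rw [commutator_def, Subgroup.commutator_le]
    intro a _ b _
    haveI := hab p P
    rw [MonoidHom.mem_ker, map_commutatorElement, commutatorElement_eq_one_iff_commute]
    exact mul_comm' _ _
  refine ⟨⟨fun a b => ?_⟩⟩
  have : ⁅a, b⁆ ∈ commutator G := Subgroup.commutator_mem_commutator trivial trivial
  rw [hG', Subgroup.mem_bot] at this
  exact commutatorElement_eq_one_iff_mul_comm.1 this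

end Cfsg.Agent.S0578
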