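import Cfsg.Statements.S0581
import Cfsg.Agent.Lib.Perm.Carter
import Cfsg.Agent.Lib.Perm.Schmidt

set_option autoImplicit false
open Pointwise
open Cfsg

namespace Cfsg.Agent.S0581

open scoped Pointwise

variable {G : Type*} [Group G] [Finite G]

theorem centralizes {X R P : Subgroup G} (hX : Group.IsNilpotent X) {p : ℕ} [Fact p.Prime]
    (hR : R ≤ X) (hRp : ¬ p ∣ Nat.card R) (hP : P ≤ X) (hPp : IsPGroup p P) :
    P ≤ Subgroup.centralizer (R : Set G) := by
  rw [Subgroup.le_centralizer_iff]
  have h2 : (Subgroup.centralizer (P : Set G)).subgroupOf R = ⊤ := by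
    refine Cfsg.Agent.Solv.eq_top_of_forall_sylow_le _ fun s hs => ?_
    haveI : Fact s.Prime := hs
    obtain ⟨S⟩ : Nonempty (Sylow s R) := inferInstance
    refine ⟨S, fun x hx => ?_⟩
    rcases eq_or_ne s p with rfl | hsp
    · have hbot : (S : Subgroup R) = ⊥ := by
        rw [← Subgroup.card_eq_one]
        obtain ⟨i, hi⟩ := IsPGroup.iff_card.1 S.2
        rcases Nat.eq_zero_or_pos i with h0 | h0
        · rw [hi, h0, pow_zero]
        · exact absurd ((dvd_pow_self s h0.ne').trans (hi ▸ Subgroup.card_subgroup_dvd_card _)) hRp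
      rw [hbot, Subgroup.mem_bot] at hx
      rw [hx]; exact one_mem _
    · exact Perm.commute_of_le_nilpotent hX hsp (S.2.map R.subtype) hPp
        ((Subgroup.map_subtype_le _).trans hR) hP ⟨x, hx, rfl⟩
  exact Subgroup.subgroupOf_eq_top.1 h2

theorem hall_normal {X R : Subgroup G} (hX : Group.IsNilpotent X) {p : ℕ} [Fact p.Prime] (hR : R ≤ X)
    (hRp : ¬ p ∣ Nat.card R) {k : ℕ} (hidx : R.relIndex X = p ^ k) :
    X ≤ Subgroup.normalizer (R : Set G) := by
  obtain ⟨P⟩ : Nonempty (Sylow p X) := inferInstance
  have hle : X ≤ R ⊔ (P : Subgroup X).map X.subtype := by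
    rw [← Subgroup.relIndex_eq_one]
    refine Nat.eq_one_of_dvd_coprimes
      (((Fact.out : p.Prime).coprime_iff_not_dvd.2 P.not_dvd_index).pow_left k)
      (hidx ▸ Subgroup.relIndex_dvd_of_le_left X le_sup_left) ?_
    have : ((P : Subgroup X).map X.subtype).relIndex X = (P : Subgroup X).index := by
      rw [Subgroup.relIndex, Subgroup.subgroupOf,
        Subgroup.comap_map_eq_self_of_injective X.subtype_injective]
    rw [← this]
    exact Subgroup.relIndex_dvd_of_le_left X le_sup_right
  exact hle.trans (sup_le Subgroup.le_normalizer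
    ((centralizes hX hR hRp (Subgroup.map_subtype_le _) (P.2.map _)).trans
      (Subgroup.centralizer_le_normalizer _)))

theorem aux (H : Subgroup G) (hH : Group.IsNilpotent H) (hHall : (Nat.card H).Coprime H.index) :
    ∀ (n : ℕ) (K : Subgroup G), Nat.card K = n →
      (∀ p : ℕ, p.Prime → p ∣ Nat.card K → p ∣ Nat.card H) → ∃ x : G, K ≤ MulAut.conj x • H := by
  intro n
  induction n using Nat.strong_induction_on with
  | _ n ih =>
    intro K hn hK
    subst hn
    rcases eq_or_ne K ⊥ with rfl | hKne
    · exact ⟨1, bot_le⟩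
    have hconjnil : ∀ x : G, Group.IsNilpotent (MulAut.conj x • H : Subgroup G) := fun x => by
      haveI := hH
      exact Group.nilpotent_of_mulEquiv (Subgroup.equivSMul (MulAut.conj x) H)
    have hproper : ∀ L : Subgroup K, L ≠ ⊤ → Group.IsNilpotent L := by
      intro L hL
      have hlt : L.map K.subtype < K := by
        refine lt_of_le_of_ne (Subgroup.map_subtype_le L) fun e => hL ?_
        refine Subgroup.map_injective K.subtype_injective ?_
        rw [e, ← MonoidHom.range_eq_map, Subgroup.range_subtype]
      obtain ⟨x, hx⟩ := ih _ (Cfsg.Agent.Solv.card_lt_of_lt hlt) (L.map K.subtype) rfl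
        (fun p hp hpd => hK p hp (hpd.trans (Subgroup.card_dvd_of_le hlt.le)))
      haveI := Cfsg.Agent.Solv.isNilpotent_of_le hx (hconjnil x)
      exact Group.nilpotent_of_mulEquiv (L.equivMapOfInjective _ K.subtype_injective).symm
    haveI : Group.IsSolvable K := Perm.isSolvable_of_proper_nilpotent _ rfl hproper
    haveI : Nontrivial K := (Subgroup.nontrivial_iff_ne_bot K).2 hKne
    obtain ⟨M, hM, hcM⟩ := (eq_top_or_exists_le_coatom _).resolve_left
      (Group.IsSolvable.commutator_lt_top_of_nontrivial K).ne
    haveI : M.Normal := Subgroup.Normal.of_commutator_le (G := K) hcM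
    obtain ⟨p, hp, hpd⟩ := Nat.exists_prime_and_dvd (n := M.index) (fun h => hM.1 (Subgroup.index_eq_one.1 h))
    haveI := Fact.mk hp
    have hpow : ∀ r : ℕ, r.Prime → r ∣ M.index → r = p := by
      intro r hr hrd
      haveI := Fact.mk hr
      rw [Subgroup.index_eq_card] at hrd hpd
      obtain ⟨y, hy⟩ := exists_prime_orderOf_dvd_card' (G := ↥K ⧸ M) r hrd
      obtain ⟨z, hz⟩ := exists_prime_orderOf_dvd_card' (G := ↥K ⧸ M) p hpd
      have htop : Subgroup.zpowers y = ⊤ := by
        have hlt : M < (Subgroup.zpowers y).comap (QuotientGroup.mk' M) := by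
          rw [lt_iff_le_and_ne]
          refine ⟨fun m hm => ?_, fun e => ?_⟩
          · show QuotientGroup.mk' M m ∈ Subgroup.zpowers y
            rw [QuotientGroup.mk'_apply, (QuotientGroup.eq_one_iff m).2 hm]
            exact one_mem _
          · obtain ⟨w, rfl⟩ := QuotientGroup.mk'_surjective M y
            have hw : w ∈ M := by rw [e]; exact Subgroup.mem_zpowers _
            rw [QuotientGroup.mk'_apply, (QuotientGroup.eq_one_iff w).2 hw, orderOf_one] at hy
            exact hr.one_lt.ne hy
        rw [← Subgroup.map_comap_eq_self_of_surjective (QuotientGroup.mk'_surjective M) (Subgroup.zpowers y),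
          hM.2 _ hlt, Subgroup.map_top_of_surjective _ (QuotientGroup.mk'_surjective M)]
      have : p ∣ r := by
        rw [← hz, ← hy]
        exact orderOf_dvd_of_mem_zpowers ((Subgroup.eq_top_iff' _).1 htop z)
      exact ((Nat.prime_dvd_prime_iff_eq hp hr).1 this).symm
    set M' := M.map K.subtype with hM'def
    have hM'K : M' ≤ K := Subgroup.map_subtype_le M
    have hM'lt : M' < K := by
      refine lt_of_le_of_ne hM'K fun e => hM.1 ?_
      refine Subgroup.map_injective K.subtype_injective ?_
      rw [← hM'def, e, ← MonoidHom.range_eq_map, Subgroup.range_subtype]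
    obtain ⟨x, hx⟩ := ih _ (Cfsg.Agent.Solv.card_lt_of_lt hM'lt) M' rfl
      (fun r hr hrd => hK r hr (hrd.trans (Subgroup.card_dvd_of_le hM'K)))
    set H1 := MulAut.conj x • H
    have hH1 : Group.IsNilpotent H1 := hconjnil x
    have hM'nil : Group.IsNilpotent M' := Cfsg.Agent.Solv.isNilpotent_of_le hx hH1
    haveI : Group.IsSolvable M' := by haveI := hM'nil; infer_instance
    obtain ⟨R0, hR0, hR0i⟩ := Perm.exists_hall_complement (G := M') inferInstance hp
    set R := R0.map M'.subtype with hRdef
    have hRM : R ≤ M' := Subgroup.map_subtype_le _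
    have hRp : ¬ p ∣ Nat.card R := by rwa [Cfsg.Agent.Solv.card_map_subtype]
    have hRi : R.relIndex M' = p ^ (Nat.card M').factorization p := by
      rw [Subgroup.relIndex, Subgroup.subgroupOf,
        Subgroup.comap_map_eq_self_of_injective M'.subtype_injective, hR0i]
    have hRn := hall_normal hM'nil hRM hRp hRi
    -- `K` normalizes `R`
    have hKR : K ≤ Subgroup.normalizer (R : Set G) := by
      intro k hk
      refine Cfsg.Agent.Solv.mem_normalizer_of_conj_smul (Subgroup.eq_of_le_of_card_ge ?_
        (Cfsg.Agent.Solv.card_conj_smul k R).ge)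
      have hle : MulAut.conj k • R ≤ M' := by
        intro y hy
        rw [Cfsg.Agent.Solv.mem_conj_smul] at hy
        obtain ⟨m, hm, e⟩ := hRM hy
        refine ⟨⟨k, hk⟩ * m * ⟨k, hk⟩⁻¹, Subgroup.Normal.conj_mem inferInstance m hm _, ?_⟩
        have e' : (m : G) = k⁻¹ * y * k := e
        show k * (m : G) * k⁻¹ = y
        rw [e']; group
      haveI : (R.subgroupOf M').Normal := Subgroup.normal_subgroupOf_of_le_normalizer hRn
      have h1 := Cfsg.Agent.Solv.le_of_coprime_index (R.subgroupOf M') ((MulAut.conj k • R).subgroupOf M') (by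
        rw [Cfsg.Agent.Solv.card_subgroupOf hle, Cfsg.Agent.Solv.card_conj_smul]
        change (Nat.card R).Coprime (R.relIndex M')
        rw [hRi]
        exact ((hp.coprime_iff_not_dvd.2 hRp).symm).pow_right _)
      exact fun y hy => h1 (show (⟨y, hle hy⟩ : M') ∈ (MulAut.conj k • R).subgroupOf M' from hy)
    -- a Sylow subgroup of `H1` is a Sylow subgroup of `G`
    obtain ⟨P⟩ : Nonempty (Sylow p H1) := inferInstance
    set P1 := (P : Subgroup H1).map H1.subtype with hP1
    have hP1N : P1 ≤ Subgroup.normalizer (R : Set G) :=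
      (centralizes hH1 (hRM.trans hx) hRp (Subgroup.map_subtype_le _) (P.2.map _)).trans
        (Subgroup.centralizer_le_normalizer _)
    have hpK : p ∣ Nat.card K := hpd.trans (Subgroup.index_dvd_card M)
    have hP1i : ¬ p ∣ P1.index := by
      intro hd
      rw [← Subgroup.relIndex_mul_index (Subgroup.map_subtype_le _ : P1 ≤ H1)] at hd
      rcases hp.dvd_mul.1 hd with h | h
      · refine P.not_dvd_index ?_
        rwa [Subgroup.relIndex, Subgroup.subgroupOf,
          Subgroup.comap_map_eq_self_of_injective H1.subtype_injective] at h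
      · have hidx : H1.index = H.index := by
          have h1 := H1.card_mul_index
          rw [Cfsg.Agent.Solv.card_conj_smul, ← H.card_mul_index] at h1
          exact Nat.eq_of_mul_eq_mul_left Nat.card_pos h1
        rw [hidx] at h
        exact hp.not_dvd_one (hHall ▸ Nat.dvd_gcd (hK p hp hpK) h)
    set N := Subgroup.normalizer (R : Set G)
    have hP1' : ¬ p ∣ (P1.subgroupOf N).index := fun hd =>
      hP1i (by rw [← Subgroup.relIndex_mul_index hP1N]; exact hd.mul_right _)
    let SN : Sylow p N := ((P.2.map H1.subtype).comap_of_injective N.subtype N.subtype_injective :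
      IsPGroup p (P1.subgroupOf N)).toSylow hP1'
    obtain ⟨S⟩ : Nonempty (Sylow p K) := inferInstance
    set S' := (S : Subgroup K).map K.subtype with hS'def
    have hS'N : S' ≤ N := (Subgroup.map_subtype_le _).trans hKR
    obtain ⟨T, hT⟩ := ((S.2.map K.subtype).comap_of_injective N.subtype N.subtype_injective :
      IsPGroup p (S'.subgroupOf N)).exists_le_sylow
    obtain ⟨g, hg⟩ := MulAction.exists_smul_eq N T SN
    have hKeq : K ≤ R ⊔ S' := by
      rw [← Subgroup.relIndex_eq_one]
      refine Nat.eq_one_of_dvd_coprimes (a := R.relIndex K) (b := (S : Subgroup K).index) ?_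
        (Subgroup.relIndex_dvd_of_le_left K le_sup_left) ?_
      · rw [← Subgroup.relIndex_mul_relIndex R M' K hRM hM'K, hRi]
        have : M'.relIndex K = M.index := by
          rw [Subgroup.relIndex, Subgroup.subgroupOf, hM'def,
            Subgroup.comap_map_eq_self_of_injective K.subtype_injective]
        rw [this]
        refine Nat.Coprime.mul_left ((hp.coprime_iff_not_dvd.2 S.not_dvd_index).pow_left _) ?_
        exact Nat.coprime_of_dvd fun r hr h1 h2 => S.not_dvd_index (hpow r hr h1 ▸ h2)
      · have : S'.relIndex K = (S : Subgroup K).index := by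
          rw [Subgroup.relIndex, Subgroup.subgroupOf, hS'def,
            Subgroup.comap_map_eq_self_of_injective K.subtype_injective]
        rw [← this]
        exact Subgroup.relIndex_dvd_of_le_left K le_sup_right
    refine ⟨(g : G)⁻¹ * x, fun k hk => ?_⟩
    have h1 : R ⊔ S' ≤ MulAut.conj (g : G)⁻¹ • H1 := by
      refine sup_le (fun y hy => ?_) fun y hy => ?_
      · rw [Cfsg.Agent.Solv.mem_conj_smul, inv_inv]
        exact hx (hRM ((Subgroup.mem_normalizer_iff.1 g.2 y).1 hy))
      · rw [Cfsg.Agent.Solv.mem_conj_smul, inv_inv]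
        have hy' : (⟨y, hS'N hy⟩ : N) ∈ (T : Subgroup N) := hT (show y ∈ S' from hy)
        have : g * ⟨y, hS'N hy⟩ * g⁻¹ ∈ ((g • T : Sylow p N) : Subgroup N) :=
          Subgroup.smul_mem_pointwise_smul _ (MulAut.conj g) (T : Subgroup N) hy'
        rw [hg] at this
        exact Subgroup.map_subtype_le _ (show ((g * ⟨y, hS'N hy⟩ * g⁻¹ : N) : G) ∈ P1 from this)
    have := h1 (hKeq hk)
    rwa [Cfsg.Agent.Solv.conj_smul_conj] at this

/-- Let H be a nilpotent subgroup of a finite group G whose order is coprime to its index, and K a subgroup every prime divisor of whose order divides the order of H. Then K lies in some conjugate of H. -/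
theorem result {G : Type*} [Group G] [Finite G] (H K : Subgroup G) (hH : Group.IsNilpotent H) (hHall : (Nat.card H).Coprime H.index) (hK : ∀ p : ℕ, p.Prime → p ∣ Nat.card K → p ∣ Nat.card H) : ∃ x : G, K ≤ MulAut.conj x • H := by
  exact aux H hH hHall _ K rfl hK

end Cfsg.Agent.S0581
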