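import Cfsg.Statements.S0582
import Cfsg.Agent.Lib.Perm.Supersolvable
import Cfsg.Agent.Lib.Solv.Basic
import Mathlib.Tactic.Group

set_option autoImplicit false
open Pointwise
open Cfsg

namespace Cfsg.Agent.S0582

open scoped Pointwise

universe u

theorem aux : ∀ (n : ℕ) {G : Type u} [Group G] [Finite G], Nat.card G = n → ∀ H K : Subgroup G,
    Cfsg.IsSupersolvable H → Cfsg.IsSupersolvable K → Nat.card H = Nat.card K →
    (Nat.card H).Coprime H.index → ∃ x : G, MulAut.conj x • H = K := by
  intro n
  induction n using Nat.strong_induction_on with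
  | _ n ih =>
    intro G _ _ hn H K hH hK hcard hHall
    subst hn
    rcases eq_or_ne H ⊥ with rfl | hH1
    · refine ⟨1, ?_⟩
      rw [map_one, one_smul]
      exact (Subgroup.card_eq_one.1 (by rw [← hcard, Subgroup.card_bot])).symm
    obtain ⟨q, hq, hqd, hqmax⟩ := Perm.exists_max_prime ((Subgroup.one_lt_card_iff_ne_bot H).2 hH1)
    haveI := Fact.mk hq
    have hKi : K.index = H.index := by
      have h1 := K.card_mul_index
      rw [← hcard, ← H.card_mul_index] at h1
      exact Nat.eq_of_mul_eq_mul_left Nat.card_pos h1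
    have key : ∀ X : Subgroup G, Cfsg.IsSupersolvable X → Nat.card X = Nat.card H → X.index = H.index →
        ∃ S : Sylow q G, (S : Subgroup G) ≤ X ∧ X ≤ Subgroup.normalizer ((S : Subgroup G) : Set G) := by
      intro X hX hXc hXi
      obtain ⟨P⟩ : Nonempty (Sylow q X) := inferInstance
      haveI := Perm.sylow_normal_of_max hX q (fun r hr hrd => hqmax r hr (hXc ▸ hrd)) P
      have hidx : ¬ q ∣ ((P : Subgroup X).map X.subtype).index := by
        rw [Subgroup.index_map_subtype]
        intro hd
        rcases hq.dvd_mul.1 hd with h | h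
        · exact P.not_dvd_index h
        · rw [hXi] at h
          exact hq.not_dvd_one (hHall ▸ Nat.dvd_gcd hqd h)
      refine ⟨(P.2.map X.subtype).toSylow hidx, Subgroup.map_subtype_le _, fun x hx => ?_⟩
      refine Cfsg.Agent.Solv.mem_normalizer_of_conj_smul ?_
      have := congrArg (Subgroup.map X.subtype) (Subgroup.Normal.conj_smul_eq_self (⟨x, hx⟩ : X) (P : Subgroup X))
      rwa [Cfsg.Agent.Solv.map_conj_smul] at this
    obtain ⟨S1, hS1, hn1⟩ := key H hH rfl rfl
    obtain ⟨S2, hS2, hn2⟩ := key K hK hcard.symm hKi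
    obtain ⟨g, hg⟩ := MulAction.exists_smul_eq G S1 S2
    have hg' : MulAut.conj g • (S1 : Subgroup G) = (S2 : Subgroup G) := congrArg Sylow.toSubgroup hg
    set H1 := MulAut.conj g • H
    set Q := (S2 : Subgroup G) with hQdef
    set L := Subgroup.normalizer (Q : Set G)
    have hQH : Q ≤ H1 := hg' ▸ Subgroup.pointwise_smul_le_pointwise_smul_iff.2 hS1
    have hH1L : H1 ≤ L := by
      intro y hy
      rw [Cfsg.Agent.Solv.mem_conj_smul] at hy
      refine Cfsg.Agent.Solv.mem_normalizer_of_conj_smul ?_
      rw [← hg', show y = g * (g⁻¹ * y * g) * g⁻¹ by group, Cfsg.Agent.Solv.conj_smul_conj,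
        show g * (g⁻¹ * y * g) * g⁻¹ * g = g * (g⁻¹ * y * g) by group, ← Cfsg.Agent.Solv.conj_smul_conj,
        Cfsg.Agent.Solv.conj_smul_of_mem_normalizer (hn1 hy)]
    set N0 := Q.subgroupOf L
    haveI : N0.Normal := Subgroup.normal_in_normalizer
    have hQne : Q ≠ ⊥ := by
      intro h
      refine S2.not_dvd_index ?_
      rw [← hQdef, h, Subgroup.index_bot]
      exact hqd.trans H.card_subgroup_dvd_card
    have hlt : Nat.card (L ⧸ N0) < Nat.card G := by
      refine (Cfsg.Agent.Solv.card_quotient_lt N0 fun h => hQne ?_).trans_le (Subgroup.card_le_card_group L)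
      rw [eq_bot_iff]
      intro y hy
      have hy' : (⟨y, Subgroup.le_normalizer hy⟩ : L) ∈ N0 := hy
      rw [h, Subgroup.mem_bot] at hy'
      exact Subgroup.mem_bot.2 (congrArg Subtype.val hy')
    have hH1s : Cfsg.IsSupersolvable H1 :=
      Perm.isSupersolvable_of_surjective hH (Subgroup.equivSMul (MulAut.conj g) H).toMonoidHom
        (Subgroup.equivSMul (MulAut.conj g) H).surjective
    set f := QuotientGroup.mk' N0
    have ss : ∀ X : Subgroup G, X ≤ L → Cfsg.IsSupersolvable X → Cfsg.IsSupersolvable ((X.subgroupOf L).map f) := by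
      intro X hXL hX
      exact Perm.isSupersolvable_of_surjective
        (Perm.isSupersolvable_of_injective hX (Subgroup.subgroupOfEquivOfLe hXL).toMonoidHom (MulEquiv.injective _))
        (f.subgroupMap (X.subgroupOf L)) (f.subgroupMap_surjective _)
    have hKL : K ≤ L := hn2
    have cards : ∀ X : Subgroup G, X ≤ L → Q ≤ X →
        Nat.card ((X.subgroupOf L).map f) * Nat.card N0 = Nat.card X := by
      intro X hXL hQX
      have := Cfsg.Agent.Solv.card_map_mk'_mul_card_inf N0 (X.subgroupOf L)
      have hNX : N0 ≤ X.subgroupOf L := Subgroup.comap_mono hQX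
      rwa [inf_eq_left.2 hNX, Cfsg.Agent.Solv.card_subgroupOf hXL] at this
    have hc : Nat.card ((H1.subgroupOf L).map f) = Nat.card ((K.subgroupOf L).map f) := by
      refine Nat.eq_of_mul_eq_mul_right (Nat.card_pos (α := N0)) ?_
      rw [cards H1 hH1L hQH, cards K hKL hS2, Cfsg.Agent.Solv.card_conj_smul, hcard]
    have hco : (Nat.card ((H1.subgroupOf L).map f)).Coprime ((H1.subgroupOf L).map f).index := by
      have h1 : H1.index = H.index := by
        have h1 := H1.card_mul_index
        rw [Cfsg.Agent.Solv.card_conj_smul, ← H.card_mul_index] at h1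
        exact Nat.eq_of_mul_eq_mul_left Nat.card_pos h1
      refine (hHall.coprime_dvd_left ?_).coprime_dvd_right ?_
      · rw [← Cfsg.Agent.Solv.card_conj_smul g H]
        exact Dvd.intro _ (cards H1 hH1L hQH)
      · rw [← h1, ← Subgroup.relIndex_mul_index hH1L]
        exact (Subgroup.index_map_dvd _ (QuotientGroup.mk'_surjective N0)).trans (dvd_mul_right _ _)
    obtain ⟨x, hx⟩ := ih _ hlt (G := L ⧸ N0) rfl _ _ (ss H1 hH1L hH1s) (ss K hKL hK) hc hco
    obtain ⟨l, rfl⟩ := QuotientGroup.mk'_surjective N0 x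
    rw [← Cfsg.Agent.Solv.map_conj_smul] at hx
    have h2 := congrArg (Subgroup.comap f) hx
    have hNK : N0 ≤ K.subgroupOf L := Subgroup.comap_mono hS2
    rw [Subgroup.comap_map_eq, Subgroup.comap_map_eq, QuotientGroup.ker_mk', sup_eq_left.2 hNK,
      sup_eq_left.2 (show N0 ≤ MulAut.conj l • H1.subgroupOf L by
        rw [← Subgroup.Normal.conj_smul_eq_self l N0]
        exact Subgroup.pointwise_smul_le_pointwise_smul_iff.2 (Subgroup.comap_mono hQH))] at h2
    have h3 := congrArg (Subgroup.map L.subtype) h2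
    rw [Cfsg.Agent.Solv.map_conj_smul, Subgroup.map_subgroupOf_eq_of_le hH1L,
      Subgroup.map_subgroupOf_eq_of_le hKL, Cfsg.Agent.Solv.conj_smul_conj] at h3
    exact ⟨_, h3⟩

/-- Let H and K be supersolvable subgroups of a finite group G of the same order, that order being coprime to their index. Then H and K are conjugate in G. -/
theorem result {G : Type*} [Group G] [Finite G] (H K : Subgroup G) (hH : Cfsg.IsSupersolvable H) (hK : Cfsg.IsSupersolvable K) (hcard : Nat.card H = Nat.card K) (hHall : (Nat.card H).Coprime H.index) : ∃ x : G, MulAut.conj x • H = K := by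
  exact aux _ rfl H K hH hK hcard hHall

end Cfsg.Agent.S0582
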