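import Cfsg.Statements.S0583
import Cfsg.Agent.Lib.Solv.Cores
import Mathlib.GroupTheory.Nilpotent

set_option autoImplicit false
open Cfsg

namespace Cfsg.Agent.S0583

/-- In a finite group the Fitting subgroup is contained in the centralizer of each minimal normal subgroup. -/
theorem result {G : Type*} [Group G] [Finite G] (M : Subgroup G) [M.Normal] (hM : M ≠ ⊥) (hmin : ∀ K : Subgroup G, K.Normal → K ≤ M → K = ⊥ ∨ K = M) : Cfsg.fittingSubgroup G ≤ Subgroup.centralizer (M : Set G) := by
  haveI := Cfsg.Agent.Solv.fittingSubgroup_normal (G := G)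
  have hF := Cfsg.Agent.Solv.fittingSubgroup_nilpotent (G := G)
  set F := Cfsg.fittingSubgroup G
  rcases hmin (M ⊓ F) inferInstance inf_le_left with hbot | heq
  · rw [← Subgroup.commutator_eq_bot_iff_le_centralizer, eq_bot_iff, ← hbot, inf_comm]
    exact Subgroup.commutator_le_inf F M
  · have hMF : M ≤ F := heq ▸ inf_le_right
    haveI : (M.subgroupOf F).Normal := Subgroup.Normal.subgroupOf inferInstance F
    haveI : Nontrivial (M.subgroupOf F) := by
      rw [Subgroup.nontrivial_iff_ne_bot, Ne, Subgroup.subgroupOf_eq_bot, disjoint_iff,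
        inf_eq_left.2 hMF]
      exact hM
    have hmeet : M.subgroupOf F ⊓ Subgroup.center F ≠ ⊥ := by
      intro hbot
      have hsub : ∀ n, M.subgroupOf F ⊓ Subgroup.upperCentralSeries F n = ⊥ := by
        intro n
        induction n with
        | zero => simp [Subgroup.upperCentralSeries_zero]
        | succ n ih =>
          rw [eq_bot_iff] at ih ⊢
          intro x hx
          obtain ⟨hxM, hxn⟩ := Subgroup.mem_inf.1 hx
          have hc : x ∈ Subgroup.center F := by
            rw [Subgroup.mem_center_iff]
            intro g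
            have h1 := Subgroup.mem_upperCentralSeries_succ_iff.1 hxn g
            have h2 : x * g * x⁻¹ * g⁻¹ ∈ M.subgroupOf F := by
              rw [show x * g * x⁻¹ * g⁻¹ = x * (g * x⁻¹ * g⁻¹) by simp [mul_assoc]]
              exact mul_mem hxM (Subgroup.Normal.conj_mem inferInstance _ (inv_mem hxM) g)
            have := Subgroup.mem_bot.1 (ih ⟨h2, h1⟩)
            rw [mul_inv_eq_one, mul_inv_eq_iff_eq_mul] at this
            exact this.symm
          rw [← hbot]
          exact ⟨hxM, hc⟩
      obtain ⟨n, hn⟩ := hF.nilpotent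
      have := hsub n
      rw [hn, inf_top_eq] at this
      exact (Subgroup.nontrivial_iff_ne_bot _).1 inferInstance this
    haveI : ((Subgroup.center F).map F.subtype).Normal :=
      Cfsg.Agent.Solv.map_subtype_normal_of_characteristic F _
    have hle : M ≤ (Subgroup.center F).map F.subtype := by
      refine inf_eq_left.1 ((hmin _ inferInstance inf_le_left).resolve_left fun h => hmeet ?_)
      rw [eq_bot_iff]
      intro x hx
      obtain ⟨hxM, hxc⟩ := Subgroup.mem_inf.1 hx
      have : (x : G) ∈ M ⊓ (Subgroup.center F).map F.subtype := ⟨hxM, ⟨x, hxc, rfl⟩⟩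
      rw [h, Subgroup.mem_bot] at this
      exact Subgroup.mem_bot.2 (Subtype.ext this)
    rw [Subgroup.le_centralizer_iff]
    intro m hm
    obtain ⟨c, hc, rfl⟩ := hle hm
    rw [Subgroup.mem_centralizer_iff]
    intro f hf
    exact congrArg Subtype.val (Subgroup.mem_center_iff.1 hc ⟨f, hf⟩)

end Cfsg.Agent.S0583
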