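import Cfsg.Statements.S0584
import Cfsg.Agent.Lib.Perm.Huppert

set_option autoImplicit false
open Cfsg

namespace Cfsg.Agent.S0584

/-- Let B ≤ A be normal subgroups of a finite group G with B contained in the Frattini subgroup of G. If A modulo B is nilpotent then A is nilpotent. -/
theorem result {G : Type*} [Group G] [Finite G] (A B : Subgroup G) [A.Normal] [B.Normal] (hBA : B ≤ A) (hB : B ≤ frattini G) (h : Group.IsNilpotent (↥A ⧸ B.subgroupOf A)) : Group.IsNilpotent A := by
  refine Cfsg.Agent.Perm.isNilpotent_of_le_frattini A B hBA hB ?_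
  let f : A →* A.map (QuotientGroup.mk' B) := (QuotientGroup.mk' B).subgroupMap A
  have hf : Function.Surjective f := (QuotientGroup.mk' B).subgroupMap_surjective A
  have hker : f.ker = B.subgroupOf A := by
    ext x
    rw [MonoidHom.mem_ker, Subgroup.mem_subgroupOf, Subtype.ext_iff]
    exact QuotientGroup.eq_one_iff _
  haveI := h
  exact Group.nilpotent_of_surjective
    ((QuotientGroup.kerLift f).comp (QuotientGroup.quotientMulEquivOfEq hker.symm).toMonoidHom)
    (fun y => by
      obtain ⟨x, hx⟩ := hf y
      exact ⟨QuotientGroup.mk x, hx⟩)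

end Cfsg.Agent.S0584
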