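import Cfsg.Statements.S0585
import Mathlib.GroupTheory.Frattini
import Mathlib.GroupTheory.Complement
import Mathlib.GroupTheory.Sylow

set_option autoImplicit false
open Cfsg

namespace Cfsg.Agent.S0585

open scoped Pointwise

/-- If the Frattini subgroup of a finite group G is trivial, then every abelian normal subgroup of G has a complement in G. -/
theorem result {G : Type*} [Group G] [Finite G] (hΦ : frattini G = ⊥) (A : Subgroup G) [A.Normal] [IsMulCommutative A] : ∃ H : Subgroup G, Subgroup.IsComplement' A H := by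
  obtain ⟨H, hH⟩ := (Set.toFinite {H : Subgroup G | A ⊔ H = ⊤}).exists_minimal ⟨⊤, sup_top_eq A⟩
  have htop : A ⊔ H = ⊤ := hH.1
  have hmul : ∀ g : G, ∃ a ∈ A, ∃ h ∈ H, a * h = g := by
    intro g
    have : g ∈ ((A ⊔ H : Subgroup G) : Set G) := by rw [htop]; trivial
    rw [Subgroup.normal_mul] at this
    exact this
  haveI hBn : (A ⊓ H).Normal := by
    refine ⟨fun x hx g => ?_⟩
    obtain ⟨a, ha, h, hh, rfl⟩ := hmul g
    have hy : h * x * h⁻¹ ∈ A ⊓ H :=
      ⟨Subgroup.Normal.conj_mem inferInstance x hx.1 h, H.mul_mem (H.mul_mem hh hx.2) (H.inv_mem hh)⟩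
    have hc : a * (h * x * h⁻¹) = h * x * h⁻¹ * a :=
      congrArg Subtype.val (mul_comm' (⟨a, ha⟩ : A) ⟨_, hy.1⟩)
    have : a * h * x * (a * h)⁻¹ = h * x * h⁻¹ := by
      rw [show a * h * x * (a * h)⁻¹ = a * (h * x * h⁻¹) * a⁻¹ by simp [mul_assoc], hc,
        mul_inv_cancel_right]
    rwa [this]
  have hB : A ⊓ H = ⊥ := by
    rw [eq_bot_iff, ← hΦ]
    refine le_iInf₂ fun M hM => ?_
    by_contra hle
    have hBM : (A ⊓ H) ⊔ M = ⊤ :=
      hM.2 _ (lt_of_le_of_ne le_sup_right fun h => hle (h ▸ le_sup_left))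
    have h2 : A ⊔ (H ⊓ M) = ⊤ := by
      rw [eq_top_iff, ← htop]
      refine sup_le le_sup_left fun h hh => ?_
      have : h ∈ (((A ⊓ H) ⊔ M : Subgroup G) : Set G) := by rw [hBM]; trivial
      rw [Subgroup.normal_mul] at this
      obtain ⟨b, hb, m, hm, e⟩ := this
      have hm' : m ∈ H := by
        rw [show m = b⁻¹ * h by rw [← e]; simp]
        exact H.mul_mem (H.inv_mem hb.2) hh
      rw [← e]
      exact mul_mem (Subgroup.mem_sup_left hb.1) (Subgroup.mem_sup_right ⟨hm', hm⟩)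
    exact hle (inf_le_right.trans ((hH.2 h2 inf_le_left).trans inf_le_right))
  exact ⟨H, Subgroup.isComplement'_of_disjoint_and_mul_eq_univ (disjoint_iff.2 hB)
    (by rw [← Subgroup.normal_mul, htop]; rfl)⟩

end Cfsg.Agent.S0585
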