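import Cfsg.Statements.S0586
import Cfsg.Agent.S0575
import Cfsg.Agent.S0585
import Cfsg.Agent.Lib.Perm.NilpFrattini
import Cfsg.Agent.Lib.Perm.MinNormal
import Cfsg.Agent.Lib.Solv.Cores

set_option autoImplicit false
open Cfsg

namespace Cfsg.Agent.S0586

open scoped Pointwise

/-- If the Frattini subgroup of a finite group G is trivial, then the Fitting subgroup of G equals the join of all abelian minimal normal subgroups of G. -/
theorem result {G : Type*} [Group G] [Finite G] (hΦ : frattini G = ⊥) : Cfsg.fittingSubgroup G = sSup {N : Subgroup G | N.Normal ∧ N ≠ ⊥ ∧ IsMulCommutative N ∧ ∀ K : Subgroup G, K.Normal → K ≤ N → K = ⊥ ∨ K = N} := by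
  haveI hFn := Cfsg.Agent.Solv.fittingSubgroup_normal (G := G)
  haveI hFnil := Cfsg.Agent.Solv.fittingSubgroup_nilpotent (G := G)
  set W := sSup {N : Subgroup G | N.Normal ∧ N ≠ ⊥ ∧ IsMulCommutative N ∧
    ∀ K : Subgroup G, K.Normal → K ≤ N → K = ⊥ ∨ K = N} with hW
  set F := Cfsg.fittingSubgroup G
  have hWF : W ≤ F := by
    refine sSup_le fun N hN => ?_
    haveI := hN.1
    haveI := hN.2.2.1
    exact Cfsg.Agent.Solv.normal_le_fitting (by open scoped IsMulCommutative in infer_instance)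
  have hcF : IsMulCommutative F := by
    rw [Cfsg.Agent.Perm.mulCommutative_iff_commutator_eq_bot, ← Subgroup.map_subtype_commutator, eq_bot_iff, ← hΦ]
    exact (Subgroup.map_mono Cfsg.Agent.Perm.commutator_le_frattini).trans (Cfsg.Agent.S0575.result F)
  haveI : W.Normal := Subgroup.sSup_normal _ fun N hN => hN.1
  haveI : IsMulCommutative W := by
    rw [Cfsg.Agent.Perm.mulCommutative_iff_commutator_eq_bot] at hcF ⊢
    exact eq_bot_iff.2 (hcF ▸ Subgroup.commutator_mono hWF hWF)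
  obtain ⟨H, hH⟩ := Cfsg.Agent.S0585.result hΦ W
  have htop := hH.sup_eq_top
  haveI hn : (F ⊓ H).Normal := by
    refine ⟨fun x hx g => ?_⟩
    have hg : g ∈ ((W ⊔ H : Subgroup G) : Set G) := by rw [htop]; trivial
    rw [Subgroup.normal_mul] at hg
    obtain ⟨w, hw, h, hh, rfl⟩ := hg
    have hy : h * x * h⁻¹ ∈ F ⊓ H :=
      ⟨hFn.conj_mem x hx.1 h, H.mul_mem (H.mul_mem hh hx.2) (H.inv_mem hh)⟩
    have hc : w * (h * x * h⁻¹) = h * x * h⁻¹ * w :=
      congrArg Subtype.val (hcF.is_comm.comm (⟨w, hWF hw⟩ : F) ⟨_, hy.1⟩)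
    have : w * h * x * (w * h)⁻¹ = h * x * h⁻¹ := by
      rw [show w * h * x * (w * h)⁻¹ = w * (h * x * h⁻¹) * w⁻¹ by simp [mul_assoc], hc,
        mul_inv_cancel_right]
    show w * h * x * (w * h)⁻¹ ∈ F ⊓ H
    rwa [this]
  have hbot : F ⊓ H = ⊥ := by
    by_contra hne
    obtain ⟨N, hN, hNle⟩ := Cfsg.Agent.Perm.exists_isMinNormal_le hn hne
    have hcN : IsMulCommutative N := by
      rw [Cfsg.Agent.Perm.mulCommutative_iff_commutator_eq_bot] at hcF ⊢
      exact eq_bot_iff.2 (hcF ▸ Subgroup.commutator_mono (hNle.trans inf_le_left) (hNle.trans inf_le_left))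
    have hNW : N ≤ W := le_sSup ⟨hN.1, hN.2.1, hcN, hN.2.2⟩
    exact hN.2.1 (eq_bot_iff.2 ((le_inf hNW (hNle.trans inf_le_right)).trans
      hH.disjoint.le_bot))
  refine le_antisymm (fun f hf => ?_) hWF
  have hg : f ∈ ((W ⊔ H : Subgroup G) : Set G) := by rw [htop]; trivial
  rw [Subgroup.normal_mul] at hg
  obtain ⟨w, hw, h, hh, rfl⟩ := hg
  have : h ∈ F ⊓ H := ⟨by simpa using F.mul_mem (F.inv_mem (hWF hw)) hf, hh⟩
  rw [hbot, Subgroup.mem_bot] at this
  simpa [this] using hw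

end Cfsg.Agent.S0586
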