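import Cfsg.Statements.S0587
import Cfsg.Agent.S0549
import Cfsg.Agent.Lib.Perm.Huppert
import Cfsg.Agent.Lib.Solv.Cores
import Mathlib.GroupTheory.PGroup

set_option autoImplicit false
open Cfsg

namespace Cfsg.Agent.S0587

open scoped Pointwise

/-- Let G be a finite group whose largest normal p-subgroup L is nontrivial, and M a maximal subgroup of G with trivial normal core. Then L is elementary abelian, M is a complement to L, L is a minimal normal subgroup of G, the centralizer of L is L, and for every prime q such that the largest normal q-subgroup of M is nontrivial, the order of L is congruent to 1 modulo q and q ≠ p. -/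
theorem result {G : Type*} [Group G] [Finite G] (p : ℕ) [Fact p.Prime] (hL : Cfsg.pCore p G ≠ ⊥) (M : Subgroup G) (hM : IsCoatom M) (hcore : M.normalCore = ⊥) : Cfsg.IsElementaryAbelian p (Cfsg.pCore p G) ∧ Subgroup.IsComplement' (Cfsg.pCore p G) M ∧ (∀ K : Subgroup G, K.Normal → K ≤ Cfsg.pCore p G → K = ⊥ ∨ K = Cfsg.pCore p G) ∧ Subgroup.centralizer ((Cfsg.pCore p G : Subgroup G) : Set G) = Cfsg.pCore p G ∧ ∀ (q : ℕ) [Fact q.Prime], Cfsg.pCore q ↥M ≠ ⊥ → Nat.card (Cfsg.pCore p G) % q = 1 % q ∧ q ≠ p := by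
  haveI := Cfsg.Agent.Solv.pCore_normal (G := G) p
  have hLp := Cfsg.Agent.Solv.pCore_isPGroup (G := G) p
  set L := Cfsg.pCore p G with hLdef
  obtain ⟨N, hN, hNL⟩ := Cfsg.Agent.Perm.exists_isMinNormal_le (inferInstance : L.Normal) hL
  haveI := hN.1
  have hNp : IsPGroup p N := hLp.to_le hNL
  haveI : Group.IsNilpotent N := hNp.isNilpotent
  have hc := hN.isMulCommutative inferInstance
  have hle : N ≤ Subgroup.centralizer (N : Set G) := Subgroup.le_centralizer_iff_isMulCommutative.2 hc
  have hCN : Subgroup.centralizer (N : Set G) = N := by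
    obtain ⟨-, h | ⟨-, h⟩⟩ := Cfsg.Agent.S0549.result M hM hcore N hN.2.1
    · exact absurd (eq_bot_iff.2 (h ▸ hle)) hN.2.1
    · exact ((h N hN.1 hle).resolve_left hN.2.1).symm
  have hNeq : N = L := by
    refine le_antisymm hNL ?_
    haveI : (N.subgroupOf L).Normal := Subgroup.Normal.subgroupOf inferInstance L
    haveI : Nontrivial (N.subgroupOf L) := by
      rw [Subgroup.nontrivial_iff_ne_bot, Ne, Subgroup.subgroupOf_eq_bot, disjoint_iff,
        inf_eq_left.2 hNL]
      exact hN.2.1
    obtain ⟨z, hz, hzc, hz1⟩ := Cfsg.Agent.Perm.exists_ne_one_center hLp (N.subgroupOf L)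
    have hzN : (z : G) ∈ N ⊓ Subgroup.centralizer (L : Set G) :=
      ⟨hz, Subgroup.mem_centralizer_iff.2 fun l hl =>
        congrArg Subtype.val (Subgroup.mem_center_iff.1 hzc ⟨l, hl⟩)⟩
    rcases hN.2.2 (N ⊓ Subgroup.centralizer (L : Set G)) inferInstance inf_le_left with h | h
    · rw [h, Subgroup.mem_bot] at hzN
      exact absurd (Subtype.ext hzN) hz1
    · exact hCN ▸ Subgroup.le_centralizer_iff.1 (inf_eq_left.1 h)
  clear_value L
  subst hNeq
  have hnle : ¬ N ≤ M := fun h =>
    hN.2.1 (eq_bot_iff.2 (hcore ▸ Subgroup.normal_le_normalCore.2 h))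
  obtain ⟨hinf, htop, hcomp, -⟩ := hN.complement_of_coatom hc hM hnle
  obtain ⟨p', hp', hpow, hp'g, k, hk, hcard⟩ := hN.exists_prime hc
  have hpp : p' = p := by
    haveI := Fact.mk hp'
    obtain ⟨j, hj⟩ := IsPGroup.iff_card.mp hLp
    have : p' ∣ p ^ j := by rw [← hj, hcard]; exact dvd_pow_self p' hk.ne'
    exact (Nat.prime_dvd_prime_iff_eq hp' Fact.out).1 (hp'.dvd_of_dvd_pow this)
  rw [hpp] at hpow
  refine ⟨⟨hc, fun x hx => hpow x hx⟩, hcomp, hN.2.2, hCN, ?_⟩
  intro q _ hq
  haveI := Cfsg.Agent.Solv.pCore_normal (G := M) q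
  have hQq := Cfsg.Agent.Solv.pCore_isPGroup (G := M) q
  set Q := (Cfsg.pCore q ↥M).map M.subtype with hQdef
  have hQM : Q ≤ M := Subgroup.map_subtype_le _
  have hQne : Q ≠ ⊥ := fun h => hq ((Subgroup.map_eq_bot_iff_of_injective _ M.subtype_injective).1 h)
  have hMQ : ∀ m ∈ M, ∀ x ∈ Q, m * x * m⁻¹ ∈ Q := by
    rintro m hm - ⟨x, hx, rfl⟩
    exact ⟨⟨m, hm⟩ * x * ⟨m, hm⟩⁻¹, Subgroup.Normal.conj_mem inferInstance x hx _, rfl⟩
  have hqp : q ≠ p := by
    intro e
    subst e
    have hnorm : (N ⊔ Q).Normal := by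
      rw [← Subgroup.normalizer_eq_top_iff, eq_top_iff, ← htop]
      refine sup_le (le_sup_left.trans Subgroup.le_normalizer) fun m hm => ?_
      have hm' : m ∈ Subgroup.normalizer (Q : Set G) := by
        rw [Subgroup.mem_normalizer_iff]
        refine fun x => ⟨hMQ m hm x, fun hx => ?_⟩
        simpa [mul_assoc] using hMQ m⁻¹ (M.inv_mem hm) _ hx
      refine Cfsg.Agent.Solv.mem_normalizer_of_conj_smul ?_
      rw [Subgroup.smul_sup, Subgroup.Normal.conj_smul_eq_self m N,
        Cfsg.Agent.Solv.conj_smul_of_mem_normalizer hm']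
    haveI := hnorm
    have hp2 : IsPGroup q (N ⊔ Q : Subgroup G) := hLp.to_sup_of_normal_left (hQq.map _)
    have h1 : Q ≤ N ⊓ M :=
      le_inf ((le_sup_right.trans (Cfsg.Agent.Solv.normal_le_pCore hp2)).trans hLdef.ge) hQM
    exact hQne (eq_bot_iff.2 (h1.trans hinf.le))
  refine ⟨?_, hqp⟩
  letI : MulAction Q N := MulAction.compHom N ((MulAut.conjNormal : G →* MulAut N).comp Q.subtype)
  have hfix : MulAction.fixedPoints Q N = {(1 : N)} := by
    have hbot : N ⊓ Subgroup.centralizer (Q : Set G) = ⊥ := by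
      have hnor : (N ⊓ Subgroup.centralizer (Q : Set G)).Normal := by
        rw [← Subgroup.normalizer_eq_top_iff, eq_top_iff, ← htop]
        refine sup_le ?_ fun m hm => ?_
        · refine le_trans ?_ (Subgroup.centralizer_le_normalizer _)
          intro n hn
          rw [Subgroup.mem_centralizer_iff]
          intro c hc'
          exact congrArg Subtype.val (hc.is_comm.comm (⟨c, hc'.1⟩ : N) ⟨n, hn⟩)
        · have hcl : ∀ m ∈ M, ∀ x ∈ N ⊓ Subgroup.centralizer (Q : Set G),
              m * x * m⁻¹ ∈ N ⊓ Subgroup.centralizer (Q : Set G) := by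
            intro m hm x hx
            refine ⟨hN.1.conj_mem x hx.1 m, Subgroup.mem_centralizer_iff.2 fun y hy => ?_⟩
            have h2 := Subgroup.mem_centralizer_iff.1 hx.2 _ (hMQ m⁻¹ (M.inv_mem hm) y hy)
            calc y * (m * x * m⁻¹) = m * ((m⁻¹ * y * m⁻¹⁻¹) * x) * m⁻¹ := by group
              _ = m * x * m⁻¹ * y := by rw [h2]; group
          rw [Subgroup.mem_normalizer_iff]
          refine fun x => ⟨hcl m hm x, fun hx => ?_⟩
          simpa [mul_assoc] using hcl m⁻¹ (M.inv_mem hm) _ hx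
      refine (hN.2.2 _ hnor inf_le_left).resolve_right fun h => hQne ?_
      rw [inf_eq_left, Subgroup.le_centralizer_iff, hCN] at h
      exact eq_bot_iff.2 ((le_inf h hQM).trans hinf.le)
    ext n
    rw [MulAction.mem_fixedPoints, Set.mem_singleton_iff]
    constructor
    · intro hn
      have : (n : G) ∈ N ⊓ Subgroup.centralizer (Q : Set G) := by
        refine ⟨n.2, Subgroup.mem_centralizer_iff.2 fun y hy => ?_⟩
        have := congrArg Subtype.val (hn ⟨y, hy⟩)
        change y * (n : G) * y⁻¹ = n at this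
        exact mul_inv_eq_iff_eq_mul.1 this
      rw [hbot, Subgroup.mem_bot] at this
      exact Subtype.ext this
    · rintro rfl y
      show MulAut.conjNormal (y : G) (1 : N) = 1
      exact map_one _
  have := (hQq.map M.subtype).card_modEq_card_fixedPoints N
  rwa [hfix, show Nat.card ({(1 : N)} : Set N) = 1 by simp] at this

end Cfsg.Agent.S0587
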