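import Cfsg.Statements.S0589
import Cfsg.Agent.Lib.Solv.FrobeniusConj
import Cfsg.Agent.Lib.Solv.Frobenius
import Cfsg.Agent.Lib.Solv.FrobeniusFPF

set_option autoImplicit false
open Pointwise
open Cfsg

namespace Cfsg.Agent.S0589

/-- Let H be a Frobenius complement in a finite group G and L a subgroup of G whose order divides the order of H. Then L is contained in some conjugate of H. -/
theorem result {G : Type*} [Group G] [Finite G] (H : Subgroup G) (hH : Cfsg.IsFrobeniusComplement H) (L : Subgroup G) (hL : Nat.card L ∣ Nat.card H) : ∃ x : G, L ≤ MulAut.conj x • H := by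
  refine Cfsg.Agent.Solv.frob_le_conj hH L fun x hx hx1 => ?_
  by_contra hcon
  push Not at hcon
  obtain ⟨N, hN, -, hc⟩ := Cfsg.Agent.Solv.frobenius_theorem hH
  have hxN : x ∈ N := by
    rw [← SetLike.mem_coe, hN]
    exact Or.inr hcon
  have hcard : Nat.card N = H.index := hc.index_eq_card.symm
  have h1 : orderOf x ∣ Nat.card L := by
    simpa [Subgroup.orderOf_mk] using orderOf_dvd_natCard (⟨x, hx⟩ : L)
  have h2 : orderOf x ∣ Nat.card N := by
    simpa [Subgroup.orderOf_mk] using orderOf_dvd_natCard (⟨x, hxN⟩ : N)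
  rw [hcard] at h2
  exact hx1 (orderOf_eq_one_iff.1
    (Nat.eq_one_of_dvd_coprimes (Cfsg.Agent.Solv.frob_coprime hH) (h1.trans hL) h2))

end Cfsg.Agent.S0589
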