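import Cfsg.Statements.S0590
import Mathlib


set_option autoImplicit false
open Cfsg
open scoped commutatorElement

namespace Cfsg.Agent.S0590

/-- Quadratic action on an elementary abelian p-group forces the acting group modulo the kernel of the action to be elementary abelian. -/
theorem result {G : Type*} [Group G] [Finite G] {p : ℕ} [Fact p.Prime] (V H : Subgroup G) (hV : Cfsg.IsElementaryAbelian p V) (hHV : H ≤ Subgroup.normalizer (V : Set G)) (hq : ⁅⁅V, H⁆, H⁆ = ⊥) : ⁅H, H⁆ ≤ Subgroup.centralizer (V : Set G) ∧ ∀ a ∈ H, a ^ p ∈ Subgroup.centralizer (V : Set G) := by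
  have hHH : ⁅⁅H, H⁆, V⁆ = ⊥ :=
    Subgroup.commutator_commutator_eq_bot_of_rotate (by rwa [Subgroup.commutator_comm H V]) hq
  refine ⟨Subgroup.commutator_eq_bot_iff_le_centralizer.1 hHH, fun a ha => ?_⟩
  rw [Subgroup.mem_centralizer_iff]
  intro v hv
  have hd : ⁅a, v⁆ ∈ ⁅V, H⁆ := by
    rw [Subgroup.commutator_comm]; exact Subgroup.commutator_mem_commutator ha hv
  have hdV : ⁅a, v⁆ ∈ V := by
    rw [commutatorElement_def]
    exact mul_mem ((Subgroup.mem_normalizer_iff.1 (hHV ha) v).1 hv) (inv_mem hv)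
  have hac : a * ⁅a, v⁆ = ⁅a, v⁆ * a := Subgroup.mem_centralizer_iff.1
    (Subgroup.commutator_eq_bot_iff_le_centralizer.1 hq hd) a ha
  have key : ∀ k : ℕ, a ^ k * v * (a ^ k)⁻¹ = ⁅a, v⁆ ^ k * v := by
    intro k
    induction k with
    | zero => simp
    | succ k ih =>
      calc a ^ (k + 1) * v * (a ^ (k + 1))⁻¹ = a * (a ^ k * v * (a ^ k)⁻¹) * a⁻¹ := by
            rw [pow_succ']; group
        _ = a * ⁅a, v⁆ ^ k * v * a⁻¹ := by rw [ih]; group
        _ = ⁅a, v⁆ ^ k * (a * v * a⁻¹) := by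
            rw [(Commute.pow_right (show Commute a ⁅a, v⁆ from hac) k).eq]; group
        _ = ⁅a, v⁆ ^ (k + 1) * v := by rw [pow_succ, commutatorElement_def]; group
  have h1 := key p
  rw [hV.2 _ hdV, one_mul, mul_inv_eq_iff_eq_mul] at h1
  exact h1.symm

end Cfsg.Agent.S0590
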