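import Cfsg.Statements.S0591
import Mathlib


set_option autoImplicit false
open Cfsg
open scoped commutatorElement

namespace Cfsg.Agent.S0591

/-- For a quadratically acting element a on an elementary abelian p-group V, the fixed points C_V(a) have order at least the square root of the order of V. -/
theorem result {G : Type*} [Group G] [Finite G] {p : ℕ} [Fact p.Prime] (V : Subgroup G) (hV : Cfsg.IsElementaryAbelian p V) (a : G) (ha : a ∈ Subgroup.normalizer (V : Set G)) (hq : ⁅⁅V, Subgroup.zpowers a⁆, Subgroup.zpowers a⁆ = ⊥) : Nat.card V ≤ Nat.card ↥(V ⊓ Subgroup.centralizer (Subgroup.zpowers a : Set G)) ^ 2 := by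
  haveI := hV.1
  have hconj : ∀ v ∈ V, a * v * a⁻¹ ∈ V := fun v hv => (Subgroup.mem_normalizer_iff.1 ha v).1 hv
  have hcomm : ∀ u ∈ V, ∀ v ∈ V, u * v = v * u := fun u hu v hv => by
    have := mul_comm' (⟨u, hu⟩ : V) ⟨v, hv⟩
    exact congrArg Subtype.val this
  let f : V →* V := MonoidHom.mk' (fun v => ⟨(a * v * a⁻¹) * (v : G)⁻¹, mul_mem (hconj v v.2) (inv_mem v.2)⟩) fun u v => Subtype.ext (by
    show a * ((u : G) * v) * a⁻¹ * ((u : G) * v)⁻¹ = a * u * a⁻¹ * (u : G)⁻¹ * (a * v * a⁻¹ * (v : G)⁻¹)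
    calc a * ((u : G) * v) * a⁻¹ * ((u : G) * v)⁻¹
        = a * u * a⁻¹ * (a * v * a⁻¹ * (v : G)⁻¹ * (u : G)⁻¹) := by group
      _ = a * u * a⁻¹ * ((u : G)⁻¹ * (a * v * a⁻¹ * (v : G)⁻¹)) := by
          rw [hcomm _ (inv_mem u.2) _ (mul_mem (hconj v v.2) (inv_mem v.2))]
      _ = _ := by group)
  let C : Subgroup G := V ⊓ Subgroup.centralizer (Subgroup.zpowers a : Set G)
  have hker : f.ker ≤ C.subgroupOf V := by
    intro v hv
    have h1 : a * v * a⁻¹ * (v : G)⁻¹ = 1 := congrArg Subtype.val (MonoidHom.mem_ker.1 hv)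
    refine Subgroup.mem_inf.2 ⟨v.2, Subgroup.mem_centralizer_iff.2 fun y hy => ?_⟩
    obtain ⟨k, rfl⟩ := Subgroup.mem_zpowers_iff.1 hy
    exact (Commute.zpow_left (mul_inv_eq_iff_eq_mul.1 (mul_inv_eq_one.1 h1) : Commute a (v : G)) k).eq
  have hrange : f.range ≤ C.subgroupOf V := by
    rintro _ ⟨v, rfl⟩
    refine Subgroup.mem_inf.2 ⟨(f v).2, ?_⟩
    refine Subgroup.commutator_eq_bot_iff_le_centralizer.1 hq ?_
    show a * v * a⁻¹ * (v : G)⁻¹ ∈ _
    rw [Subgroup.commutator_comm]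
    exact Subgroup.commutator_mem_commutator (Subgroup.mem_zpowers a) v.2
  have h1 := f.ker.card_eq_card_quotient_mul_card_subgroup
  rw [Nat.card_congr (QuotientGroup.quotientKerEquivRange f).toEquiv] at h1
  have h2 := Subgroup.card_le_of_le hker
  have h3 := Subgroup.card_le_of_le hrange
  rw [Nat.card_congr (Subgroup.subgroupOfEquivOfLe (inf_le_left : C ≤ V)).toEquiv] at h2 h3
  rw [h1, sq]
  exact Nat.mul_le_mul h3 h2

end Cfsg.Agent.S0591
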