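import Cfsg.Statements.S0592


set_option autoImplicit false
open Cfsg

namespace Cfsg.Agent.S0592

universe v uK uW

variable {K : Type uK} [Field K] [Fintype K] {p : ℕ} [Fact p.Prime] [CharP K p]

theorem pow_of_sq_zero {W : Type uW} [AddCommGroup W] [Module K W] (f : Module.End K W)
    (h : ∀ w, f (f w - w) = f w - w) (n : ℕ) (w : W) : (f ^ n) w = w + (n : K) • (f w - w) := by
  induction n with
  | zero => simp
  | succ n ih =>
    rw [pow_succ', Module.End.mul_apply, ih, map_add, map_smul, h w, Nat.cast_succ, add_smul, one_smul]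
    abel

theorem pow_char_eq_one {W : Type uW} [AddCommGroup W] [Module K W] (f : Module.End K W)
    (h : ∀ w, f (f w - w) = f w - w) : f ^ p = 1 := by
  refine LinearMap.ext fun w => ?_
  rw [pow_of_sq_zero f h, CharP.cast_eq_zero, zero_smul, add_zero, Module.End.one_apply]

theorem exists_eigen {W : Type uW} [AddCommGroup W] [Module K W] [Finite W] [Nontrivial W]
    (f : Module.End K W) {e k : ℕ} (hf : f ^ (p ^ e * k) = 1) (hk : k ∣ Fintype.card K - 1) :
    ∃ (c : K) (v : W), v ≠ 0 ∧ f v = c • v := by
  classical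
  -- the power `g = f ^ k` fixes a nonzero vector
  have hg : (f ^ k) ^ (p ^ e) = 1 := by rw [← pow_mul, mul_comm]; exact hf
  obtain ⟨u, hu, hgu⟩ : ∃ u : W, u ≠ 0 ∧ (f ^ k) u = u := by
    let g : (Module.End K W)ˣ := Units.ofPowEqOne (f ^ k) (p ^ e) hg (pow_ne_zero _ (Fact.out : p.Prime).ne_zero)
    have hp : IsPGroup p (Subgroup.zpowers g) := by
      obtain ⟨i, -, hi⟩ := (Nat.dvd_prime_pow (Fact.out : p.Prime)).1
        (orderOf_dvd_of_pow_eq_one (Units.pow_ofPowEqOne hg (pow_ne_zero _ (Fact.out : p.Prime).ne_zero)))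
      exact IsPGroup.of_card (n := i) (by rw [Nat.card_zpowers]; exact hi)
    have hdvd : p ∣ Nat.card W := by
      obtain ⟨w, hw⟩ := exists_ne (0 : W)
      have h1 : addOrderOf w = p := by
        refine addOrderOf_eq_prime ?_ hw
        rw [← Nat.cast_smul_eq_nsmul K, CharP.cast_eq_zero, zero_smul]
      exact h1 ▸ addOrderOf_dvd_natCard w
    obtain ⟨u, hu, hne⟩ := hp.exists_fixed_point_of_prime_dvd_card_of_fixed_point W hdvd
      (a := 0) (fun x => smul_zero x)
    exact ⟨u, hne.symm, hu ⟨g, Subgroup.mem_zpowers g⟩⟩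
  obtain ⟨m, hm⟩ := hk
  have hq : (f ^ Fintype.card K) u = f u := by
    have h1 : ∀ i, ((f ^ k) ^ i) u = u := by
      intro i
      induction i with
      | zero => simp
      | succ i ih => rw [pow_succ, Module.End.mul_apply, hgu, ih]
    have h2 : Fintype.card K = 1 + k * m := by have := Fintype.card_pos (α := K); omega
    rw [h2, pow_add, pow_one, pow_mul, Module.End.mul_apply, h1]
  by_contra hno
  push Not at hno
  have hinj : ∀ s : Multiset K, ∀ w : W,
      Polynomial.aeval f (s.map fun c => Polynomial.X - Polynomial.C c).prod w = 0 → w = 0 := by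
    intro s
    induction s using Multiset.induction with
    | empty => intro w; simp
    | cons c s ih =>
      intro w hw
      rw [Multiset.map_cons, Multiset.prod_cons, map_mul, Module.End.mul_apply] at hw
      refine ih w ?_
      by_contra hne
      refine hno c _ hne ?_
      simpa [sub_eq_zero, Module.algebraMap_end_apply] using hw
  refine hu (hinj (Polynomial.X ^ Fintype.card K - Polynomial.X : Polynomial K).roots u ?_)
  have h1 : 1 < Fintype.card K := Fintype.one_lt_card
  have hmon : (Polynomial.X ^ Fintype.card K - Polynomial.X : Polynomial K).Monic :=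
    Polynomial.monic_X_pow_sub (by rw [Polynomial.degree_X]; exact_mod_cast h1)
  rw [Polynomial.prod_multiset_X_sub_C_of_monic_of_roots_card_eq hmon (by
    rw [FiniteField.roots_X_pow_card_sub_X, FiniteField.X_pow_card_sub_X_natDegree_eq K h1]; rfl)]
  simp [hq]

variable {G : Type v} [Group G] [Finite G] {x y : G}

theorem restrict_hom {W : Type uW} [AddCommGroup W] [Module K W] (ρ : G →* Module.End K W) (U : Submodule K W)
    (hU : ∀ g, ∀ w ∈ U, ρ g w ∈ U) :
    (∃ r : G →* Module.End K U, ∀ g (w : U), ((r g w : U) : W) = ρ g w) ∧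
      ∃ r : G →* Module.End K (W ⧸ U), ∀ g (w : W), r g (Submodule.Quotient.mk w) = Submodule.Quotient.mk (ρ g w) := by
  refine ⟨⟨⟨⟨fun g => (ρ g).restrict (hU g), ?_⟩, fun g h => ?_⟩, fun g w => rfl⟩,
    ⟨⟨⟨fun g => U.mapQ U (ρ g) (hU g), ?_⟩, fun g h => ?_⟩, fun g w => rfl⟩⟩
  · ext w; simp
  · ext w; simp
  · ext w; simp
  · ext w; simp

theorem two_generated_aux (hgen : Subgroup.closure ({x, y} : Set G) = ⊤) {e k : ℕ}
    (hxy : (x * y) ^ (p ^ e * k) = 1) (hk : k ∣ Fintype.card K - 1) :
    ∀ (n : ℕ) (W : Type uW) [AddCommGroup W] [Module K W] [Finite W], Nat.card W = n →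
      ∀ ρ : G →* Module.End K W, (∀ w, ρ x (ρ x w - w) = ρ x w - w) → (∀ w, ρ y (ρ y w - w) = ρ y w - w) →
        (¬ ∀ g, ∃ i, ρ g ^ (p ^ i) = 1) →
          ∃ φ : G →* Matrix.SpecialLinearGroup (Fin 2) K, ¬ IsPGroup p φ.range := by
  intro n
  induction n using Nat.strong_induction_on with
  | _ n ih =>
    intro W _ _ _ hn ρ hx hy hnp
    classical
    haveI : Nontrivial W := by
      by_contra hs
      rw [not_nontrivial_iff_subsingleton] at hs
      exact hnp fun g => ⟨0, LinearMap.ext fun w => Subsingleton.elim _ _⟩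
    obtain ⟨c, v, hv, hcv⟩ := exists_eigen (p := p) (ρ x * ρ y) (e := e) (k := k)
      (by rw [← map_mul, ← map_pow, hxy, map_one]) hk
    rw [Module.End.mul_apply] at hcv
    obtain ⟨U, hU⟩ : ∃ U, U = Submodule.span K ({v, ρ x v} : Set W) := ⟨_, rfl⟩
    have hvU : v ∈ U := hU ▸ Submodule.subset_span (by simp)
    have hxvU : ρ x v ∈ U := hU ▸ Submodule.subset_span (by simp)
    have hxx : ρ x (ρ x v) = (2 : K) • ρ x v - v := by
      have := hx v
      rw [map_sub] at this
      rw [two_smul, eq_sub_iff_add_eq]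
      rw [sub_eq_sub_iff_add_eq_add] at this
      exact this
    have hyv : ρ y v = c • ((2 : K) • v - ρ x v) := by
      have h1 : ρ x ((2 : K) • v - ρ x v) = v := by rw [map_sub, map_smul, hxx]; abel
      have h2 : Function.Injective (ρ x) := fun a b hab => by
        have h3 := congrArg (ρ x⁻¹) hab
        rwa [← Module.End.mul_apply, ← Module.End.mul_apply, ← map_mul, inv_mul_cancel, map_one] at h3
      refine h2 ?_
      rw [hcv, map_smul, h1]
    have hc : c ≠ 0 := fun h => hv (by
      have h2 := congrArg (ρ y⁻¹) hyv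
      rw [← Module.End.mul_apply, ← map_mul, inv_mul_cancel, map_one, h, zero_smul, map_zero] at h2
      exact h2)
    have hyxv : ρ y (ρ x v) ∈ U := by
      have h1 : ρ x v = (2 : K) • v - c⁻¹ • ρ y v := by
        rw [hyv, smul_smul, inv_mul_cancel₀ hc, one_smul]; abel
      have h2 : ρ y (ρ y v) = (2 : K) • ρ y v - v := by
        have := hy v
        rw [map_sub] at this
        rw [two_smul, eq_sub_iff_add_eq]
        rw [sub_eq_sub_iff_add_eq_add] at this
        exact this
      rw [h1, map_sub, map_smul, map_smul, h2, hyv]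
      exact U.sub_mem (U.smul_mem _ (U.smul_mem _ (U.sub_mem (U.smul_mem _ hvU) hxvU)))
        (U.smul_mem _ (U.sub_mem (U.smul_mem _ (U.smul_mem _ (U.sub_mem (U.smul_mem _ hvU) hxvU))) hvU))
    have hgenU : ∀ z ∈ ({x, y} : Set G), ∀ w ∈ U, ρ z w ∈ U := by
      intro z hz w hw
      have hle : U ≤ U.comap (ρ z) := by
        conv_lhs => rw [hU]
        rw [Submodule.span_le]
        rcases hz with hz | hz <;> rw [hz] <;> rintro u (hu' | hu') <;> rw [hu']
        · exact hxvU
        · show ρ x (ρ x v) ∈ U
          rw [hxx]; exact U.sub_mem (U.smul_mem _ hxvU) hvU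
        · show ρ y v ∈ U
          rw [hyv]; exact U.smul_mem _ (U.sub_mem (U.smul_mem _ hvU) hxvU)
        · exact hyxv
      exact hle hw
    have hUinv : ∀ g, ∀ w ∈ U, ρ g w ∈ U := fun g => by
      have hg : g ∈ Submonoid.closure ({x, y} : Set G) := by
        rw [← Subgroup.closure_toSubmonoid_of_finite, hgen]
        trivial
      induction hg using Submonoid.closure_induction with
      | mem z hz => exact hgenU z hz
      | one => intro w hw; rwa [map_one]
      | mul a b _ _ ha hb => intro w hw; rw [map_mul]; exact ha _ (hb w hw)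
    by_cases htop : U = ⊤
    · have hfin : FiniteDimensional K W := Module.Finite.of_finite
      have hd2 : Module.finrank K W ≤ 2 := by
        rw [← finrank_top K W, ← htop, hU]
        refine (finrank_span_le_card _).trans ?_
        rw [Set.toFinset_insert, Set.toFinset_singleton]
        exact Finset.card_le_two
      have hd0 : 0 < Module.finrank K W := Module.finrank_pos
      rcases (show Module.finrank K W = 1 ∨ Module.finrank K W = 2 by omega) with hd | hd
      · -- one-dimensional: trivial
        exfalso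
        have htriv : ∀ z : G, (∀ w, ρ z (ρ z w - w) = ρ z w - w) → ρ z = 1 := by
          intro z hz
          refine LinearMap.ext fun w => ?_
          obtain ⟨d, hd'⟩ := (finrank_eq_one_iff_of_nonzero' v hv).1 hd (ρ z v)
          obtain ⟨d', hd''⟩ := (finrank_eq_one_iff_of_nonzero' v hv).1 hd w
          have h1 := hz v
          rw [← hd', map_sub, map_smul, ← hd', smul_smul, ← sub_eq_zero] at h1
          have h2 : ((d - 1) * (d - 1)) • v = 0 := by
            rw [← h1, sub_mul, mul_sub, one_mul, mul_one]; module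
          have h3 : d = 1 := sub_eq_zero.1 (mul_self_eq_zero.1 ((smul_eq_zero.1 h2).resolve_right hv))
          rw [← hd'', map_smul, ← hd', h3, one_smul, Module.End.one_apply]
        refine hnp fun g => ⟨0, ?_⟩
        rw [pow_zero, pow_one]
        have hker : Subgroup.closure ({x, y} : Set G) ≤ ρ.ker := by
          rw [Subgroup.closure_le]
          rintro z (rfl | rfl)
          exacts [htriv z hx, htriv z hy]
        exact hker (hgen ▸ Subgroup.mem_top g)
      · -- two-dimensional
        let B : Module.Basis (Fin 2) K W := Module.finBasisOfFinrankEq K W hd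
        let δ : G →* K := LinearMap.det.comp ρ
        have hδ : ∀ g, δ g = 1 := by
          have h1 : ∀ z : G, (∀ w, ρ z (ρ z w - w) = ρ z w - w) → δ.toHomUnits z = 1 := fun z hz => Units.ext (by
            have h2 : δ z ^ p = 1 := by
              rw [← map_pow]
              show LinearMap.det (ρ (z ^ p)) = 1
              rw [map_pow ρ, pow_char_eq_one _ hz, map_one]
            have h3 : (δ z - 1) ^ p = 0 := by rw [sub_pow_char, one_pow, h2, sub_self]
            exact sub_eq_zero.1 (pow_eq_zero_iff (Fact.out : p.Prime).ne_zero |>.1 h3))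
          have hker : Subgroup.closure ({x, y} : Set G) ≤ δ.toHomUnits.ker := by
            rw [Subgroup.closure_le]
            rintro z (rfl | rfl)
            exacts [h1 z hx, h1 z hy]
          exact fun g => congrArg Units.val (hker (hgen ▸ Subgroup.mem_top g))
        let φ : G →* Matrix.SpecialLinearGroup (Fin 2) K := MonoidHom.mk'
          (fun g => ⟨LinearMap.toMatrix B B (ρ g), (LinearMap.det_toMatrix B (ρ g)).trans (hδ g)⟩)
          fun g h => Subtype.ext (by
            show LinearMap.toMatrix B B (ρ (g * h)) = LinearMap.toMatrix B B (ρ g) * LinearMap.toMatrix B B (ρ h)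
            rw [map_mul, LinearMap.toMatrix_mul])
        refine ⟨φ, fun hp => hnp fun g => ?_⟩
        obtain ⟨i, hi⟩ := hp ⟨φ g, g, rfl⟩
        refine ⟨i, (LinearMap.toMatrix B B).injective ?_⟩
        have h4 := congrArg (fun z : φ.range => ((z : Matrix.SpecialLinearGroup (Fin 2) K) : Matrix (Fin 2) (Fin 2) K)) hi
        simp only [SubgroupClass.coe_pow, OneMemClass.coe_one] at h4
        rw [← map_pow φ, Matrix.SpecialLinearGroup.coe_one] at h4
        rw [← map_pow ρ, LinearMap.toMatrix_one]
        exact h4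
    · -- reduction
      obtain ⟨⟨r₁, hr₁⟩, r₂, hr₂⟩ := restrict_hom ρ U hUinv
      have hlt1 : Nat.card U < n := by
        rw [← hn]
        refine lt_of_le_of_ne (Nat.card_le_card_of_injective _ Subtype.val_injective) fun e => htop ?_
        have hb := (Nat.bijective_iff_injective_and_card (Subtype.val : U → W)).2 ⟨Subtype.val_injective, e⟩
        exact eq_top_iff.2 fun w _ => by obtain ⟨u, rfl⟩ := hb.2 w; exact u.2
      have hlt2 : Nat.card (W ⧸ U) < n := by
        rw [← hn]
        refine lt_of_le_of_ne (Nat.card_le_card_of_surjective _ (Submodule.mkQ_surjective U)) fun e => hv ?_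
        have hb := (Nat.bijective_iff_surjective_and_card U.mkQ).2 ⟨Submodule.mkQ_surjective U, e.symm⟩
        exact hb.1 (by rw [map_zero, Submodule.mkQ_apply, Submodule.Quotient.mk_eq_zero]; exact hvU)
      by_contra hgoal
      have hp1 : ∀ g, ∃ i, r₁ g ^ (p ^ i) = 1 := by
        by_contra h
        exact hgoal (ih _ hlt1 U rfl r₁ (fun w => Subtype.ext (by rw [hr₁, AddSubgroupClass.coe_sub, hr₁]; exact hx w))
          (fun w => Subtype.ext (by rw [hr₁, AddSubgroupClass.coe_sub, hr₁]; exact hy w)) h)
      have hp2 : ∀ g, ∃ i, r₂ g ^ (p ^ i) = 1 := by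
        by_contra h
        haveI : Finite (W ⧸ U) := Finite.of_surjective _ (Submodule.mkQ_surjective U)
        refine hgoal (ih _ hlt2 (W ⧸ U) rfl r₂ (fun w => ?_) (fun w => ?_) h) <;>
          obtain ⟨w, rfl⟩ := Submodule.Quotient.mk_surjective U w
        · rw [hr₂, ← Submodule.Quotient.mk_sub, hr₂, hx]
        · rw [hr₂, ← Submodule.Quotient.mk_sub, hr₂, hy]
      refine hnp fun g => ?_
      obtain ⟨i, hi⟩ := hp1 g
      obtain ⟨j, hj⟩ := hp2 g
      obtain ⟨g', hg'⟩ : ∃ g', g' = g ^ (p ^ (i + j)) := ⟨_, rfl⟩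
      refine ⟨i + j + 1, ?_⟩
      rw [pow_succ, pow_mul, ← map_pow, ← hg']
      refine pow_char_eq_one _ fun w => ?_
      have hU1 : ρ g' w - w ∈ U := by
        rw [← Submodule.Quotient.eq, ← hr₂, hg', map_pow, pow_add, mul_comm, pow_mul, hj, one_pow,
          Module.End.one_apply]
      obtain ⟨u, hu⟩ : ∃ u, u = ρ g' w - w := ⟨_, rfl⟩
      rw [← hu] at hU1 ⊢
      have hfix : r₁ g' = 1 := by rw [hg', map_pow, pow_add, pow_mul, hi, one_pow]
      have h2 := hr₁ g' ⟨u, hU1⟩
      rw [hfix, Module.End.one_apply] at h2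
      exact h2.symm


/-- Two quadratically acting generators of a linear group that is not a p-group, with the p'-part of the order of their product dividing q - 1, give a homomorphism onto a subgroup of SL(2, q) that is not a p-group. -/
theorem result {K : Type*} [Field K] [Fintype K] {p : ℕ} [Fact p.Prime] [CharP K p] {W : Type*} [AddCommGroup W] [Module K W] [FiniteDimensional K W] [Finite W] [Nontrivial W] (H : Subgroup (W ≃ₗ[K] W)) (a b : W ≃ₗ[K] W) (hH : H = Subgroup.closure {a, b}) (ha : ∀ w : W, a (a w - w) = a w - w) (hb : ∀ w : W, b (b w - w) = b w - w) (hnp : ¬ IsPGroup p H) (hk : ∃ e k : ℕ, orderOf (a * b) = p ^ e * k ∧ k ∣ Fintype.card K - 1) : ∃ φ : H →* Matrix.SpecialLinearGroup (Fin 2) K, ¬ IsPGroup p φ.range := by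
  classical
  haveI : Finite (W ≃ₗ[K] W) := Finite.of_injective (fun f => (f : W → W)) DFunLike.coe_injective
  subst hH
  obtain ⟨e, k, he, hk'⟩ := hk
  let H := Subgroup.closure ({a, b} : Set (W ≃ₗ[K] W))
  let x : H := ⟨a, Subgroup.subset_closure (by simp)⟩
  let y : H := ⟨b, Subgroup.subset_closure (by simp)⟩
  have hgen : Subgroup.closure ({x, y} : Set H) = ⊤ := by
    refine Subgroup.map_injective H.subtype_injective ?_
    rw [MonoidHom.map_closure, ← MonoidHom.range_eq_map, Subgroup.range_subtype, Set.image_pair]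
    rfl
  let ρ : H →* Module.End K W :=
    { toFun := fun g => ((g : W ≃ₗ[K] W) : W →ₗ[K] W)
      map_one' := rfl
      map_mul' := fun _ _ => rfl }
  refine two_generated_aux hgen (e := e) (k := k) ?_ hk' _ W rfl ρ ha hb fun hall => hnp fun g => ?_
  · exact Subtype.ext (by rw [← he]; exact pow_orderOf_eq_one (a * b))
  · obtain ⟨i, hi⟩ := hall g
    refine ⟨i, Subtype.ext (LinearEquiv.toLinearMap_injective ?_)⟩
    rw [← map_pow] at hi
    exact hi

end Cfsg.Agent.S0592
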