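import Cfsg.Statements.S0593
import Cfsg.Agent.Lib.Fusion.SL2Sections

set_option autoImplicit false
open Cfsg
open Cfsg.Agent.Fusion
open scoped commutatorElement

namespace Cfsg.Agent.S0593

/-- For odd p, a faithful group on an elementary abelian p-group generated by two quadratically acting elements is a p-group or has non-abelian Sylow 2-subgroups. -/
theorem result {G : Type*} [Group G] [Finite G] {p : ℕ} [Fact p.Prime] (hp : p ≠ 2) (V H : Subgroup G) (hV : Cfsg.IsElementaryAbelian p V) (hHV : H ≤ Subgroup.normalizer (V : Set G)) (hf : H ⊓ Subgroup.centralizer (V : Set G) = ⊥) (a b : G) (hab : H = Subgroup.closure {a, b}) (ha : ⁅⁅V, Subgroup.zpowers a⁆, Subgroup.zpowers a⁆ = ⊥) (hb : ⁅⁅V, Subgroup.zpowers b⁆, Subgroup.zpowers b⁆ = ⊥) (hnp : ¬ IsPGroup p H) (T : Sylow 2 H) : ¬ IsMulCommutative T := by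
  have hmem : ∀ c ∈ ({a, b} : Set G), c ∈ H := fun c hc => hab ▸ Subgroup.subset_closure hc
  have key : ∀ c : G, ⁅⁅V, Subgroup.zpowers c⁆, Subgroup.zpowers c⁆ = ⊥ → ∀ v ∈ V, ⁅⁅v, c⁆, c⁆ = 1 := fun c hc v hv => by
    rw [← Subgroup.mem_bot, ← hc]
    exact Subgroup.commutator_mem_commutator
      (Subgroup.commutator_mem_commutator hv (Subgroup.mem_zpowers c)) (Subgroup.mem_zpowers c)
  obtain ⟨L, M, hM, hLH, hiso⟩ := involves_sl2_of_quadratic_pair hp V H hV hHV hf
    (hmem a (by simp)) (hmem b (by simp)) (key a ha) (key b hb) (by rw [← hab]; exact hnp)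
  exact not_isMulCommutative_of_involves hp (involves_subtype hLH hiso) T

end Cfsg.Agent.S0593
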