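import Cfsg.Statements.S0594
import Cfsg.Agent.Lib.Fusion.SL2Sections
import Cfsg.Agent.S0590

set_option autoImplicit false
open Cfsg
open Cfsg.Agent.Fusion
open scoped commutatorElement

namespace Cfsg.Agent.S0594

open scoped Pointwise

/-- For odd p, two quadratic generators of a faithful group that is not a p-group, one of which acts nontrivially on a normal subgroup of order prime to p, force p = 3 and a section isomorphic to SL(2,3). -/
theorem result {G : Type*} [Group G] [Finite G] {p : ℕ} [Fact p.Prime] (hp : p ≠ 2) (V H : Subgroup G) (hV : Cfsg.IsElementaryAbelian p V) (hHV : H ≤ Subgroup.normalizer (V : Set G)) (hf : H ⊓ Subgroup.centralizer (V : Set G) = ⊥) (a b : G) (hab : H = Subgroup.closure {a, b}) (ha : ⁅⁅V, Subgroup.zpowers a⁆, Subgroup.zpowers a⁆ = ⊥) (hb : ⁅⁅V, Subgroup.zpowers b⁆, Subgroup.zpowers b⁆ = ⊥) (hnp : ¬ IsPGroup p H) (Q : Subgroup G) (hQH : Q ≤ H) (hQn : H ≤ Subgroup.normalizer (Q : Set G)) (hQ : (Nat.card Q).Coprime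 p) (hQa : ⁅Q, Subgroup.zpowers a⁆ ≠ ⊥) : p = 3 ∧ ∃ (K L : Subgroup G) (hL : (L.subgroupOf K).Normal), K ≤ H ∧ Nonempty ((K ⧸ L.subgroupOf K) ≃* Matrix.SpecialLinearGroup (Fin 2) (ZMod 3)) := by
  have haH : a ∈ H := hab ▸ Subgroup.subset_closure (by simp)
  set K₀ := Q ⊔ Subgroup.zpowers a with hK₀
  have hKH : K₀ ≤ H := sup_le hQH (Subgroup.zpowers_le.2 haH)
  have hap : a ^ p = 1 := by
    have h := Cfsg.Agent.S0590.result V (Subgroup.zpowers a) hV (Subgroup.zpowers_le.2 (hHV haH)) ha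
    have hm : a ^ p ∈ H ⊓ Subgroup.centralizer (V : Set G) :=
      ⟨pow_mem haH p, h.2 a (Subgroup.mem_zpowers a)⟩
    rwa [hf, Subgroup.mem_bot] at hm
  have hA : IsPGroup p (Subgroup.zpowers a) := IsPGroup.of_card_dvd_pow (n := 1) (by
    rw [Nat.card_zpowers, pow_one]; exact orderOf_dvd_of_pow_eq_one hap)
  set Q' := Q.subgroupOf K₀ with hQ'
  have hK₀Q : K₀ ≤ Subgroup.normalizer (Q : Set G) := hKH.trans hQn
  haveI hQ'n : Q'.Normal := (Subgroup.normal_subgroupOf_iff_le_normalizer le_sup_left).2 hK₀Q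
  have hsep : Cfsg.IsPSolvable p K₀ := by
    refine ⟨2, ![⊥, Q', ⊤], rfl, rfl, ?_, ?_, ?_⟩
    · refine Fin.monotone_iff_le_succ.2 fun i => ?_
      fin_cases i
      · exact bot_le
      · exact le_top
    · intro i
      fin_cases i
      · exact inferInstanceAs (⊥ : Subgroup K₀).Normal
      · exact hQ'n
      · exact inferInstanceAs (⊤ : Subgroup K₀).Normal
    · intro i
      fin_cases i
      · right
        show ((⊥ : Subgroup K₀).relIndex Q').Coprime p
        rw [Subgroup.relIndex_bot_left, hQ', Nat.card_congr (Subgroup.subgroupOfEquivOfLe (le_sup_left : Q ≤ K₀)).toEquiv]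
        exact hQ
      · left
        show ∃ m, Q'.relIndex ⊤ = p ^ m
        have hsurj : Function.Surjective ((QuotientGroup.mk' Q').comp (Subgroup.inclusion (le_sup_right : Subgroup.zpowers a ≤ K₀))) := by
          intro w
          obtain ⟨⟨g, hg⟩, rfl⟩ := QuotientGroup.mk'_surjective Q' w
          obtain ⟨q, hq, c, hc, rfl⟩ : ∃ q ∈ Q, ∃ c ∈ Subgroup.zpowers a, q * c = g := by
            have := (Subgroup.coe_mul_of_right_le_normalizer_left Q (Subgroup.zpowers a) (le_sup_right.trans hK₀Q))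
            exact Set.mem_mul.1 (this ▸ (hg : g ∈ (K₀ : Set G)))
          refine ⟨⟨c, hc⟩, ?_⟩
          refine QuotientGroup.eq.2 (Subgroup.mem_subgroupOf.2 ?_)
          show c⁻¹ * (q * c) ∈ Q
          rw [← mul_assoc]
          exact (Subgroup.mem_normalizer_iff''.1 (hK₀Q (Subgroup.mem_sup_right hc)) q).1 hq
        obtain ⟨m, hm⟩ := IsPGroup.iff_card.1 (hA.of_surjective _ hsurj)
        exact ⟨m, by rw [Subgroup.relIndex_top_right, ← hm]; rfl⟩
  have hna : a ∉ (Cfsg.pCore p K₀).map K₀.subtype := by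
    rintro ⟨⟨a', ha'⟩, hm, hae⟩
    obtain rfl : a' = a := hae
    refine hQa (Subgroup.commutator_eq_bot_iff_le_centralizer.2 fun q hq => ?_)
    have hdis : Q' ⊓ Cfsg.pCore p K₀ = ⊥ := coprime_inf_pGroup
      (show (Nat.card Q').Coprime p by
        rw [hQ', Nat.card_congr (Subgroup.subgroupOfEquivOfLe (le_sup_left : Q ≤ K₀)).toEquiv]; exact hQ)
      (isPGroup_pCore p K₀)
    have hc : (⟨q, Subgroup.mem_sup_left hq⟩ : K₀) * ⟨a', ha'⟩ = ⟨a', ha'⟩ * ⟨q, Subgroup.mem_sup_left hq⟩ :=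
      commutatorElement_eq_one_iff_mul_comm.1 (Subgroup.mem_bot.1 (hdis ▸
        (Subgroup.commutator_le_inf Q' (Cfsg.pCore p K₀) (Subgroup.commutator_mem_commutator (show (⟨q, Subgroup.mem_sup_left hq⟩ : K₀) ∈ Q' from hq) hm))))
    refine Subgroup.mem_centralizer_iff.2 fun x hx => ?_
    obtain ⟨i, rfl⟩ := Subgroup.mem_zpowers_iff.1 hx
    exact (Commute.zpow_right (show Commute q a' from congrArg Subtype.val hc) i).eq.symm
  obtain ⟨K, L, hL, hK, hiso⟩ := exists_sl2_section_of_not_mem_pCore hp hV (hKH.trans hHV)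
    (le_bot_iff.1 (hf ▸ inf_le_inf_right _ hKH)) (Subgroup.mem_sup_right (Subgroup.mem_zpowers a)) ha hna
  obtain rfl := eq_three_of_psolvable_involves hp hsep (involves_subtype hK hiso)
  exact ⟨rfl, K, L, hL, hK.trans hKH, hiso⟩

end Cfsg.Agent.S0594
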