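import Cfsg.Statements.S0597
import Cfsg.Agent.Lib.Local.ElemAb
import Cfsg.Agent.Lib.Solv.Subnormal
import Cfsg.Agent.Lib.Fusion.Cores
import Cfsg.Agent.S3743

set_option autoImplicit false
open Cfsg
open Cfsg.Agent.Fusion
open scoped commutatorElement

namespace Cfsg.Agent.S0597

/-- If two subnormal subgroups of a faithful group on an elementary abelian p-group satisfy [V, E₁, E₂] = 1, then their commutator lies in the largest normal p-subgroup. -/
theorem result {G : Type*} [Group G] [Finite G] {p : ℕ} [Fact p.Prime] (V H : Subgroup G) (hV : Cfsg.IsElementaryAbelian p V) (hHV : H ≤ Subgroup.normalizer (V : Set G)) (hf : H ⊓ Subgroup.centralizer (V : Set G) = ⊥) (E₁ E₂ : Subgroup G) (h₁ : E₁ ≤ H) (h₂ : E₂ ≤ H) (hs₁ : (E₁.subgroupOf H).IsSubnormal) (hs₂ : (E₂.subgroupOf H).IsSubnormal) (hc : ⁅⁅V, E₁⁆, E₂⁆ = ⊥) : ⁅E₁, E₂⁆ ≤ (Cfsg.pCore p H).map H.subtype := by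
  classical
  have hVc : ∀ x ∈ V, ∀ y ∈ V, x * y = y * x := fun x hx y hy => Agent.Local.elemAb_commute hV hx hy
  set W := ⁅V, E₁⁆ with hW
  have hWV : W ≤ V := Subgroup.commutator_le.2 fun v hv e he => by
    rw [commutatorElement_def, mul_assoc v, mul_assoc v]
    exact mul_mem hv ((Subgroup.mem_normalizer_iff.1 (hHV (h₁ he)) _).1 (inv_mem hv))
  have hWfix : ∀ e ∈ E₂, ∀ w ∈ W, e * w = w * e := fun e he w hw =>
    (commutatorElement_eq_one_iff_mul_comm.1
      (Subgroup.mem_bot.1 (hc ▸ Subgroup.commutator_mem_commutator hw he))).symm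
  have hWinv : ∀ e ∈ E₁, ∀ w ∈ W, e * w * e⁻¹ ∈ W := fun e he w hw => by
    have h := Subgroup.commutator_mem_commutator (hWV hw) he
    rw [← hW, commutatorElement_def] at h
    have := mul_mem (inv_mem h) hw
    simpa [mul_assoc] using this
  set K : Subgroup G :=
    { carrier := {c | c ∈ H ∧ (∀ w ∈ W, c * w = w * c) ∧ ∀ v ∈ V, c * v * c⁻¹ * v⁻¹ ∈ W}
      one_mem' := ⟨one_mem H, fun w _ => by rw [one_mul, mul_one], fun v _ => by simp⟩
      mul_mem' := fun {x y} hx hy => ⟨mul_mem hx.1 hy.1,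
        fun w hw => by rw [mul_assoc, hy.2.1 w hw, ← mul_assoc, hx.2.1 w hw, mul_assoc],
        fun v hv => by
          have hyv : y * v * y⁻¹ ∈ V := (Subgroup.mem_normalizer_iff.1 (hHV hy.1) v).1 hv
          rw [show x * y * v * (x * y)⁻¹ * v⁻¹ =
            x * (y * v * y⁻¹) * x⁻¹ * (y * v * y⁻¹)⁻¹ * (y * v * y⁻¹ * v⁻¹) by group]
          exact mul_mem (hx.2.2 _ hyv) (hy.2.2 v hv)⟩
      inv_mem' := fun {x} hx => ⟨inv_mem hx.1, fun w hw => ((Commute.inv_left (hx.2.1 w hw : Commute x w))).eq,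
        fun v hv => by
          have hxv := (Subgroup.mem_normalizer_iff.1 (hHV (inv_mem hx.1)) v).1 hv
          have h := inv_mem (hx.2.2 _ hxv)
          simpa [mul_assoc] using h⟩ } with hKdef
  have hKp : IsPGroup p K := fun k => ⟨1, Subtype.ext (by
    obtain ⟨hkH, hkW, hkV⟩ := k.2
    rw [pow_one, SubgroupClass.coe_pow, OneMemClass.coe_one]
    refine Subgroup.mem_bot.1 (hf ▸ Subgroup.mem_inf.2 ⟨pow_mem hkH p, Subgroup.mem_centralizer_iff.2 fun v hv => ?_⟩)
    obtain ⟨q, hq⟩ : ∃ q, q = (k : G) * v * (k : G)⁻¹ * v⁻¹ := ⟨_, rfl⟩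
    have hqW : q ∈ W := hq ▸ hkV v hv
    have hpow : ∀ j : ℕ, (k : G) ^ j * v * ((k : G) ^ j)⁻¹ = q ^ j * v := by
      intro j
      induction j with
      | zero => simp
      | succ j ih =>
        calc (k : G) ^ (j + 1) * v * ((k : G) ^ (j + 1))⁻¹ = (k : G) * ((k : G) ^ j * v * ((k : G) ^ j)⁻¹) * (k : G)⁻¹ := by
              rw [pow_succ']; group
          _ = ((k : G) * q * (k : G)⁻¹) ^ j * ((k : G) * v * (k : G)⁻¹) := by rw [ih, conj_pow]; group
          _ = q ^ j * (q * v) := by rw [hkW q hqW, mul_inv_cancel_right, hq]; group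
          _ = q ^ (j + 1) * v := by rw [pow_succ, mul_assoc]
    have h := hpow p
    rw [hV.2 q (hWV hqW), one_mul, mul_inv_eq_iff_eq_mul] at h
    exact h.symm)⟩
  have hle : ⁅E₁, E₂⁆ ≤ K := Subgroup.commutator_le.2 fun a ha b hb => by
    refine ⟨mul_mem (mul_mem (mul_mem (h₁ ha) (h₂ hb)) (inv_mem (h₁ ha))) (inv_mem (h₂ hb)), fun w hw => ?_,
      fun v hv => ?_⟩
    · have h1 := hWinv a⁻¹ (inv_mem ha) w hw
      rw [inv_inv] at h1
      have h2 : b⁻¹ * w = w * b⁻¹ := hWfix _ (inv_mem hb) w hw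
      have h3 : b * (a⁻¹ * w * a) = a⁻¹ * w * a * b := hWfix b hb _ h1
      calc ⁅a, b⁆ * w = a * b * a⁻¹ * (b⁻¹ * w) := by rw [commutatorElement_def]; group
        _ = a * (b * (a⁻¹ * w * a)) * a⁻¹ * b⁻¹ := by rw [h2]; group
        _ = w * ⁅a, b⁆ := by rw [h3, commutatorElement_def]; group
    · have hbv : b⁻¹ * v * b ∈ V := by
        simpa using (Subgroup.mem_normalizer_iff.1 (hHV (inv_mem (h₂ hb))) v).1 hv
      have hav : ∀ u ∈ V, a⁻¹ * u * a * u⁻¹ ∈ W := fun u hu => by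
        have h := inv_mem (Subgroup.commutator_mem_commutator hu (inv_mem ha))
        rw [commutatorElement_def] at h
        simpa [mul_assoc] using h
      -- `v₁ = a⁻¹ (b⁻¹ v b) a`
      set v₁ := a⁻¹ * (b⁻¹ * v * b) * a
      have hq1 : v₁ * (b⁻¹ * v * b)⁻¹ ∈ W := hav _ hbv
      set w₁ := v₁ * (b⁻¹ * v * b)⁻¹
      have e1 : b * v₁ * b⁻¹ = w₁ * v := by
        calc b * v₁ * b⁻¹ = b * w₁ * b⁻¹ * v := by simp only [w₁]; group
          _ = w₁ * v := by rw [hWfix b hb _ hq1, mul_inv_cancel_right]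
      have hav' : a * v * a⁻¹ * v⁻¹ ∈ W := by
        have h := inv_mem (Subgroup.commutator_mem_commutator hv ha)
        rw [commutatorElement_def] at h
        simpa [mul_assoc] using h
      rw [show ⁅a, b⁆ * v * ⁅a, b⁆⁻¹ * v⁻¹ = a * (b * v₁ * b⁻¹) * a⁻¹ * v⁻¹ by
        simp [v₁, commutatorElement_def, mul_assoc], e1,
        show a * (w₁ * v) * a⁻¹ * v⁻¹ = a * w₁ * a⁻¹ * (a * v * a⁻¹ * v⁻¹) by group]
      exact mul_mem (hWinv a ha _ hq1) hav'
  -- subnormality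
  set A := E₁.subgroupOf H with hA
  set B := E₂.subgroupOf H with hB
  have hmap : (⁅A, B⁆).map H.subtype = ⁅E₁, E₂⁆ := by
    rw [Subgroup.map_commutator, hA, hB, Subgroup.map_subgroupOf_eq_of_le h₁, Subgroup.map_subgroupOf_eq_of_le h₂]
  rw [← hmap]
  refine Subgroup.map_mono ?_
  have hsn : (⁅A, B⁆).IsSubnormal := by
    have hn : ((⁅A, B⁆).subgroupOf (A ⊔ B)).Normal := by
      have hN : A ⊔ B ≤ Subgroup.normalizer ((⁅A, B⁆ : Subgroup H) : Set H) :=
        sup_le (Subgroup.normalizer_commutator_ge_left _ _) (Subgroup.normalizer_commutator_ge_right _ _)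
      exact ⟨fun c hc g => by
        rw [Subgroup.mem_subgroupOf] at hc ⊢
        exact (Subgroup.mem_normalizer_iff.1 (hN g.2) _).1 hc⟩
    refine Subgroup.IsSubnormal.trans ?_ hn.isSubnormal (Agent.Solv.isSubnormal_sup hs₁ hs₂)
    exact Subgroup.commutator_le.2 fun x hx y hy => mul_mem (mul_mem (mul_mem (Subgroup.mem_sup_left hx)
      (Subgroup.mem_sup_right hy)) (inv_mem (Subgroup.mem_sup_left hx))) (inv_mem (Subgroup.mem_sup_right hy))
  refine (Agent.S3743.pi_le _ _ hsn {p} fun q hq hd => ?_).trans (sSup_le fun N hN => ?_)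
  · obtain ⟨k, hk⟩ := IsPGroup.iff_card.1 (hKp.to_le (hmap ▸ hle))
    rw [Subgroup.card_map_of_injective H.subtype_injective] at hk
    exact (Nat.prime_dvd_prime_iff_eq hq (Fact.out : p.Prime)).1 (hq.dvd_of_dvd_pow (hk ▸ hd))
  · haveI := hN.1
    exact le_pCore (IsPGroup.of_card (n := (Nat.card N).primeFactorsList.length)
      (Nat.eq_prime_pow_of_unique_prime_dvd (p := p) Nat.card_pos.ne' fun {d} hd hdN => hN.2 d hd hdN))

end Cfsg.Agent.S0597
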