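import Cfsg.Statements.S0599
import Cfsg.Agent.Lib.Fusion.Timmesfeld

set_option autoImplicit false
open Cfsg
open Cfsg.Agent.Fusion
open scoped commutatorElement

namespace Cfsg.Agent.S0599

/-- The Timmesfeld replacement Theorem: replacing a best offender A by C_A([U, A]) gives a best offender with fixed points [U, A]C_V(A), still nontrivial on V if A was. -/
theorem result {G : Type*} [Group G] [Finite G] {p : ℕ} [Fact p.Prime] (V A : Subgroup G) (hV : Cfsg.IsElementaryAbelian p V) (hAV : A ≤ Subgroup.normalizer (V : Set G)) (hA : Cfsg.IsBestOffenderOn p V A) (U : Subgroup G) (hU : U ≤ V) : Cfsg.IsBestOffenderOn p V (A ⊓ Subgroup.centralizer ((⁅U, A⁆ : Subgroup G) : Set G)) ∧ V ⊓ Subgroup.centralizer ((A ⊓ Subgroup.centralizer ((⁅U, A⁆ : Subgroup G) : Set G) : Subgroup G) : Set G) = ⁅U, A⁆ ⊔ (V ⊓ Subgroup.centralizer (A : Set G)) ∧ (⁅V, A⁆ ≠ ⊥ → ⁅V, A ⊓ Subgroup.centralizer ((⁅U, A⁆ : Subgroup G) : Set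 G)⁆ ≠ ⊥) := by
  have hVc : ∀ x ∈ V, ∀ y ∈ V, x * y = y * x := fun x hx y hy => Agent.Local.elemAb_commute hV hx hy
  obtain ⟨h1, h2⟩ := offMeasure_replacement hVc hAV hA.2.1 hU hA.1
  set B := A ⊓ Subgroup.centralizer ((⁅U, A⁆ : Subgroup G) : Set G) with hB
  have hBA : B ≤ A := inf_le_left
  refine ⟨⟨fun C hC => (hA.1 C (hC.trans hBA)).trans h1.ge,
    (Subgroup.commutator_mono hBA hBA).trans hA.2.1, fun a ha => hA.2.2 a (hBA ha)⟩, h2,
    fun hne hVB => hne ?_⟩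
  have hBV : B ≤ Subgroup.centralizer (V : Set G) :=
    Subgroup.le_centralizer_iff.1 ((Subgroup.commutator_eq_bot_iff_le_centralizer).1 hVB)
  have hVeq : V ≤ ⁅U, A⁆ ⊔ (V ⊓ Subgroup.centralizer (A : Set G)) :=
    h2 ▸ le_inf le_rfl (Subgroup.le_centralizer_iff.1 hBV)
  have hUA : ⁅U, A⁆ ≤ ⁅V, A⁆ := Subgroup.commutator_mono hU le_rfl
  have hVA : ⁅V, A⁆ ≤ V := Subgroup.commutator_le.2 fun x hx a ha => act_comm_mem hAV hx ha
  refine eq_bot_of_le_act_comm hAV (Agent.Local.elemAb_isPGroup hV) hA.2.2 hVA ?_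
  let K : Subgroup G :=
    { carrier := {v | v ∈ V ∧ ∀ a ∈ A, ⁅v, a⁆ ∈ ⁅⁅V, A⁆, A⁆}
      one_mem' := ⟨one_mem V, fun a _ => by simp⟩
      mul_mem' := fun hx hy => ⟨mul_mem hx.1 hy.1, fun a ha => by
        rw [act_comm_mul hVc hAV hx.1 hy.1 ha]; exact mul_mem (hx.2 a ha) (hy.2 a ha)⟩
      inv_mem' := fun {x} hx => ⟨inv_mem hx.1, fun a ha => by
        have h3 := act_comm_mul hVc hAV hx.1 (inv_mem hx.1) ha
        rw [mul_inv_cancel, commutatorElement_one_left] at h3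
        rw [eq_inv_of_mul_eq_one_right h3.symm]
        exact inv_mem (hx.2 a ha)⟩ }
  have hK : ⁅U, A⁆ ⊔ (V ⊓ Subgroup.centralizer (A : Set G)) ≤ K := by
    refine sup_le (fun x hx => ⟨hVA (hUA hx), fun a ha =>
      Subgroup.commutator_mem_commutator (hUA hx) ha⟩) fun x hx => ⟨hx.1, fun a ha => ?_⟩
    rw [commutatorElement_eq_one_iff_mul_comm.2 (Subgroup.mem_centralizer_iff.1 hx.2 a ha).symm]
    exact one_mem _
  exact Subgroup.commutator_le.2 fun v hv a ha => (hK (hVeq hv)).2 a ha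

end Cfsg.Agent.S0599
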