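import Cfsg.Statements.S0600
import Cfsg.Agent.Lib.Fusion.ThompsonFactor

set_option autoImplicit false
open Cfsg
open Cfsg.Agent.Fusion
open scoped commutatorElement

namespace Cfsg.Agent.S0600

/-- A normal elementary abelian p-subgroup generated by the fixed points of the Sylow p-subgroups admits no nontrivial normal p-subgroup of G modulo its centralizer. -/
theorem result {G : Type*} [Group G] [Finite G] {p : ℕ} [Fact p.Prime] (V : Subgroup G) [V.Normal] (hV : Cfsg.IsElementaryAbelian p V) (hgen : V = ⨆ S : Sylow p G, V ⊓ Subgroup.centralizer ((S : Subgroup G) : Set G)) : Cfsg.pCore p (G ⧸ Subgroup.centralizer (V : Set G)) = ⊥ := by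
  set C := Subgroup.centralizer (V : Set G)
  set D := (Cfsg.pCore p (G ⧸ C)).comap (QuotientGroup.mk' C) with hD
  have hle : C ≤ D := fun x hx => by
    rw [hD, Subgroup.mem_comap, QuotientGroup.mk'_apply, (QuotientGroup.eq_one_iff x).2 hx]; exact one_mem _
  have hrel : C.relIndex D = Nat.card (Cfsg.pCore p (G ⧸ C)) := by
    have h1 := Subgroup.relIndex_comap (⊥ : Subgroup (G ⧸ C)) (QuotientGroup.mk' C) D
    rwa [MonoidHom.comap_bot, QuotientGroup.ker_mk', hD,
      Subgroup.map_comap_eq_self_of_surjective (QuotientGroup.mk'_surjective C), Subgroup.relIndex_bot_left] at h1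
  haveI : D.Normal := Subgroup.Normal.comap inferInstance _
  have h := eq_centralizer_of_generated_fixed hgen.le hle (by
    obtain ⟨k, hk⟩ := IsPGroup.iff_card.1 (isPGroup_pCore p (G ⧸ C))
    exact ⟨k, hrel.trans hk⟩)
  rw [← Subgroup.card_eq_one, ← hrel, h, Subgroup.relIndex_self]

end Cfsg.Agent.S0600
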