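import Cfsg.Statements.S0601
import Cfsg.Agent.Lib.Fusion.ThompsonFactor

set_option autoImplicit false
open Cfsg
open Cfsg.Agent.Fusion
open scoped commutatorElement

namespace Cfsg.Agent.S0601

/-- When O_p(G) contains its centralizer, the normal closure of Ω₁(Z(S)) is elementary abelian and G has no nontrivial normal p-subgroup modulo its centralizer. -/
theorem result {G : Type*} [Group G] [Finite G] {p : ℕ} [Fact p.Prime] (hc : Subgroup.centralizer (Cfsg.pCore p G : Set G) ≤ Cfsg.pCore p G) : (⨆ S : Sylow p G, Cfsg.omegaOne p (((S : Subgroup G)) ⊓ Subgroup.centralizer ((S : Subgroup G) : Set G))).Normal ∧ Cfsg.IsElementaryAbelian p (⨆ S : Sylow p G, Cfsg.omegaOne p (((S : Subgroup G)) ⊓ Subgroup.centralizer ((S : Subgroup G) : Set G))) ∧ ∀ D : Subgroup G, D.Normal → Subgroup.centralizer ((⨆ S : Sylow p G, Cfsg.omegaOne p (((S : Subgroup G)) ⊓ Subgroup.centralizer ((S : Subgroup G) : Set G)) : Subgroup G) : Set G) ≤ D → (∃ k : ℕ, (Subgroup.centralizer ((⨆ S : Sylow p G, Cfsg.omegaOne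 p (((S : Subgroup G)) ⊓ Subgroup.centralizer ((S : Subgroup G) : Set G)) : Subgroup G) : Set G)).relIndex D = p ^ k) → D = Subgroup.centralizer ((⨆ S : Sylow p G, Cfsg.omegaOne p (((S : Subgroup G)) ⊓ Subgroup.centralizer ((S : Subgroup G) : Set G)) : Subgroup G) : Set G) := by
  have hle : ∀ S : Sylow p G, omegaZ p (S : Subgroup G) ≤ Cfsg.pCore p G := fun S =>
    le_trans (Subgroup.le_centralizer_iff.1 ((pCore_le_sylow S).trans
      (Subgroup.le_centralizer_iff.1 ((omegaZ_le _).trans inf_le_right)))) hc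
  have hel : IsElementaryAbelian p (⨆ S : Sylow p G, omegaZ p (S : Subgroup G)) := by
    have : (⨆ S : Sylow p G, omegaZ p (S : Subgroup G)) =
        Subgroup.closure (⋃ S : Sylow p G, {x : G | x ∈ (S : Subgroup G) ⊓ Subgroup.centralizer ((S : Subgroup G) : Set G) ∧ x ^ p = 1}) := by
      rw [Subgroup.closure_iUnion]; rfl
    rw [this]
    refine Agent.Local.elemAb_closure _ ?_ ?_
    · intro a ha b hb
      obtain ⟨S, haS⟩ := Set.mem_iUnion.1 ha
      obtain ⟨T, hbT⟩ := Set.mem_iUnion.1 hb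
      have hbO : b ∈ (S : Subgroup G) :=
        pCore_le_sylow S (hle T (Subgroup.subset_closure hbT))
      exact (Subgroup.mem_centralizer_iff.1 haS.1.2 b hbO).symm
    · intro a ha
      obtain ⟨S, haS⟩ := Set.mem_iUnion.1 ha
      exact haS.2
  haveI hn : (⨆ S : Sylow p G, omegaZ p (S : Subgroup G)).Normal := iSup_omegaZ_normal
  refine ⟨hn, hel, fun D hD hCD hidx => ?_⟩
  haveI := hD
  refine eq_centralizer_of_generated_fixed (iSup_le fun S => le_iSup_of_le S ?_) hCD hidx
  exact le_inf (le_iSup (fun S : Sylow p G => omegaZ p (S : Subgroup G)) S) ((omegaZ_le _).trans inf_le_right)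

end Cfsg.Agent.S0601
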