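import Cfsg.Statements.S0607
import Cfsg.Agent.Lib.Fusion.ThompsonBasics
import Cfsg.Agent.S0599

set_option autoImplicit false
open Cfsg
open Cfsg.Agent.Fusion
open scoped commutatorElement Pointwise

namespace Cfsg.Agent.S0607

/-- The replacement Theorem for the Thompson subgroup: from A of maximal order among elementary abelian p-subgroups one obtains A₀ = [V, A] C_A([V, A]) of the same kind, quadratic on V and nontrivial on V when A is. -/
theorem result {G : Type*} [Group G] [Finite G] {p : ℕ} [Fact p.Prime] (V : Subgroup G) [V.Normal] (hV : Cfsg.IsElementaryAbelian p V) (A : Subgroup G) (hA : A ∈ Cfsg.maxElementaryAbelianSubgroups p G) : (⁅V, A⁆ ⊔ (A ⊓ Subgroup.centralizer ((⁅V, A⁆ : Subgroup G) : Set G))) ∈ Cfsg.maxElementaryAbelianSubgroups p G ∧ ⁅⁅V, ⁅V, A⁆ ⊔ (A ⊓ Subgroup.centralizer ((⁅V, A⁆ : Subgroup G) : Set G))⁆, ⁅V, A⁆ ⊔ (A ⊓ Subgroup.centralizer ((⁅V, A⁆ : Subgroup G) : Set G))⁆ = ⊥ ∧ (⁅V, A⁆ ≠ ⊥ → ⁅V, ⁅V, A⁆ ⊔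 (A ⊓ Subgroup.centralizer ((⁅V, A⁆ : Subgroup G) : Set G))⁆ ≠ ⊥) := by
  have hVc : ∀ x ∈ V, ∀ y ∈ V, x * y = y * x := fun x hx y hy => Agent.Local.elemAb_commute hV hx hy
  have hAc : ∀ x ∈ A, ∀ y ∈ A, x * y = y * x := fun x hx y hy => Agent.Local.elemAb_commute hA.1 hx hy
  have hAV : A ≤ Subgroup.normalizer (V : Set G) := by
    rw [Subgroup.normalizer_eq_top]; exact le_top
  have hoff := isBestOffender_of_maxElementary V hV hA
  obtain ⟨-, h2, h3⟩ := Agent.S0599.result V A hV hAV hoff V le_rfl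
  obtain ⟨h1, -⟩ := offMeasure_replacement hVc hAV hoff.2.1 (le_refl V) hoff.1
  set W := ⁅V, A⁆ with hW
  set B := A ⊓ Subgroup.centralizer (W : Set G) with hB
  set Cv := V ⊓ Subgroup.centralizer (A : Set G) with hCv
  have hWV : W ≤ V := Subgroup.commutator_le.2 fun x hx a ha => act_comm_mem hAV hx ha
  have hBW : ∀ b ∈ B, ∀ w ∈ W, b * w = w * b := fun b hb w hw =>
    (Subgroup.mem_centralizer_iff.1 hb.2 w hw).symm
  have hel : IsElementaryAbelian p (B ⊔ W) :=
    Agent.Local.elemAb_sup (Agent.Local.elemAb_mono hA.1 inf_le_left)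
      (Agent.Local.elemAb_mono hV hWV) hBW
  have hCvA : Cv ≤ A := fun x hx => by
    have hA' := hA
    rw [maxElementary_eq_maxIn_top] at hA'
    exact mem_of_maxIn hA' (Subgroup.mem_top x)
      (isElementaryAbelian_closure_insert hA.1 (fun a ha => (Subgroup.mem_centralizer_iff.1 hx.2 a ha).symm)
        (hV.2 x hx.1))
  have hCvB : Cv ≤ B := le_inf hCvA fun x hx =>
    Subgroup.mem_centralizer_iff.2 fun w hw => hVc w (hWV hw) x hx.1
  have hmem : B ⊔ W ∈ maxElementaryAbelianSubgroups p G := by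
    refine ⟨hel, fun D hD => (hA.2 D hD).trans ?_⟩
    have e1 : Nat.card ((B : Set G) * (W : Set G) : Set G) * Nat.card ↥(B ⊓ W) = Nat.card B * Nat.card W :=
      Agent.Solv.card_mul_set_mul_card_inf B W
    have e2 : Nat.card ((W : Set G) * (Cv : Set G) : Set G) * Nat.card ↥(W ⊓ Cv) = Nat.card W * Nat.card Cv :=
      Agent.Solv.card_mul_set_mul_card_inf W Cv
    have e3 : Nat.card ((B : Set G) * (W : Set G) : Set G) ≤ Nat.card ↥(B ⊔ W) :=
      Nat.card_mono (Set.toFinite _) (by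
        rintro _ ⟨b, hb, c, hc, rfl⟩
        exact mul_mem (Subgroup.mem_sup_left hb) (Subgroup.mem_sup_right hc))
    have e4 : Nat.card ((W : Set G) * (Cv : Set G) : Set G) = Nat.card ↥(W ⊔ Cv) := by
      rw [← Subgroup.coe_mul_of_left_le_normalizer_right W Cv (fun w hw =>
        Subgroup.centralizer_le_normalizer _ (Subgroup.mem_centralizer_iff.2 fun c hc => hVc c hc.1 w (hWV hw)))]
      rfl
    have e5 : B ⊓ W = W ⊓ Cv := le_antisymm (fun x hx => ⟨hx.2, hWV hx.2, Subgroup.mem_centralizer_iff.2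
      fun a ha => hAc a ha x hx.1.1⟩) fun x hx => ⟨hCvB hx.2, hx.1⟩
    have e6 : Nat.card B * Nat.card ↥(W ⊔ Cv) = Nat.card A * Nat.card Cv := by
      rw [← h2]; exact h1
    rw [e4] at e2
    rw [e5] at e1
    refine le_trans (le_of_eq ?_) e3
    refine Nat.eq_of_mul_eq_mul_right (Nat.mul_pos (Nat.card_pos (α := ↥(W ⊓ Cv))) (Nat.card_pos (α := Cv))) ?_
    calc Nat.card A * (Nat.card ↥(W ⊓ Cv) * Nat.card Cv)
        = (Nat.card A * Nat.card Cv) * Nat.card ↥(W ⊓ Cv) := by ring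
      _ = Nat.card B * (Nat.card W * Nat.card Cv) := by rw [← e6, ← e2]; ring
      _ = _ := by rw [← mul_assoc (Nat.card B), ← e1]; ring
  rw [sup_comm W B]
  refine ⟨hmem, ?_, fun hne h0 => h3 hne (le_bot_iff.1 ?_)⟩
  · let L : Subgroup G :=
      { carrier := {g | g ∈ Subgroup.normalizer (W : Set G) ∧ ∀ v ∈ V, ⁅v, g⁆ ∈ W}
        one_mem' := ⟨one_mem _, fun v _ => by simp⟩
        mul_mem' := fun {g k} hg hk => ⟨mul_mem hg.1 hk.1, fun v hv => by
          rw [show ⁅v, g * k⁆ = ⁅v, g⁆ * (g * ⁅v, k⁆ * g⁻¹) by simp [commutatorElement_def, mul_assoc]]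
          exact mul_mem (hg.2 v hv) ((Subgroup.mem_normalizer_iff.1 hg.1 _).1 (hk.2 v hv))⟩
        inv_mem' := fun {g} hg => ⟨inv_mem hg.1, fun v hv => by
          rw [show ⁅v, g⁻¹⁆ = g⁻¹ * ⁅v, g⁆⁻¹ * g⁻¹⁻¹ by simp [commutatorElement_def, mul_assoc]]
          exact (Subgroup.mem_normalizer_iff.1 (inv_mem hg.1) _).1 (inv_mem (hg.2 v hv))⟩ }
    have hL : B ⊔ W ≤ L := sup_le
      (fun b hb => ⟨Subgroup.centralizer_le_normalizer _ hb.2,
        fun v hv => Subgroup.commutator_mem_commutator hv hb.1⟩)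
      (fun w hw => ⟨Subgroup.le_normalizer hw, fun v hv => by
        rw [commutatorElement_eq_one_iff_mul_comm.2 (hVc v hv w (hWV hw))]; exact one_mem _⟩)
    refine le_bot_iff.1 ((Subgroup.commutator_mono
      (Subgroup.commutator_le.2 fun v hv g hg => (hL hg).2 v hv : ⁅V, B ⊔ W⁆ ≤ W) le_rfl).trans (le_of_eq ?_))
    rw [Subgroup.commutator_eq_bot_iff_le_centralizer]
    exact fun w hw => Subgroup.mem_centralizer_iff.2 fun g hg =>
      Agent.Local.elemAb_commute hel hg (Subgroup.mem_sup_right hw)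
  · exact (Subgroup.commutator_mono le_rfl le_sup_left).trans h0.le

end Cfsg.Agent.S0607
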