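import Cfsg.Statements.S0612
import Cfsg.Agent.Lib.Fusion.OffenderFamily

set_option autoImplicit false
open Cfsg
open Cfsg.Agent.Fusion
open scoped commutatorElement

namespace Cfsg.Agent.S0612

/-- In such a faithful group every nontrivial best offender decomposes as a direct product of minimal nontrivially-acting best offenders. -/
theorem result {G : Type*} [Group G] [Finite G] {p : ℕ} [Fact p.Prime] (V H : Subgroup G) (hV : Cfsg.IsElementaryAbelian p V) (hHV : H ≤ Subgroup.normalizer (V : Set G)) (hf : H ⊓ Subgroup.centralizer (V : Set G) = ⊥) (hS1 : Subgroup.centralizer (Cfsg.pPrimeCore p ↥H : Set ↥H) ≤ Cfsg.pPrimeCore p ↥H) (hS3 : H = ⨆ A : {A : Subgroup G // A ≤ H ∧ Cfsg.IsBestOffenderOn p V A}, (A : Subgroup G)) (hH1 : H ≠ ⊥) (A : Subgroup G) (hAH : A ≤ H) (hA : Cfsg.IsBestOffenderOn p V A) (hA1 : A ≠ ⊥) : ∃ (k : ℕ) (B : Fin k → Subgroup G), (∀ i, B i ≤ A ∧ Cfsg.IsBestOffenderOn p V (B i) ∧ ⁅V, B i⁆ ≠ ⊥ ∧ ∀ C : Subgroup G, C ≤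 B i → Cfsg.IsBestOffenderOn p V C → ⁅V, C⁆ ≠ ⊥ → C = B i) ∧ iSupIndep B ∧ ⨆ i, B i = A := by
  classical
  have c : OffCtx p V H := ⟨hV, hHV, hf, hS1⟩
  set F : Set (Subgroup G) := {B | B ≤ A ∧ Cfsg.IsBestOffenderOn p V B ∧ Nat.card B = p}
  have hsup : F.toFinite.toFinset.sup id = A := by
    rw [Finset.sup_id_eq_sSup, Set.Finite.coe_toFinset]
    exact (c.eq_iSup_minimal hAH hA).symm
  obtain ⟨s, ⟨hsF, hsA⟩, hsmin⟩ := Set.exists_min_image {s : Finset (Subgroup G) | (↑s : Set _) ⊆ F ∧ s.sup id = A}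
    Finset.card (Set.toFinite _) ⟨_, by simp, hsup⟩
  let B : Fin s.card → Subgroup G := fun i => (s.equivFin.symm i).1
  have hBs : ∀ i, B i ∈ s := fun i => (s.equivFin.symm i).2
  have hB : ⨆ i, B i = A := by
    rw [← hsA, Finset.sup_id_eq_sSup]
    refine le_antisymm (iSup_le fun i => le_sSup (hBs i)) (sSup_le fun C hC => ?_)
    refine le_iSup_of_le (s.equivFin ⟨C, hC⟩) (le_of_eq ?_)
    simp [B]
  refine ⟨s.card, B, fun i => ?_, fun i => ?_, hB⟩
  · obtain ⟨h1, h2, h3⟩ := hsF (hBs i)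
    have h4 : ∀ C : Subgroup G, C ≠ ⊥ → C ≤ B i → C = B i := fun C hC hle => by
      refine Subgroup.eq_of_le_of_card_ge hle ?_
      rcases (Nat.dvd_prime (Fact.out : p.Prime)).1 (h3 ▸ Subgroup.card_dvd_of_le hle) with h | h
      · exact absurd (Subgroup.card_eq_one.1 h) hC
      · rw [h, h3]
    refine ⟨h1, h2, c.acts_of_ne_bot (h1.trans hAH) fun h => ?_, fun C hC _ hCV => h4 C (fun h => hCV (by rw [h, Subgroup.commutator_bot_right])) hC⟩
    rw [h, Subgroup.card_bot] at h3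
    exact (Fact.out : p.Prime).ne_one h3.symm
  · rw [disjoint_iff]
    by_contra hne
    obtain ⟨h1, h2, h3⟩ := hsF (hBs i)
    have hle : B i ≤ ⨆ (j) (_ : j ≠ i), B j := by
      have he : B i ⊓ ⨆ (j) (_ : j ≠ i), B j = B i := by
        refine Subgroup.eq_of_le_of_card_ge inf_le_left ?_
        rcases (Nat.dvd_prime (Fact.out : p.Prime)).1 (h3 ▸ Subgroup.card_dvd_of_le inf_le_left) with h | h
        · exact absurd (Subgroup.card_eq_one.1 h) hne
        · rw [h, h3]
      exact inf_eq_left.1 he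
    have hlt : (s.erase (B i)).card < s.card := Finset.card_erase_lt_of_mem (hBs i)
    refine absurd (hsmin (s.erase (B i)) ⟨fun C hC => hsF (Finset.mem_of_mem_erase hC), ?_⟩) (not_le.2 hlt)
    refine le_antisymm ((Finset.sup_mono (Finset.erase_subset _ _)).trans hsA.le) ?_
    rw [← hB]
    have hoth : ∀ j, B j ≠ B i → B j ≤ (s.erase (B i)).sup id := fun j hj =>
      Finset.le_sup (f := id) (Finset.mem_erase.2 ⟨hj, hBs j⟩)
    have hinj : ∀ j, j ≠ i → B j ≠ B i := fun j hj h => hj (s.equivFin.symm.injective (Subtype.ext h))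
    refine iSup_le fun j => ?_
    rcases eq_or_ne j i with rfl | hj
    · exact hle.trans (iSup₂_le fun k hk => hoth k (hinj k hk))
    · exact hoth j (hinj j hj)

end Cfsg.Agent.S0612
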