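import Cfsg.Statements.S0614
import Cfsg.Agent.Lib.Fusion.OffenderStructure
import Cfsg.Agent.Lib.Fusion.QuaternionSection

set_option autoImplicit false
open Cfsg
open Cfsg.Agent.Fusion
open scoped commutatorElement

namespace Cfsg.Agent.S0614

/-- The commutator of the p'-core with a minimal nontrivially-acting best offender is a 3-group (when p = 2) or a non-abelian 2-group (when p = 3). -/
theorem result {G : Type*} [Group G] [Finite G] {p : ℕ} [Fact p.Prime] (V H : Subgroup G) (hV : Cfsg.IsElementaryAbelian p V) (hHV : H ≤ Subgroup.normalizer (V : Set G)) (hf : H ⊓ Subgroup.centralizer (V : Set G) = ⊥) (hS1 : Subgroup.centralizer (Cfsg.pPrimeCore p ↥H : Set ↥H) ≤ Cfsg.pPrimeCore p ↥H) (hS3 : H = ⨆ A : {A : Subgroup G // A ≤ H ∧ Cfsg.IsBestOffenderOn p V A}, (A : Subgroup G)) (hH1 : H ≠ ⊥) (A : Subgroup G) (hAH : A ≤ H) (hA : Cfsg.IsBestOffenderOn p V A) (hAV : ⁅V, A⁆ ≠ ⊥) (hmin : ∀ B : Subgroup G, B ≤ A → Cfsg.IsBestOffenderOn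 p V B → ⁅V, B⁆ ≠ ⊥ → B = A) : (p = 2 ∧ IsPGroup 3 ↥(⁅((Cfsg.pPrimeCore p ↥H).map H.subtype), A⁆)) ∨ (p = 3 ∧ IsPGroup 2 ↥(⁅((Cfsg.pPrimeCore p ↥H).map H.subtype), A⁆) ∧ ¬ IsMulCommutative ↥(⁅((Cfsg.pPrimeCore p ↥H).map H.subtype), A⁆)) := by
  have g : OffGen p V H := ⟨⟨hV, hHV, hf, hS1⟩, hS3, hH1⟩
  obtain ⟨x, P⟩ := g.ctx.exists_pair (g.tgrp_of_minimal hAH hA hAV hmin) hAH
  obtain ⟨W, σ, -⟩ := P.exists_natural
  have hcard : Nat.card ↥((A ⊔ cjS x A) ⊓ coreIn p H) ∣ Nat.card (Matrix.SpecialLinearGroup (Fin 2) (ZMod p)) := by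
    rw [← Nat.card_congr σ.toEquiv]
    exact Subgroup.card_dvd_of_le inf_le_left
  have hcop : (Nat.card ↥((A ⊔ cjS x A) ⊓ coreIn p H)).Coprime p :=
    (coreIn_coprime (p := p) (H := H)).coprime_dvd_left (Subgroup.card_dvd_of_le inf_le_right)
  have hle := P.comm_le
  rcases P.le_two_three with rfl | rfl
  · refine Or.inl ⟨rfl, ?_⟩
    refine (IsPGroup.of_card_dvd_pow (p := 3) (n := 1) ?_ : IsPGroup 3 ↥((A ⊔ cjS x A) ⊓ coreIn 2 H)).to_le hle
    rw [show Nat.card (Matrix.SpecialLinearGroup (Fin 2) (ZMod 2)) = 2 * 3 by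
      rw [Nat.card_eq_fintype_card]; decide] at hcard
    rw [pow_one]
    exact hcop.dvd_of_dvd_mul_left hcard
  · refine Or.inr ⟨rfl, ?_, ?_⟩
    · refine (IsPGroup.of_card_dvd_pow (p := 2) (n := 3) ?_ : IsPGroup 2 ↥((A ⊔ cjS x A) ⊓ coreIn 3 H)).to_le hle
      rw [card_sl23, show 24 = 2 ^ 3 * 3 by norm_num] at hcard
      exact hcop.dvd_of_dvd_mul_right hcard
    · intro hab
      obtain ⟨Q, hQ, a, ha, b, hb, hne⟩ := exists_sl2_noncomm_two (p := 3) (by norm_num)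
      -- two elements of two-power order lie in the commutator subgroup
      have hmem : ∀ c ∈ Q, ((σ.symm c : ↥(A ⊔ cjS x A)) : G) ∈ ⁅coreIn 3 H, A⁆ := by
        intro c hc
        obtain ⟨n, hn⟩ := hQ ⟨c, hc⟩
        have hn' : c ^ 2 ^ n = 1 := congrArg Subtype.val hn
        obtain ⟨u, hu, r, hr, e⟩ := P.exists_comm_mul (σ.symm c).2
        have hQn : ∀ m : ℕ, ∃ s ∈ coreIn 3 H, (u * r) ^ m = u ^ m * s := by
          intro m
          induction m with
          | zero => exact ⟨1, one_mem _, by simp⟩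
          | succ m ih =>
            obtain ⟨s, hs, e'⟩ := ih
            refine ⟨u⁻¹ * s * u⁻¹⁻¹ * r, mul_mem (coreIn_conj (inv_mem (hAH hu)) hs) (P.comm_le hr).2, ?_⟩
            rw [pow_succ, e', pow_succ]; group
        obtain ⟨s, hs, e'⟩ := hQn (2 ^ n)
        have h1 : (u * r) ^ 2 ^ n = 1 := by
          rw [e, ← SubgroupClass.coe_pow, ← map_pow, hn', map_one, OneMemClass.coe_one]
        rw [h1] at e'
        have h2 : u ^ 2 ^ n ∈ coreIn 3 H := by
          rw [← inv_inv (u ^ 2 ^ n), ← eq_inv_of_mul_eq_one_right e'.symm]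
          exact inv_mem hs
        have h3 : u ^ 2 ^ n = 1 := coreIn_eq_one h2 (P.tg.pow_eq (pow_mem hu _))
        have h4 : u = 1 := orderOf_eq_one_iff.1 (Nat.Coprime.eq_one_of_dvd
          (k := orderOf u) (m := 2 ^ n) ((Nat.Coprime.pow_right n (by norm_num : Nat.Coprime 3 2)).coprime_dvd_left
            (orderOf_dvd_of_pow_eq_one (P.tg.pow_eq hu))) (orderOf_dvd_of_pow_eq_one h3))
        rw [← e, h4, one_mul]; exact hr
      refine hne (σ.symm.injective ?_)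
      rw [map_mul, map_mul]
      refine Subtype.ext ?_
      exact (congrArg Subtype.val (hab.is_comm.comm ⟨_, hmem a ha⟩ ⟨_, hmem b hb⟩) :)

end Cfsg.Agent.S0614
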