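import Cfsg.Statements.S0615
import Cfsg.Agent.Lib.Fusion.OffenderSL2
import Cfsg.Agent.Lib.Perm.Subnormalizer
import Cfsg.Agent.Lib.Solv.Subnormal

set_option autoImplicit false
open Cfsg
open Cfsg.Agent.Fusion
open scoped commutatorElement

namespace Cfsg.Agent.S0615

theorem pCore_bot_of_subnormal {G : Type*} [Group G] [Finite G] {p : ℕ} [Fact p.Prime] {E F : Subgroup G}
    (hFE : F ≤ E) (hs : (F.subgroupOf E).IsSubnormal) (hOp : Cfsg.pCore p ↥E = ⊥) : Cfsg.pCore p ↥F = ⊥ := by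
  let e := Subgroup.subgroupOfEquivOfLe hFE
  haveI := Agent.Solv.pCore_normal (G := ↥F) p
  have hn : ((Cfsg.pCore p ↥F).map e.symm.toMonoidHom).Normal := Subgroup.Normal.map ‹_› _ e.symm.surjective
  have hsn := Subgroup.IsSubnormal.trans' hn.isSubnormal hs
  have h := Agent.Perm.subnormal_pgroup_le_pCore hsn (((isPGroup_pCore p ↥F).map _).map _)
  rw [hOp, le_bot_iff, Subgroup.map_eq_bot_iff_of_injective _ (Subgroup.subtype_injective _),
    Subgroup.map_eq_bot_iff_of_injective _ e.symm.injective] at h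
  exact h

section
variable {p : ℕ} [Fact p.Prime] {G : Type*} [Group G] [Finite G] {V E E₁ E₂ F : Subgroup G}

omit [Fact p.Prime] [Finite G] in
theorem line_sub (hF : F ≤ Subgroup.normalizer (V : Set G)) : ⁅V, F⁆ ≤ V :=
  Subgroup.commutator_le.2 fun _ hx _ ha => act_comm_mem hF hx ha

omit [Fact p.Prime] in
theorem self_norm (hF : F ≤ Subgroup.normalizer (V : Set G)) {f : G} (hf : f ∈ F) :
    f ∈ Subgroup.normalizer ((⁅V, F⁆ : Subgroup G) : Set G) :=
  mem_normalizer_of_cj_le (by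
    rintro _ ⟨w, hw, rfl⟩
    exact conj_mem_of_comm_mem (line_sub hF) (fun _ hv => Subgroup.commutator_mem_commutator hv hf) hw)

omit [Fact p.Prime] [Finite G] in
theorem series_pow (hV : Cfsg.IsElementaryAbelian p V) (hf : E ⊓ Subgroup.centralizer (V : Set G) = ⊥)
    {W : Subgroup G} (hWV : W ≤ V) {k : G} (hk : k ∈ E) (h1 : ∀ w ∈ W, w * k = k * w)
    (h2 : ∀ v ∈ V, ⁅v, k⁆ ∈ W) : k ^ p = 1 := by
  refine Subgroup.mem_bot.1 (hf ▸ Subgroup.mem_inf.2 ⟨pow_mem hk p, Subgroup.mem_centralizer_iff.2 fun v hv => ?_⟩)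
  have hw := h2 v hv
  have hwk : k * ⁅v, k⁆⁻¹ * k⁻¹ = ⁅v, k⁆⁻¹ := by
    rw [← h1 _ (inv_mem hw), mul_inv_cancel_right]
  have hkv : k * v * k⁻¹ = ⁅v, k⁆⁻¹ * v := by simp [commutatorElement_def, mul_assoc]
  have hn : ∀ n : ℕ, k ^ n * v * (k ^ n)⁻¹ = (⁅v, k⁆⁻¹) ^ n * v := by
    intro n
    induction n with
    | zero => simp
    | succ n ih =>
      calc k ^ (n + 1) * v * (k ^ (n + 1))⁻¹ = k * (k ^ n * v * (k ^ n)⁻¹) * k⁻¹ := by
            rw [pow_succ']; group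
        _ = (k * ⁅v, k⁆⁻¹ * k⁻¹) ^ n * (k * v * k⁻¹) := by rw [ih, conj_pow]; group
        _ = _ := by rw [hwk, hkv, pow_succ]; group
  have h3 := hn p
  rw [inv_pow, hV.2 _ (hWV hw), inv_one, one_mul, mul_inv_eq_iff_eq_mul] at h3
  exact h3.symm

/-- A subnormal subgroup is faithful on its commutator module. -/
theorem faith (hV : Cfsg.IsElementaryAbelian p V) (hEV : E ≤ Subgroup.normalizer (V : Set G))
    (hf : E ⊓ Subgroup.centralizer (V : Set G) = ⊥) (hFE : F ≤ E) (hs : (F.subgroupOf E).IsSubnormal)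
    (hOp : Cfsg.pCore p ↥E = ⊥) {a : G} (ha : a ∈ F) (h : ∀ w ∈ ⁅V, F⁆, w * a = a * w) : a = 1 := by
  have hFV := hFE.trans hEV
  let C : Subgroup ↥F := (Subgroup.centralizer ((⁅V, F⁆ : Subgroup G) : Set G)).subgroupOf F
  haveI : C.Normal := ⟨fun c hc g => by
    rw [Subgroup.mem_subgroupOf, Subgroup.mem_centralizer_iff] at hc ⊢
    intro w hw
    have h1 := hc ((g : G)⁻¹ * w * g) (by
      simpa using (Subgroup.mem_normalizer_iff.1 (inv_mem (self_norm hFV g.2)) w).1 hw)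
    show w * ((g : G) * c * (g : G)⁻¹) = (g : G) * c * (g : G)⁻¹ * w
    calc w * ((g : G) * c * (g : G)⁻¹) = g * ((g : G)⁻¹ * w * g * c) * (g : G)⁻¹ := by group
      _ = g * (c * ((g : G)⁻¹ * w * g)) * (g : G)⁻¹ := by rw [h1]
      _ = _ := by group⟩
  have hC : IsPGroup p C := fun c => ⟨1, by
    rw [pow_one]
    refine Subtype.ext (Subtype.ext ?_)
    show ((c : ↥F) : G) ^ p = 1
    exact series_pow hV hf (line_sub hFV) (hFE c.1.2) (Subgroup.mem_centralizer_iff.1 c.2)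
      fun v hv => Subgroup.commutator_mem_commutator hv c.1.2⟩
  have h1 : C ≤ ⊥ := pCore_bot_of_subnormal hFE hs hOp ▸ le_pCore hC
  have h2 : (⟨a, ha⟩ : ↥F) ∈ C := Subgroup.mem_centralizer_iff.2 h
  exact congrArg Subtype.val (Subgroup.mem_bot.1 (h1 h2))

structure Pair (p : ℕ) {G : Type*} [Group G] (V E E₁ E₂ : Subgroup G) : Prop where
  hV : Cfsg.IsElementaryAbelian p V
  hEV : E ≤ Subgroup.normalizer (V : Set G)
  hf : E ⊓ Subgroup.centralizer (V : Set G) = ⊥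
  hgen : E = E₁ ⊔ E₂
  hs₁ : (E₁.subgroupOf E).IsSubnormal
  hs₂ : (E₂.subgroupOf E).IsSubnormal
  hOp : Cfsg.pCore p ↥E = ⊥
  hirr₁ : ∀ U : Subgroup G, U ≤ ⁅V, E₁⁆ → E₁ ≤ Subgroup.normalizer (U : Set G) → U = ⊥ ∨ U = ⁅V, E₁⁆
  hirr₂ : ∀ U : Subgroup G, U ≤ ⁅V, E₂⁆ → E₂ ≤ Subgroup.normalizer (U : Set G) → U = ⊥ ∨ U = ⁅V, E₂⁆
  h12 : ¬ ⁅V, E₁⁆ ≤ ⁅V, E₂⁆
  h21 : ¬ ⁅V, E₂⁆ ≤ ⁅V, E₁⁆
  hc₁ : 2 < Nat.card E₁
  hc₂ : 2 < Nat.card E₂

omit [Fact p.Prime] [Finite G] in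
theorem Pair.le₁ (P : Pair p V E E₁ E₂) : E₁ ≤ E := le_sup_left.trans P.hgen.ge

omit [Fact p.Prime] [Finite G] in
theorem Pair.le₂ (P : Pair p V E E₁ E₂) : E₂ ≤ E := le_sup_right.trans P.hgen.ge

omit [Fact p.Prime] [Finite G] in
theorem Pair.symm (P : Pair p V E E₁ E₂) : Pair p V E E₂ E₁ :=
  ⟨P.hV, P.hEV, P.hf, P.hgen.trans (sup_comm _ _), P.hs₂, P.hs₁, P.hOp, P.hirr₂, P.hirr₁, P.h21, P.h12, P.hc₂, P.hc₁⟩

theorem Pair.faith₁ (P : Pair p V E E₁ E₂) {a : G} (ha : a ∈ E₁) (h : ∀ w ∈ ⁅V, E₁⁆, w * a = a * w) : a = 1 :=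
  faith P.hV P.hEV P.hf P.le₁ P.hs₁ P.hOp ha h

/-- The conclusion, once the second group normalizes the first plane. -/
theorem Pair.of_norm (P : Pair p V E E₁ E₂)
    (h : E₂ ≤ Subgroup.normalizer ((⁅V, E₁⁆ : Subgroup G) : Set G)) :
    ⁅E₁, E₂⁆ = ⊥ ∧ ⁅V, E₁⁆ ⊓ ⁅V, E₂⁆ = ⊥ := by
  have hE1V := P.le₁.trans P.hEV
  have hE2V := P.le₂.trans P.hEV
  have hdis : ⁅V, E₁⁆ ⊓ ⁅V, E₂⁆ = ⊥ := by
    rcases P.hirr₂ (⁅V, E₁⁆ ⊓ ⁅V, E₂⁆) inf_le_right (fun e he => mem_normalizer_of_cj_le (by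
      rintro _ ⟨w, hw, rfl⟩
      exact Subgroup.mem_inf.2 ⟨(Subgroup.mem_normalizer_iff.1 (h he) w).1 hw.1,
        (Subgroup.mem_normalizer_iff.1 (self_norm hE2V he) w).1 hw.2⟩)) with h0 | h0
    · exact h0
    · exact absurd (inf_eq_right.1 h0) P.h21
  refine ⟨?_, hdis⟩
  have hfix : ∀ e ∈ E₂, ∀ w ∈ ⁅V, E₁⁆, w * e = e * w := fun e he w hw => by
    refine commutatorElement_eq_one_iff_mul_comm.1 (Subgroup.mem_bot.1 (hdis ▸ Subgroup.mem_inf.2
      ⟨?_, Subgroup.commutator_mem_commutator (line_sub hE1V hw) he⟩))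
    rw [commutatorElement_def, show w * e * w⁻¹ * e⁻¹ = w * (e * w⁻¹ * e⁻¹) by group]
    exact mul_mem hw ((Subgroup.mem_normalizer_iff.1 (h he) _).1 (inv_mem hw))
  have hEn : E ≤ Subgroup.normalizer ((⁅V, E₁⁆ : Subgroup G) : Set G) := by
    rw [P.hgen]
    exact sup_le (fun f hf => self_norm hE1V hf) h
  have hcj : ∀ g ∈ E, ∀ w ∈ ⁅V, E₁⁆, g * w * g⁻¹ ∈ ⁅V, E₁⁆ :=
    fun g hg w hw => (Subgroup.mem_normalizer_iff.1 (hEn hg) w).1 hw
  -- elements stabilizing the series through the plane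
  let K : Subgroup G :=
    { carrier := {k | k ∈ E ∧ (∀ w ∈ ⁅V, E₁⁆, w * k = k * w) ∧ ∀ v ∈ V, ⁅v, k⁆ ∈ ⁅V, E₁⁆}
      one_mem' := ⟨one_mem E, fun w _ => by simp, fun v _ => by simp⟩
      mul_mem' := by
        rintro a b ⟨ha, ha1, ha2⟩ ⟨hb, hb1, hb2⟩
        refine ⟨mul_mem ha hb, fun w hw => by rw [← mul_assoc, ha1 w hw, mul_assoc, hb1 w hw, mul_assoc], fun v hv => ?_⟩
        rw [show ⁅v, a * b⁆ = ⁅v, a⁆ * (a * ⁅v, b⁆ * a⁻¹) by simp [commutatorElement_def, mul_assoc],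
          ← ha1 _ (hb2 v hv), mul_inv_cancel_right]
        exact mul_mem (ha2 v hv) (hb2 v hv)
      inv_mem' := by
        rintro a ⟨ha, ha1, ha2⟩
        refine ⟨inv_mem ha, fun w hw => Commute.inv_right (ha1 w hw), fun v hv => ?_⟩
        rw [show ⁅v, a⁻¹⁆ = a⁻¹ * ⁅v, a⁆⁻¹ * a by simp [commutatorElement_def, mul_assoc],
          ← (Commute.inv_right (ha1 _ (inv_mem (ha2 v hv)))).eq, inv_mul_cancel_right]
        exact inv_mem (ha2 v hv) }
  have hKE : K ≤ E := fun k hk => hk.1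
  have hKn : (K.subgroupOf E).Normal := ⟨by
    intro k hk g
    rw [Subgroup.mem_subgroupOf] at hk ⊢
    obtain ⟨hk0, hk1, hk2⟩ := hk
    have hV' : ∀ v ∈ V, (g : G)⁻¹ * v * g ∈ V := fun v hv => by
      simpa using (Subgroup.mem_normalizer_iff.1 (P.hEV (inv_mem g.2)) v).1 hv
    refine ⟨(g * k * g⁻¹).2, fun w hw => ?_, fun v hv => ?_⟩
    · have h1 := hk1 ((g : G)⁻¹ * w * g) (by simpa using hcj _ (inv_mem g.2) w hw)
      show w * ((g : G) * k * (g : G)⁻¹) = (g : G) * k * (g : G)⁻¹ * w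
      calc w * ((g : G) * k * (g : G)⁻¹) = g * ((g : G)⁻¹ * w * g * k) * (g : G)⁻¹ := by group
        _ = g * (k * ((g : G)⁻¹ * w * g)) * (g : G)⁻¹ := by rw [h1]
        _ = _ := by group
    · have h1 := hcj g g.2 _ (hk2 _ (hV' v hv))
      show ⁅v, (g : G) * k * (g : G)⁻¹⁆ ∈ ⁅V, E₁⁆
      rwa [show ⁅v, (g : G) * k * (g : G)⁻¹⁆ = g * ⁅(g : G)⁻¹ * v * g, (k : G)⁆ * (g : G)⁻¹ by
        simp [commutatorElement_def, mul_assoc]]⟩
  have hKp : IsPGroup p K := fun k => ⟨1, Subtype.ext (by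
    rw [pow_one, SubgroupClass.coe_pow, OneMemClass.coe_one]
    exact series_pow P.hV P.hf (line_sub hE1V) k.2.1 k.2.2.1 k.2.2.2)⟩
  have hK : K = ⊥ := by
    have h1 := le_pCore (hn := hKn) (hKp.comap_subtype (K := E))
    rw [P.hOp, le_bot_iff, Subgroup.subgroupOf_eq_bot, disjoint_iff, inf_eq_left.2 hKE] at h1
    exact h1
  rw [eq_bot_iff, Subgroup.commutator_le]
  intro a ha b hb
  rw [← hK]
  have haE := P.le₁ ha
  have hbE := P.le₂ hb
  refine ⟨mul_mem (mul_mem (mul_mem haE hbE) (inv_mem haE)) (inv_mem hbE), fun w hw => ?_, fun v hv => ?_⟩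
  · have h1 : a⁻¹ * (b⁻¹ * w * b) * a = a⁻¹ * w * a := by
      rw [mul_assoc b⁻¹, hfix b hb w hw, inv_mul_cancel_left]
    have hw' : a⁻¹ * w * a ∈ ⁅V, E₁⁆ := by simpa using hcj _ (inv_mem haE) w hw
    have h2 := hfix b hb _ hw'
    refine (mul_inv_eq_iff_eq_mul.1 ?_).symm
    calc ⁅a, b⁆ * w * ⁅a, b⁆⁻¹ = a * (b * (a⁻¹ * (b⁻¹ * w * b) * a) * b⁻¹) * a⁻¹ := by
          simp [commutatorElement_def, mul_assoc]
      _ = a * (a⁻¹ * w * a * b * b⁻¹) * a⁻¹ := by rw [h1, ← h2]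
      _ = w := by group
  · have hv' : b⁻¹ * v * b ∈ V := by simpa using (Subgroup.mem_normalizer_iff.1 (hE2V (inv_mem hb)) v).1 hv
    have e1 : ⁅v, a * (b * a⁻¹ * b⁻¹)⁆ = ⁅v, a⁆ * (a * (b * ⁅b⁻¹ * v * b, a⁻¹⁆ * b⁻¹) * a⁻¹) := by
      simp [commutatorElement_def, mul_assoc]
    rw [show ⁅a, b⁆ = a * (b * a⁻¹ * b⁻¹) by simp [commutatorElement_def, mul_assoc], e1]
    exact mul_mem (Subgroup.commutator_mem_commutator hv ha)
      (hcj a haE _ (hcj b hbE _ (Subgroup.commutator_mem_commutator hv' (inv_mem ha))))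

omit [Fact p.Prime] [Finite G] in
theorem pair_ne_top (P : Pair p V E E₁ E₂) : E₂ ≠ E := fun h => P.h12 (by
  have := Subgroup.commutator_mono (le_refl V) P.le₁
  rwa [← h] at this)

omit [Fact p.Prime] [Finite G] in
theorem mem_conj_iff {X : Subgroup G} {g z : G} :
    z ∈ X.map (MulAut.conj g).toMonoidHom ↔ g⁻¹ * z * g ∈ X := by
  constructor
  · rintro ⟨x, hx, rfl⟩
    simpa [mul_assoc] using hx
  · intro h
    exact ⟨_, h, by simp [mul_assoc]⟩

omit [Fact p.Prime] [Finite G] in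
theorem map_conj_mul {X : Subgroup G} (g h : G) :
    X.map (MulAut.conj (g * h)).toMonoidHom = (X.map (MulAut.conj h).toMonoidHom).map (MulAut.conj g).toMonoidHom := by
  ext z
  rw [mem_conj_iff, mem_conj_iff, mem_conj_iff]
  simp [mul_assoc]

omit [Fact p.Prime] [Finite G] in
theorem map_conj_inv_eq {X : Subgroup G} {g : G} (h : X.map (MulAut.conj g⁻¹).toMonoidHom = X) :
    X.map (MulAut.conj g).toMonoidHom = X := by
  conv_lhs => rw [← h]
  rw [← map_conj_mul, mul_inv_cancel]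
  ext z
  rw [mem_conj_iff]
  simp

/-- The main induction. -/
theorem main : ∀ n : ℕ, ∀ {E E₁ E₂ : Subgroup G}, Pair p V E E₁ E₂ → Nat.card E ≤ n →
    ⁅E₁, E₂⁆ = ⊥ ∧ ⁅V, E₁⁆ ⊓ ⁅V, E₂⁆ = ⊥ := by
  intro n
  induction n using Nat.strong_induction_on with
  | _ n ih =>
    intro E E₁ E₂ P hn
    by_cases hA : E₂ ≤ Subgroup.normalizer ((⁅V, E₁⁆ : Subgroup G) : Set G)
    · exact P.of_norm hA
    by_cases hB : E₁ ≤ Subgroup.normalizer ((⁅V, E₂⁆ : Subgroup G) : Set G)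
    · obtain ⟨h1, h2⟩ := P.symm.of_norm hB
      exact ⟨by rwa [Subgroup.commutator_comm], by rwa [inf_comm]⟩
    exfalso
    -- the normal closures normalize the planes
    have key : ∀ {E₁ E₂ : Subgroup G}, Pair p V E E₁ E₂ →
        ∃ N : Subgroup G, E₂ ≤ N ∧ (∀ g ∈ E, ∀ f ∈ N, g * f * g⁻¹ ∈ N) ∧
          N ≤ Subgroup.normalizer ((⁅V, E₂⁆ : Subgroup G) : Set G) ∧
          ∀ g ∈ E, (⁅V, E₂⁆).map (MulAut.conj g).toMonoidHom ≠ ⁅V, E₂⁆ →
            ⁅V, E₂⁆ ⊓ (⁅V, E₂⁆).map (MulAut.conj g).toMonoidHom = ⊥ ∧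
            ∀ f ∈ E₂, ∀ w ∈ (⁅V, E₂⁆).map (MulAut.conj g).toMonoidHom, w * f = f * w := by
      intro E₁ E₂ P
      obtain h | ⟨N₀, hN₀, hle₀, hlt₀⟩ := P.hs₂.lt_normal
      · exact absurd (le_antisymm P.le₂ (Subgroup.subgroupOf_eq_top.1 h)) (pair_ne_top P)
      have hlt : Nat.card ↥(N₀.map E.subtype) < Nat.card E := by
        rw [Subgroup.card_map_of_injective E.subtype_injective]
        have := Agent.Solv.card_lt_of_lt hlt₀
        rwa [Subgroup.card_top] at this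
      have hEV := P.hEV
      have hE2V := P.le₂.trans hEV
      have hN : ∀ g ∈ E, ∀ f ∈ E₂, g * f * g⁻¹ ∈ N₀.map E.subtype := fun g hg f hf =>
        ⟨⟨g, hg⟩ * ⟨f, P.le₂ hf⟩ * ⟨g, hg⟩⁻¹, hN₀.conj_mem _ (hle₀ (show (⟨f, P.le₂ hf⟩ : ↥E) ∈ _ from hf)) _, rfl⟩
      have cases : ∀ g ∈ E, (⁅V, E₂⁆).map (MulAut.conj g).toMonoidHom = ⁅V, E₂⁆ ∨
          (⁅E₂, E₂.map (MulAut.conj g).toMonoidHom⁆ = ⊥ ∧
            ⁅V, E₂⁆ ⊓ (⁅V, E₂⁆).map (MulAut.conj g).toMonoidHom = ⊥) := by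
        intro g hg
        by_cases he : (⁅V, E₂⁆).map (MulAut.conj g).toMonoidHom = ⁅V, E₂⁆
        · exact Or.inl he
        right
        obtain ⟨F, hF⟩ : ∃ F, F = E₂.map (MulAut.conj g).toMonoidHom := ⟨_, rfl⟩
        rw [← hF]
        have hinj : Function.Injective (MulAut.conj g).toMonoidHom := (MulAut.conj g).injective
        have hWg : ⁅V, F⁆ = (⁅V, E₂⁆).map (MulAut.conj g).toMonoidHom := by
          rw [hF, Subgroup.map_commutator, map_conj_self (hEV hg)]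
        have hFE : F ≤ E := by
          rw [hF]; rintro _ ⟨f, hf, rfl⟩; exact mul_mem (mul_mem hg (P.le₂ hf)) (inv_mem hg)
        have hsF : (F.subgroupOf E).IsSubnormal := by
          have h := P.hs₂.map (f := (MulAut.conj (⟨g, hg⟩ : ↥E)).toMonoidHom) (MulAut.conj (⟨g, hg⟩ : ↥E)).surjective
          have e : (E₂.subgroupOf E).map (MulAut.conj (⟨g, hg⟩ : ↥E)).toMonoidHom = F.subgroupOf E := by
            ext z
            rw [hF, Subgroup.mem_subgroupOf]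
            constructor
            · rintro ⟨f, hf, rfl⟩
              exact ⟨f, hf, rfl⟩
            · rintro ⟨f, hf, e⟩
              exact ⟨⟨f, P.le₂ hf⟩, hf, Subtype.ext e⟩
          rwa [e] at h
        have hE'N : E₂ ⊔ F ≤ N₀.map E.subtype := by
          refine sup_le (fun f hf => by simpa using hN 1 (one_mem E) f hf) ?_
          rw [hF]; rintro _ ⟨f, hf, rfl⟩; exact hN g hg f hf
        have hE'E : E₂ ⊔ F ≤ E := sup_le P.le₂ hFE
        have hs' : ((E₂ ⊔ F).subgroupOf E).IsSubnormal := by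
          rw [Subgroup.subgroupOf_sup P.le₂ hFE]
          exact Agent.Solv.isSubnormal_sup P.hs₂ hsF
        have hcardW : Nat.card ↥(⁅V, F⁆) = Nat.card ↥(⁅V, E₂⁆) := by
          rw [hWg, Subgroup.card_map_of_injective hinj]
        have hirrF : ∀ U : Subgroup G, U ≤ ⁅V, F⁆ → F ≤ Subgroup.normalizer (U : Set G) → U = ⊥ ∨ U = ⁅V, F⁆ := by
          intro U hU hUn
          rw [hWg] at hU ⊢
          have hU' : (U.comap (MulAut.conj g).toMonoidHom).map (MulAut.conj g).toMonoidHom = U :=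
            Subgroup.map_comap_eq_self_of_surjective (MulAut.conj g).surjective U
          rcases P.hirr₂ (U.comap (MulAut.conj g).toMonoidHom) (fun z hz => (by
              obtain ⟨z', hz', e⟩ := hU (Subgroup.mem_comap.1 hz)
              rwa [← hinj e]))
            (fun f hf => mem_normalizer_of_cj_le (by
              rintro _ ⟨z, hz, rfl⟩
              show (MulAut.conj g).toMonoidHom (f * z * f⁻¹) ∈ U
              rw [map_mul, map_mul, map_inv]
              exact (Subgroup.mem_normalizer_iff.1 (hUn (hF ▸ ⟨f, hf, rfl⟩)) _).1 hz)) with h | h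
          · left; rw [← hU', h, Subgroup.map_bot]
          · right; rw [← hU', h]
        have P' : Pair p V (E₂ ⊔ F) E₂ F := ⟨P.hV, hE'E.trans hEV,
          le_bot_iff.1 (P.hf ▸ inf_le_inf_right _ hE'E), rfl, P.hs₂.comap (Subgroup.inclusion hE'E),
          hsF.comap (Subgroup.inclusion hE'E), pCore_bot_of_subnormal hE'E hs' P.hOp, P.hirr₂, hirrF,
          fun h => he (hWg.symm.trans (Subgroup.eq_of_le_of_card_ge h hcardW.le).symm),
          fun h => he (hWg.symm.trans (Subgroup.eq_of_le_of_card_ge h hcardW.ge)),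
          P.hc₂, by rw [hF, Subgroup.card_map_of_injective hinj]; exact P.hc₂⟩
        have h := ih _ (lt_of_lt_of_le hlt hn) P' (Subgroup.card_le_of_le hE'N)
        rw [hWg] at h
        exact h
      have hmoved : ∀ g ∈ E, ⁅E₂, E₂.map (MulAut.conj g).toMonoidHom⁆ = ⊥ →
          ∀ f ∈ E₂, ∀ u ∈ E₂.map (MulAut.conj g).toMonoidHom, f * u = u * f := fun g _ h f hf u hu =>
        commutatorElement_eq_one_iff_mul_comm.1 (Subgroup.mem_bot.1 (h ▸ Subgroup.commutator_mem_commutator hf hu))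
      refine ⟨⨆ g : ↥E, E₂.map (MulAut.conj (g : G)).toMonoidHom, ?_, ?_, ?_, ?_⟩
      · intro f hf
        exact Subgroup.mem_iSup_of_mem (1 : ↥E) ⟨f, hf, by simp⟩
      · intro g hg f hf
        refine Subgroup.iSup_induction (fun k : ↥E => E₂.map (MulAut.conj (k : G)).toMonoidHom)
          (C := fun x => g * x * g⁻¹ ∈ ⨆ k : ↥E, E₂.map (MulAut.conj (k : G)).toMonoidHom) hf ?_ ?_ ?_
        · rintro k _ ⟨u, hu, rfl⟩
          exact Subgroup.mem_iSup_of_mem (⟨g, hg⟩ * k) ⟨u, hu, by simp [mul_assoc]⟩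
        · simp
        · intro x y hx hy
          rw [show g * (x * y) * g⁻¹ = g * x * g⁻¹ * (g * y * g⁻¹) by group]
          exact mul_mem hx hy
      · refine iSup_le fun g => ?_
        rintro _ ⟨f, hf, rfl⟩
        rcases cases g g.2 with h | ⟨h, -⟩
        · have h1 : (g : G) ∈ Subgroup.normalizer ((⁅V, E₂⁆ : Subgroup G) : Set G) := mem_normalizer_of_cj_le h.le
          exact mul_mem (mul_mem h1 (self_norm hE2V hf)) (inv_mem h1)
        · refine mem_normalizer_of_cj_le (le_of_eq ?_)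
          show Subgroup.map (MulAut.conj ((g : G) * f * (g : G)⁻¹)).toMonoidHom _ = _
          rw [Subgroup.map_commutator, map_conj_self (mul_mem (mul_mem (hEV g.2) (hE2V hf)) (inv_mem (hEV g.2))),
            map_conj_self]
          refine mem_normalizer_of_cj_le ?_
          rintro _ ⟨u, hu, rfl⟩
          show (g : G) * f * (g : G)⁻¹ * u * ((g : G) * f * (g : G)⁻¹)⁻¹ ∈ E₂
          have e : u * ((g : G) * f * (g : G)⁻¹) = (g : G) * f * (g : G)⁻¹ * u := hmoved g g.2 h u hu _ ⟨f, hf, rfl⟩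
          rw [← e, mul_inv_cancel_right]
          exact hu
      · intro g hg he
        rcases cases g hg with h | ⟨h, hd⟩
        · exact absurd h he
        refine ⟨hd, fun f hf w hw => ?_⟩
        refine commutatorElement_eq_one_iff_mul_comm.1 (Subgroup.mem_bot.1 (hd ▸ ?_))
        refine Subgroup.mem_inf.2 ⟨Subgroup.commutator_mem_commutator ?_ hf, ?_⟩
        · rw [← map_conj_self (hEV hg)]
          exact Subgroup.map_mono (line_sub hE2V) hw
        · have hn : f ∈ Subgroup.normalizer (((⁅V, E₂⁆).map (MulAut.conj g).toMonoidHom : Subgroup G) : Set G) := by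
            refine mem_normalizer_of_cj_le (le_of_eq ?_)
            show Subgroup.map (MulAut.conj f).toMonoidHom _ = _
            rw [Subgroup.map_commutator, map_conj_self (hEV hg), Subgroup.map_commutator,
              map_conj_self (hE2V hf), map_conj_self]
            refine mem_normalizer_of_cj_le ?_
            rintro _ ⟨u, hu, rfl⟩
            show f * u * f⁻¹ ∈ _
            rw [hmoved g hg h f hf u hu]
            simpa using hu
          rw [commutatorElement_def, show w * f * w⁻¹ * f⁻¹ = w * (f * w⁻¹ * f⁻¹) by group]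
          exact mul_mem hw ((Subgroup.mem_normalizer_iff.1 hn _).1 (inv_mem hw))
    obtain ⟨N2, hN2E, hN2c, hN2n, hN2m⟩ := key P
    obtain ⟨N1, hN1E, hN1c, hN1n, hN1m⟩ := key P.symm
    have hE1V := P.le₁.trans P.hEV
    have hE2V := P.le₂.trans P.hEV
    obtain ⟨e, he, hem⟩ : ∃ e ∈ E₂, e⁻¹ ∈ E ∧ (⁅V, E₁⁆).map (MulAut.conj e⁻¹).toMonoidHom ≠ ⁅V, E₁⁆ := by
      by_contra hne
      push_neg at hne
      exact hA fun e he => mem_normalizer_of_cj_le (map_conj_inv_eq (hne e he (inv_mem (P.le₂ he)))).le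
    have heW : ∀ u ∈ E₁, ∀ w ∈ ⁅V, E₁⁆, w * (e * u * e⁻¹) = e * u * e⁻¹ * w := by
      intro u hu w hw
      have h := (hN1m e⁻¹ hem.1 hem.2).2 u hu (e⁻¹ * w * e) (mem_conj_iff.2 (by simpa [mul_assoc] using hw))
      calc w * (e * u * e⁻¹) = e * (e⁻¹ * w * e * u) * e⁻¹ := by group
        _ = e * (u * (e⁻¹ * w * e)) * e⁻¹ := by rw [h]
        _ = _ := by group
    have hR : ∀ x ∈ E₁, ∃ c ∈ N1 ⊓ N2, ∀ w ∈ ⁅V, E₁⁆, c * w * c⁻¹ = x * w * x⁻¹ := by
      intro x hx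
      refine ⟨x * (e * x⁻¹ * e⁻¹), Subgroup.mem_inf.2
        ⟨mul_mem (hN1E hx) (hN1c e (P.le₂ he) _ (hN1E (inv_mem hx))), ?_⟩, fun w hw => ?_⟩
      · rw [show x * (e * x⁻¹ * e⁻¹) = x * e * x⁻¹ * e⁻¹ by group]
        exact mul_mem (hN2c x (P.le₁ hx) _ (hN2E he)) (hN2E (inv_mem he))
      · calc x * (e * x⁻¹ * e⁻¹) * w * (x * (e * x⁻¹ * e⁻¹))⁻¹
            = x * (e * x⁻¹ * e⁻¹ * w * (e * x⁻¹ * e⁻¹)⁻¹) * x⁻¹ := by group
          _ = _ := by rw [← heW x⁻¹ (inv_mem hx) w hw, mul_inv_cancel_right]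
    have hirr : ∀ X : Subgroup G, N1 ⊓ N2 ≤ Subgroup.normalizer (X : Set G) →
        ⁅V, E₁⁆ ⊓ X ≠ ⊥ → ⁅V, E₁⁆ ≤ X := by
      intro X hX hne
      rcases P.hirr₁ (⁅V, E₁⁆ ⊓ X) inf_le_left (fun x hx => mem_normalizer_of_cj_le (by
        rintro _ ⟨w, hw, rfl⟩
        obtain ⟨hw1, hw2⟩ := Subgroup.mem_inf.1 hw
        obtain ⟨c, hc, hcx⟩ := hR x hx
        show x * w * x⁻¹ ∈ _
        rw [← hcx w hw1]
        exact Subgroup.mem_inf.2 ⟨(Subgroup.mem_normalizer_iff.1 (hN1n (Subgroup.mem_inf.1 hc).1) w).1 hw1,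
          (Subgroup.mem_normalizer_iff.1 (hX hc) w).1 hw2⟩)) with h | h
      · exact absurd h hne
      · exact inf_eq_left.1 h
    have hdis : ⁅V, E₁⁆ ⊓ ⁅V, E₂⁆ = ⊥ := by
      by_contra hne
      exact P.h12 (hirr _ (inf_le_right.trans hN2n) hne)
    have hRn : ∀ g ∈ E, N1 ⊓ N2 ≤
        Subgroup.normalizer (((⁅V, E₂⁆).map (MulAut.conj g).toMonoidHom : Subgroup G) : Set G) := by
      intro g hg r hr
      refine mem_normalizer_of_cj_le ?_
      rintro _ ⟨z, hz, rfl⟩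
      have h1 : g⁻¹ * r * g ∈ N2 := by simpa using hN2c g⁻¹ (inv_mem hg) r (Subgroup.mem_inf.1 hr).2
      have h2 := (Subgroup.mem_normalizer_iff.1 (hN2n h1) _).1 (mem_conj_iff.1 hz)
      rw [mem_conj_iff]
      show g⁻¹ * (r * z * r⁻¹) * g ∈ _
      convert h2 using 1; group
    -- the first plane lies in any moved pair of conjugates
    have hle : ∀ x ∈ E₁, (⁅V, E₂⁆).map (MulAut.conj x).toMonoidHom ≠ ⁅V, E₂⁆ →
        ⁅V, E₁⁆ ≤ ⁅V, E₂⁆ ⊔ (⁅V, E₂⁆).map (MulAut.conj x).toMonoidHom := by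
      intro x hx hxm
      refine hirr _ ((le_inf (inf_le_right.trans hN2n) (hRn x (P.le₁ hx))).trans fun r hr => ?_) fun h0 => hxm ?_
      · obtain ⟨hr1, hr2⟩ := Subgroup.mem_inf.1 hr
        refine mem_normalizer_of_cj_le (le_of_eq ?_)
        show Subgroup.map (MulAut.conj r).toMonoidHom _ = _
        rw [Subgroup.map_sup, map_conj_self hr1, map_conj_self hr2]
      · refine map_conj_self (mem_normalizer_of_cj_le ?_)
        rintro _ ⟨w, hw, rfl⟩
        have h1 : ⁅w, x⁆ = 1 := Subgroup.mem_bot.1 (h0 ▸ Subgroup.mem_inf.2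
          ⟨Subgroup.commutator_mem_commutator (line_sub hE2V hw) hx, by
            rw [commutatorElement_def, show w * x * w⁻¹ * x⁻¹ = w * (x * w⁻¹ * x⁻¹) by group]
            exact mul_mem (Subgroup.mem_sup_left hw) (Subgroup.mem_sup_right ⟨w⁻¹, inv_mem hw, rfl⟩)⟩)
        show x * w * x⁻¹ ∈ _
        rw [← commutatorElement_eq_one_iff_mul_comm.1 h1, mul_inv_cancel_right]
        exact hw
    -- all movers agree
    have hsame : ∀ x ∈ E₁, ∀ y ∈ E₁, (⁅V, E₂⁆).map (MulAut.conj x).toMonoidHom ≠ ⁅V, E₂⁆ →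
        (⁅V, E₂⁆).map (MulAut.conj y).toMonoidHom ≠ ⁅V, E₂⁆ →
        (⁅V, E₂⁆).map (MulAut.conj x).toMonoidHom = (⁅V, E₂⁆).map (MulAut.conj y).toMonoidHom := by
      intro x hx y hy hxm hym
      by_contra hne
      have hfix : ∀ g ∈ E, (⁅V, E₂⁆).map (MulAut.conj g).toMonoidHom ≠ (⁅V, E₂⁆).map (MulAut.conj y).toMonoidHom →
          ∀ f ∈ E₂, (⁅V, E₂⁆).map (MulAut.conj g).toMonoidHom ≤ Subgroup.centralizer {y * f * y⁻¹} := by
        intro g hg hgm f hf w hw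
        have hm : (⁅V, E₂⁆).map (MulAut.conj (y⁻¹ * g)).toMonoidHom ≠ ⁅V, E₂⁆ := fun h => hgm (by
          conv_rhs => rw [← h, ← map_conj_mul, mul_inv_cancel_left])
        have h := (hN2m _ (mul_mem (inv_mem (P.le₁ hy)) hg) hm).2 f hf (y⁻¹ * w * y) (mem_conj_iff.2 (by
          simpa [mul_assoc] using mem_conj_iff.1 hw))
        rw [Subgroup.mem_centralizer_singleton_iff]
        calc w * (y * f * y⁻¹) = y * (y⁻¹ * w * y * f) * y⁻¹ := by group
          _ = y * (f * (y⁻¹ * w * y)) * y⁻¹ := by rw [h]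
          _ = _ := by group
      have hone : (⁅V, E₂⁆).map (MulAut.conj (1 : G)).toMonoidHom = ⁅V, E₂⁆ :=
        map_conj_self (one_mem _)
      refine P.h12 fun w hw => ?_
      have hsup := hle y hy hym hw
      obtain ⟨a, ha, b, hb, rfl⟩ : ∃ a ∈ ⁅V, E₂⁆, ∃ b ∈ (⁅V, E₂⁆).map (MulAut.conj y).toMonoidHom, a * b = w := by
        have hnorm : ⁅V, E₂⁆ ≤ Subgroup.normalizer (((⁅V, E₂⁆).map (MulAut.conj y).toMonoidHom : Subgroup G) : Set G) := ?_
        · exact Set.mem_mul.1 (by rw [← Subgroup.coe_mul_of_left_le_normalizer_right _ _ hnorm]; exact hsup)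
        intro z hz
        refine mem_normalizer_of_cj_le ?_
        rintro _ ⟨u, hu, rfl⟩
        have huV : u ∈ V := by
          rw [← map_conj_self (hE1V hy)]; exact Subgroup.map_mono (line_sub hE2V) hu
        have := congrArg Subtype.val (P.hV.1.is_comm.comm (⟨z, line_sub hE2V hz⟩ : ↥V) ⟨u, huV⟩)
        show z * u * z⁻¹ ∈ _
        simp only [Subgroup.coe_mul] at this
        rw [this, mul_inv_cancel_right]
        exact hu
      suffices hb1 : b = 1 by rw [hb1, mul_one]; exact ha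
      rcases P.hirr₂ (⁅V, E₂⁆ ⊓ Subgroup.centralizer (E₂ : Set G)) inf_le_left (fun f hf => mem_normalizer_of_cj_le (by
        rintro _ ⟨u, hu, rfl⟩
        have hu' := Subgroup.mem_centralizer_iff.1 (Subgroup.mem_inf.1 hu).2 f hf
        show f * u * f⁻¹ ∈ _
        rw [hu', mul_inv_cancel_right]
        exact hu)) with h | h
      · have hm : y⁻¹ * b * y ∈ ⁅V, E₂⁆ ⊓ Subgroup.centralizer (E₂ : Set G) := by
          refine Subgroup.mem_inf.2 ⟨mem_conj_iff.1 hb, Subgroup.mem_centralizer_iff.2 fun f hf => ?_⟩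
          have hC : a * b ∈ Subgroup.centralizer {y * f * y⁻¹} :=
            (hle x hx hxm).trans (sup_le (by
              have := hfix 1 (one_mem E) (by rw [hone]; exact Ne.symm hym) f hf
              rwa [hone] at this) (hfix x (P.le₁ hx) hne f hf)) hw
          have hCa : a ∈ Subgroup.centralizer {y * f * y⁻¹} :=
            hfix 1 (one_mem E) (by rw [hone]; exact Ne.symm hym) f hf (by rw [hone]; exact ha)
          have hCb := Subgroup.mem_centralizer_singleton_iff.1 ((Subgroup.mul_mem_cancel_left _ hCa).1 hC)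
          calc f * (y⁻¹ * b * y) = y⁻¹ * (y * f * y⁻¹ * b) * y := by group
            _ = y⁻¹ * (b * (y * f * y⁻¹)) * y := by rw [hCb]
            _ = _ := by group
        rw [h, Subgroup.mem_bot] at hm
        simpa using conj_eq_one_iff.1 (show y⁻¹ * b * y⁻¹⁻¹ = 1 by rw [inv_inv]; exact hm)
      · exfalso
        have hc : 2 < Nat.card E₂ := P.hc₂
        rw [(Subgroup.eq_bot_iff_forall _).2 fun f hf => P.symm.faith₁ hf fun u hu =>
          ((Subgroup.mem_centralizer_iff.1 (inf_eq_left.1 h hu)) f hf).symm] at hc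
        rw [Subgroup.card_bot] at hc
        omega
    obtain ⟨x₀, hx₀, hx₀m⟩ : ∃ x ∈ E₁, (⁅V, E₂⁆).map (MulAut.conj x).toMonoidHom ≠ ⁅V, E₂⁆ := by
      by_contra hne
      push_neg at hne
      exact hB fun x hx => mem_normalizer_of_cj_le (hne x hx).le
    have hfixW : ∀ z ∈ E₁, (⁅V, E₂⁆).map (MulAut.conj z).toMonoidHom = ⁅V, E₂⁆ → ∀ w ∈ ⁅V, E₂⁆, w * z = z * w := by
      intro z hz hzf w hw
      refine commutatorElement_eq_one_iff_mul_comm.1 (Subgroup.mem_bot.1 (hdis ▸ Subgroup.mem_inf.2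
        ⟨Subgroup.commutator_mem_commutator (line_sub hE2V hw) hz, ?_⟩))
      rw [commutatorElement_def, show w * z * w⁻¹ * z⁻¹ = w * (z * w⁻¹ * z⁻¹) by group]
      exact mul_mem hw (hzf.le ⟨w⁻¹, inv_mem hw, rfl⟩)
    have htriv : ∀ z ∈ E₁, (⁅V, E₂⁆).map (MulAut.conj z).toMonoidHom = ⁅V, E₂⁆ → z = 1 := by
      intro z hz hzf
      have hzx : (⁅V, E₂⁆).map (MulAut.conj (z * x₀)).toMonoidHom ≠ ⁅V, E₂⁆ := by
        rw [map_conj_mul]
        intro h
        exact hx₀m (Subgroup.map_injective (MulAut.conj z).injective (h.trans hzf.symm))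
      have he2 : (⁅V, E₂⁆).map (MulAut.conj (x₀⁻¹ * z * x₀)).toMonoidHom = ⁅V, E₂⁆ := by
        rw [mul_assoc, map_conj_mul, hsame _ (mul_mem hz hx₀) _ hx₀ hzx hx₀m, ← map_conj_mul, inv_mul_cancel]
        exact map_conj_self (one_mem _)
      refine P.faith₁ hz fun w hw => ?_
      have hW : ⁅V, E₂⁆ ⊔ (⁅V, E₂⁆).map (MulAut.conj x₀).toMonoidHom ≤ Subgroup.centralizer {z} := by
        refine sup_le (fun u hu => Subgroup.mem_centralizer_singleton_iff.2 (hfixW z hz hzf u hu)) ?_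
        rintro _ ⟨u, hu, rfl⟩
        rw [Subgroup.mem_centralizer_singleton_iff]
        have h := hfixW _ (mul_mem (mul_mem (inv_mem hx₀) hz) hx₀) he2 u hu
        show x₀ * u * x₀⁻¹ * z = z * (x₀ * u * x₀⁻¹)
        calc x₀ * u * x₀⁻¹ * z = x₀ * (u * (x₀⁻¹ * z * x₀)) * x₀⁻¹ := by group
          _ = x₀ * ((x₀⁻¹ * z * x₀) * u) * x₀⁻¹ := by rw [h]
          _ = _ := by group
      exact Subgroup.mem_centralizer_singleton_iff.1 (hW (hle x₀ hx₀ hx₀m hw))
    have hall : ∀ y ∈ E₁, y = 1 ∨ y = x₀ := by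
      intro y hy
      by_cases hyf : (⁅V, E₂⁆).map (MulAut.conj y).toMonoidHom = ⁅V, E₂⁆
      · exact Or.inl (htriv y hy hyf)
      · refine Or.inr (inv_mul_eq_one.1 (htriv _ (mul_mem (inv_mem hy) hx₀) ?_))
        rw [map_conj_mul, ← hsame y hy x₀ hx₀ hyf hx₀m, ← map_conj_mul, inv_mul_cancel]
        exact map_conj_self (one_mem _)
    have hcard : Nat.card E₁ ≤ 2 := by
      classical
      refine le_trans (Nat.card_le_card_of_injective (β := Bool) (fun y => decide ((y : G) = 1)) ?_) (by simp)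
      intro a b hab
      have hab' : ((a : G) = 1 ↔ (b : G) = 1) := decide_eq_decide.1 hab
      apply Subtype.ext
      rcases hall a a.2 with ha | ha <;> rcases hall b b.2 with hb | hb <;>
        first | (rw [ha, hb]; done) | (rw [hab'.1 ha, ha]; done) | (rw [hb, hab'.2 hb]; done)
    exact absurd P.hc₁ (by omega)

end

/-- Two subnormal subgroups acting irreducibly on their incomparable commutator modules, in a faithful group with trivial largest normal p-subgroup, generate their direct product, and the commutator module splits accordingly. -/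
theorem result {G : Type*} [Group G] [Finite G] {p : ℕ} [Fact p.Prime] (V E E₁ E₂ : Subgroup G) (hV : Cfsg.IsElementaryAbelian p V) (hEV : E ≤ Subgroup.normalizer (V : Set G)) (hf : E ⊓ Subgroup.centralizer (V : Set G) = ⊥) (hgen : E = E₁ ⊔ E₂) (hs₁ : (E₁.subgroupOf E).IsSubnormal) (hs₂ : (E₂.subgroupOf E).IsSubnormal) (hOp : Cfsg.pCore p ↥E = ⊥) (hirr₁ : (∀ U : Subgroup G, U ≤ ⁅V, E₁⁆ → E₁ ≤ Subgroup.normalizer (U : Set G) → U = ⊥ ∨ U = ⁅V, E₁⁆)) (hirr₂ : (∀ U : Subgroup G, U ≤ ⁅V, E₂⁆ → E₂ ≤ Subgroup.normalizer (U : Set G) → U = ⊥ ∨ U = ⁅V, E₂⁆)) (h12 : ¬ ⁅V, E₁⁆ ≤ ⁅V, E₂⁆) (h21 : ¬ ⁅V, E₂⁆ ≤ ⁅V, E₁⁆) (hc₁ : 2 < Nat.card E₁) (hc₂ : 2 < Nat.card E₂) : ⁅E₁, E₂⁆ = ⊥ ∧ E₁ ⊓ E₂ = ⊥ ∧ ⁅V, E₁⁆ ⊓ ⁅V, E₂⁆ = ⊥ ∧ ⁅V, E⁆ = ⁅V, E₁⁆ ⊔ ⁅V, E₂⁆ := by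
  have P : Pair p V E E₁ E₂ := ⟨hV, hEV, hf, hgen, hs₁, hs₂, hOp, hirr₁, hirr₂, h12, h21, hc₁, hc₂⟩
  obtain ⟨h1, h3⟩ := main (Nat.card E) P le_rfl
  have hE1V := P.le₁.trans hEV
  have hE2V := P.le₂.trans hEV
  refine ⟨h1, ?_, h3, ?_⟩
  · rw [Subgroup.eq_bot_iff_forall]
    intro z hz
    obtain ⟨hz1, hz2⟩ := Subgroup.mem_inf.1 hz
    refine P.symm.faith₁ hz2 fun w hw => ?_
    refine commutatorElement_eq_one_iff_mul_comm.1 (Subgroup.mem_bot.1 (h3 ▸ Subgroup.mem_inf.2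
      ⟨Subgroup.commutator_mem_commutator (line_sub hE2V hw) hz1,
        Subgroup.commutator_mem_commutator (line_sub hE2V hw) hz2⟩))
  · refine le_antisymm (Subgroup.commutator_le.2 fun v hv g hg => ?_)
      (sup_le (Subgroup.commutator_mono le_rfl P.le₁) (Subgroup.commutator_mono le_rfl P.le₂))
    rw [hgen] at hg
    exact comm_sup_mem (sup_le (line_sub hE1V) (line_sub hE2V)) hE1V hE2V
      (fun v hv a ha => Subgroup.mem_sup_left (Subgroup.commutator_mem_commutator hv ha))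
      (fun v hv b hb => Subgroup.mem_sup_right (Subgroup.commutator_mem_commutator hv hb)) v hv g hg

end Cfsg.Agent.S0615
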