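import Cfsg.Statements.S0619
import Cfsg.Agent.Lib.Fusion.ActModel

set_option autoImplicit false
open Cfsg
open Cfsg.Agent.Fusion
open scoped commutatorElement

namespace Cfsg.Agent.S0619

/-- For a p-separable group and a normal elementary abelian p-subgroup V with no nontrivial normal p-subgroup modulo its centralizer C, the Thompson subgroup J(G) moves Ω₁(Z(J(C))) only inside V. -/
theorem result {G : Type*} [Group G] [Finite G] {p : ℕ} [Fact p.Prime] (hsep : Cfsg.IsPSolvable p G) (V : Subgroup G) [V.Normal] (hV : Cfsg.IsElementaryAbelian p V) (hO : Cfsg.pCore p (G ⧸ Subgroup.centralizer (V : Set G)) = ⊥) : ⁅Cfsg.omegaOne p (Cfsg.centerThompsonOf p (Subgroup.centralizer (V : Set G))), Cfsg.thompsonSubgroup p G⁆ ≤ V := by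
  set C := Subgroup.centralizer (V : Set G) with hC
  have hVC : V ≤ C := fun v hv => Subgroup.mem_centralizer_iff.2 fun w hw => Agent.Local.elemAb_commute hV hw hv
  let X : Subgroup G := Cfsg.omegaOne p (Cfsg.centerThompsonOf p C)
  have main : ∀ A ∈ Cfsg.maxElementaryAbelianSubgroups p G, ∀ a ∈ A, ∀ x ∈ X, ⁅x, a⁆ ∈ V := by
    intro A hA a ha x hx
    have hbound := ActModel.card_mul_fix_le V hsep hV hO hA.1
    rw [maxElementary_eq_maxIn_top] at hA
    have hAe : Cfsg.IsElementaryAbelian p A := hA.2.1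
    have hfix : V ⊓ Subgroup.centralizer (A : Set G) ≤ A := fun v hv =>
      mem_of_maxIn hA (Subgroup.mem_top v) (isElementaryAbelian_closure_insert hAe
        (fun b hb => (Subgroup.mem_centralizer_iff.1 hv.2 b hb).symm) (hV.2 v hv.1))
    set A₀ := A ⊓ C with hA₀
    set D := A₀ ⊔ V with hD
    have hDe : Cfsg.IsElementaryAbelian p D :=
      Agent.Local.elemAb_sup (Agent.Local.elemAb_mono hAe inf_le_left) hV
        fun b hb v hv => (Subgroup.mem_centralizer_iff.1 hb.2 v hv).symm
    have h1 := Agent.Solv.card_sup_mul_card_inf' V A₀ (by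
      intro b hb; rw [Subgroup.normalizer_eq_top]; trivial)
    have h2 : Nat.card ↥(V ⊓ A₀) ≤ Nat.card ↥(V ⊓ Subgroup.centralizer (A : Set G)) :=
      Subgroup.card_le_of_le (fun v hv => ⟨hv.1, Subgroup.mem_centralizer_iff.2 fun b hb =>
        Agent.Local.elemAb_commute hAe hb hv.2.1⟩)
    have hcard : Nat.card A ≤ Nat.card D := by
      refine Nat.le_of_mul_le_mul_right ?_ (Nat.card_pos (α := ↥(V ⊓ Subgroup.centralizer (A : Set G))))
      rw [hD, sup_comm]
      calc _ ≤ Nat.card V * Nat.card A₀ := hbound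
        _ = _ := h1.symm
        _ ≤ _ := Nat.mul_le_mul_left _ h2
    have hDC : D ≤ C := sup_le inf_le_right hVC
    have hDG : D ∈ maxIn (fun B : Subgroup G => Cfsg.IsElementaryAbelian p B) ⊤ :=
      ⟨le_top, hDe, fun B hB hB' => (hA.2.2 B hB hB').trans hcard⟩
    have hDJ : D ≤ jElem p C := le_sSup ⟨hDC, hDe, fun B _ hB' => hDG.2.2 B le_top hB'⟩
    have hXD : X ≤ D := (Subgroup.closure_le _).2 fun y hy => by
      refine mem_of_maxIn hDG (Subgroup.mem_top y) (isElementaryAbelian_closure_insert hDe (fun d hd => ?_) hy.2)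
      have h3 := hy.1
      rw [Cfsg.centerThompsonOf, ← jElem_eq, Subgroup.mem_inf, Subgroup.mem_centralizer_iff] at h3
      exact (h3.2 d (hDJ hd)).symm
    have hxD := hXD hx
    rw [hD, Subgroup.mem_sup_of_normal_right] at hxD
    obtain ⟨b, hb, v, hv, rfl⟩ := hxD
    have hba : a * b⁻¹ * a⁻¹ = b⁻¹ := by
      rw [Agent.Local.elemAb_commute hAe ha (inv_mem hb.1), mul_inv_cancel_right]
    rw [show ⁅b * v, a⁆ = b * (v * (a * v⁻¹ * a⁻¹)) * (a * b⁻¹ * a⁻¹) by
      simp [commutatorElement_def, mul_assoc], hba]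
    exact Subgroup.Normal.conj_mem ‹_› _ (mul_mem hv (Subgroup.Normal.conj_mem ‹_› _ (inv_mem hv) a)) b
  refine Subgroup.commutator_le.2 fun x hx g hg => ?_
  have hle : Cfsg.thompsonSubgroup p G ≤
      (Subgroup.centralizer ((X.map (QuotientGroup.mk' V) : Subgroup (G ⧸ V)) : Set (G ⧸ V))).comap
        (QuotientGroup.mk' V) := sSup_le fun A hA a ha => Subgroup.mem_centralizer_iff.2 (by
    rintro _ ⟨y, hy, rfl⟩
    refine commutatorElement_eq_one_iff_mul_comm.1 ?_
    rw [← map_commutatorElement]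
    exact (QuotientGroup.eq_one_iff _).2 (main A hA a ha y hy))
  have h := Subgroup.mem_centralizer_iff.1 (hle hg) _ ⟨x, hx, rfl⟩
  rw [← QuotientGroup.eq_one_iff (N := V)]
  show (QuotientGroup.mk' V) ⁅x, g⁆ = 1
  rw [map_commutatorElement, commutatorElement_eq_one_iff_mul_comm]
  exact h

end Cfsg.Agent.S0619
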