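import Cfsg.Statements.S0620
import Cfsg.Agent.Lib.Fusion.OperatorFactor

set_option autoImplicit false
open Cfsg
open Cfsg.Agent.Fusion
open scoped commutatorElement

namespace Cfsg.Agent.S0620

/-- Under coprime action of an elementary abelian q-group X on a p-separable group K with trivial p'-core, K is generated by the normalizer of J(S), the centralizer of Ω₁(Z(S)) and the fixed points of X. -/
theorem result {G : Type*} [Group G] [Finite G] {p : ℕ} [Fact p.Prime] {q : ℕ} [Fact q.Prime] (K X : Subgroup G) (hXK : X ≤ Subgroup.normalizer (K : Set G)) (hX : Cfsg.IsElementaryAbelian q X) (hq : ¬ q ∣ Nat.card K) (hsep : Cfsg.IsPSolvable p ↥K) (hO : Cfsg.pPrimeCore p ↥K = ⊥) (S : Sylow p ↥K) : (Subgroup.normalizer (Cfsg.thompsonSubgroupOf p (S : Subgroup ↥K) : Set ↥K) ⊔ Subgroup.centralizer (Cfsg.omegaOne p ((S : Subgroup ↥K) ⊓ Subgroup.centralizer ((S : Subgroup ↥K) : Set ↥K)) : Set ↥K) ⊔ (Subgroup.centralizer (X : Set G)).subgroupOf K) = ⊤ := by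
  set M := ↥(Subgroup.normalizer (K : Set G))
  have hKle : K ≤ Subgroup.normalizer (K : Set G) := Subgroup.le_normalizer
  haveI hKn : (K.subgroupOf (Subgroup.normalizer (K : Set G))).Normal :=
    Subgroup.normal_subgroupOf_of_le_normalizer le_rfl
  let e := Subgroup.subgroupOfEquivOfLe hKle
  have c : OpCtx p q (K.subgroupOf (Subgroup.normalizer (K : Set G))) (X.subgroupOf (Subgroup.normalizer (K : Set G))) := OpCtx.of_normalizer hX hq hsep hO
  obtain ⟨S', hS'⟩ : ∃ S' : Sylow p ↥(K.subgroupOf (Subgroup.normalizer (K : Set G))),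
      (S' : Subgroup _) = (S : Subgroup ↥K).map e.symm.toMonoidHom :=
    ⟨S.mapSurjective e.symm.surjective, Sylow.coe_mapSurjective e.symm.surjective S⟩
  set L₀ := (Subgroup.normalizer (Cfsg.thompsonSubgroupOf p (S : Subgroup ↥K) : Set ↥K) ⊔ Subgroup.centralizer (Cfsg.omegaOne p ((S : Subgroup ↥K) ⊓ Subgroup.centralizer ((S : Subgroup ↥K) : Set ↥K)) : Set ↥K) ⊔ (Subgroup.centralizer (X : Set G)).subgroupOf K) with hL₀
  set V₀ := ⨆ S : Sylow p ↥K, omegaZ p (S : Subgroup ↥K) with hV₀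
  set C₀ := Subgroup.centralizer (V₀ : Set ↥K) with hC₀
  have hCL : C₀ ≤ L₀ := le_trans (Subgroup.centralizer_le (SetLike.coe_subset_coe.2
    (le_iSup (fun S : Sylow p ↥K => omegaZ p (S : Subgroup ↥K)) S))) (le_sup_of_le_left le_sup_right)
  have hSN : (S : Subgroup ↥K) ≤ Subgroup.normalizer (Cfsg.thompsonSubgroupOf p (S : Subgroup ↥K) : Set ↥K) := by
    rw [← jElem_eq]; exact Subgroup.le_normalizer.trans (normalizer_le_jElem _)
  set L' := L₀.map e.symm.toMonoidHom with hL'
  have hmain := c.main.2 S' (L'.map (K.subgroupOf (Subgroup.normalizer (K : Set G))).subtype)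
    (Subgroup.map_mono (hS' ▸ Subgroup.map_mono (hSN.trans (le_sup_of_le_left le_sup_left))))
    (by
      rintro m ⟨hmK, hmX⟩
      refine ⟨⟨m, hmK⟩, ⟨⟨(m : G), hmK⟩, Subgroup.mem_sup_right ?_, Subtype.ext (Subtype.ext rfl)⟩, rfl⟩
      rw [Subgroup.mem_subgroupOf, Subgroup.mem_centralizer_iff]
      intro x hx
      exact congrArg Subtype.val (Subgroup.mem_centralizer_iff.1 hmX ⟨x, hXK hx⟩ hx))
    (Subgroup.map_subtype_le _)
  have hJL : Cfsg.thompsonSubgroup p ↥K ≤ L₀ := by
    have hJ' : (Cfsg.thompsonSubgroup p ↥K).map e.symm.toMonoidHom = _ := thompsonSubgroup_map_equiv (p := p) e.symm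
    have hV' : V₀.map e.symm.toMonoidHom = _ := iSup_omegaZ_map_equiv (p := p) e.symm
    rw [← Subgroup.map_le_map_iff_of_injective e.symm.injective (f := e.symm.toMonoidHom), hJ',
      ← Subgroup.map_le_map_iff_of_injective (Subgroup.subtype_injective _)]
    refine hmain.trans ?_
    rw [← Subgroup.map_sup, ← hV']
    refine Subgroup.map_mono (sup_le le_rfl fun z hz => ⟨e z, hCL ?_, e.symm_apply_apply z⟩)
    rw [hC₀, Subgroup.mem_centralizer_iff]
    intro v hv
    have h := congrArg e (Subgroup.mem_centralizer_iff.1 hz _ ⟨v, hv, rfl⟩)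
    simpa using h
  haveI := iSup_omegaZ_normal (G := ↥K) (p := p)
  haveI := thompsonSubgroup_char (p := p) (G := ↥K)
  haveI : C₀.Normal := Subgroup.normal_centralizer
  refine eq_top_iff.2 fun g _ => ?_
  set N := Cfsg.thompsonSubgroup p ↥K ⊔ C₀ with hN
  have hT : SylIn p ((S : Subgroup ↥K) ⊓ N) N :=
    (sylIn_top S).inf_normal le_top (by rw [Subgroup.normalizer_eq_top])
  obtain ⟨n, hn, hng⟩ := frattini_conj hT (H := ⊤) (by rw [Subgroup.normalizer_eq_top]) (Subgroup.mem_top g)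
  have hJS : n * g ∈ Subgroup.normalizer (Cfsg.thompsonSubgroupOf p (S : Subgroup ↥K) : Set ↥K) := by
    rw [← jElem_eq, ← jElem_sylow_inf S (le_sup_left : Cfsg.thompsonSubgroup p ↥K ≤ N)]
    exact normalizer_le_jElem _ hng
  rw [← inv_mul_cancel_left n g]
  exact mul_mem (inv_mem ((sup_le hJL hCL : N ≤ L₀) hn)) (Subgroup.mem_sup_left (Subgroup.mem_sup_left hJS))

end Cfsg.Agent.S0620
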