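import Cfsg.Statements.S0621
import Cfsg.Agent.Lib.Fusion.OperatorFactor

set_option autoImplicit false
open Cfsg
open Cfsg.Agent.Fusion
open scoped commutatorElement

namespace Cfsg.Agent.S0621

/-- Let K be p-separable with O_p'(K) = 1, normalized by an elementary abelian q-group X for a prime q not dividing the order of K. If the Thompson factorization fails in K, then p is 2 or 3 and the fixed points of X contain a plane W of order p² and a subgroup inducing SL(2, p) on it. -/
theorem result {G : Type*} [Group G] [Finite G] {p : ℕ} [Fact p.Prime] {q : ℕ} [Fact q.Prime] (K X : Subgroup G) (hXK : X ≤ Subgroup.normalizer (K : Set G)) (hX : Cfsg.IsElementaryAbelian q X) (hq : ¬ q ∣ Nat.card K) (hsep : Cfsg.IsPSolvable p ↥K) (hO : Cfsg.pPrimeCore p ↥K = ⊥) (hnf : ¬ Cfsg.IsThompsonFactorizable p ↥K) : (p = 2 ∨ p = 3) ∧ ∃ W D : Subgroup G, W ≤ K ⊓ Subgroup.centralizer (X : Set G) ∧ D ≤ K ⊓ Subgroup.centralizer (X : Set G) ∧ Cfsg.IsElementaryAbelian p W ∧ Nat.card W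 = p ^ 2 ∧ D ≤ Subgroup.normalizer (W : Set G) ∧ ∃ hn : ((Subgroup.centralizer (W : Set G)).subgroupOf D).Normal, Nonempty ((↥D ⧸ (Subgroup.centralizer (W : Set G)).subgroupOf D) ≃* Matrix.SpecialLinearGroup (Fin 2) (ZMod p)) := by
  have hKle : K ≤ Subgroup.normalizer (K : Set G) := Subgroup.le_normalizer
  set N := Subgroup.normalizer (K : Set G) with hN
  haveI hKn : (K.subgroupOf N).Normal := Subgroup.normal_subgroupOf_of_le_normalizer le_rfl
  let e := Subgroup.subgroupOfEquivOfLe hKle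
  have c : OpCtx p q (K.subgroupOf N) (X.subgroupOf N) := OpCtx.of_normalizer hX hq hsep hO
  have hnc : ¬ Cfsg.thompsonSubgroup p ↥(K.subgroupOf N) ≤ Subgroup.centralizer
      ((⨆ S : Sylow p ↥(K.subgroupOf N), omegaZ p (S : Subgroup ↥(K.subgroupOf N)) : Subgroup _) : Set ↥(K.subgroupOf N)) := by
    intro h
    apply hnf
    refine factorizable_of_thompson_le_centralizer ?_
    intro z hz
    have hz' : e.symm z ∈ Cfsg.thompsonSubgroup p ↥(K.subgroupOf N) :=
      (thompsonSubgroup_map_equiv (p := p) e.symm).le ⟨z, hz, rfl⟩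
    rw [Subgroup.mem_centralizer_iff]
    intro v hv
    have hv' : e.symm v ∈ ⨆ S : Sylow p ↥(K.subgroupOf N), omegaZ p (S : Subgroup ↥(K.subgroupOf N)) :=
      (iSup_omegaZ_map_equiv (p := p) e.symm).le ⟨v, hv, rfl⟩
    have h2 := Subgroup.mem_centralizer_iff.1 (h hz') _ hv'
    exact e.symm.injective (by rw [map_mul, map_mul]; exact h2)
  obtain ⟨hp23, W, D, hW, hD, hWe, hWc, hDW, hn, ⟨σ⟩⟩ := c.main.1 hnc
  haveI := hn
  refine ⟨hp23, W.map N.subtype, D.map N.subtype, ?_, ?_, ?_, by rw [Subgroup.card_map_of_injective N.subtype_injective, hWc], ?_, ?_⟩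
  · rintro _ ⟨w, hw, rfl⟩
    exact ⟨(hW hw).1, Subgroup.mem_centralizer_iff.2 fun x hx =>
      congrArg Subtype.val (Subgroup.mem_centralizer_iff.1 (hW hw).2 ⟨x, hXK hx⟩ hx)⟩
  · rintro _ ⟨w, hw, rfl⟩
    exact ⟨(hD hw).1, Subgroup.mem_centralizer_iff.2 fun x hx =>
      congrArg Subtype.val (Subgroup.mem_centralizer_iff.1 (hD hw).2 ⟨x, hXK hx⟩ hx)⟩
  · refine ⟨⟨⟨?_⟩⟩, ?_⟩
    · rintro ⟨_, a, ha, rfl⟩ ⟨_, b, hb, rfl⟩
      refine Subtype.ext ?_
      show N.subtype a * N.subtype b = N.subtype b * N.subtype a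
      rw [← map_mul, ← map_mul, Agent.Local.elemAb_commute hWe ha hb]
    · rintro _ ⟨a, ha, rfl⟩
      rw [← map_pow, hWe.2 a ha, map_one]
  · exact (Subgroup.map_mono hDW).trans (Subgroup.le_normalizer_map _)
  · let ε := D.equivMapOfInjective N.subtype N.subtype_injective
    have hmap : ((Subgroup.centralizer (W : Set ↥N)).subgroupOf D).map ε.toMonoidHom =
        (Subgroup.centralizer ((W.map N.subtype : Subgroup G) : Set G)).subgroupOf (D.map N.subtype) := by
      ext y
      obtain ⟨d, rfl⟩ := ε.surjective y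
      rw [Subgroup.mem_subgroupOf]
      have hv : ((ε d : ↥(D.map N.subtype)) : G) = ((d : ↥N) : G) :=
        Subgroup.coe_equivMapOfInjective_apply _ _ _ _
      rw [hv]
      constructor
      · rintro ⟨d', hd', he⟩
        rw [← ε.injective he]
        refine Subgroup.mem_centralizer_iff.2 ?_
        rintro _ ⟨w, hw, rfl⟩
        exact congrArg Subtype.val (Subgroup.mem_centralizer_iff.1 hd' w hw)
      · intro h
        exact ⟨d, Subgroup.mem_centralizer_iff.2 fun w hw => Subtype.ext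
          (Subgroup.mem_centralizer_iff.1 h _ ⟨w, hw, rfl⟩), rfl⟩
    haveI hn2 : ((Subgroup.centralizer ((W.map N.subtype : Subgroup G) : Set G)).subgroupOf (D.map N.subtype)).Normal :=
      hmap ▸ hn.map _ ε.surjective
    exact ⟨hn2, ⟨(QuotientGroup.congr _ _ ε hmap).symm.trans σ⟩⟩

end Cfsg.Agent.S0621
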