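import Cfsg.Statements.S0629
import Cfsg.Agent.Lib.Fusion.PConstrained
import Cfsg.Agent.Lib.Fusion.Reduction
import Cfsg.Agent.Lib.Char.OneBlock
import Cfsg.Agent.Lib.Solv.PSolvHall

set_option autoImplicit false
open Cfsg
open Cfsg.Agent.Fusion
open scoped commutatorElement

namespace Cfsg.Agent.S0629

/-- A group in which the centralizer of a Sylow p-subgroup of O_{p',p}(G) is p-solvable is p-constrained. -/
theorem result {G : Type*} [Group G] [Finite G] {p : ℕ} [Fact p.Prime] (P : Sylow p ↥(Cfsg.pPrimePCore p G)) (hsol : Cfsg.IsPSolvable p ↥(Subgroup.centralizer (((P : Subgroup ↥(Cfsg.pPrimePCore p G)).map (Cfsg.pPrimePCore p G).subtype : Subgroup G) : Set G))) : Cfsg.IsPConstrained p G := by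
  rw [isPConstrained_iff]
  set R := Cfsg.pPrimeCore p G with hR
  set O := Cfsg.pCore p (G ⧸ R) with hO
  set Cb := Subgroup.centralizer (O : Set (G ⧸ R)) with hCb
  set π := QuotientGroup.mk' R
  have hRp : (Nat.card R).Coprime p := card_pPrimeCore_coprime p G
  set Q := (P : Subgroup ↥(Cfsg.pPrimePCore p G)).map (Cfsg.pPrimePCore p G).subtype
  have hQ : SylIn p Q (Cfsg.pPrimePCore p G) := sylIn_map _ P
  have hQO : Q.map π = O := map_sylIn_pPrimePCore hQ
  have hmem : ∀ c : Subgroup.centralizer (Q : Set G), π c ∈ Cb := fun c => by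
    rw [hCb, ← hQO, Subgroup.mem_centralizer_iff]
    rintro _ ⟨q, hq, rfl⟩
    rw [← map_mul, ← map_mul, Subgroup.mem_centralizer_iff.1 c.2 q hq]
  let f : Subgroup.centralizer (Q : Set G) →* Cb :=
    (π.comp (Subgroup.centralizer (Q : Set G)).subtype).codRestrict Cb hmem
  have hsurj : Function.Surjective f := by
    rintro ⟨y, hy⟩
    obtain ⟨x, hx, hxy⟩ := exists_lift_normalizer hRp hQ.isPGroup
      (y := y) (Subgroup.centralizer_le_normalizer _ (hQO.symm ▸ hy))
    refine ⟨⟨x, Subgroup.mem_centralizer_iff.2 fun q hq => ?_⟩, Subtype.ext hxy⟩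
    have h1 := injOn_mk_of_coprime hRp hQ.isPGroup ((Subgroup.mem_normalizer_iff.1 hx q).1 hq) hq (by
      rw [map_mul, map_mul, map_inv, hxy,
        ← Subgroup.mem_centralizer_iff.1 hy _ (hQO ▸ ⟨q, hq, rfl⟩), mul_inv_cancel_right])
    exact (mul_inv_eq_iff_eq_mul.1 h1).symm
  have hsol' := Agent.Solv.isPSolvable_map (Fact.out : p.Prime) hsol f hsurj
  haveI : Cb.Normal := Subgroup.normal_centralizer
  have h0 : Cfsg.pPrimeCore p ↥Cb = ⊥ := by
    rw [← Subgroup.map_eq_bot_iff_of_injective _ Cb.subtype_injective, eq_bot_iff,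
      ← (pPrimeCore_quotient_eq_bot : Cfsg.pPrimeCore p (G ⧸ R) = ⊥)]
    refine le_pPrimeCore ?_
    rw [Subgroup.card_map_of_injective Cb.subtype_injective]
    exact card_pPrimeCore_coprime p ↥Cb
  have hle : (Cfsg.pCore p ↥Cb).map Cb.subtype ≤ O :=
    le_pCore ((isPGroup_pCore p ↥Cb).map Cb.subtype)
  have htop := Agent.Char.centralizer_pCore_le_of_pSolvable hsol' h0
  intro y hy
  refine hle ⟨⟨y, hy⟩, htop (Subgroup.mem_centralizer_iff.2 fun z hz => Subtype.ext ?_), rfl⟩
  exact Subgroup.mem_centralizer_iff.1 hy _ (hle ⟨z, hz, rfl⟩)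

end Cfsg.Agent.S0629
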