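import Cfsg.Statements.S0633
import Cfsg.Agent.Lib.Solv.TheoremBGroup
import Cfsg.Agent.Lib.Solv.HallHigman

set_option autoImplicit false
open Cfsg

namespace Cfsg.Agent.S0633

/-- Theorem B of Hall and Higman on the minimal polynomial of a p-element of order p^n in a p-solvable linear group on a nonzero vector space in characteristic p with no nontrivial normal p-subgroup: its degree is p^n, except when some p^n₀ - 1 (n₀ ≤ n) is a power of a prime q for which the Sylow q-subgroups are non-abelian, in which case the degree is at least p^(n-n₀)(p^n₀ - 1). -/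
theorem result {F : Type*} [Field F] {p : ℕ} [Fact p.Prime] [CharP F p] {V : Type*} [AddCommGroup V] [Module F V] [FiniteDimensional F V] [Nontrivial V] (H : Subgroup (V ≃ₗ[F] V)) [Finite H] (hsol : Cfsg.IsPSolvable p H) (hOp : Cfsg.pCore p H = ⊥) (x : V ≃ₗ[F] V) (hx : x ∈ H) (n : ℕ) (hn : orderOf x = p ^ n) (r : ℕ) (hr : minpoly F (x : Module.End F V) = (Polynomial.X - 1) ^ r) : r = p ^ n ∨ ∃ n₀ q m : ℕ, 1 ≤ n₀ ∧ n₀ ≤ n ∧ q.Prime ∧ 1 ≤ m ∧ p ^ n₀ - 1 = q ^ m ∧ (∀ Q : Sylow q H, ¬ IsMulCommutative Q) ∧ p ^ (n - n₀) * (p ^ n₀ - 1) ≤ r := by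
  classical
  have hp : p.Prime := Fact.out
  obtain ⟨x0, hx0⟩ : ∃ x0 : H, (x0 : V ≃ₗ[F] V) = x := ⟨⟨x, hx⟩, rfl⟩
  have hord : orderOf x0 = p ^ n := by rw [← Subgroup.orderOf_coe, hx0, hn]
  have hxn : x0 ^ p ^ n = 1 := by rw [← hord, pow_orderOf_eq_one]
  obtain ⟨ρ, hρ⟩ : ∃ ρ : H →* Module.End F V, ∀ g : H, ρ g = ((g : V ≃ₗ[F] V) : Module.End F V) :=
    ⟨{ toFun := fun g => ((g : V ≃ₗ[F] V) : Module.End F V), map_one' := rfl, map_mul' := fun _ _ => rfl }, fun _ => rfl⟩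
  have hinj : Function.Injective ρ := fun a b h => by
    rw [hρ, hρ] at h
    exact Subtype.ext (LinearEquiv.toLinearMap_injective h)
  have hT : ρ x0 = (x : Module.End F V) := by rw [hρ, hx0]
  have hzero : ((x : Module.End F V) - 1) ^ r = 0 := by
    have h := minpoly.aeval F (x : Module.End F V)
    rw [hr] at h
    simpa using h
  have hdeg : (minpoly F (x : Module.End F V)).natDegree = r := by
    rw [hr, Polynomial.natDegree_pow, ← Polynomial.C_1, Polynomial.natDegree_X_sub_C, mul_one]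
  have hle : r ≤ p ^ n := by
    have h1 : Polynomial.aeval (x : Module.End F V) ((Polynomial.X - 1 : Polynomial F) ^ p ^ n) = 0 := by
      haveI : CharP (Module.End F V) p :=
        charP_of_injective_algebraMap (FaithfulSMul.algebraMap_injective F (Module.End F V)) p
      rw [map_pow, map_sub, Polynomial.aeval_X, map_one,
        sub_pow_char_pow_of_commute p n (Commute.one_right _), one_pow, ← hT, ← map_pow, hxn,
        map_one, sub_self]
    have h2 := Polynomial.natDegree_le_of_dvd (minpoly.dvd F _ h1)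
      (pow_ne_zero _ (by rw [← Polynomial.C_1]; exact Polynomial.X_sub_C_ne_zero 1))
    rwa [hdeg, Polynomial.natDegree_pow, ← Polynomial.C_1, Polynomial.natDegree_X_sub_C, mul_one] at h2
  rcases Nat.eq_zero_or_pos n with rfl | hn0
  · left
    rw [pow_zero] at hle ⊢
    have : r ≠ 0 := by
      rintro rfl
      rw [pow_zero] at hzero
      exact one_ne_zero hzero
    omega
  -- `y` moves the `p'`-core
  obtain ⟨y, hy⟩ : ∃ y, y = x0 ^ p ^ (n - 1) := ⟨_, rfl⟩
  have hy1 : y ≠ 1 := hy ▸ pow_ne_one_of_lt_orderOf (pow_ne_zero _ hp.ne_zero)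
    (hord ▸ Nat.pow_lt_pow_right hp.one_lt (by omega))
  have hR : (Nat.card (Cfsg.pPrimeCore p H)).Coprime p := Solv.pPrimeCore_coprime p
  have hmove : ∃ r ∈ Cfsg.pPrimeCore p H, ¬ Commute (x0 ^ p ^ (n - 1)) r := by
    by_contra hcon
    push Not at hcon
    have hyR : y ∈ Cfsg.pPrimeCore p H := Solv.centralizer_pPrimeCore_le hsol hOp
      (Subgroup.mem_centralizer_iff.2 fun g hg => (hy ▸ hcon g hg).symm)
    have hyp : y ^ p = 1 := by
      rw [hy, ← pow_mul, ← pow_succ, Nat.sub_add_cancel hn0, hxn]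
    refine hy1 (orderOf_eq_one_iff.1 (Nat.eq_one_of_dvd_coprimes hR ?_ (orderOf_dvd_of_pow_eq_one hyp)))
    have := orderOf_dvd_natCard (⟨y, hyR⟩ : Cfsg.pPrimeCore p H)
    rwa [← Subgroup.orderOf_coe] at this
  haveI : (Cfsg.pPrimeCore p H).Normal := Solv.pPrimeCore_normal p
  obtain ⟨q, hq, Q, hqp, -, hQ1, hQq, hxQ, hcl, hC, hQY⟩ := Solv.ThmB.exists_min_moved
    (Cfsg.pPrimeCore p H) x0 (by rw [Subgroup.normalizer_eq_top]; exact Subgroup.mem_top _) hR n hxn hmove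
  obtain ⟨g, hg, hg1⟩ := (Subgroup.bot_or_exists_ne_one Q).resolve_left hQ1
  rcases Solv.ThmB.rep_bound hqp Q hQq x0 hxQ hcl n hxn hC hQY ρ
      ⟨g, hg, fun h => hg1 (hinj (h.trans (map_one ρ).symm))⟩ r (by rw [hT]; exact hzero) with
    h | ⟨n₀, b, h1, h2, h3, h4, h5, h6⟩
  · exact Or.inl (le_antisymm hle h)
  refine Or.inr ⟨n₀, q, b, h1, h2, hq.out, h3, h4, fun S hS => h5 ⟨⟨fun u v => ?_⟩⟩, h6⟩
  obtain ⟨P, hQP⟩ := hQq.exists_le_sylow
  obtain ⟨h', rfl⟩ := MulAction.exists_smul_eq H S P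
  have e : ∀ w ∈ Q, h'⁻¹ * w * h' ∈ (S : Subgroup H) := fun w hw => by
    have h7 := hQP hw
    rw [Sylow.coe_subgroup_smul, Subgroup.mem_pointwise_smul_iff_inv_smul_mem] at h7
    simpa [MulAut.smul_def] using h7
  have h8 : (h'⁻¹ * (u : H) * h') * (h'⁻¹ * v * h') = (h'⁻¹ * v * h') * (h'⁻¹ * u * h') :=
    congrArg Subtype.val (hS.is_comm.comm ⟨_, e u u.2⟩ ⟨_, e v v.2⟩)
  refine Subtype.ext (mul_left_cancel (a := h'⁻¹) (mul_right_cancel (b := h') ?_))
  show h'⁻¹ * ((u : H) * v) * h' = h'⁻¹ * ((v : H) * u) * h'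
  simpa [mul_assoc] using h8

end Cfsg.Agent.S0633
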