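import Cfsg.Statements.S0634
import Cfsg.Agent.Lib.Fusion.Cores
import Cfsg.Agent.Lib.Char.OneBlock
import Cfsg.Agent.Lib.Solv.PSolvHall

set_option autoImplicit false
open Cfsg
open Cfsg.Agent.Fusion
open scoped commutatorElement

namespace Cfsg.Agent.S0634

/-- In a p-soluble group each p-factor of the upper p-series contains its own centralizer in the corresponding quotient. -/
theorem result {G : Type*} [Group G] [Finite G] {p : ℕ} [Fact p.Prime] (hsol : Cfsg.IsPSolvable p G) (k : ℕ) : Subgroup.centralizer ((((Cfsg.upperPSeries p G (2 * k + 2)).1.map (QuotientGroup.mk' (Cfsg.upperPSeries p G (2 * k + 1)).1)) : Subgroup (G ⧸ (Cfsg.upperPSeries p G (2 * k + 1)).1)) : Set (G ⧸ (Cfsg.upperPSeries p G (2 * k + 1)).1)) ≤ (Cfsg.upperPSeries p G (2 * k + 2)).1.map (QuotientGroup.mk' (Cfsg.upperPSeries p G (2 * k + 1)).1) := by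
  set U₀ := (Cfsg.upperPSeries p G (2 * k)).1
  set U₁ := (Cfsg.upperPSeries p G (2 * k + 1)).1 with hU₁
  have h1 : U₁ = (Cfsg.pPrimeCore p (G ⧸ U₀)).comap (QuotientGroup.mk' U₀) := by
    rw [hU₁, Cfsg.upperPSeries, if_pos]
    exact ⟨k, by ring⟩
  have h2 : (Cfsg.upperPSeries p G (2 * k + 2)).1 = (Cfsg.pCore p (G ⧸ U₁)).comap (QuotientGroup.mk' U₁) := by
    rw [Cfsg.upperPSeries, if_neg]
    exact Nat.not_even_iff_odd.2 ⟨k, rfl⟩
  have hcard : ∀ (U X : Subgroup G) [U.Normal], U ≤ X → Nat.card (X.map (QuotientGroup.mk' U)) = U.relIndex X := by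
    intro U X _ _
    rw [← Subgroup.relIndex_bot_left, ← Subgroup.relIndex_comap, MonoidHom.comap_bot, QuotientGroup.ker_mk']
  have hle01 : U₀ ≤ U₁ := by
    rw [h1]; intro x hx
    rw [Subgroup.mem_comap, QuotientGroup.mk'_apply, (QuotientGroup.eq_one_iff x).2 hx]; exact one_mem _
  have hcop1 : (U₀.relIndex U₁).Coprime p := by
    rw [← hcard U₀ U₁ hle01, h1, Subgroup.map_comap_eq_self_of_surjective (QuotientGroup.mk'_surjective U₀)]
    exact card_pPrimeCore_coprime p _
  have h0 : Cfsg.pPrimeCore p (G ⧸ U₁) = ⊥ := by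
    set X := (Cfsg.pPrimeCore p (G ⧸ U₁)).comap (QuotientGroup.mk' U₁) with hX
    have hle : U₁ ≤ X := fun x hx => by
      rw [hX, Subgroup.mem_comap, QuotientGroup.mk'_apply, (QuotientGroup.eq_one_iff x).2 hx]; exact one_mem _
    haveI : X.Normal := Subgroup.Normal.comap inferInstance _
    haveI : (X.map (QuotientGroup.mk' U₀)).Normal :=
      Subgroup.Normal.map inferInstance _ (QuotientGroup.mk'_surjective U₀)
    have hXle : X ≤ U₁ := by
      rw [h1]
      refine Subgroup.map_le_iff_le_comap.1 (le_pPrimeCore ?_)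
      rw [hcard U₀ X (hle01.trans hle), ← Subgroup.relIndex_mul_relIndex U₀ U₁ X hle01 hle]
      refine hcop1.mul_left ?_
      rw [← hcard U₁ X hle, hX, Subgroup.map_comap_eq_self_of_surjective (QuotientGroup.mk'_surjective U₁)]
      exact card_pPrimeCore_coprime p _
    have h := Subgroup.map_mono (f := QuotientGroup.mk' U₁) hXle
    rwa [hX, Subgroup.map_comap_eq_self_of_surjective (QuotientGroup.mk'_surjective U₁),
      QuotientGroup.map_mk'_self, le_bot_iff] at h
  rw [h2, Subgroup.map_comap_eq_self_of_surjective (QuotientGroup.mk'_surjective U₁)]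
  exact Agent.Char.centralizer_pCore_le_of_pSolvable
    (Agent.Solv.isPSolvable_map (Fact.out : p.Prime) hsol _ (QuotientGroup.mk'_surjective U₁)) h0

end Cfsg.Agent.S0634
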