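import Cfsg.Statements.S0635
import Cfsg.Agent.Lib.Solv.PLength
import Cfsg.Agent.Lib.Solv.HallHigman
import Cfsg.Agent.Lib.Char.OneBlock

set_option autoImplicit false
open Cfsg
open Cfsg.Agent.Fusion
open scoped commutatorElement

namespace Cfsg.Agent.S0635

universe u

open Cfsg.Agent.Solv Cfsg.Agent.Solv.PLen in
theorem aux {p : ℕ} [Fact p.Prime] : ∀ (N : ℕ) {G : Type u} [Group G] [Finite G], Nat.card G = N →
    Cfsg.IsPSolvable p G → ∀ (S : Sylow p G) (c : ℕ) (_ : Group.IsNilpotent ↥(S : Subgroup G)),
      Group.nilpotencyClass ↥(S : Subgroup G) ≤ c → HasPSeries p c G := by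
  intro N
  induction N using Nat.strong_induction_on with
  | _ N ih =>
    intro G _ _ hN hG S c _ hc
    have hp : p.Prime := Fact.out
    haveI := pCore_normal (G := G) p
    haveI := pPrimeCore_normal (G := G) p
    have hquot : ∀ (K : Subgroup G) [K.Normal], K ≠ ⊥ → ∀ j,
        (∀ (T : Type u) [Group T] [Group.IsNilpotent T] (f : ↥(S : Subgroup G) →* T),
          Function.Surjective f → (∀ s : ↥(S : Subgroup G), (s : G) ∈ K → f s = 1) →
          Group.nilpotencyClass T ≤ j) → HasPSeries p j (G ⧸ K) := by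
      intro K _ hK j hj
      have hlt : Nat.card (G ⧸ K) < N := by
        rw [← hN, ← K.card_mul_index, Subgroup.index]
        exact lt_mul_of_one_lt_left Nat.card_pos ((Subgroup.one_lt_card_iff_ne_bot K).2 hK)
      haveI : Group.IsNilpotent ↥((S : Subgroup G).map (QuotientGroup.mk' K)) :=
        Group.nilpotent_of_surjective _ (MonoidHom.subgroupMap_surjective (QuotientGroup.mk' K) _)
      refine ih _ hlt rfl (isPSolvable_map hp hG _ (QuotientGroup.mk'_surjective K))
        (S.mapSurjective (QuotientGroup.mk'_surjective K)) j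
        (inferInstanceAs (Group.IsNilpotent ↥((S : Subgroup G).map (QuotientGroup.mk' K)))) ?_
      exact hj ↥((S : Subgroup G).map (QuotientGroup.mk' K)) ((QuotientGroup.mk' K).subgroupMap (S : Subgroup G))
        (MonoidHom.subgroupMap_surjective _ _) fun s hs => Subtype.ext ((QuotientGroup.eq_one_iff _).2 hs)
    by_cases hbot : Cfsg.pPrimeCore p G = ⊥
    swap
    · exact HasPSeries.lift_pPrime _ (pPrimeCore_coprime p) (hquot _ hbot c fun T _ _ f hf _ =>
        (Group.nilpotencyClass_le_of_surjective f hf).trans hc)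
    have hCO : Subgroup.centralizer (Cfsg.pCore p G : Set G) ≤ Cfsg.pCore p G :=
      Cfsg.Agent.Char.centralizer_pCore_le_of_pSolvable hG hbot
    by_cases hO : Cfsg.pCore p G = ⊥
    · refine hasPSeries_of_coprime c ?_
      rw [hO, Subgroup.centralizer_eq_top_iff_subset.2 (by simp), top_le_iff] at hCO
      rw [← Subgroup.card_top, ← hCO, Subgroup.card_bot]
      exact Nat.coprime_one_left p
    have hOS : Cfsg.pCore p G ≤ (S : Subgroup G) := Cfsg.Agent.Fusion.pCore_le_sylow S
    have hZ : ∀ s : ↥(S : Subgroup G), s ∈ Subgroup.center ↥(S : Subgroup G) → (s : G) ∈ Cfsg.pCore p G :=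
      fun s hs => hCO (Subgroup.mem_centralizer_iff.2 fun o ho =>
        congrArg Subtype.val (Subgroup.mem_center_iff.1 hs ⟨o, hOS ho⟩))
    haveI : Nontrivial ↥(S : Subgroup G) := by
      rw [Subgroup.nontrivial_iff_ne_bot]
      exact fun h => hO (eq_bot_iff.2 (hOS.trans h.le))
    obtain ⟨k, rfl⟩ : ∃ k, c = k + 1 := by
      refine Nat.exists_eq_succ_of_ne_zero ?_
      rintro rfl
      exact not_subsingleton ↥(S : Subgroup G) (Group.nilpotencyClass_zero_iff_subsingleton.1 (Nat.le_zero.1 hc))
    refine HasPSeries.lift_p _ (pCore_isPGroup p) (hquot _ hO k fun T _ _ f hf hker => ?_)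
    have hlift : Subgroup.center ↥(S : Subgroup G) ≤ f.ker := fun s hs => hker s (hZ s hs)
    have h1 := Group.nilpotencyClass_le_of_surjective (QuotientGroup.lift _ f hlift)
      (QuotientGroup.lift_surjective_of_surjective _ f hf hlift)
    rw [Group.nilpotencyClass_quotient_center] at h1
    omega

/-- The p-length of a p-soluble group is at most the nilpotency class of its Sylow p-subgroups. -/
theorem result {G : Type*} [Group G] [Finite G] {p : ℕ} [Fact p.Prime] (hsol : Cfsg.IsPSolvable p G) (S : Sylow p G) : Cfsg.PLengthLE p (Group.nilpotencyClass ↥(S : Subgroup G)) G := by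
  haveI := S.isPGroup'.isNilpotent
  exact (Cfsg.Agent.Solv.PLen.pLengthLE_iff _).2 (aux _ rfl hsol S _ inferInstance le_rfl)

end Cfsg.Agent.S0635
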