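import Cfsg.Statements.S0640
import Cfsg.Agent.Lib.Fusion.RankTwoAut

set_option autoImplicit false
open Cfsg
open Cfsg.Agent.Fusion
open scoped commutatorElement

namespace Cfsg.Agent.S0640

/-- For odd p, a prime q ≠ p dividing the order of the automorphism group of a p-group of rank at most 2 divides p² - 1 and is less than p. -/
theorem result {R : Type*} [Group R] [Finite R] {p : ℕ} [Fact p.Prime] (hp : p ≠ 2) (hR : IsPGroup p R) (hrk : Cfsg.PRankLE p 2 R) (q : ℕ) (hq : q.Prime) (hqp : q ≠ p) (hdvd : q ∣ Nat.card (MulAut R)) : q ∣ p ^ 2 - 1 ∧ q < p := by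
  have h := prime_dvd_aut_of_rank_two hp hR hrk q hq hqp hdvd
  refine ⟨h, ?_⟩
  have hpp : p.Prime := Fact.out
  have hfac : p ^ 2 - 1 = (p + 1) * (p - 1) := by
    have := Nat.sq_sub_sq p 1
    rwa [one_pow] at this
  rw [hfac] at h
  have h2 := hpp.two_le
  rcases (Nat.Prime.dvd_mul hq).1 h with h | h
  · by_contra hge
    have hle := Nat.le_of_dvd (by omega) h
    have hq1 : q = p + 1 := by omega
    obtain ⟨k, hk⟩ := hpp.odd_of_ne_two hp
    have : 2 ∣ q := ⟨k + 1, by omega⟩
    have := (Nat.prime_dvd_prime_iff_eq Nat.prime_two hq).1 this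
    omega
  · exact (Nat.le_of_dvd (by omega) h).trans_lt (by omega)

end Cfsg.Agent.S0640
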