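import Cfsg.Statements.S0642
import Cfsg.Agent.Lib.Fusion.Basic

set_option autoImplicit false
open Cfsg
open Cfsg.Agent.Fusion
open scoped commutatorElement

namespace Cfsg.Agent.S0642

/-- Among finite 2-groups the regular ones are exactly the abelian ones. -/
theorem result {G : Type*} [Group G] [Finite G] (hG : IsPGroup 2 G) : Cfsg.IsRegularPGroup 2 G ↔ ∀ a b : G, a * b = b * a := by
  constructor
  · rintro ⟨-, hreg⟩ a b
    set H := Subgroup.closure ({a, b} : Set G) with hH
    set D := ⁅H, H⁆ with hD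
    obtain ⟨c, hc, he⟩ := hreg a b 1
    set K := Cfsg.powerClosure 2 1 D with hK
    have haH : a ∈ H := Subgroup.subset_closure (Or.inl rfl)
    have hbH : b ∈ H := Subgroup.subset_closure (Or.inr rfl)
    have hKn : H ≤ Subgroup.normalizer (K : Set G) := fun g hg => mem_normalizer_of_cj_le (by
      rw [hK, Cfsg.powerClosure, cj, MonoidHom.map_closure]
      refine Subgroup.closure_mono ?_
      rintro _ ⟨_, ⟨x, hx, rfl⟩, rfl⟩
      refine ⟨g * x * g⁻¹, ?_, by simp [conj_pow]⟩
      have h1 : cj D g = D := by rw [hD, cj_commutator, cj_eq_self_of_mem hg]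
      rw [← h1]; exact conj_mem_cj hx)
    have hDH : D ≤ H := Subgroup.commutator_le.2 fun x hx y hy => by
      rw [commutatorElement_def]
      exact mul_mem (mul_mem (mul_mem hx hy) (inv_mem hx)) (inv_mem hy)
    haveI : (K.subgroupOf H).Normal := ⟨fun k hk g => by
      rw [Subgroup.mem_subgroupOf] at hk ⊢
      exact (Subgroup.mem_normalizer_iff.1 (hKn g.2) _).1 hk⟩
    set f := QuotientGroup.mk' (K.subgroupOf H)
    have hab : f ⟨a, haH⟩ * f ⟨b, hbH⟩ = f ⟨b, hbH⟩ * f ⟨a, haH⟩ := by
      rw [← map_mul, ← map_mul]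
      refine QuotientGroup.eq.2 (Subgroup.mem_subgroupOf.2 ?_)
      push_cast
      have h2 : (a * b)⁻¹ * (b * a) = b * c * b⁻¹ := by
        have h3 : a * b * (a * b) = a * a * (b * b) * c := by simpa [pow_two] using he
        calc (a * b)⁻¹ * (b * a) = (a * b)⁻¹ * a⁻¹ * (a * b * (a * b)) * b⁻¹ := by group
          _ = b * c * b⁻¹ := by rw [h3]; group
      rw [h2]
      exact (Subgroup.mem_normalizer_iff.1 (hKn hbH) _).1 hc
    have hDK : D ≤ K := by
      have hS : ∀ x ∈ ({a, b} : Set G), x ∈ H := fun x hx => Subgroup.subset_closure hx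
      refine Subgroup.commutator_le.2 fun x hx y hy => ?_
      have key : ∀ u (hu : u ∈ H) v (hv : v ∈ H), f ⟨u, hu⟩ * f ⟨v, hv⟩ = f ⟨v, hv⟩ * f ⟨u, hu⟩ := by
        intro u hu
        have hc1 : ∀ w ∈ ({a, b} : Set G), ∀ (hw : w ∈ H), f ⟨u, hu⟩ * f ⟨w, hw⟩ = f ⟨w, hw⟩ * f ⟨u, hu⟩ := by
          intro w hw hwH
          induction hu using Subgroup.closure_induction with
          | mem u hu' =>
            rcases hu' with rfl | rfl <;> rcases hw with rfl | rfl
            exacts [rfl, hab, hab.symm, rfl]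
          | one => show f 1 * _ = _ * f 1; rw [map_one, one_mul, mul_one]
          | mul u v hu hv ih1 ih2 =>
            show f (⟨u, hu⟩ * ⟨v, hv⟩) * _ = _ * f (⟨u, hu⟩ * ⟨v, hv⟩)
            rw [map_mul]
            exact (Commute.mul_left ih1 ih2 : Commute _ _).eq
          | inv u hu ih =>
            show f (⟨u, hu⟩⁻¹) * _ = _ * f (⟨u, hu⟩⁻¹)
            rw [map_inv]
            exact (Commute.inv_left ih : Commute _ _).eq
        intro v hv
        induction hv using Subgroup.closure_induction with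
        | mem v hv' => exact hc1 v hv' _
        | one => show _ * f 1 = f 1 * _; rw [map_one, one_mul, mul_one]
        | mul v w hv hw ih1 ih2 =>
          show _ * f (⟨v, hv⟩ * ⟨w, hw⟩) = f (⟨v, hv⟩ * ⟨w, hw⟩) * _
          rw [map_mul]
          exact (Commute.mul_right ih1 ih2 : Commute _ _).eq
        | inv v hv ih =>
          show _ * f (⟨v, hv⟩⁻¹) = f (⟨v, hv⟩⁻¹) * _
          rw [map_inv]
          exact (Commute.inv_right ih : Commute _ _).eq
      have h4 : f ⁅(⟨x, hx⟩ : H), ⟨y, hy⟩⁆ = 1 := by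
        rw [map_commutatorElement, commutatorElement_eq_one_iff_mul_comm]; exact key x hx y hy
      exact Subgroup.mem_subgroupOf.1 ((QuotientGroup.eq_one_iff _).1 h4)
    have hD1 : D = ⊥ := by
      by_contra hne
      haveI : Nontrivial D := (Subgroup.nontrivial_iff_ne_bot D).2 hne
      haveI : Group.IsNilpotent D := (hG.to_subgroup D).isNilpotent
      obtain ⟨j, hj⟩ := IsPGroup.iff_card.1 (hG.to_subgroup D)
      obtain ⟨i, rfl⟩ := Nat.exists_eq_succ_of_ne_zero (n := j) (by
        rintro rfl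
        exact hne (Subgroup.card_eq_one.1 (hj.trans (pow_zero 2))))
      obtain ⟨M, hM⟩ := Sylow.exists_subgroup_card_pow_prime (G := D) 2 (n := i)
        (hj ▸ pow_dvd_pow 2 i.le_succ)
      have h5 : M.index = 2 := by
        have := M.card_mul_index
        rw [hM, hj, pow_succ] at this
        exact Nat.eq_of_mul_eq_mul_left (pow_pos (by norm_num) i) this
      have hsq : ∀ x : D, x ^ 2 ∈ M := fun x => Subgroup.sq_mem_of_index_two h5 x
      have hMne : M ≠ ⊤ := fun h => by rw [h, Subgroup.index_top] at h5; exact absurd h5 (by norm_num)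
      refine hMne (top_le_iff.1 fun x _ => ?_)
      have hle : K ≤ M.map D.subtype := (Subgroup.closure_le _).2 (by
        rintro _ ⟨y, hy, rfl⟩
        exact ⟨_, hsq ⟨y, hy⟩, by simp⟩)
      obtain ⟨m, hm, hme⟩ := hle (hDK x.2)
      rwa [Subtype.coe_injective hme] at hm
    have h6 : ⁅a, b⁆ = 1 := by
      rw [← Subgroup.mem_bot, ← hD1]
      exact Subgroup.commutator_mem_commutator haH hbH
    exact commutatorElement_eq_one_iff_mul_comm.1 h6
  · intro h
    refine ⟨hG, fun a b n => ⟨1, one_mem _, ?_⟩⟩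
    rw [mul_one]; exact Commute.mul_pow (h a b) _

end Cfsg.Agent.S0642
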