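import Cfsg.Statements.S0644
import Cfsg.Agent.Lib.Fusion.RegularPower

set_option autoImplicit false
open Cfsg
open Cfsg.Agent.Fusion
open scoped commutatorElement

namespace Cfsg.Agent.S0644

/-- In a regular p-group the p^n-th powers of the elements of any subgroup H form a subgroup, whose derived subgroup is contained in the subgroup generated by the p^n-th powers of elements of the derived subgroup of H. -/
theorem result {G : Type*} [Group G] [Finite G] {p : ℕ} [Fact p.Prime] (hG : Cfsg.IsRegularPGroup p G) (H : Subgroup G) (n : ℕ) : {y : G | ∃ x ∈ H, y = x ^ (p ^ n)} = (Cfsg.powerClosure p n H : Set G) ∧ ⁅Cfsg.powerClosure p n H, Cfsg.powerClosure p n H⁆ ≤ Cfsg.powerClosure p n ⁅H, H⁆ := by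
  obtain ⟨hC, hP⟩ := power_all hG.1 (weakPowerOne_of_regular hG) n
  have hset : ∀ K : Subgroup G, {y : G | ∃ x ∈ K, y = x ^ (p ^ n)} = (Cfsg.powerClosure p n K : Set G) := by
    intro K
    obtain ⟨W, hW⟩ := exists_powers hC K
    rw [Cfsg.powerClosure, ← hW, Subgroup.closure_eq]
  refine ⟨hset H, ?_⟩
  rw [Subgroup.commutator_le]
  intro g hg h hh
  obtain ⟨x, hx, rfl⟩ := (hset H).symm.le hg
  obtain ⟨y, hy, rfl⟩ := (hset H).symm.le hh
  obtain ⟨u, hu, hue⟩ := comm_pow_mem hC hP H hx (pow_mem hy (p ^ n))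
  exact hue ▸ Subgroup.subset_closure ⟨u, hu, rfl⟩

end Cfsg.Agent.S0644
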