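import Cfsg.Statements.S0647


set_option autoImplicit false
open Cfsg

namespace Cfsg.Agent.S0647

/-- For a nonempty family of maximal abelian subgroups of a finite group, the intersection of the family is the centre of the subgroup it generates, which is also the full centralizer of that subgroup. -/
theorem result {S : Type*} [Group S] [Finite S] (𝒜 : Set (Subgroup S)) (hne : 𝒜.Nonempty) (hab : ∀ A ∈ 𝒜, IsMulCommutative A) (hmax : ∀ A ∈ 𝒜, ∀ B : Subgroup S, IsMulCommutative B → A ≤ B → B = A) : sInf 𝒜 = sSup 𝒜 ⊓ Subgroup.centralizer ((sSup 𝒜 : Subgroup S) : Set S) ∧ sInf 𝒜 = Subgroup.centralizer ((sSup 𝒜 : Subgroup S) : Set S) := by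
  have h1 : sInf 𝒜 = Subgroup.centralizer ((sSup 𝒜 : Subgroup S) : Set S) := by
    apply le_antisymm
    · rw [Subgroup.le_centralizer_iff]
      refine sSup_le fun A hA a ha x hx => ?_
      exact congrArg Subtype.val ((hab A hA).1.1 ⟨x, sInf_le hA hx⟩ ⟨a, ha⟩)
    · refine le_sInf fun A hA x hx => ?_
      have hcomm : ∀ y ∈ A, x * y = y * x := fun y hy =>
        ((Subgroup.mem_centralizer_iff.1 hx) y (le_sSup hA hy)).symm
      have hS' : ∀ u ∈ (insert x (A : Set S)), ∀ v ∈ (insert x (A : Set S)), u * v = v * u := by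
        rintro u (rfl | hu) v (rfl | hv)
        · rfl
        · exact hcomm v hv
        · exact (hcomm u hu).symm
        · exact congrArg Subtype.val ((hab A hA).1.1 ⟨u, hu⟩ ⟨v, hv⟩)
      have he := hmax A hA _ (Subgroup.isMulCommutative_closure hS')
        (fun y hy => Subgroup.subset_closure (Or.inr hy))
      exact he ▸ Subgroup.subset_closure (Or.inl rfl)
  refine ⟨le_antisymm (le_inf ?_ h1.le) (inf_le_right.trans h1.ge), h1⟩
  obtain ⟨A, hA⟩ := hne
  exact (sInf_le hA).trans (le_sSup hA)

end Cfsg.Agent.S0647
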