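import Cfsg.Statements.S0648
import Cfsg.Agent.Lib.Fusion.Basic

set_option autoImplicit false
open Cfsg
open Cfsg.Agent.Fusion
open scoped commutatorElement

namespace Cfsg.Agent.S0648

/-- If A acts on B centralizing [B, B], then [B, A] has derived subgroup central in B, and for abelian A and b ∈ B with [[b, A], A, A] = 1 the derived subgroup of the subgroup [b, A] generated by the commutators of b with A has exponent dividing 2. -/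
theorem result {G : Type*} [Group G] [Finite G] (A B : Subgroup G) (hAB : A ≤ Subgroup.normalizer (B : Set G)) (hc : ⁅⁅B, B⁆, A⁆ = ⊥) : ⁅⁅B, A⁆, ⁅B, A⁆⁆ ≤ B ⊓ Subgroup.centralizer (B : Set G) ∧ (IsMulCommutative A → ∀ b ∈ B, ⁅⁅(Subgroup.closure {g : G | ∃ a ∈ A, g = b⁻¹ * a * b * a⁻¹}), A⁆, A⁆ = ⊥ → ∀ w ∈ ⁅(Subgroup.closure {g : G | ∃ a ∈ A, g = b⁻¹ * a * b * a⁻¹}), (Subgroup.closure {g : G | ∃ a ∈ A, g = b⁻¹ * a * b * a⁻¹})⁆, w ^ 2 = 1) := by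
  have hBAB : ⁅B, A⁆ ≤ B := Subgroup.le_normalizer_iff_commutator_le_left.1 hAB
  have hBB : ⁅B, B⁆ ≤ B := Subgroup.le_normalizer_iff_commutator_le_left.1 Subgroup.le_normalizer
  have hBB' : ⁅⁅B, B⁆, B⁆ ≤ ⁅B, B⁆ := Subgroup.commutator_mono hBB le_rfl
  have hM : ⁅⁅B, A⁆, ⁅B, B⁆⁆ = ⊥ := by
    refine Subgroup.commutator_commutator_eq_bot_of_rotate ?_ ?_
    · rw [Subgroup.commutator_comm A, hc, Subgroup.commutator_bot_left]
    · exact le_bot_iff.1 ((Subgroup.commutator_mono hBB' le_rfl).trans hc.le)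
  have hZ : ⁅⁅B, A⁆, ⁅B, A⁆⁆ ≤ Subgroup.centralizer (B : Set G) := by
    rw [← Subgroup.commutator_eq_bot_iff_le_centralizer]
    have h1 : ⁅⁅⁅B, A⁆, B⁆, ⁅B, A⁆⁆ = ⊥ := le_bot_iff.1 ((Subgroup.commutator_mono
      (Subgroup.commutator_mono hBAB le_rfl) le_rfl).trans ((Subgroup.commutator_comm ⁅B, B⁆ ⁅B, A⁆).trans hM).le)
    refine Subgroup.commutator_commutator_eq_bot_of_rotate h1 ?_
    rw [Subgroup.commutator_comm B, h1]
  refine ⟨le_inf ((Subgroup.commutator_mono hBAB hBAB).trans hBB) hZ, fun hA b hb hquad => ?_⟩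
  set X := Subgroup.closure {g : G | ∃ a ∈ A, g = b⁻¹ * a * b * a⁻¹} with hX
  let F : G → G := fun a => b⁻¹ * a * b * a⁻¹
  have hF : ∀ a ∈ A, F a ∈ ⁅B, A⁆ := fun a ha => by
    have := Subgroup.commutator_mem_commutator (inv_mem hb) ha (g₁ := b⁻¹) (g₂ := a)
    simpa [F, commutatorElement_def, mul_assoc] using this
  have hFB : ∀ a ∈ A, F a ∈ B := fun a ha => hBAB (hF a ha)
  have hcomm : ∀ u ∈ B, ∀ v ∈ B, u⁻¹ * v⁻¹ * u * v ∈ ⁅B, B⁆ := fun u hu v hv => by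
    have := Subgroup.commutator_mem_commutator (inv_mem hu) (inv_mem hv) (g₁ := u⁻¹) (g₂ := v⁻¹)
    simpa [commutatorElement_def, mul_assoc] using this
  have hfix : ∀ a ∈ A, ∀ K ∈ ⁅B, B⁆, a * K * a⁻¹ = K := fun a ha K hK => by
    rw [Subgroup.mem_centralizer_iff.1 (Subgroup.commutator_eq_bot_iff_le_centralizer.1 hc hK) a ha,
      mul_inv_cancel_right]
  have hFK : ∀ a ∈ A, ∀ K ∈ ⁅B, B⁆, Commute (F a) K := fun a ha K hK =>
    (Subgroup.mem_centralizer_iff.1 (Subgroup.commutator_eq_bot_iff_le_centralizer.1 hM (hF a ha)) K hK).symm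
  have hconj : ∀ a ∈ A, a * b * a⁻¹ = b * F a := fun a _ => by simp only [F]; group
  have hfc : ∀ a ∈ A, ∀ c ∈ B, Commute a c → Commute (F a) c := by
    intro a ha c hcB hac
    have hK : b⁻¹ * c⁻¹ * b * c ∈ ⁅B, B⁆ := hcomm b hb c hcB
    have h1 := hfix a ha _ hK
    have h2 : a * (b⁻¹ * c⁻¹ * b * c) * a⁻¹ = (b * F a)⁻¹ * c⁻¹ * (b * F a) * c := by
      have h3 : a * c * a⁻¹ = c := by rw [hac.eq, mul_inv_cancel_right]
      have h4 : a * (b⁻¹ * c⁻¹ * b * c) * a⁻¹ =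
          (a * b * a⁻¹)⁻¹ * (a * c * a⁻¹)⁻¹ * (a * b * a⁻¹) * (a * c * a⁻¹) := by group
      rw [h4, h3, hconj a ha]
    rw [h2] at h1
    have h5 : (b * F a)⁻¹ * c⁻¹ * (b * F a) * c = (F a)⁻¹ * (b⁻¹ * c⁻¹ * b * c) * (c⁻¹ * F a * c) := by group
    rw [h5, ((hFK a ha _ hK).inv_left).eq, mul_assoc, mul_eq_left, inv_mul_eq_one, eq_comm,
      mul_assoc, inv_mul_eq_iff_eq_mul] at h1
    exact h1
  let c : G → G → G := fun a₁ a₂ => (F a₁)⁻¹ * (a₂ * F a₁ * a₂⁻¹)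
  have hcmem : ∀ a₁ ∈ A, ∀ a₂ ∈ A, c a₁ a₂ ∈ ⁅B, A⁆ ∧ ∀ a ∈ A, Commute a (c a₁ a₂) := by
    intro a₁ h₁ a₂ h₂
    have hmem : c a₁ a₂ ∈ ⁅X, A⁆ := by
      have hxX : F a₁ ∈ X := Subgroup.subset_closure ⟨a₁, h₁, rfl⟩
      have := Subgroup.commutator_mem_commutator (inv_mem hxX) h₂ (g₁ := (F a₁)⁻¹) (g₂ := a₂)
      simpa [c, commutatorElement_def, mul_assoc] using this
    refine ⟨?_, fun a ha => Subgroup.mem_centralizer_iff.1
      (Subgroup.commutator_eq_bot_iff_le_centralizer.1 hquad hmem) a ha⟩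
    refine Subgroup.commutator_mono (show X ≤ B from (Subgroup.closure_le _).2 ?_) le_rfl hmem
    rintro _ ⟨a, ha, rfl⟩
    exact hFB a ha
  have hkey : ∀ a₁ ∈ A, ∀ a₂ ∈ A,
      b⁻¹ * (c a₁ a₂)⁻¹ * b * c a₁ a₂ * ((F a₂)⁻¹ * (F a₁)⁻¹ * F a₂ * F a₁) = 1 := by
    intro a₁ h₁ a₂ h₂
    obtain ⟨hcBA, hcA⟩ := hcmem a₁ h₁ a₂ h₂
    set d := c a₁ a₂ with hd
    have hdB : d ∈ B := hBAB hcBA
    set K := b⁻¹ * (F a₁)⁻¹ * b * F a₁ with hKdef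
    set K₁ := b⁻¹ * d⁻¹ * b * d with hK₁def
    set Z := (F a₂)⁻¹ * (F a₁)⁻¹ * F a₂ * F a₁ with hZdef
    have hK : K ∈ ⁅B, B⁆ := hcomm b hb _ (hFB a₁ h₁)
    have hK₁ : K₁ ∈ ⁅B, B⁆ := hcomm b hb _ hdB
    have hdF₁ : Commute (F a₁) d := hfc a₁ h₁ d hdB (hcA a₁ h₁)
    have hdF₂ : Commute (F a₂) d := hfc a₂ h₂ d hdB (hcA a₂ h₂)
    have hdK : Commute d K :=
      (Subgroup.mem_centralizer_iff.1 (Subgroup.commutator_eq_bot_iff_le_centralizer.1 hM hcBA) K hK).symm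
    have hZmem : Z ∈ Subgroup.centralizer (B : Set G) := hZ (by
      have := Subgroup.commutator_mem_commutator (inv_mem (hF a₂ h₂)) (inv_mem (hF a₁ h₁))
        (g₁ := (F a₂)⁻¹) (g₂ := (F a₁)⁻¹)
      simpa [hZdef, commutatorElement_def, mul_assoc] using this)
    have hZd : Commute Z d := (Subgroup.mem_centralizer_iff.1 hZmem d hdB).symm
    have h1 : a₂ * K * a₂⁻¹ = (b * F a₂)⁻¹ * (F a₁ * d)⁻¹ * (b * F a₂) * (F a₁ * d) := by
      have h2 : a₂ * F a₁ * a₂⁻¹ = F a₁ * d := by simp only [hd, c]; group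
      rw [hKdef, ← hconj a₂ h₂, ← h2]; group
    have h3 : (b * F a₂)⁻¹ * (F a₁ * d)⁻¹ * (b * F a₂) * (F a₁ * d) =
        (F a₂)⁻¹ * K₁ * (d⁻¹ * K * ((F a₁)⁻¹ * F a₂ * F a₁)) * d := by
      rw [hKdef, hK₁def]; group
    rw [hfix a₂ h₂ K hK, h3] at h1
    have h4 : (F a₂)⁻¹ * K₁ * (d⁻¹ * K * ((F a₁)⁻¹ * F a₂ * F a₁)) * d = K₁ * Z * K := by
      calc _ = K₁ * (F a₂)⁻¹ * (K * d⁻¹ * ((F a₁)⁻¹ * F a₂ * F a₁)) * d := by
            rw [((hFK a₂ h₂ K₁ hK₁).inv_left).eq, hdK.inv_left.eq]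
        _ = K₁ * ((F a₂)⁻¹ * K) * (d⁻¹ * ((F a₁)⁻¹ * F a₂ * F a₁)) * d := by group
        _ = K₁ * (K * (F a₂)⁻¹) * (((F a₁)⁻¹ * F a₂ * F a₁) * d⁻¹) * d := by
            rw [((hFK a₂ h₂ K hK).inv_left).eq,
              ((hdF₁.inv_left.mul_left hdF₂).mul_left hdF₁).symm.inv_left.eq]
        _ = K₁ * (K * Z) := by rw [hZdef]; group
        _ = K₁ * (Z * K) := by rw [Subgroup.mem_centralizer_iff.1 hZmem K (hBB hK)]
        _ = _ := (mul_assoc _ _ _).symm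
    rw [h4] at h1
    exact mul_eq_right.1 h1.symm
  have hsq : ∀ a₁ ∈ A, ∀ a₂ ∈ A, ((F a₂)⁻¹ * (F a₁)⁻¹ * F a₂ * F a₁) ^ 2 = 1 := by
    intro a₁ h₁ a₂ h₂
    set Z := (F a₂)⁻¹ * (F a₁)⁻¹ * F a₂ * F a₁ with hZdef
    have hrel : F a₁ * (a₁ * F a₂ * a₁⁻¹) = F a₂ * (a₂ * F a₁ * a₂⁻¹) := by
      have h : a₁ * a₂ = a₂ * a₁ := congrArg Subtype.val (hA.1.comm ⟨a₁, h₁⟩ ⟨a₂, h₂⟩)
      calc F a₁ * (a₁ * F a₂ * a₁⁻¹) = b⁻¹ * (a₁ * a₂) * b * (a₁ * a₂)⁻¹ := by simp only [F]; group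
        _ = b⁻¹ * (a₂ * a₁) * b * (a₂ * a₁)⁻¹ := by rw [h]
        _ = _ := by simp only [F]; group
    have hc21 : c a₂ a₁ = Z * c a₁ a₂ := by
      calc c a₂ a₁ = (F a₂)⁻¹ * (F a₁)⁻¹ * (F a₁ * (a₁ * F a₂ * a₁⁻¹)) := by simp only [c]; group
        _ = _ := by rw [hrel]; simp only [c, hZdef]; group
    have hZmem : Z ∈ Subgroup.centralizer (B : Set G) := hZ (by
      have := Subgroup.commutator_mem_commutator (inv_mem (hF a₂ h₂)) (inv_mem (hF a₁ h₁))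
        (g₁ := (F a₂)⁻¹) (g₂ := (F a₁)⁻¹)
      simpa [hZdef, commutatorElement_def, mul_assoc] using this)
    have hK : b⁻¹ * (c a₂ a₁)⁻¹ * b * c a₂ a₁ = b⁻¹ * (c a₁ a₂)⁻¹ * b * c a₁ a₂ := by
      rw [hc21]
      calc _ = b⁻¹ * (c a₁ a₂)⁻¹ * (Z⁻¹ * b) * Z * c a₁ a₂ := by group
        _ = b⁻¹ * (c a₁ a₂)⁻¹ * (b * Z⁻¹) * Z * c a₁ a₂ := by
            rw [(Subgroup.mem_centralizer_iff.1 (inv_mem hZmem) b hb)]
        _ = _ := by group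
    have e1 := eq_inv_of_mul_eq_one_right (hkey a₁ h₁ a₂ h₂)
    have e2 := eq_inv_of_mul_eq_one_right (hkey a₂ h₂ a₁ h₁)
    rw [hK, ← e1] at e2
    rw [sq]
    calc Z * Z = (F a₁)⁻¹ * (F a₂)⁻¹ * F a₁ * F a₂ * Z := by rw [e2, ← hZdef]
      _ = 1 := by rw [hZdef]; group
  let T : Subgroup G :=
    { carrier := {u | u ∈ Subgroup.centralizer (B : Set G) ∧ u ∈ B ∧ u ^ 2 = 1}
      one_mem' := ⟨one_mem _, one_mem _, one_pow 2⟩
      mul_mem' := fun {u v} hu hv => ⟨mul_mem hu.1 hv.1, mul_mem hu.2.1 hv.2.1, by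
        rw [Commute.mul_pow (Subgroup.mem_centralizer_iff.1 hv.1 u hu.2.1), hu.2.2, hv.2.2, one_mul]⟩
      inv_mem' := fun {u} hu => ⟨inv_mem hu.1, inv_mem hu.2.1, by rw [inv_pow, hu.2.2, inv_one]⟩ }
  have hXB : X ≤ B := (Subgroup.closure_le _).2 (by rintro _ ⟨a, ha, rfl⟩; exact hFB a ha)
  have hTB : B ≤ Subgroup.centralizer (T : Set G) := fun x hx =>
    Subgroup.mem_centralizer_iff.2 fun u hu => (Subgroup.mem_centralizer_iff.1 hu.1 x hx).symm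
  suffices hle : ⁅X, X⁆ ≤ T from fun w hw => (hle hw).2.2
  have : (T.subgroupOf B).Normal := ⟨fun z hz x => by
    rw [Subgroup.mem_subgroupOf] at hz ⊢
    have := Subgroup.mem_centralizer_iff.1 hz.1 x x.2
    simpa [this] using hz⟩
  rw [Subgroup.commutator_le]
  intro u hu v hv
  let π := QuotientGroup.mk' (T.subgroupOf B)
  have hcom : ∀ x (hx : x ∈ B) y (hy : y ∈ B), ⁅x, y⁆ ∈ T ↔ Commute (π ⟨x, hx⟩) (π ⟨y, hy⟩) := by
    intro x hx y hy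
    rw [← commutatorElement_eq_one_iff_commute, ← map_commutatorElement, QuotientGroup.mk'_apply,
      QuotientGroup.eq_one_iff, Subgroup.mem_subgroupOf]
    rfl
  have main : ∀ x (_ : x ∈ X) y (_ : y ∈ X), ∃ (hx : x ∈ B) (hy : y ∈ B), Commute (π ⟨x, hx⟩) (π ⟨y, hy⟩) := by
    intro x hx y hy
    refine ⟨hXB hx, hXB hy, ?_⟩
    let P := X.subgroupOf B
    have hP : P = Subgroup.closure {z : B | ∃ a ∈ A, (z : G) = F a} := by
      refine Subgroup.map_injective B.subtype_injective ?_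
      rw [Subgroup.map_subgroupOf_eq_of_le hXB, MonoidHom.map_closure, hX]
      congr 1
      ext z
      constructor
      · rintro ⟨a, ha, rfl⟩; exact ⟨⟨_, hFB a ha⟩, ⟨a, ha, rfl⟩, rfl⟩
      · rintro ⟨z, ⟨a, ha, hz⟩, rfl⟩; exact ⟨a, ha, hz⟩
    have h1 : (⟨x, hXB hx⟩ : B) ∈ P := hx
    have h2 : (⟨y, hXB hy⟩ : B) ∈ P := hy
    rw [hP] at h1 h2
    have gen : ∀ p ∈ {z : B | ∃ a ∈ A, (z : G) = F a}, ∀ q ∈ {z : B | ∃ a ∈ A, (z : G) = F a},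
        Commute (π p) (π q) := by
      rintro ⟨p, hp⟩ ⟨a₁, h₁, rfl : p = F a₁⟩ ⟨q, hq⟩ ⟨a₂, h₂, rfl : q = F a₂⟩
      refine (hcom _ hp _ hq).1 ⟨hZ (Subgroup.commutator_mem_commutator (hF a₁ h₁) (hF a₂ h₂)),
        hBB (Subgroup.commutator_mem_commutator hp hq), ?_⟩
      have e : ⁅F a₁, F a₂⁆ = (F a₂ * F a₁) * ((F a₁)⁻¹ * (F a₂)⁻¹ * F a₁ * F a₂) * (F a₂ * F a₁)⁻¹ := by
        rw [commutatorElement_def]; group
      rw [e, conj_pow, hsq a₂ h₂ a₁ h₁, mul_one, mul_inv_cancel]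
    suffices aux : ∀ p ∈ Subgroup.closure {z : B | ∃ a ∈ A, (z : G) = F a},
        ∀ q ∈ Subgroup.closure {z : B | ∃ a ∈ A, (z : G) = F a}, Commute (π p) (π q) from
      aux _ h1 _ h2
    intro p hp q hq
    induction hp using Subgroup.closure_induction with
    | mem p hp =>
      induction hq using Subgroup.closure_induction with
      | mem q hq => exact gen p hp q hq
      | one => rw [map_one]; exact Commute.one_right _
      | mul q q' _ _ i1 i2 => rw [map_mul]; exact i1.mul_right i2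
      | inv q _ i1 => rw [map_inv]; exact i1.inv_right
    | one => rw [map_one]; exact Commute.one_left _
    | mul p p' _ _ i1 i2 => rw [map_mul]; exact i1.mul_left i2
    | inv p _ i1 => rw [map_inv]; exact i1.inv_left
  obtain ⟨_, _, h⟩ := main u hu v hv
  exact (hcom _ _ _ _).2 h

end Cfsg.Agent.S0648
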