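import Cfsg.Statements.S0656
import Cfsg.Agent.Lib.Fusion.QuadraticPair
import Cfsg.Agent.Lib.Solv.Zipper

set_option autoImplicit false
open Cfsg
open Cfsg.Agent.Fusion
open scoped commutatorElement

namespace Cfsg.Agent.S0656

open scoped Pointwise

/-- For odd p, a faithful group on an elementary abelian p-group with no nontrivial normal p-subgroup in which some nontrivial p-element acts quadratically has a section isomorphic to SL(2, p). -/
theorem result {G : Type*} [Group G] [Finite G] {p : ℕ} [Fact p.Prime] (hp : p ≠ 2) (V H : Subgroup G) (hV : Cfsg.IsElementaryAbelian p V) (hHV : H ≤ Subgroup.normalizer (V : Set G)) (hf : H ⊓ Subgroup.centralizer (V : Set G) = ⊥) (hO : Cfsg.pCore p ↥H = ⊥) (x : G) (hxH : x ∈ H) (hx1 : x ≠ 1) (hxp : ∃ k : ℕ, orderOf x = p ^ k) (hq : ⁅⁅V, Subgroup.zpowers x⁆, Subgroup.zpowers x⁆ = ⊥) : ∃ (K L : Subgroup G) (hL : (L.subgroupOf K).Normal), K ≤ H ∧ Nonempty ((K ⧸ L.subgroupOf K) ≃* Matrix.SpecialLinearGroup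 (Fin 2) (ZMod p)) := by
  classical
  obtain ⟨k, hk⟩ := hxp
  set X := Subgroup.zpowers (⟨x, hxH⟩ : H) with hX
  by_contra hcon
  have hnot : ¬ ∀ g : H, IsPGroup p (X ⊔ MulAut.conj g • X : Subgroup H) := by
    intro h
    have hle := Cfsg.Agent.Solv.baer_suzuki X h
    rw [hO, le_bot_iff, Subgroup.zpowers_eq_bot] at hle
    exact hx1 (congrArg Subtype.val hle)
  push Not at hnot
  obtain ⟨g, hg⟩ := hnot
  set y : G := (g : G) * x * (g : G)⁻¹ with hy
  have hyH : y ∈ H := mul_mem (mul_mem g.2 hxH) (inv_mem g.2)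
  have hqx : ∀ v ∈ V, ⁅⁅v, x⁆, x⁆ = 1 := by
    intro v hv
    rw [← Subgroup.mem_bot, ← hq]
    exact Subgroup.commutator_mem_commutator
      (Subgroup.commutator_mem_commutator hv (Subgroup.mem_zpowers x)) (Subgroup.mem_zpowers x)
  have hqy : ∀ v ∈ V, ⁅⁅v, y⁆, y⁆ = 1 := by
    intro v hv
    have hv' : (g : G)⁻¹ * v * (g : G) ∈ V :=
      (Subgroup.mem_normalizer_iff''.1 (hHV g.2) v).1 hv
    have e : ⁅⁅v, y⁆, y⁆ = (g : G) * ⁅⁅(g : G)⁻¹ * v * (g : G), x⁆, x⁆ * (g : G)⁻¹ := by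
      simp only [hy, commutatorElement_def]; group
    rw [e, hqx _ hv', mul_one, mul_inv_cancel]
  have hP : ¬ IsPGroup p (Subgroup.closure ({x, y} : Set G)) := fun hP => by
    refine hg ?_
    have hle : (X ⊔ MulAut.conj g • X : Subgroup H) ≤
        (Subgroup.closure ({x, y} : Set G)).comap H.subtype := by
      refine sup_le (Subgroup.zpowers_le.2 (Subgroup.subset_closure (by simp))) ?_
      rintro _ ⟨z, hz, rfl⟩
      obtain ⟨i, rfl⟩ := Subgroup.mem_zpowers_iff.1 hz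
      show (((MulAut.conj g) ((⟨x, hxH⟩ : H) ^ i) : H) : G) ∈ Subgroup.closure ({x, y} : Set G)
      have e : (((MulAut.conj g) ((⟨x, hxH⟩ : H) ^ i) : H) : G) = y ^ i := by
        rw [MulAut.conj_apply, hy, conj_zpow]; rfl
      rw [e]
      exact zpow_mem (Subgroup.subset_closure (by simp)) i
    exact (hP.comap_of_injective H.subtype H.subtype_injective).to_le hle
  obtain ⟨L, M, hM, hL, hiso⟩ := Cfsg.Agent.Fusion.involves_sl2_of_quadratic_pair hp V H hV hHV hf
    hxH hyH hqx hqy hP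
  exact hcon ⟨L, M, hM, hL, hiso⟩

end Cfsg.Agent.S0656
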