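import Cfsg.Statements.S0657
import Cfsg.Agent.Lib.Fusion.LinearStable

set_option autoImplicit false
open Cfsg
open Cfsg.Agent.Fusion
open scoped commutatorElement

namespace Cfsg.Agent.S0657

/-- For odd p, a group that fails to be p-stable modulo its largest normal subgroup of order prime to p, and whose upper p-series does not stop there, has a section isomorphic to SL(2, p). -/
theorem result {G : Type*} [Group G] [Finite G] {p : ℕ} [Fact p.Prime] (hp : p ≠ 2) (hO : Cfsg.pPrimeCore p G < Cfsg.pPrimePCore p G) (hns : ¬ Cfsg.IsPStable p (G ⧸ Cfsg.pPrimeCore p G)) : ∃ (K L : Subgroup G) (hL : (L.subgroupOf K).Normal), K ≤ ⊤ ∧ Nonempty ((K ⧸ L.subgroupOf K) ≃* Matrix.SpecialLinearGroup (Fin 2) (ZMod p)) := by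
  set X := G ⧸ Cfsg.pPrimeCore p G
  have hX : Cfsg.Involves (Matrix.SpecialLinearGroup (Fin 2) (ZMod p)) X := by
    by_contra hni
    have hst := Cfsg.Agent.Fusion.isNormalizerPStable_of_not_involves (G := X) hp fun P _ _ hinv =>
      hni (Cfsg.Agent.Fusion.involves_trans hinv
        (Cfsg.Agent.Fusion.involves_subgroup Cfsg.Agent.Fusion.involves_refl _))
    refine hns ⟨(Fact.out : p.Prime).odd_of_ne_two hp, ?_, ?_⟩
    · intro hbot
      refine hO.ne (le_antisymm hO.le ?_)
      intro x hx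
      have h1 : QuotientGroup.mk' (Cfsg.pPrimeCore p G) x ∈ Cfsg.pCore p X := hx
      rw [hbot, Subgroup.mem_bot] at h1
      exact (QuotientGroup.eq_one_iff x).1 h1
    · intro A P hA hP hAP _ _ hq
      rintro _ ⟨⟨a, ha⟩, haA, rfl⟩
      refine hst P hP a ha ?_
      rw [eq_bot_iff, ← hq]
      have hz : Subgroup.zpowers a ≤ A := Subgroup.zpowers_le.2 haA
      exact Subgroup.commutator_mono (Subgroup.commutator_mono le_rfl hz) hz
  obtain ⟨K, L, hL, hiso⟩ := Cfsg.Agent.Fusion.involves_trans hX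
    (Cfsg.Agent.Fusion.involves_surjective Cfsg.Agent.Fusion.involves_refl
      (QuotientGroup.mk' (Cfsg.pPrimeCore p G)) (QuotientGroup.mk'_surjective _))
  exact ⟨K, L, hL, le_top, hiso⟩

end Cfsg.Agent.S0657
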