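import Cfsg.Statements.S0667
import Cfsg.Agent.Lib.Fusion.PStableQuotient

set_option autoImplicit false
open Cfsg
open Cfsg.Agent.Fusion
open scoped commutatorElement

namespace Cfsg.Agent.S0667

/-- Glauberman's Theorem in the p-constrained, p-stable vocabulary: for odd p such a group is the product of its largest normal subgroup of order prime to p with the normalizer of Z(J(P)), and Z(J(P)) is normal when that p'-subgroup is trivial. -/
theorem result {G : Type*} [Group G] [Finite G] {p : ℕ} [Fact p.Prime] (hp : p ≠ 2) (hc : Cfsg.IsPConstrained p G) (hs : Cfsg.IsPStable p G) (P : Sylow p G) : Cfsg.pPrimeCore p G ⊔ Subgroup.normalizer (Cfsg.centerThompsonAOf ((P : Subgroup G)) : Set G) = ⊤ ∧ (Cfsg.pPrimeCore p G = ⊥ → (Cfsg.centerThompsonAOf ((P : Subgroup G))).Normal) := by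
  set K := Cfsg.pPrimeCore p G
  have hK : (Nat.card K).Coprime p := card_pPrimeCore_coprime p G
  set π := QuotientGroup.mk' K
  have hinj : Set.InjOn π (P : Subgroup G) := injOn_mk_of_coprime hK P.isPGroup'
  obtain ⟨T, hT⟩ := (sylIn_map_mk (N := K) (sylIn_top P)).exists_sylow
  have hn := centerThompsonAOf_normal hp (centralizer_pCore_quotient_le hc)
    (fun Q _ hQ => isPStableOn_quotient_of_isPStable hs Q hQ) T
  rw [hT, inducedFunctor_map_of_injOn (isCharPFunctor_wZA (p := p)) π hinj P.isPGroup',
    inducedFunctor_wZA] at hn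
  have h1 : K ⊔ Subgroup.normalizer (Cfsg.centerThompsonAOf ((P : Subgroup G)) : Set G) = ⊤ := by
    refine top_le_iff.1 fun g _ => ?_
    have hVP : Cfsg.centerThompsonAOf ((P : Subgroup G)) ≤ (P : Subgroup G) := by
      rw [← inducedFunctor_wZA]; exact inducedFunctor_le _ _
    obtain ⟨n, hn', he⟩ := exists_lift_normalizer hK (P.isPGroup'.to_le hVP) (y := π g)
      (by haveI := hn; rw [Subgroup.normalizer_eq_top]; exact Subgroup.mem_top _)
    rw [← inv_mul_cancel_right g n]
    refine Subgroup.mul_mem_sup ((QuotientGroup.eq_one_iff _).1 ?_) hn'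
    show π (g * n⁻¹) = 1
    rw [map_mul, map_inv, he, mul_inv_cancel]
  refine ⟨h1, fun h0 => ?_⟩
  rw [show K = ⊥ from h0, bot_sup_eq] at h1
  exact Subgroup.normalizer_eq_top_iff.1 h1

end Cfsg.Agent.S0667
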