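import Cfsg.Statements.S0658
import Cfsg.Agent.S0667
import Cfsg.Agent.Lib.Fusion.PStableQuotient

set_option autoImplicit false
open Cfsg
open Cfsg.Agent.Fusion
open scoped commutatorElement

namespace Cfsg.Agent.S0658

universe u

theorem zp_cj {G : Type u} [Group G] [Finite G] {p : ℕ} [Fact p.Prime] {T : Subgroup G}
    (hT : IsPGroup p T) (g : G) :
    centerThompsonAOf (cj T g) = cj (centerThompsonAOf T) g := by
  rw [← inducedFunctor_wZA, ← inducedFunctor_wZA]
  exact inducedFunctor_map_of_injOn (isCharPFunctor_wZA (p := p)) _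
    (MulAut.conj g).injective.injOn hT

theorem climb {G : Type u} [Group G] [Finite G] {p : ℕ} [Fact p.Prime]
    (hloc : ∀ U T : Subgroup G, IsPGroup p U → U ≠ ⊥ → SylIn p T (Subgroup.normalizer (U : Set G)) →
      Subgroup.normalizer (U : Set G) ≤ Subgroup.normalizer (centerThompsonAOf T : Set G))
    (P : Sylow p G) (Q : Subgroup G) (hQP : Q ≤ (P : Subgroup G)) (hQ1 : Q ≠ ⊥) :
    Subgroup.normalizer (Q : Set G) ≤
      Subgroup.normalizer (centerThompsonAOf (P : Subgroup G) : Set G) := by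
  have hW := isCharPFunctor_wZA (p := p)
  have hcardlt : ∀ {X Y : Subgroup G}, X < Y → Nat.card X < Nat.card Y := fun h =>
    replacement_property.card_lt_card_of_lt h
  have hzne : ∀ T : Subgroup G, IsPGroup p T → T ≠ ⊥ → centerThompsonAOf T ≠ ⊥ := by
    intro T hT hne
    rw [← inducedFunctor_wZA]
    exact (isConjugacyFunctor_induced hW T hT).2.1 hne
  have hzle : ∀ T : Subgroup G, centerThompsonAOf T ≤ T := fun T => by
    rw [← inducedFunctor_wZA]; exact inducedFunctor_le _ _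
  have hBof : ∀ d : ℕ, (∀ P₁ P₂ : Sylow p G, d < Nat.card ↥((P₁ : Subgroup G) ⊓ P₂) →
        centerThompsonAOf (P₁ : Subgroup G) = centerThompsonAOf (P₂ : Subgroup G)) →
      ∀ U T : Subgroup G, IsPGroup p U → U ≠ ⊥ → SylIn p T (Subgroup.normalizer (U : Set G)) →
        d < Nat.card T → ∀ P₃ : Sylow p G, T ≤ (P₃ : Subgroup G) →
        Subgroup.normalizer (U : Set G) ≤
          Subgroup.normalizer (centerThompsonAOf (P₃ : Subgroup G) : Set G) := by
    intro d hA U T hU hU1 hT hd P₃ hTP₃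
    induction hk : Nat.card G - Nat.card T using Nat.strong_induction_on generalizing U T P₃ with
    | _ k IH =>
    have h1 := hloc U T hU hU1 hT
    by_cases hTe : T = (P₃ : Subgroup G)
    · exact hTe ▸ h1
    set U' := centerThompsonAOf T
    have hT1 : T ≠ ⊥ := fun h => by
      have := hT.eq_of_le hU (h ▸ bot_le) Subgroup.le_normalizer
      exact hU1 (this.trans h)
    have hlt : T < (P₃ : Subgroup G) ⊓ Subgroup.normalizer (T : Set G) :=
      SylIn.normalizer_growth (p := p) hTP₃ hTe P₃.isPGroup'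
    have hNN : Subgroup.normalizer (T : Set G) ≤ Subgroup.normalizer (U' : Set G) := fun g hg => by
      rw [mem_normalizer_iff_cj, ← zp_cj hT.isPGroup, cj_eq_self hg]
    set R := (P₃ : Subgroup G) ⊓ Subgroup.normalizer (U' : Set G)
    have hTR : Nat.card T < Nat.card R := hcardlt (lt_of_lt_of_le hlt (inf_le_inf_left _ hNN))
    obtain ⟨T', hT', hRT'⟩ := exists_sylIn_ge (P₃.isPGroup'.to_inf_left (K := Subgroup.normalizer (U' : Set G)))
      (inf_le_right : R ≤ Subgroup.normalizer (U' : Set G))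
    obtain ⟨P₄, hP₄⟩ := hT'.isPGroup.exists_le_sylow
    have hTT' : Nat.card T < Nat.card T' := hTR.trans_le (Subgroup.card_le_of_le hRT')
    have hle4 : T' ≤ (P₄ : Subgroup G) := hP₄
    have heq : centerThompsonAOf (P₃ : Subgroup G) = centerThompsonAOf (P₄ : Subgroup G) := by
      refine hA _ _ ((hd.trans hTR).trans_le (Subgroup.card_le_of_le (le_inf inf_le_left ?_)))
      exact hRT'.trans hle4
    have hG : Nat.card T' ≤ Nat.card G := Subgroup.card_le_card_group T'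
    have h2 := IH (Nat.card G - Nat.card T') (by omega) U' T' (hT.isPGroup.to_le (hzle T))
      (hzne T hT.isPGroup hT1) hT' (hd.trans hTT') P₄ hle4 rfl
    exact h1.trans (heq ▸ h2)
  have hA : ∀ P₁ P₂ : Sylow p G, (P₁ : Subgroup G) ⊓ P₂ ≠ ⊥ →
      centerThompsonAOf (P₁ : Subgroup G) = centerThompsonAOf (P₂ : Subgroup G) := by
    intro P₁ P₂ hD
    induction hk : Nat.card G - Nat.card ↥((P₁ : Subgroup G) ⊓ P₂) using Nat.strong_induction_on
      generalizing P₁ P₂ with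
    | _ k IH =>
    set D := (P₁ : Subgroup G) ⊓ P₂
    by_cases hne : (P₁ : Subgroup G) = P₂
    · rw [hne]
    have hbig : ∀ P₅ P₆ : Sylow p G, Nat.card D < Nat.card ↥((P₅ : Subgroup G) ⊓ P₆) →
        centerThompsonAOf (P₅ : Subgroup G) = centerThompsonAOf (P₆ : Subgroup G) := by
      intro P₅ P₆ h
      have : Nat.card ↥((P₅ : Subgroup G) ⊓ P₆) ≤ Nat.card G := Subgroup.card_le_card_group _
      refine IH _ (by omega) P₅ P₆ (fun h0 => ?_) rfl
      rw [h0, Subgroup.card_bot] at h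
      have : 0 < Nat.card D := Nat.card_pos
      omega
    have hDp : IsPGroup p D := P₁.isPGroup'.to_inf_left
    have hD₁ : D ≠ (P₁ : Subgroup G) := fun h => hne
      ((sylIn_top P₁).eq_of_le P₂.isPGroup' (inf_eq_left.1 h) le_top).symm
    have hD₂ : D ≠ (P₂ : Subgroup G) := fun h => hne
      ((sylIn_top P₂).eq_of_le P₁.isPGroup' (inf_eq_right.1 h) le_top)
    obtain ⟨T₁, hT₁, hR₁⟩ := exists_sylIn_ge (P₁.isPGroup'.to_inf_left (K := Subgroup.normalizer (D : Set G)))
      (inf_le_right : (P₁ : Subgroup G) ⊓ Subgroup.normalizer (D : Set G) ≤ _)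
    obtain ⟨T₂, hT₂, hR₂⟩ := exists_sylIn_ge (P₂.isPGroup'.to_inf_left (K := Subgroup.normalizer (D : Set G)))
      (inf_le_right : (P₂ : Subgroup G) ⊓ Subgroup.normalizer (D : Set G) ≤ _)
    obtain ⟨Q₁, hQ₁⟩ := hT₁.isPGroup.exists_le_sylow
    obtain ⟨Q₂, hQ₂⟩ := hT₂.isPGroup.exists_le_sylow
    have hl₁ := hcardlt (SylIn.normalizer_growth (p := p) (inf_le_left : D ≤ _) hD₁ P₁.isPGroup')
    have hl₂ := hcardlt (SylIn.normalizer_growth (p := p) (inf_le_right : D ≤ _) hD₂ P₂.isPGroup')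
    have e₁ : centerThompsonAOf (P₁ : Subgroup G) = centerThompsonAOf (Q₁ : Subgroup G) :=
      hbig _ _ (hl₁.trans_le (Subgroup.card_le_of_le (le_inf inf_le_left (hR₁.trans hQ₁))))
    have e₂ : centerThompsonAOf (P₂ : Subgroup G) = centerThompsonAOf (Q₂ : Subgroup G) :=
      hbig _ _ (hl₂.trans_le (Subgroup.card_le_of_le (le_inf inf_le_left (hR₂.trans hQ₂))))
    have hd₁ : Nat.card D < Nat.card T₁ := hl₁.trans_le (Subgroup.card_le_of_le hR₁)
    have hd₂ : Nat.card D < Nat.card T₂ := hl₂.trans_le (Subgroup.card_le_of_le hR₂)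
    obtain ⟨n, hn, hnT⟩ := hT₁.conj_eq hT₂
    obtain ⟨Q₃, hQ₃⟩ := ((sylIn_top Q₁).cj' (g := n)
      (by rw [Subgroup.normalizer_eq_top]; exact Subgroup.mem_top _)).exists_sylow
    have e₃ : centerThompsonAOf (Q₂ : Subgroup G) = centerThompsonAOf (Q₃ : Subgroup G) :=
      hbig _ _ (hd₂.trans_le (Subgroup.card_le_of_le (le_inf hQ₂
        (by rw [hQ₃, ← hnT]; exact cj_mono hQ₁ n))))
    have hnN := hBof _ hbig D T₁ hDp hD hT₁ hd₁ Q₁ hQ₁ hn
    rw [e₁, e₂, e₃, hQ₃, zp_cj Q₁.isPGroup', cj_eq_self hnN]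
  obtain ⟨T, hT, hRT⟩ := exists_sylIn_ge (P.isPGroup'.to_inf_left (K := Subgroup.normalizer (Q : Set G)))
    (inf_le_right : (P : Subgroup G) ⊓ Subgroup.normalizer (Q : Set G) ≤ _)
  obtain ⟨P₃, hP₃⟩ := hT.isPGroup.exists_le_sylow
  have hQT : Q ≤ T := (le_inf hQP Subgroup.le_normalizer).trans hRT
  rw [hA P P₃ fun h => hQ1 (le_bot_iff.1 ((le_inf hQP (hQT.trans hP₃)).trans h.le))]
  have h1Q : 1 < Nat.card Q := (Subgroup.one_lt_card_iff_ne_bot Q).2 hQ1
  refine hBof 1 (fun P₁ P₂ h => hA P₁ P₂ fun h0 => ?_) Q T (P.isPGroup'.to_le hQP) hQ1 hT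
    (h1Q.trans_le (Subgroup.card_le_of_le hQT)) P₃ hP₃
  rw [h0, Subgroup.card_bot] at h
  exact lt_irrefl _ h

/-- In a group of characteristic p type all of whose p-locals are p-stable (p odd), the normalizer of Z(J(P)) contains the normalizer of every nontrivial subgroup of the Sylow p-subgroup P. -/
theorem result {G : Type*} [Group G] [Finite G] {p : ℕ} [Fact p.Prime] (hp : p ≠ 2) (hloc : ∀ Q : Subgroup G, IsPGroup p Q → Q ≠ ⊥ → Cfsg.pPrimeCore p ↥(Subgroup.normalizer (Q : Set G)) = ⊥ ∧ Cfsg.IsPConstrained p ↥(Subgroup.normalizer (Q : Set G)) ∧ Cfsg.IsPStable p ↥(Subgroup.normalizer (Q : Set G))) (P : Sylow p G) (Q : Subgroup G) (hQP : Q ≤ (P : Subgroup G)) (hQ1 : Q ≠ ⊥) : Subgroup.normalizer (Q : Set G) ≤ Subgroup.normalizer (Cfsg.centerThompsonAOf ((P : Subgroup G)) : Set G) := by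
  refine climb (fun U T hU hU1 hT => ?_) P Q hQP hQ1
  obtain ⟨h0, hc, hs⟩ := hloc U hU hU1
  set N := Subgroup.normalizer (U : Set G)
  obtain ⟨T', hT'⟩ := hT.exists_sylow_subgroupOf
  haveI hn : (Cfsg.centerThompsonAOf (T' : Subgroup N)).Normal :=
    (Cfsg.Agent.S0667.result hp hc hs T').2 h0
  have hm : (Cfsg.centerThompsonAOf (T' : Subgroup N)).map N.subtype =
      Cfsg.centerThompsonAOf T := by
    rw [← inducedFunctor_wZA, ← inducedFunctor_wZA, ← inducedFunctor_map_of_injOn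
      (isCharPFunctor_wZA (p := p)) N.subtype N.subtype_injective.injOn T'.isPGroup',
      hT', Subgroup.map_subgroupOf_eq_of_le hT.le]
  intro g hg
  refine mem_normalizer_of_cj_le ?_
  rw [← hm]
  rintro _ ⟨_, ⟨z, hz, rfl⟩, rfl⟩
  exact ⟨⟨g, hg⟩ * z * ⟨g, hg⟩⁻¹, hn.conj_mem z hz _, rfl⟩

end Cfsg.Agent.S0658
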