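import Cfsg.Statements.S0660
import Cfsg.Agent.Lib.Fusion.Basic

set_option autoImplicit false
open Cfsg
open Cfsg.Agent.Fusion
open scoped commutatorElement Pointwise

namespace Cfsg.Agent.S0660

/-- Under a coprime action on an abelian group, an invariant subgroup that is complemented admits an invariant complement. -/
theorem result {G : Type*} [Group G] [Finite G] (V A U : Subgroup G) (hVab : IsMulCommutative V) (hAV : A ≤ Subgroup.normalizer (V : Set G)) (hcop : (Nat.card A).Coprime (Nat.card V)) (hUV : U ≤ V) (hAU : A ≤ Subgroup.normalizer (U : Set G)) (W : Subgroup G) (hWV : W ≤ V) (hUW : U ⊓ W = ⊥) (hUWV : U ⊔ W = V) : ∃ W' : Subgroup G, W' ≤ V ∧ A ≤ Subgroup.normalizer (W' : Set G) ∧ U ⊓ W' = ⊥ ∧ U ⊔ W' = V := by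
  letI : CommGroup ↥V := { (inferInstance : Group ↥V) with mul_comm := hVab.1.1 }
  have := Fintype.ofFinite ↥A
  have hc : ∀ x ∈ V, ∀ y ∈ V, x * y = y * x := fun x hx y hy =>
    congrArg Subtype.val (hVab.1.1 ⟨x, hx⟩ ⟨y, hy⟩)
  have hdec : ∀ v : ↥V, ∃ u : ↥V, (u : G) ∈ U ∧ (u : G)⁻¹ * (v : G) ∈ W := fun v => by
    have hn : U ≤ Subgroup.normalizer (W : Set G) := fun u hu => mem_normalizer_of_cj_le (by
      rintro _ ⟨w, hw, rfl⟩
      show u * w * u⁻¹ ∈ W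
      rw [hc u (hUV hu) w (hWV hw), mul_inv_cancel_right]
      exact hw)
    obtain ⟨u, hu, w, hw, he⟩ := (Set.ext_iff.1 (Subgroup.coe_mul_of_left_le_normalizer_right U W hn) (v : G)).1
      (hUWV.symm ▸ v.2 : (v : G) ∈ U ⊔ W)
    refine ⟨⟨u, hUV hu⟩, hu, ?_⟩
    show u⁻¹ * (v : G) ∈ W
    rw [← he, inv_mul_cancel_left]
    exact hw
  choose π hπU hπW using hdec
  have huniq : ∀ (v u : ↥V), (u : G) ∈ U → (u : G)⁻¹ * (v : G) ∈ W → π v = u := fun v u h1 h2 => Subtype.ext (by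
    have h3 : (u : G)⁻¹ * (π v : G) ∈ U ⊓ W := Subgroup.mem_inf.2 ⟨mul_mem (inv_mem h1) (hπU v), by
      have h4 := mul_mem h2 (inv_mem (hπW v))
      rwa [mul_inv_rev, inv_inv, mul_assoc, mul_inv_cancel_left] at h4⟩
    rw [hUW, Subgroup.mem_bot, inv_mul_eq_one] at h3
    exact h3.symm)
  let P : ↥V →* ↥V := MonoidHom.mk' π fun v w => huniq _ _ (mul_mem (hπU v) (hπU w)) (by
    have h := mul_mem (hπW v) (hπW w)
    show ((π v : G) * π w)⁻¹ * ((v : G) * w) ∈ W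
    have e : ((π v : G) * π w)⁻¹ * ((v : G) * w) = (π v : G)⁻¹ * v * ((π w : G)⁻¹ * w) := by
      rw [hc _ (π v).2 _ (π w).2, mul_inv_rev]
      calc (π v : G)⁻¹ * (π w : G)⁻¹ * ((v : G) * w) = (π v : G)⁻¹ * ((π w : G)⁻¹ * v) * w := by group
        _ = (π v : G)⁻¹ * ((v : G) * (π w : G)⁻¹) * w := by rw [hc _ (inv_mem (π w).2) _ v.2]
        _ = _ := by group
    rw [e]; exact h)
  have hP1 : ∀ u : ↥V, (u : G) ∈ U → P u = u := fun u hu => huniq u u hu (by rw [inv_mul_cancel]; exact one_mem W)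
  let c : ↥A → ↥V → ↥V := fun a v => ⟨(a : G) * v * (a : G)⁻¹, (Subgroup.mem_normalizer_iff.1 (hAV a.2) _).1 v.2⟩
  have hcm : ∀ a v w, c a (v * w) = c a v * c a w := fun a v w => Subtype.ext (by
    show (a : G) * ((v : G) * w) * (a : G)⁻¹ = (a : G) * v * (a : G)⁻¹ * ((a : G) * w * (a : G)⁻¹); group)
  let f : ↥V →* ↥V := MonoidHom.mk' (fun v => ∏ a : ↥A, c a (P (c a⁻¹ v))) fun v w => by
    rw [← Finset.prod_mul_distrib]
    exact Finset.prod_congr rfl fun a _ => by rw [hcm, map_mul, hcm]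
  have hfU : ∀ v : ↥V, (f v : G) ∈ U := fun v => by
    refine Finset.prod_induction (fun a : ↥A => c a (P (c a⁻¹ v))) (fun y : ↥V => (y : G) ∈ U)
      (fun x y hx hy => mul_mem hx hy) (one_mem U) (fun a _ => ?_)
    exact (Subgroup.mem_normalizer_iff.1 (hAU a.2) _).1 (hπU _)
  have hfu : ∀ u : ↥V, (u : G) ∈ U → f u = u ^ Nat.card ↥A := fun u hu => by
    rw [Nat.card_eq_fintype_card, ← Finset.card_univ]
    refine Finset.prod_eq_pow_card fun a _ => ?_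
    rw [hP1 _ ((Subgroup.mem_normalizer_iff.1 (hAU (inv_mem a.2)) _).1 hu)]
    refine Subtype.ext ?_
    show (a : G) * ((a⁻¹ : ↥A) * u * ((a⁻¹ : ↥A) : G)⁻¹) * (a : G)⁻¹ = u
    rw [InvMemClass.coe_inv]; group
  have hfe : ∀ (b : ↥A) (v : ↥V), f (c b v) = c b (f v) := fun b v => by
    let cb : ↥V →* ↥V := MonoidHom.mk' (c b) (hcm b)
    show _ = cb (∏ a : ↥A, c a (P (c a⁻¹ v)))
    rw [map_prod]
    refine (Fintype.prod_equiv (Equiv.mulLeft b) _ _ fun a => ?_).symm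
    show cb (c a (P (c a⁻¹ v))) = c (b * a) (P (c (b * a)⁻¹ (c b v)))
    have e1 : c (b * a)⁻¹ (c b v) = c a⁻¹ v := Subtype.ext (by
      show (((b * a)⁻¹ : ↥A) : G) * ((b : G) * v * (b : G)⁻¹) * (((b * a)⁻¹ : ↥A) : G)⁻¹ = ((a⁻¹ : ↥A) : G) * v * ((a⁻¹ : ↥A) : G)⁻¹
      simp only [InvMemClass.coe_inv, Subgroup.coe_mul]; group)
    rw [e1]
    refine Subtype.ext ?_
    show (b : G) * ((a : G) * _ * (a : G)⁻¹) * (b : G)⁻¹ = ((b * a : ↥A) : G) * _ * ((b * a : ↥A) : G)⁻¹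
    rw [Subgroup.coe_mul]; group
  have hord : ∀ y : ↥V, (Nat.card ↥A).Coprime (orderOf y) := fun y =>
    hcop.coprime_dvd_right (orderOf_dvd_natCard y)
  refine ⟨f.ker.map V.subtype, Subgroup.map_subtype_le _, fun a ha => mem_normalizer_of_cj_le ?_, ?_, ?_⟩
  · rintro _ ⟨_, ⟨v, hv, rfl⟩, rfl⟩
    refine ⟨c ⟨a, ha⟩ v, ?_, rfl⟩
    show c ⟨a, ha⟩ v ∈ f.ker
    rw [MonoidHom.mem_ker, hfe, MonoidHom.mem_ker.1 hv]
    exact Subtype.ext (by show a * (1 : G) * a⁻¹ = 1; group)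
  · refine eq_bot_iff.2 fun x hx => ?_
    obtain ⟨hxU, v, hv, rfl⟩ := Subgroup.mem_inf.1 hx
    have h1 : v ^ Nat.card ↥A = 1 := (hfu v hxU).symm.trans (MonoidHom.mem_ker.1 hv)
    have h2 : v = 1 := orderOf_eq_one_iff.1 (Nat.eq_one_of_dvd_coprimes (hord v) (orderOf_dvd_of_pow_eq_one h1) dvd_rfl)
    rw [h2, map_one]; exact one_mem ⊥
  · refine le_antisymm (sup_le hUV (Subgroup.map_subtype_le _)) fun x hx => ?_
    obtain ⟨m, hm⟩ := exists_pow_eq_self_of_coprime (hord (f ⟨x, hx⟩))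
    have hmem : (⟨x, hx⟩ : ↥V) * ((f ⟨x, hx⟩) ^ m)⁻¹ ∈ f.ker := by
      rw [MonoidHom.mem_ker, map_mul, map_inv, hfu ((f ⟨x, hx⟩) ^ m) (by rw [SubmonoidClass.coe_pow]; exact pow_mem (hfU _) m),
        ← pow_mul, mul_comm m, pow_mul, hm, mul_inv_cancel]
    have := mul_mem (Subgroup.mem_sup_right (S := U) (Subgroup.mem_map_of_mem V.subtype hmem))
      (Subgroup.mem_sup_left (T := f.ker.map V.subtype) (show ((f ⟨x, hx⟩) ^ m : ↥V).1 ∈ U by rw [SubmonoidClass.coe_pow]; exact pow_mem (hfU _) m))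
    simpa using this

end Cfsg.Agent.S0660
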