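import Cfsg.Statements.S0661
import Cfsg.Agent.Lib.Fusion.LocalConstrained

set_option autoImplicit false
open Cfsg
open Cfsg.Agent.Fusion
open scoped commutatorElement

namespace Cfsg.Agent.S0661

/-- If, modulo the largest normal subgroup of order prime to p, the largest normal p-subgroup contains its centralizer, then for every p-subgroup P the p'-core of N_G(P) is just O_p'(G) ∩ N_G(P). -/
theorem result {G : Type*} [Group G] [Finite G] {p : ℕ} [Fact p.Prime] (hc : Subgroup.centralizer (Cfsg.pCore p (G ⧸ Cfsg.pPrimeCore p G) : Set (G ⧸ Cfsg.pPrimeCore p G)) ≤ Cfsg.pCore p (G ⧸ Cfsg.pPrimeCore p G)) (P : Subgroup G) (hP : IsPGroup p P) : (Cfsg.pPrimeCore p ↥(Subgroup.normalizer (P : Set G))).map (Subgroup.normalizer (P : Set G)).subtype = Cfsg.pPrimeCore p G ⊓ Subgroup.normalizer (P : Set G) := by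
  obtain ⟨N, hN⟩ : ∃ N, N = Subgroup.normalizer (P : Set G) := ⟨_, rfl⟩
  have h := (normalizer_pConstrained (isPConstrained_iff.2 hc) hP).2
  rw [← hN] at h ⊢
  refine le_antisymm (le_inf h (Subgroup.map_subtype_le _)) fun x hx => ?_
  obtain ⟨hxR, hxN⟩ := Subgroup.mem_inf.1 hx
  haveI : ((Cfsg.pPrimeCore p G).subgroupOf N).Normal := inferInstance
  refine ⟨⟨x, hxN⟩, le_pPrimeCore (N := (Cfsg.pPrimeCore p G).subgroupOf N) ?_ hxR, rfl⟩
  rw [← Subgroup.card_map_of_injective N.subtype_injective, Subgroup.subgroupOf_map_subtype]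
  exact (card_pPrimeCore_coprime p G).coprime_dvd_left (Subgroup.card_dvd_of_le inf_le_left)

end Cfsg.Agent.S0661
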