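import Cfsg.Statements.S0662
import Cfsg.Agent.Lib.Fusion.MaxClassTwo

set_option autoImplicit false
open Cfsg Cfsg.Agent
open Cfsg.Agent.Fusion
open scoped commutatorElement

namespace Cfsg.Agent.S0662

/-- In a p-group of maximal class of order at least p³ the normal subgroups of index at least p² are exactly the terms of the lower central series, and there are exactly p + 1 normal subgroups of index p. -/
theorem result {G : Type*} [Group G] [Finite G] {p : ℕ} [Fact p.Prime] (n : ℕ) (hG : Nat.card G = p ^ n) (hcl : Group.nilpotencyClass G = n - 1) (hn : 3 ≤ n) : (∀ (N : Subgroup G) [N.Normal] (r : ℕ), 2 ≤ r → N.index = p ^ r → N = (⊤ : Subgroup G).lowerCentralSeries (r - 1)) ∧ Nat.card {N : Subgroup G // N.Normal ∧ N.index = p} = p + 1 := by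
  obtain ⟨m, rfl⟩ : ∃ m, n = m + 2 := ⟨n - 2, by omega⟩
  have hp : p.Prime := Fact.out
  have hP : IsPGroup p G := IsPGroup.of_card hG
  haveI := hP.isNilpotent
  have hne : (⊤ : Subgroup G).lowerCentralSeries m ≠ ⊥ := by
    rw [Ne, Subgroup.lowerCentralSeries_eq_bot_iff_nilpotencyClass_le, hcl]; omega
  refine ⟨fun N hN r hr hNr => ?_, ?_⟩
  · have hq : Nat.card (G ⧸ N) = p ^ r := by rw [← Subgroup.index_eq_card, hNr]
    have hrn : r ≤ m + 2 := by
      have := Subgroup.index_dvd_card N
      rw [hNr, hG] at this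
      exact (Nat.pow_dvd_pow_iff_le_right hp.one_lt).1 this
    have h1 := Solv.lcs_eq_bot (IsPGroup.of_card hq) hq hr
    rw [← Subgroup.map_top_of_surjective _ (QuotientGroup.mk'_surjective N),
      ← Subgroup.map_lowerCentralSeries, Subgroup.map_eq_bot_iff, QuotientGroup.ker_mk'] at h1
    refine (Subgroup.eq_of_le_of_card_ge h1 ?_).symm
    rw [lcs_card_eq hP hG hne (by omega) (by omega)]
    have h2 := N.card_mul_index
    rw [hNr, hG, show p ^ (m + 2) = p ^ (m + 1 - (r - 1)) * p ^ r by rw [← pow_add]; congr 1; omega] at h2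
    exact (Nat.eq_of_mul_eq_mul_right (pow_pos hp.pos r) h2).le
  · refine card_normal_index_p hP (commutator_index_of_maxClass hP hG hne) (not_isCyclic_abelianization_of_noncomm hP ?_)
    by_contra h
    simp only [not_exists, not_not] at h
    refine hne (eq_bot_iff.2 (((⊤ : Subgroup G).lowerCentralSeries_antitone (show 1 ≤ m by omega)).trans ?_))
    rw [Subgroup.lowerCentralSeries_succ, Subgroup.commutator_le]
    intro a _ b _
    rw [Subgroup.mem_bot, commutatorElement_eq_one_iff_mul_comm]
    exact h a b

end Cfsg.Agent.S0662
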