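import Cfsg.Statements.S0663
import Cfsg.Agent.Lib.Fusion.Basic

set_option autoImplicit false
open Cfsg
open Cfsg.Agent.Fusion
open scoped commutatorElement Pointwise

namespace Cfsg.Agent.S0663

/-- A p-group acts uniserially on a p-group N of order p^n exactly when the iterated commutator chain from N has length n; in that case the chain terms are all the invariant subgroups of N and they are normal in N. -/
theorem result {L : Type*} [Group L] [Finite L] {p : ℕ} [Fact p.Prime] (N G : Subgroup L) (hN : IsPGroup p N) (hG : IsPGroup p G) (hGN : G ≤ Subgroup.normalizer (N : Set L)) (n : ℕ) (hn : Nat.card N = p ^ n) : ((∀ H : Subgroup L, H ≤ N → G ≤ Subgroup.normalizer (H : Set L) → H ≠ ⊥ → (⁅H, G⁆).relIndex H = p) ↔ Cfsg.iterCommutator N G (n - 1) ≠ ⊥ ∨ n = 0) ∧ ((∀ H : Subgroup L, H ≤ N → G ≤ Subgroup.normalizer (H : Set L) → H ≠ ⊥ → (⁅H, G⁆).relIndex H = p) → ∀ H : Subgroup L, H ≤ N → G ≤ Subgroup.normalizer (H : Set L) → (∃ i ≤ n, H = Cfsg.iterCommutator N G i) ∧ N ≤ Subgroup.normalizer (H : Set L)) := by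
  classical
  set P := N ⊔ G with hP
  have hPp : IsPGroup p P := hN.to_sup_of_normal_left' hG hGN
  have hPN : P ≤ Subgroup.normalizer (N : Set L) := sup_le Subgroup.le_normalizer hGN
  have hnil : Group.IsNilpotent P := hPp.isNilpotent
  obtain ⟨m, hm⟩ := (Subgroup.isNilpotent_iff_lowerCentralSeries P).1 hnil
  have hstrict : ∀ M : Subgroup L, M ≤ P → M ≤ ⁅M, P⁆ → M = ⊥ := by
    intro M hMP hM
    have : ∀ k, M ≤ P.lowerCentralSeries k := by
      intro k
      induction k with
      | zero => exact hMP
      | succ k ih => exact hM.trans (Subgroup.commutator_mono ih le_rfl)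
    exact le_bot_iff.1 (hm ▸ this m)
  -- the series with respect to `N G`
  set M := fun i => Cfsg.iterCommutator N P i with hMdef
  have hMle : ∀ i, M i ≤ N ∧ P ≤ Subgroup.normalizer (M i : Set L) ∧ M (i + 1) ≤ M i := by
    intro i
    induction i with
    | zero => exact ⟨le_rfl, hPN, Subgroup.le_normalizer_iff_commutator_le_left.1 hPN⟩
    | succ i ih =>
      have h2 : P ≤ Subgroup.normalizer (M (i + 1) : Set L) := fun x hx => by
        refine mem_normalizer_of_cj_le ?_
        show (⁅M i, P⁆).map _ ≤ ⁅M i, P⁆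
        rw [Subgroup.map_commutator]
        exact Subgroup.commutator_mono (cj_eq_self (ih.2.1 hx)).le (cj_eq_self (Subgroup.le_normalizer hx)).le
      exact ⟨ih.2.2.trans ih.1, h2, Subgroup.le_normalizer_iff_commutator_le_left.1 h2⟩
  set A := fun i => Cfsg.iterCommutator N G i with hAdef
  have hAM : ∀ i, A i ≤ M i := by
    intro i
    induction i with
    | zero => exact le_rfl
    | succ i ih => exact Subgroup.commutator_mono ih le_sup_right
  have hAle : ∀ i, A i ≤ N := fun i => (hAM i).trans (hMle i).1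
  have hAG : ∀ i, G ≤ Subgroup.normalizer (A i : Set L) ∧ A (i + 1) ≤ A i := by
    intro i
    induction i with
    | zero => exact ⟨hGN, Subgroup.le_normalizer_iff_commutator_le_left.1 hGN⟩
    | succ i ih =>
      have h2 : G ≤ Subgroup.normalizer (A (i + 1) : Set L) := fun x hx => by
        refine mem_normalizer_of_cj_le ?_
        show (⁅A i, G⁆).map _ ≤ ⁅A i, G⁆
        rw [Subgroup.map_commutator]
        exact Subgroup.commutator_mono (cj_eq_self (ih.1 hx)).le (cj_eq_self (Subgroup.le_normalizer hx)).le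
      exact ⟨h2, Subgroup.le_normalizer_iff_commutator_le_left.1 h2⟩
  have hcardN : ∀ X : Subgroup L, X ≤ N → ∃ j ≤ n, Nat.card X = p ^ j := fun X hX =>
    (Nat.dvd_prime_pow (Fact.out : p.Prime)).1 (hn ▸ Subgroup.card_dvd_of_le hX)
  have hdrop : ∀ (X Y : Subgroup L), X ≤ Y → X ≠ Y → Y ≤ N → Nat.card X * p ≤ Nat.card Y := by
    intro X Y hXY hne hY
    obtain ⟨a, -, ha⟩ := hcardN X (hXY.trans hY)
    obtain ⟨b, -, hb⟩ := hcardN Y hY
    have hlt : a < b := by
      by_contra hc
      exact hne (Subgroup.eq_of_le_of_card_ge hXY (by rw [ha, hb]; exact Nat.pow_le_pow_right (Fact.out : p.Prime).pos (by omega)))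
    rw [ha, hb, ← pow_succ]
    exact Nat.pow_le_pow_right (Fact.out : p.Prime).pos hlt
  have hMcard : ∀ i, Nat.card (M i) * p ^ i ≤ p ^ n ∨ M i = ⊥ := by
    intro i
    induction i with
    | zero => exact Or.inl (le_of_eq (by rw [pow_zero, mul_one]; exact hn))
    | succ i ih =>
      rcases ih with ih | ih
      · by_cases hb : M i = ⊥
        · exact Or.inr (le_bot_iff.1 ((hMle i).2.2.trans hb.le))
        refine Or.inl ?_
        have h2 := hdrop _ _ (hMle i).2.2 (fun e => hb (hstrict _ ((hMle i).1.trans le_sup_left) e.ge)) (hMle i).1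
        calc Nat.card (M (i + 1)) * p ^ (i + 1) = Nat.card (M (i + 1)) * p * p ^ i := by rw [pow_succ]; ring
          _ ≤ Nat.card (M i) * p ^ i := Nat.mul_le_mul_right _ h2
          _ ≤ p ^ n := ih
      · exact Or.inr (le_bot_iff.1 ((hMle i).2.2.trans ih.le))
  have hrel : ∀ X Y : Subgroup L, X ≤ Y → (X.relIndex Y = p ↔ Nat.card X * p = Nat.card Y) := by
    intro X Y h
    rw [← Subgroup.relIndex_bot_left X, ← Subgroup.relIndex_bot_left Y, ← Subgroup.relIndex_mul_relIndex ⊥ X Y bot_le h]
    exact ⟨fun e => by rw [e], fun e => (Nat.eq_of_mul_eq_mul_left (by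
      rw [Subgroup.relIndex_bot_left]; exact Nat.card_pos) e).symm⟩
  have key : ((∀ H : Subgroup L, H ≤ N → G ≤ Subgroup.normalizer (H : Set L) → H ≠ ⊥ → (⁅H, G⁆).relIndex H = p) →
      ∀ i ≤ n, Nat.card (A i) * p ^ i = p ^ n) := by
    intro hu i
    induction i with
    | zero => intro _; rw [pow_zero, mul_one]; exact hn
    | succ i ih =>
      intro hi
      have h1 := ih (by omega)
      have hne : A i ≠ ⊥ := fun e => by
        rw [e, Subgroup.card_bot, one_mul] at h1
        have := Nat.pow_right_injective (Fact.out : p.Prime).two_le h1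
        omega
      have h2 := (hrel _ _ (hAG i).2).1 (hu (A i) (hAle i) (hAG i).1 hne)
      rw [← h1, ← h2, pow_succ]; ring
  have back : (∀ i ≤ n, Nat.card (A i) * p ^ i = p ^ n) → ∀ H : Subgroup L, H ≤ N →
      G ≤ Subgroup.normalizer (H : Set L) → ∃ i ≤ n, H = A i := by
    intro hc H hH hHG
    have hAn : A n = ⊥ := Subgroup.card_eq_one.1 (by
      have := hc n le_rfl
      exact Nat.eq_of_mul_eq_mul_right (pow_pos (Fact.out : p.Prime).pos n) (this.trans (one_mul _).symm))
    have heq : ∀ i ≤ n, A i = M i := by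
      intro i hi
      rcases hMcard i with h | h
      · exact Subgroup.eq_of_le_of_card_ge (hAM i) (Nat.le_of_mul_le_mul_right (h.trans (hc i hi).ge) (pow_pos (Fact.out : p.Prime).pos i))
      · exact le_antisymm (hAM i) (by rw [h]; exact bot_le)
    by_cases hHb : H = ⊥
    · exact ⟨n, le_rfl, hHb.trans hAn.symm⟩
    obtain ⟨i, hi, hHi, hmax⟩ : ∃ i, i < n ∧ H ≤ A i ∧ ¬ H ≤ A (i + 1) := by
      by_contra hcon
      push Not at hcon
      have : ∀ i ≤ n, H ≤ A i := by
        intro i
        induction i with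
        | zero => exact fun _ => hH
        | succ i ih => exact fun hi => hcon i (by omega) (ih (by omega))
      exact hHb (le_bot_iff.1 (hAn ▸ this n le_rfl))
    refine ⟨i, hi.le, ?_⟩
    have hNn : ∀ j ≤ n, H ≤ Subgroup.normalizer (A j : Set L) := fun j hj =>
      (hH.trans le_sup_left).trans ((hMle j).2.1.trans (le_of_eq (by rw [heq j hj])))
    have hstep0 : A i ≤ H ⊔ A (i + 1) := by
      have h1 : Nat.card (A i) ≤ Nat.card (H ⊔ A (i + 1) : Subgroup L) := by
        have h2 := hdrop (A (i + 1)) (H ⊔ A (i + 1)) le_sup_right (fun e => hmax (le_sup_left.trans e.ge))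
          (sup_le hH (hAle _))
        have h3 := hc i (by omega)
        have h4 := hc (i + 1) (by omega)
        refine le_trans (le_of_eq ?_) h2
        rw [pow_succ, mul_comm (p ^ i) p, ← mul_assoc, ← h3] at h4
        exact (Nat.eq_of_mul_eq_mul_right (pow_pos (Fact.out : p.Prime).pos i) h4).symm
      exact (Subgroup.eq_of_le_of_card_ge (sup_le hHi (hAG i).2) h1).ge
    have hstep : ∀ k, i + 1 + k ≤ n → A i ≤ H ⊔ A (i + 1 + k) := by
      intro k
      induction k with
      | zero => exact fun _ => hstep0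
      | succ k ih =>
        intro hk
        have h1 := ih (by omega)
        have hn' := hNn (i + 1 + (k + 1)) hk
        have h2 : A (i + 1) ≤ H ⊔ A (i + 1 + (k + 1)) := by
          refine (Subgroup.commutator_mono h1 le_rfl).trans (Subgroup.commutator_le.2 fun x hx g hg => ?_)
          rw [← SetLike.mem_coe, Subgroup.coe_mul_of_left_le_normalizer_right _ _ (hNn (i + 1 + k) (by omega))] at hx
          obtain ⟨h, hh, a, ha, rfl⟩ := Set.mem_mul.1 hx
          rw [show ⁅h * a, g⁆ = h * ⁅a, g⁆ * h⁻¹ * ⁅h, g⁆ by simp only [commutatorElement_def]; group]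
          refine mul_mem (Subgroup.mem_sup_right ((Subgroup.mem_normalizer_iff.1 (hn' hh) _).1 ?_)) (Subgroup.mem_sup_left ?_)
          · exact Subgroup.commutator_mem_commutator ha hg
          · exact Subgroup.le_normalizer_iff_commutator_le_left.1 hHG (Subgroup.commutator_mem_commutator hh hg)
        refine (hstep0 : A i ≤ H ⊔ A (i + 1)).trans (sup_le le_sup_left h2)
    obtain ⟨k, hk⟩ : ∃ k, n = i + 1 + k := ⟨n - (i + 1), by omega⟩
    have := hstep k hk.ge
    rw [← hk, hAn, sup_bot_eq] at this
    exact le_antisymm hHi this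
  have conv : (∀ i ≤ n, Nat.card (A i) * p ^ i = p ^ n) → ∀ H : Subgroup L, H ≤ N →
      G ≤ Subgroup.normalizer (H : Set L) → H ≠ ⊥ → (⁅H, G⁆).relIndex H = p := by
    intro hc H hH hHG hne
    obtain ⟨i, hi, rfl⟩ := back hc H hH hHG
    have hin : i < n := by
      by_contra hh
      obtain rfl : i = n := by omega
      exact hne (Subgroup.card_eq_one.1 (Nat.eq_of_mul_eq_mul_right (pow_pos (Fact.out : p.Prime).pos i) ((hc i le_rfl).trans (one_mul _).symm)))
    refine (hrel _ _ (hAG i).2).2 ?_
    have h4 := hc (i + 1) hin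
    rw [pow_succ, mul_comm (p ^ i) p, ← mul_assoc, ← hc i hi] at h4
    exact Nat.eq_of_mul_eq_mul_right (pow_pos (Fact.out : p.Prime).pos i) h4
  refine ⟨⟨fun hu => ?_, fun h => conv ?_⟩, fun hu H hH hHG => ?_⟩
  · rcases Nat.eq_zero_or_pos n with h | h
    · exact Or.inr h
    refine Or.inl fun e => ?_
    have h1 := key hu (n - 1) (by omega)
    rw [show A (n - 1) = ⊥ from e, Subgroup.card_bot, one_mul] at h1
    have := Nat.pow_right_injective (Fact.out : p.Prime).two_le h1
    omega
  · rcases h with h | rfl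
    swap
    · intro i hi
      obtain rfl : i = 0 := by omega
      exact (by rw [pow_zero, mul_one]; exact hn)
    intro i hi
    have hAdrop : ∀ j, j ≤ n - 1 → A j ≠ ⊥ := by
      intro j hj e
      refine h (le_bot_iff.1 (le_trans ?_ e.le))
      exact antitone_nat_of_succ_le (f := A) (fun k => (hAG k).2) hj
    have hup : ∀ j, j ≤ n → Nat.card (A j) * p ^ j ≤ p ^ n := by
      intro j
      induction j with
      | zero => exact fun _ => le_of_eq (by rw [pow_zero, mul_one]; exact hn)
      | succ j ih =>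
        intro hj
        have h2 := hdrop _ _ (hAG j).2 (fun e => hAdrop j (by omega) (hstrict _ ((hAle j).trans le_sup_left)
          (e.ge.trans (Subgroup.commutator_mono le_rfl le_sup_right)))) (hAle j)
        calc Nat.card (A (j + 1)) * p ^ (j + 1) = Nat.card (A (j + 1)) * p * p ^ j := by rw [pow_succ]; ring
          _ ≤ Nat.card (A j) * p ^ j := Nat.mul_le_mul_right _ h2
          _ ≤ p ^ n := ih (by omega)
    have hlow : ∀ d, d ≤ n → p ^ d ≤ Nat.card (A (n - d)) := by
      intro d
      induction d with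
      | zero => intro _; rw [pow_zero]; exact Nat.card_pos
      | succ d ih =>
        intro hd
        have e1 : n - (d + 1) + 1 = n - d := by omega
        have h2 := hdrop _ _ (hAG (n - (d + 1))).2 (fun e => hAdrop (n - (d + 1)) (by omega)
          (hstrict _ ((hAle _).trans le_sup_left) (e.ge.trans (Subgroup.commutator_mono le_rfl le_sup_right)))) (hAle _)
        rw [e1] at h2
        rw [pow_succ]
        exact (Nat.mul_le_mul_right p (ih (by omega))).trans h2
    refine le_antisymm (hup i hi) ?_
    have h3 := Nat.mul_le_mul_right (p ^ i) (hlow (n - i) (by omega))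
    rwa [← pow_add, show n - i + i = n by omega, show n - (n - i) = i by omega] at h3
  · have hc := key hu
    obtain ⟨i, hi, rfl⟩ := back hc H hH hHG
    refine ⟨⟨i, hi, rfl⟩, ?_⟩
    rcases hMcard i with h | h
    · rw [show A i = M i from Subgroup.eq_of_le_of_card_ge (hAM i)
        (Nat.le_of_mul_le_mul_right (h.trans (hc i hi).ge) (pow_pos (Fact.out : p.Prime).pos i))]
      exact le_sup_left.trans (hMle i).2.1
    · rw [show A i = M i from le_antisymm (hAM i) (by rw [h]; exact bot_le)]
      exact le_sup_left.trans (hMle i).2.1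

end Cfsg.Agent.S0663
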