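import Cfsg.Statements.S0665
import Cfsg.Agent.Lib.Solv.FourFree.W.Functor

set_option autoImplicit false
universe u
open Cfsg

namespace Cfsg.Agent.S0665

/-- The prime-2 counterpart of the ZJ-Theorem: every nontrivial finite 2-group S has a nontrivial characteristic subgroup that is normal in each finite S₄-free group containing S as a Sylow 2-subgroup in which O_2 contains its centralizer. -/
theorem result {S : Type u} [Group S] [Finite S] [Nontrivial S] (hS : IsPGroup 2 S) : ∃ W : Subgroup S, W ≠ ⊥ ∧ W.Characteristic ∧ ∀ (G : Type u) [Group G] [Finite G] (τ : S →* G), Function.Injective τ → (∃ P : Sylow 2 G, (P : Subgroup G) = τ.range) → (¬ ∃ (K R : Subgroup G) (hR : (R.subgroupOf K).Normal), Nonempty ((K ⧸ R.subgroupOf K) ≃* Equiv.Perm (Fin 4))) → Subgroup.centralizer (Cfsg.pCore 2 G : Set G) ≤ Cfsg.pCore 2 G → (W.map τ).Normal := by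
  refine ⟨Agent.Solv.FourFree.wSub S, Agent.Solv.FourFree.wSub_ne_bot hS, Agent.Solv.FourFree.wSub_char, ?_⟩
  intro G _ _ τ hτ hP hfree hcon
  exact Agent.Solv.FourFree.wSub_normal τ hτ hP (fun ⟨K, R, hR, h⟩ => hfree ⟨K, R, hR, h⟩) hcon

end Cfsg.Agent.S0665
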