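import Cfsg.Statements.S0666
import Cfsg.Agent.Lib.Fusion.Basic
import Cfsg.Agent.Lib.Solv.FrobeniusFPF

set_option autoImplicit false
open Cfsg
open Cfsg.Agent.Fusion
open scoped commutatorElement

namespace Cfsg.Agent.S0666

/-- A Frobenius group acting on a nontrivial abelian group of order prime to that of its kernel, with the kernel acting without nontrivial fixed points, has a complement with a nontrivial fixed point. -/
theorem result {G : Type*} [Group G] [Finite G] (V F : Subgroup G) (hVab : IsMulCommutative V) (hV1 : V ≠ ⊥) (hFV : F ≤ Subgroup.normalizer (V : Set G)) (H : Subgroup ↥F) (hH : Cfsg.IsFrobeniusComplement H) (hcop : (Nat.card V).Coprime (Nat.card (Cfsg.frobeniusKernel H))) (hCK : V ⊓ Subgroup.centralizer (Subtype.val '' Cfsg.frobeniusKernel H : Set G) = ⊥) : V ⊓ Subgroup.centralizer ((H.map F.subtype : Subgroup G) : Set G) ≠ ⊥ := by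
  classical
  intro hfix
  haveI := Fintype.ofFinite F
  letI : CommGroup V := { (inferInstance : Group V) with mul_comm := fun a b => hVab.1.comm a b }
  obtain ⟨K, hK, hKn, hKc⟩ := Cfsg.Agent.Solv.frobenius_theorem hH
  have hKH : K ⊓ H = ⊥ := hKc.disjoint.eq_bot
  let act : F → V → V := fun f v => ⟨(f : G) * v * (f : G)⁻¹, (Subgroup.mem_normalizer_iff.1 (hFV f.2) v).1 v.2⟩
  let φ : F → V →* V := fun f => MonoidHom.mk' (act f) fun a b => Subtype.ext (by
    show (f : G) * (a * b : G) * (f : G)⁻¹ = (f : G) * a * (f : G)⁻¹ * ((f : G) * b * (f : G)⁻¹); group)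
  have hφ : ∀ (f g : F) (v : V), φ (f * g) v = φ f (φ g v) := fun f g v => Subtype.ext (by
    show ((f : G) * g) * (v : G) * ((f : G) * g)⁻¹ = (f : G) * ((g : G) * v * (g : G)⁻¹) * (f : G)⁻¹
    group)
  have hφ1 : ∀ v : V, φ 1 v = v := fun v => Subtype.ext (by
    show ((1 : F) : G) * (v : G) * ((1 : F) : G)⁻¹ = v; simp)
  have hnofix : ∀ v : V, (∀ k : K, φ k v = v) → v = 1 := by
    intro v hv
    have hm : (v : G) ∈ V ⊓ Subgroup.centralizer (Subtype.val '' Cfsg.frobeniusKernel H : Set G) := by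
      refine ⟨v.2, Subgroup.mem_centralizer_iff.2 ?_⟩
      rintro _ ⟨k, hk, rfl⟩
      rw [← hK] at hk
      exact mul_inv_eq_iff_eq_mul.1 (congrArg Subtype.val (hv ⟨k, hk⟩))
    rw [hCK, Subgroup.mem_bot] at hm
    exact Subtype.ext hm
  have hsumK : ∀ v : V, ∏ k : K, φ k v = 1 := by
    intro v
    refine hnofix _ fun k => ?_
    rw [map_prod]
    simp only [← hφ]
    exact Fintype.prod_equiv (Equiv.mulLeft k) _ _ fun x => rfl
  have hHfix : ∀ v : V, (∀ h : H, φ h v = v) → v = 1 := by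
    intro v hv
    have hm : (v : G) ∈ V ⊓ Subgroup.centralizer ((H.map F.subtype : Subgroup G) : Set G) := by
      refine ⟨v.2, Subgroup.mem_centralizer_iff.2 ?_⟩
      rintro _ ⟨h, hh, rfl⟩
      exact mul_inv_eq_iff_eq_mul.1 (congrArg Subtype.val (hv ⟨h, hh⟩))
    rw [hfix, Subgroup.mem_bot] at hm
    exact Subtype.ext hm
  have hsumH : ∀ (x : F) (v : V), ∏ h : H, φ (x * h * x⁻¹) v = 1 := by
    intro x v
    have h1 : ∏ h : H, φ h (φ x⁻¹ v) = 1 := hHfix _ fun h => by
      rw [map_prod]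
      simp only [← hφ]
      exact Fintype.prod_equiv (Equiv.mulLeft h) _ _ fun y => by simp [mul_assoc]
    calc ∏ h : H, φ (x * h * x⁻¹) v = φ x (∏ h : H, φ h (φ x⁻¹ v)) := by
          rw [map_prod]; exact Finset.prod_congr rfl fun h _ => by rw [← hφ, ← hφ, mul_assoc]
      _ = 1 := by rw [h1, map_one]
  have hall : ∀ v : V, v ^ Nat.card K = 1 := by
    intro v
    have htot : ∏ h : H, ∏ k : K, φ ((k : F) * h * (k : F)⁻¹) v = 1 := by
      rw [Finset.prod_comm]
      exact Finset.prod_eq_one fun k _ => hsumH (k : F) v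
    rw [← Finset.prod_erase_mul _ _ (Finset.mem_univ (1 : H))] at htot
    have h1 : ∏ k : K, φ ((k : F) * ((1 : H) : F) * (k : F)⁻¹) v = v ^ Nat.card K := by
      simp only [OneMemClass.coe_one, mul_one, mul_inv_cancel, hφ1, Finset.prod_const, Finset.card_univ,
        Nat.card_eq_fintype_card]
    rw [h1, Finset.prod_eq_one fun h hh => ?_, one_mul] at htot
    · exact htot
    have hne : (h : F) ≠ 1 := fun e => Finset.ne_of_mem_erase hh (Subtype.ext e)
    let f : K → K := fun k => ⟨(k : F) * ((h : F) * (k : F)⁻¹ * (h : F)⁻¹),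
      mul_mem k.2 (hKn.conj_mem _ (K.inv_mem k.2) h)⟩
    have hf : Function.Injective f := by
      intro a b hab
      have e : (a : F) * ((h : F) * (a : F)⁻¹ * (h : F)⁻¹) = (b : F) * ((h : F) * (b : F)⁻¹ * (h : F)⁻¹) :=
        congrArg Subtype.val hab
      have hc : (b : F)⁻¹ * a ∈ K ⊓ Subgroup.centralizer {(h : F)} := by
        refine ⟨mul_mem (K.inv_mem b.2) a.2, Subgroup.mem_centralizer_singleton_iff.2 ?_⟩
        calc (b : F)⁻¹ * a * h = (b : F)⁻¹ * ((a : F) * ((h : F) * (a : F)⁻¹ * (h : F)⁻¹)) * h * a := by group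
          _ = h * ((b : F)⁻¹ * a) := by rw [e]; group
      rw [Cfsg.Agent.Solv.frob_fpf hH hKH h.2 hne, Subgroup.mem_bot, inv_mul_eq_one] at hc
      exact Subtype.ext hc.symm
    rw [← hsumK (φ (h : F) v)]
    exact Fintype.prod_bijective f (Finite.injective_iff_bijective.1 hf) _ _ fun k => by
      rw [← hφ]; exact congrArg (fun z => φ z v) (by simp [f, mul_assoc])
  refine hV1 ((Subgroup.eq_bot_iff_forall V).2 fun v hv => ?_)
  have hcard : (Nat.card V).Coprime (Nat.card K) := by
    rw [show Nat.card K = Nat.card (Cfsg.frobeniusKernel H) by rw [← hK]; rfl]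
    exact hcop
  have h2 := pow_gcd_eq_one.2 ⟨(pow_card_eq_one' (x := (⟨v, hv⟩ : V))), hall ⟨v, hv⟩⟩
  rw [hcard, pow_one] at h2
  exact congrArg Subtype.val h2

end Cfsg.Agent.S0666
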