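import Cfsg.Statements.S0668
import Mathlib.LinearAlgebra.Matrix.ToLin
import Mathlib.LinearAlgebra.Dimension.Constructions

set_option autoImplicit false
open Cfsg

namespace Cfsg.Agent.S0668

/-- The equivariant linear maps between the permutation modules of two finite `G`-sets form a space whose dimension is the number of `G`-orbits on the product of the two sets. -/
theorem result {G : Type*} [Group G] {K : Type*} [Field K] {Ω₁ Ω₂ : Type*} [Fintype Ω₁] [Fintype Ω₂] [MulAction G Ω₁] [MulAction G Ω₂] : Module.finrank K ((Cfsg.permRep K G Ω₁).linHom (Cfsg.permRep K G Ω₂)).invariants = Nat.card (MulAction.orbitRel.Quotient G (Ω₁ × Ω₂)) := by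
  classical
  set V := ((Cfsg.permRep K G Ω₁).linHom (Cfsg.permRep K G Ω₂)).invariants
  let Q := MulAction.orbitRel.Quotient G (Ω₁ × Ω₂)
  haveI : Fintype Q := Fintype.ofFinite Q
  let L : (Q → K) →ₗ[K] ((Ω₁ → K) →ₗ[K] (Ω₂ → K)) :=
    { toFun := fun c => Matrix.toLin' (Matrix.of fun y x => c (Quotient.mk'' (x, y)))
      map_add' := fun c d => by
        rw [← map_add]
        rfl
      map_smul' := fun k c => by
        rw [RingHom.id_apply, ← map_smul]
        rfl }
  have hentry : ∀ (T : (Ω₁ → K) →ₗ[K] (Ω₂ → K)) (g : G) (x : Ω₁) (y : Ω₂),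
      LinearMap.toMatrix' ((Cfsg.permRep K G Ω₁).linHom (Cfsg.permRep K G Ω₂) g T) y x =
        LinearMap.toMatrix' T (g⁻¹ • y) (g⁻¹ • x) := by
    intro T g x y
    rw [LinearMap.toMatrix'_apply, LinearMap.toMatrix'_apply, Representation.linHom_apply]
    show T ((Cfsg.permRep K G Ω₁) g⁻¹ _) (g⁻¹ • y) = _
    refine congrArg (fun v => T v (g⁻¹ • y)) (funext fun z => ?_)
    show (Pi.single x (1 : K) : Ω₁ → K) ((g⁻¹)⁻¹ • z) = _
    rw [inv_inv]
    by_cases h : g • z = x
    · subst h
      simp
    · rw [Pi.single_eq_of_ne h, Pi.single_eq_of_ne]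
      exact fun e => h (by rw [e, smul_inv_smul])
  have hmem : ∀ T, T ∈ V ↔ ∀ (g : G) x y,
      LinearMap.toMatrix' T (g • y) (g • x) = LinearMap.toMatrix' T y x := by
    intro T
    constructor
    · intro hT g x y
      have h1 := hentry T g⁻¹ x y
      rw [hT g⁻¹, inv_inv] at h1
      exact h1.symm
    · intro hT g
      refine LinearMap.toMatrix'.injective (Matrix.ext fun y x => ?_)
      rw [hentry, hT]
  have hLapp : ∀ c (y : Ω₂) (x : Ω₁), LinearMap.toMatrix' (L c) y x = c (Quotient.mk'' (x, y)) :=
    fun c y x => by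
      show LinearMap.toMatrix' (Matrix.toLin' (Matrix.of fun y x => c (Quotient.mk'' (x, y)))) y x = _
      rw [LinearMap.toMatrix'_toLin']
      rfl
  have hinj : Function.Injective L := fun c d h => by
    funext q
    induction q using Quotient.inductionOn'
    rename_i q
    rw [← hLapp c q.2 q.1, ← hLapp d q.2 q.1, h]
  have hrange : LinearMap.range L = V := by
    ext T
    constructor
    · rintro ⟨c, rfl⟩
      refine (hmem _).2 fun g x y => ?_
      rw [hLapp, hLapp]
      exact congrArg c (Quotient.eq''.2 ⟨g, rfl⟩)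
    · intro hT
      refine ⟨fun q => Quotient.liftOn' q (fun z => LinearMap.toMatrix' T z.2 z.1) ?_, ?_⟩
      · rintro z w ⟨g, rfl⟩
        exact (hmem T).1 hT g w.1 w.2
      · refine LinearMap.toMatrix'.injective (Matrix.ext fun y x => ?_)
        rw [hLapp]
        rfl
  rw [← hrange, LinearMap.finrank_range_of_inj hinj, Module.finrank_fintype_fun_eq_card,
    Nat.card_eq_fintype_card]

end Cfsg.Agent.S0668
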