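import Cfsg.Statements.S0669
import Mathlib.GroupTheory.GroupAction.Basic

set_option autoImplicit false
open Cfsg

namespace Cfsg.Agent.S0669

/-- The rank of a transitive action: orbits on ordered pairs correspond to orbits of a point stabiliser. -/
theorem result {G : Type*} [Group G] {Ω : Type*} [Finite Ω] [MulAction G Ω] [MulAction.IsPretransitive G Ω] (a : Ω) : Nat.card (MulAction.orbitRel.Quotient G (Ω × Ω)) = Nat.card (MulAction.orbitRel.Quotient (MulAction.stabilizer G a) Ω) := by
  classical
  refine (Nat.card_congr (Equiv.ofBijective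
    (Quotient.lift (fun y => (Quotient.mk'' (a, y) : MulAction.orbitRel.Quotient G (Ω × Ω))) ?_)
    ⟨?_, ?_⟩)).symm
  · rintro y z ⟨g, rfl⟩
    refine Quotient.eq''.2 ⟨(g : G), ?_⟩
    show ((g : G) • a, (g : G) • z) = (a, (g : G) • z)
    rw [show (g : G) • a = a from g.2]
  · intro q r
    induction q using Quotient.inductionOn
    induction r using Quotient.inductionOn
    rename_i y z
    intro h
    obtain ⟨g, hg⟩ := Quotient.eq''.1 (h : (Quotient.mk'' (a, y) : MulAction.orbitRel.Quotient G (Ω × Ω)) = Quotient.mk'' (a, z))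
    have h1 : g • a = a := congrArg Prod.fst hg
    exact Quotient.sound ⟨⟨g, h1⟩, congrArg Prod.snd hg⟩
  · intro q
    induction q using Quotient.inductionOn'
    rename_i p
    obtain ⟨g, hg⟩ := MulAction.exists_smul_eq G p.1 a
    exact ⟨Quotient.mk'' (g • p.2), Quotient.eq''.2 ⟨g, Prod.ext hg rfl⟩⟩

end Cfsg.Agent.S0669
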