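import Cfsg.Statements.S0670
import Mathlib.GroupTheory.Sylow
import Mathlib.Algebra.CharP.Algebra
import Mathlib.Algebra.Algebra.ZMod
import Mathlib.LinearAlgebra.Span.Basic
import Mathlib.GroupTheory.GroupAction.Quotient

set_option autoImplicit false
open Cfsg

namespace Cfsg.Agent.S0670

/-- In characteristic `p`, the permutation module of a transitive action of degree `p ^ f` has the line of constant functions as its only irreducible submodule: every non-zero subrepresentation contains it. -/
theorem result {G : Type*} [Group G] [Finite G] {K : Type*} [Field K] {p f : ℕ} [Fact p.Prime] [CharP K p] {Ω : Type*} [Fintype Ω] [MulAction G Ω] [MulAction.IsPretransitive G Ω] (hf : 1 ≤ f) (hcard : Fintype.card Ω = p ^ f) (W : Subrepresentation (Cfsg.permRep K G Ω)) (hW : W.toSubmodule ≠ ⊥) : (Cfsg.permConstants K G Ω).toSubmodule ≤ W.toSubmodule := by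
  classical
  obtain ⟨P⟩ : Nonempty (Sylow p G) := inferInstance
  haveI : Nonempty Ω := Fintype.card_pos_iff.1 (hcard ▸ pow_pos (Fact.out : p.Prime).pos f)
  -- a Sylow subgroup is transitive
  have htr : ∀ a b : Ω, ∃ q ∈ (P : Subgroup G), q • a = b := by
    intro a b
    have h1 : Nat.card (MulAction.orbit P a) * Nat.card (MulAction.stabilizer P a) = Nat.card P := by
      rw [← Subgroup.index_mul_card (MulAction.stabilizer P a),
        MulAction.index_stabilizer, Nat.card_coe_set_eq]
    have h2 := Subgroup.index_mul_card (MulAction.stabilizer G a)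
    rw [MulAction.index_stabilizer_of_transitive, Nat.card_eq_fintype_card (α := Ω), hcard] at h2
    obtain ⟨e, he⟩ := P.2.card_orbit a
    obtain ⟨s, hs⟩ := (P.2.to_subgroup (MulAction.stabilizer P a)).exists_card_eq
    have h3 : p ^ s ∣ Nat.card (MulAction.stabilizer G a) := by
      rw [← hs, ← Subgroup.card_map_of_injective (P : Subgroup G).subtype_injective]
      refine Subgroup.card_dvd_of_le ?_
      rintro _ ⟨q, hq, rfl⟩
      exact hq
    have h4 : p ^ (f + s) ∣ p ^ (e + s) := by
      rw [pow_add, pow_add, ← he, ← hs, h1, P.card_eq_multiplicity]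
      rw [hs, ← pow_add]
      refine pow_dvd_pow p ?_
      rw [← (Fact.out : p.Prime).pow_dvd_iff_le_factorization Nat.card_pos.ne', ← h2, pow_add]
      exact mul_dvd_mul_left _ h3
    have hef : f ≤ e := by
      have := (Nat.pow_dvd_pow_iff_le_right (Fact.out : p.Prime).one_lt).1 h4
      omega
    have hall : MulAction.orbit P a = Set.univ := by
      refine Set.eq_of_subset_of_ncard_le (Set.subset_univ _) ?_
      rw [Set.ncard_univ, Nat.card_eq_fintype_card, hcard, ← Nat.card_coe_set_eq, he]
      exact Nat.pow_le_pow_right (Fact.out : p.Prime).pos hef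
    obtain ⟨q, hq⟩ := (hall ▸ Set.mem_univ b : b ∈ MulAction.orbit P a)
    exact ⟨q, q.2, hq⟩
  obtain ⟨v, hvW, hv0⟩ := (Submodule.ne_bot_iff _).1 hW
  letI : Algebra (ZMod p) K := ZMod.algebra K p
  let A : Submodule (ZMod p) (Ω → K) :=
    Submodule.span (ZMod p) (Set.range fun q : P => Cfsg.permRep K G Ω (q : G) v)
  haveI : Finite A := by
    haveI : Module.Finite (ZMod p) A := Module.Finite.span_of_finite (ZMod p) (Set.finite_range _)
    exact Module.finite_of_finite (ZMod p)
  letI act : MulAction P A :=
    { smul := fun q x => ⟨Cfsg.permRep K G Ω (q : G) x.1, by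
        refine Submodule.span_induction (p := fun y _ => Cfsg.permRep K G Ω (q : G) y ∈ A) ?_ ?_ ?_ ?_ x.2
        · rintro _ ⟨r, rfl⟩
          refine Submodule.subset_span ⟨q * r, ?_⟩
          simp [Module.End.mul_apply]
        · simp
        · intro y z _ _ hy hz
          rw [map_add]
          exact A.add_mem hy hz
        · intro c y _ hy
          have : Cfsg.permRep K G Ω (q : G) (c • y) = c • Cfsg.permRep K G Ω (q : G) y := by
            funext z; rfl
          rw [this]
          exact A.smul_mem c hy⟩
      one_smul := fun x => Subtype.ext (show Cfsg.permRep K G Ω ((1 : P) : G) x.1 = x.1 by simp)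
      mul_smul := fun q r x => Subtype.ext
        (show Cfsg.permRep K G Ω ((q * r : P) : G) x.1 =
          Cfsg.permRep K G Ω (q : G) (Cfsg.permRep K G Ω (r : G) x.1) by simp [Module.End.mul_apply]) }
  have hvA : v ∈ A := Submodule.subset_span ⟨1, by simp⟩
  have hpA : p ∣ Nat.card A := by
    have h1 : addOrderOf (⟨v, hvA⟩ : A) = p := by
      refine addOrderOf_eq_prime (Subtype.ext ?_) fun h => hv0 (congrArg Subtype.val h)
      funext z
      simp [nsmul_eq_mul]
    have h2 := addOrderOf_dvd_natCard (⟨v, hvA⟩ : A)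
    rwa [h1] at h2
  have h0fix : (0 : A) ∈ MulAction.fixedPoints P A := fun q =>
    Subtype.ext (map_zero (Cfsg.permRep K G Ω (q : G)))
  obtain ⟨w, hw, hw0⟩ := P.2.exists_fixed_point_of_prime_dvd_card_of_fixed_point A hpA h0fix
  obtain ⟨a⟩ := ‹Nonempty Ω›
  have hconst : ∀ b, w.1 b = w.1 a := fun b => by
    obtain ⟨q, hq, hqb⟩ := htr b a
    have := congrFun (congrArg Subtype.val (hw ⟨q, hq⟩)) a
    change w.1 (q⁻¹ • a) = w.1 a at this
    rwa [← hqb, inv_smul_smul, hqb] at this
  have hwW : w.1 ∈ W.toSubmodule :=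
    Submodule.span_induction (p := fun y _ => y ∈ W.toSubmodule)
      (by rintro _ ⟨r, rfl⟩; exact W.apply_mem_toSubmodule _ hvW) (zero_mem _)
      (fun y z _ _ => add_mem)
      (fun c y _ hy => by
        rw [← ZMod.natCast_zmod_val c, Nat.cast_smul_eq_nsmul]
        exact nsmul_mem hy _) w.2
  refine Submodule.span_le.2 ?_
  rintro _ rfl
  have hne : w.1 a ≠ 0 := fun h => hw0 (Subtype.ext (funext fun b => by
    simpa using ((hconst b).trans h).symm))
  have : (fun _ : Ω => (1 : K)) = (w.1 a)⁻¹ • w.1 := funext fun b => by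
    simp [hconst b, hne]
  rw [this]
  exact Submodule.smul_mem _ _ hwW

end Cfsg.Agent.S0670
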