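import Cfsg.Statements.S0671
import Mathlib

set_option autoImplicit false
set_option linter.style.haveILetI false
open Cfsg

namespace Cfsg.Agent.S0671

/-- A `p`-group acting on a nonzero space of characteristic `p` fixes a nonzero vector. -/
theorem exists_fixed {P K V : Type*} [Group P] [Finite P] [Field K] {p : ℕ} [Fact p.Prime] [CharP K p]
    [AddCommGroup V] [Module K V] (hP : IsPGroup p P) (ρ : Representation K P V) (v : V) (hv : v ≠ 0) :
    ∀ U : Submodule K V, (∀ x : P, ∀ u ∈ U, ρ x u ∈ U) → v ∈ U → ∃ w ∈ U, w ≠ 0 ∧ ∀ x : P, ρ x w = w := by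
  classical
  intro U hU hvU
  haveI := Fintype.ofFinite P
  let θ : (P → ZMod p) →+ V :=
    { toFun := fun c => ∑ x, ZMod.castHom dvd_rfl K (c x) • ρ x v
      map_zero' := by simp
      map_add' := fun c d => by simp [add_smul, Finset.sum_add_distrib] }
  let S := θ.range
  have hSU : ∀ w ∈ S, w ∈ U := by
    rintro _ ⟨c, rfl⟩
    exact U.sum_mem fun x _ => U.smul_mem _ (hU x v hvU)
  have hinv : ∀ (x : P) (w : V), w ∈ S → ρ x w ∈ S := by
    rintro x _ ⟨c, rfl⟩
    refine ⟨fun y => c (x⁻¹ * y), ?_⟩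
    show ∑ y, _ • _ = ρ x (∑ y, _ • _)
    rw [map_sum]
    refine Fintype.sum_equiv (Equiv.mulLeft x⁻¹) _ _ fun y => ?_
    show _ = ρ x (ZMod.castHom dvd_rfl K (c (x⁻¹ * y)) • ρ (x⁻¹ * y) v)
    rw [map_smul]
    congr 1
    rw [← Module.End.mul_apply, ← map_mul, mul_inv_cancel_left]
  haveI : Finite S := Finite.of_surjective θ.rangeRestrict θ.rangeRestrict_surjective
  letI : MulAction P S :=
    { smul := fun x w => ⟨ρ x w, hinv x w w.2⟩
      one_smul := fun w => Subtype.ext (by show ρ 1 (w : V) = w; rw [map_one]; rfl)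
      mul_smul := fun x y w => Subtype.ext (by show ρ (x * y) (w : V) = ρ x (ρ y w); rw [map_mul]; rfl) }
  have hvS : v ∈ S := by
    refine ⟨Pi.single 1 1, ?_⟩
    show ∑ x, ZMod.castHom dvd_rfl K ((Pi.single 1 1 : P → ZMod p) x) • ρ x v = v
    rw [Finset.sum_eq_single 1 (fun x _ hx => by simp [Pi.single_eq_of_ne hx]) (fun h => absurd (Finset.mem_univ _) h)]
    simp
  have hdvd : p ∣ Nat.card S := by
    obtain ⟨k, -, hk⟩ := (Nat.dvd_prime_pow (Fact.out : p.Prime)).1
      (show Nat.card S ∣ p ^ Nat.card P by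
        have h := AddSubgroup.card_range_dvd θ
        rwa [Nat.card_fun, Nat.card_zmod] at h)
    rcases Nat.eq_zero_or_pos k with rfl | hk0
    · rw [pow_zero, Nat.card_eq_one_iff_unique] at hk
      haveI := hk.1
      exact absurd (congrArg Subtype.val (Subsingleton.elim (⟨v, hvS⟩ : S) ⟨0, S.zero_mem⟩)) hv
    · exact hk ▸ dvd_pow_self p hk0.ne'
  obtain ⟨w, hw, hw0⟩ := hP.exists_fixed_point_of_prime_dvd_card_of_fixed_point (α := S) hdvd
    (a := ⟨0, S.zero_mem⟩) (fun x => Subtype.ext (map_zero (ρ x)))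
  exact ⟨w, hSU _ w.2, fun e => hw0 (Subtype.ext e.symm), fun x => congrArg Subtype.val (hw x)⟩

/-- If the heart of the permutation module in characteristic `p` of a transitive action of degree `p ^ f` has no trivial composition factor, the action is doubly transitive. The hypothesis is phrased without composition series: no invariant subspaces `W < W'` between the constants and the sum-zero functions with trivial action on the quotient. -/
theorem result {G : Type*} [Group G] [Finite G] {K : Type*} [Field K] {p f : ℕ} [Fact p.Prime] [CharP K p] {Ω : Type*} [Fintype Ω] [MulAction G Ω] [MulAction.IsPretransitive G Ω] (hf : 1 ≤ f) (hcard : Fintype.card Ω = p ^ f) (h : ∀ W W' : Subrepresentation (Cfsg.permRep K G Ω), (Cfsg.permConstants K G Ω).toSubmodule ≤ W.toSubmodule → W.toSubmodule < W'.toSubmodule → W'.toSubmodule ≤ (Cfsg.permSumZero K G Ω).toSubmodule → ∃ g : G, ∃ v ∈ W'.toSubmodule, Cfsg.permRep K G Ω g v - v ∉ W.toSubmodule) : MulAction.IsMultiplyPretransitive G Ω 2 :=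 by
  classical
  have hp := (Fact.out : p.Prime)
  haveI : Nonempty Ω := Fintype.card_pos_iff.1 (hcard ▸ pow_pos hp.pos f)
  let P : Sylow p G := default
  have htrans : ∀ a b : Ω, ∃ u : (P : Subgroup G), u • a = b := by
    intro a b
    have h1 : Nat.card (MulAction.orbit (P : Subgroup G) a) = p ^ f := by
      obtain ⟨k, hk⟩ := P.isPGroup'.card_orbit a
      refine le_antisymm ?_ ?_
      · rw [← hcard, ← Nat.card_eq_fintype_card]
        exact Nat.card_le_card_of_injective _ Subtype.val_injective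
      · have hidx : (MulAction.stabilizer G a).index = p ^ f := by
          rw [MulAction.index_stabilizer_of_transitive, Nat.card_eq_fintype_card, hcard]
        have hA := Subgroup.card_mul_index (MulAction.stabilizer G a)
        have hS := Subgroup.card_mul_index (MulAction.stabilizer (P : Subgroup G) a)
        rw [MulAction.index_stabilizer, ← Nat.card_coe_set_eq, hk] at hS
        rw [hk]
        refine Nat.le_of_dvd (pow_pos hp.pos _) ?_
        -- stabiliser part
        have hd : Nat.card (MulAction.stabilizer (P : Subgroup G) a) ∣ Nat.card (MulAction.stabilizer G a) :=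
          Subgroup.card_dvd_of_injective
            { toFun := fun u => (⟨(u.1 : G), u.2⟩ : MulAction.stabilizer G a)
              map_one' := rfl
              map_mul' := fun _ _ => rfl } (fun u v h => Subtype.ext (Subtype.ext (congrArg (fun z : MulAction.stabilizer G a => (z : G)) h)))
        obtain ⟨j, -, hj⟩ := (Nat.dvd_prime_pow hp).1 (show Nat.card (MulAction.stabilizer (P : Subgroup G) a) ∣
          p ^ (Nat.card G).factorization p from P.card_eq_multiplicity ▸ Subgroup.card_subgroup_dvd_card _)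
        rw [hj, P.card_eq_multiplicity, ← pow_add] at hS
        have e1 := Nat.pow_right_injective hp.two_le hS
        rw [hj, hp.pow_dvd_iff_le_factorization Nat.card_pos.ne'] at hd
        rw [← hA, hidx, Nat.factorization_mul Nat.card_pos.ne' (pow_ne_zero _ hp.ne_zero), Finsupp.add_apply,
          hp.factorization_pow, Finsupp.single_eq_same] at e1
        exact pow_dvd_pow p (by omega)
    have h2 : MulAction.orbit (P : Subgroup G) a = Set.univ := Set.eq_of_subset_of_ncard_le (Set.subset_univ _)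
      (by rw [Set.ncard_univ, ← Nat.card_coe_set_eq, h1, Nat.card_eq_fintype_card, hcard]) (Set.toFinite _)
    exact (h2 ▸ Set.mem_univ b : b ∈ MulAction.orbit (P : Subgroup G) a)
  let ρP : Representation K (P : Subgroup G) (Ω → K) := (Cfsg.permRep K G Ω).comp (P : Subgroup G).subtype
  have hfixconst : ∀ w : Ω → K, (∀ u : (P : Subgroup G), ρP u w = w) → ∀ x y : Ω, w x = w y := fun w hw x y => by
    obtain ⟨u, hu⟩ := htrans y x
    have := congrFun (hw u) x
    rw [← this]
    show w ((u : G)⁻¹ • x) = w y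
    rw [show (u : G)⁻¹ • x = y from inv_smul_eq_iff.2 hu.symm]
  have hn0 : (Fintype.card Ω : K) = 0 := by
    rw [hcard, Nat.cast_pow, CharP.cast_eq_zero, zero_pow (by omega)]
  -- nonzero invariant subspaces contain the constants
  have hmin : ∀ U : Submodule K (Ω → K), (∀ g : G, ∀ u ∈ U, Cfsg.permRep K G Ω g u ∈ U) → U ≠ ⊥ →
      (Cfsg.permConstants K G Ω).toSubmodule ≤ U := by
    intro U hU hne
    obtain ⟨v, hvU, hv⟩ := Submodule.exists_mem_ne_zero_of_ne_bot hne
    obtain ⟨w, hwU, hw0, hw⟩ := exists_fixed P.isPGroup' ρP v hv U (fun u => hU u) hvU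
    obtain ⟨x₀⟩ := ‹Nonempty Ω›
    have hx : w x₀ ≠ 0 := fun e => hw0 (funext fun y => (hfixconst w hw y x₀).trans e)
    refine (Submodule.span_singleton_le_iff_mem _ _).2 ?_
    have e : (fun _ => 1 : Ω → K) = (w x₀)⁻¹ • w := funext fun y => by
      rw [Pi.smul_apply, smul_eq_mul, hfixconst w hw y x₀, inv_mul_cancel₀ hx]
    rw [e]; exact U.smul_mem _ hwU
  -- proper invariant subspaces lie in the sum-zero functions
  have hmax : ∀ U : Submodule K (Ω → K), (∀ g : G, ∀ u ∈ U, Cfsg.permRep K G Ω g u ∈ U) → U ≠ ⊤ →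
      ∀ u ∈ U, ∑ x, u x = 0 := by
    intro U hU hne
    let U' : Submodule K (Ω → K) :=
      { carrier := {t | ∀ u ∈ U, ∑ x, u x * t x = 0}
        add_mem' := fun ha hb u hu => by
          simp only [Pi.add_apply, mul_add, Finset.sum_add_distrib]; rw [ha u hu, hb u hu, add_zero]
        zero_mem' := fun u _ => by simp
        smul_mem' := fun c t ht u hu => by
          simp only [Pi.smul_apply, smul_eq_mul, mul_left_comm _ c, ← Finset.mul_sum]; rw [ht u hu, mul_zero] }
    have hU' : ∀ g : G, ∀ t ∈ U', Cfsg.permRep K G Ω g t ∈ U' := fun g t ht u hu => by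
      rw [← ht _ (hU g⁻¹ u hu)]
      refine Fintype.sum_equiv (MulAction.toPerm g⁻¹) _ _ fun x => ?_
      show u x * t (g⁻¹ • x) = u (g⁻¹⁻¹ • g⁻¹ • x) * t (g⁻¹ • x)
      rw [inv_smul_smul]
    have hne' : U' ≠ ⊥ := by
      obtain ⟨φ, hφ, hφ0⟩ := Submodule.exists_le_ker_of_lt_top U hne.lt_top
      have hφeq : ∀ u : Ω → K, φ u = ∑ x, u x * φ (Pi.single x 1) := fun u => by
        conv_lhs => rw [pi_eq_sum_univ' u]
        rw [map_sum]
        simp only [map_smul, smul_eq_mul]
      intro hb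
      refine hφ ?_
      have hmem : (fun x => φ (Pi.single x 1)) ∈ U' := fun u hu => (hφeq u).symm.trans (hφ0 hu)
      rw [hb, Submodule.mem_bot] at hmem
      refine LinearMap.ext fun u => ?_
      rw [hφeq, LinearMap.zero_apply]
      exact Finset.sum_eq_zero fun x _ => by rw [show φ (Pi.single x 1) = 0 from congrFun hmem x, mul_zero]
    intro u hu
    have := hmin U' hU' hne' (Submodule.subset_span rfl) u hu
    simpa using this
  rw [MulAction.is_two_pretransitive_iff]
  intro a b c d hab hcd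
  let m : Ω → Ω → K := fun x y => if ∃ g : G, g • a = x ∧ g • b = y then 1 else 0
  have hm : ∀ (g : G) x y, m (g • x) (g • y) = m x y := fun g x y => by
    refine if_congr ⟨fun ⟨k, h1, h2⟩ => ⟨g⁻¹ * k, ?_, ?_⟩, fun ⟨k, h1, h2⟩ => ⟨g * k, ?_, ?_⟩⟩ rfl rfl
    · rw [mul_smul, h1, inv_smul_smul]
    · rw [mul_smul, h2, inv_smul_smul]
    · rw [mul_smul, h1]
    · rw [mul_smul, h2]
  set k : K := ∑ y, m a y with hk
  have hrow : ∀ x, ∑ y, m x y = k := fun x => by
    obtain ⟨g, rfl⟩ := MulAction.exists_smul_eq G a x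
    exact (Fintype.sum_equiv (MulAction.toPerm g) _ _ fun y => (hm g a y).symm).symm
  have hcol : ∀ y, ∑ x, m x y = k := by
    -- count in the natural numbers
    let R : Ω → Ω → Prop := fun x y => ∃ g : G, g • a = x ∧ g • b = y
    have hmR : ∀ x y, m x y = ((if R x y then 1 else 0 : ℕ) : K) := fun x y => by
      show (if R x y then (1 : K) else 0) = _
      split <;> simp
    intro y
    have hRinv : ∀ (g : G) x y, R x y → R (g • x) (g • y) := fun g x y ⟨l, h1, h2⟩ =>
      ⟨g * l, by rw [mul_smul, h1], by rw [mul_smul, h2]⟩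
    have hR' : ∀ (g : G) x y, (if R (g • x) (g • y) then 1 else 0 : ℕ) = if R x y then 1 else 0 := fun g x y =>
      if_congr ⟨fun h => by simpa using hRinv g⁻¹ _ _ h, hRinv g x y⟩ rfl rfl
    have hr : ∀ x, ∑ z, (if R x z then 1 else 0 : ℕ) = ∑ z, (if R a z then 1 else 0 : ℕ) := fun x => by
      obtain ⟨g, rfl⟩ := MulAction.exists_smul_eq G a x
      exact (Fintype.sum_equiv (MulAction.toPerm g) _ _ fun z => (hR' g a z).symm).symm
    have hc : ∀ z, ∑ x, (if R x z then 1 else 0 : ℕ) = ∑ x, (if R x y then 1 else 0 : ℕ) := fun z => by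
      obtain ⟨g, rfl⟩ := MulAction.exists_smul_eq G y z
      exact (Fintype.sum_equiv (MulAction.toPerm g) _ _ fun x => (hR' g x y).symm).symm
    have htot : ∑ x, ∑ z, (if R x z then 1 else 0 : ℕ) = ∑ z, ∑ x, (if R x z then 1 else 0 : ℕ) := Finset.sum_comm
    rw [Finset.sum_congr rfl fun x _ => hr x, Finset.sum_congr rfl fun z _ => hc z, Finset.sum_const, Finset.sum_const,
      smul_eq_mul, smul_eq_mul] at htot
    have := Nat.eq_of_mul_eq_mul_left (by rw [Finset.card_univ]; exact Fintype.card_pos) htot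
    rw [hk]
    simp only [hmR, ← Nat.cast_sum]
    rw [this]
  let B : (Ω → K) →ₗ[K] (Ω → K) :=
    { toFun := fun u x => (∑ y, m x y * u y) - k * u x
      map_add' := fun u v => by funext x; simp [mul_add, Finset.sum_add_distrib]; ring
      map_smul' := fun t u => by funext x; simp [mul_left_comm _ t, ← Finset.mul_sum]; ring }
  have hBG : ∀ (g : G) u, B (Cfsg.permRep K G Ω g u) = Cfsg.permRep K G Ω g (B u) := fun g u => by
    funext x
    show (∑ y, m x y * u (g⁻¹ • y)) - k * u (g⁻¹ • x) = (∑ y, m (g⁻¹ • x) y * u y) - k * u (g⁻¹ • x)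
    congr 1
    refine Fintype.sum_equiv (MulAction.toPerm g⁻¹) _ _ fun y => ?_
    show m x y * u (g⁻¹ • y) = m (g⁻¹ • x) (g⁻¹ • y) * u (g⁻¹ • y)
    rw [hm]
  have hBsum : ∀ u, ∑ x, B u x = 0 := fun u => by
    show ∑ x, ((∑ y, m x y * u y) - k * u x) = 0
    rw [Finset.sum_sub_distrib, Finset.sum_comm, ← Finset.mul_sum]
    simp only [← Finset.sum_mul, hcol]
    rw [← Finset.mul_sum, sub_self]
  let A := (Cfsg.permSumZero K G Ω).toSubmodule
  let e₀ : Ω → K := Pi.single a 1
  have he₀ : ∀ u : Ω → K, u - (∑ x, u x) • e₀ ∈ A := fun u => by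
    show ∑ x, (u - (∑ x, u x) • e₀) x = 0
    simp [e₀, Pi.single_apply, Finset.sum_sub_distrib]
  have hA_inv : ∀ g : G, ∀ u ∈ A, Cfsg.permRep K G Ω g u ∈ A := fun g u hu =>
    (Cfsg.permSumZero K G Ω).apply_mem_toSubmodule g hu
  have hg0 : ∀ g : G, Cfsg.permRep K G Ω g e₀ - e₀ ∈ A := fun g => by
    have h1 := he₀ (Cfsg.permRep K G Ω g e₀)
    have hs : ∑ x, Cfsg.permRep K G Ω g e₀ x = 1 := by
      rw [Fintype.sum_equiv (MulAction.toPerm g⁻¹) (fun x => Cfsg.permRep K G Ω g e₀ x) e₀ fun x => rfl]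
      simp [e₀]
    rwa [hs, one_smul] at h1
  let W' : Subrepresentation (Cfsg.permRep K G Ω) :=
    ⟨A.map B, fun g v hv => by
      obtain ⟨u, hu, rfl⟩ := hv
      exact ⟨_, hA_inv g u hu, hBG g u⟩⟩
  let W : Subrepresentation (Cfsg.permRep K G Ω) :=
    ⟨LinearMap.range B, fun g v hv => by
      obtain ⟨u, rfl⟩ := hv
      exact ⟨_, hBG g u⟩⟩
  have hBA : ∀ u ∈ A, B u = 0 := by
    by_contra hne
    push Not at hne
    obtain ⟨u₁, hu₁, hu₁'⟩ := hne
    have hW'0 : W'.toSubmodule ≠ ⊥ := fun hb => hu₁' ((Submodule.eq_bot_iff _).1 hb _ ⟨u₁, hu₁, rfl⟩)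
    have hlt : W'.toSubmodule < W.toSubmodule := by
      refine lt_of_le_of_ne (fun v hv => by obtain ⟨u, -, hu⟩ := hv; exact ⟨u, hu⟩) fun heq => ?_
      have : B e₀ ∈ W'.toSubmodule := by rw [heq]; exact ⟨e₀, rfl⟩
      obtain ⟨u, hu, hu'⟩ := this
      have hker : e₀ - u ∈ LinearMap.ker B := by rw [LinearMap.mem_ker, map_sub, hu', sub_self]
      have hkt : LinearMap.ker B ≠ ⊤ := fun ht => hu₁' (LinearMap.mem_ker.1 (ht ▸ Submodule.mem_top))
      have hs := hmax _ (fun g v hv => by rw [LinearMap.mem_ker, hBG, LinearMap.mem_ker.1 hv, map_zero]) hkt _ hker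
      have hu0 : ∑ x, u x = 0 := hu
      simp [e₀, Pi.single_apply, Finset.sum_sub_distrib, hu0] at hs
    obtain ⟨g, v, hv, hvn⟩ := h W' W (hmin _ (fun g v hv => W'.apply_mem_toSubmodule g hv) hW'0) hlt
      (fun v hv => by obtain ⟨u, rfl⟩ := hv; exact hBsum u)
    obtain ⟨u, rfl⟩ := hv
    refine hvn ⟨Cfsg.permRep K G Ω g u - u, ?_, by rw [map_sub, hBG]⟩
    show ∑ x, (Cfsg.permRep K G Ω g u - u) x = 0
    simp only [Pi.sub_apply, Finset.sum_sub_distrib, sub_eq_zero]
    exact Fintype.sum_equiv (MulAction.toPerm g⁻¹) _ _ fun x => rfl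
  have hfix : ∀ x y, B e₀ x = B e₀ y := hfixconst _ fun u => by
    show Cfsg.permRep K G Ω (u : G) (B e₀) = B e₀
    rw [← hBG, ← sub_eq_zero, ← map_sub]
    exact hBA _ (hg0 _)
  have hBval : ∀ x, B e₀ x = m x a - k * (if x = a then 1 else 0) := fun x => by
    show (∑ y, m x y * e₀ y) - k * e₀ x = _
    simp [e₀, Pi.single_apply]
  -- every pair ending in a lies in the orbit of (a, b)
  obtain ⟨g₁, hg₁⟩ := MulAction.exists_smul_eq G b a
  have hxne : g₁ • a ≠ a := fun e => hab (smul_left_cancel g₁ (e.trans hg₁.symm))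
  have hall : ∀ x, x ≠ a → ∃ g : G, g • a = x ∧ g • b = a := fun x hx => by
    have h1 := hfix x (g₁ • a)
    rw [hBval, hBval, if_neg hx, if_neg hxne, mul_zero, sub_zero, sub_zero,
      show m (g₁ • a) a = 1 from if_pos ⟨g₁, rfl, hg₁⟩] at h1
    by_contra hc
    rw [show m x a = 0 from if_neg hc] at h1
    exact zero_ne_one h1
  have hpair : ∀ x y, x ≠ y → ∃ g : G, g • a = x ∧ g • b = y := fun x y hxy => by
    obtain ⟨g, hg⟩ := MulAction.exists_smul_eq G a y
    obtain ⟨l, hl1, hl2⟩ := hall (g⁻¹ • x) (fun e => hxy (by rw [← hg, ← e, smul_inv_smul]))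
    exact ⟨g * l, by rw [mul_smul, hl1, smul_inv_smul], by rw [mul_smul, hl2, hg]⟩
  exact hpair c d hcd

end Cfsg.Agent.S0671
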