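import Cfsg.Statements.S0673
import Mathlib.Algebra.Polynomial.Roots
import Mathlib.Algebra.Polynomial.Eval.Degree
import Mathlib.Algebra.Polynomial.AlgebraMap
import Mathlib.LinearAlgebra.Lagrange
import Mathlib.Algebra.CharP.Lemmas
import Mathlib.Algebra.Field.ZMod
import Mathlib.LinearAlgebra.Dimension.Finrank
import Mathlib.Algebra.Algebra.ZMod
import Mathlib.RingTheory.Polynomial.Basic
import Mathlib.Algebra.Polynomial.Taylor

set_option autoImplicit false
open Cfsg

namespace Cfsg.Agent.S0673

/-- In characteristic `p`, the translation-invariant subspaces of the space of functions on `ZMod p` are exactly the spaces of polynomial functions of degree less than `r`, one for each `r ≤ p`, of dimension `r`. -/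
theorem result {p : ℕ} [Fact p.Prime] {K : Type*} [Field K] [CharP K p] (W : Submodule K (ZMod p → K)) (hW : ∀ f ∈ W, (fun j => f (j - 1)) ∈ W) : ∃ r : ℕ, r ≤ p ∧ Module.finrank K W = r ∧ ∀ f : ZMod p → K, f ∈ W ↔ ∃ P : Polynomial K, P.degree < r ∧ ∀ j : ZMod p, f j = P.eval (ZMod.cast j : K) := by
  classical
  set c : ZMod p → K := fun j => (ZMod.cast j : K) with hc
  have hp := (Fact.out : p.Prime)
  have hcinj : Function.Injective c := (ZMod.castHom (dvd_refl p) K).injective
  have hc1 : ∀ j, c (j - 1) = c j - 1 := fun j => by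
    show ZMod.castHom (dvd_refl p) K (j - 1) = ZMod.castHom (dvd_refl p) K j - 1
    rw [map_sub, map_one]
  let E : Polynomial K →ₗ[K] (ZMod p → K) := LinearMap.pi fun j => Polynomial.leval (c j)
  have hE : ∀ (P : Polynomial K) j, E P j = P.eval (c j) := fun P j => rfl
  let D : Submodule K (Polynomial K) := Polynomial.degreeLT K p
  have hEinj : ∀ P ∈ D, ∀ Q ∈ D, E P = E Q → P = Q := by
    intro P hP Q hQ h
    refine Polynomial.eq_of_degrees_lt_of_eval_index_eq Finset.univ hcinj.injOn ?_ ?_
      fun j _ => congrFun h j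
    · rw [Finset.card_univ, ZMod.card]; exact Polynomial.mem_degreeLT.1 hP
    · rw [Finset.card_univ, ZMod.card]; exact Polynomial.mem_degreeLT.1 hQ
  have hEsurj : ∀ f : ZMod p → K, ∃ P ∈ D, E P = f := by
    intro f
    refine ⟨Lagrange.interpolate Finset.univ c f, Polynomial.mem_degreeLT.2 ?_, funext fun j =>
      Lagrange.eval_interpolate_at_node (v := c) f hcinj.injOn (Finset.mem_univ j)⟩
    have := Lagrange.degree_interpolate_lt (s := (Finset.univ : Finset (ZMod p))) (v := c) f
      hcinj.injOn
    rwa [Finset.card_univ, ZMod.card] at this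
  let V : Submodule K (Polynomial K) := W.comap E ⊓ D
  have hdelta : ∀ P ∈ V, P.comp (Polynomial.X - 1) - P ∈ V := by
    rintro P ⟨hPW, hPD⟩
    refine ⟨?_, ?_⟩
    · show E _ ∈ W
      rw [map_sub]
      refine W.sub_mem ?_ hPW
      have := hW _ hPW
      convert this using 1
      funext j
      simp [hE, hc1, Polynomial.eval_comp]
    · refine D.sub_mem (Polynomial.mem_degreeLT.2 ?_) hPD
      by_cases h0 : P = 0
      · simp [h0]
      have h1 : (P.comp (Polynomial.X - 1)).natDegree = P.natDegree := by
        rw [Polynomial.natDegree_comp, ← Polynomial.C_1, Polynomial.natDegree_X_sub_C, mul_one]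
      have h2 : P.natDegree < p := (Polynomial.natDegree_lt_iff_degree_lt h0).2
        (Polynomial.mem_degreeLT.1 hPD)
      exact Polynomial.degree_le_natDegree.trans_lt (by rw [h1]; exact_mod_cast h2)
  have hrest : ∀ r : ℕ, ∀ P : Polynomial K, P.degree < r → r ≤ p → P ∈ D := fun r P h hr =>
    Polynomial.mem_degreeLT.2 (h.trans_le (by exact_mod_cast hr))
  -- every polynomial of degree below that of a member of `V` is in `V`
  have hdown : ∀ n : ℕ, ∀ P ∈ V, P ≠ 0 → P.natDegree = n →
      Polynomial.degreeLT K (n + 1) ≤ V := by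
    intro n
    induction n with
    | zero =>
      intro P hP hP0 hn Q hQ
      have hQd : Q.degree < 1 := by simpa using Polynomial.mem_degreeLT.1 hQ
      rw [Polynomial.eq_C_of_degree_le_zero (Nat.WithBot.lt_one_iff_le_zero.1 hQd)]
      rw [Polynomial.eq_C_of_natDegree_eq_zero hn] at hP hP0
      have h := V.smul_mem (Q.coeff 0 / P.coeff 0) hP
      rw [Polynomial.smul_C, smul_eq_mul, div_mul_cancel₀] at h
      · exact h
      · exact fun e => hP0 (by rw [e, Polynomial.C_0])
    | succ n ih =>
      intro P hP hP0 hn Q hQ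
      have hnp : n + 1 < p := by
        have := (Polynomial.natDegree_lt_iff_degree_lt hP0).2 (Polynomial.mem_degreeLT.1 hP.2)
        omega
      set R := P.comp (Polynomial.X - 1) - P
      have hcoef : R.coeff n = -((n + 1 : ℕ) : K) * P.leadingCoeff := by
        have h1 : P.comp (Polynomial.X - 1) = Polynomial.taylor (-1) P := by
          rw [Polynomial.taylor_apply, map_neg, Polynomial.C_1, ← sub_eq_add_neg]
        rw [Polynomial.coeff_sub, h1, Polynomial.taylor_coeff,
          Polynomial.eval_eq_sum_range' (n := 2) (by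
            have := Polynomial.natDegree_hasseDeriv_le P n; omega)]
        simp [Finset.sum_range_succ, Polynomial.hasseDeriv_coeff, Polynomial.leadingCoeff, hn,
          Nat.choose_succ_self_right, add_comm 1 n]
        ring
      have hne : R.coeff n ≠ 0 := by
        rw [hcoef]
        refine mul_ne_zero (neg_ne_zero.2 fun e => ?_) (Polynomial.leadingCoeff_ne_zero.2 hP0)
        rw [CharP.cast_eq_zero_iff K p] at e
        exact absurd (Nat.le_of_dvd (Nat.succ_pos n) e) (by omega)
      have hR0 : R ≠ 0 := fun e => hne (by rw [e, Polynomial.coeff_zero])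
      have hdeg : R.natDegree ≤ n + 1 := by
        refine (Polynomial.natDegree_sub_le _ _).trans (max_le ?_ hn.le)
        rw [Polynomial.natDegree_comp, ← Polynomial.C_1, Polynomial.natDegree_X_sub_C, mul_one, hn]
      have htop : R.coeff (n + 1) = 0 := by
        have h1 : (P.comp (Polynomial.X - 1)).natDegree = n + 1 := by
          rw [Polynomial.natDegree_comp, ← Polynomial.C_1, Polynomial.natDegree_X_sub_C, mul_one, hn]
        have h2 : (P.comp (Polynomial.X - 1)).leadingCoeff = P.leadingCoeff := by
          rw [Polynomial.leadingCoeff_comp (by rw [← Polynomial.C_1, Polynomial.natDegree_X_sub_C]; omega),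
            ← Polynomial.C_1, Polynomial.leadingCoeff_X_sub_C, one_pow, mul_one]
        rw [Polynomial.leadingCoeff, h1, Polynomial.leadingCoeff, hn] at h2
        rw [Polynomial.coeff_sub, h2, sub_self]
      have hRn : R.natDegree = n := by
        refine le_antisymm ?_ (Polynomial.le_natDegree_of_ne_zero hne)
        rcases Nat.eq_or_lt_of_le hdeg with e | e
        · exfalso
          refine hR0 (Polynomial.leadingCoeff_eq_zero.1 ?_)
          rw [Polynomial.leadingCoeff, e, htop]
        · omega
      have hlow := ih R (hdelta P hP) hR0 hRn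
      have h1 : Q - (Q.coeff (n + 1) / P.leadingCoeff) • P ∈ V := by
        refine hlow (Polynomial.mem_degreeLT.2 ?_)
        rw [Polynomial.degree_lt_iff_coeff_zero]
        intro m hm
        rcases Nat.eq_or_lt_of_le hm with e | e
        · subst e
          simp [Polynomial.leadingCoeff, hn,
            (show P.coeff (n + 1) ≠ 0 from hn ▸ Polynomial.leadingCoeff_ne_zero.2 hP0)]
        · have hQm := (Polynomial.degree_lt_iff_coeff_zero Q (n + 1 + 1)).1
            (Polynomial.mem_degreeLT.1 hQ) m (by omega)
          rw [Polynomial.coeff_sub, Polynomial.coeff_smul, hQm,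
            Polynomial.coeff_eq_zero_of_natDegree_lt (show P.natDegree < m by omega), smul_zero,
            sub_zero]
      have := V.add_mem h1 (V.smul_mem (Q.coeff (n + 1) / P.leadingCoeff) hP)
      rwa [sub_add_cancel] at this
  obtain ⟨r, hrp, hV⟩ : ∃ r, r ≤ p ∧ V = Polynomial.degreeLT K r := by
    have hbd : ∀ P ∈ V, P ≠ 0 → P.natDegree < p := fun P hP hP0 =>
      (Polynomial.natDegree_lt_iff_degree_lt hP0).2 (Polynomial.mem_degreeLT.1 hP.2)
    have hex : ∃ r, r ≤ p ∧ V ≤ Polynomial.degreeLT K r := ⟨p, le_rfl, inf_le_right⟩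
    refine ⟨Nat.find hex, (Nat.find_spec hex).1, le_antisymm (Nat.find_spec hex).2 ?_⟩
    rcases Nat.eq_zero_or_pos (Nat.find hex) with h0 | h0
    · rw [h0]
      intro Q hQ
      have : Q = 0 := Polynomial.degree_eq_bot.1 (Nat.WithBot.lt_zero_iff.1
        (by simpa using Polynomial.mem_degreeLT.1 hQ))
      rw [this]
      exact V.zero_mem
    obtain ⟨P, hP, hP0, hdeg⟩ : ∃ P ∈ V, P ≠ 0 ∧ Nat.find hex - 1 ≤ P.natDegree := by
      by_contra hno
      push Not at hno
      have h2 := (Nat.find_spec hex).1
      refine Nat.find_min hex (show Nat.find hex - 1 < Nat.find hex by omega) ⟨by omega, ?_⟩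
      intro P hP
      rw [Polynomial.mem_degreeLT]
      by_cases hP0 : P = 0
      · rw [hP0, Polynomial.degree_zero]; exact WithBot.bot_lt_coe _
      · exact (Polynomial.natDegree_lt_iff_degree_lt hP0).1 (hno P hP hP0)
    have heq : P.natDegree + 1 = Nat.find hex := by
      have := (Polynomial.natDegree_lt_iff_degree_lt hP0).2
        (Polynomial.mem_degreeLT.1 ((Nat.find_spec hex).2 hP))
      omega
    rw [← heq]
    exact hdown _ P hP hP0 rfl
  have hmem : ∀ f : ZMod p → K, f ∈ W ↔
      ∃ P : Polynomial K, P.degree < r ∧ ∀ j : ZMod p, f j = P.eval (ZMod.cast j : K) := by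
    intro f
    constructor
    · intro hf
      obtain ⟨P, hPD, hPf⟩ := hEsurj f
      have hP : P ∈ V := ⟨show E P ∈ W from hPf ▸ hf, hPD⟩
      rw [hV, Polynomial.mem_degreeLT] at hP
      exact ⟨P, hP, fun j => (congrFun hPf j).symm⟩
    · rintro ⟨P, hP, hPf⟩
      have hPV : P ∈ V := hV ▸ Polynomial.mem_degreeLT.2 hP
      rw [show f = E P from funext hPf]
      exact hPV.1
  refine ⟨r, hrp, ?_, hmem⟩
  have hWmap : W = (Polynomial.degreeLT K r).map E := by
    ext f
    rw [hmem, Submodule.mem_map]
    constructor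
    · rintro ⟨P, hP, hPf⟩
      exact ⟨P, Polynomial.mem_degreeLT.2 hP, (funext hPf).symm⟩
    · rintro ⟨P, hP, rfl⟩
      exact ⟨P, Polynomial.mem_degreeLT.1 hP, fun j => rfl⟩
  have hinj : Function.Injective (E.comp (Polynomial.degreeLT K r).subtype) := fun P Q h =>
    Subtype.ext (hEinj _ (hrest r P (Polynomial.mem_degreeLT.1 P.2) hrp) _
      (hrest r Q (Polynomial.mem_degreeLT.1 Q.2) hrp) h)
  rw [hWmap, ← Submodule.range_subtype (Polynomial.degreeLT K r), ← LinearMap.range_comp,
    LinearMap.finrank_range_of_inj hinj, (Polynomial.degreeLTEquiv K r).finrank_eq,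
    Module.finrank_fin_fun]

end Cfsg.Agent.S0673
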