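import Cfsg.Statements.S0677
import Mathlib
import Cfsg.Agent.Lib.Perm.PrimeDegree
import Cfsg.Agent.Lib.Perm.Primitive
import Cfsg.Agent.Lib.Solv.Basic
import Cfsg.Agent.Lib.Solv.SZ

set_option autoImplicit false
set_option linter.style.haveILetI false
open Cfsg
open scoped Pointwise

namespace Cfsg.Agent.S0677

open MulAction

/-- In a transitive permutation group of prime degree `p` whose Sylow `p`-normaliser has even order, the point stabilisers are the only subgroups of index `p`. -/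
theorem result {α : Type*} [Fintype α] [DecidableEq α] {p : ℕ} [Fact p.Prime] (hα : Fintype.card α = p) (G : Subgroup (Equiv.Perm α)) [MulAction.IsPretransitive G α] (P : Sylow p G) (heven : Even (Nat.card (Subgroup.normalizer ((P : Subgroup G) : Set G)))) (H : Subgroup G) (hH : H.index = p) : ∃ a : α, H = MulAction.stabilizer G a := by
  classical
  have hp := (Fact.out : p.Prime)
  haveI : Nonempty α := Fintype.card_pos_iff.1 (hα ▸ hp.pos)
  obtain ⟨b⟩ := ‹Nonempty α›
  have hαc : Nat.card α = p := by rw [Nat.card_eq_fintype_card, hα]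
  have hGdvd : Nat.card G ∣ p.factorial := by
    have := Subgroup.card_subgroup_dvd_card G
    rwa [Nat.card_perm, hαc] at this
  have hp2 : ¬ p * p ∣ Nat.card G := fun h => by
    have h1 := h.trans hGdvd
    obtain ⟨q, hq⟩ : ∃ q, p = q + 1 := ⟨p - 1, by have := hp.pos; omega⟩
    nth_rw 3 [hq] at h1
    rw [Nat.factorial_succ, ← hq] at h1
    have := hp.dvd_factorial.1 (Nat.dvd_of_mul_dvd_mul_left hp.pos h1)
    omega
  have hpdvd : p ∣ Nat.card G := hH ▸ Subgroup.index_dvd_card H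
  have hPp : Nat.card (P : Subgroup G) = p := by
    obtain ⟨k, hk⟩ := IsPGroup.iff_card.1 P.isPGroup'
    have h1 : p ∣ Nat.card (P : Subgroup G) := P.dvd_card_of_dvd_card hpdvd
    have h2 : k < 2 := by
      by_contra h
      exact hp2 (dvd_trans (by rw [← pow_two, hk]; exact pow_dvd_pow p (by omega)) (Subgroup.card_subgroup_dvd_card (P : Subgroup G)))
    interval_cases k
    · rw [hk, pow_zero] at h1; exact absurd (Nat.dvd_one.1 h1) hp.ne_one
    · rw [hk, pow_one]
  have hcardH : Nat.card H * p = Nat.card G := by rw [← hH, Subgroup.card_mul_index]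
  have hpH : ¬ p ∣ Nat.card H := fun h => hp2 (hcardH ▸ mul_dvd_mul_right h p)
  -- it suffices that H fixes a point
  suffices hfix : ∃ a : α, H ≤ stabilizer G a by
    obtain ⟨a, ha⟩ := hfix
    refine ⟨a, Subgroup.eq_of_le_of_card_ge ha (le_of_eq ?_)⟩
    have h1 := Subgroup.card_mul_index (stabilizer G a)
    rw [index_stabilizer_of_transitive, hαc, ← hcardH] at h1
    exact Nat.eq_of_mul_eq_mul_right hp.pos h1
  -- P is regular
  have hPfree : ∀ (u : (P : Subgroup G)) (a : α), u • a = a → u = 1 := by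
    intro u a hu
    by_contra hne
    have hz : Subgroup.zpowers (u : G) = (P : Subgroup G) := Subgroup.eq_of_le_of_card_ge
      (Subgroup.zpowers_le.2 u.2) (by
        rw [hPp, Nat.card_zpowers, Subgroup.orderOf_coe]
        rcases (Nat.dvd_prime hp).1 ((orderOf_dvd_natCard u).trans (dvd_of_eq hPp)) with h | h
        · exact absurd (orderOf_eq_one_iff.1 h) hne
        · rw [h])
    have hall : ∀ v : (P : Subgroup G), v • a = a := fun v => by
      have hv : (v : G) ∈ Subgroup.zpowers (u : G) := hz.symm ▸ v.2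
      exact (Subgroup.zpowers_le.2 (show (u : G) ∈ stabilizer G a from hu)) hv
    -- then the orbit of every point is small, so u fixes every point
    apply hne
    refine Subtype.ext (Subtype.ext (Equiv.ext fun x => ?_))
    show (u : G) • x = x
    have horb : Nat.card (orbit (P : Subgroup G) x) ∣ p := by
      obtain ⟨k, hk⟩ := P.isPGroup'.card_orbit x
      rw [Nat.card_coe_set_eq, ← index_stabilizer]; exact (Subgroup.index_dvd_card _).trans (dvd_of_eq hPp)
    rcases (Nat.dvd_prime hp).1 horb with h | h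
    · haveI := (Nat.card_eq_one_iff_unique.1 h).1
      exact congrArg Subtype.val (Subsingleton.elim (⟨u • x, mem_orbit x u⟩ : orbit (P : Subgroup G) x) ⟨x, mem_orbit_self x⟩)
    · exfalso
      have huniv : orbit (P : Subgroup G) x = Set.univ := Set.eq_of_subset_of_ncard_le (Set.subset_univ _)
        (by rw [Set.ncard_univ, hαc, ← Nat.card_coe_set_eq, h]) (Set.toFinite _)
      obtain ⟨v, hv⟩ : a ∈ orbit (P : Subgroup G) x := huniv ▸ Set.mem_univ a
      have hax : x = a := by rw [← hall v⁻¹, ← hv, inv_smul_smul]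
      have h1 : orbit (P : Subgroup G) x ⊆ {a} := by
        rintro _ ⟨w, rfl⟩
        show w • x = a
        rw [hax]; exact hall w
      have := Set.ncard_le_ncard h1 (Set.finite_singleton a)
      rw [Set.ncard_singleton, ← Nat.card_coe_set_eq, h] at this
      exact absurd this (not_le.2 hp.one_lt)
  have hbij : ∀ a : α, Function.Bijective fun u : (P : Subgroup G) => u • a := fun a => by
    refine (Nat.bijective_iff_injective_and_card _).2 ⟨fun u v h => ?_, by rw [hPp, hαc]⟩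
    exact (inv_mul_eq_one.1 (hPfree (v⁻¹ * u) a (by rw [mul_smul]; exact inv_smul_eq_iff.2 h))).symm
  by_cases hsol : Group.IsSolvable G
  · -- solvable case
    haveI := hsol
    obtain ⟨M, ⟨hMn, hMb⟩, hMmin⟩ := Set.exists_min_image {M : Subgroup G | M.Normal ∧ M ≠ ⊥} (fun M : Subgroup G => Nat.card M)
      (Set.toFinite _) ⟨⊤, inferInstance, fun h => by
        have := hpdvd
        rw [← Subgroup.card_top (G := G), h, Subgroup.card_bot] at this
        exact hp.ne_one (Nat.dvd_one.1 this)⟩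
    haveI := hMn
    obtain ⟨hab, -⟩ := Solv.minimal_normal_elementaryAbelian M inferInstance hMb fun L hL hLM => by
      by_cases hLb : L = ⊥
      · exact Or.inl hLb
      · exact Or.inr (Subgroup.eq_of_le_of_card_ge hLM (hMmin L ⟨hL, hLb⟩))
    haveI hprim : IsPreprimitive G α := IsPreprimitive.of_prime_card (hαc ▸ hp)
    haveI : IsPretransitive M α := Perm.normal_isPretransitive M hMb
    have hMc : Nat.card M = p := by
      have h1 := index_stabilizer_of_transitive M b
      rw [Perm.stabilizer_eq_bot_of_isMulCommutative hab b, Subgroup.index_bot, hαc] at h1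
      exact h1
    have hcop : (Nat.card M).Coprime (Nat.card (stabilizer G b)) := by
      rw [hMc]
      refine hp.coprime_iff_not_dvd.2 fun h => hp2 ?_
      have h1 := Subgroup.card_mul_index (stabilizer G b)
      rw [index_stabilizer_of_transitive, hαc] at h1
      rw [← h1]; exact mul_dvd_mul_right h p
    obtain ⟨g, -, hg⟩ := Solv.sz_conj_rel M (stabilizer G b) H (by rw [Subgroup.normalizer_eq_top]; exact le_top)
      (fun x _ => by
        obtain ⟨m, hm⟩ := exists_smul_eq M b ((x : G) • b)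
        have h1 : (m : G)⁻¹ * x ∈ stabilizer G b := by
          rw [mem_stabilizer_iff, mul_smul, inv_smul_eq_iff]; exact hm.symm
        have := mul_mem (Subgroup.mem_sup_left m.2 : (m : G) ∈ M ⊔ stabilizer G b) (Subgroup.mem_sup_right h1)
        rwa [mul_inv_cancel_left] at this)
      hcop (by
        have h1 := Subgroup.card_mul_index (stabilizer G b)
        rw [index_stabilizer_of_transitive, hαc, ← hcardH] at h1
        exact (Nat.eq_of_mul_eq_mul_right hp.pos h1).symm)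
      (Or.inl inferInstance)
    refine ⟨g • b, fun x hx => ?_⟩
    rw [← hg, Subgroup.mem_pointwise_smul_iff_inv_smul_mem, MulAut.smul_def, MulAut.inv_def, MulAut.conj_symm_apply] at hx
    rw [mem_stabilizer_iff] at hx ⊢
    rw [mul_smul, mul_smul, inv_smul_eq_iff] at hx
    exact hx
  have h2 : IsMultiplyPretransitive G α 2 := (Perm.burnside_prime_degree hα G).resolve_left hsol
  have hodd : p ≠ 2 := fun h => hsol (by
    subst h
    have hG2 : IsPGroup 2 G := by
      have hd : Nat.card G ∣ 2 := by simpa using hGdvd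
      rcases (Nat.dvd_prime hp).1 hd with e | e
      · exact IsPGroup.of_card (n := 0) (by rw [e, pow_zero])
      · exact IsPGroup.of_card (n := 1) (by rw [e, pow_one])
    haveI := hG2.isNilpotent
    infer_instance)
  -- an involution inverting P
  haveI : Fact (Nat.Prime 2) := ⟨Nat.prime_two⟩
  obtain ⟨t', ht'⟩ := exists_prime_orderOf_dvd_card' 2 heven.two_dvd
  set t : G := t'.1 with ht
  have hto : orderOf t = 2 := by rw [ht, Subgroup.orderOf_coe, ht']
  have ht2 : t * t = 1 := by rw [← pow_two, ← hto, pow_orderOf_eq_one]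
  haveI hcyc : IsCyclic (P : Subgroup G) := isCyclic_of_prime_card hPp
  have hconj : ∀ u ∈ (P : Subgroup G), t * u * t⁻¹ ∈ (P : Subgroup G) := fun u hu =>
    (Subgroup.mem_normalizer_iff.1 t'.2 u).1 hu
  have hcomm : ∀ x y : (P : Subgroup G), x * y = y * x := by
    haveI := IsCyclic.isMulCommutative (α := (P : Subgroup G))
    exact fun x y => mul_comm' x y
  have hinv : ∀ u ∈ (P : Subgroup G), t * u * t⁻¹ = u⁻¹ := by
    obtain ⟨g₀, hg₀⟩ := IsCyclic.exists_generator (α := (P : Subgroup G))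
    obtain ⟨k, hk⟩ := hg₀ ⟨t * g₀ * t⁻¹, hconj _ g₀.2⟩
    have hk' : (g₀ : G) ^ k = t * g₀ * t⁻¹ := congrArg Subtype.val hk
    have hk2 : (g₀ : G) ^ (k * k) = g₀ := by
      rw [zpow_mul, hk', conj_zpow, hk']
      calc t * (t * (g₀ : G) * t⁻¹) * t⁻¹ = (t * t) * g₀ * (t * t)⁻¹ := by group
        _ = g₀ := by rw [ht2]; group
    have hg0 : orderOf (g₀ : G) = p := by
      rw [Subgroup.orderOf_coe, orderOf_eq_card_of_forall_mem_zpowers hg₀, hPp]
    have hd : (p : ℤ) ∣ k * k - 1 := by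
      rw [← hg0]; exact orderOf_dvd_iff_zpow_eq_one.2 (by rw [zpow_sub, zpow_one, hk2, mul_inv_cancel])
    have hd' : (p : ℤ) ∣ (k - 1) * (k + 1) := by rwa [show (k - 1) * (k + 1) = k * k - 1 by ring]
    have key : ∀ u ∈ (P : Subgroup G), ∀ e : ℤ, (g₀ : G) ^ k = (g₀ : G) ^ e → t * u * t⁻¹ = u ^ e := by
      intro u hu e he
      obtain ⟨i, hi⟩ := hg₀ ⟨u, hu⟩
      have hi' : (g₀ : G) ^ i = u := congrArg Subtype.val hi
      rw [← hi', ← conj_zpow, ← hk', he, ← zpow_mul, ← zpow_mul, mul_comm]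
    have hmod : ∀ e : ℤ, (p : ℤ) ∣ k - e → (g₀ : G) ^ k = (g₀ : G) ^ e := fun e he => by
      rw [← mul_inv_eq_one, ← zpow_sub]
      exact orderOf_dvd_iff_zpow_eq_one.1 (by rw [hg0]; exact he)
    rcases (Nat.prime_iff_prime_int.1 hp).dvd_mul.1 hd' with h | h
    · exfalso
      have hct : ∀ u ∈ (P : Subgroup G), t * u = u * t := fun u hu => by
        have := key u hu 1 (hmod 1 h)
        rwa [zpow_one, mul_inv_eq_iff_eq_mul] at this
      obtain ⟨v, hv⟩ := (hbij b).2 (t • b)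
      have hv' : (v : G) • b = t • b := hv
      have htv : t = v := Subtype.ext (Equiv.ext fun x => by
        obtain ⟨u, rfl⟩ := (hbij b).2 x
        show t • ((u : G) • b) = (v : G) • ((u : G) • b)
        rw [← mul_smul, hct u u.2, mul_smul, ← hv', ← mul_smul, ← mul_smul]
        congr 1
        exact congrArg Subtype.val (hcomm u v))
      have h3 : orderOf v ∣ p := (orderOf_dvd_natCard v).trans (dvd_of_eq hPp)
      rw [← Subgroup.orderOf_coe, ← htv, hto] at h3
      exact hodd ((Nat.prime_dvd_prime_iff_eq Nat.prime_two hp).1 h3).symm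
    · exact fun u hu => by
        rw [key u hu (-1) (hmod (-1) (by simpa using h)), zpow_neg_one]
  have hT : IsPGroup 2 (Subgroup.zpowers t) := IsPGroup.of_card (n := 1) (by rw [Nat.card_zpowers, hto, pow_one])
  obtain ⟨a₀, ha₀⟩ := hT.nonempty_fixed_point_of_prime_not_dvd_card (α := α) (by
    rw [hαc]; exact fun h => hodd ((Nat.prime_dvd_prime_iff_eq Nat.prime_two hp).1 h).symm)
  have hta : t • a₀ = a₀ := ha₀ ⟨t, Subgroup.mem_zpowers t⟩
  obtain ⟨c₀, hc₀⟩ := hT.nonempty_fixed_point_of_prime_not_dvd_card (α := G ⧸ H) (by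
    rw [← Subgroup.index_eq_card, hH]; exact fun h => hodd ((Nat.prime_dvd_prime_iff_eq Nat.prime_two hp).1 h).symm)
  have htc : t • c₀ = c₀ := hc₀ ⟨t, Subgroup.mem_zpowers t⟩
  have hbijc : ∀ c : G ⧸ H, Function.Bijective fun u : (P : Subgroup G) => u • c := fun c => by
    refine (Nat.bijective_iff_injective_and_card _).2 ⟨fun u v h => ?_, by rw [hPp, ← Subgroup.index_eq_card, hH]⟩
    refine (inv_mul_eq_one.1 ?_).symm
    by_contra hne
    set w := v⁻¹ * u with hw
    have hwc : (w : G) • c = c := by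
      show w • c = c
      rw [hw, mul_smul]; exact inv_smul_eq_iff.2 h
    obtain ⟨g, rfl⟩ := QuotientGroup.mk_surjective c
    have hmem : g⁻¹ * (w : G) * g ∈ H := by
      have := (QuotientGroup.eq.1 hwc.symm)
      simpa [mul_assoc] using this
    have ho : orderOf (⟨_, hmem⟩ : H) = p := by
      rw [← Subgroup.orderOf_coe]
      have : orderOf (g⁻¹ * (w : G) * g) = orderOf (w : G) := by
        have := orderOf_injective (MulAut.conj g⁻¹).toMonoidHom (MulAut.conj g⁻¹).injective (w : G)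
        simpa using this
      rw [this, Subgroup.orderOf_coe]
      rcases (Nat.dvd_prime hp).1 ((orderOf_dvd_natCard w).trans (dvd_of_eq hPp)) with h' | h'
      · exact absurd (orderOf_eq_one_iff.1 h') hne
      · exact h'
    exact hpH (ho ▸ orderOf_dvd_natCard _)
  let R : α → G ⧸ H → Prop := fun a c => ∃ g : G, g • b = a ∧ g • ((1 : G) : G ⧸ H) = c
  have hR : ∀ (g : G) a c, R a c → R (g • a) (g • c) := fun g a c ⟨k, h1, h2'⟩ =>
    ⟨g * k, by rw [mul_smul, h1], by rw [mul_smul, h2']⟩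
  have hRinv : ∀ u : (P : Subgroup G), R (u • a₀) c₀ → R (u⁻¹ • a₀) c₀ := fun u hu => by
    have h := hR t _ _ hu
    rw [htc] at h
    have e : t • ((u : G) • a₀) = ((u : G))⁻¹ • a₀ := by
      conv_lhs => rw [← mul_smul, show t * (u : G) = (t * u * t⁻¹) * t by group, mul_smul, hta, hinv _ u.2]
    rwa [show t • (u • a₀) = (u⁻¹ • a₀ : α) from e] at h
  let F : ↥(P : Subgroup G) → Type _ := fun δ => {u : (P : Subgroup G) // R (u • a₀) c₀ ∧ R ((u * δ) • a₀) c₀}
  let K : α → Type _ := fun a => {c : G ⧸ H // R a₀ c ∧ R a c}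
  have hFK : ∀ δ : (P : Subgroup G), Nat.card (F δ) = Nat.card (K (δ • a₀)) := by
    intro δ
    refine Nat.card_congr (Equiv.ofBijective (fun u => ⟨u.1⁻¹ • c₀, ?_, ?_⟩) ⟨?_, ?_⟩)
    · have := hR ((u.1⁻¹ : (P : Subgroup G)) : G) _ _ u.2.1
      rwa [show ((u.1⁻¹ : (P : Subgroup G)) : G) • (u.1 • a₀) = a₀ from inv_smul_smul u.1 a₀] at this
    · have := hR ((u.1⁻¹ : (P : Subgroup G)) : G) _ _ u.2.2
      rwa [show ((u.1⁻¹ : (P : Subgroup G)) : G) • ((u.1 * δ) • a₀) = δ • a₀ from by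
        show u.1⁻¹ • ((u.1 * δ) • a₀) = δ • a₀
        rw [← mul_smul, inv_mul_cancel_left]] at this
    · intro u v h
      exact Subtype.ext (inv_injective ((hbijc c₀).1 (congrArg Subtype.val h)))
    · rintro ⟨c, h1, h2'⟩
      obtain ⟨v, hv⟩ := (hbijc c₀).2 c
      have hv' : v • c₀ = c := hv
      refine ⟨⟨v⁻¹, ?_, ?_⟩, Subtype.ext (by simpa using hv')⟩
      · have := hR ((v⁻¹ : (P : Subgroup G)) : G) _ _ h1
        rwa [show ((v⁻¹ : (P : Subgroup G)) : G) • c = c₀ from inv_smul_eq_iff.2 hv'.symm] at this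
      · have := hR ((v⁻¹ : (P : Subgroup G)) : G) _ _ h2'
        rwa [show ((v⁻¹ : (P : Subgroup G)) : G) • c = c₀ from inv_smul_eq_iff.2 hv'.symm,
          show ((v⁻¹ : (P : Subgroup G)) : G) • (δ • a₀) = (v⁻¹ * δ) • a₀ from (mul_smul v⁻¹ δ a₀).symm] at this
  have hconst : ∀ δ ε : (P : Subgroup G), δ ≠ 1 → ε ≠ 1 → Nat.card (F δ) = Nat.card (F ε) := by
    intro δ ε hδ hε
    obtain ⟨g, hg0, hg1⟩ := is_two_pretransitive_iff.1 h2
      (show a₀ ≠ δ • a₀ from fun e => hδ (hPfree δ a₀ e.symm)) (show a₀ ≠ ε • a₀ from fun e => hε (hPfree ε a₀ e.symm))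
    rw [hFK, hFK]
    refine Nat.card_congr ((MulAction.toPerm g).subtypeEquiv fun c => ?_)
    show R a₀ c ∧ R _ c ↔ R a₀ (g • c) ∧ R _ (g • c)
    constructor
    · rintro ⟨h1, h2'⟩
      exact ⟨hg0 ▸ hR g _ _ h1, hg1 ▸ hR g _ _ h2'⟩
    · rintro ⟨h1, h2'⟩
      have e0 : g⁻¹ • a₀ = a₀ := inv_smul_eq_iff.2 hg0.symm
      have e1 : g⁻¹ • (ε • a₀) = δ • a₀ := inv_smul_eq_iff.2 hg1.symm
      exact ⟨by simpa [e0] using hR g⁻¹ _ _ h1, by simpa [e1] using hR g⁻¹ _ _ h2'⟩
  have hsq : ∀ u w : (P : Subgroup G), u * u = w * w → u = w := by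
    intro u w h
    have h1 : (u * w⁻¹) ^ 2 = 1 := by
      rw [pow_two, show u * w⁻¹ * (u * w⁻¹) = u * u * (w⁻¹ * w⁻¹) by
        rw [mul_assoc, ← mul_assoc w⁻¹, hcomm w⁻¹ u]; group, h]
      group
    have h3 := orderOf_dvd_of_pow_eq_one h1
    rcases (Nat.dvd_prime hp).1 ((orderOf_dvd_natCard (u * w⁻¹)).trans (dvd_of_eq hPp)) with h' | h'
    · exact mul_inv_eq_one.1 (orderOf_eq_one_iff.1 h')
    · rw [h'] at h3; exact absurd ((Nat.prime_dvd_prime_iff_eq hp Nat.prime_two).1 h3) hodd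
  have hparity : ∀ w : (P : Subgroup G), w ≠ 1 →
      (R (w • a₀) c₀ ↔ Odd (Nat.card (F (w * w)⁻¹))) := by
    intro w hw
    set δ := (w * w)⁻¹ with hδ
    have hwδ : (w * δ)⁻¹ = w := by rw [hδ, mul_inv_rev, inv_inv, mul_inv_cancel_right]
    have hmap : ∀ u : (P : Subgroup G), R (u • a₀) c₀ ∧ R ((u * δ) • a₀) c₀ →
        R ((u * δ)⁻¹ • a₀) c₀ ∧ R (((u * δ)⁻¹ * δ) • a₀) c₀ := fun u ⟨h1, h2'⟩ =>
      ⟨hRinv _ h2', by rw [mul_inv_rev, hcomm δ⁻¹, inv_mul_cancel_right]; exact hRinv _ h1⟩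
    let σ : Function.End (F δ) := fun u : F δ => (⟨(u.1 * δ)⁻¹, hmap u.1 u.2⟩ : F δ)
    haveI : Fintype (F δ) := Fintype.ofFinite _
    have hmod := Equiv.Perm.card_fixedPoints_modEq (f := σ) (p := 2) (n := 1) (by
      rw [pow_one, pow_two]
      funext u
      refine Subtype.ext ?_
      show ((u.1 * δ)⁻¹ * δ)⁻¹ = u.1
      rw [mul_inv_rev u.1, hcomm δ⁻¹, inv_mul_cancel_right, inv_inv])
    have hfx : ∀ u : F δ, u ∈ Function.fixedPoints σ → u.1 = w := by
      intro u hu
      have h' : (u.1 * δ)⁻¹ = u.1 := congrArg Subtype.val hu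
      refine hsq _ _ ?_
      have h'' : u.1 * δ = u.1⁻¹ := inv_eq_iff_eq_inv.1 h'
      have h3 : δ⁻¹ = u.1 * u.1 := by
        exact (congrArg (·⁻¹) (eq_inv_mul_of_mul_eq h'')).trans (by rw [mul_inv_rev, inv_inv])
      rw [← h3]
      exact (congrArg (·⁻¹) hδ).trans (inv_inv _)
    rw [← Nat.card_eq_fintype_card, ← Nat.card_eq_fintype_card] at hmod
    rw [Nat.odd_iff, hmod]
    constructor
    · intro hwR
      have hwF : R (w • a₀) c₀ ∧ R ((w * δ) • a₀) c₀ := ⟨hwR, by
        have := hRinv w hwR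
        rwa [show w * δ = w⁻¹ by rw [hδ, mul_inv_rev, mul_inv_cancel_left]]⟩
      have h1 : Nat.card (Function.fixedPoints σ) = 1 := Nat.card_eq_one_iff_unique.2
        ⟨⟨fun u v => Subtype.ext (Subtype.ext ((hfx _ u.2).trans (hfx _ v.2).symm))⟩,
          ⟨⟨⟨w, hwF⟩, Subtype.ext hwδ⟩⟩⟩
      rw [h1]
    · intro h1
      by_contra hwR
      haveI : IsEmpty (Function.fixedPoints σ) := ⟨fun u => hwR (hfx _ u.2 ▸ u.1.2.1)⟩
      rw [Nat.card_of_isEmpty] at h1
      exact absurd h1 (by norm_num)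
  have hsame : ∀ w w' : (P : Subgroup G), w ≠ 1 → w' ≠ 1 → R (w • a₀) c₀ → R (w' • a₀) c₀ := by
    intro w w' hw hw' h
    have hne : ∀ w : (P : Subgroup G), w ≠ 1 → (w * w)⁻¹ ≠ 1 := fun w hw h =>
      hw (hsq w 1 (by rw [inv_eq_one.1 h, mul_one]))
    rw [hparity w' hw', ← hconst _ _ (hne w hw) (hne w' hw'), ← hparity w hw]
    exact h
  -- translate into a fixed point of H
  obtain ⟨g₁, hg₁⟩ := exists_smul_eq G ((1 : G) : G ⧸ H) c₀
  have hH1 : ∀ h ∈ H, h • ((1 : G) : G ⧸ H) = ((1 : G) : G ⧸ H) := fun h hh => by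
    show ((h * 1 : G) : G ⧸ H) = _
    rw [mul_one, QuotientGroup.eq, mul_one]; exact inv_mem hh
  have hrel : ∀ a, R a c₀ ↔ ∃ h ∈ H, g₁ • h • b = a := by
    intro a
    constructor
    · rintro ⟨g, h1, h2'⟩
      refine ⟨g₁⁻¹ * g, ?_, by rw [← mul_smul, mul_inv_cancel_left, h1]⟩
      have h3 : (g₁⁻¹ * g) • ((1 : G) : G ⧸ H) = ((1 : G) : G ⧸ H) := by rw [mul_smul, h2', inv_smul_eq_iff, hg₁]
      have h4 : ((g₁⁻¹ * g * 1 : G) : G ⧸ H) = ((1 : G) : G ⧸ H) := h3
      rw [mul_one, QuotientGroup.eq, mul_one] at h4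
      exact inv_mem_iff.1 h4
    · rintro ⟨h, hh, rfl⟩
      exact ⟨g₁ * h, mul_smul _ _ _, by rw [mul_smul, hH1 h hh, hg₁]⟩
  have hinvar : ∀ a, R a c₀ → ∀ h ∈ H, R ((g₁ * h * g₁⁻¹) • a) c₀ := fun a ha h hh => by
    have := hR (g₁ * h * g₁⁻¹) _ _ ha
    have e : (g₁ * h * g₁⁻¹) • c₀ = c₀ := by
      rw [mul_smul, inv_smul_eq_iff.2 hg₁.symm, mul_smul, hH1 h hh, hg₁]
    rwa [e] at this
  by_cases hex : ∃ w : (P : Subgroup G), w ≠ 1 ∧ R (w • a₀) c₀
  · obtain ⟨w, hw, hwR⟩ := hex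
    by_cases h0 : R a₀ c₀
    · -- H would be transitive
      exfalso
      have hall : ∀ a, R a c₀ := fun a => by
        obtain ⟨u, rfl⟩ := (hbij a₀).2 a
        rcases eq_or_ne u 1 with rfl | hu
        · simpa using h0
        · exact hsame w u hw hu hwR
      have hb : ∀ a, ∃ h : H, h • b = a := fun a => by
        obtain ⟨h, hh, he⟩ := (hrel _).1 (hall (g₁ • a))
        exact ⟨⟨h, hh⟩, smul_left_cancel g₁ he⟩
      haveI : IsPretransitive H α := ⟨fun x y => by
        obtain ⟨h1, rfl⟩ := hb x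
        obtain ⟨h2, rfl⟩ := hb y
        exact ⟨h2 * h1⁻¹, by rw [mul_smul, inv_smul_smul]⟩⟩
      refine hpH ?_
      rw [← hαc, ← index_stabilizer_of_transitive H b]
      exact Subgroup.index_dvd_card _
    · refine ⟨g₁⁻¹ • a₀, fun h hh => ?_⟩
      have hnot : ∀ a, a ≠ a₀ → R a c₀ := fun a ha => by
        obtain ⟨u, rfl⟩ := (hbij a₀).2 a
        exact hsame w u hw (fun e => ha (by simp [e])) hwR
      have h1 : (g₁ * h * g₁⁻¹) • a₀ = a₀ := by
        by_contra hne
        have h2' := hinvar _ (hnot _ hne) h⁻¹ (inv_mem hh)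
        rw [← mul_smul, show g₁ * h⁻¹ * g₁⁻¹ * (g₁ * h * g₁⁻¹) = 1 by group, one_smul] at h2'
        exact h0 h2'
      rw [mem_stabilizer_iff, eq_inv_smul_iff, ← mul_smul, ← mul_smul]
      exact h1
  · push Not at hex
    refine ⟨b, fun h hh => ?_⟩
    have honly : ∀ a, R a c₀ → a = a₀ := fun a ha => by
      obtain ⟨u, rfl⟩ := (hbij a₀).2 a
      by_contra hu
      exact hex u (fun e => hu (by simp [e])) ha
    have e1 := honly _ ((hrel _).2 ⟨h, hh, rfl⟩)
    have e2 := honly _ ((hrel _).2 ⟨1, one_mem H, rfl⟩)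
    rw [one_smul] at e2
    exact smul_left_cancel g₁ (e1.trans e2.symm)

end Cfsg.Agent.S0677
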