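import Cfsg.Statements.S0679
import Cfsg.Agent.Lib.Lead.DegreeEleven.Outcome

set_option autoImplicit false
open Cfsg

namespace Cfsg.Agent.S0679

/-- A non-solvable transitive permutation group on 11 points that does not contain the alternating group is either sharply 4-transitive (of order 7920) or isomorphic to the projective special linear group of degree 2 over the field with 11 elements. -/
theorem result {α : Type*} [Fintype α] [DecidableEq α] (hα : Fintype.card α = 11) (G : Subgroup (Equiv.Perm α)) [MulAction.IsPretransitive G α] (hG : ¬ Group.IsSolvable G) (hA : ¬ alternatingGroup α ≤ G) : (MulAction.IsMultiplyPretransitive G α 4 ∧ ∀ x : Fin 4 ↪ α, MulAction.stabilizer G x = ⊥) ∨ Nonempty (G ≃* Matrix.ProjectiveSpecialLinearGroup (Fin 2) (ZMod 11)) := by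
  classical
  haveI : Fact (Nat.Prime 11) := ⟨by norm_num⟩
  haveI : MulAction.IsPreprimitive G α :=
    MulAction.IsPreprimitive.of_prime_card (by rw [Nat.card_eq_fintype_card, hα]; norm_num)
  have h3α : ∀ t ∈ G, ¬ t.IsThreeCycle := fun t ht h =>
    hA (Equiv.Perm.alternatingGroup_le_of_isPreprimitive_of_isThreeCycle_mem inferInstance h ht)
  obtain ⟨σ, hσG, hσ, htr, -⟩ := Cfsg.Agent.Perm.exists_cycle_prime_degree (p := 11) hα G
  obtain ⟨a₀⟩ : Nonempty α := Fintype.card_pos_iff.1 (by omega)
  have hbij : Function.Bijective fun i : Fin 11 => (σ ^ (i : ℕ)) a₀ := by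
    rw [Fintype.bijective_iff_surjective_and_card]
    refine ⟨fun b => ?_, by rw [Fintype.card_fin, hα]⟩
    obtain ⟨i, hi⟩ := htr a₀ b
    refine ⟨⟨i % 11, Nat.mod_lt _ (by norm_num)⟩, ?_⟩
    have h11 := pow_mod_orderOf σ i
    rw [hσ] at h11
    show (σ ^ (i % 11)) a₀ = b
    rw [h11, hi]
  let e : Fin 11 ≃ α := Equiv.ofBijective _ hbij
  let φ : Equiv.Perm (Fin 11) ≃* Equiv.Perm α := e.permCongrHom
  have happ : ∀ (π : Equiv.Perm (Fin 11)) (i : Fin 11), φ π (e i) = e (π i) := fun π i => by
    show e (π (e.symm (e i))) = e (π i)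
    rw [Equiv.symm_apply_apply]
  have hφs : φ DegEleven.s = σ := by
    refine Equiv.ext fun x => ?_
    obtain ⟨i, rfl⟩ := e.surjective x
    rw [happ]
    show (σ ^ ((i + 1 : Fin 11) : ℕ)) a₀ = σ ((σ ^ (i : ℕ)) a₀)
    rw [← Equiv.Perm.mul_apply, ← pow_succ']
    have h11 := pow_mod_orderOf σ ((i : ℕ) + 1)
    rw [hσ] at h11
    rw [← h11, Fin.val_add]
    rfl
  set G' : Subgroup (Equiv.Perm (Fin 11)) := G.comap φ.toMonoidHom with hG'
  have hmap : G'.map φ.toMonoidHom = G := Subgroup.map_comap_eq_self_of_surjective φ.surjective G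
  let ψ : G' ≃* G := (φ.subgroupMap G').trans (MulEquiv.subgroupCongr hmap)
  have hψ : ∀ x : G', (ψ x : Equiv.Perm α) = φ x := fun x => rfl
  have hns : ¬ Group.IsSolvable G' := fun h => hG (by
    haveI := h
    exact Group.isSolvable_of_surjective (f := ψ.toMonoidHom) ψ.surjective)
  have h3 : ∀ t ∈ G', ¬ t.IsThreeCycle := fun t ht h => h3α (φ t) ht (card_support_eq_three_iff.1 (by
    have hs : (φ t).support = t.support.map e.toEmbedding := by
      ext x
      obtain ⟨i, rfl⟩ := e.surjective x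
      simp [Equiv.Perm.mem_support, happ]
    rw [hs, Finset.card_map, h.card_support]))
  obtain ⟨b, i, hbi⟩ := DegEleven.classification G' (show φ DegEleven.s ∈ G from hφs ▸ hσG) hns h3
  cases b
  · refine Or.inr ?_
    obtain ⟨f⟩ := DegEleven.small_psl i
    exact ⟨(ψ.symm.trans (MulEquiv.subgroupCongr hbi)).trans f⟩
  · refine Or.inl ?_
    obtain ⟨-, h4, hsharp⟩ := DegEleven.big_spec i
    rw [← hbi] at h4 hsharp
    haveI := h4
    refine ⟨⟨fun x y => ?_⟩, fun x => ?_⟩
    · obtain ⟨γ, hγ⟩ := MulAction.exists_smul_eq G' (x.trans e.symm.toEmbedding) (y.trans e.symm.toEmbedding)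
      refine ⟨ψ γ, Function.Embedding.ext fun j => ?_⟩
      have h := congrArg (fun f : Fin 4 ↪ Fin 11 => f j) hγ
      change (γ : Equiv.Perm (Fin 11)) (e.symm (x j)) = e.symm (y j) at h
      show (ψ γ : Equiv.Perm α) (x j) = y j
      rw [hψ, ← e.apply_symm_apply (x j), happ, h, e.apply_symm_apply]
    · rw [Subgroup.eq_bot_iff_forall]
      intro γ hγ
      have hfix : ψ.symm γ ∈ MulAction.stabilizer G' (x.trans e.symm.toEmbedding) := by
        refine Function.Embedding.ext fun j => ?_
        show ((ψ.symm γ : G') : Equiv.Perm (Fin 11)) (e.symm (x j)) = e.symm (x j)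
        refine e.injective ?_
        rw [← happ, ← hψ, ψ.apply_symm_apply, e.apply_symm_apply]
        exact congrArg (fun f : Fin 4 ↪ α => f j) hγ
      rw [hsharp, Subgroup.mem_bot] at hfix
      rw [← ψ.apply_symm_apply γ, hfix, map_one]

end Cfsg.Agent.S0679
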