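import Cfsg.Statements.S0680
import Cfsg.Agent.Lib.Perm.Sharp2

set_option autoImplicit false
open Cfsg

namespace Cfsg.Agent.S0680

open scoped Pointwise

/-- A finite sharply doubly transitive permutation group has degree a prime power `p ^ j`; a Sylow `p`-subgroup is normal, elementary abelian and regular, and consists of the identity together with the elements without fixed points. (Frobenius' Theorem is not needed.) -/
theorem result {α : Type*} [Fintype α] [DecidableEq α] (G : Subgroup (Equiv.Perm α)) [MulAction.IsMultiplyPretransitive G α 2] (hsharp : ∀ x : Fin 2 ↪ α, MulAction.stabilizer G x = ⊥) (h2 : 2 ≤ Fintype.card α) : ∃ p j : ℕ, p.Prime ∧ 1 ≤ j ∧ Fintype.card α = p ^ j ∧ ∀ (hp : Fact p.Prime) (P : Sylow p G), (P : Subgroup G).Normal ∧ IsMulCommutative (P : Subgroup G) ∧ (∀ x ∈ (P : Subgroup G), x ^ p = 1) ∧ MulAction.IsPretransitive (P : Subgroup G) α ∧ (∀ a : α, MulAction.stabilizer (P : Subgroup G) a = ⊥) ∧ ∀ g : G, g ∈ (P : Subgroup G) ↔ g = 1 ∨ ∀ a : α, g • a ≠ a := by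
  classical
  have htwo : ∀ a b c d : α, a ≠ b → c ≠ d → ∃ g : G, g • a = c ∧ g • b = d := fun a b c d =>
    (MulAction.is_two_pretransitive_iff.1 inferInstance)
  have hs : ∀ a b : α, a ≠ b → ∀ g : G, g • a = a → g • b = b → g = 1 := by
    intro a b hab g ha hb
    have h : g ∈ MulAction.stabilizer G (Function.Embedding.embFinTwo hab) := by
      refine MulAction.mem_stabilizer_iff.2 (Function.Embedding.ext fun i => ?_)
      fin_cases i
      · show g • Function.Embedding.embFinTwo hab 0 = Function.Embedding.embFinTwo hab 0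
        rw [Function.Embedding.embFinTwo_apply_zero]
        exact ha
      · show g • Function.Embedding.embFinTwo hab 1 = Function.Embedding.embFinTwo hab 1
        rw [Function.Embedding.embFinTwo_apply_one]
        exact hb
    rwa [hsharp, Subgroup.mem_bot] at h
  obtain ⟨K, hKn, hKmem, htr, hcomm, p, j, hp, hj, hcard, hKcard, hGcard, hexp⟩ :=
    Perm.sharp2_kernel (G := G) (Ω := α) (by rwa [Nat.card_eq_fintype_card]) htwo hs
  refine ⟨p, j, hp, hj, by rw [← Nat.card_eq_fintype_card, hcard], fun hp' P => ?_⟩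
  haveI := hKn
  have hP : (P : Subgroup G) = K := by
    obtain ⟨Q, hQ⟩ := (IsPGroup.of_card hKcard).exists_le_sylow (G := G)
    have hQK : (Q : Subgroup G) = K := by
      refine (Subgroup.eq_of_le_of_card_ge hQ ?_).symm
      rw [Q.card_eq_multiplicity, hKcard, hGcard]
      have h1 : 1 < p ^ j := Nat.one_lt_pow (by omega) hp.one_lt
      rw [Nat.factorization_mul (by omega) (by omega), Finsupp.add_apply, hp.factorization_pow,
        Finsupp.single_eq_same, Nat.factorization_eq_zero_of_not_dvd, add_zero]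
      intro h
      have h2 : p ∣ p ^ j := dvd_pow_self p (by omega)
      have h3 := Nat.dvd_sub h2 h
      rw [show p ^ j - (p ^ j - 1) = 1 by omega] at h3
      exact hp.ne_one (Nat.dvd_one.1 h3)
    obtain ⟨g, rfl⟩ := MulAction.exists_smul_eq G Q P
    rw [Sylow.coe_subgroup_smul, hQK]
    exact Subgroup.Normal.conj_smul_eq_self g K
  rw [hP]
  refine ⟨hKn, ⟨⟨fun x y => Subtype.ext (hcomm x x.2 y y.2)⟩⟩, hexp, ⟨fun a b => ?_⟩, fun a => ?_, ?_⟩
  · obtain ⟨g, hg, hga⟩ := htr a b
    exact ⟨⟨g, hg⟩, hga⟩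
  · rw [Subgroup.eq_bot_iff_forall]
    intro g hg
    exact Subtype.ext (((hKmem g).1 g.2).resolve_right fun h => h a hg)
  · exact hKmem

end Cfsg.Agent.S0680
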