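import Cfsg.Statements.S0681
import Mathlib.GroupTheory.GroupAction.MultipleTransitivity

set_option autoImplicit false
open Cfsg

namespace Cfsg.Agent.S0681

/-- The affine maps `x ↦ x * a + b`, `a ≠ 0`, of a near-field form a sharply doubly transitive permutation group. -/
theorem result {F : Type*} [Cfsg.NearField F] : ∃ H : Subgroup (Equiv.Perm F), (∀ σ : Equiv.Perm F, σ ∈ H ↔ ∃ a b : F, a ≠ 0 ∧ ∀ x : F, σ x = x * a + b) ∧ MulAction.IsMultiplyPretransitive H F 2 ∧ ∀ x : Fin 2 ↪ F, MulAction.stabilizer H x = ⊥ := by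
  classical
  have h0mul : ∀ a : F, 0 * a = 0 := fun a => by
    have h := NearField.right_distrib (0 : F) 0 a
    rw [add_zero] at h
    exact (add_left_cancel (a := (0 : F) * a) (by rw [add_zero]; exact h)).symm
  have hneg : ∀ x a : F, (-x) * a = -(x * a) := fun x a => by
    refine eq_neg_of_add_eq_zero_left ?_
    rw [← NearField.right_distrib, neg_add_cancel, h0mul]
  have hne : ∀ a c : F, a ≠ 0 → c ≠ 0 → a * c ≠ 0 := fun a c ha hc h => by
    obtain ⟨b, -, hb⟩ := NearField.exists_inv a ha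
    apply hc
    calc c = (b * a) * c := by rw [hb, one_mul]
      _ = 0 := by rw [mul_assoc, h, NearField.mul_zero]
  let H : Subgroup (Equiv.Perm F) :=
    { carrier := {σ | ∃ a b : F, a ≠ 0 ∧ ∀ x, σ x = x * a + b}
      one_mem' := ⟨1, 0, NearField.zero_ne_one.symm, fun x => by simp⟩
      mul_mem' := by
        rintro σ τ ⟨a, b, ha, hσ⟩ ⟨c, d, hc, hτ⟩
        refine ⟨c * a, d * a + b, hne c a hc ha, fun x => ?_⟩
        rw [Equiv.Perm.mul_apply, hσ, hτ, NearField.right_distrib, mul_assoc, add_assoc]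
      inv_mem' := by
        rintro σ ⟨a, b, ha, hσ⟩
        obtain ⟨c, hac, hca⟩ := NearField.exists_inv a ha
        refine ⟨c, (-b) * c, fun e => NearField.zero_ne_one
          (by rw [← hac, e, NearField.mul_zero]), fun x => ?_⟩
        apply σ.injective
        rw [Equiv.Perm.inv_def, Equiv.apply_symm_apply, hσ, ← NearField.right_distrib, mul_assoc,
          hca, mul_one, add_assoc, neg_add_cancel, add_zero] }
  have hsolve : ∀ u v x y : F, u ≠ v → x ≠ y → ∃ σ ∈ H, σ u = x ∧ σ v = y := by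
    intro u v x y huv hxy
    have hd : -u + v ≠ 0 := fun h => huv (neg_add_eq_zero.1 h)
    have hd' : v + -u ≠ 0 := fun h => huv (by rw [← sub_eq_add_neg, sub_eq_zero] at h; exact h.symm)
    obtain ⟨c, hc1, hc2⟩ := NearField.exists_inv _ hd'
    have he : y + -x ≠ 0 := fun h => hxy (by rw [← sub_eq_add_neg, sub_eq_zero] at h; exact h.symm)
    set a := c * (y + -x) with haDef
    have hc0 : c ≠ 0 := fun e => NearField.zero_ne_one (by rw [← hc1, e, NearField.mul_zero])
    have ha : a ≠ 0 := hne c _ hc0 he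
    obtain ⟨ai, hai, hia⟩ := NearField.exists_inv a ha
    set b := -(u * a) + x with hbDef
    refine ⟨⟨fun z => z * a + b, fun z => (z + -b) * ai,
      fun z => by simp [add_assoc, mul_assoc, hai],
      fun z => by simp [mul_assoc, hia, add_assoc]⟩, ⟨a, b, ha, fun z => rfl⟩, ?_, ?_⟩
    · show u * a + b = x
      rw [hbDef, ← add_assoc, add_neg_cancel, zero_add]
    · show v * a + b = y
      have h1 : (v + -u) * a = y + -x := by rw [haDef, ← mul_assoc, hc1, one_mul]
      rw [NearField.right_distrib, hneg] at h1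
      rw [hbDef, ← add_assoc, h1, add_assoc, neg_add_cancel, add_zero]
  refine ⟨H, fun σ => Iff.rfl, ?_, ?_⟩
  · rw [MulAction.is_two_pretransitive_iff]
    intro u v x y huv hxy
    obtain ⟨σ, hσ, h1, h2⟩ := hsolve u v x y huv hxy
    exact ⟨⟨σ, hσ⟩, h1, h2⟩
  · intro e
    rw [Subgroup.eq_bot_iff_forall]
    rintro ⟨σ, hmem⟩ hσ
    obtain ⟨a, b, ha, hab⟩ := id hmem
    have h0 : σ (e 0) = e 0 := congrArg (fun f : Fin 2 ↪ F => f 0) (MulAction.mem_stabilizer_iff.1 hσ)
    have h1 : σ (e 1) = e 1 := congrArg (fun f : Fin 2 ↪ F => f 1) (MulAction.mem_stabilizer_iff.1 hσ)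
    rw [hab] at h0 h1
    have hd : e 0 + -e 1 ≠ 0 := fun h => by
      rw [← sub_eq_add_neg, sub_eq_zero] at h
      exact absurd (e.injective h) (by decide)
    have h2 : (e 0 + -e 1) * a = e 0 + -e 1 := by
      rw [NearField.right_distrib, hneg]
      conv_rhs => rw [← h0, ← h1]
      rw [neg_add_rev, add_assoc, add_neg_cancel_left]
    obtain ⟨c, -, hc⟩ := NearField.exists_inv _ hd
    have ha1 : a = 1 := by
      calc a = (c * (e 0 + -e 1)) * a := by rw [hc, one_mul]
        _ = 1 := by rw [mul_assoc, h2, hc]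
    subst ha1
    rw [mul_one] at h0
    have hb : b = 0 := add_left_cancel (a := e 0) (by rw [add_zero]; exact h0)
    exact Subtype.ext (Equiv.ext fun x => by
      show σ x = x
      rw [hab, mul_one, hb, add_zero])

end Cfsg.Agent.S0681
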