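import Cfsg.Statements.S0682
import Mathlib.GroupTheory.Sylow
import Mathlib.GroupTheory.Perm.Cycle.Type

set_option autoImplicit false
open Cfsg

namespace Cfsg.Agent.S0682

/-- A finite near-field has prime-power order; its additive group is commutative of prime exponent. -/
theorem result {F : Type*} [Cfsg.NearField F] [Finite F] : ∃ p j : ℕ, p.Prime ∧ 1 ≤ j ∧ Nat.card F = p ^ j ∧ (∀ x y : F, x + y = y + x) ∧ ∀ x : F, p • x = 0 := by
  classical
  haveI : Fintype F := Fintype.ofFinite F
  have h0mul : ∀ a : F, 0 * a = 0 := fun a => by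
    have h := NearField.right_distrib (0 : F) 0 a
    rw [add_zero] at h
    exact (add_left_cancel (a := (0 : F) * a) (by rw [add_zero]; exact h)).symm
  let R : F → (F →+ F) := fun a => AddMonoidHom.mk' (· * a) fun x y => NearField.right_distrib x y a
  have hR : ∀ x y : F, x ≠ 0 → ∃ a : F, R a x = y := fun x y hx => by
    obtain ⟨c, hc, -⟩ := NearField.exists_inv x hx
    exact ⟨c * y, show x * (c * y) = y by rw [← mul_assoc, hc, one_mul]⟩
  haveI : Nontrivial F := ⟨⟨0, 1, NearField.zero_ne_one⟩⟩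
  obtain ⟨p, hp, hpd⟩ := Nat.exists_prime_and_dvd (Finite.one_lt_card (α := F)).ne'
  haveI := Fact.mk hp
  obtain ⟨x₀, hx₀⟩ := exists_prime_addOrderOf_dvd_card' (G := F) p hpd
  have hx₀0 : x₀ ≠ 0 := fun h => by
    rw [h, addOrderOf_zero] at hx₀
    exact hp.ne_one hx₀.symm
  have hexp : ∀ x : F, p • x = 0 := fun x => by
    obtain ⟨a, rfl⟩ := hR x₀ x hx₀0
    rw [← map_nsmul, ← hx₀, addOrderOf_nsmul_eq_zero, map_zero]
  have hpg : IsPGroup p (Multiplicative F) := fun x => ⟨1, by
    rw [pow_one]; exact hexp x.toAdd⟩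
  obtain ⟨c, hcmem, hc⟩ : ∃ c ∈ Subgroup.center (Multiplicative F), c ≠ 1 := by
    haveI : Nontrivial (Subgroup.center (Multiplicative F)) := hpg.center_nontrivial
    obtain ⟨c, hc⟩ := exists_ne (1 : Subgroup.center (Multiplicative F))
    exact ⟨c, c.2, fun h => hc (Subtype.ext h)⟩
  have hc0 : c.toAdd ≠ 0 := fun h => hc h
  have hcomm : ∀ x y : F, x + y = y + x := fun x y => by
    obtain ⟨a, ha⟩ := hR c.toAdd x hc0
    by_cases ha0 : a = 0
    · have : x = 0 := by
        rw [← ha]
        show c.toAdd * a = 0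
        rw [ha0, NearField.mul_zero]
      simp [this]
    obtain ⟨b, -, hb⟩ := NearField.exists_inv a ha0
    have hy : (y * b) * a = y := by rw [mul_assoc, hb, mul_one]
    have h1 : c.toAdd + y * b = y * b + c.toAdd :=
      (Subgroup.mem_center_iff.1 hcmem (Multiplicative.ofAdd (y * b))).symm
    rw [← ha, ← hy]
    show R a _ + R a _ = R a _ + R a _
    rw [← map_add, ← map_add, h1]
  obtain ⟨j, hj⟩ := hpg.exists_card_eq
  rw [show Nat.card (Multiplicative F) = Nat.card F from Nat.card_congr Multiplicative.toAdd] at hj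
  refine ⟨p, j, hp, Nat.pos_of_ne_zero fun h => ?_, hj, hcomm, hexp⟩
  rw [h, pow_zero] at hj
  exact (Finite.one_lt_card (α := F)).ne' hj

end Cfsg.Agent.S0682
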