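import Cfsg.Statements.S0683
import Cfsg.Agent.Lib.Perm.Sharp2

set_option autoImplicit false
open Cfsg

namespace Cfsg.Agent.S0683

open scoped Pointwise

/-- A finite sharply doubly transitive permutation group is the affine group of a near-field: the permuted set carries a near-field structure for which the group consists exactly of the maps `x ↦ x * a + b` with `a ≠ 0`. -/
theorem result {α : Type*} [Fintype α] [DecidableEq α] (H : Subgroup (Equiv.Perm α)) [MulAction.IsMultiplyPretransitive H α 2] (hsharp : ∀ x : Fin 2 ↪ α, MulAction.stabilizer H x = ⊥) (h2 : 2 ≤ Fintype.card α) : ∃ _ : Cfsg.NearField α, ∀ σ : Equiv.Perm α, σ ∈ H ↔ ∃ a b : α, a ≠ 0 ∧ ∀ x : α, σ x = x * a + b := by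
  classical
  have htwo : ∀ a b c d : α, a ≠ b → c ≠ d → ∃ g : H, g • a = c ∧ g • b = d := fun a b c d =>
    (MulAction.is_two_pretransitive_iff.1 inferInstance)
  have hs : ∀ a b : α, a ≠ b → ∀ g : H, g • a = a → g • b = b → g = 1 := by
    intro a b hab g ha hb
    have h : g ∈ MulAction.stabilizer H (Function.Embedding.embFinTwo hab) := by
      refine MulAction.mem_stabilizer_iff.2 (Function.Embedding.ext fun i => ?_)
      fin_cases i
      · show g • Function.Embedding.embFinTwo hab 0 = Function.Embedding.embFinTwo hab 0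
        rw [Function.Embedding.embFinTwo_apply_zero]
        exact ha
      · show g • Function.Embedding.embFinTwo hab 1 = Function.Embedding.embFinTwo hab 1
        rw [Function.Embedding.embFinTwo_apply_one]
        exact hb
    rwa [hsharp, Subgroup.mem_bot] at h
  obtain ⟨K, hKn, hKmem, htr, hcomm, p, j, hp, hj, hcard, hKcard, hGcard, hexp⟩ :=
    Perm.sharp2_kernel (G := H) (Ω := α) (by rwa [Nat.card_eq_fintype_card]) htwo hs
  obtain ⟨z, o, hzo⟩ := Fintype.one_lt_card_iff.1 (show 1 < Fintype.card α by omega)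
  choose τ hτK hτ using fun x => htr z x
  have hsemi : ∀ g ∈ K, g • z = z → g = 1 := fun g hg h =>
    ((hKmem g).1 hg).resolve_right fun h' => h' z h
  have hτu : ∀ g ∈ K, ∀ x, g • z = x → g = τ x := fun g hg x h =>
    (inv_mul_eq_one.1 (hsemi _ (mul_mem (inv_mem (hτK x)) hg)
      (by rw [mul_smul, h, inv_smul_eq_iff, hτ x]))).symm
  have hmex : ∀ m : α, ∃ g : H, g • z = z ∧ (m ≠ z → g • o = m) := fun m => by
    by_cases hm : m = z
    · exact ⟨1, one_smul _ _, fun h => absurd hm h⟩
    · obtain ⟨g, h1, h2⟩ := htwo z o z m hzo (Ne.symm hm)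
      exact ⟨g, h1, fun _ => h2⟩
  choose μ hμz hμo using hmex
  have hμu : ∀ g : H, g • z = z → ∀ m, g • o = m → g = μ m := fun g hg m h => by
    have hm : m ≠ z := fun e => hzo.symm (smul_left_cancel g (by rw [h, hg, e]))
    exact (inv_mul_eq_one.1 (hs z o hzo _ (by rw [mul_smul, hg, inv_smul_eq_iff, hμz])
      (by rw [mul_smul, h, inv_smul_eq_iff, hμo m hm]))).symm
  have hμne : ∀ m x, x ≠ z → μ m • x ≠ z := fun m x hx e =>
    hx (smul_left_cancel (μ m) (e.trans (hμz m).symm))
  have hτconj : ∀ g : H, g • z = z → ∀ x, g * τ x * g⁻¹ = τ (g • x) := fun g hg x =>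
    hτu _ (hKn.conj_mem _ (hτK x) g) _ (by
      rw [mul_smul, mul_smul, inv_smul_eq_iff.2 hg.symm, hτ])
  let add : α → α → α := fun x y => τ x • y
  have hadd : ∀ x y, τ (add x y) = τ x * τ y := fun x y =>
    (hτu _ (mul_mem (hτK x) (hτK y)) _ (by rw [mul_smul, hτ])).symm
  let mul : α → α → α := fun x m => if m = z then z else μ m • x
  let neg : α → α := fun x => (τ x)⁻¹ • z
  have hτz : τ z = 1 := (hτu 1 (one_mem K) z (one_smul _ _)).symm
  have hmulz : ∀ x, mul x z = z := fun x => if_pos rfl
  have hzmul : ∀ m, mul z m = z := fun m => by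
    simp only [mul]
    split_ifs
    · rfl
    · exact hμz m
  have hmul' : ∀ x m, m ≠ z → mul x m = μ m • x := fun x m hm => if_neg hm
  have hmulne : ∀ x m, x ≠ z → m ≠ z → mul x m ≠ z := fun x m hx hm => by
    rw [hmul' x m hm]; exact hμne m x hx
  have hμμ : ∀ m n, m ≠ z → n ≠ z → μ (mul m n) = μ n * μ m := fun m n hm hn => by
    refine (hμu _ (by rw [mul_smul, hμz, hμz]) _ ?_).symm
    rw [mul_smul, hμo m hm, hmul' m n hn]
  have hμ1 : μ o = 1 := (hμu 1 (one_smul _ _) o (one_smul _ _)).symm
  letI : Add α := ⟨add⟩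
  letI : Zero α := ⟨z⟩
  letI : Neg α := ⟨neg⟩
  letI iAG : AddGroup α :=
    { add := add
      zero := z
      neg := neg
      nsmul := nsmulRec
      zsmul := zsmulRec
      add_assoc := fun x y w => by
        show τ (add x y) • w = τ x • τ y • w
        rw [hadd, mul_smul]
      zero_add := fun x => by
        show τ z • x = x
        rw [hτz, one_smul]
      add_zero := fun x => hτ x
      neg_add_cancel := fun x => by
        show τ ((τ x)⁻¹ • z) • x = z
        rw [← hτu _ (inv_mem (hτK x)) _ rfl]
        conv_lhs => arg 2; rw [← hτ x]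
        rw [inv_smul_smul] }
  letI : Mul α := ⟨mul⟩
  letI : One α := ⟨o⟩
  letI iM : Monoid α :=
    { mul := mul
      one := o
      npow := npowRec
      one_mul := fun m => by
        show mul o m = m
        by_cases hm : m = z
        · rw [hm, hmulz]
        · rw [hmul' o m hm, hμo m hm]
      mul_one := fun x => by
        show mul x o = x
        rw [hmul' x o hzo.symm, hμ1, one_smul]
      mul_assoc := fun x m n => by
        show mul (mul x m) n = mul x (mul m n)
        by_cases hn : n = z
        · rw [hn, hmulz, hmulz, hmulz]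
        by_cases hm : m = z
        · rw [hm, hmulz, hzmul, hmulz]
        rw [hmul' _ n hn, hmul' x m hm, hmul' x (mul m n) (hmulne m n hm hn), hμμ m n hm hn,
          mul_smul] }
  letI iNF : Cfsg.NearField α :=
    { toAddGroup := iAG
      toMonoid := iM
      right_distrib := fun x y m => by
        show mul (τ x • y) m = τ (mul x m) • mul y m
        by_cases hm : m = z
        · rw [hm, hmulz, hmulz, hmulz, hτz, one_smul]
        rw [hmul' _ m hm, hmul' x m hm, hmul' y m hm, ← hτconj (μ m) (hμz m) x, mul_smul, mul_smul,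
          inv_smul_smul]
      mul_zero := hmulz
      zero_ne_one := hzo
      exists_inv := fun m hm => by
        change m ≠ z at hm
        have hcz : (μ m)⁻¹ • o ≠ z := fun e => hzo.symm (by
          rw [inv_smul_eq_iff, hμz] at e; exact e)
        refine ⟨(μ m)⁻¹ • o, ?_, ?_⟩
        · show mul m _ = o
          rw [hmul' m _ hcz, ← hμu (μ m)⁻¹ (inv_smul_eq_iff.2 (hμz m).symm) _ rfl, inv_smul_eq_iff,
            hμo m hm]
        · show mul _ m = o
          rw [hmul' _ m hm, smul_inv_smul] }
  refine ⟨iNF, fun σ => ⟨fun hσ => ?_, ?_⟩⟩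
  · set g : H := ⟨σ, hσ⟩
    set c := g • z
    set u := (τ c)⁻¹ * g
    have hu : u • z = z := by rw [mul_smul, inv_smul_eq_iff, hτ]
    refine ⟨u • o, c, fun e => hzo.symm (smul_left_cancel u (e.trans hu.symm)), fun x => ?_⟩
    show g • x = τ (mul x (u • o)) • c
    rw [hmul' _ _ (fun e => hzo.symm (smul_left_cancel u (e.trans hu.symm))), ← hμu u hu _ rfl]
    conv_rhs => arg 2; rw [← hτ c]
    rw [← mul_smul, hcomm _ (hτK _) _ (hτK _), mul_smul, hτ, mul_smul, smul_inv_smul]
  · rintro ⟨m, c, hm, h⟩
    have he : σ = ((τ c * μ m : H) : Equiv.Perm α) := Equiv.ext fun x => by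
      rw [h x]
      show τ (mul x m) • c = (τ c * μ m) • x
      rw [hmul' x m hm]
      conv_lhs => arg 2; rw [← hτ c]
      rw [← mul_smul, hcomm _ (hτK _) _ (hτK _), mul_smul, hτ, mul_smul]
    rw [he]
    exact SetLike.coe_mem _

end Cfsg.Agent.S0683
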