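import Cfsg.Statements.S0687
import Cfsg.Agent.Lib.Perm.Fpf.Semilinear

set_option autoImplicit false
set_option linter.style.haveILetI false
open Cfsg

namespace Cfsg.Agent.S0687

open Cfsg.Agent.Perm.Fpf

/-- In a linear group over the prime field that is regular on non-zero vectors and has no irreducible cyclic normal subgroup, a normal subgroup `N` minimal among the non-abelian normal subgroups centralising a maximal normal abelian subgroup `A` is irreducible on `V`, and its centraliser is `A`. -/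
theorem result {p : ℕ} [Fact p.Prime] {V : Type*} [AddCommGroup V] [Module (ZMod p) V] [Finite V] (H : Subgroup (V ≃ₗ[ZMod p] V)) (hreg : ∀ v w : V, v ≠ 0 → w ≠ 0 → ∃! h : H, (h : V ≃ₗ[ZMod p] V) v = w) (hI : ∀ A : Subgroup H, A.Normal → IsCyclic A → ∃ W : Submodule (ZMod p) V, W ≠ ⊥ ∧ W ≠ ⊤ ∧ ∀ a ∈ A, ∀ v ∈ W, ((a : H) : V ≃ₗ[ZMod p] V) v ∈ W) (A : Subgroup H) (hAn : A.Normal) (hAc : IsMulCommutative A) (hAmax : ∀ B : Subgroup H, B.Normal → IsMulCommutative B → A ≤ B → B = A) (N : Subgroup H) (hNn : N.Normal) (hNle : N ≤ Subgroup.centralizer (A : Set H)) (hNna : ¬ IsMulCommutative N) (hNmin : ∀ M : Subgroup H, M.Normal → M ≤ N → ¬ IsMulCommutative M → M = N) : (∀ W : Submodule (ZMod p) V, (∀ n ∈ N, ∀ v ∈ W, ((n : H) : V ≃ₗ[ZMod p] V) v ∈ W) → W = ⊥ ∨ W = ⊤) ∧ Subgroup.centralizer (N : Set H) = A := by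
  classical
  haveI := Semilinear.exists_proper hI
  haveI := hAn
  haveI := hNn
  haveI := Semilinear.finite_H H
  have hN : Semilinear.MinNon A N := ⟨hNn, hNle, hNna, hNmin⟩
  obtain ⟨W, hW, hWt⟩ := Semilinear.exists_W hreg hI A hAn hAc
  obtain ⟨k, m, i, hk, hm, hik, hi, -, hn, hQ, hS⟩ := Semilinear.count hreg hAc hAmax hN hW hWt
  have hi0 : i ≠ 0 := hi ▸ Subgroup.index_ne_zero_of_finite
  have hkm : k = 1 ∧ m = 2 := by
    rcases Semilinear.minNon_iso hreg hAc hAmax hN with h | h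
    · obtain ⟨h1, h2⟩ := hQ h
      obtain ⟨r1, r2, -⟩ := Semilinear.numbers_quat Fact.out h2 hk hm hi0 hik h1
      exact ⟨r1, r2⟩
    · obtain ⟨h1, h2, h3, h5⟩ := hS h
      exact Semilinear.numbers_sl Fact.out h2 h3 h5 hk hm hi0 hik h1
  refine ⟨fun W0 hinv => ?_, ?_⟩
  · by_contra hne
    push Not at hne
    rw [hkm.1, hkm.2] at hn
    have h1 : Module.finrank (ZMod p) W0 = 1 := by
      have h2 := Submodule.finrank_lt hne.2
      have h3 : Module.finrank (ZMod p) W0 ≠ 0 := fun e => hne.1 (Submodule.finrank_eq_zero.1 e)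
      omega
    obtain ⟨v, hv0, hv⟩ := (finrank_eq_one_iff').1 h1
    refine hNna ⟨⟨fun x y => ?_⟩⟩
    have hv0V : (v : V) ≠ 0 := fun e => hv0 (Subtype.ext e)
    have hsc : ∀ x ∈ N, ∃ c : ZMod p, Semilinear.rho H x (v : V) = c • (v : V) := fun x hx => by
      obtain ⟨c, hc⟩ := hv ⟨_, hinv x hx v v.2⟩
      exact ⟨c, (congrArg Subtype.val hc).symm⟩
    obtain ⟨c, hc⟩ := hsc x x.2
    obtain ⟨d, hd⟩ := hsc y y.2
    have e : Semilinear.rho H ((x : H) * y) (v : V) = Semilinear.rho H ((y : H) * x) (v : V) := by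
      rw [Semilinear.rho_mul_apply, Semilinear.rho_mul_apply, hc, hd, map_smul, map_smul, hc, hd, smul_comm]
    refine Subtype.ext ((inv_mul_eq_one.1 ?_).symm)
    by_contra hne1
    refine hv0V (Semilinear.fpf hreg _ hne1 (v : V) ?_)
    show Semilinear.rho H (((y : H) * x)⁻¹ * ((x : H) * y)) (v : V) = v
    rw [Semilinear.rho_mul_apply, e, Semilinear.rho_inv_apply]
  · have hC : Subgroup.centralizer (A : Set H) = ⊤ := Subgroup.index_eq_one.1 (by omega)
    have := Semilinear.inf_centralizer hreg hAc hAmax hN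
    rwa [hC, top_inf_eq] at this

end Cfsg.Agent.S0687
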