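import Cfsg.Statements.S0691
import Cfsg.Agent.Lib.Perm.LinearReg

set_option autoImplicit false
open Cfsg

namespace Cfsg.Agent.S0691

set_option maxHeartbeats 2000000
set_option maxRecDepth 100000

open Cfsg.Agent.Perm.LinearReg

/-- The generators. -/
def gens : Fin 3 → Quad 5 := ![(2, 0, 0, 3), (0, 4, 1, 0), (1, 2, 1, 3)]

/-- A word for every element. -/
def words : List (List (Fin 3)) := [
  [],
  [0],
  [1],
  [2],
  [0, 0],
  [0, 1],
  [0, 2],
  [1, 0],
  [1, 2],
  [2, 0],
  [2, 2],
  [0, 0, 0],
  [0, 0, 1],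
  [0, 0, 2],
  [0, 1, 2],
  [0, 2, 2],
  [1, 2, 0],
  [1, 2, 2],
  [2, 0, 1],
  [2, 0, 2],
  [0, 0, 2, 2],
  [0, 1, 2, 2],
  [1, 2, 0, 2],
  [2, 0, 1, 2]]

/-- The codes of the elements. -/
def codes : List ℕ := [126, 253, 105, 183, 504, 90, 369, 60, 557, 289, 471, 377, 45, 597, 491, 163, 411, 243, 223, 431, 309, 349, 617, 537]

theorem check_len : codes.length = 24 := by decide +kernel

theorem check_codes : (words.map (value gens)).map enc = codes := by decide +kernel

theorem check_nodup : codes.Nodup := by decide +kernel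

theorem check_one : enc (one 5) ∈ codes := by decide +kernel

theorem check_mul0 : (((words.map (value gens)).map fun x => enc (times x (gens 0))).all
    fun m => codes.contains m) = true := by decide +kernel

theorem check_mul1 : (((words.map (value gens)).map fun x => enc (times x (gens 1))).all
    fun m => codes.contains m) = true := by decide +kernel

theorem check_mul2 : (((words.map (value gens)).map fun x => enc (times x (gens 2))).all
    fun m => codes.contains m) = true := by decide +kernel

theorem check_fix : ((words.map (value gens)).all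
    fun x => enc x == enc (one 5) || !(fixDet x == 0)) = true := by decide +kernel


/-- An exceptional sharply doubly transitive group of degree 5^2: the listed matrices generate a subgroup of GL(2,5) of order 24 acting regularly on the non-zero vectors. -/
theorem result (A : Matrix.GeneralLinearGroup (Fin 2) (ZMod 5)) (B : Matrix.GeneralLinearGroup (Fin 2) (ZMod 5)) (C : Matrix.GeneralLinearGroup (Fin 2) (ZMod 5)) (hA : (A : Matrix (Fin 2) (Fin 2) (ZMod 5)) = !![2, 0; 0, -2]) (hB : (B : Matrix (Fin 2) (Fin 2) (ZMod 5)) = !![0, -1; 1, 0]) (hC : (C : Matrix (Fin 2) (Fin 2) (ZMod 5)) = !![1, 2; 1, -2]) : Nat.card (Subgroup.closure ({A, B, C} : Set (Matrix.GeneralLinearGroup (Fin 2) (ZMod 5)))) = 24 ∧ ∀ v w : Fin 2 → ZMod 5, v ≠ 0 → w ≠ 0 → ∃! h : Subgroup.closure ({A, B, C} : Set (Matrix.GeneralLinearGroup (Fin 2) (ZMod 5))), Matrix.mulVec ((h : Matrix.GeneralLinearGroup (Fin 2) (ZMod 5)) : Matrix (Fin 2) (Fin 2) (ZMod 5)) v = w := by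
  haveI : Fact (Nat.Prime 5) := ⟨by norm_num⟩
  have hrange : Set.range ![A, B, C] = ({A, B, C} : Set (GL (Fin 2) (ZMod 5))) := by
    ext x; simp [eq_comm]; tauto
  rw [← hrange]
  exact Cfsg.Agent.Perm.LinearReg.regular_of_checks ![A, B, C] gens (fun i => by
    fin_cases i <;> simp [Cfsg.Agent.Perm.LinearReg.toQuad, gens, hA, hB, hC] <;> decide)
    words codes 24 (by norm_num) check_len check_codes check_nodup check_one (fun i => by
      match i with
      | ⟨0, _⟩ => exact check_mul0
      | ⟨1, _⟩ => exact check_mul1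
      | ⟨2, _⟩ => exact check_mul2
    ) check_fix

end Cfsg.Agent.S0691
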