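import Cfsg.Statements.S0692
import Cfsg.Agent.Lib.Perm.LinearReg

set_option autoImplicit false
open Cfsg

namespace Cfsg.Agent.S0692

set_option maxHeartbeats 2000000
set_option maxRecDepth 100000

open Cfsg.Agent.Perm.LinearReg

/-- The generators. -/
def gens : Fin 2 → Quad 11 := ![(0, 10, 1, 0), (2, 4, 1, 8)]

/-- A word for every element. -/
def words : List (List (Fin 2)) := [
  [],
  [0],
  [1],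
  [0, 0],
  [0, 1],
  [1, 0],
  [1, 1],
  [0, 0, 0],
  [0, 0, 1],
  [0, 1, 0],
  [0, 1, 1],
  [1, 0, 1],
  [1, 1, 0],
  [0, 0, 0, 1],
  [0, 0, 1, 0],
  [0, 0, 1, 1],
  [0, 1, 0, 1],
  [0, 1, 1, 0],
  [1, 0, 1, 0],
  [1, 0, 1, 1],
  [1, 1, 0, 1],
  [0, 0, 0, 1, 0],
  [0, 0, 0, 1, 1],
  [0, 0, 1, 0, 1],
  [0, 0, 1, 1, 0],
  [0, 1, 0, 1, 0],
  [0, 1, 0, 1, 1],
  [0, 1, 1, 0, 1],
  [1, 0, 1, 0, 1],
  [1, 0, 1, 1, 0],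
  [1, 1, 0, 1, 0],
  [1, 1, 0, 1, 1],
  [0, 0, 0, 1, 0, 1],
  [0, 0, 0, 1, 1, 0],
  [0, 0, 1, 0, 1, 0],
  [0, 0, 1, 0, 1, 1],
  [0, 0, 1, 1, 0, 1],
  [0, 1, 0, 1, 0, 1],
  [0, 1, 0, 1, 1, 0],
  [0, 1, 1, 0, 1, 0],
  [0, 1, 1, 0, 1, 1],
  [1, 0, 1, 0, 1, 1],
  [1, 0, 1, 1, 0, 1],
  [1, 1, 0, 1, 0, 1],
  [0, 0, 0, 1, 0, 1, 0],
  [0, 0, 0, 1, 0, 1, 1],
  [0, 0, 0, 1, 1, 0, 1],
  [0, 0, 1, 0, 1, 0, 1],
  [0, 0, 1, 0, 1, 1, 0],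
  [0, 0, 1, 1, 0, 1, 0],
  [0, 0, 1, 1, 0, 1, 1],
  [0, 1, 0, 1, 0, 1, 1],
  [0, 1, 0, 1, 1, 0, 1],
  [0, 1, 1, 0, 1, 0, 1],
  [1, 0, 1, 0, 1, 1, 0],
  [1, 0, 1, 1, 0, 1, 0],
  [1, 0, 1, 1, 0, 1, 1],
  [1, 1, 0, 1, 0, 1, 1],
  [0, 0, 0, 1, 0, 1, 0, 1],
  [0, 0, 0, 1, 0, 1, 1, 0],
  [0, 0, 0, 1, 1, 0, 1, 0],
  [0, 0, 0, 1, 1, 0, 1, 1],
  [0, 0, 1, 0, 1, 0, 1, 1],
  [0, 0, 1, 0, 1, 1, 0, 1],
  [0, 0, 1, 1, 0, 1, 0, 1],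
  [0, 1, 0, 1, 0, 1, 1, 0],
  [0, 1, 0, 1, 1, 0, 1, 0],
  [0, 1, 0, 1, 1, 0, 1, 1],
  [0, 1, 1, 0, 1, 0, 1, 1],
  [1, 0, 1, 0, 1, 1, 0, 1],
  [1, 0, 1, 1, 0, 1, 0, 1],
  [1, 1, 0, 1, 0, 1, 1, 0],
  [0, 0, 0, 1, 0, 1, 0, 1, 1],
  [0, 0, 0, 1, 0, 1, 1, 0, 1],
  [0, 0, 0, 1, 1, 0, 1, 0, 1],
  [0, 0, 1, 0, 1, 0, 1, 1, 0],
  [0, 0, 1, 0, 1, 1, 0, 1, 0],
  [0, 0, 1, 0, 1, 1, 0, 1, 1],
  [0, 0, 1, 1, 0, 1, 0, 1, 1],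
  [0, 1, 0, 1, 0, 1, 1, 0, 1],
  [0, 1, 0, 1, 1, 0, 1, 0, 1],
  [0, 1, 1, 0, 1, 0, 1, 1, 0],
  [1, 0, 1, 0, 1, 1, 0, 1, 0],
  [1, 0, 1, 0, 1, 1, 0, 1, 1],
  [1, 0, 1, 1, 0, 1, 0, 1, 1],
  [1, 1, 0, 1, 0, 1, 1, 0, 1],
  [0, 0, 0, 1, 0, 1, 0, 1, 1, 0],
  [0, 0, 0, 1, 0, 1, 1, 0, 1, 0],
  [0, 0, 0, 1, 0, 1, 1, 0, 1, 1],
  [0, 0, 0, 1, 1, 0, 1, 0, 1, 1],
  [0, 0, 1, 0, 1, 0, 1, 1, 0, 1],
  [0, 0, 1, 0, 1, 1, 0, 1, 0, 1],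
  [0, 0, 1, 1, 0, 1, 0, 1, 1, 0],
  [0, 1, 0, 1, 0, 1, 1, 0, 1, 0],
  [0, 1, 0, 1, 0, 1, 1, 0, 1, 1],
  [0, 1, 0, 1, 1, 0, 1, 0, 1, 1],
  [0, 1, 1, 0, 1, 0, 1, 1, 0, 1],
  [1, 0, 1, 0, 1, 1, 0, 1, 0, 1],
  [1, 0, 1, 1, 0, 1, 0, 1, 1, 0],
  [1, 1, 0, 1, 0, 1, 1, 0, 1, 0],
  [0, 0, 0, 1, 0, 1, 0, 1, 1, 0, 1],
  [0, 0, 0, 1, 0, 1, 1, 0, 1, 0, 1],
  [0, 0, 1, 0, 1, 0, 1, 1, 0, 1, 0],
  [0, 0, 1, 0, 1, 0, 1, 1, 0, 1, 1],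
  [0, 0, 1, 0, 1, 1, 0, 1, 0, 1, 1],
  [0, 0, 1, 1, 0, 1, 0, 1, 1, 0, 1],
  [0, 1, 0, 1, 1, 0, 1, 0, 1, 1, 0],
  [0, 1, 1, 0, 1, 0, 1, 1, 0, 1, 0],
  [1, 0, 1, 0, 1, 1, 0, 1, 0, 1, 1],
  [1, 0, 1, 1, 0, 1, 0, 1, 1, 0, 1],
  [1, 1, 0, 1, 0, 1, 1, 0, 1, 0, 1],
  [0, 0, 0, 1, 0, 1, 0, 1, 1, 0, 1, 0],
  [0, 0, 0, 1, 0, 1, 0, 1, 1, 0, 1, 1],
  [0, 0, 0, 1, 0, 1, 1, 0, 1, 0, 1, 1],
  [0, 0, 1, 1, 0, 1, 0, 1, 1, 0, 1, 0],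
  [0, 1, 0, 1, 1, 0, 1, 0, 1, 1, 0, 1],
  [0, 1, 1, 0, 1, 0, 1, 1, 0, 1, 0, 1],
  [1, 0, 1, 0, 1, 1, 0, 1, 0, 1, 1, 0],
  [1, 0, 1, 1, 0, 1, 0, 1, 1, 0, 1, 0],
  [1, 1, 0, 1, 0, 1, 1, 0, 1, 0, 1, 1]]

/-- The codes of the elements. -/
def codes : List ℕ := [1332, 1221, 3165, 13320, 13699, 6511, 11607, 231, 12939, 4167, 2515, 8032, 9703, 2405, 9593, 4497, 10472, 13269, 634, 1693, 9014, 11937, 13589, 6741, 6401, 12468, 1465, 8786, 7511, 3983, 11314, 12028, 5621, 2835, 829, 14411, 7090, 304, 2573, 8684, 10142, 9301, 4107, 14093, 3515, 14639, 7318, 8472, 12121, 4790, 2745, 3343, 2211, 9191, 13983, 1013, 8135, 5338, 1159, 13531, 7420, 5951, 6803, 10666, 2011, 7859, 10535, 12651, 14322, 4396, 11838, 890, 12761, 13882, 6913, 2121, 450, 7969, 9435, 11168, 3848, 10776, 5046, 12366, 4705, 9497, 8245, 5448, 3453,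 1771, 11708, 4266, 573, 5728, 13170, 3063, 8911, 5207, 7713, 1865, 4936, 12256, 11058, 3738, 11399, 6607, 5145, 9937, 7193, 10245, 8391, 10376, 2934, 13041, 14239, 6255, 10959, 6167, 9849, 5859]

theorem check_len : codes.length = 120 := by decide +kernel

theorem check_codes : (words.map (value gens)).map enc = codes := by decide +kernel

theorem check_nodup : codes.Nodup := by decide +kernel

theorem check_one : enc (one 11) ∈ codes := by decide +kernel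

theorem check_mul0 : (((words.map (value gens)).map fun x => enc (times x (gens 0))).all
    fun m => codes.contains m) = true := by decide +kernel

theorem check_mul1 : (((words.map (value gens)).map fun x => enc (times x (gens 1))).all
    fun m => codes.contains m) = true := by decide +kernel

theorem check_fix : ((words.map (value gens)).all
    fun x => enc x == enc (one 11) || !(fixDet x == 0)) = true := by decide +kernel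


/-- An exceptional sharply doubly transitive group of degree 11^2: the listed matrices generate a subgroup of GL(2,11) of order 120 acting regularly on the non-zero vectors. -/
theorem result (A : Matrix.GeneralLinearGroup (Fin 2) (ZMod 11)) (B : Matrix.GeneralLinearGroup (Fin 2) (ZMod 11)) (hA : (A : Matrix (Fin 2) (Fin 2) (ZMod 11)) = !![0, -1; 1, 0]) (hB : (B : Matrix (Fin 2) (Fin 2) (ZMod 11)) = !![2, 4; 1, -3]) : Nat.card (Subgroup.closure ({A, B} : Set (Matrix.GeneralLinearGroup (Fin 2) (ZMod 11)))) = 120 ∧ ∀ v w : Fin 2 → ZMod 11, v ≠ 0 → w ≠ 0 → ∃! h : Subgroup.closure ({A, B} : Set (Matrix.GeneralLinearGroup (Fin 2) (ZMod 11))), Matrix.mulVec ((h : Matrix.GeneralLinearGroup (Fin 2) (ZMod 11)) : Matrix (Fin 2) (Fin 2) (ZMod 11)) v = w := by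
  haveI : Fact (Nat.Prime 11) := ⟨by norm_num⟩
  have hrange : Set.range ![A, B] = ({A, B} : Set (GL (Fin 2) (ZMod 11))) := by
    ext x; simp [eq_comm]; tauto
  rw [← hrange]
  exact Cfsg.Agent.Perm.LinearReg.regular_of_checks ![A, B] gens (fun i => by
    fin_cases i <;> simp [Cfsg.Agent.Perm.LinearReg.toQuad, gens, hA, hB] <;> decide)
    words codes 120 (by norm_num) check_len check_codes check_nodup check_one (fun i => by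
      match i with
      | ⟨0, _⟩ => exact check_mul0
      | ⟨1, _⟩ => exact check_mul1
    ) check_fix

end Cfsg.Agent.S0692
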