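import Cfsg.Statements.S0693
import Cfsg.Agent.Lib.Perm.LinearReg

set_option autoImplicit false
open Cfsg

namespace Cfsg.Agent.S0693

set_option maxHeartbeats 4000000
set_option maxRecDepth 100000

open Cfsg.Agent.Perm.LinearReg

/-- The generators. -/
def gens : Fin 2 → Quad 59 := ![(0, 58, 1, 0), (9, 15, 49, 49)]

/-- A word for every element of the perfect part. -/
def words : List (List (Fin 2)) := [
  [],
  [0],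
  [1],
  [0, 0],
  [0, 1],
  [1, 0],
  [1, 1],
  [0, 0, 0],
  [0, 0, 1],
  [0, 1, 0],
  [0, 1, 1],
  [1, 0, 1],
  [1, 1, 0],
  [0, 0, 0, 1],
  [0, 0, 1, 0],
  [0, 0, 1, 1],
  [0, 1, 0, 1],
  [0, 1, 1, 0],
  [1, 0, 1, 0],
  [1, 0, 1, 1],
  [1, 1, 0, 1],
  [0, 0, 0, 1, 0],
  [0, 0, 0, 1, 1],
  [0, 0, 1, 0, 1],
  [0, 0, 1, 1, 0],
  [0, 1, 0, 1, 0],
  [0, 1, 0, 1, 1],
  [0, 1, 1, 0, 1],
  [1, 0, 1, 0, 1],
  [1, 0, 1, 1, 0],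
  [1, 1, 0, 1, 0],
  [1, 1, 0, 1, 1],
  [0, 0, 0, 1, 0, 1],
  [0, 0, 0, 1, 1, 0],
  [0, 0, 1, 0, 1, 0],
  [0, 0, 1, 0, 1, 1],
  [0, 0, 1, 1, 0, 1],
  [0, 1, 0, 1, 0, 1],
  [0, 1, 0, 1, 1, 0],
  [0, 1, 1, 0, 1, 0],
  [0, 1, 1, 0, 1, 1],
  [1, 0, 1, 0, 1, 1],
  [1, 0, 1, 1, 0, 1],
  [1, 1, 0, 1, 0, 1],
  [0, 0, 0, 1, 0, 1, 0],
  [0, 0, 0, 1, 0, 1, 1],
  [0, 0, 0, 1, 1, 0, 1],
  [0, 0, 1, 0, 1, 0, 1],
  [0, 0, 1, 0, 1, 1, 0],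
  [0, 0, 1, 1, 0, 1, 0],
  [0, 0, 1, 1, 0, 1, 1],
  [0, 1, 0, 1, 0, 1, 1],
  [0, 1, 0, 1, 1, 0, 1],
  [0, 1, 1, 0, 1, 0, 1],
  [1, 0, 1, 0, 1, 1, 0],
  [1, 0, 1, 1, 0, 1, 0],
  [1, 0, 1, 1, 0, 1, 1],
  [1, 1, 0, 1, 0, 1, 1],
  [0, 0, 0, 1, 0, 1, 0, 1],
  [0, 0, 0, 1, 0, 1, 1, 0],
  [0, 0, 0, 1, 1, 0, 1, 0],
  [0, 0, 0, 1, 1, 0, 1, 1],
  [0, 0, 1, 0, 1, 0, 1, 1],
  [0, 0, 1, 0, 1, 1, 0, 1],
  [0, 0, 1, 1, 0, 1, 0, 1],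
  [0, 1, 0, 1, 0, 1, 1, 0],
  [0, 1, 0, 1, 1, 0, 1, 0],
  [0, 1, 0, 1, 1, 0, 1, 1],
  [0, 1, 1, 0, 1, 0, 1, 1],
  [1, 0, 1, 0, 1, 1, 0, 1],
  [1, 0, 1, 1, 0, 1, 0, 1],
  [1, 1, 0, 1, 0, 1, 1, 0],
  [0, 0, 0, 1, 0, 1, 0, 1, 1],
  [0, 0, 0, 1, 0, 1, 1, 0, 1],
  [0, 0, 0, 1, 1, 0, 1, 0, 1],
  [0, 0, 1, 0, 1, 0, 1, 1, 0],
  [0, 0, 1, 0, 1, 1, 0, 1, 0],
  [0, 0, 1, 0, 1, 1, 0, 1, 1],
  [0, 0, 1, 1, 0, 1, 0, 1, 1],
  [0, 1, 0, 1, 0, 1, 1, 0, 1],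
  [0, 1, 0, 1, 1, 0, 1, 0, 1],
  [0, 1, 1, 0, 1, 0, 1, 1, 0],
  [1, 0, 1, 0, 1, 1, 0, 1, 0],
  [1, 0, 1, 0, 1, 1, 0, 1, 1],
  [1, 0, 1, 1, 0, 1, 0, 1, 1],
  [1, 1, 0, 1, 0, 1, 1, 0, 1],
  [0, 0, 0, 1, 0, 1, 0, 1, 1, 0],
  [0, 0, 0, 1, 0, 1, 1, 0, 1, 0],
  [0, 0, 0, 1, 0, 1, 1, 0, 1, 1],
  [0, 0, 0, 1, 1, 0, 1, 0, 1, 1],
  [0, 0, 1, 0, 1, 0, 1, 1, 0, 1],
  [0, 0, 1, 0, 1, 1, 0, 1, 0, 1],
  [0, 0, 1, 1, 0, 1, 0, 1, 1, 0],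
  [0, 1, 0, 1, 0, 1, 1, 0, 1, 0],
  [0, 1, 0, 1, 0, 1, 1, 0, 1, 1],
  [0, 1, 0, 1, 1, 0, 1, 0, 1, 1],
  [0, 1, 1, 0, 1, 0, 1, 1, 0, 1],
  [1, 0, 1, 0, 1, 1, 0, 1, 0, 1],
  [1, 0, 1, 1, 0, 1, 0, 1, 1, 0],
  [1, 1, 0, 1, 0, 1, 1, 0, 1, 0],
  [0, 0, 0, 1, 0, 1, 0, 1, 1, 0, 1],
  [0, 0, 0, 1, 0, 1, 1, 0, 1, 0, 1],
  [0, 0, 1, 0, 1, 0, 1, 1, 0, 1, 0],
  [0, 0, 1, 0, 1, 0, 1, 1, 0, 1, 1],
  [0, 0, 1, 0, 1, 1, 0, 1, 0, 1, 1],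
  [0, 0, 1, 1, 0, 1, 0, 1, 1, 0, 1],
  [0, 1, 0, 1, 1, 0, 1, 0, 1, 1, 0],
  [0, 1, 1, 0, 1, 0, 1, 1, 0, 1, 0],
  [1, 0, 1, 0, 1, 1, 0, 1, 0, 1, 1],
  [1, 0, 1, 1, 0, 1, 0, 1, 1, 0, 1],
  [1, 1, 0, 1, 0, 1, 1, 0, 1, 0, 1],
  [0, 0, 0, 1, 0, 1, 0, 1, 1, 0, 1, 0],
  [0, 0, 0, 1, 0, 1, 0, 1, 1, 0, 1, 1],
  [0, 0, 0, 1, 0, 1, 1, 0, 1, 0, 1, 1],
  [0, 0, 1, 1, 0, 1, 0, 1, 1, 0, 1, 0],
  [0, 1, 0, 1, 1, 0, 1, 0, 1, 1, 0, 1],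
  [0, 1, 1, 0, 1, 0, 1, 1, 0, 1, 0, 1],
  [1, 0, 1, 0, 1, 1, 0, 1, 0, 1, 1, 0],
  [1, 0, 1, 1, 0, 1, 0, 1, 1, 0, 1, 0],
  [1, 1, 0, 1, 0, 1, 1, 0, 1, 0, 1, 1]]

/-- The codes of the elements. -/
def codes : List ℕ := [205380, 201957, 1903566, 11912040, 2089146, 3257636, 10217334, 6903, 10422714, 2225294, 10240556, 9930571, 9072066, 10237134, 9068644, 2108946, 2721513, 10306366, 4148539, 11464294, 306622, 10100986, 2085724, 2395709, 3254214, 3036623, 7588392, 11299414, 2306737, 9872388, 6161366, 2947651, 9604767, 2019914, 8177741, 861986, 12019658, 4264887, 11378744, 221072, 2837861, 5874485, 7914137, 7301511, 9289657, 4737888, 1026866, 10019543, 2453892, 6164914, 9378629, 5230149, 5975669, 5871063, 7298089, 6443065, 6657175, 11189683, 8061393, 947536, 12105208, 9488419, 6451795, 4412143, 5024769, 5665683, 1133175, 7092709, 6237685,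 1161468, 2121098, 5770289, 7096131, 6350611, 6455217, 5028191, 5883215, 5669105, 1136597, 4334178, 8254060, 4415565, 7995524, 4075642, 3765657, 5192683, 6660597, 11193105, 5233571, 6088595, 11164812, 10205182, 6555991, 1366848, 2326478, 2939045, 3579959, 7910715, 4047355, 3406441, 7992102, 4072220, 4330756, 8250638, 8560623, 7133597, 3854629, 5281655, 8746321, 11685307, 8278925, 10959432, 9999802, 9387235, 8919839, 1635945, 8471651, 7044625, 10690335, 640973]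

theorem check_len : codes.length = 120 := by decide +kernel

theorem check_codes : (words.map (value gens)).map enc = codes := by decide +kernel

theorem check_nodup : codes.Nodup := by decide +kernel

theorem check_one : enc (one 59) ∈ codes := by decide +kernel

theorem check_pow : (4 : ZMod 59) ^ 29 = 1 := by decide +kernel

theorem check_mul0 : (((words.map (value gens)).map fun x => enc (times x (gens 0))).all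
    fun m => codes.contains m) = true := by decide +kernel

theorem check_mul1 : (((words.map (value gens)).map fun x => enc (times x (gens 1))).all
    fun m => codes.contains m) = true := by decide +kernel

theorem check_fix : ((words.map (value gens)).all fun x => (List.range 29).all fun i =>
      (enc x == enc (one 59) && i == 0) ||
        !(fixDet (times ((4 : ZMod 59) ^ i, 0, 0, (4 : ZMod 59) ^ i) x) == 0)) = true := by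
  decide +kernel


/-- An exceptional sharply doubly transitive group of degree 59^2: the listed matrices generate a subgroup of GL(2,59) of order 3480 acting regularly on the non-zero vectors. -/
theorem result (A : Matrix.GeneralLinearGroup (Fin 2) (ZMod 59)) (B : Matrix.GeneralLinearGroup (Fin 2) (ZMod 59)) (C : Matrix.GeneralLinearGroup (Fin 2) (ZMod 59)) (hA : (A : Matrix (Fin 2) (Fin 2) (ZMod 59)) = !![0, -1; 1, 0]) (hB : (B : Matrix (Fin 2) (Fin 2) (ZMod 59)) = !![9, 15; -10, -10]) (hC : (C : Matrix (Fin 2) (Fin 2) (ZMod 59)) = !![4, 0; 0, 4]) : Nat.card (Subgroup.closure ({A, B, C} : Set (Matrix.GeneralLinearGroup (Fin 2) (ZMod 59)))) = 3480 ∧ ∀ v w : Fin 2 → ZMod 59, v ≠ 0 → w ≠ 0 → ∃! h : Subgroup.closure ({A, B, C} : Set (Matrix.GeneralLinearGroup (Fin 2) (ZMod 59))), Matrix.mulVec ((h : Matrix.GeneralLinearGroup (Fin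 2) (ZMod 59)) : Matrix (Fin 2) (Fin 2) (ZMod 59)) v = w := by
  haveI : Fact (Nat.Prime 59) := ⟨by norm_num⟩
  have hrange : Set.range ![A, B] ∪ {C} = ({A, B, C} : Set (GL (Fin 2) (ZMod 59))) := by
    ext x; simp [eq_comm]; tauto
  rw [← hrange]
  exact Cfsg.Agent.Perm.LinearReg.regular_scalar ![A, B] gens (fun i => by
    fin_cases i <;> simp [Cfsg.Agent.Perm.LinearReg.toQuad, gens, hA, hB] <;> decide)
    words codes 120 check_len check_codes check_nodup check_one (fun i => by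
      match i with
      | ⟨0, _⟩ => exact check_mul0
      | ⟨1, _⟩ => exact check_mul1
    ) C 4 hC 29 (by norm_num) check_pow check_fix

end Cfsg.Agent.S0693
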