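import Cfsg.Statements.S0694
import Mathlib

set_option autoImplicit false
open Cfsg

namespace Cfsg.Agent.S0694


theorem geom_mul (q i : ℕ) (hq : 1 < q) :
    (∑ j ∈ Finset.range i, q ^ j) * (q - 1) = q ^ i - 1 := geom_sum_mul_of_one_le hq.le i

theorem modEq_iff (q n i : ℕ) (hq : 1 < q) :
    q ^ i ≡ 1 [MOD n * (q - 1)] ↔ n ∣ ∑ j ∈ Finset.range i, q ^ j := by
  rw [Nat.ModEq.comm, Nat.modEq_iff_dvd' (Nat.one_le_pow _ _ (by omega)), ← geom_mul q i hq]
  exact Nat.mul_dvd_mul_iff_right (by omega)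

theorem sum_mod (q r i : ℕ) (h : q ≡ 1 [MOD r]) :
    (∑ j ∈ Finset.range i, q ^ j) ≡ i [MOD r] := by
  induction i with
  | zero => simp [Nat.ModEq]
  | succ i ih =>
    rw [Finset.sum_range_succ]
    simpa using ih.add (h.pow i)

theorem val_eq (q r i : ℕ) [hr : Fact r.Prime] (hq : 1 < q) (hrq : r ∣ q - 1)
    (h2 : r = 2 → 4 ∣ q - 1) (hi : i ≠ 0) :
    padicValNat r (∑ j ∈ Finset.range i, q ^ j) = padicValNat r i := by
  have hrq' : ¬ r ∣ q := fun h => hr.out.not_dvd_one
    (by have := Nat.dvd_sub h hrq; rwa [show q - (q - 1) = 1 by omega] at this)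
  rcases hr.out.eq_two_or_odd' with rfl | hodd
  · by_cases he : Even i
    · have h := padicValNat.pow_two_sub_pow (x := q) (y := 1) hq hrq hrq' hi he
      rw [one_pow, ← geom_mul q i hq, padicValNat.mul _ (by omega)] at h
      · have h1 : padicValNat 2 (q + 1) = 1 := by
          obtain ⟨m, hm⟩ := h2 rfl
          rw [show q + 1 = 2 * (2 * m + 1) by omega, padicValNat.mul two_ne_zero (by omega),
            padicValNat.self (by norm_num), padicValNat.eq_zero_of_not_dvd (by omega)]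
        rw [h1] at h
        omega
      · have : 0 < ∑ j ∈ Finset.range i, q ^ j := Finset.sum_pos (fun j _ => by positivity) (by simpa using hi)
        omega
    · have hodd : ¬ 2 ∣ ∑ j ∈ Finset.range i, q ^ j := by
        have := sum_mod q 2 i ((Nat.modEq_iff_dvd' hq.le).2 hrq).symm
        rw [Nat.ModEq] at this
        rw [Nat.even_iff] at he
        omega
      rw [padicValNat.eq_zero_of_not_dvd hodd,
        padicValNat.eq_zero_of_not_dvd (fun h => he (even_iff_two_dvd.2 h))]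
  · have hpos : 0 < ∑ j ∈ Finset.range i, q ^ j := Finset.sum_pos (fun j _ => by positivity) (by simpa using hi)
    have h := padicValNat.pow_sub_pow (p := r) hodd hq hrq hrq' hi
    rw [one_pow, ← geom_mul q i hq, padicValNat.mul hpos.ne' (by omega)] at h
    omega

theorem dvd_iff (q n i : ℕ) (hq : 1 < q) (hn : 1 < n) (h1 : ∀ r : ℕ, r.Prime → r ∣ n → r ∣ q - 1)
    (h4 : 4 ∣ n → 4 ∣ q - 1) : n ∣ (∑ j ∈ Finset.range i, q ^ j) ↔ n ∣ i := by
  rcases Nat.eq_zero_or_pos i with rfl | hi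
  · simp
  have key : ∀ r k : ℕ, r.Prime → r ^ k ∣ n →
      (r ^ k ∣ (∑ j ∈ Finset.range i, q ^ j) ↔ r ^ k ∣ i) := by
    intro r k hr hrk
    haveI : Fact r.Prime := ⟨hr⟩
    match k with
    | 0 => simp
    | 1 =>
      rw [pow_one] at hrk ⊢
      exact (sum_mod q r i ((Nat.modEq_iff_dvd' hq.le).2 (h1 r hr hrk)).symm).dvd_iff (dvd_refl r)
    | k + 2 =>
      have hrq := h1 r hr ((dvd_pow_self r (by omega)).trans hrk)
      have h2 : r = 2 → 4 ∣ q - 1 := fun e => by
        subst e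
        exact h4 ((show 2 ^ 2 ∣ 2 ^ (k + 2) from pow_dvd_pow 2 (by omega)).trans hrk)
      have hS : (∑ j ∈ Finset.range i, q ^ j) ≠ 0 :=
        (Finset.sum_pos (fun j _ => by positivity) (by simpa using hi.ne')).ne'
      rw [padicValNat_dvd_iff_le hS, padicValNat_dvd_iff_le hi.ne', val_eq q r i hq hrq h2 hi.ne']
  rw [Nat.dvd_iff_prime_pow_dvd_dvd i n, Nat.dvd_iff_prime_pow_dvd_dvd _ n]
  exact ⟨fun h r k hr hrk => (key r k hr hrk).1 (h r k hr hrk),
    fun h r k hr hrk => (key r k hr hrk).2 (h r k hr hrk)⟩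

/-- the orbit of zero covers all residues -/
theorem covers (q n : ℕ) (hn : 1 < n) (hz : n ∣ ∑ j ∈ Finset.range n, q ^ j)
    (hmin : ∀ i, 0 < i → i < n → ¬ n ∣ ∑ j ∈ Finset.range i, q ^ j) (r : ℕ) (hr : r ∣ n)
    (t : ZMod r) : ∃ i, (∑ j ∈ Finset.range i, (q : ZMod r) ^ j) = t := by
  haveI : NeZero n := ⟨by omega⟩
  let x : Fin n → ZMod n := fun i => ∑ j ∈ Finset.range (i : ℕ), (q : ZMod n) ^ j
  have hq : IsUnit (q : ZMod n) := by
    have h : ((∑ j ∈ Finset.range n, q ^ j : ℕ) : ZMod n) = 0 := (ZMod.natCast_eq_zero_iff _ _).2 hz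
    push_cast at h
    obtain ⟨m, rfl⟩ : ∃ m, n = m + 1 := ⟨n - 1, by omega⟩
    rw [geom_sum_succ] at h
    exact IsUnit.of_mul_eq_one (a := (q : ZMod (m + 1))) (-∑ j ∈ Finset.range m, (q : ZMod (m + 1)) ^ j)
      (by rw [mul_neg, ← eq_neg_of_add_eq_zero_right h])
  have hinj : ∀ a b : Fin n, (a : ℕ) ≤ b → x a = x b → a = b := by
    intro a b hab h
    by_contra hne
    have hlt : (a : ℕ) < b := lt_of_le_of_ne hab (fun e => hne (Fin.ext e))
    obtain ⟨d, hd⟩ := Nat.exists_eq_add_of_le hab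
    simp only [x, hd, Finset.sum_range_add, pow_add, ← Finset.mul_sum] at h
    rw [left_eq_add, (hq.pow _).mul_right_eq_zero] at h
    refine hmin d (by omega) (by have := b.isLt; omega) ((ZMod.natCast_eq_zero_iff _ _).1 ?_)
    push_cast
    exact h
  have hx : Function.Bijective x := by
    rw [Fintype.bijective_iff_injective_and_card]
    refine ⟨fun a b h => ?_, by simp⟩
    rcases le_total (a : ℕ) b with hab | hab
    · exact hinj a b hab h
    · exact (hinj b a hab h.symm).symm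
  obtain ⟨s, hs⟩ := ZMod.castHom_surjective hr t
  obtain ⟨i, hi⟩ := hx.2 s
  exact ⟨(i : ℕ), by rw [← hs, ← hi]; simp only [x, map_sum, map_pow, map_natCast]⟩


/-- The Dickson pair condition: for a prime power `q` and `n > 1`, (every prime factor of `n` divides `q - 1`, and `4 ∣ n → 4 ∣ q - 1`) holds exactly when `q ^ n ≡ 1` modulo `n * (q - 1)` but `q ^ i` is not, for `0 < i < n`. -/
theorem result (q n : ℕ) (hq : IsPrimePow q) (hn : 1 < n) : ((∀ r : ℕ, r.Prime → r ∣ n → r ∣ q - 1) ∧ (4 ∣ n → 4 ∣ q - 1)) ↔ (q ^ n ≡ 1 [MOD n * (q - 1)] ∧ ∀ i : ℕ, 0 < i → i < n → ¬ q ^ i ≡ 1 [MOD n * (q - 1)]) := by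
  have hq1 : 1 < q := hq.one_lt
  simp only [modEq_iff q n _ hq1]
  constructor
  · rintro ⟨h1, h4⟩
    refine ⟨(dvd_iff q n n hq1 hn h1 h4).2 dvd_rfl, fun i hi0 hin h => ?_⟩
    exact absurd (Nat.le_of_dvd hi0 ((dvd_iff q n i hq1 hn h1 h4).1 h)) (by omega)
  · rintro ⟨hz, hmin⟩
    constructor
    · intro r hr hrn
      by_contra hrq
      haveI : Fact r.Prime := ⟨hr⟩
      obtain ⟨i, hi⟩ := covers q n hn hz hmin r hrn (-((q - 1 : ℕ) : ZMod r)⁻¹)
      have hne : ((q - 1 : ℕ) : ZMod r) ≠ 0 := fun e => hrq ((ZMod.natCast_eq_zero_iff _ _).1 e)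
      have h := congrArg (· * ((q - 1 : ℕ) : ZMod r)) hi
      simp only [neg_mul, inv_mul_cancel₀ hne] at h
      rw [Nat.cast_sub hq1.le, Nat.cast_one, geom_sum_mul] at h
      have hq0 : (q : ZMod r) ^ i = 0 := by linear_combination h
      have hqr : (q : ZMod r) = 0 := eq_zero_of_pow_eq_zero hq0
      have hz' := hrn.trans hz
      rw [← ZMod.natCast_eq_zero_iff] at hz'
      push_cast at hz'
      obtain ⟨m, rfl⟩ : ∃ m, n = m + 1 := ⟨n - 1, by omega⟩
      simp [geom_sum_succ, hqr] at hz'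
    · intro h4
      by_contra hq4
      obtain ⟨i, hi⟩ := covers q n hn hz hmin 4 h4 2
      have h2q : 2 ∣ q - 1 := by
        by_contra h2
        obtain ⟨j, hj⟩ := covers q n hn hz hmin 4 h4 0
        have hz' := (show 2 ∣ n from (by norm_num : 2 ∣ 4).trans h4).trans hz
        obtain ⟨m, rfl⟩ : ∃ m, n = m + 1 := ⟨n - 1, by omega⟩
        rw [geom_sum_succ] at hz'
        have : 2 ∣ q := by omega
        have : 2 ∣ q * ∑ j ∈ Finset.range m, q ^ j := this.mul_right _
        omega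
      have hq3 : (q : ZMod 4) = 3 := by
        obtain ⟨m, hm⟩ : ∃ m, q = 4 * m + 3 := ⟨q / 4, by omega⟩
        rw [hm]; push_cast; rw [show (4 : ZMod 4) = 0 from rfl]; ring
      have hcov : ∀ j, (∑ l ∈ Finset.range j, (q : ZMod 4) ^ l) = 0 ∨
          (∑ l ∈ Finset.range j, (q : ZMod 4) ^ l) = 1 := by
        intro j
        induction j with
        | zero => simp
        | succ j ih =>
          rw [geom_sum_succ, hq3]
          rw [hq3] at ih
          rcases ih with h | h <;> rw [h] <;> decide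
      rcases hcov i with h | h <;> rw [h] at hi <;> revert hi <;> decide

end Cfsg.Agent.S0694
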