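import Cfsg.Statements.S0695
import Cfsg.Agent.Lib.Perm.NormalTransMain

set_option autoImplicit false
open Cfsg

namespace Cfsg.Agent.S0695

/-- A regular normal subgroup of a doubly primitive group of finite degree at least 2 is an elementary abelian 2-group (and the degree is a power of 2), unless the degree is 3. -/
theorem result {G : Type*} [Group G] {X : Type*} [Fintype X] [MulAction G X] (hX : 2 ≤ Fintype.card X) (h2 : MulAction.IsMultiplyPreprimitive G X 2) (N : Subgroup G) [N.Normal] (htrans : MulAction.IsPretransitive N X) (hreg : ∀ x : X, MulAction.stabilizer N x = ⊥) : Fintype.card X = 3 ∨ (IsMulCommutative N ∧ (∀ n ∈ N, n ^ 2 = 1) ∧ ∃ m : ℕ, Fintype.card X = 2 ^ m) := by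
  classical
  haveI := h2
  have hMPT : MulAction.IsMultiplyPretransitive G X 2 := h2.isMultiplyPretransitive
  haveI : MulAction.IsPretransitive G X := MulAction.isPretransitive_of_is_two_pretransitive
  have hsemi : ∀ a : X, ∀ m ∈ N, m • a = a → m = 1 := fun a m hm h => by
    have : (⟨m, hm⟩ : N) ∈ MulAction.stabilizer N a := h
    rw [hreg a, Subgroup.mem_bot] at this
    exact congrArg Subtype.val this
  by_cases h3 : Fintype.card X = 3
  · exact Or.inl h3
  refine Or.inr ?_
  obtain ⟨a⟩ : Nonempty X := Fintype.card_pos_iff.1 (by omega)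
  have hbij : Function.Bijective fun m : N => m • a := ⟨fun m m' e => by
    simp only at e
    refine Subtype.ext (inv_mul_eq_one.1 (hsemi a _ (mul_mem (inv_mem m'.2) m.2) ?_)).symm
    rw [mul_smul, inv_smul_eq_iff]
    exact e, htrans.exists_smul_eq a⟩
  have hcard : Nat.card N = Fintype.card X := by
    rw [Nat.card_congr (Equiv.ofBijective _ hbij), Nat.card_eq_fintype_card]
  have hexp : ∀ m ∈ N, m * m = 1 := by
    intro m hm
    rcases Nat.lt_or_ge (Fintype.card X) 4 with h4 | h4
    · have h2' : Nat.card N = 2 := by omega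
      have h : (⟨m, hm⟩ : N) ^ Nat.card N = 1 := pow_card_eq_one'
      rw [h2', pow_two] at h
      exact congrArg Subtype.val h
    · exact Perm.sq_eq_one_of_primitive (a := a) inferInstance
        ((MulAction.is_one_preprimitive_iff _ _).1
          (MulAction.isMultiplyPreprimitive_ofStabilizer G X (n := 1) (a := a)))
        (Perm.exists_ne_points (by rwa [Nat.card_eq_fintype_card])) (hsemi a) hm
  haveI : Fact (Nat.Prime 2) := ⟨Nat.prime_two⟩
  haveI : Finite N := Nat.finite_of_card_ne_zero (by omega)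
  have hpg : IsPGroup 2 N := fun m => ⟨1, Subtype.ext (by
    rw [pow_one, pow_two]; exact hexp m m.2)⟩
  obtain ⟨e, he⟩ := hpg.exists_card_eq
  have i : ∀ z ∈ N, z⁻¹ = z := fun z hz => inv_eq_of_mul_eq_one_right (hexp z hz)
  refine ⟨⟨⟨fun m k' => Subtype.ext ?_⟩⟩, fun n hn => by rw [pow_two]; exact hexp n hn, e,
    hcard ▸ he⟩
  calc (m : G) * k' = ((m : G) * k')⁻¹ := (i _ (mul_mem m.2 k'.2)).symm
    _ = (k' : G) * m := by rw [mul_inv_rev, i _ m.2, i _ k'.2]

end Cfsg.Agent.S0695
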