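import Cfsg.Statements.S0696
import Cfsg.Agent.Lib.Perm.NormalTransMain

set_option autoImplicit false
open Cfsg

namespace Cfsg.Agent.S0696

open scoped Pointwise

/-- A triply primitive group of degree at least 3 having a regular normal subgroup has degree 3 or 4. -/
theorem result {G : Type*} [Group G] {X : Type*} [Fintype X] [MulAction G X] (hX : 3 ≤ Fintype.card X) (h3 : MulAction.IsMultiplyPreprimitive G X 3) (N : Subgroup G) [N.Normal] (htrans : MulAction.IsPretransitive N X) (hreg : ∀ x : X, MulAction.stabilizer N x = ⊥) : Fintype.card X = 3 ∨ Fintype.card X = 4 := by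
  classical
  haveI := h3
  have hMPT : MulAction.IsMultiplyPretransitive G X 3 := h3.isMultiplyPretransitive
  have hsemi : ∀ a : X, ∀ m ∈ N, m • a = a → m = 1 := fun a m hm h => by
    have : (⟨m, hm⟩ : N) ∈ MulAction.stabilizer N a := h
    rw [hreg a, Subgroup.mem_bot] at this
    exact congrArg Subtype.val this
  by_contra hne
  rw [not_or] at hne
  have hn : 5 ≤ Nat.card X := by rw [Nat.card_eq_fintype_card]; omega
  obtain ⟨a⟩ : Nonempty X := Fintype.card_pos_iff.1 (by omega)
  obtain ⟨x, hxa, -, -⟩ := Perm.exists_ne_points (a := a) (by omega) a a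
  obtain ⟨y, hya, hyx, -⟩ := Perm.exists_ne_points (a := a) (by omega) x x
  obtain ⟨⟨m, hm⟩, hmx⟩ := htrans.exists_smul_eq a x
  change m • a = x at hmx
  have hexp : ∀ k ∈ N, k * k = 1 := fun k hk => Perm.sq_eq_one_of_regular inferInstance
    (Perm.exists_ne_points (by omega)) (Perm.two_on_rest le_rfl (by omega) hMPT a) (hsemi a) hk
  have hmm : ∀ z : X, m • m • z = z := fun z => by rw [← mul_smul, hexp m hm, one_smul]
  have hy' : m • y ≠ a := fun e => hyx (by rw [← hmm y, e, hmx])
  have hy'' : m • y ≠ x := fun e => hya (by rw [← hmm y, e, ← hmx, hmm])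
  have hy3 : m • y ≠ y := fun e => hxa (by rw [← hmx, hsemi y m hm e, one_smul])
  have hp : MulAction.IsPreprimitive (fixingSubgroup G ({a, x} : Set X))
      (SubMulAction.ofFixingSubgroup G ({a, x} : Set X)) :=
    MulAction.IsMultiplyPreprimitive.isPreprimitive_ofFixingSubgroup G 3
      (by rw [Set.encard_pair hxa.symm]; norm_num)
  have hmemy : y ∈ SubMulAction.ofFixingSubgroup G ({a, x} : Set X) :=
    (SubMulAction.mem_ofFixingSubgroup_iff G).2 (by simp [hya, hyx])
  have hmemy' : m • y ∈ SubMulAction.ofFixingSubgroup G ({a, x} : Set X) :=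
    (SubMulAction.mem_ofFixingSubgroup_iff G).2 (by simp [hy', hy''])
  let B : Set (SubMulAction.ofFixingSubgroup G ({a, x} : Set X)) := {⟨y, hmemy⟩, ⟨m • y, hmemy'⟩}
  have hB : MulAction.IsBlock (fixingSubgroup G ({a, x} : Set X)) B := by
    refine MulAction.isBlock_iff_smul_eq_of_mem.2 fun g z hz hgz => ?_
    have hga : (g : G) • a = a := (mem_fixingSubgroup_iff G).1 g.2 a (by simp)
    have hgx : (g : G) • x = x := (mem_fixingSubgroup_iff G).1 g.2 x (by simp)
    have hc : (g : G) * m * (g : G)⁻¹ = m :=
      Perm.conj_eq_of_regular inferInstance (hsemi a) hga hm hm (by rw [hmx]; exact hgx)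
    have hgm : ∀ w : X, (g : G) • m • w = m • (g : G) • w := fun w => by
      conv_rhs => rw [← hc]
      rw [mul_smul, mul_smul, inv_smul_smul]
    have key : ((g : G) • y = y ∧ (g : G) • m • y = m • y) ∨
        ((g : G) • y = m • y ∧ (g : G) • m • y = y) := by
      simp only [B, Set.mem_insert_iff, Set.mem_singleton_iff] at hz hgz
      have d : (g : G) • y = y ∨ (g : G) • y = m • y := by
        rcases hz with rfl | rfl <;> rcases hgz with h | h <;>
          replace h := congrArg Subtype.val h
        · exact Or.inl h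
        · exact Or.inr h
        · exact Or.inr (by
            have h' := congrArg (m • ·) ((hgm y).symm.trans h)
            simpa [hmm] using h')
        · exact Or.inl (smul_left_cancel m ((hgm y).symm.trans h))
      rcases d with d | d
      · exact Or.inl ⟨d, by rw [hgm, d]⟩
      · exact Or.inr ⟨d, by rw [hgm, d, hmm]⟩
    rcases key with ⟨k1, k2⟩ | ⟨k1, k2⟩
    · have e1 : g • (⟨y, hmemy⟩ : SubMulAction.ofFixingSubgroup G ({a, x} : Set X)) = ⟨y, hmemy⟩ :=
        Subtype.ext k1
      have e2 : g • (⟨m • y, hmemy'⟩ : SubMulAction.ofFixingSubgroup G ({a, x} : Set X)) =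
        ⟨m • y, hmemy'⟩ := Subtype.ext k2
      simp only [B, Set.smul_set_insert, Set.smul_set_singleton, e1, e2]
    · have e1 : g • (⟨y, hmemy⟩ : SubMulAction.ofFixingSubgroup G ({a, x} : Set X)) =
        ⟨m • y, hmemy'⟩ := Subtype.ext k1
      have e2 : g • (⟨m • y, hmemy'⟩ : SubMulAction.ofFixingSubgroup G ({a, x} : Set X)) =
        ⟨y, hmemy⟩ := Subtype.ext k2
      simp only [B, Set.smul_set_insert, Set.smul_set_singleton, e1, e2]
      exact Set.pair_comm _ _
  rcases hp.isTrivialBlock_of_isBlock hB with h | h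
  · exact hy3 (congrArg Subtype.val (h (Set.mem_insert _ _) (Set.mem_insert_of_mem _ rfl))).symm
  · obtain ⟨z, hz⟩ : ∃ z : X, z ∉ ({a, x, y, m • y} : Finset X) := by
      by_contra hh
      push Not at hh
      have h1 := congrArg Finset.card (Finset.eq_univ_iff_forall.2 hh)
      have h2 := Finset.card_le_four (a := a) (b := x) (c := y) (d := m • y)
      rw [Finset.card_univ] at h1
      omega
    simp only [Finset.mem_insert, Finset.mem_singleton, not_or] at hz
    have := Set.eq_univ_iff_forall.1 h
      ⟨z, (SubMulAction.mem_ofFixingSubgroup_iff G).2 (by simp [hz.1, hz.2.1])⟩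
    simp only [B, Set.mem_insert_iff, Set.mem_singleton_iff] at this
    rcases this with e | e
    · exact hz.2.2.1 (congrArg Subtype.val e)
    · exact hz.2.2.2 (congrArg Subtype.val e)

end Cfsg.Agent.S0696
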