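import Cfsg.Statements.S0697
import Cfsg.Agent.Lib.Perm.NormalTransMain

set_option autoImplicit false
open Cfsg

namespace Cfsg.Agent.S0697

/-- In a `k`-primitive permutation group which is not the whole symmetric group, a non-trivial non-regular normal subgroup is `k`-transitive. -/
theorem result {α : Type*} [Fintype α] [DecidableEq α] (G : Subgroup (Equiv.Perm α)) {k : ℕ} (hk : 1 ≤ k) (hkn : k ≤ Fintype.card α) (hG : MulAction.IsMultiplyPreprimitive G α k) (htop : G ≠ ⊤) (H : Subgroup G) [H.Normal] (hH : H ≠ ⊥) (hnr : ∃ a : α, MulAction.stabilizer H a ≠ ⊥) : MulAction.IsMultiplyPretransitive H α k := by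
  have hk2 : k + 2 ≤ Nat.card α := by
    by_contra h
    apply htop
    haveI := hG.isMultiplyPretransitive
    refine Equiv.Perm.eq_top_of_isMultiplyPretransitive ?_
    exact MulAction.isMultiplyPretransitive_of_le (n := k) (by omega)
      (by rw [Nat.card_eq_fintype_card]; omega)
  refine (Perm.normal_of_multiply_primitive k G α hk hk2 hG H inferInstance hH).2 (Or.inr ?_)
  obtain ⟨a, ha⟩ := hnr
  obtain ⟨m, hm, hm1⟩ := (Subgroup.bot_or_exists_ne_one _).resolve_left ha
  exact ⟨a, m, m.2, hm, fun e => hm1 (Subtype.ext e)⟩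

end Cfsg.Agent.S0697
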