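import Cfsg.Statements.S0701
import Cfsg.Agent.Lib.Perm.Basic

set_option autoImplicit false
open Cfsg

namespace Cfsg.Agent.S0701

/-- The centraliser in the full symmetric group of a transitive permutation group `G` is semiregular, and it is transitive if and only if `G` is regular. -/
theorem result {α : Type*} (G : Subgroup (Equiv.Perm α)) [MulAction.IsPretransitive G α] : (∀ c ∈ Subgroup.centralizer (G : Set (Equiv.Perm α)), ∀ a : α, c a = a → c = 1) ∧ (MulAction.IsPretransitive (Subgroup.centralizer (G : Set (Equiv.Perm α))) α ↔ ∀ a : α, MulAction.stabilizer G a = ⊥) := by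
  classical
  have ht : ∀ a x : α, ∃ s ∈ (G : Set (Equiv.Perm α)), s a = x := fun a x => by
    obtain ⟨g, hg⟩ := MulAction.exists_smul_eq G a x
    exact ⟨g, g.2, hg⟩
  have hcomm : ∀ c ∈ Subgroup.centralizer (G : Set (Equiv.Perm α)), ∀ s ∈ (G : Set (Equiv.Perm α)),
      Commute c s := fun c hc s hs => (Subgroup.mem_centralizer_iff.1 hc s hs).symm
  refine ⟨fun c hc a h => Perm.perm_eq_of_commute_transitive (ht a) (hcomm c hc)
    (fun s _ => Commute.one_left s) h, ?_, ?_⟩
  · intro hC a
    rw [Subgroup.eq_bot_iff_forall]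
    intro g hg
    refine Perm.coe_eq_one_iff.2 fun x => ?_
    obtain ⟨c, rfl⟩ := MulAction.exists_smul_eq (Subgroup.centralizer (G : Set (Equiv.Perm α))) a x
    have h1 := congrArg (fun z : Equiv.Perm α => z a) (hcomm c c.2 g g.2).eq
    simp only [Equiv.Perm.coe_mul, Function.comp_apply] at h1
    rw [show (g : Equiv.Perm α) a = a from hg] at h1
    exact h1.symm
  · intro hreg
    refine ⟨fun a b => ?_⟩
    have hbij : ∀ a : α, Function.Bijective fun g : G => g • a := fun a =>
      ⟨fun g h he => by
        simp only at he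
        have h2 : g⁻¹ * h ∈ MulAction.stabilizer G a := by
          rw [MulAction.mem_stabilizer_iff, mul_smul, ← he, inv_smul_smul]
        rw [hreg a, Subgroup.mem_bot, inv_mul_eq_one] at h2
        exact h2, MulAction.exists_smul_eq G a⟩
    let c : Equiv.Perm α := (Equiv.ofBijective _ (hbij a)).symm.trans (Equiv.ofBijective _ (hbij b))
    have hc : ∀ g : G, c (g • a) = g • b := fun g => by
      show Equiv.ofBijective _ (hbij b) ((Equiv.ofBijective _ (hbij a)).symm (g • a)) = g • b
      rw [Equiv.ofBijective_symm_apply_apply]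
      rfl
    have hmem : c ∈ Subgroup.centralizer (G : Set (Equiv.Perm α)) := by
      refine Subgroup.mem_centralizer_iff.2 fun s hs => Equiv.ext fun x => ?_
      obtain ⟨g, rfl⟩ := MulAction.exists_smul_eq G a x
      show (⟨s, hs⟩ : G) • c (g • a) = c ((⟨s, hs⟩ : G) • g • a)
      rw [hc, smul_smul, smul_smul, hc]
    refine ⟨⟨c, hmem⟩, ?_⟩
    have := hc 1
    simp only [one_smul] at this
    exact this

end Cfsg.Agent.S0701
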