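import Cfsg.Statements.S0702
import Cfsg.Agent.Lib.Perm.Basic

set_option autoImplicit false
open Cfsg

namespace Cfsg.Agent.S0702

/-- For a transitive permutation group `G` on a finite set, the centraliser of `G` in the symmetric group is isomorphic to `N_G(G_ω)/G_ω`, and its orbit of `ω` is the set of fixed points of `G_ω`. -/
theorem result {α : Type*} [Finite α] (G : Subgroup (Equiv.Perm α)) [MulAction.IsPretransitive G α] (a : α) : Nonempty (Subgroup.centralizer (G : Set (Equiv.Perm α)) ≃* Subgroup.normalizer ((MulAction.stabilizer G a : Subgroup G) : Set G) ⧸ (MulAction.stabilizer G a).subgroupOf (Subgroup.normalizer ((MulAction.stabilizer G a : Subgroup G) : Set G))) ∧ MulAction.orbit (Subgroup.centralizer (G : Set (Equiv.Perm α))) a = MulAction.fixedPoints (MulAction.stabilizer G a) α := by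
  classical
  set C := Subgroup.centralizer (G : Set (Equiv.Perm α))
  set S := MulAction.stabilizer G a
  set N := Subgroup.normalizer (S : Set G)
  have ht : ∀ x : α, ∃ g : G, g • a = x := MulAction.exists_smul_eq G a
  choose r hr using ht
  have hwell : ∀ n ∈ N, ∀ g h : G, g • a = h • a → (g * n⁻¹) • a = (h * n⁻¹) • a := by
    intro n hn g h he
    have h1 : h⁻¹ * g ∈ S := by
      rw [MulAction.mem_stabilizer_iff, mul_smul, he, inv_smul_smul]
    have h2 := (Subgroup.mem_normalizer_iff.1 hn (h⁻¹ * g)).1 h1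
    rw [MulAction.mem_stabilizer_iff] at h2
    calc (g * n⁻¹) • a = (h * n⁻¹) • (n * (h⁻¹ * g) * n⁻¹) • a := by
          rw [smul_smul]
          congr 1
          group
      _ = (h * n⁻¹) • a := by rw [h2]
  let f : N → α → α := fun n x => (r x * (n : G)⁻¹) • a
  have hf : ∀ (n : N) (g : G), f n (g • a) = (g * (n : G)⁻¹) • a := fun n g =>
    hwell n n.2 _ _ (hr _)
  have hfmul : ∀ n m : N, ∀ x, f (n * m) x = f n (f m x) := fun n m x => by
    rw [hf n (r x * (m : G)⁻¹)]
    show (r x * ((n * m : N) : G)⁻¹) • a = _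
    rw [Subgroup.coe_mul, mul_inv_rev, mul_assoc]
  have hf1 : ∀ x, f 1 x = x := fun x => by
    show (r x * ((1 : N) : G)⁻¹) • a = x
    rw [Subgroup.coe_one, inv_one, mul_one, hr]
  let e : N → Equiv.Perm α := fun n => ⟨f n, f n⁻¹,
    fun x => by rw [← hfmul, inv_mul_cancel, hf1], fun x => by rw [← hfmul, mul_inv_cancel, hf1]⟩
  have heC : ∀ n, e n ∈ C := fun n => Subgroup.mem_centralizer_iff.2 fun s hs => Equiv.ext fun x => by
    obtain ⟨g, rfl⟩ := MulAction.exists_smul_eq G a x
    show (⟨s, hs⟩ : G) • f n (g • a) = f n ((⟨s, hs⟩ : G) • g • a)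
    rw [smul_smul (⟨s, hs⟩ : G) g a, hf, hf, smul_smul, mul_assoc]
  let φ : N →* C := MonoidHom.mk' (fun n => ⟨e n, heC n⟩) fun n m =>
    Subtype.ext (Equiv.ext fun x => hfmul n m x)
  have hcomm : ∀ (c : C) (g : G) (x : α), (g : Equiv.Perm α) ((c : Equiv.Perm α) x) =
      (c : Equiv.Perm α) ((g : Equiv.Perm α) x) := fun c g x =>
    congrArg (fun z : Equiv.Perm α => z x) (Subgroup.mem_centralizer_iff.1 c.2 g g.2)
  have hnorm : ∀ g : G, (∀ s ∈ S, s • g • a = g • a) → g⁻¹ ∈ N := fun g hg => by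
    refine Subgroup.mem_normalizer_fintype fun s hs => ?_
    show g⁻¹ * s * g⁻¹⁻¹ ∈ MulAction.stabilizer G a
    rw [MulAction.mem_stabilizer_iff, inv_inv, mul_smul, mul_smul, hg s hs, inv_smul_smul]
  have hCfix : ∀ (c : C) (s : G), s ∈ S → s • (c : Equiv.Perm α) a = (c : Equiv.Perm α) a := by
    intro c s hs
    show (s : Equiv.Perm α) ((c : Equiv.Perm α) a) = _
    rw [hcomm, show (s : Equiv.Perm α) a = a from hs]
  have hsurj : Function.Surjective φ := fun c => by
    obtain ⟨g, hg⟩ := MulAction.exists_smul_eq G a ((c : Equiv.Perm α) a)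
    have hgN : g⁻¹ ∈ N := hnorm g fun s hs => by rw [hg]; exact hCfix c s hs
    refine ⟨⟨g⁻¹, hgN⟩, Subtype.ext (Equiv.ext fun x => ?_)⟩
    obtain ⟨h, rfl⟩ := MulAction.exists_smul_eq G a x
    show f _ (h • a) = (c : Equiv.Perm α) ((h : Equiv.Perm α) a)
    rw [hf, ← hcomm, ← hg, inv_inv, mul_smul]
    rfl
  have hker : φ.ker = S.subgroupOf N := by
    ext n
    rw [MonoidHom.mem_ker, Subgroup.mem_subgroupOf]
    constructor
    · intro h
      have h1 : f n ((1 : G) • a) = (1 : G) • a :=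
        congrArg (fun z : C => (z : Equiv.Perm α) ((1 : G) • a)) h
      rw [hf, one_smul, one_mul] at h1
      exact inv_mem_iff.1 (h1 : (n : G)⁻¹ ∈ S)
    · intro h
      refine Subtype.ext (Equiv.ext fun x => ?_)
      obtain ⟨g, rfl⟩ := MulAction.exists_smul_eq G a x
      show f n (g • a) = g • a
      rw [hf, mul_smul, show ((n : G))⁻¹ • a = a from inv_mem h]
  refine ⟨⟨((QuotientGroup.quotientMulEquivOfEq hker.symm).trans
    (QuotientGroup.quotientKerEquivOfSurjective φ hsurj)).symm⟩, ?_⟩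
  ext b
  constructor
  · rintro ⟨c, rfl⟩ ⟨s, hs⟩
    exact hCfix c s hs
  · intro hb
    obtain ⟨g, rfl⟩ := MulAction.exists_smul_eq G a b
    refine ⟨φ ⟨g⁻¹, hnorm g fun s hs => hb ⟨s, hs⟩⟩, ?_⟩
    show f _ a = g • a
    have := hf ⟨g⁻¹, hnorm g fun s hs => hb ⟨s, hs⟩⟩ 1
    rw [one_smul, one_mul, inv_inv] at this
    exact this

end Cfsg.Agent.S0702
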