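import Cfsg.Statements.S0703
import Cfsg.Agent.Lib.Perm.Basic
import Cfsg.Agent.Lib.Perm.MinNormal

set_option autoImplicit false
open Cfsg

namespace Cfsg.Agent.S0703

/-- An abelian transitive minimal normal subgroup `M` of a permutation group on a finite set is self-centralising in the symmetric group, regular, elementary abelian, and is the unique minimal normal subgroup. -/
theorem result {α : Type*} [Finite α] (G : Subgroup (Equiv.Perm α)) (M : Subgroup G) [M.Normal] (hM : M ≠ ⊥) (hmin : ∀ L : Subgroup G, L.Normal → L ≤ M → L = ⊥ ∨ L = M) (hab : IsMulCommutative M) (htrans : MulAction.IsPretransitive M α) : Subgroup.centralizer ((M.map G.subtype : Subgroup (Equiv.Perm α)) : Set (Equiv.Perm α)) = M.map G.subtype ∧ (∀ a : α, MulAction.stabilizer M a = ⊥) ∧ (∃ p : ℕ, p.Prime ∧ ∀ m ∈ M, m ^ p = 1) ∧ ∀ L : Subgroup G, L.Normal → L ≠ ⊥ → (∀ L' : Subgroup G, L'.Normal → L' ≤ L → L' = ⊥ ∨ L' = L) → L = M := by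
  classical
  haveI := htrans
  obtain ⟨a⟩ : Nonempty α := by
    by_contra h
    rw [not_nonempty_iff] at h
    exact hM ((Subgroup.eq_bot_iff_forall _).2 fun x _ => Subtype.ext (Equiv.ext fun y => h.elim y))
  have hcom : ∀ m ∈ M, ∀ m' ∈ M, Commute (m : Equiv.Perm α) m' := fun m hm m' hm' =>
    congrArg (fun z : M => ((z : G) : Equiv.Perm α)) (hab.is_comm.comm (⟨m, hm⟩ : M) ⟨m', hm'⟩)
  have key : ∀ c : Equiv.Perm α, (∀ m ∈ M, Commute c m) → ∀ b, ∀ n ∈ M,
      (n : Equiv.Perm α) b = c b → (n : Equiv.Perm α) = c := by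
    intro c hc b n hn h
    refine Perm.perm_eq_of_commute_transitive (S := (fun m : G => (m : Equiv.Perm α)) '' M) (a := b)
      (fun x => ?_) (by rintro _ ⟨m, hm, rfl⟩; exact hcom n hn m hm)
      (by rintro _ ⟨m, hm, rfl⟩; exact hc m hm) h
    obtain ⟨s, hs, hsx⟩ := Perm.exists_mem_apply_eq M b x
    exact ⟨_, ⟨s, hs, rfl⟩, hsx⟩
  have hcen : ∀ c : Equiv.Perm α, (∀ m ∈ M, Commute c m) → ∃ n ∈ M, (n : Equiv.Perm α) = c := by
    intro c hc
    obtain ⟨s, hs, hsx⟩ := Perm.exists_mem_apply_eq M a (c a)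
    exact ⟨s, hs, key c hc a s hs hsx⟩
  have hmin' : Perm.IsMinNormal M := ⟨inferInstance, hM, hmin⟩
  obtain ⟨p, hp, hexp, -, -⟩ := hmin'.exists_prime hab
  refine ⟨?_, fun b => ?_, ⟨p, hp, hexp⟩, ?_⟩
  · ext c
    rw [Subgroup.mem_centralizer_iff, Subgroup.mem_map]
    constructor
    · intro hc
      obtain ⟨n, hn, h⟩ := hcen c fun m hm => (hc _ ⟨m, hm, rfl⟩).symm
      exact ⟨n, hn, h⟩
    · rintro ⟨n, hn, rfl⟩ _ ⟨m, hm, rfl⟩
      exact (hcom m hm n hn).eq
  · rw [Subgroup.eq_bot_iff_forall]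
    intro n hn
    exact Subtype.ext (Subtype.ext (key 1 (fun m _ => Commute.one_left _) b n n.2 hn))
  · intro L hLn hL hLmin
    by_contra hne
    haveI := hLn
    have hd : Disjoint L M := by
      rw [disjoint_iff]
      rcases hmin (L ⊓ M) inferInstance inf_le_right with h | h
      · exact h
      · exact absurd ((hLmin M inferInstance (h ▸ inf_le_left)).resolve_left hM).symm hne
    refine hne ((hmin L hLn fun l hl => ?_).resolve_left hL)
    obtain ⟨n, hn, hnl⟩ := hcen l fun m hm =>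
      (Subgroup.commute_of_normal_of_disjoint L M hLn inferInstance hd l m hl hm).map G.subtype
    rwa [← Subtype.ext hnl]

end Cfsg.Agent.S0703
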