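import Cfsg.Statements.S0704
import Cfsg.Agent.Lib.Perm.Basic

set_option autoImplicit false
open Cfsg

namespace Cfsg.Agent.S0704

theorem reg {α : Type*} {G : Subgroup (Equiv.Perm α)} (M N : Subgroup G)
    (hMt : MulAction.IsPretransitive M α)
    (hc : ∀ n ∈ N, ∀ m ∈ M, Commute (n : Equiv.Perm α) m) :
    (∀ b : α, MulAction.stabilizer N b = ⊥) ∧
      (MulAction.IsPretransitive N α → ∀ (a : α) (c : Equiv.Perm α),
        (∀ m ∈ M, Commute c m) → ∃ n ∈ N, (n : Equiv.Perm α) = c) := by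
  haveI := hMt
  have key : ∀ (a : α) (c d : Equiv.Perm α), (∀ m ∈ M, Commute c m) → (∀ m ∈ M, Commute d m) →
      c a = d a → c = d := fun a c d h1 h2 h => by
    refine Perm.perm_eq_of_commute_transitive (S := (fun m : G => (m : Equiv.Perm α)) '' M) (a := a)
      (fun x => ?_) (by rintro _ ⟨m, hm, rfl⟩; exact h1 m hm)
      (by rintro _ ⟨m, hm, rfl⟩; exact h2 m hm) h
    obtain ⟨s, hs, hsx⟩ := Perm.exists_mem_apply_eq M a x
    exact ⟨_, ⟨s, hs, rfl⟩, hsx⟩
  constructor
  · intro b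
    rw [Subgroup.eq_bot_iff_forall]
    intro n hn
    have h : ((n : G) : Equiv.Perm α) b = (1 : Equiv.Perm α) b := hn
    exact Subtype.ext (Subtype.ext (key b _ 1 (hc n n.2) (fun m _ => Commute.one_left _) h))
  · intro hNt a c h
    obtain ⟨s, hs, hsx⟩ := Perm.exists_mem_apply_eq N a (c a)
    exact ⟨s, hs, key a _ c (hc s hs) h hsx⟩

/-- Two distinct transitive minimal normal subgroups `M`, `N` of a permutation group are regular, non-abelian, isomorphic, each other's centraliser in the symmetric group, and the only minimal normal subgroups. -/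
theorem result {α : Type*} (G : Subgroup (Equiv.Perm α)) (M N : Subgroup G) [M.Normal] [N.Normal] (hM : M ≠ ⊥) (hN : N ≠ ⊥) (hMmin : ∀ L : Subgroup G, L.Normal → L ≤ M → L = ⊥ ∨ L = M) (hNmin : ∀ L : Subgroup G, L.Normal → L ≤ N → L = ⊥ ∨ L = N) (hMN : M ≠ N) (hMt : MulAction.IsPretransitive M α) (hNt : MulAction.IsPretransitive N α) : (∀ a : α, MulAction.stabilizer M a = ⊥) ∧ (∀ a : α, MulAction.stabilizer N a = ⊥) ∧ ¬ IsMulCommutative M ∧ Nonempty (M ≃* N) ∧ Subgroup.centralizer ((M.map G.subtype : Subgroup (Equiv.Perm α)) : Set (Equiv.Perm α)) = N.map G.subtype ∧ Subgroup.centralizer ((N.map G.subtype : Subgroup (Equiv.Perm α)) : Set (Equiv.Perm α)) = M.map G.subtype ∧ ∀ L : Subgroup G, L.Normal → L ≠ ⊥ → (∀ L' : Subgroup G, L'.Normal → L' ≤ L → L' = ⊥ ∨ L' = L) → L = M ∨ L = N := by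
  classical
  obtain ⟨a⟩ : Nonempty α := by
    by_contra h
    rw [not_nonempty_iff] at h
    exact hM ((Subgroup.eq_bot_iff_forall _).2 fun x _ => Subtype.ext (Equiv.ext fun y => h.elim y))
  have hdis : ∀ L K : Subgroup G, L.Normal → K.Normal → K ≠ ⊥ →
      (∀ J : Subgroup G, J.Normal → J ≤ L → J = ⊥ ∨ J = L) →
      (∀ J : Subgroup G, J.Normal → J ≤ K → J = ⊥ ∨ J = K) → L ≠ ⊥ → L ≠ K →
      ∀ l ∈ L, ∀ k ∈ K, Commute (l : Equiv.Perm α) k := by
    intro L K hLn hKn hK hLmin hKmin hL hne l hl k hk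
    haveI := hLn
    haveI := hKn
    have hd : Disjoint L K := by
      rw [disjoint_iff]
      rcases hLmin (L ⊓ K) inferInstance inf_le_left with h | h
      · exact h
      · exact absurd ((hKmin L hLn (h ▸ inf_le_right)).resolve_left hL) hne
    exact (Subgroup.commute_of_normal_of_disjoint L K hLn hKn hd l k hl hk).map G.subtype
  have hMN' : ∀ m ∈ M, ∀ n ∈ N, Commute (m : Equiv.Perm α) n :=
    hdis M N inferInstance inferInstance hN hMmin hNmin hM hMN
  have hNM' : ∀ n ∈ N, ∀ m ∈ M, Commute (n : Equiv.Perm α) m :=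
    fun n hn m hm => (hMN' m hm n hn).symm
  obtain ⟨rM, rN, cM, cN⟩ :
      (∀ b : α, MulAction.stabilizer M b = ⊥) ∧ (∀ b : α, MulAction.stabilizer N b = ⊥) ∧
      (∀ c : Equiv.Perm α, (∀ m ∈ M, Commute c m) → ∃ n ∈ N, (n : Equiv.Perm α) = c) ∧
      (∀ c : Equiv.Perm α, (∀ n ∈ N, Commute c n) → ∃ m ∈ M, (m : Equiv.Perm α) = c) :=
    ⟨(reg N M hNt hMN').1, (reg M N hMt hNM').1,
      fun c hc => (reg M N hMt hNM').2 hNt a c hc, fun c hc => (reg N M hNt hMN').2 hMt a c hc⟩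
  have hnab : ¬ IsMulCommutative M := by
    intro hab
    refine hMN ((hNmin M inferInstance fun m hm => ?_).resolve_left hM)
    obtain ⟨n, hn, hnm⟩ := cM m fun m' hm' => by
      have := hab.is_comm.comm (⟨m, hm⟩ : M) ⟨m', hm'⟩
      exact congrArg (fun z : M => ((z : G) : Equiv.Perm α)) this
    rwa [← Subtype.ext hnm]
  refine ⟨rM, rN, hnab, ?_, ?_, ?_, ?_⟩
  · -- the isomorphism
    have hex : ∀ m : M, ∃ n : N, ((n : G) : Equiv.Perm α) a = ((m : G) : Equiv.Perm α)⁻¹ a :=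
      fun m => by
        obtain ⟨n, hn⟩ := MulAction.exists_smul_eq N a (((m : G) : Equiv.Perm α)⁻¹ a)
        exact ⟨n, hn⟩
    choose f hf using hex
    have huniq : ∀ (b : α) (n n' : N), ((n : G) : Equiv.Perm α) b = ((n' : G) : Equiv.Perm α) b →
        n = n' := fun b n n' h => by
      have : n'⁻¹ * n ∈ MulAction.stabilizer N b := by
        show (((n' : G) : Equiv.Perm α)⁻¹ * ((n : G) : Equiv.Perm α)) b = b
        rw [Equiv.Perm.mul_apply, h, Equiv.Perm.inv_def, Equiv.symm_apply_apply]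
      rw [rN b, Subgroup.mem_bot, inv_mul_eq_one] at this
      exact this.symm
    have hmul : ∀ m m', f (m * m') = f m * f m' := fun m m' => by
      refine huniq a _ _ ?_
      rw [hf]
      simp only [Subgroup.coe_mul, mul_inv_rev, Equiv.Perm.mul_apply]
      have h1 := (hNM' _ (f m).2 _ (inv_mem m'.2)).eq
      have h2 := congrArg (fun z : Equiv.Perm α => z a) h1
      simp only [Subgroup.coe_inv, Equiv.Perm.mul_apply] at h2
      rw [hf m', h2, hf m]
    refine ⟨MulEquiv.ofBijective (MonoidHom.mk' f hmul) ⟨fun m m' h => ?_, fun n => ?_⟩⟩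
    · have h1 := congrArg (fun n : N => ((n : G) : Equiv.Perm α) a) h
      simp only [MonoidHom.mk'_apply, hf] at h1
      have : m * m'⁻¹ ∈ MulAction.stabilizer M a := by
        show (((m : G) : Equiv.Perm α) * ((m' : G) : Equiv.Perm α)⁻¹) a = a
        rw [Equiv.Perm.mul_apply, ← h1, Equiv.Perm.inv_def, Equiv.apply_symm_apply]
      rw [rM a, Subgroup.mem_bot, mul_inv_eq_one] at this
      exact this
    · obtain ⟨m, hm⟩ := MulAction.exists_smul_eq M a (((n : G) : Equiv.Perm α) a)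
      refine ⟨m⁻¹, huniq a _ _ ?_⟩
      rw [MonoidHom.mk'_apply, hf]
      simp only [Subgroup.coe_inv, inv_inv]
      exact hm
  · ext c
    rw [Subgroup.mem_centralizer_iff, Subgroup.mem_map]
    constructor
    · intro hc
      obtain ⟨n, hn, h⟩ := cM c fun m hm => (hc _ ⟨m, hm, rfl⟩).symm
      exact ⟨n, hn, h⟩
    · rintro ⟨n, hn, rfl⟩ _ ⟨m, hm, rfl⟩
      exact (hMN' m hm n hn).eq
  · ext c
    rw [Subgroup.mem_centralizer_iff, Subgroup.mem_map]
    constructor
    · intro hc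
      obtain ⟨m, hm, h⟩ := cN c fun n hn => (hc _ ⟨n, hn, rfl⟩).symm
      exact ⟨m, hm, h⟩
    · rintro ⟨m, hm, rfl⟩ _ ⟨n, hn, rfl⟩
      exact (hNM' n hn m hm).eq
  · intro L hLn hL hLmin
    by_contra hne
    rw [not_or] at hne
    refine hne.2 ((hNmin L hLn fun l hl => ?_).resolve_left hL)
    obtain ⟨n, hn, hnl⟩ := cM l fun m hm =>
      hdis L M hLn inferInstance hM hLmin hMmin hL hne.1 l hl m hm
    rwa [← Subtype.ext hnl]

end Cfsg.Agent.S0704
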