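import Cfsg.Statements.S0705
import Cfsg.Agent.Lib.Perm.Basic

set_option autoImplicit false
open scoped Pointwise
open Cfsg

namespace Cfsg.Agent.S0705

/-- A generously `k`-transitive permutation group (every `(k+1)`-subset has its full symmetric group induced by the setwise stabiliser) of degree greater than `k` is `k`-transitive, and for a `k`-subset the setwise and pointwise stabilisers have the same orbits outside it. -/
theorem result {α : Type*} [Fintype α] [DecidableEq α] (G : Subgroup (Equiv.Perm α)) {k : ℕ} (hk : k < Fintype.card α) (hgen : ∀ s : Finset α, s.card = k + 1 → ∀ σ : Equiv.Perm ↥s, ∃ g ∈ G, ∀ x : ↥s, g (x : α) = σ x) : MulAction.IsMultiplyPretransitive G α k ∧ ∀ s : Finset α, s.card = k → ∀ a b : α, a ∉ s → b ∉ s → (∃ g ∈ G, g • s = s ∧ g a = b) → ∃ g ∈ G, (∀ x ∈ s, g x = x) ∧ g a = b := by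
  classical
  refine ⟨Perm.isMultiplyPretransitive_of_fixing fun T hT x y hx hy => ?_, ?_⟩
  · by_cases hxy : x = y
    · exact ⟨1, fun t _ => rfl, hxy⟩
    obtain ⟨S, hTS, hS⟩ := Finset.exists_superset_card_eq (s := insert x (insert y T)) (n := k + 1)
      (by rw [Finset.card_insert_of_notMem (by simp [hxy, hx]), Finset.card_insert_of_notMem hy]
          omega) hk
    obtain ⟨g, hg, hg'⟩ := hgen S hS (Equiv.swap ⟨x, hTS (Finset.mem_insert_self _ _)⟩
      ⟨y, hTS (Finset.mem_insert_of_mem (Finset.mem_insert_self _ _))⟩)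
    refine ⟨⟨g, hg⟩, fun t ht => ?_, ?_⟩
    · show g t = t
      have := hg' ⟨t, hTS (Finset.mem_insert_of_mem (Finset.mem_insert_of_mem ht))⟩
      rw [Equiv.swap_apply_of_ne_of_ne] at this
      · exact this
      · simpa using fun h : t = x => hx (h ▸ ht)
      · simpa using fun h : t = y => hy (h ▸ ht)
    · show g x = y
      simpa using hg' ⟨x, hTS (Finset.mem_insert_self _ _)⟩
  · rintro s hs a b ha hb ⟨g, hg, hgs, hgab⟩
    have hmem : ∀ x, g x ∈ s ↔ x ∈ s := fun x => by
      conv_lhs => rw [← hgs]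
      exact Finset.smul_mem_smul_finset_iff g
    have hinv : ∀ x, g⁻¹ x ∈ s ↔ x ∈ s := fun x => by
      rw [← hmem]
      simp
    let τ : Equiv.Perm α := Equiv.Perm.ofSubtype (g⁻¹.subtypePerm (p := (· ∈ s)) hinv)
    have hτa : τ a = a := Equiv.Perm.ofSubtype_apply_of_not_mem _ ha
    have hτs : ∀ x ∈ s, τ x = g⁻¹ x := fun x hx => by
      simp only [τ]
      rw [Equiv.Perm.ofSubtype_apply_of_mem _ hx]
      rfl
    have hτ : ∀ x, τ x ∈ insert a s ↔ x ∈ insert a s := fun x => by
      by_cases hx : x ∈ s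
      · rw [hτs x hx]
        exact ⟨fun _ => Finset.mem_insert_of_mem hx, fun _ => Finset.mem_insert_of_mem ((hinv x).2 hx)⟩
      · rw [show τ x = x from Equiv.Perm.ofSubtype_apply_of_not_mem _ hx]
    obtain ⟨h, hh, hh'⟩ := hgen (insert a s) (by rw [Finset.card_insert_of_notMem ha, hs])
      (τ.subtypePerm (p := (· ∈ insert a s)) hτ)
    refine ⟨g * h, mul_mem hg hh, fun x hx => ?_, ?_⟩
    · have := hh' ⟨x, Finset.mem_insert_of_mem hx⟩
      rw [Equiv.Perm.subtypePerm_apply] at this
      simp only at this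
      rw [Equiv.Perm.mul_apply, this, hτs x hx]
      simp
    · have := hh' ⟨a, Finset.mem_insert_self _ _⟩
      rw [Equiv.Perm.subtypePerm_apply] at this
      simp only at this
      rw [Equiv.Perm.mul_apply, this, hτa, hgab]

end Cfsg.Agent.S0705
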