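import Cfsg.Statements.S0706
import Mathlib

set_option autoImplicit false
open Cfsg

namespace Cfsg.Agent.S0706


open MulAction
open scoped Pointwise

set_option synthInstance.maxHeartbeats 400000
set_option maxHeartbeats 1000000


/-- In a generously `k`-transitive permutation group, for a prime `p ≤ k` and a `k`-set `Γ`, there are no `p` points outside `Γ` lying in distinct orbits of the pointwise stabiliser of `Γ` all of length prime to `p` (at most `p - 1` such orbits). -/
theorem result {α : Type*} [Fintype α] [DecidableEq α] (G : Subgroup (Equiv.Perm α)) {k : ℕ} (hk : k < Fintype.card α) (hgen : ∀ s : Finset α, s.card = k + 1 → ∀ σ : Equiv.Perm ↥s, ∃ g ∈ G, ∀ x : ↥s, g (x : α) = σ x) {p : ℕ} (hp : p.Prime) (hpk : p ≤ k) (Γ : Finset α) (hΓ : Γ.card = k) (f : Fin p → α) (hf : ∀ i, f i ∉ Γ) (hdist : ∀ i j, i ≠ j → f j ∉ MulAction.orbit (fixingSubgroup G (Γ : Set α)) (f i)) : ∃ i, p ∣ Nat.card (MulAction.orbit (fixingSubgroup G (Γ : Set α)) (f i)) := by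
  classical
  haveI : Fact p.Prime := ⟨hp⟩
  by_contra hall
  push Not at hall
  -- any permutation of a (k+1)-set
  have hswap : ∀ (s : Finset α), s.card = k + 1 → ∀ τ : Equiv.Perm α, (∀ x, τ x ≠ x → x ∈ s) →
      ∃ g ∈ G, ∀ x ∈ s, g x = τ x := by
    intro s hs τ hτ
    have hpres : ∀ x, x ∈ s ↔ τ x ∈ s := by
      intro x
      by_cases e : τ x = x
      · rw [e]
      · exact iff_of_true (hτ x e) (hτ (τ x) (fun e' => e (τ.injective e')))
    obtain ⟨g, hg, hgx⟩ := hgen s hs (τ.subtypePerm (fun x => (hpres x).symm))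
    exact ⟨g, hg, fun x hx => hgx ⟨x, hx⟩⟩
  -- k-homogeneity
  have hhom : ∀ (m : ℕ) (A B : Finset α), A.card = k → B.card = k → (A \ B).card = m →
      ∃ g ∈ G, A.image g = B := by
    intro m
    induction m with
    | zero =>
      intro A B hA hB h0
      rw [Finset.card_eq_zero, Finset.sdiff_eq_empty_iff_subset] at h0
      exact ⟨1, G.one_mem, by simpa using Finset.eq_of_subset_of_card_le h0 (by omega)⟩
    | succ m ih =>
      intro A B hA hB hm
      obtain ⟨x, hx⟩ := Finset.card_pos.1 (show 0 < (A \ B).card by omega)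
      have hBA : (B \ A).card = m + 1 := by
        rw [Finset.card_sdiff_comm (hB.trans hA.symm)]; exact hm
      obtain ⟨y, hy⟩ := Finset.card_pos.1 (show 0 < (B \ A).card by omega)
      rw [Finset.mem_sdiff] at hx hy
      obtain ⟨g, hg, hgs⟩ := hswap (insert y A) (by rw [Finset.card_insert_of_notMem hy.2, hA]) (Equiv.swap x y)
        (fun z hz => by
          rcases eq_or_ne z x with rfl | h1
          · exact Finset.mem_insert_of_mem hx.1
          rcases eq_or_ne z y with rfl | h2
          · exact Finset.mem_insert_self _ _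
          exact absurd (Equiv.swap_apply_of_ne_of_ne h1 h2) hz)
      have himg : A.image g = insert y (A.erase x) := by
        ext z
        simp only [Finset.mem_image, Finset.mem_insert, Finset.mem_erase]
        constructor
        · rintro ⟨u, hu, rfl⟩
          rw [hgs u (Finset.mem_insert_of_mem hu)]
          rcases eq_or_ne u x with rfl | hux
          · exact Or.inl (Equiv.swap_apply_left _ _)
          · rw [Equiv.swap_apply_of_ne_of_ne hux (fun e => hy.2 (by rw [← e]; exact hu))]
            exact Or.inr ⟨hux, hu⟩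
        · rintro (rfl | ⟨hzx, hz⟩)
          · exact ⟨x, hx.1, by rw [hgs x (Finset.mem_insert_of_mem hx.1), Equiv.swap_apply_left]⟩
          · exact ⟨z, hz, by rw [hgs z (Finset.mem_insert_of_mem hz), Equiv.swap_apply_of_ne_of_ne hzx (fun e => hy.2 (by rw [← e]; exact hz))]⟩
      have hcard' : (A.image g).card = k := by rw [Finset.card_image_of_injective _ g.injective, hA]
      obtain ⟨g', hg', h'⟩ := ih (A.image g) B hcard' hB (by
        rw [himg, Finset.insert_sdiff_of_mem _ hy.1, Finset.erase_sdiff_comm,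
          Finset.card_erase_of_mem (Finset.mem_sdiff.2 hx), hm]
        rfl)
      exact ⟨g' * g, G.mul_mem hg' hg, by rw [← h', Finset.image_image]; rfl⟩
  set K : Subgroup G := fixingSubgroup G (Γ : Set α) with hK
  have hmemK : ∀ g : G, g ∈ K ↔ ∀ z ∈ Γ, (g : Equiv.Perm α) z = z := fun g => by
    rw [hK, mem_fixingSubgroup_iff]; rfl
  obtain ⟨C, hCΓ, hC⟩ := Finset.exists_subset_card_eq (show p ≤ Γ.card by omega)
  -- a p-cycle on C
  obtain ⟨c, hc⟩ : ∃ c : Fin p → α, Function.Injective c ∧ Finset.univ.image c = C := by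
    let e := C.equivFinOfCardEq hC
    refine ⟨fun i => (e.symm i : α), fun i j h => e.symm.injective (Subtype.ext h), ?_⟩
    ext z
    simp only [Finset.mem_image, Finset.mem_univ, true_and]
    exact ⟨fun ⟨i, hi⟩ => hi ▸ (e.symm i).2, fun hz => ⟨e ⟨z, hz⟩, by simp⟩⟩
  set τ : Equiv.Perm α := (finRotate p).extendDomain (Equiv.ofInjective c hc.1) with hτ
  have hτC : ∀ z, τ z ≠ z → z ∈ C := by
    intro z hz
    rw [← hc.2]
    by_contra hzc
    apply hz
    refine Equiv.Perm.extendDomain_apply_not_subtype _ _ ?_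
    rintro ⟨i, rfl⟩
    exact hzc (Finset.mem_image_of_mem c (Finset.mem_univ i))
  have hτne : ∃ z ∈ C, τ z ≠ z := by
    let i0 : Fin p := ⟨0, hp.pos⟩
    refine ⟨c i0, hc.2 ▸ Finset.mem_image_of_mem c (Finset.mem_univ i0), ?_⟩
    rw [hτ, show c i0 = ((Equiv.ofInjective c hc.1 i0 : Set.range c) : α) from rfl, Equiv.Perm.extendDomain_apply_image]
    intro e
    have e' := (Equiv.ofInjective c hc.1).injective (Subtype.ext e)
    have : i0 ∈ (finRotate p).support := by
      obtain ⟨q, rfl⟩ : ∃ q, p = q + 2 := ⟨p - 2, by have := hp.two_le; omega⟩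
      rw [support_finRotate]; exact Finset.mem_univ _
    exact Equiv.Perm.mem_support.1 this e'
  have hτp : τ ^ p = 1 := by
    have h1 : (finRotate p) ^ p = 1 := by
      obtain ⟨q, rfl⟩ : ∃ q, p = q + 2 := ⟨p - 2, by have := hp.two_le; omega⟩
      have := pow_orderOf_eq_one (finRotate (q + 2))
      rwa [isCycle_finRotate.orderOf, support_finRotate, Finset.card_univ, Fintype.card_fin] at this
    rw [hτ, ← Equiv.Perm.extendDomainHom_apply, ← map_pow, h1, map_one]
  -- realisations fixing a point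
  have hreal : ∀ z ∉ Γ, ∃ g : G, (∀ x ∈ Γ, (g : Equiv.Perm α) x = τ x) ∧ (g : Equiv.Perm α) z = z := by
    intro z hz
    obtain ⟨g, hg, hgs⟩ := hswap (insert z Γ) (by rw [Finset.card_insert_of_notMem hz, hΓ]) τ
      (fun x hx => Finset.mem_insert_of_mem (hCΓ (hτC x hx)))
    refine ⟨⟨g, hg⟩, fun x hx => hgs x (Finset.mem_insert_of_mem hx), ?_⟩
    show g z = z
    rw [hgs z (Finset.mem_insert_self _ _)]
    by_contra hne
    exact hz (hCΓ (hτC z hne))
  have hτΓ : ∀ x ∈ Γ, τ x ∈ Γ := by
    intro x hx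
    by_cases e : τ x = x
    · rwa [e]
    · exact hCΓ (hτC _ (fun e' => e (τ.injective e')))
  obtain ⟨h, hh, -⟩ := hreal (f ⟨0, hp.pos⟩) (hf _)
  have hnormK : ∀ g : G, (∀ x ∈ Γ, (g : Equiv.Perm α) x = τ x) → ∀ u ∈ K, g * u * g⁻¹ ∈ K := by
    intro g hg u hu
    rw [hmemK] at hu ⊢
    intro z hz
    obtain ⟨x, hx, rfl⟩ : ∃ x ∈ Γ, (g : Equiv.Perm α) x = z := by
      have hsub : Γ.image (g : Equiv.Perm α) = Γ :=
        Finset.eq_of_subset_of_card_le (fun w hw => by
          obtain ⟨x, hx, rfl⟩ := Finset.mem_image.1 hw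
          rw [hg x hx]; exact hτΓ x hx) (by rw [Finset.card_image_of_injective _ (g : Equiv.Perm α).injective])
      exact Finset.mem_image.1 (by rw [hsub]; exact hz)
    simp [hu x hx]
  -- h preserves the orbit of K on every point outside Γ
  have horb : ∀ z ∉ Γ, ∀ y ∈ orbit K z, (h : Equiv.Perm α) y ∈ orbit K z := by
    intro z hz y hy
    obtain ⟨u, rfl⟩ := hy
    obtain ⟨g, hg, hgz⟩ := hreal z hz
    have hk1 : g⁻¹ * h ∈ K := by
      rw [hmemK]
      intro x hx
      show ((g : Equiv.Perm α)⁻¹ * (h : Equiv.Perm α)) x = x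
      rw [Equiv.Perm.mul_apply, hh x hx, ← hg x hx, Equiv.Perm.inv_def, Equiv.symm_apply_apply]
    refine ⟨⟨g * (g⁻¹ * h * u) * g⁻¹, hnormK g hg _ (K.mul_mem hk1 u.2)⟩, ?_⟩
    show ((g : Equiv.Perm α) * ((g : Equiv.Perm α)⁻¹ * (h : Equiv.Perm α) * ((u : G) : Equiv.Perm α)) * (g : Equiv.Perm α)⁻¹) z =
      (h : Equiv.Perm α) (((u : G) : Equiv.Perm α) z)
    have : (g : Equiv.Perm α)⁻¹ z = z := by
      conv_lhs => rw [← hgz]
      simp
    simp [Equiv.Perm.mul_apply, this]
  -- the group M = ⟨K, h⟩ and its Sylow subgroup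
  set M : Subgroup G := K ⊔ Subgroup.zpowers h with hM
  haveI hKn : (K.subgroupOf M).Normal := by
    refine Subgroup.normal_subgroupOf_of_le_normalizer (sup_le Subgroup.le_normalizer (Subgroup.zpowers_le.2 ?_))
    exact Subgroup.mem_normalizer_iff.2 fun u => ⟨fun hu => hnormK h hh u hu, fun hu => by
      let ψ : K → K := fun v => ⟨h * v * h⁻¹, hnormK h hh v v.2⟩
      have hψ : Function.Surjective ψ := Finite.surjective_of_injective fun v w e =>
        Subtype.ext (by simpa [ψ] using congrArg Subtype.val e)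
      obtain ⟨v, hv⟩ := hψ ⟨_, hu⟩
      have : (v : G) = u := by simpa [ψ] using congrArg Subtype.val hv
      exact this ▸ v.2⟩
  have hhK : h ∉ K := by
    obtain ⟨z, hz, hzne⟩ := hτne
    exact fun e => hzne ((hh z (hCΓ hz)).symm.trans ((hmemK h).1 e z (hCΓ hz)))
  have hhp : h ^ p ∈ K := by
    rw [hmemK]
    have key : ∀ (j : ℕ) (x : α), x ∈ Γ → ((h ^ j : G) : Equiv.Perm α) x = (τ ^ j) x ∧ (τ ^ j) x ∈ Γ := by
      intro j
      induction j with
      | zero => intro x hx; exact ⟨rfl, hx⟩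
      | succ j ih =>
        intro x hx
        obtain ⟨e1, e2⟩ := ih x hx
        rw [pow_succ' h, pow_succ' τ, Subgroup.coe_mul, Equiv.Perm.mul_apply, Equiv.Perm.mul_apply, e1]
        exact ⟨hh _ e2, hτΓ _ e2⟩
    intro x hx
    rw [(key p x hx).1, hτp]; rfl
  obtain ⟨Q⟩ := (inferInstance : Nonempty (Sylow p M))
  have hQK : ¬ (Q : Subgroup M) ≤ K.subgroupOf M := by
    intro hle
    have hidx : p ∣ (K.subgroupOf M).index := by
      have hord : orderOf (QuotientGroup.mk' (K.subgroupOf M) ⟨h, Subgroup.mem_sup_right (Subgroup.mem_zpowers h)⟩) = p := by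
        refine orderOf_eq_prime ?_ fun e => hhK ((QuotientGroup.eq_one_iff (⟨h, Subgroup.mem_sup_right (Subgroup.mem_zpowers h)⟩ : M)).1 e)
        rw [← map_pow]
        exact (QuotientGroup.eq_one_iff _).2 hhp
      rw [Subgroup.index_eq_card, ← hord]
      exact orderOf_dvd_natCard _
    exact Q.not_dvd_index (hidx.trans (Subgroup.index_dvd_of_le hle))
  -- fixed points of Q
  have hMorb : ∀ z ∉ Γ, ∀ g ∈ M, ∀ y ∈ orbit K z, (g : Equiv.Perm α) y ∈ orbit K z := by
    intro z hz g hg
    let S : Subgroup G :=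
      { carrier := {g | ∀ y, y ∈ orbit K z ↔ (g : Equiv.Perm α) y ∈ orbit K z}
        one_mem' := fun y => by simp
        mul_mem' := fun {u v} hu hv y => by rw [hv y, hu]; rfl
        inv_mem' := fun {u} hu y => by rw [hu (((u⁻¹ : G) : Equiv.Perm α) y)]; simp }
    have hle : M ≤ S := by
      refine sup_le (fun u hu y => ?_) (Subgroup.zpowers_le.2 fun y => ?_)
      · constructor
        · intro hy; exact (mem_orbit_of_mem_orbit (⟨u, hu⟩ : K) hy)
        · intro hy
          have := mem_orbit_of_mem_orbit (⟨u, hu⟩ : K)⁻¹ hy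
          simpa [Subgroup.smul_def] using this
      · refine ⟨horb z hz y, fun hy => ?_⟩
        let ψ : orbit K z → orbit K z := fun w => ⟨(h : Equiv.Perm α) w, horb z hz w w.2⟩
        obtain ⟨w, hw⟩ := Finite.surjective_of_injective (f := ψ)
          (fun w w' e => Subtype.ext ((h : Equiv.Perm α).injective (congrArg Subtype.val e))) ⟨_, hy⟩
        exact (h : Equiv.Perm α).injective (congrArg Subtype.val hw) ▸ w.2
    exact fun y hy => (hle hg y).1 hy
  have hfixpt : ∀ i, ∃ e ∈ orbit K (f i), ∀ g ∈ (Q : Subgroup M), ((g : G) : Equiv.Perm α) e = e := by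
    intro i
    let S : SubMulAction (Q : Subgroup M) α :=
      { carrier := orbit K (f i)
        smul_mem' := fun g y hy => hMorb (f i) (hf i) ((g : M) : G) (g : M).2 y hy }
    have hnd : ¬ p ∣ Nat.card S := hall i
    obtain ⟨e, he⟩ := Q.2.nonempty_fixed_point_of_prime_not_dvd_card S hnd
    exact ⟨e, e.2, fun g hg => congrArg Subtype.val (he ⟨g, hg⟩)⟩
  choose e heo hefix using hfixpt
  have heΓ : ∀ i, e i ∉ Γ := by
    intro i hi
    obtain ⟨u, hu⟩ := heo i
    have hu' : ((u : G) : Equiv.Perm α) (f i) = e i := hu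
    have := (hmemK u).1 u.2 (e i) hi
    exact hf i (((u : G) : Equiv.Perm α).injective (hu'.trans this.symm) ▸ hi)
  have heinj : Function.Injective e := by
    intro i j hij
    by_contra hne
    refine hdist i j hne (mem_orbit_symm.1 ?_)
    have h1 : orbit K (e i) = orbit K (f i) := orbit_eq_iff.2 (heo i)
    have h2 : orbit K (e j) = orbit K (f j) := orbit_eq_iff.2 (heo j)
    rw [← h2, ← hij, h1]; exact mem_orbit_self _
  set Δ : Finset α := (Γ \ C) ∪ Finset.univ.image e with hΔ
  have hΔc : Δ.card = k := by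
    rw [hΔ, Finset.card_union_of_disjoint, Finset.card_sdiff_of_subset hCΓ, Finset.card_image_of_injective _ heinj,
      Finset.card_univ, Fintype.card_fin, hΓ, hC]
    · omega
    · refine Finset.disjoint_left.2 fun z hz hz' => ?_
      obtain ⟨i, -, rfl⟩ := Finset.mem_image.1 hz'
      exact heΓ i (Finset.mem_sdiff.1 hz).1
  obtain ⟨g, hg, hgΔ⟩ := hhom (Γ \ Δ).card Γ Δ hΓ hΔc rfl
  -- Q fixes Δ, so lies in a conjugate of K
  have hQfix : ∀ u ∈ (Q : Subgroup M), (⟨g, hg⟩ : G)⁻¹ * (u : G) * ⟨g, hg⟩ ∈ K := by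
    intro u hu
    rw [hmemK]
    intro z hz
    have hzΔ : g z ∈ Δ := hgΔ ▸ Finset.mem_image_of_mem g hz
    have hfixz : ((u : G) : Equiv.Perm α) (g z) = g z := by
      rw [hΔ, Finset.mem_union] at hzΔ
      rcases hzΔ with h' | h'
      · -- M fixes Γ \ C pointwise
        obtain ⟨hzΓ, hzC⟩ := Finset.mem_sdiff.1 h'
        have hle : M ≤ stabilizer G (g z) := by
          refine sup_le (fun v hv => (hmemK v).1 hv _ hzΓ) (Subgroup.zpowers_le.2 ?_)
          show (h : Equiv.Perm α) (g z) = g z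
          rw [hh _ hzΓ]
          by_contra hne
          exact hzC (hτC _ hne)
        exact hle u.2
      · obtain ⟨i, -, hi⟩ := Finset.mem_image.1 h'
        rw [← hi]; exact hefix i u hu
    show (g⁻¹ * ((u : G) : Equiv.Perm α) * g) z = z
    rw [Equiv.Perm.mul_apply, Equiv.Perm.mul_apply, hfixz]
    simp
  apply hQK
  -- compare orders
  have h1 : Nat.card (Q : Subgroup M) ∣ Nat.card K := by
    let φ : (Q : Subgroup M) →* K :=
      { toFun := fun u => ⟨_, hQfix u u.2⟩
        map_one' := Subtype.ext (by simp)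
        map_mul' := fun u v => Subtype.ext (by simp [mul_assoc]) }
    refine Subgroup.card_dvd_of_injective φ fun u v e => Subtype.ext (Subtype.ext ?_)
    exact mul_left_cancel (mul_right_cancel (congrArg Subtype.val e : (⟨g, hg⟩ : G)⁻¹ * ((u : M) : G) * ⟨g, hg⟩ = _))
  exfalso
  have hKM : K ≤ M := le_sup_left
  have hcardM : Nat.card M = Nat.card K * (K.subgroupOf M).index := by
    rw [← (K.subgroupOf M).card_mul_index, Nat.card_congr (Subgroup.subgroupOfEquivOfLe hKM).toEquiv]
  have hidx : p ∣ (K.subgroupOf M).index := by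
    have hord : orderOf (QuotientGroup.mk' (K.subgroupOf M) ⟨h, Subgroup.mem_sup_right (Subgroup.mem_zpowers h)⟩) = p := by
      refine orderOf_eq_prime ?_ fun e => hhK ((QuotientGroup.eq_one_iff (⟨h, Subgroup.mem_sup_right (Subgroup.mem_zpowers h)⟩ : M)).1 e)
      rw [← map_pow]
      exact (QuotientGroup.eq_one_iff _).2 hhp
    rw [Subgroup.index_eq_card, ← hord]
    exact orderOf_dvd_natCard _
  rw [Q.card_eq_multiplicity, hcardM, Nat.factorization_mul Nat.card_pos.ne' Subgroup.index_ne_zero_of_finite,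
    Finsupp.add_apply] at h1
  have h2 := (hp.pow_dvd_iff_le_factorization Nat.card_pos.ne').1 h1
  have h3 := hp.factorization_pos_of_dvd Subgroup.index_ne_zero_of_finite hidx
  omega

end Cfsg.Agent.S0706
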