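import Cfsg.Statements.S0707
import Cfsg.Agent.Lib.Perm.Basic

set_option autoImplicit false
open Cfsg

namespace Cfsg.Agent.S0707

/-- In a primitive permutation group, distinct points have distinct stabilisers unless the group is regular of prime degree. -/
theorem result {α : Type*} (G : Subgroup (Equiv.Perm α)) [MulAction.IsPreprimitive G α] (h : ¬ (Nat.card α).Prime ∨ ∃ a : α, MulAction.stabilizer G a ≠ ⊥) {a b : α} (hab : a ≠ b) : MulAction.stabilizer G a ≠ MulAction.stabilizer G b := by
  classical
  intro he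
  haveI : Nontrivial α := ⟨⟨a, b, hab⟩⟩
  set S := MulAction.stabilizer G a with hSdef
  have hco : IsCoatom S := MulAction.IsPreprimitive.isCoatom_stabilizer_of_isPreprimitive G a
  obtain ⟨g, hg⟩ := MulAction.exists_smul_eq G a b
  have hgS : g ∉ S := fun hh => hab (((MulAction.mem_stabilizer_iff.1 hh).symm).trans hg)
  have hgN : g ∈ Subgroup.normalizer (S : Set G) := by
    refine Subgroup.mem_normalizer_iff.2 fun x => ?_
    show x ∈ S ↔ g * x * g⁻¹ ∈ S
    conv_rhs => rw [he]
    rw [hSdef]
    rw [MulAction.mem_stabilizer_iff, MulAction.mem_stabilizer_iff, ← hg, mul_smul, mul_smul,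
      inv_smul_smul, smul_left_cancel_iff]
  haveI hSn : S.Normal := by
    refine Subgroup.normalizer_eq_top_iff.1 ((hco.le_iff.1 Subgroup.le_normalizer).resolve_right ?_)
    intro hh
    exact hgS (hh ▸ hgN)
  have hbot : ∀ c : α, MulAction.stabilizer G c = ⊥ := by
    have h1 : ∀ c : α, S ≤ MulAction.stabilizer G c := fun c s hs => by
      obtain ⟨u, rfl⟩ := MulAction.exists_smul_eq G a c
      have := hSn.conj_mem s hs u⁻¹
      rw [inv_inv, MulAction.mem_stabilizer_iff, mul_smul, mul_smul, inv_smul_eq_iff] at this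
      exact this
    have hS : S = ⊥ := (Subgroup.eq_bot_iff_forall _).2 fun s hs =>
      Perm.coe_eq_one_iff.2 fun c => h1 c hs
    intro c
    obtain ⟨u, rfl⟩ := MulAction.exists_smul_eq G a c
    rw [Subgroup.eq_bot_iff_forall]
    intro s hs
    have : u⁻¹ * s * u ∈ S := by
      rw [MulAction.mem_stabilizer_iff, mul_smul, mul_smul, show s • u • a = u • a from hs,
        inv_smul_smul]
    rw [hS, Subgroup.mem_bot] at this
    calc s = u * (u⁻¹ * s * u) * u⁻¹ := by group
      _ = 1 := by rw [this]; group
  rcases h with h | ⟨c, hc⟩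
  · apply h
    haveI : Nontrivial G := ⟨⟨g, 1, fun hh => hgS (hh ▸ one_mem S)⟩⟩
    have hcard : Nat.card α = Nat.card G :=
      (Nat.card_congr (Equiv.ofBijective (fun u : G => u • a) ⟨fun u v huv => ?_,
        MulAction.exists_smul_eq G a⟩)).symm
    · have hcoat : IsCoatom (⊥ : Subgroup G) := hbot a ▸ hco
      haveI : IsSimpleGroup G := ⟨fun H _ => hcoat.le_iff.1 bot_le |>.symm⟩
      have hzp : ∀ u : G, u ≠ 1 → Subgroup.zpowers u = ⊤ := fun u hu =>
        (hcoat.le_iff.1 bot_le).resolve_right fun hh =>
          hu (Subgroup.mem_bot.1 (hh ▸ Subgroup.mem_zpowers u))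
      have hcomm : ∀ u v : G, u * v = v * u := fun u v => by
        by_cases hu : u = 1
        · simp [hu]
        · obtain ⟨n, rfl⟩ := Subgroup.mem_zpowers_iff.1 (hzp u hu ▸ Subgroup.mem_top v)
          exact (Commute.self_zpow u n).eq
      letI : CommGroup G := { (inferInstance : Group G) with mul_comm := hcomm }
      rw [hcard]
      exact IsSimpleGroup.prime_card
    · have h2 : v⁻¹ * u ∈ MulAction.stabilizer G a := by
        rw [MulAction.mem_stabilizer_iff, mul_smul]
        simp only at huv
        rw [huv, inv_smul_smul]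
      rw [hbot a, Subgroup.mem_bot, inv_mul_eq_one] at h2
      exact h2.symm
  · exact hc (hbot c)

end Cfsg.Agent.S0707
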