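import Cfsg.Statements.S0708
import Cfsg.Agent.Lib.Perm.HallFour
-- import your own Cfsg.Agent.* helpers here

set_option autoImplicit false
open Cfsg

namespace Cfsg.Agent.S0708

open Cfsg.Agent.Perm.HallFour

/-- Tits' argument: a sharply 4-transitive group (no finiteness assumed) has finite degree at most 11, and at most 6 when the degree is even. -/
theorem result {G : Type*} [Group G] {Ω : Type*} [MulAction G Ω] (h4 : MulAction.IsMultiplyPretransitive G Ω 4) (hsharp : ∀ x : Fin 4 ↪ Ω, MulAction.stabilizer G x = ⊥) (hne : Nonempty (Fin 4 ↪ Ω)) : Finite Ω ∧ Nat.card Ω ≤ 11 ∧ (Even (Nat.card Ω) → Nat.card Ω ≤ 6) := by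
  classical
  obtain ⟨x₀⟩ := hne
  have hfix : ∀ (g : G) (a b c d : Ω), [a, b, c, d].Nodup → g • a = a → g • b = b → g • c = c →
      g • d = d → g = 1 := by
    intro g a b c d hn ha hb hc hd
    let x : Fin 4 ↪ Ω := ⟨fun i => [a, b, c, d].get i, List.nodup_iff_injective_get.1 hn⟩
    have hmem : g ∈ MulAction.stabilizer G x := by
      rw [MulAction.mem_stabilizer_iff]
      refine Function.Embedding.ext fun i => ?_
      rw [Function.Embedding.smul_apply]
      fin_cases i <;> assumption
    rw [hsharp x] at hmem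
    exact Subgroup.mem_bot.1 hmem
  have H : H4 G Ω := by
    refine ⟨fun g hg => ?_, fun a b c d a' b' c' d' hn hn' => ?_,
      fun g a b c d hn ha hb hc hd => ?_⟩
    · have hmem : g ∈ MulAction.stabilizer G x₀ := by
        rw [MulAction.mem_stabilizer_iff]
        exact Function.Embedding.ext fun i => by rw [Function.Embedding.smul_apply, hg]
      rw [hsharp x₀] at hmem
      exact Subgroup.mem_bot.1 hmem
    · let x : Fin 4 ↪ Ω := ⟨fun i => [a, b, c, d].get i, List.nodup_iff_injective_get.1 hn⟩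
      let y : Fin 4 ↪ Ω := ⟨fun i => [a', b', c', d'].get i, List.nodup_iff_injective_get.1 hn'⟩
      obtain ⟨g, hg⟩ := MulAction.exists_smul_eq G x y
      exact ⟨g, DFunLike.congr_fun hg 0, DFunLike.congr_fun hg 1, DFunLike.congr_fun hg 2,
        DFunLike.congr_fun hg 3⟩
    · rw [hfix g a b c d hn ha hb hc hd, orderOf_one]
      exact odd_one
  have heq : ∀ (T U : G) (a b c d : Ω), [a, b, c, d].Nodup → U * U = 1 → T • U • a = a →
      T • U • b = b → T • U • c = c → T • U • d = d → T = U := by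
    intro T U a b c d hn hU ha hb hc hd
    have := hfix (T * U) a b c d hn (by rwa [mul_smul]) (by rwa [mul_smul]) (by rwa [mul_smul])
      (by rwa [mul_smul])
    rw [mul_eq_one_iff_eq_inv.1 this, inv_eq_of_mul_eq_one_left hU]
  by_cases h3 : ∃ z : G, z * z = 1 ∧ z ≠ 1 ∧ (Fx z Ω).ncard = 3
  · obtain ⟨z, hz, hz1, hz3⟩ := h3
    obtain ⟨y₀, hy₀⟩ : ∃ y : Ω, z • y ≠ y := by
      by_contra hcon
      push Not at hcon
      exact hz1 (H.faithful z hcon)
    obtain ⟨hfin, hle⟩ := moved_bound H hz hy₀ (Fx_finite H hz hz1)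
      (fun T hT hzT => exists_fixed_three hT (fun x hx => smul_mem_Fx_of_commute hzT.symm hx) hz3)
      (by
        intro T U x hx hT hU hT1 hU1 hzT hzU Ta Ua Tb Ub Tx Ux
        obtain ⟨p, q, r, hpq, hpr, hqr, hF⟩ := Set.ncard_eq_three.1 hz3
        obtain ⟨b, c, hxb, hF'⟩ : ∃ b c, x ≠ b ∧ Fx z Ω = {x, b, c} := by
          rw [hF] at hx
          rcases hx with rfl | rfl | rfl
          · exact ⟨q, r, hpq, hF⟩
          · exact ⟨p, r, Ne.symm hpq, hF.trans (Set.insert_comm _ _ _)⟩
          · refine ⟨p, q, Ne.symm hpr, hF.trans ?_⟩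
            ext w
            simp only [Set.mem_insert_iff, Set.mem_singleton_iff]
            tauto
        have hb : b ∈ Fx z Ω := by rw [hF']; simp
        have e1 := swap_other H hT hT1 hzT hy₀ Ta Tb hF' hxb Tx
        have e2 := swap_other H hU hU1 hzU hy₀ Ua Ub hF' hxb Ux
        refine heq T U y₀ (z • y₀) x b (nodup4 (Ne.symm hy₀) ?_ ?_ ?_ ?_ hxb) hU ?_ ?_ ?_ ?_
        · rintro rfl; exact hy₀ hx
        · rintro rfl; exact hy₀ hb
        · intro e; exact hy₀ ((MulAction.injective z) (show z • z • y₀ = z • y₀ by rw [e]; exact hx))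
        · intro e; exact hy₀ ((MulAction.injective z) (show z • z • y₀ = z • y₀ by rw [e]; exact hb))
        · rw [Ua, Ta]
        · rw [Ub, Tb]
        · rw [Ux, Tx]
        · rw [e2, ← e1, smul_smul_of_mul_self hT])
    refine ⟨hfin, by omega, fun heven => ?_⟩
    have := Fx_parity (Ω := Ω) hz
    rw [hz3, Nat.even_iff.1 heven] at this
    exact absurd this (by decide)
  · have hn : [x₀ 0, x₀ 1, x₀ 2, x₀ 3].Nodup :=
      nodup4 (x₀.injective.ne (by decide)) (x₀.injective.ne (by decide))
        (x₀.injective.ne (by decide)) (x₀.injective.ne (by decide)) (x₀.injective.ne (by decide))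
        (x₀.injective.ne (by decide))
    obtain ⟨z, hz, z0, z1, z2, z3⟩ := exists_refl H hn
    have hy₀ : z • x₀ 0 ≠ x₀ 0 := by rw [z0]; exact x₀.injective.ne (by decide)
    have hz1 : z ≠ 1 := fun e => hy₀ (by rw [e, one_smul])
    set y₀ := x₀ 0 with hy0
    set a := x₀ 2 with ha
    set b := x₀ 3 with hb
    have hab : a ≠ b := x₀.injective.ne (by decide)
    have hzF : Fx z Ω = {a, b} := by
      refine (Set.eq_of_subset_of_ncard_le ?_ ?_ (Fx_finite H hz hz1)).symm
      · rintro w (rfl | rfl)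
        exacts [z2, z3]
      · rw [Set.ncard_pair hab]
        by_contra hlt
        exact h3 ⟨z, hz, hz1, le_antisymm (Fx_ncard_le H hz hz1) (by omega)⟩
    have hsmall : ∀ (g : G), g * g = 1 → g ≠ 1 → ∀ p q r : Ω, p ≠ q → p ≠ r → q ≠ r →
        g • p = p → g • q = q → g • r = r → False := by
      intro g hg hg1 p q r hpq hpr hqr hp hq hr
      refine h3 ⟨g, hg, hg1, le_antisymm (Fx_ncard_le H hg hg1) ?_⟩
      rw [← show ({p, q, r} : Set Ω).ncard = 3 from Set.ncard_eq_three.2 ⟨p, q, r, hpq, hpr, hqr, rfl⟩]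
      refine Set.ncard_le_ncard ?_ (Fx_finite H hg hg1)
      rintro w (rfl | rfl | rfl)
      exacts [hp, hq, hr]
    have hzz := smul_smul_of_mul_self (Ω := Ω) hz
    have hya : y₀ ≠ a := x₀.injective.ne (by decide)
    have hyb : y₀ ≠ b := x₀.injective.ne (by decide)
    have hzya : z • y₀ ≠ a := by rw [z0]; exact x₀.injective.ne (by decide)
    have hzyb : z • y₀ ≠ b := by rw [z0]; exact x₀.injective.ne (by decide)
    have hswap : ∀ T : G, T * T = 1 → T ≠ 1 → Commute z T → T • y₀ = y₀ →
        T • (z • y₀) = z • y₀ → T • a = b := by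
      intro T hT hT1 hzT Ta Tb
      have := smul_mem_Fx_of_commute hzT.symm (show a ∈ Fx z Ω from z2)
      rw [hzF] at this
      rcases this with e | e
      · exact (hsmall T hT hT1 _ _ _ (Ne.symm hy₀) hya hzya Ta Tb e).elim
      · exact e
    have hsame : ∀ T U : G, T * T = 1 → U * U = 1 → T ≠ 1 → U ≠ 1 → Commute z T → Commute z U →
        T • y₀ = y₀ → U • y₀ = y₀ → T • (z • y₀) = z • y₀ → U • (z • y₀) = z • y₀ → T = U := by
      intro T U hT hU hT1 hU1 hzT hzU Ta Ua Tb Ub
      have e1 := hswap T hT hT1 hzT Ta Tb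
      have e2 := hswap U hU hU1 hzU Ua Ub
      refine heq T U y₀ (z • y₀) a b (nodup4 (Ne.symm hy₀) hya hyb hzya hzyb hab) hU ?_ ?_ ?_ ?_
      · rw [Ua, Ta]
      · rw [Ub, Tb]
      · rw [e2, ← e1, smul_smul_of_mul_self hT]
      · rw [show U • b = a by rw [← e2, smul_smul_of_mul_self hU], e1]
    have key : ∃ s : Finset Ω, s.card ≤ 6 ∧ ∀ y, y ∈ s := by
      by_cases hmove : ∃ y, z • y ≠ y ∧ y ≠ y₀ ∧ y ≠ z • y₀
      · obtain ⟨w, hw, hw1, hw2⟩ := hmove
        obtain ⟨T, hT, hzT, Ta, Tb, Tw, -⟩ := exists_T' H hz hy₀ hw hw1 hw2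
        have hT1 : T ≠ 1 := fun e => hw (by rw [e, one_smul] at Tw; exact Tw.symm)
        have hzT2 : z * T * (z * T) = 1 := by
          rw [mul_assoc, ← mul_assoc T z, ← hzT.eq, mul_assoc z T, hT, mul_one, hz]
        have hzT1 : z * T ≠ 1 := by
          intro e
          have e' : (z * T) • y₀ = y₀ := by rw [e, one_smul]
          rw [mul_smul, Ta] at e'
          exact hy₀ e'
        have hfin := Fx_finite H hzT2 hzT1
        refine ⟨{y₀, z • y₀, a, b} ∪ hfin.toFinset, ?_, fun y => ?_⟩
        · have h2 : (Fx (z * T) Ω).ncard ≤ 2 := by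
            by_contra hlt
            exact h3 ⟨_, hzT2, hzT1, le_antisymm (Fx_ncard_le H hzT2 hzT1) (by omega)⟩
          rw [Set.ncard_eq_toFinset_card _ hfin] at h2
          refine (Finset.card_union_le _ _).trans ?_
          have : ({y₀, z • y₀, a, b} : Finset Ω).card ≤ 4 := Finset.card_le_four
          omega
        · by_cases hyF : z • y = y
          · have : y ∈ Fx z Ω := hyF
            rw [hzF] at this
            rcases this with rfl | rfl <;> simp
          by_cases hy1 : y = y₀
          · simp [hy1]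
          by_cases hy2 : y = z • y₀
          · simp [hy2]
          obtain ⟨U, hU, hzU, Ua, Ub, Uy, -⟩ := exists_T' H hz hy₀ hyF hy1 hy2
          have hU1 : U ≠ 1 := fun e => hyF (by rw [e, one_smul] at Uy; exact Uy.symm)
          refine Finset.mem_union_right _ ((Set.Finite.mem_toFinset _).2 ?_)
          rw [hsame T U hT hU hT1 hU1 hzT hzU Ta Ua Tb Ub, mem_Fx, mul_smul, Uy, hzz]
      · push Not at hmove
        refine ⟨{y₀, z • y₀, a, b}, le_trans Finset.card_le_four (by norm_num), fun y => ?_⟩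
        by_cases hyF : z • y = y
        · have : y ∈ Fx z Ω := hyF
          rw [hzF] at this
          rcases this with rfl | rfl <;> simp
        by_cases hy1 : y = y₀
        · simp [hy1]
        simp [hmove y hyF hy1]
    obtain ⟨s, hs, hall⟩ := key
    let : Fintype Ω := ⟨s, hall⟩
    have hc : Nat.card Ω ≤ 6 := by
      rw [Nat.card_eq_fintype_card, ← Finset.card_univ]
      exact le_trans (Finset.card_le_card fun y _ => hall y) hs
    exact ⟨inferInstance, by omega, fun _ => hc⟩

end Cfsg.Agent.S0708
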