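import Cfsg.Statements.S4301
import Mathlib

set_option autoImplicit false
open Cfsg

namespace Cfsg.Agent.S4301


/-- membership in `G ∪ GhG` -/
def InDC {A : Type*} [Group A] (G : Subgroup A) (h f : A) : Prop :=
  f ∈ G ∨ ∃ a ∈ G, ∃ b ∈ G, f = a * h * b

theorem dc_closure {A : Type*} [Group A] {G : Subgroup A} {h : A} (h7 : h ^ 2 ∈ G)
    (hh : ∀ a ∈ G, InDC G h (h * a * h)) {f : A}
    (hf : f ∈ Subgroup.closure ((G : Set A) ∪ {h})) : InDC G h f := by
  induction hf using Subgroup.closure_induction with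
  | mem x hx =>
    rcases hx with hx | hx
    · exact Or.inl hx
    · exact Or.inr ⟨1, G.one_mem, 1, G.one_mem, by simpa using hx⟩
  | one => exact Or.inl G.one_mem
  | inv x _ ih =>
    rcases ih with ih | ⟨a, ha, b, hb, rfl⟩
    · exact Or.inl (G.inv_mem ih)
    · refine Or.inr ⟨b⁻¹ * (h ^ 2)⁻¹, G.mul_mem (G.inv_mem hb) (G.inv_mem h7), a⁻¹, G.inv_mem ha, ?_⟩
      rw [sq]; group
  | mul x y _ _ ihx ihy =>
    rcases ihx with hx | ⟨a, ha, b, hb, rfl⟩ <;> rcases ihy with hy | ⟨c, hc, d, hd, rfl⟩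
    · exact Or.inl (G.mul_mem hx hy)
    · exact Or.inr ⟨x * c, G.mul_mem hx hc, d, hd, by group⟩
    · exact Or.inr ⟨a, ha, b * y, G.mul_mem hb hy, by group⟩
    · rcases hh (b * c) (G.mul_mem hb hc) with hm | ⟨s, hs, t, ht, hst⟩
      · refine Or.inl ?_
        have e : a * h * b * (c * h * d) = a * (h * (b * c) * h) * d := by group
        rw [e]
        exact G.mul_mem (G.mul_mem ha hm) hd
      · refine Or.inr ⟨a * s, G.mul_mem ha hs, t * d, G.mul_mem ht hd, ?_⟩
        calc a * h * b * (c * h * d) = a * (h * (b * c) * h) * d := by group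
          _ = a * (s * h * t) * d := by rw [hst]
          _ = a * s * h * (t * d) := by group


/-- One-point extension of a multiply transitive group. Let X be a set and G a group of permutations of Option X (the set X with one extra point ∗ = none) all of whose elements fix ∗, such that G is k-transitive on the points of X for some k ≥ 2, X having at least k points. Suppose a permutation h of Option X and an element g of G satisfy: h interchanges ∗ with a point x of X and fixes a point y of X; g interchanges x and y; (g h)³ and h² lie in G; and for every f in G fixing x, the product h f h lies in G and fixes x. Then an element of the group generated by G and h fixes ∗ exactly when it lies in G, and that group acts (k+1)-transitively on Option X. -/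
theorem result {X : Type*} (G : Subgroup (Equiv.Perm (Option X))) (hfix : ∀ f ∈ G, f none = none)
    (k : ℕ) (hk : 2 ≤ k) (hkX : Nonempty (Fin k ↪ X))
    (htrans : ∀ a b : Fin k ↪ X, ∃ f ∈ G, ∀ i, f (some (a i)) = some (b i))
    (h g : Equiv.Perm (Option X)) (hg : g ∈ G) (x y : X)
    (h1 : h none = some x) (h2 : h (some x) = none) (h3 : h (some y) = some y)
    (h4 : g (some x) = some y) (h5 : g (some y) = some x)
    (h6 : (g * h) ^ 3 ∈ G) (h7 : h ^ 2 ∈ G)
    (h8 : ∀ f ∈ G, f (some x) = some x → h * f * h ∈ G ∧ (h * f * h) (some x) = some x) :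
    (∀ f ∈ Subgroup.closure ((G : Set (Equiv.Perm (Option X))) ∪ {h}), f none = none ↔ f ∈ G) ∧
      MulAction.IsMultiplyPretransitive (Subgroup.closure ((G : Set (Equiv.Perm (Option X))) ∪ {h})) (Option X) (k + 1) := by
  classical
  obtain ⟨e0⟩ := hkX
  let i0 : Fin k := ⟨0, by omega⟩
  let i1 : Fin k := ⟨1, by omega⟩
  have hi : i0 ≠ i1 := by simp [i0, i1, Fin.ext_iff]
  have hext : ∀ p q : X, p ≠ q → ∃ e : Fin k ↪ X, e i0 = p ∧ e i1 = q := by
    intro p q hpq
    let e1 : Fin k ↪ X := e0.trans (Equiv.swap (e0 i0) p).toEmbedding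
    have h0 : e1 i0 = p := by simp [e1]
    refine ⟨e1.trans (Equiv.swap (e1 i1) q).toEmbedding, ?_, by simp⟩
    have hp1 : p ≠ e1 i1 := fun e => hi (e1.injective (h0.trans e))
    simp [h0, Equiv.swap_apply_of_ne_of_ne hp1 hpq]
  have h2t : ∀ p q p' q' : X, p ≠ q → p' ≠ q' →
      ∃ f ∈ G, f (some p) = some p' ∧ f (some q) = some q' := by
    intro p q p' q' hpq hpq'
    obtain ⟨a, ha0, ha1⟩ := hext p q hpq
    obtain ⟨b, hb0, hb1⟩ := hext p' q' hpq'
    obtain ⟨f, hf, hfab⟩ := htrans a b
    exact ⟨f, hf, by rw [← ha0, hfab, hb0], by rw [← ha1, hfab, hb1]⟩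
  have hxy : x ≠ y := by
    intro e
    rw [← e] at h3
    exact Option.some_ne_none x (h3.symm.trans h2)
  have hdc : ∀ a ∈ G, InDC G h (h * a * h) := by
    intro a ha
    by_cases hax : a (some x) = some x
    · exact Or.inl (h8 a ha hax).1
    · obtain ⟨z, hz⟩ : ∃ z, a (some x) = some z := by
        cases hc : a (some x) with
        | none => exact absurd (a.injective (hc.trans (hfix a ha).symm)) (Option.some_ne_none x)
        | some z => exact ⟨z, rfl⟩
      have hzx : z ≠ x := fun e => hax (e ▸ hz)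
      obtain ⟨u, hu, hux, huy⟩ := h2t x y x z hxy (Ne.symm hzx)
      set v := g⁻¹ * u⁻¹ * a with hv
      have hvG : v ∈ G := G.mul_mem (G.mul_mem (G.inv_mem hg) (G.inv_mem hu)) ha
      have hvx : v (some x) = some x := by
        rw [hv, Equiv.Perm.mul_apply, Equiv.Perm.mul_apply, hz, ← huy]
        simp only [Equiv.Perm.inv_def, Equiv.symm_apply_apply]
        rw [← h4, Equiv.symm_apply_apply]
      obtain ⟨hu', -⟩ := h8 u hu hux
      obtain ⟨hv', -⟩ := h8 v hvG hvx
      refine Or.inr ⟨(h * u * h) * (h ^ 2)⁻¹ * g⁻¹ * ((g * h) ^ 3) * (h ^ 2)⁻¹, ?_,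
        g⁻¹ * (h ^ 2)⁻¹ * (h * v * h), ?_, ?_⟩
      · exact G.mul_mem (G.mul_mem (G.mul_mem (G.mul_mem hu' (G.inv_mem h7)) (G.inv_mem hg)) h6) (G.inv_mem h7)
      · exact G.mul_mem (G.mul_mem (G.inv_mem hg) (G.inv_mem h7)) hv'
      · have ea : a = u * g * v := by rw [hv]; group
        rw [ea]
        simp only [pow_succ, pow_zero, one_mul]
        group
  have hne : ∀ a ∈ G, ∀ b ∈ G, (a * h * b) none ≠ none := by
    intro a ha b hb e
    rw [Equiv.Perm.mul_apply, Equiv.Perm.mul_apply, hfix b hb, h1] at e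
    exact Option.some_ne_none x (a.injective (e.trans (hfix a ha).symm))
  refine ⟨fun f hf => ⟨fun hn => ?_, fun hG => hfix f hG⟩, ?_⟩
  · rcases dc_closure h7 hdc hf with h' | ⟨a, ha, b, hb, rfl⟩
    · exact h'
    · exact absurd hn (hne a ha b hb)
  · rw [MulAction.isMultiplyPretransitive_iff]
    intro a b
    set K := Subgroup.closure ((G : Set (Equiv.Perm (Option X))) ∪ {h})
    have hGK : ∀ f ∈ G, f ∈ K := fun f hf => Subgroup.subset_closure (Or.inl hf)
    have hhK : h ∈ K := Subgroup.subset_closure (Or.inr rfl)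
    have hto : ∀ o : Option X, ∃ s ∈ K, s o = none := by
      intro o
      cases o with
      | none => exact ⟨1, K.one_mem, rfl⟩
      | some z =>
        by_cases hzx : z = x
        · exact ⟨h, hhK, hzx ▸ h2⟩
        · obtain ⟨u, hu, -, huy⟩ := h2t x z y x (fun e => hzx e.symm) hxy.symm
          exact ⟨h * u, K.mul_mem hhK (hGK u hu), by rw [Equiv.Perm.mul_apply, huy, h2]⟩
    obtain ⟨s, hs, hs0⟩ := hto (a 0)
    obtain ⟨t, ht, ht0⟩ := hto (b 0)
    have hlow : ∀ (σ : Equiv.Perm (Option X)) (e : Fin (k + 1) ↪ Option X), σ (e 0) = none →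
        ∃ e' : Fin k ↪ X, ∀ i, σ (e i.succ) = some (e' i) := by
      intro σ e h0
      have : ∀ i : Fin k, ∃ z, σ (e i.succ) = some z := by
        intro i
        cases hc : σ (e i.succ) with
        | none => exact absurd (e.injective (σ.injective (hc.trans h0.symm))) (Fin.succ_ne_zero i)
        | some z => exact ⟨z, rfl⟩
      choose z hz using this
      refine ⟨⟨z, fun i j hij => ?_⟩, hz⟩
      exact Fin.succ_injective _ (e.injective (σ.injective (by rw [hz, hz, hij])))
    obtain ⟨a', ha'⟩ := hlow s a hs0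
    obtain ⟨b', hb'⟩ := hlow t b ht0
    obtain ⟨f, hf, hfab⟩ := htrans a' b'
    refine ⟨⟨t⁻¹ * f * s, K.mul_mem (K.mul_mem (K.inv_mem ht) (hGK f hf)) hs⟩, ?_⟩
    ext1 i
    show (t⁻¹ * f * s) (a i) = b i
    rw [Equiv.Perm.mul_apply, Equiv.Perm.mul_apply, Equiv.Perm.inv_eq_iff_eq]
    refine Fin.cases ?_ ?_ i
    · rw [hs0, hfix f hf, ht0]
    · intro j
      rw [ha' j, hfab, ← hb' j]

end Cfsg.Agent.S4301
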