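import Cfsg.Statements.S0709
import Cfsg.Agent.S4301
-- import your own Cfsg.Agent.* helpers here

set_option autoImplicit false
open Cfsg

namespace Cfsg.Agent.S0709

open Cfsg.Agent.S4301

variable {α : Type*}

/-- One-point extension of a multiply transitive group on the points satisfying `A`. -/
theorem extend (G : Subgroup (Equiv.Perm α)) (A : α → Prop) (o : α) (ho : ¬ A o)
    (hA : ∀ f ∈ G, ∀ z, A z → A (f z)) (hfix : ∀ f ∈ G, f o = o) (k : ℕ) (hk : 2 ≤ k)
    (hkA : ∃ e : Fin k ↪ α, ∀ i, A (e i))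
    (htrans : ∀ a b : Fin k ↪ α, (∀ i, A (a i)) → (∀ i, A (b i)) → ∃ f ∈ G, ∀ i, f (a i) = b i)
    (h g : Equiv.Perm α) (hg : g ∈ G) (x y : α) (hx : A x) (hy : A y)
    (hh : ∀ z, A z ∨ z = o → A (h z) ∨ h z = o)
    (hh' : ∀ z, A z ∨ z = o → A (h⁻¹ z) ∨ h⁻¹ z = o)
    (h1 : h o = x) (h2 : h x = o) (h3 : h y = y) (h4 : g x = y) (h5 : g y = x)
    (h6 : (g * h) ^ 3 ∈ G) (h7 : h ^ 2 ∈ G)
    (h8 : ∀ f ∈ G, f x = x → h * f * h ∈ G ∧ (h * f * h) x = x) :
    (∀ f ∈ Subgroup.closure ((G : Set (Equiv.Perm α)) ∪ {h}), f o = o → f ∈ G) ∧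
      ∀ a b : Fin (k + 1) ↪ α, (∀ i, A (a i) ∨ a i = o) → (∀ i, A (b i) ∨ b i = o) →
        ∃ f ∈ Subgroup.closure ((G : Set (Equiv.Perm α)) ∪ {h}), ∀ i, f (a i) = b i := by
  classical
  obtain ⟨e0, he0⟩ := hkA
  let i0 : Fin k := ⟨0, by omega⟩
  let i1 : Fin k := ⟨1, by omega⟩
  have hi : i0 ≠ i1 := by simp [i0, i1, Fin.ext_iff]
  have hext : ∀ p q : α, A p → A q → p ≠ q →
      ∃ e : Fin k ↪ α, (∀ i, A (e i)) ∧ e i0 = p ∧ e i1 = q := by
    intro p q hp hq hpq
    let e1 : Fin k ↪ α := e0.trans (Equiv.swap (e0 i0) p).toEmbedding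
    have h0 : e1 i0 = p := by simp [e1]
    have hs : ∀ u v z : α, A u → A v → A z → A (Equiv.swap u v z) := by
      intro u v z hu hv hz
      rw [Equiv.swap_apply_def]
      split_ifs <;> assumption
    have he1 : ∀ i, A (e1 i) := fun i => hs _ _ _ (he0 i0) hp (he0 i)
    refine ⟨e1.trans (Equiv.swap (e1 i1) q).toEmbedding, fun i => hs _ _ _ (he1 i1) hq (he1 i), ?_,
      by simp⟩
    have hp1 : p ≠ e1 i1 := fun e => hi (e1.injective (h0.trans e))
    simp [h0, Equiv.swap_apply_of_ne_of_ne hp1 hpq]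
  have h2t : ∀ p q p' q' : α, A p → A q → A p' → A q' → p ≠ q → p' ≠ q' →
      ∃ f ∈ G, f p = p' ∧ f q = q' := by
    intro p q p' q' hp hq hp' hq' hpq hpq'
    obtain ⟨a, ha, ha0, ha1⟩ := hext p q hp hq hpq
    obtain ⟨b, hb, hb0, hb1⟩ := hext p' q' hp' hq' hpq'
    obtain ⟨f, hf, hfab⟩ := htrans a b ha hb
    exact ⟨f, hf, by rw [← ha0, hfab, hb0], by rw [← ha1, hfab, hb1]⟩
  have hxy : x ≠ y := by
    intro e
    rw [← e] at h3
    exact ho ((h2.symm.trans h3) ▸ hx)
  have hox : o ≠ x := fun e => ho (e ▸ hx)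
  have hdc : ∀ a ∈ G, InDC G h (h * a * h) := by
    intro a ha
    by_cases hax : a x = x
    · exact Or.inl (h8 a ha hax).1
    · obtain ⟨u, hu, hux, huy⟩ := h2t x y x (a x) hx hy hx (hA a ha x hx) hxy (Ne.symm hax)
      set v := g⁻¹ * u⁻¹ * a with hv
      have hvG : v ∈ G := G.mul_mem (G.mul_mem (G.inv_mem hg) (G.inv_mem hu)) ha
      have hvx : v x = x := by
        rw [hv, Equiv.Perm.mul_apply, Equiv.Perm.mul_apply, ← huy]
        simp only [Equiv.Perm.inv_def, Equiv.symm_apply_apply]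
        rw [← h4, Equiv.symm_apply_apply]
      obtain ⟨hu', -⟩ := h8 u hu hux
      obtain ⟨hv', -⟩ := h8 v hvG hvx
      refine Or.inr ⟨(h * u * h) * (h ^ 2)⁻¹ * g⁻¹ * ((g * h) ^ 3) * (h ^ 2)⁻¹, ?_,
        g⁻¹ * (h ^ 2)⁻¹ * (h * v * h), ?_, ?_⟩
      · exact G.mul_mem (G.mul_mem (G.mul_mem (G.mul_mem hu' (G.inv_mem h7)) (G.inv_mem hg)) h6) (G.inv_mem h7)
      · exact G.mul_mem (G.mul_mem (G.inv_mem hg) (G.inv_mem h7)) hv'
      · have ea : a = u * g * v := by rw [hv]; group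
        rw [ea]
        simp only [pow_succ, pow_zero, one_mul]
        group
  set K := Subgroup.closure ((G : Set (Equiv.Perm α)) ∪ {h}) with hK
  refine ⟨fun f hf hn => ?_, fun a b ha hb => ?_⟩
  · rcases dc_closure h7 hdc hf with h' | ⟨u, hu, v, hv, rfl⟩
    · exact h'
    · rw [Equiv.Perm.mul_apply, Equiv.Perm.mul_apply, hfix v hv, h1] at hn
      exact absurd ((u.injective (hn.trans (hfix u hu).symm)).symm) hox
  · have hGK : ∀ f ∈ G, f ∈ K := fun f hf => Subgroup.subset_closure (Or.inl hf)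
    have hhK : h ∈ K := Subgroup.subset_closure (Or.inr rfl)
    have hKA : ∀ f ∈ K, (∀ z, A z ∨ z = o → A (f z) ∨ f z = o) ∧
        (∀ z, A z ∨ z = o → A (f⁻¹ z) ∨ f⁻¹ z = o) := by
      intro f hf
      induction hf using Subgroup.closure_induction with
      | mem w hw =>
        rcases hw with hw | rfl
        · constructor
          · rintro z (hz | rfl)
            exacts [Or.inl (hA w hw z hz), Or.inr (hfix w hw)]
          · rintro z (hz | rfl)
            exacts [Or.inl (hA _ (G.inv_mem hw) z hz), Or.inr (hfix _ (G.inv_mem hw))]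
        · exact ⟨hh, hh'⟩
      | one => exact ⟨fun z hz => by simpa using hz, fun z hz => by simpa using hz⟩
      | inv w _ ih => exact ⟨ih.2, by simpa using ih.1⟩
      | mul u v _ _ ihu ihv =>
        exact ⟨fun z hz => ihu.1 _ (ihv.1 z hz), fun z hz => by
          rw [mul_inv_rev, Equiv.Perm.mul_apply]; exact ihv.2 _ (ihu.2 z hz)⟩
    have hto : ∀ z, A z ∨ z = o → ∃ s ∈ K, s z = o := by
      rintro z (hz | rfl)
      · by_cases hzx : z = x
        · exact ⟨h, hhK, hzx ▸ h2⟩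
        · obtain ⟨u, hu, -, huy⟩ := h2t x z y x hx hz hy hx (fun e => hzx e.symm) hxy.symm
          exact ⟨h * u, K.mul_mem hhK (hGK u hu), by rw [Equiv.Perm.mul_apply, huy, h2]⟩
      · exact ⟨1, K.one_mem, rfl⟩
    obtain ⟨s, hs, hs0⟩ := hto (a 0) (ha 0)
    obtain ⟨t, ht, ht0⟩ := hto (b 0) (hb 0)
    have hlow : ∀ σ ∈ K, ∀ e : Fin (k + 1) ↪ α, (∀ i, A (e i) ∨ e i = o) → σ (e 0) = o →
        ∀ i : Fin k, A (σ (e i.succ)) := by
      intro σ hσ e he h0 i
      exact ((hKA σ hσ).1 _ (he i.succ)).resolve_right fun hc =>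
        Fin.succ_ne_zero i (e.injective (σ.injective (hc.trans h0.symm)))
    obtain ⟨f, hf, hfab⟩ := htrans
      (((Fin.succEmb k).trans a).trans s.toEmbedding) (((Fin.succEmb k).trans b).trans t.toEmbedding)
      (hlow s hs a ha hs0) (hlow t ht b hb ht0)
    refine ⟨t⁻¹ * f * s, K.mul_mem (K.mul_mem (K.inv_mem ht) (hGK f hf)) hs, fun i => ?_⟩
    rw [Equiv.Perm.mul_apply, Equiv.Perm.mul_apply, Equiv.Perm.inv_eq_iff_eq]
    refine Fin.cases ?_ ?_ i
    · rw [hs0, hfix f hf, ht0]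
    · intro j
      exact hfab j

/-- Witt's Lemma for constructing transitive extensions. Points `q 1, …, q t` (`t ≥ 2`) of a finite set are given; `G` fixes `q i` for `i ≥ 3` and is doubly transitive on the remaining points; `s 1 ∈ G` swaps `q 1, q 2`; for `2 ≤ i ≤ t-1`, `s i` swaps `q i, q (i+1)` and fixes the other `q j`; with `H` the stabiliser of `q 1, q 2` in `G`: `s i ^ 2 ∈ H`, `(s i * s (i+1)) ^ 3 ∈ H`, `(s i * s j) ^ 2 ∈ H` for `j ≥ i + 2`, and `s i` (`i ≥ 2`) normalises the stabiliser of `q 2` in `G`. Then `G` and the `s i` generate a `t`-transitive group whose pointwise stabiliser of the `q`'s is `H`. -/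
theorem result {α : Type*} [Fintype α] [DecidableEq α] (t : ℕ) (ht : 2 ≤ t) (q : ℕ → α) (hq : ∀ i j : ℕ, 1 ≤ i → i ≤ t → 1 ≤ j → j ≤ t → q i = q j → i = j) (G : Subgroup (Equiv.Perm α)) (hfix : ∀ g ∈ G, ∀ i : ℕ, 3 ≤ i → i ≤ t → g (q i) = q i) (h2 : ∀ a b c d : α, (∀ i, 3 ≤ i → i ≤ t → a ≠ q i ∧ b ≠ q i ∧ c ≠ q i ∧ d ≠ q i) → a ≠ b → c ≠ d → ∃ g ∈ G, g a = c ∧ g b = d) (s : ℕ → Equiv.Perm α) (hs1 : s 1 ∈ G) (hs1q : s 1 (q 1) = q 2 ∧ s 1 (q 2) = q 1) (hsq : ∀ i : ℕ, 2 ≤ i → i + 1 ≤ t → s i (q i) = q (i + 1) ∧ s i (q (i + 1)) = q i ∧ ∀ j : ℕ, 1 ≤ j → j ≤ t → j ≠ i → j ≠ i + 1 → s i (q j) = q j) (H : Subgroup (Equiv.Perm α)) (hH : H = G ⊓ MulAction.stabilizer (Equiv.Perm α) (q 1) ⊓ MulAction.stabilizer (Equiv.Perm α) (q 2)) (hsq2 : ∀ i : ℕ, 1 ≤ i → i + 1 ≤ t → s i ^ 2 ∈ H) (hbraid : ∀ i : ℕ, 1 ≤ i → i + 2 ≤ t → (s i * s (i + 1)) ^ 3 ∈ H) (hcomm : ∀ i j : ℕ, 1 ≤ i → i + 2 ≤ j → j + 1 ≤ t → (s i * s j) ^ 2 ∈ H ∧ (s j * s i) ^ 2 ∈ H) (hnorm : ∀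 i : ℕ, 2 ≤ i → i + 1 ≤ t → ∀ g ∈ G ⊓ MulAction.stabilizer (Equiv.Perm α) (q 2), s i * g * (s i)⁻¹ ∈ G ⊓ MulAction.stabilizer (Equiv.Perm α) (q 2)) : MulAction.IsMultiplyPretransitive ↥(Subgroup.closure ((G : Set (Equiv.Perm α)) ∪ {x | ∃ i : ℕ, 2 ≤ i ∧ i + 1 ≤ t ∧ x = s i})) α t ∧ Subgroup.closure ((G : Set (Equiv.Perm α)) ∪ {x | ∃ i : ℕ, 2 ≤ i ∧ i + 1 ≤ t ∧ x = s i}) ⊓ fixingSubgroup (Equiv.Perm α) {x | ∃ i : ℕ, 1 ≤ i ∧ i ≤ t ∧ x = q i} = H := by
  classical
  let S : ℕ → Set (Equiv.Perm α) := fun k => {x | ∃ i : ℕ, 2 ≤ i ∧ i + 1 ≤ k ∧ x = s i}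
  let N : ℕ → Subgroup (Equiv.Perm α) := fun k => Subgroup.closure ((G : Set (Equiv.Perm α)) ∪ S k)
  let A : ℕ → α → Prop := fun k z => ∀ j, k < j → j ≤ t → z ≠ q j
  have hGN : ∀ k, G ≤ N k := fun k f hf => Subgroup.subset_closure (Or.inl hf)
  have hsN : ∀ k i, 2 ≤ i → i + 1 ≤ k → s i ∈ N k := fun k i h2i hik =>
    Subgroup.subset_closure (Or.inr ⟨i, h2i, hik, rfl⟩)
  have hmono : ∀ a b : ℕ, a ≤ b → N a ≤ N b := fun a b hab =>
    Subgroup.closure_mono (Set.union_subset_union_right _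
      fun x ⟨i, h2i, hik, e⟩ => ⟨i, h2i, hik.trans hab, e⟩)
  -- the groups fix the later points
  have hfixN : ∀ k, 2 ≤ k → ∀ f ∈ N k, ∀ j, k < j → j ≤ t → f (q j) = q j := by
    intro k hk f hf j hkj hjt
    have hle : N k ≤ MulAction.stabilizer (Equiv.Perm α) (q j) := by
      refine (Subgroup.closure_le _).2 ?_
      rintro w (hw | ⟨i, h2i, hik, rfl⟩)
      · exact hfix w hw j (by omega) hjt
      · exact (hsq i h2i (by omega)).2.2 j (by omega) hjt (by omega) (by omega)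
    exact hle hf
  have hAN : ∀ k, 2 ≤ k → ∀ f ∈ N k, ∀ z, A k z → A k (f z) := by
    intro k hk f hf z hz j hkj hjt e
    exact hz j hkj hjt (f.injective (e.trans (hfixN k hk f hf j hkj hjt).symm))
  have hH2 : ∀ f ∈ H, f ∈ G ∧ f (q 1) = q 1 ∧ f (q 2) = q 2 := fun f hf => by
    rw [hH] at hf
    exact ⟨hf.1.1, hf.1.2, hf.2⟩
  have hGmem : ∀ f, f (q 2) = q 2 → f ∈ G → f ∈ G ⊓ MulAction.stabilizer (Equiv.Perm α) (q 2) :=
    fun f h1 h2' => Subgroup.mem_inf.2 ⟨h2', h1⟩
  have hq12 : q 1 ≠ q 2 := fun e => by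
    have := hq 1 2 le_rfl (by omega) (by norm_num) ht e
    omega
  have hA2 : ∀ z, (∀ i, 3 ≤ i → i ≤ t → z ≠ q i) ↔ A 2 z := fun z =>
    ⟨fun h j hj hjt => h j (by omega) hjt, fun h i hi hit => h i (by omega) hit⟩
  have hAq : ∀ k i, 1 ≤ i → i ≤ k → k ≤ t → A k (q i) := fun k i hi hik hkt j hkj hjt e => by
    have := hq i j hi (by omega) (by omega) hjt e
    omega
  -- the set of points of `G`
  have hdecomp : ∀ f ∈ G, f (q 2) ≠ q 2 → ∃ u ∈ G, ∃ v ∈ G, u (q 2) = q 2 ∧ v (q 2) = q 2 ∧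
      f = u * s 1 * v := by
    intro f hf hne
    have hfq : A 2 (f (q 2)) := hAN 2 le_rfl f (hGN 2 hf) _ (hAq 2 2 (by norm_num) le_rfl ht)
    obtain ⟨u, hu, hu1, hu2⟩ := h2 (q 1) (q 2) (f (q 2)) (q 2) (fun i hi hit =>
      ⟨hAq 2 1 le_rfl (by norm_num) ht i (by omega) hit,
        hAq 2 2 (by norm_num) le_rfl ht i (by omega) hit, hfq i (by omega) hit,
        hAq 2 2 (by norm_num) le_rfl ht i (by omega) hit⟩) hq12 hne
    refine ⟨u, hu, (s 1)⁻¹ * u⁻¹ * f,
      G.mul_mem (G.mul_mem (G.inv_mem hs1) (G.inv_mem hu)) hf, hu2, ?_, by group⟩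
    rw [Equiv.Perm.mul_apply, Equiv.Perm.mul_apply, ← hu1, Equiv.Perm.inv_def, Equiv.Perm.inv_def,
      Equiv.symm_apply_apply, ← hs1q.2, Equiv.symm_apply_apply]
  have main : ∀ k, 2 ≤ k → k ≤ t →
      (∀ a b : Fin k ↪ α, (∀ i, A k (a i)) → (∀ i, A k (b i)) → ∃ f ∈ N k, ∀ i, f (a i) = b i) ∧
      (3 ≤ k → ∀ f ∈ N k, f (q k) = q k → f ∈ N (k - 1)) := by
    intro k hk
    induction k, hk using Nat.le_induction with
    | base =>
      intro _
      refine ⟨fun a b ha hb => ?_, fun h => absurd h (by norm_num)⟩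
      obtain ⟨f, hf, f0, f1⟩ := h2 (a 0) (a 1) (b 0) (b 1) (fun i hi hit =>
        ⟨(hA2 _).2 (ha 0) i hi hit, (hA2 _).2 (ha 1) i hi hit, (hA2 _).2 (hb 0) i hi hit,
          (hA2 _).2 (hb 1) i hi hit⟩) (a.injective.ne (by decide)) (b.injective.ne (by decide))
      exact ⟨f, hGN 2 hf, Fin.forall_fin_two.2 ⟨f0, f1⟩⟩
    | succ k hk ih =>
      intro hkt
      obtain ⟨htr, hst⟩ := ih (by omega)
      have hclos : N (k + 1) = Subgroup.closure ((N k : Set (Equiv.Perm α)) ∪ {s k}) := by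
        refine le_antisymm ((Subgroup.closure_le _).2 ?_) ((Subgroup.closure_le _).2 ?_)
        · rintro w (hw | ⟨i, h2i, hik, rfl⟩)
          · exact Subgroup.subset_closure (Or.inl (hGN k hw))
          · rcases Nat.lt_or_ge i k with hlt | hge
            · exact Subgroup.subset_closure (Or.inl (hsN k i h2i hlt))
            · exact Subgroup.subset_closure (Or.inr (by rw [show i = k by omega]; rfl))
        · rintro w (hw | rfl)
          · exact hmono k (k + 1) (by omega) hw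
          · exact hsN (k + 1) k hk le_rfl
      obtain ⟨hskk, hskk1, hskj⟩ := hsq k hk hkt
      set h := s k with hhdef
      have h7H : h ^ 2 ∈ H := hsq2 k (by omega) hkt
      have h7 : h ^ 2 ∈ N k := hGN k (hH2 _ h7H).1
      have hgk : s (k - 1) ∈ N k := by
        rcases Nat.lt_or_ge 2 k with hlt | hge
        · exact hsN k (k - 1) (by omega) (by omega)
        · rw [show k - 1 = 1 by omega]; exact hGN k hs1
      have hswap : s (k - 1) (q k) = q (k - 1) ∧ s (k - 1) (q (k - 1)) = q k := by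
        rcases Nat.lt_or_ge 2 k with hlt | hge
        · obtain ⟨e1, e2, -⟩ := hsq (k - 1) (by omega) (by omega)
          rw [show k - 1 + 1 = k by omega] at e1 e2
          exact ⟨e2, e1⟩
        · rw [show k = 2 by omega]
          exact ⟨hs1q.2, hs1q.1⟩
      have hconj : ∀ f ∈ N k, f (q k) = q k → h * f * h ∈ N k ∧ (h * f * h) (q k) = q k := by
        intro f hf hfk
        have e : h * f * h = (h * f * h⁻¹) * h ^ 2 := by rw [pow_two]; group
        rcases Nat.lt_or_ge 2 k with hlt | hge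
        · -- `k ≥ 3`: conjugation by `h` preserves `N (k - 1)`
          have hle : N (k - 1) ≤ (N (k - 1)).comap (MulAut.conj h).toMonoidHom := by
            refine (Subgroup.closure_le _).2 ?_
            have hinv : ∀ w : Equiv.Perm α, (w * h) ^ 2 ∈ H → w ∈ N (k - 1) →
                h * w * h⁻¹ ∈ N (k - 1) := by
              intro w hw hwN
              rw [show h * w * h⁻¹ = w⁻¹ * (w * h) ^ 2 * (h ^ 2)⁻¹ by rw [pow_two, pow_two]; group]
              exact mul_mem (mul_mem (inv_mem hwN) (hGN _ (hH2 _ hw).1)) (inv_mem (hGN _ (hH2 _ h7H).1))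
            have hsconj : ∀ u ∈ G, u (q 2) = q 2 → h * u * h⁻¹ ∈ N (k - 1) := fun u hu hu2 =>
              hGN _ (hnorm k hk hkt u (hGmem u hu2 hu)).1
            rintro w (hw | ⟨i, h2i, hik, rfl⟩)
            · show h * w * h⁻¹ ∈ N (k - 1)
              by_cases hw2 : w (q 2) = q 2
              · exact hsconj w hw hw2
              · obtain ⟨u, hu, v, hv, hu2, hv2, rfl⟩ := hdecomp w hw hw2
                rw [show h * (u * s 1 * v) * h⁻¹ = h * u * h⁻¹ * (h * s 1 * h⁻¹) * (h * v * h⁻¹) by group]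
                exact mul_mem (mul_mem (hsconj u hu hu2)
                  (hinv _ (hcomm 1 k le_rfl (by omega) hkt).1 (hGN _ hs1))) (hsconj v hv hv2)
            · exact hinv _ (hcomm i k (by omega) (by omega) hkt).1 (hsN _ i h2i hik)
          have hf' := hst (by omega) f hf hfk
          have hm : h * f * h ∈ N (k - 1) := by
            rw [e]
            exact mul_mem (hle hf') (hGN _ (hH2 _ h7H).1)
          refine ⟨?_, hfixN (k - 1) (by omega) _ hm k (by omega) (by omega)⟩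
          exact hmono (k - 1) k (by omega) hm
        · have hk2 : k = 2 := by omega
          have hN2 : N k ≤ G := by
            refine (Subgroup.closure_le _).2 ?_
            rintro w (hw | ⟨i, h2i, hik, rfl⟩)
            · exact hw
            · omega
          have hm := hnorm k hk hkt f (hGmem f (hk2 ▸ hfk) (hN2 hf))
          rw [e]
          exact ⟨mul_mem (hGN k hm.1) h7, by
            rw [Equiv.Perm.mul_apply, hk2, (hH2 _ h7H).2.2]; exact hm.2⟩
      have hAstep : ∀ z, A k z ∨ z = q (k + 1) ↔ A (k + 1) z := by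
        intro z
        constructor
        · rintro (hz | rfl) j hkj hjt
          · exact hz j (by omega) hjt
          · exact fun e => by
              have := hq (k + 1) j (by omega) hkt (by omega) hjt e
              omega
        · intro hz
          by_cases e : z = q (k + 1)
          · exact Or.inr e
          · refine Or.inl fun j hkj hjt => ?_
            rcases Nat.lt_or_ge (k + 1) j with hlt | hge
            · exact hz j hlt hjt
            · rw [show j = k + 1 by omega]; exact e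
      have hpres : ∀ σ : Equiv.Perm α, (∀ j, k + 1 < j → j ≤ t → σ (q j) = q j) →
          ∀ z, A k z ∨ z = q (k + 1) → A k (σ z) ∨ σ z = q (k + 1) := by
        intro σ hσ z hz
        rw [hAstep] at hz ⊢
        intro j hkj hjt e
        exact hz j hkj hjt (σ.injective (e.trans (hσ j hkj hjt).symm))
      have hhfix : ∀ j, k + 1 < j → j ≤ t → h (q j) = q j := fun j hkj hjt =>
        hskj j (by omega) hjt (by omega) (by omega)
      obtain ⟨hx1, hx2⟩ := extend (N k) (A k) (q (k + 1))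
        (fun hA => hA (k + 1) (by omega) hkt rfl) (hAN k hk)
        (fun f hf => hfixN k hk f hf (k + 1) (by omega) hkt) k hk
        ⟨⟨fun i => q (i.1 + 1), fun i j e => Fin.ext (by
          have := hq _ _ (by omega) (by omega) (by omega) (by omega) e
          omega)⟩, fun i => hAq k _ (by omega) (by omega) (by omega)⟩
        htr h (s (k - 1)) hgk (q k) (q (k - 1)) (hAq k k (by omega) le_rfl (by omega))
        (hAq k (k - 1) (by omega) (by omega) (by omega)) (hpres h hhfix)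
        (hpres h⁻¹ fun j hkj hjt => Equiv.Perm.inv_eq_iff_eq.2 (hhfix j hkj hjt).symm)
        hskk1 hskk (hskj (k - 1) (by omega) (by omega) (by omega) (by omega)) hswap.1 hswap.2
        (hGN k (hH2 _ (by
          have := hbraid (k - 1) (by omega) (by omega)
          rwa [show k - 1 + 1 = k by omega] at this)).1) h7 hconj
      refine ⟨fun a b ha hb => ?_, fun _ f hf hfq => ?_⟩
      · rw [hclos]
        exact hx2 a b (fun i => (hAstep _).2 (ha i)) (fun i => (hAstep _).2 (hb i))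
      · rw [Nat.add_sub_cancel]
        rw [hclos] at hf
        exact hx1 f hf hfq
  constructor
  · rw [MulAction.isMultiplyPretransitive_iff]
    intro a b
    obtain ⟨f, hf, hfab⟩ := (main t ht le_rfl).1 a b (fun i j hj hjt => by omega)
      (fun i j hj hjt => by omega)
    exact ⟨⟨f, hf⟩, Function.Embedding.ext hfab⟩
  · refine le_antisymm ?_ ?_
    · rintro f ⟨hf, hffix⟩
      have hfq : ∀ i, 1 ≤ i → i ≤ t → f (q i) = q i := fun i hi hit =>
        (mem_fixingSubgroup_iff _).1 hffix (q i) ⟨i, hi, hit, rfl⟩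
      have hdown : ∀ d k, t - k = d → 2 ≤ k → k ≤ t → f ∈ N k := by
        intro d
        induction d with
        | zero => intro k hd _ hkt; rw [show k = t by omega]; exact hf
        | succ d ihd =>
          intro k hd hk hkt
          have := (main (k + 1) (by omega) (by omega)).2 (by omega) f
            (ihd (k + 1) (by omega) (by omega) (by omega)) (hfq (k + 1) (by omega) (by omega))
          rwa [Nat.add_sub_cancel] at this
      have hN2 : N 2 ≤ G := by
        refine (Subgroup.closure_le _).2 ?_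
        rintro w (hw | ⟨i, h2i, hik, rfl⟩)
        · exact hw
        · omega
      rw [hH]
      exact ⟨⟨hN2 (hdown _ 2 rfl le_rfl ht), hfq 1 le_rfl (by omega)⟩, hfq 2 (by norm_num) ht⟩
    · intro f hf
      obtain ⟨hfG, hf1, hf2⟩ := hH2 f hf
      refine ⟨hGN t hfG, (mem_fixingSubgroup_iff _).2 ?_⟩
      rintro _ ⟨i, hi, hit, rfl⟩
      rcases Nat.lt_or_ge i 3 with hlt | hge
      · interval_cases i
        exacts [hf1, hf2]
      · exact hfix f hfG i hge hit

end Cfsg.Agent.S0709
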