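import Cfsg.Statements.S0710
import Cfsg.Agent.Lib.Perm.PrimeDegree

set_option autoImplicit false
open Cfsg

namespace Cfsg.Agent.S0710

/-- No transitive permutation group on 13 points has order `13 * 12 * 11 * 10 * 9 * 8`. -/
theorem result {α : Type*} [Fintype α] [DecidableEq α] (hα : Fintype.card α = 13) (G : Subgroup (Equiv.Perm α)) [MulAction.IsPretransitive G α] : Nat.card G ≠ 13 * 12 * 11 * 10 * 9 * 8 := by
  classical
  intro hcard
  haveI : Fact (Nat.Prime 13) := ⟨by decide⟩
  obtain ⟨σ, hσG, hσ, -, hcent⟩ := Perm.exists_cycle_prime_degree (p := 13) hα G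
  obtain ⟨P, hP⟩ := (IsPGroup.of_card (p := 13) (n := 1)
    (show Nat.card (Subgroup.zpowers (⟨σ, hσG⟩ : G)) = 13 ^ 1 by
      rw [Nat.card_zpowers, ← Subgroup.orderOf_coe, hσ, pow_one])).exists_le_sylow
  have hPc : Nat.card (P : Subgroup G) = 13 := by
    rw [P.card_eq_multiplicity, hcard,
      show (13 * 12 * 11 * 10 * 9 * 8 : ℕ).factorization 13 = 1 by
        rw [show (13 * 12 * 11 * 10 * 9 * 8 : ℕ) = 13 * 95040 from rfl,
          Nat.factorization_mul (by norm_num) (by norm_num), Finsupp.add_apply,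
          Nat.Prime.factorization_self (by decide),
          Nat.factorization_eq_zero_of_not_dvd (by norm_num)], pow_one]
  have hPeq : (P : Subgroup G) = Subgroup.zpowers (⟨σ, hσG⟩ : G) :=
    (Subgroup.eq_of_le_of_card_ge hP (by
      rw [hPc, Nat.card_zpowers, ← Subgroup.orderOf_coe, hσ])).symm
  set N := Subgroup.normalizer ((P : Subgroup G) : Set G)
  let φ : N →* MulAut (P : Subgroup G) := Subgroup.normalizerMonoidHom _
  have hker : Nat.card φ.ker ∣ 13 := by
    have hle : φ.ker.map N.subtype ≤ (P : Subgroup G) := by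
      rintro _ ⟨c, hc, rfl⟩
      have h1 : Commute ((c : G) : Equiv.Perm α) σ := by
        have h2 := congrArg (fun f : MulAut (P : Subgroup G) =>
          ((f ⟨⟨σ, hσG⟩, hP (Subgroup.mem_zpowers _)⟩ : (P : Subgroup G)) : G))
          (MonoidHom.mem_ker.1 hc)
        have h3 : (c : G) * ⟨σ, hσG⟩ * (c : G)⁻¹ = ⟨σ, hσG⟩ := h2
        rw [mul_inv_eq_iff_eq_mul] at h3
        exact congrArg Subtype.val h3
      rw [hPeq]
      obtain ⟨i, hi⟩ := hcent _ h1
      exact ⟨i, Subtype.ext (by simpa using hi)⟩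
    have := Subgroup.card_dvd_of_le hle
    rwa [Subgroup.card_map_of_injective N.subtype_injective, hPc] at this
  have haut : Nat.card (MulAut (P : Subgroup G)) = 12 := by
    haveI : IsCyclic (P : Subgroup G) := isCyclic_of_prime_card hPc
    rw [IsCyclic.card_mulAut, hPc, Nat.totient_prime (by decide)]
  have hN : Nat.card N ∣ 13 * 12 := by
    rw [← φ.ker.index_mul_card, Subgroup.index_ker, mul_comm (13 : ℕ)]
    exact mul_dvd_mul (haut ▸ Subgroup.card_subgroup_dvd_card φ.range) hker
  have hidx : N.index % 13 = 1 := by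
    have h1 := card_sylow_modEq_one 13 G
    rw [P.card_eq_index_normalizer] at h1
    exact h1
  obtain ⟨c, hc⟩ : 13 ∣ Nat.card N := hPc ▸ Subgroup.card_dvd_of_le Subgroup.le_normalizer
  rw [hc] at hN
  have hc12 : c ∣ 12 := Nat.dvd_of_mul_dvd_mul_left (by norm_num) hN
  have hi := N.index_mul_card
  rw [hcard, hc] at hi
  have hcle : c ≤ 12 := Nat.le_of_dvd (by norm_num) hc12
  have hi2 : N.index * c = 95040 := by
    apply Nat.eq_of_mul_eq_mul_left (show 0 < 13 by norm_num)
    rw [← mul_left_comm, hi]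
  interval_cases c <;> omega

end Cfsg.Agent.S0710
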