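import Cfsg.Statements.S0711
import Cfsg.Agent.Lib.Perm.Basic
import Mathlib.GroupTheory.GroupAction.Jordan

set_option autoImplicit false
open Cfsg

namespace Cfsg.Agent.S0711

/-- A `k`-transitive permutation group (`k ≥ 3`) with a non-identity element of support smaller than `2k - 2` contains a non-identity element of support at most 3, and therefore contains the alternating group. -/
theorem result {α : Type*} [Fintype α] [DecidableEq α] (G : Subgroup (Equiv.Perm α)) {k : ℕ} (hk : 3 ≤ k) (hkn : k ≤ Fintype.card α) (hG : MulAction.IsMultiplyPretransitive G α k) (g : Equiv.Perm α) (hg : g ∈ G) (hg1 : g ≠ 1) (hsupp : g.support.card < 2 * k - 2) : (∃ h : Equiv.Perm α, h ∈ G ∧ h ≠ 1 ∧ h.support.card ≤ 3) ∧ alternatingGroup α ≤ G := by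
  classical
  haveI := hG
  have h2 : MulAction.IsMultiplyPretransitive G α 2 :=
    MulAction.isMultiplyPretransitive_of_le (n := k) (by omega)
      (by rw [Nat.card_eq_fintype_card]; exact hkn)
  haveI := MulAction.isPreprimitive_of_is_two_pretransitive h2
  obtain ⟨h, hh, hmin⟩ := (Set.toFinite {h : Equiv.Perm α | h ∈ G ∧ h ≠ 1}).exists_minimalFor
    (fun h => h.support.card) _ ⟨g, hg, hg1⟩
  have hmin' : ∀ u : Equiv.Perm α, u ∈ G → u ≠ 1 → h.support.card ≤ u.support.card := by
    intro u hu hu1
    rcases le_total h.support.card u.support.card with hle | hle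
    · exact hle
    · exact hmin ⟨hu, hu1⟩ hle
  have hm : h.support.card < 2 * k - 2 := (hmin' g hg hg1).trans_lt hsupp
  have h3 : h.support.card ≤ 3 := by
    by_contra hc
    push Not at hc
    rcases Nat.lt_or_ge (Fintype.card α) (h.support.card + 1) with hn | hn
    · -- every point is moved
      have hn' : h.support.card = Fintype.card α :=
        le_antisymm (Finset.card_le_univ _) (by omega)
      rcases Nat.eq_or_lt_of_le hkn with hke | hke
      · have htop : G = ⊤ := Equiv.Perm.eq_top_of_isMultiplyPretransitive
          (MulAction.isMultiplyPretransitive_of_le (n := k)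
            (by rw [Nat.card_eq_fintype_card]; omega)
            (by rw [Nat.card_eq_fintype_card]; exact hkn))
        obtain ⟨a, b, hab⟩ := Fintype.one_lt_card_iff.1 (show 1 < Fintype.card α by omega)
        have := hmin' (Equiv.swap a b) (htop ▸ Subgroup.mem_top _)
          (fun e => hab (Equiv.swap_eq_one_iff.1 e))
        rw [Equiv.Perm.card_support_swap hab] at this
        omega
      obtain ⟨y, hy⟩ : h.support.Nonempty := Finset.card_pos.1 (by omega)
      have hyy : h y ≠ y := Equiv.Perm.mem_support.1 hy
      obtain ⟨S₁, hS₁sub, -, hS₁⟩ := Finset.exists_subsuperset_card_eq (s := {y, h y})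
        (t := Finset.univ) (n := k - 1) (Finset.subset_univ _)
        (by rw [Finset.card_pair hyy.symm]; omega) (by rw [Finset.card_univ]; omega)
      obtain ⟨S, hyS, hyS', hS, y₀, hy₀, hy₀'⟩ : ∃ S : Finset α, y ∈ S ∧ h y ∈ S ∧ S.card = k - 1 ∧
          ∃ y₀ ∈ S, h y₀ ∉ S := by
        by_cases hex : ∃ y₀ ∈ S₁, h y₀ ∉ S₁
        · exact ⟨S₁, hS₁sub (by simp), hS₁sub (by simp), hS₁, hex⟩
        push Not at hex
        have hinj : S₁.image h = S₁ := Finset.eq_of_subset_of_card_le
          (Finset.image_subset_iff.2 hex) (by rw [Finset.card_image_of_injective _ h.injective])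
        obtain ⟨a, ha⟩ : (S₁ \ {y, h y}).Nonempty := Finset.card_pos.1 (by
          rw [Finset.card_sdiff_of_subset hS₁sub, hS₁, Finset.card_pair hyy.symm]; omega)
        obtain ⟨b, hb⟩ : S₁ᶜ.Nonempty := Finset.card_pos.1 (by
          rw [Finset.card_compl, hS₁]; omega)
        rw [Finset.mem_compl] at hb
        simp only [Finset.mem_sdiff, Finset.mem_insert, Finset.mem_singleton, not_or] at ha
        refine ⟨insert b (S₁.erase a), Finset.mem_insert_of_mem (Finset.mem_erase.2
          ⟨Ne.symm ha.2.1, hS₁sub (by simp)⟩), Finset.mem_insert_of_mem (Finset.mem_erase.2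
          ⟨Ne.symm ha.2.2, hS₁sub (by simp)⟩), ?_, b, Finset.mem_insert_self _ _, ?_⟩
        · rw [Finset.card_insert_of_notMem (fun hh' => hb (Finset.mem_of_mem_erase hh')),
            Finset.card_erase_of_mem ha.1, hS₁]
          omega
        · intro hmem
          have hhb : h b ≠ b := Equiv.Perm.mem_support.1
            ((Finset.card_eq_iff_eq_univ _).1 hn' ▸ Finset.mem_univ b)
          rcases Finset.mem_insert.1 hmem with e | e
          · exact hhb e
          · have := Finset.mem_of_mem_erase e
            rw [← hinj] at this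
            obtain ⟨c, hc', hce⟩ := Finset.mem_image.1 this
            exact hb (h.injective hce ▸ hc')
      obtain ⟨w, hw⟩ : ∃ w, w ∉ insert (h y₀) S := by
        by_contra hh'
        push Not at hh'
        have := congrArg Finset.card (Finset.eq_univ_iff_forall.2 hh')
        rw [Finset.card_univ, Finset.card_insert_of_notMem hy₀'] at this
        omega
      rw [Finset.mem_insert, not_or] at hw
      obtain ⟨f, hf, hfw⟩ := Perm.exists_fixing_of_isMultiplyPretransitive hG (T := S)
        (by omega) hy₀' hw.2
      set u := h⁻¹ * ((f : Equiv.Perm α) * h * (f : Equiv.Perm α)⁻¹) with hu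
      have hfix : ∀ t ∈ S, ((f : Equiv.Perm α))⁻¹ t = t := fun t ht => by
        rw [Equiv.Perm.inv_eq_iff_eq]; exact (hf t ht).symm
      have huy : u y = y := by
        simp only [hu, Equiv.Perm.mul_apply, hfix y hyS]
        rw [show (f : Equiv.Perm α) (h y) = h y from hf _ hyS']
        exact h.symm_apply_apply y
      have hu1 : u ≠ 1 := by
        intro e
        apply hw.1
        have h1 : u y₀ = y₀ := by rw [e]; rfl
        simp only [hu, Equiv.Perm.mul_apply, hfix y₀ hy₀, Equiv.Perm.inv_eq_iff_eq] at h1
        exact hfw.symm.trans h1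
      have hle := hmin' u (mul_mem (inv_mem hh.1) (mul_mem (mul_mem f.2 hh.1) (inv_mem f.2))) hu1
      have h4 : u.support ⊆ Finset.univ.erase y := fun t ht => Finset.mem_erase.2
        ⟨fun e => Equiv.Perm.mem_support.1 ht (e ▸ huy), Finset.mem_univ _⟩
      have := Finset.card_le_card h4
      rw [Finset.card_erase_of_mem (Finset.mem_univ _), Finset.card_univ] at this
      omega
    -- some point is fixed
    set m := h.support.card with hmdef
    have hcl : ∀ j, 1 ≤ j → j ≤ m → ∃ S : Finset α, S ⊆ h.support ∧ S.card = j ∧
        (S.filter fun y => h y ∉ S).card ≤ 1 := by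
      intro j hj1
      induction j, hj1 using Nat.le_induction with
      | base =>
        intro _
        obtain ⟨y, hy⟩ : h.support.Nonempty := Finset.card_pos.1 (by omega)
        exact ⟨{y}, Finset.singleton_subset_iff.2 hy, Finset.card_singleton y,
          (Finset.card_filter_le _ _).trans (Finset.card_singleton y).le⟩
      | succ j hj ih =>
        intro hjm
        obtain ⟨S, hSs, hSc, hSe⟩ := ih (by omega)
        rcases (S.filter fun y => h y ∉ S).eq_empty_or_nonempty with he | ⟨y₀, hy₀⟩
        · obtain ⟨z, hz⟩ : (h.support \ S).Nonempty := Finset.card_pos.1 (by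
            rw [Finset.card_sdiff_of_subset hSs]; omega)
          rw [Finset.mem_sdiff] at hz
          refine ⟨insert z S, Finset.insert_subset hz.1 hSs,
            by rw [Finset.card_insert_of_notMem hz.2, hSc], ?_⟩
          refine (Finset.card_le_card (t := {z}) fun y hy => ?_).trans (Finset.card_singleton z).le
          obtain ⟨hy1, hy2⟩ := Finset.mem_filter.1 hy
          rcases Finset.mem_insert.1 hy1 with rfl | hy1
          · exact Finset.mem_singleton_self _
          · exfalso
            have : y ∈ S.filter fun y => h y ∉ S :=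
              Finset.mem_filter.2 ⟨hy1, fun hh' => hy2 (Finset.mem_insert_of_mem hh')⟩
            rw [he] at this
            exact Finset.notMem_empty _ this
        · obtain ⟨hy1, hy2⟩ := Finset.mem_filter.1 hy₀
          refine ⟨insert (h y₀) S, Finset.insert_subset
            (Equiv.Perm.apply_mem_support.2 (hSs hy1)) hSs,
            by rw [Finset.card_insert_of_notMem hy2, hSc], ?_⟩
          refine (Finset.card_le_card (t := {h y₀}) fun y hy => ?_).trans
            (Finset.card_singleton _).le
          obtain ⟨hy3, hy4⟩ := Finset.mem_filter.1 hy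
          rcases Finset.mem_insert.1 hy3 with rfl | hy3
          · exact Finset.mem_singleton_self _
          · exfalso
            have hy5 : y ∈ S.filter fun y => h y ∉ S :=
              Finset.mem_filter.2 ⟨hy3, fun hh' => hy4 (Finset.mem_insert_of_mem hh')⟩
            have := Finset.card_le_one.1 hSe y hy5 y₀ hy₀
            subst this
            exact hy4 (Finset.mem_insert_self _ _)
    -- the general step
    have hstep : ∀ (S : Finset α) (z w : α), S ⊆ h.support → S.card + 1 ≤ k →
        z ∈ h.support → z ∉ S → w ∉ S → z ≠ w → (w ∉ h.support ∨ h⁻¹ z ∈ S) →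
        h.support.card + (S.filter fun y => h y ∈ S).card + S.card +
          (if w ∈ h.support then 1 else 0) ≤ 2 * m := by
      intro S z w hSs hSk hzm hzS hwS hzw hwit
      obtain ⟨f, hf, hfz⟩ := Perm.exists_fixing_of_isMultiplyPretransitive (G := G)
        (k := S.card + 1) (MulAction.isMultiplyPretransitive_of_le (n := k) hSk
          (by rw [Nat.card_eq_fintype_card]; exact hkn)) (T := S) rfl hzS hwS
      set F : Equiv.Perm α := Subtype.val f with hFdef
      change F z = w at hfz
      set u := h⁻¹ * (F * h * F⁻¹) with hu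
      have hfix : ∀ t ∈ S, F⁻¹ t = t := fun t ht => by
        rw [Equiv.Perm.inv_eq_iff_eq]; exact (hf t ht).symm
      have hu1 : u ≠ 1 := by
        intro e
        rw [hu, inv_mul_eq_one] at e
        rcases hwit with hwo | hy₀
        · apply hwo
          rw [e, Equiv.Perm.support_conj, Finset.mem_map_equiv]
          rw [show F.symm w = z by rw [← hfz]; exact F.symm_apply_apply z]
          exact hzm
        · apply hzw
          have h1 := congrArg (fun q : Equiv.Perm α => q (h⁻¹ z)) e
          rw [Equiv.Perm.mul_apply, Equiv.Perm.mul_apply, hfix _ hy₀] at h1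
          simp at h1
          exact h1.trans hfz
      have hle := hmin' u (mul_mem (inv_mem hh.1) (mul_mem (mul_mem f.2 hh.1) (inv_mem f.2))) hu1
      set A := h.support
      set B := (F * h * F⁻¹).support
      have hBc : B.card = A.card := Equiv.Perm.card_support_conj
      have hSB : S ⊆ B := fun t ht => by
        rw [Equiv.Perm.mem_support]
        intro e
        simp only [Equiv.Perm.mul_apply, hfix t ht] at e
        rw [← Equiv.Perm.eq_inv_iff_eq, hfix t ht] at e
        exact Equiv.Perm.mem_support.1 (hSs ht) e
      have hsub : u.support ⊆ (A ∪ B) \ (S.filter fun y => h y ∈ S) := by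
        intro t ht
        rw [Equiv.Perm.mem_support] at ht
        refine Finset.mem_sdiff.2 ⟨?_, fun hts => ht ?_⟩
        · by_contra hab
          simp only [Finset.mem_union, not_or, A, B, Equiv.Perm.notMem_support] at hab
          apply ht
          rw [hu, Equiv.Perm.mul_apply, hab.2, Equiv.Perm.inv_eq_iff_eq, hab.1]
        · obtain ⟨h1, h2⟩ := Finset.mem_filter.1 hts
          simp only [hu, Equiv.Perm.mul_apply, hfix t h1, show F (h t) = h t from hf _ h2]
          exact h.symm_apply_apply t
      have h1 := Finset.card_le_card hsub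
      rw [Finset.card_sdiff_of_subset (fun t ht => Finset.mem_union_left _
        (hSs (Finset.mem_filter.1 ht).1))] at h1
      have h2 := Finset.card_union_add_card_inter A B
      have h3 : S.card + (if w ∈ h.support then 1 else 0) ≤ (A ∩ B).card := by
        split_ifs with hw
        · rw [← Finset.card_insert_of_notMem hwS]
          refine Finset.card_le_card (Finset.insert_subset (Finset.mem_inter.2 ⟨hw, ?_⟩)
            fun t ht => Finset.mem_inter.2 ⟨hSs ht, hSB ht⟩)
          simp only [B, Equiv.Perm.support_conj, Finset.mem_map_equiv]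
          rw [show F.symm w = z by rw [← hfz]; exact F.symm_apply_apply z]
          exact hzm
        · exact Finset.card_le_card fun t ht => Finset.mem_inter.2 ⟨hSs ht, hSB ht⟩
      have h5 : (S.filter fun y => h y ∈ S).card ≤ (A ∪ B).card := Finset.card_le_card
        fun t ht => Finset.mem_union_left _ (hSs (Finset.mem_filter.1 ht).1)
      change (S.card + if w ∈ A then 1 else 0) ≤ (A ∩ B).card at h3
      omega
    obtain ⟨o, ho⟩ : ∃ o, o ∉ h.support := by
      by_contra hh'
      push Not at hh'
      have := congrArg Finset.card (Finset.eq_univ_iff_forall.2 hh')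
      rw [Finset.card_univ] at this
      omega
    obtain ⟨S, hSs, hSc, hSe⟩ := hcl (min (k - 1) (m - 1)) (by omega) (by omega)
    have hsplit : (S.filter fun y => h y ∈ S).card + (S.filter fun y => h y ∉ S).card = S.card :=
      Finset.card_filter_add_card_filter_not _
    obtain ⟨z₁, hz₁⟩ : (h.support \ S).Nonempty := Finset.card_pos.1 (by
      rw [Finset.card_sdiff_of_subset hSs]; omega)
    rw [Finset.mem_sdiff] at hz₁
    rcases (S.filter fun y => h y ∉ S).eq_empty_or_nonempty with he | ⟨y₀, hy₀⟩
    · have := hstep S z₁ o hSs (by omega) hz₁.1 hz₁.2 (fun hh' => ho (hSs hh'))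
        (fun e => ho (e ▸ hz₁.1)) (Or.inl ho)
      rw [he, Finset.card_empty] at hsplit
      rw [if_neg ho] at this
      omega
    obtain ⟨hy1, hy2⟩ := Finset.mem_filter.1 hy₀
    have hzm : h y₀ ∈ h.support := Equiv.Perm.apply_mem_support.2 (hSs hy1)
    have hinv : h⁻¹ (h y₀) ∈ S := by simpa using hy1
    rcases Nat.lt_or_ge S.card (m - 1) with hr | hr
    · obtain ⟨w, hw⟩ : ((h.support \ S).erase (h y₀)).Nonempty := Finset.card_pos.1 (by
        rw [Finset.card_erase_of_mem (Finset.mem_sdiff.2 ⟨hzm, hy2⟩),
          Finset.card_sdiff_of_subset hSs]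
        omega)
      obtain ⟨hw1, hw2⟩ := Finset.mem_erase.1 hw
      rw [Finset.mem_sdiff] at hw2
      have := hstep S (h y₀) w hSs (by omega) hzm hy2 hw2.2 hw1.symm (Or.inr hinv)
      rw [if_pos hw2.1] at this
      omega
    · have := hstep S (h y₀) o hSs (by omega) hzm hy2 (fun hh' => ho (hSs hh'))
        (fun e => ho (e ▸ hzm)) (Or.inr hinv)
      rw [if_neg ho] at this
      omega
  refine ⟨⟨h, hh.1, hh.2, h3⟩, ?_⟩
  have h2le : 2 ≤ h.support.card := Equiv.Perm.two_le_card_support_of_ne_one hh.2
  rcases (show h.support.card = 2 ∨ h.support.card = 3 by omega) with e | e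
  · rw [Equiv.Perm.subgroup_eq_top_of_isPreprimitive_of_isSwap_mem inferInstance h
      (Equiv.Perm.card_support_eq_two.1 e) hh.1]
    exact le_top
  · exact Equiv.Perm.alternatingGroup_le_of_isPreprimitive_of_isThreeCycle_mem inferInstance
      (card_support_eq_three_iff.1 e) hh.1

end Cfsg.Agent.S0711
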