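import Cfsg.Statements.S0712
import Cfsg.Agent.Lib.Perm.Basic
import Mathlib.GroupTheory.GroupAction.Jordan

set_option autoImplicit false
open Cfsg

namespace Cfsg.Agent.S0712

/-- Jordan: a primitive group in which the pointwise stabiliser of a set `s` is doubly transitive on the complement of `s` (which has at least 2 points) is `(|s| + 2)`-transitive. -/
theorem result {α : Type*} [Fintype α] [DecidableEq α] (G : Subgroup (Equiv.Perm α)) (hG : MulAction.IsPreprimitive G α) (s : Set α) {m : ℕ} (hsm : s.ncard = m) (hm : m + 2 ≤ Fintype.card α) (h2 : MulAction.IsMultiplyPretransitive (fixingSubgroup G s) (SubMulAction.ofFixingSubgroup G s) 2) : MulAction.IsMultiplyPretransitive G α (m + 2) := by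
  classical
  haveI := h2
  have hp2 : MulAction.IsPreprimitive (fixingSubgroup G s) (SubMulAction.ofFixingSubgroup G s) :=
    MulAction.isPreprimitive_of_is_two_pretransitive h2
  have hpre : MulAction.IsMultiplyPreprimitive G α (m + 1) := by
    obtain _ | j := m
    · exact (MulAction.is_one_preprimitive_iff G α).2 hG
    · exact MulAction.IsPreprimitive.isMultiplyPreprimitive hG hsm
        (by rw [Nat.card_eq_fintype_card]; omega) hp2
  have hm1 : MulAction.IsMultiplyPretransitive G α (m + 1) := hpre.isMultiplyPretransitive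
  refine Perm.isMultiplyPretransitive_of_fixing fun T hT x y hx hy => ?_
  by_cases hTm : T.card + 1 ≤ m + 1
  · haveI := hm1
    exact Perm.exists_fixing_of_isMultiplyPretransitive
      (MulAction.isMultiplyPretransitive_of_le (n := m + 1) (m := T.card + 1) hTm
        (by rw [Nat.card_eq_fintype_card]; omega)) rfl hx hy
  · obtain ⟨u, hu⟩ : ∃ u, u ∈ T := Finset.card_pos.1 (by omega)
    have hTu : (T.erase u).card = s.toFinset.card := by
      rw [Finset.card_erase_of_mem hu, ← Set.ncard_eq_toFinset_card', hsm]; omega
    obtain ⟨w, hw⟩ : ∃ w : G, ∀ z, z ∈ T.erase u ↔ w • z ∈ s := by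
      haveI : MulAction.IsMultiplyPretransitive G α m := MulAction.isMultiplyPretransitive_of_le
        (n := m + 1) (Nat.le_succ m) (by rw [Nat.card_eq_fintype_card]; omega)
      let e₁ : Fin m ↪ α := ((T.erase u).equivFin.trans (finCongr (by rw [hTu, ← Set.ncard_eq_toFinset_card', hsm]))).symm.toEmbedding.trans (Function.Embedding.subtype _)
      let e₂ : Fin m ↪ α := (s.toFinset.equivFin.trans (finCongr (by rw [← Set.ncard_eq_toFinset_card', hsm]))).symm.toEmbedding.trans (Function.Embedding.subtype _)
      obtain ⟨w, hw⟩ := MulAction.exists_smul_eq G e₁ e₂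
      refine ⟨w, fun z => ⟨fun hz => ?_, fun hz => ?_⟩⟩
      · have := congrArg (fun f : Fin m ↪ α => f (((T.erase u).equivFin.trans (finCongr (by rw [hTu, ← Set.ncard_eq_toFinset_card', hsm]))) ⟨z, hz⟩)) hw
        simp only [Function.Embedding.smul_apply, e₁, Function.Embedding.trans_apply,
          Equiv.coe_toEmbedding, Equiv.symm_apply_apply] at this
        simp only [Function.Embedding.coe_subtype] at this
        rw [this]
        exact Set.mem_toFinset.1 (Subtype.coe_prop _)
      · have := congrArg (fun f : Fin m ↪ α => f ((s.toFinset.equivFin.trans (finCongr (by rw [← Set.ncard_eq_toFinset_card', hsm]))) ⟨w • z, Set.mem_toFinset.2 hz⟩)) hw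
        simp only [Function.Embedding.smul_apply, e₂, Function.Embedding.trans_apply,
          Equiv.coe_toEmbedding, Equiv.symm_apply_apply, Function.Embedding.coe_subtype] at this
        rw [← smul_left_cancel w this]
        exact Subtype.coe_prop _
    have hnot : ∀ z, z ∉ T → w • z ∉ s := fun z hz hh => hz (Finset.mem_of_mem_erase ((hw z).2 hh))
    have hus : w • u ∉ s := fun hh => (Finset.notMem_erase u T) ((hw u).2 hh)
    let pt : ∀ z : α, z ∉ s → SubMulAction.ofFixingSubgroup G s := fun z hz => ⟨z, hz⟩
    have hne : ∀ z (hz : z ∉ T), pt (w • u) hus ≠ pt (w • z) (hnot z hz) := fun z hz e =>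
      hz (smul_left_cancel w (congrArg Subtype.val e) ▸ hu)
    obtain ⟨h, hh⟩ := MulAction.is_two_pretransitive_iff.1 h2 (hne x hx) (hne y hy)
    refine ⟨w⁻¹ * (h : G) * w, fun t ht => ?_, ?_⟩
    · rw [mul_smul, mul_smul, inv_smul_eq_iff]
      by_cases htu : t = u
      · subst htu
        exact congrArg Subtype.val hh.1
      · exact (mem_fixingSubgroup_iff G).1 h.2 _ ((hw t).1 (Finset.mem_erase.2 ⟨htu, ht⟩))
    · rw [mul_smul, mul_smul, inv_smul_eq_iff]
      exact congrArg Subtype.val hh.2

end Cfsg.Agent.S0712
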