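import Cfsg.Statements.S0714
import Mathlib.GroupTheory.SpecificGroups.Alternating
import Mathlib.GroupTheory.GroupAction.MultipleTransitivity

set_option autoImplicit false
open Cfsg

namespace Cfsg.Agent.S0714

/-- Over any field, the permutation module of the alternating group of degree at least 5 has exactly four invariant subspaces: zero, the constant functions, the functions with coordinate sum zero, and everything. -/
theorem result {α : Type*} [Fintype α] [DecidableEq α] (hα : 5 ≤ Fintype.card α) {K : Type*} [Field K] (W : Subrepresentation (Cfsg.permRep K (alternatingGroup α) α)) : W.toSubmodule = ⊥ ∨ W = Cfsg.permConstants K (alternatingGroup α) α ∨ W = Cfsg.permSumZero K (alternatingGroup α) α ∨ W.toSubmodule = ⊤ := by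
  classical
  have hexd : ∀ a b c : α, ∃ d e : α, d ≠ a ∧ d ≠ b ∧ d ≠ c ∧ e ≠ a ∧ e ≠ b ∧ e ≠ c ∧ d ≠ e := by
    intro a b c
    have h2 : 1 < (({a, b, c} : Finset α)ᶜ).card := by
      rw [Finset.card_compl]
      have := Finset.card_le_three (a := a) (b := b) (c := c)
      omega
    obtain ⟨d, hd, e, he, hde⟩ := Finset.one_lt_card.1 h2
    simp only [Finset.mem_compl, Finset.mem_insert, Finset.mem_singleton, not_or] at hd he
    exact ⟨d, e, hd.1, hd.2.1, hd.2.2, he.1, he.2.1, he.2.2, hde⟩
  have hsw : ∀ a b c d : α, a ≠ b → c ≠ d →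
      Equiv.swap a b * Equiv.swap c d ∈ alternatingGroup α := fun a b c d hab hcd => by
    rw [Equiv.Perm.mem_alternatingGroup, map_mul, Equiv.Perm.sign_swap hab,
      Equiv.Perm.sign_swap hcd]
    rfl
  have hmove : ∀ (σ : Equiv.Perm α), σ ∈ alternatingGroup α → ∀ v ∈ W.toSubmodule,
      (fun x => v (σ⁻¹ x)) ∈ W.toSubmodule := fun σ hσ v hv =>
    W.apply_mem_toSubmodule ⟨σ, hσ⟩ hv
  let D : α → α → α → K := fun a b => Pi.single a 1 - Pi.single b 1
  have hall : ∀ a b : α, a ≠ b → D a b ∈ W.toSubmodule → ∀ c d, D c d ∈ W.toSubmodule := by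
    intro a b hab hD c d
    by_cases hcd : c = d
    · subst hcd; simp [D]
    haveI : MulAction.IsMultiplyPretransitive (alternatingGroup α) α 2 := by
      haveI := alternatingGroup.isMultiplyPretransitive α
      exact MulAction.isMultiplyPretransitive_of_le (n := Nat.card α - 2)
        (by rw [Nat.card_eq_fintype_card]; omega) (by omega)
    obtain ⟨σ, h1, h2⟩ := MulAction.is_two_pretransitive_iff.1
      (inferInstance : MulAction.IsMultiplyPretransitive (alternatingGroup α) α 2) hab hcd
    have := hmove σ σ.2 _ hD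
    convert this using 1
    funext x
    simp only [D, Pi.sub_apply, Pi.single_apply, Equiv.Perm.inv_eq_iff_eq, ← h1, ← h2]
    rfl
  have key : (∃ v ∈ W.toSubmodule, ∃ a b : α, v a ≠ v b) →
      (Cfsg.permSumZero K (alternatingGroup α) α).toSubmodule ≤ W.toSubmodule := by
    rintro ⟨v, hv, a, b, hab⟩
    obtain ⟨a', b', hne', hD⟩ : ∃ a' b', a' ≠ b' ∧ D a' b' ∈ W.toSubmodule := by
      have hab' : a ≠ b := fun e => hab (by rw [e])
      obtain ⟨c, -, hca, hcb, -⟩ := hexd a b b
      have h3cyc : ∀ (w : α → K) (p q r : α), w ∈ W.toSubmodule → p ≠ q → p ≠ r → q ≠ r →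
          (fun x => w x - w ((Equiv.swap p q * Equiv.swap q r) x)) ∈ W.toSubmodule := by
        intro w p q r hw hpq hpr hqr
        have h1 := hmove (Equiv.swap p q * Equiv.swap q r)⁻¹
          (inv_mem (hsw p q q r hpq hqr)) w hw
        rw [inv_inv] at h1
        exact W.toSubmodule.sub_mem hw h1
      set w : α → K := fun x => v x - v ((Equiv.swap a b * Equiv.swap b c) x) with hwdef
      have hw : w ∈ W.toSubmodule := h3cyc v a b c hv hab' hca.symm hcb.symm
      have hwa : w a = v a - v b := by
        simp [hwdef, Equiv.swap_apply_of_ne_of_ne hab' hca.symm]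
      have hw0 : ∀ x, x ≠ a → x ≠ b → x ≠ c → w x = 0 := fun x h1 h2 h3 => by
        simp [hwdef, Equiv.swap_apply_of_ne_of_ne h2 h3, Equiv.swap_apply_of_ne_of_ne h1 h2]
      obtain ⟨d, e, hda, hdb, hdc, hea, heb, hec, hde⟩ := hexd a b c
      have hdiff : ∀ p q : α, p ≠ q → p ≠ d → p ≠ e → q ≠ d → q ≠ e → w p ≠ w q →
          ∃ a' b', a' ≠ b' ∧ D a' b' ∈ W.toSubmodule := by
        intro p q hpq h1 h2 h3 h4 hne
        refine ⟨p, q, hpq, ?_⟩
        have h5 := hmove _ (hsw p q d e hpq hde) w hw
        have h6 := W.toSubmodule.smul_mem (w p - w q)⁻¹ (W.toSubmodule.sub_mem hw h5)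
        convert h6 using 1
        funext x
        simp only [mul_inv_rev, Equiv.swap_inv, Pi.smul_apply, Pi.sub_apply, smul_eq_mul,
          Equiv.Perm.mul_apply, D]
        have hne' : w p - w q ≠ 0 := sub_ne_zero.2 hne
        by_cases hxp : x = p
        · subst hxp
          rw [Equiv.swap_apply_left, Equiv.swap_apply_of_ne_of_ne h3 h4,
            Pi.single_eq_same, Pi.single_eq_of_ne hpq, sub_zero, inv_mul_cancel₀ hne']
        by_cases hxq : x = q
        · subst hxq
          rw [Equiv.swap_apply_right, Equiv.swap_apply_of_ne_of_ne h1 h2,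
            Pi.single_eq_same, Pi.single_eq_of_ne (Ne.symm hpq), zero_sub,
            show w x - w p = -(w p - w x) by ring, mul_neg, inv_mul_cancel₀ hne']
        rw [Equiv.swap_apply_of_ne_of_ne hxp hxq, Pi.single_eq_of_ne hxp, Pi.single_eq_of_ne hxq,
          sub_zero]
        by_cases hxd : x = d
        · subst hxd
          rw [Equiv.swap_apply_left, hw0 x hda hdb hdc, hw0 e hea heb hec, sub_self, mul_zero]
        by_cases hxe : x = e
        · subst hxe
          rw [Equiv.swap_apply_right, hw0 x hea heb hec, hw0 d hda hdb hdc, sub_self, mul_zero]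
        rw [Equiv.swap_apply_of_ne_of_ne hxd hxe, sub_self, mul_zero]
      by_cases hwab : w a = w b
      · by_cases hwbc : w b = w c
        · -- all three equal and non-zero
          refine ⟨c, d, hdc.symm, ?_⟩
          have h5 := hmove _ (hsw a b c d hab' hdc.symm) w hw
          have h6 := W.toSubmodule.smul_mem (w c)⁻¹ (W.toSubmodule.sub_mem hw h5)
          have hc0 : w c ≠ 0 := by
            rw [← hwbc, ← hwab, hwa]; exact sub_ne_zero.2 hab
          convert h6 using 1
          funext x
          simp only [mul_inv_rev, Equiv.swap_inv, Pi.smul_apply, Pi.sub_apply, smul_eq_mul,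
            Equiv.Perm.mul_apply, D]
          by_cases hxc : x = c
          · subst hxc
            rw [Equiv.swap_apply_of_ne_of_ne hca hcb, Equiv.swap_apply_left, hw0 d hda hdb hdc,
              Pi.single_eq_same, Pi.single_eq_of_ne hdc.symm, sub_zero, sub_zero,
              inv_mul_cancel₀ hc0]
          by_cases hxd : x = d
          · subst hxd
            rw [Equiv.swap_apply_of_ne_of_ne hda hdb, Equiv.swap_apply_right, hw0 x hda hdb hdc,
              Pi.single_eq_same, Pi.single_eq_of_ne hdc, zero_sub, zero_sub, mul_neg,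
              inv_mul_cancel₀ hc0]
          rw [Pi.single_eq_of_ne hxc, Pi.single_eq_of_ne hxd, sub_zero]
          by_cases hxa : x = a
          · subst hxa
            rw [Equiv.swap_apply_left, Equiv.swap_apply_of_ne_of_ne hcb.symm hdb.symm, hwab,
              sub_self, mul_zero]
          by_cases hxb : x = b
          · subst hxb
            rw [Equiv.swap_apply_right, Equiv.swap_apply_of_ne_of_ne hca.symm hda.symm, hwab,
              sub_self, mul_zero]
          rw [Equiv.swap_apply_of_ne_of_ne hxa hxb, Equiv.swap_apply_of_ne_of_ne hxc hxd,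
            sub_self, mul_zero]
        · exact hdiff b c hcb.symm hdb.symm heb.symm hdc.symm hec.symm hwbc
      · exact hdiff a b hab' hda.symm hea.symm hdb.symm heb.symm hwab
    intro f hf
    have hf' : ∑ x, f x = 0 := hf
    have : f = ∑ x, f x • D x a := by
      funext y
      simp only [Finset.sum_apply, Pi.smul_apply, D, Pi.sub_apply, smul_eq_mul, mul_sub,
        Finset.sum_sub_distrib, ← Finset.sum_mul, hf', zero_mul, sub_zero]
      rw [Finset.sum_eq_single y]
      · simp
      · intro x _ hx; simp [Pi.single_eq_of_ne hx.symm]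
      · simp
    rw [this]
    exact W.toSubmodule.sum_mem fun x _ => W.toSubmodule.smul_mem _ (hall a' b' hne' hD x a)
  by_cases hnc : ∃ v ∈ W.toSubmodule, ∃ a b : α, v a ≠ v b
  · have hle := key hnc
    by_cases heq : W.toSubmodule ≤ (Cfsg.permSumZero K (alternatingGroup α) α).toSubmodule
    · exact Or.inr (Or.inr (Or.inl (Subrepresentation.toSubmodule_injective (le_antisymm heq hle))))
    · refine Or.inr (Or.inr (Or.inr (eq_top_iff.2 fun f _ => ?_)))
      obtain ⟨v, hv, hv'⟩ := SetLike.not_le_iff_exists.1 heq
      have hs : ∑ x, v x ≠ 0 := hv'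
      have hmem : f - ((∑ x, f x) / ∑ x, v x) • v ∈ W.toSubmodule := hle (by
        show ∑ x, _ = (0 : K)
        simp only [Pi.sub_apply, Pi.smul_apply, smul_eq_mul, Finset.sum_sub_distrib,
          ← Finset.mul_sum, div_mul_cancel₀ _ hs, sub_self])
      simpa using W.toSubmodule.add_mem hmem
        (W.toSubmodule.smul_mem ((∑ x, f x) / ∑ x, v x) hv)
  · push Not at hnc
    by_cases h0 : W.toSubmodule = ⊥
    · exact Or.inl h0
    refine Or.inr (Or.inl (Subrepresentation.toSubmodule_injective (le_antisymm ?_ ?_)))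
    · intro v hv
      obtain ⟨a⟩ : Nonempty α := Fintype.card_pos_iff.1 (by omega)
      exact Submodule.mem_span_singleton.2 ⟨v a, funext fun x => by simp [hnc v hv a x]⟩
    · refine Submodule.span_le.2 ?_
      rintro _ rfl
      obtain ⟨v, hv, hv0⟩ := (Submodule.ne_bot_iff _).1 h0
      obtain ⟨a, ha⟩ : ∃ a, v a ≠ 0 := by
        by_contra hh
        push Not at hh
        exact hv0 (funext hh)
      have : (fun _ : α => (1 : K)) = (v a)⁻¹ • v := funext fun x => by
        simp [hnc v hv x a, ha]
      rw [SetLike.mem_coe, this]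
      exact W.toSubmodule.smul_mem _ hv

end Cfsg.Agent.S0714
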