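import Cfsg.Statements.S0716
import Mathlib
import Cfsg.Agent.Lib.Perm.PermChar

set_option autoImplicit false
open Cfsg

namespace Cfsg.Agent.S0716

open Cfsg.Agent MulAction

/-- (a) If all non-principal irreducible constituents of the permutation character of a transitive group have the same degree `f`, the character is multiplicity-free and all non-trivial subdegrees equal `f`. (b) A transitive group of rank at most 5 has multiplicity-free permutation character. -/
theorem result {G : Type*} [Group G] [Fintype G] {Ω : Type*} [Fintype Ω] [MulAction G Ω] [MulAction.IsPretransitive G Ω] (a : Ω) : ((f : ℕ) → (∀ χ : G → ℂ, Cfsg.IsIrrCharacter G χ → χ ≠ (fun _ => 1) → Cfsg.classInner (fun g : G => (Nat.card (MulAction.fixedBy Ω g) : ℂ)) χ ≠ 0 → χ 1 = f) → (∀ χ : G → ℂ, Cfsg.IsIrrCharacter G χ → Cfsg.classInner (fun g : G => (Nat.card (MulAction.fixedBy Ω g) : ℂ)) χ = 0 ∨ Cfsg.classInner (fun g : G => (Nat.card (MulAction.fixedBy Ω g) : ℂ)) χ = 1) ∧ ∀ b : Ω,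 b ≠ a → Nat.card (MulAction.orbit (MulAction.stabilizer G a) b) = f) ∧ (Nat.card (MulAction.orbitRel.Quotient (MulAction.stabilizer G a) Ω) ≤ 5 → ∀ χ : G → ℂ, Cfsg.IsIrrCharacter G χ → Cfsg.classInner (fun g : G => (Nat.card (MulAction.fixedBy Ω g) : ℂ)) χ = 0 ∨ Cfsg.classInner (fun g : G => (Nat.card (MulAction.fixedBy Ω g) : ℂ)) χ = 1) := by
  classical
  set π : G → ℂ := fun g => (Nat.card (MulAction.fixedBy Ω g) : ℂ) with hπ
  have hch : IsCharacter G π := Perm.PermChar.isCharacter_permChar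
  obtain ⟨m, hm⟩ := Char.exists_decomposition hch
  have hcoef : ∀ χ : IrrCharacter G, classInner π (χ : G → ℂ) = m χ :=
    Char.decomposition_coeff m hm
  set H := stabilizer G a with hH
  set r := Nat.card (orbitRel.Quotient H Ω) with hr
  let χ₁ : IrrCharacter G := ⟨fun _ => 1, Char.isIrrCharacter_one⟩
  have hm1 : m χ₁ = 1 := by
    have h := hcoef χ₁
    have h' : classInner π (fun _ : G => (1 : ℂ)) = 1 := Perm.PermChar.inner_one a
    rw [show ((χ₁ : IrrCharacter G) : G → ℂ) = fun _ => 1 from rfl, h'] at h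
    exact_mod_cast h.symm
  have hrank : ∑ χ : IrrCharacter G, m χ * m χ = r := by
    have h : classInner π π = (r : ℂ) := Perm.PermChar.inner_self a
    have h2 : classInner π π = ∑ χ : IrrCharacter G, ((m χ : ℂ) * m χ) := by
      nth_rewrite 2 [hm]
      rw [Char.classInner_sum_right]
      refine Finset.sum_congr rfl fun χ _ => ?_
      rw [← Nat.cast_smul_eq_nsmul ℂ, Char.classInner_smul_right, Complex.conj_natCast, hcoef]
    rw [h] at h2
    exact_mod_cast h2.symm
  set s := Finset.univ.erase χ₁ with hs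
  have hrest : ∑ χ ∈ s, m χ * m χ + 1 = r := by
    rw [← hrank, ← Finset.add_sum_erase _ _ (Finset.mem_univ χ₁), hm1, add_comm]
  -- the first part
  have part1 : ∀ f : ℕ, (∀ χ : G → ℂ, IsIrrCharacter G χ → χ ≠ (fun _ => 1) → classInner π χ ≠ 0 →
      χ 1 = f) → (∀ χ ∈ s, m χ ≤ 1) ∧ ∀ b : Ω, b ≠ a → Nat.card (orbit H b) = f := by
    intro f hf
    by_cases hall : ∀ χ ∈ s, m χ = 0
    · refine ⟨fun χ hχ => by rw [hall χ hχ]; exact Nat.zero_le 1, fun b hb => absurd ?_ hb⟩
      have hr1 : r = 1 := by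
        rw [← hrest, Finset.sum_eq_zero fun χ hχ => by rw [hall χ hχ, mul_zero]]
      haveI : Subsingleton (orbitRel.Quotient H Ω) := (Nat.card_eq_one_iff_unique.1 hr1).1
      have hmem : b ∈ orbit H a := Quotient.exact (Subsingleton.elim (Quotient.mk'' b : orbitRel.Quotient H Ω) (Quotient.mk'' a))
      obtain ⟨k, hk⟩ := hmem
      rw [← hk]; exact k.2
    push Not at hall
    obtain ⟨χ₂, hχ₂, hm2⟩ := hall
    have hdeg : ∀ χ ∈ s, (m χ : ℂ) * (χ : G → ℂ) 1 = (m χ : ℂ) * f := by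
      intro χ hχ
      by_cases h0 : m χ = 0
      · simp [h0]
      · rw [hf χ χ.2 (fun e => Finset.ne_of_mem_erase hχ (Subtype.ext e))]
        rw [hcoef]
        exact_mod_cast h0
    have hfpos : 0 < f := by
      refine Nat.pos_of_ne_zero fun h0 => ?_
      have h := hdeg χ₂ hχ₂
      rw [h0, Nat.cast_zero, mul_zero, mul_eq_zero] at h
      exact h.elim (fun h' => hm2 (by exact_mod_cast h')) (Char.irr_one_ne_zero χ₂.2)
    have hn : Fintype.card Ω = 1 + f * ∑ χ ∈ s, m χ := by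
      have h1 : π 1 = (Fintype.card Ω : ℂ) := by
        show (Nat.card (fixedBy Ω (1 : G)) : ℂ) = _
        rw [show fixedBy Ω (1 : G) = Set.univ from Set.ext fun x => by simp, Nat.card_congr (Equiv.Set.univ Ω), Nat.card_eq_fintype_card]
      have h2 : π 1 = ∑ χ : IrrCharacter G, (m χ : ℂ) * (χ : G → ℂ) 1 := by
        conv_lhs => rw [hm]
        simp [Finset.sum_apply]
      rw [h1, ← Finset.add_sum_erase _ _ (Finset.mem_univ χ₁), hm1, Finset.sum_congr rfl hdeg,
        ← Finset.sum_mul] at h2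
      have : (Fintype.card Ω : ℂ) = ((1 + f * ∑ χ ∈ s, m χ : ℕ) : ℂ) := by
        rw [h2]; push_cast
        simp only [χ₁, mul_one, Nat.cast_one]
        ring
      exact_mod_cast this
    -- suborbits
    haveI := Fintype.ofFinite (orbitRel.Quotient H Ω)
    let q₀ : orbitRel.Quotient H Ω := Quotient.mk'' a
    let sz : orbitRel.Quotient H Ω → ℕ := fun q => Nat.card {x : Ω // (Quotient.mk'' x : orbitRel.Quotient H Ω) = q}
    have hsz : ∀ x : Ω, sz (Quotient.mk'' x) = Nat.card (orbit H x) := fun x =>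
      Nat.card_congr (Equiv.subtypeEquivRight fun y => by
        rw [Quotient.eq'']; exact orbitRel_apply)
    have htot : ∑ q, sz q = Fintype.card Ω := by
      rw [← Nat.card_sigma, Nat.card_congr (Equiv.sigmaFiberEquiv _), Nat.card_eq_fintype_card]
    have hd0 : sz q₀ = 1 := by
      rw [hsz a, Nat.card_eq_one_iff_unique]
      refine ⟨⟨fun x y => Subtype.ext ?_⟩, ⟨⟨a, mem_orbit_self a⟩⟩⟩
      obtain ⟨x, k, rfl⟩ := x
      obtain ⟨y, l, rfl⟩ := y
      exact (k.2 : (k : G) • a = a).trans (l.2 : (l : G) • a = a).symm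
    have hle : ∀ q ∈ Finset.univ.erase q₀, f ≤ sz q ∧ f ∣ sz q := by
      intro q hq
      obtain ⟨b, rfl⟩ := Quotient.mk''_surjective q
      have hb : b ≠ a := fun e => Finset.ne_of_mem_erase hq (by rw [e])
      rw [hsz b]
      have hd := Perm.PermChar.dvd_subdegree (G := G) f (fun χ h1 h2 h3 => ⟨1, by rw [hf χ h1 h2 h3]; simp⟩) a b hb
      haveI : Nonempty (orbit H b) := ⟨⟨b, mem_orbit_self b⟩⟩
      exact ⟨Nat.le_of_dvd Nat.card_pos hd, hd⟩
    have hsum1 : ∑ q ∈ Finset.univ.erase q₀, sz q = f * ∑ χ ∈ s, m χ := by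
      have := Finset.add_sum_erase _ sz (Finset.mem_univ q₀)
      rw [htot, hd0, hn] at this
      omega
    have hcard : (Finset.univ.erase q₀).card = ∑ χ ∈ s, m χ * m χ := by
      rw [Finset.card_erase_of_mem (Finset.mem_univ _), Finset.card_univ, ← Nat.card_eq_fintype_card, ← hr, ← hrest]
      omega
    have hge : ∑ χ ∈ s, m χ ≤ ∑ χ ∈ s, m χ * m χ := Finset.sum_le_sum fun χ _ => Nat.le_mul_self _
    have hlow : f * ∑ χ ∈ s, m χ * m χ ≤ f * ∑ χ ∈ s, m χ := by
      rw [← hsum1, ← hcard, mul_comm]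
      have := Finset.card_nsmul_le_sum (Finset.univ.erase q₀) sz f fun q hq => (hle q hq).1
      simpa using this
    have heq : ∑ χ ∈ s, m χ = ∑ χ ∈ s, m χ * m χ := le_antisymm hge (Nat.le_of_mul_le_mul_left hlow hfpos)
    refine ⟨fun χ hχ => ?_, fun b hb => ?_⟩
    · by_contra h
      have := Finset.sum_lt_sum (s := s) (f := fun χ => m χ) (g := fun χ => m χ * m χ)
        (fun χ _ => Nat.le_mul_self _) ⟨χ, hχ, lt_mul_self (not_le.1 h)⟩
      omega
    · rw [← hsz b]
      have hq : (Quotient.mk'' b : orbitRel.Quotient H Ω) ∈ Finset.univ.erase q₀ := by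
        refine Finset.mem_erase.2 ⟨fun e => hb ?_, Finset.mem_univ _⟩
        obtain ⟨k, hk⟩ := orbitRel_apply.1 (Quotient.exact e)
        rw [← hk]; exact k.2
      by_contra hne
      have := Finset.sum_lt_sum (s := Finset.univ.erase q₀) (f := fun _ => f) (g := sz)
        (fun q hq' => (hle q hq').1) ⟨_, hq, lt_of_le_of_ne (hle _ hq).1 (Ne.symm hne)⟩
      rw [Finset.sum_const, smul_eq_mul, hsum1, hcard, ← heq, mul_comm] at this
      omega
  have hconc : (∀ χ ∈ s, m χ ≤ 1) → ∀ χ : G → ℂ, IsIrrCharacter G χ → classInner π χ = 0 ∨ classInner π χ = 1 := by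
    intro h χ hχ
    have h1 : m ⟨χ, hχ⟩ ≤ 1 := by
      by_cases e : (⟨χ, hχ⟩ : IrrCharacter G) = χ₁
      · rw [e, hm1]
      · exact h _ (Finset.mem_erase.2 ⟨e, Finset.mem_univ _⟩)
    have h2 := hcoef ⟨χ, hχ⟩
    rcases Nat.le_one_iff_eq_zero_or_eq_one.1 h1 with e | e <;> rw [e] at h2
    · left; simpa using h2
    · right; simpa using h2
  refine ⟨fun f hf => ⟨hconc (part1 f hf).1, (part1 f hf).2⟩, fun h5 => hconc ?_⟩
  intro χ hχ
  by_contra h2
  have h4 : ∑ χ ∈ s, m χ * m χ ≤ 4 := by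
    have : r ≤ 5 := h5
    omega
  have hsingle : ∀ ψ ∈ s, ψ ≠ χ → m ψ = 0 := by
    intro ψ hψ hne
    by_contra h0
    have h6 : ∑ x ∈ ({χ, ψ} : Finset (IrrCharacter G)), m x * m x ≤ ∑ x ∈ s, m x * m x :=
      Finset.sum_le_sum_of_subset (by
        intro x hx
        simp only [Finset.mem_insert, Finset.mem_singleton] at hx
        rcases hx with rfl | rfl <;> assumption)
    rw [Finset.sum_pair (Ne.symm hne)] at h6
    have h7 : 4 ≤ m χ * m χ := le_trans (by norm_num) (Nat.mul_le_mul (show 2 ≤ m χ by omega) (show 2 ≤ m χ by omega))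
    have h8 : 0 < m ψ * m ψ := Nat.mul_pos (Nat.pos_of_ne_zero h0) (Nat.pos_of_ne_zero h0)
    omega
  obtain ⟨k, hk⟩ := Char.charOne_eq_natCast (Char.irr_isCharacter χ.2)
  refine h2 ((part1 k fun ψ hψ hne hin => ?_).1 χ hχ)
  have : (⟨ψ, hψ⟩ : IrrCharacter G) = χ := by
    by_contra e
    refine hin ?_
    have h0 := hsingle ⟨ψ, hψ⟩ (Finset.mem_erase.2 ⟨fun e' => hne (congrArg Subtype.val e'), Finset.mem_univ _⟩) e
    have := hcoef ⟨ψ, hψ⟩
    rw [h0] at this
    simpa using this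
  rw [← hk, ← this]

end Cfsg.Agent.S0716
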