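import Cfsg.Statements.S0717
import Mathlib
import Cfsg.Agent.Lib.Perm.PermChar
import Cfsg.Agent.Lib.Perm.MultFree

set_option autoImplicit false
open Cfsg

namespace Cfsg.Agent.S0717

open Cfsg.Agent Cfsg.Agent.Perm MulAction

variable {G : Type*} [Group G] [Fintype G] {Ω : Type*} [Fintype Ω] [DecidableEq Ω] [MulAction G Ω]


omit [Fintype G] [Fintype Ω] in
theorem perm_single (g : G) (y : Ω) :
    Cfsg.permRep ℂ G Ω g (Pi.single y 1) = Pi.single (g • y) 1 := by
  funext x
  show (Pi.single y (1 : ℂ) : Ω → ℂ) (g⁻¹ • x) = _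
  rw [Pi.single_apply, Pi.single_apply]
  exact if_congr inv_smul_eq_iff rfl rfl

omit [Fintype G] in
theorem toMatrix_perm_transpose (g : G) :
    (LinearMap.toMatrix' (Cfsg.permRep ℂ G Ω g)).transpose =
      LinearMap.toMatrix' (Cfsg.permRep ℂ G Ω g⁻¹) := by
  ext x y
  simp only [Matrix.transpose_apply, LinearMap.toMatrix'_apply]
  rw [perm_single, perm_single, Pi.single_apply, Pi.single_apply]
  exact if_congr (by rw [eq_inv_smul_iff, eq_comm]) rfl rfl

/-- The transpose of an endomorphism of the permutation module. -/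
noncomputable def tp (S : (Ω → ℂ) →ₗ[ℂ] (Ω → ℂ)) : (Ω → ℂ) →ₗ[ℂ] (Ω → ℂ) :=
  Matrix.toLin' (LinearMap.toMatrix' S).transpose

omit [Fintype G] in
theorem tp_comp (S T : (Ω → ℂ) →ₗ[ℂ] (Ω → ℂ)) : tp (S ∘ₗ T) = tp T ∘ₗ tp S := by
  simp [tp, LinearMap.toMatrix'_comp, Matrix.transpose_mul, Matrix.toLin'_mul]

omit [Fintype G] in
theorem tp_perm (g : G) : tp (Cfsg.permRep ℂ G Ω g) = Cfsg.permRep ℂ G Ω g⁻¹ := by
  rw [tp, toMatrix_perm_transpose, Matrix.toLin'_toMatrix']

omit [Fintype G] in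
theorem trace_tp (S : (Ω → ℂ) →ₗ[ℂ] (Ω → ℂ)) :
    LinearMap.trace ℂ _ (tp S) = LinearMap.trace ℂ _ S := by
  rw [LinearMap.trace_eq_matrix_trace ℂ (Pi.basisFun ℂ Ω), LinearMap.trace_eq_matrix_trace ℂ (Pi.basisFun ℂ Ω) S,
    LinearMap.toMatrix_eq_toMatrix', tp, LinearMap.toMatrix'_toLin', Matrix.trace_transpose]

omit [Fintype G] in
theorem itw_tp {S : (Ω → ℂ) →ₗ[ℂ] (Ω → ℂ)} (hS : MultFree.Itw (Cfsg.permRep ℂ G Ω) (Cfsg.permRep ℂ G Ω) S) :
    MultFree.Itw (Cfsg.permRep ℂ G Ω) (Cfsg.permRep ℂ G Ω) (tp S) := by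
  intro g v
  have h : S ∘ₗ Cfsg.permRep ℂ G Ω g⁻¹ = Cfsg.permRep ℂ G Ω g⁻¹ ∘ₗ S := LinearMap.ext (hS g⁻¹)
  have h2 := congrArg tp h
  rw [tp_comp, tp_comp, tp_perm, inv_inv] at h2
  exact (congrArg (fun F : (Ω → ℂ) →ₗ[ℂ] (Ω → ℂ) => F v) h2).symm

/-- The character of a constituent as a trace. -/
theorem char_eq_trace {n : ℕ} {σ : Representation ℂ G (Fin n → ℂ)} {i : (Fin n → ℂ) →ₗ[ℂ] (Ω → ℂ)}
    (hi : MultFree.Itw σ (Cfsg.permRep ℂ G Ω) i) {p : (Ω → ℂ) →ₗ[ℂ] (Fin n → ℂ)}
    (hpi : p ∘ₗ i = LinearMap.id) (g : G) :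
    σ.character g = LinearMap.trace ℂ _ (Cfsg.permRep ℂ G Ω g ∘ₗ (i ∘ₗ p)) := by
  rw [← LinearMap.comp_assoc, ← LinearMap.trace_comp_comm',
    show Cfsg.permRep ℂ G Ω g ∘ₗ i = i ∘ₗ σ g from (LinearMap.ext (hi g)).symm,
    ← LinearMap.comp_assoc, hpi, LinearMap.id_comp]
  rfl

theorem char_inv_eq_trace {n : ℕ} {σ : Representation ℂ G (Fin n → ℂ)} {i : (Fin n → ℂ) →ₗ[ℂ] (Ω → ℂ)}
    (hi : MultFree.Itw σ (Cfsg.permRep ℂ G Ω) i) {p : (Ω → ℂ) →ₗ[ℂ] (Fin n → ℂ)}
    (hp : MultFree.Itw (Cfsg.permRep ℂ G Ω) σ p)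
    (hpi : p ∘ₗ i = LinearMap.id) (g : G) :
    σ.character g⁻¹ = LinearMap.trace ℂ _ (Cfsg.permRep ℂ G Ω g ∘ₗ tp (i ∘ₗ p)) := by
  have hS : MultFree.Itw (Cfsg.permRep ℂ G Ω) (Cfsg.permRep ℂ G Ω) (i ∘ₗ p) := fun g v => by
    simp only [LinearMap.comp_apply]; rw [hp, hi]
  rw [char_eq_trace hi hpi, ← trace_tp, tp_comp, tp_perm, inv_inv,
    show tp (i ∘ₗ p) ∘ₗ Cfsg.permRep ℂ G Ω g = Cfsg.permRep ℂ G Ω g ∘ₗ tp (i ∘ₗ p) from
      LinearMap.ext fun v => itw_tp hS g v]

theorem smul_char_eq {n : ℕ} {σ : Representation ℂ G (Fin n → ℂ)} {i : (Fin n → ℂ) →ₗ[ℂ] (Ω → ℂ)}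
    (hi : MultFree.Itw σ (Cfsg.permRep ℂ G Ω) i) {p : (Ω → ℂ) →ₗ[ℂ] (Fin n → ℂ)}
    (hpi : p ∘ₗ i = LinearMap.id) {X : (Ω → ℂ) →ₗ[ℂ] (Ω → ℂ)} {e : ℂ} (hX : ∀ w, X (i w) = e • i w) (g : G) :
    LinearMap.trace ℂ _ (Cfsg.permRep ℂ G Ω g ∘ₗ (X ∘ₗ (i ∘ₗ p))) = e * σ.character g := by
  have h : X ∘ₗ (i ∘ₗ p) = e • (i ∘ₗ p) := LinearMap.ext fun v => hX (p v)
  rw [h, LinearMap.comp_smul, map_smul, smul_eq_mul, char_eq_trace hi hpi]

omit [DecidableEq Ω] in
/-- All suborbits of a transitive group are self-paired (every pair of points is interchanged by some group element) if and only if the permutation character is multiplicity-free and each of its irreducible constituents is real-valued. -/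
theorem result {G : Type*} [Group G] [Fintype G] {Ω : Type*} [Fintype Ω] [MulAction G Ω] [MulAction.IsPretransitive G Ω] : (∀ a b : Ω, ∃ g : G, g • a = b ∧ g • b = a) ↔ ∀ χ : G → ℂ, Cfsg.IsIrrCharacter G χ → Cfsg.classInner (fun g : G => (Nat.card (MulAction.fixedBy Ω g) : ℂ)) χ ≠ 0 → Cfsg.classInner (fun g : G => (Nat.card (MulAction.fixedBy Ω g) : ℂ)) χ = 1 ∧ ∀ g : G, (starRingEnd ℂ) (χ g) = χ g := by
  classical
  set ρ := Cfsg.permRep ℂ G Ω with hρ
  have he : (fun g : G => (Nat.card (MulAction.fixedBy Ω g) : ℂ)) = ρ.character :=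
    funext fun g => PermChar.permChar_eq g
  rw [he]
  constructor
  · intro hsp
    have hsymm : ∀ S, MultFree.Itw ρ ρ S → tp S = S := by
      intro S hS
      rw [tp]
      conv_rhs => rw [← Matrix.toLin'_toMatrix' S]
      congr 1
      ext x y
      obtain ⟨g, hgx, hgy⟩ := hsp x y
      rw [Matrix.transpose_apply, LinearMap.toMatrix'_apply, LinearMap.toMatrix'_apply]
      have h1 := congrFun (hS g (Pi.single x 1)) x
      rw [hρ, perm_single, hgx] at h1
      rw [h1]
      show S (Pi.single x 1) y = S (Pi.single x 1) (g⁻¹ • x)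
      rw [eq_inv_smul_iff.2 hgy]
    have hmf : MultFree.IsMultFree ρ := MultFree.isMultFree_of_comm fun S T hS hT => by
      have hST : MultFree.Itw ρ ρ (S ∘ₗ T) := fun g v => by
        simp only [LinearMap.comp_apply]; rw [hT, hS]
      rw [← hsymm _ hST, tp_comp, hsymm S hS, hsymm T hT]
    intro χ hχ hne
    refine ⟨(hmf χ hχ).resolve_left hne, fun g => ?_⟩
    obtain ⟨n, σ, hσ, rfl⟩ := hχ
    obtain ⟨i, hi, hi0⟩ := MultFree.exists_itw_of_inner_ne_zero hne
    obtain ⟨p, hp, hpi⟩ := hi.exists_retraction hσ hi0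
    rw [← Char.char_inv (Char.isCharacter_character σ), char_inv_eq_trace hi hp hpi,
      hsymm _ (fun g v => by simp only [LinearMap.comp_apply]; rw [hp, hi]), ← char_eq_trace hi hpi]
  · intro h
    have hmf : MultFree.IsMultFree ρ := fun χ hχ => by
      by_cases h0 : classInner ρ.character χ = 0
      · exact Or.inl h0
      · exact Or.inr (h χ hχ h0).1
    have hsymm : ∀ S, MultFree.Itw ρ ρ S → tp S = S := by
      intro S₀ hS₀
      refine sub_eq_zero.1 (MultFree.eq_zero_of_forall ρ _ fun n σ hσ i hi w => ?_)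
      rcases eq_or_ne i 0 with rfl | hi0
      · simp
      obtain ⟨p, hp, hpi⟩ := hi.exists_retraction hσ hi0
      set S := i ∘ₗ p with hSdef
      have hS : MultFree.Itw ρ ρ S := fun g v => by simp only [S, LinearMap.comp_apply]; rw [hp, hi]
      have hreal : ∀ g : G, σ.character g⁻¹ = σ.character g := fun g => by
        have hin : classInner ρ.character σ.character ≠ 0 := by
          rw [MultFree.inner_eq_finrank, Nat.cast_ne_zero]
          intro e
          rw [Submodule.finrank_eq_zero] at e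
          have : i ∈ MultFree.itwSpace σ ρ := hi
          rw [e, Submodule.mem_bot] at this
          exact hi0 this
        rw [Char.char_inv (Char.isCharacter_character σ)]
        exact (h _ (Char.isIrrCharacter_character σ hσ) hin).2 g
      obtain ⟨e, hTi⟩ := hmf.scalar hσ hi hi0 (itw_tp hS)
      have hene : e ≠ 0 := by
        intro he0
        have hzero : tp S = 0 := by
          refine MultFree.eq_zero_of_forall ρ _ fun m τ hτ j hj w => ?_
          rcases eq_or_ne j 0 with rfl | hj0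
          · simp
          obtain ⟨q, hq, hqj⟩ := hj.exists_retraction hτ hj0
          have hR : MultFree.Itw ρ ρ (j ∘ₗ q) := fun g v => by
            simp only [LinearMap.comp_apply]; rw [hq, hj]
          obtain ⟨a, ha⟩ := hmf.scalar hτ hj hj0 (itw_tp hS)
          obtain ⟨b, hb⟩ := hmf.scalar hσ hi hi0 (itw_tp hR)
          by_cases hχ : σ.character = τ.character
          · obtain ⟨φ, hφ, hφ0⟩ := MultFree.exists_itw_of_inner_ne_zero (ρ := τ) (σ := σ) (by
              rw [hχ, Char.irr_self (Char.isIrrCharacter_character τ hτ)]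
              exact one_ne_zero)
            have hnm : n = m := by
              have h1 := congrFun hχ 1
              simpa using h1
            subst hnm
            have hbij : Function.Surjective φ :=
              LinearMap.injective_iff_surjective.1 (hφ.injective_of_ne_zero hσ hφ0)
            obtain ⟨u, rfl⟩ := hbij w
            have hji : MultFree.Itw σ ρ (j ∘ₗ φ) := fun g v => by
              simp only [LinearMap.comp_apply]; rw [hφ, hj]
            rcases eq_or_ne (j ∘ₗ φ) 0 with e0 | e0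
            · rw [show j (φ u) = 0 from congrArg (fun F => F u) e0, map_zero]
            have hfr : Module.finrank ℂ (MultFree.itwSpace σ ρ) = 1 := by
              have h2 := hmf _ (Char.isIrrCharacter_character σ hσ)
              rw [MultFree.inner_eq_finrank] at h2
              rcases h2 with e2 | e2
              · rw [Nat.cast_eq_zero, Submodule.finrank_eq_zero] at e2
                have : i ∈ MultFree.itwSpace σ ρ := hi
                rw [e2, Submodule.mem_bot] at this
                exact absurd this hi0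
              · exact_mod_cast e2
            have hne' : (⟨i, hi⟩ : MultFree.itwSpace σ ρ) ≠ 0 := fun e' => hi0 (congrArg Subtype.val e')
            obtain ⟨c, hc⟩ := (finrank_eq_one_iff_of_nonzero' (⟨i, hi⟩ : MultFree.itwSpace σ ρ) hne').1 hfr ⟨_, hji⟩
            have hc' : j (φ u) = c • i u :=
              (congrArg (fun F : MultFree.itwSpace σ ρ => (F : (Fin n → ℂ) →ₗ[ℂ] (Ω → ℂ)) u) hc).symm
            rw [hc', map_smul, hTi, he0, zero_smul, smul_zero]
          · have key : ∀ g, a * τ.character g = b * σ.character g := fun g => by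
              rw [← hreal g, ← smul_char_eq hj hqj ha g, ← smul_char_eq hi hpi hb g⁻¹, ← trace_tp,
                tp_comp, tp_comp, tp_perm,
                show tp (tp (i ∘ₗ p)) = i ∘ₗ p by simp [tp],
                show (tp (j ∘ₗ q) ∘ₗ (i ∘ₗ p)) ∘ₗ Cfsg.permRep ℂ G Ω g⁻¹ =
                  Cfsg.permRep ℂ G Ω g⁻¹ ∘ₗ (tp (j ∘ₗ q) ∘ₗ (i ∘ₗ p)) from LinearMap.ext fun v => by
                    simp only [LinearMap.comp_apply]
                    rw [show i (p (Cfsg.permRep ℂ G Ω g⁻¹ v)) = Cfsg.permRep ℂ G Ω g⁻¹ (i (p v)) from hS g⁻¹ v]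
                    exact itw_tp hR g⁻¹ _]
            have h1 : classInner (a • τ.character) τ.character = classInner (b • σ.character) τ.character :=
              congrArg (fun F => classInner F τ.character) (funext key)
            rw [Char.classInner_smul_left, Char.classInner_smul_left,
              Char.irr_self (Char.isIrrCharacter_character τ hτ),
              Char.irr_orth (Char.isIrrCharacter_character σ hσ) (Char.isIrrCharacter_character τ hτ),
              if_neg hχ, mul_one, mul_zero] at h1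
            rw [ha, h1, zero_smul]
        have h2 := char_inv_eq_trace hi hp hpi 1
        rw [hzero, LinearMap.comp_zero, map_zero, inv_one] at h2
        exact Char.irr_one_ne_zero (Char.isIrrCharacter_character σ hσ) h2
      obtain ⟨c, hc⟩ := hmf.scalar hσ hi hi0 hS₀
      obtain ⟨d, hd⟩ := hmf.scalar hσ hi hi0 (itw_tp hS₀)
      have h1 : S₀ ∘ₗ S = c • S := LinearMap.ext fun v => hc (p v)
      have h2 := congrArg (fun F : (Ω → ℂ) →ₗ[ℂ] (Ω → ℂ) => tp F (i w)) h1
      rw [tp_comp, show tp (c • S) = c • tp S by simp [tp]] at h2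
      simp only [LinearMap.comp_apply, LinearMap.smul_apply, hd, hTi, map_smul, smul_smul] at h2
      rw [LinearMap.sub_apply, hc, hd, sub_eq_zero]
      have h3 : (e * d) • i w = (e * c) • i w := by rw [mul_comm e d, mul_comm e c]; exact h2
      rw [← smul_smul, ← smul_smul] at h3
      exact smul_right_injective _ hene h3
    intro x y
    let M : Matrix Ω Ω ℂ := fun u v => if ((u, v) : Ω × Ω) ∈ orbit G ((x, y) : Ω × Ω) then 1 else 0
    have hM : ∀ (g : G) u v, M (g • u) (g • v) = M u v := fun g u v => by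
      have : ((g • u, g • v) : Ω × Ω) ∈ orbit G ((x, y) : Ω × Ω) ↔ ((u, v) : Ω × Ω) ∈ orbit G ((x, y) : Ω × Ω) := by
        rw [show ((g • u, g • v) : Ω × Ω) = g • (u, v) from rfl, ← orbit_eq_iff, orbit_smul, orbit_eq_iff]
      simp only [M, this]
    have hS : MultFree.Itw ρ ρ (Matrix.toLin' M) := fun g v => by
      funext u
      show ∑ w, M u w * v (g⁻¹ • w) = ∑ w, M (g⁻¹ • u) w * v w
      refine Fintype.sum_equiv (MulAction.toPerm g⁻¹) _ _ fun w => ?_
      simp [hM]
    have h1 : M.transpose = M := by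
      have := congrArg LinearMap.toMatrix' (hsymm _ hS)
      simpa [tp] using this
    have h2 : M y x = M x y := congrFun (congrFun h1 x) y
    have hxy : M x y = 1 := if_pos (mem_orbit_self _)
    rw [hxy] at h2
    have h3 : ((y, x) : Ω × Ω) ∈ orbit G ((x, y) : Ω × Ω) := by
      by_contra h3
      simp only [M, if_neg h3] at h2
      exact zero_ne_one h2
    obtain ⟨g, hg⟩ := h3
    exact ⟨g, congrArg Prod.fst hg, congrArg Prod.snd hg⟩

end Cfsg.Agent.S0717
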