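import Cfsg.Statements.S0719
import Cfsg.Agent.Lib.Perm.PermChar
-- import your own Cfsg.Agent.* helpers here

set_option autoImplicit false
open Cfsg

namespace Cfsg.Agent.S0719

open Cfsg Module MulAction Cfsg.Agent.Perm.PermChar
open scoped Pointwise

/-- The parameters from the first two moments. -/
theorem arith {m k l r s : ℤ} (hm : 2 ≤ m) (hk : 2 ≤ k) (hl : 2 ≤ l) (hkl : k + l = 2 * m - 1)
    (h1 : k + (m - 1) * r + m * s = 0)
    (h2 : k ^ 2 + (m - 1) * r ^ 2 + m * s ^ 2 = 2 * m * k) :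
    ∃ a : ℤ, 0 < a ∧ m = 2 * a ^ 2 + 2 * a + 1 ∧
      (k = a * (2 * a + 1) ∨ k = (a + 1) * (2 * a + 1)) := by
  have hk2 : k ≤ 2 * m - 3 := by omega
  obtain ⟨t, ht⟩ : ∃ t, t = -(r + s) := ⟨_, rfl⟩
  have hs : s = -t - r := by omega
  subst hs
  have hkv : k = r + m * t := by linear_combination h1
  have hE : m * ((m - 1) * t ^ 2 + 2 * (r + t) ^ 2 - 2 * k) = 0 := by
    subst hkv; linear_combination h2
  have hE' : (m - 1) * t ^ 2 + 2 * (r + t) ^ 2 = 2 * k := by
    rcases mul_eq_zero.1 hE with e | e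
    · omega
    · omega
  have ht2 : t ^ 2 < 4 := by
    by_contra hge
    have hmul := mul_le_mul_of_nonneg_left (not_lt.1 hge) (show (0 : ℤ) ≤ m - 1 by omega)
    have := sq_nonneg (r + t)
    omega
  have htlo : -1 ≤ t := by nlinarith
  have hthi : t ≤ 1 := by nlinarith
  interval_cases t
  · exfalso
    have hr : m + 2 ≤ r := by omega
    nlinarith
  · exfalso
    have hr : r * (r - 1) = 0 := by nlinarith
    rcases mul_eq_zero.1 hr with e | e <;> omega
  · have hm' : m = 2 * r ^ 2 + 2 * r + 1 := by nlinarith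
    rcases le_or_gt 0 r with hr | hr
    · refine ⟨r, ?_, hm', Or.inr ?_⟩
      · by_contra hle
        have : r = 0 := by omega
        subst this
        omega
      · rw [hkv, hm']; ring
    · refine ⟨-r - 1, ?_, by rw [hm']; ring, Or.inl ?_⟩
      · by_contra hle
        have : r = -1 := by omega
        subst this
        norm_num at hm'
        omega
      · rw [hkv, hm']; ring

/-- Two values with multiplicities `f ≠ g` and rational power sums up to the third are rational. -/
theorem rat_of_moments {f g : ℚ} (hf : 0 < f) (hg : 0 < g) (hfg : f ≠ g) {x y : ℂ}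
    (h1 : ∃ q : ℚ, (f : ℂ) * x + g * y = q) (h2 : ∃ q : ℚ, (f : ℂ) * x ^ 2 + g * y ^ 2 = q)
    (h3 : ∃ q : ℚ, (f : ℂ) * x ^ 3 + g * y ^ 3 = q) : ∃ a b : ℚ, x = a ∧ y = b := by
  obtain ⟨p1, hp1⟩ := h1
  obtain ⟨p2, hp2⟩ := h2
  obtain ⟨p3, hp3⟩ := h3
  have hN : ((f : ℂ) + g) ≠ 0 := by exact_mod_cast (add_pos hf hg).ne'
  set μ : ℚ := p1 / (f + g) with hμ
  set d : ℂ := (x - y) / ((f : ℂ) + g) with hd
  have hNq : f + g ≠ 0 := (add_pos hf hg).ne'
  have hμN : (μ : ℂ) * ((f : ℂ) + g) = p1 := by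
    rw [hμ]; push_cast; field_simp
  have hdN : d * ((f : ℂ) + g) = x - y := by rw [hd]; field_simp
  have hx : x = μ + g * d := by
    refine mul_right_cancel₀ hN ?_
    linear_combination -hμN - (g : ℂ) * hdN + hp1
  have hy : y = μ - f * d := by
    refine mul_right_cancel₀ hN ?_
    linear_combination -hμN + (f : ℂ) * hdN + hp1
  set c2 : ℚ := (p2 - (f + g) * μ ^ 2) / (f * g * (f + g)) with hc2
  have hne2 : f * g * (f + g) ≠ 0 := mul_ne_zero (mul_ne_zero hf.ne' hg.ne') hNq
  have hne2c : ((f : ℂ) * g * (f + g)) ≠ 0 := by exact_mod_cast hne2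
  have hd2 : d ^ 2 = (c2 : ℂ) := by
    have e : d ^ 2 * ((f : ℂ) * g * (f + g)) = p2 - ((f : ℂ) + g) * (μ : ℂ) ^ 2 := by
      rw [← hp2, hx, hy]; ring
    rw [hc2]; push_cast
    rw [eq_div_iff hne2c, e]
  have hd3 : d ^ 3 * ((f : ℂ) * g * (g ^ 2 - f ^ 2)) =
      p3 - ((f : ℂ) + g) * (μ : ℂ) ^ 3 - 3 * μ * ((f : ℂ) * g * (f + g)) * d ^ 2 := by
    rw [← hp3, hx, hy]; ring
  have hne : f * g * (g ^ 2 - f ^ 2) ≠ 0 := by
    refine mul_ne_zero (mul_ne_zero hf.ne' hg.ne') ?_
    rw [sq_sub_sq]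
    exact mul_ne_zero (by linarith) (sub_ne_zero.2 hfg.symm)
  set c3 : ℚ := (p3 - (f + g) * μ ^ 3 - 3 * μ * (f * g * (f + g)) * c2) / (f * g * (g ^ 2 - f ^ 2))
    with hc3
  have hnec : ((f : ℂ) * g * (g ^ 2 - f ^ 2)) ≠ 0 := by exact_mod_cast hne
  have hd3' : d ^ 3 = (c3 : ℂ) := by
    rw [hc3]; push_cast
    rw [eq_div_iff hnec, hd3, hd2]
  obtain ⟨e, he⟩ : ∃ e : ℚ, d = (e : ℂ) := by
    by_cases h0 : c2 = 0
    · refine ⟨0, ?_⟩
      rw [h0, Rat.cast_zero] at hd2
      rw [Rat.cast_zero]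
      exact eq_zero_of_pow_eq_zero hd2
    · refine ⟨c3 / c2, ?_⟩
      push_cast
      rw [eq_div_iff (by exact_mod_cast h0), ← hd2, ← hd3']
      ring
  exact ⟨μ + g * e, μ - f * e, by rw [hx, he]; push_cast; rfl, by rw [hy, he]; push_cast; rfl⟩

theorem int_of_rat {x : ℂ} (hx : IsIntegral ℤ x) {q : ℚ} (hq : x = q) : ∃ z : ℤ, x = z := by
  subst hq
  have h : (q : ℂ) = algebraMap ℚ ℂ q := by simp
  rw [h, isIntegral_algebraMap_iff (algebraMap ℚ ℂ).injective] at hx
  obtain ⟨z, hz⟩ := IsIntegrallyClosed.isIntegral_iff.1 hx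
  exact ⟨z, by rw [← hz]; simp⟩

variable {G : Type*} [Group G] [Fintype G] {Ω : Type*} [Fintype Ω] [MulAction G Ω]

open scoped Classical in
/-- The elements moving `a` into the suborbit of `b`. -/
noncomputable def moves (a b : Ω) : Finset G :=
  Finset.univ.filter fun g : G => g • a ∈ orbit (stabilizer G a) b

omit [Fintype Ω] in
theorem mem_moves {a b : Ω} {g : G} : g ∈ moves a b ↔ g • a ∈ orbit (stabilizer G a) b := by
  classical
  simp [moves]

theorem card_moves [IsPretransitive G Ω] (a b : Ω) :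
    (moves (G := G) a b).card = Nat.card (orbit (stabilizer G a) b) * Nat.card (stabilizer G a) := by
  classical
  choose t ht using fun x : Ω => MulAction.exists_smul_eq G a x
  rw [← Nat.card_prod, ← Nat.card_eq_finsetCard]
  refine Nat.card_congr
    { toFun := fun g => (⟨(g : G) • a, mem_moves.1 g.2⟩,
        ⟨(t ((g : G) • a))⁻¹ * g, by rw [mem_stabilizer_iff, mul_smul, inv_smul_eq_iff, ht]⟩)
      invFun := fun p => ⟨t p.1 * (p.2 : G), mem_moves.2 (by
        rw [mul_smul, show (p.2 : G) • a = a from p.2.2, ht]; exact p.1.2)⟩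
      left_inv := fun g => Subtype.ext (by simp)
      right_inv := fun p => by
        have e : (t (p.1 : Ω) * (p.2 : G)) • a = p.1 := by
          rw [mul_smul, show (p.2 : G) • a = a from p.2.2, ht]
        refine Prod.ext (Subtype.ext e) (Subtype.ext ?_)
        show (t ((t (p.1 : Ω) * (p.2 : G)) • a))⁻¹ * (t (p.1 : Ω) * (p.2 : G)) = p.2
        rw [e, inv_mul_cancel_left] }

/-- The normalised sum of a function over `moves`. -/
noncomputable def zv (a b : Ω) (χ : G → ℂ) : ℂ :=
  (Nat.card (stabilizer G a) : ℂ)⁻¹ * ∑ g ∈ moves (G := G) a b, χ g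

/-- Its second moment. -/
noncomputable def zv2 (a b : Ω) (χ : G → ℂ) : ℂ :=
  ((Nat.card (stabilizer G a) : ℂ)⁻¹) ^ 2 *
    ∑ g ∈ moves (G := G) a b, ∑ h ∈ moves (G := G) a b, χ (g * h)

/-- Its third moment. -/
noncomputable def zv3 (a b : Ω) (χ : G → ℂ) : ℂ :=
  ((Nat.card (stabilizer G a) : ℂ)⁻¹) ^ 3 * ∑ g ∈ moves (G := G) a b,
    ∑ h ∈ moves (G := G) a b, ∑ l ∈ moves (G := G) a b, χ (g * h * l)

theorem zv_props [IsPretransitive G Ω] (a b : Ω) {χ : G → ℂ} (hχ : IsIrrCharacter G χ)
    (hc : classInner (permChar G Ω) χ = 0 ∨ classInner (permChar G Ω) χ = 1) :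
    IsIntegral ℤ (zv a b χ) ∧ zv2 a b χ = zv a b χ ^ 2 ∧ zv3 a b χ = zv a b χ ^ 3 ∧
      (classInner (permChar G Ω) χ = 0 → zv a b χ = 0) := by
  classical
  obtain ⟨n, ρ, hρ, rfl⟩ := hχ
  set H := stabilizer G a with hH
  obtain ⟨z, hzi, hzs, hz0⟩ := orbital_sum (G := G) a b ρ
  have hz : zv a b ρ.character = z := by
    rw [zv, show ∑ g ∈ moves (G := G) a b, ρ.character g = (Nat.card H : ℂ) * z by
      rw [← hzs]; exact Finset.sum_congr (by ext g; simp [mem_moves]) fun g _ => rfl]
    exact inv_mul_cancel_left₀ (card_ne _) _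
  refine ⟨hz ▸ hzi, ?_, ?_, fun h => hz.trans (hz0 h)⟩
  all_goals
    set c : ℂ := (Nat.card H : ℂ)⁻¹ with hcdef
    set T : (Fin n → ℂ) →ₗ[ℂ] (Fin n → ℂ) := c • ∑ g ∈ moves (G := G) a b, ρ g with hT
    have hTfix : ∀ v, T v ∈ Representation.invariants (ρ.comp H.subtype) := by
      intro v h
      show ρ (h : G) (T v) = T v
      simp only [hT, LinearMap.smul_apply, LinearMap.sum_apply, map_smul, map_sum]
      refine congrArg _ (Finset.sum_equiv (Equiv.mulLeft (h : G)) (fun g => ?_) fun g _ => ?_)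
      · simp only [mem_moves, Equiv.coe_mulLeft, mul_smul]
        exact (smul_mem_orbit_iff h.2 _).symm
      · rw [← Module.End.mul_apply, ← map_mul]; rfl
    have htr : LinearMap.trace ℂ _ T = zv a b ρ.character := by
      rw [hT, map_smul, map_sum, smul_eq_mul, zv]; rfl
    have hle : finrank ℂ (Representation.invariants (ρ.comp H.subtype)) ≤ 1 := by
      rw [inner_permChar_rep a ρ] at hc
      show finrank ℂ (Representation.invariants (ρ.comp (stabilizer G a).subtype)) ≤ 1
      rcases hc with e | e <;> norm_cast at e <;> omega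
    have hTT : T * T = (zv a b ρ.character) • T := by
      rw [← htr]
      obtain ⟨w, hw⟩ := (finrank_le_one_iff (K := ℂ)).1 hle
      by_cases hw0 : (w : Fin n → ℂ) = 0
      · have hT0 : T = 0 := LinearMap.ext fun v => by
          obtain ⟨c', hc'⟩ := hw ⟨T v, hTfix v⟩
          have := congrArg Subtype.val hc'
          simp [hw0] at this
          exact this.symm
        rw [hT0]; simp
      obtain ⟨i, hi⟩ : ∃ i, (w : Fin n → ℂ) i ≠ 0 := by
        by_contra hno
        push Not at hno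
        exact hw0 (funext hno)
      set φ : (Fin n → ℂ) →ₗ[ℂ] ℂ := ((w : Fin n → ℂ) i)⁻¹ • LinearMap.proj i with hφ
      have hφw : φ w = 1 := by simp [hφ, hi]
      have hTv : ∀ v, T v = φ (T v) • (w : Fin n → ℂ) := fun v => by
        obtain ⟨c', hc'⟩ := hw ⟨T v, hTfix v⟩
        have e : c' • (w : Fin n → ℂ) = T v := congrArg Subtype.val hc'
        rw [← e, map_smul, hφw, smul_eq_mul, mul_one]
      have htr' : LinearMap.trace ℂ _ T = φ (T w) := by
        conv_lhs => rw [show T = (φ.comp T).smulRight (w : Fin n → ℂ) from LinearMap.ext hTv]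
        rw [LinearMap.trace_smulRight]
        rfl
      rw [htr']
      refine LinearMap.ext fun v => ?_
      show T (T v) = φ (T w) • T v
      conv_lhs => rw [hTv v, map_smul, hTv w]
      conv_rhs => rw [hTv v]
      rw [smul_smul, smul_smul, mul_comm]
    have hsq : T * T = c ^ 2 • ∑ g ∈ moves (G := G) a b, ∑ h ∈ moves (G := G) a b, ρ (g * h) := by
      rw [hT, smul_mul_smul_comm, Finset.sum_mul_sum, pow_two]
      simp only [map_mul]
  · have := congrArg (LinearMap.trace ℂ _) (hsq.symm.trans hTT)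
    rw [map_smul, map_smul, htr, map_sum] at this
    simp only [map_sum, smul_eq_mul] at this
    rw [pow_two (zv a b ρ.character), ← this, zv2]
    rfl
  · have hcube : T * T * T = c ^ 3 • ∑ g ∈ moves (G := G) a b, ∑ h ∈ moves (G := G) a b,
        ∑ l ∈ moves (G := G) a b, ρ (g * h * l) := by
      rw [hsq, hT, smul_mul_smul_comm, ← pow_succ, Finset.sum_mul]
      simp only [Finset.sum_mul, Finset.mul_sum, map_mul]
      exact congrArg _ (Finset.sum_congr rfl fun g _ => Finset.sum_comm)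
    have := congrArg (LinearMap.trace ℂ _) (hcube.symm.trans (show T * T * T =
      (zv a b ρ.character * zv a b ρ.character) • T by rw [hTT, smul_mul_assoc, hTT, smul_smul]))
    rw [map_smul, map_smul, htr, map_sum] at this
    simp only [map_sum, smul_eq_mul] at this
    rw [show zv a b ρ.character ^ 3 = zv a b ρ.character * zv a b ρ.character * zv a b ρ.character by ring,
      ← this, zv3]
    rfl

/-- Groups of Wielandt type: if a primitive group of degree `2m` has rank 3 and permutation character `1 + χ₁ + χ₂` with irreducible `χ₁, χ₂` of degrees `m - 1` and `m`, then `m = 2a² + 2a + 1` for some positive integer `a` and the two non-trivial subdegrees are `a(2a+1)` and `(a+1)(2a+1)`. -/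
theorem result {G : Type*} [Group G] [Fintype G] {Ω : Type*} [Fintype Ω] [MulAction G Ω] (hprim : MulAction.IsPreprimitive G Ω) {m : ℕ} (hm : Fintype.card Ω = 2 * m) (a₀ : Ω) (hrank : Nat.card (MulAction.orbitRel.Quotient (MulAction.stabilizer G a₀) Ω) = 3) (χ₁ χ₂ : G → ℂ) (h₁ : Cfsg.IsIrrCharacter G χ₁) (h₂ : Cfsg.IsIrrCharacter G χ₂) (hπ : (fun g : G => (Nat.card (MulAction.fixedBy Ω g) : ℂ)) = fun g => 1 + χ₁ g + χ₂ g) (hd₁ : χ₁ 1 = (m : ℂ) - 1) (hd₂ : χ₂ 1 = m) : ∃ a : ℕ, 0 < a ∧ m = 2 * a ^ 2 + 2 * a + 1 ∧ ∀ b : Ω, b ≠ a₀ → Nat.card (MulAction.orbit (MulAction.stabilizer G a₀) b) = a * (2 * a + 1) ∨ Nat.card (MulAction.orbit (MulAction.stabilizer G a₀) b) = (a + 1) * (2 * a + 1) := by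
  classical
  have : IsPretransitive G Ω := hprim.toIsPretransitive
  set π : G → ℂ := fun g : G => (Nat.card (fixedBy Ω g) : ℂ) with hπd
  have hπ' : permChar G Ω = (fun g => 1 + χ₁ g + χ₂ g) := hπ
  let one : G → ℂ := fun _ => 1
  have hone : IsIrrCharacter G one := Char.isIrrCharacter_one
  have hsum : permChar G Ω = one + χ₁ + χ₂ := hπ'
  have h12 : χ₁ ≠ χ₂ := fun e => by rw [e, hd₂] at hd₁; exact one_ne_zero (α := ℂ) (by linear_combination hd₁)
  have hinner : ∀ χ : G → ℂ, IsIrrCharacter G χ → classInner (permChar G Ω) χ =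
      (if one = χ then 1 else 0) + (if χ₁ = χ then 1 else 0) + (if χ₂ = χ then 1 else 0) := by
    intro χ hχ
    rw [hsum, Char.classInner_add_left, Char.classInner_add_left, Char.irr_orth hone hχ,
      Char.irr_orth h₁ hχ, Char.irr_orth h₂ hχ]
  have hne1 : one ≠ χ₁ ∧ one ≠ χ₂ := by
    have e := inner_one (G := G) a₀
    rw [show (fun _ : G => (1 : ℂ)) = one from rfl, hinner one hone, if_pos rfl] at e
    constructor
    · intro h
      rw [if_pos h.symm] at e
      split_ifs at e <;> norm_num at e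
    · intro h
      rw [if_pos h.symm] at e
      split_ifs at e <;> norm_num at e
  have hc : ∀ χ : IrrCharacter G, classInner (permChar G Ω) χ.1 = 0 ∨
      classInner (permChar G Ω) χ.1 = 1 := by
    intro χ
    rw [hinner χ.1 χ.2]
    by_cases e : one = χ.1
    · right; rw [if_pos e, if_neg (fun h => hne1.1 (e.trans h.symm)),
        if_neg (fun h => hne1.2 (e.trans h.symm))]; norm_num
    by_cases e' : χ₁ = χ.1
    · right; rw [if_neg e, if_pos e', if_neg (fun h => h12 (e'.trans h.symm))]; norm_num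
    by_cases e'' : χ₂ = χ.1
    · right; rw [if_neg e, if_neg e', if_pos e'']; norm_num
    · left; rw [if_neg e, if_neg e', if_neg e'']; norm_num
  set H := stabilizer G a₀ with hH
  have hQ : Nat.card (orbitRel.Quotient H Ω) = 3 := hrank
  -- the two other suborbits
  have horb : ∀ b : Ω, b ≠ a₀ → ∃ c : Ω, c ≠ a₀ ∧ b ∉ orbit H c ∧
      ∀ x : Ω, x = a₀ ∨ x ∈ orbit H b ∨ x ∈ orbit H c := by
    intro b hb
    have : Fintype (orbitRel.Quotient H Ω) := Fintype.ofFinite _
    let q : Ω → orbitRel.Quotient H Ω := Quotient.mk _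
    have hq : ∀ x y, q x = q y ↔ x ∈ orbit H y := fun x y =>
      Quotient.eq.trans orbitRel_apply
    have hab : q a₀ ≠ q b := fun e => by
      obtain ⟨h, hh⟩ := (hq a₀ b).1 e
      refine hb (MulAction.injective (h : G) ?_)
      show (h : G) • b = (h : G) • a₀
      rw [show (h : G) • a₀ = a₀ from h.2]
      exact hh
    obtain ⟨w, -, hw⟩ : ∃ w ∈ (Finset.univ : Finset (orbitRel.Quotient H Ω)), w ∉ ({q a₀, q b} : Finset _) := by
      refine Finset.exists_mem_notMem_of_card_lt_card ?_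
      rw [Finset.card_univ, ← Nat.card_eq_fintype_card, hQ, Finset.card_pair hab]
      norm_num
    obtain ⟨c, rfl⟩ := Quotient.mk_surjective w
    simp only [Finset.mem_insert, Finset.mem_singleton, not_or] at hw
    refine ⟨c, fun e => hw.1 (congrArg q e), fun e => hw.2 ((hq b c).2 e).symm, fun x => ?_⟩
    by_contra hno
    push Not at hno
    have h4 : ({q a₀, q b, q c, q x} : Finset (orbitRel.Quotient H Ω)).card = 4 := by
      have e1 : q x ≠ q a₀ := fun e => hno.1 (by
        obtain ⟨h, hh⟩ := (hq x a₀).1 e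
        rw [← hh]; exact h.2)
      have e2 : q x ≠ q b := fun e => hno.2.1 ((hq x b).1 e)
      have e3 : q x ≠ q c := fun e => hno.2.2 ((hq x c).1 e)
      have e4 : q a₀ ≠ q c := fun e => hw.1 e.symm
      have e5 : q b ≠ q c := fun e => hw.2 e.symm
      exact Finset.card_eq_four.2 ⟨_, _, _, _, hab, e4, e1.symm, e5, e2.symm, e3.symm, rfl⟩
    have := Finset.card_le_univ ({q a₀, q b, q c, q x} : Finset (orbitRel.Quotient H Ω))
    rw [h4, ← Nat.card_eq_fintype_card, hQ] at this
    omega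
  have hsz : ∀ b c : Ω, b ≠ a₀ → c ≠ a₀ → b ∉ orbit H c →
      (∀ x : Ω, x = a₀ ∨ x ∈ orbit H b ∨ x ∈ orbit H c) →
      1 + Nat.card (orbit H b) + Nat.card (orbit H c) = 2 * m := by
    intro b c hb hc' hbc hall
    rw [← hm, ← Nat.card_eq_fintype_card (α := Ω), Nat.card_coe_set_eq, Nat.card_coe_set_eq,
      ← Set.ncard_univ Ω, ← Set.ncard_singleton a₀]
    have e : (Set.univ : Set Ω) = {a₀} ∪ orbit H b ∪ orbit H c := by
      ext x; simp only [Set.mem_univ, Set.mem_union, Set.mem_singleton_iff, true_iff, or_assoc]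
      exact hall x
    have hnot : ∀ d : Ω, d ≠ a₀ → a₀ ∉ orbit H d := fun d hd ⟨h, hh⟩ => hd (by
      refine MulAction.injective (h : G) ?_
      show (h : G) • d = (h : G) • a₀
      rw [show (h : G) • a₀ = a₀ from h.2]
      exact hh)
    rw [e, Set.ncard_union_eq, Set.ncard_union_eq]
    · exact Set.disjoint_singleton_left.2 (hnot b hb)
    · refine Set.disjoint_union_left.2 ⟨Set.disjoint_singleton_left.2 (hnot c hc'), ?_⟩
      rw [Set.disjoint_left]
      intro x hx hx'
      exact hbc ((orbit_eq_iff.1 ((orbit_eq_iff.2 hx).symm.trans (orbit_eq_iff.2 hx'))))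
  have hΩ : Nat.card H * Fintype.card Ω = Nat.card G := by
    rw [mul_comm]; exact card_mul_stabilizer a₀
  -- no suborbit of length one
  have hbig : ∀ b : Ω, b ≠ a₀ → 2 ≤ Nat.card (orbit H b) := by
    intro b hb
    by_contra hlt
    have hne : (orbit H b).Nonempty := nonempty_orbit b
    have h1 : (orbit H b).ncard = 1 := by
      rw [Nat.card_coe_set_eq] at hlt
      have := (Set.ncard_pos).2 hne
      omega
    obtain ⟨v, hv⟩ := Set.ncard_eq_one.1 h1
    have hfix : H ≤ stabilizer G b := fun g hg => by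
      have e1 : b ∈ orbit H b := mem_orbit_self b
      have e2 : (⟨g, hg⟩ : H) • b ∈ orbit H b := mem_orbit b _
      rw [hv, Set.mem_singleton_iff] at e1 e2
      exact mem_stabilizer_iff.2 (e2.trans e1.symm)
    have : Nontrivial Ω := ⟨⟨b, a₀, hb⟩⟩
    have hHb : stabilizer G b = H := by
      refine (Subgroup.eq_of_le_of_card_ge hfix (le_of_eq ?_)).symm
      have h1 := card_mul_stabilizer (G := G) b
      have h2 := card_mul_stabilizer (G := G) a₀
      exact Nat.eq_of_mul_eq_mul_left (Fintype.card_pos_iff.2 ⟨b⟩) (h1.trans h2.symm)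
    -- the points with stabiliser `H` form a block
    let B : Set Ω := {x | stabilizer G x = H}
    have hB : IsBlock G B := by
      refine isBlock_iff_smul_eq_or_disjoint.2 fun g => ?_
      by_cases hd : Disjoint (g • B) B
      · exact Or.inr hd
      left
      obtain ⟨x, ⟨y, hy, rfl⟩, hx⟩ := Set.not_disjoint_iff.1 hd
      have hgH : ∀ w : Ω, stabilizer G w = H → stabilizer G (g • w) = H := by
        intro w hw
        rw [stabilizer_smul_eq_stabilizer_map_conj, hw, ← hy, ← stabilizer_smul_eq_stabilizer_map_conj]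
        exact hx.trans hy.symm
      refine Set.Subset.antisymm ?_ ?_
      · rintro _ ⟨w, hw, rfl⟩
        exact hgH w hw
      · intro w hw
        refine ⟨g⁻¹ • w, ?_, smul_inv_smul g w⟩
        have e1 := stabilizer_smul_eq_stabilizer_map_conj g (g⁻¹ • w)
        rw [smul_inv_smul, show stabilizer G w = H from hw] at e1
        have e2 := stabilizer_smul_eq_stabilizer_map_conj g y
        rw [show stabilizer G (g • y) = H from hx, show stabilizer G y = H from hy] at e2
        exact Subgroup.map_injective (MulAut.conj g).injective (e1.symm.trans e2)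
    rcases hB.subsingleton_or_eq_univ with hs | hs
    · exact hb (hs (show b ∈ B from hHb) (show a₀ ∈ B from rfl))
    · have hone : ∀ x : Ω, ∀ h : H, h • x = x := fun x h => by
        have hx : stabilizer G x = H := by
          show x ∈ B
          rw [hs]; trivial
        have : (h : G) ∈ stabilizer G x := by rw [hx]; exact h.2
        exact this
      have hcard : Nat.card (orbitRel.Quotient H Ω) = Fintype.card Ω := by
        rw [← Nat.card_eq_fintype_card]
        refine (Nat.card_congr (Equiv.ofBijective (Quotient.mk _) ⟨fun x y e => ?_,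
          Quotient.mk_surjective⟩)).symm
        obtain ⟨h, hh⟩ := (orbitRel_apply.1 (Quotient.exact e) : x ∈ orbit H y)
        exact hh.symm.trans (hone y h)
      rw [hQ, hm] at hcard
      omega
  obtain ⟨b₀, hb₀⟩ : ∃ b : Ω, b ≠ a₀ := by
    by_contra hno
    push Not at hno
    have : Subsingleton Ω := ⟨fun x y => (hno x).trans (hno y).symm⟩
    have h0 := Fintype.card_le_one_iff_subsingleton.2 this
    have := Fintype.card_pos_iff.2 (⟨a₀⟩ : Nonempty Ω)
    omega
  have hm2 : 2 ≤ m := by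
    obtain ⟨c₀, hc₀, hbc, hall⟩ := horb b₀ hb₀
    have := hsz b₀ c₀ hb₀ hc₀ hbc hall
    have := hbig b₀ hb₀
    have := hbig c₀ hc₀
    omega
  -- the moments
  let X1 : IrrCharacter G := ⟨χ₁, h₁⟩
  let X2 : IrrCharacter G := ⟨χ₂, h₂⟩
  let X0 : IrrCharacter G := ⟨one, hone⟩
  have hX : X0 ≠ X1 ∧ X0 ≠ X2 ∧ X1 ≠ X2 :=
    ⟨fun e => hne1.1 (congrArg Subtype.val e), fun e => hne1.2 (congrArg Subtype.val e),
      fun e => h12 (congrArg Subtype.val e)⟩
  have key : ∀ b : Ω, b ≠ a₀ → ∃ a : ℤ, 0 < a ∧ (m : ℤ) = 2 * a ^ 2 + 2 * a + 1 ∧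
      ((Nat.card (orbit H b) : ℤ) = a * (2 * a + 1) ∨
        (Nat.card (orbit H b) : ℤ) = (a + 1) * (2 * a + 1)) := by
    intro b hb
    obtain ⟨c, hc', hbc, hall⟩ := horb b hb
    have hk := hsz b c hb hc' hbc hall
    set k := Nat.card (orbit H b) with hkdef
    set D := moves (G := G) a₀ b with hD
    set hh : ℂ := (Nat.card H : ℂ)⁻¹ with hhh
    have hDc : (D.card : ℂ) * hh = k := by
      rw [hD, card_moves, Nat.cast_mul, mul_assoc, mul_inv_cancel₀ (card_ne _), mul_one]
    -- the suborbit is self-paired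
    have hself : ∀ g ∈ D, g⁻¹ ∈ D := by
      obtain ⟨g₀, hg₀⟩ := MulAction.exists_smul_eq G a₀ b
      have hstep : ∀ g ∈ D, g⁻¹ • a₀ ∈ orbit H (g₀⁻¹ • a₀) := by
        intro g hg
        obtain ⟨h, hh'⟩ := mem_moves.1 hg
        have hh'' : (h : G) • b = g • a₀ := hh'
        have hs : g₀⁻¹ * (h : G)⁻¹ * g ∈ H := by
          rw [hH, mem_stabilizer_iff, mul_smul, mul_smul, ← hh'', inv_smul_smul, ← hg₀, inv_smul_smul]
        refine ⟨⟨_, inv_mem hs⟩, ?_⟩
        show (g₀⁻¹ * (h : G)⁻¹ * g)⁻¹ • g₀⁻¹ • a₀ = g⁻¹ • a₀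
        rw [smul_smul, show (g₀⁻¹ * (h : G)⁻¹ * g)⁻¹ * g₀⁻¹ = g⁻¹ * (h : G) by group, mul_smul,
          show (h : G) • a₀ = a₀ from h.2]
      intro g hg
      set b' := g₀⁻¹ • a₀ with hb'
      have hg₀D : g₀ ∈ D := mem_moves.2 (by rw [hg₀]; exact mem_orbit_self b)
      rcases hall b' with e | e | e
      · exact absurd (by rw [← hg₀]; exact (inv_smul_eq_iff.1 e).symm) hb
      · refine mem_moves.2 ?_
        rw [← orbit_eq_iff.2 e]
        exact hstep g hg
      · exfalso
        -- otherwise the two suborbits have equal length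
        have himg : D.image (fun x => x⁻¹) ⊆ moves (G := G) a₀ c := by
          intro x hx
          obtain ⟨y, hy, rfl⟩ := Finset.mem_image.1 hx
          refine mem_moves.2 ?_
          rw [← orbit_eq_iff.2 e]
          exact hstep y hy
        have himg' : (moves (G := G) a₀ c).image (fun x => x⁻¹) ⊆ D := by
          obtain ⟨g₁, hg₁⟩ := MulAction.exists_smul_eq G a₀ c
          obtain ⟨h, hh'⟩ := e
          intro x hx
          obtain ⟨y, hy, rfl⟩ := Finset.mem_image.1 hx
          obtain ⟨h₂', hy'⟩ := mem_moves.1 hy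
          refine mem_moves.2 ?_
          have hy'' : (h₂' : G) • c = y • a₀ := hy'
          have hh'' : (h : G) • c = g₀⁻¹ • a₀ := hh'
          have hu : g₀ * (h : G) * (h₂' : G)⁻¹ * y ∈ H := by
            show _ ∈ stabilizer G a₀
            rw [mem_stabilizer_iff, mul_smul, mul_smul, mul_smul, ← hy'', inv_smul_smul, hh'',
              smul_inv_smul]
          refine ⟨⟨_, inv_mem hu⟩, ?_⟩
          show (g₀ * (h : G) * (h₂' : G)⁻¹ * y)⁻¹ • b = y⁻¹ • a₀
          rw [← hg₀, smul_smul, show (g₀ * (h : G) * (h₂' : G)⁻¹ * y)⁻¹ * g₀ =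
            y⁻¹ * ((h₂' : G) * (h : G)⁻¹) by group, mul_smul, mul_smul,
            inv_smul_eq_iff.2 (show a₀ = (h : G) • a₀ from h.2.symm),
            show (h₂' : G) • a₀ = a₀ from h₂'.2]
        have e1 := Finset.card_le_card himg
        have e2 := Finset.card_le_card himg'
        rw [Finset.card_image_of_injective _ inv_injective] at e1 e2
        have e3 : Nat.card (orbit H b) = Nat.card (orbit H c) := by
          have := le_antisymm e1 e2
          rw [hD, card_moves, card_moves] at this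
          exact Nat.eq_of_mul_eq_mul_right Nat.card_pos this
        omega
    -- moments over all irreducible characters
    have hz : ∀ χ : IrrCharacter G, χ ≠ X0 → χ ≠ X1 → χ ≠ X2 → zv a₀ b χ.1 = 0 := by
      intro χ n0 n1 n2
      refine (zv_props a₀ b χ.2 (hc χ)).2.2.2 ?_
      rw [hinner χ.1 χ.2, if_neg (fun e => n0 (Subtype.ext e.symm)),
        if_neg (fun e => n1 (Subtype.ext e.symm)), if_neg (fun e => n2 (Subtype.ext e.symm))]
      norm_num
    have hX0 : zv a₀ b one = k := by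
      rw [zv, Finset.sum_congr rfl (g := fun _ => (1 : ℂ)) (fun g _ => rfl), Finset.sum_const,
        nsmul_one, mul_comm]
      exact hDc
    set r := zv a₀ b χ₁
    set s := zv a₀ b χ₂
    have hmom : ∀ j : ℕ, 0 < j → ∑ χ : IrrCharacter G, (χ : G → ℂ) 1 * zv a₀ b χ.1 ^ j =
        (k : ℂ) ^ j + ((m : ℂ) - 1) * r ^ j + m * s ^ j := by
      intro j hj
      rw [← Finset.sum_subset (Finset.subset_univ {X0, X1, X2}) (fun χ _ hχ => by
        simp only [Finset.mem_insert, Finset.mem_singleton, not_or] at hχ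
        rw [hz χ hχ.1 hχ.2.1 hχ.2.2, zero_pow hj.ne', mul_zero])]
      rw [Finset.sum_insert (by simp [hX.1, hX.2.1]), Finset.sum_insert (by simp [hX.2.2]),
        Finset.sum_singleton]
      show one 1 * zv a₀ b one ^ j + (χ₁ 1 * r ^ j + χ₂ 1 * s ^ j) = _
      rw [hX0, hd₁, hd₂]
      simp only [one]
      ring
    have h1D : (1 : G) ∉ D := fun h => by
      obtain ⟨u, hu⟩ := (one_smul G a₀) ▸ mem_moves.1 h
      refine hb (MulAction.injective (u : G) ?_)
      show (u : G) • b = (u : G) • a₀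
      rw [show (u : G) • a₀ = a₀ from u.2]
      exact hu
    have e1 : (k : ℂ) + ((m : ℂ) - 1) * r + m * s = 0 := by
      have := hmom 1 one_pos
      simp only [pow_one] at this
      rw [← this]
      simp only [zv, Finset.mul_sum]
      rw [Finset.sum_comm]
      refine Finset.sum_eq_zero fun g hg => ?_
      simp only [mul_left_comm _ ((Nat.card (stabilizer G a₀) : ℂ)⁻¹), ← Finset.mul_sum]
      rw [Char.regular_sum, if_neg, mul_zero]
      rintro rfl
      exact h1D hg
    have e2 : (k : ℂ) ^ 2 + ((m : ℂ) - 1) * r ^ 2 + m * s ^ 2 = 2 * m * k := by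
      rw [← hmom 2 two_pos, Finset.sum_congr rfl (g := fun χ : IrrCharacter G =>
        (χ : G → ℂ) 1 * zv2 a₀ b χ.1) fun χ _ => by rw [(zv_props a₀ b χ.2 (hc χ)).2.1]]
      simp only [zv2, Finset.mul_sum]
      rw [Finset.sum_comm, Finset.sum_congr rfl (g := fun g => hh ^ 2 * (Nat.card G : ℂ)) fun g hg => ?_,
        Finset.sum_const, nsmul_eq_mul, ← hΩ, hm]
      · push_cast
        rw [← hDc, hhh, hD]
        field_simp [card_ne H]
      · rw [Finset.sum_comm]
        simp only [mul_left_comm _ (((Nat.card (stabilizer G a₀) : ℂ)⁻¹) ^ 2), ← Finset.mul_sum, Char.regular_sum]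
        congr 1
        rw [Finset.sum_ite, Finset.sum_const_zero, add_zero, Finset.sum_const,
          show (D.filter fun h => g * h = 1) = {g⁻¹} from ?_, Finset.card_singleton, one_smul]
        ext x
        simp only [Finset.mem_filter, Finset.mem_singleton, mul_eq_one_iff_eq_inv']
        exact ⟨fun h => h.2, fun h => ⟨h ▸ hself g hg, h⟩⟩
    have e3 : ∃ q : ℚ, (k : ℂ) ^ 3 + ((m : ℂ) - 1) * r ^ 3 + m * s ^ 3 = q := by
      refine ⟨((Nat.card H : ℚ)⁻¹) ^ 3 * (Nat.card G : ℚ) *
        ∑ g ∈ D, ∑ h ∈ D, ((D.filter fun l => g * h * l = 1).card : ℚ), ?_⟩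
      rw [← hmom 3 (by norm_num), Finset.sum_congr rfl (g := fun χ : IrrCharacter G =>
        (χ : G → ℂ) 1 * zv3 a₀ b χ.1) fun χ _ => by rw [(zv_props a₀ b χ.2 (hc χ)).2.2.1]]
      push_cast
      simp only [zv3, Finset.mul_sum]
      rw [Finset.sum_comm]
      refine Finset.sum_congr rfl fun g _ => ?_
      rw [Finset.sum_comm]
      refine Finset.sum_congr rfl fun h _ => ?_
      rw [Finset.sum_comm]
      simp only [mul_left_comm _ (((Nat.card (stabilizer G a₀) : ℂ)⁻¹) ^ 3), ← Finset.mul_sum, Char.regular_sum]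
      rw [Finset.sum_ite, Finset.sum_const_zero, add_zero, Finset.sum_const, nsmul_eq_mul]
      ring
    obtain ⟨q3, hq3⟩ := e3
    obtain ⟨ra, sb, hra, hsb⟩ := rat_of_moments (f := (m : ℚ) - 1) (g := m) (x := r) (y := s)
      (by have : (2 : ℚ) ≤ m := by exact_mod_cast hm2
          linarith)
      (by exact_mod_cast (by omega : 0 < m)) (by linarith)
      ⟨-(k : ℚ), show _ = ((_ : ℚ) : ℂ) by push_cast; linear_combination e1⟩
      ⟨2 * m * k - (k : ℚ) ^ 2, show _ = ((_ : ℚ) : ℂ) by push_cast; linear_combination e2⟩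
      ⟨q3 - (k : ℚ) ^ 3, show _ = ((_ : ℚ) : ℂ) by push_cast; linear_combination hq3⟩
    obtain ⟨ri, hri⟩ := int_of_rat (zv_props a₀ b h₁ (hc X1)).1 hra
    obtain ⟨si, hsi⟩ := int_of_rat (zv_props a₀ b h₂ (hc X2)).1 hsb
    rw [show r = (ri : ℂ) from hri, show s = (si : ℂ) from hsi] at e1 e2
    refine arith (l := (Nat.card (orbit H c) : ℤ)) (r := ri) (s := si) (by exact_mod_cast hm2)
      (by exact_mod_cast hbig b hb) (by exact_mod_cast hbig c hc') ?_ ?_ ?_
    · have : ((1 + k + Nat.card (orbit H c) : ℕ) : ℤ) = ((2 * m : ℕ) : ℤ) := by rw [hk]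
      push_cast at this
      linarith
    · exact_mod_cast e1
    · exact_mod_cast e2
  obtain ⟨a, ha, hma, -⟩ := key b₀ hb₀
  refine ⟨a.toNat, by omega, ?_, fun b hb => ?_⟩
  · zify
    rw [Int.toNat_of_nonneg ha.le]
    exact hma
  · obtain ⟨a', ha', hma', hor⟩ := key b hb
    have : a' = a := by nlinarith
    subst this
    rcases hor with e | e
    · left
      zify
      rw [Int.toNat_of_nonneg ha.le]
      exact e
    · right
      zify
      rw [Int.toNat_of_nonneg ha.le]
      exact e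

end Cfsg.Agent.S0719
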