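import Cfsg.Statements.S0720
import Cfsg.Agent.Lib.Lead.W2p.Final
-- import your own Cfsg.Agent.* helpers here

set_option autoImplicit false
open Cfsg

namespace Cfsg.Agent.S0720


open MulAction in
/-- In a primitive group of non-prime degree a point stabiliser fixes only its point. -/
theorem eq_of_stab_le {H Ω : Type*} [Group H] [MulAction H Ω] [FaithfulSMul H Ω] [Finite Ω]
    (hG : IsPreprimitive H Ω) {p : ℕ} (hp : p.Prime) (hn : Nat.card Ω = 2 * p) {a b : Ω}
    (hfix : ∀ g ∈ stabilizer H a, g • b = b) : b = a := by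
  classical
  have := hG.toIsPretransitive
  have := hp.two_le
  have hnt : Nontrivial Ω := Finite.one_lt_card_iff_nontrivial.1 (by omega)
  have hmax := (isCoatom_stabilizer_iff_preprimitive (G := H) a).2 hG
  by_contra hba
  have heq : stabilizer H a = stabilizer H b :=
    (hmax.le_iff.1 (fun g hg => hfix g hg)).resolve_left (fun e => by
      have : ∀ c : Ω, c = b := fun c => by
        obtain ⟨g, rfl⟩ := exists_smul_eq H b c
        exact (mem_stabilizer_iff.1 (e ▸ Subgroup.mem_top g))
      obtain ⟨c, d, hcd⟩ := exists_pair_ne Ω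
      exact hcd ((this c).trans (this d).symm)) |>.symm
  obtain ⟨g, rfl⟩ := exists_smul_eq H a b
  have hgN : g ∈ Subgroup.normalizer ((stabilizer H a : Subgroup H) : Set H) := by
    intro h
    constructor
    · intro hh
      rw [SetLike.mem_coe, heq, mem_stabilizer_iff, ← mul_smul, inv_mul_cancel_right, mul_smul]
      rw [mem_stabilizer_iff.1 hh]
    · intro hh
      rw [SetLike.mem_coe, heq, mem_stabilizer_iff, ← mul_smul, inv_mul_cancel_right, mul_smul] at hh
      exact mem_stabilizer_iff.2 (smul_left_cancel g hh)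
  rcases hmax.le_iff.1 Subgroup.le_normalizer with e | e
  · have hn' : (stabilizer H a).Normal := Subgroup.normalizer_eq_top_iff.1 e
    have hbot : stabilizer H a = ⊥ := (Subgroup.eq_bot_iff_forall _).2 fun h hh => by
      refine FaithfulSMul.eq_of_smul_eq_smul (α := Ω) fun c => ?_
      obtain ⟨k, rfl⟩ := exists_smul_eq H a c
      have := hn'.conj_mem h hh k⁻¹
      rw [inv_inv, mem_stabilizer_iff, mul_smul, mul_smul, inv_smul_eq_iff] at this
      rw [this, one_smul]
    have hcardH : Nat.card H = 2 * p := by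
      rw [← hn, ← index_stabilizer_of_transitive H a, hbot, Subgroup.index_bot]
    have : Finite H := Nat.finite_of_card_ne_zero (by omega)
    have := Fact.mk hp
    obtain ⟨x, hx⟩ := exists_prime_orderOf_dvd_card' (G := H) p (hcardH ▸ dvd_mul_left p 2)
    rw [hbot] at hmax
    have hne : Subgroup.zpowers x ≠ ⊥ := by
      rw [Ne, Subgroup.zpowers_eq_bot, ← orderOf_eq_one_iff, hx]; omega
    have := congrArg (fun K : Subgroup H => Nat.card K)
      (hmax.2 _ (bot_lt_iff_ne_bot.2 hne))
    simp only [Nat.card_zpowers, Subgroup.card_top, hx, hcardH] at this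
    omega
  · exact hba (mem_stabilizer_iff.1 (e ▸ hgN))

/-- Wielandt's Theorem on primitive groups of degree `2p`: such a group is doubly transitive, or it has rank 3, `p = 2a² + 2a + 1`, and subdegrees `a(2a+1)` and `(a+1)(2a+1)`. -/
theorem result {α : Type*} [Fintype α] [DecidableEq α] {p : ℕ} (hp : p.Prime) (hα : Fintype.card α = 2 * p) (G : Subgroup (Equiv.Perm α)) (hG : MulAction.IsPreprimitive G α) (a₀ : α) : MulAction.IsMultiplyPretransitive G α 2 ∨ (Nat.card (MulAction.orbitRel.Quotient (MulAction.stabilizer G a₀) α) = 3 ∧ ∃ a : ℕ, 0 < a ∧ p = 2 * a ^ 2 + 2 * a + 1 ∧ ∀ b : α, b ≠ a₀ → Nat.card (MulAction.orbit (MulAction.stabilizer G a₀) b) = a * (2 * a + 1) ∨ Nat.card (MulAction.orbit (MulAction.stabilizer G a₀) b) = (a + 1) * (2 * a + 1)) := by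
  classical
  have := Fact.mk hp
  have hp2 := hp.two_le
  have htrans := hG.toIsPretransitive
  have hnat : Nat.card α = 2 * p := by rw [Nat.card_eq_fintype_card, hα]
  by_cases h2 : MulAction.IsMultiplyPretransitive G α 2
  · exact Or.inl h2
  refine Or.inr ?_
  have hdvd : p ∣ Nat.card G := by
    have h := Subgroup.index_dvd_card (MulAction.stabilizer G a₀)
    rw [MulAction.index_stabilizer_of_transitive, hnat] at h
    exact (dvd_mul_left p 2).trans h
  obtain ⟨x, hx⟩ := exists_prime_orderOf_dvd_card' (G := G) p hdvd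
  have hxo : orderOf (x : Equiv.Perm α) = p := by rw [Subgroup.orderOf_coe, hx]
  have hfree : ∀ a : α, (x : Equiv.Perm α) a ≠ a := by
    intro a ha
    have hlt : (x : Equiv.Perm α).support.card < 2 * p := by
      rw [← hα]
      exact Finset.card_lt_univ_of_notMem (x := a) (by simp [ha])
    have hc : (x : Equiv.Perm α).IsCycle :=
      Equiv.Perm.isCycle_of_prime_order (hxo ▸ hp) (hxo ▸ hlt)
    have hs : ((x : Equiv.Perm α).support : Set α)ᶜ.ncard = p - 1 + 1 := by
      rw [Set.ncard_compl, Set.ncard_coe_finset, ← hc.orderOf, hxo, hnat]; omega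
    exact h2 (hG.is_two_pretransitive hs (by rw [hnat]; omega)
      (Equiv.Perm.isPretransitive_of_isCycle_mem hc x.2))
  obtain ⟨b₀, hb₀⟩ : ∃ b : α, b ∉ Set.range (fun t : ZMod p => x ^ t.val • a₀) := by
    by_contra h
    push Not at h
    have hs : Function.Surjective (fun t : ZMod p => x ^ t.val • a₀) := fun b => h b
    have := Fintype.card_le_of_surjective _ hs
    rw [ZMod.card, hα] at this; omega
  let pt : Fin 2 → α := ![a₀, b₀]
  have hpow : ∀ m : ℕ, x ^ m = x ^ (m % p) := fun m => by
    rw [← pow_mod_orderOf, hx]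
  have hinj : Function.Injective fun st : Fin 2 × ZMod p => x ^ st.2.val • pt st.1 := by
    have key : ∀ (m : ℕ) (a : α), x ^ m • a = a → p ∣ m := by
      intro m a hm
      by_contra hnd
      have hco : (orderOf x).Coprime m := by rw [hx]; exact (hp.coprime_iff_not_dvd).2 hnd
      have hmem : x ^ m ∈ MulAction.stabilizer G a := hm
      obtain ⟨j, hj⟩ := exists_pow_eq_self_of_coprime hco.symm
      have := Subgroup.pow_mem _ hmem j
      rw [hj] at this
      exact hfree a this
    have hadd : ∀ (t u : ZMod p) (a b : α), x ^ t.val • a = x ^ u.val • b →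
        x ^ (t - u).val • a = b := by
      intro t u a b e
      have h1 : x ^ (u.val + (t - u).val) = x ^ t.val := by
        rw [hpow, ← ZMod.val_add, add_sub_cancel]
      rw [pow_add] at h1
      rw [← h1, mul_smul] at e
      exact smul_left_cancel _ e
    rintro ⟨s, t⟩ ⟨s', t'⟩ e
    have e' := hadd t t' _ _ e
    have hs : s = s' := by
      have e2 := hadd t' t _ _ e.symm
      fin_cases s <;> fin_cases s' <;> try rfl
      · exact absurd ⟨_, e'⟩ hb₀
      · exact absurd ⟨_, e2⟩ hb₀
    subst hs
    have := key _ _ e'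
    have hlt := ZMod.val_lt (t - t')
    have hz : (t - t').val = 0 := Nat.eq_zero_of_dvd_of_lt this hlt
    rw [(sub_eq_zero.1 ((ZMod.val_eq_zero _).1 hz) : t = t')]
  have hbij : Function.Bijective fun st : Fin 2 × ZMod p => x ^ st.2.val • pt st.1 :=
    (Fintype.bijective_iff_injective_and_card _).2 ⟨hinj, by simp [hα]⟩
  let e := Equiv.ofBijective _ hbij
  have hx' : ∀ s t, x • e (s, t) = e (s, t + 1) := by
    intro s t
    show x • x ^ t.val • pt s = x ^ (t + 1).val • pt s
    rw [← mul_smul, ← pow_succ', hpow, ZMod.val_add, ZMod.val_one]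
  have hmix : ∃ g : G, ∃ s t t', (e.symm (g • e (s, t))).1 ≠ (e.symm (g • e (s, t'))).1 := by
    by_contra hne
    push Not at hne
    set B : Set α := {c | (e.symm c).1 = 0} with hB
    have hblock : MulAction.IsBlock G B := by
      rw [MulAction.isBlock_iff_smul_eq_or_disjoint]
      intro g
      have hmap : ∀ c ∈ B, (e.symm (g • c)).1 = (e.symm (g • e (0, 0))).1 := by
        intro c hc
        obtain ⟨⟨s, t⟩, rfl⟩ := e.surjective c
        simp only [hB, Set.mem_ofPred_eq, Equiv.symm_apply_apply] at hc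
        subst hc
        exact hne g 0 t 0
      rcases eq_or_ne (e.symm (g • e (0, 0))).1 0 with h | h
      · left
        refine Set.eq_of_subset_of_ncard_le ?_ (by rw [Set.ncard_smul_set]) (Set.toFinite _)
        rintro _ ⟨c, hc, rfl⟩
        exact (hmap c hc).trans h
      · right
        rw [Set.disjoint_left]
        rintro _ ⟨c, hc, rfl⟩ hc'
        exact h ((hmap c hc).symm.trans hc')
    rcases hG.isTrivialBlock_of_isBlock hblock with hs | hu
    · have := hs (show e (0, 0) ∈ B by simp [hB]) (show e (0, 1) ∈ B by simp [hB])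
      simpa using e.injective this
    · have : e (1, 0) ∈ B := hu ▸ Set.mem_univ _
      simp [hB] at this
  let S : W2p.Setup p G α := ⟨e, x, hx', htrans, hmix⟩
  have hnotone : ∀ q : W2p.Sub (G := G) a₀, q ≠ W2p.base a₀ → 2 ≤ W2p.size a₀ q := by
    intro q hq
    obtain ⟨b, rfl⟩ := Quotient.mk''_surjective q
    by_contra hlt
    push Not at hlt
    have hfix : ∀ g ∈ MulAction.stabilizer G a₀, g • b = b := by
      intro g hg
      refine Finset.card_le_one.1 (Nat.lt_succ_iff.1 hlt) _ ?_ _ ?_
      · simp [W2p.mk_stab_smul a₀ g hg b]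
      · simp
    exact hq (congrArg _ (eq_of_stab_le hG hp hnat hfix))
  have h3 : 3 ≤ Fintype.card (W2p.Sub (G := G) a₀) := by
    by_contra hlt
    push Not at hlt
    refine h2 (MulAction.is_two_pretransitive_iff.2 fun {a b c d} hab hcd => ?_)
    have hone : ∀ u v : α, u ≠ a₀ → v ≠ a₀ → ∃ g : G, g • a₀ = a₀ ∧ g • u = v := by
      intro u v hu hv
      by_contra hne
      have hne1 : ∀ w : α, w ≠ a₀ →
          (Quotient.mk'' w : W2p.Sub (G := G) a₀) ≠ W2p.base a₀ := by
        intro w hw ew
        obtain ⟨s, hs⟩ := Quotient.exact' ew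
        exact hw (hs.symm.trans s.2)
      have hne2 : (Quotient.mk'' v : W2p.Sub (G := G) a₀) ≠ Quotient.mk'' u := by
        intro ev
        obtain ⟨s, hs⟩ := Quotient.exact' ev
        exact hne ⟨s, s.2, hs⟩
      have h4 : ({W2p.base a₀, Quotient.mk'' u, Quotient.mk'' v} :
          Finset (W2p.Sub (G := G) a₀)).card = 3 :=
        Finset.card_eq_three.2 ⟨_, _, _, (hne1 u hu).symm, (hne1 v hv).symm, hne2.symm, rfl⟩
      have := Finset.card_le_univ ({W2p.base a₀, Quotient.mk'' u, Quotient.mk'' v} :
          Finset (W2p.Sub (G := G) a₀))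
      omega
    obtain ⟨g, hg⟩ := MulAction.exists_smul_eq G a a₀
    obtain ⟨k, hk⟩ := MulAction.exists_smul_eq G c a₀
    obtain ⟨l, hl1, hl2⟩ := hone (g • b) (k • d)
      (fun h => hab (smul_left_cancel g (hg.trans h.symm)))
      (fun h => hcd (smul_left_cancel k (hk.trans h.symm)))
    refine ⟨k⁻¹ * l * g, ?_, ?_⟩
    · rw [mul_smul, mul_smul, hg, hl1, inv_smul_eq_iff, hk]
    · rw [mul_smul, mul_smul, hl2, inv_smul_smul]
  obtain ⟨hc3, a, ha, hpa, hsz⟩ := W2p.count S a₀ hnotone h3
  refine ⟨by rw [Nat.card_eq_fintype_card]; exact hc3, a, ha, hpa, fun b hb => ?_⟩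
  have hq : (Quotient.mk'' b : W2p.Sub (G := G) a₀) ≠ W2p.base a₀ := by
    intro ew
    obtain ⟨s, hs⟩ := Quotient.exact' ew
    exact hb (hs.symm.trans s.2)
  have hcard : Nat.card (MulAction.orbit (MulAction.stabilizer G a₀) b)
      = W2p.size a₀ (Quotient.mk'' b : W2p.Sub (G := G) a₀) := by
    rw [Nat.card_eq_fintype_card, ← Set.toFinset_card, W2p.size]
    congr 1
    ext c
    simp only [Set.mem_toFinset, Finset.mem_filter, Finset.mem_univ, true_and]
    exact ⟨fun h => Quotient.sound' h, fun h => Quotient.exact' h⟩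
  rw [hcard]
  exact hsz _ hq

end Cfsg.Agent.S0720
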