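import Cfsg.Statements.S0722
import Cfsg.Agent.Lib.Perm.Primitive

set_option autoImplicit false
open Cfsg

namespace Cfsg.Agent.S0722

/-- In a primitive group `H`, with `N` a minimal normal subgroup and `K` a point stabiliser, `K ⊓ N` is maximal among proper `K`-invariant subgroups of `N`. -/
theorem result {α : Type*} [Finite α] (H : Subgroup (Equiv.Perm α)) [MulAction.IsPreprimitive H α] (N : Subgroup H) [N.Normal] (hN : N ≠ ⊥) (hmin : ∀ M : Subgroup H, M.Normal → M ≤ N → M = ⊥ ∨ M = N) (a : α) (X : Subgroup H) (hX : X ≤ N) (hKX : MulAction.stabilizer H a ⊓ N ≤ X) (hinv : MulAction.stabilizer H a ≤ Subgroup.normalizer (X : Set H)) : X = MulAction.stabilizer H a ⊓ N ∨ X = N := by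
  classical
  rcases subsingleton_or_nontrivial α with hα | hα
  · exact absurd ((Subgroup.eq_bot_iff_forall _).2 fun x _ => Subtype.ext (Subsingleton.elim _ _)) hN
  set S := MulAction.stabilizer H a
  have hco : IsCoatom S :=
    MulAction.IsPreprimitive.isCoatom_stabilizer_of_isPreprimitive H a
  rcases hco.le_iff.1 (le_sup_right : S ≤ X ⊔ S) with h | h
  · right
    refine le_antisymm hX fun n hn => ?_
    have hn' : n ∈ ((X ⊔ S : Subgroup H) : Set H) := by rw [h]; exact Set.mem_univ _
    rw [Subgroup.coe_mul_of_right_le_normalizer_left X S hinv] at hn'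
    obtain ⟨x, hx, s, hs, rfl⟩ := hn'
    have hs' : s ∈ N := (Subgroup.mul_mem_cancel_left N (hX hx)).1 hn
    exact mul_mem hx (hKX ⟨hs, hs'⟩)
  · left
    exact le_antisymm (le_inf (le_sup_left.trans h.le) hX) hKX

end Cfsg.Agent.S0722
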