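import Cfsg.Statements.S0723
import Mathlib
import Cfsg.Agent.Lib.Perm.Primitive

set_option autoImplicit false
open Cfsg
open scoped commutatorElement

namespace Cfsg.Agent.S0723

section CRT

variable {G T : Type*} [Group G] [Group T] [IsSimpleGroup T]

theorem map_normal_cases (π : G →* T) (hπ : Function.Surjective π) (A : Subgroup G) [hA : A.Normal] :
    A.map π = ⊥ ∨ A.map π = ⊤ :=
  (hA.map π hπ).eq_bot_or_eq_top

/-- Kernels of maps onto a simple non-abelian group are independent. -/
theorem exists_simultaneous (hT : ¬ IsMulCommutative T) {ι : Type*} (π : ι → G →* T)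
    (hπ : ∀ i, Function.Surjective (π i)) :
    ∀ s : Finset ι, Set.InjOn (fun i => (π i).ker) ↑s → ∀ f : ι → T, ∃ g : G, ∀ i ∈ s, π i g = f i := by
  classical
  have key : ∀ (a : ι) (A B : Subgroup G), A.Normal → B.Normal → (A ⊓ B).map (π a) = ⊥ →
      A.map (π a) = ⊥ ∨ B.map (π a) = ⊥ := by
    intro a A B hA hB h
    haveI := hA
    haveI := hB
    by_contra hc
    push Not at hc
    have hA' := (map_normal_cases (π a) (hπ a) A).resolve_left hc.1
    have hB' := (map_normal_cases (π a) (hπ a) B).resolve_left hc.2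
    refine hT ⟨⟨fun x y => ?_⟩⟩
    obtain ⟨u, hu, rfl⟩ := Subgroup.mem_map.1 (hA'.symm ▸ Subgroup.mem_top x)
    obtain ⟨v, hv, rfl⟩ := Subgroup.mem_map.1 (hB'.symm ▸ Subgroup.mem_top y)
    have hm : ⁅u, v⁆ ∈ A ⊓ B := Subgroup.mem_inf.2
      ⟨Subgroup.commutator_le_left A B (Subgroup.commutator_mem_commutator hu hv),
        Subgroup.commutator_le_right A B (Subgroup.commutator_mem_commutator hu hv)⟩
    have h1 : π a ⁅u, v⁆ ∈ (A ⊓ B).map (π a) := Subgroup.mem_map_of_mem _ hm
    rw [h, Subgroup.mem_bot, map_commutatorElement, commutatorElement_eq_one_iff_mul_comm] at h1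
    exact h1
  intro s
  induction s using Finset.induction_on with
  | empty => exact fun _ f => ⟨1, by simp⟩
  | insert a s ha ih =>
    intro hinj f
    obtain ⟨g, hg⟩ := ih (hinj.mono (by simp)) f
    have htop : (s.inf fun j => (π j).ker).map (π a) ≠ ⊥ := by
      have : ∀ t : Finset ι, t ⊆ s → (t.inf fun j => (π j).ker).map (π a) ≠ ⊥ := by
        intro t
        induction t using Finset.induction_on with
        | empty =>
          intro _
          rw [Finset.inf_empty, Subgroup.map_top_of_surjective _ (hπ a)]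
          exact top_ne_bot
        | insert b t hb iht =>
          intro hbt h
          have hbs : b ∈ s := hbt (Finset.mem_insert_self b t)
          have hn : (t.inf fun j => (π j).ker).Normal := by
            refine Finset.inf_induction (p := fun A : Subgroup G => A.Normal) inferInstance
              (fun A hA B hB => ?_) (fun j _ => inferInstance)
            exact ⟨fun x hx g => Subgroup.mem_inf.2 ⟨hA.conj_mem x (Subgroup.mem_inf.1 hx).1 g,
              hB.conj_mem x (Subgroup.mem_inf.1 hx).2 g⟩⟩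
          rw [Finset.inf_insert] at h
          rcases key a _ _ inferInstance hn h with h' | h'
          · have hle : (π b).ker ≤ (π a).ker := (Subgroup.map_eq_bot_iff _).1 h'
            have hab : (π b).ker ≠ (π a).ker := fun e =>
              ha (hinj (Finset.mem_insert_of_mem hbs) (Finset.mem_insert_self a s) e ▸ hbs)
            rcases map_normal_cases (π b) (hπ b) (π a).ker with e | e
            · exact hab (le_antisymm hle ((Subgroup.map_eq_bot_iff _).1 e))
            · obtain ⟨x, hx⟩ := exists_ne (1 : T)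
              obtain ⟨y, rfl⟩ := hπ a x
              obtain ⟨z, hz, hzy⟩ := Subgroup.mem_map.1 (e.symm ▸ Subgroup.mem_top (π b y))
              have h1 : z⁻¹ * y ∈ (π a).ker := hle (by simp [MonoidHom.mem_ker, hzy])
              exact hx (by simpa [MonoidHom.mem_ker, (MonoidHom.mem_ker.1 hz)] using h1)
          · exact iht (fun j hj => hbt (Finset.mem_insert_of_mem hj)) h'
      exact this s subset_rfl
    have hn : (s.inf fun j => (π j).ker).Normal :=
      Finset.inf_induction (p := fun A : Subgroup G => A.Normal) inferInstance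
        (fun A hA B hB => ⟨fun x hx g => Subgroup.mem_inf.2 ⟨hA.conj_mem x (Subgroup.mem_inf.1 hx).1 g,
          hB.conj_mem x (Subgroup.mem_inf.1 hx).2 g⟩⟩) (fun j _ => inferInstance)
    haveI := hn
    have hsur := (map_normal_cases (π a) (hπ a) (s.inf fun j => (π j).ker)).resolve_left htop
    obtain ⟨l, hl, hl'⟩ := Subgroup.mem_map.1 (hsur.symm ▸ Subgroup.mem_top ((π a g)⁻¹ * f a))
    refine ⟨g * l, fun i hi => ?_⟩
    rcases Finset.mem_insert.1 hi with rfl | hi
    · rw [map_mul, hl', mul_inv_cancel_left]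
    · have : l ∈ (π i).ker := Finset.inf_le (f := fun j => (π j).ker) hi hl
      rw [map_mul, MonoidHom.mem_ker.1 this, mul_one, hg i hi]

end CRT

/-- The core of the O'Nan–Scott Theorem. Let `H` be a primitive permutation group on a finite set whose unique minimal normal subgroup `N` is non-abelian, and `K` a point stabiliser. Then there are a non-abelian simple group `T` and an isomorphism `N ≃* T^m` (`m ≥ 1`) under which `K ⊓ N` becomes either a product `∏ K_i` of proper subgroups `K_i < T`, or the set of functions constant on each block of a partition of the index set into blocks of one common size `k ≥ 2`. -/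
theorem result {α : Type*} [Finite α] (H : Subgroup (Equiv.Perm α)) [MulAction.IsPreprimitive H α] (N : Subgroup H) [N.Normal] (hN : N ≠ ⊥) (hmin : ∀ M : Subgroup H, M.Normal → M ≤ N → M = ⊥ ∨ M = N) (huniq : ∀ L : Subgroup H, L.Normal → L ≠ ⊥ → (∀ M : Subgroup H, M.Normal → M ≤ L → M = ⊥ ∨ M = L) → L = N) (hnab : ¬ IsMulCommutative N) (a : α) : ∃ (T : Type) (_ : Group T) (m : ℕ) (e : N ≃* (Fin m → T)), IsSimpleGroup T ∧ ¬ IsMulCommutative T ∧ 0 < m ∧ ((∃ K : Fin m → Subgroup T, (∀ i, K i ≠ ⊤) ∧ ∀ n : N, (n : H) ∈ MulAction.stabilizer H a ↔ ∀ i, e n i ∈ K i) ∨ (∃ (k : ℕ) (c : Fin m → Fin m), 2 ≤ k ∧ (∀ j : Fin m, Nat.card {i : Fin m // c i = j} = k ∨ Nat.card {i : Fin m // c i = j} = 0) ∧ ∀ n : N, (n : H) ∈ MulAction.stabilizer H a ↔ ∀ i j : Fin m, c i = c j → e n i = e n j)) := by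
  classical
  obtain ⟨K, hK⟩ : ∃ K : Subgroup H, K = MulAction.stabilizer H a := ⟨_, rfl⟩
  set D : Subgroup N := K.subgroupOf N with hD
  haveI hNt : MulAction.IsPretransitive N α := Perm.normal_isPretransitive N hN
  have hNK : ∀ h : H, ∃ (n : N), ∃ k ∈ K, h = (n : H) * k := by
    intro h
    obtain ⟨n, hn⟩ := MulAction.exists_smul_eq N a (h • a)
    refine ⟨n, (n : H)⁻¹ * h, ?_, by group⟩
    rw [hK, MulAction.mem_stabilizer_iff, mul_smul, ← hn]
    exact inv_smul_smul (n : H) a
  haveI : Nontrivial α := by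
    by_contra hs
    rw [not_nontrivial_iff_subsingleton] at hs
    refine hN ((Subgroup.eq_bot_iff_forall _).2 fun n _ => ?_)
    exact FaithfulSMul.eq_of_smul_eq_smul (α := α) fun x => Subsingleton.elim _ _
  -- conjugation
  let c : H → N →* N := fun h => (MulAut.conjNormal h : MulAut N).toMonoidHom
  have hcoe : ∀ (h : H) (n : N), ((c h n : N) : H) = h * n * h⁻¹ := fun h n => MulAut.conjNormal_apply h n
  have hDinv : ∀ k ∈ K, ∀ d ∈ D, c k d ∈ D := by
    intro k hk d hd
    rw [hD, Subgroup.mem_subgroupOf, hcoe]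
    exact mul_mem (mul_mem hk (Subgroup.mem_subgroupOf.1 hd)) (inv_mem hk)
  have hDne : D ≠ ⊤ := by
    intro e
    obtain ⟨x, hx⟩ := exists_ne a
    obtain ⟨n, hn⟩ := MulAction.exists_smul_eq N a x
    have hnD : (n : H) ∈ K := Subgroup.mem_subgroupOf.1 (e.symm ▸ Subgroup.mem_top n : n ∈ D)
    rw [hK, MulAction.mem_stabilizer_iff] at hnD
    exact hx (hn ▸ hnD)
  have hmax : ∀ X : Subgroup N, (∀ k ∈ K, ∀ x ∈ X, c k x ∈ X) → D ≤ X → X ≠ ⊤ → X = D := by
    intro X hX hDX hne
    by_contra hXD
    set J : Subgroup H := X.map N.subtype ⊔ K with hJ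
    have hn : K ≤ Subgroup.normalizer ((X.map N.subtype : Subgroup H) : Set H) := by
      intro k hk
      rw [Subgroup.mem_normalizer_iff]
      refine fun y => ⟨?_, fun hy => ?_⟩
      · rintro ⟨x, hx, rfl⟩
        exact ⟨c k x, hX k hk x hx, hcoe k x⟩
      · obtain ⟨x, hx, hxy⟩ := hy
        refine ⟨c k⁻¹ x, hX _ (inv_mem hk) x hx, ?_⟩
        show ((c k⁻¹ x : N) : H) = y
        rw [hcoe, show ((x : N) : H) = k * y * k⁻¹ from hxy]; group
    have hco : IsCoatom K := hK ▸ MulAction.IsPreprimitive.isCoatom_stabilizer_of_isPreprimitive _ a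
    have hJtop : J = ⊤ := by
      refine (hco.le_iff.1 (le_sup_right : K ≤ J)).resolve_right fun e => hXD (le_antisymm ?_ hDX)
      intro x hx
      rw [hD, Subgroup.mem_subgroupOf, ← e]
      exact Subgroup.mem_sup_left ⟨x, hx, rfl⟩
    refine hne (eq_top_iff.2 fun n _ => ?_)
    have hmem : (n : H) ∈ ((J : Subgroup H) : Set H) := by rw [hJtop]; trivial
    rw [hJ, Subgroup.coe_mul_of_right_le_normalizer_left _ _ hn] at hmem
    obtain ⟨y, ⟨x, hx, rfl⟩, k, hk, hxk⟩ := hmem
    have hk' : x⁻¹ * n ∈ D := by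
      rw [hD, Subgroup.mem_subgroupOf, Subgroup.coe_mul, Subgroup.coe_inv, ← hxk]
      simpa using hk
    simpa using X.mul_mem hx (hDX hk')
  -- a simple quotient
  haveI : Nontrivial N := (Subgroup.nontrivial_iff_ne_bot N).2 hN
  obtain ⟨M₁, hM₁⟩ := (Set.toFinite {M : Subgroup N | M.Normal ∧ M ≠ ⊤}).exists_maximal
    ⟨⊥, ⟨inferInstance, bot_ne_top⟩⟩
  haveI := hM₁.prop.1
  let T := Shrink.{0} (N ⧸ M₁)
  let eT : N ⧸ M₁ ≃* T := Shrink.mulEquiv.symm
  let π₀ : N →* T := eT.toMonoidHom.comp (QuotientGroup.mk' M₁)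
  have hπ₀ : Function.Surjective π₀ := eT.surjective.comp (QuotientGroup.mk'_surjective M₁)
  have hker₀ : π₀.ker = M₁ := by
    ext x
    simp [π₀, MonoidHom.mem_ker]
  have hmin' : ∀ X : Subgroup N, (∀ (h : H), ∀ x ∈ X, c h x ∈ X) → X ≠ ⊤ → X = ⊥ := by
    intro X hX hne
    have hnorm : (X.map N.subtype).Normal := ⟨by
      rintro _ ⟨x, hx, rfl⟩ h
      exact ⟨c h x, hX h x hx, hcoe h x⟩⟩
    rcases hmin _ hnorm (Subgroup.map_subtype_le X) with e | e
    · exact (Subgroup.map_eq_bot_iff_of_injective _ N.subtype_injective).1 e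
    · refine absurd (Subgroup.map_injective N.subtype_injective ?_) hne
      rw [e, ← MonoidHom.range_eq_map, N.subtype_range]
  let πh : H → N →* T := fun h => π₀.comp (c h)
  have hcmul : ∀ (g h : H) (n : N), c (g * h) n = c g (c h n) := fun g h n => by
    apply Subtype.ext; rw [hcoe, hcoe, hcoe]; group
  have hπh : ∀ h, Function.Surjective (πh h) := fun h => hπ₀.comp (MulAut.conjNormal h : MulAut N).surjective
  have hsimple : IsSimpleGroup T := by
    haveI : Nontrivial (N ⧸ M₁) := QuotientGroup.nontrivial_iff.2 hM₁.prop.2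
    haveI : Nontrivial T := eT.symm.toEquiv.nontrivial
    refine ⟨fun L hL => ?_⟩
    have hle : M₁ ≤ L.comap π₀ := le_of_eq_of_le hker₀.symm (Subgroup.ker_le_comap π₀ L)
    by_cases ht : L.comap π₀ = ⊤
    · right
      rw [← Subgroup.map_comap_eq_self_of_surjective hπ₀ L, ht, Subgroup.map_top_of_surjective _ hπ₀]
    · left
      have he := hM₁.eq_of_le ⟨hL.comap π₀, ht⟩ hle
      rw [← Subgroup.map_comap_eq_self_of_surjective hπ₀ L, ← he, Subgroup.map_eq_bot_iff, hker₀]
  have hTab : ¬ IsMulCommutative T := by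
    intro hcm
    apply hnab
    have hbot : commutator N = ⊥ := by
      refine hmin' _ (fun h x hx => ?_) fun e => ?_
      · have hh : c h x ∈ (commutator N).map (c h) := Subgroup.mem_map_of_mem _ hx
        exact Subgroup.map_le_iff_le_comap.2
          ((Subgroup.characteristic_iff_le_comap.1 (inferInstance : (commutator N).Characteristic))
            (MulAut.conjNormal h)) hh
      · have hle : commutator N ≤ π₀.ker := by
          rw [commutator_def, Subgroup.commutator_le]
          intro u _ v _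
          rw [MonoidHom.mem_ker, map_commutatorElement, commutatorElement_eq_one_iff_mul_comm]
          exact hcm.1.comm _ _
        rw [e, hker₀] at hle
        exact hM₁.prop.2 (top_le_iff.1 hle)
    refine ⟨⟨fun x y => ?_⟩⟩
    rw [← commutatorElement_eq_one_iff_mul_comm]
    have hxy : ⁅x, y⁆ ∈ commutator N := by
      rw [commutator_def]
      exact Subgroup.commutator_mem_commutator (Subgroup.mem_top x) (Subgroup.mem_top y)
    rwa [hbot, Subgroup.mem_bot] at hxy
  -- the factors
  set O : Set (Subgroup N) := Set.range (fun h => (πh h).ker) with hO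
  haveI : Finite O := Set.toFinite O |>.to_subtype
  obtain ⟨m, ⟨idx⟩⟩ := Finite.exists_equiv_fin O
  choose hh hhh using fun i : Fin m => (idx.symm i).2
  let π : Fin m → N →* T := fun i => πh (hh i)
  have hπ : ∀ i, Function.Surjective (π i) := fun i => hπh _
  have hkinj : Function.Injective (fun i => (π i).ker) := fun i j e =>
    idx.symm.injective (Subtype.ext ((hhh i).symm.trans (e.trans (hhh j))))
  have hall : ∀ h : H, ∃ i, (π i).ker = (πh h).ker := fun h => by
    refine ⟨idx ⟨_, ⟨h, rfl⟩⟩, (hhh _).trans ?_⟩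
    rw [Equiv.symm_apply_apply]
  have hcomap : ∀ g h : H, (πh g).ker.comap (c h) = (πh (g * h)).ker := fun g h => by
    ext x
    simp only [Subgroup.mem_comap, MonoidHom.mem_ker, πh, MonoidHom.comp_apply, hcmul]
  have hperm : ∀ (h : H) (i : Fin m), ∃ j, (π i).ker.comap (c h) = (π j).ker := fun h i => by
    obtain ⟨j, hj⟩ := hall (hh i * h)
    exact ⟨j, (hcomap _ _).trans hj.symm⟩
  have hm0 : 0 < m := by
    obtain ⟨i, -⟩ := hall 1
    exact i.pos
  have hinter : ∀ n : N, (∀ i, π i n = 1) → n = 1 := by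
    let X : Subgroup N := ⨅ i, (π i).ker
    have hX : X = ⊥ := by
      refine hmin' X (fun h x hx => Subgroup.mem_iInf.2 fun i => ?_) fun e => ?_
      · obtain ⟨j, hj⟩ := hperm h i
        have := Subgroup.mem_iInf.1 hx j
        rwa [← hj] at this
      · obtain ⟨t, ht⟩ := exists_ne (1 : T)
        obtain ⟨n, hn⟩ := hπ ⟨0, hm0⟩ t
        have := Subgroup.mem_iInf.1 (e.symm ▸ Subgroup.mem_top n : n ∈ X) ⟨0, hm0⟩
        exact ht (hn.symm.trans this)
    intro n hn
    exact Subgroup.mem_bot.1 (hX ▸ Subgroup.mem_iInf.2 hn)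
  have hbij : Function.Bijective (MonoidHom.mk' (fun n (i : Fin m) => π i n)
      (fun x y => funext fun i => map_mul (π i) x y)) := by
    refine ⟨(injective_iff_map_eq_one _).2 fun n hn => hinter n (congrFun hn), fun f => ?_⟩
    obtain ⟨g, hg⟩ := exists_simultaneous hTab π hπ Finset.univ hkinj.injOn f
    exact ⟨g, funext fun i => hg i (Finset.mem_univ i)⟩
  -- the point stabiliser permutes the factors transitively
  have htrans : ∀ i j : Fin m, ∃ k ∈ K, (π i).ker.comap (c k) = (π j).ker := by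
    intro i j
    obtain ⟨n, k, hk, he⟩ := hNK ((hh i)⁻¹ * hh j)
    refine ⟨k, hk, ?_⟩
    have h1 : (π i).ker.comap (c (n : H)) = (π i).ker := by
      ext x
      rw [Subgroup.mem_comap, show c (n : H) x = n * x * n⁻¹ from Subtype.ext (hcoe _ _)]
      exact ⟨fun hx => by simpa [mul_assoc] using (inferInstance : (π i).ker.Normal).conj_mem _ hx n⁻¹,
        fun hx => (inferInstance : (π i).ker.Normal).conj_mem x hx n⟩
    conv_lhs => rw [← h1]
    show ((πh (hh i)).ker.comap (c n)).comap (c k) = (πh (hh j)).ker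
    rw [hcomap, hcomap, mul_assoc, ← he, mul_inv_cancel_left]
  by_cases hfull : ∃ i, D.map (π i) = ⊤
  swap
  · push Not at hfull
    refine ⟨T, inferInstance, m, MulEquiv.ofBijective _ hbij, hsimple, hTab, hm0,
      Or.inl ⟨fun i => D.map (π i), hfull, fun n => ?_⟩⟩
    show (n : H) ∈ MulAction.stabilizer H a ↔ ∀ i, π i n ∈ D.map (π i)
    rw [← hK]
    refine ⟨fun hn i => Subgroup.mem_map_of_mem _ (Subgroup.mem_subgroupOf.2 hn), fun hn => ?_⟩
    let X : Subgroup N := ⨅ i, (D.map (π i)).comap (π i)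
    have hX : X = D := by
      refine hmax X (fun k hk x hx => Subgroup.mem_iInf.2 fun i => ?_)
        (fun d hd => Subgroup.mem_iInf.2 fun i => Subgroup.mem_map_of_mem _ hd) fun e => ?_
      · obtain ⟨j, hj⟩ := hperm k i
        obtain ⟨d, hd, hdx⟩ := Subgroup.mem_map.1 (Subgroup.mem_comap.1 (Subgroup.mem_iInf.1 hx j))
        refine Subgroup.mem_comap.2 (Subgroup.mem_map.2 ⟨c k d, hDinv k hk d hd, ?_⟩)
        have hmem : d⁻¹ * x ∈ (π j).ker := by simp [MonoidHom.mem_ker, hdx]
        rw [← hj, Subgroup.mem_comap, MonoidHom.mem_ker, map_mul, map_inv, map_mul, map_inv,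
          inv_mul_eq_one] at hmem
        exact hmem
      · refine hfull ⟨0, hm0⟩ (eq_top_iff.2 fun t _ => ?_)
        obtain ⟨n, rfl⟩ := hπ ⟨0, hm0⟩ t
        exact Subgroup.mem_iInf.1 (e.symm ▸ Subgroup.mem_top n : n ∈ X) _
    exact Subgroup.mem_subgroupOf.1 (show n ∈ D from hX ▸ Subgroup.mem_iInf.2 hn)
  · obtain ⟨i₀, hi₀⟩ := hfull
    have hsur : ∀ (i : Fin m) (t : T), ∃ d ∈ D, π i d = t := by
      intro i t
      obtain ⟨k, hk, hki⟩ := htrans i i₀
      obtain ⟨n, rfl⟩ := hπ i t
      obtain ⟨d, hd, hdn⟩ := Subgroup.mem_map.1 (hi₀.symm ▸ Subgroup.mem_top (π i₀ (c k⁻¹ n)))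
      refine ⟨c k d, hDinv k hk d hd, ?_⟩
      have hmem : d⁻¹ * c k⁻¹ n ∈ (π i₀).ker := by simp [MonoidHom.mem_ker, hdn]
      rw [← hki, Subgroup.mem_comap, MonoidHom.mem_ker, map_mul, map_inv, map_mul, map_inv,
        inv_mul_eq_one, ← hcmul, mul_inv_cancel, show c 1 n = n from Subtype.ext (by rw [hcoe]; group)] at hmem
      exact hmem
    let ρ : Fin m → D →* T := fun i => (π i).comp D.subtype
    have hρ : ∀ i, Function.Surjective (ρ i) := fun i t => by
      obtain ⟨d, hd, rfl⟩ := hsur i t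
      exact ⟨⟨d, hd⟩, rfl⟩
    -- representatives
    have hrep : ∀ i, ∃ j, (ρ j).ker = (ρ i).ker := fun i => ⟨i, rfl⟩
    let b : Fin m → Fin m := fun i =>
      (Finset.univ.filter fun j => (ρ j).ker = (ρ i).ker).min' ⟨i, by simp⟩
    have hbker : ∀ i, (ρ (b i)).ker = (ρ i).ker := fun i =>
      (Finset.mem_filter.1 ((Finset.univ.filter fun j => (ρ j).ker = (ρ i).ker).min'_mem ⟨i, by simp⟩)).2
    have hbeq : ∀ i j, (ρ i).ker = (ρ j).ker → b i = b j := fun i j e => by
      simp only [b, e]
    have hbiff : ∀ i j, b i = b j ↔ (ρ i).ker = (ρ j).ker := fun i j =>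
      ⟨fun e => by rw [← hbker i, e, hbker], hbeq i j⟩
    -- twist
    let θ : Fin m → (T →* T) := fun i => (ρ i).liftOfSurjective (hρ i) ⟨ρ (b i), (hbker i).ge⟩
    have hθ : ∀ i (d : D), θ i (ρ i d) = ρ (b i) d := fun i d =>
      MonoidHom.liftOfRightInverse_comp_apply _ _ _ _ d
    have hθb : ∀ i, Function.Bijective (θ i) := by
      intro i
      refine ⟨(injective_iff_map_eq_one _).2 fun t ht => ?_, fun t => ?_⟩
      · obtain ⟨d, rfl⟩ := hρ i t
        rw [hθ] at ht
        exact (hbker i).le (MonoidHom.mem_ker.2 ht)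
      · obtain ⟨d, rfl⟩ := hρ (b i) t
        exact ⟨ρ i d, hθ i d⟩
    let e : N ≃* (Fin m → T) :=
      (MulEquiv.ofBijective _ hbij).trans (MulEquiv.piCongrRight fun i => MulEquiv.ofBijective (θ i) (hθb i))
    have he : ∀ (n : N) i, e n i = θ i (π i n) := fun n i => rfl
    have hmemD : ∀ n : N, (n : H) ∈ MulAction.stabilizer H a ↔ ∀ i j : Fin m, b i = b j → e n i = e n j := by
      intro n
      rw [← hK]
      constructor
      · intro hn i j hij
        have hnD : n ∈ D := Subgroup.mem_subgroupOf.2 hn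
        rw [he, he, show π i n = ρ i ⟨n, hnD⟩ from rfl, show π j n = ρ j ⟨n, hnD⟩ from rfl, hθ, hθ, hij]
      · intro hn
        obtain ⟨d, hd⟩ := exists_simultaneous hTab ρ hρ (Finset.univ.image b) (fun x hx y hy hxy => by
          obtain ⟨i, -, rfl⟩ := Finset.mem_image.1 hx
          obtain ⟨j, -, rfl⟩ := Finset.mem_image.1 hy
          exact hbeq i j ((hbker i).symm.trans (hxy.trans (hbker j)))) (fun i => e n i)
        have hed : e (d : N) = e n := funext fun i => by
          rw [he, show π i (d : N) = ρ i d from rfl, hθ, hd _ (Finset.mem_image_of_mem b (Finset.mem_univ i))]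
          exact hn _ _ (hbeq _ _ (hbker i))
        exact Subgroup.mem_subgroupOf.1 (e.injective hed ▸ d.2 : n ∈ D)
    -- block sizes
    obtain ⟨k₀, hk₀⟩ : ∃ k₀, k₀ = Nat.card {i : Fin m // b i = b i₀} := ⟨_, rfl⟩
    have hsize : ∀ i : Fin m, Nat.card {l : Fin m // b l = b i} = k₀ := by
      have hle : ∀ i j : Fin m, Nat.card {l : Fin m // b l = b i} ≤ Nat.card {l : Fin m // b l = b j} := by
        intro i j
        obtain ⟨k, hk, hki⟩ := htrans i j
        choose σ hσ using hperm k
        have hσρ : ∀ l, (ρ (σ l)).ker = (ρ l).ker.comap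
            (((MulAut.conjNormal k : MulAut N).toMonoidHom.comp D.subtype).codRestrict D fun d => hDinv k hk d d.2) := by
          intro l
          ext d
          show π (σ l) (d : N) = 1 ↔ π l (c k (d : N)) = 1
          rw [← MonoidHom.mem_ker, ← hσ l]
          exact Iff.rfl
        have hσi : σ i = j := hkinj ((hσ i).symm.trans hki)
        refine Nat.card_le_card_of_injective (fun l => ⟨σ l.1, hbeq _ _ ?_⟩) fun l l' h => ?_
        · rw [← hσi, hσρ, hσρ, (hbiff _ _).1 l.2]
        · have h' : σ l.1 = σ l'.1 := congrArg Subtype.val h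
          refine Subtype.ext (hkinj (Subgroup.comap_injective (MulAut.conjNormal k : MulAut N).surjective ?_))
          show (π l.1).ker.comap (c k) = (π l'.1).ker.comap (c k)
          rw [hσ, hσ, h']
      exact fun i => (le_antisymm (hle i i₀) (hle i₀ i)).trans hk₀.symm
    refine ⟨T, inferInstance, m, e, hsimple, hTab, hm0, Or.inr ⟨k₀, b, ?_, fun j => ?_, hmemD⟩⟩
    · by_contra hk
      refine hDne (eq_top_iff.2 fun n _ => Subgroup.mem_subgroupOf.2 (hK ▸ (hmemD n).2 fun i j hij => ?_))
      have hle : Nat.card {l : Fin m // b l = b i} ≤ 1 := by rw [hsize]; omega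
      haveI := Finite.card_le_one_iff_subsingleton.1 hle
      rw [show j = i from congrArg Subtype.val (Subsingleton.elim (⟨j, hij.symm⟩ : {l // b l = b i}) ⟨i, rfl⟩)]
    · by_cases hj : ∃ i, b i = j
      · obtain ⟨i, rfl⟩ := hj
        exact Or.inl (hsize i)
      · push Not at hj
        haveI : IsEmpty {i : Fin m // b i = j} := ⟨fun x => hj x.1 x.2⟩
        exact Or.inr Nat.card_of_isEmpty

end Cfsg.Agent.S0723
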