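import Cfsg.Statements.S0724
import Mathlib.Algebra.Polynomial.Eval.Degree
import Mathlib.GroupTheory.GroupAction.Quotient

set_option autoImplicit false
open Cfsg

namespace Cfsg.Agent.S0724

/-- Blichfeldt's Theorem: if a finite set `L` of natural numbers contains the number of fixed points of every non-identity element of a permutation group `G` of degree `n`, then the order of `G` divides `∏ (n - l)` over `l ∈ L`. -/
theorem result {α : Type*} [Fintype α] [DecidableEq α] (G : Subgroup (Equiv.Perm α)) (L : Finset ℕ) (hL : ∀ g ∈ G, g ≠ 1 → Nat.card (MulAction.fixedBy α g) ∈ L) : Nat.card G ∣ ∏ l ∈ L, (Fintype.card α - l) := by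
  classical
  haveI : Fintype G := Fintype.ofFinite G
  have hpow : ∀ j : ℕ, (Nat.card G : ℤ) ∣ ∑ g : G, (Nat.card (MulAction.fixedBy α g) : ℤ) ^ j := by
    intro j
    have hb := MulAction.sum_card_fixedBy_eq_card_orbits_mul_card_group G (Fin j → α)
    have he : ∀ g : G, Fintype.card (MulAction.fixedBy (Fin j → α) g) =
        Nat.card (MulAction.fixedBy α g) ^ j := by
      intro g
      rw [← Nat.card_eq_fintype_card]
      refine (Nat.card_congr (β := Fin j → MulAction.fixedBy α g)
        ⟨fun f i => ⟨f.1 i, congrFun f.2 i⟩, fun f => ⟨fun i => (f i).1, funext fun i => (f i).2⟩,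
          fun f => rfl, fun f => rfl⟩).trans ?_
      simp [Nat.card_pi]
    rw [Finset.sum_congr rfl fun g _ => he g, ← Nat.card_eq_fintype_card (α := G)] at hb
    refine Dvd.intro_left
      (Fintype.card (Quotient (MulAction.orbitRel G (Fin j → α))) : ℤ) (Eq.symm ?_)
    rw [← Nat.cast_mul, ← hb]
    push_cast
    rfl
  by_cases hbig : ∃ l ∈ L, Fintype.card α ≤ l
  · obtain ⟨l, hl, hle⟩ := hbig
    exact (Nat.sub_eq_zero_of_le hle ▸ dvd_zero _ : Nat.card G ∣ Fintype.card α - l).trans
      (Finset.dvd_prod_of_mem _ hl)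
  push Not at hbig
  let P : Polynomial ℤ := ∏ l ∈ L, (Polynomial.X - Polynomial.C (l : ℤ))
  have hP : (Nat.card G : ℤ) ∣ ∑ g : G, P.eval (Nat.card (MulAction.fixedBy α g) : ℤ) := by
    simp only [Polynomial.eval_eq_sum_range]
    rw [Finset.sum_comm]
    refine Finset.dvd_sum fun j _ => ?_
    rw [← Finset.mul_sum]
    exact Dvd.dvd.mul_left (hpow j) _
  rw [Finset.sum_eq_single (1 : G)] at hP
  · have h1 : Nat.card (MulAction.fixedBy α (1 : G)) = Fintype.card α := by
      rw [MulAction.fixedBy_one_eq_univ, Nat.card_congr (Equiv.Set.univ α),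
        Nat.card_eq_fintype_card]
    rw [h1, Polynomial.eval_prod] at hP
    simp only [Polynomial.eval_sub, Polynomial.eval_X, Polynomial.eval_C] at hP
    rw [← Int.natCast_dvd_natCast]
    refine hP.trans (dvd_of_eq ?_)
    rw [Nat.cast_prod]
    exact Finset.prod_congr rfl fun l hl => (Nat.cast_sub (hbig l hl).le).symm
  · intro g _ hg
    rw [Polynomial.eval_prod]
    refine Finset.prod_eq_zero (hL g g.2 fun h => hg (Subtype.ext h)) ?_
    simp only [Polynomial.eval_sub, Polynomial.eval_X, Polynomial.eval_C]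
    exact sub_self _
  · simp

end Cfsg.Agent.S0724
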