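import Cfsg.Statements.S0726
import Cfsg.Agent.Lib.Perm.Basic

set_option autoImplicit false
open Cfsg

namespace Cfsg.Agent.S0726

/-- The left and right regular permutation representations of a group are each other's centralisers in the symmetric group: the centraliser of the left regular image is the right regular image, and a transitive subgroup centralising the left regular image is the whole right regular image. -/
theorem result {G : Type*} [Group G] : Subgroup.centralizer ((MulAction.toPermHom G G).range : Set (Equiv.Perm G)) = (MulAction.toPermHom Gᵐᵒᵖ G).range ∧ ∀ H : Subgroup (Equiv.Perm G), H ≤ Subgroup.centralizer ((MulAction.toPermHom G G).range : Set (Equiv.Perm G)) → MulAction.IsPretransitive H G → H = (MulAction.toPermHom Gᵐᵒᵖ G).range := by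
  classical
  have key : ∀ c ∈ Subgroup.centralizer ((MulAction.toPermHom G G).range : Set (Equiv.Perm G)),
      ∀ x, c x = x * c 1 := fun c hc x => by
    have h := congrArg (fun z : Equiv.Perm G => z 1)
      (Subgroup.mem_centralizer_iff.1 hc (MulAction.toPermHom G G x) ⟨x, rfl⟩)
    simp only [Equiv.Perm.coe_mul, Function.comp_apply, MulAction.toPermHom_apply,
      MulAction.toPerm_apply, smul_eq_mul, mul_one] at h
    exact h.symm
  have hmem : ∀ c : Equiv.Perm G, (∀ x, c x = x * c 1) →
      c ∈ (MulAction.toPermHom Gᵐᵒᵖ G).range := fun c hc =>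
    ⟨MulOpposite.op (c 1), Equiv.ext fun x => by simp [MulOpposite.smul_eq_mul_unop, hc x]⟩
  have heq : Subgroup.centralizer ((MulAction.toPermHom G G).range : Set (Equiv.Perm G)) =
      (MulAction.toPermHom Gᵐᵒᵖ G).range := by
    refine le_antisymm (fun c hc => hmem c (key c hc)) ?_
    rintro _ ⟨h, rfl⟩
    rw [Subgroup.mem_centralizer_iff]
    rintro _ ⟨g, rfl⟩
    ext x
    simp [MulOpposite.smul_eq_mul_unop, mul_assoc]
  refine ⟨heq, fun H hH hHt => le_antisymm (heq ▸ hH) ?_⟩
  rintro c hc
  rw [← heq] at hc
  obtain ⟨h, hh⟩ := MulAction.exists_smul_eq H (1 : G) (c 1)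
  have : (h : Equiv.Perm G) = c := Equiv.ext fun x => by
    rw [key _ (hH h.2) x, key c hc x]
    exact congrArg (x * ·) hh
  exact this ▸ h.2

end Cfsg.Agent.S0726
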