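import Cfsg.Statements.S0728
import Mathlib.GroupTheory.GroupAction.MultipleTransitivity
import Mathlib.GroupTheory.Perm.Cycle.Type

set_option autoImplicit false
open Cfsg

namespace Cfsg.Agent.S0728

variable {α : Type*} [Fintype α] [DecidableEq α] (G : Subgroup (Equiv.Perm α))

omit [Fintype α] in
theorem basic (h3 : MulAction.IsMultiplyPretransitive G α 3)
    (hsharp : ∀ x : Fin 3 ↪ α, MulAction.stabilizer G x = ⊥) :
    (∀ a b c x y z : α, a ≠ b → a ≠ c → b ≠ c → x ≠ y → x ≠ z → y ≠ z →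
      ∃ g : G, g • a = x ∧ g • b = y ∧ g • c = z) ∧
    ∀ a b c : α, a ≠ b → a ≠ c → b ≠ c →
      ∀ g : G, g • a = a → g • b = b → g • c = c → g = 1 := by
  have mke : ∀ a b c : α, a ≠ b → a ≠ c → b ≠ c →
      ∃ e : Fin 3 ↪ α, e 0 = a ∧ e 1 = b ∧ e 2 = c := by
    intro a b c hab hac hbc
    refine ⟨⟨![a, b, c], fun i j h => ?_⟩, rfl, rfl, rfl⟩
    fin_cases i <;> fin_cases j <;> simp_all [eq_comm]
  constructor
  · intro a b c x y z h1 h2 h3' h4 h5 h6
    obtain ⟨e, rfl, rfl, rfl⟩ := mke a b c h1 h2 h3'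
    obtain ⟨f, rfl, rfl, rfl⟩ := mke x y z h4 h5 h6
    haveI := h3
    obtain ⟨g, rfl⟩ := MulAction.exists_smul_eq G e f
    exact ⟨g, rfl, rfl, rfl⟩
  · intro a b c h1 h2 h3' g ga gb gc
    obtain ⟨e, rfl, rfl, rfl⟩ := mke a b c h1 h2 h3'
    have hg : g ∈ MulAction.stabilizer G e := by
      refine MulAction.mem_stabilizer_iff.2 (Function.Embedding.ext fun i => ?_)
      fin_cases i
      · exact ga
      · exact gb
      · exact gc
    rwa [hsharp e, Subgroup.mem_bot] at hg

variable
  (tri : ∀ a b c x y z : α, a ≠ b → a ≠ c → b ≠ c → x ≠ y → x ≠ z → y ≠ z →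
      ∃ g : G, g • a = x ∧ g • b = y ∧ g • c = z)
  (sharp : ∀ a b c : α, a ≠ b → a ≠ c → b ≠ c →
      ∀ g : G, g • a = a → g • b = b → g • c = c → g = 1)
  (heven : Even (Fintype.card α)) (h6 : 6 ≤ Fintype.card α)

include sharp heven in
theorem fixed_pair {g : G} (hg1 : g ≠ 1) (hg2 : g * g = 1) {b : α} (hgb : g • b = b) :
    ∃ x, x ≠ b ∧ g • x = x ∧ ∀ y, g • y = y → y = b ∨ y = x := by
  haveI : Fact (Nat.Prime 2) := ⟨Nat.prime_two⟩
  have hmod := Equiv.Perm.card_compl_support_modEq (p := 2) (n := 1) (σ := (g : Equiv.Perm α))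
    (by rw [pow_one, pow_two]; exact congrArg Subtype.val hg2)
  have hmem : b ∈ (g : Equiv.Perm α).supportᶜ := by
    rw [Finset.mem_compl, Equiv.Perm.notMem_support]
    exact hgb
  have h2 : 2 ∣ (g : Equiv.Perm α).supportᶜ.card :=
    (Nat.modEq_zero_iff_dvd).1 (hmod.trans (Nat.modEq_zero_iff_dvd.2 heven.two_dvd))
  obtain ⟨x, hx, hxb⟩ : ∃ x ∈ (g : Equiv.Perm α).supportᶜ, x ≠ b := by
    by_contra hh
    push Not at hh
    have : (g : Equiv.Perm α).supportᶜ = {b} := Finset.eq_singleton_iff_unique_mem.2 ⟨hmem, hh⟩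
    rw [this, Finset.card_singleton] at h2
    omega
  rw [Finset.mem_compl, Equiv.Perm.notMem_support] at hx
  refine ⟨x, hxb, hx, fun y hy => ?_⟩
  by_contra hh
  rw [not_or] at hh
  exact hg1 (sharp b x y hxb.symm (Ne.symm hh.1) (Ne.symm hh.2) g hgb hx hy)

include tri sharp in
theorem swapper {x y b : α} (hxy : x ≠ y) (hx : x ≠ b) (hy : y ≠ b) :
    ∃ g : G, g ≠ 1 ∧ g * g = 1 ∧ g • b = b ∧ g • x = y := by
  obtain ⟨g, h1, h2, h3⟩ := tri x y b y x b hxy hx hy hxy.symm hy hx
  refine ⟨g, fun e => hxy (by rw [← h1, e, one_smul]), ?_, h3, h1⟩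
  exact sharp x y b hxy hx hy _ (by rw [mul_smul, h1, h2]) (by rw [mul_smul, h2, h1])
    (by rw [mul_smul, h3, h3])

include tri sharp heven h6 in
/-- For every `x ≠ b` there is exactly one involution fixing `b` and `x`. -/
theorem invols (b : α) : ∃ s : α → G,
    (∀ x, x ≠ b → s x ≠ 1 ∧ s x * s x = 1 ∧ s x • b = b ∧ s x • x = x) ∧
    ∀ x, x ≠ b → ∀ g : G, g ≠ 1 ∧ g * g = 1 ∧ g • b = b ∧ g • x = x → g = s x := by
  classical
  haveI : Fintype G := Fintype.ofFinite G
  let I : Finset G := Finset.univ.filter fun g => g ≠ 1 ∧ g * g = 1 ∧ g • b = b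
  let Pr : Finset (α × α) := (Finset.univ.erase b).offDiag
  have hI : ∀ g ∈ I, ∃ x, x ≠ b ∧ g • x = x ∧ ∀ y, g • y = y → y = b ∨ y = x := fun g hg => by
    obtain ⟨h1, h2, h3⟩ := (Finset.mem_filter.1 hg).2
    exact fixed_pair G sharp heven h1 h2 h3
  -- counting ordered pairs
  have hcnt : Pr.card = I.card * (Fintype.card α - 2) := by
    have hmap : ∀ g ∈ I, (Pr.filter fun q => g • q.1 = q.2).card = Fintype.card α - 2 := by
      intro g hg
      obtain ⟨h1, h2, h3⟩ := (Finset.mem_filter.1 hg).2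
      obtain ⟨x, hxb, hgx, hu⟩ := hI g hg
      have himg : Pr.filter (fun q => g • q.1 = q.2) =
          ((Finset.univ.erase b).erase x).image fun y => (y, g • y) := by
        ext q
        simp only [Pr, Finset.mem_filter, Finset.mem_offDiag, Finset.mem_erase, Finset.mem_univ,
          and_true, Finset.mem_image, ne_eq]
        constructor
        · rintro ⟨⟨ha, hb', hne⟩, hq⟩
          exact ⟨q.1, ⟨fun e => hne (by rw [← hq, e, hgx]), ha⟩, Prod.ext rfl hq⟩
        · rintro ⟨y, ⟨hy1, hy2⟩, rfl⟩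
          refine ⟨⟨hy2, fun e => hy2 ?_, fun e => ?_⟩, rfl⟩
          · exact smul_left_cancel g (e.trans h3.symm)
          · rcases hu y e.symm with h | h
            · exact hy2 h
            · exact hy1 h
      rw [himg, Finset.card_image_of_injective _ fun y y' h => congrArg Prod.fst h,
        Finset.card_erase_of_mem (Finset.mem_erase.2 ⟨hxb, Finset.mem_univ _⟩),
        Finset.card_erase_of_mem (Finset.mem_univ _), Finset.card_univ]
      omega
    rw [← smul_eq_mul, ← Finset.sum_const, ← Finset.sum_congr rfl hmap]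
    simp only [Finset.card_filter]
    rw [Finset.sum_comm, Finset.card_eq_sum_ones]
    refine Finset.sum_congr rfl fun q hq => ?_
    simp only [Pr, Finset.mem_offDiag, Finset.mem_erase, Finset.mem_univ, and_true] at hq
    obtain ⟨g, g1, g2, g3, g4⟩ := swapper G tri sharp hq.2.2 hq.1 hq.2.1
    rw [← Finset.card_filter, eq_comm, Finset.card_eq_one]
    refine ⟨g, Finset.eq_singleton_iff_unique_mem.2 ⟨?_, fun u hu => ?_⟩⟩
    · exact Finset.mem_filter.2 ⟨Finset.mem_filter.2 ⟨Finset.mem_univ _, g1, g2, g3⟩, g4⟩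
    · obtain ⟨hu', hq'⟩ := Finset.mem_filter.1 hu
      obtain ⟨u1, u2, u3⟩ := (Finset.mem_filter.1 hu').2
      have e1 : u • q.2 = q.1 := by rw [← hq', ← mul_smul, u2, one_smul]
      have e2 : g • q.2 = q.1 := by rw [← g4, ← mul_smul, g2, one_smul]
      have := sharp q.1 q.2 b hq.2.2 hq.1 hq.2.1 (g⁻¹ * u)
        (by rw [mul_smul, hq', inv_smul_eq_iff, g4]) (by rw [mul_smul, e1, inv_smul_eq_iff, e2])
        (by rw [mul_smul, u3, inv_smul_eq_iff, g3])
      exact (inv_mul_eq_one.1 this).symm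
  have hcard : I.card = (Finset.univ.erase b).card := by
    simp only [Pr, Finset.offDiag_card, Finset.card_erase_of_mem (Finset.mem_univ b),
      Finset.card_univ] at hcnt ⊢
    obtain ⟨k, hk⟩ : ∃ k, Fintype.card α = k + 2 := ⟨Fintype.card α - 2, by omega⟩
    rw [hk] at hcnt ⊢
    simp only [Nat.add_sub_cancel, show k + 2 - 1 = k + 1 from rfl] at hcnt ⊢
    have hk0 : 0 < k := by omega
    refine Nat.eq_of_mul_eq_mul_right hk0 (hcnt.symm.trans ?_)
    rw [Nat.mul_succ, Nat.add_sub_cancel]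
  have hex : ∀ x, x ≠ b → ∃ g : G, g ≠ 1 ∧ g * g = 1 ∧ g • b = b ∧ g • x = x := by
    intro x hx
    have hpos : 0 < I.card := by
      rw [hcard, Finset.card_erase_of_mem (Finset.mem_univ b), Finset.card_univ]; omega
    obtain ⟨g, hg⟩ := Finset.card_pos.1 hpos
    obtain ⟨g1, g2, g3⟩ := (Finset.mem_filter.1 hg).2
    obtain ⟨w, hwb, hgw, -⟩ := hI g hg
    obtain ⟨u, hub, huw⟩ : ∃ u : G, u • b = b ∧ u • w = x := by
      obtain ⟨e, he⟩ : ∃ e, e ∉ ({b, w, x} : Finset α) := by
        by_contra hh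
        push Not at hh
        have : ({b, w, x} : Finset α).card = Fintype.card α := by
          rw [Finset.eq_univ_iff_forall.2 hh, Finset.card_univ]
        have := (Finset.card_le_three (a := b) (b := w) (c := x))
        omega
      simp only [Finset.mem_insert, Finset.mem_singleton, not_or] at he
      obtain ⟨u, h1, h2, -⟩ := tri b w e b x e hwb.symm (Ne.symm he.1) (Ne.symm he.2.1) hx.symm
        (Ne.symm he.1) (Ne.symm he.2.2)
      exact ⟨u, h1, h2⟩
    refine ⟨u * g * u⁻¹, fun e => g1 ?_, ?_, ?_, ?_⟩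
    · calc g = u⁻¹ * (u * g * u⁻¹) * u := by group
        _ = 1 := by rw [e]; group
    · calc u * g * u⁻¹ * (u * g * u⁻¹) = u * (g * g) * u⁻¹ := by group
        _ = 1 := by rw [g2]; group
    · rw [mul_smul, mul_smul, inv_smul_eq_iff.2 hub.symm, g3, hub]
    · rw [mul_smul, mul_smul, inv_smul_eq_iff.2 huw.symm, hgw, huw]
  choose! s hs using hex
  refine ⟨s, hs, fun x hx g hg => ?_⟩
  have hinj : Set.InjOn s ↑(Finset.univ.erase b) := by
    intro u hu w hw h
    simp only [Finset.coe_erase, Finset.coe_univ, Set.mem_sdiff, Set.mem_singleton_iff] at hu hw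
    obtain ⟨e, -, -, heu⟩ := fixed_pair G sharp heven (hs u hu.2).1 (hs u hu.2).2.1 (hs u hu.2).2.2.1
    have h1 := (heu u (hs u hu.2).2.2.2).resolve_left hu.2
    have h2 := (heu w (h ▸ (hs w hw.2).2.2.2)).resolve_left hw.2
    exact h1.trans h2.symm
  have himg : (Finset.univ.erase b).image s = I := by
    refine Finset.eq_of_subset_of_card_le (fun u hu => ?_) ?_
    · obtain ⟨w, hw, rfl⟩ := Finset.mem_image.1 hu
      have hw' := (Finset.mem_erase.1 hw).1
      exact Finset.mem_filter.2 ⟨Finset.mem_univ _, (hs w hw').1, (hs w hw').2.1, (hs w hw').2.2.1⟩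
    · rw [Finset.card_image_of_injOn hinj, hcard]
  have hgI : g ∈ (Finset.univ.erase b).image s :=
    himg ▸ Finset.mem_filter.2 ⟨Finset.mem_univ _, hg.1, hg.2.1, hg.2.2.1⟩
  obtain ⟨w, hw, rfl⟩ := Finset.mem_image.1 hgI
  have hw' := (Finset.mem_erase.1 hw).1
  obtain ⟨e, -, -, he⟩ := fixed_pair G sharp heven hg.1 hg.2.1 hg.2.2.1
  rw [(he w (hs w hw').2.2.2).resolve_left hw', (he x hg.2.2.2).resolve_left hx]

include tri sharp heven h6 in
theorem translation (b a c : α) (hab : a ≠ b) (hca : c ≠ a) (hcb : c ≠ b) (s : α → G)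
    (hs : ∀ x, x ≠ b → s x ≠ 1 ∧ s x * s x = 1 ∧ s x • b = b ∧ s x • x = x)
    (hsu : ∀ x, x ≠ b → ∀ g : G, g ≠ 1 ∧ g * g = 1 ∧ g • b = b ∧ g • x = x → g = s x) :
    ∃ p : G, p • b = b ∧ p • a = c ∧ p • s a • c = a ∧
      ∀ v : G, v • a = a → v • b = b → v ^ 3 = 1 → v ≠ 1 → p • v • c = s a • (v * v) • c := by
  classical
  haveI : Fintype G := Fintype.ofFinite G
  set z := s a
  let Gb : Finset G := Finset.univ.filter fun g => g • b = b
  let P : Finset G := Gb.filter fun g => g = 1 ∨ ∀ x, x ≠ b → g • x ≠ x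
  have hmP : ∀ g, g ∈ P ↔ g • b = b ∧ (g = 1 ∨ ∀ x, x ≠ b → g • x ≠ x) := fun g => by
    simp [P, Gb]
  have hGb : Gb.card = (Finset.univ.erase b).offDiag.card := by
    refine Finset.card_bij (fun g _ => (g • a, g • c)) ?_ ?_ ?_
    · intro g hg
      have hgb := (Finset.mem_filter.1 hg).2
      simp only [Finset.mem_offDiag, Finset.mem_erase, Finset.mem_univ, and_true, ne_eq]
      refine ⟨fun e => hab (smul_left_cancel g (e.trans hgb.symm)),
        fun e => hcb (smul_left_cancel g (e.trans hgb.symm)),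
        fun e => hca (smul_left_cancel g e).symm⟩
    · intro g hg h hh e
      have e1 := congrArg Prod.fst e
      have e2 := congrArg Prod.snd e
      simp only at e1 e2
      have := sharp a c b hca.symm hab hcb (h⁻¹ * g) (by rw [mul_smul, e1, inv_smul_smul])
        (by rw [mul_smul, e2, inv_smul_smul])
        (by rw [mul_smul, (Finset.mem_filter.1 hg).2, inv_smul_eq_iff, (Finset.mem_filter.1 hh).2])
      exact (inv_mul_eq_one.1 this).symm
    · intro q hq
      simp only [Finset.mem_offDiag, Finset.mem_erase, Finset.mem_univ, and_true] at hq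
      obtain ⟨g, h1, h2, h3⟩ := tri a c b q.1 q.2 b hca.symm hab hcb hq.2.2 hq.1 hq.2.1
      exact ⟨g, Finset.mem_filter.2 ⟨Finset.mem_univ _, h3⟩, Prod.ext h1 h2⟩
  let F : α → Finset G := fun x => Gb.filter fun g => g ≠ 1 ∧ g • x = x
  have hF : ∀ x ∈ Finset.univ.erase b, (F x).card = Fintype.card α - 3 := by
    intro x hx
    have hxb := (Finset.mem_erase.1 hx).1
    obtain ⟨y, hyx, hyb⟩ : ∃ y, y ≠ x ∧ y ≠ b := by
      rcases eq_or_ne x a with rfl | h
      · exact ⟨c, hca, hcb⟩
      · exact ⟨a, h.symm, hab⟩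
    have : (F x).card = (((Finset.univ.erase b).erase x).erase y).card := by
      refine Finset.card_bij (fun g _ => g • y) ?_ ?_ ?_
      · intro g hg
        obtain ⟨hgb, hg1, hgx⟩ := Finset.mem_filter.1 hg
        have hgb := (Finset.mem_filter.1 hgb).2
        simp only [Finset.mem_erase, Finset.mem_univ, and_true, ne_eq]
        exact ⟨fun e => hg1 (sharp x y b hyx.symm hxb hyb g hgx e hgb),
          fun e => hyx (smul_left_cancel g (e.trans hgx.symm)),
          fun e => hyb (smul_left_cancel g (e.trans hgb.symm))⟩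
      · intro g hg h hh e
        obtain ⟨hgb, -, hgx⟩ := Finset.mem_filter.1 hg
        obtain ⟨hhb, -, hhx⟩ := Finset.mem_filter.1 hh
        have := sharp x y b hyx.symm hxb hyb (h⁻¹ * g)
          (by rw [mul_smul, hgx, inv_smul_eq_iff, hhx]) (by rw [mul_smul, e, inv_smul_smul])
          (by rw [mul_smul, (Finset.mem_filter.1 hgb).2, inv_smul_eq_iff,
            (Finset.mem_filter.1 hhb).2])
        exact (inv_mul_eq_one.1 this).symm
      · intro w hw
        simp only [Finset.mem_erase, Finset.mem_univ, and_true] at hw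
        obtain ⟨g, h1, h2, h3⟩ := tri x y b x w b hyx.symm hxb hyb hw.2.1.symm hxb hw.2.2
        refine ⟨g, Finset.mem_filter.2 ⟨Finset.mem_filter.2 ⟨Finset.mem_univ _, h3⟩, ?_, h1⟩, h2⟩
        intro e
        rw [e, one_smul] at h2
        exact hw.1 h2.symm
    rw [this, Finset.card_erase_of_mem (Finset.mem_erase.2 ⟨hyx, Finset.mem_erase.2 ⟨hyb, Finset.mem_univ _⟩⟩),
      Finset.card_erase_of_mem hx, Finset.card_erase_of_mem (Finset.mem_univ _), Finset.card_univ]
    omega
  have hdisj : (↑(Finset.univ.erase b) : Set α).PairwiseDisjoint F := by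
    intro x hx y hy hxy
    rw [Function.onFun, Finset.disjoint_left]
    intro g hgx hgy
    obtain ⟨hgb, hg1, hgx⟩ := Finset.mem_filter.1 hgx
    obtain ⟨-, -, hgy⟩ := Finset.mem_filter.1 hgy
    exact hg1 (sharp x y b hxy (Finset.mem_erase.1 (Finset.mem_coe.1 hx)).1
      (Finset.mem_erase.1 (Finset.mem_coe.1 hy)).1 g hgx hgy (Finset.mem_filter.1 hgb).2)
  have hPcard : P.card = (Finset.univ.erase b).card := by
    have h1 : Gb.filter (fun g => ¬ (g = 1 ∨ ∀ x, x ≠ b → g • x ≠ x)) =
        (Finset.univ.erase b).biUnion F := by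
      ext g
      simp only [F, Finset.mem_filter, Finset.mem_biUnion, Finset.mem_erase, Finset.mem_univ,
        and_true, not_or, not_forall, exists_prop, not_not, ne_eq]
      exact ⟨fun ⟨h1, h2, x, h3, h4⟩ => ⟨x, h3, h1, h2, h4⟩, fun ⟨x, h3, h1, h2, h4⟩ => ⟨h1, h2, x, h3, h4⟩⟩
    have h2 := Finset.card_filter_add_card_filter_not (s := Gb)
      (fun g : G => g = 1 ∨ ∀ x, x ≠ b → g • x ≠ x)
    rw [h1, Finset.card_biUnion hdisj, Finset.sum_congr rfl hF, Finset.sum_const, smul_eq_mul,
      hGb, Finset.offDiag_card, Finset.card_erase_of_mem (Finset.mem_univ b),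
      Finset.card_univ] at h2
    rw [Finset.card_erase_of_mem (Finset.mem_univ b), Finset.card_univ]
    obtain ⟨k, hk⟩ : ∃ k, Fintype.card α = k + 3 := ⟨Fintype.card α - 3, by omega⟩
    rw [hk] at h2 ⊢
    simp only [Nat.add_sub_cancel, show k + 3 - 1 = k + 2 from rfl] at h2 ⊢
    have h4 : (k + 2) * (k + 2) = (k + 2) * k + (k + 2) + (k + 2) := by ring
    change P.card + _ = _ at h2
    omega
  have hsP : ∀ x y, x ≠ b → y ≠ b → s x * s y ∈ P := by
    intro x y hx hy
    refine (hmP _).2 ⟨by rw [mul_smul, (hs y hy).2.2.1, (hs x hx).2.2.1], ?_⟩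
    by_cases hxy : x = y
    · exact Or.inl (by rw [hxy, (hs y hy).2.1])
    refine Or.inr fun w hw e => ?_
    rw [mul_smul] at e
    have e' : s y • w = s x • w := by
      conv_rhs => rw [← e, ← mul_smul, (hs x hx).2.1, one_smul]
    by_cases hfw : s y • w = w
    · obtain ⟨q, -, -, hq⟩ := fixed_pair G sharp heven (hs y hy).1 (hs y hy).2.1 (hs y hy).2.2.1
      obtain ⟨q', -, -, hq'⟩ := fixed_pair G sharp heven (hs x hx).1 (hs x hx).2.1 (hs x hx).2.2.1
      refine hxy ?_
      rw [(hq' x (hs x hx).2.2.2).resolve_left hx, ← (hq' w (e'.symm.trans hfw)).resolve_left hw,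
        (hq w hfw).resolve_left hw, (hq y (hs y hy).2.2.2).resolve_left hy]
    · have hwb : s y • w ≠ b := fun h => hw (smul_left_cancel (s y) (h.trans (hs y hy).2.2.1.symm))
      have h1 := sharp w (s y • w) b (Ne.symm hfw) hw hwb (s x * s y)
        (by rw [mul_smul, e]) (by rw [mul_smul, ← mul_smul (s y) (s y), (hs y hy).2.1, one_smul, ← e'])
        (by rw [mul_smul, (hs y hy).2.2.1, (hs x hx).2.2.1])
      obtain ⟨q, -, -, hq⟩ := fixed_pair G sharp heven (hs y hy).1 (hs y hy).2.1 (hs y hy).2.2.1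
      have hsxy : s x = s y := by
        calc s x = s x * (s y * s y) := by rw [(hs y hy).2.1, mul_one]
          _ = (s x * s y) * s y := (mul_assoc _ _ _).symm
          _ = s y := by rw [h1, one_mul]
      have := (hs x hx).2.2.2
      rw [hsxy] at this
      exact hxy (((hq x this).resolve_left hx).trans ((hq y (hs y hy).2.2.2).resolve_left hy).symm)
  have hPform : ∀ g ∈ P, ∃ x, x ≠ b ∧ g = s x * z := by
    have himg : (Finset.univ.erase b).image (fun x => s x * z) = P := by
      refine Finset.eq_of_subset_of_card_le (fun g hg => ?_) ?_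
      · obtain ⟨x, hx, rfl⟩ := Finset.mem_image.1 hg
        exact hsP x a (Finset.mem_erase.1 hx).1 hab
      · rw [hPcard, Finset.card_image_of_injOn]
        intro x hx y hy e
        have hx := (Finset.mem_erase.1 (Finset.mem_coe.1 hx)).1
        have hy := (Finset.mem_erase.1 (Finset.mem_coe.1 hy)).1
        obtain ⟨q, -, -, hq⟩ := fixed_pair G sharp heven (hs x hx).1 (hs x hx).2.1 (hs x hx).2.2.1
        have h2 : s x = s y := mul_right_cancel e
        rw [(hq x (hs x hx).2.2.2).resolve_left hx,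
          (hq y (h2 ▸ (hs y hy).2.2.2)).resolve_left hy]
    intro g hg
    rw [← himg] at hg
    obtain ⟨x, hx, rfl⟩ := Finset.mem_image.1 hg
    exact ⟨x, (Finset.mem_erase.1 hx).1, rfl⟩
  obtain ⟨hz1, hz2, hzb, hza⟩ := hs a hab
  have hzinv : ∀ g ∈ P, z * g * z = g⁻¹ := by
    intro g hg
    obtain ⟨x, hx, rfl⟩ := hPform g hg
    rw [mul_inv_rev, inv_eq_of_mul_eq_one_right (hs x hx).2.1, inv_eq_of_mul_eq_one_right hz2]
    calc z * (s x * z) * z = z * s x * (z * z) := by group
      _ = z * s x := by rw [hz2, mul_one]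
  have hinvP : ∀ g ∈ P, g⁻¹ ∈ P := by
    intro g hg
    obtain ⟨x, hx, rfl⟩ := hPform g hg
    rw [mul_inv_rev, inv_eq_of_mul_eq_one_right (hs x hx).2.1, inv_eq_of_mul_eq_one_right hz2]
    exact hsP a x hab hx
  have hmul : ∀ g ∈ P, ∀ h ∈ P, g * h ∈ P := by
    intro g hg h hh
    obtain ⟨x, hx, rfl⟩ := hPform g hg
    obtain ⟨w, hw, hwe⟩ := hPform _ (hinvP h hh)
    rw [inv_eq_iff_eq_inv] at hwe
    rw [hwe, mul_inv_rev, inv_eq_of_mul_eq_one_right (hs w hw).2.1,
      inv_eq_of_mul_eq_one_right hz2]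
    have : s x * z * (z * s w) = s x * s w := by
      calc s x * z * (z * s w) = s x * (z * z) * s w := by group
        _ = s x * s w := by rw [hz2, mul_one]
    rw [this]
    exact hsP x w hx hw
  have hcomm : ∀ g ∈ P, ∀ h ∈ P, g * h = h * g := by
    intro g hg h hh
    have e1 := hzinv _ (hmul h hh g hg)
    rw [mul_inv_rev, ← hzinv g hg, ← hzinv h hh] at e1
    have e2 : z * g * z * (z * h * z) = z * (g * h) * z := by
      calc z * g * z * (z * h * z) = z * g * (z * z) * h * z := by group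
        _ = z * (g * h) * z := by rw [hz2, mul_one]; group
    rw [e2] at e1
    exact (mul_left_cancel (mul_right_cancel e1)).symm
  have hsemi : ∀ g ∈ P, g • a = a → g = 1 := fun g hg ha =>
    ((hmP g).1 hg).2.resolve_right fun h => h a hab ha
  obtain ⟨p, hpP, hpa⟩ : ∃ p ∈ P, p • a = c := by
    have himg : P.image (fun g => g • a) = Finset.univ.erase b := by
      refine Finset.eq_of_subset_of_card_le (fun x hx => ?_) ?_
      · obtain ⟨g, hg, rfl⟩ := Finset.mem_image.1 hx
        exact Finset.mem_erase.2 ⟨fun e => hab (smul_left_cancel g (e.trans ((hmP g).1 hg).1.symm)),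
          Finset.mem_univ _⟩
      · rw [Finset.card_image_of_injOn, hPcard]
        intro g hg h hh e
        exact (inv_mul_eq_one.1 (hsemi (h⁻¹ * g) (hmul _ (hinvP h hh) _ hg)
          (by rw [mul_smul, show g • a = h • a from e, inv_smul_smul]))).symm
    have hc : c ∈ P.image (fun g => g • a) := himg ▸ Finset.mem_erase.2 ⟨hcb, Finset.mem_univ _⟩
    obtain ⟨p, hp, rfl⟩ := Finset.mem_image.1 hc
    exact ⟨p, hp, rfl⟩
  have hpb := ((hmP p).1 hpP).1
  refine ⟨p, hpb, hpa, ?_, ?_⟩
  · have e : p * z = z * p⁻¹ := by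
      rw [← hzinv p hpP]
      calc p * z = z * z * p * z := by rw [hz2, one_mul]
        _ = z * (z * p * z) := by group
    rw [← mul_smul, e, mul_smul, inv_smul_eq_iff.2 hpa.symm, hza]
  · intro v hva hvb hv3 hv1
    have hvi : v⁻¹ • a = a ∧ v⁻¹ • b = b := ⟨inv_smul_eq_iff.2 hva.symm, inv_smul_eq_iff.2 hvb.symm⟩
    have hconj : ∀ g ∈ P, v * g * v⁻¹ ∈ P := by
      intro g hg
      obtain ⟨hgb, hg'⟩ := (hmP g).1 hg
      refine (hmP _).2 ⟨by rw [mul_smul, mul_smul, hvi.2, hgb, hvb], ?_⟩
      rcases hg' with rfl | hg'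
      · exact Or.inl (by group)
      · refine Or.inr fun x hx e => ?_
        rw [mul_smul, mul_smul] at e
        exact hg' (v⁻¹ • x) (fun h => hx (by rw [← smul_inv_smul v x, h, hvb]))
          (by rw [← inv_smul_smul v (g • v⁻¹ • x), e])
    have hq1 := hconj p hpP
    have hq2 := hconj _ hq1
    have h33 : v * v * v = 1 := by rw [← hv3, pow_succ, pow_two]
    have hfix : v * (p * (v * p * v⁻¹) * (v * (v * p * v⁻¹) * v⁻¹)) * v⁻¹ =
        p * (v * p * v⁻¹) * (v * (v * p * v⁻¹) * v⁻¹) := by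
      calc _ = (v * p * v⁻¹) * (v * (v * p * v⁻¹) * v⁻¹) * ((v * v * v) * p * (v * v * v)⁻¹) := by
            group
        _ = (v * p * v⁻¹) * (v * (v * p * v⁻¹) * v⁻¹) * p := by rw [h33, inv_one, one_mul, mul_one]
        _ = p * ((v * p * v⁻¹) * (v * (v * p * v⁻¹) * v⁻¹)) :=
            hcomm _ (hmul _ hq1 _ hq2) _ hpP
        _ = _ := (mul_assoc _ _ _).symm
    have hqP := hmul _ (hmul _ hpP _ hq1) _ hq2
    have hq : p * (v * p * v⁻¹) * (v * (v * p * v⁻¹) * v⁻¹) = 1 := by
      refine hsemi _ hqP ?_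
      generalize hq' : p * (v * p * v⁻¹) * (v * (v * p * v⁻¹) * v⁻¹) = q at hfix hqP ⊢
      by_contra hne
      have hv : v • q • a = q • a := by
        conv_rhs => rw [← hfix, mul_smul, mul_smul, hvi.1]
      have hqb : q • a ≠ b := fun e => hab (smul_left_cancel q (e.trans ((hmP q).1 hqP).1.symm))
      exact hv1 (sharp a b (q • a) hab (Ne.symm hne) hqb.symm v hva hvb hv)
    have hr : p * (v * p * v⁻¹) = z * (v * (v * p * v⁻¹) * v⁻¹) * z := by
      rw [hzinv _ hq2]
      exact eq_inv_of_mul_eq_one_left hq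
    have h1 := congrArg (· • a) hr
    have hza' : z • a = a := hza
    simp only [mul_smul, hvi.1, hza', hpa] at h1
    rw [h1, mul_smul]

/-- In a sharply triply transitive group of even degree at least 6 (degree `q + 1`, `q` odd), a two-point stabiliser has at most one subgroup of order 3. -/
theorem result {α : Type*} [Fintype α] [DecidableEq α] (heven : Even (Fintype.card α)) (h6 : 6 ≤ Fintype.card α) (G : Subgroup (Equiv.Perm α)) (h3 : MulAction.IsMultiplyPretransitive G α 3) (hsharp : ∀ x : Fin 3 ↪ α, MulAction.stabilizer G x = ⊥) {a b : α} (hab : a ≠ b) (A B : Subgroup G) (hA : A ≤ MulAction.stabilizer G a ⊓ MulAction.stabilizer G b) (hB : B ≤ MulAction.stabilizer G a ⊓ MulAction.stabilizer G b) (hA3 : Nat.card A = 3) (hB3 : Nat.card B = 3) : A = B := by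
  classical
  obtain ⟨c, hca, hcb⟩ : ∃ c : α, c ≠ a ∧ c ≠ b := by
    have : 0 < ((Finset.univ.erase a).erase b).card := by
      rw [Finset.card_erase_of_mem (Finset.mem_erase.2 ⟨hab.symm, Finset.mem_univ b⟩),
        Finset.card_erase_of_mem (Finset.mem_univ a), Finset.card_univ]
      omega
    obtain ⟨c, hc⟩ := Finset.card_pos.1 this
    simp only [Finset.mem_erase, Finset.mem_univ, and_true] at hc
    exact ⟨c, hc.2, hc.1⟩
  obtain ⟨tri, sharp⟩ := basic G h3 hsharp
  obtain ⟨s, hs, hsu⟩ := invols G tri sharp heven h6 b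
  obtain ⟨p, hpb, hpa, hpz, hp3⟩ := translation G tri sharp heven h6 b a c hab hca hcb s hs hsu
  obtain ⟨t, hta, htb, htc⟩ := tri a b c b a c hab hca.symm hcb.symm hab.symm hcb.symm hca.symm
  have htt : t * t = 1 := sharp a b c hab hca.symm hcb.symm _
    (by rw [mul_smul, hta, htb]) (by rw [mul_smul, htb, hta]) (by rw [mul_smul, htc, htc])
  have ht2 : ∀ x : α, t • t • x = x := fun x => by rw [← mul_smul, htt, one_smul]
  set z := s a with hz
  obtain ⟨hz1, hz2, hzb, hza⟩ := hs a hab
  have htz : ∀ x : α, t • z • x = z • t • x := by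
    have h : t * z * t = z := hsu a hab (t * z * t)
      ⟨fun e => hz1 (by
          calc z = t * t * z * (t * t) := by rw [htt, one_mul, mul_one]
            _ = t * (t * z * t) * t := by group
            _ = 1 := by rw [e, mul_one, htt]),
        by
          calc (t * z * t) * (t * z * t) = t * z * (t * t) * z * t := by group
            _ = t * (z * z) * t := by rw [htt, mul_one]; group
            _ = 1 := by rw [hz2, mul_one, htt],
        by rw [mul_smul, mul_smul, htb, hza, hta],
        by rw [mul_smul, mul_smul, hta, hzb, htb]⟩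
    intro x
    conv_rhs => rw [← h]
    rw [mul_smul, mul_smul, ht2]
  have hf3 : ∀ x : α, (t * p * z) • (t * p * z) • (t * p * z) • x = x := by
    have e1 : (t * p * z) • b = a := by rw [mul_smul, mul_smul, hzb, hpb, htb]
    have e2 : (t * p * z) • a = c := by rw [mul_smul, mul_smul, hza, hpa, htc]
    have e3 : (t * p * z) • c = b := by rw [mul_smul, mul_smul, hpz, hta]
    have h := sharp a b c hab hca.symm hcb.symm ((t * p * z) * (t * p * z) * (t * p * z))
      (by rw [mul_smul, mul_smul, e2, e3, e1]) (by rw [mul_smul, mul_smul, e1, e2, e3])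
      (by rw [mul_smul, mul_smul, e3, e1, e2])
    intro x
    have := congrArg (· • x) h
    simp only [mul_smul, one_smul] at this ⊢
    exact this
  have hfix : ∀ v : G, v • a = a → v • b = b → v ^ 3 = 1 → v ≠ 1 →
      (t * p * z) • z • v • c = z • v • c := by
    intro v hva hvb hv3 hv1
    have hzz : ∀ x : α, z • z • x = x := fun x => by rw [← mul_smul, hz2, one_smul]
    have w3 : (t * v * t) * (t * v * t) * (t * v * t) = 1 := by
      calc _ = t * v * (t * t) * v * (t * t) * v * t := by group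
        _ = t * v ^ 3 * t := by
          rw [htt, mul_one, mul_one, show v ^ 3 = v * v * v by rw [pow_succ, pow_two]]; group
        _ = 1 := by rw [hv3, mul_one, htt]
    have h1 : (t * p * z) • z • v • c = z • (t * v * t) • (t * v * t) • c := by
      rw [mul_smul (t * p), hzz, mul_smul t p, hp3 v hva hvb hv3 hv1, htz]
      congr 1
      simp only [mul_smul, htc, ht2]
    have h2 : (t * p * z) • z • (t * v * t) • (t * v * t) • c = z • v • c := by
      rw [mul_smul (t * p), hzz, mul_smul t p, ← mul_smul (t * v * t),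
        hp3 ((t * v * t) * (t * v * t)) ?_ ?_ ?_ ?_, htz]
      · congr 1
        have : (t * v * t) * (t * v * t) * ((t * v * t) * (t * v * t)) = t * v * t := by
          rw [← mul_assoc, w3, one_mul]
        rw [← mul_smul _ _ c, this]
        simp only [mul_smul, htc, ht2]
      · simp only [mul_smul, hta, hvb, htb]
      · simp only [mul_smul, htb, hva, hta]
      · calc _ = ((t * v * t) * (t * v * t) * (t * v * t)) * ((t * v * t) * (t * v * t) * (t * v * t)) := by
              rw [pow_succ, pow_succ, pow_one]; group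
          _ = 1 := by rw [w3, one_mul]
      · intro e
        rw [e, one_mul] at w3
        apply hv1
        calc v = t * t * v * (t * t) := by rw [htt, one_mul, mul_one]
          _ = t * (t * v * t) * t := by group
          _ = 1 := by rw [w3, mul_one, htt]
    have h3' := hf3 (z • v • c)
    rw [h1, h2] at h3'
    exact h3'
  by_contra hne
  obtain ⟨u, huB, huA⟩ : ∃ u ∈ B, u ∉ A := by
    by_contra hh
    push Not at hh
    exact hne (Subgroup.eq_of_le_of_card_ge hh (by rw [hA3, hB3])).symm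
  obtain ⟨v, hvA, hv1⟩ := (Subgroup.bot_or_exists_ne_one A).resolve_left fun h => by
    rw [h, Subgroup.card_bot] at hA3; omega
  have hord : ∀ (K : Subgroup G), Nat.card K = 3 → ∀ x ∈ K, x ^ 3 = 1 := fun K hK x hx => by
    have h : (⟨x, hx⟩ : K) ^ Nat.card K = 1 := pow_card_eq_one'
    rw [hK] at h
    exact congrArg Subtype.val h
  have hv3 := hord A hA3 v hvA
  have hu3 := hord B hB3 u huB
  have hu1 : u ≠ 1 := fun e => huA (e ▸ one_mem A)
  have hvv1 : v * v ≠ 1 := fun e => hv1 (by
    rw [pow_succ, pow_two, e, one_mul] at hv3; exact hv3)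
  have hinj : ∀ x y : G, x • a = a → x • b = b → y • a = a → y • b = b →
      x • c = y • c → x = y := by
    intro x y xa xb ya yb h
    have := sharp a b c hab hca.symm hcb.symm (y⁻¹ * x) (by rw [mul_smul, xa, inv_smul_eq_iff, ya])
      (by rw [mul_smul, xb, inv_smul_eq_iff, yb]) (by rw [mul_smul, h, inv_smul_smul])
    exact (inv_mul_eq_one.1 this).symm
  obtain ⟨hva, hvb⟩ := hA hvA
  obtain ⟨hua, hub⟩ := hB huB
  have hvva : (v * v) • a = a := by rw [mul_smul, show v • a = a from hva, show v • a = a from hva]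
  have hvvb : (v * v) • b = b := by rw [mul_smul, show v • b = b from hvb, show v • b = b from hvb]
  have f1 := hfix v hva hvb hv3 hv1
  have f2 := hfix (v * v) hvva hvvb (by
    rw [← pow_two, ← pow_mul, mul_comm, pow_mul, hv3, one_pow]) hvv1
  have f3 := hfix u hua hub hu3 hu1
  have d1 : z • v • c ≠ z • (v * v) • c := fun h => hv1 (by
    have := hinj v (v * v) hva hvb hvva hvvb (smul_left_cancel z h)
    exact (mul_left_cancel (a := v) (by rw [mul_one]; exact this)).symm)
  have d2 : z • v • c ≠ z • u • c := fun h => huA (by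
    rw [← hinj v u hva hvb hua hub (smul_left_cancel z h)]; exact hvA)
  have d3 : z • (v * v) • c ≠ z • u • c := fun h => huA (by
    rw [← hinj (v * v) u hvva hvvb hua hub (smul_left_cancel z h)]; exact mul_mem hvA hvA)
  have hone := sharp _ _ _ d1 d2 d3 (t * p * z) f1 f2 f3
  have : (t * p * z) • a = c := by rw [mul_smul, mul_smul, hza, hpa, htc]
  rw [hone, one_smul] at this
  exact hca this.symm

end Cfsg.Agent.S0728
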