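import Cfsg.Statements.S0729
import Mathlib
import Cfsg.Agent.Lib.Lie.SharpBasic
import Cfsg.Agent.Lib.Lie.SharpStructure
-- import your own Cfsg.Agent.* helpers here

set_option autoImplicit false
open Cfsg

namespace Cfsg.Agent.S0729

/-- In a sharply triply transitive group of even degree at least 6, the two-point stabiliser `H = G_{a,b}` has a normal subgroup of index 2 that is normalised by the element `s` interchanging `a, b` and fixing a third point `c`. -/
theorem result {α : Type*} [Fintype α] [DecidableEq α] (heven : Even (Fintype.card α)) (h6 : 6 ≤ Fintype.card α) (G : Subgroup (Equiv.Perm α)) (h3 : MulAction.IsMultiplyPretransitive G α 3) (hsharp : ∀ x : Fin 3 ↪ α, MulAction.stabilizer G x = ⊥) {a b c : α} (hab : a ≠ b) (hac : a ≠ c) (hbc : b ≠ c) (s : G) (hsa : s • a = b) (hsb : s • b = a) (hsc : s • c = c) : ∃ N : Subgroup G, N ≤ MulAction.stabilizer G a ⊓ MulAction.stabilizer G b ∧ (N.subgroupOf (MulAction.stabilizer G a ⊓ MulAction.stabilizer G b)).Normal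 ∧ N.relIndex (MulAction.stabilizer G a ⊓ MulAction.stabilizer G b) = 2 ∧ ∀ n ∈ N, s * n * s⁻¹ ∈ N := by
  classical
  have ht := Cfsg.Agent.Lie.SharpBasic.three_point hsharp
  have h2 := Cfsg.Agent.Lie.SharpBasic.two_trans h3 (by omega : 3 ≤ Fintype.card α)
  have hcard := Cfsg.Agent.Lie.SharpBasic.card_two h3 ht hab (by omega)
  refine Cfsg.Agent.Lie.SharpCoords.with_coords h2 ht hab hcard (by omega) ?_
  intro p f _ V _ _ _ _ ρ π t e τ T z C
  have hp2 : p ≠ 2 := by
    rintro rfl
    have h1 := C.card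
    rw [C.pf] at h1
    obtain ⟨m, hm⟩ := heven
    rcases f with _ | f
    · simp at h1; omega
    · rw [pow_succ] at h1; omega
  obtain ⟨N₀, -, hN₀⟩ := Cfsg.Agent.Lie.SharpStructure.exists_index_two C hp2
  have hss : s * s = 1 := ht _ a b c hab hbc hac (by rw [mul_smul, hsa, hsb]) (by rw [mul_smul, hsb, hsa])
    (by rw [mul_smul, hsc, hsc])
  have hmem : ∀ g : ↥(MulAction.stabilizer G a ⊓ MulAction.stabilizer G b),
      s * (g : G) * s⁻¹ ∈ MulAction.stabilizer G a ⊓ MulAction.stabilizer G b := fun g => by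
    refine ⟨?_, ?_⟩
    · show (s * (g : G) * s⁻¹) • a = a
      rw [inv_eq_of_mul_eq_one_right hss, mul_smul, mul_smul, hsa, g.2.2, hsb]
    · show (s * (g : G) * s⁻¹) • b = b
      rw [inv_eq_of_mul_eq_one_right hss, mul_smul, mul_smul, hsb, g.2.1, hsa]
  let φ : ↥(MulAction.stabilizer G a ⊓ MulAction.stabilizer G b) →* ↥(MulAction.stabilizer G a ⊓ MulAction.stabilizer G b) :=
    MonoidHom.mk' (fun g => ⟨_, hmem g⟩) fun g g' => Subtype.ext (by
      show s * ((g : G) * g') * s⁻¹ = s * g * s⁻¹ * (s * g' * s⁻¹)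
      group)
  obtain ⟨M, hMn, hM2, hMφ⟩ := Cfsg.Agent.Lie.SharpBasic.exists_invariant φ (fun g => Subtype.ext (by
    show s * (s * (g : G) * s⁻¹) * s⁻¹ = g
    rw [show s * (s * (g : G) * s⁻¹) * s⁻¹ = (s * s) * g * (s * s)⁻¹ by group, hss]
    simp)) N₀ hN₀
  have hback : (M.map (MulAction.stabilizer G a ⊓ MulAction.stabilizer G b).subtype).subgroupOf
      (MulAction.stabilizer G a ⊓ MulAction.stabilizer G b) = M :=
    Subgroup.comap_map_eq_self_of_injective (Subgroup.subtype_injective _) M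
  refine ⟨M.map (MulAction.stabilizer G a ⊓ MulAction.stabilizer G b).subtype, Subgroup.map_subtype_le M,
    by rw [hback]; exact hMn, by rw [Subgroup.relIndex, hback]; exact hM2, ?_⟩
  rintro n ⟨g, hg, rfl⟩
  exact ⟨φ g, hMφ g hg, rfl⟩

end Cfsg.Agent.S0729
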