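import Cfsg.Statements.S0733
import Mathlib.GroupTheory.GroupAction.Primitive
import Mathlib.Data.ZMod.Basic
import Mathlib.Algebra.Module.ZMod

set_option autoImplicit false
open Cfsg

namespace Cfsg.Agent.S0733

/-- A permutation group of affine type — generated by the translations of a finite vector space `V` over `ZMod p` together with a group `G₀` of linear automorphisms — is primitive on `V` if and only if `G₀` is irreducible on `V`. -/
theorem result {p : ℕ} [Fact p.Prime] {V : Type*} [AddCommGroup V] [Module (ZMod p) V] [Finite V] [Nontrivial V] (G₀ : Subgroup (V ≃ₗ[ZMod p] V)) (G : Subgroup (Equiv.Perm V)) (hG : ∀ σ : Equiv.Perm V, σ ∈ G ↔ ∃ g ∈ G₀, ∃ b : V, ∀ x : V, σ x = (g : V ≃ₗ[ZMod p] V) x + b) : MulAction.IsPreprimitive G V ↔ ∀ W : Submodule (ZMod p) V, (∀ g ∈ G₀, ∀ v ∈ W, (g : V ≃ₗ[ZMod p] V) v ∈ W) → W = ⊥ ∨ W = ⊤ := by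
  classical
  have htr : ∀ b : V, Equiv.addRight b ∈ G := fun b =>
    (hG _).2 ⟨1, one_mem _, b, fun x => rfl⟩
  haveI : MulAction.IsPretransitive G V :=
    ⟨fun x y => ⟨⟨_, htr (y - x)⟩, add_sub_cancel x y⟩⟩
  constructor
  · intro hp W hW
    have hB : MulAction.IsBlock G (W : Set V) := by
      refine MulAction.isBlock_iff_smul_eq_of_mem.2 fun σ a ha hσa => ?_
      obtain ⟨g, hg, b, hσ⟩ := (hG _).1 σ.2
      have hb : b ∈ W := by
        have h1 : σ • a = (g : V ≃ₗ[ZMod p] V) a + b := hσ a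
        rw [h1] at hσa
        exact (W.add_mem_iff_right (hW g hg a ha)).1 hσa
      ext x
      constructor
      · rintro ⟨y, hy, rfl⟩
        show σ • y ∈ W
        rw [show σ • y = (g : V ≃ₗ[ZMod p] V) y + b from hσ y]
        exact W.add_mem (hW g hg y hy) hb
      · intro hx
        refine ⟨(g : V ≃ₗ[ZMod p] V).symm (x - b), hW g⁻¹ (inv_mem hg) _ (W.sub_mem hx hb), ?_⟩
        show σ • _ = x
        rw [show ∀ y, σ • y = (g : V ≃ₗ[ZMod p] V) y + b from hσ]
        simp
    rcases hp.isTrivialBlock_of_isBlock hB with h | h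
    · left
      rw [Submodule.eq_bot_iff]
      exact fun x hx => h hx W.zero_mem
    · right
      exact SetLike.coe_injective (h.trans Submodule.top_coe.symm)
  · intro hirr
    refine MulAction.IsPreprimitive.of_isTrivialBlock_base (0 : V) fun {B} h0 hB => ?_
    have hadd : ∀ b ∈ B, ∀ x, x + b ∈ B ↔ x ∈ B := by
      intro b hb x
      have h1 := MulAction.isBlock_iff_smul_eq_of_mem.1 hB (g := (⟨_, htr b⟩ : G)) h0
        (by show (0 : V) + b ∈ B; rwa [zero_add])
      conv_lhs => rw [← h1]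
      exact Set.smul_mem_smul_set_iff (a := (⟨_, htr b⟩ : G)) (x := x)
    let S : AddSubgroup V :=
      { carrier := B
        zero_mem' := h0
        add_mem' := fun {x y} hx hy => (hadd y hy x).2 hx
        neg_mem' := fun {x} hx => (hadd x hx (-x)).1 (by rwa [neg_add_cancel]) }
    let W : Submodule (ZMod p) V := AddSubgroup.toZModSubmodule p S
    have hW : ∀ x, x ∈ W ↔ x ∈ B := fun x => Iff.rfl
    have hinv : ∀ g ∈ G₀, ∀ v ∈ W, (g : V ≃ₗ[ZMod p] V) v ∈ W := by
      intro g hg v hv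
      have hmem : (g : V ≃ₗ[ZMod p] V).toEquiv ∈ G := (hG _).2 ⟨g, hg, 0, fun x => by simp⟩
      have h1 := MulAction.isBlock_iff_smul_eq_of_mem.1 hB (g := (⟨_, hmem⟩ : G)) h0
        (by show (g : V ≃ₗ[ZMod p] V) 0 ∈ B; rwa [map_zero])
      rw [hW, ← h1]
      exact Set.smul_mem_smul_set (a := (⟨_, hmem⟩ : G)) ((hW v).1 hv)
    rcases hirr W hinv with h | h
    · left
      intro x hx y hy
      rw [(Submodule.eq_bot_iff W).1 h x hx, (Submodule.eq_bot_iff W).1 h y hy]
    · right
      exact Set.eq_univ_of_forall fun x => (hW x).1 (h ▸ Submodule.mem_top)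

end Cfsg.Agent.S0733
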