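import Cfsg.Statements.S0734
import Mathlib.GroupTheory.GroupAction.Primitive
import Mathlib.Combinatorics.SimpleGraph.Connectivity.Connected

set_option autoImplicit false
open Cfsg

namespace Cfsg.Agent.S0734

/-- Higman's criterion for primitivity: a transitive action on a finite set is primitive if and only if every non-trivial orbital graph (edges = images of a fixed pair of distinct points) is connected. -/
theorem result {G : Type*} [Group G] {Ω : Type*} [Finite Ω] [MulAction G Ω] [MulAction.IsPretransitive G Ω] [Nontrivial Ω] : MulAction.IsPreprimitive G Ω ↔ ∀ a b : Ω, a ≠ b → (SimpleGraph.fromRel fun x y : Ω => ∃ g : G, g • a = x ∧ g • b = y).Connected := by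
  classical
  constructor
  · intro hp a b hab
    set Γ := SimpleGraph.fromRel fun x y : Ω => ∃ g : G, g • a = x ∧ g • b = y
    have hadj : ∀ (u : G) x y, Γ.Adj x y → Γ.Adj (u • x) (u • y) := by
      intro u x y h
      rw [SimpleGraph.fromRel_adj] at h ⊢
      refine ⟨fun e => h.1 (smul_left_cancel u e), ?_⟩
      rcases h.2 with ⟨g, rfl, rfl⟩ | ⟨g, rfl, rfl⟩
      · exact Or.inl ⟨u * g, mul_smul u g a, mul_smul u g b⟩
      · exact Or.inr ⟨u * g, mul_smul u g a, mul_smul u g b⟩
    have hreach : ∀ (u : G) x y, Γ.Reachable x y → Γ.Reachable (u • x) (u • y) := fun u x y h =>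
      h.map ⟨(u • ·), fun {x y} => hadj u x y⟩
    have hB : MulAction.IsBlock G {y | Γ.Reachable a y} := by
      refine MulAction.isBlock_iff_smul_eq_of_mem.2 fun u c hc huc => ?_
      have hua : Γ.Reachable a (u • a) :=
        (huc : Γ.Reachable a (u • c)).trans (hreach u a c hc).symm
      ext y
      constructor
      · rintro ⟨z, hz, rfl⟩
        exact hua.trans (hreach u a z hz)
      · intro hy
        refine ⟨u⁻¹ • y, ?_, smul_inv_smul u y⟩
        have h1 := hreach u⁻¹ _ _ (hua.symm.trans hy)
        rwa [inv_smul_smul] at h1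
    have hab' : Γ.Adj a b := by
      rw [SimpleGraph.fromRel_adj]
      exact ⟨hab, Or.inl ⟨1, one_smul _ _, one_smul _ _⟩⟩
    rcases hp.isTrivialBlock_of_isBlock hB with h | h
    · exact absurd (h (SimpleGraph.Reachable.refl a) hab'.reachable) hab
    · haveI : Nonempty Ω := ⟨a⟩
      refine ⟨fun x y => ?_⟩
      have hall : ∀ z, Γ.Reachable a z := fun z => Set.eq_univ_iff_forall.1 h z
      exact (hall x).symm.trans (hall y)
  · intro hconn
    refine MulAction.IsPreprimitive.mk fun {B} hB => ?_
    by_cases hs : B.Subsingleton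
    · exact Or.inl hs
    right
    obtain ⟨a, ha, b, hb, hab⟩ := Set.not_subsingleton_iff.1 hs
    set Γ := SimpleGraph.fromRel fun x y : Ω => ∃ g : G, g • a = x ∧ g • b = y
    have hstep : ∀ x y, x ∈ B → Γ.Adj x y → y ∈ B := by
      intro x y hx h
      rw [SimpleGraph.fromRel_adj] at h
      rcases h.2 with ⟨g, rfl, rfl⟩ | ⟨g, rfl, rfl⟩
      · rw [← MulAction.isBlock_iff_smul_eq_of_mem.1 hB ha hx]
        exact Set.smul_mem_smul_set hb
      · rw [← MulAction.isBlock_iff_smul_eq_of_mem.1 hB hb hx]
        exact Set.smul_mem_smul_set ha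
    refine Set.eq_univ_of_forall fun y => ?_
    obtain ⟨w⟩ := (hconn a b hab).preconnected a y
    have : ∀ (x z : Ω), Γ.Walk x z → x ∈ B → z ∈ B := by
      intro x z w
      induction w with
      | nil => exact id
      | cons h w ih => exact fun hx => ih (hstep _ _ hx h)
    exact this a y w ha

end Cfsg.Agent.S0734
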