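import Cfsg.Statements.S0735
import Mathlib.GroupTheory.GroupAction.Primitive
import Mathlib.GroupTheory.Perm.Cycle.Type
import Mathlib.GroupTheory.GroupAction.MultipleTransitivity

set_option autoImplicit false
open Cfsg

namespace Cfsg.Agent.S0735

open scoped Pointwise

/-- A 2-homogeneous permutation group (transitive on 2-subsets) of even order is doubly transitive; a non-trivial 2-homogeneous group is primitive. -/
theorem result {α : Type*} [Fintype α] [DecidableEq α] (G : Subgroup (Equiv.Perm α)) (h2 : MulAction.IsPretransitive G (Set.powersetCard α 2)) (hα : 3 ≤ Fintype.card α) : (Even (Nat.card G) → MulAction.IsMultiplyPretransitive G α 2) ∧ (G ≠ ⊥ → MulAction.IsPreprimitive G α) := by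
  classical
  have hpair : ∀ a b c d : α, a ≠ b → c ≠ d →
      ∃ g : G, (g • a = c ∧ g • b = d) ∨ (g • a = d ∧ g • b = c) := by
    intro a b c d hab hcd
    obtain ⟨g, hg⟩ := h2.exists_smul_eq (⟨{a, b}, Finset.card_pair hab⟩ : Set.powersetCard α 2)
      ⟨{c, d}, Finset.card_pair hcd⟩
    refine ⟨g, ?_⟩
    have hs : (g • ({a, b} : Finset α)) = {c, d} := congrArg Subtype.val hg
    have ha : g • a ∈ ({c, d} : Finset α) := hs ▸ Finset.smul_mem_smul_finset (by simp)
    have hb : g • b ∈ ({c, d} : Finset α) := hs ▸ Finset.smul_mem_smul_finset (by simp)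
    have hne : g • a ≠ g • b := fun e => hab (smul_left_cancel g e)
    simp only [Finset.mem_insert, Finset.mem_singleton] at ha hb
    rcases ha with ha | ha <;> rcases hb with hb | hb
    · exact absurd (ha.trans hb.symm) hne
    · exact Or.inl ⟨ha, hb⟩
    · exact Or.inr ⟨ha, hb⟩
    · exact absurd (ha.trans hb.symm) hne
  constructor
  · intro heven
    obtain ⟨t, ht⟩ := exists_prime_orderOf_dvd_card' (G := G) 2 heven.two_dvd
    have ht1 : t ≠ 1 := fun e => by simp [e] at ht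
    obtain ⟨a, ha⟩ : ∃ a, t • a ≠ a := by
      by_contra hh
      push Not at hh
      exact ht1 (Subtype.ext (Equiv.ext hh))
    have htt : t • t • a = a := by
      rw [← mul_smul, ← pow_two, show t ^ 2 = 1 from ht ▸ pow_orderOf_eq_one t, one_smul]
    have hflip : ∀ x y, x ≠ y → ∃ g : G, g • a = x ∧ g • (t • a) = y := by
      intro x y hxy
      obtain ⟨g, hg | hg⟩ := hpair a (t • a) x y (Ne.symm ha) hxy
      · exact ⟨g, hg⟩
      · exact ⟨g * t, by rw [mul_smul]; exact hg.2, by rw [mul_smul, htt]; exact hg.1⟩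
    rw [MulAction.is_two_pretransitive_iff]
    intro w x y z hwx hyz
    obtain ⟨g₁, h₁, h₁'⟩ := hflip w x hwx
    obtain ⟨g₂, h₂, h₂'⟩ := hflip y z hyz
    refine ⟨g₂ * g₁⁻¹, ?_, ?_⟩
    · rw [← h₁, ← h₂, mul_smul, inv_smul_smul]
    · rw [← h₁', ← h₂', mul_smul, inv_smul_smul]
  · intro hne
    obtain ⟨⟨g₀, hg₀⟩, hg₀'⟩ : ∃ g : G, g ≠ 1 := by
      obtain ⟨g, hg, hg'⟩ := (Subgroup.bot_or_exists_ne_one G).resolve_left hne
      exact ⟨⟨g, hg⟩, fun e => hg' (congrArg Subtype.val e)⟩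
    obtain ⟨a, ha⟩ : ∃ a, g₀ a ≠ a := by
      by_contra hh
      push Not at hh
      exact hg₀' (Subtype.ext (Equiv.ext hh))
    have horb : ∀ y, ∃ g : G, g • a = y := by
      intro y
      by_cases hy : y = a
      · exact ⟨1, by rw [hy, one_smul]⟩
      obtain ⟨g, hg | hg⟩ := hpair a (g₀ a) a y (Ne.symm ha) (Ne.symm hy)
      · exact ⟨g * ⟨g₀, hg₀⟩, by rw [mul_smul]; exact hg.2⟩
      · exact ⟨g, hg.1⟩
    haveI : MulAction.IsPretransitive G α := ⟨fun x y => by
      obtain ⟨g₁, rfl⟩ := horb x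
      obtain ⟨g₂, rfl⟩ := horb y
      exact ⟨g₂ * g₁⁻¹, by rw [mul_smul, inv_smul_smul]⟩⟩
    refine MulAction.IsPreprimitive.mk fun {B} hB => ?_
    by_cases hs : B.Subsingleton
    · exact Or.inl hs
    right
    obtain ⟨x, hx, y, hy, hxy⟩ := Set.not_subsingleton_iff.1 hs
    refine Set.eq_univ_of_forall fun z => ?_
    by_cases hz : z = x
    · exact hz ▸ hx
    obtain ⟨g, hg | hg⟩ := hpair x y x z hxy (Ne.symm hz)
    · have hB' := MulAction.isBlock_iff_smul_eq_of_mem.1 hB hx (hg.1.symm ▸ hx)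
      exact hB' ▸ (hg.2 ▸ Set.smul_mem_smul_set hy)
    · have hB' := MulAction.isBlock_iff_smul_eq_of_mem.1 hB hy (hg.2.symm ▸ hx)
      exact hB' ▸ (hg.1 ▸ Set.smul_mem_smul_set hx)

end Cfsg.Agent.S0735
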