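import Cfsg.Statements.S0740
import Mathlib

set_option autoImplicit false
open Cfsg

namespace Cfsg.Agent.S0740


theorem fix_le_two {G Ω : Type*} [Group G] [MulAction G Ω] [Fintype Ω]
    (h3 : ∀ g : G, ∀ a b c : Ω, a ≠ b → b ≠ c → a ≠ c → g • a = a → g • b = b → g • c = c → g = 1)
    {s : G} (hs : s ≠ 1) : Nat.card (MulAction.fixedBy Ω s) ≤ 2 := by
  classical
  by_contra h
  have h' : 2 < Nat.card (MulAction.fixedBy Ω s) := by omega
  rw [Nat.card_eq_fintype_card, Fintype.two_lt_card_iff] at h'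
  obtain ⟨x, y, z, hxy, hxz, hyz⟩ := h'
  exact hs (h3 s x y z (fun e => hxy (Subtype.ext e)) (fun e => hyz (Subtype.ext e))
    (fun e => hxz (Subtype.ext e)) x.2 y.2 z.2)

theorem parity {G Ω : Type*} [Group G] [MulAction G Ω] [Fintype Ω] {s : G} (hs : s ^ 2 = 1) :
    Fintype.card Ω % 2 = Nat.card (MulAction.fixedBy Ω s) % 2 := by
  classical
  haveI : Fact (Nat.Prime 2) := ⟨Nat.prime_two⟩
  let f : Function.End Ω := fun x => s • x
  have hf : f ^ 2 ^ 1 = 1 := by
    funext x
    show s • s • x = x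
    rw [← mul_smul, ← sq, hs, one_smul]
  have h := Equiv.Perm.card_fixedPoints_modEq hf
  rw [Nat.card_eq_fintype_card]
  exact h.trans (by rw [Fintype.card_congr (Equiv.subtypeEquivRight fun x => Iff.rfl :
    Function.fixedPoints f ≃ MulAction.fixedBy Ω s)])


/-- In a finite Zassenhaus group any two points `a ≠ b` are swapped by an involution; every such involution has exactly one fixed point when the degree is odd and 0 or 2 fixed points when the degree is even; and if the two-point stabiliser has even order, some such involution has exactly 2 fixed points. -/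
theorem result {G Ω : Type*} [Group G] [Finite G] [MulAction G Ω] [Fintype Ω] (hZ : Cfsg.IsZassenhausGroup G Ω) {a b : Ω} (hab : a ≠ b) : (∃ s : G, orderOf s = 2 ∧ s • a = b ∧ s • b = a) ∧ (∀ s : G, orderOf s = 2 → s • a = b → s • b = a → (Odd (Fintype.card Ω) → Nat.card (MulAction.fixedBy Ω s) = 1) ∧ (Even (Fintype.card Ω) → Nat.card (MulAction.fixedBy Ω s) = 0 ∨ Nat.card (MulAction.fixedBy Ω s) = 2)) ∧ (Even (Fintype.card Ω) → Even (Nat.card ↥(MulAction.stabilizer G a ⊓ MulAction.stabilizer G b)) → ∃ s : G, orderOf s = 2 ∧ s • a = b ∧ s • b = a ∧ Nat.card (MulAction.fixedBy Ω s) = 2) := by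
  obtain ⟨hF, h2, h3, ⟨g0, hg0, -⟩, -⟩ := hZ
  rw [MulAction.is_two_pretransitive_iff] at h2
  -- conjugating any involution moving a point
  have hconj : ∀ u : G, orderOf u = 2 → ∃ s : G, orderOf s = 2 ∧ s • a = b ∧ s • b = a ∧
      Nat.card (MulAction.fixedBy Ω s) = Nat.card (MulAction.fixedBy Ω u) := by
    intro u hu
    have hu1 : u ≠ 1 := fun e => by simp [e] at hu
    have huu : u * u = 1 := by rw [← sq, ← hu, pow_orderOf_eq_one]
    obtain ⟨c, hc⟩ : ∃ c : Ω, u • c ≠ c := by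
      by_contra hall
      push Not at hall
      exact hu1 (hF.eq_of_smul_eq_smul fun x => by rw [hall x, one_smul])
    obtain ⟨k, hk1, hk2⟩ := h2 (Ne.symm hc) hab
    refine ⟨k * u * k⁻¹, ?_, ?_, ?_, ?_⟩
    · rw [← hu]; exact MulEquiv.orderOf_eq (MulAut.conj k) u
    · rw [← hk1, ← hk2]; simp [mul_smul]
    · rw [← hk1, ← hk2]
      simp only [mul_smul, inv_smul_smul]
      rw [← mul_smul u u c, huu, one_smul]
    · refine Nat.card_congr (Equiv.subtypeEquiv (MulAction.toPerm k⁻¹) fun x => ?_)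
      show (k * u * k⁻¹) • x = x ↔ u • (k⁻¹ • x) = k⁻¹ • x
      rw [eq_inv_smul_iff, ← mul_smul, ← mul_smul]
  refine ⟨?_, fun s hs _ _ => ?_, fun hev hd => ?_⟩
  · obtain ⟨g, hga, hgb⟩ := h2 hab hab.symm
    haveI : Fact (Nat.Prime 2) := ⟨Nat.prime_two⟩
    have hdvd : 2 ∣ orderOf g := by
      by_contra hnd
      have hg2 : g ^ 2 ∈ MulAction.stabilizer G a := by
        rw [MulAction.mem_stabilizer_iff, sq, mul_smul, hga, hgb]
      have hg : g ∈ MulAction.stabilizer G a := by
        obtain ⟨m, hm⟩ : ∃ m, orderOf g = 2 * m + 1 := ⟨orderOf g / 2, by omega⟩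
        have : g = (g ^ 2) ^ (m + 1) := by
          rw [← pow_mul, show 2 * (m + 1) = orderOf g + 1 by omega, pow_succ, pow_orderOf_eq_one,
            one_mul]
        rw [this]
        exact Subgroup.pow_mem _ hg2 _
      exact hab ((MulAction.mem_stabilizer_iff.1 hg).symm.trans hga)
    obtain ⟨u, hu⟩ := exists_prime_orderOf_dvd_card' 2 (hdvd.trans (orderOf_dvd_natCard g))
    obtain ⟨s, hs, h1, h2, -⟩ := hconj u hu
    exact ⟨s, hs, h1, h2⟩
  · have hs1 : s ≠ 1 := fun e => by simp [e] at hs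
    have hle := fix_le_two h3 hs1
    have hpar := parity (Ω := Ω) (show s ^ 2 = 1 by rw [← hs, pow_orderOf_eq_one])
    constructor
    · intro ho; rw [Nat.odd_iff] at ho; omega
    · intro he; rw [Nat.even_iff] at he; omega
  · haveI : Fact (Nat.Prime 2) := ⟨Nat.prime_two⟩
    obtain ⟨u', hu'⟩ := exists_prime_orderOf_dvd_card'
      (G := ↥(MulAction.stabilizer G a ⊓ MulAction.stabilizer G b)) 2 hd.two_dvd
    obtain ⟨u, hua, hub, hu⟩ : ∃ u : G, u • a = a ∧ u • b = b ∧ orderOf u = 2 :=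
      ⟨u', u'.2.1, u'.2.2, by rw [Subgroup.orderOf_coe]; exact hu'⟩
    obtain ⟨s, hs, h1, h2, hfix⟩ := hconj u hu
    refine ⟨s, hs, h1, h2, ?_⟩
    rw [hfix]
    refine le_antisymm (fix_le_two h3 (fun e => by simp [e] at hu)) ?_
    have : Fintype (MulAction.fixedBy Ω u) := Fintype.ofFinite _
    rw [Nat.card_eq_fintype_card]
    exact Fintype.one_lt_card_iff.2 ⟨⟨a, hua⟩, ⟨b, hub⟩, fun e => hab (congrArg Subtype.val e)⟩

end Cfsg.Agent.S0740
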