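import Cfsg.Statements.S0741
import Mathlib

set_option autoImplicit false
open Cfsg

namespace Cfsg.Agent.S0741


open MulAction


/-- If the two-point stabilisers of a finite Zassenhaus group of degree `n + 1` have even order `d`, then `2d ≥ n - 1`. -/
theorem result {G Ω : Type*} [Group G] [Finite G] [MulAction G Ω] [Fintype Ω] (hZ : Cfsg.IsZassenhausGroup G Ω) {a b : Ω} (hab : a ≠ b) (heven : Even (Nat.card ↥(MulAction.stabilizer G a ⊓ MulAction.stabilizer G b))) : Fintype.card Ω - 2 ≤ 2 * Nat.card ↥(MulAction.stabilizer G a ⊓ MulAction.stabilizer G b) := by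
  classical
  haveI : Fintype G := Fintype.ofFinite G
  obtain ⟨hF, h2, h3, -, -⟩ := hZ
  rw [is_two_pretransitive_iff] at h2
  haveI : Fact (Nat.Prime 2) := ⟨Nat.prime_two⟩
  obtain ⟨u', hu'⟩ := exists_prime_orderOf_dvd_card' (G := ↥(stabilizer G a ⊓ stabilizer G b)) 2 heven.two_dvd
  obtain ⟨u, hua, hub, hu⟩ : ∃ u : G, u • a = a ∧ u • b = b ∧ orderOf u = 2 :=
    ⟨u', u'.2.1, u'.2.2, by rw [Subgroup.orderOf_coe]; exact hu'⟩
  have hu1 : u ≠ 1 := fun e => by simp [e] at hu
  let Pr := {q : Ω × Ω // q.1 ≠ q.2}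
  -- conjugate of u fixing a given pair
  have hinv : ∀ P : Pr, ∃ w : G, w ≠ 1 ∧ w * w = 1 ∧ w • P.1.1 = P.1.1 ∧ w • P.1.2 = P.1.2 ∧
      ∀ z, w • z = z → z = P.1.1 ∨ z = P.1.2 := by
    intro P
    obtain ⟨k, hk1, hk2⟩ := h2 hab P.2
    have h1 : k * u * k⁻¹ ≠ 1 := fun e => hu1 (by
      have := congrArg (fun t => k⁻¹ * t * k) e
      simpa [mul_assoc] using this)
    have hf1 : (k * u * k⁻¹) • P.1.1 = P.1.1 := by rw [← hk1, mul_smul, mul_smul, inv_smul_smul, hua]
    have hf2 : (k * u * k⁻¹) • P.1.2 = P.1.2 := by rw [← hk2, mul_smul, mul_smul, inv_smul_smul, hub]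
    refine ⟨k * u * k⁻¹, h1, ?_, hf1, hf2, fun z hz => ?_⟩
    · rw [show k * u * k⁻¹ * (k * u * k⁻¹) = k * (u * u) * k⁻¹ by group, ← sq u, ← hu, pow_orderOf_eq_one]; group
    · by_contra hne
      push Not at hne
      exact h1 (h3 _ P.1.1 P.1.2 z P.2 (Ne.symm hne.2) (Ne.symm hne.1) hf1 hf2 hz)
  choose w hw1 hw2 hwa hwb hwfix using hinv
  haveI : Nonempty Pr := ⟨⟨(a, b), hab⟩⟩
  haveI : Fintype Pr := Fintype.ofFinite _
  let R : Pr → Finset Pr := fun Q => Finset.univ.filter fun P => w P • Q.1.1 = Q.1.2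
  -- double counting
  have hsum : ∑ Q : Pr, (R Q).card = Fintype.card Pr * (Fintype.card Ω - 2) := by
    have h1 : ∑ Q : Pr, (R Q).card = ∑ P : Pr, (Finset.univ.filter fun Q : Pr => w P • Q.1.1 = Q.1.2).card :=
      (Finset.sum_card_bipartiteAbove_eq_sum_card_bipartiteBelow (fun (Q P : Pr) => w P • Q.1.1 = Q.1.2))
    rw [h1, ← Finset.card_univ, ← smul_eq_mul, ← Finset.sum_const]
    refine Finset.sum_congr rfl fun P _ => ?_
    have h2c : ({P.1.1, P.1.2} : Finset Ω)ᶜ.card = Fintype.card Ω - 2 := by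
      rw [Finset.card_compl, Finset.card_pair P.2]
    rw [← h2c]
    refine Finset.card_bij (fun Q _ => Q.1.1) ?_ ?_ ?_
    · intro Q hQ
      simp only [Finset.mem_filter] at hQ
      rw [Finset.mem_compl, Finset.mem_insert, Finset.mem_singleton]
      rintro (e | e)
      · exact Q.2 (by rw [← hQ.2, e, hwa])
      · exact Q.2 (by rw [← hQ.2, e, hwb])
    · intro Q hQ Q' hQ' e
      simp only [Finset.mem_filter] at hQ hQ'
      exact Subtype.ext (Prod.ext e (by rw [← hQ.2, ← hQ'.2, e]))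
    · intro z hz
      rw [Finset.mem_compl, Finset.mem_insert, Finset.mem_singleton] at hz
      exact ⟨⟨(z, w P • z), fun e => hz (hwfix P z e.symm)⟩, by simp, rfl⟩
  obtain ⟨Q, -, hQ⟩ := Finset.exists_le_of_sum_le (Finset.univ_nonempty (α := Pr))
    (f := fun _ => Fintype.card Ω - 2) (g := fun Q => (R Q).card)
    (by rw [hsum, Finset.sum_const, Finset.card_univ, smul_eq_mul])
  -- involutions mapping Q.1 to Q.2 form at most d elements
  obtain ⟨k, hk1, hk2⟩ := h2 hab Q.2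
  let T : Finset G := (R Q).image w
  have hT : T.card ≤ Nat.card ↥(stabilizer G a ⊓ stabilizer G b) := by
    by_cases hne : T.Nonempty
    · obtain ⟨s, hs⟩ := hne
      have hmem : ∀ t ∈ T, t • Q.1.1 = Q.1.2 ∧ t • Q.1.2 = Q.1.1 := by
        intro t ht
        obtain ⟨P, hP, rfl⟩ := Finset.mem_image.1 ht
        simp only [R, Finset.mem_filter] at hP
        refine ⟨hP.2, ?_⟩
        rw [← hP.2, ← mul_smul, hw2, one_smul]
      have hin : ∀ t ∈ T, k⁻¹ * (s * t) * k ∈ stabilizer G a ⊓ stabilizer G b := by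
        intro t ht
        obtain ⟨s1, s2⟩ := hmem s hs
        obtain ⟨t1, t2⟩ := hmem t ht
        refine Subgroup.mem_inf.2 ⟨?_, ?_⟩ <;> rw [mem_stabilizer_iff, mul_smul, mul_smul, mul_smul]
        · rw [hk1, t1, s2, inv_smul_eq_iff, hk1]
        · rw [hk2, t2, s1, inv_smul_eq_iff, hk2]
      rw [← Nat.card_eq_finsetCard]
      refine Nat.card_le_card_of_injective (fun t : T => ⟨_, hin t t.2⟩) fun t t' e => ?_
      exact Subtype.ext (mul_left_cancel (mul_left_cancel (mul_right_cancel (congrArg Subtype.val e))))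
    · rw [Finset.not_nonempty_iff_eq_empty.1 hne]; simp
  have hfib : ∀ t ∈ T, ((R Q).filter fun P => w P = t).card ≤ 2 := by
    intro t ht
    obtain ⟨P0, -, rfl⟩ := Finset.mem_image.1 ht
    refine le_trans (Finset.card_le_card (t := ({⟨P0.1, P0.2⟩, ⟨(P0.1.2, P0.1.1), P0.2.symm⟩} : Finset Pr)) ?_) Finset.card_le_two
    intro P hP
    simp only [Finset.mem_filter] at hP
    have c1 := hwfix P0 P.1.1 (by rw [← hP.2]; exact hwa P)
    have c2 := hwfix P0 P.1.2 (by rw [← hP.2]; exact hwb P)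
    rw [Finset.mem_insert, Finset.mem_singleton]
    rcases c1 with c1 | c1 <;> rcases c2 with c2 | c2
    · exact absurd (c1.trans c2.symm) P.2
    · exact Or.inl (Subtype.ext (Prod.ext c1 c2))
    · exact Or.inr (Subtype.ext (Prod.ext c1 c2))
    · exact absurd (c1.trans c2.symm) P.2
  have := Finset.card_le_mul_card_image (R Q) 2 hfib
  change (R Q).card ≤ 2 * T.card at this
  omega

end Cfsg.Agent.S0741
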