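import Cfsg.Statements.S0759

set_option autoImplicit false
open Cfsg

namespace Cfsg.Agent.S0759

open Matrix Module

theorem neg_one_pow_isSquare {F : Type*} [Field F] (h2 : (2 : F) ≠ 0) {m : ℕ}
    {W : Submodule F (Fin (2 * m) → F)} (hW : finrank F W = m) (h0 : ∀ w ∈ W, ∑ i, w i ^ 2 = 0) :
    IsSquare ((-1 : F) ^ m) := by
  classical
  obtain ⟨C, hC⟩ := Submodule.exists_isCompl W
  have hCd : finrank F C = m := by
    have := Submodule.finrank_add_eq_of_isCompl hC
    rw [hW, finrank_fintype_fun_eq_card, Fintype.card_fin] at this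
    omega
  let b := (((finBasisOfFinrankEq F W hW).prod (finBasisOfFinrankEq F C hCd)).map
    (W.prodEquivOfIsCompl C hC)).reindex (Equiv.refl (Fin m ⊕ Fin m))
  let e : Fin (2 * m) ≃ Fin m ⊕ Fin m := (finCongr (two_mul m)).trans finSumFinEquiv.symm
  let P : Matrix (Fin m ⊕ Fin m) (Fin m ⊕ Fin m) F := Matrix.of fun k i => b i (e.symm k)
  have hdet : P.det ≠ 0 := by
    let c := (Pi.basisFun F (Fin (2 * m))).reindex e
    have hP : P = c.toMatrix b := by
      ext k i
      simp [P, c, Basis.toMatrix_apply]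
    rw [hP]
    intro hd
    have := congrArg Matrix.det (c.toMatrix_mul_toMatrix_flip b)
    rw [Matrix.det_mul, hd, zero_mul, Matrix.det_one] at this
    exact zero_ne_one this
  have hbW : ∀ i, b (.inl i) ∈ W := fun i => by simp [b]
  have hz : (Pᵀ * P).toBlocks₁₁ = 0 := by
    ext i j
    have hi := h0 _ (hbW i)
    have hj := h0 _ (hbW j)
    have hij := h0 _ (W.add_mem (hbW i) (hbW j))
    simp only [Pi.add_apply, add_sq, Finset.sum_add_distrib, hi, hj, zero_add, add_zero] at hij
    simp only [Matrix.toBlocks₁₁, Matrix.of_apply, Matrix.mul_apply, Matrix.transpose_apply, Matrix.zero_apply, P]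
    rw [← Equiv.sum_comp e]
    simp only [Equiv.symm_apply_apply]
    simp only [mul_assoc, ← Finset.mul_sum] at hij
    exact (mul_eq_zero.mp hij).resolve_left h2
  obtain ⟨X, hX⟩ : ∃ X, X = (Pᵀ * P).toBlocks₁₂ := ⟨_, rfl⟩
  obtain ⟨Y, hY⟩ : ∃ Y, Y = (Pᵀ * P).toBlocks₂₂ := ⟨_, rfl⟩
  have hZ : (Pᵀ * P).toBlocks₂₁ = Xᵀ := by
    ext i j
    simp only [hX, Matrix.toBlocks₂₁, Matrix.toBlocks₁₂, Matrix.of_apply, Matrix.transpose_apply, Matrix.mul_apply]
    exact Finset.sum_congr rfl fun k _ => mul_comm _ _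
  have hJ : (fromBlocks (0 : Matrix (Fin m) (Fin m) F) (1 : Matrix (Fin m) (Fin m) F)
      (1 : Matrix (Fin m) (Fin m) F) (0 : Matrix (Fin m) (Fin m) F)).det = (-1 : F) ^ m := by
    have hE : fromBlocks (0 : Matrix (Fin m) (Fin m) F) (1 : Matrix (Fin m) (Fin m) F)
      (1 : Matrix (Fin m) (Fin m) F) (0 : Matrix (Fin m) (Fin m) F) =
        fromBlocks (1 : Matrix (Fin m) (Fin m) F) (1 : Matrix (Fin m) (Fin m) F) 0 (1 : Matrix (Fin m) (Fin m) F) *
        fromBlocks (1 : Matrix (Fin m) (Fin m) F) 0 (-1 : Matrix (Fin m) (Fin m) F) (1 : Matrix (Fin m) (Fin m) F) *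
        fromBlocks (1 : Matrix (Fin m) (Fin m) F) (1 : Matrix (Fin m) (Fin m) F) 0 (1 : Matrix (Fin m) (Fin m) F) *
        fromBlocks (-1 : Matrix (Fin m) (Fin m) F) 0 0 (1 : Matrix (Fin m) (Fin m) F) := by
      simp [Matrix.fromBlocks_multiply]
    rw [hE, Matrix.det_mul, Matrix.det_mul, Matrix.det_mul, Matrix.det_fromBlocks_zero₂₁,
      Matrix.det_fromBlocks_zero₁₂, Matrix.det_fromBlocks_zero₂₁, Matrix.det_one, Matrix.det_neg]
    simp
  have hG : Pᵀ * P = fromBlocks (0 : Matrix (Fin m) (Fin m) F) (1 : Matrix (Fin m) (Fin m) F)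
      (1 : Matrix (Fin m) (Fin m) F) (0 : Matrix (Fin m) (Fin m) F) * fromBlocks Xᵀ Y 0 X := by
    rw [← Matrix.fromBlocks_toBlocks (Pᵀ * P), hz, hZ, ← hX, ← hY, Matrix.fromBlocks_multiply]
    simp
  have h := congrArg Matrix.det hG
  rw [Matrix.det_mul, Matrix.det_transpose, Matrix.det_mul, hJ, Matrix.det_fromBlocks_zero₂₁,
    Matrix.det_transpose] at h
  have hX0 : X.det ≠ 0 := fun e => hdet (mul_self_eq_zero.mp (by rw [h, e]; ring))
  exact ⟨P.det / X.det, by field_simp; linear_combination -h⟩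

/-- Type of the orthonormal form: over a finite field of odd order q and for m ≥ 1, the quadratic form Σ_(i<2m) x_i² on F^(2m) admits an m-dimensional subspace on which it vanishes identically if and only if it is not the case that q ≡ 3 (mod 4) and m is odd. -/
theorem result {F : Type*} [Field F] [Fintype F] (h2 : (2 : F) ≠ 0) (m : ℕ) (hm : 1 ≤ m) : (∃ W : Submodule F (Fin (2 * m) → F), Module.finrank F W = m ∧ ∀ w ∈ W, ∑ i, w i ^ 2 = 0) ↔ ¬ (Fintype.card F % 4 = 3 ∧ Odd m) := by
  classical
  constructor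
  · rintro ⟨W, hW, h0⟩ ⟨h3, hodd⟩
    have h := neg_one_pow_isSquare h2 hW h0
    rw [hodd.neg_one_pow, FiniteField.isSquare_neg_one_iff] at h
    exact h h3
  · intro h
    suffices h' : ∃ A : (Fin m → F) →ₗ[F] (Fin m ⊕ Fin m → F), Function.Injective A ∧
        ∀ w, ∑ k, A w k ^ 2 = 0 by
      obtain ⟨A, hA, hA0⟩ := h'
      let e : Fin (2 * m) ≃ Fin m ⊕ Fin m := (finCongr (two_mul m)).trans finSumFinEquiv.symm
      refine ⟨LinearMap.range ((LinearEquiv.funCongrLeft F F e).toLinearMap ∘ₗ A), ?_, ?_⟩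
      · rw [LinearMap.finrank_range_of_inj (f := (LinearEquiv.funCongrLeft F F e).toLinearMap ∘ₗ A)
          ((LinearEquiv.funCongrLeft F F e).injective.comp hA), finrank_fintype_fun_eq_card,
          Fintype.card_fin]
      · rintro _ ⟨w, rfl⟩
        exact (Equiv.sum_comp e fun k => A w k ^ 2).trans (hA0 w)
    by_cases hi : IsSquare (-1 : F)
    · obtain ⟨i, hi⟩ := hi
      refine ⟨{ toFun := fun w => Sum.elim w (i • w), map_add' := ?_, map_smul' := ?_ }, ?_, ?_⟩
      · intro x y; ext (k | k) <;> simp [mul_add]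
      · intro c x; ext (k | k) <;> simp [mul_left_comm]
      · intro x y e; ext k; exact congrFun e (.inl k)
      · intro w
        simp only [LinearMap.coe_mk, AddHom.coe_mk, Fintype.sum_sum_type, Sum.elim_inl, Sum.elim_inr,
          Pi.smul_apply, smul_eq_mul, mul_pow, _root_.sq i, ← hi, neg_one_mul, Finset.sum_neg_distrib, add_neg_cancel]
    · rw [FiniteField.isSquare_neg_one_iff] at hi
      push Not at hi
      obtain ⟨n, rfl⟩ : ∃ n, m = n + n := Nat.not_odd_iff_even.mp fun ho => h ⟨hi, ho⟩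
      obtain ⟨a, b, hab⟩ := FiniteField.exists_root_sum_quadratic (R := F) (f := Polynomial.X ^ 2)
        (g := Polynomial.X ^ 2 + Polynomial.C 1) (Polynomial.degree_X_pow 2) (Polynomial.degree_X_pow_add_C (by norm_num) 1)
        (by
          rcases Nat.even_or_odd (Fintype.card F) with he | ho
          · exfalso; rw [Nat.even_iff] at he; omega
          · exact Nat.odd_iff.mp ho)
      simp at hab
      let p : Fin n → Fin (n + n) := Fin.castAdd n
      let p' : Fin n → Fin (n + n) := Fin.natAdd n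
      refine ⟨{ toFun := fun w => Sum.elim w (Fin.append (fun k => a * w (p k) - b * w (p' k))
          fun k => b * w (p k) + a * w (p' k)), map_add' := ?_, map_smul' := ?_ }, ?_, ?_⟩
      · intro x y; ext (k | k)
        · simp
        · refine Fin.addCases (fun k => ?_) (fun k => ?_) k <;>
            simp only [Sum.elim_inr, Fin.append_left, Fin.append_right, Pi.add_apply, Pi.smul_apply, smul_eq_mul,
              RingHom.id_apply] <;> ring
      · intro c x; ext (k | k)
        · simp
        · refine Fin.addCases (fun k => ?_) (fun k => ?_) k <;>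
            simp only [Sum.elim_inr, Fin.append_left, Fin.append_right, Pi.add_apply, Pi.smul_apply, smul_eq_mul,
              RingHom.id_apply] <;> ring
      · intro x y e; ext k; exact congrFun e (.inl k)
      · intro w
        simp only [LinearMap.coe_mk, AddHom.coe_mk, Fintype.sum_sum_type, Sum.elim_inl, Sum.elim_inr,
          Fin.sum_univ_add, Fin.append_left, Fin.append_right, ← Finset.sum_add_distrib]
        exact Finset.sum_eq_zero fun k _ => by
          linear_combination (w (p k) ^ 2 + w (p' k) ^ 2) * hab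

end Cfsg.Agent.S0759
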