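import Cfsg.Statements.S0763
import Mathlib

set_option autoImplicit false
open Cfsg

namespace Cfsg.Agent.S0763

/-- Binary quadratic forms in characteristic two over a finite field: if Q is a quadratic form on a 2-dimensional space whose polar form is non-degenerate, then either there are vectors v, w with Q v = Q w = 0 and polar value 1 (Q is xy in these coordinates), or there are v, w and μ with Q v = 1, Q w = μ, polar value 1 and x² + x + μ without roots in F (Q is x² + xy + μy²). -/
theorem result {F V : Type*} [Field F] [Finite F] [CharP F 2] [AddCommGroup V] [Module F V] (Q : QuadraticForm F V) (h2 : Module.finrank F V = 2) (hQ : (QuadraticMap.polarBilin Q).Nondegenerate) : (∃ v w : V, LinearIndependent F ![v, w] ∧ Q v = 0 ∧ Q w = 0 ∧ QuadraticMap.polar Q v w = 1) ∨ (∃ (v w : V) (μ : F), LinearIndependent F ![v, w] ∧ (∀ x : F, x ^ 2 + x + μ ≠ 0) ∧ Q v = 1 ∧ Q w = μ ∧ QuadraticMap.polar Q v w = 1) := by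
  have h0 : (2 : F) = 0 := CharTwo.two_eq_zero
  haveI : FiniteDimensional F V := FiniteDimensional.of_finrank_eq_succ h2
  have hself : ∀ x, QuadraticMap.polar Q x x = 0 := fun x => by
    rw [QuadraticMap.polar_self, two_smul]
    exact CharTwo.add_self_eq_zero _
  have hind : ∀ v w : V, QuadraticMap.polar Q v w = 1 → LinearIndependent F ![v, w] := fun v w h => by
    rw [LinearIndependent.pair_iff]
    intro a b hab
    have e1 := congrArg (QuadraticMap.polar Q v) hab
    have e2 := congrArg (QuadraticMap.polar Q w) hab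
    simp only [QuadraticMap.polar_add_right, QuadraticMap.polar_smul_right, smul_eq_mul, hself, h,
      QuadraticMap.polar_comm Q w v, mul_zero, mul_one, zero_add, add_zero, QuadraticMap.polar_zero_right] at e1 e2
    exact ⟨e2, e1⟩
  have hQadd : ∀ (a : F) (x y : V), Q (a • x + y) = a * a * Q x + Q y + a * QuadraticMap.polar Q x y := fun a x y => by
    have h := QuadraticMap.polar_smul_left Q a x y
    rw [QuadraticMap.polar, QuadraticMap.map_smul, smul_eq_mul, smul_eq_mul] at h
    linear_combination h
  have hpart : ∀ v : V, v ≠ 0 → ∃ y, QuadraticMap.polar Q v y = 1 := fun v hv => by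
    obtain ⟨y, hy⟩ : ∃ y, QuadraticMap.polar Q v y ≠ 0 := by
      by_contra h
      push Not at h
      exact hv (hQ.1 v h)
    exact ⟨(QuadraticMap.polar Q v y)⁻¹ • y, by rw [QuadraticMap.polar_smul_right, smul_eq_mul, inv_mul_cancel₀ hy]⟩
  by_cases hiso : ∃ v : V, v ≠ 0 ∧ Q v = 0
  · obtain ⟨v, hv, hQv⟩ := hiso
    obtain ⟨y, hy⟩ := hpart v hv
    refine Or.inl ⟨v, Q y • v + y, hind _ _ ?_, hQv, ?_, ?_⟩
    · simp [QuadraticMap.polar_add_right, QuadraticMap.polar_smul_right, hself, hy]
    · rw [hQadd, hQv, hy]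
      linear_combination Q y * h0
    · simp [QuadraticMap.polar_add_right, QuadraticMap.polar_smul_right, hself, hy]
  · push Not at hiso
    haveI : Nontrivial V := Module.nontrivial_of_finrank_eq_succ h2
    obtain ⟨v₀, hv₀⟩ := exists_ne (0 : V)
    obtain ⟨c, hc⟩ := FiniteField.isSquare_of_char_two (ringChar.eq F 2) (Q v₀)
    have hc0 : c ≠ 0 := fun h => hiso v₀ hv₀ (by rw [hc, h, mul_zero])
    set v := c⁻¹ • v₀
    have hQv : Q v = 1 := by
      simp only [v, QuadraticMap.map_smul, smul_eq_mul, hc]
      field_simp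
    have hv : v ≠ 0 := fun h => by rw [h, QuadraticMap.map_zero] at hQv; exact zero_ne_one hQv
    obtain ⟨w, hw⟩ := hpart v hv
    refine Or.inr ⟨v, w, Q w, hind _ _ hw, fun x hx => ?_, hQv, rfl, hw⟩
    refine hiso (x • v + w) (fun h => ?_) ?_
    · have e := congrArg (QuadraticMap.polar Q v) h
      simp [QuadraticMap.polar_add_right, QuadraticMap.polar_smul_right, hself, hw] at e
    · rw [hQadd, hQv, hw]
      linear_combination hx

end Cfsg.Agent.S0763
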