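import Cfsg.Statements.S0768
import Mathlib
import Cfsg.Agent.Lib.Classical.SpGeneration

set_option autoImplicit false
open scoped LinearAlgebra.Projectivization Pointwise
open Cfsg

namespace Cfsg.Agent.S0768

open Cfsg.Agent.Small.PSpn in
/-- The symplectic matrices inside `spGL`. -/
noncomputable def toSp {F : Type*} [Field F] {m : ℕ} (g : Matrix.symplecticGroup (Fin m) F) :
    ↥(spGL m F) :=
  ⟨⟨g.1, (g⁻¹ : Matrix.symplecticGroup (Fin m) F).1, congrArg Subtype.val (mul_inv_cancel g),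
      congrArg Subtype.val (inv_mul_cancel g)⟩, fun u v => sf_act g u v⟩

open Cfsg.Agent.Small.PSpn in
theorem smul_mk {F : Type*} [Field F] {m : ℕ} (g : Matrix.symplecticGroup (Fin m) F)
    {u w : Fin m ⊕ Fin m → F} (hu : u ≠ 0) (hw : w ≠ 0) (h : act g u = w) :
    toSp g • Projectivization.mk F u hu = Projectivization.mk F w hw := by
  subst h
  rfl

open Cfsg.Agent.Small.PSpn in
theorem block_step {F : Type*} [Field F] {m : ℕ} {B : Set (Projectivization F (Fin m ⊕ Fin m → F))}
    (hB : MulAction.IsBlock ↥(spGL m F) B) {u w x : Fin m ⊕ Fin m → F} (hu : u ≠ 0) (hw : w ≠ 0)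
    (hx : x ≠ 0) (huB : Projectivization.mk F u hu ∈ B) (hwB : Projectivization.mk F w hw ∈ B)
    (huw : sf u w ≠ 0) (hux : sf u x ≠ 0) : Projectivization.mk F x hx ∈ B := by
  have h1 : sf u ((sf u w)⁻¹ • w) = 1 := by rw [sf_smul_right, inv_mul_cancel₀ huw]
  have h2 : sf u ((sf u x)⁻¹ • x) = 1 := by rw [sf_smul_right, inv_mul_cancel₀ hux]
  obtain ⟨g, -, hgu, hgw, -⟩ := Cfsg.Agent.Classical.SpGen.exists_pair_in (⊤ : Submodule F _)
    (fun a _ ha => by
      obtain ⟨y, hy⟩ := Cfsg.Agent.Lead.Symp.exists_form_ne ha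
      exact ⟨y, trivial, hy⟩) (Submodule.mem_top (x := u)) Submodule.mem_top Submodule.mem_top Submodule.mem_top h1 h2
  have e1 : toSp g • Projectivization.mk F u hu = Projectivization.mk F u hu := smul_mk g hu hu hgu
  have e2 : toSp g • B = B := MulAction.isBlock_iff_smul_eq_of_mem.1 hB huB (e1.symm ▸ huB)
  have hw' : (sf u w)⁻¹ • w ≠ 0 := smul_ne_zero (inv_ne_zero huw) hw
  have hx' : (sf u x)⁻¹ • x ≠ 0 := smul_ne_zero (inv_ne_zero hux) hx
  have hwB' : Projectivization.mk F _ hw' ∈ B := by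
    rwa [(Projectivization.mk_eq_mk_iff' F _ _ hw' hw).2 ⟨_, rfl⟩]
  have h3 := Set.smul_mem_smul_set (a := toSp g) hwB'
  rwa [e2, smul_mk g hw' hx' hgw, (Projectivization.mk_eq_mk_iff' F _ _ hx' hx).2 ⟨_, rfl⟩] at h3

/-- Primitivity: for m ≥ 1 and F finite, the symplectic group of the form sympForm (as a subgroup of the general linear group) acts primitively on the projective space of F^(2m). -/
theorem result {F : Type*} [Field F] [Finite F] (m : ℕ) (hm : 1 ≤ m) : MulAction.IsPreprimitive ↥(Cfsg.spGL m F) (ℙ F (Fin m ⊕ Fin m → F)) := by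
  classical
  open Cfsg.Agent.Small.PSpn in
  haveI : MulAction.IsPretransitive ↥(spGL m F) (Projectivization F (Fin m ⊕ Fin m → F)) := by
    refine ⟨fun p q => ?_⟩
    induction p using Projectivization.ind with | h u hu =>
    induction q using Projectivization.ind with | h v hv =>
    obtain ⟨A, -, hA⟩ := Cfsg.Agent.Lead.Symp.exists_move hu hv
    exact ⟨toSp A, smul_mk A hu hv hA⟩
  let a : Fin m ⊕ Fin m → F := Pi.single (Sum.inl ⟨0, hm⟩) 1
  have ha : a ≠ 0 := fun h => one_ne_zero (α := F) (by simpa [a] using congrFun h (Sum.inl ⟨0, hm⟩))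
  refine MulAction.IsPreprimitive.of_isTrivialBlock_base (Projectivization.mk F a ha) ?_
  intro B haB hB
  rcases Set.subsingleton_or_nontrivial B with hs | hs
  · exact Or.inl hs
  right
  obtain ⟨q, hqB, hq⟩ := hs.exists_ne (Projectivization.mk F a ha)
  induction q using Projectivization.ind with | h v hv =>
  open Cfsg.Agent.Small.PSpn in
  have key : ∃ (w : Fin m ⊕ Fin m → F) (hw : w ≠ 0),
      Projectivization.mk F w hw ∈ B ∧ sf a w ≠ 0 := by
    by_cases hav : sf a v ≠ 0
    · exact ⟨v, hv, hqB, hav⟩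
    simp only [not_not] at hav
    obtain ⟨b, hb⟩ := Cfsg.Agent.Lead.Symp.exists_form_ne hv
    have hw : ∃ w, sf w v = 0 ∧ sf w a ≠ 0 := by
      by_contra hno
      simp only [not_exists, not_and, not_not] at hno
      set c := sf b a / sf b v with hc
      have hbv : sf b v ≠ 0 := Cfsg.Agent.Classical.SpGen.sf_ne_swap hb
      have hz : ∀ z, sf z (a - c • v) = 0 := fun z => by
        have h := hno (z - (sf z v / sf b v) • b) (by
          rw [sf_sub_left, sf_smul_left, div_mul_cancel₀ _ hbv, sub_self])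
        rw [sf_sub_left, sf_smul_left] at h
        rw [sf_sub_right, sf_smul_right, hc]
        field_simp at h ⊢
        linear_combination h
      by_cases h0 : a - c • v = 0
      · exact hq ((Projectivization.mk_eq_mk_iff' F _ _ ha hv).2 ⟨c, (sub_eq_zero.mp h0).symm⟩).symm
      · obtain ⟨z, hz'⟩ := Cfsg.Agent.Lead.Symp.exists_form_ne h0
        exact Cfsg.Agent.Classical.SpGen.sf_ne_swap hz' (hz z)
    obtain ⟨w, hwv, hwa⟩ := hw
    have hw0 : w ≠ 0 := fun h => hwa (by rw [h, sf_zero_left])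
    obtain ⟨g, -, hga, hgx, -⟩ := Cfsg.Agent.Classical.SpGen.exists_step_in (⊤ : Submodule F _)
      (Submodule.mem_top (x := a)) Submodule.mem_top hwa
    have hgv : act g v = v := hgx v (by rw [sf_sub_left, hwv, hav, sub_zero])
    have e2 : toSp g • B = B := MulAction.isBlock_iff_smul_eq_of_mem.1 hB hqB
      ((smul_mk g hv hv hgv).symm ▸ hqB)
    have h3 := Set.smul_mem_smul_set (a := toSp g) haB
    rw [e2, smul_mk g ha hw0 hga] at h3
    exact ⟨w, hw0, h3, Cfsg.Agent.Classical.SpGen.sf_ne_swap hwa⟩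
  obtain ⟨w, hw0, hwB, haw⟩ := key
  refine Set.eq_univ_of_forall fun q' => ?_
  induction q' using Projectivization.ind with | h y hy =>
  obtain ⟨z, -, haz, hyz⟩ := Cfsg.Agent.Classical.SpGen.exists_common (⊤ : Submodule F _)
    (fun a _ ha => by
      obtain ⟨y, hy⟩ := Cfsg.Agent.Lead.Symp.exists_form_ne ha
      exact ⟨y, trivial, hy⟩) (Submodule.mem_top (x := a)) Submodule.mem_top ha hy
  have hz0 : z ≠ 0 := fun h => haz (by rw [h, Cfsg.Agent.Small.PSpn.sf_zero_right])
  have hzB := block_step hB ha hw0 hz0 haB hwB haw haz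
  exact block_step hB hz0 ha hy hzB haB (Cfsg.Agent.Classical.SpGen.sf_ne_swap haz)
    (Cfsg.Agent.Classical.SpGen.sf_ne_swap hyz)

end Cfsg.Agent.S0768
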