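import Cfsg.Statements.S0770
import Mathlib

set_option autoImplicit false
open Cfsg

namespace Cfsg.Agent.S0770

/-- For a field with at least 3 elements, an invertible matrix normalises the subgroup of invertible diagonal matrices of GL_n if and only if it is monomial (exactly one non-zero entry in each row). -/
theorem result {F : Type*} [Field F] (hF : ∃ a : F, a ≠ 0 ∧ a ≠ 1) (n : ℕ) (g : Matrix.GeneralLinearGroup (Fin n) F) : g ∈ Subgroup.normalizer ((Units.map (Matrix.diagonalRingHom (Fin n) F).toMonoidHom).range : Subgroup (Matrix.GeneralLinearGroup (Fin n) F)) ↔ ∀ i : Fin n, ∃! j : Fin n, (g : Matrix (Fin n) (Fin n) F) i j ≠ 0 := by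
  classical
  set D : Subgroup (GL (Fin n) F) := (Units.map (Matrix.diagonalRingHom (Fin n) F).toMonoidHom).range
  have hmemD : ∀ x : GL (Fin n) F, x ∈ D ↔ ∀ i j, i ≠ j → (x : Matrix (Fin n) (Fin n) F) i j = 0 := fun x => by
    constructor
    · rintro ⟨d, rfl⟩ i j hij
      exact Matrix.diagonal_apply_ne _ hij
    · intro h
      have hd : Matrix.diagonal (fun i => (x : Matrix (Fin n) (Fin n) F) i i) = (x : Matrix (Fin n) (Fin n) F) := by
        ext i j
        rcases eq_or_ne i j with rfl | hij
        · simp
        · simp [Matrix.diagonal_apply_ne _ hij, h i j hij]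
      have hu : IsUnit (fun i => (x : Matrix (Fin n) (Fin n) F) i i) := by
        rw [← Matrix.isUnit_diagonal, hd]
        exact x.isUnit
      exact ⟨hu.unit, Units.ext hd⟩
  constructor
  · intro hg i
    have hex : ∀ i, ∃ j, (g : Matrix (Fin n) (Fin n) F) i j ≠ 0 := fun i => by
      by_contra hcon
      push Not at hcon
      have hdet := Matrix.det_eq_zero_of_row_eq_zero i hcon
      exact (Matrix.GeneralLinearGroup.det g).ne_zero hdet
    obtain ⟨j, hj⟩ := hex i
    refine ⟨j, hj, fun k hk => ?_⟩
    by_contra hkj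
    obtain ⟨a, ha0, ha1⟩ := hF
    let d : (Fin n → F)ˣ := MulEquiv.piUnits.symm (Function.update 1 j (Units.mk0 a ha0))
    have hdv : ∀ l, (d : Fin n → F) l = if l = j then a else 1 := fun l => by
      change ((Function.update 1 j (Units.mk0 a ha0) : Fin n → Fˣ) l : F) = _
      rcases eq_or_ne l j with rfl | hl
      · simp
      · simp [Function.update_of_ne hl, hl]
    set x := Units.map (Matrix.diagonalRingHom (Fin n) F).toMonoidHom d
    have hx : (x : Matrix (Fin n) (Fin n) F) = Matrix.diagonal (d : Fin n → F) := rfl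
    have hy : g * x * g⁻¹ ∈ D := (Subgroup.mem_normalizer_iff.mp hg x).mp ⟨d, rfl⟩
    obtain ⟨e, he⟩ := hy
    have h : ∀ l, (e : Fin n → F) i * (g : Matrix (Fin n) (Fin n) F) i l =
        (g : Matrix (Fin n) (Fin n) F) i l * (d : Fin n → F) l := fun l => by
      have h1 : (Units.map (Matrix.diagonalRingHom (Fin n) F).toMonoidHom e) * g = g * x := by rw [he]; group
      have h2 := congrArg (fun z : GL (Fin n) F => (z : Matrix (Fin n) (Fin n) F) i l) h1
      simp only [Units.val_mul, hx] at h2
      rw [Matrix.mul_diagonal] at h2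
      change (Matrix.diagonal (e : Fin n → F) * (g : Matrix (Fin n) (Fin n) F)) i l = _ at h2
      rwa [Matrix.diagonal_mul] at h2
    have h1 := h j
    have h2 := h k
    rw [hdv, if_pos rfl] at h1
    rw [hdv, if_neg hkj] at h2
    have e1 : (e : Fin n → F) i = a := mul_right_cancel₀ hj (by linear_combination h1)
    have e2 : (e : Fin n → F) i = 1 := mul_right_cancel₀ hk (by linear_combination h2)
    exact ha1 (e1.symm.trans e2)
  · intro hg
    choose π hπ hπu using hg
    have hzero : ∀ i l, l ≠ π i → (g : Matrix (Fin n) (Fin n) F) i l = 0 := fun i l hl => by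
      by_contra h
      exact hl (hπu i l h)
    have hinj : Function.Injective π := fun i k hik => by
      by_contra hne
      have hdet : (g : Matrix (Fin n) (Fin n) F).det = 0 := by
        set c := (g : Matrix (Fin n) (Fin n) F) i (π i) / (g : Matrix (Fin n) (Fin n) F) k (π i)
        rw [← Matrix.det_updateRow_add_smul_self _ hne (-c)]
        refine Matrix.det_eq_zero_of_row_eq_zero i fun l => ?_
        rw [Matrix.updateRow_self, Pi.add_apply, Pi.smul_apply, smul_eq_mul]
        rcases eq_or_ne l (π i) with rfl | hl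
        · have hk0 : (g : Matrix (Fin n) (Fin n) F) k (π i) ≠ 0 := hik ▸ hπ k
          simp only [c]; field_simp; ring
        · rw [hzero i l hl, hzero k l (hik ▸ hl), mul_zero, add_zero]
      exact (Matrix.GeneralLinearGroup.det g).ne_zero hdet
    have hsurj := Finite.injective_iff_surjective.mp hinj
    have hinv : ∀ l k, π k ≠ l → ((g⁻¹ : GL (Fin n) F) : Matrix (Fin n) (Fin n) F) l k = 0 := fun l k hne => by
      obtain ⟨i, rfl⟩ := hsurj l
      have h1 : ((g : Matrix (Fin n) (Fin n) F) * ((g⁻¹ : GL (Fin n) F) : Matrix (Fin n) (Fin n) F)) i k = 0 := by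
        rw [Units.mul_inv, Matrix.one_apply_ne]
        exact fun e => hne (congrArg π e).symm
      rw [Matrix.mul_apply, Finset.sum_eq_single (π i) (fun l _ hl => by rw [hzero i l hl, zero_mul])
        (fun h => absurd (Finset.mem_univ _) h)] at h1
      exact (mul_eq_zero.mp h1).resolve_left (hπ i)
    rw [Subgroup.mem_normalizer_iff]
    intro x
    constructor <;> intro hx <;> rw [hmemD] at hx ⊢ <;> intro a b hab
    · simp only [Units.val_mul, Matrix.mul_apply]
      refine Finset.sum_eq_zero fun l _ => ?_
      rcases eq_or_ne l (π b) with rfl | hl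
      · rw [Finset.sum_mul]
        refine Finset.sum_eq_zero fun m _ => ?_
        rcases eq_or_ne m (π a) with rfl | hm
        · rw [hx _ _ (fun e => hab (hinj e))]; ring
        · rw [hzero a m hm]; ring
      · rw [hinv l b hl.symm, mul_zero]
    · obtain ⟨a', rfl⟩ := hsurj a
      obtain ⟨b', rfl⟩ := hsurj b
      have h1 := hx a' b' (fun e => hab (congrArg π e))
      simp only [Units.val_mul, Matrix.mul_apply] at h1
      rw [Finset.sum_eq_single (π b') (fun l _ hl => by rw [hinv l b' hl.symm, mul_zero]) (fun h => absurd (Finset.mem_univ _) h),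
        Finset.sum_eq_single (π a') (fun m _ hm => by rw [hzero a' m hm, zero_mul]) (fun h => absurd (Finset.mem_univ _) h)] at h1
      have hne : ((g⁻¹ : GL (Fin n) F) : Matrix (Fin n) (Fin n) F) (π b') b' ≠ 0 := fun h => by
        have h3 : ((g : Matrix (Fin n) (Fin n) F) * ((g⁻¹ : GL (Fin n) F) : Matrix (Fin n) (Fin n) F)) b' b' = 1 := by
          rw [Units.mul_inv, Matrix.one_apply_eq]
        rw [Matrix.mul_apply, Finset.sum_eq_single (π b') (fun l _ hl => by rw [hzero b' l hl, zero_mul])
          (fun h => absurd (Finset.mem_univ _) h), h, mul_zero] at h3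
        exact zero_ne_one h3
      exact (mul_eq_zero.mp ((mul_eq_zero.mp h1).resolve_right hne)).resolve_left (hπ a')

end Cfsg.Agent.S0770
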