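import Cfsg.Statements.S0772
import Cfsg.Agent.Lib.Classical.SubspaceMaximal

set_option autoImplicit false
open Cfsg Matrix

namespace Cfsg.Agent.S0772

/-- Maximal parabolics are maximal: over a finite field, for 0 < k < n the stabiliser in GL_n of the span of the first k coordinate vectors is a maximal proper subgroup. -/
theorem result {F : Type*} [Field F] [Finite F] (n k : ℕ) (hk0 : 0 < k) (hkn : k < n) : IsCoatom (Cfsg.stabilizing (Cfsg.glToMat (Fin n) F) {v : Fin n → F | ∀ i : Fin n, k ≤ (i : ℕ) → v i = 0}) := by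
  classical
  haveI : Nontrivial (Fin n) := Fin.nontrivial_iff_two_le.mpr (by omega)
  let W : Submodule F (Fin n → F) :=
    { carrier := {v | ∀ i : Fin n, k ≤ (i : ℕ) → v i = 0}
      add_mem' := fun {a b} ha hb i hi => by simp [ha i hi, hb i hi]
      zero_mem' := fun _ _ => rfl
      smul_mem' := fun c v hv i hi => by simp [hv i hi] }
  change IsCoatom (Cfsg.Geo.subspaceStabilizer W)
  have hW0 : W ≠ ⊥ := fun h => by
    have hm : (Pi.single (⟨0, by omega⟩ : Fin n) (1 : F) : Fin n → F) ∈ W := fun i hi =>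
      Pi.single_eq_of_ne (fun e => by rw [e] at hi; simp at hi; omega) _
    rw [h, Submodule.mem_bot] at hm
    simpa using congrFun hm ⟨0, by omega⟩
  have hW1 : W ≠ ⊤ := fun h => by
    have hm : (Pi.single (⟨k, hkn⟩ : Fin n) (1 : F) : Fin n → F) ∈ W := h ▸ Submodule.mem_top
    simpa using hm ⟨k, hkn⟩ le_rfl
  obtain ⟨g, -, hgW⟩ := Cfsg.Agent.Classical.exists_not_mem_stabilizer hW0 hW1
  refine ⟨fun h => hgW (h ▸ Subgroup.mem_top g), fun M hM => ?_⟩
  obtain ⟨a, ha, haW⟩ := SetLike.exists_of_lt hM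
  have hsl := Cfsg.Agent.Classical.specialLinear_le_of_stabilizer (inf_le_left.trans hM.le) ha haW
  refine eq_top_iff.mpr fun x _ => ?_
  let d : Fin n → F := Function.update 1 ⟨0, by omega⟩ (x : Matrix (Fin n) (Fin n) F).det
  have hd : (Matrix.diagonal d).det = (x : Matrix (Fin n) (Fin n) F).det := by
    rw [Matrix.det_diagonal, Finset.prod_update_of_mem (Finset.mem_univ _)]
    simp
  let D : GL (Fin n) F := Matrix.GeneralLinearGroup.mkOfDetNeZero _
    (by rw [hd]; exact (Matrix.GeneralLinearGroup.det x).ne_zero : (Matrix.diagonal d).det ≠ 0)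
  have hD : D ∈ M := hM.le (Cfsg.Agent.Classical.mem_subspaceStabilizer_iff.mpr fun w hw i hi => by
    change (Matrix.diagonal d *ᵥ w) i = 0
    rw [Matrix.mulVec_diagonal, hw i hi, mul_zero])
  have hx : x * D⁻¹ ∈ M := hsl (by
    change Matrix.GeneralLinearGroup.det (x * D⁻¹) = 1
    rw [map_mul, map_inv, mul_inv_eq_one]
    exact Units.ext hd.symm)
  simpa using mul_mem hx hD

end Cfsg.Agent.S0772
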