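import Cfsg.Statements.S0776
import Cfsg.Agent.Lib.Classical.StabSplit
import Cfsg.Agent.Lib.Classical.SymplecticIso

set_option autoImplicit false
open Cfsg

namespace Cfsg.Agent.S0776

open Matrix Classical.StabSplit

variable {F : Type*} [Field F]

theorem mem_iff_sympForm {m : ℕ} (A : Matrix (Fin m ⊕ Fin m) (Fin m ⊕ Fin m) F) :
    A ∈ Matrix.symplecticGroup (Fin m) F ↔
      ∀ x y, Cfsg.sympForm m F (A *ᵥ x) (A *ᵥ y) = Cfsg.sympForm m F x y := by
  have e : ∀ (M : Matrix (Fin m ⊕ Fin m) (Fin m ⊕ Fin m) F) x y,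
      Matrix.toLinearMap₂' F M x y = x ⬝ᵥ (M *ᵥ y) := fun M x y => Matrix.toLinearMap₂'_apply' M x y
  have e' : ∀ x y, Cfsg.sympForm m F (A *ᵥ x) (A *ᵥ y) = x ⬝ᵥ ((Aᵀ * Matrix.J (Fin m) F * A) *ᵥ y) := by
    intro x y
    rw [Cfsg.sympForm, Matrix.mulVec_mulVec, Matrix.mul_assoc Aᵀ, ← Matrix.mulVec_mulVec y Aᵀ,
      Matrix.dotProduct_mulVec x Aᵀ, Matrix.vecMul_transpose]
  rw [SymplecticGroup.mem_iff']
  constructor
  · intro h x y
    rw [e', h]
    rfl
  · intro h
    refine (Matrix.toLinearMap₂' F (S₁ := F) (S₂ := F) (N₂ := F)).injective (LinearMap.ext fun x => LinearMap.ext fun y => ?_)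
    rw [e, e, ← e', h]
    rfl

/-- Symplectic matrices as isometries. -/
noncomputable def spHom (m : ℕ) : Matrix.symplecticGroup (Fin m) F →* ↥(isoF (Cfsg.sympForm m F)) where
  toFun A := ⟨LinearEquiv.ofLinear (Matrix.toLin' A.1) (Matrix.toLin' (A⁻¹).1)
      (by rw [← Matrix.toLin'_mul, ← Submonoid.coe_mul, mul_inv_cancel, Submonoid.coe_one, Matrix.toLin'_one])
      (by rw [← Matrix.toLin'_mul, ← Submonoid.coe_mul, inv_mul_cancel, Submonoid.coe_one, Matrix.toLin'_one]),
    fun u v => (mem_iff_sympForm A.1).mp A.2 u v⟩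
  map_one' := Subtype.ext (LinearEquiv.ext fun x => by simp)
  map_mul' A B := Subtype.ext (LinearEquiv.ext fun x => by simp [Matrix.mulVec_mulVec])

theorem spHom_bijective (m : ℕ) : Function.Bijective (spHom (F := F) m) := by
  refine ⟨fun A B e => Subtype.ext (Matrix.toLin'.injective (LinearMap.ext fun x => ?_)), fun g => ?_⟩
  · exact LinearEquiv.congr_fun (congrArg Subtype.val e) x
  · refine ⟨⟨LinearMap.toMatrix' g.1.toLinearMap, (mem_iff_sympForm _).mpr fun x y => ?_⟩,
      Subtype.ext (LinearEquiv.ext fun x => ?_)⟩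
    · rw [← Matrix.toLin'_apply, ← Matrix.toLin'_apply, Matrix.toLin'_toMatrix']
      exact g.2 x y
    · show Matrix.toLin' (LinearMap.toMatrix' g.1.toLinearMap) x = g.1 x
      rw [Matrix.toLin'_toMatrix']
      rfl

/-- If W ≤ F^(2m) is a 2k-dimensional subspace on which the symplectic form is non-degenerate, then the stabiliser of W in Sp_2m(F) is isomorphic to Sp_2k(F) × Sp_(2m−2k)(F). -/
theorem result {F : Type*} [Field F] (m k : ℕ) (hk : k ≤ m) (W : Submodule F (Fin m ⊕ Fin m → F)) (hWk : Module.finrank F W = 2 * k) (hW : ∀ u ∈ W, (∀ v ∈ W, Cfsg.sympForm m F u v = 0) → u = 0) : Nonempty (↥(Cfsg.stabilizing (Cfsg.spToMat m F) (W : Set (Fin m ⊕ Fin m → F))) ≃* Matrix.symplecticGroup (Fin k) F × Matrix.symplecticGroup (Fin (m - k)) F) := by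
  classical
  have hf : ∀ u v, Cfsg.sympForm m F u v = Classical.SpCount.stdForm m F u v :=
    fun u v => (Classical.SpCount.stdForm_apply u v).symm
  have hA := Classical.SpCount.stdForm_isAltND (F := F) m
  have h1 : ∀ x y z, Cfsg.sympForm m F (x + y) z = Cfsg.sympForm m F x z + Cfsg.sympForm m F y z :=
    fun x y z => by simp [hf]
  have h2 : ∀ x y z, Cfsg.sympForm m F x (y + z) = Cfsg.sympForm m F x y + Cfsg.sympForm m F x z :=
    fun x y z => by simp [hf]
  have h3 : ∀ (c : F) x z, Cfsg.sympForm m F (c • x) z = c * Cfsg.sympForm m F x z :=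
    fun c x z => by simp [hf]
  have h4 : ∀ (c : F) x z, Cfsg.sympForm m F x (c • z) = id c * Cfsg.sympForm m F x z :=
    fun c x z => by simp [hf]
  have hr : ∀ x y, Cfsg.sympForm m F x y = 0 → Cfsg.sympForm m F y x = 0 := fun x y e => by
    rw [hf] at e ⊢
    rw [hA.swap, e, neg_zero]
  have hc := isCompl_perp _ id h1 h2 h3 h4 hW
  let B := Classical.SpCount.stdForm m F
  let U := perp _ h1 h3 W
  have hWB : Classical.SpCount.IsAltND (B.compl₁₂ W.subtype W.subtype) :=
    ⟨fun v => hA.self _, fun u hu => Subtype.ext (hW _ u.2 fun v hv => (hf _ _).trans (hu ⟨v, hv⟩))⟩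
  have hUB : Classical.SpCount.IsAltND (B.compl₁₂ U.subtype U.subtype) :=
    ⟨fun v => hA.self _, fun u hu => Subtype.ext (hA.nondeg _ fun z => by
      obtain ⟨⟨w, z'⟩, rfl⟩ := (W.prodEquivOfIsCompl U hc).surjective z
      show B (u : Fin m ⊕ Fin m → F) ((w : Fin m ⊕ Fin m → F) + z') = 0
      rw [map_add, show B (u : Fin m ⊕ Fin m → F) z' = 0 from hu z',
        ← hf, u.2 w w.2, add_zero])⟩
  have hdim : Module.finrank F U = 2 * (m - k) := by
    have := Submodule.finrank_add_eq_of_isCompl hc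
    rw [Module.finrank_fintype_fun_eq_card, Fintype.card_sum, Fintype.card_fin, hWk] at this
    change 2 * k + Module.finrank F U = m + m at this
    omega
  obtain ⟨e1⟩ := exists_stab_equiv _ id h1 h2 h3 h4 hr hW
  obtain ⟨e2⟩ := Classical.SpCount.exists_isomEquiv hWB hWk
  obtain ⟨e3⟩ := Classical.SpCount.exists_isomEquiv hUB hdim
  have hW' : isoF (fun x y : W => Cfsg.sympForm m F x y) = Classical.SpCount.isom (B.compl₁₂ W.subtype W.subtype) := by
    ext g
    exact forall₂_congr fun x y => by beta_reduce; rw [hf, hf]; rfl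
  have hU' : isoF (fun x y : U => Cfsg.sympForm m F x y) = Classical.SpCount.isom (B.compl₁₂ U.subtype U.subtype) := by
    ext g
    exact forall₂_congr fun x y => by beta_reduce; rw [hf, hf]; rfl
  let E := MulEquiv.ofBijective (spHom (F := F) m) (spHom_bijective m)
  have hs : (Cfsg.stabilizing (Cfsg.spToMat m F) (W : Set (Fin m ⊕ Fin m → F))).map E.toMonoidHom =
      stab (Cfsg.sympForm m F) W := by
    ext g
    obtain ⟨A, rfl⟩ := E.surjective g
    exact (Subgroup.mem_map_iff_mem E.injective).trans Iff.rfl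
  exact ⟨((E.subgroupMap _).trans (MulEquiv.subgroupCongr hs)).trans (e1.trans
    (((MulEquiv.subgroupCongr hW').trans e2).prodCongr ((MulEquiv.subgroupCongr hU').trans e3)))⟩

end Cfsg.Agent.S0776
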