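import Cfsg.Statements.S0774
import Cfsg.Agent.S0776
import Cfsg.Agent.Lib.Classical.SympFrames

set_option autoImplicit false
open Cfsg

namespace Cfsg.Agent.S0774

open Classical Classical.StabSplit Classical.TSFrames Matrix

/-- The flag. -/
def flagSub (F : Type*) [Field F] {m : ℕ} (k : Fin m) : Submodule F (Fin m ⊕ Fin m → F) where
  carrier := {v | (∀ i : Fin m, (k : ℕ) < (i : ℕ) → v (Sum.inl i) = 0) ∧ ∀ i : Fin m, v (Sum.inr i) = 0}
  zero_mem' := ⟨fun _ _ => rfl, fun _ => rfl⟩
  add_mem' {u v} hu hv := ⟨fun i hi => by rw [Pi.add_apply, hu.1 i hi, hv.1 i hi, add_zero],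
    fun i => by rw [Pi.add_apply, hu.2 i, hv.2 i, add_zero]⟩
  smul_mem' c v hv := ⟨fun i hi => by rw [Pi.smul_apply, hv.1 i hi, smul_zero],
    fun i => by rw [Pi.smul_apply, hv.2 i, smul_zero]⟩

variable {F : Type*} [Field F]

theorem mem_flagSub {m : ℕ} {k : Fin m} {v : Fin m ⊕ Fin m → F} : v ∈ flagSub F k ↔
    (∀ i : Fin m, (k : ℕ) < (i : ℕ) → v (Sum.inl i) = 0) ∧ ∀ i : Fin m, v (Sum.inr i) = 0 := Iff.rfl

theorem flag_li {m : ℕ} {s : Fin m → Fin m ⊕ Fin m → F} (hs : ∀ j, s j ∈ flagSub F j) :
    LinearIndependent F s ↔ ∀ j, s j (.inl j) ≠ 0 := by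
  classical
  obtain ⟨M, hM⟩ : ∃ M : Matrix (Fin m) (Fin m) F, M = Matrix.of fun j i => s j (.inl i) := ⟨_, rfl⟩
  have hdet : M.det = ∏ j, s j (.inl j) := by
    rw [Matrix.det_of_lowerTriangular M fun i j hij => ?_]
    · simp [hM]
    · rw [hM, Matrix.of_apply]
      exact (hs i).1 j hij
  have hiff : LinearIndependent F s ↔ LinearIndependent F M.row := by
    rw [Fintype.linearIndependent_iff, Fintype.linearIndependent_iff]
    refine forall_congr' fun g => imp_congr ?_ Iff.rfl
    constructor
    · intro h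
      funext i
      have := congrFun h (.inl i)
      simpa [hM, Matrix.row, Finset.sum_apply] using this
    · intro h
      funext i
      rcases i with i | i
      · have := congrFun h i
        simpa [hM, Matrix.row, Finset.sum_apply] using this
      · simp [Finset.sum_apply, (hs _).2 i]
  rw [hiff, Matrix.linearIndependent_rows_iff_isUnit, Matrix.isUnit_iff_isUnit_det, hdet, isUnit_iff_ne_zero,
    Finset.prod_ne_zero_iff]
  simp

/-- A vector of the flag from coordinates. -/
def mk {m : ℕ} (j : Fin m) (a : Fin j → F) (d : F) : Fin m ⊕ Fin m → F :=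
  Sum.elim (fun i => if h : (i : ℕ) < j then a ⟨i, h⟩ else if i = j then d else 0) fun _ => 0

theorem card_flag_frames [Fintype F] (m : ℕ) :
    Nat.card {s : Fin m → Fin m ⊕ Fin m → F // LinearIndependent F s ∧ ∀ j, s j ∈ flagSub F j} =
      ∏ j : Fin m, Fintype.card F ^ (j : ℕ) * (Fintype.card F - 1) := by
  classical
  have e : {s : Fin m → Fin m ⊕ Fin m → F // LinearIndependent F s ∧ ∀ j, s j ∈ flagSub F j} ≃
      ∀ j : Fin m, (Fin j → F) × {d : F // d ≠ 0} :=
    { toFun := fun s j => (fun i => s.1 j (.inl ⟨i, by omega⟩), ⟨s.1 j (.inl j), (flag_li s.2.2).mp s.2.1 j⟩)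
      invFun := fun a => ⟨fun j => mk j (a j).1 (a j).2.1,
        (flag_li fun j => ⟨fun i hi => by
          show (if h : (i : ℕ) < j then _ else if i = j then _ else 0) = 0
          rw [dif_neg (by omega), if_neg (fun e => by rw [e] at hi; omega)], fun i => rfl⟩).mpr
            (fun j => by simpa [mk] using (a j).2.2),
        fun j => ⟨fun i hi => by
          show (if h : (i : ℕ) < j then _ else if i = j then _ else 0) = 0
          rw [dif_neg (by omega), if_neg (fun e => by rw [e] at hi; omega)], fun i => rfl⟩⟩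
      left_inv := fun s => Subtype.ext (funext fun j => funext fun i => by
        rcases i with i | i
        · simp only [mk, Sum.elim_inl]
          split_ifs with h h'
          · rfl
          · rw [h']
          · exact ((s.2.2 j).1 i (by
              rcases lt_trichotomy (i : ℕ) j with g | g | g
              · exact absurd g h
              · exact absurd (Fin.ext g) h'
              · exact g)).symm
        · exact ((s.2.2 j).2 i).symm)
      right_inv := fun a => funext fun j => Prod.ext (funext fun i => by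
          simp only [mk, Sum.elim_inl]
          rw [dif_pos i.2]) (Subtype.ext (by simp [mk])) }
  rw [Nat.card_congr e, Nat.card_pi]
  refine Finset.prod_congr rfl fun j _ => ?_
  rw [Nat.card_prod, Nat.card_fun, Nat.card_fin, Nat.card_eq_fintype_card, Nat.card_eq_fintype_card,
    Fintype.card_subtype_compl, Fintype.card_subtype_eq]

/-- Borel subgroup of the symplectic group: the elements of Sp_2m(q) stabilising each of the totally isotropic coordinate subspaces ⟨e_0, ..., e_k⟩ (k < m) form a subgroup of order q^(m²) (q − 1)^m. -/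
theorem result {F : Type*} [Field F] [Fintype F] {q : ℕ} (hF : Fintype.card F = q) (m : ℕ) : Nat.card ↥(⨅ k : Fin m, Cfsg.stabilizing (Cfsg.spToMat m F) {v : Fin m ⊕ Fin m → F | (∀ i : Fin m, (k : ℕ) < (i : ℕ) → v (Sum.inl i) = 0) ∧ ∀ i : Fin m, v (Sum.inr i) = 0}) = q ^ (m ^ 2) * (q - 1) ^ m := by
  classical
  subst hF
  have hB := SpCount.stdForm_isAltND (F := F) m
  have hfun : Cfsg.sympForm m F = fun x y => SpCount.stdForm m F x y :=
    funext fun u => funext fun v => (SpCount.stdForm_apply u v).symm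
  have hV : Module.finrank F (Fin m ⊕ Fin m → F) = 2 * m := by
    rw [Module.finrank_fintype_fun_eq_card, Fintype.card_sum, Fintype.card_fin, two_mul]
  let E := MulEquiv.ofBijective (S0776.spHom (F := F) m) (S0776.spHom_bijective m)
  have hs : (⨅ k : Fin m, Cfsg.stabilizing (Cfsg.spToMat m F) {v : Fin m ⊕ Fin m → F |
      (∀ i : Fin m, (k : ℕ) < (i : ℕ) → v (Sum.inl i) = 0) ∧ ∀ i : Fin m, v (Sum.inr i) = 0}).map E.toMonoidHom =
      ⨅ k : Fin m, stab (Cfsg.sympForm m F) (flagSub F k) := by
    ext g
    obtain ⟨A, rfl⟩ := E.surjective g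
    refine (Subgroup.mem_map_iff_mem E.injective).trans ?_
    rw [Subgroup.mem_iInf, Subgroup.mem_iInf]
    exact forall_congr' fun k => Iff.rfl
  rw [Nat.card_congr ((E.subgroupMap _).trans (MulEquiv.subgroupCongr hs)).toEquiv]
  have hord : Nat.card ↥(isoF (Cfsg.sympForm m F)) = SympFrames.spOrd (Fintype.card F) m := by
    rw [← Nat.card_congr E.toEquiv, SympFrames.spOrd, SpCount.card_symplecticGroup]
  have hz : ∀ i j : Fin m, ∀ u ∈ flagSub F i, ∀ v ∈ flagSub F j, Cfsg.sympForm m F u v = 0 := by
    intro i j u hu v hv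
    rw [Cfsg.sympForm, dotProduct, Fintype.sum_sum_type]
    have : ∀ k, (Matrix.J (Fin m) F *ᵥ v) (.inl k) = 0 := fun k => by
      rw [Matrix.mulVec, dotProduct, Fintype.sum_sum_type]
      simp [SpCount.J_apply, hv.2]
    simp [this, hu.2]
  obtain ⟨s0, hs0⟩ : ∃ s0 : Fr F (Cfsg.sympForm m F) m, s0.1 = fun j => Pi.single (Sum.inl j) 1 := by
    have hmem : ∀ j : Fin m, (Pi.single (Sum.inl j) 1 : Fin m ⊕ Fin m → F) ∈ flagSub F j := fun j =>
      ⟨fun i hi => by rw [Pi.single_apply, if_neg (by simp; intro e; rw [e] at hi; omega)],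
        fun i => by simp⟩
    exact ⟨⟨fun j => Pi.single (Sum.inl j) 1, (flag_li hmem).mpr (fun j => by simp),
      fun i j => hz i j _ (hmem i) _ (hmem j)⟩, rfl⟩
  have hspan : ∀ k : Fin m, ∀ v ∈ flagSub F k,
      v = ∑ i : Fin m, v (.inl i) • (Pi.single (Sum.inl i) 1 : Fin m ⊕ Fin m → F) := by
    intro k v hv
    funext x
    rcases x with x | x
    · simp [Finset.sum_apply, Pi.single_apply]
    · simp [Finset.sum_apply, Pi.single_apply, hv.2]
  have h := card_stab_mul (⨅ k : Fin m, stab (Cfsg.sympForm m F) (flagSub F k))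
    {t : Fr F (Cfsg.sympForm m F) m | ∀ j, t.1 j ∈ flagSub F j} s0 (by
      intro t
      revert s0 t
      rw [hfun]
      intro s0 _ t
      exact SympFrames.exists_move hB s0 t) (fun g => by
      rw [Subgroup.mem_iInf]
      constructor
      · intro hg t ht j
        rw [← ht j, hs0]
        exact (hg j _).mp ⟨fun i hi => by beta_reduce; rw [Pi.single_apply, if_neg (by simp; intro e; rw [e] at hi; omega)],
          fun i => by simp⟩
      · intro e k v
        have hmono : ∀ i : Fin m, (i : ℕ) ≤ k → flagSub F i ≤ flagSub F k := fun i hik x hx =>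
          ⟨fun a ha => hx.1 a (lt_of_le_of_lt hik ha), hx.2⟩
        have hmap : (flagSub F k).map g.1.toLinearMap ≤ flagSub F k := by
          rintro _ ⟨x, hx, rfl⟩
          change g.1 x ∈ flagSub F k
          rw [hspan k x hx, map_sum]
          refine Submodule.sum_mem _ fun i _ => ?_
          rw [map_smul]
          by_cases hik : (i : ℕ) ≤ k
          · refine Submodule.smul_mem _ _ (hmono i hik ?_)
            have := e ⟨fun j => g.1 (s0.1 j), s0.2.1.map' g.1.toLinearMap g.1.ker,
              fun a b => by rw [g.2]; exact s0.2.2 a b⟩ (fun j => rfl) i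
            have h0 : s0.1 i = Pi.single (Sum.inl i) 1 := congrFun hs0 i
            change g.1 (s0.1 i) ∈ flagSub F i at this
            rwa [h0] at this
          · rw [hx.1 i (by omega), zero_smul]
            exact Submodule.zero_mem _
        have hmeq := Submodule.eq_of_le_of_finrank_eq hmap (LinearEquiv.finrank_map_eq g.1 _)
        constructor
        · intro hv; rw [← hmeq]; exact ⟨v, hv, rfl⟩
        · intro hv
          rw [← hmeq] at hv
          obtain ⟨w, hw, e'⟩ := hv
          exact g.1.injective e' ▸ hw)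
  have hT : Nat.card {t : Fr F (Cfsg.sympForm m F) m | ∀ j, t.1 j ∈ flagSub F j} =
      ∏ j : Fin m, Fintype.card F ^ (j : ℕ) * (Fintype.card F - 1) := by
    rw [← card_flag_frames m]
    exact Nat.card_congr
      { toFun := fun t => ⟨t.1.1, t.1.2.1, t.2⟩
        invFun := fun t => ⟨⟨t.1, t.2.1, fun i j => hz i j _ (t.2.2 i) _ (t.2.2 j)⟩, t.2.2⟩
        left_inv := fun t => rfl
        right_inv := fun t => rfl }
  have hfr : Nat.card (Fr F (Cfsg.sympForm m F) m) = SympFrames.fs (Fintype.card F) m m := by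
    rw [hfun]; exact SympFrames.card_fr m m hB hV
  rw [hord, hT, hfr, Finset.prod_mul_distrib, Finset.prod_const, Finset.card_univ, Fintype.card_fin,
    Finset.prod_pow_eq_pow_sum, Fin.sum_univ_eq_sum_range (fun i => i), Finset.sum_range_id] at h
  refine Nat.eq_of_mul_eq_mul_right (SympFrames.fs_pos (Fintype.one_lt_card (α := F)) m m le_rfl) (h.trans ?_)
  rw [← SympFrames.fs_identity m m le_rfl, SympFrames.spOrd, Nat.sub_self]
  have e : m * (m + 1) / 2 + m * (m - 1) / 2 = m ^ 2 := by
    obtain ⟨a, ha⟩ : 2 ∣ m * (m + 1) := (Nat.even_mul_succ_self m).two_dvd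
    have hb : m * (m - 1) + 2 * m = m * (m + 1) := by
      rcases m with _ | n
      · rfl
      · rw [Nat.add_sub_cancel]; ring
    have h2 : m * (m + 1) = m ^ 2 + m := by ring
    omega
  rw [← e, pow_add]
  simp
  ring

end Cfsg.Agent.S0774
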