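import Cfsg.Statements.S0775
import Cfsg.Agent.S0776
import Cfsg.Agent.Lib.Classical.SympFrames

set_option autoImplicit false
open Cfsg

namespace Cfsg.Agent.S0775

open Classical Classical.StabSplit Classical.TSFrames

/-- Maximal parabolics of the symplectic group: if W is a k-dimensional subspace of F^(2m) on which the symplectic form vanishes identically, its stabiliser in Sp_2m(q) has order q^(k(k+1)/2 + 2k(m−k)) · |Sp_(2m−2k)(q)| · |GL_k(q)|. -/
theorem result {F : Type*} [Field F] [Fintype F] {q : ℕ} (hF : Fintype.card F = q) (m k : ℕ) (hk : k ≤ m) (W : Submodule F (Fin m ⊕ Fin m → F)) (hWk : Module.finrank F W = k) (hW : ∀ u ∈ W, ∀ v ∈ W, Cfsg.sympForm m F u v = 0) : Nat.card ↥(Cfsg.stabilizing (Cfsg.spToMat m F) (W : Set (Fin m ⊕ Fin m → F))) = q ^ (k * (k + 1) / 2 + 2 * k * (m - k)) * (q ^ ((m - k) ^ 2) * ∏ i ∈ Finset.range (m - k), (q ^ (2 * (i + 1)) - 1)) * ∏ i : Fin k, (q ^ k - q ^ (i : ℕ)) := by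
  classical
  subst hF
  have hB := SpCount.stdForm_isAltND (F := F) m
  have hfun : Cfsg.sympForm m F = fun x y => SpCount.stdForm m F x y :=
    funext fun u => funext fun v => (SpCount.stdForm_apply u v).symm
  have hV : Module.finrank F (Fin m ⊕ Fin m → F) = 2 * m := by
    rw [Module.finrank_fintype_fun_eq_card, Fintype.card_sum, Fintype.card_fin, two_mul]
  let E := MulEquiv.ofBijective (S0776.spHom (F := F) m) (S0776.spHom_bijective m)
  have hs : (Cfsg.stabilizing (Cfsg.spToMat m F) (W : Set (Fin m ⊕ Fin m → F))).map E.toMonoidHom =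
      stab (Cfsg.sympForm m F) W := by
    ext g
    obtain ⟨A, rfl⟩ := E.surjective g
    exact (Subgroup.mem_map_iff_mem E.injective).trans Iff.rfl
  rw [Nat.card_congr ((E.subgroupMap _).trans (MulEquiv.subgroupCongr hs)).toEquiv]
  have hord : Nat.card ↥(isoF (Cfsg.sympForm m F)) = SympFrames.spOrd (Fintype.card F) m := by
    rw [← Nat.card_congr E.toEquiv, SympFrames.spOrd, SpCount.card_symplecticGroup]
  have hW0 := hW
  rw [hfun] at hW0 hord ⊢
  have h := card_stab_subspace_mul hWk hW0 (SympFrames.exists_move hB)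
  rw [hord, SympFrames.card_fr k m hB hV, Nat.card_eq_fintype_card (α := F)] at h
  refine Nat.eq_of_mul_eq_mul_right (SympFrames.fs_pos (Fintype.one_lt_card (α := F)) k m hk) (h.trans ?_)
  rw [← SympFrames.fs_identity k m hk, SympFrames.spOrd]
  ring

end Cfsg.Agent.S0775
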