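import Cfsg.Statements.S0777

set_option autoImplicit false
open Cfsg

namespace Cfsg.Agent.S0777

open Matrix

variable {F : Type*} [Field F] {m : ℕ}

/-- Monomial matrices. -/
def mon (π : (Fin m ⊕ Fin m) ≃ (Fin m ⊕ Fin m)) (c : Fin m ⊕ Fin m → F) :
    Matrix (Fin m ⊕ Fin m) (Fin m ⊕ Fin m) F :=
  Matrix.of fun a x => if a = π x then c x else 0

theorem mon_mem {π : (Fin m ⊕ Fin m) ≃ (Fin m ⊕ Fin m)} {c : Fin m ⊕ Fin m → F} :
    mon π c ∈ Matrix.symplecticGroup (Fin m) F ↔
      ∀ x y, c x * c y * Matrix.J (Fin m) F (π x) (π y) = Matrix.J (Fin m) F x y := by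
  have key : ∀ x y, ((mon π c)ᵀ * Matrix.J (Fin m) F * mon π c) x y =
      c x * c y * Matrix.J (Fin m) F (π x) (π y) := fun x y => by
    rw [Matrix.mul_apply, Finset.sum_eq_single (π y) (fun a _ ha => by simp [mon, ha]) (by simp), Matrix.mul_apply,
      Finset.sum_eq_single (π x) (fun a _ ha => by simp [mon, ha]) (by simp)]
    simp [mon]
    ring
  rw [SymplecticGroup.mem_iff']
  exact ⟨fun h x y => by rw [← key, h], fun h => Matrix.ext fun x y => by rw [key, h]⟩

theorem J_ll (i j : Fin m) : Matrix.J (Fin m) F (.inl i) (.inl j) = 0 := by simp [Matrix.J]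

theorem J_rr (i j : Fin m) : Matrix.J (Fin m) F (.inr i) (.inr j) = 0 := by simp [Matrix.J]

theorem J_lr (i j : Fin m) : Matrix.J (Fin m) F (.inl i) (.inr j) = if i = j then -1 else 0 := by
  simp [Matrix.J, Matrix.one_apply]
  split_ifs <;> simp

theorem J_rl (i j : Fin m) : Matrix.J (Fin m) F (.inr i) (.inl j) = if i = j then 1 else 0 := by
  simp [Matrix.J, Matrix.one_apply]

theorem J_ne {x y : Fin m ⊕ Fin m} : Matrix.J (Fin m) F x y ≠ 0 ↔ y = x.swap := by
  rcases x with i | i <;> rcases y with j | j <;>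
    simp [J_ll, J_lr, J_rl, J_rr, eq_comm]

/-- The signed permutation. -/
def sperm (σ : Equiv.Perm (Fin m)) (ε : Fin m → Bool) : (Fin m ⊕ Fin m) ≃ (Fin m ⊕ Fin m) where
  toFun := Sum.elim (fun i => if ε i then .inr (σ i) else .inl (σ i)) (fun i => if ε i then .inl (σ i) else .inr (σ i))
  invFun := Sum.elim (fun j => if ε (σ.symm j) then .inr (σ.symm j) else .inl (σ.symm j))
    (fun j => if ε (σ.symm j) then .inl (σ.symm j) else .inr (σ.symm j))
  left_inv x := by rcases x with i | i <;> cases h : ε i <;> simp [h]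
  right_inv x := by rcases x with i | i <;> cases h : ε (σ.symm i) <;> simp [h]

/-- The coefficients. -/
def scoef (ε : Fin m → Bool) (d : Fin m → Fˣ) : Fin m ⊕ Fin m → F :=
  Sum.elim (fun i => (d i : F)) (fun i => if ε i then -((d i)⁻¹ : Fˣ) else ((d i)⁻¹ : Fˣ))

theorem sperm_mem (σ : Equiv.Perm (Fin m)) (ε : Fin m → Bool) (d : Fin m → Fˣ) :
    mon (sperm σ ε) (scoef ε d) ∈ Matrix.symplecticGroup (Fin m) F := by
  rw [mon_mem]
  rintro (i | i) (j | j) <;> rcases eq_or_ne i j with rfl | hij
  · cases h : ε i <;> simp [sperm, scoef, h, J_ll, J_rr]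
  · cases h : ε i <;> cases h' : ε j <;> simp [sperm, scoef, h, h', J_ll, J_rr, J_lr, J_rl, hij]
  · cases h : ε i <;> simp [sperm, scoef, h, J_lr, J_rl]
  · cases h : ε i <;> cases h' : ε j <;> simp [sperm, scoef, h, h', J_ll, J_rr, J_lr, J_rl, hij]
  · cases h : ε i <;> simp [sperm, scoef, h, J_lr, J_rl]
  · cases h : ε i <;> cases h' : ε j <;> simp [sperm, scoef, h, h', J_ll, J_rr, J_lr, J_rl, hij]
  · cases h : ε i <;> simp [sperm, scoef, h, J_ll, J_rr]
  · cases h : ε i <;> cases h' : ε j <;> simp [sperm, scoef, h, h', J_ll, J_rr, J_lr, J_rl, hij]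

theorem mem_torus (g : Matrix.symplecticGroup (Fin m) F) :
    g ∈ (⨅ i : Fin m ⊕ Fin m, Cfsg.stabilizing (Cfsg.spToMat m F)
      ((Submodule.span F {(Pi.single i (1 : F) : Fin m ⊕ Fin m → F)} : Submodule F (Fin m ⊕ Fin m → F)) :
        Set (Fin m ⊕ Fin m → F))) ↔ ∀ a x, a ≠ x → g.1 a x = 0 := by
  rw [Subgroup.mem_iInf]
  have hcol : ∀ (M : Matrix (Fin m ⊕ Fin m) (Fin m ⊕ Fin m) F) (x : Fin m ⊕ Fin m) (t : F),
      M *ᵥ (t • (Pi.single x 1 : Fin m ⊕ Fin m → F)) = t • fun a => M a x := fun M x t => by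
    rw [Matrix.mulVec_smul, Matrix.mulVec_single_one]; rfl
  constructor
  · intro h a x hax
    have h1 := (h x (Pi.single x 1)).mp (Submodule.mem_span_singleton_self _)
    obtain ⟨t, ht⟩ := Submodule.mem_span_singleton.mp h1
    have := congrFun ht a
    simp [Matrix.mulVec_single_one, hax] at this
    exact this.symm
  · intro h x v
    have hd : ∀ (w : Fin m ⊕ Fin m → F) a, (g.1 *ᵥ w) a = g.1 a a * w a := fun w a => by
      rw [Matrix.mulVec, dotProduct, Finset.sum_eq_single a (fun b _ hb => by rw [h a b (Ne.symm hb), zero_mul]) (by simp)]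
    have hne : ∀ a, g.1 a a ≠ 0 := fun a e => by
      have h0 := congrArg (fun M : Matrix (Fin m ⊕ Fin m) (Fin m ⊕ Fin m) F => M a a)
        (congrArg Subtype.val (mul_inv_cancel g))
      simp only [Submonoid.coe_mul, Submonoid.coe_one, Matrix.mul_apply, Matrix.one_apply_eq] at h0
      rw [Finset.sum_eq_single a (fun b _ hb => by rw [h a b (Ne.symm hb), zero_mul]) (by simp), e, zero_mul] at h0
      exact zero_ne_one h0
    have hmem : ∀ w : Fin m ⊕ Fin m → F,
        w ∈ Submodule.span F {(Pi.single x (1 : F) : Fin m ⊕ Fin m → F)} ↔ ∀ a, a ≠ x → w a = 0 := fun w => by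
      rw [Submodule.mem_span_singleton]
      refine ⟨?_, fun hw => ⟨w x, funext fun a => ?_⟩⟩
      · rintro ⟨t, rfl⟩ a ha
        simp [ha]
      · by_cases ha : a = x
        · subst ha; simp
        · simp [ha, hw a ha]
    simp only [SetLike.mem_coe, hmem]
    refine forall_congr' fun a => imp_congr_right fun _ => ?_
    show v a = 0 ↔ (g.1 *ᵥ v) a = 0
    rw [hd]
    simp [hne a]

/-- Weyl group of type C_m: for q ≥ 4 the diagonal matrices of Sp_2m(q) form a torus T ≅ (C_(q−1))^m (the elements stabilising every coordinate axis), and the normaliser of T in Sp_2m(q) has order 2^m · m! · (q − 1)^m. -/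
theorem result {F : Type*} [Field F] [Fintype F] {q : ℕ} (hF : Fintype.card F = q) (hq : 4 ≤ q) (m : ℕ) : Nat.card ↥(Subgroup.normalizer (⨅ i : Fin m ⊕ Fin m, Cfsg.stabilizing (Cfsg.spToMat m F) ((Submodule.span F {(Pi.single i (1 : F) : Fin m ⊕ Fin m → F)} : Submodule F (Fin m ⊕ Fin m → F)) : Set (Fin m ⊕ Fin m → F)) : Set (Matrix.symplecticGroup (Fin m) F))) = 2 ^ m * Nat.factorial m * (q - 1) ^ m := by
  classical
  subst hF
  obtain ⟨T, hT⟩ : ∃ T, T = (⨅ i : Fin m ⊕ Fin m, Cfsg.stabilizing (Cfsg.spToMat m F)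
      ((Submodule.span F {(Pi.single i (1 : F) : Fin m ⊕ Fin m → F)} : Submodule F (Fin m ⊕ Fin m → F)) :
        Set (Fin m ⊕ Fin m → F))) := ⟨_, rfl⟩
  rw [show (⨅ i : Fin m ⊕ Fin m, (Cfsg.stabilizing (Cfsg.spToMat m F)
      ((Submodule.span F {(Pi.single i (1 : F) : Fin m ⊕ Fin m → F)} : Submodule F (Fin m ⊕ Fin m → F)) :
        Set (Fin m ⊕ Fin m → F)) : Set (Matrix.symplecticGroup (Fin m) F))) =
      (T : Set (Matrix.symplecticGroup (Fin m) F)) by rw [hT, Subgroup.coe_iInf]; rfl]
  have hmemT : ∀ g, g ∈ T ↔ ∀ a x, a ≠ x → g.1 a x = 0 := fun g => hT ▸ mem_torus g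
  let P := Equiv.Perm (Fin m) × (Fin m → Bool) × (Fin m → Fˣ)
  let Φ : P → Matrix.symplecticGroup (Fin m) F := fun p =>
    ⟨mon (sperm p.1 p.2.1) (scoef p.2.1 p.2.2), sperm_mem _ _ _⟩
  have hcne : ∀ (p : P) x, scoef p.2.1 p.2.2 x ≠ 0 := fun p x => by
    rcases x with i | i
    · simp [scoef]
    · cases h : p.2.1 i <;> simp [scoef, h]
  have hN : ∀ p, Φ p ∈ Subgroup.normalizer (T : Set (Matrix.symplecticGroup (Fin m) F)) := by
    intro p
    rw [Subgroup.mem_normalizer_iff]
    intro g
    obtain ⟨π, hπ⟩ : ∃ π, π = sperm p.1 p.2.1 := ⟨_, rfl⟩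
    have hM : ∀ a x, (Φ p).1 a x = if a = π x then scoef p.2.1 p.2.2 x else 0 := fun a x => by rw [hπ]; rfl
    obtain ⟨g', hg'⟩ : ∃ g', g' = Φ p * g * (Φ p)⁻¹ := ⟨_, rfl⟩
    rw [← hg', hmemT, hmemT]
    have he : (Φ p).1 * g.1 = g'.1 * (Φ p).1 := congrArg Subtype.val (show Φ p * g = g' * Φ p by rw [hg']; group)
    have hrel : ∀ a x, g'.1 (π a) (π x) * scoef p.2.1 p.2.2 x = scoef p.2.1 p.2.2 a * g.1 a x := fun a x => by
      have h1 := congrFun (congrFun he (π a)) x
      rw [Matrix.mul_apply, Matrix.mul_apply,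
        Finset.sum_eq_single a (fun b _ hb => by simp [hM, π.injective.eq_iff, Ne.symm hb]) (by simp),
        Finset.sum_eq_single (π x) (fun b _ hb => by simp [hM, hb]) (by simp)] at h1
      simpa [hM] using h1.symm
    constructor
    · intro h a x hax
      obtain ⟨a, rfl⟩ := π.surjective a
      obtain ⟨x, rfl⟩ := π.surjective x
      have := hrel a x
      rw [h a x (fun e => hax (congrArg π e)), mul_zero] at this
      exact (mul_eq_zero.mp this).resolve_right (hcne p x)
    · intro h a x hax
      have := hrel a x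
      rw [h _ _ (π.injective.ne hax), zero_mul] at this
      exact (mul_eq_zero.mp this.symm).resolve_left (hcne p a)
  have hinj : Function.Injective Φ := by
    intro p p' e
    have h : ∀ a x, mon (sperm p.1 p.2.1) (scoef p.2.1 p.2.2) a x = mon (sperm p'.1 p'.2.1) (scoef p'.2.1 p'.2.2) a x :=
      fun a x => congrFun (congrFun (congrArg Subtype.val e) a) x
    have hπ : ∀ x, sperm p.1 p.2.1 x = sperm p'.1 p'.2.1 x := fun x => by
      by_contra hne
      have := h (sperm p.1 p.2.1 x) x
      simp [mon, hne] at this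
      exact hcne p x this
    have hσ : ∀ i, p.1 i = p'.1 i ∧ p.2.1 i = p'.2.1 i := fun i => by
      have := hπ (.inl i)
      cases h1 : p.2.1 i <;> cases h2 : p'.2.1 i <;> simp [sperm, h1, h2] at this <;> exact ⟨this, rfl⟩
    refine Prod.ext (Equiv.ext fun i => (hσ i).1) (Prod.ext (funext fun i => (hσ i).2) (funext fun i => Units.ext ?_))
    have := h (sperm p.1 p.2.1 (.inl i)) (.inl i)
    simpa [mon, ← hπ, scoef] using this
  have hsurj : ∀ A ∈ Subgroup.normalizer (T : Set (Matrix.symplecticGroup (Fin m) F)), ∃ p, Φ p = A := by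
    intro A hA
    -- every column has a single non-zero entry
    have hcol : ∀ x, ∀ a b, A.1 a x ≠ 0 → A.1 b x ≠ 0 → a = b := by
      intro x a b ha hb
      by_contra hab
      obtain ⟨t, ht⟩ : ∃ t : Fˣ, t ≠ t⁻¹ ∧ t ≠ 1 := by
        by_contra hc
        push Not at hc
        have h2 : ∀ t : Fˣ, (t : F) = 1 ∨ (t : F) = -1 := fun t => by
          by_cases h1 : t = t⁻¹
          · refine mul_self_eq_one_iff.mp ?_
            rw [← Units.val_mul]
            conv_lhs => arg 1; arg 2; rw [h1]
            simp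
          · exact Or.inl (by rw [hc t h1]; rfl)
        have : (Finset.univ : Finset F) ⊆ {0, 1, -1} := fun z _ => by
          by_cases hz : z = 0
          · simp [hz]
          · rcases h2 (Units.mk0 z hz) with e | e <;> simp only [Units.val_mk0] at e <;> simp [e]
        have := Finset.card_le_card this
        rw [Finset.card_univ] at this
        have := Finset.card_le_three (a := (0 : F)) (b := 1) (c := -1)
        omega
      obtain ⟨d, hd⟩ : ∃ d : Fin m → Fˣ, scoef (fun _ => false) d a ≠ scoef (fun _ => false) d b := by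
        rcases a with i | i <;> rcases b with j | j
        · exact ⟨Function.update 1 i t, by
            have : i ≠ j := fun e => hab (by rw [e])
            simp [scoef, this.symm]
            exact fun e => ht.2 e⟩
        · exact ⟨Function.update 1 i t, by
            rcases eq_or_ne i j with rfl | this
            · simp [scoef]; exact fun e => ht.1 (Units.ext (by simpa using e))
            · simp [scoef, this.symm]; exact fun e => ht.2 e⟩
        · exact ⟨Function.update 1 j t, by
            rcases eq_or_ne j i with rfl | this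
            · simp [scoef]; exact fun e => ht.1 (Units.ext (by simpa using e.symm))
            · simp [scoef, this.symm]; exact fun e => ht.2 (Units.ext e.symm)⟩
        · exact ⟨Function.update 1 i t, by
            have : i ≠ j := fun e => hab (by rw [e])
            simp [scoef, this.symm]
            exact fun e => ht.2 e⟩
      obtain ⟨D, hD⟩ : ∃ D, D = Φ (Equiv.refl _, fun _ => false, d) := ⟨_, rfl⟩
      have hDv : ∀ u w, D.1 u w = if u = w then scoef (fun _ => false) d w else 0 := fun u w => by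
        rw [hD]
        show (if u = sperm _ _ w then _ else _) = _
        have : sperm (Equiv.refl (Fin m)) (fun _ => false) w = w := by rcases w with i | i <;> rfl
        rw [this]
      have hDT : D ∈ T := (hmemT D).mpr fun u w hne => by rw [hDv, if_neg hne]
      obtain ⟨D', hD'⟩ : ∃ D', D' = A⁻¹ * D * A := ⟨_, rfl⟩
      have hD'T : D' ∈ T := by
        have := ((Subgroup.mem_normalizer_iff.mp hA) D').mpr (by rw [hD']; simpa [mul_assoc] using hDT)
        exact this
      have he : D.1 * A.1 = A.1 * D'.1 := congrArg Subtype.val (show D * A = A * D' by rw [hD']; group)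
      have hrel : ∀ u, scoef (fun _ => false) d u * A.1 u x = A.1 u x * D'.1 x x := fun u => by
        have h1 := congrFun (congrFun he u) x
        rwa [Matrix.mul_apply, Matrix.mul_apply, Finset.sum_eq_single u (fun w _ hw => by rw [hDv, if_neg (Ne.symm hw), zero_mul]) (by simp),
          Finset.sum_eq_single x (fun w _ hw => by rw [(hmemT D').mp hD'T w x hw, mul_zero]) (by simp),
          hDv, if_pos rfl] at h1
      have ea := hrel a
      have eb := hrel b
      rw [mul_comm (A.1 a x)] at ea
      rw [mul_comm (A.1 b x)] at eb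
      exact hd ((mul_right_cancel₀ ha ea).trans (mul_right_cancel₀ hb eb).symm)
    have hex : ∀ x, ∃ a, A.1 a x ≠ 0 := fun x => by
      by_contra hc
      push Not at hc
      have := congrArg (fun M : Matrix (Fin m ⊕ Fin m) (Fin m ⊕ Fin m) F => M x x)
        (congrArg Subtype.val (inv_mul_cancel A))
      simp only [Submonoid.coe_mul, Submonoid.coe_one, Matrix.mul_apply, Matrix.one_apply_eq, hc, mul_zero,
        Finset.sum_const_zero] at this
      exact zero_ne_one this
    choose π hπ using hex
    have hA' : ∀ a x, A.1 a x = if a = π x then A.1 (π x) x else 0 := fun a x => by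
      split_ifs with h
      · rw [h]
      · by_contra hne
        exact h (hcol x a (π x) hne (hπ x))
    have hJ : ∀ x y, A.1 (π x) x * A.1 (π y) y * Matrix.J (Fin m) F (π x) (π y) = Matrix.J (Fin m) F x y := by
      intro x y
      rw [← show ((A.1)ᵀ * Matrix.J (Fin m) F * A.1) x y = Matrix.J (Fin m) F x y by
        rw [SymplecticGroup.mem_iff'.mp A.2]]
      rw [Matrix.mul_apply, Finset.sum_eq_single (π y) (fun a _ ha => by rw [hA' a y, if_neg ha, mul_zero]) (by simp),
        Matrix.mul_apply, Finset.sum_eq_single (π x) (fun a _ ha => by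
          rw [Matrix.transpose_apply, hA' a x, if_neg ha, zero_mul]) (by simp), Matrix.transpose_apply]
      ring
    have hswap : ∀ x, π x.swap = (π x).swap := fun x => by
      refine (J_ne (F := F)).mp fun e => ?_
      have := hJ x x.swap
      rw [e, mul_zero] at this
      exact (J_ne (F := F)).mpr rfl this.symm
    let tau : Fin m ⊕ Fin m → Fin m := Sum.elim id id
    have htau : ∀ x : Fin m ⊕ Fin m, x = .inl (tau x) ∨ x = .inr (tau x) := fun x => by
      rcases x with i | i <;> simp [tau]
    have hπinj : Function.Injective π := by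
      intro x y e
      by_contra hne
      have h1 := hJ x x.swap
      have h2 := hJ y x.swap
      rw [← e] at h2
      have h3 : Matrix.J (Fin m) F y x.swap = 0 := by
        by_contra h4
        exact hne (by simpa using congrArg Sum.swap ((J_ne (F := F)).mp h4))
      rw [h3, mul_eq_zero, mul_eq_zero] at h2
      have h5 := (J_ne (F := F)).mpr (hswap x)
      rcases h2 with (h2 | h2) | h2
      · exact hπ y (by rw [e] at h2; exact h2)
      · exact hπ x.swap h2
      · exact h5 h2
    have hσinj : Function.Injective fun i => tau (π (.inl i)) := by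
      intro i j e
      simp only at e
      rcases htau (π (.inl i)) with hi | hi <;> rcases htau (π (.inl j)) with hj | hj <;> rw [e] at hi
      · simpa using hπinj (hi.trans hj.symm)
      · have : π (.inl i) = π (.inr j) := by rw [hi, show (Sum.inr j : Fin m ⊕ Fin m) = (Sum.inl j).swap from rfl, hswap, hj]; rfl
        simpa using hπinj this
      · have : π (.inl i) = π (.inr j) := by rw [hi, show (Sum.inr j : Fin m ⊕ Fin m) = (Sum.inl j).swap from rfl, hswap, hj]; rfl
        simpa using hπinj this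
      · simpa using hπinj (hi.trans hj.symm)
    obtain ⟨σ, hσ⟩ : ∃ σ : Equiv.Perm (Fin m), ∀ i, σ i = tau (π (.inl i)) :=
      ⟨Equiv.ofBijective _ (Finite.injective_iff_bijective.mp hσinj), fun i => rfl⟩
    obtain ⟨ε, hε⟩ : ∃ ε : Fin m → Bool, ∀ i, ε i = (π (.inl i)).isRight := ⟨_, fun i => rfl⟩
    have hsp : ∀ x, sperm σ ε x = π x := by
      have hl : ∀ i, sperm σ ε (.inl i) = π (.inl i) := fun i => by
        rcases h : π (.inl i) with j | j <;> simp [sperm, hε, hσ, tau, h]
      rintro (i | i)
      · exact hl i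
      · rw [show π (.inr i) = (π (.inl i)).swap from hswap (.inl i), ← hl i]
        cases h : ε i <;> simp [sperm, h]
    obtain ⟨d, hd⟩ : ∃ d : Fin m → Fˣ, ∀ i, (d i : F) = A.1 (π (.inl i)) (.inl i) :=
      ⟨fun i => Units.mk0 _ (hπ (.inl i)), fun i => rfl⟩
    refine ⟨(σ, ε, d), Subtype.ext (Matrix.ext fun a x => ?_)⟩
    show (if a = sperm σ ε x then scoef ε d x else 0) = _
    rw [hsp, hA' a x]
    congr 1
    rcases x with i | i
    · exact hd i
    · have h1 := (mon_mem.mp (sperm_mem σ ε d)) (.inl i) (.inr i)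
      have h2 := hJ (.inl i) (.inr i)
      rw [hsp, hsp, show scoef ε d (.inl i) = A.1 (π (.inl i)) (.inl i) from hd i, ← h2] at h1
      have h5 : Matrix.J (Fin m) F (π (.inl i)) (π (.inr i)) ≠ 0 := (J_ne (F := F)).mpr (hswap (.inl i))
      exact mul_left_cancel₀ (hπ (.inl i)) (mul_right_cancel₀ h5 h1)
  rw [← Nat.card_congr (Equiv.ofBijective (fun p => (⟨Φ p, hN p⟩ :
      ↥(Subgroup.normalizer (T : Set (Matrix.symplecticGroup (Fin m) F)))))
    ⟨fun p p' e => hinj (congrArg Subtype.val e), fun A => (hsurj A.1 A.2).imp fun p hp => Subtype.ext hp⟩)]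
  simp only [P, Nat.card_prod, Nat.card_fun, Nat.card_fin, Nat.card_perm, Nat.card_units,
    Nat.card_eq_fintype_card (α := F), Nat.card_eq_fintype_card (α := Bool), Fintype.card_bool]
  ring

end Cfsg.Agent.S0777
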