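import Cfsg.Statements.S0837
import Cfsg.Agent.Lib.Classical.StabSplit
import Cfsg.Agent.Lib.Classical.UnitaryCount

set_option autoImplicit false
open Cfsg

namespace Cfsg.Agent.S0837

open Matrix Classical.StabSplit

variable {F : Type*} [Field F]

/-- Unitary matrices as isometries. -/
noncomputable def guHom (n q : ℕ) : ↥(Cfsg.GU n F q) →* ↥(isoF (Cfsg.hermForm n F q)) where
  toFun A := ⟨LinearEquiv.ofLinear (Matrix.toLin' A.1.1) (Matrix.toLin' (A⁻¹).1.1)
      (by rw [← Matrix.toLin'_mul, ← Units.val_mul, ← Subgroup.coe_mul, mul_inv_cancel, Subgroup.coe_one,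
        Units.val_one, Matrix.toLin'_one])
      (by rw [← Matrix.toLin'_mul, ← Units.val_mul, ← Subgroup.coe_mul, inv_mul_cancel, Subgroup.coe_one,
        Units.val_one, Matrix.toLin'_one]),
    fun u v => A.2 u v⟩
  map_one' := Subtype.ext (LinearEquiv.ext fun x => by simp)
  map_mul' A B := Subtype.ext (LinearEquiv.ext fun x => by simp [Matrix.mulVec_mulVec])

theorem guHom_bijective (n q : ℕ) : Function.Bijective (guHom (F := F) n q) := by
  refine ⟨fun A B e => Subtype.ext (Units.ext (Matrix.toLin'.injective (LinearMap.ext fun x => ?_))), fun g => ?_⟩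
  · exact LinearEquiv.congr_fun (congrArg Subtype.val e) x
  · refine ⟨⟨⟨LinearMap.toMatrix' g.1.toLinearMap, LinearMap.toMatrix' g.1.symm.toLinearMap, ?_, ?_⟩,
      fun x y => ?_⟩, Subtype.ext (LinearEquiv.ext fun x => ?_)⟩
    · rw [← LinearMap.toMatrix'_comp, LinearEquiv.comp_coe, LinearEquiv.symm_trans_self, LinearEquiv.refl_toLinearMap,
        LinearMap.toMatrix'_id]
    · rw [← LinearMap.toMatrix'_comp, LinearEquiv.comp_coe, LinearEquiv.self_trans_symm, LinearEquiv.refl_toLinearMap,
        LinearMap.toMatrix'_id]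
    · show Cfsg.hermForm n F q (LinearMap.toMatrix' g.1.toLinearMap *ᵥ x)
        (LinearMap.toMatrix' g.1.toLinearMap *ᵥ y) = Cfsg.hermForm n F q x y
      rw [← Matrix.toLin'_apply, ← Matrix.toLin'_apply, Matrix.toLin'_toMatrix']
      exact g.2 x y
    · show Matrix.toLin' (LinearMap.toMatrix' g.1.toLinearMap) x = g.1 x
      rw [Matrix.toLin'_toMatrix']
      rfl

open Module in
/-- A non-degenerate Hermitian space has the standard unitary group. -/
theorem exists_gu_equiv [Fintype F] {σ : F ≃+* F} {q : ℕ} (hσ : Classical.IsUSigma q σ) :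
    ∀ (k : ℕ) {V : Type _} [AddCommGroup V] [Module F V] [FiniteDimensional F V] {h : V → V → F},
      Classical.UCount.IsHermND σ h → finrank F V = k → Nonempty (↥(isoF h) ≃* ↥(Cfsg.GU k F q)) := by
  intro k V _ _ _ h H hV
  haveI : Finite V := Module.finite_of_finite F
  obtain ⟨⟨f, hf⟩⟩ : Nonempty (Classical.UCount.UFam h k) := by
    by_contra hne
    rw [not_nonempty_iff] at hne
    have h0 := Classical.UCount.card_fam hσ k H hV
    rw [Nat.card_of_isEmpty, eq_comm, Finset.prod_eq_zero_iff] at h0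
    obtain ⟨i, -, hi⟩ := h0
    have h1 := (Classical.UCount.unitNum_int hσ.two_le (i + 1)).2
    rw [hi, Nat.cast_zero, mul_zero] at h1
    have h2 : (1 : ℤ) < (q : ℤ) ^ (i + 1) := one_lt_pow₀ (by exact_mod_cast hσ.two_le) (Nat.succ_ne_zero i)
    rw [two_mul (i + 1), pow_add] at h1
    rcases neg_one_pow_eq_or ℤ (i + 1) with e | e <;> rw [e] at h1 <;> nlinarith
  have hli : LinearIndependent F f := Fintype.linearIndependent_iff.mpr fun c hc i => by
    have h0 := congrArg (fun v => h v (f i)) hc
    simp only [H.zero_left, H.sum_left, H.smul_left, hf, mul_ite, mul_one, mul_zero,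
      Finset.sum_ite_eq', Finset.mem_univ, if_true] at h0
    exact h0
  let b := basisOfLinearIndependentOfCardEqFinrank' (b := f) hli (by rw [Fintype.card_fin, hV])
  have hbi : ∀ i, b i = f i := fun i => by simp [b]
  have hb : ∀ x y, Cfsg.hermForm k F q (b.equivFun x) (b.equivFun y) = h x y := by
    intro x y
    conv_rhs => rw [← b.sum_equivFun x, H.sum_left]
    rw [hσ.hermForm_eq]
    refine Finset.sum_congr rfl fun i _ => ?_
    rw [H.smul_left]
    congr 1
    conv_rhs => rw [← b.sum_equivFun y, ← H.symm, H.sum_left, map_sum]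
    simp only [H.smul_left, hbi, hf, mul_ite, mul_one, mul_zero, apply_ite σ, map_zero,
      Finset.sum_ite_eq', Finset.mem_univ, if_true]
  exact ⟨(congr b.equivFun hb).trans (MulEquiv.ofBijective _ (guHom_bijective k q)).symm⟩

/-- If W ≤ F^n (|F| = q²) is a k-dimensional subspace on which the Hermitian form Σ x_i y_i^q is non-degenerate, then the stabiliser of W in GU_n(q) is isomorphic to GU_k(q) × GU_(n−k)(q). -/
theorem result {F : Type*} [Field F] [Fintype F] {q : ℕ} (hF : Fintype.card F = q ^ 2) (n k : ℕ) (hk : k ≤ n) (W : Submodule F (Fin n → F)) (hWk : Module.finrank F W = k) (hW : ∀ u ∈ W, (∀ v ∈ W, Cfsg.hermForm n F q u v = 0) → u = 0) : Nonempty (↥((Cfsg.stabilizing (Cfsg.glToMat (Fin n) F) (W : Set (Fin n → F))).subgroupOf (Cfsg.GU n F q)) ≃* ↥(Cfsg.GU k F q) × ↥(Cfsg.GU (n - k) F q)) := by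
  classical
  obtain ⟨p, e, σ, -, -, -, -, hσ⟩ := Classical.exists_usigma hF
  have hf := hσ.isUnitaryForm (n := n)
  have H : Classical.UCount.IsHermND σ (Cfsg.hermForm n F q) :=
    ⟨hf.add_left, hf.smul_left, fun x y => (hf.herm y x).symm, fun v hv => by
      by_contra hne
      obtain ⟨⟨w, hw⟩, -⟩ := hf.nondegenerate v hne
      exact hw (by rw [hf.herm w v, hv w, map_zero])⟩
  have hr : ∀ x y, Cfsg.hermForm n F q x y = 0 → Cfsg.hermForm n F q y x = 0 := fun x y e => by
    rw [← H.symm, e, map_zero]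
  have hc := isCompl_perp _ σ H.add_left H.add_right H.smul_left H.smul_right hW
  let U := perp (Cfsg.hermForm n F q) H.add_left H.smul_left W
  have hdim : Module.finrank F U = n - k := by
    have := Submodule.finrank_add_eq_of_isCompl hc
    rw [Module.finrank_fintype_fun_eq_card, Fintype.card_fin, hWk] at this
    change k + Module.finrank F U = n at this
    omega
  have hUnd : ∀ u ∈ U, (∀ v ∈ U, Cfsg.hermForm n F q u v = 0) → u = 0 := fun u hu hu' => H.nondeg _ fun z => by
    obtain ⟨⟨w, z'⟩, rfl⟩ := (W.prodEquivOfIsCompl U hc).surjective z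
    show Cfsg.hermForm n F q u ((w : Fin n → F) + z') = 0
    rw [H.add_right, hu w w.2, hu' z' z'.2, add_zero]
  obtain ⟨e1⟩ := exists_stab_equiv _ σ H.add_left H.add_right H.smul_left H.smul_right hr hW
  obtain ⟨e2⟩ := exists_gu_equiv hσ k (H.res hW) hWk
  obtain ⟨e3⟩ := exists_gu_equiv hσ (n - k) (H.res hUnd) hdim
  let E := MulEquiv.ofBijective (guHom (F := F) n q) (guHom_bijective n q)
  have hs : ((Cfsg.stabilizing (Cfsg.glToMat (Fin n) F) (W : Set (Fin n → F))).subgroupOf (Cfsg.GU n F q)).map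
      E.toMonoidHom = stab (Cfsg.hermForm n F q) W := by
    ext g
    obtain ⟨A, rfl⟩ := E.surjective g
    exact (Subgroup.mem_map_iff_mem E.injective).trans Iff.rfl
  exact ⟨((E.subgroupMap _).trans (MulEquiv.subgroupCongr hs)).trans (e1.trans (e2.prodCongr e3))⟩

end Cfsg.Agent.S0837
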