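import Cfsg.Statements.S0782
import Cfsg.Agent.S0837
import Cfsg.Agent.Lib.Classical.UnitaryFrames
import Cfsg.Agent.Lib.Classical.UnitaryOrders

set_option autoImplicit false
open Cfsg

namespace Cfsg.Agent.S0782

open Classical Classical.StabSplit Classical.TSFrames

theorem exists_hilbert {F : Type*} [Field F] [Fintype F] {σ : F ≃+* F} {q : ℕ} (hσ : IsUSigma q σ) {ζ : F}
    (hζ : ζ * σ ζ = 1) : ∃ a : F, a ≠ 0 ∧ a * (σ a)⁻¹ = ζ := by
  have hζ0 : ζ ≠ 0 := fun e => by rw [e, zero_mul] at hζ; exact zero_ne_one hζ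
  obtain ⟨b, hb⟩ : ∃ b, b + ζ * σ b ≠ 0 := by
    by_contra hc
    push Not at hc
    refine hσ.ne_refl (RingEquiv.ext fun b => ?_)
    have h1 := hc 1
    rw [map_one, mul_one] at h1
    show σ b = b
    linear_combination (σ b) * h1 - hc b
  refine ⟨b + ζ * σ b, hb, ?_⟩
  have hsb : σ (b + ζ * σ b) ≠ 0 := fun e => hb (σ.injective (by rw [e, map_zero]))
  rw [← div_eq_mul_inv, div_eq_iff hsb, map_add, map_mul, hσ.involutive]
  linear_combination (-b) * hζ

/-- Maximal parabolics of SU_n(q): if W is a k-dimensional subspace of F^n (n ≥ 1, |F| = q²) on which the Hermitian form vanishes, then (q + 1) times the order of its stabiliser in SU_n(q) equals q^(k(2n−3k)) · |GL_k(q²)| · |GU_(n−2k)(q)|, where |GU_m(q)| = q^(m(m−1)/2) Π_(i=1..m) (q^i − (−1)^i). -/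
theorem result {F : Type*} [Field F] [Fintype F] {q : ℕ} (hF : Fintype.card F = q ^ 2) (n k : ℕ) (hn : 1 ≤ n) (hk : 2 * k ≤ n) (W : Submodule F (Fin n → F)) (hWk : Module.finrank F W = k) (hW : ∀ u ∈ W, ∀ v ∈ W, Cfsg.hermForm n F q u v = 0) : (q + 1) * Nat.card ↥((Cfsg.stabilizing (Cfsg.slToMat n F) (W : Set (Fin n → F))).subgroupOf (Cfsg.SU n F q)) = q ^ (k * (2 * n - 3 * k)) * (∏ i : Fin k, ((q ^ 2) ^ k - (q ^ 2) ^ (i : ℕ))) * (q ^ ((n - 2 * k) * ((n - 2 * k) - 1) / 2) * ∏ i ∈ Finset.range (n - 2 * k), (if Even i then q ^ (i + 1) + 1 else q ^ (i + 1) - 1)) := by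
  classical
  obtain ⟨p, e, σ, -, -, -, -, hσ⟩ := Classical.exists_usigma hF
  have H := UPlanes.hermND hσ n
  have hV : Module.finrank F (Fin n → F) = n := by rw [Module.finrank_fintype_fun_eq_card, Fintype.card_fin]
  let S := (Cfsg.stabilizing (Cfsg.glToMat (Fin n) F) (W : Set (Fin n → F))).subgroupOf (Cfsg.GU n F q)
  let E := MulEquiv.ofBijective (S0837.guHom (F := F) n q) (S0837.guHom_bijective n q)
  have hs : S.map E.toMonoidHom = stab (Cfsg.hermForm n F q) W := by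
    ext g
    obtain ⟨A, rfl⟩ := E.surjective g
    exact (Subgroup.mem_map_iff_mem E.injective).trans Iff.rfl
  have hcard : Nat.card S = q ^ (k * (2 * n - 3 * k)) * (∏ i : Fin k, ((q ^ 2) ^ k - (q ^ 2) ^ (i : ℕ))) *
      UFrames.guOrd q (n - 2 * k) := by
    rw [Nat.card_congr ((E.subgroupMap _).trans (MulEquiv.subgroupCongr hs)).toEquiv]
    have hord : Nat.card ↥(isoF (Cfsg.hermForm n F q)) = UFrames.guOrd q n := by
      rw [← Nat.card_congr E.toEquiv, UCount.card_GU hσ n]; rfl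
    have h := card_stab_subspace_mul hWk hW (UFrames.exists_move hσ H)
    rw [hord, UFrames.card_fr hσ k n H hV, Nat.card_eq_fintype_card (α := F), hF] at h
    refine Nat.eq_of_mul_eq_mul_right (UFrames.fu_pos hσ.two_le k n hk) (h.trans ?_)
    rw [← UFrames.fu_identity k n hk]
    ring
  let δ : ↥S →* ↥(powMonoidHom (q + 1) : Fˣ →* Fˣ).ker := (UCount.detU hσ n).comp S.subtype
  have hδ : Function.Surjective δ := by
    rintro ⟨u, hu⟩
    by_cases hW0 : W = ⊥
    · obtain ⟨g, hg⟩ := UCount.detU_surjective hσ hn ⟨u, hu⟩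
      refine ⟨⟨g, ?_⟩, hg⟩
      rw [Subgroup.mem_subgroupOf]
      intro v
      rw [hW0]
      simp only [SetLike.mem_coe, Submodule.mem_bot]
      constructor
      · rintro rfl; exact Matrix.mulVec_zero _
      · intro e
        exact Matrix.mulVec_injective_iff_isUnit.mpr (Units.isUnit g.1) (e.trans (Matrix.mulVec_zero _).symm)
    · obtain ⟨a, ha, hau⟩ := exists_hilbert hσ (UCount.norm_of_pow_eq_one hσ (MonoidHom.mem_ker.mp hu))
      obtain ⟨g, hg, hgd⟩ := UFrames.exists_det hσ H hW hW0 ha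
      obtain ⟨A, rfl⟩ := E.surjective g
      refine ⟨⟨A, (Subgroup.mem_map_iff_mem E.injective).mp (hs.symm ▸ hg)⟩, Subtype.ext (Units.ext ?_)⟩
      show (UCount.detU hσ n A : Fˣ).1 = (u : F)
      rw [UCount.detU_val, Matrix.GeneralLinearGroup.val_det_apply, ← hau, ← hgd, ← LinearMap.det_toLin']
      rfl
  let e2 : ↥δ.ker ≃* ↥((Cfsg.stabilizing (Cfsg.slToMat n F) (W : Set (Fin n → F))).subgroupOf (Cfsg.SU n F q)) :=
    { toFun := fun g => ⟨UCount.suEquiv hσ n ⟨g.1.1, g.2⟩, g.1.2⟩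
      invFun := fun x => ⟨⟨((UCount.suEquiv hσ n).symm x.1).1, x.2⟩, ((UCount.suEquiv hσ n).symm x.1).2⟩
      left_inv := fun g => Subtype.ext (Subtype.ext
        (congrArg (fun z : ↥(UCount.detU hσ n).ker => z.1) ((UCount.suEquiv hσ n).symm_apply_apply ⟨g.1.1, g.2⟩)))
      right_inv := fun x => Subtype.ext ((UCount.suEquiv hσ n).apply_symm_apply x.1)
      map_mul' := fun g g' => Subtype.ext ((UCount.suEquiv hσ n).map_mul ⟨g.1.1, g.2⟩ ⟨g'.1.1, g'.2⟩) }
  rw [← Nat.card_congr e2.toEquiv, mul_comm (q + 1)]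
  have hmul := Subgroup.card_mul_index δ.ker
  rw [Subgroup.index_ker, MonoidHom.range_eq_top.mpr hδ, Subgroup.card_top, UCount.card_mu hσ, hcard] at hmul
  exact hmul

end Cfsg.Agent.S0782
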