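import Cfsg.Statements.S0783
import Cfsg.Agent.Lib.Classical.UnitaryOrders

set_option autoImplicit false
open Cfsg

namespace Cfsg.Agent.S0783

/-- PGU_n(q)/PSU_n(q) is cyclic of order (n, q+1): for n ≥ 2 and |F| = q² there is a surjective homomorphism from GU_n(q) onto the cyclic group of order gcd(n, q + 1) whose kernel is generated by the determinant-one elements together with the centre. -/
theorem result {F : Type*} [Field F] [Fintype F] {q : ℕ} (hF : Fintype.card F = q ^ 2) (n : ℕ) (hn : 2 ≤ n) : ∃ φ : ↥(Cfsg.GU n F q) →* Multiplicative (ZMod (Nat.gcd n (q + 1))), Function.Surjective φ ∧ φ.ker = (Matrix.GeneralLinearGroup.det : Matrix.GeneralLinearGroup (Fin n) F →* Fˣ).ker.subgroupOf (Cfsg.GU n F q) ⊔ Subgroup.center ↥(Cfsg.GU n F q) := by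
  classical
  obtain ⟨p, e, σ, -, -, -, -, hσ⟩ := Cfsg.Agent.Classical.exists_usigma hF
  let M := ↥(powMonoidHom (q + 1) : Fˣ →* Fˣ).ker
  have hM : Nat.card M = q + 1 := Cfsg.Agent.Classical.UCount.card_mu hσ
  have : NeZero (q + 1) := ⟨by omega⟩
  let ε : M ≃* Multiplicative (ZMod (q + 1)) := mulEquivOfCyclicCardEq (by rw [hM, Nat.card_congr Multiplicative.toAdd, Nat.card_zmod])
  let r : Multiplicative (ZMod (q + 1)) →* Multiplicative (ZMod (Nat.gcd n (q + 1))) :=
    AddMonoidHom.toMultiplicative (ZMod.castHom (Nat.gcd_dvd_right n (q + 1)) _).toAddMonoidHom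
  have hr : Function.Surjective r := fun x => by
    obtain ⟨y, hy⟩ := ZMod.castHom_surjective (Nat.gcd_dvd_right n (q + 1)) x.toAdd
    exact ⟨Multiplicative.ofAdd y, by rw [← ofAdd_toAdd x, ← hy]; rfl⟩
  -- a multiple of `gcd` is a multiple of `n` modulo `q + 1`
  have hker : ∀ x : M, r (ε x) = 1 → ∃ y : M, y ^ n = x := by
    intro x hx
    have h0 : ((ε x).toAdd.cast : ZMod (Nat.gcd n (q + 1))) = 0 := congrArg Multiplicative.toAdd hx
    rw [ZMod.cast_eq_val, ZMod.natCast_eq_zero_iff] at h0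
    obtain ⟨j, hj⟩ := h0
    refine ⟨ε.symm (Multiplicative.ofAdd (((Nat.gcdA n (q + 1) * j : ℤ)) : ZMod (q + 1))), ?_⟩
    refine ε.injective ?_
    rw [map_pow, MulEquiv.apply_symm_apply]
    refine Multiplicative.toAdd.injective ?_
    rw [toAdd_pow, toAdd_ofAdd, ← ZMod.natCast_zmod_val (ε x).toAdd, hj]
    have hg := congrArg (Int.cast (R := ZMod (q + 1))) (Nat.gcd_eq_gcd_ab n (q + 1))
    have h0' : ((q + 1 : ℕ) : ZMod (q + 1)) = 0 := ZMod.natCast_self _
    simp only [Int.cast_add, Int.cast_mul, Int.cast_natCast, h0', zero_mul, add_zero] at hg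
    simp only [nsmul_eq_mul, Nat.cast_mul, hg, Int.cast_mul, Int.cast_natCast]
    ring
  let φ := r.comp (ε.toMonoidHom.comp (Cfsg.Agent.Classical.UCount.detU hσ n))
  refine ⟨φ, hr.comp (ε.surjective.comp (Cfsg.Agent.Classical.UCount.detU_surjective hσ (by omega))), ?_⟩
  apply le_antisymm
  · intro g hg
    obtain ⟨⟨c, hcμ⟩, hc⟩ := hker _ (MonoidHom.mem_ker.mp hg)
    obtain ⟨z, hz, hzd⟩ := Cfsg.Agent.Classical.UCount.exists_diag hσ (n := n) (fun _ => (c : F))
      fun _ => Cfsg.Agent.Classical.UCount.norm_of_pow_eq_one hσ (MonoidHom.mem_ker.mp hcμ)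
    have hzc : (⟨z, hz⟩ : ↥(GU n F q)) ∈ Subgroup.center ↥(GU n F q) := Subgroup.mem_center_iff.mpr fun h => by
      apply Subtype.ext
      apply Units.ext
      show h.1.1 * z.1 = z.1 * h.1.1
      rw [hzd, ← Matrix.smul_one_eq_diagonal]; simp
    have hdz : Matrix.GeneralLinearGroup.det z = c ^ n := by
      ext
      rw [Matrix.GeneralLinearGroup.val_det_apply, hzd, Matrix.det_diagonal, Finset.prod_const,
        Finset.card_univ, Fintype.card_fin, Units.val_pow_eq_pow_val]
    have hcn : c ^ n = Matrix.GeneralLinearGroup.det (g : GL (Fin n) F) :=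
      congrArg (fun y : ↥(powMonoidHom (q + 1) : Fˣ →* Fˣ).ker => (y : Fˣ)) hc
    rw [← inv_mul_cancel_right g ⟨z, hz⟩]
    refine Subgroup.mul_mem_sup ?_ hzc
    rw [Subgroup.mem_subgroupOf, MonoidHom.mem_ker]
    show Matrix.GeneralLinearGroup.det ((g : GL (Fin n) F) * z⁻¹) = 1
    rw [map_mul, map_inv, hdz, hcn, mul_inv_cancel]
  · refine sup_le (fun g hg => ?_) fun g hg => ?_
    · have h1 : Cfsg.Agent.Classical.UCount.detU hσ n g = 1 := Subtype.ext (MonoidHom.mem_ker.mp hg)
      rw [MonoidHom.mem_ker]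
      simp [φ, h1]
    · obtain ⟨c, hc⟩ := Cfsg.Agent.Classical.UCount.scalar_of_commute hσ hn (M := g.1.1) fun x => by
        have := Subgroup.mem_center_iff.mp hg ⟨Matrix.SpecialLinearGroup.toGL x.1, x.2⟩
        exact congrArg (fun y : ↥(GU n F q) => y.1.1) this
      have hN := Cfsg.Agent.Classical.UCount.scalar_norm hσ (by omega : 1 ≤ n) g.2 hc
      let cu : Fˣ := Units.mk0 c (left_ne_zero_of_mul_eq_one hN)
      let cM : M := ⟨cu, MonoidHom.mem_ker.mpr (Cfsg.Agent.Classical.UCount.pow_eq_one_of_norm hσ (u := cu) hN)⟩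
      have h1 : Cfsg.Agent.Classical.UCount.detU hσ n g = cM ^ n := by
        apply Subtype.ext
        apply Units.ext
        rw [Cfsg.Agent.Classical.UCount.detU_val, Matrix.GeneralLinearGroup.val_det_apply, hc,
          Matrix.det_smul, Matrix.det_one, mul_one, Fintype.card_fin]
        exact (Units.val_pow_eq_pow_val cu n).symm
      rw [MonoidHom.mem_ker]
      show r (ε (Cfsg.Agent.Classical.UCount.detU hσ n g)) = 1
      rw [h1, map_pow, map_pow]
      refine Multiplicative.toAdd.injective ?_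
      rw [toAdd_pow, toAdd_one, nsmul_eq_mul,
        (ZMod.natCast_eq_zero_iff n (Nat.gcd n (q + 1))).mpr (Nat.gcd_dvd_left _ _), zero_mul]

end Cfsg.Agent.S0783
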