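import Cfsg.Statements.S0792
import Cfsg.Agent.Lib.Classical.OrthMatrix

set_option autoImplicit false
open Cfsg

namespace Cfsg.Agent.S0792

/-- For q odd and Q with non-degenerate polar form on F^n, the determinant-one isometries form the subgroup generated by all products r_u r_v of two reflections (Q(u), Q(v) ≠ 0). -/
theorem result {F : Type*} [Field F] [Fintype F] (h2 : (2 : F) ≠ 0) {n : ℕ} (Q : QuadraticForm F (Fin n → F)) (hQ : (QuadraticMap.polarBilin Q).Nondegenerate) : Cfsg.specialIsometryGroup F ⇑Q = Subgroup.closure {g : ↥(Cfsg.isometryGroup F ⇑Q) | ∃ u v : Fin n → F, Q u ≠ 0 ∧ Q v ≠ 0 ∧ ((g : Matrix.GeneralLinearGroup (Fin n) F) : Matrix (Fin n) (Fin n) F) = Cfsg.reflectionMatrix ⇑Q u * Cfsg.reflectionMatrix ⇑Q v} := by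
  obtain ⟨S, hS⟩ : ∃ S, S = Subgroup.closure {g : ↥(isometryGroup F ⇑Q) | ∃ u v : Fin n → F, Q u ≠ 0 ∧ Q v ≠ 0 ∧
      ((g : GL (Fin n) F) : Matrix (Fin n) (Fin n) F) = reflectionMatrix ⇑Q u * reflectionMatrix ⇑Q v} := ⟨_, rfl⟩
  rw [← hS]
  have hr : ∀ v, Q v ≠ 0 → (reflectionMatrix ⇑Q v).det = -1 := fun v hv => (Lead.Forms.refl_main Q v hv).2.2.2
  have hsp : ∀ g : ↥(isometryGroup F ⇑Q), g ∈ specialIsometryGroup F ⇑Q ↔ (g.1 : Matrix (Fin n) (Fin n) F).det = 1 :=
    fun g => ⟨fun h => congrArg Units.val (MonoidHom.mem_ker.mp h),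
      fun h => MonoidHom.mem_ker.mpr (Units.ext h)⟩
  refine le_antisymm (fun g hg => ?_) (hS ▸ (Subgroup.closure_le _).mpr ?_)
  swap
  · rintro g ⟨u, v, hu, hv, e⟩
    refine (hsp g).mpr ?_
    rw [e, Matrix.det_mul, hr u hu, hr v hv, neg_mul_neg, one_mul]
  have hne : (-1 : F) ≠ 1 := fun e => h2 (by linear_combination -e)
  have key : ∀ g : ↥(isometryGroup F ⇑Q), ((g.1 : Matrix (Fin n) (Fin n) F).det = 1 → g ∈ S) ∧
      ((g.1 : Matrix (Fin n) (Fin n) F).det = -1 → ∀ (v : Fin n → F) (r : ↥(isometryGroup F ⇑Q)), Q v ≠ 0 →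
        (r.1 : Matrix (Fin n) (Fin n) F) = reflectionMatrix ⇑Q v → r * g ∈ S) := by
    intro g
    have hg : g ∈ (⊤ : Subgroup ↥(isometryGroup F ⇑Q)) := Subgroup.mem_top g
    rw [← Cfsg.Agent.Classical.ORefl.closure_refl (Cfsg.Agent.Classical.ORefl.pnd_of_nondeg hQ)
      (Or.inl (Cfsg.Agent.Classical.ORefl.card_field_ne_two h2))] at hg
    have step : ∀ (x : ↥(isometryGroup F ⇑Q)) (u : Fin n → F), Q u ≠ 0 →
        (x.1 : Matrix (Fin n) (Fin n) F) = reflectionMatrix ⇑Q u → ∀ y : ↥(isometryGroup F ⇑Q),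
        (((y.1 : Matrix (Fin n) (Fin n) F).det = 1 → y ∈ S) ∧
          ((y.1 : Matrix (Fin n) (Fin n) F).det = -1 → ∀ (v : Fin n → F) (r : ↥(isometryGroup F ⇑Q)), Q v ≠ 0 →
            (r.1 : Matrix (Fin n) (Fin n) F) = reflectionMatrix ⇑Q v → r * y ∈ S)) →
        (((x * y).1 : Matrix (Fin n) (Fin n) F).det = 1 → x * y ∈ S) ∧
          (((x * y).1 : Matrix (Fin n) (Fin n) F).det = -1 → ∀ (v : Fin n → F) (r : ↥(isometryGroup F ⇑Q)), Q v ≠ 0 →
            (r.1 : Matrix (Fin n) (Fin n) F) = reflectionMatrix ⇑Q v → r * (x * y) ∈ S) := by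
      intro x u hu hx y hy
      have hdet : ((x * y).1 : Matrix (Fin n) (Fin n) F).det = -(y.1 : Matrix (Fin n) (Fin n) F).det := by
        change ((x.1 : Matrix (Fin n) (Fin n) F) * (y.1 : Matrix (Fin n) (Fin n) F)).det = _
        rw [Matrix.det_mul, hx, hr u hu, neg_one_mul]
      refine ⟨fun h => hy.2 (by rw [hdet] at h; linear_combination -h) u x hu hx, fun h v r hv hr' => ?_⟩
      rw [← mul_assoc]
      refine S.mul_mem (hS ▸ Subgroup.subset_closure ⟨v, u, hv, hu, ?_⟩)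
        (hy.1 (by rw [hdet] at h; linear_combination -h))
      rw [Subgroup.coe_mul, Units.val_mul, hr', hx]
    induction hg using Subgroup.closure_induction_left with
    | one => exact ⟨fun _ => S.one_mem, fun h => absurd h (by simpa using hne.symm)⟩
    | mul_left x hx y _ hy =>
      obtain ⟨u, hu, hx⟩ := hx
      exact step x u hu hx y hy
    | inv_mul_cancel x hx y _ hy =>
      obtain ⟨u, hu, hx⟩ := hx
      have hxx : x⁻¹ = x := by
        refine inv_eq_of_mul_eq_one_left ?_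
        rw [Cfsg.Agent.Classical.ORefl.eq_toMat_refl hx, ← map_mul]
        exact (congrArg _ (Subtype.ext (Cfsg.Agent.Classical.ORefl.refl_mul_self u))).trans (map_one _)
      rw [hxx]
      exact step x u hu hx y hy
  exact (key g).1 ((hsp g).mp hg)

end Cfsg.Agent.S0792
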