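import Cfsg.Statements.S0794
import Cfsg.Agent.Lib.Classical.OrthCenter

set_option autoImplicit false
open Cfsg

namespace Cfsg.Agent.S0794

open scoped commutatorElement

/-- For q odd, n ≥ 5 and Q with non-degenerate polar form: an isometry whose matrix is a Siegel transformation T_(u,v)(c) (u, v singular and orthogonal) is a commutator in the isometry group, so lies in Ω. -/
theorem result {F : Type*} [Field F] [Fintype F] (h2 : (2 : F) ≠ 0) {n : ℕ} (hn : 5 ≤ n) (Q : QuadraticForm F (Fin n → F)) (hQ : (QuadraticMap.polarBilin Q).Nondegenerate) (u v : Fin n → F) (hu : Q u = 0) (hv : Q v = 0) (huv : QuadraticMap.polar ⇑Q u v = 0) (c : F) (g : ↥(Cfsg.isometryGroup F ⇑Q)) (hg : ((g : Matrix.GeneralLinearGroup (Fin n) F) : Matrix (Fin n) (Fin n) F) = Cfsg.siegelMatrix ⇑Q u v c) : g ∈ commutatorSet ↥(Cfsg.isometryGroup F ⇑Q) ∧ g ∈ Cfsg.Omega F ⇑Q := by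
  have hP := Cfsg.Agent.Classical.ORefl.pnd_of_nondeg hQ
  have hq := Cfsg.Agent.Classical.OOmega.two_ne (V := Fin n → F) h2
  obtain ⟨w, hw⟩ : ∃ w, w = c • v := ⟨_, rfl⟩
  have huw : QuadraticMap.polar Q u w = 0 := hw ▸ Cfsg.Agent.Classical.ORefl.smul_orth huv c
  have hQw : Q w = 0 := by rw [hw, QuadraticMap.map_smul, hv, smul_zero]
  obtain ⟨x, hx⟩ : ∃ x : ↥(Cfsg.Agent.Classical.ORefl.Iso Q), x = ⟨Cfsg.Agent.Classical.ORefl.siegel hu huw,
    Cfsg.Agent.Classical.ORefl.siegel_mem hu huw⟩ := ⟨_, rfl⟩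
  have hgx : g = Cfsg.Agent.Classical.ORefl.toMat Q x := by
    subst hw hx
    exact Subtype.ext (Units.ext (hg.trans (Cfsg.Agent.Classical.ORefl.toMat_siegel hu hv huv c).symm))
  have hcomm : x ∈ commutator ↥(Cfsg.Agent.Classical.ORefl.Iso Q) :=
    hx ▸ Cfsg.Agent.Classical.OOmega.siegel_mem_commutator hP hq hu huw
  refine ⟨?_, ?_⟩
  swap
  · rw [Cfsg.Agent.Classical.OOmega.omega_eq_map, hgx]
    exact ⟨x, hcomm, rfl⟩
  suffices H : ∃ a b : ↥(Cfsg.Agent.Classical.ORefl.Iso Q), ⁅a, b⁆ = x by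
    obtain ⟨a, b, hab⟩ := H
    exact ⟨Cfsg.Agent.Classical.ORefl.toMat Q a, Cfsg.Agent.Classical.ORefl.toMat Q b, by
      rw [hgx, ← hab, map_commutatorElement]⟩
  by_cases hd : ∃ t : F, w = t • u
  · obtain ⟨t, ht⟩ := hd
    refine ⟨1, 1, ?_⟩
    rw [commutatorElement_one_left, hx]
    refine Subtype.ext (LinearEquiv.ext fun y => ?_)
    change y = Cfsg.Agent.Classical.ORefl.siegel hu huw y
    rw [Cfsg.Agent.Classical.ORefl.siegel_apply, hQw, ht, QuadraticMap.polar_smul_left, smul_eq_mul]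
    module
  push Not at hd
  by_cases hu0 : u = 0
  · refine ⟨1, 1, ?_⟩
    rw [commutatorElement_one_left, hx]
    refine Subtype.ext (LinearEquiv.ext fun y => ?_)
    change y = Cfsg.Agent.Classical.ORefl.siegel hu huw y
    rw [Cfsg.Agent.Classical.ORefl.siegel_apply, hu0, QuadraticMap.polar_zero_left]
    simp
  obtain ⟨φ, hφw, hφ⟩ := Submodule.exists_dual_map_eq_bot_of_notMem (p := Submodule.span F {u}) (x := w)
    (fun hm => by
      obtain ⟨t, ht⟩ := Submodule.mem_span_singleton.mp hm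
      exact hd t ht.symm) inferInstance
  have hφu : φ u = 0 := by
    have : φ u ∈ (Submodule.span F {u}).map φ := Submodule.mem_map_of_mem (Submodule.mem_span_singleton_self u)
    rwa [hφ, Submodule.mem_bot] at this
  obtain ⟨f, hf⟩ : ∃ f : (Fin n → F) →ₗ[F] Fin n → F, ∀ y, f y = y - (2 / φ w * φ y) • w :=
    ⟨LinearMap.id - ((2 / φ w) • φ).smulRight w, fun y => by simp⟩
  have hff : ∀ y, f (f y) = y := fun y => by
    rw [hf, hf]
    simp only [map_sub, map_smul, smul_eq_mul]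
    match_scalars
    · ring
    · field_simp; ring
  have hsing : ∀ a b : F, Q (a • u + b • w) = 0 := fun a b => by
    rw [Cfsg.Agent.Classical.OCount.map_two, QuadraticMap.map_smul, QuadraticMap.map_smul, hu, hQw,
      QuadraticMap.polar_smul_left, QuadraticMap.polar_smul_right, huw]
    simp
  obtain ⟨h, hh, hhf⟩ := Cfsg.Agent.Classical.ORefl.witt hP (Submodule.span F {u, w})
    (f ∘ₗ (Submodule.span F {u, w}).subtype)
    ((Function.LeftInverse.injective hff).comp Subtype.val_injective) (fun y => by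
      obtain ⟨a, b, hab⟩ := Submodule.mem_span_pair.mp y.2
      change Q (f y.1) = Q y.1
      rw [← hab, map_add, map_smul, map_smul, hf, hf, hφu, hsing,
        show a • (u - (2 / φ w * 0) • w) + b • (w - (2 / φ w * φ w) • w) = a • u + (b * (1 - 2 / φ w * φ w)) • w by
          module, hsing])
  have hhu : h u = u := by
    rw [hhf ⟨u, Submodule.subset_span (Set.mem_insert _ _)⟩]
    change f u = u
    rw [hf, hφu, mul_zero, zero_smul, sub_zero]
  obtain ⟨w', hw'⟩ : ∃ w', w' = (-(2 : F)⁻¹) • w := ⟨_, rfl⟩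
  have hhw : h w' = -w' := by
    rw [hw', map_smul, hhf ⟨w, Submodule.subset_span (Set.mem_insert_of_mem _ rfl)⟩]
    change -(2 : F)⁻¹ • f w = _
    rw [hf, div_mul_cancel₀ _ hφw]
    module
  have huw' : QuadraticMap.polar Q u w' = 0 := hw' ▸ Cfsg.Agent.Classical.ORefl.smul_orth huw _
  have huw'n : QuadraticMap.polar Q u (-w') = 0 := by rw [QuadraticMap.polar_neg_right, huw', neg_zero]
  have hinv : (Cfsg.Agent.Classical.ORefl.siegel hu huw')⁻¹ = Cfsg.Agent.Classical.ORefl.siegel hu huw'n := by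
    refine inv_eq_of_mul_eq_one_left ?_
    rw [Cfsg.Agent.Classical.ORefl.siegel_mul]
    exact LinearEquiv.ext fun y => by
      rw [Cfsg.Agent.Classical.ORefl.siegel_apply, neg_add_cancel, QuadraticMap.map_zero, QuadraticMap.polar_zero_left]
      simp
  refine ⟨⟨h, hh⟩, ⟨_, Cfsg.Agent.Classical.ORefl.siegel_mem hu huw'⟩, ?_⟩
  rw [hx]
  refine Subtype.ext ?_
  change h * Cfsg.Agent.Classical.ORefl.siegel hu huw' * h⁻¹ * (Cfsg.Agent.Classical.ORefl.siegel hu huw')⁻¹ = _
  rw [Cfsg.Agent.Classical.ORefl.conj_siegel hh, hinv]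
  refine LinearEquiv.ext fun y => ?_
  change Cfsg.Agent.Classical.ORefl.siegelMap Q (h u) (h w') (Cfsg.Agent.Classical.ORefl.siegelMap Q u (-w') y) = _
  rw [hhu, hhw, Cfsg.Agent.Classical.ORefl.siegelMap_add hu huw'n huw'n]
  change Cfsg.Agent.Classical.ORefl.siegelMap Q u (-w' + -w') y = Cfsg.Agent.Classical.ORefl.siegelMap Q u w y
  rw [show -w' + -w' = w by rw [hw']; match_scalars; field_simp; ring]

end Cfsg.Agent.S0794
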