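import Cfsg.Statements.S0795
import Cfsg.Agent.Lib.Classical.OrthRoot
import Cfsg.Agent.Lib.Classical.OrthMatrix

set_option autoImplicit false
open Cfsg

namespace Cfsg.Agent.S0795

/-- Generation of Ω by root elements: for q odd, n ≥ 5 and Q with non-degenerate polar form on F^n, the commutator subgroup of the isometry group equals the subgroup generated by the isometries whose matrices are Siegel transformations T_(u,v)(c) with u, v singular and orthogonal. -/
theorem result {F : Type*} [Field F] [Fintype F] (h2 : (2 : F) ≠ 0) {n : ℕ} (hn : 5 ≤ n) (Q : QuadraticForm F (Fin n → F)) (hQ : (QuadraticMap.polarBilin Q).Nondegenerate) : Cfsg.Omega F ⇑Q = Subgroup.closure {g : ↥(Cfsg.isometryGroup F ⇑Q) | ∃ (u v : Fin n → F) (c : F), Q u = 0 ∧ Q v = 0 ∧ QuadraticMap.polar ⇑Q u v = 0 ∧ ((g : Matrix.GeneralLinearGroup (Fin n) F) : Matrix (Fin n) (Fin n) F) = Cfsg.siegelMatrix ⇑Q u v c} := by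
  have hP := Cfsg.Agent.Classical.ORefl.pnd_of_nondeg hQ
  rw [Cfsg.Agent.Classical.OOmega.omega_eq_map,
    Cfsg.Agent.Classical.OOmega.commutator_eq_root h2 hP (by rwa [Module.finrank_fintype_fun_eq_card, Fintype.card_fin]),
    Cfsg.Agent.Classical.OOmega.rootGroup, MonoidHom.map_closure]
  congr 1
  ext g
  constructor
  · rintro ⟨x, ⟨e, v, he, hv, h0, hx⟩, rfl⟩
    refine ⟨e, v, 1, he, h0, hv, ?_⟩
    rw [← Cfsg.Agent.Classical.ORefl.toMat_siegel he h0 hv 1]
    have : x = ⟨Cfsg.Agent.Classical.ORefl.siegel he (Cfsg.Agent.Classical.ORefl.smul_orth hv 1),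
        Cfsg.Agent.Classical.ORefl.siegel_mem he (Cfsg.Agent.Classical.ORefl.smul_orth hv 1)⟩ :=
      Subtype.ext (hx.trans (LinearEquiv.ext fun y => by
        rw [Cfsg.Agent.Classical.ORefl.siegel_apply, Cfsg.Agent.Classical.ORefl.siegel_apply, one_smul]))
    rw [this]
    rfl
  · rintro ⟨u, v, c, hu, hv, huv, hg⟩
    refine ⟨⟨Cfsg.Agent.Classical.ORefl.siegel hu (Cfsg.Agent.Classical.ORefl.smul_orth huv c),
      Cfsg.Agent.Classical.ORefl.siegel_mem hu _⟩, ⟨u, c • v, hu, Cfsg.Agent.Classical.ORefl.smul_orth huv c, ?_, rfl⟩, ?_⟩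
    · rw [QuadraticMap.map_smul, hv, smul_zero]
    · exact Subtype.ext (Units.ext ((Cfsg.Agent.Classical.ORefl.toMat_siegel hu hv huv c).trans hg.symm))

end Cfsg.Agent.S0795
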