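import Cfsg.Statements.S0798
import Cfsg.Agent.Lib.Classical.OrthClassRefl
import Cfsg.Agent.Lib.Classical.OrthMatrix

set_option autoImplicit false
open Cfsg

namespace Cfsg.Agent.S0798

/-- For q odd, n ≥ 2 even, Q with non-degenerate polar form (n, |F|) ≠ (4, 3), and a fixed c ≠ 0: the subgroup of the isometry group generated by the reflections r_v with Q(v) ∈ c·(F^×)² has index 2. -/
theorem result {F : Type*} [Field F] [Fintype F] (h2 : (2 : F) ≠ 0) {n : ℕ} (hn : 2 ≤ n) (heven : Even n) (Q : QuadraticForm F (Fin n → F)) (hQ : (QuadraticMap.polarBilin Q).Nondegenerate) (h43 : ¬ (n = 4 ∧ Fintype.card F = 3)) (c : F) (hc : c ≠ 0) : (Subgroup.closure {g : ↥(Cfsg.isometryGroup F ⇑Q) | ∃ (v : Fin n → F) (t : F), t ≠ 0 ∧ Q v = c * t ^ 2 ∧ ((g : Matrix.GeneralLinearGroup (Fin n) F) : Matrix (Fin n) (Fin n) F) = Cfsg.reflectionMatrix ⇑Q v}).index = 2 := by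
  classical
  have hP : Classical.OCount.PND Q := Classical.ORefl.pnd_of_nondeg hQ
  have hd : Module.finrank F (Fin n → F) = n := by rw [Module.finrank_fintype_fun_eq_card, Fintype.card_fin]
  have hcase : Module.finrank F (Fin n → F) = 2 ∨ 5 ≤ Module.finrank F (Fin n → F) ∨ 5 ≤ Nat.card F := by
    rw [hd]
    by_cases h4 : n = 4
    · refine Or.inr (Or.inr ?_)
      rw [Nat.card_eq_fintype_card]
      have h3 : Fintype.card F ≠ 3 := fun e => h43 ⟨h4, e⟩
      have h1 := Fintype.one_lt_card (α := F)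
      have he : ¬ Even (Fintype.card F) := fun he => by
        obtain ⟨k, hk⟩ := he
        have h0 := FiniteField.cast_card_eq_zero F
        rw [hk, Nat.cast_add, ← two_mul, mul_eq_zero, or_iff_right h2] at h0
        haveI := ringChar.charP F
        have hp : (ringChar F).Prime := CharP.char_is_prime F _
        obtain ⟨m, -, hm⟩ := FiniteField.card F (ringChar F)
        have hdvd : 2 ∣ Fintype.card F := ⟨k, by omega⟩
        rw [hm] at hdvd
        have h22 := (Nat.prime_dvd_prime_iff_eq Nat.prime_two hp).mp (Nat.prime_two.dvd_of_dvd_pow hdvd)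
        exact h2 (by exact_mod_cast (CharP.cast_eq_zero_iff F (ringChar F) 2).mpr (dvd_of_eq h22.symm))
      rw [Nat.even_iff] at he
      omega
    · obtain ⟨k, hk⟩ := heven
      omega
  have hidx := Classical.OOmega.index_classGroup h2 hP (by rw [hd]; exact hn) hcase hc
  refine Eq.trans ?_ hidx
  rw [← Subgroup.index_map_equiv (Classical.OOmega.classGroup Q c) (Classical.ORefl.toMat Q),
    Classical.OOmega.classGroup, MonoidHom.map_closure]
  congr 2
  ext g
  constructor
  · rintro ⟨v, t, ht, hv, hg⟩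
    refine ⟨Classical.OOmega.rf Q v, ⟨v, ?_, ⟨t, ?_⟩, rfl⟩, ?_⟩
    · rw [hv]; exact mul_ne_zero hc (pow_ne_zero 2 ht)
    · rw [hv]; field_simp
    · exact (Classical.ORefl.eq_toMat_refl hg).symm
  · rintro ⟨-, ⟨v, hv0, ⟨t, ht⟩, rfl⟩, rfl⟩
    rw [div_eq_iff hc] at ht
    refine ⟨v, t, fun e => hv0 (by rw [ht, e]; ring), by rw [ht]; ring, ?_⟩
    exact Classical.ORefl.toMat_refl v

end Cfsg.Agent.S0798
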