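import Cfsg.Statements.S0805
import Cfsg.Agent.Lib.Classical.Dickson.Subgroups

set_option autoImplicit false
open Cfsg

namespace Cfsg.Agent.S0805

/-- Subfield subgroups: let F be a finite field of odd order q and K a finite field with |K|^m = q, m ≥ 1. Then PSL_2(F) has a subgroup isomorphic to PSL_2(K), and has a subgroup isomorphic to PGL_2(K) if and only if m is even. -/
theorem result {F K : Type*} [Field F] [Fintype F] [Field K] [Fintype K] {q : ℕ} (hF : Fintype.card F = q) (hodd : Odd q) (m : ℕ) (hm : 1 ≤ m) (hK : Fintype.card K ^ m = q) : (∃ H : Subgroup (Matrix.ProjectiveSpecialLinearGroup (Fin 2) F), Nonempty (H ≃* Matrix.ProjectiveSpecialLinearGroup (Fin 2) K)) ∧ ((∃ H : Subgroup (Matrix.ProjectiveSpecialLinearGroup (Fin 2) F), Nonempty (H ≃* Matrix.ProjGenLinGroup (Fin 2) K)) ↔ Even m) := by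
  classical
  obtain ⟨ι⟩ := Cfsg.Agent.Classical.Dickson.exists_embedding (F := F) m hm (by rw [hK, hF])
  refine ⟨Cfsg.Agent.Classical.Dickson.exists_psl ι, fun ⟨H, ⟨e⟩⟩ => ?_, fun hev =>
    Cfsg.Agent.Classical.Dickson.exists_pgl ι
      (Cfsg.Agent.Classical.Dickson.isSquare_of_even_degree ι hev (by rw [hK, hF]))⟩
  by_contra hme
  rw [Nat.not_even_iff_odd] at hme
  obtain ⟨j, rfl⟩ := hme
  obtain ⟨Q, hQ⟩ : ∃ Q, Q = Fintype.card K := ⟨_, rfl⟩
  rw [← hQ] at hK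
  haveI := Cfsg.Agent.Classical.Dickson.finite_pgl K
  have h1 := Subgroup.card_subgroup_dvd_card H
  rw [Nat.card_congr e.toEquiv, Cfsg.Agent.Classical.Dickson.card_pgl, ← hQ] at h1
  have h2 : (2 : F) ≠ 0 := fun h => by
    have := Cfsg.Agent.Small.SL2C.two_dvd_iff.mpr h
    rw [hF] at this
    exact hodd.not_two_dvd_nat this
  have hP := Cfsg.Agent.Classical.Dickson.card_P2 (F := F)
  rw [Cfsg.Agent.Classical.Dickson.two_dvd_pred h2, hF, ← hK] at hP
  have h3 : Q * (Q ^ 2 - 1) * 2 ∣ Q ^ (2 * j + 1) * ((Q ^ (2 * j + 1)) ^ 2 - 1) := hP ▸ Nat.mul_dvd_mul_right h1 2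
  have hQodd : Odd Q := by
    rw [← hK] at hodd
    exact (Nat.odd_pow_iff (by omega)).mp hodd
  have hQ2 : 2 ≤ Q := hQ ▸ Fintype.one_lt_card
  have e4 : (Q ^ (2 * j + 1)) ^ 2 - 1 = (Q ^ 2 - 1) * ∑ i ∈ Finset.range (2 * j + 1), (Q ^ 2) ^ i := by
    rw [← pow_mul, mul_comm _ 2, pow_mul, mul_comm (Q ^ 2 - 1)]
    exact (geom_sum_mul_of_one_le (Nat.one_le_pow _ _ (by omega)) _).symm
  rw [e4, show Q ^ (2 * j + 1) = Q ^ (2 * j) * Q from pow_succ _ _] at h3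
  have h5 : 2 ∣ Q ^ (2 * j) * ∑ i ∈ Finset.range (2 * j + 1), (Q ^ 2) ^ i := by
    refine Nat.dvd_of_mul_dvd_mul_left (k := Q * (Q ^ 2 - 1)) (Nat.mul_pos (by omega) ?_) (h3.trans (dvd_of_eq (by ring)))
    have := Nat.pow_le_pow_left hQ2 2
    omega
  rcases Nat.prime_two.dvd_mul.mp h5 with h | h
  · exact hQodd.not_two_dvd_nat (Nat.prime_two.dvd_of_dvd_pow h)
  · rw [Nat.dvd_iff_mod_eq_zero, Finset.sum_nat_mod] at h
    simp [Nat.pow_mod, Nat.odd_iff.mp hQodd] at h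

end Cfsg.Agent.S0805
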