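import Cfsg.Statements.S0808
import Cfsg.Agent.Lib.Classical.SL2FourSylow

set_option autoImplicit false
open Cfsg

namespace Cfsg.Agent.S0808

/-- Conjugacy classes of four-groups in PSL_2(q), q odd: if q ≡ 3 or 5 (mod 8) all Klein four-subgroups are conjugate; if q ≡ 1 or 7 (mod 8) there are two Klein four-subgroups which are not conjugate, and every Klein four-subgroup is conjugate to one of them. -/
theorem result {F : Type*} [Field F] [Fintype F] {q : ℕ} (hF : Fintype.card F = q) (hodd : Odd q) : ((q % 8 = 3 ∨ q % 8 = 5) → ∀ V W : Subgroup (Matrix.ProjectiveSpecialLinearGroup (Fin 2) F), IsKleinFour V → IsKleinFour W → ∃ g : Matrix.ProjectiveSpecialLinearGroup (Fin 2) F, W = V.map (MulAut.conj g).toMonoidHom) ∧ ((q % 8 = 1 ∨ q % 8 = 7) → ∃ V₁ V₂ : Subgroup (Matrix.ProjectiveSpecialLinearGroup (Fin 2) F), IsKleinFour V₁ ∧ IsKleinFour V₂ ∧ (¬ ∃ g : Matrix.ProjectiveSpecialLinearGroup (Fin 2) F, V₂ = V₁.map (MulAut.conj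 g).toMonoidHom) ∧ ∀ W : Subgroup (Matrix.ProjectiveSpecialLinearGroup (Fin 2) F), IsKleinFour W → (∃ g : Matrix.ProjectiveSpecialLinearGroup (Fin 2) F, W = V₁.map (MulAut.conj g).toMonoidHom) ∨ (∃ g : Matrix.ProjectiveSpecialLinearGroup (Fin 2) F, W = V₂.map (MulAut.conj g).toMonoidHom)) := by
  have h2 : (2 : F) ≠ 0 := Cfsg.Agent.Classical.SL2Four.two_ne_zero_of_odd hF hodd
  subst hF
  refine ⟨fun h V W hV hW => Cfsg.Agent.Classical.SL2Four.klein_conj_of_mod_eight h2 h V W hV hW,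
    fun h8 => ?_⟩
  obtain ⟨A, hA⟩ := Cfsg.Agent.Classical.SL2Four.exists_trace_zero (F := F) h2
  obtain ⟨j, hj⟩ := Cfsg.Agent.Classical.SL2Four.exists_anti h2 hA
  have := Cfsg.Agent.Small.SL2C.isCyclic_centralizer
    (Cfsg.Agent.Classical.SL2Four.trace_sq_ne_four h2 hA)
  obtain ⟨⟨c, hct⟩, hgen⟩ := IsCyclic.exists_generator (α := Cfsg.Agent.Small.SL2C.tor A)
  have hc : ∀ t, t ∈ Cfsg.Agent.Small.SL2C.tor A ↔ t ∈ Subgroup.zpowers c := by
    intro t
    constructor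
    · intro ht
      obtain ⟨n, hn⟩ := Subgroup.mem_zpowers_iff.mp (hgen ⟨t, ht⟩)
      exact ⟨n, congrArg Subtype.val hn⟩
    · rintro ⟨n, rfl⟩
      exact zpow_mem hct n
  have hj' : Cfsg.Agent.Classical.SL2Four.Anti A (j * c) :=
    (Cfsg.Agent.Classical.SL2Four.anti_iff hj).mpr (by rw [inv_mul_cancel_left]; exact hct)
  have h1 := (Cfsg.Agent.Classical.SL2Four.isPair_pr_iff h2 (A, j)).mpr ⟨hA, hj⟩
  have h3 := (Cfsg.Agent.Classical.SL2Four.isPair_pr_iff h2 (A, j * c)).mpr ⟨hA, hj'⟩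
  have k1 := Cfsg.Agent.Classical.SL2Four.pairGroup_isKleinFour h1
  have k3 := Cfsg.Agent.Classical.SL2Four.pairGroup_isKleinFour h3
  have two := fun W hW => Cfsg.Agent.Classical.SL2Four.klein_two_classes h2 hA hj hc k1 k3
    (Or.inr (Or.inl rfl)) (Or.inr (Or.inr (Or.inl rfl))) (Or.inr (Or.inl rfl))
    (Or.inr (Or.inr (Or.inl rfl))) W hW
  refine ⟨_, _, k1, k3, fun hconj => ?_, two⟩
  refine Cfsg.Agent.Classical.SL2Four.not_all_conj h2 h8 hA hj hc k1
    (Or.inr (Or.inl rfl)) (Or.inr (Or.inr (Or.inl rfl))) fun W hW => ?_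
  rcases two W hW with h | ⟨g, hg⟩
  · exact h
  · obtain ⟨a, ha⟩ := hconj
    refine ⟨g * a, ?_⟩
    rw [hg, ha, Subgroup.map_map]
    congr 1
    ext x
    simp [mul_assoc]

end Cfsg.Agent.S0808
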