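import Cfsg.Statements.S0809
import Cfsg.Agent.Lib.Classical.SL2FourSylow

set_option autoImplicit false
open Cfsg

namespace Cfsg.Agent.S0809

/-- In SL_2(q), q odd: any two subgroups of order 4 are conjugate, and the normaliser of a subgroup of order 4 has order 2(q − 1) if q ≡ 1 (mod 4) and 2(q + 1) if q ≡ 3 (mod 4); consequently all involutions of PSL_2(q) are conjugate. -/
theorem result {F : Type*} [Field F] [Fintype F] {q : ℕ} (hF : Fintype.card F = q) (hodd : Odd q) (A : Subgroup (Matrix.SpecialLinearGroup (Fin 2) F)) (hA : Nat.card A = 4) : (∀ B : Subgroup (Matrix.SpecialLinearGroup (Fin 2) F), Nat.card B = 4 → ∃ g : Matrix.SpecialLinearGroup (Fin 2) F, B = A.map (MulAut.conj g).toMonoidHom) ∧ (q % 4 = 1 → Nat.card ↥(Subgroup.normalizer (A : Set (Matrix.SpecialLinearGroup (Fin 2) F))) = 2 * (q - 1)) ∧ (q % 4 = 3 → Nat.card ↥(Subgroup.normalizer (A : Set (Matrix.SpecialLinearGroup (Fin 2) F))) = 2 * (q + 1)) ∧ (∀ x y : Matrix.ProjectiveSpecialLinearGroup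 (Fin 2) F, orderOf x = 2 → orderOf y = 2 → IsConj x y) := by
  have h2 : (2 : F) ≠ 0 := Cfsg.Agent.Classical.SL2Four.two_ne_zero_of_odd hF hodd
  refine ⟨fun B hB => Cfsg.Agent.Classical.SL2Four.four_conj h2 hA hB, fun h => ?_, fun h => ?_,
    fun x y hx hy => Cfsg.Agent.Classical.SL2Four.involutions_conj h2 hx hy⟩
  · rw [Cfsg.Agent.Classical.SL2Four.card_normalizer_four h2 hA,
      (Cfsg.Agent.Classical.SL2Four.sol_zero h2).1 (by rw [hF]; exact h), hF]
  · rw [Cfsg.Agent.Classical.SL2Four.card_normalizer_four h2 hA,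
      (Cfsg.Agent.Classical.SL2Four.sol_zero h2).2 (by rw [hF]; exact h), hF]

end Cfsg.Agent.S0809
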