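import Cfsg.Statements.S0813
import Cfsg.Agent.Lib.Small.PSLn.Out

set_option autoImplicit false
open Cfsg

namespace Cfsg.Agent.S0813

open Cfsg.Agent.Small.PSLn

/-- |Aut(PSL_n(q))|, q = p^f: for n ≥ 3 it is 2 f |PGL_n(q)|, and for n = 2 (q ≥ 4) it is f |PGL_2(q)|. -/
theorem result {F : Type*} [Field F] [Fintype F] (p f : ℕ) [Fact p.Prime] (hf : 1 ≤ f) (hF : Fintype.card F = p ^ f) (n : ℕ) (hn : 2 ≤ n) (h2 : n = 2 → 4 ≤ p ^ f) : Nat.card (MulAut (Matrix.ProjectiveSpecialLinearGroup (Fin n) F)) = (if n = 2 then 1 else 2) * f * Nat.card (Matrix.ProjGenLinGroup (Fin n) F) := by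
  classical
  obtain ⟨e⟩ := fieldAut_equiv hF
  have hcard : Nat.card (F ≃+* F) = f := by
    rw [Nat.card_congr e.toEquiv, Nat.card_congr Multiplicative.toAdd, Nat.card_zmod]
  have key : ∀ {H : Type _} [Group H] (Θ : MulAut (Matrix.ProjectiveSpecialLinearGroup (Fin n) F) →* H),
      Function.Surjective Θ → Θ.ker = (conjP (n := n) (F := F)).range →
      Nat.card (MulAut (Matrix.ProjectiveSpecialLinearGroup (Fin n) F)) =
        Nat.card H * Nat.card (Matrix.ProjGenLinGroup (Fin n) F) := by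
    intro H _ Θ hs hk
    rw [Subgroup.card_eq_card_quotient_mul_card_subgroup Θ.ker,
      Nat.card_congr (QuotientGroup.quotientKerEquivOfSurjective Θ hs).toEquiv, hk,
      card_conjP_range hn]
  by_cases h : n = 2
  · obtain ⟨Θ, hΘ, hker⟩ := exists_theta_two (n := n) (F := F) h
    rw [if_pos h, key Θ (fun σ => ⟨_, hΘ 1 σ⟩) hker, hcard, one_mul]
  · obtain ⟨Θ, hΘ, hker⟩ := exists_theta (n := n) (F := F) (by omega)
    rw [if_neg h, key Θ (fun x => ⟨_, hΘ 1 x.1 x.2⟩) hker, Nat.card_prod, hcard,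
      Nat.card_congr Multiplicative.toAdd, Nat.card_zmod, mul_comm f 2]

end Cfsg.Agent.S0813
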