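import Cfsg.Statements.S0816
import Cfsg.Agent.Lib.Small.OrthAut.Counts

set_option autoImplicit false
open Cfsg

namespace Cfsg.Agent.S0816

/-- |Aut(PΩ_(2m+1)(q))| = 2 f · |PΩ_(2m+1)(q)| for q = p^f odd and m ≥ 3 (for the form quadFormOdd). -/
theorem result {F : Type*} [Field F] [Fintype F] (p f : ℕ) [Fact p.Prime] (hf : 1 ≤ f) (hF : Fintype.card F = p ^ f) (hodd : Odd p) (m : ℕ) (hm : 3 ≤ m) : Nat.card (MulAut (Cfsg.POmega F (Cfsg.quadFormOdd m F))) = 2 * f * Nat.card (Cfsg.POmega F (Cfsg.quadFormOdd m F)) := by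
  have hodd' : Odd (Fintype.card F) := hF ▸ hodd.pow
  have h2 := Cfsg.Agent.Classical.OOmega.two_ne_of_odd hodd'
  have h := Cfsg.Agent.Small.OrthAut.card_mulAut_odd h2 hm
  have hc := Cfsg.Agent.Classical.OCount.card_GO_odd h2 m (F := F)
  have hp := Cfsg.Agent.Classical.OOmega.card_POmega_odd hodd' (show 2 ≤ m by omega)
  rw [Cfsg.Agent.Classical.OOmega.coe_odd] at h
  rw [hc, Cfsg.Agent.Small.OrthAut.card_fieldAut hF, mul_assoc 2 (Fintype.card F ^ (m ^ 2)), ← hp] at h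
  refine mul_left_cancel₀ (two_ne_zero' ℕ) (h.trans ?_)
  ring

end Cfsg.Agent.S0816
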