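import Cfsg.Statements.S0818
import Cfsg.Agent.Lib.Small.OrthAut.Counts

set_option autoImplicit false
open Cfsg

namespace Cfsg.Agent.S0818

theorem gcd_eq (p f : ℕ) [Fact p.Prime] (hf : 1 ≤ f) (m : ℕ) (hm : 1 ≤ m) :
    2 * Nat.gcd 4 ((p ^ f) ^ m + 1) = if p = 2 then 2 else (if Even (m * (p ^ f - 1) / 2) then 4 else 8) := by
  rcases (Fact.out : p.Prime).eq_two_or_odd with rfl | hp
  · rw [if_pos rfl]
    have he : (2 ^ f) ^ m % 2 = 0 := by
      rw [← pow_mul, Nat.pow_mod]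
      simp [show f * m ≠ 0 from Nat.mul_ne_zero (by omega) (by omega)]
    rw [Nat.gcd_rec, Nat.gcd_comm]
    rcases (show ((2 ^ f) ^ m + 1) % 4 = 1 ∨ ((2 ^ f) ^ m + 1) % 4 = 3 by omega) with e | e <;> rw [e] <;> rfl
  · rw [if_neg (by omega)]
    have hqo : p ^ f % 2 = 1 := by simp [Nat.pow_mod, hp]
    generalize p ^ f = q at hqo ⊢
    obtain ⟨k, hk⟩ : ∃ k, q = 2 * k + 1 := ⟨q / 2, by omega⟩
    subst hk
    rw [Nat.add_sub_cancel, show m * (2 * k) / 2 = m * k by
      rw [show m * (2 * k) = 2 * (m * k) by ring, Nat.mul_div_cancel_left _ two_pos], Nat.gcd_rec, Nat.gcd_comm]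
    have key : (2 * k + 1) ^ m % 4 = if Even (m * k) then 1 else 3 := by
      clear hm hqo
      induction m with
      | zero => simp
      | succ n ih =>
        rw [pow_succ, Nat.mul_mod, ih, add_mul, one_mul]
        rcases Nat.even_or_odd k with hk | hk
        · have h1 : Even (n * k) := hk.mul_left n
          rw [if_pos h1, if_pos (h1.add hk)]
          obtain ⟨r, rfl⟩ := hk
          omega
        · have h3 : (2 * k + 1) % 4 = 3 := by obtain ⟨r, rfl⟩ := hk; omega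
          rw [h3]
          by_cases h1 : Even (n * k)
          · rw [if_pos h1, if_neg (Nat.not_even_iff_odd.2 (h1.add_odd hk))]
          · rw [if_neg h1, if_pos ((Nat.not_even_iff_odd.1 h1).add_odd hk)]
    rw [Nat.add_mod, key]
    split_ifs <;> rfl


/-- |Aut(PΩ⁻_2m(q))| for q = p^f, m ≥ 4 (form quadFormMinus (m−1) with anisotropic binary part): |PΩ⁻_2m(q)| times f, times 2 if p = 2, and times 4 or 8 if p is odd according as m(q−1)/2 is even or odd. -/
theorem result {F : Type*} [Field F] [Fintype F] (p f : ℕ) [Fact p.Prime] (hf : 1 ≤ f) (hF : Fintype.card F = p ^ f) (m : ℕ) (hm : 4 ≤ m) (a b : F) (hab : ∀ z₁ z₂ : F, z₁ ^ 2 + a * z₁ * z₂ + b * z₂ ^ 2 = 0 → z₁ = 0 ∧ z₂ = 0) : Nat.card (MulAut (Cfsg.POmega F (Cfsg.quadFormMinus (m - 1) F a b))) = (if p = 2 then 2 else (if Even (m * (p ^ f - 1) / 2) then 4 else 8)) * f * Nat.card (Cfsg.POmega F (Cfsg.quadFormMinus (m - 1) F a b)) := by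
  obtain ⟨j, rfl⟩ : ∃ j, m = j + 1 := ⟨m - 1, by omega⟩
  have h := Cfsg.Agent.Small.OrthAut.card_mulAut_minus (show 3 ≤ j by omega) hab
  have hc := Cfsg.Agent.Classical.OCount.card_GO_minus j a b hab
  have hp := Cfsg.Agent.Classical.OOmega.card_POmega_minus (show 3 ≤ j + 1 by omega) a b hab
  rw [Cfsg.Agent.Classical.OOmega.coe_minus] at h
  rw [Nat.add_sub_cancel] at hp ⊢
  have hq : (Fintype.card F ^ (j + 1) : ℕ) = (p ^ f) ^ (j + 1) := by rw [hF]
  rw [hc, Cfsg.Agent.Small.OrthAut.card_fieldAut hF, mul_assoc 2 (Fintype.card F ^ ((j + 1) * j)), mul_assoc 2,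
    ← hp] at h
  rw [h, ← gcd_eq p f hf (j + 1) (by omega), hq]
  ring

end Cfsg.Agent.S0818
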