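import Cfsg.Statements.S2739
import Mathlib
import Cfsg.Agent.Lib.Small.Semisimple
-- import your own Cfsg.Agent.* helpers here

set_option autoImplicit false
open scoped Pointwise
open Cfsg

namespace Cfsg.Agent.S2739

open Cfsg.Agent.Small

open Polynomial Matrix
open scoped Pointwise

variable {F : Type*} [Field F] [Fintype F]

set_option maxHeartbeats 1000000 in
/-- A non-scalar `x` in `SL₃(4)` with scalar cube has characteristic polynomial `X³ - 1`. -/
theorem charpoly_eq (hF : Fintype.card F = 4) (x : Matrix.SpecialLinearGroup (Fin 3) F) (c : F)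
    (hc : (x : Matrix (Fin 3) (Fin 3) F) ^ 3 = c • 1)
    (hns : ∀ a : F, (x : Matrix (Fin 3) (Fin 3) F) ≠ a • 1) :
    (x : Matrix (Fin 3) (Fin 3) F).charpoly = X ^ 3 - 1 ∧ c = 1 := by
  classical
  have : Fact (Nat.Prime 2) := ⟨Nat.prime_two⟩
  have : CharP F 2 := by
    obtain ⟨p, hp⟩ := CharP.exists F
    obtain ⟨f, hp', hf⟩ := FiniteField.card F p
    have h2 : p ∣ 2 ^ 2 := by
      rw [show (2 : ℕ) ^ 2 = 4 from rfl, ← hF, hf]
      exact dvd_pow_self p f.ne_zero
    obtain rfl := (Nat.prime_dvd_prime_iff_eq hp' Nat.prime_two).mp (hp'.dvd_of_dvd_pow h2)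
    exact hp
  have hc0 : c ≠ 0 := fun h => by
    rw [h, zero_smul] at hc
    have := congrArg Matrix.det hc
    rw [Matrix.det_pow, x.2, one_pow, Matrix.det_zero] at this
    exact one_ne_zero this
  have hcube : ∀ a : F, a ≠ 0 → a ^ 3 = 1 := fun a ha => by
    have := FiniteField.pow_card_sub_one_eq_one a ha
    rwa [hF] at this
  set M : Matrix (Fin 3) (Fin 3) F := (x : Matrix (Fin 3) (Fin 3) F) with hMdef
  set P := M.charpoly with hP
  have hPm : P.Monic := M.charpoly_monic
  have hPd : P.natDegree = 3 := by rw [hP, Matrix.charpoly_natDegree_eq_dim, Fintype.card_fin]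
  have hmin : minpoly F M ∣ X ^ 3 - C c := minpoly.dvd F M (by
    rw [map_sub, map_pow, aeval_X, aeval_C, hc, Algebra.algebraMap_eq_smul_one, sub_self])
  have hc1 : c = 1 := by
    by_contra hne
    have hirr : Irreducible (X ^ 3 - C c : F[X]) := by
      rw [(monic_X_pow_sub_C c (by norm_num)).irreducible_iff_roots_eq_zero_of_degree_le_three
        (by rw [natDegree_X_pow_sub_C]; norm_num) (by rw [natDegree_X_pow_sub_C])]
      refine Multiset.eq_zero_of_forall_notMem fun z hz => ?_
      rw [mem_roots (monic_X_pow_sub_C c (by norm_num)).ne_zero, IsRoot.def, eval_sub, eval_pow, eval_X,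
        eval_C, sub_eq_zero] at hz
      refine hne (hz ▸ hcube z fun h => hc0 ?_)
      rw [← hz, h]; simp
    obtain ⟨q, hq, hqP⟩ := Polynomial.exists_irreducible_of_natDegree_pos (f := P) (by omega)
    have h1 := (Semisimple.dvd_minpoly_of_dvd_charpoly M hq hqP).trans hmin
    have hassoc := hq.associated_of_dvd hirr h1
    have hXm : (X ^ 3 - C c : F[X]).Monic := monic_X_pow_sub_C c (show 3 ≠ 0 by norm_num)
    have hXd : (X ^ 3 - C c : F[X]) ∣ P := hassoc.symm.dvd.trans hqP
    have hle : P.natDegree ≤ (X ^ 3 - C c : F[X]).natDegree := by rw [hPd, natDegree_X_pow_sub_C]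
    have heq : X ^ 3 - C c = P := (Polynomial.eq_of_monic_of_dvd_of_natDegree_le hXm hPm hXd hle).symm
    have hd := Matrix.det_eq_sign_charpoly_coeff M
    rw [← hP, ← heq, hMdef, x.2, Fintype.card_fin] at hd
    simp [coeff_X_pow] at hd
    exact hne (by linear_combination -hd)
  subst hc1
  refine ⟨?_, rfl⟩
  rw [map_one] at hmin
  have hroots : (Finset.univ.erase (0 : F)).val ≤ (X ^ 3 - 1 : F[X]).roots := by
    refine (Multiset.le_iff_subset (Finset.nodup _)).mpr fun a ha => ?_
    have hne0 : (X ^ 3 - 1 : F[X]) ≠ 0 := by simpa using (monic_X_pow_sub_C (1 : F) (show 3 ≠ 0 by norm_num)).ne_zero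
    rw [mem_roots hne0, IsRoot.def, eval_sub, eval_pow, eval_X, eval_one, sub_eq_zero]
    exact hcube a (Finset.ne_of_mem_erase (Finset.mem_def.mpr ha))
  have hd3 : (X ^ 3 - 1 : F[X]).natDegree = 3 := by simpa using natDegree_X_pow_sub_C (n := 3) (r := (1 : F))
  have hecard : (Finset.univ.erase (0 : F)).card = 3 := by
    rw [Finset.card_erase_of_mem (Finset.mem_univ _), Finset.card_univ, hF]
  have hr : (X ^ 3 - 1 : F[X]).roots = (Finset.univ.erase (0 : F)).val :=
    (Multiset.eq_of_le_of_card_le hroots (by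
      have h := card_roots' (X ^ 3 - 1 : F[X])
      rw [hd3] at h
      rw [Finset.card_val, hecard]
      exact h)).symm
  have hsp : Splits (X ^ 3 - 1 : F[X]) := splits_iff_card_roots.mpr (by rw [hr, Finset.card_val, hecard, hd3])
  have hPs : Splits P := by
    obtain ⟨u, hu⟩ := UniqueFactorizationMonoid.factors_prod hPm.ne_zero
    rw [← hu]
    refine (Splits.multisetProd fun g hg => ?_).mul u.isUnit.splits
    have h1 := (Semisimple.dvd_minpoly_of_dvd_charpoly M (UniqueFactorizationMonoid.irreducible_of_factor g hg)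
      (UniqueFactorizationMonoid.dvd_of_mem_factors hg)).trans hmin
    refine hsp.of_dvd ?_ h1
    intro h; rw [h] at hd3; simp at hd3
  have hcard : P.roots.card = 3 := by rw [← hPs.natDegree_eq_card_roots, hPd]
  obtain ⟨a, b, d, habd⟩ := Multiset.card_eq_three.mp hcard
  have hprod : a * b * d = 1 := by
    have h := Matrix.det_eq_prod_roots_charpoly_of_splits hPs
    rw [hMdef, x.2, ← hMdef, ← hP, habd] at h
    simpa [mul_assoc] using h.symm
  by_cases hdist : a ≠ b ∧ b ≠ d ∧ a ≠ d
  · have hsub : P.roots = (Finset.univ.erase (0 : F)).val := by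
      refine Multiset.eq_of_le_of_card_le ((Multiset.le_iff_subset ?_).mpr fun y hy => ?_)
        (by rw [hcard, Finset.card_val, hecard])
      · rw [habd]; simp [hdist.1, hdist.2.1, hdist.2.2]
      · rw [← Finset.mem_def, Finset.mem_erase]
        refine ⟨fun h0 => ?_, Finset.mem_univ _⟩
        rw [habd, h0] at hy
        simp at hy
        rcases hy with h | h | h <;> simp [← h] at hprod
    rw [hPs.eq_prod_roots_of_monic hPm, hsp.eq_prod_roots_of_monic (by simpa using monic_X_pow_sub_C (1 : F) (show 3 ≠ 0 by norm_num)),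
      hsub, hr]
  · exfalso
    obtain ⟨e, he⟩ : ∃ e, a = e ∧ b = e ∧ d = e := by
      have h3 : ∀ y z : F, y * y * z = 1 → z = y := fun y z h => by
        have hy : y ≠ 0 := fun h0 => by simp [h0] at h
        have := hcube y hy
        have e1 : y * y * z = y * y * y := by rw [h, ← this]; ring
        exact mul_left_cancel₀ (mul_ne_zero hy hy) e1
      rcases not_and_or.mp hdist with h | h
      · rw [not_not] at h; subst h; exact ⟨a, rfl, rfl, h3 a d hprod⟩
      rcases not_and_or.mp h with h | h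
      · rw [not_not] at h; subst h; exact ⟨b, h3 b a (by linear_combination hprod), rfl, rfl⟩
      · rw [not_not] at h; subst h; exact ⟨a, rfl, h3 a b (by linear_combination hprod), rfl⟩
    obtain ⟨ha', hb', hd'⟩ := he
    rw [ha', hb', hd'] at habd hprod
    clear ha' hb' hd' hdist
    clear a b d
    rename' e => a
    have ha : a ≠ 0 := fun h => by simp [h] at hprod
    let S : GL (Fin 3) F := Units.map (algebraMap F (Matrix (Fin 3) (Fin 3) F)).toMonoidHom (Units.mk0 a ha)
    have hS3 : S ^ 3 = 1 := by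
      rw [show S = Units.map (algebraMap F (Matrix (Fin 3) (Fin 3) F)).toMonoidHom (Units.mk0 a ha) from rfl,
        ← map_pow, show (Units.mk0 a ha) ^ 3 = 1 from Units.ext (hcube a ha), map_one]
    have hx3 : (x : GL (Fin 3) F) ^ 3 = 1 := Units.ext (by
      rw [Units.val_pow_eq_pow_val]
      show M ^ 3 = 1
      rw [hc, one_smul])
    have hcop : ∀ g : GL (Fin 3) F, g ^ 3 = 1 → (orderOf g).Coprime 2 := fun g hg =>
      Nat.Coprime.coprime_dvd_left (orderOf_dvd_of_pow_eq_one hg) (by norm_num)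
    have hconj := Semisimple.isConj_of_charpoly 2 (x : GL (Fin 3) F) S (hcop _ hx3) (hcop _ hS3) (by
      show P = (algebraMap F (Matrix (Fin 3) (Fin 3) F) a).charpoly
      rw [Matrix.algebraMap_eq_diagonal, Matrix.charpoly_diagonal, hPs.eq_prod_roots_of_monic hPm, habd]
      simp [Fin.prod_univ_three]
      ring)
    obtain ⟨g, hg⟩ := isConj_iff.mp hconj.symm
    have : M = algebraMap F (Matrix (Fin 3) (Fin 3) F) a := by
      have h := congrArg Units.val hg
      simp only [Units.val_mul] at h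
      rw [show (S : Matrix (Fin 3) (Fin 3) F) = algebraMap F (Matrix (Fin 3) (Fin 3) F) a from rfl,
        (Algebra.commutes a (g : Matrix (Fin 3) (Fin 3) F)).symm, mul_assoc, Units.mul_inv, mul_one] at h
      exact h.symm
    exact hns a (by rw [this, Algebra.algebraMap_eq_smul_one])

theorem conj_of_order_three (hF : Fintype.card F = 4) {x y : Matrix.ProjectiveSpecialLinearGroup (Fin 3) F}
    (hx : orderOf x = 3) (hy : orderOf y = 3) : IsConj x y := by
  classical
  obtain ⟨A, rfl⟩ := QuotientGroup.mk_surjective x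
  obtain ⟨B, rfl⟩ := QuotientGroup.mk_surjective y
  have key : ∀ A : Matrix.SpecialLinearGroup (Fin 3) F,
      orderOf (QuotientGroup.mk A : Matrix.ProjectiveSpecialLinearGroup (Fin 3) F) = 3 →
      (A : Matrix (Fin 3) (Fin 3) F).charpoly = X ^ 3 - 1 ∧ (A : GL (Fin 3) F) ^ 3 = 1 := by
    intro A hA
    have h3 : A ^ 3 ∈ Subgroup.center (Matrix.SpecialLinearGroup (Fin 3) F) := by
      rw [← QuotientGroup.eq_one_iff, QuotientGroup.mk_pow]
      have h := pow_orderOf_eq_one (QuotientGroup.mk A : Matrix.ProjectiveSpecialLinearGroup (Fin 3) F)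
      rwa [hA] at h
    obtain ⟨c, -, hc⟩ := Matrix.SpecialLinearGroup.mem_center_iff.mp h3
    rw [Matrix.SpecialLinearGroup.coe_pow, Matrix.scalar_apply, ← Matrix.smul_one_eq_diagonal] at hc
    obtain ⟨h1, hc1⟩ := charpoly_eq hF A c hc.symm (fun a ha => by
      have hcen : A ∈ Subgroup.center (Matrix.SpecialLinearGroup (Fin 3) F) := by
        refine Subgroup.mem_center_iff.mpr fun B => Subtype.ext ?_
        show (B : Matrix (Fin 3) (Fin 3) F) * (A : Matrix (Fin 3) (Fin 3) F) = (A : Matrix (Fin 3) (Fin 3) F) * B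
        rw [ha]; simp
      rw [(QuotientGroup.eq_one_iff _).mpr hcen, orderOf_one] at hA
      exact absurd hA (by norm_num))
    refine ⟨h1, Units.ext ?_⟩
    rw [Units.val_pow_eq_pow_val]
    exact hc.symm.trans (by rw [hc1, one_smul, Units.val_one])
  have : Fact (Nat.Prime 2) := ⟨Nat.prime_two⟩
  have : CharP F 2 := by
    obtain ⟨p, hp⟩ := CharP.exists F
    obtain ⟨f, hp', hf⟩ := FiniteField.card F p
    have h2 : p ∣ 2 ^ 2 := by
      rw [show (2 : ℕ) ^ 2 = 4 from rfl, ← hF, hf]
      exact dvd_pow_self p f.ne_zero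
    obtain rfl := (Nat.prime_dvd_prime_iff_eq hp' Nat.prime_two).mp (hp'.dvd_of_dvd_pow h2)
    exact hp
  have hcop : ∀ g : GL (Fin 3) F, g ^ 3 = 1 → (orderOf g).Coprime 2 := fun g hg =>
    Nat.Coprime.coprime_dvd_left (orderOf_dvd_of_pow_eq_one hg) (by norm_num)
  obtain ⟨hA1, hA3⟩ := key A hx
  obtain ⟨hB1, hB3⟩ := key B hy
  obtain ⟨g, hg⟩ := isConj_iff.mp (Semisimple.isConj_of_charpoly 2 (A : GL (Fin 3) F) (B : GL (Fin 3) F)
    (hcop _ hA3) (hcop _ hB3) (hA1.trans hB1.symm))
  obtain ⟨z, hz, hzd⟩ := Semisimple.exists_centralizing_det 2 (A : GL (Fin 3) F) g⁻¹ (hcop _ hA3)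
  have hdet : ((g * z : GL (Fin 3) F) : Matrix (Fin 3) (Fin 3) F).det = 1 := by
    rw [Units.val_mul, Matrix.det_mul, hzd, ← Matrix.det_mul, Units.mul_inv, Matrix.det_one]
  let h : Matrix.SpecialLinearGroup (Fin 3) F := ⟨_, hdet⟩
  have hconj : h * A * h⁻¹ = B := by
    apply Matrix.SpecialLinearGroup.toGL_injective
    rw [map_mul, map_mul, map_inv, show Matrix.SpecialLinearGroup.toGL h = g * z from Units.ext rfl]
    show g * z * (A : GL (Fin 3) F) * (g * z)⁻¹ = _
    rw [mul_assoc g z, hz, ← mul_assoc, _root_.mul_inv_rev, mul_assoc (g * (A : GL (Fin 3) F)) z, mul_inv_cancel_left]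
    exact hg
  exact isConj_iff.mpr ⟨QuotientGroup.mk h, by rw [← hconj]; rfl⟩

/-- In the projective special linear group PSL(3, 4) all subgroups of order 3 are conjugate. -/
theorem result (F : Type*) [Field F] [Fintype F] (hF : Fintype.card F = 4) (X Y : Subgroup (Matrix.ProjectiveSpecialLinearGroup (Fin 3) F)) (hX : Nat.card ↥X = 3) (hY : Nat.card ↥Y = 3) : ∃ g : Matrix.ProjectiveSpecialLinearGroup (Fin 3) F, MulAut.conj g • X = Y := by
  have : Fact (Nat.Prime 3) := ⟨Nat.prime_three⟩
  have : IsCyclic X := isCyclic_of_prime_card hX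
  have : IsCyclic Y := isCyclic_of_prime_card hY
  obtain ⟨x, hx⟩ := IsCyclic.exists_generator (α := X)
  obtain ⟨y, hy⟩ := IsCyclic.exists_generator (α := Y)
  have ox : orderOf (x : Matrix.ProjectiveSpecialLinearGroup (Fin 3) F) = 3 := by
    rw [Subgroup.orderOf_coe, orderOf_eq_card_of_forall_mem_zpowers hx, hX]
  have oy : orderOf (y : Matrix.ProjectiveSpecialLinearGroup (Fin 3) F) = 3 := by
    rw [Subgroup.orderOf_coe, orderOf_eq_card_of_forall_mem_zpowers hy, hY]
  have eX : X = Subgroup.zpowers (x : Matrix.ProjectiveSpecialLinearGroup (Fin 3) F) :=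
    (Subgroup.eq_of_le_of_card_ge (Subgroup.zpowers_le.mpr x.2) (by rw [Nat.card_zpowers, ox, hX])).symm
  have eY : Y = Subgroup.zpowers (y : Matrix.ProjectiveSpecialLinearGroup (Fin 3) F) :=
    (Subgroup.eq_of_le_of_card_ge (Subgroup.zpowers_le.mpr y.2) (by rw [Nat.card_zpowers, oy, hY])).symm
  obtain ⟨g, hg⟩ := isConj_iff.mp (conj_of_order_three hF ox oy)
  refine ⟨g, ?_⟩
  rw [eX, eY, ← hg]
  show (Subgroup.zpowers _).map (MulAut.conj g).toMonoidHom = _
  rw [MonoidHom.map_zpowers]
  rfl

end Cfsg.Agent.S2739
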