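import Cfsg.Statements.S0819
import Cfsg.Agent.S2739

set_option autoImplicit false
open Cfsg

namespace Cfsg.Agent.S0819

open Polynomial in
/-- An element of order five in `SL₃(4)` commutes with no non-scalar element with scalar cube. -/
theorem no_pair {F : Type*} [Field F] [Fintype F] (hF : Fintype.card F = 4)
    (a b : Matrix.SpecialLinearGroup (Fin 3) F) (ha : a ^ 5 = 1) (hab : a * b = b * a) (c : F)
    (hc : (b : Matrix (Fin 3) (Fin 3) F) ^ 3 = c • 1)
    (hns : ∀ s : F, (b : Matrix (Fin 3) (Fin 3) F) ≠ s • 1) : a = 1 := by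
  classical
  obtain ⟨hP, -⟩ := Cfsg.Agent.S2739.charpoly_eq hF b c hc hns
  obtain ⟨A, hA⟩ : ∃ A, A = Matrix.toLin' (a : Matrix (Fin 3) (Fin 3) F) := ⟨_, rfl⟩
  obtain ⟨B, hB⟩ : ∃ B, B = Matrix.toLin' (b : Matrix (Fin 3) (Fin 3) F) := ⟨_, rfl⟩
  have hcube : ∀ r : F, r ≠ 0 → r ^ 3 = 1 := fun r hr => by
    have := FiniteField.pow_card_sub_one_eq_one r hr
    rwa [hF] at this
  have hev : ∀ r : Fˣ, ∃ v, v ≠ 0 ∧ B v = (r : F) • v := by
    intro r
    have h0 : (Matrix.scalar (Fin 3) (r : F) - (b : Matrix (Fin 3) (Fin 3) F)).det = 0 := by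
      rw [← Matrix.eval_charpoly, hP]
      simp [hcube _ r.ne_zero]
    obtain ⟨v, hv, hv'⟩ := Matrix.exists_mulVec_eq_zero_iff.mpr h0
    refine ⟨v, hv, ?_⟩
    rw [Matrix.sub_mulVec, sub_eq_zero] at hv'
    rw [hB, Matrix.toLin'_apply, ← hv']
    ext i
    simp [Matrix.scalar_apply, Matrix.mulVec_diagonal]
  choose v hv0 hv using hev
  have hli : LinearIndependent F v :=
    Module.End.eigenvectors_linearIndependent' B (fun r : Fˣ => (r : F)) (fun _ _ h => Units.ext h) v
      fun r => ⟨Module.End.mem_eigenspace_iff.mpr (hv r), hv0 r⟩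
  have hcard : Fintype.card Fˣ = Module.finrank F (Fin 3 → F) := by
    rw [Fintype.card_units, hF, Module.finrank_fin_fun]
  obtain ⟨bas, hbas⟩ : ∃ bas : Module.Basis Fˣ F (Fin 3 → F), ⇑bas = v :=
    ⟨basisOfLinearIndependentOfCardEqFinrank hli hcard, coe_basisOfLinearIndependentOfCardEqFinrank hli hcard⟩
  have hBA : ∀ x, B (A x) = A (B x) := fun x => by
    rw [hA, hB, Matrix.toLin'_apply, Matrix.toLin'_apply, Matrix.toLin'_apply, Matrix.toLin'_apply,
      Matrix.mulVec_mulVec, Matrix.mulVec_mulVec, ← Matrix.SpecialLinearGroup.coe_mul,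
      ← Matrix.SpecialLinearGroup.coe_mul, hab]
  have hBrep : ∀ x s, bas.repr (B x) s = (s : F) * bas.repr x s := by
    intro x s
    have h : (bas.coord s).comp B = (s : F) • bas.coord s := by
      refine bas.ext fun r => ?_
      rw [LinearMap.comp_apply, LinearMap.smul_apply, hbas, hv, map_smul, ← hbas, Module.Basis.coord_apply,
        Module.Basis.repr_self, Finsupp.single_apply]
      split_ifs with hrs
      · rw [hrs]
      · simp
    exact DFunLike.congr_fun h x
  have heig : ∀ r, ∃ t : F, A (v r) = t • v r := by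
    intro r
    refine ⟨bas.repr (A (v r)) r, bas.repr.injective (Finsupp.ext fun s => ?_)⟩
    rw [map_smul, ← hbas, Module.Basis.repr_self, hbas]
    rcases eq_or_ne r s with rfl | hrs
    · simp
    · have h := hBrep (A (v r)) s
      rw [hBA, hv, map_smul, map_smul, Finsupp.smul_apply, smul_eq_mul, mul_eq_mul_right_iff] at h
      rcases h with h | h
      · exact absurd (Units.ext h) hrs
      · rw [h]; simp [Ne.symm hrs]
  have h3 : ∀ x, A (A (A x)) = x := by
    intro x
    have : A.comp (A.comp A) = LinearMap.id := by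
      refine bas.ext fun r => ?_
      obtain ⟨t, ht⟩ := heig r
      have ht0 : t ≠ 0 := by
        rintro rfl
        rw [zero_smul, hA, Matrix.toLin'_apply] at ht
        have hdet : IsUnit (a : Matrix (Fin 3) (Fin 3) F) := (Matrix.isUnit_iff_isUnit_det _).mpr (by rw [a.2]; exact isUnit_one)
        exact hv0 r (Matrix.mulVec_injective_of_isUnit hdet (by rw [ht, Matrix.mulVec_zero]))
      rw [hbas, LinearMap.comp_apply, LinearMap.comp_apply, ht, map_smul, ht, map_smul, map_smul, ht, smul_smul,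
        smul_smul, LinearMap.id_apply, show t * t * t = t ^ 3 by ring, hcube t ht0, one_smul]
    exact DFunLike.congr_fun this x
  have ha3 : a ^ 3 = 1 := by
    apply Subtype.ext
    apply Matrix.toLin'.injective
    refine LinearMap.ext fun x => ?_
    have := h3 x
    rw [hA, Matrix.toLin'_apply, Matrix.toLin'_apply, Matrix.toLin'_apply, Matrix.mulVec_mulVec,
      Matrix.mulVec_mulVec] at this
    rw [pow_succ, pow_two, Matrix.SpecialLinearGroup.coe_mul, Matrix.SpecialLinearGroup.coe_mul,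
      Matrix.toLin'_apply, this]
    simp
  calc a = a ^ (3 * 2) := by rw [show 3 * 2 = 5 + 1 from rfl, pow_succ, ha, one_mul]
    _ = 1 := by rw [pow_mul, ha3, one_pow]
/-- No element of PSL_3(4) has order 15. -/
theorem result {F : Type*} [Field F] [Fintype F] (hF : Fintype.card F = 4) (g : Matrix.ProjectiveSpecialLinearGroup (Fin 3) F) : orderOf g ≠ 15 := by
  intro hg
  obtain ⟨h, rfl⟩ := QuotientGroup.mk'_surjective _ g
  let π : Matrix.SpecialLinearGroup (Fin 3) F →* Matrix.ProjectiveSpecialLinearGroup (Fin 3) F :=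
    QuotientGroup.mk' _
  have h15 : π h ^ 15 = 1 := by rw [← hg]; exact pow_orderOf_eq_one _
  have hne : ∀ k, 0 < k → k < 15 → π h ^ k ≠ 1 := fun k h0 hk e => by
    have := Nat.le_of_dvd h0 (orderOf_dvd_of_pow_eq_one e)
    have : orderOf (π h) = 15 := hg
    omega
  have hcent : ∀ z, π z = 1 → z ^ 3 = 1 ∧ ∃ s : F, (z : Matrix (Fin 3) (Fin 3) F) = s • 1 := by
    intro z hz
    obtain ⟨c, hc, hm⟩ := Matrix.SpecialLinearGroup.mem_center_iff.mp ((QuotientGroup.eq_one_iff _).mp hz)
    rw [Fintype.card_fin] at hc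
    refine ⟨Subtype.ext ?_, c, by rw [← hm, Matrix.smul_one_eq_diagonal]; rfl⟩
    rw [Matrix.SpecialLinearGroup.coe_pow, ← hm, ← map_pow, hc, map_one]
    rfl
  have h45 : h ^ 45 = 1 := by
    rw [show 45 = 15 * 3 from rfl, pow_mul]
    exact (hcent _ (by rw [map_pow, h15])).1
  obtain ⟨c, hc⟩ := (hcent ((h ^ 5) ^ 3) (by rw [← pow_mul, map_pow, h15])).2
  have ha := no_pair hF (h ^ 9) (h ^ 5) (by rw [← pow_mul]; exact h45) (Commute.pow_pow (Commute.refl h) 9 5) c
    (by rw [← Matrix.SpecialLinearGroup.coe_pow, hc]) (fun s hs => hne 5 (by norm_num) (by norm_num) (by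
      rw [← map_pow]
      refine (QuotientGroup.eq_one_iff _).mpr (Subgroup.mem_center_iff.mpr fun t => Subtype.ext ?_)
      rw [Matrix.SpecialLinearGroup.coe_mul, Matrix.SpecialLinearGroup.coe_mul, hs, Matrix.mul_smul,
        Matrix.smul_mul, mul_one, one_mul]))
  exact hne 9 (by norm_num) (by norm_num) (by rw [← map_pow, ha, map_one])

end Cfsg.Agent.S0819
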