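import Cfsg.Statements.S0820
import Cfsg.Agent.Lib.Small.SLInvolution

set_option autoImplicit false
open Cfsg

namespace Cfsg.Agent.S0820

/-- Any two elements of order 2 of PSL_3(4) are conjugate. -/
theorem result {F : Type*} [Field F] [Fintype F] (hF : Fintype.card F = 4) (x y : Matrix.ProjectiveSpecialLinearGroup (Fin 3) F) (hx : orderOf x = 2) (hy : orderOf y = 2) : IsConj x y := by
  classical
  haveI : CharP F 2 := by
    obtain ⟨p, hp⟩ := CharP.exists F
    obtain ⟨f, hp', hf⟩ := FiniteField.card F p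
    have h2 : p ∣ 2 ^ 2 := by
      rw [show (2 : ℕ) ^ 2 = 4 from rfl, ← hF, hf]
      exact dvd_pow_self p f.ne_zero
    obtain rfl := (Nat.prime_dvd_prime_iff_eq hp' Nat.prime_two).mp (hp'.dvd_of_dvd_pow h2)
    exact hp
  let π : Matrix.SpecialLinearGroup (Fin 3) F →* Matrix.ProjectiveSpecialLinearGroup (Fin 3) F :=
    QuotientGroup.mk' _
  have lift : ∀ z, orderOf z = 2 → ∃ g, π g = z ∧ orderOf g = 2 ∧
      ((g : Matrix (Fin 3) (Fin 3) F) - 1).rank = 1 := by
    intro z hz
    obtain ⟨h, rfl⟩ := QuotientGroup.mk'_surjective _ z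
    have h2 : π h ^ 2 = 1 := by rw [← hz]; exact pow_orderOf_eq_one _
    have hne : π h ≠ 1 := fun e => by
      rw [show QuotientGroup.mk' _ h = π h from rfl, e, orderOf_one] at hz
      omega
    have hc : h ^ 2 ∈ Subgroup.center (Matrix.SpecialLinearGroup (Fin 3) F) := by
      rw [← map_pow] at h2
      exact (QuotientGroup.eq_one_iff _).mp h2
    obtain ⟨c, hc3, hcm⟩ := Matrix.SpecialLinearGroup.mem_center_iff.mp hc
    have h6 : h ^ 6 = 1 := by
      apply Subtype.ext
      show ((h ^ (2 * 3) : Matrix.SpecialLinearGroup (Fin 3) F) : Matrix (Fin 3) (Fin 3) F) = 1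
      rw [pow_mul, Matrix.SpecialLinearGroup.coe_pow, ← hcm, ← map_pow]
      rw [Fintype.card_fin] at hc3
      rw [hc3, map_one]
    have hg : π (h ^ 3) = π h := by rw [map_pow, pow_succ, h2, one_mul]
    have ho : orderOf (h ^ 3) = 2 := orderOf_eq_prime (by rw [← pow_mul]; exact h6) (fun e => hne (by rw [← hg, e, map_one]))
    refine ⟨h ^ 3, hg, ho, ?_⟩
    obtain ⟨N, hN⟩ : ∃ N, N = ((h ^ 3 : Matrix.SpecialLinearGroup (Fin 3) F) : Matrix (Fin 3) (Fin 3) F) - 1 := ⟨_, rfl⟩
    rw [← hN]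
    have hsq : ((h ^ 3 : Matrix.SpecialLinearGroup (Fin 3) F) : Matrix (Fin 3) (Fin 3) F) *
        ((h ^ 3 : Matrix.SpecialLinearGroup (Fin 3) F) : Matrix (Fin 3) (Fin 3) F) = 1 := by
      rw [← Matrix.SpecialLinearGroup.coe_mul, ← pow_add, h6]; rfl
    have hNN : N * N = 0 := by
      rw [hN, sub_mul, mul_sub, mul_one, one_mul, hsq]
      ext i j
      simp only [Matrix.sub_apply, Matrix.zero_apply]
      linear_combination ((1 : Matrix (Fin 3) (Fin 3) F) i j - ((h ^ 3 : Matrix.SpecialLinearGroup (Fin 3) F) : Matrix (Fin 3) (Fin 3) F) i j) * (CharTwo.two_eq_zero : (2 : F) = 0)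
    have hpos : N.rank ≠ 0 := fun e => by
      rw [Matrix.rank, Submodule.finrank_eq_zero, LinearMap.range_eq_bot] at e
      replace e : N = 0 := Matrix.toLin'.injective (by rw [Matrix.toLin'_apply']; rw [e, map_zero])
      rw [hN, sub_eq_zero] at e
      have : h ^ 3 = 1 := Subtype.ext e
      rw [this, orderOf_one] at ho
      omega
    have hle : N.rank ≤ 1 := by
      have := Matrix.rank_add_rank_le_card_of_mul_eq_zero hNN
      rw [Fintype.card_fin] at this
      omega
    omega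
  obtain ⟨g, rfl, hg, hgr⟩ := lift x hx
  obtain ⟨g', rfl, hg', hgr'⟩ := lift y hy
  exact π.map_isConj ((Cfsg.Agent.Small.SLInvolution.isConj_iff_rank g g' hg hg').mpr (by rw [hgr, hgr']))

end Cfsg.Agent.S0820
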