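import Cfsg.Statements.S0821
import Cfsg.Agent.Lib.Classical.OrthInvolutions
import Cfsg.Agent.Lib.Classical.SympInvolutions

set_option autoImplicit false
open Cfsg
open Cfsg.Agent Cfsg.Agent.Classical
open scoped commutatorElement

namespace Cfsg.Agent.S0821

/-- PSp_2m(q) ≇ PΩ_(2m+1)(q) for q odd and m ≥ 3 (they have the same order). -/
theorem result {F : Type*} [Field F] [Fintype F] (hodd : Odd (Fintype.card F)) (m : ℕ) (hm : 3 ≤ m) : IsEmpty (Cfsg.PSp m F ≃* Cfsg.POmega F (Cfsg.quadFormOdd m F)) := by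
  constructor
  intro φ
  have h2 : (2 : F) ≠ 0 := OOmega.two_ne_of_odd hodd
  -- the orthogonal side
  let e := Equiv.sumComm Unit (Fin m ⊕ Fin m)
  rw [← OOmega.coe_odd m] at φ
  set Q := OOmega.formOf m e (OCount.lineForm F) with hQdef
  have hQ : OCount.PND Q := OOmega.formOf_pnd (OOmega.pnd_line h2)
  have hdim : Module.finrank F (Unit ⊕ (Fin m ⊕ Fin m) → F) = 2 * m + 1 := by
    rw [Module.finrank_fintype_fun_eq_card]; simp; omega
  let E : ↥(commutator ↥(ORefl.Iso Q)) ≃* ↥(Cfsg.Omega F ⇑Q) :=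
    ((commutator ↥(ORefl.Iso Q)).equivMapOfInjective _ (ORefl.toMat Q).injective).trans
      (MulEquiv.subgroupCongr (OOmega.omega_eq_map (Q := Q)).symm)
  choose g hgc hgg hgn hgf using fun k : Fin m =>
    OrthInvol.exists_involution h2 hQ (k.1 + 1) (by have := k.2; omega) (by omega)
  have hcen : ∀ z : ↥(commutator ↥(ORefl.Iso Q)), z ∈ Subgroup.center _ → z.1 = 1 ∨ z.1 = OOmega.negI Q := by
    intro z hz
    obtain ⟨i, hi⟩ : ∃ i : Fin m, i.1 = 0 := ⟨⟨0, by omega⟩, rfl⟩
    obtain ⟨j, hj⟩ : ∃ j : Fin m, j.1 = 1 := ⟨⟨1, by omega⟩, rfl⟩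
    have hij : i ≠ j := fun h => by rw [h] at hi; omega
    refine OOmega.central_of_commute hQ (p := (OOmega.bv e (.inl (.inl i)), OOmega.bv e (.inl (.inr i)))) ?_
      (u := OOmega.bv e (.inl (.inl j))) (z := OOmega.bv e (.inl (.inr j))) ?_ ?_ ?_
      (by omega) fun a v he hv x => ?_
    · exact ⟨by rw [OOmega.formOf_bv]; rfl, by rw [OOmega.formOf_bv]; rfl,
        by rw [OOmega.formOf_polar_bv]; simp [OCount.gram]⟩
    · rw [OCount.mem_comp]; simp [Q, OOmega.formOf_polar_bv, OCount.gram, hij]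
    · rw [OCount.mem_comp]; simp [Q, OOmega.formOf_polar_bv, OCount.gram, hij]
    · exact ⟨by rw [OOmega.formOf_bv]; rfl, by rw [OOmega.formOf_bv]; rfl,
        by rw [OOmega.formOf_polar_bv]; simp [OCount.gram]⟩
    · have := Subgroup.mem_center_iff.mp hz
        ⟨_, OOmega.siegel_mem_commutator hQ (OOmega.two_ne h2) he hv⟩
      exact (congrArg (fun k : ↥(commutator ↥(ORefl.Iso Q)) => k.1.1 x) this).symm
  let ψ : ↥(commutator ↥(ORefl.Iso Q)) →* Cfsg.POmega F ⇑Q :=
    (QuotientGroup.mk' (Subgroup.center ↥(Cfsg.Omega F ⇑Q))).comp E.toMonoidHom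
  have hψsurj : Function.Surjective ψ := (QuotientGroup.mk'_surjective _).comp E.surjective
  have hψker : ∀ z, ψ z = 1 → z ∈ Subgroup.center _ := fun z hz => by
    have h1 : E z ∈ Subgroup.center _ := (QuotientGroup.eq_one_iff _).1 hz
    refine Subgroup.mem_center_iff.2 fun k => E.injective ?_
    rw [map_mul, map_mul]
    exact Subgroup.mem_center_iff.1 h1 (E k)
  let x : Fin m → Cfsg.POmega F ⇑Q := fun k => ψ ⟨g k, hgc k⟩
  have hx2 : ∀ k, x k * x k = 1 := fun k => by
    show ψ _ * ψ _ = 1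
    rw [← map_mul, show (⟨g k, hgc k⟩ * ⟨g k, hgc k⟩ : ↥(commutator ↥(ORefl.Iso Q))) = 1 from
      Subtype.ext (hgg k), map_one]
  have heig1 : ∀ c : F, c ≠ 1 → OrthInvol.eig (1 : ↥(ORefl.Iso Q)) c = ⊥ := fun c hc => by
    rw [eq_bot_iff]
    intro v hv
    have h : v = c • v := OrthInvol.mem_eig.1 hv
    rw [Submodule.mem_bot]
    have : ((1 : F) - c) • v = 0 := by rw [sub_smul, one_smul, ← h, sub_self]
    exact (smul_eq_zero.1 this).resolve_left (sub_ne_zero.2 (Ne.symm hc))
  have hneg : (-1 : F) ≠ 1 := fun h => h2 (by linear_combination -h)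
  have hx1 : ∀ k, x k ≠ 1 := fun k hk => by
    rcases hcen _ (hψker _ hk) with h | h
    · have := hgn k
      rw [show g k = 1 from h, heig1 _ hneg, finrank_bot] at this
      omega
    · have := hgn k
      have htop : OrthInvol.eig (OOmega.negI Q) (-1) = ⊤ := by
        rw [eq_top_iff]; intro v _; rw [OrthInvol.mem_eig, OOmega.negI_apply, neg_one_smul]
      rw [show g k = OOmega.negI Q from h, htop, finrank_top, hdim] at this
      omega
  have hxne : ∀ k l, IsConj (x k) (x l) → k = l := by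
    intro k l hkl
    obtain ⟨c, hc⟩ := isConj_iff.1 hkl
    obtain ⟨h, rfl⟩ := hψsurj c
    have hz := hψker ((h * ⟨g k, hgc k⟩ * h⁻¹) * (⟨g l, hgc l⟩)⁻¹) (by
      rw [map_mul ψ, map_inv ψ, map_mul ψ, map_mul ψ, map_inv ψ]
      show ψ h * x k * (ψ h)⁻¹ * (x l)⁻¹ = 1
      rw [hc, mul_inv_cancel])
    have hk := hgn k
    have hl := hgn l
    rcases hcen _ hz with e0 | e0
    · have e1 : h.1 * g k * h.1⁻¹ = g l := mul_inv_eq_one.1 e0
      rw [← e1, OrthInvol.finrank_eig_conj] at hl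
      exact Fin.ext (by omega)
    · have e1 : h.1 * g k * h.1⁻¹ = OOmega.negI Q * g l := mul_inv_eq_iff_eq_mul.1 e0
      have e2 : OrthInvol.eig (OOmega.negI Q * g l) (-1) = OrthInvol.eig (g l) 1 := by
        ext v
        rw [OrthInvol.mem_eig, OrthInvol.mem_eig, neg_one_smul, one_smul]
        show -((g l).1 v) = -v ↔ _
        exact neg_inj
      have := hgf l
      rw [← e2, ← e1, OrthInvol.finrank_eig_conj, hk, hdim] at this
      omega
  -- the symplectic side
  haveI := Finite.of_fintype F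
  have hB := SpCount.stdForm_isAltND (F := F) m
  have hV : Module.finrank F (Fin m ⊕ Fin m → F) = 2 * m := by
    rw [Module.finrank_fintype_fun_eq_card]; simp; omega
  obtain ⟨S⟩ := SpCount.exists_isomEquiv hB hV
  let T : ↥(SpCount.isom (SpCount.stdForm m F)) ⧸ Subgroup.center _ ≃* Cfsg.PSp m F :=
    QuotientGroup.congr _ _ S (by
      ext y
      constructor
      · rintro ⟨z, hz, rfl⟩
        exact Subgroup.mem_center_iff.2 fun k => by
          obtain ⟨k, rfl⟩ := S.surjective k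
          rw [MonoidHom.coe_coe, ← map_mul, ← map_mul, Subgroup.mem_center_iff.1 hz k]
      · intro hy
        obtain ⟨z, rfl⟩ := S.surjective y
        exact ⟨z, Subgroup.mem_center_iff.2 fun k => S.injective (by
          rw [map_mul, map_mul]; exact Subgroup.mem_center_iff.1 hy (S k)), rfl⟩)
  let y : Fin m → ↥(SpCount.isom (SpCount.stdForm m F)) ⧸ Subgroup.center _ := fun k => T.symm (φ.symm (x k))
  obtain ⟨k, l, hkl, hc⟩ := SympInvol.pigeonhole h2 hB hV (by omega) (by rw [Fintype.card_fin]; omega) y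
    (fun k hk => hx1 k (φ.symm.injective (T.symm.injective (hk.trans (by simp)))))
    (fun k => by show T.symm (φ.symm (x k)) * T.symm (φ.symm (x k)) = 1; rw [← map_mul, ← map_mul, hx2]; simp)
  apply hkl (hxne k l ?_)
  have := (T.trans φ).toMonoidHom.map_isConj hc
  simpa [y] using this

end Cfsg.Agent.S0821
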