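import Cfsg.Statements.S0823
import Mathlib

set_option autoImplicit false
open Cfsg

namespace Cfsg.Agent.S0823

abbrev K3 := ZMod 3
abbrev I3 := Unit ⊕ (Fin 1 ⊕ Fin 1)

instance : Fact (Nat.Prime 3) := ⟨Nat.prime_three⟩

/-- A vector from its three coordinates. -/
def vec (a b c : K3) : I3 → K3 := Sum.elim (fun _ => a) (Sum.elim (fun _ => b) (fun _ => c))

theorem eq_vec (v : I3 → K3) : v = vec (v (.inl ())) (v (.inr (.inl 0))) (v (.inr (.inr 0))) := by
  funext i
  rcases i with i | i | i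
  · rfl
  · fin_cases i; rfl
  · fin_cases i; rfl

/-- The form. -/
def q3 (v : I3 → K3) : K3 := v (.inl ()) ^ 2 + v (.inr (.inl 0)) * v (.inr (.inr 0))

theorem q3_eq : quadFormOdd 1 K3 = q3 := by
  funext v
  simp [quadFormOdd, q3]

/-- The four singular points. -/
def pt : Fin 4 → I3 → K3 := ![vec 0 1 0, vec 0 0 1, vec 1 1 2, vec 1 2 1]

theorem classify : ∀ a b c : K3, q3 (vec a b c) = 0 → ¬ (a = 0 ∧ b = 0 ∧ c = 0) →
    ∃ i, vec a b c = pt i ∨ vec a b c = -pt i := by decide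

theorem pt_props : ∀ i, q3 (pt i) = 0 ∧ pt i ≠ 0 ∧ ∀ j, pt i = pt j ∨ pt i = -pt j → i = j := by decide

theorem exists_pt {v : I3 → K3} (h : q3 v = 0) (h0 : v ≠ 0) : ∃ i, v = pt i ∨ v = -pt i := by
  rw [eq_vec v] at h ⊢
  refine classify _ _ _ h ?_
  rintro ⟨ha, hb, hc⟩
  apply h0
  rw [eq_vec v, ha, hb, hc, eq_vec 0]
  rfl

/-- The sign. -/
def sg (b : Bool) : K3 := if b then 1 else 2

set_option synthInstance.maxSize 8192 in
set_option synthInstance.maxHeartbeats 400000 in
theorem fix_all : ∀ e0 e1 e2 e3 : Bool, ∀ a b c : K3,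
    vec a b c = sg e2 • pt 2 - sg e0 • pt 0 - (2 * sg e1) • pt 1 →
    vec a b c + (2 * sg e0) • pt 0 + sg e1 • pt 1 = sg e3 • pt 3 →
    q3 (sg e0 • pt 0 + sg e1 • pt 1) = 1 → a * (sg e0 * sg e1) = 1 →
    vec a b c = vec 1 0 0 ∧ e0 = true ∧ e1 = true := by decide

/-- The group. -/
def SO3 : Subgroup (Matrix.GeneralLinearGroup I3 K3) :=
  (specialIsometryGroup K3 q3).map (isometryGroup K3 q3).subtype

theorem mem_SO3 {g : Matrix.GeneralLinearGroup I3 K3} :
    g ∈ SO3 ↔ (∀ u, q3 ((g : Matrix I3 I3 K3).mulVec u) = q3 u) ∧ (g : Matrix I3 I3 K3).det = 1 := by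
  constructor
  · rintro ⟨⟨g, hg⟩, hd, rfl⟩
    exact ⟨fun u => hg u u, congrArg Units.val hd⟩
  · rintro ⟨h, hd⟩
    exact ⟨⟨g, fun u _ => h u⟩, Units.ext hd, rfl⟩

theorem exists_image (g : SO3) (i : Fin 4) : ∃ j, (g.1 : Matrix I3 I3 K3).mulVec (pt i) = pt j ∨
    (g.1 : Matrix I3 I3 K3).mulVec (pt i) = -pt j := by
  refine exists_pt ((mem_SO3.mp g.2).1 _ |>.trans (pt_props i).1) fun h => (pt_props i).2.1 ?_
  have := congrArg ((g.1⁻¹ : Matrix.GeneralLinearGroup I3 K3) : Matrix I3 I3 K3).mulVec h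
  simpa [Matrix.mulVec_mulVec] using this

/-- The image index. -/
noncomputable def img (g : SO3) (i : Fin 4) : Fin 4 := (exists_image g i).choose

theorem img_eq {g : SO3} {i j : Fin 4} (h : (g.1 : Matrix I3 I3 K3).mulVec (pt i) = pt j ∨
    (g.1 : Matrix I3 I3 K3).mulVec (pt i) = -pt j) : img g i = j := by
  refine (pt_props (img g i)).2.2 j ?_
  rcases (exists_image g i).choose_spec with h1 | h1 <;> rcases h with h2 | h2 <;>
    rw [show img g i = (exists_image g i).choose from rfl]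
  · exact Or.inl (h1.symm.trans h2)
  · exact Or.inr (h1.symm.trans h2)
  · exact Or.inr (neg_eq_iff_eq_neg.mp (h1.symm.trans h2))
  · exact Or.inl (neg_injective (h1.symm.trans h2))

theorem img_mul (g h : SO3) (i : Fin 4) : img (g * h) i = img g (img h i) := by
  apply img_eq
  rw [Subgroup.coe_mul, Units.val_mul, ← Matrix.mulVec_mulVec]
  rcases (exists_image h i).choose_spec with h1 | h1 <;>
    rcases (exists_image g (img h i)).choose_spec with h2 | h2 <;>
    rw [h1, show (exists_image h i).choose = img h i from rfl]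
  · exact Or.inl h2
  · exact Or.inr h2
  · rw [Matrix.mulVec_neg, h2]; exact Or.inr rfl
  · rw [Matrix.mulVec_neg, h2, neg_neg]; exact Or.inl rfl

theorem img_one (i : Fin 4) : img 1 i = i := img_eq (Or.inl (Matrix.one_mulVec _))

/-- The action on the four points. -/
noncomputable def toPerm : SO3 →* Equiv.Perm (Fin 4) where
  toFun g :=
    { toFun := img g
      invFun := img g⁻¹
      left_inv := fun i => by rw [← img_mul, inv_mul_cancel, img_one]
      right_inv := fun i => by rw [← img_mul, mul_inv_cancel, img_one] }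
  map_one' := Equiv.ext img_one
  map_mul' g h := Equiv.ext (img_mul g h)

theorem toPerm_injective : Function.Injective toPerm := by
  rw [injective_iff_map_eq_one]
  intro g hg
  have hi : ∀ i, ∃ e, (g.1 : Matrix I3 I3 K3).mulVec (pt i) = sg e • pt i := fun i => by
    have h := (exists_image g i).choose_spec
    have : img g i = i := congrArg (fun σ : Equiv.Perm (Fin 4) => σ i) hg
    rw [show (exists_image g i).choose = img g i from rfl, this] at h
    rcases h with h | h
    · exact ⟨true, by rw [h]; simp [sg]⟩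
    · exact ⟨false, by rw [h]; funext k; simp only [sg, Pi.smul_apply, Pi.neg_apply, smul_eq_mul]; generalize pt i k = x; revert x; decide⟩
  obtain ⟨hQ, hdet⟩ := mem_SO3.mp g.2
  obtain ⟨e0, h0⟩ := hi 0
  obtain ⟨e1, h1⟩ := hi 1
  obtain ⟨e2, h2⟩ := hi 2
  obtain ⟨e3, h3⟩ := hi 3
  set M := (g.1 : Matrix I3 I3 K3)
  have hx : M.mulVec (vec 1 0 0) = sg e2 • pt 2 - sg e0 • pt 0 - (2 * sg e1) • pt 1 := by
    have : vec 1 0 0 = pt 2 - pt 0 - (2 : K3) • pt 1 := by decide
    rw [this, Matrix.mulVec_sub, Matrix.mulVec_sub, Matrix.mulVec_smul, h0, h1, h2, smul_smul]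
  have h30 : M.mulVec (vec 1 0 0) + (2 * sg e0) • pt 0 + sg e1 • pt 1 = sg e3 • pt 3 := by
    have : pt 3 = vec 1 0 0 + (2 : K3) • pt 0 + pt 1 := by decide
    rw [← h3, this, Matrix.mulVec_add, Matrix.mulVec_add, Matrix.mulVec_smul, h0, h1, smul_smul]
  have h01 : q3 (sg e0 • pt 0 + sg e1 • pt 1) = 1 := by
    rw [← h0, ← h1, ← Matrix.mulVec_add, hQ]; decide
  have hcol : ∀ j, (fun k => M k j) = M.mulVec (Pi.single j 1) := fun j => by
    rw [Matrix.mulVec_single_one]; rfl
  have hs : Pi.single (Sum.inr (Sum.inl 0)) 1 = pt 0 ∧ Pi.single (Sum.inr (Sum.inr 0)) 1 = pt 1 ∧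
      Pi.single (Sum.inl ()) 1 = vec 1 0 0 := by decide
  have hB : ∀ k, M k (Sum.inr (Sum.inl 0)) = sg e0 * pt 0 k := fun k => by
    have := congrFun ((hcol _).trans (by rw [hs.1, h0])) k
    simpa using this
  have hC : ∀ k, M k (Sum.inr (Sum.inr 0)) = sg e1 * pt 1 k := fun k => by
    have := congrFun ((hcol _).trans (by rw [hs.2.1, h1])) k
    simpa using this
  have hA : (M.mulVec (vec 1 0 0)) (Sum.inl ()) = M (Sum.inl ()) (Sum.inl ()) := by
    rw [← hs.2.2, ← hcol]
  let e : Fin 3 ≃ I3 :=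
    { toFun := ![Sum.inl (), Sum.inr (Sum.inl 0), Sum.inr (Sum.inr 0)]
      invFun := Sum.elim (fun _ => 0) (Sum.elim (fun _ => 1) (fun _ => 2))
      left_inv := by decide
      right_inv := by decide }
  have hd : (M.mulVec (vec 1 0 0)) (Sum.inl ()) * (sg e0 * sg e1) = 1 := by
    rw [hA, ← hdet, ← Matrix.det_submatrix_equiv_self e M, Matrix.det_fin_three]
    simp [Matrix.submatrix_apply, e, hB, hC, pt, vec]
    ring
  have key := fix_all e0 e1 e2 e3 ((M.mulVec (vec 1 0 0)) (.inl ())) ((M.mulVec (vec 1 0 0)) (.inr (.inl 0)))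
    ((M.mulVec (vec 1 0 0)) (.inr (.inr 0))) (by rw [← eq_vec]; exact hx) (by rw [← eq_vec]; exact h30) h01 hd
  obtain ⟨hv, rfl, rfl⟩ := key
  apply Subtype.ext
  apply Units.ext
  refine Matrix.ext_of_mulVec_single fun i => ?_
  change M.mulVec _ = (1 : Matrix I3 I3 K3).mulVec _
  rw [Matrix.one_mulVec]
  rcases i with i | i | i
  · rw [hs.2.2, eq_vec (M.mulVec _)]; exact hv
  · fin_cases i; simp [hs.1, h0, sg]
  · fin_cases i; simp [hs.2.1, h1, sg]

/-- A matrix from its three rows. -/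
def mat (r : Fin 3 → Fin 3 → K3) : Matrix I3 I3 K3 :=
  fun i j => r (Sum.elim (fun _ => 0) (Sum.elim (fun _ => 1) (fun _ => 2)) i)
    (Sum.elim (fun _ => 0) (Sum.elim (fun _ => 1) (fun _ => 2)) j)

/-- The three involutions. -/
def inv3 : Fin 3 → Matrix I3 I3 K3 :=
  ![mat ![![2, 0, 0], ![0, 0, 1], ![0, 1, 0]], mat ![![1, 0, 1], ![2, 2, 1], ![0, 0, 2]],
    mat ![![1, 0, 0], ![0, 2, 0], ![0, 0, 2]]]

theorem inv3_sq : ∀ n, ∀ i j, (inv3 n * inv3 n) i j = if i = j then 1 else 0 := by decide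

theorem inv3_iso : ∀ n, ∀ a b c : K3, q3 ((inv3 n).mulVec (vec a b c)) = q3 (vec a b c) := by decide

theorem inv3_det : ∀ n, (inv3 n).det = 1 := by
  intro n
  let e : Fin 3 ≃ I3 :=
    { toFun := ![Sum.inl (), Sum.inr (Sum.inl 0), Sum.inr (Sum.inr 0)]
      invFun := Sum.elim (fun _ => 0) (Sum.elim (fun _ => 1) (fun _ => 2))
      left_inv := by decide
      right_inv := by decide }
  rw [← Matrix.det_submatrix_equiv_self e (inv3 n), Matrix.det_fin_three]
  revert n
  decide

theorem inv3_img : ∀ n : Fin 3, ∀ i, (inv3 n).mulVec (pt i) = pt (Equiv.swap n.castSucc n.succ i) ∨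
    (inv3 n).mulVec (pt i) = -pt (Equiv.swap n.castSucc n.succ i) := by decide

theorem toPerm_surjective : Function.Surjective toPerm := by
  have hmem : ∀ n : Fin 3, ∃ g : SO3, toPerm g = Equiv.swap n.castSucc n.succ := by
    intro n
    have hsq : inv3 n * inv3 n = 1 := Matrix.ext fun i j => by rw [inv3_sq n i j, Matrix.one_apply]
    let u : Matrix.GeneralLinearGroup I3 K3 := ⟨inv3 n, inv3 n, hsq, hsq⟩
    have hu : u ∈ SO3 := mem_SO3.mpr ⟨fun v => by rw [eq_vec v]; exact inv3_iso n _ _ _, inv3_det n⟩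
    exact ⟨⟨u, hu⟩, Equiv.ext fun i => img_eq (g := ⟨u, hu⟩) (inv3_img n i)⟩
  intro σ
  have hσ : σ ∈ Submonoid.closure (Set.range fun i : Fin 3 ↦ Equiv.swap i.castSucc i.succ) := by
    rw [Equiv.Perm.mclosure_swap_castSucc_succ]; trivial
  induction hσ using Submonoid.closure_induction with
  | mem x hx => obtain ⟨n, rfl⟩ := hx; exact hmem n
  | one => exact ⟨1, map_one _⟩
  | mul x y _ _ hx hy =>
    obtain ⟨g, rfl⟩ := hx
    obtain ⟨h, rfl⟩ := hy
    exact ⟨g * h, map_mul _ _ _⟩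

/-- SO_3(3) ≅ S_4: the determinant-one isometries of the form x_0² + x_1y_1 over the field with 3 elements form a group isomorphic to the symmetric group on 4 letters. -/
theorem result {F : Type*} [Field F] [Fintype F] (hF : Fintype.card F = 3) : Nonempty (↥(Cfsg.specialIsometryGroup F (Cfsg.quadFormOdd 1 F)) ≃* Equiv.Perm (Fin 4)) := by
  classical
  let e : F ≃+* K3 := (ZMod.ringEquivOfPrime F Nat.prime_three hF).symm
  let E : Matrix.GeneralLinearGroup I3 F ≃* Matrix.GeneralLinearGroup I3 K3 := Units.mapEquiv e.mapMatrix.toMulEquiv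
  have hQ : ∀ v : I3 → F, q3 (fun i => e (v i)) = e (quadFormOdd 1 F v) := fun v => by
    simp [q3, quadFormOdd]
  have hmv : ∀ (g : Matrix.GeneralLinearGroup I3 F) (v : I3 → F),
      ((E g : Matrix.GeneralLinearGroup I3 K3) : Matrix I3 I3 K3).mulVec (fun i => e (v i)) =
        fun i => e ((g : Matrix I3 I3 F).mulVec v i) := fun g v => by
    funext i
    simp [E, Matrix.mulVec, dotProduct, map_sum]
  have hdet : ∀ g : Matrix.GeneralLinearGroup I3 F,
      ((E g : Matrix.GeneralLinearGroup I3 K3) : Matrix I3 I3 K3).det = e (g : Matrix I3 I3 F).det := fun g => by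
    change (e.mapMatrix (g : Matrix I3 I3 F)).det = _
    exact (RingHom.map_det e.toRingHom _).symm
  let S : Subgroup (Matrix.GeneralLinearGroup I3 F) :=
    (specialIsometryGroup F (quadFormOdd 1 F)).map (isometryGroup F (quadFormOdd 1 F)).subtype
  have hS : S.map E.toMonoidHom = SO3 := by
    refine le_antisymm ?_ fun g hg => ?_
    · rintro _ ⟨g, ⟨⟨g, hg⟩, hd, rfl⟩, rfl⟩
      refine mem_SO3.mpr ⟨fun u => ?_, ?_⟩
      · obtain ⟨v, rfl⟩ : ∃ v : I3 → F, u = fun i => e (v i) := ⟨fun i => e.symm (u i), by simp⟩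
        change q3 (((E g : Matrix.GeneralLinearGroup I3 K3) : Matrix I3 I3 K3).mulVec _) = _
        rw [hmv, hQ, hQ]
        exact congrArg e (hg v v)
      · change ((E g : Matrix.GeneralLinearGroup I3 K3) : Matrix I3 I3 K3).det = 1
        rw [hdet, show (g : Matrix I3 I3 F).det = 1 from congrArg Units.val hd, map_one]
    · obtain ⟨h1, h2⟩ := mem_SO3.mp hg
      obtain ⟨g0, rfl⟩ := E.surjective g
      refine ⟨g0, ⟨⟨g0, fun v _ => e.injective ?_⟩, Units.ext (e.injective ?_), rfl⟩, rfl⟩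
      · rw [← hQ, ← hQ]
        exact (congrArg q3 (hmv g0 v)).symm.trans (h1 _)
      · change e (g0 : Matrix I3 I3 F).det = e 1
        rw [map_one, ← hdet]
        exact h2
  exact ⟨(((specialIsometryGroup F (quadFormOdd 1 F)).equivMapOfInjective _ Subtype.val_injective).trans
    (((S.equivMapOfInjective E.toMonoidHom E.injective)).trans (MulEquiv.subgroupCongr hS))).trans
    (MulEquiv.ofBijective toPerm ⟨toPerm_injective, toPerm_surjective⟩)⟩

end Cfsg.Agent.S0823
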