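import Cfsg.Statements.S0828
import Mathlib
import Cfsg.Agent.Lib.Lead.SympBasic

set_option autoImplicit false
open Cfsg

namespace Cfsg.Agent.S0828

/-- The symplectic generalised quadrangle over a field with q elements: the number of 2-dimensional subspaces of F^4 on which the symplectic form vanishes is (q + 1)(q² + 1), and every non-zero vector lies in exactly q + 1 of them. -/
theorem result {F : Type*} [Field F] [Fintype F] {q : ℕ} (hF : Fintype.card F = q) : Nat.card {W : Submodule F (Fin 2 ⊕ Fin 2 → F) // Module.finrank F W = 2 ∧ ∀ u ∈ W, ∀ v ∈ W, Cfsg.sympForm 2 F u v = 0} = (q + 1) * (q ^ 2 + 1) ∧ ∀ v : Fin 2 ⊕ Fin 2 → F, v ≠ 0 → Nat.card {W : Submodule F (Fin 2 ⊕ Fin 2 → F) // Module.finrank F W = 2 ∧ v ∈ W ∧ ∀ u ∈ W, ∀ w ∈ W, Cfsg.sympForm 2 F u w = 0} = q + 1 := by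
  classical
  subst hF
  let B : LinearMap.BilinForm F (Fin 2 ⊕ Fin 2 → F) := Matrix.toBilin' (Matrix.J (Fin 2) F)
  have hB : ∀ u v, B u v = sympForm 2 F u v := fun u v => Matrix.toBilin'_apply' _ u v
  have hself : ∀ u, sympForm 2 F u u = 0 := fun u => Cfsg.Agent.Lead.Symp.form_self u
  have hV : Nat.card (Fin 2 ⊕ Fin 2 → F) = Fintype.card F ^ 4 := by
    rw [Nat.card_fun, Nat.card_eq_fintype_card]; simp
  set q := Fintype.card F with hq
  have hq2 : 2 ≤ q := Fintype.one_lt_card
  have hcard : ∀ (W : Submodule F (Fin 2 ⊕ Fin 2 → F)), Nat.card W = q ^ Module.finrank F W := fun W => by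
    rw [Module.natCard_eq_pow_finrank (K := F), Nat.card_eq_fintype_card]
  have per : ∀ v : Fin 2 ⊕ Fin 2 → F, v ≠ 0 → Nat.card {W : Submodule F (Fin 2 ⊕ Fin 2 → F) //
      Module.finrank F W = 2 ∧ v ∈ W ∧ ∀ u ∈ W, ∀ w ∈ W, sympForm 2 F u w = 0} = q + 1 := by
    intro v hv
    have hker : Module.finrank F (LinearMap.ker (B v)) = 3 := by
      have h := LinearMap.finrank_range_add_finrank_ker (B v)
      obtain ⟨z, hz⟩ := Cfsg.Agent.Lead.Symp.exists_form_ne hv
      have hs : Function.Surjective (B v) := fun t => ⟨(t / sympForm 2 F v z) • z, by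
        rw [map_smul, hB, smul_eq_mul, div_mul_cancel₀ _ hz]⟩
      rw [LinearMap.range_eq_top.mpr hs, finrank_top, Module.finrank_self, Module.finrank_fintype_fun_eq_card,
        Fintype.card_sum, Fintype.card_fin] at h
      omega
    let S := Finset.univ.filter fun w : Fin 2 ⊕ Fin 2 → F => w ∈ LinearMap.ker (B v) ∧ w ∉ Submodule.span F {v}
    let T := Finset.univ.filter fun W : Submodule F (Fin 2 ⊕ Fin 2 → F) =>
      Module.finrank F W = 2 ∧ v ∈ W ∧ ∀ u ∈ W, ∀ w ∈ W, sympForm 2 F u w = 0
    have hmap : ∀ w ∈ S, Submodule.span F {v} ⊔ Submodule.span F {w} ∈ T := by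
      intro w hw
      simp only [S, T, Finset.mem_filter, Finset.mem_univ, true_and, LinearMap.mem_ker, hB] at hw ⊢
      refine ⟨?_, Submodule.mem_sup_left (Submodule.mem_span_singleton_self v), ?_⟩
      · have hw0 : w ≠ 0 := fun h => hw.2 (h ▸ Submodule.zero_mem _)
        have h := Submodule.finrank_sup_add_finrank_inf_eq (Submodule.span F {v}) (Submodule.span F {w})
        have hinf : Submodule.span F {v} ⊓ Submodule.span F {w} = ⊥ := by
          refine (Submodule.eq_bot_iff _).mpr fun y hy => ?_
          obtain ⟨c, rfl⟩ := Submodule.mem_span_singleton.mp hy.2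
          by_cases hc : c = 0
          · rw [hc, zero_smul]
          · exact absurd (by simpa [smul_smul, hc] using Submodule.smul_mem _ c⁻¹ hy.1) hw.2
        rw [hinf, finrank_bot, finrank_span_singleton hv, finrank_span_singleton hw0] at h
        omega
      · intro x hx y hy
        obtain ⟨a, ha, b, hb, rfl⟩ := Submodule.mem_sup.mp hx
        obtain ⟨a', ha', b', hb', rfl⟩ := Submodule.mem_sup.mp hy
        obtain ⟨c, rfl⟩ := Submodule.mem_span_singleton.mp ha
        obtain ⟨d, rfl⟩ := Submodule.mem_span_singleton.mp hb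
        obtain ⟨c', rfl⟩ := Submodule.mem_span_singleton.mp ha'
        obtain ⟨d', rfl⟩ := Submodule.mem_span_singleton.mp hb'
        have hwv : sympForm 2 F w v = 0 := by rw [Cfsg.Agent.Lead.Symp.form_swap, hw.1, neg_zero]
        rw [← hB]
        simp only [map_add, map_smul, LinearMap.add_apply, LinearMap.smul_apply, hB, hself, hw.1, hwv,
          smul_zero, add_zero]
    have hfib : ∀ W ∈ T, (S.filter fun w => Submodule.span F {v} ⊔ Submodule.span F {w} = W).card = q ^ 2 - q := by
      intro W hW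
      simp only [T, Finset.mem_filter, Finset.mem_univ, true_and] at hW
      obtain ⟨hd, hvW, hiso⟩ := hW
      have hle : Submodule.span F {v} ≤ W := (Submodule.span_singleton_le_iff_mem _ _).mpr hvW
      have e : (S.filter fun w => Submodule.span F {v} ⊔ Submodule.span F {w} = W) =
          (W : Set (Fin 2 ⊕ Fin 2 → F)).toFinset \ (Submodule.span F {v} : Set (Fin 2 ⊕ Fin 2 → F)).toFinset := by
        ext w
        simp only [S, Finset.mem_filter, Finset.mem_univ, true_and, Finset.mem_sdiff, Set.mem_toFinset,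
          SetLike.mem_coe, LinearMap.mem_ker, hB]
        constructor
        · rintro ⟨⟨-, hwn⟩, rfl⟩
          exact ⟨Submodule.mem_sup_right (Submodule.mem_span_singleton_self w), hwn⟩
        · rintro ⟨hwW, hwn⟩
          refine ⟨⟨hiso v hvW w hwW, hwn⟩, Submodule.eq_of_le_of_finrank_le
            (sup_le hle ((Submodule.span_singleton_le_iff_mem _ _).mpr hwW)) ?_⟩
          have hlt : Submodule.span F {v} < Submodule.span F {v} ⊔ Submodule.span F {w} :=
            lt_of_le_not_ge le_sup_left fun h =>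
              hwn (h (Submodule.mem_sup_right (Submodule.mem_span_singleton_self w)))
          have := Submodule.finrank_lt_finrank_of_lt hlt
          rw [finrank_span_singleton hv] at this
          omega
      rw [e, Finset.card_sdiff_of_subset (by simpa using hle), Set.toFinset_card, Set.toFinset_card,
        ← Nat.card_eq_fintype_card, ← Nat.card_eq_fintype_card]
      simp only [SetLike.coe_sort_coe]
      rw [hcard, hcard, hd, finrank_span_singleton hv, pow_one]
    have hS : S.card = q ^ 3 - q := by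
      have e : S = (LinearMap.ker (B v) : Set (Fin 2 ⊕ Fin 2 → F)).toFinset \
          (Submodule.span F {v} : Set (Fin 2 ⊕ Fin 2 → F)).toFinset := by
        ext w; simp [S]
      have hle : Submodule.span F {v} ≤ LinearMap.ker (B v) :=
        (Submodule.span_singleton_le_iff_mem _ _).mpr (by rw [LinearMap.mem_ker, hB, hself])
      rw [e, Finset.card_sdiff_of_subset (by simpa using hle), Set.toFinset_card, Set.toFinset_card,
        ← Nat.card_eq_fintype_card, ← Nat.card_eq_fintype_card]
      simp only [SetLike.coe_sort_coe]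
      rw [hcard, hcard, hker, finrank_span_singleton hv, pow_one]
    have hsum := Finset.card_eq_sum_card_fiberwise hmap
    rw [Finset.sum_congr rfl hfib, Finset.sum_const, smul_eq_mul, hS] at hsum
    have hT : T.card = q + 1 := by
      refine Nat.eq_of_mul_eq_mul_right (m := q ^ 2 - q) ?_ ?_
      · have : q * 2 ≤ q ^ 2 := by rw [pow_two]; exact Nat.mul_le_mul_left q hq2
        omega
      · rw [← hsum]
        have h1 : q ≤ q ^ 2 := Nat.le_self_pow two_ne_zero q
        have h2 : q ≤ q ^ 3 := Nat.le_self_pow three_ne_zero q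
        zify [h1, h2]; ring
    rw [Nat.card_eq_fintype_card, Fintype.card_subtype]
    exact hT
  refine ⟨?_, per⟩
  let L := Finset.univ.filter fun W : Submodule F (Fin 2 ⊕ Fin 2 → F) =>
    Module.finrank F W = 2 ∧ ∀ u ∈ W, ∀ v ∈ W, sympForm 2 F u v = 0
  let P := Finset.univ.filter fun v : Fin 2 ⊕ Fin 2 → F => v ≠ 0
  have hdc : ∑ v ∈ P, (L.filter fun W => v ∈ W).card = ∑ W ∈ L, (P.filter fun v => v ∈ W).card :=
    Finset.sum_card_bipartiteAbove_eq_sum_card_bipartiteBelow (fun v (W : Submodule F (Fin 2 ⊕ Fin 2 → F)) => v ∈ W)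
  have h1 : ∀ v ∈ P, (L.filter fun W => v ∈ W).card = q + 1 := fun v hv => by
    rw [← per v (Finset.mem_filter.mp hv).2, Nat.card_eq_fintype_card, Fintype.card_subtype]
    congr 1
    ext W
    simp only [L, Finset.mem_filter, Finset.mem_univ, true_and]
    tauto
  have h2 : ∀ W ∈ L, (P.filter fun v => v ∈ W).card = q ^ 2 - 1 := fun W hW => by
    have e : (P.filter fun v => v ∈ W) = (W : Set (Fin 2 ⊕ Fin 2 → F)).toFinset.erase 0 := by
      ext v; simp [P]
    rw [e, Finset.card_erase_of_mem (by simp), Set.toFinset_card, ← Nat.card_eq_fintype_card]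
    simp only [SetLike.coe_sort_coe]
    rw [hcard, (Finset.mem_filter.mp hW).2.1]
  have hP : P.card = q ^ 4 - 1 := by
    have e : P = Finset.univ.erase 0 := by ext v; simp [P]
    rw [e, Finset.card_erase_of_mem (Finset.mem_univ _), Finset.card_univ, ← Nat.card_eq_fintype_card, hV]
  rw [Finset.sum_congr rfl h1, Finset.sum_congr rfl h2, Finset.sum_const, Finset.sum_const, smul_eq_mul,
    smul_eq_mul, hP] at hdc
  rw [Nat.card_eq_fintype_card, Fintype.card_subtype]
  change L.card = _
  refine Nat.eq_of_mul_eq_mul_right (m := q ^ 2 - 1) ?_ ?_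
  · have : 2 ^ 2 ≤ q ^ 2 := Nat.pow_le_pow_left hq2 2
    omega
  · rw [← hdc]
    have h3 : 1 ≤ q ^ 2 := Nat.one_le_pow _ _ (by omega)
    have h4 : 1 ≤ q ^ 4 := Nat.one_le_pow _ _ (by omega)
    zify [h3, h4]; ring

end Cfsg.Agent.S0828
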