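import Cfsg.Statements.S0829
import Cfsg.Agent.Lib.Classical.UnitaryPlanes

set_option autoImplicit false
open Cfsg

namespace Cfsg.Agent.S0829

/-- The unitary quadrangle of PSU_4(q): with |F| = q², the number of 2-dimensional subspaces of F^4 on which the Hermitian form Σ x_i y_i^q vanishes is (q + 1)(q³ + 1). -/
theorem result {F : Type*} [Field F] [Fintype F] {q : ℕ} (hF : Fintype.card F = q ^ 2) : Nat.card {W : Submodule F (Fin 4 → F) // Module.finrank F W = 2 ∧ ∀ u ∈ W, ∀ v ∈ W, Cfsg.hermForm 4 F q u v = 0} = (q + 1) * (q ^ 3 + 1) := by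
  obtain ⟨p, e, σ, -, -, -, -, hσ⟩ := Classical.exists_usigma hF
  have hq := hσ.two_le
  have h := Classical.UPlanes.card_planes_mul hσ 4
  rw [Lead.FormsCount.card_herm_zero hF, Lead.FormsCount.card_herm_zero hF] at h
  norm_num [Nat.even_iff] at h
  have h1 : 1 ≤ q ^ 2 := Nat.one_le_pow _ _ (by omega)
  have h4 : q ^ 2 < (q ^ 2) ^ 2 := by nlinarith
  have h41 : 1 ≤ q ^ 4 := Nat.one_le_pow _ _ (by omega)
  refine Nat.eq_of_mul_eq_mul_right (show 0 < ((q ^ 2) ^ 2 - 1) * ((q ^ 2) ^ 2 - q ^ 2) from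
    Nat.mul_pos (by omega) (by omega)) ?_
  refine Eq.trans ?_ (Eq.trans h ?_)
  · rfl
  · zify [h1, h4.le, h41, (by omega : 1 ≤ (q ^ 2) ^ 2)]
    ring

end Cfsg.Agent.S0829
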