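import Cfsg.Statements.S0831
import Cfsg.Agent.Lib.Classical.OrthForms

set_option autoImplicit false
open Cfsg

namespace Cfsg.Agent.S0831

open Module Classical

section Gen
variable {F V : Type*} [Field F] [AddCommGroup V] [Module F V] [FiniteDimensional F V]
  {Q : QuadraticForm F V} {m : ℕ} (hQ : OCount.PND Q) (hV : finrank F V = 2 * m)

/-- A maximal totally singular subspace. -/
def MTS (Q : QuadraticForm F V) (m : ℕ) (U : Submodule F V) : Prop := finrank F U = m ∧ ∀ w ∈ U, Q w = 0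

theorem polar_zero {U : Submodule F V} (hU : ∀ w ∈ U, Q w = 0) {x y : V} (hx : x ∈ U) (hy : y ∈ U) :
    Q.polarBilin x y = 0 := by
  rw [QuadraticMap.polarBilin_apply_apply, QuadraticMap.polar, hU _ (U.add_mem hx hy), hU _ hx, hU _ hy]
  simp

theorem isRefl : (Q.polarBilin : LinearMap.BilinForm F V).IsRefl := fun x y h => by
  rw [QuadraticMap.polarBilin_apply_apply] at h ⊢
  rwa [QuadraticMap.polar_comm]

theorem mem_orth {W : Submodule F V} {v : V} :
    v ∈ LinearMap.BilinForm.orthogonal Q.polarBilin W ↔ ∀ w ∈ W, Q.polarBilin w v = 0 :=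
  LinearMap.BilinForm.mem_orthogonal_iff

include hQ hV in
theorem finrank_orth (W : Submodule F V) :
    finrank F (LinearMap.BilinForm.orthogonal Q.polarBilin W) = 2 * m - finrank F W := by
  have hnd : (Q.polarBilin : LinearMap.BilinForm F V).Nondegenerate :=
    LinearMap.IsRefl.nondegenerate_iff_separatingLeft (isRefl (Q := Q)) |>.mpr fun v hv => hQ v hv
  rw [LinearMap.BilinForm.finrank_orthogonal hnd W, hV]

include hQ hV in
theorem dim_le {X : Submodule F V} (hX : ∀ w ∈ X, Q w = 0) : finrank F X ≤ m := by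
  have h1 : X ≤ LinearMap.BilinForm.orthogonal Q.polarBilin X :=
    fun x hx => mem_orth.mpr fun w hw => polar_zero hX hw hx
  have := Submodule.finrank_mono h1
  rw [finrank_orth hQ hV] at this
  omega

include hQ hV in
theorem orth_eq {U : Submodule F V} (hU : MTS Q m U) : LinearMap.BilinForm.orthogonal Q.polarBilin U = U :=
  (Submodule.eq_of_le_of_finrank_le (fun x hx => mem_orth.mpr fun w hw => polar_zero hU.2 hw hx)
    (by rw [finrank_orth hQ hV, hU.1]; omega)).symm

include hQ hV in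
/-- Adjacent spaces meet a third one in dimensions differing by one. -/
theorem adjacent {U X W : Submodule F V} (hU : MTS Q m U) (hX : MTS Q m X) (hW : MTS Q m W)
    (hUX : finrank F ↥(U ⊓ X) + 1 = m) :
    finrank F ↥(U ⊓ W) = finrank F ↥(X ⊓ W) + 1 ∨ finrank F ↥(X ⊓ W) = finrank F ↥(U ⊓ W) + 1 := by
  obtain ⟨Y, hY⟩ : ∃ Y, Y = U ⊓ X := ⟨_, rfl⟩
  rw [← hY] at hUX
  obtain ⟨Z, hZ⟩ : ∃ Z, Z = LinearMap.BilinForm.orthogonal Q.polarBilin Y := ⟨_, rfl⟩
  have hUZ : U ≤ Z := fun u hu => hZ ▸ mem_orth.mpr fun w hw => polar_zero hU.2 (hY ▸ hw : w ∈ U ⊓ X).1 hu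
  have hXZ : X ≤ Z := fun u hu => hZ ▸ mem_orth.mpr fun w hw => polar_zero hX.2 (hY ▸ hw : w ∈ U ⊓ X).2 hu
  have hUXZ : U ⊔ X = Z := Submodule.eq_of_le_of_finrank_le (sup_le hUZ hXZ) (by
    have := Submodule.finrank_sup_add_finrank_inf_eq U X
    rw [← hY, hU.1, hX.1] at this
    rw [hZ, finrank_orth hQ hV]
    omega)
  have hsing : ∀ z ∈ Z, Q z = 0 → z ∈ U ∨ z ∈ X := by
    intro z hz hz0
    by_contra hne
    push Not at hne
    obtain ⟨u, hu, x, hx, rfl⟩ := Submodule.mem_sup.mp (hUXZ ▸ hz)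
    have hux : Q.polarBilin u x = 0 := by
      rw [QuadraticMap.polarBilin_apply_apply, QuadraticMap.polar, hz0, hU.2 u hu, hX.2 x hx]
      simp
    -- `U` together with `x` would be totally singular
    have huY : u ∉ Y := fun h => hne.2 (X.add_mem (hY ▸ h : u ∈ U ⊓ X).2 hx)
    have hUgen : U = Y ⊔ Submodule.span F {u} := (Submodule.eq_of_le_of_finrank_le
      (sup_le (hY ▸ inf_le_left) ((Submodule.span_singleton_le_iff_mem _ _).mpr hu)) (by
        have : Y < Y ⊔ Submodule.span F {u} := lt_of_le_of_ne le_sup_left fun e =>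
          huY (e ▸ (le_sup_right : Submodule.span F {u} ≤ _) (Submodule.mem_span_singleton_self u))
        have := Submodule.finrank_lt_finrank_of_lt this
        rw [hU.1]; omega)).symm
    have hxU : x ∈ LinearMap.BilinForm.orthogonal Q.polarBilin U := mem_orth.mpr fun w hw => by
      rw [hUgen] at hw
      obtain ⟨y, hy, w', hw', rfl⟩ := Submodule.mem_sup.mp hw
      obtain ⟨c, rfl⟩ := Submodule.mem_span_singleton.mp hw'
      rw [map_add, LinearMap.add_apply, map_smul, LinearMap.smul_apply, hux, smul_zero, add_zero]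
      exact polar_zero hX.2 (hY ▸ hy : y ∈ U ⊓ X).2 hx
    rw [orth_eq hQ hV hU] at hxU
    exact hne.1 (U.add_mem hu hxU)
  -- the part of `W` orthogonal to `Y`
  have hdimWZ : finrank F ↥(W ⊓ Z) = finrank F ↥(W ⊓ Y) + 1 := by
    have horth : LinearMap.BilinForm.orthogonal Q.polarBilin (W ⊔ Y) = W ⊓ Z := by
      conv_rhs => rw [← orth_eq hQ hV hW, hZ]
      ext v
      simp only [Submodule.mem_inf, mem_orth]
      exact ⟨fun h => ⟨fun w hw => h w (le_sup_left (a := W) (b := Y) hw),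
        fun w hw => h w (le_sup_right (a := W) (b := Y) hw)⟩,
        fun h w hw => by
          obtain ⟨a, ha, b, hb, rfl⟩ := Submodule.mem_sup.mp hw
          rw [map_add, LinearMap.add_apply, h.1 a ha, h.2 b hb, add_zero]⟩
    have h1 := finrank_orth hQ hV (W ⊔ Y)
    rw [horth] at h1
    have h2 := Submodule.finrank_sup_add_finrank_inf_eq W Y
    have h3 := Submodule.finrank_mono (inf_le_left : W ⊓ Y ≤ W)
    have h4 := Submodule.finrank_le (W ⊔ Y)
    rw [hW.1] at h2 h3
    omega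
  have hmeet : finrank F ↥(U ⊓ W) ≤ finrank F ↥(W ⊓ Y) + 1 ∧ finrank F ↥(X ⊓ W) ≤ finrank F ↥(W ⊓ Y) + 1 := by
    constructor <;> rw [← hdimWZ] <;> apply Submodule.finrank_mono
    · exact le_inf inf_le_right (inf_le_left.trans hUZ)
    · exact le_inf inf_le_right (inf_le_left.trans hXZ)
  have hle : W ⊓ Y ≤ U ⊓ W ∧ W ⊓ Y ≤ X ⊓ W := by
    rw [hY]
    exact ⟨le_inf (inf_le_right.trans inf_le_left) inf_le_left, le_inf (inf_le_right.trans inf_le_right) inf_le_left⟩
  have hWZ : W ⊓ Z ≤ U ∨ W ⊓ Z ≤ X := by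
    by_contra hne
    push Not at hne
    obtain ⟨a, ha, haU⟩ := SetLike.not_le_iff_exists.mp hne.1
    obtain ⟨b, hb, hbX⟩ := SetLike.not_le_iff_exists.mp hne.2
    have haX := (hsing a ha.2 (hW.2 a ha.1)).resolve_left haU
    have hbU := (hsing b hb.2 (hW.2 b hb.1)).resolve_right hbX
    rcases hsing (a + b) ((W ⊓ Z).add_mem ha hb).2 (hW.2 _ (W.add_mem ha.1 hb.1)) with h | h
    · exact haU (by simpa using U.sub_mem h hbU)
    · exact hbX (by simpa using X.sub_mem h haX)
  have e1 := Submodule.finrank_mono hle.1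
  have e2 := Submodule.finrank_mono hle.2
  have hboth : ∀ A B : Submodule F V, A ⊓ B = Y → W ⊓ Z ≤ A → B ⊓ W ≤ W ⊓ Z → B ⊓ W ≤ W ⊓ Y :=
    fun A B hAB hA hB v hv => ⟨hv.2, hAB ▸ ⟨hA (hB hv), hv.1⟩⟩
  rcases hWZ with h | h
  · left
    have := Submodule.finrank_mono (show W ⊓ Z ≤ U ⊓ W from le_inf h inf_le_left)
    have := Submodule.finrank_mono (hboth U X hY.symm h (le_inf inf_le_right (inf_le_left.trans hXZ)))
    omega
  · right
    have := Submodule.finrank_mono (show W ⊓ Z ≤ X ⊓ W from le_inf h inf_le_left)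
    have := Submodule.finrank_mono (hboth X U (by rw [hY, inf_comm]) h (le_inf inf_le_right (inf_le_left.trans hUZ)))
    omega

include hQ hV in
theorem step {U X : Submodule F V} (hU : MTS Q m U) (hX : MTS Q m X) (hne : finrank F ↥(U ⊓ X) < m) :
    ∃ X' : Submodule F V, MTS Q m X' ∧ finrank F ↥(U ⊓ X') + 1 = m ∧
      finrank F ↥(X' ⊓ X) = finrank F ↥(U ⊓ X) + 1 := by
  obtain ⟨x, hx, hxU⟩ := SetLike.not_le_iff_exists.mp (show ¬ X ≤ U from fun h => by
    rw [inf_eq_right.mpr h, hX.1] at hne; omega)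
  obtain ⟨Y, hY⟩ : ∃ Y, Y = U ⊓ LinearMap.ker (Q.polarBilin x) := ⟨_, rfl⟩
  have hYd : m ≤ finrank F Y + 1 := by
    have h1 := Submodule.finrank_sup_add_finrank_inf_eq U (LinearMap.ker (Q.polarBilin x))
    have h2 := Submodule.finrank_le (U ⊔ LinearMap.ker (Q.polarBilin x))
    have h3 := (Q.polarBilin x).finrank_range_add_finrank_ker
    have h4 := Submodule.finrank_le (LinearMap.range (Q.polarBilin x))
    rw [finrank_self] at h4
    rw [hU.1, ← hY] at h1
    rw [hV] at h2 h3
    omega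
  have hxY : x ∉ Y := fun h => hxU (hY ▸ h : x ∈ U ⊓ _).1
  have hTS : ∀ w ∈ Y ⊔ Submodule.span F {x}, Q w = 0 := by
    intro w hw
    obtain ⟨y, hy, w', hw', rfl⟩ := Submodule.mem_sup.mp hw
    obtain ⟨c, rfl⟩ := Submodule.mem_span_singleton.mp hw'
    obtain ⟨hyU, hyx⟩ := (hY ▸ hy : y ∈ U ⊓ _)
    rw [show Q (y + c • x) = Q y + Q (c • x) + QuadraticMap.polar Q y (c • x) from QuadraticMap.map_add Q y (c • x),
      QuadraticMap.map_smul, hU.2 y hyU, hX.2 x hx, QuadraticMap.polar_smul_right,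
      QuadraticMap.polar_comm, ← QuadraticMap.polarBilin_apply_apply, LinearMap.mem_ker.mp hyx]
    simp
  have hlt : Y < Y ⊔ Submodule.span F {x} := lt_of_le_of_ne le_sup_left fun e =>
    hxY (e ▸ (le_sup_right : Submodule.span F {x} ≤ _) (Submodule.mem_span_singleton_self x))
  have h1 := Submodule.finrank_lt_finrank_of_lt hlt
  have h2 := dim_le hQ hV hTS
  have hX' : MTS Q m (Y ⊔ Submodule.span F {x}) := ⟨by omega, hTS⟩
  have hadj : finrank F ↥(U ⊓ (Y ⊔ Submodule.span F {x})) + 1 = m := by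
    have h3 := Submodule.finrank_mono (show Y ≤ U ⊓ (Y ⊔ Submodule.span F {x}) from
      le_inf (hY ▸ inf_le_left) le_sup_left)
    have h4 : U ⊓ (Y ⊔ Submodule.span F {x}) < Y ⊔ Submodule.span F {x} := lt_of_le_of_ne inf_le_right fun e => by
      have : x ∈ U ⊓ (Y ⊔ Submodule.span F {x}) := e.symm ▸ (le_sup_right : Submodule.span F {x} ≤ Y ⊔ _)
        (Submodule.mem_span_singleton_self x)
      exact hxU this.1
    have h5 := Submodule.finrank_lt_finrank_of_lt h4
    omega
  refine ⟨_, hX', hadj, ?_⟩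
  have hlt' : U ⊓ X < (Y ⊔ Submodule.span F {x}) ⊓ X := by
    refine lt_of_le_of_ne (le_inf (fun v hv => Submodule.mem_sup_left (hY ▸ ⟨hv.1, ?_⟩)) inf_le_right) fun e => ?_
    · exact LinearMap.mem_ker.mpr (polar_zero hX.2 hx hv.2)
    · have : x ∈ U ⊓ X := e ▸ ⟨(le_sup_right : Submodule.span F {x} ≤ Y ⊔ _)
        (Submodule.mem_span_singleton_self x), hx⟩
      exact hxU this.1
  have h6 := Submodule.finrank_lt_finrank_of_lt hlt'
  rcases adjacent hQ hV hU hX' hX hadj with e | e <;> omega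

include hQ hV in
theorem parity : ∀ (k : ℕ) {U W X : Submodule F V}, MTS Q m U → MTS Q m W → MTS Q m X →
    m - finrank F ↥(U ⊓ X) = k →
      Even ((m - finrank F ↥(U ⊓ W)) + (m - finrank F ↥(W ⊓ X)) + (m - finrank F ↥(U ⊓ X))) := by
  intro k
  induction k with
  | zero =>
    intro U W X hU hW hX hk
    have hUX : U = X := by
      have h1 := Submodule.finrank_mono (inf_le_left : U ⊓ X ≤ U)
      rw [hU.1] at h1
      have e1 : U ⊓ X = U := Submodule.eq_of_le_of_finrank_le inf_le_left (by rw [hU.1]; omega)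
      exact Submodule.eq_of_le_of_finrank_le (e1 ▸ inf_le_right) (by rw [hU.1, hX.1])
    subst hUX
    rw [inf_comm W U, hk]
    exact ⟨_, by rw [add_zero]⟩
  | succ k ih =>
    intro U W X hU hW hX hk
    obtain ⟨X', hX', hadj, hstep⟩ := step hQ hV hU hX (by omega)
    have h := ih hX' hW hX (by omega)
    have h1 := Submodule.finrank_mono (inf_le_left : U ⊓ W ≤ U)
    have h2 := Submodule.finrank_mono (inf_le_left : X' ⊓ W ≤ X')
    rw [hU.1] at h1
    rw [hX'.1] at h2
    rw [Nat.even_iff] at h ⊢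
    rcases adjacent hQ hV hU hX' hW hadj with e | e <;> omega

end Gen

/-- A coordinate subspace. -/
def coordSub (F : Type*) [Field F] {m : ℕ} (S : Set (Fin m ⊕ Fin m)) : Submodule F (Fin m ⊕ Fin m → F) where
  carrier := {v | ∀ i ∉ S, v i = 0}
  zero_mem' _ _ := rfl
  add_mem' {u v} hu hv i hi := by rw [Pi.add_apply, hu i hi, hv i hi, add_zero]
  smul_mem' c v hv i hi := by rw [Pi.smul_apply, hv i hi, smul_zero]

theorem finrank_coordSub (F : Type*) [Field F] {m : ℕ} (S : Set (Fin m ⊕ Fin m)) [DecidablePred (· ∈ S)] :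
    finrank F (coordSub F S) = Nat.card S := by
  rw [Nat.card_eq_fintype_card, ← Module.finrank_fintype_fun_eq_card (R := F) (η := S)]
  exact LinearEquiv.finrank_eq
    { toFun := fun v i => v.1 i
      map_add' := fun _ _ => rfl
      map_smul' := fun _ _ => rfl
      invFun := fun w => ⟨fun i => if h : i ∈ S then w ⟨i, h⟩ else 0, fun i hi => dif_neg hi⟩
      left_inv := fun v => Subtype.ext (funext fun i => by
        by_cases h : i ∈ S
        · simp [h]
        · simp [h, v.2 i h])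
      right_inv := fun w => funext fun i => by simp }

/-- The two families of maximal totally singular subspaces of the hyperbolic quadric: for the form Σ x_i y_i on F^(2m), m ≥ 1, and m-dimensional subspaces U, W, X on which it vanishes, the parities of m − dim(U ∩ W), m − dim(W ∩ X) and m − dim(U ∩ X) sum to an even number (so 'even codimension of the intersection' is an equivalence relation), and there exist two such subspaces meeting in codimension 1 (so there are exactly two classes). -/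
theorem result {F : Type*} [Field F] (m : ℕ) (hm : 1 ≤ m) : (∀ U W X : Submodule F (Fin m ⊕ Fin m → F), (Module.finrank F U = m ∧ ∀ w ∈ U, Cfsg.quadFormPlus m F w = 0) → (Module.finrank F W = m ∧ ∀ w ∈ W, Cfsg.quadFormPlus m F w = 0) → (Module.finrank F X = m ∧ ∀ w ∈ X, Cfsg.quadFormPlus m F w = 0) → Even ((m - Module.finrank F ↥(U ⊓ W)) + (m - Module.finrank F ↥(W ⊓ X)) + (m - Module.finrank F ↥(U ⊓ X)))) ∧ ∃ U W : Submodule F (Fin m ⊕ Fin m → F), (Module.finrank F U = m ∧ ∀ w ∈ U, Cfsg.quadFormPlus m F w = 0) ∧ (Module.finrank F W = m ∧ ∀ w ∈ W, Cfsg.quadFormPlus m F w = 0) ∧ Module.finrank F ↥(U ⊓ W) + 1 = m := by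
  classical
  obtain ⟨Q, hQc, hQ⟩ : ∃ Q : QuadraticForm F (Fin m ⊕ Fin m → F), ⇑Q = Cfsg.quadFormPlus m F ∧ OCount.PND Q :=
    ⟨_, Classical.OOmega.coe_plus m, Classical.OOmega.formOf_pnd Classical.OOmega.pnd_empty⟩
  have hV : finrank F (Fin m ⊕ Fin m → F) = 2 * m := by
    rw [Module.finrank_fintype_fun_eq_card, Fintype.card_sum, Fintype.card_fin, two_mul]
  constructor
  · intro U W X hU hW hX
    simp only [← hQc] at hU hW hX
    exact parity hQ hV _ hU hW hX rfl
  · obtain ⟨n, rfl⟩ : ∃ n, m = n + 1 := ⟨m - 1, by omega⟩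
    let U : Submodule F _ := coordSub F (Set.range (Sum.inl : Fin (n + 1) → Fin (n + 1) ⊕ Fin (n + 1)))
    let W : Submodule F _ := coordSub F (Set.range fun i : Fin (n + 1) =>
      if i = 0 then (Sum.inr i : Fin (n + 1) ⊕ Fin (n + 1)) else Sum.inl i)
    have hinj : Function.Injective fun i : Fin (n + 1) =>
        if i = 0 then (Sum.inr i : Fin (n + 1) ⊕ Fin (n + 1)) else Sum.inl i := by
      intro i j h
      by_cases hi : i = 0 <;> by_cases hj : j = 0 <;> simp_all
    refine ⟨U, W, ⟨?_, fun v hv => ?_⟩, ⟨?_, fun v hv => ?_⟩, ?_⟩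
    · rw [finrank_coordSub, Nat.card_range_of_injective Sum.inl_injective, Nat.card_fin]
    · refine Finset.sum_eq_zero fun i _ => ?_
      rw [hv (.inr i) (by simp), mul_zero]
    · rw [finrank_coordSub, Nat.card_range_of_injective hinj, Nat.card_fin]
    · refine Finset.sum_eq_zero fun i _ => ?_
      by_cases hi : i = 0
      · rw [hv (.inl i) (by rintro ⟨j, hj⟩; by_cases hj0 : j = 0 <;> simp_all), zero_mul]
      · rw [hv (.inr i) (by rintro ⟨j, hj⟩; by_cases hj0 : j = 0 <;> simp_all), mul_zero]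
    · have e : U ⊓ W = coordSub F (Set.range fun i : Fin n =>
          (Sum.inl i.succ : Fin (n + 1) ⊕ Fin (n + 1))) := by
        ext v
        refine ⟨fun h i hi => ?_, fun h => ⟨fun i hi => h i ?_, fun i hi => h i ?_⟩⟩
        · rcases i with i | i
          · by_cases h0 : i = 0
            · exact h.2 _ (by rintro ⟨j, hj⟩; by_cases hj0 : j = 0 <;> simp_all)
            · obtain ⟨j, rfl⟩ := Fin.exists_succ_eq.mpr h0
              exact absurd ⟨j, rfl⟩ hi
          · exact h.1 _ (by simp)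
        · rintro ⟨j, rfl⟩
          exact hi ⟨j.succ, rfl⟩
        · rintro ⟨j, rfl⟩
          exact hi ⟨j.succ, if_neg (Fin.succ_ne_zero j)⟩
      rw [e, finrank_coordSub, Nat.card_range_of_injective (f := fun i : Fin n =>
        (Sum.inl i.succ : Fin (n + 1) ⊕ Fin (n + 1))) (Sum.inl_injective.comp (Fin.succ_injective n)), Nat.card_fin]

end Cfsg.Agent.S0831
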