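import Cfsg.Statements.S0832
import Cfsg.Agent.Lib.Classical.WittIndex

set_option autoImplicit false
open Cfsg

namespace Cfsg.Agent.S0832

/-- For the form Σ x_i y_i on F^(2m) over a finite field, m ≥ 1: an (m−1)-dimensional subspace on which the form vanishes is contained in exactly two m-dimensional subspaces on which it vanishes. -/
theorem result {F : Type*} [Field F] [Finite F] (m : ℕ) (hm : 1 ≤ m) (U : Submodule F (Fin m ⊕ Fin m → F)) (hU : Module.finrank F U + 1 = m ∧ ∀ u ∈ U, Cfsg.quadFormPlus m F u = 0) : Nat.card {W : Submodule F (Fin m ⊕ Fin m → F) // Module.finrank F W = m ∧ (∀ w ∈ W, Cfsg.quadFormPlus m F w = 0) ∧ U ≤ W} = 2 := by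
  classical
  let Q : QuadraticForm F (Fin m ⊕ Fin m → F) := ∑ i : Fin m,
    QuadraticMap.linMulLin (LinearMap.proj (Sum.inl i)) (LinearMap.proj (Sum.inr i))
  have hQ : ∀ v, Q v = quadFormPlus m F v := fun v => by simp [Q, quadFormPlus, QuadraticMap.sum_apply]
  have hp : ∀ x y, QuadraticMap.polar Q x y =
      ∑ i : Fin m, (x (.inl i) * y (.inr i) + y (.inl i) * x (.inr i)) := fun x y => by
    rw [QuadraticMap.polar, hQ, hQ, hQ, quadFormPlus, quadFormPlus, quadFormPlus, ← Finset.sum_sub_distrib,
      ← Finset.sum_sub_distrib]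
    refine Finset.sum_congr rfl fun i _ => ?_
    simp only [Pi.add_apply]; ring
  have hsep : ∀ x, (∀ y, QuadraticMap.polar Q x y = 0) → x = 0 := by
    intro x hx
    funext k
    rcases k with k | k
    · simpa [hp, Pi.single_apply] using hx (Pi.single (.inr k) 1)
    · simpa [hp, Pi.single_apply] using hx (Pi.single (.inl k) 1)
  have hnd : (QuadraticMap.polarBilin Q).Nondegenerate :=
    ⟨hsep, fun y hy => hsep y fun x => (QuadraticMap.polar_comm _ _ _).trans (hy x)⟩
  let L : Submodule F (Fin m ⊕ Fin m → F) := LinearMap.ker (LinearMap.funLeft F F (Sum.inr : Fin m → Fin m ⊕ Fin m))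
  have hL : ∀ w ∈ L, Q w = 0 := fun w hw => by
    rw [hQ, quadFormPlus]
    refine Finset.sum_eq_zero fun i _ => ?_
    rw [show w (.inr i) = 0 from congrFun (LinearMap.mem_ker.mp hw) i, mul_zero]
  have hLd : Module.finrank F L = m := by
    have h := LinearMap.finrank_range_add_finrank_ker (LinearMap.funLeft F F (Sum.inr : Fin m → Fin m ⊕ Fin m))
    rw [LinearMap.range_eq_top.mpr (LinearMap.funLeft_surjective_of_injective _ _ _ Sum.inr_injective), finrank_top,
      Module.finrank_fintype_fun_eq_card, Module.finrank_fintype_fun_eq_card, Fintype.card_sum, Fintype.card_fin] at h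
    simp only [L]
    omega
  simp only [← hQ] at hU ⊢
  refine Cfsg.Agent.Classical.Witt.card_two Q hnd ?_ hU.2 hU.1 hL hLd
  rw [Module.finrank_fintype_fun_eq_card, Fintype.card_sum, Fintype.card_fin, two_mul]

end Cfsg.Agent.S0832
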