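import Cfsg.Statements.S0833
import Mathlib

set_option autoImplicit false
open Cfsg

namespace Cfsg.Agent.S0833

/-- If B₁, B₂ are non-degenerate alternating forms on U (dim 2k) and W (dim 2l), then B₁ ⊗ B₂ on U ⊗ W is symmetric, non-degenerate, and vanishes identically on some subspace of dimension 2kl (half of dim U ⊗ W). -/
theorem result {F U W : Type*} [Field F] [Fintype F] [AddCommGroup U] [Module F U] [FiniteDimensional F U] [AddCommGroup W] [Module F W] [FiniteDimensional F W] (B₁ : LinearMap.BilinForm F U) (B₂ : LinearMap.BilinForm F W) (h₁ : B₁.Nondegenerate) (h₂ : B₂.Nondegenerate) (hA₁ : B₁.IsAlt) (hA₂ : B₂.IsAlt) (k l : ℕ) (hU : Module.finrank F U = 2 * k) (hW : Module.finrank F W = 2 * l) : (B₁.tmul B₂).IsSymm ∧ (B₁.tmul B₂).Nondegenerate ∧ (∃ X : Submodule F (TensorProduct F U W), Module.finrank F X = 2 * k * l ∧ ∀ x ∈ X, ∀ y ∈ X, (B₁.tmul B₂) x y = 0) := by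
  classical
  have hev : ∀ (u u' : U) (w w' : W), (B₁.tmul B₂) (u ⊗ₜ w) (u' ⊗ₜ w') = B₂ w w' * B₁ u u' := fun _ _ _ _ => rfl
  have hsym : ∀ x y, (B₁.tmul B₂) x y = (B₁.tmul B₂) y x := by
    intro x y
    induction x using TensorProduct.induction_on with
    | zero => simp
    | add x x' hx hx' => simp [hx, hx']
    | tmul u w =>
      induction y using TensorProduct.induction_on with
      | zero => simp
      | add y y' hy hy' => simp [hy, hy']
      | tmul u' w' =>
        rw [hev, hev, ← hA₁.neg_eq u' u, ← hA₂.neg_eq w' w]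
        ring
  refine ⟨⟨hsym⟩, ?_, ?_⟩
  · let b := Module.finBasis F U
    let d := Module.finBasis F W
    have key : ∀ x, (∀ y, (B₁.tmul B₂) x y = 0) → x = 0 := by
      intro x hx
      let c := (B₁.dualBasis h₁ b).tensorProduct (B₂.dualBasis h₂ d)
      refine c.repr.injective (Finsupp.ext fun ij => ?_)
      rw [map_zero, Finsupp.zero_apply]
      have h := hx (b ij.1 ⊗ₜ d ij.2)
      conv_lhs at h => rw [← c.sum_repr x]
      simp only [map_sum, LinearMap.coe_sum, Finset.sum_apply, map_smul, LinearMap.smul_apply] at h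
      rw [Finset.sum_eq_single ij ?_ (by simp)] at h
      · simpa [c, Module.Basis.tensorProduct_apply', hev, LinearMap.BilinForm.apply_dualBasis_left] using h
      · intro i _ hi
        have : ¬ (ij.2 = i.2 ∧ ij.1 = i.1) := fun e => hi (Prod.ext e.2.symm e.1.symm)
        simp [c, Module.Basis.tensorProduct_apply', hev, LinearMap.BilinForm.apply_dualBasis_left]
        tauto
    exact ⟨key, fun y hy => key y fun x => (hsym y x).trans (hy x)⟩
  · obtain ⟨L, hL, hmax⟩ := (wellFounded_gt (α := Submodule F U)).has_min
      {L | ∀ u ∈ L, ∀ v ∈ L, B₁ u v = 0} ⟨⊥, fun u hu v _ => by simp [(Submodule.mem_bot F).mp hu]⟩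
    have hperp : B₁.orthogonal L = L := by
      refine le_antisymm (fun x hx => ?_) (fun x hx y hy => hL y hy x hx)
      by_contra hxL
      refine hmax (L ⊔ Submodule.span F {x}) ?_ (lt_of_le_not_ge le_sup_left fun h =>
        hxL (h (Submodule.mem_sup_right (Submodule.mem_span_singleton_self x))))
      intro u hu v hv
      obtain ⟨a, ha, s, hs, rfl⟩ := Submodule.mem_sup.mp hu
      obtain ⟨a', ha', t, ht, rfl⟩ := Submodule.mem_sup.mp hv
      obtain ⟨c, rfl⟩ := Submodule.mem_span_singleton.mp hs
      obtain ⟨e, rfl⟩ := Submodule.mem_span_singleton.mp ht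
      have h1 : B₁ a x = 0 := hx a ha
      have h2 : B₁ x a' = 0 := by rw [← hA₁.neg_eq, hx a' ha', neg_zero]
      have h3 : B₁ x x = 0 := hA₁ x
      simp [hL a ha a' ha', h1, h2, h3]
    have hLk : Module.finrank F L = k := by
      have h := LinearMap.BilinForm.finrank_orthogonal h₁ L
      have h' := L.finrank_le
      rw [hperp, hU] at h
      omega
    let φ := TensorProduct.map L.subtype (LinearMap.id : W →ₗ[F] W)
    refine ⟨LinearMap.range φ, ?_, ?_⟩
    · have hinj : Function.Injective φ := by
        change Function.Injective (LinearMap.rTensor W L.subtype)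
        exact Module.Flat.rTensor_preserves_injective_linearMap L.subtype L.injective_subtype
      rw [LinearMap.finrank_range_of_inj hinj, Module.finrank_tensorProduct, hLk, hW]
      ring
    · rintro _ ⟨x, rfl⟩ _ ⟨y, rfl⟩
      induction x using TensorProduct.induction_on with
      | zero => simp
      | add x x' hx hx' => simp [hx, hx']
      | tmul u w =>
        induction y using TensorProduct.induction_on with
        | zero => simp
        | add y y' hy hy' => simp [hy, hy']
        | tmul u' w' =>
          simp only [φ, TensorProduct.map_tmul, Submodule.subtype_apply, LinearMap.id_apply, hev,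
            hL u u.2 u' u'.2, mul_zero]

end Cfsg.Agent.S0833
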