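import Cfsg.Statements.S0834
import Cfsg.Agent.Lib.Classical.TensorType

set_option autoImplicit false
open Cfsg

namespace Cfsg.Agent.S0834

/-- Over a finite field with 2 ≠ 0: if B₁ on U (dim 2k, k ≥ 1) and B₂ on W (dim 2l, l ≥ 1) are non-degenerate symmetric forms admitting no totally isotropic subspaces of dimensions k, resp. l (minus type), then B₁ ⊗ B₂ admits a totally isotropic subspace of dimension 2kl (plus type). -/
theorem result {F U W : Type*} [Field F] [Fintype F] [AddCommGroup U] [Module F U] [FiniteDimensional F U] [AddCommGroup W] [Module F W] [FiniteDimensional F W] (h2 : (2 : F) ≠ 0) (B₁ : LinearMap.BilinForm F U) (B₂ : LinearMap.BilinForm F W) (h₁ : B₁.Nondegenerate) (h₂ : B₂.Nondegenerate) (hS₁ : B₁.IsSymm) (hS₂ : B₂.IsSymm) (k l : ℕ) (hk : 1 ≤ k) (hl : 1 ≤ l) (hU : Module.finrank F U = 2 * k) (hW : Module.finrank F W = 2 * l) (hm₁ : ¬ (∃ X : Submodule F (U), Module.finrank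 F X = k ∧ ∀ x ∈ X, ∀ y ∈ X, (B₁) x y = 0)) (hm₂ : ¬ (∃ X : Submodule F (W), Module.finrank F X = l ∧ ∀ x ∈ X, ∀ y ∈ X, (B₂) x y = 0)) : (∃ X : Submodule F (TensorProduct F U W), Module.finrank F X = 2 * k * l ∧ ∀ x ∈ X, ∀ y ∈ X, (B₁.tmul B₂) x y = 0) := by
  classical
  obtain ⟨b, hb, hb0⟩ : ∃ b : Module.Basis (Fin (2 * k)) F U,
      (∀ i j, i ≠ j → B₁ (b i) (b j) = 0) ∧ ∀ i, B₁ (b i) (b i) ≠ 0 :=
    hU ▸ Classical.DiscType.exists_basis h2 hS₁ h₁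
  obtain ⟨c, hc, hc0⟩ : ∃ c : Module.Basis (Fin (2 * l)) F W,
      (∀ i j, i ≠ j → B₂ (c i) (c j) = 0) ∧ ∀ i, B₂ (c i) (c i) ≠ 0 :=
    hW ▸ Classical.DiscType.exists_basis h2 hS₂ h₂
  refine (Classical.DiscType.tensor_iff h2 hS₁ hS₂ (N := 2 * k * l) (by simp; ring) b c hb hc hb0 hc0).mpr
    ⟨(∏ i, B₁ (b i) (b i)) ^ l * (∏ j, B₂ (c j) (c j)) ^ k, ?_⟩
  rw [Fintype.card_fin, Fintype.card_fin, mul_assoc 2 k l, pow_mul (-1 : F) 2]
  simp only [neg_one_sq, one_pow]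
  ring

end Cfsg.Agent.S0834
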