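import Cfsg.Statements.S0835
import Cfsg.Agent.Lib.Classical.TensorType

set_option autoImplicit false
open Cfsg

namespace Cfsg.Agent.S0835

/-- Over a finite field with 2 ≠ 0: if B₁ on U (dim 2k, k ≥ 1) is non-degenerate symmetric of minus type (no totally isotropic k-subspace) and B₂ on W (dim 2l + 1) is non-degenerate symmetric, then B₁ ⊗ B₂ (dimension 2k(2l+1)) admits no totally isotropic subspace of dimension k(2l+1) (minus type). -/
theorem result {F U W : Type*} [Field F] [Fintype F] [AddCommGroup U] [Module F U] [FiniteDimensional F U] [AddCommGroup W] [Module F W] [FiniteDimensional F W] (h2 : (2 : F) ≠ 0) (B₁ : LinearMap.BilinForm F U) (B₂ : LinearMap.BilinForm F W) (h₁ : B₁.Nondegenerate) (h₂ : B₂.Nondegenerate) (hS₁ : B₁.IsSymm) (hS₂ : B₂.IsSymm) (k l : ℕ) (hk : 1 ≤ k) (hU : Module.finrank F U = 2 * k) (hW : Module.finrank F W = 2 * l + 1) (hm₁ : ¬ (∃ X : Submodule F (U), Module.finrank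 F X = k ∧ ∀ x ∈ X, ∀ y ∈ X, (B₁) x y = 0)) : ¬ (∃ X : Submodule F (TensorProduct F U W), Module.finrank F X = k * (2 * l + 1) ∧ ∀ x ∈ X, ∀ y ∈ X, (B₁.tmul B₂) x y = 0) := by
  classical
  obtain ⟨b, hb, hb0⟩ : ∃ b : Module.Basis (Fin (2 * k)) F U,
      (∀ i j, i ≠ j → B₁ (b i) (b j) = 0) ∧ ∀ i, B₁ (b i) (b i) ≠ 0 :=
    hU ▸ Classical.DiscType.exists_basis h2 hS₁ h₁
  obtain ⟨c, hc, hc0⟩ : ∃ c : Module.Basis (Fin (2 * l + 1)) F W,
      (∀ i j, i ≠ j → B₂ (c i) (c j) = 0) ∧ ∀ i, B₂ (c i) (c i) ≠ 0 :=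
    hW ▸ Classical.DiscType.exists_basis h2 hS₂ h₂
  intro hX
  have h := (Classical.DiscType.tensor_iff h2 hS₁ hS₂ (N := k * (2 * l + 1)) (by simp; ring) b c hb hc hb0
    hc0).mp hX
  refine hm₁ ((Classical.DiscType.half_iff h2 hS₁ (N := k) (by simp) b hb hb0).mpr ?_)
  rw [Fintype.card_fin, Fintype.card_fin, pow_mul (-1 : F) k (2 * l + 1), ← mul_assoc, ← mul_pow] at h
  obtain ⟨z, hz⟩ := h
  have ha : (-1 : F) ^ k * ∏ i, B₁ (b i) (b i) ≠ 0 :=
    mul_ne_zero (pow_ne_zero _ (neg_ne_zero.mpr one_ne_zero)) (Finset.prod_ne_zero_iff.mpr fun i _ => hb0 i)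
  have hd : (∏ j, B₂ (c j) (c j)) ≠ 0 := Finset.prod_ne_zero_iff.mpr fun i _ => hc0 i
  generalize (-1 : F) ^ k * ∏ i, B₁ (b i) (b i) = a at *
  generalize (∏ j, B₂ (c j) (c j)) = d at *
  refine ⟨z / (a ^ l * d ^ k), ?_⟩
  field_simp
  linear_combination hz

end Cfsg.Agent.S0835
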