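import Cfsg.Statements.S0838
import Mathlib
import Cfsg.Agent.Lib.Classical.FormClassify

set_option autoImplicit false
open Cfsg Matrix

namespace Cfsg.Agent.S0838

/-- Over a finite field with 2 ≠ 0 and n odd: two quadratic forms Q₁, Q₂ on F^n with non-degenerate polar forms are similar — there are an invertible linear map g and a scalar c ≠ 0 with Q₂ (g v) = c · Q₁ v for all v. -/
theorem result {F : Type*} [Field F] [Fintype F] (h2 : (2 : F) ≠ 0) {n : ℕ} (hn : Odd n) (Q₁ Q₂ : QuadraticForm F (Fin n → F)) (h₁ : (QuadraticMap.polarBilin Q₁).Nondegenerate) (h₂ : (QuadraticMap.polarBilin Q₂).Nondegenerate) : ∃ (g : (Fin n → F) ≃ₗ[F] (Fin n → F)) (c : F), c ≠ 0 ∧ ∀ v, Q₂ (g v) = c * Q₁ v := by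
  classical
  have key : ∀ Q : QuadraticForm F (Fin n → F), (QuadraticMap.polarBilin Q).Nondegenerate →
      ∃ (c : F) (A : GL (Fin n) F), c ≠ 0 ∧ ∀ v, 2 * Q ((A : Matrix (Fin n) (Fin n) F) *ᵥ v) = c * (v ⬝ᵥ v) := by
    intro Q hQ
    let G : Matrix (Fin n) (Fin n) F := fun i j => QuadraticMap.polarBilin Q (Pi.single i 1) (Pi.single j 1)
    have hG : ∀ x y, x ⬝ᵥ (G *ᵥ y) = QuadraticMap.polar Q x y := fun x y => by
      rw [show QuadraticMap.polar Q x y = QuadraticMap.polarBilin Q x y from rfl]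
      conv_rhs => rw [pi_eq_sum_univ' x, pi_eq_sum_univ' y]
      simp only [map_sum, map_smul, LinearMap.sum_apply, LinearMap.smul_apply, smul_eq_mul]
      simp only [dotProduct, Matrix.mulVec, Finset.mul_sum, G]
      rw [Finset.sum_comm]
      refine Finset.sum_congr rfl fun i _ => Finset.sum_congr rfl fun j _ => ?_
      ring
    have hdet : G.det ≠ 0 := fun h0 => by
      obtain ⟨v, hv0, hv⟩ := Matrix.exists_mulVec_eq_zero_iff.mpr h0
      refine hv0 (hQ.1 v fun x => ?_)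
      change QuadraticMap.polar Q v x = 0
      rw [QuadraticMap.polar_comm, ← hG, hv, dotProduct_zero]
    obtain ⟨c, A, hc, hA⟩ := Cfsg.Agent.Classical.symmetric_congr h2 hn hdet fun i j => QuadraticMap.polar_comm _ _ _
    refine ⟨c, A, hc, fun v => ?_⟩
    have h := congrArg (fun M => v ⬝ᵥ (M *ᵥ v)) hA
    simp only [Matrix.smul_mulVec, Matrix.one_mulVec, dotProduct_smul, smul_eq_mul] at h
    rw [← Matrix.mulVec_mulVec, ← Matrix.mulVec_mulVec, Matrix.dotProduct_mulVec v, Matrix.vecMul_transpose, hG,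
      QuadraticMap.polar_self] at h
    simpa [two_mul] using h
  obtain ⟨c₁, A, hc₁, hA⟩ := key Q₁ h₁
  obtain ⟨c₂, B, hc₂, hB⟩ := key Q₂ h₂
  let g : (Fin n → F) ≃ₗ[F] (Fin n → F) :=
    { toFun := fun v => ((B * A⁻¹ : GL (Fin n) F) : Matrix (Fin n) (Fin n) F) *ᵥ v
      map_add' := fun a b => Matrix.mulVec_add _ a b
      map_smul' := fun s a => Matrix.mulVec_smul _ s a
      invFun := fun v => (((B * A⁻¹)⁻¹ : GL (Fin n) F) : Matrix (Fin n) (Fin n) F) *ᵥ v
      left_inv := fun v => Cfsg.Agent.Classical.gl_inv_mulVec_cancel _ v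
      right_inv := fun v => Cfsg.Agent.Classical.gl_mulVec_inv_cancel _ v }
  refine ⟨g, c₂ / c₁, div_ne_zero hc₂ hc₁, fun v => mul_left_cancel₀ h2 ?_⟩
  change 2 * Q₂ (((B * A⁻¹ : GL (Fin n) F) : Matrix (Fin n) (Fin n) F) *ᵥ v) = _
  rw [Cfsg.Agent.Classical.gl_mul_mulVec, hB]
  set w := ((A⁻¹ : GL (Fin n) F) : Matrix (Fin n) (Fin n) F) *ᵥ v
  have e : v = (A : Matrix (Fin n) (Fin n) F) *ᵥ w := (Cfsg.Agent.Classical.gl_mulVec_inv_cancel A v).symm
  rw [e]
  field_simp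
  linear_combination -hA w

end Cfsg.Agent.S0838
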