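import Cfsg.Statements.S0841
import Mathlib


set_option autoImplicit false
open Cfsg
open scoped ComplexConjugate

namespace Cfsg.Agent.S0841

/-- If the commutator subgroup of G lies in the centre, then for all x, y in G and every natural number n one has (x * y) ^ n = x ^ n * y ^ n * c ^ (n * (n - 1) / 2) with c = y⁻¹ * x⁻¹ * y * x. -/
theorem result {G : Type*} [Group G] (hG : commutator G ≤ Subgroup.center G) (x y : G) (n : ℕ) : (x * y) ^ n = x ^ n * y ^ n * (y⁻¹ * x⁻¹ * y * x) ^ (n * (n - 1) / 2) := by
  have hz : y⁻¹ * x⁻¹ * y * x ∈ Subgroup.center G := hG (by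
    rw [commutator_def]
    have h := Subgroup.commutator_mem_commutator (Subgroup.mem_top (y⁻¹)) (Subgroup.mem_top (x⁻¹))
    simpa [commutatorElement_def, mul_assoc] using h)
  set z := y⁻¹ * x⁻¹ * y * x with hzdef
  have hc : ∀ g : G, g * z = z * g := Subgroup.mem_center_iff.1 hz
  have hyx : y * x = x * y * z := by rw [hzdef]; group
  have key : ∀ m : ℕ, y ^ m * x = x * y ^ m * z ^ m := by
    intro m
    induction m with
    | zero => simp
    | succ m ih =>
      rw [pow_succ' y m, mul_assoc, ih, ← mul_assoc, ← mul_assoc, hyx, pow_succ' z m]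
      have := (Commute.pow_right (hc y : Commute y z) 1)
      calc x * y * z * y ^ m * z ^ m = x * y * (z * y ^ m) * z ^ m := by group
        _ = x * y * (y ^ m * z) * z ^ m := by rw [hc (y ^ m)]
        _ = _ := by group
  induction n with
  | zero => simp
  | succ n ih =>
    have e : (n + 1) * (n + 1 - 1) / 2 = n * (n - 1) / 2 + n := by
      rw [Nat.add_sub_cancel]
      cases n with
      | zero => rfl
      | succ k =>
        rw [Nat.add_sub_cancel]
        have h : (k + 1 + 1) * (k + 1) = (k + 1) * k + 2 * (k + 1) := by ring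
        rw [h, Nat.add_mul_div_left _ _ (by norm_num : 0 < 2)]
    rw [pow_succ, ih, e, pow_add z, pow_succ x n, pow_succ y n]
    set c := z ^ (n * (n - 1) / 2)
    have hcc : ∀ g : G, g * c = c * g := fun g => (Commute.pow_right (hc g : Commute g z) _)
    calc x ^ n * y ^ n * c * (x * y) = x ^ n * (y ^ n * x) * y * c := by
          rw [mul_assoc (x ^ n * y ^ n), ← hcc (x * y)]; group
      _ = x ^ n * x * (y ^ n * (z ^ n * y)) * c := by rw [key]; group
      _ = x ^ n * x * (y ^ n * (y * z ^ n)) * c := by
          rw [(Commute.pow_right (hc y : Commute y z) n).eq]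
      _ = x ^ n * x * (y ^ n * y) * (z ^ n * c) := by group
      _ = _ := by rw [← hcc]

end Cfsg.Agent.S0841
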