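import Cfsg.Statements.S0842
import Cfsg.Agent.Lib.Char.QuatDerived

set_option autoImplicit false
open Cfsg
open scoped ComplexConjugate

namespace Cfsg.Agent.S0842

/-- Suppose a Sylow 2-subgroup S of the finite group G is generalized quaternion of order at least 16, and let D be the commutator subgroup of S, C its centralizer and N its normalizer in G. Then there is a subgroup K of odd order, contained in C and normalized by N, with K ⊔ S = N and K ⊔ (S ⊓ C) = C, and C has index 2 in N. -/
theorem result {G : Type*} [Group G] [Finite G] (S : Sylow 2 G) (n : ℕ) (e : (S : Subgroup G) ≃* QuaternionGroup (2 ^ (n + 2))) (D : Subgroup G) (hD : D = ⁅(S : Subgroup G), (S : Subgroup G)⁆) : ∃ K : Subgroup G, Odd (Nat.card K) ∧ K ≤ Subgroup.centralizer (D : Set G) ∧ Subgroup.normalizer (D : Set G) ≤ Subgroup.normalizer (K : Set G) ∧ K ⊔ (S : Subgroup G) = Subgroup.normalizer (D : Set G) ∧ K ⊔ ((S : Subgroup G) ⊓ Subgroup.centralizer (D : Set G)) = Subgroup.centralizer (D : Set G) ∧ ((Subgroup.centralizer (D : Set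 G)).subgroupOf (Subgroup.normalizer (D : Set G))).index = 2 := by
  open Cfsg.Agent.Char in
  obtain rfl : D = qD S e := hD.trans (derived_eq S e)
  refine ⟨qK S e, odd_card_qK S e, fun g hg => ((mem_qK S e).mp hg).1, ?_, sup_qK_sylow S e, qK_sup_inf S e, ?_⟩
  · intro g hg
    refine Subgroup.mem_normalizer_fintype fun w hw => ?_
    obtain ⟨hw1, hw2⟩ := (mem_qK S e).mp hw
    refine (mem_qK S e).mpr ⟨conj_mem_qC S e hg hw1, ?_⟩
    have : orderOf (g * w * g⁻¹) = orderOf w :=
      orderOf_injective (MulAut.conj g).toMonoidHom (MulAut.conj g).injective w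
    rwa [this]
  · refine Subgroup.index_eq_two_iff.mpr ⟨⟨qb S e, qb_mem S e⟩, fun h => ?_⟩
    simp only [Subgroup.mem_subgroupOf, Subgroup.coe_mul]
    rcases mem_qH_cases S e h.2 with h1 | h1
    · refine Or.inr ⟨h1, fun h2 => qb_not_mem S e ?_⟩
      simpa [mul_assoc, qC] using (qC S e).mul_mem ((qC S e).inv_mem h1) h2
    · refine Or.inl ⟨h1, fun h2 => qb_not_mem S e ?_⟩
      simpa [mul_assoc, qC] using (qC S e).mul_mem ((qC S e).inv_mem h2) h1

end Cfsg.Agent.S0842
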