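import Cfsg.Statements.S0845
import Cfsg.Agent.Lib.Char.QuatExceptional
import Cfsg.Agent.Lib.Char.Linear
import Cfsg.Agent.Lib.Char.Inflate

set_option autoImplicit false
open Cfsg
open scoped ComplexConjugate

namespace Cfsg.Agent.S0845

/-- Suppose a Sylow 2-subgroup S of the finite group G is generalized quaternion of order at least 16. Then G has a normal subgroup M of even order such that G / M is non-abelian, that is, M does not contain the commutator subgroup of G. -/
theorem result {G : Type*} [Group G] [Finite G] (S : Sylow 2 G) (n : ℕ) (e : (S : Subgroup G) ≃* QuaternionGroup (2 ^ (n + 2))) : ∃ M : Subgroup G, M.Normal ∧ Even (Nat.card M) ∧ ¬ commutator G ≤ M := by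
  open Cfsg.Agent.Char in
  classical
  letI := Fintype.ofFinite G
  obtain ⟨χ, h1, hχt⟩ := exists_kernel_char S e
  obtain ⟨K, hKn, hK⟩ := exists_charKernel (irr_isCharacter χ.2)
  haveI := hKn
  refine ⟨K, hKn, ?_, fun hle => h1 ?_⟩
  · rw [even_iff_two_dvd, ← orderOf_qt S e]
    exact Subgroup.orderOf_dvd_natCard K ((hK _).mpr hχt)
  · obtain ⟨χ', hχ'⟩ := exists_deflate K χ.2 fun k hk => (hK k).mp hk
    rw [← hχ' 1, QuotientGroup.mk_one]
    refine forall_linear_iff_comm.mp ?_ χ'
    intro a b
    obtain ⟨a, rfl⟩ := QuotientGroup.mk_surjective a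
    obtain ⟨b, rfl⟩ := QuotientGroup.mk_surjective b
    rw [← commutatorElement_eq_one_iff_mul_comm, ← QuotientGroup.mk'_apply K, ← QuotientGroup.mk'_apply K,
      ← map_commutatorElement, QuotientGroup.mk'_apply, QuotientGroup.eq_one_iff]
    exact hle (Subgroup.commutator_mem_commutator (Subgroup.mem_top _) (Subgroup.mem_top _))

end Cfsg.Agent.S0845
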