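import Cfsg.Statements.S0849
import Cfsg.Agent.Lib.Char.Induction

set_option autoImplicit false
open Cfsg Cfsg.Agent.Char
open scoped ComplexConjugate

namespace Cfsg.Agent.S0849

/-- Let H be a subgroup of a finite group G and S a subset of H that is mapped to itself under conjugation by H, is disjoint from its conjugate by any element outside H, and is closed under inverses. Let φ be a class function of H vanishing on H away from S, and let u, v be involutions of G. Then the sum of the induced function of φ over all products a * b with a conjugate to u and b conjugate to v equals the index of H times the sum of φ (a * b) over such pairs with a and b in H. -/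
theorem result {G : Type*} [Group G] [Fintype G] (H : Subgroup G) (S : Set G) (hSH : S ⊆ H) (hHS : ∀ h ∈ H, ∀ s ∈ S, h * s * h⁻¹ ∈ S) (hTI : ∀ g : G, g ∉ H → ∀ s ∈ S, g * s * g⁻¹ ∉ S) (hinv : ∀ s ∈ S, s⁻¹ ∈ S) (φ : H → ℂ) (hφ : Cfsg.IsClassFunction H φ) (hφS : ∀ x : H, (x : G) ∉ S → φ x = 0) (u v : G) (hu : orderOf u = 2) (hv : orderOf v = 2) : ∑ᶠ p ∈ {p : G × G | IsConj u p.1 ∧ IsConj v p.2}, Cfsg.indFun H φ (p.1 * p.2) = (H.index : ℂ) * ∑ᶠ p ∈ {p : H × H | IsConj u (p.1 : G) ∧ IsConj v (p.2 : G)}, φ (p.1 * p.2) := by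
  classical
  haveI := Fintype.ofFinite H
  set P : Set (G × G) := {p | IsConj u p.1 ∧ IsConj v p.2} with hP
  set Q : Set (H × H) := {p | IsConj u (p.1 : G) ∧ IsConj v (p.2 : G)} with hQ
  have hinvol : ∀ {w a : G}, orderOf w = 2 → IsConj w a → a * a = 1 := by
    intro w a hw h
    obtain ⟨c, hc⟩ := isConj_iff.mp h
    rw [← hc, show c * w * c⁻¹ * (c * w * c⁻¹) = c * (w ^ 2) * c⁻¹ by rw [pow_two]; group,
      ← hw, pow_orderOf_eq_one, mul_one, mul_inv_cancel]
  rw [finsum_mem_eq_toFinset_sum, finsum_mem_eq_toFinset_sum]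
  simp only [indFun, ← Finset.mul_sum]
  rw [Finset.sum_comm]
  have hshift : ∀ x : G, ∑ p ∈ P.toFinset, extendByZero H φ (x⁻¹ * (p.1 * p.2) * x) =
      ∑ p ∈ P.toFinset, extendByZero H φ (p.1 * p.2) := by
    intro x
    refine Finset.sum_nbij' (fun p => (x⁻¹ * p.1 * x, x⁻¹ * p.2 * x))
      (fun p => (x * p.1 * x⁻¹, x * p.2 * x⁻¹)) ?_ ?_ ?_ ?_ ?_
    · intro p hp
      simp only [Set.mem_toFinset, hP, Set.mem_setOf_eq] at hp ⊢
      exact ⟨hp.1.trans (isConj_iff.mpr ⟨x⁻¹, by rw [inv_inv]⟩),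
        hp.2.trans (isConj_iff.mpr ⟨x⁻¹, by rw [inv_inv]⟩)⟩
    · intro p hp
      simp only [Set.mem_toFinset, hP, Set.mem_setOf_eq] at hp ⊢
      exact ⟨hp.1.trans (isConj_iff.mpr ⟨x, rfl⟩), hp.2.trans (isConj_iff.mpr ⟨x, rfl⟩)⟩
    · intro p _; ext <;> dsimp <;> group
    · intro p _; ext <;> dsimp <;> group
    · intro p _; congr 1; dsimp; group
  rw [Finset.sum_congr rfl fun x _ => hshift x, Finset.sum_const, Finset.card_univ,
    ← Nat.card_eq_fintype_card, nsmul_eq_mul, ← H.index_mul_card, Nat.cast_mul]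
  have hH : (Nat.card H : ℂ) ≠ 0 := Nat.cast_ne_zero.mpr Nat.card_pos.ne'
  field_simp
  congr 1
  symm
  refine Eq.trans ?_ (Finset.sum_subset (s₁ := Q.toFinset.image fun p : H × H => ((p.1 : G), (p.2 : G)))
    ?_ ?_)
  · rw [Finset.sum_image fun a _ b _ h => by
      simp only [Prod.mk.injEq] at h; exact Prod.ext (Subtype.ext h.1) (Subtype.ext h.2)]
    exact Finset.sum_congr rfl fun p _ => (Cfsg.Agent.Char.extendByZero_mem H φ (p.1 * p.2).2).symm
  · intro p hp
    obtain ⟨q, hq, rfl⟩ := Finset.mem_image.mp hp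
    simpa [hP, hQ] using hq
  · intro p hp hpn
    simp only [Set.mem_toFinset, hP, Set.mem_setOf_eq] at hp
    by_cases hm : p.1 * p.2 ∈ H
    · rw [Cfsg.Agent.Char.extendByZero_mem H φ hm]
      by_contra hne
      have hs : p.1 * p.2 ∈ S := by
        by_contra h
        exact hne (hφS ⟨_, hm⟩ h)
      have e1 := hinvol hu hp.1
      have e2 := hinvol hv hp.2
      have i1 : p.1⁻¹ = p.1 := inv_eq_of_mul_eq_one_right e1
      have i2 : p.2⁻¹ = p.2 := inv_eq_of_mul_eq_one_right e2
      have h1 : p.1 ∈ H := by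
        by_contra h
        refine hTI p.1 h _ hs ?_
        rw [i1, ← mul_assoc, e1, one_mul]
        have := hinv _ hs
        rwa [mul_inv_rev, i1, i2] at this
      have h2 : p.2 ∈ H := by
        have := H.mul_mem h1 hm
        rwa [← mul_assoc, e1, one_mul] at this
      refine hpn (Finset.mem_image.mpr ⟨(⟨p.1, h1⟩, ⟨p.2, h2⟩), ?_, rfl⟩)
      simpa [hQ] using hp
    · exact Cfsg.Agent.Char.extendByZero_not_mem H φ hm

end Cfsg.Agent.S0849
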