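import Cfsg.Statements.S0850
import Cfsg.Agent.Lib.Char.IndValue

set_option autoImplicit false
open Cfsg
open scoped ComplexConjugate

namespace Cfsg.Agent.S0850

/-- Let K be a subgroup of the finite group G that meets each conjugate by an element outside its normalizer N trivially, is properly contained in N, and contains the centralizer of each of its non-identity elements (a T.I. subgroup with Frobenius normalizer). Then no element of N outside K is conjugate in G to an element of K, and for every class function ϑ of N that vanishes on N away from K and at the identity, the function induced from ϑ to G agrees with ϑ on all of N. -/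
theorem result {G : Type*} [Group G] [Fintype G] (K : Subgroup G) (hTI : ∀ g : G, g ∉ Subgroup.normalizer (K : Set G) → ∀ k ∈ K, g * k * g⁻¹ ∈ K → k = 1) (hlt : K < Subgroup.normalizer (K : Set G)) (hC : ∀ k ∈ K, k ≠ 1 → Subgroup.centralizer ({k} : Set G) ≤ K) : (∀ x ∈ Subgroup.normalizer (K : Set G), x ∉ K → ∀ g : G, g * x * g⁻¹ ∉ K) ∧ ∀ (ϑ : Subgroup.normalizer (K : Set G) → ℂ), Cfsg.IsClassFunction (Subgroup.normalizer (K : Set G)) ϑ → (∀ x : Subgroup.normalizer (K : Set G), (x : G) ∉ K → ϑ x = 0) → ϑ 1 = 0 → ∀ x : Subgroup.normalizer (K : Set G), Cfsg.indFun (Subgroup.normalizer (K : Set G)) ϑ x = ϑ x := by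
  classical
  set N := Subgroup.normalizer (K : Set G) with hN
  have hKN : K ≤ N := Subgroup.le_normalizer
  -- `K` is a Hall subgroup of its normalizer
  have hhall : ∀ p : ℕ, p.Prime → p ∣ Nat.card K → ∀ y ∈ N, (∃ k : ℕ, orderOf y = p ^ k) → y ∈ K := by
    intro p hp hpK y hy ⟨k, hk⟩
    haveI : Fact p.Prime := ⟨hp⟩
    obtain ⟨w, hw⟩ := exists_prime_orderOf_dvd_card' (G := K) p hpK
    have hyp : IsPGroup p (Subgroup.zpowers (⟨y, hy⟩ : N)) :=
      IsPGroup.of_card (n := k) (by rw [Nat.card_zpowers, Subgroup.orderOf_mk, hk])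
    obtain ⟨P, hP⟩ := hyp.exists_le_sylow
    set Q := (P : Subgroup N) ⊓ K.subgroupOf N
    haveI hKn : (K.subgroupOf N).Normal := Subgroup.normal_in_normalizer
    -- a nontrivial element of `K` in `P`
    have hne : Q ≠ ⊥ := by
      have hwp : IsPGroup p (Subgroup.zpowers (⟨(w : G), hKN w.2⟩ : N)) :=
        IsPGroup.of_card (n := 1) (by rw [Nat.card_zpowers, Subgroup.orderOf_mk, Subgroup.orderOf_coe, hw, pow_one])
      obtain ⟨R, hR⟩ := hwp.exists_le_sylow
      obtain ⟨c, hc⟩ := MulAction.exists_smul_eq N R P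
      intro hQ
      set v : N := c * ⟨(w : G), hKN w.2⟩ * c⁻¹ with hv
      have hvQ : v ∈ Q := by
        refine ⟨?_, hKn.conj_mem _ (Subgroup.mem_subgroupOf.2 w.2) c⟩
        rw [← hc]
        show v ∈ ((c • R : Sylow p N) : Subgroup N)
        rw [Sylow.coe_subgroup_smul, Subgroup.mem_pointwise_smul_iff_inv_smul_mem]
        have : (MulAut.conj c)⁻¹ • v = (⟨(w : G), hKN w.2⟩ : N) := by
          simp [hv, MulAut.smul_def, mul_assoc]
        rw [this]
        exact hR (Subgroup.mem_zpowers _)
      rw [hQ, Subgroup.mem_bot, hv, conj_eq_one_iff] at hvQ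
      rw [← orderOf_eq_one_iff, Subgroup.orderOf_mk, Subgroup.orderOf_coe, hw] at hvQ
      exact hp.ne_one hvQ
    haveI : Nontrivial (P : Subgroup N) := by
      rw [Subgroup.nontrivial_iff_ne_bot]
      exact fun h => hne (by simp [Q, h])
    -- a central element of `P` inside `K`
    haveI hQn : (Q.subgroupOf (P : Subgroup N)).Normal := by
      constructor
      intro a ha g
      rw [Subgroup.mem_subgroupOf] at ha ⊢
      exact ⟨(g * a * g⁻¹).2, hKn.conj_mem _ ha.2 _⟩
    obtain ⟨z, hzQ, hzc, hz1⟩ : ∃ z : (P : Subgroup N), z ∈ Q.subgroupOf (P : Subgroup N) ∧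
        z ∈ Subgroup.center (P : Subgroup N) ∧ z ≠ 1 := by
      have hne' : Q.subgroupOf (P : Subgroup N) ≠ ⊥ := by
        intro h
        rw [Subgroup.subgroupOf_eq_bot, disjoint_iff] at h
        exact hne (by rw [← h]; simp [Q, inf_assoc, inf_comm])
      haveI : Group.IsNilpotent (P : Subgroup N) := P.2.isNilpotent
      by_contra hcon
      simp only [not_exists, not_and, not_not] at hcon
      apply hne'
      have hp2 : p ∣ Nat.card (Q.subgroupOf (P : Subgroup N)) := by
        obtain ⟨j, hj⟩ := IsPGroup.iff_card.1 (P.2.to_subgroup (Q.subgroupOf (P : Subgroup N)))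
        rcases j with _ | j
        · exact absurd (Subgroup.card_eq_one.1 (by simpa using hj)) hne'
        · exact hj ▸ dvd_pow_self p (by omega)
      have hact : IsPGroup p (ConjAct (P : Subgroup N)) := P.2.of_equiv ConjAct.toConjAct
      obtain ⟨b, hb, hb1⟩ := hact.exists_fixed_point_of_prime_dvd_card_of_fixed_point
        (α := Q.subgroupOf (P : Subgroup N)) hp2 (a := 1) (fun g => Subtype.ext (by
          simp [ConjAct.Subgroup.val_conj_smul, ConjAct.smul_def]))
      exfalso
      refine hb1 (Subtype.ext (hcon b b.2 ?_).symm)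
      rw [Subgroup.mem_center_iff]
      intro g
      have := congrArg Subtype.val (hb (ConjAct.toConjAct g))
      rw [ConjAct.Subgroup.val_conj_smul, ConjAct.smul_def, ConjAct.ofConjAct_toConjAct] at this
      exact mul_inv_eq_iff_eq_mul.1 this
    have hzK : ((z : N) : G) ∈ K := hzQ.2
    have hzne : ((z : N) : G) ≠ 1 := fun h => hz1 (Subtype.ext (Subtype.ext h))
    apply hC _ hzK hzne
    rw [Subgroup.mem_centralizer_singleton_iff]
    exact congrArg (fun t : (P : Subgroup N) => ((t : N) : G))
      (Subgroup.mem_center_iff.1 hzc ⟨⟨y, hy⟩, hP (Subgroup.mem_zpowers _)⟩)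
  have part1 : ∀ x ∈ N, x ∉ K → ∀ g : G, g * x * g⁻¹ ∉ K := by
    intro x hx hxK g hg
    apply hxK
    have hdvd : orderOf x ∣ Nat.card K := by
      have h1 : orderOf (g * x * g⁻¹) = orderOf x :=
        orderOf_injective (MulAut.conj g).toMonoidHom (MulAut.conj g).injective x
      rw [← h1, ← Subgroup.orderOf_mk _ hg]
      exact orderOf_dvd_natCard _
    -- every prime power part of `x` lies in `K`
    suffices h : ∀ n, ∀ y ∈ N, orderOf y = n → n ∣ Nat.card K → y ∈ K from h _ x hx rfl hdvd
    intro n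
    induction n using Nat.recOnPrimeCoprime with
    | zero => intro y _ h; exact absurd h (orderOf_pos y).ne'
    | prime_pow p k hp =>
      intro y hy h hd
      rcases k with _ | k
      · rw [pow_zero, orderOf_eq_one_iff] at h; rw [h]; exact K.one_mem
      · exact hhall p hp ((dvd_pow_self p (by omega)).trans hd) y hy ⟨_, h⟩
    | coprime a b ha hb hab iha ihb =>
      intro y hy h hd
      have ha' : orderOf (y ^ b) = a := by
        rw [orderOf_pow, h, Nat.gcd_mul_left_left, Nat.mul_div_cancel _ (by omega)]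
      have hb' : orderOf (y ^ a) = b := by
        rw [orderOf_pow, h, Nat.gcd_mul_right_left, Nat.mul_div_cancel_left _ (by omega)]
      have h1 := iha _ (pow_mem hy b) ha' ((dvd_mul_right a b).trans hd)
      have h2 := ihb _ (pow_mem hy a) hb' ((dvd_mul_left b a).trans hd)
      have hbe : (a : ℤ) * Nat.gcdA a b + (b : ℤ) * Nat.gcdB a b = 1 := by
        rw [← Nat.gcd_eq_gcd_ab, hab.gcd_eq_one]; rfl
      have : y = (y ^ a) ^ Nat.gcdA a b * (y ^ b) ^ Nat.gcdB a b := by
        rw [← zpow_natCast y a, ← zpow_natCast y b, ← zpow_mul, ← zpow_mul, ← zpow_add, hbe, zpow_one]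
      rw [this]
      exact mul_mem (zpow_mem h2 _) (zpow_mem h1 _)
  refine ⟨part1, fun ϑ hϑ hϑK hϑ1 x => ?_⟩
  by_cases hxK : (x : G) ∈ K
  · by_cases hx1 : x = 1
    · subst hx1
      rw [show ((1 : N) : G) = 1 from rfl, Cfsg.Agent.Char.indFun_one, hϑ1, mul_zero]
    · exact Cfsg.Agent.Char.indFun_ti (K : Set G) hTI ϑ hϑ (fun y hy => hϑK y hy) x hxK hx1
  · rw [hϑK x hxK, Cfsg.indFun, Finset.sum_eq_zero (fun g _ => ?_), mul_zero]
    by_cases hm : g⁻¹ * (x : G) * g ∈ N
    · rw [Cfsg.Agent.Char.extendByZero_mem N ϑ hm]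
      exact hϑK _ (by simpa using part1 x x.2 hxK g⁻¹)
    · exact Cfsg.Agent.Char.extendByZero_not_mem N ϑ hm

end Cfsg.Agent.S0850
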