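import Cfsg.Statements.S0857
import Cfsg.Agent.Lib.Char.Clifford
import Cfsg.Agent.Lib.Char.CliffordInd
import Cfsg.Agent.Lib.Char.Gallagher
import Cfsg.Agent.Lib.Char.Coprime
import Cfsg.Agent.Lib.Char.BrauerConj
import Cfsg.Agent.Lib.Char.Linear

set_option autoImplicit false
open Cfsg Cfsg.Agent.Char
open scoped commutatorElement
open scoped ComplexConjugate

namespace Cfsg.Agent.S0857

/-- Let L < K be normal subgroups of the finite group G with no normal subgroup of G strictly between them and with K / L abelian (the commutator subgroup of K lies in L). Let ϑ be an irreducible character of K invariant under conjugation by G. Then the restriction of ϑ to L is irreducible; or it equals e times an irreducible character of L with e ^ 2 equal to the index of L in K; or it is the sum of a family of pairwise distinct irreducible characters of L indexed by a set whose size is the index of L in K. -/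
theorem result {G : Type*} [Group G] [Fintype G] (K L : Subgroup G) [hK : K.Normal] [L.Normal] (hLK : L < K) (hchief : ∀ M : Subgroup G, M.Normal → L ≤ M → M ≤ K → M = L ∨ M = K) (hab : ⁅K, K⁆ ≤ L) (ϑ : K → ℂ) (hϑ : Cfsg.IsIrrCharacter K ϑ) (hinv : ∀ (g : G) (n : K), ϑ ⟨g * n * g⁻¹, hK.conj_mem (n : G) n.2 g⟩ = ϑ n) : Cfsg.IsIrrCharacter L (fun x : L => ϑ ⟨(x : G), hLK.le x.2⟩) ∨ (∃ (φ : L → ℂ) (e : ℕ), Cfsg.IsIrrCharacter L φ ∧ (fun x : L => ϑ ⟨(x : G), hLK.le x.2⟩) = (e : ℂ) • φ ∧ e ^ 2 = L.relIndex K) ∨ (∃ F : Finset (L → ℂ), (∀ φ ∈ F, Cfsg.IsIrrCharacter L φ) ∧ F.card = L.relIndex K ∧ (fun x : L => ϑ ⟨(x : G), hLK.le x.2⟩) = ∑ φ ∈ F, φ) := by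
  classical
  haveI := Fintype.ofFinite K
  haveI := Fintype.ofFinite L
  set N := L.subgroupOf K with hN
  haveI := Fintype.ofFinite N
  haveI := Fintype.ofFinite (K ⧸ N)
  have hab' : ∀ a b : K, (a * b)⁻¹ * (b * a) ∈ N := fun a b => by
    rw [hN, Subgroup.mem_subgroupOf]
    refine hab ?_
    rw [show (((a * b)⁻¹ * (b * a) : K) : G) = ⁅(b : G)⁻¹, (a : G)⁻¹⁆ by
      simp [commutatorElement_def, mul_assoc]]
    exact Subgroup.commutator_mem_commutator (inv_mem b.2) (inv_mem a.2)
  letI : CommGroup (↥K ⧸ N) :=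
    { (inferInstance : Group (↥K ⧸ N)) with
      mul_comm := by
        intro a b
        obtain ⟨u, rfl⟩ := QuotientGroup.mk_surjective a
        obtain ⟨v, rfl⟩ := QuotientGroup.mk_surjective b
        rw [← QuotientGroup.mk_mul, ← QuotientGroup.mk_mul, QuotientGroup.eq]
        exact hab' u v }
  let θ : IrrCharacter K := ⟨ϑ, hϑ⟩
  have hϑc : IsClassFunction K ϑ := isClassFunction_character (irr_isCharacter hϑ)
  have hinv' : ∀ (g : G) (k : K), ϑ (MulAut.conjNormal g k) = ϑ k := fun g k => hinv g k
  let res : N → ℂ := fun m => ϑ (m : K)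
  have hresc : IsCharacter N res := isCharacter_comp N.subtype (irr_isCharacter hϑ)
  -- the restriction seen on `L`
  let e : N ≃* L := Subgroup.subgroupOfEquivOfLe hLK.le
  have hback : ∀ x : L, res (e.symm x) = ϑ ⟨(x : G), hLK.le x.2⟩ := fun x => rfl
  have hidx : N.index = L.relIndex K := rfl
  -- normal subgroups between
  have hbetween : ∀ U : Subgroup K, N ≤ U → (∀ (g : G) (u : K), u ∈ U → MulAut.conjNormal g u ∈ U) →
      U = N ∨ U = ⊤ := by
    intro U hU hg
    haveI : (U.map K.subtype).Normal := ⟨fun w hw g => by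
      obtain ⟨u, hu, rfl⟩ := Subgroup.mem_map.1 hw
      exact Subgroup.mem_map.2 ⟨_, hg g u hu, by simp [MulAut.conjNormal_apply]⟩⟩
    rcases hchief (U.map K.subtype) inferInstance
      (fun w hw => ⟨⟨w, hLK.le hw⟩, hU hw, rfl⟩) (Subgroup.map_subtype_le U) with h | h
    · refine Or.inl (le_antisymm (fun u hu => ?_) hU)
      rw [hN, Subgroup.mem_subgroupOf, ← h]
      exact Subgroup.mem_map_of_mem _ hu
    · refine Or.inr (top_unique fun u _ => ?_)
      obtain ⟨w, hw, hwu⟩ := Subgroup.mem_map.1 (h.ge u.2)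
      rwa [← Subtype.ext (show (w : G) = (u : G) from hwu)]
  -- linear characters of the quotient fixing `ϑ`
  haveI := Fintype.ofFinite ((↥K ⧸ N) →* ℂˣ)
  let U : Subgroup K :=
    { carrier := {k | ∀ l : (↥K ⧸ N) →* ℂˣ,
        (∀ x : K, (l (QuotientGroup.mk x) : ℂ) * ϑ x = ϑ x) → l (QuotientGroup.mk k) = 1}
      one_mem' := fun l _ => map_one l
      mul_mem' := fun {a b} ha hb l hl => by rw [QuotientGroup.mk_mul, map_mul, ha l hl, hb l hl, one_mul]
      inv_mem' := fun {a} ha l hl => by rw [QuotientGroup.mk_inv, map_inv, ha l hl, inv_one] }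
  have hUN : N ≤ U := fun k hk l _ => by rw [(QuotientGroup.eq_one_iff k).2 hk, map_one]
  have hUinv : ∀ (g : G) (u : K), u ∈ U → MulAut.conjNormal g u ∈ U := by
    intro g u hu l hl
    have hc : N ≤ N.comap ((MulAut.conjNormal g : MulAut K).toMonoidHom) := fun w hw => by
      rw [hN, Subgroup.mem_comap, Subgroup.mem_subgroupOf]
      show ((MulAut.conjNormal g w : K) : G) ∈ L
      rw [MulAut.conjNormal_apply]
      exact ‹L.Normal›.conj_mem _ hw g
    have := hu (l.comp (QuotientGroup.map N N (MulAut.conjNormal g : MulAut K).toMonoidHom hc)) fun x => by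
      have h1 := hl (MulAut.conjNormal g x)
      rw [hinv' g x] at h1
      exact h1
    exact this
  have hnorm : ∀ a : N → ℂ, classInner (fun x : L => a (e.symm x)) (fun x : L => a (e.symm x)) =
      classInner a a := by
    intro a
    simp only [classInner]
    rw [Nat.card_congr e.toEquiv]
    congr 1
    exact (Fintype.sum_equiv e.toEquiv _ _ fun x => by simp).symm
  rcases hbetween U hUN hUinv with hUeq | hUeq
  swap
  · -- all twists distinct
    left
    refine isIrr_of_norm_one (isCharacter_comp e.symm.toMonoidHom hresc) ?_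
    rw [show (fun x : L => ϑ ⟨(x : G), hLK.le x.2⟩) = fun x : L => res (e.symm x) from rfl]
    refine (hnorm res).trans ?_
    have hone : ∀ (l : (↥K ⧸ N) →* ℂˣ) (m : N), (l (QuotientGroup.mk (m : K)) : ℂ) = 1 := fun l m => by
      rw [(QuotientGroup.eq_one_iff (m : K)).2 m.2, map_one, Units.val_one]
    let tw : ((↥K ⧸ N) →* ℂˣ) → IrrCharacter K := fun l =>
      ⟨fun x => (l (QuotientGroup.mk x) : ℂ) * ϑ x, isIrr_linear_mul hϑ (l.comp (QuotientGroup.mk' N))⟩
    have htw : Function.Injective tw := by
      intro l l' h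
      refine MonoidHom.ext fun q => ?_
      obtain ⟨k, rfl⟩ := QuotientGroup.mk_surjective q
      have h1 : k ∈ U := hUeq ▸ Subgroup.mem_top k
      have h2 := h1 (l * l'⁻¹) fun x => by
        have h3 : (l (QuotientGroup.mk x) : ℂ) * ϑ x = (l' (QuotientGroup.mk x) : ℂ) * ϑ x :=
          congrFun (congrArg Subtype.val h) x
        rw [MonoidHom.mul_apply, MonoidHom.inv_apply, Units.val_mul, mul_comm (l (QuotientGroup.mk x) : ℂ),
          mul_assoc, h3, ← mul_assoc, ← Units.val_mul, inv_mul_cancel, Units.val_one, one_mul]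
      rw [MonoidHom.mul_apply, MonoidHom.inv_apply, mul_inv_eq_one] at h2
      exact h2
    have hind : indFun N res = ∑ l : (↥K ⧸ N) →* ℂˣ, (tw l : K → ℂ) := by
      funext x
      rw [Finset.sum_apply]
      show _ = ∑ l : (↥K ⧸ N) →* ℂˣ, (l (QuotientGroup.mk x) : ℂ) * ϑ x
      rw [← Finset.sum_mul]
      by_cases hx : x ∈ N
      · have h1 : indFun N res x = (N.index : ℂ) * res ⟨x, hx⟩ :=
          indFun_invariant N res (fun k m => by
            show ϑ (MulAut.conjNormal k m : N) = _
            rw [MulAut.conjNormal_apply]; exact hϑc _ _) ⟨x, hx⟩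
        rw [h1, Finset.sum_congr rfl (g := fun _ => (1 : ℂ)) (fun l _ => hone l ⟨x, hx⟩), Finset.sum_const,
          Finset.card_univ, nsmul_eq_mul, mul_one, ← Nat.card_eq_fintype_card,
          CommGroup.card_monoidHom_of_hasEnoughRootsOfUnity (↥K ⧸ N) ℂ]
        rfl
      · rw [indFun_normal_not_mem N res hx]
        have hne : (QuotientGroup.mk x : ↥K ⧸ N) ≠ 1 := fun h => hx ((QuotientGroup.eq_one_iff x).1 h)
        obtain ⟨l₀, hl₀⟩ := CommGroup.exists_apply_ne_one_of_hasEnoughRootsOfUnity (↥K ⧸ N) ℂ hne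
        have h0 : ∑ l : (↥K ⧸ N) →* ℂˣ, (l (QuotientGroup.mk x) : ℂ) = 0 := by
          have h1 : (l₀ (QuotientGroup.mk x) : ℂ) * ∑ l : (↥K ⧸ N) →* ℂˣ, (l (QuotientGroup.mk x) : ℂ) =
              ∑ l : (↥K ⧸ N) →* ℂˣ, (l (QuotientGroup.mk x) : ℂ) := by
            rw [Finset.mul_sum]
            exact Fintype.sum_equiv (Equiv.mulLeft l₀) _ _ fun l => by simp
          exact (mul_left_eq_self₀.1 h1).resolve_left fun h2 => hl₀ (Units.ext (by simpa using h2))
        rw [h0, zero_mul]
    have h := frobenius_right N res (isClassFunction_indFun N res)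
    have hl : classInner (indFun N res) (indFun N res) = (N.index : ℂ) := by
      rw [hind, classInner_sum_left, Finset.sum_congr rfl (g := fun _ => (1 : ℂ)) fun l _ => ?_,
        Finset.sum_const, Finset.card_univ, nsmul_eq_mul, mul_one, ← Nat.card_eq_fintype_card,
        CommGroup.card_monoidHom_of_hasEnoughRootsOfUnity (↥K ⧸ N) ℂ]
      · rfl
      · rw [classInner_sum_right, Finset.sum_eq_single l]
        · exact irr_self (tw l).2
        · intro l' _ hne
          rw [irrC_orth, if_neg fun h2 => hne (htw h2).symm]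
        · exact fun h2 => absurd (Finset.mem_univ _) h2
    rw [show (fun m : N => indFun N res (m : K)) = (N.index : ℂ) • res from funext fun m =>
      indFun_invariant N res (fun k m => by
        show ϑ (MulAut.conjNormal k m : N) = _
        rw [MulAut.conjNormal_apply]; exact hϑc _ _) m, classInner_smul_left, hl] at h
    exact mul_left_cancel₀ (Nat.cast_ne_zero.2 Subgroup.index_ne_zero_of_finite) (h.symm.trans (mul_one _).symm)
  -- `ϑ` vanishes outside `N`
  have hvan : ∀ k : K, k ∉ N → ϑ k = 0 := by
    intro k hk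
    rw [← hUeq] at hk
    by_contra h0
    refine hk fun l hl => Units.ext ?_
    have := hl k
    rw [mul_left_eq_self₀] at this
    exact this.resolve_right h0
  have hres_norm : classInner res res = (N.index : ℂ) := by
    have h := irr_self hϑ
    simp only [classInner] at h ⊢
    rw [← Finset.sum_subset (Finset.subset_univ (Finset.univ.filter fun x : K => x ∈ N))
      (fun x _ hx => by rw [hvan x (fun h2 => hx (Finset.mem_filter.2 ⟨Finset.mem_univ _, h2⟩)), zero_mul]),
      Finset.sum_subtype (Finset.univ.filter fun x : K => x ∈ N) (p := fun x => x ∈ N) (fun x => by simp),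
      ← Subgroup.card_mul_index N, Nat.cast_mul, mul_inv] at h
    have hi : (N.index : ℂ) ≠ 0 := Nat.cast_ne_zero.2 Subgroup.index_ne_zero_of_finite
    calc _ = (N.index : ℂ) * ((Nat.card N : ℂ)⁻¹ * (N.index : ℂ)⁻¹ *
          ∑ x : N, ϑ (x : K) * starRingEnd ℂ (ϑ (x : K))) := by
          field_simp
          rfl
      _ = _ := by rw [h, mul_one]
  obtain ⟨φ, hφ⟩ : ∃ φ : IrrCharacter N, classInner res (φ : N → ℂ) ≠ 0 := by
    by_contra hc
    simp only [not_exists, not_not] at hc
    have h := congrFun (char_expansion hresc) 1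
    simp only [hc, zero_smul, Finset.sum_const_zero, Pi.zero_apply] at h
    exact irr_one_ne_zero hϑ h
  obtain ⟨c, hc⟩ := classInner_natCast hresc (irr_isCharacter φ.2)
  have hclif := clifford_restrict θ φ hφ
  have hconst : ∀ ψ ∈ cliffOrbit N φ, classInner res (ψ : N → ℂ) = (c : ℂ) := by
    intro ψ hψ
    obtain ⟨k, rfl⟩ := mem_cliffOrbit.1 hψ
    rw [← hc]
    exact classInner_restrict_conj hϑc _ k
  have hres_eq : res = (c : ℂ) • ∑ ψ ∈ cliffOrbit N φ, (ψ : N → ℂ) := by rw [← hc]; exact hclif
  have hct : (c : ℂ) * c * (cliffOrbit N φ).card = (N.index : ℂ) := by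
    rw [← hres_norm]
    conv_rhs => arg 2; rw [hres_eq]
    rw [classInner_smul_right, classInner_sum_right, Finset.sum_congr rfl hconst, Finset.sum_const,
      nsmul_eq_mul, map_natCast]
    ring
  -- the inertia group
  let act : K → IrrCharacter N → IrrCharacter N := fun k ψ => irrComp (MulAut.conjNormal k) ψ
  have hact : ∀ (a b : K) (ψ : IrrCharacter N), act b (act a ψ) = act (a * b) ψ := fun a b ψ =>
    Subtype.ext (funext fun m => by simp only [act, irrComp_apply, map_mul, MulAut.mul_apply])
  have hN1 : ∀ k ∈ N, ∀ ψ : IrrCharacter N, act k ψ = ψ := fun k hk ψ => by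
    refine Subtype.ext (funext fun m => ?_)
    show (irrComp (MulAut.conjNormal k) ψ : N → ℂ) m = _
    rw [irrComp_apply, show MulAut.conjNormal k m = (⟨k, hk⟩ : N) * m * (⟨k, hk⟩ : N)⁻¹ from
      Subtype.ext (by simp [MulAut.conjNormal_apply])]
    exact isClassFunction_character (irr_isCharacter ψ.2) _ _
  have hcomm : ∀ (a b : K) (ψ : IrrCharacter N), act (a * b) ψ = act (b * a) ψ := fun a b ψ => by
    have e1 : b * a = a * b * ((a * b)⁻¹ * (b * a)) := by group
    rw [e1, ← hact (a * b), hN1 _ (hab' a b)]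
  have hone : ∀ ψ : IrrCharacter N, act 1 ψ = ψ := hN1 1 (one_mem N)
  let T : Subgroup K :=
    { carrier := {k | act k φ = φ}
      one_mem' := hone φ
      mul_mem' := fun {a b} ha hb => by
        show act (a * b) φ = φ
        rw [← hact, show act a φ = φ from ha, show act b φ = φ from hb]
      inv_mem' := fun {a} ha => by
        show act a⁻¹ φ = φ
        nth_rw 1 [← show act a φ = φ from ha]
        rw [hact, mul_inv_cancel, hone] }
  have hTN : N ≤ T := fun k hk => hN1 k hk φ
  have hTinv : ∀ (g : G) (u : K), u ∈ T → MulAut.conjNormal g u ∈ T := by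
    intro g u hu
    let β : MulAut N := e.trans ((MulAut.conjNormal g : MulAut L).trans e.symm)
    have hβ : ∀ m : N, ((β m : K) : G) = g * ((m : K) : G) * g⁻¹ := fun m => by
      show ((MulAut.conjNormal g (e m) : L) : G) = _
      rw [MulAut.conjNormal_apply]; rfl
    have hψ : irrComp β φ ∈ cliffOrbit N φ := by
      refine mem_cliffOrbit_of_constituent (χ := θ) hφ ?_
      have h1 : classInner res (irrComp β φ : N → ℂ) = classInner res (φ : N → ℂ) := by
        simp only [classInner]
        congr 1
        refine Fintype.sum_equiv β.toEquiv _ _ fun m => ?_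
        show res m * starRingEnd ℂ ((irrComp β φ : N → ℂ) m) = res (β m) * starRingEnd ℂ ((φ : N → ℂ) (β m))
        rw [irrComp_apply]
        congr 1
        show ϑ (m : K) = ϑ (β m : K)
        rw [show ((β m : N) : K) = MulAut.conjNormal g (m : K) from
          Subtype.ext (by rw [hβ, MulAut.conjNormal_apply]), hinv']
      show classInner res (irrComp β φ : N → ℂ) ≠ 0
      rw [h1]; exact hφ
    obtain ⟨k₀, hk₀⟩ := mem_cliffOrbit.1 hψ
    have hfixψ : act u (irrComp β φ) = irrComp β φ := by
      rw [← show act k₀ φ = irrComp β φ from hk₀, hact, hcomm, ← hact, show act u φ = φ from hu]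
    show act (MulAut.conjNormal g u) φ = φ
    refine Subtype.ext (funext fun m => ?_)
    have h1 := congrFun (congrArg Subtype.val hfixψ) (β.symm m)
    simp only [act, irrComp_apply, MulEquiv.apply_symm_apply] at h1
    show (irrComp (MulAut.conjNormal (MulAut.conjNormal g u)) φ : N → ℂ) m = _
    rw [irrComp_apply, ← h1]
    refine congrArg (φ : N → ℂ) (Subtype.ext (Subtype.ext ?_))
    rw [hβ]
    have hs : ((β.symm m : K) : G) = g⁻¹ * ((m : K) : G) * g := by
      have := hβ (β.symm m)
      rw [MulEquiv.apply_symm_apply] at this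
      rw [this]; group
    simp only [MulAut.conjNormal_apply, Subgroup.coe_mul, Subgroup.coe_inv, hs]
    group
  rcases hbetween T hTN hTinv with hT | hT
  · -- induced case
    have hcard : (cliffOrbit N φ).card * Nat.card N = Nat.card K := by
      have h := Finset.card_eq_sum_card_fiberwise (s := (Finset.univ : Finset K))
        (t := cliffOrbit N φ) (f := fun k => act k φ) (fun k _ => mem_cliffOrbit.2 ⟨k, rfl⟩)
      rw [Finset.card_univ, ← Nat.card_eq_fintype_card] at h
      rw [h, Finset.sum_congr rfl (g := fun _ => Nat.card N) fun ψ hψ => ?_, Finset.sum_const, smul_eq_mul]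
      obtain ⟨a, ha⟩ := mem_cliffOrbit.1 hψ
      rw [← Fintype.card_subtype, ← Nat.card_eq_fintype_card]
      have hiff : ∀ k : K, act k φ = ψ ↔ k * a⁻¹ ∈ N := fun k => by
        rw [← show act a φ = ψ from ha]
        constructor
        · intro h1
          refine hT.le (show act (k * a⁻¹) φ = φ from ?_)
          rw [← hact k, h1, hact, mul_inv_cancel, hone]
        · intro hm
          conv_rhs => rw [← show act (k * a⁻¹) φ = φ from hT.ge hm]
          rw [hact, inv_mul_cancel_right]
      refine Nat.card_congr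
        { toFun := fun k => ⟨k.1 * a⁻¹, (hiff k.1).1 k.2⟩
          invFun := fun n => ⟨(n : K) * a, (hiff _).2 (by rw [mul_inv_cancel_right]; exact n.2)⟩
          left_inv := fun k => Subtype.ext (inv_mul_cancel_right _ _)
          right_inv := fun n => Subtype.ext (mul_inv_cancel_right _ _) }
    have ht : (cliffOrbit N φ).card = N.index := by
      have := Subgroup.card_mul_index N
      rw [← this, mul_comm] at hcard
      exact Nat.eq_of_mul_eq_mul_left Nat.card_pos hcard
    rw [ht] at hct
    have hc1 : c = 1 := by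
      have h2 : (c : ℂ) * c = 1 := mul_right_cancel₀
        (Nat.cast_ne_zero.2 (Subgroup.index_ne_zero_of_finite (H := N))) (hct.trans (one_mul _).symm)
      have h3 : c * c = 1 := by exact_mod_cast h2
      exact Nat.eq_one_of_mul_eq_one_left h3
    right; right
    let tr : IrrCharacter N → (L → ℂ) := fun ψ x => (ψ : N → ℂ) (e.symm x)
    have htr : Function.Injective tr := fun a b h => Subtype.ext (funext fun m => by
      simpa [tr] using congrFun h (e m))
    refine ⟨(cliffOrbit N φ).image tr, fun f hf => ?_, ?_, ?_⟩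
    · obtain ⟨ψ, -, rfl⟩ := Finset.mem_image.1 hf
      exact isIrrCharacter_comp_equiv e.symm ψ.2
    · rw [Finset.card_image_of_injective _ htr, ht, hidx]
    · rw [Finset.sum_image fun a _ b _ h => htr h]
      funext x
      rw [← hback, hres_eq, hc1]
      simp [Finset.sum_apply, tr]
  · -- homogeneous case
    right; left
    have horb : cliffOrbit N φ = {φ} := by
      refine Finset.eq_singleton_iff_unique_mem.2 ⟨self_mem_cliffOrbit φ, fun ψ hψ => ?_⟩
      obtain ⟨k, rfl⟩ := mem_cliffOrbit.1 hψ
      exact (hT ▸ Subgroup.mem_top k : k ∈ T)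
    refine ⟨fun x => (φ : N → ℂ) (e.symm x), c, isIrrCharacter_comp_equiv e.symm φ.2, ?_, ?_⟩
    · funext x
      rw [← hback, hres_eq, horb]
      simp
    · rw [horb, Finset.card_singleton, Nat.cast_one, mul_one] at hct
      rw [← hidx, pow_two]
      exact_mod_cast hct

end Cfsg.Agent.S0857
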