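import Cfsg.Statements.S0858
import Cfsg.Agent.Lib.Char.CliffordGen
import Cfsg.Agent.Lib.Char.Clifford
import Cfsg.Agent.Lib.Char.BrauerConj
import Cfsg.Agent.Lib.Char.Induction
import Cfsg.Agent.Lib.Solv.MaxCentralizer
import Cfsg.Agent.S0857

set_option autoImplicit false
open Cfsg Cfsg.Agent.Char
open scoped commutatorElement
open scoped ComplexConjugate

namespace Cfsg.Agent.S0858

/-- One inductive step: a character with reducible restriction to `N` is induced from a proper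
subgroup containing `N`. -/
theorem step {G : Type*} [Group G] [Fintype G] (N : Subgroup G) [N.Normal]
    (hsolv : Group.IsSolvable (G ⧸ N))
    (hchief : ∀ (H K L : Subgroup G), N ≤ L → L < K → K ≤ H → (∀ h ∈ H, ∀ k ∈ K, h * k * h⁻¹ ∈ K) →
      (∀ h ∈ H, ∀ l ∈ L, h * l * h⁻¹ ∈ L) →
      (∀ M : Subgroup G, L ≤ M → M ≤ K → (∀ h ∈ H, ∀ m ∈ M, h * m * h⁻¹ ∈ M) → M = L ∨ M = K) →
      ¬ IsSquare (L.relIndex K))
    {χ : G → ℂ} (hχ : IsIrrCharacter G χ) (hnot : ¬ IsIrrCharacter N (fun n : N => χ n)) :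
    ∃ (T : Subgroup G) (ξ : T → ℂ), N ≤ T ∧ T ≠ ⊤ ∧ IsIrrCharacter T ξ ∧ indFun T ξ = χ := by
  classical
  haveI : ∀ S : Subgroup G, Fintype S := fun S => Fintype.ofFinite S
  obtain ⟨K, -, hKmin⟩ := Finite.exists_le_minimal
    (p := fun K : Subgroup G => K.Normal ∧ N ≤ K ∧ IsIrrCharacter K (fun k : K => χ k)) (a := (⊤ : Subgroup G))
    ⟨inferInstance, le_top, isIrrCharacter_comp_equiv Subgroup.topEquiv hχ⟩
  obtain ⟨hKn, hNK, hKirr⟩ := hKmin.1
  haveI := hKn
  have hne : N ≠ K := fun h => hnot (by subst h; exact hKirr)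
  obtain ⟨L, -, hLmax⟩ := Finite.exists_le_maximal
    (p := fun L : Subgroup G => L.Normal ∧ N ≤ L ∧ L < K) (a := N)
    ⟨inferInstance, le_rfl, lt_of_le_of_ne hNK hne⟩
  obtain ⟨hLn, hNL, hLK⟩ := hLmax.1
  haveI := hLn
  have hch : ∀ M : Subgroup G, M.Normal → L ≤ M → M ≤ K → M = L ∨ M = K := fun M hM h1 h2 => by
    rcases h2.eq_or_lt with h | h
    · exact Or.inr h
    · exact Or.inl (le_antisymm (hLmax.2 ⟨hM, hNL.trans h1, h⟩ h1) h1)
  haveI := hsolv
  haveI : Group.IsSolvable (G ⧸ L) := solvable_of_surjective (f := QuotientGroup.map N L (MonoidHom.id G) hNL)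
    (fun z => by
      obtain ⟨g, rfl⟩ := QuotientGroup.mk_surjective z
      exact ⟨QuotientGroup.mk g, rfl⟩)
  obtain ⟨hcomm, -⟩ := Cfsg.Agent.Solv.MaxCentralizer.chief_exponent L K hLK.le hLK.ne'
    (solvable_of_solvable_injective (K.map (QuotientGroup.mk' L)).subtype_injective) hch
  have hab : ⁅K, K⁆ ≤ L := Subgroup.commutator_le.2 fun a ha b hb => by
    rw [commutatorElement_def]; exact hcomm a ha b hb
  have hχc : IsClassFunction G χ := isClassFunction_character (irr_isCharacter hχ)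
  rcases Cfsg.Agent.S0857.result K L hLK hch hab (fun k : K => χ k) hKirr (fun g n => hχc _ g) with
    h | ⟨φ, e, -, -, he⟩ | ⟨F, hF, hFc, hFs⟩
  · exact absurd (hKmin.2 ⟨hLn, hNL, h⟩ hLK.le) hLK.not_ge
  · refine absurd ⟨e, (by rw [← he]; ring)⟩ (hchief ⊤ K L hNL hLK le_top
      (fun h _ k hk => hKn.conj_mem k hk h) (fun h _ l hl => hLn.conj_mem l hl h)
      (fun M h1 h2 h3 => hch M ⟨fun m hm g => h3 g (Subgroup.mem_top g) m hm⟩ h1 h2))
  have hidx : 1 < F.card := by
    rw [hFc]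
    rcases Nat.lt_trichotomy (L.relIndex K) 1 with h | h | h
    · exact absurd (by omega : L.relIndex K = 0) Subgroup.index_ne_zero_of_finite
    · exact absurd (le_antisymm hLK.le (Subgroup.relIndex_eq_one.1 h)) hLK.ne
    · exact h
  obtain ⟨φ₁, h₁, φ₂, h₂, h12⟩ := Finset.one_lt_card.1 hidx
  have hres : (fun x : L => χ x) = ∑ φ ∈ F, φ := hFs
  have hinner : ∀ ψ ∈ F, classInner (fun x : L => χ x) ψ = 1 := by
    intro ψ hψ
    rw [hres, classInner_sum_left, Finset.sum_eq_single ψ]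
    · exact irr_self (hF ψ hψ)
    · intro b hb hb'
      rw [show classInner b ψ = _ from irrC_orth (⟨b, hF b hb⟩ : IrrCharacter L) ⟨ψ, hF ψ hψ⟩,
        if_neg fun h => hb' (congrArg Subtype.val h)]
    · exact fun h => absurd hψ h
  obtain ⟨T, ξ, e, hLT, hξ, hind, -, hT, -, -⟩ := exists_correspondent hχ L ⟨φ₁, hF _ h₁⟩
    (by rw [show classInner (fun a : L => χ a) φ₁ = 1 from hinner _ h₁]; exact one_ne_zero)
  refine ⟨T, ξ, hNL.trans hLT, ?_, hξ, hind.symm⟩
  intro htop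
  have horb : (⟨φ₂, hF _ h₂⟩ : IrrCharacter L) ∈ cliffOrbit L ⟨φ₁, hF _ h₁⟩ :=
    mem_cliffOrbit_of_constituent (χ := ⟨χ, hχ⟩)
      (by show classInner (fun n : L => χ n) φ₁ ≠ 0; rw [hinner _ h₁]; exact one_ne_zero)
      (by show classInner (fun n : L => χ n) φ₂ ≠ 0; rw [hinner _ h₂]; exact one_ne_zero)
  obtain ⟨g, hg⟩ := mem_cliffOrbit.1 horb
  rw [(hT g).1 (htop ▸ Subgroup.mem_top g)] at hg
  exact h12 (congrArg Subtype.val hg)


/-- Let N be a normal subgroup of the finite group G with G / N solvable, and suppose that for every subgroup H containing N and all subgroups L < K between N and H that are normal in H with no subgroup normal in H strictly between them, the index of L in K is not a perfect square. Then every irreducible character χ of G is induced from an irreducible character ψ of some subgroup H containing N such that the restriction of ψ to N is irreducible. -/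
theorem result {G : Type*} [Group G] [Fintype G] (N : Subgroup G) [N.Normal] (hsolv : Group.IsSolvable (G ⧸ N)) (hchief : ∀ (H K L : Subgroup G), N ≤ L → L < K → K ≤ H → (∀ h ∈ H, ∀ k ∈ K, h * k * h⁻¹ ∈ K) → (∀ h ∈ H, ∀ l ∈ L, h * l * h⁻¹ ∈ L) → (∀ M : Subgroup G, L ≤ M → M ≤ K → (∀ h ∈ H, ∀ m ∈ M, h * m * h⁻¹ ∈ M) → M = L ∨ M = K) → ¬ IsSquare (L.relIndex K)) (χ : G → ℂ) (hχ : Cfsg.IsIrrCharacter G χ) : ∃ (H : Subgroup G) (hNH : N ≤ H) (ψ : H → ℂ), Cfsg.IsIrrCharacter H ψ ∧ Cfsg.indFun H ψ = χ ∧ Cfsg.IsIrrCharacter N (fun n : N => ψ ⟨(n : G), hNH n.2⟩) := by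
  classical
  haveI : ∀ S : Subgroup G, Fintype S := fun S => Fintype.ofFinite S
  obtain ⟨U, -, hUmin⟩ := Finite.exists_le_minimal
    (p := fun U : Subgroup G => ∃ (_ : N ≤ U) (ψ : U → ℂ), IsIrrCharacter U ψ ∧ indFun U ψ = χ)
    (a := (⊤ : Subgroup G))
    ⟨le_top, fun x => χ x, isIrrCharacter_comp_equiv Subgroup.topEquiv hχ, by
      funext g
      show _ * ∑ x : G, extendByZero ⊤ (fun x : (⊤ : Subgroup G) => χ x) (x⁻¹ * g * x) = χ g
      rw [Finset.sum_congr rfl (g := fun _ => χ g) (fun x _ => by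
        rw [extendByZero_mem ⊤ _ (Subgroup.mem_top _)]
        have := isClassFunction_character (irr_isCharacter hχ) g x⁻¹
        rwa [inv_inv] at this),
        Finset.sum_const, Finset.card_univ, nsmul_eq_mul, ← mul_assoc, Subgroup.card_top,
        ← Nat.card_eq_fintype_card, inv_mul_cancel₀ (Nat.cast_ne_zero.2 Nat.card_pos.ne'), one_mul]⟩
  obtain ⟨hNU, ψ, hψ, hψχ⟩ := hUmin.1
  refine ⟨U, hNU, ψ, hψ, hψχ, ?_⟩
  by_contra hnot
  set N' := N.subgroupOf U with hN'
  haveI : N'.Normal := (inferInstance : N.Normal).comap _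
  have hsolv' : Group.IsSolvable (↥U ⧸ N') := by
    haveI := hsolv
    exact solvable_of_solvable_injective
      (f := QuotientGroup.map N' N U.subtype (fun x hx => hx)) (by
        rw [injective_iff_map_eq_one]
        intro z hz
        obtain ⟨u, rfl⟩ := QuotientGroup.mk_surjective z
        exact (QuotientGroup.eq_one_iff u).2 ((QuotientGroup.eq_one_iff (u : G)).1 hz))
  have hchief' : ∀ (H K L : Subgroup U), N' ≤ L → L < K → K ≤ H → (∀ h ∈ H, ∀ k ∈ K, h * k * h⁻¹ ∈ K) →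
      (∀ h ∈ H, ∀ l ∈ L, h * l * h⁻¹ ∈ L) →
      (∀ M : Subgroup U, L ≤ M → M ≤ K → (∀ h ∈ H, ∀ m ∈ M, h * m * h⁻¹ ∈ M) → M = L ∨ M = K) →
      ¬ IsSquare (L.relIndex K) := by
    intro H K L h1 h2 h3 h4 h5 h6
    rw [← Subgroup.relIndex_map_map_of_injective L K U.subtype_injective]
    refine hchief (H.map U.subtype) (K.map U.subtype) (L.map U.subtype)
      (fun n hn => ⟨⟨n, hNU hn⟩, h1 hn, rfl⟩) ((Subgroup.map_mono h2.le).lt_of_ne
        fun h => h2.ne (Subgroup.map_injective U.subtype_injective h)) (Subgroup.map_mono h3) ?_ ?_ ?_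
    · rintro _ ⟨h, hh, rfl⟩ _ ⟨k, hk, rfl⟩
      exact ⟨_, h4 h hh k hk, by simp⟩
    · rintro _ ⟨h, hh, rfl⟩ _ ⟨k, hk, rfl⟩
      exact ⟨_, h5 h hh k hk, by simp⟩
    · intro M hLM hMK hM
      have hMU : (M.comap U.subtype).map U.subtype = M := by
        rw [Subgroup.map_comap_eq, U.range_subtype, inf_eq_right]
        exact hMK.trans (Subgroup.map_subtype_le K)
      rcases h6 (M.comap U.subtype) (fun l hl => hLM (Subgroup.mem_map_of_mem _ hl)) (fun m hm => by
          obtain ⟨k, hk, he⟩ := hMK hm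
          rwa [← Subtype.ext (show (k : G) = (m : G) from he)])
          (fun h hh m hm => hM _ (Subgroup.mem_map_of_mem _ hh) _ hm) with h | h
      · left; rw [← hMU, h]
      · right; rw [← hMU, h]
  haveI := Fintype.ofFinite U
  haveI : Fintype N' := Fintype.ofFinite N'
  obtain ⟨T, ξ, hNT, hTtop, hξ, hξψ⟩ := step N' hsolv' hchief' hψ (fun h => hnot
    (isIrrCharacter_comp_equiv (Subgroup.subgroupOfEquivOfLe hNU).symm h))
  haveI : Fintype T := Fintype.ofFinite T
  set H := T.map U.subtype with hH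
  have hHU : H ≤ U := Subgroup.map_subtype_le T
  let eT := (Subgroup.equivMapOfInjective T U.subtype U.subtype_injective).symm
  have hlt : ¬ U ≤ H := fun h => hTtop (top_unique fun u _ => by
    obtain ⟨t, ht, he⟩ := h u.2
    rwa [← Subtype.ext (show (t : G) = (u : G) from he)])
  refine hlt (hUmin.2 ⟨fun n hn => ⟨⟨n, hNU hn⟩, hNT hn, rfl⟩, fun x => ξ (eT x),
    isIrrCharacter_comp_equiv eT hξ, ?_⟩ hHU)
  rw [← indFun_trans H U hHU, ← hψχ]
  congr 1
  rw [← hξψ]
  have hsub : H.subgroupOf U = T := by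
    rw [hH, Subgroup.subgroupOf, Subgroup.comap_map_eq_self_of_injective U.subtype_injective]
  have key : ∀ (S : Subgroup U) (hS : S = T) (f : S → ℂ),
      (∀ x : S, f x = ξ ⟨x.1, hS ▸ x.2⟩) → indFun S f = indFun T ξ := by
    intro S hS f hf
    subst hS
    congr 1
    funext x
    exact hf x
  refine key _ hsub _ fun x => ?_
  refine congrArg ξ ?_
  rw [MulEquiv.symm_apply_eq]
  exact Subtype.ext rfl

end Cfsg.Agent.S0858
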