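import Cfsg.Statements.S0859
import Cfsg.Agent.Lib.Char.MonomialAGroup
import Cfsg.Agent.Lib.Char.BrauerConj
import Cfsg.Agent.Lib.Char.Central

set_option autoImplicit false
open Cfsg Cfsg.Agent.Char
open scoped ComplexConjugate

namespace Cfsg.Agent.S0859

/-- Let G be a finite solvable group and N a normal subgroup such that for every prime p every Sylow p-subgroup of N is abelian. Suppose every irreducible character of G is induced from an irreducible character of some subgroup containing N whose restriction to N is irreducible. Then every irreducible character of G is induced from a character of degree 1 of some subgroup. -/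
theorem result {G : Type*} [Group G] [Fintype G] [Group.IsSolvable G] (N : Subgroup G) [N.Normal] (hab : ∀ (p : ℕ) [Fact p.Prime] (P : Sylow p N), ∀ a ∈ P, ∀ b ∈ P, a * b = b * a) (hrel : ∀ χ : G → ℂ, Cfsg.IsIrrCharacter G χ → ∃ (H : Subgroup G) (hNH : N ≤ H) (ψ : H → ℂ), Cfsg.IsIrrCharacter H ψ ∧ Cfsg.indFun H ψ = χ ∧ Cfsg.IsIrrCharacter N (fun n : N => ψ ⟨(n : G), hNH n.2⟩)) (χ : G → ℂ) (hχ : Cfsg.IsIrrCharacter G χ) : ∃ (U : Subgroup G) (lam : U → ℂ), Cfsg.IsCharacter U lam ∧ lam 1 = 1 ∧ Cfsg.indFun U lam = χ := by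
  classical
  obtain ⟨H, hNH, ψ, hψ, hind, hψN⟩ := hrel χ hχ
  haveI := Fintype.ofFinite H
  haveI : Fintype (N.subgroupOf H) := Fintype.ofFinite _
  haveI : (N.subgroupOf H).Normal := (inferInstance : N.Normal).comap _
  have hres : IsIrrCharacter (N.subgroupOf H) (fun x : N.subgroupOf H => ψ x) :=
    isIrrCharacter_comp_equiv (Subgroup.subgroupOfEquivOfLe hNH) hψN
  obtain ⟨K, l, hl⟩ := monomial_of_irred_restrict_aGroup (Nat.card H) H rfl (N.subgroupOf H)
    (fun p _ P hP hPp a ha b hb => by
      have hQ : IsPGroup p ((P.map H.subtype).subgroupOf N) :=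
        (hPp.map _).of_equiv (Subgroup.subgroupOfEquivOfLe (by rintro _ ⟨w, hw, rfl⟩; exact hP hw)).symm
      obtain ⟨S, hS⟩ := hQ.exists_le_sylow
      have h1 := hab p S ⟨(a : G), hP ha⟩ (hS ⟨a, ha, rfl⟩) ⟨(b : G), hP hb⟩ (hS ⟨b, hb, rfl⟩)
      have h2 := congrArg (fun z : N => (z : G)) h1
      exact Subtype.ext h2) ψ hψ hres
  refine ⟨K.map H.subtype, fun k => ((l.comp (Subgroup.equivMapOfInjective K H.subtype
    H.subtype_injective).symm.toMonoidHom) k : ℂ), isCharacter_linear _, by simp, ?_⟩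
  rw [← hind, hl]
  exact (indFun_map_subtype K l).symm

end Cfsg.Agent.S0859
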