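import Cfsg.Statements.S0860
import Cfsg.Agent.Lib.Char.PermLemma

set_option autoImplicit false
open Cfsg
open scoped ComplexConjugate

namespace Cfsg.Agent.S0860

/-- Let a group A act on the set of irreducible characters and on the set of conjugacy classes of a finite group G in such a way that (a • χ) evaluated on the class a • C equals χ evaluated on C, for all a, χ and C. Then every element of A fixes exactly as many irreducible characters as it fixes conjugacy classes. -/
theorem result {G : Type*} [Group G] [Finite G] {A : Type*} [Group A] [MulAction A (Cfsg.IrrCharacter G)] [MulAction A (ConjClasses G)] (hcompat : ∀ (a : A) (χ : Cfsg.IrrCharacter G) (g g' : G), ConjClasses.mk g' = a • ConjClasses.mk g → ((a • χ : Cfsg.IrrCharacter G) : G → ℂ) g' = (χ : G → ℂ) g) (a : A) : Nat.card {χ : Cfsg.IrrCharacter G // a • χ = χ} = Nat.card {C : ConjClasses G // a • C = C} := by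
  classical
  haveI := Fintype.ofFinite G
  haveI := Fintype.ofFinite (ConjClasses G)
  let τ : G → G := fun n => Quotient.out (a⁻¹ • ConjClasses.mk n)
  have hτ : ∀ n, ConjClasses.mk (τ n) = a⁻¹ • ConjClasses.mk n := fun n => Quotient.out_eq _
  have hval : ∀ (χ : Cfsg.IrrCharacter G) (n : G), ((a • χ : Cfsg.IrrCharacter G) : G → ℂ) n =
      (χ : G → ℂ) (τ n) := fun χ n => hcompat a χ (τ n) n (by rw [hτ, smul_inv_smul])
  have h : (Nat.card {χ : Cfsg.IrrCharacter G // a • χ = χ} : ℂ) =
      (Nat.card {C : ConjClasses G // a • C = C} : ℂ) := by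
    have hL : (Nat.card {χ : Cfsg.IrrCharacter G // a • χ = χ} : ℂ) =
        ∑ χ : Cfsg.IrrCharacter G, Cfsg.classInner ((a • χ : Cfsg.IrrCharacter G) : G → ℂ) (χ : G → ℂ) := by
      simp only [Cfsg.Agent.Char.irrC_orth, Nat.card_eq_fintype_card, Fintype.card_subtype]
      rw [Finset.sum_boole]
    rw [hL]
    simp only [Cfsg.classInner, hval]
    rw [← Finset.mul_sum, Finset.sum_comm]
    simp only [Cfsg.Agent.Char.second_orth]
    rw [← Finset.sum_fiberwise Finset.univ ConjClasses.mk, Finset.mul_sum]
    rw [Finset.sum_congr rfl (g := fun C : ConjClasses G => if a • C = C then (1 : ℂ) else 0)]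
    · rw [Finset.sum_boole, Nat.card_eq_fintype_card, Fintype.card_subtype]
    · intro C _
      obtain ⟨n₀, rfl⟩ := ConjClasses.mk_surjective C
      have hmem : ∀ n ∈ Finset.univ.filter (fun n => ConjClasses.mk n = ConjClasses.mk n₀),
          (if IsConj (τ n) n then (Nat.card G : ℂ) / Nat.card {x : G // IsConj n x} else 0) =
          if a • ConjClasses.mk n₀ = ConjClasses.mk n₀ then
            (Nat.card G : ℂ) / Nat.card {x : G // IsConj n₀ x} else 0 := by
        intro n hn
        have hiff : IsConj (τ n) n ↔ a • ConjClasses.mk n₀ = ConjClasses.mk n₀ := by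
          rw [← ConjClasses.mk_eq_mk_iff_isConj, hτ, (Finset.mem_filter.1 hn).2, inv_smul_eq_iff, eq_comm]
        by_cases hc : IsConj (τ n) n
        · rw [if_pos hc, if_pos (hiff.1 hc)]
          have hn' : IsConj n n₀ := ConjClasses.mk_eq_mk_iff_isConj.1 (Finset.mem_filter.1 hn).2
          rw [Nat.card_congr (Equiv.subtypeEquivRight fun x => ⟨fun h => hn'.symm.trans h, fun h => hn'.trans h⟩)]
        · rw [if_neg hc, if_neg (fun h => hc (hiff.2 h))]
      rw [Finset.sum_congr rfl hmem, Finset.sum_const, nsmul_eq_mul]
      have hcard : (Finset.univ.filter (fun n => ConjClasses.mk n = ConjClasses.mk n₀)).card =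
          Nat.card {x : G // IsConj n₀ x} := by
        rw [Nat.card_eq_fintype_card, Fintype.card_subtype]
        congr 1
        ext x
        simp only [Finset.mem_filter, Finset.mem_univ, true_and, ConjClasses.mk_eq_mk_iff_isConj]
        exact ⟨IsConj.symm, IsConj.symm⟩
      have h0 : (Nat.card {x : G // IsConj n₀ x} : ℂ) ≠ 0 := by
        exact_mod_cast Cfsg.Agent.Char.card_conjClass_ne_zero n₀
      rw [hcard]
      split_ifs
      · field_simp
      · simp
  exact_mod_cast h

end Cfsg.Agent.S0860
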