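import Cfsg.Statements.S0868
import Cfsg.Agent.Lib.Char.Gallagher

set_option autoImplicit false
open scoped ComplexConjugate
open Cfsg

namespace Cfsg.Agent.S0868

/-- Let N be a normal subgroup of the finite group G, χ an irreducible character of G whose restriction ϑ to N is irreducible, and ψ an irreducible character of G. Define η on G by η g = (1 / order of N) * Σ over n in N of ψ (n * g) * conj (χ (n * g)). Then: if the restriction of ψ to N has nonzero inner product with ϑ, η is an irreducible character of G; if that inner product is zero, η vanishes identically; and if ψ = χ then η is identically 1. -/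
theorem result {G : Type*} [Group G] [Fintype G] (N : Subgroup G) [N.Normal] [Fintype N] (χ : G → ℂ) (hχ : Cfsg.IsIrrCharacter G χ) (hχN : Cfsg.IsIrrCharacter N (fun n : N => χ n)) (ψ : G → ℂ) (hψ : Cfsg.IsIrrCharacter G ψ) (η : G → ℂ) (hη : η = fun g => (Nat.card N : ℂ)⁻¹ * ∑ n : N, ψ ((n : G) * g) * conj (χ ((n : G) * g))) : (Cfsg.classInner (fun n : N => ψ n) (fun n : N => χ n) ≠ 0 → Cfsg.IsIrrCharacter G η) ∧ (Cfsg.classInner (fun n : N => ψ n) (fun n : N => χ n) = 0 → η = 0) ∧ (ψ = χ → η = fun _ => 1) := by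
  classical
  have hχc := Cfsg.Agent.Char.irr_isCharacter hχ
  have hψc := Cfsg.Agent.Char.irr_isCharacter hψ
  set ϑ : N → ℂ := fun n : N => χ n with hϑdef
  have hϑinv : ∀ (g : G) (n : N), ϑ (MulAut.conjNormal g n) = ϑ n := fun g n => by
    simp only [hϑdef, MulAut.conjNormal_apply]
    exact Cfsg.Agent.Char.isClassFunction_character hχc _ _
  have hone : ((fun _ => 1) * ϑ : N → ℂ) = ϑ := funext fun n => one_mul _
  have hbij := Cfsg.Agent.Char.gallagher N (fun _ => 1) ϑ Cfsg.Agent.Char.isIrrCharacter_one (fun _ _ => rfl)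
    hϑinv (by rw [hone]; exact hχN) hχc (fun _ => rfl)
  rw [hone] at hbij
  set a : G → ℂ := fun g => ψ g * conj (χ g) with ha
  have hη' : η = Cfsg.Agent.Char.cosetAvg N a := hη
  have hac : Cfsg.IsClassFunction G a := fun g k => by
    simp only [ha, Cfsg.Agent.Char.isClassFunction_character hψc g k,
      Cfsg.Agent.Char.isClassFunction_character hχc g k]
  have hin : ∀ β : G → ℂ, Cfsg.IsIrrCharacter G β → (∀ n : N, β n = β 1) →
      Cfsg.classInner η β = Cfsg.classInner ψ (β * χ) := fun β hβ hβN => by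
    rw [hη', Cfsg.Agent.Char.classInner_cosetAvg N a β (Cfsg.Agent.Char.trivial_mul N hβ hβN)]
    simp only [Cfsg.classInner, ha, Pi.mul_apply, map_mul]
    congr 1
    exact Finset.sum_congr rfl fun g _ => by ring
  have hηc : Cfsg.IsClassFunction G η := hη' ▸ Cfsg.Agent.Char.cosetAvg_class N hac
  have hηN : ∀ (n : N) (g : G), η ((n : G) * g) = η g := hη' ▸ Cfsg.Agent.Char.cosetAvg_mul N a
  have hdom : ∀ β : G → ℂ, Cfsg.IsIrrCharacter G β → (∀ n : N, β n = β 1) →
      β ∈ {β : G → ℂ | Cfsg.IsIrrCharacter G β ∧ Cfsg.classInner (Cfsg.indFun N fun _ => 1) β ≠ 0} :=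
    fun β hβ hβN => ⟨hβ, (Cfsg.Agent.Char.constituent_indFun_one_iff N hβ).2 hβN⟩
  have hres : Cfsg.classInner (Cfsg.indFun N ϑ) ψ =
      conj (Cfsg.classInner (fun n : N => ψ n) ϑ) := by
    rw [Cfsg.Agent.Char.frobenius N ϑ (Cfsg.Agent.Char.isClassFunction_character hψc),
      Cfsg.Agent.Char.classInner_symm]
  have hcase : Cfsg.classInner (fun n : N => ψ n) ϑ ≠ 0 → ∃ β : G → ℂ, Cfsg.IsIrrCharacter G β ∧
      (∀ n : N, β n = β 1) ∧ ψ = β * χ ∧ η = β := by
    intro hne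
    obtain ⟨β, ⟨hβ, hβ1⟩, hβψ⟩ := hbij.2.2 ⟨hψ, by
      rw [hres]
      exact fun h0 => hne (by simpa using congrArg conj h0)⟩
    have hβN := (Cfsg.Agent.Char.constituent_indFun_one_iff N hβ).1 hβ1
    refine ⟨β, hβ, hβN, hβψ.symm, ?_⟩
    refine Cfsg.Agent.Char.coset_ext N hηc (Cfsg.Agent.Char.isClassFunction_character
      (Cfsg.Agent.Char.irr_isCharacter hβ)) hηN (Cfsg.Agent.Char.trivial_mul N hβ hβN) fun γ hγ hγN => ?_
    rw [hin γ hγ hγN, ← show β * χ = ψ from hβψ]
    have h1 := hbij.1 (hdom γ hγ hγN)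
    have h2 := hbij.1 (hdom β hβ hβN)
    have e1 := Cfsg.Agent.Char.irrC_orth ⟨_, h2.1⟩ ⟨_, h1.1⟩
    have e2 := Cfsg.Agent.Char.irrC_orth (⟨β, hβ⟩ : Cfsg.IrrCharacter G) ⟨γ, hγ⟩
    refine e1.trans (Eq.trans ?_ e2.symm)
    by_cases hbg : β = γ
    · subst hbg
      simp
    · rw [if_neg, if_neg]
      · exact fun h => hbg (congrArg Subtype.val h)
      · exact fun h => hbg (hbij.2.1 (hdom β hβ hβN) (hdom γ hγ hγN) (congrArg Subtype.val h))
  refine ⟨fun hne => ?_, fun h0 => ?_, fun heq => ?_⟩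
  · obtain ⟨β, hβ, -, -, he⟩ := hcase hne
    rw [he]; exact hβ
  · refine Cfsg.Agent.Char.coset_ext N hηc (fun _ _ => rfl) hηN (fun _ _ => rfl) fun γ hγ hγN => ?_
    rw [hin γ hγ hγN, Cfsg.Agent.Char.classInner_zero_left]
    have h1 := (hbij.1 (hdom γ hγ hγN))
    have e := Cfsg.Agent.Char.irrC_orth ⟨ψ, hψ⟩ ⟨_, h1.1⟩
    refine e.trans (if_neg fun h => h1.2 ?_)
    show classInner (indFun N ϑ) (γ * χ) = 0
    rw [show γ * χ = ψ from (congrArg Subtype.val h).symm, hres, h0, map_zero]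
  · obtain ⟨β, hβ, hβN, hβψ, he⟩ := hcase (by
      rw [heq, show (fun n : N => χ n) = ϑ from rfl, Cfsg.Agent.Char.irr_self hχN]
      exact one_ne_zero)
    rw [he]
    refine hbij.2.1 (hdom β hβ hβN) (hdom _ Cfsg.Agent.Char.isIrrCharacter_one fun _ => rfl) ?_
    show β * χ = (fun _ => 1) * χ
    rw [← hβψ, heq]
    exact (one_mul χ).symm

end Cfsg.Agent.S0868
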