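import Cfsg.Statements.S0869
import Mathlib


set_option autoImplicit false
open Cfsg
open scoped ComplexConjugate

namespace Cfsg.Agent.S0869

/-- Let S be a nonempty finite type and R an additive subgroup of the integer-valued functions on S that is closed under pointwise multiplication. If the constant function 1 is not in R, then there exist a point x of S and a prime p such that p divides f x for every f in R. -/
theorem result {S : Type*} [Finite S] [Nonempty S] (R : AddSubgroup (S → ℤ)) (hmul : ∀ f ∈ R, ∀ g ∈ R, f * g ∈ R) (h1 : (1 : S → ℤ) ∉ R) : ∃ (x : S) (p : ℕ), p.Prime ∧ ∀ f ∈ R, (p : ℤ) ∣ f x := by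
  classical
  haveI := Fintype.ofFinite S
  by_contra hcon
  push_neg at hcon
  have h : ∀ x : S, ∃ f ∈ R, f x = 1 := by
    intro x
    let I : AddSubgroup ℤ := R.map (Pi.evalAddMonoidHom (fun _ : S => ℤ) x)
    obtain ⟨d, hd⟩ := Int.subgroup_cyclic I
    have hmem : ∀ f ∈ R, d ∣ f x := by
      intro f hf
      have : f x ∈ I := ⟨f, hf, rfl⟩
      rw [hd, AddSubgroup.mem_closure_singleton] at this
      obtain ⟨n, hn⟩ := this
      exact ⟨n, by rw [← hn, smul_eq_mul, mul_comm]⟩
    by_cases hd1 : d.natAbs = 1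
    · have : (1 : ℤ) ∈ I := by
        rw [hd, AddSubgroup.mem_closure_singleton]
        rcases Int.natAbs_eq d with h | h <;> rw [hd1] at h
        · exact ⟨1, by simp [h]⟩
        · exact ⟨-1, by simp [h]⟩
      obtain ⟨f, hf, hfx⟩ := this
      exact ⟨f, hf, hfx⟩
    · obtain ⟨p, hp, hpd⟩ := Nat.exists_prime_and_dvd hd1
      obtain ⟨f, hf, hnd⟩ := hcon x p hp
      exact absurd ((Int.natCast_dvd.2 hpd).trans (hmem f hf)) hnd
  choose f hf hfx using h
  have key : ∀ s : Finset S, ∃ r ∈ R, (∏ x ∈ s, (1 - f x)) = 1 - r := by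
    intro s
    induction s using Finset.induction with
    | empty => exact ⟨0, R.zero_mem, by simp⟩
    | @insert a s ha ih =>
      obtain ⟨r, hr, e⟩ := ih
      refine ⟨f a + r - f a * r, R.sub_mem (R.add_mem (hf a) hr) (hmul _ (hf a) _ hr), ?_⟩
      rw [Finset.prod_insert ha, e]; ring
  obtain ⟨r, hr, e⟩ := key Finset.univ
  apply h1
  have hz : (∏ x : S, (1 - f x)) = 0 := by
    funext y
    rw [Finset.prod_apply]
    exact Finset.prod_eq_zero (Finset.mem_univ y) (by simp [hfx])
  rw [hz] at e
  rwa [sub_eq_zero.1 e.symm]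

end Cfsg.Agent.S0869
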