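import Cfsg.Statements.S0873
import Cfsg.Agent.Lib.Char.Central
import Cfsg.Agent.Lib.Solv.Coprime

set_option autoImplicit false
open Cfsg
open scoped ComplexConjugate

namespace Cfsg.Agent.S0873

/-- Let C be a normal subgroup of the finite group G of order prime to p and P a p-subgroup with C ⊔ P = G. Let λ be a character of C of degree 1 invariant under conjugation by G and equal to 1 at every element of C centralized by P. Then λ is identically 1. -/
theorem result {G : Type*} [Group G] [Finite G] (p : ℕ) [Fact p.Prime] (C P : Subgroup G) [hC : C.Normal] (hP : IsPGroup p P) (hcop : Nat.Coprime (Nat.card C) p) (hCP : C ⊔ P = ⊤) (lam : C → ℂ) (hlam : Cfsg.IsCharacter C lam ∧ lam 1 = 1) (hinv : ∀ (g : G) (c : C), lam ⟨g * c * g⁻¹, hC.conj_mem (c : G) c.2 g⟩ = lam c) (hker : ∀ c : C, (c : G) ∈ Subgroup.centralizer (P : Set G) → lam c = 1) : lam = fun _ => 1 := by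
  classical
  obtain ⟨l, rfl⟩ := Cfsg.Agent.Char.exists_hom_of_degree_one hlam.1 hlam.2
  have hl : ∀ (g : G) (c : C), l ⟨g * c * g⁻¹, hC.conj_mem (c : G) c.2 g⟩ = l c :=
    fun g c => Units.ext (hinv g c)
  let D : Subgroup G := l.ker.map C.subtype
  have hDC : D ≤ C := Subgroup.map_subtype_le _
  have hDn : D.Normal := ⟨fun x hx g => by
    obtain ⟨c, hc, rfl⟩ := hx
    exact ⟨⟨g * c * g⁻¹, hC.conj_mem (c : G) c.2 g⟩, (hl g c).trans hc, rfl⟩⟩
  have hn : ∀ H : Subgroup G, H.Normal → P ≤ Subgroup.normalizer (H : Set G) := fun H hH => by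
    rw [Subgroup.normalizer_eq_top]; exact le_top
  funext c
  obtain ⟨d, hd, hdD⟩ := Cfsg.Agent.Solv.exists_fixed_in_coset' P C D (hn C hC)
    (by obtain ⟨k, hk⟩ := IsPGroup.iff_card.1 hP
        rw [hk]; exact Nat.Coprime.pow_left _ hcop.symm)
    (Or.inl (by haveI := hP.isNilpotent; infer_instance)) hDC (hn D hDn) c.2 (fun a _ => by
      refine ⟨c⁻¹ * ⟨a * c * a⁻¹, hC.conj_mem (c : G) c.2 a⟩, ?_, by simp⟩
      show l _ = 1
      rw [map_mul, hl a c, ← map_mul, inv_mul_cancel, map_one])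
  obtain ⟨e, he, hee⟩ := hdD
  have h1 := hker ⟨d, hd.1⟩ hd.2
  have h2 : l c⁻¹ * l ⟨d, hd.1⟩ = 1 := by
    rw [← map_mul, show c⁻¹ * ⟨d, hd.1⟩ = e from Subtype.ext hee.symm]
    exact he
  rw [Units.ext (h1.trans (Units.val_one).symm : ((l ⟨d, hd.1⟩ : ℂˣ) : ℂ) = ((1 : ℂˣ) : ℂ)),
    mul_one, map_inv, inv_eq_one] at h2
  simp [h2]

end Cfsg.Agent.S0873
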