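import Cfsg.Statements.S0875
import Cfsg.Agent.Lib.Char.BrauerChar

set_option autoImplicit false
open Cfsg
open scoped ComplexConjugate

namespace Cfsg.Agent.S0875

/-- Let G be a finite group of order m * n with m and n coprime, and g an element whose order is coprime to m. Every x in G factors uniquely as x = u * v with u, v commuting, the order of u coprime to n and the order of v coprime to m; let ϑ be the function on G equal to n at those x whose factor v is conjugate to g and equal to 0 elsewhere. Then ϑ is a linear combination of the irreducible characters of G with algebraic-integer coefficients. -/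
theorem result {G : Type*} [Group G] [Fintype G] (m n : ℕ) (hmn : Nat.card G = m * n) (hcop : Nat.Coprime m n) (g : G) (hg : Nat.Coprime (orderOf g) m) (ϑ : G → ℂ) (hϑ1 : ∀ x : G, (∃ v : G, IsConj v g ∧ (∃ u : G, x = u * v ∧ Commute u v ∧ Nat.Coprime (orderOf u) n ∧ Nat.Coprime (orderOf v) m)) → ϑ x = n) (hϑ0 : ∀ x : G, (¬ ∃ v : G, IsConj v g ∧ (∃ u : G, x = u * v ∧ Commute u v ∧ Nat.Coprime (orderOf u) n ∧ Nat.Coprime (orderOf v) m)) → ϑ x = 0) : ∃ c : Cfsg.IrrCharacter G → ℂ, (∀ χ, c χ ∈ Cfsg.AlgInt) ∧ ϑ = ∑ᶠ χ : Cfsg.IrrCharacter G, c χ • (χ : G → ℂ) := by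
  classical
  have hn0 : m * n ≠ 0 := hmn ▸ Nat.card_pos.ne'
  obtain ⟨e, hem, hen⟩ := Nat.chineseRemainder hcop 0 1
  have hme : m ∣ e := Nat.modEq_zero_iff_dvd.mp hem
  have hpow : ∀ x : G, x ^ (m * n) = 1 := fun x => by rw [← hmn]; exact pow_card_eq_one'
  have hord : ∀ x : G, Nat.Coprime (orderOf x) n → orderOf x ∣ m := fun x hx =>
    hx.dvd_of_dvd_mul_right (hmn ▸ orderOf_dvd_natCard x)
  have hord' : ∀ x : G, Nat.Coprime (orderOf x) m → orderOf x ∣ n := fun x hx =>
    hx.dvd_of_dvd_mul_left (hmn ▸ orderOf_dvd_natCard x)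
  have hiff : ∀ x : G, (∃ v : G, IsConj v g ∧ (∃ u : G, x = u * v ∧ Commute u v ∧
      Nat.Coprime (orderOf u) n ∧ Nat.Coprime (orderOf v) m)) ↔ IsConj (x ^ e) g := by
    intro x
    constructor
    · rintro ⟨v, hv, u, rfl, hc, hu, hv'⟩
      have hu1 : u ^ e = 1 := orderOf_dvd_iff_pow_eq_one.mp ((hord u hu).trans hme)
      have hv1 : v ^ e = v := by
        conv_rhs => rw [← pow_one v]
        exact pow_eq_pow_iff_modEq.mpr (hen.of_dvd (hord' v hv'))
      rwa [hc.mul_pow, hu1, hv1, one_mul]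
    · intro h
      have hv : (x ^ e) ^ n = 1 := by
        obtain ⟨c, rfl⟩ := hme
        rw [← pow_mul, mul_right_comm, pow_mul, hpow, one_pow]
      have hu : (x * (x ^ e)⁻¹) ^ m = 1 := by
        rw [((Commute.refl x).pow_right e).inv_right.mul_pow, inv_pow, mul_inv_eq_one, ← pow_mul]
        have hmm : e * m ≡ 1 * m [MOD n * m] := Nat.ModEq.mul_right' m hen
        rw [one_mul, mul_comm n m] at hmm
        exact pow_eq_pow_iff_modEq.mpr
          ((Nat.ModEq.symm hmm).of_dvd (orderOf_dvd_of_pow_eq_one (hpow x)))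
      exact ⟨x ^ e, h, x * (x ^ e)⁻¹, by group, ((Commute.refl x).pow_right e).mul_left
        (Commute.refl (x ^ e)).inv_left, (hcop.coprime_dvd_left (orderOf_dvd_of_pow_eq_one hu)),
        (hcop.symm.coprime_dvd_left (orderOf_dvd_of_pow_eq_one hv))⟩
  set a : G → ℂ := fun x => if IsConj (x ^ e) g then (n : ℂ) else 0 with ha
  have hθ : ϑ = a := by
    funext x
    by_cases h : IsConj (x ^ e) g
    · rw [hϑ1 x ((hiff x).mpr h), ha]; exact (if_pos h).symm
    · rw [hϑ0 x (fun h' => h ((hiff x).mp h')), ha]; exact (if_neg h).symm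
  have hac : Cfsg.IsClassFunction G a := fun x k => by
    simp only [ha, conj_pow]
    exact if_congr ⟨fun h => (isConj_iff.mpr ⟨k, rfl⟩ : IsConj (x ^ e) (k * x ^ e * k⁻¹)).trans h,
      fun h => (isConj_iff.mpr ⟨k, rfl⟩ : IsConj (x ^ e) (k * x ^ e * k⁻¹)).symm.trans h⟩ rfl rfl
  refine ⟨fun χ => Cfsg.classInner ϑ (χ : G → ℂ), fun χ => ?_, ?_⟩
  · show IsIntegral ℤ _
    refine Cfsg.Agent.Char.isIntegral_of_forall_memLR fun M hM => ?_
    obtain ⟨ℓ, hℓ⟩ := Cfsg.Agent.Char.exists_prime_of_maximal hM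
    have hP := Cfsg.Agent.Char.pmod_prime hℓ
    suffices h : Cfsg.Agent.Char.IntComb M a by rw [hθ]; exact h.2 χ
    by_cases hln : ℓ ∣ n
    · refine Cfsg.Agent.Char.intComb_of_dvd hℓ hac fun x => ?_
      have hm : ¬ ℓ ∣ m := fun h =>
        hℓ.1.ne_one (Nat.eq_one_of_dvd_coprimes hcop h hln)
      have hd : ℓ ^ (Nat.card G).factorization ℓ ∣ n :=
        (Nat.Coprime.pow_left _ (hℓ.1.coprime_iff_not_dvd.mpr hm)).dvd_of_dvd_mul_left
          (hmn ▸ Nat.ordProj_dvd _ _)
      obtain ⟨c, hc⟩ := hd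
      refine ⟨if IsConj (x ^ e) g then (c : ℂ) else 0, ?_, ?_⟩
      · split_ifs
        exacts [Cfsg.Agent.Char.memLR_natCast hP _, Cfsg.Agent.Char.memLR_zero hP]
      · simp only [ha]
        split_ifs
        · rw [hc]; push_cast; ring
        · simp
    · have h := Cfsg.Agent.Char.intComb_preg hℓ hac (fun x => by
        simp only [ha]
        split_ifs
        exacts [Cfsg.Agent.Char.memLR_natCast hP _, Cfsg.Agent.Char.memLR_zero hP])
      have e1 : (fun x => a (Cfsg.Agent.Char.preg ℓ x)) = a := by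
        funext x
        obtain ⟨hx, -, hc⟩ := Cfsg.Agent.Char.preg_spec hℓ.1 x
        obtain ⟨y, -, -, ⟨k, hk⟩, -⟩ := hx
        have h1 : orderOf (x * (Cfsg.Agent.Char.preg ℓ x)⁻¹) ∣ e := by
          refine (hord _ ?_).trans hme
          rw [hk]
          exact Nat.Coprime.pow_left _ (hℓ.1.coprime_iff_not_dvd.mpr hln)
        have h2 := orderOf_dvd_iff_pow_eq_one.mp h1
        rw [hc.symm.inv_right.mul_pow, inv_pow, mul_inv_eq_one] at h2
        simp only [ha, h2]
      rwa [e1] at h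
  · rw [Cfsg.Agent.Char.finsum_irr]
    exact Cfsg.Agent.Char.classFun_expansion (hθ ▸ hac)

end Cfsg.Agent.S0875
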