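import Cfsg.Statements.S0876
import Cfsg.Agent.Lib.Char.BrauerChar
import Cfsg.Agent.Lib.Char.Congr

set_option autoImplicit false
open Cfsg
open scoped ComplexConjugate

namespace Cfsg.Agent.S0876

/-- Let G be a finite group, p a prime and M a maximal ideal of the ring of algebraic integers containing p. Let x, y be elements with p-parts a and b (so a⁻¹ * x and b⁻¹ * y are their p-regular parts). Then a⁻¹ * x and b⁻¹ * y are conjugate in G if and only if, for every irreducible character χ, the difference χ x - χ y lies in the local ideal at M. -/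
theorem result {G : Type*} [Group G] [Finite G] (p : ℕ) (M : Ideal Cfsg.AlgInt) (hM : Cfsg.IsPModular p M) (x y a b : G) (ha : Cfsg.IsPPart p x a) (hb : Cfsg.IsPPart p y b) : IsConj (a⁻¹ * x) (b⁻¹ * y) ↔ ∀ χ : Cfsg.IrrCharacter G, Cfsg.MemLocalIdeal M ((χ : G → ℂ) x - (χ : G → ℂ) y) := by
  classical
  have := Fintype.ofFinite G
  have hp := hM.1
  have hP := Cfsg.Agent.Char.pmod_prime hM
  rw [← Cfsg.Agent.Char.preg_eq hp ha, ← Cfsg.Agent.Char.preg_eq hp hb]
  constructor
  · intro h χ
    obtain ⟨c, hc⟩ := isConj_iff.mp h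
    have h1 := Cfsg.Agent.Char.char_congr_preg hM (Cfsg.Agent.Char.irr_isCharacter χ.2) x
    have h2 := Cfsg.Agent.Char.char_congr_preg hM (Cfsg.Agent.Char.irr_isCharacter χ.2) y
    rw [← hc, Cfsg.Agent.Char.isClassFunction_character (Cfsg.Agent.Char.irr_isCharacter χ.2)] at h2
    exact Cfsg.Agent.Char.memLI_trans hP h1 (Cfsg.Agent.Char.memLI_symm hP h2)
  · intro h
    by_contra hn
    set s := Cfsg.Agent.Char.preg p x with hs
    have hI := Cfsg.Agent.Char.intComb_secInd (G := G) hM (s := s)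
      (Cfsg.Agent.Char.preg_spec hp x).2.1
    have hd : Cfsg.MemLocalIdeal M (Cfsg.Agent.Char.secInd p s x -
        Cfsg.Agent.Char.secInd p s y) := by
      rw [Cfsg.Agent.Char.classFun_expansion hI.1, Finset.sum_apply, Finset.sum_apply,
        ← Finset.sum_sub_distrib]
      refine Cfsg.Agent.Char.memLI_sum hP _ _ fun χ _ => ?_
      rw [Pi.smul_apply, Pi.smul_apply, smul_eq_mul, smul_eq_mul, ← mul_sub]
      exact Cfsg.Agent.Char.memLI_mul_left hP (hI.2 χ) (h χ)
    rw [Cfsg.Agent.Char.secInd, Cfsg.Agent.Char.secInd, if_pos (IsConj.refl _), if_neg hn,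
      sub_zero] at hd
    exact Cfsg.Agent.Char.memLI_one_iff hP hd

end Cfsg.Agent.S0876
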