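import Cfsg.Statements.S0879
import Mathlib

set_option autoImplicit false
open Cfsg

namespace Cfsg.Agent.S0879

/-- Let G be a Zassenhaus group on the finite set Ω and E the stabilizer of two distinct points a, b. Then an element outside the normalizer of E conjugates no non-identity element of E into E, and E has index 2 in its normalizer. -/
theorem result {G Ω : Type*} [Group G] [Finite G] [MulAction G Ω] [Fintype Ω] (hZ : Cfsg.IsZassenhausGroup G Ω) {a b : Ω} (hab : a ≠ b) : (∀ g : G, g ∉ Subgroup.normalizer ((MulAction.stabilizer G a ⊓ MulAction.stabilizer G b : Subgroup G) : Set G) → ∀ x ∈ (MulAction.stabilizer G a ⊓ MulAction.stabilizer G b : Subgroup G), g * x * g⁻¹ ∈ (MulAction.stabilizer G a ⊓ MulAction.stabilizer G b : Subgroup G) → x = 1) ∧ ((MulAction.stabilizer G a ⊓ MulAction.stabilizer G b : Subgroup G).subgroupOf (Subgroup.normalizer ((MulAction.stabilizer G a ⊓ MulAction.stabilizer G b : Subgroup G) : Set G))).index = 2 := by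
  classical
  obtain ⟨hf, h2, h3, hex, -⟩ := hZ
  haveI := hf
  set D := (MulAction.stabilizer G a ⊓ MulAction.stabilizer G b : Subgroup G) with hD
  have memD : ∀ g : G, g ∈ D ↔ g • a = a ∧ g • b = b := fun g => by
    simp [hD, Subgroup.mem_inf, MulAction.mem_stabilizer_iff]
  have htr : ∀ x y x' y' : Ω, x ≠ y → x' ≠ y' → ∃ w : G, w • x = x' ∧ w • y = y' := fun x y x' y' h h' =>
    MulAction.is_two_pretransitive_iff.1 h2 h h'
  obtain ⟨d, hd, hd1⟩ : ∃ d ∈ D, d ≠ 1 := by
    obtain ⟨g, hg1, x, y, hxy, hgx, hgy⟩ := hex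
    obtain ⟨w, hwx, hwy⟩ := htr x y a b hxy hab
    refine ⟨w * g * w⁻¹, (memD _).2 ⟨?_, ?_⟩, by simpa using hg1⟩
    · rw [mul_smul, mul_smul, ← hwx, inv_smul_smul, hgx]
    · rw [mul_smul, mul_smul, ← hwy, inv_smul_smul, hgy]
  have hset : ∀ g : G, ∀ x ∈ D, x ≠ 1 → g * x * g⁻¹ ∈ D →
      (g • a = a ∧ g • b = b) ∨ (g • a = b ∧ g • b = a) := by
    intro g x hx hx1 hgx
    obtain ⟨e1, e2⟩ := (memD _).1 hgx
    have hne : g * x * g⁻¹ ≠ 1 := by simpa using hx1
    have fa : (g * x * g⁻¹) • (g • a) = g • a := by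
      rw [mul_smul, mul_smul, inv_smul_smul, ((memD x).1 hx).1]
    have fb : (g * x * g⁻¹) • (g • b) = g • b := by
      rw [mul_smul, mul_smul, inv_smul_smul, ((memD x).1 hx).2]
    have key : ∀ c : Ω, (g * x * g⁻¹) • c = c → c = a ∨ c = b := by
      intro c hc
      by_contra h
      simp only [not_or] at h
      exact hne (h3 _ a b c hab (Ne.symm h.2) (Ne.symm h.1) e1 e2 hc)
    have hgab : g • a ≠ g • b := fun h => hab (MulAction.injective g h)
    rcases key _ fa with h | h <;> rcases key _ fb with h' | h'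
    · exact absurd (h.trans h'.symm) hgab
    · exact Or.inl ⟨h, h'⟩
    · exact Or.inr ⟨h, h'⟩
    · exact absurd (h.trans h'.symm) hgab
  have hnorm : ∀ g : G, (g • a = a ∧ g • b = b) ∨ (g • a = b ∧ g • b = a) →
      g ∈ Subgroup.normalizer (D : Set G) := by
    intro g hg
    refine Subgroup.mem_normalizer_fintype (fun x hx => ?_)
    obtain ⟨e1, e2⟩ := (memD x).1 hx
    rw [SetLike.mem_coe, memD]
    rcases hg with ⟨ha, hb⟩ | ⟨ha, hb⟩
    · exact ⟨by rw [mul_smul, mul_smul, inv_smul_eq_iff.2 ha.symm, e1, ha],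
        by rw [mul_smul, mul_smul, inv_smul_eq_iff.2 hb.symm, e2, hb]⟩
    · exact ⟨by rw [mul_smul, mul_smul, inv_smul_eq_iff.2 hb.symm, e2, hb],
        by rw [mul_smul, mul_smul, inv_smul_eq_iff.2 ha.symm, e1, ha]⟩
  refine ⟨fun g hg x hx hgx => ?_, ?_⟩
  · by_contra hx1
    exact hg (hnorm g (hset g x hx hx1 hgx))
  · obtain ⟨t, hta, htb⟩ := htr a b b a hab hab.symm
    rw [Subgroup.index_eq_two_iff]
    refine ⟨⟨t, hnorm t (Or.inr ⟨hta, htb⟩)⟩, fun n => ?_⟩
    have hn := hset n d hd hd1 ((Subgroup.mem_normalizer_iff.1 n.2 d).1 hd)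
    simp only [Subgroup.mem_subgroupOf, Subgroup.coe_mul, memD, mul_smul, hta, htb]
    rcases hn with ⟨ha, hb⟩ | ⟨ha, hb⟩
    · exact Or.inr ⟨⟨ha, hb⟩, fun h => hab (ha.symm.trans h.2)⟩
    · exact Or.inl ⟨⟨hb, ha⟩, fun h => hab (h.1.symm.trans ha)⟩

end Cfsg.Agent.S0879
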