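import Cfsg.Statements.S0880
import Mathlib
import Cfsg.Agent.Lib.Lie.ZassenhausCount
-- import your own Cfsg.Agent.* helpers here

set_option autoImplicit false
open Cfsg

namespace Cfsg.Agent.S0880

/-- Let G be a finite simple Zassenhaus group on Ω with n points whose two-point stabilizer E has odd order less than n - 2. Then there are two elements of G, each fixing no point of Ω, that are not conjugate. -/
theorem result {G Ω : Type*} [Group G] [Finite G] [MulAction G Ω] [Fintype Ω] (hZ : Cfsg.IsZassenhausGroup G Ω) {a b : Ω} (hab : a ≠ b) [IsSimpleGroup G] (hodd : Odd (Nat.card ↥(MulAction.stabilizer G a ⊓ MulAction.stabilizer G b : Subgroup G))) (hlt : Nat.card ↥(MulAction.stabilizer G a ⊓ MulAction.stabilizer G b : Subgroup G) < Fintype.card Ω - 2) : ∃ x y : G, (∀ c : Ω, x • c ≠ c) ∧ (∀ c : Ω, y • c ≠ c) ∧ ¬ IsConj x y := by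
  classical
  haveI : Fintype G := Fintype.ofFinite G
  obtain ⟨hF, h2, h3, hfix, -⟩ := hZ
  haveI := hF
  have hpos : 1 ≤ Fintype.card Ω := Fintype.card_pos_iff.2 ⟨a⟩
  obtain ⟨h, hh⟩ : ∃ h, Fintype.card Ω = h + 1 := ⟨Fintype.card Ω - 1, by omega⟩
  have C := Cfsg.Agent.Lie.ZassenhausCount.oddCtx h2 h3 hfix hab hh rfl hodd
  obtain ⟨-, -, hA⟩ := Cfsg.Agent.Lie.ZassenhausCount.card_nfix C
  have hG := Cfsg.Agent.Lie.ZassenhausCount.card_group C
  have htwo := C.two
  have hthree := C.ethree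
  have heodd := C.eodd
  revert hA hG hthree heodd
  generalize Nat.card ↥(MulAction.stabilizer G a ⊓ MulAction.stabilizer G b) = e
  intro hA hG hthree heodd
  obtain ⟨F, hFdef⟩ : ∃ F : Finset G, F = Finset.univ.filter fun g : G =>
      Cfsg.Agent.Lie.ZassenhausCount.nfix (Ω := Ω) g = 0 := ⟨_, rfl⟩
  have hmem : ∀ g : G, g ∈ F ↔ ∀ c : Ω, g • c ≠ c := fun g => by
    rw [hFdef, Finset.mem_filter, Cfsg.Agent.Lie.ZassenhausCount.nfix, Finset.card_eq_zero, Finset.filter_eq_empty_iff]
    simp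
  rw [← hFdef] at hA
  by_contra hno
  push Not at hno
  obtain ⟨x, hx⟩ : F.Nonempty := Finset.card_pos.1 (by omega)
  have hclass : F = Finset.univ.filter fun g : G => IsConj x g := by
    ext g
    rw [Finset.mem_filter, hmem]
    constructor
    · exact fun hg => ⟨Finset.mem_univ _, hno x g ((hmem x).1 hx) hg⟩
    · rintro ⟨-, hg⟩ c hc
      obtain ⟨k, rfl⟩ := isConj_iff.1 hg
      refine (hmem x).1 hx (k⁻¹ • c) ?_
      rw [mul_smul, mul_smul] at hc
      rw [eq_inv_smul_iff]
      exact hc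
  have hdvd : F.card ∣ Fintype.card G := by
    rw [hclass, ← Fintype.card_subtype, ← Nat.card_eq_fintype_card, ← Nat.card_eq_fintype_card]
    have : Nat.card {g : G // IsConj x g} = (MulAction.stabilizer (ConjAct G) x).index := by
      rw [MulAction.index_stabilizer]
      refine (Nat.card_congr (Equiv.subtypeEquivRight fun g => ?_)).trans (Nat.card_coe_set_eq _)
      rw [ConjAct.mem_orbit_conjAct, isConj_comm]
    rw [this]
    exact (Subgroup.index_dvd_card _).trans (by rw [Nat.card_congr ConjAct.toConjAct.toEquiv.symm])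
  obtain ⟨j, hj⟩ := hdvd
  obtain ⟨u, hu⟩ : ∃ u, e = u + 1 := ⟨e - 1, by omega⟩
  subst hu
  rw [Nat.add_sub_cancel] at hA
  obtain ⟨w, hw⟩ : Even u := by
    obtain ⟨k, hk⟩ := heodd
    exact ⟨k, by omega⟩
  rw [hG] at hj
  rcases j with _ | _ | _ | j
  · rw [mul_zero] at hj
    have : 0 < (h + 1) * h * (u + 1) := by positivity
    omega
  · nlinarith
  · nlinarith
  · have h1 : 3 * (2 * F.card) ≤ (j + 3) * (2 * F.card) := Nat.mul_le_mul_right _ (by omega)
    have h2 : 2 * ((h + 1) * h) ≤ u * ((h + 1) * h) := Nat.mul_le_mul_right _ (by omega)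
    nlinarith

end Cfsg.Agent.S0880
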