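import Cfsg.Statements.S0882
import Mathlib
import Cfsg.Agent.Lib.Lie.ZassenhausCount
-- import your own Cfsg.Agent.* helpers here

set_option autoImplicit false
open Cfsg

namespace Cfsg.Agent.S0882

/-- Let G be a finite simple Zassenhaus group on Ω with n = h + 1 points whose two-point stabilizer E has odd order e with 2e < h - 1. Then any two involutions of G are conjugate, and the number of involutions is e * (h + 1) if h is even and e * h if h is odd. -/
theorem result {G Ω : Type*} [Group G] [Finite G] [MulAction G Ω] [Fintype Ω] (hZ : Cfsg.IsZassenhausGroup G Ω) {a b : Ω} (hab : a ≠ b) [IsSimpleGroup G] (h e : ℕ) (hh : Fintype.card Ω = h + 1) (he : Nat.card ↥(MulAction.stabilizer G a ⊓ MulAction.stabilizer G b : Subgroup G) = e) (hodd : Odd e) (hlt : 2 * e < h - 1) : (∀ x y : G, orderOf x = 2 → orderOf y = 2 → IsConj x y) ∧ Nat.card {x : G // orderOf x = 2} = (if Even h then e * (h + 1) else e * h) := by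
  classical
  haveI : Fintype G := Fintype.ofFinite G
  obtain ⟨hF, h2, h3, hfix, -⟩ := hZ
  haveI := hF
  have C := Cfsg.Agent.Lie.ZassenhausCount.oddCtx h2 h3 hfix hab hh he hodd
  have hio : ∀ x : G, orderOf x = 2 ↔ x ≠ 1 ∧ x * x = 1 := fun x => by
    rw [← sq]
    constructor
    · intro hx
      exact ⟨fun h1 => by rw [h1, orderOf_one] at hx; exact absurd hx (by norm_num), by rw [← hx, pow_orderOf_eq_one]⟩
    · exact fun hx => orderOf_eq_prime hx.2 hx.1
  refine ⟨fun x y hx hy => Cfsg.Agent.Lie.ZassenhausCount.invol_conj C ((hio x).1 hx).1 ((hio x).1 hx).2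
    ((hio y).1 hy).1 ((hio y).1 hy).2, ?_⟩
  rw [Nat.card_eq_fintype_card, Fintype.card_subtype,
    show (Finset.univ.filter fun x : G => orderOf x = 2) = Cfsg.Agent.Lie.ZassenhausCount.invols by
      ext x; simp [Cfsg.Agent.Lie.ZassenhausCount.invols, hio]]
  exact Cfsg.Agent.Lie.ZassenhausCount.card_invols C

end Cfsg.Agent.S0882
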