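import Cfsg.Statements.S0889
import Cfsg.Agent.Lib.Lead.BergerStep

set_option autoImplicit false
open Cfsg

namespace Cfsg.Agent.S0889

/-- Let G be a finite solvable group and χ an irreducible character of G such that for every normal subgroup N the restriction of χ to N is a natural-number multiple of one irreducible character of N. Then χ is not induced from a character of any proper subgroup. -/
theorem result {G : Type*} [Group G] [Fintype G] [Group.IsSolvable G] (χ : G → ℂ) (hχ : Cfsg.IsIrrCharacter G χ) (hqp : ∀ (N : Subgroup G), N.Normal → ∃ (ϑ : N → ℂ) (e : ℕ), Cfsg.IsIrrCharacter N ϑ ∧ (fun n : N => χ n) = (e : ℂ) • ϑ) (K : Subgroup G) (hK : K ≠ ⊤) (ψ : K → ℂ) (hψ : Cfsg.IsCharacter K ψ) : Cfsg.indFun K ψ ≠ χ := by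
  classical
  intro hind
  obtain ⟨n, ρ, hρ, rfl⟩ := hχ
  have := hρ
  haveI : Fintype K := Fintype.ofFinite K
  haveI : Nontrivial (Fin n → ℂ) := Module.nontrivial_of_finrank_pos (R := ℂ) (by
    rcases Nat.eq_zero_or_pos n with h | h
    · exact absurd (Cfsg.Agent.Char.irr_one_ne_zero (Cfsg.Agent.Char.isIrrCharacter_character ρ hρ))
        (by subst h; simp [Representation.char_one])
    · simpa using h)
  obtain ⟨m, τ, rfl⟩ := hψ
  have h1 := Cfsg.Agent.Char.irr_self (Cfsg.Agent.Char.isIrrCharacter_character ρ hρ)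
  nth_rewrite 1 [← hind] at h1
  rw [Cfsg.Agent.Char.frobenius K τ.character
    (Cfsg.Agent.Char.isClassFunction_character (Cfsg.Agent.Char.isCharacter_character ρ))] at h1
  have hne : Cfsg.classInner τ.character
      (Representation.character (ρ.comp K.subtype : Representation ℂ K (Fin n → ℂ))) ≠ 0 := by
    rw [show Representation.character (ρ.comp K.subtype : Representation ℂ K (Fin n → ℂ)) =
      fun k : K => ρ.character k from rfl, h1]
    exact one_ne_zero
  rw [← Cfsg.Agent.Char.classInner_symm, Cfsg.Agent.Char.classInner_rep, map_natCast,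
    Nat.cast_ne_zero] at hne
  haveI := Module.nontrivial_of_finrank_pos (R := ℂ) (Nat.pos_of_ne_zero hne)
  obtain ⟨f, hf0⟩ := exists_ne (0 : τ.IntertwiningMap (ρ.comp K.subtype))
  refine Cfsg.Agent.Lead.Berger.no_system (ρ := ρ) (fun N hN => ?_) hK
    (U := LinearMap.range f.toLinearMap) ?_
  · obtain ⟨ϑ, e, hϑ, he⟩ := hqp N hN
    exact Cfsg.Agent.Lead.Berger.homog_of_character N ϑ e hϑ he
  have hstab : ∀ h ∈ K, ∀ u ∈ LinearMap.range f.toLinearMap, ρ h u ∈ LinearMap.range f.toLinearMap := by
    rintro h hh _ ⟨v, rfl⟩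
    exact ⟨τ ⟨h, hh⟩ v, LinearMap.congr_fun (f.isIntertwining' ⟨h, hh⟩) v⟩
  have hspan : ⨆ g : G, (LinearMap.range f.toLinearMap).map (ρ g) = ⊤ := by
    let W : Subrepresentation ρ := ⟨⨆ g : G, (LinearMap.range f.toLinearMap).map (ρ g), fun a v hv => by
      have hle : (⨆ g : G, (LinearMap.range f.toLinearMap).map (ρ g)).map (ρ a) ≤
          ⨆ g : G, (LinearMap.range f.toLinearMap).map (ρ g) := by
        rw [Submodule.map_iSup]
        refine iSup_le fun g => le_iSup_of_le (a * g) ?_
        rw [← Submodule.map_comp, map_mul, Module.End.mul_eq_comp]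
      exact hle ⟨v, hv, rfl⟩⟩
    rcases eq_bot_or_eq_top W with h | h
    · exfalso
      refine hf0 (Representation.IntertwiningMap.ext ((LinearMap.range_eq_bot.mp (le_bot_iff.mp ?_)).trans rfl))
      rw [← show W.toSubmodule = ⊥ from congrArg Subrepresentation.toSubmodule h]
      refine le_iSup_of_le 1 ?_
      simp [Module.End.one_eq_id]
    · exact congrArg Subrepresentation.toSubmodule h
  refine ⟨hstab, hspan, le_antisymm (Cfsg.Agent.Lead.Berger.finrank_le_index_mul hstab hspan) ?_⟩
  have h2 := congrFun hind 1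
  rw [Cfsg.Agent.Char.indFun_one, Representation.char_one, Representation.char_one] at h2
  have h3 : K.index * Module.finrank ℂ (Fin m → ℂ) = Module.finrank ℂ (Fin n → ℂ) := by
    exact_mod_cast h2
  rw [← h3]
  exact Nat.mul_le_mul_left _ (LinearMap.finrank_range_le _)

end Cfsg.Agent.S0889
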