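import Cfsg.Statements.S0890
import Cfsg.Agent.Lib.Char.RestrictIrred
import Cfsg.Agent.Lib.Char.Clifford
import Cfsg.Agent.Lib.Char.BrauerConj
import Cfsg.Agent.Lib.Solv.MaxCentralizer
import Cfsg.Agent.S0887

set_option autoImplicit false
open Cfsg Cfsg.Agent.Char
set_option maxHeartbeats 1600000
open scoped ComplexConjugate

namespace Cfsg.Agent.S0890

/-- Let L ≤ H < G with L normal in G, H a maximal subgroup and G / L solvable. Let ϑ be an irreducible character of H whose restriction to L is irreducible and whose induction χ to G is irreducible. Then there is a normal subgroup M of G containing L such that the restriction of χ to M is not a natural-number multiple of a single irreducible character of M. -/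
theorem result {G : Type*} [Group G] [Fintype G] (L H : Subgroup G) [L.Normal] (hLH : L ≤ H) (hmax : IsCoatom H) (hsolv : Group.IsSolvable (G ⧸ L)) (ϑ : H → ℂ) (hϑ : Cfsg.IsIrrCharacter H ϑ) (hϑL : Cfsg.IsIrrCharacter L (fun x : L => ϑ ⟨(x : G), hLH x.2⟩)) (hind : Cfsg.IsIrrCharacter G (Cfsg.indFun H ϑ)) : ∃ M : Subgroup G, M.Normal ∧ L ≤ M ∧ ¬ ∃ (φ : M → ℂ) (e : ℕ), Cfsg.IsIrrCharacter M φ ∧ (fun m : M => Cfsg.indFun H ϑ m) = (e : ℂ) • φ := by
  classical
  haveI : ∀ S : Subgroup G, Fintype S := fun S => Fintype.ofFinite S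
  by_contra hno0
  have hno : ∀ N : Subgroup G, N.Normal → L ≤ N → ∃ (φ : N → ℂ) (e : ℕ), IsIrrCharacter N φ ∧
      (fun m : N => indFun H ϑ m) = (e : ℂ) • φ := fun N h1 h2 => by
    by_contra hc
    exact hno0 ⟨N, h1, h2, hc⟩
  set χ : G → ℂ := indFun H ϑ with hχdef
  have hχ : IsIrrCharacter G χ := hind
  have hχc : IsClassFunction G χ := isClassFunction_character (irr_isCharacter hχ)
  have hϑc : IsClassFunction H ϑ := isClassFunction_character (irr_isCharacter hϑ)
  -- the core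
  set C := H.normalCore with hC
  have hCH : C ≤ H := H.normalCore_le
  have hLC : L ≤ C := Subgroup.normal_le_normalCore.2 hLH
  have hCtop : C ≠ ⊤ := fun h => hmax.1 (top_unique (h.ge.trans hCH))
  let ψ₀ : C → ℂ := fun x => ϑ ⟨(x : G), hCH x.2⟩
  have hψ₀ : IsIrrCharacter C ψ₀ := isIrr_of_comp_irr (Subgroup.inclusion hLC)
    (isCharacter_comp (Subgroup.inclusion hCH) (irr_isCharacter hϑ)) hϑL
  set ψ : IrrCharacter C := ⟨ψ₀, hψ₀⟩ with hψdef
  have hsolvC : ∀ (W : Subgroup G) [W.Normal], L ≤ W → ∀ A : Subgroup G,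
      Group.IsSolvable (A.map (QuotientGroup.mk' W)) := by
    intro W _ hLW A
    haveI := hsolv
    haveI : Group.IsSolvable (G ⧸ W) := solvable_of_surjective (f := QuotientGroup.map L W (MonoidHom.id G) hLW)
      (fun z => by
        obtain ⟨g, rfl⟩ := QuotientGroup.mk_surjective z
        exact ⟨QuotientGroup.mk g, rfl⟩)
    exact solvable_of_solvable_injective (A.map (QuotientGroup.mk' W)).subtype_injective
  -- a chief factor above the core
  obtain ⟨Mn, hMn, hCM, -, hMne, hMmin⟩ :=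
    Cfsg.Agent.Solv.MaxCentralizer.exists_minimal_over C ⊤ le_top (fun h => hCtop h.symm)
  haveI := hMn
  obtain ⟨hMcomm, r, hr, hMexp⟩ :=
    Cfsg.Agent.Solv.MaxCentralizer.chief_exponent C Mn hCM hMne (hsolvC C hLC Mn) hMmin
  have hMH : ¬ Mn ≤ H := fun h => hMne (le_antisymm (Subgroup.normal_le_normalCore.2 h) hCM)
  have hHM : H ⊔ Mn = ⊤ := hmax.2 _ (lt_of_le_of_ne le_sup_left fun h => hMH (h ▸ le_sup_right))
  have hdecomp : ∀ g : G, ∃ m ∈ Mn, ∃ h ∈ H, m * h = g := fun g => by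
    have hg : g ∈ ((Mn ⊔ H : Subgroup G) : Set G) := by rw [sup_comm, hHM]; trivial
    rw [Subgroup.normal_mul] at hg
    exact hg
  have hinter : ∀ x, x ∈ H → x ∈ Mn → x ∈ C := by
    intro x hxH hxM
    let D : Subgroup G := H ⊓ Mn
    have hDn : D.Normal := ⟨fun d hd g => by
      obtain ⟨m, hm, h, hh, rfl⟩ := hdecomp g
      have e1 : m * h * d * (m * h)⁻¹ = m * (h * d * h⁻¹) * m⁻¹ := by group
      rw [e1]
      have hd1 : h * d * h⁻¹ ∈ D :=
        ⟨H.mul_mem (H.mul_mem hh hd.1) (H.inv_mem hh), hMn.conj_mem d hd.2 h⟩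
      have h2 := hMcomm m hm _ hd1.2
      have e2 : m * (h * d * h⁻¹) * m⁻¹ = m * (h * d * h⁻¹) * m⁻¹ * (h * d * h⁻¹)⁻¹ * (h * d * h⁻¹) := by group
      rw [e2]
      exact mul_mem (show _ ∈ D from ⟨hCH h2, hCM h2⟩) hd1⟩
    exact Subgroup.normal_le_normalCore.2 (show D ≤ H from inf_le_left) ⟨hxH, hxM⟩
  -- the value of the induced character
  set E : G → ℂ := extendByZero H ϑ with hE
  have hEH : ∀ h ∈ H, ∀ y, E (h⁻¹ * y * h) = E y := by
    intro h hh y
    by_cases hy : y ∈ H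
    · have hy' : h⁻¹ * y * h ∈ H := H.mul_mem (H.mul_mem (H.inv_mem hh) hy) hh
      rw [hE, extendByZero_mem H ϑ hy', extendByZero_mem H ϑ hy]
      have := hϑc ⟨y, hy⟩ ⟨h⁻¹, H.inv_mem hh⟩
      rw [← this]
      congr 1
      exact Subtype.ext (by simp)
    · have hy' : h⁻¹ * y * h ∉ H := fun h' => hy (by
        have := H.mul_mem (H.mul_mem hh h') (H.inv_mem hh)
        rwa [show h * (h⁻¹ * y * h) * h⁻¹ = y by group] at this)
      rw [hE, extendByZero_not_mem H ϑ hy', extendByZero_not_mem H ϑ hy]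
  have hCc : (Nat.card C : ℂ) ≠ 0 := Nat.cast_ne_zero.2 Nat.card_pos.ne'
  have hMc : (Nat.card Mn : ℂ) ≠ 0 := Nat.cast_ne_zero.2 Nat.card_pos.ne'
  have hformula : ∀ x : G, χ x = (Nat.card C : ℂ)⁻¹ * ∑ m : Mn, E ((m : G)⁻¹ * x * m) := by
    intro x
    have hfib : ∀ g : G, Nat.card {z : Mn × H // (z.1 : G) * z.2 = g} = Nat.card C := by
      intro g
      obtain ⟨m, hm, h, hh, rfl⟩ := hdecomp g
      refine Nat.card_congr
        { toFun := fun z => ⟨m⁻¹ * (z.1.1 : G), hinter _ (by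
            have e : m⁻¹ * (z.1.1 : G) = h * (z.1.2 : G)⁻¹ := by
              have h1 := z.2
              calc m⁻¹ * (z.1.1 : G) = m⁻¹ * ((z.1.1 : G) * z.1.2) * (z.1.2 : G)⁻¹ := by group
                _ = _ := by rw [h1]; group
            rw [e]; exact mul_mem hh (inv_mem z.1.2.2)) (mul_mem (inv_mem hm) z.1.1.2)⟩
          invFun := fun c => ⟨(⟨m * c, mul_mem hm (hCM c.2)⟩,
            ⟨(c : G)⁻¹ * h, mul_mem (inv_mem (hCH c.2)) hh⟩), by simp [mul_assoc]⟩
          left_inv := fun z => by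
            refine Subtype.ext (Prod.ext (Subtype.ext (by simp)) (Subtype.ext ?_))
            show (m⁻¹ * (z.1.1 : G))⁻¹ * h = (z.1.2 : G)
            calc (m⁻¹ * (z.1.1 : G))⁻¹ * h = (z.1.1 : G)⁻¹ * (m * h) := by group
              _ = (z.1.1 : G)⁻¹ * ((z.1.1 : G) * z.1.2) := congrArg _ z.2.symm
              _ = _ := by group
          right_inv := fun c => Subtype.ext (by simp) }
    have h1 : ∑ z : Mn × H, E (((z.1 : G) * z.2)⁻¹ * x * ((z.1 : G) * z.2)) =
        (Nat.card C : ℂ) * ∑ g : G, E (g⁻¹ * x * g) := by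
      rw [← Finset.sum_fiberwise Finset.univ (fun z : Mn × H => (z.1 : G) * z.2), Finset.mul_sum]
      refine Finset.sum_congr rfl fun g _ => ?_
      rw [Finset.sum_congr rfl (g := fun _ => E (g⁻¹ * x * g)) (fun z hz => by
        rw [(Finset.mem_filter.1 hz).2]), Finset.sum_const, nsmul_eq_mul, ← Fintype.card_subtype,
        ← Nat.card_eq_fintype_card, hfib g]
    have h2 : ∑ z : Mn × H, E (((z.1 : G) * z.2)⁻¹ * x * ((z.1 : G) * z.2)) =
        (Nat.card H : ℂ) * ∑ m : Mn, E ((m : G)⁻¹ * x * m) := by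
      rw [Fintype.sum_prod_type, Finset.mul_sum]
      refine Finset.sum_congr rfl fun m _ => ?_
      rw [Finset.sum_congr rfl (g := fun _ => E ((m : G)⁻¹ * x * m)) (fun h _ => by
        rw [show ((m : G) * h)⁻¹ * x * ((m : G) * h) = (h : G)⁻¹ * ((m : G)⁻¹ * x * m) * h by group,
          hEH _ h.2]), Finset.sum_const, nsmul_eq_mul, Finset.card_univ, ← Nat.card_eq_fintype_card]
    have hHc : (Nat.card H : ℂ) ≠ 0 := Nat.cast_ne_zero.2 Nat.card_pos.ne'
    rw [hχdef]
    show (Nat.card H : ℂ)⁻¹ * ∑ g : G, E (g⁻¹ * x * g) = _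
    have h3 := h1.symm.trans h2
    field_simp
    linear_combination h3
  -- invariance of `ψ`
  have hEC : ∀ (g : G) (x : C), E (g⁻¹ * x * g) = (irrComp (MulAut.conjNormal g⁻¹) ψ : C → ℂ) x := by
    intro g x
    have hm : g⁻¹ * (x : G) * g ∈ C := by
      simpa using (Subgroup.normalCore_normal H).conj_mem _ x.2 g⁻¹
    rw [hE, extendByZero_mem H ϑ (hCH hm), irrComp_apply]
    show _ = ϑ ⟨_, _⟩
    congr 1
    exact Subtype.ext (by simp [MulAut.conjNormal_apply])
  obtain ⟨φ₀, e₀, hφ₀, he₀⟩ := hno C (Subgroup.normalCore_normal H) hLC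
  have hinner : classInner (fun m : C => χ m) (ψ : C → ℂ) ≠ 0 := by
    have hres : (fun m : C => χ m) =
        (Nat.card C : ℂ)⁻¹ • ∑ m : Mn, (irrComp (MulAut.conjNormal (m : G)⁻¹) ψ : C → ℂ) := by
      funext x
      rw [Pi.smul_apply, Finset.sum_apply, smul_eq_mul, hformula]
      exact congrArg _ (Finset.sum_congr rfl fun m _ => hEC m x)
    rw [hres, classInner_smul_left, classInner_sum_left]
    simp only [irrC_orth]
    rw [Finset.sum_boole]
    have hfix : irrComp (MulAut.conjNormal (((1 : Mn) : G))⁻¹) ψ = ψ := Subtype.ext (funext fun x => by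
      rw [irrComp_apply, OneMemClass.coe_one, inv_one, map_one, MulAut.one_apply])
    refine mul_ne_zero (inv_ne_zero hCc) (Nat.cast_ne_zero.2 (Finset.card_pos.2
      ⟨(1 : Mn), Finset.mem_filter.2 ⟨Finset.mem_univ _, hfix⟩⟩).ne')
  have hφψ : (⟨φ₀, hφ₀⟩ : IrrCharacter C) = ψ := by
    by_contra hne
    refine hinner ?_
    rw [he₀, classInner_smul_left, show classInner φ₀ (ψ : C → ℂ) = _ from irrC_orth ⟨φ₀, hφ₀⟩ ψ, if_neg hne,
      mul_zero]
  have he0 : (e₀ : ℂ) ≠ 0 := fun h => hinner (by rw [he₀, h, zero_smul, classInner_zero_left])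
  have hψinv : ∀ (g : G) (x : C), E (g⁻¹ * x * g) = (ψ : C → ℂ) x := by
    intro g x
    rw [hEC, irrComp_apply]
    have h1 := congrFun he₀ (MulAut.conjNormal g⁻¹ x)
    have h2 := congrFun he₀ x
    simp only [Pi.smul_apply, smul_eq_mul, MulAut.conjNormal_apply, show φ₀ = (ψ : C → ℂ) from
      congrArg Subtype.val hφψ] at h1 h2
    rw [hχc] at h1
    exact mul_left_cancel₀ he0 (h1.symm.trans h2)
  -- the restriction to the chief factor
  set k := C.relIndex Mn with hk
  have hkM : Nat.card C * k = Nat.card Mn := by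
    rw [hk, Subgroup.relIndex, ← Subgroup.card_mul_index (C.subgroupOf Mn),
      Nat.card_congr (Subgroup.subgroupOfEquivOfLe hCM).toEquiv]
  have hkC : (Nat.card Mn : ℂ) = (Nat.card C : ℂ) * k := by exact_mod_cast hkM.symm
  have hk1 : 1 < k := by
    rcases Nat.lt_trichotomy k 1 with h | h | h
    · exact absurd (by omega : k = 0) Subgroup.index_ne_zero_of_finite
    · exact absurd (le_antisymm (Subgroup.relIndex_eq_one.1 h) hCM) hMne
    · exact h
  have hsumM : ∑ x : Mn, χ x * conj (χ x) = (k : ℂ) * Nat.card Mn := by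
    have hon : ∀ x : C, χ x = (k : ℂ) * (ψ : C → ℂ) x := fun x => by
      rw [hformula, Finset.sum_congr rfl (fun (m : Mn) _ => hψinv m x), Finset.sum_const, nsmul_eq_mul,
        Finset.card_univ, ← Nat.card_eq_fintype_card, hkC]
      field_simp
    have hoff : ∀ x : Mn, (x : G) ∉ C → χ x = 0 := fun x hx => by
      rw [hformula, Finset.sum_eq_zero, mul_zero]
      intro m _
      refine extendByZero_not_mem H ϑ fun h => hx ?_
      have hM' : (m : G)⁻¹ * (x : G) * m ∈ Mn := mul_mem (mul_mem (inv_mem m.2) x.2) m.2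
      have := (Subgroup.normalCore_normal H).conj_mem _ (hinter _ h hM') (m : G)
      rwa [show (m : G) * ((m : G)⁻¹ * x * m) * (m : G)⁻¹ = x by group] at this
    rw [← Finset.sum_subset (Finset.subset_univ (Finset.univ.filter fun x : Mn => (x : G) ∈ C))
      (fun x _ hx => by rw [hoff x (fun h => hx (Finset.mem_filter.2 ⟨Finset.mem_univ _, h⟩)), zero_mul]),
      Finset.sum_nbij' (t := (Finset.univ : Finset C)) (fun x : Mn => if h : (x : G) ∈ C then (⟨x, h⟩ : C) else 1)
        (fun c : C => (⟨(c : G), hCM c.2⟩ : Mn))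
        (g := fun c : C => (k : ℂ) * k * ((ψ : C → ℂ) c * conj ((ψ : C → ℂ) c)))
        (fun _ _ => Finset.mem_univ _) (fun c _ => Finset.mem_filter.2 ⟨Finset.mem_univ _, c.2⟩)
        (fun x hx => by simp [(Finset.mem_filter.1 hx).2]) (fun c _ => by simp)
        (fun x hx => by
          have h1 := hon ⟨(x : G), (Finset.mem_filter.1 hx).2⟩
          rw [dif_pos (Finset.mem_filter.1 hx).2, show χ (x : G) = _ from h1, map_mul, map_natCast]
          ring)]
    have h := irr_self ψ.2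
    simp only [classInner] at h
    rw [← Finset.mul_sum, hkC]
    field_simp at h
    rw [h]
    ring
  have hhom : ∀ (N : Subgroup G) [N.Normal], L ≤ N → ∃ (φ : IrrCharacter N) (e : ℕ),
      (∀ x : N, χ x = (e : ℂ) * (φ : N → ℂ) x) ∧
      ∑ x : N, χ x * conj (χ x) = (e : ℂ) * e * Nat.card N := by
    intro N _ hLN
    obtain ⟨φ, e, hφ, he⟩ := hno N inferInstance hLN
    have hval : ∀ x : N, χ x = (e : ℂ) * φ x := fun x => congrFun he x
    refine ⟨⟨φ, hφ⟩, e, hval, ?_⟩
    have h := irr_self hφ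
    simp only [classInner] at h
    rw [Finset.sum_congr rfl (g := fun x : N => (e : ℂ) * e * (φ x * conj (φ x))) (fun x _ => by
      rw [hval, map_mul, map_natCast]; ring), ← Finset.mul_sum]
    field_simp at h
    rw [h]
  obtain ⟨φM, e, hφM, heM⟩ := hhom Mn (hLC.trans hCM)
  have hee : e * e = k := by
    have := heM.symm.trans hsumM
    exact_mod_cast mul_right_cancel₀ hMc this
  by_cases hMtop : Mn = ⊤
  · -- `H` is normal
    have h := irr_self hχ
    simp only [classInner] at h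
    have h2 : ∑ x : Mn, χ x * conj (χ x) = ∑ x : G, χ x * conj (χ x) :=
      Fintype.sum_equiv ((MulEquiv.subgroupCongr hMtop).trans Subgroup.topEquiv).toEquiv _ _ fun x => rfl
    rw [hsumM, show Nat.card Mn = Nat.card G by rw [hMtop, Subgroup.card_top]] at h2
    rw [← h2, ← mul_assoc, mul_comm _ (k : ℂ), mul_assoc,
      inv_mul_cancel₀ (Nat.cast_ne_zero.2 Nat.card_pos.ne'), mul_one] at h
    exact hk1.ne' (by exact_mod_cast h)
  -- a second chief factor
  obtain ⟨N2, hN2, hMN, -, hNne, hNmin⟩ :=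
    Cfsg.Agent.Solv.MaxCentralizer.exists_minimal_over Mn ⊤ le_top (fun h => hMtop h.symm)
  haveI := hN2
  obtain ⟨-, q, hq, hNexp⟩ := Cfsg.Agent.Solv.MaxCentralizer.chief_exponent Mn N2 hMN hNne
    (hsolvC Mn (hLC.trans hCM) N2) hNmin
  set R : Subgroup G := H ⊓ N2 with hR
  have hNdec : ∀ x ∈ N2, ∃ m ∈ Mn, ∃ h ∈ R, m * h = x := by
    intro x hx
    obtain ⟨m, hm, h, hh, rfl⟩ := hdecomp x
    refine ⟨m, hm, h, ⟨hh, ?_⟩, rfl⟩
    have := mul_mem (inv_mem (hMN hm)) hx
    rwa [inv_mul_cancel_left] at this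
  have hCR : C ≤ R := le_inf hCH (hCM.trans hMN)
  have hRnot : ∃ m ∈ Mn, ∃ x ∈ R, m⁻¹ * x * m ∉ H := by
    by_contra hc
    simp only [not_exists, not_and, not_not] at hc
    haveI : R.Normal := ⟨fun x hx g => by
      obtain ⟨m, hm, h, hh, rfl⟩ := hdecomp g
      have hx' : h * x * h⁻¹ ∈ R :=
        ⟨H.mul_mem (H.mul_mem hh hx.1) (H.inv_mem hh), hN2.conj_mem x hx.2 h⟩
      have h2 := hc m⁻¹ (inv_mem hm) _ hx'
      rw [inv_inv] at h2
      exact ⟨by rwa [show m * h * x * (m * h)⁻¹ = m * (h * x * h⁻¹) * m⁻¹ by group],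
        hN2.conj_mem x hx.2 _⟩⟩
    refine hNne (le_antisymm (fun x hx => ?_) hMN)
    obtain ⟨m, hm, h, hh, rfl⟩ := hNdec x hx
    exact mul_mem hm (hCM (Subgroup.normal_le_normalCore.2 (inf_le_left : R ≤ H) hh))
  have hqr : q ≠ r := by
    intro hqr
    haveI : Fact r.Prime := ⟨hr⟩
    set π := QuotientGroup.mk' C with hπ
    set A := Mn.map π with hA
    set B := R.map π with hB
    haveI : A.Normal := hMn.map π (QuotientGroup.mk'_surjective C)
    have hBp : IsPGroup r B := fun b => by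
      obtain ⟨x, hx, hxb⟩ := Subgroup.mem_map.1 b.2
      refine ⟨1, Subtype.ext ?_⟩
      rw [pow_one, SubmonoidClass.coe_pow, ← hxb, ← map_pow, OneMemClass.coe_one, ← MonoidHom.mem_ker,
        hπ, QuotientGroup.ker_mk']
      exact hinter _ (pow_mem hx.1 _) (hqr ▸ hNexp x hx.2)
    have hAp : IsPGroup r A := fun a => by
      obtain ⟨x, hx, hxa⟩ := Subgroup.mem_map.1 a.2
      refine ⟨1, Subtype.ext ?_⟩
      rw [pow_one, SubmonoidClass.coe_pow, ← hxa, ← map_pow, OneMemClass.coe_one, ← MonoidHom.mem_ker,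
        hπ, QuotientGroup.ker_mk']
      exact hMexp x hx
    have hA1 : r ∣ Nat.card A := by
      obtain ⟨i, hi⟩ := IsPGroup.iff_card.1 hAp
      rcases Nat.eq_zero_or_pos i with rfl | hi0
      · exfalso
        rw [pow_zero] at hi
        refine hMne (le_antisymm (fun x hx => ?_) hCM)
        have h1 := Subgroup.eq_bot_of_card_eq A hi
        have h2 : π x ∈ A := Subgroup.mem_map_of_mem _ hx
        rw [h1, Subgroup.mem_bot, ← MonoidHom.mem_ker, hπ, QuotientGroup.ker_mk'] at h2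
        exact h2
      · exact hi ▸ dvd_pow_self r hi0.ne'
    letI : MulAction B A := MulAction.compHom A ((MulAut.conjNormal (H := A)).comp B.subtype)
    obtain ⟨b, hb, hb1⟩ := hBp.exists_fixed_point_of_prime_dvd_card_of_fixed_point A hA1 (a := 1)
      (fun b => by
        show MulAut.conjNormal (b : G ⧸ C) (1 : A) = 1
        exact map_one _)
    obtain ⟨m₀, hm₀, hmb⟩ := Subgroup.mem_map.1 b.2
    let D : Subgroup G :=
      { carrier := {m | m ∈ Mn ∧ ∀ x ∈ R, Commute (π x) (π m)}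
        one_mem' := ⟨one_mem _, fun x _ => by rw [map_one]; exact Commute.one_right _⟩
        mul_mem' := fun {u v} hu hv => ⟨mul_mem hu.1 hv.1, fun x hx => by
          rw [map_mul]; exact (hu.2 x hx).mul_right (hv.2 x hx)⟩
        inv_mem' := fun {u} hu => ⟨inv_mem hu.1, fun x hx => by
          rw [map_inv]; exact (hu.2 x hx).inv_right⟩ }
    have hMab : ∀ m ∈ Mn, ∀ w ∈ Mn, π m * π w * (π m)⁻¹ = π w := fun m hm w hw => by
      have h1 : π (m * w * m⁻¹ * w⁻¹) = 1 := by
        rw [← MonoidHom.mem_ker, hπ, QuotientGroup.ker_mk']; exact hMcomm m hm w hw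
      rw [map_mul, map_mul, map_mul, map_inv, map_inv, mul_inv_eq_one] at h1
      exact h1
    have hDn : D.Normal := ⟨fun d hd g => by
      refine ⟨hMn.conj_mem d hd.1 g, fun x hx => ?_⟩
      obtain ⟨m, hm, h, hh, rfl⟩ := hdecomp g
      have e1 : π (m * h * d * (m * h)⁻¹) = π (h * d * h⁻¹) := by
        rw [show m * h * d * (m * h)⁻¹ = m * (h * d * h⁻¹) * m⁻¹ by group, map_mul, map_mul, map_inv]
        exact hMab m hm _ (hMn.conj_mem d hd.1 h)
      rw [e1]
      have hx' : h⁻¹ * x * h ∈ R := ⟨H.mul_mem (H.mul_mem (H.inv_mem hh) hx.1) hh, by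
        simpa using hN2.conj_mem x hx.2 h⁻¹⟩
      have h2 := ((hd.2 _ hx').map (MulAut.conj (π h)).toMonoidHom)
      simpa [map_mul, map_inv, mul_assoc] using h2⟩
    have hm₀D : m₀ ∈ D := ⟨hm₀, fun x hx => by
      have h1 := congrArg Subtype.val (hb ⟨π x, Subgroup.mem_map_of_mem _ hx⟩)
      change ((MulAut.conjNormal (π x) b : A) : G ⧸ C) = (b : G ⧸ C) at h1
      rw [MulAut.conjNormal_apply, ← hmb] at h1
      exact mul_inv_eq_iff_eq_mul.1 h1⟩
    have hDeq : D = Mn := (hMmin D hDn (fun c hc => ⟨hCM hc, fun x _ => by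
        rw [show π c = 1 by rw [← MonoidHom.mem_ker, hπ, QuotientGroup.ker_mk']; exact hc]
        exact Commute.one_right _⟩) (fun m hm => hm.1)).resolve_left fun h => hb1 (Subtype.ext (by
          have hc : m₀ ∈ C := h ▸ hm₀D
          rw [← hmb, OneMemClass.coe_one]
          exact ((QuotientGroup.eq_one_iff m₀).2 hc).symm))
    obtain ⟨m, hm, x, hx, hxH⟩ := hRnot
    refine hxH ?_
    have hmD : m ∈ D := hDeq.symm ▸ hm
    have h1 : π (m⁻¹ * x * m * x⁻¹) = 1 := by
      rw [map_mul, map_mul, map_mul, map_inv, map_inv, mul_assoc (π m)⁻¹, (hmD.2 x hx).eq]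
      group
    rw [← MonoidHom.mem_ker, hπ, QuotientGroup.ker_mk'] at h1
    have := H.mul_mem (hCH h1) hx.1
    rwa [inv_mul_cancel_right] at this
  obtain ⟨ξ, a, hξ, haN⟩ := hhom N2 (hLC.trans (hCM.trans hMN))
  -- the norm on the second factor
  have hN2c : Nat.card N2 * Nat.card C = Nat.card Mn * Nat.card R := by
    have hn : R ≤ Subgroup.normalizer (Mn : Set G) := by rw [Subgroup.normalizer_eq_top]; exact le_top
    have h := Cfsg.Agent.Solv.card_sup_mul_card_inf' Mn R hn
    have h1 : Mn ⊔ R = N2 := le_antisymm (sup_le hMN inf_le_right) fun x hx => by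
      obtain ⟨m, hm, h, hh, rfl⟩ := hNdec x hx
      exact mul_mem (Subgroup.mem_sup_left hm) (Subgroup.mem_sup_right hh)
    have h2 : Mn ⊓ R = C := le_antisymm (fun x hx => hinter x hx.2.1 hx.1) (le_inf hCM hCR)
    rw [h1, h2] at h
    exact h
  have hA : (Nat.card C : ℂ) * (∑ x : N2, χ x * conj (χ x)) =
      (Nat.card Mn : ℂ) * ((Nat.card C : ℂ)⁻¹ *
        ∑ m : Mn, ∑ x : R, E ((m : G)⁻¹ * x * m) * conj (E (x : G))) := by
    have h1 : ∀ m : Mn, ∑ x : N2, χ x * conj (E ((m : G)⁻¹ * x * m)) = ∑ x : R, χ x * conj (E (x : G)) := by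
      intro m
      rw [Fintype.sum_equiv (MulAut.conjNormal (m : G)⁻¹ : MulAut N2).toEquiv
        (fun x : N2 => χ x * conj (E ((m : G)⁻¹ * x * m))) (fun x : N2 => χ x * conj (E (x : G))) (fun x => by
          show _ = χ ((MulAut.conjNormal (m : G)⁻¹ x : N2) : G) * conj (E ((MulAut.conjNormal (m : G)⁻¹ x : N2) : G))
          rw [MulAut.conjNormal_apply, hχc, inv_inv])]
      rw [← Finset.sum_subset (Finset.subset_univ (Finset.univ.filter fun x : N2 => (x : G) ∈ H))
        (fun x _ hx => by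
          rw [hE, extendByZero_not_mem H ϑ (fun h => hx (Finset.mem_filter.2 ⟨Finset.mem_univ _, h⟩)),
            map_zero, mul_zero])]
      exact Finset.sum_nbij' (t := (Finset.univ : Finset R))
        (fun x : N2 => if h : (x : G) ∈ H then (⟨x, h, x.2⟩ : R) else 1) (fun x : R => (⟨(x : G), x.2.2⟩ : N2))
        (fun _ _ => Finset.mem_univ _) (fun c _ => Finset.mem_filter.2 ⟨Finset.mem_univ _, c.2.1⟩)
        (fun x hx => by simp [(Finset.mem_filter.1 hx).2]) (fun c _ => dif_pos c.2.1)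
        (fun x hx => by rw [dif_pos (Finset.mem_filter.1 hx).2])
    have h2 : ∀ x : N2, (Nat.card C : ℂ) * (χ x * conj (χ x)) = ∑ m : Mn, χ x * conj (E ((m : G)⁻¹ * x * m)) := by
      intro x
      rw [← Finset.mul_sum, ← map_sum]
      have h3 : ∑ m : Mn, E ((m : G)⁻¹ * x * m) = (Nat.card C : ℂ) * χ x := by
        rw [hformula]; field_simp
      rw [h3, map_mul, map_natCast]
      ring
    rw [Finset.mul_sum, Finset.sum_congr rfl (fun x _ => h2 x), Finset.sum_comm,
      Finset.sum_congr rfl (fun m _ => h1 m), Finset.sum_const, nsmul_eq_mul, Finset.card_univ,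
      ← Nat.card_eq_fintype_card]
    congr 1
    rw [Finset.sum_comm (γ := Mn), Finset.mul_sum]
    refine Finset.sum_congr rfl fun x _ => ?_
    rw [hformula, Finset.mul_sum, Finset.mul_sum, Finset.sum_mul]
    exact Finset.sum_congr rfl fun m _ => by ring
  have hbound : ∀ m : Mn, (∑ x : R, E ((m : G)⁻¹ * x * m) * conj (E (x : G))).re ≤
      (Nat.card {x : R // (m : G)⁻¹ * x * m ∈ H} : ℝ) := by
    intro m
    let S : Subgroup R := (H.comap (MulAut.conj (m : G)⁻¹).toMonoidHom).subgroupOf R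
    haveI := Fintype.ofFinite S
    have hS : ∀ x : R, x ∈ S ↔ (m : G)⁻¹ * x * m ∈ H := fun x => by simp [S, Subgroup.mem_subgroupOf]
    let f1 : S →* H :=
      { toFun := fun s => ⟨(m : G)⁻¹ * ((s : R) : G) * m, (hS _).1 s.2⟩
        map_one' := Subtype.ext (by simp)
        map_mul' := fun u v => Subtype.ext (by simp [mul_assoc]) }
    let f2 : S →* H :=
      { toFun := fun s => ⟨((s : R) : G), (s : R).2.1⟩
        map_one' := rfl
        map_mul' := fun u v => rfl }
    let fC : C →* S :=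
      { toFun := fun c => ⟨⟨(c : G), hCR c.2⟩, (hS _).2 (hCH (by
          simpa using (Subgroup.normalCore_normal H).conj_mem _ c.2 (m : G)⁻¹))⟩
        map_one' := rfl
        map_mul' := fun u v => rfl }
    have ha : IsIrrCharacter S (fun s => ϑ (f1 s)) := by
      refine isIrr_of_comp_irr fC (isCharacter_comp f1 (irr_isCharacter hϑ)) ?_
      have e : (fun c : C => ϑ (f1 (fC c))) = (ψ : C → ℂ) := funext fun c => by
        rw [← hψinv (m : G) c, hE]
        exact (extendByZero_mem H ϑ (f1 (fC c)).2).symm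
      rw [e]; exact ψ.2
    have hb : IsIrrCharacter S (fun s => ϑ (f2 s)) :=
      isIrr_of_comp_irr fC (isCharacter_comp f2 (irr_isCharacter hϑ)) ψ.2
    have hle := re_sum_mul_conj_le ha hb
    have hsum : ∑ x : R, E ((m : G)⁻¹ * x * m) * conj (E (x : G)) = ∑ s : S, ϑ (f1 s) * conj (ϑ (f2 s)) := by
      rw [← Finset.sum_subset (Finset.subset_univ (Finset.univ.filter fun x : R => x ∈ S))
        (fun x _ hx => by
          rw [hE, extendByZero_not_mem H ϑ (fun h => hx (Finset.mem_filter.2 ⟨Finset.mem_univ _, (hS x).2 h⟩)),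
            zero_mul]), Finset.sum_subtype (Finset.univ.filter fun x : R => x ∈ S) (p := fun x => x ∈ S)
              (fun x => by simp)]
      refine Finset.sum_congr rfl fun s _ => ?_
      rw [hE, extendByZero_mem H ϑ ((hS _).1 s.2), extendByZero_mem H ϑ (s : R).2.1]
      rfl
    rw [hsum, ← Nat.card_congr (Equiv.subtypeEquivRight hS)]
    exact hle
  have hlt : a * a < e * e := by
    have h := congrArg Complex.re hA
    rw [haN, ← mul_assoc (Nat.card Mn : ℂ), ← Complex.ofReal_natCast (Nat.card Mn),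
      ← Complex.ofReal_natCast (Nat.card C), ← Complex.ofReal_inv, ← Complex.ofReal_natCast a,
      ← Complex.ofReal_natCast (Nat.card N2), ← Complex.ofReal_mul, ← Complex.ofReal_mul,
      ← Complex.ofReal_mul, Complex.ofReal_re] at h
    rw [← Complex.ofReal_mul, Complex.re_ofReal_mul, Complex.re_sum] at h
    obtain ⟨m₁, hm₁, x₁, hx₁, hxH⟩ := hRnot
    have hsum : ∑ m : Mn, (∑ x : R, E ((m : G)⁻¹ * x * m) * conj (E (x : G))).re <
        (Nat.card Mn : ℝ) * Nat.card R := by
      refine lt_of_le_of_lt (Finset.sum_le_sum fun m _ => hbound m) ?_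
      have hc : (Nat.card Mn : ℝ) * Nat.card R = ∑ _m : Mn, (Nat.card R : ℝ) := by
        rw [Finset.sum_const, nsmul_eq_mul, Finset.card_univ, Nat.card_eq_fintype_card]
      rw [hc]
      refine Finset.sum_lt_sum (fun m _ => Nat.cast_le.2 (Finite.card_subtype_le _)) ⟨⟨m₁, hm₁⟩, Finset.mem_univ _, ?_⟩
      exact Nat.cast_lt.2 (Finite.card_subtype_lt (x := (⟨x₁, hx₁⟩ : R)) hxH)
    have hN2r : (Nat.card N2 : ℝ) * Nat.card C = (Nat.card Mn : ℝ) * Nat.card R := by exact_mod_cast hN2c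
    have hkr : (Nat.card C : ℝ) * k = Nat.card Mn := by exact_mod_cast hkM
    have hCpos : (0 : ℝ) < Nat.card C := by exact_mod_cast Nat.card_pos
    have hMpos : (0 : ℝ) < Nat.card Mn := by exact_mod_cast Nat.card_pos
    have hNpos : (0 : ℝ) < Nat.card N2 := by exact_mod_cast Nat.card_pos
    have h2 : (Nat.card C : ℝ) * ((a : ℝ) * a * Nat.card N2) <
        (Nat.card C : ℝ) * ((k : ℝ) * Nat.card N2) := by
      calc _ = _ := h
        _ < (Nat.card Mn : ℝ) * (Nat.card C : ℝ)⁻¹ * ((Nat.card Mn : ℝ) * Nat.card R) := by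
          exact mul_lt_mul_of_pos_left hsum (by positivity)
        _ = _ := by
          rw [← hN2r, ← hkr]
          field_simp
    have h3 := lt_of_mul_lt_mul_right (lt_of_mul_lt_mul_left h2 hCpos.le) hNpos.le
    rw [hee]
    exact_mod_cast h3
  -- the multiplicity below
  set M' := Mn.subgroupOf N2 with hM'
  haveI : M'.Normal := hMn.comap _
  let g' : M' ≃* Mn := Subgroup.subgroupOfEquivOfLe hMN
  let η : IrrCharacter M' := irrTransport g' φM
  have ha0 : (a : ℂ) ≠ 0 := by
    intro h0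
    have h1 := hξ 1
    rw [h0, zero_mul, OneMemClass.coe_one] at h1
    exact irr_one_ne_zero hχ h1
  obtain ⟨b, hb⟩ := classInner_natCast (isCharacter_comp M'.subtype (irr_isCharacter ξ.2)) (irr_isCharacter η.2)
  have hab : e = a * b := by
    have h1 : (fun x : M' => (ξ : N2 → ℂ) x) = ((e : ℂ) / a) • (η : M' → ℂ) := by
      funext x
      have h2 := hξ (x : N2)
      have h3 := hφM (g' x)
      rw [Pi.smul_apply, smul_eq_mul, div_mul_eq_mul_div, eq_div_iff ha0]
      rw [show (((g' x : Mn) : G)) = ((x : N2) : G) from rfl, h2] at h3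
      rw [irrTransport_apply, ← h3]
      ring
    change classInner (fun x : M' => (ξ : N2 → ℂ) x) (η : M' → ℂ) = (b : ℂ) at hb
    rw [h1, classInner_smul_left, irr_self η.2, mul_one, div_eq_iff ha0] at hb
    rw [mul_comm]
    exact_mod_cast hb
  have hb1 : 1 < b := by
    rcases Nat.lt_or_ge 1 b with h | h
    · exact h
    · exfalso
      rcases Nat.le_one_iff_eq_zero_or_eq_one.1 h with rfl | rfl
      · rw [mul_zero] at hab; rw [hab] at hlt; simp at hlt
      · rw [mul_one] at hab; rw [hab] at hlt; exact lt_irrefl _ hlt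
  -- `r` divides `b`
  have hkr : ∀ t, t.Prime → t ∣ k → t = r := by
    intro t ht htk
    haveI : Fact t.Prime := ⟨ht⟩
    haveI : (C.subgroupOf Mn).Normal := (Subgroup.normalCore_normal H).comap _
    obtain ⟨z, hz⟩ := exists_prime_orderOf_dvd_card' (G := Mn ⧸ C.subgroupOf Mn) t htk
    obtain ⟨y, rfl⟩ := QuotientGroup.mk_surjective z
    have h1 : orderOf (QuotientGroup.mk y : Mn ⧸ C.subgroupOf Mn) ∣ r := by
      apply orderOf_dvd_of_pow_eq_one
      rw [← QuotientGroup.mk_pow, QuotientGroup.eq_one_iff, Subgroup.mem_subgroupOf]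
      exact hMexp _ y.2
    rw [hz] at h1
    exact (Nat.prime_dvd_prime_iff_eq ht hr).1 h1
  obtain ⟨t, ht, htb⟩ := Nat.exists_prime_and_dvd hb1.ne'
  have htr : t = r := hkr t ht (hee ▸ hab ▸ Dvd.dvd.mul_left (Dvd.dvd.mul_left htb a) _)
  obtain ⟨hdv, hdv2⟩ := Cfsg.Agent.S0887.result M' (ξ : N2 → ℂ) ξ.2 (η : M' → ℂ) η.2
    (by
      change classInner (fun x : M' => (ξ : N2 → ℂ) x) (η : M' → ℂ) ≠ 0
      rw [show classInner (fun x : M' => (ξ : N2 → ℂ) x) (η : M' → ℂ) = (b : ℂ) from hb]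
      exact Nat.cast_ne_zero.2 (by omega)) _ _
    (char_one_eq_deg (irr_isCharacter ξ.2)) (char_one_eq_deg (irr_isCharacter η.2))
  have hratio : deg (ξ : N2 → ℂ) = b * deg (η : M' → ℂ) := by
    have h1 := hξ 1
    have h2 := hφM 1
    rw [OneMemClass.coe_one] at h1 h2
    have h3 : (a : ℂ) * (ξ : N2 → ℂ) 1 = (a : ℂ) * ((b : ℂ) * (η : M' → ℂ) 1) := by
      rw [← h1, h2, hab, irrTransport_apply, map_one]
      push_cast
      ring
    have h4 := mul_left_cancel₀ ha0 h3
    rw [char_one_eq_deg (irr_isCharacter ξ.2), char_one_eq_deg (irr_isCharacter η.2)] at h4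
    exact_mod_cast h4
  rw [hratio, Nat.mul_div_cancel _ (deg_pos η.2)] at hdv2
  haveI : Fact t.Prime := ⟨ht⟩
  obtain ⟨z, hz⟩ := exists_prime_orderOf_dvd_card' (G := N2 ⧸ M') t (htb.trans hdv2)
  obtain ⟨y, rfl⟩ := QuotientGroup.mk_surjective z
  have h1 : orderOf (QuotientGroup.mk y : N2 ⧸ M') ∣ q := by
    apply orderOf_dvd_of_pow_eq_one
    rw [← QuotientGroup.mk_pow, QuotientGroup.eq_one_iff, hM', Subgroup.mem_subgroupOf]
    exact hNexp _ y.2
  rw [hz] at h1
  exact hqr (((Nat.prime_dvd_prime_iff_eq ht hq).1 h1).symm.trans htr)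

end Cfsg.Agent.S0890
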