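import Cfsg.Statements.S0892
import Cfsg.Agent.Lib.Char.AltStem

set_option autoImplicit false
open Cfsg Cfsg.Agent.Char

namespace Cfsg.Agent.S0892

/-- Let n ≥ 4 with n ≠ 6 and n ≠ 7, and let Γ be a finite group with a subgroup Z contained in both the centre and the commutator subgroup of Γ such that Γ / Z is isomorphic to the alternating group on n letters. Then Z has order at most 2. -/
theorem result (n : ℕ) (hn : 4 ≤ n) (h6 : n ≠ 6) (h7 : n ≠ 7) {Γ : Type*} [Group Γ] [Finite Γ] (Z : Subgroup Γ) [Z.Normal] (hZc : Z ≤ Subgroup.center Γ) (hZd : Z ≤ commutator Γ) (e : Γ ⧸ Z ≃* alternatingGroup (Fin n)) : Nat.card Z ≤ 2 := by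
  let π : Γ →* Equiv.Perm (Fin n) :=
    ((alternatingGroup (Fin n)).subtype.comp e.toMonoidHom).comp (QuotientGroup.mk' Z)
  have hker : π.ker = Z := by
    refine Eq.trans ?_ (QuotientGroup.ker_mk' Z)
    ext x
    rw [MonoidHom.mem_ker, MonoidHom.mem_ker]
    show (alternatingGroup (Fin n)).subtype (e (QuotientGroup.mk' Z x)) = 1 ↔ _
    rw [← map_one (alternatingGroup (Fin n)).subtype, (Subgroup.subtype_injective _).eq_iff, MulEquiv.map_eq_one_iff]
  have hr : π.range = alternatingGroup (Fin n) := by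
    show MonoidHom.range (((alternatingGroup (Fin n)).subtype.comp e.toMonoidHom).comp (QuotientGroup.mk' Z)) = _
    rw [MonoidHom.range_comp, MonoidHom.range_eq_top.2 (QuotientGroup.mk'_surjective Z), ← MonoidHom.range_eq_map,
      MonoidHom.range_comp, MonoidHom.range_eq_top.2 e.surjective, ← MonoidHom.range_eq_map, Subgroup.range_subtype]
  rcases eq_or_ne n 4 with h4 | h4
  · have h := stem_alt_four π hr h4 (hker ▸ hZc) (hker ▸ hZd)
    rwa [hker] at h
  · have h := stem_alt_kernel_le_two π (by omega) (by omega) hr (hker ▸ hZc) (hker ▸ hZd)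
    rwa [hker] at h

end Cfsg.Agent.S0892
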