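import Cfsg.Statements.S0897
import Cfsg.Agent.Lib.Char.ElementarySupplement
import Cfsg.Agent.Lib.Char.ExtensionPIndex
import Cfsg.Agent.Lib.Char.LinearExt

set_option autoImplicit false
open Cfsg Cfsg.Agent.Char
open scoped ComplexConjugate commutatorElement Pointwise
open scoped ComplexConjugate

namespace Cfsg.Agent.S0897

/-- Let N be a normal subgroup of the finite group G with the index of N a power of the prime p, and P a Sylow p-subgroup of G such that P ⊓ N lies in the centre of P and every character of degree 1 of P ⊓ N is the restriction of a character of degree 1 of P. Then every irreducible character of N invariant under conjugation by G is the restriction of an irreducible character of G. -/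
theorem result {G : Type*} [Group G] [Fintype G] (p : ℕ) [Fact p.Prime] (N : Subgroup G) [hN : N.Normal] (hind : ∃ k : ℕ, N.index = p ^ k) (P : Sylow p G) (hcent : ∀ x ∈ (P : Subgroup G) ⊓ N, ∀ y ∈ (P : Subgroup G), x * y = y * x) (hlin : ∀ lam : ↥((P : Subgroup G) ⊓ N) → ℂ, Cfsg.IsCharacter ↥((P : Subgroup G) ⊓ N) lam → lam 1 = 1 → ∃ μ : ↥(P : Subgroup G) → ℂ, Cfsg.IsCharacter ↥(P : Subgroup G) μ ∧ μ 1 = 1 ∧ ∀ x : ↥((P : Subgroup G) ⊓ N), μ ⟨(x : G), x.2.1⟩ = lam x) (ϑ : N → ℂ) (hϑ : Cfsg.IsIrrCharacter N ϑ) (hinv : ∀ (g : G) (n : N), ϑ ⟨g * n * g⁻¹, hN.conj_mem (n : G) n.2 g⟩ = ϑ n) : ∃ χ : G → ℂ, Cfsg.IsIrrCharacter G χ ∧ ∀ n : N, χ n = ϑ n := by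
  classical
  have hp := (Fact.out : p.Prime)
  haveI := Fintype.ofFinite N
  have hinv' : ∀ (g : G) (n : N), ϑ (MulAut.conjNormal g n) = ϑ n := fun g n => by
    rw [show MulAut.conjNormal g n = ⟨g * n * g⁻¹, hN.conj_mem (n : G) n.2 g⟩ from
      Subtype.ext (MulAut.conjNormal_apply g n)]
    exact hinv g n
  obtain ⟨E, hE, htop, inst, φ, -, m, hm, hval⟩ := ElemSupp.exists_supplement (p := p) N hind hϑ hinv'
  obtain ⟨k, hk⟩ := hind
  haveI hLn : (N.subgroupOf E).Normal := Subgroup.Normal.comap inferInstance _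
  obtain ⟨x, hxc, hxcop, k', hk'⟩ := hE
  haveI := Fintype.ofFinite E
  obtain R : Sylow p E := default
  -- `x` lies in `N`
  have hxL : x ∈ N.subgroupOf E := by
    rw [Subgroup.mem_subgroupOf, ← QuotientGroup.eq_one_iff, ← orderOf_eq_one_iff]
    have h1 : orderOf (QuotientGroup.mk (x : G) : G ⧸ N) ∣ orderOf x := by
      rw [← Subgroup.orderOf_coe x]; exact orderOf_map_dvd (QuotientGroup.mk' N) (x : G)
    have h2 : orderOf (QuotientGroup.mk (x : G) : G ⧸ N) ∣ p ^ k := by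
      rw [← hk, Subgroup.index_eq_card]; exact orderOf_dvd_natCard _
    exact Nat.eq_one_of_dvd_coprimes (hxcop.pow_right k) h1 h2
  -- `E` is generated by `x` and `R`
  haveI hZn : (Subgroup.zpowers x).Normal := ⟨fun y hy g => by
    rw [Subgroup.mem_center_iff.1 ((Subgroup.zpowers_le.2 hxc) hy) g, mul_inv_cancel_right]; exact hy⟩
  have hgen : (R : Subgroup E) ⊔ Subgroup.zpowers x = ⊤ := by
    rw [← Subgroup.index_eq_one]
    by_contra h
    obtain ⟨q, hq, hqd⟩ := Nat.exists_prime_and_dvd h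
    have h1 := hqd.trans (Subgroup.index_dvd_of_le (le_sup_right : Subgroup.zpowers x ≤ (R : Subgroup E) ⊔ Subgroup.zpowers x))
    rw [hk'] at h1
    have h4 : q = p := (Nat.prime_dvd_prime_iff_eq hq hp).1 (hq.dvd_of_dvd_pow h1)
    subst q
    exact R.not_dvd_index (hqd.trans (Subgroup.index_dvd_of_le le_sup_left))
  have hdec : ∀ e : E, ∃ b ∈ (R : Subgroup E), ∃ i : ℤ, b * x ^ i = e := fun e => by
    obtain ⟨b, hb, z, hz, he⟩ := Subgroup.mem_sup_of_normal_right.1 (hgen.symm ▸ Subgroup.mem_top e)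
    obtain ⟨i, rfl⟩ := Subgroup.mem_zpowers_iff.1 hz
    exact ⟨b, hb, i, he⟩
  have hxi : ∀ (i : ℤ) (e : E), x ^ i * e = e * x ^ i := fun i e =>
    (Subgroup.mem_center_iff.1 ((Subgroup.center E).zpow_mem hxc i) e).symm
  -- a conjugate of `R` in `P`
  obtain ⟨Q, hQ⟩ := (R.isPGroup'.map E.subtype).exists_le_sylow
  obtain ⟨g, hg⟩ := MulAction.exists_smul_eq G Q P
  have hconj : ∀ b ∈ (R : Subgroup E), g * (b : G) * g⁻¹ ∈ (P : Subgroup G) := fun b hb => by
    rw [← hg, Sylow.coe_subgroup_smul]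
    exact ⟨(b : G), hQ (Subgroup.mem_map_of_mem E.subtype hb), rfl⟩
  have hconjN : ∀ b : E, (b : G) ∈ N → g * (b : G) * g⁻¹ ∈ N := fun b hb => hN.conj_mem _ hb g
  -- `E ⊓ N` is central in `E`
  have hcen : N.subgroupOf E ≤ Subgroup.center E := by
    intro y hy
    obtain ⟨b, hb, i, rfl⟩ := hdec y
    refine Subgroup.mul_mem _ (Subgroup.mem_center_iff.2 fun e => ?_) ((Subgroup.center E).zpow_mem hxc i)
    obtain ⟨c, hc, j, rfl⟩ := hdec e
    have hbN : (b : G) ∈ N := by
      have h1 := (N.subgroupOf E).mul_mem hy ((N.subgroupOf E).inv_mem ((N.subgroupOf E).zpow_mem hxL i))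
      rwa [mul_inv_cancel_right, Subgroup.mem_subgroupOf] at h1
    have h2 := hcent _ ⟨hconj b hb, hconjN b hbN⟩ _ (hconj c hc)
    have h3 : b * c = c * b := Subtype.ext (by
      show (b : G) * c = c * b
      have := congrArg (fun z => g⁻¹ * z * g) h2
      simpa [mul_assoc] using this)
    rw [mul_assoc c, hxi j b, ← mul_assoc, ← h3, mul_assoc]
  -- so `φ` is linear
  have hLab : ∀ a b : N.subgroupOf E, a * b = b * a := fun a b =>
    Subtype.ext (Subgroup.mem_center_iff.1 (hcen b.2) (a : E))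
  obtain ⟨l, hl⟩ := exists_hom_of_degree_one (irr_isCharacter φ.2) (forall_linear_iff_comm.1 hLab φ)
  -- the extension to the Sylow subgroup
  let A : Subgroup ↥((P : Subgroup G) ⊓ N) :=
    ((((R : Subgroup E) ⊓ N.subgroupOf E).map E.subtype).map (MulAut.conj g).toMonoidHom).subgroupOf _
  have hAc : ∀ a b : ↥((P : Subgroup G) ⊓ N), a * b = b * a := fun a b => Subtype.ext (hcent _ a.2 _ b.2.1)
  haveI : A.Normal := ⟨fun a ha w => by rwa [hAc w a, mul_inv_cancel_right]⟩
  have hback : ∀ a : A, ∃ b : N.subgroupOf E, (b : E) ∈ (R : Subgroup E) ∧ g * ((b : E) : G) * g⁻¹ = ((a : ↥((P : Subgroup G) ⊓ N)) : G) := by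
    intro a
    obtain ⟨_, ⟨b, hb, rfl⟩, hbe⟩ := Subgroup.mem_subgroupOf.1 a.2
    exact ⟨⟨b, hb.2⟩, hb.1, hbe⟩
  choose bk hbkR hbk using hback
  have hinj : ∀ b c : N.subgroupOf E, g * ((b : E) : G) * g⁻¹ = g * ((c : E) : G) * g⁻¹ → b = c := fun b c h =>
    Subtype.ext (Subtype.ext (mul_left_cancel (mul_right_cancel h)))
  let lA : A →* ℂˣ :=
    { toFun := fun a => l (bk a)
      map_one' := by
        rw [show bk 1 = 1 from hinj _ _ (by rw [hbk]; simp), map_one]
      map_mul' := fun a b => by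
        rw [← map_mul]
        congr 1
        refine hinj _ _ ?_
        rw [hbk]
        simp only [Subgroup.coe_mul]
        rw [← hbk a, ← hbk b]
        group }
  obtain ⟨lam, hlam⟩ := exists_linear_extension_of_ker A lA fun z hz => by
    have : (z : ↥((P : Subgroup G) ⊓ N)) = 1 := by
      have h1 : (z : ↥((P : Subgroup G) ⊓ N)) ∈ commutator ↥((P : Subgroup G) ⊓ N) := (QuotientGroup.eq_one_iff _).1 hz
      have h2 : commutator ↥((P : Subgroup G) ⊓ N) = ⊥ := by
        rw [eq_bot_iff, commutator_def, Subgroup.commutator_le]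
        intro a _ b _
        rw [Subgroup.mem_bot]
        exact commutatorElement_eq_one_iff_mul_comm.2 (hAc a b)
      rwa [h2, Subgroup.mem_bot] at h1
    rw [show z = 1 from Subtype.ext this, map_one]
  obtain ⟨μ, hμc, hμ1, hμ⟩ := hlin (fun z => (lam z : ℂ)) (isCharacter_linear lam) (by simp)
  obtain ⟨μl, hμl⟩ := exists_hom_of_degree_one hμc hμ1
  let κ : (R : Subgroup E) →* ℂˣ :=
    μl.comp (((MulAut.conj g).toMonoidHom.comp (E.subtype.comp (R : Subgroup E).subtype)).codRestrict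
      (P : Subgroup G) fun b => hconj b b.2)
  -- commutators of `E` come from `R`
  let κker : Subgroup E := κ.ker.map (R : Subgroup E).subtype
  have hcomm : commutator E ≤ κker := by
    rw [commutator_def, Subgroup.commutator_le]
    intro a _ b _
    obtain ⟨a', ha', i, rfl⟩ := hdec a
    obtain ⟨b', hb', j, rfl⟩ := hdec b
    refine ⟨⁅(⟨a', ha'⟩ : (R : Subgroup E)), ⟨b', hb'⟩⁆, ?_, ?_⟩
    · rw [SetLike.mem_coe, MonoidHom.mem_ker, map_commutatorElement, commutatorElement_eq_one_iff_mul_comm]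
      exact mul_comm _ _
    · rw [map_commutatorElement]
      show ⁅a', b'⁆ = _
      have hc1 := fun e => hxi i e
      have hc2 := fun e => hxi j e
      simp only [commutatorElement_def, mul_inv_rev]
      rw [show a' * x ^ i * (b' * x ^ j) * ((x ^ i)⁻¹ * a'⁻¹) * ((x ^ j)⁻¹ * b'⁻¹) =
          a' * ((x ^ i * (b' * x ^ j)) * (x ^ i)⁻¹) * a'⁻¹ * ((x ^ j)⁻¹ * b'⁻¹) by group,
        hc1 (b' * x ^ j), mul_inv_cancel_right,
        show a' * (b' * x ^ j) * a'⁻¹ * ((x ^ j)⁻¹ * b'⁻¹) = a' * b' * ((x ^ j * a'⁻¹) * (x ^ j)⁻¹) * b'⁻¹ by group,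
        hc2 a'⁻¹, mul_inv_cancel_right]
  obtain ⟨ν, hν⟩ := exists_linear_extension_of_ker (N.subgroupOf E) l fun z hz => by
    have h1 : (z : E) ∈ commutator E := (QuotientGroup.eq_one_iff _).1 hz
    obtain ⟨b, hb, hbz⟩ := hcomm h1
    have hb' : κ b = 1 := hb
    have hzR : (z : E) ∈ (R : Subgroup E) := hbz ▸ b.2
    have hz' : (⟨g * ((z : E) : G) * g⁻¹, hconj _ hzR, hconjN _ z.2⟩ : ↥((P : Subgroup G) ⊓ N)) ∈ A :=
      Subgroup.mem_subgroupOf.2 ⟨_, ⟨(z : E), ⟨hzR, z.2⟩, rfl⟩, rfl⟩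
    set za : A := ⟨_, hz'⟩
    have h2 : lA za = l z := by
      show l (bk za) = l z
      rw [show bk za = z from hinj _ _ (hbk za)]
    rw [← h2, ← hlam za]
    refine Units.ext ?_
    rw [← hμ za, congrFun hμl, ← show κ b = _ from rfl] at *
    rw [Units.val_one, ← Units.val_one, ← hb']
    show (μl _ : ℂ) = (μl _ : ℂ)
    congr 2
    refine Subtype.ext ?_
    show g * ((z : E) : G) * g⁻¹ = g * ((b : E) : G) * g⁻¹
    rw [← hbz]; rfl
  refine ExtPIndex.exists_extension E ν ⟨k, hk⟩ htop hϑ hinv' hm ?_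
  rw [← hval]
  congr 1
  funext y
  rw [congrFun hl y, hν y]

end Cfsg.Agent.S0897
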