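import Cfsg.Statements.S0900
import Cfsg.Agent.Lib.Char.Gallagher

set_option autoImplicit false
open Cfsg
open scoped ComplexConjugate

namespace Cfsg.Agent.S0900

/-- Let N be a normal subgroup of the finite group G, χ an irreducible character of G and ϑ an irreducible character of N having nonzero inner product with the restriction of χ. Consider: (a) the restriction of χ to N is e • ϑ for a natural number e with e ^ 2 equal to the index of N; (b) χ vanishes outside N and ϑ is invariant under conjugation by G; (c) ϑ is invariant and every irreducible character of G having nonzero inner product with the function induced from ϑ equals χ. Then (a) ↔ (b) and (a) ↔ (c). -/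
theorem result {G : Type*} [Group G] [Fintype G] (N : Subgroup G) [hN : N.Normal] [Fintype N] (χ : G → ℂ) (hχ : Cfsg.IsIrrCharacter G χ) (ϑ : N → ℂ) (hϑ : Cfsg.IsIrrCharacter N ϑ) (hcon : Cfsg.classInner (fun n : N => χ n) ϑ ≠ 0) : ((∃ e : ℕ, (fun n : N => χ n) = (e : ℂ) • ϑ ∧ e ^ 2 = N.index) ↔ ((∀ g : G, g ∉ N → χ g = 0) ∧ ∀ (g : G) (n : N), ϑ ⟨g * n * g⁻¹, hN.conj_mem (n : G) n.2 g⟩ = ϑ n)) ∧ ((∃ e : ℕ, (fun n : N => χ n) = (e : ℂ) • ϑ ∧ e ^ 2 = N.index) ↔ (∀ (g : G) (n : N), ϑ ⟨g * n * g⁻¹, hN.conj_mem (n : G) n.2 g⟩ = ϑ n ∧ ∀ ψ : G → ℂ, Cfsg.IsIrrCharacter G ψ → Cfsg.classInner (Cfsg.indFun N ϑ) ψ ≠ 0 → ψ = χ)) := by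
  classical
  have hχc := Cfsg.Agent.Char.irr_isCharacter hχ
  have hϑc := Cfsg.Agent.Char.irr_isCharacter hϑ
  obtain ⟨e₀, he₀⟩ := Cfsg.Agent.Char.classInner_natCast
    (Cfsg.Agent.Char.isCharacter_comp N.subtype hχc) hϑc
  have he₀' : Cfsg.classInner (fun n : N => χ n) ϑ = (e₀ : ℂ) := he₀
  -- invariance gives a multiple of `ϑ`
  have hmult : (∀ (g : G) (n : N), ϑ (MulAut.conjNormal g n) = ϑ n) →
      (fun n : N => χ n) = (e₀ : ℂ) • ϑ := fun hinv => by
    have hcl := Cfsg.Agent.Char.clifford_restrict (N := N) ⟨χ, hχ⟩ ⟨ϑ, hϑ⟩ hcon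
    rw [show Cfsg.Agent.Char.cliffOrbit N (⟨ϑ, hϑ⟩ : Cfsg.IrrCharacter N) = {⟨ϑ, hϑ⟩} from by
      refine Finset.eq_singleton_iff_unique_mem.2 ⟨Cfsg.Agent.Char.self_mem_cliffOrbit _, fun φ hφ => ?_⟩
      obtain ⟨g, rfl⟩ := Cfsg.Agent.Char.mem_cliffOrbit.1 hφ
      exact Subtype.ext (funext fun n => hinv g n), Finset.sum_singleton] at hcl
    refine hcl.trans ?_
    show Cfsg.classInner (fun n : N => χ n) ϑ • ϑ = _
    rw [he₀']
  have heq : ∀ e : ℕ, (fun n : N => χ n) = (e : ℂ) • ϑ → e₀ = e := fun e h => by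
    rw [h, Cfsg.Agent.Char.classInner_smul_left, Cfsg.Agent.Char.irr_self hϑ, mul_one] at he₀'
    exact_mod_cast he₀'.symm
  have hinvof : ∀ e : ℕ, (fun n : N => χ n) = (e : ℂ) • ϑ →
      ∀ (g : G) (n : N), ϑ (MulAut.conjNormal g n) = ϑ n := fun e h g n => by
    have he : (e : ℂ) ≠ 0 := fun h0 => hcon (by
      rw [h, h0, zero_smul, Cfsg.Agent.Char.classInner_zero_left])
    have h1 : χ (MulAut.conjNormal g n : N) = (e : ℂ) * ϑ (MulAut.conjNormal g n) := congrFun h _
    have h2 : χ n = (e : ℂ) * ϑ n := congrFun h _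
    refine mul_left_cancel₀ he ?_
    rw [← h1, ← h2, MulAut.conjNormal_apply, Cfsg.Agent.Char.isClassFunction_character hχc]
  have hnorm : (∑ g : G, Complex.normSq (χ g)) = (Nat.card G : ℝ) := by
    have h := Cfsg.Agent.Char.irr_self hχ
    simp only [Cfsg.classInner, Complex.mul_conj] at h
    rw [inv_mul_eq_one₀ (Nat.cast_ne_zero.2 Nat.card_pos.ne')] at h
    exact_mod_cast h.symm
  have hnormϑ : (∑ n : N, Complex.normSq (ϑ n)) = (Nat.card N : ℝ) := by
    have h := Cfsg.Agent.Char.irr_self hϑ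
    simp only [Cfsg.classInner, Complex.mul_conj] at h
    rw [inv_mul_eq_one₀ (Nat.cast_ne_zero.2 Nat.card_pos.ne')] at h
    exact_mod_cast h.symm
  have hvan : (fun n : N => χ n) = (e₀ : ℂ) • ϑ →
      ((∀ g : G, g ∉ N → χ g = 0) ↔ e₀ ^ 2 = N.index) := fun h => by
    have hN : ∑ g ∈ Finset.univ.filter (· ∈ N), Complex.normSq (χ g) = (e₀ : ℝ) ^ 2 * Nat.card N := by
      rw [← hnormϑ, Finset.mul_sum, Finset.sum_subtype (Finset.univ.filter (· ∈ N))
        (p := (· ∈ N)) (fun x => by simp)]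
      refine Finset.sum_congr rfl fun n _ => ?_
      rw [show χ n = (e₀ : ℂ) * ϑ n from congrFun h n, map_mul, Complex.normSq_natCast, sq]
    have hsplit := Finset.sum_filter_add_sum_filter_not Finset.univ (· ∈ N)
      (fun g => Complex.normSq (χ g))
    rw [hnorm, hN, ← N.index_mul_card, Nat.cast_mul] at hsplit
    have hcard : (Nat.card N : ℝ) ≠ 0 := Nat.cast_ne_zero.2 Nat.card_pos.ne'
    constructor
    · intro hv
      rw [Finset.sum_eq_zero (s := Finset.univ.filter fun g => ¬ g ∈ N)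
        (fun g hg => by rw [hv g (Finset.mem_filter.1 hg).2, map_zero]), add_zero] at hsplit
      exact_mod_cast mul_right_cancel₀ hcard hsplit
    · intro hm g hg
      rw [← hm, Nat.cast_pow, add_eq_left] at hsplit
      exact Complex.normSq_eq_zero.1 ((Finset.sum_eq_zero_iff_of_nonneg
        fun _ _ => Complex.normSq_nonneg _).1 hsplit g (by simp [hg]))
  have hinv_iff : ∀ (g : G) (n : N), ϑ ⟨g * n * g⁻¹, hN.conj_mem (n : G) n.2 g⟩ = ϑ (MulAut.conjNormal g n) :=
    fun g n => rfl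
  have huniq : (∀ (g : G) (n : N), ϑ (MulAut.conjNormal g n) = ϑ n) →
      ((∀ ψ : G → ℂ, Cfsg.IsIrrCharacter G ψ → Cfsg.classInner (Cfsg.indFun N ϑ) ψ ≠ 0 → ψ = χ) ↔
        e₀ ^ 2 = N.index) := fun hinv => by
    obtain ⟨f, hf⟩ := Cfsg.Agent.Char.exists_decomposition (Cfsg.Agent.Char.isCharacter_indFun N hϑc)
    have hcoef := fun ψ => Cfsg.Agent.Char.decomposition_coeff f hf ψ
    have hfχ : f ⟨χ, hχ⟩ = e₀ := by
      have := hcoef ⟨χ, hχ⟩
      rw [Cfsg.Agent.Char.frobenius N ϑ (Cfsg.Agent.Char.isClassFunction_character hχc),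
        ← Cfsg.Agent.Char.classInner_symm, he₀', map_natCast] at this
      exact_mod_cast this.symm
    have hsq : ∑ ψ, f ψ * f ψ = N.index := by
      have h1 : (N.index : ℂ) = ∑ ψ, (f ψ : ℂ) * f ψ := by
        rw [← Cfsg.Agent.Char.norm_indFun_invariant N hϑ hinv]
        nth_rewrite 1 [hf]
        rw [Cfsg.Agent.Char.classInner_sum_left]
        refine Finset.sum_congr rfl fun β _ => ?_
        rw [← Nat.cast_smul_eq_nsmul ℂ, Cfsg.Agent.Char.classInner_smul_left,
          ← Cfsg.Agent.Char.classInner_symm, hcoef, map_natCast]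
      exact_mod_cast h1.symm
    rw [← Finset.add_sum_erase _ _ (Finset.mem_univ (⟨χ, hχ⟩ : Cfsg.IrrCharacter G)), hfχ] at hsq
    constructor
    · intro hu
      rw [Finset.sum_eq_zero (fun ψ hψ => ?_), add_zero] at hsq
      · rw [← hsq, sq]
      · by_contra h0
        refine (Finset.mem_erase.1 hψ).1 (Subtype.ext (hu ψ ψ.2 ?_))
        rw [hcoef, Nat.cast_ne_zero]
        exact fun h => h0 (by simp [h])
    · intro hm ψ hψ hne
      by_contra hψχ
      rw [← hm, sq] at hsq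
      have h0 := (Finset.sum_eq_zero_iff.1 (add_eq_left.1 hsq)) ⟨ψ, hψ⟩
        (Finset.mem_erase.2 ⟨fun h => hψχ (congrArg Subtype.val h), Finset.mem_univ _⟩)
      rw [hcoef ⟨ψ, hψ⟩] at hne
      exact hne (by simpa using mul_self_eq_zero.1 h0)
  constructor
  · constructor
    · rintro ⟨e, he, hm⟩
      obtain rfl := heq e he
      exact ⟨(hvan he).2 hm, fun g n => hinvof _ he g n⟩
    · rintro ⟨hv, hinv⟩
      exact ⟨e₀, hmult hinv, (hvan (hmult hinv)).1 hv⟩
  · constructor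
    · rintro ⟨e, he, hm⟩ g n
      obtain rfl := heq e he
      exact ⟨hinvof _ he g n, (huniq (hinvof _ he)).2 hm⟩
    · intro h
      have hinv : ∀ (g : G) (n : N), ϑ (MulAut.conjNormal g n) = ϑ n := fun g n => (h g n).1
      exact ⟨e₀, hmult hinv, (huniq hinv).1 (h 1 1).2⟩

end Cfsg.Agent.S0900
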