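import Cfsg.Statements.S0901
import Cfsg.Agent.Lib.Char.Congr

set_option autoImplicit false
open Cfsg
open scoped ComplexConjugate

namespace Cfsg.Agent.S0901

/-- Let M be a maximal ideal of the ring of algebraic integers containing the prime p, and let U be the set of complex roots of unity of order prime to p. Then reduction modulo M is injective on U, and every algebraic integer not in M is congruent modulo M to an element of U (so U maps bijectively onto the nonzero residues). -/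
theorem result (p : ℕ) [Fact p.Prime] (M : Ideal Cfsg.AlgInt) (hM : Cfsg.IsPModular p M) : (∀ ε₁ ε₂ : Cfsg.AlgInt, (∃ m : ℕ, ¬ p ∣ m ∧ (ε₁ : ℂ) ^ m = 1) → (∃ m : ℕ, ¬ p ∣ m ∧ (ε₂ : ℂ) ^ m = 1) → ε₁ - ε₂ ∈ M → ε₁ = ε₂) ∧ (∀ a : Cfsg.AlgInt, a ∉ M → ∃ ε : Cfsg.AlgInt, (∃ m : ℕ, ¬ p ∣ m ∧ (ε : ℂ) ^ m = 1) ∧ a - ε ∈ M) := by
  classical
  have hp : p.Prime := hM.1
  haveI hmax : M.IsMaximal := hM.2.1
  have hone : ∀ z : AlgInt, (∃ m : ℕ, ¬ p ∣ m ∧ z ^ m = 1) → z - 1 ∈ M → z = 1 := by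
    rintro z ⟨m, hm, hz⟩ hzM
    by_contra hne
    have hgeom : (∑ i ∈ Finset.range m, z ^ i) * (z - 1) = 0 := by
      rw [geom_sum_mul, hz, sub_self]
    have hsum : ∑ i ∈ Finset.range m, z ^ i = 0 :=
      (mul_eq_zero.mp hgeom).resolve_right (sub_ne_zero.mpr hne)
    have hmM : (m : AlgInt) ∈ M := by
      have : (m : AlgInt) = ∑ i ∈ Finset.range m, (1 - z ^ i) := by
        rw [Finset.sum_sub_distrib, hsum, sub_zero, Finset.sum_const, Finset.card_range,
          nsmul_eq_mul, mul_one]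
      rw [this]
      refine Ideal.sum_mem _ fun i _ => ?_
      rw [← neg_sub, ← geom_sum_mul z i]
      exact neg_mem (Ideal.mul_mem_left _ _ hzM)
    refine hm ((Char.memLI_natCast_iff hM m).mp ?_)
    have := (Char.memLI_coe_iff (M := M) hmax.isPrime (m : AlgInt)).mpr hmM
    simpa using this
  constructor
  · rintro ε₁ ε₂ ⟨m₁, hm₁, h1⟩ ⟨m₂, hm₂, h2⟩ hd
    have h1' : ε₁ ^ m₁ = 1 := Subtype.ext (by simpa using h1)
    have h2' : ε₂ ^ m₂ = 1 := Subtype.ext (by simpa using h2)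
    have hm20 : m₂ ≠ 0 := fun h => hm₂ (h ▸ dvd_zero p)
    obtain ⟨k, rfl⟩ := Nat.exists_eq_succ_of_ne_zero hm20
    have hinv : ε₂ * ε₂ ^ k = 1 := by rw [← pow_succ']; exact h2'
    have hz1 : ε₁ * ε₂ ^ k = 1 := by
      refine hone _ ⟨m₁ * k.succ, fun h => (hp.dvd_mul.mp h).elim hm₁ hm₂, ?_⟩ ?_
      · rw [mul_pow, pow_mul, h1', one_pow, one_mul, ← pow_mul,
          show k * (m₁ * k.succ) = k.succ * (k * m₁) by ring, pow_mul, h2', one_pow]
      · rw [show ε₁ * ε₂ ^ k - 1 = (ε₁ - ε₂) * ε₂ ^ k by rw [sub_mul, hinv]]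
        exact Ideal.mul_mem_right _ _ hd
    calc ε₁ = ε₁ * (ε₂ * ε₂ ^ k) := by rw [hinv, mul_one]
      _ = ε₁ * ε₂ ^ k * ε₂ := by ring
      _ = ε₂ := by rw [hz1, one_mul]
  · intro a ha
    letI : Field (AlgInt ⧸ M) := Ideal.Quotient.field M
    set b : AlgInt ⧸ M := Ideal.Quotient.mk M a with hb
    haveI hch : CharP (AlgInt ⧸ M) p := by
      refine (CharP.charP_iff_prime_eq_zero hp).mpr ?_
      rw [← map_natCast (Ideal.Quotient.mk M), Ideal.Quotient.eq_zero_iff_mem]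
      exact hM.2.2
    have hint : IsIntegral ℤ b :=
      (Algebra.IsIntegral.isIntegral (R := ℤ) a).map (Ideal.Quotient.mkₐ ℤ M)
    haveI : Module.Finite ℤ (Algebra.adjoin ℤ ({b} : Set (AlgInt ⧸ M))) :=
      Module.Finite.iff_fg.mpr hint.fg_adjoin_singleton
    haveI : Finite (Algebra.adjoin ℤ ({b} : Set (AlgInt ⧸ M))) := by
      refine Module.finite_of_fg_torsion _ fun {x} => ⟨⟨(p : ℤ),
        mem_nonZeroDivisors_iff_ne_zero.mpr (Int.natCast_ne_zero.mpr hp.ne_zero)⟩, ?_⟩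
      refine Subtype.ext ?_
      show ((p : ℤ) • (x : AlgInt ⧸ M)) = 0
      rw [zsmul_eq_mul, Int.cast_natCast, CharP.cast_eq_zero, zero_mul]
    obtain ⟨i, j, hne, hij⟩ := Finite.exists_ne_map_eq_of_infinite fun n : ℕ =>
      (⟨b ^ n, pow_mem (Algebra.self_mem_adjoin_singleton ℤ b) n⟩ :
        Algebra.adjoin ℤ ({b} : Set (AlgInt ⧸ M)))
    have hij' : b ^ i = b ^ j := congrArg Subtype.val hij
    have hb0 : b ≠ 0 := fun h => ha (Ideal.Quotient.eq_zero_iff_mem.mp h)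
    obtain ⟨d, hd, hbd⟩ : ∃ d, 0 < d ∧ b ^ d = 1 := by
      rcases Nat.lt_or_gt_of_ne hne with h | h
      · refine ⟨j - i, Nat.sub_pos_of_lt h, mul_left_cancel₀ (pow_ne_zero i hb0) ?_⟩
        rw [← pow_add, Nat.add_sub_cancel' h.le, mul_one, hij']
      · refine ⟨i - j, Nat.sub_pos_of_lt h, mul_left_cancel₀ (pow_ne_zero j hb0) ?_⟩
        rw [← pow_add, Nat.add_sub_cancel' h.le, mul_one, hij']
    obtain ⟨e, m, hm, rfl⟩ := Nat.exists_eq_pow_mul_and_not_dvd hd.ne' p hp.ne_one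
    have hbm : b ^ m = 1 := by
      haveI := Fact.mk hp
      have hinj : Function.Injective (fun x : AlgInt ⧸ M => x ^ p ^ e) :=
        iterateFrobenius_inj (AlgInt ⧸ M) p e
      exact hinj (by simp only [one_pow, ← pow_mul, mul_comm m, hbd])
    have hm0 : m ≠ 0 := fun h => hm (h ▸ dvd_zero p)
    set ζ : ℂ := Complex.exp (2 * Real.pi * Complex.I / m) with hζ
    have hζm : IsPrimitiveRoot ζ m := Complex.isPrimitiveRoot_exp m hm0
    let z : AlgInt := ⟨ζ, IsIntegral.of_pow (Nat.pos_of_ne_zero hm0)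
      (by rw [hζm.pow_eq_one]; exact isIntegral_one)⟩
    have hzm : IsPrimitiveRoot z m :=
      IsPrimitiveRoot.of_map_of_injective (f := AlgInt.val) (by simpa [z] using hζm)
        Subtype.val_injective
    have hroot : ∏ i ∈ Finset.range m, (b - Ideal.Quotient.mk M (z ^ i)) = 0 := by
      have hpoly : (Polynomial.X ^ m - 1 : Polynomial AlgInt) =
          ∏ i ∈ Finset.range m, (Polynomial.X - Polynomial.C (z ^ i)) := by
        have hmem : (1 : AlgInt) ∈ Set.univ := trivial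
        rw [show (1 : Polynomial AlgInt) = Polynomial.C 1 from Polynomial.C_1.symm,
          X_pow_sub_C_eq_prod hzm (Nat.pos_of_ne_zero hm0) (one_pow m)]
        exact Finset.prod_congr rfl fun i _ => by rw [mul_one]
      have := congrArg (Polynomial.eval₂ (Ideal.Quotient.mk M) b) hpoly
      simp only [Polynomial.eval₂_sub, Polynomial.eval₂_X_pow, Polynomial.eval₂_one,
        Polynomial.eval₂_finsetProd, Polynomial.eval₂_X, Polynomial.eval₂_C] at this
      rw [← this, hbm, sub_self]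
    obtain ⟨i, -, hi⟩ := Finset.prod_eq_zero_iff.mp hroot
    refine ⟨z ^ i, ⟨m, hm, ?_⟩, ?_⟩
    · show ((z ^ i : AlgInt) : ℂ) ^ m = 1
      rw [← SubmonoidClass.coe_pow, ← pow_mul, mul_comm, pow_mul, hzm.pow_eq_one, one_pow]
      rfl
    · rw [← Ideal.Quotient.eq]
      exact sub_eq_zero.mp hi

end Cfsg.Agent.S0901
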