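import Cfsg.Statements.S0902
import Cfsg.Agent.Lib.Char.Height

set_option autoImplicit false
open Cfsg
open scoped ComplexConjugate

namespace Cfsg.Agent.S0902

/-- If two irreducible characters of a finite group lie in the same block relative to one maximal ideal M of the algebraic integers containing the prime p, then at every element the difference of their central characters is an algebraic integer lying in every maximal ideal containing p; in particular they lie in the same block relative to any such ideal. -/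
theorem result {G : Type*} [Group G] [Finite G] (p : ℕ) [Fact p.Prime] (M : Ideal Cfsg.AlgInt) (hM : Cfsg.IsPModular p M) (χ ψ : Cfsg.IrrCharacter G) (h : Cfsg.SameBlock M (χ : G → ℂ) (ψ : G → ℂ)) (M' : Ideal Cfsg.AlgInt) (hM' : Cfsg.IsPModular p M') (g : G) : ∃ r : Cfsg.AlgInt, r ∈ M' ∧ (r : ℂ) = Cfsg.centralChar (χ : G → ℂ) g - Cfsg.centralChar (ψ : G → ℂ) g := by
  have := Fintype.ofFinite G
  have h' := (Cfsg.Agent.Char.sameBlock_iff_linked hM' χ ψ).mpr
    ((Cfsg.Agent.Char.sameBlock_iff_linked hM χ ψ).mp h) g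
  have hint : IsIntegral ℤ (Cfsg.centralChar (χ : G → ℂ) g - Cfsg.centralChar (ψ : G → ℂ) g) := by
    rw [← Cfsg.Agent.Char.omega_eq_centralChar, ← Cfsg.Agent.Char.omega_eq_centralChar]
    exact (Cfsg.Agent.Char.omega_isIntegral χ.2 g).sub (Cfsg.Agent.Char.omega_isIntegral ψ.2 g)
  refine ⟨⟨_, hint⟩, ?_, rfl⟩
  exact (Cfsg.Agent.Char.memLI_coe_iff (Cfsg.Agent.Char.pmod_prime hM') ⟨_, hint⟩).mp h'

end Cfsg.Agent.S0902
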