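import Cfsg.Statements.S0903
import Mathlib

set_option autoImplicit false
open Cfsg

namespace Cfsg.Agent.S0903

/-- Let P be a p-subgroup of the finite group G, let c centralize P and let g, h ∈ G. The number of pairs (x, y) with x conjugate to g, y conjugate to h and x * y = c is congruent modulo p to the number of such pairs in which x and y both centralize P. (This is why the Brauer map on class sums is multiplicative.) -/
theorem result {G : Type*} [Group G] [Finite G] (p : ℕ) [Fact p.Prime] (P : Subgroup G) (hP : IsPGroup p P) (c : G) (hc : c ∈ Subgroup.centralizer (P : Set G)) (g h : G) : Nat.card {xy : G × G // IsConj g xy.1 ∧ IsConj h xy.2 ∧ xy.1 * xy.2 = c} ≡ Nat.card {xy : G × G // IsConj g xy.1 ∧ IsConj h xy.2 ∧ xy.1 * xy.2 = c ∧ xy.1 ∈ Subgroup.centralizer (P : Set G) ∧ xy.2 ∈ Subgroup.centralizer (P : Set G)} [MOD p] := by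
  classical
  let X := {xy : G × G // IsConj g xy.1 ∧ IsConj h xy.2 ∧ xy.1 * xy.2 = c}
  have hc' : ∀ u : P, (u : G) * c * (u : G)⁻¹ = c := fun u => by
    rw [Subgroup.mem_centralizer_iff] at hc
    rw [hc u u.2]; group
  letI : MulAction P X :=
    { smul := fun u t => ⟨((u : G) * t.1.1 * (u : G)⁻¹, (u : G) * t.1.2 * (u : G)⁻¹),
        t.2.1.trans (isConj_iff.2 ⟨_, rfl⟩), t.2.2.1.trans (isConj_iff.2 ⟨_, rfl⟩), by
          calc (u : G) * t.1.1 * (u : G)⁻¹ * ((u : G) * t.1.2 * (u : G)⁻¹) =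
              (u : G) * (t.1.1 * t.1.2) * (u : G)⁻¹ := by group
            _ = c := by rw [t.2.2.2, hc']⟩
      one_smul := fun t => by
        apply Subtype.ext
        show (((1 : P) : G) * t.1.1 * ((1 : P) : G)⁻¹, ((1 : P) : G) * t.1.2 * ((1 : P) : G)⁻¹) = t.1
        simp
      mul_smul := fun u v t => by
        apply Subtype.ext
        show (((u * v : P) : G) * t.1.1 * ((u * v : P) : G)⁻¹, ((u * v : P) : G) * t.1.2 * ((u * v : P) : G)⁻¹) =
          ((u : G) * ((v : G) * t.1.1 * (v : G)⁻¹) * (u : G)⁻¹,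
            (u : G) * ((v : G) * t.1.2 * (v : G)⁻¹) * (u : G)⁻¹)
        simp [mul_assoc] }
  refine (hP.card_modEq_card_fixedPoints X).trans (congrArg (fun k => k % p) (Nat.card_congr ?_))
  have fix : ∀ (w : G) (u : G), u * w * u⁻¹ = w ↔ u * w = w * u := fun w u => mul_inv_eq_iff_eq_mul
  refine
    { toFun := fun t => ⟨t.1.1, t.1.2.1, t.1.2.2.1, t.1.2.2.2, ?_, ?_⟩
      invFun := fun t => ⟨⟨t.1, t.2.1, t.2.2.1, t.2.2.2.1⟩, fun u => Subtype.ext (Prod.ext
        ((fix _ _).2 (Subgroup.mem_centralizer_iff.1 t.2.2.2.2.1 u u.2))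
        ((fix _ _).2 (Subgroup.mem_centralizer_iff.1 t.2.2.2.2.2 u u.2)))⟩
      left_inv := fun t => rfl
      right_inv := fun t => rfl }
  · rw [Subgroup.mem_centralizer_iff]
    exact fun u hu => (fix _ _).1 (congrArg (fun z : X => z.1.1) (t.2 ⟨u, hu⟩))
  · rw [Subgroup.mem_centralizer_iff]
    exact fun u hu => (fix _ _).1 (congrArg (fun z : X => z.1.2) (t.2 ⟨u, hu⟩))

end Cfsg.Agent.S0903
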