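import Cfsg.Statements.S0910
import Cfsg.Agent.Lib.Char.Burnside
import Cfsg.Agent.Lib.Char.BlockInter

set_option autoImplicit false
open Cfsg Cfsg.Agent.Char
open scoped ComplexConjugate

namespace Cfsg.Agent.S0910

/-- Let G be a non-abelian finite simple group and p a prime. If an irreducible character χ lies in the principal block (relative to a maximal ideal of the algebraic integers containing p) and χ 1 is a power of p, then χ is the principal character. -/
theorem result {G : Type*} [Group G] [Finite G] (p : ℕ) [Fact p.Prime] (M : Ideal Cfsg.AlgInt) (hM : Cfsg.IsPModular p M) [IsSimpleGroup G] (hna : ∃ a b : G, a * b ≠ b * a) (χ : Cfsg.IrrCharacter G) (hχ : χ ∈ Cfsg.principalBlock M G) (k : ℕ) (hdeg : (χ : G → ℂ) 1 = (p : ℂ) ^ k) : (χ : G → ℂ) = fun _ => 1 := by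
  haveI := Fintype.ofFinite G
  classical
  have hp := hM.1
  have hP := pmod_prime hM
  have hcen : Subgroup.center G = ⊥ := (inferInstance : (Subgroup.center G).Normal).eq_bot_or_eq_top
    |>.resolve_right fun h => by
      obtain ⟨a, b, hab⟩ := hna
      exact hab (Subgroup.mem_center_iff.mp (h ▸ Subgroup.mem_top b : b ∈ Subgroup.center G) a)
  by_cases hk : k = 0
  · subst hk
    rw [pow_zero] at hdeg
    have hcom : commutator G = ⊤ := (inferInstance : (commutator G).Normal).eq_bot_or_eq_top
      |>.resolve_left fun h => by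
        rw [commutator_eq_bot_iff_center_eq_top, hcen] at h
        exact bot_ne_top h
    obtain ⟨l, hl⟩ := exists_hom_of_degree_one (irr_isCharacter χ.2) hdeg
    funext g
    have hg : g ∈ l.ker := Abelianization.commutator_subset_ker l (hcom ▸ Subgroup.mem_top g)
    rw [hl]
    simp [MonoidHom.mem_ker.mp hg]
  exfalso
  obtain ⟨n, ρ, hρ, hρχ⟩ := χ.2
  have hdeg' : deg (χ : G → ℂ) = p ^ k := by
    apply Nat.cast_injective (R := ℂ)
    rw [← char_one_eq_deg (irr_isCharacter χ.2), hdeg, Nat.cast_pow]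
  have hn : Module.finrank ℂ (Fin n → ℂ) = p ^ k := by rw [← deg_character ρ, hρχ, hdeg']
  have hpG : p ∣ Nat.card G := by
    refine Dvd.dvd.trans ?_ (deg_dvd_card χ.2)
    rw [hdeg']; exact dvd_pow_self p hk
  obtain ⟨P⟩ := (inferInstance : Nonempty (Sylow p G))
  have hPne : Nontrivial P := by
    rw [← Finite.one_lt_card_iff_nontrivial, P.card_eq_multiplicity]
    exact Nat.one_lt_pow (hp.factorization_pos_of_dvd Nat.card_pos.ne' hpG).ne' hp.one_lt
  have : Nontrivial (Subgroup.center P) := P.isPGroup'.center_nontrivial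
  obtain ⟨⟨z, hz⟩, hz1⟩ := exists_ne (1 : Subgroup.center P)
  have hgne : (z : G) ≠ 1 := fun h => hz1 (Subtype.ext (Subtype.ext h))
  have hle : (P : Subgroup G) ≤ Subgroup.centralizer ({(z : G)} : Set G) := fun x hx => by
    rw [Subgroup.mem_centralizer_singleton_iff]
    exact congrArg Subtype.val (Subgroup.mem_center_iff.mp hz ⟨x, hx⟩)
  have hnd : ¬ p ∣ (Subgroup.centralizer ({(z : G)} : Set G)).index :=
    fun h => P.not_dvd_index (h.trans (Subgroup.index_dvd_of_le hle))
  have hcc : (χ : G → ℂ) (z : G) ≠ 0 := by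
    intro h0
    have h := (block_sameBlock hP ⟨⟨fun _ => 1, isIrrCharacter_one⟩, rfl⟩
      (one_mem_principal hM) hχ) (z : G)
    simp only [centralChar, h0, mul_zero, zero_div, sub_zero, mul_one, div_one] at h
    exact hnd ((memLI_natCast_iff hM _).mp h)
  rcases vanish_or_full ρ hρ (z : G)
    (by rw [hn]; exact (hp.coprime_iff_not_dvd.mpr hnd).pow_left k) with h0 | hfull
  · exact hcc (by rw [← hρχ]; exact h0)
  obtain ⟨ω, hω⟩ := (eq_scalar_iff ρ _).mp hfull
  have hker : ρ.ker = ⊥ := ((inferInstance : ρ.ker.Normal).eq_bot_or_eq_top).resolve_right fun ht => by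
    have h1 := finrank_eq_one_of_trivial hρ fun g =>
      MonoidHom.mem_ker.mp (ht ▸ Subgroup.mem_top g : g ∈ ρ.ker)
    rw [hn, Nat.pow_eq_one] at h1
    exact h1.elim hp.ne_one hk
  refine hgne ?_
  have hzc : (z : G) ∈ Subgroup.center G := Subgroup.mem_center_iff.mpr fun y =>
    (MonoidHom.ker_eq_bot_iff ρ).mp hker (by
      rw [map_mul, map_mul, hω, ← Module.End.one_eq_id, mul_smul_comm, smul_mul_assoc, one_mul,
        mul_one])
  rwa [hcen, Subgroup.mem_bot] at hzc

end Cfsg.Agent.S0910
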