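import Cfsg.Statements.S0914
import Cfsg.Agent.Lib.Char.Height

set_option autoImplicit false
open Cfsg
open scoped ComplexConjugate

namespace Cfsg.Agent.S0914

/-- Let χ be an irreducible character of the finite group G, p a prime and M a maximal ideal of the algebraic integers containing p. Then p does not divide the integer (Nat.card G) / χ(1) if and only if the block of χ relative to M consists of χ alone. -/
theorem result {G : Type*} [Group G] [Finite G] (p : ℕ) [Fact p.Prime] (M : Ideal Cfsg.AlgInt) (hM : Cfsg.IsPModular p M) (χ : Cfsg.IrrCharacter G) : ¬ p ∣ Nat.card G / Cfsg.charDegree (χ : G → ℂ) ↔ Cfsg.blockOf M (χ : G → ℂ) = {χ} := by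
  have := Fintype.ofFinite G
  have hp := hM.1
  rw [Cfsg.Agent.Char.singleton_iff_dexp hM]
  have hd : Cfsg.charDegree (χ : G → ℂ) ∣ Nat.card G := Cfsg.Agent.Char.deg_dvd_card χ.2
  have hne : Nat.card G / Cfsg.charDegree (χ : G → ℂ) ≠ 0 :=
    (Nat.div_pos (Nat.le_of_dvd Nat.card_pos hd) (Cfsg.Agent.Char.deg_pos χ.2)).ne'
  rw [hp.dvd_iff_one_le_factorization hne, Nat.factorization_div hd, Finsupp.tsub_apply]
  have := Cfsg.Agent.Char.dexp_le (p := p) χ.2
  have h2 : (Cfsg.charDegree (χ : G → ℂ)).factorization p = Cfsg.Agent.Char.dexp p (χ : G → ℂ) := rfl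
  omega

end Cfsg.Agent.S0914
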