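import Cfsg.Statements.S0916
import Cfsg.Agent.Lib.Solv.Coprime

set_option autoImplicit false
open Cfsg

namespace Cfsg.Agent.S0916

/-- Let P be a p-subgroup of the finite group G, C its centralizer and N its normalizer. Say that a conjugacy class (of G, or of N) has defect group P when P is a Sylow p-subgroup of the centralizer (in G, respectively in N) of some element of the class. Then: (i) if the class of g in G has defect group P, the elements of that class lying in C form a single N-class, again with defect group P; (ii) every N-class with defect group P arises this way from exactly one G-class with defect group P. -/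
theorem result {G : Type*} [Group G] [Finite G] (p : ℕ) [Fact p.Prime] (P : Subgroup G) (hP : IsPGroup p P) : (∀ g : G, (∃ S : Sylow p (Subgroup.centralizer ({g} : Set G)), (S : Subgroup (Subgroup.centralizer ({g} : Set G))).map (Subgroup.centralizer ({g} : Set G)).subtype = P) → (∃ c : G, IsConj g c ∧ c ∈ Subgroup.centralizer (P : Set G)) ∧ (∀ c₁ c₂ : G, IsConj g c₁ → IsConj g c₂ → c₁ ∈ Subgroup.centralizer (P : Set G) → c₂ ∈ Subgroup.centralizer (P : Set G) → ∃ n ∈ Subgroup.normalizer (P : Set G), n * c₁ * n⁻¹ = c₂)) ∧ (∀ c : G, c ∈ Subgroup.centralizer (P : Set G) → (∃ S : Sylow p (Subgroup.centralizer ({c} : Set G) ⊓ Subgroup.normalizer (P : Set G) : Subgroup G), (S : Subgroup ↥(Subgroup.centralizer ({c} : Set G) ⊓ Subgroup.normalizer (P : Set G))).map (Subgroup.centralizer ({c} : Set G) ⊓ Subgroup.normalizer (P : Set G)).subtype = P) → ∃ S : Sylow p (Subgroup.centralizer ({c} : Set G)), (S : Subgroup (Subgroup.centralizer ({c} : Set G))).map (Subgroup.centralizer ({c} : Set G)).subtype = P) := by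
  classical
  refine ⟨fun g hg => ?_, fun c hc hS => ?_⟩
  · obtain ⟨S, hS⟩ := hg
    have hsg : Cfsg.Agent.Solv.IsSylIn p P (Subgroup.centralizer ({g} : Set G)) :=
      hS ▸ Cfsg.Agent.Solv.IsSylIn.of_sylow S
    have hcard : ∀ c : G, IsConj g c → Nat.card (Subgroup.centralizer ({c} : Set G)) =
        Nat.card (Subgroup.centralizer ({g} : Set G)) := by
      intro c hgc
      obtain ⟨x, rfl⟩ := isConj_iff.1 hgc
      refine (Nat.card_congr ((MulAut.conj x).toEquiv.subtypeEquiv (fun a => ?_))).symm
      simp only [Subgroup.mem_centralizer_singleton_iff, MulEquiv.toEquiv_eq_coe, EquivLike.coe_coe,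
        MulAut.conj_apply]
      constructor
      · intro h
        calc x * a * x⁻¹ * (x * g * x⁻¹) = x * (a * g) * x⁻¹ := by group
          _ = x * (g * a) * x⁻¹ := by rw [h]
          _ = _ := by group
      · intro h
        have := congrArg (fun t => x⁻¹ * t * x) h
        simpa [mul_assoc] using this
    have hsyl : ∀ c : G, IsConj g c → c ∈ Subgroup.centralizer (P : Set G) →
        Cfsg.Agent.Solv.IsSylIn p P (Subgroup.centralizer ({c} : Set G)) := by
      intro c hgc hcP
      refine ⟨fun u hu => Subgroup.mem_centralizer_singleton_iff.2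
        (Subgroup.mem_centralizer_iff.1 hcP u hu), ?_⟩
      rw [hcard c hgc]
      exact hsg.2
    refine ⟨⟨g, IsConj.refl g, Subgroup.mem_centralizer_iff.2 fun u hu =>
      Subgroup.mem_centralizer_singleton_iff.1 (hsg.1 hu)⟩, fun c₁ c₂ h1 h2 hc1 hc2 => ?_⟩
    obtain ⟨x, hx⟩ := isConj_iff.1 (h1.symm.trans h2)
    obtain ⟨Q₂, hQ₂⟩ := (hsyl c₂ h2 hc2).exists_sylow
    have hP1 := (hsyl c₁ h1 hc1)
    have hle : P.map (MulAut.conj x).toMonoidHom ≤ Subgroup.centralizer ({c₂} : Set G) := by
      rintro _ ⟨u, hu, rfl⟩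
      rw [Subgroup.mem_centralizer_singleton_iff, ← hx]
      show x * u * x⁻¹ * (x * c₁ * x⁻¹) = x * c₁ * x⁻¹ * (x * u * x⁻¹)
      have := Subgroup.mem_centralizer_singleton_iff.1 (hP1.1 hu)
      calc x * u * x⁻¹ * (x * c₁ * x⁻¹) = x * (u * c₁) * x⁻¹ := by group
        _ = x * (c₁ * u) * x⁻¹ := by rw [this]
        _ = _ := by group
    have hP2 : Cfsg.Agent.Solv.IsSylIn p (P.map (MulAut.conj x).toMonoidHom)
        (Subgroup.centralizer ({c₂} : Set G)) := by
      refine ⟨hle, ?_⟩
      rw [Subgroup.card_map_of_injective (MulAut.conj x).injective]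
      exact (hsyl c₂ h2 hc2).2
    obtain ⟨Q₁, hQ₁⟩ := hP2.exists_sylow
    obtain ⟨y, hy⟩ := MulAction.exists_smul_eq (Subgroup.centralizer ({c₂} : Set G)) Q₁ Q₂
    refine ⟨(y : G) * x, Subgroup.mem_normalizer_fintype (fun u hu => ?_), ?_⟩
    · have h3 : x * u * x⁻¹ ∈ P.map (MulAut.conj x).toMonoidHom := ⟨u, hu, rfl⟩
      rw [← hQ₁] at h3
      obtain ⟨w, hw, hwe⟩ := h3
      have h4 : y * w * y⁻¹ ∈ ((y • Q₁ : Sylow p _) : Subgroup (Subgroup.centralizer ({c₂} : Set G))) := by
        rw [Sylow.coe_subgroup_smul, Subgroup.mem_pointwise_smul_iff_inv_smul_mem]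
        convert (show w ∈ (Q₁ : Subgroup _) from hw) using 1
        simp [MulAut.smul_def, mul_assoc]
      rw [hy] at h4
      rw [← hQ₂]
      refine ⟨_, h4, ?_⟩
      simp only [Subgroup.coe_subtype] at hwe
      rw [Subgroup.coe_subtype, Subgroup.coe_mul, Subgroup.coe_mul, Subgroup.coe_inv, hwe]
      group
    · have := Subgroup.mem_centralizer_singleton_iff.1 y.2
      calc (y : G) * x * c₁ * ((y : G) * x)⁻¹ = (y : G) * (x * c₁ * x⁻¹) * (y : G)⁻¹ := by group
        _ = c₂ := by rw [hx, this]; group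
  · obtain ⟨S, hS⟩ := hS
    have h0 := Cfsg.Agent.Solv.IsSylIn.of_sylow S
    rw [hS] at h0
    clear hS S
    set K := Subgroup.centralizer ({c} : Set G) with hK
    set M := (K ⊓ Subgroup.normalizer (P : Set G) : Subgroup G)
    have hsM : Cfsg.Agent.Solv.IsSylIn p P M := h0
    have hPK : P ≤ K := hsM.1.trans inf_le_left
    obtain ⟨Q, hQ⟩ := (hP.comap_of_injective K.subtype K.subtype_injective).exists_le_sylow
    refine ⟨Q, ?_⟩
    set R := (Q : Subgroup K).map K.subtype with hR
    have hPR : P ≤ R := fun u hu => ⟨⟨u, hPK hu⟩, hQ (show ((⟨u, hPK hu⟩ : K) : G) ∈ P from hu), rfl⟩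
    have hRp : IsPGroup p R := Q.2.map _
    haveI : Group.IsNilpotent R := hRp.isNilpotent
    have hnc := Group.normalizerCondition_of_isNilpotent (G := R)
    rw [normalizerCondition_iff_only_full_group_self_normalizing] at hnc
    have htop : P.subgroupOf R = ⊤ := by
      refine hnc _ (le_antisymm (fun r hr => ?_) Subgroup.le_normalizer)
      have hrN : (r : G) ∈ Subgroup.normalizer (P : Set G) := Subgroup.mem_normalizer_fintype (fun u hu => by
        have := (Subgroup.mem_normalizer_iff.1 hr ⟨u, hPR hu⟩).1 (by simpa [Subgroup.mem_subgroupOf] using hu)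
        simpa [Subgroup.mem_subgroupOf] using this)
      have hrM : (r : G) ∈ M := ⟨Subgroup.map_subtype_le _ r.2, hrN⟩
      have hPM : P ≤ Subgroup.normalizer (P : Set G) := Subgroup.le_normalizer
      have hcl : P ⊔ Subgroup.zpowers (r : G) ≤ M := sup_le hsM.1 (Subgroup.zpowers_le.2 hrM)
      have hp' : IsPGroup p (P ⊔ Subgroup.zpowers (r : G) : Subgroup G) :=
        hRp.to_le (sup_le hPR (Subgroup.zpowers_le.2 r.2))
      have := hsM.eq_of_le hp' hcl le_sup_left
      rw [Subgroup.mem_subgroupOf, this]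
      exact Subgroup.mem_sup_right (Subgroup.mem_zpowers _)
    rw [Subgroup.subgroupOf_eq_top] at htop
    exact le_antisymm htop hPR

end Cfsg.Agent.S0916
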