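import Cfsg.Statements.S0920
import Cfsg.Agent.Lib.Char.FirstMainInduced

set_option autoImplicit false
open Cfsg
open scoped ComplexConjugate

namespace Cfsg.Agent.S0920

/-- Brauer's First Main Theorem. Let D be a p-subgroup of the finite group G with normalizer N, and fix a maximal ideal M of the algebraic integers containing p. Then (i) every block b of N having D as a defect group induces some block B of G having D as a defect group; (ii) every block of G with defect group D is induced by exactly one block of N with defect group D. -/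
theorem result {G : Type*} [Group G] [Finite G] (p : ℕ) [Fact p.Prime] (M : Ideal Cfsg.AlgInt) (hM : Cfsg.IsPModular p M) (D : Subgroup G) (hD : IsPGroup p D) : (∀ b : Set (Cfsg.IrrCharacter (Subgroup.normalizer (D : Set G))), Cfsg.IsPBlock M b → Cfsg.IsDefectGroup p M b (D.subgroupOf (Subgroup.normalizer (D : Set G))) → ∃ B : Set (Cfsg.IrrCharacter G), Cfsg.IsPBlock M B ∧ Cfsg.IsDefectGroup p M B D ∧ Cfsg.IsInducedBlock M (Subgroup.normalizer (D : Set G)) b B) ∧ (∀ B : Set (Cfsg.IrrCharacter G), Cfsg.IsPBlock M B → Cfsg.IsDefectGroup p M B D → ∃! b : Set (Cfsg.IrrCharacter (Subgroup.normalizer (D : Set G))), Cfsg.IsPBlock M b ∧ Cfsg.IsDefectGroup p M b (D.subgroupOf (Subgroup.normalizer (D : Set G))) ∧ Cfsg.IsInducedBlock M (Subgroup.normalizer (D : Set G)) b B) := by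
  classical
  haveI := Fintype.ofFinite G
  suffices key : ∀ (H : Subgroup G) (P0 : Subgroup H), P0.map H.subtype = D →
      H = Subgroup.normalizer (D : Set G) →
      (∀ b : Set (IrrCharacter H), IsPBlock M b → IsDefectGroup p M b P0 →
        ∃ B : Set (IrrCharacter G), IsPBlock M B ∧ IsDefectGroup p M B D ∧ IsInducedBlock M H b B) ∧
      (∀ B : Set (IrrCharacter G), IsPBlock M B → IsDefectGroup p M B D →
        ∃! b : Set (IrrCharacter H), IsPBlock M b ∧ IsDefectGroup p M b P0 ∧ IsInducedBlock M H b B) from
    key _ _ (Subgroup.map_subgroupOf_eq_of_le Subgroup.le_normalizer) rfl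
  intro H P0 h hH
  subst h
  haveI := Fintype.ofFinite H
  exact Char.first_main hM P0 hH

end Cfsg.Agent.S0920
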