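import Cfsg.Statements.S0925
import Cfsg.Agent.Lib.Char.SectionPart

set_option autoImplicit false
open Cfsg
open scoped ComplexConjugate

namespace Cfsg.Agent.S0925

/-- (i) Let ϑ be a class function on the finite group G and x a p-element, and suppose ϑ vanishes at every element whose p-part is conjugate to x. Then for every block B (relative to a maximal ideal M of the algebraic integers containing p) the B-part of ϑ — the sum over χ ∈ B of the inner product of ϑ with χ, times χ — also vanishes at every such element. (ii) Block orthogonality, its corollary: if the p-parts of g and h are not conjugate, then the sum over χ ∈ B of χ g * χ h⁻¹ is zero for every block B. -/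
theorem result {G : Type*} [Group G] [Finite G] (p : ℕ) [Fact p.Prime] (M : Ideal Cfsg.AlgInt) (hM : Cfsg.IsPModular p M) : (∀ (ϑ : G → ℂ), Cfsg.IsClassFunction G ϑ → ∀ x : G, (∃ k : ℕ, orderOf x = p ^ k) → (∀ u z : G, Cfsg.IsPPart p u z → IsConj x z → ϑ u = 0) → ∀ B : Set (Cfsg.IrrCharacter G), Cfsg.IsPBlock M B → ∀ u z : G, Cfsg.IsPPart p u z → IsConj x z → Cfsg.blockPart B ϑ u = 0) ∧ (∀ g h x y : G, Cfsg.IsPPart p g x → Cfsg.IsPPart p h y → ¬ IsConj x y → ∀ B : Set (Cfsg.IrrCharacter G), Cfsg.IsPBlock M B → ∑ᶠ χ ∈ B, (χ : G → ℂ) g * (χ : G → ℂ) h⁻¹ = 0) := by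
  classical
  haveI := Fintype.ofFinite G
  refine ⟨fun ϑ hϑ x hx hzero B hB u z hu hxz =>
    Char.blockPart_eq_zero_of_isPPart hM hx hϑ hzero hB hu hxz, fun g h x y hg hh hxy B hB => ?_⟩
  have hP := Char.pmod_prime hM
  have hx : ∃ k : ℕ, orderOf x = p ^ k := by
    obtain ⟨w, -, -, hk, -⟩ := hg
    exact hk
  have hc := (Char.intClassFun_classInd (G := G) hP h).1
  have h0 := Char.blockPart_eq_zero_of_isPPart hM hx hc (B := B) (fun u z hu hxz => by
    simp only [Char.classInd]
    rw [if_neg]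
    intro hhu
    obtain ⟨c, rfl⟩ := isConj_iff.mp hhu
    obtain ⟨w, hw, hcom, ⟨k, hk⟩, hreg⟩ := hh
    refine hxy (hxz.trans ((isConj_iff.mpr ⟨c, Char.isPPart_unique hM.1 ?_ hu⟩).symm))
    refine ⟨c * w * c⁻¹, by rw [← hw]; group, ?_, ⟨k, ?_⟩, ?_⟩
    · simpa [MulAut.conj_apply] using hcom.map (MulAut.conj c)
    · rw [← hk, show c * y * c⁻¹ = MulAut.conj c y from rfl, MulEquiv.orderOf_eq]
    · rwa [show c * w * c⁻¹ = MulAut.conj c w from rfl, MulEquiv.orderOf_eq]) hB hg (IsConj.refl x)
  rw [Char.blockPart_eq] at h0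
  rw [Char.finsum_mem_irr]
  have e : ∀ χ : IrrCharacter G, classInner (Char.classInd h) (χ : G → ℂ) =
      (Nat.card G : ℂ)⁻¹ * (Finset.univ.filter (fun k => IsConj h k)).card * (χ : G → ℂ) h⁻¹ := by
    intro χ
    have hχ := Char.irr_isCharacter χ.2
    rw [Char.char_inv hχ, classInner, Nat.card_eq_fintype_card, mul_assoc]
    congr 1
    simp only [Char.classInd, ite_mul, one_mul, zero_mul]
    rw [← Finset.sum_filter, Finset.sum_congr rfl (g := fun _ => conj ((χ : G → ℂ) h)), Finset.sum_const,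
      nsmul_eq_mul]
    intro k hk
    obtain ⟨c, rfl⟩ := isConj_iff.mp (Finset.mem_filter.mp hk).2
    rw [Char.isClassFunction_character hχ h c]
  simp only [e, mul_assoc, ← Finset.mul_sum] at h0
  have hne : (Finset.univ.filter (fun k => IsConj h k)).card ≠ 0 :=
    Finset.card_ne_zero_of_mem (Finset.mem_filter.mpr ⟨Finset.mem_univ h, IsConj.refl h⟩)
  simp only [mul_eq_zero, inv_eq_zero, Nat.cast_eq_zero, hne, Nat.card_pos.ne', false_or] at h0
  rw [← h0]
  exact Finset.sum_congr rfl fun χ _ => mul_comm _ _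

end Cfsg.Agent.S0925
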