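import Cfsg.Statements.S0926
import Cfsg.Agent.Lib.Char.SectionPart
import Cfsg.Agent.Lib.Char.DefectLocal

set_option autoImplicit false
open Cfsg
open scoped ComplexConjugate

namespace Cfsg.Agent.S0926

/-- Let B be a block of the finite group G with defect group D (relative to a maximal ideal M of the algebraic integers containing p), let χ ∈ B have height zero, and let x be a p-element. Then some conjugate of x lies in D if and only if χ does not vanish on the whole p-section of x (the elements whose p-part is conjugate to x). -/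
theorem result {G : Type*} [Group G] [Finite G] (p : ℕ) [Fact p.Prime] (M : Ideal Cfsg.AlgInt) (hM : Cfsg.IsPModular p M) (B : Set (Cfsg.IrrCharacter G)) (hB : Cfsg.IsPBlock M B) (D : Subgroup G) (hD : Cfsg.IsDefectGroup p M B D) (χ : Cfsg.IrrCharacter G) (hχ : χ ∈ B) (h0 : Cfsg.blockHeight p B (χ : G → ℂ) = 0) (x : G) (hx : ∃ k : ℕ, orderOf x = p ^ k) : (∃ g : G, g * x * g⁻¹ ∈ D) ↔ ∃ u : G, (∃ z : G, Cfsg.IsPPart p u z ∧ IsConj x z) ∧ (χ : G → ℂ) u ≠ 0 := by
  classical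
  haveI := Fintype.ofFinite G
  haveI := Fact.mk hM.1
  have hP := Char.pmod_prime hM
  constructor
  · rintro ⟨g, hg⟩
    obtain ⟨y, hy, hDy⟩ := (Char.isDefectGroup_iff B D).mp hD
    obtain ⟨k, hk⟩ := IsPGroup.iff_orderOf.mp hDy.isPGroup ⟨g * x * g⁻¹, hg⟩
    rw [Subgroup.orderOf_mk] at hk
    refine ⟨g * x * g⁻¹ * y, ⟨g * x * g⁻¹, ⟨y, rfl,
      Subgroup.mem_centralizer_singleton_iff.mp (hDy.le hg), ⟨k, hk⟩,
      Char.defectClass_regular hM hB hy⟩, isConj_iff.mpr ⟨g, rfl⟩⟩, fun h => ?_⟩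
    exact Char.char_unit_at_section hM hB hy hDy hg hχ h0 (h ▸ Char.memLI_zero hP)
  · rintro ⟨u, ⟨z, hz, hxz⟩, hne⟩
    obtain ⟨E, hE, hzE⟩ := Char.mem_defect_of_ne_zero hM hB hχ hz hne
    obtain ⟨t, rfl⟩ := Char.defect_groups_conj hM hB hD hE
    obtain ⟨c, rfl⟩ := isConj_iff.mp hxz
    obtain ⟨d, hd, hde⟩ := hzE
    refine ⟨t⁻¹ * c, ?_⟩
    have : t * d * t⁻¹ = c * x * c⁻¹ := hde
    rw [show t⁻¹ * c * x * (t⁻¹ * c)⁻¹ = d by
      calc t⁻¹ * c * x * (t⁻¹ * c)⁻¹ = t⁻¹ * (c * x * c⁻¹) * t := by group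
        _ = t⁻¹ * (t * d * t⁻¹) * t := by rw [this]
        _ = d := by group]
    exact hd

end Cfsg.Agent.S0926
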