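import Cfsg.Statements.S0931
import Cfsg.Agent.Lib.Char.DefectLocal

set_option autoImplicit false
open Cfsg
open scoped ComplexConjugate

namespace Cfsg.Agent.S0931

/-- Let H be a subgroup of the finite group G and fix a maximal ideal M of the algebraic integers containing the prime p. If the block b of H induces the block B of G, then b has defect 0 if and only if B has defect 0. -/
theorem result {G : Type*} [Group G] [Finite G] (p : ℕ) [Fact p.Prime] (M : Ideal Cfsg.AlgInt) (hM : Cfsg.IsPModular p M) (H : Subgroup G) (b : Set (Cfsg.IrrCharacter H)) (B : Set (Cfsg.IrrCharacter G)) (hind : Cfsg.IsInducedBlock M H b B) : Cfsg.blockDefect p b = 0 ↔ Cfsg.blockDefect p B = 0 := by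
  have := Fintype.ofFinite G
  have := Fintype.ofFinite H
  obtain ⟨D, hD⟩ := Cfsg.Agent.Char.exists_isDefectGroup hM hind.1
  obtain ⟨E, hE, hDE⟩ := Cfsg.Agent.Char.induced_defect_le hM hind hD
  have hcD := Cfsg.Agent.Char.card_defectGroup hM hind.1 hD
  have hcE := Cfsg.Agent.Char.card_defectGroup hM hind.2.1 hE
  constructor
  · intro h0
    rw [h0, pow_zero, Subgroup.card_eq_one] at hcD
    subst hcD
    by_contra hne
    have hEp : IsPGroup p E := IsPGroup.of_card hcE
    have hEn : Nontrivial E := by
      rw [← Finite.one_lt_card_iff_nontrivial, hcE]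
      exact Nat.one_lt_pow hne hM.1.one_lt
    have : Nontrivial (Subgroup.center E) := hEp.center_nontrivial
    obtain ⟨⟨z, hz⟩, hz1⟩ := exists_ne (1 : Subgroup.center E)
    obtain ⟨g, hg, -⟩ := Cfsg.Agent.Char.induced_center_fusion hM hind hD hE z.2
      (fun w hw => congrArg Subtype.val (Subgroup.mem_center_iff.mp hz ⟨w, hw⟩).symm)
    rw [Subgroup.map_bot, Subgroup.mem_bot, conj_eq_one_iff] at hg
    exact hz1 (Subtype.ext (Subtype.ext hg))
  · intro h0
    rw [h0, pow_zero, Subgroup.card_eq_one] at hcE
    rw [hcE, le_bot_iff, Subgroup.map_eq_bot_iff_of_injective _ (Subgroup.subtype_injective _)] at hDE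
    rw [hDE, Subgroup.card_bot] at hcD
    exact ((Nat.pow_eq_one.mp hcD.symm).resolve_left hM.1.ne_one)

end Cfsg.Agent.S0931
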