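import Cfsg.Statements.S0934
import Cfsg.Agent.Lib.Char.Induced

set_option autoImplicit false
open Cfsg
open scoped ComplexConjugate

namespace Cfsg.Agent.S0934

/-- Let H be a subgroup of the finite group G and fix a maximal ideal M of the algebraic integers containing the prime p. If the block b of H induces the block B of G and ξ ∈ b, then there is χ ∈ B whose restriction to H has nonzero inner product with ξ. -/
theorem result {G : Type*} [Group G] [Fintype G] (p : ℕ) [Fact p.Prime] (M : Ideal Cfsg.AlgInt) (hM : Cfsg.IsPModular p M) (H : Subgroup G) [Fintype H] (b : Set (Cfsg.IrrCharacter H)) (B : Set (Cfsg.IrrCharacter G)) (hind : Cfsg.IsInducedBlock M H b B) (ξ : Cfsg.IrrCharacter H) (hξ : ξ ∈ b) : ∃ χ ∈ B, Cfsg.classInner (fun h : H => (χ : G → ℂ) h) (ξ : H → ℂ) ≠ 0 := by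
  classical
  have hMp := Cfsg.Agent.Char.pmod_prime hM
  by_contra hne
  push Not at hne
  obtain ⟨χ, hχ⟩ := Cfsg.Agent.Char.block_nonempty hMp hind.2.1
  have h1 := Cfsg.Agent.Char.induced_congr_fun hMp (fun g => hind.2.2 ξ hξ χ hχ g)
    (Cfsg.Agent.Char.isIntClassFun_blockCoeff hM hind.2.1)
  rw [Cfsg.Agent.Char.lam_blockCoeff, if_pos hχ] at h1
  have h2 : Cfsg.Agent.Char.lam (ξ : H → ℂ) (fun x : H => Cfsg.blockCoeff B (x : G)) = 0 := by
    rw [Cfsg.Agent.Char.lam, div_eq_zero_iff]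
    left
    simp only [Cfsg.Agent.Char.blockCoeff_eq, Finset.sum_apply, Finset.sum_mul]
    rw [Finset.sum_comm]
    refine Finset.sum_eq_zero fun ψ hψ => ?_
    have h3 := hne ψ (by simpa using hψ)
    rw [← Cfsg.Agent.Char.classInner_symm, map_eq_zero, Cfsg.classInner, mul_eq_zero] at h3
    have h4 := h3.resolve_left (inv_ne_zero (Nat.cast_ne_zero.mpr Nat.card_pos.ne'))
    calc ∑ x : H, Cfsg.Agent.Char.idem (ψ : G → ℂ) (x : G) * (ξ : H → ℂ) x
        = (Nat.card G : ℂ)⁻¹ * (ψ : G → ℂ) 1 *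
          ∑ x : H, (ξ : H → ℂ) x * conj ((ψ : G → ℂ) (x : G)) := by
          simp only [Cfsg.Agent.Char.idem, Finset.mul_sum]
          exact Finset.sum_congr rfl fun x _ => by ring
      _ = 0 := by rw [h4, mul_zero]
  rw [h2, zero_sub] at h1
  have h3 := Cfsg.Agent.Char.memLI_neg hMp h1
  rw [neg_neg] at h3
  exact Cfsg.Agent.Char.memLI_one_iff hMp h3

end Cfsg.Agent.S0934
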