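import Cfsg.Statements.S0935
import Cfsg.Agent.Lib.Char.InducedHeightZero

set_option autoImplicit false
open Cfsg
open scoped ComplexConjugate

namespace Cfsg.Agent.S0935

/-- Let H be a subgroup of the finite group G and χ an irreducible character of G whose restriction to H is irreducible; fix a maximal ideal M of the algebraic integers containing the prime p and suppose χ and its restriction have height zero in their blocks B and b. If e is a block of H whose induced block is defined, then e induces B if and only if e = b. -/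
theorem result {G : Type*} [Group G] [Finite G] (p : ℕ) [Fact p.Prime] (M : Ideal Cfsg.AlgInt) (hM : Cfsg.IsPModular p M) (H : Subgroup G) (χ : Cfsg.IrrCharacter G) (hres : Cfsg.IsIrrCharacter H (fun h : H => (χ : G → ℂ) h)) (hχ0 : Cfsg.blockHeight p (Cfsg.blockOf M (χ : G → ℂ)) (χ : G → ℂ) = 0) (hψ0 : Cfsg.blockHeight p (Cfsg.blockOf M (fun h : H => (χ : G → ℂ) h)) (fun h : H => (χ : G → ℂ) h) = 0) (e : Set (Cfsg.IrrCharacter H)) (he : Cfsg.InducedBlockDefined M H e) : Cfsg.IsInducedBlock M H e (Cfsg.blockOf M (χ : G → ℂ)) ↔ e = Cfsg.blockOf M (fun h : H => (χ : G → ℂ) h) := by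
  classical
  letI := Fintype.ofFinite G
  letI := Fintype.ofFinite H
  have hP := Cfsg.Agent.Char.pmod_prime hM
  set ψ : Cfsg.IrrCharacter H := ⟨_, hres⟩ with hψ
  have hBG := Cfsg.Agent.Char.isPBlock_blockOf M χ
  have hχm := Cfsg.Agent.Char.self_mem_blockOf hP χ
  have hBH := Cfsg.Agent.Char.isPBlock_blockOf M ψ
  have hψm := Cfsg.Agent.Char.self_mem_blockOf hP ψ
  constructor
  · intro hind
    obtain ⟨ξ, hξ⟩ := Cfsg.Agent.Char.block_nonempty hP hind.1
    have hu := Cfsg.Agent.Char.lam_restrict_unit hM hind hχm hχ0 hξ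
    have hua : Cfsg.Agent.Char.UnitAt p ξ ψ := fun h =>
      hu ((Cfsg.Agent.Char.zI_dvd_and_iff hM ξ ψ).2.mpr h)
    exact (Cfsg.Agent.Char.block_eq_blockOf hP hind.1
      ((Cfsg.Agent.Char.mem_block_iff hP hind.1 hξ ψ).mpr (hua.sameBlock hM)))
  · intro he'
    obtain ⟨B', hind⟩ := he
    have hψe : ψ ∈ e := he' ▸ hψm
    obtain ⟨χ', hχ'⟩ := Cfsg.Agent.Char.block_nonempty hP hind.2.1
    suffices hB : χ ∈ B' by rw [← Cfsg.Agent.Char.block_eq_blockOf hP hind.2.1 hB]; exact hind
    by_contra hne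
    have h1 := Cfsg.Agent.Char.induced_congr_fun hP (hind.2.2 ψ hψe χ' hχ')
      (f := Cfsg.Agent.Char.regConj p (χ : G → ℂ))
      ⟨Cfsg.Agent.Char.regConj_class (Cfsg.Agent.Char.irr_isCharacter χ.2),
        Cfsg.Agent.Char.regConj_memLR hP (Cfsg.Agent.Char.irr_isCharacter χ.2)⟩
    rw [Cfsg.Agent.Char.regConj_restrict] at h1
    have hz : Cfsg.Agent.Char.lam (χ' : G → ℂ) (Cfsg.Agent.Char.regConj p (χ : G → ℂ)) = 0 := by
      rw [Cfsg.Agent.Char.lam_regConj, Cfsg.Agent.Char.einner_eq_zero_of_not_sameBlock hM χ' χ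
        (fun h => hne ((Cfsg.Agent.Char.mem_block_iff hP hind.2.1 hχ' χ).mpr h)), mul_zero,
        zero_div]
    rw [hz, sub_zero] at h1
    exact Cfsg.Agent.Char.lam_regConj_unit hM hBH hψm hψm hψ0 h1

end Cfsg.Agent.S0935
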