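import Cfsg.Statements.S0940
import Cfsg.Agent.Lib.Char.ThirdMain
import Cfsg.Agent.Lib.Char.Osima
import Cfsg.Agent.Lib.Char.Section

set_option autoImplicit false
open Cfsg
open scoped ComplexConjugate

namespace Cfsg.Agent.S0940

/-- Let G be a finite group and M a maximal ideal of the algebraic integers containing the prime p. For every p-regular g, the idempotent coefficient of the principal block at g (the inverse of the group order times the sum over χ in the principal block of χ 1 * conj (χ g)) is congruent modulo the local ideal at M to N / R, where N is the number of pairs (x, y) with x of p-power order, y of order prime to p and x * y = g, and R is the number of elements of G of order prime to p. -/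
theorem result {G : Type*} [Group G] [Finite G] (p : ℕ) [Fact p.Prime] (M : Ideal Cfsg.AlgInt) (hM : Cfsg.IsPModular p M) (g : G) (hg : ¬ p ∣ orderOf g) : Cfsg.MemLocalIdeal M (Cfsg.blockCoeff (Cfsg.principalBlock M G) g - (Nat.card {xy : G × G // (∃ k : ℕ, orderOf xy.1 = p ^ k) ∧ ¬ p ∣ orderOf xy.2 ∧ xy.1 * xy.2 = g} : ℂ) / (Nat.card {y : G // ¬ p ∣ orderOf y} : ℂ)) := by
  classical
  open Cfsg Cfsg.Agent.Char in
  have key : MemLocalIdeal M (Cfsg.blockCoeff (Cfsg.principalBlock M G) g - (Nat.card {xy : G × G // (∃ k : ℕ, orderOf xy.1 = p ^ k) ∧ ¬ p ∣ orderOf xy.2 ∧ xy.1 * xy.2 = g} : ℂ) / (Nat.card {y : G // ¬ p ∣ orderOf y} : ℂ)) := by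
    have hp := hM.1
    have hP := pmod_prime hM
    letI := Fintype.ofFinite G
    set U : G → ℂ := fun x => if ∃ k : ℕ, orderOf x = p ^ k then 1 else 0 with hU
    set R : G → ℂ := regInd p with hR
    set e1 : IrrCharacter G := ⟨fun _ => 1, isIrrCharacter_one⟩ with he1
    -- the indicator of the p-elements is locally integral
    have hpreg : ∀ x : G, preg p x = 1 ↔ ∃ k : ℕ, orderOf x = p ^ k := by
      intro x
      constructor
      · intro h
        obtain ⟨⟨y, -, -, hk, -⟩, -, -⟩ := preg_spec hp x
        rwa [h, inv_one, mul_one] at hk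
      · intro h
        simpa using preg_of_mul hp (Commute.one_right x) h (y := 1)
          (by rw [orderOf_one]; exact hp.not_dvd_one)
    have hUint : IntComb M U := by
      have hd : IsClassFunction G (fun x : G => if x = 1 then (1 : ℂ) else 0) :=
        fun a k => by simp only [conj_eq_one_iff]
      have h := intComb_preg hM hd (fun x => by
        split_ifs
        exacts [memLR_one hP, memLR_zero hP])
      have e : (fun x => (fun x : G => if x = 1 then (1 : ℂ) else 0) (preg p x)) = U := by
        funext x
        simp only [hU, hpreg]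
      rwa [e] at h
    have hUinv : ∀ x, U x⁻¹ = U x := fun x => by simp only [hU, orderOf_inv]
    have hUc : ∀ x, conj (U x) = U x := fun x => by
      simp only [hU]; split_ifs <;> simp
    have hcoef : ∀ χ : IrrCharacter G,
        classInner U (χ : G → ℂ) = (Nat.card G : ℂ)⁻¹ * ∑ x : G, U x * (χ : G → ℂ) x := by
      intro χ
      rw [classInner]
      congr 1
      refine Fintype.sum_equiv (Equiv.inv G) _ _ fun x => ?_
      rw [Equiv.inv_apply, hUinv, char_inv (irr_isCharacter χ.2)]
    -- the central character on the regular elements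
    set r : ℂ := ∑ x : G, R x with hr
    have hr1 : lam (e1 : G → ℂ) R = r := by simp [lam, e1, hr]
    have hrunit : ¬ MemLocalIdeal M r := hr1 ▸ (lam_regInd_unit_iff hM e1).mpr (sameBlock_refl hP _)
    have hr0 : r ≠ 0 := fun h => hrunit (h ▸ memLI_zero hP)
    have hzero : ∀ χ : IrrCharacter G, χ ∉ principalBlock M G → lam (χ : G → ℂ) R = 0 := by
      intro χ hne
      have hz := einner_eq_zero_of_not_sameBlock (p := p) hM e1 χ hne
      have hz' : classInner ((χ : G → ℂ) * regInd p) (e1 : G → ℂ) = 0 := by
        show einner p (χ : G → ℂ) (e1 : G → ℂ) = 0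
        rw [← einner_conj, hz, map_zero]
      simp only [classInner, e1, Pi.mul_apply, map_one, mul_one, mul_eq_zero, inv_eq_zero,
        Nat.cast_eq_zero, Nat.card_pos.ne', false_or] at hz'
      rw [lam, Finset.sum_congr rfl fun x _ => mul_comm (R x) ((χ : G → ℂ) x), hz', zero_div]
    -- the count
    have hRcard : (Nat.card {y : G // ¬ p ∣ orderOf y} : ℂ) = r := by
      rw [Nat.card_eq_fintype_card, Fintype.card_subtype, hr, Finset.natCast_card_filter]
      refine Finset.sum_congr rfl fun x _ => ?_
      simp only [hR, regInd]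
      split_ifs <;> simp_all
    have hcount : (Nat.card {xy : G × G // (∃ k : ℕ, orderOf xy.1 = p ^ k) ∧ ¬ p ∣ orderOf xy.2 ∧
        xy.1 * xy.2 = g} : ℂ) = conv U R g := by
      have e : {xy : G × G // (∃ k : ℕ, orderOf xy.1 = p ^ k) ∧ ¬ p ∣ orderOf xy.2 ∧
          xy.1 * xy.2 = g} ≃ {y : G // (∃ k : ℕ, orderOf y = p ^ k) ∧ ¬ p ∣ orderOf (y⁻¹ * g)} :=
        { toFun := fun w => ⟨w.1.1, w.2.1, (inv_mul_eq_of_eq_mul w.2.2.2.symm).symm ▸ w.2.2.1⟩
          invFun := fun y => ⟨(y.1, y.1⁻¹ * g), y.2.1, y.2.2, mul_inv_cancel_left y.1 g⟩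
          left_inv := fun w => by
            refine Subtype.ext (Prod.ext rfl ?_)
            exact inv_mul_eq_of_eq_mul w.2.2.2.symm
          right_inv := fun y => rfl }
      rw [Nat.card_congr e, Nat.card_eq_fintype_card, Fintype.card_subtype,
        Finset.natCast_card_filter, conv]
      refine Finset.sum_congr rfl fun y _ => ?_
      simp only [hU, hR, regInd]
      split_ifs <;> simp_all
    have hcfU : IsClassFunction G U := hUint.1
    have hcfR : IsClassFunction G R := isClassFunction_regInd p
    -- expansion of the convolution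
    have hRc : ∀ x, conj (R x) = R x := conj_regInd p
    have hconvc : ∀ x, conj (conv U R x) = conv U R x := fun x => by
      simp only [conv, map_sum, map_mul, hUc, hRc]
    have hexp : conv U R g = ∑ χ : IrrCharacter G,
        classInner U (χ : G → ℂ) * lam (χ : G → ℂ) R * conj ((χ : G → ℂ) g) := by
      conv_lhs => rw [← hconvc g, classFun_expansion (isClassFunction_conv hcfU hcfR)]
      simp only [Finset.sum_apply, Pi.smul_apply, smul_eq_mul, map_sum, map_mul]
      refine Finset.sum_congr rfl fun χ _ => ?_
      congr 1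
      have h1 : conj (classInner (conv U R) (χ : G → ℂ)) =
          (Nat.card G : ℂ)⁻¹ * ∑ x : G, conv U R x * (χ : G → ℂ) x := by
        simp only [classInner, map_mul, map_inv₀, map_natCast, map_sum, hconvc,
          Complex.conj_conj]
      have h2 := lam_conv χ.2 hcfU hcfR
      simp only [lam] at h2
      have hne := irr_one_ne_zero χ.2
      rw [h1, hcoef χ, lam, mul_assoc, (div_eq_iff hne).mp h2]
      field_simp
    have horth : ∑ χ : IrrCharacter G with χ ∈ principalBlock M G,
        classInner U (χ : G → ℂ) * conj ((χ : G → ℂ) g) =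
        blockCoeff (principalBlock M G) g := by
      have hB : IsPBlock M (principalBlock M G) := ⟨e1, rfl⟩
      rw [blockCoeff, finsum_mem_eq_finite_toFinset_sum _ (Set.toFinite _)]
      simp only [hcoef, mul_assoc, ← Finset.mul_sum, Finset.sum_mul]
      congr 1
      rw [Finset.sum_comm]
      rw [Finset.sum_eq_single (1 : G) ?_ (fun h => absurd (Finset.mem_univ _) h)]
      · have h1 : U 1 = 1 := if_pos ⟨0, by simp⟩
        refine Finset.sum_congr (by ext; simp) fun χ _ => ?_
        rw [h1, one_mul]
      · intro x _ hx
        by_cases hUx : ∃ k : ℕ, orderOf x = p ^ k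
        · obtain ⟨k, hk⟩ := hUx
          have hdvd : p ∣ orderOf x := by
            rw [hk]
            refine dvd_pow_self p fun h0 => hx ?_
            rw [h0, pow_zero] at hk
            exact orderOf_eq_one_iff.mp hk
          have h := congrArg conj (weak_orthogonality hM hB hg hdvd)
          rw [map_zero, finsum_mem_eq_finite_toFinset_sum _ (Set.toFinite _), map_sum] at h
          rw [← Finset.mul_sum]
          refine mul_eq_zero_of_right _ (Eq.trans (Finset.sum_congr (by ext; simp) fun χ _ => ?_) h)
          rw [map_mul, Complex.conj_conj, mul_comm]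
        · have h0 : U x = 0 := if_neg hUx
          simp only [h0, zero_mul, Finset.sum_const_zero]
    rw [hRcard, hcount, hexp, ← horth, Finset.sum_div,
      ← Finset.sum_filter_add_sum_filter_not (Finset.univ : Finset (IrrCharacter G))
        (fun χ => χ ∈ principalBlock M G) (fun χ : IrrCharacter G =>
          classInner U (χ : G → ℂ) * lam (χ : G → ℂ) R * conj ((χ : G → ℂ) g) / r)]
    rw [Finset.sum_eq_zero (s := Finset.univ.filter fun χ => χ ∉ principalBlock M G)
      (fun χ hχ => by rw [hzero χ (Finset.mem_filter.mp hχ).2]; simp), add_zero,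
      ← Finset.sum_sub_distrib]
    refine memLI_sum hP _ _ fun χ hχ => ?_
    have e : classInner U (χ : G → ℂ) * conj ((χ : G → ℂ) g) -
        classInner U (χ : G → ℂ) * lam (χ : G → ℂ) R * conj ((χ : G → ℂ) g) / r =
        classInner U (χ : G → ℂ) * conj ((χ : G → ℂ) g) * r⁻¹ * (r - lam (χ : G → ℂ) R) := by
      field_simp
    rw [e, ← hr1]
    refine memLI_mul_left hP (memLR_mul hP (memLR_mul hP (hUint.2 χ) ?_) ?_) ?_
    · rw [← char_inv (irr_isCharacter χ.2)]
      exact memLR_char hP (irr_isCharacter χ.2) g⁻¹
    · rw [hr1]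
      exact memLR_inv hP (by
        rw [← hRcard]; exact memLR_natCast hP _) hrunit
    · exact lam_congr hP e1.2 χ.2 (Finset.mem_filter.mp hχ).2 hcfR fun x => by
        simp only [hR, regInd]
        split_ifs
        exacts [memLR_zero hP, memLR_one hP]
  exact key

end Cfsg.Agent.S0940
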