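import Cfsg.Statements.S0941
import Cfsg.Agent.Lib.Char.QuotientBlocks

set_option autoImplicit false
open Cfsg
open scoped ComplexConjugate

namespace Cfsg.Agent.S0941

/-- Let P be a normal p-subgroup of the finite group G such that the index of C_G(P) is a power of p, and fix a maximal ideal M of the algebraic integers containing p. Then (i) two irreducible characters of G ⧸ P lie in the same block if and only if their inflations to G do, and (ii) every block of G contains the inflation of some irreducible character of G ⧸ P; so inflation induces a bijection between the blocks of G ⧸ P and the blocks of G. -/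
theorem result {G : Type*} [Group G] [Finite G] (p : ℕ) [Fact p.Prime] (M : Ideal Cfsg.AlgInt) (hM : Cfsg.IsPModular p M) (P : Subgroup G) [P.Normal] (hP : IsPGroup p P) (hC : ∃ k : ℕ, (Subgroup.centralizer (P : Set G)).index = p ^ k) : (∀ χ ψ : Cfsg.IrrCharacter (G ⧸ P), Cfsg.SameBlock M (χ : G ⧸ P → ℂ) (ψ : G ⧸ P → ℂ) ↔ Cfsg.SameBlock M ((χ : G ⧸ P → ℂ) ∘ QuotientGroup.mk) ((ψ : G ⧸ P → ℂ) ∘ QuotientGroup.mk)) ∧ ∀ B : Set (Cfsg.IrrCharacter G), Cfsg.IsPBlock M B → ∃ χ : Cfsg.IrrCharacter (G ⧸ P), ∃ θ ∈ B, (θ : G → ℂ) = (χ : G ⧸ P → ℂ) ∘ QuotientGroup.mk := by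
  have := Fintype.ofFinite G
  have := Fintype.ofFinite P
  have := Fintype.ofFinite (G ⧸ P)
  have hMp := Cfsg.Agent.Char.pmod_prime hM
  refine ⟨fun χ ψ => ⟨fun h => Cfsg.Agent.Char.sameBlock_inflate hMp h, fun h => ?_⟩, fun B hB => ?_⟩
  · refine Cfsg.Agent.Char.sameBlock_of_inflate hM (fun g hg => Or.inl ?_) h
    have hmem : g ∈ Subgroup.centralizer (P : Set G) := by
      obtain ⟨k, hk⟩ := hC
      set C := Subgroup.centralizer (P : Set G) with hCdef
      haveI : C.Normal := Subgroup.normal_centralizer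
      have h1 : ((g : G) : G ⧸ C) ^ (p ^ k) = 1 := by rw [← hk]; exact pow_card_eq_one'
      have h2 : ((g : G) : G ⧸ C) ^ orderOf g = 1 := by
        rw [← QuotientGroup.mk_pow, pow_orderOf_eq_one, QuotientGroup.mk_one]
      have h3 := pow_gcd_eq_one.mpr ⟨h1, h2⟩
      rwa [Nat.Coprime.gcd_eq_one (((Nat.Prime.coprime_iff_not_dvd Fact.out).mpr hg).pow_left k),
        pow_one, QuotientGroup.eq_one_iff] at h3
    rw [Cfsg.Agent.Char.clsRatio_eq_one hM.1 hP hg hmem]
    exact hM.1.not_dvd_one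
  · obtain ⟨χ, hχ⟩ := Cfsg.Agent.Char.exists_inflate_mem hM hP hB
    exact ⟨χ, _, hχ, rfl⟩

end Cfsg.Agent.S0941
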