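import Cfsg.Statements.S0942
import Cfsg.Agent.Lib.Char.PrincipalBlock

set_option autoImplicit false
open Cfsg
open scoped ComplexConjugate

namespace Cfsg.Agent.S0942

/-- Let u be a p-element of the finite group G, let v lie in the largest normal subgroup of C_G(u) of order prime to p, and let χ belong to the principal block (relative to a maximal ideal M of the algebraic integers containing p). Then χ (u * v) = χ u. -/
theorem result {G : Type*} [Group G] [Finite G] (p : ℕ) [Fact p.Prime] (M : Ideal Cfsg.AlgInt) (hM : Cfsg.IsPModular p M) (u : G) (hu : ∃ k : ℕ, orderOf u = p ^ k) (v : G) (hv : v ∈ Cfsg.centralizerPPrimeCore p u) (χ : Cfsg.IrrCharacter G) (hχ : χ ∈ Cfsg.principalBlock M G) : (χ : G → ℂ) (u * v) = (χ : G → ℂ) u := by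
  classical
  haveI := Fintype.ofFinite G
  haveI := Fintype.ofFinite (Subgroup.centralizer ({u} : Set G))
  have hP := Char.pmod_prime hM
  obtain ⟨w, hw, rfl⟩ := hv
  set K := pPrimeCore p (Subgroup.centralizer ({u} : Set G))
  have hK : ¬ p ∣ Nat.card K :=
    (hM.1.coprime_iff_not_dvd).mp (Fusion.card_pPrimeCore_coprime p _).symm
  have hreg : ¬ p ∣ orderOf w := fun h =>
    hK (h.trans (Subgroup.orderOf_mk w hw ▸ orderOf_dvd_natCard _))
  have hcl := Char.isClassFunction_secFun (x := u)
    (Char.isClassFunction_character (Char.irr_isCharacter χ.2))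
  have key : ∀ y : Subgroup.centralizer ({u} : Set G), ¬ p ∣ orderOf y →
      (χ : G → ℂ) (u * (y : G)) = blockPart (principalBlock M (Subgroup.centralizer ({u} : Set G)))
        (Char.secFun u (χ : G → ℂ)) y := by
    intro y hy
    show Char.secFun u (χ : G → ℂ) y = _
    rw [Char.eq_sum_blockPart hP hcl, Finset.sum_eq_single
      (principalBlock M (Subgroup.centralizer ({u} : Set G)))]
    · intro b hb hne
      obtain ⟨ξ, -, rfl⟩ := Finset.mem_image.mp hb
      refine Char.blockPart_secFun_eq_zero hM hu (Char.isPBlock_principalBlock M) χ hχ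
        (Char.isPBlock_blockOf M ξ) (fun h => hne ?_) y hy
      exact (Char.third_main hM h).mp rfl
    · intro hn
      refine absurd ?_ hn
      refine Finset.mem_image.mpr ?_
      exact ⟨⟨fun _ => 1, Char.isIrrCharacter_one⟩, Finset.mem_univ _, rfl⟩
  have h1 := key 1 (by simp [hM.1.ne_one])
  rw [OneMemClass.coe_one, mul_one] at h1
  show (χ : G → ℂ) (u * (w : G)) = _
  rw [key w hreg, h1, Char.blockPart_eq, Char.blockPart_eq]
  refine Finset.sum_congr rfl fun ξ hξ => ?_
  rw [Char.principal_trivial_on hM K hK (Finset.mem_filter.mp hξ).2 w hw]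

end Cfsg.Agent.S0942
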