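import Cfsg.Statements.S0943
import Cfsg.Agent.Lib.Char.Restrict

set_option autoImplicit false
open Cfsg
open scoped ComplexConjugate

namespace Cfsg.Agent.S0943

/-- Let χ be an irreducible character of the finite group G and u, v ∈ G. If χ (x * y) = χ (u * v) whenever x is conjugate to u and y is conjugate to v, then χ u * χ v = χ 1 * χ (u * v). (Multiply the class sums of u and v and apply the central character of χ.) -/
theorem result {G : Type*} [Group G] [Finite G] (χ : Cfsg.IrrCharacter G) (u v : G) (hc : ∀ x y : G, IsConj u x → IsConj v y → (χ : G → ℂ) (x * y) = (χ : G → ℂ) (u * v)) : (χ : G → ℂ) u * (χ : G → ℂ) v = (χ : G → ℂ) 1 * (χ : G → ℂ) (u * v) := by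
  classical
  haveI : Fintype G := Fintype.ofFinite G
  let f : G → ℂ := fun x => if IsConj u x then 1 else 0
  have hf : Cfsg.IsClassFunction G f := by
    intro a b
    simp only [f]
    congr 1
    refine propext ⟨fun h => h.trans (isConj_iff.2 ⟨b, rfl⟩).symm,
      fun h => h.trans (isConj_iff.2 ⟨b, rfl⟩)⟩
  have e1 := Cfsg.Agent.Char.sum_mul_shift χ.2 hf v
  have e2 := Cfsg.Agent.Char.sum_mul_shift χ.2 hf 1
  have hsum : ∀ (g : G → ℂ) (c : ℂ), (∀ x, IsConj u x → g x = c) →
      ∑ x : G, f x * g x = (Finset.univ.filter (fun x => IsConj u x)).card * c := by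
    intro g c h
    rw [Finset.sum_congr rfl (g := fun x => if IsConj u x then c else 0) (fun x _ => by
      by_cases hx : IsConj u x <;> simp only [f, hx, if_true, if_false, one_mul, zero_mul] <;> exact h x hx)]
    rw [← Finset.sum_filter, Finset.sum_const, nsmul_eq_mul]
  rw [hsum (fun x => (χ : G → ℂ) (x * v)) _ (fun x hx => hc x v hx (IsConj.refl v))] at e1
  simp only [mul_one] at e2
  rw [hsum (fun x => (χ : G → ℂ) x) ((χ : G → ℂ) u) (fun x hx => by
    obtain ⟨b, rfl⟩ := isConj_iff.1 hx
    exact Cfsg.Agent.Char.isClassFunction_character (Cfsg.Agent.Char.irr_isCharacter χ.2) u b)] at e2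
  have hk : ((Finset.univ.filter (fun x => IsConj u x)).card : ℂ) ≠ 0 := by
    simp only [ne_eq, Nat.cast_eq_zero, Finset.card_eq_zero]
    exact Finset.ne_empty_of_mem (a := u) (Finset.mem_filter.2 ⟨Finset.mem_univ u, IsConj.refl u⟩)
  apply mul_left_cancel₀ hk
  calc _ = ((Finset.univ.filter (fun x => IsConj u x)).card : ℂ) * (χ : G → ℂ) u * (χ : G → ℂ) v := by ring
    _ = _ := by rw [e2]; linear_combination (χ : G → ℂ) 1 * (-e1)

end Cfsg.Agent.S0943
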