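import Cfsg.Statements.S0944
import Cfsg.Agent.Lib.Char.Basic

set_option autoImplicit false
open Cfsg
open scoped ComplexConjugate

namespace Cfsg.Agent.S0944

/-- Let χ be an irreducible character of the finite group G and u an involution. Then χ u is a rational integer n with n ≡ χ 1 (mod 2). -/
theorem result {G : Type*} [Group G] [Finite G] (χ : Cfsg.IrrCharacter G) (u : G) (hu : orderOf u = 2) : ∃ n : ℤ, (χ : G → ℂ) u = (n : ℂ) ∧ (2 : ℤ) ∣ (Cfsg.charDegree (χ : G → ℂ) : ℤ) - n := by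
  classical
  obtain ⟨d, ρ, -, hρ⟩ := χ.2
  rw [← hρ]
  obtain ⟨μ, hμ, hk, -⟩ := Cfsg.Agent.Char.exists_eigenvalues ρ u
  rw [hu] at hμ
  have hu1 : ρ.character u = ∑ i, μ i := by simpa using hk 1
  have hdeg : Cfsg.charDegree (ρ.character) = d := by
    simp [Cfsg.charDegree, Representation.char_one]
  have hs : ∀ i, ∃ s : ℤ, μ i = (s : ℂ) ∧ (2 : ℤ) ∣ 1 - s := by
    intro i
    rcases (sq_eq_one_iff).1 (hμ i) with h | h
    · exact ⟨1, by simp [h], by simp⟩
    · exact ⟨-1, by simp [h], by norm_num⟩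
  choose s hs h2 using hs
  refine ⟨∑ i, s i, by rw [hu1]; push_cast; exact Finset.sum_congr rfl (fun i _ => hs i), ?_⟩
  have hfr : Module.finrank ℂ (Fin d → ℂ) = d := by simp
  have : (d : ℤ) - ∑ i, s i = ∑ i, (1 - s i) := by
    rw [Finset.sum_sub_distrib]; simp [hfr]
  rw [hdeg, this]
  exact Finset.dvd_sum (fun i _ => h2 i)

end Cfsg.Agent.S0944
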