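import Cfsg.Statements.S0945
import Cfsg.Agent.Lib.Solv.Coprime

set_option autoImplicit false
open Cfsg

namespace Cfsg.Agent.S0945

/-- Let P be a Sylow 2-subgroup of the finite group G isomorphic to Z/2^m × Z/2^m with m ≥ 1. Then (i) the index of C_G(P) in N_G(P) is 1 or 3, and (ii) if it is not 1, then for every z ≠ 1 in P, C_G(z) ∩ N_G(P) = C_G(P). -/
theorem result {G : Type*} [Group G] [Finite G] (P : Sylow 2 G) (m : ℕ) (hm : 1 ≤ m) (e : (P : Subgroup G) ≃* Multiplicative (ZMod (2 ^ m) × ZMod (2 ^ m))) : ((Subgroup.centralizer (P : Set G)).relIndex (Subgroup.normalizer (P : Set G)) = 1 ∨ (Subgroup.centralizer (P : Set G)).relIndex (Subgroup.normalizer (P : Set G)) = 3) ∧ ((Subgroup.centralizer (P : Set G)).relIndex (Subgroup.normalizer (P : Set G)) ≠ 1 → ∀ z ∈ (P : Subgroup G), z ≠ 1 → Subgroup.centralizer ({z} : Set G) ⊓ Subgroup.normalizer (P : Set G) = Subgroup.centralizer (P : Set G)) := by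
  classical
  set N := Subgroup.normalizer (P : Set G) with hN
  set C := Subgroup.centralizer (P : Set G) with hC
  have hCN : C ≤ N := Subgroup.centralizer_le_normalizer _
  have hab : ∀ a ∈ (P : Subgroup G), ∀ b ∈ (P : Subgroup G), a * b = b * a := fun a ha b hb => by
    have := e.injective (a₁ := ⟨a, ha⟩ * ⟨b, hb⟩) (a₂ := ⟨b, hb⟩ * ⟨a, ha⟩)
      (by rw [map_mul, map_mul, mul_comm])
    exact congrArg Subtype.val this
  have hPC : (P : Subgroup G) ≤ C := fun a ha => Subgroup.mem_centralizer_iff.2 fun b hb => hab b hb a ha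
  -- odd order elements fixing the involutions centralize `P`
  have hodd : ∀ u ∈ N, Odd (orderOf u) →
      (∀ w ∈ (P : Subgroup G), w ^ 2 = 1 → u * w = w * u) → u ∈ C := by
    intro u hu ho hfix
    have hfixk : ∀ (k : ℕ), ∀ z ∈ (P : Subgroup G), z ^ (2 ^ k) = 1 → u * z = z * u := by
      intro k
      induction k with
      | zero => intro z _ hz; rw [pow_zero, pow_one] at hz; simp [hz]
      | succ k ih =>
        intro z hz hzk
        have hz2 : u * z ^ 2 = z ^ 2 * u := ih _ (pow_mem hz 2) (by rw [← pow_mul, ← pow_succ']; exact hzk)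
        have huz : u * z * u⁻¹ ∈ (P : Subgroup G) := (Subgroup.mem_normalizer_iff.1 hu z).1 hz
        set w := z⁻¹ * (u * z * u⁻¹) with hw
        have hwP : w ∈ (P : Subgroup G) := mul_mem (inv_mem hz) huz
        have hw2 : w ^ 2 = 1 := by
          rw [hw, (show Commute z⁻¹ (u * z * u⁻¹) from hab _ (inv_mem hz) _ huz).mul_pow, conj_pow, hz2]
          group
        have hit : ∀ n : ℕ, u ^ n * z * (u ^ n)⁻¹ = z * w ^ n := by
          intro n
          induction n with
          | zero => simp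
          | succ n ihn =>
            have hwu : u * w ^ n * u⁻¹ = w ^ n := by
              rw [← conj_pow, hfix w hwP hw2]; group
            calc u ^ (n + 1) * z * (u ^ (n + 1))⁻¹ = u * (u ^ n * z * (u ^ n)⁻¹) * u⁻¹ := by
                  rw [pow_succ']; group
              _ = (u * z * u⁻¹) * (u * w ^ n * u⁻¹) := by rw [ihn]; group
              _ = (z * w) * w ^ n := by rw [hwu, hw]; group
              _ = _ := by rw [mul_assoc, ← pow_succ']
        have h := hit (orderOf u)
        rw [pow_orderOf_eq_one] at h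
        have hwo : w ^ orderOf u = 1 := by simpa using h.symm
        obtain ⟨m, hm⟩ := ho
        rw [hm, pow_succ, pow_mul, hw2, one_pow, one_mul] at hwo
        rw [hw, inv_mul_eq_one] at hwo
        calc u * z = u * z * u⁻¹ * u := by group
          _ = z * u := by rw [← hwo]
    rw [hC, Subgroup.mem_centralizer_iff]
    intro z hz
    obtain ⟨n, hn⟩ := IsPGroup.iff_card.1 P.2
    refine (hfixk n z hz ?_).symm
    rw [← hn]
    exact orderOf_dvd_iff_pow_eq_one.1 ((Subgroup.orderOf_mk z hz) ▸ orderOf_dvd_natCard (⟨z, hz⟩ : (P : Subgroup G)))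
  -- the three involutions
  set M := 2 ^ m
  have hM : 2 ∣ M := dvd_pow_self 2 (by omega)
  obtain ⟨M', hM'⟩ := hM
  haveI : NeZero M := ⟨by positivity⟩
  have hsol : ∀ x : ZMod M, x + x = 0 → x = 0 ∨ x = (M' : ZMod M) := by
    intro x hx
    obtain ⟨t, ht, rfl⟩ : ∃ t : ℕ, t < M ∧ (t : ZMod M) = x := ⟨x.val, ZMod.val_lt x, ZMod.natCast_zmod_val x⟩
    rw [← Nat.cast_add, ZMod.natCast_eq_zero_iff] at hx
    obtain ⟨c, hc⟩ := hx
    have : c = 0 ∨ c = 1 := by
      by_contra h
      have : 2 ≤ c := by omega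
      have : M * 2 ≤ M * c := Nat.mul_le_mul_left M this
      omega
    rcases this with rfl | rfl
    · left; rw [show t = 0 by omega, Nat.cast_zero]
    · right; rw [show t = M' by omega]
  let Inv := {w : G // w ∈ (P : Subgroup G) ∧ w ^ 2 = 1 ∧ w ≠ 1}
  have hI3 : Nat.card Inv ≤ 3 := by
    let f : Inv → {x : ZMod M × ZMod M // x ≠ 0 ∧ x.1 ∈ ({0, (M' : ZMod M)} : Set _) ∧ x.2 ∈ ({0, (M' : ZMod M)} : Set _)} :=
      fun w => ⟨Multiplicative.toAdd (e ⟨w.1, w.2.1⟩), by
        refine ⟨fun h => w.2.2.2 ?_, ?_⟩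
        · have : e ⟨w.1, w.2.1⟩ = 1 := h
          rw [map_eq_one_iff e e.injective] at this
          exact congrArg Subtype.val this
        · have h2 : (⟨w.1, w.2.1⟩ : (P : Subgroup G)) ^ 2 = 1 := Subtype.ext (by simpa using w.2.2.1)
          have h3 := congrArg Multiplicative.toAdd (congrArg e h2)
          simp only [map_pow, map_one, toAdd_pow, toAdd_one, two_nsmul, Prod.ext_iff] at h3
          exact ⟨hsol _ h3.1, hsol _ h3.2⟩⟩
    have hf : Function.Injective f := fun a b h => by
      have := congrArg Subtype.val h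
      simp only [f, EmbeddingLike.apply_eq_iff_eq] at this
      have h2 : a.1 = b.1 := congrArg (fun z : (P : Subgroup G) => (z : G)) this
      exact Subtype.ext h2
    refine (Nat.card_le_card_of_injective f hf).trans ?_
    rw [Nat.card_eq_fintype_card, Fintype.card_subtype]
    refine le_trans (Finset.card_le_card (t := ({((0 : ZMod M), (M' : ZMod M)), ((M' : ZMod M), 0), ((M' : ZMod M), (M' : ZMod M))} : Finset _)) ?_) Finset.card_le_three
    rintro ⟨a, b⟩ hx
    simp only [Finset.mem_filter, Finset.mem_univ, true_and, Set.mem_insert_iff, Set.mem_singleton_iff] at hx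
    simp only [Finset.mem_insert, Finset.mem_singleton, Prod.mk.injEq]
    rcases hx with ⟨hne, ha | ha, hb | hb⟩ <;> simp_all
  letI : MulAction N Inv :=
    { smul := fun g w => ⟨(g : G) * w.1 * (g : G)⁻¹, (Subgroup.mem_normalizer_iff.1 g.2 _).1 w.2.1,
        by rw [conj_pow, w.2.2.1]; group, fun h => w.2.2.2 (by simpa using h)⟩
      one_smul := fun w => Subtype.ext (show ((1 : N) : G) * w.1 * ((1 : N) : G)⁻¹ = w.1 by simp)
      mul_smul := fun g h w => Subtype.ext (show ((g * h : N) : G) * w.1 * ((g * h : N) : G)⁻¹ =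
        (g : G) * ((h : G) * w.1 * (h : G)⁻¹) * (g : G)⁻¹ by simp [mul_assoc]) }
  set q := C.relIndex N with hq
  haveI hCn : (C.subgroupOf N).Normal := ⟨fun c hc g => by
    rw [Subgroup.mem_subgroupOf] at hc ⊢
    rw [hC, Subgroup.mem_centralizer_iff] at hc ⊢
    intro z hz
    have h1 := hc _ ((Subgroup.mem_normalizer_iff.1 (N.inv_mem g.2) z).1 hz)
    simp only [Subgroup.coe_mul, Subgroup.coe_inv]
    calc z * ((g : G) * c * (g : G)⁻¹) = (g : G) * ((g : G)⁻¹ * z * ((g : G)⁻¹)⁻¹ * c) * (g : G)⁻¹ := by group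
      _ = (g : G) * ((c : G) * ((g : G)⁻¹ * z * ((g : G)⁻¹)⁻¹)) * (g : G)⁻¹ := by rw [h1]
      _ = _ := by group⟩
  have hqodd : Odd q := by
    rw [← Nat.not_even_iff_odd, even_iff_two_dvd]
    intro h2
    haveI : Fact (Nat.Prime 2) := ⟨Nat.prime_two⟩
    exact P.not_dvd_index (h2.trans ((Subgroup.relIndex_dvd_of_le_left N hPC).trans
      (Dvd.intro _ (Subgroup.relIndex_mul_index (hPC.trans hCN)))))
  let φ := MulAction.toPermHom N Inv
  have hker : φ.ker = C.subgroupOf N := by
    refine le_antisymm (fun u hu => ?_) (fun u hu => ?_)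
    · have hu' : ∀ w ∈ (P : Subgroup G), w ^ 2 = 1 → (u : G) * w = w * u := by
        intro w hw hw2
        by_cases h1 : w = 1
        · simp [h1]
        · have := congrArg Subtype.val (Equiv.ext_iff.1 (MonoidHom.mem_ker.1 hu) ⟨w, hw, hw2, h1⟩)
          exact mul_inv_eq_iff_eq_mul.1 this
      obtain ⟨a, b, hb, hab'⟩ := Nat.exists_eq_two_pow_mul_odd (orderOf_pos (u : G)).ne'
      have hv : u ^ (2 ^ a) ∈ C.subgroupOf N := by
        rw [Subgroup.mem_subgroupOf, Subgroup.coe_pow]
        refine hodd _ (pow_mem u.2 _) ?_ (fun w hw hw2 => ?_)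
        · rw [orderOf_pow, hab', Nat.gcd_eq_right (dvd_mul_right _ _), Nat.mul_div_cancel_left _ (by positivity)]
          exact hb
        · exact ((show Commute (u : G) w from hu' w hw hw2).pow_left _).eq
      rw [← QuotientGroup.eq_one_iff, QuotientGroup.mk_pow] at hv
      rw [← QuotientGroup.eq_one_iff]
      apply orderOf_eq_one_iff.1
      have h1 : orderOf (u : N ⧸ C.subgroupOf N) ∣ 2 ^ a := orderOf_dvd_of_pow_eq_one hv
      have h2 : orderOf (u : N ⧸ C.subgroupOf N) ∣ q := by
        rw [hq, Subgroup.relIndex, Subgroup.index]; exact orderOf_dvd_natCard _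
      exact Nat.eq_one_of_dvd_coprimes (Nat.Coprime.pow_left _ (Nat.coprime_two_left.2 hqodd)) h1 h2
    · rw [MonoidHom.mem_ker]
      refine Equiv.ext (fun w => Subtype.ext ?_)
      show (u : G) * w.1 * (u : G)⁻¹ = w.1
      rw [Subgroup.mem_subgroupOf] at hu
      rw [mul_inv_eq_iff_eq_mul]
      exact (Subgroup.mem_centralizer_iff.1 hu w.1 w.2.1).symm
  have hqr : q = Nat.card φ.range := by rw [← Subgroup.index_ker, hker]; rfl
  have hq6 : q ∣ 6 := by
    refine (hqr ▸ Subgroup.card_subgroup_dvd_card φ.range).trans ?_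
    haveI := Fintype.ofFinite Inv
    rw [Nat.card_eq_fintype_card, Fintype.card_perm, ← Nat.card_eq_fintype_card]
    exact (Nat.factorial_dvd_factorial hI3).trans (by decide)
  have hq13 : q = 1 ∨ q = 3 := by
    have h := Nat.le_of_dvd (by norm_num) hq6
    obtain ⟨k, hk⟩ := hqodd
    have hk3 : k < 3 := by omega
    interval_cases k
    · exact Or.inl hk
    · exact Or.inr hk
    · rw [hk] at hq6; norm_num at hq6
  refine ⟨hq13, fun hne z hz hz1 => le_antisymm (fun u hu => ?_) (fun u hu => ⟨?_, hCN hu⟩)⟩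
  · obtain ⟨hu1, hu2⟩ := hu
    replace hu1 : u * z = z * u := Subgroup.mem_centralizer_singleton_iff.1 hu1
    have hq3 : q = 3 := hq13.resolve_left hne
    set σ := φ ⟨u, hu2⟩ with hσ
    suffices hσ1 : σ = 1 by
      have : (⟨u, hu2⟩ : N) ∈ C.subgroupOf N := hker ▸ MonoidHom.mem_ker.2 hσ1
      exact this
    have h3 : σ ^ 3 = 1 := by
      have hmem : σ ∈ φ.range := ⟨_, rfl⟩
      have := pow_card_eq_one' (G := φ.range) (x := ⟨σ, hmem⟩)
      rw [← hqr, hq3] at this
      exact congrArg Subtype.val this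
    -- an involution fixed by `u`
    obtain ⟨j, hj⟩ := IsPGroup.iff_orderOf.1 P.2 ⟨z, hz⟩
    rw [Subgroup.orderOf_mk] at hj
    obtain ⟨i, rfl⟩ : ∃ i, j = i + 1 := by
      refine Nat.exists_eq_succ_of_ne_zero (fun h => hz1 ?_)
      rw [h, pow_zero] at hj
      exact orderOf_eq_one_iff.1 hj
    have hw1 : z ^ (2 ^ i) ≠ 1 := fun h => by
      have h5 := orderOf_dvd_of_pow_eq_one h
      rw [hj, Nat.pow_dvd_pow_iff_le_right (by norm_num)] at h5
      omega
    let w : Inv := ⟨z ^ (2 ^ i), pow_mem hz _, by rw [← pow_mul, ← pow_succ, ← hj, pow_orderOf_eq_one], hw1⟩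
    have hσw : σ w = w := Subtype.ext (by
      show u * z ^ (2 ^ i) * u⁻¹ = z ^ (2 ^ i)
      rw [← conj_pow, hu1]; group)
    refine Equiv.ext (fun v => ?_)
    show σ v = v
    by_contra hv
    have h33 : σ (σ (σ v)) = v := Equiv.ext_iff.1 h3 v
    have hvw : v ≠ w := fun h => hv (by rw [h, hσw])
    have a1 : σ v ≠ w := fun h => hvw (σ.injective (h.trans hσw.symm))
    have a2 : σ (σ v) ≠ w := fun h => a1 (σ.injective (h.trans hσw.symm))
    have a3 : σ (σ v) ≠ v := fun h => by rw [h] at h33; exact hv h33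
    have a4 : σ (σ v) ≠ σ v := fun h => hv (σ.injective h)
    haveI := Fintype.ofFinite Inv
    have h4 : ({w, v, σ v, σ (σ v)} : Finset Inv).card = 4 := by
      rw [Finset.card_insert_of_notMem, Finset.card_eq_three.2 ⟨v, σ v, σ (σ v), Ne.symm hv, a3.symm, a4.symm, rfl⟩]
      simp [hvw.symm, a1.symm, a2.symm]
    have h6 := Finset.card_le_univ ({w, v, σ v, σ (σ v)} : Finset Inv)
    rw [h4, ← Nat.card_eq_fintype_card] at h6
    omega
  · exact Subgroup.mem_centralizer_singleton_iff.2 ((Subgroup.mem_centralizer_iff.1 hu z hz).symm)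

end Cfsg.Agent.S0945
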