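import Cfsg.Statements.S0947
import Cfsg.Agent.Lib.Char.PrincipalBlock

set_option autoImplicit false
open Cfsg
open scoped ComplexConjugate

namespace Cfsg.Agent.S0947

/-- Let z ≠ 1 be a p-element of the finite group G with centralizer H, and fix a maximal ideal M of the algebraic integers containing p. (i) For every y ∈ H of order prime to p, the sum over ζ in the principal block of G of |ζ (z * y)|² equals the sum over χ in the principal block of H of |χ y|². (ii) If moreover H has a normal p-complement (its largest normal subgroup of order prime to p has p-power index), that common value is the largest power of p dividing the order of H. -/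
theorem result {G : Type*} [Group G] [Finite G] (p : ℕ) [Fact p.Prime] (M : Ideal Cfsg.AlgInt) (hM : Cfsg.IsPModular p M) (z : G) (hz : ∃ k : ℕ, orderOf z = p ^ k) (hz1 : z ≠ 1) (y : Subgroup.centralizer ({z} : Set G)) (hy : ¬ p ∣ orderOf y) : (∑ᶠ ζ ∈ Cfsg.principalBlock M G, ‖(ζ : G → ℂ) (z * (y : G))‖ ^ 2 = ∑ᶠ χ ∈ Cfsg.principalBlock M (Subgroup.centralizer ({z} : Set G)), ‖(χ : Subgroup.centralizer ({z} : Set G) → ℂ) y‖ ^ 2) ∧ ((∃ k : ℕ, (Cfsg.pPrimeCore p (Subgroup.centralizer ({z} : Set G))).index = p ^ k) → ∑ᶠ ζ ∈ Cfsg.principalBlock M G, ‖(ζ : G → ℂ) (z * (y : G))‖ ^ 2 = ((p ^ (Nat.card (Subgroup.centralizer ({z} : Set G))).factorization p : ℕ) : ℝ)) := by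
  classical
  haveI := Fintype.ofFinite G
  haveI := Fintype.ofFinite (Subgroup.centralizer ({z} : Set G))
  have hP := Char.pmod_prime hM
  have h := Char.sum_block_section_orth hM hz (Char.isPBlock_principalBlock (G := G) M) y y hy hy
  rw [Char.principal_section_filter hM hz, Finset.sum_singleton] at h
  have e : ∑ᶠ ζ ∈ principalBlock M G, ‖(ζ : G → ℂ) (z * (y : G))‖ ^ 2 =
      ∑ᶠ χ ∈ principalBlock M (Subgroup.centralizer ({z} : Set G)),
        ‖(χ : Subgroup.centralizer ({z} : Set G) → ℂ) y‖ ^ 2 := by
    rw [Char.finsum_mem_irr, Char.finsum_mem_irr]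
    apply Complex.ofReal_injective
    push_cast
    simp only [← Complex.conj_mul']
    exact h
  refine ⟨e, ?_⟩
  rintro ⟨k, hk⟩
  rw [e, Char.finsum_mem_irr]
  set K := pPrimeCore p (Subgroup.centralizer ({z} : Set G))
  have hK : ¬ p ∣ Nat.card K :=
    (hM.1.coprime_iff_not_dvd).mp (Fusion.card_pPrimeCore_coprime p _).symm
  have hyK := (Char.regular_iff_mem_of_index hM.1 K hK hk y).mp hy
  have hv : (Nat.card (Subgroup.centralizer ({z} : Set G))).factorization p = k := by
    rw [← Subgroup.card_mul_index K, hk, Nat.factorization_mul Nat.card_pos.ne'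
      (pow_ne_zero _ hM.1.ne_zero), Finsupp.add_apply, Nat.factorization_eq_zero_of_not_dvd hK,
      hM.1.factorization_pow, Finsupp.single_eq_same, zero_add]
  rw [hv]
  apply Complex.ofReal_injective
  push_cast
  have h2 := Char.sum_sq_trivial_on (M := M) K hP
  rw [hk] at h2
  push_cast at h2
  rw [← h2]
  refine Finset.sum_congr ?_ fun χ hχ => ?_
  · ext χ
    simp [Char.mem_principal_iff_of_index hM K hK hk χ]
  · simp only [Finset.mem_filter, Finset.mem_univ, true_and] at hχ
    obtain ⟨d, hd⟩ := Char.charOne_eq_natCast (Char.irr_isCharacter χ.2)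
    rw [← Complex.conj_mul', hχ y hyK, hd, map_natCast]

end Cfsg.Agent.S0947
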