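import Cfsg.Statements.S0953
import Cfsg.Agent.Lib.Char.SylowBlocks
import Cfsg.Agent.Lib.Char.FirstMainInduced

set_option autoImplicit false
open Cfsg
open scoped ComplexConjugate

namespace Cfsg.Agent.S0953

/-- Let P be a Sylow p-subgroup of the finite group G with normalizer N, and fix a maximal ideal M of the algebraic integers containing p. The number of blocks of G having P as a defect group equals the number of conjugacy classes of N consisting of elements of order prime to p that centralize P. -/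
theorem result {G : Type*} [Group G] [Finite G] (p : ℕ) [Fact p.Prime] (M : Ideal Cfsg.AlgInt) (hM : Cfsg.IsPModular p M) (P : Sylow p G) : Nat.card {B : Set (Cfsg.IrrCharacter G) // Cfsg.IsPBlock M B ∧ Cfsg.IsDefectGroup p M B (P : Subgroup G)} = Nat.card {C : ConjClasses (Subgroup.normalizer ((P : Subgroup G) : Set G)) // ∀ n : Subgroup.normalizer ((P : Subgroup G) : Set G), ConjClasses.mk n = C → ¬ p ∣ orderOf n ∧ (n : G) ∈ Subgroup.centralizer ((P : Subgroup G) : Set G)} := by
  classical
  haveI := Fintype.ofFinite G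
  haveI := Fintype.ofFinite (Subgroup.normalizer ((P : Subgroup G) : Set G))
  set H := Subgroup.normalizer ((P : Subgroup G) : Set G) with hH
  set P' : Sylow p H := P.subtype Subgroup.le_normalizer with hP'
  have hcoe : (P' : Subgroup H) = (P : Subgroup G).subgroupOf H := rfl
  haveI : (P' : Subgroup H).Normal := Subgroup.normal_in_normalizer
  have hmap : (P' : Subgroup H).map H.subtype = (P : Subgroup G) :=
    Subgroup.map_subgroupOf_eq_of_le Subgroup.le_normalizer
  have hnle : Subgroup.normalizer (((P' : Subgroup H).map H.subtype : Subgroup G) : Set G) ≤ H := by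
    rw [hmap]
  obtain ⟨hB, hc⟩ := Char.brauer_correspondence hM (P' : Subgroup H) hnle
  rw [hmap] at hB hc
  let Rel : Set (IrrCharacter G) → Set (IrrCharacter H) → Prop := fun B c =>
    ∀ x : G, x ∈ Subgroup.centralizer ((P : Subgroup G) : Set G) →
      MemLocalIdeal M (blockCoeff B x - subgroupBlockCoeff H c x)
  have key : Nat.card {B : Set (IrrCharacter G) // IsPBlock M B ∧ IsDefectGroup p M B (P : Subgroup G)} =
      Nat.card {c : Set (IrrCharacter H) // IsPBlock M c} := by
    have hx : ∀ B : {B : Set (IrrCharacter G) // IsPBlock M B ∧ IsDefectGroup p M B (P : Subgroup G)},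
        ∃ c : {c : Set (IrrCharacter H) // IsPBlock M c}, Rel B.1 c.1 := fun B => by
      obtain ⟨c, ⟨hc1, -, hc3⟩, -⟩ := hB B.1 B.2.1 B.2.2
      exact ⟨⟨c, hc1⟩, hc3⟩
    choose f hf using hx
    refine Nat.card_eq_of_bijective f ⟨fun B B' h => ?_, fun c => ?_⟩
    · obtain ⟨B0, -, hu⟩ := hc (f B).1 (f B).2 (Char.isDefectGroup_of_normal_sylow hM P' (f B).2)
      refine Subtype.ext ((hu B.1 ⟨B.2.1, B.2.2, hf B⟩).trans (hu B'.1 ⟨B'.2.1, B'.2.2, ?_⟩).symm)
      rw [h]; exact hf B'
    · obtain ⟨B, ⟨hB1, hB2, hB3⟩, -⟩ := hc c.1 c.2 (Char.isDefectGroup_of_normal_sylow hM P' c.2)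
      obtain ⟨c0, -, hu⟩ := hB B hB1 hB2
      exact ⟨⟨B, hB1, hB2⟩, Subtype.ext ((hu _ ⟨(f _).2,
        Char.isDefectGroup_of_normal_sylow hM P' (f _).2, hf ⟨B, hB1, hB2⟩⟩).trans
        (hu c.1 ⟨c.2, Char.isDefectGroup_of_normal_sylow hM P' c.2, hB3⟩).symm)⟩
  rw [key, Char.card_blocks_normal_sylow hM P']
  refine Nat.card_congr (Equiv.subtypeEquivRight fun C => ?_)
  have hcent : ∀ n : H, n ∈ Subgroup.centralizer ((P' : Subgroup H) : Set H) ↔
      (n : G) ∈ Subgroup.centralizer ((P : Subgroup G) : Set G) := fun n => by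
    constructor
    · intro h x hx
      exact congrArg Subtype.val (h ⟨x, Subgroup.le_normalizer hx⟩ hx)
    · exact fun h y hy => Subtype.ext (h (y : G) hy)
  constructor
  · intro h n hn
    obtain ⟨k, hk⟩ := isConj_iff.mp (ConjClasses.mk_eq_mk_iff_isConj.mp
      ((Quotient.out_eq C).trans hn.symm) : IsConj C.out n)
    refine ⟨?_, (hcent n).mp ?_⟩
    · rw [← hk, ← MulAut.conj_apply, MulEquiv.orderOf_eq]; exact h.1
    · rw [← hk]
      exact (Subgroup.normal_centralizer).conj_mem _ h.2 k
  · intro h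
    exact ⟨(h C.out (Quotient.out_eq C)).1, (hcent _).mpr (h C.out (Quotient.out_eq C)).2⟩

end Cfsg.Agent.S0953
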