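import Cfsg.Statements.S0955
import Cfsg.Agent.Lib.Char.DefectLocal
import Cfsg.Agent.Lib.Solv.Cores

set_option autoImplicit false
open Cfsg
open scoped ComplexConjugate

namespace Cfsg.Agent.S0955

/-- Let D be a defect group of a block of the finite group G relative to a maximal ideal M of the algebraic integers containing the prime p. Then D is the largest normal p-subgroup of its own normalizer: O_p(N_G(D)) = D. -/
theorem result {G : Type*} [Group G] [Finite G] (p : ℕ) [Fact p.Prime] (M : Ideal Cfsg.AlgInt) (hM : Cfsg.IsPModular p M) (B : Set (Cfsg.IrrCharacter G)) (hB : Cfsg.IsPBlock M B) (D : Subgroup G) (hD : Cfsg.IsDefectGroup p M B D) : (Cfsg.pCore p (Subgroup.normalizer (D : Set G))).map (Subgroup.normalizer (D : Set G)).subtype = D := by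
  have := Fintype.ofFinite G
  have := Cfsg.Agent.Solv.pCore_normal (G := ↥(Subgroup.normalizer (D : Set G))) p
  obtain ⟨y, -, hDy⟩ := (Cfsg.Agent.Char.isDefectGroup_iff B D).mp hD
  refine Cfsg.Agent.Char.pCore_normalizer_eq hM hB hD _ (Cfsg.Agent.Solv.pCore_isPGroup p) ?_
  exact Cfsg.Agent.Solv.normal_le_pCore
    (hDy.isPGroup.comap_of_injective _ (Subgroup.subtype_injective _))

end Cfsg.Agent.S0955
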