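import Cfsg.Statements.S0957
import Mathlib

set_option autoImplicit false
open Cfsg

namespace Cfsg.Agent.S0957

/-- Let P be a Sylow p-subgroup of the finite group G, let g, h ∈ G and let p ^ d be the order of a Sylow p-subgroup of the centralizer of g. Then the number of pairs (y, z) with y conjugate to g, z conjugate to h and z * y⁻¹ ∈ P is divisible by the order of P divided by p ^ d. -/
theorem result {G : Type*} [Group G] [Finite G] (p : ℕ) [Fact p.Prime] (P : Sylow p G) (g h : G) (S : Sylow p (Subgroup.centralizer ({g} : Set G))) : Nat.card P / Nat.card S ∣ Nat.card {yz : G × G // IsConj g yz.1 ∧ IsConj h yz.2 ∧ yz.2 * yz.1⁻¹ ∈ (P : Subgroup G)} := by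
  classical
  let X := {yz : G × G // IsConj g yz.1 ∧ IsConj h yz.2 ∧ yz.2 * yz.1⁻¹ ∈ (P : Subgroup G)}
  letI : MulAction (P : Subgroup G) X :=
    { smul := fun u t => ⟨((u : G) * t.1.1 * (u : G)⁻¹, (u : G) * t.1.2 * (u : G)⁻¹),
        t.2.1.trans (isConj_iff.2 ⟨_, rfl⟩), t.2.2.1.trans (isConj_iff.2 ⟨_, rfl⟩), by
          have : (u : G) * t.1.2 * (u : G)⁻¹ * ((u : G) * t.1.1 * (u : G)⁻¹)⁻¹ =
              (u : G) * (t.1.2 * t.1.1⁻¹) * (u : G)⁻¹ := by group
          rw [this]
          exact mul_mem (mul_mem u.2 t.2.2.2) (inv_mem u.2)⟩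
      one_smul := fun t => by
        apply Subtype.ext
        show (((1 : (P : Subgroup G)) : G) * t.1.1 * ((1 : (P : Subgroup G)) : G)⁻¹,
          ((1 : (P : Subgroup G)) : G) * t.1.2 * ((1 : (P : Subgroup G)) : G)⁻¹) = t.1
        simp
      mul_smul := fun u v t => by
        apply Subtype.ext
        show (((u * v : (P : Subgroup G)) : G) * t.1.1 * ((u * v : (P : Subgroup G)) : G)⁻¹,
          ((u * v : (P : Subgroup G)) : G) * t.1.2 * ((u * v : (P : Subgroup G)) : G)⁻¹) =
          ((u : G) * ((v : G) * t.1.1 * (v : G)⁻¹) * (u : G)⁻¹,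
            (u : G) * ((v : G) * t.1.2 * (v : G)⁻¹) * (u : G)⁻¹)
        simp [mul_assoc] }
  obtain ⟨n, hn⟩ := IsPGroup.iff_card.1 P.2
  obtain ⟨s, hs⟩ := IsPGroup.iff_card.1 S.2
  show _ ∣ Nat.card X
  rw [Nat.card_congr (MulAction.selfEquivSigmaOrbitsQuotientStabilizer (P : Subgroup G) X)]
  haveI := Fintype.ofFinite (MulAction.orbitRel.Quotient (P : Subgroup G) X)
  rw [Nat.card_sigma]
  refine Finset.dvd_sum (fun ω _ => ?_)
  set t := Quotient.out ω
  set St := MulAction.stabilizer (P : Subgroup G) t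
  -- the stabilizer centralizes a conjugate of `g`
  obtain ⟨w, hw⟩ := isConj_iff.1 t.2.1
  let φ : St →* Subgroup.centralizer ({g} : Set G) :=
    { toFun := fun u => ⟨w⁻¹ * ((u : (P : Subgroup G)) : G) * w, by
        rw [Subgroup.mem_centralizer_singleton_iff]
        have h1 : ((u : (P : Subgroup G)) : G) * t.1.1 * ((u : (P : Subgroup G)) : G)⁻¹ = t.1.1 :=
          congrArg (fun z : X => z.1.1) u.2
        rw [mul_inv_eq_iff_eq_mul, ← hw] at h1
        calc w⁻¹ * ((u : (P : Subgroup G)) : G) * w * g =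
            w⁻¹ * (((u : (P : Subgroup G)) : G) * (w * g * w⁻¹)) * w := by group
          _ = w⁻¹ * (w * g * w⁻¹ * ((u : (P : Subgroup G)) : G)) * w := by rw [h1]
          _ = _ := by group⟩
      map_one' := Subtype.ext (by simp)
      map_mul' := fun u v => Subtype.ext (by simp [mul_assoc]) }
  have hφ : Function.Injective φ := fun u v e => by
    have := congrArg Subtype.val e
    exact Subtype.ext (Subtype.ext (by simpa [φ] using this))
  have hp' : IsPGroup p φ.range := (P.2.to_subgroup St).of_surjective _ φ.rangeRestrict_surjective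
  obtain ⟨Q, hQ⟩ := hp'.exists_le_sylow
  have hd : Nat.card St ∣ Nat.card S := by
    rw [Nat.card_congr (MonoidHom.ofInjective hφ).toEquiv, Nat.card_congr (Sylow.equiv S Q).toEquiv]
    exact Subgroup.card_dvd_of_le hQ
  have hidx : Nat.card ((P : Subgroup G) ⧸ St) = St.index := rfl
  rw [hidx]
  have hm := St.card_mul_index
  obtain ⟨c, hc⟩ := hd
  show Nat.card (P : Subgroup G) / Nat.card S ∣ _
  by_cases hle : s ≤ n
  · have : Nat.card (P : Subgroup G) = Nat.card S * p ^ (n - s) := by
      rw [hn, hs, ← pow_add, Nat.add_sub_cancel' hle]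
    rw [this, Nat.mul_div_cancel_left _ Nat.card_pos]
    refine ⟨c, ?_⟩
    have h' : Nat.card St * St.index = Nat.card St * (p ^ (n - s) * c) := by
      rw [hm, this, hc]; ring
    exact Nat.eq_of_mul_eq_mul_left Nat.card_pos h'
  · exfalso
    obtain ⟨R, hR⟩ := ((S.2.map (Subgroup.centralizer ({g} : Set G)).subtype)).exists_le_sylow
    have h1 := Subgroup.card_dvd_of_le hR
    rw [Subgroup.card_map_of_injective (Subgroup.subtype_injective _),
      Nat.card_congr (Sylow.equiv R P).toEquiv, hn, hs] at h1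
    exact hle ((Nat.pow_dvd_pow_iff_le_right (Fact.out : p.Prime).one_lt).1 h1)

end Cfsg.Agent.S0957
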