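import Cfsg.Statements.S0959
import Cfsg.Agent.Lib.Char.DefectLocal

set_option autoImplicit false
open Cfsg
open scoped ComplexConjugate

namespace Cfsg.Agent.S0959

/-- Let B be a block of the finite group G with defect group D (relative to a maximal ideal M of the algebraic integers containing the prime p), and let P be a p-subgroup. Then there is an element g whose idempotent coefficient for B is a local integer outside the local ideal at M and which has a conjugate centralizing P, if and only if some conjugate of P is contained in D. -/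
theorem result {G : Type*} [Group G] [Finite G] (p : ℕ) [Fact p.Prime] (M : Ideal Cfsg.AlgInt) (hM : Cfsg.IsPModular p M) (B : Set (Cfsg.IrrCharacter G)) (hB : Cfsg.IsPBlock M B) (D : Subgroup G) (hD : Cfsg.IsDefectGroup p M B D) (P : Subgroup G) (hP : IsPGroup p P) : (∃ g : G, Cfsg.MemLocalRing M (Cfsg.blockCoeff B g) ∧ ¬ Cfsg.MemLocalIdeal M (Cfsg.blockCoeff B g) ∧ ∃ c : G, IsConj g c ∧ c ∈ Subgroup.centralizer (P : Set G)) ↔ ∃ x : G, P.map (MulAut.conj x).toMonoidHom ≤ D := by
  have := Fintype.ofFinite G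
  have hMp := Cfsg.Agent.Char.pmod_prime hM
  obtain ⟨y, hy, hDy⟩ := (Cfsg.Agent.Char.isDefectGroup_iff B D).mp hD
  constructor
  · rintro ⟨g, -, hg, c, hgc, hc⟩
    obtain ⟨k, rfl⟩ := isConj_iff.mp hgc
    rw [← Cfsg.Agent.Char.isClassFunction_blockCoeff B g k] at hg
    obtain ⟨t, ht⟩ := Cfsg.Agent.Char.le_defect_of_detect hM hB hy hDy hP hc hg
    refine ⟨t⁻¹, ?_⟩
    rintro _ ⟨w, hw, rfl⟩
    obtain ⟨v, hv, rfl⟩ := ht hw
    simpa [mul_assoc] using hv
  · rintro ⟨x, hx⟩
    refine ⟨y, hy.1, hy.2.1, x⁻¹ * y * x, isConj_iff.mpr ⟨x⁻¹, by simp⟩, fun w hw => ?_⟩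
    have h1 := hDy.self_mem_centralizer (x * w * x⁻¹) (hx ⟨w, hw, rfl⟩)
    calc w * (x⁻¹ * y * x) = x⁻¹ * ((x * w * x⁻¹) * y) * x := by group
      _ = x⁻¹ * (y * (x * w * x⁻¹)) * x := by rw [h1]
      _ = x⁻¹ * y * x * w := by group

end Cfsg.Agent.S0959
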