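import Cfsg.Statements.S0967
import Cfsg.Agent.Lib.Char.CoverBlocks

set_option autoImplicit false
open Cfsg
open scoped ComplexConjugate

namespace Cfsg.Agent.S0967

/-- Let N be a normal subgroup of the finite group G of order prime to p and fix a maximal ideal M of the algebraic integers containing p. If χ is an irreducible character of G ⧸ N and ψ lies in the block of its inflation χ ∘ (quotient map), then ψ is itself inflated from an irreducible character ψ' of G ⧸ N lying in the block of χ. (Over a normal p'-subgroup, blocks of the quotient are whole blocks of G.) -/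
theorem result {G : Type*} [Group G] [Finite G] (p : ℕ) [Fact p.Prime] (M : Ideal Cfsg.AlgInt) (hM : Cfsg.IsPModular p M) (N : Subgroup G) [N.Normal] (hN : ¬ p ∣ Nat.card N) (χ : Cfsg.IrrCharacter (G ⧸ N)) (ψ : Cfsg.IrrCharacter G) (hψ : ψ ∈ Cfsg.blockOf M ((χ : G ⧸ N → ℂ) ∘ QuotientGroup.mk)) : ∃ ψ' : Cfsg.IrrCharacter (G ⧸ N), (ψ : G → ℂ) = (ψ' : G ⧸ N → ℂ) ∘ QuotientGroup.mk ∧ Cfsg.SameBlock M (χ : G ⧸ N → ℂ) (ψ' : G ⧸ N → ℂ) := by
  classical
  haveI := Fintype.ofFinite G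
  haveI := Fintype.ofFinite N
  let χ₀ : IrrCharacter G := ⟨_, Char.isIrr_inflate N χ.2⟩
  have hs : SameBlock M (χ₀ : G → ℂ) (ψ : G → ℂ) := hψ
  have hker : ∀ n ∈ N, (χ₀ : G → ℂ) n = (χ₀ : G → ℂ) 1 := fun n hn => by
    show (χ : G ⧸ N → ℂ) _ = (χ : G ⧸ N → ℂ) _
    rw [(QuotientGroup.eq_one_iff n).2 hn, QuotientGroup.mk_one]
  obtain ⟨ψ', hψ'⟩ := Char.exists_deflate N ψ.2 (Char.trivial_on_of_sameBlock hM N hN hs hker)
  exact ⟨ψ', funext fun g => (hψ' g).symm,
    Char.sameBlock_deflate hM hN (χ := χ₀) (ψ := ψ) (fun _ => rfl) (fun g => (hψ' g).symm) hs⟩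

end Cfsg.Agent.S0967
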