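import Cfsg.Statements.S0968
import Cfsg.Agent.Lib.Char.CentralDefect

set_option autoImplicit false
open Cfsg
open scoped ComplexConjugate

namespace Cfsg.Agent.S0968

/-- Let P be a p-subgroup of the finite group G with P ⊔ C_G(P) = G, and let B be a block with defect group P relative to a maximal ideal M of the algebraic integers containing p. Then there is exactly one θ ∈ B with θ x = θ 1 for all x ∈ P; for this θ the exponent of p in θ(1) equals the exponent of p in the index of P; and the number of members of B equals the number of conjugacy classes of P. -/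
theorem result {G : Type*} [Group G] [Finite G] (p : ℕ) [Fact p.Prime] (M : Ideal Cfsg.AlgInt) (hM : Cfsg.IsPModular p M) (P : Subgroup G) (hP : IsPGroup p P) (hG : P ⊔ Subgroup.centralizer (P : Set G) = ⊤) (B : Set (Cfsg.IrrCharacter G)) (hB : Cfsg.IsPBlock M B) (hD : Cfsg.IsDefectGroup p M B P) : (∃! θ : Cfsg.IrrCharacter G, θ ∈ B ∧ ∀ x ∈ P, (θ : G → ℂ) x = (θ : G → ℂ) 1) ∧ (∀ θ ∈ B, (∀ x ∈ P, (θ : G → ℂ) x = (θ : G → ℂ) 1) → (Cfsg.charDegree (θ : G → ℂ)).factorization p = P.index.factorization p) ∧ Nat.card B = Nat.card (ConjClasses P) := by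
  classical
  letI := Fintype.ofFinite G
  have hP' := Cfsg.Agent.Char.pmod_prime hM
  have hne := Cfsg.Agent.Char.block_nonempty hP' hB
  obtain ⟨χ, hχ⟩ := hne
  haveI := Cfsg.Agent.Char.normal_of_sup hG
  have hdeg : ∀ θ ∈ B, (∀ x ∈ P, (θ : G → ℂ) x = (θ : G → ℂ) 1) →
      (Cfsg.charDegree (θ : G → ℂ)).factorization p = P.index.factorization p := by
    intro θ hθ htr
    obtain ⟨φ, hφ⟩ := Cfsg.Agent.Char.exists_quotient_char P θ htr
    have e : Cfsg.Agent.Char.deg (φ : G ⧸ P → ℂ) = Cfsg.charDegree (θ : G → ℂ) := by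
      have h := hφ 1
      rw [QuotientGroup.mk_one, Cfsg.Agent.Char.char_one_eq_deg (Cfsg.Agent.Char.irr_isCharacter φ.2),
        Cfsg.Agent.Char.char_one_eq_deg (Cfsg.Agent.Char.irr_isCharacter θ.2)] at h
      rw [Cfsg.Agent.Char.charDegree_eq_deg]
      exact_mod_cast h
    haveI := Fintype.ofFinite (G ⧸ P)
    refine le_antisymm ?_ ?_
    · rw [← e, Subgroup.index_eq_card]
      exact (Nat.factorization_le_iff_dvd (Cfsg.Agent.Char.deg_pos φ.2).ne'
        Nat.card_pos.ne').mpr (Cfsg.Agent.Char.deg_dvd_card φ.2) p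
    · have h1 := Cfsg.Agent.Char.card_defectGroup hM hB hD
      have h2 := Cfsg.Agent.Char.dmin_add_defect (p := p) ⟨χ, hχ⟩
      have h3 := Cfsg.Agent.Char.dmin_le (p := p) hθ
      have h4 : (Nat.card G).factorization p =
          Cfsg.blockDefect p B + P.index.factorization p := by
        rw [← Subgroup.card_mul_index P, Nat.factorization_mul Nat.card_pos.ne'
          Subgroup.index_ne_zero_of_finite, Finsupp.add_apply, h1, hM.1.factorization_pow,
          Finsupp.single_eq_same]
      simp only [Cfsg.Agent.Char.dexp, ← Cfsg.Agent.Char.charDegree_eq_deg] at h3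
      omega
  obtain ⟨θ, hsame, htr⟩ := Cfsg.Agent.Char.exists_sameBlock_trivial_on hM P hP χ
  have hθB : θ ∈ B := by
    rw [Cfsg.Agent.Char.block_eq_blockOf hP' hB hχ]
    exact hsame
  have hdata : Cfsg.Agent.Char.CDData p P θ :=
    ⟨hM.1, hP, hG, htr, by rw [← Cfsg.Agent.Char.charDegree_eq_deg]; exact hdeg θ hθB htr⟩
  obtain ⟨huniq, hcard⟩ := hdata.block hM hB hθB
  exact ⟨⟨θ, ⟨hθB, htr⟩, fun θ' h => huniq θ' h.1 h.2⟩, hdeg, hcard⟩

end Cfsg.Agent.S0968
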