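import Cfsg.Statements.S0969
import Cfsg.Agent.Lib.Char.FirstMain

set_option autoImplicit false
open Cfsg
open scoped ComplexConjugate

namespace Cfsg.Agent.S0969

/-- Let D be a central p-subgroup of the finite group G and χ an irreducible character with the exponent of p in χ(1) equal to the exponent of p in the index of D; fix a maximal ideal M of the algebraic integers containing p. Then D is a defect group of the block of χ, and χ g = 0 whenever the p-part of g does not lie in D. -/
theorem result {G : Type*} [Group G] [Finite G] (p : ℕ) [Fact p.Prime] (M : Ideal Cfsg.AlgInt) (hM : Cfsg.IsPModular p M) (D : Subgroup G) (hD : IsPGroup p D) (hDZ : D ≤ Subgroup.center G) (χ : Cfsg.IrrCharacter G) (hdeg : (Cfsg.charDegree (χ : G → ℂ)).factorization p = D.index.factorization p) : Cfsg.IsDefectGroup p M (Cfsg.blockOf M (χ : G → ℂ)) D ∧ ∀ g x : G, Cfsg.IsPPart p g x → x ∉ D → (χ : G → ℂ) g = 0 := by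
  classical
  haveI := Fintype.ofFinite G
  have hp := hM.1
  have h := Char.defect_of_trivial_char hM hDZ hD χ (by
    show (Cfsg.charDegree (χ : G → ℂ)).factorization p + _ = _
    rw [hdeg, ← Subgroup.index_mul_card D, Nat.factorization_mul Subgroup.index_ne_zero_of_finite
      Nat.card_pos.ne', Finsupp.add_apply])
  refine ⟨h.1, ?_⟩
  rintro g x ⟨y, rfl, hc, hx, hy⟩ hxD
  refine h.2 _ ?_
  rwa [Char.preg_of_mul hp hc hx hy, mul_inv_cancel_right]

end Cfsg.Agent.S0969
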