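import Cfsg.Statements.S0970
import Cfsg.Agent.Lib.Char.CoverDefect

set_option autoImplicit false
open Cfsg
open scoped ComplexConjugate

namespace Cfsg.Agent.S0970

/-- Let N be a normal subgroup of the finite group G and fix a maximal ideal M of the algebraic integers containing the prime p. Let b be a block of N that is invariant under conjugation by G, and B a block of G covering b (some χ ∈ B has a constituent in b) whose defect is at least that of every block covering b. If P is a defect group of B, then p does not divide the index of P ⊔ N, the subgroup P ∩ N of N is a defect group of b, and the defect of B equals the defect of b plus the exponent of p in the index of N. -/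
theorem result {G : Type*} [Group G] [Fintype G] (p : ℕ) [Fact p.Prime] (M : Ideal Cfsg.AlgInt) (hM : Cfsg.IsPModular p M) (N : Subgroup G) [hN : N.Normal] [Fintype N] (b : Set (Cfsg.IrrCharacter N)) (hb : Cfsg.IsPBlock M b) (hinv : ∀ g : G, ∀ θ ∈ b, ∀ θ' : Cfsg.IrrCharacter N, (∀ n : N, (θ' : N → ℂ) n = (θ : N → ℂ) ⟨g * n * g⁻¹, hN.conj_mem n n.2 g⟩) → θ' ∈ b) (B : Set (Cfsg.IrrCharacter G)) (hB : Cfsg.IsPBlock M B) (hcov : ∃ χ ∈ B, ∃ θ ∈ b, Cfsg.classInner (fun n : N => (χ : G → ℂ) n) (θ : N → ℂ) ≠ 0) (hmax : ∀ B' : Set (Cfsg.IrrCharacter G), Cfsg.IsPBlock M B' → (∃ χ ∈ B', ∃ θ ∈ b, Cfsg.classInner (fun n : N => (χ : G → ℂ) n) (θ : N → ℂ) ≠ 0) → Cfsg.blockDefect p B' ≤ Cfsg.blockDefect p B) (P : Subgroup G) (hP : Cfsg.IsDefectGroup p M B P) : ¬ p ∣ (P ⊔ N).index ∧ Cfsg.IsDefectGroup p M b ((P ⊓ N).subgroupOf N) ∧ Cfsg.blockDefect p B = Cfsg.blockDefect p b + N.index.factorization p := by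
  have hst : ∀ x : G, Cfsg.StabilizesBlock N b x := fun x => by
    refine ⟨by rw [Subgroup.normalizer_eq_top N]; trivial, fun θ hθ =>
      ⟨_, hinv x⁻¹ θ hθ (Cfsg.Agent.Char.irrTransport (MulAut.conjNormal x⁻¹ : N ≃* N) θ)
        (fun n => ?_), Cfsg.Agent.Char.isConjCharOf_transport x θ⟩⟩
    rw [Cfsg.Agent.Char.irrTransport_apply]
    exact congrArg _ (Subtype.ext (MulAut.conjNormal_apply _ _))
  have hMp := Cfsg.Agent.Char.pmod_prime hM
  obtain ⟨P₀, hidx, hb₀, -, ⟨B₀, hB₀, hcov₀, hP₀⟩, hall⟩ :=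
    Cfsg.Agent.Char.exists_max_cover hM hb hst
  obtain ⟨t, ht⟩ := hall B P hB hcov hP
  have hle := hmax B₀ hB₀ hcov₀
  have hPeq : P = P₀.map (MulAut.conj t).toMonoidHom := by
    refine Subgroup.eq_of_le_of_card_ge ht ?_
    rw [Subgroup.card_map_of_injective (MulEquiv.injective _),
      Cfsg.Agent.Char.card_defectGroup hM hB₀ hP₀, Cfsg.Agent.Char.card_defectGroup hM hB hP]
    exact Nat.pow_le_pow_right hM.1.pos hle
  have hNmap : N.map (MulAut.conj t).toMonoidHom = N := by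
    ext y
    constructor
    · rintro ⟨w, hw, rfl⟩
      exact hN.conj_mem w hw t
    · intro hy
      refine ⟨t⁻¹ * y * t, by simpa using hN.conj_mem y hy t⁻¹, ?_⟩
      show t * (t⁻¹ * y * t) * t⁻¹ = y
      group
  have hidx' : ¬ p ∣ (P ⊔ N).index := by
    rw [hPeq, show P₀.map (MulAut.conj t).toMonoidHom ⊔ N =
      (P₀ ⊔ N).map (MulAut.conj t).toMonoidHom by rw [Subgroup.map_sup, hNmap]]
    rwa [show ((P₀ ⊔ N).map (MulAut.conj t).toMonoidHom).index = (P₀ ⊔ N).index from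
      Subgroup.index_map_equiv (P₀ ⊔ N) (MulAut.conj t)]
  have hDb : Cfsg.IsDefectGroup p M b ((P ⊓ N).subgroupOf N) := by
    have h1 := Cfsg.Agent.Char.isDefectGroup_transport
      (MulAut.conjNormal t⁻¹ : N ≃* N) hM.1 hb₀
    rw [(Cfsg.Agent.Char.stabilizesBlock_iff hMp hb t).mp (hst t)] at h1
    refine (congrArg (Cfsg.IsDefectGroup p M b) ?_).mp h1
    ext y
    rw [Subgroup.mem_map_equiv, MulEquiv.symm_symm, Subgroup.mem_subgroupOf, Subgroup.mem_subgroupOf,
      MulAut.conjNormal_apply, inv_inv, Subgroup.mem_inf, Subgroup.mem_inf, hPeq,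
      Subgroup.mem_map_equiv, MulAut.conj_symm_apply]
    exact ⟨fun h => ⟨h.1, y.2⟩, fun h => ⟨h.1, by simpa using hN.conj_mem _ y.2 t⁻¹⟩⟩
  refine ⟨hidx', hDb, ?_⟩
  have h1 := Cfsg.Agent.Char.card_defectGroup hM hB hP
  have h2 := Cfsg.Agent.Char.card_defectGroup hM hb hDb
  have h3 := Cfsg.Agent.Char.card_eq_inf_mul_relIndex N P
  have h4 := Subgroup.relIndex_mul_index (le_sup_right : N ≤ P ⊔ N)
  rw [Subgroup.relIndex_sup_right] at h4
  rw [inf_comm P N, Nat.card_congr (Subgroup.subgroupOfEquivOfLe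
    (inf_le_left : N ⊓ P ≤ N)).toEquiv] at h2
  rw [h1, h2] at h3
  have hr0 : N.relIndex P ≠ 0 := Subgroup.FiniteIndex.index_ne_zero (H := N.subgroupOf P)
  have h5 := congrArg (fun n : ℕ => n.factorization p) h3
  have h6 := congrArg (fun n : ℕ => n.factorization p) h4
  simp only [Nat.factorization_mul (pow_ne_zero _ hM.1.ne_zero) hr0,
    Nat.factorization_mul hr0 Subgroup.index_ne_zero_of_finite, Finsupp.add_apply,
    Nat.factorization_pow_self hM.1, Nat.factorization_eq_zero_of_not_dvd hidx'] at h5 h6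
  omega

end Cfsg.Agent.S0970
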