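import Cfsg.Statements.S0971
import Cfsg.Agent.Lib.Char.FirstMainInduced
import Cfsg.Agent.Lib.Char.Restrict

set_option autoImplicit false
open Cfsg
open scoped ComplexConjugate

namespace Cfsg.Agent.S0971

/-- Let Q be a normal p-subgroup of the finite group G, let N = Q ⊔ C_G(Q) (a normal subgroup) and let b be a block of N relative to a maximal ideal M of the algebraic integers containing p. Then b induces some block of G, and every block B of G containing a character whose restriction to N has a constituent in b is induced by b. -/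
theorem result {G : Type*} [Group G] [Fintype G] (p : ℕ) [Fact p.Prime] (M : Ideal Cfsg.AlgInt) (hM : Cfsg.IsPModular p M) (Q : Subgroup G) [Q.Normal] (hQ : IsPGroup p Q) [Fintype ↥(Q ⊔ Subgroup.centralizer (Q : Set G))] (b : Set (Cfsg.IrrCharacter ↥(Q ⊔ Subgroup.centralizer (Q : Set G)))) (hb : Cfsg.IsPBlock M b) : Cfsg.InducedBlockDefined M (Q ⊔ Subgroup.centralizer (Q : Set G)) b ∧ ∀ B : Set (Cfsg.IrrCharacter G), Cfsg.IsPBlock M B → (∃ χ ∈ B, ∃ θ ∈ b, Cfsg.classInner (fun n : ↥(Q ⊔ Subgroup.centralizer (Q : Set G)) => (χ : G → ℂ) n) (θ : ↥(Q ⊔ Subgroup.centralizer (Q : Set G)) → ℂ) ≠ 0) → Cfsg.IsInducedBlock M (Q ⊔ Subgroup.centralizer (Q : Set G)) b B := by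
  classical
  have hMp := Char.pmod_prime hM
  have hHN : Q ⊔ Subgroup.centralizer (Q : Set G) ≤ Subgroup.normalizer (Q : Set G) := by
    rw [Subgroup.normalizer_eq_top]
    exact le_top
  haveI hn : (Q ⊔ Subgroup.centralizer (Q : Set G)).Normal := inferInstance
  refine ⟨Char.inducedBlockDefined_of_local hM hQ le_sup_left le_sup_right hHN hb, ?_⟩
  rintro B hB ⟨χ, hχ, θ, hθ, hne⟩
  refine ⟨hb, hB, fun ξ hξ χ' hχ' g => ?_⟩
  refine Char.memLI_trans hMp (Char.inducedCentralChar_congr hMp (Char.block_sameBlock hMp hb hξ hθ) g) ?_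
  refine Char.memLI_trans hMp (y := Cfsg.centralChar (χ : G → ℂ) g) ?_
    (Char.block_sameBlock hMp hB hχ hχ' g)
  by_cases hg : g ∈ Q ⊔ Subgroup.centralizer (Q : Set G)
  · rw [(Char.constituent_restrict_iff _ χ θ).mp hne ⟨g, hg⟩, sub_self]
    exact Char.memLI_zero hMp
  · have h0 : Cfsg.inducedCentralChar (Q ⊔ Subgroup.centralizer (Q : Set G))
        (θ : ↥(Q ⊔ Subgroup.centralizer (Q : Set G)) → ℂ) g = 0 := by
      rw [Char.inducedCentralChar_eq, show (fun x : ↥(Q ⊔ Subgroup.centralizer (Q : Set G)) =>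
        Char.classInd g (x : G)) = 0 from funext fun x => ?_, Char.lam_zero]
      simp only [Char.classInd, Pi.zero_apply, ite_eq_right_iff]
      intro hgx
      obtain ⟨c, hc⟩ := isConj_iff.mp hgx.symm
      exact absurd (hc ▸ hn.conj_mem _ x.2 c) hg
    rw [h0, zero_sub, ← Char.omega_eq_centralChar]
    exact Char.memLI_neg hMp (Char.omega_memLI_of_not_centralizing hM Q hQ χ
      fun h => hg (Subgroup.mem_sup_right h))

end Cfsg.Agent.S0971
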