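import Cfsg.Statements.S0973
import Cfsg.Agent.Lib.Char.FirstMainExtended

set_option autoImplicit false
open Cfsg
open scoped ComplexConjugate

namespace Cfsg.Agent.S0973

/-- Let B be a block of the finite group G with defect group P (relative to a maximal ideal M of the algebraic integers containing p), and let L = P ⊔ C_G(P). Then (i) some block b of L with defect group P (viewed in L) induces B, and (ii) if b and b' are blocks of L both inducing B, there is n ∈ N_G(P) carrying b to b': for every θ ∈ b there is θ' ∈ b' with θ' x = θ (n x n⁻¹) for all x ∈ L. -/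
theorem result {G : Type*} [Group G] [Finite G] (p : ℕ) [Fact p.Prime] (M : Ideal Cfsg.AlgInt) (hM : Cfsg.IsPModular p M) (B : Set (Cfsg.IrrCharacter G)) (hB : Cfsg.IsPBlock M B) (P : Subgroup G) (hP : Cfsg.IsDefectGroup p M B P) : (∃ b : Set (Cfsg.IrrCharacter ↥(P ⊔ Subgroup.centralizer (P : Set G))), Cfsg.IsDefectGroup p M b (P.subgroupOf (P ⊔ Subgroup.centralizer (P : Set G))) ∧ Cfsg.IsInducedBlock M (P ⊔ Subgroup.centralizer (P : Set G)) b B) ∧ ∀ b b' : Set (Cfsg.IrrCharacter ↥(P ⊔ Subgroup.centralizer (P : Set G))), Cfsg.IsInducedBlock M (P ⊔ Subgroup.centralizer (P : Set G)) b B → Cfsg.IsInducedBlock M (P ⊔ Subgroup.centralizer (P : Set G)) b' B → ∃ n ∈ Subgroup.normalizer (P : Set G), ∀ θ ∈ b, ∃ θ' ∈ b', ∀ x : ↥(P ⊔ Subgroup.centralizer (P : Set G)), ∀ hx : n * (x : G) * n⁻¹ ∈ P ⊔ Subgroup.centralizer (P : Set G), (θ' : ↥(P ⊔ Subgroup.centralizer (P : Set G)) → ℂ) x = (θ : ↥(P ⊔ Subgroup.centralizer (P : Set G)) → ℂ) ⟨n * (x : G) * n⁻¹, hx⟩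 := by
  classical
  haveI := Fintype.ofFinite G
  suffices key : ∀ (H : Subgroup G) (P0 : Subgroup H), P0.map H.subtype = P →
      H = P ⊔ Subgroup.centralizer (P : Set G) →
      (∃ b : Set (IrrCharacter H), IsDefectGroup p M b P0 ∧ IsInducedBlock M H b B) ∧
        ∀ b b' : Set (IrrCharacter H), IsInducedBlock M H b B → IsInducedBlock M H b' B →
          ∃ n ∈ Subgroup.normalizer (P : Set G), ∀ θ ∈ b, ∃ θ' ∈ b', ∀ x : H,
            ∀ hx : n * (x : G) * n⁻¹ ∈ H, (θ' : H → ℂ) x = (θ : H → ℂ) ⟨n * (x : G) * n⁻¹, hx⟩ from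
    key _ _ (Subgroup.map_subgroupOf_eq_of_le le_sup_left) rfl
  intro H P0 h hH
  subst h
  haveI := Fintype.ofFinite H
  have hC : Subgroup.centralizer ((P0.map H.subtype : Subgroup G) : Set G) ≤ H :=
    le_sup_right.trans hH.ge
  refine ⟨?_, fun b b' hb hb' => ?_⟩
  · obtain ⟨e, he⟩ := Char.exists_pair_of_le_defect hM hB hP le_rfl
    obtain ⟨e0, c, hc, rfl⟩ := Char.exists_pre_pairOf hM hC he.1
    exact ⟨c, Char.maximal_pair_defect hM
        (Char.maximal_sub hM hC hc (Char.maximal_of_defect hM hP he)),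
      Char.induced_of_pairOf hM hC (hH.le.trans Char.le_normalizer_of_local) hc he⟩
  · obtain ⟨n, hn, hnH, h⟩ := Char.extended_first_main_unique hM hH hP hb hb'
    refine ⟨n, hn, fun θ hθ => ⟨Char.irrTransport (Char.conjH H n hnH) θ, h ▸ ⟨θ, hθ, rfl⟩,
      fun x hx => ?_⟩⟩
    rw [Char.irrTransport_apply]
    rfl

end Cfsg.Agent.S0973
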