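import Cfsg.Statements.S0975
import Cfsg.Agent.Lib.Lead.BlockDegrees

set_option autoImplicit false
open Cfsg

namespace Cfsg.Agent.S0975

open Cfsg.Agent.Lead.BlockDeg

/-- No finite simple group has order 3744 = 2^5 * 3^2 * 13. -/
theorem result {G : Type*} [Group G] [Finite G] [IsSimpleGroup G] : Nat.card G ≠ 3744 := by
  intro hG
  haveI : Fact (Nat.Prime 13) := ⟨by norm_num⟩
  obtain ⟨P, e, hP, ⟨hn1, hn2, hn3⟩, he, he1, he2, he3⟩ :=
    sylow_data (p := 13) (m := 288) (by rw [hG]) (by norm_num) (by norm_num)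
  have hna : ¬ IsMulCommutative G :=
    not_comm (p := 13) (m := 288) (by norm_num) (by rw [hG]) (by norm_num)
  have key : ∀ d ∈ Nat.divisors 288, d % 13 = 1 → d ≠ 1 → d = 144 := by decide +kernel
  have hn := key _ (Nat.mem_divisors.mpr ⟨hn1, by norm_num⟩) hn2 hn3
  rw [hn] at he3
  obtain rfl : e = 2 := by
    have := Nat.dvd_of_mul_dvd_mul_left (by norm_num : 0 < 144) (by simpa using he3 : 144 * e ∣ 144 * 2)
    have h2 := Nat.le_of_dvd (by norm_num) this
    interval_cases e <;> norm_num at *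
  obtain ⟨s, hs, hs1, -, hs2, hs3⟩ := degree_equation_two hna P hP (by norm_num) he
  rw [hn] at hs2
  rw [hG] at hs3
  have key2 : ∀ d ∈ Nat.divisors 288, 1 < d →
      (d % 13 = 1 → ¬ d + 1 ∣ 3744) ∧ (d % 13 = 12 → ¬ d - 1 ∣ 3744) := by decide +kernel
  have h3 := key2 _ (Nat.mem_divisors.mpr ⟨hs2, by norm_num⟩) hs1
  rcases Int.natAbs_eq s with hd | hd
  · refine h3.1 (by omega) ?_
    rwa [show s.natAbs + 1 = (s + 1).natAbs by omega]
  · refine h3.2 (by omega) ?_
    rwa [show s.natAbs - 1 = (s + 1).natAbs by omega]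

end Cfsg.Agent.S0975
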