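import Cfsg.Statements.S0979
import Cfsg.Agent.Lib.Lead.BlockDegrees

set_option autoImplicit false
open Cfsg

namespace Cfsg.Agent.S0979

open Cfsg.Agent.Lead.BlockDeg

/-- No finite simple group has order 5472 = 2^5 * 3^2 * 19. -/
theorem result {G : Type*} [Group G] [Finite G] [IsSimpleGroup G] : Nat.card G ≠ 5472 := by
  intro hG
  haveI : Fact (Nat.Prime 19) := ⟨by norm_num⟩
  obtain ⟨P, e, hP, ⟨hn1, hn2, hn3⟩, he, he1, he2, he3⟩ :=
    sylow_data (p := 19) (m := 288) (by rw [hG]) (by norm_num) (by norm_num)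
  have hna : ¬ IsMulCommutative G :=
    not_comm (p := 19) (m := 288) (by norm_num) (by rw [hG]) (by norm_num)
  have key : ∀ d ∈ Nat.divisors 288, d % 19 = 1 → d ≠ 1 → d = 96 := by decide +kernel
  have hn := key _ (Nat.mem_divisors.mpr ⟨hn1, by norm_num⟩) hn2 hn3
  rw [hn] at he3
  obtain rfl : e = 3 := by
    have := Nat.dvd_of_mul_dvd_mul_left (by norm_num : 0 < 96) (by simpa using he3 : 96 * e ∣ 96 * 3)
    have h2 := Nat.le_of_dvd (by norm_num) this
    interval_cases e <;> norm_num at *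
  obtain ⟨s, s', ⟨h1, h2, -, h4⟩, ⟨k1, k2, -, k4⟩, ht⟩ :=
    degree_equation_three hna P hP (by norm_num) he
  rw [hn] at h4 k4
  rw [hG] at ht
  have key2 : ∀ d ∈ Nat.divisors (96 * 3), 1 < d → (d % 19 = 1 ∨ d % 19 = 18) →
      d = 18 ∨ d = 96 := by decide +kernel
  have a1 := key2 _ (Nat.mem_divisors.mpr ⟨h4, by norm_num⟩) h2 (by omega)
  have a2 := key2 _ (Nat.mem_divisors.mpr ⟨k4, by norm_num⟩) k2 (by omega)
  have hs : s = -18 ∨ s = 96 := by omega
  have hs' : s' = -18 ∨ s' = 96 := by omega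
  rcases hs with rfl | rfl <;> rcases hs' with rfl | rfl <;> norm_num at ht

end Cfsg.Agent.S0979
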