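import Cfsg.Statements.S0988
import Cfsg.Agent.Lib.Small.SmallOrders
import Cfsg.Agent.Lib.Char.Burnside
-- import your own Cfsg.Agent.* helpers here

set_option autoImplicit false
open Cfsg

namespace Cfsg.Agent.S0988

section

open Subgroup
open Cfsg.Agent.Small.SmallOrders

variable {G : Type*} [Group G] [Finite G] [IsSimpleGroup G]

theorem not_two_primes (hnc : ¬ IsMulCommutative G) (a b : ℕ) (ha : a.Prime) (hb : b.Prime)
    (h : ∀ s : ℕ, s.Prime → s ∣ Nat.card G → s = a ∨ s = b) : False := by
  have hs : Group.IsSolvable G := Cfsg.Agent.Char.isSolvable_of_two_primes ha hb _ rfl h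
  exact hnc ⟨⟨IsSimpleGroup.comm_iff_isSolvable.2 hs⟩⟩

theorem main {p q r : ℕ} (hp : p.Prime) (hq : q.Prime) (hr : r.Prime)
    (hG : Nat.card G = p ^ 2 * q * r) : Nat.card G = 60 := by
  classical
  have hdiv : ∀ s : ℕ, s.Prime → s ∣ Nat.card G → s = p ∨ s = q ∨ s = r := by
    intro s hs h
    rw [hG] at h
    rcases hs.dvd_mul.1 h with h | h
    · rcases hs.dvd_mul.1 h with h | h
      · exact Or.inl ((Nat.prime_dvd_prime_iff_eq hs hp).1 (hs.dvd_of_dvd_pow h))
      · exact Or.inr (Or.inl ((Nat.prime_dvd_prime_iff_eq hs hq).1 h))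
    · exact Or.inr (Or.inr ((Nat.prime_dvd_prime_iff_eq hs hr).1 h))
  have hnp : ¬ (Nat.card G).Prime := by
    rw [hG]
    exact Nat.not_prime_mul (by
      have := Nat.mul_le_mul (Nat.pow_le_pow_left hp.two_le 2) hq.two_le
      omega) hr.one_lt.ne'
  have hnc := not_comm_of_card hnp
  have hpq : p ≠ q := fun e => not_two_primes hnc p r hp hr fun s hs h => by
    rcases hdiv s hs h with h | h | h <;> omega
  have hpr : p ≠ r := fun e => not_two_primes hnc p q hp hq fun s hs h => by
    rcases hdiv s hs h with h | h | h <;> omega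
  have hqr : q ≠ r := fun e => not_two_primes hnc p q hp hq fun s hs h => by
    rcases hdiv s hs h with h | h | h <;> omega
  have hpqr : ¬ p ∣ q * r := fun h => by
    rcases hp.dvd_mul.1 h with h | h
    · exact hpq ((Nat.prime_dvd_prime_iff_eq hp hq).1 h)
    · exact hpr ((Nat.prime_dvd_prime_iff_eq hp hr).1 h)
  haveI : Fact p.Prime := ⟨hp⟩
  obtain ⟨P⟩ : Nonempty (Sylow p G) := inferInstance
  have hG' : Nat.card G = p ^ 2 * (q * r) := by rw [hG, mul_assoc]
  have hPc : Nat.card (P : Subgroup G) = p ^ 2 := sylow_card_eq hG' hpqr P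
  -- the smallest prime divisor has a non-cyclic Sylow subgroup
  have hcard1 : Nat.card G ≠ 1 := by
    intro h
    rw [hG] at h
    have := Nat.eq_one_of_mul_eq_one_left h
    exact hr.ne_one this
  have hs := Nat.minFac_prime hcard1
  haveI : Fact (Nat.card G).minFac.Prime := ⟨hs⟩
  have hminle : ∀ s : ℕ, s.Prime → s ∣ Nat.card G → (Nat.card G).minFac ≤ s :=
    fun s hs' h => Nat.minFac_le_of_dvd hs'.two_le h
  have hcyc : ∀ S : Sylow (Nat.card G).minFac G, ¬ IsCyclic (S : Subgroup G) := by
    intro S hS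
    obtain ⟨k, hk⟩ := S.2.exists_card_eq
    refine false_of_central S ?_ ?_ (hS.normalizer_le_centralizer rfl)
    · refine Nat.one_lt_iff_ne_zero_and_ne_one.2 ⟨Nat.card_pos.ne', fun h => ?_⟩
      have h' := S.card_eq_multiplicity
      rw [h] at h'
      exact (Nat.one_lt_pow (hs.factorization_pos_of_dvd Nat.card_pos.ne' (Nat.minFac_dvd _)).ne'
        hs.one_lt).ne h'
    · refine lt_of_le_of_ne (Nat.le_of_dvd Nat.card_pos (card_subgroup_dvd_card _)) fun h => ?_
      refine not_two_primes hnc _ _ hs hs fun s hs' hd => Or.inl ?_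
      rw [← h, hk] at hd
      exact (Nat.prime_dvd_prime_iff_eq hs' hs).1 (hs'.dvd_of_dvd_pow hd)
  have hmin : (Nat.card G).minFac = p := by
    rcases hdiv _ hs (Nat.minFac_dvd _) with h | h | h
    · exact h
    all_goals
      exfalso
      obtain ⟨S⟩ : Nonempty (Sylow (Nat.card G).minFac G) := inferInstance
      refine hcyc S ?_
      refine @isCyclic_of_prime_card _ _ (Nat.card G).minFac _ ?_
    · have := sylow_card_eq (G := G) (p := (Nat.card G).minFac) (k := 1) (m := p ^ 2 * r)
        (by rw [h, hG, pow_one]; ring) ?_ S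
      · rw [pow_one] at this; exact this
      · rw [h]
        intro hd
        rcases hq.dvd_mul.1 hd with hd | hd
        · exact hpq ((Nat.prime_dvd_prime_iff_eq hq hp).1 (hq.dvd_of_dvd_pow hd)).symm
        · exact hqr ((Nat.prime_dvd_prime_iff_eq hq hr).1 hd)
    · have := sylow_card_eq (G := G) (p := (Nat.card G).minFac) (k := 1) (m := p ^ 2 * q)
        (by rw [h, hG, pow_one]; ring) ?_ S
      · rw [pow_one] at this; exact this
      · rw [h]
        intro hd
        rcases hr.dvd_mul.1 hd with hd | hd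
        · exact hpr ((Nat.prime_dvd_prime_iff_eq hr hp).1 (hr.dvd_of_dvd_pow hd)).symm
        · exact hqr ((Nat.prime_dvd_prime_iff_eq hr hq).1 hd).symm
  have hpmin : ∀ s : ℕ, s.Prime → s ∣ Nat.card G → s ≠ p → p < s := fun s hs' h hne =>
    lt_of_le_of_ne (hmin ▸ hminle s hs' h) (Ne.symm hne)
  -- an automorphism of the Sylow p-subgroup of prime order prime to p
  haveI := IsPGroup.isMulCommutative_of_card_eq_prime_sq hPc
  have hPC : (P : Subgroup G) ≤ centralizer ((P : Subgroup G) : Set G) :=
    le_centralizer_iff_isMulCommutative.mpr inferInstance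
  let φ := (P : Subgroup G).normalizerMonoidHom
  have hidx : φ.ker.index ∣ q * r := by
    have h1 : (P : Subgroup G).index = q * r := by
      have h := (P : Subgroup G).card_mul_index
      rw [hPc, hG'] at h
      exact Nat.eq_of_mul_eq_mul_left (pow_pos hp.pos _) h
    have h2 : (P : Subgroup G).subgroupOf (normalizer ((P : Subgroup G) : Set G)) ≤ φ.ker := by
      intro x hx
      show x ∈ (P : Subgroup G).normalizerMonoidHom.ker
      rw [normalizerMonoidHom_ker]
      exact hPC hx
    refine (index_dvd_of_le h2).trans ?_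
    rw [← h1]
    exact relIndex_dvd_index_of_le le_normalizer
  have hne1 : φ.ker.index ≠ 1 := by
    intro h
    refine false_of_central P ?_ ?_ fun x hx => ?_
    · show 1 < Nat.card (P : Subgroup G)
      rw [hPc]; exact Nat.one_lt_pow two_ne_zero hp.one_lt
    · show Nat.card (P : Subgroup G) < Nat.card G
      rw [hPc, hG']
      refine lt_mul_of_one_lt_right (pow_pos hp.pos _) ?_
      exact lt_of_lt_of_le hq.one_lt (Nat.le_mul_of_pos_right _ hr.pos)
    · have hx' : (⟨x, hx⟩ : normalizer ((P : Subgroup G) : Set G)) ∈ (P : Subgroup G).normalizerMonoidHom.ker := by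
        show _ ∈ φ.ker
        rw [index_eq_one.1 h]; exact mem_top _
      rw [normalizerMonoidHom_ker] at hx'
      exact hx'
  obtain ⟨l, hl, hld⟩ := Nat.exists_prime_and_dvd hne1
  have hlG : l ∣ Nat.card G := (hld.trans hidx).trans (by rw [hG']; exact dvd_mul_left _ _)
  have hlp : l ≠ p := fun e => hpqr (e ▸ hld.trans hidx)
  have hpl := hpmin l hl hlG hlp
  have hl2 : l ∣ p ^ 2 - 1 := by
    haveI : Fact l.Prime := ⟨hl⟩
    rw [index_ker] at hld
    obtain ⟨f, hf⟩ := exists_prime_orderOf_dvd_card' (G := φ.range) l hld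
    rw [← orderOf_coe] at hf
    have hf1 : (f : MulAut (P : Subgroup G)) ≠ 1 := fun h => by
      rw [h, orderOf_one] at hf; exact hl.ne_one hf.symm
    obtain ⟨ψ, hψ⟩ : ∃ ψ, ψ = (f : MulAut (P : Subgroup G)) := ⟨_, rfl⟩
    rw [← hψ] at hf hf1
    have hpg : IsPGroup l (zpowers ψ) := IsPGroup.of_card (n := 1) (by rw [Nat.card_zpowers, hf, pow_one])
    have hcf := hpg.card_modEq_card_fixedPoints (α := (P : Subgroup G))
    let C : Subgroup (P : Subgroup G) := (ψ : (P : Subgroup G) ≃* (P : Subgroup G)).toMonoidHom.eqLocus (MonoidHom.id _)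
    have hC : Nat.card (MulAction.fixedPoints (zpowers ψ) (P : Subgroup G)) = Nat.card C := by
      refine Nat.card_congr (Equiv.subtypeEquivRight fun x => ?_)
      constructor
      · intro h
        exact h ⟨ψ, mem_zpowers ψ⟩
      · intro h m
        have hstab : ψ ∈ MulAction.stabilizer (MulAut (P : Subgroup G)) x := h
        exact zpowers_le.2 hstab m.2
    rw [hC, hPc] at hcf
    have hCd : Nat.card C ∣ p ^ 2 := hPc ▸ card_subgroup_dvd_card C
    obtain ⟨i, hi, hCi⟩ := (Nat.dvd_prime_pow hp).1 hCd
    rw [hCi] at hcf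
    interval_cases i
    · rw [pow_zero] at hcf
      exact (Nat.modEq_iff_dvd' (Nat.one_le_pow _ _ hp.pos)).1 hcf.symm
    · exfalso
      have h := (Nat.modEq_iff_dvd' (Nat.le_self_pow two_ne_zero p |>.trans_eq' (pow_one p).symm)).1 hcf.symm
      have hfac : p ^ 2 - p ^ 1 = p * (p - 1) := by rw [Nat.mul_sub, pow_one, pow_two, mul_one]
      rw [hfac] at h
      rcases hl.dvd_mul.1 h with h | h
      · exact hlp ((Nat.prime_dvd_prime_iff_eq hl hp).1 h)
      · have := Nat.le_of_dvd (by have := hp.two_le; omega) h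
        omega
    · exfalso
      refine hf1 (MulEquiv.ext fun x => ?_)
      have hx : x ∈ C := by
        rw [eq_top_of_card_eq C (hCi.trans hPc.symm)]; exact mem_top _
      exact hx
  have hl3 : l = p + 1 := by
    have h : p ^ 2 - 1 = (p + 1) * (p - 1) := by
      rw [← Nat.sq_sub_sq p 1, one_pow]
    rw [h] at hl2
    rcases hl.dvd_mul.1 hl2 with h | h
    · exact le_antisymm (Nat.le_of_dvd (by omega) h) hpl
    · have := Nat.le_of_dvd (by have := hp.two_le; omega) h
      omega
  have hp2 : p = 2 := by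
    rcases hl.eq_two_or_odd' with h | h
    · have := hp.two_le; omega
    · rcases hp.eq_two_or_odd' with h' | h'
      · exact h'
      · rw [hl3] at h
        exact absurd h (by simp [Nat.odd_add_one, h'])
  have hl3' : l = 3 := by omega
  obtain ⟨s, hs', hs5, hG12⟩ : ∃ s : ℕ, s.Prime ∧ 5 ≤ s ∧ Nat.card G = 12 * s := by
    have h3 : q = 3 ∨ r = 3 := by
      rcases hdiv l hl hlG with h | h | h
      · exact absurd h hlp
      all_goals omega
    have h4 : q ≠ 4 ∧ r ≠ 4 := ⟨fun h => by rw [h] at hq; norm_num at hq, fun h => by rw [h] at hr; norm_num at hr⟩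
    rcases h3 with h | h
    · exact ⟨r, hr, by have := hr.two_le; omega, by rw [hG, hp2, h]; ring⟩
    · exact ⟨q, hq, by have := hq.two_le; omega, by rw [hG, hp2, h]; ring⟩
  haveI : Fact s.Prime := ⟨hs'⟩
  obtain ⟨S⟩ : Nonempty (Sylow s G) := inferInstance
  have hs12 : ¬ s ∣ 12 := fun h => by
    have := Nat.le_of_dvd (by norm_num) h
    all_goals interval_cases s <;> first
      | omega
      | (norm_num at hs')
      | (norm_num at h)
  have hSc : Nat.card (S : Subgroup G) = s ^ 1 := sylow_card_eq (m := 12) (by rw [hG12]; ring) hs12 S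
  obtain ⟨hn1, hn2, hn3⟩ := sylow_number S hSc one_pos (m := 12) (by rw [hG12]; ring) (by norm_num)
  obtain ⟨n, hn⟩ : ∃ n, Nat.card (Sylow s G) = n := ⟨_, rfl⟩
  rw [hn] at hn1 hn2 hn3
  have hle := Nat.le_of_dvd (by norm_num) hn1
  have hsn : s < n := by
    by_contra hcon
    rcases Nat.lt_or_eq_of_le (not_lt.1 hcon) with h | h
    · rw [Nat.mod_eq_of_lt h] at hn2; exact hn3 hn2
    · exact hs12 (h ▸ hn1)
  have h511 : s = 5 ∨ (s = 11 ∧ n = 12) := by
    have hs11 : s ≤ 11 := by omega
    interval_cases s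
    all_goals first
      | exact Or.inl rfl
      | (interval_cases n <;> first
          | omega
          | norm_num at hn1
          | norm_num at hn2
          | norm_num at hs'
          | norm_num)
  rcases h511 with h | ⟨h, h'⟩
  · omega
  · exfalso
    have hN : Nat.card (normalizer ((S : Subgroup G) : Set G)) = Nat.card (S : Subgroup G) := by
      have h1 := card_normalizer S
      rw [hn, h', hG12] at h1
      rw [hSc, pow_one]
      omega
    refine false_of_central S ?_ ?_ ?_
    · show 1 < Nat.card (S : Subgroup G)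
      rw [hSc, pow_one]; omega
    · show Nat.card (S : Subgroup G) < Nat.card G
      rw [hSc, pow_one]; omega
    · rw [← eq_of_le_of_card_ge le_normalizer hN.le]
      haveI : IsCyclic (S : Subgroup G) := isCyclic_of_prime_card (hSc.trans (pow_one s))
      exact le_centralizer_iff_isMulCommutative.mpr inferInstance


end

/-- If a finite simple group has order p^2 * q * r with p, q and r prime, then its order is 60. -/
theorem result {G : Type*} [Group G] [Finite G] [IsSimpleGroup G] (p q r : ℕ) (hp : p.Prime) (hq : q.Prime) (hr : r.Prime) (hG : Nat.card G = p ^ 2 * q * r) : Nat.card G = 60 := by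
  exact Cfsg.Agent.S0988.main hp hq hr hG

end Cfsg.Agent.S0988
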