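import Cfsg.Statements.S0996
import Cfsg.Agent.Lib.Solv.BrauerReynoldsReduce
-- import your own Cfsg.Agent.* helpers here

set_option autoImplicit false
open Cfsg

namespace Cfsg.Agent.S0996

/-- Let G be a finite perfect group containing an element z of prime order p whose centralizer is the cyclic group it generates, and suppose the number 1 + n * p of Sylow p-subgroups satisfies n < (p + 3) / 2. Then p > 3 and G is isomorphic to the projective special linear group of dimension 2 over the field with p elements, or p - 1 is a power of 2 and G is isomorphic to that group over the field with p - 1 elements. -/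
theorem result {G : Type*} [Group G] [Finite G] (hperf : commutator G = ⊤) (p : ℕ) [Fact p.Prime] (z : G) (hz : orderOf z = p) (hC : Subgroup.centralizer ({z} : Set G) = Subgroup.zpowers z) (hn : 2 * Nat.card (Sylow p G) < (p + 1) * (p + 2)) : (∃ (F : Type) (_ : Field F) (_ : Fintype F), Fintype.card F = p ∧ 3 < p ∧ Nonempty (G ≃* Matrix.ProjectiveSpecialLinearGroup (Fin 2) F)) ∨ (∃ (m : ℕ) (F : Type) (_ : Field F) (_ : Fintype F), Fintype.card F = 2 ^ m ∧ p = 2 ^ m + 1 ∧ 3 < p ∧ Nonempty (G ≃* Matrix.ProjectiveSpecialLinearGroup (Fin 2) F)) := by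
  have hp : p.Prime := Fact.out
  obtain ⟨P, hPz⟩ := Cfsg.Agent.Char.SelfCent.exists_sylow hz hC
  have hP : Nat.card P = p := by
    show Nat.card ↥(P : Subgroup G) = p
    rw [hPz, Nat.card_zpowers, hz]
  obtain ⟨n, hN⟩ := Solv.BReyn.exists_count (G := G) (p := p)
  have hF : ¬ Solv.BReyn.Exceptional p n := by
    refine Solv.BReyn.not_exceptional ?_
    rw [hN] at hn
    have := hp.two_le
    nlinarith
  obtain ⟨hKp, hmax⟩ := Solv.BReyn.core_spec (G := G) (p := p)
  obtain ⟨hc, hle⟩ := Solv.BReyn.reduce hperf P hP hN hF (pPrimeCore p G) hKp hmax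
  have hK : pPrimeCore p G = ⊥ := by
    rw [← le_bot_iff]
    intro k hk
    have hzP : z ∈ (P : Subgroup G) := hPz ▸ Subgroup.mem_zpowers z
    have h1 : k ∈ Subgroup.zpowers z := by
      rw [← hC, Subgroup.mem_centralizer_singleton_iff]
      exact Solv.BReyn.commute_of_le_normalizer P _ hKp hle hk hzP
    have h2 := orderOf_dvd_of_mem_zpowers h1
    rw [hz] at h2
    rcases (Nat.dvd_prime hp).mp h2 with h3 | h3
    · exact Subgroup.mem_bot.mpr (orderOf_eq_one_iff.mp h3)
    · exfalso
      refine hKp ?_
      have h4 : orderOf (⟨k, hk⟩ : pPrimeCore p G) = p := (Subgroup.orderOf_mk k hk).trans h3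
      have h5 := orderOf_dvd_natCard (⟨k, hk⟩ : pPrimeCore p G)
      rwa [h4] at h5
  exact (hc.congr ((QuotientGroup.quotientBot (G := G)).symm.trans
    (QuotientGroup.quotientMulEquivOfEq hK.symm))).psl

end Cfsg.Agent.S0996
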