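import Cfsg.Statements.S0998
import Cfsg.Agent.Lib.Solv.CIT.EPPOSimple
import Cfsg.Agent.Lib.Solv.CIT.SzModel
import Cfsg.Agent.Lib.Char.ThreePrimeCentral
import Cfsg.Agent.Lib.Spor.PlaneAut

set_option autoImplicit false
open Cfsg Cfsg.Agent

namespace Cfsg.Agent.S0998

/-- A non-cyclic finite simple group whose order has the form p * r * q^b for distinct primes p, q, r is isomorphic to the projective special linear group of dimension 2 over the field with 5 or with 7 elements. -/
theorem result {G : Type*} [Group G] [Finite G] [IsSimpleGroup G] (hG : ¬ IsCyclic G) (p q r b : ℕ) (hp : p.Prime) (hq : q.Prime) (hr : r.Prime) (hpq : p ≠ q) (hpr : p ≠ r) (hqr : q ≠ r) (hG' : Nat.card G = p * r * q ^ b) : (∃ (F : Type) (_ : Field F) (_ : Fintype F), Fintype.card F = 5 ∧ Nonempty (G ≃* Matrix.ProjectiveSpecialLinearGroup (Fin 2) F)) ∨ (∃ (F : Type) (_ : Field F) (_ : Fintype F), Fintype.card F = 7 ∧ Nonempty (G ≃* Matrix.ProjectiveSpecialLinearGroup (Fin 2) F)) := by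
  classical
  have hnc : ¬ ∀ x y : G, x * y = y * x := by
    intro hc
    letI : CommGroup G := { ‹Group G› with mul_comm := hc }
    haveI : IsSimpleGroup G := inferInstance
    haveI := Fact.mk (IsSimpleGroup.prime_card (α := G))
    exact hG (isCyclic_of_prime_card rfl)
  have hna : ∃ x y : G, x * y ≠ y * x := by
    by_contra hc
    push Not at hc
    exact hnc hc
  have e1 : Nat.card G = q ^ b * p ^ 1 * r := by rw [hG']; ring
  have e2 : Nat.card G = q ^ b * r ^ 1 * p := by rw [hG']; ring
  have hmem : ∀ s : ℕ, s.Prime → s ∣ Nat.card G → s = q ∨ s = p ∨ s = r := fun s hs hd =>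
    Char.ThreePrimeCentral.primes_of_dvd hq hp hr e1 hs hd
  -- every element has prime power order
  have hipp : ∀ g : G, g ≠ 1 → IsPrimePow (orderOf g) := by
    intro g hg
    rw [isPrimePow_iff_unique_prime_dvd]
    have h1 : orderOf g ≠ 1 := fun h => hg (orderOf_eq_one_iff.mp h)
    obtain ⟨s, hs, hsd⟩ := Nat.exists_prime_and_dvd h1
    refine ⟨s, ⟨hs, hsd⟩, fun t ⟨ht, htd⟩ => ?_⟩
    have kq_r : q ∣ orderOf g → ¬ r ∣ orderOf g :=
      Char.ThreePrimeCentral.not_dvd_order hnc hq hp hr hqr hpr e1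
    have kp_r : p ∣ orderOf g → ¬ r ∣ orderOf g :=
      Char.ThreePrimeCentral.not_dvd_order hnc hp hq hr hpr hqr (a := 1) (b := b) (by rw [hG']; ring)
    have kq_p : q ∣ orderOf g → ¬ p ∣ orderOf g :=
      Char.ThreePrimeCentral.not_dvd_order hnc hq hr hp (Ne.symm hpq) (Ne.symm hpr) e2
    rcases hmem s hs (hsd.trans (orderOf_dvd_natCard g)) with rfl | rfl | rfl <;>
      rcases hmem t ht (htd.trans (orderOf_dvd_natCard g)) with rfl | rfl | rfl <;>
      first
        | rfl
        | exact absurd htd (kq_r hsd)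
        | exact absurd hsd (kq_r htd)
        | exact absurd htd (kp_r hsd)
        | exact absurd hsd (kp_r htd)
        | exact absurd htd (kq_p hsd)
        | exact absurd hsd (kq_p htd)
  -- a square dividing the order comes from `q`
  have hsq : ∀ s : ℕ, s.Prime → s * s ∣ Nat.card G → s = q := by
    intro s hs hd
    rcases hmem s hs ((dvd_mul_left s s).trans hd) with h | h | h
    · exact h
    · exfalso
      rw [h, show Nat.card G = p * (r * q ^ b) by rw [hG']; ring, Nat.mul_dvd_mul_iff_left hp.pos] at hd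
      rcases hp.dvd_mul.mp hd with h' | h'
      · exact hpr ((Nat.prime_dvd_prime_iff_eq hp hr).mp h')
      · exact hpq ((Nat.prime_dvd_prime_iff_eq hp hq).mp (hp.dvd_of_dvd_pow h'))
    · exfalso
      rw [h, show Nat.card G = r * (p * q ^ b) by rw [hG']; ring, Nat.mul_dvd_mul_iff_left hr.pos] at hd
      rcases hr.dvd_mul.mp hd with h' | h'
      · exact hpr ((Nat.prime_dvd_prime_iff_eq hr hp).mp h').symm
      · exact hqr ((Nat.prime_dvd_prime_iff_eq hr hq).mp (hr.dvd_of_dvd_pow h')).symm
  rcases Solv.CITGroups.ipp_simple_cases hipp hna with ⟨-, h360⟩ | ⟨⟨F, iF, iFF, hF, ⟨e⟩⟩, hcard⟩ | hL | hS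
  · have h2 := hsq 2 Nat.prime_two (by rw [h360]; norm_num)
    have h3 := hsq 3 Nat.prime_three (by rw [h360]; norm_num)
    omega
  · have hc := Classical.Dickson.card_psl F
    rw [← Nat.card_congr e.toEquiv] at hc
    simp only [Finset.mem_insert, Finset.mem_singleton] at hcard hF
    rcases hcard with h60 | h168 | h504 | h2448
    · haveI : Fact (Nat.Prime 5) := ⟨by norm_num⟩
      left
      have hK : Nat.card (Matrix.ProjectiveSpecialLinearGroup (Fin 2) (ZMod 5)) = 60 := by
        have := Classical.Dickson.card_psl (ZMod 5)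
        rw [ZMod.card, show Nat.gcd 2 (5 - 1) = 2 from rfl] at this
        exact Nat.eq_of_mul_eq_mul_right two_pos (this.trans (by norm_num))
      haveI : IsSimpleGroup (Matrix.ProjectiveSpecialLinearGroup (Fin 2) (ZMod 5)) :=
        Matrix.ProjectiveSpecialLinearGroup.rank_two_simple (by
          rw [Nat.card_eq_fintype_card, ZMod.card]; norm_num)
      obtain ⟨e₁⟩ := Lie.simple_sixty h60
      obtain ⟨e₂⟩ := Lie.simple_sixty hK
      exact ⟨ZMod 5, inferInstance, inferInstance, ZMod.card 5, ⟨e₁.trans e₂.symm⟩⟩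
    · right
      rcases hF with h | h | h | h <;> rw [h] at hc <;> norm_num at hc <;>
        first
          | exact ⟨F, iF, iFF, h, ⟨e⟩⟩
          | omega
    · have h2 := hsq 2 Nat.prime_two (by rw [h504]; norm_num)
      have h3 := hsq 3 Nat.prime_three (by rw [h504]; norm_num)
      omega
    · have h2 := hsq 2 Nat.prime_two (by rw [h2448]; norm_num)
      have h3 := hsq 3 Nat.prime_three (by rw [h2448]; norm_num)
      omega
  · obtain ⟨F, iF, iFF, hF, ⟨e⟩⟩ := hL
    have hc := Spor.PlaneAut.card_psl34 hF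
    rw [← Nat.card_congr e.toEquiv] at hc
    have h2 := hsq 2 Nat.prime_two (by rw [hc]; norm_num)
    have h3 := hsq 3 Nat.prime_three (by rw [hc]; norm_num)
    omega
  · obtain ⟨F, iF, iFF, hF⟩ := hS
    have key : ∀ n : ℕ, Nat.card G = n → 5 ∣ n → 7 ∣ n ∨ 31 ∣ n → 13 ∣ n ∨ 41 ∣ n → 4 ∣ n → False := by
      rintro n hn h5 ha hb h4
      rw [← hn] at h5 ha hb h4
      have hq2 : (2 : ℕ) = q := hsq 2 Nat.prime_two h4
      rcases ha with ha | ha <;> rcases hb with hb | hb <;>
        rcases hmem _ (by norm_num) h5 with x | x | x <;>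
        rcases hmem _ (by norm_num) ha with y | y | y <;>
        rcases hmem _ (by norm_num) hb with z | z | z <;> omega
    rcases hF with ⟨h8, ⟨e⟩⟩ | ⟨h32, ⟨e⟩⟩
    · have hc := Solv.CITGroups.SzModel.card_model (F := F) (m := 1) (by rw [h8]; norm_num) le_rfl
      rw [show (2 : ℕ) ^ (1 + 1) = 4 by norm_num, ← Nat.card_congr e.toEquiv] at hc
      norm_num at hc
      exact (key _ hc (by norm_num) (by norm_num) (by norm_num) (by norm_num)).elim
    · have hc := Solv.CITGroups.SzModel.card_model (F := F) (m := 2) (by rw [h32]; norm_num) (by norm_num)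
      rw [show (2 : ℕ) ^ (2 + 1) = 8 by norm_num, ← Nat.card_congr e.toEquiv] at hc
      norm_num at hc
      exact (key _ hc (by norm_num) (by norm_num) (by norm_num) (by norm_num)).elim

end Cfsg.Agent.S0998
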