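import Cfsg.Statements.S0999
import Cfsg.Agent.Lib.Solv.BrauerReynoldsReduce
-- import your own Cfsg.Agent.* helpers here

set_option autoImplicit false
open Cfsg

namespace Cfsg.Agent.S0999

/-- Let G be a non-cyclic finite simple group and p a prime divisor of its order with p^3 > |G|. Then p > 3 and G is isomorphic to the projective special linear group of dimension 2 over the field with p elements, or p - 1 is a power of 2 and G is isomorphic to that group over the field with p - 1 elements. -/
theorem result {G : Type*} [Group G] [Finite G] [IsSimpleGroup G] (hG : ¬ IsCyclic G) (p : ℕ) (hp : p.Prime) (hdvd : p ∣ Nat.card G) (hbig : Nat.card G < p ^ 3) : (∃ (F : Type) (_ : Field F) (_ : Fintype F), Fintype.card F = p ∧ 3 < p ∧ Nonempty (G ≃* Matrix.ProjectiveSpecialLinearGroup (Fin 2) F)) ∨ (∃ (m : ℕ) (F : Type) (_ : Field F) (_ : Fintype F), Fintype.card F = 2 ^ m ∧ p = 2 ^ m + 1 ∧ 3 < p ∧ Nonempty (G ≃* Matrix.ProjectiveSpecialLinearGroup (Fin 2) F)) := by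
  haveI := Fact.mk hp
  have hperf : commutator G = ⊤ := by
    rcases IsSimpleGroup.eq_bot_or_eq_top_of_normal (commutator G) inferInstance with h | h
    · exfalso
      have hcomm : ∀ a b : G, a * b = b * a := fun a b => by
        rw [← commutatorElement_eq_one_iff_mul_comm, ← Subgroup.mem_bot, ← h]
        exact Subgroup.commutator_mem_commutator (Subgroup.mem_top a) (Subgroup.mem_top b)
      let i : CommGroup G := { (inferInstance : Group G) with mul_comm := hcomm }
      exact hG (@IsSimpleGroup.isCyclic G i inferInstance)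
    · exact h
  obtain ⟨P⟩ := (inferInstance : Nonempty (Sylow p G))
  have hPn : ¬ (P : Subgroup G).Normal := fun hn => by
    rcases IsSimpleGroup.eq_bot_or_eq_top_of_normal (P : Subgroup G) hn with h | h
    · have h1 := P.dvd_card_of_dvd_card hdvd
      rw [h, Subgroup.card_bot] at h1
      exact hp.not_dvd_one h1
    · have hpg : IsPGroup p (⊤ : Subgroup G) := h ▸ P.2
      haveI : Group.IsNilpotent (⊤ : Subgroup G) := hpg.isNilpotent
      haveI : Group.IsNilpotent G := Group.isNilpotent_top.mp inferInstance
      haveI : Group.IsSolvable G := inferInstance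
      have hne : (⊤ : Subgroup G) ≠ ⊥ := top_ne_bot
      obtain ⟨d, hd⟩ := (Group.isSolvable_def G).mp inferInstance
      have : ∀ d, derivedSeries G d = ⊤ := fun d => by
        induction d with
        | zero => rfl
        | succ k ih => rw [derivedSeries_succ, ih, ← commutator_def, hperf]
      exact hne ((this d).symm.trans hd)
  obtain ⟨hP, hn⟩ := Solv.BReyn.large_prime hperf hdvd hbig P hPn
  obtain ⟨n, hN⟩ := Solv.BReyn.exists_count (G := G) (p := p)
  obtain ⟨hKp, hmax⟩ := Solv.BReyn.core_spec (G := G) (p := p)
  have hK : pPrimeCore p G = ⊥ :=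
    (IsSimpleGroup.eq_bot_or_eq_top_of_normal _ inferInstance).resolve_right fun h => hKp (by
      rw [h, Subgroup.card_top]; exact hdvd)
  obtain ⟨hc, -⟩ := Solv.BReyn.reduce hperf P hP hN (Solv.BReyn.not_exceptional (hn n hN))
    (pPrimeCore p G) hKp hmax
  exact (hc.congr ((QuotientGroup.quotientBot (G := G)).symm.trans
    (QuotientGroup.quotientMulEquivOfEq hK.symm))).psl

end Cfsg.Agent.S0999
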