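import Cfsg.Statements.S1001
import Cfsg.Agent.Lib.Char.ThreePrimeCentral
import Cfsg.Agent.Lib.Char.Burnside
-- import your own Cfsg.Agent.* helpers here

set_option autoImplicit false
open Cfsg

namespace Cfsg.Agent.S1001

/-- In a finite simple group whose order has the form p * 3^a * 2^b with p prime, the centralizer of any element of order p is the cyclic group it generates. -/
theorem result {G : Type*} [Group G] [Finite G] [IsSimpleGroup G] (p a b : ℕ) (hp : p.Prime) (hG : Nat.card G = p * 3 ^ a * 2 ^ b) (x : G) (hx : orderOf x = p) : Subgroup.centralizer ({x} : Set G) = Subgroup.zpowers x := by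
  haveI := Fact.mk hp
  by_cases hnc : ∀ u v : G, u * v = v * u
  · letI : CommGroup G := { ‹Group G› with mul_comm := hnc }
    have hprime : (Nat.card G).Prime := IsSimpleGroup.prime_card
    haveI := Fact.mk hprime
    have hx1 : x ≠ 1 := fun h => hp.ne_one (by rw [← hx, h, orderOf_one])
    rw [zpowers_eq_top_of_prime_card (G := G) rfl hx1]
    exact top_le_iff.mp fun y _ => Subgroup.mem_centralizer_singleton_iff.mpr (hnc y x)
  by_cases hp23 : p = 2 ∨ p = 3
  · exfalso
    have hsol : Group.IsSolvable G := by
      refine Cfsg.Agent.Char.isSolvable_of_two_primes Nat.prime_two Nat.prime_three (Nat.card G) rfl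
        fun s hs hd => ?_
      rcases Cfsg.Agent.Char.ThreePrimeCentral.primes_of_dvd Nat.prime_three Nat.prime_two hp
        (a := a) (b := b) (by rw [hG]; ring) hs hd with h | h | h
      · exact .inr h
      · exact .inl h
      · omega
    exact hnc (IsSimpleGroup.comm_iff_isSolvable.mpr hsol)
  rw [not_or] at hp23
  obtain ⟨S, hS⟩ := (IsPGroup.of_card (p := p) (n := 1) (by
    rw [Nat.card_zpowers, hx, pow_one] : Nat.card (Subgroup.zpowers x) = p ^ 1)).exists_le_sylow
  have hcard : Nat.card G = 3 ^ a * 2 ^ b * p := by rw [hG]; ring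
  have hSc : Nat.card (S : Subgroup G) = p := by
    have h3 : ¬ 3 = p := fun h => hp23.2 h.symm
    have h2 : ¬ 2 = p := fun h => hp23.1 h.symm
    rw [Sylow.card_eq_multiplicity, hcard, Nat.factorization_mul (by positivity) hp.ne_zero,
      Nat.factorization_mul (by positivity) (by positivity),
      Nat.Prime.factorization_pow Nat.prime_three, Nat.Prime.factorization_pow Nat.prime_two,
      hp.factorization]
    simp [h2, h3]
  have heq : Subgroup.zpowers x = (S : Subgroup G) :=
    Subgroup.eq_of_le_of_card_ge hS (by rw [hSc, Nat.card_zpowers, hx])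
  have h := Cfsg.Agent.Char.ThreePrimeCentral.centralizer_eq Nat.prime_three Nat.prime_two
    (Ne.symm hp23.2) (Ne.symm hp23.1) hcard S
  have he : Subgroup.centralizer (Subgroup.zpowers x : Set G) = Subgroup.centralizer ({x} : Set G) := by
    rw [Subgroup.zpowers_eq_closure, Subgroup.centralizer_closure]
  rw [← he, heq]; exact h

end Cfsg.Agent.S1001
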