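import Cfsg.Statements.S1002
import Cfsg.Agent.Lib.Lead.BlockDegrees

set_option autoImplicit false
open Cfsg

namespace Cfsg.Agent.S1002

open Cfsg.Agent.Lead.BlockDeg

/-- No finite simple group has order 1004913 = 3^3 * 7 * 13 * 409. -/
theorem result {G : Type*} [Group G] [Finite G] [IsSimpleGroup G] : Nat.card G ≠ 1004913 := by
  intro hG
  haveI : Fact (Nat.Prime 13) := ⟨by norm_num⟩
  obtain ⟨P, e, hP, ⟨hn1, hn2, hn3⟩, he, he1, he2, he3⟩ :=
    sylow_data (p := 13) (m := 77301) (by rw [hG]) (by norm_num) (by norm_num)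
  have hna : ¬ IsMulCommutative G :=
    not_comm (p := 13) (m := 77301) (by norm_num) (by rw [hG]) (by norm_num)
  have hdiv : ∀ d, d ∣ 77301 → ∃ a b, a ∈ Nat.divisors 189 ∧ b ∈ Nat.divisors 409 ∧ d = a * b := by
    intro d hd
    obtain ⟨a, b, ha, hb, rfl⟩ := Nat.dvd_mul.mp (show d ∣ 189 * 409 by norm_num; exact hd)
    exact ⟨a, b, Nat.mem_divisors.mpr ⟨ha, by norm_num⟩, Nat.mem_divisors.mpr ⟨hb, by norm_num⟩, rfl⟩
  obtain rfl : e = 3 := by
    have h12 : e ∣ 12 := he1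
    have hodd : ¬ 2 ∣ e := fun h => absurd ((h.trans (dvd_mul_left e _)).trans he3) (by norm_num)
    have := Nat.le_of_dvd (by norm_num) h12
    interval_cases e <;> norm_num at *
  obtain ⟨a, b, ha, hb, hn⟩ := hdiv _ hn1
  have key : ∀ a ∈ Nat.divisors 189, ∀ b ∈ Nat.divisors 409, (a * b) % 13 = 1 → a * b ≠ 1 →
      a * b * 3 ∣ 77301 → a * b = 25767 := by decide +kernel
  have hn' : Nat.card (Sylow 13 G) = 25767 := by
    rw [hn] at hn2 hn3 he3 ⊢
    exact key a ha b hb hn2 hn3 he3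
  obtain ⟨s, s', ⟨h1, h2, -, h4⟩, ⟨k1, k2, -, k4⟩, ht⟩ :=
    degree_equation_three hna P hP (by norm_num) he
  rw [hn'] at h4 k4
  rw [hG] at ht
  obtain ⟨a1, b1, ha1, hb1, hd1⟩ := hdiv _ h4
  obtain ⟨a2, b2, ha2, hb2, hd2⟩ := hdiv _ k4
  have key2 : ∀ a ∈ Nat.divisors 189, ∀ b ∈ Nat.divisors 409, 1 < a * b →
      ((a * b) % 13 = 1 ∨ (a * b) % 13 = 12) →
      (a * b) % 13 = 1 ∧ (a * b = 27 ∨ a * b = 25767) := by decide +kernel
  have l1 := key2 a1 ha1 b1 hb1 (by omega) (by omega)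
  have l2 := key2 a2 ha2 b2 hb2 (by omega) (by omega)
  rw [← hd1] at l1
  rw [← hd2] at l2
  have hs : s = 27 ∨ s = 25767 := by omega
  have hs' : s' = 27 ∨ s' = 25767 := by omega
  rcases hs with rfl | rfl <;> rcases hs' with rfl | rfl <;> norm_num at ht

end Cfsg.Agent.S1002
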