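import Cfsg.Statements.S1010
import Cfsg.Agent.Lib.Perm.SylowCount

set_option autoImplicit false
open Cfsg

namespace Cfsg.Agent.S1010

open Cfsg.Agent.Perm.SylowCount
open scoped Pointwise

universe u

variable {H : Type u} [Group H] [Finite H]

local instance : Fact (Nat.Prime 5) := ⟨Nat.prime_five⟩

/-- The points fixed by `g`. -/
abbrev fixSet (g : H) : Set (Sylow 5 H) := {R | g • R = R}

omit [Finite H] in
theorem le_iff_forall_fix {A : Subgroup H} {P : Sylow 5 H} (hA : A ≤ (P : Subgroup H))
    (R : Sylow 5 H) : A ≤ (R : Subgroup H) ↔ ∀ a ∈ A, a • R = R :=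
  ⟨fun h _ ha => smul_eq_self_of_mem (h ha),
    fun h a ha => eq_of_mem_of_smul_eq (hA ha) (h a ha)⟩

theorem card_sylow_eq (P R : Sylow 5 H) : Nat.card P = Nat.card R :=
  Nat.card_congr (P.equiv R).toEquiv

theorem eq_of_le_sylow {P R : Sylow 5 H} (h : (P : Subgroup H) ≤ R) : P = R :=
  Sylow.ext (Subgroup.eq_of_le_of_card_ge h (card_sylow_eq P R).ge)

/-- Twenty-one Sylow `5`-subgroups with trivial common normaliser have order five. -/
theorem card_eq_five (hfaith : ∀ g : H, (∀ P : Sylow 5 H, g • P = P) → g = 1)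
    (hn : Nat.card (Sylow 5 H) = 21) (P : Sylow 5 H) : Nat.card P = 5 := by
  classical
  haveI : Fintype (Sylow 5 H) := Fintype.ofFinite _
  have hf : Fintype.card (Sylow 5 H) = 21 := by rw [← Nat.card_eq_fintype_card, hn]
  have hrel : ∀ A B : Sylow 5 H, A ≠ B →
      5 * Nat.card ↥((A : Subgroup H) ⊓ (B : Subgroup H)) = Nat.card A := by
    intro A B hAB
    have hst : MulAction.stabilizer (A : Subgroup H) B
        = ((A : Subgroup H) ⊓ (B : Subgroup H)).subgroupOf A := by
      ext a
      simp only [MulAction.mem_stabilizer_iff, Subgroup.mem_subgroupOf, Subgroup.mem_inf, a.2,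
        true_and]
      exact ⟨fun h => eq_of_mem_of_smul_eq a.2 h, fun h => smul_eq_self_of_mem h⟩
    have hcard : Nat.card (MulAction.orbit (A : Subgroup H) B)
        * Nat.card ↥((A : Subgroup H) ⊓ (B : Subgroup H)) = Nat.card A := by
      rw [← Nat.card_congr (Subgroup.subgroupOfEquivOfLe
        (inf_le_left : (A : Subgroup H) ⊓ (B : Subgroup H) ≤ A)).toEquiv, ← hst, Nat.mul_comm,
        ← Subgroup.card_mul_index (MulAction.stabilizer (A : Subgroup H) B),
        MulAction.index_stabilizer, Nat.card_coe_set_eq]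
    obtain ⟨k, hk⟩ := A.isPGroup'.card_orbit B
    have hle : Nat.card (MulAction.orbit (A : Subgroup H) B) ≤ 20 := by
      have hsub : MulAction.orbit (A : Subgroup H) B ⊆ ({A} : Set (Sylow 5 H))ᶜ := by
        rintro _ ⟨a, rfl⟩ h
        exact hAB (smul_left_cancel (a : H) ((smul_eq_self_of_mem a.2).trans h.symm))
      rw [Nat.card_coe_set_eq]
      refine (Set.ncard_le_ncard hsub (Set.toFinite _)).trans ?_
      rw [Set.ncard_compl, Set.ncard_singleton, hn]
    rw [hk] at hle
    rcases k with _ | _ | k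
    · exfalso
      rw [hk, pow_zero, one_mul] at hcard
      exact hAB (eq_of_le_sylow ((Subgroup.eq_of_le_of_card_ge inf_le_left hcard.ge).symm.le.trans
        inf_le_right))
    · rw [← hcard, hk, pow_one]
    · have h' := (Nat.pow_le_pow_right (by norm_num : 0 < 5) (by omega : 2 ≤ k + 1 + 1)).trans hle
      norm_num at h'
  have hintereq : ∀ (A B : Sylow 5 H) (E : Subgroup H), A ≠ B → E ≤ A → E ≤ B →
      5 * Nat.card E = Nat.card A → E = (A : Subgroup H) ⊓ B := by
    intro A B E hAB hA hB hE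
    refine Subgroup.eq_of_le_of_card_ge (le_inf hA hB) ?_
    have := hrel A B hAB
    omega
  obtain ⟨A, B, hAB⟩ := Fintype.exists_pair_of_one_lt_card (α := Sylow 5 H) (by omega)
  set D : Subgroup H := (A : Subgroup H) ⊓ B with hD
  have hDc := hrel A B hAB
  by_cases hD1 : Nat.card D = 1
  · rw [hD1] at hDc
    exact (card_sylow_eq P A).trans hDc.symm
  exfalso
  obtain ⟨S0, hS0⟩ : ∃ S0 : Sylow 5 H, ¬ D ≤ (S0 : Subgroup H) := by
    by_contra h
    push Not at h
    refine hD1 ?_
    rw [Subgroup.card_eq_one, Subgroup.eq_bot_iff_forall]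
    exact fun g hg => hfaith g fun R => smul_eq_self_of_mem (h R hg)
  -- the subgroups containing a given intersection
  let line : Subgroup H → Finset (Sylow 5 H) := fun E =>
    Finset.univ.filter fun R : Sylow 5 H => E ≤ (R : Subgroup H)
  have hline : ∀ X Y : Sylow 5 H, X ≠ Y → 6 ≤ (line ((X : Subgroup H) ⊓ Y)).card := by
    intro X Y hXY
    set E : Subgroup H := (X : Subgroup H) ⊓ Y
    have hp : IsPGroup 5 E := X.isPGroup'.to_le inf_le_left
    have hmod := hp.card_modEq_card_fixedPoints (Sylow 5 H)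
    have hset : (MulAction.fixedPoints E (Sylow 5 H)) = ↑(line E) := by
      ext R
      simp only [line, MulAction.mem_fixedPoints, Finset.coe_filter, Finset.mem_univ, true_and,
        Set.mem_setOf_eq]
      exact ⟨fun h => (le_iff_forall_fix (inf_le_left : E ≤ X) R).mpr fun a ha => h ⟨a, ha⟩,
        fun h a => (le_iff_forall_fix (inf_le_left : E ≤ X) R).mp h a a.2⟩
    rw [hn, Nat.card_coe_set_eq, hset, Set.ncard_coe_finset, Nat.ModEq] at hmod
    have h2 : 2 ≤ (line E).card := by
      have : ({X, Y} : Finset (Sylow 5 H)) ⊆ line E := by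
        intro R hR
        simp only [Finset.mem_insert, Finset.mem_singleton] at hR
        rcases hR with rfl | rfl <;> simp [line, E]
      exact (Finset.card_pair hXY).symm.le.trans (Finset.card_le_card this)
    omega
  have hne : ∀ S ∈ line D, S0 ≠ S := by
    intro S hS h
    simp only [line, Finset.mem_filter, Finset.mem_univ, true_and] at hS
    exact hS0 (h ▸ hS)
  let M : Sylow 5 H → Finset (Sylow 5 H) := fun S =>
    (line ((S0 : Subgroup H) ⊓ S)).erase S0
  have hdis : (↑(line D) : Set (Sylow 5 H)).PairwiseDisjoint M := by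
    intro S hS S' hS' hne'
    rw [Function.onFun, Finset.disjoint_left]
    intro T hT hT'
    simp only [M, line, Finset.mem_erase, Finset.mem_filter, Finset.mem_univ, true_and] at hT hT'
    have hS1 := Finset.mem_coe.mp hS
    have hS1' := Finset.mem_coe.mp hS'
    have e1 := hintereq S0 T _ (Ne.symm hT.1) inf_le_left hT.2 (hrel S0 S (hne S hS1))
    have e2 := hintereq S0 T _ (Ne.symm hT'.1) inf_le_left hT'.2 (hrel S0 S' (hne S' hS1'))
    have hc : 5 * Nat.card ↥((S0 : Subgroup H) ⊓ S) = Nat.card S := by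
      rw [hrel S0 S (hne S hS1)]; exact card_sylow_eq S0 S
    have e3 := hintereq S S' _ hne' inf_le_right ((e1.trans e2.symm).le.trans inf_le_right) hc
    simp only [line, Finset.mem_filter, Finset.mem_univ, true_and] at hS1 hS1'
    have e4 := hintereq S S' D hne' hS1 hS1' (hDc.trans (card_sylow_eq A S))
    exact hS0 ((e4.trans e3.symm).le.trans inf_le_left)
  have h1 : ((line D).biUnion M).card ≤ 20 := by
    have : (line D).biUnion M ⊆ Finset.univ.erase S0 := fun T hT => by
      obtain ⟨S, -, hT⟩ := Finset.mem_biUnion.mp hT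
      exact Finset.mem_erase.mpr ⟨(Finset.mem_erase.mp hT).1, Finset.mem_univ _⟩
    refine (Finset.card_le_card this).trans ?_
    rw [Finset.card_erase_of_mem (Finset.mem_univ _), Finset.card_univ, hf]
  rw [Finset.card_biUnion hdis] at h1
  have h2 : 5 * (line D).card ≤ ∑ S ∈ line D, (M S).card := by
    rw [Nat.mul_comm, ← smul_eq_mul]
    refine Finset.card_nsmul_le_sum _ _ _ fun S hS => ?_
    have h6 := hline S0 S (hne S hS)
    have := Finset.pred_card_le_card_erase (a := S0) (s := line ((S0 : Subgroup H) ⊓ S))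
    simp only [M]
    omega
  have h3 := hline A B hAB
  rw [← hD] at h3
  omega

/-- The set of fixed points of a square-one element has size `1` modulo `4`, and an element of
order four whose square fixes one point is odd. -/
theorem parity (hn : Nat.card (Sylow 5 H) = 21) (hred : IsReduced 5 H) (g : H) :
    (g ^ 2 = 1 → (fixSet g).ncard % 4 = 1) ∧
    (g ^ 4 = 1 → (fixSet (g ^ 2)).ncard = 1 → False) := by
  classical
  haveI : Fintype (Sylow 5 H) := Fintype.ofFinite _
  have hf : Fintype.card (Sylow 5 H) = 21 := by rw [← Nat.card_eq_fintype_card, hn]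
  let φ := MulAction.toPermHom H (Sylow 5 H)
  have hsign : ∀ h : H, Equiv.Perm.sign (φ h) = 1 := by
    intro h
    have : (Equiv.Perm.sign.comp φ) h = (1 : H →* ℤˣ) h := by
      refine MonoidHom.eqOn_closure (s := pElts 5 H) ?_ (hred.2 ▸ Subgroup.mem_top h)
      rintro x ⟨k, hk⟩
      have h1 : ((Equiv.Perm.sign.comp φ) x) ^ 5 ^ k = 1 := by rw [← map_pow, hk, map_one]
      rcases Int.units_eq_one_or ((Equiv.Perm.sign.comp φ) x) with h2 | h2
      · rw [h2, MonoidHom.one_apply]
      · rw [h2, (Odd.pow (by decide : Odd 5)).neg_one_pow] at h1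
        exact absurd h1 (by decide)
    exact this
  have hfixc : ∀ h : H, (fixSet h).ncard = 21 - (φ h).cycleType.sum := by
    intro h
    rw [← hf, ← Equiv.Perm.card_fixedPoints, ← Nat.card_eq_fintype_card, ← Nat.card_coe_set_eq]
    exact Nat.card_congr (Equiv.refl _)
  have hle : (φ g).cycleType.sum ≤ 21 := hf ▸ Equiv.Perm.sum_cycleType_le _
  have hs := hsign g
  rw [Equiv.Perm.sign_of_cycleType] at hs
  have hev : Even ((φ g).cycleType.sum + (φ g).cycleType.card) := by
    by_contra h
    rw [Nat.not_even_iff_odd] at h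
    rw [h.neg_one_pow] at hs
    exact absurd hs (by decide)
  rw [Nat.even_iff] at hev
  constructor
  · intro h2
    have hall : ∀ m ∈ (φ g).cycleType, m = 2 := by
      intro m hm
      have h1 := (Equiv.Perm.dvd_of_mem_cycleType hm).trans
        (orderOf_dvd_of_pow_eq_one (n := 2) (by rw [← map_pow, h2, map_one]))
      have h3 := Equiv.Perm.two_le_of_mem_cycleType hm
      have h4 := Nat.le_of_dvd (by norm_num) h1
      omega
    have hrep := Multiset.eq_replicate_card.mpr hall
    have hsum : (φ g).cycleType.sum = (φ g).cycleType.card * 2 := by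
      conv_lhs => rw [hrep, Multiset.sum_replicate, smul_eq_mul]
    rw [hfixc]
    omega
  · intro h4 hone
    have hall : ∀ m ∈ (φ g).cycleType, m = 4 := by
      intro m hm
      have h1 := (Equiv.Perm.dvd_of_mem_cycleType hm).trans
        (orderOf_dvd_of_pow_eq_one (n := 4) (by rw [← map_pow, h4, map_one]))
      have h3 := Equiv.Perm.two_le_of_mem_cycleType hm
      have h5 := Nat.le_of_dvd (by norm_num) h1
      interval_cases m
      · exfalso
        rw [Equiv.Perm.cycleType_def, Multiset.mem_map] at hm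
        obtain ⟨c, hc, hc2⟩ := hm
        simp only [Function.comp_apply] at hc2
        obtain ⟨hcyc, hceq⟩ := Equiv.Perm.mem_cycleFactorsFinset_iff.mp hc
        have hcc : c ^ 2 = 1 := by
          rw [← hc2, ← hcyc.orderOf]; exact pow_orderOf_eq_one c
        have hsub : (↑c.support : Set (Sylow 5 H)) ⊆ fixSet (g ^ 2) := by
          intro R hR
          have hR' := Finset.mem_coe.mp hR
          have e1 : g • R = c R := (hceq R hR').symm
          have e2 : c R ∈ c.support := Equiv.Perm.apply_mem_support.mpr hR'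
          have e3 : g • c R = c (c R) := (hceq _ e2).symm
          have e4 : c (c R) = R := by
            rw [← Equiv.Perm.mul_apply, ← sq, hcc, Equiv.Perm.one_apply]
          show g ^ 2 • R = R
          rw [sq, mul_smul, e1, e3, e4]
        have := Set.ncard_le_ncard hsub (Set.toFinite _)
        rw [Set.ncard_coe_finset, hc2, hone] at this
        omega
      · norm_num at h1
      · rfl
    have hrep := Multiset.eq_replicate_card.mpr hall
    have hsum : (φ g).cycleType.sum = (φ g).cycleType.card * 4 := by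
      conv_lhs => rw [hrep, Multiset.sum_replicate, smul_eq_mul]
    have hsub : fixSet g ⊆ fixSet (g ^ 2) := by
      intro R hR
      have hR' : g • R = R := hR
      show g ^ 2 • R = R
      rw [sq, mul_smul, hR', hR']
    have := Set.ncard_le_ncard hsub (Set.toFinite _)
    rw [hfixc g, hone] at this
    omega

theorem no_reduced (hn : Nat.card (Sylow 5 H) = 21) (hred : IsReduced 5 H) : False := by
  classical
  haveI : Fintype (Sylow 5 H) := Fintype.ofFinite _
  have hfaith := hred.1
  obtain ⟨P⟩ := (inferInstance : Nonempty (Sylow 5 H))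
  have hP5 : ∀ R : Sylow 5 H, Nat.card R = 5 := card_eq_five hfaith hn
  have hfree : ∀ g ∈ (P : Subgroup H), g ≠ 1 → ∀ R : Sylow 5 H, g • R = R → R = P := by
    intro g hg hg1 R hR
    have hgR := eq_of_mem_of_smul_eq hg hR
    have hz : Nat.card (Subgroup.zpowers g) = 5 := by
      rw [Nat.card_zpowers]
      rcases (Nat.dvd_prime Nat.prime_five).mp
          ((hP5 P) ▸ Subgroup.orderOf_dvd_natCard _ hg) with h | h
      · exact absurd (orderOf_eq_one_iff.mp h) hg1
      · exact h
    have e1 := Subgroup.eq_of_le_of_card_ge (Subgroup.zpowers_le.mpr hgR) (by rw [hz, hP5])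
    have e2 := Subgroup.eq_of_le_of_card_ge (Subgroup.zpowers_le.mpr hg) (by rw [hz, hP5])
    exact Sylow.ext (e1.symm.trans e2)
  obtain ⟨x0, hx0, hx01⟩ : ∃ x ∈ (P : Subgroup H), x ≠ 1 := by
    by_contra h
    push Not at h
    have := (Subgroup.card_eq_one (H := (P : Subgroup H))).mpr
      ((Subgroup.eq_bot_iff_forall _).mpr h)
    rw [hP5] at this
    omega
  set C := Subgroup.centralizer ((P : Subgroup H) : Set H) with hC
  have hCP : ∀ v ∈ C, v • P = P := fun v hv =>
    Sylow.smul_eq_iff_mem_normalizer.mpr (Subgroup.centralizer_le_normalizer _ hv)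
  -- the fixed points of an element of the centraliser
  have hfix5 : ∀ v ∈ C, (fixSet v).ncard % 5 = 1 := by
    intro v hv
    have hinv : ∀ g : (P : Subgroup H), ∀ R ∈ fixSet v, (g : H) • R ∈ fixSet v := by
      intro g R hR
      have hR' : v • R = R := hR
      show v • (g : H) • R = (g : H) • R
      rw [← mul_smul, ← Subgroup.mem_centralizer_iff.mp hv g g.2, mul_smul, hR']
    letI : MulAction (P : Subgroup H) (fixSet v) :=
      { smul := fun g R => ⟨(g : H) • R.1, hinv g R.1 R.2⟩
        one_smul := fun R => Subtype.ext (one_smul H R.1)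
        mul_smul := fun a b R => Subtype.ext (mul_smul (a : H) (b : H) R.1) }
    have hmod := P.isPGroup'.card_modEq_card_fixedPoints (fixSet v)
    have h1 : Nat.card (MulAction.fixedPoints (P : Subgroup H) (fixSet v)) = 1 := by
      rw [Nat.card_eq_one_iff_unique]
      refine ⟨⟨fun a b => ?_⟩, ⟨⟨⟨P, hCP v hv⟩, fun g => Subtype.ext (smul_eq_self_of_mem g.2)⟩⟩⟩
      have ha : ∀ a : MulAction.fixedPoints (P : Subgroup H) (fixSet v), a.1.1 = P := fun a =>
        hfree x0 hx0 hx01 a.1.1 (congrArg Subtype.val (a.2 ⟨x0, hx0⟩))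
      exact Subtype.ext (Subtype.ext ((ha a).trans (ha b).symm))
    rw [h1, Nat.card_coe_set_eq] at hmod
    exact hmod
  have hfixall : ∀ v : H, (fixSet v).ncard = 21 → v = 1 := by
    intro v hv
    refine hfaith v fun R => ?_
    have : fixSet v = Set.univ := Set.eq_of_subset_of_ncard_le (Set.subset_univ _)
      (by rw [Set.ncard_univ, hn, hv]) (Set.toFinite _)
    exact (Set.ext_iff.mp this R).mpr (Set.mem_univ _)
  have hle21 : ∀ v : H, (fixSet v).ncard ≤ 21 := fun v =>
    (Set.ncard_le_ncard (Set.subset_univ _) (Set.toFinite _)).trans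
      (by rw [Set.ncard_univ, hn])
  have hinvC : ∀ v ∈ C, v ^ 2 = 1 → v ≠ 1 → (fixSet v).ncard = 1 := by
    intro v hv h2 h1
    have a := (parity hn hred v).1 h2
    have b := hfix5 v hv
    have c := hle21 v
    have d : (fixSet v).ncard ≠ 21 := fun h => h1 (hfixall v h)
    omega
  have hexp : ∀ k, ∀ v ∈ C, v ^ 2 ^ k = 1 → v ^ 2 = 1 := by
    intro k
    induction k with
    | zero => intro v _ h; rw [pow_zero, pow_one] at h; rw [h, one_pow]
    | succ k ih =>
      intro v hv h
      have h1 : (v ^ 2) ^ 2 ^ k = 1 := by rw [← pow_mul, ← pow_succ']; exact h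
      have h2 : v ^ 4 = 1 := by
        have := ih _ (pow_mem hv 2) h1
        rw [← this, ← pow_mul]
      by_contra hne
      exact (parity hn hred v).2 h2
        (hinvC _ (pow_mem hv 2) (by rw [← pow_mul]; exact h2) hne)
  have hsemi : ∀ v ∈ C, v ^ 2 = 1 → v ≠ 1 → ∀ R, v • R = R → R = P := by
    intro v hv h2 h1 R hR
    obtain ⟨a, ha⟩ := Set.ncard_eq_one.mp (hinvC v hv h2 h1)
    have e1 : R ∈ fixSet v := hR
    have e2 : P ∈ fixSet v := hCP v hv
    rw [ha, Set.mem_singleton_iff] at e1 e2
    rw [e1, e2]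
  have hno7 : ∀ v ∈ C, v ^ 7 = 1 → v = 1 := by
    intro v hv h7
    haveI : Fact (Nat.Prime 7) := ⟨by decide⟩
    have hp : IsPGroup 7 (Subgroup.zpowers v) := by
      rintro ⟨_, j, rfl⟩
      refine ⟨1, Subtype.ext ?_⟩
      simp only [pow_one, SubgroupClass.coe_pow, OneMemClass.coe_one]
      rw [← zpow_natCast, ← zpow_mul, mul_comm, zpow_mul, zpow_natCast, h7, one_zpow]
    have hmod := hp.card_modEq_card_fixedPoints (Sylow 5 H)
    have hset : MulAction.fixedPoints (Subgroup.zpowers v) (Sylow 5 H) = fixSet v := by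
      ext R
      constructor
      · exact fun h => h ⟨v, Subgroup.mem_zpowers v⟩
      · rintro h ⟨_, j, rfl⟩
        exact MulAction.mem_stabilizer_iff.mp
          ((MulAction.stabilizer H R).zpow_mem (MulAction.mem_stabilizer_iff.mpr h) j)
    rw [Nat.card_coe_set_eq, hset, hn, Nat.ModEq] at hmod
    have b := hfix5 v hv
    have c := hle21 v
    exact hfixall v (by omega)
  -- the character of the normaliser
  haveI hcyc : IsCyclic (P : Subgroup H) :=
    @isCyclic_of_prime_card _ _ 5 ⟨Nat.prime_five⟩ (hP5 P)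
  let NP := Subgroup.normalizer ((P : Subgroup H) : Set H)
  let act : NP →* MulAut (P : Subgroup H) := Subgroup.normalizerMonoidHom (P : Subgroup H)
  let e : MulAut (P : Subgroup H) ≃* (ZMod 5)ˣ :=
    (IsCyclic.mulAutMulEquiv (P : Subgroup H)).trans
      (Units.mapEquiv (ZMod.ringEquivCongr (hP5 P)).toMulEquiv)
  let χ : NP →* (ZMod 5)ˣ := e.toMonoidHom.comp act
  have hχker : ∀ n : NP, χ n = 1 ↔ (n : H) ∈ C := by
    intro n
    have h1 : χ n = 1 ↔ act n = 1 := by simp [χ]
    rw [h1, Subgroup.mem_centralizer_iff]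
    constructor
    · intro h y hy
      have h2 : ((act n ⟨y, hy⟩ : (P : Subgroup H)) : H) = y := by rw [h]; rfl
      replace h2 : (n : H) * y * (n : H)⁻¹ = y := h2
      rw [eq_comm, ← mul_inv_eq_iff_eq_mul]; exact h2
    · intro h
      ext y
      show (n : H) * (y : H) * (n : H)⁻¹ = y
      rw [← h y y.2, mul_inv_cancel_right]
  have hχ4 : ∀ a : (ZMod 5)ˣ, a ^ 4 = 1 := by decide
  -- a `2`-element inducing a nontrivial automorphism
  obtain ⟨g0, hg0, hg2⟩ : ∃ g : NP, χ g ≠ 1 ∧ ∃ k, (g : H) ^ 2 ^ k = 1 := by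
    by_contra hno
    push Not at hno
    have hNC : NP ≤ C := by
      intro n hn'
      rw [← hχker ⟨n, hn'⟩]
      obtain ⟨a, m, hm, heq⟩ :=
        Nat.exists_eq_pow_mul_and_not_dvd (orderOf_pos n).ne' 2 (by norm_num)
      by_contra hne
      refine hno (⟨n, hn'⟩ ^ m) (fun h => hne ?_) a ?_
      · rw [map_pow] at h
        rcases Nat.lt_or_ge 0 m with hm0 | hm0
        · have hcop : Nat.Coprime m 4 :=
            Nat.Coprime.pow_right 2 ((Nat.prime_two.coprime_iff_not_dvd.mpr hm).symm)
          have := pow_gcd_eq_one.mpr ⟨h, hχ4 (χ ⟨n, hn'⟩)⟩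
          rwa [hcop.gcd_eq_one, pow_one] at this
        · exact absurd (by simp [Nat.le_zero.mp hm0]) hm
      · show (n ^ m) ^ 2 ^ a = 1
        rw [← pow_mul, Nat.mul_comm, ← heq, pow_orderOf_eq_one]
    -- a normal `5`-complement
    have hcompl := MonoidHom.ker_transferSylow_isComplement' P hNC
    set K := (MonoidHom.transferSylow P hNC).ker
    haveI : Fact (Nat.Prime 7) := ⟨by decide⟩
    have hK5 : K.index = 5 := by rw [hcompl.symm.index_eq_card, hP5]
    have hHN : Nat.card H = 21 * Nat.card NP := by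
      rw [← Subgroup.index_mul_card NP, show NP.index = 21 from P.card_eq_index_normalizer.symm.trans hn]
    have h7N : ¬ 7 ∣ Nat.card NP := fun h => by
      obtain ⟨⟨v, hv⟩, hv7⟩ := exists_prime_orderOf_dvd_card' 7 h
      rw [Subgroup.orderOf_mk] at hv7
      have := hno7 v (hNC hv) (hv7 ▸ pow_orderOf_eq_one v)
      rw [this, orderOf_one] at hv7
      omega
    obtain ⟨Q⟩ := (inferInstance : Nonempty (Sylow 7 K))
    set Q' : Subgroup H := (Q : Subgroup K).map K.subtype
    have hKn : 7 ∣ Nat.card K := by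
      have h1 := K.index_mul_card
      rw [hK5] at h1
      have : 7 ∣ 5 * Nat.card K := ⟨3 * Nat.card NP, by omega⟩
      exact (Nat.Coprime.dvd_of_dvd_mul_left (by norm_num) this)
    have hQ7 : Nat.card Q' = 7 := by
      rw [Subgroup.card_map_of_injective K.subtype_injective]
      obtain ⟨j, hj⟩ := IsPGroup.iff_card.mp Q.isPGroup'
      have h1 := Q.dvd_card_of_dvd_card hKn
      have h2 : Nat.card (Q : Subgroup K) ∣ 21 * Nat.card NP :=
        hHN ▸ (Subgroup.card_subgroup_dvd_card _).trans (Subgroup.card_subgroup_dvd_card K)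
      rw [hj] at h1 h2 ⊢
      rcases j with _ | _ | j
      · norm_num at h1
      · norm_num
      · exfalso
        apply h7N
        have h49 : 7 * 7 ∣ 21 * Nat.card NP := dvd_trans ⟨7 ^ j, by ring⟩ h2
        have : 7 ∣ 3 * Nat.card NP := by
          obtain ⟨c, hc⟩ := h49
          exact ⟨c, by omega⟩
        exact Nat.Coprime.dvd_of_dvd_mul_left (by norm_num) this
    set NQ := Subgroup.normalizer (Q' : Set H)
    have hsup : NQ ⊔ K = ⊤ := Sylow.normalizer_sup_eq_top Q
    have h5NQ : 5 ∣ Nat.card NQ := by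
      rw [← hK5, Subgroup.index_eq_card]
      refine Subgroup.card_dvd_of_surjective ((QuotientGroup.mk' K).comp NQ.subtype) ?_
      rw [← MonoidHom.range_eq_top, MonoidHom.range_comp, Subgroup.range_subtype]
      have := congrArg (Subgroup.map (QuotientGroup.mk' K)) hsup
      rwa [Subgroup.map_sup, QuotientGroup.map_mk'_self, sup_bot_eq,
        Subgroup.map_top_of_surjective _ (QuotientGroup.mk'_surjective K)] at this
    obtain ⟨⟨x, hx⟩, hx5⟩ := exists_prime_orderOf_dvd_card' 5 h5NQ
    rw [Subgroup.orderOf_mk] at hx5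
    haveI : IsCyclic Q' := isCyclic_of_prime_card hQ7
    have hcard6 : Nat.card (MulAut Q') = 6 := by
      rw [IsCyclic.card_mulAut, hQ7]; rfl
    have hα : (Subgroup.normalizerMonoidHom Q' ⟨x, hx⟩) = 1 := by
      have h1 : (Subgroup.normalizerMonoidHom Q' ⟨x, hx⟩) ^ 5 = 1 := by
        rw [← map_pow, show (⟨x, hx⟩ : NQ) ^ 5 = 1 from
          Subtype.ext (by rw [← hx5]; exact pow_orderOf_eq_one x), map_one]
      have h2 : (Subgroup.normalizerMonoidHom Q' ⟨x, hx⟩) ^ 6 = 1 := by
        rw [← hcard6]; exact pow_card_eq_one'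
      rwa [pow_succ, h1, one_mul] at h2
    obtain ⟨⟨q, hq⟩, hq7⟩ := exists_prime_orderOf_dvd_card' 7 (hQ7 ▸ dvd_rfl : 7 ∣ Nat.card Q')
    rw [Subgroup.orderOf_mk] at hq7
    have hxq : x * q * x⁻¹ = q := by
      simpa using congrArg Subtype.val (DFunLike.congr_fun hα ⟨q, hq⟩)
    -- move the Sylow subgroup generated by `x` to `P`
    have hxp : IsPGroup 5 (Subgroup.zpowers x) := IsPGroup.iff_card.mpr
      ⟨1, by rw [Nat.card_zpowers, hx5, pow_one]⟩
    obtain ⟨R, hR⟩ := hxp.exists_le_sylow
    have hRx : Subgroup.zpowers x = (R : Subgroup H) :=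
      Subgroup.eq_of_le_of_card_ge hR (by rw [Nat.card_zpowers, hx5, hP5])
    obtain ⟨h, hh⟩ := MulAction.exists_smul_eq H R P
    have hPh : ∀ y ∈ (P : Subgroup H), ∃ j : ℤ, y = h * x ^ j * h⁻¹ := by
      intro y hy
      rw [← hh, Sylow.coe_subgroup_smul, ← hRx, Subgroup.mem_smul_pointwise_iff_exists] at hy
      obtain ⟨_, ⟨j, rfl⟩, rfl⟩ := hy
      exact ⟨j, rfl⟩
    have hqC : h * q * h⁻¹ ∈ C := by
      rw [Subgroup.mem_centralizer_iff]
      intro y hy
      obtain ⟨j, rfl⟩ := hPh y hy
      have hc : Commute x q := by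
        show x * q = q * x
        rw [← mul_inv_eq_iff_eq_mul]; exact hxq
      have := (hc.zpow_left j).eq
      calc h * x ^ j * h⁻¹ * (h * q * h⁻¹) = h * (x ^ j * q) * h⁻¹ := by group
        _ = h * (q * x ^ j) * h⁻¹ := by rw [this]
        _ = h * q * h⁻¹ * (h * x ^ j * h⁻¹) := by group
    have := hno7 _ hqC (by rw [conj_pow, ← hq7, pow_orderOf_eq_one, mul_one, mul_inv_cancel])
    rw [conj_eq_one_iff] at this
    rw [this, orderOf_one] at hq7
    omega
  -- a Sylow `2`-subgroup fixing `P`
  obtain ⟨S, hSN⟩ : ∃ S : Sylow 2 H, (S : Subgroup H) ≤ NP := by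
    obtain ⟨S0⟩ := (inferInstance : Nonempty (Sylow 2 H))
    obtain ⟨R, hR⟩ := S0.isPGroup'.nonempty_fixed_point_of_prime_not_dvd_card (Sylow 5 H)
      (by rw [hn]; decide)
    obtain ⟨h, hh⟩ := MulAction.exists_smul_eq H R P
    refine ⟨h • S0, fun y hy => ?_⟩
    rw [Sylow.coe_subgroup_smul, Subgroup.mem_smul_pointwise_iff_exists] at hy
    obtain ⟨w, hw, rfl⟩ := hy
    rw [MulAut.smul_def, MulAut.conj_apply]
    refine Sylow.smul_eq_iff_mem_normalizer.mp ?_
    rw [← hh, ← mul_smul, inv_mul_cancel_right, mul_smul]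
    exact congrArg (h • ·) (hR ⟨w, hw⟩)
  let ψ : (S : Subgroup H) →* (ZMod 5)ˣ := χ.comp (Subgroup.inclusion hSN)
  -- some element of `S` acts nontrivially
  obtain ⟨s0, hs0⟩ : ∃ s : (S : Subgroup H), ψ s ≠ 1 := by
    obtain ⟨k, hk⟩ := hg2
    let SN : Sylow 2 NP := S.subtype hSN
    have hz : IsPGroup 2 (Subgroup.zpowers g0) := by
      rintro ⟨_, j, rfl⟩
      refine ⟨k, Subtype.ext ?_⟩
      have h0 : g0 ^ 2 ^ k = 1 := Subtype.ext (by rw [SubgroupClass.coe_pow, hk]; rfl)
      simp only [SubgroupClass.coe_pow, OneMemClass.coe_one]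
      rw [← zpow_natCast, ← zpow_mul, mul_comm, zpow_mul, zpow_natCast, h0, one_zpow]
    obtain ⟨T, hT⟩ := hz.exists_le_sylow
    obtain ⟨n, hn'⟩ := MulAction.exists_smul_eq NP T SN
    have hmem : n * g0 * n⁻¹ ∈ (SN : Subgroup NP) := by
      rw [← hn', Sylow.coe_subgroup_smul, Subgroup.mem_smul_pointwise_iff_exists]
      exact ⟨g0, hT (Subgroup.mem_zpowers g0), rfl⟩
    rw [show (SN : Subgroup NP) = (S : Subgroup H).subgroupOf NP from rfl,
      Subgroup.mem_subgroupOf] at hmem
    refine ⟨⟨_, hmem⟩, fun h => hg0 ?_⟩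
    have h' : χ (n * g0 * n⁻¹) = 1 := h
    rwa [map_mul, map_mul, map_inv, mul_inv_cancel_comm] at h'
  have hψC : ∀ v : (S : Subgroup H), ψ v = 1 ↔ (v : H) ∈ C := fun v => hχker _
  have hV2 : ∀ v : (S : Subgroup H), ψ v = 1 → (v : H) ^ 2 = 1 := by
    intro v hv
    obtain ⟨k, hk⟩ := S.isPGroup' v
    exact hexp k v ((hψC v).mp hv) (by rw [← SubgroupClass.coe_pow, hk]; rfl)
  -- the kernel is central in `S`
  have hcentral : ∀ (y v : (S : Subgroup H)), ψ v = 1 → y * v = v * y := by
    intro y v hv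
    by_contra hne
    obtain ⟨k, hk⟩ := S.isPGroup' y
    obtain ⟨z, hz, hz2⟩ : ∃ z : (S : Subgroup H), ¬ Commute z v ∧ Commute (z ^ 2) v := by
      by_contra hno
      push Not at hno
      have : ∀ j, ¬ Commute (y ^ 2 ^ j) v := by
        intro j
        induction j with
        | zero => rw [pow_zero, pow_one]; exact hne
        | succ j ih =>
          have := hno _ ih
          rwa [← pow_mul, ← pow_succ] at this
      exact this k (hk ▸ Commute.one_left v)
    set v' := z * v * z⁻¹ with hv'
    have hψv' : ψ v' = 1 := by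
      rw [hv', map_mul, map_mul, map_inv, hv, mul_one, mul_inv_cancel]
    have hsqS : ∀ u : (S : Subgroup H), ψ u = 1 → u * u = 1 := fun u hu =>
      Subtype.ext (by rw [Subgroup.coe_mul, ← sq, hV2 u hu]; rfl)
    have habel : ∀ a b : (S : Subgroup H), ψ a = 1 → ψ b = 1 → a * b = b * a := by
      intro a b ha hb
      have h1 := hsqS _ (show ψ (a * b) = 1 by rw [map_mul, ha, hb, one_mul])
      have h2 := hsqS a ha
      have h3 := hsqS b hb
      calc a * b = a * 1 * b := by rw [mul_one]
        _ = a * (a * b * (a * b)) * b := by rw [h1]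
        _ = (a * a) * b * a * (b * b) := by group
        _ = b * a := by rw [h2, h3, one_mul, mul_one]
    set w := v * v' with hw
    have hψw : ψ w = 1 := by rw [hw, map_mul, hv, hψv', one_mul]
    have hw1 : w ≠ 1 := by
      intro h
      apply hz
      have h1 : v' = v := by
        rw [← one_mul v', ← hsqS v hv, mul_assoc, ← hw, h, mul_one]
      show z * v = v * z
      rw [← mul_inv_eq_iff_eq_mul]; exact h1
    have hzv' : z * v' * z⁻¹ = v := by
      rw [hv', show z * (z * v * z⁻¹) * z⁻¹ = z ^ 2 * v * (z ^ 2)⁻¹ by rw [sq]; group, hz2.eq,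
        mul_inv_cancel_right]
    have hzw : Commute z w := by
      show z * w = w * z
      rw [← mul_inv_eq_iff_eq_mul, hw,
        show z * (v * v') * z⁻¹ = (z * v * z⁻¹) * (z * v' * z⁻¹) by group, hzv', ← hv']
      exact habel _ _ hψv' hv
    have hz2w : Commute (z ^ 2) w := hzw.pow_left 2
    have hsq : (z * v) ^ 2 = z ^ 2 * w := by
      calc (z * v) ^ 2 = v' * (z ^ 2 * v) := by simp only [hv', sq, mul_assoc, inv_mul_cancel_left]
        _ = v' * (v * z ^ 2) := by rw [hz2.eq]
        _ = (v' * v) * z ^ 2 := (mul_assoc _ _ _).symm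
        _ = w * z ^ 2 := by rw [habel _ _ hψv' hv]
        _ = z ^ 2 * w := hz2w.eq.symm
    have hodd : ∀ t : (S : Subgroup H), t ^ 4 = 1 → (fixSet ((t : H) ^ 2)).ncard = 1 → False :=
      fun t h4 h1 => (parity hn hred (t : H)).2
        (by rw [← SubgroupClass.coe_pow, h4]; rfl) h1
    have hone : ∀ t : (S : Subgroup H), ψ t = 1 → t ≠ 1 → (fixSet (t : H)).ncard = 1 :=
      fun t ht ht1 => hinvC _ ((hψC t).mp ht) (hV2 t ht) fun h => ht1 (Subtype.ext h)
    have hψ4 : ψ (z ^ 4) = 1 := by rw [map_pow]; exact hχ4 _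
    have hz4 : z ^ 4 = 1 := by
      by_contra h4
      refine hodd (z ^ 2) ?_ ?_
      · rw [← pow_mul, show 2 * 4 = 4 * 2 from rfl, pow_mul, sq]; exact hsqS _ hψ4
      · rw [← SubgroupClass.coe_pow, ← pow_mul]; exact hone _ hψ4 h4
    have hzv4 : (z * v) ^ 4 = 1 := by
      rw [show 4 = 2 * 2 from rfl, pow_mul, hsq, hz2w.mul_pow, ← pow_mul, hz4, one_mul, sq,
        hsqS w hψw]
    by_cases hu : ψ (z ^ 2) = 1
    · rcases eq_or_ne (z ^ 2) 1 with h1 | h1
      · refine hodd (z * v) hzv4 ?_
        rw [← SubgroupClass.coe_pow, hsq, h1, one_mul]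
        exact hone w hψw hw1
      · refine hodd z hz4 ?_
        rw [← SubgroupClass.coe_pow]
        exact hone _ hu h1
    -- two commuting involutions inverting `P`
    set u : H := ((z ^ 2 : (S : Subgroup H)) : H) with hu_def
    have hu2 : u ^ 2 = 1 := by
      rw [hu_def, ← SubgroupClass.coe_pow, ← pow_mul, hz4]; rfl
    have huinv : ∀ g ∈ (P : Subgroup H), u * g * u⁻¹ = g⁻¹ := by
      intro g hg
      set a := act (Subgroup.inclusion hSN (z ^ 2)) with ha
      have ha1 : a ≠ 1 := fun h => hu (show e a = 1 by rw [h, map_one])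
      have ha2 : a * a = 1 := by
        rw [ha, ← map_mul, ← map_mul, ← pow_add, hz4, map_one, map_one]
      have hga : a (⟨g, hg⟩ : (P : Subgroup H)) = (⟨g, hg⟩ : (P : Subgroup H))⁻¹ := by
        set γ : (P : Subgroup H) := ⟨g, hg⟩
        have hcm : ∀ a b : (P : Subgroup H), a * b = b * a :=
          (IsCyclic.commGroup (α := (P : Subgroup H))).mul_comm
        have hfixed : a (γ * a γ) = γ * a γ := by
          rw [map_mul, ← MulAut.mul_apply, ha2, MulAut.one_apply, hcm]
        by_contra hne'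
        have hne2 : γ * a γ ≠ 1 := fun h => hne' (eq_inv_of_mul_eq_one_right h)
        apply ha1
        ext y
        obtain ⟨j, rfl⟩ := Subgroup.mem_zpowers_iff.mp
          (mem_zpowers_of_prime_card (hP5 P) hne2 : y ∈ Subgroup.zpowers (γ * a γ))
        rw [MulAut.one_apply, map_zpow, hfixed]
      exact congrArg Subtype.val hga
    have hwC : (w : H) ∈ C := (hψC w).mp hψw
    set u' : H := u * (w : H) with hu'
    have huw : u * (w : H) = (w : H) * u := congrArg Subtype.val hz2w.eq
    have hu'eq : u' = (((z * v) ^ 2 : (S : Subgroup H)) : H) := by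
      simp only [hsq, hu', hu_def, Subgroup.coe_mul]
    have hNfix : ∀ s : (S : Subgroup H), (s : H) • P = P := fun s =>
      Sylow.smul_eq_iff_mem_normalizer.mpr (hSN s.2)
    have hFu : (fixSet u).ncard % 4 = 1 ∧ (fixSet u).ncard ≠ 1 :=
      ⟨(parity hn hred u).1 hu2, fun h => hodd z hz4 (by rw [← SubgroupClass.coe_pow]; exact h)⟩
    set F : Set (Sylow 5 H) := fixSet u \ {P} with hF
    have hFc : F.ncard = (fixSet u).ncard - 1 :=
      Set.ncard_diff_singleton_of_mem (hNfix (z ^ 2))
    -- the translates of the fixed points of `u`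
    let τ : ↥(P : Subgroup H) × ↥F → ↥(({P} : Set (Sylow 5 H))ᶜ) := fun gx =>
      ⟨(gx.1 : H) • gx.2.1, fun h => gx.2.2.2 (smul_left_cancel (gx.1 : H)
        ((Set.mem_singleton_iff.mp h).trans (smul_eq_self_of_mem gx.1.2).symm))⟩
    have hτ : Function.Injective τ := by
      rintro ⟨g, R, hR⟩ ⟨g', R', hR'⟩ h
      have h1 : (g : H) • R = (g' : H) • R' := congrArg Subtype.val h
      have hRu : u • R = R := hR.1
      have hR'u : u • R' = R' := hR'.1
      set d : H := (g' : H)⁻¹ * (g : H) with hd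
      have hdP : d ∈ (P : Subgroup H) := mul_mem (inv_mem g'.2) g.2
      have h2 : d • R = R' := by rw [hd, mul_smul, h1, inv_smul_smul]
      have h3 : d⁻¹ • R = R' := by
        rw [← huinv d hdP, mul_smul, mul_smul,
          show u⁻¹ • R = R by rw [inv_smul_eq_iff, hRu], h2, hR'u]
      have h4 : (d * d) • R = R := by
        rw [mul_smul, h2, ← h3, ← mul_smul, mul_inv_cancel, one_smul]
      have h5 : d = 1 := by
        by_contra hd1
        by_cases hdd : d * d = 1
        · have ho : orderOf d ∣ 2 := orderOf_dvd_of_pow_eq_one (by rw [sq, hdd])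
          have h5' : orderOf d ∣ 5 := hP5 P ▸ Subgroup.orderOf_dvd_natCard _ hdP
          exact hd1 (orderOf_eq_one_iff.mp (Nat.dvd_one.mp (Nat.dvd_gcd ho h5')))
        · exact hR.2 (hfree _ (mul_mem hdP hdP) hdd R h4)
      have hg : g = g' := Subtype.ext (inv_mul_eq_one.mp h5).symm
      subst hg
      have hRR : R = R' := MulAction.injective _ h1
      subst hRR
      rfl
    have hcount := Nat.card_le_card_of_injective τ hτ
    have h20 : Nat.card ↥(({P} : Set (Sylow 5 H))ᶜ) = 20 := by
      rw [Nat.card_coe_set_eq, Set.ncard_compl, Set.ncard_singleton, hn]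
    rw [Nat.card_prod, hP5, Nat.card_coe_set_eq, hFc, h20] at hcount
    have hf5 : (fixSet u).ncard = 5 := by
      have a := hFu.1
      have b := hFu.2
      omega
    have hsurj : Function.Surjective τ := by
      refine hτ.surjective_of_finite (Finite.card_eq.mp ?_).some
      rw [Nat.card_prod, hP5, h20, Nat.card_coe_set_eq, hFc, hf5]
    have hu'2 : (fixSet u').ncard ≠ 1 := fun h => hodd (z * v) hzv4 (by
      rw [← SubgroupClass.coe_pow, ← hu'eq]; exact h)
    obtain ⟨R', hR', hR'P⟩ := Set.exists_ne_of_one_lt_ncard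
      (show 1 < (fixSet u').ncard by
        have : P ∈ fixSet u' := by rw [hu'eq]; exact hNfix _
        have := (Set.ncard_pos (Set.toFinite (fixSet u'))).mpr ⟨P, this⟩
        omega) P
    obtain ⟨⟨g, R, hR⟩, hgR⟩ := hsurj ⟨R', hR'P⟩
    have hgR' : (g : H) • R = R' := congrArg Subtype.val hgR
    subst hgR'
    have hRu : u • R = R := hR.1
    have hu'fix : u' • (g : H) • R = (g : H) • R := hR'
    have hwg : (w : H) * (g : H) = (g : H) * (w : H) :=
      ((Subgroup.mem_centralizer_iff.mp hwC) g g.2).symm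
    have hug : u * (g : H) = (g : H)⁻¹ * u := by
      rw [← mul_inv_eq_iff_eq_mul]; exact huinv g g.2
    have e1 : (g : H)⁻¹ • (w : H) • R = (g : H) • R := by
      rw [← hu'fix]
      symm
      rw [← mul_smul u', hu', mul_assoc u, hwg, ← mul_assoc u, hug, mul_assoc, huw, ← mul_assoc,
        mul_smul, mul_smul, hRu]
    have e2 : (w : H) • R = ((g : H) * (g : H)) • R := by
      rw [mul_smul, ← e1, smul_inv_smul]
    have e3 : u • (w : H) • R = (w : H) • R := by
      rw [← mul_smul, huw, mul_smul, hRu]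
    have hq : (g : H) * (g : H) ∈ (P : Subgroup H) := mul_mem g.2 g.2
    have e4 : ((g : H) * (g : H))⁻¹ • R = ((g : H) * (g : H)) • R := by
      rw [← e2, ← e3, e2, ← huinv _ hq, mul_smul, mul_smul,
        show u⁻¹ • R = R by rw [inv_smul_eq_iff, hRu]]
    set q : H := (g : H) * (g : H) with hqdef
    have hq1 : q = 1 := by
      by_contra hq1
      by_cases hqq : q * q = 1
      · have ho : orderOf q ∣ 2 := orderOf_dvd_of_pow_eq_one (by rw [sq, hqq])
        have h5' : orderOf q ∣ 5 := hP5 P ▸ Subgroup.orderOf_dvd_natCard _ hq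
        exact hq1 (orderOf_eq_one_iff.mp (Nat.dvd_one.mp (Nat.dvd_gcd ho h5')))
      · refine hR.2 (hfree _ (mul_mem hq hq) hqq R ?_)
        rw [mul_smul, ← e4, smul_inv_smul]
    rw [hq1, one_smul] at e2
    exact hR.2 (hsemi _ hwC (hV2 w hψw) (fun h => hw1 (Subtype.ext h)) R e2)
  have hψker : ψ.ker ≤ Subgroup.center (S : Subgroup H) := fun v hv =>
    Subgroup.mem_center_iff.mpr fun y => hcentral y v (MonoidHom.mem_ker.mp hv)
  haveI : IsMulCommutative (S : Subgroup H) :=
    ψ.isMulCommutative_of_isCyclic_of_ker_le_center hψker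
  -- fusion in `S` preserves `ψ`
  have hfus : ∀ (a b : (S : Subgroup H)) (h : H), h⁻¹ * (a : H) * h = b → ψ b = ψ a := by
    intro a b h hab
    obtain ⟨n, hn', hn2⟩ := S.conj_eq_normalizer_conj_of_mem (a : H) h a.2 (hab ▸ b.2)
    by_cases hV : ∃ v : (S : Subgroup H), ψ v = 1 ∧ v ≠ 1
    · obtain ⟨v, hv, hv1⟩ := hV
      have hnP : n • P = P := by
        refine hsemi (v : H) ((hψC v).mp hv) (hV2 v hv) (fun h => hv1 (Subtype.ext h)) _ ?_
        have hv' : n⁻¹ * (v : H) * n ∈ (S : Subgroup H) := by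
          have := (Subgroup.mem_normalizer_iff.mp (inv_mem hn') (v : H)).mp v.2
          rwa [inv_inv] at this
        have h1 : (n⁻¹ * (v : H) * n) • P = P :=
          Sylow.smul_eq_iff_mem_normalizer.mpr (hSN hv')
        rwa [mul_smul, mul_smul, inv_smul_eq_iff] at h1
      let nN : NP := ⟨n, Sylow.smul_eq_iff_mem_normalizer.mp hnP⟩
      have h2 : Subgroup.inclusion hSN b = nN⁻¹ * Subgroup.inclusion hSN a * nN :=
        Subtype.ext (hab.symm.trans hn2)
      show χ _ = χ _
      rw [h2, map_mul, map_mul, map_inv, mul_comm _ (χ nN), mul_inv_cancel_left]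
    · push Not at hV
      have hinj : Function.Injective ψ := by
        rw [injective_iff_map_eq_one]; exact hV
      haveI hScyc : IsCyclic (S : Subgroup H) := isCyclic_of_injective ψ hinj
      have h2 : (Nat.card H).minFac = 2 := by
        rw [Nat.minFac_eq_two_iff]
        have h1 : 2 ∣ Nat.card (S : Subgroup H) := by
          obtain ⟨j, hj⟩ := IsPGroup.iff_card.mp S.isPGroup'
          rw [hj]
          rcases j with _ | j
          · rw [pow_zero, Subgroup.card_eq_one] at hj
            refine absurd ?_ hs0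
            have : (s0 : H) = 1 := Subgroup.mem_bot.mp (hj ▸ s0.2)
            rw [show s0 = 1 from Subtype.ext this, map_one]
          · exact ⟨2 ^ j, pow_succ' 2 j⟩
        exact h1.trans (Subgroup.card_subgroup_dvd_card _)
      have hc := IsCyclic.normalizer_le_centralizer h2 hScyc hn'
      have : b = a := Subtype.ext (by
        rw [← hab, hn2, mul_assoc, Subgroup.mem_centralizer_iff.mp hc (a : H) a.2,
          inv_mul_cancel_left])
      rw [this]
  -- the transfer
  let T : H →* (ZMod 5)ˣ := MonoidHom.transfer ψ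
  have hT1 : ∀ g : H, T g = 1 := by
    intro g
    refine MonoidHom.eqOn_closure (f := T) (g := 1) (s := pElts 5 H) ?_
      (hred.2 ▸ Subgroup.mem_top g)
    rintro x ⟨k, hk⟩
    have h1 : (T x) ^ 5 ^ k = 1 := by rw [← map_pow, hk, map_one]
    have := pow_gcd_eq_one.mpr ⟨h1, hχ4 (T x)⟩
    rwa [Nat.Coprime.gcd_eq_one (Nat.Coprime.pow_left k (by norm_num)), pow_one] at this
  have hTs : T (s0 : H) = ψ s0 ^ (S : Subgroup H).index := by
    haveI : Fintype (H ⧸ (S : Subgroup H)) := Fintype.ofFinite _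
    show MonoidHom.transfer ψ (s0 : H) = _
    rw [MonoidHom.transfer_eq_prod_quotient_orbitRel_zpowers_quot,
      Subgroup.index_eq_sum_minimalPeriod (S : Subgroup H) (s0 : H),
      ← Finset.prod_pow_eq_pow_sum]
    refine Finset.prod_congr rfl fun q _ => ?_
    rw [← map_pow]
    exact hfus _ _ _ (by rw [SubgroupClass.coe_pow])
  rw [hT1] at hTs
  apply hs0
  have := pow_gcd_eq_one.mpr ⟨hTs.symm, hχ4 (ψ s0)⟩
  have hodd : Nat.Coprime (S : Subgroup H).index 4 :=
    Nat.Coprime.pow_right 2 ((Nat.prime_two.coprime_iff_not_dvd.mpr S.not_dvd_index).symm)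
  rwa [hodd.gcd_eq_one, pow_one] at this


/-- No finite group has exactly twenty-one Sylow 5-subgroups. -/
theorem result {G : Type*} [Group G] [Finite G] : Nat.card (Sylow 5 G) ≠ 21 := by
  intro h
  obtain ⟨H, _, _, hred, hcard⟩ := exists_reduced G 5
  exact no_reduced (hcard.trans h) hred

end Cfsg.Agent.S1010
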