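import Cfsg.Statements.S1026
import Cfsg.Agent.Lib.Lie.AllFacts
import Cfsg.Agent.Lib.Lie.Unipotent

set_option autoImplicit false
open Cfsg

namespace Cfsg.Agent.S1026

/-- Every element of `U` has a unique expression `∏_{r ∈ Φ⁺} x_r(t_r)`, the product over the positive roots in increasing index order (the coefficient family `t`, supported on the positive roots, exists and is unique); and conversely every such ordered product is the matrix of an element of `U`. -/
theorem result {F : Type*} [Field F] (D : Cfsg.Lie.ChevalleyDatum) (hD : D ∈ [Cfsg.Lie.chevG2, Cfsg.Lie.chevB2, Cfsg.Lie.chevD4, Cfsg.Lie.chevF4, Cfsg.Lie.chevE6, Cfsg.Lie.chevE7, Cfsg.Lie.chevE8]) :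
    (∀ g : GL D.Idx F, g ∈ D.posUnipotent F →
      ∃! t : ℕ → F, (∀ r, ¬ D.IsPosRoot r → t r = 0) ∧
        (g : Matrix D.Idx D.Idx F) = D.wordMat F (D.posRoots.map fun r => (r, t r))) ∧
    (∀ t : ℕ → F, ∃ g : GL D.Idx F, g ∈ D.posUnipotent F ∧
      (g : Matrix D.Idx D.Idx F) = D.wordMat F (D.posRoots.map fun r => (r, t r))) := by
  obtain ⟨hF⟩ := Lie.facts_of_mem hD
  have hw : ∀ t : ℕ → F, ((hF.sys F).prodOver (Lie.Facts.posL D) t : Matrix D.Idx D.Idx F) =
      D.wordMat F (D.posRoots.map fun r => (r, t r)) := by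
    intro t
    rw [hF.posRoots_eq, ← hF.coe_wg]
    simp [Lie.Facts.wg, Lie.CommSys.prodOver, List.map_map, Function.comp_def, Lie.Facts.sys_x]
  refine ⟨fun g hg => ?_, fun t => ⟨(hF.sys F).prodOver (Lie.Facts.posL D) t, ?_, hw t⟩⟩
  · rw [hF.posUnipotent_eq F] at hg
    obtain ⟨t, rfl⟩ := (hF.sys F).exists_prodOver hF.closedList_posL hg
    classical
    refine ⟨fun r => if D.IsPosRoot r then t r else 0, ⟨fun r hr => if_neg hr, ?_⟩, ?_⟩
    · rw [← hw]
      congr 1
      refine Lie.CommSys.prodOver_congr _ fun r hr => ?_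
      show t r = if D.IsPosRoot r then t r else 0
      rw [if_pos ((hF.isPosRoot_iff r).2 (Lie.Facts.mem_posL.1 hr))]
    · rintro t' ⟨h0, h1⟩
      funext r
      by_cases hr : D.IsPosRoot r
      · simp only [if_pos hr]
        rw [← hw] at h1
        exact (hF.prodOver_inj hF.closedList_posL (Units.ext h1) r
          (Lie.Facts.mem_posL.2 ((hF.isPosRoot_iff r).1 hr))).symm
      · simp only [if_neg hr]
        exact h0 r hr
  · rw [hF.posUnipotent_eq F]
    exact Lie.CommSys.prodOver_mem _ _ _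

end Cfsg.Agent.S1026
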