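import Cfsg.Statements.S1027
import Cfsg.Agent.Lib.Lie.AllFacts
import Cfsg.Agent.Lib.Lie.Unipotent

set_option autoImplicit false
open Cfsg

namespace Cfsg.Agent.S1027

/-- For the subgroup `U` generated by the root elements `x_r(t)` of the positive roots `r`: `|U| = q^N` over a field with `q` elements, where `N` is the number of positive roots (half the number of roots). -/
theorem result {F : Type*} [Field F] [Fintype F] (D : Cfsg.Lie.ChevalleyDatum) (hD : D ∈ [Cfsg.Lie.chevG2, Cfsg.Lie.chevB2, Cfsg.Lie.chevD4, Cfsg.Lie.chevF4, Cfsg.Lie.chevE6, Cfsg.Lie.chevE7, Cfsg.Lie.chevE8]) :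
    Nat.card (D.posUnipotent F) = Fintype.card F ^ (D.nroots / 2) := by
  obtain ⟨hF⟩ := Lie.facts_of_mem hD
  classical
  rw [hF.posUnipotent_eq F]
  let ext' : ({r // r ∈ Lie.Facts.posL D} → F) → ℕ → F :=
    fun f r => if h : r ∈ Lie.Facts.posL D then f ⟨r, h⟩ else 0
  let φ : ({r // r ∈ Lie.Facts.posL D} → F) → (hF.sys F).US (Lie.Facts.posL D) :=
    fun f => ⟨(hF.sys F).prodOver (Lie.Facts.posL D) (ext' f), Lie.CommSys.prodOver_mem _ _ _⟩
  have hφ : Function.Bijective φ := by
    constructor
    · intro f f' h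
      funext r
      have := hF.prodOver_inj hF.closedList_posL (Subtype.ext_iff.1 h) r.val r.2
      simpa [ext', r.2] using this
    · rintro ⟨g, hg⟩
      obtain ⟨t, rfl⟩ := (hF.sys F).exists_prodOver hF.closedList_posL hg
      exact ⟨fun r => t r.val, Subtype.ext (Lie.CommSys.prodOver_congr _ fun r hr => by simp [ext', hr])⟩
  rw [← Nat.card_eq_of_bijective φ hφ, Nat.card_fun, Nat.card_eq_fintype_card (α := F)]
  congr 1
  rw [Nat.card_eq_fintype_card, Fintype.card_of_subtype (Lie.Facts.posL D).toFinset (fun r => List.mem_toFinset)]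
  have : (Lie.Facts.posL D).toFinset = Finset.Ico (D.nroots / 2) D.nroots := by
    ext r
    rw [List.mem_toFinset, Lie.Facts.mem_posL, Finset.mem_Ico]
  rw [this, Nat.card_Ico]
  have := hF.even
  omega

end Cfsg.Agent.S1027
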