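import Cfsg.Statements.S1028
import Cfsg.Agent.Lib.Lie.AllFacts
import Cfsg.Agent.Lib.Lie.Unipotent

set_option autoImplicit false
open Cfsg

namespace Cfsg.Agent.S1028

/-- Elements of `U` (the subgroup generated by the root elements of the positive roots) are unipotent linear maps: `(u - 1)^n = 0` with `n = rank + nroots` the dimension of the module. -/
theorem result {F : Type*} [Field F] (D : Cfsg.Lie.ChevalleyDatum) (hD : D ∈ [Cfsg.Lie.chevG2, Cfsg.Lie.chevB2, Cfsg.Lie.chevD4, Cfsg.Lie.chevF4, Cfsg.Lie.chevE6, Cfsg.Lie.chevE7, Cfsg.Lie.chevE8]) (g : GL D.Idx F) (hg : g ∈ D.posUnipotent F) :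
    ((g : Matrix D.Idx D.Idx F) - 1) ^ (D.rank + D.nroots) = 0 := by
  obtain ⟨hF⟩ := Lie.facts_of_mem hD
  have h1 := (hF.posUnipotent_le_raise F hg).1
  have hpow : ∀ k : ℕ, hF.Raises (k : ℤ) (((g : Matrix D.Idx D.Idx F) - 1) ^ k) := by
    intro k
    induction k with
    | zero => simpa using hF.raises_one
    | succ k ih =>
      rw [pow_succ]
      push_cast
      exact Lie.Facts.Raises.mul hF ih h1
  have hnil : IsNilpotent ((g : Matrix D.Idx D.Idx F) - 1) := by
    refine ⟨(2 * ∑ q : D.Idx, |hF.hgt q|).toNat + 1, hF.raises_large ?_ (hpow _)⟩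
    push_cast
    omega
  have hc := Matrix.isNilpotent_charpoly_sub_pow_of_isNilpotent hnil
  rw [isNilpotent_iff_eq_zero, sub_eq_zero] at hc
  have := Matrix.aeval_self_charpoly ((g : Matrix D.Idx D.Idx F) - 1)
  rw [hc, map_pow, Polynomial.aeval_X] at this
  simpa [Fintype.card_sum] using this

end Cfsg.Agent.S1028
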