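import Cfsg.Statements.S1029
import Cfsg.Agent.Lib.Lie.AllFacts
import Cfsg.Agent.Lib.Lie.Unipotent

set_option autoImplicit false
open Cfsg

namespace Cfsg.Agent.S1029

/-- `U` is a nilpotent group (the subgroups generated by root subgroups of height at least `m` form a central series). -/
theorem result {F : Type*} [Field F] (D : Cfsg.Lie.ChevalleyDatum) (hD : D ∈ [Cfsg.Lie.chevG2, Cfsg.Lie.chevB2, Cfsg.Lie.chevD4, Cfsg.Lie.chevF4, Cfsg.Lie.chevE6, Cfsg.Lie.chevE7, Cfsg.Lie.chevE8]) : Group.IsNilpotent (D.posUnipotent F) := by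
  obtain ⟨hF⟩ := Lie.facts_of_mem hD
  have hk : ∀ k : ℕ, (D.posUnipotent F).lowerCentralSeries k ≤ hF.raiseSubgroup (k + 1) := by
    intro k
    induction k with
    | zero => exact hF.posUnipotent_le_raise F
    | succ k ih =>
      rw [Subgroup.lowerCentralSeries_succ]
      exact (Subgroup.commutator_mono ih (hF.posUnipotent_le_raise F)).trans
        (hF.commutator_raise (k + 1) 1)
  rw [Subgroup.isNilpotent_iff_lowerCentralSeries]
  refine ⟨(2 * ∑ q : D.Idx, |hF.hgt q|).toNat, eq_bot_iff.2 fun g hg => ?_⟩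
  have h0 := hF.raises_large (by push_cast; omega) (hk _ hg).1
  rw [Subgroup.mem_bot]
  exact Units.ext (sub_eq_zero.1 h0)

end Cfsg.Agent.S1029
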