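import Cfsg.Statements.S1034
import Cfsg.Agent.Lib.Lie.AllFacts
import Cfsg.Agent.Lib.Lie.Diagonal

set_option autoImplicit false
open Cfsg

namespace Cfsg.Agent.S1034

/-- Every element of `H` is a product `h_{p_1}(c_1) ⋯ h_{p_l}(c_l)` over the fundamental roots, with non-zero `c_i`. -/
theorem result {F : Type*} [Field F] (D : Cfsg.Lie.ChevalleyDatum) (hD : D ∈ [Cfsg.Lie.chevG2, Cfsg.Lie.chevB2, Cfsg.Lie.chevD4, Cfsg.Lie.chevF4, Cfsg.Lie.chevE6, Cfsg.Lie.chevE7, Cfsg.Lie.chevE8]) (g : GL D.Idx F) (hg : g ∈ D.diagonalSubgroup F) :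
    ∃ c : ℕ → F, (∀ i < D.rank, c i ≠ 0) ∧
      (g : Matrix D.Idx D.Idx F) = D.wordMat F ((List.range D.rank).flatMap fun i => D.hWord (D.simple i) (c i)) := by
  obtain ⟨hF⟩ := Lie.facts_of_mem hD
  rw [hF.diagonalSubgroup_eq F] at hg
  obtain ⟨c, rfl⟩ := hg
  refine ⟨fun i => if h : i < D.rank then ((c ⟨i, h⟩ : Fˣ) : F) else 1,
    fun i hi => by simp [dif_pos hi], ?_⟩
  rw [← hF.coe_wg]
  congr 1
  have hw : ∀ L : List ℕ, hF.wg (L.flatMap fun i => D.hWord (D.simple i)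
      (if h : i < D.rank then ((c ⟨i, h⟩ : Fˣ) : F) else 1)) =
      (L.map fun i => hF.hg (D.simple i) (if h : i < D.rank then ((c ⟨i, h⟩ : Fˣ) : F) else 1)).prod := by
    intro L
    induction L with
    | nil => rfl
    | cons a L ih => rw [List.flatMap_cons, hF.wg_append, ih, List.map_cons, List.prod_cons]; rfl
  rw [hw, ← List.map_coe_finRange_eq_range, List.map_map]
  conv_lhs => rw [← Finset.univ_prod_mulSingle c]
  rw [← List.prod_ofFn, map_list_prod, List.map_ofFn, List.ofFn_eq_map]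
  congr 1
  refine List.map_congr_left fun i _ => ?_
  simp only [Function.comp_apply, hF.torus_single i (c i), dif_pos i.isLt, Fin.eta]

end Cfsg.Agent.S1034
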