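import Cfsg.Statements.S1036
import Cfsg.Agent.Lib.Lie.AllFacts
import Cfsg.Agent.Lib.Lie.Diagonal

set_option autoImplicit false
open Cfsg

namespace Cfsg.Agent.S1036

/-- `H` normalises `U` and `U ∩ H = 1`; thus `B = UH` is the semidirect product of `U` by `H`. -/
theorem result {F : Type*} [Field F] (D : Cfsg.Lie.ChevalleyDatum) (hD : D ∈ [Cfsg.Lie.chevG2, Cfsg.Lie.chevB2, Cfsg.Lie.chevD4, Cfsg.Lie.chevF4, Cfsg.Lie.chevE6, Cfsg.Lie.chevE7, Cfsg.Lie.chevE8]) :
    D.diagonalSubgroup F ≤ Subgroup.normalizer (D.posUnipotent F : Set (GL D.Idx F)) ∧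
      D.posUnipotent F ⊓ D.diagonalSubgroup F = ⊥ := by
  obtain ⟨hF⟩ := Lie.facts_of_mem hD
  rw [hF.diagonalSubgroup_eq F]
  constructor
  · rintro g ⟨c, rfl⟩
    have key : ∀ (c : Fin D.rank → Fˣ) (u : GL D.Idx F), u ∈ D.posUnipotent F →
        Lie.torus D F c * u * (Lie.torus D F c)⁻¹ ∈ D.posUnipotent F := by
      intro c u hu
      rw [hF.posUnipotent_eq F] at hu ⊢
      induction hu using Subgroup.closure_induction with
      | mem u hu =>
        obtain ⟨r, hr, t, rfl⟩ := hu
        rw [hF.sys_x, hF.torus_conj c (Lie.Facts.mem_posL.1 hr).2]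
        exact Lie.CommSys.x_mem_US _ hr _
      | one => simp
      | mul a b _ _ ha hb =>
        have e : Lie.torus D F c * (a * b) * (Lie.torus D F c)⁻¹ =
            Lie.torus D F c * a * (Lie.torus D F c)⁻¹ * (Lie.torus D F c * b * (Lie.torus D F c)⁻¹) := by
          group
        rw [e]
        exact mul_mem ha hb
      | inv a _ ha =>
        have e : Lie.torus D F c * a⁻¹ * (Lie.torus D F c)⁻¹ =
            (Lie.torus D F c * a * (Lie.torus D F c)⁻¹)⁻¹ := by group
        rw [e]
        exact inv_mem ha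
    rw [Subgroup.mem_normalizer_iff]
    refine fun u => ⟨key c u, fun h => ?_⟩
    have := key c⁻¹ _ h
    rw [map_inv] at this
    simpa [mul_assoc] using this
  · rw [eq_bot_iff]
    rintro g ⟨hg, c, rfl⟩
    rw [Subgroup.mem_bot]
    have h := (hF.posUnipotent_le_raise F hg).1
    ext p q : 2
    by_cases hpq : p = q
    · subst hpq
      by_contra hne
      have := h p p (by
        rw [Matrix.sub_apply, Matrix.one_apply_eq]
        intro h0
        exact hne (by rw [Units.val_one, Matrix.one_apply_eq]; exact sub_eq_zero.1 h0))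
      simp at this
    · rw [Lie.coe_torus, Lie.diagM, Matrix.diagonal_apply_ne _ hpq, Units.val_one,
        Matrix.one_apply_ne hpq]

end Cfsg.Agent.S1036
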