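import Cfsg.Statements.S1037
import Cfsg.Agent.Lib.Lie.AllFacts
import Cfsg.Agent.Lib.Lie.BruhatAux
-- import your own Cfsg.Agent.* helpers here

set_option autoImplicit false
open Cfsg

namespace Cfsg.Agent.S1037

/-- `UH ∩ V = 1` and `UH ∩ VH = H`. -/
theorem result {F : Type*} [Field F] (D : Cfsg.Lie.ChevalleyDatum) (hD : D ∈ [Cfsg.Lie.chevG2, Cfsg.Lie.chevB2, Cfsg.Lie.chevD4, Cfsg.Lie.chevF4, Cfsg.Lie.chevE6, Cfsg.Lie.chevE7, Cfsg.Lie.chevE8]) :
    D.borelSubgroup F ⊓ D.negUnipotent F = ⊥ ∧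
      D.borelSubgroup F ⊓ (D.negUnipotent F ⊔ D.diagonalSubgroup F) = D.diagonalSubgroup F := by
  obtain ⟨hF⟩ := Lie.facts_of_mem hD
  have hBV : ∀ g, g ∈ D.borelSubgroup F → g ∈ D.negUnipotent F → g = 1 := fun g hB hV =>
    hF.B_inter_V (by rw [hF.tsys_B]; exact hB) hV
  refine ⟨(Subgroup.eq_bot_iff_forall _).2 fun g hg => hBV g hg.1 hg.2, le_antisymm ?_
    (le_inf le_sup_right le_sup_right)⟩
  rintro g ⟨hB, hV⟩
  have hnorm : D.diagonalSubgroup F ≤ Subgroup.normalizer (D.negUnipotent F : Set (GL D.Idx F)) := by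
    have key : ∀ a ∈ D.diagonalSubgroup F, ∀ v ∈ D.negUnipotent F,
        a * v * a⁻¹ ∈ D.negUnipotent F := by
      intro a ha v hv
      rw [← hF.tsys_H] at ha
      have hle : D.negUnipotent F ≤ (D.negUnipotent F).comap (MulAut.conj a).toMonoidHom := by
        refine hF.negUnipotent_le fun r hr t => ?_
        obtain ⟨u, hu⟩ := ((hF.tsys F).H_conj_X ha (show r < D.nroots by omega) t).1
        rw [hF.tsys_x, hF.tsys_x] at hu
        show a * hF.xg r t * a⁻¹ ∈ D.negUnipotent F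
        rw [hu]
        exact hF.x_mem_negUnipotent hr u
      exact hle hv
    intro a ha
    rw [Subgroup.mem_normalizer_iff]
    refine fun v => ⟨key a ha v, fun h => ?_⟩
    have h2 := key a⁻¹ (inv_mem ha) _ h
    rwa [show a⁻¹ * (a * v * a⁻¹) * a⁻¹⁻¹ = v by group] at h2
  have hg : g ∈ ((D.negUnipotent F ⊔ D.diagonalSubgroup F : Subgroup _) : Set (GL D.Idx F)) := hV
  rw [Subgroup.coe_mul_of_right_le_normalizer_left _ _ hnorm] at hg
  obtain ⟨v, hv, a, ha, rfl⟩ := Set.mem_mul.1 hg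
  have hB' : v * a ∈ D.borelSubgroup F := hB
  have ha' : a ∈ D.borelSubgroup F := Subgroup.mem_sup_right ha
  have h1 : v = 1 := hBV v (by simpa using mul_mem hB' (inv_mem ha')) hv
  simpa [h1] using ha

end Cfsg.Agent.S1037
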