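import Cfsg.Statements.S1039
import Cfsg.Agent.Lib.Lie.BruhatAux
import Cfsg.Agent.Lib.Lie.CoxElement
-- import your own Cfsg.Agent.* helpers here

set_option autoImplicit false
open Cfsg

namespace Cfsg.Agent.S1039

/-- `N/H ≅ W`: there is a surjective homomorphism from `N` onto the Coxeter group of the type (Mathlib's Coxeter matrix G₂, B₂, F₄, E₆, E₇, E₈, nodes numbered as the fundamental roots) with kernel `H`, mapping each `n_{p_i}` to the `i`-th simple reflection. -/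
theorem result {F : Type*} [Field F]
    (p : Cfsg.Lie.ChevalleyDatum × (Σ n : ℕ, CoxeterMatrix (Fin n)))
    (hp : p ∈ [(Cfsg.Lie.chevG2, ⟨2, CoxeterMatrix.G₂⟩), (Cfsg.Lie.chevB2, ⟨2, CoxeterMatrix.B 2⟩), (Cfsg.Lie.chevD4, ⟨4, Cfsg.Lie.coxeterD4⟩), (Cfsg.Lie.chevF4, ⟨4, CoxeterMatrix.F₄⟩),
      (Cfsg.Lie.chevE6, ⟨6, CoxeterMatrix.E₆⟩), (Cfsg.Lie.chevE7, ⟨7, CoxeterMatrix.E₇⟩), (Cfsg.Lie.chevE8, ⟨8, CoxeterMatrix.E₈⟩)]) :
    ∃ φ : ↥(p.1.monomialSubgroup F) →* p.2.2.Group, Function.Surjective φ ∧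
      φ.ker = (p.1.diagonalSubgroup F).subgroupOf (p.1.monomialSubgroup F) ∧
      ∀ (i : Fin p.2.1) (g : ↥(p.1.monomialSubgroup F)),
        ((g : GL p.1.Idx F) : Matrix p.1.Idx p.1.Idx F) = p.1.nMat F (p.1.simple i) 1 → φ g = p.2.2.simple i := by
  have key : ∀ (D : Cfsg.Lie.ChevalleyDatum) (hF : Lie.Facts D) (n : ℕ) (M : CoxeterMatrix (Fin n))
      (hn : D.rank = n) (e : M.Group ≃* hF.weyl),
      (∀ i : Fin D.rank, e (M.simple (Fin.cast hn i)) = hF.wS i) →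
      ∃ φ : ↥(D.monomialSubgroup F) →* M.Group, Function.Surjective φ ∧
        φ.ker = (D.diagonalSubgroup F).subgroupOf (D.monomialSubgroup F) ∧
        ∀ (i : Fin n) (g : ↥(D.monomialSubgroup F)),
          ((g : GL D.Idx F) : Matrix D.Idx D.Idx F) = D.nMat F (D.simple i) 1 → φ g = M.simple i := by
    intro D hF n M hn e he
    subst hn
    refine ⟨e.symm.toMonoidHom.comp (hF.wHom F), e.symm.surjective.comp hF.wHom_surjective, ?_,
      fun i g hg => ?_⟩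
    · rw [← MonoidHom.comap_ker, ← hF.wHom_ker]
      ext g
      simp
    · show e.symm (hF.wHom F g) = _
      rw [hF.wHom_nS i g (hF.eq_tsys_nS i.isLt hg), ← he i]
      exact e.symm_apply_apply _
  simp only [List.mem_cons, List.not_mem_nil, or_false] at hp
  rcases hp with rfl | rfl | rfl | rfl | rfl | rfl | rfl
  · exact key _ Lie.factsG2 _ CoxeterMatrix.G₂ rfl Lie.weylEquivG2 fun i => Lie.RefSystem.toW_simple _ _ _ i
  · exact key _ Lie.factsB2 _ (CoxeterMatrix.B 2) rfl Lie.weylEquivB2 fun i => Lie.RefSystem.toW_simple _ _ _ i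
  · exact key _ Lie.factsD4 _ Cfsg.Lie.coxeterD4 rfl Lie.weylEquivD4 fun i => Lie.RefSystem.toW_simple _ _ _ i
  · exact key _ Lie.factsF4 _ CoxeterMatrix.F₄ rfl Lie.weylEquivF4 fun i => Lie.RefSystem.toW_simple _ _ _ i
  · exact key _ Lie.factsE6 _ CoxeterMatrix.E₆ rfl Lie.weylEquivE6 fun i => Lie.RefSystem.toW_simple _ _ _ i
  · exact key _ Lie.factsE7 _ CoxeterMatrix.E₇ rfl Lie.weylEquivE7 fun i => Lie.RefSystem.toW_simple _ _ _ i
  · exact key _ Lie.factsE8 _ CoxeterMatrix.E₈ rfl Lie.weylEquivE8 fun i => Lie.RefSystem.toW_simple _ _ _ i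

end Cfsg.Agent.S1039
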