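import Cfsg.Statements.S1041
import Cfsg.Agent.Lib.Lie.AllFacts
import Cfsg.Agent.Lib.Lie.Diagonal

set_option autoImplicit false
open Cfsg

namespace Cfsg.Agent.S1041

/-- `U` and `V` generate the whole Chevalley group. -/
theorem result {F : Type*} [Field F] (D : Cfsg.Lie.ChevalleyDatum) (hD : D ∈ [Cfsg.Lie.chevG2, Cfsg.Lie.chevB2, Cfsg.Lie.chevD4, Cfsg.Lie.chevF4, Cfsg.Lie.chevE6, Cfsg.Lie.chevE7, Cfsg.Lie.chevE8]) : D.posUnipotent F ⊔ D.negUnipotent F = D.group F := by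
  obtain ⟨hF⟩ := Lie.facts_of_mem hD
  apply le_antisymm
  · refine sup_le ((Subgroup.closure_le _).2 ?_) ((Subgroup.closure_le _).2 ?_)
    · rintro g ⟨r, t, -, hg⟩
      rw [hF.eq_xg.1 hg]
      exact hF.xg_mem_group r t
    · rintro g ⟨r, t, -, hg⟩
      rw [hF.eq_xg.1 hg]
      exact hF.xg_mem_group r t
  · rw [hF.group_eq]
    refine (Subgroup.closure_le _).2 ?_
    rintro g ⟨⟨r, t⟩, rfl⟩
    by_cases hr : r < D.nroots
    · by_cases hr' : D.nroots / 2 ≤ r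
      · exact Subgroup.mem_sup_left
          (Subgroup.subset_closure ⟨r, t, (hF.isPosRoot_iff r).2 ⟨hr', hr⟩, rfl⟩)
      · exact Subgroup.mem_sup_right
          (Subgroup.subset_closure ⟨r, t, (hF.isNegRoot_iff r).2 (not_le.1 hr'), rfl⟩)
    · simp only [hF.xg_out (not_lt.1 hr), SetLike.mem_coe, one_mem]

end Cfsg.Agent.S1041
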