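import Cfsg.Statements.S1044
import Cfsg.Agent.Lib.Lie.AllFacts
import Cfsg.Agent.Lib.Lie.BruhatPair
-- import your own Cfsg.Agent.* helpers here

set_option autoImplicit false
open Cfsg

namespace Cfsg.Agent.S1044

/-- For a fundamental root `p` the set `B ∪ B n_p B` is (the carrier of) a subgroup of the general linear group. -/
theorem result {F : Type*} [Field F] (D : Cfsg.Lie.ChevalleyDatum) (hD : D ∈ [Cfsg.Lie.chevG2, Cfsg.Lie.chevB2, Cfsg.Lie.chevD4, Cfsg.Lie.chevF4, Cfsg.Lie.chevE6, Cfsg.Lie.chevE7, Cfsg.Lie.chevE8]) (i : ℕ) (hi : i < D.rank) (n : GL D.Idx F)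
    (hn : (n : Matrix D.Idx D.Idx F) = D.nMat F (D.simple i) 1) :
    ∃ P : Subgroup (GL D.Idx F), (P : Set (GL D.Idx F)) =
      (D.borelSubgroup F : Set (GL D.Idx F)) ∪ DoubleCoset.doubleCoset n (D.borelSubgroup F : Set (GL D.Idx F)) (D.borelSubgroup F) := by
  obtain ⟨hF⟩ := Lie.facts_of_mem hD
  rw [hF.eq_tsys_nS hi hn, ← hF.tsys_B]
  generalize hi' : (⟨i, hi⟩ : Fin D.rank) = j
  obtain ⟨a, ha, haw⟩ := hF.nS_eq_nW (F := F) j
  have hBa := (hF.tsys F).H_le_B ha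
  have hnn : ∀ b ∈ (hF.tsys F).B, (hF.tsys F).nS j * b * (hF.tsys F).nS j ∈ (hF.tsys F).B ∨
      (hF.tsys F).nS j * b * (hF.tsys F).nS j ∈ DoubleCoset.doubleCoset ((hF.tsys F).nS j)
        ((hF.tsys F).B : Set (GL D.Idx F)) (hF.tsys F).B := by
    intro b hb
    obtain ⟨b₁, h1, b₂, h2, h⟩ := hF.nS_mul_N j hb ((hF.tsys F).nS_mem_N j)
    rcases h with h | h
    · left
      rw [h]
      exact mul_mem (mul_mem h1 ((hF.tsys F).H_le_B ((hF.tsys F).nS_sq_mem j))) h2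
    · right
      exact DoubleCoset.mem_doubleCoset.2 ⟨b₁, h1, b₂, h2, h⟩
  have hinv : ((hF.tsys F).nS j)⁻¹ ∈ DoubleCoset.doubleCoset ((hF.tsys F).nS j)
        ((hF.tsys F).B : Set (GL D.Idx F)) (hF.tsys F).B :=
    DoubleCoset.mem_doubleCoset.2 ⟨_, inv_mem ((hF.tsys F).H_le_B ((hF.tsys F).nS_sq_mem j)),
      1, one_mem _, by group⟩
  refine ⟨{
    carrier := ((hF.tsys F).B : Set (GL D.Idx F)) ∪ DoubleCoset.doubleCoset ((hF.tsys F).nS j)
        ((hF.tsys F).B : Set (GL D.Idx F)) (hF.tsys F).B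
    one_mem' := Or.inl (one_mem _)
    mul_mem' := ?_
    inv_mem' := ?_ }, rfl⟩
  · intro x y hx hy
    simp only [Set.mem_union, SetLike.mem_coe, DoubleCoset.mem_doubleCoset] at hx hy ⊢
    rcases hx with hx | ⟨b1, h1, b2, h2, rfl⟩
    · rcases hy with hy | ⟨b3, h3, b4, h4, rfl⟩
      · exact Or.inl (mul_mem hx hy)
      · exact Or.inr ⟨x * b3, mul_mem hx h3, b4, h4, by group⟩
    · rcases hy with hy | ⟨b3, h3, b4, h4, rfl⟩
      · exact Or.inr ⟨b1, h1, b2 * y, mul_mem h2 hy, by group⟩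
      · rcases hnn (b2 * b3) (mul_mem h2 h3) with h | h
        · left
          rw [show b1 * (hF.tsys F).nS j * b2 * (b3 * (hF.tsys F).nS j * b4) =
            b1 * ((hF.tsys F).nS j * (b2 * b3) * (hF.tsys F).nS j) * b4 by group]
          exact mul_mem (mul_mem h1 h) h4
        · obtain ⟨c, hc, d, hd, he⟩ := DoubleCoset.mem_doubleCoset.1 h
          refine Or.inr ⟨b1 * c, mul_mem h1 hc, d * b4, mul_mem hd h4, ?_⟩
          calc b1 * (hF.tsys F).nS j * b2 * (b3 * (hF.tsys F).nS j * b4)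
              = b1 * ((hF.tsys F).nS j * (b2 * b3) * (hF.tsys F).nS j) * b4 := by group
            _ = _ := by rw [he]; group
  · intro x hx
    simp only [Set.mem_union, SetLike.mem_coe, DoubleCoset.mem_doubleCoset] at hx ⊢
    rcases hx with hx | ⟨b1, h1, b2, h2, rfl⟩
    · exact Or.inl (inv_mem hx)
    · obtain ⟨c, hc, d, hd, he⟩ := DoubleCoset.mem_doubleCoset.1 hinv
      refine Or.inr ⟨b2⁻¹ * c, mul_mem (inv_mem h2) hc, d * b1⁻¹, mul_mem hd (inv_mem h1), ?_⟩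
      rw [mul_inv_rev, mul_inv_rev, he]
      group

end Cfsg.Agent.S1044
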