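import Cfsg.Statements.S1045
import Cfsg.Agent.Lib.Lie.AllFacts
import Cfsg.Agent.Lib.Lie.Bruhat
-- import your own Cfsg.Agent.* helpers here

set_option autoImplicit false
open Cfsg

namespace Cfsg.Agent.S1045

/-- For a fundamental root `p`, the subgroup `U_p` generated by the `X_s`, `s` positive and `s ≠ p`, is normalised by `X_p` and `X_{-p}`, and `U = U_p ⊔ X_p`. -/
theorem result {F : Type*} [Field F] (D : Cfsg.Lie.ChevalleyDatum) (hD : D ∈ [Cfsg.Lie.chevG2, Cfsg.Lie.chevB2, Cfsg.Lie.chevD4, Cfsg.Lie.chevF4, Cfsg.Lie.chevE6, Cfsg.Lie.chevE7, Cfsg.Lie.chevE8]) (i : ℕ) (hi : i < D.rank) :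
    D.rootSubgroup F (D.simple i) ⊔ D.rootSubgroup F (D.neg (D.simple i)) ≤
        Subgroup.normalizer (Subgroup.closure {g : GL D.Idx F | ∃ (s : ℕ) (t : F), D.IsPosRoot s ∧ s ≠ D.simple i ∧
          (g : Matrix D.Idx D.Idx F) = D.x F s t} : Set (GL D.Idx F)) ∧
      Subgroup.closure {g : GL D.Idx F | ∃ (s : ℕ) (t : F), D.IsPosRoot s ∧ s ≠ D.simple i ∧
          (g : Matrix D.Idx D.Idx F) = D.x F s t} ⊔ D.rootSubgroup F (D.simple i) = D.posUnipotent F := by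
  obtain ⟨hF⟩ := Lie.facts_of_mem hD
  have hset : Subgroup.closure {g : GL D.Idx F | ∃ (s : ℕ) (t : F), D.IsPosRoot s ∧ s ≠ D.simple i ∧
      (g : Matrix D.Idx D.Idx F) = D.x F s t} = (hF.tsys F).US (Lie.TorusSys.posNe D ⟨i, hi⟩) := by
    unfold Lie.CommSys.US
    congr 1
    ext g
    simp only [Set.mem_ofPred_eq, hF.isPosRoot_iff, hF.eq_xg, Lie.TorusSys.mem_posNe]
    constructor
    · rintro ⟨s, t, ⟨h1, h2⟩, h3, rfl⟩; exact ⟨s, ⟨h1, h2, h3⟩, t, rfl⟩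
    · rintro ⟨s, ⟨h1, h2, h3⟩, t, rfl⟩; exact ⟨s, t, ⟨h1, h2⟩, h3, rfl⟩
  rw [hset, ← hF.tsys_U]
  have hα := hF.simple_lt i hi
  have hpos : ∀ t, hF.xg (D.simple i) t ∈
      Subgroup.normalizer ((hF.tsys F).US (Lie.TorusSys.posNe D ⟨i, hi⟩) : Set (GL D.Idx F)) :=
    fun t => (hF.tsys F).simple_normalizes_posNe ⟨i, hi⟩ t
  refine ⟨sup_le ((Subgroup.closure_le _).2 ?_) ((Subgroup.closure_le _).2 ?_), le_antisymm ?_ ?_⟩
  · rintro g ⟨t, hg⟩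
    rw [hF.eq_xg.1 hg]
    exact hpos t
  · rintro g ⟨t, hg⟩
    rw [hF.eq_xg.1 hg]
    have h := (hF.tsys F).nS_conj ⟨i, hi⟩ hα (hF.sgn F i (D.simple i) * t)
    rw [← mul_assoc, hF.sgn_mul_self hi hα, one_mul, Lie.Facts.refl_simple, hF.tsys_x, hF.tsys_x] at h
    rw [SetLike.mem_coe, ← h]
    have hn : (hF.tsys F).nS ⟨i, hi⟩ ∈
        Subgroup.normalizer ((hF.tsys F).US (Lie.TorusSys.posNe D ⟨i, hi⟩) : Set (GL D.Idx F)) := by
      rw [Subgroup.mem_normalizer_iff]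
      refine fun v => ⟨fun hv => ((hF.tsys F).nS_conj_posNe ⟨i, hi⟩ hv).1, fun hv => ?_⟩
      have := ((hF.tsys F).nS_conj_posNe ⟨i, hi⟩ hv).2
      simpa [mul_assoc] using this
    exact mul_mem (mul_mem hn (hpos _)) (inv_mem hn)
  · refine sup_le ((hF.tsys F).US_posNe_le_U _) ((Subgroup.closure_le _).2 ?_)
    rintro g ⟨t, hg⟩
    rw [hF.eq_xg.1 hg]
    exact (hF.tsys F).x_mem_U (hF.simple_ge i hi) hα t
  · intro u hu
    obtain ⟨v, hv, t, rfl⟩ := (hF.tsys F).U_split ⟨i, hi⟩ hu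
    exact mul_mem (Subgroup.mem_sup_left hv)
      (Subgroup.mem_sup_right (Subgroup.subset_closure ⟨t, rfl⟩))

end Cfsg.Agent.S1045
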