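import Cfsg.Statements.S1051
import Cfsg.Agent.Lib.Lie.AllFacts
import Cfsg.Agent.Lib.Lie.BruhatPair
-- import your own Cfsg.Agent.* helpers here

set_option autoImplicit false
open Cfsg

namespace Cfsg.Agent.S1051

/-- `⋂_g g B g⁻¹ = 1`: the normal core of `B` in the Chevalley group is trivial. -/
theorem result {F : Type*} [Field F] (D : Cfsg.Lie.ChevalleyDatum) (hD : D ∈ [Cfsg.Lie.chevG2, Cfsg.Lie.chevB2, Cfsg.Lie.chevD4, Cfsg.Lie.chevF4, Cfsg.Lie.chevE6, Cfsg.Lie.chevE7, Cfsg.Lie.chevE8]) : ((D.borelSubgroup F).subgroupOf (D.group F)).normalCore = ⊥ := by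
  obtain ⟨hF⟩ := Lie.facts_of_mem hD
  rw [Subgroup.eq_bot_iff_forall]
  intro g hg
  set C := ((D.borelSubgroup F).subgroupOf (D.group F)).normalCore with hC
  have hle : ∀ y ∈ C, (y : GL D.Idx F) ∈ (hF.tsys F).H := by
    intro y hy
    obtain ⟨w, hw⟩ := hF.exists_longest
    set n := (hF.tsys F).nW w with hn
    have hnG : n ∈ D.group F :=
      hF.monomial_le_group (by rw [← hF.tsys_N]; exact (hF.tsys F).nW_mem_N w)
    have hyB : (y : GL D.Idx F) ∈ (hF.tsys F).B := by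
      rw [hF.tsys_B]; exact Subgroup.mem_subgroupOf.1 (Subgroup.normalCore_le ((D.borelSubgroup F).subgroupOf (D.group F)) hy)
    have h1 := Subgroup.normalCore_le ((D.borelSubgroup F).subgroupOf (D.group F))
      ((Subgroup.normalCore_normal _).conj_mem y hy (⟨n, hnG⟩ : D.group F)⁻¹)
    have h2 : n⁻¹ * (y : GL D.Idx F) * n ∈ (hF.tsys F).B := by
      rw [hF.tsys_B]; simpa [Subgroup.mem_subgroupOf] using h1
    obtain ⟨u, hu, a, ha, he⟩ := (hF.tsys F).mem_B.1 h2
    have hk : n * a * n⁻¹ ∈ (hF.tsys F).H := (hF.tsys F).nW_H ha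
    have hv : n * u * n⁻¹ ∈ D.negUnipotent F := by
      rw [← hF.conj_longest hw, ← hF.tsys_U]
      exact ⟨u, hu, rfl⟩
    have he' : (y : GL D.Idx F) = n * u * n⁻¹ * (n * a * n⁻¹) := by
      rw [show n * u * n⁻¹ * (n * a * n⁻¹) = n * (u * a) * n⁻¹ by group, ← he]; group
    have h1' : n * u * n⁻¹ = 1 := by
      refine hF.B_inter_V ?_ hv
      rw [show n * u * n⁻¹ = (y : GL D.Idx F) * (n * a * n⁻¹)⁻¹ by rw [he']; group]
      exact mul_mem hyB (inv_mem ((hF.tsys F).H_le_B hk))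
    rw [he', h1', one_mul]
    exact hk
  have hgH := hle g hg
  obtain ⟨c, hc⟩ : (g : GL D.Idx F) ∈ (Lie.torus D F).range := by
    rw [← hF.diagonalSubgroup_eq F, ← hF.tsys_H]; exact hgH
  have hchar : ∀ r, r < D.nroots → (Lie.torChar D c r : F) = 1 := by
    intro r hr
    set x : D.group F := ⟨hF.xg r 1, hF.xg_mem_group r 1⟩ with hx
    have hmem : x * g * x⁻¹ * g⁻¹ ∈ C :=
      mul_mem ((Subgroup.normalCore_normal _).conj_mem g hg x) (inv_mem hg)
    have h3 := hle _ hmem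
    have h4 : ((x * g * x⁻¹ * g⁻¹ : D.group F) : GL D.Idx F) =
        hF.xg r (1 + (Lie.torChar D c r : F) * -1) := by
      rw [hF.xg_add, ← hF.torus_conj c hr (-1), hc, hF.xg_neg]
      simp [hx, mul_assoc]
    rw [h4] at h3
    have h5 : hF.xg r (1 + (Lie.torChar D c r : F) * -1) = 1 := by
      by_cases hp : D.nroots / 2 ≤ r
      · exact hF.U_inter_H ((hF.tsys F).x_mem_U hp hr _) h3
      · exact hF.B_inter_V ((hF.tsys F).H_le_B h3) (hF.x_mem_negUnipotent (not_le.1 hp) _)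
    have h6 := congrArg Units.val h5
    rw [Lie.Facts.coe_xg, Units.val_one, hF.x_eq_one r hr, mul_neg, mul_one] at h6
    exact (add_neg_eq_zero.1 h6).symm
  refine Subtype.ext (Units.ext ?_)
  rw [← hc, Lie.coe_torus, Lie.Facts.diagM_congr (χ' := fun _ => (1 : F)) fun s hs => hchar s hs,
    Lie.Facts.diagM_one, Subgroup.coe_one, Units.val_one]

end Cfsg.Agent.S1051
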