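import Cfsg.Statements.S1058
import Mathlib
import Cfsg.Agent.S1060
import Cfsg.Agent.Lib.Lie.WordEval
import Cfsg.Agent.Lib.Lie.SymCoxeter
import Cfsg.Agent.S2530
-- import your own Cfsg.Agent.* helpers here

set_option autoImplicit false
open Cfsg

namespace Cfsg.Agent.S1058

/-- B₂(2) ≅ S₆. -/
theorem result {F : Type*} [Field F] [Fintype F] (hF : Fintype.card F = 2) :
    Nonempty (↥(Cfsg.Lie.chevB2.group F) ≃* Equiv.Perm (Fin 6)) := by
  classical
  have hq : Nat.card F = 2 := by rw [Nat.card_eq_fintype_card, hF]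
  have h2 : ((2 : ℕ) : F) = 0 := by rw [← hF]; exact Nat.cast_card_eq_zero F
  have hcard : Nat.card (Cfsg.Lie.chevB2.group F) = 720 := by
    have h := Cfsg.Agent.Lie.factsB2.card_group (F := F) hF Cfsg.Agent.Lie.kerCertB2 [2, 4] rfl
      Cfsg.Agent.Lie.lenSumB2
    norm_num [Cfsg.Lie.chevB2] at h ⊢
    exact h
  set hB := Cfsg.Agent.Lie.factsB2
  let lw : List (ℕ × ℤ) → Cfsg.Lie.chevB2.group F := fun w =>
    ⟨hB.wg (w.map fun p => (p.1, (p.2 : F))), hB.wg_mem_group _⟩
  let W : List (List (ℕ × ℤ)) := [[(0, 1)], [(7, 1)], [(0, 1), (1, 1), (3, 1)], [(4, 1)], [(3, 1)]]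
  let s : ℕ → Cfsg.Lie.chevB2.group F := fun k => lw (W.getD k [])
  have happ : ∀ u v : List (ℕ × ℤ), lw u * lw v = lw (u ++ v) := fun u v => Subtype.ext (by
    simp only [lw, List.map_append, Subgroup.coe_mul, hB.wg_append])
  have hnil : lw [] = 1 := Subtype.ext hB.wg_nil
  have heq : ∀ u v : List (ℕ × ℤ), Cfsg.Agent.Lie.okWordEq Cfsg.Lie.chevB2 2 u v = true →
      lw u = lw v := fun u v h => Subtype.ext (hB.wg_eq_of_okWordEq (F := F) h2 h)
  have e1 : ∀ i < 5, Cfsg.Agent.Lie.okWordEq Cfsg.Lie.chevB2 2 (W.getD i [] ++ W.getD i []) [] = true := by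
    decide +kernel
  have e2 : ∀ i < 4, Cfsg.Agent.Lie.okWordEq Cfsg.Lie.chevB2 2
      (W.getD i [] ++ W.getD (i + 1) [] ++ W.getD i [])
      (W.getD (i + 1) [] ++ W.getD i [] ++ W.getD (i + 1) []) = true := by decide +kernel
  have e3 : ∀ i < 5, ∀ j < 5, i + 1 < j → Cfsg.Agent.Lie.okWordEq Cfsg.Lie.chevB2 2
      (W.getD i [] ++ W.getD j []) (W.getD j [] ++ W.getD i []) = true := by decide +kernel
  have hrel : Cfsg.Agent.Lie.SymRels s 5 := by
    refine ⟨fun i hi => ?_, fun i hi => ?_, fun i j hij hj => ?_⟩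
    · simp only [s, happ]; rw [← hnil]; exact heq _ _ (e1 i hi)
    · simp only [s, happ]; exact heq _ _ (e2 i (by omega))
    · simp only [s, happ]; exact heq _ _ (e3 i (by omega) j hj hij)
  let R : List (List ℕ) := [[0], [0, 2, 4], [0, 2, 3, 2, 4, 3, 2], [4], [3], [0, 1, 0, 2, 1, 0, 4],
    [0, 1, 0, 2, 3, 2, 4, 3, 2, 1, 0], [1]]
  have e4 : ∀ r < 8, Cfsg.Agent.Lie.okWordEq Cfsg.Lie.chevB2 2 [(r, 1)]
      ((R.getD r []).flatMap fun k => W.getD k []) = true := by decide +kernel
  have hgen : Subgroup.closure (s '' {i | i < 5}) = ⊤ := by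
    set L := Subgroup.closure (s '' {i | i < 5})
    have hflat : ∀ l : List ℕ, (∀ k ∈ l, k < 5) → lw (l.flatMap fun k => W.getD k []) ∈ L := by
      intro l hl
      induction l with
      | nil => rw [List.flatMap_nil, hnil]; exact one_mem _
      | cons k l ih =>
        rw [List.flatMap_cons, ← happ]
        exact mul_mem (Subgroup.subset_closure ⟨k, hl k (List.mem_cons_self ..), rfl⟩)
          (ih fun x hx => hl x (List.mem_cons_of_mem _ hx))
    have hR : ∀ r < 8, ∀ k ∈ R.getD r [], k < 5 := by decide +kernel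
    have hx : ∀ (r : ℕ) (t : F), (⟨hB.xg r t, hB.xg_mem_group r t⟩ : Cfsg.Lie.chevB2.group F) ∈ L := by
      intro r t
      by_cases hr : r < 8
      · have ht : t = 0 ∨ t = 1 := by
          by_contra hne
          push Not at hne
          have h3 : ({0, 1, t} : Finset F).card ≤ Fintype.card F := Finset.card_le_univ _
          rw [hF, Finset.card_insert_of_notMem (by simp [Ne.symm hne.1]),
            Finset.card_insert_of_notMem (by simp [Ne.symm hne.2]), Finset.card_singleton] at h3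
          omega
        rcases ht with rfl | rfl
        · convert one_mem L
          exact hB.xg_zero r
        · have hw : lw [(r, 1)] = ⟨hB.xg r 1, hB.xg_mem_group r 1⟩ := Subtype.ext (by
            simp [lw, Cfsg.Agent.Lie.Facts.wg])
          rw [← hw, heq _ _ (e4 r hr)]
          exact hflat _ (hR r hr)
      · convert one_mem L
        exact hB.xg_out (show Cfsg.Lie.chevB2.nroots ≤ r from Nat.le_of_not_lt hr) t
    refine eq_top_iff.2 fun g _ => ?_
    have hle : Cfsg.Lie.chevB2.group F ≤ L.map (Subgroup.subtype _) := by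
      refine (le_of_eq hB.group_eq).trans ((Subgroup.closure_le _).2 ?_)
      rintro _ ⟨⟨r, t⟩, rfl⟩
      exact ⟨_, hx r t, rfl⟩
    obtain ⟨g', hg', e⟩ := hle g.2
    rwa [show g' = g from Subtype.ext e] at hg'
  obtain ⟨cs, -⟩ := Cfsg.Agent.S2530.result 5
  let v : Fin 5 → Cfsg.Lie.chevB2.group F := fun i => s i
  have hv : (CoxeterMatrix.A 5).IsLiftable v := by
    intro i j
    show (v i * v j) ^ (CoxeterMatrix.A 5).M i j = 1
    simp only [CoxeterMatrix.A, Matrix.of_apply]
    have sq : ∀ k : Fin 5, s k * s k = 1 := fun k => hrel.sq k k.2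
    have three : ∀ a b : ℕ, a + 1 = b → b < 5 → (s a * s b) ^ 3 = 1 ∧ (s b * s a) ^ 3 = 1 := by
      intro a b hab hb
      subst hab
      have hbr := hrel.braid a hb
      have h1 : (s a * s (a + 1)) ^ 3 = (s a * s (a + 1) * s a) * (s (a + 1) * s a * s (a + 1)) := by
        simp [pow_succ, mul_assoc]
      have h2 : (s (a + 1) * s a) ^ 3 = (s (a + 1) * s a * s (a + 1)) * (s a * s (a + 1) * s a) := by
        simp [pow_succ, mul_assoc]
      have hc : (s a * s (a + 1) * s a) * (s a * s (a + 1) * s a) = 1 := by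
        simp only [mul_assoc]
        rw [← mul_assoc (s a) (s a), hrel.sq a (by omega), one_mul, ← mul_assoc (s (a + 1)),
          hrel.sq _ hb, one_mul, hrel.sq a (by omega)]
      rw [h1, h2, ← hbr]
      exact ⟨hc, hc⟩
    split_ifs with h1 h2
    · subst h1; rw [pow_one]; exact sq i
    · rcases h2 with h2 | h2
      · exact (three j i h2 i.2).2
      · exact (three i j h2 j.2).1
    · have h1' : (i : ℕ) ≠ j := fun e => h1 (Fin.ext e)
      have hc : s i * s j = s j * s i := by
        rcases Nat.lt_or_gt_of_ne h1' with h | h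
        · exact hrel.comm i j (by omega) j.2
        · exact (hrel.comm j i (by omega) i.2).symm
      show (s i * s j) ^ 2 = 1
      rw [(show Commute (s i) (s j) from hc).mul_pow, pow_two, pow_two, sq, sq, one_mul]
  let φ : Equiv.Perm (Fin 6) →* Cfsg.Lie.chevB2.group F := cs.lift ⟨v, hv⟩
  have hsur : Function.Surjective φ := by
    rw [← MonoidHom.range_eq_top, eq_top_iff, ← hgen, Subgroup.closure_le]
    rintro _ ⟨i, hi, rfl⟩
    exact ⟨cs.simple ⟨i, hi⟩, cs.lift_apply_simple (f := v) hv ⟨i, hi⟩⟩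
  have hbij : Function.Bijective φ := (Nat.bijective_iff_surjective_and_card φ).2
    ⟨hsur, by rw [hcard, Nat.card_perm, Nat.card_fin]; rfl⟩
  exact ⟨(MulEquiv.ofBijective φ hbij).symm⟩

end Cfsg.Agent.S1058
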