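import Cfsg.Statements.S1076
import Cfsg.Agent.Lib.Lie.AllFacts
import Cfsg.Agent.Lib.Lie.Diagonal

set_option autoImplicit false
open Cfsg

namespace Cfsg.Agent.S1076

/-- `h_r(t₁) h_r(t₂) = h_r(t₁ t₂)` for non-zero `t₁, t₂` (the third family of defining relations), as a matrix identity. -/
theorem result {F : Type*} [Field F] (D : Cfsg.Lie.ChevalleyDatum) (hD : D ∈ [Cfsg.Lie.chevG2, Cfsg.Lie.chevB2, Cfsg.Lie.chevD4, Cfsg.Lie.chevF4, Cfsg.Lie.chevE6, Cfsg.Lie.chevE7, Cfsg.Lie.chevE8]) (r : ℕ) (hr : r < D.nroots) (t₁ t₂ : F) (h₁ : t₁ ≠ 0) (h₂ : t₂ ≠ 0) :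
    D.hMat F r t₁ * D.hMat F r t₂ = D.hMat F r (t₁ * t₂) := by
  obtain ⟨hF⟩ := Lie.facts_of_mem hD
  have h := fun u : Fˣ => hF.hg_eq_torus hr u
  have h12 : hF.hg r t₁ * hF.hg r t₂ = hF.hg r (t₁ * t₂) := by
    rw [show hF.hg r t₁ = Lie.torus D F (Lie.Facts.hCoord D r (Units.mk0 t₁ h₁)) from h (Units.mk0 t₁ h₁),
      show hF.hg r t₂ = Lie.torus D F (Lie.Facts.hCoord D r (Units.mk0 t₂ h₂)) from h (Units.mk0 t₂ h₂),
      show hF.hg r (t₁ * t₂) = Lie.torus D F (Lie.Facts.hCoord D r (Units.mk0 t₁ h₁ * Units.mk0 t₂ h₂))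
        from h (Units.mk0 t₁ h₁ * Units.mk0 t₂ h₂), ← map_mul]
    congr 1
    funext j
    simp [Lie.Facts.hCoord, mul_zpow]
  have := congrArg Units.val h12
  simpa [Lie.Facts.coe_hg] using this

end Cfsg.Agent.S1076
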