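import Cfsg.Statements.S1077
import Cfsg.Agent.Lib.Lie.Steinberg
-- import your own Cfsg.Agent.* helpers here

set_option autoImplicit false
open Cfsg

namespace Cfsg.Agent.S1077

/-- Steinberg's Theorem: there is a homomorphism `x̄_r(t) ↦ x_r(t)` from the presented group onto the Chevalley group whose kernel is precisely the centre; hence `L(K) ≅ Ḡ/Z(Ḡ)`. -/
theorem result {K : Type*} [Field K] (D : Cfsg.Lie.ChevalleyDatum) (hD : D ∈ [Cfsg.Lie.chevG2, Cfsg.Lie.chevB2, Cfsg.Lie.chevD4, Cfsg.Lie.chevF4, Cfsg.Lie.chevE6, Cfsg.Lie.chevE7, Cfsg.Lie.chevE8]) :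
    ∃ θ : D.SteinbergGroup K →* ↥(D.group K), Function.Surjective θ ∧ θ.ker = Subgroup.center (D.SteinbergGroup K) ∧
      ∀ (r : ℕ) (t : K), r < D.nroots → ((θ (D.stGen K r t) : GL D.Idx K) : Matrix D.Idx D.Idx K) = D.x K r t := by
  obtain ⟨hF⟩ := Lie.facts_of_mem hD
  have hH := Lie.stHyp_of_mem hD
  have hrange : (hF.proj K).range = D.group K := by
    rw [MonoidHom.range_eq_map, ← hF.stT_G hH, Lie.TorusSys.G, MonoidHom.map_closure, hF.group_eq]
    congr 1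
    ext x
    constructor
    · rintro ⟨_, ⟨r, t, rfl⟩, rfl⟩; exact ⟨(r, t), (hF.proj_x r t).symm⟩
    · rintro ⟨⟨r, t⟩, rfl⟩; exact ⟨_, ⟨r, t, rfl⟩, hF.proj_x r t⟩
  refine ⟨(hF.proj K).codRestrict (D.group K) (fun g => hrange ▸ ⟨g, rfl⟩), ?_, ?_, ?_⟩
  · rintro ⟨y, hy⟩
    rw [← hrange] at hy
    obtain ⟨g, rfl⟩ := hy
    exact ⟨g, rfl⟩
  · rw [← hF.ker_eq_center hH hH.2.2]
    exact MonoidHom.ker_codRestrict _ _ _
  · intro r t _
    show (hF.proj K (D.stGen K r t) : Matrix D.Idx D.Idx K) = _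
    rw [hF.proj_x]; rfl

end Cfsg.Agent.S1077
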