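import Cfsg.Statements.S1080
import Cfsg.Agent.Lib.Lie.AllFacts
import Cfsg.Agent.Lib.Lie.Group

set_option autoImplicit false
open Cfsg

namespace Cfsg.Agent.S1080

/-- Field automorphisms: for every field automorphism `f` there is a group automorphism sending each `x_r(t)` to `x_r(f t)`. -/
theorem result {F : Type*} [Field F] (D : Cfsg.Lie.ChevalleyDatum) (hD : D ∈ [Cfsg.Lie.chevG2, Cfsg.Lie.chevB2, Cfsg.Lie.chevD4, Cfsg.Lie.chevF4, Cfsg.Lie.chevE6, Cfsg.Lie.chevE7, Cfsg.Lie.chevE8]) (f : F ≃+* F) :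
    ∃ α : ↥(D.group F) ≃* ↥(D.group F), ∀ (g : ↥(D.group F)) (r : ℕ) (t : F), r < D.nroots →
      ((g : GL D.Idx F) : Matrix D.Idx D.Idx F) = D.x F r t → ((α g : GL D.Idx F) : Matrix D.Idx D.Idx F) = D.x F r (f t) := by
  obtain ⟨hF⟩ := Lie.facts_of_mem hD
  let φ : GL D.Idx F ≃* GL D.Idx F :=
    { Matrix.GeneralLinearGroup.map f.toRingHom with
      invFun := Matrix.GeneralLinearGroup.map f.symm.toRingHom
      left_inv := fun g => by ext p q; simp
      right_inv := fun g => by ext p q; simp }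
  have hφ : ∀ (r : ℕ) (t : F), φ (hF.xg r t) = hF.xg r (f t) := fun r t =>
    Units.ext (Lie.x_map f.toRingHom r t)
  have hmap : (D.group F).map (φ : GL D.Idx F →* GL D.Idx F) = D.group F := by
    rw [hF.group_eq, MonoidHom.map_closure, ← Set.range_comp]
    congr 1
    ext g
    constructor
    · rintro ⟨⟨r, t⟩, rfl⟩; exact ⟨(r, f t), (hφ r t).symm⟩
    · rintro ⟨⟨r, t⟩, rfl⟩
      exact ⟨(r, f.symm t), (hφ r (f.symm t)).trans (by rw [f.apply_symm_apply])⟩
  refine ⟨(φ.subgroupMap (D.group F)).trans (MulEquiv.subgroupCongr hmap), fun g r t _ hg => ?_⟩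
  show ((φ (g : GL D.Idx F) : GL D.Idx F) : Matrix D.Idx D.Idx F) = _
  rw [hF.eq_xg.1 hg, hφ, hF.coe_xg]

end Cfsg.Agent.S1080
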