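import Cfsg.Statements.S1081
import Cfsg.Agent.Lib.Lie.GraphTables
-- import your own Cfsg.Agent.* helpers here

set_option autoImplicit false
open Cfsg

namespace Cfsg.Agent.S1081

/-- Graph automorphisms: for E₆ with ρ = (p₁ p₆)(p₃ p₅) and for D₄ with ρ the 3-cycle on the outer nodes there is a group automorphism sending `x_p(t) ↦ x_{ρ(p)}(t)` and `x_{-p}(t) ↦ x_{-ρ(p)}(t)` for every fundamental root `p`. -/
theorem result {F : Type*} [Field F] (p : Cfsg.Lie.ChevalleyDatum × List ℕ)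
    (hp : p ∈ [(Cfsg.Lie.chevE6, [5, 1, 4, 3, 2, 0]), (Cfsg.Lie.chevD4, [2, 1, 3, 0]), (Cfsg.Lie.chevD4, [3, 1, 0, 2])]) :
    ∃ α : ↥(p.1.group F) ≃* ↥(p.1.group F), ∀ (g : ↥(p.1.group F)) (i : ℕ) (t : F), i < p.1.rank →
      (((g : GL p.1.Idx F) : Matrix p.1.Idx p.1.Idx F) = p.1.x F (p.1.simple i) t →
        ((α g : GL p.1.Idx F) : Matrix p.1.Idx p.1.Idx F) = p.1.x F (p.1.simple (p.2.getD i 0)) t) ∧
      (((g : GL p.1.Idx F) : Matrix p.1.Idx p.1.Idx F) = p.1.x F (p.1.neg (p.1.simple i)) t →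
        ((α g : GL p.1.Idx F) : Matrix p.1.Idx p.1.Idx F) = p.1.x F (p.1.neg (p.1.simple (p.2.getD i 0))) t) := by
  have aux : ∀ (D : Cfsg.Lie.ChevalleyDatum) (σ : List ℕ) (R : Cfsg.Agent.Lie.RMap) (N : ℕ),
      D ∈ [Cfsg.Lie.chevG2, Cfsg.Lie.chevB2, Cfsg.Lie.chevD4, Cfsg.Lie.chevF4, Cfsg.Lie.chevE6, Cfsg.Lie.chevE7, Cfsg.Lie.chevE8] →
      R.okMap D 0 = true → R.okOrder D 0 N 1 = true → R.okNodes D σ = true →
      ∃ α : ↥(D.group F) ≃* ↥(D.group F), ∀ (g : ↥(D.group F)) (i : ℕ) (t : F), i < D.rank →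
      (((g : GL D.Idx F) : Matrix D.Idx D.Idx F) = D.x F (D.simple i) t →
        ((α g : GL D.Idx F) : Matrix D.Idx D.Idx F) = D.x F (D.simple (σ.getD i 0)) t) ∧
      (((g : GL D.Idx F) : Matrix D.Idx D.Idx F) = D.x F (D.neg (D.simple i)) t →
        ((α g : GL D.Idx F) : Matrix D.Idx D.Idx F) = D.x F (D.neg (D.simple (σ.getD i 0))) t) := by
    intro D σ R N hD h1 h2 h3
    obtain ⟨hF⟩ := Lie.facts_of_mem hD
    obtain ⟨α, hα⟩ := hF.rootMap_aut (Lie.modField_zero F) h1 (Lie.stHyp_of_mem hD) h2 (RingHom.id F)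
      (fun t => (pow_one t).symm)
    refine ⟨α, fun g i t hi => ?_⟩
    obtain ⟨e1, e2, e3, e4⟩ := R.okNodes_spec h3 hi
    have hs := hF.simple_lt i hi
    have ex : ∀ r, r < D.nroots → R.expo r = 1 := by
      intro r hr
      rcases (Lie.Facts.okMap_root h1 hr).2.2.2.2.2 with e | ⟨-, e⟩
      · exact e
      · exact absurd rfl e
    refine ⟨fun hg => ?_, fun hg => ?_⟩
    · rw [hα g _ t hs hg, e1, e3, ex _ hs, Int.cast_one, one_mul, pow_one]
    · rw [hα g _ t (hF.neg_lt hs) hg, e2, e4, ex _ (hF.neg_lt hs), Int.cast_one, one_mul, pow_one]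
  simp only [List.mem_cons, List.not_mem_nil, or_false] at hp
  rcases hp with rfl | rfl | rfl
  · exact aux _ _ _ _ (by simp) Lie.okMap_E6 Lie.okOrder_E6 Lie.okNodes_E6
  · exact aux _ _ _ _ (by simp) Lie.okMap_D4a Lie.okOrder_D4a Lie.okNodes_D4a
  · exact aux _ _ _ _ (by simp) Lie.okMap_D4b Lie.okOrder_D4b Lie.okNodes_D4b

end Cfsg.Agent.S1081
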