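import Cfsg.Statements.S1086
import Cfsg.Agent.Lib.Lie.TwistE6
-- import your own Cfsg.Agent.* helpers here

set_option autoImplicit false
open Cfsg

namespace Cfsg.Agent.S1086

/-- |U¹| = |G¹ ∩ U| = q ^ 36 for ²E₆(q). -/
theorem result {K : Type*} [Field K] [Fintype K] {q : ℕ} (hq : IsPrimePow q) (hK : Fintype.card K = q ^ 2) :
    Nat.card ↥(Cfsg.Lie.chevE6.posUnipotent K ⊓ Cfsg.Lie.twistedE6 K q) = q ^ 36 := by
  obtain ⟨S⟩ := Cfsg.Agent.Lie.E6.nonempty_setup hq hK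
  have h := S.data.card_U
  change Nat.card ↥(Cfsg.Lie.chevE6.posUnipotent K ⊓ Cfsg.Lie.twistedE6 K q) ^ 1 = q ^ (Cfsg.Lie.chevE6.nroots / 2) at h
  rw [pow_one, show Cfsg.Lie.chevE6.nroots / 2 = 36 from rfl] at h
  exact h

end Cfsg.Agent.S1086
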