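import Cfsg.Statements.S1094
import Cfsg.Agent.Lib.Lie.CoxElement

set_option autoImplicit false
open Cfsg

namespace Cfsg.Agent.S1094

/-- The Coxeter element `s₁ s₂ ⋯ s_l` of the Coxeter group of type B₂, G₂, D₄, F₄, E₆, E₇, E₈ has order `h = 2N/l` = 4, 6, 6, 12, 12, 18, 30. -/
theorem result (p : (Σ n : ℕ, CoxeterMatrix (Fin n)) × ℕ)
    (hp : p ∈ [(⟨2, CoxeterMatrix.B 2⟩, 4), (⟨2, CoxeterMatrix.G₂⟩, 6), (⟨4, Cfsg.Lie.coxeterD4⟩, 6), (⟨4, CoxeterMatrix.F₄⟩, 12),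
      (⟨6, CoxeterMatrix.E₆⟩, 12), (⟨7, CoxeterMatrix.E₇⟩, 18), (⟨8, CoxeterMatrix.E₈⟩, 30)]) :
    orderOf ((List.finRange p.1.1).map p.1.2.simple).prod = p.2 := by
  simp only [List.mem_cons, List.not_mem_nil, or_false] at hp
  rcases hp with rfl | rfl | rfl | rfl | rfl | rfl | rfl
  · exact Lie.orderOf_coxeter Lie.factsB2 Lie.okCorootB2 Lie.okColsB2 Lie.okCoxB2 _ Lie.coxeterB2.1 Lie.coxeterB2.2
  · exact Lie.orderOf_coxeter Lie.factsG2 Lie.okCorootG2 Lie.okColsG2 Lie.okCoxG2 _ Lie.coxeterG2.1 Lie.coxeterG2.2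
  · exact Lie.orderOf_coxeter Lie.factsD4 Lie.okCorootD4 Lie.okColsD4 Lie.okCoxD4 _ Lie.coxeterD4.1 Lie.coxeterD4.2
  · exact Lie.orderOf_coxeter Lie.factsF4 Lie.okCorootF4 Lie.okColsF4 Lie.okCoxF4 _ Lie.coxeterF4.1 Lie.coxeterF4.2
  · exact Lie.orderOf_coxeter Lie.factsE6 Lie.okCorootE6 Lie.okColsE6 Lie.okCoxE6 _ Lie.coxeterE6.1 Lie.coxeterE6.2
  · exact Lie.orderOf_coxeter Lie.factsE7 Lie.okCorootE7 Lie.okColsE7 Lie.okCoxE7 _ Lie.coxeterE7.1 Lie.coxeterE7.2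
  · exact Lie.orderOf_coxeter Lie.factsE8 Lie.okCorootE8 Lie.okColsE8 Lie.okCoxE8 _ Lie.coxeterE8.1 Lie.coxeterE8.2

end Cfsg.Agent.S1094
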