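import Cfsg.Statements.S1095
import Cfsg.Agent.Lib.Lie.AllFacts
import Cfsg.Agent.Lib.Lie.Group

set_option autoImplicit false
open Cfsg

namespace Cfsg.Agent.S1095

/-- `n_p` (p = p_{i+1} fundamental) is the signed monomial matrix `h_{p_j} ↦ h_{p_j} - A_{p_j,p} h_p`, `e_s ↦ η_s e_{w_p(s)}`, with `η_s = ±1`, `η_p = η_{-p} = -1`, `η_s η_{w_p(s)} = (-1)^{A_{p,s}}`, `η_s η_{-s} = 1`. -/
theorem result {F : Type*} [Field F] (D : Cfsg.Lie.ChevalleyDatum) (hD : D ∈ [Cfsg.Lie.chevG2, Cfsg.Lie.chevB2, Cfsg.Lie.chevD4, Cfsg.Lie.chevF4, Cfsg.Lie.chevE6, Cfsg.Lie.chevE7, Cfsg.Lie.chevE8]) (i : ℕ) (hi : i < D.rank) :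
    ∃ η : ℕ → ℤ, (∀ s < D.nroots, η s = 1 ∨ η s = -1) ∧ η (D.simple i) = -1 ∧ η (D.neg (D.simple i)) = -1 ∧
      (∀ s < D.nroots, η s * η (D.reflectRoot i s) = (-1) ^ (D.cartan i s).natAbs ∧ η s * η (D.neg s) = 1) ∧
      D.nMat F (D.simple i) 1 = Matrix.of (fun (row col : D.Idx) =>
        Sum.elim
          (fun j' : Fin D.rank => Sum.elim
            (fun j : Fin D.rank => (if j' = j then (1 : F) else 0) - (if (j' : ℕ) = i then ((D.cartan j (D.simple i) : ℤ) : F) else 0))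
            (fun _ => (0 : F)) col)
          (fun s' : Fin D.nroots => Sum.elim
            (fun _ => (0 : F))
            (fun s : Fin D.nroots => if (s' : ℕ) = D.reflectRoot i s then ((η s : ℤ) : F) else 0) col)
          row) := by
  obtain ⟨hF⟩ := Lie.facts_of_mem hD
  refine ⟨hF.eta i, fun s hs => hF.eta_sign i hi s hs, hF.eta_simple i hi, ?_, fun s hs => ?_, ?_⟩
  · rw [hF.eta_neg i hi _ (hF.simple_lt i hi), hF.eta_simple i hi]
  · refine ⟨hF.eta_refl i hi s hs, ?_⟩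
    rw [hF.eta_neg i hi s hs]
    rcases hF.eta_sign i hi s hs with h | h <;> rw [h] <;> norm_num
  refine Lie.mat_ext_eI (fun j hj => ?_) fun s hs => ?_
  · rw [Lie.nMat_mulVec_eH hF i hi 1 one_ne_zero j hj,
      show j = (Lie.idxEquiv D (Sum.inl ⟨j, hj⟩) : ℕ) from (Lie.idx_inl D ⟨j, hj⟩).symm,
      Lie.eI_eq_single (F := F), Matrix.mulVec_single_one, Lie.idx_inl]
    funext p
    cases p with
    | inl j' =>
      simp [Lie.eI_apply, Lie.idx_inl, Matrix.col, Matrix.transpose_apply, Pi.single_apply,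
        Fin.ext_iff]
    | inr v =>
      have h1 : D.rank + (v : ℕ) ≠ j := by omega
      have h2 : D.rank + (v : ℕ) ≠ i := by omega
      simp [Lie.eI_apply, Lie.idx_inr, Matrix.col, Matrix.transpose_apply, h1, h2]
  · rw [hF.nMat_mulVec_one_eR i hi s hs,
      show Lie.eR D F s = Pi.single (Sum.inr ⟨s, hs⟩) 1 by
        rw [← Lie.eI_eq_single, Lie.idx_inr], Matrix.mulVec_single_one]
    funext p
    cases p with
    | inl j' =>
      have h1 : (j' : ℕ) ≠ D.rank + D.reflectRoot i s := by have := j'.isLt; omega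
      simp [Lie.eI_apply, Lie.idx_inl, Matrix.col, Matrix.transpose_apply, h1]
    | inr v =>
      simp [Lie.eI_apply, Lie.idx_inr, Matrix.col, Matrix.transpose_apply]

end Cfsg.Agent.S1095
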