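import Cfsg.Statements.S1097
import Cfsg.Agent.Lib.Lie.Steinberg
-- import your own Cfsg.Agent.* helpers here

set_option autoImplicit false
open Cfsg

namespace Cfsg.Agent.S1097

/-- Any homomorphism from the presented group to the Chevalley group with `x̄_r(t) ↦ x_r(t)` has kernel contained in `H̄ = ⟨h̄_p(t) : p fundamental, t ≠ 0⟩`. -/
theorem result {K : Type*} [Field K] (D : Cfsg.Lie.ChevalleyDatum) (hD : D ∈ [Cfsg.Lie.chevG2, Cfsg.Lie.chevB2, Cfsg.Lie.chevD4, Cfsg.Lie.chevF4, Cfsg.Lie.chevE6, Cfsg.Lie.chevE7, Cfsg.Lie.chevE8]) (θ : D.SteinbergGroup K →* ↥(D.group K))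
    (hθ : ∀ (r : ℕ) (t : K), r < D.nroots → ((θ (D.stGen K r t) : GL D.Idx K) : Matrix D.Idx D.Idx K) = D.x K r t) :
    θ.ker ≤ Subgroup.closure {h | ∃ (i : ℕ) (t : K), i < D.rank ∧ t ≠ 0 ∧ h = PresentedGroup.mk (D.steinbergRels K) (D.stH (D.simple i) t)} := by
  obtain ⟨hF⟩ := Lie.facts_of_mem hD
  have hH := Lie.stHyp_of_mem hD
  have hθ' : ∀ (g : D.SteinbergGroup K), (θ g : GL D.Idx K) = hF.proj K g := by
    intro g
    have : ((D.group K).subtype.comp θ) = hF.proj K := by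
      refine PresentedGroup.ext fun p => ?_
      have h1 : PresentedGroup.of p = D.stGen K p.1.val p.2 := by
        rw [Cfsg.Lie.ChevalleyDatum.stGen, Cfsg.Lie.ChevalleyDatum.stX, dif_pos p.1.isLt]
        rfl
      rw [h1, hF.proj_x]
      exact Units.ext (hθ _ _ p.1.isLt)
    exact DFunLike.congr_fun this g
  intro g hg
  have hg' : g ∈ (hF.proj K).ker := by
    rw [MonoidHom.mem_ker] at hg ⊢
    rw [← hθ', hg]; rfl
  refine (Subgroup.closure_le _).2 ?_ (hF.H_le_H0 hH (hF.ker_le_H hH hg'))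
  rintro _ ⟨i, t, ht, rfl⟩
  refine Subgroup.subset_closure ⟨i.val, t, i.isLt, ht, ?_⟩
  rw [Lie.Facts.mk_stH]
  rfl

end Cfsg.Agent.S1097
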