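import Cfsg.Statements.S1098
import Cfsg.Agent.Lib.Lie.GraphTables
-- import your own Cfsg.Agent.* helpers here

set_option autoImplicit false
open Cfsg

namespace Cfsg.Agent.S1098

/-- Graph automorphisms in characteristic 2 (K perfect): for B₂ (a short, b long) `x_a(t) ↦ x_b(t²)`, `x_b(t) ↦ x_a(t)`, and for F₄ (p₁, p₂ short, p₃, p₄ long) `x_{p₁}(t) ↦ x_{p₄}(t²)`, `x_{p₂}(t) ↦ x_{p₃}(t²)`, `x_{p₃}(t) ↦ x_{p₂}(t)`, `x_{p₄}(t) ↦ x_{p₁}(t)`, likewise on the negatives, extend to an automorphism of the group. -/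
theorem result {K : Type*} [Field K] [CharP K 2] (hperf : ∀ x : K, ∃ y : K, y ^ 2 = x)
    (p : Cfsg.Lie.ChevalleyDatum × List (ℕ × ℕ))
    (hp : p ∈ [(Cfsg.Lie.chevB2, [(1, 2), (0, 1)]), (Cfsg.Lie.chevF4, [(3, 2), (2, 2), (1, 1), (0, 1)])]) :
    ∃ α : ↥(p.1.group K) ≃* ↥(p.1.group K), ∀ (g : ↥(p.1.group K)) (i : ℕ) (t : K), i < p.1.rank →
      (((g : GL p.1.Idx K) : Matrix p.1.Idx p.1.Idx K) = p.1.x K (p.1.simple i) t →
        ((α g : GL p.1.Idx K) : Matrix p.1.Idx p.1.Idx K) = p.1.x K (p.1.simple (p.2.getD i (0, 1)).1) (t ^ (p.2.getD i (0, 1)).2)) ∧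
      (((g : GL p.1.Idx K) : Matrix p.1.Idx p.1.Idx K) = p.1.x K (p.1.neg (p.1.simple i)) t →
        ((α g : GL p.1.Idx K) : Matrix p.1.Idx p.1.Idx K) = p.1.x K (p.1.neg (p.1.simple (p.2.getD i (0, 1)).1)) (t ^ (p.2.getD i (0, 1)).2)) := by
  have : Fact (Nat.Prime 2) := ⟨Nat.prime_two⟩
  have aux : ∀ (D : Cfsg.Lie.ChevalleyDatum) (P : List (ℕ × ℕ)) (σ : List ℕ) (R : Cfsg.Agent.Lie.RMap) (N : ℕ),
      D ∈ [Cfsg.Lie.chevG2, Cfsg.Lie.chevB2, Cfsg.Lie.chevD4, Cfsg.Lie.chevF4, Cfsg.Lie.chevE6, Cfsg.Lie.chevE7, Cfsg.Lie.chevE8] →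
      R.okMap D 2 = true → R.okOrder D 2 N 2 = true → R.okNodes D σ = true →
      ((List.range D.rank).all fun i => (P.getD i (0, 1)).1 == σ.getD i 0 &&
        R.expo (D.simple i) == (P.getD i (0, 1)).2) = true →
      ∃ α : ↥(D.group K) ≃* ↥(D.group K), ∀ (g : ↥(D.group K)) (i : ℕ) (t : K), i < D.rank →
      (((g : GL D.Idx K) : Matrix D.Idx D.Idx K) = D.x K (D.simple i) t →
        ((α g : GL D.Idx K) : Matrix D.Idx D.Idx K) = D.x K (D.simple (P.getD i (0, 1)).1) (t ^ (P.getD i (0, 1)).2)) ∧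
      (((g : GL D.Idx K) : Matrix D.Idx D.Idx K) = D.x K (D.neg (D.simple i)) t →
        ((α g : GL D.Idx K) : Matrix D.Idx D.Idx K) = D.x K (D.neg (D.simple (P.getD i (0, 1)).1)) (t ^ (P.getD i (0, 1)).2)) := by
    intro D P σ R N hD h1 h2 h3 h4
    obtain ⟨hF⟩ := Lie.facts_of_mem hD
    obtain ⟨α, hα⟩ := hF.rootMap_aut (Lie.modField_prime K 2 hperf) h1 (Lie.stHyp_of_mem hD) h2
      (frobenius K 2) (fun t => frobenius_def (p := 2) t)
    refine ⟨α, fun g i t hi => ?_⟩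
    simp only [List.all_eq_true, List.mem_range, Bool.and_eq_true, beq_iff_eq] at h4
    obtain ⟨f1, f2⟩ := h4 i hi
    obtain ⟨e1, e2, e3, e4⟩ := R.okNodes_spec h3 hi
    have hs := hF.simple_lt i hi
    have en : R.expo (D.neg (D.simple i)) = R.expo (D.simple i) := (Lie.Facts.okMap_root h1 hs).2.2.2.1
    refine ⟨fun hg => ?_, fun hg => ?_⟩
    · rw [hα g _ t hs hg, e1, e3, f2, f1, Int.cast_one, one_mul]
    · rw [hα g _ t (hF.neg_lt hs) hg, e2, e4, en, f2, f1, Int.cast_one, one_mul]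
  simp only [List.mem_cons, List.not_mem_nil, or_false] at hp
  rcases hp with rfl | rfl
  · exact aux _ _ _ _ _ (by simp) Lie.okMap_B2 Lie.okOrder_B2 Lie.okNodes_B2 (by decide +kernel)
  · exact aux _ _ _ _ _ (by simp) Lie.okMap_F4 Lie.okOrder_F4 Lie.okNodes_F4 (by decide +kernel)

end Cfsg.Agent.S1098
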