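import Cfsg.Statements.S1099
import Cfsg.Agent.Lib.Lie.GraphTables
-- import your own Cfsg.Agent.* helpers here

set_option autoImplicit false
open Cfsg

namespace Cfsg.Agent.S1099

/-- Graph automorphism of G₂ in characteristic 3 (K perfect): `x_a(t) ↦ x_b(t³)`, `x_b(t) ↦ x_a(t)`, `x_{-a}(t) ↦ x_{-b}(t³)`, `x_{-b}(t) ↦ x_{-a}(t)` extend to an automorphism of the group. -/
theorem result {K : Type*} [Field K] [CharP K 3] (hperf : ∀ x : K, ∃ y : K, y ^ 3 = x) :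
    ∃ α : ↥(Cfsg.Lie.chevG2.group K) ≃* ↥(Cfsg.Lie.chevG2.group K), ∀ (g : ↥(Cfsg.Lie.chevG2.group K)) (t : K),
      (((g : GL Cfsg.Lie.chevG2.Idx K) : Matrix _ _ K) = Cfsg.Lie.chevG2.x K Cfsg.Lie.g2a t →
        ((α g : GL Cfsg.Lie.chevG2.Idx K) : Matrix _ _ K) = Cfsg.Lie.chevG2.x K Cfsg.Lie.g2b (t ^ 3)) ∧
      (((g : GL Cfsg.Lie.chevG2.Idx K) : Matrix _ _ K) = Cfsg.Lie.chevG2.x K Cfsg.Lie.g2b t →
        ((α g : GL Cfsg.Lie.chevG2.Idx K) : Matrix _ _ K) = Cfsg.Lie.chevG2.x K Cfsg.Lie.g2a t) ∧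
      (((g : GL Cfsg.Lie.chevG2.Idx K) : Matrix _ _ K) = Cfsg.Lie.chevG2.x K Cfsg.Lie.g2ma t →
        ((α g : GL Cfsg.Lie.chevG2.Idx K) : Matrix _ _ K) = Cfsg.Lie.chevG2.x K Cfsg.Lie.g2mb (t ^ 3)) ∧
      (((g : GL Cfsg.Lie.chevG2.Idx K) : Matrix _ _ K) = Cfsg.Lie.chevG2.x K Cfsg.Lie.g2mb t →
        ((α g : GL Cfsg.Lie.chevG2.Idx K) : Matrix _ _ K) = Cfsg.Lie.chevG2.x K Cfsg.Lie.g2ma t) := by
  have : Fact (Nat.Prime 3) := ⟨Nat.prime_three⟩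
  obtain ⟨hF⟩ := Lie.facts_of_mem (D := Cfsg.Lie.chevG2) (by simp)
  obtain ⟨α, hα⟩ := hF.rootMap_aut (Lie.modField_prime K 3 hperf) Lie.okMap_G2 (Lie.stHyp_of_mem (by simp))
    Lie.okOrder_G2 (frobenius K 3) (fun t => frobenius_def (p := 3) t)
  have key : ∀ (r k e : ℕ), r < Cfsg.Lie.chevG2.nroots → Lie.graphG2.img r = k → Lie.graphG2.sign r = 1 →
      Lie.graphG2.expo r = e → ∀ (g : ↥(Cfsg.Lie.chevG2.group K)) (t : K),
      ((g : GL Cfsg.Lie.chevG2.Idx K) : Matrix _ _ K) = Cfsg.Lie.chevG2.x K r t →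
        ((α g : GL Cfsg.Lie.chevG2.Idx K) : Matrix _ _ K) = Cfsg.Lie.chevG2.x K k (t ^ e) := by
    intro r k e hr h1 h2 h3 g t hg
    rw [hα g r t hr hg, h1, h2, h3, Int.cast_one, one_mul]
  refine ⟨α, fun g t => ⟨key _ _ 3 (by decide +kernel) (by decide +kernel) (by decide +kernel) (by decide +kernel) g t,
    fun hg => ?_, key _ _ 3 (by decide +kernel) (by decide +kernel) (by decide +kernel) (by decide +kernel) g t,
    fun hg => ?_⟩⟩
  · have := key Cfsg.Lie.g2b Cfsg.Lie.g2a 1 (by decide +kernel) (by decide +kernel) (by decide +kernel) (by decide +kernel) g t hg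
    rwa [pow_one] at this
  · have := key Cfsg.Lie.g2mb Cfsg.Lie.g2ma 1 (by decide +kernel) (by decide +kernel) (by decide +kernel) (by decide +kernel) g t hg
    rwa [pow_one] at this

end Cfsg.Agent.S1099
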