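import Cfsg.Statements.S1100
import Cfsg.Agent.Lib.Lie.AllFacts
import Cfsg.Agent.Lib.Lie.BruhatAux
-- import your own Cfsg.Agent.* helpers here

set_option autoImplicit false
open Cfsg

namespace Cfsg.Agent.S1100

/-- Canonical form `g = b n_w u` (`b ∈ B`, `u ∈ U_w⁻ = ⟨X_r : r > 0, n_w X_r n_w⁻¹ ≤ V⟩`): such a decomposition exists for every element of the group; the coset `n_w H` is determined by `g`; and for a fixed representative `n_w` the factors `b`, `u` are unique. -/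
theorem result {F : Type*} [Field F] (D : Cfsg.Lie.ChevalleyDatum) (hD : D ∈ [Cfsg.Lie.chevG2, Cfsg.Lie.chevB2, Cfsg.Lie.chevD4, Cfsg.Lie.chevF4, Cfsg.Lie.chevE6, Cfsg.Lie.chevE7, Cfsg.Lie.chevE8]) :
    (∀ g ∈ D.group F, ∃ b ∈ D.borelSubgroup F, ∃ n ∈ D.monomialSubgroup F,
      ∃ u ∈ Subgroup.closure {x : GL D.Idx F | ∃ (r : ℕ) (t : F), D.IsPosRoot r ∧
            (D.rootSubgroup F r).map (MulAut.conj n).toMonoidHom ≤ D.negUnipotent F ∧ (x : Matrix D.Idx D.Idx F) = D.x F r t},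
        g = b * n * u) ∧
    (∀ (b b' n n' u u' : GL D.Idx F), b ∈ D.borelSubgroup F → b' ∈ D.borelSubgroup F →
      n ∈ D.monomialSubgroup F → n' ∈ D.monomialSubgroup F →
      u ∈ Subgroup.closure {x : GL D.Idx F | ∃ (r : ℕ) (t : F), D.IsPosRoot r ∧
            (D.rootSubgroup F r).map (MulAut.conj n).toMonoidHom ≤ D.negUnipotent F ∧ (x : Matrix D.Idx D.Idx F) = D.x F r t} →
      u' ∈ Subgroup.closure {x : GL D.Idx F | ∃ (r : ℕ) (t : F), D.IsPosRoot r ∧
            (D.rootSubgroup F r).map (MulAut.conj n').toMonoidHom ≤ D.negUnipotent F ∧ (x : Matrix D.Idx D.Idx F) = D.x F r t} →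
      b * n * u = b' * n' * u' → n⁻¹ * n' ∈ D.diagonalSubgroup F ∧ (n = n' → b = b' ∧ u = u')) := by
  obtain ⟨hF⟩ := Lie.facts_of_mem hD
  have hcl : ∀ (a : GL D.Idx F), a ∈ (hF.tsys F).H → ∀ w : hF.weyl,
      Subgroup.closure {x : GL D.Idx F | ∃ (r : ℕ) (t : F), D.IsPosRoot r ∧
        (D.rootSubgroup F r).map (MulAut.conj (a * (hF.tsys F).nW w)).toMonoidHom ≤ D.negUnipotent F ∧
        (x : Matrix D.Idx D.Idx F) = D.x F r t} = (hF.tsys F).US (Lie.TorusSys.invList w) := by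
    intro a ha w
    unfold Lie.CommSys.US
    congr 1
    ext g
    simp only [Set.mem_ofPred_eq, hF.isPosRoot_iff, hF.eq_xg]
    constructor
    · rintro ⟨r, t, ⟨h1, h2⟩, h3, rfl⟩
      refine ⟨r, Lie.TorusSys.mem_invList.2 ⟨h2, (Lie.RefSystem.mem_inv _).2 ⟨?_, ?_⟩⟩, t, rfl⟩
      · simp [Lie.Facts.refSys, h1]
      · intro hP
        have hp : D.nroots / 2 ≤ (w • (⟨r, h2⟩ : Fin D.nroots) : Fin D.nroots).val := by
          simpa [Lie.Facts.refSys] using hP
        obtain ⟨e, he, heq⟩ := hF.nW_conj (F := F) w ⟨r, h2⟩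
        have hV := h3 (Subgroup.mem_map.2 ⟨hF.xg r 1, Subgroup.subset_closure ⟨1, rfl⟩, rfl⟩)
        obtain ⟨u, hu⟩ := ((hF.tsys F).H_conj_X ha
          (w • (⟨r, h2⟩ : Fin D.nroots) : Fin D.nroots).isLt (e * 1)).1
        have hz : (MulAut.conj (a * (hF.tsys F).nW w)).toMonoidHom (hF.xg r 1) =
            hF.xg (w • (⟨r, h2⟩ : Fin D.nroots) : Fin D.nroots).val u := by
          simp only [hF.tsys_x] at hu
          rw [← hu, ← heq]
          simp [mul_assoc]
        rw [hz] at hV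
        have h4 := hF.B_inter_V ((hF.tsys F).U_le_B ((hF.tsys F).x_mem_U hp (Fin.isLt _) u)) hV
        simp only [hF.tsys_x] at h4 hu
        rw [h4] at hu
        have h5 : hF.xg (w • (⟨r, h2⟩ : Fin D.nroots) : Fin D.nroots).val (e * 1) = 1 := by
          have := congrArg (fun z => a⁻¹ * z * a) hu
          simpa [mul_assoc] using this
        have h6 := congrArg Units.val h5
        rw [Lie.Facts.coe_xg, Units.val_one, hF.x_eq_one _ (Fin.isLt _), mul_one] at h6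
        exact left_ne_zero_of_mul_eq_one he h6
    · rintro ⟨r, hr, t, rfl⟩
      obtain ⟨h, hi⟩ := Lie.TorusSys.mem_invList.1 hr
      have h1 : D.nroots / 2 ≤ r := by
        simpa [Lie.Facts.refSys] using ((Lie.RefSystem.mem_inv _).1 hi).1
      refine ⟨r, t, ⟨h1, h⟩, ?_, rfl⟩
      rw [Subgroup.map_le_iff_le_comap]
      refine (Subgroup.closure_le _).2 ?_
      rintro y ⟨s, hy⟩
      rw [hF.eq_xg.1 hy]
      obtain ⟨e, -, heq⟩ := hF.nW_conj (F := F) w ⟨r, h⟩
      obtain ⟨u, hu⟩ := ((hF.tsys F).H_conj_X ha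
          (w • (⟨r, h⟩ : Fin D.nroots) : Fin D.nroots).isLt (e * s)).1
      show (MulAut.conj (a * (hF.tsys F).nW w)).toMonoidHom (hF.xg r s) ∈ D.negUnipotent F
      have hz : (MulAut.conj (a * (hF.tsys F).nW w)).toMonoidHom (hF.xg r s) =
          hF.xg (w • (⟨r, h⟩ : Fin D.nroots) : Fin D.nroots).val u := by
        simp only [hF.tsys_x] at hu
        rw [← hu, ← heq]
        simp [mul_assoc]
      rw [hz]
      refine hF.x_mem_negUnipotent ?_ _
      simpa [Lie.Facts.refSys] using ((Lie.RefSystem.mem_inv _).1 hi).2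
  constructor
  · intro g hg
    obtain ⟨b, hb, w, u, hu, rfl⟩ := hF.mem_bnu hg
    refine ⟨b, by rw [← hF.tsys_B]; exact hb, (hF.tsys F).nW w,
      by rw [← hF.tsys_N]; exact (hF.tsys F).nW_mem_N w, u, ?_, rfl⟩
    have h := hcl 1 (one_mem _) w
    rw [one_mul] at h
    rw [h]; exact hu
  · intro b b' n n' u u' hb hb' hn hn' hu hu' h
    obtain ⟨a, ha, w, rfl⟩ := (hF.mem_monomial (F := F)).1 hn
    obtain ⟨a', ha', v, rfl⟩ := (hF.mem_monomial (F := F)).1 hn'
    rw [hcl a ha w] at hu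
    rw [hcl a' ha' v] at hu'
    rw [← hF.tsys_B] at hb hb'
    obtain ⟨rfl, hbb, huu⟩ := hF.bruhat_unique (mul_mem hb ((hF.tsys F).H_le_B ha))
      (mul_mem hb' ((hF.tsys F).H_le_B ha')) hu hu' (by simpa [mul_assoc] using h)
    refine ⟨?_, fun hnn => ?_⟩
    · rw [← hF.tsys_H, show (a * (hF.tsys F).nW w)⁻¹ * (a' * (hF.tsys F).nW w) =
        ((hF.tsys F).nW w)⁻¹ * (a⁻¹ * a') * (hF.tsys F).nW w by group]
      exact (hF.tsys F).nW_H' (mul_mem (inv_mem ha) ha')
    · obtain rfl := mul_right_cancel hnn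
      exact ⟨mul_right_cancel hbb, huu⟩

end Cfsg.Agent.S1100
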