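import Cfsg.Statements.S1118
import Cfsg.Agent.Lib.Lie.RankOne
-- import your own Cfsg.Agent.* helpers here

set_option autoImplicit false
open Cfsg

namespace Cfsg.Agent.S1118

/-- In the rank-one set-up (`G` finite and doubly transitive on `Ω`, `t` an involution moving `a`, `Q` normal in `G_a` with `G_a = Q D`, `Q ⊓ D = 1` for the two-point stabiliser `D = G_a ⊓ G_{t • a}`, `|Q|` even, `|D|` odd), the normaliser of a subset of `Q` containing a non-identity element lies in `G_a`; consequently `N_G(Q) = N_G(G_a) = G_a`. -/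
theorem result {G Ω : Type*} [Group G] [Finite G] [MulAction G Ω] {a : Ω} {t : G} {Q : Subgroup G}
    (hS : Cfsg.IsRankOneSetup G Ω a t Q) :
    (∀ X : Set G, X ⊆ (Q : Set G) → (∃ x ∈ X, x ≠ 1) → Subgroup.normalizer X ≤ MulAction.stabilizer G a) ∧
      Subgroup.normalizer (Q : Set G) = MulAction.stabilizer G a ∧
      Subgroup.normalizer (MulAction.stabilizer G a : Set G) = MulAction.stabilizer G a := by
  have h1 : ∀ X : Set G, X ⊆ (Q : Set G) → (∃ x ∈ X, x ≠ 1) → Subgroup.normalizer X ≤ MulAction.stabilizer G a := by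
    rintro X hX ⟨x, hx, hx1⟩ g hg
    have h2 := hX ((Subgroup.mem_set_normalizer_iff.1 hg x).1 hx)
    have h3 : (g * x * g⁻¹) • a = a := hS.le h2
    rw [mul_smul, mul_smul, ← eq_inv_smul_iff] at h3
    have h4 := Cfsg.Agent.Lie.R1.inv_fix hS (hX hx) hx1 h3
    exact (inv_smul_eq_iff.1 h4).symm
  obtain ⟨s, hsQ, hs1, -⟩ := Cfsg.Agent.Lie.R1.exists_inv hS
  have h2 : Subgroup.normalizer (Q : Set G) = MulAction.stabilizer G a := by
    refine le_antisymm (h1 _ le_rfl ⟨s, hsQ, hs1⟩) fun g hg => ?_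
    rw [Subgroup.mem_normalizer_iff]
    refine fun q => ⟨fun hq => hS.conj_mem g hg q hq, fun hq => ?_⟩
    have := hS.conj_mem g⁻¹ (inv_mem hg) _ hq
    simpa [mul_assoc] using this
  refine ⟨h1, h2, le_antisymm (fun g hg => ?_) Subgroup.le_normalizer⟩
  have h3 : (g⁻¹ * s * g⁻¹⁻¹) • a = a := (Subgroup.mem_normalizer_iff.1 (inv_mem hg) s).1 (hS.le hsQ)
  rw [inv_inv, mul_smul, mul_smul, inv_smul_eq_iff] at h3
  exact Cfsg.Agent.Lie.R1.inv_fix hS hsQ hs1 h3

end Cfsg.Agent.S1118
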