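import Cfsg.Statements.S1131
import Cfsg.Agent.Lib.Lie.RankOneTorus
-- import your own Cfsg.Agent.* helpers here

set_option autoImplicit false
open Cfsg

namespace Cfsg.Agent.S1131

/-- In the rank-one set-up (`G` finite and doubly transitive on `Ω`, `t` an involution moving `a`, `Q` normal in `G_a` with `G_a = Q D`, `Q ⊓ D = 1` for the two-point stabiliser `D = G_a ⊓ G_{t • a}`, `|Q|` even, `|D|` odd), with the action faithful and `G` containing two distinct commuting involutions: the set `K` of elements of `D` inverted by `t` is (the underlying set of) a cyclic subgroup normal in `D`. -/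
theorem result {G Ω : Type*} [Group G] [Finite G] [MulAction G Ω] [FaithfulSMul G Ω] {a : Ω} {t : G} {Q : Subgroup G}
    (hS : Cfsg.IsRankOneSetup G Ω a t Q)
    (h2 : ∃ x y : G, x ≠ 1 ∧ y ≠ 1 ∧ x ≠ y ∧ x * x = 1 ∧ y * y = 1 ∧ x * y = y * x) :
    ∃ C : Subgroup G, (C : Set G) = Cfsg.invertedBy (MulAction.stabilizer G a ⊓ MulAction.stabilizer G (t • a)) t ∧ IsCyclic C ∧
      ∀ d ∈ (MulAction.stabilizer G a ⊓ MulAction.stabilizer G (t • a)), ∀ c ∈ C, d * c * d⁻¹ ∈ C := by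
  classical
  obtain ⟨z, -, hz, -⟩ := Cfsg.Agent.Lie.R1.torus hS h2
  refine ⟨Subgroup.zpowers z, hz.symm, inferInstance, fun d hd c hc => ?_⟩
  obtain ⟨w, hw, hwi, hy⟩ := Cfsg.Agent.Lie.exists_decomp hS.mul_self
    (fun x hx => Cfsg.Agent.Lie.R1.tDt hS hx) hS.odd_card hd
  have htc := Cfsg.Agent.Lie.R1.tt hS
  have hti := Cfsg.Agent.Lie.R1.t_inv hS
  have hwz : w ∈ Subgroup.zpowers z := by
    rw [← SetLike.mem_coe, ← hz]
    exact ⟨hw, by rw [hti]; exact hwi⟩
  have hcomm : w * c = c * w := by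
    obtain ⟨i, rfl⟩ := hwz
    obtain ⟨j, rfl⟩ := hc
    exact (Commute.refl z).zpow_zpow i j
  have hcI : c ∈ Cfsg.invertedBy (MulAction.stabilizer G a ⊓ MulAction.stabilizer G (t • a)) t := by
    rw [hz]; exact hc
  have hci : t * c * t = c⁻¹ := by have := hcI.2; rwa [hti] at this
  have key : d * c * d⁻¹ = (d * w⁻¹) * c * (d * w⁻¹)⁻¹ := by
    rw [show (d * w⁻¹) * c * (d * w⁻¹)⁻¹ = d * (w⁻¹ * (c * w)) * d⁻¹ by group, ← hcomm, inv_mul_cancel_left]
  rw [← SetLike.mem_coe, ← hz, key]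
  refine ⟨mul_mem (mul_mem (mul_mem hd (inv_mem hw)) hcI.1) (inv_mem (mul_mem hd (inv_mem hw))), ?_⟩
  rw [hti]
  generalize d * w⁻¹ = y at hy ⊢
  have hyinv : t * y⁻¹ * t = y⁻¹ := by
    conv_rhs => rw [← hy]
    simp [mul_assoc, hti]
  calc t * (y * c * y⁻¹) * t = (t * y * t) * (t * c * t) * (t * y⁻¹ * t) := by simp [mul_assoc, htc]
    _ = (y * c * y⁻¹)⁻¹ := by rw [hy, hci, hyinv]; group

end Cfsg.Agent.S1131
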