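import Cfsg.Statements.S1132
import Cfsg.Agent.Lib.Lie.RankOneTorus
-- import your own Cfsg.Agent.* helpers here

set_option autoImplicit false
open Cfsg

namespace Cfsg.Agent.S1132

/-- In the rank-one set-up (`G` finite and doubly transitive on `Ω`, `t` an involution moving `a`, `Q` normal in `G_a` with `G_a = Q D`, `Q ⊓ D = 1` for the two-point stabiliser `D = G_a ⊓ G_{t • a}`, `|Q|` even, `|D|` odd), with the action faithful and `G` containing two distinct commuting involutions: a Sylow 2-subgroup of `Q` is abelian or a Suzuki 2-group. -/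
theorem result {G Ω : Type*} [Group G] [Finite G] [MulAction G Ω] [FaithfulSMul G Ω] {a : Ω} {t : G} {Q : Subgroup G}
    (hS : Cfsg.IsRankOneSetup G Ω a t Q)
    (h2 : ∃ x y : G, x ≠ 1 ∧ y ≠ 1 ∧ x ≠ y ∧ x * x = 1 ∧ y * y = 1 ∧ x * y = y * x)
    (S : Sylow 2 ↥Q) : IsMulCommutative (S : Subgroup ↥Q) ∨ Cfsg.IsSuzukiTwoGroup ↥(S : Subgroup ↥Q) := by
  classical
  by_cases hab : ∀ x y : ↥(S : Subgroup ↥Q), x * y = y * x
  · exact Or.inl ⟨⟨hab⟩⟩
  right
  push Not at hab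
  haveI := Cfsg.Agent.Lie.R1.nilpotent hS h2
  haveI : Fact (Nat.Prime 2) := ⟨Nat.prime_two⟩
  haveI hSn : (S : Subgroup Q).Normal := Sylow.normal_of_normalizerCondition normalizerCondition_of_isNilpotent S
  letI := Sylow.unique_of_normal S hSn
  have hmem : ∀ q : Q, (∃ n : ℕ, q ^ 2 ^ n = 1) → q ∈ (S : Subgroup Q) := by
    rintro q ⟨n, hn⟩
    have hp : IsPGroup 2 (Subgroup.zpowers q) := fun x => by
      obtain ⟨i, hi⟩ := x.2
      refine ⟨n, Subtype.ext ?_⟩
      change q ^ i = (x : Q) at hi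
      rw [SubgroupClass.coe_pow, ← hi, ← zpow_natCast, ← zpow_mul, mul_comm, zpow_mul, zpow_natCast, hn, one_zpow]
      rfl
    obtain ⟨P, hP⟩ := hp.exists_le_sylow
    rw [Subsingleton.elim P S] at hP
    exact hP (Subgroup.mem_zpowers q)
  have hinv : ∀ s ∈ Cfsg.involutionsIn (MulAction.stabilizer G a : Set G), ∃ h : s ∈ Q,
      (⟨s, h⟩ : Q) ∈ (S : Subgroup Q) := fun s hs =>
    ⟨Cfsg.Agent.Lie.R1.inv_mem_Q hS hs.1 hs.2.2,
      hmem _ ⟨1, Subtype.ext (by simpa [pow_two] using hs.2.2)⟩⟩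
  obtain ⟨z, hzI, hz, -⟩ := Cfsg.Agent.Lie.R1.torus hS h2
  have hza : ∀ c : Subgroup.zpowers z, (c : G) ∈ MulAction.stabilizer G a := fun c => by
    have : (c : G) ∈ Cfsg.invertedBy (MulAction.stabilizer G a ⊓ MulAction.stabilizer G (t • a)) t := by
      rw [hz]; exact c.2
    exact (Subgroup.mem_inf.1 this.1).1
  have hconj : ∀ (g : G), g ∈ MulAction.stabilizer G a → ∀ x : ↥(S : Subgroup Q),
      ∃ h : g * ((x : Q) : G) * g⁻¹ ∈ Q, (⟨_, h⟩ : Q) ∈ (S : Subgroup Q) := fun g hg x => by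
    refine ⟨hS.conj_mem g hg _ (x : Q).2, hmem _ ?_⟩
    obtain ⟨n, hn⟩ := S.2 x
    refine ⟨n, Subtype.ext ?_⟩
    simp only [SubgroupClass.coe_pow, conj_pow]
    have := congrArg (fun e : ↥(S : Subgroup Q) => ((e : Q) : G)) hn
    simp only [SubgroupClass.coe_pow] at this
    rw [this]
    simp
  let cj : ∀ (g : G), g ∈ MulAction.stabilizer G a → ↥(S : Subgroup Q) → ↥(S : Subgroup Q) :=
    fun g hg x => ⟨⟨_, (hconj g hg x).1⟩, (hconj g hg x).2⟩
  let ρ : Subgroup.zpowers z →* MulAut ↥(S : Subgroup Q) :=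
    { toFun := fun c =>
        { toFun := cj c (hza c)
          invFun := cj (c : G)⁻¹ (inv_mem (hza c))
          left_inv := fun x => Subtype.ext (Subtype.ext (by simp [cj, mul_assoc]))
          right_inv := fun x => Subtype.ext (Subtype.ext (by simp [cj, mul_assoc]))
          map_mul' := fun x y => Subtype.ext (Subtype.ext (by simp [cj, mul_assoc])) }
      map_one' := MulEquiv.ext fun x => Subtype.ext (Subtype.ext (by simp [cj]))
      map_mul' := fun c d => MulEquiv.ext fun x => Subtype.ext (Subtype.ext (by simp [cj, mul_assoc])) }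
  have hρ : ∀ (c : Subgroup.zpowers z) (x : ↥(S : Subgroup Q)),
      (((ρ c x : ↥(S : Subgroup Q)) : Q) : G) = (c : G) * ((x : Q) : G) * (c : G)⁻¹ := fun c x => rfl
  have hval : ∀ x : ↥(S : Subgroup Q), x ≠ 1 → x * x = 1 →
      ((x : Q) : G) ∈ Cfsg.involutionsIn (MulAction.stabilizer G a : Set G) := fun x hx hx2 =>
    ⟨hS.le (x : Q).2, fun h => hx (Subtype.ext (Subtype.ext h)),
      congrArg (fun e : ↥(S : Subgroup Q) => ((e : Q) : G)) hx2⟩
  refine ⟨inferInstance, S.2, hab, ?_, ρ.range,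
    isCyclic_of_surjective ρ.rangeRestrict ρ.rangeRestrict_surjective, ?_⟩
  · obtain ⟨x, y, hx, hy, hxy⟩ := Cfsg.Agent.Lie.R1.two_inv hS h2
    obtain ⟨hxQ, hxS⟩ := hinv x hx
    obtain ⟨hyQ, hyS⟩ := hinv y hy
    exact ⟨⟨_, hxS⟩, ⟨_, hyS⟩, fun h => hxy (congrArg (fun e : ↥(S : Subgroup Q) => ((e : Q) : G)) h),
      fun h => hx.2.1 (congrArg (fun e : ↥(S : Subgroup Q) => ((e : Q) : G)) h),
      Subtype.ext (Subtype.ext hx.2.2),
      fun h => hy.2.1 (congrArg (fun e : ↥(S : Subgroup Q) => ((e : Q) : G)) h),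
      Subtype.ext (Subtype.ext hy.2.2)⟩
  · intro x y hx hx2 hy hy2
    have hx' := hval x hx hx2
    have hy' := hval y hy hy2
    obtain ⟨k, hk, hke⟩ := Cfsg.Agent.Lie.R1.K_trans hS hx'.1 hx'.2.1 hx'.2.2 hy'.1 hy'.2.1 hy'.2.2
    have hkz : k⁻¹ ∈ Subgroup.zpowers z := by
      refine inv_mem ?_
      rw [← SetLike.mem_coe, ← hz]; exact hk
    refine ⟨⟨ρ ⟨k⁻¹, hkz⟩, _, rfl⟩, Subtype.ext (Subtype.ext (by rw [hρ, inv_inv]; exact hke)), ?_⟩
    rintro ⟨_, c, rfl⟩ hc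
    refine Subtype.ext (congrArg ρ (Subtype.ext ?_))
    show (c : G) = k⁻¹
    have hcx := congrArg (fun e : ↥(S : Subgroup Q) => ((e : Q) : G)) hc
    simp only [hρ] at hcx
    set m := k * (c : G) with hm
    have hmz : m ∈ Subgroup.zpowers z := mul_mem (by simpa using inv_mem hkz) c.2
    by_contra hne
    have hm1 : m ≠ 1 := fun h => hne (eq_inv_of_mul_eq_one_right h)
    have hmI : m ∈ Cfsg.invertedBy (MulAction.stabilizer G a ⊓ MulAction.stabilizer G (t • a)) t := by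
      rw [hz]; exact hmz
    have hmc : m * ((x : Q) : G) * m⁻¹ = ((x : Q) : G) := by
      rw [show m * ((x : Q) : G) * m⁻¹ = k * ((c : G) * ((x : Q) : G) * (c : G)⁻¹) * k⁻¹ by rw [hm]; group,
        hcx, ← hke]
      group
    have hfix := Cfsg.Agent.Lie.R1.fpf hS hmI hm1
    have hxmem : ((x : Q) : G) ∈ Q ⊓ Subgroup.centralizer {m} :=
      Subgroup.mem_inf.2 ⟨(x : Q).2, Subgroup.mem_centralizer_singleton_iff.2 (mul_inv_eq_iff_eq_mul.1 hmc).symm⟩
    rw [hfix, Subgroup.mem_bot] at hxmem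
    exact hx'.2.1 hxmem

end Cfsg.Agent.S1132
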