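import Cfsg.Statements.S1158
import Cfsg.Agent.Lib.Small.Ree.TwoTori
-- import your own Cfsg.Agent.* helpers here

set_option autoImplicit false
open Cfsg

namespace Cfsg.Agent.S1158

/-- In the small Ree group ²G₂(q), q = 3^(2m+1) with m ≥ 1, realised as G¹ inside the Chevalley group G₂ over the field with q elements (θ the 3^m-th power map), with `r = 3^(m+1)` (so `r² = 3q`): for each `k ∈ {(q-1)/2, (q+1)/4, q - r + 1, q + r + 1}` there is a cyclic subgroup `A` of order `k` whose normaliser has order `2(q-1)`, `6(q+1)`, `6(q-r+1)`, `6(q+r+1)` respectively, and `N(A₀) = N(A)` for every non-trivial `A₀ ≤ A`. -/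
theorem result {K : Type*} [Field K] [Fintype K] {m : ℕ} (hm : 1 ≤ m) (hK : Fintype.card K = 3 ^ (2 * m + 1)) :
    ∀ kn ∈ ({((3 ^ (2 * m + 1) - 1) / 2, 2 * (3 ^ (2 * m + 1) - 1)), ((3 ^ (2 * m + 1) + 1) / 4, 6 * (3 ^ (2 * m + 1) + 1)),
        (3 ^ (2 * m + 1) - 3 ^ (m + 1) + 1, 6 * (3 ^ (2 * m + 1) - 3 ^ (m + 1) + 1)),
        (3 ^ (2 * m + 1) + 3 ^ (m + 1) + 1, 6 * (3 ^ (2 * m + 1) + 3 ^ (m + 1) + 1))} : Set (ℕ × ℕ)),
      ∃ A : Subgroup ↥(Cfsg.Lie.twistedG2 K (3 ^ m)), IsCyclic A ∧ Nat.card A = kn.1 ∧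
        Nat.card (Subgroup.normalizer (A : Set ↥(Cfsg.Lie.twistedG2 K (3 ^ m)))) = kn.2 ∧
        ∀ A₀ : Subgroup ↥(Cfsg.Lie.twistedG2 K (3 ^ m)), A₀ ≤ A → A₀ ≠ ⊥ →
          Subgroup.normalizer (A₀ : Set ↥(Cfsg.Lie.twistedG2 K (3 ^ m))) = Subgroup.normalizer (A : Set ↥(Cfsg.Lie.twistedG2 K (3 ^ m))) := by
  classical
  obtain ⟨T⟩ := Cfsg.Agent.Lie.G2.nonempty_setup hK
  have h27 := Small.Ree.large_card T hm
  obtain ⟨x₁, x₂, hx₁, hx₂, e₁, e₂, n₁, n₂, -, -, -⟩ := Small.Ree.two_tori T h27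
  have hA1 := Small.Ree.card_A1 T
  have hA2 := Small.Ree.card_A2 T
  have hN1 := Small.Ree.card_normalizer_A1 T (by omega)
  have hN2 := Small.Ree.card_normalizer_V2 T h27
  rw [← Small.Ree.normalizer_A2_eq_V2 T h27] at hN2
  have hr : 3 ^ (m + 1) ≤ 3 ^ (2 * m + 1) := Nat.pow_le_pow_right (by norm_num) (by omega)
  rw [hK] at hA1 hA2 hN1 hN2 e₁ e₂
  have a1 : Nat.card ↥(Small.Ree.A1 T) = (3 ^ (2 * m + 1) - 1) / 2 := by omega
  have a3 : Nat.card ↥(Small.Ree.Tor T x₁) = 3 ^ (2 * m + 1) - 3 ^ (m + 1) + 1 := by omega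
  rw [a3] at n₁
  rw [e₂] at n₂
  intro kn hkn
  simp only [Set.mem_insert_iff, Set.mem_singleton_iff] at hkn
  rcases hkn with rfl | rfl | rfl | rfl
  · exact ⟨Small.Ree.A1 T, Small.Ree.cyclic_A1 T, a1, hN1,
      fun A₀ h h' => Small.Ree.normalizer_A1 T h h'⟩
  · exact ⟨Small.Ree.A2 T, Small.Ree.cyclic_A2 T, hA2, hN2, fun A₀ h h' => Small.Ree.normalizer_A2 T h27 h h'⟩
  · refine ⟨Small.Ree.Tor T x₁, Small.Ree.tor_cyclic T h27 hx₁, a3, n₁,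
      fun A₀ h h' => Small.Ree.tor_normalizer T h27 hx₁ h h'⟩
  · refine ⟨Small.Ree.Tor T x₂, Small.Ree.tor_cyclic T h27 hx₂, ?_, ?_,
      fun A₀ h h' => Small.Ree.tor_normalizer T h27 hx₂ h h'⟩
    · exact e₂.trans (by ring)
    · exact n₂.trans (by ring)

end Cfsg.Agent.S1158
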