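import Cfsg.Statements.S1159
import Cfsg.Agent.Lib.Small.Ree.Orders
-- import your own Cfsg.Agent.* helpers here

set_option autoImplicit false
open Cfsg

namespace Cfsg.Agent.S1159

/-- In the small Ree group ²G₂(q), q = 3^(2m+1) with m ≥ 1, realised as G¹ inside the Chevalley group G₂ over the field with q elements (θ the 3^m-th power map), with `r = 3^(m+1)`: a natural number is the order of an element of `G¹` iff it divides one of `6`, `9`, `q - 1`, `(q + 1)/2`, `q - r + 1`, `q + r + 1`. -/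
theorem result {K : Type*} [Field K] [Fintype K] {m : ℕ} (hm : 1 ≤ m) (hK : Fintype.card K = 3 ^ (2 * m + 1)) (d : ℕ) :
    (∃ g : ↥(Cfsg.Lie.twistedG2 K (3 ^ m)), orderOf g = d) ↔
      (d ∣ 6 ∨ d ∣ 9 ∨ d ∣ 3 ^ (2 * m + 1) - 1 ∨ d ∣ (3 ^ (2 * m + 1) + 1) / 2 ∨
        d ∣ 3 ^ (2 * m + 1) - 3 ^ (m + 1) + 1 ∨ d ∣ 3 ^ (2 * m + 1) + 3 ^ (m + 1) + 1) := by
  classical
  obtain ⟨T⟩ := Cfsg.Agent.Lie.G2.nonempty_setup hK
  have h27 := Small.Ree.large_card T hm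
  obtain ⟨x₁, x₂, hx₁, hx₂, e₁, e₂, -, -, -, -, hall⟩ := Small.Ree.two_tori T h27
  have h := Small.Ree.orders_iff T h27 hx₁ hx₂ hall d
  rw [hK] at e₁ e₂
  have hr : 3 ^ (m + 1) ≤ 3 ^ (2 * m + 1) := Nat.pow_le_pow_right (by norm_num) (by omega)
  have a3 : Nat.card ↥(Small.Ree.Tor T x₁) = 3 ^ (2 * m + 1) - 3 ^ (m + 1) + 1 := by omega
  rw [hK, a3, e₂, show 3 ^ (2 * m + 1) + 1 + 3 ^ (m + 1) = 3 ^ (2 * m + 1) + 3 ^ (m + 1) + 1 by ring] at h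
  exact h

end Cfsg.Agent.S1159
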