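import Cfsg.Statements.S1161
import Cfsg.Agent.Lib.Lie.OddSmall.Transitive

set_option autoImplicit false
open Cfsg

namespace Cfsg.Agent.S1161

/-- Let `D` be a finite group of odd order acting faithfully by additive automorphisms on a finite elementary abelian `q`-group `E ≠ 0` (`q` prime), transitively on `E ∖ {0}`. Then the Fitting subgroup `F(D)` is cyclic, its non-identity elements fix only `0`, and `D/F(D)` is abelian (the derived subgroup lies in `F(D)`). -/
theorem result {D E : Type*} [Group D] [Finite D]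
    [AddCommGroup E] [Finite E] [Nontrivial E] [DistribMulAction D E] [FaithfulSMul D E]
    (hodd : Odd (Nat.card D)) {q : ℕ} (hq : q.Prime) (hE : ∀ e : E, q • e = 0)
    (htrans : ∀ a b : E, a ≠ 0 → b ≠ 0 → ∃ d : D, d • a = b) :
    IsCyclic ↥(Cfsg.fittingSubgroup D) ∧
      (∀ g ∈ Cfsg.fittingSubgroup D, g ≠ 1 → ∀ a : E, g • a = a → a = 0) ∧
      commutator D ≤ Cfsg.fittingSubgroup D := by
  classical
  obtain ⟨a, ha⟩ := exists_ne (0 : E)
  -- the number of non-zero vectors is odd
  have hdvd := Cfsg.Agent.Lie.OddSmall.card_sub_one_dvd (D := D) htrans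
  have h2 : q = 2 := by
    have hoddE : Odd (Nat.card E - 1) := hodd.of_dvd_nat hdvd
    have heven : 2 ∣ Nat.card E := by
      have := Finite.one_lt_card (α := E)
      rw [Nat.odd_iff] at hoddE
      omega
    obtain ⟨x, hx⟩ := exists_prime_addOrderOf_dvd_card' 2 heven
    have h := addOrderOf_dvd_of_nsmul_eq_zero (hE x)
    rw [hx] at h
    exact ((Nat.prime_dvd_prime_iff_eq Nat.prime_two hq).mp h).symm
  subst h2
  obtain ⟨C, -, hcyc, hC, hfpf, -, v, -, hcom⟩ :=
    Cfsg.Agent.Lie.OddSmall.structure_theorem hodd hE htrans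
  subst hC
  exact ⟨hcyc, hfpf, hcom⟩

end Cfsg.Agent.S1161
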