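import Cfsg.Statements.S1176
import Cfsg.Agent.Lib.Fusion.StronglyEmbeddedPairs

set_option autoImplicit false
open Cfsg
open Cfsg.Agent.Fusion
open scoped commutatorElement

namespace Cfsg.Agent.S1176

/-- Let x₀ be an involution of the finite group G and D its conjugacy class. Assume (a) for each x ∈ D the subgroup W(x) generated by the members of D commuting with x is a 2-group of nilpotency class at most 2, and (b) the product of two distinct commuting members of D again lies in D. Then for all x, y ∈ D, if xy has even order greater than 2, its order is 4. -/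
theorem result {G : Type*} [Group G] [Finite G] (x₀ : G) (hx₀ : orderOf x₀ = 2) (ha : ∀ x : G, IsConj x₀ x → IsPGroup 2 ↥(Subgroup.closure {y : G | IsConj x₀ y ∧ Commute y x}) ∧ ⁅⁅Subgroup.closure {y : G | IsConj x₀ y ∧ Commute y x}, Subgroup.closure {y : G | IsConj x₀ y ∧ Commute y x}⁆, Subgroup.closure {y : G | IsConj x₀ y ∧ Commute y x}⁆ = ⊥) (hb : ∀ x y : G, IsConj x₀ x → IsConj x₀ y → x ≠ y → Commute x y → IsConj x₀ (x * y)) (x y : G) (hx : IsConj x₀ x) (hy : IsConj x₀ y) (heven : Even (orderOf (x * y))) (hgt : 2 < orderOf (x * y)) : orderOf (x * y) = 4 := by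
  have hord : ∀ t, IsConj x₀ t → orderOf t = 2 := fun t ht => by
    obtain ⟨g, rfl⟩ := isConj_iff.1 ht
    exact SEPairs.conj_involution hx₀ g
  obtain ⟨k, hk⟩ := heven
  set r := x * y with hr
  set w := r ^ k with hw
  have hxx := SEPairs.sq_one (hord x hx)
  have hyy := SEPairs.sq_one (hord y hy)
  have hwo : orderOf w = 2 := by
    refine orderOf_eq_prime (by rw [pow_two, hw, ← pow_add, ← hk, pow_orderOf_eq_one]) fun e => ?_
    have := Nat.le_of_dvd (by omega) (orderOf_dvd_of_pow_eq_one e)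
    omega
  have hflip : ∀ j : ℕ, x * r ^ j * x⁻¹ = (r ^ j)⁻¹ := fun j => by
    rw [← conj_pow, ← inv_pow]
    congr 1
    rw [hr, mul_inv_rev, SEPairs.inv_self (hord y hy), SEPairs.inv_self (hord x hx)]
    calc x * (x * y) * x = (x * x) * y * x := by group
      _ = y * x := by rw [hxx, one_mul]
  have hwi : w⁻¹ = w := SEPairs.inv_self hwo
  have hxw : Commute x w := mul_inv_eq_iff_eq_mul.1 ((hflip k).trans hwi)
  have hrw : Commute r w := Commute.self_pow r k
  have hyw : Commute y w := by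
    have e : y = x * r := by rw [hr, ← mul_assoc, hxx, one_mul]
    rw [e]; exact hxw.mul_left hrw
  -- the central involution lies in the class
  have hD : IsConj x₀ (x * w) := by
    obtain ⟨j, rfl | rfl⟩ := Nat.even_or_odd' k
    · refine hx.trans (isConj_iff.2 ⟨(r ^ j)⁻¹, ?_⟩)
      rw [inv_inv, hw, two_mul, pow_add, ← mul_assoc, ← hflip j]
      group
    · refine hy.trans (isConj_iff.2 ⟨(r ^ j)⁻¹, ?_⟩)
      rw [inv_inv, hw, show 2 * j + 1 = j + 1 + j by omega, pow_add, pow_succ, ← hflip j]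
      calc x * r ^ j * x⁻¹ * y * r ^ j = x * r ^ j * x * y * r ^ j := by rw [SEPairs.inv_self (hord x hx)]
        _ = x * (r ^ j * (x * y) * r ^ j) := by group
        _ = _ := by rw [← hr]
  have hwD : IsConj x₀ w := by
    have h1 := hb x (x * w) hx hD (fun e => by
      rw [left_eq_mul.1 e, orderOf_one] at hwo
      omega) ((Commute.refl x).mul_right hxw)
    rwa [← mul_assoc, hxx, one_mul] at h1
  obtain ⟨hp, hcl⟩ := ha w hwD
  set W := Subgroup.closure {v : G | IsConj x₀ v ∧ Commute v w}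
  have hxW : x ∈ W := Subgroup.subset_closure ⟨hx, hxw⟩
  have hyW : y ∈ W := Subgroup.subset_closure ⟨hy, hyw⟩
  have h1 : ⁅⁅x, y⁆, x⁆ = 1 := Subgroup.mem_bot.1
    (hcl ▸ Subgroup.commutator_mem_commutator (Subgroup.commutator_mem_commutator hxW hyW) hxW)
  have e1 : ⁅x, y⁆ = r ^ 2 := by
    rw [commutatorElement_def, SEPairs.inv_self (hord x hx), SEPairs.inv_self (hord y hy), hr, pow_two]
    group
  have e2 : r ^ 4 = 1 := by
    rw [e1, commutatorElement_def] at h1
    calc r ^ 4 = r ^ 2 * (x * r ^ 2 * x⁻¹)⁻¹ := by rw [hflip]; group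
      _ = r ^ 2 * x * (r ^ 2)⁻¹ * x⁻¹ := by group
      _ = 1 := h1
  have h2 : orderOf r ∣ 2 ^ 2 := orderOf_dvd_of_pow_eq_one e2
  obtain ⟨i, hi, hi2⟩ := (Nat.dvd_prime_pow Nat.prime_two).1 h2
  rcases (by omega : i = 0 ∨ i = 1 ∨ i = 2) with rfl | rfl | rfl
  · rw [pow_zero] at hi2; omega
  · rw [pow_one] at hi2; omega
  · simpa using hi2

end Cfsg.Agent.S1176
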