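import Cfsg.Statements.S1177
import Cfsg.Agent.Lib.Fusion.Basic
import Cfsg.Agent.Lib.Local.ElemAb

set_option autoImplicit false
open Cfsg
open Cfsg.Agent.Fusion
open scoped commutatorElement
open Cfsg.Agent.Local

namespace Cfsg.Agent.S1177

/-- Let A be a nontrivial elementary abelian 2-subgroup of a finite group G which is a T.I. set (each conjugate of A meets A trivially or equals A) and which does not commute elementwise with any conjugate of A other than A itself. Then for every a ∈ A, a ≠ 1, every conjugate of A contained in C_G(a) is equal to A (A is weakly closed in C_G(a)). -/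
theorem result {G : Type*} [Group G] [Finite G] (A : Subgroup G) (hA : Cfsg.IsElementaryAbelian 2 A) (hA1 : A ≠ ⊥) (hTI : ∀ g : G, A.map (MulAut.conj g).toMonoidHom ⊓ A = ⊥ ∨ A.map (MulAut.conj g).toMonoidHom = A) (hb : ∀ g : G, (∀ a ∈ A, ∀ b ∈ A.map (MulAut.conj g).toMonoidHom, a * b = b * a) → A.map (MulAut.conj g).toMonoidHom = A) (a : G) (ha : a ∈ A) (ha1 : a ≠ 1) (g : G) (hg : A.map (MulAut.conj g).toMonoidHom ≤ Subgroup.centralizer ({a} : Set G)) : A.map (MulAut.conj g).toMonoidHom = A := by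
  obtain ⟨B, hBdef⟩ : ∃ B, B = cj A g := ⟨_, rfl⟩
  change cj A g ≤ _ at hg
  show cj A g = A
  rw [← hBdef] at hg ⊢
  have hAc : ∀ x ∈ A, ∀ y ∈ A, x * y = y * x := fun x hx y hy => by
    haveI := hA.1
    exact congrArg Subtype.val (mul_comm' (⟨x, hx⟩ : A) ⟨y, hy⟩)
  -- conjugates of `A` are equal or meet trivially, and commuting ones are equal
  have hti : ∀ s t : G, cj A s ⊓ cj A t = ⊥ ∨ cj A s = cj A t := fun s t => by
    rcases hTI (t⁻¹ * s) with h | h
    · refine Or.inl ?_
      have := congrArg (fun K => cj K t) h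
      rwa [cj_inf, show cj (A.map _) t = cj A s from by rw [← cj, cj_cj, mul_inv_cancel_left], cj_bot] at this
    · refine Or.inr ?_
      have := congrArg (fun K => cj K t) h
      rwa [← cj, cj_cj, mul_inv_cancel_left] at this
  have hcomm : ∀ s t : G, cj A s ≤ Subgroup.normalizer (cj A t : Set G) →
      cj A t ≤ Subgroup.normalizer (cj A s : Set G) → cj A s = cj A t := by
    intro s t h1 h2
    rcases hti s t with h | h
    swap
    · exact h
    have h3 : ∀ x ∈ cj A s, ∀ y ∈ cj A t, x * y = y * x := fun x hx y hy => by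
      refine commutatorElement_eq_one_iff_mul_comm.1 ?_
      rw [← Subgroup.mem_bot, ← h, Subgroup.mem_inf, commutatorElement_def]
      refine ⟨?_, ?_⟩
      · rw [mul_assoc x y, mul_assoc x]
        exact mul_mem hx ((Subgroup.mem_normalizer_iff.1 (h2 hy) _).1 (inv_mem hx))
      · exact mul_mem ((Subgroup.mem_normalizer_iff.1 (h1 hx) _).1 hy) (inv_mem hy)
    have h4 : cj A (t⁻¹ * s) = A := hb _ fun x hx y hy => by
      have e1 : x = t⁻¹ * (t * x * t⁻¹) * t := by group
      obtain ⟨w, hw, rfl⟩ : ∃ w ∈ cj A s, y = t⁻¹ * w * t :=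
        ⟨t * y * t⁻¹, by
          have := conj_mem_cj (g := t) hy
          rwa [← cj, cj_cj, mul_inv_cancel_left] at this, by group⟩
      have e2 := h3 w hw _ (conj_mem_cj (g := t) hx)
      calc x * (t⁻¹ * w * t) = t⁻¹ * (t * x * t⁻¹ * w) * t := by group
        _ = t⁻¹ * (w * (t * x * t⁻¹)) * t := by rw [e2]
        _ = t⁻¹ * w * t * x := by group
    have := congrArg (fun K => cj K t) h4
    rwa [cj_cj, mul_inv_cancel_left] at this
  have hBA : B ≤ Subgroup.normalizer (A : Set G) := fun b hbB => mem_normalizer_iff_cj.2 (by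
    rcases hti b 1 with h | h
    · exfalso
      refine ha1 (Subgroup.mem_bot.1 (h ▸ Subgroup.mem_inf.2 ⟨?_, (cj_one A).symm ▸ ha⟩))
      have h1 := Subgroup.mem_centralizer_singleton_iff.1 (hg hbB)
      have h2 := conj_mem_cj (g := b) ha
      rwa [h1, mul_inv_cancel_right] at h2
    · rw [h, cj_one])
  have hT : IsPGroup 2 ↥(A ⊔ B) :=
    ((elemAb_isPGroup hA).to_sup_of_normal_left' (hBdef ▸ isPGroup_cj (elemAb_isPGroup hA) g) hBA)
  by_cases hAB : A ≤ Subgroup.normalizer (B : Set G)
  · have := hcomm g 1 (by rw [cj_one, ← hBdef]; exact hBA) (by rw [cj_one, ← hBdef]; exact hAB)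
    rwa [cj_one, ← hBdef] at this
  · exfalso
    let M := (A ⊔ B) ⊓ Subgroup.normalizer (B : Set G)
    have hBM : B ≤ M := le_inf le_sup_right Subgroup.le_normalizer
    have hMne : M ≠ A ⊔ B := fun h => hAB ((le_sup_left : A ≤ A ⊔ B).trans (inf_eq_left.1 h))
    obtain ⟨y, hy, hyM⟩ := SetLike.exists_of_lt
      (SylIn.normalizer_growth (T := M) inf_le_left hMne hT)
    obtain ⟨hyT, hyN⟩ := Subgroup.mem_inf.1 hy
    have hyB : cj B y ≤ M := by
      have := cj_mono hBM y
      rwa [cj_eq_self hyN] at this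
    have h2 : M ≤ Subgroup.normalizer (cj B y : Set G) := by
      have h := cj_mono (inf_le_right : M ≤ Subgroup.normalizer (B : Set G)) y
      rwa [cj_eq_self hyN, cj_normalizer] at h
    subst hBdef
    rw [cj_cj] at hyB h2
    have := hcomm (y * g) g (hyB.trans inf_le_right) (hBM.trans h2)
    exact hyM ⟨hyT, mem_normalizer_iff_cj.2 (by rw [cj_cj]; exact this)⟩

end Cfsg.Agent.S1177
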