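import Cfsg.Statements.S1181
import Cfsg.Agent.Lib.Fusion.IsolatedInvolution

set_option autoImplicit false
open Cfsg
open Cfsg.Agent.Fusion
open scoped commutatorElement

namespace Cfsg.Agent.S1181

/-- Let z be an isolated involution of the finite group G and N a normal subgroup with z ∉ N. Then the centralizer of zN in G/N is the image of C_G(z), and zN is an isolated involution of G/N. -/
theorem result {G : Type*} [Group G] [Finite G] (z : G) (hz : Cfsg.IsIsolatedInvolution z) (N : Subgroup G) [N.Normal] (hzN : z ∉ N) : Subgroup.centralizer ({(QuotientGroup.mk z : G ⧸ N)} : Set (G ⧸ N)) = (Subgroup.centralizer ({z} : Set G)).map (QuotientGroup.mk' N) ∧ Cfsg.IsIsolatedInvolution (QuotientGroup.mk z : G ⧸ N) := by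
  have hN : ∀ g : G, Commute (QuotientGroup.mk z : G ⧸ N) ((g * z * g⁻¹ : G) : G ⧸ N) →
      z * (g * z * g⁻¹) ∈ N := by
    intro g hc
    obtain ⟨k, hk⟩ := isolated_odd hz g
    rw [← QuotientGroup.eq_one_iff]
    have h2 : ((z * (g * z * g⁻¹) : G) : G ⧸ N) ^ 2 = 1 := by
      have hv : (g * z * g⁻¹) ^ 2 = 1 := by
        rw [conj_pow, sq, invol_mul_self hz.1]; group
      rw [QuotientGroup.mk_mul, hc.mul_pow, ← QuotientGroup.mk_pow, ← QuotientGroup.mk_pow, hv,
        sq, invol_mul_self hz.1, QuotientGroup.mk_one, one_mul]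
    have h3 : ((z * (g * z * g⁻¹) : G) : G ⧸ N) ^ (2 * k + 1) = 1 := by
      rw [← QuotientGroup.mk_pow, ← hk, pow_orderOf_eq_one, QuotientGroup.mk_one]
    rwa [pow_succ, pow_mul, h2, one_pow, one_mul] at h3
  refine ⟨le_antisymm ?_ ?_, ?_, ?_⟩
  · intro q hq
    obtain ⟨g, rfl⟩ := QuotientGroup.mk_surjective q
    rw [Subgroup.mem_centralizer_singleton_iff] at hq
    have hv : ((g * z * g⁻¹ : G) : G ⧸ N) = z := by
      rw [QuotientGroup.mk_mul, QuotientGroup.mk_mul, hq, QuotientGroup.mk_inv, mul_inv_cancel_right]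
    obtain ⟨s, hs, he⟩ := isolated_exists_zpowers hz g
    have hsN : s ∈ N := Subgroup.zpowers_le.2 (hN g (by rw [hv])) hs
    refine ⟨s * g, Subgroup.mem_centralizer_singleton_iff.2 ?_, ?_⟩
    · calc s * g * z = s * (g * z * g⁻¹) * s⁻¹ * (s * g) := by group
        _ = z * (s * g) := by rw [he]
    · rw [map_mul, QuotientGroup.mk'_apply, (QuotientGroup.eq_one_iff s).2 hsN, one_mul,
        QuotientGroup.mk'_apply]
  · rintro q ⟨g, hg, rfl⟩
    have hg' := Subgroup.mem_centralizer_singleton_iff.1 hg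
    rw [Subgroup.mem_centralizer_singleton_iff]
    exact congrArg (QuotientGroup.mk' N) hg'
  · refine orderOf_eq_prime ?_ fun h => hzN ((QuotientGroup.eq_one_iff z).1 h)
    rw [← QuotientGroup.mk_pow, sq, invol_mul_self hz.1, QuotientGroup.mk_one]
  · intro q hq
    obtain ⟨g, rfl⟩ := QuotientGroup.mk_surjective q
    have h1 := (QuotientGroup.eq_one_iff _).2 (hN g hq)
    rw [QuotientGroup.mk_mul] at h1
    have h2 : (z : G ⧸ N)⁻¹ = z := by rw [← QuotientGroup.mk_inv, invol_inv hz.1]
    exact (inv_eq_of_mul_eq_one_right h1).symm.trans h2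

end Cfsg.Agent.S1181
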