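import Cfsg.Statements.S1182
import Cfsg.Agent.Lib.Fusion.IsolatedInvolution

set_option autoImplicit false
open Cfsg
open Cfsg.Agent.Fusion
open scoped commutatorElement

namespace Cfsg.Agent.S1182

/-- Let z be an isolated involution of the finite group G and H a subgroup normalized by z. If x, y ∈ H both commute with z and y = h x h⁻¹ for some h ∈ H, then y = c x c⁻¹ for some c ∈ H commuting with z. -/
theorem result {G : Type*} [Group G] [Finite G] (z : G) (hz : Cfsg.IsIsolatedInvolution z) (H : Subgroup G) (hzH : z ∈ Subgroup.normalizer (H : Set G)) (x y : G) (hx : x ∈ H) (hy : y ∈ H) (hxz : Commute x z) (hyz : Commute y z) (h : G) (hh : h ∈ H) (hconj : h * x * h⁻¹ = y) : ∃ c ∈ H, Commute c z ∧ c * x * c⁻¹ = y := by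
  obtain ⟨s, hs, he⟩ := isolated_exists_zpowers hz h
  have hzc : ∀ a ∈ H, z * a * z⁻¹ ∈ H := fun a ha => (Subgroup.mem_normalizer_iff.1 hzH a).1 ha
  have hrH : z * (h * z * h⁻¹) ∈ H := by
    have := mul_mem (hzc h hh) (inv_mem hh)
    rwa [invol_inv hz.1, show z * h * z * h⁻¹ = z * (h * z * h⁻¹) by group] at this
  have hsH : s ∈ H := Subgroup.zpowers_le.2 hrH hs
  have hry : Commute (z * (h * z * h⁻¹)) y := by
    refine hyz.symm.mul_left ?_
    rw [← hconj]
    exact ((Commute.conj_iff h).2 hxz).symm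
  have hsy : Commute s y := by
    obtain ⟨k, rfl⟩ := Subgroup.mem_zpowers_iff.1 hs
    exact hry.zpow_left k
  refine ⟨s * h, mul_mem hsH hh, ?_, ?_⟩
  · show s * h * z = z * (s * h)
    calc s * h * z = s * (h * z * h⁻¹) * s⁻¹ * (s * h) := by group
      _ = z * (s * h) := by rw [he]
  · calc s * h * x * (s * h)⁻¹ = s * (h * x * h⁻¹) * s⁻¹ := by group
      _ = y := by rw [hconj, hsy.eq, mul_inv_cancel_right]

end Cfsg.Agent.S1182
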