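import Cfsg.Statements.S1183
import Cfsg.Agent.Lib.Char.ZStar

set_option autoImplicit false
open Cfsg
open scoped ComplexConjugate

namespace Cfsg.Agent.S1183

/-- Let z be an isolated involution of the finite group G and C = C_G(z). Then the subgroup of G generated by its elements of odd order is all of G if and only if the subgroup of C generated by its elements of odd order is all of C. -/
theorem result {G : Type*} [Group G] [Finite G] (z : G) (hz : Cfsg.IsIsolatedInvolution z) : Cfsg.pResidual 2 G = ⊤ ↔ Cfsg.pResidual 2 ↥(Subgroup.centralizer ({z} : Set G)) = ⊤ := by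
  classical
  set C : Subgroup G := Subgroup.centralizer ({z} : Set G) with hC
  set O := Cfsg.oddCore G with hO
  have hzz : z * z = 1 := by rw [← pow_two]; exact orderOf_dvd_iff_pow_eq_one.mp hz.1.dvd
  have hzi : z⁻¹ = z := inv_eq_of_mul_eq_one_left hzz
  have hoddO : ∀ o ∈ O, Nat.Coprime (orderOf o) 2 := fun o ho =>
    Nat.coprime_two_right.mpr ((Cfsg.Agent.Char.card_oddCore_odd G).of_dvd_nat
      (Subgroup.orderOf_dvd_natCard O ho))
  have hGOC : O ⊔ C = ⊤ := by
    refine eq_top_iff.mpr fun g _ => ?_
    have h1 := Cfsg.Agent.Char.zStar_isolated hz g⁻¹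
    obtain ⟨s, hs, hsz⟩ := Cfsg.Agent.Fusion.isolated_exists_zpowers hz g
    have hsO : s ∈ O := by
      refine Subgroup.zpowers_le.mpr ?_ hs
      have h2 := Cfsg.Agent.Char.zStar_isolated hz g
      rwa [show z * g * z⁻¹ * g⁻¹ = z * (g * z * g⁻¹) by rw [hzi]; group] at h2
    have hsg : s * g ∈ C := Subgroup.mem_centralizer_singleton_iff.mpr (by
      calc s * g * z = s * (g * z * g⁻¹) * s⁻¹ * (s * g) := by group
        _ = _ := by rw [hsz])
    have := mul_mem (Subgroup.mem_sup_left (T := C) (inv_mem hsO))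
      (Subgroup.mem_sup_right (S := O) hsg)
    rwa [inv_mul_cancel_left] at this
  constructor
  · intro hG
    set K := Cfsg.pResidual 2 C with hK
    have hKn : ∀ n ∈ K, ∀ c : C, c * n * c⁻¹ ∈ K := by
      intro n hn c
      have hle : K ≤ K.comap (MulAut.conj c).toMonoidHom := by
        conv_lhs => rw [hK, Cfsg.pResidual]
        rw [Subgroup.closure_le]
        intro w hw
        show c * w * c⁻¹ ∈ Cfsg.pResidual 2 C
        refine Subgroup.subset_closure ?_
        show Nat.Coprime (orderOf (c * w * c⁻¹)) 2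
        have : orderOf (c * w * c⁻¹) = orderOf w :=
          orderOf_injective (MulAut.conj c).toMonoidHom (MulAut.conj c).injective w
        rw [this]
        exact hw
      exact hle hn
    haveI : K.Normal := ⟨hKn⟩
    set M := O ⊔ K.map C.subtype with hM
    have hCn : C ≤ Subgroup.normalizer (K.map C.subtype : Set G) := by
      intro c hc
      rw [Subgroup.mem_normalizer_iff]
      intro w
      constructor
      · rintro ⟨v, hv, rfl⟩
        exact ⟨⟨c, hc⟩ * v * ⟨c, hc⟩⁻¹, hKn v hv _, rfl⟩
      · rintro ⟨v, hv, hvw⟩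
        refine ⟨⟨c, hc⟩⁻¹ * v * ⟨c, hc⟩⁻¹⁻¹, hKn v hv _, ?_⟩
        simp only [Subgroup.subtype_apply, Subgroup.coe_mul, Subgroup.coe_inv, inv_inv] at hvw ⊢
        rw [hvw]; group
    haveI hMn : M.Normal := by
      refine Subgroup.normalizer_eq_top_iff.mp (top_le_iff.mp (hGOC ▸ sup_le ?_ ?_))
      · exact le_sup_left.trans Subgroup.le_normalizer
      · intro c hc
        rw [Subgroup.mem_normalizer_iff'']
        intro w
        have key : ∀ d ∈ C, ∀ v ∈ M, d * v * d⁻¹ ∈ M := by
          intro d hd v hv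
          have hle : M ≤ M.comap (MulAut.conj d).toMonoidHom := by
            refine sup_le (fun o ho => ?_) (fun k hk => ?_)
            · exact Subgroup.mem_sup_left ((inferInstance : O.Normal).conj_mem o ho d)
            · exact Subgroup.mem_sup_right ((Subgroup.mem_normalizer_iff.mp (hCn hd) k).mp hk)
          exact hle hv
        refine ⟨fun h => by simpa using key c⁻¹ (inv_mem hc) w h, fun h => ?_⟩
        have := key c hc _ h
        simpa [mul_assoc] using this
    have hMtop : M = ⊤ := by
      refine eq_top_iff.mpr (hG ▸ ?_)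
      rw [Cfsg.pResidual, Subgroup.closure_le]
      intro g hg
      have hg' : g ∈ O ⊔ C := hGOC ▸ Subgroup.mem_top g
      obtain ⟨o, ho, c, hc, rfl⟩ := Subgroup.mem_sup_of_normal_left.mp hg'
      refine mul_mem (Subgroup.mem_sup_left ho) (Subgroup.mem_sup_right ?_)
      refine ⟨⟨c, hc⟩, Subgroup.subset_closure ?_, rfl⟩
      have hm : c ^ orderOf (o * c) ∈ O := by
        rw [← QuotientGroup.eq_one_iff, QuotientGroup.mk_pow]
        have : (QuotientGroup.mk c : G ⧸ O) = QuotientGroup.mk (o * c) := by
          rw [QuotientGroup.mk_mul, (QuotientGroup.eq_one_iff o).mpr ho, one_mul]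
        rw [this, ← QuotientGroup.mk_pow, pow_orderOf_eq_one, QuotientGroup.mk_one]
      show Nat.Coprime (orderOf (⟨c, hc⟩ : C)) 2
      rw [Subgroup.orderOf_mk]
      refine Nat.Coprime.coprime_dvd_left ?_
        (Nat.Coprime.mul_left hg.out (hoddO _ hm))
      refine orderOf_dvd_of_pow_eq_one ?_
      rw [pow_mul, pow_orderOf_eq_one]
    refine eq_top_iff.mpr fun c _ => ?_
    have hc' : (c : G) ∈ O ⊔ K.map C.subtype := by rw [← hM, hMtop]; exact Subgroup.mem_top _
    obtain ⟨o, ho, w, hw, he⟩ := Subgroup.mem_sup_of_normal_left.mp hc'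
    obtain ⟨k, hk, rfl⟩ := hw
    have hoK : (c * k⁻¹) ∈ K := by
      refine Subgroup.subset_closure ?_
      show Nat.Coprime (orderOf (c * k⁻¹)) 2
      rw [← Subgroup.orderOf_coe]
      refine hoddO _ ?_
      simp only [Subgroup.coe_mul, Subgroup.coe_inv, Subgroup.subtype_apply] at he ⊢
      rw [← he, mul_inv_cancel_right]
      exact ho
    have := mul_mem hoK hk
    rwa [inv_mul_cancel_right] at this
  · intro hCtop
    refine eq_top_iff.mpr (hGOC ▸ sup_le (fun o ho => Subgroup.subset_closure (hoddO o ho)) ?_)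
    intro c hc
    have h1 : (⟨c, hc⟩ : C) ∈ Cfsg.pResidual 2 C := hCtop ▸ Subgroup.mem_top _
    have hle : Cfsg.pResidual 2 C ≤ (Cfsg.pResidual 2 G).comap C.subtype := by
      rw [Cfsg.pResidual, Subgroup.closure_le]
      intro w hw
      refine Subgroup.subset_closure ?_
      show Nat.Coprime (orderOf (w : G)) 2
      rw [Subgroup.orderOf_coe]
      exact hw
    exact hle h1

end Cfsg.Agent.S1183
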