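import Cfsg.Statements.S1184
import Cfsg.Agent.Lib.Fusion.IsolatedInvolution

set_option autoImplicit false
open Cfsg
open Cfsg.Agent.Fusion
open scoped commutatorElement

namespace Cfsg.Agent.S1184

/-- Let z be an isolated involution of the finite group G. If s and t are distinct conjugates of z, then st does not commute with z. -/
theorem result {G : Type*} [Group G] [Finite G] (z : G) (hz : Cfsg.IsIsolatedInvolution z) (g h : G) (hne : g * z * g⁻¹ ≠ h * z * h⁻¹) : ¬ Commute (g * z * g⁻¹ * (h * z * h⁻¹)) z := by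
  intro hc
  apply hne
  have hsq : ∀ k : G, orderOf (k * z * k⁻¹) = 2 := fun k =>
    (orderOf_injective (MulAut.conj k).toMonoidHom (MulAut.conj k).injective z).trans hz.1
  obtain ⟨a, ha⟩ := isolated_odd hz g
  obtain ⟨b, hb⟩ := isolated_odd hz h
  have hs := invol_mul_self (hsq g)
  have ht := invol_mul_self (hsq h)
  generalize g * z * g⁻¹ = s at hc ha hs ⊢
  generalize h * z * h⁻¹ = t at hc hb ht ⊢
  have h1 : s * z * s = t * z * t := by
    calc s * z * s = s * (z * (s * t)) * t := by
          simp only [mul_assoc, ht, mul_one]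
      _ = t * z * t := by rw [← hc.eq]; simp only [← mul_assoc, hs, one_mul]
  have h2 : (z * s) ^ 2 = (z * t) ^ 2 := by
    rw [sq, sq]
    calc z * s * (z * s) = z * (s * z * s) := by group
      _ = z * t * (z * t) := by rw [h1]; group
  have e1 : ∀ (r : G) (n : ℕ), orderOf r = 2 * n + 1 → (r ^ 2) ^ (n + 1) = r := fun r n hn => by
    rw [← pow_mul, show 2 * (n + 1) = orderOf r + 1 by omega, pow_succ, pow_orderOf_eq_one, one_mul]
  have e2 : orderOf (z * s) = orderOf (z * t) := by
    have o1 : orderOf ((z * s) ^ 2) = orderOf (z * s) := by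
      rw [Nat.Coprime.orderOf_pow]; rw [ha]; simp
    have o2 : orderOf ((z * t) ^ 2) = orderOf (z * t) := by
      rw [Nat.Coprime.orderOf_pow]; rw [hb]; simp
    rw [← o1, ← o2, h2]
  refine mul_left_cancel (a := z) ?_
  exact (e1 _ a ha).symm.trans ((congrArg (· ^ (a + 1)) h2).trans (e1 _ a (e2 ▸ ha)))

end Cfsg.Agent.S1184
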