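import Cfsg.Statements.S1185
import Cfsg.Agent.Lib.Fusion.IsolatedInvolution

set_option autoImplicit false
open Cfsg
open Cfsg.Agent.Fusion
open scoped commutatorElement

namespace Cfsg.Agent.S1185

/-- Let z be an isolated involution of the finite group G with centralizer C. Then for every g ∈ G there is exactly one element k in the coset gC that has odd order and is inverted by z. -/
theorem result {G : Type*} [Group G] [Finite G] (z : G) (hz : Cfsg.IsIsolatedInvolution z) (g : G) : ∃! k : G, (Odd (orderOf k) ∧ z * k * z⁻¹ = k⁻¹) ∧ g⁻¹ * k ∈ Subgroup.centralizer ({z} : Set G) := by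
  obtain ⟨n, hn⟩ := isolated_odd hz g
  have hv : orderOf (g * z * g⁻¹) = 2 :=
    (orderOf_injective (MulAut.conj g).toMonoidHom (MulAut.conj g).injective z).trans hz.1
  have hzz := invol_inv hz.1
  have hkey : ∀ k : G, z * k * z⁻¹ = k⁻¹ → k * z * k⁻¹ = k ^ 2 * z := by
    intro k hk
    rw [mul_inv_eq_iff_eq_mul, sq]
    have h1 : z * k = k⁻¹ * z := mul_inv_eq_iff_eq_mul.1 hk
    calc k * z = k * k * (k⁻¹ * z) := by group
      _ = k * k * z * k := by rw [← h1]; group
  have hC : ∀ k : G, g⁻¹ * k ∈ Subgroup.centralizer ({z} : Set G) ↔ k * z * k⁻¹ = g * z * g⁻¹ := by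
    intro k
    rw [Subgroup.mem_centralizer_singleton_iff, mul_inv_eq_iff_eq_mul]
    constructor <;> intro h
    · calc k * z = g * (g⁻¹ * k * z) := by group
        _ = g * z * g⁻¹ * k := by rw [h]; group
    · calc g⁻¹ * k * z = g⁻¹ * (k * z) := by group
        _ = z * (g⁻¹ * k) := by rw [h]; group
  generalize g * z * g⁻¹ = v at hn hv hC
  simp only [hC]
  have hinv : (z * v)⁻¹ = v * z := by rw [mul_inv_rev, invol_inv hv, hzz]
  refine ⟨(v * z) ^ (n + 1), ⟨⟨?_, ?_⟩, ?_⟩, ?_⟩
  · rw [← hinv, inv_pow, orderOf_inv]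
    exact Odd.of_dvd_nat ⟨n, hn⟩ (orderOf_pow_dvd _)
  · rw [← conj_pow, ← inv_pow, mul_inv_rev v z, hzz, invol_inv hv]
    congr 1
    rw [mul_assoc z, mul_assoc v, invol_mul_self hz.1, mul_one]
  · rw [hkey _ (by
      rw [← conj_pow, ← inv_pow, mul_inv_rev v z, hzz, invol_inv hv]
      congr 1
      rw [mul_assoc z, mul_assoc v, invol_mul_self hz.1, mul_one])]
    rw [← pow_mul, show (n + 1) * 2 = orderOf (v * z) + 1 by rw [← hinv, orderOf_inv]; omega,
      pow_succ, pow_orderOf_eq_one, one_mul, mul_assoc, invol_mul_self hz.1, mul_one]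
  · rintro k ⟨⟨⟨j, hj⟩, hk⟩, hkv⟩
    have h1 : v * z = k ^ 2 := by
      rw [← hkv, hkey k hk, mul_assoc, invol_mul_self hz.1, mul_one]
    have h2 : orderOf k = orderOf (v * z) := by
      rw [h1, Nat.Coprime.orderOf_pow]; rw [hj]; simp
    rw [h1, ← pow_mul, show 2 * (n + 1) = orderOf k + 1 by
      rw [h2, ← hinv, orderOf_inv]; omega, pow_succ, pow_orderOf_eq_one, one_mul]

end Cfsg.Agent.S1185
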