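import Cfsg.Statements.S1186
import Cfsg.Agent.Lib.Fusion.IsolatedSylow
import Cfsg.Agent.Lib.Fusion.WeakClosedFour
import Cfsg.Agent.Lib.Fusion.Timmesfeld

set_option autoImplicit false
open Cfsg
open Cfsg.Agent.Fusion
open scoped commutatorElement

namespace Cfsg.Agent.S1186

/-- Let z be an isolated involution of the finite group G, C = C_G(z), K the set of elements of odd order inverted by z, and s an involution of C. Then |G| = |C| · |C_K(sz)| · |C_K(s)|. -/
theorem result {G : Type*} [Group G] [Finite G] (z : G) (hz : Cfsg.IsIsolatedInvolution z) (s : G) (hs : orderOf s = 2) (hsz : Commute s z) : Nat.card G = Nat.card (Subgroup.centralizer ({z} : Set G)) * Nat.card {k : G // Odd (orderOf k) ∧ z * k * z⁻¹ = k⁻¹ ∧ Commute k (s * z)} * Nat.card {k : G // Odd (orderOf k) ∧ z * k * z⁻¹ = k⁻¹ ∧ Commute k s} := by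
  classical
  set O := oddCore G with hO
  set C := Subgroup.centralizer ({z} : Set G) with hC
  have hOodd : Odd (Nat.card O) := Agent.Char.card_oddCore_odd G
  have hzO : z ∈ Subgroup.normalizer (O : Set G) := by rw [Subgroup.normalizer_eq_top]; exact Subgroup.mem_top z
  have hkO : ∀ k : G, Odd (orderOf k) → z * k * z⁻¹ = k⁻¹ → k ∈ O := by
    intro k hodd hi
    obtain ⟨m, hm⟩ := hodd
    have h := Agent.Char.zStar_isolated hz k
    rw [hi] at h
    have h2 : k ^ (2 * m + 1) = 1 := hm ▸ pow_orderOf_eq_one k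
    have h3 := pow_mem (inv_mem h) (m + 1)
    rwa [show (k⁻¹ * k⁻¹)⁻¹ = k ^ 2 by simp [pow_two], ← pow_mul,
      show 2 * (m + 1) = (2 * m + 1) + 1 by ring, pow_succ, h2, one_mul] at h3
  have hodd : ∀ k ∈ O, Odd (orderOf k) := fun k hk => by
    rw [Nat.odd_iff] at hOodd ⊢
    by_contra h
    have h2 : 2 ∣ Nat.card O := (Nat.dvd_of_mod_eq_zero (by omega)).trans (Subgroup.orderOf_dvd_natCard O hk)
    omega
  -- fixed-point subgroups of elements commuting with `z`
  have hset : ∀ t : G, Commute t z → Nat.card {k : G // Odd (orderOf k) ∧ z * k * z⁻¹ = k⁻¹ ∧ Commute k t} =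
      ((O ⊓ Subgroup.centralizer ({t} : Set G)) ⊓ C).relIndex (O ⊓ Subgroup.centralizer ({t} : Set G)) := by
    intro t ht
    rw [card_inverted hz.1]
    · refine Nat.card_congr (Equiv.subtypeEquivRight fun k => ?_)
      rw [Subgroup.mem_inf, Subgroup.mem_centralizer_singleton_iff]
      exact ⟨fun h => ⟨⟨hkO k h.1 h.2.1, h.2.2⟩, h.2.1⟩, fun h => ⟨hodd k h.1.1, h.2, h.1.2⟩⟩
    · refine mem_normalizer_of_cj_le ?_
      rintro _ ⟨a, ⟨ha, hat⟩, rfl⟩
      refine ⟨(Subgroup.mem_normalizer_iff.1 hzO a).1 ha, ?_⟩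
      replace hat := Subgroup.mem_centralizer_singleton_iff.1 hat
      refine Subgroup.mem_centralizer_singleton_iff.2 ?_
      exact (Commute.conj_iff z).2 hat |> fun h => by
        simpa [show z * t * z⁻¹ = t by rw [← ht.eq, mul_inv_cancel_right]] using h.eq
    · exact Odd.of_dvd_nat hOodd (Subgroup.card_dvd_of_le inf_le_left)
  have hindex : C.index = (O ⊓ C).relIndex O := by
    have htop : C ⊔ O = ⊤ := by
      refine top_le_iff.1 fun g _ => ?_
      obtain ⟨s, hs, he⟩ := isolated_exists_zpowers hz g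
      have h1 : z * (g * z * g⁻¹) ∈ O := by
        rw [show z * (g * z * g⁻¹) = z * g * z * g⁻¹ by group]
        simpa only [invol_inv hz.1] using Agent.Char.zStar_isolated hz g
      have hsO : s ∈ O := Subgroup.zpowers_le.2 h1 hs
      have h2 : s * g ∈ C := Subgroup.mem_centralizer_singleton_iff.2 (by
        have h3 : (s * g) * z * (s * g)⁻¹ = z := by rw [mul_inv_rev]; simpa [mul_assoc] using he
        exact mul_inv_eq_iff_eq_mul.1 h3)
      rw [show g = s⁻¹ * (s * g) by group]
      exact mul_mem (Subgroup.mem_sup_right (inv_mem hsO)) (Subgroup.mem_sup_left h2)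
    rw [inf_comm, ← relIndex_sup_normal, htop, Subgroup.relIndex_top_right]
  rw [← C.card_mul_index, hindex, mul_assoc, hset s hsz, hset (s * z) (hsz.mul_left (Commute.refl z))]
  congr 1
  have hcm := fun (H : Subgroup G) => card_mul_relIndex_of_le (inf_le_left : H ⊓ C ≤ H)
  have e1 := hcm O
  have e2 := hcm (O ⊓ Subgroup.centralizer ({s * z} : Set G))
  have e3 := hcm (O ⊓ Subgroup.centralizer ({s} : Set G))
  rcases eq_or_ne s z with rfl | hne
  · have h1 : O ⊓ Subgroup.centralizer ({s * s} : Set G) = O := inf_eq_left.2 fun x _ => by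
      rw [Subgroup.mem_centralizer_singleton_iff, invol_mul_self hz.1, one_mul, mul_one]
    rw [h1, show O ⊓ Subgroup.centralizer ({s} : Set G) ⊓ C = O ⊓ Subgroup.centralizer ({s} : Set G) by
      rw [hC, inf_assoc, inf_idem], Subgroup.relIndex_self, mul_one]
  set A := Subgroup.closure ({z, s} : Set G) with hA
  have hcz : ∀ x ∈ ({z, s} : Set G), ∀ y ∈ ({z, s} : Set G), x * y = y * x := by
    rintro x (rfl | rfl) y (rfl | rfl)
    exacts [rfl, hsz.symm.eq, hsz.eq, rfl]
  have hel : IsElementaryAbelian 2 A := Agent.Local.elemAb_closure _ hcz (by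
    rintro x (rfl | rfl)
    · rw [← hz.1, pow_orderOf_eq_one]
    · rw [← hs, pow_orderOf_eq_one])
  have hmem : ∀ x, x ∈ A ↔ x = 1 ∨ x = z ∨ x = s ∨ x = s * z := by
    intro x
    constructor
    · intro hx
      have hz2 := invol_mul_self hz.1
      have hs2 := invol_mul_self hs
      have e1 : ∀ y : G, s * (s * y) = y := fun y => by rw [← mul_assoc, hs2, one_mul]
      have e2 : ∀ y : G, z * (z * y) = y := fun y => by rw [← mul_assoc, hz2, one_mul]
      have e3 : ∀ y : G, z * (s * y) = s * (z * y) := fun y => by rw [← mul_assoc, ← hsz.eq, mul_assoc]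
      refine Subgroup.closure_induction (p := fun x _ => x = 1 ∨ x = z ∨ x = s ∨ x = s * z) ?_ (Or.inl rfl) ?_ ?_ hx
      · rintro x (rfl | rfl) <;> simp
      · rintro x y - - (rfl | rfl | rfl | rfl) (rfl | rfl | rfl | rfl) <;>
          simp [hz2, hs2, hsz.symm.eq, mul_assoc, e1, e2, e3]
      · rintro x - (rfl | rfl | rfl | rfl) <;> simp [invol_inv hz.1, invol_inv hs, hsz.symm.eq]
    · rintro (rfl | rfl | rfl | rfl)
      exacts [one_mem _, Subgroup.subset_closure (Or.inl rfl), Subgroup.subset_closure (Or.inr rfl),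
        mul_mem (Subgroup.subset_closure (Or.inr rfl)) (Subgroup.subset_closure (Or.inl rfl))]
  have hz1 : z ≠ 1 := fun h => by have h2 := hz.1; rw [h, orderOf_one] at h2; exact absurd h2 (by norm_num)
  have hs1 : s ≠ 1 := fun h => by rw [h, orderOf_one] at hs; exact absurd hs (by norm_num)
  have hsz1 : s * z ≠ 1 := fun h => hne (by rw [← invol_inv hz.1]; exact mul_eq_one_iff_eq_inv.1 h)
  have hzsz : z ≠ s * z := fun h => hs1 (right_eq_mul.1 h)
  have hssz : s ≠ s * z := fun h => hz1 (left_eq_mul.1 h)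
  have hnon : nonId A = {z, s, s * z} := by
    ext x
    rw [mem_nonId, hmem]
    simp only [Finset.mem_insert, Finset.mem_singleton]
    constructor
    · rintro ⟨(h | h | h | h), hx⟩
      exacts [absurd h hx, Or.inl h, Or.inr (Or.inl h), Or.inr (Or.inr h)]
    · rintro (rfl | rfl | rfl)
      exacts [⟨Or.inr (Or.inl rfl), hz1⟩, ⟨Or.inr (Or.inr (Or.inl rfl)), hs1⟩, ⟨Or.inr (Or.inr (Or.inr rfl)), hsz1⟩]
  have hc3 : (nonId A).card = 3 := by
    rw [hnon, Finset.card_insert_of_notMem (by simp [hne.symm, hzsz]), Finset.card_pair hssz]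
  have hcardA : Nat.card A = 2 ^ 2 := by
    have h := card_nonId A
    have := Nat.card_pos (α := A)
    omega
  have hf := fixed_formula hel.1 hcardA hel.2 (K := O) (by rw [Subgroup.normalizer_eq_top]; exact le_top) (by
    rw [hcardA]
    exact Nat.Coprime.pow_left 2 (Nat.coprime_two_left.2 hOodd))
  rw [hnon, Finset.prod_insert (by simp [hne.symm, hzsz]), Finset.prod_pair hssz] at hf
  have hAC : ∀ t, (t = s ∨ t = s * z) →
      O ⊓ Subgroup.centralizer ({t} : Set G) ⊓ C = O ⊓ Subgroup.centralizer (A : Set G) := by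
    intro t ht
    rw [hA, Subgroup.centralizer_closure, inf_assoc]
    congr 1
    ext x
    simp only [hC, Subgroup.mem_inf, Subgroup.mem_centralizer_iff, Set.mem_singleton_iff, forall_eq, Set.mem_insert_iff,
      forall_eq_or_imp]
    rcases ht with rfl | rfl
    · exact and_comm
    · constructor
      · rintro ⟨h1, h2⟩
        refine ⟨h2, mul_right_cancel (b := z) ?_⟩
        rw [mul_assoc s x z, ← h2, ← mul_assoc, h1, mul_assoc]
      · rintro ⟨h1, h2⟩
        exact ⟨by rw [mul_assoc, h1, ← mul_assoc, h2, mul_assoc], h1⟩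
  rw [hAC s (Or.inl rfl)] at e3 ⊢
  rw [hAC (s * z) (Or.inr rfl)] at e2 ⊢
  refine Nat.eq_of_mul_eq_mul_left (Nat.mul_pos (Nat.mul_pos (Nat.card_pos (α := ↥(O ⊓ Subgroup.centralizer (A : Set G))))
    (Nat.card_pos (α := ↥(O ⊓ Subgroup.centralizer (A : Set G))))) (Nat.card_pos (α := ↥(O ⊓ C)))) ?_
  set N := Nat.card ↥(O ⊓ Subgroup.centralizer (A : Set G))
  calc N * N * Nat.card ↥(O ⊓ C) * (O ⊓ C).relIndex O
      = N * N * Nat.card O := by rw [mul_assoc, e1]
    _ = Nat.card O ^ (2 - 1) * N ^ (2 * (2 - 1)) := by ring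
    _ = Nat.card ↥(O ⊓ C) * (Nat.card ↥(O ⊓ Subgroup.centralizer ({s} : Set G)) *
          Nat.card ↥(O ⊓ Subgroup.centralizer ({s * z} : Set G))) := hf.symm
    _ = _ := by rw [← e2, ← e3]; ring

end Cfsg.Agent.S1186
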