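import Cfsg.Statements.S1187
import Cfsg.Agent.Lib.Fusion.IsolatedSylow

set_option autoImplicit false
open Cfsg
open Cfsg.Agent.Fusion
open scoped commutatorElement

namespace Cfsg.Agent.S1187

/-- Let z be an isolated involution of the finite group G and p a prime. If Q is a p-subgroup normalized by z that is maximal among p-subgroups normalized by z, then Q is a Sylow p-subgroup of G. -/
theorem result {G : Type*} [Group G] [Finite G] (z : G) (hz : Cfsg.IsIsolatedInvolution z) {p : ℕ} [Fact p.Prime] (Q : Subgroup G) (hQ : IsPGroup p Q) (hzQ : z ∈ Subgroup.normalizer (Q : Set G)) (hmax : ∀ R : Subgroup G, IsPGroup p R → z ∈ Subgroup.normalizer (R : Set G) → Q ≤ R → R = Q) : ∃ P : Sylow p G, (P : Subgroup G) = Q := by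
  rcases eq_or_ne p 2 with rfl | hp
  · have hzp : IsPGroup 2 (Subgroup.zpowers z) :=
      IsPGroup.of_card (n := 1) (by rw [Nat.card_zpowers, hz.1, pow_one])
    have hzQ' := Subgroup.zpowers_le.2 hzQ
    have hmem : z ∈ Q := by
      have h := hmax _ (hzp.to_sup_of_normal_right' hQ hzQ') (Subgroup.le_normalizer
        (Subgroup.mem_sup_left (Subgroup.mem_zpowers z))) le_sup_right
      rw [← h]; exact Subgroup.mem_sup_left (Subgroup.mem_zpowers z)
    obtain ⟨P, hP⟩ := hQ.exists_le_sylow
    exact ⟨P, hmax _ P.isPGroup' (Subgroup.le_normalizer (hP hmem)) hP⟩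
  · obtain ⟨P, hQP, hzP⟩ := exists_isolated_invariant_sylow hz hp hQ hzQ
    exact ⟨P, hmax _ P.isPGroup' hzP hQP⟩

end Cfsg.Agent.S1187
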