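import Cfsg.Statements.S1189
import Cfsg.Agent.Lib.Fusion.QuasiDihedralSub

set_option autoImplicit false
open Cfsg Cfsg.Agent
open Cfsg.Agent.Fusion
open scoped commutatorElement

namespace Cfsg.Agent.S1189

/-- A quasi-dihedral 2-group has exactly two conjugacy classes of elements of order 2 and exactly two conjugacy classes of elements of order 4. -/
theorem result {S : Type*} [Group S] [Finite S] (hS : Cfsg.IsQuasiDihedral S) : Nat.card {C : ConjClasses S // ∃ t : S, orderOf t = 2 ∧ ConjClasses.mk t = C} = 2 ∧ Nat.card {C : ConjClasses S // ∃ t : S, orderOf t = 4 ∧ ConjClasses.mk t = C} = 2 := by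
  obtain ⟨n, ⟨D⟩⟩ := exists_qdData' hS
  have hh : D.h = 2 * D.q := D.two_q.symm
  constructor
  · rw [Nat.card_eq_two_iff]
    refine ⟨⟨ConjClasses.mk D.z, D.z, D.orderOf_z, rfl⟩,
      ⟨ConjClasses.mk (D.x ^ (0 : ℤ) * D.y), _, D.refl_orderOf_even Even.zero, rfl⟩, fun h => ?_, ?_⟩
    · obtain ⟨g, hg⟩ := isConj_iff.1 (ConjClasses.mk_eq_mk_iff_isConj.1 (congrArg Subtype.val h))
      rw [← (D.z_central g).eq, mul_inv_cancel_right] at hg
      exact D.refl_ne_rot 0 D.h hg.symm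
    · refine Set.eq_univ_of_forall ?_
      rintro ⟨_, t, ht, rfl⟩
      rcases D.invol_cases ht with rfl | ⟨i, hi, rfl⟩
      · exact Or.inl rfl
      · refine Or.inr (Subtype.ext (ConjClasses.mk_eq_mk_iff_isConj.2 (isConj_iff.2 ?_)))
        obtain ⟨j, hj⟩ := D.conj_same_parity (i := i) (k := 0) (by rw [zero_sub]; exact hi.neg)
        exact ⟨_, hj⟩
  · rw [Nat.card_eq_two_iff]
    have hax : D.x ^ D.q ∈ Subgroup.zpowers D.x := Subgroup.zpow_mem_zpowers _ _
    haveI := Subgroup.normal_of_index_eq_two D.index_zpowers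
    refine ⟨⟨ConjClasses.mk (D.x ^ D.q), _, D.orderOf_a, rfl⟩,
      ⟨ConjClasses.mk (D.x ^ (1 : ℤ) * D.y), _, D.refl_orderOf_odd odd_one, rfl⟩, fun h => ?_, ?_⟩
    · obtain ⟨g, hg⟩ := isConj_iff.1 (ConjClasses.mk_eq_mk_iff_isConj.1 (congrArg Subtype.val h))
      exact D.not_mem_of_refl 1 (hg ▸ Subgroup.Normal.conj_mem inferInstance _ hax g)
    · refine Set.eq_univ_of_forall ?_
      rintro ⟨_, t, ht, rfl⟩
      rcases D.four_cases ht with rfl | rfl | ⟨i, hi, rfl⟩
      · exact Or.inl rfl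
      · exact Or.inl (Subtype.ext (ConjClasses.mk_eq_mk_iff_isConj.2 (isConj_iff.2 ⟨_, D.conj_a 0⟩)).symm)
      · refine Or.inr (Subtype.ext (ConjClasses.mk_eq_mk_iff_isConj.2 (isConj_iff.2 ?_)))
        obtain ⟨j, hj⟩ := D.conj_same_parity (i := i) (k := 1) (by
          obtain ⟨c, rfl⟩ := hi; exact ⟨-c, by ring⟩)
        exact ⟨_, hj⟩

end Cfsg.Agent.S1189
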