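import Cfsg.Statements.S1191
import Cfsg.Agent.Lib.Fusion.QuasiDihedralSub

set_option autoImplicit false
open Cfsg Cfsg.Agent
open Cfsg.Agent.Fusion
open scoped commutatorElement

namespace Cfsg.Agent.S1191

/-- In a quasi-dihedral 2-group S, any two subgroups isomorphic to the quaternion group of order 8 are conjugate, and each such subgroup Q satisfies C_S(Q) = Z(Q) and |N_S(Q) : Q| = 2. -/
theorem result {S : Type*} [Group S] [Finite S] (hS : Cfsg.IsQuasiDihedral S) : (∀ Q₁ Q₂ : Subgroup S, Nonempty (Q₁ ≃* QuaternionGroup 2) → Nonempty (Q₂ ≃* QuaternionGroup 2) → ∃ s : S, Q₁.map (MulAut.conj s).toMonoidHom = Q₂) ∧ (∀ Q : Subgroup S, Nonempty (Q ≃* QuaternionGroup 2) → Subgroup.centralizer (Q : Set S) = (Subgroup.center Q).map Q.subtype ∧ Q.relIndex (Subgroup.normalizer (Q : Set S)) = 2) := by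
  obtain ⟨n, ⟨D⟩⟩ := exists_qdData' hS
  refine ⟨fun Q₁ Q₂ h₁ h₂ => ?_, fun Q hQ => ?_⟩
  · obtain ⟨e₁⟩ := h₁
    obtain ⟨e₂⟩ := h₂
    obtain ⟨i, hi, rfl⟩ := D.quat_eq e₁
    obtain ⟨k, hk, rfl⟩ := D.quat_eq e₂
    obtain ⟨j, hj⟩ := D.conj_same_parity (i := i) (k := k) (hk.sub_odd hi)
    refine ⟨D.x ^ j, ?_⟩
    rw [D.quat_map, QDData.quat, QDData.quat, show D.x ^ (i + (2 - D.h) * j) * D.y = D.x ^ k * D.y from
      (D.conj_refl i j).symm.trans hj]
  · obtain ⟨e⟩ := hQ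
    obtain ⟨i, hi, rfl⟩ := D.quat_eq e
    refine ⟨?_, D.quat_relIndex hi⟩
    have hz : D.z ∈ D.quat i := by
      rw [QDData.z, ← D.two_q, mul_comm]
      exact (D.quat_mem _).2 (Or.inl ⟨2, rfl⟩)
    refine le_antisymm ?_ ?_
    · rw [D.centralizer_quat, Subgroup.zpowers_le]
      exact ⟨⟨D.z, hz⟩, Subgroup.mem_center_iff.2 fun s => Subtype.ext (D.z_central s).eq.symm, rfl⟩
    · rintro _ ⟨c, hc, rfl⟩
      exact Subgroup.mem_centralizer_iff.2 fun s hs => congrArg Subtype.val (Subgroup.mem_center_iff.1 hc ⟨s, hs⟩)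

end Cfsg.Agent.S1191
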