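import Cfsg.Statements.S1192
import Cfsg.Agent.Lib.Fusion.QuasiDihedralMax

set_option autoImplicit false
open Cfsg Cfsg.Agent
open Cfsg.Agent.Fusion
open scoped commutatorElement

namespace Cfsg.Agent.S1192

/-- A quasi-dihedral group S of order 2^(n+1) has exactly three maximal subgroups; one is cyclic, one is isomorphic to the generalized quaternion group of order 2^n and one to the dihedral group of order 2^n. -/
theorem result {S : Type*} [Group S] [Finite S] (hS : Cfsg.IsQuasiDihedral S) (n : ℕ) (hn : Nat.card S = 2 ^ (n + 1)) : ∃ M₁ M₂ M₃ : Subgroup S, IsCoatom M₁ ∧ IsCoatom M₂ ∧ IsCoatom M₃ ∧ M₁ ≠ M₂ ∧ M₁ ≠ M₃ ∧ M₂ ≠ M₃ ∧ (∀ M : Subgroup S, IsCoatom M → M = M₁ ∨ M = M₂ ∨ M = M₃) ∧ IsCyclic M₁ ∧ Nonempty (M₂ ≃* QuaternionGroup (2 ^ (n - 2))) ∧ Nonempty (M₃ ≃* DihedralGroup (2 ^ (n - 1))) := by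
  obtain ⟨D⟩ := exists_qdData hS hn
  have hx : ∀ e : ℤ, Subgroup.zpowers D.x ≠ D.M e := fun e h =>
    D.x_not_mem_M e (h ▸ Subgroup.mem_zpowers D.x)
  refine ⟨Subgroup.zpowers D.x, D.M 1, D.M 0, QDData.coatom_of_index D.index_zpowers,
    QDData.coatom_of_index (D.card_M 1).2, QDData.coatom_of_index (D.card_M 0).2, hx 1, hx 0, fun h => ?_,
    fun M hM => D.coatom_cases hM, inferInstance, D.M_one_quaternion, D.M_zero_dihedral⟩
  have hy := D.refl_mem_M (i := 1) (e := 1) (by simp)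
  rw [h] at hy
  rcases hy with ⟨i, -, hi⟩ | ⟨i, hi, hi'⟩
  · exact D.refl_ne_rot 1 i hi
  · rw [mul_left_inj, D.zpow_eq_iff, ← D.two_h] at hi'
    obtain ⟨c, hc⟩ := hi'
    generalize D.h = w at hc
    obtain ⟨d, hd⟩ := hi
    rw [show 2 * w * c = 2 * (w * c) from mul_assoc _ _ _] at hc
    generalize w * c = v at hc
    omega

end Cfsg.Agent.S1192
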