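import Cfsg.Statements.S1195
import Cfsg.Agent.Lib.Fusion.WreathedSub
import Cfsg.Agent.Lib.Local.ElemAb

set_option autoImplicit false
open Cfsg Cfsg.Agent
open Cfsg.Agent.Fusion
open scoped commutatorElement

namespace Cfsg.Agent.S1195

/-- A wreathed 2-group has exactly three conjugacy classes of elements of order 2. -/
theorem result {S : Type*} [Group S] [Finite S] (hS : Cfsg.IsWreathed S) : Nat.card {C : ConjClasses S // ∃ t : S, orderOf t = 2 ∧ ConjClasses.mk t = C} = 3 := by
  obtain ⟨n, ⟨D⟩⟩ := exists_wrData' hS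
  exact D.classes

end Cfsg.Agent.S1195
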