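import Cfsg.Statements.S1198
import Cfsg.Agent.Lib.Fusion.WreathedSub
import Cfsg.Agent.Lib.Local.ElemAb

set_option autoImplicit false
open Cfsg Cfsg.Agent
open Cfsg.Agent.Fusion
open scoped commutatorElement

namespace Cfsg.Agent.S1198

/-- A wreathed 2-group S has a normal Klein four-subgroup T such that every Klein four-subgroup of S other than T is conjugate in S to any other such subgroup; in particular S has exactly two conjugacy classes of Klein four-subgroups. -/
theorem result {S : Type*} [Group S] [Finite S] (hS : Cfsg.IsWreathed S) : ∃ T : Subgroup S, IsKleinFour T ∧ T.Normal ∧ (∃ T₀ : Subgroup S, IsKleinFour T₀ ∧ T₀ ≠ T) ∧ ∀ T₁ T₂ : Subgroup S, IsKleinFour T₁ → IsKleinFour T₂ → T₁ ≠ T → T₂ ≠ T → ∃ s : S, T₁.map (MulAut.conj s).toMonoidHom = T₂ := by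
  obtain ⟨n, ⟨D⟩⟩ := exists_wrData' hS
  haveI := Subgroup.normal_of_index_eq_two D.index_A
  let T : Subgroup S :=
    { carrier := {s | s ∈ D.A ∧ s * s = 1}
      one_mem' := ⟨one_mem _, one_mul 1⟩
      mul_mem' := fun {a b} ha hb => ⟨mul_mem ha.1 hb.1, by
        rw [show a * b * (a * b) = a * (b * a) * b by group, ← D.A_comm ha.1 hb.1,
          show a * (a * b) * b = (a * a) * (b * b) by group, ha.2, hb.2, one_mul]⟩
      inv_mem' := fun {a} ha => ⟨inv_mem ha.1, by rw [← mul_inv_rev, ha.2, inv_one]⟩ }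
  have hTA : T ≤ D.A := fun s hs => hs.1
  have hT4 : Nat.card T = 4 := by
    have hmem : ∀ a b : Fin 2, D.el (D.h * (a.val : ℤ)) (D.h * (b.val : ℤ)) ∈ T := fun a b =>
      ⟨D.el_mem _ _, by
        rw [D.el_mul, D.el_eq_one, D.N_eq]
        exact ⟨⟨(a.val : ℤ), by ring⟩, ⟨(b.val : ℤ), by ring⟩⟩⟩
    have hf : Function.Bijective (fun p : Fin 2 × Fin 2 => (⟨_, hmem p.1 p.2⟩ : T)) := by
      constructor
      · rintro ⟨a, b⟩ ⟨c, d⟩ he
        obtain ⟨h1, h2⟩ := (D.el_eq_iff _ _ _ _).1 (congrArg Subtype.val he)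
        have key : ∀ x y : Fin 2, D.N ∣ D.h * (x.val : ℤ) - D.h * (y.val : ℤ) → x = y := by
          intro x y hd
          rw [← mul_sub, D.N_eq, mul_comm 2, mul_dvd_mul_iff_left D.h_pos.ne'] at hd
          exact Fin.ext (by have := x.isLt; have := y.isLt; omega)
        exact Prod.ext (key _ _ h1) (key _ _ h2)
      · rintro ⟨_, ⟨i, j, rfl⟩, hs⟩
        obtain ⟨hi, hj⟩ := D.sq_el_eq_one hs
        have key : ∀ i : ℤ, D.h ∣ i → ∃ a : Fin 2, D.N ∣ D.h * (a.val : ℤ) - i := fun i hi => by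
          rcases D.h_dvd_cases hi with h | h
          · exact ⟨0, by simpa using h⟩
          · exact ⟨1, by simpa [dvd_sub_comm] using h⟩
        obtain ⟨a, ha⟩ := key i hi
        obtain ⟨b, hb⟩ := key j hj
        exact ⟨(a, b), Subtype.ext ((D.el_eq_iff _ _ _ _).2 ⟨ha, hb⟩)⟩
    rw [← Nat.card_eq_of_bijective _ hf, Nat.card_prod, Nat.card_fin]
  have hTel : Cfsg.IsElementaryAbelian 2 T := ⟨⟨⟨fun a b => Subtype.ext (D.A_comm a.2.1 b.2.1)⟩⟩,
    fun a ha => by rw [sq]; exact ha.2⟩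
  have hTn : T.Normal := ⟨fun s hs g => ⟨Subgroup.Normal.conj_mem inferInstance _ hs.1 g, by
    rw [show g * s * g⁻¹ * (g * s * g⁻¹) = g * (s * s) * g⁻¹ by group, hs.2]; group⟩⟩
  have hout : ∀ {U : Subgroup S}, IsKleinFour U → U ≠ T →
      ∃ i : ℤ, U = Subgroup.closure ({D.el D.h D.h, D.el i (-i) * D.t} : Set S) := by
    intro U hU hne
    haveI := hU
    refine (D.four_cases hU).resolve_left fun hle => hne ?_
    refine Subgroup.eq_of_le_of_card_ge (fun u hu => ⟨hle hu,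
      congrArg Subtype.val (IsKleinFour.mul_self (⟨u, hu⟩ : U))⟩) (by rw [hT4, hU.card_four])
  refine ⟨T, Local.elemAb_isKleinFour hTel hT4, hTn, ⟨Subgroup.closure ({D.el D.h D.h, D.el 0 (-0) * D.t} : Set S), ?_, ?_⟩, ?_⟩
  · obtain ⟨u, hu⟩ : ∃ u, u = D.el 0 (-0) * D.t := ⟨_, rfl⟩
    rw [← hu]
    have hu2 : u * u = 1 := by rw [hu]; exact invol_mul_self (D.outer_invol 0)
    have hz2 : D.el D.h D.h * D.el D.h D.h = 1 := invol_mul_self
      (D.el_h_order dvd_rfl dvd_rfl (fun h' => D.not_N_dvd_h h'.1))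
    have hel := Local.elemAb_sup (A := Subgroup.zpowers (D.el D.h D.h)) (B := Subgroup.zpowers u)
      (Local.elemAb_zpowers (p := 2) (by rw [sq]; exact hz2)) (Local.elemAb_zpowers (by rw [sq]; exact hu2))
      (fun a ha b _ => by
        have hac : a ∈ Subgroup.center S := Subgroup.zpowers_le.2 (D.diag_central D.h) ha
        exact (Subgroup.mem_center_iff.1 hac b).symm)
    have heq : Subgroup.closure ({D.el D.h D.h, u} : Set S) = Subgroup.zpowers (D.el D.h D.h) ⊔ Subgroup.zpowers u := by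
      rw [Subgroup.zpowers_eq_closure, Subgroup.zpowers_eq_closure, ← Subgroup.closure_union, Set.insert_eq]
    rw [heq]
    refine Local.elemAb_isKleinFour hel (le_antisymm ?_ ?_)
    · have h1 : ¬ Subgroup.zpowers (D.el D.h D.h) ⊔ Subgroup.zpowers u ≤ D.A := fun hle =>
        D.out_not_mem 0 (-0) (hu ▸ hle (Subgroup.mem_sup_right (Subgroup.mem_zpowers _)))
      have h2 : (Subgroup.zpowers (D.el D.h D.h) ⊔ Subgroup.zpowers u) ⊓ D.A ≤ T := fun s hs =>
        ⟨(Subgroup.mem_inf.1 hs).2, by rw [← sq]; exact hel.2 _ (Subgroup.mem_inf.1 hs).1⟩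
      have h3 : (Subgroup.zpowers (D.el D.h D.h) ⊔ Subgroup.zpowers u) ⊓ D.A ≤
          Subgroup.zpowers (D.el 1 1) := fun s hs => by
        obtain ⟨hs1, i, j, rfl⟩ := Subgroup.mem_inf.1 hs
        have hc := Local.elemAb_commute hel hs1 (Subgroup.mem_sup_right (Subgroup.mem_zpowers u))
        rw [hu] at hc
        refine ⟨i, ?_⟩
        show D.el 1 1 ^ i = D.el i j
        rw [D.el_zpow, D.el_eq_iff, one_mul, sub_self]
        exact ⟨dvd_zero _, (D.commute_out_el 0 (-0) i j).1 hc⟩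
      have h4 := Subgroup.card_le_of_le (le_inf h2 h3)
      have h5 : Nat.card ↥(T ⊓ Subgroup.zpowers (D.el 1 1)) ≤ 2 := by
        by_contra hgt
        have hd := Subgroup.card_dvd_of_le (inf_le_left : T ⊓ Subgroup.zpowers (D.el 1 1) ≤ T)
        rw [hT4] at hd
        have hle4 := Nat.le_of_dvd (by norm_num) hd
        have h6 : Nat.card ↥(T ⊓ Subgroup.zpowers (D.el 1 1)) = 4 := by
          interval_cases h : Nat.card ↥(T ⊓ Subgroup.zpowers (D.el 1 1)) <;> omega
        have h7 : T ⊓ Subgroup.zpowers (D.el 1 1) = T :=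
          Subgroup.eq_of_le_of_card_ge inf_le_left (by rw [h6, hT4])
        have h8 : D.el D.h 0 ∈ T :=
          ⟨D.el_mem _ _, invol_mul_self (D.el_h_order dvd_rfl (dvd_zero _) (fun h' => D.not_N_dvd_h h'.1))⟩
        rw [← h7] at h8
        obtain ⟨k, hk⟩ := Subgroup.mem_zpowers_iff.1 (Subgroup.mem_inf.1 h8).2
        rw [D.el_zpow, D.el_eq_iff, one_mul, sub_zero] at hk
        refine D.not_N_dvd_h ?_
        have := dvd_sub hk.2 hk.1
        rwa [sub_sub_cancel] at this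
      have := D.card_eq_two_mul _ h1
      omega
    · have hlt : Subgroup.zpowers (D.el D.h D.h) < Subgroup.zpowers (D.el D.h D.h) ⊔ Subgroup.zpowers u :=
        lt_of_le_of_ne le_sup_left fun h => D.out_not_mem 0 (-0) (hu ▸
          (Subgroup.zpowers_le.2 (D.el_mem D.h D.h)) (h ▸ Subgroup.mem_sup_right (Subgroup.mem_zpowers u)))
      have := Local.two_mul_card_le hel hlt
      rw [Nat.card_zpowers, D.el_h_order dvd_rfl dvd_rfl (fun h' => D.not_N_dvd_h h'.1)] at this
      omega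
  · intro h
    exact D.out_not_mem 0 (-0) (hTA (h ▸ Subgroup.subset_closure (by simp)))
  · intro T₁ T₂ h₁ h₂ n₁ n₂
    obtain ⟨i, rfl⟩ := hout h₁ n₁
    obtain ⟨k, rfl⟩ := hout h₂ n₂
    refine ⟨D.el (k - i) 0, ?_⟩
    rw [MonoidHom.map_closure, Set.image_pair]
    congr 2
    · show D.el (k - i) 0 * D.el D.h D.h * (D.el (k - i) 0)⁻¹ = _
      rw [D.A_comm (D.el_mem _ _) (D.el_mem _ _), mul_inv_cancel_right]
    · rw [Set.singleton_eq_singleton_iff]
      show D.el (k - i) 0 * (D.el i (-i) * D.t) * (D.el (k - i) 0)⁻¹ = _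
      rw [D.conj_out]; ring_nf

end Cfsg.Agent.S1198
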