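import Cfsg.Statements.S1202
import Cfsg.Agent.Lib.Fusion.WreathedE
import Cfsg.Agent.Lib.Fusion.OmegaSeries
import Cfsg.Agent.Lib.Fusion.Basic

set_option autoImplicit false
set_option linter.unusedSectionVars false
open Cfsg
open Cfsg.Agent.Fusion
open scoped commutatorElement

namespace Cfsg.Agent.S1202

section
variable {S : Type*} [Group S] [Finite S] {n : ℕ} (D : WRData S n)

theorem odd_swap_fix {α : Type*} [Group α] (φ : MulAut α) (ho : Odd (orderOf φ)) {e : α} (h2 : φ (φ e) = e) :
    φ e = e := by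
  obtain ⟨k, hk⟩ := ho
  have hsq : ∀ m : ℕ, (φ ^ (2 * m)) e = e := by
    intro m
    induction m with
    | zero => simp
    | succ m ih => rw [show 2 * (m + 1) = 2 * m + 1 + 1 by ring, pow_succ, pow_succ, MulAut.mul_apply, MulAut.mul_apply, h2, ih]
  have h1 : (φ ^ (2 * k + 1)) e = e := by rw [← hk, pow_orderOf_eq_one]; rfl
  rwa [pow_succ', MulAut.mul_apply, hsq] at h1

/-- An odd automorphism fixes a commutative invariant set with fixed involutions. -/
theorem fix_of_invols {α : Type*} [Group α] [Finite α] (hα : IsPGroup 2 α) (φ : MulAut α) (ho : Odd (orderOf φ))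
    (M : Subgroup α) (hM : ∀ a ∈ M, φ a ∈ M) (hc : ∀ a ∈ M, ∀ b ∈ M, a * b = b * a)
    (hi : ∀ a ∈ M, orderOf a = 2 → φ a = a) : ∀ a ∈ M, φ a = a := by
  haveI : Fact (Nat.Prime 2) := ⟨Nat.prime_two⟩
  intro a ha
  induction hk : orderOf a using Nat.strong_induction_on generalizing a with
  | _ k ih =>
    subst hk
    by_cases ha1 : a = 1
    · rw [ha1, map_one]
    obtain ⟨m, hm⟩ := IsPGroup.iff_orderOf.1 hα a
    have hm0 : m ≠ 0 := fun h => ha1 (orderOf_eq_one_iff.1 (by rw [hm, h, pow_zero]))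
    have hlt : orderOf (a ^ 2) < orderOf a := by
      rw [orderOf_pow_of_dvd two_ne_zero (by rw [hm]; exact dvd_pow_self 2 hm0)]
      exact Nat.div_lt_self (orderOf_pos a) one_lt_two
    have hsq := ih _ hlt (a ^ 2) (pow_mem ha 2) rfl
    have hz : a⁻¹ * φ a ∈ M := mul_mem (inv_mem ha) (hM a ha)
    have hz2 : (a⁻¹ * φ a) ^ 2 = 1 := by
      rw [(show Commute a⁻¹ (φ a) from hc _ (inv_mem ha) _ (hM a ha)).mul_pow, ← map_pow, hsq, inv_pow, inv_mul_cancel]
    refine aut_fix_step hα φ (by obtain ⟨k, hk⟩ := ho; rw [Nat.coprime_two_right]; exact ⟨k, hk⟩) a ?_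
    by_cases hz1 : a⁻¹ * φ a = 1
    · rw [hz1, map_one]
    · exact hi _ hz (orderOf_eq_prime hz2 hz1)

include D

theorem center_fixed_invol {X : Subgroup S} (hZX : Subgroup.center S ≤ X) (φ : MulAut X) :
    φ ⟨D.el D.h D.h, hZX (D.diag_central _)⟩ ∈ (Subgroup.center S).subgroupOf X →
      φ ⟨D.el D.h D.h, hZX (D.diag_central _)⟩ = ⟨D.el D.h D.h, hZX (D.diag_central _)⟩ := by
  intro h
  obtain ⟨y, hy⟩ : ∃ y, y = φ ⟨D.el D.h D.h, hZX (D.diag_central _)⟩ := ⟨_, rfl⟩
  have ho : orderOf (y : S) = 2 := by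
    rw [hy, Subgroup.orderOf_coe, MulEquiv.orderOf_eq, Subgroup.orderOf_mk]
    exact D.el_h_order dvd_rfl dvd_rfl (fun h' => D.not_N_dvd_h h'.1)
  rw [← hy] at h ⊢
  refine Subtype.ext ?_
  show (y : S) = D.el D.h D.h
  rcases D.invol_cases ho with e | e | e | ⟨i, e⟩
  · exfalso
    have h' : (D.el D.h 0) ∈ Subgroup.center S := e ▸ h
    rw [D.center_eq, Subgroup.mem_zpowers_iff] at h'
    obtain ⟨k, hk⟩ := h'
    rw [D.el_zpow, D.el_eq_iff, one_mul, sub_zero] at hk
    have := dvd_sub hk.2 hk.1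
    rw [sub_sub_cancel] at this
    exact D.not_N_dvd_h this
  · exfalso
    have h' : (D.el 0 D.h) ∈ Subgroup.center S := e ▸ h
    rw [D.center_eq, Subgroup.mem_zpowers_iff] at h'
    obtain ⟨k, hk⟩ := h'
    rw [D.el_zpow, D.el_eq_iff, one_mul, sub_zero] at hk
    have := dvd_sub hk.1 hk.2
    rw [sub_sub_cancel] at this
    exact D.not_N_dvd_h this
  · exact e
  · exact absurd (D.center_le_A (e ▸ h)) (D.out_not_mem i (-i))

/-- Self-centralizing subgroups with automorphisms of odd order. -/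
theorem classify (X : Subgroup S) (hC : Subgroup.centralizer (X : Set S) ≤ X) (hA : ¬ IsPGroup 2 (MulAut X)) :
    X = D.A ∨ ∃ i : ℤ, X = D.E i := by
  haveI : Fact (Nat.Prime 2) := ⟨Nat.prime_two⟩
  have hZX : Subgroup.center S ≤ X := (Subgroup.center_le_centralizer _).trans hC
  by_cases hXA : X ≤ D.A
  · left
    exact le_antisymm hXA ((Subgroup.le_centralizer_iff.1 fun x hx => Subgroup.mem_centralizer_iff.2 fun a ha =>
      D.A_comm ha (hXA hx)).trans hC)
  right
  have hXp : IsPGroup 2 ↥X := D.isPGroup.to_subgroup X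
  -- an automorphism of odd order
  obtain ⟨q, hq, hq2, hdvd⟩ : ∃ q : ℕ, q.Prime ∧ q ≠ 2 ∧ q ∣ Nat.card (MulAut X) := by
    by_contra hno
    push Not at hno
    exact hA (IsPGroup.of_card (n := (Nat.card (MulAut X)).factorization 2)
      (Nat.eq_pow_of_factorization_eq_single Nat.card_pos.ne' (Finsupp.ext fun r => by
        by_cases hr : r = 2
        · rw [hr, Finsupp.single_eq_same]
        · rw [Finsupp.single_eq_of_ne hr]
          by_cases hrp : r.Prime
          · exact Nat.factorization_eq_zero_of_not_dvd (fun hd => hr (by by_contra h; exact hno r hrp h hd))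
          · exact Nat.factorization_eq_zero_of_not_prime _ hrp)))
  haveI := Fact.mk hq
  obtain ⟨φ, hφ⟩ := exists_prime_orderOf_dvd_card' q hdvd
  have ho : Odd (orderOf φ) := hφ ▸ hq.odd_of_ne_two hq2
  have hne : φ ≠ 1 := fun h => hq.ne_one (by rw [← hφ, h, orderOf_one])
  have hco : (orderOf φ).Coprime 2 := Nat.coprime_two_right.2 ho
  obtain ⟨b, hbX, hbA⟩ := SetLike.not_le_iff_exists.1 hXA
  obtain ⟨a₀, c₀, hb | hb⟩ := D.exists_form b
  · exact absurd (hb ▸ D.el_mem a₀ c₀) hbA
  set u : ↥X := ⟨D.el D.h D.h, hZX (D.diag_central _)⟩ with hu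
  have hu_ne : (u : S) ≠ 1 := fun h => D.not_N_dvd_h ((D.el_eq_one _ _).1 h).1
  have hor2 : ∀ x : ↥X, orderOf x = 2 → orderOf (x : S) = 2 := fun x hx => by rwa [Subgroup.orderOf_coe]
  by_cases hcomm : ∀ x y : ↥X, x * y = y * x
  · -- the abelian case
    exfalso
    have hcS : ∀ x ∈ X, ∀ y ∈ X, x * y = y * x := fun x hx y hy => congrArg Subtype.val (hcomm ⟨x, hx⟩ ⟨y, hy⟩)
    have hXA2 : ∀ x : ↥X, (x : S) ∈ D.A → (x : S) ∈ Subgroup.center S := fun x hx =>
      D.mem_center_of_commute_out hx hbA (hcS _ x.2 _ hbX)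
    have hu4 : u = (⟨D.el D.q4 D.q4, hZX (D.diag_central _)⟩ : ↥X) ^ 2 := Subtype.ext (by
      rw [SubgroupClass.coe_pow, sq, D.el_mul, ← two_mul, D.two_q4])
    have hsqc : ∀ x : ↥X, ((x ^ 2 : ↥X) : S) ∈ Subgroup.center S := fun x => by
      refine hXA2 _ ?_
      rw [SubgroupClass.coe_pow, sq]
      exact (Subgroup.mul_mem_iff_of_index_two D.index_A).2 Iff.rfl
    have hufix : φ u = u := center_fixed_invol D hZX φ (by
      rw [Subgroup.mem_subgroupOf]
      show ((φ u : ↥X) : S) ∈ Subgroup.center S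
      rw [hu4, map_pow]
      exact hsqc _)
    refine hne (MulEquiv.ext fun x => fix_of_invols hXp φ ho ⊤ (fun _ _ => Subgroup.mem_top _)
      (fun a _ b _ => hcomm a b) (fun v _ hv => ?_) x (Subgroup.mem_top _))
    by_cases hvA : (v : S) ∈ D.A
    · have hvu : v = u := by
        refine Subtype.ext ?_
        show (v : S) = D.el D.h D.h
        rcases D.invol_cases (hor2 v hv) with e | e | e | ⟨i, e⟩
        · have := hXA2 v hvA
          rw [e] at this
          exact absurd this fun h' => by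
            rw [D.center_eq, Subgroup.mem_zpowers_iff] at h'
            obtain ⟨k, hk⟩ := h'
            rw [D.el_zpow, D.el_eq_iff, one_mul, sub_zero] at hk
            have := dvd_sub hk.2 hk.1
            rw [sub_sub_cancel] at this
            exact D.not_N_dvd_h this
        · have := hXA2 v hvA
          rw [e] at this
          exact absurd this fun h' => by
            rw [D.center_eq, Subgroup.mem_zpowers_iff] at h'
            obtain ⟨k, hk⟩ := h'
            rw [D.el_zpow, D.el_eq_iff, one_mul, sub_zero] at hk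
            have := dvd_sub hk.1 hk.2
            rw [sub_sub_cancel] at this
            exact D.not_N_dvd_h this
        · exact e
        · exact absurd (e ▸ hvA) (D.out_not_mem i (-i))
      rw [hvu, hufix]
    · have hout : ∀ w : ↥X, orderOf w = 2 → w ≠ u → (w : S) ∉ D.A := fun w hw hwu hwA => by
        refine hwu (Subtype.ext ?_)
        show (w : S) = D.el D.h D.h
        rcases D.invol_cases (hor2 w hw) with e | e | e | ⟨i, e⟩
        · exfalso
          have h' := hcS _ w.2 _ hbX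
          rw [e, hb] at h'
          have := (D.commute_out_el _ _ _ _).1 h'
          rw [sub_zero] at this
          exact D.not_N_dvd_h this
        · exfalso
          have h' := hcS _ w.2 _ hbX
          rw [e, hb] at h'
          have := (D.commute_out_el _ _ _ _).1 h'
          rw [zero_sub, dvd_neg] at this
          exact D.not_N_dvd_h this
        · exact e
        · exact absurd (e ▸ hwA) (D.out_not_mem i (-i))
      have hpair : ∀ w : ↥X, orderOf w = 2 → w ≠ u → w = v ∨ w = v * u := by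
        intro w hw hwu
        obtain ⟨k, hk⟩ : ∃ k : ℤ, (w : S) = D.el k (-k) * D.t := by
          rcases D.invol_cases (hor2 w hw) with e | e | e | h
          · exact absurd (e ▸ D.el_mem _ _) (hout w hw hwu)
          · exact absurd (e ▸ D.el_mem _ _) (hout w hw hwu)
          · exact absurd (e ▸ D.el_mem _ _) (hout w hw hwu)
          · exact h
        obtain ⟨i, hi⟩ : ∃ i : ℤ, (v : S) = D.el i (-i) * D.t := by
          rcases D.invol_cases (hor2 v hv) with e | e | e | h
          · exact absurd (e ▸ D.el_mem _ _) hvA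
          · exact absurd (e ▸ D.el_mem _ _) hvA
          · exact absurd (e ▸ D.el_mem _ _) hvA
          · exact h
        have hcm : Commute (D.el k (-k) * D.t) (D.el i (-i) * D.t) := hk ▸ hi ▸ hcS _ w.2 _ v.2
        rcases D.refl_commute hcm with e | e
        · exact Or.inl (Subtype.ext (hk.trans (e.trans hi.symm)))
        · refine Or.inr (Subtype.ext ?_)
          rw [Subgroup.coe_mul, hi]
          exact hk.trans e
      have hφv : φ v ≠ u := fun h => hvA (by
        have hvu : v = u := φ.injective (h.trans hufix.symm)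
        rw [hvu]; exact D.el_mem _ _)
      rcases hpair (φ v) ((φ.orderOf_eq v).trans hv) hφv with h | h
      · exact h
      · refine odd_swap_fix φ ho ?_
        rw [h, map_mul, h, hufix, mul_assoc]
        have : u * u = 1 := Subtype.ext (invol_mul_self (D.el_h_order dvd_rfl dvd_rfl (fun h' => D.not_N_dvd_h h'.1)))
        rw [this, mul_one]
  -- the nonabelian case
  push Not at hcomm
  have hZc : Subgroup.center ↥X = (Subgroup.center S).subgroupOf X := by
    refine le_antisymm (fun c hc => ?_) fun c hc => Subgroup.mem_center_iff.2 fun y =>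
      Subtype.ext (Subgroup.mem_center_iff.1 hc y)
    rw [Subgroup.mem_subgroupOf]
    by_cases hcA : (c : S) ∈ D.A
    · exact D.mem_center_of_commute_out hcA hbA (congrArg Subtype.val (Subgroup.mem_center_iff.1 hc ⟨b, hbX⟩).symm)
    · exfalso
      obtain ⟨x, y, hxy⟩ := hcomm
      have hz : ∀ w : ↥X, (w : S) ∈ D.A → w ∈ Subgroup.center ↥X := fun w hw =>
        Subgroup.mem_center_iff.2 fun g => Subtype.ext (Subgroup.mem_center_iff.1 (D.mem_center_of_commute_out hw hcA
          (congrArg Subtype.val (Subgroup.mem_center_iff.1 hc w))) g)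
      have hz2 : ∀ w : ↥X, w ∈ Subgroup.center ↥X := fun w => by
        by_cases hw : (w : S) ∈ D.A
        · exact hz w hw
        · have h1 : ((w * c : ↥X) : S) ∈ D.A := (Subgroup.mul_mem_iff_of_index_two D.index_A).2 (iff_of_false hw hcA)
          have := mul_mem (hz _ h1) (inv_mem hc)
          rwa [mul_inv_cancel_right] at this
      exact hxy (Subgroup.mem_center_iff.1 (hz2 y) x)
  set XA := D.A.subgroupOf X with hXAdef
  -- an odd automorphism preserving the intersection with `A` is trivial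
  have hmove : ∃ x ∈ XA, φ x ∉ XA := by
    by_contra hno
    push Not at hno
    have hufix : φ u = u := center_fixed_invol D hZX φ (by
      rw [← hZc]
      exact (Subgroup.characteristic_iff_map_eq.1 (inferInstance : (Subgroup.center ↥X).Characteristic) φ).le
        ⟨u, hZc ▸ (D.diag_central _ : (u : S) ∈ Subgroup.center S), rfl⟩)
    have hA' : ∀ x ∈ XA, φ x = x := by
      refine fix_of_invols hXp φ ho XA hno (fun a ha b hb => Subtype.ext (D.A_comm ha hb)) fun v hv hv2 => ?_
      have hcases : ∀ w ∈ XA, orderOf w = 2 → (w : S) = D.el D.h D.h ∨ (w : S) = D.el D.h 0 ∨ (w : S) = D.el 0 D.h := by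
        intro w hw hw2
        rcases D.invol_cases (hor2 w hw2) with e | e | e | ⟨i, e⟩
        · exact Or.inr (Or.inl e)
        · exact Or.inr (Or.inr e)
        · exact Or.inl e
        · exact absurd (e ▸ hw) (D.out_not_mem i (-i))
      rcases hcases v hv hv2 with hvu | hv'
      · rw [show v = u from Subtype.ext hvu, hufix]
      have h1 := hcases (φ v) (hno v hv) ((φ.orderOf_eq v).trans hv2)
      rcases h1 with h | h
      · have : v = u := φ.injective ((show φ v = u from Subtype.ext h).trans hufix.symm)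
        rw [this, hufix]
      have hrel : D.el D.h 0 * D.el D.h D.h = D.el 0 D.h := D.el_zero_h.symm
      have huu : D.el D.h D.h * D.el D.h D.h = 1 :=
        invol_mul_self (D.el_h_order dvd_rfl dvd_rfl (fun h' => D.not_N_dvd_h h'.1))
      by_cases hsame : ((φ v : ↥X) : S) = (v : S)
      · exact Subtype.ext hsame
      have hvv : φ v = v * u := Subtype.ext (by
        show ((φ v : ↥X) : S) = (v : S) * D.el D.h D.h
        rcases hv' with e | e <;> rcases h with e' | e'
        · exact absurd (e'.trans e.symm) hsame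
        · rw [e', e, hrel]
        · rw [e', e, ← hrel, mul_assoc, huu, mul_one]
        · exact absurd (e'.trans e.symm) hsame)
      refine odd_swap_fix φ ho ?_
      rw [hvv, map_mul, hvv, hufix, mul_assoc, show u * u = 1 from Subtype.ext huu, mul_one]
    refine hne (MulEquiv.ext fun x => ?_)
    show φ x = x
    by_cases hx : x ∈ XA
    · exact hA' x hx
    · refine aut_fix_step hXp φ hco x (hA' _ ?_)
      have hfx : φ x ∉ XA := fun h => hx (φ.injective (hA' _ h) ▸ h)
      exact (Subgroup.mul_mem_iff_of_index_two D.index_A).2 (iff_of_false (fun h => hx (inv_mem_iff.1 h)) hfx)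
  obtain ⟨y, hyA, hyφ⟩ := hmove
  -- so `X ∩ A` is small
  have hcen : ∀ x ∈ XA, φ x ∈ XA → x ∈ Subgroup.center ↥X := by
    intro x hx hxφ
    have h1 : φ x * φ y = φ y * φ x := by
      rw [← map_mul, ← map_mul, show x * y = y * x from Subtype.ext (D.A_comm hx hyA)]
    have h2 : ((φ x : ↥X) : S) ∈ Subgroup.center S :=
      D.mem_center_of_commute_out hxφ hyφ (congrArg Subtype.val h1)
    have h3 : φ x ∈ Subgroup.center ↥X := hZc ▸ (h2 : φ x ∈ (Subgroup.center S).subgroupOf X)
    rw [← φ.symm_apply_apply x]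
    exact (Subgroup.characteristic_iff_map_eq.1 (inferInstance : (Subgroup.center ↥X).Characteristic) φ.symm).le
      ⟨_, h3, rfl⟩
  have hXAsmall : ∀ x ∈ XA, x ∈ Subgroup.center ↥X ∨ x * y⁻¹ ∈ Subgroup.center ↥X := by
    intro x hx
    by_cases hxφ : φ x ∈ XA
    · exact Or.inl (hcen x hx hxφ)
    · refine Or.inr (hcen _ (mul_mem hx (inv_mem hyA)) ?_)
      rw [map_mul, map_inv]
      exact (Subgroup.mul_mem_iff_of_index_two D.index_A).2 (iff_of_false hxφ fun h => hyφ (inv_mem_iff.1 h))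
  obtain ⟨k, l, hy⟩ := (show (y : S) ∈ D.A from hyA)
  have hyh : D.h ∣ k - l := by
    have hy2 : (y * y : ↥X) ∈ Subgroup.center ↥X := hcen _ (mul_mem hyA hyA) (by
      rw [map_mul]; exact (Subgroup.mul_mem_iff_of_index_two D.index_A).2 Iff.rfl)
    have h' : ((y * y : ↥X) : S) ∈ Subgroup.center S := by rw [hZc] at hy2; exact hy2
    rw [Subgroup.coe_mul, hy, D.el_mul, D.center_eq, Subgroup.mem_zpowers_iff] at h'
    obtain ⟨m, hm⟩ := h'
    rw [D.el_zpow, D.el_eq_iff, one_mul] at hm
    have h1 : D.N ∣ 2 * (k - l) := by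
      rw [show 2 * (k - l) = (m - (l + l)) - (m - (k + k)) by ring]; exact dvd_sub hm.2 hm.1
    rwa [D.N_eq, mul_dvd_mul_iff_left two_ne_zero] at h1
  have heX : D.el D.h 0 ∈ X := by
    rcases D.h_dvd_cases hyh with h | h
    · exfalso
      refine hyφ ?_
      have hyc : y ∈ Subgroup.center ↥X := by
        rw [hZc, Subgroup.mem_subgroupOf, hy, show D.el k l = D.el l l from (D.el_eq_iff _ _ _ _).2 ⟨h, by simp⟩]
        exact D.diag_central l
      have := (Subgroup.characteristic_iff_map_eq.1 (inferInstance : (Subgroup.center ↥X).Characteristic) φ).le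
        ⟨y, hyc, rfl⟩
      rw [hZc] at this
      exact D.center_le_A this
    · rw [show D.el D.h 0 = (y : S) * D.el (-l) (-l) by
        rw [hy, D.el_mul, D.el_eq_iff]
        exact ⟨by rw [show D.h - (k + -l) = -(k - l - D.h) by ring]; exact h.neg_right, by simp⟩]
      exact mul_mem y.2 (hZX (D.diag_central _))
  -- the image of `y` is an outer element of small order
  obtain ⟨a, c, hz | hz⟩ := D.exists_form ((φ y : ↥X) : S)
  · exact absurd (show ((φ y : ↥X) : S) ∈ D.A from hz ▸ D.el_mem a c) hyφ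
  have h4 : D.N ∣ 2 ^ (n - 1) * (a + c) := by
    have hn := D.hn
    have h1 : φ y ^ (2 ^ n) = 1 := by
      rw [← map_pow, show y ^ 2 ^ n = 1 from Subtype.ext (by
        rw [SubgroupClass.coe_pow, hy, ← zpow_natCast, D.el_zpow, OneMemClass.coe_one, D.el_eq_one]
        push_cast; simp [WRData.N]), map_one]
    have h2 := congrArg Subtype.val h1
    rw [SubgroupClass.coe_pow, hz, show 2 ^ n = 2 * 2 ^ (n - 1) by rw [← pow_succ']; congr 1; omega, pow_mul, sq,
      D.out_sq, OneMemClass.coe_one, ← zpow_natCast, D.el_zpow, D.el_eq_one] at h2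
    push_cast at h2
    rw [mul_comm]
    exact h2.1
  obtain ⟨d, hd⟩ : (2 : ℤ) ∣ a + c := by
    have hn := D.hn
    rw [D.N_eq, show (2 : ℤ) ^ (n - 1) = D.h from rfl, mul_comm 2, mul_dvd_mul_iff_left D.h_pos.ne'] at h4
    exact h4
  obtain ⟨i, hi⟩ : ∃ i : ℤ, a - c = 2 * i := ⟨d - c, by linear_combination hd⟩
  refine ⟨i, le_antisymm (fun x hx => ?_) ?_⟩
  · have hzE : ((φ y : ↥X) : S) ∈ D.E i := hz ▸ D.out_mem_E.2 (by rw [hi, sub_self]; exact dvd_zero _)
    have hin : ∀ w : ↥X, w ∈ XA → (w : S) ∈ D.E i := by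
      intro w hw
      have hyE : (y : S) ∈ D.E i := hy ▸ D.el_mem_E.2 hyh
      rcases hXAsmall w hw with h | h
      · rw [hZc] at h; exact D.center_le_E i h
      · rw [hZc, Subgroup.mem_subgroupOf, Subgroup.coe_mul] at h
        have := mul_mem (D.center_le_E i h) hyE
        simpa using this
    by_cases hxA : x ∈ D.A
    · exact hin ⟨x, hx⟩ hxA
    · have h1 := hin (⟨x, hx⟩ * φ y) ((Subgroup.mul_mem_iff_of_index_two D.index_A).2 (iff_of_false hxA hyφ))
      rw [Subgroup.coe_mul] at h1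
      exact (Subgroup.mul_mem_cancel_right _ hzE).1 h1
  · refine D.E_le_iff hZX heX ?_
    rw [show D.el i (-i) * D.t = D.el (-d) (-d) * ((φ y : ↥X) : S) by
      rw [hz, ← mul_assoc, D.el_mul, mul_left_inj, D.el_eq_iff]
      refine ⟨?_, ?_⟩
      · rw [show i - (-d + a) = 0 by linarith, ]; exact dvd_zero _
      · rw [show -i - (-d + c) = 0 by linarith]; exact dvd_zero _]
    exact mul_mem (hZX (D.diag_central _)) (φ y).2

theorem exists_quaternion (i : ℤ) : ∃ Q : Subgroup S, Nonempty (Q ≃* QuaternionGroup 2) ∧ D.E i = Q ⊔ Subgroup.center S := by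
  have h2 := D.two_q4
  obtain ⟨p, hp⟩ : ∃ p, p = D.el D.q4 (-D.q4) := ⟨_, rfl⟩
  obtain ⟨r, hr⟩ : ∃ r, r = D.el i (D.h - i) * D.t := ⟨_, rfl⟩
  have hp2 : p * p = D.el D.h D.h := by
    rw [hp, D.el_mul, D.el_eq_iff]
    exact ⟨by rw [← two_mul, h2, sub_self]; exact dvd_zero _, ⟨-1, by rw [D.N_eq]; linear_combination -h2⟩⟩
  have hr2 : r * r = D.el D.h D.h := by
    rw [hr, D.out_sq, show i + (D.h - i) = D.h by ring]
  have huu : D.el D.h D.h * D.el D.h D.h = 1 :=
    invol_mul_self (D.el_h_order dvd_rfl dvd_rfl (fun h' => D.not_N_dvd_h h'.1))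
  have hp4 : p ^ 4 = 1 := by rw [show (4 : ℕ) = 2 * 2 from rfl, pow_mul, sq, sq, hp2, huu]
  have hrp : r * p = p⁻¹ * r := by
    rw [hr, hp, mul_assoc, D.t_mul_el, ← mul_assoc, ← mul_assoc, D.el_inv, D.el_mul, D.el_mul, mul_left_inj]
    congr 1 <;> ring
  let g : ZMod 4 → S := fun k => p ^ k.val
  have gadd : ∀ a b : ZMod 4, g (a + b) = g a * g b := fun a b => by
    show p ^ (a + b).val = p ^ a.val * p ^ b.val
    rw [← pow_add, ZMod.val_add]
    exact (pow_eq_pow_mod _ hp4).symm
  have g0 : g 0 = 1 := pow_zero p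
  have gneg : ∀ a : ZMod 4, g (-a) = (g a)⁻¹ := fun a =>
    (eq_inv_of_mul_eq_one_right (by rw [← gadd, add_neg_cancel, g0]))
  have gr : ∀ a : ZMod 4, g a * r = r * g (-a) := by
    intro a
    rw [gneg]
    show p ^ a.val * r = r * (p ^ a.val)⁻¹
    have hs : SemiconjBy r p⁻¹ p := by
      show r * p⁻¹ = p * r
      rw [mul_inv_eq_iff_eq_mul, mul_assoc, hrp, mul_inv_cancel_left]
    rw [← inv_pow]
    exact ((hs.pow_right a.val).eq).symm
  let f : QuaternionGroup 2 →* S :=
    { toFun := fun x => match x with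
        | QuaternionGroup.a k => g k
        | QuaternionGroup.xa k => r * g k
      map_one' := g0
      map_mul' := by
        rintro (a | a) (b | b)
        · exact gadd a b
        · show r * g (b - a) = g a * (r * g b)
          rw [← mul_assoc, gr, sub_eq_neg_add, gadd, mul_assoc]
        · show r * g (a + b) = r * g a * g b
          rw [gadd, mul_assoc]
        · show g ((2 : ℕ) + b - a) = r * g a * (r * g b)
          rw [mul_assoc, ← mul_assoc (g a) r, gr, ← mul_assoc, ← mul_assoc, hr2, ← hp2, mul_assoc, ← gadd,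
            show p * p = g 2 from (sq p).symm, ← gadd]
          congr 1
          push_cast
          ring }
  have hinj : Function.Injective f := by
    rw [← MonoidHom.ker_eq_bot_iff, Subgroup.eq_bot_iff_forall]
    rintro (k | k) hk
    · have hk' : g k = 1 := hk
      have hu : D.el D.h D.h ≠ 1 := fun h => D.not_N_dvd_h ((D.el_eq_one _ _).1 h).1
      have h4 : k = 0 ∨ k = 1 ∨ k = 2 ∨ k = 3 :=
        (show ∀ z : ZMod (2 * 2), z = 0 ∨ z = 1 ∨ z = 2 ∨ z = 3 by decide) k
      rcases h4 with rfl | rfl | rfl | rfl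
      · rfl
      · exfalso
        have hk1 : p ^ 1 = 1 := hk'
        rw [pow_one] at hk1
        exact hu (by rw [← hp2, hk1, mul_one])
      · exfalso
        have hk1 : p ^ 2 = 1 := hk'
        exact hu (by rw [← hp2, ← sq, hk1])
      · exfalso
        have hk1 : p ^ 3 = 1 := hk'
        have hk2 : p = 1 := by have := hp4; rwa [pow_succ, hk1, one_mul] at this
        exact hu (by rw [← hp2, hk2, mul_one])
    · exfalso
      have hk' : r * g k = 1 := hk
      exact D.out_not_mem i (D.h - i) (hr ▸ (Subgroup.mul_mem_cancel_right _ (pow_mem (hp ▸ D.el_mem D.q4 (-D.q4)) k.val)).1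
        (show r * p ^ k.val ∈ D.A from hk' ▸ one_mem _))
  refine ⟨f.range, ⟨(MonoidHom.ofInjective hinj).symm⟩, ?_⟩
  obtain ⟨j, hj⟩ := D.quat_sup_center (MonoidHom.ofInjective hinj).symm
  rw [hj]
  refine Subgroup.eq_of_le_of_card_ge (D.E_le_iff (D.center_le_E j) (D.el_h_mem_E j) ?_) (D.card_E j i).le
  rw [← hj]
  have hrQ : r ∈ f.range := ⟨QuaternionGroup.xa 0, by show r * g 0 = r; rw [g0, mul_one]⟩
  have hpQ : p ∈ f.range := ⟨QuaternionGroup.a 1, pow_one p⟩
  rw [show D.el i (-i) * D.t = D.el D.q4 D.q4 * (p⁻¹ * r) by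
    rw [hp, hr, D.el_inv, ← mul_assoc, ← mul_assoc, D.el_mul, D.el_mul, mul_left_inj, D.el_eq_iff]
    exact ⟨⟨0, by linarith⟩, ⟨-1, by rw [D.N_eq]; linear_combination -h2⟩⟩]
  exact mul_mem (Subgroup.mem_sup_right (D.diag_central _))
    (Subgroup.mem_sup_left (mul_mem (inv_mem hpQ) hrQ))

theorem relIndex_E (i : ℤ) : (D.E i).relIndex (Subgroup.normalizer (D.E i : Set S)) = 2 := by
  have hdh := D.two_q4
  have hnot : ¬ D.h ∣ D.q4 := fun h => by
    have h3 : (0 : ℤ) < D.q4 := pow_pos two_pos _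
    have h1 : D.h ≤ D.q4 := Int.le_of_dvd h3 h
    omega
  set r := D.el i (-i) * D.t with hrdef
  have hrE : r ∈ D.E i := D.refl_mem_E i
  -- the part inside `A`
  have hAn : ∀ k l : ℤ, D.el k l ∈ Subgroup.normalizer (D.E i : Set S) → D.q4 ∣ k - l := by
    intro k l h
    have h1 := (Subgroup.mem_normalizer_iff.1 h r).1 hrE
    rw [hrdef, D.conj_out, D.out_mem_E] at h1
    rw [show i + k - l - (-i + l - k) - 2 * i = 2 * (k - l) by ring, ← hdh, mul_dvd_mul_iff_left two_ne_zero] at h1
    exact h1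
  have han : D.el D.q4 0 ∈ Subgroup.normalizer (D.E i : Set S) := mem_normalizer_of_cj_le (by
    rintro _ ⟨w, hw, rfl⟩
    show D.el D.q4 0 * w * (D.el D.q4 0)⁻¹ ∈ D.E i
    obtain ⟨k, l, rfl | rfl⟩ := D.exists_form w
    · rw [D.A_comm (D.el_mem _ _) (D.el_mem k l), mul_inv_cancel_right]; exact hw
    · rw [D.conj_out, D.out_mem_E]
      have h1 := D.out_mem_E.1 hw
      rw [show k + D.q4 - 0 - (l + 0 - D.q4) - 2 * i = (k - l - 2 * i) + D.h by linear_combination hdh]
      exact dvd_add h1 dvd_rfl)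
  show ((D.E i).subgroupOf (Subgroup.normalizer (D.E i : Set S))).index = 2
  rw [Subgroup.index_eq_two_iff]
  refine ⟨⟨D.el D.q4 0, han⟩, fun b => ?_⟩
  -- reduce to the part inside `A`
  obtain ⟨k, l, hkl⟩ : ∃ k l : ℤ, (b : S) = D.el k l ∨ (b : S) = D.el k l * r := by
    obtain ⟨k, l, h | h⟩ := D.exists_form (b : S)
    · exact ⟨k, l, Or.inl h⟩
    · refine ⟨k - i, l + i, Or.inr ?_⟩
      rw [h, hrdef, ← mul_assoc, D.el_mul]
      congr 2 <;> ring
  have hn : D.q4 ∣ k - l := by
    refine hAn k l ?_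
    rcases hkl with h | h
    · exact h ▸ b.2
    · have := mul_mem b.2 (inv_mem (Subgroup.le_normalizer hrE))
      rwa [h, mul_inv_cancel_right] at this
  have hxor : Xor (D.h ∣ k - l + D.q4) (D.h ∣ k - l) := by
    obtain ⟨c, hc⟩ := hn
    rcases Int.even_or_odd c with ⟨e, he⟩ | ⟨e, he⟩
    · exact Or.inr ⟨⟨e, by rw [hc, he, ← hdh]; ring⟩, fun h => hnot (by
        have := dvd_sub h (show D.h ∣ k - l from ⟨e, by rw [hc, he, ← hdh]; ring⟩)
        rwa [add_sub_cancel_left] at this)⟩
    · exact Or.inl ⟨⟨e + 1, by rw [hc, he, ← hdh]; ring⟩, fun h => hnot (by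
        have := dvd_sub (show D.h ∣ k - l + D.q4 from ⟨e + 1, by rw [hc, he, ← hdh]; ring⟩) h
        rwa [add_sub_cancel_left] at this)⟩
  have hb : (b ∈ (D.E i).subgroupOf (Subgroup.normalizer (D.E i : Set S)) ↔ D.h ∣ k - l) := by
    rw [Subgroup.mem_subgroupOf]
    rcases hkl with h | h
    · rw [h, D.el_mem_E]
    · rw [h, Subgroup.mul_mem_cancel_right _ hrE, D.el_mem_E]
  have hba : (b * ⟨D.el D.q4 0, han⟩ ∈ (D.E i).subgroupOf (Subgroup.normalizer (D.E i : Set S)) ↔
      D.h ∣ k - l + D.q4) := by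
    rw [Subgroup.mem_subgroupOf, Subgroup.coe_mul]
    rcases hkl with h | h
    · rw [h, D.el_mul, D.el_mem_E, show k + D.q4 - (l + 0) = k - l + D.q4 by ring]
    · rw [h, hrdef, mul_assoc, mul_assoc, D.t_mul_el, ← mul_assoc (D.el i (-i)), D.el_mul, ← mul_assoc, D.el_mul,
        D.out_mem_E, show k + (i + 0) - (l + (-i + D.q4)) - 2 * i = (k - l + D.q4) - 2 * D.q4 by ring, hdh,
        dvd_sub_self_right]
  rw [hb, hba]
  exact hxor

theorem conj_E (i j : ℤ) : (D.E i).map (MulAut.conj (D.el (j - i) 0)).toMonoidHom = D.E j := by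
  refine (Subgroup.eq_of_le_of_card_ge (D.E_le_iff ?_ ?_ ?_) ?_).symm
  · intro z hz
    exact ⟨z, D.center_le_E i hz, by
      show D.el (j - i) 0 * z * (D.el (j - i) 0)⁻¹ = z
      rw [Subgroup.mem_center_iff.1 hz, mul_inv_cancel_right]⟩
  · exact ⟨_, D.el_h_mem_E i, by
      show D.el (j - i) 0 * D.el D.h 0 * (D.el (j - i) 0)⁻¹ = D.el D.h 0
      rw [D.A_comm (D.el_mem _ _) (D.el_mem _ _), mul_inv_cancel_right]⟩
  · exact ⟨_, D.refl_mem_E i, by
      show D.el (j - i) 0 * (D.el i (-i) * D.t) * (D.el (j - i) 0)⁻¹ = _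
      rw [D.conj_refl_el]; congr 2 <;> ring⟩
  · rw [Subgroup.card_map_of_injective (MulAut.conj _).injective]
    exact (D.card_E i j).le

end

/-- Let S be a wreathed 2-group of order 2^(2n+1) and X a subgroup with C_S(X) ≤ X such that Aut(X) is not a 2-group. Then |N_S(X) : X| = 2, and either X is the commutative subgroup of order 2^(2n), or X = Q·Z(S) for some subgroup Q ≅ Q₈; in the latter case any two such subgroups are conjugate in S. -/
theorem result {S : Type*} [Group S] [Finite S] (hS : Cfsg.IsWreathed S) (n : ℕ) (hn : Nat.card S = 2 ^ (2 * n + 1)) (X : Subgroup S) (hC : Subgroup.centralizer (X : Set S) ≤ X) (hA : ¬ IsPGroup 2 (MulAut X)) : X.relIndex (Subgroup.normalizer (X : Set S)) = 2 ∧ ((IsMulCommutative X ∧ Nat.card X = 2 ^ (2 * n)) ∨ ∃ Q : Subgroup S, Nonempty (Q ≃* QuaternionGroup 2) ∧ X = Q ⊔ Subgroup.center S) ∧ ∀ X' : Subgroup S, Subgroup.centralizer (X' : Set S) ≤ X' → ¬ IsPGroup 2 (MulAut X') → ¬ IsMulCommutative X → ¬ IsMulCommutative X' → ∃ s : S, X.map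 (MulAut.conj s).toMonoidHom = X' := by
  obtain ⟨D⟩ := exists_wrData hS hn
  have habA : IsMulCommutative D.A := ⟨⟨fun a b => Subtype.ext (D.A_comm a.2 b.2)⟩⟩
  have hEnab : ∀ i, ¬ IsMulCommutative (D.E i) := fun i h => by
    have h1 : Commute (D.el D.h 0) (D.el i (-i) * D.t) :=
      congrArg Subtype.val (h.is_comm.comm ⟨_, D.el_h_mem_E i⟩ ⟨_, D.refl_mem_E i⟩)
    rw [D.commute_out_el, sub_zero] at h1
    exact D.not_N_dvd_h h1
  have hcl := classify D
  refine ⟨?_, ?_, ?_⟩
  · rcases hcl X hC hA with rfl | ⟨i, rfl⟩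
    · haveI := Subgroup.normal_of_index_eq_two D.index_A
      rw [Subgroup.normalizer_eq_top, Subgroup.relIndex_top_right, D.index_A]
    · exact relIndex_E D i
  · rcases hcl X hC hA with rfl | ⟨i, rfl⟩
    · exact Or.inl ⟨habA, D.card_A⟩
    · exact Or.inr (exists_quaternion D i)
  · intro X' hC' hA' hX hX'
    rcases hcl X hC hA with rfl | ⟨i, rfl⟩
    · exact absurd habA hX
    rcases hcl X' hC' hA' with rfl | ⟨j, rfl⟩
    · exact absurd habA hX'
    exact ⟨_, conj_E D i j⟩

end Cfsg.Agent.S1202
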