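import Cfsg.Statements.S1205
import Cfsg.Agent.Lib.Fusion.QuasiDihedralCases

set_option autoImplicit false
open Cfsg
open Cfsg.Agent.Fusion
open scoped commutatorElement

namespace Cfsg.Agent.S1205

/-- Let G be a finite group with quasi-dihedral Sylow 2-subgroup S, T a Klein four-subgroup and Q a quaternion subgroup of order 8 of S, with |N_G(T) : C_G(T)| = 2 and |N_G(Q) : Q C_G(Q)| = 6. Then G has a normal subgroup K of index 2 whose Sylow 2-subgroups are generalized quaternion and which has no subgroup of index 2; the centre of S is weakly closed in S; and G has exactly two classes of involutions and one class of elements of order 4. -/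
theorem result {G : Type*} [Group G] [Finite G] (S : Sylow 2 G) (hS : Cfsg.IsQuasiDihedral (S : Subgroup G)) (T : Subgroup G) (hT : IsKleinFour T) (hTS : T ≤ S) (Q : Subgroup G) (hQS : Q ≤ S) (eQ : Q ≃* QuaternionGroup 2) (h₁ : (Subgroup.centralizer (T : Set G)).relIndex (Subgroup.normalizer (T : Set G)) = 2) (h₂ : (Q ⊔ Subgroup.centralizer (Q : Set G)).relIndex (Subgroup.normalizer (Q : Set G)) = 6) : (∃ K : Subgroup G, K.Normal ∧ K.index = 2 ∧ (∀ P : Sylow 2 ↥K, ∃ m : ℕ, 1 ≤ m ∧ Nonempty ((P : Subgroup ↥K) ≃* QuaternionGroup (2 ^ m))) ∧ (∀ H : Subgroup ↥K, H.index ≠ 2)) ∧ Cfsg.IsWeaklyClosed ((Subgroup.center (S : Subgroup G)).map (S : Subgroup G).subtype) (S : Subgroup G) ∧ Nat.card {C : ConjClasses G // ∃ t : G, orderOf t = 2 ∧ ConjClasses.mk t = C} = 2 ∧ Nat.card {C : ConjClasses G // ∃ t : G, orderOf t = 4 ∧ ConjClasses.mk t = C} = 1 := by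
  obtain ⟨n, ⟨D⟩⟩ := exists_qdData' hS
  obtain ⟨iT, hA⟩ := D.T_index_iff hT hTS
  obtain ⟨iQ, hB⟩ := D.Q_index_iff hQS eQ
  have h2 : ¬ D.FusedTwo := fun h => by have := iT.2 h; omega
  have h4 : D.FusedFour := iQ.1 h₂
  obtain ⟨K, hKn, hK, hy⟩ := D.exists_K_quaternion h2
  haveI := hKn
  have hr : ∀ i : ℤ, Even (i - 1) → ((D.x ^ i * D.y : ↥(S : Subgroup G)) : G) ∈ K := by
    intro i hi
    obtain ⟨c, hc⟩ := hi
    obtain ⟨a, ha⟩ := isConj_iff.1 ((D.conj_xy (i := i) ⟨c, by omega⟩).symm)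
    exact ha ▸ ((index_two_facts hK).2.1 a _).1 ((D.index_two_mem hK).2.2 h4)
  have hKS := D.inf_eq_M hK (e := 1) hr
  have e8 : Nonempty (D.quat 1 ≃* QuaternionGroup 2) := by
    have e : Q.subgroupOf (S : Subgroup G) ≃* QuaternionGroup 2 :=
      (Subgroup.subgroupOfEquivOfLe hQS).trans eQ
    obtain ⟨i, hi, hQi⟩ := D.quat_eq e
    obtain ⟨j, hj⟩ := D.conj_same_parity (i := i) (k := 1) (Odd.sub_odd odd_one hi)
    refine ⟨((Subgroup.equivMapOfInjective (D.quat i) (MulAut.conj (D.x ^ j)).toMonoidHom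
      (MulAut.conj _).injective).trans (MulEquiv.subgroupCongr ?_)).symm.trans
      ((MulEquiv.subgroupCongr hQi.symm).trans e)⟩
    rw [D.quat_map, QDData.quat, QDData.quat, ← D.conj_refl, hj]
  obtain ⟨e8⟩ := e8
  refine ⟨⟨K, hKn, hK, fun P => ?_, fun H => D.K_quaternion_perfect h4 hK hKS e8 H⟩,
    D.center_weaklyClosed h2, D.card_two_classes.2 h2, D.card_four_classes.1 h4⟩
  obtain ⟨e⟩ := sylow_normal_equiv S P
  obtain ⟨e'⟩ := D.M_one_quaternion
  exact ⟨n - 2, by have := D.hn; omega, ⟨(e.trans (MulEquiv.subgroupCongr hKS)).trans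
    ((Subgroup.equivMapOfInjective _ _ (S : Subgroup G).subtype_injective).symm.trans e')⟩⟩

end Cfsg.Agent.S1205
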