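import Cfsg.Statements.S1206
import Cfsg.Agent.Lib.Fusion.QuasiDihedralCases

set_option autoImplicit false
open Cfsg
open Cfsg.Agent.Fusion
open scoped commutatorElement

namespace Cfsg.Agent.S1206

/-- Let G be a finite group with quasi-dihedral Sylow 2-subgroup S, T a Klein four-subgroup and Q a quaternion subgroup of order 8 of S, with |N_G(T) : C_G(T)| = 6 and |N_G(Q) : Q C_G(Q)| = 2. Then G has a normal subgroup K of index 2 whose Sylow 2-subgroups are dihedral and which has no subgroup of index 2, and G has exactly one class of involutions and two classes of elements of order 4. -/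
theorem result {G : Type*} [Group G] [Finite G] (S : Sylow 2 G) (hS : Cfsg.IsQuasiDihedral (S : Subgroup G)) (T : Subgroup G) (hT : IsKleinFour T) (hTS : T ≤ S) (Q : Subgroup G) (hQS : Q ≤ S) (eQ : Q ≃* QuaternionGroup 2) (h₁ : (Subgroup.centralizer (T : Set G)).relIndex (Subgroup.normalizer (T : Set G)) = 6) (h₂ : (Q ⊔ Subgroup.centralizer (Q : Set G)).relIndex (Subgroup.normalizer (Q : Set G)) = 2) : (∃ K : Subgroup G, K.Normal ∧ K.index = 2 ∧ (∀ P : Sylow 2 ↥K, ∃ m : ℕ, Nonempty ((P : Subgroup ↥K) ≃* DihedralGroup m)) ∧ (∀ H : Subgroup ↥K, H.index ≠ 2)) ∧ Nat.card {C : ConjClasses G // ∃ t : G, orderOf t = 2 ∧ ConjClasses.mk t = C} = 1 ∧ Nat.card {C : ConjClasses G // ∃ t : G, orderOf t = 4 ∧ ConjClasses.mk t = C} = 2 := by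
  obtain ⟨n, ⟨D⟩⟩ := exists_qdData' hS
  obtain ⟨iT, hA⟩ := D.T_index_iff hT hTS
  obtain ⟨iQ, hB⟩ := D.Q_index_iff hQS eQ
  have h2 : D.FusedTwo := iT.1 h₁
  have h4 : ¬ D.FusedFour := fun h => by have := iQ.2 h; omega
  obtain ⟨K, hKn, hK, hv⟩ := D.exists_K_dihedral h4
  haveI := hKn
  have hr : ∀ i : ℤ, Even (i - 0) → ((D.x ^ i * D.y : ↥(S : Subgroup G)) : G) ∈ K := by
    intro i hi
    rw [sub_zero] at hi
    obtain ⟨a, ha⟩ := isConj_iff.1 (D.conj_y hi).symm
    exact ha ▸ ((index_two_facts hK).2.1 a _).1 ((D.index_two_mem hK).2.1 h2)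
  have hKS := D.inf_eq_M hK (e := 0) hr
  refine ⟨⟨K, hKn, hK, fun P => ?_, fun H => D.K_dihedral_perfect h2 hK hKS H⟩,
    D.card_two_classes.1 h2, D.card_four_classes.2 h4⟩
  obtain ⟨e⟩ := sylow_normal_equiv S P
  obtain ⟨e'⟩ := D.M_zero_dihedral
  exact ⟨_, ⟨(e.trans (MulEquiv.subgroupCongr hKS)).trans
    ((Subgroup.equivMapOfInjective _ _ (S : Subgroup G).subtype_injective).symm.trans e')⟩⟩

end Cfsg.Agent.S1206
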