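import Cfsg.Statements.S1207
import Cfsg.Agent.Lib.Fusion.QuasiDihedralCases

set_option autoImplicit false
open Cfsg
open Cfsg.Agent.Fusion
open scoped commutatorElement

namespace Cfsg.Agent.S1207

/-- Let G be a finite group with quasi-dihedral Sylow 2-subgroup S, T a Klein four-subgroup and Q a quaternion subgroup of order 8 of S, with |N_G(T) : C_G(T)| = 2 and |N_G(Q) : Q C_G(Q)| = 2. Then G has a normal 2-complement, exactly two classes of involutions and exactly two classes of elements of order 4. -/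
theorem result {G : Type*} [Group G] [Finite G] (S : Sylow 2 G) (hS : Cfsg.IsQuasiDihedral (S : Subgroup G)) (T : Subgroup G) (hT : IsKleinFour T) (hTS : T ≤ S) (Q : Subgroup G) (hQS : Q ≤ S) (eQ : Q ≃* QuaternionGroup 2) (h₁ : (Subgroup.centralizer (T : Set G)).relIndex (Subgroup.normalizer (T : Set G)) = 2) (h₂ : (Q ⊔ Subgroup.centralizer (Q : Set G)).relIndex (Subgroup.normalizer (Q : Set G)) = 2) : Cfsg.HasNormalPComplement 2 G ∧ Nat.card {C : ConjClasses G // ∃ t : G, orderOf t = 2 ∧ ConjClasses.mk t = C} = 2 ∧ Nat.card {C : ConjClasses G // ∃ t : G, orderOf t = 4 ∧ ConjClasses.mk t = C} = 2 := by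
  obtain ⟨n, ⟨D⟩⟩ := exists_qdData' hS
  obtain ⟨iT, hA⟩ := D.T_index_iff hT hTS
  obtain ⟨iQ, hB⟩ := D.Q_index_iff hQS eQ
  have h2 : ¬ D.FusedTwo := fun h => by have := iT.2 h; omega
  have h4 : ¬ D.FusedFour := fun h => by have := iQ.2 h; omega
  exact ⟨D.hnpc_of_no_fusion h2 h4, D.card_two_classes.2 h2, D.card_four_classes.2 h4⟩

end Cfsg.Agent.S1207
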