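import Cfsg.Statements.S1210
import Cfsg.Agent.Lib.Fusion.WreathedCases

set_option autoImplicit false
open Cfsg
open Cfsg.Agent.Fusion
open scoped commutatorElement

namespace Cfsg.Agent.S1210

/-- Let G be a finite group whose Sylow 2-subgroup S is wreathed of order 2^(2n+1), U the commutative subgroup of index 2 in S, Q a quaternion subgroup of order 8 of S and V = Q Z(S). If |N_G(U) : C_G(U)| = 2 and |N_G(V) : V C_G(V)| = 6, then G has a normal subgroup K of index 2^n whose Sylow 2-subgroups are generalized quaternion and which has no subgroup of index 2; every subgroup of Z(S) is weakly closed in S; and G has exactly two classes of involutions. -/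
theorem result {G : Type*} [Group G] [Finite G] (S : Sylow 2 G) (hS : Cfsg.IsWreathed (S : Subgroup G)) (n : ℕ) (hn : Nat.card S = 2 ^ (2 * n + 1)) (U : Subgroup G) (hUS : U ≤ S) (hUab : IsMulCommutative U) (hUcard : Nat.card U = 2 ^ (2 * n)) (Q : Subgroup G) (hQS : Q ≤ S) (eQ : Q ≃* QuaternionGroup 2) (h₁ : (Subgroup.centralizer (U : Set G)).relIndex (Subgroup.normalizer (U : Set G)) = 2) (h₂ : ((Q ⊔ ((Subgroup.center (S : Subgroup G)).map (S : Subgroup G).subtype)) ⊔ Subgroup.centralizer ((Q ⊔ ((Subgroup.center (S : Subgroup G)).map (S : Subgroup G).subtype) : Subgroup G) : Set G)).relIndex (Subgroup.normalizer ((Q ⊔ ((Subgroup.center (S : Subgroup G)).map (S : Subgroup G).subtype) : Subgroup G) : Set G)) = 6) : (∃ K : Subgroup G, K.Normal ∧ K.index = 2 ^ n ∧ (∀ P : Sylow 2 ↥K, ∃ m : ℕ, 1 ≤ m ∧ Nonempty ((P : Subgroup ↥K) ≃* QuaternionGroup (2 ^ m))) ∧ (∀ H : Subgroup ↥K, H.index ≠ 2)) ∧ (∀ Z₀ : Subgroup G, Z₀ ≤ ((Subgroup.center (S :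 Subgroup G)).map (S : Subgroup G).subtype) → Cfsg.IsWeaklyClosed Z₀ (S : Subgroup G)) ∧ Nat.card {C : ConjClasses G // ∃ t : G, orderOf t = 2 ∧ ConjClasses.mk t = C} = 2 := by
  obtain ⟨D⟩ := exists_wrData hS hn
  obtain ⟨hU, i, hQ⟩ := D.setup hUS hUab hUcard hQS eQ
  rw [hU] at h₁
  rw [hQ] at h₂
  have hA : ¬ D.FusedA := fun h => by have := D.A_index_iff.1.2 h; omega
  have hE := (D.E_index_iff i).1.1 h₂
  haveI : NeZero (2 ^ n : ℕ) := ⟨pow_ne_zero _ two_ne_zero⟩
  obtain ⟨f, hf, hfY⟩ := D.exists_kernel hA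
  have hK : f.ker.index = 2 ^ n := by
    rw [Subgroup.index_ker, MonoidHom.range_eq_top.2 hf, Subgroup.card_top, Nat.card_eq_fintype_card,
      Fintype.card_multiplicative, ZMod.card]
  have hKS : (S : Subgroup G) ⊓ f.ker = D.Y.map (S : Subgroup G).subtype := by
    ext x
    constructor
    · rintro ⟨hxS, hxK⟩
      exact ⟨⟨x, hxS⟩, (hfY ⟨x, hxS⟩).1 hxK, rfl⟩
    · rintro ⟨s, hs, rfl⟩
      exact ⟨s.2, (hfY s).2 hs⟩
  refine ⟨⟨f.ker, inferInstance, hK, fun P => ?_, fun H => D.kernel_perfect hE hK hfY H⟩,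
    fun Z₀ hZ => D.center_weaklyClosed_all hA Z₀ hZ, D.classes_cases.2.2.1 hA hE⟩
  obtain ⟨e⟩ := sylow_normal_equiv S P
  obtain ⟨e'⟩ := D.Y_quaternion
  exact ⟨n - 1, by have := D.hn; omega, ⟨(e.trans (MulEquiv.subgroupCongr hKS)).trans
    ((Subgroup.equivMapOfInjective _ _ (S : Subgroup G).subtype_injective).symm.trans e')⟩⟩

end Cfsg.Agent.S1210
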