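import Cfsg.Statements.S1214
import Cfsg.Agent.Lib.Char.QDSimple

set_option autoImplicit false
open Cfsg
open scoped ComplexConjugate

namespace Cfsg.Agent.S1214

/-- Let G be a finite group with quasi-dihedral or wreathed Sylow 2-subgroups and no subgroup of index 2. Then G/O(G), the quotient by the largest normal subgroup of odd order, has a normal subgroup of odd index which is a non-abelian simple group. -/
theorem result {G : Type*} [Group G] [Finite G] (S : Sylow 2 G) (hS : Cfsg.IsQuasiDihedral (S : Subgroup G) ∨ Cfsg.IsWreathed (S : Subgroup G)) (hG : ∀ H : Subgroup G, H.index ≠ 2) : ∃ L : Subgroup (G ⧸ Cfsg.oddCore G), L.Normal ∧ Odd L.index ∧ IsSimpleGroup L ∧ ¬ IsMulCommutative L := by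
  classical
  haveI : Fact (Nat.Prime 2) := ⟨Nat.prime_two⟩
  have hsurj := QuotientGroup.mk'_surjective (Cfsg.oddCore G)
  let T : Sylow 2 (G ⧸ Cfsg.oddCore G) := S.mapSurjective hsurj
  let f : ↥(S : Subgroup G) →* ↥(T : Subgroup (G ⧸ Cfsg.oddCore G)) :=
    ((QuotientGroup.mk' (Cfsg.oddCore G)).comp (S : Subgroup G).subtype).codRestrict _ (fun x => ⟨x, x.2, rfl⟩)
  have hf : Function.Bijective f := by
    refine ⟨(injective_iff_map_eq_one _).2 fun x hx => ?_, ?_⟩
    · have h1 : (x : G) ∈ Cfsg.oddCore G := (QuotientGroup.eq_one_iff _).1 (congrArg Subtype.val hx)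
      obtain ⟨k, hk⟩ := S.isPGroup' x
      have h2 := Cfsg.Agent.Fusion.mem_pPrimeCore_orderOf h1
      rw [Subgroup.orderOf_coe] at h2
      obtain ⟨j, -, hj⟩ := (Nat.dvd_prime_pow Nat.prime_two).1 (orderOf_dvd_of_pow_eq_one hk)
      rw [hj] at h2
      rcases Nat.eq_zero_or_pos j with rfl | hj0
      · exact orderOf_eq_one_iff.1 (by rw [hj, pow_zero])
      · rw [Nat.coprime_pow_left_iff hj0] at h2
        norm_num at h2
    · rintro ⟨_, x, hx, rfl⟩
      exact ⟨⟨x, hx⟩, rfl⟩
  let e := MulEquiv.ofBijective f hf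
  have hT : Cfsg.IsQuasiDihedral (T : Subgroup (G ⧸ Cfsg.oddCore G)) ∨
      Cfsg.IsWreathed (T : Subgroup (G ⧸ Cfsg.oddCore G)) := by
    rcases hS with ⟨n, hn, hc, x, y, hx, hy, hr⟩ | ⟨n, hn, hc, x, y, z, hx, hxy, hd, hz, hr⟩
    · exact Or.inl ⟨n, hn, (Nat.card_congr e.toEquiv).symm.trans hc, e x, e y, by rw [MulEquiv.orderOf_eq, hx],
        by rw [MulEquiv.orderOf_eq, hy], by rw [← map_inv, ← map_mul, ← map_mul, hr, map_pow]⟩
    · refine Or.inr ⟨n, hn, (Nat.card_congr e.toEquiv).symm.trans hc, e x, e y, e z, by rw [MulEquiv.orderOf_eq, hx],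
        by rw [← map_mul, hxy, map_mul], ?_, by rw [MulEquiv.orderOf_eq, hz], by rw [← map_inv, ← map_mul, ← map_mul, hr]⟩
      rw [show Subgroup.zpowers (e x) = (Subgroup.zpowers x).map e.toMonoidHom from
          (MonoidHom.map_zpowers e.toMonoidHom x).symm,
        show Subgroup.zpowers (e y) = (Subgroup.zpowers y).map e.toMonoidHom from
          (MonoidHom.map_zpowers e.toMonoidHom y).symm,
        ← Subgroup.map_inf (Subgroup.zpowers x) (Subgroup.zpowers y) e.toMonoidHom e.injective, hd, Subgroup.map_bot]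
  have hG' : ∀ H : Subgroup (G ⧸ Cfsg.oddCore G), H.index ≠ 2 := fun H h =>
    hG _ ((Subgroup.index_comap_of_surjective H hsurj).trans h)
  exact Cfsg.Agent.Char.QDSimple.exists_simple T (Cfsg.Agent.Char.QDSimple.shape_of T hT)
    (fun a b ha hb => Cfsg.Agent.Char.QDSimple.one_class T hT hG' ha hb) hG'
    Cfsg.Agent.Fusion.pPrimeCore_quotient_eq_bot

end Cfsg.Agent.S1214
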