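import Cfsg.Statements.S1217
import Cfsg.Agent.Lib.Fusion.SylowTwoShapes

set_option autoImplicit false
open scoped MatrixGroups
open Cfsg
open Cfsg.Agent.Fusion
open scoped commutatorElement

namespace Cfsg.Agent.S1217

open Cfsg.Agent.Fusion.Shapes in
theorem gl_two_one {F : Type*} [Field F] [Fintype F] (hq : Fintype.card F % 4 = 1)
    (P : Sylow 2 (GL (Fin 2) F)) : Cfsg.IsWreathed (P : Subgroup (GL (Fin 2) F)) := by
  classical
  obtain ⟨n, r, s, hn, hr, hs, hm1, hp1⟩ := split_one hq Fintype.one_lt_card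
  obtain ⟨q, hqdef⟩ : ∃ q, q = Fintype.card F := ⟨_, rfl⟩
  rw [← hqdef] at hq hm1 hp1
  obtain ⟨ω, hω⟩ := exists_orderOf_units (F := F) (d := 2 ^ n)
    (by rw [Nat.card_eq_fintype_card, ← hqdef, hm1]; exact dvd_mul_right _ _)
  let f : Fˣ →* GL (Fin 2) F := MonoidHom.mk'
    (fun a => Matrix.GeneralLinearGroup.mkOfDetNeZero !![(a : F), 0; 0, 1]
      (by rw [Matrix.det_fin_two_of]; simp))
    (fun a b => Units.ext (by
      show !![((a * b : Fˣ) : F), 0; 0, 1] = !![(a : F), 0; 0, 1] * !![(b : F), 0; 0, 1]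
      ext i j; fin_cases i <;> fin_cases j <;> simp))
  let g : Fˣ →* GL (Fin 2) F := MonoidHom.mk'
    (fun a => Matrix.GeneralLinearGroup.mkOfDetNeZero !![1, 0; 0, (a : F)]
      (by rw [Matrix.det_fin_two_of]; simp))
    (fun a b => Units.ext (by
      show !![1, 0; 0, ((a * b : Fˣ) : F)] = !![1, 0; 0, (a : F)] * !![1, 0; 0, (b : F)]
      ext i j; fin_cases i <;> fin_cases j <;> simp))
  let z : GL (Fin 2) F := Matrix.GeneralLinearGroup.mkOfDetNeZero !![0, 1; 1, 0]
    (by rw [Matrix.det_fin_two_of]; simp)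
  have hf : ∀ a, (f a).val = !![(a : F), 0; 0, 1] := fun _ => rfl
  have hg : ∀ a, (g a).val = !![1, 0; 0, (a : F)] := fun _ => rfl
  have hz : z.val = !![0, 1; 1, 0] := rfl
  have hfi : Function.Injective f := fun a b h => Units.ext (by
    have h' := congrArg (fun w : GL (Fin 2) F => w.val 0 0) h
    rw [hf, hf] at h'
    simpa using h')
  have hzz : z * z = 1 := Units.ext (by
    rw [Units.val_mul, hz, Units.val_one]
    ext i j; fin_cases i <;> fin_cases j <;> simp)
  have hz1 : z ≠ 1 := fun h => by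
    have h' := congrArg (fun w : GL (Fin 2) F => w.val 0 0) h
    rw [hz, Units.val_one] at h'
    simp at h'
  refine wreathed_sylow P n hn ?_ (f ω) (g ω) z ?_ ?_ ?_ (orderOf_two_of_mul_self hzz hz1) ?_
  · refine fac_two ((((hr.mul hr).mul hs)).mul (Nat.odd_iff.2 (show q % 2 = 1 by omega))) ?_
    rw [Matrix.card_GL_field, Fin.prod_univ_two, ← hqdef]
    simp only [Fin.val_zero, pow_zero, Fin.val_one, pow_one]
    have h1 : q ^ 2 - 1 = (q + 1) * (q - 1) := by simpa using Nat.sq_sub_sq q 1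
    have h2 : q ^ 2 - q = q * (q - 1) := by rw [Nat.mul_sub, mul_one, sq]
    rw [h1, h2, hm1, hp1]
    ring
  · rw [orderOf_injective f hfi, hω]
  · refine Units.ext ?_
    rw [Units.val_mul, Units.val_mul, hf, hg]
    ext i j; fin_cases i <;> fin_cases j <;> simp
  · rw [Subgroup.eq_bot_iff_forall]
    intro w hw
    obtain ⟨⟨i, hi⟩, ⟨j, hj⟩⟩ := Subgroup.mem_inf.1 hw
    have h' : f (ω ^ i) = g (ω ^ j) := by rw [map_zpow, map_zpow]; exact hi.trans hj.symm
    have h'' := congrArg (fun w : GL (Fin 2) F => w.val 0 0) h'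
    rw [hf, hg] at h''
    have h3 : ω ^ i = 1 := Units.ext (by simpa using h'')
    rw [← hi]
    show f ω ^ i = 1
    rw [← map_zpow, h3, map_one]
  · rw [mul_inv_eq_iff_eq_mul]
    refine Units.ext ?_
    rw [Units.val_mul, Units.val_mul, hf, hg, hz]
    ext i j; fin_cases i <;> fin_cases j <;> simp

open Cfsg.Agent.Fusion.Shapes in
theorem gl_two_three {F : Type*} [Field F] [Fintype F] (hq : Fintype.card F % 4 = 3)
    (P : Sylow 2 (GL (Fin 2) F)) : Cfsg.IsQuasiDihedral (P : Subgroup (GL (Fin 2) F)) := by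
  classical
  obtain ⟨k, r, s, hk, hr, hs, hp1, hm1⟩ := split_three hq
  obtain ⟨q, hqdef⟩ : ∃ q, q = Fintype.card F := ⟨_, rfl⟩
  rw [← hqdef] at hq hm1 hp1
  obtain ⟨p, hchar⟩ := CharP.exists F
  obtain ⟨⟨e, he0⟩, hpp, hpe⟩ := FiniteField.card F p
  haveI : Fact p.Prime := ⟨hpp⟩
  change Fintype.card F = p ^ e at hpe
  rw [← hqdef] at hpe
  let E := FiniteField.Extension F p 2
  haveI : CharP E p := charP_of_injective_algebraMap (algebraMap F E).injective p
  haveI := Fintype.ofFinite E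
  have hEcard : Nat.card E = q ^ 2 := by
    rw [FiniteField.natCard_extension, Nat.card_eq_fintype_card, hqdef]
  have hfac : q ^ 2 - 1 = (q + 1) * (q - 1) := by simpa using Nat.sq_sub_sq q 1
  have hk2 : 2 ^ (k + 1) ∣ Nat.card E - 1 := by
    rw [hEcard, hfac, hp1, hm1]
    exact ⟨r * s, by ring⟩
  obtain ⟨u, hu⟩ := exists_orderOf_units (F := E) hk2
  obtain ⟨z, hz⟩ : ∃ z : E, z = (u : E) := ⟨_, rfl⟩
  have hzo : orderOf z = 2 ^ (k + 1) := by rw [hz, orderOf_units, hu]
  have hdvd : ∀ m, z ^ m = 1 ↔ 2 ^ (k + 1) ∣ m := fun m => by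
    rw [← hzo, orderOf_dvd_iff_pow_eq_one]
  have hr2 : ∀ t : ℕ, ¬ (2 ^ (k + 1) ∣ 2 ^ k * (2 * t + 1)) := fun t hd => by
    rw [pow_succ, Nat.mul_dvd_mul_iff_left (pow_pos two_pos k)] at hd
    omega
  -- the norm of `z` is `-1`
  have hnorm : z ^ q * z = -1 := by
    have h1 : (z ^ q * z) * (z ^ q * z) = 1 := by
      rw [← pow_succ, ← pow_add, hdvd]
      exact ⟨r, by rw [hp1]; ring⟩
    refine (mul_self_eq_one_iff.1 h1).resolve_left fun h => ?_
    rw [← pow_succ, hdvd, hp1] at h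
    obtain ⟨t, ht⟩ := hr
    exact hr2 t (ht ▸ h)
  have hne : z ^ q ≠ z := by
    intro h
    have h1 : z ^ (q - 1) = 1 := by
      refine mul_right_cancel₀ (show z ≠ 0 from hz ▸ u.ne_zero) ?_
      rw [← pow_succ, Nat.sub_add_cancel (by omega), h, one_mul]
    rw [hdvd, hm1] at h1
    have h4 : (2 : ℕ) ^ 2 ∣ 2 * s := (pow_dvd_pow 2 (by omega)).trans h1
    obtain ⟨t, rfl⟩ := hs
    omega
  -- `1, z` is a basis
  have hfix : ∀ a : F, (algebraMap F E a) ^ q = algebraMap F E a := fun a => by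
    rw [← map_pow, hqdef, FiniteField.pow_card]
  have hindep : ∀ a b : F, algebraMap F E a * z + algebraMap F E b = 0 → a = 0 ∧ b = 0 := by
    intro a b hab
    have ha : a = 0 := by
      by_contra ha
      refine hne ?_
      have hz' : z = algebraMap F E (-b / a) := by
        rw [map_div₀, map_neg, eq_div_iff ((map_ne_zero _).2 ha)]
        linear_combination hab
      rw [hz', hfix]
    subst ha
    refine ⟨rfl, (map_eq_zero (algebraMap F E)).1 ?_⟩
    rw [map_zero, zero_mul, zero_add] at hab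
    exact hab
  have hpq : ∀ a b : E, (a + b) ^ q = a ^ q + b ^ q := fun a b => by
    rw [hpe]; exact add_pow_char_pow a b p e
  obtain ⟨α, β, hzz⟩ : ∃ α β : F, z * z = algebraMap F E α * z + algebraMap F E β := by
    have hinj : Function.Injective fun ab : F × F => algebraMap F E ab.1 * z + algebraMap F E ab.2 := by
      intro x y h
      obtain ⟨h1, h2⟩ := hindep (x.1 - y.1) (x.2 - y.2) (by
        rw [map_sub, map_sub]; linear_combination h)
      exact Prod.ext (sub_eq_zero.1 h1) (sub_eq_zero.1 h2)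
    have hb := hinj.bijective_of_nat_card_le (by
      rw [Nat.card_prod, Nat.card_eq_fintype_card (α := F), hEcard, hqdef, sq])
    obtain ⟨⟨α, β⟩, h⟩ := hb.2 (z * z)
    exact ⟨α, β, h.symm⟩
  have hzq : z ^ q * z ^ q = algebraMap F E α * z ^ q + algebraMap F E β := by
    rw [← mul_pow, hzz, hpq, mul_pow, hfix, hfix]
  have hsum : z ^ q + z = algebraMap F E α := by
    refine mul_right_cancel₀ (sub_ne_zero.2 hne) ?_
    linear_combination hzq - hzz
  have hzz1 : z * z = algebraMap F E α * z + 1 := by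
    linear_combination z * hsum - hnorm
  -- the matrices
  obtain ⟨x, hx⟩ : ∃ x : GL (Fin 2) F, x.val = !![0, 1; 1, α] :=
    ⟨Matrix.GeneralLinearGroup.mkOfDetNeZero !![0, 1; 1, α] (by rw [Matrix.det_fin_two_of]; simp), rfl⟩
  obtain ⟨y, hy⟩ : ∃ y : GL (Fin 2) F, y.val = !![1, 0; α, -1] :=
    ⟨Matrix.GeneralLinearGroup.mkOfDetNeZero !![1, 0; α, -1] (by rw [Matrix.det_fin_two_of]; simp), rfl⟩
  have hlin : ∀ m : ℕ, ∃ a b : F, z ^ m = algebraMap F E a * z + algebraMap F E b ∧
      (x ^ m).val = !![b, a; a, a * α + b] := by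
    intro m
    induction m with
    | zero =>
      refine ⟨0, 1, by simp, ?_⟩
      rw [pow_zero, Units.val_one]
      ext i j; fin_cases i <;> fin_cases j <;> simp
    | succ m ih =>
      obtain ⟨a, b, h1, h2⟩ := ih
      refine ⟨a * α + b, a, ?_, ?_⟩
      · rw [pow_succ, h1, map_add, map_mul]
        linear_combination algebraMap F E a * hzz1
      · rw [pow_succ, Units.val_mul, h2, hx]
        ext i j; fin_cases i <;> fin_cases j <;> simp <;> ring
  have hxo : orderOf x = 2 ^ (k + 1) := by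
    rw [← hzo]
    refine orderOf_eq_orderOf_iff.2 fun m => ?_
    obtain ⟨a, b, h1, h2⟩ := hlin m
    constructor
    · intro h
      rw [h, Units.val_one] at h2
      have hb := congrFun (congrFun h2 0) 0
      have ha := congrFun (congrFun h2 0) 1
      simp at hb ha
      rw [h1, ← hb, ← ha]
      simp
    · intro h
      rw [h] at h1
      obtain ⟨ha, hb⟩ := hindep a (b - 1) (by rw [map_sub, map_one]; linear_combination -h1)
      refine Units.ext ?_
      rw [h2, Units.val_one, ha, sub_eq_zero.1 hb]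
      ext i j; fin_cases i <;> fin_cases j <;> simp
  have hyy : y * y = 1 := Units.ext (by
    rw [Units.val_mul, hy, Units.val_one]
    ext i j; fin_cases i <;> fin_cases j <;> simp)
  have hy1 : y ≠ 1 := fun h => by
    have h' := congrArg (fun w : GL (Fin 2) F => w.val 1 1) h
    rw [hy, Units.val_one] at h'
    simp at h'
    have h2 : (2 : F) = 0 := by linear_combination -h'
    haveI : CharP F p := hchar
    have hd : p ∣ 2 := by rw [← CharP.cast_eq_zero_iff F p]; exact_mod_cast h2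
    rw [(Nat.prime_dvd_prime_iff_eq hpp Nat.prime_two).1 hd] at hpe
    have : Even q := hpe ▸ (Nat.even_pow' he0.ne').2 even_two
    rw [Nat.even_iff] at this
    omega
  refine qd_sylow P (k + 1) (by omega) ?_ x y hxo (orderOf_two_of_mul_self hyy hy1) ?_
  · refine fac_two ((((hs.mul hs).mul hr)).mul (Nat.odd_iff.2 (show q % 2 = 1 by omega))) ?_
    rw [Matrix.card_GL_field, Fin.prod_univ_two, ← hqdef]
    simp only [Fin.val_zero, pow_zero, Fin.val_one, pow_one]
    have h2 : q ^ 2 - q = q * (q - 1) := by rw [Nat.mul_sub, mul_one, sq]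
    rw [hfac, h2, hm1, hp1]
    ring
  · rw [show k + 1 - 1 = k by omega, mul_inv_eq_iff_eq_mul]
    obtain ⟨a, b, h1, h2⟩ := hlin (2 ^ k - 1)
    -- `z ^ (2 ^ k - 1) = z ^ q`
    obtain ⟨t, rfl⟩ := hr
    have hq' : q = 2 ^ (k + 1) * t + (2 ^ k - 1) := by
      have h0 : 1 ≤ 2 ^ k := Nat.one_le_two_pow
      have : q + 1 = 2 ^ (k + 1) * t + 2 ^ k := by rw [hp1]; ring
      omega
    have hpow : z ^ q = z ^ (2 ^ k - 1) := by
      conv_lhs => rw [hq', pow_add, (hdvd _).2 (dvd_mul_right _ t), one_mul]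
    rw [← hpow] at h1
    obtain ⟨ha, hb⟩ := hindep (a + 1) (b - α) (by
      rw [map_add, map_sub, map_one]; linear_combination hsum - h1)
    refine Units.ext ?_
    rw [Units.val_mul, Units.val_mul, h2, hx, hy, eq_neg_of_add_eq_zero_left ha, sub_eq_zero.1 hb]
    ext i j; fin_cases i <;> fin_cases j <;> simp

/-- Let F be a finite field with q elements, q odd, and P a Sylow 2-subgroup of GL(2,F). If q ≡ 3 (mod 4) then P is quasi-dihedral; if q ≡ 1 (mod 4) then P is wreathed. -/
theorem result {F : Type*} [Field F] [Fintype F] (P : Sylow 2 (GL (Fin 2) F)) : (Fintype.card F % 4 = 3 → Cfsg.IsQuasiDihedral (P : Subgroup (GL (Fin 2) F))) ∧ (Fintype.card F % 4 = 1 → Cfsg.IsWreathed (P : Subgroup (GL (Fin 2) F))) := by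
  exact ⟨fun h => gl_two_three h P, fun h => gl_two_one h P⟩

end Cfsg.Agent.S1217
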