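import Cfsg.Statements.S1218
import Cfsg.Agent.Lib.Fusion.SylowTwoShapes
import Cfsg.Agent.Lib.Classical.UnitaryCount

set_option autoImplicit false
open scoped MatrixGroups
open Cfsg
open Cfsg.Agent.Fusion
open scoped commutatorElement

namespace Cfsg.Agent.S1218

open Cfsg.Agent.Classical in
theorem gu_mem {F : Type*} [Field F] [Fintype F] {q : ℕ} {σ : F ≃+* F} (hσ : IsUSigma q σ)
    (g : GL (Fin 2) F) (a b c d : F) (hg : g.val = !![a, b; c, d])
    (h1 : a * σ a + c * σ c = 1) (h2 : b * σ b + d * σ d = 1)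
    (h3 : a * σ b + c * σ d = 0) (h4 : b * σ a + d * σ c = 0) : g ∈ Cfsg.GU 2 F q := by
  intro u v
  show Cfsg.hermForm 2 F q (g.val.mulVec u) (g.val.mulVec v) = Cfsg.hermForm 2 F q u v
  rw [hg]
  simp only [Cfsg.hermForm, Fin.sum_univ_two, Matrix.mulVec, dotProduct, ← hσ.apply_eq]
  simp
  linear_combination (u 0 * σ (v 0)) * h1 + (u 1 * σ (v 1)) * h2 + (u 0 * σ (v 1)) * h3 + (u 1 * σ (v 0)) * h4

open Cfsg.Agent.Classical in
theorem gu_two_card {F : Type*} [Field F] [Fintype F] {q : ℕ} {σ : F ≃+* F} (hσ : IsUSigma q σ) :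
    Nat.card (Cfsg.GU 2 F q) = q * ((q + 1) * ((q + 1) * (q - 1))) := by
  rw [UCount.card_GU hσ 2]
  have h1 : q ^ 2 - 1 = (q + 1) * (q - 1) := by simpa using Nat.sq_sub_sq q 1
  simp [Finset.prod_range_succ, h1]

open Cfsg.Agent.Fusion.Shapes Cfsg.Agent.Classical in
theorem gu_two_three {F : Type*} [Field F] [Fintype F] {q : ℕ} {σ : F ≃+* F} (hσ : IsUSigma q σ)
    (hq : q % 4 = 3) (P : Sylow 2 ↥(Cfsg.GU 2 F q)) :
    Cfsg.IsWreathed (P : Subgroup ↥(Cfsg.GU 2 F q)) := by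
  classical
  obtain ⟨n, r, s, hn, hr, hs, hp1, hm1⟩ := split_three hq
  obtain ⟨ω, hω⟩ := exists_orderOf_units (F := F) (d := 2 ^ n)
    (by
      rw [Nat.card_eq_fintype_card, hσ.card, show q ^ 2 - 1 = (q + 1) * (q - 1) by simpa using Nat.sq_sub_sq q 1,
        hp1, mul_assoc]
      exact dvd_mul_right _ _)
  have hnorm : ∀ i : ℤ, ((ω ^ i : Fˣ) : F) * σ ((ω ^ i : Fˣ) : F) = 1 := fun i => by
    rw [hσ.apply_eq, ← pow_succ', ← Units.val_pow_eq_pow_val, Units.val_eq_one, ← zpow_natCast, zpow_comm,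
      zpow_natCast, show ω ^ (q + 1) = 1 from orderOf_dvd_iff_pow_eq_one.1 (hω ▸ hp1 ▸ dvd_mul_right _ r),
      one_zpow]
  have hmemf : ∀ i : ℤ, Matrix.GeneralLinearGroup.mkOfDetNeZero !![((ω ^ i : Fˣ) : F), 0; 0, 1]
      (by rw [Matrix.det_fin_two_of, mul_one, mul_zero, sub_zero]; exact (ω ^ i).ne_zero) ∈ Cfsg.GU 2 F q := fun i =>
    gu_mem hσ _ _ _ _ _ rfl (by simp only [mul_zero, zero_mul, add_zero]; exact hnorm i) (by simp) (by simp) (by simp)
  have hmemg : ∀ i : ℤ, Matrix.GeneralLinearGroup.mkOfDetNeZero !![1, 0; 0, ((ω ^ i : Fˣ) : F)]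
      (by rw [Matrix.det_fin_two_of, one_mul, mul_zero, sub_zero]; exact (ω ^ i).ne_zero) ∈ Cfsg.GU 2 F q := fun i =>
    gu_mem hσ _ _ _ _ _ rfl (by simp) (by simp only [mul_zero, zero_mul, zero_add]; exact hnorm i) (by simp) (by simp)
  obtain ⟨f, hf⟩ : ∃ f : Multiplicative ℤ →* ↥(Cfsg.GU 2 F q),
      ∀ i, (f i).val.val = !![((ω ^ (Multiplicative.toAdd i) : Fˣ) : F), 0; 0, 1] :=
    ⟨MonoidHom.mk' (fun i => ⟨_, hmemf (Multiplicative.toAdd i)⟩) (fun i j => Subtype.ext (Units.ext (by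
      show !![((ω ^ (Multiplicative.toAdd (i * j)) : Fˣ) : F), 0; 0, 1] =
        !![((ω ^ (Multiplicative.toAdd i) : Fˣ) : F), 0; 0, 1] *
          !![((ω ^ (Multiplicative.toAdd j) : Fˣ) : F), 0; 0, 1]
      rw [toAdd_mul, _root_.zpow_add]
      ext a b; fin_cases a <;> fin_cases b <;> simp))), fun _ => rfl⟩
  obtain ⟨g, hg⟩ : ∃ g : Multiplicative ℤ →* ↥(Cfsg.GU 2 F q),
      ∀ i, (g i).val.val = !![1, 0; 0, ((ω ^ (Multiplicative.toAdd i) : Fˣ) : F)] :=
    ⟨MonoidHom.mk' (fun i => ⟨_, hmemg (Multiplicative.toAdd i)⟩) (fun i j => Subtype.ext (Units.ext (by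
      show !![1, 0; 0, ((ω ^ (Multiplicative.toAdd (i * j)) : Fˣ) : F)] =
        !![1, 0; 0, ((ω ^ (Multiplicative.toAdd i) : Fˣ) : F)] *
          !![1, 0; 0, ((ω ^ (Multiplicative.toAdd j) : Fˣ) : F)]
      rw [toAdd_mul, _root_.zpow_add]
      ext a b; fin_cases a <;> fin_cases b <;> simp))), fun _ => rfl⟩
  obtain ⟨z, hz⟩ : ∃ z : ↥(Cfsg.GU 2 F q), z.val.val = !![0, 1; 1, 0] :=
    ⟨⟨Matrix.GeneralLinearGroup.mkOfDetNeZero !![0, 1; 1, 0] (by rw [Matrix.det_fin_two_of]; simp),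
      gu_mem hσ _ _ _ _ _ rfl (by simp) (by simp) (by simp) (by simp)⟩, rfl⟩
  have hzz : z * z = 1 := Subtype.ext (Units.ext (by
    rw [Subgroup.coe_mul, Units.val_mul, hz]
    ext i j; fin_cases i <;> fin_cases j <;> simp))
  have hz1 : z ≠ 1 := fun h => by
    have h' := congrArg (fun w : ↥(Cfsg.GU 2 F q) => w.val.val 0 0) h
    rw [hz] at h'
    simp at h'
  have hfpow : ∀ i : ℤ, f (Multiplicative.ofAdd i) = f (Multiplicative.ofAdd 1) ^ i := fun i => by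
    rw [← map_zpow]; congr 1; simp [← ofAdd_zsmul]
  have hgpow : ∀ i : ℤ, g (Multiplicative.ofAdd i) = g (Multiplicative.ofAdd 1) ^ i := fun i => by
    rw [← map_zpow]; congr 1; simp [← ofAdd_zsmul]
  refine wreathed_sylow P n hn ?_ (f (Multiplicative.ofAdd 1)) (g (Multiplicative.ofAdd 1)) z ?_ ?_ ?_
    (orderOf_two_of_mul_self hzz hz1) ?_
  · refine fac_two ((((hr.mul hr).mul hs)).mul (Nat.odd_iff.2 (show q % 2 = 1 by omega))) ?_
    rw [gu_two_card hσ, hm1, hp1]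
    ring
  · rw [← hω]
    refine orderOf_eq_orderOf_iff.2 fun m => ?_
    rw [← zpow_natCast, ← hfpow, ← zpow_natCast ω m]
    constructor
    · intro h
      have h' := congrArg (fun w : ↥(Cfsg.GU 2 F q) => w.val.val 0 0) h
      rw [hf] at h'
      exact Units.ext (by simpa using h')
    · intro h
      refine Subtype.ext (Units.ext ?_)
      rw [hf, toAdd_ofAdd, h]
      ext a b; fin_cases a <;> fin_cases b <;> simp
  · refine Subtype.ext (Units.ext ?_)
    rw [Subgroup.coe_mul, Subgroup.coe_mul, Units.val_mul, Units.val_mul, hf, hg]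
    ext i j; fin_cases i <;> fin_cases j <;> simp
  · rw [Subgroup.eq_bot_iff_forall]
    intro w hw
    obtain ⟨⟨i, hi⟩, ⟨j, hj⟩⟩ := Subgroup.mem_inf.1 hw
    have h' : f (Multiplicative.ofAdd i) = g (Multiplicative.ofAdd j) := by
      rw [hfpow, hgpow]; exact hi.trans hj.symm
    have h'' := congrArg (fun w : ↥(Cfsg.GU 2 F q) => w.val.val 0 0) h'
    rw [hf, hg] at h''
    rw [← hi]
    show f (Multiplicative.ofAdd 1) ^ i = 1
    rw [← hfpow]
    refine Subtype.ext (Units.ext ?_)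
    rw [hf, show ω ^ (Multiplicative.toAdd (Multiplicative.ofAdd i)) = 1 from Units.ext (by simpa using h'')]
    ext a b; fin_cases a <;> fin_cases b <;> simp
  · rw [mul_inv_eq_iff_eq_mul]
    refine Subtype.ext (Units.ext ?_)
    rw [Subgroup.coe_mul, Subgroup.coe_mul, Units.val_mul, Units.val_mul, hf, hg, hz]
    ext i j; fin_cases i <;> fin_cases j <;> simp

open Cfsg.Agent.Fusion.Shapes Cfsg.Agent.Classical in
theorem gu_two_one {F : Type*} [Field F] [Fintype F] {q : ℕ} {σ : F ≃+* F} (hσ : IsUSigma q σ)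
    (hq : q % 4 = 1) (h2 : (2 : F) ≠ 0) (P : Sylow 2 ↥(Cfsg.GU 2 F q)) :
    Cfsg.IsQuasiDihedral (P : Subgroup ↥(Cfsg.GU 2 F q)) := by
  classical
  have hq1 : 1 < q := hσ.two_le
  obtain ⟨k, r, s, hk, hr, hs, hm1, hp1⟩ := split_one hq hq1
  have hfac : q ^ 2 - 1 = (q + 1) * (q - 1) := by simpa using Nat.sq_sub_sq q 1
  obtain ⟨u, hu⟩ := exists_orderOf_units (F := F) (d := 2 ^ (k + 1))
    (by rw [Nat.card_eq_fintype_card, hσ.card, hfac, hp1, hm1]; exact ⟨s * r, by ring⟩)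
  obtain ⟨ε, hε0, hε⟩ := hσ.norm_surjective (t := (-1 : F)) (neg_ne_zero.2 one_ne_zero) (by rw [map_neg, map_one])
  -- conjugate of a unit
  obtain ⟨τ, hτ⟩ : ∃ τ : Fˣ →* Fˣ, ∀ a, ((τ a : Fˣ) : F) = (σ (a : F))⁻¹ :=
    ⟨MonoidHom.mk' (fun a => (Units.map σ.toRingHom.toMonoidHom a)⁻¹)
      (fun a b => by rw [map_mul, mul_inv]), fun a => by simp⟩
  obtain ⟨M, hM⟩ : ∃ M : F → F → Matrix (Fin 2) (Fin 2) F,
      ∀ a b, M a b = !![(a + b) / 2, (a - b) / (2 * ε); ε * (a - b) / 2, (a + b) / 2] := ⟨_, fun _ _ => rfl⟩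
  have hMmul : ∀ a b c d : F, M a b * M c d = M (a * c) (b * d) := by
    intro a b c d
    rw [hM, hM, hM]
    ext i j
    fin_cases i <;> fin_cases j <;> simp <;> field_simp <;> ring
  have hMdet : ∀ a b : F, (M a b).det = a * b := by
    intro a b
    rw [hM, Matrix.det_fin_two_of]
    field_simp
    ring
  have hmem : ∀ a : Fˣ, Matrix.GeneralLinearGroup.mkOfDetNeZero (M (a : F) (τ a : F))
      (by rw [hMdet]; exact mul_ne_zero a.ne_zero (τ a).ne_zero) ∈ Cfsg.GU 2 F q := by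
    intro a
    obtain ⟨b, hb⟩ : ∃ b, b = ((τ a : Fˣ) : F) := ⟨_, rfl⟩
    have ha0 : (a : F) ≠ 0 := a.ne_zero
    have hsa : σ (a : F) ≠ 0 := (map_ne_zero σ).2 ha0
    have hab : b * σ (a : F) = 1 := by rw [hb, hτ, inv_mul_cancel₀ hsa]
    have hba : (a : F) * σ b = 1 := by
      rw [hb, hτ, map_inv₀, hσ.involutive, mul_inv_cancel₀ ha0]
    have hσε : σ ε = -ε⁻¹ := by
      rw [← neg_inj, neg_neg]
      exact eq_inv_of_mul_eq_one_right (by linear_combination -hε)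
    refine gu_mem hσ _ _ _ _ _ (hM _ _) ?_ ?_ ?_ ?_ <;>
      (simp only [← hb, map_div₀, map_add, map_sub, map_mul, map_ofNat, hσε]; field_simp)
    · linear_combination 2 * hab + 2 * hba
    · linear_combination 2 * hab + 2 * hba
    · linear_combination 2 * ε * hba - 2 * ε * hab
    · linear_combination 2 * hba - 2 * hab
  obtain ⟨f, hf⟩ : ∃ f : Fˣ →* ↥(Cfsg.GU 2 F q), ∀ a, (f a).val.val = M (a : F) (τ a : F) :=
    ⟨MonoidHom.mk' (fun a => ⟨_, hmem a⟩) (fun a b => Subtype.ext (Units.ext (by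
      show M _ _ = M _ _ * M _ _
      rw [hMmul, map_mul, Units.val_mul, Units.val_mul]))), fun _ => rfl⟩
  have hfi : Function.Injective f := fun a b h => by
    have h00 := congrArg (fun w : ↥(Cfsg.GU 2 F q) => w.val.val 0 0) h
    have h10 := congrArg (fun w : ↥(Cfsg.GU 2 F q) => w.val.val 1 0) h
    rw [hf, hf, hM, hM] at h00 h10
    simp at h00 h10
    refine Units.ext ?_
    field_simp at h00 h10
    refine mul_left_cancel₀ h2 ?_
    linear_combination h00 + h10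
  obtain ⟨y, hy⟩ : ∃ y : ↥(Cfsg.GU 2 F q), y.val.val = !![1, 0; 0, -1] :=
    ⟨⟨Matrix.GeneralLinearGroup.mkOfDetNeZero !![1, 0; 0, -1] (by rw [Matrix.det_fin_two_of]; simp),
      gu_mem hσ _ _ _ _ _ rfl (by simp) (by simp) (by simp) (by simp)⟩, rfl⟩
  have hyy : y * y = 1 := Subtype.ext (Units.ext (by
    rw [Subgroup.coe_mul, Units.val_mul, hy]
    ext i j; fin_cases i <;> fin_cases j <;> simp))
  have hy1 : y ≠ 1 := fun h => by
    have h' := congrArg (fun w : ↥(Cfsg.GU 2 F q) => w.val.val 1 1) h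
    rw [hy] at h'
    simp at h'
    exact h2 (by linear_combination -h')
  refine qd_sylow P (k + 1) (by omega) ?_ (f u) y ?_ (orderOf_two_of_mul_self hyy hy1) ?_
  · refine fac_two ((((hs.mul hs).mul hr)).mul (Nat.odd_iff.2 (show q % 2 = 1 by omega))) ?_
    rw [gu_two_card hσ, hm1, hp1]
    ring
  · rw [orderOf_injective f hfi, hu]
  · rw [show k + 1 - 1 = k by omega, ← map_pow]
    have hpow : u ^ (2 ^ k - 1) = τ u := by
      refine Units.ext ?_
      rw [hτ, hσ.apply_eq, ← Units.val_pow_eq_pow_val, ← Units.val_inv_eq_inv_val,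
        Units.val_inj, eq_inv_iff_mul_eq_one, ← pow_add]
      refine orderOf_dvd_iff_pow_eq_one.1 ?_
      rw [hu]
      obtain ⟨t, rfl⟩ := hr
      refine ⟨t + 1, ?_⟩
      have h0 : 1 ≤ 2 ^ k := Nat.one_le_two_pow
      have h3 : q - 1 + 2 ^ k = 2 ^ (k + 1) * (t + 1) := by rw [hm1]; ring
      omega
    have hττ : ((τ (τ u) : Fˣ) : F) = (u : F) := by
      rw [hτ, hτ, map_inv₀, hσ.involutive, inv_inv]
    rw [hpow, mul_inv_eq_iff_eq_mul]
    refine Subtype.ext (Units.ext ?_)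
    rw [Subgroup.coe_mul, Subgroup.coe_mul, Units.val_mul, Units.val_mul, hf, hf, hy, hττ, hM, hM]
    ext i j
    fin_cases i <;> fin_cases j <;> simp <;> ring

/-- Let F be a finite field with q² elements, q odd, let GU be the subgroup of GL(2,F) preserving the Hermitian form u₁v₁^q + u₂v₂^q, and P a Sylow 2-subgroup of GU. If q ≡ 1 (mod 4) then P is quasi-dihedral; if q ≡ 3 (mod 4) then P is wreathed. -/
theorem result {F : Type*} [Field F] [Fintype F] (q : ℕ) (hF : Fintype.card F = q ^ 2) (hq : Odd q) (P : Sylow 2 ↥(Cfsg.preserving (Units.coeHom (Matrix (Fin 2) (Fin 2) F)) (Cfsg.hermForm 2 F q))) : (q % 4 = 1 → Cfsg.IsQuasiDihedral (P : Subgroup ↥(Cfsg.preserving (Units.coeHom (Matrix (Fin 2) (Fin 2) F)) (Cfsg.hermForm 2 F q)))) ∧ (q % 4 = 3 → Cfsg.IsWreathed (P : Subgroup ↥(Cfsg.preserving (Units.coeHom (Matrix (Fin 2) (Fin 2) F)) (Cfsg.hermForm 2 F q)))) := by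
  obtain ⟨p, e, σ, hp, hchar, hqe, he, hσ⟩ := Cfsg.Agent.Classical.exists_usigma hF
  have h2 : (2 : F) ≠ 0 := fun h => by
    haveI := hchar
    have hd : p ∣ 2 := by rw [← CharP.cast_eq_zero_iff F p]; exact_mod_cast h
    rw [(Nat.prime_dvd_prime_iff_eq hp Nat.prime_two).1 hd] at hqe
    exact (Nat.not_even_iff_odd.2 hq) (hqe ▸ (Nat.even_pow' he.ne').2 even_two)
  exact ⟨fun h => gu_two_one hσ h h2 P, fun h => gu_two_three hσ h P⟩

end Cfsg.Agent.S1218
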