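import Cfsg.Statements.S1219
import Cfsg.Agent.Lib.Lead.GLBasic
import Cfsg.Agent.Lib.Fusion.Cores

set_option autoImplicit false
open scoped MatrixGroups
open Cfsg
open Cfsg.Agent.Fusion
open scoped commutatorElement

namespace Cfsg.Agent.S1219

open Matrix in
/-- An involution of `SL₃` is conjugate in `GL₃` to `diag(1,-1,-1)`. -/
theorem involution_basis {F : Type*} [Field F] (h2 : (2 : F) ≠ 0) (T : Matrix (Fin 3) (Fin 3) F)
    (hdet : T.det = 1) (hT : T * T = 1) (hT1 : T ≠ 1) :
    ∃ P : Matrix (Fin 3) (Fin 3) F, IsUnit P.det ∧ T * P = P * Matrix.diagonal ![1, -1, -1] := by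
  classical
  obtain ⟨f, hf⟩ : ∃ f : (Fin 3 → F) →ₗ[F] (Fin 3 → F), f = Matrix.toLin' T := ⟨_, rfl⟩
  have hff : ∀ v, f (f v) = v := fun v => by
    rw [hf, Matrix.toLin'_apply, Matrix.toLin'_apply, Matrix.mulVec_mulVec, hT, Matrix.one_mulVec]
  obtain ⟨U, hU⟩ : ∃ U : Submodule F (Fin 3 → F), U = LinearMap.ker (f - LinearMap.id) := ⟨_, rfl⟩
  obtain ⟨W, hW⟩ : ∃ W : Submodule F (Fin 3 → F), W = LinearMap.ker (f + LinearMap.id) := ⟨_, rfl⟩
  have hUm : ∀ v, v ∈ U ↔ f v = v := fun v => by simp [hU, LinearMap.mem_ker, sub_eq_zero]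
  have hWm : ∀ v, v ∈ W ↔ f v = -v := fun v => by simp [hW, LinearMap.mem_ker, add_eq_zero_iff_eq_neg]
  have hc : IsCompl U W := by
    refine ⟨Submodule.disjoint_def.2 fun v hv hv' => ?_, ?_⟩
    · have e := ((hUm v).1 hv).symm.trans ((hWm v).1 hv')
      have : (2 : F) • v = 0 := by rw [two_smul]; exact add_eq_zero_iff_eq_neg.2 e
      exact (smul_eq_zero.1 this).resolve_left h2
    · rw [codisjoint_iff, Submodule.eq_top_iff']
      intro v
      rw [Submodule.mem_sup]
      refine ⟨(2 : F)⁻¹ • (v + f v), (hUm _).2 ?_, (2 : F)⁻¹ • (v - f v), (hWm _).2 ?_, ?_⟩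
      · rw [map_smul, map_add, hff, add_comm]
      · rw [map_smul, map_sub, hff, ← smul_neg, neg_sub]
      · rw [← smul_add, show v + f v + (v - f v) = (2 : F) • v by rw [two_smul]; abel, smul_smul,
          inv_mul_cancel₀ h2, one_smul]
  obtain ⟨b0, hb0⟩ : ∃ b0, b0 = ((Module.finBasis F U).prod (Module.finBasis F W)).map
      (Submodule.prodEquivOfIsCompl U W hc) := ⟨_, rfl⟩
  have hsign : ∀ k, ∃ e : F, (e = 1 ∨ e = -1) ∧ f (b0 k) = e • b0 k := by
    rintro (k | k)
    · refine ⟨1, Or.inl rfl, ?_⟩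
      rw [one_smul, ← hUm, hb0]
      simp [Module.Basis.map_apply]
    · refine ⟨-1, Or.inr rfl, ?_⟩
      rw [neg_one_smul, ← hWm, hb0]
      simp [Module.Basis.map_apply]
  have hcard : Fintype.card (Fin (Module.finrank F U) ⊕ Fin (Module.finrank F W)) = 3 := by
    rw [← Module.finrank_eq_card_basis b0, Module.finrank_fin_fun]
  obtain ⟨σ⟩ : Nonempty (Fin (Module.finrank F U) ⊕ Fin (Module.finrank F W) ≃ Fin 3) :=
    ⟨Fintype.equivFinOfCardEq hcard⟩
  choose ε hε hb using fun i : Fin 3 => hsign (σ.symm i)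
  obtain ⟨b, hbdef⟩ : ∃ b, b = b0.reindex σ := ⟨_, rfl⟩
  obtain ⟨P, hP⟩ : ∃ P : Matrix (Fin 3) (Fin 3) F, P = (Matrix.of fun k => b k)ᵀ := ⟨_, rfl⟩
  have hPu : IsUnit P.det := by
    rw [← Matrix.isUnit_iff_isUnit_det, ← Matrix.linearIndependent_cols_iff_isUnit, hP]
    exact b.linearIndependent
  have hTP : T * P = P * Matrix.diagonal ε := by
    ext i k
    have := congrFun (hb k) i
    rw [hf, Matrix.toLin'_apply] at this
    rw [Matrix.mul_diagonal, Matrix.mul_apply]
    simp only [hP, Matrix.transpose_apply, Matrix.of_apply, hbdef, Module.Basis.reindex_apply]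
    rw [mul_comm _ (ε k)]
    exact this
  have hprod : ε 0 * ε 1 * ε 2 = 1 := by
    have := congrArg Matrix.det hTP
    rw [Matrix.det_mul, Matrix.det_mul, hdet, one_mul, Matrix.det_diagonal, Fin.prod_univ_three] at this
    exact mul_left_cancel₀ hPu.ne_zero (by rw [← this, mul_one])
  have hne : ε ≠ fun _ => 1 := by
    intro h
    apply hT1
    rw [h, Matrix.diagonal_one, Matrix.mul_one] at hTP
    have := congrArg (· * P⁻¹) hTP
    simpa [Matrix.mul_assoc, Matrix.mul_nonsing_inv _ hPu] using this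
  obtain ⟨π, hπ⟩ : ∃ π : Equiv.Perm (Fin 3), ∀ i, ε (π i) = ![1, -1, -1] i := by
    have h1 : (-1 : F) ≠ 1 := fun h => h2 (by linear_combination -h)
    rcases hε 0 with e0 | e0 <;> rcases hε 1 with e1 | e1 <;> rcases hε 2 with e2 | e2 <;>
      rw [e0, e1, e2] at hprod <;>
      first
        | (exfalso; refine hne (funext fun i => ?_); fin_cases i <;> assumption)
        | (exfalso; exact h1 (by linear_combination hprod))
        | (refine ⟨1, fun i => ?_⟩; fin_cases i <;> (simp [e0, e1, e2]; done))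
        | (refine ⟨Equiv.swap 0 1, fun i => ?_⟩; fin_cases i <;> (simp [Equiv.swap_apply_of_ne_of_ne, e0, e1, e2]; done))
        | (refine ⟨Equiv.swap 0 2, fun i => ?_⟩; fin_cases i <;> (simp [Equiv.swap_apply_of_ne_of_ne, e0, e1, e2]; done))
  refine ⟨P.submatrix id π, ?_, ?_⟩
  · rw [Matrix.det_permute']
    exact IsUnit.mul ((Units.isUnit (Equiv.Perm.sign π)).map (Int.castRingHom F)) hPu
  · ext i k
    have := congrFun (congrFun hTP i) (π k)
    rw [Matrix.mul_diagonal, hπ k] at this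
    rw [Matrix.mul_diagonal]
    exact this

/-- Let F be a finite field of odd order q and t an involution of PSL(3,F). Then C(t) is isomorphic to the quotient of GL(2,F) by a central subgroup of order gcd(q−1, 3). -/
theorem result {F : Type*} [Field F] [Fintype F] (hF : Odd (Fintype.card F)) (t : Matrix.ProjectiveSpecialLinearGroup (Fin 3) F) (ht : orderOf t = 2) : ∃ (Z : Subgroup (GL (Fin 2) F)) (_ : Z.Normal), Z ≤ Subgroup.center (GL (Fin 2) F) ∧ Nat.card Z = Nat.gcd (Fintype.card F - 1) 3 ∧ Nonempty (↥(Subgroup.centralizer ({t} : Set (Matrix.ProjectiveSpecialLinearGroup (Fin 3) F))) ≃* GL (Fin 2) F ⧸ Z) := by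
  classical
  have h2 : (2 : F) ≠ 0 := by
    intro h
    have hr : ringChar F = 2 := CharP.ringChar_of_prime_eq_zero Nat.prime_two (by exact_mod_cast h)
    exact (Nat.not_odd_iff_even.2 (Nat.even_iff.2 (FiniteField.even_card_of_char_two hr))) hF
  haveI : Nonempty (Fin 3) := ⟨0⟩
  have hodd : Odd (Nat.card (Subgroup.center (Matrix.SpecialLinearGroup (Fin 3) F))) := by
    rw [Lead.GLBasic.card_center_SL]
    exact Odd.of_dvd_nat (by decide) (Nat.gcd_dvd_left _ _)
  have hz2 : ∀ z ∈ Subgroup.center (Matrix.SpecialLinearGroup (Fin 3) F), z * z = 1 → z = 1 := by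
    intro z hz h
    have h' : orderOf (⟨z, hz⟩ : Subgroup.center (Matrix.SpecialLinearGroup (Fin 3) F)) ∣ 2 :=
      orderOf_dvd_of_pow_eq_one (Subtype.ext (by rw [Subgroup.coe_pow, pow_two]; exact h))
    have hd := Nat.dvd_gcd h' (orderOf_dvd_natCard (⟨z, hz⟩ : Subgroup.center (Matrix.SpecialLinearGroup (Fin 3) F)))
    rw [(Nat.coprime_two_left.2 hodd).gcd_eq_one, Nat.dvd_one, orderOf_eq_one_iff] at hd
    exact congrArg Subtype.val hd
  -- an involutory preimage of `t`
  obtain ⟨A, hA⟩ := QuotientGroup.mk_surjective t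
  have hA2 : A * A ∈ Subgroup.center (Matrix.SpecialLinearGroup (Fin 3) F) := by
    rw [← QuotientGroup.eq_one_iff, QuotientGroup.mk_mul, hA, ← pow_two, ← ht]
    exact pow_orderOf_eq_one _
  obtain ⟨m, hm⟩ := hodd
  obtain ⟨T, hT⟩ : ∃ T, T = A * (A * A) ^ m := ⟨_, rfl⟩
  have hTT : T * T = 1 := by
    have e : T * T = (A * A) ^ (2 * m + 1) := by
      rw [hT, show A * (A * A) ^ m = A ^ (2 * m + 1) by rw [← pow_two, ← pow_mul, ← pow_succ'],
        ← pow_add, ← pow_two, ← pow_mul]
      congr 1; omega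
    rw [e, ← hm]
    exact congrArg Subtype.val (pow_card_eq_one' (x := (⟨A * A, hA2⟩ : Subgroup.center _)))
  have hTt : (QuotientGroup.mk T : Matrix.ProjectiveSpecialLinearGroup (Fin 3) F) = t := by
    rw [hT, QuotientGroup.mk_mul, hA, QuotientGroup.mk_pow, (QuotientGroup.eq_one_iff _).2 hA2, one_pow, mul_one]
  have hT1 : T.1 ≠ 1 := fun h => by
    rw [show T = 1 from Subtype.ext h, QuotientGroup.mk_one] at hTt
    rw [← hTt, orderOf_one] at ht; omega
  obtain ⟨P, hP, hTP⟩ := involution_basis h2 T.1 T.2 (congrArg Subtype.val hTT) hT1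
  -- the isomorphism
  obtain ⟨φ, hφ⟩ : ∃ φ : GL (Fin 2) F →* Matrix.SpecialLinearGroup (Fin 3) F, ∀ g : GL (Fin 2) F,
      (φ g).1 = P * !![(g.1.det)⁻¹, 0, 0; 0, g.1 0 0, g.1 0 1; 0, g.1 1 0, g.1 1 1] * P⁻¹ := by
    refine ⟨MonoidHom.mk' (fun g => ⟨P * !![(g.1.det)⁻¹, 0, 0; 0, g.1 0 0, g.1 0 1; 0, g.1 1 0, g.1 1 1] * P⁻¹, ?_⟩)
      (fun g h => Subtype.ext ?_), fun g => rfl⟩
    · rw [Matrix.det_conj ((Matrix.isUnit_iff_isUnit_det _).2 hP), Matrix.det_fin_three]
      simp
      have h0 : g.1.det ≠ 0 := (Matrix.GeneralLinearGroup.det g).ne_zero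
      rw [Matrix.det_fin_two] at h0 ⊢
      field_simp
    · show P * _ * P⁻¹ = P * _ * P⁻¹ * (P * _ * P⁻¹)
      simp only [Units.val_mul, Matrix.det_mul, mul_inv]
      rw [show ∀ X Y : Matrix (Fin 3) (Fin 3) F, P * X * P⁻¹ * (P * Y * P⁻¹) = P * (X * Y) * P⁻¹ from fun X Y => by
        simp [Matrix.mul_assoc, Matrix.nonsing_inv_mul_cancel_left _ _ hP]]
      congr 2
      ext i j
      fin_cases i <;> fin_cases j <;> simp [Matrix.mul_apply, Fin.sum_univ_two, Fin.sum_univ_three]
  have hconj : ∀ X Y : Matrix (Fin 3) (Fin 3) F, P * X * P⁻¹ = P * Y * P⁻¹ → X = Y := by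
    intro X Y h
    have := congrArg (fun M => P⁻¹ * M * P) h
    simpa [Matrix.mul_assoc, Matrix.nonsing_inv_mul_cancel_left _ _ hP, Matrix.nonsing_inv_mul _ hP] using this
  have hrange : φ.range = Subgroup.centralizer ({T} : Set (Matrix.SpecialLinearGroup (Fin 3) F)) := by
    have hTD : T.1 = P * Matrix.diagonal ![1, -1, -1] * P⁻¹ := by
      rw [← hTP, Matrix.mul_nonsing_inv_cancel_right _ _ hP]
    have comm : ∀ X : Matrix (Fin 3) (Fin 3) F, (P * X * P⁻¹) * T.1 = T.1 * (P * X * P⁻¹) ↔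
        X * Matrix.diagonal ![1, -1, -1] = Matrix.diagonal ![1, -1, -1] * X := by
      intro X
      rw [hTD, show ∀ X Y : Matrix (Fin 3) (Fin 3) F, P * X * P⁻¹ * (P * Y * P⁻¹) = P * (X * Y) * P⁻¹ from fun X Y => by
        simp [Matrix.mul_assoc, Matrix.nonsing_inv_mul_cancel_left _ _ hP],
        show ∀ X Y : Matrix (Fin 3) (Fin 3) F, P * X * P⁻¹ * (P * Y * P⁻¹) = P * (X * Y) * P⁻¹ from fun X Y => by
        simp [Matrix.mul_assoc, Matrix.nonsing_inv_mul_cancel_left _ _ hP]]
      exact ⟨hconj _ _, fun h => by rw [h]⟩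
    apply le_antisymm
    · rintro _ ⟨g, rfl⟩
      rw [Subgroup.mem_centralizer_singleton_iff]
      apply Subtype.ext
      rw [Matrix.SpecialLinearGroup.coe_mul, Matrix.SpecialLinearGroup.coe_mul, hφ, comm]
      ext i j
      fin_cases i <;> fin_cases j <;> simp [Matrix.mul_diagonal, Matrix.diagonal_mul]
    · intro S hS
      rw [Subgroup.mem_centralizer_singleton_iff] at hS
      obtain ⟨X, hX⟩ : ∃ X, X = P⁻¹ * S.1 * P := ⟨_, rfl⟩
      have hSX : S.1 = P * X * P⁻¹ := by
        simp [hX, Matrix.mul_assoc, Matrix.mul_nonsing_inv_cancel_left _ _ hP, Matrix.mul_nonsing_inv _ hP]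
      have hS' := congrArg Subtype.val hS
      rw [Matrix.SpecialLinearGroup.coe_mul, Matrix.SpecialLinearGroup.coe_mul, hSX, comm] at hS'
      have hz : ∀ i j, ![(1 : F), -1, -1] j ≠ ![(1 : F), -1, -1] i → X i j = 0 := by
        intro i j hne
        have := congrFun (congrFun hS' i) j
        rw [Matrix.mul_diagonal, Matrix.diagonal_mul] at this
        by_contra h0
        exact hne (mul_left_cancel₀ h0 (this.trans (mul_comm _ _)))
      have h1 : (-1 : F) ≠ 1 := fun h => h2 (by linear_combination -h)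
      have z01 : X 0 1 = 0 := hz 0 1 (by simpa using h1)
      have z02 : X 0 2 = 0 := hz 0 2 (by simpa using h1)
      have z10 : X 1 0 = 0 := hz 1 0 (by simpa using h1.symm)
      have z20 : X 2 0 = 0 := hz 2 0 (by simpa using h1.symm)
      have hd : X.det = 1 := by
        have := congrArg Matrix.det hSX
        rw [S.2, Matrix.det_conj ((Matrix.isUnit_iff_isUnit_det _).2 hP)] at this
        exact this.symm
      rw [Matrix.det_fin_three, z01, z02] at hd
      have hd' : X 0 0 * (X 1 1 * X 2 2 - X 1 2 * X 2 1) = 1 := by linear_combination hd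
      have hne : X 1 1 * X 2 2 - X 1 2 * X 2 1 ≠ 0 := fun h => by simp [h] at hd'
      refine ⟨Matrix.GeneralLinearGroup.mkOfDetNeZero !![X 1 1, X 1 2; X 2 1, X 2 2]
        (by rwa [Matrix.det_fin_two_of]), Subtype.ext ?_⟩
      rw [hφ, hSX]
      congr 2
      have hdet : (Matrix.GeneralLinearGroup.mkOfDetNeZero !![X 1 1, X 1 2; X 2 1, X 2 2]
        (by rwa [Matrix.det_fin_two_of])).1.det = X 1 1 * X 2 2 - X 1 2 * X 2 1 := Matrix.det_fin_two_of _ _ _ _
      rw [hdet]
      ext i j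
      fin_cases i <;> fin_cases j <;> simp [Matrix.GeneralLinearGroup.mkOfDetNeZero, z01, z02, z10, z20]
      exact (eq_inv_of_mul_eq_one_left hd').symm
  have hinj : Function.Injective φ := by
    intro g h e
    have := hconj _ _ ((hφ g).symm.trans ((congrArg Subtype.val e).trans (hφ h)))
    apply Units.ext
    ext i j
    fin_cases i <;> fin_cases j
    · exact congrFun (congrFun this 1) 1
    · exact congrFun (congrFun this 1) 2
    · exact congrFun (congrFun this 2) 1
    · exact congrFun (congrFun this 2) 2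
  obtain ⟨Φ, hΦ⟩ : ∃ Φ : GL (Fin 2) F →* Matrix.ProjectiveSpecialLinearGroup (Fin 3) F,
      Φ = (QuotientGroup.mk' (Subgroup.center (Matrix.SpecialLinearGroup (Fin 3) F))).comp φ := ⟨_, rfl⟩
  have hΦr : Φ.range = Subgroup.centralizer ({t} : Set (Matrix.ProjectiveSpecialLinearGroup (Fin 3) F)) := by
    rw [hΦ, MonoidHom.range_comp, hrange]
    ext x
    rw [Subgroup.mem_map, Subgroup.mem_centralizer_singleton_iff]
    constructor
    · rintro ⟨S, hS, rfl⟩
      rw [Subgroup.mem_centralizer_singleton_iff] at hS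
      rw [← hTt, QuotientGroup.mk'_apply, ← QuotientGroup.mk_mul, ← QuotientGroup.mk_mul, hS]
    · intro hx
      obtain ⟨S, rfl⟩ := QuotientGroup.mk_surjective x
      refine ⟨S, ?_, rfl⟩
      rw [← hTt, ← QuotientGroup.mk_mul, ← QuotientGroup.mk_mul, QuotientGroup.eq] at hx
      obtain ⟨z, hz⟩ : ∃ z, z = (S * T)⁻¹ * (T * S) := ⟨_, rfl⟩
      rw [← hz] at hx
      have hzz : z * z = 1 := by
        have hzcm := fun g => (Subgroup.mem_center_iff.1 hx g).symm
        have e1 : T * S = S * T * z := by rw [hz]; group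
        have e2 : T * (T * S) = S := by rw [← mul_assoc, hTT, one_mul]
        have e3 : T * (T * S) = S * (z * z) := by
          rw [e1, ← mul_assoc, ← mul_assoc, e1, mul_assoc (S * T) z T, hzcm T, ← mul_assoc, mul_assoc S T T, hTT,
            mul_one, mul_assoc]
        exact mul_left_cancel (a := S) (by rw [mul_one, ← e3, e2])
      have := hz2 z hx hzz
      rw [hz, inv_mul_eq_one] at this
      rw [Subgroup.mem_centralizer_singleton_iff]
      exact this
  have hker : Φ.ker = (Subgroup.center (Matrix.SpecialLinearGroup (Fin 3) F)).comap φ := by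
    rw [hΦ, ← MonoidHom.comap_ker, QuotientGroup.ker_mk']
  have hZle : Φ.ker ≤ Subgroup.center (GL (Fin 2) F) := by
    intro g hg
    rw [hker] at hg
    rw [Subgroup.mem_center_iff]
    intro h
    apply hinj
    rw [map_mul, map_mul]
    exact Subgroup.mem_center_iff.1 hg _
  refine ⟨Φ.ker, inferInstance, hZle, ?_, ⟨((QuotientGroup.quotientKerEquivRange Φ).trans
    (MulEquiv.subgroupCongr hΦr)).symm⟩⟩
  have hle : Subgroup.center (Matrix.SpecialLinearGroup (Fin 3) F) ≤ φ.range := hrange ▸ Subgroup.center_le_centralizer _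
  rw [Nat.gcd_comm, ← Lead.GLBasic.card_center_SL, hker]
  conv_rhs => rw [← Subgroup.map_comap_eq_self hle]
  exact Nat.card_congr (Subgroup.equivMapOfInjective _ _ hinj).toEquiv

end Cfsg.Agent.S1219
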