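import Cfsg.Statements.S1222
import Cfsg.Agent.Lib.Lie.SplitRankOne.Final

set_option autoImplicit false
open Cfsg

namespace Cfsg.Agent.S1222

/-- Let G be a finite simple group with a strongly embedded subgroup H such that H permutes transitively the cosets gH with g ∉ H, and H has a normal subgroup Q acting regularly on those cosets (transitively, with only the identity fixing any of them). Then G is isomorphic to PSL(2,F) with F of characteristic 2 and at least 4 elements, or is simple with the order of a Suzuki group, or is isomorphic to PSU(3) over a field with q² elements, q ≥ 4 a power of 2. -/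
theorem result {G : Type*} [Group G] [Finite G] [IsSimpleGroup G] (H : Subgroup G) (hH : Cfsg.IsStronglyEmbedded H) (Q : Subgroup G) (hQH : Q ≤ H) (hQn : (Q.subgroupOf H).Normal) (htrans : ∀ g₁ g₂ : G, g₁ ∉ H → g₂ ∉ H → ∃ u ∈ Q, g₂⁻¹ * (u * g₁) ∈ H) (hreg : ∀ g : G, g ∉ H → ∀ u ∈ Q, g⁻¹ * (u * g) ∈ H → u = 1) : (∃ (F : Type) (_ : Field F) (_ : Fintype F), CharP F 2 ∧ 4 ≤ Fintype.card F ∧ Nonempty (G ≃* Matrix.ProjectiveSpecialLinearGroup (Fin 2) F)) ∨ Cfsg.IsSuzuki G ∨ (∃ (F : Type) (_ : Field F) (_ : Fintype F) (q : ℕ), Fintype.card F = q ^ 2 ∧ Even q ∧ 4 ≤ q ∧ Nonempty (G ≃* Cfsg.PSU 3 F q)) := by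
  open MulAction Cfsg.Agent.Lie in
  obtain ⟨hne, heven, hse⟩ := hH
  have hevG : Even (Nat.card G) :=
    even_iff_two_dvd.2 ((even_iff_two_dvd.1 heven).trans (Subgroup.card_subgroup_dvd_card H))
  have hbot : H ≠ ⊥ := fun e => by rw [e, Subgroup.card_bot] at heven; exact Nat.not_even_one heven
  obtain ⟨t, ht, ht1, htH⟩ := R1C.exists_invol_not_mem H hne hevG
  obtain ⟨a, rfl⟩ : ∃ a : G ⧸ H, a = ((1 : G) : G ⧸ H) := ⟨_, rfl⟩
  have hst : stabilizer G ((1 : G) : G ⧸ H) = H := MulAction.stabilizer_quotient H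
  have hsm : ∀ g x : G, g • ((x : G) : G ⧸ H) = ((g * x : G) : G ⧸ H) := fun g x => rfl
  have hD : stabilizer G ((1 : G) : G ⧸ H) ⊓ stabilizer G (t • ((1 : G) : G ⧸ H)) =
      H ⊓ H.map (MulAut.conj t).toMonoidHom := by
    rw [MulAction.stabilizer_smul_eq_stabilizer_map_conj, hst]
  have hS : Cfsg.IsRankOneSetup G (G ⧸ H) ((1 : G) : G ⧸ H) t Q := by
    refine R1C.setup_of_regular ht ht1 (fun e => htH ?_) (hst.symm ▸ hQH) (fun h hh x hx => ?_) (fun b hb => ?_)
      (fun q hq e => ?_) ?_ (by rw [hst]; exact heven)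
    · rw [← hst]; exact e
    · rw [hst] at hh
      exact hQn.conj_mem ⟨x, hQH hx⟩ hx ⟨h, hh⟩
    · obtain ⟨g, rfl⟩ := QuotientGroup.mk_surjective b
      obtain ⟨u, hu, e⟩ := htrans t g htH fun hg => hb (QuotientGroup.eq.2 (by simpa using inv_mem hg))
      refine ⟨u, hu, ?_⟩
      rw [hsm, hsm, mul_one, eq_comm, QuotientGroup.eq]
      exact e
    · rw [hsm, hsm, mul_one, eq_comm, QuotientGroup.eq] at e
      exact hreg t htH q hq e
    · show Odd (Nat.card ↥(stabilizer G _ ⊓ stabilizer G _))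
      rw [hD]
      exact hse t htH
  rcases R1C.simple_main ⟨hS, R1C.exists_two_invol H hne hbot hevG⟩ with
    ⟨F, iF, iFF, ⟨n, hn, hF⟩, e⟩ | h | ⟨F, iF, iFF, n, hn, hF, e⟩
  · left
    haveI : Fact (Nat.Prime 2) := ⟨Nat.prime_two⟩
    exact ⟨F, iF, iFF, charP_of_card_eq_prime_pow hF,
      hF ▸ Nat.pow_le_pow_right (show 0 < 2 by norm_num) hn, e⟩
  · exact Or.inr (Or.inl h)
  · exact Or.inr (Or.inr ⟨F, iF, iFF, 2 ^ n, hF, (Nat.even_pow.2 ⟨even_two, by omega⟩),
      Nat.pow_le_pow_right (show 0 < 2 by norm_num) hn, e⟩)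

end Cfsg.Agent.S1222
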