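import Cfsg.Statements.S1226


set_option autoImplicit false
open Cfsg

namespace Cfsg.Agent.S1226

/-- Let G be a finite group with a Sylow 2-subgroup T that is neither cyclic nor normal, such that the centralizer of every involution is an elementary abelian 2-group. Then N_G(T) is a strongly embedded subgroup of G. -/
theorem result {G : Type*} [Group G] [Finite G] (T : Sylow 2 G) (hnc : ¬ IsCyclic (T : Subgroup G)) (hnn : ¬ (T : Subgroup G).Normal) (hC : ∀ t : G, orderOf t = 2 → IsMulCommutative (Subgroup.centralizer ({t} : Set G)) ∧ ∀ c ∈ Subgroup.centralizer ({t} : Set G), c ^ 2 = 1) : Cfsg.IsStronglyEmbedded (Subgroup.normalizer ((T : Subgroup G) : Set G)) := by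
  have hne : (T : Subgroup G) ≠ ⊥ := by
    intro h
    apply hnc
    rw [h]
    infer_instance
  haveI : Nontrivial (T : Subgroup G) := (Subgroup.nontrivial_iff_ne_bot _).2 hne
  haveI := T.isPGroup'.center_nontrivial
  obtain ⟨z₀, hz₀⟩ := exists_prime_orderOf_dvd_card' (G := Subgroup.center (T : Subgroup G)) 2 (by
    obtain ⟨k, hk⟩ := IsPGroup.iff_card.1 (T.isPGroup'.to_subgroup (Subgroup.center (T : Subgroup G)))
    have hlt : 1 < Nat.card (Subgroup.center (T : Subgroup G)) := Finite.one_lt_card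
    rw [hk] at hlt ⊢
    exact dvd_pow_self 2 (by rintro rfl; simp at hlt))
  set z : G := ((z₀ : (T : Subgroup G)) : G) with hzdef
  have hz : orderOf z = 2 := by rw [hzdef, Subgroup.orderOf_coe, Subgroup.orderOf_coe, hz₀]
  have hTz : ∀ x ∈ (T : Subgroup G), x ∈ Subgroup.centralizer ({z} : Set G) := fun x hx =>
    Subgroup.mem_centralizer_singleton_iff.2
      (congrArg Subtype.val (Subgroup.mem_center_iff.1 z₀.2 ⟨x, hx⟩))
  have habel : ∀ x ∈ (T : Subgroup G), ∀ y ∈ (T : Subgroup G), x * y = y * x := fun x hx y hy =>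
    congrArg Subtype.val ((hC z hz).1.is_comm.comm ⟨x, hTz x hx⟩ ⟨y, hTz y hy⟩)
  have hCT : ∀ t ∈ (T : Subgroup G), orderOf t = 2 →
      Subgroup.centralizer ({t} : Set G) = (T : Subgroup G) := by
    intro t ht ho
    refine T.is_maximal' (fun c => ⟨1, ?_⟩) fun x hx =>
      Subgroup.mem_centralizer_singleton_iff.2 (habel x hx t ht)
    exact Subtype.ext (by simpa using (hC t ho).2 c c.2)
  have hinT : ∀ n ∈ Subgroup.normalizer ((T : Subgroup G) : Set G), orderOf n = 2 → n ∈ (T : Subgroup G) := by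
    intro n hn ho
    have hp : IsPGroup 2 (Subgroup.zpowers n) :=
      IsPGroup.of_card (n := 1) (by rw [Nat.card_zpowers, ho, pow_one])
    have h1 := T.is_maximal' (hp.to_sup_of_normal_right' T.isPGroup' (Subgroup.zpowers_le.2 hn))
      le_sup_right
    rw [← h1]
    exact Subgroup.mem_sup_left (Subgroup.mem_zpowers n)
  refine ⟨fun h => hnn (Subgroup.normalizer_eq_top_iff.1 h),
    even_iff_two_dvd.2 ?_, fun g hg => ?_⟩
  · have := Subgroup.orderOf_dvd_natCard _ (Subgroup.le_normalizer (z₀ : (T : Subgroup G)).2)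
    rwa [← hzdef, hz] at this
  rw [← Nat.not_even_iff_odd, even_iff_two_dvd]
  intro hdvd
  obtain ⟨n₀, hn₀⟩ := exists_prime_orderOf_dvd_card' 2 hdvd
  have hn : orderOf (n₀ : G) = 2 := by rw [Subgroup.orderOf_coe, hn₀]
  obtain ⟨m, hm, hmn⟩ := (Subgroup.mem_inf.1 n₀.2).2
  simp only [MulEquiv.coe_toMonoidHom, MulAut.conj_apply] at hmn
  have hmo : orderOf m = 2 := by
    rw [← hn, ← hmn]
    exact (orderOf_injective (MulAut.conj g).toMonoidHom (MulAut.conj g).injective m).symm
  have hnT := hinT _ (Subgroup.mem_inf.1 n₀.2).1 hn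
  have hmT := hinT m hm hmo
  refine hg (Subgroup.mem_normalizer_iff.2 fun x => ?_)
  rw [← hCT m hmT hmo, Subgroup.mem_centralizer_singleton_iff]
  conv_rhs => rw [hCT m hmT hmo, ← hCT _ hnT hn, Subgroup.mem_centralizer_singleton_iff, ← hmn]
  constructor
  · intro h
    calc g * x * g⁻¹ * (g * m * g⁻¹) = g * (x * m) * g⁻¹ := by group
      _ = g * (m * x) * g⁻¹ := by rw [h]
      _ = g * m * g⁻¹ * (g * x * g⁻¹) := by group
  · intro h
    apply mul_left_cancel (a := g)
    apply mul_right_cancel (b := g⁻¹)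
    calc g * (x * m) * g⁻¹ = g * x * g⁻¹ * (g * m * g⁻¹) := by group
      _ = g * m * g⁻¹ * (g * x * g⁻¹) := h
      _ = g * (m * x) * g⁻¹ := by group

end Cfsg.Agent.S1226
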