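import Cfsg.Statements.S1227
import Cfsg.Agent.Lib.Fusion.ElemCentralizersTriple

set_option autoImplicit false
open Cfsg
open Cfsg.Agent.Fusion
open scoped commutatorElement

namespace Cfsg.Agent.S1227

/-- Let G be a finite group with a Sylow 2-subgroup T that is neither cyclic nor normal, such that the centralizer of every involution is an elementary abelian 2-group; put H = N_G(T), let u be an involution outside H and D = H ∩ uHu⁻¹. Then u inverts every element of D, |H| = |T|·(|T| − 1), and D is a complement to T in H. -/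
theorem result {G : Type*} [Group G] [Finite G] (T : Sylow 2 G) (hnc : ¬ IsCyclic (T : Subgroup G)) (hnn : ¬ (T : Subgroup G).Normal) (hC : ∀ t : G, orderOf t = 2 → IsMulCommutative (Subgroup.centralizer ({t} : Set G)) ∧ ∀ c ∈ Subgroup.centralizer ({t} : Set G), c ^ 2 = 1) (u : G) (hu : orderOf u = 2) (huH : u ∉ Subgroup.normalizer ((T : Subgroup G) : Set G)) : (∀ d ∈ Subgroup.normalizer ((T : Subgroup G) : Set G) ⊓ (Subgroup.normalizer ((T : Subgroup G) : Set G)).map (MulAut.conj u).toMonoidHom, u * d * u⁻¹ = d⁻¹) ∧ Nat.card (Subgroup.normalizer ((T : Subgroup G) : Set G)) = Nat.card T * (Nat.card T - 1) ∧ Subgroup.IsComplement' ((Subgroup.normalizer ((T : Subgroup G) : Set G) ⊓ (Subgroup.normalizer ((T : Subgroup G) : Set G)).map (MulAut.conj u).toMonoidHom).subgroupOf (Subgroup.normalizer ((T : Subgroup G) : Set G))) ((T : Subgroup G).subgroupOf (Subgroup.normalizer ((T : Subgroup G) : Set G))) := by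
  have h : ECent.Ctx T := ⟨hnc, hnn, hC⟩
  have huu : u * u = 1 := by rw [← sq]; exact orderOf_dvd_iff_pow_eq_one.1 hu.dvd
  refine ⟨fun d hd => ECent.u_inverts h huu huH hd, ECent.card_H h, ?_⟩
  have hle : ECent.Dg T u ≤ ECent.Hn T := inf_le_left
  have hdis : ((ECent.Dg T u).subgroupOf (ECent.Hn T)) ⊓ ((T : Subgroup G).subgroupOf (ECent.Hn T)) = ⊥ := by
    rw [Subgroup.eq_bot_iff_forall]
    intro x hx
    exact Subtype.ext (ECent.Dg_T h huH (Subgroup.mem_inf.1 hx).1 (Subgroup.mem_inf.1 hx).2)
  show Subgroup.IsComplement' ((ECent.Dg T u).subgroupOf (ECent.Hn T)) ((T : Subgroup G).subgroupOf (ECent.Hn T))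
  refine Subgroup.isComplement'_of_card_mul_and_disjoint ?_ (disjoint_iff.2 hdis)
  rw [Nat.card_congr (Subgroup.subgroupOfEquivOfLe hle).toEquiv,
    Nat.card_congr (Subgroup.subgroupOfEquivOfLe ECent.T_le).toEquiv, ECent.card_D h huu huH, ECent.card_H h, mul_comm]

end Cfsg.Agent.S1227
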