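import Cfsg.Statements.S1228
import Cfsg.Agent.Lib.Fusion.ElemCentralizersTriple

set_option autoImplicit false
open Cfsg
open Cfsg.Agent.Fusion
open scoped commutatorElement

namespace Cfsg.Agent.S1228

/-- Let G be a finite group with a Sylow 2-subgroup T that is neither cyclic nor normal, such that the centralizer of every involution is an elementary abelian 2-group; put H = N_G(T), let u be an involution outside H and D = H ∩ uHu⁻¹. Then N_G(D) = D ⊔ ⟨u⟩, and a coset gH is fixed by every element of D exactly when gH = H or gH = uH. -/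
theorem result {G : Type*} [Group G] [Finite G] (T : Sylow 2 G) (hnc : ¬ IsCyclic (T : Subgroup G)) (hnn : ¬ (T : Subgroup G).Normal) (hC : ∀ t : G, orderOf t = 2 → IsMulCommutative (Subgroup.centralizer ({t} : Set G)) ∧ ∀ c ∈ Subgroup.centralizer ({t} : Set G), c ^ 2 = 1) (u : G) (hu : orderOf u = 2) (huH : u ∉ Subgroup.normalizer ((T : Subgroup G) : Set G)) : Subgroup.normalizer ((Subgroup.normalizer ((T : Subgroup G) : Set G) ⊓ (Subgroup.normalizer ((T : Subgroup G) : Set G)).map (MulAut.conj u).toMonoidHom : Subgroup G) : Set G) = (Subgroup.normalizer ((T : Subgroup G) : Set G) ⊓ (Subgroup.normalizer ((T : Subgroup G) : Set G)).map (MulAut.conj u).toMonoidHom) ⊔ Subgroup.zpowers u ∧ ∀ g : G, ((∀ d ∈ Subgroup.normalizer ((T : Subgroup G) : Set G) ⊓ (Subgroup.normalizer ((T : Subgroup G) : Set G)).map (MulAut.conj u).toMonoidHom, d • (QuotientGroup.mk g : G ⧸ Subgroup.normalizer ((T : Subgroup G) : Set G)) = QuotientGroup.mk g) ↔ (QuotientGroup.mk g : G ⧸ Subgroup.normalizer ((T : Subgroup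 G) : Set G)) = QuotientGroup.mk 1 ∨ (QuotientGroup.mk g : G ⧸ Subgroup.normalizer ((T : Subgroup G) : Set G)) = QuotientGroup.mk u) := by
  have h : ECent.Ctx T := ⟨hnc, hnn, hC⟩
  have huu : u * u = 1 := by rw [← sq]; exact orderOf_dvd_iff_pow_eq_one.1 hu.dvd
  refine ⟨ECent.norm_D h huu huH, fun g => ?_⟩
  show (∀ d ∈ ECent.Dg T u, d • (QuotientGroup.mk g : G ⧸ ECent.Hn T) = QuotientGroup.mk g) ↔
    (QuotientGroup.mk g : G ⧸ ECent.Hn T) = QuotientGroup.mk 1 ∨ (QuotientGroup.mk g : G ⧸ ECent.Hn T) = QuotientGroup.mk u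
  constructor
  · intro hfix
    obtain ⟨d, hd, hd1⟩ := ECent.exists_D_ne_one h huu huH
    have e := hfix d hd
    rw [MulAction.Quotient.smul_mk, QuotientGroup.eq] at e
    have hm : g⁻¹ * d * g ∈ ECent.Hn T := by
      have := inv_mem e
      simpa [smul_eq_mul, mul_assoc] using this
    rcases ECent.fixed h huu huH hd hd1 hm with h1 | h1
    · left; rw [QuotientGroup.eq, mul_one]; exact inv_mem h1
    · right; rw [eq_comm, QuotientGroup.eq]; exact h1
  · rintro (e | e) d hd <;> rw [e, MulAction.Quotient.smul_mk, QuotientGroup.eq, smul_eq_mul]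
    · simpa using inv_mem (ECent.mem_Dg.1 hd).1
    · have := inv_mem (ECent.mem_Dg.1 hd).2
      simpa [mul_assoc] using this

end Cfsg.Agent.S1228
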