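import Cfsg.Statements.S1231
import Cfsg.Agent.Lib.Fusion.Alperin

set_option autoImplicit false
open Cfsg
open Cfsg.Agent.Fusion
open scoped commutatorElement

namespace Cfsg.Agent.S1231

open Cfsg.Agent.Fusion in
theorem rank_iff {G : Type*} [Group G] (p m : ℕ) (X : Subgroup G) :
    ¬ Cfsg.PRankLE p m ↥X ↔ ∃ E : Subgroup G, E ≤ X ∧ (∀ a ∈ E, ∀ b ∈ E, a * b = b * a) ∧
      (∀ a ∈ E, a ^ p = 1) ∧ p ^ m < Nat.card E := by
  constructor
  · intro h
    simp only [Cfsg.PRankLE, not_forall, not_le] at h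
    obtain ⟨A, hA, hexp, hc⟩ := h
    refine ⟨A.map X.subtype, Subgroup.map_subtype_le A, ?_, ?_, ?_⟩
    · rintro _ ⟨a, ha, rfl⟩ _ ⟨b, hb, rfl⟩
      exact congrArg (fun z : ↥A => ((z : ↥X) : G)) (hA.is_comm.comm ⟨a, ha⟩ ⟨b, hb⟩)
    · rintro _ ⟨a, ha, rfl⟩
      exact congrArg Subtype.val (hexp a ha)
    · rwa [Subgroup.card_map_of_injective X.subtype_injective]
  · rintro ⟨E, hEX, hcomm, hexp, hc⟩ h
    refine hc.not_ge ?_
    have := h (E.subgroupOf X) ⟨⟨fun a b => Subtype.ext (Subtype.ext (hcomm _ a.2 _ b.2))⟩⟩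
      fun a ha => Subtype.ext (hexp _ ha)
    rwa [Nat.card_congr (Subgroup.subgroupOfEquivOfLe hEX).toEquiv] at this

/-- Let H be a subgroup of the finite group G, p a prime, k ≥ 1, and P a Sylow p-subgroup of H whose p-rank is at least k. Then N_G(X) ≤ H for every subgroup X of P of p-rank at least k if and only if H ∩ gHg⁻¹ has p-rank less than k for every g ∉ H. -/
theorem result {G : Type*} [Group G] [Finite G] {p : ℕ} [Fact p.Prime] (k : ℕ) (hk : 1 ≤ k) (H : Subgroup G) (P : Sylow p ↥H) (hP : ¬ Cfsg.PRankLE p (k - 1) ↥(P : Subgroup ↥H)) : (∀ X : Subgroup G, X ≤ (P : Subgroup ↥H).map H.subtype → ¬ Cfsg.PRankLE p (k - 1) ↥X → Subgroup.normalizer (X : Set G) ≤ H) ↔ (∀ g : G, g ∉ H → Cfsg.PRankLE p (k - 1) ↥(H ⊓ H.map (MulAut.conj g).toMonoidHom)) := by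
  have hp : p.Prime := Fact.out
  obtain ⟨S, hS⟩ : ∃ S : Subgroup G, S = (P : Subgroup ↥H).map H.subtype := ⟨_, rfl⟩
  have hSH : S ≤ H := hS ▸ Subgroup.map_subtype_le _
  have hSp : IsPGroup p S := hS ▸ P.isPGroup'.map _
  obtain ⟨E₀, hE₀S, hE₀⟩ : ∃ E : Subgroup G, E ≤ S ∧ ((∀ a ∈ E, ∀ b ∈ E, a * b = b * a) ∧
      (∀ a ∈ E, a ^ p = 1) ∧ p ^ (k - 1) < Nat.card E) := by
    simp only [Cfsg.PRankLE, not_forall, not_le] at hP
    obtain ⟨A, hA, hexp, hc⟩ := hP
    refine ⟨A.map (H.subtype.comp (P : Subgroup ↥H).subtype), ?_, ?_, ?_, ?_⟩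
    · rw [hS]
      rintro _ ⟨a, -, rfl⟩
      exact ⟨a, a.2, rfl⟩
    · rintro _ ⟨a, ha, rfl⟩ _ ⟨b, hb, rfl⟩
      exact congrArg (fun z : ↥A => (((z : ↥(P : Subgroup ↥H)) : ↥H) : G))
        (hA.is_comm.comm ⟨a, ha⟩ ⟨b, hb⟩)
    · rintro _ ⟨a, ha, rfl⟩
      rw [← map_pow, hexp a ha, map_one]
    · rwa [Subgroup.card_map_of_injective (f := H.subtype.comp (P : Subgroup ↥H).subtype)
        (H.subtype_injective.comp (P : Subgroup ↥H).subtype_injective)]
  constructor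
  · intro hX g hg
    rw [← not_not (a := Cfsg.PRankLE p (k - 1) ↥(H ⊓ H.map (MulAut.conj g).toMonoidHom)), rank_iff]
    rintro ⟨E, hE, hEc, hEp, hEn⟩
    refine hg ?_
    -- the hypothesis in elementary form
    have hX' : ∀ T : Subgroup G, T ≤ S → (∃ F : Subgroup G, F ≤ T ∧ (∀ a ∈ F, ∀ b ∈ F, a * b = b * a) ∧
        (∀ a ∈ F, a ^ p = 1) ∧ p ^ (k - 1) < Nat.card F) → Subgroup.normalizer (T : Set G) ≤ H :=
      fun T hT hF => hX T (hS ▸ hT) ((rank_iff p _ T).2 hF)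
    have hNS : Subgroup.normalizer (S : Set G) ≤ H := hX' S le_rfl ⟨E₀, hE₀S, hE₀⟩
    obtain ⟨Q, hQ, hSQ⟩ := exists_sylIn_ge hSp (le_top (a := S))
    have hSeq : S = Q := by
      by_contra hne
      have hlt := SylIn.normalizer_growth (p := p) hSQ hne hQ.isPGroup
      have hle : Q ⊓ Subgroup.normalizer (S : Set G) ≤ H := inf_le_right.trans hNS
      have hmax := P.is_maximal' (Q := (Q ⊓ Subgroup.normalizer (S : Set G)).subgroupOf H)
        ((hQ.isPGroup.to_inf_left (K := Subgroup.normalizer (S : Set G))).comap_subtype)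
        (by
          intro a ha
          exact Subgroup.mem_subgroupOf.2 (hlt.le (hS ▸ Subgroup.mem_map_of_mem H.subtype ha)))
      refine hlt.ne (le_antisymm hlt.le fun a ha => ?_)
      have : (⟨a, hle ha⟩ : ↥H) ∈ (P : Subgroup ↥H) := hmax ▸ Subgroup.mem_subgroupOf.2 ha
      rw [hS]
      exact ⟨_, this, rfl⟩
    have hSyl : SylIn p S ⊤ := hSeq ▸ hQ
    -- move `E` and its conjugate into `S`
    have hconj : ∀ F : Subgroup G, F ≤ H → IsPGroup p F → ∃ h ∈ H, cj F h ≤ S := by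
      intro F hF hFp
      obtain ⟨h, hh, hle⟩ := (hSyl.mono hSH le_top).conj_le hFp hF
      exact ⟨h, hh, hle⟩
    have hEp' : IsPGroup p E := fun a => ⟨1, Subtype.ext (by simpa using hEp _ a.2)⟩
    obtain ⟨h, hh, hhle⟩ := hconj E (hE.trans inf_le_left) hEp'
    have hEg : cj E g⁻¹ ≤ H := by
      intro z hz
      rw [mem_cj, inv_inv] at hz
      obtain ⟨y, hy, hye⟩ := (Subgroup.mem_inf.1 (hE hz)).2
      have : y = z := by
        simp only [MulEquiv.coe_toMonoidHom, MulAut.conj_apply] at hye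
        calc y = g⁻¹ * (g * y * g⁻¹) * g := by group
          _ = g⁻¹ * (g * z * g⁻¹) * g := by rw [hye]
          _ = z := by group
      exact this ▸ hy
    obtain ⟨h', hh', hhle'⟩ := hconj (cj E g⁻¹) hEg (isPGroup_cj hEp' _)
    rw [cj_cj] at hhle'
    have hA : ((cj E h : Subgroup G) : Set G) ⊆ S := hhle
    have hAg : rcj (h * g * h'⁻¹) ((cj E h : Subgroup G) : Set G) ⊆ S := by
      rw [rcj_coe, cj_cj, show (h * g * h'⁻¹)⁻¹ * h = h' * g⁻¹ by group]
      exact hhle'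
    have key : ∀ (A : Set G) (x : G), Chain (TameStep p S) A x →
        (∃ F : Subgroup G, (F : Set G) ⊆ A ∧ (∀ a ∈ F, ∀ b ∈ F, a * b = b * a) ∧
          (∀ a ∈ F, a ^ p = 1) ∧ p ^ (k - 1) < Nat.card F) → x ∈ H := by
      intro A x hc
      induction hc with
      | nil _ => intro _; exact one_mem H
      | @cons B y T z hz hBT _ ih =>
        rintro ⟨F, hFB, hF1, hF2, hF3⟩
        obtain ⟨Q', -, hT, hzN, -⟩ := hz
        have hzH : z ∈ H := hX' T (hT ▸ inf_le_left) ⟨F, fun a ha => hBT (hFB ha), hF1, hF2, hF3⟩ hzN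
        refine mul_mem hzH (ih ⟨cj F z⁻¹, ?_, ?_, ?_, by rwa [card_cj]⟩)
        · rw [← rcj_coe]; exact Set.image_mono hFB
        · intro a ha b hb
          rw [mem_cj, inv_inv] at ha hb
          have := hF1 _ ha _ hb
          calc a * b = z⁻¹ * ((z * a * z⁻¹) * (z * b * z⁻¹)) * z := by group
            _ = z⁻¹ * ((z * b * z⁻¹) * (z * a * z⁻¹)) * z := by rw [this]
            _ = b * a := by group
        · intro a ha
          rw [mem_cj, inv_inv] at ha
          have := hF2 _ ha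
          rw [conj_pow, conj_eq_one_iff] at this
          exact this
    have hres := key _ _ (alperin hSyl hA hAg) ⟨cj E h, subset_rfl, ?_, ?_, by rwa [card_cj]⟩
    · have := mul_mem (mul_mem (inv_mem hh) hres) hh'
      simpa [mul_assoc] using this
    · intro a ha b hb
      rw [mem_cj] at ha hb
      have := hEc _ ha _ hb
      calc a * b = h * ((h⁻¹ * a * h) * (h⁻¹ * b * h)) * h⁻¹ := by group
        _ = h * ((h⁻¹ * b * h) * (h⁻¹ * a * h)) * h⁻¹ := by rw [this]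
        _ = b * a := by group
    · intro a ha
      rw [mem_cj] at ha
      have := hEp _ ha
      rw [show h⁻¹ * a * h = h⁻¹ * a * h⁻¹⁻¹ by rw [inv_inv], conj_pow, conj_eq_one_iff] at this
      exact this
  · intro hint X hX hr g hg
    by_contra hgH
    refine (rank_iff p _ (H ⊓ H.map (MulAut.conj g).toMonoidHom)).2 ?_ (hint g hgH)
    obtain ⟨F, hF, hF'⟩ := (rank_iff p _ X).1 hr
    refine ⟨F, fun a ha => Subgroup.mem_inf.2 ⟨(hS ▸ hSH) (hX (hF ha)), ?_⟩, hF'⟩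
    refine ⟨g⁻¹ * a * g, (hS ▸ hSH) (hX ?_), by simp [mul_assoc]⟩
    have h1 := (Subgroup.mem_normalizer_iff.1 (inv_mem hg) a).1 (hF ha)
    rwa [inv_inv] at h1

end Cfsg.Agent.S1231
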