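import Cfsg.Statements.S1233
import Cfsg.Agent.Lib.Solv.SelfCentEight.CentralProduct
-- import your own Cfsg.Agent.* helpers here

set_option autoImplicit false
open Cfsg

namespace Cfsg.Agent.S1233

/-- Let S be a finite 2-group and Q a subgroup of order 32 generated by two elementwise-commuting subgroups Q₁, Q₂ each isomorphic to the quaternion group of order 8 (so Q = Q₁ ∗ Q₂). If C_S(Q) ≤ Q, then every section of S has 2-rank at most 4. -/
theorem result {S : Type*} [Group S] [Finite S] (hS : IsPGroup 2 S) (Q Q₁ Q₂ : Subgroup S) (e₁ : Q₁ ≃* QuaternionGroup 2) (e₂ : Q₂ ≃* QuaternionGroup 2) (hcomm : ∀ a ∈ Q₁, ∀ b ∈ Q₂, a * b = b * a) (hQ : Q₁ ⊔ Q₂ = Q) (hQ32 : Nat.card Q = 32) (hC : Subgroup.centralizer (Q : Set S) ≤ Q) : Cfsg.SectionalPRankLE 2 4 S := by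
  let f₁ : Cfsg.Agent.Solv.SelfCentEight.QQ.Q8 →* S := Q₁.subtype.comp e₁.symm.toMonoidHom
  let f₂ : Cfsg.Agent.Solv.SelfCentEight.QQ.Q8 →* S := Q₂.subtype.comp e₂.symm.toMonoidHom
  have hcm : ∀ a b, Commute (f₁ a) (f₂ b) := fun a b =>
    hcomm _ (e₁.symm a).2 _ (e₂.symm b).2
  set μ := MonoidHom.noncommCoprod f₁ f₂ hcm with hμdef
  have hr₁ : f₁.range = Q₁ := by
    ext x
    exact ⟨fun ⟨a, ha⟩ => ha ▸ (e₁.symm a).2,
      fun hx => ⟨e₁ ⟨x, hx⟩, congrArg Subtype.val (e₁.symm_apply_apply _)⟩⟩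
  have hr₂ : f₂.range = Q₂ := by
    ext x
    exact ⟨fun ⟨a, ha⟩ => ha ▸ (e₂.symm a).2,
      fun hx => ⟨e₂ ⟨x, hx⟩, congrArg Subtype.val (e₂.symm_apply_apply _)⟩⟩
  have hrange : μ.range = Q := by
    rw [hμdef, MonoidHom.noncommCoprod_range, hr₁, hr₂, hQ]
  have hval : ∀ a b, μ (a, b) = f₁ a * f₂ b := fun a b => rfl
  have hi₁ : Function.Injective f₁ := Subtype.val_injective.comp e₁.symm.injective
  have hi₂ : Function.Injective f₂ := Subtype.val_injective.comp e₂.symm.injective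
  have hk : ∀ p, μ p = 1 → p = 1 ∨ p = (Cfsg.Agent.Solv.SelfCentEight.QQ.qc,
      Cfsg.Agent.Solv.SelfCentEight.QQ.qc) := by
    rintro ⟨a, b⟩ hp
    rw [hval] at hp
    have ha : ∀ c, a * c = c * a := fun c => hi₁ (by
      rw [map_mul, map_mul, eq_inv_of_mul_eq_one_left hp]
      exact ((hcm c b).symm.inv_left).eq)
    have hb : ∀ c, b * c = c * b := fun c => hi₂ (by
      rw [map_mul, map_mul, eq_inv_of_mul_eq_one_right hp]
      exact ((hcm a c).inv_left).eq)
    rcases Cfsg.Agent.Solv.SelfCentEight.QQ.center_cases a (ha _) (ha _) with rfl | rfl <;>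
      rcases Cfsg.Agent.Solv.SelfCentEight.QQ.center_cases b (hb _) (hb _) with rfl | rfl
    · exact Or.inl rfl
    · rw [map_one, one_mul, ← map_one f₂] at hp
      exact absurd (hi₂ hp) (by decide)
    · rw [map_one, mul_one, ← map_one f₁] at hp
      exact absurd (hi₁ hp) (by decide)
    · exact Or.inr rfl
  have hμ : ∀ p q, μ p = μ q ↔ Cfsg.Agent.Solv.SelfCentEight.QQ.Same p q := by
    have hcc : μ (Cfsg.Agent.Solv.SelfCentEight.QQ.qc, Cfsg.Agent.Solv.SelfCentEight.QQ.qc) = 1 := by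
      by_contra hne
      have hinj : Function.Injective μ := (injective_iff_map_eq_one μ).2 fun p hp =>
        (hk p hp).resolve_right fun h => hne (h ▸ hp)
      have h := Nat.card_congr (MonoidHom.ofInjective hinj).toEquiv
      rw [hrange, hQ32, Nat.card_eq_fintype_card,
        Cfsg.Agent.Solv.SelfCentEight.QQ.card_qp] at h
      omega
    intro p q
    refine ⟨fun h => ?_, ?_⟩
    · rcases hk (q⁻¹ * p) (by rw [map_mul, map_inv, h, inv_mul_cancel]) with h1 | h1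
      · exact Or.inl (inv_mul_eq_one.1 h1).symm
      · exact Or.inr (inv_mul_eq_iff_eq_mul.1 h1)
    · rintro (rfl | rfl)
      · rfl
      · rw [map_mul, hcc, mul_one]
  obtain ⟨b, hb⟩ := Cfsg.Agent.Solv.SelfCentEight.exists_selfCentralizing hS μ hμ (hrange.symm ▸ hC)
  obtain ⟨hAc, hAe⟩ := Cfsg.Agent.Solv.SelfCentEight.lagSub_facts μ hμ b
  exact Cfsg.Agent.Solv.SelfCentEight.sectional (Cfsg.Agent.Solv.SelfCentEight.bound hS _ hAc hAe
    (Cfsg.Agent.Solv.SelfCentEight.card_lagSub μ hμ b) hb)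

end Cfsg.Agent.S1233
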