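import Cfsg.Statements.S1234
import Cfsg.Agent.Lib.Solv.SelfCentEight.Main
-- import your own Cfsg.Agent.* helpers here

set_option autoImplicit false
open Cfsg

namespace Cfsg.Agent.S1234

/-- Let S be a finite 2-group and Q ≤ S a subgroup of order 32 having an elementary abelian subgroup E of order 16 and an involution s ∉ E whose centralizer in E has order 4 (so Q ≅ (Z₂ × Z₂) ≀ Z₂). If C_S(Z(Q)) = Q, then every section of S has 2-rank at most 4. -/
theorem result {S : Type*} [Group S] [Finite S] (hS : IsPGroup 2 S) (Q E : Subgroup S) (hEQ : E ≤ Q) (hE : Cfsg.IsElementaryAbelian 2 E) (hE16 : Nat.card E = 16) (hQ32 : Nat.card Q = 32) (s : S) (hsQ : s ∈ Q) (hsE : s ∉ E) (hs : orderOf s = 2) (hfix : Nat.card ↥(E ⊓ Subgroup.centralizer ({s} : Set S)) = 4) (hC : Subgroup.centralizer (((Subgroup.center Q).map Q.subtype : Subgroup S) : Set S) = Q) : Cfsg.SectionalPRankLE 2 4 S := by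
  obtain ⟨hEc', hEe⟩ := hE
  have hEc : ∀ x ∈ E, ∀ y ∈ E, Commute x y := fun x hx y hy =>
    congrArg Subtype.val (hEc'.1.1 ⟨x, hx⟩ ⟨y, hy⟩)
  set V := E ⊓ Subgroup.centralizer ({s} : Set S) with hV
  have hs2 : s * s = 1 := by rw [← pow_two, ← hs]; exact pow_orderOf_eq_one s
  have hidx : (E.subgroupOf Q).index = 2 := by
    have h := (E.subgroupOf Q).card_mul_index
    rw [Nat.card_congr (Subgroup.subgroupOfEquivOfLe hEQ).toEquiv, hE16, hQ32] at h
    omega
  have hQE : ∀ q ∈ Q, q ∈ E ∨ s * q ∈ E := fun q hq => by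
    by_cases hqE : q ∈ E
    · exact Or.inl hqE
    · exact Or.inr ((Subgroup.mul_mem_iff_of_index_two hidx (a := (⟨s, hsQ⟩ : Q)) (b := ⟨q, hq⟩)).2
        (iff_of_false hsE hqE))
  have hVs : ∀ v ∈ V, Commute v s := fun v hv => Subgroup.mem_centralizer_singleton_iff.1 hv.2
  let A : Subgroup S :=
    { carrier := {x | x ∈ V ∨ s * x ∈ V}
      one_mem' := Or.inl (one_mem V)
      mul_mem' := by
        rintro a b (ha | ha) (hb | hb)
        · exact Or.inl (mul_mem ha hb)
        · right
          have := mul_mem ha hb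
          rwa [← mul_assoc, (hVs a ha).eq, mul_assoc] at this
        · right
          rw [← mul_assoc]
          exact mul_mem ha hb
        · left
          have := mul_mem ha hb
          rwa [← mul_assoc, show s * a * s = a by
            rw [← (hVs _ ha).eq.symm, ← mul_assoc, hs2, one_mul]] at this
      inv_mem' := by
        rintro a (ha | ha)
        · exact Or.inl (inv_mem ha)
        · right
          have hinv : a⁻¹ = a := inv_eq_of_mul_eq_one_left (by
            calc a * a = (s * (s * a)) * (s * (s * a)) := by rw [← mul_assoc s s, hs2, one_mul]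
              _ = (s * s) * ((s * a) * (s * a)) :=
                Commute.mul_mul_mul_comm (hVs _ ha) _ _
              _ = 1 := by rw [hs2, one_mul, ← pow_two]; exact hEe _ ha.1)
          rw [hinv]
          exact ha }
  have hAc : ∀ x ∈ A, ∀ y ∈ A, Commute x y := by
    have hsa : ∀ x ∈ A, Commute s x := fun x hx => by
      rcases hx with h | h
      · exact (hVs x h).symm
      · have := (Commute.refl s).mul_right (hVs _ h).symm
        rwa [← mul_assoc, hs2, one_mul] at this
    have hv : ∀ v ∈ V, ∀ y ∈ A, Commute v y := fun v hv y hy => by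
      rcases hy with h | h
      · exact hEc v hv.1 y h.1
      · have := (hVs v hv).mul_right (hEc v hv.1 _ h.1)
        rwa [← mul_assoc, hs2, one_mul] at this
    intro x hx y hy
    rcases hx with h | h
    · exact hv x h y hy
    · have := (hsa y hy).mul_left (hv _ h y hy)
      rwa [← mul_assoc, hs2, one_mul] at this
  have hAe : ∀ x ∈ A, x ^ 2 = 1 := fun x hx => by
    rcases hx with h | h
    · exact hEe x h.1
    · have h1 := hEe _ h.1
      have h3 : Commute s (s * x) := (hVs _ h).symm
      have h4 := (h3).mul_pow 2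
      rwa [← mul_assoc, hs2, one_mul, h1, pow_two s, hs2, mul_one] at h4
  have hA8 : Nat.card A = 8 := by
    have hdisj : Disjoint (V : Set S) ((fun v => s * v) '' (V : Set S)) :=
      Set.disjoint_left.2 fun v hv ⟨w, hw, he⟩ => hsE ((E.mul_mem_cancel_right hw.1).1 (by rw [show s * w = v from he]; exact hv.1))
    have hA : (A : Set S) = (V : Set S) ∪ (fun v => s * v) '' (V : Set S) := by
      ext x
      constructor
      · rintro (h | h)
        · exact Or.inl h
        · exact Or.inr ⟨s * x, h, by dsimp only; rw [← mul_assoc, hs2, one_mul]⟩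
      · rintro (h | ⟨v, hv, rfl⟩)
        · exact Or.inl h
        · exact Or.inr (by rw [← mul_assoc, hs2, one_mul]; exact hv)
    have h : Nat.card A = (A : Set S).ncard := Nat.card_coe_set_eq _
    rw [h, hA, Set.ncard_union_eq hdisj,
      Set.ncard_image_of_injective _ (mul_right_injective s)]
    have hV4 : (V : Set S).ncard = 4 := (Nat.card_coe_set_eq _).symm.trans hfix
    omega
  refine Cfsg.Agent.Solv.SelfCentEight.sectional fun K => ?_
  refine Cfsg.Agent.Solv.SelfCentEight.bound hS A hAc hAe hA8 (fun g hg => ?_) K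
  have hgV : ∀ v ∈ V, Commute g v := fun v hv => hg v (Or.inl hv)
  have hgs : Commute g s := hg s (Or.inr (by rw [hs2]; exact one_mem V))
  have hgQ : g ∈ Q := by
    rw [← hC, Cfsg.Agent.Solv.SelfCentEight.mem_centralizer']
    rintro _ ⟨x, hx, rfl⟩
    have hxc := Subgroup.mem_center_iff.1 hx
    have hxE : ∀ e ∈ E, e * (x : S) = x * e := fun e he =>
      congrArg Subtype.val (hxc ⟨e, hEQ he⟩)
    have hxs : Commute (x : S) s := (congrArg Subtype.val (hxc ⟨s, hsQ⟩)).symm
    rcases hQE x x.2 with h | h
    · exact hgV x ⟨h, Subgroup.mem_centralizer_singleton_iff.2 hxs.eq⟩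
    · exfalso
      have hall : E ⊓ Subgroup.centralizer ({s} : Set S) = E := inf_eq_left.2 fun e he =>
        Subgroup.mem_centralizer_singleton_iff.2 (by
          have h1 : Commute e (s * x * (x : S)⁻¹) :=
            (hEc e he _ h).mul_right (show Commute e (x : S) from hxE e he).inv_right
          rwa [mul_inv_cancel_right] at h1)
      rw [hV, hall, hE16] at hfix
      omega
  rcases hQE g hgQ with h | h
  · exact Or.inl ⟨h, Subgroup.mem_centralizer_singleton_iff.2 hgs.eq⟩
  · exact Or.inr ⟨h, Subgroup.mem_centralizer_singleton_iff.2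
      ((Commute.refl s).mul_left hgs).eq⟩

end Cfsg.Agent.S1234
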