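import Cfsg.Statements.S1235
import Cfsg.Agent.Lib.Fusion.HaradaDV.Big
import Cfsg.Agent.Lib.Fusion.HaradaDV.Four

set_option autoImplicit false
open Cfsg

namespace Cfsg.Agent.S1235

open scoped Pointwise commutatorElement
open Cfsg.Agent.Fusion.HaradaDV

theorem cent_of_odd {G : Type*} [Group G] [Finite G] {P T : Subgroup G} (hP : IsPGroup 2 P) (hTP : T ≤ P) {b : G}
    (hb : T ≤ Subgroup.centralizer {b}) (hodd : Odd (T.relIndex (Subgroup.centralizer {b})))
    {s : G} (hs : s ∈ P) (hc : s * b = b * s) : s ∈ T := by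
  haveI : Fact (Nat.Prime 2) := ⟨Nat.prime_two⟩
  let X := P ⊓ Subgroup.centralizer {b}
  have hTX : T ≤ X := le_inf hTP hb
  have h1 := Subgroup.relIndex_mul_relIndex T X (Subgroup.centralizer {b}) hTX inf_le_right
  have h2 : Odd (T.relIndex X) := hodd.of_dvd_nat ⟨_, h1.symm⟩
  have hX : IsPGroup 2 X := hP.to_le inf_le_left
  obtain ⟨k, hk⟩ := hX.index (T.subgroupOf X)
  rw [Subgroup.relIndex, hk] at h2
  obtain rfl : k = 0 := by
    by_contra hk0
    exact (Nat.not_even_iff_odd.2 h2) (Nat.even_pow.2 ⟨even_two, hk0⟩)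
  exact Subgroup.relIndex_eq_one.1 hk ⟨hs, Subgroup.mem_centralizer_singleton_iff.2 hc⟩

theorem exists_half {G : Type*} [Group G] [Finite G] {P T : Subgroup G} (hP : IsPGroup 2 P) (hTP : T < P) :
    ∃ g ∈ P, g ∈ Subgroup.normalizer (T : Set G) ∧ g ∉ T ∧ g * g ∈ T := by
  haveI : Fact (Nat.Prime 2) := ⟨Nat.prime_two⟩
  classical
  haveI := hP.isNilpotent
  have hlt : T.subgroupOf P < ⊤ := lt_top_iff_ne_top.2 fun e => by
    rw [Subgroup.subgroupOf_eq_top] at e
    exact hTP.not_ge e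
  obtain ⟨w, hw, hwT⟩ := SetLike.exists_of_lt (Group.normalizerCondition_of_isNilpotent _ hlt)
  have hwn : (w : G) ∈ Subgroup.normalizer (T : Set G) := by
    refine FourData.mem_normalizer_of_map_le ?_
    rintro _ ⟨t, ht, rfl⟩
    simpa [Subgroup.mem_subgroupOf] using (Subgroup.mem_normalizer_iff.1 hw ⟨t, hTP.le ht⟩).1 ht
  have hex : ∃ j : ℕ, (w : G) ^ 2 ^ j ∈ T := by
    obtain ⟨k, hk⟩ := hP w
    refine ⟨k, ?_⟩
    have e := congrArg Subtype.val hk
    simp only [SubmonoidClass.coe_pow, OneMemClass.coe_one] at e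
    rw [e]
    exact T.one_mem
  have hj : Nat.find hex ≠ 0 := fun e => hwT (by
    have := Nat.find_spec hex
    rw [e, pow_zero, pow_one] at this
    exact this)
  obtain ⟨j, hj⟩ := Nat.exists_eq_succ_of_ne_zero hj
  refine ⟨(w : G) ^ 2 ^ j, pow_mem w.2 _, pow_mem hwn _, Nat.find_min hex (by omega), ?_⟩
  rw [← pow_add, ← two_mul, ← pow_succ']
  have := Nat.find_spec hex
  rwa [hj] at this

/-- Sections of `D × B` have rank at most four. -/
theorem product_bound {G : Type*} [Group G] [Finite G] {D B T : Subgroup G}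
    (hprod : Cfsg.IsInternalDirectProduct D B T) (hD : CyclicTwo D) (hB : Nat.card B = 4)
    (hBT : ∀ b ∈ B, ∀ t ∈ T, b * t = t * b) {R V : Subgroup G} (hR : R ≤ T) (he : ElemOver R V) :
    Nat.card R ≤ 16 * Nat.card V := by
  classical
  obtain ⟨hDT, hBT', -, -, hsup⟩ := hprod
  obtain ⟨c, y, hcD, hyD, -, hgen, hnorm, -, -⟩ := hD
  have hnC : T ≤ Subgroup.normalizer ((Subgroup.zpowers c ⊔ B : Subgroup G) : Set G) := by
    have hD' : D ≤ Subgroup.normalizer ((Subgroup.zpowers c ⊔ B : Subgroup G) : Set G) := by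
      intro d hd
      refine FourData.mem_normalizer_of_map_le ?_
      rw [Subgroup.map_sup]
      refine sup_le_sup ?_ ?_
      · rintro _ ⟨u, hu, rfl⟩
        obtain ⟨i, rfl⟩ := hu
        obtain ⟨j, rfl | rfl⟩ := hgen d hd
        · simp only [MulEquiv.coe_toMonoidHom, MulAut.conj_apply, ← zpow_add, ← zpow_neg]
          exact zpow_mem (Subgroup.mem_zpowers c) _
        · simp only [MulEquiv.coe_toMonoidHom, MulAut.conj_apply]
          rw [show c ^ j * y * c ^ i * (c ^ j * y)⁻¹ = c ^ j * (y * c * y⁻¹) ^ i * (c ^ j)⁻¹ by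
            rw [conj_zpow]; group]
          exact mul_mem (mul_mem (zpow_mem (Subgroup.mem_zpowers c) _) (zpow_mem hnorm _))
            (inv_mem (zpow_mem (Subgroup.mem_zpowers c) _))
      · rintro _ ⟨b, hb, rfl⟩
        simp only [MulEquiv.coe_toMonoidHom, MulAut.conj_apply]
        rw [← hBT b hb d (hDT hd), mul_inv_cancel_right]
        exact hb
    rw [← hsup]
    exact sup_le hD' (le_sup_right.trans Subgroup.le_normalizer)
  have hBn : ∀ K : Subgroup G, K ≤ T → K ≤ Subgroup.normalizer (B : Set G) := fun K hK k hk => by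
    refine FourData.mem_normalizer_of_map_le ?_
    rintro _ ⟨b, hb, rfl⟩
    simp only [MulEquiv.coe_toMonoidHom, MulAut.conj_apply]
    rw [← hBT b hb k (hK hk), mul_inv_cancel_right]
    exact hb
  let A : Subgroup G := Subgroup.zpowers c ⊔ B
  -- every element of `T` is in `A` or in `A y`
  have hcase : ∀ t ∈ T, t ∈ A ∨ t * y⁻¹ ∈ A := by
    intro t ht
    rw [← hsup, ← SetLike.mem_coe, Subgroup.coe_mul_of_left_le_normalizer_right D B (hBn D hDT)] at ht
    obtain ⟨d, hd, b, hb, rfl⟩ := Set.mem_mul.1 ht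
    obtain ⟨i, rfl | rfl⟩ := hgen d hd
    · exact Or.inl (mul_mem (le_sup_left (a := Subgroup.zpowers c) (zpow_mem (Subgroup.mem_zpowers c) i))
        (le_sup_right (a := Subgroup.zpowers c) hb))
    · refine Or.inr ?_
      rw [mul_assoc (c ^ i), ← hBT b hb y (hDT hyD), ← mul_assoc, mul_inv_cancel_right]
      exact mul_mem (le_sup_left (a := Subgroup.zpowers c) (zpow_mem (Subgroup.mem_zpowers c) i))
        (le_sup_right (a := Subgroup.zpowers c) hb)
  obtain ⟨u₁, hu₁R, hu₁⟩ : ∃ u₁ ∈ R, ∀ r ∈ R, r ∈ A ∨ r * u₁⁻¹ ∈ A := by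
    by_cases h : ∃ u ∈ R, u ∉ A
    · obtain ⟨u, hu, huA⟩ := h
      refine ⟨u, hu, fun r hr => ?_⟩
      rcases hcase r (hR hr) with h1 | h1
      · exact Or.inl h1
      refine Or.inr ?_
      have h2 := (hcase u (hR hu)).resolve_left huA
      simpa [mul_assoc] using mul_mem h1 (inv_mem h2)
    · push Not at h
      exact ⟨1, one_mem _, fun r hr => Or.inl (h r hr)⟩
  obtain ⟨u, hu⟩ := exists_zpow_generator c ((R ⊔ B) ⊓ Subgroup.zpowers c) inf_le_right
  have huRB : u ∈ R ⊔ B := (hu.ge (Subgroup.mem_zpowers u)).1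
  rw [← SetLike.mem_coe, Subgroup.coe_mul_of_left_le_normalizer_right R B (hBn R hR)] at huRB
  obtain ⟨u₀, hu₀R, b₀, hb₀, huu⟩ := Set.mem_mul.1 huRB
  have hA : ∀ r ∈ R, r ∈ A → ∃ k : ℤ, r * (u₀ ^ k)⁻¹ ∈ R ⊓ B := by
    intro r hr hrA
    have hcT : Subgroup.zpowers c ≤ T := Subgroup.zpowers_le.2 (hDT hcD)
    rw [← SetLike.mem_coe, Subgroup.coe_mul_of_left_le_normalizer_right _ B (hBn _ hcT)] at hrA
    obtain ⟨w, hw, b, hb, rfl⟩ := Set.mem_mul.1 hrA
    have hwU : w ∈ Subgroup.zpowers u := by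
      refine hu.le ⟨?_, hw⟩
      have := mul_mem (le_sup_left (b := B) hr) (le_sup_right (a := R) (inv_mem hb))
      rwa [mul_inv_cancel_right] at this
    obtain ⟨k, rfl⟩ := hwU
    refine ⟨k, Subgroup.mem_inf.2 ⟨mul_mem hr (inv_mem (zpow_mem hu₀R k)), ?_⟩⟩
    have hcomm : Commute u₀ b₀ := (hBT b₀ hb₀ u₀ (hR hu₀R)).symm
    show u ^ k * b * (u₀ ^ k)⁻¹ ∈ B
    rw [← huu, hcomm.mul_zpow, mul_assoc (u₀ ^ k), hBT _ (mul_mem (zpow_mem hb₀ k) hb) _
      (zpow_mem (hR hu₀R) k) |>.symm, mul_inv_cancel_right]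
    exact mul_mem (zpow_mem hb₀ k) hb
  have hsq : ∀ v ∈ R, ∀ k : ℤ, ∃ e : Fin 2, v ^ k * (v ^ (e : ℕ))⁻¹ ∈ V := by
    intro v hv k
    rcases Int.even_or_odd' k with ⟨m, rfl | rfl⟩
    · refine ⟨0, ?_⟩
      simp only [Fin.val_zero, pow_zero, inv_one, mul_one, zpow_mul, zpow_two]
      exact zpow_mem (he.2.2 v hv) m
    · refine ⟨1, ?_⟩
      rw [Fin.val_one, pow_one, zpow_add, zpow_one, mul_inv_cancel_right, zpow_mul, zpow_two]
      exact zpow_mem (he.2.2 v hv) m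
  let g : V × Fin 2 × Fin 2 × ↥(R ⊓ B) → R := fun q =>
    ⟨(q.1 : G) * u₁ ^ (q.2.1 : ℕ) * u₀ ^ (q.2.2.1 : ℕ) * q.2.2.2,
      mul_mem (mul_mem (mul_mem (he.1 q.1.2) (pow_mem hu₁R _)) (pow_mem hu₀R _)) q.2.2.2.2.1⟩
  have hgs : Function.Surjective g := by
    rintro ⟨r, hr⟩
    obtain ⟨a, ha, e₁, hre⟩ : ∃ a ∈ R ⊓ A, ∃ e₁ : Fin 2, ∃ v ∈ V, r = v * u₁ ^ (e₁ : ℕ) * a := by
      rcases hu₁ r hr with h | h
      · exact ⟨r, ⟨hr, h⟩, 0, 1, one_mem V, by simp⟩
      · refine ⟨r * u₁⁻¹, Subgroup.mem_inf.2 ⟨mul_mem hr (inv_mem hu₁R), h⟩, 1,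
          ⁅r * u₁⁻¹, u₁⁆, he.2.1 _ (mul_mem hr (inv_mem hu₁R)) _ hu₁R, ?_⟩
        rw [commutatorElement_def, Fin.val_one, pow_one]
        group
    obtain ⟨v, hv, hra⟩ := hre
    obtain ⟨k, hk⟩ := hA a ha.1 ha.2
    obtain ⟨e₀, hw⟩ := hsq u₀ hu₀R k
    -- move the element of `V` to the left
    let w := u₀ ^ k * (u₀ ^ (e₀ : ℕ))⁻¹
    let β := a * (u₀ ^ k)⁻¹
    have hp : u₁ ^ (e₁ : ℕ) ∈ R := pow_mem hu₁R _
    refine ⟨(⟨v * (u₁ ^ (e₁ : ℕ) * w * (u₁ ^ (e₁ : ℕ))⁻¹),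
      mul_mem hv (?_ : _ ∈ V)⟩, e₁, e₀, ⟨β, hk⟩), Subtype.ext ?_⟩
    · rw [show u₁ ^ (e₁ : ℕ) * w * (u₁ ^ (e₁ : ℕ))⁻¹ = ⁅u₁ ^ (e₁ : ℕ), w⁆ * w by
        rw [commutatorElement_def]; group]
      exact mul_mem (he.2.1 _ hp _ (he.1 hw)) hw
    · have hβ : β * u₀ ^ k = a := inv_mul_cancel_right a _
      have hc : β * u₀ ^ k = u₀ ^ k * β := hBT β hk.2 _ (zpow_mem (hR hu₀R) k)
      show v * (u₁ ^ (e₁ : ℕ) * w * (u₁ ^ (e₁ : ℕ))⁻¹) * u₁ ^ (e₁ : ℕ) * u₀ ^ (e₀ : ℕ) * β = r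
      rw [hra, ← hβ, hc]
      simp only [w]
      group
  have := Nat.card_le_card_of_surjective g hgs
  simp only [Nat.card_prod, Nat.card_fin] at this
  have h4 : Nat.card ↥(R ⊓ B) ≤ 4 := hB ▸ Subgroup.card_le_of_le inf_le_right
  have := Nat.mul_le_mul_left (Nat.card V * 4) h4
  linarith

/-- Let G be a finite group, x an involution and T ≤ G a Sylow 2-subgroup of C_G(x) (T ≤ C_G(x) with |C_G(x) : T| odd) which is the internal direct product of a subgroup D that is dihedral (of order ≥ 4) or quasi-dihedral and a Klein four-subgroup B. Suppose that for every involution b ∈ B, T ≤ C_G(b) with |C_G(b) : T| odd. Then every section of G has 2-rank at most 4. -/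
theorem result {G : Type*} [Group G] [Finite G] (x : G) (hx : orderOf x = 2) (T D B : Subgroup G) (hT : IsPGroup 2 T) (hTx : T ≤ Subgroup.centralizer ({x} : Set G)) (hTxi : Odd (T.relIndex (Subgroup.centralizer ({x} : Set G)))) (hprod : Cfsg.IsInternalDirectProduct D B T) (hD : (∃ m : ℕ, 2 ≤ m ∧ Nonempty (D ≃* DihedralGroup m)) ∨ Cfsg.IsQuasiDihedral D) (hB : IsKleinFour B) (hTb : ∀ b ∈ B, orderOf b = 2 → T ≤ Subgroup.centralizer ({b} : Set G) ∧ Odd (T.relIndex (Subgroup.centralizer ({b} : Set G)))) : Cfsg.SectionalPRankLE 2 4 G := by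
  classical
  haveI : Fact (Nat.Prime 2) := ⟨Nat.prime_two⟩
  haveI := hB
  have hB4 : Nat.card B = 4 := IsKleinFour.card_four
  have hB2 : ∀ b ∈ B, b * b = 1 := fun b hb =>
    congrArg Subtype.val (IsKleinFour.mul_self (⟨b, hb⟩ : B))
  obtain ⟨S, hS⟩ := hT.exists_le_sylow
  have hb' : ∀ b ∈ B, b ≠ 1 → T ≤ Subgroup.centralizer {b} ∧ Odd (T.relIndex (Subgroup.centralizer {b})) :=
    fun b hb h1 => hTb b hb (orderOf_eq_prime (by rw [pow_two, hB2 b hb]) h1)
  have hcent : ∀ b ∈ B, b ≠ 1 → ∀ s ∈ (S : Subgroup G), s * b = b * s → s ∈ T := fun b hb h1 s hs hc =>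
    cent_of_odd S.isPGroup' hS (hb' b hb h1).1 (hb' b hb h1).2 hs hc
  have hBT : ∀ b ∈ B, ∀ t ∈ T, b * t = t * b := by
    intro b hb t ht
    by_cases h1 : b = 1
    · simp [h1]
    · exact (Subgroup.mem_centralizer_singleton_iff.1 ((hb' b hb h1).1 ht)).symm
  have hbig : CyclicTwo D → Cfsg.SectionalPRankLE 2 4 G := by
    intro hC
    have heq : (S : Subgroup G) = T := by
      by_contra hne
      obtain ⟨g, hgS, hgn, hgT, hg2⟩ := exists_half S.isPGroup' (lt_of_le_of_ne hS (Ne.symm hne))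
      obtain ⟨b, hb, hb1, hgb⟩ := fixes_some hT hprod hC hB4 hB2 hgn hg2
      exact hgT (hcent b hb hb1 g hgS hgb)
    exact sectional_of_sylow S fun R V hR he => product_bound hprod hC hB4 hBT (heq ▸ hR) he
  rcases hD with ⟨m, hm, ⟨e⟩⟩ | hD
  · have hDc : Nat.card D = 2 * m := by rw [Nat.card_congr e.toEquiv, DihedralGroup.nat_card]
    obtain ⟨k, hk⟩ := (hT.to_le hprod.1).exists_card_eq
    by_cases hm2 : m = 2
    · subst hm2
      obtain ⟨hDT, hBT', hcomm, hinf, hsup⟩ := hprod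
      have hn : D ≤ Subgroup.normalizer (B : Set G) := fun d hd => by
        refine FourData.mem_normalizer_of_map_le ?_
        rintro _ ⟨b, hb, rfl⟩
        simp only [MulEquiv.coe_toMonoidHom, MulAut.conj_apply]
        rw [hcomm d hd b hb, mul_inv_cancel_right]
        exact hb
      have hdec : ∀ t ∈ T, ∃ d ∈ D, ∃ b ∈ B, t = d * b := by
        intro t ht
        rw [← hsup, ← SetLike.mem_coe, Subgroup.coe_mul_of_left_le_normalizer_right D B hn] at ht
        obtain ⟨d, hd, b, hb, rfl⟩ := Set.mem_mul.1 ht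
        exact ⟨d, hd, b, hb, rfl⟩
      have hdd : ∀ d : DihedralGroup 2, d * d = 1 := by decide
      have hd2 : ∀ d ∈ D, d * d = 1 := fun d hd => by
        have : (⟨d, hd⟩ : D) * ⟨d, hd⟩ = 1 := e.injective (by rw [map_mul, map_one]; exact hdd _)
        exact congrArg Subtype.val this
      have hcard : Nat.card T = 16 := by
        let f : D × B → T := fun q => ⟨(q.1 : G) * q.2, mul_mem (hDT q.1.2) (hBT' q.2.2)⟩
        have hf : Function.Bijective f := by
          refine ⟨fun q q' h => ?_, fun t => ?_⟩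
          · obtain ⟨a, b⟩ := q
            obtain ⟨a', b'⟩ := q'
            simp only [f, Subtype.mk.injEq] at h
            have h1 : (a' : G)⁻¹ * a = (b' : G) * (b : G)⁻¹ := by
              rw [eq_mul_inv_iff_mul_eq, mul_assoc, h]; group
            have h2 : (a' : G)⁻¹ * a = 1 := (Subgroup.eq_bot_iff_forall _).1 hinf _
              (Subgroup.mem_inf.2 ⟨mul_mem (inv_mem a'.2) a.2, h1 ▸ mul_mem b'.2 (inv_mem b.2)⟩)
            have h3 : (b' : G) * (b : G)⁻¹ = 1 := h1 ▸ h2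
            exact Prod.ext (Subtype.ext (inv_mul_eq_one.1 h2).symm) (Subtype.ext (mul_inv_eq_one.1 h3).symm)
          · obtain ⟨d, hd, b, hb, h⟩ := hdec t t.2
            exact ⟨(⟨d, hd⟩, ⟨b, hb⟩), Subtype.ext h.symm⟩
        rw [← Nat.card_eq_of_bijective f hf, Nat.card_prod, hDc, hB4]
      have hdata : FourData (S : Subgroup G) T B := by
        refine ⟨S.isPGroup', hS, hcard, ?_, hBT', hB4, hcent⟩
        intro t ht
        obtain ⟨d, hd, b, hb, rfl⟩ := hdec t ht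
        rw [mul_assoc, ← mul_assoc b, ← hcomm d hd b hb, mul_assoc d b b, hB2 b hb, mul_one, hd2 d hd]
      exact sectional_of_sylow S fun R V hR he => hdata.main R V hR he
    · refine hbig (cyclicTwo_dihedral (by omega) ?_ e)
      have h2k : 2 * m = 2 ^ k := by rw [← hDc, hk]
      match k with
      | 0 => omega
      | 1 => omega
      | k + 2 => exact ⟨2 ^ k, by rw [pow_succ, pow_succ] at h2k; omega⟩
  · exact hbig (cyclicTwo_quasi hD)

end Cfsg.Agent.S1235
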