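import Cfsg.Statements.S1236
import Cfsg.Agent.Lib.Fusion.DihedralFour
import Cfsg.Agent.Lib.Fusion.QuasiDihedralSub
import Cfsg.Agent.Lib.Local.ElemAb

set_option autoImplicit false
open Cfsg Cfsg.Agent
open Cfsg.Agent.Fusion
open scoped commutatorElement

namespace Cfsg.Agent.S1236

/-- Let R be a finite group, t a central involution of R such that R ⧸ ⟨t⟩ is dihedral (of order ≥ 4) or quasi-dihedral, and A ≤ R an elementary abelian subgroup of order 8 containing t. Then C_R(A) = A. -/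
theorem result {R : Type*} [Group R] [Finite R] (t : R) (ht : orderOf t = 2) (htz : t ∈ Subgroup.center R) [(Subgroup.zpowers t).Normal] (hq : (∃ m : ℕ, 2 ≤ m ∧ Nonempty (R ⧸ Subgroup.zpowers t ≃* DihedralGroup m)) ∨ Cfsg.IsQuasiDihedral (R ⧸ Subgroup.zpowers t)) (A : Subgroup R) (hA : Cfsg.IsElementaryAbelian 2 A) (hA8 : Nat.card A = 8) (htA : t ∈ A) : Subgroup.centralizer (A : Set R) = A := by
  obtain ⟨π, hπ⟩ : ∃ π, π = QuotientGroup.mk' (Subgroup.zpowers t) := ⟨_, rfl⟩
  have hker : π.ker = Subgroup.zpowers t := hπ ▸ QuotientGroup.ker_mk' _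
  obtain ⟨T, hT⟩ : ∃ T, T = A.map π := ⟨_, rfl⟩
  have htA' : π.ker ≤ A := hker.trans_le (Subgroup.zpowers_le.2 htA)
  have hTcomm : ∀ a ∈ T, ∀ b ∈ T, a * b = b * a := by
    rw [hT]
    rintro _ ⟨a, ha, rfl⟩ _ ⟨b, hb, rfl⟩
    rw [← map_mul, ← map_mul, Local.elemAb_commute hA ha hb]
  have hT2 : ∀ a ∈ T, a * a = 1 := by
    rw [hT]
    rintro _ ⟨a, ha, rfl⟩
    rw [← map_mul, ← sq, hA.2 a ha, map_one]
  have hTc : Nat.card T = 4 := by
    have h1 := (A.map π).card_mul_index
    rw [Subgroup.index_map_eq _ (hπ ▸ QuotientGroup.mk'_surjective _) htA'] at h1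
    have h2 := Subgroup.card_eq_card_quotient_mul_card_subgroup (Subgroup.zpowers t)
    rw [Nat.card_zpowers, ht, ← A.card_mul_index, hA8, ← h1] at h2
    rw [hT]
    have h0 : A.index ≠ 0 := Subgroup.index_ne_zero_of_finite
    exact (Nat.eq_of_mul_eq_mul_right (Nat.pos_of_ne_zero h0)
      (by linarith : 4 * A.index = Nat.card (A.map π) * A.index)).symm
  have hCT : Subgroup.centralizer (T : Set (R ⧸ Subgroup.zpowers t)) = T := by
    rcases hq with ⟨m, hm, ⟨e⟩⟩ | hQ
    · haveI : NeZero m := ⟨by omega⟩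
      have h := dihedral_four_self_centralizing (T := T.map e.toMonoidHom)
        (by rintro _ ⟨a, ha, rfl⟩ _ ⟨b, hb, rfl⟩; rw [← map_mul, ← map_mul, hTcomm a ha b hb])
        (by rintro _ ⟨a, ha, rfl⟩; rw [← map_mul, hT2 a ha, map_one])
        (by rw [Subgroup.card_map_of_injective e.injective, hTc])
      refine le_antisymm (fun c hc => ?_) (fun c hc => Subgroup.mem_centralizer_iff.2 fun a ha => hTcomm a ha c hc)
      have hec : e c ∈ Subgroup.centralizer (T.map e.toMonoidHom : Set (DihedralGroup m)) := by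
        refine Subgroup.mem_centralizer_iff.2 ?_
        rintro _ ⟨a, ha, rfl⟩
        show e a * e c = e c * e a
        rw [← map_mul, ← map_mul, Subgroup.mem_centralizer_iff.1 hc a ha]
      rw [h] at hec
      obtain ⟨a, ha, hac⟩ := hec
      exact e.injective hac ▸ ha
    · obtain ⟨n, ⟨D⟩⟩ := exists_qdData' hQ
      obtain ⟨i, hi, hTi⟩ := D.four_eq (Local.elemAb_isKleinFour (⟨⟨⟨fun a b => Subtype.ext (hTcomm a a.2 b b.2)⟩⟩,
        fun a ha => by rw [sq]; exact hT2 a ha⟩ : Cfsg.IsElementaryAbelian 2 T) hTc)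
      refine le_antisymm ?_ (fun c hc => Subgroup.mem_centralizer_iff.2 fun a ha => hTcomm a ha c hc)
      have hu : D.x ^ i * D.y ∈ T := hTi ▸ Subgroup.mem_centralizer_singleton_iff.2 rfl
      exact (Subgroup.centralizer_le (Set.singleton_subset_iff.2 hu)).trans hTi.ge
  refine le_antisymm (fun c hc => ?_) (fun c hc => Subgroup.mem_centralizer_iff.2 fun a ha => Local.elemAb_commute hA ha hc)
  have h1 : π c ∈ T := by
    rw [← hCT, Subgroup.mem_centralizer_iff, hT]
    rintro _ ⟨a, ha, rfl⟩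
    rw [← map_mul, ← map_mul, Subgroup.mem_centralizer_iff.1 hc a ha]
  rw [hT] at h1
  have h2 : c ∈ (A.map π).comap π := h1
  rwa [Subgroup.comap_map_eq_self htA'] at h2

end Cfsg.Agent.S1236
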