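import Cfsg.Statements.S1239
import Cfsg.Agent.Lib.Fusion.WreathedIsolated
import Cfsg.Agent.Lib.Fusion.QuasiDihedral
import Cfsg.Agent.Lib.Fusion.IsolatedInvolution

set_option autoImplicit false
open Cfsg
open Cfsg.Agent.Fusion
open scoped commutatorElement

namespace Cfsg.Agent.S1239

theorem mem_zpowers_of_order_two {H : Type*} [Group H] {z : H} (hz : orderOf z = 2) {y : H} :
    y ∈ Subgroup.zpowers z ↔ y = 1 ∨ y = z := by
  constructor
  · rintro ⟨k, rfl⟩
    show z ^ k = 1 ∨ z ^ k = z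
    rw [← zpow_mod_orderOf, hz]
    rcases Int.emod_two_eq k with h | h <;> push_cast <;> rw [h] <;> simp
  · rintro (rfl | rfl)
    · exact one_mem _
    · exact Subgroup.mem_zpowers _


/-- Let X be a finite group whose Sylow 2-subgroup S is quasi-dihedral or wreathed, and suppose some involution of S is isolated in X. Then the product of the largest normal odd-order subgroup O(X) with the centre of S is normal in X. -/
theorem result {X : Type*} [Group X] [Finite X] (S : Sylow 2 X) (hS : Cfsg.IsQuasiDihedral (S : Subgroup X) ∨ Cfsg.IsWreathed (S : Subgroup X)) (z : X) (hzS : z ∈ S) (hz : Cfsg.IsIsolatedInvolution z) : (Cfsg.oddCore X ⊔ (Subgroup.center (S : Subgroup X)).map (S : Subgroup X).subtype).Normal := by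
  haveI : Fact (Nat.Prime 2) := ⟨Nat.prime_two⟩
  obtain ⟨P, hzP, hPiso⟩ := isolated_sylow hz
  obtain ⟨a, ha⟩ := MulAction.exists_smul_eq X P S
  have hiso : ∀ g : X, g * z * g⁻¹ ∈ (S : Subgroup X) → g * z * g⁻¹ = z := by
    have hodd := Char.oddInvol_of_isolated_sylow hz.1 hzP hPiso
    have hc := Char.zStar hodd
    intro g hg
    have h1 : g * z * g⁻¹ * z⁻¹ ∈ Cfsg.oddCore X := by
      have := inv_mem (hc g)
      rw [show g * z * g⁻¹ * z⁻¹ = (z * g * z⁻¹ * g⁻¹)⁻¹ by group]
      exact this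
    obtain ⟨j, hj⟩ := IsPGroup.iff_orderOf.1 S.isPGroup' ⟨_, mul_mem hg (inv_mem hzS)⟩
    rw [← Subgroup.orderOf_coe] at hj
    have ho := (Char.card_oddCore_odd X).of_dvd_nat (Subgroup.orderOf_dvd_natCard _ h1)
    rw [hj] at ho
    rcases Nat.eq_zero_or_pos j with rfl | hj0
    · exact mul_inv_eq_one.1 (orderOf_eq_one_iff.1 (by simpa using hj))
    · exact absurd (Nat.even_pow.2 ⟨even_two, hj0.ne'⟩) (Nat.not_even_iff_odd.2 ho)
  have hzc : (⟨z, hzS⟩ : ↥(S : Subgroup X)) ∈ Subgroup.center (S : Subgroup X) := by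
    refine Subgroup.mem_center_iff.2 fun s => Subtype.ext ?_
    exact mul_inv_eq_iff_eq_mul.1 (hiso s (mul_mem (mul_mem s.2 hzS) (inv_mem s.2)))
  have hkey : ∀ y ∈ Subgroup.center (S : Subgroup X), ∀ g : X,
      g * (y : X) * g⁻¹ ∈ (S : Subgroup X) → g * (y : X) * g⁻¹ = y := by
    have hzo : orderOf (⟨z, hzS⟩ : ↥(S : Subgroup X)) = 2 := by rw [← Subgroup.orderOf_coe]; exact hz.1
    rcases hS with h | h
    · obtain ⟨n, ⟨D⟩⟩ := exists_qdData' h
      intro y hy g hg
      have hzD : (⟨z, hzS⟩ : ↥(S : Subgroup X)) = D.z := by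
        rw [D.center_eq, mem_zpowers_of_order_two D.orderOf_z] at hzc
        refine hzc.resolve_left fun h1 => ?_
        rw [h1, orderOf_one] at hzo; omega
      rw [D.center_eq, mem_zpowers_of_order_two D.orderOf_z] at hy
      rcases hy with rfl | rfl
      · simp
      · rw [← hzD] at hg ⊢
        exact hiso g hg
    · obtain ⟨n, ⟨D⟩⟩ := exists_wrData' h
      have hzD : (⟨z, hzS⟩ : ↥(S : Subgroup X)) = D.el D.h D.h := by
        rcases D.invol_cases hzo with h1 | h1 | h1 | ⟨i, h1⟩
        · exfalso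
          have h2 : Commute (D.el D.h 0) (D.el 0 0 * D.t) :=
            (Subgroup.mem_center_iff.1 (h1 ▸ hzc) _).symm
          rw [D.commute_out_el] at h2
          exact D.not_N_dvd_h (by simpa using h2)
        · exfalso
          have h2 : Commute (D.el 0 D.h) (D.el 0 0 * D.t) :=
            (Subgroup.mem_center_iff.1 (h1 ▸ hzc) _).symm
          rw [D.commute_out_el] at h2
          exact D.not_N_dvd_h (by simpa using h2)
        · exact h1
        · exact absurd (D.center_le_A (h1 ▸ hzc)) (D.out_not_mem i (-i))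
      intro y hy
      exact center_isolated_of_wreathed S D (by rw [← hzD]; exact hiso) hy
  set O := Cfsg.oddCore X with hO
  set Z := (Subgroup.center (S : Subgroup X)).map (S : Subgroup X).subtype with hZ
  haveI : O.Normal := Solv.pPrimeCore_normal 2
  have hcore : ∀ w ∈ Z, ∀ g : X, w * g * w⁻¹ * g⁻¹ ∈ O := by
    rintro _ ⟨w, hw, rfl⟩
    refine Char.isolatedElt_central w.2 fun v hv g hg => ?_
    obtain ⟨k, rfl⟩ := Subgroup.mem_zpowers_iff.1 hv
    exact hkey (w ^ k) (zpow_mem hw k) g hg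
  refine ⟨fun v hv g => ?_⟩
  obtain ⟨o, ho, w, hw, rfl⟩ := Subgroup.mem_sup_of_normal_left.1 hv
  rw [show g * (o * w) * g⁻¹ = (g * o * g⁻¹) * ((w * g * w⁻¹ * g⁻¹)⁻¹ * w) by group]
  exact mul_mem (Subgroup.mem_sup_left (Subgroup.Normal.conj_mem inferInstance o ho g))
    (mul_mem (Subgroup.mem_sup_left (inv_mem (hcore w hw g))) (Subgroup.mem_sup_right hw))

end Cfsg.Agent.S1239
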