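import Cfsg.Statements.S1241
import Cfsg.Agent.Lib.Fusion.TransferPow

set_option autoImplicit false
open Cfsg
open Cfsg.Agent.Fusion
open scoped commutatorElement

namespace Cfsg.Agent.S1241

/-- Let G be a finite group, p a prime, H a subgroup of index prime to p, K a subgroup of H normal in H with H/K commutative, and g ∈ H ∖ K an element of p-power order such that for all integers m and all a ∈ G with a g^m a⁻¹ ∈ H one has a g^m a⁻¹ ∈ g^m K. Then g ∉ G'. -/
theorem result {G : Type*} [Group G] [Finite G] {p : ℕ} [Fact p.Prime] (H K : Subgroup G) (hHK : K ≤ H) (hKn : (K.subgroupOf H).Normal) (hab : ∀ x ∈ H, ∀ y ∈ H, x * y * x⁻¹ * y⁻¹ ∈ K) (hidx : Nat.Coprime p H.index) (g : G) (hgH : g ∈ H) (hgK : g ∉ K) (hgp : ∃ k : ℕ, orderOf g = p ^ k) (hctrl : ∀ (m : ℤ) (a : G), a * g ^ m * a⁻¹ ∈ H → (a * g ^ m * a⁻¹) * (g ^ m)⁻¹ ∈ K) : g ∉ commutator G := by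
  haveI := hKn
  letI : CommGroup (↥H ⧸ K.subgroupOf H) :=
    { QuotientGroup.Quotient.group (K.subgroupOf H) with
      mul_comm := fun a b => by
        obtain ⟨a, rfl⟩ := QuotientGroup.mk'_surjective (K.subgroupOf H) a
        obtain ⟨b, rfl⟩ := QuotientGroup.mk'_surjective (K.subgroupOf H) b
        rw [← map_mul, ← map_mul]
        refine QuotientGroup.eq.2 ?_
        have h := hab (b : G)⁻¹ (inv_mem b.2) (a : G)⁻¹ (inv_mem a.2)
        rw [Subgroup.mem_subgroupOf]
        push_cast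
        rw [mul_inv_rev]
        convert h using 1
        group }
  obtain ⟨k, hk⟩ := hgp
  intro hcomm
  refine transfer_ne_one (p := p) (QuotientGroup.mk' (K.subgroupOf H)) g hgH hk hidx
    (fun h => hgK ((QuotientGroup.eq_one_iff (N := K.subgroupOf H) _).1 h)) (fun m a h => ?_)
    (MonoidHom.mem_ker.1 (Abelianization.commutator_subset_ker _ hcomm))
  rw [← map_pow]
  symm
  refine QuotientGroup.eq.2 ?_
  have h' := hctrl (m : ℤ) a⁻¹ (by simpa using h)
  simp only [zpow_natCast, inv_inv] at h'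
  rw [Subgroup.mem_subgroupOf]
  push_cast
  have := hKn.conj_mem ⟨_, hHK h'⟩ h' ⟨(g ^ m)⁻¹, inv_mem (pow_mem hgH m)⟩
  rw [Subgroup.mem_subgroupOf] at this
  push_cast at this
  simpa [mul_assoc] using this

end Cfsg.Agent.S1241
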