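import Cfsg.Statements.S1242
import Cfsg.Agent.Lib.Fusion.TransferPow
import Cfsg.Agent.Lib.Fusion.NPC

set_option autoImplicit false
open Cfsg
open Cfsg.Agent.Fusion
open scoped commutatorElement

namespace Cfsg.Agent.S1242

/-- Let G be a finite group, p a prime and H a subgroup of index prime to p such that any two elements of H of p-power order that are conjugate in G are conjugate in H. Then (O^p(G)·G') ∩ H = O^p(H)·H', where O^p denotes the subgroup generated by the elements of order prime to p. -/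
theorem result {G : Type*} [Group G] [Finite G] {p : ℕ} [Fact p.Prime] (H : Subgroup G) (hidx : Nat.Coprime p H.index) (hfus : ∀ g ∈ H, (∃ k : ℕ, orderOf g = p ^ k) → ∀ a : G, a * g * a⁻¹ ∈ H → ∃ h ∈ H, h * g * h⁻¹ = a * g * a⁻¹) : (Cfsg.pResidual p G ⊔ commutator G) ⊓ H = (Cfsg.pResidual p ↥H ⊔ commutator ↥H).map H.subtype := by
  obtain ⟨K, hK⟩ : ∃ K, K = Cfsg.pResidual p ↥H ⊔ commutator ↥H := ⟨_, rfl⟩
  rw [← hK]
  refine le_antisymm (fun x hx => ?_) (le_inf ?_ (Subgroup.map_subtype_le _))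
  swap
  · rw [hK, Subgroup.map_sup]
    refine sup_le_sup (map_pResidual_le _) ?_
    rw [commutator_def, Subgroup.map_commutator, commutator_def]
    exact Subgroup.commutator_mono le_top le_top
  obtain ⟨hx1, hxH⟩ := Subgroup.mem_inf.1 hx
  haveI : K.Normal := hK ▸ inferInstance
  have hKc : commutator ↥H ≤ K := hK ▸ le_sup_right
  letI : CommGroup (↥H ⧸ K) :=
    { QuotientGroup.Quotient.group K with
      mul_comm := fun a b => by
        obtain ⟨a, rfl⟩ := QuotientGroup.mk'_surjective K a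
        obtain ⟨b, rfl⟩ := QuotientGroup.mk'_surjective K b
        rw [← commutatorElement_eq_one_iff_mul_comm, ← map_commutatorElement]
        exact (QuotientGroup.eq_one_iff _).2 (hKc (Subgroup.commutator_mem_commutator (Subgroup.mem_top a) (Subgroup.mem_top b))) }
  have hpK : IsPGroup p (↥H ⧸ K) := by
    intro q
    obtain ⟨h, rfl⟩ := QuotientGroup.mk'_surjective K q
    obtain ⟨j, hj⟩ := (isPGroup_quotient_pResidual (p := p) (G := ↥H)) (QuotientGroup.mk h)
    refine ⟨j, ?_⟩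
    rw [← map_pow]
    exact (QuotientGroup.eq_one_iff _).2 (hK ▸ Subgroup.mem_sup_left ((QuotientGroup.eq_one_iff _).1 hj))
  obtain ⟨j, hj⟩ := hpK (QuotientGroup.mk' K ⟨x, hxH⟩)
  obtain ⟨k, m, hm, hkm⟩ := Nat.exists_eq_pow_mul_and_not_dvd (orderOf_pos x).ne' p (Fact.out : p.Prime).ne_one
  have hpw : (x ^ m) ^ p ^ k = 1 := by rw [← pow_mul, mul_comm, ← hkm, pow_orderOf_eq_one]
  obtain ⟨k', -, hk'⟩ := (Nat.dvd_prime_pow Fact.out).1 (orderOf_dvd_of_pow_eq_one hpw)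
  by_contra hxK
  have hmK : QuotientGroup.mk' K (⟨x, hxH⟩ ^ m) ≠ 1 := by
    intro h
    rw [map_pow] at h
    have h1 : QuotientGroup.mk' K ⟨x, hxH⟩ = 1 := orderOf_eq_one_iff.1 (Nat.eq_one_of_dvd_coprimes
      (((Nat.Prime.coprime_iff_not_dvd Fact.out).2 hm).pow_left j) (orderOf_dvd_of_pow_eq_one hj)
      (orderOf_dvd_of_pow_eq_one h))
    exact hxK ⟨⟨x, hxH⟩, (QuotientGroup.eq_one_iff _).1 h1, rfl⟩
  refine transfer_ne_one (p := p) (QuotientGroup.mk' K) (x ^ m) (pow_mem hxH m) hk' hidx hmK (fun i a h => ?_) ?_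
  · obtain ⟨i', -, hi'⟩ := (Nat.dvd_prime_pow (Fact.out : p.Prime)).1 (hk' ▸ orderOf_pow_dvd (x := x ^ m) i)
    obtain ⟨b, hb, hbe⟩ := hfus ((x ^ m) ^ i) (pow_mem (pow_mem hxH m) i) ⟨i', hi'⟩ a⁻¹ (by simpa using h)
    rw [inv_inv] at hbe
    rw [← map_pow]
    refine QuotientGroup.eq.2 (hKc ?_)
    have hh : (⟨a⁻¹ * (x ^ m) ^ i * a, h⟩ : ↥H) = ⟨b, hb⟩ * ⟨x ^ m, pow_mem hxH m⟩ ^ i * ⟨b, hb⟩⁻¹ :=
      Subtype.ext hbe.symm
    rw [hh]
    generalize (⟨x ^ m, pow_mem hxH m⟩ : ↥H) ^ i = c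
    generalize (⟨b, hb⟩ : ↥H) = d
    rw [show (d * c * d⁻¹)⁻¹ * c = ⁅d, c⁻¹⁆ by rw [commutatorElement_def]; group]
    exact Subgroup.commutator_mem_commutator (Subgroup.mem_top d) (Subgroup.mem_top _)
  · have hle : Cfsg.pResidual p G ⊔ commutator G ≤ (MonoidHom.transfer (QuotientGroup.mk' K)).ker := by
      refine sup_le (pResidual_le_of_isPGroup_quotient ?_) (Abelianization.commutator_subset_ker _)
      exact (hpK.to_subgroup _).of_equiv (QuotientGroup.quotientKerEquivRange _).symm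
    exact MonoidHom.mem_ker.1 (hle (pow_mem hx1 m))

end Cfsg.Agent.S1242
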