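import Cfsg.Statements.S1244


set_option autoImplicit false
open Cfsg

namespace Cfsg.Agent.S1244

open scoped IsMulCommutative in
theorem eq_one_of_normalizer_fixed {G : Type*} [Group G] [Finite G] (hG : ∀ H : Subgroup G, H.index ≠ 2)
    (S : Sylow 2 G) [IsMulCommutative (S : Subgroup G)] {x : G} (hx : x ∈ (S : Subgroup G))
    (hc : ∀ n ∈ Subgroup.normalizer ((S : Subgroup G) : Set G), n * x = x * n) : x = 1 := by
  haveI : Fact (Nat.Prime 2) := ⟨Nat.prime_two⟩
  have key : ∀ (j : ℕ) (g : G), g⁻¹ * x ^ j * g ∈ (S : Subgroup G) → g⁻¹ * x ^ j * g = x ^ j := by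
    intro j g hj
    obtain ⟨n, hn, he⟩ := S.conj_eq_normalizer_conj_of_mem (x ^ j) g (pow_mem hx j) hj
    rw [he, mul_assoc, inv_mul_eq_iff_eq_mul]
    exact (((show Commute n x from hc n hn).pow_right j).eq).symm
  haveI : (S : Subgroup G).FiniteIndex := Subgroup.finiteIndex_of_finite
  let V : G →* (S : Subgroup G) := MonoidHom.transfer (MonoidHom.id (S : Subgroup G))
  have hV : V.range = ⊥ := by
    by_contra hne
    obtain ⟨k, hk⟩ := IsPGroup.iff_card.1 (S.2.to_subgroup V.range)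
    rcases k with _ | k
    · exact hne (Subgroup.eq_bot_of_card_eq _ (hk.trans (pow_zero 2)))
    obtain ⟨B, hB⟩ := Sylow.exists_subgroup_card_pow_prime (G := V.range) 2 (n := k)
      (by rw [hk]; exact pow_dvd_pow 2 (Nat.le_succ k))
    have hidx : B.index = 2 := by
      have := B.card_mul_index
      rw [hB, hk, pow_succ] at this
      exact Nat.eq_of_mul_eq_mul_left (by positivity) this
    exact hG (B.comap V.rangeRestrict)
      ((Subgroup.index_comap_of_surjective _ V.rangeRestrict_surjective).trans hidx)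
  have h1 : V x = 1 := Subgroup.mem_bot.1 (hV ▸ ⟨x, rfl⟩)
  rw [MonoidHom.transfer_eq_pow _ _ key] at h1
  have h2 : x ^ (S : Subgroup G).index = 1 := congrArg Subtype.val h1
  obtain ⟨i, hi⟩ := IsPGroup.iff_orderOf.1 S.2 ⟨x, hx⟩
  rw [Subgroup.orderOf_mk] at hi
  exact orderOf_eq_one_iff.1 (Nat.eq_one_of_dvd_coprimes
    (Nat.Coprime.pow_left i (Nat.prime_two.coprime_iff_not_dvd.2 S.not_dvd_index))
    (dvd_of_eq hi) (orderOf_dvd_of_pow_eq_one h2))

theorem prod_mem_iff_even {A : Type*} [CommGroup A] {H : Subgroup A} (hH : H.index = 2) {ι : Type*}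
    (s : Finset ι) (f : ι → A) (hf : ∀ i ∈ s, f i ∉ H) : (∏ i ∈ s, f i) ∈ H ↔ Even s.card := by
  classical
  induction s using Finset.induction_on with
  | empty => simp [one_mem]
  | insert b s hb ih =>
    rw [Finset.prod_insert hb, Subgroup.mul_mem_iff_of_index_two hH,
      ih (fun i hi => hf i (Finset.mem_insert_of_mem hi)), Finset.card_insert_of_notMem hb, Nat.even_add_one]
    have := hf b (Finset.mem_insert_self b s)
    tauto


/-- Let G be a finite group with no subgroup of index 2 whose Sylow 2-subgroup S is commutative, and let R ≤ S be a subgroup whose 2-rank is exactly one less than the 2-rank r of S. Then every involution of S is conjugate, by an element of N_G(S), to an element of R. -/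
theorem result {G : Type*} [Group G] [Finite G] (hG : ∀ H : Subgroup G, H.index ≠ 2) (S : Sylow 2 G) (hS : IsMulCommutative (S : Subgroup G)) (r : ℕ) (hr1 : 1 ≤ r) (hSr : Cfsg.PRankLE 2 r (S : Subgroup G) ∧ ¬ Cfsg.PRankLE 2 (r - 1) (S : Subgroup G)) (R : Subgroup G) (hRS : R ≤ S) (hRr : Cfsg.PRankLE 2 (r - 1) R ∧ (r = 1 ∨ ¬ Cfsg.PRankLE 2 (r - 2) R)) (t : G) (ht : orderOf t = 2) (htS : t ∈ S) : ∃ n ∈ Subgroup.normalizer ((S : Subgroup G) : Set G), n * t * n⁻¹ ∈ R := by
  classical
  haveI : Fact (Nat.Prime 2) := ⟨Nat.prime_two⟩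
  haveI := hS
  have hcomm : ∀ x ∈ (S : Subgroup G), ∀ y ∈ (S : Subgroup G), x * y = y * x := fun x hx y hy =>
    congrArg Subtype.val (hS.1.1 ⟨x, hx⟩ ⟨y, hy⟩)
  let Ω : Subgroup G :=
    { carrier := {x | x ∈ (S : Subgroup G) ∧ x ^ 2 = 1}
      one_mem' := ⟨one_mem _, one_pow 2⟩
      mul_mem' := fun {x y} hx hy => ⟨mul_mem hx.1 hy.1, by
        rw [(show Commute x y from hcomm x hx.1 y hy.1).mul_pow, hx.2, hy.2, one_mul]⟩
      inv_mem' := fun {x} hx => ⟨inv_mem hx.1, by rw [inv_pow, hx.2, inv_one]⟩ }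
  have hΩS : Ω ≤ (S : Subgroup G) := fun x hx => hx.1
  letI : CommGroup Ω := { (inferInstance : Group Ω) with
    mul_comm := fun a b => Subtype.ext (hcomm _ (hΩS a.2) _ (hΩS b.2)) }
  set H := R.subgroupOf Ω with hHdef
  have hΩcard : Nat.card Ω = 2 ^ r := by
    obtain ⟨j, hj⟩ := IsPGroup.iff_card.1 (S.2.to_le hΩS)
    have h1 : Nat.card Ω ≤ 2 ^ r := by
      rw [← Nat.card_congr (Subgroup.subgroupOfEquivOfLe hΩS).toEquiv]
      exact hSr.1 _ ⟨⟨fun a b => Subtype.ext (Subtype.ext (hcomm _ a.1.2 _ b.1.2))⟩⟩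
        (fun a ha => Subtype.ext (ha : (a : G) ∈ Ω).2)
    have h2 : 2 ^ (r - 1) < Nat.card Ω := by
      by_contra hle
      push Not at hle
      refine hSr.2 fun A hA hA2 => le_trans ?_ hle
      rw [← Subgroup.card_map_of_injective (S : Subgroup G).subtype_injective]
      refine Subgroup.card_le_of_le ?_
      rintro _ ⟨a, ha, rfl⟩
      exact ⟨a.2, congrArg Subtype.val (hA2 a ha)⟩
    rw [hj] at h1 h2 ⊢
    have hjr := (Nat.pow_le_pow_iff_right one_lt_two).1 h1
    have hjl := (Nat.pow_lt_pow_iff_right one_lt_two).1 h2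
    rw [show j = r by omega]
  have hHcard : Nat.card H = 2 ^ (r - 1) := by
    have hle : H ≤ ⊤ := le_top
    obtain ⟨j, hj⟩ := IsPGroup.iff_card.1 ((S.2.to_le hΩS).to_subgroup H)
    have e := Subgroup.card_map_of_injective (K := H) Ω.subtype_injective
    have hmap : H.map Ω.subtype ≤ R := by rintro _ ⟨a, ha, rfl⟩; exact ha
    have h1 : Nat.card H ≤ 2 ^ (r - 1) := by
      rw [← e, ← Nat.card_congr (Subgroup.subgroupOfEquivOfLe hmap).toEquiv]
      refine hRr.1 _ ⟨⟨fun a b => Subtype.ext (Subtype.ext (hcomm _ (hRS a.1.2) _ (hRS b.1.2)))⟩⟩ ?_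
      intro a ha
      obtain ⟨u, hu, hue⟩ := (ha : (a : G) ∈ H.map Ω.subtype)
      refine Subtype.ext (show (a : G) ^ 2 = 1 from ?_)
      rw [show (a : G) = Ω.subtype u from hue.symm]
      exact u.2.2
    rcases hRr.2 with hr' | hr'
    · subst hr'
      exact le_antisymm h1 Nat.card_pos
    have h2 : 2 ^ (r - 2) < Nat.card H := by
      by_contra hle'
      push Not at hle'
      refine hr' fun A hA hA2 => le_trans ?_ hle'
      rw [← e, ← Subgroup.card_map_of_injective R.subtype_injective]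
      refine Subgroup.card_le_of_le ?_
      rintro _ ⟨a, ha, rfl⟩
      exact ⟨⟨a, hRS a.2, congrArg Subtype.val (hA2 a ha)⟩, a.2, rfl⟩
    rw [hj] at h1 h2 ⊢
    have hjr := (Nat.pow_le_pow_iff_right one_lt_two).1 h1
    have hjl := (Nat.pow_lt_pow_iff_right one_lt_two).1 h2
    rw [show j = r - 1 by omega]
  have hidx : H.index = 2 := by
    have h := H.card_mul_index
    rw [hHcard, hΩcard, show r = r - 1 + 1 by omega, pow_succ, Nat.add_sub_cancel] at h
    exact Nat.eq_of_mul_eq_mul_left (by positivity) h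
  set N := Subgroup.normalizer ((S : Subgroup G) : Set G) with hN
  have hNΩ : ∀ (n : N) (x : Ω), (n : G) * x * (n : G)⁻¹ ∈ Ω := fun n x =>
    ⟨(Subgroup.mem_normalizer_iff.1 n.2 _).1 x.2.1, by rw [conj_pow, x.2.2, mul_one, mul_inv_cancel]⟩
  letI : MulAction N Ω :=
    { smul := fun n x => ⟨(n : G) * x * (n : G)⁻¹, hNΩ n x⟩
      one_smul := fun x => Subtype.ext (by show ((1 : N) : G) * x * ((1 : N) : G)⁻¹ = x; simp)
      mul_smul := fun m n x => Subtype.ext (by
        show ((m * n : N) : G) * x * ((m * n : N) : G)⁻¹ = (m : G) * ((n : G) * x * (n : G)⁻¹) * (m : G)⁻¹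
        push_cast; group) }
  by_contra hno
  push Not at hno
  set t' : Ω := ⟨t, htS, by rw [← ht]; exact pow_orderOf_eq_one t⟩
  have hout : ∀ x : MulAction.orbit N t', (x : Ω) ∉ H := by
    rintro ⟨x, n, rfl⟩ hx
    exact hno n n.2 hx
  haveI : Fintype (MulAction.orbit N t') := Fintype.ofFinite _
  have hodd : Odd (Fintype.card (MulAction.orbit N t')) := by
    have hle : ((S : Subgroup G).subgroupOf N) ≤ MulAction.stabilizer N t' := fun s hs => by
      refine Subtype.ext ?_
      show (s : G) * t * (s : G)⁻¹ = t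
      rw [show (s : G) * t = t * s from hcomm _ hs _ htS, mul_inv_cancel_right]
    rw [← Nat.card_eq_fintype_card, Nat.card_congr (MulAction.orbitEquivQuotientStabilizer N t'),
      ← Subgroup.index_eq_card]
    refine Odd.of_dvd_nat ?_ ((Subgroup.index_dvd_of_le hle).trans
      (Dvd.intro _ (Subgroup.relIndex_mul_index (Subgroup.le_normalizer (H := (S : Subgroup G))))))
    exact Nat.not_even_iff_odd.1 fun h => S.not_dvd_index (even_iff_two_dvd.1 h)
  set s : Ω := ∏ x : MulAction.orbit N t', (x : Ω) with hs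
  have hs1 : s ∉ H := by
    rw [hs, prod_mem_iff_even hidx Finset.univ _ (fun x _ => hout x), Finset.card_univ]
    exact Nat.not_even_iff_odd.2 hodd
  refine hs1 ?_
  rw [show s = 1 from Subtype.ext (eq_one_of_normalizer_fixed hG S (hΩS s.2) fun n hn => ?_)]
  · exact one_mem _
  let φ : Ω →* Ω := MonoidHom.mk' (fun x => (⟨n, hn⟩ : N) • x) fun a b => Subtype.ext (by
    show n * ((a : G) * b) * n⁻¹ = n * a * n⁻¹ * (n * b * n⁻¹); group)
  have h1 : φ s = s := by
    rw [hs, map_prod]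
    exact Equiv.prod_comp (MulAction.toPerm (⟨n, hn⟩ : N) : Equiv.Perm (MulAction.orbit N t'))
      (fun x => (x : Ω))
  exact mul_inv_eq_iff_eq_mul.1 (congrArg Subtype.val h1)

end Cfsg.Agent.S1244
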