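import Cfsg.Statements.S1246
import Cfsg.Agent.Lib.Fusion.LocalConstrained

set_option autoImplicit false
open Cfsg Cfsg.Agent
open Cfsg.Agent.Fusion
open scoped commutatorElement

namespace Cfsg.Agent.S1246

theorem step {G : Type*} [Group G] [Finite G] {p : ℕ} [Fact p.Prime] {W V : Subgroup G} (hVW : V ≤ W)
    (hW : IsPGroup p W) (hn : W ≤ Subgroup.normalizer (V : Set G))
    (h : Subgroup.centralizer (Cfsg.pCore p ↥(Subgroup.centralizer (V : Set G)) : Set ↥(Subgroup.centralizer (V : Set G)))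
      ≤ Cfsg.pCore p ↥(Subgroup.centralizer (V : Set G))) :
    Subgroup.centralizer (Cfsg.pCore p ↥(Subgroup.centralizer (W : Set G)) : Set ↥(Subgroup.centralizer (W : Set G)))
      ≤ Cfsg.pCore p ↥(Subgroup.centralizer (W : Set G)) := by
  obtain ⟨H, hH⟩ : ∃ H, H = Subgroup.centralizer (V : Set G) := ⟨_, rfl⟩
  rw [← hH] at h
  obtain ⟨Q, hQ⟩ : ∃ Q, Q = (Cfsg.pCore p ↥H).map H.subtype := ⟨_, rfl⟩
  have hinv : ∀ g : G, g ∈ Subgroup.normalizer (H : Set G) → g ∈ Subgroup.normalizer (Q : Set G) := by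
    intro g hg
    refine mem_normalizer_of_cj_le (le_of_eq ?_)
    let e : ↥H ≃* ↥(cj H g) := H.equivMapOfInjective _ (MulAut.conj g).injective
    have h1 : cj ((Cfsg.pCore p ↥H).map H.subtype) g =
        (Cfsg.pCore p ↥(cj H g)).map (cj H g).subtype := by
      rw [← map_pCore_equiv (p := p) e, cj, Subgroup.map_map, Subgroup.map_map]
      rfl
    rw [hQ, h1, cj_eq_self hg]
  have hWH : Subgroup.centralizer (W : Set G) ≤ H := hH ▸ Subgroup.centralizer_le hVW
  refine (local_constrained (K := Subgroup.centralizer (W : Set G)) (T := W)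
    (hQ ▸ (isPGroup_pCore p ↥H).map H.subtype)
    hW (fun w hw => hinv w ?_) (fun g hg => hinv g (Subgroup.le_normalizer (hWH hg))) inf_le_right
    (fun x _ t ht => (Subgroup.mem_centralizer_iff.1 x.2 t ht).symm) (fun x hx hxp hxQ => ?_)).2
  · rw [hH]
    exact mem_normalizer_of_cj_le (by rw [cj_centralizer, cj_eq_self (hn hw)])
  · have hx' : (⟨x, hWH hx⟩ : ↥H) ∈ Subgroup.centralizer (Cfsg.pCore p ↥H : Set ↥H) :=
      Subgroup.mem_centralizer_iff.2 fun y hy =>
        Subtype.ext (Subgroup.mem_centralizer_iff.1 hxQ y (hQ ▸ Subgroup.mem_map_of_mem _ hy))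
    obtain ⟨j, hj⟩ := isPGroup_pCore p ↥H ⟨_, h hx'⟩
    exact orderOf_eq_one_iff.1 (Nat.eq_one_of_dvd_coprimes (hxp.pow_right j) dvd_rfl
      (orderOf_dvd_of_pow_eq_one (congrArg Subtype.val (congrArg Subtype.val hj))))


/-- Let V ≤ U be p-subgroups of the finite group G. If the generalized Fitting subgroup of C_G(V) is a p-group, then so is that of C_G(U). -/
theorem result {G : Type*} [Group G] [Finite G] {p : ℕ} [Fact p.Prime] (U V : Subgroup G) (hVU : V ≤ U) (hU : IsPGroup p U) (hV : IsPGroup p ↥(Cfsg.generalizedFittingSubgroup ↥(Subgroup.centralizer (V : Set G)))) : IsPGroup p ↥(Cfsg.generalizedFittingSubgroup ↥(Subgroup.centralizer (U : Set G))) := by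
  rw [isPGroup_gfit_iff] at hV ⊢
  induction hn : Nat.card U - Nat.card V using Nat.strong_induction_on generalizing V with
  | _ n ih =>
    rcases eq_or_ne V U with rfl | hne
    · exact hV
    obtain ⟨W, hW⟩ : ∃ W, W = U ⊓ Subgroup.normalizer (V : Set G) := ⟨_, rfl⟩
    have hlt : V < W := hW ▸ SylIn.normalizer_growth hVU hne hU
    have hWU : W ≤ U := hW ▸ inf_le_left
    have hc := step hlt.le (hU.to_le hWU) (hW ▸ inf_le_right) hV
    have h1 := Solv.card_lt_of_lt hlt
    have h2 := Subgroup.card_le_of_le hWU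
    exact ih _ (by omega) W hWU hc rfl

end Cfsg.Agent.S1246
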