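import Cfsg.Statements.S1248
import Cfsg.Agent.Lib.Lie.UnitarySylow
import Cfsg.Agent.Lib.Fusion.Basic

set_option autoImplicit false
open Cfsg
open Cfsg.Agent.Fusion
open scoped commutatorElement

namespace Cfsg.Agent.S1248

open Cfsg.Agent.Lie.UnitarySylow in
theorem u_structure {F : Type*} [Field F] [Fintype F] [CharP F 2] {σ : F ≃+* F}
    (hσ : Cfsg.Agent.Classical.IsUSigma 4 σ) :
    letI := uGroup hσ
    Nat.card (U σ) = 64 ∧ IsKleinFour (Subgroup.center (U σ)) ∧
      Subgroup.center (U σ) = Subgroup.closure {x : U σ | orderOf x = 2} ∧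
      Subgroup.center (U σ) = commutator (U σ) ∧ Nat.card (U σ ⧸ Subgroup.center (U σ)) = 16 ∧
      ∀ x : U σ ⧸ Subgroup.center (U σ), x ^ 2 = 1 := by
  letI := uGroup hσ
  haveI := finite_U hσ
  have hc := card_fix hσ
  have hU : Nat.card (U σ) = 64 := by rw [card_U hσ]; norm_num
  have hsq : ∀ g : U σ, g * g ∈ Subgroup.center (U σ) := fun g => (mem_center_iff hσ _).2 (sq_x hσ g)
  have hZc : Nat.card (Subgroup.center (U σ)) = 4 := by
    rw [← hc.1]
    refine Nat.card_congr ⟨fun g => ⟨g.1.z, z_fixed ((mem_center_iff hσ _).1 g.2)⟩,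
      fun z => ⟨central z.1 z.2, (mem_center_iff hσ _).2 rfl⟩, fun g => ?_, fun z => rfl⟩
    exact Subtype.ext (U.ext ((mem_center_iff hσ _).1 g.2).symm rfl)
  have hinv : ∀ g : U σ, g ∈ Subgroup.center (U σ) → g * g = 1 := fun g hg =>
    (sq_eq_one_iff hσ g).2 ((mem_center_iff hσ g).1 hg)
  refine ⟨hU, ?_, ?_, ?_, ?_, ?_⟩
  · haveI : Nontrivial ↥(Subgroup.center (U σ)) := Finite.one_lt_card_iff_nontrivial.1 (by rw [hZc]; norm_num)
    refine ⟨hZc, (Monoid.exponent_eq_prime_iff Nat.prime_two).2 fun g hg => orderOf_eq_prime (Subtype.ext ?_) hg⟩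
    rw [SubgroupClass.coe_pow, sq, OneMemClass.coe_one]
    exact hinv _ g.2
  · refine le_antisymm (fun g hg => ?_) ((Subgroup.closure_le _).2 fun g (hg : orderOf g = 2) => ?_)
    · by_cases h1 : g = 1
      · rw [h1]; exact one_mem _
      · exact Subgroup.subset_closure (orderOf_eq_prime (by rw [sq]; exact hinv g hg) h1)
    · refine (mem_center_iff hσ _).2 ((sq_eq_one_iff hσ g).1 ?_)
      rw [← sq, ← hg, pow_orderOf_eq_one]
  · refine le_antisymm (fun g hg => ?_) ?_
    · have hx := (mem_center_iff hσ _).1 hg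
      have hne : 0 < Nat.card {z : F // z + σ z = g.z} := by rw [hc.2 _ (z_fixed hx)]; norm_num
      obtain ⟨⟨⟨y, hy⟩⟩, -⟩ := Nat.card_pos_iff.1 hne
      obtain ⟨a, ha⟩ := exists_z hσ (1 : F)
      obtain ⟨b, hb⟩ := exists_z hσ y
      have hgab : g = (b * a)⁻¹ * (a * b) := by
        rw [eq_inv_mul_iff_mul_eq]
        refine U.ext ?_ ?_
        · rw [mul_x hσ, mul_x hσ, mul_x hσ, hx, add_zero, add_comm]
        · rw [mul_z hσ, mul_z hσ, mul_z hσ, mul_x hσ, hx, mul_zero, add_zero, ha, hb, map_one, mul_one, one_mul]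
          linear_combination -hy + σ y * (CharTwo.two_eq_zero (R := F))
      rw [hgab, show (b * a)⁻¹ * (a * b) = a⁻¹ * b⁻¹ * a * b by group]
      have := Subgroup.commutator_mem_commutator (Subgroup.mem_top a⁻¹) (Subgroup.mem_top b⁻¹)
      rw [commutatorElement_def, inv_inv, inv_inv] at this
      exact this
    · rw [commutator_def, Subgroup.commutator_le]
      intro a _ b _
      refine (mem_center_iff hσ _).2 ?_
      rw [commutatorElement_def, mul_x hσ, mul_x hσ, mul_x hσ]
      show a.x + b.x + a.x + b.x = 0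
      linear_combination (a.x + b.x) * (CharTwo.two_eq_zero (R := F))
  · have := Subgroup.card_eq_card_quotient_mul_card_subgroup (Subgroup.center (U σ))
    rw [hU, hZc] at this
    omega
  · intro x
    obtain ⟨g, rfl⟩ := QuotientGroup.mk'_surjective _ x
    rw [← map_pow, QuotientGroup.mk'_apply, QuotientGroup.eq_one_iff, sq]
    exact hsq g

/-- Let F be a field with 16 elements and S a Sylow 2-subgroup of PSU(3) over F (the unitary group U₃(4)). Then |S| = 64; the centre Z(S) is a Klein four-group and coincides with the subgroup generated by the involutions of S and with the derived subgroup; and every element of S ⧸ Z(S) squares to the identity, S ⧸ Z(S) having order 16. -/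
theorem result {F : Type*} [Field F] [Fintype F] (hF : Fintype.card F = 16) (S : Sylow 2 (Cfsg.PSU 3 F 4)) : Nat.card S = 64 ∧ IsKleinFour (Subgroup.center (S : Subgroup (Cfsg.PSU 3 F 4))) ∧ Subgroup.center (S : Subgroup (Cfsg.PSU 3 F 4)) = Subgroup.closure {x : (S : Subgroup (Cfsg.PSU 3 F 4)) | orderOf x = 2} ∧ Subgroup.center (S : Subgroup (Cfsg.PSU 3 F 4)) = commutator (S : Subgroup (Cfsg.PSU 3 F 4)) ∧ Nat.card ((S : Subgroup (Cfsg.PSU 3 F 4)) ⧸ Subgroup.center (S : Subgroup (Cfsg.PSU 3 F 4))) = 16 ∧ ∀ x : (S : Subgroup (Cfsg.PSU 3 F 4)) ⧸ Subgroup.center (S : Subgroup (Cfsg.PSU 3 F 4)), x ^ 2 = 1 := by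
  classical
  haveI : Fact (Nat.Prime 2) := ⟨Nat.prime_two⟩
  haveI : CharP F 2 := charP_of_card_eq_prime_pow (p := 2) (f := 4) (by rw [hF]; norm_num)
  obtain ⟨σ, hσ⟩ := Cfsg.Agent.Lie.UnitarySylow.sigma_props (by norm_num : 1 ≤ 2) (show Fintype.card F = (2 ^ 2) ^ 2 by rw [hF]; norm_num)
  replace hσ : Cfsg.Agent.Classical.IsUSigma 4 σ := hσ
  letI := Cfsg.Agent.Lie.UnitarySylow.uGroup hσ
  obtain ⟨e⟩ := Cfsg.Agent.Lie.UnitarySylow.sylow_PSU hσ (by norm_num : 1 ≤ 2) (show 4 = 2 ^ 2 by norm_num) S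
  obtain ⟨h1, h2, h3, h4, h5, h6⟩ := u_structure hσ
  set T := ↥(S : Subgroup (Cfsg.PSU 3 F 4))
  have hc : (Subgroup.center _).map e.toMonoidHom = Subgroup.center T := by
    ext x
    rw [Subgroup.mem_map_equiv, Subgroup.mem_center_iff, Subgroup.mem_center_iff]
    constructor
    · intro h g
      exact e.symm.injective (by rw [map_mul, map_mul]; exact h (e.symm g))
    · intro h g
      have := congrArg e.symm (h (e g))
      rw [map_mul, map_mul, e.symm_apply_apply] at this
      exact this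
  have ec := (MulEquiv.subgroupMap e (Subgroup.center _)).trans (MulEquiv.subgroupCongr hc)
  refine ⟨by rw [← Nat.card_congr e.toEquiv]; exact h1, ?_, ?_, ?_, ?_, ?_⟩
  · exact ⟨by rw [← Nat.card_congr ec.toEquiv, h2.card_four], by rw [← Monoid.exponent_eq_of_mulEquiv ec, h2.exponent_two]⟩
  · rw [← hc, h3, MonoidHom.map_closure]
    congr 1
    ext x
    constructor
    · rintro ⟨y, hy, rfl⟩
      exact (e.orderOf_eq y).trans hy
    · intro hx
      exact ⟨e.symm x, (e.symm.orderOf_eq x).trans hx, e.apply_symm_apply x⟩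
  · rw [← hc, h4, commutator_def, commutator_def, Subgroup.map_commutator, Subgroup.map_top_of_surjective e.toMonoidHom e.surjective]
  · rw [← Nat.card_congr (QuotientGroup.congr _ _ e hc).toEquiv]; exact h5
  · intro x
    obtain ⟨y, rfl⟩ := (QuotientGroup.congr _ _ e hc).surjective x
    rw [← map_pow, h6 y, map_one]

end Cfsg.Agent.S1248
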