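import Cfsg.Statements.S1251
import Cfsg.Agent.Lib.Char.ZStarElement
import Cfsg.Agent.Lib.Fusion.Cores

set_option autoImplicit false
open Cfsg
open Cfsg.Agent.Fusion
open scoped commutatorElement Pointwise

namespace Cfsg.Agent.S1251

/-- Let S be a Sylow 2-subgroup of the finite group G and A ≤ S strongly closed in S. If H is a subgroup normalized by A with no nontrivial normal subgroup of odd order and A ∩ H = 1, then A ≤ C_G(H). -/
theorem result {G : Type*} [Group G] [Finite G] (S : Sylow 2 G) (A : Subgroup G) (hA : Cfsg.IsStronglyClosed A (S : Subgroup G)) (H : Subgroup G) (hAH : A ≤ Subgroup.normalizer (H : Set G)) (hO : Cfsg.oddCore ↥H = ⊥) (hdisj : A ⊓ H = ⊥) : A ≤ Subgroup.centralizer (H : Set G) := by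
  refine fun a ha => Subgroup.mem_centralizer_iff.2 fun h hh => ?_
  have hAp : IsPGroup 2 A := S.isPGroup'.to_le hA.1
  obtain ⟨P, hP, hAP⟩ := exists_sylIn_ge hAp (le_sup_left : A ≤ A ⊔ H)
  obtain ⟨S', hPS'⟩ := hP.isPGroup.exists_le_sylow
  obtain ⟨c, -, hc⟩ := (sylIn_top S).conj_eq (sylIn_top S')
  have hAc : cj A c = A := by
    have h1 : cj A c⁻¹ ≤ A := by
      rintro _ ⟨x, hx, rfl⟩
      refine hA.2 x hx c⁻¹ ?_
      have : cj (A) c⁻¹ ≤ (S : Subgroup G) := by
        rw [← cj_cj_inv (S : Subgroup G) c, hc]; exact cj_mono (hAP.trans hPS') _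
      exact this ⟨x, hx, rfl⟩
    conv_lhs => rw [← cj_eq_of_cj_le h1]
    rw [cj_inv_cj]
  have hstrong : ∀ x ∈ A, ∀ g : G, g * x * g⁻¹ ∈ P → g * x * g⁻¹ ∈ A := by
    intro x hx g hg
    have h1 : g * x * g⁻¹ ∈ cj (S : Subgroup G) c := hc ▸ hPS' hg
    rw [mem_cj] at h1
    have h2 := hA.2 x hx (c⁻¹ * g) (by simpa [mul_assoc] using h1)
    rw [← hAc, mem_cj]
    simpa [mul_assoc] using h2
  -- the Sylow subgroup of `⟨a⟩ H`
  set K := Subgroup.zpowers a ⊔ H with hK
  have hcj : ∀ g ∈ A, cj H g = H := fun g hg => cj_eq_self (hAH hg)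
  have hPQ : SylIn 2 (P ⊓ H) H := hP.inf_normal le_sup_right (sup_le hAH Subgroup.le_normalizer)
  set T := Subgroup.zpowers a ⊔ (P ⊓ H)
  have haP : Subgroup.zpowers a ≤ P := Subgroup.zpowers_le.2 (hAP ha)
  have hTP : T ≤ P := sup_le haP inf_le_left
  have hT : SylIn 2 T K := by
    obtain ⟨T', hT', hle⟩ := exists_sylIn_ge (hP.isPGroup.to_le hTP)
      (sup_le_sup_left inf_le_right _ : T ≤ K)
    suffices T' ≤ T by rwa [le_antisymm this hle] at hT'
    intro t ht
    obtain ⟨y, hy, u, hu, rfl⟩ : ∃ y ∈ Subgroup.zpowers a, ∃ u ∈ H, y * u = t := by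
      have h2 : t ∈ Subgroup.zpowers a ⊔ H := hT'.le ht
      rw [← SetLike.mem_coe, Subgroup.coe_mul_of_left_le_normalizer_right _ _
        ((Subgroup.zpowers_le.2 ha).trans hAH)] at h2
      exact h2
    have hu' : u ∈ T' ⊓ H := ⟨by simpa using mul_mem (inv_mem (hle (Subgroup.mem_sup_left hy))) ht, hu⟩
    have := hPQ.eq_of_le (hT'.isPGroup.to_le inf_le_left)
      (le_inf ((le_sup_right : P ⊓ H ≤ T).trans hle) inf_le_right) inf_le_right
    rw [this] at hu'
    exact mul_mem (Subgroup.mem_sup_left hy) (Subgroup.mem_sup_right hu')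
  obtain ⟨T₀, hT₀⟩ := hT.exists_sylow_subgroupOf
  set aK : K := ⟨a, Subgroup.mem_sup_left (Subgroup.mem_zpowers a)⟩
  have haT : aK ∈ (T₀ : Subgroup K) := by
    rw [hT₀, Subgroup.mem_subgroupOf]; exact Subgroup.mem_sup_left (Subgroup.mem_zpowers a)
  have hKH : K ≤ Subgroup.normalizer (H : Set G) :=
    sup_le ((Subgroup.zpowers_le.2 ha).trans hAH) Subgroup.le_normalizer
  have hcentral := Agent.Char.isolatedElt_central haT (by
    intro y hy g hg
    rw [hT₀, Subgroup.mem_subgroupOf] at hg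
    push_cast at hg
    have hya : (y : G) ∈ Subgroup.zpowers a := by
      obtain ⟨i, rfl⟩ := Subgroup.mem_zpowers_iff.1 hy
      exact ⟨i, by simp [aK]⟩
    have hyA : (y : G) ∈ A := Subgroup.zpowers_le.2 ha hya
    refine Subtype.ext ?_
    push_cast
    refine mul_inv_eq_one.1 ?_
    have h1 : (g : G) * y * (g : G)⁻¹ * (y : G)⁻¹ ∈ A :=
      mul_mem (hstrong _ hyA _ (hTP hg)) (inv_mem hyA)
    have h2 : (g : G) * y * (g : G)⁻¹ * (y : G)⁻¹ ∈ H := by
      have h3 : (g : G) ∈ Subgroup.zpowers a ⊔ H := g.2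
      rw [← SetLike.mem_coe, Subgroup.coe_mul_of_left_le_normalizer_right _ _
        ((Subgroup.zpowers_le.2 ha).trans hAH)] at h3
      obtain ⟨b, hb, u, hu, hbu⟩ := h3
      change b * u = (g : G) at hbu
      have hby : b * (y : G) = y * b := by
        obtain ⟨i, rfl⟩ := Subgroup.mem_zpowers_iff.1 hb
        obtain ⟨j, hj⟩ := Subgroup.mem_zpowers_iff.1 hya
        rw [← hj, ← zpow_add, ← zpow_add, add_comm]
      have h4 : u * ((y : G) * u⁻¹ * (y : G)⁻¹) ∈ H :=
        mul_mem hu ((Subgroup.mem_normalizer_iff.1 (hAH hyA) _).1 (inv_mem hu))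
      have h5 := (Subgroup.mem_normalizer_iff.1 (hAH (Subgroup.zpowers_le.2 ha hb)) _).1 h4
      rw [← hbu]
      convert h5 using 1
      calc b * u * y * (b * u)⁻¹ * (y : G)⁻¹ = b * u * y * u⁻¹ * ((y : G) * b)⁻¹ := by group
        _ = _ := by rw [← hby]; group
    exact Subgroup.mem_bot.1 (hdisj ▸ Subgroup.mem_inf.2 ⟨h1, h2⟩))
  set hK' : K := ⟨h, Subgroup.mem_sup_right hh⟩
  have hcomm : a * h * a⁻¹ * h⁻¹ = 1 := by
    have hin : a * h * a⁻¹ * h⁻¹ ∈ H :=
      mul_mem ((Subgroup.mem_normalizer_iff.1 (hAH ha) _).1 hh) (inv_mem hh)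
    set N : Subgroup H := ((oddCore K).map K.subtype).subgroupOf H
    haveI : N.Normal := ⟨fun n hn u => by
      rw [Subgroup.mem_subgroupOf] at hn ⊢
      obtain ⟨m, hm, hme⟩ := hn
      refine ⟨⟨u, Subgroup.mem_sup_right u.2⟩ * m * ⟨u, Subgroup.mem_sup_right u.2⟩⁻¹,
        (inferInstance : (oddCore K).Normal).conj_mem m hm _, ?_⟩
      rw [map_mul, map_mul, map_inv, hme]; rfl⟩
    have hN : (Nat.card N).Coprime 2 := by
      refine (card_pPrimeCore_coprime 2 K).coprime_dvd_left ?_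
      rw [← Subgroup.card_map_of_injective H.subtype_injective, ← Subgroup.card_map_of_injective K.subtype_injective]
      exact Subgroup.card_dvd_of_le (by rintro _ ⟨n, hn, rfl⟩; exact hn)
    have hmem : (⟨_, hin⟩ : H) ∈ N := ⟨_, hcentral hK', rfl⟩
    have h6 := le_pPrimeCore hN hmem
    rw [show pPrimeCore 2 H = ⊥ from hO, Subgroup.mem_bot] at h6
    exact congrArg Subtype.val h6
  exact (mul_inv_eq_iff_eq_mul.1 (mul_inv_eq_one.1 hcomm)).symm

end Cfsg.Agent.S1251
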