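import Cfsg.Statements.S1253
import Cfsg.Agent.Lib.Fusion.IsolatedSylow

set_option autoImplicit false
open Cfsg
open Cfsg.Agent.Fusion
open scoped commutatorElement

namespace Cfsg.Agent.S1253

/-- Let z be an isolated involution of the finite group G with centralizer C, p an odd prime and P a Sylow p-subgroup of G normalized by z. Then P ∩ C has p-power-free index in C (it is a Sylow p-subgroup of C), and |P : C_P(z)| equals the number of elements x ∈ P with z x z⁻¹ = x⁻¹. -/
theorem result {G : Type*} [Group G] [Finite G] (z : G) (hz : Cfsg.IsIsolatedInvolution z) {p : ℕ} [Fact p.Prime] (hp : p ≠ 2) (P : Sylow p G) (hzP : z ∈ Subgroup.normalizer ((P : Subgroup G) : Set G)) : ¬ p ∣ ((P : Subgroup G) ⊓ Subgroup.centralizer ({z} : Set G)).relIndex (Subgroup.centralizer ({z} : Set G)) ∧ ((P : Subgroup G) ⊓ Subgroup.centralizer ({z} : Set G)).relIndex (P : Subgroup G) = Nat.card {x : G // x ∈ P ∧ z * x * z⁻¹ = x⁻¹} := by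
  set C := Subgroup.centralizer ({z} : Set G) with hC
  refine ⟨?_, ?_⟩
  · obtain ⟨R, hR⟩ := exists_sylIn (p := p) C
    obtain ⟨P', hRP', hzP'⟩ := exists_isolated_invariant_sylow hz hp hR.isPGroup
      (Subgroup.centralizer_le_normalizer _ (Subgroup.mem_centralizer_iff.2 fun r hr =>
        Subgroup.mem_centralizer_singleton_iff.1 (hR.le hr)))
    obtain ⟨g, -, hg⟩ := (sylIn_top P).conj_eq (sylIn_top P')
    set N := Subgroup.normalizer ((P : Subgroup G) : Set G)
    have hmem : g⁻¹ * z * g⁻¹⁻¹ ∈ N := by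
      refine mem_normalizer_of_cj_le ?_
      rw [← cj_cj, ← cj_cj, inv_inv, hg, cj_eq_self hzP', ← hg, cj_cj_inv]
    obtain ⟨h, hh, he⟩ := Agent.S1180.result z hz N hzP g⁻¹ hmem
    have hc : Commute z (g * h) := by
      have : g * h * z * (g * h)⁻¹ = z := by
        calc g * h * z * (g * h)⁻¹ = g * (h * z * h⁻¹) * g⁻¹ := by group
          _ = z := by rw [he]; group
      exact ((mul_inv_eq_iff_eq_mul.1 this).symm : z * (g * h) = g * h * z)
    have hP' : cj (P : Subgroup G) (g * h) = (P' : Subgroup G) := by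
      rw [← cj_cj, cj_eq_self hh, hg]
    have hcC : g * h ∈ C := Subgroup.mem_centralizer_singleton_iff.2 hc.symm.eq
    have hR' : R = (P' : Subgroup G) ⊓ C :=
      (hR.eq_of_le (P'.isPGroup'.to_le inf_le_left) (le_inf hRP' hR.le) inf_le_right).symm
    have h2 := (hR'.symm ▸ hR).cj' (inv_mem (Subgroup.le_normalizer hcC) : (g * h)⁻¹ ∈ Subgroup.normalizer (C : Set G))
    rw [cj_inf, cj_eq_self_of_mem (inv_mem hcC), ← hP', cj_cj_inv] at h2
    exact h2.not_dvd
  · refine card_inverted hz.1 hzP ?_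
    obtain ⟨k, hk⟩ := IsPGroup.iff_card.1 P.isPGroup'
    rw [hk]
    exact ((Fact.out : p.Prime).odd_of_ne_two hp).pow

end Cfsg.Agent.S1253
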