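import Cfsg.Statements.S1256
import Cfsg.Agent.Lib.Solv.DihedralSylowClasses
import Cfsg.Agent.Lib.Fusion.NPC
import Cfsg.Agent.Lib.Fusion.DihedralFour
import Cfsg.Agent.Lib.Fusion.Cores

set_option autoImplicit false
open Cfsg
open Cfsg.Agent.Fusion
open scoped commutatorElement

namespace Cfsg.Agent.S1256

open DihedralGroup
open Cfsg.Agent.Solv.DihedralClasses

section D
variable {m : ℕ}

def four (m : ℕ) (i : ZMod m) : Subgroup (DihedralGroup m) := Subgroup.centralizer {sr i}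

theorem mem_four [NeZero m] (hm : 2 ∣ m) (i : ZMod m) (d : DihedralGroup m) :
    d ∈ four m i ↔ d = 1 ∨ d = r ((m / 2 : ℕ) : ZMod m) ∨ d = sr i ∨
      d = sr (i + ((m / 2 : ℕ) : ZMod m)) := by
  have hh : ((m / 2 : ℕ) : ZMod m) + ((m / 2 : ℕ) : ZMod m) = 0 := by
    rw [← Nat.cast_add, show m / 2 + m / 2 = m by omega, ZMod.natCast_self]
  rw [four, Subgroup.mem_centralizer_singleton_iff]
  constructor
  · intro hc
    cases d with
    | r j =>
      rw [r_mul_sr, sr_mul_r] at hc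
      have h0 : j + j = 0 := by linear_combination -(sr.inj hc)
      rcases zmod_double_eq_zero h0 with h | h
      · exact Or.inl (by rw [h, DihedralGroup.one_def])
      · exact Or.inr (Or.inl (by rw [h]))
    | sr j =>
      rw [sr_mul_sr, sr_mul_sr] at hc
      have h0 : (j - i) + (j - i) = 0 := by linear_combination -(r.inj hc)
      rcases zmod_double_eq_zero h0 with h | h
      · exact Or.inr (Or.inr (Or.inl (by rw [sub_eq_zero.1 h])))
      · exact Or.inr (Or.inr (Or.inr (by rw [show j = i + ((m / 2 : ℕ) : ZMod m) by linear_combination h])))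
  · rintro (rfl | rfl | rfl | rfl)
    · simp
    · rw [r_mul_sr, sr_mul_r]; congr 1; linear_combination -hh
    · rfl
    · rw [sr_mul_sr, sr_mul_sr]; congr 1; linear_combination -hh

theorem half_ne_zero [NeZero m] (hm : 2 ∣ m) : ((m / 2 : ℕ) : ZMod m) ≠ 0 := by
  intro h
  have h1 := (ZMod.natCast_eq_zero_iff _ _).1 h
  have h0 : 0 < m := Nat.pos_of_ne_zero (NeZero.ne m)
  have := Nat.le_of_dvd (by omega) h1
  omega

theorem four_klein [NeZero m] (hm : 2 ∣ m) (i : ZMod m) : IsKleinFour (four m i) := by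
  classical
  have hh : ((m / 2 : ℕ) : ZMod m) + ((m / 2 : ℕ) : ZMod m) = 0 := by
    rw [← Nat.cast_add, show m / 2 + m / 2 = m by omega, ZMod.natCast_self]
  have hsq : ∀ d ∈ four m i, d * d = 1 := by
    intro d hd
    rcases (mem_four hm i d).1 hd with rfl | rfl | rfl | rfl
    · simp
    · rw [r_mul_r, hh, DihedralGroup.one_def]
    · rw [sr_mul_self]
    · rw [sr_mul_self]
  let F : Finset (DihedralGroup m) :=
    {1, r ((m / 2 : ℕ) : ZMod m), sr i, sr (i + ((m / 2 : ℕ) : ZMod m))}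
  have hc : Nat.card (four m i) = 4 := by
    have e : (four m i : Set (DihedralGroup m)) = F := by
      ext d
      simp [F, mem_four hm i]
    rw [← SetLike.coe_sort_coe, Nat.card_coe_set_eq, e, Set.ncard_coe_finset]
    have hne := half_ne_zero hm
    simp only [F]
    rw [Finset.card_insert_of_notMem, Finset.card_insert_of_notMem, Finset.card_pair]
    · intro h; exact hne (by linear_combination -(sr.inj h))
    · simp
    · simp only [Finset.mem_insert, Finset.mem_singleton, DihedralGroup.one_def]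
      rintro (h | h | h)
      · exact hne (r.inj h).symm
      · cases h
      · cases h
  refine ⟨hc, Nat.dvd_antisymm (Monoid.exponent_dvd_of_forall_pow_eq_one fun d => ?_) ?_⟩
  · exact Subtype.ext (by rw [Subgroup.coe_pow, pow_two]; exact hsq d.1 d.2)
  · have h2 : orderOf (⟨sr i, (mem_four hm i _).2 (Or.inr (Or.inr (Or.inl rfl)))⟩ : four m i) = 2 := by
      rw [Subgroup.orderOf_mk, orderOf_sr]
    rw [← h2]
    exact Monoid.order_dvd_exponent _

theorem four_exists [NeZero m] {V : Subgroup (DihedralGroup m)}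
    (hV2 : ∀ a ∈ V, a * a = 1) (hc : Nat.card V = 4) : ∃ i, V = four m i := by
  classical
  obtain ⟨i, hi⟩ : ∃ i, sr i ∈ V := by
    by_contra hne
    have hsub : ∀ d ∈ V, d ∈ ({1, r ((m / 2 : ℕ) : ZMod m)} : Finset (DihedralGroup m)) := by
      intro d hd
      by_cases h1 : d = 1
      · simp [h1]
      rcases involution_cases h1 (hV2 d hd) with rfl | ⟨i, rfl⟩
      · simp
      · exact absurd ⟨i, hd⟩ hne
    have := (Nat.card_le_card_of_injective (β := {d // d ∈ ({1, r ((m / 2 : ℕ) : ZMod m)} : Finset (DihedralGroup m))})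
      (fun d : V => ⟨d.1, hsub d.1 d.2⟩) fun a b h => Subtype.ext (congrArg Subtype.val h :)).trans
        ((Nat.card_eq_finsetCard _).trans_le Finset.card_le_two)
    omega
  refine ⟨i, Subgroup.eq_of_le_of_card_ge (fun d hd => Subgroup.mem_centralizer_singleton_iff.2 ?_)
    (by rw [hc]; exact dihedral_centralizer_sr_card_le i)⟩
  have h3 := hV2 _ (V.mul_mem hd hi)
  have h4 : sr i * sr i = (1 : DihedralGroup m) := hV2 _ hi
  have h5 := hV2 _ hd
  calc d * sr i = d * (d * sr i * (d * sr i)) * sr i := by rw [h3, mul_one]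
    _ = (d * d) * (sr i * d) * (sr i * sr i) := by group
    _ = sr i * d := by rw [h5, h4, one_mul, mul_one]

theorem four_conj [NeZero m] (hm : 2 ∣ m) (i : ZMod m) :
    ∃ g : DihedralGroup m, cj (four m i) g = four m 0 ∨ cj (four m i) g = four m 1 := by
  have key : ∀ j k : ZMod m, cj (four m (j + (k + k))) (r k) = four m j := by
    intro j k
    rw [four, four, ← Subgroup.centralizer_closure, cj_centralizer, cj, MonoidHom.map_closure,
      Subgroup.centralizer_closure, Set.image_singleton]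
    congr 2
    show r k * sr (j + (k + k)) * (r k)⁻¹ = sr j
    rw [inv_r, r_mul_sr, sr_mul_r]
    congr 1
    ring
  rcases eq_two_mul_or i with ⟨k, hk⟩ | ⟨k, hk⟩
  · exact ⟨r k, Or.inl (by rw [hk, ← zero_add (k + k)]; exact key 0 k)⟩
  · exact ⟨r k, Or.inr (by rw [hk]; exact key 1 k)⟩

theorem four_not_conj [NeZero m] (hm : 4 ∣ m) (g : DihedralGroup m) :
    g * sr 0 * g⁻¹ ∉ four m 1 := by
  have hm2 : 2 ∣ m := (dvd_mul_right 2 2).trans hm
  obtain ⟨l, hl⟩ := hm
  intro h
  rcases (mem_four hm2 1 _).1 h with e | e | e | e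
  · rw [conj_eq_one_iff] at e
    rw [DihedralGroup.one_def] at e; cases e
  · have e' : sr (0 : ZMod m) = g⁻¹ * r ((m / 2 : ℕ) : ZMod m) * g := by rw [← e]; group
    cases g with
    | r k => rw [inv_r, r_mul_r, r_mul_r] at e'; cases e'
    | sr k => rw [inv_sr, sr_mul_r, sr_mul_sr] at e'; cases e'
  · exact parity_conj hm2 g e
  · refine parity_conj hm2 (r ((l : ℕ) : ZMod m) * g) ?_
    calc r ((l : ℕ) : ZMod m) * g * sr 0 * (r ((l : ℕ) : ZMod m) * g)⁻¹
        = r ((l : ℕ) : ZMod m) * (g * sr 0 * g⁻¹) * (r ((l : ℕ) : ZMod m))⁻¹ := by group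
      _ = sr 1 := by
        rw [e, inv_r, r_mul_sr, sr_mul_r]
        congr 1
        rw [show m / 2 = l + l by omega, Nat.cast_add]
        ring

theorem four_swap [NeZero m] {l : ℕ} (hl : m = 4 * l) (i : ZMod m) {u v : DihedralGroup m}
    (hu : u ∈ four m i) (hv : v ∈ four m i) (hu1 : u ≠ 1) (hv1 : v ≠ 1)
    (huz : u ≠ r ((m / 2 : ℕ) : ZMod m)) (hvz : v ≠ r ((m / 2 : ℕ) : ZMod m)) :
    r (l : ZMod m) * u * (r (l : ZMod m))⁻¹ ≠ u ∧
    r (l : ZMod m) * u * (r (l : ZMod m))⁻¹ ∈ four m i ∧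
    (u ≠ v → v = r (l : ZMod m) * u * (r (l : ZMod m))⁻¹) := by
  have hm2 : 2 ∣ m := ⟨2 * l, by omega⟩
  have hh : ((m / 2 : ℕ) : ZMod m) + ((m / 2 : ℕ) : ZMod m) = 0 := by
    rw [← Nat.cast_add, show m / 2 + m / 2 = m by omega, ZMod.natCast_self]
  have hll : (l : ZMod m) + (l : ZMod m) = ((m / 2 : ℕ) : ZMod m) := by
    rw [show m / 2 = l + l by omega, Nat.cast_add]
  have hne := half_ne_zero hm2
  have hc : ∀ j, r (l : ZMod m) * sr j * (r (l : ZMod m))⁻¹ = sr (j + ((m / 2 : ℕ) : ZMod m)) := by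
    intro j
    rw [inv_r, r_mul_sr, sr_mul_r]
    congr 1
    linear_combination -hll - hh
  rcases (mem_four hm2 i u).1 hu with rfl | rfl | rfl | rfl
  · exact absurd rfl hu1
  · exact absurd rfl huz
  · rw [hc]
    refine ⟨fun e => hne (by linear_combination sr.inj e), (mem_four hm2 i _).2 (Or.inr (Or.inr (Or.inr rfl))), fun huv => ?_⟩
    rcases (mem_four hm2 i v).1 hv with rfl | rfl | rfl | rfl
    · exact absurd rfl hv1
    · exact absurd rfl hvz
    · exact absurd rfl huv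
    · rfl
  · rw [hc, add_assoc, hh, add_zero]
    refine ⟨fun e => hne (by linear_combination -(sr.inj e)), (mem_four hm2 i _).2 (Or.inr (Or.inr (Or.inl rfl))), fun huv => ?_⟩
    rcases (mem_four hm2 i v).1 hv with rfl | rfl | rfl | rfl
    · exact absurd rfl hv1
    · exact absurd rfl hvz
    · rfl
    · exact absurd rfl huv

end D

theorem hnpc_two_cyclic {G : Type*} [Group G] [Finite G] (P : Sylow 2 G)
    (h : IsCyclic (P : Subgroup G)) : Cfsg.HasNormalPComplement 2 G := by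
  haveI : Fact (Nat.Prime 2) := ⟨Nat.prime_two⟩
  by_cases h2 : 2 ∣ Nat.card G
  · exact ⟨P, _, inferInstance, IsCyclic.isComplement' (Nat.minFac_eq_two_iff _ |>.2 h2) h⟩
  · exact hnpc_of_not_dvd h2

open DihedralGroup in
theorem hnpc_of_central {G : Type*} [Group G] [Finite G] {m : ℕ} [NeZero m] (P : Sylow 2 G)
    (hm : 4 ∣ m) (ι : DihedralGroup m →* G) (hι : Function.Injective ι)
    (hrange : ι.range = (P : Subgroup G))
    (hz : ∀ g : G, g * ι (r ((m / 2 : ℕ) : ZMod m)) * g⁻¹ = ι (r ((m / 2 : ℕ) : ZMod m))) :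
    Cfsg.HasNormalPComplement 2 G := by
  haveI : Fact (Nat.Prime 2) := ⟨Nat.prime_two⟩
  have hm2 : 2 ∣ m := (dvd_mul_right 2 2).trans hm
  have key : ∀ i : ZMod m, ∃ N : Subgroup G, N.Normal ∧ N.index = 2 ∧ ι (sr i) ∉ N := by
    intro i
    refine exists_index_two P ι hι hrange rotations_index_two (orderOf_sr i)
      (by rintro ⟨j, hj⟩; cases hj) ?_
    rintro g ⟨x, ⟨j, rfl⟩, hxe⟩
    have hxo : orderOf (r j : DihedralGroup m) = 2 := by
      rw [← orderOf_injective ι hι, hxe,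
        show g * ι (sr i) * g⁻¹ = (MulAut.conj g).toMonoidHom (ι (sr i)) by simp,
        orderOf_injective _ (MulAut.conj g).injective, orderOf_injective ι hι, orderOf_sr]
    rcases involution_cases' hxo with e | ⟨k, e⟩
    · rw [e] at hxe
      have h1 : ι (sr i) = ι (r ((m / 2 : ℕ) : ZMod m)) := by
        calc ι (sr i) = g⁻¹ * (g * ι (sr i) * g⁻¹) * g⁻¹⁻¹ := by group
          _ = g⁻¹ * ι (r ((m / 2 : ℕ) : ZMod m)) * g⁻¹⁻¹ := by rw [← hxe]
          _ = _ := hz g⁻¹
      cases hι h1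
    · cases e
  obtain ⟨N, hN, hN2, hNs⟩ := key 0
  obtain ⟨N', hN', hN'2, hN't⟩ := key 1
  set K := N ⊓ N'
  have hKsr : ∀ i, ι (sr i) ∉ K := by
    intro i hi
    rcases eq_two_mul_or i with ⟨k, rfl⟩ | ⟨k, rfl⟩
    · refine hNs ?_
      have := hN.conj_mem _ hi.1 (ι (r k))
      rwa [← map_inv, ← map_mul, ← map_mul, inv_r, r_mul_sr, sr_mul_r,
        show k + k - k + -k = (0 : ZMod m) by ring] at this
    · refine hN't ?_
      have := hN'.conj_mem _ hi.2 (ι (r k))
      rwa [← map_inv, ← map_mul, ← map_mul, inv_r, r_mul_sr, sr_mul_r,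
        show 1 + (k + k) - k + -k = (1 : ZMod m) by ring] at this
  have hQ : SylIn 2 ((P : Subgroup G) ⊓ K) K :=
    (sylIn_top P).inf_normal le_top (by rw [Subgroup.normalizer_eq_top])
  have hle : (P : Subgroup G) ⊓ K ≤ Subgroup.zpowers (ι (r 1)) := by
    rintro _ ⟨hx, hxK⟩
    rw [← hrange] at hx
    obtain ⟨d, rfl⟩ := hx
    cases d with
    | r i =>
      rw [← ZMod.natCast_rightInverse i, ← r_one_pow, map_pow]
      exact Subgroup.npow_mem_zpowers _ _
    | sr i => exact absurd hxK (hKsr i)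
  obtain ⟨Q, hQe⟩ := hQ.exists_sylow_subgroupOf
  haveI hc : IsCyclic ((P : Subgroup G) ⊓ K : Subgroup G) :=
    isCyclic_of_injective (Subgroup.inclusion hle) (Subgroup.inclusion_injective hle)
  have hQc : IsCyclic (Q : Subgroup K) := by
    rw [hQe]
    exact (Subgroup.subgroupOfEquivOfLe hQ.le).isCyclic.2 hc
  have hK := hnpc_iff.1 (hnpc_two_cyclic Q hQc)
  have hR : Cfsg.pResidual 2 G ≤ K := by
    refine pResidual_le_of_isPGroup_quotient fun q => ⟨1, ?_⟩
    induction q using QuotientGroup.induction_on with | _ g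
    rw [← QuotientGroup.mk_pow, QuotientGroup.eq_one_iff, pow_one, pow_two]
    exact ⟨Subgroup.mul_self_mem_of_index_two hN2 g, Subgroup.mul_self_mem_of_index_two hN'2 g⟩
  rw [hnpc_iff]
  refine hK.coprime_dvd_left ?_
  have h1 := map_pResidual_le (p := 2) (Subgroup.inclusion hR)
  rw [pResidual_pResidual] at h1
  have h2 := Subgroup.card_dvd_of_le h1
  rwa [Subgroup.card_map_of_injective (Subgroup.inclusion_injective hR), Subgroup.card_top] at h2

/-- Let X be a finite group whose Sylow 2-subgroup S is dihedral of order 2m ≥ 4. If |S| = 4, any two Klein four-subgroups of X are conjugate; if |S| > 4, there are Klein four-subgroups U₁, U₂ of X that are not conjugate, and every Klein four-subgroup of X is conjugate to U₁ or to U₂. -/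
theorem result {X : Type*} [Group X] [Finite X] (S : Sylow 2 X) (m : ℕ) (hm : 2 ≤ m) (eS : (S : Subgroup X) ≃* DihedralGroup m) : (Nat.card S = 4 → ∀ U V : Subgroup X, IsKleinFour U → IsKleinFour V → (∃ x : X, U.map (MulAut.conj x).toMonoidHom = V)) ∧ (4 < Nat.card S → ∃ U₁ U₂ : Subgroup X, IsKleinFour U₁ ∧ IsKleinFour U₂ ∧ ¬ (∃ x : X, U₁.map (MulAut.conj x).toMonoidHom = U₂) ∧ ∀ V : Subgroup X, IsKleinFour V → (∃ x : X, V.map (MulAut.conj x).toMonoidHom = U₁) ∨ (∃ x : X, V.map (MulAut.conj x).toMonoidHom = U₂)) := by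
  haveI : Fact (Nat.Prime 2) := ⟨Nat.prime_two⟩
  haveI : NeZero m := ⟨by omega⟩
  set ι : DihedralGroup m →* X := (S : Subgroup X).subtype.comp eS.symm.toMonoidHom with hιdef
  have hι : Function.Injective ι := (S : Subgroup X).subtype_injective.comp eS.symm.injective
  have hrange : ι.range = (S : Subgroup X) := by
    rw [hιdef, MonoidHom.range_comp, MonoidHom.range_eq_top.2 eS.symm.surjective,
      ← MonoidHom.range_eq_map, Subgroup.range_subtype]
  have hcardS : Nat.card S = 2 * m := by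
    rw [Nat.card_congr eS.toEquiv, DihedralGroup.nat_card]
  have hto : ∀ V : Subgroup X, IsKleinFour V → ∃ c : X, cj V c ≤ S := fun V hV => by
    obtain ⟨c, -, hc⟩ := (sylIn_top S).conj_le
      (IsPGroup.of_card (p := 2) (n := 2) hV.card_four : IsPGroup 2 V) le_top
    exact ⟨c, hc⟩
  constructor
  · intro h4 U V hU hV
    obtain ⟨a, ha⟩ := hto U hU
    obtain ⟨b, hb⟩ := hto V hV
    have e1 : cj U a = (S : Subgroup X) :=
      Subgroup.eq_of_le_of_card_ge ha (by rw [card_cj, hU.card_four, h4])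
    have e2 : cj V b = (S : Subgroup X) :=
      Subgroup.eq_of_le_of_card_ge hb (by rw [card_cj, hV.card_four, h4])
    refine ⟨b⁻¹ * a, ?_⟩
    show cj U (b⁻¹ * a) = V
    rw [← cj_cj, e1, ← e2, cj_cj_inv]
  intro h4
  obtain ⟨k, hk⟩ := (S.isPGroup' : IsPGroup 2 (S : Subgroup X)).exists_card_eq
  rw [hcardS] at hk
  have hk3 : 3 ≤ k := by
    by_contra hlt
    have : (2 : ℕ) ^ k ≤ 2 ^ 2 := Nat.pow_le_pow_right two_pos (by omega)
    omega
  have hl : m = 4 * 2 ^ (k - 3) := by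
    have : (2 : ℕ) ^ k = 8 * 2 ^ (k - 3) := by
      rw [show (8 : ℕ) = 2 ^ 3 from rfl, ← pow_add]; congr 1; omega
    omega
  have hm4 : 4 ∣ m := ⟨_, hl⟩
  have hm2 : 2 ∣ m := (dvd_mul_right 2 2).trans hm4
  have hU : ∀ i, IsKleinFour ((four m i).map ι) := fun i => by
    haveI := four_klein hm2 i
    exact ⟨by rw [Subgroup.card_map_of_injective hι, IsKleinFour.card_four],
      by rw [← Monoid.exponent_eq_of_mulEquiv ((four m i).equivMapOfInjective ι hι), IsKleinFour.exponent_two]⟩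
  refine ⟨(four m 0).map ι, (four m 1).map ι, hU 0, hU 1, ?_, fun V hV => ?_⟩
  swap
  · obtain ⟨c, hc⟩ := hto V hV
    have hcr : cj V c ≤ ι.range := hc.trans hrange.ge
    set W := (cj V c).comap ι with hW
    have hWmap : W.map ι = cj V c := Subgroup.map_comap_eq_self hcr
    have hWc : Nat.card W = 4 := by
      rw [← Subgroup.card_map_of_injective hι, hWmap, card_cj, hV.card_four]
    have hW2 : ∀ a ∈ W, a * a = 1 := by
      intro a ha
      obtain ⟨v, hv, hve⟩ := Subgroup.mem_comap.1 ha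
      have : v * v = 1 := congrArg Subtype.val (IsKleinFour.mul_self (G := V) ⟨v, hv⟩)
      refine hι ?_
      rw [map_mul, ← hve, ← map_mul, this, map_one, map_one]
    obtain ⟨i, hi⟩ := four_exists hW2 hWc
    obtain ⟨g, hg⟩ := four_conj hm2 i
    have key : ∀ j, cj (four m i) g = four m j → cj V (ι g * c) = (four m j).map ι := by
      intro j hj
      rw [← cj_cj, ← hWmap, hi, ← hj, cj, cj, Subgroup.map_map, Subgroup.map_map]
      congr 1
      ext d
      simp
    rcases hg with hg | hg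
    · exact Or.inl ⟨_, key 0 hg⟩
    · exact Or.inr ⟨_, key 1 hg⟩
  rintro ⟨x, hx⟩
  have hx' : ∀ {u}, u ∈ (four m 0).map ι → x * u * x⁻¹ ∈ (four m 1).map ι := fun hu => by
    rw [← hx]; exact Subgroup.mem_map_of_mem _ hu
  set zD : DihedralGroup m := DihedralGroup.r ((m / 2 : ℕ) : ZMod m) with hzD
  set w : DihedralGroup m := DihedralGroup.r ((2 ^ (k - 3) : ℕ) : ZMod m) with hw
  have hzi : ∀ i, ι zD ∈ (four m i).map ι := fun i =>
    Subgroup.mem_map_of_mem _ ((mem_four hm2 i _).2 (Or.inr (Or.inl rfl)))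
  have hwz : ι w * ι zD * (ι w)⁻¹ = ι zD := by
    rw [← map_inv, ← map_mul, ← map_mul, hw, hzD, DihedralGroup.inv_r, DihedralGroup.r_mul_r,
      DihedralGroup.r_mul_r, add_neg_cancel_comm]
  have hz1 : ι zD ≠ 1 := by
    rw [← map_one ι]
    intro h
    exact half_ne_zero hm2 (DihedralGroup.r.inj (hι h))
  -- adjust the conjugating element to fix the central involution
  obtain ⟨y, hy, hyz⟩ : ∃ y : X, cj ((four m 0).map ι) y = (four m 1).map ι ∧
      y * ι zD * y⁻¹ = ι zD := by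
    by_cases hb : x * ι zD * x⁻¹ = ι zD
    · exact ⟨x, hx, hb⟩
    set b := x * ι zD * x⁻¹ with hbdef
    obtain ⟨b', hb'm, hb'⟩ := hx' (hzi 0)
    obtain ⟨a', ha'm, ha'⟩ : ∃ a' ∈ four m 0, ι a' = x⁻¹ * ι zD * x := by
      have h1 : ι zD ∈ cj ((four m 0).map ι) x := by
        rw [show cj ((four m 0).map ι) x = _ from hx]; exact hzi 1
      exact mem_cj.1 h1
    have hb1 : b' ≠ 1 := fun e => hz1 (by
      rw [e, map_one] at hb'
      exact conj_eq_one_iff.1 hb'.symm)
    have ha1 : a' ≠ 1 := fun e => hz1 (by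
      rw [e, map_one] at ha'
      calc ι zD = x * (x⁻¹ * ι zD * x) * x⁻¹ := by group
        _ = 1 := by rw [← ha']; group)
    have haz : a' ≠ zD := fun e => hb (by
      rw [e] at ha'
      calc b = x * (x⁻¹ * ι zD * x) * x⁻¹ := by rw [← ha']
        _ = ι zD := by group)
    have hbz : b' ≠ zD := fun e => hb (by rw [hbdef, ← hb', e])
    obtain ⟨hne0, hin0, -⟩ := four_swap hl 0 ha'm ha'm ha1 ha1 haz haz
    set q := x * ι w * x⁻¹ with hq
    have hqb : q * b * q⁻¹ = b := by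
      calc q * b * q⁻¹ = x * (ι w * ι zD * (ι w)⁻¹) * x⁻¹ := by rw [hq, hbdef]; group
        _ = b := by rw [hwz]
    obtain ⟨v', hv'm, hv'⟩ : q * ι zD * q⁻¹ ∈ (four m 1).map ι := by
      have := hx' (Subgroup.mem_map_of_mem ι hin0)
      convert this using 1
      rw [map_mul, map_mul, map_inv, ha', hq, hw]; group
    have hqz : q * ι zD * q⁻¹ ≠ ι zD := by
      intro e
      refine hne0 (hι ?_)
      rw [map_mul, map_mul, map_inv, ha']
      calc ι w * (x⁻¹ * ι zD * x) * (ι w)⁻¹ = x⁻¹ * (q * ι zD * q⁻¹) * x := by rw [hq]; group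
        _ = _ := by rw [e]
    have hv1 : v' ≠ 1 := fun e => hz1 (by
      rw [e, map_one] at hv'
      exact conj_eq_one_iff.1 hv'.symm)
    have hvz : v' ≠ zD := fun e => hqz (by rw [← hv', e])
    have hvb : b' ≠ v' := fun e => by
      have e3 : q * ι zD * q⁻¹ = b := by rw [← hv', ← e, hb']
      refine hb ?_
      calc b = q⁻¹ * (q * b * q⁻¹) * q := by group
        _ = q⁻¹ * (q * ι zD * q⁻¹) * q := by rw [hqb, e3]
        _ = ι zD := by group
    obtain ⟨-, -, hswap⟩ := four_swap hl 1 hb'm hv'm hb1 hv1 hbz hvz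
    have e2 : q * ι zD * q⁻¹ = ι w * b * (ι w)⁻¹ := by
      rw [← hv', hswap hvb, map_mul, map_mul, map_inv, hb']
    have hwN : ∀ i, cj ((four m i).map ι) (ι w) = (four m i).map ι := by
      intro i
      refine cj_eq_of_cj_le ?_
      rintro _ ⟨_, ⟨d, hd, rfl⟩, rfl⟩
      show ι w * ι d * (ι w)⁻¹ ∈ _
      rcases (mem_four hm2 i d).1 hd with rfl | rfl | rfl | rfl
      · simp
      · rw [hwz]; exact hzi i
      all_goals
        rw [← map_inv, ← map_mul, ← map_mul]
        refine Subgroup.mem_map_of_mem ι (four_swap hl i hd hd ?_ ?_ ?_ ?_).2.1 <;>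
          (intro h; cases h)
    have hqN : cj ((four m 1).map ι) q = (four m 1).map ι := by
      conv_lhs => rw [← hx]
      show cj (cj ((four m 0).map ι) x) q = _
      rw [cj_cj, hq, inv_mul_cancel_right, ← cj_cj, hwN]
      exact hx
    refine ⟨q⁻¹ * ι w * x, ?_, ?_⟩
    · rw [← cj_cj, show cj ((four m 0).map ι) x = (four m 1).map ι from hx, ← cj_cj, hwN]
      conv_lhs => rw [← hqN]
      rw [cj_cj_inv]
    · calc q⁻¹ * ι w * x * ι zD * (q⁻¹ * ι w * x)⁻¹
          = q⁻¹ * (ι w * b * (ι w)⁻¹) * q := by rw [hbdef]; group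
        _ = ι zD := by rw [← e2]; group
  -- work in the centralizer of the involution
  set C := Subgroup.centralizer ({ι zD} : Set X) with hCdef
  have hzc : ∀ d, zD * d = d * zD := by
    intro d
    have hh : ((m / 2 : ℕ) : ZMod m) + ((m / 2 : ℕ) : ZMod m) = 0 := by
      rw [← Nat.cast_add, show m / 2 + m / 2 = m by omega, ZMod.natCast_self]
    cases d with
    | r i => rw [hzD, DihedralGroup.r_mul_r, DihedralGroup.r_mul_r, add_comm]
    | sr i => rw [hzD, DihedralGroup.r_mul_sr, DihedralGroup.sr_mul_r]; congr 1; linear_combination -hh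
  have hιC : ∀ d, ι d ∈ C := fun d => Subgroup.mem_centralizer_singleton_iff.2 (by
    rw [← map_mul, ← map_mul, hzc])
  have hyC : y ∈ C := Subgroup.mem_centralizer_singleton_iff.2 (mul_inv_eq_iff_eq_mul.1 hyz)
  have hSC : (S : Subgroup X) ≤ C := hrange ▸ (by rintro _ ⟨d, rfl⟩; exact hιC d)
  set ι' : DihedralGroup m →* C := ι.codRestrict C hιC with hι'
  have hrange' : ι'.range = ((S.subtype hSC : Sylow 2 C) : Subgroup C) := by
    rw [Sylow.coe_subtype, hι']
    ext c
    rw [Subgroup.mem_subgroupOf, ← hrange]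
    exact ⟨fun ⟨d, h⟩ => ⟨d, congrArg Subtype.val h⟩, fun ⟨d, h⟩ => ⟨d, Subtype.ext h⟩⟩
  have hnpc : Cfsg.HasNormalPComplement 2 C :=
    hnpc_of_central (S.subtype hSC) hm4 ι' (fun a b e => by have h := congrArg Subtype.val e; exact hι h) hrange'
      (fun g => Subtype.ext (by
        show (g : X) * ι zD * (g : X)⁻¹ = ι zD
        rw [Subgroup.mem_centralizer_singleton_iff.1 g.2, mul_inv_cancel_right]))
  set O := Cfsg.pResidual 2 C with hO
  have hyC' : (⟨y, hyC⟩ : C) ∈ O ⊔ ((S.subtype hSC : Sylow 2 C) : Subgroup C) := by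
    rw [hO, pResidual_sup_sylow]; trivial
  rw [← hrange'] at hyC'
  obtain ⟨o, ho, _, ⟨σ, rfl⟩, he⟩ := Subgroup.mem_sup_of_normal_left.1 hyC'
  have hu : ι' (DihedralGroup.sr 0) = ⟨ι (DihedralGroup.sr 0), hιC _⟩ := rfl
  obtain ⟨d, hd, hde⟩ : y * ι (DihedralGroup.sr 0) * y⁻¹ ∈ (four m 1).map ι := by
    rw [← hy]
    exact conj_mem_cj (Subgroup.mem_map_of_mem _ ((mem_four hm2 0 _).2 (Or.inr (Or.inr (Or.inl rfl)))))
  set a := σ * DihedralGroup.sr 0 * σ⁻¹ with ha
  refine four_not_conj hm4 σ ?_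
  rw [← ha]
  have hdiff : ι' d * (ι' a)⁻¹ ∈ O := by
    have e : ι' d = o * ι' a * o⁻¹ := by
      have e1 : ι' d = (⟨y, hyC⟩ : C) * ι' (DihedralGroup.sr 0) * (⟨y, hyC⟩ : C)⁻¹ := Subtype.ext hde
      rw [e1, ← he, ha, map_mul, map_mul, map_inv]; group
    rw [e, show o * ι' a * o⁻¹ * (ι' a)⁻¹ = o * (ι' a * o⁻¹ * (ι' a)⁻¹) by group]
    exact O.mul_mem ho ((inferInstance : O.Normal).conj_mem _ (O.inv_mem ho) _)
  have hbot : O ⊓ ((S.subtype hSC : Sylow 2 C) : Subgroup C) = ⊥ :=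
    coprime_inf_pGroup (hnpc_iff.1 hnpc) (S.subtype hSC).isPGroup'
  have h1 : ι' d * (ι' a)⁻¹ ∈ O ⊓ ((S.subtype hSC : Sylow 2 C) : Subgroup C) :=
    ⟨hdiff, hrange' ▸ ι'.range.mul_mem ⟨d, rfl⟩ (ι'.range.inv_mem ⟨a, rfl⟩)⟩
  rw [hbot, Subgroup.mem_bot, mul_inv_eq_one] at h1
  have h2 := congrArg Subtype.val h1
  exact (hι h2) ▸ hd

end Cfsg.Agent.S1256
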