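import Cfsg.Statements.S1258
import Cfsg.Agent.Lib.Solv.Component

set_option autoImplicit false
open Cfsg
open Cfsg.Agent.Solv
open scoped commutatorElement

namespace Cfsg.Agent.S1258

/-- If the central quotient of a finite group X is non-abelian simple, then X = X' Z(X) and the commutator subgroup X' is quasisimple. -/
theorem result {X : Type*} [Group X] [Finite X] (hs : IsSimpleGroup (X ⧸ Subgroup.center X)) (hna : ¬ IsMulCommutative (X ⧸ Subgroup.center X)) : commutator X ⊔ Subgroup.center X = ⊤ ∧ Cfsg.IsQuasisimple ↥(commutator X) := by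
  haveI := hs
  let φ : ↥(commutator X) →* X ⧸ Subgroup.center X :=
    (QuotientGroup.mk' _).comp (commutator X).subtype
  have hxy : ∀ N : Subgroup X, N.Normal →
      N ≤ Subgroup.center X ∨ N ⊔ Subgroup.center X = ⊤ := by
    intro N hN
    rcases (hN.map (QuotientGroup.mk' (Subgroup.center X)) (QuotientGroup.mk'_surjective _)).eq_bot_or_eq_top
      with h | h
    · rw [Subgroup.map_eq_bot_iff, QuotientGroup.ker_mk'] at h
      exact Or.inl h
    · refine Or.inr ?_
      rw [← QuotientGroup.ker_mk' (Subgroup.center X), ← Subgroup.comap_map_eq, h, Subgroup.comap_top]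
  have htop : commutator X ⊔ Subgroup.center X = ⊤ := by
    refine (hxy _ inferInstance).resolve_left fun h => hna ⟨⟨fun a b => ?_⟩⟩
    induction a using QuotientGroup.induction_on with | H a => ?_
    induction b using QuotientGroup.induction_on with | H b => ?_
    refine commutatorElement_eq_one_iff_mul_comm.1 ?_
    change ((⁅a, b⁆ : X) : X ⧸ Subgroup.center X) = 1
    exact (QuotientGroup.eq_one_iff _).2 (h (commutator_def X ▸
      Subgroup.commutator_mem_commutator (Subgroup.mem_top a) (Subgroup.mem_top b)))
  have hperf : ⁅commutator X, commutator X⁆ = commutator X := by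
    refine le_antisymm (Subgroup.commutator_le_self _) ?_
    conv_lhs => rw [commutator_def, ← htop]
    rw [Subgroup.commutator_le]
    intro a ha b hb
    obtain ⟨y, hy, u, hu, rfl⟩ := Subgroup.mem_sup_of_normal_right.1 ha
    obtain ⟨y', hy', v, hv, rfl⟩ := Subgroup.mem_sup_of_normal_right.1 hb
    have e : ⁅y * u, y' * v⁆ = ⁅y, y'⁆ := by
      rw [commutatorElement_def, commutatorElement_def]
      calc y * u * (y' * v) * (y * u)⁻¹ * (y' * v)⁻¹
          = y * ((u * (y' * v)) * u⁻¹) * y⁻¹ * (y' * v)⁻¹ := by group
        _ = y * y' * (v * y⁻¹) * v⁻¹ * y'⁻¹ := by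
            rw [← Subgroup.mem_center_iff.1 hu, mul_inv_cancel_right]; group
        _ = y * y' * y⁻¹ * y'⁻¹ := by rw [← Subgroup.mem_center_iff.1 hv]; group
    exact e ▸ Subgroup.commutator_mem_commutator hy hy'
  have hφ : Function.Surjective φ := by
    rw [← MonoidHom.range_eq_top, MonoidHom.range_comp, Subgroup.range_subtype,
      ← Subgroup.map_top_of_surjective (QuotientGroup.mk' (Subgroup.center X)) (QuotientGroup.mk'_surjective _),
      ← htop, Subgroup.map_sup, (Subgroup.map_eq_bot_iff _).2 (QuotientGroup.ker_mk' (Subgroup.center X)).ge,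
      sup_bot_eq]
  have hker : φ.ker = Subgroup.center ↥(commutator X) := by
    refine le_antisymm (fun x hx => Subgroup.mem_center_iff.2 fun y => Subtype.ext ?_) ?_
    · exact Subgroup.mem_center_iff.1 ((QuotientGroup.eq_one_iff (x : X)).1 hx) y
    · intro x hx
      haveI : ((Subgroup.center ↥(commutator X)).map (commutator X).subtype).Normal :=
        map_subtype_normal_of_characteristic _ _
      rcases hxy ((Subgroup.center ↥(commutator X)).map (commutator X).subtype) inferInstance with h | h
      · exact (QuotientGroup.eq_one_iff (x : X)).2 (h ⟨x, hx, rfl⟩)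
      · exfalso
        refine hna ⟨⟨fun a b => ?_⟩⟩
        obtain ⟨a, rfl⟩ := QuotientGroup.mk'_surjective (Subgroup.center X) a
        obtain ⟨b, rfl⟩ := QuotientGroup.mk'_surjective (Subgroup.center X) b
        obtain ⟨_, ⟨y, hy, rfl⟩, u, hu, rfl⟩ := Subgroup.mem_sup_of_normal_right.1 (h.symm ▸ Subgroup.mem_top a :
          a ∈ (Subgroup.center ↥(commutator X)).map (commutator X).subtype ⊔ Subgroup.center X)
        obtain ⟨_, ⟨y', hy', rfl⟩, v, hv, rfl⟩ := Subgroup.mem_sup_of_normal_right.1 (h.symm ▸ Subgroup.mem_top b :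
          b ∈ (Subgroup.center ↥(commutator X)).map (commutator X).subtype ⊔ Subgroup.center X)
        have hu1 : QuotientGroup.mk' (Subgroup.center X) u = 1 := (QuotientGroup.eq_one_iff u).2 hu
        have hv1 : QuotientGroup.mk' (Subgroup.center X) v = 1 := (QuotientGroup.eq_one_iff v).2 hv
        simp only [map_mul, hu1, hv1, mul_one]
        exact (Commute.map (Commute.map (Subgroup.mem_center_iff.1 hy y' : y' * y = y * y') (commutator X).subtype)
          (QuotientGroup.mk' (Subgroup.center X))).eq.symm
  refine ⟨htop, Subgroup.isPerfect_iff.2 hperf, ?_⟩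
  exact ((QuotientGroup.quotientMulEquivOfEq hker.symm).trans
    (QuotientGroup.quotientKerEquivOfSurjective φ hφ)).isSimpleGroup

end Cfsg.Agent.S1258
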