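import Cfsg.Statements.S1262
import Cfsg.Agent.Lib.Solv.Component

set_option autoImplicit false
open Cfsg
open Cfsg.Agent.Solv
open scoped commutatorElement

namespace Cfsg.Agent.S1262

/-- Let L be a component of the finite group G and H a solvable subgroup normalized by L. Then ⁅L, H⁆ = 1. -/
theorem result {G : Type*} [Group G] [Finite G] (L H : Subgroup G) (hL : Cfsg.IsComponent L) (hsolv : Group.IsSolvable ↥H) (hinv : L ≤ Subgroup.normalizer (H : Set G)) : ⁅L, H⁆ = ⊥ := by
  have hn : (H.subgroupOf (L ⊔ H)).Normal :=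
    (Subgroup.normal_subgroupOf_iff_le_normalizer le_sup_right).2 (sup_le hinv Subgroup.le_normalizer)
  haveI := hsolv
  have h := component_commutes_solvable (component_subgroupOf hL (le_sup_left : L ≤ L ⊔ H))
    hn.isSubnormal (Group.isSolvable_of_isSolvable_injective
      (f := (Subgroup.subgroupOfEquivOfLe (le_sup_right : H ≤ L ⊔ H)).toMonoidHom)
      (Subgroup.subgroupOfEquivOfLe _).injective)
  have h2 := congrArg (Subgroup.map (L ⊔ H).subtype) h
  rwa [Subgroup.map_commutator, Subgroup.map_subgroupOf_eq_of_le le_sup_left,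
    Subgroup.map_subgroupOf_eq_of_le le_sup_right, Subgroup.map_bot] at h2

end Cfsg.Agent.S1262
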