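import Cfsg.Statements.S1263
import Cfsg.Agent.Lib.Solv.Component

set_option autoImplicit false
open Cfsg Cfsg.Agent
open scoped commutatorElement

namespace Cfsg.Agent.S1263

theorem central_in_sup {G : Type*} [Group G] [Finite G] (s : Set (Subgroup G))
    (hcomm : ∀ K ∈ s, ∀ L ∈ s, K ≠ L → ⁅K, L⁆ = ⊥)
    {z : G} (hz : z ∈ sSup s) (hzc : ∀ K ∈ s, ∀ x ∈ K, x * z = z * x) :
    z ∈ ⨆ K ∈ s, (Subgroup.center ↥K).map K.subtype := by
  classical
  induction hn : s.ncard using Nat.strong_induction_on generalizing s z with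
  | _ n ih =>
    rcases s.eq_empty_or_nonempty with rfl | ⟨K, hKs⟩
    · rw [sSup_empty, Subgroup.mem_bot] at hz
      rw [hz]; exact one_mem _
    obtain ⟨t, ht⟩ : ∃ t, t = s \ {K} := ⟨_, rfl⟩
    have hst : sSup s = K ⊔ sSup t := by
      rw [ht, ← sSup_insert, Set.insert_sdiff_singleton, Set.insert_eq_of_mem hKs]
    have hts : t ⊆ s := ht ▸ Set.sdiff_subset
    have hKc : sSup t ≤ Subgroup.centralizer (K : Set G) := sSup_le fun L hL => by
      rw [← Subgroup.commutator_eq_bot_iff_le_centralizer]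
      exact hcomm L (hts hL) K hKs (by rw [ht] at hL; exact hL.2)
    rw [hst, ← SetLike.mem_coe, Subgroup.coe_mul_of_right_le_normalizer_left K (sSup t)
      (hKc.trans (Subgroup.centralizer_le_normalizer _))] at hz
    obtain ⟨k, hk, w, hw, rfl⟩ := hz
    have hkc : (⟨k, hk⟩ : K) ∈ Subgroup.center K := by
      refine Subgroup.mem_center_iff.2 fun x => Subtype.ext ?_
      have h1 : (x : G) * (k * w) = k * w * x := hzc K hKs x x.2
      rw [mul_assoc k, ← Subgroup.mem_centralizer_iff.1 (hKc hw) x x.2, ← mul_assoc,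
        ← mul_assoc] at h1
      exact mul_right_cancel h1
    refine mul_mem (Subgroup.mem_iSup_of_mem K (Subgroup.mem_iSup_of_mem hKs (Subgroup.mem_map_of_mem _ hkc))) ?_
    refine (iSup₂_le fun L hL => le_iSup₂_of_le L (hts hL) le_rfl :
      (⨆ L ∈ t, (Subgroup.center ↥L).map L.subtype) ≤ _)
      (ih t.ncard (hn ▸ ht ▸ Set.ncard_sdiff_singleton_lt_of_mem hKs) t
      (fun A hA B hB => hcomm A (hts hA) B (hts hB)) hw (fun A hA x hx => ?_) rfl)
    have h1 := hzc A (hts hA) x hx
    have hAK : A ≠ K := by rw [ht] at hA; exact hA.2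
    have h2 : k * x = x * k :=
      (Subgroup.mem_centralizer_iff.1 (hKc ((le_sSup hA : A ≤ sSup t) hx)) k hk)
    rw [← mul_assoc x k, ← h2, mul_assoc k x, mul_assoc k w] at h1
    exact mul_left_cancel h1

/-- For a finite group G, Z(E(G)) is the subgroup generated by the centres Z(L) of the components L of G (all viewed as subgroups of G). -/
theorem result {G : Type*} [Group G] [Finite G] : (Subgroup.center ↥(Cfsg.layer G)).map (Cfsg.layer G).subtype = ⨆ L : {K : Subgroup G // Cfsg.IsComponent K}, (Subgroup.center ↥(L : Subgroup G)).map (L : Subgroup G).subtype := by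
  refine le_antisymm ?_ (iSup_le fun L => ?_)
  · rintro _ ⟨⟨z, hz⟩, hzc, rfl⟩
    have h := central_in_sup {K : Subgroup G | Cfsg.IsComponent K}
      (fun K hK L hL hne => Solv.components_commute hK hL hne) hz
      (fun K hK x hx => congrArg Subtype.val
        (Subgroup.mem_center_iff.1 hzc ⟨x, Solv.component_le_layer hK hx⟩))
    exact (iSup₂_le fun K hK => le_iSup_of_le ⟨K, hK⟩ le_rfl :
      (⨆ K ∈ {K : Subgroup G | Cfsg.IsComponent K}, (Subgroup.center ↥K).map K.subtype) ≤ _) h
  · rintro _ ⟨⟨z, hz⟩, hzc, rfl⟩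
    refine ⟨⟨z, Solv.component_le_layer L.2 hz⟩, Subgroup.mem_center_iff.2 fun y => Subtype.ext ?_, rfl⟩
    suffices h : Cfsg.layer G ≤ Subgroup.centralizer {z} from Subgroup.mem_centralizer_singleton_iff.1 (h y.2)
    refine sSup_le fun K hK x hx => Subgroup.mem_centralizer_singleton_iff.2 ?_
    rcases eq_or_ne K L with rfl | hne
    · exact congrArg Subtype.val (Subgroup.mem_center_iff.1 hzc ⟨x, hx⟩)
    · exact (Subgroup.mem_centralizer_iff.1
        (Subgroup.commutator_eq_bot_iff_le_centralizer.1 (Solv.components_commute hK L.2 hne) hx) z hz).symm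

end Cfsg.Agent.S1263
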