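import Cfsg.Statements.S1264
import Cfsg.Agent.Lib.Solv.Component
import Cfsg.Agent.Lib.Fusion.Cores

set_option autoImplicit false
open Cfsg Cfsg.Agent
open Cfsg.Agent.Fusion
open scoped commutatorElement

namespace Cfsg.Agent.S1264

/-- Let G be finite, C = C_G(F(G)) the centralizer of the Fitting subgroup, and N a solvable subgroup of C normalized by C. Then N ≤ Z(F(G)). -/
theorem result {G : Type*} [Group G] [Finite G] (N : Subgroup G) (hN : N ≤ Subgroup.centralizer (Cfsg.fittingSubgroup G : Set G)) (hnorm : Subgroup.centralizer (Cfsg.fittingSubgroup G : Set G) ≤ Subgroup.normalizer (N : Set G)) (hsolv : Group.IsSolvable ↥N) : N ≤ (Subgroup.center ↥(Cfsg.fittingSubgroup G)).map (Cfsg.fittingSubgroup G).subtype := by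
  obtain ⟨C, hC⟩ : ∃ C, C = Subgroup.centralizer (Cfsg.fittingSubgroup G : Set G) := ⟨_, rfl⟩
  rw [← hC] at hN hnorm
  haveI := Solv.fittingSubgroup_normal (G := G)
  haveI hCn : C.Normal := hC ▸ Subgroup.normal_centralizer
  suffices h : ∀ M : Subgroup G, M ≤ C → C ≤ Subgroup.normalizer (M : Set G) → Group.IsSolvable ↥M →
      M ≤ Cfsg.fittingSubgroup G by
    intro x hx
    refine ⟨⟨x, h N hN hnorm hsolv hx⟩, Subgroup.mem_center_iff.2 fun y => Subtype.ext ?_, rfl⟩
    exact Subgroup.mem_centralizer_iff.1 (hC ▸ hN hx : x ∈ Subgroup.centralizer (Cfsg.fittingSubgroup G : Set G)) y y.2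
  intro M
  induction hn : Nat.card M using Nat.strong_induction_on generalizing M with
  | _ n ih =>
    intro hMC hMn hs
    haveI := hs
    rcases eq_or_ne M ⊥ with rfl | hne
    · exact bot_le
    haveI : Nontrivial M := (Subgroup.nontrivial_iff_ne_bot M).2 hne
    have hlt : commutator M < ⊤ := Group.IsSolvable.commutator_lt_top_of_nontrivial M
    have hM' : ⁅M, M⁆ ≤ Cfsg.fittingSubgroup G := by
      refine ih _ ?_ _ rfl ((Subgroup.commutator_le_self M).trans hMC) (fun c hc => ?_) ?_
      · rw [← hn]
        refine lt_of_le_of_ne (Subgroup.card_le_of_le (Subgroup.commutator_le_self M)) fun he => hlt.ne ?_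
        have e := Subgroup.eq_of_le_of_card_ge (Subgroup.commutator_le_self M) he.ge
        refine Subgroup.map_injective M.subtype_injective ?_
        rw [Subgroup.map_subtype_commutator, e, ← MonoidHom.range_eq_map, Subgroup.range_subtype]
      · exact mem_normalizer_of_cj_le (by rw [cj_commutator, cj_eq_self (hMn hc)])
      · exact Group.isSolvable_of_isSolvable_injective (f := Subgroup.inclusion (Subgroup.commutator_le_self M))
          (Subgroup.inclusion_injective _)
    have hMsn : M.IsSubnormal := Subgroup.IsSubnormal.step _ C hMC hCn.isSubnormal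
      ((Subgroup.normal_subgroupOf_iff_le_normalizer hMC).2 hMn)
    refine Solv.subnormal_nilpotent_le_fitting hMsn ((Group.isNilpotent_iff _).2 ⟨2, ?_⟩)
    rw [eq_top_iff]
    intro x _
    rw [show (2 : ℕ) = 1 + 1 from rfl, Subgroup.mem_upperCentralSeries_succ_iff]
    intro y
    rw [Subgroup.upperCentralSeries_one]
    refine Subgroup.mem_center_iff.2 fun z => Subtype.ext ?_
    exact (Subgroup.mem_centralizer_iff.1 (hC ▸ hMC z.2 : (z : G) ∈ Subgroup.centralizer (Cfsg.fittingSubgroup G : Set G)) _
      (hM' (Subgroup.commutator_mem_commutator x.2 y.2))).symm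

end Cfsg.Agent.S1264
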