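import Cfsg.Statements.S1266
import Cfsg.Agent.Lib.Fusion.LocalLayer
import Cfsg.Agent.Lib.Fusion.Cores

set_option autoImplicit false
open Cfsg Cfsg.Agent
open Cfsg.Agent.Fusion
open scoped commutatorElement

namespace Cfsg.Agent.S1266

/-- Let P be a p-subgroup of the finite group G and N = N_G(P). Then the preimage in N of E(N / O_{p'}(N)) centralizes O_p(G). -/
theorem result {G : Type*} [Group G] [Finite G] (p : ℕ) [Fact p.Prime] (P : Subgroup G) (hP : IsPGroup p ↥P) : (((Cfsg.layer (↥(Subgroup.normalizer ((P : Subgroup G) : Set G)) ⧸ Cfsg.pPrimeCore p ↥(Subgroup.normalizer ((P : Subgroup G) : Set G)))).comap (QuotientGroup.mk' (Cfsg.pPrimeCore p ↥(Subgroup.normalizer ((P : Subgroup G) : Set G))))).map (Subgroup.normalizer ((P : Subgroup G) : Set G)).subtype) ≤ Subgroup.centralizer (Cfsg.pCore p G : Set G) := by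
  obtain ⟨N, hN⟩ : ∃ N, N = Subgroup.normalizer (P : Set G) := ⟨_, rfl⟩
  rw [← hN]
  have hPN : P ≤ N := hN ▸ Subgroup.le_normalizer
  obtain ⟨Q, hQ⟩ : ∃ Q, Q = Cfsg.pCore p G := ⟨_, rfl⟩
  rw [← hQ]
  haveI hQn : Q.Normal := hQ ▸ inferInstance
  have hQp : IsPGroup p Q := hQ ▸ isPGroup_pCore p G
  set π := QuotientGroup.mk' (Cfsg.pPrimeCore p ↥N) with hπ
  obtain ⟨E, hE⟩ : ∃ E, E = Cfsg.layer (↥N ⧸ Cfsg.pPrimeCore p ↥N) := ⟨_, rfl⟩
  rw [← hE]
  -- normal p-subgroups of `N` are centralised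
  have hS : ∀ S : Subgroup G, IsPGroup p S → S ≤ N → N ≤ Subgroup.normalizer (S : Set G) →
      ∀ x ∈ E.comap π, ∀ s ∈ S, (x : G) * s = s * x := by
    intro S hS hSN hnS x hx s hs
    have hSp : IsPGroup p ↥(S.subgroupOf N) := hS.comap_subtype
    haveI hn1 : (S.subgroupOf N).Normal := (Subgroup.normal_subgroupOf_iff_le_normalizer hSN).2 hnS
    haveI hn2 : ((S.subgroupOf N).map π).Normal := Subgroup.Normal.map hn1 π (QuotientGroup.mk'_surjective _)
    have h1 : (S.subgroupOf N).map π ≤ Cfsg.fittingSubgroup (↥N ⧸ Cfsg.pPrimeCore p ↥N) :=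
      (le_pCore (hSp.map π)).trans (Solv.pCore_le_fitting p)
    have hxE : π x ∈ Cfsg.layer (↥N ⧸ Cfsg.pPrimeCore p ↥N) := hE ▸ Subgroup.mem_comap.1 hx
    have hc : ⁅π x, π ⟨s, hSN hs⟩⁆ = 1 := Subgroup.mem_bot.1 (Solv.layer_commutator_fitting (G := ↥N ⧸ Cfsg.pPrimeCore p ↥N) ▸
      Subgroup.commutator_mem_commutator hxE (h1 (Subgroup.mem_map_of_mem π (show (⟨s, hSN hs⟩ : ↥N) ∈ S.subgroupOf N from hs))))
    rw [← map_commutatorElement] at hc
    have hm : ⁅x, ⟨s, hSN hs⟩⁆ ∈ Cfsg.pPrimeCore p ↥N ⊓ S.subgroupOf N := by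
      refine Subgroup.mem_inf.2 ⟨(QuotientGroup.eq_one_iff _).1 hc, ?_⟩
      rw [commutatorElement_def]
      exact mul_mem (hn1.conj_mem _ hs x) (inv_mem hs)
    rw [coprime_inf_pGroup (card_pPrimeCore_coprime p ↥N) hSp, Subgroup.mem_bot,
      commutatorElement_eq_one_iff_mul_comm] at hm
    exact congrArg Subtype.val hm
  have hcoprime : ∀ x ∈ E.comap π, (orderOf x).Coprime p → (x : G) ∈ Subgroup.centralizer (Q : Set G) := by
    intro x hx hxp
    refine mem_centralizer_of_AB hQp hP (by rw [Subgroup.normalizer_eq_top]; exact le_top)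
      (by rw [Subgroup.normalizer_eq_top]; exact Subgroup.mem_top _)
      (fun t ht => hS P hP hPN (by rw [hN]) x hx t ht) (by rwa [Subgroup.orderOf_coe]) fun q hq hqT => ?_
    refine hS (Q ⊓ N) (hQp.to_inf_left) inf_le_right
      (fun g hg => mem_normalizer_of_cj_le (by rw [cj_inf, cj_of_normal, cj_eq_self_of_mem hg])) x hx q ?_
    exact Subgroup.mem_inf.2 ⟨hq, hN ▸ Subgroup.centralizer_le_normalizer _
      (Subgroup.mem_centralizer_iff.2 fun t ht => (hqT t ht).symm)⟩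
  obtain ⟨W, hW⟩ : ∃ W, W = (Subgroup.centralizer (Q : Set G)).subgroupOf N := ⟨_, rfl⟩
  have hEW : E ≤ W.map π := by
    refine le_of_pPrime_elements (p := p) (L := E) ?_ fun y hy hyp => ?_
    · rw [hE, Subgroup.isPerfect_iff]; exact Solv.layer_perfect
    obtain ⟨x, rfl⟩ := QuotientGroup.mk'_surjective _ y
    obtain ⟨m, hm⟩ := exists_pow_eq_self_of_coprime
      (show (p ^ (orderOf x).factorization p).Coprime (orderOf (π x)) from Nat.Coprime.pow_left _ hyp.symm)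
    rw [← hm]
    refine pow_mem ?_ m
    rw [← map_pow]
    refine Subgroup.mem_map_of_mem π ?_
    rw [hW, Subgroup.mem_subgroupOf]
    refine hcoprime _ (Subgroup.pow_mem _ (Subgroup.mem_comap.2 hy) _) ?_
    rw [orderOf_pow' _ (pow_ne_zero _ (Fact.out : p.Prime).ne_zero),
      Nat.gcd_eq_right (Nat.ordProj_dvd _ _), Nat.coprime_comm]
    exact Nat.coprime_ordCompl (Fact.out : p.Prime) (orderOf_pos x).ne'
  have hker : Cfsg.pPrimeCore p ↥N ≤ W := by
    intro x hx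
    rw [hW, Subgroup.mem_subgroupOf]
    refine hcoprime x ?_ ((card_pPrimeCore_coprime p ↥N).coprime_dvd_left ?_)
    · rw [Subgroup.mem_comap, show π x = 1 from (QuotientGroup.eq_one_iff x).2 hx]
      exact one_mem _
    · rw [← Subgroup.orderOf_mk x hx]; exact orderOf_dvd_natCard _
  rintro _ ⟨x, hx, rfl⟩
  obtain ⟨w, hw, he⟩ := hEW (Subgroup.mem_comap.1 hx)
  have h1 : x ∈ W := by
    have h2 : w⁻¹ * x ∈ Cfsg.pPrimeCore p ↥N := (QuotientGroup.eq_one_iff _).1 (by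
      show π (w⁻¹ * x) = 1
      rw [map_mul, map_inv, he, inv_mul_cancel])
    have := mul_mem hw (hker h2)
    rwa [mul_inv_cancel_left] at this
  rw [hW] at h1
  exact h1

end Cfsg.Agent.S1266
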