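import Cfsg.Statements.S1270
import Cfsg.Agent.Lib.Fusion.CoreComponents

set_option autoImplicit false
open Cfsg
open Cfsg.Agent.Fusion
open scoped commutatorElement

namespace Cfsg.Agent.S1270

/-- Let G be finite with O_{p'}(G) = 1, x of order p, and L a component with ⁅L, ⟨x⟩⁆ ≠ L. Then ⁅L, O_{p'}(C_G(x))⁆ = 1. -/
theorem result {G : Type*} [Group G] [Finite G] (p : ℕ) [Fact p.Prime] (hO : Cfsg.pPrimeCore p G = ⊥) (x : G) (hx : orderOf x = p) (L : Subgroup G) (hL : Cfsg.IsComponent L) (hne : ⁅L, Subgroup.zpowers x⁆ ≠ L) : ⁅L, Cfsg.centralizerPPrimeCore p x⁆ = ⊥ := by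
  have hxp : x ^ p = 1 := hx ▸ pow_orderOf_eq_one x
  rw [Subgroup.commutator_eq_bot_iff_le_centralizer, Subgroup.le_centralizer_iff]
  by_cases hn : x ∈ Subgroup.normalizer (L : Set G)
  · have hxn : Subgroup.zpowers x ≤ Subgroup.normalizer (L : Set G) := Subgroup.zpowers_le.2 hn
    have hle : ⁅L, Subgroup.zpowers x⁆ ≤ L := by
      rw [Subgroup.commutator_le]
      intro l hl z hz
      rw [commutatorElement_def, mul_assoc, mul_assoc]
      refine mul_mem hl ?_
      rw [← mul_assoc]
      exact (Subgroup.mem_normalizer_iff.1 (hxn hz) _).1 (inv_mem hl)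
    haveI : (⁅L, Subgroup.zpowers x⁆.subgroupOf L).Normal :=
      (Subgroup.normal_subgroupOf_iff_le_normalizer hle).2 fun l hl =>
        Cfsg.Agent.Fusion.mem_normalizer_of_cj_le (by
          rw [Cfsg.Agent.Fusion.cj, Subgroup.map_le_iff_le_comap, Subgroup.commutator_le]
          intro b hb z hz
          show l * ⁅b, z⁆ * l⁻¹ ∈ ⁅L, Subgroup.zpowers x⁆
          rw [show l * ⁅b, z⁆ * l⁻¹ = ⁅l * b, z⁆ * ⁅l, z⁆⁻¹ by
            rw [commutatorElement_def, commutatorElement_def, commutatorElement_def]; group]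
          exact mul_mem (Subgroup.commutator_mem_commutator (mul_mem hl hb) hz)
            (inv_mem (Subgroup.commutator_mem_commutator hl hz)))
    rcases Cfsg.Agent.Solv.qs_normal_le_center_or_top hL.2 (⁅L, Subgroup.zpowers x⁆.subgroupOf L) with h | h
    · exact absurd (le_antisymm hle (Subgroup.subgroupOf_eq_top.1 h)) hne
    · have hc : Subgroup.zpowers x ≤ Subgroup.centralizer (L : Set G) := by
        refine Cfsg.Agent.BpBal.centralizes_of_mod (Cfsg.Agent.Solv.qs_self_commutator hL.2) fun z hz =>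
          Subgroup.mem_centralizer_iff.2 fun l hl => ?_
        rw [Subgroup.commutator_comm] at hz
        have hzc := h (show (⟨z, hle hz⟩ : L) ∈ ⁅L, Subgroup.zpowers x⁆.subgroupOf L from hz)
        exact congrArg Subtype.val (Subgroup.mem_center_iff.1 hzc ⟨l, hl⟩)
      exact Cfsg.Agent.LocBal.component_centralized hO hL
        (fun l hl => Subgroup.mem_centralizer_singleton_iff.2
          (Subgroup.mem_centralizer_iff.1 (hc (Subgroup.mem_zpowers x)) l hl))
        (Cfsg.Agent.LocBal.core_le_centralizer x) (Cfsg.Agent.LocBal.centralizer_le_normalizer_core x)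
        (Cfsg.Agent.LocBal.core_coprime x)
  · exact Cfsg.Agent.LocBal.moved_component_centralized hO hxp hL hn

end Cfsg.Agent.S1270
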