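import Cfsg.Statements.S1276
import Cfsg.Agent.Lib.Fusion.PComponent

set_option autoImplicit false
open Cfsg
open Cfsg.Agent.Fusion
open scoped commutatorElement

namespace Cfsg.Agent.S1276

/-- Let K be a 2-component of the finite group X. Then K is quasisimple if and only if ⁅K, O(K)⁆ = 1. -/
theorem result {X : Type*} [Group X] [Finite X] (K : Subgroup X) (hK : Cfsg.IsPComponent 2 K) : Cfsg.IsQuasisimple ↥K ↔ ⁅K, ((Cfsg.oddCore ↥K).map K.subtype)⁆ = ⊥ := by
  haveI : Fact (Nat.Prime 2) := ⟨Nat.prime_two⟩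
  have key : ⁅K, (Cfsg.oddCore ↥K).map K.subtype⁆ = ⊥ ↔ Cfsg.oddCore ↥K ≤ Subgroup.center ↥K := by
    rw [Subgroup.commutator_eq_bot_iff_le_centralizer]
    constructor
    · intro h x hx
      exact Subgroup.mem_center_iff.2 fun y => Subtype.ext
        (Subgroup.mem_centralizer_iff.1 (h y.2) x (Subgroup.mem_map_of_mem K.subtype hx)).symm
    · intro h y hy
      refine Subgroup.mem_centralizer_iff.2 ?_
      rintro _ ⟨x, hx, rfl⟩
      exact (congrArg Subtype.val (Subgroup.mem_center_iff.1 (h hx) ⟨y, hy⟩)).symm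
  rw [key]
  constructor
  · intro hq
    refine (Solv.qs_normal_le_center_or_top hq (Cfsg.oddCore ↥K)).resolve_left fun h => ?_
    have := card_pPrimeCore_coprime 2 ↥K
    rw [show Cfsg.pPrimeCore 2 ↥K = ⊤ from h, Subgroup.card_top, Nat.coprime_comm, Nat.prime_two.coprime_iff_not_dvd] at this
    exact this (pComponent_dvd hK)
  · intro h
    refine qs_of_central_kernel ((QuotientGroup.mk' (Cfsg.pPrimeCore 2 X)).subgroupMap K)
      ((QuotientGroup.mk' (Cfsg.pPrimeCore 2 X)).subgroupMap_surjective K) ?_ ?_ hK.2.1.2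
    · exact Subgroup.isPerfect_iff.2 (pComponent_perfect hK)
    · exact (map_pPrimeCore_pComponent hK).le.trans h

end Cfsg.Agent.S1276
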