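import Cfsg.Statements.S1277
import Cfsg.Agent.Lib.Fusion.PComponentUnique

set_option autoImplicit false
open Cfsg Cfsg.Agent
open Cfsg.Agent.Fusion
open scoped commutatorElement

namespace Cfsg.Agent.S1277

/-- For a finite group X with core O(X): the image of E(X) in X / O(X) is all of E(X / O(X)) if and only if every 2-component of X is a component, i.e. L_{2'}(X) ≤ E(X). -/
theorem result {X : Type*} [Group X] [Finite X] : (Cfsg.layer X).map (QuotientGroup.mk' (Cfsg.oddCore X)) = Cfsg.layer (X ⧸ Cfsg.oddCore X) ↔ Cfsg.pLayer 2 X ≤ Cfsg.layer X := by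
  haveI : Fact (Nat.Prime 2) := ⟨Nat.prime_two⟩
  show (Cfsg.layer X).map (QuotientGroup.mk' (Cfsg.pPrimeCore 2 X)) = Cfsg.layer (X ⧸ Cfsg.pPrimeCore 2 X) ↔ _
  set π := QuotientGroup.mk' (Cfsg.pPrimeCore 2 X) with hπ
  -- the image of a component is trivial or a component
  have himg : ∀ D : Subgroup X, Cfsg.IsComponent D → D.map π = ⊥ ∨ Cfsg.IsComponent (D.map π) := by
    intro D hD
    refine or_iff_not_imp_left.2 fun hne => ⟨map_isSubnormal_quotient hD.1, ?_⟩
    let φ : ↥D →* ↥(D.map π) := π.subgroupMap D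
    have hφ : Function.Surjective φ := π.subgroupMap_surjective D
    have hk : φ.ker ≤ Subgroup.center ↥D := by
      refine (Solv.qs_normal_le_center_or_top hD.2 φ.ker).resolve_left fun ht => hne ?_
      rw [eq_bot_iff]
      rintro _ ⟨x, hx, rfl⟩
      have hx' : (⟨x, hx⟩ : D) ∈ φ.ker := ht.symm ▸ Subgroup.mem_top _
      exact congrArg Subtype.val (MonoidHom.mem_ker.1 hx')
    haveI := hD.2.1
    haveI := hD.2.2
    let N := (Subgroup.center ↥(D.map π)).comap φ
    have hN : N = Subgroup.center ↥D := by
      refine le_antisymm ((Solv.qs_normal_le_center_or_top hD.2 N).resolve_left fun ht => ?_) ?_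
      · haveI : Group.IsPerfect ↥(D.map π) := Group.IsPerfect.ofSurjective (f := φ) hφ
        haveI : Nontrivial ↥(D.map π) := (Subgroup.nontrivial_iff_ne_bot _).2 hne
        refine Group.IsPerfect.not_isMulCommutative (G := ↥(D.map π)) ⟨⟨fun a b => ?_⟩⟩
        obtain ⟨a, rfl⟩ := hφ a
        exact (Subgroup.mem_center_iff.1 (show a ∈ N from ht.symm ▸ Subgroup.mem_top a) b).symm
      · intro x hx
        refine Subgroup.mem_center_iff.2 fun y => ?_
        obtain ⟨y, rfl⟩ := hφ y
        rw [← map_mul, ← map_mul, Subgroup.mem_center_iff.1 hx y]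
    refine ⟨Group.IsPerfect.ofSurjective (f := φ) hφ, ?_⟩
    let ψ : ↥D →* ↥(D.map π) ⧸ Subgroup.center ↥(D.map π) := (QuotientGroup.mk' _).comp φ
    have hψ : Function.Surjective ψ := (QuotientGroup.mk'_surjective _).comp hφ
    have hψk : Subgroup.center ↥D = ψ.ker := by
      rw [← hN, ← MonoidHom.comap_ker, QuotientGroup.ker_mk']
    exact ((QuotientGroup.quotientMulEquivOfEq hψk).trans
      (QuotientGroup.quotientKerEquivOfSurjective ψ hψ)).symm.isSimpleGroup
  constructor
  · intro he
    refine sSup_le fun K hK => ?_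
    by_contra hne
    have hC := hK.2.1
    have hle : K.map π ≤ (Cfsg.layer X).map π := he.ge.trans' (Solv.component_le_layer hC)
    have hcent : (Cfsg.layer X).map π ≤ Subgroup.centralizer (K.map π : Set (X ⧸ Cfsg.pPrimeCore 2 X)) := by
      refine Subgroup.map_le_iff_le_comap.2 (sSup_le fun D hD => Subgroup.map_le_iff_le_comap.1 ?_)
      rcases himg D hD with h | h
      · rw [h]; exact bot_le
      · rw [← Subgroup.commutator_eq_bot_iff_le_centralizer]
        refine Solv.components_commute h hC fun hd => hne ?_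
        exact (pComponent_le_of_map_le hK hD.1 hd.ge).trans (Solv.component_le_layer hD)
    exact Solv.qs_not_le_centralizer hC.2
      (Subgroup.commutator_eq_bot_iff_le_centralizer.2 (hle.trans hcent))
  · intro h
    refine le_antisymm (Subgroup.map_le_iff_le_comap.2 (sSup_le fun D hD => Subgroup.map_le_iff_le_comap.1 ?_)) ?_
    · rcases himg D hD with h | h
      · rw [h]; exact bot_le
      · exact Solv.component_le_layer h
    · refine sSup_le fun C hC => ?_
      obtain ⟨K, hK, rfl⟩ := exists_pComponent_map (p := 2) hC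
      exact Subgroup.map_mono ((le_sSup hK : K ≤ Cfsg.pLayer 2 X).trans h)

end Cfsg.Agent.S1277
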