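import Cfsg.Statements.S1278
import Cfsg.Agent.Lib.Fusion.PComponentUnique

set_option autoImplicit false
open Cfsg Cfsg.Agent
open Cfsg.Agent.Fusion
open scoped commutatorElement

namespace Cfsg.Agent.S1278

/-- Let K ≠ L be 2-components of the finite group X. Then ⁅K, L⁆ ≤ O(K) ⊓ O(L), and if K is quasisimple then ⁅K, L⁆ = 1. -/
theorem result {X : Type*} [Group X] [Finite X] (K L : Subgroup X) (hK : Cfsg.IsPComponent 2 K) (hL : Cfsg.IsPComponent 2 L) (hne : K ≠ L) : ⁅K, L⁆ ≤ ((Cfsg.oddCore ↥K).map K.subtype) ⊓ ((Cfsg.oddCore ↥L).map L.subtype) ∧ (Cfsg.IsQuasisimple ↥K → ⁅K, L⁆ = ⊥) := by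
  haveI : Fact (Nat.Prime 2) := ⟨Nat.prime_two⟩
  have hR := pComponents_commutator_le hK hL hne
  have hcore : ∀ (M : Subgroup X), Cfsg.IsPComponent 2 M →
      M ⊓ Cfsg.pPrimeCore 2 X ≤ (Cfsg.oddCore ↥M).map M.subtype := by
    intro M hM x hx
    obtain ⟨h1, h2⟩ := Subgroup.mem_inf.1 hx
    refine ⟨⟨x, h1⟩, ?_, rfl⟩
    show _ ∈ Cfsg.pPrimeCore 2 ↥M
    rw [← map_pPrimeCore_pComponent hM, MonoidHom.mem_ker]
    exact Subtype.ext ((QuotientGroup.eq_one_iff x).2 h2)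
  have hKL : ⁅K, L⁆ ≤ K := (Subgroup.le_normalizer_iff_commutator_le_left).1 (pComponent_normalizes hK hL)
  have hLK : ⁅K, L⁆ ≤ L := by
    rw [Subgroup.commutator_comm]
    exact (Subgroup.le_normalizer_iff_commutator_le_left).1 (pComponent_normalizes hL hK)
  have h1 : ⁅K, L⁆ ≤ (Cfsg.oddCore ↥K).map K.subtype := (le_inf hKL hR).trans (hcore K hK)
  refine ⟨le_inf h1 ((le_inf hLK hR).trans (hcore L hL)), fun hq => ?_⟩
  refine Solv.commutator_eq_bot_of_perfect (Solv.qs_self_commutator hq) ?_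
  have hZ : Cfsg.oddCore ↥K ≤ Subgroup.center ↥K := by
    refine (Solv.qs_normal_le_center_or_top hq (Cfsg.oddCore ↥K)).resolve_left fun ht => ?_
    have h2 := pComponent_dvd hK
    have h3 : (Nat.card (Cfsg.oddCore ↥K)).Coprime 2 := card_pPrimeCore_coprime 2 _
    rw [ht, Subgroup.card_top, Nat.coprime_comm, Nat.Prime.coprime_iff_not_dvd Nat.prime_two] at h3
    exact h3 h2
  rw [eq_bot_iff]
  refine (Subgroup.commutator_mono h1 le_rfl).trans ?_
  rw [Subgroup.commutator_le]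
  rintro _ ⟨a, ha, rfl⟩ b hb
  rw [Subgroup.mem_bot, commutatorElement_eq_one_iff_mul_comm]
  exact congrArg Subtype.val (Subgroup.mem_center_iff.1 (hZ ha) ⟨b, hb⟩).symm

end Cfsg.Agent.S1278
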