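import Cfsg.Statements.S1281
import Cfsg.Agent.Lib.Solv.Coprime
import Cfsg.Agent.Lib.Fusion.Basic

set_option autoImplicit false
open Cfsg
open Cfsg.Agent.Fusion
open scoped commutatorElement

namespace Cfsg.Agent.S1281

/-- Let θ be a solvable A-signalizer functor on the finite group G (A a noncyclic elementary abelian p-subgroup) and N a normal subgroup of order prime to p. Then for all non-identity a, b ∈ A, the image of θ a in G / N meets the centralizer of the image of b inside the image of θ b. -/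
theorem result {G : Type*} [Group G] [Finite G] (p : ℕ) [Fact p.Prime] (A : Subgroup G) (hA : Cfsg.IsElementaryAbelian p A) (hA2 : p ^ 2 ≤ Nat.card ↥A) (θ : G → Subgroup G) (hθ : Cfsg.IsSolvableSignalizerFunctor p A θ) (N : Subgroup G) [N.Normal] (hN : ¬ p ∣ Nat.card ↥N) (a b : G) (ha : a ∈ A) (ha1 : a ≠ 1) (hb : b ∈ A) (hb1 : b ≠ 1) : (θ a).map (QuotientGroup.mk' N) ⊓ Subgroup.centralizer {QuotientGroup.mk' N b} ≤ (θ b).map (QuotientGroup.mk' N) := by
  rintro q hq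
  obtain ⟨hq1, hq2⟩ := Subgroup.mem_inf.1 hq
  obtain ⟨u, hu, rfl⟩ := hq1
  obtain ⟨hθ1, hθ2, hθ3, hθ4⟩ := hθ.1
  have hbn : Subgroup.zpowers b ≤ Subgroup.normalizer (θ a : Set G) := Subgroup.zpowers_le.2
    (mem_normalizer_of_cj_le (by rintro _ ⟨w, hw, rfl⟩; exact hθ3 a ha ha1 b hb w hw))
  have hcop : (Nat.card ↥(Subgroup.zpowers b)).Coprime (Nat.card ↥(θ a)) := by
    rw [Nat.card_zpowers]
    refine Nat.Coprime.coprime_dvd_left (orderOf_dvd_of_pow_eq_one (hA.2 b hb)) ?_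
    exact (Nat.Prime.coprime_iff_not_dvd Fact.out).2 (hθ2 a ha ha1)
  have hfix : ∀ z ∈ Subgroup.zpowers b, u⁻¹ * (z * u * z⁻¹) ∈ θ a ⊓ N := by
    intro z hz
    refine Subgroup.mem_inf.2 ⟨mul_mem (inv_mem hu) ((Subgroup.mem_normalizer_iff.1 (hbn hz) u).1 hu), ?_⟩
    rw [← QuotientGroup.eq_one_iff]
    obtain ⟨i, rfl⟩ := Subgroup.mem_zpowers_iff.1 hz
    have hc : Commute (QuotientGroup.mk' N u) (QuotientGroup.mk' N b) := Subgroup.mem_centralizer_singleton_iff.1 hq2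
    show QuotientGroup.mk' N (u⁻¹ * (b ^ i * u * (b ^ i)⁻¹)) = 1
    rw [map_mul, map_mul, map_mul, map_inv, map_inv, map_zpow, ← (hc.zpow_right i).eq, mul_inv_cancel_right,
      inv_mul_cancel]
  obtain ⟨c, hc, hcu⟩ := Cfsg.Agent.Solv.exists_fixed_in_coset' (Subgroup.zpowers b) (θ a) (θ a ⊓ N) hbn hcop
    (Or.inr (hθ.2 a ha ha1)) inf_le_left
    (fun z hz => mem_normalizer_of_cj_le (by rw [cj_inf, cj_eq_self (hbn hz), cj_of_normal])) hu hfix
  obtain ⟨hc1, hc2⟩ := Subgroup.mem_inf.1 hc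
  refine ⟨c, hθ4 a ha ha1 b hb hb1 (Subgroup.mem_inf.2 ⟨hc1, ?_⟩), ?_⟩
  · exact Subgroup.mem_centralizer_singleton_iff.2
      (Subgroup.mem_centralizer_iff.1 hc2 b (Subgroup.mem_zpowers b)).symm
  · exact (QuotientGroup.eq.2 (Subgroup.mem_inf.1 hcu).2).symm

end Cfsg.Agent.S1281
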