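import Cfsg.Statements.S1284
import Cfsg.Agent.Lib.Fusion.Signalizer

set_option autoImplicit false
open Cfsg Cfsg.Agent
open Cfsg.Agent.Fusion
open scoped commutatorElement

namespace Cfsg.Agent.S1284

/-- Let θ be a solvable A-signalizer functor on the finite group G, A elementary abelian of rank at least 3, q a prime dividing some |θ a|, and Q maximal among the q-subgroups in the family of θ. Then (a) for every member H of the family, some c in the intersection of the θ a (a ∈ A non-identity) makes c Q c⁻¹ ∩ H a Sylow q-subgroup of H; and (b) for every nontrivial subgroup B ≤ A, C_Q(B) is a Sylow q-subgroup of the intersection of the θ b over the non-identity b ∈ B. -/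
theorem result {G : Type*} [Group G] [Finite G] (p : ℕ) [Fact p.Prime] (A : Subgroup G) (hA : Cfsg.IsElementaryAbelian p A) (hA3 : p ^ 3 ≤ Nat.card ↥A) (θ : G → Subgroup G) (hθ : Cfsg.IsSolvableSignalizerFunctor p A θ) (q : ℕ) [Fact q.Prime] (hq : ∃ a ∈ A, a ≠ 1 ∧ q ∣ Nat.card ↥(θ a)) (Q : Subgroup G) (hQW : Q ∈ Cfsg.signalizerFamily p A θ) (hQq : IsPGroup q ↥Q) (hQmax : ∀ R ∈ Cfsg.signalizerFamily p A θ, IsPGroup q ↥R → Q ≤ R → R = Q) : (∀ H : Subgroup G, H ∈ Cfsg.signalizerFamily p A θ → ∃ c ∈ Cfsg.signalizerInf A θ, ∃ S : Sylow q ↥H, (S : Subgroup ↥H).map H.subtype = Q.map (MulAut.conj c).toMonoidHom ⊓ H) ∧ (∀ B : Subgroup G, B ≤ A → B ≠ ⊥ → ∃ S : Sylow q ↥(Cfsg.signalizerInf B θ), (S : Subgroup ↥(Cfsg.signalizerInf B θ)).map (Cfsg.signalizerInf B θ).subtype = Q ⊓ Subgroup.centralizer (B : Set G)) := by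
  have key : ∀ H R : Subgroup G, Solv.IsSylIn q R H → ∀ P : Subgroup G, P ≤ H → IsPGroup q P → R ≤ P →
      ∃ S : Sylow q ↥H, (S : Subgroup ↥H).map H.subtype = P := by
    intro H R hR P hPH hP hRP
    exact ((hR.eq_of_le hP hPH hRP) ▸ hR).exists_sylow
  refine ⟨fun H hH => ?_, fun B hB hBne => ?_⟩
  · obtain ⟨R, hR, hAR⟩ := Solv.exists_invariant_sylow (fam_normalizer hH) (elab_coprime hA hH.2.1) (Or.inr hH.1) q
    obtain ⟨c, hc, hle⟩ := member_conj_le hA hA3 hθ hQW hQq hQmax (fam_of_le hH hR.1 hAR) hR.isPGroup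
    exact ⟨c, hc, key H R hR _ inf_le_right ((isPGroup_cj hQq c).to_le inf_le_left) (le_inf hle hR.1)⟩
  · obtain ⟨b, hbB, hb1⟩ : ∃ b ∈ B, b ≠ 1 := by
      by_contra hno
      exact hBne ((Subgroup.eq_bot_iff_forall _).2 fun x hx => by_contra fun h => hno ⟨x, hx, h⟩)
    obtain ⟨J, hJ⟩ : ∃ J, J = Cfsg.signalizerInf B θ := ⟨_, rfl⟩
    rw [← hJ]
    have hJb : J ≤ θ b := hJ ▸ iInf_le_of_le ⟨b, hbB, hb1⟩ le_rfl
    have hAJ : A ≤ Subgroup.normalizer (J : Set G) := fun x hx => mem_normalizer_of_cj_le (by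
      rintro _ ⟨u, hu, rfl⟩
      rw [hJ]
      refine Subgroup.mem_iInf.2 fun d => ?_
      exact hθ.1.2.2.1 d (hB d.2.1) d.2.2 x hx u (Subgroup.mem_iInf.1 (hJ ▸ hu) d))
    have hJfam := fam_of_le (theta_mem_fam hθ (hB hbB) hb1) hJb hAJ
    have hJC : J ≤ Subgroup.centralizer (B : Set G) := by
      intro u hu
      rw [Subgroup.mem_centralizer_iff]
      intro d hd
      rcases eq_or_ne d 1 with rfl | hd1
      · rw [one_mul, mul_one]
      · exact (Subgroup.mem_centralizer_singleton_iff.1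
          (hθ.1.1 d (hB hd) hd1 (Subgroup.mem_iInf.1 (hJ ▸ hu) ⟨d, hd, hd1⟩))).symm
    obtain ⟨R, hR, hAR⟩ := Solv.exists_invariant_sylow hAJ (elab_coprime hA hJfam.2.1) (Or.inr hJfam.1) q
    obtain ⟨c, hc, hle⟩ := member_conj_le hA hA3 hθ hQW hQq hQmax (fam_of_le hJfam hR.1 hAR) hR.isPGroup
    have hcJ : c ∈ J := hJ ▸ Subgroup.mem_iInf.2 fun d => Subgroup.mem_iInf.1 hc ⟨d, hB d.2.1, d.2.2⟩
    have hR' : Solv.IsSylIn q (cj R c⁻¹) J :=
      ⟨(cj_mono hR.1 _).trans (cj_eq_self (Subgroup.le_normalizer (inv_mem hcJ))).le, (card_cj R _).trans hR.2⟩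
    refine key J _ hR' _ ?_ (hQq.to_le inf_le_left) (le_inf ?_ (hR'.1.trans hJC))
    · intro x hx
      obtain ⟨hxQ, hxB⟩ := Subgroup.mem_inf.1 hx
      rw [hJ]
      refine Subgroup.mem_iInf.2 fun d => hQW.2.2.2 d (hB d.2.1) d.2.2 (Subgroup.mem_inf.2 ⟨hxQ, ?_⟩)
      exact Subgroup.mem_centralizer_singleton_iff.2 (Subgroup.mem_centralizer_iff.1 hxB d d.2.1).symm
    · rw [← cj_cj_inv Q c]
      exact cj_mono hle _

end Cfsg.Agent.S1284
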