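import Cfsg.Statements.S1286


set_option autoImplicit false
open Cfsg

namespace Cfsg.Agent.S1286

abbrev X5 := Equiv.Perm (Fin 5)

def u₁ : X5 := Equiv.swap 0 1
def u₂ : X5 := Equiv.swap 3 4
/-- A 3-cycle on `2, 3, 4`. -/
def s₁ : X5 := Equiv.swap 2 3 * Equiv.swap 3 4
/-- A 3-cycle on `0, 1, 2`. -/
def s₂ : X5 := Equiv.swap 0 1 * Equiv.swap 1 2

def four : Subgroup X5 where
  carrier := {x | x = 1 ∨ x = u₁ ∨ x = u₂ ∨ x = u₁ * u₂}
  one_mem' := Or.inl rfl
  mul_mem' := by
    simp only [Set.mem_ofPred_eq]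
    rintro a b (rfl | rfl | rfl | rfl) (rfl | rfl | rfl | rfl) <;> decide +kernel
  inv_mem' := by
    simp only [Set.mem_ofPred_eq]
    rintro a (rfl | rfl | rfl | rfl) <;> decide +kernel

def cyc (s : X5) (h : s * s * s = 1) : Subgroup X5 where
  carrier := {x | x = 1 ∨ x = s ∨ x = s * s}
  one_mem' := Or.inl rfl
  mul_mem' := by
    rintro a b (rfl | rfl | rfl) (rfl | rfl | rfl) <;>
      simp only [Set.mem_ofPred_eq, one_mul, mul_one, true_or, or_true, ← mul_assoc, h]
  inv_mem' := by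
    rintro a (rfl | rfl | rfl)
    · exact Or.inl inv_one
    · exact Or.inr (Or.inr (inv_eq_of_mul_eq_one_right (by rw [← mul_assoc, h])))
    · exact Or.inr (Or.inl (inv_eq_of_mul_eq_one_right h))

theorem cube₁ : s₁ * s₁ * s₁ = 1 := by decide +kernel
theorem cube₂ : s₂ * s₂ * s₂ = 1 := by decide +kernel

def theta (a : X5) : Subgroup X5 :=
  if a = u₁ then cyc s₁ cube₁ else if a = u₂ then cyc s₂ cube₂ else ⊥

theorem facts₁ : u₁ * s₁ = s₁ * u₁ ∧ s₁ ≠ 1 ∧
    (∀ b : X5, (b = u₁ ∨ b = u₂ ∨ b = u₁ * u₂) →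
      (b * s₁ * b⁻¹ = s₁ ∨ b * s₁ * b⁻¹ = s₁ * s₁) ∧ (b ≠ u₁ → b * s₁ ≠ s₁ * b)) := by decide +kernel
theorem facts₂ : u₂ * s₂ = s₂ * u₂ ∧ s₂ ≠ 1 ∧
    (∀ b : X5, (b = u₁ ∨ b = u₂ ∨ b = u₁ * u₂) →
      (b * s₂ * b⁻¹ = s₂ ∨ b * s₂ * b⁻¹ = s₂ * s₂) ∧ (b ≠ u₂ → b * s₂ ≠ s₂ * b)) := by decide +kernel
theorem word_invol : orderOf (s₁ * s₂ * s₁ * s₂⁻¹) = 2 :=
  orderOf_eq_prime (by decide +kernel) (by decide +kernel)
theorem four_card : Nat.card four = 4 := by
  have e : (four : Set X5) = ({1, u₁, u₂, u₁ * u₂} : Finset X5) := by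
    ext x; simp [four]
  rw [← SetLike.coe_sort_coe, Nat.card_coe_set_eq, e, Set.ncard_coe_finset]
  decide +kernel

theorem card_cyc {s : X5} (h : s * s * s = 1) (h1 : s ≠ 1) : cyc s h = Subgroup.zpowers s ∧
    Nat.card (cyc s h) = 3 := by
  have e : cyc s h = Subgroup.zpowers s := by
    refine le_antisymm ?_ (Subgroup.zpowers_le.2 (Or.inr (Or.inl rfl)))
    rintro x (rfl | rfl | rfl)
    · exact one_mem _
    · exact Subgroup.mem_zpowers _
    · exact mul_mem (Subgroup.mem_zpowers _) (Subgroup.mem_zpowers _)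
  haveI : Fact (Nat.Prime 3) := ⟨by norm_num⟩
  refine ⟨e, ?_⟩
  rw [e, Nat.card_zpowers]
  exact orderOf_eq_prime (by rw [pow_succ, pow_two]; exact h) h1

/-- There exist a finite group X, an elementary abelian subgroup A of order 4 and a solvable A-signalizer functor θ on X for the prime 2 which is not complete. -/
theorem result : ∃ (X : Type) (_ : Group X) (_ : Finite X) (A : Subgroup X) (θ : X → Subgroup X), Cfsg.IsElementaryAbelian 2 A ∧ Nat.card ↥A = 4 ∧ Cfsg.IsSolvableSignalizerFunctor 2 A θ ∧ ¬ Cfsg.IsCompleteSignalizerFunctor 2 A θ := by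
  refine ⟨X5, inferInstance, inferInstance, four, theta, ⟨⟨⟨?_⟩⟩, ?_⟩, four_card, ?_, ?_⟩
  · rintro ⟨a, ha⟩ ⟨b, hb⟩
    refine Subtype.ext ?_
    rcases ha with rfl | rfl | rfl | rfl <;> rcases hb with rfl | rfl | rfl | rfl <;> decide +kernel
  · rintro a (rfl | rfl | rfl | rfl) <;> decide +kernel
  · have h1 : ∀ a ∈ four, a ≠ 1 → a = u₁ ∨ a = u₂ ∨ a = u₁ * u₂ := fun a ha h => ha.resolve_left h
    have ht : ∀ a ∈ four, a ≠ 1 → ∀ x ∈ theta a, x ≠ 1 →
        (a = u₁ ∧ (x = s₁ ∨ x = s₁ * s₁)) ∨ (a = u₂ ∧ (x = s₂ ∨ x = s₂ * s₂)) := by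
      intro a ha h x hx hx1
      rcases h1 a ha h with rfl | rfl | rfl
      · exact Or.inl ⟨rfl, hx.resolve_left hx1⟩
      · rw [theta, if_neg (by decide +kernel), if_pos rfl] at hx
        exact Or.inr ⟨rfl, hx.resolve_left hx1⟩
      · rw [theta, if_neg (by decide +kernel), if_neg (by decide +kernel)] at hx
        exact absurd hx hx1
    refine ⟨⟨?_, ?_, ?_, ?_⟩, ?_⟩
    · intro a ha h x hx
      refine Subgroup.mem_centralizer_singleton_iff.2 ?_
      by_cases hx1 : x = 1
      · rw [hx1, one_mul, mul_one]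
      rcases ht a ha h x hx hx1 with ⟨rfl, rfl | rfl⟩ | ⟨rfl, rfl | rfl⟩ <;> decide +kernel
    · intro a ha h
      rcases h1 a ha h with rfl | rfl | rfl
      · rw [theta, if_pos rfl, (card_cyc cube₁ facts₁.2.1).2]; decide
      · rw [theta, if_neg (by decide +kernel), if_pos rfl, (card_cyc cube₂ facts₂.2.1).2]; decide
      · rw [theta, if_neg (by decide +kernel), if_neg (by decide +kernel), Subgroup.card_bot]; decide
    · intro a ha h b hb x hx
      by_cases hx1 : x = 1
      · rw [hx1]; simp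
      by_cases hb1 : b = 1
      · rw [hb1]; simpa using hx
      rcases ht a ha h x hx hx1 with ⟨rfl, hx'⟩ | ⟨rfl, hx'⟩
      · rw [theta, if_pos rfl] at hx ⊢
        rcases hx' with rfl | rfl <;> rcases h1 b hb hb1 with rfl | rfl | rfl <;>
          first
            | exact Or.inr (Or.inl (by decide +kernel))
            | exact Or.inr (Or.inr (by decide +kernel))
      · rw [theta, if_neg (by decide +kernel), if_pos rfl] at hx ⊢
        rcases hx' with rfl | rfl <;> rcases h1 b hb hb1 with rfl | rfl | rfl <;>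
          first
            | exact Or.inr (Or.inl (by decide +kernel))
            | exact Or.inr (Or.inr (by decide +kernel))
    · intro a ha h b hb hb1 x hx
      by_cases hx1 : x = 1
      · rw [hx1]; exact one_mem _
      have hc : x * b = b * x := Subgroup.mem_centralizer_singleton_iff.1 hx.2
      rcases ht a ha h x hx.1 hx1 with ⟨rfl, hx'⟩ | ⟨rfl, hx'⟩
      · rcases h1 b hb hb1 with rfl | rfl | rfl
        · exact hx.1
        all_goals exfalso; revert hc; rcases hx' with rfl | rfl <;> decide +kernel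
      · rcases h1 b hb hb1 with rfl | rfl | rfl
        · exfalso; revert hc; rcases hx' with rfl | rfl <;> decide +kernel
        · exact hx.1
        · exfalso; revert hc; rcases hx' with rfl | rfl <;> decide +kernel
    · intro a ha h
      rcases h1 a ha h with rfl | rfl | rfl
      · rw [theta, if_pos rfl, (card_cyc cube₁ facts₁.2.1).1]
        exact Group.isSolvable_of_comm fun s t => IsMulCommutative.is_comm.comm s t
      · rw [theta, if_neg (by decide +kernel), if_pos rfl, (card_cyc cube₂ facts₂.2.1).1]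
        exact Group.isSolvable_of_comm fun s t => IsMulCommutative.is_comm.comm s t
      · rw [theta, if_neg (by decide +kernel), if_neg (by decide +kernel)]
        exact Group.isSolvable_of_comm fun s t => Subsingleton.elim _ _
  · rintro ⟨-, U, -, hU2, hU⟩
    have e1 : s₁ ∈ U := by
      have h2 : s₁ ∈ theta u₁ := by
        rw [theta, if_pos rfl]; exact Or.inr (Or.inl rfl)
      rw [← hU u₁ (Or.inr (Or.inl rfl)) (by decide +kernel)] at h2
      exact h2.1
    have e2 : s₂ ∈ U := by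
      have h2 : s₂ ∈ theta u₂ := by
        rw [theta, if_neg (by decide +kernel), if_pos rfl]; exact Or.inr (Or.inl rfl)
      rw [← hU u₂ (Or.inr (Or.inr (Or.inl rfl))) (by decide +kernel)] at h2
      exact h2.1
    refine hU2 ?_
    rw [← word_invol, ← Subgroup.orderOf_mk _
      (U.mul_mem (U.mul_mem (U.mul_mem e1 e2) e1) (U.inv_mem e2))]
    exact orderOf_dvd_natCard _

end Cfsg.Agent.S1286
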