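import Cfsg.Statements.S1288
import Cfsg.Agent.Lib.Fusion.Signalizer
import Cfsg.Agent.Lib.Fusion.PConstrained
import Cfsg.Agent.Lib.Fusion.SolvableBalance

set_option autoImplicit false
open Cfsg Cfsg.Agent
open Cfsg.Agent.Fusion
open scoped commutatorElement

namespace Cfsg.Agent.S1288

/-- Let A be a noncyclic elementary abelian p-subgroup of a finite group H normalizing a solvable subgroup K of order prime to p, q a prime dividing |K|, and U ≤ K a subgroup of order prime to q such that ⁅U, C_K(B)⁆ has order prime to q for every subgroup B of index p in A. Then U ≤ O_{q'}(K). -/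
theorem result {H : Type*} [Group H] [Finite H] (p : ℕ) [Fact p.Prime] (A K : Subgroup H) (hA : Cfsg.IsElementaryAbelian p A) (hA2 : p ^ 2 ≤ Nat.card ↥A) (hK : ¬ p ∣ Nat.card ↥K) (hKs : Group.IsSolvable ↥K) (hAK : A ≤ Subgroup.normalizer (K : Set H)) (q : ℕ) [Fact q.Prime] (hqK : q ∣ Nat.card ↥K) (U : Subgroup H) (hU : U ≤ K) (hUq : ¬ q ∣ Nat.card ↥U) (hcomm : ∀ B : Subgroup H, B ≤ A → B.relIndex A = p → ¬ q ∣ Nat.card ↥⁅U, K ⊓ Subgroup.centralizer (B : Set H)⁆) : U ≤ (Cfsg.pPrimeCore q ↥K).map K.subtype := by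
  obtain ⟨R, hR⟩ : ∃ R, R = (Cfsg.pPrimeCore q ↥K).map K.subtype := ⟨_, rfl⟩
  obtain ⟨P₁, hP₁⟩ : ∃ P₁, P₁ = (Cfsg.pPrimePCore q ↥K).map K.subtype := ⟨_, rfl⟩
  rw [← hR]
  have hP₁K : P₁ ≤ K := hP₁ ▸ Subgroup.map_subtype_le _
  have hRP : R ≤ P₁ := hR ▸ hP₁ ▸ Subgroup.map_mono pPrimeCore_le_pPrimePCore
  have hp : p.Prime := Fact.out
  have hcoA : (Nat.card A).Coprime (Nat.card K) := elab_coprime hA hK
  haveI hPn := pPrimePCore_normal (G := ↥K) (p := q)
  have hAP : A ≤ Subgroup.normalizer (P₁ : Set H) := by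
    intro a ha
    refine mem_normalizer_of_cj_le ?_
    rw [hP₁]
    rintro _ ⟨_, ⟨x, hx, rfl⟩, rfl⟩
    let e : ↥K ≃* ↥K :=
      { toFun := fun y => ⟨a * y * a⁻¹, (Subgroup.mem_normalizer_iff.1 (hAK ha) _).1 y.2⟩
        invFun := fun y => ⟨a⁻¹ * y * a, by
          simpa using (Subgroup.mem_normalizer_iff.1 (hAK (inv_mem ha)) _).1 y.2⟩
        left_inv := fun y => Subtype.ext (by simp [mul_assoc])
        right_inv := fun y => Subtype.ext (by simp [mul_assoc])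
        map_mul' := fun y z => Subtype.ext (by simp [mul_assoc]) }
    refine ⟨e x, ?_, rfl⟩
    -- characteristic
    have hR' : ∀ y : ↥K, y ∈ Cfsg.pPrimeCore q ↥K → e y ∈ Cfsg.pPrimeCore q ↥K := fun y hy =>
      map_pPrimeCore_equiv (p := q) e ▸ Subgroup.mem_map_of_mem _ hy
    let ebar : ↥K ⧸ Cfsg.pPrimeCore q ↥K ≃* ↥K ⧸ Cfsg.pPrimeCore q ↥K :=
      QuotientGroup.congr _ _ e (map_pPrimeCore_equiv (p := q) e)
    have h1 : QuotientGroup.mk' (Cfsg.pPrimeCore q ↥K) x ∈ Cfsg.pCore q (↥K ⧸ Cfsg.pPrimeCore q ↥K) := hx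
    have h2 := Subgroup.mem_map_of_mem ebar.toMonoidHom h1
    rw [map_pCore_equiv] at h2
    exact h2
  obtain ⟨Q, hQ, hAQ⟩ := Solv.exists_invariant_sylow hAP
    (hcoA.coprime_dvd_right (Subgroup.card_dvd_of_le hP₁K)) (Or.inr (Solv.isSolvable_of_le hP₁K hKs)) q
  have hQK : Q ≤ K := hQ.1.trans hP₁K
  -- q'-subgroups of `P₁` lie in `R`
  have hq' : ∀ x ∈ P₁, (orderOf x).Coprime q → x ∈ R := by
    intro x hx hxo
    rw [hP₁] at hx
    obtain ⟨y, hy, rfl⟩ := hx
    rw [hR]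
    refine Subgroup.mem_map_of_mem _ ((QuotientGroup.eq_one_iff y).1 ?_)
    have hyo : (orderOf (QuotientGroup.mk' (Cfsg.pPrimeCore q ↥K) y)).Coprime q :=
      Nat.Coprime.coprime_dvd_left (orderOf_map_dvd _ y)
        (by rwa [← orderOf_injective K.subtype K.subtype_injective y])
    obtain ⟨j, hj⟩ := isPGroup_pCore q (↥K ⧸ Cfsg.pPrimeCore q ↥K) ⟨_, (hy : QuotientGroup.mk' (Cfsg.pPrimeCore q ↥K) y ∈ Cfsg.pCore q _)⟩
    exact orderOf_eq_one_iff.1 (Nat.eq_one_of_dvd_coprimes (hyo.pow_right j) dvd_rfl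
      (orderOf_dvd_of_pow_eq_one (congrArg Subtype.val hj)))
  have hKP : K ≤ Subgroup.normalizer (P₁ : Set H) := by
    rw [hP₁]
    exact (Subgroup.normal_subgroupOf_iff_le_normalizer (Subgroup.map_subtype_le _)).1 (by
      rw [Subgroup.subgroupOf, Subgroup.comap_map_eq_self_of_injective K.subtype_injective]; exact hPn)
  obtain ⟨B₀, hB₀, hB₀p⟩ : ∃ B₀ : Subgroup H, B₀ ≤ A ∧ B₀.relIndex A = p := by
    obtain ⟨k, hk⟩ := IsPGroup.iff_card.1 (elab_isPGroup hA)
    have hk1 : 1 ≤ k := by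
      by_contra h; interval_cases k; rw [hk, pow_zero] at hA2
      exact absurd hA2 (not_le.2 (Nat.one_lt_pow (by norm_num) hp.one_lt))
    obtain ⟨B, hB⟩ := Sylow.exists_subgroup_card_pow_prime p (show p ^ (k - 1) ∣ Nat.card A from hk ▸ pow_dvd_pow p (by omega))
    refine ⟨B.map A.subtype, Subgroup.map_subtype_le _, ?_⟩
    rw [Subgroup.relIndex, Subgroup.subgroupOf, Subgroup.comap_map_eq_self_of_injective A.subtype_injective]
    have h := B.card_mul_index
    rw [hB, hk] at h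
    refine Nat.eq_of_mul_eq_mul_left (pow_pos hp.pos (k - 1)) (h.trans ?_)
    rw [← pow_succ]; congr 1; omega
  have hcom : ∀ u ∈ U, ∀ v ∈ Q, ⁅u, v⁆ ∈ R := by
    intro u hu v hv
    have hgen := (Solv.gen_eq A Q hA.1 hAQ (hcoA.coprime_dvd_right (Subgroup.card_dvd_of_le hQK))).ge hv
    have huK := hU hu
    have hKR : K ≤ Subgroup.normalizer (R : Set H) := by
      rw [hR]
      exact (Subgroup.normal_subgroupOf_iff_le_normalizer (Subgroup.map_subtype_le _)).1 (by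
        rw [Subgroup.subgroupOf, Subgroup.comap_map_eq_self_of_injective K.subtype_injective]; infer_instance)
    let D : Subgroup H :=
      { carrier := {v | v ∈ K ∧ ⁅u, v⁆ ∈ R}
        one_mem' := ⟨one_mem K, by simp⟩
        mul_mem' := by
          rintro a b ⟨ha, ha'⟩ ⟨hb, hb'⟩
          refine ⟨mul_mem ha hb, ?_⟩
          rw [show ⁅u, a * b⁆ = ⁅u, a⁆ * (a * ⁅u, b⁆ * a⁻¹) by simp only [commutatorElement_def]; group]
          exact mul_mem ha' ((Subgroup.mem_normalizer_iff.1 (hKR ha) _).1 hb')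
        inv_mem' := by
          rintro a ⟨ha, ha'⟩
          refine ⟨inv_mem ha, ?_⟩
          rw [show ⁅u, a⁻¹⁆ = a⁻¹ * ⁅u, a⁆⁻¹ * a⁻¹⁻¹ by simp only [commutatorElement_def]; group]
          exact (Subgroup.mem_normalizer_iff.1 (hKR (inv_mem ha)) _).1 (inv_mem ha') }
    suffices hle : (⨆ B ∈ Solv.CycQuot A, Q ⊓ Subgroup.centralizer (B : Set H)) ≤ D from (hle hgen).2
    refine iSup₂_le fun B hB => ?_
    obtain ⟨B', hB'A, hB'p, hsub⟩ : ∃ B' : Subgroup H, B' ≤ A ∧ B'.relIndex A = p ∧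
        Q ⊓ Subgroup.centralizer (B : Set H) ≤ K ⊓ Subgroup.centralizer (B' : Set H) := by
      by_cases hBA : A ≤ B
      · exact ⟨B₀, hB₀, hB₀p, inf_le_inf hQK (Subgroup.centralizer_le (hB₀.trans hBA))⟩
      · refine ⟨B, hB.1, ?_, inf_le_inf_right _ hQK⟩
        obtain ⟨k, hk⟩ := IsPGroup.iff_card.1 (elab_isPGroup hA)
        have hd : B.relIndex A ∣ p ^ k := hk ▸ Subgroup.relIndex_dvd_card B A
        obtain ⟨j, -, hj⟩ := (Nat.dvd_prime_pow hp).1 hd
        have h1 := card_le_mul_of_cycQuot hA hB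
        have h2 : B.relIndex A * Nat.card B = Nat.card A := by
          rw [mul_comm, ← Nat.card_congr (Subgroup.subgroupOfEquivOfLe hB.1).toEquiv]
          exact Subgroup.card_mul_index _
        rw [← h2] at h1
        have h3 := Nat.le_of_mul_le_mul_right h1 Nat.card_pos
        rw [hj] at h3
        rcases j with _ | _ | j
        · exfalso; rw [pow_zero] at hj; exact hBA (Subgroup.relIndex_eq_one.1 hj)
        · rw [hj, pow_one]
        · exfalso
          have : p ^ 1 < p ^ (j + 1 + 1) := Nat.pow_lt_pow_right hp.one_lt (by omega)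
          rw [pow_one] at this; omega
    intro w hw
    have hw' := hsub hw
    refine ⟨(Subgroup.mem_inf.1 hw').1, hq' _ ?_ ?_⟩
    · have hwP : w ∈ P₁ := hQ.1 (Subgroup.mem_inf.1 hw).1
      rw [commutatorElement_def]
      exact mul_mem ((Subgroup.mem_normalizer_iff.1 (hKP huK) w).1 hwP) (inv_mem hwP)
    · refine Nat.Coprime.coprime_dvd_left ?_ (((Nat.Prime.coprime_iff_not_dvd Fact.out).2 (hcomm B' hB'A hB'p)).symm)
      rw [← Subgroup.orderOf_mk _ (Subgroup.commutator_mem_commutator hu hw')]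
      exact orderOf_dvd_natCard _
  intro u hu
  have huo : (orderOf u).Coprime q := by
    refine Nat.Coprime.coprime_dvd_left ?_ (((Nat.Prime.coprime_iff_not_dvd Fact.out).2 hUq).symm)
    rw [← Subgroup.orderOf_mk u hu]; exact orderOf_dvd_natCard _
  refine hq' u ?_ huo
  set π := QuotientGroup.mk' (Cfsg.pPrimeCore q ↥K) with hπ
  have hc0 : Subgroup.centralizer (Cfsg.pCore q (↥K ⧸ Cfsg.pPrimeCore q ↥K) : Set (↥K ⧸ Cfsg.pPrimeCore q ↥K))
      ≤ Cfsg.pCore q (↥K ⧸ Cfsg.pPrimeCore q ↥K) :=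
    centralizer_pCore_le_of_solvable (Group.isSolvable_of_surjective (QuotientGroup.mk'_surjective _))
      pPrimeCore_quotient_eq_bot
  rw [hP₁]
  refine ⟨⟨u, hU hu⟩, hc0 (Subgroup.mem_centralizer_iff.2 fun y hy => ?_), rfl⟩
  have hQsyl : SylIn q (Q.subgroupOf K) (Cfsg.pPrimePCore q ↥K) := by
    refine ⟨fun x hx => ?_, hQ.isPGroup.comap_subtype, ?_⟩
    · obtain ⟨z, hz, he⟩ := (hP₁ ▸ hQ.1 hx : (x : H) ∈ (Cfsg.pPrimePCore q ↥K).map K.subtype)
      rwa [← Subtype.ext (show (z : H) = x from he)]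
    · obtain ⟨S, hS⟩ := hQ.exists_sylow
      have h1 : ¬ q ∣ Q.relIndex P₁ := by
        rw [Subgroup.relIndex, show Q.subgroupOf P₁ = (S : Subgroup P₁) by
          rw [← hS, Subgroup.subgroupOf, Subgroup.comap_map_eq_self_of_injective P₁.subtype_injective]]
        exact S.not_dvd_index
      rw [← Subgroup.map_subgroupOf_eq_of_le hQK, hP₁] at h1
      rwa [Subgroup.relIndex_map_map_of_injective _ _ K.subtype_injective] at h1
  obtain ⟨x, hx, rfl⟩ : y ∈ (Q.subgroupOf K).map π := (map_sylIn_pPrimePCore hQsyl).ge hy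
  refine (commutatorElement_eq_one_iff_mul_comm.1 ?_).symm
  rw [← map_commutatorElement]
  refine (QuotientGroup.eq_one_iff _).2 ?_
  obtain ⟨z, hz, he⟩ := (hR ▸ hcom u hu x hx : ((⁅(⟨u, hU hu⟩ : ↥K), x⁆ : ↥K) : H) ∈ (Cfsg.pPrimeCore q ↥K).map K.subtype)
  rwa [← Subtype.ext (show (z : H) = _ from he)]

end Cfsg.Agent.S1288
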