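import Cfsg.Statements.S1292
import Cfsg.Agent.Lib.Fusion.LocalLayer

set_option autoImplicit false
open Cfsg
open Cfsg.Agent.Fusion
open scoped commutatorElement

namespace Cfsg.Agent.S1292

/-- Let G be a finite group such that F*(C_G(t)) = O_2(C_G(t)) for every involution t. Then F*(N_G(T)) = O_2(N_G(T)) for every nontrivial 2-subgroup T of G. -/
theorem result {G : Type*} [Group G] [Finite G] (h : ∀ t : G, orderOf t = 2 → Cfsg.generalizedFittingSubgroup ↥(Subgroup.centralizer ({t} : Set G)) = Cfsg.pCore 2 ↥(Subgroup.centralizer ({t} : Set G))) (T : Subgroup G) (hT : IsPGroup 2 ↥T) (hT1 : T ≠ ⊥) : Cfsg.generalizedFittingSubgroup ↥(Subgroup.normalizer (T : Set G)) = Cfsg.pCore 2 ↥(Subgroup.normalizer (T : Set G)) := by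
  haveI : Fact (Nat.Prime 2) := ⟨Nat.prime_two⟩
  haveI : Nontrivial ↥T := (Subgroup.nontrivial_iff_ne_bot T).2 hT1
  haveI := hT.center_nontrivial
  have hd : 2 ∣ Nat.card ↥(Subgroup.center ↥T) := by
    obtain ⟨k, hk⟩ := IsPGroup.iff_card.1 (hT.to_subgroup (Subgroup.center ↥T))
    have := Finite.one_lt_card (α := ↥(Subgroup.center ↥T))
    rcases k with _ | k
    · rw [pow_zero] at hk; omega
    · exact hk ▸ dvd_pow_self 2 (Nat.succ_ne_zero k)
  obtain ⟨z, hz⟩ := exists_prime_orderOf_dvd_card' 2 hd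
  obtain ⟨t, htdef⟩ : ∃ t, t = ((z : ↥T) : G) := ⟨_, rfl⟩
  have ht2 : orderOf t = 2 := by rw [htdef, Subgroup.orderOf_coe, Subgroup.orderOf_coe, hz]
  obtain ⟨H, hHdef⟩ : ∃ H, H = Subgroup.centralizer ({t} : Set G) := ⟨_, rfl⟩
  obtain ⟨C, hCdef⟩ : ∃ C, C = Subgroup.centralizer (T : Set G) := ⟨_, rfl⟩
  have hCH : C ≤ H := fun c hc => by
    rw [hHdef, Subgroup.mem_centralizer_singleton_iff]
    rw [hCdef] at hc
    exact (Subgroup.mem_centralizer_iff.1 hc t (htdef ▸ z.1.2)).symm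
  have hTH : T ≤ H := fun u hu => by
    rw [hHdef, Subgroup.mem_centralizer_singleton_iff, htdef]
    exact congrArg Subtype.val (Subgroup.mem_center_iff.1 z.2 ⟨u, hu⟩)
  have hF := h t ht2
  rw [← hHdef] at hF
  obtain ⟨Q, hQdef⟩ : ∃ Q, Q = (Cfsg.pCore 2 ↥H).map H.subtype := ⟨_, rfl⟩
  have hQ : IsPGroup 2 ↥Q := by rw [hQdef]; exact (isPGroup_pCore 2 ↥H).map _
  have hQH : Q ≤ H := hQdef ▸ Subgroup.map_subtype_le _
  have hHQ : H ≤ Subgroup.normalizer (Q : Set G) := fun g hg => mem_normalizer_of_cj_le (by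
    rw [hQdef]
    rintro _ ⟨q, ⟨q', hq', rfl⟩, rfl⟩
    exact ⟨⟨g, hg⟩ * q' * ⟨g, hg⟩⁻¹, (inferInstance : (Cfsg.pCore 2 ↥H).Normal).conj_mem _ hq' _, rfl⟩)
  have hCQ : ∀ x ∈ H, x ∈ Subgroup.centralizer (Q : Set G) → x ∈ Q := fun x hx hxc => by
    have hb := Solv.centralizer_gfit_le (G := ↥H) (show (⟨x, hx⟩ : H) ∈ _ from ?_)
    · rw [hF] at hb
      rw [hQdef]
      exact ⟨_, hb, rfl⟩
    · rw [hF, Subgroup.mem_centralizer_iff]
      intro q hq
      exact Subtype.ext (Subgroup.mem_centralizer_iff.1 hxc q (hQdef ▸ Subgroup.mem_map_of_mem _ hq))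
  -- an element of odd order of `C(T)` centralising `C_Q(T)` is trivial
  have key : ∀ x ∈ C, (orderOf x).Coprime 2 → x ∈ Subgroup.centralizer ((Q ⊓ C : Subgroup G) : Set G) → x = 1 := by
    intro x hx hxo hxq
    have hmem := hCQ x (hCH hx) (mem_centralizer_of_AB hQ hT (hTH.trans hHQ) (hHQ (hCH hx))
      (fun u hu => (Subgroup.mem_centralizer_iff.1 (hCdef ▸ hx) u hu).symm) hxo
      (fun q hq hqT => (Subgroup.mem_centralizer_iff.1 hxq q (Subgroup.mem_inf.2 ⟨hq, by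
        rw [hCdef]; exact Subgroup.mem_centralizer_iff.2 fun u hu => (hqT u hu).symm⟩)).symm))
    obtain ⟨j, hj⟩ := hQ ⟨x, hmem⟩
    exact orderOf_eq_one_iff.1 (Nat.eq_one_of_dvd_coprimes (hxo.pow_right j) dvd_rfl
      (orderOf_dvd_of_pow_eq_one (congrArg Subtype.val hj)))
  obtain ⟨N, hNdef⟩ : ∃ N, N = Subgroup.normalizer (T : Set G) := ⟨_, rfl⟩
  rw [← hNdef]
  have hTN : T ≤ N := hNdef ▸ Subgroup.le_normalizer
  have hCN : C ≤ N := hCdef ▸ hNdef ▸ Subgroup.centralizer_le_normalizer _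
  have hTp : IsPGroup 2 ↥(T.subgroupOf N) :=
    hT.of_equiv (Subgroup.subgroupOfEquivOfLe hTN).symm
  haveI : (T.subgroupOf N).Normal := (Subgroup.normal_subgroupOf_iff_le_normalizer hTN).2 hNdef.le
  have hnC : C ≤ Subgroup.normalizer ((Q ⊓ C : Subgroup G) : Set G) := fun c hc =>
    mem_normalizer_of_cj_le (by rw [cj_inf, cj_eq_self (hHQ (hCH hc)), cj_eq_self_of_mem hc])
  -- no odd core
  have hO : Cfsg.pPrimeCore 2 ↥N = ⊥ := by
    refine eq_bot_iff.2 fun x hx => ?_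
    have hxC : (x : G) ∈ C := by
      rw [hCdef, Subgroup.mem_centralizer_iff]
      intro u hu
      exact congrArg Subtype.val (Subgroup.mem_centralizer_iff.1 (pPrimeCore_commutes_pCore hx) ⟨u, hTN hu⟩
        (le_pCore hTp hu))
    refine Subgroup.mem_bot.2 (Subtype.ext ?_)
    refine key x hxC (by rw [Subgroup.orderOf_coe]; exact mem_pPrimeCore_orderOf hx) (Subgroup.mem_centralizer_iff.2 fun q hq => ?_)
    obtain ⟨hqQ, hqC⟩ := Subgroup.mem_inf.1 hq
    have h1 : ⁅x, (⟨q, hCN hqC⟩ : N)⁆ ∈ Cfsg.pPrimeCore 2 ↥N := by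
      rw [commutatorElement_def, mul_assoc x, mul_assoc x]
      exact mul_mem hx ((inferInstance : (Cfsg.pPrimeCore 2 ↥N).Normal).conj_mem _ (inv_mem hx) _)
    have h2 : ⁅(x : G), q⁆ ∈ Q := by
      rw [commutatorElement_def]
      exact mul_mem ((Subgroup.mem_normalizer_iff.1 (hHQ (hCH hxC)) q).1 hqQ) (inv_mem hqQ)
    obtain ⟨j, hj⟩ := hQ ⟨_, h2⟩
    have h3 : ⁅(x : G), q⁆ = 1 := orderOf_eq_one_iff.1 (Nat.eq_one_of_dvd_coprimes
      ((mem_pPrimeCore_orderOf h1).pow_right j)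
      (orderOf_map_dvd N.subtype _) (orderOf_dvd_of_pow_eq_one (congrArg Subtype.val hj)))
    exact (commutatorElement_eq_one_iff_mul_comm.1 h3).symm
  -- no components
  have hE : Cfsg.layer ↥N = ⊥ := by
    refine eq_bot_iff.2 (sSup_le fun L₀ hL₀ => absurd ?_ (Solv.qs_ne_bot hL₀.2))
    have hL : Cfsg.IsComponent ((L₀.map N.subtype).subgroupOf N) := by
      rwa [Subgroup.subgroupOf, Subgroup.comap_map_eq_self_of_injective N.subtype_injective]
    have hLN : L₀.map N.subtype ≤ N := Subgroup.map_subtype_le _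
    have h1 : L₀.map N.subtype ≤ C := hCdef ▸
      component_centralizes hLN hTN hNdef.le (isSolvable_of_pGroup hT) hL
    have h2 := component_centralizes h1 (inf_le_right : Q ⊓ C ≤ C) hnC
      (isSolvable_of_pGroup (hQ.to_le inf_le_left)) (component_restrict hCN h1 hL)
    have h3 : L₀.map N.subtype ≤ ⊥ := le_of_pPrime_elements (p := 2)
      (Local.isQuasisimple_congr (Subgroup.subgroupOfEquivOfLe hLN) hL.2).1
      fun x hx hxo => Subgroup.mem_bot.2 (key x (h1 hx) hxo (h2 hx))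
    exact (Subgroup.map_eq_bot_iff_of_injective _ N.subtype_injective).1 (le_bot_iff.1 h3)
  rw [Cfsg.generalizedFittingSubgroup, hE, bot_sup_eq]
  refine le_antisymm ?_ (Solv.pCore_le_fitting 2)
  rw [Solv.fitting_eq_iSup_pCore]
  refine iSup_le fun q => ?_
  by_cases hq : (q : ℕ) = 2
  · rw [hq]
  · haveI := Fact.mk q.2
    refine le_trans ?_ bot_le
    rw [← hO]
    refine le_pPrimeCore ?_
    obtain ⟨k, hk⟩ := IsPGroup.iff_card.1 (isPGroup_pCore (q : ℕ) ↥N)
    rw [hk]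
    exact ((Nat.coprime_primes q.2 Nat.prime_two).2 hq).pow_left k

end Cfsg.Agent.S1292
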