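import Cfsg.Statements.S1295
import Cfsg.Agent.Lib.SSF.Equivariant
import Cfsg.Agent.Lib.SSF.LayerTools

set_option autoImplicit false
open Cfsg

namespace Cfsg.Agent.S1295

/-- Let G be finite with O_{p'}(G) = 1 and p-rank at least 3, whose reduced rank-2 commuting graph for p is connected. Suppose that for every element a of order p with m_p(C_G(a)) ≥ 3 the p-layer of C_G(a) is trivial and O_{p'}(C_G(a)) is solvable. Then F*(C_G(a)) = O_p(C_G(a)) for every such a. -/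
theorem result {G : Type*} [Group G] [Finite G] (p : ℕ) [Fact p.Prime] (hO : Cfsg.pPrimeCore p G = ⊥) (hrk : ¬ Cfsg.PRankLE p 2 G) (hconn : Cfsg.IsRankGraphConnected p 2 G) (hL : ∀ a : G, (orderOf a = p ∧ ¬ Cfsg.PRankLE p 2 ↥(Subgroup.centralizer ({a} : Set G))) → Cfsg.pLayer p ↥(Subgroup.centralizer ({a} : Set G)) = ⊥ ∧ Group.IsSolvable ↥(Cfsg.centralizerPPrimeCore p a)) (a : G) (ha : (orderOf a = p ∧ ¬ Cfsg.PRankLE p 2 ↥(Subgroup.centralizer ({a} : Set G)))) : Cfsg.generalizedFittingSubgroup ↥(Subgroup.centralizer ({a} : Set G)) = Cfsg.pCore p ↥(Subgroup.centralizer ({a} : Set G)) := by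
  have h0 : Cfsg.centralizerPPrimeCore p a = ⊥ :=
    Cfsg.Agent.SSF.equivariant_trivial (θ := Cfsg.centralizerPPrimeCore p)
      (fun b hb => ⟨Cfsg.Agent.SSF.Opc_le p _, fun hd => (Fact.out : p.Prime).one_lt.ne'
        (Nat.eq_one_of_dvd_coprimes (Cfsg.Agent.SSF.Opc_coprime p (Subgroup.centralizer ({b} : Set G))) hd dvd_rfl),
        (hL b hb).2⟩)
      (fun b g _ => ?_) (fun b b' hb hb' hbb => Cfsg.Agent.SSF.core_balance hb.1 hbb (hL b' hb').1) hO hconn ha
  · refine Cfsg.Agent.SSF.gfit_eq_of_core_bot ?_ (hL a ha).1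
    exact (Subgroup.map_eq_bot_iff_of_injective _ (Subgroup.subtype_injective _)).1 h0
  · show Cfsg.Agent.SSF.Opc p (Subgroup.centralizer ({g * b * g⁻¹} : Set G)) =
      Cfsg.Agent.Fusion.cj (Cfsg.Agent.SSF.Opc p (Subgroup.centralizer ({b} : Set G))) g
    rw [Cfsg.Agent.SSF.cj_Opc, Cfsg.Agent.SSF.cj_cent_singleton]

end Cfsg.Agent.S1295
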