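import Cfsg.Statements.S1300
import Mathlib


set_option autoImplicit false
open Cfsg

namespace Cfsg.Agent.S1300

/-- For a finite group G, balance in the sense of commuting involutions is the same as 1-balance for the prime 2. -/
theorem result {G : Type*} [Group G] [Finite G] : Cfsg.IsBalanced G ↔ Cfsg.IsKBalanced 2 1 G := by
  have hle : ∀ a : G, Cfsg.centralizerPPrimeCore 2 a ≤ Subgroup.centralizer {a} := fun a => Subgroup.map_subtype_le _
  have hdelta : ∀ a : G, orderOf a = 2 →
      Cfsg.signalizerDelta 2 (Subgroup.zpowers a) = Cfsg.centralizerPPrimeCore 2 a := by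
    intro a ha
    have h1 : a ≠ 1 := fun h => by rw [h, orderOf_one] at ha; omega
    have key : ∀ b ∈ Subgroup.zpowers a, b ≠ 1 → b = a := by
      intro b hb hb1
      obtain ⟨k, rfl⟩ := Subgroup.mem_zpowers_iff.1 hb
      rw [← zpow_mod_orderOf, ha] at hb1 ⊢
      rcases Int.emod_two_eq_zero_or_one k with h | h
      · exact absurd (by simp [h]) hb1
      · simp [h]
    refine le_antisymm (iInf_le_of_le ⟨a, Subgroup.mem_zpowers a, h1⟩ le_rfl) (le_iInf fun b => ?_)
    rw [key b.1 b.2.1 b.2.2]
  constructor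
  · intro h A hA hcard b hb hcomm
    rw [pow_one] at hcard
    haveI : Nontrivial A := Finite.one_lt_card_iff_nontrivial.1 (by omega)
    obtain ⟨⟨a, haA⟩, hane⟩ := exists_ne (1 : A)
    have ha1 : a ≠ 1 := fun he => hane (Subtype.ext he)
    have ha : orderOf a = 2 := orderOf_eq_prime (hA.2 a haA) ha1
    have hAeq : Subgroup.zpowers a = A :=
      Subgroup.eq_of_le_of_card_ge (Subgroup.zpowers_le.2 haA) (by rw [Nat.card_zpowers, ha, hcard])
    rw [← hAeq, hdelta a ha, h a b ha hb (hcomm a haA)]
    exact inf_le_left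
  · intro h x y hx hy hxy
    have key : ∀ a b : G, orderOf a = 2 → orderOf b = 2 → a * b = b * a →
        Cfsg.centralizerPPrimeCore 2 a ⊓ Subgroup.centralizer {b} ≤
          Cfsg.centralizerPPrimeCore 2 b ⊓ Subgroup.centralizer {a} := by
      intro a b ha hb hab
      refine le_inf ?_ (inf_le_left.trans (hle a))
      rw [← hdelta a ha]
      have hz : ∀ c ∈ Subgroup.zpowers a, c * b = b * c := fun c hc => by
        obtain ⟨k, rfl⟩ := Subgroup.mem_zpowers_iff.1 hc
        exact (Commute.zpow_left hab k).eq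
      refine h (Subgroup.zpowers a) ⟨inferInstance, fun c hc => ?_⟩ (by rw [Nat.card_zpowers, ha, pow_one]) b hb hz
      obtain ⟨k, rfl⟩ := Subgroup.mem_zpowers_iff.1 hc
      rw [← zpow_natCast, ← zpow_mul, mul_comm, zpow_mul, zpow_natCast, ← ha, pow_orderOf_eq_one, one_zpow]
    exact le_antisymm (key x y hx hy hxy) (key y x hy hx hxy.symm)

end Cfsg.Agent.S1300
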