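import Cfsg.Statements.S1297
import Cfsg.Agent.Lib.Fusion.LocalBalance
import Cfsg.Agent.S1300

set_option autoImplicit false
open Cfsg
open Cfsg.Agent.Fusion
open scoped commutatorElement

namespace Cfsg.Agent.S1297

set_option linter.style.haveILetI false

/-- Let G be finite. Suppose that for every involution x, writing C = C_G(x), every component K of C / O(C) has K / Z(K) locally balanced. Then G is balanced. -/
theorem result {G : Type*} [Group G] [Finite G] (h : ∀ x : G, orderOf x = 2 → ∀ K : Subgroup (↥(Subgroup.centralizer ({x} : Set G)) ⧸ Cfsg.oddCore ↥(Subgroup.centralizer ({x} : Set G))), Cfsg.IsComponent K → Cfsg.IsLocallyBalanced (↥K ⧸ Subgroup.center ↥K)) : Cfsg.IsBalanced G := by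
  refine Cfsg.Agent.S1300.result.2 ?_
  intro A hA hAk b hb hAb
  refine Cfsg.Agent.LocBal.delta_inf_le le_rfl hA hAk
    (fun a ha => Subgroup.mem_centralizer_singleton_iff.2 (hAb a ha)) fun J hJ => Or.inl ?_
  intro H hH B hB hBc
  haveI : Nontrivial B := Finite.one_lt_card_iff_nontrivial.1 (by omega)
  obtain ⟨⟨x, hxB⟩, hx⟩ := exists_ne (1 : B)
  have hx1 : x ≠ 1 := fun e => hx (Subtype.ext e)
  have hxo : orderOf x = 2 := orderOf_eq_prime (hB.2 x hxB) hx1
  rw [eq_bot_iff]
  exact (iInf_le_of_le (⟨x, hxB, hx1⟩ : {x // x ∈ B ∧ x ≠ 1}) le_rfl).trans (h b hb J hJ H hH x hxo).le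

end Cfsg.Agent.S1297
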