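import Cfsg.Statements.S1299
import Cfsg.Agent.Lib.Fusion.KBalancedGen
import Cfsg.Agent.Lib.Fusion.Cores

set_option autoImplicit false
open Cfsg
open Cfsg.Agent.Fusion
open scoped commutatorElement

namespace Cfsg.Agent.S1299

set_option linter.style.haveILetI false

/-- Let G be finite and k-balanced for the prime p (k ≥ 1), A an elementary abelian p-subgroup of order at least p^(k+2) such that O_{p'}(C_G(a)) is solvable for every non-identity a ∈ A. For a ∈ A put θ a = the subgroup generated by the Δ_G(D) ∩ C_G(a) over the subgroups D ≤ A of order p^k. Then θ is an A-signalizer functor. -/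
theorem result {G : Type*} [Group G] [Finite G] (p k : ℕ) [Fact p.Prime] (hk : 1 ≤ k) (hbal : Cfsg.IsKBalanced p k G) (A : Subgroup G) (hA : Cfsg.IsElementaryAbelian p A) (hAk : p ^ (k + 2) ≤ Nat.card ↥A) (hsolv : ∀ a ∈ A, a ≠ 1 → Group.IsSolvable ↥(Cfsg.centralizerPPrimeCore p a)) : Cfsg.IsSignalizerFunctor p A (fun a => ⨆ D : {D : Subgroup G // D ≤ A ∧ Nat.card ↥D = p ^ k}, Cfsg.signalizerDelta p (D : Subgroup G) ⊓ Subgroup.centralizer {a}) := by
  have hp := (Fact.out : p.Prime)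
  have hcl : ∀ x : G, Cfsg.centralizerPPrimeCore p x ≤ Subgroup.centralizer {x} := fun x =>
    Subgroup.map_subtype_le _
  have hcn : ∀ x : G, Subgroup.centralizer {x} ≤
      Subgroup.normalizer ((Cfsg.centralizerPPrimeCore p x : Subgroup G) : Set G) := fun x => by
    refine (Subgroup.normal_subgroupOf_iff_le_normalizer (hcl x)).1 ?_
    rw [Subgroup.subgroupOf, Cfsg.centralizerPPrimeCore,
      Subgroup.comap_map_eq_self_of_injective (Subgroup.subtype_injective _)]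
    infer_instance
  have hcp : ∀ x : G, ¬ p ∣ Nat.card (Cfsg.centralizerPPrimeCore p x) := fun x hd => by
    rw [Cfsg.centralizerPPrimeCore, Cfsg.Agent.Solv.card_map_subtype] at hd
    exact (Nat.Prime.coprime_iff_not_dvd hp).1 (Cfsg.Agent.Fusion.card_pPrimeCore_coprime p _).symm hd
  have hord : ∀ x ∈ A, x ≠ 1 → orderOf x = p := fun x hx h1 => orderOf_eq_prime (hA.2 x hx) h1
  have hAC : ∀ x ∈ A, A ≤ Subgroup.centralizer ({x} : Set G) := fun x hx y hy =>
    Subgroup.mem_centralizer_singleton_iff.2 (Cfsg.Agent.Fusion.elab_comm hA hy hx)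
  have hAΔ : ∀ D ≤ A, A ≤ Subgroup.normalizer ((Cfsg.signalizerDelta p D : Subgroup G) : Set G) := by
    intro D hD y hy
    refine Cfsg.Agent.Solv.mem_normalizer_of_conj_smul ?_
    refine Subgroup.eq_of_le_of_card_ge ?_ (by rw [Cfsg.Agent.Solv.card_conj_smul])
    rw [Cfsg.Agent.Solv.conj_smul_eq_map]
    rintro _ ⟨z, hz, rfl⟩
    refine Subgroup.mem_iInf.2 fun d => ?_
    exact (Subgroup.mem_normalizer_iff.1 (hcn d (hAC d (hD d.2.1) hy)) z).1 (Subgroup.mem_iInf.1 hz d)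
  have hAY : ∀ D ≤ A, ∀ x ∈ A, A ≤ Subgroup.normalizer
      ((Cfsg.signalizerDelta p D ⊓ Subgroup.centralizer {x} : Subgroup G) : Set G) := fun D hD x hx =>
    Cfsg.Agent.Solv.normalizer_smul_inf (hAΔ D hD)
      ((hAC x hx).trans Subgroup.le_normalizer)
  have hbalD : ∀ D ≤ A, Nat.card D = p ^ k → ∀ x ∈ A, x ≠ 1 →
      Cfsg.signalizerDelta p D ⊓ Subgroup.centralizer {x} ≤ Cfsg.centralizerPPrimeCore p x :=
    fun D hD hDc x hx h1 => hbal D (Cfsg.Agent.KBal.elab_le hA hD) hDc x (hord x hx h1)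
      fun d hd => Cfsg.Agent.Fusion.elab_comm hA (hD hd) hx
  have hbalΔ : ∀ D ≤ A, Nat.card D = p ^ k → ∀ B ≤ A,
      Cfsg.signalizerDelta p D ⊓ Subgroup.centralizer (B : Set G) ≤ Cfsg.signalizerDelta p B := by
    intro D hD hDc B hB z hz
    refine Subgroup.mem_iInf.2 fun b => hbalD D hD hDc b (hB b.2.1) b.2.2 ?_
    obtain ⟨hz1, hz2⟩ := Subgroup.mem_inf.1 hz
    exact Subgroup.mem_inf.2 ⟨hz1, Subgroup.mem_centralizer_singleton_iff.2
      (Subgroup.mem_centralizer_iff.1 hz2 b b.2.1).symm⟩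
  have hθle : ∀ a ∈ A, a ≠ 1 →
      (⨆ D : {D : Subgroup G // D ≤ A ∧ Nat.card ↥D = p ^ k},
        Cfsg.signalizerDelta p (D : Subgroup G) ⊓ Subgroup.centralizer {a}) ≤
        Cfsg.centralizerPPrimeCore p a :=
    fun a ha ha1 => iSup_le fun D => hbalD D D.2.1 D.2.2 a ha ha1
  have hθA : ∀ a ∈ A, A ≤ Subgroup.normalizer
      (((⨆ D : {D : Subgroup G // D ≤ A ∧ Nat.card ↥D = p ^ k},
        Cfsg.signalizerDelta p (D : Subgroup G) ⊓ Subgroup.centralizer {a}) : Subgroup G) : Set G) := by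
    intro a ha y hy
    refine Cfsg.Agent.Solv.mem_normalizer_of_conj_smul ?_
    rw [Cfsg.Agent.Solv.conj_smul_eq_map, Subgroup.map_iSup]
    refine iSup_congr fun D => ?_
    rw [← Cfsg.Agent.Solv.conj_smul_eq_map]
    exact Cfsg.Agent.Solv.conj_smul_of_mem_normalizer (hAY D D.2.1 a ha hy)
  refine ⟨fun a ha ha1 => iSup_le fun D => inf_le_right,
    fun a ha ha1 h => hcp a (h.trans (Subgroup.card_dvd_of_le (hθle a ha ha1))),
    fun a ha ha1 y hy z hz => (Subgroup.mem_normalizer_iff.1 (hθA a ha hy) z).1 hz, ?_⟩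
  intro a ha ha1 b hb hb1
  obtain ⟨H, hH⟩ : ∃ H, H = ⨆ D : {D : Subgroup G // D ≤ A ∧ Nat.card ↥D = p ^ k},
      Cfsg.signalizerDelta p (D : Subgroup G) ⊓ Subgroup.centralizer {a} := ⟨_, rfl⟩
  have hHle := hH ▸ hθle a ha ha1
  have hΔC : ∀ D ≤ A, Cfsg.signalizerDelta p D ≤ Subgroup.centralizer (D : Set G) := by
    intro D hD z hz
    refine Subgroup.mem_centralizer_iff.2 fun d hd => ?_
    by_cases hd1 : d = 1
    · rw [hd1, one_mul, mul_one]
    · exact (Subgroup.mem_centralizer_singleton_iff.1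
        (hcl d (Subgroup.mem_iInf.1 hz ⟨d, hd, hd1⟩))).symm
  have hsel : ∀ (E : Subgroup G), E ≤ A → ∀ B ∈ Cfsg.Agent.Solv.CycQuot E, p ^ (k + 1) ≤ Nat.card E →
      ∃ F, F ≤ B ∧ Nat.card F = p ^ k := by
    intro E hE B hB hEc
    have h1 := Cfsg.Agent.Fusion.card_le_mul_of_cycQuot (p := p) (Cfsg.Agent.KBal.elab_le hA hE) hB
    have h2 : p ^ k ≤ Nat.card B := Nat.le_of_mul_le_mul_left (by rw [← pow_succ']; omega) hp.pos
    obtain ⟨F, -, hF, hFc⟩ := Cfsg.Agent.KBal.exists_card_between (p := p) hA (hB.1.trans hE)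
      (bot_le : (⊥ : Subgroup G) ≤ B) (n := 0) (by rw [Subgroup.card_bot, pow_zero]) (Nat.zero_le k) h2
    exact ⟨F, hF, hFc⟩
  have D : Cfsg.Agent.KBal.Data p k A H
      (fun D => Cfsg.signalizerDelta p D ⊓ Subgroup.centralizer {a}) := by
    refine ⟨hA, hAk, hH ▸ hθA a ha, fun h => hcp a (h.trans (Subgroup.card_dvd_of_le hHle)),
      Cfsg.Agent.Solv.isSolvable_of_le hHle (hsolv a ha ha1), fun F hF hFc => le_inf ?_ ?_,
      fun F hF _ => hAY F hF a ha, ?_, ?_, ?_⟩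
    · exact hH ▸ le_iSup (fun D : {D : Subgroup G // D ≤ A ∧ Nat.card ↥D = p ^ k} =>
        Cfsg.signalizerDelta p (D : Subgroup G) ⊓ Subgroup.centralizer {a}) ⟨F, hF, hFc⟩
    · exact inf_le_left.trans (hΔC F hF)
    · intro F hF _ x hx
      obtain ⟨hxH, hxF⟩ := Subgroup.mem_inf.1 hx
      refine Cfsg.Agent.Solv.mem_normalizer_of_conj_smul ?_
      refine Subgroup.eq_of_le_of_card_ge ?_ (by rw [Cfsg.Agent.Solv.card_conj_smul])
      rw [Cfsg.Agent.Solv.conj_smul_eq_map]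
      rintro _ ⟨z, hz, rfl⟩
      obtain ⟨hz1, hz2⟩ := Subgroup.mem_inf.1 hz
      refine Subgroup.mem_inf.2 ⟨Subgroup.mem_iInf.2 fun d => ?_, ?_⟩
      · exact (Subgroup.mem_normalizer_iff.1 (hcn d (Subgroup.mem_centralizer_singleton_iff.2
          (Subgroup.mem_centralizer_iff.1 hxF d d.2.1).symm)) z).1 (Subgroup.mem_iInf.1 hz1 d)
      · exact mul_mem (mul_mem (hcl a (hHle hxH)) hz2) (inv_mem (hcl a (hHle hxH)))
    · intro F hF hFc F' hF' _ z hz
      obtain ⟨hz1, hz2⟩ := Subgroup.mem_inf.1 hz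
      exact Subgroup.mem_inf.2 ⟨hbalΔ F hF hFc F' hF'
        (Subgroup.mem_inf.2 ⟨(Subgroup.mem_inf.1 hz1).1, hz2⟩), (Subgroup.mem_inf.1 hz1).2⟩
    · intro E hE hEc
      rw [hH]
      refine iSup_le fun B => ?_
      have hco : (Nat.card E).Coprime
          (Nat.card (Cfsg.signalizerDelta p (B : Subgroup G) ⊓ Subgroup.centralizer {a} : Subgroup G)) :=
        ((Cfsg.Agent.Fusion.elab_coprime hA (fun h => hcp a (h.trans (Subgroup.card_dvd_of_le
          (hbalD B B.2.1 B.2.2 a ha ha1))))).coprime_dvd_left (Subgroup.card_dvd_of_le hE))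
      conv_lhs => rw [← Cfsg.Agent.Solv.gen_eq E _ (Cfsg.Agent.KBal.elab_le hA hE).1
        (hE.trans (hAY B B.2.1 a ha)) hco]
      refine iSup₂_le fun C hC => ?_
      obtain ⟨F, hFC, hFc⟩ := hsel E hE C hC hEc.ge
      refine le_trans ?_ (le_iSup (fun F : {F : Subgroup G // F ≤ E ∧ Nat.card F = p ^ k} =>
        Cfsg.signalizerDelta p (F : Subgroup G) ⊓ Subgroup.centralizer {a}) ⟨F, hFC.trans hC.1, hFc⟩)
      intro z hz
      obtain ⟨hz1, hz2⟩ := Subgroup.mem_inf.1 hz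
      exact Subgroup.mem_inf.2 ⟨hbalΔ B B.2.1 B.2.2 F ((hFC.trans hC.1).trans hE)
        (Subgroup.mem_inf.2 ⟨(Subgroup.mem_inf.1 hz1).1, Subgroup.centralizer_le hFC hz2⟩),
        (Subgroup.mem_inf.1 hz1).2⟩
  have hXA : A ≤ Subgroup.normalizer ((H ⊓ Subgroup.centralizer {b} : Subgroup G) : Set G) :=
    Cfsg.Agent.Solv.normalizer_smul_inf (hH ▸ hθA a ha) ((hAC b hb).trans Subgroup.le_normalizer)
  show (⨆ D : {D : Subgroup G // D ≤ A ∧ Nat.card ↥D = p ^ k},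
      Cfsg.signalizerDelta p (D : Subgroup G) ⊓ Subgroup.centralizer {a}) ⊓ Subgroup.centralizer {b} ≤ _
  rw [← hH, ← Cfsg.Agent.Solv.gen_eq A (H ⊓ Subgroup.centralizer {b}) hA.1 hXA
    (Cfsg.Agent.Fusion.elab_coprime hA fun h => hcp a (h.trans (Subgroup.card_dvd_of_le
      (inf_le_left.trans hHle))))]
  refine iSup₂_le fun C hC => ?_
  obtain ⟨F, hFC, hFc⟩ := hsel A le_rfl C hC (le_trans (Nat.pow_le_pow_right hp.pos (by omega)) hAk)
  refine le_trans ?_ (le_iSup (fun D : {D : Subgroup G // D ≤ A ∧ Nat.card ↥D = p ^ k} =>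
    Cfsg.signalizerDelta p (D : Subgroup G) ⊓ Subgroup.centralizer {b}) ⟨F, hFC.trans hC.1, hFc⟩)
  intro z hz
  obtain ⟨hz1, hz2⟩ := Subgroup.mem_inf.1 hz
  have h3 := Cfsg.Agent.KBal.fixed_le D (hFC.trans hC.1) hFc
    (Subgroup.mem_inf.2 ⟨(Subgroup.mem_inf.1 hz1).1, Subgroup.centralizer_le hFC hz2⟩)
  exact Subgroup.mem_inf.2 ⟨(Subgroup.mem_inf.1 h3).1, (Subgroup.mem_inf.1 hz1).2⟩

end Cfsg.Agent.S1299
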