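import Cfsg.Statements.S1301
import Cfsg.Agent.Lib.Fusion.LBalanceTwoApply
import Cfsg.Agent.Lib.Fusion.BpBalanceTools

set_option autoImplicit false
open Cfsg

namespace Cfsg.Agent.S1301

/-- L-balance: for a finite group X and a 2-subgroup T ≤ X, L_{2'}(C_X(T)) ≤ L_{2'}(X). -/
theorem result {X : Type*} [Group X] [Finite X] (T : Subgroup X) (hT : IsPGroup 2 ↥T) : (Cfsg.pLayer 2 ↥(Subgroup.centralizer (T : Set X))).map (Subgroup.centralizer (T : Set X)).subtype ≤ Cfsg.pLayer 2 X := by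
  haveI : Fact (Nat.Prime 2) := ⟨Nat.prime_two⟩
  refine le_trans ?_ (Cfsg.Agent.LBal.pLayer_balance_two hT)
  have hCN := Subgroup.centralizer_le_normalizer (T : Set X)
  haveI : ((Subgroup.centralizer (T : Set X)).subgroupOf (Subgroup.normalizer (T : Set X))).Normal :=
    (Subgroup.normal_subgroupOf_iff_le_normalizer hCN).2 fun v hv =>
      Cfsg.Agent.Fusion.mem_normalizer_of_cj_le (by
        rw [Cfsg.Agent.Fusion.cj_centralizer, Cfsg.Agent.Fusion.cj_eq_self hv])
  have hsn := Subgroup.Normal.isSubnormal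
    (inferInstance : ((Subgroup.centralizer (T : Set X)).subgroupOf (Subgroup.normalizer (T : Set X))).Normal)
  show Cfsg.pLayerOf 2 _ ≤ Cfsg.pLayerOf 2 _
  rw [Cfsg.Agent.BpBal.pLayerOf_eq, Cfsg.Agent.BpBal.pLayerOf_eq]
  exact sSup_le fun L hL => le_sSup (Cfsg.Agent.PComp.pcompOf_trans hL hCN hsn)

end Cfsg.Agent.S1301
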