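import Cfsg.Statements.S1302
import Cfsg.Agent.Lib.Fusion.BaerTrick
import Cfsg.Agent.Lib.Fusion.Critical
import Cfsg.Agent.Lib.Fusion.PConstrained
import Cfsg.Agent.Lib.Fusion.Reduction
import Cfsg.Agent.Lib.Solv.Coprime

set_option autoImplicit false
open Cfsg Cfsg.Agent
open Cfsg.Agent.Fusion
open scoped commutatorElement

namespace Cfsg.Agent.S1302

theorem core_case {G : Type*} [Group G] [Finite G] {p : ℕ} [Fact p.Prime] (hp2 : p ≠ 2)
    (hc : Subgroup.centralizer (Cfsg.pCore p G : Set G) ≤ Cfsg.pCore p G) {A Q : Subgroup G}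
    (hA : IsPGroup p A) (hΩ : ∀ x ∈ Subgroup.centralizer (A : Set G), orderOf x = p → x ∈ A)
    (hQ : ¬ p ∣ Nat.card Q) (hAQ : A ≤ Subgroup.normalizer (Q : Set G)) : Q = ⊥ := by
  obtain ⟨V, hV⟩ : ∃ V, V = Cfsg.pCore p G := ⟨_, rfl⟩
  rw [← hV] at hc
  haveI : V.Normal := hV ▸ inferInstance
  have hVp : IsPGroup p V := hV ▸ isPGroup_pCore p G
  obtain ⟨H, hHc, -, hH2, hH3⟩ := exists_critical hVp
  haveI := hHc
  obtain ⟨D, hD⟩ : ∃ D, D = H.map V.subtype := ⟨_, rfl⟩
  haveI hDn : D.Normal := hD ▸ inferInstance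
  have hDp : IsPGroup p D := hD ▸ (hVp.to_subgroup H).map V.subtype
  have hDV : D ≤ V := hD ▸ Subgroup.map_subtype_le H
  have hcD : ∀ x ∈ V, (∀ d ∈ D, d * x = x * d) → x ∈ D := by
    intro x hx hxd
    rw [hD]
    refine ⟨⟨x, hx⟩, hH3 (Subgroup.mem_centralizer_iff.2 fun y hy => Subtype.ext ?_), rfl⟩
    exact hxd y (hD ▸ Subgroup.mem_map_of_mem _ hy)
  have hDV2 : ∀ d ∈ D, ∀ v ∈ V, ∀ e ∈ D, ⁅d, v⁆ * e = e * ⁅d, v⁆ := by
    intro d hd v hv e he
    rw [hD] at hd he
    obtain ⟨d', hd', rfl⟩ := hd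
    obtain ⟨e', he', rfl⟩ := he
    have h := (Subgroup.mem_inf.1 (hH2 (Subgroup.commutator_mem_commutator hd' (Subgroup.mem_top ⟨v, hv⟩)))).2
    exact (congrArg Subtype.val (Subgroup.mem_centralizer_iff.1 h e' he')).symm
  have hcl : commutator ↥D ≤ Subgroup.center ↥D := by
    rw [commutator_def, Subgroup.commutator_le]
    intro a _ b _
    exact Subgroup.mem_center_iff.2 fun c => Subtype.ext (hDV2 a a.2 b (hDV b.2) c c.2).symm
  by_cases hQD : Q ≤ Subgroup.centralizer (D : Set G)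
  · -- `Q` centralises `V`
    have h1 : ⁅⁅Q, D⁆, V⁆ = ⊥ := by
      rw [Subgroup.commutator_eq_bot_iff_le_centralizer.2 hQD, Subgroup.commutator_bot_left]
    have hDVc : ⁅D, V⁆ ≤ D := Subgroup.commutator_le_left D V
    have h2 : ⁅⁅D, V⁆, Q⁆ = ⊥ := by
      rw [eq_bot_iff]
      refine (Subgroup.commutator_mono hDVc le_rfl).trans ?_
      rw [Subgroup.commutator_comm, Subgroup.commutator_eq_bot_iff_le_centralizer.2 hQD]
    have h3 : ⁅⁅V, Q⁆, D⁆ = ⊥ := Subgroup.commutator_commutator_eq_bot_of_rotate h1 h2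
    have hVQ : ⁅V, Q⁆ ≤ D := fun x hx => hcD x (Subgroup.commutator_le_left V Q hx) fun d hd =>
      Subgroup.mem_centralizer_iff.1 (Subgroup.commutator_eq_bot_iff_le_centralizer.1 h3 hx) d hd
    haveI := hVp.isNilpotent
    have hco : (Nat.card Q).Coprime (Nat.card V) := by
      obtain ⟨k, hk⟩ := IsPGroup.iff_card.1 hVp
      rw [hk]
      exact Nat.Coprime.pow_right k ((Nat.Prime.coprime_iff_not_dvd Fact.out).2 hQ).symm
    have h4 := Solv.commutator_commutator_eq (A := Q) (K := V) (by rw [Subgroup.normalizer_eq_top]; exact le_top) hco (Or.inr inferInstance)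
    have h5 : ⁅V, Q⁆ = ⊥ := by
      rw [← h4, eq_bot_iff]
      refine (Subgroup.commutator_mono hVQ le_rfl).trans ?_
      rw [Subgroup.commutator_comm, Subgroup.commutator_eq_bot_iff_le_centralizer.2 hQD]
    rw [Subgroup.commutator_comm, Subgroup.commutator_eq_bot_iff_le_centralizer] at h5
    have := coprime_inf_pGroup (p := p) (H := Q) (Q := V) (((Nat.Prime.coprime_iff_not_dvd Fact.out).2 hQ).symm) hVp
    rwa [inf_eq_left.2 (h5.trans hc)] at this
  exfalso
  let φ : ↥A →* MulAut ↥D := (MulAut.conjNormal (H := D)).comp A.subtype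
  let ψ : ↥Q →* MulAut ↥D := (MulAut.conjNormal (H := D)).comp Q.subtype
  have hne : ∃ q x, ψ q x ≠ x := by
    by_contra hno
    push Not at hno
    refine hQD fun q hq => Subgroup.mem_centralizer_iff.2 fun d hd => ?_
    have h := congrArg Subtype.val (hno ⟨q, hq⟩ ⟨d, hd⟩)
    simp only [ψ, MonoidHom.comp_apply, MulAut.conjNormal_apply, Subgroup.coe_subtype] at h
    rw [mul_inv_eq_iff_eq_mul] at h
    exact h.symm
  let σ : ↥A → ↥Q ≃ ↥Q := fun a =>
    { toFun := fun q => ⟨(a : G) * q * (a : G)⁻¹, (Subgroup.mem_normalizer_iff.1 (hAQ a.2) _).1 q.2⟩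
      invFun := fun q => ⟨(a : G)⁻¹ * q * (a : G), by
        simpa using (Subgroup.mem_normalizer_iff.1 (hAQ (inv_mem a.2)) _).1 q.2⟩
      left_inv := fun q => Subtype.ext (by simp [mul_assoc])
      right_inv := fun q => Subtype.ext (by simp [mul_assoc]) }
  obtain ⟨d, hd, hdA, q, hdq⟩ := exists_fixed_order_p_not_fixed hp2 hDp hcl φ ψ hA hQ σ (fun a q x => by
    refine Subtype.ext ?_
    simp only [φ, ψ, σ, Equiv.coe_fn_mk, MonoidHom.comp_apply, MulAut.conjNormal_apply, Subgroup.coe_subtype]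
    group) hne
  have hdA' : (d : G) ∈ A := by
    refine hΩ _ (Subgroup.mem_centralizer_iff.2 fun a ha => ?_) (by rw [Subgroup.orderOf_coe]; exact hd)
    have h := congrArg Subtype.val (hdA ⟨a, ha⟩)
    simp only [φ, MonoidHom.comp_apply, MulAut.conjNormal_apply, Subgroup.coe_subtype] at h
    rwa [mul_inv_eq_iff_eq_mul] at h
  apply hdq
  have hmem : (q : G) * d * (q : G)⁻¹ * (d : G)⁻¹ ∈ Q ⊓ D := by
    refine Subgroup.mem_inf.2 ⟨?_, mul_mem (hDn.conj_mem _ d.2 _) (inv_mem d.2)⟩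
    rw [show (q : G) * d * (q : G)⁻¹ * (d : G)⁻¹ = q * ((d : G) * (q : G)⁻¹ * (d : G)⁻¹) by group]
    exact mul_mem q.2 ((Subgroup.mem_normalizer_iff.1 (hAQ hdA') _).1 (inv_mem q.2))
  rw [coprime_inf_pGroup (((Nat.Prime.coprime_iff_not_dvd Fact.out).2 hQ).symm) hDp, Subgroup.mem_bot, mul_inv_eq_one] at hmem
  exact Subtype.ext (by simp only [ψ, MonoidHom.comp_apply, MulAut.conjNormal_apply, Subgroup.coe_subtype]; exact hmem)


/-- Let X be a finite p-constrained group, p an odd prime, and A an abelian p-subgroup of X containing every element of order p of C_X(A). Then every subgroup of X of order prime to p that is normalized by A lies in O_{p'}(X). -/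
theorem result {X : Type*} [Group X] [Finite X] (p : ℕ) [Fact p.Prime] (hp : p ≠ 2) (hX : Cfsg.IsPConstrained p X) (A : Subgroup X) (hA : IsMulCommutative ↥A) (hAp : IsPGroup p ↥A) (hΩ : ∀ x ∈ Subgroup.centralizer (A : Set X), orderOf x = p → x ∈ A) (Q : Subgroup X) (hQ : ¬ p ∣ Nat.card ↥Q) (hAQ : A ≤ Subgroup.normalizer (Q : Set X)) : Q ≤ Cfsg.pPrimeCore p X := by
  obtain ⟨R, hR⟩ : ∃ R, R = Cfsg.pPrimeCore p X := ⟨_, rfl⟩
  haveI : R.Normal := hR ▸ inferInstance
  have hRc : (Nat.card R).Coprime p := hR ▸ card_pPrimeCore_coprime p X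
  have hc : Subgroup.centralizer (Cfsg.pCore p (X ⧸ R) : Set (X ⧸ R)) ≤ Cfsg.pCore p (X ⧸ R) := by
    subst hR; exact isPConstrained_iff.1 hX
  set π := QuotientGroup.mk' R with hπ
  rw [← hR]
  have h := core_case hp hc (A := A.map π) (Q := Q.map π) (hAp.map π) ?_
    (fun hd => hQ (hd.trans (Subgroup.card_map_dvd Q π))) ?_
  · rwa [Subgroup.map_eq_bot_iff, QuotientGroup.ker_mk'] at h
  · intro y hy hyo
    obtain ⟨x, hx, hxy⟩ := exists_lift_normalizer hRc hAp (Subgroup.centralizer_le_normalizer _ hy)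
    have hxC : x ∈ Subgroup.centralizer (A : Set X) := Subgroup.mem_centralizer_iff.2 fun a ha => by
      have e : π (x * a * x⁻¹) = π a := by
        rw [map_mul, map_mul, map_inv, show π x = y from hxy,
          ← Subgroup.mem_centralizer_iff.1 hy (π a) (Subgroup.mem_map_of_mem π ha), mul_inv_cancel_right]
      have h1 := injOn_mk_of_coprime hRc hAp ((Subgroup.mem_normalizer_iff.1 hx a).1 ha) ha e
      exact (mul_inv_eq_iff_eq_mul.1 h1).symm
    -- pass to the p-part
    obtain ⟨m, hm⟩ : ∃ m, m = orderOf x / p ^ (orderOf x).factorization p := ⟨_, rfl⟩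
    have hmc : p.Coprime m := hm ▸ Nat.coprime_ordCompl Fact.out (orderOf_pos x).ne'
    obtain ⟨t, ht⟩ := exists_pow_eq_self_of_coprime (show m.Coprime (orderOf y) from hyo ▸ hmc.symm)
    obtain ⟨z, hz⟩ : ∃ z, z = (x ^ m) ^ t := ⟨_, rfl⟩
    have hzy : π z = y := by rw [hz, map_pow, map_pow, show π x = y from hxy, ht]
    have hzp : z ^ p = 1 := by
      have h1 : z ^ p ∈ R := by
        rw [← QuotientGroup.eq_one_iff]
        show π (z ^ p) = 1
        rw [map_pow, hzy, ← hyo, pow_orderOf_eq_one]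
      have h2 : (x ^ m) ^ p ^ (orderOf x).factorization p = 1 := by
        rw [← pow_mul, hm, mul_comm, Nat.ordProj_mul_ordCompl_eq_self, pow_orderOf_eq_one]
      have h3 : IsPGroup p ↥(Subgroup.zpowers z) := by
        refine IsPGroup.of_card_dvd_pow (p := p) (n := (orderOf x).factorization p) ?_
        rw [Nat.card_zpowers, hz]
        refine orderOf_dvd_of_pow_eq_one ?_
        rw [← pow_mul, mul_comm, pow_mul, h2, one_pow]
      have h4 := coprime_inf_pGroup hRc h3
      have h5 : z ^ p ∈ R ⊓ Subgroup.zpowers z := Subgroup.mem_inf.2 ⟨h1, Subgroup.npow_mem_zpowers z p⟩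
      rwa [h4, Subgroup.mem_bot] at h5
    have hzo : orderOf z = p := orderOf_eq_prime hzp fun e => by
      rw [e, map_one] at hzy
      rw [← hzy, orderOf_one] at hyo
      exact (Fact.out : p.Prime).ne_one hyo.symm
    rw [← hzy]
    exact Subgroup.mem_map_of_mem π (hΩ z (hz ▸ pow_mem (pow_mem hxC _) _) hzo)
  · exact (Subgroup.map_mono hAQ).trans (Subgroup.le_normalizer_map π)

end Cfsg.Agent.S1302
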