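import Cfsg.Statements.S1303
import Cfsg.Agent.Lib.Lead.SL23
import Cfsg.Agent.Lib.Fusion.Cores

set_option autoImplicit false
open Cfsg
open Cfsg.Agent.Fusion
open scoped commutatorElement

namespace Cfsg.Agent.S1303

open Cfsg.Agent.Lead.SL23

theorem inv_central : ∀ t : S3, t * t = 1 → t ≠ 1 → ∀ g : S3, g * t = t * g := by decide +kernel

theorem three_moved : ∀ x : S3, x * x * x = 1 → x ≠ 1 →
    qi * x * qi⁻¹ ≠ 1 ∧ qi * x * qi⁻¹ ≠ x ∧ qi * x * qi⁻¹ ≠ x * x := by decide +kernel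

theorem cent_q : ∀ g : S3, g * qi = qi * g → g * qj = qj * g → g = 1 ∨ g = qi * qi := by
  decide +kernel

def tr : S3 := ⟨!![1, 1; 0, 1], by decide⟩

theorem tr_cube : tr * tr * tr = 1 ∧ tr ≠ 1 := by decide +kernel

theorem qFun_a1 : qFun (QuaternionGroup.a 1) = qi := by decide +kernel
theorem qFun_x0 : qFun (QuaternionGroup.xa 0) = qj := by decide +kernel

/-- The group X = SL(2, 3): it is 2-constrained, O_{2'}(X) = 1, its centre A = Z(X) contains every involution of X = C_X(A), and X has a subgroup of order 3 (normalized by A) not contained in O_{2'}(X). -/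
theorem result : Cfsg.IsPConstrained 2 (Matrix.SpecialLinearGroup (Fin 2) (ZMod 3)) ∧ Cfsg.pPrimeCore 2 (Matrix.SpecialLinearGroup (Fin 2) (ZMod 3)) = ⊥ ∧ (∀ t : Matrix.SpecialLinearGroup (Fin 2) (ZMod 3), orderOf t = 2 → t ∈ Subgroup.center (Matrix.SpecialLinearGroup (Fin 2) (ZMod 3))) ∧ ∃ Q : Subgroup (Matrix.SpecialLinearGroup (Fin 2) (ZMod 3)), Nat.card ↥Q = 3 ∧ ¬ (Q ≤ Cfsg.pPrimeCore 2 (Matrix.SpecialLinearGroup (Fin 2) (ZMod 3))) := by
  haveI : Fact (Nat.Prime 2) := ⟨Nat.prime_two⟩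
  haveI : Fact (Nat.Prime 3) := ⟨by norm_num⟩
  have hcard : Nat.card (Matrix.SpecialLinearGroup (Fin 2) (ZMod 3)) = 24 := by
    rw [Nat.card_eq_fintype_card]; decide +kernel
  have hbot : Cfsg.pPrimeCore 2 (Matrix.SpecialLinearGroup (Fin 2) (ZMod 3)) = ⊥ := by
    set N := Cfsg.pPrimeCore 2 (Matrix.SpecialLinearGroup (Fin 2) (ZMod 3))
    have hco : (Nat.card N).Coprime 2 := card_pPrimeCore_coprime 2 _
    have hd : Nat.card N ∣ 24 := hcard ▸ N.card_subgroup_dvd_card
    have h3 : Nat.card N ∣ 3 :=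
      Nat.Coprime.dvd_of_dvd_mul_left (hco.pow_right 3) (by simpa using hd)
    refine (Subgroup.eq_bot_iff_forall _).2 fun x hx => ?_
    by_contra hx1
    have hpow : ∀ y ∈ N, y * y * y = 1 := fun y hy => by
      have h0 : orderOf y ∣ 3 := by
        rw [← Subgroup.orderOf_mk y hy]; exact (orderOf_dvd_natCard _).trans h3
      have h1 : y ^ 3 = 1 := orderOf_dvd_iff_pow_eq_one.1 h0
      rwa [pow_succ, pow_two] at h1
    obtain ⟨m1, m2, m3⟩ := three_moved x (hpow x hx) hx1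
    have hy : qi * x * qi⁻¹ ∈ N := (inferInstance : N.Normal).conj_mem _ hx _
    have hN : N = Subgroup.zpowers x := by
      refine (Subgroup.eq_of_le_of_card_ge (Subgroup.zpowers_le.2 hx) ?_).symm
      rw [Nat.card_zpowers, orderOf_eq_prime (by rw [pow_succ, pow_two]; exact hpow x hx) hx1]
      exact Nat.le_of_dvd (by norm_num) h3
    rw [hN, ← mem_powers_iff_mem_zpowers] at hy
    obtain ⟨k, hk⟩ := hy
    have hk' : x ^ (k % 3) = qi * x * qi⁻¹ := by
      rw [← hk]
      exact (pow_eq_pow_mod k (by rw [pow_succ, pow_two]; exact hpow x hx)).symm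
    have hlt : k % 3 < 3 := Nat.mod_lt _ (by norm_num)
    interval_cases h : k % 3
    · exact m1 (by rw [← hk', pow_zero])
    · exact m2 (by rw [← hk', pow_one])
    · exact m3 (by rw [← hk', pow_two])
  refine ⟨?_, hbot, fun t ht => Subgroup.mem_center_iff.2 ?_, ⟨Subgroup.zpowers tr, ?_, ?_⟩⟩
  · intro P
    set Q := qHom.range
    haveI : Q.Normal := normal_range
    have hQp : IsPGroup 2 Q := IsPGroup.of_card (n := 3) (by
      rw [← Nat.card_congr (MonoidHom.ofInjective qHom_inj).toEquiv, Nat.card_eq_fintype_card,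
        QuaternionGroup.card]; rfl)
    have hQO : Q ≤ (Cfsg.pPrimePCore 2 (Matrix.SpecialLinearGroup (Fin 2) (ZMod 3))) := by
      refine Subgroup.map_le_iff_le_comap.1 (le_pCore (hn := ?_) (hQp.map _))
      exact Subgroup.Normal.map inferInstance _ (QuotientGroup.mk'_surjective _)
    have hQP : Q ≤ (P : Subgroup (Cfsg.pPrimePCore 2 (Matrix.SpecialLinearGroup (Fin 2) (ZMod 3)))).map (Cfsg.pPrimePCore 2 (Matrix.SpecialLinearGroup (Fin 2) (ZMod 3))).subtype := by
      have hN : (Q.subgroupOf (Cfsg.pPrimePCore 2 (Matrix.SpecialLinearGroup (Fin 2) (ZMod 3)))).Normal := inferInstance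
      have hp' : IsPGroup 2 (Q.subgroupOf (Cfsg.pPrimePCore 2 (Matrix.SpecialLinearGroup (Fin 2) (ZMod 3)))) := hQp.comap_subtype
      have := hp'.le_sylow_of_normal P
      calc Q = (Q.subgroupOf (Cfsg.pPrimePCore 2 (Matrix.SpecialLinearGroup (Fin 2) (ZMod 3)))).map (Cfsg.pPrimePCore 2 (Matrix.SpecialLinearGroup (Fin 2) (ZMod 3))).subtype := (Subgroup.map_subgroupOf_eq_of_le hQO).symm
        _ ≤ _ := Subgroup.map_mono this
    intro g hg
    have hc := Subgroup.mem_centralizer_iff.1 hg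
    have hi : qi ∈ Q := ⟨QuaternionGroup.a 1, (qFun_a1 : qFun _ = qi)⟩
    have hj : qj ∈ Q := ⟨QuaternionGroup.xa 0, (qFun_x0 : qFun _ = qj)⟩
    rcases cent_q g (hc _ (hQP hi)).symm (hc _ (hQP hj)).symm with rfl | rfl
    · exact (Cfsg.pPrimePCore 2 (Matrix.SpecialLinearGroup (Fin 2) (ZMod 3))).one_mem
    · exact hQO (Q.mul_mem hi hi)
  · exact inv_central t (by have h2 := pow_orderOf_eq_one t; rw [ht, pow_two] at h2; exact h2)
      (fun e => by rw [e, orderOf_one] at ht; omega)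
  · rw [Nat.card_zpowers]
    exact orderOf_eq_prime (by rw [pow_succ, pow_two]; exact tr_cube.1) tr_cube.2
  · rw [hbot, le_bot_iff, Subgroup.zpowers_eq_bot]
    exact tr_cube.2

end Cfsg.Agent.S1303
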