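import Cfsg.Statements.S1304
import Mathlib


set_option autoImplicit false
open Cfsg
open scoped commutatorElement

namespace Cfsg.Agent.S1304

/-- Let X be a perfect group and α an automorphism of X with α(x) x⁻¹ central for every x. Then α is the identity. -/
theorem result {X : Type*} [Group X] (hperf : commutator X = ⊤) (α : X ≃* X) (h : ∀ x : X, α x * x⁻¹ ∈ Subgroup.center X) : ∀ x : X, α x = x := by
  have hgen : ∀ a b : X, α ⁅a, b⁆ = ⁅a, b⁆ := by
    intro a b
    obtain ⟨u, hu, hua⟩ : ∃ u ∈ Subgroup.center X, α a = u * a := ⟨_, h a, (inv_mul_cancel_right _ _).symm⟩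
    obtain ⟨v, hv, hvb⟩ : ∃ v ∈ Subgroup.center X, α b = v * b := ⟨_, h b, (inv_mul_cancel_right _ _).symm⟩
    have hu' : ∀ y : X, u * y = y * u := fun y => (Subgroup.mem_center_iff.1 hu y).symm
    have hv' : ∀ y : X, v * y = y * v := fun y => (Subgroup.mem_center_iff.1 hv y).symm
    rw [map_commutatorElement, hua, hvb, commutatorElement_def, commutatorElement_def]
    calc u * a * (v * b) * (u * a)⁻¹ * (v * b)⁻¹ = u * (a * v) * b * a⁻¹ * u⁻¹ * b⁻¹ * v⁻¹ := by group
      _ = v * (u * (a * b * a⁻¹) * u⁻¹ * b⁻¹) * v⁻¹ := by rw [← hv' a, ← mul_assoc u, hu' v]; group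
      _ = a * b * a⁻¹ * b⁻¹ := by rw [hv', mul_inv_cancel_right, hu', mul_inv_cancel_right]
  intro x
  have hle : commutator X ≤ α.toMonoidHom.eqLocus (MonoidHom.id X) := by
    rw [commutator_eq_closure, Subgroup.closure_le]
    rintro _ ⟨a, b, rfl⟩
    exact hgen a b
  exact hle (hperf.symm ▸ Subgroup.mem_top x)

end Cfsg.Agent.S1304
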