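import Cfsg.Statements.S1305
import Cfsg.Agent.Lib.Fusion.ComponentDiag
import Cfsg.Agent.Lib.Fusion.LBalanceTwoApply
import Cfsg.Agent.Lib.Fusion.BpBalanceTools
import Cfsg.Agent.Lib.Fusion.LocalLayer

set_option autoImplicit false
open Cfsg Cfsg.Agent Cfsg.Agent.Fusion
open scoped commutatorElement Pointwise

namespace Cfsg.Agent.S1305

universe u

/-- With the B-property and trivial core, the 2-layer of an involution centralizer is its layer. -/
theorem pLayer_le_layer {G : Type u} [Group G] [Finite G] (hO : Cfsg.oddCore G = ⊥) (hB : Cfsg.HasBProperty G)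
    (b : G) (hb : orderOf b = 2) :
    Cfsg.pLayer 2 ↥(Subgroup.centralizer ({b} : Set G)) ≤ Cfsg.layer ↥(Subgroup.centralizer ({b} : Set G)) := by
  haveI : Fact (Nat.Prime 2) := ⟨Nat.prime_two⟩
  obtain ⟨Y, hY⟩ : ∃ Y, Y = Subgroup.centralizer ({b} : Set G) := ⟨_, rfl⟩
  have h := hB b hb
  rw [hO, le_bot_iff, Subgroup.map_eq_bot_iff_of_injective _ (Subgroup.subtype_injective _)] at h
  refine sSup_le fun L hL => Solv.component_le_layer ⟨hL.1, ?_⟩
  obtain ⟨π, hπ⟩ : ∃ π : ↥(Subgroup.centralizer ({b} : Set G)) →* _,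
      π = QuotientGroup.mk' (Cfsg.pPrimeCore 2 ↥(Subgroup.centralizer ({b} : Set G))) := ⟨_, rfl⟩
  refine qs_of_central_kernel (π.subgroupMap L) (π.subgroupMap_surjective L)
    (Subgroup.isPerfect_iff.2 (pComponent_perfect hL)) (fun z hz => ?_) (hπ ▸ hL.2.1.2)
  have hzO : (z : ↥(Subgroup.centralizer ({b} : Set G))) ∈ Cfsg.pPrimeCore 2 _ := by
    rw [← QuotientGroup.eq_one_iff]
    show QuotientGroup.mk' _ _ = 1
    rw [← hπ]
    exact congrArg Subtype.val (MonoidHom.mem_ker.1 hz)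
  refine Subgroup.mem_center_iff.2 fun w => Subtype.ext ?_
  have h1 : ⁅(w : ↥(Subgroup.centralizer ({b} : Set G))), (z : ↥(Subgroup.centralizer ({b} : Set G)))⁆ ∈
      ⁅Cfsg.pLayer 2 ↥(Subgroup.centralizer ({b} : Set G)), Cfsg.oddCore ↥(Subgroup.centralizer ({b} : Set G))⁆ :=
    Subgroup.commutator_mem_commutator ((le_sSup hL : L ≤ Cfsg.pLayer 2 _) w.2) hzO
  rw [h, Subgroup.mem_bot, commutatorElement_eq_one_iff_mul_comm] at h1
  exact h1

/-- Let G be a finite group of component type with the B-property and no nontrivial normal subgroup of odd order. Let a be an involution and K a component of C_G(a) such that (a) |K| is maximal among the orders of components of centralizers of involutions of G, (b) subject to (a) the 2-rank of the centralizer of K in C_G(a) is as large as possible, and (c) K has 2-rank at least 2. If B is an elementary abelian 2-subgroup of that centralizer of the largest possible order, then K is a component of C_G(b)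 for every non-identity b ∈ B. -/
theorem result {G : Type*} [Group G] [Finite G] (hO : Cfsg.oddCore G = ⊥) (hB : Cfsg.HasBProperty G) (hct : Cfsg.IsComponentType G) (a : G) (ha : orderOf a = 2) (K : Subgroup G) (hKa : K ≤ Subgroup.centralizer ({a} : Set G)) (hK : Cfsg.IsComponent (K.subgroupOf (Subgroup.centralizer ({a} : Set G)))) (hmax : ∀ y : G, orderOf y = 2 → ∀ K' : Subgroup G, K' ≤ Subgroup.centralizer ({y} : Set G) → Cfsg.IsComponent (K'.subgroupOf (Subgroup.centralizer ({y} : Set G))) → Nat.card ↥K' ≤ Nat.card ↥K ∧ (Nat.card ↥K' = Nat.card ↥K → ∀ k : ℕ, Cfsg.PRankLE 2 k ↥(Subgroup.centralizer ({a} : Set G) ⊓ Subgroup.centralizer (K : Set G)) → Cfsg.PRankLE 2 k ↥(Subgroup.centralizer ({y} : Set G) ⊓ Subgroup.centralizer (K' : Set G)))) (hrk : ¬ Cfsg.PRankLE 2 1 ↥K) (B : Subgroup G) (hBle : B ≤ Subgroup.centralizer ({a} : Set G) ⊓ Subgroup.centralizer (K : Set G)) (hBel : Cfsg.IsElementaryAbelian 2 B) (hBmax : ∀ B' : Subgroup G, B'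 ≤ Subgroup.centralizer ({a} : Set G) ⊓ Subgroup.centralizer (K : Set G) → Cfsg.IsElementaryAbelian 2 B' → Nat.card ↥B' ≤ Nat.card ↥B) (b : G) (hb : b ∈ B) (hb1 : b ≠ 1) : K ≤ Subgroup.centralizer ({b} : Set G) ∧ Cfsg.IsComponent (K.subgroupOf (Subgroup.centralizer ({b} : Set G))) := by
  haveI : Fact (Nat.Prime 2) := ⟨Nat.prime_two⟩
  have hBa : ∀ x ∈ B, x * a = a * x := fun x hx =>
    Subgroup.mem_centralizer_singleton_iff.1 (Subgroup.mem_inf.1 (hBle hx)).1
  have hBK : ∀ x ∈ B, x ∈ Subgroup.centralizer (K : Set G) := fun x hx => (Subgroup.mem_inf.1 (hBle hx)).2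
  obtain ⟨hBcomm, hBexp⟩ := hBel
  -- `a` lies in `B`
  have haB : a ∈ B := by
    have hBZ : B ≤ Subgroup.centralizer ({a} : Set G) := hBle.trans inf_le_left
    have hle : Subgroup.zpowers a ⊔ B ≤ Subgroup.centralizer ({a} : Set G) ⊓ Subgroup.centralizer (K : Set G) :=
      sup_le (Subgroup.zpowers_le.2 (Subgroup.mem_inf.2 ⟨Subgroup.mem_centralizer_singleton_iff.2 rfl,
        Subgroup.mem_centralizer_iff.2 fun k hk => Subgroup.mem_centralizer_singleton_iff.1 (hKa hk)⟩)) hBle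
    have hset : ∀ {x : G}, x ∈ Subgroup.zpowers a ⊔ B → ∃ i : ℤ, ∃ y ∈ B, x = a ^ i * y := fun {x} hx => by
      rw [← SetLike.mem_coe, Subgroup.coe_mul_of_left_le_normalizer_right _ B (Subgroup.zpowers_le.2
        (Subgroup.centralizer_le_normalizer _ (Subgroup.mem_centralizer_iff.2 fun y hy => hBa y hy)))] at hx
      obtain ⟨_, ⟨i, rfl⟩, y, hy, rfl⟩ := hx
      exact ⟨i, y, hy, rfl⟩
    have hca : ∀ (i : ℤ), ∀ y ∈ B, Commute (a ^ i) y := fun i y hy => ((show Commute y a from hBa y hy).zpow_right i).symm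
    have hel : Cfsg.IsElementaryAbelian 2 (Subgroup.zpowers a ⊔ B : Subgroup G) := by
      refine ⟨?_, ?_⟩
      · refine ⟨⟨fun u v => Subtype.ext ?_⟩⟩
        obtain ⟨i, y, hy, hu⟩ := hset u.2
        obtain ⟨j, z, hz, hv⟩ := hset v.2
        show (u : G) * v = v * u
        have hyz : Commute y z := congrArg Subtype.val (hBcomm.1.1 ⟨y, hy⟩ ⟨z, hz⟩)
        rw [hu, hv]
        exact ((((Commute.refl a).zpow_zpow i j).mul_right (hca i z hz)).mul_left
          ((hca j y hy).symm.mul_right hyz)).eq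
      · intro u hu
        obtain ⟨i, y, hy, rfl⟩ := hset hu
        rw [(hca i y hy).mul_pow, hBexp y hy, mul_one, ← zpow_natCast, ← zpow_mul, mul_comm i, zpow_mul,
          zpow_natCast, ← ha, pow_orderOf_eq_one, one_zpow]
    rw [Subgroup.eq_of_le_of_card_ge (le_sup_right : B ≤ Subgroup.zpowers a ⊔ B) (hBmax _ hle hel)]
    exact Subgroup.mem_sup_left (Subgroup.mem_zpowers a)
  have hb2 : orderOf b = 2 := orderOf_eq_prime (hBexp b hb) hb1
  have hKb : K ≤ Subgroup.centralizer ({b} : Set G) := fun k hk =>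
    Subgroup.mem_centralizer_singleton_iff.2 (Subgroup.mem_centralizer_iff.1 (hBK b hb) k hk)
  refine ⟨hKb, ?_⟩
  have hab : a * b = b * a := (hBa b hb).symm
  obtain ⟨Cb, hCb⟩ : ∃ Cb, Cb = Subgroup.centralizer ({b} : Set G) := ⟨_, rfl⟩
  rw [← hCb] at hKb ⊢
  obtain ⟨a', ha'def⟩ : ∃ a' : Cb, (a' : G) = a :=
    ⟨⟨a, hCb ▸ Subgroup.mem_centralizer_singleton_iff.2 hab⟩, rfl⟩
  obtain ⟨K', hK'⟩ : ∃ K', K' = K.subgroupOf Cb := ⟨_, rfl⟩
  have hKqs : Cfsg.IsQuasisimple ↥K := Local.isQuasisimple_congr (Subgroup.subgroupOfEquivOfLe hKa) hK.2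
  have hK'qs : Cfsg.IsQuasisimple ↥K' := hK' ▸ Local.isQuasisimple_congr (Subgroup.subgroupOfEquivOfLe hKb).symm hKqs
  -- a four-group of `K`
  obtain ⟨E, hEc, hEe, hE2⟩ : ∃ E : Subgroup ↥K, IsMulCommutative E ∧ (∀ e ∈ E, e ^ 2 = 1) ∧ 4 ≤ Nat.card E := by
    unfold Cfsg.PRankLE at hrk
    push Not at hrk
    obtain ⟨E, h1, h2, h3⟩ := hrk
    refine ⟨E, h1, h2, ?_⟩
    have hp : IsPGroup 2 E := fun e => ⟨1, Subtype.ext (by simpa using h2 e e.2)⟩
    obtain ⟨n, hn⟩ := IsPGroup.iff_card.1 hp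
    rw [hn] at h3 ⊢
    have : 1 < n := (Nat.pow_lt_pow_iff_right one_lt_two).1 h3
    calc 4 = 2 ^ 2 := rfl
      _ ≤ 2 ^ n := Nat.pow_le_pow_right (by norm_num) this
  have hPQ : PComp.PQ 2 ↥K := by
    have hcz : Cfsg.pPrimeCore 2 ↥K ≤ Subgroup.center ↥K := by
      rcases Solv.qs_normal_le_center_or_top hKqs (Cfsg.pPrimeCore 2 ↥K) with h | h
      · exfalso
        have h4 := card_pPrimeCore_coprime 2 ↥K
        rw [h, Subgroup.card_top] at h4
        haveI : Nontrivial E := Finite.one_lt_card_iff_nontrivial.1 (by omega)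
        obtain ⟨e, he⟩ := exists_ne (1 : E)
        have h5 : orderOf (e : ↥K) = 2 := orderOf_eq_prime (hEe e e.2) fun h6 => he (Subtype.ext h6)
        exact coprime_card_iff_not_dvd.1 h4 (h5 ▸ orderOf_dvd_natCard _)
      · exact h
    haveI : Nontrivial (↥K ⧸ Cfsg.pPrimeCore 2 ↥K) := QuotientGroup.nontrivial_iff.2 fun h =>
      Solv.qs_center_ne_top hKqs (top_le_iff.1 (h ▸ hcz))
    refine ⟨BpBal.qs_image _ (QuotientGroup.mk'_surjective _) hKqs, fun W hW ht => ?_⟩
    rcases Solv.qs_subnormal hKqs hW with h | h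
    · exact h
    · exact absurd (top_le_iff.1 (ht ▸ sup_le h hcz)) (Solv.qs_center_ne_top hKqs)
  -- `K'` is a 2-component of the centralizer of `a'`
  have hKCa : K' ≤ Subgroup.centralizer ({a'} : Set Cb) := fun k hk => by
    rw [hK'] at hk
    rw [Subgroup.mem_centralizer_singleton_iff]
    refine Subtype.ext ?_
    rw [Subgroup.coe_mul, Subgroup.coe_mul, ha'def]
    exact Subgroup.mem_centralizer_singleton_iff.1 (hKa hk)
  have hI : Cfsg.IsPComponentOf 2 K' (Subgroup.centralizer ({a'} : Set Cb)) := by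
    refine PComp.pcompOf_iff.2 ⟨hKCa, ?_, hPQ.congr (hK' ▸ (Subgroup.subgroupOfEquivOfLe hKb).symm)⟩
    let f : Subgroup.centralizer ({a'} : Set Cb) →* Subgroup.centralizer ({a} : Set G) :=
      MonoidHom.mk' (fun v => ⟨((v : Cb) : G), Subgroup.mem_centralizer_singleton_iff.2 (by
        have h := congrArg Subtype.val (Subgroup.mem_centralizer_singleton_iff.1 v.2)
        rwa [Subgroup.coe_mul, Subgroup.coe_mul, ha'def] at h)⟩) fun _ _ => rfl
    have h1 := hK.1.comap f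
    rw [hK']
    exact h1
  have ha2 : a' ^ 2 = 1 := Subtype.ext (by
    rw [Subgroup.coe_pow, ha'def, ← ha, pow_orderOf_eq_one]; rfl)
  have hK'layer : K' ≤ Cfsg.layer Cb := by
    have hlay : Cfsg.pLayer 2 Cb ≤ Cfsg.layer Cb := hCb ▸ pLayer_le_layer hO hB b hb2
    refine le_trans ?_ hlay
    refine le_trans ?_ (LBal.pLayer_balance_two (R := Subgroup.zpowers a')
      (fun v => ⟨1, by
        obtain ⟨i, hi⟩ := Subgroup.mem_zpowers_iff.1 v.2
        refine Subtype.ext ?_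
        rw [Subgroup.coe_pow, ← hi, pow_one, ← zpow_natCast, ← zpow_mul, mul_comm, zpow_mul, zpow_natCast, ha2,
          one_zpow]
        rfl⟩))
    have hCN : Subgroup.centralizer ({a'} : Set Cb) ≤ Subgroup.normalizer (Subgroup.zpowers a' : Set Cb) := by
      rw [← Subgroup.centralizer_closure, ← Subgroup.zpowers_eq_closure]
      exact Subgroup.centralizer_le_normalizer _
    haveI := (Subgroup.normal_subgroupOf_iff_le_normalizer hCN).2 (fun v hv => mem_normalizer_of_cj_le (by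
      rw [← Subgroup.centralizer_closure, ← Subgroup.zpowers_eq_closure, cj_centralizer, cj_eq_self hv]))
    exact PComp.pcompOf_le_pLayerOf (PComp.pcompOf_trans hI hCN (Subgroup.Normal.isSubnormal inferInstance))
  obtain ⟨J, hJ, hne⟩ : ∃ J : Subgroup Cb, Cfsg.IsComponent J ∧ ¬ K' ≤ Subgroup.centralizer (J : Set Cb) := by
    by_contra hno
    refine Terminal.pcompOf_not_centralized hI (hK'layer.trans (sSup_le fun L hL => ?_))
    refine (Subgroup.le_centralizer_iff (H := K') (K := L)).1 ?_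
    by_contra hc
    exact hno ⟨L, hL, hc⟩
  have hJcard : Nat.card J ≤ Nat.card K ∧ (Nat.card J = Nat.card K → ∀ k : ℕ,
      Cfsg.PRankLE 2 k ↥(Subgroup.centralizer ({a} : Set G) ⊓ Subgroup.centralizer (K : Set G)) →
      Cfsg.PRankLE 2 k ↥(Subgroup.centralizer ({b} : Set G) ⊓
        Subgroup.centralizer ((J.map Cb.subtype : Subgroup G) : Set G))) := by
    have h := hmax b hb2 (J.map Cb.subtype) (hCb ▸ Subgroup.map_subtype_le J) (by
      subst hCb
      rw [Subgroup.subgroupOf, Subgroup.comap_map_eq_self_of_injective (Subgroup.subtype_injective _)]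
      exact hJ)
    rwa [Subgroup.card_map_of_injective Cb.subtype_injective] at h
  have hcardK' : Nat.card K' = Nat.card K := hK' ▸ Nat.card_congr (Subgroup.subgroupOfEquivOfLe hKb).toEquiv
  suffices hfin : Cfsg.IsComponent K' by rw [hK'] at hfin; exact hfin
  by_cases hm : a' ∈ Subgroup.normalizer (J : Set Cb)
  · have hle := CompDiag.pcomp_le_component hJ hm hI hK'layer hne
    rw [Subgroup.eq_of_le_of_card_ge hle (hcardK' ▸ hJcard.1)]
    exact hJ
  exfalso
  have h : CompDiag.Moved 2 a' J := ⟨ha2, hJ, hm⟩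
  have hdiag := h.pcomp_le_diag hI hK'layer hne
  have h1 : Nat.card h.diag.range ≤ Nat.card J :=
    Nat.card_le_card_of_surjective h.diag.rangeRestrict h.diag.rangeRestrict_surjective
  have h2 := Subgroup.card_le_of_le hdiag
  have hrange : K' = h.diag.range :=
    Subgroup.eq_of_le_of_card_ge hdiag (by have := hJcard.1; omega)
  have hcJK : Nat.card J = Nat.card K := by
    have := hJcard.1
    rw [hrange] at hcardK'
    omega
  have hinj : Function.Injective h.diag := by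
    have hbij := h.diag.rangeRestrict_surjective.bijective_of_nat_card_le (by
      rw [← hrange, hcardK', hcJK])
    exact fun u v huv => hbij.1 (Subtype.ext huv)
  -- `B` inside the centralizer of `b`
  have hBCb : B ≤ Cb := fun x hx => hCb ▸ Subgroup.mem_centralizer_singleton_iff.2
    (congrArg Subtype.val (hBcomm.1.1 ⟨x, hx⟩ ⟨b, hb⟩))
  obtain ⟨B₁, hB₁⟩ : ∃ B₁, B₁ = B.subgroupOf Cb ⊓ Subgroup.normalizer (J : Set Cb) := ⟨_, rfl⟩
  have hBa' : ∀ x ∈ B.subgroupOf Cb, x ∈ Subgroup.centralizer ({a'} : Set Cb) := fun x hx => by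
    rw [Subgroup.mem_centralizer_singleton_iff]
    refine Subtype.ext ?_
    rw [Subgroup.coe_mul, Subgroup.coe_mul, ha'def]
    exact hBa _ hx
  have hBdiag : ∀ x ∈ B.subgroupOf Cb, x ∈ Subgroup.centralizer (h.diag.range : Set Cb) := fun x hx => by
    rw [← hrange, hK']
    exact Subgroup.mem_centralizer_iff.2 fun k hk => Subtype.ext (by
      rw [Subgroup.coe_mul, Subgroup.coe_mul]
      exact Subgroup.mem_centralizer_iff.1 (hBK _ hx) _ hk)
  have hB₁J : ∀ x ∈ B₁, x ∈ Subgroup.centralizer (J : Set Cb) := fun x hx => by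
    obtain ⟨hxB, hxN⟩ := Subgroup.mem_inf.1 (hB₁ ▸ hx)
    exact h.centralizes hinj (hBa' x hxB) hxN (hBdiag x hxB)
  have hcardB : Nat.card B ≤ 2 * Nat.card B₁ := by
    have haB' : a' ∈ B.subgroupOf Cb := Subgroup.mem_subgroupOf.2 (by rw [ha'def]; exact haB)
    have hle : B.subgroupOf Cb ≤ Subgroup.zpowers a' ⊔ B₁ := fun x hx => by
      obtain ⟨k, hk⟩ := h.perm (hBdiag x hx)
      have h3 : (a' ^ k)⁻¹ * x ∈ B₁ :=
        hB₁ ▸ Subgroup.mem_inf.2 ⟨mul_mem (inv_mem (pow_mem haB' k)) hx, hk⟩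
      have h4 := mul_mem (Subgroup.mem_sup_left (Subgroup.npow_mem_zpowers a' k))
        (Subgroup.mem_sup_right (S := Subgroup.zpowers a') h3)
      rwa [mul_inv_cancel_left] at h4
    have hz : Nat.card (Subgroup.zpowers a') ≤ 2 := by
      rw [Nat.card_zpowers]; exact Nat.le_of_dvd two_pos (orderOf_dvd_of_pow_eq_one ha2)
    calc Nat.card B = Nat.card (B.subgroupOf Cb) :=
          (Nat.card_congr (Subgroup.subgroupOfEquivOfLe hBCb).toEquiv).symm
      _ ≤ Nat.card (Subgroup.zpowers a' ⊔ B₁ : Subgroup Cb) := Subgroup.card_le_of_le hle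
      _ ≤ Nat.card (Subgroup.zpowers a') * Nat.card B₁ := by
          have hn : Subgroup.zpowers a' ≤ Subgroup.normalizer (B₁ : Set Cb) := Subgroup.zpowers_le.2
            (Subgroup.centralizer_le_normalizer _ (Subgroup.mem_centralizer_iff.2 fun y hy =>
              Subgroup.mem_centralizer_singleton_iff.1 (hBa' y (Subgroup.mem_inf.1 (hB₁ ▸ hy)).1)))
          rw [← Nat.card_prod]
          refine Nat.card_le_card_of_surjective (fun q : Subgroup.zpowers a' × B₁ =>
            (⟨(q.1 : Cb) * q.2, mul_mem (Subgroup.mem_sup_left q.1.2) (Subgroup.mem_sup_right q.2.2)⟩ :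
              (Subgroup.zpowers a' ⊔ B₁ : Subgroup Cb))) fun w => ?_
          have hw := w.2
          rw [← SetLike.mem_coe, Subgroup.coe_mul_of_left_le_normalizer_right _ B₁ hn] at hw
          obtain ⟨z, hz, v, hv, he⟩ := hw
          exact ⟨⟨⟨z, hz⟩, ⟨v, hv⟩⟩, Subtype.ext he⟩
      _ ≤ _ := Nat.mul_le_mul_right _ hz
  -- a four-group in the conjugate of `J`
  let e : ↥J ≃* ↥K := (MonoidHom.ofInjective hinj).trans
    ((MulEquiv.subgroupCongr (hrange.symm.trans hK')).trans (Subgroup.subgroupOfEquivOfLe hKb))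
  obtain ⟨F, hF⟩ : ∃ F, F = (E.comap e.toMonoidHom).map (CompDiag.phi a' J (1 : ZMod 2)) := ⟨_, rfl⟩
  have hFcard : 4 ≤ Nat.card F := by
    rw [hF, Subgroup.card_map_of_injective (CompDiag.phi_injective _), Subgroup.comap_equiv_eq_map_symm' e E,
      Subgroup.card_map_of_injective e.symm.injective]
    exact hE2
  have hFel : ∀ u ∈ F, u ^ 2 = 1 ∧ u ∈ Subgroup.centralizer (J : Set Cb) ∧ ∀ v ∈ F, Commute u v := by
    intro u hu
    rw [hF] at hu ⊢
    obtain ⟨x, hx, rfl⟩ := hu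
    have hx' : e x ∈ E := hx
    refine ⟨?_, ?_, ?_⟩
    · rw [← map_pow, show x ^ 2 = 1 from e.injective (by rw [map_pow, hEe _ hx', map_one]), map_one]
    · exact Subgroup.mem_centralizer_iff.2 fun y hy => (h.comm_copy (one_ne_zero : (1 : ZMod 2) ≠ 0)
        (CompDiag.phi_mem 1 x) (by rw [ZMod.val_zero, pow_zero, cj_one]; exact hy)).eq.symm
    · rintro _ ⟨y, hy, rfl⟩
      have hy' : e y ∈ E := hy
      exact (show Commute x y from e.injective (by
        rw [map_mul, map_mul]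
        exact congrArg Subtype.val (hEc.1.1 ⟨e x, hx'⟩ ⟨e y, hy'⟩))).map _
  have hF1 : ∀ u ∈ F, u ∈ cj J (a' ^ (1 : ZMod 2).val) := fun u hu => by
    rw [hF] at hu
    obtain ⟨x, -, rfl⟩ := hu
    exact CompDiag.phi_mem 1 x
  have hBF : ∀ x ∈ B₁, ∀ u ∈ F, Commute x u := fun x hx u hu => by
    rw [hF] at hu
    obtain ⟨y, -, rfl⟩ := hu
    exact CompDiag.Moved.comm_phi_of_centralizes (hBa' x (Subgroup.mem_inf.1 (hB₁ ▸ hx)).1) (hB₁J x hx) 1 y
  have hinf : B₁ ⊓ F = ⊥ := by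
    rw [Subgroup.eq_bot_iff_forall]
    intro z hz
    obtain ⟨hz1, hz2⟩ := Subgroup.mem_inf.1 hz
    exact h.fixed_eq_one hinj (hBa' z (Subgroup.mem_inf.1 (hB₁ ▸ hz1)).1) (hF1 z hz2) (hFel z hz2).1
  let μ : B₁ × F → Cb := fun q => (q.1 : Cb) * q.2
  have hμ : Function.Injective μ := by
    intro q r hqr
    have h5 : ((r.1 : Cb))⁻¹ * q.1 = r.2 * (q.2 : Cb)⁻¹ := by
      rw [eq_mul_inv_iff_mul_eq, mul_assoc, show (q.1 : Cb) * q.2 = r.1 * r.2 from hqr, inv_mul_cancel_left]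
    have h6 : ((r.1 : Cb))⁻¹ * q.1 ∈ B₁ ⊓ F :=
      Subgroup.mem_inf.2 ⟨mul_mem (inv_mem r.1.2) q.1.2, h5 ▸ mul_mem r.2.2 (inv_mem q.2.2)⟩
    rw [hinf, Subgroup.mem_bot] at h6
    rw [h6] at h5
    exact Prod.ext (Subtype.ext (inv_mul_eq_one.1 h6).symm) (Subtype.ext (mul_inv_eq_one.1 h5.symm).symm)
  obtain ⟨A, hA⟩ : ∃ A, A = (B₁ ⊔ F).map Cb.subtype := ⟨_, rfl⟩
  have hcardA : Nat.card B₁ * Nat.card F ≤ Nat.card A := by
    rw [← Nat.card_prod, hA, Subgroup.card_map_of_injective Cb.subtype_injective]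
    exact Nat.card_le_card_of_injective
      (fun q => (⟨μ q, mul_mem (Subgroup.mem_sup_left q.1.2) (Subgroup.mem_sup_right q.2.2)⟩ :
        (B₁ ⊔ F : Subgroup Cb))) fun q r hqr => hμ (congrArg Subtype.val hqr)
  have hBFmem : ∀ w ∈ B₁ ⊔ F, ∃ x ∈ B₁, ∃ u ∈ F, x * u = w := fun w hw => by
    rw [← SetLike.mem_coe, Subgroup.coe_mul_of_left_le_normalizer_right B₁ F (fun x hx =>
      Subgroup.centralizer_le_normalizer _ (Subgroup.mem_centralizer_iff.2 fun u hu => (hBF x hx u hu).eq.symm))] at hw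
    obtain ⟨x, hx, u, hu, rfl⟩ := hw
    exact ⟨x, hx, u, hu, rfl⟩
  have hAle : A ≤ Subgroup.centralizer ({b} : Set G) ⊓
      Subgroup.centralizer ((J.map Cb.subtype : Subgroup G) : Set G) := by
    rw [hA]
    rintro _ ⟨w, hw, rfl⟩
    refine Subgroup.mem_inf.2 ⟨hCb ▸ w.2, Subgroup.mem_centralizer_iff.2 ?_⟩
    rintro _ ⟨j, hj, rfl⟩
    obtain ⟨x, hx, u, hu, rfl⟩ := hBFmem w hw
    exact congrArg Subtype.val (Subgroup.mem_centralizer_iff.1 (mul_mem (hB₁J x hx) (hFel u hu).2.1) j hj)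
  have hAabel : ∀ s ∈ A, s ^ 2 = 1 ∧ ∀ r ∈ A, s * r = r * s := by
    intro s hs
    rw [hA] at hs ⊢
    obtain ⟨w, hw, rfl⟩ := hs
    obtain ⟨x, hx, u, hu, rfl⟩ := hBFmem w hw
    have hxB : x ∈ B.subgroupOf Cb := (Subgroup.mem_inf.1 (hB₁ ▸ hx)).1
    refine ⟨?_, ?_⟩
    · rw [← map_pow, (hBF x hx u hu).mul_pow, (hFel u hu).1,
        show x ^ 2 = 1 from Subtype.ext (hBexp _ hxB), mul_one, map_one]
    · rintro _ ⟨w', hw', rfl⟩
      obtain ⟨x', hx', u', hu', rfl⟩ := hBFmem w' hw'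
      have hx'B : x' ∈ B.subgroupOf Cb := (Subgroup.mem_inf.1 (hB₁ ▸ hx')).1
      have hxx : Commute x x' := Subtype.ext
        (congrArg Subtype.val (hBcomm.1.1 ⟨(x : G), hxB⟩ ⟨(x' : G), hx'B⟩) :)
      rw [← map_mul, ← map_mul]
      exact congrArg _ ((hxx.mul_right (hBF x hx u' hu')).mul_left
        ((hBF x' hx' u hu).symm.mul_right ((hFel u hu).2.2 u' hu'))).eq
  -- compare the ranks
  obtain ⟨n, hn⟩ := IsPGroup.iff_card.1 (show IsPGroup 2 B from fun x => ⟨1, Subtype.ext (by simpa using hBexp x x.2)⟩)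
  have hrank : Cfsg.PRankLE 2 n ↥(Subgroup.centralizer ({a} : Set G) ⊓ Subgroup.centralizer (K : Set G)) := by
    intro S hS hS2
    rw [← hn, ← Subgroup.card_map_of_injective
      (Subgroup.centralizer ({a} : Set G) ⊓ Subgroup.centralizer (K : Set G)).subtype_injective]
    refine hBmax _ (Subgroup.map_subtype_le S) ⟨?_, ?_⟩
    · haveI := hS
      infer_instance
    · rintro _ ⟨s, hs, rfl⟩
      rw [← map_pow, hS2 s hs, map_one]
  have hfinal := hJcard.2 hcJK n hrank (A.subgroupOf _) ⟨⟨fun s r => Subtype.ext (Subtype.ext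
    ((hAabel _ (Subgroup.mem_subgroupOf.1 s.2)).2 _ (Subgroup.mem_subgroupOf.1 r.2)))⟩⟩
    (fun s hs => Subtype.ext (hAabel _ (Subgroup.mem_subgroupOf.1 hs)).1)
  rw [Nat.card_congr (Subgroup.subgroupOfEquivOfLe hAle).toEquiv, ← hn] at hfinal
  have h7 : 0 < Nat.card B₁ := Nat.card_pos
  have h8 : Nat.card B₁ * 4 ≤ Nat.card B₁ * Nat.card F := Nat.mul_le_mul_left _ hFcard
  omega

end Cfsg.Agent.S1305
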