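import Cfsg.Statements.S1306
import Cfsg.Agent.Lib.Fusion.Basic
import Cfsg.Agent.Lib.Solv.Component

set_option autoImplicit false
open Cfsg
open Cfsg.Agent.Fusion
open scoped commutatorElement

namespace Cfsg.Agent.S1306

/-- Let G be finite, x an involution and L ≤ C_G(x) a component of C_G(x). Suppose L is a component of C_G(y) for every involution y ∈ C_G(L), and ⁅L, g L g⁻¹⁆ ≠ 1 whenever g L g⁻¹ ≠ L. Then L is a standard subgroup of G. -/
theorem result {G : Type*} [Group G] [Finite G] (x : G) (hx : orderOf x = 2) (L : Subgroup G) (hLx : L ≤ Subgroup.centralizer ({x} : Set G)) (hL : Cfsg.IsComponent (L.subgroupOf (Subgroup.centralizer ({x} : Set G)))) (hne : ∀ y : G, orderOf y = 2 → y ∈ Subgroup.centralizer (L : Set G) → L ≤ Subgroup.centralizer ({y} : Set G) ∧ Cfsg.IsComponent (L.subgroupOf (Subgroup.centralizer ({y} : Set G)))) (hnc : ∀ g : G, L.map (MulAut.conj g).toMonoidHom ≠ L → ⁅L, L.map (MulAut.conj g).toMonoidHom⁆ ≠ ⊥) : Cfsg.IsStandardSubgroup L := by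
  have hq : Cfsg.IsQuasisimple ↥L :=
    Cfsg.Agent.Local.isQuasisimple_congr (Subgroup.subgroupOfEquivOfLe hLx) hL.2
  have hxC : x ∈ Subgroup.centralizer (L : Set G) :=
    Subgroup.mem_centralizer_iff.2 fun l hl => Subgroup.mem_centralizer_singleton_iff.1 (hLx hl)
  -- a conjugate of `L` meeting its centralizer in an involution is `L`
  have key : ∀ (g y : G), orderOf y = 2 → y ∈ Subgroup.centralizer (L : Set G) →
      g⁻¹ * y * g ∈ Subgroup.centralizer (L : Set G) → L.map (MulAut.conj g).toMonoidHom = L := by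
    intro g y hy hyC hyC'
    by_contra hgne
    refine hnc g hgne ?_
    obtain ⟨hLy, hLc⟩ := hne y hy hyC
    obtain ⟨hLy', hLc'⟩ := hne (g⁻¹ * y * g) (by
      rw [show g⁻¹ * y * g = MulAut.conj g⁻¹ y by simp [MulAut.conj_apply], MulEquiv.orderOf_eq, hy]) hyC'
    have hconj : Cfsg.Agent.Fusion.cj (Subgroup.centralizer ({g⁻¹ * y * g} : Set G)) g =
        Subgroup.centralizer ({y} : Set G) := by
      ext z
      rw [Cfsg.Agent.Fusion.mem_cj, Subgroup.mem_centralizer_singleton_iff, Subgroup.mem_centralizer_singleton_iff]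
      constructor
      · intro h
        calc z * y = g * (g⁻¹ * z * g * (g⁻¹ * y * g)) * g⁻¹ := by group
          _ = g * (g⁻¹ * y * g * (g⁻¹ * z * g)) * g⁻¹ := by rw [h]
          _ = y * z := by group
      · intro h
        calc g⁻¹ * z * g * (g⁻¹ * y * g) = g⁻¹ * (z * y) * g := by group
          _ = g⁻¹ * (y * z) * g := by rw [h]
          _ = _ := by group
    have hLy2 : L.map (MulAut.conj g).toMonoidHom ≤ Subgroup.centralizer ({y} : Set G) :=
      hconj ▸ Cfsg.Agent.Fusion.cj_mono hLy' g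
    have hLc2 : Cfsg.IsComponent ((L.map (MulAut.conj g).toMonoidHom).subgroupOf
        (Subgroup.centralizer ({y} : Set G))) := by
      obtain ⟨C', hC'⟩ : ∃ C', C' = Subgroup.centralizer ({g⁻¹ * y * g} : Set G) := ⟨_, rfl⟩
      obtain ⟨C, hC⟩ : ∃ C, C = Subgroup.centralizer ({y} : Set G) := ⟨_, rfl⟩
      rw [← hC'] at hLy' hLc' hconj
      rw [← hC] at hLy2 hconj ⊢
      subst hconj
      refine ⟨?_, Cfsg.Agent.Local.isQuasisimple_congr
        ((L.equivMapOfInjective _ (MulAut.conj g).injective).trans (Subgroup.subgroupOfEquivOfLe hLy2).symm) hq⟩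
      have h1 := hLc'.1.map (f := ((MulAut.conj g).toMonoidHom).subgroupMap C')
        (MonoidHom.subgroupMap_surjective _ _)
      convert h1 using 1
      ext z
      constructor
      · rintro ⟨w, hw, he⟩
        exact ⟨⟨w, hLy' hw⟩, hw, Subtype.ext he⟩
      · rintro ⟨w, hw, rfl⟩
        exact ⟨w, hw, rfl⟩
    have hdist : L.subgroupOf (Subgroup.centralizer ({y} : Set G)) ≠
        (L.map (MulAut.conj g).toMonoidHom).subgroupOf (Subgroup.centralizer ({y} : Set G)) := fun e => hgne (by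
      rw [← Subgroup.map_subgroupOf_eq_of_le hLy2, ← e, Subgroup.map_subgroupOf_eq_of_le hLy])
    have h2 := congrArg (Subgroup.map (Subgroup.centralizer ({y} : Set G)).subtype)
      (Cfsg.Agent.Solv.components_commute hLc hLc2 hdist)
    rwa [Subgroup.map_commutator, Subgroup.map_subgroupOf_eq_of_le hLy, Subgroup.map_subgroupOf_eq_of_le hLy2,
      Subgroup.map_bot] at h2
  have hNN : ∀ g : G, L.map (MulAut.conj g).toMonoidHom = L →
      g ∈ Subgroup.normalizer (Subgroup.centralizer (L : Set G) : Set G) := fun g he =>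
    Cfsg.Agent.Fusion.mem_normalizer_iff_cj.2 (by
      rw [Cfsg.Agent.Fusion.cj_centralizer]
      exact congrArg (fun S : Subgroup G => Subgroup.centralizer (S : Set G)) he)
  refine ⟨hq, ⟨?_, fun g hg => ?_⟩, hnc, ?_⟩
  · refine even_iff_two_dvd.2 (hx ▸ ?_)
    rw [← Subgroup.orderOf_mk x hxC]
    exact orderOf_dvd_natCard _
  · rw [Nat.odd_iff, ← Nat.two_dvd_ne_zero]
    intro hdvd
    obtain ⟨⟨y, hy⟩, hyo⟩ := exists_prime_orderOf_dvd_card' 2 hdvd
    rw [← Subgroup.orderOf_coe] at hyo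
    obtain ⟨hy1, hy2⟩ := Subgroup.mem_inf.1 hy
    exact hg (hNN g (key g y hyo hy1 (Cfsg.Agent.Fusion.mem_cj.1 hy2)))
  · refine le_antisymm (fun g hg => hNN g (Cfsg.Agent.Fusion.cj_eq_self hg)) fun g hg => ?_
    exact Cfsg.Agent.Fusion.mem_normalizer_iff_cj.2 (key g x hx hxC (by
      have := (Subgroup.mem_normalizer_iff.1 (inv_mem hg) x).1 hxC
      rwa [inv_inv] at this))

end Cfsg.Agent.S1306
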