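import Cfsg.Statements.S1307
import Cfsg.Agent.Lib.Solv.UniqueSub
import Cfsg.Agent.Lib.Solv.Component
import Cfsg.Agent.Lib.Local.Basics
import Cfsg.Agent.S0201

set_option autoImplicit false
open Cfsg
open Cfsg.Agent.Fusion
open scoped commutatorElement

namespace Cfsg.Agent.S1307

/-- Let G be finite, x an involution and L ≤ C_G(x) a component of C_G(x) of even order and 2-rank 1, such that L is a component of C_G(y) for every involution y ∈ C_G(L). Then some involution of L is a classical involution of G. -/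
theorem result {G : Type*} [Group G] [Finite G] (x : G) (hx : orderOf x = 2) (L : Subgroup G) (hLx : L ≤ Subgroup.centralizer ({x} : Set G)) (hL : Cfsg.IsComponent (L.subgroupOf (Subgroup.centralizer ({x} : Set G)))) (heven : Even (Nat.card ↥L)) (hrk : Cfsg.PRankLE 2 1 ↥L) (hne : ∀ y : G, orderOf y = 2 → y ∈ Subgroup.centralizer (L : Set G) → L ≤ Subgroup.centralizer ({y} : Set G) ∧ Cfsg.IsComponent (L.subgroupOf (Subgroup.centralizer ({y} : Set G)))) : ∃ t ∈ L, Cfsg.IsClassicalInvolution t := by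
  haveI : Fact (Nat.Prime 2) := ⟨Nat.prime_two⟩
  have hLq : Cfsg.IsQuasisimple ↥L := Local.isQuasisimple_congr (Subgroup.subgroupOfEquivOfLe hLx) hL.2
  haveI := hLq.1
  haveI := hLq.2
  haveI := Solv.qs_nontrivial hLq
  obtain ⟨S⟩ : Nonempty (Sylow 2 ↥L) := inferInstance
  have hSne : (S : Subgroup ↥L) ≠ ⊥ := fun h => by
    have h1 := S.not_dvd_index
    rw [h, Subgroup.index_bot] at h1
    exact h1 (even_iff_two_dvd.1 heven)
  haveI : Nontrivial ↥(S : Subgroup ↥L) := (Subgroup.nontrivial_iff_ne_bot _).2 hSne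
  -- only one involution in `S`
  have hcm : ∀ a b : ↥(S : Subgroup ↥L), a * b = b * a → a ^ 2 = 1 → b ^ 2 = 1 → a ≠ 1 → b ≠ 1 → a = b := by
    intro a b hab ha hb ha1 hb1
    by_contra hne
    obtain ⟨A, hA⟩ : ∃ A, A = Subgroup.closure ({(a : ↥L), (b : ↥L)} : Set ↥L) := ⟨_, rfl⟩
    have hAc : IsMulCommutative ↥A := by
      rw [hA]
      refine Subgroup.isMulCommutative_closure fun x hx y hy => ?_
      have := congrArg Subtype.val hab
      rcases hx with rfl | rfl <;> rcases hy with rfl | rfl <;> first | rfl | exact this | exact this.symm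
    haveI := hAc
    have hA2 : ∀ x ∈ A, x ^ 2 = 1 := by
      intro x hx
      have hg : ∀ y ∈ A, ∀ z ∈ A, y * z = z * y := fun y hy z hz =>
        congrArg Subtype.val (hAc.is_comm.comm ⟨y, hy⟩ ⟨z, hz⟩)
      rw [hA] at hx hg
      induction hx using Subgroup.closure_induction with
      | mem y hy =>
        rcases hy with rfl | rfl
        · exact congrArg Subtype.val ha
        · exact congrArg Subtype.val hb
      | one => exact one_pow 2
      | mul y z hy hz ey ez => rw [show (y * z) ^ 2 = y ^ 2 * z ^ 2 from Commute.mul_pow (hg y hy z hz) 2, ey, ez, one_mul]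
      | inv y _ ey => rw [inv_pow, ey, inv_one]
    have h2 := hrk A hAc hA2
    have h3 : 2 < Nat.card ↥A := by
      haveI := Fintype.ofFinite ↥A
      rw [Nat.card_eq_fintype_card]
      have ha' : (a : ↥L) ∈ A := hA ▸ Subgroup.subset_closure (Set.mem_insert _ _)
      have hb' : (b : ↥L) ∈ A := hA ▸ Subgroup.subset_closure (Set.mem_insert_of_mem _ rfl)
      exact Fintype.two_lt_card_iff.2 ⟨1, ⟨_, ha'⟩, ⟨_, hb'⟩, fun h => ha1 (Subtype.ext (congrArg (fun w : ↥A => w.1) h).symm),
        fun h => hb1 (Subtype.ext (congrArg (fun w : ↥A => w.1) h).symm), fun h => hne (Subtype.ext (congrArg (fun w : ↥A => w.1) h))⟩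
    omega
  have hu : Solv.UniqueOrderP 2 ↥(S : Subgroup ↥L) := by
    haveI := S.isPGroup'.center_nontrivial
    have hcd : 2 ∣ Nat.card (Subgroup.center ↥(S : Subgroup ↥L)) := by
      obtain ⟨j, hj, hj'⟩ := (IsPGroup.nontrivial_iff_card (S.isPGroup'.to_subgroup (Subgroup.center ↥(S : Subgroup ↥L)))).1 inferInstance
      rw [hj']; exact dvd_pow_self 2 hj.ne'
    obtain ⟨⟨z, hzc⟩, hz⟩ := exists_prime_orderOf_dvd_card' 2 hcd
    rw [Subgroup.orderOf_mk] at hz
    have hz1 : z ≠ 1 := fun h => by rw [h, orderOf_one] at hz; omega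
    have hz2 : z ^ 2 = 1 := orderOf_dvd_iff_pow_eq_one.1 hz.dvd
    have hall : ∀ y : ↥(S : Subgroup ↥L), y ^ 2 = 1 → y ≠ 1 → y = z := fun y hy hy1 =>
      hcm y z (Subgroup.mem_center_iff.1 hzc y) hy hz2 hy1 hz1
    intro x y hx hy hy1
    by_cases hx1 : x = 1
    · rw [hx1]; exact one_mem _
    · rw [hall x hx hx1, ← hall y hy hy1]; exact Subgroup.mem_zpowers y
  have hnc : ¬ IsCyclic ↥(S : Subgroup ↥L) := by
    intro hc
    haveI := hc
    have hmin : (Nat.card ↥L).minFac = 2 := (Nat.minFac_eq_two_iff _).2 (even_iff_two_dvd.1 heven)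
    have hle := IsCyclic.normalizer_le_centralizer hmin (P := S) hc
    have hC := MonoidHom.ker_transferSylow_isComplement' S hle
    have hcen : ∀ a b : ↥(S : Subgroup ↥L), a * b = b * a := fun a b =>
      (IsCyclic.commGroup (α := ↥(S : Subgroup ↥L))).mul_comm a b
    have htop : (MonoidHom.transferSylow S hle).ker = ⊤ := by
      rw [eq_top_iff, ← Group.IsPerfect.commutator_eq_top (G := ↥L), commutator_def, Subgroup.commutator_le]
      intro a _ b _
      rw [MonoidHom.mem_ker, map_commutatorElement, commutatorElement_eq_one_iff_mul_comm]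
      exact hcen _ _
    refine hSne ?_
    have := hC.disjoint.eq_bot
    rwa [htop, top_inf_eq] at this
  obtain ⟨n, ⟨e⟩⟩ := ((Solv.cyclic_or_quaternion S.isPGroup' hu).resolve_left hnc).2
  obtain ⟨n, rfl⟩ : ∃ m, n = m + 1 := by
    refine Nat.exists_eq_succ_of_ne_zero fun h => hnc ?_
    subst h
    haveI := QuaternionGroup.quaternionGroup_one_isCyclic
    exact e.symm.isCyclic.1 (by simpa using QuaternionGroup.quaternionGroup_one_isCyclic)
  have hZ : Even (Nat.card (Subgroup.center ↥L)) := by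
    by_contra hodd
    rw [Nat.not_even_iff_odd] at hodd
    obtain ⟨π, hπ⟩ : ∃ π : ↥L →* ↥L ⧸ Subgroup.center ↥L, π = QuotientGroup.mk' _ := ⟨_, rfl⟩
    have hπs : Function.Surjective π := hπ ▸ QuotientGroup.mk'_surjective _
    have hinj : Function.Injective (π.subgroupMap (S : Subgroup ↥L)) := by
      rw [injective_iff_map_eq_one]
      intro a ha
      have h1 : (a : ↥L) ∈ Subgroup.center ↥L := by
        have : π (a : ↥L) = 1 := congrArg Subtype.val ha
        rwa [hπ, QuotientGroup.mk'_apply, QuotientGroup.eq_one_iff] at this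
      obtain ⟨j, hj⟩ := S.isPGroup'.exists_card_eq
      have hd1 : orderOf (a : ↥L) ∣ Nat.card (Subgroup.center ↥L) := Subgroup.orderOf_dvd_natCard _ h1
      have hd2 : orderOf (a : ↥L) ∣ 2 ^ j := hj ▸ Subgroup.orderOf_dvd_natCard _ a.2
      exact Subtype.ext (orderOf_eq_one_iff.1
        (Nat.eq_one_of_dvd_coprimes ((Nat.coprime_two_right.2 hodd).pow_right j) hd1 hd2))
    let e' : ↥(S : Subgroup ↥L) ≃* ↥(S.mapSurjective hπs : Subgroup (↥L ⧸ Subgroup.center ↥L)) :=
      MulEquiv.ofBijective (π.subgroupMap (S : Subgroup ↥L)) ⟨hinj, MonoidHom.subgroupMap_surjective _ _⟩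
    have hO : ∀ N : Subgroup (↥L ⧸ Subgroup.center ↥L), N.Normal → Odd (Nat.card N) → N = ⊥ := by
      intro N hN hNo
      refine (hN.eq_bot_or_eq_top).resolve_right fun htop => ?_
      rw [htop, Subgroup.card_top] at hNo
      have h2 : 2 ∣ Nat.card (↥L ⧸ Subgroup.center ↥L) := by
        have := Subgroup.card_eq_card_quotient_mul_card_subgroup (Subgroup.center ↥L)
        exact ((Nat.coprime_two_left.2 hodd).dvd_of_dvd_mul_right (this ▸ even_iff_two_dvd.1 heven))
      exact (Nat.not_even_iff_odd.2 hNo) (even_iff_two_dvd.2 h2)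
    have hc := S0201.result (S.mapSurjective hπs) n (e'.symm.trans e) hO
    rcases (inferInstance : (Subgroup.center (↥L ⧸ Subgroup.center ↥L)).Normal).eq_bot_or_eq_top with h | h
    · rw [h, Subgroup.card_bot] at hc; omega
    · have hL1 : (⊤ : Subgroup ↥L) ≤ Subgroup.center ↥L := by
        rw [← Group.IsPerfect.commutator_eq_top (G := ↥L), commutator_def, Subgroup.commutator_le]
        intro a _ b _
        rw [← QuotientGroup.eq_one_iff, ← QuotientGroup.mk'_apply, map_commutatorElement,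
          commutatorElement_eq_one_iff_mul_comm]
        exact ((Subgroup.mem_center_iff.1 (h ▸ Subgroup.mem_top (QuotientGroup.mk' (Subgroup.center ↥L) b))) _)
      exact Solv.qs_center_ne_top hLq (top_le_iff.1 hL1)
  obtain ⟨⟨z, hzc⟩, hz⟩ := exists_prime_orderOf_dvd_card' 2 (even_iff_two_dvd.1 hZ)
  rw [Subgroup.orderOf_mk] at hz
  have hzo : orderOf (z : G) = 2 := by rw [Subgroup.orderOf_coe, hz]
  have hzC : (z : G) ∈ Subgroup.centralizer (L : Set G) := Subgroup.mem_centralizer_iff.2 fun y hy =>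
    congrArg Subtype.val (Subgroup.mem_center_iff.1 hzc ⟨y, hy⟩)
  obtain ⟨hLz, hLzc⟩ := hne z hzo hzC
  exact ⟨z, z.2, hzo, L, hLz, z.2, hLzc.1, S, n, ⟨e⟩⟩

end Cfsg.Agent.S1307
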