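import Cfsg.Statements.S1313
import Cfsg.Agent.Lib.Solv.Component

set_option autoImplicit false
open Cfsg
open scoped commutatorElement

namespace Cfsg.Agent.S1313

/-- For a finite group H, |H| ≤ |F*(H)|!. -/
theorem result {H : Type*} [Group H] [Finite H] : Nat.card H ≤ Nat.factorial (Nat.card ↥(Cfsg.generalizedFittingSubgroup H)) := by
  set F := Cfsg.generalizedFittingSubgroup H
  haveI : F.Normal := Local.gfit_normal
  let φ : H →* MulAut ↥F := MulAut.conjNormal
  have hker : φ.ker ≤ F := fun h hh => Solv.centralizer_gfit_le (Subgroup.mem_centralizer_iff.2 fun x hx => by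
    have h1 : h * x * h⁻¹ = x := by
      have := congrArg (fun (f : MulAut ↥F) => ((f ⟨x, hx⟩ : ↥F) : H)) (MonoidHom.mem_ker.1 hh)
      simpa [φ] using this
    exact (mul_inv_eq_iff_eq_mul.1 h1).symm)
  classical
  have hA : Nat.card (MulAut ↥F) ≤ Nat.factorial (Nat.card ↥F - 1) := by
    let ψ : MulAut ↥F → Equiv.Perm {x : ↥F // x ≠ 1} := fun e =>
      e.toEquiv.subtypeEquiv fun x => (not_congr (map_eq_one_iff e e.injective)).symm
    have hψ : Function.Injective ψ := fun e e' he => MulEquiv.ext fun x => by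
      by_cases hx : x = 1
      · rw [hx, map_one, map_one]
      · exact congrArg Subtype.val (Equiv.ext_iff.1 he ⟨x, hx⟩)
    refine (Nat.card_le_card_of_injective ψ hψ).trans (le_of_eq ?_)
    rw [Nat.card_perm]
    congr 1
    have := Fintype.ofFinite ↥F
    rw [Nat.card_eq_fintype_card, Nat.card_eq_fintype_card, Fintype.card_subtype_compl,
      Fintype.card_subtype_eq]
  have h1 := φ.ker.card_eq_card_quotient_mul_card_subgroup
  rw [Nat.card_congr (QuotientGroup.quotientKerEquivRange φ).toEquiv] at h1
  have h2 := Subgroup.card_le_of_le hker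
  have h3 : Nat.card φ.range ≤ Nat.card (MulAut ↥F) := Subgroup.card_le_card_group _
  have h4 : 0 < Nat.card ↥F := Nat.card_pos
  rw [h1, ← Nat.mul_factorial_pred h4.ne', mul_comm (Nat.card ↥F)]
  exact Nat.mul_le_mul (h3.trans hA) h2

end Cfsg.Agent.S1313
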