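import Cfsg.Statements.S1314
import Mathlib


set_option autoImplicit false
open Cfsg
open scoped commutatorElement

namespace Cfsg.Agent.S1314

/-- Let x be an involution of a group G and L a perfect subgroup with ⁅L, x L x⁻¹⁆ = 1. Then l ↦ l (x l x⁻¹) is a group homomorphism π from L to G whose kernel is central in L and whose image lies in C_G(x); and the commutator subgroup of C_{L ⊔ xLx⁻¹}(x) equals the image of π. -/
theorem result {G : Type*} [Group G] [Finite G] (x : G) (hx : orderOf x = 2) (L : Subgroup G) (hperf : ⁅L, L⁆ = L) (hcomm : ⁅L, L.map (MulAut.conj x).toMonoidHom⁆ = ⊥) : ∃ π : ↥L →* G, (∀ l : ↥L, π l = (l : G) * (x * (l : G) * x⁻¹)) ∧ π.ker ≤ Subgroup.center ↥L ∧ π.range ≤ Subgroup.centralizer ({x} : Set G) ∧ ⁅(L ⊔ L.map (MulAut.conj x).toMonoidHom) ⊓ Subgroup.centralizer ({x} : Set G), (L ⊔ L.map (MulAut.conj x).toMonoidHom) ⊓ Subgroup.centralizer ({x} : Set G)⁆ = π.range := by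
  obtain ⟨M, hMdef⟩ : ∃ M, M = L.map (MulAut.conj x).toMonoidHom := ⟨_, rfl⟩
  rw [← hMdef] at hcomm
  have hxx : x * x = 1 := by rw [← sq, ← hx, pow_orderOf_eq_one]
  have hxi : x⁻¹ = x := inv_eq_of_mul_eq_one_right hxx
  rw [← hMdef]
  have hc : ∀ a ∈ L, ∀ b ∈ M, a * b = b * a := fun a ha b hb =>
    (Subgroup.mem_centralizer_iff.1 (Subgroup.commutator_eq_bot_iff_le_centralizer.1 hcomm ha) b hb).symm
  have hM : ∀ a ∈ L, x * a * x⁻¹ ∈ M := fun a ha => hMdef ▸ ⟨a, ha, rfl⟩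
  let π : ↥L →* G := MonoidHom.mk' (fun l => (l : G) * (x * (l : G) * x⁻¹)) fun a b => by
    show (a : G) * b * (x * ((a : G) * b) * x⁻¹) = (a : G) * (x * a * x⁻¹) * (b * (x * b * x⁻¹))
    calc (a : G) * b * (x * ((a : G) * b) * x⁻¹) = a * ((b : G) * (x * a * x⁻¹)) * (x * b * x⁻¹) := by group
      _ = _ := by rw [hc b b.2 _ (hM a a.2)]; group
  have hrc : π.range ≤ Subgroup.centralizer ({x} : Set G) := by
    rintro _ ⟨l, rfl⟩
    rw [Subgroup.mem_centralizer_singleton_iff]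
    show (l : G) * (x * l * x⁻¹) * x = x * ((l : G) * (x * l * x⁻¹))
    rw [hc l l.2 _ (hM l l.2)]
    calc x * (l : G) * x⁻¹ * l * x = x * (l * (x⁻¹ * l * x)) := by group
      _ = x * (x⁻¹ * l * x * l) := by rw [show x⁻¹ * (l : G) * x = x * l * x⁻¹ by rw [hxi], hc l l.2 _ (hM l l.2)]
      _ = x * (l * (x * l * x⁻¹)) := by rw [show x⁻¹ * (l : G) * x = x * l * x⁻¹ by rw [hxi], ← hc l l.2 _ (hM l l.2)]
      _ = x * (x * (l : G) * x⁻¹ * l) := by rw [hc l l.2 _ (hM l l.2)]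
  refine ⟨π, fun l => rfl, ?_, hrc, ?_⟩
  · intro l hl
    refine Subgroup.mem_center_iff.2 fun y => Subtype.ext ?_
    have h1 : (l : G) = (x * (l : G) * x⁻¹)⁻¹ := eq_inv_of_mul_eq_one_left (MonoidHom.mem_ker.1 hl)
    show (y : G) * l = l * y
    have h2 := hc y y.2 _ (inv_mem (hM l l.2))
    rwa [← h1] at h2
  · set W := (L ⊔ M) ⊓ Subgroup.centralizer ({x} : Set G) with hW
    have hrW : π.range ≤ W := le_inf (by
      rintro _ ⟨l, rfl⟩
      exact mul_mem (Subgroup.mem_sup_left l.2) (Subgroup.mem_sup_right (hM l l.2))) hrc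
    refine le_antisymm ?_ ?_
    · have hdec : ∀ w ∈ W, ∃ a ∈ L, ∃ c ∈ L, w = a * (x * c * x⁻¹) ∧ (∀ y ∈ L, (c⁻¹ * a) * y = y * (c⁻¹ * a)) := by
        intro w hw
        obtain ⟨hw1, hw2⟩ := Subgroup.mem_inf.1 hw
        have hnorm : L ≤ Subgroup.normalizer (M : Set G) :=
          (Subgroup.commutator_eq_bot_iff_le_centralizer.1 hcomm).trans (Subgroup.centralizer_le_normalizer _)
        obtain ⟨a, ha, b, hb, rfl⟩ : ∃ a ∈ L, ∃ b ∈ M, a * b = w := by
          have := Subgroup.coe_mul_of_left_le_normalizer_right L M hnorm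
          rw [Set.ext_iff] at this
          obtain ⟨a, ha, b, hb, hab⟩ := (this w).1 hw1
          exact ⟨a, ha, b, hb, hab⟩
        rw [hMdef] at hb
        obtain ⟨c, hcL, rfl⟩ := hb
        refine ⟨a, ha, c, hcL, rfl, fun y hy => ?_⟩
        have e : a * (x * c * x⁻¹) = c * (x * a * x⁻¹) := by
          rw [Subgroup.mem_centralizer_singleton_iff] at hw2
          have e2 : x * (a * (x * c * x⁻¹)) * x⁻¹ = a * (x * c * x⁻¹) := by
            rw [mul_inv_eq_iff_eq_mul]; exact hw2.symm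
          calc a * (x * c * x⁻¹) = x * (a * (x * c * x⁻¹)) * x⁻¹ := e2.symm
            _ = (x * a * x⁻¹) * ((x * x) * c * (x * x)⁻¹) := by group
            _ = (x * a * x⁻¹) * c := by rw [hxx]; group
            _ = c * (x * a * x⁻¹) := (hc c hcL _ (hM a ha)).symm
        have e3 : c⁻¹ * a = x * a * x⁻¹ * (x * c * x⁻¹)⁻¹ := by
          rw [eq_mul_inv_iff_mul_eq, mul_assoc, e, inv_mul_cancel_left]
        rw [e3]
        exact (hc y hy _ (mul_mem (hM a ha) (inv_mem (hM c hcL)))).symm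
      rw [Subgroup.commutator_le]
      intro w hw v hv
      obtain ⟨a, ha, c, hcL, rfl, hz⟩ := hdec w hw
      obtain ⟨a', ha', c', hcL', rfl, hz'⟩ := hdec v hv
      refine ⟨⟨⁅a, a'⁆, ?_⟩, ?_⟩
      · rw [commutatorElement_def]
        exact mul_mem (mul_mem (mul_mem ha ha') (inv_mem ha)) (inv_mem ha')
      show ⁅a, a'⁆ * (x * ⁅a, a'⁆ * x⁻¹) = _
      have e1 : ⁅a, a'⁆ = ⁅c, c'⁆ := by
        have ea : a = c * (c⁻¹ * a) := by group
        have ea' : a' = c' * (c'⁻¹ * a') := by group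
        generalize c⁻¹ * a = u at hz ea
        generalize c'⁻¹ * a' = u' at hz' ea'
        have hu : u' ∈ L := by
          have := mul_mem (inv_mem hcL') ha'
          rwa [ea', inv_mul_cancel_left] at this
        subst ea ea'
        rw [commutatorElement_def, commutatorElement_def]
        calc c * u * (c' * u') * (c * u)⁻¹ * (c' * u')⁻¹
            = c * (u * (c' * u')) * u⁻¹ * c⁻¹ * u'⁻¹ * c'⁻¹ := by group
          _ = c * c' * (u' * c⁻¹) * u'⁻¹ * c'⁻¹ := by rw [hz _ (mul_mem hcL' hu)]; group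
          _ = c * c' * c⁻¹ * c'⁻¹ := by rw [hz' _ (inv_mem hcL)]; group
      rw [show x * ⁅a, a'⁆ * x⁻¹ = ⁅x * c * x⁻¹, x * c' * x⁻¹⁆ by
        rw [e1, commutatorElement_def, commutatorElement_def]; group]
      rw [commutatorElement_def, commutatorElement_def (x * c * x⁻¹), commutatorElement_def]
      have k1 := hc
      have hb1 := hM c hcL
      have hb2 := hM c' hcL'
      generalize x * c * x⁻¹ = b at hb1 ⊢
      generalize x * c' * x⁻¹ = b' at hb2 ⊢
      symm
      calc a * b * (a' * b') * (a * b)⁻¹ * (a' * b')⁻¹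
          = a * (b * a') * b' * b⁻¹ * a⁻¹ * b'⁻¹ * a'⁻¹ := by group
        _ = a * a' * (b * b' * b⁻¹ * a⁻¹) * b'⁻¹ * a'⁻¹ := by rw [← hc a' ha' b hb1]; group
        _ = a * a' * a⁻¹ * (b * b' * b⁻¹ * b'⁻¹ * a'⁻¹) := by
            rw [← hc a⁻¹ (inv_mem ha) _ (mul_mem (mul_mem hb1 hb2) (inv_mem hb1))]; group
        _ = a * a' * a⁻¹ * a'⁻¹ * (b * b' * b⁻¹ * b'⁻¹) := by
            rw [← hc a'⁻¹ (inv_mem ha') _ (mul_mem (mul_mem (mul_mem hb1 hb2) (inv_mem hb1)) (inv_mem hb2))]; group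
    · have hR : π.range = ⁅π.range, π.range⁆ := by
        rw [MonoidHom.range_eq_map, ← Subgroup.map_commutator]
        congr 1
        refine (Subgroup.map_injective L.subtype_injective ?_)
        rw [Subgroup.map_commutator, ← MonoidHom.range_eq_map, Subgroup.range_subtype, hperf]
      rw [hR]
      exact Subgroup.commutator_mono hrW hrW

end Cfsg.Agent.S1314
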