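import Cfsg.Statements.S1315
import Cfsg.Agent.Lib.Fusion.TwoCompPair.Types

set_option autoImplicit false
open Cfsg

namespace Cfsg.Agent.S1315

/-- Let G be finite and J ≠ K subgroups, each containing exactly one involution, z(J) resp. z(K), each a 2-component of the centralizer of its involution, with J / O(J) and K / O(K) both isomorphic to SL(2, F) for one finite field F of odd order, or both non-split double covers of A7. Then (i) every 2-element of K of order at least 4 centralizing z(J) normalizes J; (ii) if z(J) normalizes K then z(K) normalizes J. -/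
theorem result {G : Type*} [Group G] [Finite G] (J K : Subgroup G) (hJK : J ≠ K) (zJ zK : G) (hzJ : zJ ∈ J ∧ orderOf zJ = 2 ∧ ∀ t ∈ J, orderOf t = 2 → t = zJ) (hzK : zK ∈ K ∧ orderOf zK = 2 ∧ ∀ t ∈ K, orderOf t = 2 → t = zK) (hJ : J ≤ Subgroup.centralizer ({zJ} : Set G) ∧ Cfsg.IsPComponent 2 (J.subgroupOf (Subgroup.centralizer ({zJ} : Set G)))) (hK : K ≤ Subgroup.centralizer ({zK} : Set G) ∧ Cfsg.IsPComponent 2 (K.subgroupOf (Subgroup.centralizer ({zK} : Set G)))) (htype : (∃ (F : Type) (_ : Field F) (_ : Fintype F), Odd (Fintype.card F) ∧ Nonempty (↥J ⧸ Cfsg.oddCore ↥J ≃* Matrix.SpecialLinearGroup (Fin 2) F) ∧ Nonempty (↥K ⧸ Cfsg.oddCore ↥K ≃* Matrix.SpecialLinearGroup (Fin 2) F)) ∨ (Cfsg.IsNonsplitDoubleCover (↥J ⧸ Cfsg.oddCore ↥J) ↥(alternatingGroup (Fin 7)) ∧ Cfsg.IsNonsplitDoubleCover (↥K ⧸ Cfsg.oddCore ↥K) ↥(alternatingGroup (Fin 7)))) : (∀ y ∈ K, IsPGroup 2 ↥(Subgroup.zpowers y) → 4 ≤ orderOf y → y * zJ = zJ * y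 → y ∈ Subgroup.normalizer (J : Set G)) ∧ (zJ ∈ Subgroup.normalizer (K : Set G) → zK ∈ Subgroup.normalizer (J : Set G)) := by
  have tJ : TwoPair.TC zJ J := ⟨hzJ.1, hzJ.2.1, hzJ.2.2, hJ⟩
  have tK : TwoPair.TC zK K := ⟨hzK.1, hzK.2.1, hzK.2.2, hK⟩
  obtain ⟨cJ, cK, hcard⟩ : (∀ g, TwoPair.Cyc (TwoPair.cb zJ g) (TwoPair.cs J g)) ∧
      (∀ g, TwoPair.Cyc (TwoPair.cb zK g) (TwoPair.cs K g)) ∧
      (Nat.card (↥J ⧸ Cfsg.oddCore ↥J)).factorization 2 =
        (Nat.card (↥K ⧸ Cfsg.oddCore ↥K)).factorization 2 := by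
    rcases htype with ⟨F, hF, hF', hodd, ⟨eJ⟩, ⟨eK⟩⟩ | ⟨cJ, cK⟩
    · have key : ∀ {a : G} {L : Subgroup G}, TwoPair.TC a L →
          (↥L ⧸ Cfsg.oddCore ↥L ≃* Matrix.SpecialLinearGroup (Fin 2) F) →
          ∀ g, TwoPair.Cyc (TwoPair.cb a g) (TwoPair.cs L g) := by
        intro a L t e g
        obtain ⟨e'⟩ := TwoPair.nonempty_quot_conj L g
        refine (t.conj g).cyc fun z hz hz1 _ => ?_
        refine TwoPair.QCyc.congr (e'.trans e) ?_
        rcases TwoPair.sl_sq_one hodd (A := e'.trans e z) (by rw [← map_mul, hz, map_one]) with h | h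
        · exact absurd ((e'.trans e).map_eq_one_iff.1 h) hz1
        · rw [h]; exact TwoPair.qcyc_sl hodd
      exact ⟨key tJ eJ, key tK eK,
        by rw [Nat.card_congr eJ.toEquiv, Nat.card_congr eK.toEquiv]⟩
    · have key : ∀ {a : G} {L : Subgroup G}, TwoPair.TC a L →
          Cfsg.IsNonsplitDoubleCover (↥L ⧸ Cfsg.oddCore ↥L) ↥(alternatingGroup (Fin 7)) →
          ∀ g, TwoPair.Cyc (TwoPair.cb a g) (TwoPair.cs L g) := by
        intro a L t c g
        obtain ⟨e'⟩ := TwoPair.nonempty_quot_conj L g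
        refine (t.conj g).cyc fun z hz hz1 hu => ?_
        refine TwoPair.QCyc.congr e' (TwoPair.qcyc_cover c (by rw [← map_mul, hz, map_one])
          (fun h => hz1 (e'.map_eq_one_iff.1 h)) fun w hw => ?_)
        obtain ⟨w, rfl⟩ := e'.surjective w
        rw [← map_mul] at hw
        rcases hu w (e'.map_eq_one_iff.1 hw) with h | h <;> rw [h]
        · exact Or.inl (map_one e')
        · exact Or.inr rfl
      refine ⟨key tJ cJ, key tK cK, ?_⟩
      obtain ⟨hc1, ⟨e1⟩, -⟩ := cJ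
      obtain ⟨hc2, ⟨e2⟩, -⟩ := cK
      rw [Subgroup.card_eq_card_quotient_mul_card_subgroup (Subgroup.center (↥J ⧸ Cfsg.oddCore ↥J)),
        Subgroup.card_eq_card_quotient_mul_card_subgroup (Subgroup.center (↥K ⧸ Cfsg.oddCore ↥K)),
        hc1, hc2, Nat.card_congr e1.toEquiv, Nat.card_congr e2.toEquiv]
  refine ⟨fun y hy h2 h4 hcm => ?_, fun hn => ?_⟩
  · have hya : y ∈ TwoPair.Cz zJ := TwoPair.mem_Cz.2 hcm.symm
    refine TwoPair.mem_normalizer_of_cs ?_
    by_cases he : zJ = zK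
    · exact tJ.normalizes (he ▸ tK) hy
    by_contra hmv
    have c := cK 1
    rw [TwoPair.cb_one, TwoPair.cs_one] at c
    exact TwoPair.mov_false
      ⟨tJ, tK, he, hy, TwoPair.twoEl_of_mem h2 (Subgroup.mem_zpowers y), hya, h4, hmv⟩ c
  · by_cases he : zJ = zK
    · rw [← he]; exact Subgroup.le_normalizer hzJ.1
    refine TwoPair.mem_normalizer_of_cs ?_
    by_contra hmv
    have c := cK 1
    rw [TwoPair.cb_one, TwoPair.cs_one] at c
    exact TwoPair.Swp.false_of_card ⟨tJ, tK, he, TwoPair.cs_eq_of_mem_normalizer hn, hmv, c⟩ cJ cK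
      fun Q Q' hQ hQ' => by rw [TwoPair.sylIn_card hQ, TwoPair.sylIn_card hQ', hcard]

end Cfsg.Agent.S1315
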