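import Cfsg.Statements.S1316
import Cfsg.Agent.Lib.Solv.Component

set_option autoImplicit false
open Cfsg
open Cfsg.Agent.Solv
open scoped commutatorElement

namespace Cfsg.Agent.S1316

/-- For a finite group X, E(X) equals the intersection of the derived series of F*(X) (its last term). -/
theorem result {X : Type*} [Group X] [Finite X] : (⨅ n : ℕ, (derivedSeries ↥(Cfsg.generalizedFittingSubgroup X) n).map (Cfsg.generalizedFittingSubgroup X).subtype) = Cfsg.layer X := by
  refine le_antisymm ?_ (le_iInf fun n => ?_)
  · haveI : (Cfsg.layer X).Normal := Local.layer_normal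
    let φ : ↥(Cfsg.generalizedFittingSubgroup X) →* X ⧸ Cfsg.layer X :=
      (QuotientGroup.mk' _).comp (Cfsg.generalizedFittingSubgroup X).subtype
    haveI : Group.IsNilpotent ↥(Cfsg.fittingSubgroup X) := fittingSubgroup_nilpotent
    have hr : φ.range = (Cfsg.fittingSubgroup X).map (QuotientGroup.mk' (Cfsg.layer X)) := by
      rw [MonoidHom.range_comp, Subgroup.range_subtype, Cfsg.generalizedFittingSubgroup,
        Subgroup.map_sup, (Subgroup.map_eq_bot_iff _).2 (QuotientGroup.ker_mk' _).ge, bot_sup_eq]
    haveI : Group.IsSolvable φ.range := hr ▸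
      Group.isSolvable_of_surjective ((QuotientGroup.mk' (Cfsg.layer X)).subgroupMap_surjective (Cfsg.fittingSubgroup X))
    obtain ⟨n, hn⟩ := (Group.isSolvable_def φ.range).1 inferInstance
    refine iInf_le_of_le n ?_
    rintro _ ⟨y, hy, rfl⟩
    have h1 := map_derivedSeries_le_derivedSeries φ.rangeRestrict n (Subgroup.mem_map_of_mem _ hy)
    rw [hn, Subgroup.mem_bot, Subtype.ext_iff] at h1
    exact (QuotientGroup.eq_one_iff (y : X)).1 h1
  · induction n with
    | zero => rw [derivedSeries_zero, ← MonoidHom.range_eq_map, Subgroup.range_subtype]; exact le_sup_left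
    | succ n ih =>
      rw [derivedSeries_succ, Subgroup.map_commutator, ← layer_perfect (G := X)]
      exact Subgroup.commutator_mono ih ih

end Cfsg.Agent.S1316
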