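import Cfsg.Statements.S1317
import Cfsg.Agent.Lib.Solv.Component

set_option autoImplicit false
open Cfsg
open Cfsg.Agent.Solv
open scoped commutatorElement

namespace Cfsg.Agent.S1317

/-- For a finite group X, the centre of the layer E(X) is F(X) ∩ E(X). -/
theorem result {X : Type*} [Group X] [Finite X] : (Subgroup.center ↥(Cfsg.layer X)).map (Cfsg.layer X).subtype = Cfsg.fittingSubgroup X ⊓ Cfsg.layer X := by
  haveI : (Cfsg.layer X).Normal := Local.layer_normal
  refine le_antisymm (le_inf ?_ (Subgroup.map_subtype_le _)) ?_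
  · haveI : ((Subgroup.center ↥(Cfsg.layer X)).map (Cfsg.layer X).subtype).Normal :=
      map_subtype_normal_of_characteristic _ _
    refine normal_le_fitting ?_
    letI : CommGroup (Subgroup.center ↥(Cfsg.layer X)) :=
      { (inferInstance : Group (Subgroup.center ↥(Cfsg.layer X))) with
        mul_comm := fun a b => Subtype.ext (Subgroup.mem_center_iff.1 b.2 a) }
    exact (Group.isNilpotent_congr ((Subgroup.center ↥(Cfsg.layer X)).equivMapOfInjective _
      (Cfsg.layer X).subtype_injective)).1 inferInstance
  · intro x hx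
    obtain ⟨hxF, hxE⟩ := Subgroup.mem_inf.1 hx
    refine ⟨⟨x, hxE⟩, Subgroup.mem_center_iff.2 fun y => Subtype.ext ?_, rfl⟩
    exact (Subgroup.mem_centralizer_iff.1
      (Subgroup.commutator_eq_bot_iff_le_centralizer.1 (layer_commutator_fitting (G := X)) y.2) x hxF).symm

end Cfsg.Agent.S1317
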