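import Cfsg.Statements.S1318
import Cfsg.Agent.Lib.Fusion.GFitting

set_option autoImplicit false
open Cfsg
open Cfsg.Agent.Fusion
open scoped commutatorElement

namespace Cfsg.Agent.S1318

/-- Let X be finite and S ≤ F*(X) a subgroup subnormal in F*(X). Then F(S) = F(X) ∩ S (inside X) and S = F(S)E(S). -/
theorem result {X : Type*} [Group X] [Finite X] (S : Subgroup X) (hS : S ≤ Cfsg.generalizedFittingSubgroup X) (hsn : (S.subgroupOf (Cfsg.generalizedFittingSubgroup X)).IsSubnormal) : (Cfsg.fittingSubgroup ↥S).map S.subtype = Cfsg.fittingSubgroup X ⊓ S ∧ Cfsg.fittingSubgroup ↥S ⊔ Cfsg.layer ↥S = ⊤ := by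
  haveI : (Cfsg.generalizedFittingSubgroup X).Normal := Local.gfit_normal
  have hSX : S.IsSubnormal := Subgroup.IsSubnormal.trans hS hsn (inferInstance : (Cfsg.generalizedFittingSubgroup X).Normal).isSubnormal
  refine ⟨le_antisymm (le_inf ?_ (Subgroup.map_subtype_le _)) ?_, ?_⟩
  · exact Solv.subnormal_nilpotent_le_fitting (Subgroup.IsSubnormal.trans' Solv.fittingSubgroup_normal.isSubnormal hSX)
      (@Group.nilpotent_of_mulEquiv _ _ _ _ Solv.fittingSubgroup_nilpotent
        (Subgroup.equivMapOfInjective _ S.subtype S.subtype_injective))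
  · haveI : (Cfsg.fittingSubgroup X).Normal := Solv.fittingSubgroup_normal
    haveI : Group.IsNilpotent ↥(Cfsg.fittingSubgroup X) := Solv.fittingSubgroup_nilpotent
    intro x hx
    obtain ⟨hxF, hxS⟩ := Subgroup.mem_inf.1 hx
    haveI : Group.IsNilpotent ↥((Cfsg.fittingSubgroup X).subgroupOf S) :=
      @Group.nilpotent_of_mulEquiv _ _ _ _
        (Solv.isNilpotent_of_le (inf_le_left : Cfsg.fittingSubgroup X ⊓ S ≤ _) Solv.fittingSubgroup_nilpotent)
        ((MulEquiv.subgroupCongr (Subgroup.subgroupOf_map_subtype _ _).symm).trans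
          (Subgroup.equivMapOfInjective _ S.subtype S.subtype_injective).symm)
    exact ⟨⟨x, hxS⟩, Solv.normal_le_fitting (N := (Cfsg.fittingSubgroup X).subgroupOf S) inferInstance hxF, rfl⟩
  · have h := gfit_top_of_subnormal (gfit_self X) hsn
    rw [sup_comm]
    change Cfsg.generalizedFittingSubgroup ↥S = ⊤
    have e := Subgroup.subgroupOfEquivOfLe hS
    rw [eq_top_iff, ← Subgroup.map_top_of_surjective e.toMonoidHom e.surjective, ← h]
    show Subgroup.map _ (Cfsg.layer _ ⊔ Cfsg.fittingSubgroup _) ≤ Cfsg.layer _ ⊔ Cfsg.fittingSubgroup _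
    rw [Subgroup.map_sup]
    refine sup_le_sup ?_ (Solv.fitting_map_equiv e)
    rw [Subgroup.map_le_iff_le_comap]
    refine sSup_le fun L hL => Subgroup.map_le_iff_le_comap.1 (Solv.component_le_layer ?_)
    exact ⟨Subgroup.IsSubnormal.map (f := e.toMonoidHom) e.surjective hL.1,
      Local.isQuasisimple_congr (L.equivMapOfInjective _ e.injective) hL.2⟩

end Cfsg.Agent.S1318
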