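import Cfsg.Statements.S1319
import Cfsg.Agent.Lib.Solv.Component

set_option autoImplicit false
open Cfsg
open Cfsg.Agent.Solv
open scoped commutatorElement

namespace Cfsg.Agent.S1319

/-- Let A be a subnormal subgroup of the finite group X with E(A) = A. Then A ≤ E(X) and A is normal in E(X). -/
theorem result {X : Type*} [Group X] [Finite X] (A : Subgroup X) (hsn : A.IsSubnormal) (hA : Cfsg.layer ↥A = ⊤) : A ≤ Cfsg.layer X ∧ (A.subgroupOf (Cfsg.layer X)).Normal := by
  have hle : A ≤ Cfsg.layer X := by
    intro x hx
    have h1 : (Cfsg.layer ↥A).map A.subtype ≤ Cfsg.layer X := by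
      rw [Subgroup.map_le_iff_le_comap]
      refine sSup_le fun K hK => Subgroup.map_le_iff_le_comap.1 (component_le_layer ?_)
      refine component_of_subgroupOf hsn (Subgroup.map_subtype_le K) ?_
      rwa [Subgroup.subgroupOf, Subgroup.comap_map_eq_self_of_injective A.subtype_injective]
    exact h1 ⟨⟨x, hx⟩, hA.symm ▸ Subgroup.mem_top _, rfl⟩
  refine ⟨hle, (Subgroup.normal_subgroupOf_iff_le_normalizer hle).2 (sSup_le fun K hK => ?_)⟩
  rcases component_subnormal_dichotomy hK hsn with h | h
  · exact h.trans Subgroup.le_normalizer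
  · exact (Subgroup.commutator_eq_bot_iff_le_centralizer.1 h).trans
      (Subgroup.centralizer_le_normalizer _)

end Cfsg.Agent.S1319
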