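import Cfsg.Statements.S1321
import Cfsg.Agent.Lib.Solv.Component
import Cfsg.Agent.Lib.Solv.Coprime

set_option autoImplicit false
open Cfsg Cfsg.Agent
open scoped commutatorElement

namespace Cfsg.Agent.S1321

/-- Let X be finite and U ≤ X. Then E(X) is generated by C_{E(X)}(U) together with ⁅E(X), U⁆ (indeed it is their product, ⁅E(X), U⁆ being normal in E(X)). -/
theorem result {X : Type*} [Group X] [Finite X] (U : Subgroup X) : Cfsg.layer X = (Cfsg.layer X ⊓ Subgroup.centralizer (U : Set X)) ⊔ ⁅Cfsg.layer X, U⁆ ∧ ⁅Cfsg.layer X, U⁆ ≤ Cfsg.layer X := by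
  haveI hEn : (Cfsg.layer X).Normal := Local.layer_normal
  obtain ⟨E, hE⟩ : ∃ E, E = Cfsg.layer X := ⟨_, rfl⟩
  rw [← hE] at hEn ⊢
  have hle : ⁅E, U⁆ ≤ E := Subgroup.commutator_le_left E U
  refine ⟨le_antisymm ?_ (sup_le inf_le_left hle), hle⟩
  have hsn : (⁅E, U⁆).IsSubnormal := by
    refine Subgroup.IsSubnormal.step _ E hle hEn.isSubnormal ?_
    rw [Subgroup.normal_subgroupOf_iff_le_normalizer hle]
    exact (Solv.commutator_normal_in (A := U) (K := E) (by rw [Subgroup.normalizer_eq_top]; exact le_top)).2.1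
  conv_lhs => rw [hE]
  refine sSup_le fun K hK => ?_
  rcases Solv.component_subnormal_dichotomy hK hsn with h | h
  · exact h.trans le_sup_right
  · refine le_trans (le_inf (hE ▸ Solv.component_le_layer hK) ?_) le_sup_left
    rw [← Subgroup.commutator_eq_bot_iff_le_centralizer]
    refine Solv.commutator_eq_bot_of_perfect (Solv.qs_self_commutator hK.2) (eq_bot_iff.2 ?_)
    refine le_trans ?_ h.le
    rw [Subgroup.commutator_comm K ⁅E, U⁆]
    exact Subgroup.commutator_mono (Subgroup.commutator_mono (hE ▸ Solv.component_le_layer hK) le_rfl) le_rfl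

end Cfsg.Agent.S1321
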