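import Cfsg.Statements.S1323
import Cfsg.Agent.Lib.Local.Basics
import Cfsg.Agent.Lib.Fusion.Cores

set_option autoImplicit false
open Cfsg
open Cfsg.Agent.Fusion
open scoped commutatorElement

namespace Cfsg.Agent.S1323

open Equiv Equiv.Perm

variable {α : Type*} [Fintype α] [DecidableEq α]

/-- Even permutations supported on `s`. -/
def Alt (s : Finset α) : Subgroup (alternatingGroup α) where
  carrier := {σ | ∀ x, x ∉ s → σ.1 x = x}
  one_mem' := fun x _ => rfl
  mul_mem' := fun {a b} ha hb x hx => by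
    rw [Subgroup.coe_mul, Equiv.Perm.mul_apply, hb x hx, ha x hx]
  inv_mem' := fun {a} ha x hx => by
    rw [Subgroup.coe_inv, Equiv.Perm.inv_eq_iff_eq]; exact (ha x hx).symm

theorem mem_Alt {s : Finset α} {σ : alternatingGroup α} : σ ∈ Alt s ↔ ∀ x, x ∉ s → σ.1 x = x := Iff.rfl

theorem Alt_apply_mem {s : Finset α} {σ : alternatingGroup α} (h : σ ∈ Alt s) {x : α} (hx : x ∈ s) :
    σ.1 x ∈ s := by
  by_contra h'
  exact h' (by rwa [σ.1.injective (h _ h')])

theorem three_cycle {s : Finset α} {d e f : α} (hd : d ∈ s) (he : e ∈ s) (hf : f ∈ s)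
    (hde : d ≠ e) (hdf : d ≠ f) (hef : e ≠ f) :
    ∃ σ ∈ Alt s, σ.1 d = f ∧ σ.1 f = e ∧ σ.1 e = d ∧ ∀ x, x ≠ d → x ≠ e → x ≠ f → σ.1 x = x := by
  refine ⟨⟨swap d e * swap d f, (isThreeCycle_swap_mul_swap_same hde hdf hef).mem_alternatingGroup⟩,
    fun x hx => ?_, ?_, ?_, ?_, ?_⟩
  · have hxd : x ≠ d := fun h => hx (h ▸ hd)
    have hxe : x ≠ e := fun h => hx (h ▸ he)
    have hxf : x ≠ f := fun h => hx (h ▸ hf)
    simp [swap_apply_of_ne_of_ne, hxd, hxe, hxf]
  · simp [swap_apply_of_ne_of_ne, hdf.symm, hef.symm]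
  · simp
  · simp [swap_apply_of_ne_of_ne, hde.symm, hef]
  · intro x hxd hxe hxf
    simp [swap_apply_of_ne_of_ne, hxd, hxe, hxf]

theorem exists_moves {s : Finset α} (hs : 3 ≤ s.card) {c : α} (hc : c ∈ s) :
    ∃ σ ∈ Alt s, σ.1 c ≠ c := by
  have h2 : 1 < (s.erase c).card := by rw [Finset.card_erase_of_mem hc]; omega
  obtain ⟨e, he, f, hf, hef⟩ := Finset.one_lt_card.1 h2
  rw [Finset.mem_erase] at he hf
  obtain ⟨σ, hσ, h1, -, -, -⟩ := three_cycle hc he.2 hf.2 he.1.symm hf.1.symm hef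
  exact ⟨σ, hσ, h1 ▸ hf.1⟩

theorem map_conj_Alt (g : alternatingGroup α) (s : Finset α) :
    (Alt s).map (MulAut.conj g).toMonoidHom = Alt (s.image g.1) := by
  ext σ
  rw [Local.mem_conj_map, mem_Alt, mem_Alt]
  simp only [Subgroup.coe_mul, Subgroup.coe_inv, Equiv.Perm.mul_apply, Equiv.Perm.inv_eq_iff_eq]
  constructor
  · intro h x hx
    obtain ⟨y, rfl⟩ := g.1.surjective x
    exact h y fun hy => hx (Finset.mem_image_of_mem _ hy)
  · intro h y hy
    refine h _ ?_
    simpa using hy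

theorem Alt_injective {s t : Finset α} (hs : 3 ≤ s.card) (ht : 3 ≤ t.card) (h : Alt s = Alt t) : s = t := by
  have key : ∀ {s t : Finset α}, 3 ≤ s.card → Alt s = Alt t → s ⊆ t := by
    intro s t hs h x hx
    obtain ⟨σ, hσ, hne⟩ := exists_moves hs hx
    by_contra hxt
    exact hne (mem_Alt.1 (h ▸ hσ) x hxt)
  exact Finset.Subset.antisymm (key hs h) (key ht h.symm)

theorem mem_normalizer_Alt {s : Finset α} (hs : 3 ≤ s.card) (g : alternatingGroup α) :
    g ∈ Subgroup.normalizer (Alt s : Set (alternatingGroup α)) ↔ s.image g.1 = s := by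
  rw [← Local.conj_map_eq_iff, map_conj_Alt]
  exact ⟨Alt_injective (by rwa [Finset.card_image_of_injective _ g.1.injective]) hs, fun h => by rw [h]⟩

theorem Alt_inf (s t : Finset α) : Alt s ⊓ Alt t = Alt (s ∩ t) := by
  ext σ
  simp only [Subgroup.mem_inf, mem_Alt, Finset.mem_inter, not_and_or]
  exact ⟨fun h x hx => hx.elim (h.1 x) (h.2 x), fun h => ⟨fun x hx => h x (Or.inl hx), fun x hx => h x (Or.inr hx)⟩⟩

theorem Alt_equiv (s : Finset α) : Nonempty (alternatingGroup {x // x ∈ s} ≃* Alt s) := by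
  let f : alternatingGroup {x // x ∈ s} →* ↥(Alt s) :=
    { toFun := fun π => ⟨⟨Equiv.Perm.ofSubtype π.1, by
          rw [Equiv.Perm.mem_alternatingGroup, sign_ofSubtype]
          exact Equiv.Perm.mem_alternatingGroup.1 π.2⟩,
        fun x hx => Equiv.Perm.ofSubtype_apply_of_not_mem π.1 hx⟩
      map_one' := by apply Subtype.ext; apply Subtype.ext; exact map_one _
      map_mul' := fun a b => by apply Subtype.ext; apply Subtype.ext; exact map_mul _ a.1 b.1 }
  refine ⟨MulEquiv.ofBijective f ⟨?_, ?_⟩⟩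
  · intro a b h
    exact Subtype.ext (Equiv.Perm.ofSubtype_injective (congrArg (fun w : ↥(Alt s) => w.1.1) h))
  · intro σ
    have hp : ∀ x, σ.1.1 x ∈ s ↔ x ∈ s := fun x =>
      ⟨fun h => by by_contra hx; exact hx (by rwa [σ.2 x hx] at h), fun h => Alt_apply_mem σ.2 h⟩
    have hof : Equiv.Perm.ofSubtype (σ.1.1.subtypePerm hp) = σ.1.1 := by
      refine Equiv.Perm.ofSubtype_subtypePerm hp fun x hx => ?_
      by_contra h'
      exact hx (σ.2 x h')
    refine ⟨⟨σ.1.1.subtypePerm hp, ?_⟩, Subtype.ext (Subtype.ext hof)⟩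
    have := Equiv.Perm.mem_alternatingGroup.1 σ.1.2
    rw [Equiv.Perm.mem_alternatingGroup]
    rwa [← hof, sign_ofSubtype] at this

theorem odd_card_Alt (s : Finset α) (hs : s.card ≤ 3) : Odd (Nat.card ↥(Alt s)) := by
  obtain ⟨e⟩ := Alt_equiv s
  rw [← Nat.card_congr e.toEquiv]
  by_cases h : Nontrivial {x // x ∈ s}
  · rw [nat_card_alternatingGroup]
    have h2 : 1 < Fintype.card {x // x ∈ s} := Fintype.one_lt_card
    simp only [Fintype.card_coe, Nat.card_eq_fintype_card] at h2 ⊢
    interval_cases s.card <;> decide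
  · haveI := not_nontrivial_iff_subsingleton.1 h
    haveI : Subsingleton (alternatingGroup {x // x ∈ s}) := ⟨fun a b => Subtype.ext (Subsingleton.elim _ _)⟩
    rw [Nat.card_of_subsingleton (1 : alternatingGroup {x // x ∈ s})]
    exact odd_one

/-- For n ≥ 9, the subgroup of the alternating group on Fin n fixing each of the points 0, 1, 2, 3 is a standard subgroup. -/
theorem result (n : ℕ) (h4 : 4 ≤ n) (hn : 9 ≤ n) : Cfsg.IsStandardSubgroup (⨅ i : Fin 4, MulAction.stabilizer ↥(alternatingGroup (Fin n)) (Fin.castLE h4 i : Fin n)) := by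
  classical
  obtain ⟨C, hC⟩ : ∃ C : Finset (Fin n), C = Finset.univ.filter (fun x : Fin n => 4 ≤ (x : ℕ)) := ⟨_, rfl⟩
  obtain ⟨B, hB⟩ : ∃ B : Finset (Fin n), B = Cᶜ := ⟨_, rfl⟩
  have hBmem : ∀ x, x ∈ B ↔ (x : ℕ) < 4 := fun x => by simp [hB, hC]
  have hCmem : ∀ x, x ∉ C ↔ x ∈ B := fun x => by simp [hB]
  have hBimg : B = Finset.univ.image (Fin.castLE h4) := by
    ext x
    rw [hBmem, Finset.mem_image]
    exact ⟨fun h => ⟨⟨x, h⟩, Finset.mem_univ _, rfl⟩, fun ⟨i, _, hi⟩ => hi ▸ i.2⟩
  have hBc : B.card = 4 := by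
    rw [hBimg, Finset.card_image_of_injective _ (Fin.castLE_injective h4), Finset.card_univ, Fintype.card_fin]
  have hCc : C.card = n - 4 := by
    have := Finset.card_compl C
    rw [← hB, hBc, Fintype.card_fin] at this
    have : C.card ≤ n := by simpa using Finset.card_le_univ C
    omega
  have hL : (⨅ i : Fin 4, MulAction.stabilizer ↥(alternatingGroup (Fin n)) (Fin.castLE h4 i : Fin n)) = Alt C := by
    ext σ
    simp only [Subgroup.mem_iInf, MulAction.mem_stabilizer_iff, mem_Alt, hCmem, hBmem]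
    constructor
    · intro h x hx
      exact h ⟨x, hx⟩
    · intro h i
      exact h _ i.2
  rw [hL]
  -- the centralizer
  have hK : Subgroup.centralizer (Alt C : Set (alternatingGroup (Fin n))) = Alt B := by
    apply le_antisymm
    · intro g hg x hx
      have hxC : x ∈ C := by by_contra h; exact hx ((hCmem x).1 h)
      have comm : ∀ σ ∈ Alt C, ∀ y, σ.1 (g.1 y) = g.1 (σ.1 y) := fun σ hσ y => by
        have := congrArg (fun w : alternatingGroup (Fin n) => w.1 y) (Subgroup.mem_centralizer_iff.1 hg σ hσ)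
        simpa using this
      by_contra hne
      have hgC : g.1 x ∈ C := by
        by_contra h
        obtain ⟨σ, hσ, hσx⟩ := exists_moves (by omega : 3 ≤ C.card) hxC
        exact hσx (g.1.injective (by rw [← comm σ hσ, hσ _ h]))
      have h2 : 1 < ((C.erase x).erase (g.1 x)).card := by
        rw [Finset.card_erase_of_mem (Finset.mem_erase.2 ⟨hne, hgC⟩), Finset.card_erase_of_mem hxC]; omega
      obtain ⟨e, he, f, hf, hef⟩ := Finset.one_lt_card.1 h2
      rw [Finset.mem_erase, Finset.mem_erase] at he hf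
      obtain ⟨σ, hσ, h1, -, -, hfix⟩ := three_cycle hgC he.2.2 hf.2.2 he.1.symm hf.1.symm hef
      have := comm σ hσ x
      rw [h1, hfix x (Ne.symm hne) he.2.1.symm hf.2.1.symm] at this
      exact hf.1 this
    · intro g hg
      refine Subgroup.mem_centralizer_iff.2 fun σ hσ => Subtype.ext ?_
      refine (Equiv.Perm.Disjoint.commute fun x => ?_).eq
      by_cases h : x ∈ C
      · exact Or.inr (hg x fun hb => (hCmem x).2 hb h)
      · exact Or.inl (hσ x h)
  have himg : ∀ g : alternatingGroup (Fin n), C.image g.1 = C ↔ B.image g.1 = B := fun g => by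
    have e : B.image g.1 = (C.image g.1)ᶜ := by
      ext y
      obtain ⟨x, rfl⟩ := g.1.surjective y
      simp [hB]
    rw [e, hB, compl_inj_iff]
  refine ⟨?_, ?_, ?_, ?_⟩
  · obtain ⟨e⟩ := Alt_equiv C
    have h5 : 5 ≤ Nat.card {x // x ∈ C} := by rw [Nat.card_eq_fintype_card, Fintype.card_coe]; omega
    refine Local.isQuasisimple_congr e ⟨?_, ?_⟩
    · exact ⟨commutator_alternatingGroup_eq_top h5⟩
    · haveI := alternatingGroup.isSimpleGroup h5
      exact MulEquiv.isSimpleGroup ((QuotientGroup.quotientMulEquivOfEq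
        (alternatingGroup.center_eq_bot (by omega))).trans (QuotientGroup.quotientBot))
  · rw [hK]
    refine ⟨?_, fun g hg => ?_⟩
    · obtain ⟨e⟩ := Alt_equiv B
      haveI : Nontrivial {x // x ∈ B} := Fintype.one_lt_card_iff_nontrivial.1 (by rw [Fintype.card_coe]; omega)
      rw [← Nat.card_congr e.toEquiv, nat_card_alternatingGroup]
      simp only [Nat.card_eq_fintype_card, Fintype.card_coe, hBc]
      decide
    · rw [map_conj_Alt, Alt_inf]
      refine odd_card_Alt _ ?_
      by_contra h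
      refine hg ((mem_normalizer_Alt (by omega) g).2 ?_)
      have e1 : B ∩ B.image g.1 = B := Finset.eq_of_subset_of_card_le Finset.inter_subset_left (by omega)
      refine (Finset.eq_of_subset_of_card_le (Finset.inter_eq_left.1 e1) ?_).symm
      rw [Finset.card_image_of_injective _ g.1.injective]
  · intro g hg hbot
    rw [map_conj_Alt] at hg hbot
    obtain ⟨C', hC'⟩ : ∃ C', C' = C.image g.1 := ⟨_, rfl⟩
    rw [← hC'] at hg hbot
    have hc : C'.card = C.card := by rw [hC', Finset.card_image_of_injective _ g.1.injective]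
    have hne : C' ≠ C := fun h => hg (by rw [h])
    obtain ⟨c, hc', hcC⟩ := Finset.not_subset.1 fun h => hne (Finset.eq_of_subset_of_card_le h hc.ge)
    have hi : (C ∩ C').Nonempty := by
      rw [← Finset.card_pos]
      have h1 := Finset.card_union_add_card_inter C C'
      have h2 : (C ∪ C').card ≤ n := by simpa using Finset.card_le_univ (C ∪ C')
      omega
    obtain ⟨x, hx⟩ := hi
    rw [Finset.mem_inter] at hx
    have h2 : 1 < (C.erase x).card := by rw [Finset.card_erase_of_mem hx.1]; omega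
    obtain ⟨a, ha, b, hb, hab⟩ := Finset.one_lt_card.1 h2
    rw [Finset.mem_erase] at ha hb
    obtain ⟨σ, hσ, hσx, -, -, hσfix⟩ := three_cycle hx.1 hb.2 ha.2 hb.1.symm ha.1.symm hab.symm
    have hxc : x ≠ c := fun h => hcC (h ▸ hx.1)
    have h3 : 0 < ((C'.erase x).erase c).card := by
      rw [Finset.card_erase_of_mem (Finset.mem_erase.2 ⟨hxc.symm, hc'⟩), Finset.card_erase_of_mem hx.2]; omega
    obtain ⟨d, hd⟩ := Finset.card_pos.1 h3
    rw [Finset.mem_erase, Finset.mem_erase] at hd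
    obtain ⟨τ, hτ, hτx, hτc, hτd, hτfix⟩ := three_cycle hx.2 hd.2.2 hc' hd.2.1.symm hxc hd.1
    have hcomm : σ * τ = τ * σ := commutatorElement_eq_one_iff_mul_comm.1
      (Subgroup.mem_bot.1 (hbot ▸ Subgroup.commutator_mem_commutator hσ hτ))
    have h := congrArg (fun w : alternatingGroup (Fin n) => w.1 x) hcomm
    simp only [Subgroup.coe_mul, Equiv.Perm.mul_apply, hσx, hτx, hσ c hcC] at h
    -- `h : c = τ a`
    have hac : a ≠ c := fun h' => hcC (h' ▸ ha.2)
    by_cases had : a = d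
    · rw [had, hτd] at h; exact hxc h.symm
    · rw [hτfix a ha.1 had hac] at h; exact hac h.symm
  · rw [hK]
    ext g
    rw [mem_normalizer_Alt (by omega), mem_normalizer_Alt (by omega), himg]

end Cfsg.Agent.S1323
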