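import Cfsg.Statements.S1324
import Cfsg.Agent.Lib.Solv.Generation

set_option autoImplicit false
open Cfsg Cfsg.Agent
open scoped commutatorElement

namespace Cfsg.Agent.S1324

/-- Let A be a noncyclic elementary abelian p-subgroup of a finite group H normalizing a subgroup X of order prime to p. Then X is generated by the subgroups X ∩ C_H(B), B ranging over the subgroups of A of index at most p. -/
theorem result {H : Type*} [Group H] [Finite H] (p : ℕ) [Fact p.Prime] (A X : Subgroup H) (hA : Cfsg.IsElementaryAbelian p A) (hA2 : p ^ 2 ≤ Nat.card ↥A) (hX : ¬ p ∣ Nat.card ↥X) (hAX : A ≤ Subgroup.normalizer (X : Set H)) : X = ⨆ B : {B : Subgroup H // B ≤ A ∧ B.relIndex A ≤ p}, X ⊓ Subgroup.centralizer ((B : Subgroup H) : Set H) := by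
  obtain ⟨k, hk⟩ := IsPGroup.iff_card.1 (show IsPGroup p A from fun a => ⟨1, by rw [pow_one]; exact Subtype.ext (hA.2 a a.2)⟩)
  have hp : p.Prime := Fact.out
  refine le_antisymm ?_ (iSup_le fun B => inf_le_left)
  have hco : (Nat.card A).Coprime (Nat.card X) := by
    rw [hk]
    exact Nat.Coprime.pow_left k ((Nat.Prime.coprime_iff_not_dvd hp).2 hX)
  refine (Solv.gen_eq A X ⟨⟨hA.1.is_comm.comm⟩⟩ hAX hco).ge.trans (iSup₂_le fun B hB => ?_)
  refine le_iSup_of_le ⟨B, hB.1, ?_⟩ le_rfl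
  obtain ⟨a, ha, hBa⟩ := hB.2
  have hBn : (B.subgroupOf A).Normal := ⟨fun b hb g => by
    rwa [hA.1.is_comm.comm g b, mul_inv_cancel_right]⟩
  set mk := QuotientGroup.mk' (B.subgroupOf A) with hmk
  have hgen : ∀ q : A ⧸ B.subgroupOf A, q ∈ Subgroup.zpowers (mk ⟨a, ha⟩) := by
    intro q
    obtain ⟨x, rfl⟩ := QuotientGroup.mk'_surjective _ q
    have hx : ((x : H)) ∈ (((B ⊔ Subgroup.zpowers a : Subgroup H)) : Set H) := by rw [hBa]; exact x.2
    rw [Subgroup.coe_mul_of_right_le_normalizer_left B (Subgroup.zpowers a) (by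
      rw [Subgroup.zpowers_le]
      refine Subgroup.mem_normalizer_iff.2 fun y => ?_
      constructor
      · intro hy
        rwa [show a * y = y * a from congrArg Subtype.val (hA.1.is_comm.comm ⟨a, ha⟩ ⟨y, hB.1 hy⟩),
          mul_inv_cancel_right]
      · intro hy
        have hyA : y ∈ A := by
          have := A.mul_mem (A.mul_mem (A.inv_mem ha) (hB.1 hy)) ha
          simpa [mul_assoc] using this
        rwa [show a * y = y * a from congrArg Subtype.val (hA.1.is_comm.comm ⟨a, ha⟩ ⟨y, hyA⟩),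
          mul_inv_cancel_right] at hy)] at hx
    obtain ⟨b, hb, _, ⟨i, rfl⟩, he⟩ := hx
    refine ⟨i, ?_⟩
    have e : x = ⟨b, hB.1 hb⟩ * (⟨a, ha⟩ : A) ^ i := Subtype.ext he.symm
    rw [e, map_mul, map_zpow]
    have : mk (⟨b, hB.1 hb⟩ : A) = 1 := (QuotientGroup.eq_one_iff _).2 hb
    rw [this, one_mul]
  have hdvd : Nat.card (A ⧸ B.subgroupOf A) ∣ p := by
    rw [← orderOf_eq_card_of_forall_mem_zpowers hgen]
    refine orderOf_dvd_of_pow_eq_one ?_
    rw [← map_pow, show (⟨a, ha⟩ : A) ^ p = 1 from Subtype.ext (hA.2 a ha), map_one]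
  rw [Subgroup.relIndex, Subgroup.index_eq_card]
  exact Nat.le_of_dvd hp.pos hdvd

end Cfsg.Agent.S1324
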