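import Cfsg.Statements.S1326
import Cfsg.Agent.Lib.Solv.Component

set_option autoImplicit false
open Cfsg
open Cfsg.Agent.Solv
open scoped commutatorElement

namespace Cfsg.Agent.S1326

/-- For a finite group X: the Fitting subgroup contains its centralizer if and only if the layer of X is trivial. -/
theorem result {X : Type*} [Group X] [Finite X] : Subgroup.centralizer (Cfsg.fittingSubgroup X : Set X) ≤ Cfsg.fittingSubgroup X ↔ Cfsg.layer X = ⊥ := by
  have hEF := layer_commutator_fitting (G := X)
  constructor
  · intro h
    have hle : Cfsg.layer X ≤ Cfsg.fittingSubgroup X :=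
      le_trans (Subgroup.commutator_eq_bot_iff_le_centralizer.1 hEF) h
    rw [← layer_perfect (G := X), eq_bot_iff]
    exact (Subgroup.commutator_mono le_rfl hle).trans hEF.le
  · intro h
    have := centralizer_gfit_le (G := X)
    rwa [Cfsg.generalizedFittingSubgroup, h, bot_sup_eq] at this

end Cfsg.Agent.S1326
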