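import Cfsg.Statements.S1328
import Cfsg.Agent.Lib.Fusion.CoreComponents

set_option autoImplicit false
open Cfsg
open Cfsg.Agent.Fusion
open scoped commutatorElement

namespace Cfsg.Agent.S1328

/-- Let G be finite, H ≤ G with O(H) = 1, t an involution of G normalizing H, and Y a nontrivial subgroup of O(C_H(t)). Then some component E of H is normalized by t and by Y and centralized by neither t nor Y. -/
theorem result {G : Type*} [Group G] [Finite G] (H : Subgroup G) (hO : Cfsg.oddCore ↥H = ⊥) (t : G) (ht : orderOf t = 2) (htH : t ∈ Subgroup.normalizer (H : Set G)) (Y : Subgroup G) (hY1 : Y ≠ ⊥) (hY : Y ≤ (Cfsg.oddCore ↥(H ⊓ Subgroup.centralizer ({t} : Set G))).map (H ⊓ Subgroup.centralizer ({t} : Set G)).subtype) : ∃ E : Subgroup ↥H, Cfsg.IsComponent E ∧ (E.map H.subtype).map (MulAut.conj t).toMonoidHom = E.map H.subtype ∧ Y ≤ Subgroup.normalizer ((E.map H.subtype : Subgroup G) : Set G) ∧ ¬ (t ∈ Subgroup.centralizer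 ((E.map H.subtype : Subgroup G) : Set G)) ∧ ¬ (Y ≤ Subgroup.centralizer ((E.map H.subtype : Subgroup G) : Set G)) := by
  have htt : t ^ 2 = 1 := ht ▸ pow_orderOf_eq_one t
  obtain ⟨M, hM⟩ : ∃ M, M = H ⊔ Subgroup.zpowers t := ⟨_, rfl⟩
  have hHM : H ≤ M := hM ▸ le_sup_left
  have htM : t ∈ M := hM ▸ Subgroup.mem_sup_right (Subgroup.mem_zpowers t)
  have hMN : M ≤ Subgroup.normalizer (H : Set G) := hM ▸ sup_le Subgroup.le_normalizer (Subgroup.zpowers_le.2 htH)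
  obtain ⟨H', hH'⟩ : ∃ H', H' = H.subgroupOf M := ⟨_, rfl⟩
  haveI hH'n : H'.Normal := by rw [hH']; exact (Subgroup.normal_subgroupOf_iff_le_normalizer hHM).2 hMN
  obtain ⟨t', ht'⟩ : ∃ t', t' = (⟨t, htM⟩ : ↥M) := ⟨_, rfl⟩
  have ht'2 : t' ^ 2 = 1 := ht' ▸ Subtype.ext htt
  obtain ⟨θ, hθ⟩ : ∃ θ : ↥M →* _, θ = QuotientGroup.mk' H' := ⟨_, rfl⟩
  have hquot : ∀ m : ↥M, θ m ∈ Subgroup.zpowers (θ t') := by
    intro m
    have hm : (m : G) ∈ H ⊔ Subgroup.zpowers t := hM.le m.2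
    rw [← SetLike.mem_coe, Subgroup.coe_mul_of_right_le_normalizer_left H (Subgroup.zpowers t)
      (Subgroup.zpowers_le.2 htH)] at hm
    obtain ⟨a, ha, _, ⟨i, rfl⟩, he⟩ := hm
    refine ⟨i, ?_⟩
    show θ t' ^ i = θ m
    have hm' : m = ⟨a, hHM ha⟩ * t' ^ i := Subtype.ext (by rw [ht']; exact he.symm)
    rw [hm', map_mul, map_zpow, show θ ⟨a, hHM ha⟩ = 1 by
      rw [hθ]; exact (QuotientGroup.eq_one_iff _).2 (hH' ▸ ha), one_mul]
  have hcardθ : θ t' ^ 2 = 1 := by rw [← map_pow, ht'2, map_one]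
  have h0 : Cfsg.pPrimeCore 2 ↥M = ⊥ := by
    have hle : Cfsg.pPrimeCore 2 ↥M ≤ H' := by
      intro z hz
      obtain ⟨i, hi⟩ := hquot z
      have h1 : θ z = 1 := by
        rw [← orderOf_eq_one_iff]
        refine Nat.eq_one_of_dvd_coprimes (Cfsg.Agent.Fusion.mem_pPrimeCore_orderOf hz) (orderOf_map_dvd θ z) ?_
        refine orderOf_dvd_of_pow_eq_one ?_
        rw [← hi]
        show (θ t' ^ i) ^ 2 = 1
        rw [← zpow_natCast, ← zpow_mul, mul_comm, zpow_mul, zpow_natCast, hcardθ, one_zpow]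
      rw [hθ] at h1
      exact (QuotientGroup.eq_one_iff _).1 h1
    have e : ↥H' ≃* ↥H := by rw [hH']; exact Subgroup.subgroupOfEquivOfLe hHM
    have h1 : (Cfsg.pPrimeCore 2 ↥M).subgroupOf H' ≤ Cfsg.pPrimeCore 2 ↥H' := by
      refine Cfsg.Agent.Fusion.le_pPrimeCore ?_
      rw [Cfsg.Agent.Solv.card_subgroupOf hle]
      exact Cfsg.Agent.Fusion.card_pPrimeCore_coprime 2 _
    have h2 : Cfsg.pPrimeCore 2 ↥H = ⊥ := hO
    rw [← Cfsg.Agent.PComp.pPrimeCore_map_equiv (p := 2) e,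
      Subgroup.map_eq_bot_iff_of_injective (f := e.toMonoidHom) _ e.injective] at h2
    rw [h2, le_bot_iff, Subgroup.subgroupOf_eq_bot] at h1
    exact h1.eq_bot_of_le hle
  have hYHC : Y ≤ H ⊓ Subgroup.centralizer ({t} : Set G) := hY.trans (Subgroup.map_subtype_le _)
  have hYH : Y ≤ H := hYHC.trans inf_le_left
  obtain ⟨Y', hY'⟩ : ∃ Y', Y' = Y.subgroupOf M := ⟨_, rfl⟩
  have hY'core : Y' ≤ Cfsg.centralizerPPrimeCore 2 t' := by
    obtain ⟨F, hF⟩ : ∃ F, F = (H ⊓ Subgroup.centralizer ({t} : Set G)).subgroupOf M := ⟨_, rfl⟩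
    obtain ⟨OF, hOF⟩ : ∃ OF, OF = (Cfsg.pPrimeCore 2 ↥(H ⊓ Subgroup.centralizer ({t} : Set G))).map
        (H ⊓ Subgroup.centralizer ({t} : Set G)).subtype := ⟨_, rfl⟩
    have hOFle : OF ≤ H ⊓ Subgroup.centralizer ({t} : Set G) := hOF ▸ Subgroup.map_subtype_le _
    have hCN : ∀ m : ↥M, m ∈ Subgroup.centralizer ({t'} : Set ↥M) →
        (m : G) ∈ Subgroup.normalizer (OF : Set G) := by
      intro m hm
      rw [hOF]
      refine Cfsg.Agent.LocBal.normalizer_le_map_core _ (Cfsg.Agent.Fusion.mem_normalizer_of_cj_le ?_)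
      rw [Cfsg.Agent.Fusion.cj_inf, Cfsg.Agent.Fusion.cj_eq_self (hMN m.2)]
      refine inf_le_inf le_rfl ?_
      have hm' : (m : G) ∈ Subgroup.centralizer ({t} : Set G) := by
        rw [ht', Subgroup.mem_centralizer_singleton_iff] at hm
        exact Subgroup.mem_centralizer_singleton_iff.2 (congrArg Subtype.val hm)
      exact (Cfsg.Agent.Fusion.cj_eq_self_of_mem hm').le
    obtain ⟨W, hW⟩ : ∃ W, W = OF.subgroupOf M := ⟨_, rfl⟩
    have hWC : W ≤ Subgroup.centralizer ({t'} : Set ↥M) := by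
      intro w hw
      rw [hW] at hw
      rw [ht', Subgroup.mem_centralizer_singleton_iff]
      exact Subtype.ext (Subgroup.mem_centralizer_singleton_iff.1 (Subgroup.mem_inf.1 (hOFle hw)).2)
    haveI : (W.subgroupOf (Subgroup.centralizer ({t'} : Set ↥M))).Normal := ⟨fun z hz g => by
      rw [hW] at hz ⊢
      exact (Subgroup.mem_normalizer_iff.1 (hCN g g.2) _).1 hz⟩
    intro y hy
    have hyW : y ∈ W := by rw [hW, Subgroup.mem_subgroupOf, hOF]; exact hY (by rw [hY'] at hy; exact hy)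
    refine ⟨⟨y, hWC hyW⟩, Cfsg.Agent.Fusion.le_pPrimeCore
      (N := W.subgroupOf (Subgroup.centralizer ({t'} : Set ↥M))) ?_ hyW, rfl⟩
    rw [Cfsg.Agent.Solv.card_subgroupOf hWC, hW, Cfsg.Agent.Solv.card_subgroupOf (hOFle.trans (inf_le_left.trans hHM)),
      hOF, Cfsg.Agent.Solv.card_map_subtype]
    exact Cfsg.Agent.Fusion.card_pPrimeCore_coprime 2 _
  obtain ⟨J, hJ, hYJ⟩ : ∃ J : Subgroup ↥M, Cfsg.IsComponent J ∧ ¬ Y' ≤ Subgroup.centralizer (J : Set ↥M) := by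
    by_contra hno
    push Not at hno
    have h1 := Cfsg.Agent.CoreComp.eq_bot_of_centralizes_components h0 ht'2 hY'core hno
    rw [hY', Subgroup.subgroupOf_eq_bot] at h1
    exact hY1 (h1.eq_bot_of_le (hYH.trans hHM))
  have htJ : t' ∈ Subgroup.normalizer (J : Set ↥M) := by
    by_contra hn
    exact hYJ (hY'core.trans (Cfsg.Agent.LocBal.moved_component_centralized h0 ht'2 hJ hn))
  have htnc : t' ∉ Subgroup.centralizer (J : Set ↥M) := fun hc => hYJ (hY'core.trans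
    (Cfsg.Agent.LocBal.component_centralized h0 hJ
      (fun x hx => Subgroup.mem_centralizer_singleton_iff.2 (Subgroup.mem_centralizer_iff.1 hc x hx))
      (Cfsg.Agent.LocBal.core_le_centralizer t') (Cfsg.Agent.LocBal.centralizer_le_normalizer_core t')
      (Cfsg.Agent.LocBal.core_coprime t')))
  have hJH : J ≤ H' := by
    rw [← Cfsg.Agent.Solv.qs_self_commutator hJ.2, Subgroup.commutator_le]
    intro a _ b _
    have hcomm : θ ⁅a, b⁆ = 1 := by
      obtain ⟨i, hi⟩ := hquot a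
      obtain ⟨j, hj⟩ := hquot b
      rw [map_commutatorElement, commutatorElement_eq_one_iff_mul_comm, ← hi, ← hj]
      exact ((Commute.refl (θ t')).zpow_zpow i j).eq
    rw [hθ] at hcomm
    exact (QuotientGroup.eq_one_iff _).1 hcomm
  have hJG : J.map M.subtype ≤ H := by
    rintro _ ⟨z, hz, rfl⟩
    have := hJH hz
    rw [hH'] at this
    exact this
  refine ⟨(J.map M.subtype).subgroupOf H, ?_, ?_, ?_, ?_, ?_⟩
  · refine ⟨?_, Cfsg.Agent.Local.isQuasisimple_congr ((J.equivMapOfInjective _ M.subtype_injective).trans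
      (Subgroup.subgroupOfEquivOfLe hJG).symm) hJ.2⟩
    have h1 := hJ.1.comap (Subgroup.inclusion hHM)
    convert h1 using 1
    ext z
    constructor
    · rintro ⟨w, hw, he⟩
      have he' : w = Subgroup.inclusion hHM z := Subtype.ext he
      exact Subgroup.mem_comap.2 (he' ▸ hw)
    · intro hz
      exact ⟨_, hz, rfl⟩
  all_goals rw [Subgroup.map_subgroupOf_eq_of_le hJG]
  · refine Cfsg.Agent.Fusion.cj_eq_of_cj_le ?_
    rintro _ ⟨_, ⟨z, hz, rfl⟩, rfl⟩
    exact ⟨t' * z * t'⁻¹, (Subgroup.mem_normalizer_iff.1 htJ z).1 hz, by rw [ht']; rfl⟩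
  · intro y hy
    refine Cfsg.Agent.Fusion.mem_normalizer_of_cj_le ?_
    rintro _ ⟨_, ⟨z, hz, rfl⟩, rfl⟩
    have hyM : y ∈ M := hHM (hYH hy)
    have hn := (Cfsg.Agent.LocBal.core_fixes h0 ht'2
      (hY'core (show (⟨y, hyM⟩ : ↥M) ∈ Y' from hY' ▸ hy))).2 J hJ
    exact ⟨⟨y, hyM⟩ * z * (⟨y, hyM⟩ : ↥M)⁻¹, (Subgroup.mem_normalizer_iff.1 hn z).1 hz, rfl⟩
  · intro hc
    refine htnc (Subgroup.mem_centralizer_iff.2 fun z hz => Subtype.ext ?_)
    rw [ht']
    exact Subgroup.mem_centralizer_iff.1 hc z ⟨z, hz, rfl⟩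
  · intro hc
    refine hYJ fun y hy => Subgroup.mem_centralizer_iff.2 fun z hz => Subtype.ext ?_
    exact Subgroup.mem_centralizer_iff.1 (hc (hY' ▸ hy : y ∈ Y.subgroupOf M)) z ⟨z, hz, rfl⟩

end Cfsg.Agent.S1328
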