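import Cfsg.Statements.S1331
import Cfsg.Agent.Lib.Solv.Generation
import Cfsg.Agent.Lib.Fusion.Basic

set_option autoImplicit false
open Cfsg
open Cfsg.Agent.Fusion
open scoped commutatorElement

namespace Cfsg.Agent.S1331

/-- Let θ be a solvable A-signalizer functor on the finite group G for the prime p, A elementary abelian of rank at least 3, X a member of the family of θ, and B ≤ A with |B| ≥ p². Then X is generated by the subgroups X ∩ ⋂_{d ∈ D, d ≠ 1} θ d, D ranging over the subgroups of index p in B. -/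
theorem result {G : Type*} [Group G] [Finite G] (p : ℕ) [Fact p.Prime] (A : Subgroup G) (hA : Cfsg.IsElementaryAbelian p A) (hA3 : p ^ 3 ≤ Nat.card ↥A) (θ : G → Subgroup G) (hθ : Cfsg.IsSolvableSignalizerFunctor p A θ) (X : Subgroup G) (hX : X ∈ Cfsg.signalizerFamily p A θ) (B : Subgroup G) (hB : B ≤ A) (hB2 : p ^ 2 ≤ Nat.card ↥B) : X = ⨆ D : {D : Subgroup G // D ≤ B ∧ D.relIndex B = p}, X ⊓ Cfsg.signalizerInf (D : Subgroup G) θ := by
  have hp := (Fact.out : p.Prime)
  obtain ⟨hXs, hXp, hXA, hXθ⟩ := hX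
  have hBe : ∀ b ∈ B, b ^ p = 1 := fun b hb => hA.2 b (hB hb)
  have hBc : IsMulCommutative ↥B := ⟨⟨fun a b => Subtype.ext (congrArg Subtype.val
    (hA.1.1.1 ⟨a.1, hB a.2⟩ ⟨b.1, hB b.2⟩) : _)⟩⟩
  have hBp : IsPGroup p ↥B := fun b => ⟨1, Subtype.ext (by rw [pow_one]; exact hBe b b.2)⟩
  obtain ⟨k, hk⟩ := IsPGroup.iff_card.1 hBp
  have hk1 : k ≠ 0 := fun h => by
    rw [hk, h, pow_zero] at hB2
    exact absurd hB2 (not_le.2 (Nat.one_lt_pow two_ne_zero hp.one_lt))
  have hle : ∀ D : Subgroup G, D ≤ B → X ⊓ Subgroup.centralizer (D : Set G) ≤ X ⊓ Cfsg.signalizerInf D θ :=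
    fun D hD => le_inf inf_le_left (le_iInf fun d => le_trans
      (inf_le_inf_left X (Subgroup.centralizer_le (by simpa using d.2.1))) (hXθ d (hB (hD d.2.1)) d.2.2))
  refine le_antisymm ?_ (iSup_le fun D => inf_le_left)
  have hgen := Cfsg.Agent.Solv.gen_eq B X hBc (fun b hb => mem_normalizer_of_cj_le (by
      rintro _ ⟨u, hu, rfl⟩
      exact hXA b (hB hb) u hu)) (by rw [hk]; exact ((Nat.Prime.coprime_iff_not_dvd hp).2 hXp).pow_left k)
  conv_lhs => rw [← hgen]
  refine iSup₂_le fun D hD => ?_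
  obtain ⟨hDB, b, hb, he⟩ := hD
  by_cases hDe : D = B
  · obtain ⟨H, hH⟩ := Sylow.exists_subgroup_card_pow_prime p (G := ↥B) (n := k - 1)
      (by rw [hk]; exact pow_dvd_pow p (Nat.sub_le k 1))
    have hH' : H.map B.subtype ≤ B := Subgroup.map_subtype_le H
    have hidx : (H.map B.subtype).relIndex B = p := by
      have h1 := Subgroup.relIndex_mul_relIndex ⊥ _ B bot_le hH'
      rw [Subgroup.relIndex_bot_left, Subgroup.relIndex_bot_left,
        Subgroup.card_map_of_injective B.subtype_injective, hH, hk] at h1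
      rw [show k = (k - 1) + 1 by omega, pow_succ, Nat.add_sub_cancel] at h1
      exact Nat.eq_of_mul_eq_mul_left (pow_pos hp.pos _) h1
    refine le_trans ?_ (le_iSup_of_le ⟨_, hH', hidx⟩ (hle _ hH'))
    rw [hDe]
    exact inf_le_inf_left X (Subgroup.centralizer_le hH')
  · have hidx : D.relIndex B = p := by
      have hbD : b ∉ D := fun h => hDe (he ▸ (sup_eq_left.2 (Subgroup.zpowers_le.2 h)).symm)
      have hdvd : D.relIndex B ∣ p := by
        have hnorm : Subgroup.zpowers b ≤ Subgroup.normalizer (D : Set G) := fun x hx =>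
          mem_normalizer_of_cj_le (by
            rintro _ ⟨u, hu, rfl⟩
            show x * u * x⁻¹ ∈ D
            have := congrArg Subtype.val (hBc.1.1 ⟨x, Subgroup.zpowers_le.2 hb hx⟩ ⟨u, hDB hu⟩)
            rw [show x * u = u * x from this, mul_inv_cancel_right]
            exact hu)
        have hc := Cfsg.Agent.Solv.card_sup_mul_card_inf' D (Subgroup.zpowers b) hnorm
        have h1 := Subgroup.relIndex_mul_relIndex ⊥ D B bot_le hDB
        rw [Subgroup.relIndex_bot_left, Subgroup.relIndex_bot_left] at h1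
        rw [he, Nat.card_zpowers, orderOf_eq_prime (hBe b hb) (fun h => hbD (h ▸ one_mem D))] at hc
        refine (Nat.mul_dvd_mul_iff_left (Nat.card_pos (α := ↥D))).1 ?_
        rw [h1, ← hc]
        exact dvd_mul_right _ _
      exact ((Nat.dvd_prime hp).1 hdvd).resolve_left fun h =>
        hDe (le_antisymm hDB (Subgroup.relIndex_eq_one.1 h))
    exact le_iSup_of_le ⟨D, hDB, hidx⟩ (hle D hDB)

end Cfsg.Agent.S1331
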