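import Cfsg.Statements.S1335
import Cfsg.Agent.Lib.Fusion.Basic

set_option autoImplicit false
open Cfsg
open Cfsg.Agent.Fusion
open scoped commutatorElement

namespace Cfsg.Agent.S1335

/-- Let H be a subgroup of the finite group G, p a prime, k ≥ 1, P a Sylow p-subgroup of H of p-rank at least k, and suppose N_G(X) ≤ H for every subgroup X ≤ P of p-rank at least k. Then P is a Sylow p-subgroup of G. -/
theorem result {G : Type*} [Group G] [Finite G] {p : ℕ} [Fact p.Prime] (k : ℕ) (hk : 1 ≤ k) (H : Subgroup G) (P : Sylow p ↥H) (hP : ¬ Cfsg.PRankLE p (k - 1) ↥(P : Subgroup ↥H)) (hΓ : (∀ X : Subgroup G, X ≤ (P : Subgroup ↥H).map H.subtype → ¬ Cfsg.PRankLE p (k - 1) ↥X → Subgroup.normalizer (X : Set G) ≤ H)) : ∃ Q : Sylow p G, (Q : Subgroup G) = (P : Subgroup ↥H).map H.subtype := by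
  set T := (P : Subgroup ↥H).map H.subtype
  have hTH : T ≤ H := Subgroup.map_subtype_le _
  have hsyl : SylIn p T H := sylIn_map H P
  have hrank : ¬ Cfsg.PRankLE p (k - 1) ↥T := fun h => hP fun A hA hA2 => by
    let e := (P : Subgroup ↥H).equivMapOfInjective H.subtype H.subtype_injective
    rw [← Subgroup.card_map_of_injective (f := e.toMonoidHom) e.injective]
    haveI := hA
    refine h _ (Subgroup.map_isMulCommutative A e.toMonoidHom) ?_
    rintro _ ⟨a, ha, rfl⟩
    rw [← map_pow, hA2 a ha, map_one]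
  obtain ⟨S, hS⟩ := hsyl.isPGroup.exists_le_sylow
  refine ⟨S, ?_⟩
  by_contra hne
  obtain ⟨x, hx, hxT⟩ := SetLike.exists_of_lt (SylIn.normalizer_growth hS (fun h => hne h.symm) S.isPGroup')
  have hle : (S : Subgroup G) ⊓ Subgroup.normalizer (T : Set G) ≤ H :=
    inf_le_right.trans (hΓ T le_rfl hrank)
  exact hxT ((hsyl.eq_of_le (S.isPGroup'.to_inf_left (K := Subgroup.normalizer (T : Set G)))
    (le_inf hS Subgroup.le_normalizer) hle).symm ▸ hx)

end Cfsg.Agent.S1335
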