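import Cfsg.Statements.S1336
import Cfsg.Agent.Lib.Fusion.Basic

set_option autoImplicit false
open Cfsg
open Cfsg.Agent.Fusion
open scoped commutatorElement

namespace Cfsg.Agent.S1336

section
variable {G : Type*} [Group G] (p : ℕ)

theorem cj_elem {E : Subgroup G} (hE : Cfsg.IsElementaryAbelian p E) (g : G) :
    Cfsg.IsElementaryAbelian p (cj E g) := by
  haveI := hE.1
  refine ⟨Subgroup.map_isMulCommutative E _, ?_⟩
  rintro _ ⟨a, ha, rfl⟩
  rw [← map_pow, hE.2 a ha, map_one]

/-- The step relation of the commuting graph. -/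
def step1 (A B : Subgroup G) : Prop :=
  Cfsg.IsElementaryAbelian p A ∧ p ^ 1 ≤ Nat.card ↥A ∧ Cfsg.IsElementaryAbelian p B ∧
    p ^ 1 ≤ Nat.card ↥B ∧ ∀ a ∈ A, ∀ b ∈ B, a * b = b * a

theorem conn_symm {A B : Subgroup G} (h : Relation.ReflTransGen (step1 p) A B) :
    Relation.ReflTransGen (step1 p) B A := by
  induction h with
  | refl => exact Relation.ReflTransGen.refl
  | tail _ hs ih =>
    exact Relation.ReflTransGen.head ⟨hs.2.2.1, hs.2.2.2.1, hs.1, hs.2.1, fun a ha b hb => (hs.2.2.2.2 b hb a ha).symm⟩ ih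

theorem conn_cj {A B : Subgroup G} (h : Relation.ReflTransGen (step1 p) A B) (g : G) :
    Relation.ReflTransGen (step1 p) (cj A g) (cj B g) := by
  induction h with
  | refl => exact Relation.ReflTransGen.refl
  | tail _ hs ih =>
    refine ih.tail ⟨cj_elem p hs.1 g, by rw [card_cj]; exact hs.2.1, cj_elem p hs.2.2.1 g,
      by rw [card_cj]; exact hs.2.2.2.1, ?_⟩
    rintro _ ⟨a, ha, rfl⟩ _ ⟨b, hb, rfl⟩
    rw [← map_mul, ← map_mul, hs.2.2.2.2 a ha b hb]

theorem zpowers_elem [hp : Fact p.Prime] {x : G} (hx : orderOf x = p) :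
    Cfsg.IsElementaryAbelian p (Subgroup.zpowers x) ∧ p ^ 1 ≤ Nat.card ↥(Subgroup.zpowers x) := by
  refine ⟨⟨inferInstance, fun a ha => ?_⟩, by rw [Nat.card_zpowers, hx, pow_one]⟩
  obtain ⟨i, rfl⟩ := Subgroup.mem_zpowers_iff.1 ha
  rw [← zpow_natCast, ← zpow_mul, mul_comm, zpow_mul, zpow_natCast, ← hx, pow_orderOf_eq_one, one_zpow]

theorem exists_order_of_elem [Finite G] [hp : Fact p.Prime] {E : Subgroup G} (hE : Cfsg.IsElementaryAbelian p E)
    (hc : p ^ 1 ≤ Nat.card ↥E) : ∃ a ∈ E, orderOf a = p := by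
  haveI : Nontrivial ↥E := Finite.one_lt_card_iff_nontrivial.1 (by
    have := hp.out.two_le; rw [pow_one] at hc; omega)
  obtain ⟨a, ha⟩ := exists_ne (1 : ↥E)
  exact ⟨a, a.2, orderOf_eq_prime (hE.2 a a.2) fun h => ha (Subtype.ext h)⟩

theorem dvd_card_of_mem [Finite G] {K : Subgroup G} {x : G} (hx : x ∈ K) (ho : orderOf x = p) :
    p ∣ Nat.card ↥K := by
  rw [← ho, ← Subgroup.orderOf_mk x hx]
  exact orderOf_dvd_natCard _

end


/-- Let G be finite and p prime. Then G has a proper subgroup H with p ∣ |H| and p ∤ |H ∩ gHg⁻¹| for every g ∉ H (a strongly p-embedded subgroup) if and only if G is not 1-connected for p. -/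
theorem result {G : Type*} [Group G] [Finite G] (p : ℕ) [Fact p.Prime] : (∃ H : Subgroup G, H ≠ ⊤ ∧ p ∣ Nat.card ↥H ∧ ∀ g : G, g ∉ H → ¬ p ∣ Nat.card ↥(H ⊓ H.map (MulAut.conj g).toMonoidHom)) ↔ ¬ Cfsg.IsKConnected p 1 G := by
  constructor
  · rintro ⟨H, hne, hd, hH⟩ hconn
    obtain ⟨y, hy⟩ := exists_prime_orderOf_dvd_card' p hd
    have hy' : orderOf (y : G) = p := by rw [Subgroup.orderOf_coe, hy]
    obtain ⟨g, -, hg⟩ := SetLike.exists_of_lt (lt_top_iff_ne_top.2 hne)
    obtain ⟨hE, hEc⟩ := zpowers_elem p hy'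
    have hstep : ∀ A B : Subgroup G, Relation.ReflTransGen (step1 p) A B → A ≤ H → B ≤ H := by
      intro A B h hA
      induction h with
      | refl => exact hA
      | tail _ hs ih =>
        intro b hb
        by_contra hbH
        obtain ⟨a, ha, hao⟩ := exists_order_of_elem p hs.1 hs.2.1
        refine hH b hbH (dvd_card_of_mem p (x := a) (Subgroup.mem_inf.2 ⟨ih ha, ?_⟩) hao)
        have h2 := Subgroup.mem_map_of_mem (MulAut.conj b).toMonoidHom (ih ha)
        have h3 : (MulAut.conj b).toMonoidHom a = a := by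
          show b * a * b⁻¹ = a
          rw [← hs.2.2.2.2 a ha b hb, mul_inv_cancel_right]
        rwa [h3] at h2
    have h1 := hstep _ _ (hconn _ _ hE hEc (cj_elem p hE g) (by rw [card_cj]; exact hEc)) (Subgroup.zpowers_le.2 y.2)
    refine hH g hg (dvd_card_of_mem p (x := g * (y : G) * g⁻¹) (Subgroup.mem_inf.2
      ⟨h1 (conj_mem_cj (Subgroup.mem_zpowers _)), conj_mem_cj y.2⟩) ?_)
    exact (orderOf_injective (MulAut.conj g).toMonoidHom (MulAut.conj g).injective (y : G)).trans hy'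
  · intro hn
    have hpG : p ∣ Nat.card G := by
      by_contra hd
      refine hn fun E E' hE hEc _ _ => ?_
      obtain ⟨a, -, ha⟩ := exists_order_of_elem p hE hEc
      exact absurd (ha ▸ orderOf_dvd_natCard a) hd
    obtain ⟨P⟩ : Nonempty (Sylow p G) := inferInstance
    haveI : Nontrivial ↥(P : Subgroup G) := (Subgroup.nontrivial_iff_ne_bot _).2 (P.ne_bot_of_dvd_card hpG)
    haveI := P.isPGroup'.center_nontrivial
    obtain ⟨z, hz⟩ := exists_prime_orderOf_dvd_card' p (show p ∣ Nat.card ↥(Subgroup.center ↥(P : Subgroup G)) by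
      obtain ⟨k, hk⟩ := IsPGroup.iff_card.1 (P.isPGroup'.to_subgroup (Subgroup.center ↥(P : Subgroup G)))
      have := Finite.one_lt_card (α := ↥(Subgroup.center ↥(P : Subgroup G)))
      rcases k with _ | k
      · rw [pow_zero] at hk; omega
      · exact hk ▸ dvd_pow_self p (Nat.succ_ne_zero k))
    obtain ⟨z₀, hz₀⟩ : ∃ z₀, z₀ = ((z : ↥(P : Subgroup G)) : G) := ⟨_, rfl⟩
    have hzo : orderOf z₀ = p := by rw [hz₀, Subgroup.orderOf_coe, Subgroup.orderOf_coe, hz]
    have hzc : ∀ u ∈ (P : Subgroup G), u * z₀ = z₀ * u := fun u hu => by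
      rw [hz₀]
      exact congrArg Subtype.val (Subgroup.mem_center_iff.1 z.2 ⟨u, hu⟩)
    obtain ⟨E₀, hE₀⟩ : ∃ E₀, E₀ = Subgroup.zpowers z₀ := ⟨_, rfl⟩
    have hEel : Cfsg.IsElementaryAbelian p E₀ ∧ p ^ 1 ≤ Nat.card ↥E₀ := hE₀ ▸ zpowers_elem p hzo
    let H : Subgroup G :=
      { carrier := {g | Relation.ReflTransGen (step1 p) E₀ (cj E₀ g)}
        one_mem' := by
          show Relation.ReflTransGen (step1 p) E₀ (cj E₀ 1)
          rw [cj_one]
        mul_mem' := fun {a b} ha hb => by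
          show Relation.ReflTransGen (step1 p) E₀ (cj E₀ (a * b))
          rw [← cj_cj]
          exact Relation.ReflTransGen.trans ha (conn_cj p hb a)
        inv_mem' := fun {a} ha => by
          show Relation.ReflTransGen (step1 p) E₀ (cj E₀ a⁻¹)
          have h := conn_symm p (conn_cj p (show Relation.ReflTransGen (step1 p) E₀ (cj E₀ a) from ha) a⁻¹)
          rwa [cj_cj_inv] at h }
    have hPH : (P : Subgroup G) ≤ H := fun u hu => by
      show Relation.ReflTransGen (step1 p) E₀ (cj E₀ u)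
      have : cj E₀ u = E₀ := by
        rw [hE₀, cj, MonoidHom.map_zpowers]
        congr 1
        show u * z₀ * u⁻¹ = z₀
        rw [hzc u hu, mul_inv_cancel_right]
      rw [this]
    -- a subgroup inside a conjugate of `P` is next to the corresponding conjugate of `E₀`
    have hnext : ∀ (E : Subgroup G), Cfsg.IsElementaryAbelian p E → p ^ 1 ≤ Nat.card ↥E → ∀ h : G,
        cj E h⁻¹ ≤ (P : Subgroup G) → Relation.ReflTransGen (step1 p) E (cj E₀ h) := by
      intro E hE hEc h hle
      have h0 : Relation.ReflTransGen (step1 p) (cj E h⁻¹) E₀ := by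
        refine Relation.ReflTransGen.single ⟨cj_elem p hE _, by rw [card_cj]; exact hEc, hEel.1, hEel.2, ?_⟩
        intro a ha b hb
        rw [hE₀] at hb
        obtain ⟨i, rfl⟩ := Subgroup.mem_zpowers_iff.1 hb
        exact (Commute.zpow_right (show Commute a z₀ from hzc a (hle ha)) i).eq
      have := conn_cj p h0 h
      rwa [cj_inv_cj] at this
    have hHne : H ≠ ⊤ := by
      intro htop
      refine hn fun E E' hE hEc hE' hEc' => ?_
      have key : ∀ E : Subgroup G, Cfsg.IsElementaryAbelian p E → p ^ 1 ≤ Nat.card ↥E →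
          Relation.ReflTransGen (step1 p) E E₀ := fun E hE hEc => by
        obtain ⟨h, -, hle⟩ := (sylIn_top P).conj_le (show IsPGroup p ↥E from
          fun a => ⟨1, Subtype.ext (by rw [pow_one]; exact hE.2 a a.2)⟩) le_top
        have h1 := hnext E hE hEc h⁻¹ (by rwa [inv_inv])
        exact h1.trans (conn_symm p (show h⁻¹ ∈ H from htop.symm ▸ Subgroup.mem_top _))
      exact (key E hE hEc).trans (conn_symm p (key E' hE' hEc'))
    refine ⟨H, hHne, dvd_card_of_mem p (hPH (hz₀ ▸ z.1.2)) hzo, fun g hg hd => hg ?_⟩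
    obtain ⟨x, hx⟩ := exists_prime_orderOf_dvd_card' p hd
    obtain ⟨hx1, hx2⟩ := Subgroup.mem_inf.1 x.2
    have hxo : orderOf (x : G) = p := by rw [Subgroup.orderOf_coe, hx]
    have hin : ∀ y : G, orderOf y = p → y ∈ H → Relation.ReflTransGen (step1 p) (Subgroup.zpowers y) E₀ := by
      intro y hy hyH
      obtain ⟨hE, hEc⟩ := zpowers_elem p hy
      obtain ⟨h, hh, hle⟩ := ((sylIn_top P).mono hPH le_top).conj_le
        (show IsPGroup p ↥(Subgroup.zpowers y) from fun a => ⟨1, Subtype.ext (by rw [pow_one]; exact hE.2 a a.2)⟩)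
        (Subgroup.zpowers_le.2 hyH)
      have h1 := hnext _ hE hEc h⁻¹ (by rwa [inv_inv])
      exact h1.trans (conn_symm p (H.inv_mem hh))
    obtain ⟨w, hw, hwx⟩ := hx2
    have hwo : orderOf w = p := by
      rw [← hxo, ← hwx]
      exact (orderOf_injective _ (MulAut.conj g).injective w).symm
    have h1 := conn_cj p (hin w hwo hw) g
    rw [cj, MonoidHom.map_zpowers, hwx] at h1
    exact (conn_symm p (hin x hxo hx1)).trans h1

end Cfsg.Agent.S1336
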