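import Cfsg.Statements.S1337
import Cfsg.Agent.Lib.Fusion.NormalFour
import Cfsg.Agent.Lib.Solv.Kulakoff

set_option autoImplicit false
open Cfsg
open Cfsg.Agent.Fusion
open scoped commutatorElement

namespace Cfsg.Agent.S1337

theorem centralizer_large {P : Type*} [Group P] [Finite P] {p : ℕ} [Fact p.Prime] (hP : IsPGroup p P)
    (U : Subgroup P) [hUn : U.Normal] (hUc : Nat.card U = p ^ 2) (A : Subgroup P)
    (hAlt : p ^ 2 < Nat.card A) :
    p ^ 2 ≤ Nat.card (A ⊓ Subgroup.centralizer (U : Set P) : Subgroup P) := by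
  have hp := (Fact.out : p.Prime)
  obtain ⟨z, hzU, hzc, hzo⟩ := Solv.exists_central_order hP U (fun h => by
    rw [h, Subgroup.card_bot] at hUc
    have := Nat.one_lt_pow two_ne_zero hp.one_lt
    omega)
  set B := A ⊓ Subgroup.centralizer (U : Set P) with hB
  obtain ⟨u, huU, hu⟩ : ∃ u ∈ U, Subgroup.centralizer ({u} : Set P) ⊓ A ≤ B := by
    obtain ⟨u, huU, huz⟩ : ∃ u ∈ U, u ∉ Subgroup.zpowers z := by
      by_contra h
      push Not at h
      have h1 := Nat.le_of_dvd Nat.card_pos (Subgroup.card_dvd_of_le (fun a ha => h a ha : U ≤ Subgroup.zpowers z))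
      rw [Nat.card_zpowers, hzo, hUc] at h1
      have := Nat.lt_pow_self hp.one_lt (n := 2)
      nlinarith [hp.two_le]
    refine ⟨u, huU, fun c hc => ⟨hc.2, ?_⟩⟩
    have h1 : Subgroup.zpowers z ⊔ Subgroup.zpowers u = U := by
      refine Subgroup.eq_of_le_of_card_ge (sup_le (Subgroup.zpowers_le.2 hzU) (Subgroup.zpowers_le.2 huU)) ?_
      obtain ⟨j, hj⟩ := (hP.to_subgroup (Subgroup.zpowers z ⊔ Subgroup.zpowers u)).exists_card_eq
      have hlt : Nat.card (Subgroup.zpowers z) < Nat.card (Subgroup.zpowers z ⊔ Subgroup.zpowers u : Subgroup P) := by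
        refine lt_of_le_of_ne (Subgroup.card_le_of_le le_sup_left) fun e => huz ?_
        rw [Subgroup.eq_of_le_of_card_ge le_sup_left e.ge]
        exact Subgroup.mem_sup_right (Subgroup.mem_zpowers u)
      rw [Nat.card_zpowers, hzo, hj] at hlt
      rw [hUc, hj]
      refine Nat.pow_le_pow_right hp.pos ?_
      by_contra h
      have := Nat.pow_le_pow_right hp.pos (show j ≤ 1 by omega)
      rw [pow_one] at this
      omega
    have h2 : U ≤ Subgroup.centralizer ({c} : Set P) := by
      rw [← h1]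
      exact sup_le (Subgroup.zpowers_le.2 (Subgroup.mem_centralizer_singleton_iff.2
        (Subgroup.mem_center_iff.1 hzc c).symm)) (Subgroup.zpowers_le.2
        (Subgroup.mem_centralizer_singleton_iff.2 (Subgroup.mem_centralizer_singleton_iff.1 hc.1).symm))
    exact Subgroup.mem_centralizer_iff.2 fun a ha => Subgroup.mem_centralizer_singleton_iff.1 (h2 ha)
  have hBc : p ^ 2 ≤ Nat.card B := by
    have hidx : (Subgroup.centralizer ({u} : Set P)).relIndex A < p ^ 2 := by
      have horb : Nat.card (MulAction.orbit (ConjAct P) u) < p ^ 2 := by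
        have hsub : MulAction.orbit (ConjAct P) u ⊆ (U : Set P) \ {1} ∪ ({1} : Set P) ∩ {u} := by
          rintro _ ⟨g, rfl⟩
          by_cases hu1 : u = 1
          · exact Or.inr ⟨by simp [hu1, ConjAct.smul_def], by simp [hu1, ConjAct.smul_def]⟩
          · refine Or.inl ⟨?_, ?_⟩
            · show g • u ∈ (U : Set P)
              rw [ConjAct.smul_def]; exact hUn.conj_mem u huU _
            · show g • u ≠ 1
              rw [ConjAct.smul_def, ne_eq, conj_eq_one_iff]; exact hu1
        have h1 := Set.ncard_le_ncard hsub (Set.toFinite _)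
        rw [Nat.card_coe_set_eq]
        by_cases hu1 : u = 1
        · have h0 : MulAction.orbit (ConjAct P) u = {1} := by
            ext v
            simp [MulAction.mem_orbit_iff, hu1, ConjAct.smul_def, eq_comm]
          rw [h0, Set.ncard_singleton]
          exact Nat.one_lt_pow two_ne_zero hp.one_lt
        · have h0 : ({1} : Set P) ∩ {u} = ∅ :=
          Set.singleton_inter_eq_empty.2 (by simpa using Ne.symm hu1)
          rw [h0, Set.union_empty, Set.ncard_sdiff_singleton_of_mem U.one_mem] at h1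
          have h3 : ((U : Set P)).ncard = p ^ 2 := by rw [← Nat.card_coe_set_eq]; exact hUc
          have := Nat.one_lt_pow two_ne_zero hp.one_lt
          omega
      have h2 : (Subgroup.centralizer ({u} : Set P)).relIndex A ≤ (Subgroup.centralizer ({u} : Set P)).index := by
        have h := Subgroup.relIndex_le_of_le_right (H := Subgroup.centralizer ({u} : Set P)) (le_top : A ≤ ⊤)
          (by rw [Subgroup.relIndex_top_right]; exact Subgroup.index_ne_zero_of_finite)
        rwa [Subgroup.relIndex_top_right] at h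
      refine h2.trans_lt ?_
      refine lt_of_eq_of_lt ?_ horb
      rw [← Nat.card_congr (MulAction.orbitEquivQuotientStabilizer (ConjAct P) u).symm, ConjAct.stabilizer_eq_centralizer]
      exact Subgroup.index_eq_card _
    obtain ⟨j, hj⟩ := IsPGroup.index (hP.to_subgroup A) ((Subgroup.centralizer ({u} : Set P)).subgroupOf A)
    rw [Subgroup.relIndex, hj] at hidx
    have hj1 : j ≤ 1 := by
      by_contra h
      have := Nat.pow_le_pow_right hp.pos (show 2 ≤ j by omega)
      omega
    have h3 : Nat.card (Subgroup.centralizer ({u} : Set P) ⊓ A : Subgroup P) * p ^ j = Nat.card A := by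
      have := Subgroup.relIndex_mul_relIndex ⊥ (Subgroup.centralizer ({u} : Set P) ⊓ A) A bot_le inf_le_right
      rwa [Subgroup.relIndex_bot_left, Subgroup.relIndex_bot_left, Subgroup.inf_relIndex_right,
        Subgroup.relIndex, hj] at this
    obtain ⟨kA, hkA⟩ := (hP.to_subgroup A).exists_card_eq
    have hkA3 : 3 ≤ kA := by
      rw [hkA] at hAlt
      by_contra h
      exact absurd (Nat.pow_le_pow_right hp.pos (show kA ≤ 2 by omega)) (not_le.2 hAlt)
    refine le_trans ?_ (Subgroup.card_le_of_le hu)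
    refine Nat.le_of_mul_le_mul_right (c := p ^ j) ?_ (pow_pos hp.pos j)
    rw [h3, hkA, ← pow_add]
    exact Nat.pow_le_pow_right hp.pos (by omega)
  exact hBc

theorem isElementaryAbelian_sup {P : Type*} [Group P] {p : ℕ} {A B : Subgroup P}
    (hA : Cfsg.IsElementaryAbelian p A) (hB : Cfsg.IsElementaryAbelian p B)
    (hAB : ∀ a ∈ A, ∀ b ∈ B, a * b = b * a) : Cfsg.IsElementaryAbelian p (A ⊔ B) := by
  have hAC : A ⊔ B ≤ Subgroup.centralizer (A : Set P) ⊓ Subgroup.centralizer (B : Set P) := by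
    refine sup_le (le_inf ?_ ?_) (le_inf ?_ ?_)
    · exact fun a ha => Subgroup.mem_centralizer_iff.2 fun b hb => congrArg Subtype.val (hA.1.is_comm.comm ⟨b, hb⟩ ⟨a, ha⟩)
    · exact fun a ha => Subgroup.mem_centralizer_iff.2 fun b hb => (hAB a ha b hb).symm
    · exact fun b hb => Subgroup.mem_centralizer_iff.2 fun a ha => hAB a ha b hb
    · exact fun a ha => Subgroup.mem_centralizer_iff.2 fun b hb => congrArg Subtype.val (hB.1.is_comm.comm ⟨b, hb⟩ ⟨a, ha⟩)
  have hcomm : ∀ a ∈ A ⊔ B, ∀ b ∈ A ⊔ B, b * a = a * b := by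
    intro a ha b hb
    have h1 : A ⊔ B ≤ Subgroup.centralizer ({a} : Set P) := sup_le
      (fun c hc => Subgroup.mem_centralizer_singleton_iff.2 (Subgroup.mem_centralizer_iff.1 (hAC ha).1 c hc))
      (fun c hc => Subgroup.mem_centralizer_singleton_iff.2 (Subgroup.mem_centralizer_iff.1 (hAC ha).2 c hc))
    exact Subgroup.mem_centralizer_singleton_iff.1 (h1 hb)
  refine ⟨⟨⟨fun a b => Subtype.ext (hcomm b b.2 a a.2)⟩⟩, fun a ha => ?_⟩
  rw [Subgroup.sup_eq_closure] at ha
  induction ha using Subgroup.closure_induction with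
  | mem a ha => exact ha.elim (hA.2 a) (hB.2 a)
  | one => exact one_pow p
  | mul a b ha hb iha ihb =>
    rw [← Subgroup.sup_eq_closure] at ha hb
    rw [Commute.mul_pow (hcomm b hb a ha : Commute a b), iha, ihb, one_mul]
  | inv a _ iha => rw [inv_pow, iha, inv_one]

theorem card_le_of_rank {P : Type*} [Group P] {p : ℕ} {C A : Subgroup P} (hle : Cfsg.PRankLE p 2 C)
    (hA : Cfsg.IsElementaryAbelian p A) (hAle : A ≤ C) : Nat.card A ≤ p ^ 2 := by
  have h1 := hle (A.subgroupOf C)
    ⟨⟨fun a b => Subtype.ext (Subtype.ext (show ((a : C) : P) * ((b : C) : P) = ((b : C) : P) * ((a : C) : P) from congrArg Subtype.val (hA.1.is_comm.comm ⟨((a : C) : P), a.2⟩ ⟨((b : C) : P), b.2⟩)))⟩⟩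
    (fun a ha => Subtype.ext (by simpa using hA.2 _ ha))
  rwa [Nat.card_congr (Subgroup.subgroupOfEquivOfLe hAle).toEquiv] at h1

/-- Let P be a finite p-group of p-rank greater than 2. Then P has a normal elementary abelian subgroup U of order p², and for every elementary abelian X ≤ P with |X| ≥ p²: X is joined to U by a chain of pairwise commuting elementary abelian subgroups of order ≥ p² if and only if C_P(X) has p-rank greater than 2. -/
theorem result {P : Type*} [Group P] [Finite P] (p : ℕ) [Fact p.Prime] (hP : IsPGroup p P) (hrk : ¬ Cfsg.PRankLE p 2 P) : ∃ U : Subgroup P, U.Normal ∧ Cfsg.IsElementaryAbelian p U ∧ Nat.card ↥U = p ^ 2 ∧ ∀ X : Subgroup P, Cfsg.IsElementaryAbelian p X → p ^ 2 ≤ Nat.card ↥X → (Relation.ReflTransGen (fun A B : Subgroup P => Cfsg.IsElementaryAbelian p A ∧ p ^ 2 ≤ Nat.card ↥A ∧ Cfsg.IsElementaryAbelian p B ∧ p ^ 2 ≤ Nat.card ↥B ∧ ∀ a ∈ A, ∀ b ∈ B, a * b = b * a) X U ↔ ¬ Cfsg.PRankLE p 2 ↥(Subgroup.centralizer (X : Set P))) := by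
  have hp := (Fact.out : p.Prime)
  simp only [Cfsg.PRankLE, not_forall, not_le] at hrk
  obtain ⟨E, hEc, hEp, hElt⟩ := hrk
  have hE : Cfsg.IsElementaryAbelian p E := ⟨hEc, hEp⟩
  obtain ⟨kE, hkE⟩ := (hP.to_subgroup E).exists_card_eq
  have hkE3 : 3 ≤ kE := by
    rw [hkE] at hElt
    by_contra h
    exact absurd (Nat.pow_le_pow_right hp.pos (show kE ≤ 2 by omega)) (not_le.2 hElt)
  have hnc : ¬ IsCyclic P := by
    intro hc
    haveI : IsCyclic E := inferInstance
    have h1 : Monoid.exponent E = Nat.card E := IsCyclic.exponent_eq_card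
    have h2 : Monoid.exponent E ∣ p := Monoid.exponent_dvd_of_forall_pow_eq_one fun a =>
      Subtype.ext (by simpa using hEp a.1 a.2)
    rw [h1] at h2
    have := Nat.le_of_dvd hp.pos h2
    have := Nat.le_self_pow (two_ne_zero) p
    omega
  obtain ⟨U, hUn, hUe, hUc⟩ : ∃ U : Subgroup P, U.Normal ∧ Cfsg.IsElementaryAbelian p U ∧ Nat.card U = p ^ 2 := by
    rcases eq_or_ne p 2 with rfl | hp2
    · refine exists_normal_four hP E hE ?_
      rw [hkE]
      exact (Nat.pow_le_pow_right two_pos hkE3 : 2 ^ 3 ≤ 2 ^ kE)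
    · exact Solv.exists_normal_elementary_sq hp2 hP hnc
  refine ⟨U, hUn, hUe, hUc, fun X hX hXc => ?_⟩
  haveI := hUn
  set F := E ⊓ Subgroup.centralizer (U : Set P) with hF
  have hFc : p ^ 2 ≤ Nat.card F := centralizer_large hP U hUc E hElt
  have hFe : Cfsg.IsElementaryAbelian p F := ⟨⟨⟨fun a b => Subtype.ext (show (a : P) * b = b * a from congrArg Subtype.val
    (hEc.is_comm.comm ⟨(a : P), a.2.1⟩ ⟨(b : P), b.2.1⟩))⟩⟩, fun a ha => hEp a ha.1⟩
  constructor
  · intro hchain hle
    have hrankU : ¬ Cfsg.PRankLE p 2 (Subgroup.centralizer (U : Set P)) := by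
      intro hle'
      have hV := isElementaryAbelian_sup hFe hUe (fun a ha b hb => (Subgroup.mem_centralizer_iff.1 ha.2 b hb).symm)
      have hVle : F ⊔ U ≤ Subgroup.centralizer (U : Set P) := sup_le inf_le_right fun a ha =>
        Subgroup.mem_centralizer_iff.2 fun b hb => congrArg Subtype.val (hUe.1.is_comm.comm ⟨b, hb⟩ ⟨a, ha⟩)
      have hbound : ∀ A : Subgroup P, Cfsg.IsElementaryAbelian p A → A ≤ Subgroup.centralizer (U : Set P) →
          Nat.card A ≤ p ^ 2 := fun A hA hAle => card_le_of_rank hle' hA hAle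
      have e2 := Subgroup.eq_of_le_of_card_ge (le_sup_right : U ≤ F ⊔ U) (by rw [hUc]; exact hbound _ hV hVle)
      have hFU : F ≤ U := e2 ▸ le_sup_left
      have hFU' : F = U := Subgroup.eq_of_le_of_card_ge hFU (by rw [hUc]; exact hFc)
      have hUE : E ≤ Subgroup.centralizer (U : Set P) := fun e he => Subgroup.mem_centralizer_iff.2
        fun u hu => congrArg Subtype.val (hEc.is_comm.comm ⟨u, (hFU'.ge hu).1⟩ ⟨e, he⟩)
      exact absurd (hbound E hE hUE) (not_le.2 hElt)
    rcases hchain.cases_head with rfl | ⟨B, ⟨-, -, hBe, hBc, hXB⟩, hrest⟩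
    · exact hrankU hle
    · -- every neighbour of `X` equals `X`
      have hbound : ∀ A : Subgroup P, Cfsg.IsElementaryAbelian p A → A ≤ Subgroup.centralizer (X : Set P) →
          Nat.card A ≤ p ^ 2 := fun A hA hAle => card_le_of_rank hle hA hAle
      have hXX : X ≤ Subgroup.centralizer (X : Set P) := fun a ha => Subgroup.mem_centralizer_iff.2
        fun b hb => congrArg Subtype.val (hX.1.is_comm.comm ⟨b, hb⟩ ⟨a, ha⟩)
      have hX2 : Nat.card X = p ^ 2 := le_antisymm (hbound X hX hXX) hXc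
      have key : ∀ C : Subgroup P, Relation.ReflTransGen (fun A B : Subgroup P => Cfsg.IsElementaryAbelian p A ∧
          p ^ 2 ≤ Nat.card ↥A ∧ Cfsg.IsElementaryAbelian p B ∧ p ^ 2 ≤ Nat.card ↥B ∧
          ∀ a ∈ A, ∀ b ∈ B, a * b = b * a) X C → C = X := by
        intro C hC
        induction hC with
        | refl => rfl
        | @tail C' C'' _ hstep ih =>
          obtain ⟨-, -, hC''e, hC''c, hcomm⟩ := hstep
          subst ih
          have hsup := isElementaryAbelian_sup hX hC''e hcomm
          have e := Subgroup.eq_of_le_of_card_ge (le_sup_left : C' ≤ C' ⊔ C'') (by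
            rw [hX2]
            exact hbound _ hsup (sup_le hXX fun b hb => Subgroup.mem_centralizer_iff.2 fun a ha =>
              hcomm a ha b hb))
          exact Subgroup.eq_of_le_of_card_ge (le_sup_right.trans e.ge) (by rw [hX2]; exact hC''c)
      have hUX := key U hchain
      exact hrankU (hUX ▸ hle)
  · intro hne
    set C := Subgroup.centralizer (X : Set P)
    simp only [Cfsg.PRankLE, not_forall, not_le] at hne
    obtain ⟨A', hAc, hAp, hAlt⟩ := hne
    set A := A'.map C.subtype with hA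
    have hAc' : Nat.card A = Nat.card A' := Subgroup.card_map_of_injective C.subtype_injective
    have hAe : Cfsg.IsElementaryAbelian p A := by
      refine ⟨⟨⟨?_⟩⟩, ?_⟩
      · rintro ⟨_, a, ha, rfl⟩ ⟨_, b, hb, rfl⟩
        exact Subtype.ext (congrArg (fun r : A' => ((r : C) : P)) (hAc.is_comm.comm ⟨a, ha⟩ ⟨b, hb⟩))
      · rintro _ ⟨a, ha, rfl⟩
        rw [← map_pow, hAp a ha, map_one]
    have hAX : ∀ x ∈ X, ∀ a ∈ A, x * a = a * x := by
      rintro x hx _ ⟨a, ha, rfl⟩
      exact Subgroup.mem_centralizer_iff.1 a.2 x hx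
    -- `A` meets the centralizer of `U` in a large subgroup
    set B := A ⊓ Subgroup.centralizer (U : Set P) with hB
    have hBe : Cfsg.IsElementaryAbelian p B := ⟨⟨⟨fun a b => Subtype.ext (show (a : P) * b = b * a from congrArg Subtype.val
      (hAe.1.is_comm.comm ⟨(a : P), a.2.1⟩ ⟨(b : P), b.2.1⟩))⟩⟩, fun a ha => hAe.2 a ha.1⟩
    have hBc : p ^ 2 ≤ Nat.card B := centralizer_large hP U hUc A (hAc'.symm ▸ hAlt)
    have hA2 : p ^ 2 ≤ Nat.card A := by rw [hAc']; exact hAlt.le
    refine Relation.ReflTransGen.head ⟨hX, hXc, hAe, hA2, hAX⟩ (Relation.ReflTransGen.head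
      ⟨hAe, hA2, hBe, hBc, fun a ha b hb => congrArg Subtype.val (hAe.1.is_comm.comm ⟨a, ha⟩ ⟨b, hb.1⟩)⟩
      (Relation.ReflTransGen.single ⟨hBe, hBc, hUe, hUc.ge, fun b hb u hu =>
        (Subgroup.mem_centralizer_iff.1 hb.2 u hu).symm⟩))

end Cfsg.Agent.S1337
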