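import Cfsg.Statements.S1338
import Cfsg.Agent.Lib.Fusion.RankFourNormal

set_option autoImplicit false
open Cfsg
open Cfsg.Agent.Fusion
open scoped commutatorElement

namespace Cfsg.Agent.S1338

variable {P : Type*} [Group P] [Finite P]

theorem comm_cube_identity {M : Type*} [CommGroup M] (a b c : M) :
    a * c⁻¹ * (c * b⁻¹)⁻¹ * (c * b⁻¹ * (b * a⁻¹)⁻¹)⁻¹ = b ^ 3 * (c ^ 3)⁻¹ := by
  apply Additive.ofMul.injective
  simp only [ofMul_mul, ofMul_inv, ofMul_pow]
  abel

theorem commutator_elem_cube (A : Subgroup P) (hA : Cfsg.IsElementaryAbelian 3 A) [A.Normal] {x : P}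
    (hx : x ^ 3 = 1) : Nat.card A ≤ Nat.card (A ⊓ Subgroup.centralizer ({x} : Set P) : Subgroup P) ^ 3 := by
  letI : CommGroup A :=
    { (inferInstance : Group A) with mul_comm := fun a b => Subtype.ext (elementary_comm hA a.2 b.2) }
  let τ : A →* A := MonoidHom.mk' (fun a => ⟨x * a * x⁻¹, Subgroup.Normal.conj_mem inferInstance _ a.2 x⟩)
    fun a b => Subtype.ext (by push_cast; group)
  let f : A →* A := MonoidHom.mk' (fun a => τ a * a⁻¹) fun a b => by
    simp only [map_mul, mul_inv]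
    exact mul_mul_mul_comm _ _ _ _
  have h3 : ∀ a : A, a ^ 3 = 1 := fun a => Subtype.ext (hA.2 a a.2)
  have hτ : ∀ a : A, τ (τ (τ a)) = a := fun a => Subtype.ext (by
    show x * (x * (x * a * x⁻¹) * x⁻¹) * x⁻¹ = a
    calc x * (x * (x * a * x⁻¹) * x⁻¹) * x⁻¹ = x ^ 3 * a * (x ^ 3)⁻¹ := by
          simp [pow_succ, mul_assoc]
      _ = a := by rw [hx, one_mul, inv_one, mul_one])
  have hf : ∀ a : A, f (f (f a)) = 1 := fun a => by
    show τ (τ (τ a * a⁻¹) * (τ a * a⁻¹)⁻¹) * (τ (τ a * a⁻¹) * (τ a * a⁻¹)⁻¹)⁻¹ = 1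
    simp only [map_mul, map_inv, hτ]
    rw [comm_cube_identity, h3, h3, inv_one, mul_one]
  have hk : ∀ H : Subgroup A, Nat.card H ≤ Nat.card f.ker * Nat.card (H.map f) := fun H => by
    have h2 := Subgroup.relIndex_mul_relIndex ⊥ (f.ker ⊓ H) H bot_le inf_le_right
    rw [Subgroup.relIndex_bot_left, Subgroup.relIndex_bot_left, Subgroup.inf_relIndex_right,
      Subgroup.relIndex_ker] at h2
    rw [← h2]
    exact Nat.mul_le_mul_right _ (Subgroup.card_le_of_le inf_le_left)
  have hker : Nat.card f.ker ≤ Nat.card (A ⊓ Subgroup.centralizer ({x} : Set P) : Subgroup P) := by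
    refine Nat.card_le_card_of_injective (fun a => ⟨((a : A) : P), Subgroup.mem_inf.2 ⟨(a : A).2, ?_⟩⟩) ?_
    · refine Subgroup.mem_centralizer_singleton_iff.2 ?_
      have h := congrArg Subtype.val (mul_inv_eq_one.1 (show τ (a : A) * (a : A)⁻¹ = 1 from a.2))
      exact (mul_inv_eq_iff_eq_mul.1 h).symm
    · intro a b h
      exact Subtype.ext (Subtype.ext (congrArg (fun z : (A ⊓ Subgroup.centralizer ({x} : Set P) : Subgroup P) =>
        (z : P)) h))
  have hlast : Nat.card (((⊤ : Subgroup A).map f).map f) ≤ Nat.card f.ker := by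
    refine Subgroup.card_le_of_le ?_
    rintro _ ⟨_, ⟨a, -, rfl⟩, rfl⟩
    exact hf a
  calc Nat.card A = Nat.card (⊤ : Subgroup A) := (Subgroup.card_top).symm
    _ ≤ Nat.card f.ker * Nat.card ((⊤ : Subgroup A).map f) := hk _
    _ ≤ Nat.card f.ker * (Nat.card f.ker * Nat.card (((⊤ : Subgroup A).map f).map f)) :=
        Nat.mul_le_mul_left _ (hk _)
    _ ≤ Nat.card f.ker * (Nat.card f.ker * Nat.card f.ker) := Nat.mul_le_mul_left _ (Nat.mul_le_mul_left _ hlast)
    _ = Nat.card f.ker ^ 3 := by ring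
    _ ≤ _ := Nat.pow_le_pow_left hker 3

theorem elementary_of_le {A B : Subgroup P} (hA : Cfsg.IsElementaryAbelian 3 A) (h : B ≤ A) :
    Cfsg.IsElementaryAbelian 3 B :=
  ⟨⟨⟨fun a b => Subtype.ext (elementary_comm hA (h a.2) (h b.2))⟩⟩, fun a ha => hA.2 a (h ha)⟩


/-- A finite 3-group of 3-rank at least 4 is 2-connected for the prime 3: its commuting graph on elementary abelian subgroups of order ≥ 9 is connected. -/
theorem result {P : Type*} [Group P] [Finite P] (hP : IsPGroup 3 P) (hrk : ¬ Cfsg.PRankLE 3 3 P) : Cfsg.IsKConnected 3 2 P := by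
  haveI : Fact (Nat.Prime 3) := ⟨Nat.prime_three⟩
  haveI : Group.IsNilpotent P := hP.isNilpotent
  have hpow : ∀ (H : Subgroup P) (k : ℕ), ¬ Nat.card H ≤ 3 ^ k → 3 ^ (k + 1) ≤ Nat.card H := by
    intro H k hH
    obtain ⟨j, hj⟩ := (hP.to_subgroup H).exists_card_eq
    rw [hj] at hH ⊢
    refine Nat.pow_le_pow_right (by norm_num) ?_
    by_contra hjk
    exact hH (Nat.pow_le_pow_right (by norm_num) (by omega))
  obtain ⟨E₀, hE₀, hE₀c⟩ : ∃ E₀ : Subgroup P, Cfsg.IsElementaryAbelian 3 E₀ ∧ Nat.card E₀ = 3 ^ 4 := by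
    unfold Cfsg.PRankLE at hrk
    push Not at hrk
    obtain ⟨A, hAc, hAe, hA⟩ := hrk
    obtain ⟨j, hj⟩ := (hP.to_subgroup A).exists_card_eq
    have h4 := hpow A 3 (by omega)
    rw [hj] at h4
    have hj4 : 4 ≤ j := (Nat.pow_le_pow_iff_right (by norm_num)).1 h4
    obtain ⟨K, hK⟩ := Sylow.exists_subgroup_card_pow_prime 3 (G := A) (n := 4) (hj ▸ pow_dvd_pow 3 hj4)
    exact ⟨K.map A.subtype, elementary_of_le ⟨hAc, hAe⟩ (Subgroup.map_subtype_le K),
      by rw [Subgroup.card_map_of_injective A.subtype_injective, hK]⟩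
  obtain ⟨A, hAn, hA, hAc⟩ := exists_normal_rank_four (by norm_num) _ P rfl hP E₀ hE₀ hE₀c
  haveI := hAn
  obtain ⟨B, hBn, hBA, hBc⟩ := exists_normal_le_of_card hP A 2 (hAc ▸ Nat.pow_le_pow_right (by norm_num) (by norm_num))
  haveI := hBn
  have hB := elementary_of_le hA hBA
  let R := fun X Y : Subgroup P => Cfsg.IsElementaryAbelian 3 X ∧ 3 ^ 2 ≤ Nat.card ↥X ∧
    Cfsg.IsElementaryAbelian 3 Y ∧ 3 ^ 2 ≤ Nat.card ↥Y ∧ ∀ a ∈ X, ∀ b ∈ Y, a * b = b * a
  have hsymm : ∀ {X Y : Subgroup P}, R X Y → R Y X := fun h =>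
    ⟨h.2.2.1, h.2.2.2.1, h.1, h.2.1, fun a ha b hb => (h.2.2.2.2 b hb a ha).symm⟩
  -- large vertices are joined to `B`
  have hbig : ∀ F : Subgroup P, Cfsg.IsElementaryAbelian 3 F → 3 ^ 3 ≤ Nat.card F → Relation.ReflTransGen R F B := by
    intro F hF hFc
    have hF1 : 3 ^ 2 ≤ Nat.card (F ⊓ Subgroup.centralizer (B : Set P) : Subgroup P) := by
      refine Nat.le_of_mul_le_mul_right ?_ (show 0 < 3 by norm_num)
      refine le_trans (by norm_num : 3 ^ 2 * 3 ≤ 3 ^ 3) (hFc.trans ?_)
      have h2 := Subgroup.relIndex_mul_relIndex ⊥ (F ⊓ Subgroup.centralizer (B : Set P)) F bot_le inf_le_left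
      rw [Subgroup.relIndex_bot_left, Subgroup.relIndex_bot_left, Subgroup.inf_relIndex_left] at h2
      rw [← h2]
      refine Nat.mul_le_mul_left _ (le_trans ?_ (index_centralizer_le_of_small hP B hB.1 hBc.le))
      exact Nat.le_of_dvd (Nat.pos_of_ne_zero Subgroup.index_ne_zero_of_finite)
        (Subgroup.relIndex_dvd_index_of_normal _ _)
    have hFF := elementary_of_le hF (inf_le_left : F ⊓ Subgroup.centralizer (B : Set P) ≤ F)
    refine (Relation.ReflTransGen.single ?_).trans (Relation.ReflTransGen.single ⟨hFF, hF1, hB, hBc.ge,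
      fun a ha b hb => (Subgroup.mem_centralizer_iff.1 ha.2 b hb).symm⟩)
    exact ⟨hF, le_trans (by norm_num) hFc, hFF, hF1, fun a ha b hb => elementary_comm hF ha hb.1⟩
  -- small vertices commute with large ones
  have hnear : ∀ E : Subgroup P, Cfsg.IsElementaryAbelian 3 E → 3 ^ 2 ≤ Nat.card E → Relation.ReflTransGen R E B := by
    intro E hE hEc
    by_cases h3 : 3 ^ 3 ≤ Nat.card E
    · exact hbig E hE h3
    by_cases hEA : E ≤ A
    · exact (Relation.ReflTransGen.single ⟨hE, hEc, hA, hAc ▸ (by norm_num), fun a ha b hb =>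
        elementary_comm hA (hEA ha) hb⟩).trans (hbig A hA (hAc ▸ (by norm_num)))
    have hE2 : Nat.card E = 3 ^ 2 := by
      by_contra hne
      exact h3 (hpow E 2 (by omega))
    obtain ⟨D, hD⟩ : ∃ D : Subgroup P, D = A ⊓ Subgroup.centralizer (E : Set P) := ⟨_, rfl⟩
    have hDE : ¬ D ≤ E := by
      intro hle
      by_cases hAE : A ⊓ E = ⊥
      · obtain ⟨v, hv, hv1, hvc⟩ := exists_fixed_mod (N := (⊥ : Subgroup P)) (C := A) (Q := E)
          (by rw [Subgroup.normalizer_eq_top]; exact le_top) (fun h => by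
            rw [le_bot_iff.1 h, Subgroup.card_bot] at hAc; norm_num at hAc)
        refine hv1 (hAE ▸ Subgroup.mem_inf.2 ⟨hv, hle (hD ▸ Subgroup.mem_inf.2 ⟨hv, ?_⟩)⟩)
        exact Subgroup.mem_centralizer_iff.2 fun e he =>
          (commutatorElement_eq_one_iff_mul_comm.1 (Subgroup.mem_bot.1 (hvc e he))).symm
      · obtain ⟨x, hxE, hxA⟩ := SetLike.not_le_iff_exists.1 hEA
        have hAE3 : 3 ≤ Nat.card (A ⊓ E : Subgroup P) := by
          simpa using hpow (A ⊓ E) 0 (fun h => hAE (Subgroup.card_eq_one.1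
            (le_antisymm (by simpa using h) Nat.card_pos)))
        have hlt : A ⊓ E < (A ⊓ E) ⊔ Subgroup.zpowers x := lt_of_le_of_ne le_sup_left fun e =>
          hxA (e.symm.le (Subgroup.mem_sup_right (Subgroup.mem_zpowers x))).1
        have hEeq : (A ⊓ E) ⊔ Subgroup.zpowers x = E := by
          refine Subgroup.eq_of_le_of_card_ge (sup_le inf_le_right (Subgroup.zpowers_le.2 hxE)) ?_
          have := card_mul_prime_le_of_lt hP hlt
          omega
        have hlow : A ⊓ Subgroup.centralizer ({x} : Set P) ≤ D := fun a ha => hD ▸ Subgroup.mem_inf.2 ⟨ha.1, by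
          have hle' : E ≤ Subgroup.centralizer ({a} : Set P) := by
            rw [← hEeq]
            refine sup_le (fun y hy => Subgroup.mem_centralizer_singleton_iff.2 (elementary_comm hA hy.1 ha.1))
              (Subgroup.zpowers_le.2 (Subgroup.mem_centralizer_singleton_iff.2
                (Subgroup.mem_centralizer_singleton_iff.1 ha.2).symm))
          exact Subgroup.mem_centralizer_iff.2 fun e he => Subgroup.mem_centralizer_singleton_iff.1 (hle' he)⟩
        have h9 : 3 ^ 2 ≤ Nat.card (A ⊓ Subgroup.centralizer ({x} : Set P) : Subgroup P) := by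
          refine hpow _ 1 fun h => ?_
          have h27 := (commutator_elem_cube A hA (hE.2 x hxE)).trans (Nat.pow_le_pow_left h 3)
          rw [hAc] at h27
          norm_num at h27
        have hle2 : A ⊓ Subgroup.centralizer ({x} : Set P) ≤ A ⊓ E := le_inf inf_le_left (hlow.trans hle)
        have h10 : A ⊓ E = E := Subgroup.eq_of_le_of_card_ge inf_le_right
          (by rw [hE2]; exact h9.trans (Subgroup.card_le_of_le hle2))
        exact hEA (h10 ▸ inf_le_left)
    have hcomm : ∀ a ∈ E, ∀ b ∈ D, a * b = b * a := fun a ha b hb =>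
      Subgroup.mem_centralizer_iff.1 (hD.le hb).2 a ha
    have hF : Cfsg.IsElementaryAbelian 3 (E ⊔ D : Subgroup P) := by
      have hle : E ⊔ D ≤ Subgroup.centralizer ((E ⊔ D : Subgroup P) : Set P) := by
        refine sup_le (Subgroup.le_centralizer_iff.1 (sup_le ?_ ?_)) (Subgroup.le_centralizer_iff.1 (sup_le ?_ ?_))
        · exact fun a ha => Subgroup.mem_centralizer_iff.2 fun b hb => elementary_comm hE hb ha
        · exact fun b hb => Subgroup.mem_centralizer_iff.2 fun a ha => hcomm a ha b hb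
        · exact fun a ha => Subgroup.mem_centralizer_iff.2 fun b hb => (hcomm a ha b hb).symm
        · exact fun a ha => Subgroup.mem_centralizer_iff.2 fun b hb => elementary_comm hA (hD.le hb).1 (hD.le ha).1
      refine ⟨⟨⟨fun a b => Subtype.ext (Subgroup.mem_centralizer_iff.1 (hle b.2) a a.2)⟩⟩, fun g hg => ?_⟩
      rw [Subgroup.sup_eq_closure] at hg hle
      induction hg using Subgroup.closure_induction with
      | mem a ha =>
        rcases ha with ha | ha
        · exact hE.2 a ha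
        · exact hA.2 a (hD.le ha).1
      | one => exact one_pow 3
      | mul a b ha' hb' ha hb =>
        rw [(show Commute a b from Subgroup.mem_centralizer_iff.1 (hle hb') a ha').mul_pow, ha, hb, one_mul]
      | inv a _ ha => rw [inv_pow, ha, inv_one]
    have hlt : E < E ⊔ D := lt_of_le_of_ne le_sup_left fun e => hDE (le_sup_right.trans e.symm.le)
    have hFc : 3 ^ 3 ≤ Nat.card (E ⊔ D : Subgroup P) := by
      have := card_mul_prime_le_of_lt hP hlt
      rw [hE2] at this
      exact this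
    exact (Relation.ReflTransGen.single ⟨hE, hEc, hF, le_trans (by norm_num) hFc, fun a ha b hb =>
      elementary_comm hF (Subgroup.mem_sup_left ha) hb⟩).trans (hbig _ hF hFc)
  intro E E' hE hEc hE' hE'c
  haveI : Std.Symm R := ⟨fun _ _ => hsymm⟩
  exact (hnear E hE hEc).trans (Std.Symm.symm _ _ (hnear E' hE' hE'c))

end Cfsg.Agent.S1338
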