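import Cfsg.Statements.S1339
import Cfsg.Agent.Lib.Fusion.LocalConstrained

set_option autoImplicit false
open Cfsg
open Cfsg.Agent.Fusion
open scoped commutatorElement

namespace Cfsg.Agent.S1339

/-- Let F be a field with 2 elements, n ≥ 3, and t ∈ SL(n, F) a transvection (t = 1 + E_{ij}, i ≠ j). Then the generalized Fitting subgroup of C(t) is O_2(C(t)). -/
theorem result {F : Type*} [Field F] [Fintype F] [DecidableEq F] (hF : Fintype.card F = 2) (n : ℕ) (hn : 3 ≤ n) (i j : Fin n) (hij : i ≠ j) (t : Matrix.SpecialLinearGroup (Fin n) F) (ht : (t : Matrix (Fin n) (Fin n) F) = Matrix.transvection i j 1) : Cfsg.generalizedFittingSubgroup ↥(Subgroup.centralizer ({t} : Set (Matrix.SpecialLinearGroup (Fin n) F))) = Cfsg.pCore 2 ↥(Subgroup.centralizer ({t} : Set (Matrix.SpecialLinearGroup (Fin n) F))) := by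
  haveI : Fact (Nat.Prime 2) := ⟨Nat.prime_two⟩
  have hF2 : ∀ a : F, a ≠ 0 → a = 1 := by
    intro a ha
    by_contra h1
    have : 2 < Fintype.card F := Fintype.two_lt_card_iff.2 ⟨a, 0, 1, ha, h1, zero_ne_one⟩
    omega
  obtain ⟨C, hC⟩ : ∃ C : Subgroup (Matrix.SpecialLinearGroup (Fin n) F),
      C = Subgroup.centralizer ({t} : Set (Matrix.SpecialLinearGroup (Fin n) F)) := ⟨_, rfl⟩
  rw [← hC]
  have hcomm : ∀ g ∈ C, ∀ k l : Fin n, (g.1 * Matrix.single i j (1 : F)) k l =
      (Matrix.single i j (1 : F) * g.1) k l := by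
    intro g hg k l
    rw [hC, Subgroup.mem_centralizer_singleton_iff] at hg
    have h := congrArg Subtype.val hg
    simp only [Matrix.SpecialLinearGroup.coe_mul, ht, Matrix.transvection, Matrix.mul_add,
      Matrix.add_mul, Matrix.one_mul, Matrix.mul_one] at h
    exact congrArg (fun M => M k l) (add_left_cancel h)
  have hcol : ∀ g ∈ C, ∀ k, k ≠ i → g.1 k i = 0 := by
    intro g hg k hk
    simpa [Matrix.mul_single_apply_same, Matrix.single_mul_apply_of_ne _ _ _ _ _ hk] using hcomm g hg k j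
  have hrow : ∀ g ∈ C, ∀ l, l ≠ j → g.1 j l = 0 := by
    intro g hg l hl
    simpa [Matrix.single_mul_apply_same, Matrix.mul_single_apply_of_ne _ _ _ _ _ hl] using (hcomm g hg i l).symm
  have hdiag : ∀ g ∈ C, g.1 i i = g.1 j j := by
    intro g hg
    simpa [Matrix.mul_single_apply_same, Matrix.single_mul_apply_same] using hcomm g hg i j
  have hone : ∀ g ∈ C, g.1 i i = 1 := by
    intro g hg
    refine hF2 _ fun h0 => ?_
    have h1 := congrArg (fun w : Matrix.SpecialLinearGroup (Fin n) F => w.1 i i) (inv_mul_cancel g)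
    simp only [Matrix.SpecialLinearGroup.coe_mul, Matrix.SpecialLinearGroup.coe_one, Matrix.mul_apply,
      Matrix.one_apply_eq] at h1
    rw [Finset.sum_eq_single i (fun k _ hk => by rw [hcol g hg k hk, mul_zero]) (by simp), h0, mul_zero] at h1
    exact zero_ne_one h1
  -- the action on the middle block
  obtain ⟨φ, hφ⟩ : ∃ φ : ↥C →* Matrix {k : Fin n // k ≠ i ∧ k ≠ j} {k : Fin n // k ≠ i ∧ k ≠ j} F,
      ∀ g : ↥C, ∀ a b, φ g a b = g.1.1 a.1 b.1 := by
    refine ⟨{ toFun := fun g => Matrix.of fun a b => g.1.1 a.1 b.1, map_one' := ?_, map_mul' := ?_ }, fun g a b => rfl⟩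
    · ext a b
      simp [Matrix.one_apply, Subtype.ext_iff]
    · intro g h
      ext a b
      simp only [Matrix.of_apply, Matrix.mul_apply, Subgroup.coe_mul, Matrix.SpecialLinearGroup.coe_mul]
      rw [← Fintype.sum_subtype_add_sum_subtype (fun k : Fin n => k ≠ i ∧ k ≠ j)]
      refine add_eq_left.2 (Finset.sum_eq_zero fun k _ => ?_)
      rcases not_and_or.1 k.2 with hk | hk
      · rw [not_ne_iff] at hk
        rw [hk, hcol g g.2 a.1 a.2.1, zero_mul]
      · rw [not_ne_iff] at hk
        rw [hk, hrow h h.2 b.1 b.2.2, mul_zero]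
  have hker : ∀ g : ↥C, g ∈ φ.ker → ∀ k l, k ≠ i → l ≠ j → (g.1.1 - 1) k l = 0 := by
    intro g hg k l hk hl
    rw [Matrix.sub_apply]
    by_cases hkj : k = j
    · subst hkj
      rw [hrow g g.2 l hl, Matrix.one_apply_ne hl.symm, sub_zero]
    · by_cases hli : l = i
      · subst hli
        rw [hcol g g.2 k hk, Matrix.one_apply_ne hk, sub_zero]
      · have := congrArg (fun M => M ⟨k, hk, hkj⟩ ⟨l, hli, hl⟩) (MonoidHom.mem_ker.1 hg)
        simp only [hφ, Matrix.one_apply, Subtype.mk.injEq] at this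
        rw [Matrix.one_apply, this, sub_self]
  -- the kernel is a 2-group
  have hQ : IsPGroup 2 ↥φ.ker := by
    rintro ⟨g, hg⟩
    refine ⟨2, Subtype.ext (Subtype.ext (Subtype.ext ?_))⟩
    haveI : CharP F 2 := charP_of_card_eq_prime hF
    haveI : Nontrivial (Fin n) := ⟨⟨i, j, hij⟩⟩
    simp only [Subgroup.coe_pow, Matrix.SpecialLinearGroup.coe_pow, OneMemClass.coe_one,
      Matrix.SpecialLinearGroup.coe_one]
    obtain ⟨N, hN⟩ : ∃ N, N = g.1.1 - 1 := ⟨_, rfl⟩
    have hN0 : ∀ k l, k ≠ i → l ≠ j → N k l = 0 := hN ▸ hker g hg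
    have hNi : ∀ k, N k i = 0 := by
      intro k
      by_cases hk : k = i
      · subst hk; rw [hN, Matrix.sub_apply, hone g g.2, Matrix.one_apply_eq, sub_self]
      · exact hN0 k i hk hij
    have hNj : ∀ l, N j l = 0 := by
      intro l
      by_cases hl : l = j
      · subst hl; rw [hN, Matrix.sub_apply, ← hdiag g g.2, hone g g.2, Matrix.one_apply_eq, sub_self]
      · exact hN0 j l hij.symm hl
    have hN2 : ∀ k l, ¬(k = i ∧ l = j) → (N * N) k l = 0 := by
      intro k l hkl
      rw [Matrix.mul_apply]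
      refine Finset.sum_eq_zero fun m _ => ?_
      by_cases hmi : m = i
      · rw [hmi, hNi, zero_mul]
      by_cases hmj : m = j
      · rw [hmj, hNj, mul_zero]
      by_cases hk : k = i
      · have hl : l ≠ j := fun h => hkl ⟨hk, h⟩
        rw [hN0 m l hmi hl, mul_zero]
      · rw [hN0 k m hk hmj, zero_mul]
    have hN3 : N * N * N = 0 := by
      ext k l
      rw [Matrix.mul_apply, Matrix.zero_apply]
      refine Finset.sum_eq_zero fun m _ => ?_
      by_cases h : k = i ∧ m = j
      · rw [h.2, hNj, mul_zero]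
      · rw [hN2 k m h, zero_mul]
    have e : g.1.1 = N + 1 := by rw [hN, sub_add_cancel]
    have hp : (N + 1) ^ (2 ^ 2) = N ^ (2 ^ 2) + 1 := by
      rw [add_pow_char_pow_of_commute 2 2 (Commute.one_right N), one_pow]
    rw [e, hp, show N ^ (2 ^ 2) = N * N * N * N by norm_num [pow_succ], hN3, zero_mul, zero_add]
  -- and it is self-centralizing
  have htr : ∀ a b : Fin n, ∀ hab : a ≠ b, b ≠ i → a ≠ j → (a = i ∨ b = j) → ∃ u : ↥C, u ∈ φ.ker ∧
      u.1.1 = Matrix.transvection a b 1 := by
    intro a b hab hbi haj hor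
    refine ⟨⟨Matrix.SpecialLinearGroup.transvection hab 1, ?_⟩, ?_, ?_⟩
    · rw [hC, Subgroup.mem_centralizer_singleton_iff]
      apply Subtype.ext
      simp only [Matrix.SpecialLinearGroup.coe_mul, ht, Matrix.SpecialLinearGroup.transvection_coe,
        Matrix.transvection, Matrix.mul_add, Matrix.add_mul, Matrix.one_mul, Matrix.mul_one,
        Matrix.single_mul_single_of_ne _ _ _ _ hbi, Matrix.single_mul_single_of_ne _ _ _ _ haj.symm]
      abel
    · rw [MonoidHom.mem_ker]
      ext x y
      rw [hφ]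
      simp only [Matrix.SpecialLinearGroup.transvection_coe, Matrix.transvection, Matrix.add_apply,
        Matrix.one_apply, Subtype.ext_iff]
      rw [Matrix.single_apply_of_ne, add_zero]
      rintro ⟨h1, h2⟩
      rcases hor with h | h
      · exact x.2.1 (h1.symm.trans h)
      · exact y.2.2 (h2.symm.trans h)
    · simp [Matrix.SpecialLinearGroup.transvection_coe, Matrix.transvection]
  have hcent : Subgroup.centralizer (φ.ker : Set ↥C) ≤ φ.ker := by
    intro g hg
    have hc : ∀ a b : Fin n, a ≠ b → b ≠ i → a ≠ j → (a = i ∨ b = j) → ∀ k l,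
        (g.1.1 * Matrix.single a b (1 : F)) k l = (Matrix.single a b (1 : F) * g.1.1) k l := by
      intro a b hab hbi haj hor k l
      obtain ⟨u, hu, hu'⟩ := htr a b hab hbi haj hor
      have h := congrArg (fun w : ↥C => w.1.1) (Subgroup.mem_centralizer_iff.1 hg u hu)
      simp only [Subgroup.coe_mul, Matrix.SpecialLinearGroup.coe_mul, hu', Matrix.transvection,
        Matrix.mul_add, Matrix.add_mul, Matrix.one_mul, Matrix.mul_one] at h
      exact (congrArg (fun M => M k l) (add_left_cancel h)).symm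
    rw [MonoidHom.mem_ker]
    ext x y
    rw [hφ]
    have hxy := hc i x.1 x.2.1.symm x.2.1 hij (Or.inl rfl) i y.1
    rw [Matrix.single_mul_apply_same] at hxy
    simp only [one_mul] at hxy
    rw [← hxy, Matrix.one_apply]
    split_ifs with h
    · subst h
      rw [Matrix.mul_single_apply_same, hone g g.2, one_mul]
    · rw [Matrix.mul_single_apply_of_ne]
      exact fun h' => h (Subtype.ext h'.symm)
  refine Fusion.gfit_eq_pCore_iff.2 ?_
  exact (Subgroup.centralizer_le (Fusion.le_pCore hQ)).trans (hcent.trans (Fusion.le_pCore hQ))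

end Cfsg.Agent.S1339
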