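import Cfsg.Statements.S1340
import Cfsg.Agent.Lib.Small.SLNormalised
import Cfsg.Agent.Lib.Fusion.BpBalanceTools
import Cfsg.Agent.Lib.Char.IsolatedStep

set_option autoImplicit false
open Cfsg
open Cfsg.Agent.Fusion
open scoped commutatorElement

namespace Cfsg.Agent.S1340

open Matrix in
/-- Block embedding. -/
noncomputable def blockOne {F : Type*} [Field F] {m : ℕ} (s : Matrix (Fin m) (Fin m) F) :
    Matrix (Fin (m + 1)) (Fin (m + 1)) F :=
  Matrix.of fun i j => Fin.cases (Fin.cases (1 : F) (fun _ => 0) j)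
    (fun i' => Fin.cases 0 (fun j' => s i' j') j) i

theorem blockOne_mul {F : Type*} [Field F] {m : ℕ} (s t : Matrix (Fin m) (Fin m) F) :
    blockOne (s * t) = blockOne s * blockOne t := by
  ext i j
  rw [Matrix.mul_apply, Fin.sum_univ_succ]
  induction i using Fin.cases <;> induction j using Fin.cases <;> simp [blockOne, Matrix.mul_apply]

theorem blockOne_det {F : Type*} [Field F] {m : ℕ} (s : Matrix (Fin m) (Fin m) F) :
    (blockOne s).det = s.det := by
  rw [Matrix.det_succ_row_zero, Fin.sum_univ_succ]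
  have : (blockOne s).submatrix Fin.succ Fin.succ = s := by ext i j; simp [blockOne]
  simp [blockOne] at this ⊢
  rw [this]

theorem blockOne_one {F : Type*} [Field F] {m : ℕ} : blockOne (1 : Matrix (Fin m) (Fin m) F) = 1 := by
  ext i j
  induction i using Fin.cases <;> induction j using Fin.cases <;>
    simp [blockOne, Matrix.one_apply, Fin.succ_ne_zero, (Fin.succ_ne_zero _).symm]

/-- Let F be a finite field of odd order and n ≥ 3 with (n, |F|) ≠ (3, 3). Then GL(n, F) has a non-central involution t such that C(t) / O(C(t)) has a component. -/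
theorem result {F : Type*} [Field F] [Fintype F] [DecidableEq F] (hF : Odd (Fintype.card F)) (n : ℕ) (hn : 3 ≤ n) (h33 : ¬ (n = 3 ∧ Fintype.card F = 3)) : ∃ t : Matrix.GeneralLinearGroup (Fin n) F, orderOf t = 2 ∧ t ∉ Subgroup.center (Matrix.GeneralLinearGroup (Fin n) F) ∧ Cfsg.HasComponent (↥(Subgroup.centralizer ({t} : Set (Matrix.GeneralLinearGroup (Fin n) F))) ⧸ Cfsg.oddCore ↥(Subgroup.centralizer ({t} : Set (Matrix.GeneralLinearGroup (Fin n) F)))) := by
  obtain ⟨m, rfl⟩ : ∃ m, n = m + 1 := ⟨n - 1, by omega⟩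
  have h2 : (2 : F) ≠ 0 := fun h => by
    haveI : CharP F (ringChar F) := ringChar.charP F
    have hd : ringChar F ∣ 2 := by
      rw [← CharP.cast_eq_zero_iff F (ringChar F)]; exact_mod_cast h
    obtain ⟨k, hp, hc⟩ := FiniteField.card F (ringChar F)
    have : ringChar F = 2 := (Nat.prime_dvd_prime_iff_eq hp Nat.prime_two).1 hd
    rw [hc, this] at hF
    exact (Nat.not_even_iff_odd.2 hF) ((Nat.even_pow' k.pos.ne').2 even_two)
  have hneg : (-1 : F) ≠ 1 := fun h => h2 (by linear_combination -h)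
  obtain ⟨dg, hdg⟩ : ∃ dg : Fin (m + 1) → F, ∀ i, dg i = if i = 0 then -1 else 1 := ⟨_, fun _ => rfl⟩
  have hdd : Matrix.diagonal dg * Matrix.diagonal dg = 1 := by
    rw [Matrix.diagonal_mul_diagonal, ← Matrix.diagonal_one]
    congr 1; funext i; rw [hdg]; split_ifs <;> simp
  obtain ⟨t, ht⟩ : ∃ t : Matrix.GeneralLinearGroup (Fin (m + 1)) F, t.val = Matrix.diagonal dg :=
    ⟨⟨_, _, hdd, hdd⟩, rfl⟩
  have hto : orderOf t = 2 := by
    refine orderOf_eq_prime (Units.ext ?_) fun h => ?_
    · rw [sq, Units.val_mul, ht, hdd, Units.val_one]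
    · have := congrArg Units.val h
      rw [ht, Units.val_one] at this
      have := congrFun (congrFun this 0) 0
      rw [Matrix.diagonal_apply_eq, hdg, if_pos rfl, Matrix.one_apply_eq] at this
      exact hneg this
  obtain ⟨C, hC⟩ : ∃ C, C = Subgroup.centralizer ({t} : Set (Matrix.GeneralLinearGroup (Fin (m + 1)) F)) := ⟨_, rfl⟩
  have hCmem : ∀ g, g ∈ C → ∀ i j : Fin (m + 1), g.val i j * dg j = dg i * g.val i j := by
    intro g hg i j
    rw [hC, Subgroup.mem_centralizer_singleton_iff] at hg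
    have := congrArg Units.val hg
    rw [Units.val_mul, Units.val_mul, ht] at this
    have := congrFun (congrFun this i) j
    rwa [Matrix.mul_diagonal, Matrix.diagonal_mul] at this
  have hzero : ∀ g, g ∈ C → ∀ k : Fin m, g.val 0 k.succ = 0 ∧ g.val k.succ 0 = 0 := by
    intro g hg k
    have h1 := hCmem g hg 0 k.succ
    have h3 := hCmem g hg k.succ 0
    rw [hdg, hdg, if_neg (Fin.succ_ne_zero k), if_pos rfl] at h1 h3
    exact ⟨(mul_eq_zero.1 (by linear_combination h1 : (2 : F) * g.val 0 k.succ = 0)).resolve_left h2,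
      (mul_eq_zero.1 (by linear_combination -h3 : (2 : F) * g.val k.succ 0 = 0)).resolve_left h2⟩
  refine ⟨t, hto, ?_, ?_⟩
  · intro hc
    obtain ⟨u, hu⟩ : ∃ u : Matrix.GeneralLinearGroup (Fin (m + 1)) F,
        u.val = Matrix.transvection (0 : Fin (m + 1)) (Fin.succ ⟨0, by omega⟩) 1 :=
      ⟨⟨_, Matrix.transvection (0 : Fin (m + 1)) (Fin.succ ⟨0, by omega⟩) (-1),
        by rw [Matrix.transvection_mul_transvection_same _ _ (Fin.succ_ne_zero _).symm, add_neg_cancel,
          Matrix.transvection_zero],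
        by rw [Matrix.transvection_mul_transvection_same _ _ (Fin.succ_ne_zero _).symm, neg_add_cancel,
          Matrix.transvection_zero]⟩, rfl⟩
    have := hCmem u (hC ▸ Subgroup.mem_centralizer_singleton_iff.2 (Subgroup.mem_center_iff.1 hc u))
      0 (Fin.succ ⟨0, by omega⟩)
    rw [hdg, hdg, if_neg (Fin.succ_ne_zero _), if_pos rfl, hu] at this
    simp [Matrix.transvection, Matrix.one_apply, (Fin.succ_ne_zero _).symm] at this
    exact hneg this.symm
  rw [← hC]
  -- the embedded special linear group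
  have hmem : ∀ s : Matrix.SpecialLinearGroup (Fin m) F,
      Matrix.GeneralLinearGroup.mkOfDetNeZero (blockOne s.val) (by rw [blockOne_det, s.2]; exact one_ne_zero) ∈ C := by
    intro s
    rw [hC, Subgroup.mem_centralizer_singleton_iff]
    refine Units.ext ?_
    rw [Units.val_mul, Units.val_mul, ht]
    ext i j
    rw [Matrix.mul_diagonal, Matrix.diagonal_mul, hdg, hdg]
    induction i using Fin.cases <;> induction j using Fin.cases <;> simp [blockOne, Fin.succ_ne_zero]
  obtain ⟨ι, hι⟩ : ∃ ι : Matrix.SpecialLinearGroup (Fin m) F →* ↥C, ∀ s, (ι s).val.val = blockOne s.val :=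
    ⟨MonoidHom.mk' (fun s => ⟨_, hmem s⟩) fun a b => Subtype.ext (Units.ext (blockOne_mul a.val b.val)),
      fun s => rfl⟩
  have hinj : Function.Injective ι := fun a b h => by
    have : blockOne a.val = blockOne b.val := by rw [← hι, ← hι, h]
    refine Subtype.ext (Matrix.ext fun i j => ?_)
    simpa [blockOne] using congrFun (congrFun this i.succ) j.succ
  obtain ⟨K, hK⟩ : ∃ K, K = ι.range := ⟨_, rfl⟩
  have hKiff : ∀ x : ↥C, x ∈ K ↔ x.val.val 0 0 = 1 ∧ x.val.val.det = 1 := by
    intro x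
    rw [hK]
    constructor
    · rintro ⟨s, rfl⟩
      rw [hι, blockOne_det, s.2]
      exact ⟨by simp [blockOne], rfl⟩
    · rintro ⟨h00, hd⟩
      have hx : blockOne (x.val.val.submatrix Fin.succ Fin.succ) = x.val.val := by
        ext i j
        induction i using Fin.cases <;> induction j using Fin.cases <;>
          simp [blockOne, h00, (hzero x.val x.2 _).1, (hzero x.val x.2 _).2]
      refine ⟨⟨x.val.val.submatrix Fin.succ Fin.succ, by rw [← blockOne_det, hx, hd]⟩,
        Subtype.ext (Units.ext ?_)⟩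
      exact (hι _).trans hx
  haveI hKn : K.Normal := ⟨fun x hx g => by
    rw [hKiff] at hx ⊢
    obtain ⟨h00, hd⟩ := hx
    have hentry : ∀ a b : ↥C, (a * b).val.val 0 0 = a.val.val 0 0 * b.val.val 0 0 := by
      intro a b
      rw [Subgroup.coe_mul, Units.val_mul, Matrix.mul_apply, Fin.sum_univ_succ]
      simp [(hzero a.val a.2 _).1]
    refine ⟨?_, ?_⟩
    · rw [hentry, hentry, h00, mul_one, ← hentry, mul_inv_cancel]
      simp
    · rw [Subgroup.coe_mul, Subgroup.coe_mul, Units.val_mul, Units.val_mul, Matrix.det_mul, Matrix.det_mul,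
        hd, mul_one, ← Matrix.det_mul, ← Units.val_mul, ← Subgroup.coe_mul, mul_inv_cancel]
      simp⟩
  -- quasisimplicity
  have hcard2 : m = 2 → 4 ≤ Fintype.card F := fun hm => by
    have h3 : Fintype.card F ≠ 3 := fun h => h33 ⟨by omega, h⟩
    have h1 := Fintype.one_lt_card (α := F)
    obtain ⟨k, hk⟩ := hF
    omega
  have hperf : commutator (Matrix.SpecialLinearGroup (Fin m) F) = ⊤ := by
    rcases eq_or_lt_of_le (show 2 ≤ m by omega) with h | h
    · subst h
      obtain ⟨a, ha, ha2⟩ := Cfsg.Agent.Small.SLNormalised.exists_sq_ne_one (hcard2 rfl)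
      exact Matrix.SL2.commutator_eq_top ha ha2
    · exact Cfsg.Agent.Classical.sl_commutator_eq_top (by rw [Fintype.card_fin]; omega)
  have hsimple : IsSimpleGroup (Matrix.ProjectiveSpecialLinearGroup (Fin m) F) := by
    rcases eq_or_lt_of_le (show 2 ≤ m by omega) with h | h
    · subst h
      exact Matrix.ProjectiveSpecialLinearGroup.rank_two_simple'
        (Cfsg.Agent.Small.SLNormalised.exists_sq_ne_one (hcard2 rfl))
    · exact Cfsg.Agent.Small.PSLn.psl_simple (by omega)
  have hqs : Cfsg.IsQuasisimple (Matrix.SpecialLinearGroup (Fin m) F) := ⟨⟨hperf⟩, hsimple⟩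
  -- image modulo the core
  haveI : (Cfsg.oddCore ↥C).Normal := inferInstance
  obtain ⟨π, hπ⟩ : ∃ π : ↥C →* ↥C ⧸ Cfsg.oddCore ↥C, π = QuotientGroup.mk' _ := ⟨_, rfl⟩
  refine ⟨K.map π, Subgroup.Normal.isSubnormal (hKn.map π (hπ ▸ QuotientGroup.mk'_surjective _)), ?_⟩
  haveI : Nontrivial ↥(K.map π) := by
    rw [Subgroup.nontrivial_iff_ne_bot]
    intro hb
    rw [Subgroup.map_eq_bot_iff, hπ, QuotientGroup.ker_mk'] at hb
    -- an involution in `K`
    obtain ⟨w, hw1, hw2⟩ : ∃ w : Matrix.SpecialLinearGroup (Fin m) F, w ≠ 1 ∧ w * w = 1 := by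
      obtain ⟨i, j, hij⟩ : ∃ i j : Fin m, i ≠ j := ⟨⟨0, by omega⟩, ⟨1, by omega⟩, by simp⟩
      obtain ⟨d, hd⟩ : ∃ d : Fin m → F, ∀ k, d k = if k = i ∨ k = j then -1 else 1 := ⟨_, fun _ => rfl⟩
      have hdet : (Matrix.diagonal d).det = 1 := by
        rw [Matrix.det_diagonal, ← Finset.prod_subset (Finset.subset_univ {i, j}) (fun k _ hk => by
          rw [hd, if_neg]; simpa using hk), Finset.prod_pair hij, hd, hd]
        simp
      refine ⟨⟨_, hdet⟩, fun h => ?_, Subtype.ext ?_⟩
      · have := congrFun (congrFun (congrArg Subtype.val h) i) i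
        simp [hd] at this
        exact hneg this
      · show Matrix.diagonal d * Matrix.diagonal d = 1
        rw [Matrix.diagonal_mul_diagonal, ← Matrix.diagonal_one]
        congr 1; funext k; rw [hd]; split_ifs <;> simp
    have hwK : ι w ∈ Cfsg.oddCore ↥C := hb (hK ▸ ⟨w, rfl⟩)
    have hodd := Cfsg.Agent.Char.card_oddCore_odd ↥C
    have hw' : orderOf (ι w) = 2 := orderOf_eq_prime (by rw [sq, ← map_mul, hw2, map_one])
      fun h => hw1 (hinj (by rw [h, map_one]))
    have hdvd : 2 ∣ Nat.card ↥(Cfsg.oddCore ↥C) :=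
      hw' ▸ Subgroup.orderOf_mk (ι w) hwK ▸ orderOf_dvd_natCard _
    exact (Nat.not_even_iff_odd.2 hodd) (even_iff_two_dvd.2 hdvd)
  exact Cfsg.Agent.BpBal.qs_image ((π.subgroupMap K).comp (ι.rangeRestrict |> fun f => (MulEquiv.subgroupCongr hK.symm).toMonoidHom.comp f))
    ((MonoidHom.subgroupMap_surjective π K).comp ((MulEquiv.subgroupCongr hK.symm).surjective.comp ι.rangeRestrict_surjective)) hqs

end Cfsg.Agent.S1340
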