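import Cfsg.Statements.S1343
import Cfsg.Agent.Lib.Fusion.ExtendedLayer

set_option autoImplicit false
open Cfsg
open Cfsg.Agent.Fusion
open scoped commutatorElement

namespace Cfsg.Agent.S1343

/-- Let X be finite. Then L*_{2'}(X) = L_{2'}(X) ⊔ F for some subgroup F of odd order normalized by a Sylow 2-subgroup of X. -/
theorem result {X : Type*} [Group X] [Finite X] : ∃ F : Subgroup X, Odd (Nat.card ↥F) ∧ (∃ S : Sylow 2 X, (S : Subgroup X) ≤ Subgroup.normalizer (F : Set X)) ∧ Cfsg.extendedTwoLayer X = Cfsg.pLayer 2 X ⊔ F := by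
  haveI : Fact (Nat.Prime 2) := ⟨Nat.prime_two⟩
  haveI := layerBase_normal (X := X)
  haveI : (oddCore X).Normal := by unfold oddCore; infer_instance
  obtain ⟨S⟩ : Nonempty (Sylow 2 X) := inferInstance
  have hT : SylIn 2 ((S : Subgroup X) ⊓ layerBase X) (layerBase X) :=
    (sylIn_top S).inf_normal le_top (by rw [Subgroup.normalizer_eq_top])
  refine ⟨oddCore X ⊔ oddCent ((S : Subgroup X) ⊓ layerBase X), ?_, ⟨S, fun s hs => ?_⟩, ?_⟩
  · have h1 : (Nat.card (oddCore X)).Coprime 2 := card_pPrimeCore_coprime 2 X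
    have h2 : (Nat.card (oddCent ((S : Subgroup X) ⊓ layerBase X))).Coprime 2 := by
      rw [oddCent, Subgroup.card_map_of_injective (Subgroup.subtype_injective _)]
      exact card_pPrimeCore_coprime 2 _
    rw [sup_comm]
    exact Nat.coprime_two_right.1
      ((h2.mul_left h1).coprime_dvd_left (card_sup_dvd (oddCore X) _))
  · refine mem_normalizer_of_cj_le (le_of_eq ?_)
    rw [cj_sup, cj_of_normal (oddCore X), cj_oddCent, cj_inf, cj_of_normal (layerBase X),
      cj_eq_self_of_mem hs]
  · rw [extendedTwoLayer_eq_of_sylIn hT, sup_assoc]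

end Cfsg.Agent.S1343
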