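import Cfsg.Statements.S1344
import Cfsg.Agent.Lib.Fusion.PComponentUnique
import Cfsg.Agent.Lib.Fusion.ExtendedLayer

set_option autoImplicit false
open Cfsg
open Cfsg.Agent.Fusion
open scoped commutatorElement

namespace Cfsg.Agent.S1344

/-- Let K be a 2-component of the finite group X. Then K ≤ L*_{2'}(X) and K is normal in L*_{2'}(X). -/
theorem result {X : Type*} [Group X] [Finite X] (K : Subgroup X) (hK : Cfsg.IsPComponent 2 K) : K ≤ Cfsg.extendedTwoLayer X ∧ (K.subgroupOf (Cfsg.extendedTwoLayer X)).Normal := by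
  haveI : Fact (Nat.Prime 2) := ⟨Nat.prime_two⟩
  have hle : K ≤ Cfsg.pLayer 2 X := le_sSup hK
  have hKE : K ≤ Cfsg.extendedTwoLayer X := hle.trans (le_sup_left.trans le_sup_left)
  refine ⟨hKE, (Subgroup.normal_subgroupOf_iff_le_normalizer hKE).2 ?_⟩
  rw [extendedTwoLayer_eq]
  refine sup_le (sup_le (pLayer_le_normalizer hK) (pPrimeCore_normalizes_pComponent hK)) (iSup_le fun T => ?_)
  have h1 : SylIn 2 ((T : Subgroup X) ⊓ Cfsg.pLayer 2 X) (Cfsg.pLayer 2 X) :=
    T.2.inf_normal le_sup_left (by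
      haveI := pLayer_normal (X := X) (p := 2)
      rw [Subgroup.normalizer_eq_top]; exact le_top)
  have h2 := h1.inf_normal hle (pLayer_le_normalizer hK)
  exact fun g hg => mem_normalizer_of_centralizes_sylow hK h2
    (Subgroup.centralizer_le (inf_le_left.trans inf_le_left : _ ≤ (T : Subgroup X)) (Subgroup.map_subtype_le _ hg))

end Cfsg.Agent.S1344
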