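import Cfsg.Statements.S1346
import Cfsg.Agent.Lib.Fusion.LStarBalance

set_option autoImplicit false
open Cfsg Cfsg.Agent.Fusion

namespace Cfsg.Agent.S1346

/-- Let G be a finite group all of whose 2-local subgroups have known non-abelian composition factors, and x, y commuting involutions. Then the extended 2-layer of L*_{2'}(C_G(x)) ∩ C_G(y) (as a group) is contained in L*_{2'}(C_G(y)). -/
theorem result {G : Type*} [Group G] [Finite G] (hK : ∀ T : Subgroup G, IsPGroup 2 ↥T → T ≠ ⊥ → Cfsg.IsCompositionKGroup ↥(Subgroup.normalizer (T : Set G))) (x y : G) (hx : orderOf x = 2) (hy : orderOf y = 2) (hxy : x * y = y * x) : (Cfsg.extendedTwoLayer ↥((Cfsg.extendedTwoLayer ↥(Subgroup.centralizer ({x} : Set G))).map (Subgroup.centralizer ({x} : Set G)).subtype ⊓ Subgroup.centralizer ({y} : Set G))).map ((Cfsg.extendedTwoLayer ↥(Subgroup.centralizer ({x} : Set G))).map (Subgroup.centralizer ({x} : Set G)).subtype ⊓ Subgroup.centralizer ({y} : Set G)).subtype ≤ (Cfsg.extendedTwoLayer ↥(Subgroup.centralizer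 ({y} : Set G))).map (Subgroup.centralizer ({y} : Set G)).subtype := by
  haveI : Fact (Nat.Prime 2) := ⟨Nat.prime_two⟩
  obtain ⟨W, hW⟩ : ∃ W, W = (Cfsg.extendedTwoLayer ↥(Subgroup.centralizer ({x} : Set G))).map
      (Subgroup.centralizer ({x} : Set G)).subtype ⊓ Subgroup.centralizer ({y} : Set G) := ⟨_, rfl⟩
  rw [← hW]
  have hWy : W ≤ Subgroup.centralizer ({y} : Set G) := hW ▸ inf_le_right
  have hWx : W ≤ Subgroup.centralizer ({x} : Set G) := hW ▸ inf_le_left.trans (Subgroup.map_subtype_le _)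
  have hxy' : x ∈ Subgroup.centralizer ({y} : Set G) := Subgroup.mem_centralizer_singleton_iff.2 hxy
  obtain ⟨xy, hxydef⟩ : ∃ v : Subgroup.centralizer ({y} : Set G), v = ⟨x, hxy'⟩ := ⟨_, rfl⟩
  have hR : IsPGroup 2 (Subgroup.zpowers xy) := IsPGroup.of_card (n := 1) (by
    rw [Nat.card_zpowers, hxydef, Subgroup.orderOf_mk, hx, pow_one])
  have hmain := Cfsg.Agent.LBal.extended_balance (Subgroup.inclusion hWy) (Subgroup.inclusion_injective hWy) hR
    (by
      rintro _ ⟨w, rfl⟩
      rw [Subgroup.zpowers_eq_closure, Subgroup.centralizer_closure, Subgroup.mem_centralizer_singleton_iff]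
      subst hxydef
      exact Subtype.ext (Subgroup.mem_centralizer_singleton_iff.1 (hWx w.2)))
    (by
      intro s hs
      rw [Subgroup.zpowers_eq_closure, Subgroup.centralizer_closure, Subgroup.mem_centralizer_singleton_iff] at hs
      subst hxydef
      have hsx : (s : G) ∈ Subgroup.centralizer ({x} : Set G) :=
        Subgroup.mem_centralizer_singleton_iff.2 (congrArg Subtype.val hs)
      have hsW : (s : G) ∈ Subgroup.normalizer (W : Set G) := mem_normalizer_of_cj_le (by
        rw [hW, cj_inf, cj_eq_self_of_mem (H := Subgroup.centralizer ({y} : Set G)) s.2]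
        refine inf_le_inf_right _ ?_
        rintro _ ⟨_, ⟨e, he, rfl⟩, rfl⟩
        exact ⟨⟨(s : G), hsx⟩ * e * (⟨(s : G), hsx⟩ : Subgroup.centralizer ({x} : Set G))⁻¹,
          extendedTwoLayer_normal.conj_mem e he ⟨(s : G), hsx⟩, rfl⟩)
      refine mem_normalizer_of_cj_le ?_
      rintro _ ⟨_, ⟨w, rfl⟩, rfl⟩
      exact ⟨⟨s * w * (s : G)⁻¹, (Subgroup.mem_normalizer_iff.1 hsW _).1 w.2⟩, rfl⟩)
  have h2 := Subgroup.map_mono (f := (Subgroup.centralizer ({y} : Set G)).subtype) hmain
  rw [Subgroup.map_map] at h2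
  exact h2

end Cfsg.Agent.S1346
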