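import Cfsg.Statements.S1348
import Cfsg.Agent.Lib.Small.SLNormalised
import Cfsg.Agent.Lib.Fusion.BpBalanceTools
import Cfsg.Agent.Lib.Solv.Component
import Cfsg.Agent.Lib.Local.Basics

set_option autoImplicit false
open Cfsg
open Cfsg.Agent.Fusion
open scoped commutatorElement

namespace Cfsg.Agent.S1348

/-- Block embedding. -/
noncomputable def blockLast {F : Type*} [Field F] {m : ℕ} (s : Matrix (Fin m) (Fin m) F) :
    Matrix (Fin (m + 1)) (Fin (m + 1)) F :=
  Matrix.of fun i j => Fin.lastCases (Fin.lastCases (1 : F) (fun _ => 0) j)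
    (fun i' => Fin.lastCases 0 (fun j' => s i' j') j) i

theorem blockLast_mul {F : Type*} [Field F] {m : ℕ} (s t : Matrix (Fin m) (Fin m) F) :
    blockLast (s * t) = blockLast s * blockLast t := by
  ext i j
  rw [Matrix.mul_apply, Fin.sum_univ_castSucc]
  induction i using Fin.lastCases <;> induction j using Fin.lastCases <;> simp [blockLast, Matrix.mul_apply]

theorem blockLast_det {F : Type*} [Field F] {m : ℕ} (s : Matrix (Fin m) (Fin m) F) :
    (blockLast s).det = s.det := by
  rw [Matrix.det_succ_row _ (Fin.last m), Fin.sum_univ_castSucc]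
  have : (blockLast s).submatrix (Fin.last m).succAbove (Fin.last m).succAbove = s := by
    ext i j; simp [blockLast, Fin.succAbove_last]
  rw [this]
  simp [blockLast, ← pow_add, Even.neg_one_pow ⟨m, rfl⟩]

/-- The standard-subgroup criterion. -/
theorem standard_of_unique_involution {G : Type*} [Group G] [Finite G] (t : G) (ht : orderOf t = 2)
    (L : Subgroup G) (hq : Cfsg.IsQuasisimple ↥L)
    (hnorm : Subgroup.centralizer ({t} : Set G) ≤ Subgroup.normalizer (L : Set G))
    (htK : t ∈ Subgroup.centralizer (L : Set G))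
    (huni : ∀ x ∈ Subgroup.centralizer (L : Set G), orderOf x = 2 → x = t)
    (hab : ∀ x ∈ Subgroup.centralizer (L : Set G), ∀ y ∈ Subgroup.centralizer (L : Set G), x * y = y * x) :
    Cfsg.IsStandardSubgroup L := by
  haveI : Fact (Nat.Prime 2) := ⟨Nat.prime_two⟩
  obtain ⟨K, hK⟩ : ∃ K, K = Subgroup.centralizer (L : Set G) := ⟨_, rfl⟩
  rw [← hK] at htK huni hab
  have h1 : Subgroup.normalizer (L : Set G) ≤ Subgroup.normalizer (K : Set G) := by
    intro g hg
    rw [← Local.conj_map_eq_iff] at hg ⊢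
    refine Subgroup.eq_of_le_of_card_ge ?_ (Local.card_conj_map K g).ge
    intro x hx
    rw [hK, Subgroup.mem_centralizer_iff]
    intro y hy
    rw [← hg] at hy
    rw [Local.mem_conj_map, hK, Subgroup.mem_centralizer_iff] at hx
    rw [SetLike.mem_coe, Local.mem_conj_map] at hy
    have e := hx _ hy
    calc y * x = g * ((g⁻¹ * y * g) * (g⁻¹ * x * g)) * g⁻¹ := by group
      _ = g * ((g⁻¹ * x * g) * (g⁻¹ * y * g)) * g⁻¹ := by rw [e]
      _ = x * y := by group
  have hmove : ∀ g : G, g * t * g⁻¹ ∈ K → g ∈ Subgroup.centralizer ({t} : Set G) := by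
    intro g hg
    rw [Subgroup.mem_centralizer_singleton_iff]
    have := huni _ hg (by
      rw [show g * t * g⁻¹ = MulAut.conj g t from (MulAut.conj_apply g t).symm, MulEquiv.orderOf_eq, ht])
    rw [mul_inv_eq_iff_eq_mul] at this
    exact this
  have h2 : Subgroup.normalizer (K : Set G) ≤ Subgroup.centralizer ({t} : Set G) := fun g hg =>
    hmove g ((Subgroup.mem_normalizer_iff.1 hg t).1 htK)
  refine ⟨hq, ?_, ?_, ?_⟩
  · rw [← hK]
    refine ⟨?_, fun g hg => ?_⟩
    · rw [even_iff_two_dvd, ← ht, ← Subgroup.orderOf_mk t htK]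
      exact orderOf_dvd_natCard _
    · rw [← Nat.not_even_iff_odd, even_iff_two_dvd]
      intro hev
      obtain ⟨⟨x, hx⟩, hxo⟩ := exists_prime_orderOf_dvd_card' 2 hev
      rw [Subgroup.orderOf_mk] at hxo
      have hxt := huni x (Subgroup.mem_inf.1 hx).1 hxo
      have htg := (Subgroup.mem_inf.1 hx).2
      rw [hxt, Local.mem_conj_map] at htg
      have : g⁻¹ ∈ Subgroup.centralizer ({t} : Set G) := hmove g⁻¹ (by simpa using htg)
      exact hg (inv_mem_iff.1 (h1 (hnorm this)))
  · intro g _ hbot
    refine Solv.qs_not_le_centralizer hq ?_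
    rw [Subgroup.commutator_eq_bot_iff_le_centralizer]
    intro x hx
    rw [Subgroup.mem_centralizer_iff]
    intro y hy
    rw [Subgroup.commutator_eq_bot_iff_le_centralizer] at hbot
    have hconj : ∀ z ∈ L, g * z * g⁻¹ ∈ K := by
      intro z hz
      rw [hK, Subgroup.mem_centralizer_iff]
      intro w hw
      exact (Subgroup.mem_centralizer_iff.1 (hbot hw) _ (Local.conj_mem_conj_map hz)).symm
    have e := hab _ (hconj x hx) _ (hconj y hy)
    calc y * x = g⁻¹ * ((g * y * g⁻¹) * (g * x * g⁻¹)) * g := by group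
      _ = g⁻¹ * ((g * x * g⁻¹) * (g * y * g⁻¹)) * g := by rw [e]
      _ = x * y := by group
  · rw [← hK]
    exact le_antisymm h1 (h2.trans hnorm)

/-- Let F be a finite field of odd order, n ≥ 7 odd, and t ∈ SL(n, F) the diagonal matrix with entries −1, …, −1, 1. Then E(C(t)) is a standard subgroup of SL(n, F). -/
theorem result {F : Type*} [Field F] [Fintype F] [DecidableEq F] (hF : Odd (Fintype.card F)) (n : ℕ) (hn : 7 ≤ n) (hodd : Odd n) (t : Matrix.SpecialLinearGroup (Fin n) F) (ht : (t : Matrix (Fin n) (Fin n) F) = Matrix.diagonal (fun i : Fin n => if (i : ℕ) + 1 = n then (1 : F) else -1)) : Cfsg.IsStandardSubgroup ((Cfsg.layer ↥(Subgroup.centralizer ({t} : Set (Matrix.SpecialLinearGroup (Fin n) F)))).map (Subgroup.centralizer ({t} : Set (Matrix.SpecialLinearGroup (Fin n) F))).subtype) := by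
  obtain ⟨m, rfl⟩ : ∃ m, n = m + 1 := ⟨n - 1, by omega⟩
  have h2 : (2 : F) ≠ 0 := by
    intro h
    have hr : ringChar F = 2 := CharP.ringChar_of_prime_eq_zero Nat.prime_two (by exact_mod_cast h)
    exact (Nat.not_odd_iff_even.2 (Nat.even_iff.2 (FiniteField.even_card_of_char_two hr))) hF
  have hneg : (-1 : F) ≠ 1 := fun h => h2 (by linear_combination -h)
  have hmev : Even m := by
    obtain ⟨k, hk⟩ := hodd
    exact ⟨k, by omega⟩
  obtain ⟨dg, hdg⟩ : ∃ dg : Fin (m + 1) → F, ∀ i, dg i = if i = Fin.last m then 1 else -1 := ⟨_, fun _ => rfl⟩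
  have ht' : t.1 = Matrix.diagonal dg := by
    rw [ht]; congr 1; funext i; rw [hdg]
    refine if_congr ?_ rfl rfl
    rw [Fin.ext_iff, Fin.val_last]; omega
  have hlast : dg (Fin.last m) = 1 := by rw [hdg, if_pos rfl]
  have hcast : ∀ k : Fin m, dg k.castSucc = -1 := fun k => by rw [hdg, if_neg (Fin.castSucc_lt_last k).ne]
  have hto : orderOf t = 2 := by
    refine orderOf_eq_prime (Subtype.ext ?_) fun h => ?_
    · rw [sq, Matrix.SpecialLinearGroup.coe_mul, ht', Matrix.diagonal_mul_diagonal,
        Matrix.SpecialLinearGroup.coe_one, ← Matrix.diagonal_one]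
      congr 1; funext i; rw [hdg]; split_ifs <;> simp
    · have := congrFun (congrFun (congrArg Subtype.val h) (Fin.castSucc ⟨0, by omega⟩)) (Fin.castSucc ⟨0, by omega⟩)
      rw [ht', Matrix.diagonal_apply_eq, hcast, Matrix.SpecialLinearGroup.coe_one, Matrix.one_apply_eq] at this
      exact hneg this
  obtain ⟨C, hC⟩ : ∃ C, C = Subgroup.centralizer ({t} : Set (Matrix.SpecialLinearGroup (Fin (m + 1)) F)) := ⟨_, rfl⟩
  have hCiff : ∀ g, g ∈ C ↔ ∀ i j : Fin (m + 1), g.1 i j * dg j = dg i * g.1 i j := by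
    intro g
    rw [hC, Subgroup.mem_centralizer_singleton_iff, Matrix.SpecialLinearGroup.ext_iff]
    simp only [Matrix.SpecialLinearGroup.coe_mul, ht', Matrix.mul_diagonal, Matrix.diagonal_mul]
  have hzero : ∀ g, g ∈ C → ∀ k : Fin m, g.1 (Fin.last m) k.castSucc = 0 ∧ g.1 k.castSucc (Fin.last m) = 0 := by
    intro g hg k
    have h1 := (hCiff g).1 hg (Fin.last m) k.castSucc
    have h3 := (hCiff g).1 hg k.castSucc (Fin.last m)
    rw [hlast, hcast] at h1 h3
    exact ⟨(mul_eq_zero.1 (by linear_combination -h1 : (2 : F) * g.1 (Fin.last m) k.castSucc = 0)).resolve_left h2,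
      (mul_eq_zero.1 (by linear_combination h3 : (2 : F) * g.1 k.castSucc (Fin.last m) = 0)).resolve_left h2⟩
  rw [← hC]
  obtain ⟨ι, hι⟩ : ∃ ι : Matrix.SpecialLinearGroup (Fin m) F →* ↥C, ∀ s, (ι s).1.1 = blockLast s.1 := by
    refine ⟨MonoidHom.mk' (fun s => ⟨⟨blockLast s.1, by rw [blockLast_det, s.2]⟩, (hCiff _).2 ?_⟩)
      (fun a b => Subtype.ext (Subtype.ext (blockLast_mul a.1 b.1))), fun s => rfl⟩
    intro i j
    induction i using Fin.lastCases <;> induction j using Fin.lastCases <;> simp [blockLast, hlast, hcast]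
  have hinj : Function.Injective ι := fun a b h => by
    have : blockLast a.1 = blockLast b.1 := by rw [← hι, ← hι, h]
    refine Subtype.ext (Matrix.ext fun i j => ?_)
    simpa [blockLast] using congrFun (congrFun this i.castSucc) j.castSucc
  have hKiff : ∀ x : ↥C, x ∈ ι.range ↔ x.1.1 (Fin.last m) (Fin.last m) = 1 := by
    intro x
    constructor
    · rintro ⟨s, rfl⟩
      rw [hι]; simp [blockLast]
    · intro h00
      have hx : blockLast (x.1.1.submatrix Fin.castSucc Fin.castSucc) = x.1.1 := by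
        ext i j
        induction i using Fin.lastCases <;> induction j using Fin.lastCases <;>
          simp [blockLast, h00, (hzero x.1 x.2 _).1, (hzero x.1 x.2 _).2]
      refine ⟨⟨x.1.1.submatrix Fin.castSucc Fin.castSucc, by rw [← blockLast_det, hx, x.1.2]⟩,
        Subtype.ext (Subtype.ext ?_)⟩
      exact (hι _).trans hx
  haveI hKn : ι.range.Normal := ⟨fun x hx g => by
    rw [hKiff] at hx ⊢
    have hentry : ∀ a b : ↥C, (a * b).1.1 (Fin.last m) (Fin.last m) =
        a.1.1 (Fin.last m) (Fin.last m) * b.1.1 (Fin.last m) (Fin.last m) := by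
      intro a b
      rw [Subgroup.coe_mul, Matrix.SpecialLinearGroup.coe_mul, Matrix.mul_apply, Fin.sum_univ_castSucc]
      simp [(hzero a.1 a.2 _).1]
    rw [hentry, hentry, hx, mul_one, ← hentry, mul_inv_cancel]
    simp⟩
  have hperf : commutator (Matrix.SpecialLinearGroup (Fin m) F) = ⊤ :=
    Cfsg.Agent.Classical.sl_commutator_eq_top (by rw [Fintype.card_fin]; omega)
  have hqs : Cfsg.IsQuasisimple (Matrix.SpecialLinearGroup (Fin m) F) :=
    ⟨⟨hperf⟩, Cfsg.Agent.Small.PSLn.psl_simple (by omega)⟩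
  have hKq : Cfsg.IsQuasisimple ↥ι.range := Local.isQuasisimple_congr (MonoidHom.ofInjective hinj) hqs
  have hKcomp : Cfsg.IsComponent ι.range := ⟨hKn.isSubnormal, hKq⟩
  -- elements commuting with the block
  have hscalar : ∀ g : Matrix.SpecialLinearGroup (Fin (m + 1)) F, (∀ s, g * (ι s).1 = (ι s).1 * g) →
      ∃ lam mu : F, lam ^ m * mu = 1 ∧ g.1 = Matrix.diagonal (fun i => if i = Fin.last m then mu else lam) := by
    intro g hg
    have key : ∀ a b : Fin m, a ≠ b → ∀ k l : Fin (m + 1),
        (g.1 * Matrix.single a.castSucc b.castSucc (1 : F)) k l =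
        (Matrix.single a.castSucc b.castSucc (1 : F) * g.1) k l := by
      intro a b hab k l
      have hb : (ι (Matrix.SpecialLinearGroup.transvection hab 1)).1.1 =
          1 + Matrix.single a.castSucc b.castSucc (1 : F) := by
        rw [hι, Matrix.SpecialLinearGroup.transvection_coe]
        ext i j
        induction i using Fin.lastCases <;> induction j using Fin.lastCases <;>
          simp [blockLast, Matrix.transvection, Matrix.one_apply, Matrix.single_apply, eq_comm,
            (Fin.castSucc_lt_last _).ne]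
      have h := congrArg Subtype.val (hg (Matrix.SpecialLinearGroup.transvection hab 1))
      simp only [Matrix.SpecialLinearGroup.coe_mul, hb, Matrix.mul_add, Matrix.add_mul, Matrix.one_mul,
        Matrix.mul_one] at h
      exact congrArg (fun M => M k l) (add_left_cancel h)
    have other : ∀ a : Fin m, ∃ b : Fin m, a ≠ b := fun a => by
      by_cases h : a = ⟨0, by omega⟩
      · exact ⟨⟨1, by omega⟩, by simp [h, Fin.ext_iff]⟩
      · exact ⟨⟨0, by omega⟩, h⟩
    have hcol : ∀ a : Fin m, ∀ k, k ≠ a.castSucc → g.1 k a.castSucc = 0 := by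
      intro a k hk
      obtain ⟨b, hab⟩ := other a
      simpa [Matrix.mul_single_apply_same, Matrix.single_mul_apply_of_ne _ _ _ _ _ hk] using key a b hab k b.castSucc
    have hrow : ∀ b : Fin m, ∀ l, l ≠ b.castSucc → g.1 b.castSucc l = 0 := by
      intro b l hl
      obtain ⟨a, hab⟩ := other b
      simpa [Matrix.single_mul_apply_same, Matrix.mul_single_apply_of_ne _ _ _ _ _ hl] using
        (key a b hab.symm a.castSucc l).symm
    have hdiag : ∀ a b : Fin m, g.1 a.castSucc a.castSucc = g.1 b.castSucc b.castSucc := by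
      intro a b
      by_cases hab : a = b
      · rw [hab]
      · simpa [Matrix.mul_single_apply_same, Matrix.single_mul_apply_same] using key a b hab a.castSucc b.castSucc
    have hD : g.1 = Matrix.diagonal (fun i => if i = Fin.last m then g.1 (Fin.last m) (Fin.last m)
        else g.1 (Fin.castSucc ⟨0, by omega⟩) (Fin.castSucc ⟨0, by omega⟩)) := by
      ext i j
      induction i using Fin.lastCases with
      | last =>
        induction j using Fin.lastCases with
        | last => simp
        | cast b => rw [Matrix.diagonal_apply_ne _ (Fin.castSucc_lt_last b).ne']; exact hcol b _ (Fin.castSucc_lt_last b).ne'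
      | cast a =>
        by_cases hj : j = a.castSucc
        · subst hj; rw [Matrix.diagonal_apply_eq, if_neg (Fin.castSucc_lt_last a).ne]; exact hdiag a _
        · rw [Matrix.diagonal_apply_ne _ (Ne.symm hj)]; exact hrow a j hj
    refine ⟨_, _, ?_, hD⟩
    have hd := congrArg Matrix.det hD
    rw [g.2, Matrix.det_diagonal, Fin.prod_univ_castSucc] at hd
    simpa [(Fin.castSucc_lt_last _).ne] using hd.symm
  have hLlayer : Cfsg.layer ↥C = ι.range := by
    refine le_antisymm ?_ (Solv.component_le_layer hKcomp)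
    rw [Cfsg.layer]
    refine sSup_le fun J hJ => ?_
    by_cases hne : J = ι.range
    · exact hne.le
    exfalso
    have hc := Solv.components_commute hJ hKcomp hne
    rw [Subgroup.commutator_eq_bot_iff_le_centralizer] at hc
    refine Solv.qs_not_le_centralizer hJ.2 ?_
    rw [Subgroup.commutator_eq_bot_iff_le_centralizer]
    intro x hx
    rw [Subgroup.mem_centralizer_iff]
    intro y hy
    have hd : ∀ z ∈ J, ∃ lam mu : F, lam ^ m * mu = 1 ∧
        z.1.1 = Matrix.diagonal (fun i => if i = Fin.last m then mu else lam) := fun z hz =>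
      hscalar z.1 fun s => congrArg Subtype.val (Subgroup.mem_centralizer_iff.1 (hc hz) (ι s) ⟨s, rfl⟩).symm
    obtain ⟨a, b, -, hxd⟩ := hd x hx
    obtain ⟨c, d, -, hyd⟩ := hd y hy
    apply Subtype.ext; apply Subtype.ext
    simp only [Subgroup.coe_mul, Matrix.SpecialLinearGroup.coe_mul, hxd, hyd, Matrix.diagonal_mul_diagonal]
    congr 1; funext i; ring
  obtain ⟨L, hL⟩ : ∃ L, L = ι.range.map C.subtype := ⟨_, rfl⟩
  rw [hLlayer, ← hL]
  have hcen : ∀ x, x ∈ Subgroup.centralizer (L : Set (Matrix.SpecialLinearGroup (Fin (m + 1)) F)) ↔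
      ∀ s, x * (ι s).1 = (ι s).1 * x := by
    intro x
    rw [Subgroup.mem_centralizer_iff]
    constructor
    · exact fun h s => (h _ (hL ▸ ⟨ι s, ⟨s, rfl⟩, rfl⟩)).symm
    · rintro h y hy
      rw [SetLike.mem_coe, hL] at hy
      obtain ⟨_, ⟨s, rfl⟩, rfl⟩ := hy
      exact (h s).symm
  refine standard_of_unique_involution t hto L ?_ ?_ ?_ ?_ ?_
  · rw [hL]
    exact Local.isQuasisimple_congr (ι.range.equivMapOfInjective _ C.subtype_injective) hKq
  · rw [← hC, hL]
    intro c hc
    rw [← Local.conj_map_eq_iff, Subgroup.map_map]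
    have h : (MulAut.conj c).toMonoidHom.comp C.subtype = C.subtype.comp (MulAut.conj (⟨c, hc⟩ : ↥C)).toMonoidHom := by
      ext x; rfl
    rw [h, ← Subgroup.map_map, Local.conj_map_eq_iff.2 (by rw [Subgroup.normalizer_eq_top]; trivial)]
  · rw [hcen]
    exact fun s => (Subgroup.mem_centralizer_singleton_iff.1 (hC ▸ (ι s).2)).symm
  · intro x hx hxo
    obtain ⟨a, b, hab, hxd⟩ := hscalar x ((hcen x).1 hx)
    have hxx := congrArg Subtype.val (show x ^ 2 = 1 by rw [← hxo]; exact pow_orderOf_eq_one x)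
    rw [sq, Matrix.SpecialLinearGroup.coe_mul, hxd, Matrix.diagonal_mul_diagonal, Matrix.SpecialLinearGroup.coe_one,
      ← Matrix.diagonal_one, Matrix.diagonal_eq_diagonal_iff] at hxx
    have ha := hxx (Fin.castSucc ⟨0, by omega⟩)
    simp only [if_neg (Fin.castSucc_lt_last _).ne] at ha
    obtain ⟨k, hk⟩ := hmev
    rw [hk, ← two_mul, pow_mul, pow_two, ha, one_pow, one_mul] at hab
    rcases mul_self_eq_one_iff.1 ha with h | h
    · exfalso
      have : x = 1 := Subtype.ext (by rw [hxd, h, hab]; simp)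
      rw [this, orderOf_one] at hxo; omega
    · apply Subtype.ext
      rw [hxd, ht', h, hab]
      congr 1; funext i; rw [hdg]
  · intro x hx y hy
    obtain ⟨a, b, -, hxd⟩ := hscalar x ((hcen x).1 hx)
    obtain ⟨c, d, -, hyd⟩ := hscalar y ((hcen y).1 hy)
    apply Subtype.ext
    simp only [Matrix.SpecialLinearGroup.coe_mul, hxd, hyd, Matrix.diagonal_mul_diagonal]
    congr 1; funext i; ring

end Cfsg.Agent.S1348
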