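import Cfsg.Statements.S1349
import Cfsg.Agent.Lib.Fusion.Basic
import Cfsg.Agent.Lib.Solv.Cores
import Cfsg.Agent.Lib.Solv.Subnormal
import Cfsg.Agent.Lib.Fusion.Dihedral

set_option autoImplicit false
open Cfsg
open Cfsg.Agent.Fusion
open scoped commutatorElement

namespace Cfsg.Agent.S1349

theorem exists_eigen {G : Type*} [Group G] [Finite G] (A M : Subgroup G)
    (hAM : ∀ a ∈ A, ∀ x ∈ M, a * x * a⁻¹ ∈ M) (hM : ∀ x ∈ M, ∀ y ∈ M, x * y = y * x)
    (hA : ∀ a ∈ A, ∀ b ∈ A, a * b = b * a) (hA2 : ∀ a ∈ A, a * a = 1) {e₀ : G} (he₀ : e₀ ∈ M)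
    (hne : e₀ ≠ 1) :
    ∃ e ∈ M, e ≠ 1 ∧ ∀ a ∈ A, a * e * a⁻¹ = e ∨ a * e * a⁻¹ = e⁻¹ := by
  classical
  haveI := Fintype.ofFinite G
  suffices key : ∀ s : Finset G, (∀ a ∈ s, a ∈ A) →
      ∃ e ∈ M, e ≠ 1 ∧ ∀ a ∈ s, a * e * a⁻¹ = e ∨ a * e * a⁻¹ = e⁻¹ by
    obtain ⟨e, he, he1, h⟩ := key (Finset.univ.filter (· ∈ A)) (fun a ha => (Finset.mem_filter.1 ha).2)
    exact ⟨e, he, he1, fun a ha => h a (Finset.mem_filter.2 ⟨Finset.mem_univ a, ha⟩)⟩
  intro s
  induction s using Finset.induction_on with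
  | empty => exact fun _ => ⟨e₀, he₀, hne, fun a ha => absurd ha (Finset.notMem_empty a)⟩
  | insert a s ha ih =>
    intro hs
    have haA := hs a (Finset.mem_insert_self a s)
    obtain ⟨e, he, he1, h⟩ := ih fun b hb => hs b (Finset.mem_insert_of_mem hb)
    have hae := hAM a haA e he
    by_cases hu : e * (a * e * a⁻¹) = 1
    · refine ⟨e, he, he1, fun b hb => ?_⟩
      rcases Finset.mem_insert.1 hb with rfl | hb
      · exact Or.inr (eq_inv_of_mul_eq_one_right hu)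
      · exact h b hb
    · refine ⟨e * (a * e * a⁻¹), mul_mem he hae, hu, fun b hb => ?_⟩
      rcases Finset.mem_insert.1 hb with rfl | hb
      · left
        have hb2 := hA2 b haA
        calc b * (e * (b * e * b⁻¹)) * b⁻¹ = (b * e * b⁻¹) * ((b * b) * e * (b * b)⁻¹) := by group
          _ = (b * e * b⁻¹) * e := by rw [hb2]; group
          _ = _ := hM _ hae e he
      · have hab := hA a haA b (hs b (Finset.mem_insert_of_mem hb))
        have h2 : b * (e * (a * e * a⁻¹)) * b⁻¹ = (b * e * b⁻¹) * (a * (b * e * b⁻¹) * a⁻¹) :=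
          calc b * (e * (a * e * a⁻¹)) * b⁻¹ = (b * e * b⁻¹) * ((b * a) * e * (b * a)⁻¹) := by group
            _ = (b * e * b⁻¹) * ((a * b) * e * (a * b)⁻¹) := by rw [hab]
            _ = _ := by group
        rcases h b hb with h3 | h3
        · exact Or.inl (by rw [h2, h3])
        · right
          rw [h2, h3, mul_inv_rev]
          have h4 := hM e⁻¹ (inv_mem he) (a * e⁻¹ * a⁻¹) (hAM a haA _ (inv_mem he))
          rw [h4]; group

theorem eq_one_of_odd {G : Type*} [Group G] {W : Subgroup G} [Finite W] (hW : Odd (Nat.card W)) {w : G}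
    (hw : w ∈ W) (h : w * w = 1) : w = 1 := by
  rw [← orderOf_eq_one_iff]
  refine Nat.eq_one_of_dvd_coprimes hW.coprime_two_right ?_
    (orderOf_dvd_of_pow_eq_one (by rw [sq, h]))
  rw [← Subgroup.orderOf_mk w hw]; exact orderOf_dvd_natCard _

/-- Dual bases. -/
theorem exists_dual {G : Type*} [Group G] [Finite G] (W : Subgroup G) (hW : Odd (Nat.card W))
    (hWc : ∀ x ∈ W, ∀ y ∈ W, x * y = y * x) :
    ∀ (d : ℕ) (B : Subgroup G), (∀ a ∈ B, ∀ b ∈ B, a * b = b * a) → (∀ a ∈ B, a * a = 1) →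
      (∀ a ∈ B, ∀ x ∈ W, a * x * a⁻¹ ∈ W) → (∀ a ∈ B, (∀ x ∈ W, a * x * a⁻¹ = x) → a = 1) →
      Nat.card B = 2 ^ d →
      ∃ (a : Fin d → G) (x : Fin d → G), (∀ i, a i ∈ B ∧ x i ∈ W ∧ x i ≠ 1 ∧
        a i * x i * (a i)⁻¹ = (x i)⁻¹ ∧ ∀ j, j ≠ i → a j * x i * (a j)⁻¹ = x i) ∧
        Subgroup.closure (Set.range a) = B := by
  intro d
  induction d with
  | zero =>
    intro B _ _ _ _ hB
    refine ⟨Fin.elim0, Fin.elim0, fun i => i.elim0, ?_⟩
    rw [Subgroup.eq_bot_of_card_eq B hB, Set.range_eq_empty, Subgroup.closure_empty]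
  | succ d ih =>
    intro B hB hB2 hBW hfaith hcard
    obtain ⟨b₁, hb₁, hb₁1⟩ : ∃ b ∈ B, b ≠ 1 := by
      by_contra h
      push Not at h
      have : B = ⊥ := (Subgroup.eq_bot_iff_forall B).2 h
      rw [this, Subgroup.card_bot, pow_succ] at hcard
      omega
    have hinv : ∀ a ∈ B, ∀ (y z : G), y ∈ W → z ∈ W → a * y * a⁻¹ = y⁻¹ → a * z * a⁻¹ = z⁻¹ →
        a * (y * z) * a⁻¹ = (y * z)⁻¹ := by
      intro a _ y z hy hz h1 h2
      rw [show a * (y * z) * a⁻¹ = (a * y * a⁻¹) * (a * z * a⁻¹) by group, h1, h2, mul_inv_rev,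
        hWc _ (inv_mem hy) _ (inv_mem hz)]
    let M : Subgroup G :=
      { carrier := {w | w ∈ W ∧ b₁ * w * b₁⁻¹ = w⁻¹}
        one_mem' := ⟨one_mem W, by simp⟩
        mul_mem' := fun hy hz => ⟨mul_mem hy.1 hz.1, hinv b₁ hb₁ _ _ hy.1 hz.1 hy.2 hz.2⟩
        inv_mem' := fun {w} hw => ⟨inv_mem hw.1, by
          rw [show b₁ * w⁻¹ * b₁⁻¹ = (b₁ * w * b₁⁻¹)⁻¹ by group, hw.2]⟩ }
    obtain ⟨x₀, hx₀, hx₀1⟩ : ∃ x ∈ M, x ≠ 1 := by
      by_contra h
      push Not at h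
      refine hb₁1 (hfaith b₁ hb₁ fun w hw => ?_)
      have hu : b₁ * w * b₁⁻¹ * w⁻¹ ∈ M := by
        refine ⟨mul_mem (hBW b₁ hb₁ w hw) (inv_mem hw), ?_⟩
        calc b₁ * (b₁ * w * b₁⁻¹ * w⁻¹) * b₁⁻¹
            = (b₁ * b₁) * w * (b₁ * b₁)⁻¹ * (b₁ * w * b₁⁻¹)⁻¹ := by group
          _ = w * (b₁ * w * b₁⁻¹)⁻¹ := by rw [hB2 b₁ hb₁]; group
          _ = _ := by group
      exact mul_inv_eq_one.1 (h _ hu)
    obtain ⟨e, heM, he1, heig⟩ := exists_eigen B M (fun a ha w hw => ⟨hBW a ha w hw.1, by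
        calc b₁ * (a * w * a⁻¹) * b₁⁻¹ = (b₁ * a) * w * (b₁ * a)⁻¹ := by group
          _ = (a * b₁) * w * (a * b₁)⁻¹ := by rw [hB b₁ hb₁ a ha]
          _ = a * (b₁ * w * b₁⁻¹) * a⁻¹ := by group
          _ = (a * w * a⁻¹)⁻¹ := by rw [hw.2]; group⟩)
      (fun y hy z hz => hWc y hy.1 z hz.1) hB hB2 hx₀ hx₀1
    have heW : e ∈ W := heM.1
    have hene : e ≠ e⁻¹ := fun h => he1 (eq_one_of_odd hW heW (by nth_rw 2 [h]; exact mul_inv_cancel e))
    obtain ⟨B₀, hB₀⟩ : ∃ B₀, B₀ = B ⊓ Subgroup.centralizer ({e} : Set G) := ⟨_, rfl⟩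
    have hmem : ∀ g, g ∈ B₀ ↔ g ∈ B ∧ g * e * g⁻¹ = e := fun g => by
      rw [hB₀, Subgroup.mem_inf, Subgroup.mem_centralizer_singleton_iff, mul_inv_eq_iff_eq_mul]
    have hflip : ∀ g ∈ B, ∀ h ∈ B, g ∉ B₀ → h ∉ B₀ → g * h ∈ B₀ := by
      intro g hg h hh hgn hhn
      have h1 := (heig g hg).resolve_left fun hc => hgn ((hmem g).2 ⟨hg, hc⟩)
      have h2 := (heig h hh).resolve_left fun hc => hhn ((hmem h).2 ⟨hh, hc⟩)
      refine (hmem _).2 ⟨mul_mem hg hh, ?_⟩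
      rw [show g * h * e * (g * h)⁻¹ = g * (h * e * h⁻¹) * g⁻¹ by group, h2,
        show g * e⁻¹ * g⁻¹ = (g * e * g⁻¹)⁻¹ by group, h1, inv_inv]
    have hb₁n : b₁ ∉ B₀ := fun h => hene (((hmem b₁).1 h).2.symm.trans heM.2)
    have hB₀B : B₀ ≤ B := hB₀ ▸ inf_le_left
    have hcard₀ : Nat.card B₀ = 2 ^ d := by
      have h2 : B₀.relIndex B = 2 := by
        rw [Subgroup.relIndex, Subgroup.index_eq_two_iff]
        refine ⟨⟨b₁, hb₁⟩, fun g => ?_⟩
        simp only [Subgroup.mem_subgroupOf, Subgroup.coe_mul]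
        by_cases hg : (g : G) ∈ B₀
        · exact Or.inr ⟨hg, fun h => hb₁n (by simpa using mul_mem (inv_mem hg) h)⟩
        · exact Or.inl ⟨hflip g g.2 b₁ hb₁ hg hb₁n, hg⟩
      have h3 := Subgroup.relIndex_mul_relIndex ⊥ B₀ B bot_le hB₀B
      rw [h2, Subgroup.relIndex_bot_left, Subgroup.relIndex_bot_left, hcard, pow_succ] at h3
      omega
    obtain ⟨a, y, hay, hgen⟩ := ih B₀ (fun p hp q hq => hB p (hB₀B hp) q (hB₀B hq))
      (fun p hp => hB2 p (hB₀B hp)) (fun p hp => hBW p (hB₀B hp))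
      (fun p hp => hfaith p (hB₀B hp)) hcard₀
    have haB : ∀ i, a i ∈ B := fun i => hB₀B (hay i).1
    -- refine the vectors to eigenvectors for all of `B`
    have href : ∀ i, ∃ z ∈ W, z ≠ 1 ∧ a i * z * (a i)⁻¹ = z⁻¹ ∧ (∀ j, j ≠ i → a j * z * (a j)⁻¹ = z) ∧
        ∀ g ∈ B, g * z * g⁻¹ = z ∨ g * z * g⁻¹ = z⁻¹ := by
      intro i
      let N : Subgroup G :=
        { carrier := {w | w ∈ W ∧ a i * w * (a i)⁻¹ = w⁻¹ ∧ ∀ j, j ≠ i → a j * w * (a j)⁻¹ = w}
          one_mem' := ⟨one_mem W, by simp, fun j _ => by simp⟩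
          mul_mem' := fun {p q} hp hq => ⟨mul_mem hp.1 hq.1, hinv (a i) (haB i) _ _ hp.1 hq.1 hp.2.1 hq.2.1,
            fun j hj => by
              rw [show a j * (p * q) * (a j)⁻¹ = (a j * p * (a j)⁻¹) * (a j * q * (a j)⁻¹) by group,
                hp.2.2 j hj, hq.2.2 j hj]⟩
          inv_mem' := fun {w} hw => ⟨inv_mem hw.1, by
            rw [show a i * w⁻¹ * (a i)⁻¹ = (a i * w * (a i)⁻¹)⁻¹ by group, hw.2.1],
            fun j hj => by
              rw [show a j * w⁻¹ * (a j)⁻¹ = (a j * w * (a j)⁻¹)⁻¹ by group, hw.2.2 j hj]⟩ }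
      have hsw : ∀ g ∈ B, ∀ h ∈ B, ∀ w : G, h * (g * w * g⁻¹) * h⁻¹ = g * (h * w * h⁻¹) * g⁻¹ := by
        intro g hg h hh w
        calc h * (g * w * g⁻¹) * h⁻¹ = (h * g) * w * (h * g)⁻¹ := by group
          _ = (g * h) * w * (g * h)⁻¹ := by rw [hB h hh g hg]
          _ = _ := by group
      obtain ⟨z, hz, hz1, hzeig⟩ := exists_eigen B N (fun g hg w hw => ⟨hBW g hg w hw.1, by
          rw [hsw g hg _ (haB i), hw.2.1]; group, fun j hj => by
          rw [hsw g hg _ (haB j), hw.2.2 j hj]⟩)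
        (fun p hp q hq => hWc p hp.1 q hq.1) hB hB2
        (e₀ := y i) ⟨(hay i).2.1, (hay i).2.2.2.1, (hay i).2.2.2.2⟩ (hay i).2.2.1
      exact ⟨z, hz.1, hz1, hz.2.1, hz.2.2, hzeig⟩
    choose z hzW hz1 hzi hzj hzB using href
    have hfix : ∀ s : Finset (Fin d), ∃ g ∈ B, g ∉ B₀ ∧ ∀ i ∈ s, g * z i * g⁻¹ = z i := by
      intro s
      induction s using Finset.induction_on with
      | empty => exact ⟨b₁, hb₁, hb₁n, by simp⟩
      | insert i s hi ih' =>
        obtain ⟨g, hg, hgn, hgs⟩ := ih'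
        rcases hzB i g hg with h | h
        · refine ⟨g, hg, hgn, fun k hk => ?_⟩
          rcases Finset.mem_insert.1 hk with rfl | hk
          exacts [h, hgs k hk]
        · refine ⟨g * a i, mul_mem hg (haB i), fun hc => hgn ?_, fun k hk => ?_⟩
          · simpa using mul_mem hc (inv_mem (hay i).1)
          · rw [show g * a i * z k * (g * a i)⁻¹ = g * (a i * z k * (a i)⁻¹) * g⁻¹ by group]
            rcases Finset.mem_insert.1 hk with rfl | hk
            · rw [hzi, show g * (z k)⁻¹ * g⁻¹ = (g * z k * g⁻¹)⁻¹ by group, h, inv_inv]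
            · rw [hzj k i (fun hik => hi (hik.symm ▸ hk)), hgs k hk]
    obtain ⟨g, hg, hgn, hgz⟩ := hfix Finset.univ
    refine ⟨Fin.cons g a, Fin.cons e z, ?_, ?_⟩
    · intro i
      refine Fin.cases ?_ (fun k => ?_) i
      · simp only [Fin.cons_zero]
        refine ⟨hg, heW, he1, (heig g hg).resolve_left fun hc => hgn ((hmem g).2 ⟨hg, hc⟩), fun j hj => ?_⟩
        obtain ⟨l, rfl⟩ := Fin.exists_succ_eq.2 hj
        simp only [Fin.cons_succ]
        exact ((hmem _).1 (hay l).1).2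
      · simp only [Fin.cons_succ]
        refine ⟨haB k, hzW k, hz1 k, hzi k, fun j hj => ?_⟩
        induction j using Fin.cases with
        | zero => simp only [Fin.cons_zero]; exact hgz k (Finset.mem_univ k)
        | succ l => simp only [Fin.cons_succ]; exact hzj k l fun h => hj (by rw [h])
    · rw [Fin.range_cons]
      refine le_antisymm ((Subgroup.closure_le B).2 ?_) fun h hh => ?_
      · rintro _ (rfl | ⟨i, rfl⟩)
        exacts [hg, haB i]
      · have hle : B₀ ≤ Subgroup.closure (insert g (Set.range a)) :=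
          hgen ▸ Subgroup.closure_mono (Set.subset_insert _ _)
        by_cases hh0 : h ∈ B₀
        · exact hle hh0
        · have := mul_mem (inv_mem (Subgroup.subset_closure (Set.mem_insert g (Set.range a)))) (hle (hflip g hg h hh hgn hh0))
          simpa using this

/-- Let G be finite, L ≤ G solvable of odd order, and A an elementary abelian 2-subgroup of order 2^d (d ≥ 1) normalizing L with C_A(L) = 1. Then there are subgroups A_1, …, A_d of A of order 2 generating A and subgroups L_1, …, L_d of L such that each A_i ⊔ L_i is dihedral of order 2 n_i with n_i odd and at least 3, and A_i ⊔ L_i commutes elementwise with A_j ⊔ L_j for i ≠ j. -/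
theorem result {G : Type*} [Group G] [Finite G] (L A : Subgroup G) (hLs : Group.IsSolvable ↥L) (hLodd : Odd (Nat.card ↥L)) (hA : Cfsg.IsElementaryAbelian 2 A) (d : ℕ) (hd : 1 ≤ d) (hAd : Nat.card ↥A = 2 ^ d) (hAL : A ≤ Subgroup.normalizer (L : Set G)) (hfaith : A ⊓ Subgroup.centralizer (L : Set G) = ⊥) : ∃ (Ai : Fin d → Subgroup G) (Li : Fin d → Subgroup G) (n : Fin d → ℕ), (∀ i, Ai i ≤ A ∧ Nat.card ↥(Ai i) = 2 ∧ Li i ≤ L ∧ Odd (n i) ∧ 3 ≤ n i ∧ Nonempty (↥(Ai i ⊔ Li i) ≃* DihedralGroup (n i))) ∧ (⨆ i, Ai i) = A ∧ ∀ i j, i ≠ j → ∀ x ∈ Ai i ⊔ Li i, ∀ y ∈ Ai j ⊔ Li j, x * y = y * x := by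
  classical
  have hAc : ∀ a ∈ A, ∀ b ∈ A, a * b = b * a := fun a ha b hb =>
    congrArg Subtype.val (hA.1.is_comm.comm ⟨a, ha⟩ ⟨b, hb⟩)
  have hA2 : ∀ a ∈ A, a * a = 1 := fun a ha => by rw [← sq]; exact hA.2 a ha
  obtain ⟨F₁, hF₁⟩ : ∃ F₁, F₁ = Cfsg.fittingSubgroup ↥L := ⟨_, rfl⟩
  haveI hF₁n : F₁.Normal := hF₁ ▸ Cfsg.Agent.Solv.fittingSubgroup_normal
  haveI hF₁c : F₁.Characteristic := hF₁ ▸ Cfsg.Agent.Solv.fitting_characteristic
  haveI hF₁nil : Group.IsNilpotent ↥F₁ := hF₁ ▸ Cfsg.Agent.Solv.fittingSubgroup_nilpotent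
  obtain ⟨F, hF⟩ : ∃ F, F = F₁.map L.subtype := ⟨_, rfl⟩
  have hFL : F ≤ L := hF ▸ Subgroup.map_subtype_le _
  haveI hFnil : Group.IsNilpotent ↥F := by
    rw [hF]; exact Group.nilpotent_of_mulEquiv (F₁.equivMapOfInjective L.subtype L.subtype_injective)
  have hFnorm : Subgroup.normalizer (L : Set G) ≤ Subgroup.normalizer (F : Set G) := by
    intro g hg
    refine mem_normalizer_of_cj_le ?_
    rintro _ ⟨x, hx, rfl⟩
    rw [hF] at hx ⊢
    obtain ⟨u, hu, rfl⟩ := hx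
    exact ⟨Subgroup.normalizerMonoidHom L ⟨g, hg⟩ u,
      Subgroup.characteristic_iff_le_comap.1 hF₁c (Subgroup.normalizerMonoidHom L ⟨g, hg⟩) hu, rfl⟩
  have hconj : ∀ {H : Subgroup G} {g : G}, g ∈ Subgroup.normalizer (H : Set G) → ∀ x ∈ H,
      g * x * g⁻¹ ∈ H := fun hg x hx => (Subgroup.mem_normalizer_iff.1 hg x).1 hx
  obtain ⟨N, hN⟩ : ∃ N, N = F ⊔ A := ⟨_, rfl⟩
  -- maximal abelian subgroup normalized by `F` and `A`
  obtain ⟨W, ⟨hWF, hWc, hWn⟩, hmax⟩ := Set.Finite.exists_maximalFor (fun W : Subgroup G => Nat.card W)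
    {W : Subgroup G | W ≤ F ∧ (∀ x ∈ W, ∀ y ∈ W, x * y = y * x) ∧ N ≤ Subgroup.normalizer (W : Set G)}
    (Set.toFinite _) ⟨⊥, bot_le, by simp, by rw [Subgroup.normalizer_eq_top]; exact le_top⟩
  have hFN : F ≤ N := hN ▸ le_sup_left
  have hAN : A ≤ N := hN ▸ le_sup_right
  have hself : ∀ c ∈ F, (∀ w ∈ W, c * w = w * c) → c ∈ W := by
    intro c₀ hc₀ hc₀w
    by_contra hc₀W
    -- an element of `C_F(W) ∖ W` central modulo `W`
    obtain ⟨e₁, he₁F, he₁w, he₁W, he₁c⟩ : ∃ e ∈ F, (∀ w ∈ W, e * w = w * e) ∧ e ∉ W ∧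
        ∀ f ∈ F, f * e * f⁻¹ * e⁻¹ ∈ W := by
      by_contra hcon
      push Not at hcon
      have hdesc : ∀ i : ℕ, ∃ e : ↥F, e ∈ Subgroup.lowerCentralSeries ⊤ i ∧
          (∀ w ∈ W, (e : G) * w = w * e) ∧ (e : G) ∉ W := by
        intro i
        induction i with
        | zero => exact ⟨⟨c₀, hc₀⟩, by simp, hc₀w, hc₀W⟩
        | succ i ihi =>
          obtain ⟨e, hei, hew, heW⟩ := ihi
          obtain ⟨f, hf, hfW⟩ := hcon e e.2 hew heW
          refine ⟨⁅e, ⟨f, hf⟩⁆⁻¹, inv_mem (Subgroup.commutator_mem_commutator hei (Subgroup.mem_top _)),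
            fun w hw => ?_, fun h => hfW (by simpa [commutatorElement_def, mul_assoc] using h)⟩
          have hfw : f⁻¹ * w * f ∈ W := by simpa using hconj (inv_mem (hWn (hFN hf))) w hw
          show ((e : G) * f * (e : G)⁻¹ * f⁻¹)⁻¹ * w = w * ((e : G) * f * (e : G)⁻¹ * f⁻¹)⁻¹
          have h2 : (e : G)⁻¹ * w = w * (e : G)⁻¹ := by
            rw [inv_mul_eq_iff_eq_mul, ← mul_assoc, hew w hw, mul_inv_cancel_right]
          calc ((e : G) * f * (e : G)⁻¹ * f⁻¹)⁻¹ * w = f * (e : G) * f⁻¹ * ((e : G)⁻¹ * w) := by group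
            _ = f * (e : G) * (f⁻¹ * w * f) * f⁻¹ * (e : G)⁻¹ := by rw [h2]; group
            _ = f * ((f⁻¹ * w * f) * (e : G)) * f⁻¹ * (e : G)⁻¹ := by rw [← hew _ hfw]; group
            _ = _ := by group
      obtain ⟨n, hn⟩ := Subgroup.nilpotent_iff_lowerCentralSeries.1 hFnil
      obtain ⟨e, he, -, heW⟩ := hdesc n
      rw [hn, Subgroup.mem_bot] at he
      exact heW (by rw [he]; exact one_mem W)
    let M : Subgroup G :=
      { carrier := {x | x ∈ F ∧ (∀ w ∈ W, x * w = w * x) ∧ ∀ f ∈ F, f * x * f⁻¹ * x⁻¹ ∈ W}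
        one_mem' := ⟨one_mem F, fun w _ => by simp, fun f _ => by simp⟩
        mul_mem' := fun {x y} hx hy => ⟨mul_mem hx.1 hy.1,
          fun w hw => by rw [mul_assoc, hy.2.1 w hw, ← mul_assoc, hx.2.1 w hw, mul_assoc],
          fun f hf => by
            rw [show f * (x * y) * f⁻¹ * (x * y)⁻¹ = (f * x * f⁻¹ * x⁻¹) * (x * (f * y * f⁻¹ * y⁻¹) * x⁻¹) by group]
            exact mul_mem (hx.2.2 f hf) (hconj (hWn (hFN hx.1)) _ (hy.2.2 f hf))⟩
        inv_mem' := fun {x} hx => ⟨inv_mem hx.1,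
          fun w hw => by rw [inv_mul_eq_iff_eq_mul, ← mul_assoc, hx.2.1 w hw, mul_inv_cancel_right],
          fun f hf => by
            rw [show f * x⁻¹ * f⁻¹ * x⁻¹⁻¹ = x⁻¹ * (f * x * f⁻¹ * x⁻¹)⁻¹ * x⁻¹⁻¹ by group]
            exact hconj (inv_mem (hWn (hFN hx.1))) _ (inv_mem (hx.2.2 f hf))⟩ }
    obtain ⟨R, hR⟩ : ∃ R, R = Subgroup.normalizer (W : Set G) := ⟨_, rfl⟩
    haveI : (W.subgroupOf R).Normal := hR ▸ Subgroup.normal_in_normalizer
    let π := QuotientGroup.mk' (W.subgroupOf R)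
    have hNR : N ≤ R := hR ▸ hWn
    have hMR : M ≤ R := fun x hx => hNR (hFN hx.1)
    have hAR : A ≤ R := hAN.trans hNR
    have hπ : ∀ (u v : G) (hu : u ∈ R) (hv : v ∈ R), π ⟨u, hu⟩ = π ⟨v, hv⟩ ↔ u⁻¹ * v ∈ W :=
      fun u v hu hv => QuotientGroup.eq
    have hAM : ∀ a ∈ A, ∀ x ∈ M, a * x * a⁻¹ ∈ M := by
      intro a ha x hx
      have haW : ∀ w ∈ W, a⁻¹ * w * a ∈ W := fun w hw => by
        simpa using hconj (inv_mem (hWn (hAN ha))) w hw
      refine ⟨hconj (hFnorm (hAL ha)) x hx.1, fun w hw => ?_, fun f hf => ?_⟩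
      · calc a * x * a⁻¹ * w = a * (x * (a⁻¹ * w * a)) * a⁻¹ := by group
          _ = a * ((a⁻¹ * w * a) * x) * a⁻¹ := by rw [hx.2.1 _ (haW w hw)]
          _ = _ := by group
      · have hf' : a⁻¹ * f * a ∈ F := by simpa using hconj (inv_mem (hFnorm (hAL ha))) f hf
        rw [show f * (a * x * a⁻¹) * f⁻¹ * (a * x * a⁻¹)⁻¹ =
          a * ((a⁻¹ * f * a) * x * (a⁻¹ * f * a)⁻¹ * x⁻¹) * a⁻¹ by group]
        exact hconj (hWn (hAN ha)) _ (hx.2.2 _ hf')
    obtain ⟨q, hq, hq1, hqe⟩ := exists_eigen ((A.subgroupOf R).map π) ((M.subgroupOf R).map π)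
      (by
        rintro _ ⟨a, ha, rfl⟩ _ ⟨x, hx, rfl⟩
        exact ⟨a * x * a⁻¹, hAM a ha x hx, by simp⟩)
      (by
        rintro _ ⟨x, hx, rfl⟩ _ ⟨y, hy, rfl⟩
        rw [← map_mul, ← map_mul]
        refine ((hπ _ _ (mul_mem y.2 x.2) (mul_mem x.2 y.2)).2 ?_).symm
        have := hconj (inv_mem (hWn (hFN (mul_mem hy.1 hx.1)))) _ (hy.2.2 x hx.1)
        simpa [mul_assoc] using this)
      (by
        rintro _ ⟨a, ha, rfl⟩ _ ⟨b, hb, rfl⟩
        rw [← map_mul, ← map_mul]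
        exact congrArg π (Subtype.ext (hAc a ha b hb)))
      (by
        rintro _ ⟨a, ha, rfl⟩
        rw [← map_mul, show a * a = 1 from Subtype.ext (hA2 a ha), map_one])
      (e₀ := π ⟨e₁, hNR (hFN he₁F)⟩) ⟨_, ⟨he₁F, he₁w, he₁c⟩, rfl⟩
      (fun h => he₁W ((QuotientGroup.eq_one_iff (N := W.subgroupOf R) (⟨e₁, hNR (hFN he₁F)⟩ : ↥R)).1 h))
    obtain ⟨⟨e, heR⟩, heM, rfl⟩ := hq
    have heW : e ∉ W := fun h => hq1 ((QuotientGroup.eq_one_iff (N := W.subgroupOf R) (⟨e, heR⟩ : ↥R)).2 h)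
    obtain ⟨heF, hew, hec⟩ := (heM : e ∈ M)
    obtain ⟨W', hW'⟩ : ∃ W', W' = W ⊔ Subgroup.zpowers e := ⟨_, rfl⟩
    have hWW' : W ≤ W' := hW' ▸ le_sup_left
    have heW' : e ∈ W' := hW' ▸ Subgroup.mem_sup_right (Subgroup.mem_zpowers e)
    have hW'c : ∀ x ∈ W', ∀ y ∈ W', x * y = y * x := by
      have hle : W' ≤ Subgroup.centralizer (W' : Set G) := by
        have h1 : W' = Subgroup.closure ((W : Set G) ∪ {e}) := by
          rw [hW', Subgroup.closure_union, Subgroup.closure_eq, Subgroup.zpowers_eq_closure]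
        rw [h1, Subgroup.centralizer_closure, Subgroup.closure_le]
        rintro x (hx | rfl) y (hy | rfl)
        · exact hWc y hy x hx
        · exact hew x hx
        · exact (hew y hy).symm
        · rfl
      exact fun x hx y hy => (Subgroup.mem_centralizer_iff.1 (hle hx) y hy).symm
    have hW'n : N ≤ Subgroup.normalizer (W' : Set G) := by
      have key : ∀ g ∈ N, g * e * g⁻¹ ∈ W' → g ∈ Subgroup.normalizer (W' : Set G) := by
        intro g hg hge
        refine mem_normalizer_of_cj_le ?_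
        rw [hW', cj, Subgroup.map_sup, sup_le_iff, MonoidHom.map_zpowers, Subgroup.zpowers_le, ← hW']
        refine ⟨?_, hge⟩
        rintro _ ⟨w, hw, rfl⟩
        exact hWW' (hconj (hWn hg) w hw)
      rw [hN]
      refine sup_le (fun f hf => key f (hFN hf) ?_) (fun a ha => key a (hAN ha) ?_)
      · simpa [mul_assoc] using mul_mem (hWW' (hec f hf)) heW'
      · rcases hqe _ ⟨⟨a, hAR ha⟩, ha, rfl⟩ with h | h
        · rw [← map_inv, ← map_mul, ← map_mul, eq_comm] at h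
          have h2 : e⁻¹ * (a * e * a⁻¹) ∈ W := (hπ _ _ heR _).1 h
          simpa [mul_assoc] using mul_mem heW' (hWW' h2)
        · rw [← map_inv, ← map_mul, ← map_mul, ← map_inv, eq_comm] at h
          have h2 : e⁻¹⁻¹ * (a * e * a⁻¹) ∈ W := (hπ _ _ (inv_mem heR) _).1 h
          simpa [mul_assoc] using mul_mem (inv_mem heW') (hWW' h2)
    have hle : W' ≤ F := hW' ▸ sup_le hWF ((Subgroup.zpowers_le).2 heF)
    have := hmax ⟨hle, hW'c, hW'n⟩ (Subgroup.card_le_of_le hWW')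
    exact heW (Subgroup.eq_of_le_of_card_ge hWW' this ▸ heW')
  have hoddle : ∀ H : Subgroup G, H ≤ L → Odd (Nat.card H) := fun H hH =>
    Odd.of_dvd_nat hLodd (Subgroup.card_dvd_of_le hH)
  have hWodd := hoddle W (hWF.trans hFL)
  have hfW : ∀ a ∈ A, (∀ w ∈ W, a * w * a⁻¹ = w) → a = 1 := by
    intro a ha haw
    have ha2 := hA2 a ha
    have hcomm : ∀ {H : Subgroup G}, H ≤ L → (∀ h ∈ H, a * h * a⁻¹ = h) → ∀ g : G,
        g⁻¹ * (a * g * a⁻¹) ∈ H → a * g * a⁻¹ = g := by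
      intro H hH hfix g hg
      have h1 := hfix _ hg
      have h2 : a * (g⁻¹ * (a * g * a⁻¹)) * a⁻¹ = (g⁻¹ * (a * g * a⁻¹))⁻¹ :=
        calc a * (g⁻¹ * (a * g * a⁻¹)) * a⁻¹ = (a * g * a⁻¹)⁻¹ * ((a * a) * g * (a * a)⁻¹) := by group
          _ = (a * g * a⁻¹)⁻¹ * g := by rw [ha2]; group
          _ = _ := by group
      rw [h1] at h2
      have h3 := eq_one_of_odd (hoddle H hH) hg (by nth_rw 2 [h2]; exact mul_inv_cancel _)
      exact (inv_mul_eq_one.1 h3).symm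
    have hF' : ∀ f ∈ F, a * f * a⁻¹ = f := fun f hf => by
      refine hcomm (hWF.trans hFL) haw f (hself _ (mul_mem (inv_mem hf) (hconj (hFnorm (hAL ha)) f hf))
        fun w hw => ?_)
      have h1 : a * (f * w * f⁻¹) * a⁻¹ = f * w * f⁻¹ := haw _ (hconj (hWn (hFN hf)) w hw)
      have h4 : a * f * a⁻¹ * w = a * (f * w * f⁻¹) * a⁻¹ * (a * f * a⁻¹) := by
        nth_rw 1 [← haw w hw]; group
      rw [mul_assoc, h4, h1]; group
    have hL' : ∀ l ∈ L, a * l * a⁻¹ = l := fun l hl => by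
      refine hcomm hFL hF' l ?_
      have hmem : l⁻¹ * (a * l * a⁻¹) ∈ L := mul_mem (inv_mem hl) (hconj (hAL ha) l hl)
      have hc : (⟨_, hmem⟩ : ↥L) ∈ F₁ := by
        rw [hF₁]
        refine Cfsg.Agent.Solv.centralizer_fitting_le hLs (Subgroup.mem_centralizer_iff.2 ?_)
        rintro ⟨f, hfL⟩ hf
        have hfF : f ∈ F := hF ▸ ⟨⟨f, hfL⟩, hF₁ ▸ hf, rfl⟩
        refine Subtype.ext ?_
        show f * (l⁻¹ * (a * l * a⁻¹)) = l⁻¹ * (a * l * a⁻¹) * f
        have hlf : l * f * l⁻¹ ∈ F := hconj (hFnorm (Subgroup.le_normalizer hl)) f hfF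
        have h1 : a * (l * f * l⁻¹) * a⁻¹ = l * f * l⁻¹ := hF' _ hlf
        have h4 : a * l * a⁻¹ * f = a * (l * f * l⁻¹) * a⁻¹ * (a * l * a⁻¹) := by
          nth_rw 1 [← hF' f hfF]; group
        rw [mul_assoc l⁻¹, h4, h1]; group
      exact hF ▸ ⟨_, hc, rfl⟩
    have : a ∈ A ⊓ Subgroup.centralizer (L : Set G) :=
      Subgroup.mem_inf.2 ⟨ha, Subgroup.mem_centralizer_iff.2 fun l hl =>
        (mul_inv_eq_iff_eq_mul.1 (hL' l hl)).symm⟩
    rwa [hfaith, Subgroup.mem_bot] at this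
  obtain ⟨a, x, hax, hgen⟩ := exists_dual W hWodd hWc d A hAc hA2
    (fun b hb w hw => hconj (hWn (hAN hb)) w hw) hfW hAd
  have haA : ∀ i, a i ∈ A := fun i => (hax i).1
  have hxW : ∀ i, x i ∈ W := fun i => (hax i).2.1
  have hane : ∀ i, a i ≠ 1 := fun i h => by
    have h1 := (hax i).2.2.2.1
    rw [h] at h1
    simp only [one_mul, inv_one, mul_one] at h1
    exact (hax i).2.2.1 (eq_one_of_odd hWodd (hxW i) (by nth_rw 2 [h1]; exact mul_inv_cancel _))
  have hao : ∀ i, orderOf (a i) = 2 := fun i => orderOf_eq_prime (by rw [sq]; exact hA2 _ (haA i)) (hane i)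
  refine ⟨fun i => Subgroup.zpowers (a i), fun i => Subgroup.zpowers (x i), fun i => orderOf (x i),
    fun i => ?_, ?_, fun i j hij u hu v hv => ?_⟩
  · obtain ⟨-, -, hx1, hinv, -⟩ := hax i
    have hodd : Odd (orderOf (x i)) := by
      refine Odd.of_dvd_nat hWodd ?_
      rw [← Subgroup.orderOf_mk (x i) (hxW i)]
      exact orderOf_dvd_natCard _
    refine ⟨(Subgroup.zpowers_le).2 (haA i), by rw [Nat.card_zpowers, hao i],
      (Subgroup.zpowers_le).2 (hFL (hWF (hxW i))), hodd, ?_, ?_⟩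
    · have h0 : orderOf (x i) ≠ 1 := fun h => hx1 (orderOf_eq_one_iff.1 h)
      obtain ⟨k, hk⟩ := hodd
      show 3 ≤ orderOf (x i)
      omega
    · have hax2 : orderOf (a i * x i) = 2 := by
        refine orderOf_eq_prime ?_ fun h => ?_
        · rw [sq]
          calc a i * x i * (a i * x i) = (a i * x i * (a i)⁻¹) * (a i * a i) * x i := by group
            _ = 1 := by rw [hinv, hA2 _ (haA i)]; group
        · have hxA : x i = (a i)⁻¹ := eq_inv_of_mul_eq_one_right h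
          exact hx1 (eq_one_of_odd hWodd (hxW i) (by
            rw [hxA, ← mul_inv_rev, hA2 _ (haA i), inv_one]))
      have hne : a i ≠ a i * x i := fun h => hx1 (mul_left_cancel (a := a i) (by rw [← h, mul_one]))
      obtain ⟨eD⟩ := closure_pair_equiv_dihedral (hao i) hax2 hne
      have hprod : a i * (a i * x i) = x i := by rw [← mul_assoc, hA2 _ (haA i), one_mul]
      rw [hprod] at eD
      have hset : Subgroup.zpowers (a i) ⊔ Subgroup.zpowers (x i) =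
          Subgroup.closure ({a i, a i * x i} : Set G) := by
        refine le_antisymm (sup_le ((Subgroup.zpowers_le).2 (Subgroup.subset_closure (by simp)))
          ((Subgroup.zpowers_le).2 ?_)) ((Subgroup.closure_le _).2 ?_)
        · have := mul_mem (Subgroup.subset_closure (by simp) : a i ∈ Subgroup.closure ({a i, a i * x i} : Set G))
            (Subgroup.subset_closure (by simp) : a i * x i ∈ Subgroup.closure ({a i, a i * x i} : Set G))
          rwa [hprod] at this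
        · rintro u (rfl | rfl)
          · exact Subgroup.mem_sup_left (Subgroup.mem_zpowers _)
          · exact mul_mem (Subgroup.mem_sup_left (Subgroup.mem_zpowers _))
              (Subgroup.mem_sup_right (Subgroup.mem_zpowers _))
      exact ⟨(MulEquiv.subgroupCongr hset).trans eD⟩
  · refine le_antisymm (iSup_le fun i => (Subgroup.zpowers_le).2 (haA i)) ?_
    rw [← hgen, Subgroup.closure_le]
    rintro _ ⟨i, rfl⟩
    exact Subgroup.mem_iSup_of_mem i (Subgroup.mem_zpowers (a i))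
  · have h1 : ∀ k l, k ≠ l → a k * x l = x l * a k := fun k l hkl =>
      mul_inv_eq_iff_eq_mul.1 ((hax l).2.2.2.2 k hkl)
    have hle : Subgroup.zpowers (a i) ⊔ Subgroup.zpowers (x i) ≤
        Subgroup.centralizer ((Subgroup.zpowers (a j) ⊔ Subgroup.zpowers (x j) : Subgroup G) : Set G) := by
      rw [Subgroup.zpowers_eq_closure, Subgroup.zpowers_eq_closure, Subgroup.zpowers_eq_closure,
        Subgroup.zpowers_eq_closure, ← Subgroup.closure_union, ← Subgroup.closure_union,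
        Subgroup.centralizer_closure, Subgroup.closure_le]
      rintro u (rfl | rfl) v (rfl | rfl)
      · exact hAc _ (haA j) _ (haA i)
      · exact (h1 i j hij).symm
      · exact h1 j i hij.symm
      · exact hWc _ (hxW j) _ (hxW i)
    exact (Subgroup.mem_centralizer_iff.1 (hle hu) v hv).symm

end Cfsg.Agent.S1349
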