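import Cfsg.Statements.S1350
import Cfsg.Agent.Lib.OddLocal.SigmaStructure

set_option autoImplicit false
open Cfsg

namespace Cfsg.Agent.S1350

theorem result {G : Type*} [Group G] [Finite G] (hG : Cfsg.IsMinSimpleOddOrder G)
    (M : Subgroup G) (hM : IsCoatom M) :
    Cfsg.IsPiHallOf (Cfsg.sigma M) (Cfsg.sigmaCore M) M ∧ Cfsg.IsPiHall (Cfsg.sigma M) (Cfsg.sigmaCore M) ∧
      ∀ N : Subgroup G, M ≤ Subgroup.normalizer (N : Set G) → Cfsg.IsPiHallOf (Cfsg.sigma M) N M →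
        N = Cfsg.sigmaCore M := by
  refine ⟨(Cfsg.Agent.OddLocal.Sig.sigmaCore_hall hG hM).1, (Cfsg.Agent.OddLocal.Sig.sigmaCore_hall hG hM).2,
    fun N hN h => ?_⟩
  obtain ⟨hNM, hNp, hNi⟩ := h
  haveI : (N.subgroupOf M).Normal := Subgroup.normal_subgroupOf_of_le_normalizer hN
  have hle : N ≤ sigmaCore M := by
    rw [← Subgroup.map_subgroupOf_eq_of_le hNM]
    refine Subgroup.map_mono (Cfsg.Agent.OddLocal.Sig.le_piCore _ fun q hq hd => hNp q hq ?_)
    rwa [Nat.card_congr (Subgroup.subgroupOfEquivOfLe hNM).toEquiv] at hd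
  refine le_antisymm hle (Subgroup.relIndex_eq_one.1 (by_contra fun hne => ?_))
  obtain ⟨q, hq, hd⟩ := Nat.exists_prime_and_dvd hne
  refine hNi q hq ((Cfsg.Agent.OddLocal.Sig.sigmaCore_hall hG hM).1.2.1 q hq
    (hd.trans (Subgroup.relIndex_dvd_card _ _))) ?_
  rw [← Subgroup.relIndex_mul_relIndex N (sigmaCore M) M hle
    (Cfsg.Agent.OddLocal.Sig.sigmaCore_hall hG hM).1.1]
  exact hd.mul_right _

end Cfsg.Agent.S1350
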