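import Cfsg.Statements.S1351
import Cfsg.Agent.Lib.OddLocal.KappaEmbedding

set_option autoImplicit false
open Cfsg

namespace Cfsg.Agent.S1351

theorem result {G : Type*} [Group G] [Finite G] (hG : Cfsg.IsMinSimpleOddOrder G)
    (M : Subgroup G) (hM : IsCoatom M) :
    (∃ K : Subgroup G, Cfsg.IsPiHallOf (Cfsg.kappa M) K M) ∧
      ∀ K : Subgroup G, Cfsg.IsPiHallOf (Cfsg.kappa M) K M → IsCyclic K := by
  refine ⟨?_, fun K hK => Cfsg.Agent.OddLocal.Kappa.hall_cyclic hG hM hK⟩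
  obtain ⟨K, hK, -⟩ := Cfsg.Agent.OddLocal.Kappa.exists_hall_ge hG hM.1 (Cfsg.kappa M) (bot_le : (⊥ : Subgroup G) ≤ M)
    (fun p hp hd => by rw [Subgroup.card_bot] at hd; exact absurd hd hp.not_dvd_one)
  exact ⟨K, hK⟩

end Cfsg.Agent.S1351
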