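import Cfsg.Statements.S1352
import Cfsg.Agent.Lib.OddLocal.KappaDecomp

set_option autoImplicit false
open Cfsg

namespace Cfsg.Agent.S1352

theorem result {G : Type*} [Group G] [Finite G] (hG : Cfsg.IsMinSimpleOddOrder G)
    (M : Subgroup G) (hM : IsCoatom M) (K : Subgroup G)
    (hKc : IsCyclic K) (hK : Cfsg.IsPiHallOf (Cfsg.kappa M) K M) :
    (∃ U : Subgroup G, Cfsg.IsSigmaDecomposition M K U) ∧
      ∀ U : Subgroup G, Cfsg.IsSigmaDecomposition M K U → M ≤ Subgroup.normalizer ((U ⊔ Cfsg.sigmaCore M : Subgroup G) : Set G) := by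
  exact ⟨Cfsg.Agent.OddLocal.Kappa.exists_decomp hG hM hK hKc,
    fun U hKU => Cfsg.Agent.OddLocal.Decomp.le_normalizer_sup hKU⟩

end Cfsg.Agent.S1352
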