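import Cfsg.Statements.S1353
import Cfsg.Agent.Lib.OddLocal.KappaDecomp

set_option autoImplicit false
open Cfsg

namespace Cfsg.Agent.S1353

theorem result {G : Type*} [Group G] [Finite G] (hG : Cfsg.IsMinSimpleOddOrder G)
    (M : Subgroup G) (hM : IsCoatom M) (K U : Subgroup G) (hKU : Cfsg.IsSigmaDecomposition M K U) :
    ∀ k ∈ K, k ≠ 1 → U ⊓ Subgroup.centralizer ({k} : Set G) = ⊥ := by
  intro k hk hk1
  exact eq_bot_iff.2 fun u hu => Subgroup.mem_bot.2 (Cfsg.Agent.OddLocal.Kappa.decomp_fpf hG hM hKU k hk hk1 u hu.1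
    (Subgroup.mem_centralizer_singleton_iff.1 hu.2))

end Cfsg.Agent.S1353
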