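import Cfsg.Statements.S1354
import Cfsg.Agent.Lib.OddLocal.KappaDecomp

set_option autoImplicit false
open Cfsg

namespace Cfsg.Agent.S1354

theorem result {G : Type*} [Group G] [Finite G] (hG : Cfsg.IsMinSimpleOddOrder G)
    (M : Subgroup G) (hM : IsCoatom M) (K : Subgroup G)
    (hKc : IsCyclic K) (hK : Cfsg.IsPiHallOf (Cfsg.kappa M) K M) :
    Cfsg.sigmaCore M ⊓ Subgroup.centralizer (K : Set G) ≠ ⊥ ∧
      (K ≠ ⊥ → ∀ k ∈ K, k ≠ 1 →
        M ⊓ Subgroup.centralizer ({k} : Set G) = K ⊔ (Cfsg.sigmaCore M ⊓ Subgroup.centralizer (K : Set G))) := by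
  refine ⟨?_, fun hK1 k hk hk1 => ?_⟩
  · by_cases hK1 : K = ⊥
    · subst hK1
      refine fun h => Cfsg.Agent.OddLocal.FitParts.sigmaCore_ne_bot hG hM (le_bot_iff.1 ?_)
      rw [← h]
      refine le_inf le_rfl fun x _ => Subgroup.mem_centralizer_iff.2 fun y hy => ?_
      rw [Subgroup.mem_bot.1 hy, one_mul, mul_one]
    · exact Cfsg.Agent.OddLocal.Kappa.star_ne_bot hG hM hK hK1
  · obtain ⟨E, U, hF⟩ := Cfsg.Agent.OddLocal.Kappa.exists_frame hG hM hK hK1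
    exact Cfsg.Agent.OddLocal.Kappa.centralizer_eq hG hM hK hF
      (Cfsg.Agent.OddLocal.Kappa.comm_of_cyclic hKc) hk hk1

end Cfsg.Agent.S1354
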