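import Cfsg.Statements.S1356
import Cfsg.Agent.Lib.OddLocal.KappaFittingEq

set_option autoImplicit false
open Cfsg

namespace Cfsg.Agent.S1356

theorem result {G : Type*} [Group G] [Finite G] (hG : Cfsg.IsMinSimpleOddOrder G)
    (M : Subgroup G) (hM : IsCoatom M) :
    ⁅⁅M, M⁆, ⁅M, M⁆⁆ ≤ Cfsg.fittingOf M ∧
      Cfsg.fittingOf M = (M ⊓ Subgroup.centralizer (Cfsg.fittingHallOf M : Set G)) ⊔ Cfsg.fittingHallOf M ∧
      ((Cfsg.kappa M).Nonempty → Cfsg.fittingOf M ≤ ⁅M, M⁆) := by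
  exact ⟨Cfsg.Agent.OddLocal.Kappa.second_le_fitting hG hM, Cfsg.Agent.OddLocal.Kappa.fitting_eq hG hM,
    Cfsg.Agent.OddLocal.Kappa.fitting_le_derived hG hM⟩

end Cfsg.Agent.S1356
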