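import Cfsg.Statements.S1357
import Cfsg.Agent.Lib.OddLocal.KappaNonnilpotent

set_option autoImplicit false
open Cfsg

namespace Cfsg.Agent.S1357

theorem result {G : Type*} [Group G] [Finite G] (hG : Cfsg.IsMinSimpleOddOrder G)
    (M : Subgroup G) (hM : IsCoatom M) (K U : Subgroup G) (hKU : Cfsg.IsSigmaDecomposition M K U) (hne : Cfsg.fittingHallOf M ≠ Cfsg.sigmaCore M) :
    U = ⊥ ∧ Cfsg.IsTISubset (Cfsg.fittingOf M : Set G) ∧ (Nat.card K).Prime := by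
  obtain ⟨hU, hK1, Q, D, H₁, hS⟩ := Cfsg.Agent.OddLocal.Kappa.exists_split hG hM hKU hne
  exact ⟨hU, hS.ti hG hM hKU hK1 hne, (hS.facts hG hM hKU hK1 hne).1⟩

end Cfsg.Agent.S1357
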