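import Cfsg.Statements.S1358
import Cfsg.Agent.Lib.OddLocal.Decomposition

set_option autoImplicit false
open Cfsg

namespace Cfsg.Agent.S1358

theorem result {G : Type*} [Group G] [Finite G] (hG : Cfsg.IsMinSimpleOddOrder G)
    (M : Subgroup G) (hM : IsCoatom M) (K U : Subgroup G) (hKU : Cfsg.IsSigmaDecomposition M K U) :
    ∀ (p : ℕ), p.Prime → ∀ P : Sylow p U, IsMulCommutative (P : Subgroup U) ∧ Cfsg.PRankLE p 2 (P : Subgroup U) := by
  intro p hp P
  haveI := Fact.mk hp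
  set Q := (P : Subgroup U).map U.subtype with hQ
  have hQU : Q ≤ U := Subgroup.map_subtype_le _
  have hQM : Q ≤ M := hQU.trans (Cfsg.Agent.OddLocal.Decomp.U_le hKU)
  by_cases hd : p ∣ Nat.card U
  · have hσ := (Cfsg.Agent.OddLocal.Decomp.U_pi hG hM hKU hp hd).1
    have hab := Cfsg.Agent.OddLocal.TauTwo.pgroup_abelian hG hM hσ (P.isPGroup'.map U.subtype) hQM
    refine ⟨⟨⟨fun a b => Subtype.ext (Subtype.ext (congrArg Subtype.val
      (hab.is_comm.comm ⟨_, Subgroup.mem_map_of_mem U.subtype a.2⟩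
        ⟨_, Subgroup.mem_map_of_mem U.subtype b.2⟩) :))⟩⟩, ?_⟩
    exact Cfsg.Agent.Solv.RankTwo.prankLE_of_injective
      ((Subgroup.inclusion (Cfsg.Agent.OddLocal.Decomp.U_le hKU)).comp (P : Subgroup U).subtype)
      ((Subgroup.inclusion_injective (Cfsg.Agent.OddLocal.Decomp.U_le hKU)).comp Subtype.val_injective)
      (Cfsg.Agent.OddLocal.Sig.prankLE_of_not_alpha hp (Cfsg.Agent.OddLocal.Sig.not_alpha_of_not_sigma hG hM hσ))
  · have h1 : Nat.card (P : Subgroup U) = 1 := by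
      obtain ⟨k, hk⟩ := IsPGroup.iff_card.1 P.isPGroup'
      rcases Nat.eq_zero_or_pos k with rfl | hk0
      · simpa using hk
      · exact absurd (((dvd_pow_self p hk0.ne').trans hk.symm.dvd).trans (Subgroup.card_subgroup_dvd_card _)) hd
    haveI := (Nat.card_eq_one_iff_unique.1 h1).1
    exact ⟨⟨⟨fun a b => Subsingleton.elim _ _⟩⟩, fun B _ _ => le_trans
      (Nat.le_of_dvd Nat.card_pos (Subgroup.card_subgroup_dvd_card B))
      (by rw [h1]; exact Nat.one_le_pow _ _ hp.pos)⟩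

end Cfsg.Agent.S1358
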