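import Cfsg.Statements.S1360
import Cfsg.Agent.Lib.OddLocal.KappaFree

set_option autoImplicit false
open Cfsg

namespace Cfsg.Agent.S1360

theorem result {G : Type*} [Group G] [Finite G] (hG : Cfsg.IsMinSimpleOddOrder G)
    (M : Subgroup G) (hM : IsCoatom M) (K U : Subgroup G) (hKU : Cfsg.IsSigmaDecomposition M K U) :
    ∃ U₀ : Subgroup G, U₀ ≤ U ∧ Monoid.exponent U₀ = Monoid.exponent U ∧ ∀ u ∈ U₀, u ∈ Cfsg.sigmaHat M → u = 1 := by
  obtain ⟨U₀, hle, he, hf⟩ := Cfsg.Agent.OddLocal.Kappa.exists_free hG hM hKU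
  refine ⟨U₀, hle, he, fun u hu => ?_⟩
  rintro ⟨-, y, hy, hy1, huy⟩
  by_contra hu1
  exact hy1 (Subgroup.mem_bot.1 (hf u hu hu1 ▸ Subgroup.mem_inf.2
    ⟨hy, Subgroup.mem_centralizer_singleton_iff.2 huy.symm⟩))

end Cfsg.Agent.S1360
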