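import Cfsg.Statements.S1362
import Cfsg.Agent.Lib.OddLocal.DecompositionFixed

set_option autoImplicit false
open Cfsg

namespace Cfsg.Agent.S1362

theorem result {G : Type*} [Group G] [Finite G] (hG : Cfsg.IsMinSimpleOddOrder G)
    (M : Subgroup G) (hM : IsCoatom M) (K U : Subgroup G) (hKU : Cfsg.IsSigmaDecomposition M K U) :
    Cfsg.IsTISubset (Cfsg.sigmaA M U \ (Cfsg.sigmaCore M : Set G)) := by
  exact Cfsg.Agent.OddLocal.Decomp.sigmaA_ti hG hM hKU

end Cfsg.Agent.S1362
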