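import Cfsg.Statements.S1364
import Cfsg.Agent.Lib.OddLocal.KappaFitting

set_option autoImplicit false
open Cfsg

namespace Cfsg.Agent.S1364

theorem result {G : Type*} [Group G] [Finite G] (hG : Cfsg.IsMinSimpleOddOrder G)
    (M : Subgroup G) (hM : IsCoatom M) (K U : Subgroup G) (hKU : Cfsg.IsSigmaDecomposition M K U) (hK1 : K ≠ ⊥) :
    IsCyclic ↥(Cfsg.sigmaCore M ⊓ Subgroup.centralizer (K : Set G)) ∧ (Cfsg.sigmaCore M ⊓ Subgroup.centralizer (K : Set G)) ≠ ⊥ ∧ (Cfsg.sigmaCore M ⊓ Subgroup.centralizer (K : Set G)) ≤ Cfsg.fittingHallOf M ∧ ¬ IsCyclic (Cfsg.fittingHallOf M) := by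
  obtain ⟨A, hA, -, hH, -⟩ := Cfsg.Agent.OddLocal.Kappa.exists_star hG hM hKU.hall hK1
  exact ⟨Cfsg.Agent.OddLocal.Kappa.hall_cyclic hG hA hH, Cfsg.Agent.OddLocal.Kappa.star_ne_bot hG hM hKU.hall hK1,
    Cfsg.Agent.OddLocal.Kappa.star_le_fittingHall hG hM hKU hK1,
    Cfsg.Agent.OddLocal.Kappa.fittingHall_not_cyclic hG hM hKU hK1⟩

end Cfsg.Agent.S1364
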