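import Cfsg.Statements.S1366
import Cfsg.Agent.Lib.OddLocal.KappaEmbedding

set_option autoImplicit false
open Cfsg

namespace Cfsg.Agent.S1366

theorem result {G : Type*} [Group G] [Finite G] (hG : Cfsg.IsMinSimpleOddOrder G)
    (M : Subgroup G) (hM : IsCoatom M) (K U : Subgroup G) (hKU : Cfsg.IsSigmaDecomposition M K U) (hK1 : K ≠ ⊥) :
    ∃! Mstar : Subgroup G, IsCoatom Mstar ∧ K = Cfsg.sigmaCore Mstar ⊓ Subgroup.centralizer ((Cfsg.sigmaCore M ⊓ Subgroup.centralizer (K : Set G)) : Set G) ∧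
        Cfsg.IsPiHallOf (Cfsg.kappa Mstar) (Cfsg.sigmaCore M ⊓ Subgroup.centralizer (K : Set G)) Mstar := by
  obtain ⟨A, hA, hKA, hH, -⟩ := Cfsg.Agent.OddLocal.Kappa.exists_star hG hM hKU.hall hK1
  refine ⟨A, ⟨hA, hKA, hH⟩, fun B hB => ?_⟩
  obtain ⟨hB, hKB, -⟩ := hB
  rw [Cfsg.Agent.OddLocal.Kappa.coe_meet] at hKA hKB
  exact Cfsg.Agent.OddLocal.Kappa.star_unique hG hA hB hK1
    (Cfsg.Agent.OddLocal.Kappa.star_ne_bot hG hM hKU.hall hK1) hH hKA hKB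

end Cfsg.Agent.S1366
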