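import Cfsg.Statements.S1367
import Cfsg.Agent.Lib.OddLocal.KappaEmbedding

set_option autoImplicit false
open Cfsg

namespace Cfsg.Agent.S1367

theorem result {G : Type*} [Group G] [Finite G] (hG : Cfsg.IsMinSimpleOddOrder G)
    (M : Subgroup G) (hM : IsCoatom M) (K U : Subgroup G) (hKU : Cfsg.IsSigmaDecomposition M K U) (hK1 : K ≠ ⊥) (Mstar : Subgroup G) (hMstar : IsCoatom Mstar)
    (hKst : K = Cfsg.sigmaCore Mstar ⊓ Subgroup.centralizer ((Cfsg.sigmaCore M ⊓ Subgroup.centralizer (K : Set G)) : Set G))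
    (hKstH : Cfsg.IsPiHallOf (Cfsg.kappa Mstar) (Cfsg.sigmaCore M ⊓ Subgroup.centralizer (K : Set G)) Mstar) :
    (∀ X : Subgroup G, X ≤ (Cfsg.sigmaCore M ⊓ Subgroup.centralizer (K : Set G)) → (Nat.card X).Prime →
        Subgroup.centralizer (X : Set G) ≤ M ∧ ∀ L : Subgroup G, IsCoatom L → Subgroup.centralizer (X : Set G) ≤ L → L = M) ∧
      (∀ Y : Subgroup G, Y ≤ K → (Nat.card Y).Prime →
        Subgroup.centralizer (Y : Set G) ≤ Mstar ∧ ∀ L : Subgroup G, IsCoatom L → Subgroup.centralizer (Y : Set G) ≤ L → L = Mstar) := by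
  have key : ∀ (L C : Subgroup G), IsCoatom L → Cfsg.IsPiHallOf (Cfsg.kappa L) C L → C ≠ ⊥ →
      ∀ X : Subgroup G, X ≤ Cfsg.sigmaCore L ⊓ Subgroup.centralizer (C : Set G) → (Nat.card X).Prime →
      Subgroup.centralizer (X : Set G) ≤ L ∧
        ∀ H : Subgroup G, IsCoatom H → Subgroup.centralizer (X : Set G) ≤ H → H = L := by
    intro L C hL hC hC1 X hX hXp
    haveI := Fact.mk hXp
    obtain ⟨⟨x, hxX⟩, hxo⟩ := exists_prime_orderOf_dvd_card' (Nat.card X) (dvd_refl (Nat.card X))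
    rw [Subgroup.orderOf_mk] at hxo
    have he : Subgroup.zpowers x = X :=
      Subgroup.eq_of_le_of_card_ge (Subgroup.zpowers_le.2 hxX) (by rw [Nat.card_zpowers, hxo])
    have hx1 : x ≠ 1 := fun h => hXp.ne_one (by rw [← hxo, h, orderOf_one])
    rw [← he, Cfsg.Agent.OddLocal.Sig.centralizer_zpowers]
    exact ⟨Cfsg.Agent.OddLocal.Kappa.star_centralizer_le hG hL hC hC1 (hX hxX) hx1,
      fun H hH hle => Cfsg.Agent.OddLocal.Kappa.star_centralizer_unique hG hL hC hC1 (hX hxX) hxo hH hle⟩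
  rw [Cfsg.Agent.OddLocal.Kappa.coe_meet] at hKst
  exact ⟨key M K hM hKU.hall hK1, fun Y hY => key Mstar _ hMstar hKstH
    (Cfsg.Agent.OddLocal.Kappa.star_ne_bot hG hM hKU.hall hK1) Y (hY.trans hKst.le)⟩

end Cfsg.Agent.S1367
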