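import Cfsg.Statements.S1369
import Cfsg.Agent.Lib.OddLocal.KappaHat

set_option autoImplicit false
open Cfsg

namespace Cfsg.Agent.S1369

theorem result {G : Type*} [Group G] [Finite G] (hG : Cfsg.IsMinSimpleOddOrder G)
    (M : Subgroup G) (hM : IsCoatom M) (K U : Subgroup G) (hKU : Cfsg.IsSigmaDecomposition M K U) (hK1 : K ≠ ⊥) (Mstar : Subgroup G) (hMstar : IsCoatom Mstar)
    (hKst : K = Cfsg.sigmaCore Mstar ⊓ Subgroup.centralizer ((Cfsg.sigmaCore M ⊓ Subgroup.centralizer (K : Set G)) : Set G))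
    (hKstH : Cfsg.IsPiHallOf (Cfsg.kappa Mstar) (Cfsg.sigmaCore M ⊓ Subgroup.centralizer (K : Set G)) Mstar) :
    (U ≠ ⊥ ∨ ∀ Ustar : Subgroup G, Cfsg.IsSigmaDecomposition Mstar (Cfsg.sigmaCore M ⊓ Subgroup.centralizer (K : Set G)) Ustar → Ustar ≠ ⊥) ∧
      ∀ H : Subgroup G, IsCoatom H → (Cfsg.kappa H).Nonempty →
        ∃ g : G, H = M.map (MulAut.conj g).toMonoidHom ∨ H = Mstar.map (MulAut.conj g).toMonoidHom := by
  refine ⟨?_, fun H hH hκ => Cfsg.Agent.OddLocal.Kappa.star_cover hG hM hKU.hall hK1 hMstar hKst hH hκ⟩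
  by_cases hU : U = ⊥
  swap
  · exact Or.inl hU
  refine Or.inr fun Us hUs hUs1 => ?_
  subst hU hUs1
  have hC1 := Cfsg.Agent.OddLocal.Kappa.star_ne_bot hG hM hKU.hall hK1
  have hF := Cfsg.Agent.OddLocal.Kappa.frame_of_decomp hG hM hKU hK1
  have hFs := Cfsg.Agent.OddLocal.Kappa.frame_of_decomp hG hMstar hUs hC1
  rw [Cfsg.Agent.OddLocal.Kappa.coe_meet] at hKst
  have hne : Mstar ≠ M := fun h => by
    subst h
    exact hK1 (le_bot_iff.1 ((le_inf le_rfl (hKst.le.trans inf_le_left)).trans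
      (Cfsg.Agent.OddLocal.Decomp.K_inf_sigmaCore hG hM hKU).le))
  refine Cfsg.Agent.OddLocal.Kappa.no_two_nodes hG
    (Z := K ⊔ (Cfsg.sigmaCore M ⊓ Subgroup.centralizer (K : Set G)))
    ⟨hM, K, _, hKU.hall, hK1, hF, rfl⟩
    ⟨hMstar, _, _, hKstH, hC1, hFs, by rw [← hKst, sup_comm]⟩ hne fun q hq hqd => ?_
  haveI := Fact.mk hq
  have h1 := Cfsg.Agent.Solv.card_sup_mul_card_inf' K (Cfsg.sigmaCore M ⊓ Subgroup.centralizer (K : Set G))
    (inf_le_right.trans (Subgroup.centralizer_le_normalizer _))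
  rcases (Nat.Prime.dvd_mul hq).1 (h1 ▸ hqd.mul_right _ :
      q ∣ Nat.card K * Nat.card ↥(Cfsg.sigmaCore M ⊓ Subgroup.centralizer (K : Set G))) with h | h
  · exact ⟨Mstar, ⟨hMstar, _, _, hKstH, hC1, hFs, by rw [← hKst, sup_comm]⟩,
      (Cfsg.Agent.OddLocal.Sig.sigmaCore_hall hG hMstar).1.2.1 q hq
        (h.trans (Subgroup.card_dvd_of_le (hKst.le.trans inf_le_left)))⟩
  · exact ⟨M, ⟨hM, K, _, hKU.hall, hK1, hF, rfl⟩,
      (Cfsg.Agent.OddLocal.Sig.sigmaCore_hall hG hM).1.2.1 q hq (h.trans (Subgroup.card_dvd_of_le inf_le_left))⟩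

end Cfsg.Agent.S1369
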