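import Cfsg.Statements.S1370
import Cfsg.Agent.Lib.OddLocal.KappaHat

set_option autoImplicit false
open Cfsg

namespace Cfsg.Agent.S1370

theorem result {G : Type*} [Group G] [Finite G] (hG : Cfsg.IsMinSimpleOddOrder G)
    (M : Subgroup G) (hM : IsCoatom M) (K U : Subgroup G) (hKU : Cfsg.IsSigmaDecomposition M K U) (hK1 : K ≠ ⊥) :
    Cfsg.IsTISubset ((↑(K ⊔ (Cfsg.sigmaCore M ⊓ Subgroup.centralizer (K : Set G))) : Set G) \ ((K : Set G) ∪ ↑(Cfsg.sigmaCore M ⊓ Subgroup.centralizer (K : Set G)))) ∧ Subgroup.normalizer ((↑(K ⊔ (Cfsg.sigmaCore M ⊓ Subgroup.centralizer (K : Set G))) : Set G) \ ((K : Set G) ∪ ↑(Cfsg.sigmaCore M ⊓ Subgroup.centralizer (K : Set G)))) = K ⊔ (Cfsg.sigmaCore M ⊓ Subgroup.centralizer (K : Set G)) := by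
  have hN := Cfsg.Agent.OddLocal.Kappa.hat_normalizer hG hM hKU.hall hK1
  refine ⟨fun g hg x hx hgx => absurd ?_ hg, hN⟩
  exact hN.ge (Cfsg.Agent.OddLocal.Kappa.hat_ti hG hM hKU.hall hK1 hx hgx)

end Cfsg.Agent.S1370
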