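import Cfsg.Statements.S1371
import Cfsg.Agent.Lib.OddLocal.KappaHatConj

set_option autoImplicit false
open Cfsg

namespace Cfsg.Agent.S1371

theorem result {G : Type*} [Group G] [Finite G] (hG : Cfsg.IsMinSimpleOddOrder G)
    (M : Subgroup G) (hM : IsCoatom M) (K U : Subgroup G) (hKU : Cfsg.IsSigmaDecomposition M K U) (hK1 : K ≠ ⊥) :
    {a : G | ∃ m ∈ M, ∃ z ∈ ((↑(K ⊔ (Cfsg.sigmaCore M ⊓ Subgroup.centralizer (K : Set G))) : Set G) \ ((K : Set G) ∪ ↑(Cfsg.sigmaCore M ⊓ Subgroup.centralizer (K : Set G)))), a = m * z * m⁻¹} = Cfsg.sigmaA0 M K \ Cfsg.sigmaA M U ∧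
      Cfsg.IsTISubset (Cfsg.sigmaA0 M K \ Cfsg.sigmaA M U) := by
  have h := Cfsg.Agent.OddLocal.Kappa.hatConj_eq hG hM hKU hK1
  exact ⟨h, h ▸ Cfsg.Agent.OddLocal.Kappa.hatConj_ti hG hM hKU hK1⟩

end Cfsg.Agent.S1371
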