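import Cfsg.Statements.S1372
import Cfsg.Agent.Lib.OddLocal.KappaBeta

set_option autoImplicit false
open Cfsg

namespace Cfsg.Agent.S1372

theorem result {G : Type*} [Group G] [Finite G] (hG : Cfsg.IsMinSimpleOddOrder G)
    (M : Subgroup G) (hM : IsCoatom M) (K U : Subgroup G) (hKU : Cfsg.IsSigmaDecomposition M K U) (hK1 : K ≠ ⊥) (hU1 : U ≠ ⊥) :
    (Nat.card K).Prime ∧ Cfsg.IsTISubset (Cfsg.fittingOf M : Set G) ∧ Cfsg.sigmaCore M ≤ Cfsg.fittingOf M := by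
  exact ⟨Cfsg.Agent.OddLocal.Kappa.prime_card hG hM hKU.hall
      (Cfsg.Agent.OddLocal.Kappa.frame_of_decomp hG hM hKU hK1) hK1 hU1,
    Cfsg.Agent.OddLocal.Kappa.fitting_ti hG hM hKU hK1 hU1,
    Cfsg.Agent.OddLocal.Kappa.core_le_fitting (Cfsg.Agent.OddLocal.Kappa.core_nilpotent_of_U hG hM hKU hU1)⟩

end Cfsg.Agent.S1372
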