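import Cfsg.Statements.S1373
import Cfsg.Agent.Lib.OddLocal.KappaEmbedding

set_option autoImplicit false
open Cfsg

namespace Cfsg.Agent.S1373

theorem result {G : Type*} [Group G] [Finite G] (hG : Cfsg.IsMinSimpleOddOrder G)
    (M : Subgroup G) (hM : IsCoatom M) (K U : Subgroup G) (hKU : Cfsg.IsSigmaDecomposition M K U) (hK1 : K ≠ ⊥) (hU : U = ⊥) :
    (Nat.card ↥(Cfsg.sigmaCore M ⊓ Subgroup.centralizer (K : Set G))).Prime := by
  subst hU
  obtain ⟨A, KA, EA, UA, hA, hKA, hKA1, hFA, hUA, h1, h2, -, h4⟩ :=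
    Cfsg.Agent.OddLocal.Kappa.exists_partner_factor hG hM hKU.hall
      (Cfsg.Agent.OddLocal.Kappa.frame_of_decomp hG hM hKU hK1) hK1
  obtain ⟨he, -, -⟩ := Cfsg.Agent.OddLocal.Kappa.partner_prime hG hM hKU.hall hK1 hA hKA hFA hKA1 hUA h1 h2 h4
  rw [← he]
  exact Cfsg.Agent.OddLocal.Kappa.prime_card hG hA hKA hFA hKA1 hUA

end Cfsg.Agent.S1373
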