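import Cfsg.Statements.S1374
import Cfsg.Agent.Lib.OddLocal.Support

set_option autoImplicit false
open Cfsg

namespace Cfsg.Agent.S1374

theorem result {G : Type*} [Group G] [Finite G] (hG : Cfsg.IsMinSimpleOddOrder G)
    (M : Subgroup G) (hM : IsCoatom M) (x : G) (hx : x ∈ Cfsg.sigmaCore M) (hx1 : x ≠ 1) :
    (Nat.card ↥(M ⊓ Subgroup.centralizer ({x} : Set G))).Coprime ((M ⊓ Subgroup.centralizer ({x} : Set G)).relIndex (Subgroup.centralizer ({x} : Set G))) ∧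
      ∃ R : Subgroup G, Subgroup.centralizer ({x} : Set G) ≤ Subgroup.normalizer (R : Set G) ∧ Cfsg.IsComplIn (M ⊓ Subgroup.centralizer ({x} : Set G)) R (Subgroup.centralizer ({x} : Set G)) ∧
        ∀ g : G, x ∈ M.map (MulAut.conj g).toMonoidHom → ∃! r : G, r ∈ R ∧ M.map (MulAut.conj r).toMonoidHom = M.map (MulAut.conj g).toMonoidHom := by
  obtain ⟨R, hn, hcompl, hco, hR⟩ : ∃ R : Subgroup G,
      Subgroup.centralizer ({x} : Set G) ≤ Subgroup.normalizer (R : Set G) ∧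
      Cfsg.IsComplIn (M ⊓ Subgroup.centralizer ({x} : Set G)) R (Subgroup.centralizer ({x} : Set G)) ∧
      (Nat.card ↥(M ⊓ Subgroup.centralizer ({x} : Set G))).Coprime
        ((M ⊓ Subgroup.centralizer ({x} : Set G)).relIndex (Subgroup.centralizer ({x} : Set G))) ∧
      ∀ ρ : G, ρ * x = x * ρ → (ρ = 1 ∨ ¬ Subgroup.centralizer ({x} : Set G) ≤ M ∧
        ∀ L : Subgroup G, IsCoatom L → Subgroup.centralizer ({x} : Set G) ≤ L → ρ ∈ Cfsg.sigmaCore L) → ρ ∈ R := by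
    by_cases hxM : Subgroup.centralizer ({x} : Set G) ≤ M
    · refine ⟨⊥, fun g _ => by rw [Subgroup.normalizer_eq_top]; exact Subgroup.mem_top g,
        ⟨inf_le_right, bot_le, inf_bot_eq _, fun g hg => ⟨g, ⟨hxM hg, hg⟩, 1, one_mem _, (mul_one g).symm⟩⟩, ?_,
        fun ρ _ h => h.elim (fun h => h ▸ one_mem _) fun h => absurd hxM h.1⟩
      rw [inf_eq_right.2 hxM, Subgroup.relIndex_self]
      exact Nat.coprime_one_right _
    · obtain ⟨H, hH, hCH, hu, hc, hinf, -⟩ :=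
        Cfsg.Agent.OddLocal.Support.over_centralizer hG hM hx hx1 hxM
      obtain ⟨hn, hcompl, hco⟩ := Cfsg.Agent.OddLocal.Support.centralizer_compl hG hM hx hH hCH hc hinf
      exact ⟨_, hn, hcompl, hco, fun ρ hρ h => h.elim (fun h => h ▸ one_mem _)
        fun h => ⟨h.2 H hH hCH, Subgroup.mem_centralizer_singleton_iff.2 hρ⟩⟩
  refine ⟨hco, R, hn, hcompl, fun g hg => ?_⟩
  obtain ⟨ρ, hρ, he, hor⟩ := Cfsg.Agent.OddLocal.Support.transport hG hM hx hx1 hg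
  refine ⟨ρ, ⟨hR ρ hρ hor, he⟩, fun y ⟨hy, hye⟩ => ?_⟩
  have h1 : ρ⁻¹ * y ∈ M := by
    have h2 : ρ⁻¹ * y ∈ Subgroup.normalizer (M : Set G) := by
      refine Cfsg.Agent.Fusion.mem_normalizer_of_cj_le (le_of_eq ?_)
      rw [← Cfsg.Agent.Fusion.cj_cj, show Cfsg.Agent.Fusion.cj M y = Cfsg.Agent.Fusion.cj M ρ from hye.trans he.symm,
        Cfsg.Agent.Fusion.cj_cj, inv_mul_cancel, Cfsg.Agent.Fusion.cj_one]
    rwa [Cfsg.Agent.OddLocal.Sig.normalizer_coatom hG hM] at h2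
  have h3 : ρ⁻¹ * y ∈ R := R.mul_mem (R.inv_mem (hR ρ hρ hor)) hy
  have h4 : ρ⁻¹ * y ∈ (M ⊓ Subgroup.centralizer ({x} : Set G)) ⊓ R := ⟨⟨h1, hcompl.2.1 h3⟩, h3⟩
  rw [hcompl.2.2.1, Subgroup.mem_bot] at h4
  exact (inv_mul_eq_one.1 h4).symm

end Cfsg.Agent.S1374
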