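import Cfsg.Statements.S1375
import Cfsg.Agent.Lib.OddLocal.Support

set_option autoImplicit false
open Cfsg

namespace Cfsg.Agent.S1375

theorem result {G : Type*} [Group G] [Finite G] (hG : Cfsg.IsMinSimpleOddOrder G)
    (M : Subgroup G) (hM : IsCoatom M) (x : G) (hx : x ∈ Cfsg.sigmaCore M) (hx1 : x ≠ 1) (hxM : ¬ Subgroup.centralizer ({x} : Set G) ≤ M) :
    ∃ N : Subgroup G, (IsCoatom N ∧ Subgroup.centralizer ({x} : Set G) ≤ N) ∧ (∀ L : Subgroup G, IsCoatom L → Subgroup.centralizer ({x} : Set G) ≤ L → L = N) ∧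
        Cfsg.sigmaCore N = Cfsg.fittingHallOf N ∧
        Subgroup.centralizer ({x} : Set G) ≤ Subgroup.normalizer ((Cfsg.sigmaCore N ⊓ Subgroup.centralizer ({x} : Set G) : Subgroup G) : Set G) ∧
        Cfsg.IsComplIn (M ⊓ Subgroup.centralizer ({x} : Set G)) (Cfsg.sigmaCore N ⊓ Subgroup.centralizer ({x} : Set G)) (Subgroup.centralizer ({x} : Set G)) ∧
        Cfsg.IsComplIn (M ⊓ N) (Cfsg.sigmaCore N) N ∧
        ∀ K' U' : Subgroup G, Cfsg.IsSigmaDecomposition N K' U' → U' ≠ ⊥ ∧ x ∈ Cfsg.sigmaA N U' ∧ x ∉ Cfsg.sigmaCore N := by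
  obtain ⟨N, hN, hCN, hu, hc, hinf, hnil, hfix, hτ⟩ :=
    Cfsg.Agent.OddLocal.Support.over_centralizer hG hM hx hx1 hxM
  obtain ⟨hn, hcompl, -⟩ := Cfsg.Agent.OddLocal.Support.centralizer_compl hG hM hx hN hCN hc hinf
  refine ⟨N, ⟨hN, hCN⟩, hu, Cfsg.Agent.OddLocal.Support.fittingHallOf_eq hG hN hnil, hn, hcompl, hc,
    fun K' U' hKU => ?_⟩
  have hxN : x ∈ N := hCN (Subgroup.mem_centralizer_singleton_iff.2 rfl)
  have hxnot : x ∉ Cfsg.sigmaCore N := fun h => hx1 (Subgroup.mem_bot.1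
    (hinf ▸ Subgroup.mem_inf.2 ⟨h, (Subgroup.map_subtype_le _ : Cfsg.sigmaCore M ≤ M) hx⟩))
  have hσn : N ≤ Subgroup.normalizer (Cfsg.sigmaCore N : Set G) :=
    Cfsg.Agent.OddLocal.Sig.le_normalizer_piCoreOf
  have hUN : U' ⊔ Cfsg.sigmaCore N ≤ N :=
    sup_le (Cfsg.Agent.OddLocal.Decomp.U_le hKU) (Subgroup.map_subtype_le _)
  have hxU : x ∈ U' ⊔ Cfsg.sigmaCore N := by
    haveI hWn : ((U' ⊔ Cfsg.sigmaCore N).subgroupOf N).Normal :=
      Subgroup.normal_subgroupOf_of_le_normalizer (Cfsg.Agent.OddLocal.Decomp.le_normalizer_sup hKU)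
    have h1 := ((U' ⊔ Cfsg.sigmaCore N).subgroupOf N).pow_index_mem (⟨x, hxN⟩ : N)
    have hdvd : ((U' ⊔ Cfsg.sigmaCore N).subgroupOf N).index ∣ Nat.card K' := by
      have hle : N ≤ (U' ⊔ Cfsg.sigmaCore N) ⊔ K' := fun m hm => by
        obtain ⟨u, hu, b, hb, rfl⟩ := hKU.compl.2.2.2 m hm
        exact mul_mem (Subgroup.mem_sup_left (Subgroup.mem_sup_left hu))
          ((sup_le le_sup_right (le_sup_right.trans le_sup_left) :
            K' ⊔ Cfsg.sigmaCore N ≤ (U' ⊔ Cfsg.sigmaCore N) ⊔ K') hb)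
      have h2 := Cfsg.Agent.Solv.card_sup_mul_card_inf' (U' ⊔ Cfsg.sigmaCore N) K'
        ((Cfsg.Agent.OddLocal.Decomp.K_le hKU).trans (Cfsg.Agent.OddLocal.Decomp.le_normalizer_sup hKU))
      rw [le_antisymm (sup_le hUN (Cfsg.Agent.OddLocal.Decomp.K_le hKU)) hle,
        ← ((U' ⊔ Cfsg.sigmaCore N).subgroupOf N).card_mul_index, Cfsg.Agent.Solv.card_subgroupOf hUN,
        mul_assoc] at h2
      exact Dvd.intro _ (Nat.eq_of_mul_eq_mul_left Nat.card_pos h2)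
    have hcop : (orderOf x).Coprime ((U' ⊔ Cfsg.sigmaCore N).subgroupOf N).index :=
      Nat.coprime_of_dvd fun t ht h1 h2 => by
        exact Cfsg.Agent.OddLocal.Support.not_kappa_of_tau2 (hτ t ht h1) (hKU.hall.2.1 t ht (h2.trans hdvd))
    obtain ⟨m, hm⟩ := exists_pow_eq_self_of_coprime hcop.symm
    rw [← hm]
    exact pow_mem (Subgroup.mem_subgroupOf.1 h1) m
  refine ⟨fun hU => ?_, ⟨⟨⟨hxN, ?_⟩, hxU⟩, hxnot⟩⟩
  · rw [hU, bot_sup_eq] at hxU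
    exact hxnot hxU
  · obtain ⟨y, hy, hy1⟩ := Cfsg.Agent.OddLocal.RankTwo.exists_ne_one hfix
    exact ⟨y, hy.1, hy1, (Subgroup.mem_centralizer_singleton_iff.1 hy.2).symm⟩

end Cfsg.Agent.S1375
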