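import Cfsg.Statements.S1376
import Cfsg.Agent.Lib.OddLocal.KappaSupport

set_option autoImplicit false
open Cfsg

namespace Cfsg.Agent.S1376

theorem result {G : Type*} [Group G] [Finite G] (hG : Cfsg.IsMinSimpleOddOrder G)
    (M : Subgroup G) (hM : IsCoatom M) (x : G) (hx : x ∈ Cfsg.sigmaCore M) (hx1 : x ≠ 1) (hxM : ¬ Subgroup.centralizer ({x} : Set G) ≤ M)
    (N : Subgroup G) (hN : IsCoatom N) (hxN : Subgroup.centralizer ({x} : Set G) ≤ N) (hkN : (Cfsg.kappa N).Nonempty) :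
    Cfsg.kappa M = ∅ ∧ (∃ E : Subgroup ↥M, Cfsg.IsFrobeniusComplement E ∧ IsCyclic E) ∧ ¬ Cfsg.IsTISubset (Cfsg.fittingHallOf M : Set G) := by
  obtain ⟨r, hr, hrσ, hrτ, hc⟩ := OddLocal.Kappa.over_data hG hM hx hx1 hxM hN hxN
  haveI := Fact.mk hr
  obtain ⟨hκ, hτ, hnil, E, hE, hEc, hE1⟩ := OddLocal.Kappa.signalizer_P2 hG hM hN hrσ hrτ hc hkN
  refine ⟨hκ, ⟨E.subgroupOf M, OddLocal.Kappa.frobenius_of_empty hG hM hκ hτ hE hE1, ?_⟩, ?_⟩
  · haveI := hEc
    exact isCyclic_of_surjective (Subgroup.subgroupOfEquivOfLe hE.1).symm (MulEquiv.surjective _)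
  rw [← OddLocal.Support.fittingHallOf_eq hG hM hnil]
  intro hTI
  obtain ⟨g, hg, hgM⟩ := SetLike.not_le_iff_exists.1 hxM
  have hn : g ∉ Subgroup.normalizer ((sigmaCore M : Subgroup G) : Set G) := fun h => by
    rcases hM.le_iff.1 (OddLocal.Sig.le_normalizer_piCoreOf :
      M ≤ Subgroup.normalizer ((sigmaCore M : Subgroup G) : Set G)) with h1 | h1
    · have hn1 : (sigmaCore M).Normal := Subgroup.normalizer_eq_top_iff.1 h1
      haveI := hG.2.1
      rcases Subgroup.Normal.eq_bot_or_eq_top hn1 with h2 | h2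
      · exact OddLocal.FitParts.sigmaCore_ne_bot hG hM h2
      · exact hM.1 (top_le_iff.1 (h2.ge.trans (Subgroup.map_subtype_le _)))
    · exact hgM (h1 ▸ h)
  refine hx1 (hTI g hn x hx ?_)
  rw [Subgroup.mem_centralizer_singleton_iff] at hg
  rwa [show g * x * g⁻¹ = x by rw [hg, mul_inv_cancel_right]]

end Cfsg.Agent.S1376
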