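import Cfsg.Statements.S1377
import Cfsg.Agent.Lib.OddLocal.SupportSet

set_option autoImplicit false
open Cfsg

namespace Cfsg.Agent.S1377

theorem result {G : Type*} [Group G] [Finite G] (hG : Cfsg.IsMinSimpleOddOrder G)
    (M : Subgroup G) (hM : IsCoatom M) :
    Set.ncard (Cfsg.tildeOf M ((Cfsg.sigmaCore M : Set G) \ {1})) = (Nat.card (Cfsg.sigmaCore M) - 1) * M.index := by
  exact Cfsg.Agent.OddLocal.Support.card_tilde hG hM

end Cfsg.Agent.S1377
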