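import Cfsg.Statements.S1383
import Cfsg.Agent.Lib.OddLocal.KappaTypeV

set_option autoImplicit false
open Cfsg

namespace Cfsg.Agent.S1383

theorem result {G : Type*} [Group G] [Finite G] (hG : Cfsg.IsMinSimpleOddOrder G)
    (M : Subgroup G) (hM : IsCoatom M) (K U : Subgroup G) (hKU : Cfsg.IsSigmaDecomposition M K U) :
    Cfsg.IsOfTypeV M ↔ (K ≠ ⊥ ∧ U = ⊥ ∧ Cfsg.fittingHallOf M = Cfsg.sigmaCore M) := by
  constructor
  · rintro ⟨W₁, D, W₂, hP, hD, -⟩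
    have hK1 := Cfsg.Agent.OddLocal.Kappa.K_ne_bot_of_kappa hKU
      (Cfsg.Agent.OddLocal.Kappa.kappa_nonempty_of_typeP hG hM hP)
    exact ⟨hK1, Cfsg.Agent.OddLocal.Kappa.U_bot_of_compl_bot hG hM hKU hK1 hP.U_compl hD⟩
  · rintro ⟨hK1, hU, he⟩
    obtain ⟨D, hP, hD⟩ := Cfsg.Agent.OddLocal.Kappa.exists_typeP hG hM hKU hK1
    refine ⟨K, D, _, hP, (hD he).trans hU, ?_⟩
    rw [he]
    by_cases hti : Cfsg.IsTISubset (Cfsg.sigmaCore M : Set G)
    · exact Or.inl hti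
    right
    have hnil : Group.IsNilpotent ↥(Cfsg.sigmaCore M) := by
      haveI := Cfsg.Agent.TypePBasic.fittingOf_nilpotent M
      exact Cfsg.Agent.OddLocal.Kappa.isNilpotent_of_le (Y := Cfsg.fittingOf M)
        (he.symm.le.trans (Subgroup.map_mono Cfsg.Agent.TypePBasic.fittingHall_le_fitting))
    obtain ⟨p, x, N, B, S, hp, d⟩ := Cfsg.Agent.OddLocal.Kappa.exists_stray hG hM hnil hti
    haveI := Fact.mk hp
    obtain ⟨hna, hb⟩ := d.typeV_bound hKU hK1 hU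
    have hdvd : p ∣ Nat.card (Cfsg.sigmaCore M) := d.order ▸ Subgroup.orderOf_dvd_natCard _ d.mem
    have hc := d.pPrime_cyclic hna
    rcases hb with h | ⟨h3, h⟩
    · exact Or.inl ⟨p, hp, hdvd, h, hc⟩
    · exact Or.inr ⟨p, hp, hdvd, d.pCore_card.trans h3, h, hc⟩

end Cfsg.Agent.S1383
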