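import Cfsg.Statements.S1384
import Cfsg.Agent.Lib.OddLocal.KappaFusion

set_option autoImplicit false
open Cfsg

namespace Cfsg.Agent.S1384

theorem result {G : Type*} [Group G] [Finite G] (hG : Cfsg.IsMinSimpleOddOrder G)
    (H : Subgroup G) (hHn : Group.IsNilpotent H) (hHall : (Nat.card H).Coprime H.index) :
    ∀ x ∈ H, ∀ g : G, g * x * g⁻¹ ∈ H → ∃ n ∈ Subgroup.normalizer (H : Set G), n * x * n⁻¹ = g * x * g⁻¹ := by
  intro x hx g hgx
  by_cases hH1 : H = ⊥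
  · subst hH1
    rw [Subgroup.mem_bot] at hx
    subst hx
    exact ⟨1, Subgroup.one_mem _, by group⟩
  obtain ⟨M, hM, hle⟩ := OddLocal.Kappa.nilpotent_hall_core hG hHn hHall hH1
  obtain ⟨n, hn, he⟩ := OddLocal.Kappa.hall_fusion hG hM hle
    (hHall.coprime_dvd_right (Subgroup.relIndex_top_right H ▸
      ⟨_, (Subgroup.relIndex_mul_relIndex H (Cfsg.sigmaCore M) ⊤ hle le_top).symm⟩)) hx hgx
  exact ⟨n, hn.2, he⟩

end Cfsg.Agent.S1384
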