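import Cfsg.Statements.S1385
import Cfsg.Agent.Lib.OddChar.TypeOne
import Cfsg.Agent.Lib.OddChar.KappaExists
import Cfsg.Agent.Lib.OddLocal.KappaHat
import Cfsg.Agent.S1381
import Cfsg.Agent.S1382
import Cfsg.Agent.S1383

set_option autoImplicit false
open Cfsg

namespace Cfsg.Agent.S1385

/-- Let G be a minimal simple group of odd order. Then either every maximal subgroup of G is of Type I, or there are nontrivial subgroups W₁, W₂ generating a cyclic group W that is the normalizer of every nonempty subset of W outside W₁ ∪ W₂, and maximal subgroups S, T with W₁ a complement to S' in S, W₂ a complement to T' in T, S ∩ T = W, S or T of Type II, each of S, T of Type II, III, IV or V, and every maximal subgroup of G of Type I or conjugate to S or to T. -/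
theorem result {G : Type*} [Group G] [Finite G] (hG : Cfsg.IsMinSimpleOddOrder G) :
    (∀ M : Subgroup G, IsCoatom M → Cfsg.IsOfTypeI M) ∨
      ∃ W₁ W₂ S T : Subgroup G, Cfsg.IsSelfNormalizingCyclic W₁ W₂ ∧ IsCoatom S ∧ IsCoatom T ∧
        Cfsg.IsComplIn ⁅S, S⁆ W₁ S ∧ Cfsg.IsComplIn ⁅T, T⁆ W₂ T ∧ S ⊓ T = W₁ ⊔ W₂ ∧
        (Cfsg.IsOfTypeII S ∨ Cfsg.IsOfTypeII T) ∧
        (Cfsg.IsOfTypeII S ∨ Cfsg.IsOfTypeIII S ∨ Cfsg.IsOfTypeIV S ∨ Cfsg.IsOfTypeV S) ∧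
        (Cfsg.IsOfTypeII T ∨ Cfsg.IsOfTypeIII T ∨ Cfsg.IsOfTypeIV T ∨ Cfsg.IsOfTypeV T) ∧
        ∀ M : Subgroup G, IsCoatom M → Cfsg.IsOfTypeI M ∨ ∃ g : G, M = S.map (MulAut.conj g).toMonoidHom ∨ M = T.map (MulAut.conj g).toMonoidHom := by
  right
  obtain ⟨S, hS, hκ⟩ := OddChar.exists_kappa hG
  obtain ⟨K, U, hKU⟩ := OddLocal.Kappa.exists_full_decomp hG hS
  have hκne := Set.nonempty_iff_ne_empty.2 hκ
  have hK1 := OddLocal.Kappa.K_ne_bot_of_kappa hKU hκne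
  obtain ⟨T, hT, hKst, hKT, hST⟩ := OddLocal.Kappa.exists_star hG hS hKU.hall hK1
  set C := Cfsg.sigmaCore S ⊓ Subgroup.centralizer (K : Set G) with hC
  have hC1 : C ≠ ⊥ := OddLocal.Kappa.star_ne_bot hG hS hKU.hall hK1
  obtain ⟨V, hCV⟩ := OddLocal.Kappa.exists_decomp hG hT hKT (OddLocal.Kappa.hall_cyclic hG hT hKT)
  have htype : ∀ {M K U : Subgroup G}, IsCoatom M → Cfsg.IsSigmaDecomposition M K U → K ≠ ⊥ →
      Cfsg.IsOfTypeII M ∨ Cfsg.IsOfTypeIII M ∨ Cfsg.IsOfTypeIV M ∨ Cfsg.IsOfTypeV M := fun {M K U} hM h hK => by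
    by_cases hU : U = ⊥
    · by_cases he : Cfsg.fittingHallOf M = Cfsg.sigmaCore M
      · exact Or.inr (Or.inr (Or.inr ((S1383.result hG M hM K U h).2 ⟨hK, hU, he⟩)))
      · rcases (S1382.result hG M hM K U h).2 ⟨hK, hU, he⟩ with h' | h'
        exacts [Or.inr (Or.inl h'), Or.inr (Or.inr (Or.inl h'))]
    · exact Or.inl ((S1381.result hG M hM K U h).2 ⟨hK, hU⟩)
  refine ⟨K, C, S, T, OddLocal.Kappa.selfNormalizing hG hS hKU hK1, hS, hT,
    OddLocal.Kappa.derived_compl hG hS hKU hK1, OddLocal.Kappa.derived_compl hG hT hCV hC1, hST, ?_,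
    htype hS hKU hK1, htype hT hCV hC1, fun M hM => ?_⟩
  · by_cases hU : U = ⊥
    swap
    · exact Or.inl ((S1381.result hG S hS K U hKU).2 ⟨hK1, hU⟩)
    refine Or.inr ((S1381.result hG T hT C V hCV).2 ⟨hC1, fun hV => ?_⟩)
    have hF := OddLocal.Kappa.frame_of_decomp hG hS hKU hK1
    rw [hU] at hF
    obtain ⟨A, KA, EA, UA, hA, hKA, hKA1, hFA, hUA, h1, h2, -, h4⟩ :=
      OddLocal.Kappa.exists_partner_factor hG hS hKU.hall hF hK1
    obtain ⟨hKAC, hKeq, -⟩ := OddLocal.Kappa.partner_prime hG hS hKU.hall hK1 hA hKA hFA hKA1 hUA h1 h2 h4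
    rw [OddLocal.Kappa.coe_meet] at hKst
    rw [hKAC] at hKeq hKA
    obtain rfl : A = T := OddLocal.Kappa.star_unique hG hT hA hK1 hC1 hKT hKst hKeq
    obtain ⟨q, hq, hqU⟩ := Nat.exists_prime_and_dvd fun h => hUA (Subgroup.card_eq_one.1 h)
    obtain ⟨-, hqκ, hqσ⟩ := hFA.hall.2.1 q hq hqU
    have hcard := (OddLocal.Sig.compl_card (OddLocal.Decomp.compl hG hT hCV)).2
    rw [hV, bot_sup_eq] at hcard
    have hqA : q ∣ Nat.card C * Nat.card (Cfsg.sigmaCore A) :=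
      hcard ▸ hqU.trans (Subgroup.card_dvd_of_le hFA.hall.1)
    rcases hq.dvd_mul.1 hqA with h | h
    · exact hqκ (hKT.2.1 q hq h)
    · exact hqσ ((OddLocal.Sig.sigmaCore_hall hG hT).1.2.1 q hq h)
  · rcases Set.eq_empty_or_nonempty (Cfsg.kappa M) with h | h
    · exact Or.inl (OddLocal.Kappa.typeI_of_empty hG hM h)
    · exact Or.inr (OddLocal.Kappa.star_cover hG hS hKU.hall hK1 hT hKst hM h)

end Cfsg.Agent.S1385
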