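import Cfsg.Statements.S1386
import Cfsg.Agent.Lib.Local.TypePBasic

set_option autoImplicit false
open Cfsg
open scoped Pointwise

namespace Cfsg.Agent.S1386

theorem result {G : Type*} [Group G] [Finite G] (W₁ W₂ S U W₂' : Subgroup G) (hW : Cfsg.IsSelfNormalizingCyclic W₁ W₂)
    (hSW : Cfsg.IsComplIn ⁅S, S⁆ W₁ S) (hW₂S : W₂ ≤ S) (hP : Cfsg.IsTypePWith S W₁ U W₂') :
    W₂' = W₂ := by
  have hW₂' := hP.W₂_centralizer
  obtain ⟨hne1, hne2, hint, hcomm, hcyc, hnorm⟩ := hW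
  obtain ⟨-, -, -, hcomm', hcyc', -⟩ := hP.selfNormalizing
  obtain ⟨hDS, hWS, hDW, hprod⟩ := hSW
  haveI := hcyc
  obtain ⟨x, hx, hx1⟩ : ∃ x ∈ W₁, x ≠ 1 := by
    by_contra h
    push Not at h
    exact hne1 ((Subgroup.eq_bot_iff_forall _).2 h)
  obtain ⟨w, hw, hw1⟩ : ∃ w ∈ W₂, w ≠ 1 := by
    by_contra h
    push Not at h
    exact hne2 ((Subgroup.eq_bot_iff_forall _).2 h)
  have hcop := TypePBasic.cyclic_split_coprime (W := W₁ ⊔ W₂) le_sup_left le_sup_right hint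
  have hW₂D : W₂ ≤ ⁅S, S⁆ := by
    intro y hy
    obtain ⟨a, ha, b, hb, rfl⟩ := hprod y (hW₂S hy)
    have hn : ∀ m : ℕ, ∃ a' ∈ ⁅S, S⁆, (a * b) ^ m = a' * b ^ m := by
      intro m
      induction m with
      | zero => exact ⟨1, one_mem _, by simp⟩
      | succ m ih =>
        obtain ⟨a', ha', he⟩ := ih
        have hconj : b ^ m * a * (b ^ m)⁻¹ ∈ ⁅S, S⁆ := by
          have := mul_mem (Subgroup.commutator_mem_commutator (pow_mem (hWS hb) m) (hDS ha)) ha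
          simpa [commutatorElement_def] using this
        refine ⟨a' * (b ^ m * a * (b ^ m)⁻¹), mul_mem ha' hconj, ?_⟩
        rw [pow_succ, he, pow_succ]
        group
    obtain ⟨a', ha', he⟩ := hn (Nat.card W₂)
    have h1 : (a * b) ^ Nat.card W₂ = 1 :=
      orderOf_dvd_iff_pow_eq_one.1 ((Subgroup.orderOf_mk _ hy) ▸ orderOf_dvd_natCard _)
    have h2 : b ^ Nat.card W₂ ∈ ⁅S, S⁆ ⊓ W₁ := by
      refine Subgroup.mem_inf.2 ⟨?_, pow_mem hb _⟩
      rw [h1] at he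
      have : b ^ Nat.card W₂ = a'⁻¹ := (inv_eq_of_mul_eq_one_right he.symm).symm
      rw [this]
      exact inv_mem ha'
    rw [hDW, Subgroup.mem_bot] at h2
    have h3 : orderOf b = 1 := Nat.eq_one_of_dvd_coprimes hcop
      ((Subgroup.orderOf_mk _ hb) ▸ orderOf_dvd_natCard _) (orderOf_dvd_of_pow_eq_one h2)
    rw [orderOf_eq_one_iff.1 h3, mul_one]
    exact ha
  have hle : W₂ ≤ W₂' := by
    rw [← hW₂' x hx hx1]
    exact le_inf hW₂D fun y hy => Subgroup.mem_centralizer_singleton_iff.2 (hcomm x hx y hy).symm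
  refine le_antisymm ?_ hle
  intro y hy
  obtain ⟨g, hg⟩ := hcyc'.exists_generator
  have hyw : y * w = w * y := by
    haveI := hcyc'
    letI : CommGroup ↥(W₁ ⊔ W₂') := IsCyclic.commGroup
    exact congrArg Subtype.val (mul_comm (⟨y, Subgroup.mem_sup_right hy⟩ : ↥(W₁ ⊔ W₂'))
      ⟨w, Subgroup.mem_sup_right (hle hw)⟩)
  have hX : ({x * w} : Set G) ⊆ (↑(W₁ ⊔ W₂) : Set G) \ (↑W₁ ∪ ↑W₂) := by
    rintro _ rfl
    refine ⟨mul_mem (Subgroup.mem_sup_left hx) (Subgroup.mem_sup_right hw), ?_⟩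
    rintro (h | h)
    · have : w ∈ W₁ ⊓ W₂ := ⟨by simpa using mul_mem (inv_mem hx) h, hw⟩
      rw [hint, Subgroup.mem_bot] at this
      exact hw1 this
    · have : x ∈ W₁ ⊓ W₂ := ⟨hx, by simpa using mul_mem h (inv_mem hw)⟩
      rw [hint, Subgroup.mem_bot] at this
      exact hx1 this
  have hyN : y ∈ W₁ ⊔ W₂ := by
    rw [← hnorm _ hX (Set.singleton_nonempty _)]
    refine Subgroup.centralizer_le_normalizer _ (Subgroup.mem_centralizer_singleton_iff.2 ?_)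
    rw [← mul_assoc, ← hcomm' x hx y hy, mul_assoc, hyw, mul_assoc]
  have hyD : y ∈ ⁅S, S⁆ := by
    have : y ∈ ⁅S, S⁆ ⊓ Subgroup.centralizer ({x} : Set G) := by rw [hW₂' x hx hx1]; exact hy
    exact this.1
  have hprod2 : ∃ a ∈ W₁, ∃ b ∈ W₂, a * b = y := by
    have h1 : (y : G) ∈ ((W₁ ⊔ W₂ : Subgroup G) : Set G) := hyN
    rw [Subgroup.coe_mul_of_left_le_normalizer_right W₁ W₂ fun a ha =>
      Subgroup.centralizer_le_normalizer _ (Subgroup.mem_centralizer_iff.2 fun b hb => (hcomm a ha b hb).symm)] at h1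
    exact Set.mem_mul.1 h1
  obtain ⟨a, ha, b, hb, rfl⟩ := hprod2
  have : a ∈ ⁅S, S⁆ ⊓ W₁ := ⟨by simpa using mul_mem hyD (inv_mem (hW₂D hb)), ha⟩
  rw [hDW, Subgroup.mem_bot] at this
  rw [show a = 1 from this]
  simpa using hb

end Cfsg.Agent.S1386
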