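import Cfsg.Statements.S1387
import Cfsg.Agent.Lib.Local.TypePBasic

set_option autoImplicit false
open Cfsg

namespace Cfsg.Agent.S1387

theorem result {G : Type*} [Group G] [Finite G] (M W₁ U W₂ : Subgroup G) (hP : Cfsg.IsTypePWith M W₁ U W₂) :
    Cfsg.fittingOf M = Cfsg.fittingHallOf M ⊔ (U ⊓ Subgroup.centralizer (Cfsg.fittingHallOf M : Set G)) := by
  haveI := TypePBasic.fittingOf_nilpotent M
  have hHF : fittingHallOf M ≤ fittingOf M := Subgroup.map_mono TypePBasic.fittingHall_le_fitting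
  have hDM : ⁅M, M⁆ ≤ M := Subgroup.commutator_le_self M
  have hcop := TypePBasic.compl_coprime hP.U_compl hDM
  refine le_antisymm ?_ (sup_le hHF ?_)
  · intro x hx
    obtain ⟨h, hh, u, hu, rfl⟩ := TypePBasic.mem_fitting_compl hP.U_compl hHF hP.fitting_le hx
    refine mul_mem (Subgroup.mem_sup_left hh) (Subgroup.mem_sup_right ⟨hu.1, ?_⟩)
    exact TypePBasic.nilpotent_coprime_commute (X := U ⊓ fittingOf M) hHF inf_le_right
      (hcop.coprime_dvd_right (Subgroup.card_dvd_of_le inf_le_left)) hu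
  · intro u hu
    rw [← hP.fitting_eq]
    exact Subgroup.mem_sup_right ⟨hDM (hP.U_compl.2.1 hu.1), hu.2⟩

end Cfsg.Agent.S1387
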