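import Cfsg.Statements.S1388
import Cfsg.Agent.Lib.Local.TypePBasic

set_option autoImplicit false
open Cfsg

namespace Cfsg.Agent.S1388

theorem result {G : Type*} [Group G] [Finite G] (M W₁ U W₂ : Subgroup G) (hP : Cfsg.IsTypePWith M W₁ U W₂) :
    ⁅U, U⁆ ≤ Subgroup.centralizer (Cfsg.fittingHallOf M : Set G) ∧ (U ≠ ⊥ → ¬ U ≤ Subgroup.centralizer (Cfsg.fittingHallOf M : Set G)) := by
  haveI := TypePBasic.fittingOf_nilpotent M
  have hHF : fittingHallOf M ≤ fittingOf M := Subgroup.map_mono TypePBasic.fittingHall_le_fitting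
  have hDM : ⁅M, M⁆ ≤ M := Subgroup.commutator_le_self M
  have hcop := TypePBasic.compl_coprime hP.U_compl hDM
  have hUD : U ≤ ⁅M, M⁆ := hP.U_compl.2.1
  refine ⟨?_, fun hU hC => hU ?_⟩
  · have h1 : ⁅U, U⁆ ≤ fittingOf M :=
      (Subgroup.commutator_mono hUD hUD).trans (hP.derived_two_le.trans hP.fitting_eq.le)
    exact TypePBasic.nilpotent_coprime_commute hHF h1
      (hcop.coprime_dvd_right (Subgroup.card_dvd_of_le (Subgroup.commutator_le_self U)))
  · have hUF : U ≤ fittingOf M := fun u hu => by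
      rw [← hP.fitting_eq]
      exact Subgroup.mem_sup_right ⟨hDM (hUD hu), hC hu⟩
    have hDF : ⁅M, M⁆ = fittingOf M := le_antisymm (fun m hm => by
      obtain ⟨a, ha, b, hb, rfl⟩ := hP.U_compl.2.2.2 m hm
      exact mul_mem (hHF ha) (hUF hb)) hP.fitting_le
    haveI : Group.IsNilpotent ↥⁅M, M⁆ := hDF ▸ TypePBasic.fittingOf_nilpotent M
    set D : Subgroup M := ⁅M, M⁆.subgroupOf M with hDdef
    have hDn : D.Normal := by
      rw [hDdef, ← Subgroup.map_subtype_commutator, Subgroup.subgroupOf,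
        Subgroup.comap_map_eq_self_of_injective M.subtype_injective]
      infer_instance
    have hDnil : Group.IsNilpotent D :=
      Group.nilpotent_of_mulEquiv (Subgroup.subgroupOfEquivOfLe hDM).symm
    have hcard : Nat.card ↥⁅M, M⁆ * Nat.card W₁ = Nat.card M := by
      obtain ⟨-, hW, hi, hp⟩ := hP.W₁_compl
      have hc : (⁅M, M⁆.subgroupOf M).IsComplement' (W₁.subgroupOf M) := by
        refine Subgroup.isComplement'_of_disjoint_and_mul_eq_univ ?_ ?_
        · rw [disjoint_iff, eq_bot_iff]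
          rintro m ⟨h1, h2⟩
          have : (m : G) ∈ ⁅M, M⁆ ⊓ W₁ := ⟨h1, h2⟩
          rw [hi, Subgroup.mem_bot] at this
          exact Subtype.ext this
        · rw [Set.eq_univ_iff_forall]
          intro m
          obtain ⟨a, ha, b, hb, he⟩ := hp m m.2
          exact ⟨⟨a, hDM ha⟩, ha, ⟨b, hW hb⟩, hb, Subtype.ext he.symm⟩
      rw [← hc.card_mul, Nat.card_congr (Subgroup.subgroupOfEquivOfLe hDM).toEquiv,
        Nat.card_congr (Subgroup.subgroupOfEquivOfLe hW).toEquiv]
    have hhall : (Nat.card D).Coprime D.index := by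
      have h1 : D.index = Nat.card W₁ := by
        have := D.card_mul_index
        rw [Nat.card_congr (Subgroup.subgroupOfEquivOfLe hDM).toEquiv, ← hcard] at this
        exact Nat.eq_of_mul_eq_mul_left Nat.card_pos this
      have h2 : W₁.relIndex M = Nat.card ↥⁅M, M⁆ := by
        have := (W₁.subgroupOf M).card_mul_index
        rw [Nat.card_congr (Subgroup.subgroupOfEquivOfLe hP.W₁_compl.2.1).toEquiv, ← hcard,
          mul_comm (Nat.card ↥⁅M, M⁆)] at this
        exact Nat.eq_of_mul_eq_mul_left Nat.card_pos this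
      rw [h1, Nat.card_congr (Subgroup.subgroupOfEquivOfLe hDM).toEquiv, ← h2]
      exact hP.W₁_hall.symm
    have hDH : ⁅M, M⁆ ≤ fittingHallOf M := by
      rw [← inf_eq_left.2 hDM, ← Subgroup.subgroupOf_map_subtype, ← hDdef]
      exact Subgroup.map_mono (le_sSup ⟨hDn, hDnil, hhall⟩)
    rw [← hP.U_compl.2.2.1]
    exact (inf_eq_right.2 (hUD.trans hDH)).symm

end Cfsg.Agent.S1388
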