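import Cfsg.Statements.S1389
import Cfsg.Agent.Lib.OddLocal.KappaTypeData
import Cfsg.Agent.S1382

set_option autoImplicit false
open Cfsg

namespace Cfsg.Agent.S1389

theorem result {G : Type*} [Group G] [Finite G] (hG : Cfsg.IsMinSimpleOddOrder G)
    (M : Subgroup G) (hM : IsCoatom M) :
    (∀ (p : ℕ), p.Prime → ∀ (P : Sylow p ↥(Cfsg.typeCore M)), (P : Subgroup ↥(Cfsg.typeCore M)) ≠ ⊥ →
        Subgroup.normalizer ((((P : Subgroup ↥(Cfsg.typeCore M)).map (Cfsg.typeCore M).subtype : Subgroup G)) : Set G) ≤ M) ∧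
      (Nat.card (Cfsg.fittingHallOf M)).Coprime (Cfsg.fittingHallOf M).index ∧
      (Nat.card (Cfsg.typeCore M)).Coprime (Cfsg.typeCore M).index := by
  have hσM : Cfsg.sigmaCore M ≤ M := Subgroup.map_subtype_le _
  have hFσ := Cfsg.Agent.OddLocal.Support.fittingHallOf_le hG hM
  have hσall := (Cfsg.Agent.OddLocal.Sig.sigmaCore_hall hG hM).1
  have gen : ∀ C : Subgroup G, C ≤ Cfsg.sigmaCore M → (Nat.card C).Coprime (C.relIndex M) →
      (∀ (p : ℕ), p.Prime → ∀ (P : Sylow p ↥C), (P : Subgroup ↥C) ≠ ⊥ →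
        Subgroup.normalizer (((P : Subgroup ↥C).map C.subtype : Subgroup G) : Set G) ≤ M) ∧
      (Nat.card C).Coprime C.index := by
    intro C hC hco
    have hsyl : ∀ {p : ℕ} [Fact p.Prime] {S : Subgroup G}, p ∣ Nat.card C → Cfsg.Agent.Fusion.SylIn p S C →
        Cfsg.Agent.Fusion.SylIn p S ⊤ ∧ Subgroup.normalizer (S : Set G) ≤ M := by
      intro p hp S hd hS
      have h := Cfsg.Agent.OddLocal.Sig.sigma_sylow (hσall.2.1 p hp.out (hd.trans (Subgroup.card_dvd_of_le hC)))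
        (Cfsg.Agent.OddLocal.Kappa.sylIn_of_hallOf
          (Cfsg.Agent.OddLocal.Kappa.coprime_relIndex_hall hco (hC.trans hσM))
          (show p ∈ {q | q ∣ Nat.card C} from hd) hS)
      exact ⟨h.1, h.2.2⟩
    refine ⟨fun p hp P hP => ?_, Nat.coprime_of_dvd fun q hq h1 h2 => ?_⟩
    · haveI := Fact.mk hp
      refine (hsyl ?_ (Cfsg.Agent.Fusion.sylIn_map C P)).2
      obtain ⟨i, hi⟩ := IsPGroup.iff_card.1 P.isPGroup'
      have hi0 : i ≠ 0 := fun h => hP (Subgroup.card_eq_one.1 (by rw [hi, h, pow_zero]))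
      exact ((dvd_pow_self p hi0).trans hi.symm.dvd).trans (Subgroup.card_subgroup_dvd_card _)
    · haveI := Fact.mk hq
      obtain ⟨S, hS⟩ := Cfsg.Agent.Fusion.exists_sylIn (p := q) C
      refine (hsyl h1 hS).1.not_dvd ?_
      rw [Subgroup.relIndex_top_right]
      exact h2.trans (Subgroup.index_dvd_of_le hS.le)
  have hcF := Cfsg.Agent.TypePBasic.fittingHallOf_hall M
  obtain ⟨hC, hco⟩ : Cfsg.typeCore M ≤ Cfsg.sigmaCore M ∧
      (Nat.card (Cfsg.typeCore M)).Coprime ((Cfsg.typeCore M).relIndex M) := by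
    unfold Cfsg.typeCore
    split_ifs with h
    · obtain ⟨K, U, hKU⟩ := Cfsg.Agent.OddLocal.Kappa.exists_full_decomp hG hM
      obtain ⟨hK1, hU, -⟩ := (Cfsg.Agent.S1382.result hG M hM K U hKU).1 h
      rw [Cfsg.Agent.OddLocal.Kappa.derived_eq hG hM hKU hK1, hU, bot_sup_eq]
      exact ⟨le_rfl, Nat.coprime_of_dvd fun q hq h1 h2 => hσall.2.2 q hq (hσall.2.1 q hq h1) h2⟩
    · exact ⟨hFσ, hcF⟩
  exact ⟨(gen _ hC hco).1, (gen _ hFσ hcF).2, (gen _ hC hco).2⟩

end Cfsg.Agent.S1389
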