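import Cfsg.Statements.S1390
import Cfsg.Agent.Lib.OddLocal.KappaTypeI
import Cfsg.Agent.S1382

set_option autoImplicit false
open Cfsg

namespace Cfsg.Agent.S1390

theorem result {G : Type*} [Group G] [Finite G] (hG : Cfsg.IsMinSimpleOddOrder G)
    (M : Subgroup G) (hM : IsCoatom M) (U : Subgroup G)
    (hU : (Cfsg.IsOfTypeI M ∧ Cfsg.IsComplIn (Cfsg.fittingHallOf M) U M) ∨ (Cfsg.IsOfTypeII M ∧ Cfsg.IsComplIn (Cfsg.fittingHallOf M) U ⁅M, M⁆)) :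
    (∀ (p : ℕ), p.Prime → ∀ P : Sylow p U, IsMulCommutative (P : Subgroup U) ∧ Cfsg.PRankLE p 2 (P : Subgroup U)) ∧
      (∀ X : Set G, X ⊆ (U : Set G) \ {1} → X.Nonempty → Cfsg.fittingHallOf M ⊓ Subgroup.centralizer X ≠ ⊥ →
        Subgroup.centralizer X ≤ M ∧ ∀ L : Subgroup G, IsCoatom L → Subgroup.centralizer X ≤ L → L = M) ∧
      Cfsg.IsTISubset (Cfsg.typeA M \ Cfsg.typeA1 M) := by
  obtain ⟨K, U₀, hKU⟩ := Cfsg.Agent.OddLocal.Kappa.exists_full_decomp hG hM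
  have hdata : (U₀ ≠ ⊥ ∧ Cfsg.fittingHallOf M = Cfsg.sigmaCore M) ∧
      ∃ L : Subgroup G, Cfsg.Agent.OddLocal.Kappa.Upper M L U ∧
        Cfsg.typeA M = {a | a ∈ L ∧ a ≠ 1 ∧ ∃ x ∈ Cfsg.sigmaCore M, x ≠ 1 ∧ a * x = x * a} := by
    have hcore : U₀ ≠ ⊥ → Cfsg.fittingHallOf M = Cfsg.sigmaCore M := fun h =>
      (Cfsg.Agent.OddLocal.Support.fittingHallOf_eq hG hM
        (Cfsg.Agent.OddLocal.Kappa.core_nilpotent_of_U hG hM hKU h)).symm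
    rcases hU with ⟨hI, hc⟩ | ⟨hII, hc⟩
    · obtain ⟨hK, hU₀⟩ := Cfsg.Agent.OddLocal.Kappa.typeI_forward hG hM hKU hI
      have he := hcore hU₀
      rw [he] at hc
      refine ⟨⟨hU₀, he⟩, M, ⟨hM, le_rfl, Subgroup.le_normalizer, hc, fun q hq hd _ hκ => ?_⟩, ?_⟩
      · refine hKU.hall.2.2 q hq hκ ?_
        rw [hK, Subgroup.relIndex_bot_left]
        exact hd
      · rw [Cfsg.typeA, if_pos hI, he]
    · obtain ⟨hK1, hU₀⟩ := Cfsg.Agent.OddLocal.Kappa.typeII_forward hG hM hKU hII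
      have he := hcore hU₀
      rw [he] at hc
      have hnI : ¬ Cfsg.IsOfTypeI M := fun h => hK1 (Cfsg.Agent.OddLocal.Kappa.typeI_forward hG hM hKU h).1
      have hn3 : ¬ (Cfsg.IsOfTypeIII M ∨ Cfsg.IsOfTypeIV M) := fun h =>
        hU₀ ((Cfsg.Agent.S1382.result hG M hM K U₀ hKU).1 h).2.1
      have hLM : ⁅M, M⁆ ≤ M := Subgroup.commutator_le_self M
      have hLn : M ≤ Subgroup.normalizer ((⁅M, M⁆ : Subgroup G) : Set G) := fun m hm => Cfsg.Agent.Fusion.mem_normalizer_of_cj_le (by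
        rw [Cfsg.Agent.Fusion.cj, Subgroup.map_commutator, ← Cfsg.Agent.Fusion.cj,
          Cfsg.Agent.Fusion.cj_eq_self (Subgroup.le_normalizer hm)])
      refine ⟨⟨hU₀, he⟩, ⁅M, M⁆, ⟨hM, hLM, hLn, hc, fun q hq hd hσ => ?_⟩, ?_⟩
      · rw [(Cfsg.Agent.OddLocal.Kappa.complIn_card (Cfsg.Agent.OddLocal.Kappa.derived_split hG hM hKU hK1)
          (hLM.trans Cfsg.Agent.OddLocal.Sig.le_normalizer_piCoreOf)).1] at hd
        exact ((Nat.Prime.dvd_mul hq).1 hd).elim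
          (fun h => absurd ((Cfsg.Agent.OddLocal.Sig.sigmaCore_hall hG hM).1.2.1 q hq h) hσ)
          fun h => (Cfsg.Agent.OddLocal.Decomp.U_pi hG hM hKU hq h).2
      · rw [Cfsg.typeA, if_neg hnI, Cfsg.typeCore, if_neg hn3, he]
  obtain ⟨⟨hU₀, he⟩, L, d, hA⟩ := hdata
  have hA1 : Cfsg.typeA1 M = (Cfsg.sigmaCore M : Set G) \ {1} := by
    rw [Cfsg.typeA1, Cfsg.typeCore, if_neg fun h =>
      hU₀ ((Cfsg.Agent.S1382.result hG M hM K U₀ hKU).1 h).2.1, he]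
  refine ⟨fun p hp P => @Cfsg.Agent.OddLocal.Kappa.Upper.sylow_facts _ _ _ _ _ _ d hG p ⟨hp⟩ P,
    fun X hX hne hfix => d.centralizer_facts hG hX hne (he ▸ hfix), fun g hg a ha hga => ?_⟩
  by_contra ha1
  rw [hA, hA1] at ha hga hg
  obtain ⟨⟨haL, -, y, hy, hy1, hay⟩, hnaσ⟩ := ha
  obtain ⟨⟨hgaL, -, y', hy', hy'1, hgay⟩, -⟩ := hga
  have hgM : g ∈ M := d.mem_of_conj hG haL (fun h => hnaσ ⟨h, ha1⟩) hy hy1 hay hgaL hy' hy'1 hgay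
  refine hg ?_
  have key : ∀ m ∈ M, ∀ b ∈ ({a | a ∈ L ∧ a ≠ 1 ∧ ∃ x ∈ Cfsg.sigmaCore M, x ≠ 1 ∧ a * x = x * a} \
        ((Cfsg.sigmaCore M : Set G) \ {1}) : Set G),
      m * b * m⁻¹ ∈ ({a | a ∈ L ∧ a ≠ 1 ∧ ∃ x ∈ Cfsg.sigmaCore M, x ≠ 1 ∧ a * x = x * a} \
        ((Cfsg.sigmaCore M : Set G) \ {1}) : Set G) := by
    rintro m hm b ⟨⟨hb, hb1, x, hx, hx1, hbx⟩, hbn⟩
    have hmσ : m ∈ Subgroup.normalizer (Cfsg.sigmaCore M : Set G) :=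
      Cfsg.Agent.OddLocal.Sig.le_normalizer_piCoreOf hm
    refine ⟨⟨(Subgroup.mem_normalizer_iff.1 (d.normal hm) b).1 hb, fun h => hb1 (conj_eq_one_iff.1 h),
      m * x * m⁻¹, (Subgroup.mem_normalizer_iff.1 hmσ x).1 hx, fun h => hx1 (conj_eq_one_iff.1 h), ?_⟩, ?_⟩
    · rw [conj_mul, conj_mul, hbx]
    · rintro ⟨h, -⟩
      exact hbn ⟨(Subgroup.mem_normalizer_iff.1 hmσ b).2 h, hb1⟩
  refine Subgroup.mem_set_normalizer_iff.2 fun b => ⟨key g hgM b, fun h => ?_⟩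
  have h2 := key g⁻¹ (M.inv_mem hgM) _ h
  rwa [show g⁻¹ * (g * b * g⁻¹) * g⁻¹⁻¹ = b by group] at h2

end Cfsg.Agent.S1390
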