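import Cfsg.Statements.S1391
import Cfsg.Agent.Lib.OddChar.Supporting
import Cfsg.Agent.S1537

set_option autoImplicit false
open Cfsg

namespace Cfsg.Agent.S1391

/-- Let G be a minimal simple group of odd order, M a maximal subgroup, X = A(M) or A₀(M), and D the set of x ∈ X with C_G(x) not contained in M. Then two elements of X conjugate in G are conjugate in M; D ⊆ A₁(M) and for x ∈ D the centralizer C_G(x) lies in exactly one maximal subgroup; and for x ∈ D and the maximal subgroup L containing C_G(x): M ∩ L complements L_F in L, C_M(x) complements the normal subgroup C_{L_F}(x) of C_G(x), the order of L_F is coprime to that of C_M(y) for every y ∈ X, x ∈ A(L) but x ∉ A₁(L), L is of Type I or II, and if L is of Type II then M is a Frobenius group with kernel M_F. -/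
theorem result {G : Type*} [Group G] [Finite G] (hG : Cfsg.IsMinSimpleOddOrder G)
    (M : Subgroup G) (hM : IsCoatom M) (X : Set G) (hX : X = Cfsg.typeA M ∨ X = Cfsg.typeA0 M) :
    (∀ x ∈ X, ∀ g : G, g * x * g⁻¹ ∈ X → ∃ m ∈ M, m * x * m⁻¹ = g * x * g⁻¹) ∧
      (∀ x ∈ X, ¬ Subgroup.centralizer ({x} : Set G) ≤ M → x ∈ Cfsg.typeA1 M ∧ ∃! L : Subgroup G, IsCoatom L ∧ Subgroup.centralizer ({x} : Set G) ≤ L) ∧
      ∀ x ∈ X, ¬ Subgroup.centralizer ({x} : Set G) ≤ M → ∀ L : Subgroup G, IsCoatom L → Subgroup.centralizer ({x} : Set G) ≤ L →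
        Cfsg.IsComplIn (Cfsg.fittingHallOf L) (M ⊓ L) L ∧
        Subgroup.centralizer ({x} : Set G) ≤ Subgroup.normalizer ((Cfsg.fittingHallOf L ⊓ Subgroup.centralizer ({x} : Set G) : Subgroup G) : Set G) ∧
        Cfsg.IsComplIn (Cfsg.fittingHallOf L ⊓ Subgroup.centralizer ({x} : Set G)) (M ⊓ Subgroup.centralizer ({x} : Set G)) (Subgroup.centralizer ({x} : Set G)) ∧
        (∀ y ∈ X, (Nat.card (Cfsg.fittingHallOf L)).Coprime (Nat.card ↥(M ⊓ Subgroup.centralizer ({y} : Set G)))) ∧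
        (x ∈ Cfsg.typeA L ∧ x ∉ Cfsg.typeA1 L) ∧
        (Cfsg.IsOfTypeI L ∨ Cfsg.IsOfTypeII L) ∧
        (Cfsg.IsOfTypeII L → ∃ E : Subgroup ↥M, Cfsg.IsFrobeniusComplement E ∧ Cfsg.frobeniusKernel E = ((Cfsg.fittingHall ↥M : Subgroup ↥M) : Set ↥M)) := by
  obtain ⟨hX0, -⟩ : X ⊆ Cfsg.typeA0 M ∧ True := ⟨by
    rcases hX with rfl | rfl
    exacts [Set.subset_union_left, subset_rfl], trivial⟩
  have hfacts : ∀ x ∈ X, ¬ Subgroup.centralizer ({x} : Set G) ≤ M → x ∈ Cfsg.sigmaCore M ∧ x ≠ 1 := fun x hx hc =>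
    ⟨by_contra fun h => hc (OddLocal.Kappa.centralizer_le_of_not_core hG hM (hX0 hx) h),
      (OddLocal.Kappa.typeA0_mem hG hM (hX0 hx)).2⟩
  refine ⟨(S1537.result hG M hM X (Or.inr hX)).2.fusion, fun x hx hc => ?_, fun x hx hc L' hL' hCL' => ?_⟩
  · obtain ⟨hxσ, hx1⟩ := hfacts x hx hc
    obtain ⟨L, o⟩ := OddLocal.Kappa.exists_over_facts hG hM hxσ hx1 hc
    exact ⟨(OddLocal.Kappa.typeA1_eq hG hM).ge ⟨hxσ, hx1⟩, L, ⟨o.coatom, o.centralizer⟩,
      fun H hH => o.unique H hH.1 hH.2⟩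
  · obtain ⟨hxσ, hx1⟩ := hfacts x hx hc
    obtain ⟨L, o⟩ := OddLocal.Kappa.exists_over_facts hG hM hxσ hx1 hc
    obtain rfl : L' = L := o.unique L' hL' hCL'
    obtain ⟨hn, hcomp, -⟩ := OddLocal.Support.centralizer_compl hG hM hxσ o.coatom o.centralizer o.compl o.inf
    rw [o.core]
    have swap : ∀ {A B W : Subgroup G}, Cfsg.IsComplIn A B W → W ≤ Subgroup.normalizer (B : Set G) →
        Cfsg.IsComplIn B A W := fun {A B W} h hBn => ⟨h.2.1, h.1, by rw [inf_comm]; exact h.2.2.1, fun m hm => by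
      obtain ⟨a, ha, b, hb, rfl⟩ := h.2.2.2 m hm
      exact ⟨a * b * a⁻¹, (Subgroup.mem_normalizer_iff.1 (hBn (h.1 ha)) b).1 hb, a, ha, by group⟩⟩
    refine ⟨swap o.compl OddLocal.Sig.le_normalizer_piCoreOf, hn, swap hcomp hn, fun y hy => ?_,
      ⟨o.memA, o.notA1⟩, Or.inr o.typeII, fun _ => OddLocal.Kappa.exists_frobenius hG hM o.kappa⟩
    obtain ⟨hyσ, hy1⟩ := OddLocal.Kappa.mem_core_of_typeA0 hG hM o.kappa (hX0 hy)
    refine Nat.coprime_of_dvd fun t ht h1 h2 => o.sigma_disjoint t ?_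
      ((OddLocal.Sig.sigmaCore_hall hG o.coatom).1.2.1 t ht h1)
    exact (OddLocal.Sig.sigmaCore_hall hG hM).1.2.1 t ht
      (h2.trans (Subgroup.card_dvd_of_le (OddLocal.Kappa.centralizer_le_core hG hM o.kappa hyσ hy1)))

end Cfsg.Agent.S1391
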