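import Cfsg.Statements.S1396
import Cfsg.Agent.Lib.OddLocal.TransitivityCriteria

set_option autoImplicit false
open Cfsg

namespace Cfsg.Agent.S1396

theorem result {G : Type*} [Group G] [Finite G] (hG : Cfsg.IsMinSimpleOddOrder G)
    (p : ℕ) [Fact p.Prime] (hp : p ∣ Nat.card G) (A : Subgroup G) (hAp : IsPGroup p A) (hAc : IsMulCommutative A)
    (h : (∀ x ∈ Subgroup.centralizer (A : Set G), x ^ p = 1 ↔ x ∈ A) ∧ (∀ H : Subgroup G, H ≠ ⊤ → Cfsg.PLengthLE p 1 H) ∨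
      ∃ P : Sylow p G, Cfsg.IsSCN (P : Subgroup G) A ∧ ¬ Cfsg.PRankLE p 1 A) :
    Cfsg.TransitivityHypothesis A := by
  refine Cfsg.Agent.OddLocal.Transit.criteria hG hp hAp hAc ?_
  rcases h with ⟨h1, -⟩ | ⟨P, hP, -⟩
  · exact Or.inl h1
  · exact Or.inr ⟨P, hP⟩

end Cfsg.Agent.S1396
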