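import Cfsg.Statements.S1398
import Cfsg.Agent.Lib.OddLocal.UniquenessCriterion

set_option autoImplicit false
open Cfsg

namespace Cfsg.Agent.S1398

theorem result {G : Type*} [Group G] [Finite G] (hG : Cfsg.IsMinSimpleOddOrder G)
    (M : Subgroup G) (hM : IsCoatom M) (p : ℕ) [Fact p.Prime] (B : Subgroup G) (hBM : B ≤ M)
    (hBe : Cfsg.IsElementaryAbelian p B) (hBnc : ¬ IsCyclic B)
    (h : (∀ b ∈ B, b ≠ 1 → Subgroup.centralizer ({b} : Set G) ≤ M) ∨
      ∀ Y ∈ Cfsg.invSubgroups ⊤ B (Cfsg.primesNotDvd p), Y ≤ M) :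
    Cfsg.InUniqueMaximal B := by
  exact Cfsg.Agent.OddLocal.Uniq.elementary_criterion hG hM hBM hBe hBnc h

end Cfsg.Agent.S1398
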