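import Cfsg.Statements.S1399
import Cfsg.Agent.Lib.OddLocal.UniquenessBasics

set_option autoImplicit false
open Cfsg

namespace Cfsg.Agent.S1399

theorem result {G : Type*} [Group G] [Finite G] (hG : Cfsg.IsMinSimpleOddOrder G)
    (L K : Subgroup G) (hL : Cfsg.InUniqueMaximal L) (hK : K ≤ Subgroup.centralizer (L : Set G)) (hKr : ¬ Cfsg.RankLE 1 K) :
    Cfsg.InUniqueMaximal K := by
  exact Cfsg.Agent.OddLocal.Uniq.iu_of_commute hG hL hK hKr

end Cfsg.Agent.S1399
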