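import Cfsg.Statements.S1402
import Cfsg.Agent.Lib.OddLocal.UniquenessTheorem

set_option autoImplicit false
open Cfsg

namespace Cfsg.Agent.S1402

theorem result {G : Type*} [Group G] [Finite G] (hG : Cfsg.IsMinSimpleOddOrder G)
    (p : ℕ) [Fact p.Prime] (P : Sylow p G) (A : Subgroup G) (hA : Cfsg.IsSCN (P : Subgroup G) A) (hA3 : ¬ Cfsg.PRankLE p 2 ↥A) :
    Cfsg.InUniqueMaximal A := by
  exact Cfsg.Agent.OddLocal.Uniq.scn_three_iu hG P hA hA3

end Cfsg.Agent.S1402
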