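import Cfsg.Statements.S1403
import Cfsg.Agent.Lib.OddLocal.UniquenessTheorem

set_option autoImplicit false
open Cfsg

namespace Cfsg.Agent.S1403

theorem result {G : Type*} [Group G] [Finite G] (hG : Cfsg.IsMinSimpleOddOrder G)
    (K : Subgroup G) (hK : K ≠ ⊤) (hK2 : ¬ Cfsg.RankLE 1 K)
    (hK3 : ¬ Cfsg.RankLE 2 K ∨ ¬ Cfsg.RankLE 2 (Subgroup.centralizer (K : Set G))) :
    Cfsg.InUniqueMaximal K := by
  exact Cfsg.Agent.OddLocal.Uniq.uniqueness_theorem hG hK hK2 hK3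

end Cfsg.Agent.S1403
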