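import Cfsg.Statements.S1404
import Cfsg.Agent.Lib.OddLocal.SigmaStructure

set_option autoImplicit false
open Cfsg

namespace Cfsg.Agent.S1404

theorem result {G : Type*} [Group G] [Finite G] (hG : Cfsg.IsMinSimpleOddOrder G)
    (M : Subgroup G) (hM : IsCoatom M) (p : ℕ) [Fact p.Prime] (hp : p ∈ Cfsg.sigma M)
    (X : Subgroup G) (hXp : IsPGroup p X) (hX1 : X ≠ ⊥) (hXM : X ≤ M) :
    (∀ g : G, X.map (MulAut.conj g).toMonoidHom ≤ M → ∃ m ∈ M, ∃ c ∈ Subgroup.centralizer (X : Set G), g = m * c) ∧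
      Subgroup.normalizer (X : Set G) = (M ⊓ Subgroup.normalizer (X : Set G)) ⊔ Subgroup.centralizer (X : Set G) := by
  refine ⟨fun g hg => Cfsg.Agent.OddLocal.Sig.conj_factor hG hp hM X hXp hX1 hXM g hg,
    Cfsg.Agent.OddLocal.Sig.normalizer_eq hG hp hM hXp hX1 hXM⟩

end Cfsg.Agent.S1404
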