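import Cfsg.Statements.S1406
import Cfsg.Agent.Lib.OddLocal.SigmaPLength

set_option autoImplicit false
open Cfsg

namespace Cfsg.Agent.S1406

theorem result {G : Type*} [Group G] [Finite G] (hG : Cfsg.IsMinSimpleOddOrder G)
    (M : Subgroup G) (hM : IsCoatom M) (X : Subgroup G) (hXM : X ≤ M) (hXα : ∀ p : ℕ, p.Prime → p ∣ Nat.card X → p ∉ Cfsg.alpha M)
    (hr : ¬ Cfsg.RankLE 1 ↥(Cfsg.alphaCore M ⊓ Subgroup.centralizer (X : Set G))) :
    Cfsg.InUniqueMaximal (M ⊓ Subgroup.centralizer (X : Set G)) := by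
  exact Cfsg.Agent.OddLocal.Sig.centralizer_unique hG hM hXM hXα hr

end Cfsg.Agent.S1406
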