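import Cfsg.Statements.S1408
import Cfsg.Agent.Lib.OddLocal.SigmaPLength

set_option autoImplicit false
open Cfsg

namespace Cfsg.Agent.S1408

theorem result {G : Type*} [Group G] [Finite G] (hG : Cfsg.IsMinSimpleOddOrder G)
    (M : Subgroup G) (hM : IsCoatom M) (p : ℕ) [Fact p.Prime] (hp : p ∉ Cfsg.sigma M) (hr2 : Cfsg.PRankLE p 2 M) (hr1 : ¬ Cfsg.PRankLE p 1 M) :
    ¬ Cfsg.IsIdealPrime p G ∧ ∀ A : Subgroup G, A ≤ M → Cfsg.IsElementaryAbelian p A → Nat.card A = p ^ 2 →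
        ∀ B : Subgroup G, Cfsg.IsElementaryAbelian p B → A ≤ B → B = A := by
  exact Cfsg.Agent.OddLocal.Sig.not_ideal hG hM hr2 hr1

end Cfsg.Agent.S1408
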