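import Cfsg.Statements.S1411
import Cfsg.Agent.Lib.OddLocal.SylowStructure

set_option autoImplicit false
open Cfsg

namespace Cfsg.Agent.S1411

theorem result {G : Type*} [Group G] [Finite G] (hG : Cfsg.IsMinSimpleOddOrder G) (p : ℕ) [Fact p.Prime] (P : Sylow p G)
    (V : Subgroup G) (hV : Cfsg.IsComplIn (P : Subgroup G) V (Subgroup.normalizer ((P : Subgroup G) : Set G))) :
    (P : Subgroup G) = ⁅(P : Subgroup G), V⁆ ∧
      (P : Subgroup G) ≤ ⁅Subgroup.normalizer ((P : Subgroup G) : Set G), Subgroup.normalizer ((P : Subgroup G) : Set G)⁆ := by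
  refine ⟨?_, Cfsg.Agent.OddLocal.Sig.sylow_le_normalizer_derived hG P⟩
  by_cases hP : (P : Subgroup G) = ⊥
  · rw [hP, Subgroup.commutator_bot_left]
  · exact (Cfsg.Agent.OddLocal.Sig.compl_facts hG P hP hV).1

end Cfsg.Agent.S1411
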