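import Cfsg.Statements.S1420
import Cfsg.Agent.Lib.OddLocal.TauTwoCentralizer

set_option autoImplicit false
open Cfsg

namespace Cfsg.Agent.S1420

theorem result {G : Type*} [Group G] [Finite G] (hG : Cfsg.IsMinSimpleOddOrder G)
    (M : Subgroup G) (hM : IsCoatom M) (E : Subgroup G) (hE : Cfsg.IsComplIn E (Cfsg.sigmaCore M) M) :
    (∀ N : Subgroup G, N ≤ M → Group.IsNilpotent N → (∀ p : ℕ, p.Prime → p ∣ Nat.card N → p ∉ Cfsg.sigma M) → IsMulCommutative N) ∧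
      IsMulCommutative ↥⁅E, E⁆ ∧
      (∀ (p : ℕ) (P : Subgroup G), p ∈ Cfsg.sigma M → IsPGroup p P → P ≤ M → ¬ IsCyclic P → Subgroup.normalizer (P : Set G) ≤ M) ∧
      ∀ x ∈ M, x ≠ 1 → (∀ p : ℕ, p.Prime → p ∣ orderOf x → p ∈ Cfsg.tau2 M) → x ∈ Cfsg.sigmaHat M →
        Subgroup.centralizer ({x} : Set G) ≤ M ∧ ∀ L : Subgroup G, IsCoatom L → Subgroup.centralizer ({x} : Set G) ≤ L → L = M := by
  refine ⟨fun N hNM hN h => Cfsg.Agent.OddLocal.TauTwo.nilpotent_abelian hG hM hNM hN h,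
    Cfsg.Agent.OddLocal.TauTwo.compl_derived_abelian hG hM hE, fun p P hσ hP hPM hPc => ?_,
    fun x hxM hx1 hτ hx => ?_⟩
  · haveI := Fact.mk hσ.1
    exact Cfsg.Agent.OddLocal.TauTwo.normalizer_le_of_noncyclic hG hM hσ hP hPM hPc
  · obtain ⟨-, y, hy, hy1, hxy⟩ := hx
    exact Cfsg.Agent.OddLocal.TauTwo.element_unique hG hM hE hxM hx1 hτ hy hy1 hxy

end Cfsg.Agent.S1420
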