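import Cfsg.Statements.S1427
import Cfsg.Agent.Lib.OddLocal.CyclicFixed

set_option autoImplicit false
open Cfsg

namespace Cfsg.Agent.S1427

theorem result {G : Type*} [Group G] [Finite G] (hG : Cfsg.IsMinSimpleOddOrder G)
    (M : Subgroup G) (hM : IsCoatom M) (E : Subgroup G) (hE : Cfsg.IsComplIn E (Cfsg.sigmaCore M) M) (p : ℕ) [Fact p.Prime] (S : Sylow p E) (hS1 : (S : Subgroup E) ≠ ⊥) (hSc : IsCyclic (S : Subgroup E)) :
    ∀ x ∈ (S : Subgroup E).map E.subtype, x ≠ 1 →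
        Cfsg.sigmaCore M ⊓ Subgroup.centralizer ({x} : Set G) = Cfsg.sigmaCore M ⊓ Subgroup.centralizer (((S : Subgroup E).map E.subtype : Subgroup G) : Set G) := by
  intro x hx hx1
  have hP := Cfsg.Agent.Fusion.sylIn_map E S
  set P := (S : Subgroup E).map E.subtype with hPd
  haveI := hSc
  have hPc : IsCyclic ↥P :=
    isCyclic_of_surjective ((S : Subgroup E).equivMapOfInjective E.subtype E.subtype_injective)
      (MulEquiv.surjective _)
  have hpE : p ∣ Nat.card E := by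
    obtain ⟨j, hj⟩ := IsPGroup.iff_card.1 S.isPGroup'
    refine (dvd_pow_self p fun h => hS1 (Subgroup.card_eq_one.1 (by rw [hj, h, pow_zero]))).trans
      (hj ▸ Subgroup.card_subgroup_dvd_card _)
  have hσ : p ∉ Cfsg.sigma M := Cfsg.Agent.OddLocal.Sig.compl_pi hG hM hE Fact.out hpE
  have hPM := Cfsg.Agent.OddLocal.Sig.compl_sylIn hG hM hE hσ hP
  have hr1 : Cfsg.PRankLE p 1 ↥M := by
    by_contra hr
    obtain ⟨F, hFM, hFe, hFc⟩ := Cfsg.Agent.OddLocal.Uniq.exists_elab_of_prank hr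
    obtain ⟨g, -, hg⟩ := hPM.conj_le (Cfsg.Agent.Fusion.elab_isPGroup hFe) hFM
    haveI := hPc
    have hc : IsCyclic ↥(Cfsg.Agent.Fusion.cj F g) :=
      isCyclic_of_injective (Subgroup.inclusion hg) (Subgroup.inclusion_injective hg)
    haveI := hc
    exact Cfsg.Agent.OddLocal.Uniq.noncyclic_of_card hFe hFc
      (isCyclic_of_surjective (F.equivMapOfInjective (MulAut.conj g).toMonoidHom (MulAut.conj g).injective).symm
        (MulEquiv.surjective _))
  obtain ⟨j, hj⟩ := IsPGroup.iff_orderOf.1 hP.isPGroup ⟨x, hx⟩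
  rw [Subgroup.orderOf_mk] at hj
  have hj0 : j ≠ 0 := fun h => hx1 (orderOf_eq_one_iff.1 (by rw [hj, h, pow_zero]))
  have ho : orderOf (x ^ (orderOf x / p)) = p :=
    orderOf_pow_orderOf_div (orderOf_pos x).ne' (hj ▸ dvd_pow_self p hj0)
  refine le_antisymm (le_inf inf_le_left (le_trans (inf_le_inf_left _ ?_)
    (Cfsg.Agent.OddLocal.TauTwo.fixed_cyclic hG hM hσ hr1 hP.isPGroup hPM.le hPc
      (U := Subgroup.zpowers (x ^ (orderOf x / p))) (Subgroup.zpowers_le.2 (pow_mem hx _))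
      (by rw [Nat.card_zpowers, ho])))) (inf_le_inf_left _ (Subgroup.centralizer_le (by simpa using hx)))
  rw [← Cfsg.Agent.OddLocal.Sig.centralizer_zpowers]
  exact Subgroup.centralizer_le (Subgroup.zpowers_le.2 (pow_mem (Subgroup.mem_zpowers x) _))

end Cfsg.Agent.S1427
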