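import Cfsg.Statements.S1428
import Cfsg.Agent.Lib.OddLocal.PrimeContain

set_option autoImplicit false
open Cfsg

namespace Cfsg.Agent.S1428

theorem result {G : Type*} [Group G] [Finite G] (hG : Cfsg.IsMinSimpleOddOrder G)
    (M : Subgroup G) (hM : IsCoatom M) (E : Subgroup G) (hE : Cfsg.IsComplIn E (Cfsg.sigmaCore M) M) (p : ℕ) (hp : p ∈ Cfsg.tau1 M) (P : Subgroup G) (hPE : P ≤ E) (hP : Nat.card P = p)
    (R : Subgroup G) (hRE : R ≤ E ⊓ Subgroup.centralizer (P : Set G)) (hR : (Nat.card R).Prime) :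
    Cfsg.sigmaCore M ⊓ Subgroup.centralizer (P : Set G) ≤ Cfsg.sigmaCore M ⊓ Subgroup.centralizer (R : Set G) := by
  haveI := Fact.mk hp.1
  haveI := Fact.mk hR
  obtain ⟨hRE', hRP⟩ := le_inf_iff.1 hRE
  obtain ⟨x, hxP, hx1⟩ := Cfsg.Agent.OddLocal.RankTwo.exists_ne_one
    (fun h : P = ⊥ => hp.1.ne_one (by rw [← hP, h, Subgroup.card_bot]))
  obtain ⟨w, hwR, hw1⟩ := Cfsg.Agent.OddLocal.RankTwo.exists_ne_one
    (fun h : R = ⊥ => hR.ne_one (by rw [h, Subgroup.card_bot]))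
  have hxo : orderOf x = p := by
    have h : orderOf x ∣ p := hP ▸ Subgroup.orderOf_dvd_natCard P hxP
    exact (hp.1.eq_one_or_self_of_dvd _ h).resolve_left fun h => hx1 (orderOf_eq_one_iff.1 h)
  have hwo : orderOf w = Nat.card R :=
    (hR.eq_one_or_self_of_dvd _ (Subgroup.orderOf_dvd_natCard R hwR)).resolve_left
      fun h => hw1 (orderOf_eq_one_iff.1 h)
  have hPeq : Subgroup.zpowers x = P := Subgroup.eq_of_le_of_card_ge (Subgroup.zpowers_le.2 hxP)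
    (by rw [hP, Nat.card_zpowers, hxo])
  have hReq : Subgroup.zpowers w = R := Subgroup.eq_of_le_of_card_ge (Subgroup.zpowers_le.2 hwR)
    (by rw [Nat.card_zpowers, hwo])
  refine le_inf inf_le_left ?_
  rw [← hPeq, ← hReq]
  exact Cfsg.Agent.OddLocal.Prime.fixed_le_centralizer hG hM (hE.1 (hPE hxP)) hxo hp.2.1 hp.2.2.2.2 hp.2.2.2.1
    (hE.1 (hRE' hwR)) hwo (fun h => Cfsg.Agent.OddLocal.Sig.compl_pi hG hM hE hR
      (Subgroup.card_dvd_of_le hRE') h) (Subgroup.mem_centralizer_iff.1 (hRP hwR) x hxP).symm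

end Cfsg.Agent.S1428
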