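import Cfsg.Statements.S1430
import Cfsg.Agent.Lib.OddLocal.KappaComplement

set_option autoImplicit false
open Cfsg

namespace Cfsg.Agent.S1430

theorem result {G : Type*} [Group G] [Finite G] (hG : Cfsg.IsMinSimpleOddOrder G)
    (M : Subgroup G) (hM : IsCoatom M) (K : Subgroup G) (hK : Cfsg.IsPiHallOf (Cfsg.kappa M) K M) (hK1 : K ≠ ⊥) :
    (∀ k ∈ K, k ≠ 1 → Cfsg.sigmaCore M ⊓ Subgroup.centralizer ({k} : Set G) = (Cfsg.sigmaCore M ⊓ Subgroup.centralizer (K : Set G))) ∧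
      (∃ U : Subgroup G, IsMulCommutative U ∧ Cfsg.IsPiHallOf {q | q.Prime ∧ q ∉ Cfsg.kappa M ∧ q ∉ Cfsg.sigma M} U M ∧
        K ≤ Subgroup.normalizer (U : Set G) ∧ ∀ k ∈ K, k ≠ 1 → U ⊓ Subgroup.centralizer ({k} : Set G) = ⊥) ∧
      ∀ X : Subgroup G, X ≤ K → (Nat.card X).Prime →
        M ⊓ Subgroup.normalizer (X : Set G) = K ⊔ (Cfsg.sigmaCore M ⊓ Subgroup.centralizer (K : Set G)) ∧ M ⊓ Subgroup.normalizer (K : Set G) = K ⊔ (Cfsg.sigmaCore M ⊓ Subgroup.centralizer (K : Set G)) ∧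
        ∀ Mstar : Subgroup G, IsCoatom Mstar → Subgroup.normalizer (X : Set G) ≤ Mstar → X ≤ Cfsg.sigmaCore Mstar := by
  obtain ⟨E, U, hF⟩ := Cfsg.Agent.OddLocal.Kappa.exists_frame hG hM hK hK1
  refine ⟨fun k hk hk1 => Cfsg.Agent.OddLocal.Kappa.prime_action hG hM hK hk hk1,
    ⟨U, hF.abelian, hF.hall, hF.le.trans hF.normal, fun k hk hk1 => eq_bot_iff.2 fun u hu =>
      Subgroup.mem_bot.2 (hF.fpf k hk hk1 u hu.1 (Subgroup.mem_centralizer_singleton_iff.1 hu.2))⟩,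
    fun X hXK hX => ?_⟩
  obtain ⟨hKX, hover⟩ := Cfsg.Agent.OddLocal.Kappa.line_facts hG hM hK hF hXK hX
  exact ⟨Cfsg.Agent.OddLocal.Kappa.normalizer_eq hG hM hK hF hXK
      (fun h => Nat.not_prime_one (by rw [h, Subgroup.card_bot] at hX; exact hX)) hKX,
    Cfsg.Agent.OddLocal.Kappa.normalizer_eq hG hM hK hF le_rfl hK1 Subgroup.le_normalizer, hover⟩

end Cfsg.Agent.S1430
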