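import Cfsg.Statements.S1431
import Cfsg.Agent.Lib.OddLocal.KappaStar

set_option autoImplicit false
open Cfsg

namespace Cfsg.Agent.S1431

theorem result {G : Type*} [Group G] [Finite G] (hG : Cfsg.IsMinSimpleOddOrder G)
    (M : Subgroup G) (hM : IsCoatom M) (K : Subgroup G) (hK : Cfsg.IsPiHallOf (Cfsg.kappa M) K M) (hK1 : K ≠ ⊥) :
    (∀ g : G, g ∉ M → (Cfsg.sigmaCore M ⊓ Subgroup.centralizer (K : Set G)) ⊓ M.map (MulAut.conj g).toMonoidHom = ⊥) ∧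
      (∀ g ∈ M, g ∉ K ⊔ (Cfsg.sigmaCore M ⊓ Subgroup.centralizer (K : Set G)) → K ⊓ K.map (MulAut.conj g).toMonoidHom = ⊥) ∧
      (∀ (p : ℕ), p.Prime → p ∣ Nat.card ↥(Cfsg.sigmaCore M ⊓ Subgroup.centralizer (K : Set G)) → ∀ S : Sylow p ↥(Cfsg.sigmaCore M),
        Cfsg.InUniqueMaximal ((S : Subgroup ↥(Cfsg.sigmaCore M)).map (Cfsg.sigmaCore M).subtype) ∧
        (S : Subgroup ↥(Cfsg.sigmaCore M)).map (Cfsg.sigmaCore M).subtype ≤ M ∧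
        ¬ (S : Subgroup ↥(Cfsg.sigmaCore M)).map (Cfsg.sigmaCore M).subtype ≤ (Cfsg.sigmaCore M ⊓ Subgroup.centralizer (K : Set G))) ∧
      ∀ Y : Subgroup G, (∀ p : ℕ, p.Prime → p ∣ Nat.card Y → p ∈ Cfsg.sigma M) → Y ⊓ (Cfsg.sigmaCore M ⊓ Subgroup.centralizer (K : Set G)) ≠ ⊥ → Y ≤ Cfsg.sigmaCore M := by
  obtain ⟨E, U, hF⟩ := Cfsg.Agent.OddLocal.Kappa.exists_frame hG hM hK hK1
  refine ⟨fun g hg => Cfsg.Agent.OddLocal.Kappa.star_inf_conj hG hM hK hK1 hg,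
    fun g hgM hg => Cfsg.Agent.OddLocal.Kappa.inf_conj hG hM hK hF hgM hg, fun p hp hpd S => ?_,
    fun Y hY hm => Cfsg.Agent.OddLocal.Kappa.le_core_of_star hG hM hK hK1 hY hm⟩
  haveI := Fact.mk hp
  have hS := Cfsg.Agent.Fusion.sylIn_map (Cfsg.sigmaCore M) S
  have hσM : Cfsg.sigmaCore M ≤ M := Subgroup.map_subtype_le _
  have hall := (Cfsg.Agent.OddLocal.Sig.sigmaCore_hall hG hM).1
  have hσ : p ∈ Cfsg.sigma M := hall.2.1 p hp (hpd.trans (Subgroup.card_dvd_of_le inf_le_left))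
  have hSM : Cfsg.Agent.Fusion.SylIn p ((S : Subgroup ↥(Cfsg.sigmaCore M)).map (Cfsg.sigmaCore M).subtype) M :=
    ⟨hS.le.trans hσM, hS.isPGroup, by
      rw [← Subgroup.relIndex_mul_relIndex _ (Cfsg.sigmaCore M) M hS.le hσM]
      exact hp.prime.not_dvd_mul hS.not_dvd (hall.2.2 p hp hσ)⟩
  exact ⟨Cfsg.Agent.OddLocal.Kappa.sylow_unique hG hM hK hF hK1 hpd hS, hSM.le,
    Cfsg.Agent.OddLocal.Kappa.sylow_not_le_star hG hM hK hF hK1 hσ hSM⟩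

end Cfsg.Agent.S1431
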