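import Cfsg.Statements.S1432
import Cfsg.Agent.Lib.OddLocal.PrimeCentralizer

set_option autoImplicit false
open Cfsg

namespace Cfsg.Agent.S1432

theorem result {G : Type*} [Group G] [Finite G] (hG : Cfsg.IsMinSimpleOddOrder G)
    (M : Subgroup G) (hM : IsCoatom M) (x : G) (hx : x ∈ Cfsg.sigmaCore M) (hx1 : x ≠ 1) (x' : G) (hx' : x' ∈ M ⊓ Subgroup.centralizer ({x} : Set G)) (hx'1 : x' ≠ 1)
    (hσ : ∀ p : ℕ, p.Prime → p ∣ orderOf x' → p ∉ Cfsg.sigma M) :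
    ((∀ p : ℕ, p.Prime → p ∣ orderOf x' → p ∈ Cfsg.kappa M) ∧ Subgroup.centralizer ({x} : Set G) ≤ M) ∨
      ((∀ p : ℕ, p.Prime → p ∣ orderOf x' → p ∈ Cfsg.tau2 M) ∧
        (∃ L : Subgroup G, IsCoatom L ∧ ∀ p : ℕ, p.Prime → p ∣ orderOf x' → p ∈ Cfsg.sigma L) ∧
        (Subgroup.centralizer ({x'} : Set G) ≤ M ∧ ∀ L : Subgroup G, IsCoatom L → Subgroup.centralizer ({x'} : Set G) ≤ L → L = M)) := by
  obtain ⟨hxM', hxC⟩ := Subgroup.mem_inf.1 hx'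
  have hcomm : x' * x = x * x' := Subgroup.mem_centralizer_singleton_iff.1 hxC
  rcases Cfsg.Agent.OddLocal.Prime.fixed_dichotomy hG hM hxM' hx hx1 hcomm hx'1 hσ with h | h
  · exact Or.inl h
  obtain ⟨E, hE⟩ := Cfsg.Agent.OddLocal.TauTwo.exists_compl hG hM
  refine Or.inr ⟨h, ?_, Cfsg.Agent.OddLocal.TauTwo.element_unique hG hM hE hxM' hx'1 h hx hx1 hcomm⟩
  obtain ⟨s, n, hs, hsd, -⟩ := Cfsg.Agent.OddLocal.Prime.exists_prime_power_order hx'1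
  haveI := Fact.mk hs
  obtain ⟨A, hAE, sA⟩ := Cfsg.Agent.OddLocal.TauTwo.exists_setup_in_compl hG hM hE (h s hs hsd)
  obtain ⟨H, hH, hNH⟩ := Cfsg.Agent.OddLocal.Uniq.exists_coatom _
    (Cfsg.Agent.OddLocal.Sig.normalizer_pgroup_ne_top hG (Cfsg.Agent.Fusion.elab_isPGroup sA.elem) sA.ne_bot)
  exact ⟨H, hH, fun t ht htd => Cfsg.Agent.OddLocal.Prime.tau2_common sA hE hAE hH hNH (h t ht htd)⟩

end Cfsg.Agent.S1432
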