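import Cfsg.Statements.S1434
import Cfsg.Agent.Lib.OddLocal.KappaHat

set_option autoImplicit false
open Cfsg

namespace Cfsg.Agent.S1434

theorem result {G : Type*} [Group G] [Finite G] (hG : Cfsg.IsMinSimpleOddOrder G)
    (M : Subgroup G) (hM : IsCoatom M) (K U : Subgroup G) (hKU : Cfsg.IsSigmaDecomposition M K U) (hK1 : K ≠ ⊥) (Mstar : Subgroup G) (hMstar : IsCoatom Mstar)
    (hKst : K = Cfsg.sigmaCore Mstar ⊓ Subgroup.centralizer ((Cfsg.sigmaCore M ⊓ Subgroup.centralizer (K : Set G)) : Set G))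
    (hKstH : Cfsg.IsPiHallOf (Cfsg.kappa Mstar) (Cfsg.sigmaCore M ⊓ Subgroup.centralizer (K : Set G)) Mstar) :
    Cfsg.kappa M = Cfsg.tau1 M ∧ Cfsg.IsPiHallOf (Cfsg.sigma M) (Cfsg.sigmaCore M ⊓ Subgroup.centralizer (K : Set G)) Mstar ∧
      (∀ x ∈ K, x ≠ 1 → ∀ y ∈ (Cfsg.sigmaCore M ⊓ Subgroup.centralizer (K : Set G)), y ≠ 1 →
        M ⊓ Subgroup.centralizer ({x} : Set G) = K ⊔ (Cfsg.sigmaCore M ⊓ Subgroup.centralizer (K : Set G)) ∧ Mstar ⊓ Subgroup.centralizer ({y} : Set G) = K ⊔ (Cfsg.sigmaCore M ⊓ Subgroup.centralizer (K : Set G)) ∧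
        Subgroup.centralizer ({x * y} : Set G) = K ⊔ (Cfsg.sigmaCore M ⊓ Subgroup.centralizer (K : Set G))) ∧
      (∀ g : G, g ∉ M → ∀ z ∈ ((↑(K ⊔ (Cfsg.sigmaCore M ⊓ Subgroup.centralizer (K : Set G))) : Set G) \ ((K : Set G) ∪ ↑(Cfsg.sigmaCore M ⊓ Subgroup.centralizer (K : Set G)))), z ∉ M.map (MulAut.conj g).toMonoidHom) ∧
      Nat.card K * Nat.card ↥(Cfsg.sigmaCore M ⊓ Subgroup.centralizer (K : Set G)) * Set.ncard {a : G | ∃ g : G, ∃ z ∈ ((↑(K ⊔ (Cfsg.sigmaCore M ⊓ Subgroup.centralizer (K : Set G))) : Set G) \ ((K : Set G) ∪ ↑(Cfsg.sigmaCore M ⊓ Subgroup.centralizer (K : Set G)))), a = g * z * g⁻¹} =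
        (Nat.card K * Nat.card ↥(Cfsg.sigmaCore M ⊓ Subgroup.centralizer (K : Set G)) - Nat.card K - Nat.card ↥(Cfsg.sigmaCore M ⊓ Subgroup.centralizer (K : Set G)) + 1) * Nat.card G ∧
      Nat.card G < 2 * Set.ncard {a : G | ∃ g : G, ∃ z ∈ ((↑(K ⊔ (Cfsg.sigmaCore M ⊓ Subgroup.centralizer (K : Set G))) : Set G) \ ((K : Set G) ∪ ↑(Cfsg.sigmaCore M ⊓ Subgroup.centralizer (K : Set G)))), a = g * z * g⁻¹} := by
  have hC1 := Cfsg.Agent.OddLocal.Kappa.star_ne_bot hG hM hKU.hall hK1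
  have hsig := Cfsg.Agent.OddLocal.Kappa.star_sigma_hall hG hM hKU.hall hK1 hMstar hKst hKstH
  have hhalf := Cfsg.Agent.OddLocal.Kappa.hat_half hG hM hKU.hall hK1
  refine ⟨Cfsg.Agent.OddLocal.Kappa.kappa_eq_tau1 hG hM hKU.hall hK1, hsig, fun x hx hx1 y hy hy1 => ⟨?_, ?_, ?_⟩,
    fun g hg z hz => Cfsg.Agent.OddLocal.Kappa.hat_not_mem_cj hG hM hKU.hall hK1 hg hz, hhalf.1, hhalf.2⟩
  · obtain ⟨E, U', hF⟩ := Cfsg.Agent.OddLocal.Kappa.exists_frame hG hM hKU.hall hK1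
    exact Cfsg.Agent.OddLocal.Kappa.centralizer_eq hG hM hKU.hall hF
      (Cfsg.Agent.OddLocal.Kappa.comm_of_cyclic hKU.cyclic) hx hx1
  · rw [Cfsg.Agent.OddLocal.Kappa.coe_meet] at hKst
    obtain ⟨E, U', hF⟩ := Cfsg.Agent.OddLocal.Kappa.exists_frame hG hMstar hKstH hC1
    rw [Cfsg.Agent.OddLocal.Kappa.centralizer_eq hG hMstar hKstH hF
      (Cfsg.Agent.OddLocal.Kappa.comm_of_cyclic (Cfsg.Agent.OddLocal.Kappa.hall_cyclic hG hMstar hKstH)) hy hy1,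
      ← hKst, sup_comm]
  · exact Cfsg.Agent.OddLocal.Kappa.hat_centralizer hG hM hKU.hall hK1
      (Cfsg.Agent.OddLocal.Kappa.hat_mem hG hM hKU.hall hx hy hx1 hy1)

end Cfsg.Agent.S1434
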