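import Cfsg.Statements.S1436
import Cfsg.Agent.Lib.OddLocal.KappaSupport

set_option autoImplicit false
open Cfsg

namespace Cfsg.Agent.S1436

theorem result {G : Type*} [Group G] [Finite G] (hG : Cfsg.IsMinSimpleOddOrder G)
    (M : Subgroup G) (hM : IsCoatom M) (x : G) (hx : x ∈ Cfsg.sigmaCore M) (hx1 : x ≠ 1) (hxM : ¬ Subgroup.centralizer ({x} : Set G) ≤ M)
    (N : Subgroup G) (hN : IsCoatom N) (hxN : Subgroup.centralizer ({x} : Set G) ≤ N) :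
    ((∃ p ∈ Cfsg.sigma N, p ∣ Nat.card M) → Cfsg.kappa M = ∅ ∧ Cfsg.tau2 M = ∅) ∧
      ∀ (y : G) (N' : Subgroup G) (g : G), y ∈ Cfsg.sigmaCore M → y ≠ 1 → ¬ Subgroup.centralizer ({y} : Set G) ≤ M → IsCoatom N' → Subgroup.centralizer ({y} : Set G) ≤ N' →
        N'.map (MulAut.conj g).toMonoidHom = N → ∃ m ∈ M, N'.map (MulAut.conj m).toMonoidHom = N := by
  obtain ⟨r, hr, hrσ, hrτ, hc⟩ := OddLocal.Kappa.over_data hG hM hx hx1 hxM hN hxN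
  refine ⟨fun ⟨p, hp, hpM⟩ => ?_, fun y N' g hy hy1 hyM hN' hyN hg =>
    OddLocal.Kappa.over_conj hG hM hx hx1 hxM hN hxN hy hy1 hyM hN' hyN hg⟩
  haveI := Fact.mk hr
  haveI := Fact.mk hp.1
  exact OddLocal.Kappa.kappa_tau_empty hG hM hN hrσ hrτ hc hp hpM

end Cfsg.Agent.S1436
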