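import Cfsg.Statements.S1437
import Cfsg.Agent.Lib.OddLocal.KappaNonnilpotent

set_option autoImplicit false
open Cfsg

namespace Cfsg.Agent.S1437

theorem result {G : Type*} [Group G] [Finite G] (hG : Cfsg.IsMinSimpleOddOrder G)
    (M : Subgroup G) (hM : IsCoatom M) (K U : Subgroup G) (hKU : Cfsg.IsSigmaDecomposition M K U) (hne : Cfsg.fittingHallOf M ≠ Cfsg.sigmaCore M) :
    U = ⊥ ∧ Cfsg.sigmaCore M = ⁅M, M⁆ ∧ (Nat.card K).Prime ∧ (Nat.card ↥(Cfsg.sigmaCore M ⊓ Subgroup.centralizer (K : Set G))).Prime ∧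
      Nat.card ↥(Cfsg.sigmaCore M ⊓ Subgroup.centralizer (K : Set G)) ∣ Nat.card (Cfsg.fittingHallOf M) ∧ Nat.card ↥(Cfsg.sigmaCore M ⊓ Subgroup.centralizer (K : Set G)) ∈ Cfsg.beta M ∧
      ∃ Q : Subgroup G, Q ≤ Cfsg.fittingHallOf M ∧ M ≤ Subgroup.normalizer (Q : Set G) ∧ IsPGroup (Nat.card ↥(Cfsg.sigmaCore M ⊓ Subgroup.centralizer (K : Set G))) Q ∧
        ¬ Nat.card ↥(Cfsg.sigmaCore M ⊓ Subgroup.centralizer (K : Set G)) ∣ Q.relIndex (Cfsg.sigmaCore M) ∧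
        ∀ D : Subgroup G, Cfsg.IsComplIn Q D (Cfsg.sigmaCore M) →
          Group.IsNilpotent D ∧ M ≤ Subgroup.normalizer ((Q ⊓ Subgroup.centralizer (D : Set G) : Subgroup G) : Set G) ∧
          Q ⊓ Subgroup.centralizer (D : Set G) < Q ∧
          Nat.card Q = Nat.card ↥(Q ⊓ Subgroup.centralizer (D : Set G)) * Nat.card ↥(Cfsg.sigmaCore M ⊓ Subgroup.centralizer (K : Set G)) ^ Nat.card K ∧
          (∀ a ∈ Q, ∀ b ∈ Q, a ^ Nat.card ↥(Cfsg.sigmaCore M ⊓ Subgroup.centralizer (K : Set G)) ∈ Q ⊓ Subgroup.centralizer (D : Set G) ∧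
            a * b * a⁻¹ * b⁻¹ ∈ Q ⊓ Subgroup.centralizer (D : Set G)) ∧
          ∀ N : Subgroup G, Q ⊓ Subgroup.centralizer (D : Set G) < N → N < Q → ¬ M ≤ Subgroup.normalizer (N : Set G) := by
  obtain ⟨hU, hK1, Q, D, H₁, hS⟩ := Cfsg.Agent.OddLocal.Kappa.exists_split hG hM hKU hne
  have hp := Cfsg.Agent.OddLocal.Kappa.Split.prime hG hM hKU hne
  haveI := Fact.mk hp
  obtain ⟨hKp, hlt, -, hQc⟩ := hS.facts hG hM hKU hK1 hne
  obtain ⟨hΦ, hn⟩ := hS.frattini_le hG hM hKU hK1 hne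
  obtain ⟨Q', hQ', -, -, -, hnil⟩ := Cfsg.Agent.OddLocal.Kappa.star_le_fittingHall_of_bot hG hM hKU hK1 hU
  refine ⟨hU, ?_, hKp, hp, (Subgroup.card_dvd_of_le (hS.star.trans hS.fitting)),
    hS.beta hG hM hKU hne, Q, hS.fitting, hS.norm, hS.syl.isPGroup, fun hd => hS.syl.not_dvd
      (hd.trans ⟨_, (Subgroup.relIndex_mul_relIndex Q (Cfsg.sigmaCore M) M hS.compl.1
        (Subgroup.map_subtype_le _)).symm⟩), fun D' hD' => ?_⟩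
  · rw [Cfsg.Agent.OddLocal.Kappa.derived_eq hG hM hKU hK1, hU, bot_sup_eq]
  rw [hS.fixed_compl_eq hG hM hKU hK1 hne hD']
  refine ⟨?_, hn, hlt, hQc, fun a ha b hb => ⟨hΦ ⟨_, Cfsg.Agent.Solv.pow_mem_frattini hS.syl.isPGroup ⟨a, ha⟩, rfl⟩,
    hΦ ⟨_, Cfsg.Agent.Solv.commutatorElement_mem_frattini hS.syl.isPGroup ⟨a, ha⟩ ⟨b, hb⟩, rfl⟩⟩,
    fun N h1 h2 => hS.chief hG hM hKU hK1 hne h1 h2⟩
  obtain ⟨g, -, hg⟩ := hQ'.conj_eq hS.syl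
  refine hnil D' ?_
  have : Q' = Q := by
    have h1 : Q' ≤ Q := Cfsg.Agent.OddLocal.Sig.le_of_hall
      (π := {(Nat.card ↥(Cfsg.sigmaCore M ⊓ Subgroup.centralizer (K : Set G)))}) (N := Q)
      ⟨hS.syl.le, fun s hs hsd => by
        obtain ⟨j, hj⟩ := IsPGroup.iff_card.1 hS.syl.isPGroup
        exact (Nat.prime_dvd_prime_iff_eq hs hp).1 (hs.dvd_of_dvd_pow (hj ▸ hsd)),
        fun s _ (hsq : s = _) hd => hS.syl.not_dvd (hsq ▸ hd)⟩ hS.norm hQ'.le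
      (fun s hs hsd => by
        obtain ⟨j, hj⟩ := IsPGroup.iff_card.1 hQ'.isPGroup
        exact (Nat.prime_dvd_prime_iff_eq hs hp).1 (hs.dvd_of_dvd_pow (hj ▸ hsd)))
    exact (hQ'.eq_of_le hS.syl.isPGroup h1 hS.syl.le).symm
  rw [this]
  exact hD'

end Cfsg.Agent.S1437
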