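import Cfsg.Statements.S1441
import Cfsg.Agent.Lib.Local.CentralizerTrick

set_option autoImplicit false
open Cfsg
open scoped commutatorElement

namespace Cfsg.Agent.S1441

theorem result {G : Type*} [Group G] [Finite G] (H A : Subgroup G) (hH : Group.IsSolvable H) (hA : (A ≤ Subgroup.normalizer (H : Set G)))
    (n : ℕ) (c : Fin (n + 1) → Subgroup G) (hc0 : c 0 = H) (hcn : c (Fin.last n) = ⊥) (hanti : Antitone c)
    (hcN : ∀ i, H ≤ Subgroup.normalizer ((c i : Subgroup G) : Set G)) (hcA : ∀ i, A ≤ Subgroup.normalizer ((c i : Subgroup G) : Set G))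
    (htriv : ∀ i : Fin n, ⁅c i.castSucc, A⁆ ≤ c i.succ) :
    ∀ p : ℕ, p.Prime → p ∣ (A ⊓ Subgroup.centralizer (H : Set G)).relIndex A → p ∣ Nat.card H := by
  intro p hp hpd
  by_contra hpH
  haveI := Fact.mk hp
  obtain ⟨P⟩ : Nonempty (Sylow p A) := inferInstance
  have hle : (P : Subgroup A) ≤ (A ⊓ Subgroup.centralizer (H : Set G)).subgroupOf A := by
    intro a ha
    obtain ⟨k, hk⟩ := IsPGroup.iff_orderOf.1 P.isPGroup' ⟨a, ha⟩
    rw [Subgroup.orderOf_mk, ← Subgroup.orderOf_coe] at hk
    have key : ∀ i : Fin (n + 1), ∀ h ∈ c i, Commute (a : G) h := by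
      intro i
      induction i using Fin.reverseInduction with
      | last =>
        intro h hh
        rw [hcn, Subgroup.mem_bot] at hh
        subst hh
        exact Commute.one_right _
      | cast i ih =>
        intro h hh
        set z := (a : G) * h * (a : G)⁻¹ * h⁻¹ with hz
        have hzc : z ∈ c i.succ := by
          have h1 : ⁅(a : G), h⁆ ∈ ⁅c i.castSucc, A⁆ :=
            Subgroup.commutator_comm A (c i.castSucc) ▸ Subgroup.commutator_mem_commutator a.2 hh
          exact htriv i (by simpa [hz, commutatorElement_def] using h1)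
        refine CentTrick.commute_of_step (ih z hzc) (by rw [hz]; group) ?_
        rw [hk]
        have hzH : z ∈ H := hc0 ▸ hanti (Fin.zero_le _) hzc
        exact ((hp.coprime_iff_not_dvd).2 fun hd => hpH (hd.trans (Subgroup.orderOf_dvd_natCard H hzH))).pow_left k
    refine Subgroup.mem_inf.2 ⟨a.2, Subgroup.mem_centralizer_iff.2 fun h hh => (key 0 h (hc0.symm ▸ hh)).eq.symm⟩
  exact P.not_dvd_index (hpd.trans (Subgroup.index_dvd_of_le hle))

end Cfsg.Agent.S1441
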