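import Cfsg.Statements.S1445
import Cfsg.Agent.Lib.Solv.FPFFitting

set_option autoImplicit false
open Cfsg
open scoped commutatorElement

namespace Cfsg.Agent.S1445

/-- Let G be a solvable group of odd order, K a normal subgroup and R a subgroup with G = KR and the orders of K and R coprime. Suppose K ∩ C_G(x) = K ∩ C_G(R) for every non-identity x ∈ R, and F(K) ∩ C_G(R) = 1. Then [K, R] is contained in the Fitting subgroup of K. -/
theorem result {G : Type*} [Group G] [Finite G] [Group.IsSolvable G] (hodd : Odd (Nat.card G)) (K R : Subgroup G) [K.Normal] (hKR : K ⊔ R = ⊤) (hcop : (Nat.card K).Coprime (Nat.card R))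
    (hprime : ∀ x ∈ R, x ≠ 1 → K ⊓ Subgroup.centralizer ({x} : Set G) = (K ⊓ Subgroup.centralizer (R : Set G)))
    (hF : Cfsg.fittingOf K ⊓ Subgroup.centralizer (R : Set G) = ⊥) :
    ⁅K, R⁆ ≤ Cfsg.fittingOf K := by
  classical
  by_cases hR1 : R = ⊥
  · rw [hR1, Subgroup.commutator_bot_right]; exact bot_le
  haveI : Nontrivial R := (Subgroup.nontrivial_iff_ne_bot R).2 hR1
  obtain ⟨p, hp, hpd⟩ := Nat.exists_prime_and_dvd (Finite.one_lt_card (α := R)).ne'
  haveI := Fact.mk hp
  obtain ⟨⟨x, hxR⟩, hx⟩ := exists_prime_orderOf_dvd_card' p hpd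
  have hxp : orderOf x = p := by rwa [Subgroup.orderOf_mk] at hx
  have hco : (Nat.card K).Coprime p := hcop.coprime_dvd_right hpd
  have hx1 : x ≠ 1 := fun h => by rw [h, orderOf_one] at hxp; exact hp.ne_one hxp.symm
  obtain ⟨F, hF'⟩ : ∃ F, F = Cfsg.fittingOf K := ⟨_, rfl⟩
  have hFK : F ≤ K := by rw [hF']; exact Subgroup.map_subtype_le _
  have hcx := hprime x hxR hx1
  have hfix : Cfsg.fittingOf K ⊓ Subgroup.centralizer {x} = ⊥ := by
    rw [← hF'] at hF ⊢
    rw [← inf_eq_left.2 hFK, inf_assoc, hcx, ← inf_assoc, inf_eq_left.2 hFK]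
    exact hF
  have hK : Group.IsSolvable K := inferInstance
  have hle : ⁅K, Subgroup.zpowers x⁆ ≤ F := hF' ▸ Cfsg.Agent.Solv.FPFFit.commutator_le_fitting (p := p) K hK
    (hodd.of_dvd_nat (Subgroup.card_subgroup_dvd_card K)) x hxp hco hfix
  haveI : F.Normal := by
    rw [hF', Cfsg.fittingOf]
    exact ConjAct.normal_of_characteristic_of_normal
  rw [← hF']
  refine Subgroup.commutator_le.2 fun k hk r hr => ?_
  obtain ⟨d, hd, hdn⟩ := Cfsg.Agent.Solv.exists_fixed_in_coset (Subgroup.zpowers x) F (x := k)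
    (fun a _ => by rw [Subgroup.normalizer_eq_top]; exact Subgroup.mem_top a)
    (by rw [Nat.card_zpowers, hxp]; exact (hco.coprime_dvd_left (Subgroup.card_dvd_of_le hFK)).symm)
    (Or.inr inferInstance) (fun a ha => by
      have h := hle (Subgroup.commutator_mem_commutator (inv_mem hk) ha)
      rw [commutatorElement_def, inv_inv] at h
      rwa [show k⁻¹ * (a * k * a⁻¹) = k⁻¹ * a * k * a⁻¹ by group])
  have hmem : k * d ∈ K := mul_mem hk (hFK hd)
  have h1 := Cfsg.Agent.Solv.centralizer_of_normalizes (A := Subgroup.zpowers x) (K := K)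
    (fun a _ => by rw [Subgroup.normalizer_eq_top]; exact Subgroup.mem_top a)
    (Cfsg.Agent.Solv.coprime_inf (by rw [Nat.card_zpowers, hxp]; exact hco)) hmem hdn
  have h2 : k * d ∈ K ⊓ Subgroup.centralizer (R : Set G) := hcx ▸ Subgroup.mem_inf.2 ⟨hmem,
    Subgroup.mem_centralizer_singleton_iff.2 (Subgroup.mem_centralizer_iff.1 h1 x (Subgroup.mem_zpowers x)).symm⟩
  have h3 : Commute r (k * d) := Subgroup.mem_centralizer_iff.1 h2.2 r hr
  have h4 : ⁅k, r⁆ = (k * d) * (d⁻¹ * (r * d * r⁻¹)) * (k * d)⁻¹ := by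
    calc ⁅k, r⁆ = (k * d) * (d⁻¹ * (r * d * ((k * d)⁻¹ * r⁻¹))) := by rw [commutatorElement_def]; group
      _ = (k * d) * (d⁻¹ * (r * d * (r⁻¹ * (k * d)⁻¹))) := by rw [(h3.inv_inv).symm.eq]
      _ = _ := by group
  rw [h4]
  exact Subgroup.Normal.conj_mem inferInstance _
    (mul_mem (inv_mem hd) (Subgroup.Normal.conj_mem inferInstance d hd r)) _

end Cfsg.Agent.S1445
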