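import Cfsg.Statements.S1446
import Cfsg.Agent.Lib.Solv.FrobeniusCyclicFix
-- import your own Cfsg.Agent.* helpers here

set_option autoImplicit false
open Cfsg

namespace Cfsg.Agent.S1446

open scoped commutatorElement

theorem normal_case {X : Type*} [Group X] [Finite X] (U E M : Subgroup X) [M.Normal] (hMn : Group.IsNilpotent M)
    (hUn : E ≤ Subgroup.normalizer (U : Set X)) (hfpf : ∀ e ∈ E, e ≠ 1 → ∀ u ∈ U, e * u = u * e → u = 1)
    (hnil : Group.IsNilpotent U) (hco : (Nat.card ↥(U ⊔ E)).Coprime (Nat.card M))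
    (hcyc : IsCyclic ↥(M ⊓ Subgroup.centralizer (E : Set X))) : ⁅U, U⁆ ≤ Subgroup.centralizer (M : Set X) := by
  classical
  obtain ⟨C, hC⟩ : ∃ C, C = (Subgroup.centralizer ((⁅U, U⁆ : Subgroup X) : Set X)).subgroupOf M := ⟨_, rfl⟩
  suffices h : C = ⊤ by
    intro d hd
    refine Subgroup.mem_centralizer_iff.2 fun m hm => ?_
    have hm' : (⟨m, hm⟩ : M) ∈ C := h.ge (Subgroup.mem_top _)
    rw [hC, Subgroup.mem_subgroupOf] at hm'
    exact (Subgroup.mem_centralizer_iff.1 hm' d hd).symm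
  rw [← Subgroup.index_eq_one]
  by_contra hne
  obtain ⟨q, hq, hqd⟩ := Nat.exists_prime_and_dvd hne
  haveI := Fact.mk hq
  haveI := hMn
  obtain ⟨P⟩ : Nonempty (Sylow q M) := inferInstance
  haveI hPn : (P : Subgroup M).Normal := Sylow.normal_of_normalizerCondition Group.normalizerCondition_of_isNilpotent P
  haveI : (P : Subgroup M).Characteristic := Sylow.characteristic_of_normal P hPn
  haveI : ((P : Subgroup M).map M.subtype).Normal := ConjAct.normal_of_characteristic_of_normal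
  have hle : (P : Subgroup M) ≤ C := by
    intro x hx
    have hMq : q ∣ Nat.card M := hqd.trans (Subgroup.index_dvd_card C)
    haveI := hcyc
    haveI : IsCyclic ↥((P : Subgroup M).map M.subtype ⊓ Subgroup.centralizer (E : Set X)) :=
      isCyclic_of_injective (Subgroup.inclusion (inf_le_inf_right _ (Subgroup.map_subtype_le _)))
        (Subgroup.inclusion_injective _)
    have h := Solv.FrobFix.commutator_pgroup ((P : Subgroup M).map M.subtype) U E (P.isPGroup'.map _) hUn hfpf hnil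
      (hco.coprime_dvd_right hMq) inferInstance
    rw [hC, Subgroup.mem_subgroupOf, Subgroup.mem_centralizer_iff]
    intro d hd
    exact (Subgroup.mem_centralizer_iff.1 (h hd) (x : X) ⟨x, hx, rfl⟩).symm
  exact P.not_dvd_index (hqd.trans (Subgroup.index_dvd_of_le hle))

/-- Let X be a finite group with subgroups K, R, M such that: K and R are nontrivial, K ∩ R = 1, R normalizes K, no non-identity element of R centralizes a non-identity element of K, K ⊔ R is solvable of odd order; M is nilpotent and nontrivial, normalized by K and by R, with order coprime to that of K ⊔ R, M ∩ C(K) = 1, and M ∩ C(x) = M ∩ C(R) for all non-identity x ∈ R. Then R has prime order p, #M = #(M ∩ C(R)) ^ p, and if M ∩ C(R) is cyclic then [K, K] centralizes M. -/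
theorem result {X : Type*} [Group X] [Finite X] (K R M : Subgroup X) (hK1 : K ≠ ⊥) (hR1 : R ≠ ⊥) (hKR : K ⊓ R = ⊥)
    (hRK : R ≤ Subgroup.normalizer (K : Set X)) (hfrob : ∀ r ∈ R, r ≠ 1 → K ⊓ Subgroup.centralizer ({r} : Set X) = ⊥)
    (hsolv : Group.IsSolvable ↥(K ⊔ R)) (hodd : Odd (Nat.card ↥(K ⊔ R)))
    (hM1 : M ≠ ⊥) (hMn : Group.IsNilpotent M) (hKM : K ≤ Subgroup.normalizer (M : Set X)) (hRM : R ≤ Subgroup.normalizer (M : Set X))
    (hcop : (Nat.card ↥(K ⊔ R)).Coprime (Nat.card M)) (hCK : M ⊓ Subgroup.centralizer (K : Set X) = ⊥)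
    (hpr : ∀ x ∈ R, x ≠ 1 → M ⊓ Subgroup.centralizer ({x} : Set X) = M ⊓ Subgroup.centralizer (R : Set X)) :
    (Nat.card R).Prime ∧ Nat.card M = Nat.card ↥(M ⊓ Subgroup.centralizer (R : Set X)) ^ Nat.card R ∧
      (IsCyclic ↥(M ⊓ Subgroup.centralizer (R : Set X)) → ⁅K, K⁆ ≤ Subgroup.centralizer (M : Set X)) := by
  classical
  have hUn : R ≤ Subgroup.normalizer (K : Set X) := hRK
  have hfpf : ∀ e ∈ R, e ≠ 1 → ∀ u ∈ K, e * u = u * e → u = 1 := fun e he he1 u hu h =>
    Subgroup.mem_bot.1 ((hfrob e he he1).le (Subgroup.mem_inf.2 ⟨hu, Subgroup.mem_centralizer_singleton_iff.2 h.symm⟩))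
  have hnil : Group.IsNilpotent K := Solv.FrobFix.isNilpotent_of_fpf hR1 hUn hfpf
  have hMsol : Group.IsSolvable M := by haveI := hMn; infer_instance
  obtain ⟨c, hc⟩ : ∃ c, c = Nat.card ↥(M ⊓ Subgroup.centralizer (R : Set X)) := ⟨_, rfl⟩
  rw [← hc]
  have hformula : ∀ R₀ ≤ R, M ⊓ Subgroup.centralizer (R₀ : Set X) = M ⊓ Subgroup.centralizer (R : Set X) →
      Nat.card M = c ^ Nat.card R₀ := by
    intro R₀ hR₀ hcent
    have hbot : M ⊓ Subgroup.centralizer ((K ⊔ R₀ : Subgroup X) : Set X) = ⊥ :=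
      le_bot_iff.1 ((inf_le_inf_left M (Subgroup.centralizer_le (SetLike.coe_subset_coe.2 le_sup_left))).trans hCK.le)
    have h := Solv.FrobFix.formula M K R₀ hMsol (sup_le hKM (hR₀.trans hRM)) (hR₀.trans hUn)
      (fun e he => hfpf e (hR₀ he))
      (hcop.symm.coprime_dvd_right (Subgroup.card_dvd_of_le (sup_le_sup_left hR₀ K)))
    rw [hbot, Subgroup.card_bot, one_pow, one_mul, hCK, Subgroup.card_bot, mul_one, hcent, ← hc] at h
    exact h
  have hM := hformula R le_rfl rfl
  obtain ⟨r, hr, hrd⟩ := Nat.exists_prime_and_dvd (fun h => hR1 (Subgroup.card_eq_one.1 h) : Nat.card R ≠ 1)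
  haveI := Fact.mk hr
  obtain ⟨x, hx⟩ := exists_prime_orderOf_dvd_card' r hrd
  have hx1 : (x : X) ≠ 1 := fun h => hr.ne_one (by rw [← hx, orderOf_eq_one_iff]; exact Subtype.ext h)
  have hM2 := hformula (Subgroup.zpowers (x : X)) (Subgroup.zpowers_le.2 x.2) (le_antisymm
    (by
      rw [← hpr x x.2 hx1]
      exact inf_le_inf_left _ (Subgroup.centralizer_le (Set.singleton_subset_iff.2 (Subgroup.mem_zpowers _))))
    (inf_le_inf_left _ (Subgroup.centralizer_le (SetLike.coe_subset_coe.2 (Subgroup.zpowers_le.2 x.2)))))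
  rw [Nat.card_zpowers, Subgroup.orderOf_coe, hx] at hM2
  have hc2 : 2 ≤ c := by
    by_contra h
    have hc1 : c = 1 := le_antisymm (by omega) (hc ▸ Nat.card_pos)
    rw [hc1, one_pow] at hM
    exact hM1 (Subgroup.card_eq_one.1 hM)
  have hRp : Nat.card R = r := Nat.pow_right_injective hc2 (hM.symm.trans hM2)
  refine ⟨hRp ▸ hr, hM, fun hcyc => ?_⟩
  obtain ⟨Y, hY⟩ : ∃ Y : Subgroup X, Y = Subgroup.normalizer (M : Set X) := ⟨_, rfl⟩
  have hMY : M ≤ Y := hY ▸ Subgroup.le_normalizer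
  have hKY : K ≤ Y := hY ▸ hKM
  have hRY : R ≤ Y := hY ▸ hRM
  haveI : (M.subgroupOf Y).Normal := Subgroup.normal_subgroupOf_of_le_normalizer hY.le
  haveI := hnil
  haveI := hMn
  haveI := hcyc
  have key := normal_case (K.subgroupOf Y) (R.subgroupOf Y) (M.subgroupOf Y)
    (Group.nilpotent_of_mulEquiv (Subgroup.subgroupOfEquivOfLe hMY).symm)
    (fun e he => by
      rw [Subgroup.mem_normalizer_iff]
      intro y
      exact Subgroup.mem_normalizer_iff.1 (hUn he) y)
    (fun e he he1 u hu h => Subtype.ext (hfpf e he (fun h' => he1 (Subtype.ext h')) u hu (congrArg Subtype.val h)))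
    (Group.nilpotent_of_mulEquiv (Subgroup.subgroupOfEquivOfLe hKY).symm)
    (by
      rw [← Subgroup.subgroupOf_sup hKY hRY, Nat.card_congr (Subgroup.subgroupOfEquivOfLe (sup_le hKY hRY)).toEquiv,
        Nat.card_congr (Subgroup.subgroupOfEquivOfLe hMY).toEquiv]
      exact hcop)
    (isCyclic_of_injective ((Y.subtype.comp (M.subgroupOf Y ⊓ Subgroup.centralizer ((R.subgroupOf Y : Subgroup Y) : Set Y)).subtype).codRestrict
      (M ⊓ Subgroup.centralizer (R : Set X)) fun y => Subgroup.mem_inf.2 ⟨(Subgroup.mem_inf.1 y.2).1,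
        Subgroup.mem_centralizer_iff.2 fun a ha => congrArg Subtype.val
          (Subgroup.mem_centralizer_iff.1 (Subgroup.mem_inf.1 y.2).2 ⟨a, hRY ha⟩ ha)⟩)
      fun a b h => Subtype.ext (Subtype.ext (congrArg Subtype.val h :)))
  intro d hd
  have hdY : d ∈ Y := hKY (Subgroup.commutator_le_self K hd)
  have hd' : (⟨d, hdY⟩ : Y) ∈ ⁅K.subgroupOf Y, K.subgroupOf Y⁆ := by
    rw [← Subgroup.mem_map_iff_mem Y.subtype_injective, Subgroup.map_commutator,
      Subgroup.map_subgroupOf_eq_of_le hKY]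
    exact hd
  exact Subgroup.mem_centralizer_iff.2 fun m hm =>
    congrArg Subtype.val (Subgroup.mem_centralizer_iff.1 (key hd') ⟨m, hMY hm⟩ hm)

end Cfsg.Agent.S1446
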