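import Cfsg.Statements.S1454
import Cfsg.Agent.Lib.Solv.RankTwoFull
import Cfsg.Agent.Lib.Solv.RankTwoGroups
-- import your own Cfsg.Agent.* helpers here

set_option autoImplicit false
open Cfsg
open Cfsg.Agent.Solv
open scoped commutatorElement

namespace Cfsg.Agent.S1454

theorem card_eq_cube {G : Type*} [Group G] [Finite G] (p : ℕ) [hp : Fact p.Prime] (hp2 : p ≠ 2)
    (R A : Subgroup G) (hR : IsPGroup p R) (hr : Cfsg.PRankLE p 2 R) (hA : A ≤ Subgroup.normalizer (R : Set G))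
    (hodd : Odd (Nat.card A)) (hq : (Nat.card A).Prime) (hnd : ¬ Nat.card A ∣ p * (p - 1))
    (hRA : ⁅R, A⁆ = R) (hnab : ¬ IsMulCommutative R) : Nat.card R = p ^ 3 := by
  classical
  have hqp : Nat.card A ≠ p := fun h => hnd (h ▸ dvd_mul_right _ _)
  have hcop : (Nat.card A).Coprime p := (Nat.coprime_primes hq hp.out).2 hqp
  have hR1 : R ≠ ⊥ := fun h => hnab (h ▸ inferInstance)
  obtain ⟨-, h⟩ := MetaAct.rank_two_full hp2 R A hR hR1 hr hA hcop hodd hRA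
  obtain ⟨R₁, R₂, hsup, hcomm, -, hc, hexp, hcyc, hcl⟩ := h.resolve_left hnab
  suffices hle : R₂ ≤ R₁ by rw [← hsup, sup_eq_left.2 hle, hc]
  haveI := hcyc
  obtain ⟨b₀, hb₀⟩ := IsCyclic.exists_generator (α := R₂)
  obtain ⟨b, hb⟩ : ∃ b : G, b = b₀ := ⟨_, rfl⟩
  have hbR : b ∈ R := hsup ▸ Subgroup.mem_sup_right (hb ▸ b₀.2)
  have h1R : R₁ ≤ R := hsup ▸ le_sup_left
  have hpow : ∀ r ∈ R₁, r ^ p = 1 := fun r hr' => by
    rw [← hexp]; exact congrArg Subtype.val (Monoid.pow_exponent_eq_one (⟨r, hr'⟩ : R₁))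
  have hnorm : R₂ ≤ Subgroup.normalizer (R₁ : Set G) := fun x hx => by
    rw [Subgroup.mem_normalizer_iff]
    refine fun y => ⟨fun hy => ?_, fun hy => ?_⟩
    · rwa [← hcomm y hy x hx, mul_inv_cancel_right]
    · have h2 := hcomm _ hy x hx
      have h3 : y = x * y * x⁻¹ := mul_left_cancel (a := x) (by rw [← h2]; group)
      rwa [← h3] at hy
  have hdec : ∀ x ∈ R, ∃ r ∈ R₁, ∃ i : ℤ, x = r * b ^ i := by
    intro x hx
    rw [← hsup, ← SetLike.mem_coe, Subgroup.coe_mul_of_right_le_normalizer_left R₁ R₂ hnorm, Set.mem_mul] at hx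
    obtain ⟨r, hr', c, hc', e⟩ := hx
    obtain ⟨i, hi⟩ := hb₀ ⟨c, hc'⟩
    exact ⟨r, hr', i, by rw [← e, hb, ← Subgroup.coe_zpow, show b₀ ^ i = ⟨c, hc'⟩ from hi]⟩
  have hbc : ∀ r ∈ R₁, ∀ i : ℤ, Commute r (b ^ i) := fun r hr' i =>
    Commute.zpow_right (hcomm r hr' b (hb ▸ b₀.2)) i
  have hmem : ∀ x ∈ R, x ^ p = 1 → x ∈ R₁ := by
    intro x hx hxp
    obtain ⟨r, hr', i, rfl⟩ := hdec x hx
    rw [(hbc r hr' i).mul_pow, hpow r hr', one_mul] at hxp
    refine mul_mem hr' ?_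
    have hbi : b ^ i ∈ Subgroup.closure {x : G | x ∈ R₂ ∧ x ^ p = 1} :=
      Subgroup.subset_closure ⟨zpow_mem (hb ▸ b₀.2) i, hxp⟩
    rw [hcl] at hbi
    exact Subgroup.commutator_le_self R₁ hbi
  by_contra hle
  have hbnot : b ∉ R₁ := fun h => hle fun c hc' => by
    obtain ⟨i, hi⟩ := hb₀ ⟨c, hc'⟩
    rw [show c = b ^ i by rw [hb, ← Subgroup.coe_zpow, show b₀ ^ i = ⟨c, hc'⟩ from hi]]
    exact zpow_mem h i
  -- the maximal subgroup above `R₁`
  obtain ⟨M, hM⟩ : ∃ M : Subgroup G, ∀ x, x ∈ M ↔ ∃ r ∈ R₁, ∃ i : ℤ, x = r * (b ^ p) ^ i := by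
    refine ⟨R₁ ⊔ Subgroup.zpowers (b ^ p), fun x => ?_⟩
    have hn : Subgroup.zpowers (b ^ p) ≤ Subgroup.normalizer (R₁ : Set G) :=
      (Subgroup.zpowers_le.2 (pow_mem (hb ▸ b₀.2) p)).trans hnorm
    rw [← SetLike.mem_coe, Subgroup.coe_mul_of_right_le_normalizer_left _ _ hn, Set.mem_mul]
    exact ⟨fun ⟨r, hr', _, ⟨i, rfl⟩, e⟩ => ⟨r, hr', i, e.symm⟩, fun ⟨r, hr', i, e⟩ => ⟨r, hr', _, ⟨i, rfl⟩, e.symm⟩⟩
  have hbM : b ∉ M := by
    intro h
    obtain ⟨r, hr', i, e⟩ := (hM b).1 h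
    have h2 : b ^ ((1 : ℤ) - p * i) ∈ R₁ := by
      rw [zpow_sub, zpow_one, zpow_mul, zpow_natCast]
      rw [(mul_inv_eq_iff_eq_mul.2 e : b * ((b ^ p) ^ i)⁻¹ = r)]; exact hr'
    obtain ⟨k, hk⟩ := hR ⟨b, hbR⟩
    have hk' : b ^ (((p ^ k : ℕ)) : ℤ) = 1 := by rw [zpow_natCast]; exact congrArg Subtype.val hk
    have hcp : IsCoprime ((1 : ℤ) - p * i) ((p : ℤ) ^ k) :=
      IsCoprime.pow_right ⟨1, i, by ring⟩
    obtain ⟨u, v, huv⟩ := hcp
    apply hbnot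
    rw [← zpow_one b, ← huv, zpow_add, mul_comm u, zpow_mul, mul_comm v, zpow_mul, ← Nat.cast_pow, hk', one_zpow,
      mul_one]
    exact zpow_mem h2 u
  have hMR : M ≤ R := fun x hx => by
    obtain ⟨r, hr', i, rfl⟩ := (hM x).1 hx
    exact mul_mem (h1R hr') (zpow_mem (pow_mem hbR p) i)
  have hMn : R ≤ Subgroup.normalizer (M : Set G) := by
    have h2 : ∀ g ∈ R, ∀ x ∈ M, g * x * g⁻¹ ∈ M := by
      intro g hg x hx
      obtain ⟨r, hr', i, rfl⟩ := (hM x).1 hx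
      obtain ⟨s, hs, j, rfl⟩ := hdec g hg
      refine (hM _).2 ⟨s * r * s⁻¹, mul_mem (mul_mem hs hr') (inv_mem hs), i, ?_⟩
      have e1 : (b ^ p) ^ i = b ^ ((p : ℤ) * i) := by rw [zpow_mul, zpow_natCast]
      rw [e1]
      have c3 : Commute (b ^ j) (b ^ ((p : ℤ) * i)) := (Commute.refl b).zpow_zpow _ _
      calc s * b ^ j * (r * b ^ ((p : ℤ) * i)) * (s * b ^ j)⁻¹
          = s * (b ^ j * r) * b ^ ((p : ℤ) * i) * (b ^ j)⁻¹ * s⁻¹ := by group
        _ = s * r * (b ^ j * b ^ ((p : ℤ) * i)) * (b ^ j)⁻¹ * s⁻¹ := by rw [(hbc r hr' j).symm.eq]; group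
        _ = s * r * (b ^ ((p : ℤ) * i) * s⁻¹) := by rw [c3.eq]; group
        _ = _ := by rw [((hbc s hs _).inv_left).symm.eq]; group
    intro g hg
    rw [Subgroup.mem_normalizer_iff]
    refine fun x => ⟨h2 g hg x, fun hx => ?_⟩
    have := h2 g⁻¹ (inv_mem hg) _ hx
    rwa [show g⁻¹ * (g * x * g⁻¹) * g⁻¹⁻¹ = x by group] at this
  have hAM : ∀ a ∈ A, ∀ x ∈ M, a * x * a⁻¹ ∈ M := by
    intro a ha x hx
    obtain ⟨r, hr', i, rfl⟩ := (hM x).1 hx
    have hconj : ∀ y ∈ R, a * y * a⁻¹ ∈ R := fun y hy => (Subgroup.mem_normalizer_iff.1 (hA ha) y).1 hy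
    have h2 : a * r * a⁻¹ ∈ R₁ := hmem _ (hconj r (h1R hr')) (by rw [conj_pow, hpow r hr', mul_one, mul_inv_cancel])
    obtain ⟨s, hs, j, e⟩ := hdec _ (hconj b hbR)
    refine (hM _).2 ⟨a * r * a⁻¹, h2, j * i, ?_⟩
    rw [show a * (r * (b ^ p) ^ i) * a⁻¹ = a * r * a⁻¹ * (a * b * a⁻¹) ^ ((p : ℤ) * i) by
      rw [conj_zpow, zpow_mul, zpow_natCast]; group]
    congr 1
    rw [zpow_mul, zpow_natCast, e, (hbc s hs j).mul_pow, hpow s hs, one_mul, ← zpow_natCast (b ^ j), ← zpow_mul,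
      ← zpow_natCast b, ← zpow_mul, ← zpow_mul]
    congr 1; ring
  let M' : Subgroup R := M.subgroupOf R
  haveI : M'.Normal := Subgroup.normal_subgroupOf_of_le_normalizer hMn
  obtain ⟨φ, hφ⟩ := RankTwo.exists_conj R A hA
  let bR : R := ⟨b, hbR⟩
  let β : R ⧸ M' := bR
  have hquo : ∀ x : R, ∃ i : ℤ, (x : R ⧸ M') = β ^ i := fun x => by
    obtain ⟨r, hr', i, e⟩ := hdec x x.2
    refine ⟨i, ?_⟩
    have hrM : ((⟨r, h1R hr'⟩ : R) : R ⧸ M') = 1 :=
      (QuotientGroup.eq_one_iff _).2 (Subgroup.mem_subgroupOf.2 ((hM r).2 ⟨r, hr', 0, by simp⟩))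
    rw [show x = (⟨r, h1R hr'⟩ : R) * bR ^ i from Subtype.ext (by rw [Subgroup.coe_mul, Subgroup.coe_zpow]; exact e),
      QuotientGroup.mk_mul, QuotientGroup.mk_zpow, hrM, one_mul]
  have hbo : orderOf β = p := by
    refine orderOf_eq_prime ?_ fun h => hbM (Subgroup.mem_subgroupOf.1 ((QuotientGroup.eq_one_iff bR).1 h))
    rw [← QuotientGroup.mk_pow, QuotientGroup.eq_one_iff, Subgroup.mem_subgroupOf]
    exact (hM _).2 ⟨1, one_mem _, 1, by simp [bR]⟩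
  have hinv : ∀ (a : A) (x : R), x ∈ M' → φ a x ∈ M' := fun a x hx => by
    rw [Subgroup.mem_subgroupOf, hφ]
    exact hAM a a.2 x (Subgroup.mem_subgroupOf.1 hx)
  have htriv : ∀ a : A, ((φ a bR : R) : R ⧸ M') = β := by
    intro a
    obtain ⟨i, hi⟩ := hquo (φ a bR)
    let f : R ⧸ M' →* R ⧸ M' := QuotientGroup.map M' M' (φ a).toMonoidHom fun x hx => hinv a x hx
    have hit : ∀ k : ℕ, ((φ (a ^ k) bR : R) : R ⧸ M') = β ^ i ^ k := by
      intro k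
      induction k with
      | zero => rw [pow_zero, pow_zero, map_one, MulAut.one_apply, zpow_one]
      | succ k ih =>
        rw [pow_succ', map_mul, MulAut.mul_apply]
        show f ((φ (a ^ k) bR : R) : R ⧸ M') = _
        rw [ih, map_zpow, show f β = ((φ a bR : R) : R ⧸ M') from rfl, hi, ← zpow_mul, ← pow_succ']
    have h2 := hit (Nat.card A)
    rw [pow_card_eq_one', map_one, MulAut.one_apply] at h2
    have h3 : ((i : ZMod p)) ^ Nat.card A = 1 := by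
      have h4 : β ^ (1 : ℤ) = β ^ i ^ Nat.card A := by rw [zpow_one]; exact h2
      rw [zpow_eq_zpow_iff_modEq, hbo, ← ZMod.intCast_eq_intCast_iff] at h4
      push_cast at h4
      exact h4.symm
    have hne : (i : ZMod p) ≠ 0 := fun h => by
      rw [h, zero_pow hq.ne_zero] at h3
      exact zero_ne_one h3
    have h5 : (i : ZMod p) ^ Nat.gcd (Nat.card A) (p - 1) = 1 := pow_gcd_eq_one.2 ⟨h3, ZMod.pow_card_sub_one_eq_one hne⟩
    rw [Nat.Coprime.gcd_eq_one ((hq.coprime_iff_not_dvd).2 fun h => hnd (dvd_mul_of_dvd_right h p)), pow_one] at h5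
    rw [hi]
    conv_rhs => rw [← zpow_one β]
    rw [zpow_eq_zpow_iff_modEq, hbo, ← ZMod.intCast_eq_intCast_iff, h5, Int.cast_one]
  apply hbM
  have hle2 : ⁅R, A⁆ ≤ M := by
    rw [Subgroup.commutator_le]
    intro r hr' a ha
    obtain ⟨i, hi⟩ := hquo (⟨r, hr'⟩ : R)⁻¹
    let f : R ⧸ M' →* R ⧸ M' := QuotientGroup.map M' M' (φ ⟨a, ha⟩).toMonoidHom fun x hx => hinv _ x hx
    have h2 : ((φ ⟨a, ha⟩ (⟨r, hr'⟩ : R)⁻¹ : R) : R ⧸ M') = ((⟨r, hr'⟩ : R)⁻¹ : R) := by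
      show f (((⟨r, hr'⟩ : R)⁻¹ : R) : R ⧸ M') = _
      rw [hi, map_zpow, show f β = ((φ ⟨a, ha⟩ bR : R) : R ⧸ M') from rfl, htriv]
    have h3 := QuotientGroup.eq.1 h2.symm
    rw [inv_inv, Subgroup.mem_subgroupOf, Subgroup.coe_mul, hφ, Subgroup.coe_inv] at h3
    rw [commutatorElement_def]
    rwa [show r * a * r⁻¹ * a⁻¹ = r * (a * r⁻¹ * a⁻¹) by group]
  exact hle2 (hRA.ge hbR)

/-- Let G be a finite group, p an odd prime, R a narrow p-subgroup and A a solvable subgroup of odd order normalizing R with A ∩ C_G(R) = 1. Then [A, A] ≤ O_p(A) and the index of O_p(A) in A is coprime to p; if R has an elementary abelian subgroup of order p ^ 3 then the order of every element of A of order coprime to p divides p − 1; and if the order of A is a prime not dividing p(p − 1), then 2·#A divides p + 1, and if in addition [R, A] = R and R is non-abelian then #R = p ^ 3. -/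
theorem result {G : Type*} [Group G] [Finite G] (p : ℕ) [Fact p.Prime] (hp : p ≠ 2) (R A : Subgroup G) (hR : IsPGroup p R) (hRn : Cfsg.IsNarrow p R)
    (hA : (A ≤ Subgroup.normalizer (R : Set G))) (hAs : Group.IsSolvable A) (hAodd : Odd (Nat.card A)) (hfaith : A ⊓ Subgroup.centralizer (R : Set G) = ⊥) :
    (commutator ↥A ≤ Cfsg.pCore p ↥A ∧ ((Cfsg.pCore p ↥A).index).Coprime p) ∧
      (¬ Cfsg.PRankLE p 2 R → ∀ a ∈ A, (orderOf a).Coprime p → orderOf a ∣ p - 1) ∧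
      ((Nat.card A).Prime → ¬ Nat.card A ∣ p * (p - 1) →
        2 * Nat.card A ∣ p + 1 ∧ (⁅R, A⁆ = R → ¬ IsMulCommutative R → Nat.card R = p ^ 3)) := by
  classical
  haveI := hAs
  obtain ⟨φ, hφ⟩ := RankTwo.exists_conj R A hA
  have hinj := RankTwo.injective_of_faithful hfaith hφ
  refine ⟨RankTwo.pCore_facts (RankTwo.action hp hR hRn hAodd φ hinj).1, fun hr a ha hco => ?_, fun hq hnd => ?_⟩
  · refine orderOf_dvd_of_pow_eq_one ?_
    have h := (RankTwo.narrow_action hp hR hRn hr φ hinj).2 ⟨a, ha⟩ (by rwa [Subgroup.orderOf_mk])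
    exact congrArg Subtype.val h
  have hpp : p.Prime := Fact.out
  haveI := Fact.mk hq
  have hqp : Nat.card A ≠ p := fun h => hnd (h ▸ dvd_mul_right _ _)
  obtain ⟨a, ha⟩ := exists_prime_orderOf_dvd_card' (G := A) (Nat.card A) dvd_rfl
  have hr : Cfsg.PRankLE p 2 R := by
    by_contra hr
    have h := (RankTwo.narrow_action hp hR hRn hr φ hinj).2 a (by rw [ha]; exact (Nat.coprime_primes hq hpp).2 hqp)
    exact hnd (dvd_mul_of_dvd_right (ha ▸ orderOf_dvd_of_pow_eq_one h) p)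
  refine ⟨?_, fun hRA hnab => card_eq_cube p hp R A hR hr hA hAodd hq hnd hRA hnab⟩
  have h1 : Nat.card A ∣ p ^ 2 - 1 := Fusion.prime_dvd_aut_of_rank_two hp hR hr _ hq hqp
    ((Nat.card_congr (MonoidHom.ofInjective hinj).toEquiv).dvd.trans (Subgroup.card_subgroup_dvd_card _))
  rw [show p ^ 2 - 1 = (p + 1) * (p - 1) by simpa using Nat.sq_sub_sq p 1] at h1
  rcases (Nat.Prime.dvd_mul hq).1 h1 with h | h
  · exact (Nat.coprime_two_left.2 hAodd).mul_dvd_of_dvd_of_dvd (even_iff_two_dvd.1 (hpp.odd_of_ne_two hp).add_one) h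
  · exact absurd (dvd_mul_of_dvd_right h p) hnd

end Cfsg.Agent.S1454
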