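import Cfsg.Statements.S1457
import Cfsg.Agent.Lib.OddLocal.OddStable
import Cfsg.Agent.Lib.Fusion.PConstrained

set_option autoImplicit false
open Cfsg
open Cfsg.Agent

namespace Cfsg.Agent.S1457

theorem result {G : Type*} [Group G] [Finite G] [Group.IsSolvable G] (hodd : Odd (Nat.card G)) (p : ℕ) [Fact p.Prime] (S : Sylow p G) (A : Subgroup G) (hA : A ≤ (S : Subgroup G)) (hAc : IsMulCommutative A)
    (hAn : (S : Subgroup G) ≤ Subgroup.normalizer (A : Set G)) :
    A ≤ Cfsg.pPrimePCore p G := by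
  rcases eq_or_ne p 2 with rfl | hp
  · intro a ha
    have ha1 : a = 1 := by
      rw [← orderOf_eq_one_iff]
      obtain ⟨k, hk⟩ := S.isPGroup' ⟨a, hA ha⟩
      exact Nat.eq_one_of_dvd_coprimes ((Nat.coprime_two_right.2 hodd).pow_right k) (orderOf_dvd_natCard a)
        (orderOf_dvd_of_pow_eq_one (congrArg Subtype.val hk))
    rw [ha1]; exact one_mem _
  set π := QuotientGroup.mk' (pPrimeCore p G) with hπ
  have hπs : Function.Surjective π := QuotientGroup.mk'_surjective _
  have hodd' : Odd (Nat.card (G ⧸ pPrimeCore p G)) := Odd.of_dvd_nat hodd (Subgroup.card_quotient_dvd_card _)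
  haveI : IsMulCommutative ↥(A.map π) := ⟨⟨by
    rintro ⟨_, a, ha, rfl⟩ ⟨_, b, hb, rfl⟩
    exact Subtype.ext ((map_mul π a b).symm.trans ((congrArg π (congrArg Subtype.val
      (hAc.is_comm.comm ⟨a, ha⟩ ⟨b, hb⟩))).trans (map_mul π b a)))⟩⟩
  have h := OddLocal.OddStable.le_pCore_of_normalized (p := p) hodd' hp (pCore p (G ⧸ pPrimeCore p G))
    (Fusion.isPGroup_pCore p _) Fusion.pPrimeCore_quotient_eq_bot inf_le_left (A.map π) inferInstance (by
      refine ((Fusion.isPGroup_pCore p _).le_sylow_of_normal (S.mapSurjective hπs)).trans ?_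
      exact (Subgroup.map_mono hAn).trans (Subgroup.le_normalizer_map π))
  exact Subgroup.map_le_iff_le_comap.1 h

end Cfsg.Agent.S1457
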