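import Cfsg.Statements.S1460
import Cfsg.Agent.Lib.Solv.SZ

set_option autoImplicit false
open Cfsg
open scoped commutatorElement Pointwise

namespace Cfsg.Agent.S1460

theorem result {G : Type*} [Group G] [Finite G] [Group.IsSolvable G] (K U H : Subgroup G) [K.Normal] (hKU : K ⊔ U = ⊤) (hH : H ≤ U) (hcop : (Nat.card H).Coprime (Nat.card K)) :
    H ⊓ commutator G = H ⊓ ⁅U, U⁆ ∧
      Subgroup.normalizer (H : Set G) = (K ⊓ Subgroup.centralizer (H : Set G)) ⊔ (U ⊓ Subgroup.normalizer (H : Set G)) ∧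
      ∀ g : G, H.map (MulAut.conj g).toMonoidHom ≤ U → ∃ u ∈ U, ∃ c ∈ K ⊓ Subgroup.centralizer (H : Set G), g = u * c := by
  have hnK : ∀ k ∈ K, ∀ x : G, x * k * x⁻¹ ∈ K := fun k hk x => ‹K.Normal›.conj_mem k hk x
  have hdec : ∀ g : G, ∃ u ∈ U, ∃ k ∈ K, g = u * k := by
    intro g
    obtain ⟨k, hk, u, hu, rfl⟩ := Subgroup.mem_sup_of_normal_left.1 (hKU ▸ Subgroup.mem_top g : g ∈ K ⊔ U)
    exact ⟨u, hu, u⁻¹ * k * u, by simpa using hnK k hk u⁻¹, by group⟩
  have hord : ∀ h ∈ H, ∀ k ∈ K, (orderOf h).Coprime (orderOf k) := fun h hh k hk =>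
    (hcop.coprime_dvd_left (Subgroup.orderOf_dvd_natCard H hh)).coprime_dvd_right
      (Subgroup.orderOf_dvd_natCard K hk)
  have h3 : ∀ g : G, H.map (MulAut.conj g).toMonoidHom ≤ U →
      ∃ u ∈ U, ∃ c ∈ K ⊓ Subgroup.centralizer (H : Set G), g = u * c := by
    intro g hg
    obtain ⟨u, hu, k, hk, rfl⟩ := hdec g
    set H1 := H.map (MulAut.conj k).toMonoidHom
    set D := K ⊓ U
    have hH1U : H1 ≤ U := by
      rintro _ ⟨h, hh, rfl⟩
      have := mul_mem (mul_mem (inv_mem hu) (hg ⟨h, hh, rfl⟩)) hu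
      simpa [mul_assoc] using this
    have hHD : H ≤ Subgroup.normalizer (D : Set G) := by
      intro h hh
      rw [Subgroup.mem_normalizer_iff]
      intro x
      constructor
      · intro hx
        exact Subgroup.mem_inf.2 ⟨hnK x hx.1 h, mul_mem (mul_mem (hH hh) hx.2) (inv_mem (hH hh))⟩
      · intro hx
        have h1 := hnK _ hx.1 h⁻¹
        have h2 := mul_mem (mul_mem (inv_mem (hH hh)) hx.2) (hH hh)
        exact ⟨by simpa [mul_assoc] using h1, by simpa [mul_assoc] using h2⟩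
    have hH1 : H1 ≤ D ⊔ H := by
      rintro _ ⟨h, hh, rfl⟩
      have hU' : k * h * k⁻¹ ∈ U := hH1U ⟨h, hh, rfl⟩
      have hK' : k * h * k⁻¹ * h⁻¹ ∈ K := by
        have := mul_mem hk (hnK k⁻¹ (inv_mem hk) h)
        simpa [mul_assoc] using this
      show k * h * k⁻¹ ∈ D ⊔ H
      have : k * h * k⁻¹ = (k * h * k⁻¹ * h⁻¹) * h := by group
      rw [this]
      exact mul_mem (Subgroup.mem_sup_left (Subgroup.mem_inf.2 ⟨hK', mul_mem hU' (inv_mem (hH hh))⟩)) (Subgroup.mem_sup_right hh)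
    obtain ⟨v, hv, hve⟩ := Solv.sz_conj_rel D H H1 hHD hH1
      (hcop.symm.coprime_dvd_left (Subgroup.card_dvd_of_le inf_le_left))
      (Subgroup.card_map_of_injective (MulAut.conj k).injective) (Or.inl inferInstance)
    refine ⟨u * v, mul_mem hu hv.2, v⁻¹ * k, ?_, by group⟩
    refine Subgroup.mem_inf.2 ⟨mul_mem (inv_mem hv.1) hk, Subgroup.mem_centralizer_iff.2 fun h hh => ?_⟩
    have hkh : k * h * k⁻¹ ∈ MulAut.conj v • H := hve ▸ (⟨h, hh, rfl⟩ : k * h * k⁻¹ ∈ H1)
    rw [Subgroup.mem_pointwise_smul_iff_inv_smul_mem] at hkh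
    simp only [MulAut.smul_def, MulAut.conj_inv_apply] at hkh
    set c := v⁻¹ * k with hc
    have hcK : c ∈ K := mul_mem (inv_mem hv.1) hk
    have hx : c * h * c⁻¹ * h⁻¹ ∈ H := mul_mem (by
      have e : c * h * c⁻¹ = v⁻¹ * (k * h * k⁻¹) * v := by rw [hc]; group
      rw [e]; exact hkh) (inv_mem hh)
    have hx' : c * h * c⁻¹ * h⁻¹ ∈ K := by
      have := mul_mem hcK (hnK c⁻¹ (inv_mem hcK) h)
      simpa [mul_assoc] using this
    have h1 : orderOf (c * h * c⁻¹ * h⁻¹) = 1 :=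
      Nat.eq_one_of_dvd_coprimes (hord _ hx _ hx') dvd_rfl dvd_rfl
    rw [orderOf_eq_one_iff, mul_inv_eq_one, mul_inv_eq_iff_eq_mul] at h1
    exact h1.symm
  refine ⟨le_antisymm (fun h hh => Subgroup.mem_inf.2 ⟨hh.1, ?_⟩)
    (inf_le_inf_left _ (Subgroup.commutator_mono le_top le_top)), le_antisymm (fun g hg => ?_) ?_, h3⟩
  · let π := QuotientGroup.mk' K
    have h1 : π h ∈ (⁅U, U⁆ : Subgroup G).map π := by
      have hU : U.map π = ⊤ := by
        rw [← Subgroup.map_top_of_surjective π (QuotientGroup.mk'_surjective K), ← hKU, Subgroup.map_sup,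
          (Subgroup.map_eq_bot_iff _).2 (QuotientGroup.ker_mk' K).ge, bot_sup_eq]
      rw [Subgroup.map_commutator, hU, ← commutator_def]
      have : π h ∈ (commutator G).map π := ⟨h, hh.2, rfl⟩
      rwa [commutator_def, Subgroup.map_commutator, Subgroup.map_top_of_surjective π (QuotientGroup.mk'_surjective K),
        ← commutator_def] at this
    obtain ⟨w, hw, hwe⟩ := h1
    have hwK : w⁻¹ * h ∈ K := QuotientGroup.eq.1 hwe
    have hwU : w ∈ U := Subgroup.commutator_le_self U hw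
    set q := Abelianization.of (G := U)
    have e1 : q ⟨h, hH hh.1⟩ = q ⟨w, hwU⟩ * q ⟨w⁻¹ * h, mul_mem (inv_mem hwU) (hH hh.1)⟩ := by
      rw [← map_mul]; congr 1; exact Subtype.ext (by simp)
    have e2 : q ⟨w, hwU⟩ = 1 := by
      rw [← MonoidHom.mem_ker, Abelianization.ker_of, ← Subgroup.mem_map_iff_mem U.subtype_injective,
        Subgroup.map_subtype_commutator]
      exact hw
    rw [e2, one_mul] at e1
    have h4 : orderOf (q ⟨h, hH hh.1⟩) = 1 := by
      refine Nat.eq_one_of_dvd_coprimes (hord h hh.1 _ hwK) ?_ ?_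
      · exact (orderOf_map_dvd q _).trans (by rw [Subgroup.orderOf_mk])
      · rw [e1]; exact (orderOf_map_dvd q _).trans (by rw [Subgroup.orderOf_mk])
    rw [orderOf_eq_one_iff, ← MonoidHom.mem_ker, Abelianization.ker_of,
      ← Subgroup.mem_map_iff_mem U.subtype_injective, Subgroup.map_subtype_commutator] at h4
    exact h4
  · have hle : H.map (MulAut.conj g).toMonoidHom ≤ U := by
      rintro _ ⟨h, hh, rfl⟩
      exact hH ((Subgroup.mem_normalizer_iff.1 hg h).1 hh)
    obtain ⟨u, hu, c, hc, rfl⟩ := h3 g hle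
    have hcN : c ∈ Subgroup.normalizer (H : Set G) := Subgroup.centralizer_le_normalizer _ hc.2
    have huN : u ∈ Subgroup.normalizer (H : Set G) := by
      have := mul_mem hg (inv_mem hcN); simpa using this
    exact mul_mem (Subgroup.mem_sup_right ⟨hu, huN⟩) (Subgroup.mem_sup_left hc)
  · exact sup_le (inf_le_right.trans (Subgroup.centralizer_le_normalizer _)) inf_le_right

end Cfsg.Agent.S1460
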