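import Cfsg.Statements.S1462
import Cfsg.Agent.Lib.Fusion.AB
import Cfsg.Agent.Lib.Fusion.OmegaSeries
import Cfsg.Agent.Lib.Fusion.SolvableBalance
import Cfsg.Agent.Lib.Solv.PLength

set_option autoImplicit false
open Cfsg
open Cfsg.Agent
open scoped commutatorElement

namespace Cfsg.Agent.S1462

theorem result {G : Type*} [Group G] [Finite G] [Group.IsSolvable G] (p : ℕ) [Fact p.Prime] (hp : p ≠ 2) (hpl : Cfsg.PLengthLE p 1 G) (E L : Subgroup G) (hE : Cfsg.IsElementaryAbelian p E)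
    (hEmax : ∀ B : Subgroup G, Cfsg.IsElementaryAbelian p B → E ≤ B → B = E) (hL : (Nat.card L).Coprime p) (hEL : E ≤ Subgroup.normalizer (L : Set G)) :
    L ≤ Cfsg.pPrimeCore p G := by
  classical
  obtain ⟨f, hf0, hftop, hfn, hfle, hok⟩ := (Solv.PLen.pLengthLE_iff 1).1 hpl
  haveI := hfn 1
  haveI := hfn 2
  set R := pPrimeCore p G with hR
  set π := QuotientGroup.mk' R with hπ
  have hπs : Function.Surjective π := QuotientGroup.mk'_surjective R
  have hRc : (Nat.card ↥R).Coprime p := Fusion.card_pPrimeCore_coprime p G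
  have hR0 : pPrimeCore p (G ⧸ R) = ⊥ := Fusion.pPrimeCore_quotient_eq_bot
  obtain ⟨Pb, hPb⟩ : ∃ Pb, Pb = pCore p (G ⧸ R) := ⟨_, rfl⟩
  haveI : Pb.Normal := hPb ▸ inferInstance
  have hPbp : IsPGroup p ↥Pb := hPb ▸ Fusion.isPGroup_pCore p _
  have hcent : Subgroup.centralizer (Pb : Set (G ⧸ R)) ≤ Pb :=
    hPb ▸ Fusion.centralizer_pCore_le_of_solvable inferInstance hR0
  have hf1 : f 1 ≤ R := by
    refine Fusion.le_pPrimeCore ?_
    have := hok 0
    rw [hf0, Subgroup.relIndex_bot_left] at this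
    simpa [Solv.PLen.OkIndex] using this
  have hf2 : (f 2).map π ≤ Pb := by
    haveI : ((f 2).map π).Normal := Subgroup.Normal.map inferInstance π hπs
    obtain ⟨a, ha⟩ : ∃ a, (f 1).relIndex (f 2) = p ^ a := by
      simpa [Solv.PLen.OkIndex] using hok 1
    refine hPb ▸ Fusion.le_pCore ?_
    have hd : Nat.card ((f 2).map π) ∣ p ^ a := by
      rw [← Subgroup.relIndex_ker, QuotientGroup.ker_mk', ← ha]
      exact Subgroup.relIndex_dvd_of_le_left _ hf1
    obtain ⟨j, -, hj⟩ := (Nat.dvd_prime_pow Fact.out).1 hd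
    exact IsPGroup.of_card hj
  have hidx : (f 2).index.Coprime p := by
    have := hok 2
    rw [hftop 3 le_rfl, Subgroup.relIndex_top_right] at this
    simpa [Solv.PLen.OkIndex] using this
  have hpel : ∀ x : G, (∃ k : ℕ, x ^ p ^ k = 1) → π x ∈ Pb := fun x ⟨k, hk⟩ => by
    refine hf2 (Subgroup.mem_map_of_mem π ?_)
    rw [← QuotientGroup.eq_one_iff, ← orderOf_eq_one_iff]
    exact Nat.eq_one_of_dvd_coprimes (hidx.pow_right k)
      ((orderOf_dvd_natCard _).trans (Subgroup.index_eq_card _).symm.dvd)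
      ((orderOf_map_dvd (QuotientGroup.mk' (f 2)) x).trans (orderOf_dvd_of_pow_eq_one hk))
  have hEp : IsPGroup p ↥E := fun e => ⟨1, Subtype.ext (by
    rw [SubmonoidClass.coe_pow, pow_one, hE.2 _ e.2]; rfl)⟩
  obtain ⟨S, hES⟩ := hEp.exists_le_sylow
  have hSmap : (S : Subgroup G).map π = Pb := by
    refine le_antisymm ?_ (hPbp.le_sylow_of_normal (S.mapSurjective hπs))
    rintro _ ⟨x, hx, rfl⟩
    obtain ⟨k, hk⟩ := S.isPGroup' ⟨x, hx⟩
    exact hpel x ⟨k, congrArg Subtype.val hk⟩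
  have hSR : ∀ x ∈ (S : Subgroup G), π x = 1 → x = 1 := fun x hx h => by
    obtain ⟨k, hk⟩ := S.isPGroup' ⟨x, hx⟩
    rw [← orderOf_eq_one_iff]
    have hxR : x ∈ R := (QuotientGroup.eq_one_iff x).1 h
    exact Nat.eq_one_of_dvd_coprimes (hRc.pow_right k)
      (Subgroup.orderOf_mk x hxR ▸ orderOf_dvd_natCard (⟨x, hxR⟩ : ↥R))
      (orderOf_dvd_of_pow_eq_one (congrArg Subtype.val hk))
  intro l hl
  have hlp : (orderOf (π l)).Coprime p :=
    hL.coprime_dvd_left ((orderOf_map_dvd π l).trans (Subgroup.orderOf_mk l hl ▸ orderOf_dvd_natCard (⟨l, hl⟩ : ↥L)))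
  obtain ⟨Eb, hEb⟩ : ∃ Eb, Eb = E.map π := ⟨_, rfl⟩
  have hEbP : Eb ≤ Pb := hEb ▸ hSmap ▸ Subgroup.map_mono hES
  have hlE : ∀ t ∈ Eb, π l * t = t * π l := by
    rw [hEb]
    rintro _ ⟨e, he, rfl⟩
    have hc : l * e * l⁻¹ * e⁻¹ ∈ L := by
      rw [show l * e * l⁻¹ * e⁻¹ = l * (e * l⁻¹ * e⁻¹) by group]
      exact mul_mem hl ((Subgroup.mem_normalizer_iff.1 (hEL he) _).1 (inv_mem hl))
    have hcP : π (l * e * l⁻¹ * e⁻¹) ∈ Pb := by
      rw [map_mul, map_mul, map_mul, map_inv, map_inv]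
      have he' : π e ∈ Pb := hEbP (hEb ▸ Subgroup.mem_map_of_mem π he)
      exact mul_mem ((inferInstance : Pb.Normal).conj_mem _ he' (π l)) (inv_mem he')
    obtain ⟨k, hk⟩ := hPbp ⟨_, hcP⟩
    have h1 : π (l * e * l⁻¹ * e⁻¹) = 1 := by
      rw [← orderOf_eq_one_iff]
      exact Nat.eq_one_of_dvd_coprimes (hL.pow_right k)
        ((orderOf_map_dvd π _).trans (Subgroup.orderOf_mk _ hc ▸ orderOf_dvd_natCard (⟨_, hc⟩ : ↥L)))
        (orderOf_dvd_of_pow_eq_one (congrArg Subtype.val hk))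
    rw [map_mul, map_mul, map_mul, map_inv, map_inv, mul_inv_eq_one, mul_inv_eq_iff_eq_mul] at h1
    exact h1
  obtain ⟨Q, hQ⟩ : ∃ Q, Q = Pb ⊓ Subgroup.centralizer (Eb : Set (G ⧸ R)) := ⟨_, rfl⟩
  have hlN : π l ∈ Subgroup.normalizer (Q : Set (G ⧸ R)) := by
    refine Fusion.mem_normalizer_of_cj_le ?_
    rintro _ ⟨q, hq, rfl⟩
    rw [hQ] at hq ⊢
    obtain ⟨hq1, hq2⟩ := Subgroup.mem_inf.1 hq
    show π l * q * (π l)⁻¹ ∈ _
    refine Subgroup.mem_inf.2 ⟨(inferInstance : Pb.Normal).conj_mem _ hq1 _, Subgroup.mem_centralizer_iff.2 fun t ht => ?_⟩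
    have e1 : Commute t (π l) := (hlE t ht).symm
    exact ((e1.mul_right (Subgroup.mem_centralizer_iff.1 hq2 t ht)).mul_right e1.inv_right).eq
  obtain ⟨α, hα, hαo⟩ := Fusion.exists_conj_aut hlN
  have hα1 : α = 1 := by
    refine Fusion.aut_eq_one_of_fix_omega (p := p) (hPbp.to_le (hQ ▸ inf_le_left)) α
      (hlp.coprime_dvd_left hαo) fun q hq => Subtype.ext ?_
    rw [hα]
    obtain ⟨hq1, hq2⟩ := Subgroup.mem_inf.1 (hQ.le q.2)
    have hqp : (q : G ⧸ R) ^ p = 1 := by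
      have hq' : q ^ p = 1 := by
        have := hq
        simpa [Local.FS.IsOmega, hp] using this
      exact congrArg Subtype.val hq'
    obtain ⟨x, hx, hxq⟩ := hSmap.ge hq1
    have hxp : x ^ p = 1 := hSR _ (pow_mem hx p) (by rw [map_pow, hxq, hqp])
    have hxe : ∀ e ∈ E, e * x = x * e := fun e he => by
      have h1 : e * x * e⁻¹ * x⁻¹ = 1 := hSR _ (mul_mem (mul_mem (mul_mem (hES he) hx) (inv_mem (hES he))) (inv_mem hx)) (by
        rw [map_mul, map_mul, map_mul, map_inv, map_inv, hxq,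
          Subgroup.mem_centralizer_iff.1 hq2 (π e) (hEb ▸ Subgroup.mem_map_of_mem π he)]
        group)
      rw [mul_inv_eq_one, mul_inv_eq_iff_eq_mul] at h1
      exact h1
    obtain ⟨B, hB⟩ : ∃ B, B = E ⊔ Subgroup.zpowers x := ⟨_, rfl⟩
    have hBel : IsElementaryAbelian p B := by
      have hEc := hE.1
      have hx' : E ≤ Subgroup.centralizer ({x} : Set G) := fun e he =>
        Subgroup.mem_centralizer_singleton_iff.2 (hxe e he)
      have hBle : B ≤ Subgroup.centralizer (B : Set G) := by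
        rw [hB]
        refine sup_le (Subgroup.le_centralizer_iff.1 (sup_le ?_ (Subgroup.zpowers_le.2 ?_)))
          (Subgroup.le_centralizer_iff.1 (sup_le ?_ ?_))
        · exact fun a ha => Subgroup.mem_centralizer_iff.2 fun b hb =>
            congrArg Subtype.val (hEc.is_comm.comm ⟨b, hb⟩ ⟨a, ha⟩)
        · exact Subgroup.mem_centralizer_iff.2 fun e he => hxe e he
        · intro e he
          refine Subgroup.mem_centralizer_iff.2 fun y hy => ?_
          obtain ⟨j, rfl⟩ := hy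
          exact (Commute.zpow_left (hxe e he).symm j).eq
        · intro y hy
          refine Subgroup.mem_centralizer_iff.2 fun z hz => ?_
          obtain ⟨i, rfl⟩ := hy
          obtain ⟨j, rfl⟩ := hz
          exact ((Commute.refl x).zpow_zpow j i).eq
      refine ⟨⟨⟨fun a b => Subtype.ext (Subgroup.mem_centralizer_iff.1 (hBle b.2) a a.2)⟩⟩, fun b hb => ?_⟩
      have hb' := hb
      rw [hB, ← SetLike.mem_coe, Subgroup.coe_mul_of_right_le_normalizer_left] at hb'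
      · obtain ⟨e, he, y, hy, rfl⟩ := hb'
        obtain ⟨j, rfl⟩ := hy
        show (e * x ^ j) ^ p = 1
        rw [(show Commute e (x ^ j) from (show Commute e x from hxe e he).zpow_right j).mul_pow, hE.2 e he,
          ← zpow_natCast (x ^ j), ← zpow_mul, mul_comm j, zpow_mul, zpow_natCast, hxp, one_zpow, one_mul]
      · exact Subgroup.zpowers_le.2 (Subgroup.centralizer_le_normalizer _ (Subgroup.mem_centralizer_iff.2 fun e he => hxe e he))
    have hxE : x ∈ E := hEmax B hBel (hB ▸ le_sup_left) ▸ (hB ▸ Subgroup.mem_sup_right (Subgroup.mem_zpowers x))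
    rw [hlE q (hEb ▸ hxq ▸ Subgroup.mem_map_of_mem π hxE), mul_inv_cancel_right]
  have hlP : π l ∈ Subgroup.centralizer (Pb : Set (G ⧸ R)) := by
    refine Fusion.mem_centralizer_of_AB hPbp (hPbp.to_le hEbP) (by rw [Subgroup.normalizer_eq_top]; exact le_top)
      (by rw [Subgroup.normalizer_eq_top]; trivial) hlE hlp fun q hq hqT => ?_
    have hqQ : q ∈ Q := hQ ▸ Subgroup.mem_inf.2 ⟨hq, Subgroup.mem_centralizer_iff.2 fun t ht => (hqT t ht).symm⟩
    have h := hα ⟨q, hqQ⟩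
    rw [hα1, MulAut.one_apply] at h
    exact (eq_mul_inv_iff_mul_eq.1 h).symm
  have hlP' := hcent hlP
  obtain ⟨k, hk⟩ := hPbp ⟨_, hlP'⟩
  refine (QuotientGroup.eq_one_iff l).1 (orderOf_eq_one_iff.1 ?_)
  exact Nat.eq_one_of_dvd_coprimes (hlp.pow_right k) dvd_rfl
    (orderOf_dvd_of_pow_eq_one (congrArg Subtype.val hk))

end Cfsg.Agent.S1462
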