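import Cfsg.Statements.S1463
import Cfsg.Agent.Lib.Fusion.Dickson
import Cfsg.Agent.Lib.Lead.GL2Sylow

set_option autoImplicit false
open scoped MatrixGroups
open Cfsg

namespace Cfsg.Agent.S1463

theorem result {F : Type*} [Field F] (p : ℕ) [Fact p.Prime] [CharP F p] (hp : p ≠ 2)
    (H : Subgroup (GL (Fin 2) F)) [Finite H] (hodd : Odd (Nat.card H))
    (hirr : ∀ v : Fin 2 → F, v ≠ 0 → ∃ g ∈ H, (g : Matrix (Fin 2) (Fin 2) F).mulVec v ∉ Submodule.span F {v}) :
    ¬ p ∣ Nat.card H := by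
  classical
  intro hdvd
  obtain ⟨z₀, hz₀⟩ := exists_prime_orderOf_dvd_card' p hdvd
  set z : GL (Fin 2) F := (z₀ : GL (Fin 2) F)
  have hz : z ∈ H := z₀.2
  have hzo : orderOf z = p := (Subgroup.orderOf_coe z₀).trans hz₀
  have hzp : z ^ p = 1 := hzo ▸ pow_orderOf_eq_one z
  have hcomm : ∀ x ∈ H, ∀ y ∈ H, x ^ p = 1 → y ^ p = 1 → x * y = y * x := by
    intro x hx y hy hxp hyp
    by_contra hne
    let S : Subgroup (Matrix.SpecialLinearGroup (Fin 2) F) := H.comap Matrix.SpecialLinearGroup.toGL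
    let T : ↥S →* ↥H := (Matrix.SpecialLinearGroup.toGL (n := Fin 2) (R := F)).subgroupComap H
    have hT : Function.Injective T := fun a b h =>
      Subtype.ext (Matrix.SpecialLinearGroup.toGL_injective (congrArg Subtype.val h))
    haveI : Finite ↥S := Finite.of_injective T hT
    have hlift : ∀ g ∈ H, g ^ p = 1 → ∃ a ∈ S, Matrix.SpecialLinearGroup.toGL a = g ∧ a ^ p = 1 := by
      intro g hg hgp
      have hd : Matrix.GeneralLinearGroup.det g = 1 :=
        Lead.GL2Sylow.det_eq_one_of_pow p (k := 1) (by rwa [pow_one])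
      have hd' : (g : Matrix (Fin 2) (Fin 2) F).det = 1 := congrArg Units.val hd
      obtain ⟨a0, e⟩ : ∃ a0 : Matrix.SpecialLinearGroup (Fin 2) F, Matrix.SpecialLinearGroup.toGL a0 = g :=
        ⟨⟨_, hd'⟩, Units.ext rfl⟩
      refine ⟨a0, Subgroup.mem_comap.2 (by rw [e]; exact hg), e, Matrix.SpecialLinearGroup.toGL_injective ?_⟩
      rw [map_pow, e, hgp, map_one]
    obtain ⟨a, ha, rfl, hap⟩ := hlift x hx hxp
    obtain ⟨b, hb, rfl, hbp⟩ := hlift y hy hyp
    obtain ⟨L, hL, ⟨e⟩⟩ := Fusion.Dickson.exists_sl2_le p hp S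
      ⟨a, ha, b, hb, hap, hbp, fun h => hne (by rw [← map_mul, ← map_mul, h])⟩
    have hev : 2 ∣ Nat.card (Matrix.SpecialLinearGroup (Fin 2) (ZMod p)) := by
      let m : Matrix.SpecialLinearGroup (Fin 2) (ZMod p) := ⟨!![-1, 0; 0, -1], by simp [Matrix.det_fin_two]⟩
      have hm2 : m ^ 2 = 1 := by
        rw [pow_two]; apply Subtype.ext
        show (!![-1, 0; 0, -1] : Matrix (Fin 2) (Fin 2) (ZMod p)) * !![-1, 0; 0, -1] = 1
        ext i j
        fin_cases i <;> fin_cases j <;> simp [m, Matrix.mul_apply, Fin.sum_univ_two]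
      have hm1 : m ≠ 1 := by
        intro h
        have h00 : (-1 : ZMod p) = 1 := congrFun (congrFun (congrArg Subtype.val h) 0) 0
        have h2 : ((2 : ℕ) : ZMod p) = 0 := by push_cast; linear_combination -h00
        rw [ZMod.natCast_eq_zero_iff] at h2
        exact hp ((Nat.prime_dvd_prime_iff_eq Fact.out Nat.prime_two).1 h2)
      have := orderOf_dvd_natCard m
      rwa [orderOf_eq_prime hm2 hm1] at this
    have h2 : 2 ∣ Nat.card ↥H :=
      (hev.trans (Nat.card_congr e.toEquiv).symm.dvd).trans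
        ((Subgroup.card_dvd_of_le hL).trans (Subgroup.card_dvd_of_injective T hT))
    exact (Nat.not_even_iff_odd.2 hodd) (even_iff_two_dvd.2 h2)
  have hz1 : z ≠ 1 := fun h => (Fact.out : p.Prime).ne_one (by rw [← hzo, h, orderOf_one])
  set M : Matrix (Fin 2) (Fin 2) F := (z : Matrix (Fin 2) (Fin 2) F) with hM
  have hMp : M ^ p = 1 := by rw [hM, ← Units.val_pow_eq_pow_val, hzp, Units.val_one]
  obtain ⟨v, hv0, hv⟩ : ∃ v : Fin 2 → F, v ≠ 0 ∧ (M - 1).mulVec v = 0 := by
    refine Matrix.exists_mulVec_eq_zero_iff.2 ?_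
    haveI : Fact (0 < p) := ⟨(Fact.out : p.Prime).pos⟩
    have h0 : (M - 1) ^ p = 0 := by
      rw [sub_pow_char_of_commute p (Commute.one_right M), hMp, one_pow, sub_self]
    have := congrArg Matrix.det h0
    rw [Matrix.det_pow, Matrix.det_zero] at this
    · exact pow_eq_zero_iff (Fact.out : p.Prime).ne_zero |>.1 this
  have hzv : M.mulVec v = v := by
    rwa [Matrix.sub_mulVec, Matrix.one_mulVec, sub_eq_zero] at hv
  have hline : ∀ g : GL (Fin 2) F, g ≠ 1 → ∀ a b : Fin 2 → F, a ≠ 0 →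
      (g : Matrix (Fin 2) (Fin 2) F).mulVec a = a → (g : Matrix (Fin 2) (Fin 2) F).mulVec b = b →
      b ∈ Submodule.span F {a} := by
    intro g hg a b ha hga hgb
    by_contra hb
    refine hg (Lead.GL2Sylow.eq_one_of_fix_two ?_ hga hgb)
    exact (LinearIndependent.pair_iff' ha).2 fun c hc => hb (Submodule.mem_span_singleton.2 ⟨c, hc⟩)
  obtain ⟨h, hh, hnot⟩ := hirr v hv0
  apply hnot
  set g : GL (Fin 2) F := h * z * h⁻¹ with hg
  have hgp : g ^ p = 1 := by rw [hg, conj_pow, hzp, mul_one, mul_inv_cancel]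
  have hg1 : g ≠ 1 := fun e => hz1 (conj_eq_one_iff.1 e)
  have hc := hcomm z hz g (mul_mem (mul_mem hh hz) (inv_mem hh)) hzp hgp
  set w := (h : Matrix (Fin 2) (Fin 2) F).mulVec v with hw
  have hw0 : w ≠ 0 := fun e => hv0 (by
    have := congrArg ((h⁻¹ : GL (Fin 2) F) : Matrix (Fin 2) (Fin 2) F).mulVec e
    rwa [hw, Matrix.mulVec_mulVec, ← Units.val_mul, inv_mul_cancel, Units.val_one,
      Matrix.one_mulVec, Matrix.mulVec_zero] at this)
  have hgw : (g : Matrix (Fin 2) (Fin 2) F).mulVec w = w := by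
    rw [hw, Matrix.mulVec_mulVec, ← Units.val_mul, hg, inv_mul_cancel_right, Units.val_mul,
      ← Matrix.mulVec_mulVec, hzv]
  obtain ⟨c, hcw⟩ := Submodule.mem_span_singleton.1 (hline g hg1 w (M.mulVec w) hw0 hgw (by
    rw [hM, Matrix.mulVec_mulVec, ← Units.val_mul, ← hc, Units.val_mul, ← Matrix.mulVec_mulVec, hgw]))
  have hck : ∀ k : ℕ, (M ^ k).mulVec w = c ^ k • w := by
    intro k
    induction k with
    | zero => simp
    | succ k ih => rw [pow_succ', ← Matrix.mulVec_mulVec, ih, Matrix.mulVec_smul, ← hcw, smul_smul, pow_succ]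
  have hc1 : c = 1 := by
    have h1 := hck p
    rw [hMp, Matrix.one_mulVec] at h1
    have h2 : (c ^ p - 1) • w = 0 := by rw [sub_smul, one_smul, ← h1, sub_self]
    have h3 : c ^ p - 1 = 0 := (smul_eq_zero.1 h2).resolve_right hw0
    rw [show (1 : F) = 1 ^ p from (one_pow p).symm, ← sub_pow_char] at h3
    exact sub_eq_zero.1 (pow_eq_zero_iff (Fact.out : p.Prime).ne_zero |>.1 h3)
  exact hline z hz1 v w hv0 hzv (by rw [hc1, one_smul] at hcw; exact hcw.symm)

end Cfsg.Agent.S1463
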