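import Cfsg.Statements.S1464
import Cfsg.Agent.Lib.SSF.HU

set_option autoImplicit false
open Cfsg

namespace Cfsg.Agent.S1464

theorem result {G : Type*} [Group G] [Finite G] [Group.IsSolvable G] (hodd : Odd (Nat.card G)) (p : ℕ) [Fact p.Prime] (hp : p ≠ 2) (P A : Subgroup G) (hP : IsPGroup p P) (hPn : (Cfsg.pPrimeCore p G ⊔ P).Normal)
    (hA : IsPGroup p A) (hAN : A ≤ Subgroup.normalizer (P : Set G)) (hquad : ⁅⁅P, A⁆, A⁆ = ⊥) :
    (A.subgroupOf (Subgroup.normalizer (P : Set G))).map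
        (QuotientGroup.mk' ((Subgroup.centralizer (P : Set G)).subgroupOf (Subgroup.normalizer (P : Set G))))
      ≤ Cfsg.pCore p _ := by
  have hst : IsNormalizerPStable p G := Fusion.isNormalizerPStable_of_qd_free hp fun hinv =>
    (Nat.not_even_iff_odd.2 hodd) (even_iff_two_dvd.2
      ((SSF.even_card_qd hp).trans (SSF.involves_card_dvd hinv)))
  rintro _ ⟨⟨a, haN⟩, ha, rfl⟩
  have ha' : a ∈ A := ha
  refine hst P hP a haN (le_bot_iff.1 (le_trans ?_ hquad.le))
  exact Subgroup.commutator_mono (Subgroup.commutator_mono le_rfl (Subgroup.zpowers_le.2 ha'))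
    (Subgroup.zpowers_le.2 ha')

end Cfsg.Agent.S1464
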