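import Cfsg.Statements.S1465
import Cfsg.Agent.Lib.OddLocal.OddStable

set_option autoImplicit false
open Cfsg
open Cfsg.Agent

namespace Cfsg.Agent.S1465

theorem result {G : Type*} [Group G] [Finite G] [Group.IsSolvable G] (hodd : Odd (Nat.card G)) (p : ℕ) [Fact p.Prime] (hp : p ≠ 2) (P : Subgroup G) [P.Normal] (hP : IsPGroup p P)
    (S : Set (Subgroup G)) (hS : ∀ B ∈ S, IsMulCommutative B ∧ IsPGroup p B ∧ P ≤ Subgroup.normalizer (B : Set G)) :
    (sSup S).map (QuotientGroup.mk' (Subgroup.centralizer (P : Set G))) ≤ Cfsg.pCore p (G ⧸ Subgroup.centralizer (P : Set G)) ∧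
      (Cfsg.pPrimeCore p G = ⊥ → Cfsg.pCore p G ⊓ Subgroup.centralizer (P : Set G) ≤ P → sSup S ≤ Cfsg.pCore p G) := by
  refine ⟨?_, fun h0 hCP => sSup_le fun B hB => ?_⟩
  · rw [Subgroup.map_le_iff_le_comap]
    refine sSup_le fun B hB b hb => ?_
    exact OddLocal.OddStable.mk_mem_pCore hodd hp P hP B (hS B hB).1 (hS B hB).2.2 hb
  · exact OddLocal.OddStable.le_pCore_of_normalized hodd hp P hP h0 hCP B (hS B hB).1 (hS B hB).2.2

end Cfsg.Agent.S1465
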