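import Cfsg.Statements.S1466
import Cfsg.Agent.Lib.Local.PuigBasic

set_option autoImplicit false
open Cfsg

namespace Cfsg.Agent.S1466

theorem result {R : Type*} [Group R] [Finite R] (p : ℕ) [Fact p.Prime] (hR : IsPGroup p R) [Nontrivial R] :
    (∀ i : ℕ, 0 < i → Subgroup.center R ≤ Subgroup.centralizer ((Cfsg.puigSeq R i : Subgroup R) : Set R) ∧
        Subgroup.centralizer ((Cfsg.puigSeq R i : Subgroup R) : Set R) ≤ Cfsg.puigSeq R i) ∧
      (Subgroup.center R ≤ Subgroup.centralizer ((Cfsg.puigLower R : Subgroup R) : Set R) ∧ Subgroup.centralizer ((Cfsg.puigLower R : Subgroup R) : Set R) ≤ Cfsg.puigLower R) ∧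
      (Subgroup.center R ≤ Subgroup.centralizer ((Cfsg.puigSubgroup R : Subgroup R) : Set R) ∧ Subgroup.centralizer ((Cfsg.puigSubgroup R : Subgroup R) : Set R) ≤ Cfsg.puigSubgroup R) ∧
      Cfsg.puigSubgroup R ≠ ⊥ ∧ Cfsg.puigLower R ≠ ⊥ := by
  haveI := hR.isNilpotent
  obtain ⟨A, hAn, hAa, hAC⟩ := PuigBasic.exists_abelian_normal_self_centralizing (G := R)
  haveI := hAn
  haveI := hAa
  have hodd : ∀ i : ℕ, 0 < i → A ≤ puigSeq R i := fun i hi => by
    obtain ⟨j, rfl⟩ : ∃ j, i = j + 1 := ⟨i - 1, by omega⟩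
    exact PuigBasic.le_puigSeq_of_normal A j
  have hsub : A ≤ puigSubgroup R := le_iInf fun n => hodd _ (Nat.succ_pos _)
  have hlow : A ≤ puigLower R :=
    (hodd (2 * 1) (by norm_num)).trans (le_iSup (fun n => puigSeq R (2 * n)) 1)
  have key : ∀ X : Subgroup R, A ≤ X → Subgroup.center R ≤ Subgroup.centralizer (X : Set R) ∧
      Subgroup.centralizer (X : Set R) ≤ X := fun X hX =>
    ⟨Subgroup.center_le_centralizer _, (Subgroup.centralizer_le hX).trans (hAC.trans hX)⟩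
  have hne : A ≠ ⊥ := by
    intro h
    subst h
    obtain ⟨x, hx⟩ := exists_ne (1 : R)
    exact hx (Subgroup.mem_bot.1 (hAC (by
      rw [Subgroup.mem_centralizer_iff]
      intro y hy
      rw [Subgroup.mem_bot.1 hy, one_mul, mul_one])))
  exact ⟨fun i hi => key _ (hodd i hi), key _ hlow, key _ hsub,
    fun h => hne (le_bot_iff.1 (h ▸ hsub)), fun h => hne (le_bot_iff.1 (h ▸ hlow))⟩

end Cfsg.Agent.S1466
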