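import Cfsg.Statements.S1467
import Cfsg.Agent.Lib.Local.PuigBasic

set_option autoImplicit false
open Cfsg

namespace Cfsg.Agent.S1467

theorem result {G : Type*} [Group G] [Finite G] :
    Cfsg.puigSeq G 0 = ⊥ ∧ Cfsg.puigSeq G 1 = ⊤ ∧
      (∀ n m : ℕ, Cfsg.puigSeq G (2 * n) ≤ Cfsg.puigSeq G (2 * n + 2) ∧ Cfsg.puigSeq G (2 * n) ≤ Cfsg.puigSeq G (2 * m + 1) ∧
        Cfsg.puigSeq G (2 * m + 3) ≤ Cfsg.puigSeq G (2 * m + 1)) ∧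
      (∃ k : ℕ, ∀ n : ℕ, k ≤ n → Cfsg.puigSeq G (2 * n) = Cfsg.puigLower G ∧ Cfsg.puigSeq G (2 * n + 1) = Cfsg.puigSubgroup G) ∧
      Cfsg.puigLower G ≤ Cfsg.puigSubgroup G ∧
      Cfsg.puigStep (Cfsg.puigLower G) = Cfsg.puigSubgroup G ∧ Cfsg.puigStep (Cfsg.puigSubgroup G) = Cfsg.puigLower G := by
  exact ⟨rfl, PuigBasic.puigSeq_one, fun n m => ⟨PuigBasic.puigSeq_even_le_succ n,
    PuigBasic.puigSeq_even_le_odd n m, PuigBasic.puigSeq_odd_succ_le m⟩, PuigBasic.exists_stable,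
    PuigBasic.puigLower_le, PuigBasic.puigStep_lower, PuigBasic.puigStep_subgroup⟩

end Cfsg.Agent.S1467
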