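import Cfsg.Statements.S1470


set_option autoImplicit false
open Cfsg

namespace Cfsg.Agent.S1470

open Polynomial in
/-- If the norm of `1 + k * b` is one for every natural `k`, then `p ≤ [K : F_p]`. -/
theorem p_le_of_norm_affine (p q : ℕ) [Fact p.Prime] (hq : q ≠ 0) (b : GaloisField p q)
    (hb : b ≠ 0) (h : ∀ k : ℕ, Algebra.norm (ZMod p) (1 + (k : GaloisField p q) * b) = 1) :
    p ≤ q := by
  classical
  by_contra hlt
  push Not at hlt
  have : CharP (GaloisField p q) p := inferInstance
  let P : (GaloisField p q)[X] := (∏ i ∈ Finset.range q, (C (b ^ p ^ i) * X + C 1)) - C 1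
  have hb' : ∀ i, b ^ p ^ i ≠ 0 := fun i => pow_ne_zero _ hb
  have hne : ∀ i ∈ Finset.range q, (C (b ^ p ^ i) * X + C 1 : (GaloisField p q)[X]) ≠ 0 := by
    intro i _ h0
    have := congrArg natDegree h0
    rw [natDegree_linear (hb' i), natDegree_zero] at this
    exact one_ne_zero this
  have hdeg : P.natDegree = q := by
    simp only [P]
    rw [natDegree_sub_C, natDegree_prod _ _ hne,
      Finset.sum_congr rfl (fun i _ => natDegree_linear (hb' i))]
    simp
  have hev : ∀ i : Fin p, P.eval ((i : ℕ) : GaloisField p q) = 0 := by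
    intro i
    have h1 : ((∏ j ∈ Finset.range q, (1 + ((i : ℕ) : GaloisField p q) * b) ^ p ^ j)) = 1 := by
      have := congrArg (algebraMap (ZMod p) (GaloisField p q)) (h i)
      rw [map_one, FiniteField.algebraMap_norm_eq_prod_pow, GaloisField.finrank p hq,
        Nat.card_zmod] at this
      exact this
    have h2 : ∀ j, (1 + ((i : ℕ) : GaloisField p q) * b) ^ p ^ j
        = 1 + ((i : ℕ) : GaloisField p q) * b ^ p ^ j := by
      intro j
      have e := map_natCast (iterateFrobenius (GaloisField p q) p j) (i : ℕ)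
      rw [iterateFrobenius_def] at e
      rw [add_pow_char_pow, one_pow, mul_pow, e]
    simp only [P, eval_sub, eval_prod, eval_add, eval_mul, eval_C, eval_X]
    rw [sub_eq_zero]
    refine (Finset.prod_congr rfl fun j _ => ?_).trans h1
    rw [h2 j]; ring
  have h0 : P = 0 := by
    apply eq_zero_of_natDegree_lt_card_of_eval_eq_zero P
      (f := fun i : Fin p => ((i : ℕ) : GaloisField p q))
    · intro i j hij
      exact Fin.ext (CharP.natCast_injOn_Iio (GaloisField p q) p i.2 j.2 hij)
    · exact hev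
    · simpa [hdeg] using hlt
  rw [h0, natDegree_zero] at hdeg
  exact hq hdeg.symm

theorem chain (p q : ℕ) [Fact p.Prime] (E : Set (GaloisField p q))
    (hE : E = {a : GaloisField p q | Algebra.norm (ZMod p) a = 1 ∧
      Algebra.norm (ZMod p) (2 - a) = 1})
    (hinv : ∀ a ∈ E, a⁻¹ ∈ E) {a : GaloisField p q} (ha : a ∈ E) (k : ℕ) :
    Algebra.norm (ZMod p) (1 + (k : GaloisField p q) * (1 - a)) = 1 ∧
      (1 + (k : GaloisField p q) * (1 - a)) / (1 + ((k : GaloisField p q) + 1) * (1 - a)) ∈ E := by
  have hflip : ∀ x ∈ E, 2 - x ∈ E := by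
    intro x hx
    rw [hE] at hx ⊢
    refine ⟨hx.2, ?_⟩
    rw [sub_sub_cancel]
    exact hx.1
  induction k with
  | zero =>
    refine ⟨by simp, ?_⟩
    have h := hinv _ (hflip a ha)
    have e : (1 + ((0 : ℕ) : GaloisField p q) * (1 - a)) /
        (1 + (((0 : ℕ) : GaloisField p q) + 1) * (1 - a)) = (2 - a)⁻¹ := by
      rw [Nat.cast_zero, zero_mul, add_zero, zero_add, one_mul, one_div]
      congr 1; ring
    rw [e]; exact h
  | succ k ih =>
    obtain ⟨hN, hx⟩ := ih
    set d := 1 + ((k : GaloisField p q) + 1) * (1 - a) with hd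
    have hx1 := hx
    rw [hE] at hx1
    have hd0 : d ≠ 0 := by
      intro h0
      have := hx1.1
      rw [h0, div_zero, Algebra.norm_zero] at this
      exact zero_ne_one this
    have hNd : Algebra.norm (ZMod p) d = 1 := by
      have h := congrArg (fun z => z * Algebra.norm (ZMod p) d) hx1.1
      simp only [← map_mul, div_mul_cancel₀ _ hd0, one_mul, hN] at h
      exact h.symm
    push_cast
    refine ⟨hNd, ?_⟩
    have h := hinv _ (hflip _ hx)
    have e : d / (1 + ((k : GaloisField p q) + 1 + 1) * (1 - a))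
        = (2 - (1 + (k : GaloisField p q) * (1 - a)) / d)⁻¹ := by
      rw [show (2 : GaloisField p q) - (1 + (k : GaloisField p q) * (1 - a)) / d
        = (1 + ((k : GaloisField p q) + 1 + 1) * (1 - a)) / d by
          field_simp; rw [hd]; ring, inv_div]
    rw [e]; exact h


/-- Let p and q be odd primes with (p^q − 1)/(p − 1) coprime to p − 1, and let E be the set of elements a of the field with p ^ q elements whose norm to the prime field is 1 and for which 2 − a also has norm 1. If a⁻¹ ∈ E for every a ∈ E and E has at least two elements, then p ≤ q. -/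
theorem result (p q : ℕ) [Fact p.Prime] [Fact q.Prime] (hp : p ≠ 2) (hq : q ≠ 2) (hA : Nat.Coprime ((p ^ q - 1) / (p - 1)) (p - 1))
    (hinv : ∀ a ∈ {a : GaloisField p q | Algebra.norm (ZMod p) a = 1 ∧ Algebra.norm (ZMod p) (2 - a) = 1}, a⁻¹ ∈ {a : GaloisField p q | Algebra.norm (ZMod p) a = 1 ∧ Algebra.norm (ZMod p) (2 - a) = 1})
    (h2 : 2 ≤ Set.ncard {a : GaloisField p q | Algebra.norm (ZMod p) a = 1 ∧ Algebra.norm (ZMod p) (2 - a) = 1}) :
    p ≤ q := by
  classical
  obtain ⟨a, ha, hne⟩ := Set.exists_ne_of_one_lt_ncard (lt_of_lt_of_le one_lt_two h2) 1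
  exact p_le_of_norm_affine p q (Fact.out : q.Prime).ne_zero (1 - a) (sub_ne_zero.2 hne.symm)
    fun k => (chain p q _ rfl hinv ha k).1

end Cfsg.Agent.S1470
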