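import Cfsg.Statements.S1471


set_option autoImplicit false
open Cfsg

namespace Cfsg.Agent.S1471

/-- Composite of a multiplicative character of the prime field with the norm. -/
noncomputable def normChar (p q : ℕ) [Fact p.Prime] (χ : MulChar (ZMod p) ℂ) :
    MulChar (GaloisField p q) ℂ where
  toMonoidHom := χ.toMonoidHom.comp (Algebra.norm (ZMod p))
  map_nonunit' a ha := by
    have : a = 0 := by simpa [isUnit_iff_ne_zero] using ha
    subst this
    show χ (Algebra.norm (ZMod p) (0 : GaloisField p q)) = 0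
    rw [Algebra.norm_zero, χ.map_zero]

theorem normChar_apply (p q : ℕ) [Fact p.Prime] (χ : MulChar (ZMod p) ℂ) (x : GaloisField p q) :
    normChar p q χ x = χ (Algebra.norm (ZMod p) x) := rfl

theorem normChar_mul (p q : ℕ) [Fact p.Prime] (χ ψ : MulChar (ZMod p) ℂ) :
    normChar p q χ * normChar p q ψ = normChar p q (χ * ψ) := by
  ext x
  simp [normChar_apply]

theorem normChar_eq_one (p q : ℕ) [Fact p.Prime] {χ : MulChar (ZMod p) ℂ}
    (h : normChar p q χ = 1) : χ = 1 := by
  ext y
  obtain ⟨x, hx⟩ := FiniteField.norm_surjective (K := ZMod p) (K' := GaloisField p q) (y : ZMod p)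
  have hx0 : IsUnit x := by
    rw [isUnit_iff_ne_zero]; rintro rfl
    rw [Algebra.norm_zero] at hx
    exact y.ne_zero hx.symm
  rw [← hx, ← normChar_apply, h, MulChar.one_apply hx0, hx, MulChar.one_apply_coe]

theorem norm_jacobiSum_le (p q : ℕ) [Fact p.Prime] [Fintype (GaloisField p q)]
    (χ ψ : MulChar (ZMod p) ℂ) (hne : ¬(χ = 1 ∧ ψ = 1)) :
    ‖jacobiSum (normChar p q χ) (normChar p q ψ)‖ ≤
      Real.sqrt (Fintype.card (GaloisField p q)) := by
  have hone : (1 : ℝ) ≤ Real.sqrt (Fintype.card (GaloisField p q)) := by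
    rw [Real.one_le_sqrt]; exact_mod_cast Fintype.card_pos
  by_cases h1 : χ = 1
  · have h2 : normChar p q ψ ≠ 1 := fun h => hne ⟨h1, normChar_eq_one p q h⟩
    have : normChar p q χ = 1 := by
      subst h1; ext x
      rw [normChar_apply, MulChar.one_apply_coe, MulChar.one_apply]
      exact (x.isUnit.map (Algebra.norm (ZMod p)))
    rw [this, jacobiSum_one_nontrivial h2]; simpa using hone
  by_cases h2 : ψ = 1
  · have h3 : normChar p q χ ≠ 1 := fun h => h1 (normChar_eq_one p q h)
    have : normChar p q ψ = 1 := by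
      subst h2; ext x
      rw [normChar_apply, MulChar.one_apply_coe, MulChar.one_apply]
      exact (x.isUnit.map (Algebra.norm (ZMod p)))
    rw [this, jacobiSum_comm, jacobiSum_one_nontrivial h3]; simpa using hone
  have hχ : normChar p q χ ≠ 1 := fun h => h1 (normChar_eq_one p q h)
  have hψ : normChar p q ψ ≠ 1 := fun h => h2 (normChar_eq_one p q h)
  by_cases h3 : normChar p q χ * normChar p q ψ = 1
  · rw [eq_inv_of_mul_eq_one_right h3, jacobiSum_nontrivial_inv hχ, norm_neg, normChar_apply]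
    exact (DirichletCharacter.norm_le_one χ _).trans hone
  have hchar : ringChar ℂ ≠ ringChar (GaloisField p q) := by
    rw [ringChar.eq_zero, ringChar.eq (GaloisField p q) p]
    exact (Fact.out : p.Prime).ne_zero.symm
  have hmul := jacobiSum_mul_jacobiSum_inv hchar hχ hψ h3
  have hstar : jacobiSum (normChar p q χ)⁻¹ (normChar p q ψ)⁻¹ =
      star (jacobiSum (normChar p q χ) (normChar p q ψ)) := by
    simp only [jacobiSum, star_sum, star_mul', MulChar.star_apply']
  rw [hstar, RCLike.star_def, Complex.mul_conj'] at hmul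
  have hsq : ‖jacobiSum (normChar p q χ) (normChar p q ψ)‖ ^ 2 =
      (Fintype.card (GaloisField p q) : ℝ) := by exact_mod_cast hmul
  rw [← hsq, Real.sqrt_sq (norm_nonneg _)]

open Finset in
/-- Jacobi sum count of the pairs of norm one elements summing to two. -/
theorem two_le_of_five_le (p q : ℕ) [Fact p.Prime] (hp : 3 ≤ p) (hq : 5 ≤ q) :
    2 ≤ Set.ncard {a : GaloisField p q |
      Algebra.norm (ZMod p) a = 1 ∧ Algebra.norm (ZMod p) (2 - a) = 1} := by
  classical
  letI := Fintype.ofFinite (GaloisField p q)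
  set n := Set.ncard {a : GaloisField p q |
      Algebra.norm (ZMod p) a = 1 ∧ Algebra.norm (ZMod p) (2 - a) = 1} with hn
  have htwo : (2 : GaloisField p q) ≠ 0 := Ring.two_ne_zero (by
    rw [ringChar.eq (GaloisField p q) p]; omega)
  have ind : ∀ y : ZMod p, ∑ χ : DirichletCharacter ℂ p, χ y = if y = 1 then (p.totient : ℂ) else 0 :=
    fun y => DirichletCharacter.sum_characters_eq ℂ y
  let T : DirichletCharacter ℂ p → DirichletCharacter ℂ p → ℂ := fun χ ψ =>
    normChar p q χ 2 * normChar p q ψ 2 * jacobiSum (normChar p q χ) (normChar p q ψ)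
  have hsum : ((p.totient : ℂ) ^ 2 * n) = ∑ x : DirichletCharacter ℂ p × DirichletCharacter ℂ p,
      T x.1 x.2 := by
    have h1 : ∀ χ ψ, T χ ψ = ∑ a : GaloisField p q,
        χ (Algebra.norm (ZMod p) a) * ψ (Algebra.norm (ZMod p) (2 - a)) := by
      intro χ ψ
      rw [← Equiv.sum_comp (Equiv.mulLeft₀ (2 : GaloisField p q) htwo)]
      simp only [T, jacobiSum, Finset.mul_sum, Equiv.mulLeft₀_apply]
      refine Finset.sum_congr rfl fun a _ => ?_
      rw [show (2 : GaloisField p q) - 2 * a = 2 * (1 - a) by ring,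
        map_mul (Algebra.norm (ZMod p)), map_mul (Algebra.norm (ZMod p)), map_mul χ, map_mul ψ]
      simp only [normChar_apply]
      ring
    rw [Fintype.sum_prod_type]
    simp only [h1]
    conv_rhs => enter [2, χ]; rw [Finset.sum_comm]
    rw [Finset.sum_comm]
    simp only [← Finset.mul_sum, ← Finset.sum_mul, ind]
    rw [hn, Set.ncard_eq_toFinset_card', Finset.card_eq_sum_ones, Nat.cast_sum, Finset.mul_sum,
      ← Finset.sum_subset (Finset.subset_univ _)]
    · refine Finset.sum_congr rfl fun a ha => ?_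
      simp only [Set.mem_toFinset, Set.mem_ofPred_eq] at ha
      rw [if_pos ha.1, if_pos ha.2]; ring
    · intro a _ ha
      simp only [Set.mem_toFinset, Set.mem_ofPred_eq, not_and_or] at ha
      rcases ha with ha | ha <;> simp [ha]
  have h00 : T 1 1 = (Fintype.card (GaloisField p q) : ℂ) - 2 := by
    have e : normChar p q (1 : MulChar (ZMod p) ℂ) = 1 := by
      ext x
      rw [normChar_apply, MulChar.one_apply_coe, MulChar.one_apply]
      exact (x.isUnit.map (Algebra.norm (ZMod p)))
    simp only [T]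
    rw [e, jacobiSum_one_one, MulChar.one_apply (Ne.isUnit htwo), one_mul, one_mul]
  rw [← Finset.add_sum_erase univ _ (Finset.mem_univ ((1, 1) :
    DirichletCharacter ℂ p × DirichletCharacter ℂ p)), h00] at hsum
  set R := ∑ x ∈ univ.erase ((1, 1) : DirichletCharacter ℂ p × DirichletCharacter ℂ p),
      T x.1 x.2 with hR
  set s := Real.sqrt (Fintype.card (GaloisField p q)) with hs
  have hcard : Fintype.card (DirichletCharacter ℂ p) = p - 1 := by
    rw [← Nat.card_eq_fintype_card, DirichletCharacter, MulChar.card_eq_card_units_of_hasEnoughRootsOfUnity,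
      Nat.card_eq_fintype_card, ZMod.card_units]
  have hbound : ‖R‖ ≤ (((p : ℝ) - 1) ^ 2 - 1) * s := by
    calc ‖R‖ ≤ ∑ x ∈ univ.erase ((1, 1) : DirichletCharacter ℂ p × DirichletCharacter ℂ p), s := by
          refine norm_sum_le_of_le _ fun x hx => ?_
          simp only [T, norm_mul, normChar_apply]
          refine (mul_le_mul (mul_le_one₀ (DirichletCharacter.norm_le_one x.1 _) (norm_nonneg _)
            (DirichletCharacter.norm_le_one x.2 _)) (norm_jacobiSum_le p q x.1 x.2 ?_)
            (norm_nonneg _) zero_le_one).trans (by rw [one_mul])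
          intro h
          exact (Finset.mem_erase.1 hx).1 (Prod.ext h.1 h.2)
      _ = (((p : ℝ) - 1) ^ 2 - 1) * s := by
          rw [Finset.sum_const, nsmul_eq_mul, Finset.card_erase_of_mem (Finset.mem_univ _),
            Finset.card_univ, Fintype.card_prod, hcard, Nat.cast_sub (Nat.one_le_iff_ne_zero.2
              (Nat.mul_ne_zero (by omega) (by omega))), Nat.cast_mul, Nat.cast_sub (by omega : 1 ≤ p)]
          push_cast; ring
  have hK : (Fintype.card (GaloisField p q) : ℝ) = (p : ℝ) ^ q := by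
    rw [← Nat.card_eq_fintype_card, GaloisField.card p q (by omega)]; push_cast; rfl
  have hRre : R = (((p : ℝ) - 1) ^ 2 * n - ((p : ℝ) ^ q - 2) : ℝ) := by
    rw [Nat.totient_prime (Fact.out : p.Prime), Nat.cast_sub (by omega : 1 ≤ p)] at hsum
    have hKc : (Fintype.card (GaloisField p q) : ℂ) = (((p : ℝ) ^ q : ℝ) : ℂ) := by
      rw [← hK]; norm_cast
    rw [hKc] at hsum
    push_cast at hsum ⊢
    linear_combination -hsum
  rw [hRre, Complex.norm_real, Real.norm_eq_abs] at hbound
  have hlow := (abs_le.1 hbound).1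
  by_contra hlt
  have hn1 : (n : ℝ) ≤ 1 := by exact_mod_cast Nat.lt_succ_iff.1 (not_le.1 hlt)
  have hp3 : (3 : ℝ) ≤ p := by exact_mod_cast hp
  have hs0 : 0 ≤ s := Real.sqrt_nonneg _
  have hs2 : s * s = (p : ℝ) ^ q := by rw [hs, Real.mul_self_sqrt (by positivity), hK]
  have hpow : (p : ℝ) ^ 5 ≤ (p : ℝ) ^ q := pow_le_pow_right₀ (by linarith) hq
  have hge : 3 / 2 * (p : ℝ) ^ 2 ≤ s := by
    refine abs_le_of_sq_le_sq' ?_ hs0 |>.2
    nlinarith [pow_le_pow_left₀ (by norm_num : (0:ℝ) ≤ 3) hp3 1, sq_nonneg ((p:ℝ)^2)]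
  have hgap : 1 / 2 * (p : ℝ) ^ 2 ≤ s - ((p : ℝ) ^ 2 - 2 * p) := by nlinarith
  have hprod := mul_le_mul hge hgap (by positivity) hs0
  have hn2 : ((p : ℝ) - 1) ^ 2 * n ≤ ((p : ℝ) - 1) ^ 2 := by
    nlinarith [sq_nonneg ((p : ℝ) - 1)]
  nlinarith [sq_nonneg ((p:ℝ)^2 - 2), mul_le_mul hp3 hp3 (by norm_num) (by linarith)]

open Polynomial in
/-- The cubic case: a suitable irreducible cubic gives the second element. -/
theorem two_le_three (p : ℕ) [Fact p.Prime] (hp : 3 ≤ p) :
    2 ≤ Set.ncard {a : GaloisField p 3 |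
      Algebra.norm (ZMod p) a = 1 ∧ Algebra.norm (ZMod p) (2 - a) = 1} := by
  classical
  haveI : Fact (2 < p) := ⟨hp⟩
  have h20 : (2 : ZMod p) ≠ 0 := Ring.two_ne_zero (by rw [ZMod.ringChar_zmod_n]; omega)
  let bad : Finset (ZMod p) := ((Finset.univ.erase 0).erase 2).image
    fun r => (-r ^ 3 + 3 * r + 1) / (r ^ 2 - 2 * r)
  have hbad : bad.card < (Finset.univ : Finset (ZMod p)).card := by
    refine (Finset.card_image_le).trans_lt ?_
    rw [Finset.card_erase_of_mem (Finset.mem_erase.2 ⟨h20, Finset.mem_univ _⟩),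
      Finset.card_erase_of_mem (Finset.mem_univ _), Finset.card_univ, ZMod.card]
    omega
  obtain ⟨b, -, hb⟩ := Finset.exists_mem_notMem_of_card_lt_card hbad
  let f : (ZMod p)[X] := X ^ 3 + C b * X ^ 2 - C (2 * b + 3) * X - C 1
  have hdeg : f.natDegree = 3 := by simp only [f]; compute_degree!
  have hmon : f.Monic := by simp only [f]; monicity!
  have hnr : ∀ r, f.eval r ≠ 0 := by
    intro r h
    simp only [f, eval_sub, eval_add, eval_mul, eval_pow, eval_C, eval_X] at h
    by_cases hr0 : r = 0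
    · subst hr0; simp at h
    by_cases hr2 : r = 2
    · subst hr2
      exact one_ne_zero (show (1 : ZMod p) = 0 by linear_combination h)
    apply hb
    refine Finset.mem_image.2 ⟨r, Finset.mem_erase.2 ⟨hr2, Finset.mem_erase.2 ⟨hr0, Finset.mem_univ _⟩⟩, ?_⟩
    have hden : r ^ 2 - 2 * r ≠ 0 := by
      rw [show r ^ 2 - 2 * r = r * (r - 2) by ring]
      exact mul_ne_zero hr0 (sub_ne_zero.2 hr2)
    rw [div_eq_iff hden]
    linear_combination -h
  have hirr : Irreducible f := by
    rw [hmon.irreducible_iff_roots_eq_zero_of_degree_le_three (by omega) (by omega)]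
    refine Multiset.eq_zero_of_forall_notMem fun r hr => hnr r ?_
    exact (mem_roots'.1 hr).2
  haveI : Fact (Irreducible f) := ⟨hirr⟩
  let pb := AdjoinRoot.powerBasis hmon.ne_zero
  haveI : Module.Finite (ZMod p) (AdjoinRoot f) := pb.finite
  haveI : Finite (AdjoinRoot f) := Module.finite_of_finite (ZMod p)
  have hcard : Nat.card (AdjoinRoot f) = p ^ 3 := by
    rw [Module.natCard_eq_pow_finrank (K := ZMod p), Nat.card_zmod, pb.finrank,
      AdjoinRoot.powerBasis_dim, hdeg]
  let e := GaloisField.algEquivGaloisField p 3 hcard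
  have hmin : minpoly (ZMod p) pb.gen = f := AdjoinRoot.minpoly_powerBasis_gen_of_monic hmon
  have hN1 : Algebra.norm (ZMod p) pb.gen = 1 := by
    rw [Algebra.PowerBasis.norm_gen_eq_coeff_zero_minpoly, hmin, AdjoinRoot.powerBasis_dim, hdeg]
    simp [f]
    norm_num
  have hN2 : Algebra.norm (ZMod p) (2 - pb.gen) = 1 := by
    have e2 : (2 : AdjoinRoot f) = algebraMap (ZMod p) (AdjoinRoot f) 2 := (map_ofNat _ 2).symm
    rw [Algebra.norm_eq_matrix_det pb.basis, e2, map_sub, AlgHom.commutes,
      Matrix.algebraMap_eq_diagonal]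
    have := Matrix.eval_charpoly (Algebra.leftMulMatrix pb.basis pb.gen) (2 : ZMod p)
    rw [charpoly_leftMulMatrix, hmin] at this
    change (Matrix.scalar _ (2 : ZMod p) - _).det = 1
    rw [← this]
    simp only [f, eval_sub, eval_add, eval_mul, eval_pow, eval_C, eval_X]
    ring
  have hne : e pb.gen ≠ 1 := by
    intro h
    have h1 : pb.gen = 1 := e.injective (h.trans (map_one e).symm)
    have : minpoly (ZMod p) (1 : AdjoinRoot f) = f := h1 ▸ hmin
    rw [minpoly.one] at this
    have := congrArg natDegree this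
    rw [hdeg, ← C_1, natDegree_X_sub_C] at this
    omega
  rw [Nat.succ_le_iff, Set.one_lt_ncard]
  refine ⟨1, ?_, e pb.gen, ?_, hne.symm⟩
  · refine ⟨map_one _, ?_⟩
    norm_num
  · refine ⟨by rw [Algebra.norm_eq_of_algEquiv, hN1], ?_⟩
    rw [← map_ofNat e 2, ← map_sub, Algebra.norm_eq_of_algEquiv, hN2]


/-- Let p and q be odd primes with (p^q − 1)/(p − 1) coprime to p − 1. Then there are at least two elements a of the field with p ^ q elements such that both a and 2 − a have norm 1 to the prime field. -/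
theorem result (p q : ℕ) [Fact p.Prime] [Fact q.Prime] (hp : p ≠ 2) (hq : q ≠ 2) (hA : Nat.Coprime ((p ^ q - 1) / (p - 1)) (p - 1)) :
    2 ≤ Set.ncard {a : GaloisField p q | Algebra.norm (ZMod p) a = 1 ∧ Algebra.norm (ZMod p) (2 - a) = 1} := by
  have hp3 : 3 ≤ p := by have := (Fact.out : p.Prime).two_le; omega
  by_cases h3 : q = 3
  · subst h3; exact two_le_three p hp3
  · have hqp : q.Prime := Fact.out
    have h4 : q ≠ 4 := by rintro rfl; norm_num at hqp
    exact two_le_of_five_le p q hp3 (by have := hqp.two_le; omega)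

end Cfsg.Agent.S1471
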