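import Cfsg.Statements.S1472
import Cfsg.Agent.Lib.OddLocal.AppC.Final

set_option autoImplicit false
open Cfsg

namespace Cfsg.Agent.S1472

/-- Let p, q be primes with (p^q − 1)/(p − 1) coprime to p − 1, G a finite group, F a field with p ^ q elements, and P, U, Q subgroups of G with: f : G → F bijective from P onto F and additive on P; U normalizing P and acting through ψ : G → F, injective and multiplicative on U with ψ(u) ≠ 0 and f(uxu⁻¹) = ψ(u) f(x); #U · (p − 1) = p^q − 1; Q abelian of order coprime to p, normalized by every x ∈ P with f(x) in the prime field; and some y ∈ Q such that y x y⁻¹ normalizes U for every such x. Then p ≤ q. -/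
theorem result {G : Type*} [Group G] [Finite G] (p q : ℕ) [Fact p.Prime] [Fact q.Prime] (hA : Nat.Coprime ((p ^ q - 1) / (p - 1)) (p - 1))
    (F : Type*) [Field F] [Fintype F] (hF : Fintype.card F = p ^ q) (P U Q : Subgroup G) (f ψ : G → F)
    (hf : Set.BijOn f (P : Set G) Set.univ) (hfadd : ∀ x ∈ P, ∀ z ∈ P, f (x * z) = f x + f z)
    (hUP : U ≤ Subgroup.normalizer (P : Set G)) (hψ : ∀ u ∈ U, ψ u ≠ 0 ∧ ∀ x ∈ P, f (u * x * u⁻¹) = ψ u * f x)
    (hψmul : ∀ u ∈ U, ∀ v ∈ U, ψ (u * v) = ψ u * ψ v) (hψinj : Set.InjOn ψ (U : Set G)) (hUcard : Nat.card U * (p - 1) = p ^ q - 1)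
    (hQ : IsMulCommutative Q) (hQp : (Nat.card Q).Coprime p) (hP0Q : ∀ x ∈ P, f x ^ p = f x → x ∈ Subgroup.normalizer (Q : Set G))
    (y : G) (hy : y ∈ Q) (hP0U : ∀ x ∈ P, f x ^ p = f x → y * x * y⁻¹ ∈ Subgroup.normalizer (U : Set G)) :
    p ≤ q := by
  have hp := (Fact.out : p.Prime)
  have hq := (Fact.out : q.Prime)
  by_contra hlt
  have h1 : ∀ x : G, f x = 1 → f x ^ p = f x := fun x h => by rw [h, one_pow]
  exact Cfsg.Agent.AppC.Cfg.false_of
    ({ P := P, U := U, Q := Q, f := f, psi := ψ, y := y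
       prime_p := hp, prime_q := hq
       odd_p := by have := hq.two_le; omega
       card_F := hF, bij := hf, f_mul := hfadd
       psi_ne := fun u hu => (hψ u hu).1
       conj_mem := fun u hu x hx =>
         (Subgroup.mem_normalizer_iff.mp (hUP hu) x).mp hx
       f_conj := fun u hu x hx => (hψ u hu).2 x hx
       psi_mul := hψmul, psi_inj := hψinj, card_U := hUcard
       cop_U := by
         have h2 : (p ^ q - 1) / (p - 1) = Nat.card U := by
           rw [← hUcard, Nat.mul_div_cancel _ (by have := hp.two_le; omega)]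
         rw [← h2]; exact hA
       comm_Q := hQ, cop_Q := hQp, y_mem := hy
       s_norm := fun x hx h => hP0Q x hx (h1 x h)
       t_norm := fun x hx h => hP0U x hx (h1 x h) } : Cfsg.Agent.AppC.Cfg G F p q)

end Cfsg.Agent.S1472
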