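import Cfsg.Statements.S1475
import Cfsg.Agent.Lib.Solv.EPPO

set_option autoImplicit false
open Cfsg

namespace Cfsg.Agent.S1475

theorem result {G : Type*} [Group G] [Finite G] [Group.IsSolvable G] (h : ∀ g : G, IsPrimePow (orderOf g) ∨ g = 1) :
    (Nat.card G).primeFactors.card ≤ 2 := by
  have hpp : ∀ g : G, g ≠ 1 → IsPrimePow (orderOf g) := fun g hg => (h g).resolve_right hg
  have h2 := Cfsg.Agent.Solv.EPPO.solvable_primes_le_two hpp (⊤ : Subgroup G) inferInstance
  rwa [Subgroup.card_top] at h2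

end Cfsg.Agent.S1475
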