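import Cfsg.Statements.S1484
import Cfsg.Agent.Lib.OddLocal.CNKernels

set_option autoImplicit false
open Cfsg

namespace Cfsg.Agent.S1484

theorem result {G : Type*} [Group G] [Finite G] (hG : Cfsg.IsMinSimpleOddOrder G) (hCN : Cfsg.IsCNGroup G) (k : ℕ) (Mrep : Fin k → Subgroup G) (hmax : ∀ i, IsCoatom (Mrep i))
    (hnc : ∀ i j, i ≠ j → ∀ g : G, Mrep j ≠ (Mrep i).map (MulAut.conj g).toMonoidHom) (hall : ∀ M : Subgroup G, IsCoatom M → ∃ i, ∃ g : G, M = (Mrep i).map (MulAut.conj g).toMonoidHom) :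
    (∀ i j, i ≠ j → (Nat.card (Cfsg.fittingHallOf (Mrep i))).Coprime (Nat.card (Cfsg.fittingHallOf (Mrep j)))) ∧
      ∏ i, Nat.card (Cfsg.fittingHallOf (Mrep i)) = Nat.card G ∧
      ∀ x : G, ∃ i, ∃ g : G, g * x * g⁻¹ ∈ Cfsg.fittingHallOf (Mrep i) := by
  classical
  have hKi : ∀ i, Cfsg.Agent.OddLocal.CNMin.IsMaxNilpotent (fittingHallOf (Mrep i)) ∧
      Subgroup.normalizer ((fittingHallOf (Mrep i) : Subgroup G) : Set G) = Mrep i := by
    intro i
    obtain ⟨K, hK⟩ := Cfsg.Agent.OddLocal.CNMin.coatom_kernel hG hCN (hmax i)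
    have hmaxK := Cfsg.Agent.OddLocal.CNMin.coatom_kernel_max hG hCN (hmax i) hK
    rw [Cfsg.Agent.OddLocal.CNMin.fittingHallOf_eq hG hCN (hmax i) hK]
    exact ⟨hmaxK, ((hmax i).le_iff.1 hK.norm).resolve_left
      (Cfsg.Agent.OddLocal.CNMin.max_kernel hG hCN hmaxK).1.1⟩
  have hrep : ∀ H : Subgroup G, Cfsg.Agent.OddLocal.CNMin.IsMaxNilpotent H →
      ∃ i, ∃ g : G, Cfsg.Agent.Fusion.cj H g = fittingHallOf (Mrep i) := by
    intro H hH
    obtain ⟨i, g, hg⟩ := hall _ (Cfsg.Agent.OddLocal.CNMin.max_kernel hG hCN hH).1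
    refine ⟨i, g⁻¹, ?_⟩
    have h' := hH.conj g⁻¹
    obtain ⟨hco, hK⟩ := Cfsg.Agent.OddLocal.CNMin.max_kernel hG hCN h'
    rw [← Cfsg.Agent.OddLocal.CNMin.fittingHallOf_eq hG hCN hco hK, ← Cfsg.Agent.Fusion.cj_normalizer, hg]
    congr 1
    exact Cfsg.Agent.Fusion.cj_cj_inv (Mrep i) g
  have hcop : ∀ i j, i ≠ j → (Nat.card (fittingHallOf (Mrep i))).Coprime (Nat.card (fittingHallOf (Mrep j))) := by
    intro i j hij
    by_contra hco
    obtain ⟨q, hq, hq₁, hq₂⟩ := Nat.Prime.not_coprime_iff_dvd.1 hco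
    haveI := Fact.mk hq
    obtain ⟨S₁, -, hS₁, -, -⟩ := Cfsg.Agent.OddLocal.CNMin.kernel_data (p := q) hG hCN (hKi i).1 hq₁
    obtain ⟨S₂, hne, hS₂, -, -⟩ := Cfsg.Agent.OddLocal.CNMin.kernel_data (p := q) hG hCN (hKi j).1 hq₂
    obtain ⟨g, -, hg⟩ := (Cfsg.Agent.Fusion.sylIn_top S₁).conj_eq (Cfsg.Agent.Fusion.sylIn_top S₂)
    refine hnc i j hij g ?_
    have h := Cfsg.Agent.OddLocal.CNMin.max_eq_of_sylow hG hCN (hKi j).1 ((hKi i).1.conj g) S₂ hne hS₂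
      (hg ▸ Cfsg.Agent.Fusion.cj_mono hS₁ g)
    rw [← (hKi j).2, h, ← Cfsg.Agent.Fusion.cj_normalizer, (hKi i).2]
  have hcover : ∀ x : G, x ≠ 1 → ∃ i, ∃ g : G, g * x * g⁻¹ ∈ fittingHallOf (Mrep i) := by
    intro x hx
    obtain ⟨H, hH, hle⟩ := Cfsg.Agent.OddLocal.CNMin.exists_maxNilpotent_ge (hCN x hx)
    obtain ⟨i, g, hg⟩ := hrep H hH
    exact ⟨i, g, hg ▸ Cfsg.Agent.Fusion.conj_mem_cj (hle (Subgroup.mem_centralizer_singleton_iff.2 rfl))⟩
  refine ⟨hcop, ?_, fun x => ?_⟩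
  · refine Nat.dvd_antisymm ?_ ?_
    · exact Fintype.prod_dvd_of_isRelPrime (fun i j hij => Nat.coprime_iff_isRelPrime.1 (hcop i j hij))
        (fun i => Subgroup.card_subgroup_dvd_card _)
    · refine (Nat.dvd_iff_prime_pow_dvd_dvd _ _).2 fun q e hq hqd => ?_
      rcases Nat.eq_zero_or_pos e with rfl | he
      · simp
      haveI := Fact.mk hq
      obtain ⟨y, hy⟩ := exists_prime_orderOf_dvd_card' q ((dvd_pow_self q he.ne').trans hqd)
      have hy1 : y ≠ 1 := fun h => hq.ne_one (by rw [← hy, h, orderOf_one])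
      obtain ⟨i, g, hg⟩ := hcover y hy1
      refine dvd_trans ?_ (Finset.dvd_prod_of_mem _ (Finset.mem_univ i))
      have hd : q ∣ Nat.card (fittingHallOf (Mrep i)) := by
        have h1 : orderOf (g * y * g⁻¹) = q := by
          rw [← hy]
          exact orderOf_injective (MulAut.conj g).toMonoidHom (MulAut.conj g).injective y
        rw [← h1, ← Subgroup.orderOf_mk _ hg]
        exact orderOf_dvd_natCard _
      have hhall := Cfsg.Agent.OddLocal.CNMin.max_hall hG hCN (hKi i).1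
      refine Nat.Coprime.dvd_of_dvd_mul_right ?_ (hqd.trans (Subgroup.card_mul_index (fittingHallOf (Mrep i))).symm.dvd)
      exact ((hhall.coprime_dvd_left hd)).pow_left e
  · rcases eq_or_ne x 1 with rfl | hx
    · haveI := hG.2.1
      obtain ⟨w, hw⟩ := exists_ne (1 : G)
      obtain ⟨i, g, -⟩ := hcover w hw
      exact ⟨i, g, by rw [mul_one, mul_inv_cancel]; exact one_mem _⟩
    · exact hcover x hx

end Cfsg.Agent.S1484
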