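import Cfsg.Statements.S1485
import Cfsg.Agent.Lib.Char.CliffordInd

set_option autoImplicit false
open Cfsg
open scoped ComplexConjugate

namespace Cfsg.Agent.S1485

/-- Let H be a normal subgroup of the finite group G and θ an irreducible character of H. On H, the function induced from θ equals r times the sum of the distinct G-conjugates of θ, where r is the number of elements of G fixing θ under conjugation divided by the order of H (the index of H in the inertia group). -/
theorem result {G : Type*} [Group G] [Fintype G] (H : Subgroup G) [hN : H.Normal] (θ : H → ℂ) (hθ : Cfsg.IsIrrCharacter H θ) : (fun h : H => Cfsg.indFun H θ h) = ((Nat.card {g : G // ∀ h : H, θ ⟨g * h * g⁻¹, hN.conj_mem h h.2 g⟩ = θ h} : ℂ) / (Nat.card H : ℂ)) • ∑ᶠ ψ ∈ {ψ : H → ℂ | ∃ g : G, ψ = fun h : H => θ ⟨g * h * g⁻¹, hN.conj_mem h h.2 g⟩}, ψ := by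
  classical
  haveI : Fintype H := Fintype.ofFinite H
  let c : G → (H → ℂ) := fun g h => θ ⟨g * h * g⁻¹, hN.conj_mem h h.2 g⟩
  have hc : ∀ g h, c g h = θ (MulAut.conjNormal g h) := fun g h =>
    congrArg θ (Subtype.ext (by simp [MulAut.conjNormal_apply]))
  have hset : {ψ : H → ℂ | ∃ g : G, ψ = fun h : H => θ ⟨g * h * g⁻¹, hN.conj_mem h h.2 g⟩} =
      ↑(Finset.univ.image c) := by
    ext ψ; simp [c, eq_comm]
  rw [hset, finsum_mem_coe_finset]
  funext n
  rw [Cfsg.Agent.Char.indFun_restrict_normal]
  simp only [Pi.smul_apply, Finset.sum_apply, smul_eq_mul]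
  have hfib : ∀ ψ ∈ Finset.univ.image c,
      ∑ g ∈ Finset.univ.filter (fun g => c g = ψ), θ (MulAut.conjNormal g n) =
        (Nat.card {g : G // ∀ h : H, θ ⟨g * h * g⁻¹, hN.conj_mem h h.2 g⟩ = θ h} : ℂ) * ψ n := by
    intro ψ hψ
    obtain ⟨g0, -, rfl⟩ := Finset.mem_image.1 hψ
    rw [Finset.sum_congr rfl (g := fun _ => c g0 n) (fun g hg => by
      rw [← hc]; exact congrFun (Finset.mem_filter.1 hg).2 n), Finset.sum_const, nsmul_eq_mul]
    congr 2
    rw [Nat.card_eq_fintype_card, Fintype.card_subtype]
    refine Finset.card_equiv (Equiv.mulRight g0⁻¹) (fun g => ?_)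
    simp only [Finset.mem_filter, Finset.mem_univ, true_and, Equiv.coe_mulRight]
    have key : ∀ h : H, c g h = θ (MulAut.conjNormal (g * g0⁻¹) (MulAut.conjNormal g0 h)) := by
      intro h
      rw [hc, map_mul, MulAut.mul_apply, map_inv]
      simp
    constructor
    · intro e k
      have h1 := key ((MulAut.conjNormal g0).symm k)
      rw [e, hc, MulEquiv.apply_symm_apply] at h1
      exact (congrArg θ (Subtype.ext (by simp [MulAut.conjNormal_apply, mul_assoc]))).trans h1.symm
    · intro e
      funext h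
      rw [key, hc, ← e (MulAut.conjNormal g0 h)]
      exact congrArg θ (Subtype.ext (by simp [MulAut.conjNormal_apply, mul_assoc]))
  rw [← Finset.sum_fiberwise_of_maps_to (t := Finset.univ.image c) (g := c)
    (fun g _ => Finset.mem_image_of_mem c (Finset.mem_univ g)), Finset.sum_congr rfl hfib,
    ← Finset.mul_sum]
  ring

end Cfsg.Agent.S1485
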