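import Cfsg.Statements.S1486
import Cfsg.Agent.Lib.Char.CliffordInd

set_option autoImplicit false
open Cfsg
open scoped ComplexConjugate

namespace Cfsg.Agent.S1486

/-- Let H be a normal subgroup of the finite group G and θ, φ irreducible characters of H. If φ is a G-conjugate of θ then the functions induced from θ and φ coincide; if φ is not a G-conjugate of θ then the induced functions are orthogonal. -/
theorem result {G : Type*} [Group G] [Fintype G] (H : Subgroup G) [hN : H.Normal] (θ φ : H → ℂ) (hθ : Cfsg.IsIrrCharacter H θ) (hφ : Cfsg.IsIrrCharacter H φ) : ((∃ g : G, φ = fun h : H => θ ⟨g * h * g⁻¹, hN.conj_mem h h.2 g⟩) → Cfsg.indFun H φ = Cfsg.indFun H θ) ∧ ((¬ ∃ g : G, φ = fun h : H => θ ⟨g * h * g⁻¹, hN.conj_mem h h.2 g⟩) → Cfsg.classInner (Cfsg.indFun H φ) (Cfsg.indFun H θ) = 0) := by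
  classical
  haveI : Fintype H := Fintype.ofFinite H
  have hc : ∀ (ψ : H → ℂ) g (h : H), ψ ⟨g * h * g⁻¹, hN.conj_mem h h.2 g⟩ =
      ψ (MulAut.conjNormal g h) := fun ψ g h =>
    congrArg ψ (Subtype.ext (by simp [MulAut.conjNormal_apply]))
  constructor
  · rintro ⟨g, rfl⟩
    simp only [hc]
    exact Cfsg.Agent.Char.indFun_conj H θ g
  · intro hno
    rw [show φ = ((⟨φ, hφ⟩ : Cfsg.IrrCharacter H) : H → ℂ) from rfl,
      show θ = ((⟨θ, hθ⟩ : Cfsg.IrrCharacter H) : H → ℂ) from rfl,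
      Cfsg.Agent.Char.classInner_indFun_normal]
    have : IsEmpty {g : G // Cfsg.Agent.Char.irrComp (MulAut.conjNormal g) (⟨φ, hφ⟩ : Cfsg.IrrCharacter H)
        = ⟨θ, hθ⟩} := ⟨fun ⟨g, hg⟩ => hno ⟨g⁻¹, funext fun h => by
      have h1 := congrFun (congrArg Subtype.val hg) (MulAut.conjNormal g⁻¹ h)
      rw [Cfsg.Agent.Char.irrComp_apply] at h1
      refine Eq.trans ?_ (h1.trans (hc θ g⁻¹ h).symm)
      simp⟩⟩
    simp

end Cfsg.Agent.S1486
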