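import Cfsg.Statements.S1487
import Cfsg.Agent.Lib.Char.CliffordInd

set_option autoImplicit false
open Cfsg
open scoped ComplexConjugate

namespace Cfsg.Agent.S1487

/-- Let A ≤ H be normal subgroups of the finite group G and θ an irreducible character of H. Then θ takes the value θ 1 on all of A if and only if the function induced from θ to G takes its value at 1 on all of A. -/
theorem result {G : Type*} [Group G] [Fintype G] (A H : Subgroup G) [A.Normal] [H.Normal] (hAH : A ≤ H) (θ : H → ℂ) (hθ : Cfsg.IsIrrCharacter H θ) : (∀ a : H, (a : G) ∈ A → θ a = θ 1) ↔ (∀ a : G, a ∈ A → Cfsg.indFun H θ a = Cfsg.indFun H θ 1) := by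
  classical
  haveI : Fintype H := Fintype.ofFinite H
  have hA : ∀ (g : G) (n : H), (n : G) ∈ A → ((MulAut.conjNormal g n : H) : G) ∈ A := by
    intro g n hn
    rw [MulAut.conjNormal_apply]
    exact Subgroup.Normal.conj_mem ‹A.Normal› _ hn g
  constructor
  · intro hk a ha
    have e1 := Cfsg.Agent.Char.indFun_restrict_normal (N := H) θ ⟨a, hAH ha⟩
    have e2 := Cfsg.Agent.Char.indFun_restrict_normal (N := H) θ 1
    simp only [OneMemClass.coe_one] at e1 e2
    rw [e1, e2]
    congr 1
    refine Finset.sum_congr rfl (fun g _ => ?_)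
    rw [map_one, hk _ (hA g ⟨a, hAH ha⟩ ha)]
  · intro hk a ha
    have hθc := Cfsg.Agent.Char.irr_isCharacter hθ
    have e1 := Cfsg.Agent.Char.indFun_restrict_normal (N := H) θ a
    have e2 := Cfsg.Agent.Char.indFun_restrict_normal (N := H) θ 1
    simp only [OneMemClass.coe_one] at e2
    rw [hk a ha, e2] at e1
    have hne : ((Nat.card H : ℂ))⁻¹ ≠ 0 := inv_ne_zero (Nat.cast_ne_zero.2 Nat.card_pos.ne')
    have e3 := congrArg Complex.re (mul_left_cancel₀ hne e1)
    simp only [map_one, Complex.re_sum] at e3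
    have hle : ∀ n : H, (θ n).re ≤ (θ 1).re := fun n =>
      (Complex.re_le_norm _).trans (Cfsg.Agent.Char.char_norm_le hθc n)
    have h4 := (Finset.sum_eq_sum_iff_of_le (fun g _ => hle _)).1 e3.symm (1 : G) (Finset.mem_univ _)
    have h5 : (MulAut.conjNormal (1 : G) a : H) = a := by rw [map_one]; rfl
    rw [h5] at h4
    obtain ⟨d, hd⟩ := Cfsg.Agent.Char.charOne_eq_natCast hθc
    have hre : (θ a).re = ‖θ a‖ :=
      le_antisymm (Complex.re_le_norm _) (by rw [h4]; exact Cfsg.Agent.Char.char_norm_le hθc a)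
    have him : (θ a).im = 0 := by
      have hsq := Complex.sq_norm (θ a)
      rw [← hre, Complex.normSq_apply] at hsq
      nlinarith
    apply Complex.ext
    · exact h4
    · rw [him, hd]; simp

end Cfsg.Agent.S1487
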