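import Cfsg.Statements.S1489
import Cfsg.Agent.Lib.Char.FongReynolds

set_option autoImplicit false
open Cfsg
open scoped ComplexConjugate

namespace Cfsg.Agent.S1489

/-- Let H be a normal subgroup of the finite group G, θ an irreducible character of H, and T the inertia group of θ (the elements g with θ(g h g⁻¹) = θ(h) for all h ∈ H). If ψ and ψ' are irreducible characters of T having nonzero inner product with the function induced from θ to T, then the function induced from ψ to G is an irreducible character of G, and it equals the one induced from ψ' only if ψ = ψ'. -/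
theorem result {G : Type*} [Group G] [Fintype G] (H T : Subgroup G) [hN : H.Normal] [Fintype T] (θ : H → ℂ) (hθ : Cfsg.IsIrrCharacter H θ) (hT : ∀ g : G, g ∈ T ↔ ∀ h : H, θ ⟨g * h * g⁻¹, hN.conj_mem h h.2 g⟩ = θ h) (hHT : H ≤ T) (ψ ψ' : T → ℂ) (hψ : Cfsg.IsIrrCharacter T ψ) (hψ' : Cfsg.IsIrrCharacter T ψ') (hc : Cfsg.classInner (Cfsg.indFun (H.subgroupOf T) (fun x => θ ⟨(x : T), Subgroup.mem_subgroupOf.mp x.2⟩)) ψ ≠ 0) (hc' : Cfsg.classInner (Cfsg.indFun (H.subgroupOf T) (fun x => θ ⟨(x : T), Subgroup.mem_subgroupOf.mp x.2⟩)) ψ' ≠ 0) : Cfsg.IsIrrCharacter G (Cfsg.indFun T ψ) ∧ (Cfsg.indFun T ψ = Cfsg.indFun T ψ' → ψ = ψ') := by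
  classical
  have := Fintype.ofFinite H
  have := Fintype.ofFinite (H.subgroupOf T)
  let θ' : Cfsg.IrrCharacter H := ⟨θ, hθ⟩
  have hI : ∀ g : G, Char.irrComp (MulAut.conjNormal g) θ' = θ' → g ∈ T := fun g hg =>
    (hT g).mpr fun h => by
      have := congrFun (congrArg Subtype.val hg) h
      rw [Char.irrComp_apply] at this
      exact Eq.trans (congrArg θ (Subtype.ext (by rw [MulAut.conjNormal_apply]))) this
  have key : ∀ φ : Cfsg.IrrCharacter T,
      Cfsg.classInner (Cfsg.indFun (H.subgroupOf T)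
        (fun x => θ ⟨(x : T), Subgroup.mem_subgroupOf.mp x.2⟩)) (φ : T → ℂ) ≠ 0 →
      Cfsg.classInner (Char.resN T hHT (φ : T → ℂ)) (θ' : H → ℂ) ≠ 0 := by
    intro φ h
    rw [Char.frobenius _ _ (Char.isClassFunction_character (Char.irr_isCharacter φ.2))] at h
    intro h0
    apply h
    have h1 := Char.classInner_subgroupOf hHT θ (Char.resN T hHT (φ : T → ℂ))
    rw [← Char.classInner_symm] at h0
    rw [show Cfsg.classInner θ (Char.resN T hHT (φ : T → ℂ)) = 0 from
      (map_eq_zero _).mp h0] at h1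
    convert h1 using 2
    rfl
  have h₁ := key ⟨ψ, hψ⟩ hc
  have h₂ := key ⟨ψ', hψ'⟩ hc'
  obtain ⟨χ, hχ⟩ := Char.exists_ind_eq hI h₁
  have hχ' : (χ : G → ℂ) = Cfsg.indFun T ψ := hχ
  refine ⟨hχ' ▸ χ.2, fun heq => ?_⟩
  have hne : ∀ φ : T → ℂ, (χ : G → ℂ) = Cfsg.indFun T φ →
      Cfsg.classInner (fun t : T => (χ : G → ℂ) t) φ ≠ 0 := by
    intro φ hφ
    rw [← Char.frobenius_right T φ (Char.isClassFunction_character (Char.irr_isCharacter χ.2)), ← hφ]
    intro h0
    exact Char.irr_one_ne_zero χ.2 (by rw [Char.classInner_self_eq_zero h0]; rfl)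
  exact (congrArg Subtype.val
    ((Char.clifford_ind hI h₁ (χ := χ) (hne ψ hχ')).2.2 ⟨ψ', hψ'⟩ h₂ (hne ψ' (hχ'.trans heq)))).symm

end Cfsg.Agent.S1489
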