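import Cfsg.Statements.S1492
import Cfsg.Agent.Lib.Char.Degree
import Cfsg.Agent.Lib.Char.Restrict

set_option autoImplicit false
open Cfsg
open scoped ComplexConjugate

namespace Cfsg.Agent.S1492

/-- Let ψ be an irreducible character of the finite group G and B ≤ D ≤ C subgroups with B normal in C, every commutator of an element of D with an element of C lying in B (so D/B is central in C/B), and ψ constant equal to ψ 1 on B. Then ψ(1) ^ 2 * |C| * |D| ≤ |G| ^ 2. -/
theorem result {G : Type*} [Group G] [Finite G] (ψ : G → ℂ) (hψ : Cfsg.IsIrrCharacter G ψ) (B C D : Subgroup G) (hBD : B ≤ D) (hDC : D ≤ C) (hBn : ∀ c ∈ C, ∀ b ∈ B, c * b * c⁻¹ ∈ B) (hcent : ∀ d ∈ D, ∀ c ∈ C, d * c * d⁻¹ * c⁻¹ ∈ B) (hker : ∀ b ∈ B, ψ b = ψ 1) : ‖ψ 1‖ ^ 2 * (Nat.card C : ℝ) * (Nat.card D : ℝ) ≤ (Nat.card G : ℝ) ^ 2 := by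
  classical
  haveI := Fintype.ofFinite G
  haveI := Fintype.ofFinite C
  have hψc := Cfsg.Agent.Char.irr_isCharacter hψ
  have hres : Cfsg.IsCharacter C (fun c : C => ψ c) :=
    Cfsg.Agent.Char.isCharacter_comp C.subtype hψc
  obtain ⟨m, hm⟩ := Cfsg.Agent.Char.exists_decomposition hres
  obtain ⟨θ, hθ⟩ : ∃ θ : Cfsg.IrrCharacter C, m θ ≠ 0 := by
    by_contra hcon
    simp only [not_exists, not_not] at hcon
    apply Cfsg.Agent.Char.irr_one_ne_zero hψ
    have := congrFun hm 1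
    simpa [hcon] using this
  have hθc := Cfsg.Agent.Char.irr_isCharacter θ.2
  obtain ⟨a, ha⟩ := Cfsg.Agent.Char.charOne_eq_natCast hψc
  obtain ⟨t, ht⟩ := Cfsg.Agent.Char.charOne_eq_natCast hθc
  -- `ψ 1 ≤ |G : C| θ 1`
  have hdeg : (a : ℝ) ≤ C.index * t := by
    have hne : Cfsg.classInner (Cfsg.indFun C (θ : C → ℂ)) ψ ≠ 0 := by
      rw [Cfsg.Agent.Char.frobenius C _ (Cfsg.Agent.Char.isClassFunction_character hψc),
        ← Cfsg.Agent.Char.classInner_symm, Cfsg.Agent.Char.decomposition_coeff m hm θ]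
      simp [hθ]
    have := Cfsg.Agent.Char.degree_le_of_classInner_ne_zero
      (Cfsg.Agent.Char.isCharacter_indFun C hθc) ⟨ψ, hψ⟩ hne
    simpa [Cfsg.Agent.Char.indFun_one, ha, ht] using this
  -- `B` lies in the kernel of `θ`
  have hB : ∀ b : C, (b : G) ∈ B → (θ : C → ℂ) b = (θ : C → ℂ) 1 := by
    intro b hb
    have hnn : ∀ φ : Cfsg.IrrCharacter C, ((φ : C → ℂ) b).re ≤ ((φ : C → ℂ) 1).re := fun φ =>
      (Complex.re_le_norm _).trans (Cfsg.Agent.Char.char_norm_le (Cfsg.Agent.Char.irr_isCharacter φ.2) b)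
    have e1 : ∑ φ : Cfsg.IrrCharacter C, (m φ : ℝ) * ((φ : C → ℂ) b).re =
        ∑ φ : Cfsg.IrrCharacter C, (m φ : ℝ) * ((φ : C → ℂ) 1).re := by
      have h1 : ψ (b : G) = ψ 1 := hker b hb
      have e : ∀ c : C, (ψ (c : G)).re = ∑ φ : Cfsg.IrrCharacter C, (m φ : ℝ) * ((φ : C → ℂ) c).re := by
        intro c
        rw [show ψ (c : G) = (fun c : C => ψ c) c from rfl, hm]
        simp [Finset.sum_apply]
      rw [← e, ← e, h1]; rfl
    have h2 := (Finset.sum_eq_sum_iff_of_le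
      (fun φ _ => mul_le_mul_of_nonneg_left (hnn φ) (Nat.cast_nonneg _))).1 e1 θ (Finset.mem_univ _)
    have h3 : ((θ : C → ℂ) b).re = ((θ : C → ℂ) 1).re :=
      mul_left_cancel₀ (by exact_mod_cast hθ) h2
    have hre : ((θ : C → ℂ) b).re = ‖(θ : C → ℂ) b‖ :=
      le_antisymm (Complex.re_le_norm _) (by rw [h3]; exact Cfsg.Agent.Char.char_norm_le hθc b)
    have him : ((θ : C → ℂ) b).im = 0 := by
      have hsq := Complex.sq_norm ((θ : C → ℂ) b)
      rw [← hre, Complex.normSq_apply] at hsq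
      nlinarith
    apply Complex.ext
    · exact h3
    · rw [him, ht]; simp
  -- values of `θ` on `D` have full norm
  have hD : ∀ d : C, (d : G) ∈ D → ‖(θ : C → ℂ) d‖ = t := by
    intro d hd
    obtain ⟨n, ρ, -, hρ⟩ := θ.2
    have hn : (n : ℂ) = (θ : C → ℂ) 1 := by rw [← hρ]; simp [Representation.char_one]
    let f : C → ℂ := fun x => if IsConj d x then 1 else 0
    have hf : Cfsg.IsClassFunction C f := by
      intro x k
      simp only [f]
      congr 1
      exact propext ⟨fun h => h.trans (isConj_iff.2 ⟨k, rfl⟩).symm,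
        fun h => h.trans (isConj_iff.2 ⟨k, rfl⟩)⟩
    have hconst : ∀ x y : C, IsConj d x → (θ : C → ℂ) (x * y) = (θ : C → ℂ) (d * y) := by
      intro x y hx
      obtain ⟨c, rfl⟩ := isConj_iff.1 hx
      have hbm : ((c * d * c⁻¹ * d⁻¹ : C) : G) ∈ B := by
        have := B.inv_mem (hcent d hd c c.2)
        simpa [mul_assoc] using this
      have hid : ρ (c * d * c⁻¹ * d⁻¹) = LinearMap.id := by
        rw [← Cfsg.Agent.Char.eq_id_iff, hρ, hB _ hbm]
        simp [← hn]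
      rw [← hρ]
      show LinearMap.trace ℂ _ (ρ (c * d * c⁻¹ * y)) = LinearMap.trace ℂ _ (ρ (d * y))
      rw [show c * d * c⁻¹ * y = (c * d * c⁻¹ * d⁻¹) * (d * y) by group, map_mul, hid]
      rfl
    have hsum : ∀ y : C, ∑ x : C, f x * (θ : C → ℂ) (x * y) =
        (Finset.univ.filter (fun x => IsConj d x)).card * (θ : C → ℂ) (d * y) := by
      intro y
      rw [Finset.sum_congr rfl (g := fun x => if IsConj d x then (θ : C → ℂ) (d * y) else 0) (fun x _ => by
        by_cases hx : IsConj d x <;> simp only [f, hx, if_true, if_false, one_mul, zero_mul]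
        exact hconst x y hx), ← Finset.sum_filter, Finset.sum_const, nsmul_eq_mul]
    have e1 := Cfsg.Agent.Char.sum_mul_shift θ.2 hf 1
    have e2 := Cfsg.Agent.Char.sum_mul_shift θ.2 hf d⁻¹
    rw [hsum] at e1 e2
    rw [mul_one] at e1
    rw [mul_inv_cancel, Cfsg.Agent.Char.char_inv hθc] at e2
    have hk : ((Finset.univ.filter (fun x => IsConj d x)).card : ℂ) ≠ 0 := by
      simp only [ne_eq, Nat.cast_eq_zero, Finset.card_eq_zero]
      exact Finset.ne_empty_of_mem (a := d) (Finset.mem_filter.2 ⟨Finset.mem_univ d, IsConj.refl d⟩)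
    have h4 : (θ : C → ℂ) d * (starRingEnd ℂ) ((θ : C → ℂ) d) = (t : ℂ) * t := by
      apply mul_left_cancel₀ hk
      rw [ht] at e1 e2
      linear_combination (starRingEnd ℂ) ((θ : C → ℂ) d) * e1 - (t : ℂ) * e2
    rw [Complex.mul_conj'] at h4
    have h5 : ‖(θ : C → ℂ) d‖ ^ 2 = (t : ℝ) * t := by exact_mod_cast h4
    nlinarith [norm_nonneg ((θ : C → ℂ) d), (Nat.cast_nonneg t : (0 : ℝ) ≤ t)]
  -- `|D| θ(1)^2 ≤ |C|`
  have hsq : (Nat.card D : ℝ) * (t : ℝ) ^ 2 ≤ Nat.card C := by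
    have hs : ∑ c : C, ‖(θ : C → ℂ) c‖ ^ 2 = (Nat.card C : ℝ) := by
      have h := Cfsg.Agent.Char.irr_self θ.2
      rw [Cfsg.classInner, inv_mul_eq_one₀ (Nat.cast_ne_zero.2 Nat.card_pos.ne')] at h
      simp only [Complex.mul_conj'] at h
      exact_mod_cast h.symm
    calc (Nat.card D : ℝ) * (t : ℝ) ^ 2
        = ∑ c ∈ Finset.univ.filter (fun c : C => (c : G) ∈ D), ‖(θ : C → ℂ) c‖ ^ 2 := by
          rw [Finset.sum_congr rfl (g := fun _ => (t : ℝ) ^ 2) (fun c hc => by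
            rw [hD c (Finset.mem_filter.1 hc).2]), Finset.sum_const, nsmul_eq_mul,
            ← Nat.card_congr (Subgroup.subgroupOfEquivOfLe hDC).toEquiv, Nat.card_eq_fintype_card,
            Fintype.card_subtype]
          rfl
      _ ≤ _ := Finset.sum_le_sum_of_subset_of_nonneg (Finset.filter_subset _ _)
          (fun _ _ _ => sq_nonneg _)
      _ = _ := hs
  rw [ha, Complex.norm_natCast]
  have hG : (Nat.card G : ℝ) = (Nat.card C : ℝ) * C.index := by exact_mod_cast (C.card_mul_index).symm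
  rw [hG]
  calc (a : ℝ) ^ 2 * Nat.card C * Nat.card D
      ≤ ((C.index : ℝ) * t) ^ 2 * Nat.card C * Nat.card D := by gcongr
    _ = ((C.index : ℝ) ^ 2 * Nat.card C) * ((Nat.card D : ℝ) * (t : ℝ) ^ 2) := by ring
    _ ≤ ((C.index : ℝ) ^ 2 * Nat.card C) * Nat.card C := by gcongr
    _ = _ := by ring

end Cfsg.Agent.S1492
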