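import Cfsg.Statements.S1497
import Mathlib

set_option autoImplicit false
open Cfsg
open scoped ComplexConjugate

namespace Cfsg.Agent.S1497

/-- Let A be a nonempty subset of the finite group G not containing 1 and L a subgroup. Then A is a TI-subset whose normaliser is L if and only if the Dade hypothesis holds for A, L and the constant choice H(a) = ⊥. -/
theorem result {G : Type*} [Group G] [Finite G] (A : Set G) (hA : A.Nonempty) (h1 : (1 : G) ∉ A) (L : Subgroup G) : (Cfsg.IsTISubset A ∧ Subgroup.normalizer A = L) ↔ Cfsg.DadeHypothesis A L (fun _ => ⊥) := by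
  have memN : ∀ g : G, g ∈ Subgroup.normalizer A → ∀ a, (a ∈ A ↔ g * a * g⁻¹ ∈ A) :=
    fun g hg => Subgroup.mem_set_normalizer_iff.1 hg
  constructor
  · rintro ⟨hTI, rfl⟩
    have key : ∀ a ∈ A, Subgroup.centralizer ({a} : Set G) ≤ Subgroup.normalizer A := by
      intro a ha g hg
      by_contra hn
      have e : g * a * g⁻¹ = a := by
        rw [Subgroup.mem_centralizer_singleton_iff] at hg
        rw [hg]; group
      exact h1 ((hTI g hn a ha (by rw [e]; exact ha)) ▸ ha)
    refine ⟨h1, fun a ha => key a ha (by simp [Subgroup.mem_centralizer_singleton_iff]),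
      fun x hx a ha => (memN x hx a).1 ha, ?_, fun a _ => bot_le, ?_, fun a _ => bot_inf_eq _,
      fun a ha => by rw [bot_sup_eq, inf_eq_right]; exact key a ha, fun a _ b _ => by simp⟩
    · intro a ha g hga
      refine ⟨g, ?_, rfl⟩
      by_contra hn
      exact h1 ((hTI g hn a ha hga) ▸ ha)
    · intro a _ c _ u hu
      simp only [Subgroup.mem_bot] at hu ⊢
      simp [hu]
  · intro hD
    have hcent : ∀ a ∈ A, Subgroup.centralizer ({a} : Set G) ≤ L := by
      intro a ha
      have := hD.sup_eq a ha
      rw [bot_sup_eq, inf_eq_right] at this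
      exact this
    have back : ∀ a ∈ A, ∀ g : G, g * a * g⁻¹ ∈ A → g ∈ L := by
      intro a ha g hga
      obtain ⟨x, hx, e⟩ := hD.fusion a ha g hga
      have hc : x⁻¹ * g ∈ Subgroup.centralizer ({a} : Set G) := by
        rw [Subgroup.mem_centralizer_singleton_iff]
        have := congrArg (fun t => x⁻¹ * t * g) e
        simpa [mul_assoc] using this.symm
      simpa using L.mul_mem hx (hcent a ha hc)
    have hN : Subgroup.normalizer A = L := by
      refine le_antisymm (fun g hg => ?_) (fun g hg => ?_)
      · obtain ⟨a, ha⟩ := hA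
        exact back a ha g ((memN g hg a).1 ha)
      · rw [Subgroup.mem_set_normalizer_iff]
        intro a
        refine ⟨fun ha => hD.conj_mem g hg a ha, fun ha => ?_⟩
        have := hD.conj_mem g⁻¹ (L.inv_mem hg) _ ha
        simpa [mul_assoc] using this
    exact ⟨fun g hg a ha hga => absurd (hN ▸ back a ha g hga) hg, hN⟩

end Cfsg.Agent.S1497
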