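import Cfsg.Statements.S1498
import Cfsg.Agent.Lib.Solv.Coprime

set_option autoImplicit false
open Cfsg
open scoped ComplexConjugate

namespace Cfsg.Agent.S1498

/-- Under the Dade hypothesis for (A, L, H): for a ∈ A and x ∈ L, the subgroup attached to x * a * x⁻¹ is the conjugate of H a by x. -/
theorem result {G : Type*} [Group G] [Finite G] (A : Set G) (L : Subgroup G) (H : G → Subgroup G) (hD : Cfsg.DadeHypothesis A L H) (a : G) (ha : a ∈ A) (x : G) (hx : x ∈ L) : H (x * a * x⁻¹) = (H a).map (MulAut.conj x).toMonoidHom := by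
  have key : ∀ b ∈ A, ∀ u : G, u ∈ Subgroup.centralizer ({b} : Set G) →
      Nat.Coprime (orderOf u) (Nat.card ↥(L ⊓ Subgroup.centralizer ({b} : Set G))) → u ∈ H b := by
    intro b hb u hu hco
    set Cb := Subgroup.centralizer ({b} : Set G)
    set D := L ⊓ Cb
    have hn : ((H b).subgroupOf Cb).Normal :=
      ⟨fun n hn g => hD.conj_mem_H b hb g g.2 n hn⟩
    have hsup : (H b).subgroupOf Cb ⊔ D.subgroupOf Cb = ⊤ := by
      rw [← Subgroup.subgroupOf_sup (hD.le_centralizer b hb) inf_le_right, hD.sup_eq b hb]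
      exact Subgroup.subgroupOf_self _
    have hinf : (H b).subgroupOf Cb ⊓ D.subgroupOf Cb = ⊥ := by
      rw [eq_bot_iff]
      intro x hx
      have : (x : G) ∈ H b ⊓ D := hx
      rw [hD.inf_eq_bot b hb] at this
      exact Subtype.ext this
    have hc : Subgroup.IsComplement' ((H b).subgroupOf Cb) (D.subgroupOf Cb) :=
      Subgroup.isComplement'_of_disjoint_and_mul_eq_univ (disjoint_iff.2 hinf)
        (by rw [← Subgroup.normal_mul, hsup]; rfl)
    have hidx := hc.index_eq_card
    have hcard : Nat.card (D.subgroupOf Cb) = Nat.card D :=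
      Nat.card_congr (Subgroup.subgroupOfEquivOfLe inf_le_right).toEquiv
    rw [Subgroup.index, ] at hidx
    have hpow : (⟨u, hu⟩ : Cb) ^ ((H b).subgroupOf Cb).index ∈ (H b).subgroupOf Cb :=
      Subgroup.pow_index_mem _ _
    have hco' : Nat.Coprime ((H b).subgroupOf Cb).index (orderOf u) := by
      rw [hc.symm.index_eq_card, hcard] at *
      exact hco.symm
    obtain ⟨m, hm⟩ := exists_pow_eq_self_of_coprime hco'
    rw [← hm]
    exact (H b).pow_mem (by simpa [Subgroup.mem_subgroupOf] using hpow) m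
  have conjcop : ∀ c ∈ A, ∀ y : G, ∀ u ∈ H c, ∀ d ∈ A,
      Nat.Coprime (orderOf (y * u * y⁻¹)) (Nat.card ↥(L ⊓ Subgroup.centralizer ({d} : Set G))) := by
    intro c hc y u hu d hd
    refine (hD.coprime c hc d hd).coprime_dvd_left ?_
    have : orderOf (y * u * y⁻¹) = orderOf u :=
      orderOf_injective (MulAut.conj y).toMonoidHom (MulAut.conj y).injective u
    rw [this, ← Subgroup.orderOf_mk _ hu]
    exact orderOf_dvd_natCard _
  have centconj : ∀ c : G, ∀ y u : G, u ∈ Subgroup.centralizer ({c} : Set G) →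
      y * u * y⁻¹ ∈ Subgroup.centralizer ({y * c * y⁻¹} : Set G) := by
    intro c y u hu
    rw [Subgroup.mem_centralizer_singleton_iff] at hu ⊢
    calc y * u * y⁻¹ * (y * c * y⁻¹) = y * (u * c) * y⁻¹ := by group
      _ = y * (c * u) * y⁻¹ := by rw [hu]
      _ = _ := by group
  have hb : x * a * x⁻¹ ∈ A := hD.conj_mem x hx a ha
  refine le_antisymm (fun u hu => ?_) ?_
  · refine ⟨x⁻¹ * u * x, key a ha _ ?_ ?_, ?_⟩
    · have := centconj _ x⁻¹ u (hD.le_centralizer _ hb hu)
      simpa [mul_assoc] using this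
    · have := conjcop _ hb x⁻¹ u hu a ha
      simpa using this
    · simp [mul_assoc]
  · rintro _ ⟨u, hu, rfl⟩
    exact key _ hb _ (centconj a x u (hD.le_centralizer a ha hu)) (conjcop a ha x u hu _ hb)

end Cfsg.Agent.S1498
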