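import Cfsg.Statements.S1505
import Cfsg.Agent.Lib.Char.CyclicTI

set_option autoImplicit false
open Cfsg
open scoped ComplexConjugate

namespace Cfsg.Agent.S1505

open Classical in
/-- Let W₁, W₂ ≤ G form a self-normalising cyclic subgroup W = W₁ ⊔ W₂. For nontrivial linear characters φ, φ' of W trivial on W₂ and ψ, ψ' trivial on W₁, put α = (1 − φ)(1 − ψ) and α' = (1 − φ')(1 − ψ'). Then the function induced from α to G has inner product 1 with the principal character, and the inner product of the functions induced from α and α' is 1 + a + b + ab where a = 1 if φ = φ' (else 0) and b = 1 if ψ = ψ' (else 0). -/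
theorem result {G : Type*} [Group G] [Fintype G] (W₁ W₂ : Subgroup G) (hW : Cfsg.IsSelfNormalizingCyclic W₁ W₂) (φ φ' ψ ψ' : ↥(W₁ ⊔ W₂) →* ℂˣ) (hφ : φ ≠ 1) (hφ' : φ' ≠ 1) (hψ : ψ ≠ 1) (hψ' : ψ' ≠ 1) (hφ₂ : ∀ w : ↥(W₁ ⊔ W₂), (w : G) ∈ W₂ → φ w = 1 ∧ φ' w = 1) (hψ₁ : ∀ w : ↥(W₁ ⊔ W₂), (w : G) ∈ W₁ → ψ w = 1 ∧ ψ' w = 1) : Cfsg.classInner (Cfsg.indFun (W₁ ⊔ W₂) (fun w => 1 - (φ w : ℂ) - (ψ w : ℂ) + (φ w : ℂ) * (ψ w : ℂ))) (fun _ => 1) = 1 ∧ Cfsg.classInner (Cfsg.indFun (W₁ ⊔ W₂) (fun w => 1 - (φ w : ℂ) - (ψ w : ℂ) + (φ w : ℂ) * (ψ w : ℂ))) (Cfsg.indFun (W₁ ⊔ W₂) (fun w => 1 - (φ' w : ℂ) - (ψ' w : ℂ) + (φ' w : ℂ) * (ψ' w : ℂ))) = 1 + (if φ = φ' then 1 else 0) + (if ψ = ψ' then 1 else 0) + (if φ = φ' then 1 else 0) * (if ψ = ψ' then 1 else 0) := by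
  classical
  letI := Fintype.ofFinite ↥(W₁ ⊔ W₂)
  have hN := Char.tiV_normalizer hW
  obtain ⟨-, -, hdisj, hcomm, hcyc, -⟩ := id hW
  have hne : ∀ {a b : ↥(W₁ ⊔ W₂) →* ℂˣ}, a ≠ 1 →
      (∀ w : ↥(W₁ ⊔ W₂), (w : G) ∈ W₂ → a w = 1) →
      (∀ w : ↥(W₁ ⊔ W₂), (w : G) ∈ W₁ → b w = 1) → a ≠ b := by
    intro a b ha ha2 hb1 e
    exact ha (Char.ti_hom_ext hcomm (fun w hw => by rw [e, hb1 w hw]; rfl)
      (fun w hw => by rw [ha2 w hw]; rfl))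
  have h11 : ∀ {a b : ↥(W₁ ⊔ W₂) →* ℂˣ}, a ≠ 1 →
      (∀ w : ↥(W₁ ⊔ W₂), (w : G) ∈ W₂ → a w = 1) →
      (∀ w : ↥(W₁ ⊔ W₂), (w : G) ∈ W₁ → b w = 1) → a * b ≠ 1 := by
    intro a b ha ha2 hb1 e
    exact ha (Char.ti_pair_facts hcomm (φ' := 1) (ψ' := 1) ha2 (fun _ _ => rfl) hb1 (fun _ _ => rfl)
      (e.trans (MonoidHom.ext fun _ => by simp))).1
  have ha1 : ∀ w : ↥(W₁ ⊔ W₂), (w : G) ∈ W₂ → φ w = 1 := fun w hw => (hφ₂ w hw).1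
  have ha1' : ∀ w : ↥(W₁ ⊔ W₂), (w : G) ∈ W₂ → φ' w = 1 := fun w hw => (hφ₂ w hw).2
  have hb1 : ∀ w : ↥(W₁ ⊔ W₂), (w : G) ∈ W₁ → ψ w = 1 := fun w hw => (hψ₁ w hw).1
  have hb1' : ∀ w : ↥(W₁ ⊔ W₂), (w : G) ∈ W₁ → ψ' w = 1 := fun w hw => (hψ₁ w hw).2
  constructor
  · show Cfsg.classInner (Cfsg.indFun (W₁ ⊔ W₂) (Char.tiAlpha φ ψ)) _ = 1
    rw [Char.frobenius _ _ (fun _ _ => rfl)]
    have h := Char.tiAlpha_inner_hom φ ψ 1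
    simp only [MonoidHom.one_apply, Units.val_one] at h
    rw [h, if_true, if_neg hφ, if_neg hψ, if_neg (h11 hφ ha1 hb1)]
    norm_num
  · show Cfsg.classInner (Cfsg.indFun (W₁ ⊔ W₂) (Char.tiAlpha φ ψ))
      (Cfsg.indFun (W₁ ⊔ W₂) (Char.tiAlpha φ' ψ')) = _
    haveI := hcyc
    letI := IsCyclic.commGroup (α := ↥(W₁ ⊔ W₂))
    have hsupp : ∀ {a b : ↥(W₁ ⊔ W₂) →* ℂˣ}, (∀ w : ↥(W₁ ⊔ W₂), (w : G) ∈ W₂ → a w = 1) →
        (∀ w : ↥(W₁ ⊔ W₂), (w : G) ∈ W₁ → b w = 1) →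
        ∀ x : ↥(W₁ ⊔ W₂), (x : G) ∉ Char.tiV W₁ W₂ → Char.tiAlpha a b x = 0 := by
      intro a b ha hb x hx
      refine Char.tiAlpha_eq_zero ha hb ?_
      by_contra hc
      exact hx ⟨x.2, fun h => hc h⟩
    rw [Char.classInner_indFun_ti' hN (fun g hg t ht hgt => (Char.tiV_ti hW hg ht hgt).elim) _ _
      (hsupp ha1 hb1) (fun a b => by rw [mul_comm b a, mul_inv_cancel_right]) (hsupp ha1' hb1')
      (Char.tiAlpha_eq_zero ha1 hb1 (Or.inl (one_mem W₁)))]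
    have e : Char.tiAlpha φ' ψ' = (fun w => ((1 : ↥(W₁ ⊔ W₂) →* ℂˣ) w : ℂ)) -
        (fun w => (φ' w : ℂ)) - (fun w => (ψ' w : ℂ)) + (fun w => ((φ' * ψ') w : ℂ)) := by
      funext w
      simp [Char.tiAlpha]
    rw [e, Char.classInner_add_right, Char.classInner_sub_right, Char.classInner_sub_right,
      Char.tiAlpha_inner_hom, Char.tiAlpha_inner_hom, Char.tiAlpha_inner_hom,
      Char.tiAlpha_inner_pair hcomm ha1 ha1' hb1 hb1' hφ' hψ']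
    have n1 : φ * ψ ≠ φ' := fun h => hψ (Char.ti_pair_facts hcomm ha1 ha1' hb1 (fun _ _ => rfl)
      (h.trans (MonoidHom.ext fun _ => by simp))).2
    have n2 : φ * ψ ≠ ψ' := fun h => hφ (Char.ti_pair_facts hcomm ha1 (fun _ _ => rfl) hb1 hb1'
      (h.trans (MonoidHom.ext fun _ => by simp))).1
    simp only [if_pos rfl, if_neg hφ, if_neg hψ, if_neg (h11 hφ ha1 hb1), if_neg (Ne.symm hφ'),
      if_neg (Ne.symm hψ'), if_neg n1, if_neg n2, if_neg (hne hφ ha1 hb1'),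
      if_neg (hne hφ' ha1' hb1).symm]
    by_cases e1 : φ = φ' <;> by_cases e2 : ψ = ψ' <;> simp [e1, e2]

end Cfsg.Agent.S1505
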