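import Cfsg.Statements.S1507
import Cfsg.Agent.Lib.Char.CyclicTI

set_option autoImplicit false
open Cfsg
open scoped ComplexConjugate

namespace Cfsg.Agent.S1507

open Classical in
/-- Let W₁, W₂ ≤ G form a self-normalising cyclic subgroup W = W₁ ⊔ W₂ of odd order with Nat.card W₁ < Nat.card W₂, and χ an orthonormal family of irreducible characters of G up to sign, indexed by the linear characters ω of W, with χ_1 = 1, χ_ω = ω on W outside W₁ ∪ W₂, and the induction identity for (1 − φ)(1 − ψ). Let θ be a class function of G vanishing on W outside W₁ ∪ W₂, and suppose fewer than 2 · Nat.card W₁ linear characters ω of W have ⟨θ, χ ω⟩ ≠ 0. Then one of: all ⟨θ, χ ω⟩ vanish; or there are ψ₀ and a with ⟨θ, χ ω⟩ = a when ω ψ₀⁻¹ is trivial on W₂ and 0 otherwise; or there are φ₀ and a with ⟨θ, χ ω⟩ = a when ω φ₀⁻¹ is trivial on W₁ and 0 otherwise. -/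
theorem result {G : Type*} [Group G] [Fintype G] (W₁ W₂ : Subgroup G) (hW : Cfsg.IsSelfNormalizingCyclic W₁ W₂) (hodd : Odd (Nat.card ↥(W₁ ⊔ W₂))) (χ : (↥(W₁ ⊔ W₂) →* ℂˣ) → (G → ℂ)) (hχ : Cfsg.IsCyclicTIFamily W₁ W₂ χ) (hlt : Nat.card W₁ < Nat.card W₂) (θ : G → ℂ) (hθ : Cfsg.IsClassFunction G θ) (hθV : ∀ w : ↥(W₁ ⊔ W₂), (w : G) ∉ W₁ → (w : G) ∉ W₂ → θ w = 0) (hfew : Nat.card {ω : ↥(W₁ ⊔ W₂) →* ℂˣ // Cfsg.classInner θ (χ ω) ≠ 0} < 2 * Nat.card W₁) : (∀ ω, Cfsg.classInner θ (χ ω) = 0) ∨ (∃ (ψ₀ : ↥(W₁ ⊔ W₂) →* ℂˣ) (a : ℂ), ∀ ω, Cfsg.classInner θ (χ ω) = if (∀ w : ↥(W₁ ⊔ W₂), (w : G) ∈ W₂ → (ω * ψ₀⁻¹) w = 1) then a else 0) ∨ (∃ (φ₀ : ↥(W₁ ⊔ W₂) →* ℂˣ) (a : ℂ), ∀ ω, Cfsg.classInner θ (χ ω) = if (∀ w : ↥(W₁ ⊔ W₂), (w : G) ∈ W₁ → (ω * φ₀⁻¹) w = 1) then a else 0) := by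
  classical
  letI := Fintype.ofFinite ↥(W₁ ⊔ W₂)
  obtain ⟨hb1, hb2, hdisj, hcomm, hcyc, -⟩ := hW
  haveI := hcyc
  letI := IsCyclic.commGroup (α := ↥(W₁ ⊔ W₂))
  set t : (↥(W₁ ⊔ W₂) →* ℂˣ) → ℂ := fun ω => Cfsg.classInner θ (χ ω) with ht
  have hone1 : ∀ f : ↥(W₁ ⊔ W₂) →* ℂˣ, (1 : ↥(W₁ ⊔ W₂) →* ℂˣ) * f = f := fun f =>
    MonoidHom.ext fun _ => by simp
  have hone2 : ∀ f : ↥(W₁ ⊔ W₂) →* ℂˣ, f * (1 : ↥(W₁ ⊔ W₂) →* ℂˣ) = f := fun f =>
    MonoidHom.ext fun _ => by simp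
  have key : ∀ a b : ↥(W₁ ⊔ W₂) →* ℂˣ, (∀ w : ↥(W₁ ⊔ W₂), (w : G) ∈ W₂ → a w = 1) →
      (∀ w : ↥(W₁ ⊔ W₂), (w : G) ∈ W₁ → b w = 1) → t (a * b) = t a + (t b - t 1) := by
    intro a b ha hb
    by_cases h1 : a = 1
    · rw [h1, hone1]; ring
    by_cases h2 : b = 1
    · rw [h2, hone2]; ring
    have h := Char.tiFamily_alpha_inner hχ hθ a b h1 h2 ha hb
    have hz : Cfsg.classInner (fun w : ↥(W₁ ⊔ W₂) => θ w) (Char.tiAlpha a b) = 0 := by
      rw [Cfsg.classInner, Finset.sum_eq_zero fun w _ => ?_, mul_zero]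
      by_cases hw : (w : G) ∈ W₁ ∨ (w : G) ∈ W₂
      · rw [Char.tiAlpha_eq_zero ha hb hw, map_zero, mul_zero]
      · rw [hθV w (fun h => hw (Or.inl h)) (fun h => hw (Or.inr h)), zero_mul]
    rw [hz] at h
    simp only [ht]
    linear_combination h
  haveI : Finite (↥(W₁ ⊔ W₂) →* ℂˣ) := Nat.finite_of_card_ne_zero
    (by rw [Char.card_hom_units]; exact Subgroup.index_ne_zero_of_finite)
  let Φ := {a : ↥(W₁ ⊔ W₂) →* ℂˣ // ∀ w : ↥(W₁ ⊔ W₂), (w : G) ∈ W₂ → a w = 1}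
  let Ψ := {b : ↥(W₁ ⊔ W₂) →* ℂˣ // ∀ w : ↥(W₁ ⊔ W₂), (w : G) ∈ W₁ → b w = 1}
  haveI : Finite Φ := Subtype.finite
  haveI : Finite Ψ := Subtype.finite
  let e : Φ × Ψ ≃ (↥(W₁ ⊔ W₂) →* ℂˣ) := Equiv.ofBijective (fun p => p.1.1 * p.2.1)
    ⟨fun p q h => by
      obtain ⟨h1, h2⟩ := Char.ti_pair_facts hcomm p.1.2 q.1.2 p.2.2 q.2.2 h
      exact Prod.ext (Subtype.ext h1) (Subtype.ext h2),
    fun ω => by
      obtain ⟨a, b, ha, hb, e⟩ := Char.ti_exists_split hdisj hcomm ω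
      exact ⟨(⟨a, ha⟩, ⟨b, hb⟩), e.symm⟩⟩
  have he : ∀ p : Φ × Ψ, e p = p.1.1 * p.2.1 := fun _ => rfl
  -- the sizes
  have hHomK : ∀ K : Subgroup G, K ≤ W₁ ⊔ W₂ → Nat.card (K →* ℂˣ) = Nat.card K := by
    intro K hK
    rw [Char.card_hom_units, show commutator K = ⊥ from ?_, Subgroup.index_bot]
    rw [commutator_def, eq_bot_iff, Subgroup.commutator_le]
    intro x _ y _
    rw [Subgroup.mem_bot, commutatorElement_eq_one_iff_mul_comm]
    apply Subtype.ext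
    exact congrArg (fun v : ↥(W₁ ⊔ W₂) => (v : G))
      (mul_comm (⟨x, hK x.2⟩ : ↥(W₁ ⊔ W₂)) ⟨y, hK y.2⟩)
  haveI hfin : ∀ K : Subgroup G, Finite (K →* ℂˣ) := fun K => Nat.finite_of_card_ne_zero
    (by rw [Char.card_hom_units]; exact Subgroup.index_ne_zero_of_finite)
  have hΦle : Nat.card Φ ≤ Nat.card W₁ := by
    rw [← hHomK W₁ le_sup_left]
    refine Nat.card_le_card_of_injective (fun a => a.1.comp (Subgroup.inclusion le_sup_left)) ?_
    intro a a' h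
    exact Subtype.ext (Char.ti_hom_ext hcomm (fun w hw => DFunLike.congr_fun h ⟨(w : G), hw⟩)
      (fun w hw => by rw [a.2 w hw, a'.2 w hw]))
  have hΨle : Nat.card Ψ ≤ Nat.card W₂ := by
    rw [← hHomK W₂ le_sup_right]
    refine Nat.card_le_card_of_injective (fun a => a.1.comp (Subgroup.inclusion le_sup_right)) ?_
    intro a a' h
    exact Subtype.ext (Char.ti_hom_ext hcomm (fun w hw => by rw [a.2 w hw, a'.2 w hw])
      (fun w hw => DFunLike.congr_fun h ⟨(w : G), hw⟩))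
  have hW12 : Nat.card W₁ * Nat.card W₂ = Nat.card ↥(W₁ ⊔ W₂) := by
    rw [← Nat.card_prod]
    refine Nat.card_congr (Equiv.ofBijective (fun v : W₁ × W₂ =>
      (⟨(v.1 : G) * v.2, Subgroup.mul_mem_sup v.1.2 v.2.2⟩ : ↥(W₁ ⊔ W₂))) ⟨fun v v' h => ?_, fun w => ?_⟩)
    · have h' : (v.1 : G) * v.2 = v'.1 * v'.2 := congrArg Subtype.val h
      have hm : (v'.1 : G)⁻¹ * v.1 ∈ W₁ ⊓ W₂ := by
        refine ⟨W₁.mul_mem (W₁.inv_mem v'.1.2) v.1.2, ?_⟩
        rw [show (v'.1 : G)⁻¹ * v.1 = v'.2 * (v.2 : G)⁻¹ by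
          rw [eq_mul_inv_iff_mul_eq, mul_assoc, h', inv_mul_cancel_left]]
        exact W₂.mul_mem v'.2.2 (W₂.inv_mem v.2.2)
      rw [hdisj, Subgroup.mem_bot, inv_mul_eq_one] at hm
      rw [hm] at h'
      exact Prod.ext (Subtype.ext hm.symm) (Subtype.ext (mul_left_cancel h'))
    · obtain ⟨a, ha, b, hb, e⟩ := Char.ti_exists_mul hcomm w.2
      exact ⟨(⟨a, ha⟩, ⟨b, hb⟩), Subtype.ext e.symm⟩
  have hprod : Nat.card Φ * Nat.card Ψ = Nat.card W₁ * Nat.card W₂ := by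
    rw [← Nat.card_prod, Nat.card_congr e, hW12, Char.card_hom_units,
      show commutator ↥(W₁ ⊔ W₂) = ⊥ from ?_, Subgroup.index_bot]
    rw [commutator_def, eq_bot_iff, Subgroup.commutator_le]
    intro x _ y _
    rw [Subgroup.mem_bot, commutatorElement_eq_one_iff_mul_comm]
    exact mul_comm x y
  have hw2pos : 0 < Nat.card W₂ := Nat.card_pos
  have hΦ : Nat.card Φ = Nat.card W₁ := by
    refine le_antisymm hΦle (Nat.le_of_mul_le_mul_right ?_ hw2pos)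
    rw [← hprod]
    exact Nat.mul_le_mul_left _ hΨle
  have hΨ : Nat.card Ψ = Nat.card W₂ := by
    rw [hΦ] at hprod
    exact Nat.eq_of_mul_eq_mul_left Nat.card_pos hprod
  letI := Fintype.ofFinite Φ
  letI := Fintype.ofFinite Ψ
  set A : Φ → ℂ := fun a => t a.1 with hA
  set B : Ψ → ℂ := fun b => t b.1 - t 1 with hB
  have htAB : ∀ p : Φ × Ψ, t (e p) = A p.1 + B p.2 := fun p => key _ _ p.1.2 p.2.2
  -- the number of nonzero entries
  have hN : ∑ b : Ψ, (Finset.univ.filter fun a : Φ => A a + B b ≠ 0).card < 2 * Nat.card W₁ := by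
    refine lt_of_eq_of_lt ?_ hfew
    rw [← Nat.card_congr (Equiv.subtypeEquiv e (fun p => Iff.rfl) :
      {p : Φ × Ψ // t (e p) ≠ 0} ≃ {ω // Cfsg.classInner θ (χ ω) ≠ 0}),
      Nat.card_eq_fintype_card, Fintype.card_subtype, Finset.card_filter, Fintype.sum_prod_type_right]
    simp only [htAB, Finset.card_filter]
  have hcond2 : ∀ (p : Φ × Ψ) (b : Ψ),
      (∀ w : ↥(W₁ ⊔ W₂), (w : G) ∈ W₂ → (e p * b.1⁻¹) w = 1) ↔ p.2 = b := by
    intro p b
    constructor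
    · intro h
      refine Subtype.ext (Char.ti_hom_ext hcomm (fun w hw => by rw [p.2.2 w hw, b.2 w hw]) fun w hw => ?_)
      have := h w hw
      simp only [he, MonoidHom.mul_apply, MonoidHom.inv_apply, p.1.2 w hw,
        one_mul, mul_inv_eq_one] at this
      exact this
    · rintro rfl w hw
      simp [he, p.1.2 w hw]
  have hcond1 : ∀ (p : Φ × Ψ) (a : Φ),
      (∀ w : ↥(W₁ ⊔ W₂), (w : G) ∈ W₁ → (e p * a.1⁻¹) w = 1) ↔ p.1 = a := by
    intro p a
    constructor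
    · intro h
      refine Subtype.ext (Char.ti_hom_ext hcomm (fun w hw => ?_) fun w hw => by rw [p.1.2 w hw, a.2 w hw])
      have := h w hw
      simp only [he, MonoidHom.mul_apply, MonoidHom.inv_apply, p.2.2 w hw,
        mul_one, mul_inv_eq_one] at this
      exact this
    · rintro rfl w hw
      simp [he, p.2.2 w hw]
  have hw1 : 1 < Nat.card W₁ := (Subgroup.one_lt_card_iff_ne_bot _).mpr hb1
  by_cases hconst : ∀ a a' : Φ, A a = A a'
  · obtain ⟨a₀⟩ : Nonempty Φ := ⟨⟨1, fun _ _ => rfl⟩⟩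
    set S := Finset.univ.filter fun b : Ψ => A a₀ + B b ≠ 0 with hS
    have hcount : S.card * Nat.card W₁ < 2 * Nat.card W₁ := by
      refine lt_of_le_of_lt ?_ hN
      rw [← hΦ, Nat.card_eq_fintype_card, ← smul_eq_mul, ← Finset.sum_const]
      calc ∑ _b ∈ S, Fintype.card Φ ≤ ∑ b ∈ S, (Finset.univ.filter fun a : Φ => A a + B b ≠ 0).card :=
            Finset.sum_le_sum fun b hb => by
              rw [Finset.filter_true_of_mem fun a _ => by
                rw [hconst a a₀]; exact (Finset.mem_filter.mp hb).2, Finset.card_univ]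
        _ ≤ _ := Finset.sum_le_sum_of_subset (Finset.subset_univ _)
    have hS1 : S.card ≤ 1 := by
      have := Nat.lt_of_mul_lt_mul_right hcount
      omega
    rcases Finset.eq_empty_or_nonempty S with h0 | ⟨b₀, hb₀⟩
    · left
      intro ω
      obtain ⟨p, rfl⟩ := e.surjective ω
      show t (e p) = 0
      rw [htAB, hconst p.1 a₀]
      by_contra h
      exact Finset.notMem_empty p.2 (h0 ▸ Finset.mem_filter.mpr ⟨Finset.mem_univ _, h⟩)
    · refine Or.inr (Or.inl ⟨b₀.1, A a₀ + B b₀, fun ω => ?_⟩)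
      obtain ⟨p, rfl⟩ := e.surjective ω
      rw [show Cfsg.classInner θ (χ (e p)) = t (e p) from rfl, htAB, hconst p.1 a₀]
      simp only [hcond2 p b₀]
      by_cases h : p.2 = b₀
      · rw [if_pos h, h]
      · rw [if_neg h]
        by_contra h'
        exact h (Finset.card_le_one.mp hS1 _ (Finset.mem_filter.mpr ⟨Finset.mem_univ _, h'⟩) _ hb₀)
  · have hsmall : ∃ b : Ψ, (Finset.univ.filter fun a : Φ => A a + B b ≠ 0).card ≤ 1 := by
      by_contra h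
      push Not at h
      have h2 : ∑ _b : Ψ, 2 ≤ ∑ b : Ψ, (Finset.univ.filter fun a : Φ => A a + B b ≠ 0).card :=
        Finset.sum_le_sum fun b _ => h b
      rw [Finset.sum_const, Finset.card_univ, ← Nat.card_eq_fintype_card, hΨ, smul_eq_mul] at h2
      omega
    obtain ⟨b₁, hb₁⟩ := hsmall
    obtain ⟨a₁, ha₁⟩ : ∃ a : Φ, A a + B b₁ ≠ 0 := by
      by_contra h
      push Not at h
      exact hconst fun a a' => by linear_combination h a - h a'
    have huniq : ∀ a : Φ, a ≠ a₁ → A a = -B b₁ := by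
      intro a ha
      by_contra h
      exact ha (Finset.card_le_one.mp hb₁ _
        (Finset.mem_filter.mpr ⟨Finset.mem_univ _, fun e => h (eq_neg_of_add_eq_zero_left e)⟩) _
        (Finset.mem_filter.mpr ⟨Finset.mem_univ _, ha₁⟩))
    have hge : ∀ b : Ψ, (if B b = B b₁ then 1 else Nat.card W₁ - 1) ≤
        (Finset.univ.filter fun a : Φ => A a + B b ≠ 0).card := by
      intro b
      split_ifs with hb
      · exact Finset.card_pos.mpr ⟨a₁, Finset.mem_filter.mpr ⟨Finset.mem_univ _, hb ▸ ha₁⟩⟩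
      · rw [← hΦ, Nat.card_eq_fintype_card, ← Finset.card_univ,
          ← Finset.card_erase_of_mem (Finset.mem_univ a₁)]
        refine Finset.card_le_card fun a ha => Finset.mem_filter.mpr ⟨Finset.mem_univ _, ?_⟩
        rw [huniq a (Finset.mem_erase.mp ha).1]
        intro e
        exact hb (by linear_combination e)
    have hall : ∀ b : Ψ, B b = B b₁ := by
      by_contra h
      push Not at h
      obtain ⟨b₂, hb₂⟩ := h
      have h3 : ∑ b : Ψ, (if B b = B b₁ then 1 else Nat.card W₁ - 1) < 2 * Nat.card W₁ :=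
        lt_of_le_of_lt (Finset.sum_le_sum fun b _ => hge b) hN
      rw [← Finset.add_sum_erase _ _ (Finset.mem_univ b₂), if_neg hb₂] at h3
      have h4 : ∑ _b ∈ Finset.univ.erase b₂, 1 ≤
          ∑ b ∈ Finset.univ.erase b₂, (if B b = B b₁ then 1 else Nat.card W₁ - 1) :=
        Finset.sum_le_sum fun b _ => by split_ifs <;> omega
      rw [Finset.sum_const, smul_eq_mul, mul_one, Finset.card_erase_of_mem (Finset.mem_univ _),
        Finset.card_univ, ← Nat.card_eq_fintype_card, hΨ] at h4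
      rw [← hW12, Nat.odd_mul] at hodd
      obtain ⟨⟨k, hk⟩, ⟨l, hl⟩⟩ := hodd
      omega
    refine Or.inr (Or.inr ⟨a₁.1, A a₁ + B b₁, fun ω => ?_⟩)
    obtain ⟨p, rfl⟩ := e.surjective ω
    rw [show Cfsg.classInner θ (χ (e p)) = t (e p) from rfl, htAB, hall p.2]
    simp only [hcond1 p a₁]
    by_cases h : p.1 = a₁
    · rw [if_pos h, h]
    · rw [if_neg h, huniq p.1 h, neg_add_cancel]

end Cfsg.Agent.S1507
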