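import Cfsg.Statements.S1509
import Cfsg.Agent.Lib.Char.Ortho

set_option autoImplicit false
open Cfsg
open scoped ComplexConjugate

namespace Cfsg.Agent.S1509

/-- Let α, β, γ, δ be functions on a finite group X each of which is an irreducible character or the negative of one, and u, v nonzero real numbers. Suppose ⟨α, β⟩ = ⟨γ, δ⟩ = 0, ⟨α − β, uγ − vδ⟩ = 0, α 1 = β 1 and u γ 1 = v δ 1. Then also ⟨α, γ⟩ = ⟨α, δ⟩ = ⟨β, γ⟩ = ⟨β, δ⟩ = 0. -/
theorem result {X : Type*} [Group X] [Fintype X] (α β γ δ : X → ℂ) (hα : Cfsg.IsIrrCharacter X α ∨ Cfsg.IsIrrCharacter X (-α)) (hβ : Cfsg.IsIrrCharacter X β ∨ Cfsg.IsIrrCharacter X (-β)) (hγ : Cfsg.IsIrrCharacter X γ ∨ Cfsg.IsIrrCharacter X (-γ)) (hδ : Cfsg.IsIrrCharacter X δ ∨ Cfsg.IsIrrCharacter X (-δ)) (u v : ℝ) (hu : u ≠ 0) (hv : v ≠ 0) (hab : Cfsg.classInner α β = 0) (hcd : Cfsg.classInner γ δ = 0) (hmix : Cfsg.classInner (α - β) ((u : ℂ) • γ - (v : ℂ) • δ) = 0) (h1 : α 1 = β 1) (h2 : (u : ℂ) * γ 1 = (v : ℂ) * δ 1) : Cfsg.classInner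 α γ = 0 ∧ Cfsg.classInner α δ = 0 ∧ Cfsg.classInner β γ = 0 ∧ Cfsg.classInner β δ = 0 := by
  classical
  have nz : ∀ a : X → ℂ, (Cfsg.IsIrrCharacter X a ∨ Cfsg.IsIrrCharacter X (-a)) → a 1 ≠ 0 := by
    intro a ha
    rcases ha with h | h
    · exact Cfsg.Agent.Char.irr_one_ne_zero h
    · simpa using Cfsg.Agent.Char.irr_one_ne_zero h
  have neg_l : ∀ a b : X → ℂ, Cfsg.classInner (-a) b = - Cfsg.classInner a b := by
    intro a b
    simp [Cfsg.classInner, Finset.sum_neg_distrib]
  have neg_r : ∀ a b : X → ℂ, Cfsg.classInner a (-b) = - Cfsg.classInner a b := by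
    intro a b
    simp [Cfsg.classInner, Finset.sum_neg_distrib]
  have trich : ∀ a b : X → ℂ, (Cfsg.IsIrrCharacter X a ∨ Cfsg.IsIrrCharacter X (-a)) →
      (Cfsg.IsIrrCharacter X b ∨ Cfsg.IsIrrCharacter X (-b)) →
      Cfsg.classInner a b = 0 ∨ ∃ s : ℂ, s * s = 1 ∧ a = s • b ∧ Cfsg.classInner a b = s := by
    intro a b ha hb
    have base : ∀ x y : X → ℂ, Cfsg.IsIrrCharacter X x → Cfsg.IsIrrCharacter X y →
        Cfsg.classInner x y = 0 ∨ (x = y ∧ Cfsg.classInner x y = 1) := by
      intro x y hx hy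
      by_cases e : x = y
      · exact Or.inr ⟨e, by subst e; exact Cfsg.Agent.Char.irr_self hx⟩
      · exact Or.inl (by rw [Cfsg.Agent.Char.irr_orth hx hy, if_neg e])
    rcases ha with ha | ha <;> rcases hb with hb | hb
    · rcases base _ _ ha hb with h | ⟨e, h⟩
      · exact Or.inl h
      · exact Or.inr ⟨1, by simp, by simpa using e, h⟩
    · rcases base _ _ ha hb with h | ⟨e, h⟩
      · exact Or.inl (by simpa [neg_r] using h)
      · exact Or.inr ⟨-1, by simp, by rw [e]; simp, by rw [neg_r] at h; linear_combination -h⟩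
    · rcases base _ _ ha hb with h | ⟨e, h⟩
      · exact Or.inl (by simpa [neg_l] using h)
      · exact Or.inr ⟨-1, by simp, by rw [← neg_neg a, e]; simp, by rw [neg_l] at h; linear_combination -h⟩
    · rcases base _ _ ha hb with h | ⟨e, h⟩
      · exact Or.inl (by simpa [neg_l, neg_r] using h)
      · exact Or.inr ⟨1, by simp, by rw [neg_injective e]; simp, by simpa [neg_l, neg_r] using h⟩
  have hu' : (u : ℂ) ≠ 0 := by exact_mod_cast hu
  have hv' : (v : ℂ) ≠ 0 := by exact_mod_cast hv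
  have hmix' : (u : ℂ) * Cfsg.classInner α γ - (v : ℂ) * Cfsg.classInner α δ
      - (u : ℂ) * Cfsg.classInner β γ + (v : ℂ) * Cfsg.classInner β δ = 0 := by
    simp only [Cfsg.Agent.Char.classInner_sub_left, Cfsg.Agent.Char.classInner_sub_right,
      Cfsg.Agent.Char.classInner_smul_right, Complex.conj_ofReal] at hmix
    linear_combination hmix
  have zero_of : ∀ (s : ℂ) (a b c : X → ℂ), a = s • b → s * s = 1 →
      Cfsg.classInner b c = 0 → Cfsg.classInner a c = 0 := by
    intro s a b c e _ h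
    rw [e, Cfsg.Agent.Char.classInner_smul_left, h, mul_zero]
  have symm0 : ∀ a b : X → ℂ, Cfsg.classInner a b = 0 → Cfsg.classInner b a = 0 := by
    intro a b h
    rw [← Cfsg.Agent.Char.classInner_symm, h, map_zero]
  have ne0 : ∀ s : ℂ, s * s = 1 → s ≠ 0 := by intro s h h0; simp [h0] at h
  have hdc := symm0 _ _ hcd
  have hba := symm0 _ _ hab
  rcases trich α γ hα hγ with hag | ⟨s, hs, hse, hsv⟩
  · rcases trich α δ hα hδ with had | ⟨s, hs, hse, hsv⟩
    · rw [hag, had] at hmix'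
      rcases trich β γ hβ hγ with hbg | ⟨t, ht, hte, htv⟩
      · refine ⟨hag, had, hbg, ?_⟩
        rw [hbg] at hmix'
        simpa [hv'] using hmix'
      · exfalso
        rw [htv, zero_of t β γ δ hte ht hcd] at hmix'
        exact mul_ne_zero hu' (ne0 t ht) (by linear_combination -hmix')
    · exfalso
      -- α = s δ, hence β ⊥ δ
      have hbd : Cfsg.classInner β δ = 0 := by
        have h : Cfsg.classInner (s • δ) β = 0 := by rw [← hse]; exact hab
        rw [Cfsg.Agent.Char.classInner_smul_left] at h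
        exact symm0 _ _ ((mul_eq_zero.1 h).resolve_left (ne0 s hs))
      rw [hag, hsv, hbd] at hmix'
      rcases trich β γ hβ hγ with hbg | ⟨t, ht, hte, htv⟩
      · rw [hbg] at hmix'
        exact mul_ne_zero hv' (ne0 s hs) (by linear_combination -hmix')
      · rw [htv] at hmix'
        rw [hse, hte] at h1
        simp only [Pi.smul_apply, smul_eq_mul] at h1
        have := nz δ hδ
        have hd : (v : ℂ) * δ 1 * 2 = 0 := by
          linear_combination (-(u : ℂ) * t) * h1 + (-(u : ℂ) * γ 1) * ht + (-(s * δ 1)) * hmix'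
            + ((v : ℂ) * δ 1 * (-1)) * hs + (-1 : ℂ) * h2
        simp [hv', this] at hd
  · exfalso
    have had : Cfsg.classInner α δ = 0 := zero_of s α γ δ hse hs hcd
    have hbg : Cfsg.classInner β γ = 0 := by
      have h : Cfsg.classInner (s • γ) β = 0 := by rw [← hse]; exact hab
      rw [Cfsg.Agent.Char.classInner_smul_left] at h
      exact symm0 _ _ ((mul_eq_zero.1 h).resolve_left (ne0 s hs))
    rw [hsv, had, hbg] at hmix'
    rcases trich β δ hβ hδ with hbd | ⟨t, ht, hte, htv⟩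
    · rw [hbd] at hmix'
      exact mul_ne_zero hu' (ne0 s hs) (by linear_combination hmix')
    · rw [htv] at hmix'
      rw [hse, hte] at h1
      simp only [Pi.smul_apply, smul_eq_mul] at h1
      have := nz γ hγ
      have hd : (u : ℂ) * γ 1 * 2 = 0 := by
        linear_combination (-(v : ℂ) * t) * h1 + s * γ 1 * hmix' + (-(v : ℂ) * δ 1) * ht
          + (-(u : ℂ) * γ 1) * hs + h2
      simp [hu', this] at hd

end Cfsg.Agent.S1509
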