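import Cfsg.Statements.S1510
import Cfsg.Agent.Lib.Solv.Coprime

set_option autoImplicit false
open Cfsg
open scoped Pointwise

namespace Cfsg.Agent.S1510

/-- Let L be a finite group with a normal subgroup K and a nontrivial cyclic subgroup W₁ of order coprime to its index, K ⊓ W₁ = ⊥ and K ⊔ W₁ = ⊤; let W₂ ≠ ⊥ be a cyclic subgroup of K with K ⊓ C_L(x) = W₂ for every non-identity x ∈ W₁, and suppose W₁ ⊔ W₂ has odd order. Then (W₁, W₂) is a self-normalising cyclic pair in L. -/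
theorem result {L : Type*} [Group L] [Fintype L] (K W₁ W₂ : Subgroup L) [hK : K.Normal] (hKW₁ : K ⊓ W₁ = ⊥) (hKW₁' : K ⊔ W₁ = ⊤) (hW₁ : W₁ ≠ ⊥) (hW₁c : IsCyclic W₁) (hHall : Nat.Coprime (Nat.card W₁) W₁.index) (hW₂ : W₂ ≠ ⊥) (hW₂c : IsCyclic W₂) (hW₂K : W₂ ≤ K) (hC : ∀ x ∈ W₁, x ≠ 1 → K ⊓ Subgroup.centralizer ({x} : Set L) = W₂) (hodd : Odd (Nat.card ↥(W₁ ⊔ W₂))) : Cfsg.IsSelfNormalizingCyclic W₁ W₂ := by
  classical
  obtain ⟨z, hz, hz1⟩ : ∃ z ∈ W₁, z ≠ 1 := by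
    by_contra h
    simp only [not_exists, not_and, not_not] at h
    exact hW₁ ((Subgroup.eq_bot_iff_forall W₁).2 h)
  have hdisj : W₁ ⊓ W₂ = ⊥ := by
    rw [eq_bot_iff, ← hKW₁]
    exact le_inf (inf_le_right.trans hW₂K) inf_le_left
  have hcomm : ∀ a ∈ W₁, ∀ b ∈ W₂, a * b = b * a := by
    intro a ha b hb
    by_cases h1 : a = 1
    · simp [h1]
    · rw [← hC a ha h1] at hb
      exact (Subgroup.mem_centralizer_singleton_iff.1 hb.2).symm
  have hKn : ∀ (H : Subgroup L), H ≤ Subgroup.normalizer (K : Set L) := fun H => by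
    rw [Subgroup.normalizer_eq_top]; exact le_top
  have hindex : W₁.index = Nat.card K := by
    have h := Cfsg.Agent.Solv.card_sup_mul_card_inf' K W₁ (hKn _)
    rw [hKW₁, Subgroup.card_bot, mul_one, hKW₁', Subgroup.card_top, ← W₁.card_mul_index] at h
    exact Nat.eq_of_mul_eq_mul_left Nat.card_pos (h.trans (mul_comm _ _))
  have hcop : Nat.Coprime (Nat.card W₁) (Nat.card W₂) :=
    Nat.Coprime.coprime_dvd_right (hindex ▸ Subgroup.card_dvd_of_le hW₂K) hHall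
  set W := W₁ ⊔ W₂ with hW
  have hW2n : W₁ ≤ Subgroup.normalizer (W₂ : Set L) := fun a ha =>
    Subgroup.mem_normalizer_fintype (fun b hb => by rw [hcomm a ha b hb]; simpa using hb)
  have hWmem : ∀ u ∈ W, ∃ a ∈ W₁, ∃ b ∈ W₂, u = a * b := by
    intro u hu
    have h := Subgroup.coe_mul_of_left_le_normalizer_right W₁ W₂ hW2n
    have hu' : u ∈ (W₁ : Set L) * (W₂ : Set L) := by rw [← h]; exact hu
    obtain ⟨a, ha, b, hb, rfl⟩ := hu'
    exact ⟨a, ha, b, hb, rfl⟩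
  have hcard : Nat.card W = Nat.card W₁ * Nat.card W₂ := by
    have h := Cfsg.Agent.Solv.card_sup_mul_card_inf' W₂ W₁ hW2n
    rw [inf_comm, hdisj, Subgroup.card_bot, mul_one, sup_comm, ← hW, mul_comm (Nat.card W₂)] at h
    exact h
  obtain ⟨g₁, hg₁⟩ := IsCyclic.exists_generator (α := W₁)
  obtain ⟨g₂, hg₂⟩ := IsCyclic.exists_generator (α := W₂)
  have hWc : IsCyclic W := by
    refine isCyclic_of_orderOf_eq_card (⟨(g₁ : L) * g₂, mul_mem (Subgroup.mem_sup_left g₁.2)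
      (Subgroup.mem_sup_right g₂.2)⟩ : W) ?_
    rw [Subgroup.orderOf_mk, (show Commute (g₁ : L) g₂ from hcomm _ g₁.2 _ g₂.2).orderOf_mul_eq_mul_orderOf_of_coprime
      (by rw [Subgroup.orderOf_coe, Subgroup.orderOf_coe, orderOf_eq_card_of_forall_mem_zpowers hg₁,
        orderOf_eq_card_of_forall_mem_zpowers hg₂]; exact hcop)]
    rw [Subgroup.orderOf_coe, Subgroup.orderOf_coe, orderOf_eq_card_of_forall_mem_zpowers hg₁,
      orderOf_eq_card_of_forall_mem_zpowers hg₂, hcard]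
  refine ⟨hW₁, hW₂, hdisj, hcomm, hWc, fun X hX hXne => le_antisymm (fun g hg => ?_) ?_⟩
  · obtain ⟨w, hw⟩ := hXne
    obtain ⟨hwW, hwn⟩ := hX hw
    have hgw := (Subgroup.mem_set_normalizer_iff.1 hg w).1 hw
    obtain ⟨hgW, -⟩ := hX hgw
    obtain ⟨a, ha, b, hb, rfl⟩ := hWmem w hwW
    obtain ⟨a', ha', b', hb', he⟩ := hWmem _ hgW
    have ha1 : a ≠ 1 := fun h => hwn (Or.inr (by rw [h, one_mul]; exact hb))
    obtain ⟨e, he1, he0⟩ := Nat.chineseRemainder hcop 1 0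
    have hpow : ∀ x ∈ W₁, ∀ y ∈ W₂, (x * y) ^ e = x := by
      intro x hx y hy
      rw [(show Commute x y from hcomm x hx y hy).mul_pow]
      have hy1 : y ^ e = 1 := by
        rw [← orderOf_dvd_iff_pow_eq_one]
        exact ((Subgroup.orderOf_mk y hy) ▸ orderOf_dvd_natCard (⟨y, hy⟩ : W₂)).trans
          (Nat.modEq_zero_iff_dvd.1 he0)
      rw [hy1, mul_one]
      conv_rhs => rw [← pow_one x]
      exact pow_eq_pow_iff_modEq.2 (he1.of_dvd ((Subgroup.orderOf_mk x hx) ▸ orderOf_dvd_natCard (⟨x, hx⟩ : W₁)))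
    have hconj : g * a * g⁻¹ = a' := by
      rw [← hpow a ha b hb, ← conj_pow, he, hpow a' ha' b' hb']
    obtain ⟨k, hk, v, hv, rfl⟩ : ∃ k ∈ K, ∃ v ∈ W₁, k * v = g := by
      have : g ∈ ((K ⊔ W₁ : Subgroup L) : Set L) := by rw [hKW₁']; trivial
      rw [Subgroup.normal_mul] at this
      exact this
    have hva : v * a = a * v := by
      obtain ⟨i, hi⟩ := Subgroup.mem_zpowers_iff.1 (hg₁ ⟨v, hv⟩)
      obtain ⟨j, hj⟩ := Subgroup.mem_zpowers_iff.1 (hg₁ ⟨a, ha⟩)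
      have : (⟨v, hv⟩ : W₁) * ⟨a, ha⟩ = ⟨a, ha⟩ * ⟨v, hv⟩ := by
        rw [← hi, ← hj, ← zpow_add, add_comm, zpow_add]
      exact congrArg Subtype.val this
    have hka : k * a * k⁻¹ = a' := by
      rw [← hconj]
      calc k * a * k⁻¹ = k * (a * v) * v⁻¹ * k⁻¹ := by group
        _ = k * (v * a) * v⁻¹ * k⁻¹ := by rw [hva]
        _ = _ := by group
    have hkK : k * (a * k⁻¹ * a⁻¹) ∈ K ⊓ W₁ := ⟨mul_mem hk (hK.conj_mem _ (inv_mem hk) a), by
      rw [show k * (a * k⁻¹ * a⁻¹) = k * a * k⁻¹ * a⁻¹ by group, hka]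
      exact (mul_mem ha' (inv_mem ha) : a' * a⁻¹ ∈ W₁)⟩
    rw [hKW₁, Subgroup.mem_bot] at hkK
    have hk2 : k ∈ W₂ := by
      rw [← hC a ha ha1]
      refine ⟨hk, Subgroup.mem_centralizer_singleton_iff.2 ?_⟩
      calc k * a = k * (a * k⁻¹ * a⁻¹) * (a * k) := by group
        _ = a * k := by rw [hkK, one_mul]
    exact mul_mem (Subgroup.mem_sup_right hk2) (Subgroup.mem_sup_left hv)
  · have hab : ∀ u ∈ W, ∀ w ∈ W, u * w * u⁻¹ = w := by
      intro u hu w hw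
      haveI := hWc
      letI := IsCyclic.commGroup (α := W)
      have h := congrArg Subtype.val (mul_comm (⟨u, hu⟩ : W) ⟨w, hw⟩)
      rw [mul_inv_eq_iff_eq_mul]
      exact h
    intro u hu
    rw [Subgroup.mem_set_normalizer_iff]
    intro h
    refine ⟨fun hh => by rw [hab u hu h (hX hh).1]; exact hh, fun hh => ?_⟩
    have hhW := (hX hh).1
    have hW' : h ∈ W := by
      have := mul_mem (mul_mem (inv_mem hu) hhW) hu
      simpa [mul_assoc] using this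
    rwa [hab u hu h hW'] at hh

end Cfsg.Agent.S1510
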