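import Cfsg.Statements.S1512
import Cfsg.Agent.Lib.Char.PermLemma

set_option autoImplicit false
open Cfsg
open scoped ComplexConjugate

namespace Cfsg.Agent.S1512

/-- Let K be a normal subgroup of the finite group L and x a non-identity element whose order is coprime to the order of K, such that K ⊓ C_L(y) = W₂ for every non-identity element y of the cyclic group generated by x. Then the number of conjugacy classes of K mapped to themselves by conjugation by x is at most Nat.card W₂. -/
theorem result {L : Type*} [Group L] [Finite L] (K W₂ : Subgroup L) [hK : K.Normal] (x : L) (hx1 : x ≠ 1) (hx : Nat.Coprime (orderOf x) (Nat.card K)) (hC : ∀ y ∈ Subgroup.zpowers x, y ≠ 1 → K ⊓ Subgroup.centralizer ({y} : Set L) = W₂) : Nat.card {C : ConjClasses K // ConjClasses.map (MulEquiv.toMonoidHom ((MulAut.conjNormal x : MulAut K))) C = C} ≤ Nat.card W₂ := by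
  classical
  have hxC : ∀ y : K, x * (y : L) = (y : L) * x → (y : L) ∈ W₂ := by
    intro y hy
    rw [← hC x (Subgroup.mem_zpowers x) hx1]
    exact ⟨y.2, Subgroup.mem_centralizer_singleton_iff.2 hy.symm⟩
  have key : ∀ C : {C : ConjClasses K //
      ConjClasses.map (MulEquiv.toMonoidHom ((MulAut.conjNormal x : MulAut K))) C = C},
      ∃ w : W₂, ∃ y : K, (y : L) = w ∧ ConjClasses.mk y = C.1 := by
    rintro ⟨C, hC'⟩
    obtain ⟨n, rfl⟩ := ConjClasses.mk_surjective C
    obtain ⟨m, hm, hmc⟩ := Cfsg.Agent.Char.exists_fixed_of_fixed_class K x hx n hC'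
    exact ⟨⟨(m : L), hxC m hmc⟩, m, rfl, hm⟩
  choose f y hy hmk using key
  refine Nat.card_le_card_of_injective f (fun a b hab => ?_)
  apply Subtype.ext
  rw [← hmk a, ← hmk b, show y a = y b from Subtype.ext (by rw [hy a, hy b, hab])]

end Cfsg.Agent.S1512
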