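import Cfsg.Statements.S1518
import Cfsg.Agent.Lib.Char.DadeGen
import Cfsg.Agent.Lib.Char.Exceptional
import Cfsg.Agent.Lib.Char.RealClass

set_option autoImplicit false
open Cfsg
open scoped ComplexConjugate

namespace Cfsg.Agent.S1518

/-- Under the Dade hypothesis for (A, L, H): if χ is an irreducible character of L vanishing at every non-identity element of L outside A, then the Dade image of χ − conj χ equals μ − conj μ for some irreducible character μ of G. -/
theorem result {G : Type*} [Group G] [Fintype G] (A : Set G) (L : Subgroup G) [Fintype L] (H : G → Subgroup G) (hD : Cfsg.DadeHypothesis A L H) (χ : L → ℂ) (hχ : Cfsg.IsIrrCharacter L χ) (hsupp : ∀ x : L, x ≠ 1 → (x : G) ∉ A → χ x = 0) : ∃ μ : G → ℂ, Cfsg.IsIrrCharacter G μ ∧ Cfsg.dadeIsometry A L H (χ - Cfsg.conjFun χ) = μ - Cfsg.conjFun μ := by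
  classical
  set α : L → ℂ := χ - Cfsg.conjFun χ with hα
  have hχc := Char.irr_isCharacter hχ
  let χ' : IrrCharacter L := ⟨χ, hχ⟩
  have hconjirr : Cfsg.IsIrrCharacter L (Cfsg.conjFun χ) := (Char.irrConj χ').2
  have hgenα : Cfsg.IsGeneralizedCharacter L α :=
    ⟨χ, Cfsg.conjFun χ, hχc, Char.irr_isCharacter hconjirr, rfl⟩
  have hcf : Cfsg.IsClassFunction L α := fun g h => by
    simp only [hα, Pi.sub_apply, Cfsg.conjFun, Char.isClassFunction_character hχc g h]
  have hαA : ∀ x : L, (x : G) ∉ A → α x = 0 := by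
    intro x hx
    by_cases h1 : x = 1
    · simp [hα, Cfsg.conjFun, h1, Char.conj_char_one hχc]
    · simp [hα, Cfsg.conjFun, hsupp x h1 hx]
  by_cases hreal : Cfsg.conjFun χ = χ
  · refine ⟨fun _ => 1, Char.isIrrCharacter_one, ?_⟩
    have h0 : α = 0 := by rw [hα, hreal, sub_self]
    funext g
    rw [h0]
    simp [Cfsg.dadeIsometry, Cfsg.conjFun]
  let τ : G → ℂ := Cfsg.dadeIsometry A L H α
  have hτ : τ = Cfsg.dadeIsometry A L H α := rfl
  have hτ1 : τ 1 = 0 := by
    refine Char.dadeIsometry_eq_zero hD ?_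
    rintro ⟨a, ha, u, hu, x, e⟩
    have e2 : (1 : G) * (a * u) * (1 : G)⁻¹ = a * u := by group
    rw [show x * 1 * x⁻¹ = (1 : G) by group] at e
    have hc := Char.dade_coprime_order hD ha ha
    have ho : orderOf a = 1 := by
      have h1 : a = u⁻¹ := eq_inv_of_mul_eq_one_left e.symm
      have h2 : orderOf a ∣ Nat.card (H a) := by
        rw [h1, orderOf_inv, ← Subgroup.orderOf_mk u hu, ← h1]
        exact orderOf_dvd_natCard _
      exact Nat.dvd_one.mp (hc ▸ Nat.dvd_gcd h2 dvd_rfl)
    exact hD.one_not_mem (orderOf_eq_one_iff.mp ho ▸ ha)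
  have hτ2 : Cfsg.classInner τ τ = 2 := by
    rw [hτ, Char.classInner_dade_dade hD hcf hαA hcf, hα, Char.classInner_sub_left,
      Char.classInner_sub_right, Char.classInner_sub_right, Char.irr_orth hχ hχ,
      Char.irr_orth hχ hconjirr, Char.irr_orth hconjirr hχ, Char.irr_orth hconjirr hconjirr,
      if_pos rfl, if_pos rfl, if_neg hreal, if_neg (Ne.symm hreal)]
    norm_num
  obtain ⟨a, b, hab, hτab⟩ :=
    Char.exists_pair_of_norm_two (Char.isGenChar_dadeIsometry hD hgenα hαA) hτ1 hτ2
  replace hτab : τ = (a : G → ℂ) - (b : G → ℂ) := hτab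
  have hanti : ∀ g : G, (starRingEnd ℂ) (τ g) = - τ g := by
    intro g
    by_cases hg : g ∈ Char.dadeSet A H
    · obtain ⟨c, hc, u, hu, x, e⟩ := hg
      rw [hτ, Char.dadeIsometry_apply hD hcf hc hu e]
      simp only [hα, Pi.sub_apply, Cfsg.conjFun, map_sub, Complex.conj_conj, neg_sub]
    · rw [hτ]
      rw [Char.dadeIsometry_eq_zero hD hg, map_zero, neg_zero]
  have key : ((a : G → ℂ) + (Char.irrConj a : G → ℂ)) =
      (b : G → ℂ) + (Char.irrConj b : G → ℂ) := by
    funext g
    have h := hanti g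
    rw [hτab] at h
    simp only [Pi.sub_apply, map_sub, neg_sub] at h
    simp only [Pi.add_apply, Char.irrConj_apply]
    linear_combination h
  have h := congrArg (fun f => Cfsg.classInner f (a : G → ℂ)) key
  simp only [Char.classInner_add_left, Char.irrC_orth, if_pos, if_neg hab.symm, zero_add] at h
  have hba : Char.irrConj b = a := by
    by_contra hne
    rw [if_neg hne] at h
    split_ifs at h <;> norm_num at h
  refine ⟨a, a.2, ?_⟩
  rw [← hτ, hτab]
  congr 1
  rw [← hba]
  funext g
  simp [Cfsg.conjFun]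

end Cfsg.Agent.S1518
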