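import Cfsg.Statements.S1525
import Cfsg.Agent.Lib.Char.Dade

set_option autoImplicit false
open Cfsg
open scoped ComplexConjugate

namespace Cfsg.Agent.S1525

/-- Under the Dade hypothesis for (A, L, H), let χ be a class function of G and let ψ be a function on L whose value at each a ∈ A is the average of χ over the coset a·H(a). Then (1/|G|) Σ |χ g|² over the elements g of G conjugate into some coset a·H(a) with a ∈ A is at least (1/|L|) Σ_{a ∈ A ∩ L} |ψ a|². -/
theorem result {G : Type*} [Group G] [Fintype G] (A : Set G) (L : Subgroup G) [Fintype L] (H : G → Subgroup G) (hD : Cfsg.DadeHypothesis A L H) (χ : G → ℂ) (hχ : Cfsg.IsClassFunction G χ) (ψ : L → ℂ) (hψ : ∀ a : L, (a : G) ∈ A → ψ a = (Nat.card (H a) : ℂ)⁻¹ * ∑ᶠ u ∈ (H a : Set G), χ (a * u)) : (Nat.card L : ℝ)⁻¹ * ∑ᶠ a ∈ {a : L | (a : G) ∈ A}, ‖ψ a‖ ^ 2 ≤ (Nat.card G : ℝ)⁻¹ * ∑ᶠ g ∈ {g : G | ∃ a ∈ A, ∃ u ∈ H a, ∃ x : G, x * g * x⁻¹ = a * u}, ‖χ g‖ ^ 2 := by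
  classical
  set f : G → ℝ := fun g => ‖χ g‖ ^ 2 with hf
  have hsum := Char.dade_sum hD (f := fun g => (f g : ℂ)) fun g k => by simp only [hf, hχ g k]
  simp only [← Complex.ofReal_natCast, ← Complex.ofReal_inv, ← Complex.ofReal_sum,
    ← Complex.ofReal_mul, Complex.ofReal_inj] at hsum
  have hD' : (Set.toFinite {g : G | ∃ a ∈ A, ∃ u ∈ H a, ∃ x : G, x * g * x⁻¹ = a * u}).toFinset =
      Finset.univ.filter (· ∈ Char.dadeSet A H) := by
    ext g
    simp only [Set.Finite.mem_toFinset, Finset.mem_filter, Finset.mem_univ, true_and]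
    rfl
  have hA : ∑ a ∈ (Set.toFinite {a : L | (a : G) ∈ A}).toFinset, ‖ψ a‖ ^ 2 ≤
      ∑ a : G with a ∈ A, (Nat.card (H a) : ℝ)⁻¹ * ∑ u : G with u ∈ H a, f (a * u) := by
    have himg : (Set.toFinite {a : L | (a : G) ∈ A}).toFinset.image (fun a : L => (a : G)) =
        Finset.univ.filter (· ∈ A) := by
      ext a
      simp only [Finset.mem_image, Set.Finite.mem_toFinset, Set.mem_setOf_eq, Finset.mem_filter,
        Finset.mem_univ, true_and]
      exact ⟨fun ⟨b, hb, e⟩ => e ▸ hb, fun ha => ⟨⟨a, hD.subset ha⟩, ha, rfl⟩⟩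
    rw [← himg, Finset.sum_image Subtype.val_injective.injOn]
    refine Finset.sum_le_sum fun a ha => ?_
    have haA : (a : G) ∈ A := by simpa using ha
    rw [hψ a haA, finsum_mem_eq_finite_toFinset_sum _ (Set.toFinite _),
      show (Set.toFinite (H (a : G) : Set G)).toFinset = Finset.univ.filter (· ∈ H (a : G)) by
        ext; simp, norm_mul, norm_inv, Complex.norm_natCast, mul_pow]
    have hcard : ((Finset.univ.filter (· ∈ H (a : G))).card : ℝ) = (Nat.card (H (a : G)) : ℝ) := by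
      rw [← Fintype.card_subtype, ← Nat.card_eq_fintype_card]
    set k := (Nat.card (H (a : G)) : ℝ)
    have hk : 0 < k := Nat.cast_pos.mpr Nat.card_pos
    calc k⁻¹ ^ 2 * ‖∑ u : G with u ∈ H (a : G), χ (a * u)‖ ^ 2
        ≤ k⁻¹ ^ 2 * (∑ u : G with u ∈ H (a : G), ‖χ (a * u)‖) ^ 2 := by
          gcongr
          exact norm_sum_le _ _
      _ ≤ k⁻¹ ^ 2 * (k * ∑ u : G with u ∈ H (a : G), ‖χ (a * u)‖ ^ 2) := by
          gcongr
          rw [← hcard]
          exact sq_sum_le_card_mul_sum_sq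
      _ = k⁻¹ * ∑ u : G with u ∈ H (a : G), f (a * u) := by
          simp only [hf]
          field_simp
  rw [finsum_mem_eq_finite_toFinset_sum _ (Set.toFinite _),
    finsum_mem_eq_finite_toFinset_sum _ (Set.toFinite _), hD',
    inv_mul_le_iff₀ (Nat.cast_pos.mpr Nat.card_pos)]
  refine hA.trans (le_of_eq ?_)
  have hG : (Nat.card G : ℝ) ≠ 0 := Nat.cast_ne_zero.mpr Nat.card_pos.ne'
  rw [mul_left_comm, ← mul_right_inj' hG, ← hsum, ← mul_assoc (Nat.card G : ℝ),
    mul_inv_cancel₀ hG, one_mul]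

end Cfsg.Agent.S1525
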