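import Cfsg.Statements.S1527
import Mathlib

set_option autoImplicit false
open Cfsg

namespace Cfsg.Agent.S1527

/-- Let G be a finite group and H i (i in a finite index type) subgroups of pairwise coprime orders, each of whose underlying sets is a TI-subset of G, such that every non-identity element of G is conjugate to an element of some H i. Then Nat.card G − 1 = Σ_i [G : N_G(H i)] · (Nat.card (H i) − 1). -/
theorem result {G : Type*} [Group G] [Finite G] {ι : Type*} [Fintype ι] (H : ι → Subgroup G) (hcop : ∀ i j, i ≠ j → Nat.Coprime (Nat.card (H i)) (Nat.card (H j))) (hTI : ∀ i, Cfsg.IsTISubset (H i : Set G)) (hcover : ∀ g : G, g ≠ 1 → ∃ i, ∃ x : G, x * g * x⁻¹ ∈ H i) : Nat.card G - 1 = ∑ i, (Subgroup.normalizer (H i : Set G)).index * (Nat.card (H i) - 1) := by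
  classical
  haveI := Fintype.ofFinite G
  let N : ι → Subgroup G := fun i => Subgroup.normalizer (H i : Set G)
  let f : (Σ i, (G ⧸ N i) × {h : H i // h ≠ 1}) → {g : G // g ≠ 1} :=
    fun t => ⟨Quotient.out t.2.1 * (t.2.2.1 : G) * (Quotient.out t.2.1)⁻¹, fun e => t.2.2.2 (by
      rw [mul_inv_eq_one] at e
      exact Subtype.ext (mul_left_cancel (e.trans (mul_one _).symm)))⟩
  have hf : Function.Bijective f := by
    constructor
    · rintro ⟨i, qi, hi, hi1⟩ ⟨j, qj, hj, hj1⟩ e
      have e' : Quotient.out qi * (hi : G) * (Quotient.out qi)⁻¹ =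
          Quotient.out qj * (hj : G) * (Quotient.out qj)⁻¹ := congrArg Subtype.val e
      have hij : i = j := by
        by_contra hne
        have ho : orderOf (hi : G) = orderOf (hj : G) := by
          have h1 := orderOf_injective (MulAut.conj (Quotient.out qi)).toMonoidHom
            (MulAut.conj _).injective (hi : G)
          have h2 := orderOf_injective (MulAut.conj (Quotient.out qj)).toMonoidHom
            (MulAut.conj _).injective (hj : G)
          simp only [MulEquiv.coe_toMonoidHom, MulAut.conj_apply] at h1 h2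
          rw [← h1, ← h2, e']
        apply hi1
        have d1 : orderOf hi ∣ Nat.card (H i) := orderOf_dvd_natCard hi
        have d2 : orderOf hj ∣ Nat.card (H j) := orderOf_dvd_natCard hj
        rw [← Subgroup.orderOf_coe, ← ho, Subgroup.orderOf_coe] at d2
        exact orderOf_eq_one_iff.1 (Nat.eq_one_of_dvd_coprimes (hcop i j hne) d1 d2)
      subst hij
      set a := Quotient.out qi with ha
      set b := Quotient.out qj with hb
      have e2 : b⁻¹ * a * (hi : G) * (b⁻¹ * a)⁻¹ = (hj : G) := by
        calc _ = b⁻¹ * (a * (hi : G) * a⁻¹) * b := by group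
          _ = _ := by rw [e']; group
      have hn : b⁻¹ * a ∈ N i := by
        by_contra hn
        exact hi1 (Subtype.ext (hTI i _ hn _ hi.2 (by rw [e2]; exact hj.2)))
      have hq : qi = qj := by
        calc qi = QuotientGroup.mk a := (QuotientGroup.out_eq' qi).symm
          _ = QuotientGroup.mk b := (QuotientGroup.eq.2 hn).symm
          _ = qj := QuotientGroup.out_eq' qj
      subst hq
      have : (hi : G) = (hj : G) := by
        rw [← hb] at ha
        simpa [ha] using e2
      obtain rfl := Subtype.ext this
      rfl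
    · rintro ⟨g, hg⟩
      obtain ⟨i, x, hx⟩ := hcover g hg
      have hn : x * Quotient.out (QuotientGroup.mk x⁻¹ : G ⧸ N i) ∈ N i := by
        have := QuotientGroup.eq.1 (QuotientGroup.out_eq' (QuotientGroup.mk x⁻¹ : G ⧸ N i)).symm
        simpa using this
      set a := Quotient.out (QuotientGroup.mk x⁻¹ : G ⧸ N i) with ha
      have hmem : a⁻¹ * g * a ∈ H i := by
        have := (Subgroup.mem_set_normalizer_iff.1 ((N i).inv_mem hn) _).1 hx
        simpa [mul_assoc] using this
      refine ⟨⟨i, QuotientGroup.mk x⁻¹, ⟨⟨_, hmem⟩, fun e => hg ?_⟩⟩, Subtype.ext ?_⟩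
      · have := congrArg (fun t : H i => a * (t : G) * a⁻¹) e
        simpa [mul_assoc] using this
      · show a * (a⁻¹ * g * a) * a⁻¹ = g
        group
  have hc := Nat.card_eq_of_bijective f hf
  rw [Nat.card_sigma] at hc
  have sub1 : ∀ (α : Type _) [Finite α] (a : α), Nat.card {x : α // x ≠ a} = Nat.card α - 1 := by
    intro α _ a
    haveI := Fintype.ofFinite α
    rw [Nat.card_eq_fintype_card, Nat.card_eq_fintype_card, Fintype.card_subtype_compl,
      Fintype.card_subtype_eq]
  rw [sub1] at hc
  rw [← hc]
  refine Finset.sum_congr rfl (fun i _ => ?_)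
  rw [Nat.card_prod, sub1]
  rfl

end Cfsg.Agent.S1527
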