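import Cfsg.Statements.S1528
import Cfsg.Agent.Lib.Char.PermLemma
import Cfsg.Agent.Lib.Char.CliffordInd
import Cfsg.Agent.Lib.Char.Degree

set_option autoImplicit false
open Cfsg
open scoped ComplexConjugate

namespace Cfsg.Agent.S1528

/-- Let N be a normal subgroup of the finite group G such that every element of G commuting with a non-identity element of N lies in N. If χ is an irreducible character of G with χ n ≠ χ 1 for some n ∈ N, then χ is the function induced from some irreducible character of N. -/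
theorem result {G : Type*} [Group G] [Fintype G] (N : Subgroup G) [N.Normal] (hC : ∀ n ∈ N, n ≠ 1 → Subgroup.centralizer ({n} : Set G) ≤ N) (χ : G → ℂ) (hχ : Cfsg.IsIrrCharacter G χ) (hker : ∃ n ∈ N, χ n ≠ χ 1) : ∃ φ : N → ℂ, Cfsg.IsIrrCharacter N φ ∧ χ = Cfsg.indFun N φ := by
  classical
  haveI : Fintype N := Fintype.ofFinite N
  let χ' : Cfsg.IrrCharacter G := ⟨χ, hχ⟩
  have hres : Cfsg.IsCharacter N (fun n : N => χ n) :=
    Cfsg.Agent.Char.isCharacter_comp N.subtype (Cfsg.Agent.Char.irr_isCharacter hχ)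
  obtain ⟨m, hm⟩ := Cfsg.Agent.Char.exists_decomposition hres
  obtain ⟨θ, hθ, hθ1⟩ : ∃ θ : Cfsg.IrrCharacter N, m θ ≠ 0 ∧ (θ : N → ℂ) ≠ fun _ => 1 := by
    by_contra hcon
    simp only [not_exists, not_and, not_not] at hcon
    obtain ⟨n, hn, hne⟩ := hker
    apply hne
    have hall : ∀ k : N, χ k = ∑ ψ : Cfsg.IrrCharacter N, (m ψ : ℂ) := by
      intro k
      rw [show χ k = (fun n : N => χ n) k from rfl, hm, Finset.sum_apply]
      refine Finset.sum_congr rfl (fun ψ _ => ?_)
      by_cases h0 : m ψ = 0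
      · simp [h0]
      · simp [hcon ψ h0]
    exact (hall ⟨n, hn⟩).trans (hall 1).symm
  have hcons : Cfsg.classInner (fun n : N => χ n) (θ : N → ℂ) ≠ 0 := by
    rw [Cfsg.Agent.Char.decomposition_coeff m hm θ]
    exact_mod_cast hθ
  have hin : ∀ g : G, Cfsg.Agent.Char.irrComp (MulAut.conjNormal g) θ = θ → g ∈ N := by
    intro g hg
    by_contra hgN
    have hsub : Subsingleton {C : ConjClasses N //
        ConjClasses.map (MulAut.conjNormal g : MulAut N).toMonoidHom C = C} := by
      suffices h : ∀ C : {C : ConjClasses N //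
          ConjClasses.map (MulAut.conjNormal g : MulAut N).toMonoidHom C = C},
          C.1 = ConjClasses.mk 1 from ⟨fun a b => Subtype.ext ((h a).trans (h b).symm)⟩
      rintro ⟨C, hC'⟩
      obtain ⟨n, rfl⟩ := ConjClasses.mk_surjective C
      show ConjClasses.mk n = _
      by_cases hn : n = 1
      · rw [hn]
      exfalso
      obtain ⟨h, hh⟩ := isConj_iff.1 (ConjClasses.mk_eq_mk_iff_isConj.1 hC')
      have hh' : (h : G) * (g * n * g⁻¹) * (h : G)⁻¹ = n := by
        have := congrArg (fun t : N => (t : G)) hh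
        simpa [MulAut.conjNormal_apply] using this
      have hcm : (h : G) * g ∈ Subgroup.centralizer ({(n : G)} : Set G) := by
        rw [Subgroup.mem_centralizer_singleton_iff]
        calc (h : G) * g * n = (h : G) * (g * n * g⁻¹) * (h : G)⁻¹ * (h * g) := by group
          _ = _ := by rw [hh']
      have := hC (n : G) n.2 (fun e => hn (Subtype.ext e)) hcm
      exact hgN ((Subgroup.mul_mem_cancel_left N h.2).1 this)
    have hc := Cfsg.Agent.Char.card_fixed_irr_eq_card_fixed_classes (MulAut.conjNormal g : MulAut N)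
    have h1 : Nat.card {C : ConjClasses N //
        ConjClasses.map (MulAut.conjNormal g : MulAut N).toMonoidHom C = C} ≤ 1 :=
      Finite.card_le_one_iff_subsingleton.2 hsub
    rw [← hc, Finite.card_le_one_iff_subsingleton] at h1
    let one : Cfsg.IrrCharacter N := ⟨_, Cfsg.Agent.Char.isIrrCharacter_one⟩
    have := h1.elim ⟨θ, hg⟩ ⟨one, Subtype.ext (funext fun n => by rw [Cfsg.Agent.Char.irrComp_apply])⟩
    exact hθ1 (congrArg (fun t => ((t : Cfsg.IrrCharacter N) : N → ℂ)) (congrArg Subtype.val this))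
  have hirr := Cfsg.Agent.Char.isIrr_indFun_of_inertia N θ hin
  refine ⟨θ, θ.2, ?_⟩
  by_contra hne
  have h0 : Cfsg.classInner χ (Cfsg.indFun N (θ : N → ℂ)) = 0 := by
    rw [Cfsg.Agent.Char.irr_orth hχ hirr, if_neg hne]
  rw [Cfsg.Agent.Char.frobenius_right N _
    (Cfsg.Agent.Char.isClassFunction_character (Cfsg.Agent.Char.irr_isCharacter hχ))] at h0
  exact hcons h0

end Cfsg.Agent.S1528
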