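import Cfsg.Statements.S1532
import Cfsg.Agent.Lib.Char.SibleyApps

set_option autoImplicit false
open Cfsg Cfsg.Agent.Char
open scoped ComplexConjugate

namespace Cfsg.Agent.S1532

/-- Let G be a finite group, p an odd prime and P a Sylow p-subgroup that is non-abelian, whose underlying set is a TI-subset of G, with P properly contained in its set normaliser N and C_G(x) ≤ P for every non-identity x ∈ P. Let Z be a nontrivial subgroup of the centre of P normalised by N. Then the set of irreducible characters χ of N with χ z ≠ χ 1 for some z ∈ Z is coherent for the map induced by induction from N to G. -/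
theorem result {G : Type*} [Group G] [Fintype G] (p : ℕ) [Fact p.Prime] (hp : p ≠ 2) (P : Sylow p G) (hna : ¬ IsMulCommutative (P : Subgroup G)) (hTI : Cfsg.IsTISubset ((P : Subgroup G) : Set G)) (hlt : (P : Subgroup G) < Subgroup.normalizer ((P : Subgroup G) : Set G)) (hC : ∀ k ∈ (P : Subgroup G), k ≠ 1 → Subgroup.centralizer ({k} : Set G) ≤ (P : Subgroup G)) [Fintype ↥(Subgroup.normalizer ((P : Subgroup G) : Set G))] (Z : Subgroup G) (hZ1 : Z ≠ ⊥) (hZP : ∀ z ∈ Z, z ∈ (P : Subgroup G) ∧ ∀ y ∈ (P : Subgroup G), z * y = y * z) (hZn : ∀ x ∈ Subgroup.normalizer ((P : Subgroup G) : Set G), ∀ z ∈ Z, x * z * x⁻¹ ∈ Z) : Cfsg.IsCoherent {χ : ↥(Subgroup.normalizer ((P : Subgroup G) : Set G)) → ℂ | Cfsg.IsIrrCharacter ↥(Subgroup.normalizer ((P : Subgroup G) : Set G)) χ ∧ ∃ z : ↥(Subgroup.normalizer ((P : Subgroup G) : Set G)), (z : G) ∈ Z ∧ χ z ≠ χ 1} {1}ᶜ (fun α => Cfsg.indFun (Subgroup.normalizer ((P : Subgroup G) : Set G)) α) := by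
  classical
  haveI : ((P : Subgroup G).subgroupOf (Subgroup.normalizer ((P : Subgroup G) : Set G))).Normal :=
    Subgroup.normal_in_normalizer
  haveI := Fintype.ofFinite ((P : Subgroup G).subgroupOf (Subgroup.normalizer ((P : Subgroup G) : Set G)))
  have hC0 := tifn_centralizer (P : Subgroup G) hC
  obtain ⟨n, hn⟩ := P.2.exists_card_eq
  have hn' := (card_subgroupOf_normalizer (P : Subgroup G)).trans hn
  have hnab : ¬ ∀ a ∈ (P : Subgroup G).subgroupOf (Subgroup.normalizer ((P : Subgroup G) : Set G)),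
      ∀ b ∈ (P : Subgroup G).subgroupOf (Subgroup.normalizer ((P : Subgroup G) : Set G)), a * b = b * a :=
    fun h => hna ⟨⟨fun a b => Subtype.ext (congrArg (fun t : ↥(Subgroup.normalizer ((P : Subgroup G) : Set G)) => (t : G))
      (h ⟨a, hlt.le a.2⟩ (Subgroup.mem_subgroupOf.2 a.2) ⟨b, hlt.le b.2⟩ (Subgroup.mem_subgroupOf.2 b.2)))⟩⟩
  have hodd : Odd (Nat.card ↥(Subgroup.normalizer ((P : Subgroup G) : Set G))) := by
    rw [← ((P : Subgroup G).subgroupOf (Subgroup.normalizer ((P : Subgroup G) : Set G))).card_mul_index, hn']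
    exact ((Fact.out : p.Prime).odd_of_ne_two hp).pow.mul
      (Nat.not_even_iff_odd.1 fun h => hnab (comm_of_even_index _ hC0 h))
  haveI : (Z.subgroupOf (Subgroup.normalizer ((P : Subgroup G) : Set G))).Normal :=
    ⟨fun a ha g => Subgroup.mem_subgroupOf.2 (hZn _ g.2 _ (Subgroup.mem_subgroupOf.1 ha))⟩
  have hZ' : Z.subgroupOf (Subgroup.normalizer ((P : Subgroup G) : Set G)) ≠ ⊥ := by
    obtain ⟨z, hz, hz1⟩ := Z.bot_or_exists_ne_one.resolve_left hZ1
    intro h
    have hm : (⟨z, hlt.le (hZP z hz).1⟩ : ↥(Subgroup.normalizer ((P : Subgroup G) : Set G))) ∈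
        Z.subgroupOf (Subgroup.normalizer ((P : Subgroup G) : Set G)) := Subgroup.mem_subgroupOf.2 hz
    rw [h, Subgroup.mem_bot] at hm
    exact hz1 (congrArg Subtype.val hm)
  obtain ⟨hiso, hone⟩ := tifn_isometry (P : Subgroup G) hTI hC
  rw [← chSet_eq_tifnSet] at hiso hone
  have h := coherent_central _ hn' hC0 hodd hZ'
    (fun z hz => Subgroup.mem_subgroupOf.2 (hZP _ (Subgroup.mem_subgroupOf.1 hz)).1)
    (fun z hz k hk => Subtype.ext ((hZP _ (Subgroup.mem_subgroupOf.1 hz)).2 _ (Subgroup.mem_subgroupOf.1 hk)))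
    _ hiso hone
  convert h using 1
  ext χ
  rw [Finset.mem_coe, mem_szFin]
  constructor
  · rintro ⟨hirr, z, hz, hne⟩
    exact ⟨⟨hirr, ⟨z, Subgroup.mem_subgroupOf.2 (hZP _ hz).1, hne⟩,
      fun d hd => by rw [Subgroup.mem_bot.1 hd]⟩,
      fun h' => hne (h'.2.2 z (Subgroup.mem_subgroupOf.2 hz))⟩
  · rintro ⟨⟨hirr, hK, -⟩, hnot⟩
    refine ⟨hirr, ?_⟩
    by_contra hcon
    push Not at hcon
    exact hnot ⟨hirr, hK, fun d hd => hcon d (Subgroup.mem_subgroupOf.1 hd)⟩

end Cfsg.Agent.S1532
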