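import Cfsg.Statements.S1536
import Cfsg.Agent.Lib.Char.PermLemma

set_option autoImplicit false
open Cfsg
open scoped ComplexConjugate

namespace Cfsg.Agent.S1536

/-- Let H be a normal subgroup of the finite group M whose order is coprime to its index. For x ∈ M: some non-principal irreducible character of H is unchanged under h ↦ θ(x h x⁻¹) if and only if some non-identity element of H commutes with x. -/
theorem result {M : Type*} [Group M] [Finite M] (H : Subgroup M) [hN : H.Normal] (hHall : Nat.Coprime (Nat.card H) H.index) (x : M) : (∃ θ : H → ℂ, Cfsg.IsIrrCharacter H θ ∧ θ ≠ (fun _ => 1) ∧ (fun h : H => θ ⟨x * h * x⁻¹, hN.conj_mem h h.2 x⟩) = θ) ↔ ∃ h ∈ H, h ≠ 1 ∧ x * h = h * x := by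
  classical
  haveI : Fintype H := Fintype.ofFinite H
  -- split `x = b * a` with `a` in `H` and `b` of order prime to `|H|`
  obtain ⟨e, he1, he0⟩ := Nat.chineseRemainder (hHall.symm) 1 0
  set b := x ^ e with hb
  set a := b⁻¹ * x with ha
  have hcopb : (orderOf b).Coprime (Nat.card H) := by
    refine Nat.Coprime.coprime_dvd_left (orderOf_dvd_of_pow_eq_one (n := H.index) ?_) hHall.symm
    obtain ⟨k, hk⟩ := Nat.modEq_zero_iff_dvd.1 he0
    rw [hb, ← pow_mul, hk, mul_comm _ k, mul_assoc, H.card_mul_index, mul_comm, pow_mul,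
      pow_card_eq_one', one_pow]
  have haH : a ∈ H := by
    rw [ha, hb, ← QuotientGroup.eq, QuotientGroup.mk_pow]
    conv_rhs => rw [← pow_one (QuotientGroup.mk x : M ⧸ H)]
    refine pow_eq_pow_iff_modEq.2 (Nat.ModEq.of_dvd ?_ he1)
    rw [Subgroup.index]
    exact orderOf_dvd_natCard _
  have hxab : x = b * a := by rw [ha]; group
  have hab : a * b = b * a := by
    rw [ha, hb]
    calc (x ^ e)⁻¹ * x * x ^ e = (x ^ e)⁻¹ * (x * x ^ e) := by group
      _ = (x ^ e)⁻¹ * (x ^ e * x) := by rw [(Commute.self_pow x e).eq]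
      _ = _ := by group
  let one : Cfsg.IrrCharacter H := ⟨_, Cfsg.Agent.Char.isIrrCharacter_one⟩
  have hone : Cfsg.Agent.Char.irrComp (MulAut.conjNormal x) one = one :=
    Subtype.ext (funext fun n => by rw [Cfsg.Agent.Char.irrComp_apply])
  have hc1 : ConjClasses.map (MulAut.conjNormal x : MulAut H).toMonoidHom (ConjClasses.mk 1) =
      ConjClasses.mk 1 := by
    show ConjClasses.mk _ = _
    rw [map_one]
  have hcard := Cfsg.Agent.Char.card_fixed_irr_eq_card_fixed_classes (MulAut.conjNormal x : MulAut H)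
  have conjeq : ∀ (θ : H → ℂ) (h : H),
      θ ⟨x * h * x⁻¹, hN.conj_mem h h.2 x⟩ = θ (MulAut.conjNormal x h) := fun θ h =>
    congrArg θ (Subtype.ext (by simp [MulAut.conjNormal_apply]))
  constructor
  · rintro ⟨θ, hθ, hθ1, hfix⟩
    by_contra hcon
    simp only [not_exists, not_and] at hcon
    have hsub : Subsingleton {C : ConjClasses H //
        ConjClasses.map (MulAut.conjNormal x : MulAut H).toMonoidHom C = C} := by
      suffices h : ∀ C : {C : ConjClasses H //
          ConjClasses.map (MulAut.conjNormal x : MulAut H).toMonoidHom C = C},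
          C.1 = ConjClasses.mk 1 from ⟨fun a b => Subtype.ext ((h a).trans (h b).symm)⟩
      rintro ⟨C, hC⟩
      obtain ⟨n, rfl⟩ := ConjClasses.mk_surjective C
      show ConjClasses.mk n = _
      have hCb : ConjClasses.map (MulAut.conjNormal b : MulAut H).toMonoidHom (ConjClasses.mk n) =
          ConjClasses.mk n := by
        refine Eq.trans ?_ hC
        refine ConjClasses.mk_eq_mk_iff_isConj.2 (isConj_iff.2 ⟨⟨a, haH⟩, Subtype.ext ?_⟩)
        simp only [MulEquiv.coe_toMonoidHom, Subgroup.coe_mul, Subgroup.coe_inv,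
          MulAut.conjNormal_apply]
        rw [hxab]
        calc a * (b * n * b⁻¹) * a⁻¹ = (a * b) * n * (a * b)⁻¹ := by group
          _ = _ := by rw [hab]
      obtain ⟨m, hm, hmc⟩ := Cfsg.Agent.Char.exists_fixed_of_fixed_class H b hcopb n hCb
      have hm1 : (m : M) = 1 := by
        by_contra hm1
        by_cases ha1 : a = 1
        · rw [ha1, mul_one] at hxab
          exact hcon m m.2 hm1 (by rw [hxab]; exact hmc)
        · refine hcon a haH ha1 ?_
          rw [hxab, ← mul_assoc a b a, hab]
      rw [← hm, show m = 1 from Subtype.ext hm1]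
    have h1 : Nat.card {C : ConjClasses H //
        ConjClasses.map (MulAut.conjNormal x : MulAut H).toMonoidHom C = C} ≤ 1 :=
      Finite.card_le_one_iff_subsingleton.2 hsub
    rw [← hcard, Finite.card_le_one_iff_subsingleton] at h1
    have := h1.elim ⟨⟨θ, hθ⟩, Subtype.ext (funext fun h => by
      exact (conjeq θ h).symm.trans (congrFun hfix h))⟩ ⟨one, hone⟩
    exact hθ1 (congrArg (fun t => ((t : Cfsg.IrrCharacter H) : H → ℂ)) (congrArg Subtype.val this))
  · rintro ⟨h, hh, hh1, hxh⟩
    by_contra hcon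
    simp only [not_exists, not_and] at hcon
    have hsub : Subsingleton {χ : Cfsg.IrrCharacter H //
        Cfsg.Agent.Char.irrComp (MulAut.conjNormal x) χ = χ} := by
      suffices h : ∀ χ : {χ : Cfsg.IrrCharacter H //
          Cfsg.Agent.Char.irrComp (MulAut.conjNormal x) χ = χ}, χ.1 = one from
        ⟨fun a b => Subtype.ext ((h a).trans (h b).symm)⟩
      rintro ⟨χ, hχ⟩
      apply Subtype.ext
      by_contra hne
      refine hcon _ χ.2 hne (funext fun k => ?_)
      exact (conjeq _ k).trans (congrFun (congrArg Subtype.val hχ) k)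
    have h1 : Nat.card {χ : Cfsg.IrrCharacter H //
        Cfsg.Agent.Char.irrComp (MulAut.conjNormal x) χ = χ} ≤ 1 :=
      Finite.card_le_one_iff_subsingleton.2 hsub
    rw [hcard, Finite.card_le_one_iff_subsingleton] at h1
    have := h1.elim ⟨ConjClasses.mk ⟨h, hh⟩, by
      show ConjClasses.mk _ = _
      congr 1
      apply Subtype.ext
      simp only [MulEquiv.coe_toMonoidHom, MulAut.conjNormal_apply]
      rw [hxh]; group⟩ ⟨ConjClasses.mk 1, hc1⟩
    have h2 := ConjClasses.mk_eq_mk_iff_isConj.1 (congrArg Subtype.val this)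
    exact hh1 (by simpa using congrArg Subtype.val (isConj_one_left.1 h2))

end Cfsg.Agent.S1536
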