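import Cfsg.Statements.S1538
import Cfsg.Agent.Lib.OddLocal.TypeSets

set_option autoImplicit false
open Cfsg

namespace Cfsg.Agent.S1538

theorem result {G : Type*} [Group G] [Finite G] (hG : Cfsg.IsMinSimpleOddOrder G) (M : Subgroup G) (hM : IsCoatom M) (hII : Cfsg.IsOfTypeII M) : (Cfsg.IsTISubset (Cfsg.typeA0 M) ∧ Subgroup.normalizer (Cfsg.typeA0 M) = M) ∧ (Cfsg.IsTISubset (Cfsg.typeA M) ∧ Subgroup.normalizer (Cfsg.typeA M) = M) ∧ (Cfsg.IsTISubset (Cfsg.typeA1 M) ∧ Subgroup.normalizer (Cfsg.typeA1 M) = M) := by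
  obtain ⟨K, U, hKU⟩ := Cfsg.Agent.OddLocal.Kappa.exists_full_decomp hG hM
  obtain ⟨-, hU⟩ := Cfsg.Agent.OddLocal.Kappa.typeII_forward hG hM hKU hII
  have he := Cfsg.Agent.OddLocal.Support.fittingHallOf_eq hG hM
    (Cfsg.Agent.OddLocal.Kappa.core_nilpotent_of_U hG hM hKU hU)
  have hFti : Cfsg.IsTISubset (Cfsg.fittingOf M : Set G) := by
    obtain ⟨W₁, D, W₂, -, -, -, h, -⟩ := hII
    exact h
  have hσF : Cfsg.sigmaCore M ≤ Cfsg.fittingOf M :=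
    he.le.trans (Subgroup.map_mono Cfsg.Agent.TypePBasic.fittingHall_le_fitting)
  obtain ⟨y, hy, hy1⟩ := Cfsg.Agent.OddLocal.RankTwo.exists_ne_one (Cfsg.Agent.OddLocal.FitParts.sigmaCore_ne_bot hG hM)
  have hFN : Subgroup.normalizer (Cfsg.fittingOf M : Set G) = M :=
    Cfsg.Agent.OddLocal.Kappa.normalizer_set_eq hG hM (SetLike.coe_subset_coe.2 (Subgroup.map_subtype_le _))
      (fun m hm a ha => (Subgroup.mem_normalizer_iff.1 (Cfsg.Agent.OddLocal.Bender.le_normalizer_map _ hm) a).1 ha)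
      ⟨y, hσF hy, hy1⟩
  have key : ∀ A : Set G, (A = Cfsg.typeA1 M ∨ A = Cfsg.typeA M ∨ A = Cfsg.typeA0 M) →
      Cfsg.IsTISubset A ∧ Subgroup.normalizer A = M := by
    intro A hA
    obtain ⟨-, h2, -, hN⟩ := Cfsg.Agent.OddLocal.Kappa.sets_facts hG hM hA
    refine ⟨fun g hg a ha hga => ?_, hN⟩
    by_contra ha1
    rw [hN] at hg
    refine hg ?_
    by_cases haσ : a ∈ Cfsg.sigmaCore M
    · by_contra hgM
      refine ha1 (hFti g (fun h => hgM (hFN ▸ h)) a (hσF haσ) (hσF ?_))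
      exact Cfsg.Agent.OddLocal.Kappa.mem_core_of_conj hG hM haσ
        (Cfsg.Agent.OddLocal.Kappa.typeA0_mem hG hM (h2 hga)).1
    · exact Cfsg.Agent.OddLocal.Kappa.mem_of_fused hG hM (h2 ha) haσ (h2 hga)
  exact ⟨key _ (Or.inr (Or.inr rfl)), key _ (Or.inr (Or.inl rfl)), key _ (Or.inl rfl)⟩

end Cfsg.Agent.S1538
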