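import Cfsg.Statements.S1539
import Cfsg.Agent.Lib.OddChar.Supports

set_option autoImplicit false
open Cfsg

namespace Cfsg.Agent.S1539

/-- Let G be a minimal simple group of odd order and S, T maximal subgroups not conjugate in G. Then: T supports S if and only if A₁(S) ∩ A(T) is nonempty, and for every x ∈ A₁(S) ∩ A(T) the centraliser of x is contained in T but not in S; some conjugate of T supports S if and only if Ã₁(S) ∩ Ã(T) is nonempty; and at least one of Ã₁(S) ∩ Ã(T), Ã₁(T) ∩ Ã(S) is empty. -/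
theorem result {G : Type*} [Group G] [Finite G] (hG : Cfsg.IsMinSimpleOddOrder G) (S T : Subgroup G) (hS : IsCoatom S) (hT : IsCoatom T) (hnc : ∀ g : G, T.map (MulAut.conj g).toMonoidHom ≠ S) : (Cfsg.Supports T S ↔ (Cfsg.typeA1 S ∩ Cfsg.typeA T).Nonempty) ∧ (∀ x ∈ Cfsg.typeA1 S ∩ Cfsg.typeA T, ¬ Subgroup.centralizer ({x} : Set G) ≤ S ∧ Subgroup.centralizer ({x} : Set G) ≤ T) ∧ ((∃ g : G, Cfsg.Supports (T.map (MulAut.conj g).toMonoidHom) S) ↔ (Cfsg.tildeOf S (Cfsg.typeA1 S) ∩ Cfsg.tildeOf T (Cfsg.typeA T)).Nonempty) ∧ (Cfsg.tildeOf S (Cfsg.typeA1 S) ∩ Cfsg.tildeOf T (Cfsg.typeA T) = ∅ ∨ Cfsg.tildeOf T (Cfsg.typeA1 T) ∩ Cfsg.tildeOf S (Cfsg.typeA S) = ∅) := by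
  refine ⟨⟨fun h => OddLocal.Kappa.meet_of_supports hG hS h,
      fun ⟨x, hx⟩ => OddLocal.Kappa.supports_of_meet hG hS hT hnc hx⟩,
    fun x hx => ?_, ⟨fun ⟨g, h⟩ => OddLocal.Kappa.tilde_meet_of_supports hG hS hT h,
      fun h => OddLocal.Kappa.supports_of_tilde_meet hG hS hT hnc h⟩, ?_⟩
  · have h := hx.1
    rw [OddLocal.Kappa.typeA1_eq hG hS] at h
    exact OddLocal.Kappa.meet_facts hG hS hT hnc h.1 h.2 hx.2
  · by_contra h
    rw [not_or, ← Ne, ← Ne, ← Set.nonempty_iff_ne_empty, ← Set.nonempty_iff_ne_empty] at h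
    obtain ⟨g, hg⟩ := OddLocal.Kappa.supports_of_tilde_meet hG hS hT hnc h.1
    obtain ⟨k, hk⟩ := OddLocal.Kappa.supports_of_tilde_meet hG hT hS (fun a ha => hnc a⁻¹ (by
      rw [← ha]
      exact Fusion.cj_cj_inv S a)) h.2
    exact OddLocal.Kappa.not_mutual hG hS hT hg hk

end Cfsg.Agent.S1539
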