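import Cfsg.Statements.S1541
import Cfsg.Agent.Lib.OddChar.KappaExists
import Cfsg.Agent.Lib.OddLocal.KappaTypeI
import Cfsg.Agent.Lib.OddLocal.KappaSecond

set_option autoImplicit false
open Cfsg

namespace Cfsg.Agent.S1541

/-- Let G be a minimal simple group of odd order. Then some maximal subgroup of G is not of Type I. -/
theorem result {G : Type*} [Group G] [Finite G] (hG : Cfsg.IsMinSimpleOddOrder G) : ∃ M : Subgroup G, IsCoatom M ∧ ¬ Cfsg.IsOfTypeI M := by
  by_contra hno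
  push Not at hno
  obtain ⟨M, hM, hκ⟩ := OddChar.exists_kappa hG
  obtain ⟨q, hqκ⟩ := Set.nonempty_iff_ne_empty.2 hκ
  obtain ⟨K, U, hKU⟩ := OddLocal.Kappa.exists_full_decomp hG hM
  have hK : K = ⊥ := (OddLocal.Kappa.typeI_forward hG hM hKU (hno M hM)).1
  have hq : q.Prime := hqκ.1
  refine hKU.hall.2.2 q hq hqκ ?_
  rw [hK, Subgroup.relIndex_bot_left]
  exact hqκ.2.1

end Cfsg.Agent.S1541
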