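import Cfsg.Statements.S1546
import Mathlib

set_option autoImplicit false
open Cfsg

namespace Cfsg.Agent.S1546

/-- Let p and q be odd primes and N = (p ^ q − 1) / (p − 1) = 1 + p + ⋯ + p^(q−1). Then N is odd; if p ≡ 1 (mod q) then q ∣ N; and if p is not ≡ 1 (mod q) then N is coprime to p − 1 and every divisor of N is ≡ 1 (mod q). -/
theorem result (p q : ℕ) (hp : p.Prime) (hq : q.Prime) (hp2 : p ≠ 2) (hq2 : q ≠ 2) : Odd ((p ^ q - 1) / (p - 1)) ∧ (p % q = 1 → q ∣ (p ^ q - 1) / (p - 1)) ∧ (p % q ≠ 1 → Nat.Coprime ((p ^ q - 1) / (p - 1)) (p - 1) ∧ ∀ x : ℕ, x ∣ (p ^ q - 1) / (p - 1) → x % q = 1) := by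
  set N := (p ^ q - 1) / (p - 1) with hN
  have hsum : N = ∑ i ∈ Finset.range q, p ^ i := by
    rw [hN, Nat.geomSum_eq hp.two_le]
  have hmod : ∀ r : ℕ, (p : ZMod r) = 1 → (N : ZMod r) = (q : ZMod r) := by
    intro r hr
    rw [hsum]; push_cast; rw [hr]; simp
  have hmul : N * (p - 1) + 1 = p ^ q := by
    rw [hN, Nat.div_mul_cancel (by simpa using Nat.sub_dvd_pow_sub_pow p 1 q)]
    exact Nat.sub_add_cancel (Nat.one_le_pow _ _ hp.pos)
  refine ⟨?_, ?_, ?_⟩
  · have h2 : (p : ZMod 2) = 1 := by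
      rw [← ZMod.natCast_mod, Nat.odd_iff.1 (hp.odd_of_ne_two hp2)]; simp
    have := hmod 2 h2
    rw [ZMod.natCast_eq_natCast_iff'] at this
    rw [Nat.odd_iff, this, ← Nat.odd_iff]
    exact hq.odd_of_ne_two hq2
  · intro h
    have h2 : (p : ZMod q) = 1 := by rw [← ZMod.natCast_mod, h]; simp
    have := hmod q h2
    rwa [ZMod.natCast_self, ZMod.natCast_eq_zero_iff] at this
  · intro h
    have key : ∀ r : ℕ, r.Prime → r ∣ N → (p : ZMod r) ≠ 1 ∧ r % q = 1 := by
      intro r hr hrN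
      haveI : Fact r.Prime := ⟨hr⟩
      have hN0 : (N : ZMod r) = 0 := (ZMod.natCast_eq_zero_iff N r).2 hrN
      have hne : (p : ZMod r) ≠ 1 := by
        intro h1
        have h2 := hmod r h1
        rw [hN0, eq_comm, ZMod.natCast_eq_zero_iff] at h2
        obtain rfl := (Nat.prime_dvd_prime_iff_eq hr hq).1 h2
        apply h
        rw [← Nat.cast_one, ZMod.natCast_eq_natCast_iff'] at h1
        rw [h1, Nat.mod_eq_of_lt hr.one_lt]
      refine ⟨hne, ?_⟩
      have hpq : (p : ZMod r) ^ q = 1 := by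
        have := congrArg (fun n : ℕ => (n : ZMod r)) hmul
        push_cast at this
        rw [hN0, zero_mul, zero_add] at this
        exact this.symm
      have hp0 : (p : ZMod r) ≠ 0 := by
        intro h0; rw [h0, zero_pow hq.ne_zero] at hpq; exact zero_ne_one hpq
      have hord : orderOf (p : ZMod r) = q := by
        haveI : Fact q.Prime := ⟨hq⟩
        exact orderOf_eq_prime hpq hne
      have hdvd : q ∣ r - 1 := hord ▸ ZMod.orderOf_dvd_card_sub_one hp0
      have hmq : (1 : ℕ) ≡ r [MOD q] := (Nat.modEq_iff_dvd' hr.one_le).2 hdvd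
      rw [← hmq, Nat.mod_eq_of_lt hq.one_lt]
    have hN0 : N ≠ 0 := by
      intro h0
      rw [h0, zero_mul, zero_add] at hmul
      exact absurd hmul (Nat.one_lt_pow hq.ne_zero hp.one_lt).ne
    refine ⟨?_, fun x hx => ?_⟩
    · rw [Nat.coprime_iff_gcd_eq_one]
      by_contra hg
      obtain ⟨r, hr, hrg⟩ := Nat.exists_prime_and_dvd hg
      apply (key r hr (hrg.trans (Nat.gcd_dvd_left _ _))).1
      have h1 : ((p - 1 : ℕ) : ZMod r) = 0 :=
        (ZMod.natCast_eq_zero_iff _ _).2 (hrg.trans (Nat.gcd_dvd_right _ _))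
      rw [Nat.cast_sub hp.one_le, Nat.cast_one, sub_eq_zero] at h1
      exact h1
    · induction x using Nat.recOnMul with
      | zero => exact absurd (Nat.eq_zero_of_zero_dvd hx) hN0
      | one => exact Nat.mod_eq_of_lt hq.one_lt
      | prime r hr => exact (key r hr hx).2
      | mul a b iha ihb =>
        rw [Nat.mul_mod, iha (Dvd.dvd.trans (dvd_mul_right a b) hx),
          ihb (Dvd.dvd.trans (dvd_mul_left b a) hx), one_mul]
        exact Nat.mod_eq_of_lt hq.one_lt

end Cfsg.Agent.S1546
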