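import Cfsg.Statements.S1552
import Cfsg.Agent.Lib.Spor.GolayOrbitFacts
import Cfsg.Agent.Lib.Spor.GolayOrbits

set_option autoImplicit false
open scoped Pointwise
open Cfsg

namespace Cfsg.Agent.S1552

/-- A sextet stabiliser has four orbits on the 1771 sextets, of sizes 1, 90, 240, 1440; and the stabiliser is a maximal proper subgroup. -/
theorem result (S : Finset (Finset Cfsg.GolayPt)) (hS : S ∈ Cfsg.sextets) : ∃ X₁ ∈ Cfsg.sextets, ∃ X₂ ∈ Cfsg.sextets, ∃ X₃ ∈ Cfsg.sextets, (MulAction.orbit ↥(MulAction.stabilizer Cfsg.M24 S) X₁).ncard = 90 ∧ (MulAction.orbit ↥(MulAction.stabilizer Cfsg.M24 S) X₂).ncard = 240 ∧ (MulAction.orbit ↥(MulAction.stabilizer Cfsg.M24 S) X₃).ncard = 1440 ∧ Cfsg.sextets = {S} ∪ MulAction.orbit ↥(MulAction.stabilizer Cfsg.M24 S) X₁ ∪ MulAction.orbit ↥(MulAction.stabilizer Cfsg.M24 S) X₂ ∪ MulAction.orbit ↥(MulAction.stabilizer Cfsg.M24 S) X₃ ∧ IsCoatom (MulAction.stabilizer Cfsg.M24 S) := by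
  obtain ⟨τ, hτ, rfl⟩ := Spor.sextet_trans (Spor.sxOk_sound (r := Spor.confSx) (by decide +kernel)) hS
  let σ : M24 := ⟨τ, hτ⟩
  rw [show τ • Spor.confOf Spor.confSx = σ • Spor.confOf Spor.confSx from rfl]
  have h0 : Spor.confOf (Spor.orbSxSextetR.getD 0 []) = Spor.confOf Spor.confSx := by decide +kernel
  have hmem : σ • Spor.confOf Spor.confSx ∈ sextets := hS
  obtain ⟨g1, g2, g3⟩ := Spor.orbits_transfer σ (n := 4) (r := (fun c => Spor.confOf (Spor.orbSxSextetR.getD c []))) (fun g S h => Spor.smul_sextet g.2 h) Spor.orbSxSextet_orbits.1 Spor.orbSxSextet_orbits.2.1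
  refine ⟨_, (g1 3 (by norm_num)).1, _, (g1 1 (by norm_num)).1, _, (g1 2 (by norm_num)).1, (g1 3 (by norm_num)).2, (g1 1 (by norm_num)).2, (g1 2 (by norm_num)).2, Set.Subset.antisymm (fun y hy => ?_) ?_, ?_⟩
  · obtain ⟨c, hc, h⟩ := g3 y hy
    interval_cases c
    · left; left; left; exact (by
      obtain ⟨k, rfl⟩ := h
      rw [Set.mem_singleton_iff]
      exact (congrArg (fun z => (k : M24) • σ • z) h0).trans k.2)
    · left; right; exact h
    · right; exact h
    · left; left; right; exact h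
  · refine Set.union_subset (Set.union_subset (Set.union_subset (Set.singleton_subset_iff.2 hmem) (g2 3 (by norm_num))) (g2 1 (by norm_num))) (g2 2 (by norm_num))
  · refine Spor.isCoatom_stabilizer_smul σ ?_
    refine Spor.conf_coatom (R := Spor.orbSxSextetR1) (by decide +kernel) Spor.gensSx_ok ?_ ?_ Spor.orbSxSextet_movers
    · obtain ⟨h1, h2⟩ := Spor.orbSxSextet_orbits.1 1 (by norm_num)
      obtain ⟨ρ, hρ, e⟩ := Spor.sextet_trans (Spor.sxOk_sound (r := Spor.confSx) (by decide +kernel)) h1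
      refine ⟨⟨ρ, hρ⟩, fun h => ?_⟩
      have : Spor.confOf Spor.confSx = Spor.confOf (Spor.orbSxSextetR.getD 1 []) := h.symm.trans e
      revert this
      decide +kernel
    · intro x
      obtain ⟨c, hc, k, hk⟩ := Spor.orbSxSextet_orbits.2.1 _ (Spor.smul_sextet x.2 (Spor.sxOk_sound (r := Spor.confSx) (by decide +kernel)))
      have hsucc : ∀ c, c < 4 → c ≠ 0 → Spor.orbSxSextetR1.getD (c - 1) [] = Spor.orbSxSextetR.getD c [] ∧ c - 1 < Spor.orbSxSextetR1.length := by decide +kernel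
      by_cases h : c = 0
      · subst h
        exact Or.inl (hk.symm.trans ((congrArg (fun z => k • z) h0).trans k.2))
      · exact Or.inr ⟨c - 1, (hsucc c hc h).2, k, by rw [(hsucc c hc h).1]; exact hk⟩

end Cfsg.Agent.S1552
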