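import Cfsg.Statements.S1553
import Cfsg.Agent.Lib.Spor.GolayStabCount

set_option autoImplicit false
open scoped Pointwise
open Cfsg

namespace Cfsg.Agent.S1553

/-- The stabiliser of an octad in the group of the length-24 code induces on the octad exactly its alternating group. -/
theorem result (o : Finset Cfsg.GolayPt) (ho : o ∈ Cfsg.octads) : {e : Equiv.Perm ↥o | ∃ g : Equiv.Perm Cfsg.GolayPt, g ∈ Cfsg.M24 ∧ ∃ h : (∀ x, g x ∈ o ↔ x ∈ o), g.subtypePerm h = e} = (alternatingGroup ↥o : Set (Equiv.Perm ↥o)) := by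
  rw [← Spor.octRestrict_range ho]
  ext e
  constructor
  · rintro ⟨g, hg, h, rfl⟩
    refine ⟨⟨g, hg, ?_⟩, rfl⟩
    show g • o = o
    ext x
    rw [← Finset.inv_smul_mem_iff]
    have := h (g⁻¹ x)
    rw [show g (g⁻¹ x) = x from g.apply_symm_apply x] at this
    exact this.symm
  · rintro ⟨g, rfl⟩
    have hg : (g : Equiv.Perm GolayPt) • o = o := g.2.2
    exact ⟨g.1, g.2.1, fun x => (Finset.ext_iff.1 hg _).symm.trans (Finset.smul_mem_smul_finset_iff _), rfl⟩

end Cfsg.Agent.S1553
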