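import Cfsg.Statements.S1559
import Cfsg.Agent.Lib.Spor.GolayOrbitFacts
import Cfsg.Agent.Lib.Spor.GolayOrbits

set_option autoImplicit false
open scoped Pointwise
open Cfsg

namespace Cfsg.Agent.S1559

/-- A trio stabiliser has five orbits on the 3795 trios, of sizes 1, 42, 56, 1008, 2688; and the stabiliser is a maximal proper subgroup. -/
theorem result (T : Finset (Finset Cfsg.GolayPt)) (hT : T ∈ Cfsg.trios) : ∃ X₁ ∈ Cfsg.trios, ∃ X₂ ∈ Cfsg.trios, ∃ X₃ ∈ Cfsg.trios, ∃ X₄ ∈ Cfsg.trios, (MulAction.orbit ↥(MulAction.stabilizer Cfsg.M24 T) X₁).ncard = 42 ∧ (MulAction.orbit ↥(MulAction.stabilizer Cfsg.M24 T) X₂).ncard = 56 ∧ (MulAction.orbit ↥(MulAction.stabilizer Cfsg.M24 T) X₃).ncard = 1008 ∧ (MulAction.orbit ↥(MulAction.stabilizer Cfsg.M24 T) X₄).ncard = 2688 ∧ Cfsg.trios = {T} ∪ MulAction.orbit ↥(MulAction.stabilizer Cfsg.M24 T) X₁ ∪ MulAction.orbit ↥(MulAction.stabilizer Cfsg.M24 T) X₂ ∪ MulAction.orbit ↥(MulAction.stabilizer Cfsg.M24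 T) X₃ ∪ MulAction.orbit ↥(MulAction.stabilizer Cfsg.M24 T) X₄ ∧ IsCoatom (MulAction.stabilizer Cfsg.M24 T) := by
  obtain ⟨τ, hτ, rfl⟩ := Spor.exists_base_trio hT
  let σ : M24 := ⟨τ, hτ⟩
  rw [show τ • Spor.confOf Spor.confTr = σ • Spor.confOf Spor.confTr from rfl]
  have h0 : Spor.confOf (Spor.orbTrTrioR.getD 0 []) = Spor.confOf Spor.confTr := by decide +kernel
  have hmem : σ • Spor.confOf Spor.confTr ∈ trios := hT
  obtain ⟨g1, g2, g3⟩ := Spor.orbits_transfer σ (n := 5) (r := (fun c => Spor.confOf (Spor.orbTrTrioR.getD c []))) (fun g T h => Spor.smul_trio g.2 h) Spor.orbTrTrio_orbits.1 Spor.orbTrTrio_orbits.2.1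
  refine ⟨_, (g1 4 (by norm_num)).1, _, (g1 3 (by norm_num)).1, _, (g1 2 (by norm_num)).1, _, (g1 1 (by norm_num)).1, (g1 4 (by norm_num)).2, (g1 3 (by norm_num)).2, (g1 2 (by norm_num)).2, (g1 1 (by norm_num)).2, Set.Subset.antisymm (fun y hy => ?_) ?_, ?_⟩
  · obtain ⟨c, hc, h⟩ := g3 y hy
    interval_cases c
    · left; left; left; left; exact (by
      obtain ⟨k, rfl⟩ := h
      rw [Set.mem_singleton_iff]
      exact (congrArg (fun z => (k : M24) • σ • z) h0).trans k.2)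
    · right; exact h
    · left; right; exact h
    · left; left; right; exact h
    · left; left; left; right; exact h
  · refine Set.union_subset (Set.union_subset (Set.union_subset (Set.union_subset (Set.singleton_subset_iff.2 hmem) (g2 4 (by norm_num))) (g2 3 (by norm_num))) (g2 2 (by norm_num))) (g2 1 (by norm_num))
  · refine Spor.isCoatom_stabilizer_smul σ ?_
    refine Spor.conf_coatom (R := Spor.orbTrTrioR1) (by decide +kernel) Spor.gensTr_ok ?_ ?_ Spor.orbTrTrio_movers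
    · obtain ⟨h1, h2⟩ := Spor.orbTrTrio_orbits.1 1 (by norm_num)
      obtain ⟨ρ, hρ, e⟩ := Spor.exists_base_trio h1
      refine ⟨⟨ρ, hρ⟩, fun h => ?_⟩
      have : Spor.confOf Spor.confTr = Spor.confOf (Spor.orbTrTrioR.getD 1 []) := h.symm.trans e
      revert this
      decide +kernel
    · intro x
      obtain ⟨c, hc, k, hk⟩ := Spor.orbTrTrio_orbits.2.1 _ (Spor.smul_trio x.2 (Spor.trioOk_sound (r := Spor.confTr) (by decide +kernel)))
      have hsucc : ∀ c, c < 5 → c ≠ 0 → Spor.orbTrTrioR1.getD (c - 1) [] = Spor.orbTrTrioR.getD c [] ∧ c - 1 < Spor.orbTrTrioR1.length := by decide +kernel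
      by_cases h : c = 0
      · subst h
        exact Or.inl (hk.symm.trans ((congrArg (fun z => k • z) h0).trans k.2))
      · exact Or.inr ⟨c - 1, (hsucc c hc h).2, k, by rw [(hsucc c hc h).1]; exact hk⟩

end Cfsg.Agent.S1559
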