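import Cfsg.Statements.S1562
import Cfsg.Agent.Lib.Spor.GolaySmallSets

set_option autoImplicit false
open scoped Pointwise
open Cfsg

namespace Cfsg.Agent.S1562

/-- Orbits of a triad stabiliser on the triads disjoint from it: the 210 triads inside a common octad with it form one orbit and the remaining 1120 another. -/
theorem result (T : Finset Cfsg.GolayPt) (hT : T.card = 3) : {U : Finset Cfsg.GolayPt | U.card = 3 ∧ Disjoint T U ∧ (∃ o ∈ Cfsg.octads, T ∪ U ⊆ o)}.ncard = 210 ∧ {U : Finset Cfsg.GolayPt | U.card = 3 ∧ Disjoint T U ∧ ¬ (∃ o ∈ Cfsg.octads, T ∪ U ⊆ o)}.ncard = 1120 ∧ ∀ U U' : Finset Cfsg.GolayPt, U.card = 3 → U'.card = 3 → Disjoint T U → Disjoint T U' → ((∃ o ∈ Cfsg.octads, T ∪ U ⊆ o) ↔ (∃ o ∈ Cfsg.octads, T ∪ U' ⊆ o)) → ∃ g : Equiv.Perm Cfsg.GolayPt, g ∈ Cfsg.M24 ∧ g • T = T ∧ g • U = U' := by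
  obtain ⟨τ, hτ, e⟩ := Spor.exists_map_set (show T.card ≤ 5 by omega)
  rw [hT] at e
  subst e
  let σ : M24 := ⟨τ, hτ⟩
  let inv : Finset GolayPt → ℕ × Bool := fun U =>
    ((τ • Spor.ofMask (2 ^ 3 - 1) ∩ U).card, Spor.inSomeOctad (τ • Spor.ofMask (2 ^ 3 - 1) ∪ U))
  have hinv : ∀ U, inv (σ • U) = Spor.tripleInv U := by
    intro U
    show ((τ • Spor.ofMask (2 ^ 3 - 1) ∩ τ • U).card, Spor.inSomeOctad (τ • Spor.ofMask (2 ^ 3 - 1) ∪ τ • U)) = _
    rw [← Finset.smul_finset_inter, ← Finset.smul_finset_union, Finset.card_smul_finset, Spor.inSomeOctad_smul hτ]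
    rfl
  have hS : ∀ g : M24, ∀ U ∈ {s : Finset GolayPt | s.card = 3}, g • U ∈ {s : Finset GolayPt | s.card = 3} :=
    fun g U hU => (Finset.card_smul_finset g U).trans hU
  obtain ⟨g1, g2, g3⟩ := Spor.orbits_transfer σ hS Spor.triple_orbits.1 Spor.triple_orbits.2.1
  have crit := Spor.criterion_transfer σ hS hinv Spor.triple_orbits.2.2
  have hconf : Spor.confOf Spor.confT3 = {Spor.ofMask (2 ^ 3 - 1)} := rfl
  have hfix : ∀ g : M24, g • σ • Spor.confOf Spor.confT3 = σ • Spor.confOf Spor.confT3 →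
      (g : Equiv.Perm GolayPt) • τ • Spor.ofMask (2 ^ 3 - 1) = τ • Spor.ofMask (2 ^ 3 - 1) := by
    intro g h
    rw [hconf, Finset.smul_finset_singleton, Finset.smul_finset_singleton] at h
    exact Finset.singleton_injective h
  have hrep : ∀ c, c < 5 → 3 ≤ c → Spor.tripleInv (Spor.ofMask ((Spor.orbT3TripleR.getD c []).getD 0 0)) =
      (0, decide (c = 4)) := by decide +kernel
  have key : ∀ c, c < 5 → 3 ≤ c →
      {U : Finset GolayPt | U.card = 3 ∧ inv U = (0, decide (c = 4))} =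
        MulAction.orbit (MulAction.stabilizer M24 (σ • Spor.confOf Spor.confT3))
          (σ • Spor.ofMask ((Spor.orbT3TripleR.getD c []).getD 0 0)) := by
    intro c hc h3c
    apply Set.ext
    intro U
    constructor
    · rintro ⟨hU, hU'⟩
      obtain ⟨k, hk, e⟩ := crit _ (g1 c hc).1 U hU (((hinv _).trans (hrep c hc h3c)).trans hU'.symm)
      exact ⟨⟨k, hk⟩, e⟩
    · rintro ⟨⟨k, hk⟩, rfl⟩
      refine ⟨g2 c hc ⟨⟨k, hk⟩, rfl⟩, ?_⟩
      have hf := hfix k hk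
      set V := τ • Spor.ofMask (2 ^ 3 - 1)
      show ((V ∩ (k : Equiv.Perm GolayPt) • _).card, Spor.inSomeOctad (V ∪ (k : Equiv.Perm GolayPt) • _)) = _
      conv_lhs => rw [← hf, ← Finset.smul_finset_inter, ← Finset.smul_finset_union, Finset.card_smul_finset,
        Spor.inSomeOctad_smul k.2]
      exact (hinv _).trans (hrep c hc h3c)
  have hset : ∀ U : Finset GolayPt, ∀ b : Bool, inv U = (0, b) ↔
      Disjoint (τ • Spor.ofMask (2 ^ 3 - 1)) U ∧
        ((∃ o ∈ octads, τ • Spor.ofMask (2 ^ 3 - 1) ∪ U ⊆ o) ↔ b = true) := by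
    intro U b
    show (_, _) = (0, b) ↔ _
    rw [Prod.mk.injEq, Finset.card_eq_zero, ← Finset.disjoint_iff_inter_eq_empty, ← Spor.inSomeOctad_iff, Bool.eq_iff_iff]
  refine ⟨?_, ?_, fun U U' hU hU' hd hd' h => ?_⟩
  · refine (congrArg Set.ncard ?_).trans (g1 4 (by norm_num)).2
    rw [← key 4 (by norm_num) (by norm_num)]
    ext U
    simp [hset]
  · refine (congrArg Set.ncard ?_).trans (g1 3 (by norm_num)).2
    rw [← key 3 (by norm_num) (by norm_num)]
    ext U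
    simp [hset]
  · obtain ⟨g, hg, e⟩ := crit U hU U' hU' (by
      show (_, _) = (_, _)
      rw [Finset.disjoint_iff_inter_eq_empty.1 hd, Finset.disjoint_iff_inter_eq_empty.1 hd', Prod.mk.injEq,
        Bool.eq_iff_iff, Spor.inSomeOctad_iff, Spor.inSomeOctad_iff]
      exact ⟨rfl, h⟩)
    exact ⟨g, g.2, hfix g hg, e⟩

end Cfsg.Agent.S1562
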