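import Cfsg.Statements.S1587

set_option autoImplicit false
open Matrix
open Cfsg Matrix

namespace Cfsg.Agent.S1587

/-- First step of the characterisation of the rank-24 lattice: in an even lattice without roots, norm-8 vectors congruent modulo 2 are equal, opposite or orthogonal. -/
theorem result (B : Matrix (Fin 24) (Fin 24) ℤ) (hsymm : B.IsSymm) (hpos : ∀ x : Fin 24 → ℤ, x ≠ 0 → 0 < x ⬝ᵥ (B *ᵥ x)) (heven : ∀ x : Fin 24 → ℤ, (2 : ℤ) ∣ x ⬝ᵥ (B *ᵥ x)) (h2 : ∀ x : Fin 24 → ℤ, x ⬝ᵥ (B *ᵥ x) ≠ 2) (x y : Fin 24 → ℤ) (hx : x ⬝ᵥ (B *ᵥ x) = 8) (hy : y ⬝ᵥ (B *ᵥ y) = 8) (hc : ∀ i, (2 : ℤ) ∣ (x - y) i) : y = x ∨ y = -x ∨ x ⬝ᵥ (B *ᵥ y) = 0 := by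
  obtain ⟨z, hz⟩ : ∃ z : Fin 24 → ℤ, x - y = (2 : ℤ) • z :=
    ⟨fun i => (x - y) i / 2, funext fun i => by
      simp only [Pi.smul_apply, smul_eq_mul]; exact (Int.mul_ediv_cancel' (hc i)).symm⟩
  have hz' : x + y = (2 : ℤ) • (x - z) := funext fun i => by
    have := congrFun hz i
    simp only [Pi.sub_apply, Pi.smul_apply, smul_eq_mul, Pi.add_apply] at this ⊢
    linarith
  by_cases h1 : z = 0
  · left; rw [h1, smul_zero, sub_eq_zero] at hz; exact hz.symm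
  by_cases h2' : x - z = 0
  · right; left; rw [h2', smul_zero] at hz'; exact eq_neg_of_add_eq_zero_right hz'
  right; right
  have hxy : y ⬝ᵥ (B *ᵥ x) = x ⬝ᵥ (B *ᵥ y) := by
    rw [Matrix.dotProduct_mulVec, ← Matrix.mulVec_transpose, hsymm, dotProduct_comm]
  have e1 := congrArg (fun v : Fin 24 → ℤ => v ⬝ᵥ (B *ᵥ v)) hz
  have e2 := congrArg (fun v : Fin 24 → ℤ => v ⬝ᵥ (B *ᵥ v)) hz'
  simp only [Matrix.mulVec_sub, Matrix.mulVec_add, sub_dotProduct, add_dotProduct, dotProduct_sub,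
    dotProduct_add, Matrix.mulVec_smul, smul_dotProduct, dotProduct_smul, smul_eq_mul] at e1 e2
  have n1 : 4 ≤ z ⬝ᵥ (B *ᵥ z) := by
    have := hpos z h1; have := heven z; have := h2 z; omega
  have n2 : 4 ≤ (x - z) ⬝ᵥ (B *ᵥ (x - z)) := by
    have := hpos _ h2'; have := heven (x - z); have := h2 (x - z); omega
  simp only [Matrix.mulVec_sub, sub_dotProduct, dotProduct_sub] at n2
  linarith

end Cfsg.Agent.S1587
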