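import Cfsg.Statements.S1589
import Cfsg.Agent.Lib.Spor.MathieuIndex

set_option autoImplicit false
open scoped Pointwise
open Cfsg Cfsg.Agent.Spor.MathieuIdx

namespace Cfsg.Agent.S1589

/-- Subgroups of the group of the length-24 code of index 759, 276 and 1771 are exactly the octad, duad and sextet stabilisers, and no subgroup has index 253. -/
theorem result : (∀ H : Subgroup ↥Cfsg.M24, H.index = 759 → ∃ o ∈ Cfsg.octads, H = MulAction.stabilizer Cfsg.M24 o) ∧ (∀ H : Subgroup ↥Cfsg.M24, H.index = 276 → ∃ s : Finset Cfsg.GolayPt, s.card = 2 ∧ H = MulAction.stabilizer Cfsg.M24 s) ∧ (∀ H : Subgroup ↥Cfsg.M24, H.index = 1771 → ∃ S ∈ Cfsg.sextets, H = MulAction.stabilizer Cfsg.M24 S) ∧ ∀ H : Subgroup ↥Cfsg.M24, H.index ≠ 253 := by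
  refine ⟨fun H h => ?_, fun H h => index_276 (m24_index h (by norm_num)), fun H h => ?_, fun H h => ?_⟩
  · rcases index_large (idx := 759) (n := 322560) (by decide) (m24_index h (by norm_num)) with ⟨-, e⟩ | ⟨e, -⟩
    · exact e
    · omega
  · rcases index_large (idx := 1771) (n := 138240) (by decide) (m24_index h (by norm_num)) with ⟨e, -⟩ | ⟨-, e⟩
    · omega
    · exact e
  · rcases index_large (idx := 253) (n := 967680) (by decide) (m24_index h (by norm_num)) with ⟨e, -⟩ | ⟨e, -⟩ <;>
      omega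

end Cfsg.Agent.S1589
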