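import Cfsg.Statements.S1590
import Cfsg.Agent.Lib.Spor.TernaryGolay

set_option autoImplicit false
open Cfsg

namespace Cfsg.Agent.S1590

/-- The length-12 ternary code has 729 words with weight distribution 0^1 6^264 9^440 12^24. -/
theorem result : Nat.card ↥Cfsg.ternaryGolayCode = 729 ∧ (∀ x ∈ Cfsg.ternaryGolayCode, x ≠ 0 → (Cfsg.ternarySupport x).card = 6 ∨ (Cfsg.ternarySupport x).card = 9 ∨ (Cfsg.ternarySupport x).card = 12) ∧ {x : Cfsg.ArrayPt → ZMod 3 | x ∈ Cfsg.ternaryGolayCode ∧ (Cfsg.ternarySupport x).card = 6}.ncard = 264 ∧ {x : Cfsg.ArrayPt → ZMod 3 | x ∈ Cfsg.ternaryGolayCode ∧ (Cfsg.ternarySupport x).card = 9}.ncard = 440 ∧ {x : Cfsg.ArrayPt → ZMod 3 | x ∈ Cfsg.ternaryGolayCode ∧ (Cfsg.ternarySupport x).card = 12}.ncard = 24 := by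
  refine ⟨Cfsg.Agent.Spor.card_ternary, fun x hx hne => ?_, ?_, ?_, ?_⟩
  · rw [← Cfsg.Agent.Spor.tweight_enc]
    rcases Cfsg.Agent.Spor.tWords_weights.1 _ (Cfsg.Agent.Spor.enc_mem.2 hx) with h | h
    · exact absurd (Cfsg.Agent.Spor.enc_injective (h.trans Cfsg.Agent.Spor.enc_zero.symm)) hne
    · exact h
  · rw [Cfsg.Agent.Spor.ncard_weight]; exact Cfsg.Agent.Spor.tWords_weights.2.1
  · rw [Cfsg.Agent.Spor.ncard_weight]; exact Cfsg.Agent.Spor.tWords_weights.2.2.1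
  · rw [Cfsg.Agent.Spor.ncard_weight]; exact Cfsg.Agent.Spor.tWords_weights.2.2.2


end Cfsg.Agent.S1590
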