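import Cfsg.Statements.S1595
import Cfsg.Agent.Lib.Spor.SteinerCount

set_option autoImplicit false
open Cfsg

namespace Cfsg.Agent.S1595

/-- Leech triangle of S(5, 6, 12): blocks meet in 0, 2, 3 or 4 points, and a block is met exactly in a given 2-, 3- or 4-subset by 3, 2, 3 blocks respectively. -/
theorem result {α : Type*} [Fintype α] [DecidableEq α] (hα : Fintype.card α = 12) {B : Set (Finset α)} (hB : Cfsg.IsSteinerSystem 5 6 B) (b : Finset α) (hb : b ∈ B) : (∀ c ∈ B, c ≠ b → (b ∩ c).card = 0 ∨ (b ∩ c).card = 2 ∨ (b ∩ c).card = 3 ∨ (b ∩ c).card = 4) ∧ ∀ s ⊆ b, (s.card = 2 → {c : Finset α | c ∈ B ∧ b ∩ c = s}.ncard = 3) ∧ (s.card = 3 → {c : Finset α | c ∈ B ∧ b ∩ c = s}.ncard = 2) ∧ (s.card = 4 → {c : Finset α | c ∈ B ∧ b ∩ c = s}.ncard = 3) := by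
  obtain ⟨F, rfl⟩ := Spor.Steiner.exists_finset B
  refine ⟨fun c hc hne => ?_, fun s hs => ?_⟩
  · obtain ⟨-, h1⟩ := Spor.Steiner.five_six hα hB hb
    rw [Finset.card_eq_zero, Finset.filter_eq_empty_iff] at h1
    have := h1 hc
    have : (b ∩ c).card < 5 := Nat.lt_of_not_le fun h => hne (Spor.Steiner.block_eq hB hb hc h).symm
    omega
  · simp only [Spor.Steiner.ncard_sep]
    exact Spor.Steiner.five_six_inside hα hB hb hs


end Cfsg.Agent.S1595
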