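import Cfsg.Statements.S1599
import Cfsg.Agent.Lib.Spor.QuartetOrbits

set_option autoImplicit false
open scoped Pointwise
open Cfsg

namespace Cfsg.Agent.S1599

/-- A quartet stabiliser has five orbits on the quartets of its dodecad, of sizes 1, 12, 27, 72, 108. -/
theorem result (d : Finset Cfsg.GolayPt) (hd : d ∈ Cfsg.dodecads) (Q : Finset (Finset Cfsg.GolayPt)) (hQ : Q ∈ Cfsg.quartets d) : ∃ X₁ ∈ Cfsg.quartets d, ∃ X₂ ∈ Cfsg.quartets d, ∃ X₃ ∈ Cfsg.quartets d, ∃ X₄ ∈ Cfsg.quartets d, (MulAction.orbit ↥(MulAction.stabilizer Cfsg.M24 d ⊓ MulAction.stabilizer Cfsg.M24 Q) X₁).ncard = 12 ∧ (MulAction.orbit ↥(MulAction.stabilizer Cfsg.M24 d ⊓ MulAction.stabilizer Cfsg.M24 Q) X₂).ncard = 27 ∧ (MulAction.orbit ↥(MulAction.stabilizer Cfsg.M24 d ⊓ MulAction.stabilizer Cfsg.M24 Q) X₃).ncard = 72 ∧ (MulAction.orbit ↥(MulAction.stabilizer Cfsg.M24 d ⊓ MulAction.stabilizer Cfsg.M24 Q) X₄).ncard =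 108 ∧ Cfsg.quartets d = {Q} ∪ MulAction.orbit ↥(MulAction.stabilizer Cfsg.M24 d ⊓ MulAction.stabilizer Cfsg.M24 Q) X₁ ∪ MulAction.orbit ↥(MulAction.stabilizer Cfsg.M24 d ⊓ MulAction.stabilizer Cfsg.M24 Q) X₂ ∪ MulAction.orbit ↥(MulAction.stabilizer Cfsg.M24 d ⊓ MulAction.stabilizer Cfsg.M24 Q) X₃ ∪ MulAction.orbit ↥(MulAction.stabilizer Cfsg.M24 d ⊓ MulAction.stabilizer Cfsg.M24 Q) X₄ := by
  obtain ⟨r, r0, hr, hall⟩ := Cfsg.Agent.Spor.Quartet.stabilizer_orbits hd hQ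
  refine ⟨r 1, (hr 1 (by norm_num)).1, r 2, (hr 2 (by norm_num)).1, r 3, (hr 3 (by norm_num)).1, r 4, (hr 4 (by norm_num)).1,
    (hr 1 (by norm_num)).2.1, (hr 2 (by norm_num)).2.1, (hr 3 (by norm_num)).2.1, (hr 4 (by norm_num)).2.1, ?_⟩
  ext X
  simp only [Set.mem_union, Set.mem_singleton_iff]
  constructor
  · intro hX
    obtain ⟨c, hc, h⟩ := hall X hX
    interval_cases c
    · obtain ⟨g, rfl⟩ := h
      left; left; left; left
      show g • r 0 = Q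
      rw [r0]
      exact g.2.2
    · exact Or.inl (Or.inl (Or.inl (Or.inr h)))
    · exact Or.inl (Or.inl (Or.inr h))
    · exact Or.inl (Or.inr h)
    · exact Or.inr h
  · rintro ((((rfl | h) | h) | h) | h)
    · exact hQ
    · exact (hr 1 (by norm_num)).2.2 h
    · exact (hr 2 (by norm_num)).2.2 h
    · exact (hr 3 (by norm_num)).2.2 h
    · exact (hr 4 (by norm_num)).2.2 h


end Cfsg.Agent.S1599
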