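import Cfsg.Statements.S1600
import Cfsg.Agent.Lib.Spor.GolaySmallCerts
import Cfsg.Agent.Lib.Spor.GolayDodecad

set_option autoImplicit false
open scoped Pointwise
open Cfsg

namespace Cfsg.Agent.S1600

theorem vec5_injective {α : Type*} {a b c u v : α} (ab : a ≠ b) (ac : a ≠ c) (au : a ≠ u) (av : a ≠ v)
    (bc : b ≠ c) (bu : b ≠ u) (bv : b ≠ v) (cu : c ≠ u) (cv : c ≠ v) (uv : u ≠ v) :
    Function.Injective ![a, b, c, u, v] := by
  intro i j h
  fin_cases i <;> fin_cases j <;> simp at h <;> first | rfl | simp_all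

theorem vec2_injective {α : Type*} {a b : α} (ab : a ≠ b) : Function.Injective ![a, b] := by
  intro i j h
  fin_cases i <;> fin_cases j <;> simp at h <;> first | rfl | simp_all

open scoped Pointwise

/-- The pointwise stabiliser of three points of a dodecad inside the dodecad stabiliser (order 72) is transitive on the complementary dodecad. -/
theorem result (d : Finset Cfsg.GolayPt) (hd : d ∈ Cfsg.dodecads) (p q r : Cfsg.GolayPt) (hp : p ∈ d) (hq : q ∈ d) (hr : r ∈ d) (hpq : p ≠ q) (hpr : p ≠ r) (hqr : q ≠ r) : Nat.card ↥(MulAction.stabilizer Cfsg.M24 d ⊓ MulAction.stabilizer Cfsg.M24 p ⊓ MulAction.stabilizer Cfsg.M24 q ⊓ MulAction.stabilizer Cfsg.M24 r) = 72 ∧ ∀ x ∉ d, ∀ y ∉ d, ∃ g ∈ (MulAction.stabilizer Cfsg.M24 d ⊓ MulAction.stabilizer Cfsg.M24 p ⊓ MulAction.stabilizer Cfsg.M24 q ⊓ MulAction.stabilizer Cfsg.M24 r), ((g : ↥Cfsg.M24) : Equiv.Perm Cfsg.GolayPt) x = y := by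
  classical
  set S := MulAction.stabilizer M24 d with hS
  set H := MulAction.stabilizer M24 d ⊓ MulAction.stabilizer M24 p ⊓ MulAction.stabilizer M24 q ⊓ MulAction.stabilizer M24 r
  have htriple : ({p, q, r} : Finset GolayPt).card = 3 := Finset.card_eq_three.2 ⟨p, q, r, hpq, hpr, hqr, rfl⟩
  have hsub : ({p, q, r} : Finset GolayPt) ⊆ d := by
    intro z hz
    simp only [Finset.mem_insert, Finset.mem_singleton] at hz
    rcases hz with rfl | rfl | rfl
    exacts [hp, hq, hr]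
  set e := d \ {p, q, r} with he
  have hec : e.card = 9 := by rw [he, Finset.card_sdiff_of_subset hsub, hd.2, htriple]
  have hmem : ∀ (g : H) (z : GolayPt), z ∈ e → ((g : M24) : Equiv.Perm GolayPt) z ∈ e := by
    intro g z hz
    obtain ⟨⟨⟨hgd, hgp⟩, hgq⟩, hgr⟩ := g.2
    have hgd' : ((g : M24) : Equiv.Perm GolayPt) • d = d := hgd
    have hgp' : ((g : M24) : Equiv.Perm GolayPt) p = p := hgp
    have hgq' : ((g : M24) : Equiv.Perm GolayPt) q = q := hgq
    have hgr' : ((g : M24) : Equiv.Perm GolayPt) r = r := hgr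
    simp only [he, Finset.mem_sdiff, Finset.mem_insert, Finset.mem_singleton, not_or] at hz ⊢
    refine ⟨?_, fun h => hz.2.1 ?_, fun h => hz.2.2.1 ?_, fun h => hz.2.2.2 ?_⟩
    · rw [← hgd']; exact Finset.smul_mem_smul_finset hz.1
    · exact ((g : M24) : Equiv.Perm GolayPt).injective (h.trans hgp'.symm)
    · exact ((g : M24) : Equiv.Perm GolayPt).injective (h.trans hgq'.symm)
    · exact ((g : M24) : Equiv.Perm GolayPt).injective (h.trans hgr'.symm)
  obtain ⟨s, hs, t, ht, hst⟩ := Finset.one_lt_card.1 (show 1 < e.card by omega)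
  have five : ∀ u v : GolayPt, u ∈ e → v ∈ e → u ≠ v → ∃ x : Fin 5 ↪ GolayPt,
      (∀ i, x i ∈ d) ∧ x 0 = p ∧ x 1 = q ∧ x 2 = r ∧ x 3 = u ∧ x 4 = v := by
    intro u v hu hv huv
    simp only [he, Finset.mem_sdiff, Finset.mem_insert, Finset.mem_singleton, not_or] at hu hv
    refine ⟨⟨![p, q, r, u, v], vec5_injective hpq hpr (Ne.symm hu.2.1) (Ne.symm hv.2.1) hqr (Ne.symm hu.2.2.1)
      (Ne.symm hv.2.2.1) (Ne.symm hu.2.2.2) (Ne.symm hv.2.2.2) huv⟩, ?_, rfl, rfl, rfl, rfl, rfl⟩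
    · intro i
      fin_cases i <;> simp [hp, hq, hr, hu.1, hv.1]
  let φ : H → (Fin 2 ↪ e) := fun g => ⟨![⟨_, hmem g s hs⟩, ⟨_, hmem g t ht⟩],
    vec2_injective fun h => hst (Equiv.injective _ (congrArg Subtype.val h))⟩
  have hbij : Function.Bijective φ := by
    constructor
    · intro a b h
      have h0 := congrArg Subtype.val (DFunLike.congr_fun h 0)
      have h1 := congrArg Subtype.val (DFunLike.congr_fun h 1)
      obtain ⟨x, hx, x0, x1, x2, x3, x4⟩ := five s t hs ht hst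
      obtain ⟨g, -, huniq⟩ := Spor.dodecad_five_trans hd x
        ⟨fun i => ((a : M24) : Equiv.Perm GolayPt) (x i), fun i j h => x.injective (Equiv.injective _ h)⟩ hx
        (fun i => by
          have h : ((a : M24) : Equiv.Perm GolayPt) • d = d := a.2.1.1.1
          show ((a : M24) : Equiv.Perm GolayPt) (x i) ∈ d
          rw [← h]; exact Finset.smul_mem_smul_finset (hx i))
      have ha := huniq ⟨a.1, a.2.1.1.1⟩ fun i => rfl
      have hb := huniq ⟨b.1, b.2.1.1.1⟩ fun i => by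
        fin_cases i
        · show ((b : M24) : Equiv.Perm GolayPt) (x 0) = ((a : M24) : Equiv.Perm GolayPt) (x 0)
          rw [x0]; exact b.2.1.1.2.trans a.2.1.1.2.symm
        · show ((b : M24) : Equiv.Perm GolayPt) (x 1) = ((a : M24) : Equiv.Perm GolayPt) (x 1)
          rw [x1]; exact b.2.1.2.trans a.2.1.2.symm
        · show ((b : M24) : Equiv.Perm GolayPt) (x 2) = ((a : M24) : Equiv.Perm GolayPt) (x 2)
          rw [x2]; exact b.2.2.trans a.2.2.symm
        · show ((b : M24) : Equiv.Perm GolayPt) (x 3) = ((a : M24) : Equiv.Perm GolayPt) (x 3)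
          rw [x3]; exact h0.symm
        · show ((b : M24) : Equiv.Perm GolayPt) (x 4) = ((a : M24) : Equiv.Perm GolayPt) (x 4)
          rw [x4]; exact h1.symm
      exact Subtype.ext (congrArg (fun z : S => (z : M24)) (ha.trans hb.symm) :)
    · intro y
      obtain ⟨x, hx, x0, x1, x2, x3, x4⟩ := five s t hs ht hst
      obtain ⟨z, hz, z0, z1, z2, z3, z4⟩ := five (y 0) (y 1) (y 0).2 (y 1).2
        (fun h => absurd (y.injective (Subtype.ext h)) (by decide))
      obtain ⟨g, hg, -⟩ := Spor.dodecad_five_trans hd x z hx hz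
      refine ⟨⟨g.1, ⟨⟨g.2, ?_⟩, ?_⟩, ?_⟩, ?_⟩
      · have := hg 0; rw [x0, z0] at this; exact this
      · have := hg 1; rw [x1, z1] at this; exact this
      · have := hg 2; rw [x2, z2] at this; exact this
      · refine DFunLike.ext _ _ fun i => Subtype.ext ?_
        fin_cases i
        · show ((g : M24) : Equiv.Perm GolayPt) s = _
          rw [← x3, hg 3, z3]; rfl
        · show ((g : M24) : Equiv.Perm GolayPt) t = _
          rw [← x4, hg 4, z4]; rfl
  refine ⟨?_, fun x hx y hy => ?_⟩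
  · rw [Nat.card_eq_of_bijective φ hbij, Nat.card_eq_fintype_card, Fintype.card_embedding_eq, Fintype.card_coe,
      hec, Fintype.card_fin]
    rfl
  -- move the standard configuration to the given one
  have hb3 : ∀ i : Fin 3, Spor.pt i ∈ Spor.ofMask Spor.baseDod := by decide +kernel
  obtain ⟨σ, hσ, rfl⟩ := Spor.exists_base_dodecad hd
  have mk5 : ∀ (D : Finset GolayPt) (a b c : GolayPt), D ∈ dodecads → a ∈ D → b ∈ D → c ∈ D → a ≠ b → a ≠ c → b ≠ c →
      ∃ z : Fin 5 ↪ GolayPt, (∀ i, z i ∈ D) ∧ z 0 = a ∧ z 1 = b ∧ z 2 = c := by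
    intro D a b c hD ha hb hc hab hac hbc
    have h9 : 1 < (D \ {a, b, c}).card := by
      have h12 := hD.2
      have h1 := Finset.card_le_card_sdiff_add_card (s := D) (t := {a, b, c})
      have h3 : ({a, b, c} : Finset GolayPt).card ≤ 3 := Finset.card_le_three
      omega
    obtain ⟨u, hu, v, hv, huv⟩ := Finset.one_lt_card.1 h9
    simp only [Finset.mem_sdiff, Finset.mem_insert, Finset.mem_singleton, not_or] at hu hv
    refine ⟨⟨![a, b, c, u, v], vec5_injective hab hac (Ne.symm hu.2.1) (Ne.symm hv.2.1) hbc (Ne.symm hu.2.2.1)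
      (Ne.symm hv.2.2.1) (Ne.symm hu.2.2.2) (Ne.symm hv.2.2.2) huv⟩, fun i => ?_, rfl, rfl, rfl⟩
    fin_cases i <;> simp [ha, hb, hc, hu.1, hv.1]
  obtain ⟨z, hz, z0, z1, z2⟩ := mk5 _ (σ (Spor.pt 0)) (σ (Spor.pt 1)) (σ (Spor.pt 2)) hd
    (Finset.smul_mem_smul_finset (hb3 0)) (Finset.smul_mem_smul_finset (hb3 1)) (Finset.smul_mem_smul_finset (hb3 2))
    (σ.injective.ne (by decide +kernel)) (σ.injective.ne (by decide +kernel)) (σ.injective.ne (by decide +kernel))
  obtain ⟨w, hw, w0, w1, w2⟩ := mk5 _ p q r hd hp hq hr hpq hpr hqr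
  obtain ⟨g, hg, -⟩ := Spor.dodecad_five_trans hd z w hz hw
  set τ := ((g : M24) : Equiv.Perm GolayPt) * σ with hτ
  have hτM : τ ∈ M24 := mul_mem (g : M24).2 hσ
  have hτd : τ • Spor.ofMask Spor.baseDod = σ • Spor.ofMask Spor.baseDod := by rw [hτ, mul_smul]; exact g.2
  have hτ0 : τ (Spor.pt 0) = p := by rw [hτ, Equiv.Perm.mul_apply, ← z0, hg 0, w0]
  have hτ1 : τ (Spor.pt 1) = q := by rw [hτ, Equiv.Perm.mul_apply, ← z1, hg 1, w1]
  have hτ2 : τ (Spor.pt 2) = r := by rw [hτ, Equiv.Perm.mul_apply, ← z2, hg 2, w2]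
  have hkeys : ∀ s : Finset GolayPt, s ∈ {s : Finset GolayPt | s.card = 1 ∧ Disjoint s (Spor.ofMask Spor.baseDod)} ↔
      Spor.mask s ∈ Spor.tupDpqrKeys := by
    intro s
    constructor
    · rintro ⟨h1, h2⟩
      obtain ⟨a, rfl⟩ := Finset.card_eq_one.1 h1
      rw [Finset.disjoint_singleton_left] at h2
      revert h2
      revert a
      decide +kernel
    · intro h
      rw [← Spor.ofMask_mask s]
      revert h
      generalize Spor.mask s = m
      intro h
      revert h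
      have : ∀ m ∈ Spor.tupDpqrKeys, (Spor.ofMask m).card = 1 ∧ Disjoint (Spor.ofMask m) (Spor.ofMask Spor.baseDod) := by
        decide +kernel
      exact fun h => this m h
  -- representatives reach every outside point
  have reach : ∀ a : GolayPt, a ∉ Spor.ofMask Spor.baseDod → ∃ k ∈ Spor.tupStab Spor.tupDpqrA,
      k • Spor.ofMask (Spor.tupDpqrKeys.getD 0 0) = {a} := by
    intro a ha
    have hcert := Spor.tupDpqr_cover
    simp only [Spor.tupCert, Bool.and_eq_true, Bool.not_eq_true', List.isEmpty_eq_false_iff, List.all_eq_true,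
      decide_eq_true_eq, beq_iff_eq] at hcert
    obtain ⟨⟨⟨hne, hgs⟩, -⟩, hc⟩ := hcert
    have hl : ∀ g ∈ Spor.tupDpqrG, Spor.lok g = true := fun g hgm => by
      have := (hgs g hgm).1; simp only [Spor.m24ok, Bool.and_eq_true] at this; exact this.1
    have hgens : Spor.GensIn (Spor.tupStab Spor.tupDpqrA) Spor.tupDpqrG := by
      refine ⟨hne, List.all_eq_true.2 hl, fun g hgm => ⟨⟨Spor.lperm g, Spor.lperm_mem (hgs g hgm).1⟩, ?_, rfl⟩⟩
      exact Spor.mem_tupStab.2 fun m hm => Spor.ofMask_eq_smul (hl g hgm) ((hgs g hgm).2 m hm).1 ((hgs g hgm).2 m hm).2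
    have hk : (Spor.mask ({a} : Finset GolayPt), 0) ∈ Spor.tupDpqrKeys.zip (List.replicate 12 0) := by
      revert ha; revert a; decide +kernel
    obtain ⟨k, f, hf, ht⟩ := Spor.coverK_sound hgens hc hk
    refine ⟨k, k.2, Spor.mask_injective ?_⟩
    refine (hf _).trans ?_
    rw [Spor.keyTest, beq_iff_eq] at ht
    simp only [Nat.zero_div, Nat.zero_mod, List.getD_cons_zero] at ht
    rw [Spor.mask_ofMask (by decide +kernel)]
    exact ht
  have hout : ∀ a, a ∉ σ • Spor.ofMask Spor.baseDod → τ⁻¹ a ∉ Spor.ofMask Spor.baseDod := fun a ha h =>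
    ha (by rw [← hτd]; simpa using Finset.smul_mem_smul_finset (a := τ) h)
  obtain ⟨k, hk, ek⟩ := reach _ (hout x hx)
  obtain ⟨l, hl, el⟩ := reach _ (hout y hy)
  set m : Equiv.Perm GolayPt := τ * (((l : M24) : Equiv.Perm GolayPt) * ((k : M24) : Equiv.Perm GolayPt)⁻¹) * τ⁻¹
  have hfix : ∀ u ∈ Spor.tupDpqrA, (((l : M24) : Equiv.Perm GolayPt) * ((k : M24) : Equiv.Perm GolayPt)⁻¹) • Spor.ofMask u = Spor.ofMask u := by
    intro u hu
    exact Spor.mem_tupStab.1 (mul_mem hl (inv_mem hk)) u hu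
  have hpt : ∀ i, i < 3 → (((l : M24) : Equiv.Perm GolayPt) * ((k : M24) : Equiv.Perm GolayPt)⁻¹) (Spor.pt i) = Spor.pt i := by
    intro i hi
    have h := hfix (2 ^ i) (by revert i; decide +kernel)
    have e : ∀ j, j < 3 → Spor.ofMask (2 ^ j) = {Spor.pt j} := by decide +kernel
    rw [e i hi, Finset.smul_finset_singleton] at h
    exact Finset.singleton_injective h
  have hpts : ∀ i, i < 3 → m (τ (Spor.pt i)) = τ (Spor.pt i) := by
    intro i hi
    show τ ((((l : M24) : Equiv.Perm GolayPt) * ((k : M24) : Equiv.Perm GolayPt)⁻¹) (τ.symm (τ (Spor.pt i)))) = _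
    rw [Equiv.symm_apply_apply, hpt i hi]
  refine ⟨⟨m, mul_mem (mul_mem hτM (mul_mem l.2 (inv_mem k.2))) (inv_mem hτM)⟩, ⟨⟨⟨?_, ?_⟩, ?_⟩, ?_⟩, ?_⟩
  · show m • σ • Spor.ofMask Spor.baseDod = σ • Spor.ofMask Spor.baseDod
    rw [← hτd, mul_smul, inv_smul_smul, mul_smul,
      show Spor.ofMask Spor.baseDod = Spor.ofMask 165759 from rfl, hfix 165759 (by decide)]
  · show m p = p
    rw [← hτ0]; exact hpts 0 (by norm_num)
  · show m q = q
    rw [← hτ1]; exact hpts 1 (by norm_num)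
  · show m r = r
    rw [← hτ2]; exact hpts 2 (by norm_num)
  · show m x = y
    have h1 : ((k : M24) : Equiv.Perm GolayPt) • Spor.ofMask (Spor.tupDpqrKeys.getD 0 0) = {τ⁻¹ x} := ek
    have h2 : ((l : M24) : Equiv.Perm GolayPt) • Spor.ofMask (Spor.tupDpqrKeys.getD 0 0) = {τ⁻¹ y} := el
    have h3 : m • ({x} : Finset GolayPt) = {y} := by
      have e1 : τ⁻¹ • ({x} : Finset GolayPt) = ((k : M24) : Equiv.Perm GolayPt) • Spor.ofMask (Spor.tupDpqrKeys.getD 0 0) := by
        rw [h1, Finset.smul_finset_singleton]; rfl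
      show (τ * (((l : M24) : Equiv.Perm GolayPt) * ((k : M24) : Equiv.Perm GolayPt)⁻¹) * τ⁻¹) • ({x} : Finset GolayPt) = {y}
      rw [mul_smul (τ * _) τ⁻¹, e1, mul_smul τ, mul_smul ((l : M24) : Equiv.Perm GolayPt), inv_smul_smul, h2,
        Finset.smul_finset_singleton, Equiv.Perm.smul_def]
      exact congrArg (fun z => ({z} : Finset GolayPt)) (τ.apply_symm_apply y)
    rw [Finset.smul_finset_singleton] at h3
    exact Finset.singleton_injective h3

end Cfsg.Agent.S1600
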