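import Cfsg.Statements.S1601
import Cfsg.Agent.Lib.Spor.M11Iso

set_option autoImplicit false
open scoped Pointwise
open Cfsg

namespace Cfsg.Agent.S1601

/-- In the 3-transitive action of the smallest Mathieu group on the complementary dodecad, a point stabiliser is isomorphic to PSL(2, 11). -/
theorem result (d : Finset Cfsg.GolayPt) (hd : d ∈ Cfsg.dodecads) (p q : Cfsg.GolayPt) (hp : p ∈ d) (hq : q ∉ d) : Nonempty (↥(MulAction.stabilizer Cfsg.M24 d ⊓ MulAction.stabilizer Cfsg.M24 p ⊓ MulAction.stabilizer Cfsg.M24 q) ≃* Matrix.ProjectiveSpecialLinearGroup (Fin 2) (ZMod 11)) := by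
  obtain ⟨q', hq', hne⟩ := Finset.exists_mem_ne (show 1 < (Finset.univ \ d).card by
    rw [Finset.card_sdiff_of_subset (Finset.subset_univ d), Finset.card_univ, hd.2]; decide) q
  obtain ⟨σ, ed, ep, eq, -⟩ := Agent.Spor.M11Local.exists_frame hd hp hq (Finset.mem_sdiff.1 hq').2 hne.symm
  have h := Agent.Spor.M11Local.move_iso ed ep 128 Agent.Spor.M11Local.psl_base
  have e : σ • Agent.Spor.ofMask 128 = ({q} : Finset GolayPt) := by
    rw [Agent.Spor.M11Local.single_mask.1, Finset.smul_finset_singleton]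
    exact congrArg _ eq
  rw [e, Agent.Spor.M11Local.stab_singleton] at h
  exact h


end Cfsg.Agent.S1601
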