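import Cfsg.Statements.S1602
import Cfsg.Agent.Lib.Spor.M11Iso

set_option autoImplicit false
open scoped Pointwise
open Cfsg

namespace Cfsg.Agent.S1602

/-- In the 12-point action of the smallest Mathieu group the setwise stabiliser of a pair is isomorphic to the symmetric group of degree 5. -/
theorem result (d : Finset Cfsg.GolayPt) (hd : d ∈ Cfsg.dodecads) (p q q' : Cfsg.GolayPt) (hp : p ∈ d) (hq : q ∉ d) (hq' : q' ∉ d) (hqq' : q ≠ q') : Nonempty (↥(MulAction.stabilizer Cfsg.M24 d ⊓ MulAction.stabilizer Cfsg.M24 p ⊓ MulAction.stabilizer Cfsg.M24 ({q, q'} : Finset Cfsg.GolayPt)) ≃* Equiv.Perm (Fin 5)) := by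
  obtain ⟨σ, ed, ep, eq, eq'⟩ := Agent.Spor.M11Local.exists_frame hd hp hq hq' hqq'
  have h := Agent.Spor.M11Local.move_iso ed ep (128 + 2048) Agent.Spor.M11Local.sym_base
  have e : σ • Agent.Spor.ofMask (128 + 2048) = ({q, q'} : Finset GolayPt) := by
    rw [Agent.Spor.M11Local.single_mask.2.1, Finset.smul_finset_insert, Finset.smul_finset_singleton]
    exact congrArg₂ (fun a b => ({a, b} : Finset GolayPt)) eq eq'
  rw [e] at h
  exact h


end Cfsg.Agent.S1602
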