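import Cfsg.Statements.S1604
import Cfsg.Agent.Lib.Spor.GolayTupleFacts

set_option autoImplicit false
open scoped Pointwise
open Cfsg

namespace Cfsg.Agent.S1604

open scoped Pointwise

/-- A hexad stabiliser in the two-point stabiliser has orbits of sizes 1, 16, 60 on the 77 hexads: the 16 hexads disjoint from it and the 60 meeting it in two points. -/
theorem result (p q : Cfsg.GolayPt) (hpq : p ≠ q) (o o' o'' : Finset Cfsg.GolayPt) (ho : o ∈ Cfsg.octads) (ho' : o' ∈ Cfsg.octads) (ho'' : o'' ∈ Cfsg.octads) (hp : p ∈ o ∧ p ∈ o' ∧ p ∈ o'') (hq : q ∈ o ∧ q ∈ o' ∧ q ∈ o'') (h : (o ∩ o').card = (o ∩ o'').card) : {x : Finset Cfsg.GolayPt | x ∈ Cfsg.octads ∧ p ∈ x ∧ q ∈ x ∧ (o ∩ x).card = 2}.ncard = 16 ∧ {x : Finset Cfsg.GolayPt | x ∈ Cfsg.octads ∧ p ∈ x ∧ q ∈ x ∧ (o ∩ x).card = 4}.ncard = 60 ∧ ∃ g : Equiv.Perm Cfsg.GolayPt, g ∈ Cfsg.M24 ∧ g p = p ∧ g q = q ∧ g • o = o ∧ g • o' = o'' := by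
  obtain ⟨σ₁, hσ₁, ep, eq⟩ := Spor.exists_map_points hpq
  obtain ⟨τ, hτ, hτfix, hτ'⟩ := Spor.tupP2Oct_classes (Spor.ofMask 5279) (by rw [Spor.mem_octads, Spor.mask_ofMask (by norm_num)]; decide +kernel)
    (σ₁⁻¹ • o) (Spor.smul_octad (inv_mem hσ₁) ho) (by
      have h1 : (Spor.ofMask 1 ∩ σ₁⁻¹ • o).card = if p ∈ o then 1 else 0 := by
        rw [← Finset.card_smul_finset σ₁, Finset.smul_finset_inter, smul_inv_smul, ep, Spor.card_singleton_inter]
      have h2 : (Spor.ofMask 2 ∩ σ₁⁻¹ • o).card = if q ∈ o then 1 else 0 := by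
        rw [← Finset.card_smul_finset σ₁, Finset.smul_finset_inter, smul_inv_smul, eq, Spor.card_singleton_inter]
      have h3 : (Spor.ofMask 1 ∩ Spor.ofMask 5279).card = 1 ∧ (Spor.ofMask 2 ∩ Spor.ofMask 5279).card = 1 := by decide +kernel
      simp [Spor.tupInv, Spor.tupP2OctA, h1, h2, h3, hp.1, hq.1])
  have hσ : σ₁ * τ ∈ M24 := mul_mem hσ₁ hτ
  set σ := σ₁ * τ
  have hp' : σ • Spor.ofMask 1 = {p} := by rw [mul_smul, hτfix 1 (by simp [Spor.tupP2OctA]), ep]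
  have hq' : σ • Spor.ofMask 2 = {q} := by rw [mul_smul, hτfix 2 (by simp [Spor.tupP2OctA]), eq]
  have hoo : σ • Spor.ofMask 5279 = o := by rw [mul_smul, hτ', smul_inv_smul]
  have h1c : (Spor.ofMask 1).card = 1 ∧ (Spor.ofMask 2).card = 1 := by decide +kernel
  have hcnt : ∀ k, {x | x ∈ octads ∧ p ∈ x ∧ q ∈ x ∧ (o ∩ x).card = k}.ncard =
      (Spor.octMasks.filter fun m => Spor.pc (1 &&& m) == 1 && (Spor.pc (2 &&& m) == 1 && (Spor.pc (5279 &&& m) == k))).length := by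
    intro k
    rw [Spor.ncard_transfer hσ Spor.octads_inv
      (P := fun s => (Spor.ofMask 1 ∩ s).card = 1 ∧ (Spor.ofMask 2 ∩ s).card = 1 ∧ (Spor.ofMask 5279 ∩ s).card = k)
      (fun s => by rw [← hoo, ← Finset.smul_finset_inter, Finset.card_smul_finset, Spor.smul_mem_iff hp' h1c.1, Spor.smul_mem_iff hq' h1c.2])]
    refine Spor.ncard_octad_pred _ fun s => ?_
    rw [Bool.and_eq_true, Bool.and_eq_true, beq_iff_eq, beq_iff_eq, beq_iff_eq, ← Spor.pc_mask, ← Spor.pc_mask, ← Spor.pc_mask,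
      Spor.mask_inter, Spor.mask_inter, Spor.mask_inter, Spor.mask_ofMask (show 1 < 2 ^ 24 by norm_num),
      Spor.mask_ofMask (show 2 < 2 ^ 24 by norm_num), Spor.mask_ofMask (show 5279 < 2 ^ 24 by norm_num)]
  refine ⟨(hcnt 2).trans (by decide +kernel), (hcnt 4).trans (by decide +kernel), ?_⟩
  obtain ⟨g, hg, hfix, hgo⟩ := Spor.tuple_transfer Spor.octads_inv hσ
    (inv' := Spor.tupInv ((Spor.tupIn2OctA.map Spor.ofMask).map (σ • ·))) (fun s => Spor.tupInv_smul σ _ s)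
    Spor.tupIn2Oct_classes o' ho' o'' ho'' (by
      simp [Spor.tupInv, Spor.tupIn2OctA, hp', hq', hoo, Spor.card_singleton_inter, hp, hq, h])
  refine ⟨g, hg, Spor.fix_of_singleton ?_, Spor.fix_of_singleton ?_, ?_, hgo⟩
  · rw [← hp']; exact hfix 1 (by simp [Spor.tupIn2OctA])
  · rw [← hq']; exact hfix 2 (by simp [Spor.tupIn2OctA])
  · rw [← hoo]; exact hfix 5279 (by simp [Spor.tupIn2OctA])

end Cfsg.Agent.S1604
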