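import Cfsg.Statements.S1605
import Cfsg.Agent.Lib.Spor.GolayTupleFacts

set_option autoImplicit false
open scoped Pointwise
open Cfsg

namespace Cfsg.Agent.S1605

open scoped Pointwise

/-- The two-point stabiliser acts on the 176 octads through the first point avoiding the second with rank 3 and subdegrees 1, 70, 105 (intersections 8, 2, 4). -/
theorem result (p q : Cfsg.GolayPt) (hpq : p ≠ q) : {x : Finset Cfsg.GolayPt | (x ∈ Cfsg.octads ∧ p ∈ x ∧ q ∉ x)}.ncard = 176 ∧ (∀ o o' : Finset Cfsg.GolayPt, (o ∈ Cfsg.octads ∧ p ∈ o ∧ q ∉ o) → (o' ∈ Cfsg.octads ∧ p ∈ o' ∧ q ∉ o') → ∃ g : Equiv.Perm Cfsg.GolayPt, g ∈ Cfsg.M24 ∧ g p = p ∧ g q = q ∧ g • o = o') ∧ ∀ o : Finset Cfsg.GolayPt, (o ∈ Cfsg.octads ∧ p ∈ o ∧ q ∉ o) → {x : Finset Cfsg.GolayPt | (x ∈ Cfsg.octads ∧ p ∈ x ∧ q ∉ x) ∧ (o ∩ x).card = 2}.ncard = 70 ∧ {x : Finset Cfsg.GolayPt | (x ∈ Cfsg.octads ∧ p ∈ x ∧ q ∉ x) ∧ (o ∩ x).card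 = 4}.ncard = 105 ∧ ∀ o' o'' : Finset Cfsg.GolayPt, (o' ∈ Cfsg.octads ∧ p ∈ o' ∧ q ∉ o') → (o'' ∈ Cfsg.octads ∧ p ∈ o'' ∧ q ∉ o'') → (o ∩ o').card = (o ∩ o'').card → ∃ g : Equiv.Perm Cfsg.GolayPt, g ∈ Cfsg.M24 ∧ g p = p ∧ g q = q ∧ g • o = o ∧ g • o' = o'' := by
  obtain ⟨σ₁, hσ₁, ep, eq⟩ := Spor.exists_map_points hpq
  have h1c : (Spor.ofMask 1).card = 1 ∧ (Spor.ofMask 2).card = 1 := by decide +kernel
  have hbase : Spor.ofMask 8471941 ∈ octads := by rw [Spor.mem_octads, Spor.mask_ofMask (by norm_num)]; decide +kernel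
  have hto : ∀ o, (o ∈ octads ∧ p ∈ o ∧ q ∉ o) → ∃ σ ∈ M24,
      σ • Spor.ofMask 1 = {p} ∧ σ • Spor.ofMask 2 = {q} ∧ σ • Spor.ofMask 8471941 = o := by
    rintro o ⟨ho, hp, hq⟩
    obtain ⟨τ, hτ, hτfix, hτ'⟩ := Spor.tupP2Oct_classes _ hbase (σ₁⁻¹ • o) (Spor.smul_octad (inv_mem hσ₁) ho) (by
      have h1 : (Spor.ofMask 1 ∩ σ₁⁻¹ • o).card = if p ∈ o then 1 else 0 := by
        rw [← Finset.card_smul_finset σ₁, Finset.smul_finset_inter, smul_inv_smul, ep, Spor.card_singleton_inter]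
      have h2 : (Spor.ofMask 2 ∩ σ₁⁻¹ • o).card = if q ∈ o then 1 else 0 := by
        rw [← Finset.card_smul_finset σ₁, Finset.smul_finset_inter, smul_inv_smul, eq, Spor.card_singleton_inter]
      have h3 : (Spor.ofMask 1 ∩ Spor.ofMask 8471941).card = 1 ∧ (Spor.ofMask 2 ∩ Spor.ofMask 8471941).card = 0 := by decide +kernel
      simp [Spor.tupInv, Spor.tupP2OctA, h1, h2, h3, hp, hq])
    exact ⟨σ₁ * τ, mul_mem hσ₁ hτ, by rw [mul_smul, hτfix 1 (by simp [Spor.tupP2OctA]), ep],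
      by rw [mul_smul, hτfix 2 (by simp [Spor.tupP2OctA]), eq], by rw [mul_smul, hτ', smul_inv_smul]⟩
  refine ⟨?_, fun o o' h h' => ?_, fun o ho => ?_⟩
  · rw [Spor.ncard_transfer hσ₁ Spor.octads_inv
      (P := fun s => (Spor.ofMask 1 ∩ s).card = 1 ∧ ¬ (Spor.ofMask 2 ∩ s).card = 1)
      (fun s => by rw [Spor.smul_mem_iff ep h1c.1, Spor.smul_mem_iff eq h1c.2])]
    rw [Spor.ncard_octad_pred (fun m => Spor.pc (1 &&& m) == 1 && !(Spor.pc (2 &&& m) == 1)) fun s => by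
      rw [Bool.and_eq_true, Bool.not_eq_true', beq_eq_false_iff_ne, beq_iff_eq, ← Spor.pc_mask, ← Spor.pc_mask,
        Spor.mask_inter, Spor.mask_inter, Spor.mask_ofMask (show 1 < 2 ^ 24 by norm_num),
        Spor.mask_ofMask (show 2 < 2 ^ 24 by norm_num)]]
    decide +kernel
  · obtain ⟨σ, hσ, e1, e2, e3⟩ := hto o h
    obtain ⟨ρ, hρ, f1, f2, f3⟩ := hto o' h'
    refine ⟨ρ * σ⁻¹, mul_mem hρ (inv_mem hσ), Spor.fix_of_singleton ?_, Spor.fix_of_singleton ?_, ?_⟩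
    · nth_rw 1 [← e1]; rw [mul_smul, inv_smul_smul, f1]
    · nth_rw 1 [← e2]; rw [mul_smul, inv_smul_smul, f2]
    · rw [← e3, mul_smul, inv_smul_smul, f3]
  · obtain ⟨σ, hσ, hp', hq', hoo⟩ := hto o ho
    have hcnt : ∀ k, {x | (x ∈ octads ∧ p ∈ x ∧ q ∉ x) ∧ (o ∩ x).card = k}.ncard =
        (Spor.octMasks.filter fun m => Spor.pc (1 &&& m) == 1 && (!(Spor.pc (2 &&& m) == 1) && (Spor.pc (8471941 &&& m) == k))).length := by
      intro k
      simp only [and_assoc]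
      rw [Spor.ncard_transfer hσ Spor.octads_inv
        (P := fun s => (Spor.ofMask 1 ∩ s).card = 1 ∧ ¬ (Spor.ofMask 2 ∩ s).card = 1 ∧ (Spor.ofMask 8471941 ∩ s).card = k)
        (fun s => by rw [← hoo, ← Finset.smul_finset_inter, Finset.card_smul_finset, Spor.smul_mem_iff hp' h1c.1, Spor.smul_mem_iff hq' h1c.2])]
      refine Spor.ncard_octad_pred _ fun s => ?_
      rw [Bool.and_eq_true, Bool.and_eq_true, Bool.not_eq_true', beq_eq_false_iff_ne, beq_iff_eq, beq_iff_eq,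
        ← Spor.pc_mask, ← Spor.pc_mask, ← Spor.pc_mask, Spor.mask_inter, Spor.mask_inter, Spor.mask_inter,
        Spor.mask_ofMask (show 1 < 2 ^ 24 by norm_num), Spor.mask_ofMask (show 2 < 2 ^ 24 by norm_num),
        Spor.mask_ofMask (show 8471941 < 2 ^ 24 by norm_num)]
    refine ⟨(hcnt 2).trans (by decide +kernel), (hcnt 4).trans (by decide +kernel), fun o' o'' ho' ho'' h => ?_⟩
    obtain ⟨g, hg, hfix, hgo⟩ := Spor.tuple_transfer Spor.octads_inv hσ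
      (inv' := Spor.tupInv ((Spor.tupPq2OctA.map Spor.ofMask).map (σ • ·))) (fun s => Spor.tupInv_smul σ _ s)
      Spor.tupPq2Oct_classes o' ho'.1 o'' ho''.1 (by
        simp [Spor.tupInv, Spor.tupPq2OctA, hp', hq', hoo, Spor.card_singleton_inter, ho'.2, ho''.2, h])
    refine ⟨g, hg, Spor.fix_of_singleton ?_, Spor.fix_of_singleton ?_, ?_, hgo⟩
    · rw [← hp']; exact hfix 1 (by simp [Spor.tupPq2OctA])
    · rw [← hq']; exact hfix 2 (by simp [Spor.tupPq2OctA])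
    · rw [← hoo]; exact hfix 8471941 (by simp [Spor.tupPq2OctA])

end Cfsg.Agent.S1605
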