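import Cfsg.Statements.S1608
import Cfsg.Agent.Lib.Spor.GolayTupleFacts

set_option autoImplicit false
open scoped Pointwise
open Cfsg

namespace Cfsg.Agent.S1608

open scoped Pointwise

/-- The point stabiliser acts on the 506 octads avoiding the point with rank 4 and subdegrees 1, 15, 210, 280, the suborbits being given by intersection size with the fixed octad. -/
theorem result (x : Cfsg.GolayPt) (o : Finset Cfsg.GolayPt) (ho : o ∈ Cfsg.octads) (hx : x ∉ o) : {o' : Finset Cfsg.GolayPt | o' ∈ Cfsg.octads ∧ x ∉ o' ∧ (o ∩ o').card = 0}.ncard = 15 ∧ {o' : Finset Cfsg.GolayPt | o' ∈ Cfsg.octads ∧ x ∉ o' ∧ (o ∩ o').card = 4}.ncard = 210 ∧ {o' : Finset Cfsg.GolayPt | o' ∈ Cfsg.octads ∧ x ∉ o' ∧ (o ∩ o').card = 2}.ncard = 280 ∧ ∀ o' o'' : Finset Cfsg.GolayPt, o' ∈ Cfsg.octads → o'' ∈ Cfsg.octads → x ∉ o' → x ∉ o'' → (o ∩ o').card = (o ∩ o'').card → ∃ g : Equiv.Perm Cfsg.GolayPt, g ∈ Cfsg.M24 ∧ g x = x ∧ g • o = o ∧ g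 • o' = o'' := by
  obtain ⟨σ₁, hσ₁, e₁⟩ := Spor.exists_map_point x
  obtain ⟨τ, hτ, hτfix, hτ'⟩ := Spor.tupP1Oct_classes (Spor.ofMask 78514) (by rw [Spor.mem_octads, Spor.mask_ofMask (by norm_num)]; decide +kernel)
    (σ₁⁻¹ • o) (Spor.smul_octad (inv_mem hσ₁) ho) (by
      have h1 : (Spor.ofMask 1 ∩ σ₁⁻¹ • o).card = if x ∈ o then 1 else 0 := by
        rw [← Finset.card_smul_finset σ₁, Finset.smul_finset_inter, smul_inv_smul, e₁, Spor.card_singleton_inter]
      have h2 : (Spor.ofMask 1 ∩ Spor.ofMask 78514).card = 0 := by decide +kernel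
      simp [Spor.tupInv, Spor.tupP1OctA, h1, h2, hx])
  have hσ : σ₁ * τ ∈ M24 := mul_mem hσ₁ hτ
  set σ := σ₁ * τ
  have hfix1 : τ • Spor.ofMask 1 = Spor.ofMask 1 := hτfix 1 (by simp [Spor.tupP1OctA])
  have hp : σ • Spor.ofMask 1 = {x} := by rw [mul_smul, hfix1, e₁]
  have hoo : σ • Spor.ofMask 78514 = o := by rw [mul_smul, hτ', smul_inv_smul]
  have h1c : (Spor.ofMask 1).card = 1 := by decide +kernel
  have hcnt : ∀ k, {o' | o' ∈ octads ∧ x ∉ o' ∧ (o ∩ o').card = k}.ncard =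
      (Spor.octMasks.filter fun m => !(Spor.pc (1 &&& m) == 1) && (Spor.pc (78514 &&& m) == k)).length := by
    intro k
    rw [Spor.ncard_transfer hσ Spor.octads_inv
      (P := fun s => ¬ (Spor.ofMask 1 ∩ s).card = 1 ∧ (Spor.ofMask 78514 ∩ s).card = k)
      (fun s => by rw [← hoo, ← Finset.smul_finset_inter, Finset.card_smul_finset, Spor.smul_mem_iff hp h1c])]
    refine Spor.ncard_octad_pred _ fun s => ?_
    rw [Bool.and_eq_true, Bool.not_eq_true', beq_eq_false_iff_ne, beq_iff_eq, ← Spor.pc_mask, ← Spor.pc_mask,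
      Spor.mask_inter, Spor.mask_inter, Spor.mask_ofMask (show 1 < 2 ^ 24 by norm_num),
      Spor.mask_ofMask (show 78514 < 2 ^ 24 by norm_num)]
  refine ⟨(hcnt 0).trans (by decide +kernel), (hcnt 4).trans (by decide +kernel), (hcnt 2).trans (by decide +kernel),
    fun o' o'' ho' ho'' hx' hx'' h => ?_⟩
  obtain ⟨g, hg, hfix, hgo⟩ := Spor.tuple_transfer Spor.octads_inv hσ
    (inv' := Spor.tupInv ((Spor.tupOut1OctA.map Spor.ofMask).map (σ • ·))) (fun s => Spor.tupInv_smul σ _ s)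
    Spor.tupOut1Oct_classes o' ho' o'' ho'' (by
      simp [Spor.tupInv, Spor.tupOut1OctA, hp, hoo, Spor.card_singleton_inter, hx', hx'', h])
  refine ⟨g, hg, Spor.fix_of_singleton ?_, ?_, hgo⟩
  · rw [← hp]; exact hfix 1 (by simp [Spor.tupOut1OctA])
  · rw [← hoo]; exact hfix 78514 (by simp [Spor.tupOut1OctA])

end Cfsg.Agent.S1608
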