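import Cfsg.Statements.S1609
import Cfsg.Agent.Lib.Spor.MathieuIndex

set_option autoImplicit false
open scoped Pointwise
open Cfsg Cfsg.Agent.Spor Cfsg.Agent.Spor.MathieuIdx

namespace Cfsg.Agent.S1609

/-- Subgroups of index 253 in the Mathieu group of degree 23 are exactly the duad stabilisers and the heptad stabilisers. -/
theorem result (x : Cfsg.GolayPt) (H : Subgroup ↥(MulAction.stabilizer Cfsg.M24 x)) (hH : H.index = 253) : (∃ s : Finset Cfsg.GolayPt, s.card = 2 ∧ x ∉ s ∧ H = (MulAction.stabilizer Cfsg.M24 s).subgroupOf (MulAction.stabilizer Cfsg.M24 x)) ∨ ∃ o ∈ Cfsg.octads, x ∈ o ∧ H = (MulAction.stabilizer Cfsg.M24 o).subgroupOf (MulAction.stabilizer Cfsg.M24 x) := by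
  have hc : Nat.card (H.map (MulAction.stabilizer M24 x).subtype) = 40320 := by
    have h := H.card_mul_index
    rw [hH, card_stabilizer_point] at h
    rw [Subgroup.card_map_of_injective (MulAction.stabilizer M24 x).subtype_injective]
    omega
  have key : ∀ K : Subgroup M24, H.map (MulAction.stabilizer M24 x).subtype = K ⊓ fixA {x} → H = K.subgroupOf (MulAction.stabilizer M24 x) := by
    intro K e
    rw [fixA_singleton, ← Subgroup.subgroupOf_map_subtype] at e
    exact Subgroup.map_injective (MulAction.stabilizer M24 x).subtype_injective e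
  rcases index_253_point x (H.map (MulAction.stabilizer M24 x).subtype) ((Subgroup.map_subtype_le H).trans (fixA_singleton x).ge) hc with
    ⟨s, h2, hx, e⟩ | ⟨o, ho, hx, e⟩
  · exact Or.inl ⟨s, h2, hx, key _ e⟩
  · exact Or.inr ⟨o, ho, hx, key _ e⟩

end Cfsg.Agent.S1609
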