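import Cfsg.Statements.S1612
import Cfsg.Agent.Lib.Fischer.Transitive
import Cfsg.Agent.Lib.Spor.ThreeElementary
-- import your own Cfsg.Agent.* helpers here

set_option autoImplicit false
open Cfsg

namespace Cfsg.Agent.S1612

/-- In a 3-transposition group (no solvable normal subgroup, perfect derived group), the normaliser of a commuting set of transpositions of maximum size contains a Sylow 2-subgroup and is doubly transitive on the set. -/
theorem result {G : Type*} [Group G] [Finite G] (hsol : ∀ N : Subgroup G, N.Normal → Group.IsSolvable ↥N → N = ⊥) (hperf : ⁅commutator G, commutator G⁆ = commutator G) {D : Set G} (hD : Cfsg.IsThreeTranspositionClass D) {E : Set G} (hE : E ⊆ D) (hc : ∀ a ∈ E, ∀ b ∈ E, Commute a b) (hmax : ∀ E' : Set G, E' ⊆ D → (∀ a ∈ E', ∀ b ∈ E', Commute a b) → E'.ncard ≤ E.ncard) : (∃ P : Sylow 2 G, (P : Subgroup G) ≤ Subgroup.normalizer E) ∧ ∀ a ∈ E, ∀ b ∈ E, ∀ c ∈ E, ∀ d ∈ E, a ≠ b → c ≠ d → ∃ g ∈ Subgroup.normalizer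 E, g * a * g⁻¹ = c ∧ g * b * g⁻¹ = d := by
  classical
  haveI : Fact (Nat.Prime 2) := ⟨Nat.prime_two⟩
  have h := Fischer.hyp_of_no_solvable hD hsol hperf
  have hG := Spor.class_isGroup hD
  -- pairwise commuting members generate a 2-group
  have hpgroup : ∀ F : Set G, F ⊆ D → (∀ a ∈ F, ∀ b ∈ F, Commute a b) →
      IsPGroup 2 (Subgroup.closure F) := by
    intro F hF hFc
    have key : ∀ y ∈ Subgroup.closure F, y ∈ Subgroup.centralizer F ∧ y ^ 2 = 1 := by
      intro y hy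
      induction hy using Subgroup.closure_induction with
      | mem y hy =>
        exact ⟨Subgroup.mem_centralizer_iff.2 fun b hb => hFc b hb y hy,
          by rw [← hD.1.1 y (hF hy), pow_orderOf_eq_one]⟩
      | one => exact ⟨one_mem _, one_pow 2⟩
      | mul y z hy hz ihy ihz =>
        refine ⟨mul_mem ihy.1 ihz.1, ?_⟩
        have hcl : Subgroup.closure F ≤ Subgroup.centralizer ({y} : Set G) :=
          (Subgroup.closure_le _).2 fun b hb => Subgroup.mem_centralizer_singleton_iff.2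
            (Subgroup.mem_centralizer_iff.1 ihy.1 b hb)
        have hyz : Commute z y := Subgroup.mem_centralizer_singleton_iff.1 (hcl hz)
        rw [hyz.symm.mul_pow, ihy.2, ihz.2, one_mul]
      | inv y _ ih => exact ⟨inv_mem ih.1, by rw [inv_pow, ih.2, inv_one]⟩
    exact fun x => ⟨1, Subtype.ext (by simpa using (key x x.2).2)⟩
  -- the members in a Sylow 2-subgroup containing a maximal commuting set are that set
  have hsyl : ∀ (U : Sylow 2 G) (F : Set G), F ⊆ D → (∀ a ∈ F, a ∈ U) → F.ncard = E.ncard →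
      {d : G | d ∈ D ∧ d ∈ U} = F := by
    intro U F hF hFU hcard
    haveI := (Spor.sylow_members hG U).1
    have hcU : ∀ x ∈ {d : G | d ∈ D ∧ d ∈ U}, ∀ y ∈ {d : G | d ∈ D ∧ d ∈ U}, Commute x y := by
      intro x hx y hy
      let K := Subgroup.closure {d : G | d ∈ D ∧ d ∈ U}
      let X : K := ⟨x, Subgroup.subset_closure hx⟩
      let Y : K := ⟨y, Subgroup.subset_closure hy⟩
      exact congrArg Subtype.val ((IsMulCommutative.is_comm (M := K)).comm X Y)
    exact (Set.eq_of_subset_of_ncard_le (show F ⊆ {d : G | d ∈ D ∧ d ∈ U} from fun x hx => ⟨hF hx, hFU x hx⟩)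
      (hcard ▸ hmax _ (fun x hx => hx.1) hcU) (Set.toFinite _)).symm
  constructor
  · obtain ⟨P, hP⟩ := (hpgroup E hE hc).exists_le_sylow
    refine ⟨P, fun x hx => ?_⟩
    have hEP := hsyl P E hE (fun a ha => hP (Subgroup.subset_closure ha)) rfl
    rw [Subgroup.mem_set_normalizer_iff]
    intro n
    rw [← hEP]
    refine ⟨fun hn => ⟨h.conj_mem x hn.1, mul_mem (mul_mem hx hn.2) (inv_mem hx)⟩, fun hn => ?_⟩
    have h1 := h.conj_mem x⁻¹ hn.1
    have h2 : x⁻¹ * (x * n * x⁻¹) * x⁻¹⁻¹ ∈ P := mul_mem (mul_mem (inv_mem hx) hn.2) (inv_mem (inv_mem hx))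
    rw [show x⁻¹ * (x * n * x⁻¹) * x⁻¹⁻¹ = n by group] at h1 h2
    exact ⟨h1, h2⟩
  intro a ha b hb c hcE d hd hab hcd
  obtain ⟨g, hga, hgb⟩ := h.pair_transitive (hE ha)
    (⟨hE hb, hab.symm, hc a ha b hb⟩ : b ∈ Fischer.nbr D a) (hE hcE)
    (⟨hE hd, hcd.symm, hc c hcE d hd⟩ : d ∈ Fischer.nbr D c)
  set E' := (fun y => g * y * g⁻¹) '' E with hE'
  have hE'D : E' ⊆ D := by rintro _ ⟨y, hy, rfl⟩; exact h.conj_mem g (hE hy)
  have hE'c : ∀ p ∈ E', ∀ q ∈ E', Commute p q := by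
    rintro _ ⟨p, hp, rfl⟩ _ ⟨q, hq, rfl⟩; exact (Commute.conj_iff g).2 (hc p hp q hq)
  have hcE' : c ∈ E' := ⟨a, ha, hga⟩
  have hdE' : d ∈ E' := ⟨b, hb, hgb⟩
  set X := Subgroup.centralizer ({c, d} : Set G) with hX
  have hin : ∀ F : Set G, (∀ p ∈ F, ∀ q ∈ F, Commute p q) → c ∈ F → d ∈ F →
      Subgroup.closure F ≤ X := by
    intro F hFc hcF hdF
    refine (Subgroup.closure_le _).2 fun y hy => Subgroup.mem_centralizer_iff.2 ?_
    rintro z (rfl | rfl)
    · exact hFc _ hcF y hy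
    · exact hFc _ hdF y hy
  obtain ⟨T, hT⟩ := ((hpgroup E hE hc).comap_of_injective X.subtype X.subtype_injective).exists_le_sylow
  obtain ⟨T', hT'⟩ :=
    ((hpgroup E' hE'D hE'c).comap_of_injective X.subtype X.subtype_injective).exists_le_sylow
  obtain ⟨x, hx⟩ := MulAction.exists_smul_eq X T' T
  obtain ⟨U, hU⟩ := (T.isPGroup'.map X.subtype).exists_le_sylow
  have hEU := hsyl U E hE (fun y hy =>
    hU ⟨⟨y, hin E hc hcE hd (Subgroup.subset_closure hy)⟩, hT (Subgroup.subset_closure hy), rfl⟩) rfl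
  have hEU' := hsyl U ((fun y => (x : G) * y * (x : G)⁻¹) '' E')
    (by rintro _ ⟨y, hy, rfl⟩; exact h.conj_mem _ (hE'D hy))
    (by
      rintro _ ⟨y, hy, rfl⟩
      have hyX := hin E' hE'c hcE' hdE' (Subgroup.subset_closure hy)
      refine hU ⟨x * ⟨y, hyX⟩ * x⁻¹, ?_, rfl⟩
      show x * ⟨y, hyX⟩ * x⁻¹ ∈ (T : Subgroup X)
      rw [← hx, Sylow.coe_subgroup_smul]
      exact ⟨⟨y, hyX⟩, hT' (Subgroup.subset_closure hy), by simp⟩)
    (by
      rw [hE', Set.ncard_image_of_injective _ fun u v huv => by simpa using huv,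
        Set.ncard_image_of_injective _ fun u v huv => by simpa using huv])
  have himg : (fun y => ((x : G) * g) * y * ((x : G) * g)⁻¹) '' E = E := by
    conv_rhs => rw [← hEU, hEU', hE', Set.image_image]
    exact Set.image_congr fun y _ => by group
  refine ⟨(x : G) * g, ?_, ?_, ?_⟩
  · rw [Subgroup.mem_set_normalizer_iff]
    intro n
    refine ⟨fun hn => himg ▸ ⟨n, hn, rfl⟩, fun hn => ?_⟩
    rw [← himg] at hn
    obtain ⟨m, hm, hmn⟩ := hn
    rwa [show m = n by simpa using hmn] at hm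
  · have hxc := Subgroup.mem_centralizer_iff.1 x.2 c (Or.inl rfl)
    rw [show (x : G) * g * a * ((x : G) * g)⁻¹ = x * (g * a * g⁻¹) * (x : G)⁻¹ by group, hga, ← hxc,
      mul_inv_cancel_right]
  · have hxd := Subgroup.mem_centralizer_iff.1 x.2 d (Or.inr rfl)
    rw [show (x : G) * g * b * ((x : G) * g)⁻¹ = x * (g * b * g⁻¹) * (x : G)⁻¹ by group, hgb, ← hxd,
      mul_inv_cancel_right]

end Cfsg.Agent.S1612
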