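import Cfsg.Statements.S1614
import Cfsg.Agent.Lib.Fischer.Twin.Main
import Cfsg.Agent.Lib.Fischer.LocalTwins
import Cfsg.Agent.Lib.Solv.Cores

set_option autoImplicit false
open Cfsg

namespace Cfsg.Agent.S1614

/-- If the commuting transpositions of one transposition generate a solvable group, a Fischer 3-transposition group is S5, S6, PSU(4, 2) or PSU(5, 2). -/
theorem result {G : Type*} [Group G] [Finite G] (hsol : ∀ N : Subgroup G, N.Normal → Group.IsSolvable ↥N → N = ⊥) (hperf : ⁅commutator G, commutator G⁆ = commutator G) {D : Set G} (hD : Cfsg.IsThreeTranspositionClass D) (x : G) (hx : x ∈ D) (hs : Group.IsSolvable ↥(Subgroup.closure {y : G | y ∈ D ∧ y ≠ x ∧ Commute x y})) : Nonempty (G ≃* Equiv.Perm (Fin 5)) ∨ Nonempty (G ≃* Equiv.Perm (Fin 6)) ∨ ∃ (F : Type) (_ : Field F) (_ : Fintype F), Fintype.card F = 4 ∧ (Nonempty (G ≃* Cfsg.PSU 4 F 2) ∨ Nonempty (G ≃* Cfsg.PSU 5 F 2)) := by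
  have hh := Fischer.hyp_of_no_solvable hD hsol hperf
  by_cases hodd : Cfsg.oddCore ↥(Subgroup.closure (Fischer.nbr D x)) ≤
      Subgroup.center ↥(Subgroup.closure (Fischer.nbr D x))
  swap
  · exact Or.inl (Fischer.Twins.iso_five hh (Fischer.Twins.hasTwins_of_oddCore hh hx hodd))
  obtain ⟨y, hy, hxy⟩ := Fischer.Twin.exists_partner hh hx
  by_cases htwo : Cfsg.pCore 2 ↥(Subgroup.closure (Fischer.nbr D x)) ≤
      Subgroup.center ↥(Subgroup.closure (Fischer.nbr D x))
  · exfalso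
    set H := Subgroup.closure (Fischer.nbr D x) with hH
    have hsH : Group.IsSolvable ↥H := hs
    have hF : Cfsg.fittingSubgroup ↥H ≤ Subgroup.center ↥H := by
      rw [Solv.fitting_eq_iSup_pCore]
      refine iSup_le fun q => ?_
      by_cases h2 : (q : ℕ) = 2
      · rw [h2]; exact htwo
      haveI := Fact.mk q.2
      haveI := Solv.pCore_normal (G := ↥H) (q : ℕ)
      refine le_trans (Solv.normal_le_pPrimeCore ?_) hodd
      obtain ⟨k, hk⟩ := IsPGroup.iff_card.1 (Solv.pCore_isPGroup (G := ↥H) (q : ℕ))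
      rw [hk]
      exact ((Nat.coprime_primes q.2 Nat.prime_two).2 h2).pow_left k
    have hall : ∀ g : ↥H, g ∈ Subgroup.center ↥H := fun g => hF (Solv.centralizer_fitting_le hsH (fun a ha =>
      ((Subgroup.mem_center_iff.1 (hF ha)) g).symm))
    have hcomm : ∀ a ∈ Fischer.nbr D x, ∀ b ∈ Fischer.nbr D x, Commute a b := fun a ha b hb =>
      congrArg Subtype.val (Subgroup.mem_center_iff.1 (hall ⟨b, Subgroup.subset_closure hb⟩)
        ⟨a, Subgroup.subset_closure ha⟩)
    have huniq : ∀ a ∈ Fischer.nbr D x, ∀ b ∈ Fischer.nbr D x, a = b := fun a ha b hb => by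
      rcases Relation.ReflTransGen.cases_head (hh.nbr_conn hx ha hb) with e | ⟨c, hc, -⟩
      · exact e
      · exact absurd (hcomm a ha c hc.2.1) hc.2.2
    obtain ⟨d, hd⟩ := hh.exists_common hx hy hxy
    obtain ⟨z, hz, hdz⟩ := Spor.exists_braid hh.cls hh.prim.2.1 hd.1.1
    by_cases hxz : Commute x z
    · by_cases hzx : z = x
      · exact hdz (hzx ▸ hd.1.2.2.symm)
      · exact hdz (huniq z ⟨hz, hzx, hxz⟩ d hd.1 ▸ Commute.refl d)
    · obtain ⟨d', hd'⟩ := hh.exists_common hx hz hxz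
      exact hdz (huniq d' hd'.1 d hd.1 ▸ hd'.2)
  have hp : Fischer.Twin.Polar D := Fischer.Twin.polar_of_core hh hx htwo
  have hthin := hp.thin_of_solvable hx hy hxy hs
  rcases hp.classification hx hy hxy (Fischer.Twin.center_bot hsol) with
    ⟨m, e, hiso, hsurj, hne, hcom⟩ | ⟨F, hF, hFf, n, hcard, hn, hiso, hn5⟩
  · obtain rfl := hp.sp_two hx hy hxy e hsurj hne hcom hthin
    obtain ⟨i⟩ := hiso
    obtain ⟨j⟩ := S0247.result (F := ZMod 2) (ZMod.card 2)
    exact Or.inr (Or.inl ⟨i.trans j⟩)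
  · have := hn5 hthin
    obtain rfl | rfl : n = 4 ∨ n = 5 := by omega
    · exact Or.inr (Or.inr ⟨F, hF, hFf, hcard, Or.inl hiso⟩)
    · exact Or.inr (Or.inr ⟨F, hF, hFf, hcard, Or.inr hiso⟩)

end Cfsg.Agent.S1614
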