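import Cfsg.Statements.S1617
import Cfsg.Agent.Lib.Spor.TransP.Rank

set_option autoImplicit false
open Cfsg

namespace Cfsg.Agent.S1617

/-- A generating conjugacy class of involutions on which the group (with trivial solvable radical) acts with rank 3 is a class of 3-transpositions. -/
theorem result {G : Type*} [Group G] [Finite G] (hsol : ∀ N : Subgroup G, N.Normal → Group.IsSolvable ↥N → N = ⊥) {D : Set G} (hinv : ∀ d ∈ D, orderOf d = 2) (hconj : ∃ d ∈ D, D = conjugatesOf d) (hgen : Subgroup.closure D = ⊤) (hrank : ∀ x ∈ D, ∃ y ∈ D, ∃ z ∈ D, {w : G | ∃ g : G, Commute g x ∧ g * y * g⁻¹ = w} ≠ {w : G | ∃ g : G, Commute g x ∧ g * x * g⁻¹ = w} ∧ {w : G | ∃ g : G, Commute g x ∧ g * z * g⁻¹ = w} ≠ {w : G | ∃ g : G, Commute g x ∧ g * x * g⁻¹ = w} ∧ {w : G | ∃ g : G, Commute g x ∧ g * y * g⁻¹ = w} ≠ {w : G | ∃ g : G, Commute g x ∧ g * z * g⁻¹ = w} ∧ D = {w : G | ∃ g : G, Commute g x ∧ g * x * g⁻¹ = w} ∪ {w : G | ∃ g : G, Commute g x ∧ g * y * g⁻¹ = w} ∪ {w : G | ∃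 g : G, Commute g x ∧ g * z * g⁻¹ = w}) : Cfsg.IsThreeTranspositionClass D := by
  obtain ⟨d₀, hd₀, hD⟩ := hconj
  have hnorm : ∀ (g : G), ∀ x ∈ D, g * x * g⁻¹ ∈ D := by
    intro g x hx
    rw [hD] at hx ⊢
    exact hx.trans (isConj_iff.2 ⟨g, rfl⟩)
  have htr : ∀ x ∈ D, ∀ y ∈ D, IsConj x y := by
    intro x hx y hy
    rw [hD] at hx hy
    exact (IsConj.symm hx).trans hy
  have hsq : ∀ x ∈ D, x * x = 1 := fun x hx => by rw [← pow_two, ← hinv x hx, pow_orderOf_eq_one]
  have hne1 : ∀ x ∈ D, x ≠ 1 := fun x hx e => by simpa [e] using hinv x hx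
  -- orbits of the centraliser of a member
  have horb : ∀ x ∈ D, ∃ y ∈ D, ∃ z ∈ D, y ≠ x ∧ z ≠ x ∧ ∀ w ∈ D, w = x ∨
      (∃ g : G, Commute g x ∧ g * y * g⁻¹ = w) ∨ (∃ g : G, Commute g x ∧ g * z * g⁻¹ = w) := by
    intro x hx
    obtain ⟨y, hy, z, hz, h1, h2, -, h4⟩ := hrank x hx
    refine ⟨y, hy, z, hz, fun e => h1 (by rw [e]), fun e => h2 (by rw [e]), fun w hw => ?_⟩
    rw [h4] at hw
    rcases hw with (⟨g, hg, e⟩ | h) | h
    · left; rw [← e, hg.eq, mul_inv_cancel_right]
    · exact Or.inr (Or.inl h)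
    · exact Or.inr (Or.inr h)
  have hcomm_iff : ∀ {x y w g : G}, Commute g x → g * y * g⁻¹ = w → (Commute x w ↔ Commute x y) := by
    intro x y w g hg e
    have hx : g * x * g⁻¹ = x := by rw [hg.eq, mul_inv_cancel_right]
    constructor
    · intro h; exact (Commute.conj_iff g).1 (by rw [hx, e]; exact h)
    · intro h; have := (Commute.conj_iff g).2 h; rwa [hx, e] at this
  have hodd : ∀ x ∈ D, (∀ w ∈ D, Commute x w → w = x) → ∀ w ∈ D, Odd (orderOf (x * w)) := by
    intro x hx h w hw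
    by_contra hev
    rw [Nat.not_odd_iff_even] at hev
    obtain ⟨k, hk⟩ := hev
    have hkpos : 0 < k := by have := orderOf_pos (x * w); omega
    set u := x * w
    have hux : x * u * x⁻¹ = u⁻¹ := by
      simp only [u, mul_inv_rev, Agent.TransP.inv_self (hsq x hx), Agent.TransP.inv_self (hsq w hw)]
      simp [← mul_assoc, hsq x hx]
    have hk2 : (u ^ k)⁻¹ = u ^ k := inv_eq_of_mul_eq_one_right (by
      rw [← pow_add, ← hk, pow_orderOf_eq_one])
    have hc : Commute x (u ^ k) := by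
      have e : x * u ^ k * x⁻¹ = u ^ k := by rw [← conj_pow, hux, inv_pow, hk2]
      exact mul_inv_eq_iff_eq_mul.1 e
    have := h _ (Agent.TransP.dihedral_conj hnorm hx hw (hsq x hx) (hsq w hw) k)
      ((Commute.refl x).mul_right hc)
    have hlt : k < orderOf u := by omega
    exact pow_ne_one_of_lt_orderOf hkpos.ne' hlt (mul_eq_left.1 this)
  have hd : d₀ ∈ D := hd₀
  have hY : ∀ x ∈ D, ∃ y ∈ D, y ≠ x ∧ Commute x y := by
    intro x hx
    by_contra h
    push Not at h
    exact Agent.TransP.all_odd_false hsol hgen hnorm hinv hx (hodd x hx fun w hw hc => by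
      by_contra e; exact h w hw e hc)
  have hN : ∀ x ∈ D, ∃ y ∈ D, ¬ Commute x y := by
    intro x hx
    by_contra h
    push Not at h
    exact Agent.TransP.commute_all_false hsol hgen (hne1 x hx) h
  -- transitivity on commuting and on non-commuting partners
  have htrans : ∀ x ∈ D, ∀ y ∈ D, ∀ y' ∈ D, y ≠ x → y' ≠ x → (Commute x y ↔ Commute x y') →
      ∃ g : G, Commute g x ∧ g * y * g⁻¹ = y' := by
    intro x hx y hy y' hy' hne hne' hiff
    obtain ⟨a, ha, b, hb, -, -, hall⟩ := horb x hx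
    obtain ⟨c, hc, hcne, hcc⟩ := hY x hx
    obtain ⟨n, hn, hnn⟩ := hN x hx
    have hab : ¬ (Commute x a ↔ Commute x b) := by
      intro hab
      rcases hall c hc with h | ⟨g, hg, e⟩ | ⟨g, hg, e⟩
      · exact hcne h
      all_goals
        rcases hall n hn with h' | ⟨g', hg', e'⟩ | ⟨g', hg', e'⟩
        · exact hnn (h' ▸ Commute.refl x)
        all_goals
          have h1 := hcomm_iff hg e
          have h2 := hcomm_iff hg' e'
          exact hnn (by tauto)
    have link : ∀ {m u v g g' : G}, Commute g x → g * m * g⁻¹ = u → Commute g' x →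
        g' * m * g'⁻¹ = v → ∃ k : G, Commute k x ∧ k * u * k⁻¹ = v := by
      intro m u v g g' hg e hg' e'
      exact ⟨g' * g⁻¹, hg'.mul_left hg.inv_left, by rw [← e, ← e']; group⟩
    rcases hall y hy with h | ⟨g, hg, e⟩ | ⟨g, hg, e⟩
    · exact absurd h hne
    all_goals
      rcases hall y' hy' with h' | ⟨g', hg', e'⟩ | ⟨g', hg', e'⟩
      · exact absurd h' hne'
      all_goals
        first
          | exact link hg e hg' e'
          | (exfalso
             have h1 := hcomm_iff hg e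
             have h2 := hcomm_iff hg' e'
             exact hab (by tauto))
  -- the order of a product of non-commuting members
  obtain ⟨w₀, hw₀, hnc⟩ := hN d₀ hd
  set n := orderOf (d₀ * w₀) with hndef
  have hord : ∀ x ∈ D, ∀ y ∈ D, ¬ Commute x y → orderOf (x * y) = n := by
    intro x hx y hy hxy
    obtain ⟨c, hc⟩ := isConj_iff.1 (htr d₀ hd x hx)
    have hy' : ¬ Commute d₀ (c⁻¹ * y * c) := by
      intro h
      have := (Commute.conj_iff c).2 h
      rw [hc, show c * (c⁻¹ * y * c) * c⁻¹ = y by group] at this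
      exact hxy this
    obtain ⟨g, hg, e⟩ := htrans d₀ hd w₀ hw₀ (c⁻¹ * y * c)
      (by simpa using hnorm c⁻¹ y hy) (fun e => hnc (e ▸ Commute.refl _))
      (fun e => hy' (e ▸ Commute.refl _)) (iff_of_false hnc hy')
    have key : (MulAut.conj (c * g)) (d₀ * w₀) = x * y := by
      simp only [MulAut.conj_apply]
      calc c * g * (d₀ * w₀) * (c * g)⁻¹
          = (c * (g * d₀ * g⁻¹) * c⁻¹) * (c * (g * w₀ * g⁻¹) * c⁻¹) := by group
        _ = x * y := by rw [hg.eq, mul_inv_cancel_right, hc, e]; group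
    rw [hndef, ← key, MulEquiv.orderOf_eq]
  have hdich : ∀ x ∈ D, ∀ y ∈ D, (x * y) * (x * y) = 1 ∨ orderOf (x * y) = n := by
    intro x hx y hy
    by_cases h : Commute x y
    · exact Or.inl ((Agent.TransP.commute_iff_sq (hsq x hx) (hsq y hy)).1 h)
    · exact Or.inr (hord x hx y hy h)
  have hn2 : 3 ≤ n := by
    have h0 := orderOf_pos (d₀ * w₀)
    by_contra h
    apply hnc
    rw [Agent.TransP.commute_iff_sq (hsq _ hd) (hsq _ hw₀), ← pow_two, ← orderOf_dvd_iff_pow_eq_one,
      ← hndef]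
    rcases (by omega : n = 1 ∨ n = 2) with h | h <;> simp [h]
  -- the possible values of the common order
  have hdiv : ∀ i : ℕ, 0 < i → n / i = n ∨ n / i ≤ 2 ∨ ¬ i ∣ n := by
    intro i hi
    by_cases hin : i ∣ n
    · have hp : orderOf ((d₀ * w₀) ^ i) = n / i := by
        rw [orderOf_pow' _ hi.ne', ← hndef, Nat.gcd_eq_right hin]
      have := hdich d₀ hd _ (Agent.TransP.dihedral_conj hnorm hd hw₀ (hsq _ hd) (hsq _ hw₀) i)
      rw [← mul_assoc d₀ d₀, hsq _ hd, one_mul, hp] at this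
      rcases this with h | h
      · refine Or.inr (Or.inl (Nat.le_of_dvd (by norm_num) ?_))
        rw [← hp]; exact orderOf_dvd_of_pow_eq_one (by rw [pow_two, h])
      · exact Or.inl h
    · exact Or.inr (Or.inr hin)
  by_cases h3 : n = 3
  · refine ⟨⟨hinv, fun x hx y hy => ?_⟩, ⟨d₀, hd₀, hD⟩, hgen⟩
    rcases hdich x hx y hy with h | h
    · exact Or.inl (by rw [pow_two, h])
    · exact Or.inr (by rw [← h3, ← h, pow_orderOf_eq_one])
  exfalso
  have hcases : n = 4 ∨ (n.Prime ∧ 5 ≤ n) := by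
    obtain ⟨r, hr, hrn⟩ := Nat.exists_prime_and_dvd (n := n) (by omega)
    by_cases hodd2 : ∃ q : ℕ, q.Prime ∧ q ≠ 2 ∧ q ∣ n
    · obtain ⟨q, hq, hq2, hqn⟩ := hodd2
      obtain ⟨m, hnm⟩ := hqn
      have hm : 0 < m := by
        rcases Nat.eq_zero_or_pos m with h | h
        · rw [h, mul_zero] at hnm; omega
        · exact h
      have h1 : n / m = q := by rw [hnm, Nat.mul_div_cancel _ hm]
      rcases hdiv m hm with h | h | h
      · rw [h1] at h
        rw [← h]
        have hne4 : q ≠ 4 := fun e => by rw [e] at hq; norm_num at hq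
        have := hq.two_le
        exact Or.inr ⟨hq, by omega⟩
      · rw [h1] at h; have := hq.two_le; omega
      · exact absurd ⟨q, by rw [hnm]; ring⟩ h
    · push Not at hodd2
      obtain ⟨k, hk⟩ : ∃ k, n = 2 ^ k := by
        refine ⟨n.primeFactorsList.length, Nat.eq_prime_pow_of_unique_prime_dvd (by omega) ?_⟩
        intro d hd' hdn
        by_contra e
        exact hodd2 d hd' e hdn
      left
      have hk2 : 2 ≤ k := by
        by_contra h
        have : n ≤ 2 := by
          rw [hk]; calc (2:ℕ) ^ k ≤ 2 ^ 1 := Nat.pow_le_pow_right (by norm_num) (by omega)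
            _ = 2 := by norm_num
        omega
      obtain ⟨j, rfl⟩ := Nat.exists_eq_add_of_le hk2
      have h1 : n / 2 ^ j = 4 := by
        rw [hk, pow_add, Nat.mul_div_cancel _ (by positivity)]; norm_num
      rcases hdiv (2 ^ j) (by positivity) with h | h | h
      · omega
      · omega
      · exact absurd ⟨4, by rw [hk, pow_add]; ring⟩ h
  rcases hcases with h4 | ⟨hp, hp5⟩
  · -- order four: the class would lie in a normal 2-subgroup
    obtain ⟨h, hh1, hhodd, hinvh⟩ := S0200.result d₀ (hinv d₀ hd) (fun N hN hN2 hmem =>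
      hne1 d₀ hd (by rwa [Agent.TransP.normal_two_group_bot hsol N hN hN2, Subgroup.mem_bot] at hmem))
    obtain ⟨m, hm⟩ := hhodd
    have hv : (h ^ (m + 1)) * (h ^ (m + 1)) = h := by
      rw [← pow_add, show m + 1 + (m + 1) = (2 * m + 1) + 1 by ring, pow_succ, ← hm,
        pow_orderOf_eq_one, one_mul]
    have hhd : h * d₀ ∈ D := by
      have e : h ^ (m + 1) * d₀ * (h ^ (m + 1))⁻¹ = h * d₀ := by
        have h1 : d₀ * (h ^ (m + 1))⁻¹ * d₀⁻¹ = h ^ (m + 1) := by
          have : d₀ * h ^ (m + 1) * d₀⁻¹ = (h ^ (m + 1))⁻¹ := by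
            rw [← conj_pow, hinvh, inv_pow]
          have h' := congrArg (·⁻¹) this
          simpa [mul_assoc] using h'
        calc h ^ (m + 1) * d₀ * (h ^ (m + 1))⁻¹
            = h ^ (m + 1) * (d₀ * (h ^ (m + 1))⁻¹ * d₀⁻¹) * d₀ := by group
          _ = h * d₀ := by rw [h1, hv]
      exact e ▸ hnorm _ d₀ hd
    have e : orderOf (h * d₀ * d₀) = orderOf h := by rw [mul_assoc, hsq d₀ hd, mul_one]
    rcases hdich _ hhd d₀ hd with h2 | h2
    · have h3' : orderOf h ∣ 2 := orderOf_dvd_of_pow_eq_one (by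
        rw [pow_two]; simpa [mul_assoc, hsq d₀ hd] using h2)
      have := Nat.le_of_dvd (by norm_num) h3'
      have h0 : orderOf h ≠ 1 := fun e => hh1 (orderOf_eq_one_iff.1 e)
      omega
    · rw [e, h4] at h2; omega
  · have S : Agent.TransP.Sys n D := ⟨hp, hp5, hsq, hne1, hnorm, fun x hx y hy hxy => by
      rw [← hord x hx y hy hxy, pow_orderOf_eq_one]⟩
    exact Agent.TransP.sys_false hsol S hd hgen htr hY
      (fun x hx y hy y' hy' h1 h2 h3 h4 => htrans x hx y hy y' hy' h1 h2 (iff_of_true h3 h4))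
      (fun x hx y hy y' hy' h1 h2 => htrans x hx y hy y' hy'
        (fun e => h1 (e ▸ Commute.refl _)) (fun e => h2 (e ▸ Commute.refl _)) (iff_of_false h1 h2))

end Cfsg.Agent.S1617
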