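import Cfsg.Statements.S1630
import Cfsg.Agent.Lib.Spor.OrthTransvection

set_option autoImplicit false
open Cfsg

namespace Cfsg.Agent.S1630

/-- The orthogonal transvections of the minus-type orthogonal group in dimension ≥ 6 over the field with two elements form a generating conjugacy class of 3-transpositions. -/
theorem result (m : ℕ) (hm : 2 ≤ m) : Cfsg.IsThreeTranspositionClass {g : ↥(Cfsg.isometryGroup (ZMod 2) (Cfsg.quadFormMinus m (ZMod 2) 1 1)) | (((g : GL ((Fin m ⊕ Fin m) ⊕ Fin 2) (ZMod 2)) : Matrix ((Fin m ⊕ Fin m) ⊕ Fin 2) ((Fin m ⊕ Fin m) ⊕ Fin 2) (ZMod 2)) - 1).rank = 1} := by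
  have hc := Classical.OOmega.coe_minus (F := ZMod 2) m 1 1
  have hP := Classical.OOmega.formOf_pnd (m := m) (e := Equiv.refl ((Fin m ⊕ Fin m) ⊕ Fin 2))
    (Classical.OOmega.pnd_plane (F := ZMod 2) (a := 1) (b := 1) (by decide))
  rw [← hc]
  refine Spor.OrthTrans.isClass _ hP (by simp; omega) (u := Pi.single (Sum.inr 0) 1) ?_
  rw [hc]
  simp [Cfsg.quadFormMinus, Pi.single_apply]

end Cfsg.Agent.S1630
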