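import Cfsg.Statements.S1631
import Cfsg.Agent.Lib.Spor.UnitaryTransvection
-- import your own Cfsg.Agent.* helpers here

set_option autoImplicit false
open scoped MatrixGroups
open Cfsg

namespace Cfsg.Agent.S1631

/-- The unitary transvections of SU(n, 2), n ≥ 4, form a generating conjugacy class of 3-transpositions. -/
theorem result (F : Type) [Field F] [Fintype F] [DecidableEq F] (hF : Fintype.card F = 4) (n : ℕ) (hn : 4 ≤ n) : Cfsg.IsThreeTranspositionClass {g : ↥(Cfsg.SU n F 2) | (((g : Matrix.SpecialLinearGroup (Fin n) F) : Matrix (Fin n) (Fin n) F) - 1).rank = 1} := by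
  have : CharP F 2 := by
    obtain ⟨p, hp⟩ := CharP.exists F
    obtain ⟨k, hpp, hk⟩ := FiniteField.card F p
    have h2 : p ∣ 4 := by rw [← hF, hk]; exact dvd_pow_self p k.ne_zero
    have hp2 : p = 2 := (Nat.prime_dvd_prime_iff_eq hpp Nat.prime_two).1
      ((Nat.Prime.dvd_of_dvd_pow hpp (show p ∣ 2 ^ 2 by simpa using h2)))
    subst hp2
    exact hp
  letI : StarRing F := Small.Hermitian.starRingOfInvolution (frobenius F 2) (fun x => by
    rw [frobenius_def, frobenius_def, ← pow_mul, show 2 * 2 = Fintype.card F from hF.symm,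
      FiniteField.pow_card])
  exact Spor.UnitaryTrans.isClass (fun x => rfl) hF hn

end Cfsg.Agent.S1631
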