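import Cfsg.Statements.S1635
import Cfsg.Agent.Lib.Spor.SelfDualCode
import Cfsg.Agent.Lib.Spor.GolayTrans
import Cfsg.Agent.S0358
import Cfsg.Agent.S0359

set_option autoImplicit false
open Cfsg

namespace Cfsg.Agent.S1635

/-- Coset leaders of the length-24 code: a coset contains a unique word of weight ≤ 3, or else exactly six words of weight 4 and none lighter. -/
theorem result (w : Cfsg.GolayPt → ZMod 2) : ({v : Cfsg.GolayPt → ZMod 2 | hammingNorm v ≤ 4 ∧ w - v ∈ Cfsg.golayCode}.ncard = 1 ∧ ∃ v : Cfsg.GolayPt → ZMod 2, hammingNorm v ≤ 3 ∧ w - v ∈ Cfsg.golayCode) ∨ ({v : Cfsg.GolayPt → ZMod 2 | hammingNorm v ≤ 4 ∧ w - v ∈ Cfsg.golayCode}.ncard = 6 ∧ ∀ v : Cfsg.GolayPt → ZMod 2, w - v ∈ Cfsg.golayCode → hammingNorm v ≤ 4 → hammingNorm v = 4) := by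
  have h : Cfsg.Agent.Spor.Code24.Good Cfsg.golayCode := ⟨rfl, S0358.result,
    fun v hv w hw => Spor.code_orth hv hw, fun w hw h0 => by
      rcases S0359.result w hw with h | h | h | h | h
      · exact absurd (hammingNorm_eq_zero.1 h) h0
      all_goals omega⟩
  have e : {v : Cfsg.GolayPt → ZMod 2 | hammingNorm v ≤ 4 ∧ w - v ∈ Cfsg.golayCode} =
      {v : Cfsg.GolayPt → ZMod 2 | v - w ∈ Cfsg.golayCode ∧ hammingNorm v ≤ 4} := by
    ext v
    rw [Set.mem_ofPred_eq, Set.mem_ofPred_eq, and_comm, ← Submodule.neg_mem_iff, neg_sub]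
  rcases Cfsg.Agent.Spor.Code24.coset_leaders h w with ⟨u, hu, h3⟩ | ⟨h6, hall⟩
  · left
    have hm := Set.ext_iff.1 hu u
    refine ⟨by rw [e, hu, Set.ncard_singleton], u, h3, ?_⟩
    rw [← Submodule.neg_mem_iff, neg_sub]
    exact (hm.2 rfl).1
  · right
    refine ⟨by rw [e, h6], fun v hv hv4 => (hall v ⟨?_, hv4⟩).1⟩
    rw [← Submodule.neg_mem_iff, neg_sub]
    exact hv

end Cfsg.Agent.S1635
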