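import Cfsg.Statements.S1636
import Cfsg.Agent.Lib.Spor.GolayTrios

set_option autoImplicit false
open Cfsg
open Cfsg.Agent.Spor

namespace Cfsg.Agent.S1636

/-- The punctured length-23 code has weight distribution 0^1 7^253 8^506 11^1288 12^1288 15^506 16^253 23^1. -/
theorem result : {u : ZMod 23 → ZMod 2 | ∃ w ∈ Cfsg.golayCode, ∀ x : ZMod 23, u x = w (some x)}.ncard = 4096 ∧ {u : ZMod 23 → ZMod 2 | u ∈ {u : ZMod 23 → ZMod 2 | ∃ w ∈ Cfsg.golayCode, ∀ x : ZMod 23, u x = w (some x)} ∧ hammingNorm u = 7}.ncard = 253 ∧ {u : ZMod 23 → ZMod 2 | u ∈ {u : ZMod 23 → ZMod 2 | ∃ w ∈ Cfsg.golayCode, ∀ x : ZMod 23, u x = w (some x)} ∧ hammingNorm u = 8}.ncard = 506 ∧ {u : ZMod 23 → ZMod 2 | u ∈ {u : ZMod 23 → ZMod 2 | ∃ w ∈ Cfsg.golayCode, ∀ x : ZMod 23, u x = w (some x)} ∧ hammingNorm u = 11}.ncard = 1288 ∧ {u : ZMod 23 → ZMod 2 | u ∈ {u : ZMod 23 → ZMod 2 | ∃ w ∈ Cfsg.golayCode, ∀ x : ZMod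 23, u x = w (some x)} ∧ hammingNorm u = 12}.ncard = 1288 ∧ {u : ZMod 23 → ZMod 2 | u ∈ {u : ZMod 23 → ZMod 2 | ∃ w ∈ Cfsg.golayCode, ∀ x : ZMod 23, u x = w (some x)} ∧ hammingNorm u = 15}.ncard = 506 ∧ {u : ZMod 23 → ZMod 2 | u ∈ {u : ZMod 23 → ZMod 2 | ∃ w ∈ Cfsg.golayCode, ∀ x : ZMod 23, u x = w (some x)} ∧ hammingNorm u = 16}.ncard = 253 ∧ ∀ u ∈ {u : ZMod 23 → ZMod 2 | ∃ w ∈ Cfsg.golayCode, ∀ x : ZMod 23, u x = w (some x)}, u ≠ 0 → 7 ≤ hammingNorm u := by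
  have hs := punct_summary.1
  simp only [List.map_cons, List.map_nil, List.cons.injEq, and_true] at hs
  obtain ⟨h7, h8, h11, h12, h15, h16⟩ := hs
  refine ⟨?_, (punct_count 7).trans h7, (punct_count 8).trans h8, (punct_count 11).trans h11,
    (punct_count 12).trans h12, (punct_count 15).trans h15, (punct_count 16).trans h16, ?_⟩
  · rw [punct_set, Set.InjOn.ncard_image punct_injOn, ← Nat.card_coe_set_eq]
    exact card_golayCode
  · rintro u ⟨w, hw, h⟩ hu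
    obtain rfl : u = punct w := funext h
    rw [pc_wmask_punct]
    refine (punct_summary.2 _ (mem_code.1 hw)).resolve_left fun h0 => hu ?_
    obtain rfl : w = 0 := wmask_injective (h0.trans wmask_zero.symm)
    rfl

end Cfsg.Agent.S1636
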