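import Cfsg.Statements.S1637
import Cfsg.Agent.Lib.Spor.SelfDualCode
import Cfsg.Agent.Lib.Spor.GolayTrans
import Cfsg.Agent.S0358
import Cfsg.Agent.S0359

set_option autoImplicit false
open Cfsg

namespace Cfsg.Agent.S1637

/-- The punctured length-23 code is a perfect 3-error-correcting code: each word of length 23 is within distance 3 of exactly one codeword. -/
theorem result (u : ZMod 23 → ZMod 2) : ∃! c : ZMod 23 → ZMod 2, c ∈ {u : ZMod 23 → ZMod 2 | ∃ w ∈ Cfsg.golayCode, ∀ x : ZMod 23, u x = w (some x)} ∧ hammingDist u c ≤ 3 := by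
  classical
  have h : Cfsg.Agent.Spor.Code24.Good Cfsg.golayCode := ⟨rfl, S0358.result,
    fun v hv w hw => Spor.code_orth hv hw, fun w hw h0 => by
      rcases S0359.result w hw with h | h | h | h | h
      · exact absurd (hammingNorm_eq_zero.1 h) h0
      all_goals omega⟩
  let ext0 : (ZMod 23 → ZMod 2) → Cfsg.GolayPt → ZMod 2 := fun u p => p.elim 0 u
  have dist : ∀ (v : Cfsg.GolayPt → ZMod 2), hammingNorm (fun x => v (some x)) +
      (if v none = 0 then 0 else 1) = hammingNorm v := by
    intro v
    unfold hammingNorm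
    rw [Finset.card_filter, Finset.card_filter]
    refine Eq.symm ?_
    rw [Fintype.sum_option, add_comm]
    congr 1
    split_ifs <;> simp_all
  have key : ∃ v : Cfsg.GolayPt → ZMod 2, v - ext0 u ∈ Cfsg.golayCode ∧
      hammingNorm (fun x => v (some x)) ≤ 3 := by
    rcases Cfsg.Agent.Spor.Code24.coset_leaders h (ext0 u) with ⟨v, hv, h3⟩ | ⟨h6, hall⟩
    · exact ⟨v, ((Set.ext_iff.1 hv v).2 rfl).1, by have := dist v; omega⟩
    · set S := {v : Cfsg.GolayPt → ZMod 2 | v - ext0 u ∈ Cfsg.golayCode ∧ hammingNorm v ≤ 4}
      by_contra hcon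
      push Not at hcon
      have hnone : ∀ v ∈ S, v none = 0 := fun v hv => by
        by_contra h0
        have := dist v
        rw [if_neg h0, (hall v hv).1] at this
        have := hcon v hv.1
        omega
      have hdis : (S.toFinset : Set (Cfsg.GolayPt → ZMod 2)).PairwiseDisjoint Cfsg.Agent.Spor.Code24.supp := by
        intro v hv v' hv' hne
        exact (hall v (Set.mem_toFinset.1 hv)).2 v' (Set.mem_toFinset.1 hv') hne
      have hsub : S.toFinset.biUnion Cfsg.Agent.Spor.Code24.supp ⊆ Finset.univ.erase none := by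
        intro p hp
        obtain ⟨v, hv, hpv⟩ := Finset.mem_biUnion.1 hp
        refine Finset.mem_erase.2 ⟨?_, Finset.mem_univ _⟩
        rintro rfl
        exact (Finset.mem_filter.1 hpv).2 (hnone v (Set.mem_toFinset.1 hv))
      have hc := Finset.card_le_card hsub
      rw [Finset.card_biUnion hdis, Finset.card_erase_of_mem (Finset.mem_univ _),
        Finset.sum_congr rfl (fun v hv => (Cfsg.Agent.Spor.Code24.norm_eq v).symm.trans
          (hall v (Set.mem_toFinset.1 hv)).1), Finset.sum_const, ← Set.ncard_eq_toFinset_card',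
        h6, Finset.card_univ, h.card] at hc
      simp at hc
  obtain ⟨v, hv, hv3⟩ := key
  refine ⟨fun x => (ext0 u - v) (some x), ⟨⟨ext0 u - v, ?_, fun _ => rfl⟩, ?_⟩, ?_⟩
  · rw [← Submodule.neg_mem_iff, neg_sub]; exact hv
  · rw [hammingDist_eq_hammingNorm]
    refine le_of_eq_of_le (congrArg hammingNorm ?_) hv3
    funext x
    simp [ext0]
    generalize u x = a
    generalize v (some x) = b
    revert a b
    decide
  · rintro c ⟨⟨z, hz, hcz⟩, hd⟩
    funext x
    have hz0 : z = ext0 u - v := by
      by_contra hne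
      have hC : z - (ext0 u - v) ∈ Cfsg.golayCode :=
        sub_mem hz (by rw [← Submodule.neg_mem_iff, neg_sub]; exact hv)
      have h8 := h.min _ hC (sub_ne_zero.2 hne)
      have hdd := dist (z - (ext0 u - v))
      have ht : hammingNorm (fun x => (z - (ext0 u - v)) (some x)) ≤ 6 := by
        have e1 : (fun x => (z - (ext0 u - v)) (some x)) = (c - u) + (fun x => v (some x)) := by
          funext x
          simp [ext0, hcz x]
          ring
        rw [e1]
        have := Cfsg.Agent.Spor.Code24.norm_add (c - u) (fun x => v (some x))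
        rw [hammingDist_comm, hammingDist_eq_hammingNorm] at hd
        have e2 : -c + u = c - u := by
          rw [Cfsg.Agent.Spor.Code24.sub_eq_add', ← Cfsg.Agent.Spor.Code24.sub_eq_add' c u, eq_comm,
            Cfsg.Agent.Spor.Code24.sub_eq_add']
          funext x
          simp
        rw [e2] at hd
        omega
      split_ifs at hdd <;> omega
    rw [hcz x, hz0]

end Cfsg.Agent.S1637
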