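import Cfsg.Statements.S1638
import Cfsg.Agent.Lib.Spor.GolayTupleFacts

set_option autoImplicit false
open scoped Pointwise
open Cfsg

namespace Cfsg.Agent.S1638

open scoped Pointwise

/-- Fix two points p ≠ q and a pair s of two further points. Among the pairs avoiding p, q and disjoint from s, exactly 30 lie in an octad together with p, q and s and exactly 160 do not; and any two pairs other than s that meet s in equally many points and agree on that octad property are carried to one another by an element of the group of the length-24 code fixing p, q and s. -/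
theorem result (p q : Cfsg.GolayPt) (hpq : p ≠ q) (s : Finset Cfsg.GolayPt) (hs : (s.card = 2 ∧ p ∉ s ∧ q ∉ s)) : {t : Finset Cfsg.GolayPt | (t.card = 2 ∧ p ∉ t ∧ q ∉ t) ∧ Disjoint s t ∧ (∃ o ∈ Cfsg.octads, p ∈ o ∧ q ∈ o ∧ s ∪ t ⊆ o)}.ncard = 30 ∧ {t : Finset Cfsg.GolayPt | (t.card = 2 ∧ p ∉ t ∧ q ∉ t) ∧ Disjoint s t ∧ ¬ (∃ o ∈ Cfsg.octads, p ∈ o ∧ q ∈ o ∧ s ∪ t ⊆ o)}.ncard = 160 ∧ ∀ t t' : Finset Cfsg.GolayPt, (t.card = 2 ∧ p ∉ t ∧ q ∉ t) → (t'.card = 2 ∧ p ∉ t' ∧ q ∉ t') → t ≠ s → t' ≠ s → (s ∩ t).card = (s ∩ t').card → ((∃ o ∈ Cfsg.octads, p ∈ o ∧ q ∈ o ∧ s ∪ t ⊆ o) ↔ (∃ o ∈ Cfsg.octads, p ∈ o ∧ q ∈ o ∧ s ∪ t' ⊆ o)) → ∃ g : Equiv.Perm Cfsg.GolayPt, g ∈ Cfsg.M24 ∧ g p = p ∧ g q = q ∧ g • s = s ∧ g • t = t' := by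
  obtain ⟨σ₁, hσ₁, ep, eq⟩ := Spor.exists_map_points hpq
  have h1c : (Spor.ofMask 1).card = 1 ∧ (Spor.ofMask 2).card = 1 := by decide +kernel
  obtain ⟨τ, hτ, hτfix, hτ'⟩ := Spor.tupP2Pair_classes (Spor.ofMask 12)
    (show (Spor.ofMask 12).card = 2 by decide +kernel) (σ₁⁻¹ • s) ((Finset.card_smul_finset _ _).trans hs.1) (by
      have h1 : (Spor.ofMask 1 ∩ σ₁⁻¹ • s).card = if p ∈ s then 1 else 0 := by
        rw [← Finset.card_smul_finset σ₁, Finset.smul_finset_inter, smul_inv_smul, ep, Spor.card_singleton_inter]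
      have h2 : (Spor.ofMask 2 ∩ σ₁⁻¹ • s).card = if q ∈ s then 1 else 0 := by
        rw [← Finset.card_smul_finset σ₁, Finset.smul_finset_inter, smul_inv_smul, eq, Spor.card_singleton_inter]
      have h3 : (Spor.ofMask 1 ∩ Spor.ofMask 12).card = 0 ∧ (Spor.ofMask 2 ∩ Spor.ofMask 12).card = 0 := by decide +kernel
      simp [Spor.tupInv, Spor.tupP2PairA, h1, h2, h3, hs.2.1, hs.2.2])
  have hσ : σ₁ * τ ∈ M24 := mul_mem hσ₁ hτ
  set σ := σ₁ * τ
  have hp' : σ • Spor.ofMask 1 = {p} := by rw [mul_smul, hτfix 1 (by simp [Spor.tupP2PairA]), ep]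
  have hq' : σ • Spor.ofMask 2 = {q} := by rw [mul_smul, hτfix 2 (by simp [Spor.tupP2PairA]), eq]
  have hss : σ • Spor.ofMask 12 = s := by rw [mul_smul, hτ', smul_inv_smul]
  have h15 : σ • Spor.ofMask 15 = {p} ∪ {q} ∪ s := by
    rw [show Spor.ofMask 15 = Spor.ofMask 1 ∪ Spor.ofMask 2 ∪ Spor.ofMask 12 by decide +kernel,
      Finset.smul_finset_union, Finset.smul_finset_union, hp', hq', hss]
  have hoct : ∀ t : Finset GolayPt, (∃ o ∈ octads, p ∈ o ∧ q ∈ o ∧ s ∪ t ⊆ o) ↔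
      Spor.inSomeOctad (σ • Spor.ofMask 15 ∪ t) = true := by
    intro t
    rw [Spor.inSomeOctad_iff, h15]
    simp only [Finset.union_subset_iff, Finset.singleton_subset_iff, and_assoc]
  have hinv : ∀ t, (Spor.tupInv ((Spor.tupP2sPairA.map Spor.ofMask).map (σ • ·)) (σ • t),
      Spor.inSomeOctad (σ • Spor.ofMask 15 ∪ σ • t)) = Spor.pqsInv t := by
    intro t
    rw [Spor.tupInv_smul, ← Finset.smul_finset_union, Spor.inSomeOctad_smul hσ]
    rfl
  have hP : ∀ (b : Bool) (t : Finset GolayPt),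
      (p ∉ σ • t ∧ q ∉ σ • t ∧ Disjoint s (σ • t) ∧ Spor.inSomeOctad (σ • Spor.ofMask 15 ∪ σ • t) = b) ↔
        ((Spor.ofMask 1 ∩ t).card ≠ 1 ∧ (Spor.ofMask 2 ∩ t).card ≠ 1 ∧ (Spor.ofMask 12 ∩ t).card = 0 ∧
          Spor.inSomeOctad (Spor.ofMask 15 ∪ t) = b) := by
    intro b t
    rw [Spor.smul_mem_iff hp' h1c.1, Spor.smul_mem_iff hq' h1c.2, ← Finset.smul_finset_union,
      Spor.inSomeOctad_smul hσ, Finset.card_eq_zero, ← Finset.disjoint_iff_inter_eq_empty, ← hss,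
      Finset.disjoint_iff_inter_eq_empty, ← Finset.smul_finset_inter, Finset.smul_finset_eq_empty,
      ← Finset.disjoint_iff_inter_eq_empty]
  have hcnt : ∀ b : Bool, {t | t ∈ {u : Finset GolayPt | u.card = 2} ∧
      (p ∉ t ∧ q ∉ t ∧ Disjoint s t ∧ Spor.inSomeOctad (σ • Spor.ofMask 15 ∪ t) = b)}.ncard =
      ((Spor.subMasks 2).filter fun m => !(Spor.pc (1 &&& m) == 1) && (!(Spor.pc (2 &&& m) == 1) &&
        ((Spor.pc (12 &&& m) == 0) && ((Spor.octMasks.any fun o => o &&& (15 ||| m) == 15 ||| m) == b)))).length := by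
    intro b
    rw [Spor.ncard_transfer hσ Spor.pairs_inv (hP b)]
    refine Spor.ncard_pair_pred _ fun u => ?_
    rw [Bool.and_eq_true, Bool.and_eq_true, Bool.and_eq_true, Bool.not_eq_true', Bool.not_eq_true',
      beq_eq_false_iff_ne, beq_eq_false_iff_ne, beq_iff_eq, beq_iff_eq, Spor.inSomeOctad, Spor.mask_union,
      ← Spor.pc_mask, ← Spor.pc_mask, ← Spor.pc_mask, Spor.mask_inter, Spor.mask_inter, Spor.mask_inter,
      Spor.mask_ofMask (show 1 < 2 ^ 24 by norm_num), Spor.mask_ofMask (show 2 < 2 ^ 24 by norm_num),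
      Spor.mask_ofMask (show 12 < 2 ^ 24 by norm_num), Spor.mask_ofMask (show 15 < 2 ^ 24 by norm_num)]
  refine ⟨(congrArg Set.ncard ?_).trans ((hcnt true).trans (by decide +kernel)),
    (congrArg Set.ncard ?_).trans ((hcnt false).trans (by decide +kernel)), fun t t' ht ht' _ _ h1 h2 => ?_⟩
  · ext t
    simp only [Set.mem_setOf_eq, hoct]
    tauto
  · ext t
    simp only [Set.mem_setOf_eq, hoct, Bool.not_eq_true]
    tauto
  · obtain ⟨g, hg, hfix, hgo⟩ := Spor.tuple_transfer Spor.pairs_inv hσ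
      (inv' := fun t => (Spor.tupInv ((Spor.tupP2sPairA.map Spor.ofMask).map (σ • ·)) t,
        Spor.inSomeOctad (σ • Spor.ofMask 15 ∪ t))) hinv Spor.tupP2sPair_classes t ht.1 t' ht'.1 (by
      have h3 : Spor.inSomeOctad (σ • Spor.ofMask 15 ∪ t) = Spor.inSomeOctad (σ • Spor.ofMask 15 ∪ t') := by
        rw [Bool.eq_iff_iff, ← hoct, ← hoct]; exact h2
      simp [Spor.tupInv, Spor.tupP2sPairA, hp', hq', hss, Spor.card_singleton_inter, ht.2, ht'.2, h1, h3])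
    refine ⟨g, hg, Spor.fix_of_singleton ?_, Spor.fix_of_singleton ?_, ?_, hgo⟩
    · rw [← hp']; exact hfix 1 (by simp [Spor.tupP2sPairA])
    · rw [← hq']; exact hfix 2 (by simp [Spor.tupP2sPairA])
    · rw [← hss]; exact hfix 12 (by simp [Spor.tupP2sPairA])

end Cfsg.Agent.S1638
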