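import Cfsg.Statements.S1639
import Cfsg.Agent.Lib.Spor.GolayTupleFacts

set_option autoImplicit false
open scoped Pointwise
open Cfsg

namespace Cfsg.Agent.S1639

open scoped Pointwise

/-- The point stabiliser acts on the 1288 dodecads through the point with rank 4 and subdegrees 1, 165, 330, 792, distinguished by intersection 4, 8, 6 with the fixed dodecad. -/
theorem result (x : Cfsg.GolayPt) (d : Finset Cfsg.GolayPt) (hd : d ∈ Cfsg.dodecads) (hx : x ∈ d) : {d' : Finset Cfsg.GolayPt | d' ∈ Cfsg.dodecads ∧ x ∈ d' ∧ (d ∩ d').card = 4}.ncard = 165 ∧ {d' : Finset Cfsg.GolayPt | d' ∈ Cfsg.dodecads ∧ x ∈ d' ∧ (d ∩ d').card = 8}.ncard = 330 ∧ {d' : Finset Cfsg.GolayPt | d' ∈ Cfsg.dodecads ∧ x ∈ d' ∧ (d ∩ d').card = 6}.ncard = 792 ∧ ∀ d' d'' : Finset Cfsg.GolayPt, d' ∈ Cfsg.dodecads → d'' ∈ Cfsg.dodecads → x ∈ d' → x ∈ d'' → (d ∩ d').card = (d ∩ d'').card → ∃ g : Equiv.Perm Cfsg.GolayPt, g ∈ Cfsg.M24 ∧ g x = x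 ∧ g • d = d ∧ g • d' = d'' := by
  obtain ⟨σ₁, hσ₁, e₁⟩ := Spor.exists_map_point x
  obtain ⟨τ, hτ, hτfix, hτ'⟩ := Spor.tupP1Dod_classes (Spor.ofMask 165759) (by rw [Spor.mem_dodecads, Spor.mask_ofMask (by norm_num)]; decide +kernel)
    (σ₁⁻¹ • d) (Spor.smul_dodecad (inv_mem hσ₁) hd) (by
      have h1 : (Spor.ofMask 1 ∩ σ₁⁻¹ • d).card = if x ∈ d then 1 else 0 := by
        rw [← Finset.card_smul_finset σ₁, Finset.smul_finset_inter, smul_inv_smul, e₁, Spor.card_singleton_inter]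
      have h2 : (Spor.ofMask 1 ∩ Spor.ofMask 165759).card = 1 := by decide +kernel
      simp [Spor.tupInv, Spor.tupP1DodA, h1, h2, hx])
  have hσ : σ₁ * τ ∈ M24 := mul_mem hσ₁ hτ
  set σ := σ₁ * τ
  have hfix1 : τ • Spor.ofMask 1 = Spor.ofMask 1 := hτfix 1 (by simp [Spor.tupP1DodA])
  have hp : σ • Spor.ofMask 1 = {x} := by rw [mul_smul, hfix1, e₁]
  have hoo : σ • Spor.ofMask 165759 = d := by rw [mul_smul, hτ', smul_inv_smul]
  have h1c : (Spor.ofMask 1).card = 1 := by decide +kernel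
  have hcnt : ∀ k, {d' | d' ∈ dodecads ∧ x ∈ d' ∧ (d ∩ d').card = k}.ncard =
      (Spor.dodMasks.filter fun m => Spor.pc (1 &&& m) == 1 && (Spor.pc (165759 &&& m) == k)).length := by
    intro k
    rw [Spor.ncard_transfer hσ Spor.dodecads_inv
      (P := fun s => (Spor.ofMask 1 ∩ s).card = 1 ∧ (Spor.ofMask 165759 ∩ s).card = k)
      (fun s => by rw [← hoo, ← Finset.smul_finset_inter, Finset.card_smul_finset, Spor.smul_mem_iff hp h1c])]
    refine Spor.ncard_dodecad_pred _ fun s => ?_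
    rw [Bool.and_eq_true, beq_iff_eq, beq_iff_eq, ← Spor.pc_mask, ← Spor.pc_mask, Spor.mask_inter, Spor.mask_inter,
      Spor.mask_ofMask (show 1 < 2 ^ 24 by norm_num), Spor.mask_ofMask (show 165759 < 2 ^ 24 by norm_num)]
  refine ⟨(hcnt 4).trans (by decide +kernel), (hcnt 8).trans (by decide +kernel), (hcnt 6).trans (by decide +kernel),
    fun o' o'' ho' ho'' hx' hx'' h => ?_⟩
  obtain ⟨g, hg, hfix, hgo⟩ := Spor.tuple_transfer Spor.dodecads_inv hσ
    (inv' := Spor.tupInv ((Spor.tupP1dDodA.map Spor.ofMask).map (σ • ·))) (fun s => Spor.tupInv_smul σ _ s)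
    Spor.tupP1dDod_classes o' ho' o'' ho'' (by
      simp [Spor.tupInv, Spor.tupP1dDodA, hp, hoo, Spor.card_singleton_inter, hx', hx'', h])
  refine ⟨g, hg, Spor.fix_of_singleton ?_, ?_, hgo⟩
  · rw [← hp]; exact hfix 1 (by simp [Spor.tupP1dDodA])
  · rw [← hoo]; exact hfix 165759 (by simp [Spor.tupP1dDodA])

end Cfsg.Agent.S1639
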