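import Cfsg.Statements.S1668
import Cfsg.Agent.Lib.Spor.SuzUniqueRep

set_option autoImplicit false
open Cfsg

namespace Cfsg.Agent.S1668

/-- Recognition of the sporadic Suzuki group as a rank 3 permutation group: a transitive permutation group on 1782 points in which the stabiliser of a point is isomorphic to the Chevalley group G₂(4) and has two further orbits, of sizes 416 and 1365, is isomorphic to the sporadic Suzuki group. -/
theorem result {Ω : Type*} [Fintype Ω] [DecidableEq Ω] (hΩ : Fintype.card Ω = 1782) (G : Subgroup (Equiv.Perm Ω)) [MulAction.IsPretransitive G Ω] (a : Ω) (K : Type) [Field K] [Fintype K] (hK : Fintype.card K = 4) (e : MulAction.stabilizer G a ≃* Cfsg.Lie.chevG2.group K) (b c : Ω) (hb : (MulAction.orbit (MulAction.stabilizer G a) b).ncard = 416) (hc : (MulAction.orbit (MulAction.stabilizer G a) c).ncard = 1365) : Cfsg.Spor.IsoSuz G := by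
  obtain ⟨e1⟩ := Cfsg.Agent.Lie.GTwoFourHallJanko.group_map (FiniteField.ringEquivOfCardEq (K := K)
    (K' := Cfsg.Agent.Spor.SpFour.F4) (hK.trans Cfsg.Agent.Spor.SpFour.F4.card.symm))
  obtain ⟨e2⟩ := Cfsg.Agent.Spor.SuzCert.G24Act.hsub_equiv
  exact Cfsg.Agent.Spor.SuzUnique.isoSuz ⟨G, a, b, c, inferInstance, hΩ, hb, hc⟩
    (e2.trans (e1.symm.trans e.symm))

end Cfsg.Agent.S1668
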