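import Cfsg.Statements.S1677
import Cfsg.Agent.Lib.Spor.CoWC.Main
import Cfsg.Agent.Lib.Spor.CoWC.Setting
import Cfsg.Agent.Lib.Spor.CoAmal.Finish
import Cfsg.Agent.Lib.Fusion.LocalConstrained

set_option autoImplicit false
open Cfsg

namespace Cfsg.Agent.S1677

/-- The first Conway group from an involution centraliser: let G be a finite group with no non-trivial normal subgroup of odd order and trivial centre, and let t be an involution whose centraliser C is 2-constrained with O₂(C) extraspecial of order 2 ^ 9 and C / O₂(C) isomorphic to Ω⁺(8, 2), the commutator subgroup of the isometry group of the hyperbolic quadratic form in dimension 8 over the field with 2 elements. Then G is isomorphic to the first Conway group (the Leech lattice automorphism group modulo its centre). -/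
theorem result {G : Type*} [Group G] [Finite G] (hO : Cfsg.oddCore G = ⊥) (hZ : Subgroup.center G = ⊥) (t : G) (ht : orderOf t = 2) (hcon : Cfsg.IsPConstrained 2 (Subgroup.centralizer ({t} : Set G))) (hQ : Cfsg.IsExtraspecial 2 (Cfsg.pCore 2 (Subgroup.centralizer ({t} : Set G)))) (hcard : Nat.card (Cfsg.pCore 2 (Subgroup.centralizer ({t} : Set G))) = 2 ^ 9) (e : (Subgroup.centralizer ({t} : Set G)) ⧸ Cfsg.pCore 2 (Subgroup.centralizer ({t} : Set G)) ≃* Cfsg.Omega (ZMod 2) (Cfsg.quadFormPlus 4 (ZMod 2))) : Cfsg.Spor.IsoCo1 G := by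
  haveI : Fact (Nat.Prime 2) := ⟨Nat.prime_two⟩
  obtain ⟨hcent, -⟩ := Cfsg.Agent.Spor.CoWC.fitting_eq t hcon hcard e
  by_cases hwc : ∃ g : G, (∃ hq : g * t * g⁻¹ ∈ Subgroup.centralizer ({t} : Set G),
      (⟨g * t * g⁻¹, hq⟩ : Subgroup.centralizer ({t} : Set G)) ∈ Cfsg.pCore 2 (Subgroup.centralizer ({t} : Set G))) ∧
      g * t * g⁻¹ ≠ t
  · exact Cfsg.Agent.Spor.CoAmal.iso_co1 (Cfsg.Agent.Spor.CoT.hyp_of_statement t ht _
      (Cfsg.Agent.Fusion.gfit_eq_pCore_iff.2 hcent) hQ hcard e hwc)
  · exact (Cfsg.Agent.Spor.CoWC.contradiction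
      (Cfsg.Agent.Spor.CoWC.hyp0_of_statement t ht _ hQ hcard hcent e hwc) hO hZ).elim

end Cfsg.Agent.S1677
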