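import Cfsg.Statements.S1679
import Cfsg.Agent.Lib.Spor.SuzG24

set_option autoImplicit false
open Cfsg

namespace Cfsg.Agent.S1679

open Cfsg.Agent.Spor.CC Cfsg.Agent.Spor.SuzCert in
theorem sub_eq : (((Subgroup.closure ({Cfsg.Spor.Suz.a, Cfsg.Spor.Suz.b, Cfsg.Spor.Suz.c, Cfsg.Spor.Suz.d, Cfsg.Spor.Suz.e, Cfsg.Spor.Suz.f} : Set (FreeGroup Cfsg.Spor.Suz.Gen))).map (PresentedGroup.mk (Cfsg.Spor.coxRelators Cfsg.Spor.Suz.edges ∪ {r | r ∈ Cfsg.Spor.Suz.extra})))) = pres.wsub IdxG24.subW := by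
  rw [MonoidHom.map_closure, Pres.wsub]
  congr 1
  simp only [Set.image_insert_eq, Set.image_singleton]
  symm
  ext s
  simp only [IdxG24.subW, Set.mem_setOf_eq, List.mem_cons, List.not_mem_nil, or_false,
    or_and_right, exists_or, exists_eq_left, Set.mem_insert_iff, Set.mem_singleton_iff]
  simp only [List.map_cons, List.map_nil, List.prod_cons, List.prod_nil, mul_one]
  rfl


/-- In the presented sporadic Suzuki group (generators a, …, g), the subgroup generated by the images of a, …, f is isomorphic to the adjoint Chevalley group of type G₂ over a field with four elements. -/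
theorem result : ∃ (K : Type) (_ : Field K) (_ : Fintype K), Fintype.card K = 4 ∧ Nonempty ((((Subgroup.closure ({Cfsg.Spor.Suz.a, Cfsg.Spor.Suz.b, Cfsg.Spor.Suz.c, Cfsg.Spor.Suz.d, Cfsg.Spor.Suz.e, Cfsg.Spor.Suz.f} : Set (FreeGroup Cfsg.Spor.Suz.Gen))).map (PresentedGroup.mk (Cfsg.Spor.coxRelators Cfsg.Spor.Suz.edges ∪ {r | r ∈ Cfsg.Spor.Suz.extra})))) ≃* Cfsg.Lie.chevG2.group K) := by
  refine ⟨Cfsg.Agent.Spor.SpFour.F4, inferInstance, inferInstance, Cfsg.Agent.Spor.SpFour.F4.card, ?_⟩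
  rw [sub_eq]
  exact Cfsg.Agent.Spor.SuzCert.G24Act.hsub_equiv

end Cfsg.Agent.S1679
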