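import Cfsg.Statements.S1681
import Cfsg.Agent.Lib.Spor.SuzIndexK

set_option autoImplicit false
open Cfsg

namespace Cfsg.Agent.S1681

open Cfsg.Agent.Spor.CC Cfsg.Agent.Spor.SuzCert in
theorem sub_eq : (Subgroup.closure ({Cfsg.Spor.Suz.a, Cfsg.Spor.Suz.b, Cfsg.Spor.Suz.c, Cfsg.Spor.Suz.d, Cfsg.Spor.Suz.f, Cfsg.Spor.Suz.g} : Set (FreeGroup Cfsg.Spor.Suz.Gen))).map (PresentedGroup.mk (Cfsg.Spor.coxRelators Cfsg.Spor.Suz.edges ∪ {r | r ∈ Cfsg.Spor.Suz.extra})) = pres.sub IdxK.letters := by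
  rw [MonoidHom.map_closure, Pres.sub]
  congr 1
  have e : {x : ℕ | x ∈ IdxK.letters} = {0, 1, 2, 3, 5, 6} := by ext x; simp [IdxK.letters]
  rw [e]
  simp only [Set.image_insert_eq, Set.image_singleton]
  rfl


/-- In the presented sporadic Suzuki group (generators a, …, g), the subgroup generated by the images of a, b, c, d, f, g has index 22880. -/
theorem result : (((Subgroup.closure ({Cfsg.Spor.Suz.a, Cfsg.Spor.Suz.b, Cfsg.Spor.Suz.c, Cfsg.Spor.Suz.d, Cfsg.Spor.Suz.f, Cfsg.Spor.Suz.g} : Set (FreeGroup Cfsg.Spor.Suz.Gen))).map (PresentedGroup.mk (Cfsg.Spor.coxRelators Cfsg.Spor.Suz.edges ∪ {r | r ∈ Cfsg.Spor.Suz.extra})))).index = 22880 := by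
  rw [sub_eq]
  exact Cfsg.Agent.Spor.SuzCert.index_k

end Cfsg.Agent.S1681
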