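import Cfsg.Statements.S1682
import Cfsg.Agent.Lib.Spor.HeSp4

set_option autoImplicit false
open Cfsg

namespace Cfsg.Agent.S1682

open Cfsg.Agent.Spor.CC Cfsg.Agent.Spor.HeCert in
theorem sub_eq : (Subgroup.closure ({Cfsg.Spor.He.a, Cfsg.Spor.He.c, Cfsg.Spor.He.d, Cfsg.Spor.He.e, Cfsg.Spor.He.f, (Cfsg.Spor.He.a * Cfsg.Spor.He.b) ^ 2, (Cfsg.Spor.He.b * Cfsg.Spor.He.c * Cfsg.Spor.He.d * Cfsg.Spor.He.e) ^ 7} : Set (FreeGroup Cfsg.Spor.He.Gen))).map (PresentedGroup.mk (Cfsg.Spor.coxRelators Cfsg.Spor.He.edges ∪ {r | r ∈ Cfsg.Spor.He.extra})) = pres.wsub IdxS44.subW := by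
  rw [MonoidHom.map_closure, Pres.wsub]
  congr 1
  simp only [Set.image_insert_eq, Set.image_singleton]
  symm
  ext s
  simp only [IdxS44.subW, Set.mem_setOf_eq, List.mem_cons, List.not_mem_nil, or_false,
    or_and_right, exists_or, exists_eq_left, Set.mem_insert_iff, Set.mem_singleton_iff]
  simp only [List.map_cons, List.map_nil, List.prod_cons, List.prod_nil, map_mul, pow_succ, pow_zero,
    mul_one, one_mul, mul_assoc]
  rfl



/-- In the presented Held group, the subgroup H generated by the images of a, c, d, e, f, (ab)^2 and (bcde)^7 has a normal subgroup of index 2 isomorphic to the 4-dimensional symplectic group over a field with four elements. -/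
theorem result : ∃ (N : Subgroup (((Subgroup.closure ({Cfsg.Spor.He.a, Cfsg.Spor.He.c, Cfsg.Spor.He.d, Cfsg.Spor.He.e, Cfsg.Spor.He.f, (Cfsg.Spor.He.a * Cfsg.Spor.He.b) ^ 2, (Cfsg.Spor.He.b * Cfsg.Spor.He.c * Cfsg.Spor.He.d * Cfsg.Spor.He.e) ^ 7} : Set (FreeGroup Cfsg.Spor.He.Gen))).map (PresentedGroup.mk (Cfsg.Spor.coxRelators Cfsg.Spor.He.edges ∪ {r | r ∈ Cfsg.Spor.He.extra}))))) (K : Type) (_ : Field K) (_ : Fintype K), N.Normal ∧ N.index = 2 ∧ Fintype.card K = 4 ∧ Nonempty (N ≃* Matrix.symplecticGroup (Fin 2) K) := by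
  rw [sub_eq]
  exact ⟨Cfsg.Agent.Spor.HeCert.Sp4Blocks.sympPart, Cfsg.Agent.Spor.SpFour.F4, inferInstance, inferInstance,
    Cfsg.Agent.Spor.HeCert.Sp4Blocks.sympPart_normal, Cfsg.Agent.Spor.HeCert.Sp4Blocks.sympPart_index, Cfsg.Agent.Spor.SpFour.F4.card,
    Cfsg.Agent.Spor.HeCert.Sp4Blocks.sympPart_equiv⟩

end Cfsg.Agent.S1682
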