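import Cfsg.Statements.S1683
import Cfsg.Agent.Lib.Spor.HeMain

set_option autoImplicit false
open Cfsg

namespace Cfsg.Agent.S1683

open Cfsg.Agent.Spor.CC Cfsg.Agent.Spor.HeCert in
theorem sub_eq : (Subgroup.closure ({Cfsg.Spor.He.a, Cfsg.Spor.He.c, Cfsg.Spor.He.d, Cfsg.Spor.He.e, Cfsg.Spor.He.f, (Cfsg.Spor.He.a * Cfsg.Spor.He.b) ^ 2, (Cfsg.Spor.He.b * Cfsg.Spor.He.c * Cfsg.Spor.He.d * Cfsg.Spor.He.e) ^ 7} : Set (FreeGroup Cfsg.Spor.He.Gen))).map (PresentedGroup.mk (Cfsg.Spor.coxRelators Cfsg.Spor.He.edges ∪ {r | r ∈ Cfsg.Spor.He.extra})) = pres.wsub IdxS44.subW := by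
  rw [MonoidHom.map_closure, Pres.wsub]
  congr 1
  simp only [Set.image_insert_eq, Set.image_singleton]
  symm
  ext s
  simp only [IdxS44.subW, Set.mem_setOf_eq, List.mem_cons, List.not_mem_nil, or_false,
    or_and_right, exists_or, exists_eq_left, Set.mem_insert_iff, Set.mem_singleton_iff]
  simp only [List.map_cons, List.map_nil, List.prod_cons, List.prod_nil, map_mul, pow_succ, pow_zero,
    mul_one, one_mul, mul_assoc]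
  rfl

open Cfsg.Agent.Spor.CC Cfsg.Agent.Spor.HeCert in
theorem lab_step : ((List.range 2058).all fun u => IdxS44.subW.all fun w =>
    fld RepS44.labels 4 (ev RepS44.rows 7 w u) == fld RepS44.labels 4 u) = true := by decide +kernel

open Cfsg.Agent.Spor.CC Cfsg.Agent.Spor.HeCert in
theorem lab_const (s : pres.Grp) (hs : s ∈ pres.wsub IdxS44.subW) :
    ∀ u : Fin rep.P.n, fld RepS44.labels 4 ((rep.hom s u : Fin rep.P.n) : ℕ) = fld RepS44.labels 4 (u : ℕ) := by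
  induction hs using Subgroup.closure_induction with
  | mem x hx =>
    obtain ⟨w, hw, rfl⟩ := hx
    intro u
    rw [ev_eq rep.valid pres.gen rep.hom rep.hom_gen
      (fun x hx => lettersOK_spec (ng := 7) (W := IdxS44.subW) (by decide +kernel) hw hx)]
    exact eq_of_beq (List.all_eq_true.mp (List.all_eq_true.mp lab_step u (List.mem_range.mpr u.2)) w hw)
  | one => intro u; simp
  | mul p q _ _ hp hq => intro u; rw [map_mul, Equiv.Perm.mul_apply, hp, hq]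
  | inv p _ hp =>
    intro u
    have := hp (rep.hom p⁻¹ u)
    rw [map_inv, ← Equiv.Perm.mul_apply, mul_inv_cancel, Equiv.Perm.one_apply] at this
    rw [map_inv, ← this]


open Cfsg.Agent.Spor.CC Cfsg.Agent.Spor.HeCert in
theorem orbit_lab (p₁ p₂ : pres.Grp)
    (heq : MulAction.orbit (pres.wsub IdxS44.subW) (p₁ : pres.Grp ⧸ pres.wsub IdxS44.subW) =
      MulAction.orbit (pres.wsub IdxS44.subW) (p₂ : pres.Grp ⧸ pres.wsub IdxS44.subW)) :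
    fld RepS44.labels 4 ((rep.hom p₂ rep.z : Fin rep.P.n) : ℕ) =
      fld RepS44.labels 4 ((rep.hom p₁ rep.z : Fin rep.P.n) : ℕ) := by
  obtain ⟨⟨s, hs'⟩, hs⟩ := heq.symm ▸ MulAction.mem_orbit_self
    (M := pres.wsub IdxS44.subW) (p₂ : pres.Grp ⧸ pres.wsub IdxS44.subW)
  have h : (((s * p₁ : pres.Grp)) : pres.Grp ⧸ pres.wsub IdxS44.subW) = p₂ := hs
  rw [QuotientGroup.eq] at h
  have h' : (s * p₁)⁻¹ * p₂ ∈ stab rep.hom rep.z := stab_eq.1 ▸ h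
  rw [mem_stab, map_mul, map_inv, Equiv.Perm.mul_apply, Equiv.Perm.inv_eq_iff_eq, map_mul,
    Equiv.Perm.mul_apply] at h'
  rw [h', lab_const s hs']

/-- In the presented Held group, let H be the subgroup generated by the images of a, c, d, e, f, (ab)^2 and (bcde)^7. Then H has index 2058, there are four distinct H-orbits on the cosets of H other than H itself, of sizes 136, 136, 425 and 1360. -/
theorem result : (((Subgroup.closure ({Cfsg.Spor.He.a, Cfsg.Spor.He.c, Cfsg.Spor.He.d, Cfsg.Spor.He.e, Cfsg.Spor.He.f, (Cfsg.Spor.He.a * Cfsg.Spor.He.b) ^ 2, (Cfsg.Spor.He.b * Cfsg.Spor.He.c * Cfsg.Spor.He.d * Cfsg.Spor.He.e) ^ 7} : Set (FreeGroup Cfsg.Spor.He.Gen))).map (PresentedGroup.mk (Cfsg.Spor.coxRelators Cfsg.Spor.He.edges ∪ {r | r ∈ Cfsg.Spor.He.extra})))).index = 2058 ∧ ∃ q₁ q₂ q₃ q₄ : Cfsg.Spor.He ⧸ (((Subgroup.closure ({Cfsg.Spor.He.a,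 Cfsg.Spor.He.c, Cfsg.Spor.He.d, Cfsg.Spor.He.e, Cfsg.Spor.He.f, (Cfsg.Spor.He.a * Cfsg.Spor.He.b) ^ 2, (Cfsg.Spor.He.b * Cfsg.Spor.He.c * Cfsg.Spor.He.d * Cfsg.Spor.He.e) ^ 7} : Set (FreeGroup Cfsg.Spor.He.Gen))).map (PresentedGroup.mk (Cfsg.Spor.coxRelators Cfsg.Spor.He.edges ∪ {r | r ∈ Cfsg.Spor.He.extra})))), MulAction.orbit (((Subgroup.closure ({Cfsg.Spor.He.a, Cfsg.Spor.He.c, Cfsg.Spor.He.d, Cfsg.Spor.He.e, Cfsg.Spor.He.f, (Cfsg.Spor.He.a * Cfsg.Spor.He.b) ^ 2, (Cfsg.Spor.He.b * Cfsg.Spor.He.c * Cfsg.Spor.He.d * Cfsg.Spor.He.e) ^ 7} : Set (FreeGroup Cfsg.Spor.He.Gen))).map (PresentedGroup.mk (Cfsg.Spor.coxRelators Cfsg.Spor.He.edges ∪ {r | r ∈ Cfsg.Spor.He.extra})))) q₁ ≠ MulAction.orbit (((Subgroup.closure ({Cfsg.Spor.He.a, Cfsg.Spor.He.c, Cfsg.Spor.He.d, Cfsg.Spor.He.e, Cfsg.Spor.He.f, (Cfsg.Spor.He.a * Cfsg.Spor.He.b) ^ 2, (Cfsg.Spor.He.b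 * Cfsg.Spor.He.c * Cfsg.Spor.He.d * Cfsg.Spor.He.e) ^ 7} : Set (FreeGroup Cfsg.Spor.He.Gen))).map (PresentedGroup.mk (Cfsg.Spor.coxRelators Cfsg.Spor.He.edges ∪ {r | r ∈ Cfsg.Spor.He.extra})))) q₂ ∧ (MulAction.orbit (((Subgroup.closure ({Cfsg.Spor.He.a, Cfsg.Spor.He.c, Cfsg.Spor.He.d, Cfsg.Spor.He.e, Cfsg.Spor.He.f, (Cfsg.Spor.He.a * Cfsg.Spor.He.b) ^ 2, (Cfsg.Spor.He.b * Cfsg.Spor.He.c * Cfsg.Spor.He.d * Cfsg.Spor.He.e) ^ 7} : Set (FreeGroup Cfsg.Spor.He.Gen))).map (PresentedGroup.mk (Cfsg.Spor.coxRelators Cfsg.Spor.He.edges ∪ {r | r ∈ Cfsg.Spor.He.extra})))) q₁).ncard = 136 ∧ (MulAction.orbit (((Subgroup.closure ({Cfsg.Spor.He.a, Cfsg.Spor.He.c, Cfsg.Spor.He.d, Cfsg.Spor.He.e, Cfsg.Spor.He.f, (Cfsg.Spor.He.a * Cfsg.Spor.He.b) ^ 2, (Cfsg.Spor.He.b * Cfsg.Spor.He.c * Cfsg.Spor.He.d * Cfsg.Spor.He.e) ^ 7} : Set (FreeGroup Cfsg.Spor.He.Gen))).map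 (PresentedGroup.mk (Cfsg.Spor.coxRelators Cfsg.Spor.He.edges ∪ {r | r ∈ Cfsg.Spor.He.extra})))) q₂).ncard = 136 ∧ (MulAction.orbit (((Subgroup.closure ({Cfsg.Spor.He.a, Cfsg.Spor.He.c, Cfsg.Spor.He.d, Cfsg.Spor.He.e, Cfsg.Spor.He.f, (Cfsg.Spor.He.a * Cfsg.Spor.He.b) ^ 2, (Cfsg.Spor.He.b * Cfsg.Spor.He.c * Cfsg.Spor.He.d * Cfsg.Spor.He.e) ^ 7} : Set (FreeGroup Cfsg.Spor.He.Gen))).map (PresentedGroup.mk (Cfsg.Spor.coxRelators Cfsg.Spor.He.edges ∪ {r | r ∈ Cfsg.Spor.He.extra})))) q₃).ncard = 425 ∧ (MulAction.orbit (((Subgroup.closure ({Cfsg.Spor.He.a, Cfsg.Spor.He.c, Cfsg.Spor.He.d, Cfsg.Spor.He.e, Cfsg.Spor.He.f, (Cfsg.Spor.He.a * Cfsg.Spor.He.b) ^ 2, (Cfsg.Spor.He.b * Cfsg.Spor.He.c * Cfsg.Spor.He.d * Cfsg.Spor.He.e) ^ 7} : Set (FreeGroup Cfsg.Spor.He.Gen))).map (PresentedGroup.mk (Cfsg.Spor.coxRelators Cfsg.Spor.He.edges ∪ {r | r ∈ Cfsg.Spor.He.extra}))))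 q₄).ncard = 1360 := by
  rw [sub_eq]
  refine ⟨Cfsg.Agent.Spor.HeCert.stab_eq.2, ?_⟩
  obtain ⟨p₁, e₁, h₁⟩ := Cfsg.Agent.Spor.HeCert.orbits Cfsg.Agent.Spor.HeCert.RepS44.sub3 (by simp [Cfsg.Agent.Spor.HeCert.RepS44.subs])
  obtain ⟨p₂, e₂, h₂⟩ := Cfsg.Agent.Spor.HeCert.orbits Cfsg.Agent.Spor.HeCert.RepS44.sub4 (by simp [Cfsg.Agent.Spor.HeCert.RepS44.subs])
  obtain ⟨p₃, -, h₃⟩ := Cfsg.Agent.Spor.HeCert.orbits Cfsg.Agent.Spor.HeCert.RepS44.sub2 (by simp [Cfsg.Agent.Spor.HeCert.RepS44.subs])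
  obtain ⟨p₄, -, h₄⟩ := Cfsg.Agent.Spor.HeCert.orbits Cfsg.Agent.Spor.HeCert.RepS44.sub1 (by simp [Cfsg.Agent.Spor.HeCert.RepS44.subs])
  refine ⟨_, _, _, _, ?_, h₁, h₂, h₃, h₄⟩
  intro heq
  have hl := orbit_lab p₁ p₂ heq
  rw [e₁, e₂] at hl
  exact absurd hl (by decide +kernel)

end Cfsg.Agent.S1683
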