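import Cfsg.Statements.S1685
import Cfsg.Agent.Lib.Spor.Fi22Main

set_option autoImplicit false
open Cfsg

namespace Cfsg.Agent.S1685

open Cfsg.Agent.Spor.CC Cfsg.Agent.Spor.Fi22Cert in
theorem sub_eq : (Subgroup.closure ({Cfsg.Spor.Fi22.b, Cfsg.Spor.Fi22.c, Cfsg.Spor.Fi22.d, Cfsg.Spor.Fi22.e, Cfsg.Spor.Fi22.f, Cfsg.Spor.Fi22.g, Cfsg.Spor.Fi22.h, Cfsg.Spor.Fi22.i} : Set (FreeGroup Cfsg.Spor.Fi22.Gen))).map (PresentedGroup.mk (Cfsg.Spor.coxRelators Cfsg.Spor.Fi22.edges ∪ {r | r ∈ Cfsg.Spor.Fi22.extra})) = pres.wsub IdxO7.subW := by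
  rw [show IdxO7.subW = [1, 2, 3, 4, 5, 6, 7, 8].map (fun x => [x]) from rfl, Pres.wsub_singles,
    MonoidHom.map_closure, Pres.sub]
  congr 1
  have e : {x : ℕ | x ∈ ([1, 2, 3, 4, 5, 6, 7, 8] : List ℕ)} = {1, 2, 3, 4, 5, 6, 7, 8} := by ext x; simp
  rw [e]
  simp only [Set.image_insert_eq, Set.image_singleton]
  rfl


/-- In the presented Fischer group Fi₂₂ (generators a, …, i), the subgroup generated by the images of b, c, d, e, f, g, h, i has index 14080. -/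
theorem result : (((Subgroup.closure ({Cfsg.Spor.Fi22.b, Cfsg.Spor.Fi22.c, Cfsg.Spor.Fi22.d, Cfsg.Spor.Fi22.e, Cfsg.Spor.Fi22.f, Cfsg.Spor.Fi22.g, Cfsg.Spor.Fi22.h, Cfsg.Spor.Fi22.i} : Set (FreeGroup Cfsg.Spor.Fi22.Gen))).map (PresentedGroup.mk (Cfsg.Spor.coxRelators Cfsg.Spor.Fi22.edges ∪ {r | r ∈ Cfsg.Spor.Fi22.extra})))).index = 14080 := by
  rw [sub_eq]
  exact Cfsg.Agent.Spor.Fi22Cert.index_o7

end Cfsg.Agent.S1685
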