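import Cfsg.Statements.S1691

set_option autoImplicit false
open Cfsg

namespace Cfsg.Agent.S1691

open Cfsg.Spor in
/-- parity of the word length -/
theorem exists_parity : ∃ φ : Fi24 →* Multiplicative (ZMod 2),
    ∀ x, φ (PresentedGroup.of x) = Multiplicative.ofAdd 1 := by
  refine ⟨PresentedGroup.toGroup (f := fun _ : Fi24.Gen => Multiplicative.ofAdd (1 : ZMod 2)) ?_,
    fun x => PresentedGroup.toGroup.of _⟩
  rintro r (⟨x, -, y, -, rfl⟩ | hr)
  · simp only [map_pow, map_mul, FreeGroup.lift_apply_of]
    rw [show Multiplicative.ofAdd (1 : ZMod 2) * Multiplicative.ofAdd 1 = 1 by decide, one_pow]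
  · simp only [Fi24.extra, Set.mem_setOf_eq, List.mem_cons, List.not_mem_nil, or_false] at hr
    rcases hr with rfl | rfl <;> simp only [map_pow, map_mul, map_inv, FreeGroup.lift_apply_of] <;> decide

open Cfsg.Spor in
/-- relations in the abelianisation -/
theorem gens_equal (x : Fi24.Gen) :
    Abelianization.of (PresentedGroup.of (rels := coxRelators Fi24.edges ∪ {r | r ∈ Fi24.extra}) x) =
      Abelianization.of (PresentedGroup.of .d) ∧
    Abelianization.of (PresentedGroup.of (rels := coxRelators Fi24.edges ∪ {r | r ∈ Fi24.extra}) x) ^ 2 = 1 := by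
  let u : Fi24.Gen → Abelianization Fi24 := fun x => Abelianization.of (PresentedGroup.of x)
  show u x = u .d ∧ u x ^ 2 = 1
  have hrel : ∀ x y, x ∈ coxNodes Fi24.edges → y ∈ coxNodes Fi24.edges →
      (u x * u y) ^ coxLabel Fi24.edges x y = 1 := by
    intro x y hx hy
    have h := PresentedGroup.one_of_mem (rels := coxRelators Fi24.edges ∪ {r | r ∈ Fi24.extra})
      (Or.inl ⟨x, hx, y, hy, rfl⟩)
    have h' := congrArg Abelianization.of h
    rw [map_pow, map_mul, map_one, map_pow, map_mul] at h'
    exact h'
  have hn : ∀ x, x ∈ coxNodes Fi24.edges := fun x => by cases x <;> decide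
  have hsq : ∀ x, u x ^ 2 = 1 := fun x => by
    have := hrel x x (hn x) (hn x)
    rwa [show coxLabel Fi24.edges x x = 1 from if_pos rfl, pow_one, ← sq] at this
  have hE : ∀ x y, coxLabel Fi24.edges x y = 3 → u x = u y := fun x y h => by
    have h3 := hrel x y (hn x) (hn y)
    rw [h, mul_pow, pow_succ (u x) 2, pow_succ (u y) 2, hsq, hsq, one_mul, one_mul] at h3
    have h2 := hsq y
    rw [sq] at h2
    exact mul_right_cancel (h3.trans h2.symm)
  refine ⟨?_, hsq x⟩
  have hl := hE .l .k (by decide)
  have hk := hE .k .a (by decide)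
  have ha := hE .a .b (by decide)
  have hb := hE .b .c (by decide)
  have hc := hE .c .d (by decide)
  have he := hE .d .e (by decide)
  have hh := hE .d .h (by decide)
  have hf := hE .e .f (by decide)
  have hg := hE .f .g (by decide)
  have hj := hE .g .j (by decide)
  have hi := hE .h .i (by decide)
  cases x <;> simp only [hl, hk, ha, hb, hc, ← he, ← hh, ← hf, ← hg, ← hj, ← hi]

/-- The commutator subgroup of the presented group Fi₂₄ has index 2 (the presented group is Fi₂₄′:2 with Fi₂₄′ its derived subgroup). -/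
theorem result : (commutator Cfsg.Spor.Fi24).index = 2 := by
  obtain ⟨φ, hφ⟩ := exists_parity
  have hker : φ.ker = commutator Cfsg.Spor.Fi24 := by
    refine le_antisymm ?_ (Abelianization.commutator_subset_ker φ)
    intro g hg
    have key : ∀ g, (φ g = 1 → Abelianization.of g = 1) ∧
        (φ g ≠ 1 → Abelianization.of g = Abelianization.of (PresentedGroup.of .d)) := by
      intro g
      have hm : g ∈ Subgroup.closure (Set.range (PresentedGroup.of : Cfsg.Spor.Fi24.Gen → Cfsg.Spor.Fi24)) := by
        rw [PresentedGroup.closure_range_of]; exact Subgroup.mem_top g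
      set t := Abelianization.of (PresentedGroup.of Cfsg.Spor.Fi24.Gen.d : Cfsg.Spor.Fi24)
      have ht : t * t = 1 := by rw [← sq]; exact (gens_equal .d).2
      have htwo : ∀ a : Multiplicative (ZMod 2), a ≠ 1 → a = Multiplicative.ofAdd 1 := by decide
      have htt : Multiplicative.ofAdd (1 : ZMod 2) * Multiplicative.ofAdd 1 = 1 := by decide
      induction hm using Subgroup.closure_induction with
      | one => exact ⟨fun _ => map_one _, fun h => absurd (map_one φ) h⟩
      | mem x hx =>
        obtain ⟨x, rfl⟩ := hx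
        exact ⟨fun h => absurd ((hφ x).symm.trans h) (by decide), fun _ => (gens_equal x).1⟩
      | inv x _ ih =>
        simp only [map_inv, inv_eq_one, ne_eq]
        refine ⟨fun h => ih.1 h, fun h => ?_⟩
        rw [ih.2 h]; exact inv_eq_of_mul_eq_one_right ht
      | mul x y _ _ ihx ihy =>
        rw [map_mul, map_mul]
        by_cases hx : φ x = 1 <;> by_cases hy : φ y = 1
        · rw [hx, hy, ihx.1 hx, ihy.1 hy, one_mul, one_mul]; exact ⟨fun _ => rfl, fun h => absurd rfl h⟩
        · rw [hx, ihx.1 hx, one_mul, one_mul]; exact ihy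
        · rw [hy, ihy.1 hy, mul_one, mul_one]; exact ihx
        · rw [htwo _ hx, htwo _ hy, htt, ihx.2 hx, ihy.2 hy, ht]; exact ⟨fun _ => rfl, fun h => absurd rfl h⟩
    rw [← Abelianization.ker_of]
    exact (key g).1 hg
  rw [← hker, Subgroup.index_ker, MonoidHom.range_eq_top.2 ?_, Subgroup.card_top]
  · simp
  intro a
  have htwo : ∀ a : Multiplicative (ZMod 2), a = 1 ∨ a = Multiplicative.ofAdd 1 := by decide
  rcases htwo a with rfl | rfl
  · exact ⟨1, map_one φ⟩
  · exact ⟨_, hφ .d⟩


end Cfsg.Agent.S1691
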