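import Cfsg.Statements.S1753
import Mathlib

set_option autoImplicit false
universe u
open Cfsg

namespace Cfsg.Agent.S1753

theorem card_section_lt {G : Type u} [Group G] [Finite G] {H : Subgroup G} (hH : H ≠ ⊤)
    (H' : Subgroup H) (N : Subgroup H') : Nat.card (H' ⧸ N) < Nat.card G := by
  calc Nat.card (H' ⧸ N) ≤ Nat.card H' := Nat.card_le_card_of_surjective _ Quotient.mk_surjective
    _ ≤ Nat.card H := Subgroup.card_le_card_group H'
    _ < Nat.card G := by
      refine lt_of_le_of_ne (Subgroup.card_le_card_group H) fun h => hH ?_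
      exact Subgroup.eq_top_of_card_eq H h

theorem result (K : ∀ (X : Type u) [Group X], Prop) :
    (∀ (G : Type u) [Group G], Cfsg.IsMinCounterexampleWith K G → Cfsg.IsKProperWith K G) ∧
      ((∀ (X : Type u) [Group X] [Finite X], IsSimpleGroup X → ¬ IsMulCommutative X → Cfsg.IsKProperWith K X → K X) →
        ∀ (G : Type u) [Group G] [Finite G], IsSimpleGroup G → ¬ IsMulCommutative G → K G) := by
  constructor
  · intro G _ hG H hH H' N _ hs hn
    obtain ⟨hf, _, _, _, hmin⟩ := hG
    haveI := hf
    exact hmin _ hs hn (card_section_lt hH H' N)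
  · intro h G _ _ hs hn
    suffices ∀ n : ℕ, ∀ (X : Type u) [Group X] [Finite X], Nat.card X = n → IsSimpleGroup X →
        ¬ IsMulCommutative X → K X from this _ G rfl hs hn
    intro n
    induction n using Nat.strong_induction_on with
    | _ n ih =>
      intro X _ _ hcard hs hn
      refine h X hs hn fun H hH H' N _ hs' hn' => ?_
      exact ih _ (hcard ▸ card_section_lt hH H' N) _ rfl hs' hn'

end Cfsg.Agent.S1753
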