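import Cfsg.Statements.S1754
import Cfsg.Agent.Lib.Local.Basics

set_option autoImplicit false
open Cfsg

namespace Cfsg.Agent.S1754

theorem result {G : Type*} [Group G] [Finite G]
    (A : Subgroup G) (hA : Cfsg.IsStandardSubgroup A) (t : G) (ht : orderOf t = 2) (htA : t ∈ Subgroup.centralizer (A : Set G)) :
    Subgroup.centralizer ({t} : Set G) ≤ Subgroup.normalizer (A : Set G) ∧
      Cfsg.IsComponent (A.subgroupOf (Subgroup.centralizer ({t} : Set G))) := by
  obtain ⟨hq, ⟨_, hte⟩, _, hN⟩ := hA
  have hle : Subgroup.centralizer ({t} : Set G) ≤ Subgroup.normalizer (A : Set G) := by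
    intro g hg
    rw [hN]
    by_contra hgn
    have hodd := hte g hgn
    rw [Subgroup.mem_centralizer_singleton_iff] at hg
    have htm : t ∈ Subgroup.centralizer (A : Set G) ⊓
        (Subgroup.centralizer (A : Set G)).map (MulAut.conj g).toMonoidHom := by
      refine ⟨htA, ⟨t, htA, ?_⟩⟩
      simp [hg]
    have h2 : orderOf t ∣ Nat.card ↥(Subgroup.centralizer (A : Set G) ⊓
        (Subgroup.centralizer (A : Set G)).map (MulAut.conj g).toMonoidHom) := by
      have := orderOf_dvd_natCard (⟨t, htm⟩ : ↥(Subgroup.centralizer (A : Set G) ⊓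
        (Subgroup.centralizer (A : Set G)).map (MulAut.conj g).toMonoidHom))
      rwa [← Subgroup.orderOf_coe] at this
    rw [ht] at h2
    exact (Nat.not_even_iff_odd.mpr hodd) (even_iff_two_dvd.mpr h2)
  refine ⟨hle, ?_, ?_⟩
  · refine Subgroup.Normal.isSubnormal ?_
    constructor
    intro n hn g
    have := hle g.2
    rw [Subgroup.mem_normalizer_iff] at this
    exact (this n).mp hn
  · have hAC : A ≤ Subgroup.centralizer ({t} : Set G) := by
      intro a ha
      rw [Subgroup.mem_centralizer_singleton_iff]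
      exact (Subgroup.mem_centralizer_iff.mp htA a ha)
    exact Cfsg.Agent.Local.isQuasisimple_congr (Subgroup.subgroupOfEquivOfLe hAC).symm hq

end Cfsg.Agent.S1754
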