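import Cfsg.Statements.S1755
import Cfsg.Agent.Lib.Local.Basics

set_option autoImplicit false
open Cfsg

namespace Cfsg.Agent.S1755

open Cfsg.Agent.Local

theorem key {G : Type*} [Group G] [Finite G] (z : G) (hz : orderOf z = 2) (C : Subgroup G)
    (hC : C = Subgroup.centralizer ({z} : Set G)) (T : Subgroup ↥C) [T.Normal] (hzC : z ∈ C)
    (hzc : ∀ x : ↥C, x * ⟨z, hzC⟩ = ⟨z, hzC⟩ * x)
    (hzT : (⟨z, hzC⟩ : ↥C) ∈ T) (h2 : IsPGroup 2 ↥T)
    (hchar : ∀ A : Subgroup ↥T, A.Characteristic → IsMulCommutative ↥A → IsCyclic ↥A)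
    (B : Subgroup ↥T) (hBc : B.Characteristic) (hBa : IsMulCommutative ↥B) (g : G) :
    ((B.map T.subtype).map C.subtype).map (MulAut.conj g).toMonoidHom = (B.map T.subtype).map C.subtype ∨
      ((B.map T.subtype).map C.subtype).map (MulAut.conj g).toMonoidHom ⊓ (B.map T.subtype).map C.subtype = ⊥ := by
  set B' := (B.map T.subtype).map C.subtype with hB'
  by_cases hne : B'.map (MulAut.conj g).toMonoidHom ⊓ B' = ⊥
  · exact Or.inr hne
  left
  set z' : ↥T := ⟨⟨z, hzC⟩, hzT⟩ with hz'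
  have hz'2 : orderOf z' = 2 := by
    rw [← hz, ← orderOf_injective T.subtype T.subtype_injective,
      ← orderOf_injective C.subtype C.subtype_injective]
    rfl
  -- the centre of T is cyclic
  haveI hZcyc : IsCyclic ↥(Subgroup.center ↥T) := hchar _ inferInstance inferInstance
  haveI hBcyc : IsCyclic ↥B := hchar B hBc hBa
  have hz'Z : z' ∈ Subgroup.center ↥T := Subgroup.mem_center_iff.mpr fun x => by
    apply Subtype.ext; exact hzc x
  have hinv : ∀ w : ↥T, w ∈ B → orderOf w = 2 → w = z' := by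
    intro w hw hw2
    have hwZ : w ∈ Subgroup.center ↥T := by
      rw [Subgroup.mem_center_iff]
      intro x
      haveI := hBc
      have hn : B.Normal := inferInstance
      have hconj : x * w * x⁻¹ ∈ B := hn.conj_mem w hw x
      have h1 : orderOf (⟨x * w * x⁻¹, hconj⟩ : ↥B) = 2 := by
        rw [← Subgroup.orderOf_coe]
        have := MulEquiv.orderOf_eq (MulAut.conj x) w
        simpa [hw2] using this
      have h3 := eq_of_orderOf_eq_two h1 (b := (⟨w, hw⟩ : ↥B)) (by rw [← Subgroup.orderOf_coe]; exact hw2)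
      have h4 : x * w * x⁻¹ = w := congrArg Subtype.val h3
      calc x * w = x * w * x⁻¹ * x := by group
        _ = w * x := by rw [h4]
    exact congrArg Subtype.val (eq_of_orderOf_eq_two (a := (⟨w, hwZ⟩ : Subgroup.center ↥T))
      (b := ⟨z', hz'Z⟩) (by rw [← Subgroup.orderOf_coe]; exact hw2) (by rw [← Subgroup.orderOf_coe]; exact hz'2))
  have hinvG : ∀ w : G, w ∈ B' → orderOf w = 2 → w = z := by
    intro w hw hw2
    obtain ⟨w₁, ⟨w₂, hw₂, rfl⟩, rfl⟩ := hw
    have : orderOf w₂ = 2 := by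
      rw [← hw2, ← orderOf_injective T.subtype T.subtype_injective,
        ← orderOf_injective C.subtype C.subtype_injective]
    rw [hinv w₂ hw₂ this]
    rfl
  -- an involution in the intersection
  have hB2 : IsPGroup 2 ↥B' := (((h2.to_subgroup B).map T.subtype).map C.subtype)
  have hI : IsPGroup 2 ↥(B'.map (MulAut.conj g).toMonoidHom ⊓ B') := hB2.to_le inf_le_right
  have hne1 : Nat.card ↥(B'.map (MulAut.conj g).toMonoidHom ⊓ B') ≠ 1 := fun h =>
    hne (Subgroup.eq_bot_of_card_eq _ h)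
  have hdvd : 2 ∣ Nat.card ↥(B'.map (MulAut.conj g).toMonoidHom ⊓ B') := by
    obtain ⟨n, hn⟩ := IsPGroup.iff_card.mp hI
    rw [hn] at hne1 ⊢
    exact dvd_pow_self 2 (by rintro rfl; simp at hne1)
  obtain ⟨⟨w, hw1, hw2⟩, hword⟩ := exists_prime_orderOf_dvd_card' 2 hdvd
  rw [← Subgroup.orderOf_coe] at hword
  simp only at hword
  have hwz := hinvG w hw2 hword
  subst hwz
  replace hw1 : w ∈ B'.map (MulAut.conj g).toMonoidHom := hw1
  rw [mem_conj_map] at hw1
  have h5 : g⁻¹ * w * g = w := hinvG _ hw1 (by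
    rw [← hword]
    have := MulEquiv.orderOf_eq (MulAut.conj g⁻¹) w
    simpa using this)
  have hgC : g ∈ C := by
    rw [hC, Subgroup.mem_centralizer_singleton_iff]
    calc g * w = g * (g⁻¹ * w * g) := by rw [h5]
      _ = w * g := by group
  rw [conj_map_eq_iff]
  haveI := hBc
  have hBn : (B.map T.subtype).Normal := ConjAct.normal_of_characteristic_of_normal
  rw [Subgroup.mem_normalizer_iff]
  intro x
  constructor
  · rintro ⟨y, hy, rfl⟩
    exact ⟨(⟨g, hgC⟩ : ↥C) * y * (⟨g, hgC⟩ : ↥C)⁻¹, hBn.conj_mem y hy _, rfl⟩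
  · rintro ⟨y, hy, hyx⟩
    refine ⟨(⟨g, hgC⟩ : ↥C)⁻¹ * y * (⟨g, hgC⟩ : ↥C), ?_, ?_⟩
    · simpa using hBn.conj_mem y hy (⟨g, hgC⟩ : ↥C)⁻¹
    · simp only [map_mul, map_inv]
      rw [hyx]
      simp [mul_assoc]

theorem result {G : Type*} [Group G] [Finite G] (z : G) (hz : orderOf z = 2) (hQ : Cfsg.IsOfSymplecticType ↥(Cfsg.generalizedFittingSubgroup ↥(Subgroup.centralizer ({z} : Set G))))
    (B : Subgroup ↥(Cfsg.generalizedFittingSubgroup ↥(Subgroup.centralizer ({z} : Set G)))) (hBc : B.Characteristic) (hBa : IsMulCommutative ↥B) (g : G) :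
    ((B.map (Cfsg.generalizedFittingSubgroup ↥(Subgroup.centralizer ({z} : Set G))).subtype).map (Subgroup.centralizer ({z} : Set G)).subtype).map (MulAut.conj g).toMonoidHom =
        (B.map (Cfsg.generalizedFittingSubgroup ↥(Subgroup.centralizer ({z} : Set G))).subtype).map (Subgroup.centralizer ({z} : Set G)).subtype ∨
      ((B.map (Cfsg.generalizedFittingSubgroup ↥(Subgroup.centralizer ({z} : Set G))).subtype).map (Subgroup.centralizer ({z} : Set G)).subtype).map (MulAut.conj g).toMonoidHom ⊓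
        (B.map (Cfsg.generalizedFittingSubgroup ↥(Subgroup.centralizer ({z} : Set G))).subtype).map (Subgroup.centralizer ({z} : Set G)).subtype = ⊥ := by
  have hzC : z ∈ Subgroup.centralizer ({z} : Set G) := by simp [Subgroup.mem_centralizer_singleton_iff]
  haveI := Cfsg.Agent.Local.gfit_normal (H := ↥(Subgroup.centralizer ({z} : Set G)))
  have hzc : ∀ x : ↥(Subgroup.centralizer ({z} : Set G)), x * ⟨z, hzC⟩ = ⟨z, hzC⟩ * x := fun x =>
    Subtype.ext (Subgroup.mem_centralizer_singleton_iff.mp x.2)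
  refine key z hz _ rfl _ hzC hzc ?_ hQ.1 hQ.2 B hBc hBa g
  apply Subgroup.mem_sup_right
  have hn : (Subgroup.zpowers (⟨z, hzC⟩ : ↥(Subgroup.centralizer ({z} : Set G)))).Normal := by
    constructor
    intro n hn x
    obtain ⟨k, rfl⟩ := hn
    refine ⟨k, ?_⟩
    have h : Commute x ((⟨z, hzC⟩ : ↥(Subgroup.centralizer ({z} : Set G))) ^ k) := Commute.zpow_right (hzc x) k
    simp only
    rw [h.eq, mul_inv_cancel_right]
  haveI : Group.IsNilpotent ↥(Subgroup.zpowers (⟨z, hzC⟩ : ↥(Subgroup.centralizer ({z} : Set G)))) :=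
    @CommGroup.isNilpotent _ IsCyclic.commGroup
  exact le_sSup (α := Subgroup ↥(Subgroup.centralizer ({z} : Set G))) (s := {N | N.Normal ∧ Group.IsNilpotent ↥N})
    ⟨hn, inferInstance⟩ (Subgroup.mem_zpowers _)

end Cfsg.Agent.S1755
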