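import Cfsg.Statements.S1756
import Cfsg.Agent.Lib.Solv.Extraspecial
-- import your own Cfsg.Agent.* helpers here

set_option autoImplicit false
open Cfsg

open scoped commutatorElement

namespace Cfsg.Agent.S1756

/-- A subgroup of index two of an extraspecial two-group is centralised by a noncentral element. -/
theorem exists_noncentral_centralizer {E : Type*} [Group E] [Finite E] (hE : Cfsg.IsExtraspecial 2 E)
    (M : Subgroup E) (hM : M.index = 2) :
    ∃ e : E, e ∉ Subgroup.center E ∧ ∀ d ∈ M, e * d = d * e := by
  haveI : Fact (Nat.Prime 2) := ⟨Nat.prime_two⟩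
  obtain ⟨m, hm1, hm, -⟩ := Solv.extraspecial_card hE
  by_contra hcon
  push Not at hcon
  have hcen : ∀ a ∈ Subgroup.center ↥M, (a : E) ∈ Subgroup.center E := fun a ha => by
    by_contra h
    obtain ⟨d, hd, hne⟩ := hcon a h
    exact hne (congrArg Subtype.val (Subgroup.mem_center_iff.1 ha ⟨d, hd⟩)).symm
  have hMcard : Nat.card M = 2 ^ (2 * m) := by
    have := M.card_mul_index
    rw [hM, hm, pow_succ] at this
    omega
  have hle : Nat.card (Subgroup.center ↥M) ≤ 2 := by
    refine le_trans (Nat.card_le_card_of_injective (fun a => (⟨_, hcen a a.2⟩ : Subgroup.center E))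
      fun a b h => Subtype.ext (Subtype.ext (congrArg (fun w : Subgroup.center E => (w : E)) h))) hE.2.le
  have hp : IsPGroup 2 ↥M := IsPGroup.of_card hMcard
  haveI : Nontrivial ↥M := Finite.one_lt_card_iff_nontrivial.1 (hMcard ▸ Nat.one_lt_pow (by omega) one_lt_two)
  haveI := hp.center_nontrivial
  have hc : Nat.card (Subgroup.center ↥M) = 2 := by
    have h1 : 1 < Nat.card (Subgroup.center ↥M) := Finite.one_lt_card
    omega
  have hd : commutator ↥M ≤ Subgroup.center ↥M := by
    rw [commutator_def, Subgroup.commutator_le]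
    intro a _ b _
    refine Subgroup.mem_center_iff.2 fun c => Subtype.ext ?_
    have h : ⁅(a : E), (b : E)⁆ ∈ Subgroup.center E :=
      hE.1.2.2.le (Subgroup.commutator_mem_commutator (Subgroup.mem_top _) (Subgroup.mem_top _))
    exact Subgroup.mem_center_iff.1 h c
  obtain ⟨k, hk, -⟩ := Solv.card_eq_odd_pow hc hd
  have := Nat.pow_right_injective le_rfl (hMcard.symm.trans hk)
  omega

/-- Let Q be an extraspecial 2-subgroup of the finite group G (special with centre of order 2) and t an involution of G normalizing Q such that the centralizer of t in Q has index at most 2 in Q. Then t lies in the product of Q with the centralizer of Q. -/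
theorem result {G : Type*} [Group G] [Finite G] (Q : Subgroup G)
    (hQ : Cfsg.IsExtraspecial 2 ↥Q) (t : G) (ht : orderOf t = 2) (htN : t ∈ Subgroup.normalizer (Q : Set G))
    (hi : (Subgroup.centralizer ({t} : Set G) ⊓ Q).relIndex Q ≤ 2) :
    t ∈ Q ⊔ Subgroup.centralizer (Q : Set G) := by
  classical
  set C := Subgroup.centralizer ({t} : Set G) ⊓ Q with hCdef
  have hCQ : C ≤ Q := inf_le_right
  have htt : t * t = 1 := by rw [← pow_two, ← ht, pow_orderOf_eq_one]
  have hti : t⁻¹ = t := inv_eq_of_mul_eq_one_right htt
  have hCt : ∀ c ∈ C, t * c * t = c := fun c hc => by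
    rw [← Subgroup.mem_centralizer_singleton_iff.1 hc.1, mul_assoc, htt, mul_one]
  by_cases hQC : Q ≤ Subgroup.centralizer ({t} : Set G)
  · exact Subgroup.mem_sup_right (Subgroup.mem_centralizer_iff.2 fun q hq =>
      (Subgroup.mem_centralizer_singleton_iff.1 (hQC hq)))
  obtain ⟨q, hqQ, hq⟩ := SetLike.not_le_iff_exists.1 hQC
  have hC2 : (C.subgroupOf Q).index = 2 := by
    have h0 : (C.subgroupOf Q).index ≠ 0 := Subgroup.index_ne_zero_of_finite
    have h1 : (C.subgroupOf Q).index ≠ 1 := fun h => hq (by
      rw [Subgroup.index_eq_one, Subgroup.subgroupOf_eq_top] at h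
      exact (h hqQ).1)
    have h2 : (C.subgroupOf Q).index ≤ 2 := hi
    omega
  have hcover : ∀ x ∈ Q, x ∈ C ∨ q * x ∈ C := by
    intro x hx
    by_cases hxC : x ∈ C
    · exact Or.inl hxC
    · have := (Subgroup.mul_mem_iff_of_index_two hC2 (a := (⟨q, hqQ⟩ : ↥Q)) (b := ⟨x, hx⟩)).2
        ⟨fun h => absurd h.1 hq, fun h => absurd h hxC⟩
      exact Or.inr this
  -- centre and commutators
  have hQ' := hQ
  obtain ⟨⟨-, hspec⟩, hZ⟩ := hQ
  obtain ⟨z, hzQ, hz1, hzc, hcom, hzz⟩ : ∃ z ∈ Q, z ≠ 1 ∧ (∀ x ∈ Q, x * z = z * x) ∧
      (∀ x ∈ Q, ∀ y ∈ Q, x * y * x⁻¹ * y⁻¹ = 1 ∨ x * y * x⁻¹ * y⁻¹ = z) ∧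
      (∀ x ∈ Q, (∀ y ∈ Q, y * x = x * y) → x = 1 ∨ x = z) := by
    obtain ⟨a, b, hab, huniv⟩ := Nat.card_eq_two_iff.1 hZ
    have hmem : ∀ w : ↥(Subgroup.center ↥Q), w = a ∨ w = b := fun w => by
      have : w ∈ ({a, b} : Set ↥(Subgroup.center ↥Q)) := huniv ▸ Set.mem_univ w
      simpa using this
    obtain ⟨z, hz, hall⟩ : ∃ z : ↥(Subgroup.center ↥Q), z ≠ 1 ∧ ∀ w, w = 1 ∨ w = z := by
      rcases hmem 1 with h | h
      · exact ⟨b, fun e => hab (h.symm.trans e.symm), fun w => (hmem w).imp (fun e => e.trans h.symm) id⟩
      · exact ⟨a, fun e => hab (e.trans h), fun w => (hmem w).symm.imp (fun e => e.trans h.symm) id⟩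
    have hzz : ∀ x ∈ Q, (∀ y ∈ Q, y * x = x * y) → x = 1 ∨ x = ((z : ↥Q) : G) := fun x hx hc => by
      have hxZ : (⟨x, hx⟩ : ↥Q) ∈ Subgroup.center ↥Q :=
        Subgroup.mem_center_iff.2 fun y => Subtype.ext (hc y y.2)
      exact (hall ⟨_, hxZ⟩).imp (fun e => congrArg (fun w : ↥(Subgroup.center ↥Q) => ((w : ↥Q) : G)) e)
        (fun e => congrArg (fun w : ↥(Subgroup.center ↥Q) => ((w : ↥Q) : G)) e)
    refine ⟨((z : ↥Q) : G), (z : ↥Q).2, fun e => hz (Subtype.ext (Subtype.ext e)), fun x hx => ?_,
      fun x hx y hy => ?_, hzz⟩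
    · exact congrArg Subtype.val (Subgroup.mem_center_iff.1 z.2 ⟨x, hx⟩)
    · have hm : ⁅(⟨x, hx⟩ : ↥Q), ⟨y, hy⟩⁆ ∈ commutator ↥Q :=
        Subgroup.commutator_mem_commutator (Subgroup.mem_top _) (Subgroup.mem_top _)
      rw [hspec.2] at hm
      exact hzz _ (mul_mem (mul_mem (mul_mem hx hy) (inv_mem hx)) (inv_mem hy)) fun w hw =>
        congrArg Subtype.val (Subgroup.mem_center_iff.1 hm ⟨w, hw⟩)
  -- the twist of q
  set c := q⁻¹ * (t * q * t) with hc
  have hqt : t * q * t ∈ Q := by
    have := (Subgroup.mem_set_normalizer_iff.1 htN q).1 hqQ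
    rwa [hti] at this
  have hcQ : c ∈ Q := mul_mem (inv_mem hqQ) hqt
  have hqt' : t * q * t = q * c := by rw [hc, mul_inv_cancel_left]
  have hcc : ∀ d ∈ C, c * d = d * c := by
    intro d hd
    have h1 : t * (q * d * q⁻¹ * d⁻¹) * t = (q * c) * d * (q * c)⁻¹ * d⁻¹ := by
      calc t * (q * d * q⁻¹ * d⁻¹) * t
          = (t * q * t) * (t * d * t) * (t * q * t)⁻¹ * (t * d * t)⁻¹ := by
            simp only [mul_inv_rev, hti, mul_assoc]
            simp only [← mul_assoc t t, htt, one_mul]
        _ = (q * c) * d * (q * c)⁻¹ * d⁻¹ := by rw [hqt', hCt d hd]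
    have hzt : ∀ w, w = 1 ∨ w = z → t * w * t = w := by
      rintro w (rfl | rfl)
      · rw [mul_one, htt]
      · have hz' : t * w * t ∈ Q := by
          have := (Subgroup.mem_set_normalizer_iff.1 htN w).1 hzQ
          rwa [hti] at this
        rcases hzz _ hz' (fun y hy => by
            have hy' : t * y * t ∈ Q := by
              have := (Subgroup.mem_set_normalizer_iff.1 htN y).1 hy
              rwa [hti] at this
            calc y * (t * w * t) = t * ((t * y * t) * w) * t := by
                  simp only [mul_assoc]; rw [← mul_assoc t t, htt, one_mul]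
              _ = t * (w * (t * y * t)) * t := by rw [hzc _ hy']
              _ = (t * w * t) * y := by simp only [mul_assoc, htt, mul_one]) with h | h
        · exfalso
          apply hz1
          calc w = t * (t * w * t) * t := by
                simp only [mul_assoc]; rw [← mul_assoc t t, htt, one_mul, mul_one]
            _ = 1 := by rw [h, mul_one, htt]
        · exact h
    rw [hzt _ (hcom q hqQ d (hCQ hd))] at h1
    have h2 : q * d * q⁻¹ = q * (c * d * c⁻¹) * q⁻¹ := by
      have h3 := mul_right_cancel h1
      rw [h3]; group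
    exact (mul_inv_eq_iff_eq_mul.1 (mul_left_cancel (mul_right_cancel h2)).symm)
  by_cases hcz : ∀ y ∈ Q, y * c = c * y
  · rcases hzz c hcQ hcz with h | h
    · exfalso
      apply hq
      rw [Subgroup.mem_centralizer_singleton_iff]
      calc q * t = (t * t) * (q * t) := by rw [htt, one_mul]
        _ = t * q := by rw [mul_assoc, ← mul_assoc t q t, hqt', h, mul_one]
    · -- t agrees with an inner automorphism
      obtain ⟨e, heQ, he, heC⟩ : ∃ e ∈ Q, q * e * q⁻¹ * e⁻¹ = z ∧ ∀ d ∈ C, e * d = d * e := by
        by_contra hcon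
        push Not at hcon
        -- every centralising element of C in Q commutes with q
        have hne : ∃ e ∈ Q, (∀ d ∈ C, e * d = d * e) ∧ e ≠ 1 ∧ e ≠ z := by
          obtain ⟨e, he, hec⟩ := exists_noncentral_centralizer hQ' (C.subgroupOf Q) hC2
          refine ⟨e, e.2, fun d hd => congrArg Subtype.val (hec ⟨d, hCQ hd⟩ hd), fun h => he ?_, fun h => he ?_⟩
          · rw [show e = 1 from Subtype.ext h]; exact one_mem _
          · exact Subgroup.mem_center_iff.2 fun y => Subtype.ext (by
              show (y : G) * e = e * y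
              rw [h]; exact hzc y y.2)
        obtain ⟨e, heQ, heC, he1, hez⟩ := hne
        have h3 : q * e * q⁻¹ * e⁻¹ = 1 := by
          rcases hcom q hqQ e heQ with h | h
          · exact h
          · exact absurd heC (fun hh => by obtain ⟨d, hd, hde⟩ := hcon e heQ h; exact hde (hh d hd))
        have hqe : q * e = e * q := by
          have := mul_eq_one_iff_eq_inv.1 h3
          rw [inv_inv] at this
          exact mul_inv_eq_iff_eq_mul.1 this
        rcases hzz e heQ (fun y hy => by
          rcases hcover y hy with hy' | hy'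
          · exact (heC y hy').symm
          · calc y * e = q⁻¹ * ((q * y) * e) := by group
              _ = q⁻¹ * (e * (q * y)) := by rw [heC _ hy']
              _ = q⁻¹ * (e * q) * y := by group
              _ = e * y := by rw [← hqe]; group) with h' | h'
        · exact he1 h'
        · exact hez h'
      have hte : t * e ∈ Subgroup.centralizer (Q : Set G) := by
        refine Subgroup.mem_centralizer_iff.2 fun y hy => ?_
        have hc1 : ∀ d ∈ C, d * (t * e) = t * e * d := fun d hd => by
          calc d * (t * e) = (t * d * t) * t * e := by rw [hCt d hd]; group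
            _ = t * (d * e) := by rw [mul_assoc _ t t, htt, mul_one]; group
            _ = t * e * d := by rw [← heC d hd]; group
        have hc2 : q * (t * e) = t * e * q := by
          have h4 : q * e = z * e * q := by rw [← he]; group
          calc q * (t * e) = (t * t) * q * t * e := by rw [htt, one_mul, mul_assoc]
            _ = t * (t * q * t) * e := by simp only [mul_assoc]
            _ = t * (z * q * e) := by rw [hqt', h, hzc q hqQ]; simp only [mul_assoc]
            _ = t * (z * z) * e * q := by simp only [mul_assoc]; rw [h4]; simp only [mul_assoc]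
            _ = t * e * q := by
              have hzz2 : z * z = 1 := by
                rcases hzz _ (mul_mem hzQ hzQ) (fun w hw => by
                    rw [← mul_assoc, hzc w hw, mul_assoc, hzc w hw, mul_assoc]) with h5 | h5
                · exact h5
                · exact absurd (mul_eq_left.1 h5) hz1
              rw [hzz2, mul_one]
        rcases hcover y hy with hy' | hy'
        · exact hc1 y hy'
        · calc y * (t * e) = q⁻¹ * ((q * y) * (t * e)) := by group
            _ = q⁻¹ * (t * e * (q * y)) := by rw [hc1 _ hy']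
            _ = q⁻¹ * (t * e * q) * y := by group
            _ = t * e * y := by rw [← hc2]; group
      rw [show t = (t * e) * e⁻¹ by group]
      exact mul_mem (Subgroup.mem_sup_right hte) (Subgroup.mem_sup_left (inv_mem heQ))
  · exfalso
    push Not at hcz
    obtain ⟨y, hy, hyc⟩ := hcz
    have hcC : c ∈ C := by
      rcases hcover c hcQ with h | h
      · exact h
      · exfalso
        have hqc := hcc (q * c) h
        -- then c commutes with q
        have hqc' : c * q = q * c := mul_right_cancel (by rw [mul_assoc, hqc] : c * q * c = q * c * c)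
        apply hyc
        rcases hcover y hy with hy' | hy'
        · exact (hcc y hy').symm
        · calc y * c = q⁻¹ * ((q * y) * c) := by group
            _ = q⁻¹ * (c * (q * y)) := by rw [hcc _ hy']
            _ = q⁻¹ * (c * q) * y := by group
            _ = c * y := by rw [hqc']; group
    have hc2 : c * c = 1 := by
      have h1 : t * (t * q * t) * t = q * c * c := by
        rw [hqt']
        calc t * (q * c) * t = (t * q * t) * (t * c * t) := by
              simp only [mul_assoc]; rw [← mul_assoc t t, htt, one_mul]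
          _ = q * c * c := by rw [hqt', hCt c hcC]
      have h2 : t * (t * q * t) * t = q := by
        simp only [mul_assoc]; rw [← mul_assoc t t, htt, one_mul, mul_one]
      rw [h2, mul_assoc] at h1
      exact mul_eq_left.1 h1.symm
    have hq2 : q * q ∈ C := by
      rcases hcover q hqQ with h | h
      · exact absurd h.1 hq
      · exact h
    have h3 : (q * c) * (q * c) = q * q := by
      rw [← hqt', show t * q * t * (t * q * t) = t * q * (t * t) * q * t by simp only [mul_assoc], htt, mul_one,
        show t * q * q * t = t * (q * q) * t by simp only [mul_assoc], hCt _ hq2]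
    have h4 : c * q * c = q := by
      rw [mul_assoc q c, mul_right_inj, ← mul_assoc] at h3
      exact h3
    have h5 : c * q = q * c := by
      calc c * q = c * q * (c * c) := by rw [hc2, mul_one]
        _ = q * c := by rw [← mul_assoc, h4]
    apply hyc
    rcases hcover y hy with hy' | hy'
    · exact (hcc y hy').symm
    · calc y * c = q⁻¹ * ((q * y) * c) := by group
        _ = q⁻¹ * (c * (q * y)) := by rw [hcc _ hy']
        _ = q⁻¹ * (c * q) * y := by group
        _ = c * y := by rw [h5]; group

end Cfsg.Agent.S1756
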