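import Cfsg.Statements.S1757
import Cfsg.Agent.Lib.Local.Basics

set_option autoImplicit false
open Cfsg
open scoped commutatorElement

namespace Cfsg.Agent.S1757

open Cfsg.Agent.Local in
theorem result {G : Type*} [Group G] [Finite G] (p : ℕ) [Fact p.Prime] (A B : Subgroup G)
    (hA : IsPGroup p ↥A) (hB : IsPGroup p ↥B)
    (hAti : ∀ g : G, A.map (MulAut.conj g).toMonoidHom = A ∨ A.map (MulAut.conj g).toMonoidHom ⊓ A = ⊥)
    (hBti : ∀ g : G, B.map (MulAut.conj g).toMonoidHom = B ∨ B.map (MulAut.conj g).toMonoidHom ⊓ B = ⊥)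
    (hle : Nat.card ↥A ≤ Nat.card ↥B) (hAB : A ⊓ B = ⊥) (hN : B ≤ Subgroup.normalizer (A : Set G)) : ⁅A, B⁆ = ⊥ := by
  have hAconj : ∀ a ∈ A, ∀ b ∈ B, b * a * b⁻¹ ∈ A := fun a ha b hb =>
    (Subgroup.mem_normalizer_iff.mp (hN hb) a).mp ha
  -- an element of A normalising B centralises B
  have hnc : ∀ a ∈ A, a ∈ Subgroup.normalizer (B : Set G) → ∀ b ∈ B, b * a = a * b := by
    intro a ha hn b hb
    have h1 : b * a * b⁻¹ * a⁻¹ ∈ A ⊓ B := by
      refine ⟨A.mul_mem (hAconj a ha b hb) (A.inv_mem ha), ?_⟩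
      have := B.mul_mem hb ((Subgroup.mem_normalizer_iff.mp hn _).mp (B.inv_mem hb))
      simpa [mul_assoc] using this
    rw [hAB, Subgroup.mem_bot, mul_inv_eq_one, mul_inv_eq_iff_eq_mul] at h1
    exact h1
  set C : Subgroup G := A ⊓ Subgroup.centralizer (B : Set G) with hC
  suffices h : A ≤ C by
    rw [Subgroup.commutator_eq_bot_iff_le_centralizer]
    exact h.trans inf_le_right
  by_contra hnle
  set H := A ⊔ B with hH
  have hHp : IsPGroup p ↥H := hA.to_sup_of_normal_left' hB hN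
  haveI : Group.IsNilpotent ↥H := hHp.isNilpotent
  obtain ⟨m, hm⟩ := (Subgroup.isNilpotent_iff_lowerCentralSeries H).mp inferInstance
  have hex : ∃ n, A ⊓ H.lowerCentralSeries n ≤ C := ⟨m, by rw [hm]; simp⟩
  classical
  have hn0 : Nat.find hex ≠ 0 := by
    intro h
    have := Nat.find_spec hex
    rw [h, Subgroup.lowerCentralSeries_zero, inf_eq_left.mpr (le_sup_left : A ≤ H)] at this
    exact hnle this
  obtain ⟨n, hn⟩ := Nat.exists_eq_succ_of_ne_zero hn0
  have hmin : ¬ A ⊓ H.lowerCentralSeries n ≤ C := Nat.find_min hex (by omega)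
  have hnext : A ⊓ H.lowerCentralSeries (n + 1) ≤ C := by
    have := Nat.find_spec hex
    rwa [hn] at this
  obtain ⟨a, ⟨haA, han⟩, haC⟩ := SetLike.not_le_iff_exists.mp hmin
  have hcom : ∀ b : ↥B, (b : G) * a * (b : G)⁻¹ * a⁻¹ ∈ C := by
    intro b
    apply hnext
    refine ⟨A.mul_mem (hAconj a haA b b.2) (A.inv_mem haA), ?_⟩
    have h1 : ⁅a, (b : G)⁆ ∈ H.lowerCentralSeries (n + 1) := by
      rw [Subgroup.lowerCentralSeries_succ]
      exact Subgroup.commutator_mem_commutator han ((le_sup_right : B ≤ H) b.2)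
    have := (H.lowerCentralSeries (n + 1)).inv_mem h1
    rw [commutatorElement_inv] at this
    exact this
  have hinj : Function.Injective (fun b : ↥B => (⟨(b : G) * a * (b : G)⁻¹ * a⁻¹, hcom b⟩ : ↥C)) := by
    intro b b' h
    simp only [Subtype.mk.injEq, mul_left_inj] at h
    by_contra hne
    set c : G := (b' : G)⁻¹ * b with hc
    have hc1 : c ≠ 1 := fun h1 => hne (Subtype.ext (inv_mul_eq_one.mp h1).symm)
    have hca : a * c = c * a := by
      have h2 : c * a * c⁻¹ = a := by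
        calc c * a * c⁻¹ = (b' : G)⁻¹ * ((b : G) * a * (b : G)⁻¹) * b' := by rw [hc]; group
          _ = a := by rw [h]; group
      rw [mul_inv_eq_iff_eq_mul] at h2
      exact h2.symm
    have hn' := mem_normalizer_of_commute_ti hBti (B.mul_mem (B.inv_mem b'.2) b.2) hc1 hca
    refine haC ⟨haA, Subgroup.mem_centralizer_iff.mpr fun x hx => hnc a haA hn' x hx⟩
  have h1 := Nat.card_le_card_of_injective _ hinj
  have h2 : Nat.card ↥C < Nat.card ↥A := by
    refine lt_of_le_of_ne (Subgroup.card_le_of_le inf_le_left) fun he => hnle ?_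
    exact (Subgroup.eq_of_le_of_card_ge (inf_le_left : C ≤ A) he.ge).ge
  omega

end Cfsg.Agent.S1757
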