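import Cfsg.Statements.S1774
import Cfsg.Agent.Lib.LocalEven.SymplecticConjugate
import Cfsg.Agent.Lib.LocalEven.SymplecticFour
import Cfsg.Agent.Lib.Solv.Component
import Cfsg.Agent.Lib.Local.Basics

set_option autoImplicit false
open Cfsg

namespace Cfsg.Agent.S1774

theorem result {G : Type*} [Group G] [Finite G] (z : G) (hz : orderOf z = 2) (hQ : Cfsg.IsOfSymplecticType ↥(Cfsg.generalizedFittingSubgroup ↥(Subgroup.centralizer ({z} : Set G))))
    (h4 : ∀ q ∈ (Cfsg.generalizedFittingSubgroup ↥(Subgroup.centralizer ({z} : Set G))).map (Subgroup.centralizer ({z} : Set G)).subtype, q ^ 4 = 1) (g : G) (hne : g * z * g⁻¹ ≠ z) (hin : g * z * g⁻¹ ∈ (Cfsg.generalizedFittingSubgroup ↥(Subgroup.centralizer ({z} : Set G))).map (Subgroup.centralizer ({z} : Set G)).subtype) :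
    z ∈ ((Cfsg.generalizedFittingSubgroup ↥(Subgroup.centralizer ({z} : Set G))).map (Subgroup.centralizer ({z} : Set G)).subtype).map (MulAut.conj g).toMonoidHom ∧
      ∀ u ∈ Subgroup.closure ({z, g * z * g⁻¹} : Set G), ∀ v ∈ Subgroup.closure ({z, g * z * g⁻¹} : Set G),
        u ≠ 1 → v ≠ 1 → u ≠ v →
          ∃ x ∈ (Cfsg.generalizedFittingSubgroup ↥(Subgroup.centralizer ({z} : Set G))).map (Subgroup.centralizer ({z} : Set G)).subtype ⊔ ((Cfsg.generalizedFittingSubgroup ↥(Subgroup.centralizer ({z} : Set G))).map (Subgroup.centralizer ({z} : Set G)).subtype).map (MulAut.conj g).toMonoidHom, x * z * x⁻¹ = u ∧ x * (g * z * g⁻¹) * x⁻¹ = v := by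
  set C := Subgroup.centralizer ({z} : Set G) with hC
  set F := Cfsg.generalizedFittingSubgroup ↥C with hF
  haveI hFn : F.Normal := Cfsg.Agent.Local.gfit_normal
  set Q := F.map C.subtype with hQdef
  have hzz : z * z = 1 := by rw [← sq, ← hz, pow_orderOf_eq_one]
  have hz1 : z ≠ 1 := fun h => by rw [h, orderOf_one] at hz; omega
  have hzC : z ∈ C := Subgroup.mem_centralizer_singleton_iff.2 rfl
  have hzF : (⟨z, hzC⟩ : ↥C) ∈ F := Cfsg.Agent.Solv.centralizer_gfit_le
    (Subgroup.mem_centralizer_iff.2 fun f _ =>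
      Subtype.ext (Subgroup.mem_centralizer_singleton_iff.1 f.2))
  have hF4 : ∀ q : ↥F, q ^ 4 = 1 := fun q => Subtype.ext (Subtype.ext (by
    have := h4 _ ⟨(q : ↥C), q.2, rfl⟩
    simpa using this))
  obtain ⟨hsq, hcen⟩ := Cfsg.Agent.LocalEven.SymConj.sq_small hQ hF4 (ζ := ⟨⟨z, hzC⟩, hzF⟩)
    (fun q => Subtype.ext (Subtype.ext (Subgroup.mem_centralizer_singleton_iff.1 (q : ↥C).2)))
    (Subtype.ext (Subtype.ext hzz))
    (fun e => hz1 (congrArg (fun f : ↥F => ((f : ↥C) : G)) e))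
  have hsym : Cfsg.Agent.LocalEven.SymConj.Sym z Q := by
    have hsq' : ∀ q ∈ Q, q * q = 1 ∨ q * q = z := by
      rintro _ ⟨q, hq, rfl⟩
      exact (hsq ⟨q, hq⟩).imp (congrArg fun f : ↥F => ((f : ↥C) : G)) (congrArg fun f : ↥F => ((f : ↥C) : G))
    have hcz : ∀ q ∈ Q, q * z = z * q := by
      rintro _ ⟨q, -, rfl⟩
      exact Subgroup.mem_centralizer_singleton_iff.1 q.2
    refine ⟨⟨_, hzF, rfl⟩, hzz, hcz, hsq', ?_, ?_, ?_, ?_⟩
    · intro a ha b hb
      have e1 : a * b * a⁻¹ = b * ((b⁻¹ * b⁻¹) * ((b * a) * (b * a)) * (a⁻¹ * a⁻¹)) := by group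
      refine ⟨_, ?_, e1⟩
      have h1 := hsq' _ (inv_mem hb)
      have h2 := hsq' _ (mul_mem hb ha)
      have h3 := hsq' _ (inv_mem ha)
      rcases h1 with e | e <;> rcases h2 with e' | e' <;> rcases h3 with e'' | e'' <;> rw [e, e', e''] <;>
        simp [hzz]
    · rintro _ ⟨t, ht, rfl⟩ ht2 htc
      exact (hcen ⟨t, ht⟩ (Subtype.ext (Subtype.ext ht2)) fun q => Subtype.ext (Subtype.ext
        (htc _ ⟨(q : ↥C), q.2, rfl⟩))).imp (congrArg fun f : ↥F => ((f : ↥C) : G))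
          (congrArg fun f : ↥F => ((f : ↥C) : G))
    · rintro c hc _ ⟨q, hq, rfl⟩
      exact ⟨⟨c, Subgroup.mem_centralizer_singleton_iff.2 hc⟩ * q *
        ⟨c, Subgroup.mem_centralizer_singleton_iff.2 hc⟩⁻¹, hFn.conj_mem q hq _, rfl⟩
    · intro c hc hcq
      exact ⟨⟨c, Subgroup.mem_centralizer_singleton_iff.2 hc⟩, Cfsg.Agent.Solv.centralizer_gfit_le
        (Subgroup.mem_centralizer_iff.2 fun f hf => Subtype.ext (hcq f ⟨f, hf, rfl⟩).symm), rfl⟩
  have hzB := hsym.symmetric hne hin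
  refine ⟨hzB, ?_⟩
  obtain ⟨w, hw⟩ : ∃ w, w = g * z * g⁻¹ := ⟨_, rfl⟩
  rw [← hw] at hne hin ⊢
  have hsw := hsym.conj g
  rw [← hw] at hsw
  have hzw : w * z = z * w := hsym.cz w hin
  have hw1 : w ≠ 1 := fun e => hz1 (by
    calc z = g⁻¹ * w * g := by rw [hw]; group
      _ = 1 := by rw [e]; group)
  obtain ⟨x, hx, hxz, hxw⟩ : ∃ x ∈ Q, x * z * x⁻¹ = z ∧ x * w * x⁻¹ = w * z := by
    by_contra hno
    push Not at hno
    rcases hsym.cen w hin hsw.two (fun q hq => by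
      obtain ⟨e, he, e1⟩ := hsym.comm q hq w hin
      rcases he with rfl | he
      · rw [mul_one, mul_inv_eq_iff_eq_mul] at e1; exact e1
      · exact absurd (he ▸ e1) (hno q hq (by rw [hsym.cz q hq, mul_inv_cancel_right]))) with e | e
    · exact hw1 e
    · exact hne e
  obtain ⟨y, hy, hyw, hyz⟩ : ∃ y ∈ Q.map (MulAut.conj g).toMonoidHom, y * w * y⁻¹ = w ∧ y * z * y⁻¹ = z * w := by
    by_contra hno
    push Not at hno
    rcases hsw.cen z hzB hzz (fun q hq => by
      obtain ⟨e, he, e1⟩ := hsw.comm q hq z hzB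
      rcases he with rfl | he
      · rw [mul_one, mul_inv_eq_iff_eq_mul] at e1; exact e1
      · exact absurd (he ▸ e1) (hno q hq (by rw [hsw.cz q hq, mul_inv_cancel_right]))) with e | e
    · exact hz1 e
    · exact hne e.symm
  have hww := hsw.two
  have hmem : ∀ u ∈ Subgroup.closure ({z, w} : Set G), u = 1 ∨ u = z ∨ u = w ∨ u = z * w := by
    intro u hu
    induction hu using Subgroup.closure_induction with
    | mem a ha => rcases ha with rfl | rfl <;> simp
    | one => exact Or.inl rfl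
    | mul a b _ _ iha ihb =>
      have p1 : z * (z * w) = w := by rw [← mul_assoc, hzz, one_mul]
      have p2 : w * z = z * w := hzw
      have p3 : w * (z * w) = z := by rw [← mul_assoc, hzw, mul_assoc, hww, mul_one]
      have p4 : z * w * z = w := by rw [mul_assoc, hzw, p1]
      have p5 : z * w * w = z := by rw [mul_assoc, hww, mul_one]
      have p6 : z * w * (z * w) = 1 := by rw [← mul_assoc, p4, hww]
      rcases iha with rfl | rfl | rfl | rfl <;> rcases ihb with rfl | rfl | rfl | rfl <;>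
        simp [hzz, hww, p1, p2, p3, p4, p5, p6]
    | inv a _ iha =>
      have p7 : (z * w)⁻¹ = z * w := by
        rw [mul_inv_rev, inv_eq_of_mul_eq_one_right hzz, inv_eq_of_mul_eq_one_right hww, hzw]
      rcases iha with rfl | rfl | rfl | rfl <;>
        simp [inv_eq_of_mul_eq_one_right hzz, inv_eq_of_mul_eq_one_right hww, p7]
  intro u hu v hv hu1 hv1 huv
  have hxQ : x ∈ Q ⊔ Q.map (MulAut.conj g).toMonoidHom := Subgroup.mem_sup_left hx
  have hyQ : y ∈ Q ⊔ Q.map (MulAut.conj g).toMonoidHom := Subgroup.mem_sup_right hy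
  have c2 : ∀ a b e : G, a * b * e * (a * b)⁻¹ = a * (b * e * b⁻¹) * a⁻¹ := fun a b e => by group
  have xzw : x * (z * w) * x⁻¹ = w := by
    rw [← conj_mul, hxz, hxw, hzw, ← mul_assoc, hzz, one_mul]
  have yzw : y * (z * w) * y⁻¹ = z := by rw [← conj_mul, hyz, hyw, mul_assoc, hww, mul_one]
  rcases hmem u hu with rfl | rfl | rfl | rfl <;> rcases hmem v hv with rfl | rfl | rfl | rfl
  all_goals first | exact absurd rfl hu1 | exact absurd rfl hv1 | exact absurd rfl huv | skip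
  · exact ⟨1, one_mem _, by group, by group⟩
  · exact ⟨x, hxQ, hxz, by rw [hxw, hzw]⟩
  · exact ⟨x * y * x, mul_mem (mul_mem hxQ hyQ) hxQ,
      by rw [mul_assoc x y, c2, c2, hxz, hyz, xzw], by rw [mul_assoc x y, c2, c2, hxw, hzw, yzw, hxz]⟩
  · exact ⟨x * y, mul_mem hxQ hyQ, by rw [c2, hyz, xzw], by rw [c2, hyw, hxw, hzw]⟩
  · exact ⟨y * x, mul_mem hyQ hxQ, by rw [c2, hxz, hyz], by rw [c2, hxw, hzw, yzw]⟩
  · exact ⟨y, hyQ, hyz, hyw⟩

end Cfsg.Agent.S1774
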