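import Cfsg.Statements.S1775
import Cfsg.Agent.Lib.Fusion.TerminalPairIff
import Cfsg.Agent.Lib.Fusion.ExtendedLayer
import Cfsg.Agent.Lib.Solv.Component

set_option autoImplicit false
set_option maxHeartbeats 1000000
open Cfsg
open scoped commutatorElement

namespace Cfsg.Agent.S1775

/-- Intrinsic p-components survive epimorphisms with kernel in the core. -/
theorem pq_surj {p : ℕ} [Fact p.Prime] {Y Z : Type*} [Group Y] [Group Z] [Finite Y] [Finite Z]
    (h : Cfsg.Agent.PComp.PQ p Y) (f : Y →* Z) (hf : Function.Surjective f)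
    (hk : f.ker ≤ Cfsg.pPrimeCore p Y) : Cfsg.Agent.PComp.PQ p Z := by
  haveI : ((Cfsg.pPrimeCore p Y).map f).Normal :=
    (inferInstance : (Cfsg.pPrimeCore p Y).Normal).map f hf
  have hcore : (Cfsg.pPrimeCore p Z).comap f = Cfsg.pPrimeCore p Y := by
    refine le_antisymm (Cfsg.Agent.Fusion.le_pPrimeCore ?_) (Subgroup.map_le_iff_le_comap.1
      (Cfsg.Agent.Fusion.le_pPrimeCore
        ((Cfsg.Agent.Fusion.card_pPrimeCore_coprime p Y).coprime_dvd_left (Subgroup.card_map_dvd _ f))))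
    set g := f.comp ((Cfsg.pPrimeCore p Z).comap f).subtype with hg
    rw [Subgroup.card_eq_card_quotient_mul_card_subgroup g.ker,
      Nat.card_congr (QuotientGroup.quotientKerEquivRange g).toEquiv]
    refine Nat.Coprime.mul_left ((Cfsg.Agent.Fusion.card_pPrimeCore_coprime p Z).coprime_dvd_left
      (Subgroup.card_dvd_of_le ?_)) ((Cfsg.Agent.Fusion.card_pPrimeCore_coprime p Y).coprime_dvd_left ?_)
    · rintro _ ⟨c, rfl⟩
      exact c.2
    · rw [← Subgroup.card_map_of_injective ((Cfsg.pPrimeCore p Z).comap f).subtype_injective]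
      refine Subgroup.card_dvd_of_le ?_
      rintro _ ⟨c, hc, rfl⟩
      exact hk hc
  set g := (QuotientGroup.mk' (Cfsg.pPrimeCore p Z)).comp f with hg
  have hgk : g.ker = Cfsg.pPrimeCore p Y := by
    rw [hg, ← MonoidHom.comap_ker, QuotientGroup.ker_mk', hcore]
  refine ⟨Cfsg.Agent.Local.isQuasisimple_congr ((QuotientGroup.quotientMulEquivOfEq hgk.symm).trans
    (QuotientGroup.quotientKerEquivOfSurjective g ((QuotientGroup.mk'_surjective _).comp hf))) h.1,
    fun W hW ht => ?_⟩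
  have h1 := h.2 (W.comap f) (hW.comap f) (by
    rw [← hcore, Subgroup.comap_sup_eq _ _ _ hf, ht, Subgroup.comap_top])
  rw [← Subgroup.map_comap_eq_self_of_surjective hf W, h1, Subgroup.map_top_of_surjective _ hf]

/-- The image of a p-component under a homomorphism with kernel in the core. -/
theorem pq_map {p : ℕ} [Fact p.Prime] {X Z : Type*} [Group X] [Group Z] [Finite X] [Finite Z]
    {K : Subgroup X} (hK : K.IsSubnormal) (h : Cfsg.Agent.PComp.PQ p ↥K) (f : X →* Z)
    (hk : f.ker ≤ Cfsg.pPrimeCore p X) : Cfsg.Agent.PComp.PQ p ↥(K.map f) := by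
  refine pq_surj h (f.subgroupMap K) (f.subgroupMap_surjective K) fun c hc => ?_
  rw [← Cfsg.Agent.PComp.pcore_inf hK]
  exact hk (congrArg Subtype.val hc : f (c : X) = 1)

theorem result {G : Type*} [Group G] [Finite G]
    (hF : IsSimpleGroup ↥(Cfsg.generalizedFittingSubgroup G)) (hF' : ¬ IsMulCommutative ↥(Cfsg.generalizedFittingSubgroup G))
    (hsec : ∀ (H : Subgroup G) (N : Subgroup ↥H) [N.Normal], (H ≠ ⊤ ∨ N ≠ ⊥) → Cfsg.HasBProperty (↥H ⧸ N))
    (x y : G) (hx : orderOf x = 2) (hy : orderOf y = 2) (hxy : x * y = y * x)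
    (J : Subgroup ↥((Cfsg.pLayer 2 ↥(Subgroup.centralizer ({x} : Set G))).map (Subgroup.centralizer ({x} : Set G)).subtype ⊓ Subgroup.centralizer ({y} : Set G)))
    (hJ : Cfsg.IsPComponent 2 J) :
    Cfsg.IsComponent
        ((((J.map (Subgroup.subtype _)).subgroupOf (Subgroup.centralizer ({y} : Set G))).map (QuotientGroup.mk' (Cfsg.oddCore ↥(Subgroup.centralizer ({y} : Set G))))).subgroupOf
          (Subgroup.centralizer ({(QuotientGroup.mk' (Cfsg.oddCore ↥(Subgroup.centralizer ({y} : Set G))) ⟨x, Subgroup.mem_centralizer_singleton_iff.mpr hxy⟩ : ↥(Subgroup.centralizer ({y} : Set G)) ⧸ Cfsg.oddCore ↥(Subgroup.centralizer ({y} : Set G)))} : Set _))) ∧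
      ∀ E : Subgroup G, E ≤ Subgroup.centralizer ({x} : Set G) ⊓ Subgroup.centralizer ({y} : Set G) → Odd (Nat.card ↥E) →
        (∀ j ∈ J.map (Subgroup.subtype _), ∀ e ∈ E, j * e * j⁻¹ ∈ E) →
          ⁅J.map (Subgroup.subtype _), E⁆ ≤ (Cfsg.oddCore ↥(Subgroup.centralizer ({y} : Set G))).map (Subgroup.centralizer ({y} : Set G)).subtype := by
  classical
  haveI : Fact (Nat.Prime 2) := ⟨Nat.prime_two⟩
  -- the centraliser of `y` is proper
  have hy1 : y ≠ 1 := fun h => by rw [h, orderOf_one] at hy; exact absurd hy (by decide)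
  have hCy : Subgroup.centralizer ({y} : Set G) ≠ ⊤ := by
    intro htop
    have hyc : y ∈ Subgroup.centralizer (Cfsg.generalizedFittingSubgroup G : Set G) :=
      Subgroup.mem_centralizer_iff.2 fun g _ =>
        (Subgroup.mem_centralizer_singleton_iff.1 (htop ▸ Subgroup.mem_top g))
    have hyF := Cfsg.Agent.Solv.centralizer_gfit_le hyc
    have hyZ : (⟨y, hyF⟩ : ↥(Cfsg.generalizedFittingSubgroup G)) ∈
        Subgroup.center ↥(Cfsg.generalizedFittingSubgroup G) :=
      Subgroup.mem_center_iff.2 fun g => Subtype.ext (Subgroup.mem_centralizer_iff.1 hyc g g.2)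
    haveI := hF
    rcases (inferInstance : (Subgroup.center ↥(Cfsg.generalizedFittingSubgroup G)).Normal).eq_bot_or_eq_top
      with h | h
    · rw [h, Subgroup.mem_bot] at hyZ
      exact hy1 (congrArg Subtype.val hyZ)
    · exact hF' ⟨⟨fun a b => (Subgroup.mem_center_iff.1 (h ▸ Subgroup.mem_top a) b).symm⟩⟩
  obtain ⟨hCxy, hP⟩ := And.intro hxy (hsec (Subgroup.centralizer ({y} : Set G))
    (Cfsg.oddCore ↥(Subgroup.centralizer ({y} : Set G))) (Or.inl hCy))
  let Cx := Subgroup.centralizer ({x} : Set G)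
  let Cy := Subgroup.centralizer ({y} : Set G)
  let π := QuotientGroup.mk' (Cfsg.oddCore ↥Cy)
  set xC : ↥Cy := ⟨x, Subgroup.mem_centralizer_singleton_iff.mpr hxy⟩
  set Z : Subgroup (↥Cy ⧸ Cfsg.oddCore ↥Cy) := Subgroup.centralizer {π xC}
  have hodd : ∀ c ∈ Cfsg.oddCore ↥Cy, Odd (orderOf c) := fun c hc =>
    (Nat.coprime_two_right.1 (Cfsg.Agent.Fusion.card_pPrimeCore_coprime 2 ↥Cy)).of_dvd_nat
      (Subgroup.orderOf_dvd_natCard _ hc)
  -- the image of `x` is an involution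
  have hx2 : xC * xC = 1 := Subtype.ext (by
    show x * x = 1
    rw [← pow_two, ← hx, pow_orderOf_eq_one])
  have hxo : orderOf (π xC) = 2 := by
    refine orderOf_eq_prime (by rw [pow_two, ← map_mul, hx2, map_one]) fun h => ?_
    have h1 := hodd xC ((QuotientGroup.eq_one_iff _).1 h)
    rw [← Subgroup.orderOf_coe, show (xC : G) = x from rfl, hx] at h1
    exact absurd h1 (by decide)
  -- centralisers lift
  set X1 : Subgroup ↥Cy := Subgroup.centralizer {xC}
  let ψ : ↥X1 →* ↥Z := (π.comp X1.subtype).codRestrict Z fun c =>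
    Subgroup.mem_centralizer_singleton_iff.2 (by
      show π c * π xC = π xC * π c
      rw [← map_mul, ← map_mul, Subgroup.mem_centralizer_singleton_iff.1 c.2])
  have hψs : Function.Surjective ψ := by
    rintro ⟨q, hq⟩
    obtain ⟨c, rfl⟩ := QuotientGroup.mk'_surjective _ q
    set d := c⁻¹ * xC * c * xC with hd
    have hdN : d ∈ Cfsg.oddCore ↥Cy := (QuotientGroup.eq_one_iff _).1 (show π d = 1 by
      rw [hd, map_mul, map_mul, map_mul, map_inv, mul_assoc (π c)⁻¹,
        show π xC * π c = π c * π xC from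
          (Subgroup.mem_centralizer_singleton_iff.1 hq).symm, inv_mul_cancel_left, ← map_mul, hx2, map_one])
    obtain ⟨k, hk⟩ := hodd d hdN
    have hinv : xC * d * xC = d⁻¹ := by
      refine eq_inv_of_mul_eq_one_left ?_
      rw [hd]
      calc xC * (c⁻¹ * xC * c * xC) * xC * (c⁻¹ * xC * c * xC)
          = xC * c⁻¹ * xC * c * (xC * xC) * c⁻¹ * xC * c * xC := by simp only [mul_assoc]
        _ = xC * c⁻¹ * (xC * xC) * c * xC := by
            conv_lhs => rw [hx2, mul_one]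
            simp only [mul_assoc, mul_inv_cancel_left]
        _ = xC * xC := by
            conv_lhs => rw [hx2]
            group
        _ = 1 := hx2
    set n := d ^ (k + 1) with hn
    have hnx : xC * n = n⁻¹ * xC := by
      have h1 : ∀ j : ℕ, xC * d ^ j = (d⁻¹) ^ j * xC := by
        intro j
        induction j with
        | zero => simp
        | succ j ih =>
          calc xC * d ^ (j + 1) = (xC * d ^ j) * d := by rw [pow_succ, mul_assoc]
            _ = (d⁻¹) ^ j * (xC * d * (xC * xC)) := by rw [ih, hx2]; group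
            _ = (d⁻¹) ^ j * (xC * d * xC) * xC := by simp only [mul_assoc]
            _ = (d⁻¹) ^ (j + 1) * xC := by rw [hinv, pow_succ]
      rw [hn, h1, inv_pow]
    have hnn : n * n = d := by
      rw [hn, ← pow_add, show k + 1 + (k + 1) = orderOf d + 1 by omega, pow_succ, pow_orderOf_eq_one,
        one_mul]
    refine ⟨⟨c * n, Subgroup.mem_centralizer_singleton_iff.2 ?_⟩, Subtype.ext ?_⟩
    · calc c * n * xC = c * (n * n) * (n⁻¹ * xC) := by group
        _ = c * d * (xC * n) := by rw [hnn, hnx]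
        _ = xC * c * (xC * xC) * n := by rw [hd]; group
        _ = xC * (c * n) := by rw [hx2, mul_one, mul_assoc]
    · show π (c * n) = π c
      rw [map_mul, show π n = 1 from (QuotientGroup.eq_one_iff _).2 (pow_mem hdN _), mul_one]
  have hψk : ψ.ker ≤ Cfsg.pPrimeCore 2 ↥X1 := by
    refine Cfsg.Agent.Fusion.le_pPrimeCore ?_
    refine (Cfsg.Agent.Fusion.card_pPrimeCore_coprime 2 ↥Cy).coprime_dvd_left ?_
    rw [← Subgroup.card_map_of_injective X1.subtype_injective]
    refine Subgroup.card_dvd_of_le ?_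
    rintro _ ⟨c, hc, rfl⟩
    exact (QuotientGroup.eq_one_iff _).1 (congrArg Subtype.val hc)
  -- `J` as a 2-component of `X1`
  let L := (Cfsg.pLayer 2 ↥Cx).map Cx.subtype
  let J' := J.map (L ⊓ Cy).subtype
  obtain ⟨hJsn, hJq⟩ := Cfsg.Agent.PComp.isPComponent_iff.1 hJ
  have hJD : J' ≤ Cx ⊓ Cy :=
    (Subgroup.map_subtype_le _).trans (inf_le_inf_right _ (Subgroup.map_subtype_le _))
  have hMn : ((L ⊓ Cy).subgroupOf (Cx ⊓ Cy)).Normal := by
    haveI := Cfsg.Agent.Fusion.pLayer_normal (p := 2) (X := ↥Cx)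
    refine ⟨fun m hm g => Subgroup.mem_subgroupOf.2 ⟨?_, ?_⟩⟩
    · obtain ⟨a, ha, hae⟩ := (Subgroup.mem_subgroupOf.1 hm).1
      exact ⟨⟨g, g.2.1⟩ * a * ⟨g, g.2.1⟩⁻¹,
        (inferInstance : (Cfsg.pLayer 2 ↥Cx).Normal).conj_mem a ha _, by
          show (g : G) * (a : G) * (g : G)⁻¹ = g * m * (g : G)⁻¹
          rw [show (a : G) = m from hae]⟩
    · exact Subgroup.mul_mem _ (Subgroup.mul_mem _ g.2.2 (Subgroup.mem_subgroupOf.1 hm).2)
        (Subgroup.inv_mem _ g.2.2)
  have hJsn' : (J'.subgroupOf (Cx ⊓ Cy)).IsSubnormal :=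
    Cfsg.Agent.PComp.subnormal_trans (Subgroup.map_subtype_le J)
      (inf_le_inf_right _ (Subgroup.map_subtype_le _))
      (by show ((J.map (L ⊓ Cy).subtype).comap (L ⊓ Cy).subtype).IsSubnormal
          rw [Subgroup.comap_map_eq_self_of_injective (Subgroup.subtype_injective _)]; exact hJsn)
      hMn.isSubnormal
  let ι : ↥X1 →* ↥(Cx ⊓ Cy) := (Cy.subtype.comp X1.subtype).codRestrict _ fun c =>
    ⟨Subgroup.mem_centralizer_singleton_iff.2
      (congrArg Subtype.val (Subgroup.mem_centralizer_singleton_iff.1 c.2)), c.1.2⟩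
  set J1 : Subgroup ↥X1 := (J'.subgroupOf Cy).subgroupOf X1 with hJ1
  have hJ1sn : J1.IsSubnormal := hJsn'.comap ι
  have hJX : J'.subgroupOf Cy ≤ X1 := fun c hc => Subgroup.mem_centralizer_singleton_iff.2
    (Subtype.ext (Subgroup.mem_centralizer_singleton_iff.1 (hJD hc).1))
  let e1 : ↥J ≃* ↥J1 := ((J.equivMapOfInjective _ (Subgroup.subtype_injective _)).trans
    (Subgroup.subgroupOfEquivOfLe (hJD.trans inf_le_right)).symm).trans
      (Subgroup.subgroupOfEquivOfLe hJX).symm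
  have hJ1q := hJq.congr e1
  have himg : J1.map ψ =
      ((J'.subgroupOf Cy).map π).subgroupOf Z := by
    ext q
    constructor
    · rintro ⟨c, hc, rfl⟩
      exact Subgroup.mem_subgroupOf.2 ⟨c.1, hc, rfl⟩
    · intro hq
      obtain ⟨c, hc, hce⟩ := Subgroup.mem_subgroupOf.1 hq
      exact ⟨⟨c, hJX hc⟩, hc, Subtype.ext hce⟩
  have hJb : Cfsg.IsPComponent 2 (J1.map ψ) := Cfsg.Agent.PComp.isPComponent_iff.2
    ⟨hJ1sn.map hψs, pq_map hJ1sn hJ1q ψ hψk⟩
  have hcomp : Cfsg.IsComponent (J1.map ψ) := by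
    refine Cfsg.Agent.TerminalPair.component_of_pComponent hJb ?_
    refine (Subgroup.map_eq_bot_iff_of_injective _ Z.subtype_injective).1 (le_bot_iff.1 ?_)
    refine le_trans (Subgroup.map_mono (Subgroup.commutator_mono (le_sSup hJb) le_rfl))
      ((hP (π xC) hxo).trans ?_)
    exact (Cfsg.Agent.Fusion.pPrimeCore_quotient_eq_bot (p := 2) (G := ↥Cy)).le
  refine ⟨himg ▸ hcomp, fun E hE hEodd hEJ => ?_⟩
  -- odd invariant subgroups are centralised
  have hEX : E.subgroupOf Cy ≤ X1 := fun c hc => Subgroup.mem_centralizer_singleton_iff.2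
    (Subtype.ext (Subgroup.mem_centralizer_singleton_iff.1 (hE hc).1))
  set E1 : Subgroup ↥X1 := (E.subgroupOf Cy).subgroupOf X1 with hE1
  have hnorm : J1 ≤ Subgroup.normalizer (E1 : Set ↥X1) := by
    intro c hc
    refine Subgroup.mem_normalizer_iff.2 fun e => ⟨fun he => hEJ _ hc _ he, fun he => ?_⟩
    have h1 : ((c⁻¹ * (c * e * c⁻¹) * c⁻¹⁻¹ : ↥X1) : ↥Cy).1 ∈ E := hEJ _ (inv_mem hc) _ he
    rwa [show c⁻¹ * (c * e * c⁻¹) * c⁻¹⁻¹ = e by group] at h1
  have hbnorm : J1.map ψ ≤ Subgroup.normalizer ((E1.map ψ : Subgroup ↥Z) : Set ↥Z) :=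
    (Subgroup.map_mono hnorm).trans (Subgroup.le_normalizer_map ψ)
  set W := J1.map ψ ⊔ E1.map ψ with hW
  haveI hEn : ((E1.map ψ).subgroupOf W).Normal :=
    (Subgroup.normal_subgroupOf_iff_le_normalizer le_sup_right).2 (sup_le hbnorm Subgroup.le_normalizer)
  have hcard : Nat.card ↥E1 ∣ Nat.card ↥E := by
    rw [Nat.card_congr (Subgroup.subgroupOfEquivOfLe hEX).toEquiv,
      Nat.card_congr (Subgroup.subgroupOfEquivOfLe (hE.trans inf_le_right)).toEquiv]
  rcases Cfsg.Agent.Solv.component_normal_dichotomy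
      (Cfsg.Agent.Solv.component_subgroupOf hcomp (le_sup_left : J1.map ψ ≤ W))
      ((E1.map ψ).subgroupOf W) with h | h
  · exfalso
    have h1 := (Cfsg.Agent.Fusion.pComponent_dvd hJb).trans
      (((Subgroup.card_dvd_of_le (fun c hc => h (show (⟨c, le_sup_left (b := E1.map ψ) hc⟩ : ↥W) ∈
        (J1.map ψ).subgroupOf W from hc) : J1.map ψ ≤ E1.map ψ)).trans
          (Subgroup.card_map_dvd E1 ψ)).trans hcard)
    exact Nat.not_even_iff_odd.2 hEodd (even_iff_two_dvd.2 h1)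
  · refine Subgroup.commutator_le.2 fun j hj e he => ?_
    have hjX : (⟨⟨j, (hJD hj).2⟩, hJX hj⟩ : ↥X1) ∈ J1 := hj
    have heX : (⟨⟨e, (hE he).2⟩, hEX he⟩ : ↥X1) ∈ E1 := he
    have hjW := le_sup_left (b := E1.map ψ) (Subgroup.mem_map_of_mem ψ hjX)
    have heW := le_sup_right (a := J1.map ψ) (Subgroup.mem_map_of_mem ψ heX)
    have h1 := Subgroup.commutator_mem_commutator
      (show (⟨_, hjW⟩ : ↥W) ∈ (J1.map ψ).subgroupOf W from Subgroup.mem_map_of_mem ψ hjX)
      (show (⟨_, heW⟩ : ↥W) ∈ (E1.map ψ).subgroupOf W from Subgroup.mem_map_of_mem ψ heX)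
    rw [h, Subgroup.mem_bot] at h1
    have h2 : π ⁅(⟨j, (hJD hj).2⟩ : ↥Cy), ⟨e, (hE he).2⟩⁆ = 1 := by
      rw [map_commutatorElement]
      exact congrArg (fun w : ↥W => ((w : ↥Z) : ↥Cy ⧸ Cfsg.oddCore ↥Cy)) h1
    exact ⟨_, (QuotientGroup.eq_one_iff _).1 h2, rfl⟩

end Cfsg.Agent.S1775
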