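import Cfsg.Statements.S1780
import Mathlib

set_option autoImplicit false
open Cfsg

namespace Cfsg.Agent.S1780

variable {A : Type*} [CommGroup A]

theorem step (hA : IsPGroup 2 A) (t : MulAut A) (hC : ∀ a : A, t (t a) = a → t a = a)
    (a : A) (ha : t (t (t (t a))) = a) : t (t a) = a := by
  have four : ∀ x : A, t (t x) = x⁻¹ → x ^ 4 = 1 → x ^ 2 = 1 := by
    intro x hx h4
    have hy : t (x ^ 2) = x ^ 2 := by
      apply hC
      rw [map_pow, map_pow, hx, inv_pow, inv_eq_iff_mul_eq_one, ← pow_add, h4]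
    have hz2 : (x * t x) ^ 2 = 1 := by
      rw [mul_pow, ← map_pow, hy, ← pow_add, h4]
    have hz : t (x * t x) = x * t x := by
      apply hC
      rw [map_mul, map_mul, hx, map_inv, ← mul_inv, inv_eq_iff_mul_eq_one, ← pow_two, hz2]
    rw [map_mul, hx, mul_comm x] at hz
    have hxx : x⁻¹ = x := mul_left_cancel hz
    rw [pow_two]
    nth_rewrite 1 [← hxx]
    exact inv_mul_cancel x
  have all : ∀ m : ℕ, ∀ x : A, t (t x) = x⁻¹ → x ^ 2 ^ (m + 1) = 1 → x ^ 2 = 1 := by
    intro m
    induction m with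
    | zero => intro x _ h; simpa using h
    | succ m ih =>
      intro x hx h
      refine ih x hx ?_
      rw [pow_succ, pow_mul]
      refine four _ (by rw [map_pow, map_pow, hx, inv_pow]) ?_
      rw [← pow_mul]
      rwa [show 2 ^ m * 4 = 2 ^ (m + 1 + 1) by ring]
  have he : t (a * t (t a)) = a * t (t a) := by
    apply hC
    rw [map_mul, map_mul, ha, mul_comm]
  have hd : t (t (a / t a)) = (a / t a)⁻¹ := by
    rw [map_div, map_div, inv_div, div_eq_div_iff_mul_eq_mul, mul_comm, ← he, map_mul]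
  obtain ⟨k, hk⟩ := hA (a / t a)
  have h2 : (a / t a) ^ 2 = 1 := all k _ hd (by rw [pow_succ, pow_mul, hk, one_pow])
  have hd1 : t (a / t a) = a / t a := by
    apply hC
    rw [hd, inv_eq_iff_mul_eq_one, ← pow_two, h2]
  rw [map_div, div_eq_div_iff_mul_eq_mul, ← pow_two] at hd1
  rw [div_pow, div_eq_one] at h2
  have := hd1
  rw [← h2, pow_two] at this
  exact (mul_left_cancel this).symm

theorem result {A : Type*} [CommGroup A] [Finite A]
    (hA : IsPGroup 2 A) (t : MulAut A) (ht : ∃ k : ℕ, orderOf t = 2 ^ k) (hC : ∀ a : A, t (t a) = a → t a = a) :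
    ∀ a : A, t a = a := by
  obtain ⟨k, hk⟩ := ht
  have h1 : t ^ 2 ^ k = 1 := by rw [← hk]; exact pow_orderOf_eq_one t
  clear hk
  induction k generalizing t with
  | zero => intro a; rw [pow_zero, pow_one] at h1; rw [h1]; rfl
  | succ k ih =>
    intro a
    apply hC
    refine ih (t ^ 2) (fun b hb => ?_) ?_ a
    · simp only [pow_two, MulAut.mul_apply] at hb ⊢
      exact step hA t hC b hb
    · rw [← pow_mul, ← pow_succ']; exact h1

end Cfsg.Agent.S1780
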