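import Cfsg.Statements.S1781
import Cfsg.Agent.Lib.Local.Basics
import Cfsg.Agent.S1757
import Cfsg.Agent.S1780

set_option autoImplicit false
open Cfsg

namespace Cfsg.Agent.S1781

open Cfsg.Agent.Local in
theorem result {G : Type*} [Group G] [Finite G] (A : Subgroup G)
    (hA2 : IsPGroup 2 ↥A) (hAa : IsMulCommutative ↥A)
    (hti : ∀ h : G, A.map (MulAut.conj h).toMonoidHom = A ∨ A.map (MulAut.conj h).toMonoidHom ⊓ A = ⊥)
    (g : G) (hg : A.map (MulAut.conj g).toMonoidHom ≠ A) :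
    Cfsg.IsElementaryAbelian 2 (A ⊓ Subgroup.normalizer ((A.map (MulAut.conj g).toMonoidHom : Subgroup G) : Set G)) ∨
      ⁅A, A.map (MulAut.conj g).toMonoidHom⁆ = ⊥ := by
  set B := A.map (MulAut.conj g).toMonoidHom with hBdef
  set X := A ⊓ Subgroup.normalizer (B : Set G) with hX
  haveI hBc : IsMulCommutative ↥B := by
    constructor; constructor
    rintro ⟨x, hx⟩ ⟨y, hy⟩
    rw [hBdef, mem_conj_map] at hx hy
    have := congrArg Subtype.val (hAa.1.1 ⟨_, hx⟩ ⟨_, hy⟩)
    simp only [Subgroup.coe_mul] at this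
    apply Subtype.ext
    change x * y = y * x
    calc x * y = g * ((g⁻¹ * x * g) * (g⁻¹ * y * g)) * g⁻¹ := by group
      _ = g * ((g⁻¹ * y * g) * (g⁻¹ * x * g)) * g⁻¹ := by rw [this]
      _ = y * x := by group
  by_cases hel : ∀ a ∈ X, a ^ 2 = 1
  · left
    refine ⟨⟨⟨?_⟩⟩, hel⟩
    rintro ⟨x, hx⟩ ⟨y, hy⟩
    have := congrArg Subtype.val (hAa.1.1 ⟨x, hx.1⟩ ⟨y, hy.1⟩)
    exact Subtype.ext this
  right
  push Not at hel
  obtain ⟨a, ⟨haA, haN⟩, ha2⟩ := hel
  have hAB : A ⊓ B = ⊥ := by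
    rw [inf_comm]; exact (hti g).resolve_left hg
  have hB2 : IsPGroup 2 ↥B := hA2.map _
  have hBconj : ∀ b ∈ B, a * b * a⁻¹ ∈ B := fun b hb => (Subgroup.mem_normalizer_iff.mp haN b).mp hb
  let t : MulAut ↥B := (Subgroup.normalizerMonoidHom B ⟨a, haN⟩)
  have htv : ∀ b : ↥B, ((t b : ↥B) : G) = a * b * a⁻¹ := fun b => rfl
  have htk : ∃ k, orderOf t = 2 ^ k := by
    obtain ⟨k, hk⟩ := hA2 ⟨a, haA⟩
    have hk' : a ^ 2 ^ k = 1 := congrArg Subtype.val hk
    have : orderOf t ∣ 2 ^ k := by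
      apply orderOf_dvd_of_pow_eq_one
      rw [← map_pow]
      convert map_one (Subgroup.normalizerMonoidHom B)
      exact Subtype.ext hk'
    obtain ⟨j, _, hj⟩ := (Nat.dvd_prime_pow Nat.prime_two).mp this
    exact ⟨j, hj⟩
  have hfix : ∀ b : ↥B, t b = b := by
    letI : CommGroup ↥B := { (inferInstance : Group ↥B) with mul_comm := hBc.1.1 }
    refine Cfsg.Agent.S1780.result hB2 t htk ?_
    intro b hb
    have hb' : a ^ 2 * (b : G) * (a ^ 2)⁻¹ = b := by
      have := congrArg Subtype.val hb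
      rw [htv, htv] at this
      calc a ^ 2 * (b : G) * (a ^ 2)⁻¹ = a * (a * b * a⁻¹) * a⁻¹ := by rw [pow_two]; group
        _ = b := this
    have hcomm : (b : G) * a ^ 2 = a ^ 2 * b := (mul_inv_eq_iff_eq_mul.mp hb').symm
    have hbN := mem_normalizer_of_commute_ti hti (A.pow_mem haA 2) ha2 hcomm
    have h1 : a * (b : G) * a⁻¹ * (b : G)⁻¹ ∈ A ⊓ B := by
      refine ⟨?_, B.mul_mem (hBconj b b.2) (B.inv_mem b.2)⟩
      have := A.mul_mem haA ((Subgroup.mem_normalizer_iff.mp hbN _).mp (A.inv_mem haA))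
      simpa [mul_assoc] using this
    rw [hAB, Subgroup.mem_bot, mul_inv_eq_one] at h1
    exact Subtype.ext h1
  have ha1 : a ≠ 1 := fun h => ha2 (by rw [h, one_pow])
  have hBN : B ≤ Subgroup.normalizer (A : Set G) := by
    intro b hb
    refine mem_normalizer_of_commute_ti hti haA ha1 ?_
    have := congrArg Subtype.val (hfix ⟨b, hb⟩)
    rw [htv] at this
    exact (mul_inv_eq_iff_eq_mul.mp this).symm
  refine Cfsg.Agent.S1757.result 2 A B hA2 hB2 hti ?_ (card_conj_map A g).ge hAB hBN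
  intro h
  rcases hti (g⁻¹ * h * g) with h1 | h1
  · left
    have := congrArg (Subgroup.map (MulAut.conj g).toMonoidHom) h1
    rw [hBdef, Subgroup.map_map] at *
    convert this using 2
    ext x; simp [mul_assoc]
  · right
    have := congrArg (Subgroup.map (MulAut.conj g).toMonoidHom) h1
    rw [Subgroup.map_inf _ _ _ (MulAut.conj g).injective, Subgroup.map_bot, Subgroup.map_map] at this
    rw [hBdef, Subgroup.map_map]
    convert this using 3
    ext x; simp [mul_assoc]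

end Cfsg.Agent.S1781
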