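import Cfsg.Statements.S1782
import Cfsg.Agent.Lib.Solv.PGroupPhi
import Cfsg.Agent.Lib.Solv.Kulakoff

set_option autoImplicit false
open Cfsg
open Cfsg.Agent
open scoped commutatorElement

namespace Cfsg.Agent.S1782

/-- Let S be a finite 2-group and Δ a set of subgroups of S closed under conjugation by S, all of the same order, each with nontrivial Frattini subgroup, and such that two distinct members of Δ meet trivially. Then any two distinct members of Δ commute elementwise. -/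
theorem result {S : Type*} [Group S] [Finite S] (hS : IsPGroup 2 S)
    (Δ : Set (Subgroup S)) (hinv : ∀ s : S, ∀ R ∈ Δ, R.map (MulAut.conj s).toMonoidHom ∈ Δ)
    (hΦ : ∀ R ∈ Δ, frattini ↥R ≠ ⊥) (hord : ∀ R ∈ Δ, ∀ T ∈ Δ, Nat.card ↥R = Nat.card ↥T)
    (hti : ∀ R ∈ Δ, ∀ T ∈ Δ, R = T ∨ R ⊓ T = ⊥) :
    ∀ R ∈ Δ, ∀ T ∈ Δ, R ≠ T → ⁅R, T⁆ = ⊥ := by
  classical
  haveI : Fact (Nat.Prime 2) := ⟨Nat.prime_two⟩
  -- elementwise form
  suffices key : ∀ n : ℕ, ∀ R ∈ Δ, ∀ T ∈ Δ, Nat.card (R ⊔ T : Subgroup S) ≤ n → R ≠ T →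
      ∀ r ∈ R, ∀ t ∈ T, r * t = t * r by
    intro R hR T hT hne
    rw [Subgroup.commutator_eq_bot_iff_le_centralizer]
    intro r hr
    rw [Subgroup.mem_centralizer_iff]
    intro t ht
    exact (key _ R hR T hT le_rfl hne r hr t ht).symm
  intro n
  induction n with
  | zero => intro R _ T _ h; exact absurd h (not_le.2 Nat.card_pos)
  | succ n ih =>
    intro R hR T hT hn hRT
    have hmemcj : ∀ {X : Subgroup S} {g x : S}, x ∈ X → g * x * g⁻¹ ∈ X.map (MulAut.conj g).toMonoidHom :=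
      fun hx => ⟨_, hx, rfl⟩
    have hsmall : ∀ A ∈ Δ, ∀ B ∈ Δ, A ⊔ B = R ⊔ T → A ≠ B → ∀ g ∈ B,
        A.map (MulAut.conj g).toMonoidHom ≠ A →
        ∀ a ∈ A, ∀ a' ∈ A, (g * a * g⁻¹) * a' = a' * (g * a * g⁻¹) := by
      intro A hA B hB hAB hne g hg hgA a ha a' ha'
      have hAJ : A ≤ R ⊔ T := hAB ▸ le_sup_left
      have hgJ : g ∈ R ⊔ T := hAB ▸ Subgroup.mem_sup_right hg
      have hA'le : A.map (MulAut.conj g).toMonoidHom ≤ R ⊔ T := by
        rintro _ ⟨x, hx, rfl⟩
        exact mul_mem (mul_mem hgJ (hAJ hx)) (inv_mem hgJ)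
      have hlt : A.subgroupOf (R ⊔ T) ≠ ⊤ := by
        intro h
        have h1 : R ⊔ T ≤ A := Subgroup.subgroupOf_eq_top.1 h
        have h2 : B ≤ A := by rw [← hAB] at h1; exact le_sup_right.trans h1
        exact hne (Subgroup.eq_of_le_of_card_ge h2 (hord A hA B hB).le).symm
      obtain ⟨M, hM, hAM⟩ := (eq_top_or_exists_le_coatom (A.subgroupOf (R ⊔ T))).resolve_left hlt
      haveI := Solv.coatom_normal (hS.to_subgroup (R ⊔ T)) hM
      have h3 : A.map (MulAut.conj g).toMonoidHom ⊔ A ≤ M.map (R ⊔ T).subtype := by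
        refine sup_le ?_ fun x hx => ⟨⟨x, hAJ hx⟩, hAM (Subgroup.mem_subgroupOf.2 hx), rfl⟩
        rintro _ ⟨x, hx, rfl⟩
        exact ⟨_, (inferInstance : M.Normal).conj_mem ⟨x, hAJ hx⟩ (hAM (Subgroup.mem_subgroupOf.2 hx))
          ⟨g, hgJ⟩, rfl⟩
      have h4 : Nat.card (A.map (MulAut.conj g).toMonoidHom ⊔ A : Subgroup S) ≤ n := by
        have h5 : Nat.card (M.map (R ⊔ T).subtype) < Nat.card (R ⊔ T : Subgroup S) := by
          rw [Subgroup.card_map_of_injective (R ⊔ T).subtype_injective]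
          exact lt_of_le_of_ne (Subgroup.card_le_card_group M) fun h => hM.1 (Subgroup.card_eq_iff_eq_top _ |>.1 h)
        have := Subgroup.card_le_of_le h3
        omega
      exact ih _ (hinv g A hA) A hA h4 hgA _ (hmemcj ha) a' ha'
    have hnz : ∀ A ∈ Δ, ∃ a ∈ A, a ^ 2 ≠ 1 := by
      intro A hA
      by_contra hcon
      push Not at hcon
      refine hΦ A hA (eq_bot_iff.2 ?_)
      haveI : (⊥ : Subgroup A).Normal := inferInstance
      refine Solv.frattini_le (p := 2) ⊥ (fun a b => ?_) (fun a => ?_)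
      · rw [Subgroup.mem_bot, commutatorElement_eq_one_iff_mul_comm]
        have hinv' : ∀ x : A, x⁻¹ = x := fun x => inv_eq_of_mul_eq_one_right (Subtype.ext (by
          have := hcon x x.2; rwa [pow_two] at this))
        calc a * b = (a * b)⁻¹ := (hinv' _).symm
          _ = b * a := by rw [mul_inv_rev, hinv', hinv']
      · rw [Subgroup.mem_bot]
        exact Subtype.ext (by simpa using hcon a a.2)
    -- if `A` is normalized by `B` and `A`, then `A` normalizes `B`
    have hnorm : ∀ A ∈ Δ, ∀ B ∈ Δ, A ⊔ B = R ⊔ T → A ≠ B →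
        (∀ b ∈ B, A.map (MulAut.conj b).toMonoidHom = A) →
        ∀ a ∈ A, B.map (MulAut.conj a).toMonoidHom = B := by
      intro A hA B hB hAB hne hn0 r hr
      by_contra hr0
      obtain ⟨B', hB'⟩ : ∃ B', B' = B.map (MulAut.conj r).toMonoidHom := ⟨_, rfl⟩
      have hcom : ∀ u ∈ B, ∀ v ∈ B, Commute (r * u * r⁻¹) v := fun u hu v hv =>
        hsmall B hB A hA (by rw [sup_comm]; exact hAB) hne.symm r hr hr0 u hu v hv
      have hAB0 : A ⊓ B = ⊥ := (hti A hA B hB).resolve_left hne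
      have hmove : ∀ v ∈ B, ∀ a ∈ A, v * a * v⁻¹ ∈ A := fun v hv a ha => hn0 v hv ▸ hmemcj ha
      -- the elements `t⁻¹ t^r` lie in `A`, and they multiply
      have hd : ∀ v ∈ B, v⁻¹ * (r * v * r⁻¹) ∈ A := by
        intro v hv
        have h := mul_mem (hmove v⁻¹ (inv_mem hv) r hr) (inv_mem hr)
        simpa [mul_assoc] using h
      have hBab : ∀ u ∈ B, ∀ v ∈ B, u * v = v * u := by
        intro u hu v hv
        have h1 := mul_mem (mul_mem (hd v hv) (hd u hu)) (inv_mem (hd _ (mul_mem hv hu)))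
        have c1 : Commute (r * v * r⁻¹) u⁻¹ := hcom v hv u⁻¹ (inv_mem hu)
        have c2 : v⁻¹ * (r * v * r⁻¹) * (u⁻¹ * (r * u * r⁻¹)) * ((v * u)⁻¹ * (r * (v * u) * r⁻¹))⁻¹
            = v⁻¹ * u⁻¹ * (v * u) := by
          rw [mul_assoc v⁻¹, ← mul_assoc (r * v * r⁻¹), c1.eq]
          group
        rw [c2] at h1
        have h2 : v⁻¹ * u⁻¹ * (v * u) ∈ A ⊓ B :=
          Subgroup.mem_inf.2 ⟨h1, mul_mem (mul_mem (inv_mem hv) (inv_mem hu)) (mul_mem hv hu)⟩
        rw [hAB0, Subgroup.mem_bot] at h2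
        calc u * v = u * v * (v⁻¹ * u⁻¹ * (v * u)) := by rw [h2, mul_one]
          _ = v * u := by group
      let f : B →* A := MonoidHom.mk' (fun v => ⟨(v : S)⁻¹ * (r * v * r⁻¹), hd v v.2⟩) (fun v u => Subtype.ext (by
        show ((v * u : B) : S)⁻¹ * (r * ((v * u : B) : S) * r⁻¹) =
          (v : S)⁻¹ * (r * v * r⁻¹) * ((u : S)⁻¹ * (r * u * r⁻¹))
        have c1 : Commute (r * (v : S) * r⁻¹) (u : S)⁻¹ := hcom v v.2 _ (inv_mem u.2)
        rw [mul_assoc (v : S)⁻¹, ← mul_assoc (r * (v : S) * r⁻¹), c1.eq, Subgroup.coe_mul,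
          hBab v v.2 u u.2]
        rw [show ((u : S) * v)⁻¹ = (v : S)⁻¹ * (u : S)⁻¹ from mul_inv_rev _ _, ← hBab v v.2 u u.2]
        group))
      have hfix0 : ∀ v ∈ B, r * v * r⁻¹ = v → v = 1 := by
        intro v hv h
        have h' : v ∈ B.map (MulAut.conj r).toMonoidHom ⊓ B :=
          Subgroup.mem_inf.2 ⟨h ▸ hmemcj hv, hv⟩
        rwa [(hti _ (hinv r B hB) B hB).resolve_left hr0, Subgroup.mem_bot] at h'
      have hfinj : Function.Injective f := by
        rw [injective_iff_map_eq_one]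
        intro v hv
        have h := congrArg Subtype.val hv
        exact Subtype.ext (hfix0 v v.2 (inv_mul_eq_one.1 h).symm)
      have hfsur : Function.Surjective f := by
        haveI : Fintype A := Fintype.ofFinite _
        haveI : Fintype B := Fintype.ofFinite _
        refine (((Fintype.bijective_iff_injective_and_card f).2 ⟨hfinj, ?_⟩)).2
        rw [← Nat.card_eq_fintype_card, ← Nat.card_eq_fintype_card, hord B hB A hA]
      have hAab : ∀ a ∈ A, r * a * r⁻¹ = a := by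
        intro a ha
        obtain ⟨u, hu⟩ := hfsur ⟨a, ha⟩
        obtain ⟨v, hv⟩ := hfsur ⟨r, hr⟩
        have huv : u * v = v * u := Subtype.ext (hBab u u.2 v v.2)
        have h := congrArg Subtype.val (congrArg f huv)
        rw [map_mul, map_mul, hu, hv] at h
        change a * r = r * a at h
        rw [← h, mul_inv_cancel_right]
      -- `r²` moves `v` to `v⁻¹ (v^r)²`
      have hsq : ∀ v ∈ B, (r * r) * v * (r * r)⁻¹ = v⁻¹ * (r * (v * v) * r⁻¹) := by
        intro v hv
        have h := hAab _ (hd v hv)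
        have c1 : Commute (r * v * r⁻¹) v⁻¹ := hcom v hv v⁻¹ (inv_mem hv)
        calc (r * r) * v * (r * r)⁻¹ = (r * v * r⁻¹) * (r * (v⁻¹ * (r * v * r⁻¹)) * r⁻¹) := by group
          _ = (r * v * r⁻¹) * v⁻¹ * (r * v * r⁻¹) := by rw [h]; group
          _ = _ := by rw [c1.eq]; group
      rcases hti _ (hinv (r * r) B hB) B hB with h | h
      · obtain ⟨v, hv, hv2⟩ := hnz B hB
        have h1 : (r * r) * v * (r * r)⁻¹ ∈ B := h ▸ hmemcj hv
        rw [hsq v hv] at h1
        have h2 : r * (v * v) * r⁻¹ ∈ B := by simpa using mul_mem hv h1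
        have h3 : r * (v * v) * r⁻¹ ∈ B.map (MulAut.conj r).toMonoidHom ⊓ B :=
          Subgroup.mem_inf.2 ⟨hmemcj (mul_mem hv hv), h2⟩
        rw [(hti _ (hinv r B hB) B hB).resolve_left hr0, Subgroup.mem_bot] at h3
        exact hv2 (by rw [pow_two]; exact conj_eq_one_iff.1 h3)
      · obtain ⟨v, hv, hv2⟩ := hnz B hB
        obtain ⟨w, hw⟩ := exists_prime_orderOf_dvd_card' (G := B) 2 (by
          obtain ⟨k, hk⟩ := (hS.to_subgroup B).exists_card_eq
          rcases k with _ | k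
          · rw [pow_zero, Subgroup.card_eq_one] at hk
            rw [hk, Subgroup.mem_bot] at hv
            exact absurd (by rw [hv, one_pow]) hv2
          · exact hk ▸ dvd_pow_self 2 k.succ_ne_zero)
        have hww : (w : S) * w = 1 := by
          have := congrArg Subtype.val (orderOf_dvd_iff_pow_eq_one.1 hw.dvd)
          simpa [pow_two] using this
        have h1 : (w : S) ∈ B.map (MulAut.conj (r * r)).toMonoidHom ⊓ B := by
          refine Subgroup.mem_inf.2 ⟨?_, w.2⟩
          have h2 := hmemcj (g := r * r) w.2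
          rw [hsq _ w.2, hww, mul_one, mul_inv_cancel, mul_one, inv_eq_of_mul_eq_one_right hww] at h2
          exact h2
        rw [h, Subgroup.mem_bot] at h1
        rw [show w = 1 from Subtype.ext h1, orderOf_one] at hw
        norm_num at hw
    have hjoin : T ⊔ R = R ⊔ T := sup_comm _ _
    by_cases hTR : ∀ t ∈ T, R.map (MulAut.conj t).toMonoidHom = R
    · have hRTn := hnorm R hR T hT rfl hRT hTR
      intro r hr t ht
      rw [← commutatorElement_eq_one_iff_mul_comm]
      have h0 : R ⊓ T = ⊥ := (hti R hR T hT).resolve_left hRT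
      have h1 : ⁅r, t⁆ ∈ R ⊓ T := by
        rw [commutatorElement_def]
        refine Subgroup.mem_inf.2 ⟨?_, mul_mem (hRTn r hr ▸ hmemcj ht) (inv_mem ht)⟩
        have := mul_mem hr (hTR t ht ▸ hmemcj (inv_mem hr))
        simpa [mul_assoc] using this
      rwa [h0, Subgroup.mem_bot] at h1
    exfalso
    by_cases hRT' : ∀ r ∈ R, T.map (MulAut.conj r).toMonoidHom = T
    · exact hTR (hnorm T hT R hR hjoin hRT.symm hRT')
    push Not at hTR hRT'
    obtain ⟨t0, ht0, ht0'⟩ := hTR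
    obtain ⟨r0, hr0, hr0'⟩ := hRT'
    -- no involution of one normalizes the other
    have hfree : ∀ A ∈ Δ, ∀ B ∈ Δ, A ⊔ B = R ⊔ T → A ≠ B →
        (∃ a ∈ A, B.map (MulAut.conj a).toMonoidHom ≠ B) →
        (∃ b ∈ B, A.map (MulAut.conj b).toMonoidHom ≠ A) →
        ∀ u ∈ B, u * u = 1 → A.map (MulAut.conj u).toMonoidHom = A → u = 1 := by
      intro A hA B hB hAB hne ⟨r, hr, hr'⟩ ⟨b, hb, hb'⟩ u hu hu2 huA
      by_contra hu1
      obtain ⟨z, hz, hzc, hzo⟩ := Solv.exists_central_order (p := 2) (hS.to_subgroup B) ⊤ (by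
        intro h
        have h' : (⟨u, hu⟩ : B) ∈ (⊥ : Subgroup B) := h ▸ Subgroup.mem_top _
        exact hu1 (congrArg Subtype.val (Subgroup.mem_bot.1 h')))
      have hz2 : (z : S) * z = 1 := by
        have := congrArg Subtype.val (orderOf_dvd_iff_pow_eq_one.1 hzo.dvd)
        simpa [pow_two] using this
      obtain ⟨w, hw, hw2, hwA, hw1, t, ht, htA, hwt⟩ : ∃ w ∈ B, w * w = 1 ∧
          A.map (MulAut.conj w).toMonoidHom = A ∧ w ≠ 1 ∧
          ∃ t ∈ B, A.map (MulAut.conj t).toMonoidHom ≠ A ∧ Commute w t := by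
        by_cases hzA : A.map (MulAut.conj (z : S)).toMonoidHom = A
        · refine ⟨z, z.2, hz2, hzA, fun h => ?_, b, hb, hb', ?_⟩
          · rw [show z = 1 from Subtype.ext h, orderOf_one] at hzo
            norm_num at hzo
          · exact congrArg Subtype.val (Subgroup.mem_center_iff.1 hzc ⟨b, hb⟩).symm
        · exact ⟨u, hu, hu2, huA, hu1, z, z.2, hzA,
            congrArg Subtype.val (Subgroup.mem_center_iff.1 hzc ⟨u, hu⟩)⟩
      have hcom : Commute (r * w * r⁻¹) t :=
        hsmall B hB A hA (by rw [sup_comm]; exact hAB) hne.symm r hr hr' w hw t ht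
      have hxA : w⁻¹ * (r * w * r⁻¹) ∈ A := by
        have h := mul_mem (show w⁻¹ * r * w ∈ A from ?_) (inv_mem hr)
        · simpa [mul_assoc] using h
        · rw [inv_eq_of_mul_eq_one_right hw2]
          have h := huA
          have h2 := hwA ▸ hmemcj (g := w) hr
          rwa [inv_eq_of_mul_eq_one_right hw2] at h2
      have hxt : Commute (w⁻¹ * (r * w * r⁻¹)) t := hwt.inv_left.mul_left hcom
      have h1 : w⁻¹ * (r * w * r⁻¹) ∈ A.map (MulAut.conj t).toMonoidHom ⊓ A := by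
        refine Subgroup.mem_inf.2 ⟨?_, hxA⟩
        have h := hmemcj (g := t) hxA
        rwa [← hxt.eq, mul_inv_cancel_right] at h
      rw [(hti _ (hinv t A hA) A hA).resolve_left htA, Subgroup.mem_bot, inv_mul_eq_one] at h1
      have h2 : w ∈ B.map (MulAut.conj r).toMonoidHom ⊓ B :=
        Subgroup.mem_inf.2 ⟨by have h := hmemcj (g := r) hw; rwa [← h1] at h, hw⟩
      rw [(hti _ (hinv r B hB) B hB).resolve_left hr', Subgroup.mem_bot] at h2
      exact hw1 h2
    -- an element of order four of `T` and an involution of `R`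
    obtain ⟨t, ht, ht2, ht4⟩ : ∃ t ∈ T, t * t ≠ 1 ∧ (t * t) * (t * t) = 1 := by
      obtain ⟨v, hv, hv2⟩ := hnz T hT
      obtain ⟨k, hk⟩ := IsPGroup.iff_orderOf.1 hS v
      obtain ⟨j, rfl⟩ : ∃ j, k = j + 2 := ⟨k - 2, by
        by_contra h
        refine hv2 (orderOf_dvd_iff_pow_eq_one.1 ?_)
        rw [hk]
        calc 2 ^ k ∣ 2 ^ 1 := pow_dvd_pow 2 (by omega)
          _ = 2 := pow_one 2⟩
      refine ⟨v ^ 2 ^ j, pow_mem hv _, fun h => ?_, ?_⟩
      · rw [← pow_add] at h
        have := Nat.le_of_dvd (by positivity) (orderOf_dvd_of_pow_eq_one h)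
        rw [hk, show 2 ^ j + 2 ^ j = 2 ^ (j + 1) by ring, Nat.pow_le_pow_iff_right (by norm_num)] at this
        omega
      · rw [← pow_add, ← pow_add, show 2 ^ j + 2 ^ j + (2 ^ j + 2 ^ j) = 2 ^ (j + 2) by ring, ← hk,
          pow_orderOf_eq_one]
    obtain ⟨a, ha, ha2⟩ := hnz R hR
    obtain ⟨r, hr, hr2, hr1⟩ : ∃ r ∈ R, r * r = 1 ∧ r ≠ 1 := by
      obtain ⟨w, hw⟩ := exists_prime_orderOf_dvd_card' (G := R) 2 (by
        obtain ⟨k, hk⟩ := (hS.to_subgroup R).exists_card_eq
        rcases k with _ | k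
        · rw [pow_zero, Subgroup.card_eq_one] at hk
          rw [hk, Subgroup.mem_bot] at ha
          exact absurd (by rw [ha, one_pow]) ha2
        · exact hk ▸ dvd_pow_self 2 k.succ_ne_zero)
      refine ⟨w, w.2, ?_, fun h => ?_⟩
      · have := congrArg Subtype.val (orderOf_dvd_iff_pow_eq_one.1 hw.dvd)
        simpa [pow_two] using this
      · rw [show w = 1 from Subtype.ext h, orderOf_one] at hw
        norm_num at hw
    have hrT : T.map (MulAut.conj r).toMonoidHom ≠ T := fun h =>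
      hr1 (hfree T hT R hR hjoin hRT.symm ⟨t0, ht0, ht0'⟩ ⟨r0, hr0, hr0'⟩ r hr hr2 h)
    have htt : R.map (MulAut.conj (t * t)).toMonoidHom ≠ R := fun h =>
      ht2 (hfree R hR T hT rfl hRT ⟨r0, hr0, hr0'⟩ ⟨t0, ht0, ht0'⟩ (t * t) (mul_mem ht ht) ht4 h)
    have htR : R.map (MulAut.conj t).toMonoidHom ≠ R := fun h => htt (by
      rw [show (MulAut.conj (t * t)).toMonoidHom
        = (MulAut.conj t).toMonoidHom.comp (MulAut.conj t).toMonoidHom by ext x; simp [mul_assoc],
        ← Subgroup.map_map, h, h])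
    have c1 : Commute (r * t * r⁻¹) t :=
      hsmall T hT R hR hjoin hRT.symm r hr hrT t ht t ht
    have c2 : Commute (t * r * t⁻¹) r := hsmall R hR T hT rfl hRT t ht htR r hr r hr
    rw [inv_eq_of_mul_eq_one_right hr2] at c1
    have e : t * t * r * (t * t)⁻¹ = r := by
      have h : (t * r * t⁻¹) * r = t * t * r * (t * t)⁻¹ * (t * r * t⁻¹) := by
        calc (t * r * t⁻¹) * r = t * (r * t⁻¹ * r) := by group
          _ = t * (r * t * r)⁻¹ := by rw [mul_inv_rev, mul_inv_rev, inv_eq_of_mul_eq_one_right hr2]; group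
          _ = t * (r * t * r)⁻¹ * (t * t⁻¹) := by rw [mul_inv_cancel, mul_one]
          _ = t * ((r * t * r)⁻¹ * t) * t⁻¹ := by group
          _ = t * (t * (r * t * r)⁻¹) * t⁻¹ := by rw [c1.inv_left.eq]
          _ = _ := by rw [mul_inv_rev, mul_inv_rev, inv_eq_of_mul_eq_one_right hr2]; group
      rw [c2.eq] at h
      exact (mul_right_cancel h).symm
    have h1 : r ∈ R.map (MulAut.conj (t * t)).toMonoidHom ⊓ R :=
      Subgroup.mem_inf.2 ⟨by have h := hmemcj (g := t * t) hr; rwa [e] at h, hr⟩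
    rw [(hti _ (hinv (t * t) R hR) R hR).resolve_left htt, Subgroup.mem_bot] at h1
    exact hr1 h1

end Cfsg.Agent.S1782
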