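import Cfsg.Statements.S1783
import Cfsg.Agent.S1782
import Cfsg.Agent.Lib.Solv.HallHigman
import Cfsg.Agent.Lib.Solv.Component
import Cfsg.Agent.Lib.Fusion.Cores

set_option autoImplicit false
open Cfsg
open Cfsg.Agent Cfsg.Agent.Fusion
open scoped commutatorElement

namespace Cfsg.Agent.S1783

open Cfsg.Agent.Fusion in
/-- Two conjugates of an abelian TI subgroup of exponent at least four in a 2-group commute. -/
theorem commute_conjugates {X : Type*} [Group X] [Finite X] (S : Subgroup X) (hS : IsPGroup 2 S) (T : Subgroup X)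
    (hTc : ∀ a ∈ T, ∀ b ∈ T, a * b = b * a) (ht : ∃ t ∈ T, t ^ 2 ≠ 1)
    (hti : ∀ h : X, T.map (MulAut.conj h).toMonoidHom = T ∨ T.map (MulAut.conj h).toMonoidHom ⊓ T = ⊥)
    (g h : X) (hg : cj T g ≤ S) (hh : cj T h ≤ S) :
    ∀ u ∈ cj T g, ∀ v ∈ cj T h, u * v = v * u := by
  haveI : Fact (Nat.Prime 2) := ⟨Nat.prime_two⟩
  intro u hu v hv
  by_cases heq : cj T g = cj T h
  · rw [← heq] at hv
    obtain ⟨a, ha, rfl⟩ := hu
    obtain ⟨b, hb, rfl⟩ := hv
    rw [← map_mul, ← map_mul, hTc a ha b hb]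
  obtain ⟨Δ, hΔ⟩ : ∃ Δ : Set (Subgroup S), Δ = {R | ∃ k : X, R.map S.subtype = cj T k} := ⟨_, rfl⟩
  have mem : ∀ k : X, cj T k ≤ S → (cj T k).subgroupOf S ∈ Δ := fun k hk =>
    hΔ ▸ ⟨k, Subgroup.map_subgroupOf_eq_of_le hk⟩
  have h1 := S1782.result hS Δ ?_ ?_ ?_ ?_ _ (mem g hg) _ (mem h hh) (fun e => heq (by
    have := congrArg (Subgroup.map S.subtype) e
    rwa [Subgroup.map_subgroupOf_eq_of_le hg, Subgroup.map_subgroupOf_eq_of_le hh] at this))
  · have h2 : ⁅(⟨u, hg hu⟩ : S), (⟨v, hh hv⟩ : S)⁆ = 1 := by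
      rw [← Subgroup.mem_bot, ← h1]
      exact Subgroup.commutator_mem_commutator hu hv
    exact congrArg Subtype.val (commutatorElement_eq_one_iff_mul_comm.1 h2)
  · subst hΔ
    rintro s R ⟨k, hk⟩
    refine ⟨(s : X) * k, ?_⟩
    rw [← cj_cj, ← hk, cj, Subgroup.map_map, Subgroup.map_map]
    rfl
  · subst hΔ
    rintro R ⟨k, hk⟩ hbot
    obtain ⟨t, htT, ht2⟩ := ht
    have hmem : k * t * k⁻¹ ∈ R.map S.subtype := hk ▸ conj_mem_cj htT
    obtain ⟨r, hr, hrt⟩ := hmem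
    have h2 := Solv.pow_mem_frattini (hS.to_subgroup R) (⟨r, hr⟩ : R)
    rw [hbot, Subgroup.mem_bot] at h2
    refine ht2 ?_
    have h3 : (k * t * k⁻¹) ^ 2 = 1 := by
      have h4 := congrArg (fun w : R => ((w : S) : X)) h2
      simp only [SubmonoidClass.coe_pow, OneMemClass.coe_one] at h4
      rw [← hrt]; exact h4
    rwa [conj_pow, conj_eq_one_iff] at h3
  · subst hΔ
    rintro R ⟨k, hk⟩ R' ⟨k', hk'⟩
    have e1 := congrArg (fun H : Subgroup X => Nat.card H) hk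
    have e2 := congrArg (fun H : Subgroup X => Nat.card H) hk'
    simp only [card_cj, Subgroup.card_map_of_injective S.subtype_injective] at e1 e2
    rw [e1, e2]
  · subst hΔ
    rintro R ⟨k, hk⟩ R' ⟨k', hk'⟩
    rcases hti (k'⁻¹ * k) with e | e
    · left
      refine Subgroup.map_injective S.subtype_injective ?_
      rw [hk, hk']
      conv_rhs => rw [← e]
      show _ = cj (cj T (k'⁻¹ * k)) k'
      rw [cj_cj, mul_inv_cancel_left]
    · right
      refine Subgroup.map_injective S.subtype_injective ?_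
      rw [Subgroup.map_inf _ _ _ S.subtype_injective, hk, hk', Subgroup.map_bot,
        ← cj_bot (G := X) k', ← e]
      show _ = cj (cj T (k'⁻¹ * k) ⊓ T) k'
      rw [cj_inf, cj_cj, mul_inv_cancel_left]


/-- Let X be a finite group whose generalized Fitting subgroup equals its largest normal 2-subgroup Q, and let A be an abelian 2-subgroup of X such that every conjugate of A equals A or meets A trivially. Let B be the subgroup generated by the squares of the elements of A. Then B lies in Q, and if B is not an elementary abelian 2-group then the normal closure of B in X is commutative. -/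
theorem result {X : Type*} [Group X] [Finite X]
    (hX : Cfsg.generalizedFittingSubgroup X = Cfsg.pCore 2 X) (A : Subgroup X) (hA2 : IsPGroup 2 ↥A) (hAa : IsMulCommutative ↥A)
    (hti : ∀ h : X, A.map (MulAut.conj h).toMonoidHom = A ∨ A.map (MulAut.conj h).toMonoidHom ⊓ A = ⊥) :
    Subgroup.closure ((fun a : X => a ^ 2) '' (A : Set X)) ≤ Cfsg.pCore 2 X ∧
      (¬ Cfsg.IsElementaryAbelian 2 (Subgroup.closure ((fun a : X => a ^ 2) '' (A : Set X))) →
        IsMulCommutative ↥(Subgroup.normalClosure ((fun a : X => a ^ 2) '' (A : Set X)))) := by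
  classical
  haveI : Fact (Nat.Prime 2) := ⟨Nat.prime_two⟩
  have hAc : ∀ a ∈ A, ∀ b ∈ A, a * b = b * a := fun a ha b hb => congrArg Subtype.val (hAa.1.1 ⟨a, ha⟩ ⟨b, hb⟩)
  set Q := Cfsg.pCore 2 X with hQ
  have hQ2 : IsPGroup 2 Q := isPGroup_pCore 2 X
  have hCQ : Subgroup.centralizer (Q : Set X) ≤ Q := by
    have h := Solv.centralizer_gfit_le (G := X)
    rwa [hX] at h
  -- the elements acting trivially on `Q / Φ(Q)`
  obtain ⟨Φ, hΦ⟩ : ∃ Φ, Φ = (frattini ↥Q).map Q.subtype := ⟨_, rfl⟩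
  have hΦn : Φ.Normal := by
    rw [hΦ]
    exact inferInstance
  let N₁ : Subgroup X :=
    { carrier := {g | ∀ x ∈ Q, ⁅x, g⁆ ∈ Φ}
      one_mem' := fun x _ => by simp
      mul_mem' := fun {g h} hg hh x hx => by
        rw [show ⁅x, g * h⁆ = ⁅x, g⁆ * (g * ⁅x, h⁆ * g⁻¹) by simp only [commutatorElement_def]; group]
        exact mul_mem (hg x hx) (hΦn.conj_mem _ (hh x hx) g)
      inv_mem' := fun {g} hg x hx => by
        rw [show ⁅x, g⁻¹⁆ = g⁻¹ * ⁅x, g⁆⁻¹ * g⁻¹⁻¹ by simp only [commutatorElement_def]; group]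
        exact hΦn.conj_mem _ (inv_mem (hg x hx)) g⁻¹ }
  haveI hN₁ : N₁.Normal := ⟨fun g hg y x hx => by
    rw [show ⁅x, y * g * y⁻¹⁆ = y * ⁅y⁻¹ * x * y, g⁆ * y⁻¹ by simp only [commutatorElement_def]; group]
    refine hΦn.conj_mem _ (hg _ ?_) y
    simpa using (inferInstance : Q.Normal).conj_mem x hx y⁻¹⟩
  have hN₁2 : IsPGroup 2 N₁ := by
    rintro ⟨g, hg⟩
    obtain ⟨k, m, hm, hkm⟩ := Nat.exists_eq_pow_mul_and_not_dvd (orderOf_pos g).ne' 2 (by norm_num)
    refine ⟨k, Subtype.ext ?_⟩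
    show g ^ 2 ^ k = 1
    have ho : (orderOf (g ^ 2 ^ k)).Coprime 2 := by
      rw [orderOf_pow_of_dvd (by positivity) (hkm ▸ dvd_mul_right _ _), hkm, Nat.mul_div_cancel_left _ (by positivity)]
      exact ((Nat.prime_two.coprime_iff_not_dvd).2 hm).symm
    have hc : g ^ 2 ^ k ∈ Q := hCQ (Solv.centralizes_of_frattini Q hQ2 _
      (by rw [Subgroup.normalizer_eq_top]; trivial) ho (fun x hx => hΦ ▸ pow_mem hg _ x hx))
    obtain ⟨j, hj⟩ := hQ2 ⟨_, hc⟩
    exact orderOf_eq_one_iff.1 (Nat.eq_one_of_dvd_coprimes (ho.pow_right j) dvd_rfl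
      (orderOf_dvd_of_pow_eq_one (congrArg Subtype.val hj)))
  have hN₁Q : N₁ ≤ Q := le_pCore hN₁2
  -- squares of elements of `A` lie in `Q`
  have hsq : ∀ a ∈ A, a ^ 2 ∈ Q := by
    intro a ha
    by_cases ha2 : a ^ 2 = 1
    · rw [ha2]; exact one_mem _
    refine hN₁Q fun x hx => ?_
    have hS : IsPGroup 2 ↥(Q ⊔ A) := hQ2.to_sup_of_normal_left hA2
    have hxS : x ∈ Q ⊔ A := Subgroup.mem_sup_left hx
    have hle : cj A x ≤ Q ⊔ A := by
      rintro _ ⟨b, hb, rfl⟩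
      exact mul_mem (mul_mem hxS (Subgroup.mem_sup_right hb)) (inv_mem hxS)
    have hc := commute_conjugates (Q ⊔ A) hS A hAc ⟨a, ha, ha2⟩ hti x 1 hle
      (by rw [cj_one]; exact le_sup_right) _ (conj_mem_cj ha) a (by rw [cj_one]; exact ha)
    have hcQ : ⁅x, a⁆ ∈ Q := by
      rw [commutatorElement_def, show x * a * x⁻¹ * a⁻¹ = x * (a * x⁻¹ * a⁻¹) by group]
      exact mul_mem hx ((inferInstance : Q.Normal).conj_mem _ (inv_mem hx) a)
    have e : ⁅x, a ^ 2⁆ = ⁅x, a⁆ ^ 2 := by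
      rw [pow_two, pow_two, show ⁅x, a * a⁆ = ⁅x, a⁆ * (a * ⁅x, a⁆ * a⁻¹) by simp only [commutatorElement_def]; group]
      congr 1
      rw [commutatorElement_def, ← mul_assoc, ← hc]
      group
    rw [e, hΦ]
    exact ⟨⟨⁅x, a⁆, hcQ⟩ ^ 2, Solv.pow_mem_frattini hQ2 _, rfl⟩
  have hBQ : Subgroup.closure ((fun a : X => a ^ 2) '' (A : Set X)) ≤ Q :=
    (Subgroup.closure_le Q).2 (by rintro _ ⟨a, ha, rfl⟩; exact hsq a ha)
  refine ⟨hBQ, fun hne => ?_⟩
  -- the normal closure of `B`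
  set B := Subgroup.closure ((fun a : X => a ^ 2) '' (A : Set X)) with hB
  have hBA : B ≤ A := (Subgroup.closure_le A).2 (by rintro _ ⟨a, ha, rfl⟩; exact pow_mem ha 2)
  have hBc : ∀ a ∈ B, ∀ b ∈ B, a * b = b * a := fun a ha b hb => hAc a (hBA ha) b (hBA hb)
  have hb4 : ∃ t ∈ B, t ^ 2 ≠ 1 := by
    by_contra hcon
    push Not at hcon
    exact hne ⟨⟨⟨fun a b => Subtype.ext (hBc a a.2 b b.2)⟩⟩, hcon⟩
  have hBti : ∀ k : X, B.map (MulAut.conj k).toMonoidHom = B ∨ B.map (MulAut.conj k).toMonoidHom ⊓ B = ⊥ := by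
    intro k
    rcases hti k with e | e
    · left
      rw [hB, MonoidHom.map_closure, Set.image_image]
      conv_rhs => rw [← e]
      congr 1
      ext y
      simp only [Set.mem_image, SetLike.mem_coe, Subgroup.mem_map]
      constructor
      · rintro ⟨a, ha, rfl⟩; exact ⟨_, ⟨a, ha, rfl⟩, (map_pow _ a 2).symm⟩
      · rintro ⟨_, ⟨a, ha, rfl⟩, rfl⟩; exact ⟨a, ha, map_pow _ a 2⟩
    · exact Or.inr (eq_bot_iff.2 ((inf_le_inf (Subgroup.map_mono hBA) hBA).trans e.le))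
  have hBle : ∀ k, cj B k ≤ Q := by
    rintro k _ ⟨b, hb, rfl⟩
    exact (inferInstance : Q.Normal).conj_mem b (hBQ hb) k
  have hcomm := Subgroup.isMulCommutative_closure (k := Group.conjugatesOfSet ((fun a : X => a ^ 2) '' (A : Set X))) (by
    intro u hu v hv
    obtain ⟨y, hy, hyu⟩ := Group.mem_conjugatesOfSet_iff.1 hu
    obtain ⟨w, hw, hwv⟩ := Group.mem_conjugatesOfSet_iff.1 hv
    obtain ⟨k, rfl⟩ := isConj_iff.1 hyu
    obtain ⟨l, rfl⟩ := isConj_iff.1 hwv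
    exact commute_conjugates Q hQ2 B hBc hb4 hBti k l (hBle k) (hBle l) _
      (conj_mem_cj (Subgroup.subset_closure hy)) _ (conj_mem_cj (Subgroup.subset_closure hw)))
  exact hcomm

end Cfsg.Agent.S1783
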