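import Cfsg.Statements.S1784
import Cfsg.Agent.Lib.Solv.Component
import Cfsg.Agent.Lib.Solv.Extraspecial

set_option autoImplicit false
open Cfsg

namespace Cfsg.Agent.S1784

open Cfsg.Agent.Solv

/-- Let G be a finite group and let z be an involution of G such that Q, the generalized Fitting subgroup of the centralizer C of z, is a 2-group of symplectic type (every characteristic abelian subgroup of Q is cyclic); suppose Q is extraspecial, and view Q inside G. Let α be an involution of C that is not in Q, and let Q₀ be the subgroup of those q ∈ Q whose commutator with α lies in the subgroup generated by z. Then (a) the subgroup generated by the commutators α q α⁻¹ q⁻¹, q ∈ Q, equals the centre of Q₀; and (b) if Q₀ is not contained in the product of the centralizer of α in Q with the subgroup generated by z, then some element of Q conjugates α to α z. -/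
theorem result {G : Type*} [Group G] [Finite G] (z : G) (hz : orderOf z = 2) (hQ : Cfsg.IsOfSymplecticType ↥(Cfsg.generalizedFittingSubgroup ↥(Subgroup.centralizer ({z} : Set G)))) (hE : Cfsg.IsExtraspecial 2 ↥(Cfsg.generalizedFittingSubgroup ↥(Subgroup.centralizer ({z} : Set G))))
    (α : G) (hα : orderOf α = 2) (hαC : α ∈ Subgroup.centralizer ({z} : Set G)) (hαQ : α ∉ (Cfsg.generalizedFittingSubgroup ↥(Subgroup.centralizer ({z} : Set G))).map (Subgroup.centralizer ({z} : Set G)).subtype)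
    (Q₀ : Subgroup G) (hQ₀ : ∀ q : G, q ∈ Q₀ ↔ (q ∈ (Cfsg.generalizedFittingSubgroup ↥(Subgroup.centralizer ({z} : Set G))).map (Subgroup.centralizer ({z} : Set G)).subtype ∧ α * q * α⁻¹ * q⁻¹ ∈ Subgroup.zpowers z)) :
    Subgroup.closure ((fun q : G => α * q * α⁻¹ * q⁻¹) '' ((Cfsg.generalizedFittingSubgroup ↥(Subgroup.centralizer ({z} : Set G))).map (Subgroup.centralizer ({z} : Set G)).subtype : Set G)) = (Subgroup.center ↥Q₀).map Q₀.subtype ∧
      (¬ Q₀ ≤ ((Cfsg.generalizedFittingSubgroup ↥(Subgroup.centralizer ({z} : Set G))).map (Subgroup.centralizer ({z} : Set G)).subtype ⊓ Subgroup.centralizer ({α} : Set G)) ⊔ Subgroup.zpowers z →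
        ∃ q ∈ (Cfsg.generalizedFittingSubgroup ↥(Subgroup.centralizer ({z} : Set G))).map (Subgroup.centralizer ({z} : Set G)).subtype, q * α * q⁻¹ = α * z) := by
  have _ := hQ
  set C := Subgroup.centralizer ({z} : Set G) with hC
  set F := Cfsg.generalizedFittingSubgroup ↥C with hF
  haveI hFn : F.Normal := Local.gfit_normal
  have hE' := hE
  obtain ⟨⟨-, -, hder⟩, hcard⟩ := hE
  haveI : Fact (Nat.Prime 2) := ⟨Nat.prime_two⟩
  -- the centre of F is generated by z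
  have hzC : z ∈ C := Subgroup.mem_centralizer_singleton_iff.2 rfl
  have hzF : (⟨z, hzC⟩ : ↥C) ∈ F := centralizer_gfit_le (Subgroup.mem_centralizer_iff.2 fun f _ =>
    Subtype.ext (Subgroup.mem_centralizer_singleton_iff.1 f.2))
  obtain ⟨ζ, hζ⟩ : ∃ ζ : ↥F, ζ = ⟨⟨z, hzC⟩, hzF⟩ := ⟨_, rfl⟩
  have hζc : ζ ∈ Subgroup.center ↥F := Subgroup.mem_center_iff.2 fun f => by
    subst hζ
    exact Subtype.ext (Subtype.ext (Subgroup.mem_centralizer_singleton_iff.1 (f : ↥C).2))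
  have hz1 : z ≠ 1 := fun h => by rw [h, orderOf_one] at hz; omega
  have hζ1 : ζ ≠ 1 := fun h => hz1 (by subst hζ; exact congrArg (fun f : ↥F => ((f : ↥C) : G)) h)
  have hcen : ∀ f ∈ Subgroup.center ↥F, f = 1 ∨ f = ζ := by
    intro f hf
    by_contra hcon
    push Not at hcon
    obtain ⟨a, b, hab, huniv⟩ := Nat.card_eq_two_iff.1 hcard
    have hm : ∀ u : ↥(Subgroup.center ↥F), u = a ∨ u = b := fun u => by
      have : u ∈ ({a, b} : Set ↥(Subgroup.center ↥F)) := huniv ▸ Set.mem_univ u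
      simpa using this
    have e1 : (⟨f, hf⟩ : ↥(Subgroup.center ↥F)) ≠ 1 := fun h => hcon.1 (congrArg Subtype.val h)
    have e2 : (⟨f, hf⟩ : ↥(Subgroup.center ↥F)) ≠ ⟨ζ, hζc⟩ := fun h => hcon.2 (congrArg Subtype.val h)
    have e3 : (⟨ζ, hζc⟩ : ↥(Subgroup.center ↥F)) ≠ 1 := fun h => hζ1 (congrArg Subtype.val h)
    rcases hm ⟨f, hf⟩ with h | h <;> rcases hm ⟨ζ, hζc⟩ with h' | h' <;> rcases hm 1 with h'' | h'' <;>
      simp_all
  set Q := F.map C.subtype with hQdef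
  have hzQ : z ∈ Q := ⟨⟨z, hzC⟩, hzF, rfl⟩
  have hQC : Q ≤ C := Subgroup.map_subtype_le _
  have hcz : ∀ q ∈ Q, q * z = z * q := fun q hq => Subgroup.mem_centralizer_singleton_iff.1 (hQC hq)
  have hcenQ : ∀ x ∈ Q, (∀ q ∈ Q, q * x = x * q) → x = 1 ∨ x = z := by
    rintro _ ⟨c, hc, rfl⟩ h
    rcases hcen ⟨c, hc⟩ (Subgroup.mem_center_iff.2 fun f => Subtype.ext (Subtype.ext
      (h _ ⟨f, f.2, rfl⟩))) with e | e
    · exact Or.inl (congrArg (fun f : ↥F => ((f : ↥C) : G)) e)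
    · subst hζ
      exact Or.inr (congrArg (fun f : ↥F => ((f : ↥C) : G)) e)
  have hcom : ∀ x ∈ Q, ∀ y ∈ Q, x * y * x⁻¹ * y⁻¹ = 1 ∨ x * y * x⁻¹ * y⁻¹ = z := by
    intro x hx y hy
    refine hcenQ _ (Q.mul_mem (Q.mul_mem (Q.mul_mem hx hy) (Q.inv_mem hx)) (Q.inv_mem hy)) fun q hq => ?_
    obtain ⟨cx, hcx, rfl⟩ := hx
    obtain ⟨cy, hcy, rfl⟩ := hy
    obtain ⟨cq, hcq, rfl⟩ := hq
    have h1 : ((⟨cx, hcx⟩ : ↥F) * ⟨cy, hcy⟩ * (⟨cx, hcx⟩ : ↥F)⁻¹ * (⟨cy, hcy⟩ : ↥F)⁻¹) ∈ Subgroup.center ↥F := hder ▸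
      Subgroup.commutator_mem_commutator (Subgroup.mem_top _) (Subgroup.mem_top _)
    exact congrArg (fun f : ↥F => ((f : ↥C) : G)) (Subgroup.mem_center_iff.1 h1 ⟨cq, hcq⟩)
  have hαQ' : ∀ q ∈ Q, α * q * α⁻¹ ∈ Q := by
    rintro _ ⟨c, hc, rfl⟩
    exact ⟨⟨α, hαC⟩ * c * ⟨α, hαC⟩⁻¹, hFn.conj_mem c hc _, rfl⟩
  have hαz : α * z = z * α := Subgroup.mem_centralizer_singleton_iff.1 hαC
  have hzc : ∀ y ∈ C, Commute y z := fun y hy => Subgroup.mem_centralizer_singleton_iff.1 hy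
  set cm := fun q : G => α * q * α⁻¹ * q⁻¹ with hcm
  have hcmQ : ∀ q ∈ Q, cm q ∈ Q := fun q hq => Q.mul_mem (hαQ' q hq) (Q.inv_mem hq)
  set K := Subgroup.closure (cm '' (Q : Set G)) with hK
  have hKQ : K ≤ Q := (Subgroup.closure_le _).2 (by rintro _ ⟨q, hq, rfl⟩; exact hcmQ q hq)
  -- K is normalised by Q
  have hKn : ∀ q ∈ Q, ∀ k ∈ K, q * k * q⁻¹ ∈ K := by
    intro q hq k hk
    induction hk using Subgroup.closure_induction with
    | mem x hx =>
      obtain ⟨r, hr, rfl⟩ := hx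
      have : q * cm r * q⁻¹ = (cm q)⁻¹ * cm (q * r) := by simp only [hcm]; group
      rw [this]
      exact mul_mem (inv_mem (Subgroup.subset_closure ⟨q, hq, rfl⟩))
        (Subgroup.subset_closure ⟨q * r, Q.mul_mem hq hr, rfl⟩)
    | one => simp
    | mul x y _ _ hx hy =>
      rw [show q * (x * y) * q⁻¹ = (q * x * q⁻¹) * (q * y * q⁻¹) by group]
      exact mul_mem hx hy
    | inv x _ hx =>
      rw [show q * x⁻¹ * q⁻¹ = (q * x * q⁻¹)⁻¹ by group]
      exact inv_mem hx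
  -- z lies in K
  have hzK : z ∈ K := by
    obtain ⟨q, hq, hq1⟩ : ∃ q ∈ Q, cm q ≠ 1 := by
      by_contra! h
      refine hαQ ⟨⟨α, hαC⟩, centralizer_gfit_le (Subgroup.mem_centralizer_iff.2 fun f hf => Subtype.ext ?_), rfl⟩
      have h1 : α * (f : G) * α⁻¹ * (f : G)⁻¹ = 1 := h f ⟨f, hf, rfl⟩
      exact (mul_inv_eq_iff_eq_mul.1 (mul_inv_eq_one.1 h1)).symm
    have hk : cm q ∈ K := Subgroup.subset_closure ⟨q, hq, rfl⟩
    by_cases hz' : cm q = z
    · exact hz' ▸ hk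
    obtain ⟨r, hr, hrne⟩ : ∃ r ∈ Q, r * cm q ≠ cm q * r := by
      by_contra! h
      rcases hcenQ _ (hcmQ q hq) h with e | e
      · exact hq1 e
      · exact hz' e
    rcases hcom r hr _ (hcmQ q hq) with e | e
    · exact absurd (mul_inv_eq_iff_eq_mul.1 (mul_inv_eq_one.1 e)) hrne
    · exact e ▸ K.mul_mem (hKn r hr _ hk) (K.inv_mem hk)
  have hQ₀Q : Q₀ ≤ Q := fun q hq => ((hQ₀ q).1 hq).1
  have hzp : ∀ x ∈ Subgroup.zpowers z, x ∈ C ∧ (∀ y ∈ C, Commute y x) := by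
    rintro _ ⟨i, rfl⟩
    exact ⟨C.zpow_mem hzC i, fun y hy => (hzc y hy).zpow_right i⟩
  -- commutators are unchanged by α
  have hpair : ∀ x ∈ Q, ∀ y ∈ Q, (α * x * α⁻¹) * (α * y * α⁻¹) * (α * x * α⁻¹)⁻¹ * (α * y * α⁻¹)⁻¹ =
      x * y * x⁻¹ * y⁻¹ := by
    intro x hx y hy
    rw [show (α * x * α⁻¹) * (α * y * α⁻¹) * (α * x * α⁻¹)⁻¹ * (α * y * α⁻¹)⁻¹ =
      α * (x * y * x⁻¹ * y⁻¹) * α⁻¹ by group]
    rcases hcom x hx y hy with e | e <;> rw [e]
    · group
    · rw [hαz]; group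
  have hswap : ∀ x ∈ Q, ∀ y ∈ Q, ∀ d ∈ Subgroup.zpowers z,
      (d * x) * y * (d * x)⁻¹ * y⁻¹ = x * y * x⁻¹ * y⁻¹ := by
    intro x hx y hy d hd
    have h1 : Commute (x * y * x⁻¹) d := (hzp d hd).2 _ (C.mul_mem (C.mul_mem (hQC hx) (hQC hy)) (C.inv_mem (hQC hx)))
    calc (d * x) * y * (d * x)⁻¹ * y⁻¹ = d * (x * y * x⁻¹) * d⁻¹ * y⁻¹ := by group
      _ = _ := by rw [← h1.eq]; group
  -- α x α⁻¹ commutes with generators exactly on Q₀
  have hQ₀K : ∀ x ∈ Q, (x ∈ Q₀ ↔ ∀ k ∈ K, Commute x k) := by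
    intro x hx
    constructor
    · intro hx0 k hk
      induction hk using Subgroup.closure_induction with
      | mem w hw =>
        obtain ⟨q, hq, rfl⟩ := hw
        obtain ⟨-, hd⟩ := (hQ₀ x).1 hx0
        have h1 := hpair x hx q hq
        rw [show α * x * α⁻¹ = (α * x * α⁻¹ * x⁻¹) * x by group,
          hswap x hx _ (hαQ' q hq) _ hd] at h1
        -- [x, α q α⁻¹] = [x, q]
        obtain ⟨u, hu⟩ : ∃ u, u = α * q * α⁻¹ := ⟨_, rfl⟩
        rw [← hu] at h1
        show Commute x (α * q * α⁻¹ * q⁻¹)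
        rw [← hu]
        rcases hcom x hx q hq with e | e <;> rw [e] at h1
        · have a1 : Commute x u := mul_inv_eq_iff_eq_mul.1 (mul_inv_eq_one.1 h1)
          have a2 : Commute x q := mul_inv_eq_iff_eq_mul.1 (mul_inv_eq_one.1 e)
          exact a1.mul_right a2.inv_right
        · have a1 : x * u * x⁻¹ = z * u := mul_inv_eq_iff_eq_mul.1 h1
          have a2 : x * q * x⁻¹ = z * q := mul_inv_eq_iff_eq_mul.1 e
          refine mul_inv_eq_iff_eq_mul.1 ?_
          calc x * (u * q⁻¹) * x⁻¹ = (x * u * x⁻¹) * (x * q * x⁻¹)⁻¹ := by group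
            _ = z * (u * q⁻¹) * z⁻¹ := by rw [a1, a2]; group
            _ = u * q⁻¹ := by
              rw [← ((hzc _ (C.mul_mem (hQC (hu ▸ hαQ' q hq)) (C.inv_mem (hQC hq))))).eq]; group
      | one => exact Commute.one_right x
      | mul a b _ _ ha hb => exact ha.mul_right hb
      | inv a _ ha => exact ha.inv_right
    · intro h
      refine (hQ₀ x).2 ⟨hx, ?_⟩
      obtain ⟨d, hd⟩ : ∃ d, d = α * x * α⁻¹ * x⁻¹ := ⟨_, rfl⟩
      have hdQ : d ∈ Q := hd ▸ hcmQ x hx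
      rw [← hd]
      have hall : ∀ q ∈ Q, Commute d (α * q * α⁻¹) := by
        intro q hq
        obtain ⟨u, hu⟩ : ∃ u, u = α * q * α⁻¹ := ⟨_, rfl⟩
        rw [← hu]
        have hk : Commute x (u * q⁻¹) := hu ▸ h _ (Subgroup.subset_closure ⟨q, hq, rfl⟩)
        have huQ : u ∈ Q := hu ▸ hαQ' q hq
        have h1 : x * u * x⁻¹ * u⁻¹ = x * q * x⁻¹ * q⁻¹ := by
          have hqc : Commute (x * q * x⁻¹ * q⁻¹) (u * q⁻¹) := by
            rcases hcom x hx q hq with e | e <;> rw [e]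
            · exact Commute.one_left _
            · exact (hzc _ (C.mul_mem (hQC huQ) (C.inv_mem (hQC hq)))).symm
          calc x * u * x⁻¹ * u⁻¹ = (x * (u * q⁻¹) * x⁻¹) * (x * q * x⁻¹ * q⁻¹) * (u * q⁻¹)⁻¹ := by group
            _ = (u * q⁻¹) * (x * q * x⁻¹ * q⁻¹) * (u * q⁻¹)⁻¹ := by rw [hk.eq, mul_inv_cancel_right]
            _ = _ := by rw [← hqc.eq]; group
        have h2 := hpair x hx q hq
        rw [← hu, show α * x * α⁻¹ = d * x by rw [hd]; group] at h2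
        have h3 : d * x * u * (d * x)⁻¹ * u⁻¹ = x * u * x⁻¹ * u⁻¹ := h2.trans h1.symm
        have h4 : d * (x * u * x⁻¹) * d⁻¹ = x * u * x⁻¹ := by
          calc d * (x * u * x⁻¹) * d⁻¹ = d * x * u * (d * x)⁻¹ * u⁻¹ * u := by group
            _ = _ := by rw [h3]; group
        have h5 : Commute d (x * u * x⁻¹) := mul_inv_eq_iff_eq_mul.1 h4
        rcases hcom x hx u huQ with e | e
        · rwa [mul_inv_eq_one.1 e] at h5
        · rw [mul_inv_eq_iff_eq_mul.1 e] at h5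
          simpa using ((hzc d (hQC hdQ)).inv_right).mul_right h5
      rcases hcenQ d hdQ (fun q hq => by
          have := hall (α⁻¹ * q * α) ?_
          · rw [show α * (α⁻¹ * q * α) * α⁻¹ = q by group] at this
            exact this.symm.eq
          · have hα' : α⁻¹ = α := inv_eq_of_mul_eq_one_right (by rw [← pow_two, ← hα, pow_orderOf_eq_one])
            have := hαQ' q hq
            rw [hα'] at this ⊢
            exact this) with e | e
      · exact e ▸ one_mem _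
      · exact e ▸ Subgroup.mem_zpowers z
  -- K is contained in Q₀
  have hKQ₀ : K ≤ Q₀ := by
    refine (Subgroup.closure_le _).2 ?_
    rintro _ ⟨q, hq, rfl⟩
    obtain ⟨c, hc⟩ : ∃ c, c = cm q := ⟨_, rfl⟩
    have hcQ : c ∈ Q := hc ▸ hcmQ q hq
    have hα2 : α * α = 1 := by rw [← pow_two, ← hα, pow_orderOf_eq_one]
    have h1 : α * c * α⁻¹ = c⁻¹ := by
      rw [hc]; simp only [hcm]
      have hα' : α⁻¹ = α := inv_eq_of_mul_eq_one_right hα2
      rw [hα']
      simp only [mul_inv_rev, inv_inv, hα', ← mul_assoc, hα2, one_mul]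
    rw [← hc]
    refine (hQ₀ c).2 ⟨hcQ, ?_⟩
    rw [h1]
    obtain ⟨c', hc', hcc⟩ := hcQ
    have h2 : ((⟨c', hc'⟩ : ↥F) ^ 2) ∈ Subgroup.center ↥F := extraspecial_pow_mem_center hE' _
    rcases hcen _ h2 with e | e
    · have e' : c ^ 2 = 1 := by
        rw [← hcc]; exact congrArg (fun f : ↥F => ((f : ↥C) : G)) e
      rw [show c⁻¹ * c⁻¹ = (c ^ 2)⁻¹ by group, e', inv_one]
      exact one_mem _
    · have e' : c ^ 2 = z := by
        subst hζ
        rw [← hcc]; exact congrArg (fun f : ↥F => ((f : ↥C) : G)) e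
      rw [show c⁻¹ * c⁻¹ = (c ^ 2)⁻¹ by group, e']
      exact inv_mem (Subgroup.mem_zpowers z)
  -- double centralizer
  have hdbl : ∀ x ∈ Q, (∀ y ∈ Q, (∀ k ∈ K, Commute y k) → Commute x y) → x ∈ K := by
    suffices ∀ (n : ℕ) (L : Subgroup G), Nat.card L = n → L ≤ Q → z ∈ L → ∀ x ∈ Q,
        (∀ y ∈ Q, (∀ k ∈ L, Commute y k) → Commute x y) → x ∈ L from this _ K rfl hKQ hzK
    intro n
    induction n using Nat.strong_induction_on with
    | _ n ih =>
    intro L hn hLQ hzL x hx hxy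
    by_cases hmin : ∀ M : Subgroup G, z ∈ M → M < L → False
    · have hL : L = Subgroup.zpowers z := by
        by_contra hne
        exact hmin _ (Subgroup.mem_zpowers z) (lt_of_le_of_ne (Subgroup.zpowers_le.2 hzL) (Ne.symm hne))
      have hall : ∀ q ∈ Q, q * x = x * q := fun q hq => ((hxy q hq fun k hk =>
        (hzp k (hL ▸ hk)).2 q (hQC hq)).eq).symm
      rcases hcenQ x hx hall with e | e
      · exact e ▸ L.one_mem
      · exact e ▸ hzL
    push Not at hmin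
    obtain ⟨M₀, hzM₀, hM₀, -⟩ := hmin
    obtain ⟨M, ⟨hzM, hML⟩, hMmax⟩ := (Set.toFinite {M : Subgroup G | z ∈ M ∧ M < L}).exists_maximal ⟨M₀, hzM₀, hM₀⟩
    obtain ⟨k, hkL, hkM⟩ := SetLike.exists_of_lt hML
    have hgen : M ⊔ Subgroup.zpowers k = L := by
      by_contra hne
      have hlt : M ⊔ Subgroup.zpowers k < L := lt_of_le_of_ne (sup_le hML.le (Subgroup.zpowers_le.2 hkL)) hne
      exact hkM (hMmax ⟨(le_sup_left : M ≤ _) hzM, hlt⟩ le_sup_left ((le_sup_right : Subgroup.zpowers k ≤ _) (Subgroup.mem_zpowers k)))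
    have hcard : Nat.card M < n := hn ▸ lt_of_le_of_ne (Subgroup.card_le_of_le hML.le)
      (fun h => hML.ne (Subgroup.eq_of_le_of_card_ge hML.le h.ge))
    have IH := ih _ hcard M rfl (hML.le.trans hLQ) hzM
    have hcomL : ∀ y, (∀ m ∈ M, Commute y m) → Commute y k → ∀ l ∈ L, Commute y l := by
      intro y hy hyk l hl
      have : L ≤ Subgroup.centralizer ({y} : Set G) := hgen ▸ sup_le
        (fun m hm => Subgroup.mem_centralizer_singleton_iff.2 (hy m hm).symm.eq)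
        (Subgroup.zpowers_le.2 (Subgroup.mem_centralizer_singleton_iff.2 hyk.symm.eq))
      exact (Subgroup.mem_centralizer_singleton_iff.1 (this hl)).symm
    by_cases hk' : ∀ y ∈ Q, (∀ m ∈ M, Commute y m) → Commute y k
    · exact hML.le (IH x hx fun y hy hym => hxy y hy (hcomL y hym (hk' y hy hym)))
    push Not at hk'
    obtain ⟨y, hy, hyM, hyk⟩ := hk'
    have hkQ := hLQ hkL
    have key : ∀ x' ∈ Q, Commute x' y → (∀ w ∈ Q, (∀ l ∈ L, Commute w l) → Commute x' w) → x' ∈ M := by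
      intro x' hx' hx'y hx'w
      refine IH x' hx' fun w hw hwM => ?_
      by_cases hwk : Commute w k
      · exact hx'w w hw (hcomL w hwM hwk)
      have h1 : Commute (y⁻¹ * w) k := by
        have hy' : y * k * y⁻¹ = z * k := by
          rcases hcom y hy k hkQ with e | e
          · exact absurd (mul_inv_eq_iff_eq_mul.1 (mul_inv_eq_one.1 e)) hyk
          · exact mul_inv_eq_iff_eq_mul.1 e
        have hw' : w * k * w⁻¹ = z * k := by
          rcases hcom w hw k hkQ with e | e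
          · exact absurd (mul_inv_eq_iff_eq_mul.1 (mul_inv_eq_one.1 e)) hwk
          · exact mul_inv_eq_iff_eq_mul.1 e
        refine mul_inv_eq_iff_eq_mul.1 ?_
        calc y⁻¹ * w * k * (y⁻¹ * w)⁻¹ = y⁻¹ * (w * k * w⁻¹) * y := by group
          _ = y⁻¹ * (y * k * y⁻¹) * y := by rw [hw', hy']
          _ = k := by group
      have h2 := hx'w (y⁻¹ * w) (Q.mul_mem (Q.inv_mem hy) hw)
        (hcomL _ (fun m hm => (hyM m hm).inv_left.mul_left (hwM m hm)) h1)
      simpa using hx'y.mul_right h2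
    by_cases hxy' : Commute x y
    · exact hML.le (key x hx hxy' hxy)
    have hxk : Commute (x * k⁻¹) y := by
      refine mul_inv_eq_iff_eq_mul.1 ?_
      have a1 : x * y * x⁻¹ = z * y := by
        rcases hcom x hx y hy with e | e
        · exact absurd (mul_inv_eq_iff_eq_mul.1 (mul_inv_eq_one.1 e)) hxy'
        · exact mul_inv_eq_iff_eq_mul.1 e
      have a2 : k * y * k⁻¹ = z * y := by
        rcases hcom k hkQ y hy with e | e
        · exact absurd (mul_inv_eq_iff_eq_mul.1 (mul_inv_eq_one.1 e) : Commute k y).symm hyk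
        · exact mul_inv_eq_iff_eq_mul.1 e
      have a3 : k⁻¹ * y * k = z⁻¹ * y := by
        calc k⁻¹ * y * k = k⁻¹ * (z⁻¹ * (z * y)) * k := by group
          _ = z⁻¹ * (k⁻¹ * (k * y * k⁻¹) * k) := by
            rw [a2, ← mul_assoc k⁻¹, ((hzc k (hQC hkQ)).inv_left.inv_right).eq]; group
          _ = _ := by group
      calc x * k⁻¹ * y * (x * k⁻¹)⁻¹ = x * (k⁻¹ * y * k) * x⁻¹ := by group
        _ = z⁻¹ * (x * y * x⁻¹) := by
          rw [a3, ← mul_assoc x, ((hzc x (hQC hx)).inv_right).eq]; group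
        _ = y := by rw [a1]; group
    have hmem := key (x * k⁻¹) (Q.mul_mem hx (Q.inv_mem hkQ)) hxk fun w hw hwL =>
      (hxy w hw hwL).mul_left (hwL k hkL).symm.inv_left
    simpa using L.mul_mem (hML.le hmem) hkL
  refine ⟨le_antisymm (fun k hk => ⟨⟨k, hKQ₀ hk⟩, Subgroup.mem_center_iff.2 fun x => Subtype.ext
    (((hQ₀K x (hQ₀Q x.2)).1 x.2 k hk).eq), rfl⟩) ?_, fun h => ?_⟩
  · rintro _ ⟨x, hx, rfl⟩
    exact hdbl x (hQ₀Q x.2) fun y hy hyK => (congrArg Subtype.val (Subgroup.mem_center_iff.1 hx ⟨y, (hQ₀K y hy).2 hyK⟩)).symm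
  · obtain ⟨q, hq0, hqn⟩ := SetLike.not_le_iff_exists.1 h
    obtain ⟨hqQ, hd⟩ := (hQ₀ q).1 hq0
    have hz2 : z * z = 1 := by rw [← pow_two, ← hz, pow_orderOf_eq_one]
    refine ⟨q, hqQ, ?_⟩
    rcases (show α * q * α⁻¹ * q⁻¹ = 1 ∨ α * q * α⁻¹ * q⁻¹ = z by
      obtain ⟨i, hi⟩ := hd
      dsimp only at hi
      rw [← hi]
      rcases Int.even_or_odd i with ⟨j, rfl⟩ | ⟨j, rfl⟩
      · left; rw [← two_mul, zpow_mul, zpow_two, hz2, one_zpow]
      · right; rw [zpow_add, zpow_mul, zpow_two, hz2, one_zpow, one_mul, zpow_one]) with e | e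
    · refine absurd ((le_sup_left : _ ≤ (Q ⊓ Subgroup.centralizer ({α} : Set G)) ⊔ Subgroup.zpowers z) ⟨hqQ, ?_⟩) hqn
      exact Subgroup.mem_centralizer_singleton_iff.2 (mul_inv_eq_iff_eq_mul.1 (mul_inv_eq_one.1 e)).symm
    · have e1 : α * q * α⁻¹ = z * q := mul_inv_eq_iff_eq_mul.1 e
      have e2 : q⁻¹ * z = z * q⁻¹ := (hzc _ (C.inv_mem (hQC hqQ))).eq
      have hzi : z⁻¹ = z := inv_eq_of_mul_eq_one_right hz2
      calc q * α * q⁻¹ = q * (α * q * α⁻¹)⁻¹ * α := by group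
        _ = q * (q⁻¹ * z) * α := by rw [e1, mul_inv_rev, hzi]
        _ = α * z := by rw [mul_inv_cancel_left, hαz]

end Cfsg.Agent.S1784
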