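import Cfsg.Statements.S1785
import Cfsg.Agent.Lib.Local.ElemAb

set_option autoImplicit false
open Cfsg

namespace Cfsg.Agent.S1785

open Cfsg.Agent.Local

variable {X : Type*} [Group X]

abbrev R := fun C D : Subgroup X => Cfsg.IsElementaryAbelian 2 C ∧ Nat.card ↥C = 8 ∧
  Cfsg.IsElementaryAbelian 2 D ∧ Nat.card ↥D = 8 ∧ ⁅C, D⁆ = ⊥

theorem R_mk {C D : Subgroup X} (hC : Cfsg.IsElementaryAbelian 2 C) (hC8 : Nat.card C = 8)
    (hD : Cfsg.IsElementaryAbelian 2 D) (hD8 : Nat.card D = 8)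
    (h : ∀ c ∈ C, ∀ d ∈ D, c * d = d * c) : R C D ∧ R D C := by
  refine ⟨⟨hC, hC8, hD, hD8, ?_⟩, ⟨hD, hD8, hC, hC8, ?_⟩⟩
  · rw [Subgroup.commutator_eq_bot_iff_le_centralizer]
    exact fun c hc => Subgroup.mem_centralizer_iff.mpr fun d hd => (h c hc d hd).symm
  · rw [Subgroup.commutator_eq_bot_iff_le_centralizer]
    exact fun d hd => Subgroup.mem_centralizer_iff.mpr fun c hc => h c hc d hd

theorem gens2 [Finite X] {A : Subgroup X} (hA : Cfsg.IsElementaryAbelian 2 A) {S : Subgroup X}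
    (hS : S ≤ A) {x : X} (hxA : x ∈ A) (hx : x ∉ S) :
    S ⊔ Subgroup.zpowers x ≤ A ∧ 2 * Nat.card S ≤ Nat.card ↥(S ⊔ Subgroup.zpowers x) := by
  have hle : S ⊔ Subgroup.zpowers x ≤ A := sup_le hS (Subgroup.zpowers_le.mpr hxA)
  refine ⟨hle, two_mul_card_le (elemAb_mono hA hle) ?_⟩
  exact lt_of_le_of_ne le_sup_left fun h => hx (h ▸ (le_sup_right : Subgroup.zpowers x ≤ _) (Subgroup.mem_zpowers x))

variable [Finite X] {E : Subgroup X} [E.Normal]

/-- Fixed points of one involution. -/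
theorem fix1 (hE : Cfsg.IsElementaryAbelian 2 E) (hE32 : 32 ≤ Nat.card E) {a : X} (ha : a ^ 2 = 1) :
    8 ≤ Nat.card ↥(E ⊓ Subgroup.centralizer {a}) :=
  two_pow_bound (m := 2) (elemAb_mono hE inf_le_left)
    (le_trans hE32 (card_le_sq_card_fixed hE (fun e he => ‹E.Normal›.conj_mem e he a)
      (fun e _ => by rw [ha]; simp))) (by norm_num)

theorem fix2 (hE : Cfsg.IsElementaryAbelian 2 E) (hE32 : 32 ≤ Nat.card E) {a b : X}
    (ha : a ^ 2 = 1) (hb : b ^ 2 = 1) (hab : a * b = b * a) :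
    4 ≤ Nat.card ↥(E ⊓ Subgroup.centralizer {a} ⊓ Subgroup.centralizer {b}) :=
  two_pow_bound (m := 1) (elemAb_mono hE (inf_le_left.trans inf_le_left))
    (le_trans (fix1 hE hE32 ha) (card_le_sq_card_fixed (elemAb_mono hE inf_le_left)
      (inf_centralizer_conj_mem (fun e he => ‹E.Normal›.conj_mem e he b) hab)
      (fun e _ => by rw [hb]; simp))) (by norm_num)

theorem fix3 (hE : Cfsg.IsElementaryAbelian 2 E) (hE32 : 32 ≤ Nat.card E) {a b c : X}
    (ha : a ^ 2 = 1) (hb : b ^ 2 = 1) (hc : c ^ 2 = 1) (hab : a * b = b * a) (hac : a * c = c * a)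
    (hbc : b * c = c * b) :
    2 ≤ Nat.card ↥(E ⊓ Subgroup.centralizer {a} ⊓ Subgroup.centralizer {b} ⊓ Subgroup.centralizer {c}) :=
  two_pow_bound (m := 0) (elemAb_mono hE ((inf_le_left.trans inf_le_left).trans inf_le_left))
    (le_trans (fix2 hE hE32 ha hb hab) (card_le_sq_card_fixed (elemAb_mono hE (inf_le_left.trans inf_le_left))
      (inf_centralizer_conj_mem (inf_centralizer_conj_mem (fun e he => ‹E.Normal›.conj_mem e he c) hac) hbc)
      (fun e _ => by rw [hc]; simp))) (by norm_num)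

theorem comm_sup {S : Subgroup X} {x y : X} (hS : ∀ s ∈ S, s * y = y * s) (hx : x * y = y * x) :
    ∀ s ∈ S ⊔ Subgroup.zpowers x, s * y = y * s := by
  have hle : S ⊔ Subgroup.zpowers x ≤ Subgroup.centralizer {y} :=
    sup_le (fun s hs => Subgroup.mem_centralizer_singleton_iff.mpr (hS s hs))
      (Subgroup.zpowers_le.mpr (Subgroup.mem_centralizer_singleton_iff.mpr hx))
  exact fun s hs => Subgroup.mem_centralizer_singleton_iff.mp (hle hs)

theorem cont_E8 (hE : Cfsg.IsElementaryAbelian 2 E) (hE32 : 32 ≤ Nat.card E) (A : Subgroup X)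
    (hA : Cfsg.IsElementaryAbelian 2 A) (hA8 : Nat.card A = 8) {c : X} (hcA : c ∈ A) (hcE : c ∈ E) (hc1 : c ≠ 1) :
    ∃ D : Subgroup X, D ≤ E ∧ Cfsg.IsElementaryAbelian 2 D ∧ Nat.card D = 8 ∧
      Relation.ReflTransGen R A D ∧ Relation.ReflTransGen R D A := by
  have hc2 : Nat.card (Subgroup.zpowers c) = 2 := by
    rw [Nat.card_zpowers, orderOf_eq_prime (hA.2 c hcA) hc1]
  -- A = ⟨c, a, b⟩
  obtain ⟨a, haA, hac⟩ := SetLike.not_le_iff_exists.mp (show ¬ A ≤ Subgroup.zpowers c from fun h => by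
    have := Subgroup.card_le_of_le h; omega)
  obtain ⟨h1le, h1⟩ := gens2 hA (Subgroup.zpowers_le.mpr hcA) haA hac
  set S₁ := Subgroup.zpowers c ⊔ Subgroup.zpowers a
  by_cases hS₁ : A ≤ S₁
  · -- A generated by two commuting involutions is impossible
    exfalso
    have h4 : Nat.card S₁ ≤ 4 := by
      have hn : (Subgroup.zpowers a) ≤ Subgroup.normalizer (Subgroup.zpowers c : Set X) := by
        refine le_trans ?_ (Subgroup.centralizer_le_normalizer _)
        rw [Subgroup.zpowers_le, Subgroup.mem_centralizer_iff]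
        intro y hy
        obtain ⟨k, rfl⟩ := hy
        exact ((show Commute c a from elemAb_commute hA hcA haA).zpow_left k).eq
      have hcard : Nat.card ↥S₁ ≤ Nat.card (Subgroup.zpowers c) * Nat.card (Subgroup.zpowers a) := by
        change Nat.card ↥((S₁ : Subgroup X) : Set X) ≤ _
        rw [Subgroup.coe_mul_of_right_le_normalizer_left _ _ hn]
        exact Set.natCard_mul_le
      have h' : Nat.card (Subgroup.zpowers a) ≤ 2 := by
        rw [Nat.card_zpowers]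
        exact Nat.le_of_dvd (by norm_num) (orderOf_dvd_of_pow_eq_one (hA.2 a haA))
      rw [hc2] at hcard
      omega
    have := Subgroup.card_le_of_le hS₁; omega
  obtain ⟨b, hbA, hb⟩ := SetLike.not_le_iff_exists.mp hS₁
  obtain ⟨h2le, h2⟩ := gens2 hA h1le hbA hb
  have hAeq : S₁ ⊔ Subgroup.zpowers b = A := Subgroup.eq_of_le_of_card_ge h2le (by omega)
  -- W ≤ C_E(A) of order 4
  have hab := elemAb_commute hA haA hbA
  have h4 : 4 ≤ Nat.card ↥(E ⊓ Subgroup.centralizer {a} ⊓ Subgroup.centralizer {b}) :=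
    fix2 hE hE32 (hA.2 a haA) (hA.2 b hbA) hab
  set Q := E ⊓ Subgroup.centralizer {a} ⊓ Subgroup.centralizer {b}
  have hQE : Q ≤ E := inf_le_left.trans inf_le_left
  have hQ := elemAb_mono hE hQE
  obtain ⟨W, hcW, hWQ, hW4⟩ := exists_subgroup_two_pow (S := Subgroup.zpowers c) (n := 1) (m := 2) hQ
    (Subgroup.zpowers_le.mpr ⟨⟨hcE, Subgroup.mem_centralizer_singleton_iff.mpr (elemAb_commute hA hcA haA)⟩,
      Subgroup.mem_centralizer_singleton_iff.mpr (elemAb_commute hA hcA hbA)⟩)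
    (by simpa using hc2) (by norm_num) (by simpa using h4)
  have hWE : W ≤ E := hWQ.trans hQE
  have hAW : ∀ s ∈ A, ∀ w ∈ W, s * w = w * s := by
    intro s hs w hw
    obtain ⟨⟨hwE, hwa⟩, hwb⟩ := hWQ hw
    rw [← hAeq] at hs
    refine comm_sup (comm_sup (fun t ht => ?_) ?_) ?_ s hs
    · obtain ⟨k, rfl⟩ := ht
      exact ((show Commute c w from elemAb_commute hE hcE hwE).zpow_left k).eq
    · exact (Subgroup.mem_centralizer_singleton_iff.mp hwa).symm
    · exact (Subgroup.mem_centralizer_singleton_iff.mp hwb).symm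
  have hAWe := elemAb_sup hA (elemAb_mono hE hWE) hAW
  obtain ⟨A', hWA', hA'le, hA'8⟩ := exists_subgroup_two_pow (S := W) (n := 2) (m := 3) hAWe le_sup_right hW4
    (by norm_num) (by
      have := Subgroup.card_le_of_le (le_sup_left : A ≤ A ⊔ W)
      rw [hA8] at this; simpa using this)
  have hA'8' : Nat.card A' = 8 := by simpa using hA'8
  have hA' := elemAb_mono hAWe hA'le
  obtain ⟨hR1, hR1'⟩ := R_mk hA hA8 hA' hA'8' fun s hs t ht =>
    elemAb_commute hAWe ((le_sup_left : A ≤ A ⊔ W) hs) (hA'le ht)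
  -- x ∈ A' \ W and D ≤ C_E(x)
  obtain ⟨x, hxA', hxW⟩ := SetLike.not_le_iff_exists.mp (show ¬ A' ≤ W from fun h => by
    have := Subgroup.card_le_of_le h; simp only [hA'8', hW4] at this; omega)
  obtain ⟨h3le, h3⟩ := gens2 hA' hWA' hxA' hxW
  have hA'eq : W ⊔ Subgroup.zpowers x = A' := Subgroup.eq_of_le_of_card_ge h3le (by
    rw [hA'8']; rw [hW4] at h3; simpa using h3)
  have h8 := fix1 hE hE32 (hA'.2 x hxA')
  obtain ⟨D, hWD, hDle, hD8⟩ := exists_subgroup_two_pow (S := W) (n := 2) (m := 3)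
    (elemAb_mono hE (inf_le_left : E ⊓ Subgroup.centralizer {x} ≤ E))
    (fun w hw => ⟨hWE hw, Subgroup.mem_centralizer_singleton_iff.mpr (elemAb_commute hA' (hWA' hw) hxA')⟩)
    hW4 (by norm_num) (by simpa using h8)
  have hDE : D ≤ E := hDle.trans inf_le_left
  have hD8' : Nat.card D = 8 := by simpa using hD8
  obtain ⟨hR2, hR2'⟩ := R_mk hA' hA'8' (elemAb_mono hE hDE) hD8' fun s hs d hd => by
    rw [← hA'eq] at hs
    refine comm_sup (fun w hw => elemAb_commute hE (hWE hw) (hDE hd)) ?_ s hs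
    exact (Subgroup.mem_centralizer_singleton_iff.mp (hDle hd).2).symm
  exact ⟨D, hDE, elemAb_mono hE hDE, hD8', (Relation.ReflTransGen.single hR1).tail hR2,
    (Relation.ReflTransGen.single hR2').tail hR1'⟩

theorem three_gens {A : Subgroup X} (hA : Cfsg.IsElementaryAbelian 2 A) (hA8 : Nat.card A = 8) :
    ∃ a b c : X, a ∈ A ∧ b ∈ A ∧ c ∈ A ∧
      ((⊥ ⊔ Subgroup.zpowers a) ⊔ Subgroup.zpowers b) ⊔ Subgroup.zpowers c = A := by
  obtain ⟨a, haA, ha⟩ := SetLike.not_le_iff_exists.mp (show ¬ A ≤ ⊥ from fun h => by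
    have := Subgroup.card_le_of_le h; simp [hA8] at this)
  obtain ⟨h1le, h1⟩ := gens2 hA bot_le haA ha
  by_cases h : A ≤ ⊥ ⊔ Subgroup.zpowers a
  · refine ⟨a, a, a, haA, haA, haA, ?_⟩
    simp only [bot_sup_eq, sup_idem] at *
    exact le_antisymm h1le h
  obtain ⟨b, hbA, hb⟩ := SetLike.not_le_iff_exists.mp h
  obtain ⟨h2le, h2⟩ := gens2 hA h1le hbA hb
  by_cases h' : A ≤ ⊥ ⊔ Subgroup.zpowers a ⊔ Subgroup.zpowers b
  · refine ⟨a, b, b, haA, hbA, hbA, ?_⟩
    rw [sup_assoc _ (Subgroup.zpowers b), sup_idem]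
    exact le_antisymm h2le h'
  obtain ⟨c, hcA, hc⟩ := SetLike.not_le_iff_exists.mp h'
  obtain ⟨h3le, h3⟩ := gens2 hA h2le hcA hc
  refine ⟨a, b, c, haA, hbA, hcA, Subgroup.eq_of_le_of_card_ge h3le ?_⟩
  rw [Subgroup.card_bot] at h1
  omega

theorem result {X : Type*} [Group X] [Finite X]
    (hX : IsPGroup 2 X) (E : Subgroup X) [E.Normal] (hE : Cfsg.IsElementaryAbelian 2 E) (hE32 : 32 ≤ Nat.card ↥E) :
    (∀ A B : Subgroup X, Cfsg.IsElementaryAbelian 2 A → Nat.card ↥A = 8 → Cfsg.IsElementaryAbelian 2 B → Nat.card ↥B = 8 →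
        Relation.ReflTransGen
          (fun C D : Subgroup X => Cfsg.IsElementaryAbelian 2 C ∧ Nat.card ↥C = 8 ∧ Cfsg.IsElementaryAbelian 2 D ∧ Nat.card ↥D = 8 ∧ ⁅C, D⁆ = ⊥)
          A B) ∧
      (∀ V : Subgroup X, Cfsg.IsElementaryAbelian 2 V → Nat.card ↥V = 4 →
        ∃ A : Subgroup X, V ≤ A ∧ Cfsg.IsElementaryAbelian 2 A ∧ Nat.card ↥A = 8) := by
  constructor
  · have reach : ∀ A : Subgroup X, Cfsg.IsElementaryAbelian 2 A → Nat.card A = 8 →
        ∃ D : Subgroup X, D ≤ E ∧ Cfsg.IsElementaryAbelian 2 D ∧ Nat.card D = 8 ∧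
          Relation.ReflTransGen R A D ∧ Relation.ReflTransGen R D A := by
      intro A hA hA8
      obtain ⟨a, b, c, haA, hbA, hcA, hAeq⟩ := three_gens hA hA8
      have h2 := fix3 hE hE32 (hA.2 a haA) (hA.2 b hbA) (hA.2 c hcA) (elemAb_commute hA haA hbA)
        (elemAb_commute hA haA hcA) (elemAb_commute hA hbA hcA)
      haveI := Finite.one_lt_card_iff_nontrivial.mp h2
      obtain ⟨⟨e, ⟨⟨heE, hea⟩, heb⟩, hec⟩, he1⟩ :=
        exists_ne (1 : ↥(E ⊓ Subgroup.centralizer {a} ⊓ Subgroup.centralizer {b} ⊓ Subgroup.centralizer {c}))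
      have he1' : e ≠ 1 := fun h => he1 (Subtype.ext h)
      by_cases heA : e ∈ A
      · exact cont_E8 hE hE32 A hA hA8 heA heE he1'
      have hcomm : ∀ s ∈ A, s * e = e * s := by
        rw [← hAeq]
        refine comm_sup (comm_sup (comm_sup (fun s hs => ?_) ?_) ?_) ?_
        · rw [Subgroup.mem_bot.mp hs]; simp
        · exact (Subgroup.mem_centralizer_singleton_iff.mp hea).symm
        · exact (Subgroup.mem_centralizer_singleton_iff.mp heb).symm
        · exact (Subgroup.mem_centralizer_singleton_iff.mp hec).symm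
      have hAe := elemAb_sup hA (elemAb_zpowers (hE.2 e heE)) (fun s hs t ht => by
        obtain ⟨k, rfl⟩ := ht
        exact (Commute.zpow_right (hcomm s hs) k).eq)
      obtain ⟨A', heA', hA'le, hA'8⟩ := exists_subgroup_two_pow (S := Subgroup.zpowers e) (n := 1) (m := 3) hAe
        le_sup_right (by rw [Nat.card_zpowers, orderOf_eq_prime (hE.2 e heE) he1']; norm_num) (by norm_num) (by
          have := Subgroup.card_le_of_le (le_sup_left : A ≤ A ⊔ Subgroup.zpowers e)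
          rw [hA8] at this; simpa using this)
      have hA' := elemAb_mono hAe hA'le
      have hA'8' : Nat.card A' = 8 := by simpa using hA'8
      obtain ⟨hR, hR'⟩ := R_mk hA hA8 hA' hA'8' fun s hs t ht =>
        elemAb_commute hAe ((le_sup_left : A ≤ A ⊔ Subgroup.zpowers e) hs) (hA'le ht)
      obtain ⟨D, hDE, hD, hD8, h1, h1'⟩ := cont_E8 hE hE32 A' hA' hA'8' (heA' (Subgroup.mem_zpowers e)) heE he1'
      exact ⟨D, hDE, hD, hD8, h1.head hR, h1'.tail hR'⟩
    intro A B hA hA8 hB hB8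
    obtain ⟨D, hDE, hD, hD8, h1, _⟩ := reach A hA hA8
    obtain ⟨D', hDE', hD', hD8', _, h2⟩ := reach B hB hB8
    exact (h1.tail (R_mk hD hD8 hD' hD8' fun d hd d' hd' => elemAb_commute hE (hDE hd) (hDE' hd')).1).trans h2
  · intro V hV hV4
    obtain ⟨a, haV, ha⟩ := SetLike.not_le_iff_exists.mp (show ¬ V ≤ ⊥ from fun h => by
      have := Subgroup.card_le_of_le h; simp [hV4] at this)
    obtain ⟨h1le, h1⟩ := gens2 hV bot_le haV ha
    have hcard1 : Nat.card ↥(⊥ ⊔ Subgroup.zpowers a : Subgroup X) ≤ 2 := by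
      rw [bot_sup_eq, Nat.card_zpowers]
      exact Nat.le_of_dvd (by norm_num) (orderOf_dvd_of_pow_eq_one (hV.2 a haV))
    obtain ⟨b, hbV, hb⟩ := SetLike.not_le_iff_exists.mp (show ¬ V ≤ ⊥ ⊔ Subgroup.zpowers a from fun h => by
      have := Subgroup.card_le_of_le h; omega)
    obtain ⟨h2le, h2⟩ := gens2 hV h1le hbV hb
    have hVeq := Subgroup.eq_of_le_of_card_ge h2le (by rw [Subgroup.card_bot] at h1; omega)
    have h4 := fix2 hE hE32 (hV.2 a haV) (hV.2 b hbV) (elemAb_commute hV haV hbV)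
    set Q := E ⊓ Subgroup.centralizer {a} ⊓ Subgroup.centralizer {b}
    have hQE : Q ≤ E := inf_le_left.trans inf_le_left
    have hcomm : ∀ v ∈ V, ∀ q ∈ Q, v * q = q * v := by
      intro v hv q hq
      rw [← hVeq] at hv
      refine comm_sup (comm_sup (fun s hs => ?_) ?_) ?_ v hv
      · rw [Subgroup.mem_bot.mp hs]; simp
      · exact (Subgroup.mem_centralizer_singleton_iff.mp hq.1.2).symm
      · exact (Subgroup.mem_centralizer_singleton_iff.mp hq.2).symm
    by_cases hQV : Q ≤ V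
    · have hVQ : Q = V := Subgroup.eq_of_le_of_card_ge hQV (by omega)
      obtain ⟨D, hVD, hDE, hD8⟩ := exists_subgroup_two_pow (S := V) (n := 2) (m := 3) hE (hVQ ▸ hQE) hV4
        (by norm_num) (by omega)
      exact ⟨D, hVD, elemAb_mono hE hDE, by simpa using hD8⟩
    · obtain ⟨q, hqQ, hqV⟩ := SetLike.not_le_iff_exists.mp hQV
      have hVQe := elemAb_sup hV (elemAb_mono hE hQE) hcomm
      obtain ⟨hle, hcard⟩ := gens2 hVQe (le_sup_left : V ≤ V ⊔ Q) ((le_sup_right : Q ≤ V ⊔ Q) hqQ) hqV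
      obtain ⟨D, hVD, hDle, hD8⟩ := exists_subgroup_two_pow (S := V) (n := 2) (m := 3) (elemAb_mono hVQe hle)
        le_sup_left hV4 (by norm_num) (by omega)
      exact ⟨D, hVD, elemAb_mono hVQe (hDle.trans hle), by simpa using hD8⟩

end Cfsg.Agent.S1785
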