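import Cfsg.Statements.S1786
import Cfsg.Agent.Lib.Solv.TIConj.Main

set_option autoImplicit false
open Cfsg

namespace Cfsg.Agent.S1786

/-- Let G be a finite group, V an elementary abelian 2-subgroup of G and M the normalizer of V; write Q for the largest normal 2-subgroup of M. Suppose (1) the generalized Fitting subgroup of M equals Q; (2) V is a maximal abelian normal subgroup of M; (3) every conjugate of V equals V or meets V trivially, and for some g ∈ G the conjugate V' = g V g⁻¹ is different from V and contained in Q. Let P be the centralizer of V in Q, W the subgroup generated by V and V', and H the subgroup generated by P and g P g⁻¹. Then: (a) V is contained in g Q g⁻¹; (b) every non-identity element of W lies in exactly one conjugate of V contained in W, H normalizes W, and H modulo the centralizer of W in H is isomorphic to the special linear group of dimension 2 over the field with |V| elements; (c) P = Q, and V equals the Frattini subgroup, the centre and the commutator subgroup of Q. -/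
theorem result {G : Type*} [Group G] [Finite G] (V : Subgroup G)
    (hV : Cfsg.IsElementaryAbelian 2 V)
    (h1 : (Cfsg.generalizedFittingSubgroup ↥(Subgroup.normalizer (V : Set G))).map (Subgroup.normalizer (V : Set G)).subtype =
      (Cfsg.pCore 2 ↥(Subgroup.normalizer (V : Set G))).map (Subgroup.normalizer (V : Set G)).subtype)
    (h2 : ∀ A : Subgroup G, V ≤ A → A ≤ Subgroup.normalizer (V : Set G) → IsMulCommutative ↥A →
      (∀ m ∈ Subgroup.normalizer (V : Set G), ∀ a ∈ A, m * a * m⁻¹ ∈ A) → A = V)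
    (hti : ∀ x : G, V.map (MulAut.conj x).toMonoidHom = V ∨ V.map (MulAut.conj x).toMonoidHom ⊓ V = ⊥)
    (g : G) (hg : V.map (MulAut.conj g).toMonoidHom ≠ V)
    (hgQ : V.map (MulAut.conj g).toMonoidHom ≤ (Cfsg.pCore 2 ↥(Subgroup.normalizer (V : Set G))).map (Subgroup.normalizer (V : Set G)).subtype) :
    let Q : Subgroup G := (Cfsg.pCore 2 ↥(Subgroup.normalizer (V : Set G))).map (Subgroup.normalizer (V : Set G)).subtype
    let P : Subgroup G := Q ⊓ Subgroup.centralizer (V : Set G)
    let W : Subgroup G := V ⊔ V.map (MulAut.conj g).toMonoidHom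
    let H : Subgroup G := P ⊔ P.map (MulAut.conj g).toMonoidHom
    V ≤ Q.map (MulAut.conj g).toMonoidHom ∧
      (∀ w ∈ W, w ≠ 1 → ∃! U : Subgroup G, (∃ x : G, U = V.map (MulAut.conj x).toMonoidHom) ∧ U ≤ W ∧ w ∈ U) ∧
      H ≤ Subgroup.normalizer (W : Set G) ∧
      (∀ hN : ((Subgroup.centralizer (W : Set G)).subgroupOf H).Normal, ∃ (F : Type) (_ : Field F) (_ : Fintype F), Fintype.card F = Nat.card ↥V ∧
        Nonempty (↥H ⧸ (Subgroup.centralizer (W : Set G)).subgroupOf H ≃* Matrix.SpecialLinearGroup (Fin 2) F)) ∧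
      P = Q ∧ (frattini ↥Q).map Q.subtype = V ∧ (Subgroup.center ↥Q).map Q.subtype = V ∧ (commutator ↥Q).map Q.subtype = V := by
  obtain ⟨hVc, hVsq⟩ := hV
  haveI : Fact (Nat.Prime 2) := ⟨Nat.prime_two⟩
  intro Q P W H
  have hgf : Cfsg.generalizedFittingSubgroup ↥(Subgroup.normalizer (V : Set G)) =
      Cfsg.pCore 2 ↥(Subgroup.normalizer (V : Set G)) :=
    Subgroup.map_injective (Subgroup.subtype_injective _) h1
  have hy : Solv.TIConj.Hy V Q :=
    { comm := fun a ha b hb => congrArg Subtype.val (hVc.is_comm.comm ⟨a, ha⟩ ⟨b, hb⟩)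
      sq := fun a ha => by
        have := hVsq a ha
        rwa [pow_two] at this
      Qle := fun x hx => by
        obtain ⟨y, -, rfl⟩ := hx
        exact y.2
      Qn := fun m hm q hq => by
        obtain ⟨y, hy, rfl⟩ := hq
        exact ⟨⟨m, hm⟩ * y * ⟨m, hm⟩⁻¹, (Solv.pCore_normal 2).conj_mem y hy _, rfl⟩
      Qp := (Solv.pCore_isPGroup 2).map _
      Qmax := fun X hXle hXn hXp x hx => by
        haveI : (X.subgroupOf (Subgroup.normalizer (V : Set G))).Normal :=
          ⟨fun y hy m => hXn m m.2 y hy⟩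
        exact ⟨⟨x, hXle hx⟩, Solv.normal_le_pCore (N := X.subgroupOf (Subgroup.normalizer (V : Set G)))
          (hXp.comap_of_injective _ (Subgroup.subtype_injective _)) hx, rfl⟩
      Qc := fun x hx hc => by
        refine ⟨⟨x, hx⟩, hgf ▸ Solv.centralizer_gfit_le (Subgroup.mem_centralizer_iff.2
          fun y hy => Subtype.ext ?_), rfl⟩
        rw [hgf] at hy
        exact (hc y ⟨y, hy, rfl⟩).symm
      maxab := fun A hA1 hA2 hA3 hA4 =>
        h2 A hA1 hA2 ⟨⟨fun a b => Subtype.ext (hA3 a a.2 b b.2)⟩⟩ hA4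
      ti := hti }
  obtain ⟨k, s, hs⟩ := (⟨hy, hg, hgQ⟩ : Solv.TIConj.Pr V Q g).exists_sw
  exact ⟨hs.V_le_Q', fun w hw hw1 => hs.exists_unique_conj hw hw1, hs.H_norm, hs.quot_SL2,
    hs.Q_eq, hs.frattini_eq, hs.centre_eq, hs.commutator_eq⟩

end Cfsg.Agent.S1786
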