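import Cfsg.Statements.S1850
import Cfsg.Agent.Lib.LocalEven.CharP

set_option autoImplicit false
open Cfsg

namespace Cfsg.Agent.S1850

open Cfsg.Agent.Fusion Cfsg.Agent.LocalEven

/-- Let G be a non-abelian finite simple QTKE-group and T a Sylow 2-subgroup of G. If U is a nontrivial 2-subgroup of G with U ∩ Z(T) ≠ 1, then F*(N_G(U)) = O₂(N_G(U)). -/
theorem result {G : Type*} [Group G] [Finite G] [IsSimpleGroup G]
    (hG : ¬ IsMulCommutative G) (hQ : Cfsg.IsQTKE G) (T : Sylow 2 G) (U : Subgroup G)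
    (hU : IsPGroup 2 ↥U) (hZ : U ⊓ ((T : Subgroup G) ⊓ Subgroup.centralizer ((T : Subgroup G) : Set G)) ≠ ⊥) :
    Subgroup.normalizer (U : Set G) ∈ Cfsg.calHe G := by
  have _ := hG
  haveI : Fact (Nat.Prime 2) := ⟨Nat.prime_two⟩
  obtain ⟨w, ⟨hwU, hwT, hwc⟩, hw1⟩ := ((Subgroup.bot_or_exists_ne_one _).resolve_left hZ)
  have hne : Subgroup.zpowers w ≠ ⊥ := by simpa using hw1
  have hp : IsPGroup 2 (Subgroup.zpowers w) := hU.to_le (Subgroup.zpowers_le.2 hwU)
  have hTle : (T : Subgroup G) ≤ Subgroup.normalizer (Subgroup.zpowers w : Set G) := fun t ht =>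
    zpowers_le_normalizer (Subgroup.mem_centralizer_iff.1 hwc t ht)
  have h0 : CharP 2 (Subgroup.normalizer (Subgroup.zpowers w : Set G)) :=
    hQ.2.2 _ ⟨_, hp, hne, rfl⟩ ⟨T, hTle⟩
  have key : ∀ (n : ℕ) (C : Subgroup G), Nat.card U - Nat.card C = n → C ≤ U →
      CharP 2 (Subgroup.normalizer (C : Set G)) → CharP 2 (Subgroup.normalizer (U : Set G)) := by
    intro n
    induction n using Nat.strong_induction_on with
    | _ n ih =>
    intro C hn hCU hC
    by_cases he : C = U
    · exact he ▸ hC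
    have hlt := SylIn.normalizer_growth hCU he hU
    have hle : U ⊓ Subgroup.normalizer (C : Set G) ≤ U := inf_le_left
    have hc1 : Nat.card C < Nat.card ↥(U ⊓ Subgroup.normalizer (C : Set G)) := by
      refine lt_of_le_of_ne (Subgroup.card_le_of_le hlt.le) fun h => hlt.ne ?_
      exact Subgroup.eq_of_le_of_card_ge hlt.le h.ge
    have hc2 := Subgroup.card_le_of_le hle
    exact ih _ (by omega) _ rfl hle (charP_normalizer (hU.to_le hle) hlt.le inf_le_right hC)
  exact (charP_iff_gfit).1 (key _ _ rfl (Subgroup.zpowers_le.2 hwU) h0)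

end Cfsg.Agent.S1850
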