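import Cfsg.Statements.S1851
import Cfsg.Agent.Lib.LocalEven.CharP
import Cfsg.Agent.Lib.LocalEven.ParabolicInherit
import Cfsg.Agent.Lib.Perm.Subnormalizer
import Cfsg.Agent.Lib.Fusion.NPC
import Cfsg.Agent.Lib.Fusion.KInf
import Cfsg.Agent.Lib.Fusion.Reduction

set_option autoImplicit false
open Cfsg

namespace Cfsg.Agent.S1851

open Cfsg.Agent.Fusion Cfsg.Agent.LocalEven

/-- Let G be a non-abelian finite simple QTKE-group and T a Sylow 2-subgroup of G, and let L be a member of ℒ_f(G, T) (a member of ℒ(G, T) that lies in 𝒳 — L ≠ 1, L = O²(L), F*(L) = O₂(L) — and acts nontrivially on Ω₁(Z(O₂(L)))). Then (1) every member K of ℒ(G, T) containing L is again in ℒ_f(G, T) (a sharper form of (1) also compares the modules [Ω₁(Z(R)), L] and [Ω₁(Z(R')), K] for suitable 2-subgroups R, R'; that comparison is not included); and (2) if L is maximal under inclusion among the members of ℒ_f(G, T), then L is a maximal member of ℒ(G, T), hence a member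 of ℒ_f*(G, T). -/
theorem result {G : Type*} [Group G] [Finite G] [IsSimpleGroup G]
    (hG : ¬ IsMulCommutative G) (hQ : Cfsg.IsQTKE G) (T : Sylow 2 G) (L : Subgroup G)
    (hL : L ∈ Cfsg.calLf (T : Subgroup G)) :
    (∀ K ∈ Cfsg.calL (T : Subgroup G), L ≤ K → K ∈ Cfsg.calLf (T : Subgroup G)) ∧
    ((∀ K ∈ Cfsg.calLf (T : Subgroup G), L ≤ K → K = L) → L ∈ Cfsg.calLfMax (T : Subgroup G)) := by
  have _ := hG
  haveI : Fact (Nat.Prime 2) := ⟨Nat.prime_two⟩
  obtain ⟨⟨hLsub, ⟨PL, hPL⟩, hLO⟩, ⟨-, -, -⟩, hLV⟩ := hL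
  suffices h1 : ∀ K ∈ Cfsg.calL (T : Subgroup G), L ≤ K → K ∈ Cfsg.calLf (T : Subgroup G) by
    refine ⟨h1, fun hmax => ⟨⟨⟨hLsub, ⟨PL, hPL⟩, hLO⟩, fun K hK hLK => hmax K (h1 K hK hLK) hLK⟩,
      (h1 L ⟨hLsub, ⟨PL, hPL⟩, hLO⟩ le_rfl).2⟩⟩
  intro K hKL hLK
  refine ⟨hKL, ?_⟩
  obtain ⟨hKsub, -, hKO⟩ := hKL
  have hTT : SylIn 2 (T : Subgroup G) ⊤ := sylIn_top T
  -- the structure of a member
  have key : ∀ X : Subgroup G, X.subgroupOf (X ⊔ (T : Subgroup G)) ∈ Cfsg.calC ↥(X ⊔ (T : Subgroup G)) →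
      Cfsg.pCore 2 ↥(X ⊔ (T : Subgroup G)) ≠ ⊥ →
      ∃ R : Subgroup G, R = Cfsg.pCoreTwoOf (X ⊔ (T : Subgroup G)) ∧ IsPGroup 2 R ∧ R ≤ (T : Subgroup G) ∧
        (∀ y ∈ X ⊔ (T : Subgroup G), (∀ r ∈ R, r * y = y * r) → y ∈ R) ∧
        R ≤ Subgroup.normalizer (X : Set G) ∧ X ⊔ (T : Subgroup G) ≤ Subgroup.normalizer (R : Set G) ∧
        Cfsg.pCoreTwoOf X = X ⊓ R ∧ X ∈ Cfsg.calHe G ∧ Cfsg.oddGenerated X = X := by
    intro X hX hO
    obtain ⟨H, hH⟩ : ∃ H, H = X ⊔ (T : Subgroup G) := ⟨_, rfl⟩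
    rw [← hH] at hX hO ⊢
    obtain ⟨R, hR⟩ : ∃ R, R = Cfsg.pCoreTwoOf H := ⟨_, rfl⟩
    obtain ⟨hX1, hXperf, hXsn, -⟩ := hX
    have hXH : X ≤ H := hH ▸ le_sup_left
    have hTH : (T : Subgroup G) ≤ H := hH ▸ le_sup_right
    have hRp : IsPGroup 2 R := hR ▸ (isPGroup_pCore 2 ↥H).map _
    have hRH : R ≤ H := hR ▸ Subgroup.map_subtype_le _
    have hHR : H ≤ Subgroup.normalizer (R : Set G) := hR ▸ Subgroup.le_normalizer.trans (normalizer_le_char _ _)
    have hR1 : R ≠ ⊥ := fun h => hO ((Subgroup.map_eq_bot_iff_of_injective _ H.subtype_injective).1 (hR.symm.trans h))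
    have hRT : R ≤ (T : Subgroup G) := by
      have h2 : IsPGroup 2 ↥((T : Subgroup G) ⊔ R) := T.isPGroup'.to_sup_of_normal_right' hRp (hTH.trans hHR)
      exact le_sup_right.trans (hTT.eq_of_le h2 le_sup_left le_top).le
    -- the 2-local subgroup above H
    have hN : CharP 2 (Subgroup.normalizer (R : Set G)) := hQ.2.2 _ ⟨R, hRp, hR1, rfl⟩ ⟨T, hTH.trans hHR⟩
    obtain ⟨O, hO'⟩ : ∃ O, O = (Cfsg.pCore 2 ↥(Subgroup.normalizer (R : Set G))).map (Subgroup.normalizer (R : Set G)).subtype := ⟨_, rfl⟩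
    have hON : Subgroup.normalizer (R : Set G) ≤ Subgroup.normalizer (O : Set G) :=
      hO' ▸ Subgroup.le_normalizer.trans (normalizer_le_char _ _)
    have hOp : IsPGroup 2 O := hO' ▸ (isPGroup_pCore 2 _).map _
    have hOT : O ≤ (T : Subgroup G) := by
      have h2 : IsPGroup 2 ↥((T : Subgroup G) ⊔ O) := T.isPGroup'.to_sup_of_normal_right' hOp ((hTH.trans hHR).trans hON)
      exact le_sup_right.trans (hTT.eq_of_le h2 le_sup_left le_top).le
    have hOR : O ≤ R := by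
      haveI : (O.subgroupOf H).Normal :=
        (Subgroup.normal_subgroupOf_iff_le_normalizer (hOT.trans hTH)).2 (hHR.trans hON)
      intro o ho
      rw [hR]
      exact ⟨⟨o, hTH (hOT ho)⟩, le_pCore (N := O.subgroupOf H) hOp.comap_subtype ho, rfl⟩
    have hcent : ∀ y ∈ H, (∀ r ∈ R, r * y = y * r) → y ∈ R := by
      intro y hy h
      refine hOR ?_
      rw [hO']
      refine ⟨⟨y, hHR hy⟩, hN (Subgroup.mem_centralizer_iff.2 fun o ho => Subtype.ext ?_), rfl⟩
      exact h o (hOR (hO' ▸ ⟨o, ho, rfl⟩))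
    have hHc : CharP 2 H := by
      intro y hy
      obtain ⟨w, hw, hwy⟩ := hR.le (hcent y y.2 fun r hr => by
        rw [hR] at hr
        obtain ⟨r', hr', rfl⟩ := hr
        exact congrArg Subtype.val (Subgroup.mem_centralizer_iff.1 hy r' hr'))
      rwa [← Subtype.ext (show (w : G) = (y : G) from hwy)]
    -- inside H
    obtain ⟨X', hX'⟩ : ∃ X', X' = X.subgroupOf H := ⟨_, rfl⟩
    rw [← hX'] at hX1 hXperf hXsn
    have hX'm : X'.map H.subtype = X := by rw [hX', Subgroup.map_subgroupOf_eq_of_le hXH]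
    haveI hperf : Group.IsPerfect ↥X := by
      refine ⟨?_⟩
      rw [commutator_def]
      refine Subgroup.map_injective X.subtype_injective ?_
      rw [Subgroup.map_commutator, ← MonoidHom.range_eq_map, Subgroup.range_subtype, ← hX'm,
        ← Subgroup.map_commutator, hXperf]
    have hres : Cfsg.pResidual 2 ↥X = ⊤ := by
      by_contra hne
      haveI := (isPGroup_quotient_pResidual (p := 2) (G := ↥X)).isNilpotent
      have : Nontrivial (↥X ⧸ Cfsg.pResidual 2 ↥X) :=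
        QuotientGroup.nontrivial_iff.2 hne
      haveI : Group.IsPerfect (↥X ⧸ Cfsg.pResidual 2 ↥X) :=
        Group.IsPerfect.ofSurjective (QuotientGroup.mk'_surjective (Cfsg.pResidual 2 ↥X))
      exact Group.IsPerfect.not_isSolvable (G := ↥X ⧸ Cfsg.pResidual 2 ↥X) inferInstance
    have hodd : Cfsg.oddGenerated X = X := by
      refine le_antisymm ((Subgroup.closure_le _).2 fun x hx => hx.1) ?_
      have h3 := congrArg (Subgroup.map X.subtype) hres
      rw [← MonoidHom.range_eq_map, Subgroup.range_subtype, Cfsg.pResidual, MonoidHom.map_closure] at h3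
      conv_lhs => rw [← h3]
      refine Subgroup.closure_mono ?_
      rintro _ ⟨x, hx, rfl⟩
      exact ⟨x.2, by
        rw [Subgroup.coe_subtype, Subgroup.orderOf_coe]
        exact Nat.coprime_two_right.1 hx⟩
    -- odd elements of XR lie in X
    have hsn : ∀ {A : Subgroup ↥H}, A.IsSubnormal → ∀ x : ↥H, x ∈ X' ⊔ Cfsg.pCore 2 ↥H →
        X' ≤ A → Odd (orderOf x) → x ∈ A := by
      intro A hA
      induction hA with
      | top => exact fun _ _ _ _ => Subgroup.mem_top _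
      | step A B hAB _ hn ih =>
        intro x hx hXA hxo
        have hxB : x ∈ B := ih x hx (hXA.trans hAB) hxo
        haveI := hn
        rw [← SetLike.mem_coe, Subgroup.mul_normal] at hx
        obtain ⟨a, ha, r, hr, rfl⟩ := hx
        have hrB : r ∈ B := (Subgroup.mul_mem_cancel_left B (hAB (hXA ha))).1 hxB
        have h1 : (QuotientGroup.mk' (A.subgroupOf B) ⟨a * r, hxB⟩) = QuotientGroup.mk' (A.subgroupOf B) ⟨r, hrB⟩ := by
          rw [show (⟨a * r, hxB⟩ : ↥B) = ⟨a, hAB (hXA ha)⟩ * ⟨r, hrB⟩ from rfl, map_mul,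
            show QuotientGroup.mk' (A.subgroupOf B) ⟨a, hAB (hXA ha)⟩ = 1 from
              (QuotientGroup.eq_one_iff _).2 (hXA ha), one_mul]
        obtain ⟨k, hk⟩ := isPGroup_pCore 2 ↥H ⟨r, hr⟩
        have h2 : (QuotientGroup.mk' (A.subgroupOf B) ⟨a * r, hxB⟩) ^ 2 ^ k = 1 := by
          rw [h1, ← map_pow, show (⟨r, hrB⟩ : ↥B) ^ 2 ^ k = 1 from Subtype.ext (congrArg Subtype.val hk :), map_one]
        have h3 : orderOf (QuotientGroup.mk' (A.subgroupOf B) ⟨a * r, hxB⟩) ∣ orderOf (a * r) :=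
          (orderOf_map_dvd _ _).trans (Subgroup.orderOf_mk _ hxB).dvd
        have h4 := Nat.eq_one_of_dvd_coprimes ((Nat.coprime_two_right.2 hxo).pow_right k) h3 (orderOf_dvd_of_pow_eq_one h2)
        exact (QuotientGroup.eq_one_iff (N := A.subgroupOf B) ⟨a * r, hxB⟩).1 (orderOf_eq_one_iff.1 h4)
    have hRX : R ≤ Subgroup.normalizer (X : Set G) := by
      intro r hr
      refine mem_normalizer_of_cj_le ?_
      conv_lhs => rw [← hodd]
      rw [cj, Cfsg.oddGenerated, MonoidHom.map_closure, Subgroup.closure_le]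
      rintro _ ⟨x, ⟨hx, hxo⟩, rfl⟩
      rw [hR] at hr
      obtain ⟨r', hr', rfl⟩ := hr
      have h5 : r' * ⟨x, hXH hx⟩ * r'⁻¹ ∈ X' := by
        refine hsn hXsn _ ?_ le_rfl ?_
        · have hmem : (⟨x, hXH hx⟩ : ↥H) ∈ X' := by rw [hX']; exact hx
          exact mul_mem (mul_mem (Subgroup.mem_sup_right hr') (Subgroup.mem_sup_left hmem))
            (inv_mem (Subgroup.mem_sup_right hr'))
        · rw [← MulAut.conj_apply, MulEquiv.orderOf_eq, Subgroup.orderOf_mk]
          exact hxo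
      rw [hX'] at h5
      exact h5
    have hcore : Cfsg.pCoreTwoOf X = X ⊓ R := by
      refine le_antisymm (fun x hx => ?_) (fun x hx => ?_)
      · obtain ⟨x', hx', rfl⟩ := hx
        refine ⟨x'.2, ?_⟩
        rw [hR]
        refine ⟨⟨x', hXH x'.2⟩, ?_, rfl⟩
        have hsn' : ((Cfsg.pCoreTwoOf X).subgroupOf H).IsSubnormal := by
          refine Subgroup.IsSubnormal.trans (K := X') ?_ ?_ hXsn
          · rw [hX']; exact Subgroup.comap_mono (f := H.subtype) (Subgroup.map_subtype_le _)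
          · refine Subgroup.Normal.isSubnormal ?_
            rw [Subgroup.normal_subgroupOf_iff_le_normalizer (by rw [hX']; exact Subgroup.comap_mono (f := H.subtype) (Subgroup.map_subtype_le _))]
            rw [hX']
            intro w hw
            refine mem_normalizer_of_cj_le ?_
            rintro _ ⟨u, hu, rfl⟩
            exact (Subgroup.mem_normalizer_iff.1 ((Subgroup.le_normalizer.trans (normalizer_le_char _ _) :
              X ≤ Subgroup.normalizer (Cfsg.pCoreTwoOf X : Set G)) hw) _).1 hu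
        exact Cfsg.Agent.Perm.subnormal_pgroup_le_pCore hsn' ((isPGroup_pCore 2 ↥X).map _).comap_subtype
          ⟨x', hx', rfl⟩
      · haveI : ((X ⊓ R).subgroupOf X).Normal := by
          rw [Subgroup.normal_subgroupOf_iff_le_normalizer inf_le_left]
          intro w hw
          exact mem_normalizer_iff_cj.2 (by rw [cj_inf, cj_eq_self_of_mem hw, cj_eq_self (hHR (hXH hw))])
        exact ⟨⟨x, hx.1⟩, le_pCore (N := (X ⊓ R).subgroupOf X) (hRp.to_le inf_le_right).comap_subtype hx, rfl⟩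
    refine ⟨R, hR, hRp, hRT, hcent, hRX, hHR, hcore, ?_, hodd⟩
    show Cfsg.generalizedFittingSubgroup ↥X = Cfsg.pCore 2 ↥X
    rw [← charP_iff_gfit]
    have h6 : CharP 2 (⊤ : Subgroup ↥H) := centralizer_pCore_equiv Subgroup.topEquiv hHc
    have h7 := charP_inf_subnormal h6 hXsn
    rw [inf_top_eq, hX'] at h7
    exact centralizer_pCore_equiv (Subgroup.subgroupOfEquivOfLe hXH).symm h7
  obtain ⟨RL, hRLeq, hRLp, hRLT, hRLc, hRLX, hHRL, hOL, -, hoddL⟩ := key L hLsub hLO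
  obtain ⟨RK, -, hRKp, hRKT, hRKc, hRKX, hHRK, hOK, hKHe, hoddK⟩ := key K hKsub hKO
  refine ⟨⟨?_, hoddK, hKHe⟩, ?_⟩
  · exact fun h => hKsub.1 (by rw [h, Subgroup.bot_subgroupOf])
  intro hV
  rw [Cfsg.moduleV, Subgroup.commutator_eq_bot_iff_le_centralizer] at hV
  -- an odd element of L moving Z(R_L)
  obtain ⟨a, haL, haodd, d, hd, hdc, hd2, had⟩ : ∃ a ∈ L, Odd (orderOf a) ∧ ∃ d ∈ RL,
      (∀ r ∈ RL, r * d = d * r) ∧ d * d = 1 ∧ a * d ≠ d * a := by
    obtain ⟨W, hW⟩ : ∃ W, W = Cfsg.omegaOne 2 (Cfsg.pCoreTwoOf L ⊓ Subgroup.centralizer (Cfsg.pCoreTwoOf L : Set G)) := ⟨_, rfl⟩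
    have hWin : W ≤ Cfsg.pCoreTwoOf L ⊓ Subgroup.centralizer (Cfsg.pCoreTwoOf L : Set G) :=
      hW ▸ (Subgroup.closure_le _).2 fun x hx => hx.1
    have hWc : ∀ x ∈ W, ∀ y ∈ W, Commute x y := fun x hx y hy =>
      Subgroup.mem_centralizer_iff.1 (hWin hy).2 x (hWin hx).1
    have hW2 : ∀ x ∈ W, x * x = 1 := by
      intro x hx
      have hx' := hx
      rw [hW, Cfsg.omegaOne] at hx'
      clear hx
      induction hx' using Subgroup.closure_induction with
      | mem w hw => rw [← pow_two]; exact hw.2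
      | one => simp
      | mul u v hu hv ihu ihv =>
        have hc : Commute u v := hWc u (hW ▸ hu) v (hW ▸ hv)
        calc u * v * (u * v) = u * (v * u) * v := by group
          _ = u * (u * v) * v := by rw [hc.eq]
          _ = (u * u) * (v * v) := by group
          _ = 1 := by rw [ihu, ihv, one_mul]
      | inv u hu ihu => rw [← mul_inv_rev, ihu, inv_one]
    have hmoved : ¬ L ≤ Subgroup.centralizer (W : Set G) := fun h => hLV (by
      rw [Cfsg.moduleV, Subgroup.commutator_eq_bot_iff_le_centralizer, Subgroup.le_centralizer_iff, ← hW]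
      exact h)
    have hmoved' : ∃ a, (a ∈ L ∧ Odd (orderOf a)) ∧ a ∉ Subgroup.centralizer (W : Set G) := by
      by_contra! h
      refine hmoved ?_
      conv_lhs => rw [← hoddL]
      exact (Subgroup.closure_le _).2 fun x hx => h x hx
    obtain ⟨a, ⟨haL, haodd⟩, haW⟩ := hmoved'
    refine ⟨a, haL, haodd, ?_⟩
    by_contra! hfix
    obtain ⟨F, hF⟩ : ∃ F, F = W ⊓ Subgroup.centralizer ({a} : Set G) := ⟨_, rfl⟩
    have hOLR : Cfsg.pCoreTwoOf L ≤ RL := hOL.le.trans inf_le_right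
    have hWR : W ≤ RL := (hWin.trans inf_le_left).trans hOLR
    have hrW : ∀ r ∈ RL, cj W r ≤ W := by
      intro r hr
      rw [hW, cj, Cfsg.omegaOne, MonoidHom.map_closure]
      refine Subgroup.closure_mono ?_
      rintro _ ⟨x, ⟨⟨hx1, hx2⟩, hx3⟩, rfl⟩
      have hconj : cj (Cfsg.pCoreTwoOf L) r = Cfsg.pCoreTwoOf L := by
        rw [hOL, cj_inf, cj_eq_self (hRLX hr), cj_eq_self_of_mem hr]
      refine ⟨⟨hconj.le ⟨x, hx1, rfl⟩, ?_⟩, ?_⟩
      · refine Subgroup.mem_centralizer_iff.2 fun o ho => ?_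
        obtain ⟨o', ho', rfl⟩ := hconj.ge ho
        show MulAut.conj r o' * MulAut.conj r x = MulAut.conj r x * MulAut.conj r o'
        rw [← map_mul, ← map_mul, Subgroup.mem_centralizer_iff.1 hx2 o' ho']
      · show (MulAut.conj r x) ^ 2 = 1
        rw [← map_pow, hx3, map_one]
    obtain ⟨hnil⟩ : Nonempty (Group.IsNilpotent ↥RL) := ⟨hRLp.isNilpotent⟩
    haveI := hnil
    obtain ⟨x, hxW, hxF, hxq⟩ := exists_fixed_mod (P := ↥RL) (N := F.subgroupOf RL) (C := W.subgroupOf RL) (Q := ⊤)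
      (fun r _ => mem_normalizer_of_cj_le (by
        rintro _ ⟨u, hu, rfl⟩
        exact hrW r r.2 ⟨(u : G), hu, rfl⟩))
      (fun h => haW (Subgroup.mem_centralizer_iff.2 fun w hw => by
        have := h (show (⟨w, hWR hw⟩ : ↥RL) ∈ W.subgroupOf RL from hw)
        rw [hF] at this
        exact (Subgroup.mem_centralizer_singleton_iff.1 this.2)))
    have hxW' : (x : G) ∈ W := hxW
    have hinW : ∀ w ∈ W, a * w * a⁻¹ ∈ W := by
      intro w hw
      rw [hW] at hw ⊢
      have hchar : ∀ y ∈ L, y ∈ Subgroup.normalizer (Cfsg.pCoreTwoOf L : Set G) :=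
        fun y hy => (Subgroup.le_normalizer.trans (normalizer_le_char L (Cfsg.pCore 2 ↥L))) hy
      induction hw using Subgroup.closure_induction with
      | mem u hu =>
        obtain ⟨⟨hu1, hu2⟩, hu3⟩ := hu
        refine Subgroup.subset_closure ⟨⟨(Subgroup.mem_normalizer_iff.1 (hchar a haL) u).1 hu1, ?_⟩, ?_⟩
        · refine Subgroup.mem_centralizer_iff.2 fun o ho => ?_
          have ho' := (Subgroup.mem_normalizer_iff''.1 (hchar a haL) o).1 ho
          have h := Subgroup.mem_centralizer_iff.1 hu2 _ ho'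
          calc o * (a * u * a⁻¹) = a * ((a⁻¹ * o * a) * u) * a⁻¹ := by group
            _ = a * (u * (a⁻¹ * o * a)) * a⁻¹ := by rw [h]
            _ = _ := by group
        · rw [← MulAut.conj_apply, ← map_pow, hu3, map_one]
      | one => simp
      | mul u v _ _ hu hv =>
        rw [show a * (u * v) * a⁻¹ = (a * u * a⁻¹) * (a * v * a⁻¹) by group]
        exact mul_mem hu hv
      | inv u _ hu =>
        rw [show a * u⁻¹ * a⁻¹ = (a * u * a⁻¹)⁻¹ by group]
        exact inv_mem hu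
    obtain ⟨e, he⟩ : ∃ e, e = a * (x : G) * a⁻¹ * (x : G)⁻¹ := ⟨_, rfl⟩
    have heW : e ∈ W := he ▸ W.mul_mem (hinW _ hxW') (W.inv_mem hxW')
    have heR : ∀ r ∈ RL, r * e = e * r := by
      intro r hr
      have hf := hxq ⟨r, hr⟩ (Subgroup.mem_top _)
      obtain ⟨f, hf'⟩ : ∃ f, f = (x : G) * r * (x : G)⁻¹ * r⁻¹ := ⟨_, rfl⟩
      have hfF : f ∈ F := hf' ▸ hf
      rw [hF] at hfF
      have hfa : Commute a f := (Subgroup.mem_centralizer_singleton_iff.1 hfF.2).symm
      have hfx : r * (x : G) * r⁻¹ = f⁻¹ * x := by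
        rw [hf']
        group
      -- r commutes with a on W
      obtain ⟨o, ho⟩ : ∃ o, o = a⁻¹ * r * a * r⁻¹ := ⟨_, rfl⟩
      have hoO : o ∈ Cfsg.pCoreTwoOf L := by
        rw [hOL, ho]
        refine ⟨?_, RL.mul_mem ((Subgroup.mem_normalizer_iff''.1 (hHRL (le_sup_left (a := L) (b := (T : Subgroup G)) haL)) r).1 hr) (RL.inv_mem hr)⟩
        rw [show a⁻¹ * r * a * r⁻¹ = a⁻¹ * (r * a * r⁻¹) by group]
        exact L.mul_mem (L.inv_mem haL) ((Subgroup.mem_normalizer_iff.1 (hRLX hr) a).1 haL)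
      have hox : Commute o (r * (x : G) * r⁻¹) :=
        Subgroup.mem_centralizer_iff.1 (hWin (hrW r hr ⟨(x : G), hxW', rfl⟩)).2 o hoO
      have hswap : r * (a * (x : G) * a⁻¹) * r⁻¹ = a * (r * (x : G) * r⁻¹) * a⁻¹ := by
        calc r * (a * (x : G) * a⁻¹) * r⁻¹ = a * (o * (r * (x : G) * r⁻¹) * o⁻¹) * a⁻¹ := by rw [ho]; group
          _ = _ := by rw [hox.eq]; group
      refine mul_inv_eq_iff_eq_mul.1 ?_
      calc r * e * r⁻¹ = (r * (a * (x : G) * a⁻¹) * r⁻¹) * (r * (x : G) * r⁻¹)⁻¹ := by rw [he]; group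
        _ = (a * f⁻¹ * a⁻¹) * e * f := by rw [hswap, hfx, he]; group
        _ = f⁻¹ * e * f := by rw [hfa.inv_right.eq]; group
        _ = e := by rw [mul_assoc, (hWc e heW f hfF.1).eq, inv_mul_cancel_left]
    have hae := hfix e (hWR heW) heR (hW2 e heW)
    have hpow : ∀ k : ℕ, a ^ k * (x : G) * (a ^ k)⁻¹ = e ^ k * x := by
      intro k
      induction k with
      | zero => simp
      | succ k ih =>
        calc a ^ (k + 1) * (x : G) * (a ^ (k + 1))⁻¹ = a * (a ^ k * (x : G) * (a ^ k)⁻¹) * a⁻¹ := by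
              rw [pow_succ']; group
          _ = (a * e ^ k * a⁻¹) * e * x := by rw [ih, he]; group
          _ = _ := by rw [((show Commute a e from hae).pow_right k).eq, mul_inv_cancel_right, pow_succ]
    have h10 : e ^ orderOf a = 1 := by
      have := hpow (orderOf a)
      rw [pow_orderOf_eq_one] at this
      simpa using this
    obtain ⟨m, hm⟩ := haodd
    rw [hm, pow_succ, pow_mul, pow_two, hW2 e heW, one_pow, one_mul] at h10
    refine hxF ?_
    rw [hF]
    refine ⟨hxW', Subgroup.mem_centralizer_singleton_iff.2 ?_⟩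
    rw [h10] at he
    exact (mul_inv_eq_iff_eq_mul.1 (mul_inv_eq_one.1 he.symm)).symm
  -- the same involution in R_K
  have hKH : L ⊔ (T : Subgroup G) ≤ K ⊔ (T : Subgroup G) := sup_le_sup_right hLK _
  have hRKle : RK ≤ RL := by
    refine fun r hr => ?_
    have hr' : r ∈ L ⊔ (T : Subgroup G) := (le_sup_right : (T : Subgroup G) ≤ _) (hRKT hr)
    by_contra hnot
    -- RK is a normal 2-subgroup of L ⊔ T
    haveI : (RK.subgroupOf (L ⊔ (T : Subgroup G))).Normal :=
      (Subgroup.normal_subgroupOf_iff_le_normalizer (hRKT.trans le_sup_right)).2 (hKH.trans hHRK)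
    exact hnot (hRLeq.ge ⟨⟨r, hr'⟩, le_pCore (N := RK.subgroupOf (L ⊔ (T : Subgroup G))) hRKp.comap_subtype hr, rfl⟩)
  have hdK : d ∈ RK := hRKc d (hKH (hRLT.trans le_sup_right hd)) fun r hr => hdc r (hRKle hr)
  have haK : a ∈ K := hLK haL
  have haN : a ∈ Subgroup.normalizer (RK : Set G) := hHRK ((le_sup_left : K ≤ _) haK)
  have hZ : ∀ r ∈ RK, r * d = d * r := fun r hr => hdc r (hRKle hr)
  obtain ⟨d', hd'⟩ : ∃ d', d' = a * d * a⁻¹ := ⟨_, rfl⟩
  have hd'Z : ∀ r ∈ RK, Commute r d' := by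
    intro r hr
    have h := hZ _ ((Subgroup.mem_normalizer_iff''.1 haN r).1 hr)
    rw [hd']
    calc r * (a * d * a⁻¹) = a * ((a⁻¹ * r * a) * d) * a⁻¹ := by group
      _ = a * (d * (a⁻¹ * r * a)) * a⁻¹ := by rw [h]
      _ = _ := by group
  obtain ⟨e, he⟩ : ∃ e, e = d' * d⁻¹ := ⟨_, rfl⟩
  have hd'R : d' ∈ RK := hd' ▸ (Subgroup.mem_normalizer_iff.1 haN d).1 hdK
  have heR : e ∈ RK := he ▸ RK.mul_mem hd'R (RK.inv_mem hdK)
  have heK : e ∈ K := by
    rw [he, hd', show a * d * a⁻¹ * d⁻¹ = a * (d * a⁻¹ * d⁻¹) by group]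
    exact K.mul_mem haK ((Subgroup.mem_normalizer_iff.1 (hRKX hdK) _).1 (K.inv_mem haK))
  have hd2' : d' * d' = 1 := by
    rw [hd', show a * d * a⁻¹ * (a * d * a⁻¹) = a * (d * d) * a⁻¹ by group, hd2]; group
  have he2 : e * e = 1 := by
    have hdd : d⁻¹ = d := inv_eq_of_mul_eq_one_right hd2
    rw [he, hdd, mul_assoc, ← mul_assoc d, ((hd'Z d hdK).eq), mul_assoc, hd2, mul_one, hd2']
  have hegen : e ∈ Cfsg.omegaOne 2 (Cfsg.pCoreTwoOf K ⊓ Subgroup.centralizer (Cfsg.pCoreTwoOf K : Set G)) := by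
    refine Subgroup.subset_closure ⟨⟨hOK.ge ⟨heK, heR⟩, Subgroup.mem_centralizer_iff.2 fun o ho => ?_⟩, by rw [pow_two]; exact he2⟩
    rw [he]
    exact ((hd'Z o (hOK.le ho).2).mul_right (show Commute o d from hZ o (hOK.le ho).2).inv_right).eq
  have hea : Commute a e := Subgroup.mem_centralizer_iff.1 (hV hegen) a haK
  have hpow : ∀ k : ℕ, a ^ k * d * (a ^ k)⁻¹ = e ^ k * d := by
    intro k
    induction k with
    | zero => simp
    | succ k ih =>
      calc a ^ (k + 1) * d * (a ^ (k + 1))⁻¹ = a * (a ^ k * d * (a ^ k)⁻¹) * a⁻¹ := by rw [pow_succ']; group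
        _ = (a * e ^ k * a⁻¹) * e * d := by rw [ih, he, hd']; group
        _ = _ := by rw [(hea.pow_right k).eq, mul_inv_cancel_right, pow_succ]
  have h10 : e ^ orderOf a = 1 := by
    have := hpow (orderOf a)
    rw [pow_orderOf_eq_one] at this
    simpa using this
  obtain ⟨m, hm⟩ := haodd
  rw [hm, pow_succ, pow_mul, pow_two, he2, one_pow, one_mul] at h10
  rw [h10, hd'] at he
  exact had (mul_inv_eq_iff_eq_mul.1 (mul_inv_eq_one.1 he.symm))

end Cfsg.Agent.S1851
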