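import Cfsg.Statements.S1892
import Cfsg.Agent.Lib.Char.OneBlock
import Cfsg.Agent.Lib.Solv.Coprime
import Cfsg.Agent.Lib.Fusion.Cores

set_option autoImplicit false
open Cfsg Cfsg.Agent
open Cfsg.Agent.Fusion
open scoped commutatorElement

namespace Cfsg.Agent.S1892

/-- Let S be a finite p-solvable group with no nontrivial normal subgroup of order prime to p, A a p-subgroup of S, and Q a nontrivial A-invariant subgroup of order prime to p with [A, Q] = Q. Then the commutator [O_p(S), A, Q] is nontrivial. -/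
theorem result {S : Type*} [Group S] [Finite S] {p : ℕ} [Fact p.Prime]
    (hS : Cfsg.IsPSolvable p S) (hred : Cfsg.pPrimeCore p S = ⊥)
    (A Q : Subgroup S) (hA : IsPGroup p A) (hQ : ¬ p ∣ Nat.card Q) (hQ1 : Q ≠ ⊥)
    (hinv : ∀ a ∈ A, ∀ x ∈ Q, a * x * a⁻¹ ∈ Q) (hAQ : ⁅A, Q⁆ = Q) :
    ⁅⁅Cfsg.pCore p S, A⁆, Q⁆ ≠ ⊥ := by
  intro hbot
  obtain ⟨V, hV⟩ : ∃ V, V = Cfsg.pCore p S := ⟨_, rfl⟩
  haveI hVn : V.Normal := hV ▸ inferInstance
  have hVp : IsPGroup p V := hV ▸ isPGroup_pCore p S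
  have hall : ∀ K : Subgroup S, K ≤ Subgroup.normalizer (V : Set S) := fun K => by
    rw [Subgroup.normalizer_eq_top]; exact le_top
  rw [← hV] at hbot
  obtain ⟨W, hW⟩ : ∃ W, W = ⁅V, A⁆ := ⟨_, rfl⟩
  rw [← hW] at hbot
  obtain ⟨hWV, hVW, hAW⟩ := Solv.commutator_normal_in (hall A)
  rw [← hW] at hWV hVW hAW
  have hQW : Q ≤ Subgroup.centralizer (W : Set S) := by
    rw [← Subgroup.commutator_eq_bot_iff_le_centralizer, Subgroup.commutator_comm]; exact hbot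
  have hQN : Q ≤ Subgroup.normalizer (W : Set S) := hQW.trans (Subgroup.centralizer_le_normalizer _)
  let T : Subgroup S :=
    { carrier := {g | g ∈ Subgroup.normalizer (W : Set S) ∧ ∀ v ∈ V, g * v * g⁻¹ * v⁻¹ ∈ W}
      one_mem' := ⟨one_mem _, fun v _ => by simp⟩
      mul_mem' := by
        rintro a b ⟨ha, ha'⟩ ⟨hb, hb'⟩
        refine ⟨mul_mem ha hb, fun v hv => ?_⟩
        rw [show a * b * v * (a * b)⁻¹ * v⁻¹ = a * (b * v * b⁻¹ * v⁻¹) * a⁻¹ * (a * v * a⁻¹ * v⁻¹) by group]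
        exact mul_mem ((Subgroup.mem_normalizer_iff.1 ha _).1 (hb' v hv)) (ha' v hv)
      inv_mem' := by
        rintro a ⟨ha, ha'⟩
        refine ⟨inv_mem ha, fun v hv => ?_⟩
        have h := (Subgroup.mem_normalizer_iff.1 (inv_mem ha) _).1 (inv_mem (ha' v hv))
        rw [show a⁻¹ * v * a⁻¹⁻¹ * v⁻¹ = a⁻¹ * (a * v * a⁻¹ * v⁻¹)⁻¹ * a⁻¹⁻¹ by group]
        exact h }
  have hAT : A ≤ T := fun a ha => ⟨hAW ha, fun v hv => by
    rw [← commutatorElement_def, ← commutatorElement_inv]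
    exact inv_mem (hW ▸ Subgroup.commutator_mem_commutator hv ha)⟩
  have hconj : ∀ r ∈ Q, ∀ t ∈ T, r * t * r⁻¹ ∈ T := by
    rintro r hr t ⟨ht, ht'⟩
    refine ⟨mul_mem (mul_mem (hQN hr) ht) (inv_mem (hQN hr)), fun v hv => ?_⟩
    have hu : r⁻¹ * v * r ∈ V := by simpa using hVn.conj_mem v hv r⁻¹
    rw [show r * t * r⁻¹ * v * (r * t * r⁻¹)⁻¹ * v⁻¹ =
      r * (t * (r⁻¹ * v * r) * t⁻¹ * (r⁻¹ * v * r)⁻¹) * r⁻¹ by group]
    exact (Subgroup.mem_normalizer_iff.1 (hQN hr) _).1 (ht' _ hu)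
  have hQT : Q ≤ T := by
    conv_lhs => rw [← hAQ]
    rw [Subgroup.commutator_le]
    intro a ha r hr
    rw [show ⁅a, r⁆ = a * (r * a⁻¹ * r⁻¹) by rw [commutatorElement_def]; group]
    exact mul_mem (hAT ha) (hconj r hr _ (inv_mem (hAT ha)))
  have hVQ : ⁅V, Q⁆ ≤ W := by
    rw [Subgroup.commutator_comm, Subgroup.commutator_le]
    intro q hq v hv
    rw [commutatorElement_def]
    exact (hQT hq).2 v hv
  have hco : (Nat.card Q).Coprime (Nat.card V) := by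
    obtain ⟨k, hk⟩ := IsPGroup.iff_card.1 hVp
    rw [hk]
    exact Nat.Coprime.pow_right k ((Nat.Prime.coprime_iff_not_dvd Fact.out).2 hQ).symm
  haveI := hVp.isNilpotent
  have h2 := Solv.commutator_commutator_eq (A := Q) (K := V) (hall Q) hco (Or.inr inferInstance)
  have h3 : ⁅V, Q⁆ = ⊥ := by
    rw [← h2]
    exact le_bot_iff.1 ((Subgroup.commutator_mono hVQ le_rfl).trans hbot.le)
  rw [Subgroup.commutator_comm, Subgroup.commutator_eq_bot_iff_le_centralizer] at h3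
  have hQV : Q ≤ V := h3.trans (hV ▸ Char.centralizer_pCore_le_of_pSolvable hS hred)
  exact hQ1 (by
    have := coprime_inf_pGroup (p := p) (H := Q) (Q := V) (((Nat.Prime.coprime_iff_not_dvd Fact.out).2 hQ).symm) hVp
    rwa [inf_eq_left.2 hQV] at this)

end Cfsg.Agent.S1892
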