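import Cfsg.Statements.S1893
import Cfsg.Agent.Lib.Fusion.SL2Sections
import Cfsg.Agent.Lib.Solv.Hall
import Cfsg.Agent.Lib.Solv.Cores
import Cfsg.Agent.Lib.Char.ItoConverse

set_option autoImplicit false
open Cfsg
open Cfsg.Agent.Fusion
open scoped commutatorElement

namespace Cfsg.Agent.S1893

/-- A `p`-element centralizing a self-centralizing normal subgroup of a nilpotent group that contains the
Fitting subgroup lies in it. -/
theorem core {S : Type*} [Group S] [Finite S] [Group.IsSolvable S] {F₀ A : Subgroup S}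
    (hF : Cfsg.fittingSubgroup S ≤ F₀) (hn : F₀ ≤ Subgroup.normalizer (A : Set S))
    (hc : F₀ ⊓ Subgroup.centralizer (A : Set S) ≤ A) {p : ℕ} [Fact p.Prime] (hp2 : p ≠ 2) (hp3 : p ≠ 3) {x : S}
    {k : ℕ} (hxk : x ^ p ^ k = 1) (hx : x ∈ Subgroup.centralizer (A : Set S)) : x ∈ A := by
  set F := Cfsg.fittingSubgroup S with hFdef
  haveI := Agent.Solv.fittingSubgroup_normal (G := S)
  haveI := Agent.Solv.pCore_normal (G := S) p
  haveI := Agent.Solv.pPrimeCore_normal (G := S) p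
  -- commutators with `x` fall into `A`
  have hcm : ∀ f ∈ F, ∀ m ∈ Subgroup.centralizer (A : Set S), ⁅f, m⁆ ∈ A := by
    intro f hf m hm
    refine hc (Subgroup.mem_inf.2 ⟨hF ?_, ?_⟩)
    · rw [commutatorElement_def, mul_assoc (f * m), mul_assoc f, ← mul_assoc m]
      exact mul_mem hf ((inferInstance : F.Normal).conj_mem _ (inv_mem hf) m)
    · have hfm : f * m * f⁻¹ ∈ Subgroup.centralizer (A : Set S) := Subgroup.mem_centralizer_iff.2 fun a ha => by
        have ha' : f⁻¹ * a * f ∈ A := by simpa using (Subgroup.mem_normalizer_iff.1 (hn (hF (inv_mem hf))) a).1 ha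
        calc a * (f * m * f⁻¹) = f * (f⁻¹ * a * f * m) * f⁻¹ := by group
          _ = f * (m * (f⁻¹ * a * f)) * f⁻¹ := by rw [Subgroup.mem_centralizer_iff.1 hm _ ha']
          _ = _ := by group
      exact mul_mem hfm (inv_mem hm)
  set W := Cfsg.pPrimeCore p S ⊓ F with hW
  set P := Cfsg.pCore p S with hP
  have hPF : P ≤ F := Agent.Solv.pCore_le_fitting p
  have hWco : (Nat.card W).Coprime p :=
    (Agent.Solv.pPrimeCore_coprime (G := S) p).coprime_dvd_left (Subgroup.card_dvd_of_le inf_le_left)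
  have hsplit : F ≤ P ⊔ W := by
    rw [hFdef, Agent.Solv.fitting_eq_iSup_pCore]
    refine iSup_le fun q => ?_
    haveI := Fact.mk q.2
    haveI := Agent.Solv.pCore_normal (G := S) (q : ℕ)
    by_cases hq : (q : ℕ) = p
    · rw [hq]; exact le_sup_left
    · refine le_sup_of_le_right (le_inf (Agent.Solv.normal_le_pPrimeCore ?_) ?_)
      · obtain ⟨n, hn⟩ := IsPGroup.iff_card.1 (Agent.Solv.pCore_isPGroup (G := S) (q : ℕ))
        rw [hn]
        exact Nat.Coprime.pow_left _ ((Nat.coprime_primes q.2 (Fact.out : p.Prime)).2 hq)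
      · exact Agent.Solv.pCore_le_fitting _
  have hxW : x ∈ Subgroup.centralizer (W : Set S) := Subgroup.mem_centralizer_iff.2 fun f hf => by
    refine commutatorElement_eq_one_iff_mul_comm.1 ?_
    obtain ⟨c, hcdef⟩ : ∃ c, c = ⁅f, x⁆ := ⟨_, rfl⟩
    have hcW : c ∈ W := by
      rw [hcdef, commutatorElement_def, mul_assoc (f * x), mul_assoc f, ← mul_assoc x]
      exact mul_mem hf ((inferInstance : W.Normal).conj_mem _ (inv_mem hf) x)
    have hcx : x * c⁻¹ * x⁻¹ = c⁻¹ := by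
      rw [← Subgroup.mem_centralizer_iff.1 hx _ (hcdef ▸ inv_mem (hcm f (Subgroup.mem_inf.1 hf).2 x hx)),
        mul_inv_cancel_right]
    have hxf : x * f * x⁻¹ = c⁻¹ * f := by rw [hcdef]; simp [commutatorElement_def, mul_assoc]
    have hn : ∀ n : ℕ, x ^ n * f * (x ^ n)⁻¹ = c⁻¹ ^ n * f := by
      intro n
      induction n with
      | zero => simp
      | succ n ih =>
        calc x ^ (n + 1) * f * (x ^ (n + 1))⁻¹ = x * (x ^ n * f * (x ^ n)⁻¹) * x⁻¹ := by rw [pow_succ']; group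
          _ = (x * c⁻¹ * x⁻¹) ^ n * (x * f * x⁻¹) := by rw [ih, conj_pow]; group
          _ = _ := by rw [hcx, hxf, pow_succ]; group
    have h1 : c⁻¹ ^ p ^ k = 1 := by
      have := hn (p ^ k)
      rw [hxk, one_mul, inv_one, mul_one, eq_comm, mul_eq_right] at this
      exact this
    rw [← hcdef, ← inv_eq_one, ← orderOf_eq_one_iff]
    exact Nat.eq_one_of_dvd_coprimes (Nat.Coprime.pow_right k hWco)
      (Subgroup.orderOf_dvd_natCard _ (inv_mem hcW)) (orderOf_dvd_of_pow_eq_one h1)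
  have hni : ¬ Cfsg.Involves (Matrix.SpecialLinearGroup (Fin 2) (ZMod p)) S := fun h =>
    hp3 (eq_three_of_psolvable_involves hp2
      (Agent.Char.isPSolvable_of_isSolvable (Fact.out : p.Prime) _ rfl inferInstance) h)
  have hq : ⁅⁅P, Subgroup.zpowers x⁆, Subgroup.zpowers x⁆ = ⊥ := by
    rw [Subgroup.commutator_eq_bot_iff_le_centralizer, Subgroup.commutator_le]
    intro f hf m hm
    refine Subgroup.mem_centralizer_iff.2 fun n hn => ?_
    have hxc : Subgroup.zpowers x ≤ Subgroup.centralizer (A : Set S) := Subgroup.zpowers_le.2 hx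
    exact (Subgroup.mem_centralizer_iff.1 (hxc hn) _ (hcm f (hPF hf) m (hxc hm))).symm
  have hxD := mk_mem_pCore_of_not_involves hp2 hni (P := P) (Agent.Solv.pCore_isPGroup p) x hq
  haveI := Agent.Solv.pCore_normal (G := S ⧸ Subgroup.centralizer (P : Set S)) p
  set L := (Cfsg.pCore p (S ⧸ Subgroup.centralizer (P : Set S))).comap
    (QuotientGroup.mk' (Subgroup.centralizer (P : Set S))) ⊓ Subgroup.centralizer (W : Set S) with hL
  have hxL : x ∈ L := Subgroup.mem_inf.2 ⟨hxD, hxW⟩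
  have hcent : ∀ y : ↥L, (orderOf y).Coprime p → y ∈ Subgroup.center ↥L := by
    intro y hy
    obtain ⟨hy1, hy2⟩ := Subgroup.mem_inf.1 y.2
    have hy' : (orderOf (y : S)).Coprime p := by rwa [Subgroup.orderOf_coe]
    have hyP : (y : S) ∈ Subgroup.centralizer (P : Set S) := by
      rw [← QuotientGroup.eq_one_iff, ← orderOf_eq_one_iff]
      obtain ⟨j, hj⟩ := Agent.Solv.pCore_isPGroup p ⟨_, Subgroup.mem_comap.1 hy1⟩
      exact Nat.eq_one_of_dvd_coprimes (Nat.Coprime.pow_right j hy')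
        (orderOf_map_dvd (QuotientGroup.mk' _) (y : S)) (orderOf_dvd_of_pow_eq_one (congrArg Subtype.val hj))
    have hyF : (y : S) ∈ F := Agent.Solv.centralizer_fitting_le inferInstance (by
      have h1 : P ⊔ W ≤ Subgroup.centralizer ({(y : S)} : Set S) :=
        sup_le (fun z hz => Subgroup.mem_centralizer_singleton_iff.2 (Subgroup.mem_centralizer_iff.1 hyP z hz))
          fun z hz => Subgroup.mem_centralizer_singleton_iff.2 (Subgroup.mem_centralizer_iff.1 hy2 z hz)
      exact Subgroup.mem_centralizer_iff.2 fun z hz => Subgroup.mem_centralizer_singleton_iff.1 (h1 (hsplit hz)))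
    obtain ⟨a, ha, b, hb, hab⟩ : ∃ a ∈ P, ∃ b ∈ W, a * b = (y : S) := by
      have := hsplit hyF
      rw [← SetLike.mem_coe, Subgroup.normal_mul] at this
      exact Set.mem_mul.1 this
    have hcom : Commute a b := Commute.symm (by
      have h1 := Subgroup.mem_centralizer_iff.1 hy2 b hb
      rw [← hab, ← mul_assoc] at h1
      exact mul_right_cancel h1)
    have ha1 : a = 1 := by
      rw [← orderOf_eq_one_iff]
      obtain ⟨j, hj⟩ := Agent.Solv.pCore_isPGroup p ⟨a, ha⟩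
      have hj' : a ^ p ^ j = 1 := congrArg Subtype.val hj
      refine Nat.eq_one_of_dvd_coprimes (Nat.Coprime.pow_left j (Nat.Coprime.mul_left hy' hWco).symm)
        (orderOf_dvd_of_pow_eq_one hj') (orderOf_dvd_of_pow_eq_one ?_)
      have h1 : (y : S) ^ (orderOf (y : S) * Nat.card W) = 1 := by rw [pow_mul, pow_orderOf_eq_one, one_pow]
      have h2 : b ^ (orderOf (y : S) * Nat.card W) = 1 :=
        orderOf_dvd_iff_pow_eq_one.1 ((Subgroup.orderOf_dvd_natCard _ hb).trans (Dvd.intro_left _ rfl))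
      calc _ = a ^ (orderOf (y : S) * Nat.card W) * b ^ (orderOf (y : S) * Nat.card W) := by rw [h2, mul_one]
        _ = (a * b) ^ (orderOf (y : S) * Nat.card W) := (hcom.mul_pow _).symm
        _ = 1 := by rw [hab, h1]
    rw [ha1, one_mul] at hab
    rw [Subgroup.mem_center_iff]
    intro g
    refine Subtype.ext ?_
    show (g : S) * y = y * g
    exact (Subgroup.mem_centralizer_iff.1 (Subgroup.mem_inf.1 g.2).2 _ (hab ▸ hb)).symm
  have hnil : Group.IsNilpotent ↥L := by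
    refine Group.of_quotient_center_nilpotent ((IsPGroup.isNilpotent (p := p) ?_))
    intro g
    obtain ⟨l, rfl⟩ := QuotientGroup.mk'_surjective _ g
    refine ⟨(orderOf l).factorization p, ?_⟩
    rw [← map_pow, QuotientGroup.mk'_apply, QuotientGroup.eq_one_iff]
    refine hcent _ ?_
    rw [orderOf_pow_of_dvd (pow_ne_zero _ (Fact.out : p.Prime).ne_zero) (Nat.ordProj_dvd _ _)]
    exact (Nat.coprime_ordCompl (Fact.out : p.Prime) (orderOf_pos l).ne').symm
  exact hc (Subgroup.mem_inf.2 ⟨hF (Agent.Solv.normal_le_fitting hnil hxL), hx⟩)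


/-- Let S be a finite solvable group, π a set of primes containing neither 2 nor 3, H a Hall π-subgroup of S, and A a self-centralizing normal subgroup of the Fitting subgroup F(H). Then C_S(A) = A × D for a normal subgroup D of C_S(A) whose order has no prime divisor in π. -/
theorem result {S : Type*} [Group S] [Finite S] [Group.IsSolvable S]
    (π : Set ℕ) (h2 : 2 ∉ π) (h3 : 3 ∉ π) (H : Subgroup S) (hH : Cfsg.IsPiHall π H)
    (A : Subgroup S) (hA : Cfsg.IsSCN ((Cfsg.fittingSubgroup H).map H.subtype) A) :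
    ∃ D : Subgroup S, D ≤ Subgroup.centralizer (A : Set S) ∧
      (∀ c ∈ Subgroup.centralizer (A : Set S), ∀ d ∈ D, c * d * c⁻¹ ∈ D) ∧
      A ⊓ D = ⊥ ∧ A ⊔ D = Subgroup.centralizer (A : Set S) ∧
      ∀ q : ℕ, q.Prime → q ∣ Nat.card D → q ∉ π := by
  obtain ⟨hAF, hAn, hAc⟩ := hA
  -- the largest normal `π'`-subgroup
  obtain ⟨N, -, hNmax⟩ := Finite.exists_le_maximal
    (p := fun N : Subgroup S => N.Normal ∧ ∀ q : ℕ, q.Prime → q ∣ Nat.card N → q ∉ π) (a := ⊥)
    ⟨inferInstance, fun q hq h => absurd (Nat.dvd_one.1 (Subgroup.card_bot (G := S) ▸ h)) hq.ne_one⟩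
  obtain ⟨hNn, hNπ⟩ := hNmax.1
  have hHπ := hH.1
  have hFH : (Cfsg.fittingSubgroup H).map H.subtype ≤ H := Subgroup.map_subtype_le _
  set f := QuotientGroup.mk' N with hf
  have hHN : H ⊓ N = ⊥ := Agent.Solv.coprime_inf (Agent.Solv.coprime_of_pi hHπ hNπ)
  have hinj : ∀ a ∈ H, ∀ b ∈ H, f a = f b → a = b := by
    intro a ha b hb h
    have h1 : a⁻¹ * b ∈ H ⊓ N := Subgroup.mem_inf.2 ⟨mul_mem (inv_mem ha) hb, QuotientGroup.eq.1 h⟩
    rw [hHN, Subgroup.mem_bot] at h1
    exact inv_mul_eq_one.1 h1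
  -- the Fitting subgroup of the quotient lies in the image of `F(H)`
  have hFbar : Cfsg.fittingSubgroup (S ⧸ N) ≤ ((Cfsg.fittingSubgroup H).map H.subtype).map f := by
    have hle : Cfsg.fittingSubgroup (S ⧸ N) ≤ H.map f := by
      rw [Agent.Solv.fitting_eq_iSup_pCore]
      refine iSup_le fun q => ?_
      haveI := Fact.mk q.2
      haveI := Agent.Solv.pCore_normal (G := S ⧸ N) (q : ℕ)
      obtain ⟨j, hj⟩ := IsPGroup.iff_card.1 (Agent.Solv.pCore_isPGroup (G := S ⧸ N) (q : ℕ))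
      by_cases hqπ : (q : ℕ) ∈ π
      · refine Agent.Solv.normal_le_of_coprime_index _ _ ?_
        rw [hj]
        refine Nat.Coprime.pow_left _ ((Nat.Prime.coprime_iff_not_dvd q.2).2 fun h => ?_)
        exact hH.2 q q.2 hqπ (h.trans (Subgroup.index_map_dvd H (QuotientGroup.mk'_surjective N)))
      · have h1 : (Cfsg.pCore (q : ℕ) (S ⧸ N)).comap f ≤ N := by
          refine hNmax.2 ⟨inferInstance, fun r hr h => ?_⟩ (fun z hz => ?_)
          · rw [hf, Agent.Solv.card_comap_mk', hj] at h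
            rcases hr.dvd_mul.1 h with h | h
            · first | exact hNπ r hr h | (rw [(Nat.prime_dvd_prime_iff_eq hr q.2).1 (hr.dvd_of_dvd_pow h)]; exact hqπ)
            · first | exact hNπ r hr h | (rw [(Nat.prime_dvd_prime_iff_eq hr q.2).1 (hr.dvd_of_dvd_pow h)]; exact hqπ)
          · rw [Subgroup.mem_comap, hf, QuotientGroup.mk'_apply, (QuotientGroup.eq_one_iff z).2 hz]
            exact one_mem _
        intro z hz
        obtain ⟨z, rfl⟩ := QuotientGroup.mk'_surjective N z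
        rw [QuotientGroup.mk'_apply, (QuotientGroup.eq_one_iff z).2 (h1 hz)]
        exact one_mem _
    haveI := Agent.Solv.fittingSubgroup_normal (G := S ⧸ N)
    have hinj' : Function.Injective (f.comp H.subtype) := fun a b h => Subtype.ext (hinj a a.2 b b.2 h)
    haveI hn : ((Cfsg.fittingSubgroup (S ⧸ N)).comap (f.comp H.subtype)).Normal := inferInstance
    have hnil : Group.IsNilpotent ↥((Cfsg.fittingSubgroup (S ⧸ N)).comap (f.comp H.subtype)) := by
      haveI := Agent.Solv.fittingSubgroup_nilpotent (G := S ⧸ N)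
      refine Subgroup.isNilpotent_of_ker_le_center ((f.comp H.subtype).subgroupComap (Cfsg.fittingSubgroup (S ⧸ N))) ?_
      rw [(MonoidHom.ker_eq_bot_iff _).2 fun a b h => Subtype.ext (hinj' (congrArg Subtype.val h))]
      exact bot_le
    intro z hz
    obtain ⟨h, hh, rfl⟩ := hle hz
    exact ⟨h, ⟨⟨h, hh⟩, Agent.Solv.normal_le_fitting hnil (by simpa using hz), rfl⟩, rfl⟩
  have hcbar : ((Cfsg.fittingSubgroup H).map H.subtype).map f ⊓
      Subgroup.centralizer ((A.map f : Subgroup (S ⧸ N)) : Set (S ⧸ N)) ≤ A.map f := by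
    intro z hz
    obtain ⟨⟨u, hu, rfl⟩, hzc⟩ := Subgroup.mem_inf.1 hz
    refine ⟨u, ?_, rfl⟩
    rw [← hAc]
    refine Subgroup.mem_inf.2 ⟨hu, Subgroup.mem_centralizer_iff.2 fun a ha => ?_⟩
    refine hinj _ (mul_mem (hFH (hAF ha)) (hFH hu)) _ (mul_mem (hFH hu) (hFH (hAF ha))) ?_
    rw [map_mul, map_mul]
    exact Subgroup.mem_centralizer_iff.1 hzc _ ⟨a, ha, rfl⟩
  have hnbar : ((Cfsg.fittingSubgroup H).map H.subtype).map f ≤
      Subgroup.normalizer ((A.map f : Subgroup (S ⧸ N)) : Set (S ⧸ N)) := by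
    rintro _ ⟨u, hu, rfl⟩
    exact Subgroup.le_normalizer_map f ⟨u, hAn hu, rfl⟩
  haveI : Group.IsSolvable (S ⧸ N) := Group.isSolvable_of_surjective (QuotientGroup.mk'_surjective N)
  -- `p`-elements of the centralizer lie in `A`
  have key : ∀ p : ℕ, p.Prime → p ∈ π → ∀ x ∈ Subgroup.centralizer (A : Set S), ∀ k, x ^ p ^ k = 1 → x ∈ A := by
    intro p hp hpπ x hx k hk
    haveI := Fact.mk hp
    obtain ⟨a, ha, hax⟩ := core (F₀ := ((Cfsg.fittingSubgroup H).map H.subtype).map f) (A := A.map f) hFbar hnbar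
      hcbar (fun h => h2 (h ▸ hpπ)) (fun h => h3 (h ▸ hpπ)) (x := f x) (k := k) (by rw [← map_pow, hk, map_one])
      (Subgroup.mem_centralizer_iff.2 (by
        rintro _ ⟨a, ha, rfl⟩
        rw [← map_mul, ← map_mul, Subgroup.mem_centralizer_iff.1 hx a ha]))
    have hn : a⁻¹ * x ∈ N := QuotientGroup.eq.1 hax
    have hcom : Commute a⁻¹ x := Commute.inv_left (Subgroup.mem_centralizer_iff.1 hx a ha)
    have h1 : a⁻¹ * x = 1 := by
      rw [← orderOf_eq_one_iff]
      refine Nat.eq_one_of_dvd_coprimes (Agent.Solv.coprime_of_pi (π := π) (a := orderOf a⁻¹ * p ^ k) ?_ hNπ)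
        (hcom.orderOf_mul_dvd_mul_orderOf.trans (mul_dvd_mul_left _ (orderOf_dvd_of_pow_eq_one hk)))
        (Subgroup.orderOf_dvd_natCard _ hn)
      intro r hr h
      rcases hr.dvd_mul.1 h with h | h
      · exact hHπ r hr (h.trans (Subgroup.orderOf_dvd_natCard _ (inv_mem (hFH (hAF ha)))))
      · rw [(Nat.prime_dvd_prime_iff_eq hr hp).1 (hr.dvd_of_dvd_pow h)]; exact hpπ
    rwa [← inv_mul_eq_one.1 h1]
  have hAC : A ≤ Subgroup.centralizer (A : Set S) := by
    exact fun z hz => (Subgroup.mem_inf.1 (hAc.ge hz)).2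
  set C := Subgroup.centralizer (A : Set S) with hC
  have hAz : ∀ a ∈ A, ∀ c ∈ C, a * c = c * a := fun a ha c hc => Subgroup.mem_centralizer_iff.1 hc a ha
  haveI hA'n : (A.subgroupOf C).Normal := ⟨fun a ha c => by
    rw [Subgroup.mem_subgroupOf] at ha ⊢
    show (c : S) * a * (c : S)⁻¹ ∈ A
    rw [← hAz _ ha c c.2, mul_inv_cancel_right]; exact ha⟩
  -- the index is prime to `π`
  have hidx : ∀ p : ℕ, p.Prime → p ∈ π → ¬ p ∣ (A.subgroupOf C).index := by
    intro p hp hpπ hd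
    haveI := Fact.mk hp
    obtain ⟨P⟩ : Nonempty (Sylow p ↥C) := inferInstance
    have hP : (P : Subgroup ↥C) ≤ A.subgroupOf C := by
      intro y hy
      obtain ⟨k, hk⟩ := P.2 ⟨y, hy⟩
      exact Subgroup.mem_subgroupOf.2 (key p hp hpπ y y.2 k (by simpa using congrArg (fun z : ↥(P : Subgroup ↥C) => ((z : ↥C) : S)) hk))
    exact P.not_dvd_index (hd.trans (Subgroup.index_dvd_of_le hP))
  have hAπ : ∀ p : ℕ, p.Prime → p ∣ Nat.card (A.subgroupOf C) → p ∈ π := fun p hp h =>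
    hHπ p hp (h.trans (Agent.Solv.card_subgroupOf hAC ▸ Subgroup.card_dvd_of_le (hAF.trans hFH)))
  obtain ⟨D', hD'⟩ := Subgroup.exists_right_complement'_of_coprime (N := A.subgroupOf C)
    (Agent.Solv.coprime_of_pi (π := π) hAπ fun p hp hd hpπ => hidx p hp hpπ hd)
  refine ⟨D'.map C.subtype, Subgroup.map_subtype_le _, ?_, ?_, ?_, ?_⟩
  · rintro c hc _ ⟨d, hd, rfl⟩
    obtain ⟨⟨a, d'⟩, had, -⟩ := hD'.existsUnique (⟨c, hc⟩ : ↥C)
    have e : c = ((a : ↥C) : S) * ((d' : ↥C) : S) := (congrArg Subtype.val had).symm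
    refine ⟨(d' : ↥C) * d * (d' : ↥C)⁻¹, mul_mem (mul_mem d'.2 hd) (inv_mem d'.2), ?_⟩
    have h1 : ((a : ↥C) : S) * (((d' : ↥C) : S) * d * ((d' : ↥C) : S)⁻¹) =
        ((d' : ↥C) : S) * d * ((d' : ↥C) : S)⁻¹ * ((a : ↥C) : S) := hAz _ a.2 _ ((d' : ↥C) * d * (d' : ↥C)⁻¹).2
    show ((d' : ↥C) : S) * d * ((d' : ↥C) : S)⁻¹ = c * d * c⁻¹
    rw [e, show ((a : ↥C) : S) * ((d' : ↥C) : S) * d * (((a : ↥C) : S) * ((d' : ↥C) : S))⁻¹
      = ((a : ↥C) : S) * (((d' : ↥C) : S) * d * ((d' : ↥C) : S)⁻¹) * ((a : ↥C) : S)⁻¹ by group, h1, mul_inv_cancel_right]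
  · rw [Subgroup.eq_bot_iff_forall]
    rintro z hz
    obtain ⟨hzA, d, hd, rfl⟩ := Subgroup.mem_inf.1 hz
    have := Subgroup.disjoint_def.1 hD'.disjoint (show d ∈ A.subgroupOf C from Subgroup.mem_subgroupOf.2 hzA) hd
    rw [this]; rfl
  · refine le_antisymm (sup_le hAC (Subgroup.map_subtype_le _)) fun c hc => ?_
    obtain ⟨⟨a, d'⟩, had, -⟩ := hD'.existsUnique (⟨c, hc⟩ : ↥C)
    have e : c = ((a : ↥C) : S) * ((d' : ↥C) : S) := (congrArg Subtype.val had).symm
    rw [e]
    exact mul_mem (Subgroup.mem_sup_left a.2) (Subgroup.mem_sup_right ⟨_, d'.2, rfl⟩)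
  · intro q hq hd hqπ
    rw [Subgroup.card_map_of_injective C.subtype_injective, ← hD'.symm.index_eq_card] at hd
    exact hidx q hq hqπ hd

end Cfsg.Agent.S1893
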