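import Cfsg.Statements.S1895
import Cfsg.Agent.Lib.Fusion.RankTwoAut
import Cfsg.Agent.Lib.Fusion.Critical
import Cfsg.Agent.Lib.Fusion.OmegaSeries
import Cfsg.Agent.Lib.Solv.PGroupPhi
import Cfsg.Agent.Lib.Solv.UniqueSub
import Cfsg.Agent.Lib.Solv.PSolvHall
import Cfsg.Agent.Lib.Char.OneBlock

set_option autoImplicit false
open Cfsg
open Cfsg.Agent.Fusion
open scoped commutatorElement

namespace Cfsg.Agent.S1895

section
variable {G : Type*} [Group G] [Finite G] {p : ℕ} [hp : Fact p.Prime]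

/-- A chief factor. -/
def Chief {G : Type*} [Group G] (A B : Subgroup G) : Prop :=
  A < B ∧ ∀ L : Subgroup G, L.Normal → A ≤ L → L ≤ B → L = A ∨ L = B

/-- All `p`-chief factors inside `L` have order at most `p²`. -/
def BddTo (p : ℕ) {G : Type*} [Group G] (L : Subgroup G) : Prop :=
  ∀ A B : Subgroup G, A.Normal → B.Normal → B ≤ L → Chief A B → (∃ n, A.relIndex B = p ^ n) →
    A.relIndex B ∣ p ^ 2

omit [Finite G] in
theorem card_mul_relIndex {A B : Subgroup G} (h : A ≤ B) : Nat.card A * A.relIndex B = Nat.card B := by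
  have := Subgroup.relIndex_mul_relIndex ⊥ A B bot_le h
  rwa [Subgroup.relIndex_bot_left, Subgroup.relIndex_bot_left] at this

/-- Glue the factors below and above a normal subgroup. -/
theorem glue {K L : Subgroup G} [hKn : K.Normal] (hKL : K ≤ L) (h1 : BddTo p K)
    (h2 : ∀ A B : Subgroup G, A.Normal → B.Normal → K ≤ A → B ≤ L → Chief A B → (∃ n, A.relIndex B = p ^ n) →
      A.relIndex B ∣ p ^ 2) : BddTo p L := by
  intro A B hA hB hBL hc hpow
  obtain ⟨hlt, hmin⟩ := hc
  haveI := hA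
  haveI := hB
  have eA := Agent.Solv.card_sup_mul_card_inf K A
  have eB := Agent.Solv.card_sup_mul_card_inf K B
  have hAB := card_mul_relIndex hlt.le
  by_cases hle : K ⊓ B ≤ A
  · have e : K ⊓ B = K ⊓ A := le_antisymm (le_inf inf_le_left hle) (inf_le_inf_left _ hlt.le)
    rw [e] at eB
    have hle' : K ⊔ A ≤ K ⊔ B := sup_le_sup_left hlt.le _
    have hrel : (K ⊔ A).relIndex (K ⊔ B) = A.relIndex B := by
      have hpos : 0 < Nat.card (K ⊔ A : Subgroup G) * Nat.card (K ⊓ A : Subgroup G) :=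
        Nat.mul_pos Nat.card_pos Nat.card_pos
      refine Nat.eq_of_mul_eq_mul_left hpos ?_
      calc _ = Nat.card (K ⊔ A : Subgroup G) * (K ⊔ A).relIndex (K ⊔ B) * Nat.card (K ⊓ A : Subgroup G) := by ring
        _ = Nat.card K * Nat.card B := by rw [card_mul_relIndex hle', eB]
        _ = Nat.card K * (Nat.card A * A.relIndex B) := by rw [hAB]
        _ = _ := by rw [eA, mul_assoc]
    rw [← hrel]
    refine h2 _ _ inferInstance inferInstance le_sup_left (sup_le hKL hBL) ⟨lt_of_le_of_ne hle' fun h => ?_, ?_⟩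
      (hrel ▸ hpow)
    · rw [h, Subgroup.relIndex_self] at hrel
      exact hlt.not_ge (Subgroup.relIndex_eq_one.1 hrel.symm)
    intro X hX hAX hXB
    haveI := hX
    have hX' : X = K ⊔ (X ⊓ B) := by
      refine le_antisymm (fun x hx => ?_) (sup_le (le_sup_left.trans hAX) inf_le_left)
      obtain ⟨k, hk, b, hb, rfl⟩ := Subgroup.mem_sup_of_normal_left.1 (hXB hx)
      exact mul_mem (Subgroup.mem_sup_left hk) (Subgroup.mem_sup_right
        ⟨(mul_mem_cancel_left (hAX (Subgroup.mem_sup_left hk))).1 hx, hb⟩)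
    rcases hmin (X ⊓ B) inferInstance (le_inf (le_sup_right.trans hAX) hlt.le) inf_le_right with h | h
    · left; rw [hX', h]
    · right; rw [hX', h]
  · have hsup : A ⊔ (K ⊓ B) = B := by
      rcases hmin (A ⊔ (K ⊓ B)) inferInstance le_sup_left (sup_le hlt.le inf_le_right) with h | h
      · exact absurd (le_sup_right.trans h.le) hle
      · exact h
    have e1 := Agent.Solv.card_sup_mul_card_inf A (K ⊓ B)
    rw [hsup] at e1
    have hAKB : A ⊓ (K ⊓ B) ≤ K ⊓ B := inf_le_right
    have hrel : (A ⊓ (K ⊓ B)).relIndex (K ⊓ B) = A.relIndex B := by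
      refine Nat.eq_of_mul_eq_mul_left (Nat.mul_pos (Nat.card_pos (α := A)) (Nat.card_pos (α := ↥(A ⊓ (K ⊓ B))))) ?_
      calc _ = Nat.card A * (Nat.card (A ⊓ (K ⊓ B) : Subgroup G) * (A ⊓ (K ⊓ B)).relIndex (K ⊓ B)) := by ring
        _ = Nat.card A * Nat.card (K ⊓ B : Subgroup G) := by rw [card_mul_relIndex hAKB]
        _ = _ := by rw [← e1, ← hAB]; ring
    rw [← hrel]
    refine h1 _ _ inferInstance inferInstance inf_le_left ⟨lt_of_le_of_ne hAKB fun h => hle (h ▸ inf_le_left), ?_⟩
      (hrel ▸ hpow)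
    intro X hX hAX hXB
    haveI := hX
    have e2 := Agent.Solv.card_sup_mul_card_inf A X
    have hinf : A ⊓ X = A ⊓ (K ⊓ B) := le_antisymm (inf_le_inf_left _ hXB) (le_inf inf_le_left hAX)
    rw [hinf] at e2
    rcases hmin (A ⊔ X) inferInstance le_sup_left (sup_le hlt.le (hXB.trans inf_le_right)) with h | h
    · left
      have : X ≤ A := le_sup_right.trans h.le
      exact le_antisymm (le_inf this hXB) hAX
    · right
      rw [h, e1] at e2
      exact Subgroup.eq_of_le_of_card_ge hXB (Nat.eq_of_mul_eq_mul_left Nat.card_pos e2).le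

omit [Finite G] in
theorem bdd_bot : BddTo p (⊥ : Subgroup G) := fun A B _ _ hB hc _ =>
  absurd (le_bot_iff.1 hB ▸ hc.1) not_lt_bot

/-- A step whose index has small `p`-part. -/
theorem step {K L : Subgroup G} [K.Normal] (hKL : K ≤ L) (h1 : BddTo p K) (h : ¬ p ^ 3 ∣ K.relIndex L) :
    BddTo p L := by
  refine glue hKL h1 fun A B hA hB hKA hBL hc ⟨n, hn⟩ => ?_
  have hd : A.relIndex B ∣ K.relIndex L := by
    rw [← Subgroup.relIndex_mul_relIndex K A L hKA (hc.1.le.trans hBL),
      ← Subgroup.relIndex_mul_relIndex A B L hc.1.le hBL]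
    exact Dvd.dvd.mul_left (Dvd.intro _ rfl) _
  rw [hn] at hd ⊢
  refine pow_dvd_pow p ?_
  by_contra hn3
  exact h ((pow_dvd_pow p (show 3 ≤ n by omega)).trans hd)

omit hp in
/-- Chief factors above a normal subgroup are chief factors of the quotient. -/
theorem chief_map {W : Subgroup G} [W.Normal] {A B : Subgroup G} (hWA : W ≤ A) (hc : Chief A B) :
    Chief (A.map (QuotientGroup.mk' W)) (B.map (QuotientGroup.mk' W)) ∧
      (A.map (QuotientGroup.mk' W)).relIndex (B.map (QuotientGroup.mk' W)) = A.relIndex B := by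
  have hA : (A.map (QuotientGroup.mk' W)).comap (QuotientGroup.mk' W) = A := by
    rw [Subgroup.comap_map_eq, QuotientGroup.ker_mk', sup_eq_left.2 hWA]
  have hB : (B.map (QuotientGroup.mk' W)).comap (QuotientGroup.mk' W) = B := by
    rw [Subgroup.comap_map_eq, QuotientGroup.ker_mk', sup_eq_left.2 (hWA.trans hc.1.le)]
  have hs := QuotientGroup.mk'_surjective W
  have hrel : (A.map (QuotientGroup.mk' W)).relIndex (B.map (QuotientGroup.mk' W)) = A.relIndex B := by
    conv_rhs => rw [← hA]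
    rw [Subgroup.relIndex_comap]
  refine ⟨⟨lt_of_le_of_ne (Subgroup.map_mono hc.1.le) fun h => hc.1.ne ?_, fun X hX h1 h2 => ?_⟩, hrel⟩
  · rw [← hA, ← hB, h]
  · rcases hc.2 (X.comap (QuotientGroup.mk' W)) inferInstance (hA.ge.trans (Subgroup.comap_mono h1))
      ((Subgroup.comap_mono h2).trans hB.le) with h | h
    · left; rw [← Subgroup.map_comap_eq_self_of_surjective hs X, h]
    · right; rw [← Subgroup.map_comap_eq_self_of_surjective hs X, h]

omit [Finite G] in
theorem mul_pow_p (hp2 : p ≠ 2) {a b : G} (ha : Commute ⁅b, a⁆ a) (hb : Commute ⁅b, a⁆ b)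
    (hc : ⁅b, a⁆ ^ p = 1) : (a * b) ^ p = a ^ p * b ^ p := by
  obtain ⟨c, hc'⟩ : p ∣ p.choose 2 := hp.out.dvd_choose_self two_ne_zero (by
    have := hp.out.two_le; omega)
  rw [mul_pow_of_central ha hb, hc', pow_mul, hc, one_pow, mul_one]

omit [Finite G] hp in
theorem comm_pow (a b : G) (ha : Commute ⁅b, a⁆ a) : ⁅b, a⁆ ^ p * a ^ p = b * a ^ p * b⁻¹ := by
  rw [← ha.mul_pow, ← conj_pow]
  congr 1
  simp [commutatorElement_def, mul_assoc]

/-- In a `p`-group with central elements of order `p`, elements of order dividing `p²` are central modulo them. -/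
theorem comm_pow_one (hp2 : p ≠ 2) : ∀ n : ℕ, ∀ R : Subgroup G, Nat.card R ≤ n → IsPGroup p R →
    (∀ z ∈ R, z ^ p = 1 → ∀ r ∈ R, z * r = r * z) → ∀ x ∈ R, x ^ p ^ 2 = 1 → ∀ y ∈ R, ⁅y, x⁆ ^ p = 1 := by
  intro n
  induction n using Nat.strong_induction_on with
  | _ n ih =>
    intro R hn hR hcen x hx hx2 y hy
    by_cases hgen : Subgroup.zpowers x = R
    · rw [← hgen] at hy
      obtain ⟨i, rfl⟩ := hy
      rw [commutatorElement_eq_one_iff_commute.2 ((Commute.refl x).zpow_left i), one_pow]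
    haveI : Group.IsNilpotent ↥R := hR.isNilpotent
    have hne : Subgroup.zpowers (⟨x, hx⟩ : ↥R) ≠ ⊤ := fun h => hgen (by
      have := congrArg (Subgroup.map R.subtype) h
      rwa [MonoidHom.map_zpowers, ← MonoidHom.range_eq_map, Subgroup.range_subtype] at this)
    obtain ⟨M, hM, hxM⟩ := (eq_top_or_exists_le_coatom (Subgroup.zpowers (⟨x, hx⟩ : ↥R))).resolve_left hne
    haveI := Agent.Solv.coatom_normal hR hM
    have hlt : Nat.card (M.map R.subtype) < Nat.card R := by
      rw [Subgroup.card_map_of_injective R.subtype_injective]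
      exact Agent.Solv.card_lt_of_ne_top hM.1
    have hxy : y * x * y⁻¹ ∈ M.map R.subtype :=
      ⟨⟨y, hy⟩ * ⟨x, hx⟩ * ⟨y, hy⟩⁻¹, (inferInstance : M.Normal).conj_mem _ (hxM (Subgroup.mem_zpowers _)) _, rfl⟩
    have hxm : x ∈ M.map R.subtype := ⟨_, hxM (Subgroup.mem_zpowers _), rfl⟩
    have hle : M.map R.subtype ≤ R := Subgroup.map_subtype_le M
    obtain ⟨x', hx'⟩ : ∃ x', x' = y * x * y⁻¹ := ⟨_, rfl⟩
    rw [← hx'] at hxy
    have hc : ⁅x', x⁻¹⁆ ^ p = 1 := ih _ (lt_of_lt_of_le hlt hn) _ le_rfl (hR.to_le hle)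
      (fun z hz h r hr => hcen z (hle hz) h r (hle hr)) x⁻¹ (inv_mem hxm) (by rw [inv_pow, hx2, inv_one]) x' hxy
    have hcR : ⁅x', x⁻¹⁆ ∈ R :=
      mul_mem (mul_mem (mul_mem (hle hxy) (hle (inv_mem hxm))) (inv_mem (hle hxy))) (inv_mem (hle (inv_mem hxm)))
    have hcom : ∀ r ∈ R, Commute ⁅x', x⁻¹⁆ r := fun r hr => hcen _ hcR hc r hr
    have e : ⁅y, x⁆ ^ p = (x' * x⁻¹) ^ p := by rw [hx']; simp [commutatorElement_def]
    have e2 : (x' * x⁻¹) ^ p = (x⁻¹ * x') ^ p := by
      have h1 : (x⁻¹ * x') ^ p = x⁻¹ * (x' * x⁻¹) ^ p * (x⁻¹)⁻¹ := by rw [← conj_pow]; group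
      have hxp : (x' * x⁻¹) ^ p ∈ R := pow_mem (mul_mem (hle hxy) (inv_mem hx)) p
      rw [mul_pow_p hp2 (hcom x⁻¹ (inv_mem hx)) (hcom x' (hle hxy)) hc] at h1
      rw [mul_pow_p hp2 (hcom x⁻¹ (inv_mem hx)) (hcom x' (hle hxy)) hc]
      have hz : (x⁻¹) ^ p * x' ^ p = (x⁻¹ ^ p) * x' ^ p := rfl
      have hpp : ∀ z ∈ R, z ^ p ^ 2 = 1 → ∀ r ∈ R, z ^ p * r = r * z ^ p := fun z hz h r hr =>
        hcen _ (pow_mem hz p) (by rw [← pow_mul, ← sq, h]) r hr
      have hx'2 : x' ^ p ^ 2 = 1 := by rw [hx', conj_pow, hx2, mul_one, mul_inv_cancel]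
      have h3 : x * (x⁻¹ ^ p * x' ^ p) * x⁻¹ = x⁻¹ ^ p * x' ^ p := by
        rw [← mul_assoc, ← hpp x⁻¹ (inv_mem hx) (by rw [inv_pow, hx2, inv_one]) x hx, mul_assoc (x⁻¹ ^ p) x,
          ← hpp x' (hle hxy) hx'2 x hx]
        group
      rw [h1] at h3
      rw [h1, ← h3]; group
    rw [e, e2, mul_pow_p hp2 (hcom x⁻¹ (inv_mem hx)) (hcom x' (hle hxy)) hc, hx', conj_pow,
      ← hcen _ (pow_mem hx p) (by rw [← pow_mul, ← sq, hx2]) y hy, mul_inv_cancel_right, inv_pow, inv_mul_cancel]

end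

universe u

/-- Chief factors inside a normal `p`-subgroup with few, central, elements of order `p`. -/
theorem bdd_central {p : ℕ} [hp : Fact p.Prime] (hp2 : p ≠ 2) : ∀ n : ℕ, ∀ {G : Type u} [Group G] [Finite G]
    (R : Subgroup G), Nat.card G ≤ n → R.Normal → IsPGroup p R →
    (∀ z ∈ R, z ^ p = 1 → ∀ r ∈ R, z * r = r * z) →
    (∀ X : Subgroup G, X ≤ R → (∀ x ∈ X, x ^ p = 1) → Nat.card X ≤ p ^ 2) → BddTo p R := by
  intro n
  induction n using Nat.strong_induction_on with
  | _ n ih =>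
    intro G _ _ R hn hRn hR hcen hcard
    by_cases hR1 : R = ⊥
    · rw [hR1]; exact bdd_bot
    let W : Subgroup G :=
      { carrier := {x | x ∈ R ∧ x ^ p = 1}
        one_mem' := ⟨one_mem R, one_pow p⟩
        mul_mem' := by
          rintro a b ⟨ha, ha'⟩ ⟨hb, hb'⟩
          exact ⟨mul_mem ha hb, by rw [(show Commute a b from hcen a ha ha' b hb).mul_pow, ha', hb', one_mul]⟩
        inv_mem' := by
          rintro a ⟨ha, ha'⟩
          exact ⟨inv_mem ha, by rw [inv_pow, ha', inv_one]⟩ }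
    haveI hWn : W.Normal := ⟨fun w hw g => ⟨hRn.conj_mem w hw.1 g, by rw [conj_pow, hw.2, mul_one, mul_inv_cancel]⟩⟩
    have hWle : W ≤ R := fun w hw => hw.1
    have hW1 : W ≠ ⊥ := by
      intro h
      haveI : Nontrivial ↥R := (Subgroup.nontrivial_iff_ne_bot R).2 hR1
      obtain ⟨k, hk0, hk⟩ := hR.nontrivial_iff_card.1 ‹_›
      obtain ⟨x, hx⟩ := exists_prime_orderOf_dvd_card' p (hk ▸ dvd_pow_self p (by omega) : p ∣ Nat.card R)
      have h1 : (x : G) ∈ W := ⟨x.2, by rw [← SubgroupClass.coe_pow, ← hx, pow_orderOf_eq_one]; rfl⟩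
      rw [h, Subgroup.mem_bot, ← OneMemClass.coe_one R, Subtype.coe_inj] at h1
      rw [h1, orderOf_one] at hx
      exact hp.out.ne_one hx.symm
    set f := QuotientGroup.mk' W with hf
    haveI hfR : (R.map f).Normal := hRn.map f (QuotientGroup.mk'_surjective W)
    have hlift : ∀ z ∈ R, f z ^ p = 1 → z ^ p ^ 2 = 1 := fun z hz h => by
      rw [← map_pow] at h
      obtain ⟨-, h2⟩ : z ^ p ∈ W := (QuotientGroup.eq_one_iff _).1 h
      rw [sq, pow_mul, h2]
    have hcen' : ∀ z ∈ R.map f, z ^ p = 1 → ∀ r ∈ R.map f, z * r = r * z := by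
      rintro _ ⟨z, hz, rfl⟩ hzp _ ⟨r, hr, rfl⟩
      refine (commutatorElement_eq_one_iff_mul_comm.1 ?_).symm
      rw [← map_commutatorElement]
      exact (QuotientGroup.eq_one_iff _).2 ⟨mul_mem (mul_mem (mul_mem hr hz) (inv_mem hr)) (inv_mem hz),
        comm_pow_one hp2 _ R le_rfl hR hcen z hz (hlift z hz hzp) r hr⟩
    have hcard' : ∀ X : Subgroup (G ⧸ W), X ≤ R.map f → (∀ x ∈ X, x ^ p = 1) → Nat.card X ≤ p ^ 2 := by
      intro X hXR hXe
      have hsel : ∀ x : X, ∃ z ∈ R, f z = (x : G ⧸ W) := fun x => hXR x.2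
      choose z hzR hzf using hsel
      refine le_trans (Nat.card_le_card_of_injective (β := W) (fun x => ⟨z x ^ p, pow_mem (hzR x) p, by
        rw [← pow_mul, ← sq]; exact hlift _ (hzR x) (by rw [hzf]; exact hXe x x.2)⟩) ?_) (hcard W hWle fun x hx => hx.2)
      intro a b hab
      have hab' : z a ^ p = z b ^ p := congrArg Subtype.val hab
      have ha2 := hlift _ (hzR a) (by rw [hzf]; exact hXe a a.2)
      have hc : ⁅z b, (z a)⁻¹⁆ ^ p = 1 :=
        comm_pow_one hp2 _ R le_rfl hR hcen (z a)⁻¹ (inv_mem (hzR a)) (by rw [inv_pow, ha2, inv_one]) _ (hzR b)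
      have hcR : ⁅z b, (z a)⁻¹⁆ ∈ R :=
        mul_mem (mul_mem (mul_mem (hzR b) (inv_mem (hzR a))) (inv_mem (hzR b))) (inv_mem (inv_mem (hzR a)))
      have h1 : ((z a)⁻¹ * z b) ^ p = 1 := by
        rw [mul_pow_p hp2 (hcen _ hcR hc _ (inv_mem (hzR a))) (hcen _ hcR hc _ (hzR b)) hc, ← hab', inv_pow,
          inv_mul_cancel]
      refine Subtype.ext ?_
      rw [← hzf a, ← hzf b]
      exact QuotientGroup.eq.2 ⟨mul_mem (inv_mem (hzR a)) (hzR b), h1⟩
    have hlt : Nat.card (G ⧸ W) < Nat.card G := Agent.Solv.card_quotient_lt W hW1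
    have hq := ih _ (lt_of_lt_of_le hlt hn) (R.map f) le_rfl hfR (hR.map f) hcen' hcard'
    refine glue hWle (fun A B hA hB hBW hc hpow => ?_) fun A B hA hB hWA hBR hc hpow => ?_
    · obtain ⟨k, hk⟩ := hpow
      rw [hk]
      refine pow_dvd_pow p ((Nat.pow_le_pow_iff_right hp.out.one_lt).1 (hk ▸ ?_))
      exact (Nat.le_of_dvd Nat.card_pos ((Subgroup.relIndex_dvd_card A B).trans
        (Subgroup.card_dvd_of_le hBW))).trans (hcard W hWle fun x hx => hx.2)
    · obtain ⟨hc', hr⟩ := chief_map hWA hc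
      rw [← hr] at hpow ⊢
      exact hq _ _ (hA.map f (QuotientGroup.mk'_surjective W)) (hB.map f (QuotientGroup.mk'_surjective W))
        (Subgroup.map_mono hBR) hc' hpow

section
variable {G : Type*} [Group G] [Finite G] {p : ℕ} [hp : Fact p.Prime]

/-- The `p`-part of the automizer of a normal abelian subgroup of order at most `p²`. -/
theorem centralizer_index_part (E : Subgroup G) [hEn : E.Normal] (hE : IsPGroup p E)
    (hab : IsMulCommutative E) (hc : Nat.card E ≤ p ^ 2) :
    ¬ p ^ 2 ∣ (Subgroup.centralizer (E : Set G)).index := by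
  intro hd
  obtain ⟨S⟩ : Nonempty (Sylow p G) := inferInstance
  have hES : E ≤ S := hE.le_sylow_of_normal S
  set C := Subgroup.centralizer (E : Set G) with hC
  have hcomm : IsMulCommutative (E.subgroupOf (S : Subgroup G)) := ⟨⟨fun a b => by
    apply Subtype.ext; apply Subtype.ext
    exact congrArg (fun z : E => (z : G)) (hab.is_comm.comm ⟨_, a.2⟩ ⟨_, b.2⟩)⟩⟩
  have h1 := index_centralizer_le_of_small S.2 (E.subgroupOf (S : Subgroup G)) hcomm
    (by rwa [Agent.Solv.card_subgroupOf hES])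
  have h2 : C.relIndex (S : Subgroup G) ≤ p := by
    refine le_trans (Nat.le_of_dvd (Nat.pos_of_ne_zero Subgroup.index_ne_zero_of_finite)
      (Subgroup.index_dvd_of_le ?_)) h1
    intro z hz
    refine Subgroup.mem_subgroupOf.2 (Subgroup.mem_centralizer_iff.2 fun e he => ?_)
    exact congrArg Subtype.val (Subgroup.mem_centralizer_iff.1 hz (⟨e, hES he⟩ : ↥(S : Subgroup G))
      (Subgroup.mem_subgroupOf.2 he))
  have h4 : C.index ∣ C.relIndex (S : Subgroup G) * (S : Subgroup G).index := by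
    rw [← Subgroup.inf_relIndex_right, Subgroup.relIndex_mul_index inf_le_right]
    exact Subgroup.index_dvd_of_le inf_le_left
  have h5 : p ^ 2 ∣ C.relIndex (S : Subgroup G) :=
    (Nat.Coprime.pow_left 2 ((Nat.Prime.coprime_iff_not_dvd hp.out).2 S.not_dvd_index)).dvd_of_dvd_mul_right
      (hd.trans h4)
  have h6 := Nat.le_of_dvd (Nat.pos_of_ne_zero (show C.relIndex (S : Subgroup G) ≠ 0 from Subgroup.index_ne_zero_of_finite)) h5
  have h7 : p * 1 < p * p := Nat.mul_lt_mul_of_pos_left hp.out.one_lt hp.out.pos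
  rw [sq] at h6
  omega

/-- The result for a trivial `p'`-core. -/
theorem main_core (hp2 : p ≠ 2) (hG : Cfsg.IsPSolvable p G) (hr : Cfsg.PRankLE p 2 G)
    (h0 : Cfsg.pPrimeCore p G = ⊥) : BddTo p (⊤ : Subgroup G) := by
  set P := Cfsg.pCore p G with hPdef
  have hCP := Agent.Char.centralizer_pCore_le_of_pSolvable hG h0
  haveI hPn := Agent.Solv.pCore_normal (G := G) p
  have hP := Agent.Solv.pCore_isPGroup (G := G) p
  obtain ⟨H₀, hHc, hHp, hHcm, hHC⟩ := exists_critical (P := ↥P) hP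
  haveI := hHc
  haveI hHn : (H₀.map P.subtype).Normal := inferInstance
  set H := H₀.map P.subtype with hHdef
  have hHP : H ≤ P := Subgroup.map_subtype_le _
  have hpz : ∀ a ∈ H, ∀ g ∈ H, a ^ p * g = g * a ^ p := by
    rintro _ ⟨a, ha, rfl⟩ _ ⟨g, hg, rfl⟩
    exact congrArg P.subtype (Subgroup.mem_centralizer_iff.1 (Subgroup.mem_inf.1 (hHp a ha)).2 g hg).symm
  have hcc : ∀ a ∈ H, ∀ b ∈ H, ∀ g ∈ H, ⁅a, b⁆ * g = g * ⁅a, b⁆ := by
    rintro _ ⟨a, ha, rfl⟩ _ ⟨b, hb, rfl⟩ _ ⟨g, hg, rfl⟩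
    rw [← map_commutatorElement, ← map_mul, ← map_mul]
    exact congrArg P.subtype (Subgroup.mem_centralizer_iff.1
      (Subgroup.mem_inf.1 (hHcm (Subgroup.commutator_mem_commutator ha (Subgroup.mem_top b)))).2 g hg).symm
  have hcp : ∀ a ∈ H, ∀ b ∈ H, ⁅b, a⁆ ^ p = 1 := fun a ha b hb => by
    have h1 := comm_pow (p := p) a b (hcc b hb a ha a ha)
    rw [← hpz a ha b hb, mul_inv_cancel_right] at h1
    exact mul_eq_right.1 h1
  have hmulp : ∀ a ∈ H, ∀ b ∈ H, (a * b) ^ p = a ^ p * b ^ p := fun a ha b hb =>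
    mul_pow_p hp2 (hcc b hb a ha a ha) (hcc b hb a ha b hb) (hcp a ha b hb)
  let E : Subgroup G :=
    { carrier := {x | x ∈ H ∧ x ^ p = 1}
      one_mem' := ⟨one_mem H, one_pow p⟩
      mul_mem' := by
        rintro a b ⟨ha, ha'⟩ ⟨hb, hb'⟩
        exact ⟨mul_mem ha hb, by rw [hmulp a ha b hb, ha', hb', one_mul]⟩
      inv_mem' := by
        rintro a ⟨ha, ha'⟩
        exact ⟨inv_mem ha, by rw [inv_pow, ha', inv_one]⟩ }
  haveI hEn : E.Normal := ⟨fun w hw g => ⟨hHn.conj_mem w hw.1 g, by rw [conj_pow, hw.2, mul_one, mul_inv_cancel]⟩⟩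
  have hEH : E ≤ H := fun e he => he.1
  have hE : IsPGroup p E := fun e => ⟨1, Subtype.ext (by
    rw [pow_one, SubgroupClass.coe_pow, OneMemClass.coe_one]; exact e.2.2)⟩
  have hrk : ∀ X : Subgroup G, IsMulCommutative X → (∀ x ∈ X, x ^ p = 1) → Nat.card X ≤ p ^ 2 := hr
  set K := Subgroup.centralizer (E : Set G) with hKdef
  -- elements of order prime to `p` centralizing `E` are trivial
  have hcop : ∀ g ∈ K, (orderOf g).Coprime p → g = 1 := by
    intro g hg hgo
    obtain ⟨α, hα, hαo⟩ := exists_conj_aut (Q := P) (g := g) (by rw [Subgroup.normalizer_eq_top]; trivial)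
    obtain ⟨β, hβ, hβo⟩ := exists_restrict_aut α H₀ fun x hx =>
      (Subgroup.characteristic_iff_map_eq.1 hHc α).le ⟨x, hx, rfl⟩
    have hβ1 : β = 1 := aut_eq_one_of_fix_omega (hP.to_subgroup H₀) β
      ((hgo.coprime_dvd_left (hβo.trans hαo))) fun x hx => by
        apply Subtype.ext; apply Subtype.ext
        rw [hβ, hα]
        have hxp : x ^ p = 1 := by simpa [Local.FS.IsOmega, hp2] using hx
        have h1 := Subgroup.mem_centralizer_iff.1 hg ((x : ↥P) : G)
          ⟨⟨x, x.2, rfl⟩, congrArg (fun z : ↥H₀ => ((z : ↥P) : G)) hxp⟩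
        rw [← h1, mul_inv_cancel_right]
    have hα1 := aut_eq_one_of_fix hP hHC α (hgo.coprime_dvd_left hαo) fun x hx => by
      have := hβ ⟨x, hx⟩
      rw [hβ1] at this
      exact this.symm
    have hgP : g ∈ P := hCP (Subgroup.mem_centralizer_iff.2 fun x hx => by
      have h1 := hα ⟨x, hx⟩
      rw [hα1] at h1
      exact eq_mul_inv_iff_mul_eq.1 h1)
    obtain ⟨j, hj⟩ := IsPGroup.iff_orderOf.1 hP ⟨g, hgP⟩
    rw [Subgroup.orderOf_mk] at hj
    rw [← orderOf_eq_one_iff]
    exact Nat.eq_one_of_dvd_coprimes (Nat.Coprime.pow_right j hgo) dvd_rfl hj.dvd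
  have hKp : IsPGroup p K := by
    intro g
    refine ⟨(orderOf (g : G)).factorization p, Subtype.ext (hcop _ (pow_mem g.2 _) ?_)⟩
    rw [SubgroupClass.coe_pow, orderOf_pow_of_dvd (pow_ne_zero _ hp.out.ne_zero) (Nat.ordProj_dvd _ _)]
    exact (Nat.coprime_ordCompl hp.out (orderOf_pos (g : G)).ne').symm
  haveI hKn : K.Normal := inferInstance
  have hKP : K ≤ P := Agent.Solv.normal_le_pCore hKp
  obtain ⟨j, hj⟩ := hE.exists_card_eq
  have hj3 : j ≤ 3 := by
    refine (Nat.pow_le_pow_iff_right hp.out.one_lt).1 (hj ▸ card_le_of_exponent_rank_two hp2 hE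
      (fun e => Subtype.ext e.2.2) ?_)
    intro A hA hAe
    have h1 := hrk (A.map E.subtype) ⟨⟨fun s t => Subtype.ext ?_⟩⟩ ?_
    · rwa [Subgroup.card_map_of_injective E.subtype_injective] at h1
    · obtain ⟨s', hs', hse⟩ := s.2
      obtain ⟨t', ht', hte⟩ := t.2
      show (s : G) * t = t * s
      rw [← hse, ← hte]
      exact congrArg (fun z : A => ((z : E) : G)) (hA.is_comm.comm ⟨s', hs'⟩ ⟨t', ht'⟩)
    · rintro _ ⟨s, hs, rfl⟩
      exact s.2.2
  rcases Nat.lt_or_ge j 2 with hj2 | hj2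
  · -- cyclic critical subgroup
    have hEc : Nat.card E ≤ p := by
      rw [hj]
      calc p ^ j ≤ p ^ 1 := Nat.pow_le_pow_right hp.out.pos (by omega)
        _ = p := pow_one p
    let φ : ↥H →* ↥H := MonoidHom.mk' (fun x => x ^ p) fun a b => Subtype.ext (by
      rw [SubgroupClass.coe_pow, Subgroup.coe_mul, Subgroup.coe_mul, SubgroupClass.coe_pow, SubgroupClass.coe_pow]
      exact hmulp a a.2 b b.2)
    have hker : Nat.card φ.ker ≤ p := by
      refine le_trans (Nat.card_le_card_of_injective (fun x : φ.ker => (⟨((x : ↥H) : G), (x : ↥H).2,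
        congrArg Subtype.val (MonoidHom.mem_ker.1 x.2)⟩ : E)) ?_) hEc
      intro a b h
      exact Subtype.ext (Subtype.ext (congrArg Subtype.val h :))
    have habH : ∀ a b : ↥H, a * b = b * a := by
      have hd : (Subgroup.center ↥H).index ∣ Nat.card φ.ker := by
        refine (Subgroup.index_dvd_of_le (H := φ.range) ?_).trans ?_
        · rintro _ ⟨a, rfl⟩
          exact Subgroup.mem_center_iff.2 fun b => Subtype.ext (hpz a a.2 b b.2).symm
        · have h1 := Subgroup.card_mul_index φ.ker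
          have h2 := Subgroup.card_mul_index φ.range
          rw [Subgroup.index_ker] at h1
          exact dvd_of_eq (Nat.eq_of_mul_eq_mul_left (Nat.card_pos (α := φ.range)) (by rw [h2, ← h1, mul_comm]))
      have hle : (Subgroup.center ↥H).index ≤ p := (Nat.le_of_dvd Nat.card_pos hd).trans hker
      haveI : IsCyclic (↥H ⧸ Subgroup.center ↥H) := by
        obtain ⟨i, hi⟩ := ((hP.to_le hHP).to_quotient (Subgroup.center ↥H)).exists_card_eq
        rcases Nat.lt_or_ge i 1 with hi' | hi'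
        · haveI : Subsingleton (↥H ⧸ Subgroup.center ↥H) :=
            (Nat.card_eq_one_iff_unique.1 (by rw [hi, show i = 0 by omega, pow_zero])).1
          exact isCyclic_of_subsingleton
        · refine isCyclic_of_prime_card (p := p) ?_
          rw [Subgroup.index_eq_card, hi] at hle
          have : i ≤ 1 := (Nat.pow_le_pow_iff_right hp.out.one_lt).1 (hle.trans (pow_one p).ge)
          rw [hi, show i = 1 by omega, pow_one]
      exact commutative_of_cyclic_center_quotient (QuotientGroup.mk' (Subgroup.center ↥H))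
        (by rw [QuotientGroup.ker_mk'])
    have hu : Agent.Solv.UniqueOrderP p ↥H := by
      intro x y hx hy hy1
      let x' : E := ⟨(x : G), x.2, congrArg Subtype.val hx⟩
      let y' : E := ⟨(y : G), y.2, congrArg Subtype.val hy⟩
      have hy'1 : y' ≠ 1 := fun h => hy1 (Subtype.ext (congrArg Subtype.val h :))
      have htop : Subgroup.zpowers y' = ⊤ := Subgroup.eq_top_of_le_card _ (by
        rw [Nat.card_zpowers, orderOf_eq_prime (show y' ^ p = 1 from Subtype.ext (congrArg Subtype.val hy :)) hy'1]; exact hEc)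
      obtain ⟨i, hi⟩ : x' ∈ Subgroup.zpowers y' := htop ▸ Subgroup.mem_top x'
      exact ⟨i, Subtype.ext (congrArg Subtype.val hi :)⟩
    obtain ⟨a, -, hat⟩ := Agent.Solv.abelian_cyclic_of_unique (hP.to_le hHP) hu ⊤ fun x _ y _ => habH x y
    have hbddH : BddTo p H := bdd_central hp2 _ H le_rfl hHn (hP.to_le hHP)
      (fun z hz _ r hr => congrArg Subtype.val (habH ⟨z, hz⟩ ⟨r, hr⟩)) fun X hX hXe => hrk X
        ⟨⟨fun s t => Subtype.ext (congrArg Subtype.val (habH ⟨s, hX s.2⟩ ⟨t, hX t.2⟩) : (s : G) * t = t * s)⟩⟩ hXe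
    refine glue le_top hbddH fun A B hA hB hHA _ hc ⟨k, hk⟩ => ?_
    have hcomm : ∀ g h : G, ⁅g, h⁆ ∈ H := by
      intro g h
      have hconj : ∀ g : G, ∃ i : ℤ, g * (a : G) * g⁻¹ = (a : G) ^ i := fun g => by
        have h1 : (⟨_, hHn.conj_mem _ a.2 g⟩ : ↥H) ∈ Subgroup.zpowers a := hat ▸ Subgroup.mem_top _
        obtain ⟨i, hi⟩ := h1
        exact ⟨i, (congrArg Subtype.val hi).symm.trans (by simp)⟩
      have hcommA : ∀ g h : G, (g * h) * (a : G) * (g * h)⁻¹ = (h * g) * (a : G) * (h * g)⁻¹ := by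
        intro g h
        obtain ⟨i, hi⟩ := hconj g
        obtain ⟨l, hl⟩ := hconj h
        calc (g * h) * (a : G) * (g * h)⁻¹ = g * (h * a * h⁻¹) * g⁻¹ := by group
          _ = (a : G) ^ (i * l) := by rw [hl, ← conj_zpow, hi, zpow_mul]
          _ = (a : G) ^ (l * i) := by rw [mul_comm]
          _ = h * (g * a * g⁻¹) * h⁻¹ := by rw [hi, ← conj_zpow, hl, zpow_mul]
          _ = _ := by group
      have hca : ⁅g, h⁆ * (a : G) * ⁅g, h⁆⁻¹ = a := by
        rw [show ⁅g, h⁆ * (a : G) * ⁅g, h⁆⁻¹ = (g * h) * ((h * g)⁻¹ * (a : G) * (h * g)) * (g * h)⁻¹ by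
          simp [commutatorElement_def, mul_assoc]]
        obtain ⟨i, hi⟩ := hconj ((h * g)⁻¹)
        rw [inv_inv] at hi
        rw [hi, ← conj_zpow, hcommA, conj_zpow, ← hi]
        group
      have hcH : ∀ x : ↥H, ⁅g, h⁆ * (x : G) = (x : G) * ⁅g, h⁆ := by
        intro x
        obtain ⟨i, rfl⟩ : x ∈ Subgroup.zpowers a := hat ▸ Subgroup.mem_top _
        rw [SubgroupClass.coe_zpow]
        exact (show Commute ⁅g, h⁆ (a : G) from mul_inv_eq_iff_eq_mul.1 hca).zpow_right i
      have hcK : ⁅g, h⁆ ∈ K := Subgroup.mem_centralizer_iff.2 fun e he => (hcH ⟨e, hEH he⟩).symm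
      have hcP := hKP hcK
      exact ⟨⟨_, hcP⟩, hHC (Subgroup.mem_centralizer_iff.2 fun x hx => Subtype.ext
        (hcH ⟨(x : G), ⟨x, hx, rfl⟩⟩).symm), rfl⟩
    have hd : p ∣ A.relIndex B := by
      rw [hk]
      exact dvd_pow_self p fun h => hc.1.not_ge (Subgroup.relIndex_eq_one.1 (by rw [hk, h, pow_zero]))
    haveI := hA
    haveI : (A.subgroupOf B).Normal := hA.subgroupOf B
    obtain ⟨x, hx⟩ := exists_prime_orderOf_dvd_card' p (show p ∣ Nat.card (↥B ⧸ A.subgroupOf B) by
      rw [← Subgroup.index_eq_card]; exact hd)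
    let L := ((Subgroup.zpowers x).comap (QuotientGroup.mk' (A.subgroupOf B))).map B.subtype
    have hAL : A ≤ L := fun z hz => ⟨⟨z, hc.1.le hz⟩, by
      show ((⟨z, hc.1.le hz⟩ : ↥B) : ↥B ⧸ A.subgroupOf B) ∈ Subgroup.zpowers x
      rw [(QuotientGroup.eq_one_iff _).2 (show (⟨z, hc.1.le hz⟩ : ↥B) ∈ A.subgroupOf B from hz)]
      exact one_mem _, rfl⟩
    have hLn : L.Normal := ⟨fun l hl g => by
      have h1 : ⁅g, l⁆ ∈ L := hAL (hHA (hcomm g l))
      rw [show g * l * g⁻¹ = ⁅g, l⁆ * l by simp [commutatorElement_def]]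
      exact mul_mem h1 hl⟩
    have hLc : Nat.card L = Nat.card A * p := by
      rw [Subgroup.card_map_of_injective B.subtype_injective, Agent.Solv.card_comap_mk', Nat.card_zpowers, hx,
        Agent.Solv.card_subgroupOf hc.1.le]
      first | done | exact mul_comm _ _
    rcases hc.2 L hLn hAL (Subgroup.map_subtype_le _) with h | h
    · exfalso
      rw [h] at hLc
      have h1 : Nat.card A * 1 < Nat.card A * p := Nat.mul_lt_mul_of_pos_left hp.out.one_lt Nat.card_pos
      omega
    · have h1 := card_mul_relIndex hc.1.le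
      rw [← h, hLc] at h1
      rw [← h, Nat.eq_of_mul_eq_mul_left Nat.card_pos h1]
      exact dvd_pow_self p two_ne_zero
  · -- a noncyclic elementary subgroup
    obtain ⟨A₀, -, -, hA₀⟩ := exists_normal_le_of_card hE (⊤ : Subgroup ↥E) 2 (by
      rw [Subgroup.card_top, hj]; exact Nat.pow_le_pow_right hp.out.pos hj2)
    haveI hA0c : IsMulCommutative A₀ := ⟨⟨IsPGroup.commutative_of_card_eq_prime_sq hA₀⟩⟩
    have hord : ∀ x ∈ K, x ^ p = 1 → x ∈ E := by
      intro x hx hxp
      let X := A₀.map E.subtype ⊔ Subgroup.zpowers x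
      have hXC : A₀.map E.subtype ≤ Subgroup.centralizer ({x} : Set G) := by
        rintro _ ⟨e, he, rfl⟩
        exact Subgroup.mem_centralizer_singleton_iff.2 (Subgroup.mem_centralizer_iff.1 hx _ e.2)
      have hAn : A₀.map E.subtype ≤ Subgroup.normalizer ((Subgroup.zpowers x : Subgroup G) : Set G) := by
        refine fun a ha => mem_normalizer_of_cj_le ?_
        rintro _ ⟨z, ⟨i, rfl⟩, rfl⟩
        refine ⟨i, ?_⟩
        show x ^ i = a * x ^ i * a⁻¹
        rw [(show Commute a x from Subgroup.mem_centralizer_singleton_iff.1 (hXC ha)).zpow_right i, mul_inv_cancel_right]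
      have hmem : ∀ z ∈ X, ∃ a ∈ A₀.map E.subtype, ∃ i : ℤ, a * x ^ i = z := by
        intro z hz
        rw [← SetLike.mem_coe, Subgroup.coe_mul_of_left_le_normalizer_right _ _ hAn] at hz
        obtain ⟨a, ha, _, ⟨i, rfl⟩, rfl⟩ := Set.mem_mul.1 hz
        exact ⟨a, ha, i, rfl⟩
      have hcm : ∀ a ∈ A₀.map E.subtype, ∀ b ∈ A₀.map E.subtype, Commute a b := by
        rintro _ ⟨a, ha, rfl⟩ _ ⟨b, hb, rfl⟩
        exact congrArg (fun z : A₀ => ((z : E) : G)) (hA0c.is_comm.comm ⟨a, ha⟩ ⟨b, hb⟩)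
      have hax : ∀ a ∈ A₀.map E.subtype, ∀ i : ℤ, Commute a (x ^ i) := fun a ha i =>
        (show Commute a x from Subgroup.mem_centralizer_singleton_iff.1 (hXC ha)).zpow_right i
      have hX := hrk X ⟨⟨fun s t => Subtype.ext (by
          obtain ⟨a, ha, i, hai⟩ := hmem _ s.2
          obtain ⟨b, hb, l, hbl⟩ := hmem _ t.2
          show (s : G) * t = t * s
          rw [← hai, ← hbl]
          exact (((hcm a ha b hb).mul_right (hax a ha l)).mul_left
            ((hax b hb i).symm.mul_right ((Commute.refl x).zpow_zpow i l))))⟩⟩ (by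
          intro z hz
          obtain ⟨a, ha, i, rfl⟩ := hmem z hz
          obtain ⟨e, he, rfl⟩ := ha
          rw [(hax _ ⟨e, he, rfl⟩ i).mul_pow, show E.subtype e ^ p = 1 from e.2.2, one_mul, ← zpow_natCast,
            ← zpow_mul, mul_comm, zpow_mul, zpow_natCast, hxp, one_zpow])
      have hle : Nat.card X ≤ Nat.card (A₀.map E.subtype) := by
        rwa [Subgroup.card_map_of_injective E.subtype_injective, hA₀]
      have h1 : X = A₀.map E.subtype := (Subgroup.eq_of_le_of_card_ge le_sup_left hle).symm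
      exact Subgroup.map_subtype_le _ (h1.le (Subgroup.mem_sup_right (Subgroup.mem_zpowers x)))
    have hbddK : BddTo p K := bdd_central hp2 _ K le_rfl hKn hKp
      (fun z hz hzp r hr => Subgroup.mem_centralizer_iff.1 hr z (hord z hz hzp)) fun X hX hXe => hrk X
        ⟨⟨fun s t => Subtype.ext (Subgroup.mem_centralizer_iff.1 (hX t.2) s (hord _ (hX s.2) (hXe _ s.2)))⟩⟩ hXe
    by_cases hEab : IsMulCommutative E
    · refine step le_top hbddK fun h => centralizer_index_part E hE hEab ?_ ((pow_dvd_pow p (by omega)).trans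
        (Subgroup.relIndex_top_right K ▸ h))
      exact hrk E hEab fun e he => he.2
    · -- extraspecial of order `p³`
      obtain ⟨a, b, hab⟩ : ∃ a b : E, a * b ≠ b * a := by
        by_contra h
        push Not at h
        exact hEab ⟨⟨h⟩⟩
      set Z := E ⊓ K with hZdef
      have hgen : Subgroup.closure ({a, b} : Set E) = ⊤ := by
        refine Subgroup.eq_top_of_le_card _ ?_
        obtain ⟨i, hi⟩ := (hE.to_subgroup (Subgroup.closure ({a, b} : Set E))).exists_card_eq
        rw [hi, hj]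
        refine Nat.pow_le_pow_right hp.out.pos ?_
        by_contra hlt
        have hc : ∀ u v : Subgroup.closure ({a, b} : Set E), u * v = v * u := by
          rcases (show i ≤ 1 ∨ i = 2 by omega) with h | h
          · haveI : IsCyclic (Subgroup.closure ({a, b} : Set E)) := by
              rcases Nat.lt_or_ge i 1 with h' | h'
              · haveI : Subsingleton (Subgroup.closure ({a, b} : Set E)) :=
                  (Nat.card_eq_one_iff_unique.1 (by rw [hi, show i = 0 by omega, pow_zero])).1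
                exact isCyclic_of_subsingleton
              · exact isCyclic_of_prime_card (p := p) (by rw [hi, show i = 1 by omega, pow_one])
            exact IsCyclic.commGroup.mul_comm
          · exact IsPGroup.commutative_of_card_eq_prime_sq (h ▸ hi)
        exact hab (congrArg Subtype.val (hc ⟨a, Subgroup.subset_closure (Set.mem_insert _ _)⟩
          ⟨b, Subgroup.subset_closure (Set.mem_insert_of_mem _ rfl)⟩))
      have hZle : Nat.card Z ≤ p := by
        have hZab : IsMulCommutative Z := ⟨⟨fun s t => Subtype.ext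
          (Subgroup.mem_centralizer_iff.1 (Subgroup.mem_inf.1 t.2).2 s (Subgroup.mem_inf.1 s.2).1)⟩⟩
        obtain ⟨i, hi⟩ := (hE.to_le (inf_le_left : Z ≤ E)).exists_card_eq
        rw [hi]
        refine le_trans (Nat.pow_le_pow_right hp.out.pos (show i ≤ 1 from ?_)) (pow_one p).le
        by_contra hi2
        have hEZ : Z.subgroupOf E = Subgroup.center ↥E := by
          ext e
          rw [Subgroup.mem_subgroupOf, Subgroup.mem_center_iff]
          constructor
          · exact fun he u => Subtype.ext (Subgroup.mem_centralizer_iff.1 (Subgroup.mem_inf.1 he).2 u u.2)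
          · exact fun he => Subgroup.mem_inf.2 ⟨e.2, Subgroup.mem_centralizer_iff.2 fun u hu =>
              congrArg Subtype.val (he ⟨u, hu⟩)⟩
        have h1 := Subgroup.card_mul_index (Subgroup.center ↥E)
        rw [← hEZ, Agent.Solv.card_subgroupOf inf_le_left, hEZ, hi, hj, Subgroup.index_eq_card] at h1
        obtain ⟨l, hl⟩ := (hE.to_quotient (Subgroup.center ↥E)).exists_card_eq
        rw [hl, ← pow_add] at h1
        have := Nat.pow_right_injective hp.out.two_le h1
        haveI : IsCyclic (↥E ⧸ Subgroup.center ↥E) := by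
          rcases Nat.lt_or_ge l 1 with h' | h'
          · haveI : Subsingleton (↥E ⧸ Subgroup.center ↥E) :=
              (Nat.card_eq_one_iff_unique.1 (by rw [hl, show l = 0 by omega, pow_zero])).1
            exact isCyclic_of_subsingleton
          · exact isCyclic_of_prime_card (p := p) (by rw [hl, show l = 1 by omega, pow_one])
        exact hab (commutative_of_cyclic_center_quotient (QuotientGroup.mk' (Subgroup.center ↥E))
          (by rw [QuotientGroup.ker_mk']) a b)
      set f := QuotientGroup.mk' Z with hf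
      haveI hfE : (E.map f).Normal := hEn.map f (QuotientGroup.mk'_surjective Z)
      set K' := (Subgroup.centralizer ((E.map f : Subgroup (G ⧸ Z)) : Set (G ⧸ Z))).comap f with hK'
      have hmapc : Nat.card (E.map f) * Nat.card Z = Nat.card E := by
        have h := Agent.Solv.card_map_mk'_mul_card_inf Z E
        rwa [inf_eq_left.2 (inf_le_left : Z ≤ E)] at h
      have hab0 : ⁅(a : G), (b : G)⁆ ∈ Z ∧ ⁅(a : G), (b : G)⁆ ≠ 1 := by
        refine ⟨Subgroup.mem_inf.2 ⟨mul_mem (mul_mem (mul_mem a.2 b.2) (inv_mem a.2)) (inv_mem b.2),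
          Subgroup.mem_centralizer_iff.2 fun e he => (hcc _ a.2.1 _ b.2.1 e (hEH he)).symm⟩, fun h => ?_⟩
        exact hab (Subtype.ext (commutatorElement_eq_one_iff_mul_comm.1 h))
      have hZc : Nat.card Z = p := by
        obtain ⟨i, hi⟩ := (hE.to_le (inf_le_left : Z ≤ E)).exists_card_eq
        rcases Nat.eq_zero_or_pos i with h | h
        · exfalso
          rw [h, pow_zero, Subgroup.card_eq_one] at hi
          exact hab0.2 (Subgroup.mem_bot.1 (hi ▸ hab0.1))
        · refine le_antisymm hZle ?_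
          rw [hi]
          exact (pow_one p).ge.trans (Nat.pow_le_pow_right hp.out.pos h)
      have hmle : Nat.card (E.map f) ≤ p ^ 2 := by
        refine Nat.le_of_mul_le_mul_right (c := p) ?_ hp.out.pos
        rw [← pow_succ, show Nat.card (E.map f) * p = Nat.card E by rw [← hZc]; exact hmapc, hj]
        exact Nat.pow_le_pow_right hp.out.pos hj3
      have hmab : IsMulCommutative (E.map f) := ⟨⟨fun s t => Subtype.ext (by
        obtain ⟨s', hs', hse⟩ := s.2
        obtain ⟨t', ht', hte⟩ := t.2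
        show (s : G ⧸ Z) * t = t * s
        rw [← hse, ← hte]
        refine commutatorElement_eq_one_iff_mul_comm.1 ?_
        rw [← map_commutatorElement]
        refine (QuotientGroup.eq_one_iff _).2 (Subgroup.mem_inf.2
          ⟨mul_mem (mul_mem (mul_mem hs' ht') (inv_mem hs')) (inv_mem ht'),
            Subgroup.mem_centralizer_iff.2 fun e he => (hcc _ hs'.1 _ ht'.1 e (hEH he)).symm⟩))⟩⟩
      have hKK' : K ≤ K' := fun k hk => Subgroup.mem_comap.2 (Subgroup.mem_centralizer_iff.2 fun _ ⟨e, he, h⟩ => by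
        rw [← h, ← map_mul, ← map_mul, Subgroup.mem_centralizer_iff.1 hk e he])
      haveI : K'.Normal := inferInstance
      have hbK' : BddTo p K' := by
        refine step hKK' hbddK fun h3 => ?_
        have hz : ∀ e ∈ E, ∀ g ∈ K', ⁅e, g⁆ ∈ Z := fun e he g hg => by
          rw [← QuotientGroup.eq_one_iff, ← QuotientGroup.mk'_apply, map_commutatorElement]
          exact commutatorElement_eq_one_iff_mul_comm.2
            (Subgroup.mem_centralizer_iff.1 (Subgroup.mem_comap.1 hg) _ ⟨e, he, rfl⟩)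
        have hrel : K.relIndex K' ≤ Nat.card (Z × Z) := by
          refine Nat.card_le_card_of_injective (fun q : ↥K' ⧸ K.subgroupOf K' =>
            ((⟨⁅(a : G), (q.out : G)⁆, hz _ a.2 _ q.out.2⟩ : Z), (⟨⁅(b : G), (q.out : G)⁆, hz _ b.2 _ q.out.2⟩ : Z))) ?_
          intro q r h
          have h1 : ⁅(a : G), (q.out : G)⁆ = ⁅(a : G), (r.out : G)⁆ := congrArg (fun z : Z × Z => (z.1 : G)) h
          have h2 : ⁅(b : G), (q.out : G)⁆ = ⁅(b : G), (r.out : G)⁆ := congrArg (fun z : Z × Z => (z.2 : G)) h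
          rw [← Quotient.out_eq q, ← Quotient.out_eq r]
          refine QuotientGroup.eq.2 (Subgroup.mem_subgroupOf.2 (Subgroup.mem_centralizer_iff.2 fun e he => ?_))
          have hw : ∀ u v w : G, ⁅u, v⁆ = ⁅u, w⁆ → Commute u (v⁻¹ * w) := by
            intro u v w huv
            have h3 : v * u⁻¹ * v⁻¹ = w * u⁻¹ * w⁻¹ := by
              simpa [commutatorElement_def, mul_assoc] using huv
            refine Commute.inv_left_iff.1 ?_
            show u⁻¹ * (v⁻¹ * w) = v⁻¹ * w * u⁻¹
            calc u⁻¹ * (v⁻¹ * w) = v⁻¹ * (v * u⁻¹ * v⁻¹) * w := by group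
              _ = v⁻¹ * (w * u⁻¹ * w⁻¹) * w := by rw [h3]
              _ = _ := by group
          have hle : Subgroup.closure ({a, b} : Set E) ≤
              (Subgroup.centralizer ({((q.out : ↥K') : G)⁻¹ * (r.out : G)} : Set G)).subgroupOf E := by
            rw [Subgroup.closure_le]
            rintro _ (rfl | rfl)
            · exact Subgroup.mem_centralizer_singleton_iff.2 (hw _ _ _ h1)
            · exact Subgroup.mem_centralizer_singleton_iff.2 (hw _ _ _ h2)
          have := Subgroup.mem_centralizer_singleton_iff.1 (hle (hgen ▸ Subgroup.mem_top (⟨e, he⟩ : ↥E)))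
          simpa using this
        rw [Nat.card_prod, hZc] at hrel
        have h4 := Nat.le_of_dvd (Nat.pos_of_ne_zero (show K.relIndex K' ≠ 0 from Subgroup.index_ne_zero_of_finite)) h3
        have h5 : p ^ 2 < p ^ 3 := Nat.pow_lt_pow_right hp.out.one_lt (by norm_num)
        rw [sq] at h5
        omega
      refine step le_top hbK' fun h3 => ?_
      rw [Subgroup.relIndex_top_right, hK', Subgroup.index_comap_of_surjective _ (QuotientGroup.mk'_surjective Z)] at h3
      exact centralizer_index_part (E.map f) (hE.map f) hmab hmle ((pow_dvd_pow p (by omega)).trans h3)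

end

/-- Let p be an odd prime and G a finite p-solvable group with no elementary abelian subgroup of order p³. Then every chief factor H/K of G (H, K normal in G with no normal subgroup of G strictly between them) whose order is a power of p has order p or p². -/
theorem result {G : Type*} [Group G] [Finite G] {p : ℕ} [Fact p.Prime] (hp : p ≠ 2)
    (hG : Cfsg.IsPSolvable p G) (hr : Cfsg.PRankLE p 2 G)
    (H K : Subgroup G) [H.Normal] [K.Normal] (hKH : K < H) (hpow : ∃ n : ℕ, K.relIndex H = p ^ n)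
    (hchief : ∀ L : Subgroup G, L.Normal → K ≤ L → L ≤ H → L = K ∨ L = H) :
    K.relIndex H = p ∨ K.relIndex H = p ^ 2 := by
  set N := Cfsg.pPrimeCore p G with hN
  haveI := Agent.Solv.pPrimeCore_normal (G := G) p
  have hNco : (Nat.card N).Coprime p := Agent.Solv.pPrimeCore_coprime p
  have hr' : Cfsg.PRankLE p 2 (G ⧸ N) := by
    intro A hA hAe
    obtain ⟨S⟩ : Nonempty (Sylow p ↥(A.comap (QuotientGroup.mk' N))) := inferInstance
    set T := (S : Subgroup ↥(A.comap (QuotientGroup.mk' N))).map (A.comap (QuotientGroup.mk' N)).subtype with hT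
    have hTp : IsPGroup p T := S.2.map _
    have hTN : T ⊓ N = ⊥ := Agent.Solv.coprime_inf (by
      obtain ⟨i, hi⟩ := hTp.exists_card_eq
      rw [hi]; exact (hNco.pow_right i).symm)
    have hinj : ∀ t ∈ T, (QuotientGroup.mk' N t = 1) → t = 1 := fun t ht h =>
      Subgroup.mem_bot.1 (hTN ▸ Subgroup.mem_inf.2 ⟨ht, (QuotientGroup.eq_one_iff t).1 h⟩)
    have hTA : ∀ t ∈ T, QuotientGroup.mk' N t ∈ A := by
      rintro _ ⟨t, _, rfl⟩; exact t.2
    have hTe : ∀ t ∈ T, t ^ p = 1 := fun t ht => hinj _ (pow_mem ht p) (by rw [map_pow]; exact hAe _ (hTA t ht))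
    have hTc : IsMulCommutative T := ⟨⟨fun s t => Subtype.ext (by
      refine commutatorElement_eq_one_iff_mul_comm.1 (hinj _
        (mul_mem (mul_mem (mul_mem s.2 t.2) (inv_mem s.2)) (inv_mem t.2)) ?_)
      rw [map_commutatorElement]
      exact commutatorElement_eq_one_iff_mul_comm.2
        (congrArg Subtype.val (hA.is_comm.comm ⟨_, hTA s s.2⟩ ⟨_, hTA t t.2⟩)))⟩⟩
    refine le_trans ?_ (hr T hTc hTe)
    obtain ⟨i, hi⟩ := (IsPGroup.exists_card_eq (p := p) (G := ↥A) fun a =>
      ⟨1, Subtype.ext (by simpa using hAe a a.2)⟩)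
    rw [hT, Subgroup.card_map_of_injective (Subgroup.subtype_injective _), S.card_eq_multiplicity,
      Agent.Solv.card_comap_mk', hi]
    refine Nat.pow_le_pow_right (Fact.out : p.Prime).pos ?_
    rw [Nat.factorization_mul (by first | exact Nat.card_pos.ne' | positivity | (rw [← hi]; exact Nat.card_pos.ne'))
      (by first | exact Nat.card_pos.ne' | positivity | (rw [← hi]; exact Nat.card_pos.ne')), Finsupp.add_apply]
    simp [(Fact.out : p.Prime).factorization_pow, Finsupp.single_eq_same]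
  have hbdd : BddTo p (⊤ : Subgroup G) := by
    refine glue (K := N) le_top (fun A B _ _ hB hc ⟨n, hn⟩ => ?_) fun A B hA hB hNA _ hc hpow' => ?_
    · rw [hn]
      have h1 : p ^ n ∣ Nat.card N := hn ▸ (Subgroup.relIndex_dvd_card A B).trans (Subgroup.card_dvd_of_le hB)
      rw [Nat.eq_one_of_dvd_coprimes (hNco.pow_right n) h1 dvd_rfl]
      exact one_dvd _
    · obtain ⟨hc', hr0⟩ := chief_map hNA hc
      rw [← hr0] at hpow' ⊢
      exact main_core hp (Agent.Solv.isPSolvable_map Fact.out hG _ (QuotientGroup.mk'_surjective N)) hr'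
        (pPrimeCore_quotient_eq_bot) _ _ (hA.map _ (QuotientGroup.mk'_surjective N))
        (hB.map _ (QuotientGroup.mk'_surjective N)) le_top hc' hpow'
  obtain ⟨n, hn⟩ := hpow
  have hd := hbdd K H inferInstance inferInstance le_top ⟨hKH, hchief⟩ ⟨n, hn⟩
  obtain ⟨k, hk, hk'⟩ := (Nat.dvd_prime_pow (Fact.out : p.Prime)).1 hd
  rcases Nat.lt_or_ge k 1 with h | h
  · exfalso
    rw [show k = 0 by omega, pow_zero, Subgroup.relIndex_eq_one] at hk'
    exact hKH.not_ge hk'
  · rcases (show k = 1 ∨ k = 2 by omega) with rfl | rfl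
    · left; simpa using hk'
    · right; exact hk'

end Cfsg.Agent.S1895
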