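import Cfsg.Statements.S1896
import Cfsg.Agent.Lib.Solv.SmallRank
import Cfsg.Agent.Lib.Solv.PGroupPhi
import Cfsg.Agent.Lib.Solv.UniqueSub

set_option autoImplicit false
open Cfsg
open Cfsg.Agent.Fusion
open scoped commutatorElement

namespace Cfsg.Agent.S1896

open Cfsg.Agent in
/-- a coset-invariant automorphism of prime order `q ≠ 2` of a `2`-group is trivial. -/
theorem eq_one_of_mod_frattini {X : Type*} [Group X] [Finite X] (hX : IsPGroup 2 X) {q : ℕ}
    [Fact q.Prime] (hq : q ≠ 2) (φ : MulAut X) (hφ : φ ^ q = 1)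
    (h : ∀ g : X, g⁻¹ * φ g ∈ frattini X) : φ = 1 := by
  obtain ⟨K, hK⟩ : ∃ K, K = φ.toMonoidHom.eqLocus (MonoidHom.id X) := ⟨_, rfl⟩
  have hA : IsPGroup q (Subgroup.zpowers φ) := by
    rintro ⟨a, ha⟩
    obtain ⟨i, rfl⟩ := Subgroup.mem_zpowers_iff.1 ha
    refine ⟨1, Subtype.ext ?_⟩
    simp only [pow_one, SubgroupClass.coe_pow, OneMemClass.coe_one]
    rw [← zpow_natCast, zpow_comm, zpow_natCast, hφ, one_zpow]
  have hq' : q.Prime := Fact.out
  have hKΦ : K ⊔ frattini X = ⊤ := by
    refine eq_top_iff.2 fun g _ => ?_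
    obtain ⟨v, hv⟩ : ∃ v : X, v ∈ frattini X ∧ φ (g * v) = g * v := by
      have hinv : ∀ a ∈ Subgroup.zpowers φ, ∀ z : X, g⁻¹ * z ∈ frattini X →
          g⁻¹ * a z ∈ frattini X := by
        intro a ha
        have hmem : ∀ b : MulAut X, ∀ z : X, z ∈ frattini X → b z ∈ frattini X := fun b z hz =>
          (Subgroup.characteristic_iff_le_comap.1 (inferInstance : (frattini X).Characteristic) b) hz
        obtain ⟨i, rfl⟩ : ∃ i : ℕ, φ ^ i = a :=
          (Submonoid.mem_powers_iff a φ).1 ((isOfFinOrder_of_finite φ).mem_powers_iff_mem_zpowers.2 ha)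
        intro z hz
        induction i generalizing z with
        | zero => simpa using hz
        | succ i ih =>
          rw [pow_succ, MulAut.mul_apply]
          refine ih (pow_mem (Subgroup.mem_zpowers φ) i) (φ z) ?_
          have e : g⁻¹ * φ z = (g⁻¹ * φ g) * φ (g⁻¹ * z) := by
            rw [map_mul, map_inv]; group
          rw [e]
          exact mul_mem (h g) (hmem φ _ hz)
      let S : SubMulAction (Subgroup.zpowers φ) X :=
        { carrier := {z | g⁻¹ * z ∈ frattini X}
          smul_mem' := fun a z hz => hinv a a.2 z hz }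
      have hcard : Nat.card S = Nat.card (frattini X) :=
        Nat.card_congr
          { toFun := fun z => ⟨g⁻¹ * z.1, z.2⟩
            invFun := fun w => ⟨g * w.1, show g⁻¹ * (g * w.1) ∈ frattini X by simp⟩
            left_inv := fun z => Subtype.ext (by simp)
            right_inv := fun w => Subtype.ext (by simp) }
      obtain ⟨e, he⟩ := (hX.to_subgroup (frattini X)).exists_card_eq
      have hnd : ¬ q ∣ Nat.card S := by
        rw [hcard, he]
        intro hd
        exact hq ((Nat.prime_dvd_prime_iff_eq hq' Nat.prime_two).1 (hq'.dvd_of_dvd_pow hd))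
      obtain ⟨⟨z, hz⟩, hzf⟩ := hA.nonempty_fixed_point_of_prime_not_dvd_card S hnd
      refine ⟨g⁻¹ * z, hz, ?_⟩
      rw [mul_inv_cancel_left]
      exact congrArg Subtype.val (hzf ⟨φ, Subgroup.mem_zpowers φ⟩)
    have : g = (g * v) * v⁻¹ := by group
    rw [this]
    exact Subgroup.mul_mem_sup (by rw [hK]; exact hv.2) (inv_mem hv.1)
  have hKtop := frattini_nongenerating hKΦ
  ext g
  have : g ∈ K := hKtop ▸ Subgroup.mem_top g
  rw [hK] at this
  exact this

/-- the action of an automorphism of order 3 of a two-generator 2-group. -/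
theorem exists_gen {X : Type*} [Group X] [Finite X] (hX : IsPGroup 2 X)
    (hsmall : Nat.card (X ⧸ frattini X) ≤ 2 ^ 2) {q : ℕ} [Fact q.Prime] (hq : q ≠ 2) (φ : MulAut X)
    (hφ : orderOf φ = q) :
    φ ^ 3 = 1 ∧ ∃ x : X, Subgroup.closure ({x, φ x} : Set X) = ⊤ ∧
      Subgroup.closure (Set.range fun g : X => g⁻¹ * φ g) = ⊤ ∧
      ∀ g : X, g ∈ frattini X ∨ x⁻¹ * g ∈ frattini X ∨ (φ x)⁻¹ * g ∈ frattini X ∨
        (φ (φ x))⁻¹ * g ∈ frattini X := by
  have hq' : q.Prime := Fact.out
  have hmap : (frattini X).map (φ : X →* X) = frattini X :=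
    Subgroup.characteristic_iff_map_eq.1 inferInstance φ
  obtain ⟨β, hβ⟩ : ∃ β, β = QuotientGroup.congr (frattini X) (frattini X) φ hmap := ⟨_, rfl⟩
  have hmk : ∀ z : X, β (z : X ⧸ frattini X) = ((φ z : X) : X ⧸ frattini X) := fun z => by
    rw [hβ, QuotientGroup.congr_mk]
  have hmkn : ∀ (n : ℕ) (z : X), (β ^ n) (z : X ⧸ frattini X) = (((φ ^ n) z : X) : X ⧸ frattini X) := by
    intro n
    induction n with
    | zero => intro z; rfl
    | succ n ih => intro z; rw [pow_succ, pow_succ, MulAut.mul_apply, MulAut.mul_apply, hmk, ih]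
  have hφq : φ ^ q = 1 := hφ ▸ pow_orderOf_eq_one φ
  have hβ1 : β ≠ 1 := by
    intro hb
    have := eq_one_of_mod_frattini hX hq φ hφq fun g => by
      have h1 := hmk g
      rw [hb, MulAut.one_apply, QuotientGroup.eq] at h1
      exact h1
    rw [this, orderOf_one] at hφ
    exact hq'.one_lt.ne hφ
  have hβq : β ^ q = 1 := MulEquiv.ext fun v => by
    induction v using QuotientGroup.induction_on with | _ z
    rw [hmkn, hφq]; rfl
  have hq3 : q = 3 := by
    by_contra h3
    refine hβ1 (Cfsg.Agent.Solv.mulAut_eq_one_of_small (hX.to_quotient _) hsmall β fun r hr hrd => ?_)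
    have hrq : r = q := (Nat.prime_dvd_prime_iff_eq hr hq').1
      (hrd.trans (orderOf_dvd_of_pow_eq_one hβq))
    subst hrq
    refine ⟨hq, fun hd => h3 ((Nat.prime_dvd_prime_iff_eq hr Nat.prime_three).1 ?_)⟩
    simpa using hd
  subst hq3
  refine ⟨hφq, ?_⟩
  obtain ⟨v, hv⟩ : ∃ v, β v ≠ v := by
    by_contra h
    push Not at h
    exact hβ1 (MulEquiv.ext h)
  induction v using QuotientGroup.induction_on with | _ x
  rw [hmk] at hv
  obtain ⟨v₀, hv₀⟩ : ∃ v : X ⧸ frattini X, v = (x : X ⧸ frattini X) := ⟨_, rfl⟩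
  obtain ⟨v₁, hv₁⟩ : ∃ v : X ⧸ frattini X, v = ((φ x : X) : X ⧸ frattini X) := ⟨_, rfl⟩
  obtain ⟨v₂, hv₂⟩ : ∃ v : X ⧸ frattini X, v = ((φ (φ x) : X) : X ⧸ frattini X) := ⟨_, rfl⟩
  have b0 : β v₀ = v₁ := by rw [hv₀, hv₁, hmk]
  have b1 : β v₁ = v₂ := by rw [hv₁, hv₂, hmk]
  have b2 : β v₂ = v₀ := by
    rw [← b1, ← b0, ← MulAut.mul_apply, ← MulAut.mul_apply,
      ← pow_three', hβq, MulAut.one_apply]
  have h01 : v₁ ≠ v₀ := by rw [hv₀, hv₁]; exact hv
  have h12 : v₂ ≠ v₁ := fun h => h01 (β.injective (by rw [b1, b0, h]))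
  have h20 : v₂ ≠ v₀ := fun h => h01 (by rw [← b0, ← h, b2, h])
  have n0 : v₀ ≠ 1 := fun h => h01 (by rw [← b0, h, map_one])
  have n1 : v₁ ≠ 1 := fun h => n0 (β.injective (by rw [b0, h, map_one]))
  have n2 : v₂ ≠ 1 := fun h => n1 (β.injective (by rw [b1, h, map_one]))
  have hall : ∀ v : X ⧸ frattini X, v = 1 ∨ v = v₀ ∨ v = v₁ ∨ v = v₂ := by
    classical
    letI := Fintype.ofFinite (X ⧸ frattini X)
    intro v
    by_contra h
    push Not at h
    have h5 : ({1, v₀, v₁, v₂, v} : Finset (X ⧸ frattini X)).card = 5 := by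
      rw [Finset.card_insert_of_notMem, Finset.card_insert_of_notMem, Finset.card_insert_of_notMem,
        Finset.card_insert_of_notMem, Finset.card_singleton]
      · simpa using h.2.2.2.symm
      · simp [h12.symm, h.2.2.1.symm]
      · simp [h01.symm, h20.symm, h.2.1.symm]
      · simp [n0.symm, n1.symm, n2.symm, h.1.symm]
    have := Finset.card_le_univ ({1, v₀, v₁, v₂, v} : Finset (X ⧸ frattini X))
    rw [h5, ← Nat.card_eq_fintype_card] at this
    omega
  have hsq : ∀ z : X, ((z : X ⧸ frattini X)) * z = 1 := fun z =>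
    by rw [← QuotientGroup.mk_mul, QuotientGroup.eq_one_iff, ← sq]; exact Cfsg.Agent.Solv.pow_mem_frattini hX z
  have hinv : v₀⁻¹ = v₀ := inv_eq_of_mul_eq_one_left (by rw [hv₀]; exact hsq x)
  have h012 : v₀ * v₁ = v₂ := by
    rcases hall (v₀ * v₁) with h | h | h | h
    · exact absurd (eq_inv_of_mul_eq_one_right h) (by rw [hinv]; exact h01)
    · exact absurd (mul_eq_left.1 h) n1
    · exact absurd (mul_eq_right.1 h) n0
    · exact h
  have hcover : ∀ H : Subgroup X, v₀ ∈ H.map (QuotientGroup.mk' (frattini X)) →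
      v₁ ∈ H.map (QuotientGroup.mk' (frattini X)) → H = ⊤ := by
    intro H m0 m1
    refine frattini_nongenerating (eq_top_iff.2 fun g _ => ?_)
    have hg : (g : X ⧸ frattini X) ∈ H.map (QuotientGroup.mk' (frattini X)) := by
      rcases hall (g : X ⧸ frattini X) with h | h | h | h <;> rw [h]
      · exact one_mem _
      · exact m0
      · exact m1
      · exact h012 ▸ mul_mem m0 m1
    obtain ⟨w, hw, hwe⟩ := Subgroup.mem_map.1 hg
    rw [show g = w * (w⁻¹ * g) by group]
    exact Subgroup.mul_mem_sup hw (QuotientGroup.eq.1 hwe)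
  refine ⟨x, ?_, ?_, fun g => ?_⟩
  · refine hcover _ ?_ ?_
    · exact hv₀ ▸ Subgroup.mem_map_of_mem _ (Subgroup.subset_closure (by simp))
    · exact hv₁ ▸ Subgroup.mem_map_of_mem _ (Subgroup.subset_closure (by simp))
  · have key : ∀ z : X, (z : X ⧸ frattini X)⁻¹ * (φ z : X) ∈
        (Subgroup.closure (Set.range fun g : X => g⁻¹ * φ g)).map (QuotientGroup.mk' (frattini X)) :=
      fun z => Subgroup.mem_map.2 ⟨_, Subgroup.subset_closure ⟨z, rfl⟩, rfl⟩
    have k0 := key x
    rw [← hv₀, ← hv₁, hinv, h012] at k0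
    have k1 := key (φ x)
    rw [← hv₁, ← hv₂] at k1
    have e0 : v₁⁻¹ * v₂ = v₀ := by
      have h' := congrArg β h012
      rw [map_mul, b0, b1, b2] at h'
      have hv1i : v₁⁻¹ = v₁ := inv_eq_of_mul_eq_one_left (by rw [hv₁]; exact hsq _)
      rw [hv1i]
      exact h'
    rw [e0] at k1
    refine hcover _ k1 ?_
    have : v₁ = v₀⁻¹ * v₂ := by rw [← h012]; group
    rw [this]
    exact mul_mem (inv_mem k1) k0
  · rcases hall (g : X ⧸ frattini X) with h | h | h | h
    · exact Or.inl ((QuotientGroup.eq_one_iff _).1 h)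
    · exact Or.inr (Or.inl (QuotientGroup.eq.1 (hv₀ ▸ h).symm))
    · exact Or.inr (Or.inr (Or.inl (QuotientGroup.eq.1 (hv₁ ▸ h).symm)))
    · exact Or.inr (Or.inr (Or.inr (QuotientGroup.eq.1 (hv₂ ▸ h).symm)))

/-- an abelian 2-group with an automorphism φ generated by `x`, `φ x` and by the `g⁻¹ φ g`. -/
theorem homocyclic {A : Type*} [CommGroup A] [Finite A] (hA : IsPGroup 2 A) (φ : MulAut A) (x : A)
    (hgen : Subgroup.closure ({x, φ x} : Set A) = ⊤)
    (hD : Subgroup.closure (Set.range fun g : A => g⁻¹ * φ g) = ⊤) :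
    ∃ n : ℕ, Nonempty (Multiplicative (ZMod (2 ^ n)) × Multiplicative (ZMod (2 ^ n)) ≃* A) := by
  obtain ⟨n, hn⟩ := IsPGroup.iff_orderOf.1 hA x
  have hny : orderOf (φ x) = 2 ^ n := by rw [← hn]; exact φ.orderOf_eq x
  have hfix : ∀ g : A, φ g = g → g = 1 := by
    let ψ : A →* A := MonoidHom.mk' (fun g => g⁻¹ * φ g) fun a b => by
      simp only [map_mul, mul_inv_rev]; ac_rfl
    have hs : Function.Surjective ψ := MonoidHom.range_eq_top.1 (eq_top_iff.2 (by
      rw [← hD, Subgroup.closure_le]; rintro _ ⟨g, rfl⟩; exact ⟨g, rfl⟩))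
    intro g hg
    exact (Finite.injective_iff_surjective.2 hs) (show ψ g = ψ 1 by
      rw [map_one]; show g⁻¹ * φ g = 1; rw [hg, inv_mul_cancel])
  haveI : NeZero (2 ^ n : ℕ) := ⟨pow_ne_zero _ two_ne_zero⟩
  let f : Multiplicative (ZMod (2 ^ n)) × Multiplicative (ZMod (2 ^ n)) →* A :=
    MonoidHom.mk' (fun ij => x ^ (Multiplicative.toAdd ij.1).val * φ x ^ (Multiplicative.toAdd ij.2).val)
      fun a b => by
        simp only [Prod.fst_mul, Prod.snd_mul, toAdd_mul, ZMod.val_add]
        rw [← pow_eq_pow_mod _ (hn ▸ pow_orderOf_eq_one x),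
          ← pow_eq_pow_mod _ (hny ▸ pow_orderOf_eq_one (φ x)), pow_add, pow_add]
        ac_rfl
  refine ⟨n, ⟨MulEquiv.ofBijective f ⟨?_, ?_⟩⟩⟩
  · refine (MonoidHom.ker_eq_bot_iff f).1 ?_
    by_contra hne
    haveI : Nontrivial f.ker := (Subgroup.nontrivial_iff_ne_bot _).2 hne
    have hkp : IsPGroup 2 f.ker := fun k => ⟨n, Subtype.ext (by
      simp only [SubgroupClass.coe_pow, OneMemClass.coe_one]
      ext <;>
      · apply Multiplicative.toAdd.injective
        simp)⟩
    obtain ⟨e, he⟩ := hkp.exists_card_eq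
    have he0 : e ≠ 0 := fun h => by
      have := Finite.one_lt_card (α := f.ker)
      rw [he, h] at this
      simp at this
    haveI : Fact (Nat.Prime 2) := ⟨Nat.prime_two⟩
    obtain ⟨⟨k, hk⟩, hk2⟩ := exists_prime_orderOf_dvd_card' (G := f.ker) 2
      (he ▸ dvd_pow_self 2 he0)
    obtain ⟨hk2, hk1⟩ := orderOf_eq_prime_iff.1 hk2
    have hkk : k * k = 1 := by
      have := congrArg Subtype.val hk2
      simpa [sq] using this
    have half : ∀ (i : ZMod (2 ^ n)), i + i = 0 → i.val = 0 ∨ 2 * i.val = 2 ^ n := by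
      intro i hi
      have hd : 2 ^ n ∣ 2 * i.val := by
        rw [← ZMod.natCast_eq_zero_iff, Nat.cast_mul, ZMod.natCast_zmod_val]
        rw [Nat.cast_ofNat, two_mul, hi]
      have hlt : i.val < 2 ^ n := ZMod.val_lt i
      obtain ⟨c, hc⟩ := hd
      rcases Nat.lt_or_ge c 1 with h | h
      · left; rw [show c = 0 by omega, mul_zero] at hc; omega
      · right
        rcases Nat.lt_or_ge c 2 with h' | h'
        · rw [show c = 1 by omega, mul_one] at hc; exact hc
        · exfalso; nlinarith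
    have h1 := half (Multiplicative.toAdd k.1) (by
      rw [← toAdd_mul, ← Prod.fst_mul, hkk]; rfl)
    have h2 := half (Multiplicative.toAdd k.2) (by
      rw [← toAdd_mul, ← Prod.snd_mul, hkk]; rfl)
    have hkf : x ^ (Multiplicative.toAdd k.1).val * φ x ^ (Multiplicative.toAdd k.2).val = 1 := hk
    have hz : ∀ (w : A), orderOf w = 2 ^ n → ∀ m : ℕ, m < 2 ^ n → w ^ m = 1 → m = 0 := by
      intro w hw m hm hwm
      exact Nat.eq_zero_of_dvd_of_lt (hw ▸ orderOf_dvd_of_pow_eq_one hwm) hm
    have hv0 : (Multiplicative.toAdd k.1).val = 0 ∧ (Multiplicative.toAdd k.2).val = 0 := by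
      rcases h1 with h1 | h1 <;> rcases h2 with h2 | h2
      · exact ⟨h1, h2⟩
      · rw [h1, pow_zero, one_mul] at hkf
        exact ⟨h1, hz _ hny _ (ZMod.val_lt _) hkf⟩
      · rw [h2, pow_zero, mul_one] at hkf
        exact ⟨hz _ hn _ (ZMod.val_lt _) hkf, h2⟩
      · exfalso
        have hij : (Multiplicative.toAdd k.2).val = (Multiplicative.toAdd k.1).val := by omega
        rw [hij, ← map_pow] at hkf
        have hu : (x ^ (Multiplicative.toAdd k.1).val) * x ^ (Multiplicative.toAdd k.1).val = 1 := by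
          rw [← pow_add, ← two_mul, h1, ← hn, pow_orderOf_eq_one]
        have hu1 := hfix _ (mul_left_cancel (hkf.trans hu.symm))
        have := hz _ hn _ (ZMod.val_lt _) hu1
        have h0 : 0 < 2 ^ n := pow_pos two_pos n
        omega
    apply hk1
    apply Subtype.ext
    refine Prod.ext ?_ ?_ <;> apply Multiplicative.toAdd.injective <;> refine (ZMod.val_eq_zero _).1 ?_
    · simpa using hv0.1
    · simpa using hv0.2
  · refine MonoidHom.range_eq_top.1 (eq_top_iff.2 ?_)
    rw [← hgen, Subgroup.closure_le]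
    have hx : x ∈ f.range := by
      refine ⟨(Multiplicative.ofAdd (1 : ZMod (2 ^ n)), 1), ?_⟩
      show x ^ (1 : ZMod (2 ^ n)).val * φ x ^ (0 : ZMod (2 ^ n)).val = x
      rw [ZMod.val_zero, pow_zero, mul_one, ZMod.val_one_eq_one_mod,
        ← pow_eq_pow_mod _ (hn ▸ pow_orderOf_eq_one x), pow_one]
    have hy : φ x ∈ f.range := by
      refine ⟨(1, Multiplicative.ofAdd (1 : ZMod (2 ^ n))), ?_⟩
      show x ^ (0 : ZMod (2 ^ n)).val * φ x ^ (1 : ZMod (2 ^ n)).val = φ x
      rw [ZMod.val_zero, pow_zero, one_mul, ZMod.val_one_eq_one_mod,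
        ← pow_eq_pow_mod _ (hny ▸ pow_orderOf_eq_one (φ x)), pow_one]
    rintro z (rfl | rfl)
    · exact hx
    · exact hy

/-- A finite metacyclic 2-group whose automorphism group is not a 2-group is isomorphic to the quaternion group of order 8 or to a homocyclic abelian group Z_{2^n} × Z_{2^n}. -/
theorem result {X : Type*} [Group X] [Finite X] (hX : IsPGroup 2 X)
    (hm : Cfsg.IsMetacyclic X) (hA : ¬ IsPGroup 2 (MulAut X)) :
    Nonempty (X ≃* QuaternionGroup 2) ∨
      ∃ n : ℕ, Nonempty (X ≃* Multiplicative (ZMod (2 ^ n)) × Multiplicative (ZMod (2 ^ n))) := by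
  classical
  obtain ⟨N, hN, hNc, hQc⟩ := hm
  haveI := hN
  haveI := hNc
  haveI := hQc
  obtain ⟨a, ha⟩ := IsCyclic.exists_generator (α := ↥N)
  obtain ⟨b', hb'⟩ := IsCyclic.exists_generator (α := X ⧸ N)
  induction b' using QuotientGroup.induction_on with | _ b
  have hab : Subgroup.closure ((({(a : X), b} : Finset X)) : Set X) = ⊤ := by
    refine eq_top_iff.2 fun g _ => ?_
    obtain ⟨i, hi⟩ := Subgroup.mem_zpowers_iff.1 (hb' (g : X ⧸ N))
    rw [← QuotientGroup.mk_zpow, QuotientGroup.eq] at hi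
    obtain ⟨j, hj⟩ := Subgroup.mem_zpowers_iff.1 (ha ⟨_, hi⟩)
    have hg : g = b ^ i * (a : X) ^ j := by
      have := congrArg Subtype.val hj
      simp only [SubgroupClass.coe_zpow] at this
      rw [this]; group
    rw [hg]
    exact mul_mem (zpow_mem (Subgroup.subset_closure (by simp)) i)
      (zpow_mem (Subgroup.subset_closure (by simp)) j)
  have hsmall : Nat.card (X ⧸ frattini X) ≤ 2 ^ 2 :=
    Cfsg.Agent.Solv.card_frattini_quot_le_of_two_gen hX _ Finset.card_le_two hab
  obtain ⟨q, hq, hqd, hq2⟩ : ∃ q : ℕ, q.Prime ∧ q ∣ Nat.card (MulAut X) ∧ q ≠ 2 := by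
    by_contra h
    push Not at h
    refine hA (IsPGroup.of_card (n := (Nat.card (MulAut X)).primeFactorsList.length) ?_)
    exact Nat.eq_prime_pow_of_unique_prime_dvd Nat.card_pos.ne' fun {d} hd hdd => h d hd hdd
  haveI : Fact q.Prime := ⟨hq⟩
  obtain ⟨φ, hφ⟩ := exists_prime_orderOf_dvd_card' (G := MulAut X) q hqd
  obtain ⟨hφ3, x, hgen, hD, htri⟩ := exists_gen hX hsmall hq2 φ hφ
  have hXD : ∀ H : Subgroup X, (∀ g : X, g⁻¹ * φ g ∈ H) → H = ⊤ := fun H h =>
    eq_top_iff.2 (hD ▸ (Subgroup.closure_le H).2 (by rintro _ ⟨g, rfl⟩; exact h g))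
  by_cases hcomm : ∀ g h : X, g * h = h * g
  · right
    letI : CommGroup X := { (inferInstance : Group X) with mul_comm := hcomm }
    obtain ⟨n, ⟨e⟩⟩ := homocyclic hX φ x hgen hD
    exact ⟨n, ⟨e.symm⟩⟩
  left
  -- the abelianization is homocyclic
  have hmk : Function.Surjective (Abelianization.of : X →* Abelianization X) := Quot.mk_surjective
  obtain ⟨n, ⟨e⟩⟩ := homocyclic (A := Abelianization X) (hX.of_surjective _ hmk)
    φ.abelianizationCongr (Abelianization.of x) (by
      have := congrArg (Subgroup.map (Abelianization.of : X →* Abelianization X)) hgen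
      rw [MonoidHom.map_closure, Subgroup.map_top_of_surjective _ hmk, Set.image_pair] at this
      rw [abelianizationCongr_of]
      exact this) (by
      have := congrArg (Subgroup.map (Abelianization.of : X →* Abelianization X)) hD
      rw [MonoidHom.map_closure, Subgroup.map_top_of_surjective _ hmk, ← Set.range_comp] at this
      rw [eq_top_iff, ← this, Subgroup.closure_le]
      rintro _ ⟨g, rfl⟩
      refine Subgroup.subset_closure ⟨Abelianization.of g, ?_⟩
      simp [abelianizationCongr_of])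
  have hindex : Nat.card (Abelianization X) = 2 ^ n * 2 ^ n := by
    rw [← Nat.card_congr e.toEquiv, Nat.card_prod, Nat.card_congr Multiplicative.toAdd,
      Nat.card_zmod]
  have hcardX : Nat.card X = 2 ^ n * 2 ^ n * Nat.card ↥(commutator X) := by
    rw [Subgroup.card_eq_card_quotient_mul_card_subgroup (commutator X)]
    exact congrArg (· * _) hindex
  have hexp : ∀ g : X, g ^ 2 ^ n ∈ commutator X := by
    intro g
    rw [← Abelianization.ker_of X, MonoidHom.mem_ker, map_pow, ← e.apply_symm_apply (Abelianization.of g),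
      ← map_pow]
    rw [show (e.symm (Abelianization.of g)) ^ 2 ^ n = 1 by
      ext <;>
      · apply Multiplicative.toAdd.injective
        simp, map_one]
  have hCN : commutator X ≤ N := by
    rw [commutator_def, Subgroup.commutator_le]
    intro g _ h _
    letI : CommGroup (X ⧸ N) := IsCyclic.commGroup
    refine (QuotientGroup.eq_one_iff (N := N) _).1 ?_
    show QuotientGroup.mk' N ⁅g, h⁆ = 1
    rw [map_commutatorElement, commutatorElement_eq_one_iff_mul_comm]
    exact mul_comm _ _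
  haveI : IsCyclic ↥(commutator X) :=
    isCyclic_of_injective (Subgroup.inclusion hCN) (Subgroup.inclusion_injective hCN)
  have hφC : ∀ d ∈ commutator X, φ d = d := by
    intro d hd
    have hm' : (commutator X).map (φ : X →* X) = commutator X :=
      Subgroup.characteristic_iff_map_eq.1 inferInstance φ
    obtain ⟨ψ, hψ⟩ : ∃ ψ : MulAut ↥(commutator X),
        ψ = (φ.subgroupMap (commutator X)).trans (MulEquiv.subgroupCongr hm') := ⟨_, rfl⟩
    have hψv : ∀ w : ↥(commutator X), ((ψ w : ↥(commutator X)) : X) = φ w := fun w => by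
      rw [hψ]; rfl
    have h3 : ψ ^ 3 = 1 := MulEquiv.ext fun w => Subtype.ext (by
      rw [MulAut.one_apply, pow_three, MulAut.mul_apply, MulAut.mul_apply,
        hψv, hψv, hψv, ← MulAut.mul_apply, ← MulAut.mul_apply, ← pow_three', hφ3,
        MulAut.one_apply])
    obtain ⟨k, hk⟩ := (hX.to_subgroup (commutator X)).exists_card_eq
    have hd3 : orderOf ψ ∣ Nat.gcd 3 (Nat.totient (2 ^ k)) := Nat.dvd_gcd (orderOf_dvd_of_pow_eq_one h3)
      (hk ▸ IsCyclic.card_mulAut ↥(commutator X) ▸ orderOf_dvd_natCard ψ)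
    have hg1 : Nat.gcd 3 (Nat.totient (2 ^ k)) = 1 := by
      rcases k.eq_zero_or_pos with rfl | hk0
      · simp
      · rw [Nat.totient_prime_pow Nat.prime_two hk0]
        exact Nat.Coprime.pow_right _ (by norm_num) |>.mul_right (by norm_num)
    rw [hg1, Nat.dvd_one, orderOf_eq_one_iff] at hd3
    have := hψv ⟨d, hd⟩
    rw [hd3, MulAut.one_apply] at this
    exact this.symm
  have hcen : ∀ d ∈ commutator X, ∀ g : X, g * d = d * g := by
    intro d hd
    have htop := hXD (Subgroup.centralizer {d}) fun g => by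
      refine Subgroup.mem_centralizer_singleton_iff.2 ?_
      have hcj : φ (g * d * g⁻¹) = g * d * g⁻¹ :=
        hφC _ ((inferInstance : (commutator X).Normal).conj_mem d hd g)
      rw [map_mul, map_mul, map_inv, hφC d hd] at hcj
      have h2 : φ g * d = g * d * g⁻¹ * φ g := by rw [← hcj]; group
      rw [mul_assoc, h2]; group
    intro g
    exact Subgroup.mem_centralizer_singleton_iff.1 (htop ▸ Subgroup.mem_top g)
  have hcm : ∀ g h : X, ⁅g, h⁆ ∈ commutator X := fun g h =>
    Subgroup.commutator_mem_commutator (Subgroup.mem_top g) (Subgroup.mem_top h)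
  have hmulL : ∀ g h z : X, ⁅g * h, z⁆ = ⁅h, z⁆ * ⁅g, z⁆ := fun g h z => by
    rw [show ⁅g * h, z⁆ = g * ⁅h, z⁆ * g⁻¹ * ⁅g, z⁆ by simp only [commutatorElement_def]; group,
      hcen _ (hcm h z) g]
    group
  obtain ⟨c, hc⟩ : ∃ c, c = ⁅x, φ x⁆ := ⟨_, rfl⟩
  have hcC : c ∈ commutator X := hc ▸ hcm _ _
  haveI hcn : (Subgroup.zpowers c).Normal := ⟨fun z hz g => by
    have hzC : z ∈ commutator X := (Subgroup.zpowers_le.2 hcC) hz
    rwa [hcen z hzC g, mul_inv_cancel_right]⟩
  have hCc : commutator X = Subgroup.zpowers c := by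
    refine le_antisymm ?_ (Subgroup.zpowers_le.2 hcC)
    let π := QuotientGroup.mk' (Subgroup.zpowers c)
    have hxy : π x * π (φ x) = π (φ x) * π x := by
      rw [← commutatorElement_eq_one_iff_mul_comm, ← map_commutatorElement, ← hc]
      exact (QuotientGroup.eq_one_iff c).2 (Subgroup.mem_zpowers c)
    have hall : ∀ g h : X, π g * π h = π h * π g := by
      have h1 : ∀ h : X, (π x * π h = π h * π x) ∧ (π (φ x) * π h = π h * π (φ x)) := by
        have htop : Subgroup.comap π (Subgroup.centralizer {π x, π (φ x)}) = ⊤ := by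
          rw [eq_top_iff, ← hgen, Subgroup.closure_le]
          rintro z (rfl | rfl) <;> intro w hw <;> rcases hw with rfl | rfl
          · rfl
          · exact hxy.symm
          · exact hxy
          · rfl
        intro h
        have hh : π h ∈ Subgroup.centralizer {π x, π (φ x)} := (htop ▸ Subgroup.mem_top h :)
        exact ⟨Subgroup.mem_centralizer_iff.1 hh _ (by simp), Subgroup.mem_centralizer_iff.1 hh _ (by simp)⟩
      intro g h
      have htop : Subgroup.comap π (Subgroup.centralizer {π h}) = ⊤ := by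
        rw [eq_top_iff, ← hgen, Subgroup.closure_le]
        rintro z (rfl | rfl)
        · exact Subgroup.mem_centralizer_singleton_iff.2 (h1 h).1
        · exact Subgroup.mem_centralizer_singleton_iff.2 (h1 h).2
      exact Subgroup.mem_centralizer_singleton_iff.1 (htop ▸ Subgroup.mem_top g :)
    rw [commutator_def, Subgroup.commutator_le]
    intro g _ h _
    refine (QuotientGroup.eq_one_iff _).1 ?_
    show π ⁅g, h⁆ = 1
    rw [map_commutatorElement, commutatorElement_eq_one_iff_mul_comm]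
    exact hall g h
  have hc1 : c ≠ 1 := by
    intro h1
    refine hcomm fun g h => commutatorElement_eq_one_iff_mul_comm.1 ?_
    have := hcm g h
    rw [hCc, h1, Subgroup.zpowers_one_eq_bot, Subgroup.mem_bot] at this
    exact this
  have hpowL : ∀ (g z : X) (m : ℕ), ⁅g ^ m, z⁆ = ⁅g, z⁆ ^ m := by
    intro g z m
    induction m with
    | zero => simp [commutatorElement_def]
    | succ m ih => rw [pow_succ, hmulL, ih, pow_succ']
  have hcpow : c ^ 2 ^ n = 1 := by
    rw [hc, ← hpowL, commutatorElement_eq_one_iff_mul_comm]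
    exact (hcen _ (hexp x) (φ x)).symm
  obtain ⟨k, hk⟩ := IsPGroup.iff_orderOf.1 hX c
  have hk0 : k ≠ 0 := fun h => hc1 (orderOf_eq_one_iff.1 (by rw [hk, h, pow_zero]))
  have hcardC : Nat.card ↥(commutator X) = 2 ^ k := by rw [hCc, Nat.card_zpowers, hk]
  have hkn : k ≤ n := (Nat.pow_dvd_pow_iff_le_right (le_refl 2)).1 (hk ▸ orderOf_dvd_of_pow_eq_one hcpow)
  rcases Nat.lt_or_ge n 2 with hn | hn
  · -- order eight
    obtain ⟨rfl, rfl⟩ : n = 1 ∧ k = 1 := ⟨by omega, by omega⟩
    rw [hcardC] at hcardX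
    have hcc : c * c = 1 := by rw [← sq]; simpa using hcpow
    have hCmem : ∀ d ∈ commutator X, d = 1 ∨ d = c := by
      intro d hd
      rw [hCc] at hd
      obtain ⟨i, rfl⟩ := Subgroup.mem_zpowers_iff.1 hd
      rcases Int.even_or_odd' i with ⟨j, rfl | rfl⟩
      · left; rw [zpow_mul, zpow_two, hcc, one_zpow]
      · right; rw [zpow_add, zpow_mul, zpow_two, hcc, one_zpow, one_mul, zpow_one]
    have hFC : frattini X ≤ commutator X := Cfsg.Agent.Solv.frattini_le (p := 2) (commutator X) hcm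
      fun g => by simpa using hexp g
    have hsq : ∀ g : X, g * g ∈ commutator X := fun g => by simpa [sq] using hexp g
    have htw : ∀ z g : X, z⁻¹ * g ∈ frattini X → g * g = z * z := by
      intro z g hzg
      obtain ⟨d, hd⟩ : ∃ d, d = z⁻¹ * g := ⟨_, rfl⟩
      have hdC : d ∈ commutator X := hd ▸ hFC hzg
      have hg : g = z * d := by rw [hd]; group
      have hdd : d * d = 1 := by rcases hCmem d hdC with rfl | rfl <;> simp [hcc]
      rw [hg, mul_assoc, ← mul_assoc d, ← hcen d hdC z, mul_assoc z d, hdd, mul_one]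
    have hp : ∀ z : X, φ z * φ z = z * z := fun z => by rw [← map_mul]; exact hφC _ (hsq z)
    have hxx : x * x = c := by
      rcases hCmem _ (hsq x) with h | h
      · exfalso
        have hy : φ x * φ x = 1 := (hp x).trans h
        have hz : φ (φ x) * φ (φ x) = 1 := (hp _).trans hy
        have hall : ∀ g : X, g * g = 1 := by
          intro g
          rcases htri g with h' | h' | h' | h'
          · rcases hCmem g (hFC h') with rfl | rfl <;> simp [hcc]
          · rw [htw x g h', h]
          · rw [htw _ g h', hy]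
          · rw [htw _ g h', hz]
        refine hcomm fun g h => ?_
        have hi : ∀ w : X, w⁻¹ = w := fun w => inv_eq_of_mul_eq_one_left (hall w)
        calc g * h = (g * h)⁻¹ := (hi _).symm
          _ = h * g := by rw [mul_inv_rev, hi, hi]
      · exact h
    have hinv : ∀ g : X, g * g = 1 → g = 1 ∨ g = c := by
      intro g hg
      rcases htri g with h' | h' | h' | h'
      · exact hCmem g (hFC h')
      · rw [htw x g h', hxx] at hg; exact absurd hg hc1
      · rw [htw _ g h', hp, hxx] at hg; exact absurd hg hc1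
      · rw [htw _ g h', hp, hp, hxx] at hg; exact absurd hg hc1
    haveI : Fact (Nat.Prime 2) := ⟨Nat.prime_two⟩
    have hu : Cfsg.Agent.Solv.UniqueOrderP 2 X := by
      intro u v hu' hv hv1
      rcases hinv u (by rw [← sq]; exact hu') with rfl | rfl
      · exact one_mem _
      · rcases hinv v (by rw [← sq]; exact hv) with h | h
        · exact absurd h hv1
        · rw [h]; exact Subgroup.mem_zpowers _
    rcases Cfsg.Agent.Solv.cyclic_or_quaternion hX hu with hcy | ⟨-, m, ⟨eq⟩⟩
    · exfalso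
      letI : CommGroup X := IsCyclic.commGroup
      exact hcomm mul_comm
    · haveI : NeZero (2 ^ m : ℕ) := ⟨pow_ne_zero _ two_ne_zero⟩
      have hm1 := Nat.card_congr eq.toEquiv
      rw [hcardX, Nat.card_eq_fintype_card (α := QuaternionGroup (2 ^ m)), QuaternionGroup.card] at hm1
      have : m = 1 := Nat.pow_right_injective (le_refl 2) (show 2 ^ m = 2 ^ 1 by omega)
      subst this
      exact ⟨eq⟩
  · -- exponent argument
    exfalso
    haveI hKn : (Subgroup.zpowers (c ^ 2)).Normal := ⟨fun z hz g => by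
      have hzC : z ∈ commutator X := (Subgroup.zpowers_le.2 (pow_mem hcC 2)) hz
      rwa [hcen z hzC g, mul_inv_cancel_right]⟩
    let π := QuotientGroup.mk' (Subgroup.zpowers (c ^ 2))
    have hcomm2 : ∀ g h : X, π (⁅g, h⁆ ^ 2) = 1 := by
      intro g h
      obtain ⟨i, hi⟩ := Subgroup.mem_zpowers_iff.1 (hCc ▸ hcm g h)
      refine (QuotientGroup.eq_one_iff _).2 ?_
      rw [← hi, show (c ^ i) ^ 2 = (c ^ 2) ^ i by group]
      exact zpow_mem (Subgroup.mem_zpowers _) i
    have hsqc : ∀ g h : X, Commute (π g ^ 2) (π h) := fun g h => by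
      refine commutatorElement_eq_one_iff_mul_comm.1 ?_
      rw [← map_pow, ← map_commutatorElement, hpowL]
      exact hcomm2 g h
    have h4 : ∀ g h : X, π (g * h) ^ 4 = π g ^ 4 * π h ^ 4 := by
      intro g h
      have h2 : π (g * h) ^ 2 = π g ^ 2 * π h ^ 2 * π ⁅h, g⁆ := by
        have hd : (g * h) * (g * h) = g * g * (h * h) * ⁅h, g⁆ := by
          rw [show (g * h) * (g * h) = g * (⁅h, g⁆ * (g * h)) * h by
            simp only [commutatorElement_def]; group, ← hcen _ (hcm h g) (g * h)]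
          rw [show g * (g * h * ⁅h, g⁆) * h = g * g * h * (⁅h, g⁆ * h) by group,
            ← hcen _ (hcm h g) h]
          group
        rw [sq (π (g * h)), sq (π g), sq (π h), ← map_mul, hd]
        simp [map_mul]
      have hcd : ∀ w, Commute (π ⁅h, g⁆) (π w) := fun w =>
        (Commute.map (hcen _ (hcm h g) w).symm π : _)
      rw [show (4 : ℕ) = 2 * 2 from rfl, pow_mul, h2, pow_mul, pow_mul,
        ((hcd g).symm.pow_left 2 |>.mul_left ((hcd h).symm.pow_left 2)).mul_pow,
        ← map_pow π ⁅h, g⁆, hcomm2, mul_one, ((hsqc g h).pow_right 2).mul_pow]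
    have hm' : ∀ g h : X, π (g * h) ^ 2 ^ n = π g ^ 2 ^ n * π h ^ 2 ^ n := by
      intro g h
      obtain ⟨r, hr⟩ : ∃ r, 2 ^ n = 4 * r := ⟨2 ^ (n - 2), by
        rw [show (4 : ℕ) = 2 ^ 2 from rfl, ← pow_add]; congr 1; omega⟩
      have hc44 : Commute (π g ^ 4) (π h ^ 4) := by
        have := ((hsqc g h).pow_right 4).pow_left 2
        rwa [← pow_mul] at this
      rw [hr, pow_mul, h4, hc44.mul_pow, ← pow_mul, ← pow_mul]
    let P : X →* X ⧸ Subgroup.zpowers (c ^ 2) :=
      MonoidHom.mk' (fun g => π g ^ 2 ^ n) hm'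
    have hP : ∀ g : X, g ^ 2 ^ n ∈ Subgroup.zpowers (c ^ 2) := by
      have htop := hXD P.ker fun g => by
        rw [MonoidHom.mem_ker, map_mul, map_inv, inv_mul_eq_one]
        show π g ^ 2 ^ n = π (φ g) ^ 2 ^ n
        rw [← map_pow, ← map_pow, ← map_pow φ, hφC _ (hexp g)]
      intro g
      have hg : P g = 1 := (htop ▸ Subgroup.mem_top g : g ∈ P.ker)
      refine (QuotientGroup.eq_one_iff _).1 ?_
      show π (g ^ 2 ^ n) = 1
      rw [map_pow]; exact hg
    have hK : (c ^ 2) ^ 2 ^ (k - 1) = 1 := by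
      rw [← pow_mul, ← pow_succ', show k - 1 + 1 = k by omega, ← hk, pow_orderOf_eq_one]
    have hNcard : Nat.card ↥N ≤ 2 ^ n * 2 ^ (k - 1) := by
      rw [← orderOf_eq_card_of_forall_mem_zpowers ha]
      refine Nat.le_of_dvd (by positivity) (orderOf_dvd_of_pow_eq_one (Subtype.ext ?_))
      obtain ⟨i, hi⟩ := Subgroup.mem_zpowers_iff.1 (hP (a : X))
      rw [SubgroupClass.coe_pow, OneMemClass.coe_one, pow_mul, ← hi, ← zpow_natCast, zpow_comm,
        zpow_natCast, hK, one_zpow]
    have hQcard : Nat.card (X ⧸ N) ≤ 2 ^ n := by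
      rw [← orderOf_eq_card_of_forall_mem_zpowers hb']
      refine Nat.le_of_dvd (by positivity) (orderOf_dvd_of_pow_eq_one ?_)
      rw [← QuotientGroup.mk_pow, QuotientGroup.eq_one_iff]
      exact hCN ((Subgroup.zpowers_le.2 (pow_mem hcC 2)) (hP b))
    have hle : Nat.card X ≤ 2 ^ n * (2 ^ n * 2 ^ (k - 1)) := by
      rw [Subgroup.card_eq_card_quotient_mul_card_subgroup N]
      exact Nat.mul_le_mul hQcard hNcard
    rw [hcardX, hcardC, show k = k - 1 + 1 by omega, pow_succ] at hle
    simp only [add_tsub_cancel_right] at hle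
    have hpos : 0 < 2 ^ n * (2 ^ n * 2 ^ (k - 1)) := by positivity
    nlinarith

end Cfsg.Agent.S1896
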