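import Cfsg.Statements.S1897
import Cfsg.Agent.Lib.Lie.SU3Three
import Cfsg.Agent.Lib.Lie.SL2Hom
import Cfsg.Agent.Lib.Classical.Dickson.Tools

set_option autoImplicit false
open Cfsg
open scoped commutatorElement

namespace Cfsg.Agent.S1897

open scoped Matrix
open Cfsg.Agent.Lie

/-- The field of order nine used for computation. -/
abbrev R := Cfsg.Agent.Lie.SU3Three.R9

/-- An element of order seven. -/
def uu : Matrix.SpecialLinearGroup (Fin 3) R :=
  ⟨!![⟨0, 0⟩, ⟨1, 1⟩, ⟨1, 1⟩; ⟨0, 0⟩, ⟨1, 1⟩, ⟨2, 2⟩; ⟨0, 1⟩, ⟨0, 0⟩, ⟨0, 0⟩], by decide +kernel⟩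

/-- A second element of order seven. -/
def vv : Matrix.SpecialLinearGroup (Fin 3) R :=
  ⟨!![⟨0, 1⟩, ⟨0, 2⟩, ⟨2, 2⟩; ⟨0, 1⟩, ⟨1, 2⟩, ⟨2, 0⟩; ⟨2, 2⟩, ⟨1, 0⟩, ⟨0, 2⟩], by decide +kernel⟩

/-- Powers indexed by the residues. -/
def fu (t : ZMod 7) : Matrix.SpecialLinearGroup (Fin 3) R := uu ^ t.val

/-- Powers indexed by the residues. -/
def fv (t : ZMod 7) : Matrix.SpecialLinearGroup (Fin 3) R := vv ^ t.val

/-- Explicit inverse modulo seven. -/
def inv7 (t : ZMod 7) : ZMod 7 := t ^ 5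

theorem inv7_eq (t : ZMod 7) : t⁻¹ = inv7 t := by
  have h : ∀ a : ZMod 7, a ≠ 0 → a * inv7 a = 1 := by decide +kernel
  haveI : Fact (Nat.Prime 7) := ⟨by norm_num⟩
  by_cases ht : t = 0
  · subst ht; simp [inv7]
  · exact inv_eq_of_mul_eq_one_right (h t ht)

theorem uv_unitary : ∀ x ∈ [uu, vv], (x : Matrix (Fin 3) (Fin 3) R).transpose *
    (x : Matrix (Fin 3) (Fin 3) R).map (fun r => r * r * r) = 1 := by decide +kernel

theorem u_ord : uu ^ 7 = 1 ∧ vv ^ 7 = 1 := by decide +kernel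

theorem u_noncentral : uu * vv ≠ vv * uu := by decide +kernel


theorem rel_flip : ∀ z : ZMod 7, fu 1 * fv (-1) * fu 1 * fv z = fu (-z) * (fu 1 * fv (-1) * fu 1) := by
  decide +kernel

theorem rel_mul : ∀ a b : ZMod 7, a ≠ 0 → b ≠ 0 →
    (fu a * fv (-inv7 a) * fu a * (fu (-1) * fv 1 * fu (-1))) *
      (fu b * fv (-inv7 b) * fu b * (fu (-1) * fv 1 * fu (-1))) =
      fu (a * b) * fv (-inv7 (a * b)) * fu (a * b) * (fu (-1) * fv 1 * fu (-1)) := by
  decide +kernel

theorem rel_conj : ∀ a s : ZMod 7, a ≠ 0 →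
    (fu a * fv (-inv7 a) * fu a * (fu (-1) * fv 1 * fu (-1))) * fu s =
      fu (a ^ 2 * s) * (fu a * fv (-inv7 a) * fu a * (fu (-1) * fv 1 * fu (-1))) := by
  decide +kernel

theorem h_neg : fu (-1) * fv (-inv7 (-1)) * fu (-1) * (fu (-1) * fv 1 * fu (-1)) = 1 := by decide +kernel

theorem pow_val_add {M : Type*} [Monoid M] (x : M) (hx : x ^ 7 = 1) (a b : ZMod 7) :
    x ^ (a + b).val = x ^ a.val * x ^ b.val := by
  rw [← pow_add, ZMod.val_add]
  exact (pow_eq_pow_mod _ hx).symm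

theorem hinv : ∀ x y : ZMod 3, (⟨x, y⟩ : R) ≠ 0 → ∃ u v : ZMod 3, (⟨x, y⟩ : R) * ⟨u, v⟩ = 1 := by decide +kernel

theorem fu_add (a b : ZMod 7) : fu (a + b) = fu a * fu b := pow_val_add uu u_ord.1 a b

theorem fv_add (a b : ZMod 7) : fv (a + b) = fv a * fv b := pow_val_add vv u_ord.2 a b

theorem fu_mem {K : Subgroup (Matrix.SpecialLinearGroup (Fin 3) R)} (h : uu ∈ K) (t : ZMod 7) : fu t ∈ K :=
  pow_mem h _

theorem fv_mem {K : Subgroup (Matrix.SpecialLinearGroup (Fin 3) R)} (h : vv ∈ K) (t : ZMod 7) : fv t ∈ K :=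
  pow_mem h _

theorem fu_one : fu 1 = uu := pow_one uu

theorem center_le_ker {Γ : Type*} [Group Γ] [Fact (Nat.Prime 7)] {u v : ZMod 7 → Γ} (Rel : RankOneRel u v)
    (hneg : u (-1) * v (-(-1 : ZMod 7)⁻¹) * u (-1) * (u (-1) * v 1 * u (-1)) = 1) :
    Subgroup.center (Matrix.SpecialLinearGroup (Fin 2) (ZMod 7)) ≤ Rel.hom.ker := by
  intro z hz
  have hz' := Subgroup.mem_center_iff.1 hz
  have h1 := congrArg (fun g : Matrix.SpecialLinearGroup (Fin 2) (ZMod 7) => g.1 0 1) (hz' (upS 1))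
  have h2 := congrArg (fun g : Matrix.SpecialLinearGroup (Fin 2) (ZMod 7) => g.1 1 1) (hz' (upS 1))
  simp [RankOneRel.entries_mul, RankOneRel.upS_val] at h1 h2
  have h10 : z.1 1 0 = 0 := h2
  have h11 : z.1 1 1 = z.1 0 0 := by linear_combination h1
  have h3 := congrArg (fun g : Matrix.SpecialLinearGroup (Fin 2) (ZMod 7) => g.1 0 0) (hz' (loS 1))
  simp [RankOneRel.entries_mul, RankOneRel.loS_val] at h3
  have h01 : z.1 0 1 = 0 := h3
  have hd := RankOneRel.det_eq z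
  rw [h11, h01, zero_mul, sub_zero] at hd
  have ha : z.1 0 0 = 1 ∨ z.1 0 0 = -1 := mul_self_eq_one_iff.1 hd
  rw [MonoidHom.mem_ker]
  show RankOneRel.toFun _ _ z = 1
  unfold RankOneRel.toFun
  rw [if_pos h10, h01, zero_div, Rel.u_zero, mul_one]
  rcases ha with e | e
  · rw [e, Rel.hh_one]
  · rw [e, RankOneRel.hh_eq]
    exact hneg

attribute [local irreducible] fu fv uu vv

set_option maxHeartbeats 800000 in
/-- The projective special unitary group PSU₃(3) (realised over the field with 9 elements) has a subgroup isomorphic to PSL₂(7). -/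
theorem result {F : Type*} [Field F] [Fintype F] (hF : Fintype.card F = 9)
    {K : Type*} [Field K] [Fintype K] (hK : Fintype.card K = 7) :
    ∃ H : Subgroup (Cfsg.PSU 3 F 3), Nonempty (H ≃* Matrix.ProjectiveSpecialLinearGroup (Fin 2) K) := by
  classical
  haveI : Fact (Nat.Prime 3) := ⟨by norm_num⟩
  haveI : Fact (Nat.Prime 7) := ⟨by norm_num⟩
  haveI : CharP F 3 := charP_of_card_eq_prime_pow (f := 2) (by rw [hF]; norm_num)
  obtain ⟨i, hi⟩ : IsSquare (-1 : F) := FiniteField.isSquare_neg_one_iff.2 (by rw [hF]; norm_num)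
  let c : ZMod 3 →+* F := ZMod.castHom dvd_rfl F
  have hc2 : i * i = c 2 := by
    rw [← hi, show (2 : ZMod 3) = -1 from rfl, map_neg, map_one]
  let φ : R →+* F :=
    { toFun := fun r => c r.re + c r.im * i
      map_one' := by show c 1 + c 0 * i = 1; simp
      map_zero' := by show c 0 + c 0 * i = 0; simp
      map_add' := fun r s => by simp; ring
      map_mul' := fun r s => by
        simp only [QuadraticAlgebra.re_mul, QuadraticAlgebra.im_mul, map_add, map_mul, map_zero, zero_mul, add_zero]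
        linear_combination -(c r.im * c s.im) * hc2 }
  have hinj : Function.Injective φ := (injective_iff_map_eq_zero φ).2 fun r hr => by
    by_contra hne
    obtain ⟨u, v, hs⟩ := hinv r.re r.im hne
    simpa [hr] using (congrArg φ hs)
  let Φ : Matrix.SpecialLinearGroup (Fin 3) R →* Matrix.SpecialLinearGroup (Fin 3) F :=
    Matrix.SpecialLinearGroup.map φ
  have hΦ : Function.Injective Φ := fun a b h => Subtype.ext (Matrix.map_injective hinj (congrArg Subtype.val h))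
  have hgen : ∀ x ∈ [uu, vv], Φ x ∈ Cfsg.SU 3 F 3 := fun x hx => by
    rw [Cfsg.Agent.Lie.SU3Three.mem_SU_iff]
    have h := congrArg (fun A : Matrix (Fin 3) (Fin 3) R => A.map φ) (uv_unitary x hx)
    simp only [Matrix.map_mul, Matrix.map_one φ (map_zero φ) (map_one φ), ← Matrix.transpose_map, Matrix.map_map] at h
    rw [show (Φ x : Matrix (Fin 3) (Fin 3) F) = (x : Matrix (Fin 3) (Fin 3) R).map φ from rfl, Matrix.map_map]
    rw [show ((frobenius F 3) ∘ φ) = (φ ∘ fun r => r * r * r) from funext fun r => by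
      show (φ r) ^ 3 = φ (r * r * r)
      rw [map_mul, map_mul, pow_succ, pow_two]]
    exact h
  let K0 := (Cfsg.SU 3 F 3).comap Φ
  have hu : uu ∈ K0 := hgen _ (by simp)
  have hv : vv ∈ K0 := hgen _ (by simp)
  let π : K0 →* Cfsg.PSU 3 F 3 :=
    (QuotientGroup.mk' (Subgroup.center (Cfsg.SU 3 F 3))).comp (MonoidHom.subgroupComap Φ (Cfsg.SU 3 F 3))
  have Rel : RankOneRel (fun t : ZMod 7 => (⟨fu t, fu_mem hu _⟩ : K0)) (fun t => ⟨fv t, fv_mem hv _⟩) :=
    { u_add := fun a b => Subtype.ext (fu_add a b)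
      v_add := fun a b => Subtype.ext (fv_add a b)
      flip := fun z => Subtype.ext (by
        show fu 1 * fv (-1) * fu 1 * fv z * (fu 1 * fv (-1) * fu 1)⁻¹ = fu (-z)
        rw [rel_flip z, mul_inv_cancel_right])
      h_mul := fun a b ha hb => Subtype.ext (by
        simp only [inv7_eq]
        exact rel_mul a b ha hb)
      h_conj := fun a s ha => Subtype.ext (by
        simp only [inv7_eq]
        show fu a * fv (-inv7 a) * fu a * (fu (-1) * fv 1 * fu (-1)) * fu s *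
          (fu a * fv (-inv7 a) * fu a * (fu (-1) * fv 1 * fu (-1)))⁻¹ = fu (a ^ 2 * s)
        rw [rel_conj a s ha, mul_inv_cancel_right]) }
  let ρ : Matrix.SpecialLinearGroup (Fin 2) (ZMod 7) →* Cfsg.PSU 3 F 3 := π.comp Rel.hom
  have hneg : (⟨fu (-1), fu_mem hu _⟩ : K0) * ⟨fv (-(-1 : ZMod 7)⁻¹), fv_mem hv _⟩ * ⟨fu (-1), fu_mem hu _⟩ *
      (⟨fu (-1), fu_mem hu _⟩ * ⟨fv 1, fv_mem hv _⟩ * ⟨fu (-1), fu_mem hu _⟩) = 1 := by
    refine Subtype.ext ?_
    simp only [inv7_eq]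
    exact h_neg
  have hZ : Subgroup.center (Matrix.SpecialLinearGroup (Fin 2) (ZMod 7)) ≤ ρ.ker := fun z hz =>
    (congrArg π (center_le_ker Rel hneg hz)).trans (map_one π)
  let ψ : Matrix.ProjectiveSpecialLinearGroup (Fin 2) (ZMod 7) →* Cfsg.PSU 3 F 3 := QuotientGroup.lift _ ρ hZ
  haveI : IsSimpleGroup (Matrix.ProjectiveSpecialLinearGroup (Fin 2) (ZMod 7)) :=
    Matrix.ProjectiveSpecialLinearGroup.rank_two_simple (by rw [Nat.card_zmod]; norm_num)
  have hψ : Function.Injective ψ := by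
    rcases (MonoidHom.normal_ker ψ).eq_bot_or_eq_top with h | h
    · exact (MonoidHom.ker_eq_bot_iff ψ).1 h
    · exfalso
      have h1 : π ⟨fu 1, fu_mem hu _⟩ = 1 := by
        rw [← Rel.hom_up 1]
        exact (h ▸ Subgroup.mem_top (QuotientGroup.mk (upS 1) : Matrix.ProjectiveSpecialLinearGroup (Fin 2) (ZMod 7)) :
          (QuotientGroup.mk (upS 1) : Matrix.ProjectiveSpecialLinearGroup (Fin 2) (ZMod 7)) ∈ ψ.ker)
      have h2 := Subgroup.mem_center_iff.1 ((QuotientGroup.eq_one_iff _).1 h1) ⟨Φ vv, hv⟩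
      have h3 : vv * uu = uu * vv := hΦ (by
        rw [map_mul, map_mul]
        have h4 := congrArg Subtype.val h2
        rw [← fu_one]
        exact h4)
      exact u_noncentral h3.symm
  haveI : CharP K 7 := charP_of_card_eq_prime_pow (f := 1) (by rw [hK]; norm_num)
  let e : ZMod 7 ≃+* K := ZMod.ringEquiv K hK
  refine ⟨ψ.range, ⟨(MonoidHom.ofInjective hψ).symm.trans ?_⟩⟩
  exact Cfsg.Agent.Classical.Dickson.pslCongr e

end Cfsg.Agent.S1897
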