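import Cfsg.Statements.S1898


set_option autoImplicit false
open Cfsg

namespace Cfsg.Agent.S1898

open scoped commutatorElement

/-- Let X be a finite 2-group whose derived subgroup is elementary abelian and central. Then the subgroup generated by the elements of order dividing 4 has exponent dividing 4, and every automorphism of X fixing each element of order dividing 4 has 2-power order. -/
theorem result {X : Type*} [Group X] [Finite X] (hX : IsPGroup 2 X)
    (hel : Cfsg.IsElementaryAbelian 2 (commutator X)) (hcen : commutator X ≤ Subgroup.center X) :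
    (∀ x ∈ Subgroup.closure {g : X | g ^ 4 = 1}, x ^ 4 = 1) ∧
      ∀ φ : MulAut X, (∀ g : X, g ^ 4 = 1 → φ g = g) → ∃ k : ℕ, φ ^ (2 ^ k) = 1 := by
  have hc : ∀ a b : X, ⁅a, b⁆ ^ 2 = 1 ∧ ∀ z, z * ⁅a, b⁆ = ⁅a, b⁆ * z := fun a b => by
    have h : ⁅a, b⁆ ∈ commutator X := Subgroup.commutator_mem_commutator (Subgroup.mem_top a) (Subgroup.mem_top b)
    exact ⟨hel.2 _ h, fun z => Subgroup.mem_center_iff.1 (hcen h) z⟩
  have hsqc : ∀ a b : X, Commute (a ^ 2) b := by
    intro a b
    refine commutatorElement_eq_one_iff_commute.1 ?_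
    calc ⁅a ^ 2, b⁆ = a * ⁅a, b⁆ * a⁻¹ * ⁅a, b⁆ := by
          simp only [commutatorElement_def, pow_two]; group
      _ = ⁅a, b⁆ * ⁅a, b⁆ := by rw [(hc a b).2 a, mul_inv_cancel_right]
      _ = 1 := by rw [← pow_two, (hc a b).1]
  have hsq : ∀ a b : X, (a * b) ^ 2 = a ^ 2 * b ^ 2 * ⁅b, a⁆ := by
    intro a b
    have e : b * a = ⁅b, a⁆ * (a * b) := by rw [commutatorElement_def]; group
    calc (a * b) ^ 2 = a * (b * a) * b := by rw [pow_two]; group
      _ = (a * ⁅b, a⁆) * a * b * b := by rw [e]; group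
      _ = ⁅b, a⁆ * (a ^ 2 * b ^ 2) := by rw [(hc b a).2 a, pow_two, pow_two]; group
      _ = _ := ((hc b a).2 _).symm
  have hfour : ∀ a b : X, (a * b) ^ 4 = a ^ 4 * b ^ 4 := by
    intro a b
    have h1 : Commute (a ^ 2) (b ^ 2) := hsqc a _
    have h2 : Commute (a ^ 2 * b ^ 2) ⁅b, a⁆ := (hc b a).2 _
    rw [show 4 = 2 * 2 from rfl, pow_mul, pow_mul, pow_mul, hsq, h2.mul_pow, (hc b a).1, mul_one,
      h1.mul_pow]
  refine ⟨fun x hx => ?_, fun φ hφ => ?_⟩
  · induction hx using Subgroup.closure_induction with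
    | mem a ha => exact ha
    | one => exact one_pow _
    | mul a b _ _ iha ihb => rw [hfour, iha, ihb, one_mul]
    | inv a _ iha => rw [inv_pow, iha, inv_one]
  obtain ⟨k, m, hm, hkm⟩ := Nat.exists_eq_two_pow_mul_odd (orderOf_pos φ).ne'
  refine ⟨k, ?_⟩
  set ψ := φ ^ (2 ^ k) with hψdef
  have hψm : ψ ^ m = 1 := by rw [hψdef, ← pow_mul, ← hkm, pow_orderOf_eq_one]
  have hψ4 : ∀ g : X, g ^ 4 = 1 → ψ g = g := by
    intro g hg
    have : ∀ j : ℕ, (φ ^ j) g = g := by
      intro j
      induction j with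
      | zero => rfl
      | succ j ih => rw [pow_succ, MulAut.mul_apply, hφ g hg, ih]
    exact this _
  have key : ∀ n (g : X), orderOf g ≤ n → ψ g = g := by
    intro n
    induction n with
    | zero => intro g hg; exact absurd (Nat.le_zero.1 hg) (orderOf_pos g).ne'
    | succ n ih =>
      intro g hg
      by_cases h4 : g ^ 4 = 1
      · exact hψ4 g h4
      have hg2 : ψ (g ^ 2) = g ^ 2 := by
        refine ih _ ?_
        obtain ⟨a, ha⟩ := IsPGroup.iff_orderOf.1 hX g
        have ha2 : 2 ≤ a := by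
          by_contra h
          refine h4 (orderOf_dvd_iff_pow_eq_one.1 ?_)
          rw [ha]
          exact (pow_dvd_pow 2 (by omega : a ≤ 2))
        have h2 : orderOf (g ^ 2) = 2 ^ (a - 1) := by
          rw [orderOf_pow' _ two_ne_zero, ha, Nat.gcd_eq_right (dvd_pow_self 2 (by omega)),
            Nat.div_eq_of_eq_mul_left two_pos]
          rw [← pow_succ, Nat.sub_add_cancel (by omega)]
        rw [h2]
        have : 2 ^ (a - 1) < 2 ^ a := Nat.pow_lt_pow_right one_lt_two (by omega)
        rw [← ha] at this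
        omega
      set u := g⁻¹ * ψ g with hu
      have he : ψ g = g * u := by rw [hu, mul_inv_cancel_left]
      have hu2 : u ^ 2 * ⁅u, g⁆ = 1 := by
        have h1 := hg2
        rw [map_pow, he, hsq, mul_assoc] at h1
        exact mul_eq_left.1 h1
      have hu4 : u ^ 4 = 1 := by
        rw [show 4 = 2 * 2 from rfl, pow_mul, eq_inv_of_mul_eq_one_left hu2, inv_pow, (hc u g).1, inv_one]
      have hiter : ∀ j : ℕ, (ψ ^ j) g = g * u ^ j := by
        intro j
        induction j with
        | zero => simp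
        | succ j ihj =>
          rw [pow_succ', MulAut.mul_apply, ihj, map_mul, map_pow, hψ4 u hu4, he, mul_assoc, ← pow_succ']
      have hum : u ^ m = 1 := by
        have h1 := hiter m
        rw [hψm, MulAut.one_apply] at h1
        exact left_eq_mul.1 h1
      have hu1 : u = 1 := by
        obtain ⟨j, hj⟩ := hm
        obtain ⟨i, rfl⟩ | ⟨i, rfl⟩ := Nat.even_or_odd j
        · rw [hj, show 2 * (i + i) + 1 = 4 * i + 1 by ring, pow_add, pow_mul, hu4, one_pow, one_mul, pow_one] at hum
          exact hum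
        · rw [hj, show 2 * (2 * i + 1) + 1 = 4 * i + 3 by ring, pow_add, pow_mul, hu4, one_pow, one_mul] at hum
          calc u = u ^ 4 := by rw [pow_succ, hum, one_mul]
            _ = 1 := hu4
      rw [he, hu1, mul_one]
  exact MulEquiv.ext fun g => key _ g le_rfl

end Cfsg.Agent.S1898
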