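import Cfsg.Statements.S1899


set_option autoImplicit false
open Cfsg

namespace Cfsg.Agent.S1899

/-- Let a dihedral group of order 2n, n odd and n > 1, act on a finite abelian 2-group A through automorphisms d and t with d^n = 1, t² = 1 and t d t⁻¹ = d⁻¹, and suppose that d fixes only the identity. Then A is the internal direct product of C_A(t) and its image under d. -/
theorem result {A : Type*} [CommGroup A] [Finite A] (hA : IsPGroup 2 A)
    {n : ℕ} (hn : Odd n) (hn1 : 1 < n) (d t : MulAut A) (hd : d ^ n = 1) (ht : t ^ 2 = 1) (hdt : t * d * t⁻¹ = d⁻¹)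
    (hfix : ∀ a : A, d a = a → a = 1) :
    (MulEquiv.toMonoidHom t).eqLocus (MonoidHom.id A) ⊓ ((MulEquiv.toMonoidHom t).eqLocus (MonoidHom.id A)).map d.toMonoidHom = ⊥ ∧
      (MulEquiv.toMonoidHom t).eqLocus (MonoidHom.id A) ⊔ ((MulEquiv.toMonoidHom t).eqLocus (MonoidHom.id A)).map d.toMonoidHom = ⊤ := by
  set C := (MulEquiv.toMonoidHom t).eqLocus (MonoidHom.id A) with hC
  have hmem : ∀ a, a ∈ C ↔ t a = a := fun a => Iff.rfl
  have htd : ∀ a, t (d a) = d⁻¹ (t a) := fun a => by
    rw [← hdt]
    simp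
  have htd' : ∀ a, t (d⁻¹ a) = d (t a) := fun a => by
    have h := htd (d⁻¹ a)
    rw [MulAut.apply_inv_self] at h
    rw [h, MulAut.apply_inv_self]
  have hsq : ∀ a, d (d a) = a → a = 1 := by
    intro a ha
    refine hfix a ?_
    have h2 : ∀ k : ℕ, (d ^ (2 * k)) a = a := by
      intro k
      induction k with
      | zero => simp
      | succ k ih => rw [show 2 * (k + 1) = 2 * k + 2 by ring, pow_add, MulAut.mul_apply, pow_two, MulAut.mul_apply, ha, ih]
    obtain ⟨k, hk⟩ := hn
    have h3 : (d ^ n) a = a := by rw [hd]; rfl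
    rw [hk, pow_succ', MulAut.mul_apply, h2 k] at h3
    exact h3
  let f : A →* A :=
    { toFun := fun a => d a / d⁻¹ a
      map_one' := by simp
      map_mul' := fun a b => by rw [map_mul, map_mul, mul_div_mul_comm] }
  have hf : Function.Injective f := by
    refine (injective_iff_map_eq_one f).2 fun a ha => hsq a ?_
    have ha' : d a = d⁻¹ a := div_eq_one.1 ha
    rw [ha', MulAut.apply_inv_self]
  constructor
  · refine le_bot_iff.1 fun x hx => ?_
    obtain ⟨c, hc, rfl⟩ := hx.2
    rw [Subgroup.mem_bot]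
    have h1 : t (d c) = d c := (hmem _).1 hx.1
    rw [htd, (hmem c).1 hc] at h1
    have h2 : f c = 1 := div_eq_one.2 h1.symm
    rw [(injective_iff_map_eq_one f).1 hf c h2]
    simp
  · refine top_le_iff.1 fun a _ => ?_
    obtain ⟨v, hv⟩ := Finite.injective_iff_surjective.1 hf (a / t a)
    have hv' : d v / d⁻¹ v = a / t a := hv
    have htt : ∀ b, t (t b) = b := fun b => by
      rw [← MulAut.mul_apply, ← sq, ht]; rfl
    have htv : t v = v := hf <| by
      have h := congrArg t hv'
      rw [map_div, map_div, htd, htd', htt] at h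
      show d (t v) / d⁻¹ (t v) = d v / d⁻¹ v
      rw [hv', ← inv_div (d⁻¹ (t v)), h, inv_div]
    have hu : a / d v ∈ C := by
      rw [hmem, map_div, htd, htv]
      rw [div_eq_div_iff_div_eq_div, ← inv_div a (t a), ← hv', inv_div]
    rw [← div_mul_cancel a (d v)]
    exact Subgroup.mul_mem_sup hu ⟨v, (hmem v).2 htv, rfl⟩

end Cfsg.Agent.S1899
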