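import Cfsg.Statements.S1900
import Cfsg.Agent.Lib.Solv.Generation
import Cfsg.Agent.Lib.Solv.PGroupPhi
import Cfsg.Agent.Lib.Fusion.Basic

set_option autoImplicit false
open Cfsg
open Cfsg.Agent.Fusion
open scoped commutatorElement

namespace Cfsg.Agent.S1900

theorem surj_shift {G : Type*} [Group G] [Finite G] (H : Subgroup G) {x : G}
    (hx : ∀ a ∈ H, x * a * x⁻¹ ∈ H) (hfix : ∀ a ∈ H, x * a = a * x → a = 1)
    {h : G} (hh : h ∈ H) : ∃ a ∈ H, a⁻¹ * (x * a * x⁻¹) = h := by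
  let f : H → H := fun a => ⟨(a : G)⁻¹ * (x * a * x⁻¹), H.mul_mem (H.inv_mem a.2) (hx _ a.2)⟩
  have hinj : Function.Injective f := by
    intro a b e
    have e1 : (a : G)⁻¹ * (x * a * x⁻¹) = (b : G)⁻¹ * (x * b * x⁻¹) := congrArg Subtype.val e
    have e2 : x * ((a : G) * (b : G)⁻¹) * x⁻¹ = (a : G) * (b : G)⁻¹ := by
      calc x * ((a : G) * (b : G)⁻¹) * x⁻¹
          = a * ((a : G)⁻¹ * (x * a * x⁻¹)) * (x * (b : G)⁻¹ * x⁻¹) := by group
        _ = a * ((b : G)⁻¹ * (x * b * x⁻¹)) * (x * (b : G)⁻¹ * x⁻¹) := by rw [e1]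
        _ = _ := by group
    have e3 := hfix _ (H.mul_mem a.2 (H.inv_mem b.2)) (mul_inv_eq_iff_eq_mul.1 e2)
    exact Subtype.ext (mul_inv_eq_one.1 e3)
  obtain ⟨a, ha⟩ := Finite.injective_iff_surjective.1 hinj ⟨h, hh⟩
  exact ⟨a, a.2, congrArg Subtype.val ha⟩

theorem sup_commutator_eq_self {G : Type*} [Group G] [Finite G] {p : ℕ} [Fact p.Prime]
    {H K : Subgroup G} (hK : IsPGroup p K) (hHK : H ≤ K) (h : H ⊔ ⁅K, K⁆ = K) : H = K := by
  refine le_antisymm hHK ?_
  rw [← Subgroup.subgroupOf_eq_top]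
  by_contra hne
  obtain ⟨M, hM, hle⟩ := (eq_top_or_exists_le_coatom (H.subgroupOf K)).resolve_left hne
  have h1 : commutator K ≤ M :=
    (Solv.commutator_le_frattini_pgroup hK).trans (frattini_le_coatom hM)
  refine hM.1 (top_le_iff.1 fun k _ => ?_)
  have h2 : (H.subgroupOf K).map K.subtype ⊔ (commutator K).map K.subtype = K := by
    rw [Subgroup.map_subgroupOf_eq_of_le hHK, commutator_def, Subgroup.map_commutator,
      ← MonoidHom.range_eq_map, Subgroup.range_subtype]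
    exact h
  rw [← Subgroup.map_sup] at h2
  have h3 : (k : G) ∈ (H.subgroupOf K ⊔ commutator K).map K.subtype := by
    rw [h2]
    exact k.2
  obtain ⟨k', hk', e⟩ := h3
  rw [Subtype.ext (a1 := k) (a2 := k') e.symm]
  exact sup_le hle h1 hk'

/-- Let S = PQ be a finite group with P a normal Sylow p-subgroup and Q elementary abelian of order q², q a prime different from p. If exactly two subgroups X₁, X₂ of order q in Q have a nontrivial centralizer in P, then P is the internal direct product of C_P(X₁) and C_P(X₂): they commute elementwise, meet trivially and generate P. -/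
theorem result {S : Type*} [Group S] [Finite S] {p q : ℕ} [Fact p.Prime] [Fact q.Prime] (hpq : p ≠ q)
    (P : Sylow p S) [(P : Subgroup S).Normal] (Q : Subgroup S) (hQ : Cfsg.IsElementaryAbelian q Q) (hQc : Nat.card Q = q ^ 2)
    (hS : (P : Subgroup S) ⊔ Q = ⊤)
    (X₁ X₂ : Subgroup S) (h₁ : X₁ ≤ Q) (h₂ : X₂ ≤ Q) (h₁₂ : X₁ ≠ X₂) (hc₁ : Nat.card X₁ = q) (hc₂ : Nat.card X₂ = q)
    (hf₁ : (P : Subgroup S) ⊓ Subgroup.centralizer (X₁ : Set S) ≠ ⊥)
    (hf₂ : (P : Subgroup S) ⊓ Subgroup.centralizer (X₂ : Set S) ≠ ⊥)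
    (honly : ∀ X : Subgroup S, X ≤ Q → Nat.card X = q →
      (P : Subgroup S) ⊓ Subgroup.centralizer (X : Set S) ≠ ⊥ → X = X₁ ∨ X = X₂) :
    ⁅(P : Subgroup S) ⊓ Subgroup.centralizer (X₁ : Set S), (P : Subgroup S) ⊓ Subgroup.centralizer (X₂ : Set S)⁆ = ⊥ ∧
      ((P : Subgroup S) ⊓ Subgroup.centralizer (X₁ : Set S)) ⊓ ((P : Subgroup S) ⊓ Subgroup.centralizer (X₂ : Set S)) = ⊥ ∧
      ((P : Subgroup S) ⊓ Subgroup.centralizer (X₁ : Set S)) ⊔ ((P : Subgroup S) ⊓ Subgroup.centralizer (X₂ : Set S)) = P := by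
  have hqp : q.Prime := Fact.out
  haveI hQcomm : IsMulCommutative Q := hQ.1
  have hPp : IsPGroup p (P : Subgroup S) := P.isPGroup'
  have hcoP : ∀ P' : Subgroup S, P' ≤ P → (Nat.card Q).Coprime (Nat.card P') := by
    intro P' hP'
    obtain ⟨n, hn⟩ := hPp.exists_card_eq
    refine Nat.Coprime.coprime_dvd_right (Subgroup.card_dvd_of_le hP') ?_
    rw [hQc, hn]
    exact Nat.Coprime.pow _ _ ((Nat.coprime_primes hqp Fact.out).2 hpq.symm)
  -- subgroups of order q in Q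
  have hgenX : ∀ X : Subgroup S, Nat.card X = q → ∀ x ∈ X, x ≠ 1 → X = Subgroup.zpowers x := by
    intro X hX x hx hx1
    refine (Subgroup.eq_of_le_of_card_ge (Subgroup.zpowers_le.2 hx) ?_).symm
    have hd : Nat.card (Subgroup.zpowers x) ∣ q :=
      hX ▸ Subgroup.card_dvd_of_le (Subgroup.zpowers_le.2 hx)
    rcases (Nat.dvd_prime hqp).1 hd with h | h
    · rw [Nat.card_zpowers, orderOf_eq_one_iff] at h
      exact absurd h hx1
    · rw [h, hX]
  have hne1 : ∀ X : Subgroup S, Nat.card X = q → ∃ x ∈ X, x ≠ 1 := by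
    intro X hX
    refine (Subgroup.ne_bot_iff_exists_ne_one.1 fun h => ?_).elim fun a ha =>
      ⟨a.1, a.2, fun e => ha (Subtype.ext e)⟩
    rw [h, Subgroup.card_bot] at hX
    exact hqp.one_lt.ne hX
  obtain ⟨x₁, hx₁, hx₁1⟩ := hne1 X₁ hc₁
  obtain ⟨x₂, hx₂, hx₂1⟩ := hne1 X₂ hc₂
  have hX₁ := hgenX X₁ hc₁ x₁ hx₁ hx₁1
  have hX₂ := hgenX X₂ hc₂ x₂ hx₂ hx₂1
  have hQ12 : X₁ ⊔ X₂ = Q := by
    refine Subgroup.eq_of_le_of_card_ge (sup_le h₁ h₂) ?_
    have hd : Nat.card (X₁ ⊔ X₂ : Subgroup S) ∣ q ^ 2 :=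
      hQc ▸ Subgroup.card_dvd_of_le (sup_le h₁ h₂)
    obtain ⟨i, hi, hi2⟩ := (Nat.dvd_prime_pow hqp).1 hd
    rcases Nat.lt_or_ge i 2 with h | h
    · exfalso
      have hle : Nat.card (X₁ ⊔ X₂ : Subgroup S) ≤ q := by
        rw [hi2]
        exact (Nat.pow_le_pow_right hqp.pos (Nat.le_of_lt_succ h)).trans_eq (pow_one q)
      have e1 := Subgroup.eq_of_le_of_card_ge (le_sup_left : X₁ ≤ X₁ ⊔ X₂) (by rw [hc₁]; exact hle)
      have e2 := Subgroup.eq_of_le_of_card_ge (le_sup_right : X₂ ≤ X₁ ⊔ X₂) (by rw [hc₂]; exact hle)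
      exact h₁₂ (e1.trans e2.symm)
    · rw [hQc, hi2]
      exact Nat.pow_le_pow_right hqp.pos h
  have hcQ : (P : Subgroup S) ⊓ Subgroup.centralizer (Q : Set S) = ⊥ := by
    by_contra hne
    have hall : ∀ X : Subgroup S, X ≤ Q → Nat.card X = q → X = X₁ ∨ X = X₂ := fun X hX hXc =>
      honly X hX hXc fun h => hne (le_bot_iff.1
        ((inf_le_inf_left _ (Subgroup.centralizer_le (SetLike.coe_subset_coe.2 hX))).trans h.le))
    have h3 : x₁ * x₂ ∈ Q := Q.mul_mem (h₁ hx₁) (h₂ hx₂)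
    have h31 : x₁ * x₂ ≠ 1 := fun e => h₁₂ (by
      rw [hX₁, hX₂, show x₁ = x₂⁻¹ from eq_inv_of_mul_eq_one_left e, Subgroup.zpowers_inv])
    have hord : orderOf (x₁ * x₂) = q := orderOf_eq_prime (hQ.2 _ h3) h31
    have hc3 : Nat.card (Subgroup.zpowers (x₁ * x₂)) = q := by rw [Nat.card_zpowers, hord]
    rcases hall _ (Subgroup.zpowers_le.2 h3) hc3 with h | h
    · have h4 : x₁ * x₂ ∈ X₁ := h ▸ Subgroup.mem_zpowers _
      have h5 : x₂ ∈ X₁ := (Subgroup.mul_mem_cancel_left _ hx₁).1 h4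
      exact h₁₂ ((hgenX X₁ hc₁ x₂ h5 hx₂1).trans hX₂.symm)
    · have h4 : x₁ * x₂ ∈ X₂ := h ▸ Subgroup.mem_zpowers _
      have h5 : x₁ ∈ X₂ := (Subgroup.mul_mem_cancel_right _ hx₂).1 h4
      exact h₁₂ (hX₁.trans (hgenX X₂ hc₂ x₁ h5 hx₁1).symm)
  -- membership in centralisers
  have hcent : ∀ {X : Subgroup S} {x g : S}, X = Subgroup.zpowers x →
      (g ∈ Subgroup.centralizer (X : Set S) ↔ x * g = g * x) := by
    intro X x g hX
    subst hX
    rw [Subgroup.mem_centralizer_iff]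
    refine ⟨fun h => h x (Subgroup.mem_zpowers x), fun h y hy => ?_⟩
    obtain ⟨n, rfl⟩ := Subgroup.mem_zpowers_iff.1 hy
    exact (Commute.zpow_left h n).eq
  -- centralisers of subgroups of Q are Q-invariant
  have hinv : ∀ (P' X : Subgroup S), Q ≤ Subgroup.normalizer (P' : Set S) → X ≤ Q →
      ∀ x ∈ Q, ∀ a ∈ P' ⊓ Subgroup.centralizer (X : Set S),
        x * a * x⁻¹ ∈ P' ⊓ Subgroup.centralizer (X : Set S) := by
    intro P' X hP' hX x hx a ha
    refine ⟨Solv.conj_mem_of_mem_normalizer (hP' hx) ha.1, Subgroup.mem_centralizer_iff.2 ?_⟩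
    intro y hy
    have hxy : y * x = x * y :=
      congrArg Subtype.val (hQcomm.is_comm.comm ⟨y, hX hy⟩ ⟨x, hx⟩)
    have hya : y * a = a * y := Subgroup.mem_centralizer_iff.1 ha.2 y hy
    have hxy' : x⁻¹ * y = y * x⁻¹ := by rw [inv_mul_eq_iff_eq_mul, ← mul_assoc, ← hxy]; group
    calc y * (x * a * x⁻¹) = (y * x) * a * x⁻¹ := by group
      _ = x * (y * a) * x⁻¹ := by rw [hxy]; group
      _ = x * a * (y * x⁻¹) := by rw [hya]; group
      _ = x * a * (x⁻¹ * y) := by rw [hxy']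
      _ = _ := by group
  -- generation
  have hgen : ∀ P' : Subgroup S, P' ≤ P → Q ≤ Subgroup.normalizer (P' : Set S) →
      P' ⊓ Subgroup.centralizer (X₁ : Set S) ⊔ P' ⊓ Subgroup.centralizer (X₂ : Set S) = P' := by
    intro P' hP' hQP'
    refine le_antisymm (sup_le inf_le_left inf_le_left) ?_
    refine (Solv.gen_eq Q P' hQcomm hQP' (hcoP P' hP')).ge.trans (iSup₂_le fun B hB => ?_)
    obtain ⟨hBQ, a, haQ, hBa⟩ := hB
    have hd : Nat.card B ∣ q ^ 2 := hQc ▸ Subgroup.card_dvd_of_le hBQ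
    obtain ⟨i, hi, hi2⟩ := (Nat.dvd_prime_pow hqp).1 hd
    rcases (by omega : i = 0 ∨ i = 1 ∨ i = 2) with rfl | rfl | rfl
    · exfalso
      rw [pow_zero, Subgroup.card_eq_one] at hi2
      rw [hi2, bot_sup_eq] at hBa
      have h5 : Nat.card (Subgroup.zpowers a) = q ^ 2 := by rw [hBa, hQc]
      rw [Nat.card_zpowers] at h5
      have h6 : q ^ 2 ∣ q := h5 ▸ orderOf_dvd_of_pow_eq_one (hQ.2 a haQ)
      have h7 := Nat.le_of_dvd hqp.pos h6
      nlinarith [hqp.two_le]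
    · rw [pow_one] at hi2
      by_cases hb : (P : Subgroup S) ⊓ Subgroup.centralizer (B : Set S) = ⊥
      · exact ((inf_le_inf_right _ hP').trans hb.le).trans bot_le
      · rcases honly B hBQ hi2 hb with rfl | rfl
        · exact le_sup_left
        · exact le_sup_right
    · have hB' : B = Q := Subgroup.eq_of_le_of_card_ge hBQ (by rw [hi2, hQc])
      subst hB'
      exact ((inf_le_inf_right _ hP').trans hcQ.le).trans bot_le
  have hdisj : ∀ g ∈ (P : Subgroup S), x₁ * g = g * x₁ → x₂ * g = g * x₂ → g = 1 := by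
    intro g hg e1 e2
    have hmem : g ∈ (P : Subgroup S) ⊓ Subgroup.centralizer (Q : Set S) := by
      refine ⟨hg, Subgroup.mem_centralizer_iff.2 ?_⟩
      rw [← hQ12]
      have : X₁ ⊔ X₂ ≤ Subgroup.centralizer {g} := by
        refine sup_le ?_ ?_
        · rw [hX₁, Subgroup.zpowers_le, Subgroup.mem_centralizer_singleton_iff]; exact e1
        · rw [hX₂, Subgroup.zpowers_le, Subgroup.mem_centralizer_singleton_iff]; exact e2
      intro y hy
      exact Subgroup.mem_centralizer_singleton_iff.1 (this hy)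
    rw [hcQ, Subgroup.mem_bot] at hmem
    exact hmem
  -- the induction
  have key : ∀ n, ∀ P' : Subgroup S, Nat.card P' ≤ n → P' ≤ P →
      Q ≤ Subgroup.normalizer (P' : Set S) →
      ⁅P' ⊓ Subgroup.centralizer (X₁ : Set S), P' ⊓ Subgroup.centralizer (X₂ : Set S)⁆ = ⊥ := by
    intro n
    induction n with
    | zero => intro P' h; exact absurd (Nat.le_zero.1 h) Nat.card_pos.ne'
    | succ n ih =>
      intro P' hn hP' hQP'
      set A := P' ⊓ Subgroup.centralizer (X₁ : Set S) with hA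
      set B := P' ⊓ Subgroup.centralizer (X₂ : Set S) with hB
      by_cases hAtop : A = P'
      · have hB1 : B = ⊥ := le_bot_iff.1 fun b hb => by
          have hbA : b ∈ A := hAtop.symm ▸ hb.1
          exact Subgroup.mem_bot.2
            (hdisj b (hP' hb.1) ((hcent hX₁).1 hbA.2) ((hcent hX₂).1 hb.2))
        rw [hB1, Subgroup.commutator_bot_right]
      have hAP' : A ≤ P' := inf_le_left
      set N := A ⊔ ⁅P', P'⁆ with hN
      have hP'P' : ⁅P', P'⁆ ≤ P' := Subgroup.commutator_le_self P'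
      have hNP' : N ≤ P' := sup_le hAP' hP'P'
      have hlt : N < P' := lt_of_le_of_ne hNP' fun e =>
        hAtop (sup_commutator_eq_self (hPp.to_le hP') hAP' e)
      have hNcard : Nat.card N ≤ n := by
        have : Nat.card N < Nat.card P' :=
          lt_of_le_of_ne (Subgroup.card_le_of_le hNP') fun e =>
            hlt.ne (Subgroup.eq_of_le_of_card_ge hNP' e.ge)
        omega
      have hQN : Q ≤ Subgroup.normalizer (N : Set S) := by
        intro x hx
        refine Solv.mem_normalizer_of_conj_smul ?_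
        rw [hN, Subgroup.smul_sup, Solv.conj_smul_eq_map _ ⁅P', P'⁆, Subgroup.map_commutator,
          ← Solv.conj_smul_eq_map, Solv.conj_smul_of_mem_normalizer (hQP' hx)]
        congr 1
        refine Subgroup.eq_of_le_of_card_ge ?_ (le_of_eq (Solv.card_conj_smul _ _).symm)
        rintro _ ⟨a, ha, rfl⟩
        exact hinv P' X₁ hQP' h₁ x hx a ha
      have hNN : ∀ b ∈ P', ∀ m ∈ N, b * m * b⁻¹ ∈ N := by
        intro b hb m hm
        have h1 : ⁅b, m⁆ ∈ N :=
          (le_sup_right : ⁅P', P'⁆ ≤ N) (Subgroup.commutator_mem_commutator hb (hNP' hm))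
        have := N.mul_mem h1 hm
        rwa [commutatorElement_def, inv_mul_cancel_right] at this
      have hAN : A ≤ N := le_sup_left
      have hN1 : N ⊓ Subgroup.centralizer (X₁ : Set S) = A :=
        le_antisymm (inf_le_inf_right _ hNP') (le_inf hAN inf_le_right)
      have hIH := ih N hNcard (hNP'.trans hP') hQN
      rw [hN1, Subgroup.commutator_eq_bot_iff_le_centralizer] at hIH
      have hNgen := hgen N (hNP'.trans hP') hQN
      rw [hN1] at hNgen
      have hACN : N ⊓ Subgroup.centralizer (X₂ : Set S) ≤ Subgroup.centralizer (A : Set S) := by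
        intro c hc
        rw [Subgroup.mem_centralizer_iff]
        intro a ha
        exact (Subgroup.mem_centralizer_iff.1 (hIH ha) c hc).symm
      have hACN' : N ⊓ Subgroup.centralizer (X₂ : Set S) ≤ Subgroup.normalizer (A : Set S) :=
        hACN.trans (Set.Subset.trans (fun _ h => h) (Subgroup.centralizer_le_normalizer _))
      -- B normalises A
      have hBA : ∀ b ∈ B, ∀ a ∈ A, b * a * b⁻¹ ∈ A := by
        intro b hb w hw
        obtain ⟨a, ha, rfl⟩ := surj_shift A (x := x₂)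
          (fun a ha => hinv P' X₁ hQP' h₁ x₂ (h₂ hx₂) a ha)
          (fun a ha e => hdisj a (hP' ha.1) ((hcent hX₁).1 ha.2) e) hw
        have hmem := hNN b hb.1 a (hAN ha)
        rw [← hNgen] at hmem
        obtain ⟨a', ha', c, hc, he⟩ :
            ∃ a' ∈ A, ∃ c ∈ N ⊓ Subgroup.centralizer (X₂ : Set S), a' * c = b * a * b⁻¹ := by
          have := Subgroup.coe_mul_of_right_le_normalizer_left A _ hACN'
          have hm2 : b * a * b⁻¹ ∈ ((A ⊔ N ⊓ Subgroup.centralizer (X₂ : Set S) : Subgroup S) : Set S) :=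
            hmem
          rw [this] at hm2
          exact Set.mem_mul.1 hm2
        have hxb : x₂ * b = b * x₂ := (hcent hX₂).1 hb.2
        have hxc : x₂ * c = c * x₂ := (hcent hX₂).1 hc.2
        have hca : ∀ u ∈ A, c * u = u * c := fun u hu =>
          (Subgroup.mem_centralizer_iff.1 (hACN hc) u hu).symm
        have hxa' : x₂ * a' * x₂⁻¹ ∈ A := hinv P' X₁ hQP' h₁ x₂ (h₂ hx₂) a' ha'
        have e : b * (a⁻¹ * (x₂ * a * x₂⁻¹)) * b⁻¹ = a'⁻¹ * (x₂ * a' * x₂⁻¹) := by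
          have hcx : Commute c x₂ := hxc.symm
          have hcb : Commute b x₂ := hxb.symm
          calc b * (a⁻¹ * (x₂ * a * x₂⁻¹)) * b⁻¹
              = (b * a * b⁻¹)⁻¹ * (b * x₂) * a * (x₂⁻¹ * b⁻¹) := by group
            _ = (b * a * b⁻¹)⁻¹ * (x₂ * b) * a * (b⁻¹ * x₂⁻¹) := by
                rw [(hcb.inv_inv).symm.eq, ← hxb]
            _ = (b * a * b⁻¹)⁻¹ * (x₂ * (b * a * b⁻¹) * x₂⁻¹) := by group
            _ = (a' * c)⁻¹ * (x₂ * (a' * c) * x₂⁻¹) := by rw [he]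
            _ = c⁻¹ * (a'⁻¹ * (x₂ * a' * (c * x₂⁻¹))) := by group
            _ = c⁻¹ * (a'⁻¹ * (x₂ * a' * (x₂⁻¹ * c))) := by rw [(hcx.inv_right).eq]
            _ = c⁻¹ * ((a'⁻¹ * (x₂ * a' * x₂⁻¹)) * c) := by group
            _ = c⁻¹ * (c * (a'⁻¹ * (x₂ * a' * x₂⁻¹))) := by
                rw [hca _ (A.mul_mem (A.inv_mem ha') hxa')]
            _ = _ := by group
        rw [e]
        exact A.mul_mem (A.inv_mem ha') hxa'
      rw [Subgroup.commutator_eq_bot_iff_le_centralizer]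
      intro a ha
      rw [Subgroup.mem_centralizer_iff]
      intro v hv
      obtain ⟨b, hb, rfl⟩ := surj_shift B (x := x₁)
        (fun b hb => hinv P' X₂ hQP' h₂ x₁ (h₁ hx₁) b hb)
        (fun b hb e => hdisj b (hP' hb.1) e ((hcent hX₂).1 hb.2)) hv
      have hxa : Commute x₁ a := (hcent hX₁).1 ha.2
      have hu : b⁻¹ * (x₁ * b * x₁⁻¹) * a * (b⁻¹ * (x₁ * b * x₁⁻¹))⁻¹ = a := by
        have hw : Commute x₁ (b * a * b⁻¹) := (hcent hX₁).1 (hBA b hb a ha).2
        calc b⁻¹ * (x₁ * b * x₁⁻¹) * a * (b⁻¹ * (x₁ * b * x₁⁻¹))⁻¹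
            = b⁻¹ * (x₁ * (b * ((x₁⁻¹ * a) * x₁) * b⁻¹) * x₁⁻¹) * b := by group
          _ = b⁻¹ * (x₁ * (b * a * b⁻¹) * x₁⁻¹) * b := by
              rw [(hxa.inv_left).eq, inv_mul_cancel_right]
          _ = b⁻¹ * ((b * a * b⁻¹) * x₁ * x₁⁻¹) * b := by rw [hw.eq]
          _ = a := by group
      exact mul_inv_eq_iff_eq_mul.1 hu
  have hPn : (P : Subgroup S).Normal := inferInstance
  have hQP : Q ≤ Subgroup.normalizer ((P : Subgroup S) : Set S) := by
    rw [Subgroup.normalizer_eq_top (H := (P : Subgroup S))]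
    exact le_top
  refine ⟨key _ _ le_rfl le_rfl hQP, le_bot_iff.1 fun g hg => ?_, hgen _ le_rfl hQP⟩
  exact Subgroup.mem_bot.2 (hdisj g hg.1.1 ((hcent hX₁).1 hg.1.2) ((hcent hX₂).1 hg.2.2))

end Cfsg.Agent.S1900
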