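import Cfsg.Statements.S1901
import Cfsg.Agent.Lib.Fusion.Reduction
import Cfsg.Agent.Lib.Fusion.Cores
import Cfsg.Agent.Lib.Solv.PSolvHall

set_option autoImplicit false
open Cfsg
open Cfsg.Agent.Fusion
open scoped commutatorElement

namespace Cfsg.Agent.S1901

universe u

theorem aux {p : ℕ} [hp : Fact p.Prime] : ∀ (m : ℕ) {G : Type u} [Group G] [Finite G],
    Nat.card G = m → Cfsg.IsPSolvable p G → ∀ (Q : Subgroup G), ¬ p ∣ Nat.card Q →
    ∀ P : Sylow p G, Q ≤ Subgroup.normalizer ((P : Subgroup G) : Set G) →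
    ∀ y ∈ Subgroup.normalizer (Q : Set G), (∃ k : ℕ, orderOf y = p ^ k) →
      y ∈ Subgroup.centralizer (Q : Set G) := by
  intro m
  induction m using Nat.strong_induction_on with
  | _ m ih =>
  intro G _ _ hm hsol Q hQ P hQP y hy hyk
  obtain ⟨k, hk⟩ := hyk
  have hquot : ∀ N : Subgroup G, N.Normal → N ≠ ⊥ → ∀ q ∈ Q, q⁻¹ * (y * q * y⁻¹) ∈ N := by
    intro N hN hN1 q hq
    haveI := hN
    set π := QuotientGroup.mk' N
    have hlt : Nat.card (G ⧸ N) < m := by
      rw [← hm, Subgroup.card_eq_card_quotient_mul_card_subgroup N]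
      exact lt_mul_of_one_lt_right Nat.card_pos ((Subgroup.one_lt_card_iff_ne_bot N).2 hN1)
    obtain ⟨P', hP'⟩ := (sylIn_map_mk (N := N) (sylIn_top P)).exists_sylow
    have h := ih _ hlt rfl (Agent.Solv.isPSolvable_map hp.out hsol π (QuotientGroup.mk'_surjective N))
      (Q.map π) (fun h => hQ (h.trans (Q.card_map_dvd π))) P'
      (by rw [hP']; exact (Subgroup.map_mono hQP).trans (Subgroup.le_normalizer_map π))
      (π y) (Subgroup.le_normalizer_map π ⟨y, hy, rfl⟩)
      (by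
        obtain ⟨j, -, hj⟩ := (Nat.dvd_prime_pow hp.out).1 (hk ▸ orderOf_map_dvd π y)
        exact ⟨j, hj⟩)
    rw [← QuotientGroup.eq_one_iff]
    show π (q⁻¹ * (y * q * y⁻¹)) = 1
    rw [map_mul, map_mul, map_mul, map_inv, map_inv,
      ← Subgroup.mem_centralizer_iff.1 h (π q) ⟨q, hq, rfl⟩, mul_inv_cancel_right, inv_mul_cancel]
  have hco : (Nat.card Q).Coprime p := (hp.out.coprime_iff_not_dvd.2 hQ).symm
  -- elements moved by an element fixed by `y` are fixed
  have hstep : ∀ q ∈ Q, y * (q⁻¹ * (y * q * y⁻¹)) = (q⁻¹ * (y * q * y⁻¹)) * y → q * y = y * q := by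
    intro q hq hc
    obtain ⟨c, hcdef⟩ : ∃ c, c = q⁻¹ * (y * q * y⁻¹) := ⟨_, rfl⟩
    rw [← hcdef] at hc
    have hpow : ∀ j : ℕ, y ^ j * q * (y ^ j)⁻¹ = q * c ^ j := by
      intro j
      induction j with
      | zero => simp
      | succ j ihj =>
        have hcy : y * c * y⁻¹ = c := mul_inv_eq_iff_eq_mul.2 hc
        calc y ^ (j + 1) * q * (y ^ (j + 1))⁻¹ = y * (y ^ j * q * (y ^ j)⁻¹) * y⁻¹ := by
              rw [pow_succ']; group
          _ = y * q * y⁻¹ * (y * c * y⁻¹) ^ j := by rw [ihj, conj_pow]; group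
          _ = q * c * c ^ j := by rw [hcy, hcdef]; group
          _ = q * c ^ (j + 1) := by rw [pow_succ', mul_assoc]
    have h1 := hpow (p ^ k)
    rw [← hk, pow_orderOf_eq_one, one_mul, inv_one, mul_one, left_eq_mul, hk] at h1
    have hcQ : c ∈ Q := hcdef ▸ mul_mem (inv_mem hq) ((Subgroup.mem_normalizer_iff.1 hy q).1 hq)
    have h2 : orderOf c = 1 := Nat.eq_one_of_dvd_coprimes (hco.pow_right k)
      (Subgroup.orderOf_dvd_natCard Q hcQ) (orderOf_dvd_of_pow_eq_one h1)
    rw [orderOf_eq_one_iff, hcdef, inv_mul_eq_one] at h2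
    exact (eq_mul_inv_iff_mul_eq.1 h2)
  rcases eq_or_ne (Cfsg.pPrimeCore p G) ⊥ with hR | hR
  · rcases eq_or_ne Q ⊥ with rfl | hQ1
    · exact Subgroup.mem_centralizer_iff.2 fun q hq => by rw [Subgroup.mem_bot.1 hq, one_mul, mul_one]
    haveI : Nontrivial G := nontrivial_of_ne y 1 |> fun f => by
      obtain ⟨q, -, hq1⟩ := Q.bot_or_exists_ne_one.resolve_left hQ1
      exact nontrivial_of_ne q 1 hq1
    obtain ⟨N, hN, hN1, hNp | hNc⟩ := Agent.Solv.exists_normal_pgroup_or_coprime hsol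
    · refine Subgroup.mem_centralizer_iff.2 fun q hq => ?_
      haveI := hN
      have h := coprime_inf_pGroup hco hNp
      have h2 : q⁻¹ * (y * q * y⁻¹) ∈ Q ⊓ N :=
        ⟨mul_mem (Q.inv_mem hq) ((Subgroup.mem_normalizer_iff.1 hy q).1 hq), hquot N hN hN1 q hq⟩
      rw [h, Subgroup.mem_bot] at h2
      exact hstep q hq (by rw [h2, one_mul, mul_one])
    · haveI := hN
      exact absurd (le_bot_iff.1 (hR ▸ le_pPrimeCore hNc)) hN1
  · set R := Cfsg.pPrimeCore p G
    set Q₀ := Q ⊓ R with hQ₀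
    have hPC : (P : Subgroup G) ≤ Subgroup.centralizer (Q₀ : Set G) := fun x hx =>
      Subgroup.mem_centralizer_iff.2 fun q hq => by
        obtain ⟨hqQ, hqR⟩ := Subgroup.mem_inf.1 hq
        have h1 : q * x * q⁻¹ * x⁻¹ ∈ R ⊓ (P : Subgroup G) := Subgroup.mem_inf.2 ⟨by
          rw [show q * x * q⁻¹ * x⁻¹ = q * (x * q⁻¹ * x⁻¹) by group]
          exact mul_mem hqR ((inferInstance : R.Normal).conj_mem _ (inv_mem hqR) x),
          mul_mem ((Subgroup.mem_normalizer_iff.1 (hQP hqQ) x).1 hx) (inv_mem hx)⟩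
        rw [coprime_inf_pGroup (card_pPrimeCore_coprime p G) P.isPGroup', Subgroup.mem_bot, mul_inv_eq_one,
          mul_inv_eq_iff_eq_mul] at h1
        exact h1
    have hyN : y ∈ Subgroup.normalizer (Q₀ : Set G) :=
      mem_normalizer_of_cj_le (by rw [hQ₀, cj_inf, cj_eq_self hy, cj_of_normal])
    have hyC : y ∈ Subgroup.centralizer (Q₀ : Set G) := by
      set C₀ := Subgroup.centralizer (Q₀ : Set G)
      haveI : (C₀.subgroupOf (Subgroup.normalizer (Q₀ : Set G))).Normal := ⟨fun c hc n => by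
        rw [Subgroup.mem_subgroupOf] at hc ⊢
        refine Subgroup.mem_centralizer_iff.2 fun q hq => ?_
        push_cast
        have hq' := (Subgroup.mem_normalizer_iff.1 (inv_mem n.2) q).1 hq
        rw [inv_inv] at hq'
        calc q * ((n : G) * c * (n : G)⁻¹) = n * (((n : G)⁻¹ * q * n) * c) * (n : G)⁻¹ := by group
          _ = n * (c * ((n : G)⁻¹ * q * n)) * (n : G)⁻¹ := by rw [Subgroup.mem_centralizer_iff.1 hc _ hq']
          _ = _ := by group⟩
      have hidx : ¬ p ∣ C₀.relIndex (Subgroup.normalizer (Q₀ : Set G)) := fun h =>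
        P.not_dvd_index (h.trans ((Subgroup.relIndex_dvd_of_le_left _ hPC).trans
          ((Dvd.intro _ (Subgroup.relIndex_mul_index (hPC.trans (Subgroup.centralizer_le_normalizer _)))))))
      have h1 : orderOf (QuotientGroup.mk' (C₀.subgroupOf (Subgroup.normalizer (Q₀ : Set G))) ⟨y, hyN⟩) ∣ p ^ k := by
        refine (orderOf_map_dvd _ _).trans ?_
        rw [Subgroup.orderOf_mk, hk]
      have h2 := Nat.eq_one_of_dvd_coprimes ((hp.out.coprime_iff_not_dvd.2 hidx).pow_left k) h1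
        (orderOf_dvd_natCard _)
      rw [orderOf_eq_one_iff] at h2
      exact Subgroup.mem_subgroupOf.1 ((QuotientGroup.eq_one_iff _).1 h2)
    refine Subgroup.mem_centralizer_iff.2 fun q hq => hstep q hq ?_
    exact (Subgroup.mem_centralizer_iff.1 hyC _
      ⟨mul_mem (Q.inv_mem hq) ((Subgroup.mem_normalizer_iff.1 hy q).1 hq), hquot R inferInstance hR q hq⟩).symm


/-- Let G be a finite p-solvable group and Q a subgroup of order prime to p such that p divides the index of C_G(Q) in N_G(Q). Then Q normalizes no Sylow p-subgroup of G. -/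
theorem result {G : Type*} [Group G] [Finite G] {p : ℕ} [Fact p.Prime]
    (hG : Cfsg.IsPSolvable p G) (Q : Subgroup G) (hQ : ¬ p ∣ Nat.card Q)
    (hA : p ∣ (Subgroup.centralizer (Q : Set G)).relIndex (Subgroup.normalizer (Q : Set G)))
    (P : Sylow p G) : ¬ Q ≤ Subgroup.normalizer ((P : Subgroup G) : Set G) := by
  intro hQP
  set N := Subgroup.normalizer (Q : Set G)
  set C := Subgroup.centralizer (Q : Set G)
  obtain ⟨T, hT⟩ := exists_sylIn (p := p) N
  have hTC : T ≤ C := fun y hy => by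
    obtain ⟨k, hk⟩ := IsPGroup.iff_orderOf.1 hT.isPGroup ⟨y, hy⟩
    rw [Subgroup.orderOf_mk] at hk
    exact aux _ rfl hG Q hQ P hQP y (hT.le hy) ⟨k, hk⟩
  exact hT.not_dvd (hA.trans (Subgroup.relIndex_dvd_of_le_left _ hTC))

end Cfsg.Agent.S1901
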