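import Cfsg.Statements.S1902
import Cfsg.Agent.Lib.Fusion.InvariantOrderP
import Cfsg.Agent.Lib.Solv.PSolvHall
import Cfsg.Agent.Lib.Char.OneBlock

set_option autoImplicit false
open Cfsg
open Cfsg.Agent.Fusion
open scoped commutatorElement

namespace Cfsg.Agent.S1902

/-- Let p be an odd prime, G a finite p-solvable group, and B an elementary abelian subgroup of order p² such that B is the subgroup generated by the elements of order p of some Sylow p-subgroup of C_G(b₀), for some nontrivial b₀ ∈ B. Then every B-invariant subgroup of G of order prime to p lies in O_{p'}(G). -/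
theorem result {G : Type*} [Group G] [Finite G] {p : ℕ} [Fact p.Prime] (hp : p ≠ 2)
    (hG : Cfsg.IsPSolvable p G) (B : Subgroup G) (hB : Cfsg.IsElementaryAbelian p B) (hBc : Nat.card B = p ^ 2)
    (b₀ : G) (hb₀ : b₀ ∈ B) (hb₁ : b₀ ≠ 1) (P : Sylow p ↥(Subgroup.centralizer ({b₀} : Set G)))
    (hBP : B = Subgroup.closure {x : G | x ∈ ((P : Subgroup ↥(Subgroup.centralizer ({b₀} : Set G))).map
      (Subgroup.centralizer ({b₀} : Set G)).subtype : Subgroup G) ∧ orderOf x = p})
    (Q : Subgroup G) (hQ : ¬ p ∣ Nat.card Q) (hinv : ∀ b ∈ B, ∀ x ∈ Q, b * x * b⁻¹ ∈ Q) :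
    Q ≤ Cfsg.pPrimeCore p G := by
  haveI : IsMulCommutative B := hB.1
  have hBp : IsPGroup p B := fun b => ⟨1, Subtype.ext (by
    rw [pow_one, SubgroupClass.coe_pow, OneMemClass.coe_one]; exact hB.2 _ b.2)⟩
  have hBC : B ≤ (Subgroup.centralizer ({b₀} : Set G)) := fun b hb => Subgroup.mem_centralizer_singleton_iff.2
    (congrArg Subtype.val (hB.1.is_comm.comm ⟨b, hb⟩ ⟨b₀, hb₀⟩))
  have hfull : ∀ x : G, (∀ e ∈ B, e * x = x * e) → x ^ p = 1 → x ∈ B := by
    intro x hx hxp
    have hxC : x ∈ (Subgroup.centralizer ({b₀} : Set G)) := Subgroup.mem_centralizer_singleton_iff.2 (hx b₀ hb₀).symm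
    have hzn : B ≤ Subgroup.normalizer ((Subgroup.zpowers x : Subgroup G) : Set G) := fun e he =>
      mem_normalizer_of_cj_le (by
        rintro _ ⟨z, ⟨i, rfl⟩, rfl⟩
        refine ⟨i, ?_⟩
        show x ^ i = e * x ^ i * e⁻¹
        rw [((show Commute e x from hx e he).zpow_right i).eq, mul_inv_cancel_right])
    have hzp : IsPGroup p (Subgroup.zpowers x) := by
      intro z
      obtain ⟨i, hi⟩ := z.2
      refine ⟨1, Subtype.ext ?_⟩
      rw [pow_one, SubgroupClass.coe_pow, OneMemClass.coe_one, ← hi]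
      show (x ^ i) ^ p = 1
      rw [← zpow_natCast, ← zpow_mul, mul_comm, zpow_mul, zpow_natCast, hxp, one_zpow]
    have hT : IsPGroup p (B ⊔ Subgroup.zpowers x : Subgroup G) := by
      first
        | exact hBp.to_sup_of_normal_right' hzp hzn
        | exact (sup_comm B (Subgroup.zpowers x)) ▸ hzp.to_sup_of_normal_left' hBp hzn
    have hTC : B ⊔ Subgroup.zpowers x ≤ (Subgroup.centralizer ({b₀} : Set G)) := sup_le hBC (Subgroup.zpowers_le.2 hxC)
    obtain ⟨P₂, hP₂⟩ := (hT.of_equiv (Subgroup.subgroupOfEquivOfLe hTC).symm).exists_le_sylow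
    obtain ⟨g, hg⟩ := MulAction.exists_smul_eq ↥(Subgroup.centralizer ({b₀} : Set G)) P P₂
    have key : ∀ y : G, y ∈ B ⊔ Subgroup.zpowers x → y ^ p = 1 →
        y ∈ B.map (MulAut.conj (g : G)).toMonoidHom := by
      intro y hy hyp
      by_cases hy1 : y = 1
      · rw [hy1]; exact one_mem _
      have hyP : (⟨y, hTC hy⟩ : ↥(Subgroup.centralizer ({b₀} : Set G))) ∈ (P₂ : Subgroup ↥(Subgroup.centralizer ({b₀} : Set G))) := hP₂ (Subgroup.mem_subgroupOf.2 hy)
      rw [← hg, Sylow.coe_subgroup_smul, Agent.Solv.mem_conj_smul] at hyP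
      refine ⟨(g : G)⁻¹ * y * g, ?_, by simp [mul_assoc]⟩
      rw [hBP]
      refine Subgroup.subset_closure ⟨⟨_, hyP, by simp⟩, ?_⟩
      refine orderOf_eq_prime ?_ fun h => hy1 ?_
      · have := conj_pow (i := p) (a := (g : G)⁻¹) (b := y)
        rw [inv_inv] at this
        rw [this, hyp, mul_one, inv_mul_cancel]
      · simpa using conj_eq_one_iff.1 (show (g : G)⁻¹ * y * (g : G)⁻¹⁻¹ = 1 by rw [inv_inv]; exact h)
    have hBg : B = B.map (MulAut.conj (g : G)).toMonoidHom :=
      Subgroup.eq_of_le_of_card_ge (fun b hb => key b (Subgroup.mem_sup_left hb) (hB.2 b hb))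
        (by rw [Subgroup.card_map_of_injective (K := B) (MulAut.conj (g : G)).injective])
    rw [hBg]
    exact key x (Subgroup.mem_sup_right (Subgroup.mem_zpowers x)) hxp
  refine invariant_le_pPrimeCore_prime ?_ hBp hB.1 hfull hQ (fun b hb => mem_normalizer_of_cj_le ?_) hp
  · haveI := Agent.Solv.pPrimeCore_normal (G := G) p
    exact isPConstrained_iff.2 (Agent.Char.centralizer_pCore_le_of_pSolvable
      (Agent.Solv.isPSolvable_map Fact.out hG _ (QuotientGroup.mk'_surjective (Cfsg.pPrimeCore p G)))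
      pPrimeCore_quotient_eq_bot)
  · rintro _ ⟨x, hx, rfl⟩
    exact hinv b hb x hx

end Cfsg.Agent.S1902
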