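import Cfsg.Statements.S1904
import Cfsg.Agent.Lib.Fusion.OddAutClassify

set_option autoImplicit false
open Cfsg
open Cfsg.Agent.Fusion
open scoped commutatorElement

namespace Cfsg.Agent.S1904


/-- Let X be a finite nonabelian 2-group with no normal abelian subgroup that is self-centralizing and contains an elementary abelian subgroup of order 8. Suppose a group A of automorphisms of X of odd order satisfies [X, A] = X. Then X is the quaternion group of order 8, or X is special of order 64 with exactly three involutions, all central, or X is extraspecial of order 32 with exactly eleven involutions (the central product of a quaternion group and a dihedral group of order 8). -/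
theorem result {X : Type*} [Group X] [Finite X] (hX : IsPGroup 2 X) (hna : ¬ IsMulCommutative X)
    (hscn : ¬ ∃ A : Subgroup X, A.Normal ∧ Subgroup.centralizer (A : Set X) = A ∧
      ∃ E : Subgroup X, E ≤ A ∧ Cfsg.IsElementaryAbelian 2 E ∧ Nat.card E = 8)
    (A : Subgroup (MulAut X)) (hA : Odd (Nat.card A))
    (hXA : Subgroup.closure {g : X | ∃ φ ∈ A, ∃ x : X, g = x⁻¹ * φ x} = ⊤) :
    Nonempty (X ≃* QuaternionGroup 2) ∨
      (Cfsg.IsSpecial 2 X ∧ Nat.card X = 64 ∧ Nat.card {x : X // orderOf x = 2} = 3 ∧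
        ∀ x : X, orderOf x = 2 → x ∈ Subgroup.center X) ∨
      (Cfsg.IsExtraspecial 2 X ∧ Nat.card X = 32 ∧ Nat.card {x : X // orderOf x = 2} = 11) := by
  haveI : Fact (Nat.Prime 2) := ⟨Nat.prime_two⟩
  haveI := hX.isNilpotent
  have hnab : ∃ x y : X, x * y ≠ y * x := by
    by_contra h
    push Not at h
    exact hna ⟨⟨h⟩⟩
  refine OddAutNoScn.classify_all ⟨hX, hA, hXA⟩ hnab fun E hEn hEc hEs => ?_
  by_contra hgt
  push Not at hgt
  obtain ⟨k, hk⟩ := IsPGroup.iff_card.1 (hX.to_subgroup E)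
  have hk3 : 3 ≤ k := by
    by_contra hlt
    have := Nat.pow_le_pow_right two_pos (show k ≤ 2 by omega)
    omega
  obtain ⟨E₀, hE₀⟩ := Sylow.exists_subgroup_card_pow_prime (G := E) 2 (n := 3) (hk ▸ pow_dvd_pow 2 hk3)
  obtain ⟨M, ⟨hMn, hMc, hEM⟩, hmax⟩ := Set.exists_max_image
    {M : Subgroup X | M.Normal ∧ (∀ a ∈ M, ∀ b ∈ M, a * b = b * a) ∧ E ≤ M}
    (fun M : Subgroup X => Nat.card M) (Set.toFinite _) ⟨E, hEn, hEc, le_rfl⟩
  haveI := hMn
  refine hscn ⟨M, hMn, le_antisymm ?_ (fun m hm => Subgroup.mem_centralizer_iff.2 fun b hb => hMc b hb m hm),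
    E₀.map E.subtype, ?_, ?_, ?_⟩
  · by_contra hC
    obtain ⟨x, hxC, hxM, hx⟩ := exists_fixed_mod (N := M) (C := Subgroup.centralizer (M : Set X)) (Q := ⊤)
      (by rw [Subgroup.normalizer_eq_top]) hC
    obtain ⟨B, hB⟩ : ∃ B, B = Subgroup.closure ((M : Set X) ∪ {x}) := ⟨_, rfl⟩
    have hxB : x ∈ B := hB ▸ Subgroup.subset_closure (Or.inr rfl)
    have hMB : M ≤ B := fun m hm => hB ▸ Subgroup.subset_closure (Or.inl hm)
    have hBn : B.Normal := by
      refine ⟨fun b hb g => ?_⟩
      have : B ≤ B.comap (MulAut.conj g).toMonoidHom := by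
        conv_lhs => rw [hB]
        refine (Subgroup.closure_le _).2 ?_
        rintro y (hy | rfl)
        · exact hMB (hMn.conj_mem y hy g)
        · show g * y * g⁻¹ ∈ B
          rw [show g * y * g⁻¹ = ⁅y, g⁆⁻¹ * y by rw [commutatorElement_def]; group]
          exact mul_mem (hMB (inv_mem (hx g (Subgroup.mem_top g)))) hxB
      exact this hb
    have hgen : ∀ p ∈ (M : Set X) ∪ {x}, ∀ q ∈ (M : Set X) ∪ {x}, p * q = q * p := by
      rintro p (hp | rfl) q (hq | rfl)
      · exact hMc p hp q hq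
      · exact Subgroup.mem_centralizer_iff.1 hxC p hp
      · exact (Subgroup.mem_centralizer_iff.1 hxC q hq).symm
      · rfl
    have hBc : ∀ a ∈ B, ∀ b ∈ B, a * b = b * a := by
      rw [hB]
      intro p hp q hq
      have h2 : Subgroup.closure ((M : Set X) ∪ {x}) ≤
          Subgroup.centralizer (Subgroup.closure ((M : Set X) ∪ {x}) : Set X) := by
        rw [Subgroup.centralizer_closure]
        exact (Subgroup.closure_le _).2 fun a ha => Subgroup.mem_centralizer_iff.2 fun b hb => hgen b hb a ha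
      exact (Subgroup.mem_centralizer_iff.1 (h2 hp) q hq).symm
    exact hxM ((Subgroup.eq_of_le_of_card_ge hMB (hmax B ⟨hBn, hBc, hEM.trans hMB⟩)).ge hxB)
  · rintro _ ⟨e, -, rfl⟩
    exact hEM e.2
  · refine ⟨⟨⟨?_⟩⟩, ?_⟩
    · rintro ⟨_, e, -, rfl⟩ ⟨_, f, -, rfl⟩
      exact Subtype.ext (hEc e e.2 f f.2)
    · rintro _ ⟨e, -, rfl⟩
      rw [pow_two]
      exact hEs e e.2
  · rw [Subgroup.card_map_of_injective E.subtype_injective, hE₀]
    norm_num

end Cfsg.Agent.S1904
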