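import Cfsg.Statements.S1905
import Cfsg.Agent.Lib.Fusion.StronglyEmbeddedPairs
import Cfsg.Agent.Lib.Fusion.Basic

set_option autoImplicit false
open Cfsg
open Cfsg.Agent.Fusion
open scoped commutatorElement

namespace Cfsg.Agent.S1905

/-- Let M be a subgroup of even order of a finite group S such that M contains the centralizer in S of each of its involutions and the normal core of M in S has odd order. Then all involutions of S are conjugate. If moreover N_S(X) ≤ M for a Sylow 2-subgroup X of M and I is an involution in the centre of X, then all involutions of M are conjugate in M and M = M₀ C_M(I) for some subgroup M₀ of M of odd order. -/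
theorem result {S : Type*} [Group S] [Finite S] (M : Subgroup S) (hM : Even (Nat.card M))
    (hC : ∀ i ∈ M, orderOf i = 2 → Subgroup.centralizer ({i} : Set S) ≤ M) (hcore : Odd (Nat.card M.normalCore)) :
    (∀ x y : S, orderOf x = 2 → orderOf y = 2 → IsConj x y) ∧
      ∀ (X : Sylow 2 M) (I : M), I ∈ (Subgroup.center ↥(X : Subgroup ↥M)).map (X : Subgroup ↥M).subtype → orderOf I = 2 →
        Subgroup.normalizer (((X : Subgroup M).map M.subtype : Subgroup S) : Set S) ≤ M →
        (∀ x y : M, orderOf x = 2 → orderOf y = 2 → IsConj x y) ∧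
          ∃ M₀ : Subgroup M, Odd (Nat.card M₀) ∧
            ∀ m : M, ∃ a ∈ M₀, ∃ c ∈ Subgroup.centralizer ({I} : Set M), m = a * c := by
  haveI : Fact (Nat.Prime 2) := ⟨Nat.prime_two⟩
  have hMne : M ≠ ⊤ := fun e => by
    have h1 : M.normalCore = M := by subst e; exact Subgroup.normalCore_eq_self _
    rw [h1] at hcore
    exact Nat.not_even_iff_odd.2 hcore hM
  obtain ⟨⟨t₀, ht₀M⟩, ht₀⟩ := exists_prime_orderOf_dvd_card' 2 (even_iff_two_dvd.1 hM)
  rw [Subgroup.orderOf_mk] at ht₀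
  -- an involution inside and one outside are conjugate
  have hio : ∀ s v : S, orderOf s = 2 → orderOf v = 2 → s ∈ M → v ∉ M → IsConj s v := by
    intro s v hs hv hsM hvM
    obtain ⟨i, -, hi, -⟩ := SEPairs.exists_middle hs hv ((SEPairs.odd_or_common hs hv).resolve_right
      (fun ⟨w, hw, hws, hwv⟩ => hvM (by
        have hwM : w ∈ M := hC s hsM hs (Subgroup.mem_centralizer_singleton_iff.2 hws.eq)
        exact hC w hwM hw (Subgroup.mem_centralizer_singleton_iff.2 hwv.symm.eq))))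
    exact isConj_iff.2 ⟨i, hi⟩
  obtain ⟨v₀, hv₀, hv₀M⟩ : ∃ v : S, orderOf v = 2 ∧ v ∉ M := by
    by_contra hcon
    push Not at hcon
    have hmem : t₀ ∈ M.normalCore := fun g => hcon _ (SEPairs.conj_involution ht₀ g)
    have h2 : 2 ∣ Nat.card M.normalCore := ht₀ ▸ (Subgroup.orderOf_mk t₀ hmem ▸ orderOf_dvd_natCard _)
    exact Nat.not_even_iff_odd.2 hcore (even_iff_two_dvd.2 h2)
  have hall : ∀ x y : S, orderOf x = 2 → orderOf y = 2 → IsConj x y := by
    have key : ∀ x : S, orderOf x = 2 → IsConj x v₀ := by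
      intro x hx
      by_cases hxM : x ∈ M
      · exact hio x v₀ hx hv₀ hxM hv₀M
      · exact (hio t₀ x ht₀ hx ht₀M hxM).symm.trans (hio t₀ v₀ ht₀ hv₀ ht₀M hv₀M)
    exact fun x y hx hy => (key x hx).trans (key y hy).symm
  refine ⟨hall, fun X I hIX hI hN => ?_⟩
  set X' : Subgroup S := (X : Subgroup M).map M.subtype with hX'
  have hX'M : X' ≤ M := Subgroup.map_subtype_le _
  -- `X` is a Sylow subgroup of the whole group
  have hXtop : SylIn 2 X' ⊤ := by
    have hXM : SylIn 2 X' M := sylIn_map M X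
    obtain ⟨P, hP, hXP⟩ := exists_sylIn_ge hXM.isPGroup (le_top : X' ≤ ⊤)
    by_cases e : X' = P
    · exact e ▸ hP
    exfalso
    obtain ⟨Q, hlt, hQP, hQN⟩ : ∃ Q : Subgroup S, X' < Q ∧ Q ≤ P ∧ Q ≤ Subgroup.normalizer (X' : Set S) := by
      haveI : Group.IsNilpotent P := hP.isPGroup.isNilpotent
      have hlt : X'.subgroupOf P < ⊤ := lt_top_iff_ne_top.2 fun h =>
        e (le_antisymm hXP (Subgroup.subgroupOf_eq_top.1 h))
      have h1 := Group.normalizerCondition_of_isNilpotent _ hlt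
      refine ⟨(Subgroup.normalizer ((X'.subgroupOf P : Subgroup P) : Set P)).map P.subtype, ?_,
        Subgroup.map_subtype_le _, ?_⟩
      · calc X' = (X'.subgroupOf P).map P.subtype := (Subgroup.map_subgroupOf_eq_of_le hXP).symm
          _ < _ := Subgroup.map_lt_map_iff_of_injective P.subtype_injective |>.2 h1
      · conv_rhs => rw [← Subgroup.map_subgroupOf_eq_of_le hXP]
        exact Subgroup.le_normalizer_map _
    exact hlt.ne (hXM.eq_of_le (hP.isPGroup.to_le hQP) hlt.le (hQN.trans hN)).symm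
  obtain ⟨PS, hPS⟩ := hXtop.exists_sylow
  -- every Sylow subgroup through an involution of `M` lies in `M`
  have hthrough : ∀ (g : S), ∀ t ∈ M, orderOf t = 2 → t ∈ cj X' g → cj X' g ≤ M := by
    intro g t htM ht htX
    obtain ⟨z, hzc, hzo⟩ : ∃ z : S, (∀ w ∈ X', w * z = z * w) ∧ orderOf z = 2 := by
      obtain ⟨x, hx, rfl⟩ := hIX
      refine ⟨((x : M) : S), ?_, by rw [Subgroup.orderOf_coe]; exact hI⟩
      rintro _ ⟨w, hw, rfl⟩
      exact congrArg (fun r : (X : Subgroup M) => ((r : M) : S)) (Subgroup.mem_center_iff.1 hx ⟨w, hw⟩)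
    have hzg : g * z * g⁻¹ ∈ M := by
      refine hC t htM ht (Subgroup.mem_centralizer_singleton_iff.2 ?_)
      calc g * z * g⁻¹ * t = g * (z * (g⁻¹ * t * g)) * g⁻¹ := by group
        _ = g * ((g⁻¹ * t * g) * z) * g⁻¹ := by rw [hzc _ (mem_cj.1 htX)]
        _ = t * (g * z * g⁻¹) := by group
    intro w hw
    refine hC _ hzg (SEPairs.conj_involution hzo g) (Subgroup.mem_centralizer_singleton_iff.2 ?_)
    calc w * (g * z * g⁻¹) = g * ((g⁻¹ * w * g) * z) * g⁻¹ := by group
      _ = g * (z * (g⁻¹ * w * g)) * g⁻¹ := by rw [hzc _ (mem_cj.1 hw)]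
      _ = g * z * g⁻¹ * w := by group
  have hse : Cfsg.IsStronglyEmbedded M := by
    refine ⟨hMne, hM, fun g hg => ?_⟩
    by_contra hodd
    rw [Nat.not_odd_iff_even, even_iff_two_dvd] at hodd
    obtain ⟨⟨s, hsM, t, htM, hts⟩, hs⟩ := exists_prime_orderOf_dvd_card' 2 hodd
    rw [← Subgroup.orderOf_coe] at hs
    change orderOf s = 2 at hs
    replace hts : g * t * g⁻¹ = s := hts
    have ht : orderOf t = 2 := by
      rw [← hts] at hs
      exact (orderOf_injective (MulAut.conj g).toMonoidHom (MulAut.conj g).injective t).symm.trans hs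
    -- move both into `X`
    have hto : ∀ r ∈ M, orderOf r = 2 → ∃ m ∈ M, m * r * m⁻¹ ∈ X' := by
      intro r hr hro
      obtain ⟨m, hm, hmX⟩ := (sylIn_map M X).conj_le
        (IsPGroup.of_card (p := 2) (n := 1) (by rw [Nat.card_zpowers, hro, pow_one]) :
          IsPGroup 2 (Subgroup.zpowers r)) (Subgroup.zpowers_le.2 hr)
      exact ⟨m, hm, hmX (conj_mem_cj (Subgroup.mem_zpowers r))⟩
    obtain ⟨m, hm, hmX⟩ := hto s hsM hs
    have hmem : t ∈ cj X' (m * g)⁻¹ := mem_cj.2 (by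
      rw [inv_inv, show m * g * t * (m * g)⁻¹ = m * (g * t * g⁻¹) * m⁻¹ by group, hts]
      exact hmX)
    have hle := hthrough _ t htM ht hmem
    obtain ⟨n, hn, hne⟩ := (sylIn_map M X).conj_le (isPGroup_cj hXtop.isPGroup _) hle
    rw [cj_cj] at hne
    have hfix : n * (m * g)⁻¹ ∈ M := hN (mem_normalizer_of_cj_le hne)
    refine hg ?_
    rw [show g = m⁻¹ * ((n * (m * g)⁻¹)⁻¹ * n) by group]
    exact M.mul_mem (M.inv_mem hm) (M.mul_mem (M.inv_mem hfix) hn)
  have hyx : (QuotientGroup.mk v₀ : S ⧸ M) ≠ QuotientGroup.mk 1 := fun e => hv₀M (by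
    rw [QuotientGroup.eq, mul_one] at e
    exact inv_inv v₀ ▸ M.inv_mem e)
  have hfix : ∀ v : M, (v : S) • (QuotientGroup.mk 1 : S ⧸ M) = QuotientGroup.mk 1 := fun v =>
    SEPairs.smul_mk_eq_iff.2 (by simpa using v.2)
  set M₀ : Subgroup M := (MulAction.stabilizer S (QuotientGroup.mk v₀ : S ⧸ M)).subgroupOf M
  have key : ∀ x y : M, orderOf x = 2 → orderOf y = 2 → ∃ d ∈ M₀, d * x * d⁻¹ = y := by
    intro x y hx hy
    obtain ⟨d, hd1, hd2, hd⟩ := SEPairs.pair_transitive hse hyx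
      (a := (x : S)) (b := (y : S)) (by rw [Subgroup.orderOf_coe, hx]) (hfix x)
      (by rw [Subgroup.orderOf_coe, hy]) (hfix y)
    have hdM : d ∈ M := by simpa using SEPairs.smul_mk_eq_iff.1 hd1
    exact ⟨⟨d, hdM⟩, MulAction.mem_stabilizer_iff.2 hd2, Subtype.ext hd⟩
  refine ⟨fun x y hx hy => ?_, M₀, ?_, fun m => ?_⟩
  · obtain ⟨d, -, hd⟩ := key x y hx hy
    exact isConj_iff.2 ⟨d, hd⟩
  · refine (Nat.even_or_odd _).resolve_left fun he => ?_
    obtain ⟨⟨⟨r, hrM⟩, hr0⟩, hr⟩ := exists_prime_orderOf_dvd_card' 2 (even_iff_two_dvd.1 he)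
    rw [Subgroup.orderOf_mk, Subgroup.orderOf_mk] at hr
    exact hyx (SEPairs.fixed_unique hse hr hr0 (hfix ⟨r, hrM⟩))
  · obtain ⟨d, hd, hde⟩ := key I (m * I * m⁻¹) hI (((orderOf_injective (MulAut.conj m).toMonoidHom (MulAut.conj m).injective I)).trans hI)
    refine ⟨d, hd, d⁻¹ * m, Subgroup.mem_centralizer_singleton_iff.2 ?_, by group⟩
    calc d⁻¹ * m * I = d⁻¹ * (m * I * m⁻¹) * m := by group
      _ = d⁻¹ * (d * I * d⁻¹) * m := by rw [hde]
      _ = I * (d⁻¹ * m) := by group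

end Cfsg.Agent.S1905
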