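import Cfsg.Statements.S1906
import Cfsg.Agent.Lib.Fusion.TransferSplit
import Cfsg.Agent.Lib.Fusion.OmegaSeries
import Cfsg.Agent.Lib.Fusion.Basic
import Cfsg.Agent.Lib.Solv.Basic
import Cfsg.Agent.Lib.Small.SylowInside

set_option autoImplicit false
open Cfsg
open Cfsg.Agent.Fusion
open scoped commutatorElement

namespace Cfsg.Agent.S1906

/-- A central involution of a Sylow 2-subgroup that is fixed by its normalizer is killed by every
abelian quotient of the Sylow subgroup, if there is no subgroup of index 2. -/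
theorem central_fixed_mem {G : Type*} [Group G] [Finite G] (hG : ∀ H : Subgroup G, H.index ≠ 2) (S : Sylow 2 G)
    {A : Type*} [CommGroup A] [Finite A] (hA : IsPGroup 2 A) (χ : ↥(S : Subgroup G) →* A) {z : G}
    (hzS : z ∈ (S : Subgroup G)) (hz2 : z ^ 2 = 1) (hzc : ∀ s ∈ (S : Subgroup G), s * z = z * s)
    (hzN : ∀ n ∈ Subgroup.normalizer ((S : Subgroup G) : Set G), n * z = z * n) : χ ⟨z, hzS⟩ = 1 := by
  classical
  haveI : Fact (Nat.Prime 2) := ⟨Nat.prime_two⟩
  by_contra hne
  letI := (S : Subgroup G).fintypeQuotientOfFiniteIndex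
  -- the transfer does not kill `z`
  suffices h : MonoidHom.transfer χ z ≠ 1 by
    set V := MonoidHom.transfer χ
    have hR : (⊥ : Subgroup ↥V.range) ≠ ⊤ := fun h0 => h (by
      have := (Subgroup.mem_bot.1 (h0.symm ▸ Subgroup.mem_top (⟨V z, z, rfl⟩ : ↥V.range)))
      exact congrArg Subtype.val this)
    obtain ⟨M, -, hM⟩ := exists_normal_index_p_above (p := 2) (hA.to_subgroup V.range) hR
    exact hG (M.comap V.rangeRestrict) (by
      rw [Subgroup.index_comap_of_surjective _ V.rangeRestrict_surjective, hM])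
  rw [MonoidHom.transfer_eq_prod_quotient_orbitRel_zpowers_quot]
  set v : Quotient (MulAction.orbitRel (Subgroup.zpowers z) (G ⧸ (S : Subgroup G))) → A := fun q =>
    χ ⟨q.out.out⁻¹ * z ^ Function.minimalPeriod (z • ·) q.out * q.out.out,
      QuotientGroup.out_conj_pow_minimalPeriod_mem (S : Subgroup G) z q.out⟩ with hv
  show ∏ q, v q ≠ 1
  let Sa : A → Set (G ⧸ (S : Subgroup G)) := fun a =>
    {c | ∃ t : G, (t : G ⧸ (S : Subgroup G)) = c ∧ ∃ h : t⁻¹ * z * t ∈ (S : Subgroup G), χ ⟨_, h⟩ = a}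
  have hconj : ∀ (t s : G) (hs : s ∈ (S : Subgroup G)) (h : t⁻¹ * z * t ∈ (S : Subgroup G)) (h' : (t * s)⁻¹ * z * (t * s) ∈ (S : Subgroup G)),
      χ ⟨_, h'⟩ = χ ⟨_, h⟩ := by
    intro t s hs h h'
    rw [show (⟨(t * s)⁻¹ * z * (t * s), h'⟩ : ↥(S : Subgroup G)) = ⟨s, hs⟩⁻¹ * ⟨_, h⟩ * ⟨s, hs⟩ from Subtype.ext (by
      simp [mul_assoc]), map_mul, map_mul, map_inv, mul_comm, ← mul_assoc, mul_inv_cancel, one_mul]
  have hfix : ∀ (c : G ⧸ (S : Subgroup G)) (t : G), (t : G ⧸ (S : Subgroup G)) = c → (t⁻¹ * z * t ∈ (S : Subgroup G) ↔ z • c = c) := by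
    rintro c t rfl
    rw [MulAction.Quotient.smul_mk, eq_comm (a := ((z • t : G) : G ⧸ (S : Subgroup G))), QuotientGroup.eq, smul_eq_mul, mul_assoc]
  have hval : ∀ q : Quotient (MulAction.orbitRel (Subgroup.zpowers z) (G ⧸ (S : Subgroup G))),
      ∀ a : A, a ≠ 1 → (v q = a ↔ q.out ∈ Sa a) := by
    intro q a ha
    have hout : ((q.out.out : G) : G ⧸ (S : Subgroup G)) = q.out := Quotient.out_eq _
    by_cases hper : z • q.out = q.out
    · have h1 : Function.minimalPeriod (z • ·) q.out = 1 := Function.minimalPeriod_eq_one_iff_isFixedPt.2 hper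
      have hmem := (hfix _ _ hout).2 hper
      have hv' : v q = χ ⟨_, hmem⟩ := by
        rw [hv]; exact congrArg χ (Subtype.ext (by simp only [h1, pow_one]))
      rw [hv']
      refine ⟨fun h => ⟨_, hout, hmem, h⟩, ?_⟩
      rintro ⟨t, ht, h, rfl⟩
      have hs : t⁻¹ * q.out.out ∈ (S : Subgroup G) := QuotientGroup.eq.1 (ht.trans hout.symm)
      have := hconj t _ hs h (by rw [mul_inv_cancel_left]; exact hmem)
      rw [← this]
      exact congrArg χ (Subtype.ext (by simp only [mul_inv_cancel_left]))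
    · have h1 : v q = 1 := by
        rw [hv]
        show χ _ = 1
        have hp2 : Function.IsPeriodicPt (z • ·) 2 q.out := by
          show z • z • q.out = q.out
          rw [← mul_smul, ← sq, hz2, one_smul]
        have hm : Function.minimalPeriod (z • ·) q.out = 2 := by
          rcases (Nat.dvd_prime Nat.prime_two).1 hp2.minimalPeriod_dvd with h | h
          · exact absurd (Function.minimalPeriod_eq_one_iff_isFixedPt.1 h) hper
          · exact h
        rw [← map_one χ]
        exact congrArg χ (Subtype.ext (by simp only [hm, hz2, mul_one, inv_mul_cancel]; rfl))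
      rw [h1]
      refine ⟨fun h => absurd h.symm ha, ?_⟩
      rintro ⟨t, ht, h, -⟩
      exact absurd ((hfix _ _ ht).1 h) hper
  -- orbits of the Sylow subgroup
  have hinv : ∀ a, ∀ x : ↥(S : Subgroup G), ∀ c ∈ Sa a, x • c ∈ Sa a := by
    rintro a x _ ⟨t, rfl, h, hta⟩
    have e : ((x : G) * t)⁻¹ * z * ((x : G) * t) = t⁻¹ * z * t := by
      rw [show ((x : G) * t)⁻¹ * z * ((x : G) * t) = t⁻¹ * ((x : G)⁻¹ * (z * x)) * t by group, ← hzc x x.2,
        inv_mul_cancel_left]
    refine ⟨(x : G) * t, rfl, e ▸ h, ?_⟩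
    rw [← hta]
    exact congrArg χ (Subtype.ext e)
  have hfixN : ∀ c : G ⧸ (S : Subgroup G), (∀ x : ↥(S : Subgroup G), x • c = c) →
      c.out ∈ Subgroup.normalizer ((S : Subgroup G) : Set G) := by
    intro c hc
    refine inv_inv c.out ▸ inv_mem ?_
    refine mem_normalizer_of_cj_le ?_
    rintro _ ⟨x, hx, rfl⟩
    have h1 := hc ⟨x, hx⟩
    rw [← Quotient.out_eq c] at h1
    have h2 : (((x * c.out : G)) : G ⧸ (S : Subgroup G)) = (c.out : G ⧸ (S : Subgroup G)) := h1
    have h3 := (S : Subgroup G).inv_mem (QuotientGroup.eq.1 h2)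
    show c.out⁻¹ * x * c.out⁻¹⁻¹ ∈ (S : Subgroup G)
    simpa [mul_assoc] using h3
  have hfixa : ∀ a, ∀ c ∈ Sa a, (∀ x : ↥(S : Subgroup G), x • c = c) → a = χ ⟨z, hzS⟩ := by
    rintro a c ⟨t, rfl, h, rfl⟩ hc
    have hn := hfixN _ hc
    have hs : (t : G)⁻¹ * (t : G ⧸ (S : Subgroup G)).out ∈ (S : Subgroup G) := QuotientGroup.eq.1 (Quotient.out_eq _).symm
    have h' : (t * (t⁻¹ * (t : G ⧸ (S : Subgroup G)).out))⁻¹ * z * (t * (t⁻¹ * (t : G ⧸ (S : Subgroup G)).out)) ∈ (S : Subgroup G) := by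
      rw [mul_inv_cancel_left, mul_assoc, ← hzN _ hn, inv_mul_cancel_left]; exact hzS
    rw [← hconj t _ hs h h']
    exact congrArg χ (Subtype.ext (by simp only [mul_inv_cancel_left]; rw [mul_assoc, ← hzN _ hn, inv_mul_cancel_left]))
  have hodd : ¬ 2 ∣ Nat.card {c : G ⧸ (S : Subgroup G) | ∀ x : ↥(S : Subgroup G), x • c = c} := by
    intro hd
    refine S.not_dvd_index ?_
    have := S.2.card_modEq_card_fixedPoints (G ⧸ (S : Subgroup G))
    exact (Nat.ModEq.dvd_iff this dvd_rfl).2 hd
  have hcount : ∀ a, a ≠ 1 → (Odd (Nat.card {q // v q = a}) ↔ a = χ ⟨z, hzS⟩) := by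
    intro a ha
    have e : Nat.card {q // v q = a} = Nat.card (Sa a) := by
      refine Nat.card_congr (Equiv.ofBijective (fun q => ⟨q.1.out, (hval _ a ha).1 q.2⟩) ⟨fun q r h => ?_, ?_⟩)
      · apply Subtype.ext
        have h' : q.1.out = r.1.out := congrArg Subtype.val h
        rw [← Quotient.out_eq q.1, ← Quotient.out_eq r.1, h']
      · rintro ⟨c, hc⟩
        have hzf : z • c = c := by
          obtain ⟨t, ht, h, -⟩ := hc
          exact (hfix _ _ ht).1 h
        have hout : (Quotient.mk (MulAction.orbitRel (Subgroup.zpowers z) (G ⧸ (S : Subgroup G))) c).out = c := by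
          have h1 : MulAction.orbitRel (Subgroup.zpowers z) (G ⧸ (S : Subgroup G)) (Quotient.mk _ c).out c :=
            Quotient.exact (Quotient.out_eq _)
          obtain ⟨⟨w, hw⟩, hwc⟩ := h1
          rw [← hwc]
          show w • c = c
          obtain ⟨i, rfl⟩ := hw
          exact smul_eq_self_of_mem_zpowers (Subgroup.zpow_mem_zpowers z i) hzf
        exact ⟨⟨Quotient.mk _ c, (hval _ a ha).2 (by rw [hout]; exact hc)⟩, Subtype.ext hout⟩
    let Y : SubMulAction ↥(S : Subgroup G) (G ⧸ (S : Subgroup G)) := ⟨Sa a, fun x c hc => hinv a x c hc⟩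
    have hmod : Nat.card (Sa a) ≡ Nat.card (MulAction.fixedPoints ↥(S : Subgroup G) Y) [MOD 2] :=
      S.2.card_modEq_card_fixedPoints Y
    rw [e, Nat.odd_iff, show Nat.card (Sa a) % 2 = Nat.card (MulAction.fixedPoints ↥(S : Subgroup G) Y) % 2 from hmod]
    constructor
    · intro h
      have : Nonempty (MulAction.fixedPoints ↥(S : Subgroup G) Y) := by
        by_contra h0
        rw [not_nonempty_iff] at h0
        rw [Nat.card_of_isEmpty] at h
        omega
      obtain ⟨⟨c, hc⟩, hcf⟩ := this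
      exact hfixa a c hc fun x => congrArg Subtype.val (hcf x)
    · rintro rfl
      rw [Nat.mod_two_ne_zero.symm]
      intro h0
      refine hodd ((Nat.dvd_of_mod_eq_zero h0).trans (dvd_of_eq (Nat.card_congr ?_)))
      refine Equiv.ofBijective (fun c => ⟨c.1.1, fun x => congrArg Subtype.val (c.2 x)⟩) ⟨fun c d h =>
        Subtype.ext (Subtype.ext (congrArg Subtype.val h :)), ?_⟩
      rintro ⟨c, hc⟩
      refine ⟨⟨⟨c, c.out, Quotient.out_eq c, ?_⟩, fun x => Subtype.ext (hc x)⟩, rfl⟩
      have e : c.out⁻¹ * z * c.out = z := by rw [mul_assoc, ← hzN _ (hfixN c hc), inv_mul_cancel_left]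
      exact ⟨e.symm ▸ hzS, congrArg χ (Subtype.ext e)⟩
  have hsq : ∀ q, v q ^ 2 = 1 := fun q => by
    rw [hv]
    show χ _ ^ 2 = 1
    rw [← map_pow, ← map_one χ]
    refine congrArg χ (Subtype.ext ?_)
    rw [SubgroupClass.coe_pow, OneMemClass.coe_one]
    have h2 : ∀ n : ℕ, (z ^ n) ^ 2 = 1 := fun n => by rw [← pow_mul, mul_comm, pow_mul, hz2, one_pow]
    calc _ = q.out.out⁻¹ * (z ^ Function.minimalPeriod (z • ·) q.out) ^ 2 * q.out.out := by
          rw [sq, sq]; group
      _ = 1 := by rw [h2, mul_one, inv_mul_cancel]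
  rw [← Finset.prod_fiberwise_of_maps_to (g := v) (t := Finset.univ.image v)
    (fun q _ => Finset.mem_image_of_mem v (Finset.mem_univ q))]
  rw [Finset.prod_eq_single (χ ⟨z, hzS⟩)]
  · rw [Finset.prod_congr rfl fun q hq => (Finset.mem_filter.1 hq).2, Finset.prod_const]
    have hc := (hcount _ hne).2 rfl
    rw [Nat.card_eq_fintype_card, Fintype.card_subtype] at hc
    obtain ⟨k, hk⟩ := hc
    rw [hk, pow_succ, pow_mul, ← map_pow, show (⟨z, hzS⟩ : ↥(S : Subgroup G)) ^ 2 = 1 from Subtype.ext hz2, map_one, one_pow, one_mul]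
    exact hne
  · intro a ha hne'
    rw [Finset.prod_congr rfl fun q hq => (Finset.mem_filter.1 hq).2, Finset.prod_const]
    by_cases ha1 : a = 1
    · rw [ha1, one_pow]
    obtain ⟨q, -, rfl⟩ := Finset.mem_image.1 ha
    have hc := mt (hcount _ ha1).1 hne'
    rw [Nat.card_eq_fintype_card, Fintype.card_subtype, Nat.not_odd_iff_even] at hc
    obtain ⟨k, hk⟩ := hc
    rw [hk, ← two_mul, pow_mul, hsq, one_pow]
  · intro hn
    rw [Finset.prod_eq_one]
    intro q hq
    exact absurd ((Finset.mem_filter.1 hq).2 ▸ Finset.mem_image_of_mem v (Finset.mem_univ q)) hn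

/-- An elementary abelian subgroup of order 8 of `GL₃` in odd characteristic. -/
theorem gl3_elementary {F : Type*} [Field F] (h2 : (2 : F) ≠ 0) (A : Subgroup (GL (Fin 3) F))
    (hA : IsMulCommutative A) (hAe : ∀ a ∈ A, a ^ 2 = 1) (hA8 : Nat.card A = 8) :
    (-1 : GL (Fin 3) F) ∈ A ∧ (∀ g h : GL (Fin 3) F, (∀ a ∈ A, a * g = g * a) → (∀ a ∈ A, a * h = h * a) → g * h = h * g) ∧
      ∀ g : GL (Fin 3) F, (∀ a ∈ A, a * g = g * a) → g ^ 2 = 1 → g ∈ A := by
  classical
  haveI : Finite A := Nat.finite_of_card_ne_zero (by omega)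
  letI := Fintype.ofFinite A
  let ρ : GL (Fin 3) F → ((Fin 3 → F) →ₗ[F] (Fin 3 → F)) := fun g => Matrix.mulVecLin (g : Matrix (Fin 3) (Fin 3) F)
  have hmul : ∀ g h v, ρ (g * h) v = ρ g (ρ h v) := fun g h v => by
    simp [ρ, Matrix.mulVec_mulVec]
  have hone : ∀ v, ρ 1 v = v := fun v => by simp [ρ]
  have hneg : ∀ v, ρ (-1) v = -v := fun v => by simp [ρ, Matrix.neg_mulVec]
  have hinj : ∀ g h, ρ g = ρ h → g = h := fun g h e => Units.ext (Matrix.toLin'.injective (by
    simpa [ρ, Matrix.toLin'_apply'] using e))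
  have hspan : ∀ s : Finset A, ∀ v : Fin 3 → F, v ∈ Submodule.span F
      {w : Fin 3 → F | ∀ a ∈ s, ρ (a : GL (Fin 3) F) w = w ∨ ρ (a : GL (Fin 3) F) w = -w} := by
    intro s
    induction s using Finset.induction with
    | empty => intro v; exact Submodule.subset_span fun a ha => absurd ha (Finset.notMem_empty a)
    | insert a s has ih =>
      intro v
      refine Submodule.span_le.2 ?_ (ih v)
      intro w hw
      set a' : GL (Fin 3) F := (a : GL (Fin 3) F)
      have haa : ρ a' (ρ a' w) = w := by rw [← hmul, ← sq, hAe _ a.2, hone]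
      have e : w = (2⁻¹ : F) • (w + ρ a' w) + (2⁻¹ : F) • (w - ρ a' w) := by
        rw [← smul_add, add_add_sub_cancel, ← two_smul F w, smul_smul, inv_mul_cancel₀ h2, one_smul]
      rw [SetLike.mem_coe, e]
      refine add_mem (Submodule.smul_mem _ _ (Submodule.subset_span ?_)) (Submodule.smul_mem _ _ (Submodule.subset_span ?_))
      all_goals
        intro b hb
        rcases Finset.mem_insert.1 hb with rfl | hb
        · first
            | (left; rw [map_add, haa, add_comm]; done)
            | (right; rw [map_sub, haa, neg_sub]; done)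
        · have hcm : ∀ x, ρ (b : GL (Fin 3) F) (ρ a' x) = ρ a' (ρ (b : GL (Fin 3) F) x) := fun x => by
            rw [← hmul, ← hmul]
            exact congrArg (fun y : A => ρ (y : GL (Fin 3) F) x) (hA.is_comm.comm b a)
          rcases hw b hb with h | h
          · left; simp only [map_add, map_sub, hcm, h]
          · right; simp only [map_add, map_sub, hcm, h, map_neg]; abel
  set T := {w : Fin 3 → F | ∀ a : A, ρ (a : GL (Fin 3) F) w = w ∨ ρ (a : GL (Fin 3) F) w = -w} with hT
  have htop : Submodule.span F T = ⊤ := eq_top_iff.2 fun v _ =>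
    Submodule.span_mono (fun w (hw : ∀ a ∈ (Finset.univ : Finset A), _) a => hw a (Finset.mem_univ a)) (hspan Finset.univ v)
  obtain ⟨b, hbT, hbsp, hbli⟩ := exists_linearIndependent F T
  let B := Module.Basis.mk hbli (by rw [Subtype.range_coe, hbsp, htop])
  haveI : Fintype b := FiniteDimensional.fintypeBasisIndex B
  have hcard : Fintype.card b = 3 := by
    rw [← Module.finrank_eq_card_basis B]
    simp
  have hB : ∀ i : b, B i = (i : Fin 3 → F) := fun i => by simp [B]
  have hd : ∀ (a : A) (i : b), ρ (a : GL (Fin 3) F) (B i) = B i ∨ ρ (a : GL (Fin 3) F) (B i) = -B i :=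
    fun a i => by rw [hB]; exact hbT i.2 a
  let sgn : A → (b → Bool) := fun a i => decide (ρ (a : GL (Fin 3) F) (B i) = B i)
  have hsgn : Function.Injective sgn := fun a a' e => Subtype.ext (hinj _ _ (B.ext fun i => by
    have e' := congrFun e i
    simp only [sgn, decide_eq_decide] at e'
    rcases hd a i with h | h
    · rw [h, e'.1 h]
    · rcases hd a' i with h' | h'
      · exact (e'.2 h').trans h'.symm
      · rw [h, h']))
  have hsurj : Function.Surjective sgn := by
    refine ((Fintype.bijective_iff_injective_and_card sgn).2 ⟨hsgn, ?_⟩).2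
    rw [← Nat.card_eq_fintype_card, hA8, Fintype.card_fun, hcard, Fintype.card_bool]
    rfl
  have hneq : ∀ i : b, -B i ≠ B i := fun i h => by
    have : (2 : F) • B i = 0 := by rw [two_smul]; nth_rewrite 1 [← h]; exact neg_add_cancel _
    exact B.ne_zero i ((smul_eq_zero.1 this).resolve_left h2)
  have hscal : ∀ g : GL (Fin 3) F, (∀ a ∈ A, a * g = g * a) → ∀ i : b, ρ g (B i) = B.repr (ρ g (B i)) i • B i := by
    intro g hg i
    obtain ⟨a, ha⟩ := hsurj fun j => decide (j = i)
    have hfixi : ρ (a : GL (Fin 3) F) (ρ g (B i)) = ρ g (B i) := by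
      have h1 : ρ (a : GL (Fin 3) F) (B i) = B i := by simpa [sgn] using congrFun ha i
      rw [← hmul, hg _ a.2, hmul, h1]
    refine B.ext_elem fun j => ?_
    rw [map_smul, B.repr_self, Finsupp.smul_apply, Finsupp.single_apply]
    by_cases hji : i = j
    · subst hji; simp
    · rw [if_neg hji, smul_zero]
      have hflip : ρ (a : GL (Fin 3) F) (B j) = -B j := by
        refine (hd a j).resolve_left fun h => hji ?_
        have := congrFun ha j
        simp [sgn, h] at this
        exact this.symm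
      have hlin : (B.coord j).comp (ρ (a : GL (Fin 3) F)) = -(B.coord j) := B.ext fun k => by
        rcases hd a k with h | h
        · have hkj : k ≠ j := fun e => hneq j (by rw [e] at h; rw [← hflip, h])
          simp [h, Module.Basis.coord_apply, Finsupp.single_apply, hkj]
        · simp [h, Module.Basis.coord_apply]
      have h3 : B.repr (ρ (a : GL (Fin 3) F) (ρ g (B i))) j = -(B.repr (ρ g (B i)) j) :=
        LinearMap.congr_fun hlin (ρ g (B i))
      rw [hfixi] at h3
      have h4 : (2 : F) * B.repr (ρ g (B i)) j = 0 := by rw [two_mul]; nth_rewrite 1 [h3]; exact neg_add_cancel _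
      exact (mul_eq_zero.1 h4).resolve_left h2
  refine ⟨?_, fun g h hg hh => hinj _ _ (B.ext fun i => ?_), fun g hg hg2 => ?_⟩
  · obtain ⟨a, ha⟩ := hsurj fun _ => false
    suffices (a : GL (Fin 3) F) = -1 by rw [← this]; exact a.2
    refine hinj _ _ (B.ext fun i => ?_)
    rw [hneg]
    have h := congrFun ha i
    simp [sgn] at h
    exact (hd a i).resolve_left h
  · obtain ⟨c, hc⟩ : ∃ c : F, ρ h (B i) = c • B i := ⟨_, hscal h hh i⟩
    obtain ⟨d, hd'⟩ : ∃ d : F, ρ g (B i) = d • B i := ⟨_, hscal g hg i⟩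
    rw [hmul, hmul, hc, map_smul, hd', map_smul, hc, smul_smul, smul_smul, mul_comm]
  · obtain ⟨a, ha⟩ := hsurj fun i => decide (ρ g (B i) = B i)
    suffices g = (a : GL (Fin 3) F) by rw [this]; exact a.2
    refine hinj _ _ (B.ext fun i => ?_)
    have h := congrFun ha i
    simp only [sgn, decide_eq_decide] at h
    have hgg : ρ g (ρ g (B i)) = B i := by rw [← hmul, ← sq, hg2, hone]
    obtain ⟨c, hc⟩ : ∃ c, c = B.repr (ρ g (B i)) i := ⟨_, rfl⟩
    have hgi : ρ g (B i) = c • B i := hc ▸ hscal g hg i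
    rw [hgi, map_smul, hgi, smul_smul] at hgg
    have h1 : (c * c - 1) • B i = 0 := by rw [sub_smul, hgg, one_smul, sub_self]
    have h5 : (c - 1) * (c + 1) = 0 := by
      have := (smul_eq_zero.1 h1).resolve_right (B.ne_zero i)
      linear_combination this
    rcases mul_eq_zero.1 h5 with hc1 | hc1
    · have hfi : ρ g (B i) = B i := by rw [hgi, sub_eq_zero.1 hc1, one_smul]
      rw [hfi, h.2 hfi]
    · have hfi : ρ g (B i) = -B i := by rw [hgi, eq_neg_of_add_eq_zero_left hc1, neg_one_smul]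
      rw [hfi, (hd a i).resolve_left fun h' => hneq i (hfi.symm.trans (h.1 h'))]

/-- Let G be a finite group with no subgroup of index 2 whose Sylow 2-subgroup X embeds in GL₃(F) for a finite field F of odd order. If X contains an elementary abelian subgroup of order 8, then X is abelian. -/
theorem result {G : Type*} [Group G] [Finite G] (hG : ∀ H : Subgroup G, H.index ≠ 2) (X : Sylow 2 G)
    {F : Type*} [Field F] [Fintype F] (hF : Odd (Fintype.card F))
    (f : ↥(X : Subgroup G) →* GL (Fin 3) F) (hf : Function.Injective f)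
    (E : Subgroup G) (hE : E ≤ (X : Subgroup G)) (hEa : Cfsg.IsElementaryAbelian 2 E) (hE8 : Nat.card E = 8) :
    IsMulCommutative (X : Subgroup G) := by
  classical
  haveI : Fact (Nat.Prime 2) := ⟨Nat.prime_two⟩
  have h2 : (2 : F) ≠ 0 := by
    refine Ring.two_ne_zero fun hc => ?_
    have := (ringChar.eq_iff.1 hc : CharP F 2)
    obtain ⟨n, -, hn⟩ := FiniteField.card F 2
    rw [hn] at hF
    exact (Nat.not_odd_iff_even.2 (Nat.even_pow.2 ⟨even_two, n.ne_zero⟩)) hF
  by_contra hnc
  set E' := E.subgroupOf (X : Subgroup G) with hE'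
  have hE'c : ∀ a ∈ E', ∀ b ∈ E', a * b = b * a := fun a ha b hb => Subtype.ext
    (congrArg Subtype.val (hEa.1.is_comm.comm ⟨_, ha⟩ ⟨_, hb⟩) :)
  set A := E'.map f with hA
  have hAc : IsMulCommutative A := ⟨⟨fun s t => Subtype.ext (by
    obtain ⟨a, ha, hs⟩ := s.2
    obtain ⟨b, hb, ht⟩ := t.2
    show (s : GL (Fin 3) F) * t = t * s
    rw [← hs, ← ht, ← map_mul, ← map_mul, hE'c a ha b hb])⟩⟩
  have hE'2 : ∀ a ∈ E', a ^ 2 = 1 := fun a ha => Subtype.ext (by
    rw [SubgroupClass.coe_pow]; exact hEa.2 _ ha)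
  have hAe : ∀ a ∈ A, a ^ 2 = 1 := by
    rintro _ ⟨a, ha, rfl⟩
    rw [← map_pow, hE'2 a ha, map_one]
  have hA8 : Nat.card A = 8 := by
    rw [hA, Subgroup.card_map_of_injective hf, Agent.Solv.card_subgroupOf hE, hE8]
  obtain ⟨hneg, habel, hinvol⟩ := gl3_elementary h2 A hAc hAe hA8
  obtain ⟨z, hzE, hzf⟩ := hneg
  have hne1 : (-1 : GL (Fin 3) F) ≠ 1 := fun h => by
    have h' : (-1 : F) = 1 := by
      simpa using congrArg (fun g : GL (Fin 3) F => (g : Matrix (Fin 3) (Fin 3) F) 0 0) h
    exact h2 (by linear_combination -h')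
  have hzc : ∀ x : ↥(X : Subgroup G), x * z = z * x := fun x => hf (by rw [map_mul, map_mul, hzf]; simp)
  have hdet : ∀ c ∈ commutator ↥(X : Subgroup G), Matrix.GeneralLinearGroup.det (f c) = 1 := by
    intro c hc
    exact Abelianization.commutator_subset_ker (Matrix.GeneralLinearGroup.det.comp f) hc
  have hzd : z ∉ commutator ↥(X : Subgroup G) := fun h => by
    have h1 := congrArg (fun u : Fˣ => (u : F)) (hdet z h)
    rw [hzf] at h1
    simp [Matrix.det_neg] at h1
    exact h2 (by linear_combination -h1)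
  -- central involutions
  set W := Subgroup.center ↥(X : Subgroup G) ⊓ E' with hW
  have hcomm0 : commutator ↥(X : Subgroup G) ≠ ⊥ := fun h => hnc ⟨⟨fun a b => commutatorElement_eq_one_iff_mul_comm.1
    (Subgroup.mem_bot.1 (h ▸ Subgroup.commutator_mem_commutator (Subgroup.mem_top a) (Subgroup.mem_top b)))⟩⟩
  obtain ⟨c, hcd, hcc, hco⟩ : ∃ c ∈ commutator ↥(X : Subgroup G), c ∈ Subgroup.center ↥(X : Subgroup G) ∧ orderOf c = 2 := by
    haveI : Group.IsNilpotent ↥(X : Subgroup G) := X.2.isNilpotent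
    have hne : commutator ↥(X : Subgroup G) ⊓ Subgroup.center ↥(X : Subgroup G) ≠ ⊥ :=
      Agent.Small.normal_meets_center X.2 inferInstance hcomm0
    haveI := (Subgroup.nontrivial_iff_ne_bot _).2 hne
    obtain ⟨k, hk0, hk⟩ := (X.2.to_subgroup (commutator ↥(X : Subgroup G) ⊓ Subgroup.center ↥(X : Subgroup G))).nontrivial_iff_card.1 ‹_›
    obtain ⟨c, hc⟩ := exists_prime_orderOf_dvd_card' 2 (hk ▸ dvd_pow_self 2 (by omega) :
      2 ∣ Nat.card ↥(commutator ↥(X : Subgroup G) ⊓ Subgroup.center ↥(X : Subgroup G)))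
    exact ⟨c, c.2.1, c.2.2, by rwa [Subgroup.orderOf_coe]⟩
  have hinE : ∀ u : ↥(X : Subgroup G), u ∈ Subgroup.center ↥(X : Subgroup G) → u ^ 2 = 1 → u ∈ E' := by
    intro u hu hu2
    obtain ⟨e, he, hef⟩ := hinvol (f u) (by
      rintro _ ⟨a, ha, rfl⟩
      rw [← map_mul, ← map_mul, Subgroup.mem_center_iff.1 hu a]) (by rw [← map_pow, hu2, map_one])
    rwa [← hf hef]
  have hzW : z ∈ W := Subgroup.mem_inf.2 ⟨Subgroup.mem_center_iff.2 hzc, hzE⟩
  have hcW : c ∈ W := Subgroup.mem_inf.2 ⟨hcc, hinE c hcc (orderOf_dvd_iff_pow_eq_one.1 hco.dvd)⟩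
  have hzne : z ≠ 1 := fun h => hne1 (by rw [← hzf, h, map_one])
  have hc1 : c ≠ 1 := fun h => by rw [h, orderOf_one] at hco; omega
  have hzcne : z ≠ c := fun h => hzd (h ▸ hcd)
  have hW4 : Nat.card W ≤ 4 := by
    have hlt : W < E' := by
      refine lt_of_le_of_ne inf_le_right fun h => hnc ⟨⟨fun a b => hf ?_⟩⟩
      have hall : ∀ g : ↥(X : Subgroup G), ∀ a ∈ A, a * f g = f g * a := by
        rintro g _ ⟨e, he, rfl⟩
        have h' : e ∈ W := h ▸ he
        rw [← map_mul, ← map_mul, Subgroup.mem_center_iff.1 (Subgroup.mem_inf.1 h').1 g]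
      rw [map_mul, map_mul]
      exact habel _ _ (hall a) (hall b)
    have h1 := Agent.Solv.card_lt_of_lt hlt
    have h2' := Subgroup.card_dvd_of_le hlt.le
    rw [hE', Agent.Solv.card_subgroupOf hE, hE8] at h1 h2'
    obtain ⟨k, hk, hk'⟩ := (Nat.dvd_prime_pow Nat.prime_two (m := 3)).1 h2'
    rw [hk'] at h1 ⊢
    interval_cases k <;> omega
  have hWlist : ∀ u ∈ W, u = 1 ∨ u = z ∨ u = c ∨ u = z * c := by
    intro u hu
    by_contra hcon
    push Not at hcon
    obtain ⟨h01, h02, h03, h04⟩ := hcon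
    let L : Finset ↥(X : Subgroup G) := {1, z, c, z * c, u}
    have hL : L.card = 5 := by
      have e1 : z * c ≠ 1 := fun h => hzcne (by
        calc z = z * (c * c) := by rw [← sq, orderOf_dvd_iff_pow_eq_one.1 hco.dvd, mul_one]
          _ = c := by rw [← mul_assoc, h, one_mul])
      have e2 : z * c ≠ z := fun h => hc1 (mul_eq_left.1 h)
      have e3 : z * c ≠ c := fun h => hzne (mul_eq_right.1 h)
      simp [L, Ne.symm hzne, Ne.symm hc1, Ne.symm e1, hzcne, Ne.symm e2, Ne.symm e3, Ne.symm h01, Ne.symm h02,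
        Ne.symm h03, Ne.symm h04]
    have : L.card ≤ Nat.card W := by
      rw [← Nat.card_eq_finsetCard]
      refine Nat.card_le_card_of_injective (fun l : L => (⟨l.1, ?_⟩ : W)) fun a b h => Subtype.ext (congrArg Subtype.val h :)
      have := l.2
      simp only [L, Finset.mem_insert, Finset.mem_singleton] at this
      rcases this with h | h | h | h | h <;> rw [h]
      exacts [one_mem _, hzW, hcW, mul_mem hzW hcW, hu]
    omega
  -- the normalizer fixes `z`
  set N := Subgroup.normalizer ((X : Subgroup G) : Set G) with hN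
  have hNconj : ∀ n ∈ N, ∀ u : ↥(X : Subgroup G), u ∈ W → ∃ u' : ↥(X : Subgroup G), u' ∈ W ∧
      (u' : G) = n * u * n⁻¹ ∧ (u ∈ commutator ↥(X : Subgroup G) → u' ∈ commutator ↥(X : Subgroup G)) := by
    intro n hn u hu
    obtain ⟨α, hα, -⟩ := exists_conj_aut (Q := (X : Subgroup G)) (g := n) hn
    refine ⟨α u, ?_, hα u, fun h => ?_⟩
    · have hcen : α u ∈ Subgroup.center ↥(X : Subgroup G) :=
        (Subgroup.characteristic_iff_map_eq.1 (inferInstance : (Subgroup.center ↥(X : Subgroup G)).Characteristic) α).le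
          ⟨u, (Subgroup.mem_inf.1 hu).1, rfl⟩
      exact Subgroup.mem_inf.2 ⟨hcen, hinE _ hcen (by rw [← map_pow, hE'2 u (Subgroup.mem_inf.1 hu).2, map_one])⟩
    · exact (Subgroup.characteristic_iff_map_eq.1 (inferInstance : (commutator ↥(X : Subgroup G)).Characteristic) α).le
        ⟨u, h, rfl⟩
  have hcfix : ∀ n ∈ N, n * (c : G) * n⁻¹ = c := by
    intro n hn
    obtain ⟨c', hc', hcn, hcd'⟩ := hNconj n hn c hcW
    rcases hWlist c' hc' with rfl | rfl | rfl | rfl
    · exfalso
      rw [OneMemClass.coe_one, eq_comm, conj_eq_one_iff] at hcn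
      exact hc1 (Subtype.ext hcn)
    · exact absurd (hcd' hcd) hzd
    · exact hcn.symm
    · exact absurd (by simpa using mul_mem (hcd' hcd) (inv_mem hcd)) hzd
  have hzN : ∀ n ∈ N, n * (z : G) = z * n := by
    set K := N ⊓ Subgroup.centralizer ({(z : G)} : Set G) with hK
    have hXK : (X : Subgroup G) ≤ K := le_inf Subgroup.le_normalizer fun x hx =>
      Subgroup.mem_centralizer_singleton_iff.2 (congrArg Subtype.val (hzc ⟨x, hx⟩) :)
    have himg : ∀ n ∈ N, n * (z : G) * n⁻¹ = z ∨ n * (z : G) * n⁻¹ = z * c := by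
      intro n hn
      obtain ⟨z', hz', hzn, -⟩ := hNconj n hn z hzW
      rcases hWlist z' hz' with rfl | rfl | rfl | rfl
      · exfalso
        rw [OneMemClass.coe_one, eq_comm, conj_eq_one_iff] at hzn
        exact hzne (Subtype.ext hzn)
      · exact Or.inl hzn.symm
      · exfalso
        refine hzcne (Subtype.ext (mul_left_cancel (mul_right_cancel (hzn.symm.trans (hcfix n hn).symm))))
      · exact Or.inr (hzn.symm.trans (by simp))
    have hle : K.relIndex N ≤ 2 := by
      refine le_trans (Nat.card_le_card_of_injective (β := Bool) (fun q : ↥N ⧸ K.subgroupOf N =>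
        decide ((q.out : G) * z * (q.out : G)⁻¹ = z)) ?_) (by simp)
      intro q r h
      have h' := decide_eq_decide.1 h
      have heq : (q.out : G) * z * (q.out : G)⁻¹ = (r.out : G) * z * (r.out : G)⁻¹ := by
        rcases himg _ q.out.2 with a | a <;> rcases himg _ r.out.2 with b | b
        · rw [a, b]
        · rw [a, h'.1 a]
        · rw [h'.2 b, b]
        · rw [a, b]
      rw [← Quotient.out_eq q, ← Quotient.out_eq r]
      refine QuotientGroup.eq.2 (Subgroup.mem_subgroupOf.2 (Subgroup.mem_inf.2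
        ⟨mul_mem (inv_mem q.out.2) r.out.2, Subgroup.mem_centralizer_singleton_iff.2 ?_⟩))
      show (q.out : G)⁻¹ * r.out * z = z * ((q.out : G)⁻¹ * r.out)
      calc (q.out : G)⁻¹ * r.out * z = (q.out : G)⁻¹ * ((r.out : G) * z * (r.out : G)⁻¹) * r.out := by group
        _ = (q.out : G)⁻¹ * ((q.out : G) * z * (q.out : G)⁻¹) * r.out := by rw [heq]
        _ = _ := by group
    have hd : K.relIndex N ∣ (X : Subgroup G).index :=
      ((Dvd.intro_left _ (Subgroup.relIndex_mul_relIndex (X : Subgroup G) K N hXK inf_le_left)).trans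
        (Dvd.intro _ (Subgroup.relIndex_mul_index Subgroup.le_normalizer)))
    have h1 : K.relIndex N = 1 := by
      have hne : K.relIndex N ≠ 0 := Subgroup.index_ne_zero_of_finite
      have hne2 : K.relIndex N ≠ 2 := fun h => X.not_dvd_index (by rw [h] at hd; exact hd)
      omega
    intro n hn
    exact Subgroup.mem_centralizer_singleton_iff.1 (Subgroup.mem_inf.1 (Subgroup.relIndex_eq_one.1 h1 hn)).2
  have hz1 := central_fixed_mem hG X (A := Abelianization ↥(X : Subgroup G))
    (X.2.of_surjective Abelianization.of (QuotientGroup.mk'_surjective _))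
    Abelianization.of z.2 (congrArg Subtype.val (hE'2 z hzE) :) (fun s hs => congrArg Subtype.val (hzc ⟨s, hs⟩) :) hzN
  exact hzd ((QuotientGroup.eq_one_iff z).1 hz1)

end Cfsg.Agent.S1906
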