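import Cfsg.Statements.S1907
import Cfsg.Agent.Lib.Fusion.PConstrained
import Cfsg.Agent.Lib.Solv.Coprime
import Cfsg.Agent.Lib.Fusion.Cores

set_option autoImplicit false
open Cfsg
open Cfsg.Agent.Fusion
open scoped commutatorElement

namespace Cfsg.Agent.S1907

/-- Let P be a Sylow p-subgroup of a finite group G, H = P ∩ O_{p',p}(G), N = N_G(H) and D = O_{p'}(G). (a) If y is an element of p-power order of N and d ∈ D with d⁻¹ y d ∈ N, then d = d₁ d₂ with d₁ ∈ C_D(y) and d₂ ∈ C_D(H). (b) Two elements of P that are conjugate in G are conjugate in N. -/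
theorem result {G : Type*} [Group G] [Finite G] {p : ℕ} [Fact p.Prime] (P : Sylow p G) :
    (∀ y ∈ Subgroup.normalizer (((P : Subgroup G) ⊓ Cfsg.pPrimePCore p G : Subgroup G) : Set G), (∃ k : ℕ, orderOf y = p ^ k) →
      ∀ d ∈ Cfsg.pPrimeCore p G, d⁻¹ * y * d ∈ Subgroup.normalizer (((P : Subgroup G) ⊓ Cfsg.pPrimePCore p G : Subgroup G) : Set G) →
        ∃ d₁ ∈ Cfsg.pPrimeCore p G ⊓ Subgroup.centralizer ({y} : Set G),
          ∃ d₂ ∈ Cfsg.pPrimeCore p G ⊓ Subgroup.centralizer (((P : Subgroup G) ⊓ Cfsg.pPrimePCore p G : Subgroup G) : Set G), d = d₁ * d₂) ∧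
    ∀ x y : G, x ∈ (P : Subgroup G) → y ∈ (P : Subgroup G) → IsConj x y →
      ∃ n ∈ Subgroup.normalizer (((P : Subgroup G) ⊓ Cfsg.pPrimePCore p G : Subgroup G) : Set G), n * x * n⁻¹ = y := by
  set O := Cfsg.pPrimePCore p G
  set H := (P : Subgroup G) ⊓ O with hH
  set N := Subgroup.normalizer (H : Set G) with hN
  set D := Cfsg.pPrimeCore p G
  haveI : O.Normal := pPrimePCore_normal
  have hDp : (Nat.card D).Coprime p := card_pPrimeCore_coprime p G
  set D' := D ⊓ Subgroup.centralizer (H : Set G) with hD'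
  have hDN : ∀ c ∈ D, c ∈ N → c ∈ D' := fun c hc hcN => ⟨hc, Subgroup.mem_centralizer_iff.2 fun h hh => by
    have h1 : c * h * c⁻¹ * h⁻¹ ∈ D ⊓ H := ⟨by
      rw [show c * h * c⁻¹ * h⁻¹ = c * (h * c⁻¹ * h⁻¹) by group]
      exact mul_mem hc ((inferInstance : D.Normal).conj_mem _ (inv_mem hc) h),
      mul_mem ((Subgroup.mem_normalizer_iff.1 hcN h).1 hh) (H.inv_mem hh)⟩
    rw [coprime_inf_pGroup hDp (P.isPGroup'.to_inf_left), Subgroup.mem_bot, mul_inv_eq_one,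
      mul_inv_eq_iff_eq_mul] at h1
    exact h1.symm⟩
  have hnorm : ∀ n ∈ N, n ∈ Subgroup.normalizer (D' : Set G) := fun n hn => mem_normalizer_iff_cj.2 (by
    rw [hD', cj_inf, cj_of_normal, cj_centralizer, cj_eq_self hn])
  have ha : ∀ y ∈ N, (∃ k : ℕ, orderOf y = p ^ k) → ∀ d ∈ D, d⁻¹ * y * d ∈ N →
      ∃ d₁ ∈ D ⊓ Subgroup.centralizer ({y} : Set G), ∃ d₂ ∈ D', d = d₁ * d₂ := by
    intro y hy ⟨k, hk⟩ d hd hdy
    have hc : d⁻¹ * (y * d * y⁻¹) ∈ D' := by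
      refine hDN _ (mul_mem (inv_mem hd) ((inferInstance : D.Normal).conj_mem d hd y)) ?_
      rw [show d⁻¹ * (y * d * y⁻¹) = d⁻¹ * y * d * y⁻¹ by group]
      exact mul_mem hdy (inv_mem hy)
    have hpow : ∀ j : ℕ, d⁻¹ * (y ^ j * d * (y ^ j)⁻¹) ∈ D' := by
      intro j
      induction j with
      | zero => simp
      | succ j ih =>
        have h1 := mul_mem hc ((Subgroup.mem_normalizer_iff.1 (hnorm y hy) _).1 ih)
        rw [show d⁻¹ * (y ^ (j + 1) * d * (y ^ (j + 1))⁻¹) =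
          d⁻¹ * (y * d * y⁻¹) * (y * (d⁻¹ * (y ^ j * d * (y ^ j)⁻¹)) * y⁻¹) by rw [pow_succ']; group]
        exact h1
    have hco : (Nat.card (Subgroup.zpowers y)).Coprime (Nat.card D) := by
      rw [Nat.card_zpowers, hk]; exact hDp.symm.pow_left k
    obtain ⟨c, hc1, hc2⟩ := Agent.Solv.exists_fixed_in_coset' (Subgroup.zpowers y) D D'
      (by rw [Subgroup.normalizer_eq_top]; exact le_top) hco
      (Or.inl (Group.isSolvable_of_comm fun a b =>
        (inferInstance : IsMulCommutative (Subgroup.zpowers y)).is_comm.comm a b))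
      inf_le_left (Subgroup.zpowers_le.2 (hnorm y hy)) hd (by
        intro a ha
        obtain ⟨j, rfl⟩ := (isOfFinOrder_of_finite y).mem_powers_iff_mem_zpowers.2 ha
        exact hpow j)
    obtain ⟨hcD, hcy⟩ := Subgroup.mem_inf.1 hc1
    refine ⟨c, ⟨hcD, Subgroup.mem_centralizer_singleton_iff.2
      (Subgroup.mem_centralizer_iff.1 hcy y (Subgroup.mem_zpowers y)).symm⟩, c⁻¹ * d, ?_, by group⟩
    simpa using inv_mem hc2
  refine ⟨ha, fun x y hx hy hxy => ?_⟩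
  obtain ⟨g, hg⟩ := isConj_iff.1 hxy
  have hHsyl : SylIn p H O := (sylIn_top P).inf_normal le_top (by rw [Subgroup.normalizer_eq_top])
  obtain ⟨o, ho, hon⟩ := frattini_conj hHsyl (H := ⊤) (by rw [Subgroup.normalizer_eq_top]) (Subgroup.mem_top g)
  obtain ⟨h, hh, d, hd, hod⟩ : ∃ h ∈ H, ∃ d ∈ D, h * d = o := by
    have h1 := (sup_pPrimeCore_of_sylIn hHsyl).ge ho
    exact Subgroup.mem_sup_of_normal_right.1 h1
  set n := d * g
  have hn : n ∈ N := by
    rw [show n = h⁻¹ * (o * g) by simp [n, ← hod, mul_assoc]]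
    exact mul_mem (inv_mem (Subgroup.le_normalizer hh)) hon
  have hPN : (P : Subgroup G) ≤ N := fun a ha => mem_normalizer_iff_cj.2 (by
    rw [hH, cj_inf, cj_eq_self_of_mem ha, cj_of_normal])
  obtain ⟨k, hk⟩ := IsPGroup.iff_orderOf.1 P.isPGroup' ⟨y, hy⟩
  obtain ⟨d₁, hd₁, d₂, hd₂, hdd⟩ := ha y (hPN hy) ⟨k, by simpa using hk⟩ d⁻¹ (inv_mem hd) (by
    rw [← hg, show d⁻¹⁻¹ * (g * x * g⁻¹) * d⁻¹ = n * x * n⁻¹ by simp [n, mul_assoc]]
    exact mul_mem (mul_mem hn (hPN hx)) (inv_mem hn))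
  refine ⟨d₂ * n, mul_mem (Subgroup.centralizer_le_normalizer _ hd₂.2) hn, ?_⟩
  have h2 : y * d₁ = d₁ * y := (Subgroup.mem_centralizer_singleton_iff.1 hd₁.2).symm
  have h3 : d = d₂⁻¹ * d₁⁻¹ := by rw [← inv_inv d, hdd, mul_inv_rev]
  calc d₂ * n * x * (d₂ * n)⁻¹ = d₂ * d * (g * x * g⁻¹) * (d₂ * d)⁻¹ := by simp [n, mul_assoc]
    _ = d₁⁻¹ * (y * d₁) := by rw [hg, h3]; group
    _ = y := by rw [h2, inv_mul_cancel_left]

end Cfsg.Agent.S1907
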