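import Cfsg.Statements.S1910
import Cfsg.Agent.Lib.Fusion.TightlyEmbedded

set_option autoImplicit false
open Cfsg
open Cfsg.Agent.Fusion
open scoped commutatorElement Pointwise

namespace Cfsg.Agent.S1910

/-- Let Q be a tightly embedded subgroup of a finite group G, g an element outside N_G(Q), T a nontrivial Sylow 2-subgroup of Q^g ∩ N_G(Q), and S a Sylow 2-subgroup of QT containing T. Then T ∩ Q = 1, and N_S(T) is the direct product of T and N_S(T) ∩ Q, with N_S(T) ∩ Q isomorphic to T. -/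
theorem result {G : Type*} [Group G] [Finite G] (Q : Subgroup G) (hQ : Cfsg.IsTightlyEmbedded Q)
    (g : G) (hg : g ∉ Subgroup.normalizer (Q : Set G))
    (T : Subgroup G) (hT1 : T ≠ ⊥) (hT : T ≤ Q.map (MulAut.conj g).toMonoidHom ⊓ Subgroup.normalizer (Q : Set G))
    (hTsyl : IsPGroup 2 T ∧ ¬ 2 ∣ T.relIndex (Q.map (MulAut.conj g).toMonoidHom ⊓ Subgroup.normalizer (Q : Set G)))
    (S : Subgroup G) (hTS : T ≤ S) (hS : S ≤ Q ⊔ T) (hSsyl : IsPGroup 2 S ∧ ¬ 2 ∣ S.relIndex (Q ⊔ T)) :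
    T ⊓ Q = ⊥ ∧
      T ⊓ (S ⊓ Subgroup.normalizer (T : Set G) ⊓ Q) = ⊥ ∧
      ⁅T, S ⊓ Subgroup.normalizer (T : Set G) ⊓ Q⁆ = ⊥ ∧
      T ⊔ (S ⊓ Subgroup.normalizer (T : Set G) ⊓ Q) = S ⊓ Subgroup.normalizer (T : Set G) ∧
      Nonempty (↥(S ⊓ Subgroup.normalizer (T : Set G) ⊓ Q) ≃* T) := by
  set Q' := cj Q g with hQ'
  set Nq := Subgroup.normalizer (Q : Set G)
  have hTQ' : T ≤ Q' := hT.trans inf_le_left
  have hTN : T ≤ Nq := hT.trans inf_le_right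
  have hTp := hTsyl.1
  have htwo : ∀ {U : Subgroup G}, IsPGroup 2 U → ∀ x ∈ U, ∃ k : ℕ, orderOf x = 2 ^ k := fun {U} hU x hx => by
    obtain ⟨k, hk⟩ := IsPGroup.iff_orderOf.1 hU ⟨x, hx⟩
    exact ⟨k, by simpa using hk⟩
  have hodd := hQ.2 g hg
  have hint : ∀ {U : Subgroup G}, IsPGroup 2 U → ∀ x ∈ U, x ∈ Q → x ∈ Q' → x = 1 := fun {U} hU x hx h1 h2 => by
    obtain ⟨k, hk⟩ := htwo hU x hx
    have hd := hk ▸ Subgroup.orderOf_dvd_natCard (Q ⊓ Q') (⟨h1, h2⟩ : x ∈ Q ⊓ Q')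
    rcases k with _ | k
    · exact orderOf_eq_one_iff.1 (hk.trans (pow_zero 2))
    · exact absurd (even_iff_two_dvd.2 ((dvd_pow_self 2 k.succ_ne_zero).trans hd)) (Nat.not_even_iff_odd.2 hodd)
  have hTQ : T ⊓ Q = ⊥ := eq_bot_iff.2 fun x hx => Subgroup.mem_bot.2
    (hint hTp x hx.1 hx.2 (hTQ' hx.1))
  set S₀ := S ⊓ Q with hS₀
  set R := S ⊓ Subgroup.normalizer (T : Set G) ⊓ Q with hR
  have hRS₀ : R ≤ S₀ := le_inf (inf_le_left.trans inf_le_left) inf_le_right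
  have hRQ : R ≤ Q := inf_le_right
  have hRp : IsPGroup 2 R := hSsyl.1.to_le (inf_le_left.trans inf_le_left)
  have hS₀p : IsPGroup 2 S₀ := hSsyl.1.to_inf_left
  have hcomm : ∀ r ∈ R, ∀ t ∈ T, r * t = t * r := by
    intro r hr t ht
    have h1 : r * t * r⁻¹ * t⁻¹ ∈ T ⊓ Q := by
      refine ⟨mul_mem ((Subgroup.mem_normalizer_iff.1 hr.1.2 t).1 ht) (T.inv_mem ht), ?_⟩
      rw [show r * t * r⁻¹ * t⁻¹ = r * (t * r⁻¹ * t⁻¹) by group]
      exact mul_mem hr.2 ((Subgroup.mem_normalizer_iff.1 (hTN ht) _).1 (inv_mem hr.2))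
    rw [hTQ, Subgroup.mem_bot, mul_inv_eq_one, mul_inv_eq_iff_eq_mul] at h1
    exact h1
  have hsplit : ∀ x ∈ S, ∃ q ∈ S₀, ∃ t ∈ T, q * t = x := by
    intro x hx
    have h1 := hS hx
    rw [← SetLike.mem_coe, Subgroup.coe_mul_of_right_le_normalizer_left Q T hTN] at h1
    obtain ⟨q, hq, t, ht, rfl⟩ := h1
    exact ⟨q, ⟨by simpa using mul_mem hx (inv_mem (hTS ht)), hq⟩, t, ht, rfl⟩
  have hTR : T ⊔ R = S ⊓ Subgroup.normalizer (T : Set G) := by
    refine le_antisymm (sup_le (le_inf hTS Subgroup.le_normalizer) inf_le_left) fun x hx => ?_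
    obtain ⟨q, hq, t, ht, rfl⟩ := hsplit x hx.1
    have hqN : q ∈ Subgroup.normalizer (T : Set G) := by
      simpa using mul_mem (Subgroup.mem_inf.1 hx).2 (inv_mem (Subgroup.le_normalizer (H := T) ht))
    exact mul_mem (Subgroup.mem_sup_right ⟨⟨hq.1, hqN⟩, hq.2⟩) (Subgroup.mem_sup_left ht)
  have hTRint : T ⊓ R = ⊥ := le_bot_iff.1 (hTQ ▸ inf_le_inf_left _ hRQ)
  refine ⟨hTQ, hTRint, ?_, hTR, ?_⟩
  · exact Subgroup.commutator_eq_bot_iff_le_centralizer.2 fun t ht =>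
      Subgroup.mem_centralizer_iff.2 fun r hr => hcomm r hr t ht
  have htQ' := tightly_cj hQ g
  obtain ⟨t₁, ht₁, ht₁1⟩ := T.bot_or_exists_ne_one.resolve_left hT1
  have hRN' : R ≤ Subgroup.normalizer (Q' : Set G) := fun r hr =>
    tightly_centralizer_le htQ' (hTQ' ht₁) (htwo hTp t₁ ht₁) ht₁1
      (Subgroup.mem_centralizer_singleton_iff.2 (hcomm r hr t₁ ht₁))
  haveI : Fact (Nat.Prime 2) := ⟨Nat.prime_two⟩
  -- the invariant Sylow subgroup of `Q'`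
  have hRTp : IsPGroup 2 ↥(R ⊔ T) := hSsyl.1.to_le (sup_le (inf_le_left.trans inf_le_left) hTS)
  obtain ⟨U, hU, hUle⟩ := exists_sylIn_ge hRTp (sup_le_sup_left hTQ' R)
  set T' := U ⊓ Q'
  have hT' : SylIn 2 T' Q' := hU.inf_normal le_sup_right (sup_le hRN' Subgroup.le_normalizer)
  have hTT' : T ≤ T' := le_inf (le_sup_right.trans hUle) hTQ'
  have hRT' : R ≤ Subgroup.normalizer (T' : Set G) := fun r hr => mem_normalizer_iff_cj.2 (by
    show cj (U ⊓ Q') r = U ⊓ Q'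
    rw [cj_inf, cj_eq_self_of_mem (hUle (Subgroup.mem_sup_left hr)), cj_eq_self (hRN' hr)])
  have hinterR : R ⊓ T' = ⊥ := eq_bot_iff.2 fun x hx => Subgroup.mem_bot.2
    (hint hRp x hx.1 (hRQ hx.1) hx.2.2)
  have hA := eq_or_embeds hQ hT'.isPGroup hRp hRQ hTT' hRT' hcomm hinterR (by
    intro a ha haN _
    have hp' : IsPGroup 2 ↥(T' ⊓ Nq) := hT'.isPGroup.to_inf_left
    have hsy : SylIn 2 T (Q' ⊓ Nq) := ⟨hT, hTp, hTsyl.2⟩
    have := hsy.eq_of_le hp' (le_inf hTT' hTN) (inf_le_inf_right _ inf_le_right)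
    exact this ▸ (⟨ha, haN⟩ : a ∈ T' ⊓ Nq))
  have hTS₀ : T ≤ Subgroup.normalizer (S₀ : Set G) := fun t ht => mem_normalizer_iff_cj.2 (by
    rw [hS₀, cj_inf, cj_eq_self_of_mem (hTS ht), cj_eq_self (hTN ht)])
  have hB := eq_or_embeds htQ' hS₀p hTp hTQ' hRS₀ hTS₀ (fun t ht r hr => (hcomm r hr t ht).symm)
    (le_bot_iff.1 (hTQ ▸ inf_le_inf_left _ inf_le_right)) (by
    intro a ha haN' haTR
    refine ⟨⟨ha.1, mem_normalizer_of_cj_le ?_⟩, ha.2⟩
    rintro _ ⟨t, ht, rfl⟩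
    have h1 : a * t * a⁻¹ ∈ T ⊔ R := (Subgroup.mem_normalizer_iff.1 haTR t).1 (Subgroup.mem_sup_left ht)
    have h2 : a * t * a⁻¹ ∈ Q' := (Subgroup.mem_normalizer_iff.1 haN' t).1 (hTQ' ht)
    rw [sup_comm, ← SetLike.mem_coe, Subgroup.coe_mul_of_right_le_normalizer_left R T (fun t' ht' =>
      Subgroup.centralizer_le_normalizer _ (Subgroup.mem_centralizer_iff.2 fun r hr => hcomm r hr t' ht'))] at h1
    obtain ⟨r, hr, t', ht', he⟩ := h1
    change r * t' = a * t * a⁻¹ at he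
    have hr1 : r = 1 := hint hRp r hr (hRQ hr) (by
      have := mul_mem (he ▸ h2 : r * t' ∈ Q') (inv_mem (hTQ' ht'))
      simpa using this)
    show a * t * a⁻¹ ∈ T
    rw [← he, hr1, one_mul]; exact ht')
  -- Sylow subgroups of `Q` and of its conjugate have the same order
  have hS₀syl : SylIn 2 S₀ Q := (SylIn.mk hS hSsyl.1 hSsyl.2).inf_normal le_sup_left
    (sup_le Subgroup.le_normalizer hTN)
  obtain ⟨c, -, hc⟩ := (hS₀syl.cj g).conj_eq hT'
  have hcardS : Nat.card T' = Nat.card S₀ := by rw [← hc, card_cj, card_cj]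
  have hiso : ∀ {A B : Subgroup G} (φ : A →* B), Function.Injective φ → Nat.card B ≤ Nat.card A →
      Nonempty (A ≃* B) := fun {A B} φ hφ hle =>
    ⟨MulEquiv.ofBijective φ ((Function.Injective.bijective_of_nat_card_le hφ) hle)⟩
  rcases hA with hA | ⟨φ, hφ⟩
  · rcases hB with hB | ⟨ψ, hψ⟩
    · -- both are Sylow subgroups
      have hc' : cj (cj R g) c = T := by rw [← hB, hc, hA]
      refine ⟨(R.equivMapOfInjective _ (MulAut.conj g).injective).trans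
        (((cj R g).equivMapOfInjective _ (MulAut.conj c).injective).trans (MulEquiv.subgroupCongr hc'))⟩
    · have h1 : Nat.card R ≤ Nat.card T := by
        rw [← hA, hcardS]; exact Subgroup.card_le_of_le hRS₀
      exact (hiso ψ hψ h1).map MulEquiv.symm
  · rcases hB with hB | ⟨ψ, hψ⟩
    · have h1 : Nat.card T ≤ Nat.card R := by
        rw [← hB, ← hcardS]; exact Subgroup.card_le_of_le hTT'
      exact hiso φ hφ h1
    · exact hiso φ hφ (Nat.card_le_card_of_injective ψ hψ)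

end Cfsg.Agent.S1910
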