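import Cfsg.Statements.S1914
import Cfsg.Agent.Lib.Fusion.RankOne.FourComm
import Cfsg.Agent.Lib.Solv.Component
-- import your own Cfsg.Agent.* helpers here

set_option autoImplicit false
set_option linter.style.haveILetI false
open Cfsg Cfsg.Agent

namespace Cfsg.Agent.S1914

/-- Let A be a semisimple subgroup (a central product of quasisimple groups, A = E(A)) of a finite group and t an involution normalizing A such that the Sylow 2-subgroups of C_A(t) are cyclic of order 4. Then A has 2-rank exactly 1. -/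
theorem result {G : Type*} [Group G] [Finite G] (A : Subgroup G) (hA : Cfsg.layer ↥A = ⊤)
    (t : G) (ht : orderOf t = 2) (htA : t ∈ Subgroup.normalizer (A : Set G))
    (hC : ∀ R : Sylow 2 ↥(A ⊓ Subgroup.centralizer ({t} : Set G)), IsCyclic R ∧ Nat.card R = 4) :
    Cfsg.PRankLE 2 1 A ∧ ¬ Cfsg.PRankLE 2 0 A := by
  classical
  haveI : Fact (Nat.Prime 2) := ⟨Nat.prime_two⟩
  have htt : t * t = 1 := by rw [← pow_two, ← ht, pow_orderOf_eq_one]
  have hperf : commutator ↥A = ⊤ := by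
    have := Solv.layer_perfect (G := ↥A)
    rw [hA] at this
    rw [commutator_def]; exact this
  -- the fixed cyclic group of order four
  obtain ⟨H, hH⟩ : ∃ H, H = A ⊓ Subgroup.centralizer ({t} : Set G) := ⟨_, rfl⟩
  rw [← hH] at hC
  obtain ⟨P⟩ : Nonempty (Sylow 2 ↥H) := inferInstance
  obtain ⟨hPc, hP4⟩ := hC P
  obtain ⟨R, hRdef⟩ : ∃ R, R = (P : Subgroup ↥H).map H.subtype := ⟨_, rfl⟩
  have hR : Fusion.SylIn 2 R H := hRdef ▸ Fusion.sylIn_map H P
  haveI hRc : IsCyclic R := by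
    haveI := hPc
    subst hRdef
    exact isCyclic_of_surjective
      ((P : Subgroup ↥H).equivMapOfInjective H.subtype H.subtype_injective).toMonoidHom (MulEquiv.surjective _)
  have hR4 : Nat.card R = 4 := by
    rw [hRdef, Subgroup.card_map_of_injective (f := H.subtype) H.subtype_injective]; exact hP4
  obtain ⟨⟨i, hiR⟩, hgen⟩ := hRc.exists_generator
  have hio : orderOf i = 4 := by
    rw [← Subgroup.orderOf_mk i hiR, orderOf_eq_card_of_forall_mem_zpowers hgen, hR4]
  have hRi : R = Subgroup.zpowers i := le_antisymm (fun x hx => by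
      obtain ⟨n, hn⟩ := Subgroup.mem_zpowers_iff.1 (hgen ⟨x, hx⟩)
      exact ⟨n, congrArg Subtype.val hn⟩) (Subgroup.zpowers_le.2 hiR)
  have hiH : i ∈ H := hR.le hiR
  have hiA : i ∈ A := by rw [hH] at hiH; exact hiH.1
  have hit : i * t = t * i := by
    rw [hH] at hiH
    exact Subgroup.mem_centralizer_singleton_iff.1 hiH.2
  have hz1 : i * i ≠ 1 := fun e => by
    have := orderOf_dvd_of_pow_eq_one (show i ^ 2 = 1 by rw [pow_two, e])
    rw [hio] at this; norm_num at this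
  have hzz : i * i * (i * i) = 1 := by
    rw [show i * i * (i * i) = i ^ 4 by simp [pow_succ, mul_assoc], ← hio, pow_orderOf_eq_one]
  refine ⟨?_, fun h0 => ?_⟩
  swap
  · have h1 := h0 (Subgroup.zpowers (⟨i * i, mul_mem hiA hiA⟩ : ↥A)) inferInstance (fun a ha => by
      obtain ⟨n, rfl⟩ := Subgroup.mem_zpowers_iff.1 ha
      rw [pow_two, ← (Commute.refl _).mul_zpow, show (⟨i * i, mul_mem hiA hiA⟩ : ↥A) * ⟨i * i, mul_mem hiA hiA⟩ = 1
        from Subtype.ext hzz, one_zpow])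
    rw [Nat.card_zpowers, pow_zero, Subgroup.orderOf_mk, orderOf_eq_prime ((pow_two _).trans hzz) hz1] at h1
    omega
  -- a Sylow subgroup of `A⟨t⟩`
  obtain ⟨B, hB⟩ : ∃ B, B = A ⊔ Subgroup.zpowers t := ⟨_, rfl⟩
  have hAB : A ≤ B := hB ▸ le_sup_left
  have hBA : B ≤ Subgroup.normalizer (A : Set G) :=
    hB ▸ sup_le Subgroup.le_normalizer (Subgroup.zpowers_le.2 htA)
  have hzt : IsPGroup 2 ↥(Subgroup.zpowers t) := IsPGroup.of_card (n := 1) (by rw [Nat.card_zpowers, ht, pow_one])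
  have hsup : IsPGroup 2 ↥(R ⊔ Subgroup.zpowers t) := by
    refine IsPGroup.to_sup_of_normal_right' hR.isPGroup hzt ?_
    rw [hRi, Subgroup.zpowers_le]
    refine Subgroup.centralizer_le_normalizer _ (Subgroup.mem_centralizer_iff.2 ?_)
    rintro _ ⟨n, rfl⟩
    exact ((show Commute i t from hit).zpow_right n).eq.symm
  obtain ⟨W, hW, hle⟩ := Fusion.exists_sylIn_ge hsup (sup_le ((hR.le.trans (hH ▸ inf_le_left)).trans hAB)
    (hB ▸ le_sup_right) : R ⊔ Subgroup.zpowers t ≤ B)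
  have htW : t ∈ W := hle (Subgroup.mem_sup_right (Subgroup.mem_zpowers t))
  obtain ⟨S, hS'⟩ : ∃ S, S = W ⊓ A := ⟨_, rfl⟩
  have hS : Fusion.SylIn 2 S A := hS' ▸ hW.inf_normal hAB hBA
  have hiS : i ∈ S := hS' ▸ Subgroup.mem_inf.2 ⟨hle (Subgroup.mem_sup_left hiR), hiA⟩
  have hfix : ∀ x ∈ S, t * x * t⁻¹ = x → x ∈ Subgroup.zpowers i := by
    intro x hx hxt
    have h1 : S ⊓ Subgroup.centralizer ({t} : Set G) = R := by
      refine hR.eq_of_le (hS.isPGroup.to_le inf_le_left) ?_ ?_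
      · intro y hy
        refine ⟨?_, ?_⟩
        · rw [hS']; exact ⟨hle (Subgroup.mem_sup_left hy), by have := hR.le hy; rw [hH] at this; exact this.1⟩
        · have := hR.le hy; rw [hH] at this; exact this.2
      · intro y hy; rw [hH]; exact ⟨hS.le hy.1, hy.2⟩
    rw [← hRi, ← h1]
    exact ⟨hx, Subgroup.mem_centralizer_singleton_iff.2 (mul_inv_eq_iff_eq_mul.1 hxt).symm⟩
  -- `t` lies outside `A`
  have htnA : t ∉ A := by
    intro htmem
    have htS : t ∈ S := hS' ▸ Subgroup.mem_inf.2 ⟨htW, htmem⟩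
    have ht1 : t ≠ 1 := fun e => by rw [e, orderOf_one] at ht; omega
    have htz : t = i * i := (Fusion.RankOne.sq_one_cases (Subgroup.isCyclic_zpowers i)
      (mul_mem (Subgroup.mem_zpowers i) (Subgroup.mem_zpowers i)) (hfix t htS (by group)) hzz hz1 htt).resolve_left ht1
    haveI : Nontrivial ↥S := ⟨⟨⟨t, htS⟩, 1, fun e => ht1 (congrArg Subtype.val e)⟩⟩
    obtain ⟨c, -, hcc, hc1⟩ := Perm.exists_ne_one_center hS.isPGroup (⊤ : Subgroup ↥S)
    have hc : ∀ x ∈ S, x * (c : G) = (c : G) * x := fun x hx =>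
      congrArg Subtype.val (Subgroup.mem_center_iff.1 hcc ⟨x, hx⟩)
    obtain ⟨n, hn⟩ := Subgroup.mem_zpowers_iff.1 (hfix (c : G) c.2 (mul_inv_eq_iff_eq_mul.2 (hc t htS)))
    have hzc : ∀ x ∈ S, x * t = t * x := by
      intro x hx
      rw [htz]
      have h4 : i ^ (4 : ℤ) = 1 := by
        rw [show (4 : ℤ) = ((4 : ℕ) : ℤ) from rfl, zpow_natCast, ← hio, pow_orderOf_eq_one]
      have hn0 : n % 4 ≠ 0 := fun e => hc1 (Subtype.ext (by
        rw [← hn, ← Int.emod_add_mul_ediv n 4, e, zero_add, zpow_mul, h4, one_zpow]; rfl))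
      have hcx : Commute x (i ^ n) := by rw [hn]; exact hc x hx
      have : i * i = (i ^ n) ^ (if n % 4 = 2 then (1 : ℤ) else 2) := by
        rw [← zpow_mul, ← Int.emod_add_mul_ediv (n * if n % 4 = 2 then (1 : ℤ) else 2) 4, zpow_add, zpow_mul i 4, h4,
          one_zpow, mul_one, ← zpow_two]
        congr 1
        split_ifs <;> omega
      rw [this]
      exact (hcx.zpow_right _).eq
    have hall : ∀ x ∈ S, x ∈ Subgroup.zpowers i := fun x hx =>
      hfix x hx (mul_inv_eq_iff_eq_mul.2 (hzc x hx).symm)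
    obtain ⟨g, -, hg, -⟩ := Fusion.RankOne.extremal_in hperf hS (T := ⊥) bot_le
      (fun w _ x hx => by rw [Subgroup.mem_bot.1 hx, mul_one, mul_inv_cancel]; exact one_mem _) hiS
      (fun x hx => by
        obtain ⟨m, rfl⟩ := Subgroup.mem_zpowers_iff.1 (hall x hx)
        exact ⟨m, Subgroup.mem_bot.2 (inv_mul_cancel _)⟩) htS htt (fun e => ht1 (Subgroup.mem_bot.1 e))
    exact ht1 (conj_eq_one_iff.1 (Subgroup.mem_bot.1 hg))
  have hpair : ∀ g ∈ B, ∀ p ∈ A, ∀ q ∈ A, p * p = 1 → q * q = 1 → p ≠ 1 → q ≠ 1 → p ≠ q →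
      p * q = q * p → p * (g * t * g⁻¹) = g * t * g⁻¹ * p → q * (g * t * g⁻¹) = g * t * g⁻¹ * q → False := by
    intro g hg p hp q hq hpp hqq hp1 hq1 hpq hpqc hpt hqt
    have hmem : ∀ y ∈ A, y * (g * t * g⁻¹) = g * t * g⁻¹ * y → g⁻¹ * y * g ∈ H := by
      intro y hy hyt
      rw [hH]
      refine ⟨?_, Subgroup.mem_centralizer_singleton_iff.2 ?_⟩
      · have := (Subgroup.mem_normalizer_iff.1 (hBA (inv_mem hg)) y).1 hy
        rwa [inv_inv] at this
      · calc g⁻¹ * y * g * t = g⁻¹ * (y * (g * t * g⁻¹)) * g := by group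
          _ = g⁻¹ * (g * t * g⁻¹ * y) * g := by rw [hyt]
          _ = t * (g⁻¹ * y * g) := by group
    have hcomm' : g⁻¹ * p * g * (g⁻¹ * q * g) = g⁻¹ * q * g * (g⁻¹ * p * g) := by
      calc g⁻¹ * p * g * (g⁻¹ * q * g) = g⁻¹ * (p * q) * g := by group
        _ = g⁻¹ * (q * p) * g := by rw [hpqc]
        _ = _ := by group
    have hel : Cfsg.IsElementaryAbelian 2 (Subgroup.closure {g⁻¹ * p * g, g⁻¹ * q * g}) := by
      refine Local.elemAb_closure _ ?_ ?_
      · rintro a (rfl | rfl) b (rfl | rfl)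
        all_goals first
          | rfl
          | exact hcomm'
          | exact hcomm'.symm
      · rintro a (rfl | rfl)
        · rw [pow_two, show g⁻¹ * p * g * (g⁻¹ * p * g) = g⁻¹ * (p * p) * g by group, hpp, mul_one, inv_mul_cancel]
        · rw [pow_two, show g⁻¹ * q * g * (g⁻¹ * q * g) = g⁻¹ * (q * q) * g by group, hqq, mul_one, inv_mul_cancel]
    obtain ⟨k, -, hk⟩ := hR.conj_le (Q := Subgroup.closure {g⁻¹ * p * g, g⁻¹ * q * g})
      (fun x => ⟨1, Subtype.ext (by simpa using hel.2 x x.2)⟩)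
      ((Subgroup.closure_le _).2 (by
        rintro a (rfl | rfl)
        · exact hmem p hp hpt
        · exact hmem q hq hqt))
    have hp' := hk (Fusion.conj_mem_cj (Subgroup.subset_closure (Set.mem_insert (g⁻¹ * p * g) _)))
    have hq' := hk (Fusion.conj_mem_cj (Subgroup.subset_closure (Set.mem_insert_of_mem (g⁻¹ * p * g) rfl)))
    have hsq : ∀ y : G, y * y = 1 → k * (g⁻¹ * y * g) * k⁻¹ * (k * (g⁻¹ * y * g) * k⁻¹) = 1 := fun y hy => by
      rw [show k * (g⁻¹ * y * g) * k⁻¹ * (k * (g⁻¹ * y * g) * k⁻¹) = k * (g⁻¹ * (y * y) * g) * k⁻¹ by group, hy]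
      group
    have hne : ∀ y : G, k * (g⁻¹ * y * g) * k⁻¹ = 1 → y = 1 := fun y hy => by
      calc y = g * k⁻¹ * (k * (g⁻¹ * y * g) * k⁻¹) * k * g⁻¹ := by group
        _ = 1 := by rw [hy]; group
    rcases Fusion.RankOne.sq_one_cases hRc hp' hq' (hsq p hpp) (fun e => hp1 (hne p e)) (hsq q hqq) with e | e
    · exact hq1 (hne q e)
    · refine hpq ?_
      have := congrArg (fun w => g * k⁻¹ * w * k * g⁻¹) e
      simp only [mul_assoc, inv_mul_cancel_left, mul_inv_cancel_left, inv_mul_cancel, mul_inv_cancel, mul_one] at this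
      exact this.symm
  have ctx : Fusion.RankOne.Ctx A W S t i :=
    ⟨hperf, hB ▸ hW, hS, htA, hS', htW, htt, htnA, hiS, hio,
      mul_inv_eq_iff_eq_mul.2 hit.symm, hfix, hB ▸ hpair⟩
  intro E₀ hE₀ hexp₀
  rw [pow_one]
  by_contra hcard
  obtain ⟨p, -, q, -, hpp, hqq, hp1, hq1, hpq, hc⟩ := Fusion.RankOne.exists_pair hE₀ hexp₀ (not_le.1 hcard)
  have hel : Cfsg.IsElementaryAbelian 2 (Subgroup.closure {(p : G), (q : G)}) := by
    refine Local.elemAb_closure _ ?_ ?_
    · rintro a (rfl | rfl) b (rfl | rfl)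
      all_goals first | rfl | exact congrArg Subtype.val hc | exact (congrArg Subtype.val hc).symm
    · rintro a (rfl | rfl)
      · exact (pow_two _).trans (congrArg Subtype.val hpp)
      · exact (pow_two _).trans (congrArg Subtype.val hqq)
  obtain ⟨k, -, hk⟩ := hS.conj_le (Q := Subgroup.closure {(p : G), (q : G)})
    (fun x => ⟨1, Subtype.ext (by simpa using hel.2 x x.2)⟩)
    ((Subgroup.closure_le _).2 (by rintro a (rfl | rfl) <;> exact SetLike.coe_mem _))
  have hu₀ := hk (Fusion.conj_mem_cj (Subgroup.subset_closure (Set.mem_insert (p : G) _)))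
  have hv₀ := hk (Fusion.conj_mem_cj (Subgroup.subset_closure (Set.mem_insert_of_mem (p : G) rfl)))
  have hsq : ∀ a : G, a * a = 1 → k * a * k⁻¹ * (k * a * k⁻¹) = 1 := fun a h => by
    rw [show k * a * k⁻¹ * (k * a * k⁻¹) = k * (a * a) * k⁻¹ by group, h]; group
  obtain ⟨C, j, s, hCS, hCc, hCn, hj, hj4, hsS, hsC, hss, hsj, hprod⟩ :=
    Fusion.RankOne.exists_frame ctx.hW ctx.SW (fun w hw x hx => ctx.conj_mem hw hx)
      (fun E hES hE hE4 hEW => ctx.four_false hES hE hE4 hEW) hu₀ hv₀ (hsq _ (congrArg Subtype.val hpp))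
      (hsq _ (congrArg Subtype.val hqq)) (fun h => hp1 (Subtype.ext (conj_eq_one_iff.1 h)))
      (fun h => hq1 (Subtype.ext (conj_eq_one_iff.1 h)))
      (fun h => hpq (Subtype.ext (mul_left_cancel (mul_right_cancel h))))
      (by rw [show k * (p : G) * k⁻¹ * (k * q * k⁻¹) = k * ((p : G) * q) * k⁻¹ by group,
        show (p : G) * q = q * p from congrArg Subtype.val hc]; group)
  exact ctx.frame_false hCS hCc hCn hj hj4 hsS hsC hss hsj hprod

end Cfsg.Agent.S1914
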