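import Cfsg.Statements.S1915
import Cfsg.Agent.Lib.Fusion.RankOne.Basic
import Cfsg.Agent.Lib.Solv.Component
-- import your own Cfsg.Agent.* helpers here

set_option autoImplicit false
open Cfsg Cfsg.Agent
open scoped Pointwise

namespace Cfsg.Agent.S1915

/-- Let A be a semisimple subgroup (A = E(A)) of a finite group and U a Klein four-group normalizing A. If the subgroup of A generated by the normalizers N_A(V) of the nontrivial subgroups V of U has 2-rank exactly 1, then A has 2-rank exactly 1. -/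
theorem result {G : Type*} [Group G] [Finite G] (A : Subgroup G) (hA : Cfsg.layer ↥A = ⊤)
    (U : Subgroup G) (hU : IsKleinFour U) (hUA : U ≤ Subgroup.normalizer (A : Set G))
    (hΓ : Cfsg.PRankLE 2 1 ↥(⨆ V : {V : Subgroup G // V ≤ U ∧ V ≠ ⊥}, A ⊓ Subgroup.normalizer ((V : Subgroup G) : Set G)) ∧
      ¬ Cfsg.PRankLE 2 0 ↥(⨆ V : {V : Subgroup G // V ≤ U ∧ V ≠ ⊥}, A ⊓ Subgroup.normalizer ((V : Subgroup G) : Set G))) :
    Cfsg.PRankLE 2 1 A ∧ ¬ Cfsg.PRankLE 2 0 A := by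
  classical
  haveI : Fact (Nat.Prime 2) := ⟨Nat.prime_two⟩
  obtain ⟨Γ, hΓdef⟩ : ∃ Γ, Γ = ⨆ V : {V : Subgroup G // V ≤ U ∧ V ≠ ⊥},
      A ⊓ Subgroup.normalizer ((V : Subgroup G) : Set G) := ⟨_, rfl⟩
  rw [← hΓdef] at hΓ
  have hΓA : Γ ≤ A := hΓdef ▸ iSup_le fun _ => inf_le_left
  refine ⟨?_, fun h => hΓ.2 fun E hE hexp => ?_⟩
  swap
  · haveI := hE
    have := h (E.map (Subgroup.inclusion hΓA)) (Subgroup.map_isMulCommutative E _) (by
      rintro _ ⟨x, hx, rfl⟩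
      rw [← map_pow, hexp x hx, map_one])
    rwa [Subgroup.card_map_of_injective (f := Subgroup.inclusion hΓA) (Subgroup.inclusion_injective hΓA)] at this
  intro E₀ hE₀ hexp₀
  rw [pow_one]
  by_contra hcard
  obtain ⟨p, -, q, -, hpp, hqq, hp1, hq1, hpq, hc⟩ :=
    Fusion.RankOne.exists_pair hE₀ hexp₀ (not_le.1 hcard)
  -- the elements of `U`
  haveI := hU
  have huu : ∀ u ∈ U, u * u = 1 := fun u hu => congrArg Subtype.val (IsKleinFour.mul_self (⟨u, hu⟩ : ↥U))
  have hcent : ∀ u ∈ U, u ≠ 1 → ∀ x ∈ A, x * u = u * x → x ∈ Γ := by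
    intro u hu hu1 x hx hxu
    rw [hΓdef]
    refine Subgroup.mem_iSup_of_mem ⟨Subgroup.zpowers u, Subgroup.zpowers_le.2 hu,
      fun h => hu1 (Subgroup.zpowers_eq_bot.1 h)⟩ ⟨hx, ?_⟩
    refine Subgroup.centralizer_le_normalizer _ (Subgroup.mem_centralizer_iff.2 ?_)
    rintro _ ⟨n, rfl⟩
    exact ((show Commute x u from hxu).zpow_right n).eq.symm
  -- a Sylow subgroup of `A U` containing `U`
  obtain ⟨B, hB⟩ : ∃ B, B = A ⊔ U := ⟨_, rfl⟩
  have hAB : A ≤ B := hB ▸ le_sup_left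
  have hBA : B ≤ Subgroup.normalizer (A : Set G) := hB ▸ sup_le Subgroup.le_normalizer hUA
  have hUp : IsPGroup 2 U := fun x => ⟨1, by rw [pow_one, pow_two]; exact IsKleinFour.mul_self x⟩
  obtain ⟨W, hW, hUW⟩ := Fusion.exists_sylIn_ge hUp (hB ▸ le_sup_right : U ≤ B)
  obtain ⟨S, hSdef⟩ : ∃ S, S = W ⊓ A := ⟨_, rfl⟩
  have hS : Fusion.SylIn 2 S A := hSdef ▸ hW.inf_normal hAB hBA
  have hSW : S ≤ W := hSdef ▸ inf_le_left
  have hn : ∀ w ∈ W, ∀ x ∈ S, w * x * w⁻¹ ∈ S := fun w hw x hx => by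
    rw [hSdef] at hx ⊢
    exact Subgroup.mem_inf.2 ⟨mul_mem (mul_mem hw hx.1) (inv_mem hw), (Subgroup.mem_normalizer_iff.1 (hBA (hW.le hw)) x).1 hx.2⟩
  -- two commuting involutions in `S`
  obtain ⟨k, -, hk⟩ := hS.conj_le (Q := Subgroup.closure {(p : G), (q : G)}) (by
      have hab : ∀ a ∈ ({(p : G), (q : G)} : Set G), ∀ b ∈ ({(p : G), (q : G)} : Set G), a * b = b * a := by
        rintro a (rfl | rfl) b (rfl | rfl)
        all_goals first | rfl | exact congrArg Subtype.val hc | exact (congrArg Subtype.val hc).symm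
      have hel : Cfsg.IsElementaryAbelian 2 (Subgroup.closure {(p : G), (q : G)}) :=
        Local.elemAb_closure _ hab (by
          rintro a (rfl | rfl)
          · exact (pow_two _).trans (congrArg Subtype.val hpp)
          · exact (pow_two _).trans (congrArg Subtype.val hqq))
      exact fun x => ⟨1, Subtype.ext (by simpa using hel.2 x x.2)⟩)
    ((Subgroup.closure_le _).2 (by rintro a (rfl | rfl) <;> exact SetLike.coe_mem _))
  have hu₀ := hk (Fusion.conj_mem_cj (Subgroup.subset_closure (Set.mem_insert (p : G) _)))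
  have hv₀ := hk (Fusion.conj_mem_cj (Subgroup.subset_closure (Set.mem_insert_of_mem (p : G) rfl)))
  have hcv : ∀ a b : G, a * b = b * a → k * a * k⁻¹ * (k * b * k⁻¹) = k * b * k⁻¹ * (k * a * k⁻¹) :=
    fun a b h => by
      rw [show k * a * k⁻¹ * (k * b * k⁻¹) = k * (a * b) * k⁻¹ by group, h]; group
  have hsq : ∀ a : G, a * a = 1 → k * a * k⁻¹ * (k * a * k⁻¹) = 1 := fun a h => by
    rw [show k * a * k⁻¹ * (k * a * k⁻¹) = k * (a * a) * k⁻¹ by group, h]; group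
  obtain ⟨a₁, a₂, ha12, ha1, ha2⟩ : ∃ a₁ a₂ : ↥U, a₁ ≠ a₂ ∧ a₁ ≠ 1 ∧ a₂ ≠ 1 := by
    haveI := Fintype.ofFinite ↥U
    have h4 : Fintype.card ↥U = 4 := by rw [← Nat.card_eq_fintype_card]; exact IsKleinFour.card_four
    obtain ⟨a, ha, b, hb, hab⟩ := Finset.one_lt_card.1 (show 1 < ((Finset.univ : Finset ↥U).erase 1).card by
      rw [Finset.card_erase_of_mem (Finset.mem_univ _), Finset.card_univ]; omega)
    exact ⟨a, b, hab, (Finset.mem_erase.1 ha).1, (Finset.mem_erase.1 hb).1⟩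
  have ha12' : (a₁ : G) * a₂ ≠ 1 := fun h => ha12 (Subtype.ext (by
    rw [← inv_eq_of_mul_eq_one_right h, inv_eq_of_mul_eq_one_right (huu _ a₁.2)]))
  -- no four group of `S` is normal in `W`
  have hno : ∀ E : Subgroup G, E ≤ S → Cfsg.IsElementaryAbelian 2 E → Nat.card E = 4 →
      (∀ w ∈ W, ∀ x ∈ E, w * x * w⁻¹ ∈ E) → False := by
    intro E hES hE h4 hEn
    haveI : (E.subgroupOf W).Normal := ⟨fun x hx g => hEn g g.2 x hx⟩
    haveI : Nontrivial ↥(E.subgroupOf W) := Finite.one_lt_card_iff_nontrivial.1 (by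
      rw [Nat.card_congr (Subgroup.subgroupOfEquivOfLe (hES.trans hSW)).toEquiv, h4]; norm_num)
    obtain ⟨z, hzE, hzc, hz1⟩ := Perm.exists_ne_one_center hW.isPGroup (E.subgroupOf W)
    have hzc' : ∀ w ∈ W, w * (z : G) = (z : G) * w := fun w hw =>
      congrArg Subtype.val (Subgroup.mem_center_iff.1 hzc ⟨w, hw⟩)
    obtain ⟨e, heE, he1, hez⟩ : ∃ e ∈ E, e ≠ 1 ∧ e ≠ (z : G) := by
      by_contra hne
      push Not at hne
      have : Nat.card E ≤ Nat.card (Fin 2) := Nat.card_le_card_of_injective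
        (fun x : E => if (x : G) = 1 then (0 : Fin 2) else 1) (fun x y h => by
          by_cases hx : (x : G) = 1 <;> by_cases hy : (y : G) = 1 <;> simp [hx, hy] at h <;>
            refine Subtype.ext ?_
          · rw [hx, hy]
          · rw [hne x x.2 hx, hne y y.2 hy])
      rw [h4, Nat.card_fin] at this
      omega
    have hzE' : (z : G) ∈ E := hzE
    have hz1' : (z : G) ≠ 1 := fun h => hz1 (Subtype.ext h)
    have hEE : ∀ x ∈ E, x * x = 1 := fun x hx => (pow_two x).symm.trans (hE.2 x hx)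
    have hcase : ∀ w ∈ W, w * e * w⁻¹ = e ∨ w * e * w⁻¹ = e * z := by
      intro w hw
      by_contra hne
      push Not at hne
      set f := w * e * w⁻¹ with hf
      have hfz : f ≠ z := fun h => hez (by
        rw [show e = w⁻¹ * (w * e * w⁻¹) * w by group, ← hf, h, mul_assoc, ← hzc' w hw, inv_mul_cancel_left])
      have hf1 : f ≠ 1 := fun h => he1 (conj_eq_one_iff.1 h)
      have hze : e * (z : G) ≠ 1 := fun h => hez (by
        rw [← inv_eq_of_mul_eq_one_right h, inv_eq_of_mul_eq_one_right (hEE e heE)])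
      let F : Fin 5 → E := ![1, ⟨z, hzE'⟩, ⟨e, heE⟩, ⟨e * z, mul_mem heE hzE'⟩, ⟨f, hEn w hw e heE⟩]
      have hinj : Function.Injective F := by
        intro i l hil
        have h' := congrArg Subtype.val hil
        fin_cases i <;> fin_cases l <;> simp [F] at h' ⊢ <;>
          first
            | exact absurd h' hz1' | exact absurd h'.symm hz1' | exact absurd h' he1 | exact absurd h'.symm he1
            | exact absurd h' hez | exact absurd h'.symm hez | exact absurd h' hze | exact absurd h'.symm hze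
            | exact absurd h' hf1 | exact absurd h'.symm hf1 | exact absurd h' hfz | exact absurd h'.symm hfz
            | exact absurd h' hz1 | exact absurd h'.symm hz1
            | exact absurd h' hne.1 | exact absurd h'.symm hne.1 | exact absurd h' hne.2 | exact absurd h'.symm hne.2
      have := Nat.card_le_card_of_injective F hinj
      rw [Nat.card_fin, h4] at this
      omega
    obtain ⟨u, hu, hu1, hue⟩ : ∃ u ∈ U, u ≠ 1 ∧ u * e * u⁻¹ = e := by
      rcases hcase a₁ (hUW a₁.2) with h | h1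
      · exact ⟨a₁, a₁.2, fun h' => ha1 (Subtype.ext h'), h⟩
      rcases hcase a₂ (hUW a₂.2) with h | h2
      · exact ⟨a₂, a₂.2, fun h' => ha2 (Subtype.ext h'), h⟩
      refine ⟨a₁ * a₂, mul_mem a₁.2 a₂.2, ha12', ?_⟩
      rw [show (a₁ : G) * a₂ * e * ((a₁ : G) * a₂)⁻¹ = a₁ * (a₂ * e * (a₂ : G)⁻¹) * (a₁ : G)⁻¹ by group, h2,
        show (a₁ : G) * (e * z) * (a₁ : G)⁻¹ = a₁ * e * (a₁ : G)⁻¹ * (a₁ * z * (a₁ : G)⁻¹) by group, h1,
        hzc' _ (hUW a₁.2), mul_inv_cancel_right, mul_assoc, hEE _ hzE', mul_one]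
    have hzu : (z : G) * u = u * z := (hzc' u (hUW hu)).symm
    exact Fusion.RankOne.no_pair hΓ.1 (hcent u hu hu1 z (hS.le (hES hzE')) hzu)
      (hcent u hu hu1 e (hS.le (hES heE)) (mul_inv_eq_iff_eq_mul.1 hue).symm)
      (hEE _ hzE') (hEE _ heE) hz1' he1 (Ne.symm hez)
      (by haveI := hE.1; exact setLike_mul_comm hzE' heE)
  obtain ⟨C, j, s, hCS, hCc, hCn, hj, hj4, hsS, hsC, hss, hsj, hprod⟩ :=
    Fusion.RankOne.exists_frame hW.isPGroup hSW hn hno hu₀ hv₀ (hsq _ (congrArg Subtype.val hpp))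
      (hsq _ (congrArg Subtype.val hqq)) (fun h => hp1 (Subtype.ext (conj_eq_one_iff.1 h)))
      (fun h => hq1 (Subtype.ext (conj_eq_one_iff.1 h)))
      (fun h => hpq (Subtype.ext (mul_left_cancel (mul_right_cancel h)))) (hcv _ _ (congrArg Subtype.val hc))
  have hCp : IsPGroup 2 C := hW.isPGroup.to_le (hCS.trans hSW)
  obtain ⟨z, hz⟩ : ∃ z, z = j * j := ⟨_, rfl⟩
  have hj4' : j ^ 4 = 1 := by rw [← hj4, pow_orderOf_eq_one]
  have hz2 : z * z = 1 := by rw [hz, show j * j * (j * j) = j ^ 4 by simp [pow_succ, mul_assoc], hj4']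
  have hz1 : z ≠ 1 := fun h => by
    have := orderOf_dvd_of_pow_eq_one (show j ^ 2 = 1 by rw [pow_two, ← hz, h])
    rw [hj4] at this; norm_num at this
  have hzC : z ∈ C := hz ▸ mul_mem hj hj
  have hzW : ∀ w ∈ W, w * z * w⁻¹ = z := fun w hw => by
    rcases Fusion.RankOne.sq_one_cases hCc hzC (hCn w hw z hzC) hz2 hz1
      (by rw [show w * z * w⁻¹ * (w * z * w⁻¹) = w * (z * z) * w⁻¹ by group, hz2]; group) with h | h
    · exact absurd (conj_eq_one_iff.1 h) hz1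
    · exact h
  have hsW := hSW hsS
  have hsz : s * z = z * s := mul_inv_eq_iff_eq_mul.1 (hzW s hsW)
  -- the action on the element of order four
  have hjU : ∀ u ∈ U, u * j * u⁻¹ = j ∨ u * j * u⁻¹ = j⁻¹ := by
    intro u hu
    have hm : u * j * u⁻¹ * j⁻¹ ∈ C := mul_mem (hCn u (hUW hu) j hj) (inv_mem hj)
    have hcomm : ∀ a ∈ C, ∀ b ∈ C, a * b = b * a := fun a ha b hb => by
      haveI := hCc
      letI : CommGroup ↥C := IsCyclic.commGroup
      exact congrArg Subtype.val (mul_comm (⟨a, ha⟩ : ↥C) ⟨b, hb⟩)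
    have h2 : u * j * u⁻¹ * j⁻¹ * (u * j * u⁻¹ * j⁻¹) = 1 := by
      have e : Commute (u * j * u⁻¹) j⁻¹ := hcomm _ (hCn u (hUW hu) j hj) _ (inv_mem hj)
      rw [← pow_two, e.mul_pow, conj_pow, inv_pow, pow_two, ← hz, hzW u (hUW hu), mul_inv_cancel]
    rcases Fusion.RankOne.sq_one_cases hCc hzC hm hz2 hz1 h2 with h | h
    · exact Or.inl (mul_inv_eq_one.1 h)
    · refine Or.inr ?_
      rw [mul_inv_eq_iff_eq_mul] at h
      rw [h, hz, eq_inv_iff_mul_eq_one, show j * j * j * j = j ^ 4 by simp [pow_succ, mul_assoc], hj4']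
  obtain ⟨u, hu, hu1, huj⟩ : ∃ u ∈ U, u ≠ 1 ∧ u * j * u⁻¹ = j := by
    rcases hjU a₁ a₁.2 with h | h1
    · exact ⟨a₁, a₁.2, fun h' => ha1 (Subtype.ext h'), h⟩
    rcases hjU a₂ a₂.2 with h | h2
    · exact ⟨a₂, a₂.2, fun h' => ha2 (Subtype.ext h'), h⟩
    refine ⟨a₁ * a₂, mul_mem a₁.2 a₂.2, ha12', ?_⟩
    rw [show (a₁ : G) * a₂ * j * ((a₁ : G) * a₂)⁻¹ = a₁ * (a₂ * j * (a₂ : G)⁻¹) * (a₁ : G)⁻¹ by group, h2,
      show (a₁ : G) * j⁻¹ * (a₁ : G)⁻¹ = (a₁ * j * (a₁ : G)⁻¹)⁻¹ by group, h1, inv_inv]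
  have hu' : u⁻¹ = u := inv_eq_of_mul_eq_one_right (huu u hu)
  have hs' : s⁻¹ = s := inv_eq_of_mul_eq_one_right hss
  have hus : u * s * u⁻¹ ∈ S := hn u (hUW hu) s hsS
  have husC : u * s * u⁻¹ ∉ C := fun h => hsC (by
    have := hCn u (hUW hu) _ h
    rwa [show u * (u * s * u⁻¹) * u⁻¹ = u * u * s * (u * u)⁻¹ by group, huu u hu, one_mul, inv_one, mul_one] at this)
  obtain ⟨x, hx⟩ : ∃ x, x = s * (u * s * u⁻¹) := ⟨_, rfl⟩
  have hxC : x ∈ C := hx ▸ hprod _ hsS _ hus hsC husC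
  have hxu : u * x * u⁻¹ = x⁻¹ := by
    rw [hx, show u * (s * (u * s * u⁻¹)) * u⁻¹ = u * s * u⁻¹ * (u * u * s * (u * u)⁻¹) by group, huu u hu]
    simp [hs', hu', mul_assoc]
  have hus' : u * s * u⁻¹ = s * x := by rw [hx, ← mul_assoc, hss, one_mul]
  rcases Fusion.RankOne.sq_one_cases hCc hzC hxC hz2 hz1
    (Fusion.RankOne.inv_fix_sq_one hCc hCp hj hj4 hxC huj hxu) with h | h
  · rw [h, mul_one] at hus'
    have hzu : z * u = u * z := (mul_inv_eq_iff_eq_mul.1 (hzW u (hUW hu))).symm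
    exact Fusion.RankOne.no_pair hΓ.1 (hcent u hu hu1 z (hS.le (hCS hzC)) hzu)
      (hcent u hu hu1 s (hS.le hsS) (mul_inv_eq_iff_eq_mul.1 hus').symm)
      hz2 hss hz1 (fun h' => hsC (h' ▸ one_mem C)) (fun h' => hsC (h' ▸ hzC)) hsz.symm
  rw [h] at hus'
  -- `u j` has square `z` and centralizes `s`
  have hujc : u * j = j * u := mul_inv_eq_iff_eq_mul.1 huj
  have hc2 : u * j * (u * j) = z := by
    rw [show u * j * (u * j) = u * (j * u) * j by group, ← hujc, show u * (u * j) * j = u * u * (j * j) by group,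
      huu u hu, one_mul, hz]
  have hjs : j * s * j⁻¹ = s * z := by
    have e : j * s = s * j⁻¹ := by rw [← hsj, ← mul_assoc, ← mul_assoc, hss, one_mul, hs']
    have ej : j⁻¹ * j⁻¹ = z := by rw [← mul_inv_rev, ← hz, inv_eq_of_mul_eq_one_right hz2]
    rw [e, mul_assoc, ej]
  have hcs : u * j * s = s * (u * j) := by
    have e : u * j * s * (u * j)⁻¹ = s := by
      rw [show u * j * s * (u * j)⁻¹ = u * (j * s * j⁻¹) * u⁻¹ by group, hjs,
        show u * (s * z) * u⁻¹ = u * s * u⁻¹ * (u * z * u⁻¹) by group, hus', hzW u (hUW hu), mul_assoc, hz2, mul_one]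
    exact mul_inv_eq_iff_eq_mul.1 e
  -- squares in `W` lie in `C`
  have hAperf : commutator ↥A = ⊤ := by
    have := Solv.layer_perfect (G := ↥A)
    rw [hA] at this
    rw [commutator_def]; exact this
  have hsquare : ∀ w ∈ W, w * w ∈ C := by
    intro w hw
    obtain ⟨a, ha, v, hv, rfl⟩ : ∃ a ∈ A, ∃ v ∈ U, a * v = w := by
      have : w ∈ A ⊔ U := hB ▸ hW.le hw
      obtain ⟨a, ha, v, hv, e⟩ := Set.mem_mul.1
        (show w ∈ (A : Set G) * (U : Set G) from (Subgroup.coe_mul_of_right_le_normalizer_left A U hUA).symm ▸ this)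
      exact ⟨a, ha, v, hv, e⟩
    have haS : a ∈ S := hSdef ▸ Subgroup.mem_inf.2 ⟨by simpa using mul_mem hw (inv_mem (hUW hv)), ha⟩
    rw [show a * v * (a * v) = a * (v * a * v⁻¹) * (v * v) by group, huu v hv, mul_one]
    by_cases haC : a ∈ C
    · exact mul_mem haC (hCn v (hUW hv) a haC)
    · refine hprod _ haS _ (hn v (hUW hv) a haS) haC fun h' => haC ?_
      have := hCn v (hUW hv) _ h'
      rwa [show v * (v * a * v⁻¹) * v⁻¹ = v * v * a * (v * v)⁻¹ by group, huu v hv, one_mul, inv_one, mul_one] at this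
  refine Fusion.RankOne.transfer_false hAperf hS hCS hCc (fun w hw => hCn w (hSW hw)) hprod hzC hz2 hz1 hsS hsC hss
    fun g hg => ?_
  refine Fusion.RankOne.not_fused hW (fun w hw => mul_inv_eq_iff_eq_mul.1 (hzW w hw)) hsW
    (mul_mem (hUW hu) (hSW (hCS hj))) hc2 hcs hz2 hz1 (fun h' => hsC (h' ▸ hzC)) ?_ (hAB hg)
  intro w hw h4 h2
  rcases Fusion.RankOne.sq_one_cases hCc hzC (hsquare w hw) hz2 hz1 h4 with h' | h'
  · exact absurd h' h2
  · exact h'

end Cfsg.Agent.S1915
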