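import Cfsg.Statements.S1921
import Cfsg.Agent.Lib.Solv.Component

set_option autoImplicit false
open Cfsg
open Cfsg.Agent
open scoped commutatorElement Pointwise

namespace Cfsg.Agent.S1921

/-- Let a be an involution of a finite group H and L a component of H with a L a⁻¹ ≠ L; put M = ⟨L, aLa⁻¹⟩ and let J be the subgroup generated by the elements x · a x a⁻¹ with x ∈ L (the diagonal). Then every element of M outside J·Z(M) generates M together with J. -/
theorem result {H : Type*} [Group H] [Finite H] (a : H) (ha : orderOf a = 2) (L : Subgroup H) (hL : Cfsg.IsComponent L)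
    (hLa : L.map (MulAut.conj a).toMonoidHom ≠ L) (x : H) (hxM : x ∈ L ⊔ L.map (MulAut.conj a).toMonoidHom)
    (hxJ : x ∉ Subgroup.closure {y : H | ∃ l ∈ L, y = l * (a * l * a⁻¹)} ⊔
      ((L ⊔ L.map (MulAut.conj a).toMonoidHom) ⊓ Subgroup.centralizer ((L ⊔ L.map (MulAut.conj a).toMonoidHom : Subgroup H) : Set H))) :
    Subgroup.closure {y : H | ∃ l ∈ L, y = l * (a * l * a⁻¹)} ⊔ Subgroup.zpowers x = L ⊔ L.map (MulAut.conj a).toMonoidHom := by
  set L' := L.map (MulAut.conj a).toMonoidHom with hL'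
  set M := L ⊔ L'
  set J := Subgroup.closure {y : H | ∃ l ∈ L, y = l * (a * l * a⁻¹)}
  set X := J ⊔ Subgroup.zpowers x
  have hc : ∀ u ∈ L, ∀ v ∈ L', u * v = v * u := fun u hu v hv => by
    have h1 : ⁅L, L'⁆ = ⊥ := Agent.Solv.components_commute hL (Agent.Solv.component_conj hL a) (fun h => hLa h.symm)
    exact commutatorElement_eq_one_iff_mul_comm.1
      (Subgroup.mem_bot.1 (h1 ▸ Subgroup.commutator_mem_commutator hu hv))
  have hLn : L ≤ Subgroup.normalizer (L' : Set H) := fun u hu =>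
    Subgroup.centralizer_le_normalizer _ (Subgroup.mem_centralizer_iff.2 fun v hv => (hc u hu v hv).symm)
  have hdiag : ∀ k ∈ L, k * (a * k * a⁻¹) ∈ X := fun k hk =>
    Subgroup.mem_sup_left (Subgroup.subset_closure ⟨k, hk, rfl⟩)
  have hJM : J ≤ M := (Subgroup.closure_le _).2 (by
    rintro _ ⟨k, hk, rfl⟩
    exact mul_mem (Subgroup.mem_sup_left hk) (Subgroup.mem_sup_right ⟨k, hk, by simp⟩))
  have hxM' := hxM
  rw [← SetLike.mem_coe, Subgroup.coe_mul_of_left_le_normalizer_right L L' hLn] at hxM'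
  obtain ⟨l₁, hl₁, l₂', hl₂', hx'⟩ := hxM'
  change l₁ * l₂' = x at hx'
  obtain ⟨l₂, hl₂, rfl⟩ := hl₂'
  have e2 : (MulAut.conj a).toMonoidHom l₂ = a * l₂ * a⁻¹ := by simp
  rw [e2] at hx'
  set l := l₁ * l₂⁻¹ with hl
  have hlL : l ∈ L := mul_mem hl₁ (inv_mem hl₂)
  have hxl : x = l * (l₂ * (a * l₂ * a⁻¹)) := by rw [← hx', hl]; group
  have hlX : l ∈ X := by
    rw [show l = x * (l₂ * (a * l₂ * a⁻¹))⁻¹ by rw [hxl]; group]
    exact mul_mem (Subgroup.mem_sup_right (Subgroup.mem_zpowers x)) (inv_mem (hdiag l₂ hl₂))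
  set K := (X ⊓ L).subgroupOf L
  haveI : K.Normal := ⟨fun m hm k => by
    rw [Subgroup.mem_subgroupOf] at hm ⊢
    refine ⟨?_, (k * m * k⁻¹).2⟩
    have hcm : (a * (k : H) * a⁻¹) * (m : H) = m * (a * k * a⁻¹) :=
      (hc m hm.2 _ ⟨k, k.2, by simp⟩).symm
    have h1 := mul_mem (mul_mem (hdiag k k.2) hm.1) (inv_mem (hdiag k k.2))
    push_cast
    rw [show (k : H) * m * (k : H)⁻¹ = k * (a * k * a⁻¹) * m * (k * (a * k * a⁻¹))⁻¹ by
      calc (k : H) * m * (k : H)⁻¹ = k * (m * (a * k * a⁻¹)) * (k * (a * k * a⁻¹))⁻¹ := by group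
        _ = _ := by rw [← hcm]; group]
    exact h1⟩
  rcases Agent.Solv.qs_normal_le_center_or_top hL.2 K with hK | hK
  · have hLX : L ≤ X := fun u hu => (Subgroup.mem_subgroupOf.1
      (hK.symm ▸ Subgroup.mem_top (⟨u, hu⟩ : L) : (⟨u, hu⟩ : L) ∈ K)).1
    refine le_antisymm (sup_le hJM (Subgroup.zpowers_le.2 hxM)) (sup_le hLX ?_)
    rintro _ ⟨k, hk, rfl⟩
    rw [show (MulAut.conj a).toMonoidHom k = k⁻¹ * (k * (a * k * a⁻¹)) by simp [mul_assoc]]
    exact mul_mem (inv_mem (hLX hk)) (hdiag k hk)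
  · refine absurd ?_ hxJ
    rw [hxl]
    refine mul_mem (Subgroup.mem_sup_right ⟨Subgroup.mem_sup_left hlL, ?_⟩)
      (Subgroup.mem_sup_left (Subgroup.subset_closure ⟨l₂, hl₂, rfl⟩))
    have h1 : (⟨l, hlL⟩ : L) ∈ Subgroup.center L := hK (Subgroup.mem_subgroupOf.2 ⟨hlX, hlL⟩)
    refine (Subgroup.mem_centralizer_iff.2 fun m hm => ?_)
    have hle : M ≤ Subgroup.centralizer ({l} : Set H) := sup_le
      (fun u hu => Subgroup.mem_centralizer_singleton_iff.2 (congrArg Subtype.val (Subgroup.mem_center_iff.1 h1 ⟨u, hu⟩)))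
      (fun v hv => Subgroup.mem_centralizer_singleton_iff.2 (hc l hlL v hv).symm)
    exact Subgroup.mem_centralizer_singleton_iff.1 (hle hm)

end Cfsg.Agent.S1921
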