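import Cfsg.Statements.S1924
import Cfsg.Agent.Lib.Fusion.Cores
import Cfsg.Agent.Lib.Fusion.NPC

set_option autoImplicit false
open Cfsg
open Cfsg.Agent.Fusion
open scoped commutatorElement

namespace Cfsg.Agent.S1924

theorem zmod_two_add (j : ZMod 2) : j + j = 0 := by
  revert j
  decide

/-- a permutation with all cycles of length `2^(m+1)`, an odd number of them, is odd. -/
theorem sign_eq_neg {α : Type*} [Fintype α] [DecidableEq α] (σ : Equiv.Perm α) (m r : ℕ)
    (h1 : σ ^ 2 ^ (m + 1) = 1) (h2 : ∀ a, (σ ^ 2 ^ m) a ≠ a) (hr : Odd r)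
    (hcard : Fintype.card α = 2 ^ (m + 1) * r) : Equiv.Perm.sign σ = -1 := by
  have hord : orderOf σ ∣ 2 ^ (m + 1) := orderOf_dvd_of_pow_eq_one h1
  have hsupp : σ.support = Finset.univ := Finset.eq_univ_of_forall fun a => by
    rw [Equiv.Perm.mem_support]
    intro h
    exact h2 a (Equiv.Perm.pow_apply_eq_self_of_apply_eq_self h _)
  have hall : ∀ n ∈ σ.cycleType, n = 2 ^ (m + 1) := by
    intro n hn
    obtain ⟨k, hk, rfl⟩ := (Nat.dvd_prime_pow Nat.prime_two).1
      ((Equiv.Perm.dvd_of_mem_cycleType hn).trans hord)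
    by_contra hne
    have hkm : k ≤ m := by
      by_contra hh
      exact hne (by rw [show k = m + 1 by omega])
    rw [Equiv.Perm.cycleType_def, Multiset.mem_map] at hn
    obtain ⟨c, hc, hcn⟩ := hn
    rw [Finset.mem_val] at hc
    have hcyc := (Equiv.Perm.mem_cycleFactorsFinset_iff.1 hc).1
    obtain ⟨a, ha⟩ := hcyc.nonempty_support
    refine h2 a ?_
    have hce : c = σ.cycleOf a := Equiv.Perm.cycle_is_cycleOf ha hc
    have : c ^ 2 ^ m = 1 := by
      refine orderOf_dvd_iff_pow_eq_one.1 ?_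
      rw [hcyc.orderOf]
      exact (show c.support.card = 2 ^ k from hcn) ▸ pow_dvd_pow 2 hkm
    rw [← Equiv.Perm.cycleOf_pow_apply_self, ← hce, this, Equiv.Perm.one_apply]
  have hsum := σ.sum_cycleType
  rw [hsupp, Finset.card_univ, hcard, Multiset.eq_replicate_of_mem hall, Multiset.sum_replicate,
    smul_eq_mul, mul_comm] at hsum
  have hn : Multiset.card σ.cycleType = r := Nat.eq_of_mul_eq_mul_left (pow_pos two_pos _) hsum
  rw [Equiv.Perm.sign_of_cycleType, σ.sum_cycleType, hsupp, Finset.card_univ, hcard, hn]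
  refine Odd.neg_one_pow (Even.add_odd ?_ hr)
  exact (Even.mul_right (by rw [pow_succ']; exact even_two_mul _) r)

/-- Thompson transfer for an element of order `2^(m+1)`. -/
theorem transfer_sign {G : Type*} [Group G] [Finite G] (U : Subgroup G) (x : G) (m r : ℕ) (hr : Odd r)
    (hx : x ^ 2 ^ (m + 1) = 1) (hidx : U.index = 2 ^ (m + 1) * r)
    (hno : ∀ g : G, g * x ^ 2 ^ m * g⁻¹ ∉ U) :
    ∃ K : Subgroup G, K.index = 2 ∧ x ∉ K ∧ ∀ g : G, Nat.Coprime (orderOf g) 2 → g ∈ K := by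
  classical
  letI := Fintype.ofFinite (G ⧸ U)
  obtain ⟨f, hf⟩ : ∃ f : G →* ℤˣ, f = Equiv.Perm.sign.comp (MulAction.toPermHom G (G ⧸ U)) := ⟨_, rfl⟩
  have hfx : f x = -1 := by
    rw [hf, MonoidHom.comp_apply]
    refine sign_eq_neg _ m r ?_ ?_ hr ?_
    · rw [← map_pow, hx, map_one]
    · intro a ha
      induction a using QuotientGroup.induction_on with | _ z
      rw [← map_pow] at ha
      refine hno z⁻¹ ?_
      have h1 : ((x ^ 2 ^ m * z : G) : G ⧸ U) = (z : G ⧸ U) := ha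
      have := inv_mem (QuotientGroup.eq.1 h1)
      simpa [mul_assoc] using this
    · rw [← Nat.card_eq_fintype_card, ← Subgroup.index_eq_card, hidx]
  refine ⟨f.ker, ?_, by rw [MonoidHom.mem_ker, hfx]; decide, fun g hg => ?_⟩
  · rw [Subgroup.index_ker]
    have : f.range = ⊤ := by
      refine eq_top_iff.2 fun u _ => ?_
      rcases Int.units_eq_one_or u with rfl | rfl
      · exact one_mem _
      · exact ⟨x, hfx⟩
    rw [this, Subgroup.card_top, Nat.card_eq_fintype_card]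
    rfl
  · rw [MonoidHom.mem_ker, ← orderOf_eq_one_iff]
    refine Nat.eq_one_of_dvd_coprimes hg (orderOf_map_dvd f g) ?_
    exact orderOf_dvd_of_pow_eq_one (by rw [sq, Int.units_mul_self])

/-- A consequence of Thompson's transfer lemma. Let G be a finite group, L a subgroup with O²(L) = L, T a Sylow 2-subgroup of L and S a Sylow 2-subgroup of G containing T. Suppose D ≤ S is a dihedral subgroup of order at least 4 (the four-group counts) with D ∩ T = 1 and S = TD as a set of products (so |S| = |T|·|D|), and C ≤ D is cyclic of index 2 in D. If no involution of D outside C is G-conjugate to an involution of the subgroup generated by T and C, and the involution of C is not G-conjugate to any involution of T, then G has a normal subgroup K, containing every Sylow 2-subgroup of L as a Sylow 2-subgroup, with G = KD. -/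
theorem result {G : Type*} [Group G] [Finite G] (L T S D C : Subgroup G) (hL : Cfsg.pResidual 2 ↥L = ⊤)
    (hTL : T ≤ L) (hT2 : IsPGroup 2 T) (hTsyl : ¬ 2 ∣ T.relIndex L)
    (hS2 : IsPGroup 2 S) (hSsyl : ¬ 2 ∣ S.index) (hTS : T ≤ S)
    (hDS : D ≤ S) (hDih : ∃ n : ℕ, 2 ≤ n ∧ Nonempty (↥D ≃* DihedralGroup n)) (hDT : D ⊓ T = ⊥) (hTD : T ⊔ D = S) (hTDc : Nat.card T * Nat.card D = Nat.card S)
    (hCD : C ≤ D) (hC : IsCyclic ↥C) (hCi : C.relIndex D = 2)
    (h1 : ∀ x ∈ D, x ∉ C → orderOf x = 2 → ∀ g : G, g * x * g⁻¹ ∈ T ⊔ C → False)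
    (h2 : ∀ c ∈ C, orderOf c = 2 → ∀ g : G, g * c * g⁻¹ ∈ T → False) :
    ∃ K : Subgroup G, K.Normal ∧ K ⊔ D = ⊤ ∧
      ∀ T' : Subgroup G, T' ≤ L → IsPGroup 2 T' → ¬ 2 ∣ T'.relIndex L → T' ≤ K ∧ ¬ 2 ∣ T'.relIndex K := by
  classical
  haveI : Fact (Nat.Prime 2) := ⟨Nat.prime_two⟩
  obtain ⟨R, hR⟩ : ∃ R, R = Cfsg.pResidual 2 G := ⟨_, rfl⟩
  have hLR : L ≤ R := by
    have := map_pResidual_le (p := 2) L.subtype
    rwa [hL, ← MonoidHom.range_eq_map, Subgroup.range_subtype, ← hR] at this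
  have hinj : ∀ t ∈ T, ∀ d ∈ D, ∀ t' ∈ T, ∀ d' ∈ D, t * d = t' * d' → t = t' ∧ d = d' := by
    intro t ht d hd t' ht' d' hd' he
    have h' : t'⁻¹ * t ∈ D ⊓ T := by
      refine Subgroup.mem_inf.2 ⟨?_, mul_mem (inv_mem ht') ht⟩
      rw [show t'⁻¹ * t = d' * d⁻¹ by rw [show t = t' * d' * d⁻¹ by rw [← he]; group]; group]
      exact mul_mem hd' (inv_mem hd)
    rw [hDT, Subgroup.mem_bot, inv_mul_eq_one] at h'
    subst h'
    exact ⟨rfl, mul_left_cancel he⟩
  have hsurj : ∀ s ∈ S, ∃ t ∈ T, ∃ d ∈ D, t * d = s := by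
    let f : ↥T × ↥D → ↥S := fun u => ⟨u.1 * u.2, mul_mem (hTS u.1.2) (hDS u.2.2)⟩
    have hf : Function.Injective f := fun u v h => by
      obtain ⟨h1', h2'⟩ := hinj _ u.1.2 _ u.2.2 _ v.1.2 _ v.2.2 (congrArg Subtype.val h)
      exact Prod.ext (Subtype.ext h1') (Subtype.ext h2')
    have hb : Function.Bijective f :=
      (Function.Injective.bijective_of_nat_card_le hf (by rw [Nat.card_prod, hTDc]))
    intro s hs
    obtain ⟨u, hu⟩ := hb.2 ⟨s, hs⟩
    exact ⟨_, u.1.2, _, u.2.2, congrArg Subtype.val hu⟩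
  have hcard : ∀ H : Subgroup G, T ≤ H →
      Nat.card ↥(S ⊓ H) = Nat.card T * Nat.card ↥(D ⊓ H) := by
    intro H hTH
    rw [← Nat.card_prod]
    symm
    refine Nat.card_congr (Equiv.ofBijective (fun u => ⟨u.1 * u.2,
      Subgroup.mem_inf.2 ⟨mul_mem (hTS u.1.2) (hDS (Subgroup.mem_inf.1 u.2.2).1),
        mul_mem (hTH u.1.2) (Subgroup.mem_inf.1 u.2.2).2⟩⟩) ⟨?_, ?_⟩)
    · intro u v h
      obtain ⟨h1', h2'⟩ := hinj _ u.1.2 _ (Subgroup.mem_inf.1 u.2.2).1 _ v.1.2 _
        (Subgroup.mem_inf.1 v.2.2).1 (congrArg Subtype.val h)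
      exact Prod.ext (Subtype.ext h1') (Subtype.ext h2')
    · rintro ⟨s, hs⟩
      obtain ⟨t, ht, d, hd, he⟩ := hsurj s (Subgroup.mem_inf.1 hs).1
      refine ⟨(⟨t, ht⟩, ⟨d, Subgroup.mem_inf.2 ⟨hd, ?_⟩⟩), Subtype.ext he⟩
      rw [show d = t⁻¹ * s by rw [← he]; group]
      exact mul_mem (inv_mem (hTH ht)) (Subgroup.mem_inf.1 hs).2
  have hinvol : ∀ x ∈ D, x ∉ C → orderOf x = 2 := by
    obtain ⟨n, hn, ⟨e⟩⟩ := hDih
    haveI : NeZero n := ⟨by omega⟩
    obtain ⟨g, hg⟩ := (inferInstance : IsCyclic ↥C).exists_generator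
    have hgD : (g : G) ∈ D := hCD g.2
    have hCcard : Nat.card ↥C = n := by
      have h := Subgroup.relIndex_mul_relIndex ⊥ C D bot_le hCD
      rw [hCi, Subgroup.relIndex_bot_left, Subgroup.relIndex_bot_left, Nat.card_congr e.toEquiv,
        DihedralGroup.nat_card] at h
      omega
    have hgo : orderOf (e ⟨g, hgD⟩) = n := by
      rw [e.orderOf_eq, ← hCcard, ← orderOf_eq_card_of_forall_mem_zpowers hg,
        ← Subgroup.orderOf_coe, ← Subgroup.orderOf_coe]
    intro x hx hxC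
    have hx1 : x ≠ 1 := fun h => hxC (h ▸ one_mem C)
    have key : e ⟨x, hx⟩ * e ⟨x, hx⟩ = 1 := by
      rcases hxe : e ⟨x, hx⟩ with i | i
      · rcases hge : e ⟨g, hgD⟩ with j | j
        · exfalso
          -- x would be a power of g
          have hmem : e ⟨x, hx⟩ ∈ Subgroup.zpowers (e ⟨g, hgD⟩) := by
            have hle : Subgroup.zpowers (e ⟨g, hgD⟩) ≤ Subgroup.zpowers (DihedralGroup.r 1) := by
              rw [Subgroup.zpowers_le, hge]
              exact ⟨(j.val : ℤ), by simp⟩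
            rw [Subgroup.eq_of_le_of_card_ge hle (le_of_eq (by
              rw [Nat.card_zpowers, Nat.card_zpowers, hgo, DihedralGroup.orderOf_r_one])), hxe]
            exact ⟨(i.val : ℤ), by simp⟩
          obtain ⟨z, hz⟩ := Subgroup.mem_zpowers_iff.1 hmem
          rw [← map_zpow, e.apply_eq_iff_eq] at hz
          have := congrArg Subtype.val hz
          simp only [SubgroupClass.coe_zpow] at this
          exact hxC (this ▸ zpow_mem g.2 z)
        · rw [hge, DihedralGroup.orderOf_sr] at hgo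
          subst hgo
          rw [DihedralGroup.r_mul_r, DihedralGroup.one_def]
          congr 1
          exact zmod_two_add i
      · exact DihedralGroup.sr_mul_self i
    rw [← map_mul, e.map_eq_one_iff] at key
    refine orderOf_eq_prime ?_ hx1
    rw [sq]
    exact congrArg Subtype.val key
  have main : ∀ N : ℕ, ∀ H : Subgroup G, Nat.card H = N → R ≤ H →
      ¬ 2 ∣ (S ⊓ H).relIndex H → ∃ H₀ : Subgroup G, R ≤ H₀ ∧ ¬ 2 ∣ T.relIndex H₀ := by
    intro N
    induction N using Nat.strong_induction_on with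
    | _ N ih =>
    intro H hHN hRH hodd
    have hTH : T ≤ H := hTL.trans (hLR.trans hRH)
    by_cases hE : D ⊓ H = ⊥
    · refine ⟨H, hRH, ?_⟩
      have he : T = S ⊓ H := Subgroup.eq_of_le_of_card_ge (le_inf hTS hTH) (by
        rw [hcard H hTH, hE, Subgroup.card_bot, mul_one])
      rwa [he]
    obtain ⟨x, hxS, hxH, U, hUS, m, hx, hUi, hno⟩ : ∃ x ∈ S, x ∈ H ∧ ∃ U : Subgroup G, U ≤ S ⊓ H ∧
        ∃ m : ℕ, x ^ 2 ^ (m + 1) = 1 ∧ U.relIndex (S ⊓ H) = 2 ^ (m + 1) ∧
          ∀ g : G, g * x ^ 2 ^ m * g⁻¹ ∉ U := by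
      by_cases hEC : D ⊓ H ≤ C
      · haveI : IsCyclic ↥(D ⊓ H : Subgroup G) :=
          isCyclic_of_injective (Subgroup.inclusion hEC) (Subgroup.inclusion_injective hEC)
        obtain ⟨⟨c, hc⟩, hgen⟩ := IsCyclic.exists_generator (α := ↥(D ⊓ H : Subgroup G))
        have hco : orderOf c = Nat.card ↥(D ⊓ H) := by
          rw [← orderOf_eq_card_of_forall_mem_zpowers hgen, ← Subgroup.orderOf_coe]
        obtain ⟨k, hk⟩ := (hS2.to_le (inf_le_left.trans hDS : D ⊓ H ≤ S)).exists_card_eq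
        obtain ⟨m, rfl⟩ : ∃ m, k = m + 1 := ⟨k - 1, by
          have : k ≠ 0 := fun h => hE (Subgroup.eq_bot_of_card_eq _ (by rw [hk, h, pow_zero]))
          omega⟩
        refine ⟨c, hDS (Subgroup.mem_inf.1 hc).1, (Subgroup.mem_inf.1 hc).2, T, le_inf hTS hTH, m,
          by rw [← hk, ← hco, pow_orderOf_eq_one], ?_, fun g hg => h2 _ (pow_mem (hEC hc) _) ?_ g hg⟩
        · have h := Subgroup.relIndex_mul_relIndex ⊥ T (S ⊓ H) bot_le (le_inf hTS hTH)
          rw [Subgroup.relIndex_bot_left, Subgroup.relIndex_bot_left, hcard H hTH, hk] at h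
          exact Nat.eq_of_mul_eq_mul_left Nat.card_pos h
        · rw [orderOf_pow_of_dvd (pow_ne_zero _ two_ne_zero) (hco ▸ hk ▸ pow_dvd_pow 2 (Nat.le_succ m)),
            hco, hk, pow_succ', Nat.mul_div_cancel _ (pow_pos two_pos m)]
      · obtain ⟨x, hxE, hxC⟩ := SetLike.not_le_iff_exists.1 hEC
        have hxD := (Subgroup.mem_inf.1 hxE).1
        have hxo := hinvol x hxD hxC
        refine ⟨x, hDS hxD, (Subgroup.mem_inf.1 hxE).2, (S ⊓ H) ⊓ (T ⊔ C), inf_le_left, 0,
          by rw [zero_add, pow_one, ← hxo, pow_orderOf_eq_one], ?_,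
          fun g hg => h1 x hxD hxC hxo g (by simpa using (Subgroup.mem_inf.1 hg).2)⟩
        rw [zero_add, pow_one]
        obtain ⟨U, hU⟩ : ∃ U, U = (S ⊓ H) ⊓ (T ⊔ C) := ⟨_, rfl⟩
        rw [← hU]
        have hUle : U ≤ S ⊓ H := hU ▸ inf_le_left
        have hlow : Nat.card T * Nat.card ↥(C ⊓ (D ⊓ H)) ≤ Nat.card U := by
          rw [← Nat.card_prod]
          refine Nat.card_le_card_of_injective (fun u => (⟨u.1 * u.2, ?_⟩ : ↥U)) ?_
          · obtain ⟨hcC, hcE⟩ := Subgroup.mem_inf.1 u.2.2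
            obtain ⟨hcD, hcH⟩ := Subgroup.mem_inf.1 hcE
            rw [hU]
            exact Subgroup.mem_inf.2 ⟨Subgroup.mem_inf.2 ⟨mul_mem (hTS u.1.2) (hDS hcD),
              mul_mem (hTH u.1.2) hcH⟩, Subgroup.mul_mem_sup u.1.2 hcC⟩
          · intro u v h
            obtain ⟨h1', h2'⟩ := hinj _ u.1.2 _ (Subgroup.mem_inf.1 (Subgroup.mem_inf.1 u.2.2).2).1
              _ v.1.2 _ (Subgroup.mem_inf.1 (Subgroup.mem_inf.1 v.2.2).2).1 (congrArg Subtype.val h)
            exact Prod.ext (Subtype.ext h1') (Subtype.ext h2')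
        have hr2 : Nat.card ↥(D ⊓ H) ≤ 2 * Nat.card ↥(C ⊓ (D ⊓ H)) := by
          have hle : C.relIndex (D ⊓ H) ≤ 2 :=
            hCi ▸ Subgroup.relIndex_le_of_le_right inf_le_left (by rw [hCi]; norm_num)
          have h := Subgroup.relIndex_mul_relIndex ⊥ (C ⊓ (D ⊓ H)) (D ⊓ H) bot_le inf_le_right
          rw [Subgroup.relIndex_bot_left, Subgroup.relIndex_bot_left, Subgroup.inf_relIndex_right] at h
          rw [← h, mul_comm 2]
          exact Nat.mul_le_mul_left _ hle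
        have hne : U.relIndex (S ⊓ H) ≠ 1 := fun h => by
          have := Subgroup.relIndex_eq_one.1 h (Subgroup.mem_inf.2 ⟨hDS hxD, (Subgroup.mem_inf.1 hxE).2⟩)
          rw [hU] at this
          exact h1 x hxD hxC hxo 1 (by simpa using (Subgroup.mem_inf.1 this).2)
        have h := Subgroup.relIndex_mul_relIndex ⊥ U (S ⊓ H) bot_le hUle
        rw [Subgroup.relIndex_bot_left, Subgroup.relIndex_bot_left, hcard H hTH] at h
        have hpos : U.relIndex (S ⊓ H) ≠ 0 := fun h0 => by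
          rw [h0, mul_zero] at h
          exact (Nat.mul_ne_zero Nat.card_pos.ne' Nat.card_pos.ne') h.symm
        have hUpos : 0 < Nat.card U := Nat.card_pos
        have hTle : Nat.card T * Nat.card ↥(D ⊓ H) ≤ 2 * Nat.card U :=
          le_trans (Nat.mul_le_mul_left _ hr2) (by rw [Nat.mul_left_comm]; exact Nat.mul_le_mul_left _ hlow)
        have : U.relIndex (S ⊓ H) ≤ 2 := Nat.le_of_mul_le_mul_left
          (by rw [h]; rw [mul_comm (Nat.card U) 2]; exact hTle) hUpos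
        omega
    obtain ⟨r, hr, hrd⟩ : ∃ r, Odd r ∧ U.relIndex H = 2 ^ (m + 1) * r := by
      refine ⟨(S ⊓ H).relIndex H, Nat.odd_iff.2 (by omega), ?_⟩
      rw [← hUi, Subgroup.relIndex_mul_relIndex _ _ _ hUS inf_le_right]
    obtain ⟨K, hK2, hxK, hKR⟩ := transfer_sign (U.subgroupOf H) (⟨x, hxH⟩ : ↥H) m r hr
      (Subtype.ext (by simpa using hx)) hrd
      (fun g hg => hno g (by simpa using Subgroup.mem_subgroupOf.1 hg))
    obtain ⟨H', hH'⟩ : ∃ H', H' = K.map H.subtype := ⟨_, rfl⟩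
    have hH'H : H' ≤ H := hH' ▸ Subgroup.map_subtype_le K
    have hH'2 : H'.relIndex H = 2 := by
      rw [hH', Subgroup.relIndex, Subgroup.subgroupOf, Subgroup.comap_map_eq_self_of_injective H.subtype_injective, hK2]
    have hRH' : R ≤ H' := by
      rw [hR]
      refine (Subgroup.closure_le H').2 fun g hg => ?_
      have hgH : g ∈ H := hRH (hR ▸ Subgroup.subset_closure hg)
      rw [hH']
      exact ⟨⟨g, hgH⟩, hKR _ (by rw [← Subgroup.orderOf_coe]; exact hg), rfl⟩
    have hxH' : x ∉ H' := by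
      rw [hH']
      rintro ⟨y, hy, hye⟩
      exact hxK (by rwa [show y = ⟨x, hxH⟩ from Subtype.ext hye] at hy)
    refine ih (Nat.card H') ?_ H' rfl hRH' ?_
    · rw [← hHN]
      by_contra hlt
      exact hxH' ((Subgroup.eq_of_le_of_card_ge hH'H (not_lt.1 hlt)).symm ▸ hxH)
    · have hrel2 : (S ⊓ H').relIndex (S ⊓ H) = 2 := by
        have h1' : (S ⊓ H').relIndex (S ⊓ H) = H'.relIndex (S ⊓ H) := by
          rw [← Subgroup.inf_relIndex_right, ← Subgroup.inf_relIndex_right H']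
          congr 1
          rw [inf_assoc, inf_comm S H, ← inf_assoc H', inf_eq_left.2 hH'H, ← inf_assoc, inf_comm H' S,
            inf_comm (S ⊓ H') S, ← inf_assoc, inf_idem]
        have h2' : H'.relIndex (S ⊓ H) ≠ 1 := fun h =>
          hxH' (Subgroup.relIndex_eq_one.1 h (Subgroup.mem_inf.2 ⟨hxS, hxH⟩))
        have h3' : H'.relIndex (S ⊓ H) ≤ 2 :=
          hH'2 ▸ Subgroup.relIndex_le_of_le_right inf_le_right (by rw [hH'2]; norm_num)
        have h4' : H'.relIndex (S ⊓ H) ≠ 0 := Subgroup.index_ne_zero_of_finite (H := H'.subgroupOf (S ⊓ H))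
        omega
      intro h2d
      refine hodd ?_
      have e1 := Subgroup.relIndex_mul_relIndex (S ⊓ H') (S ⊓ H) H (inf_le_inf_left S hH'H) inf_le_right
      have e2 := Subgroup.relIndex_mul_relIndex (S ⊓ H') H' H inf_le_right hH'H
      rw [hrel2] at e1
      rw [hH'2, ← e1] at e2
      obtain ⟨w, hw⟩ := h2d
      exact ⟨w, by omega⟩
  obtain ⟨H₀, hRH₀, hH₀⟩ := main _ ⊤ rfl le_top (by rwa [inf_top_eq, Subgroup.relIndex_top_right])
  have hTR : T ≤ R := hTL.trans hLR
  have hTodd : ¬ 2 ∣ T.relIndex R := fun h => hH₀ (h.trans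
    ⟨R.relIndex H₀, (Subgroup.relIndex_mul_relIndex T R H₀ hTR hRH₀).symm⟩)
  refine ⟨R, hR ▸ inferInstance, ?_, fun T' hT'L hT'2 hT'syl => ⟨hT'L.trans hLR, ?_⟩⟩
  · obtain ⟨P, hP⟩ : ∃ P : Sylow 2 G, (P : Subgroup G) = S := ⟨hS2.toSylow hSsyl, rfl⟩
    refine eq_top_iff.2 ((pResidual_sup_sylow P).symm.le.trans ?_)
    rw [← hR, hP, ← hTD]
    exact sup_le le_sup_left (sup_le (hTR.trans le_sup_left) le_sup_right)
  · have hsame : Nat.card T' = Nat.card T := by
      obtain ⟨a, ha⟩ := hT'2.exists_card_eq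
      obtain ⟨b, hb⟩ := hT2.exists_card_eq
      have ea := Subgroup.relIndex_mul_relIndex ⊥ T' L bot_le hT'L
      have eb := Subgroup.relIndex_mul_relIndex ⊥ T L bot_le hTL
      rw [Subgroup.relIndex_bot_left, Subgroup.relIndex_bot_left] at ea eb
      rw [ha] at ea ⊢
      rw [hb] at eb ⊢
      have e := ea.trans eb.symm
      rcases lt_trichotomy a b with h | h | h
      · exfalso
        obtain ⟨d, rfl⟩ := Nat.exists_eq_add_of_lt h
        exact hT'syl ⟨2 ^ d * T.relIndex L, Nat.eq_of_mul_eq_mul_left (pow_pos two_pos a) (by rw [e]; ring)⟩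
      · rw [h]
      · exfalso
        obtain ⟨d, rfl⟩ := Nat.exists_eq_add_of_lt h
        exact hTsyl ⟨2 ^ d * T'.relIndex L, Nat.eq_of_mul_eq_mul_left (pow_pos two_pos b) (by rw [← e]; ring)⟩
    have ea := Subgroup.relIndex_mul_relIndex ⊥ T' R bot_le (hT'L.trans hLR)
    have eb := Subgroup.relIndex_mul_relIndex ⊥ T R bot_le hTR
    rw [Subgroup.relIndex_bot_left, Subgroup.relIndex_bot_left] at ea eb
    rw [hsame, ← eb] at ea
    rwa [Nat.eq_of_mul_eq_mul_left Nat.card_pos ea]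

end Cfsg.Agent.S1924
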