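import Cfsg.Statements.S1930
import Cfsg.Agent.Lib.Local.EquivParabolic.Group
import Cfsg.Agent.Lib.Local.EquivParabolic.Linear
-- import your own Cfsg.Agent.* helpers here

set_option autoImplicit false
open Cfsg

namespace Cfsg.Agent.S1930

/-- Inside a finite group let G be a nontrivial subgroup and R an r-subgroup (r a prime) normalizing G, with the order of G prime to r. Let p > 3 be a prime with F*(G) = O_p(G), and let P be the intersection of all R-invariant Sylow p-subgroups of G. Then P has a nontrivial characteristic subgroup that is normalized by G. -/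
theorem result {X : Type*} [Group X] [Finite X] (G R : Subgroup X) (r : ℕ) [Fact r.Prime] (hR : IsPGroup r ↥R) (hcop : (Nat.card ↥G).Coprime r) (hnorm : R ≤ Subgroup.normalizer (G : Set X)) (hG : G ≠ ⊥) (p : ℕ) [Fact p.Prime] (hp : 3 < p) (hF : Cfsg.generalizedFittingSubgroup ↥G = Cfsg.pCore p ↥G) (P : Subgroup X) (hP : P = ⨅ S : {S : Sylow p ↥G // ∀ a ∈ R, ((S : Subgroup ↥G).map G.subtype).map (MulAut.conj a).toMonoidHom = (S : Subgroup ↥G).map G.subtype}, ((S : Sylow p ↥G) : Subgroup ↥G).map G.subtype) : ∃ C : Subgroup ↥P, C.Characteristic ∧ C ≠ ⊥ ∧ G ≤ Subgroup.normalizer ((C.map P.subtype : Subgroup X) : Set X) := by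
  have hI := EquivParabolic.linearCore (p := p) (show 5 ≤ p by
    have h4 : p ≠ 4 := fun h => absurd (h ▸ (Fact.out : p.Prime)) (by norm_num)
    omega)
  obtain ⟨h1, h2⟩ := EquivParabolic.kInfLower_normalized hI G R r hR hcop hnorm hG hF P hP
  have hPp : IsPGroup p ↥P := by
    have hco : (Nat.card R).Coprime (Nat.card G) := by
      obtain ⟨n, hn⟩ := IsPGroup.iff_card.1 hR
      rw [hn]; exact (hcop.pow_right n).symm
    haveI : Group.IsNilpotent R := hR.isNilpotent
    obtain ⟨T, hT, hTR⟩ := Solv.exists_invariant_sylow hnorm hco (Or.inl inferInstance) p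
    obtain ⟨Q, hQ⟩ := hT.exists_sylow
    have hQR : ∀ a ∈ R, ((Q : Subgroup ↥G).map G.subtype).map (MulAut.conj a).toMonoidHom =
        (Q : Subgroup ↥G).map G.subtype := by
      intro a ha
      rw [hQ]
      refine le_antisymm ?_ fun x hx => ⟨a⁻¹ * x * a, ?_, by simp [mul_assoc]⟩
      · rintro _ ⟨x, hx, rfl⟩
        exact (Subgroup.mem_normalizer_iff.1 (hTR ha) x).1 hx
      · simpa using (Subgroup.mem_normalizer_iff.1 (hTR (inv_mem ha)) x).1 hx
    have hle : P ≤ T := by
      rw [hP, ← hQ]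
      exact iInf_le (fun S : {S : Sylow p ↥G // ∀ a ∈ R, ((S : Subgroup ↥G).map G.subtype).map
        (MulAut.conj a).toMonoidHom = (S : Subgroup ↥G).map G.subtype} =>
          ((S : Sylow p ↥G) : Subgroup ↥G).map G.subtype) ⟨Q, hQR⟩
    exact hT.isPGroup.to_le hle
  refine ⟨_, ?_, h1, h2⟩
  exact Subgroup.characteristic_iff_map_eq.2 fun e => (Fusion.isCharPFunctor_kInfLower p).2 P P hPp e

end Cfsg.Agent.S1930
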