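import Cfsg.Statements.S1935
import Cfsg.Agent.Lib.Solv.OffenderFix
import Cfsg.Agent.Lib.Fusion.Timmesfeld

set_option autoImplicit false
open Cfsg

namespace Cfsg.Agent.S1935


open Cfsg.Agent.Solv.OffLim
open scoped commutatorElement

/-- A quadratic offender inside a given one. -/
theorem exists_quadratic {Ω : Type*} [Group Ω] [Finite Ω] (p : ℕ) [Fact p.Prime] {V E : Subgroup Ω}
    (hV : IsElementaryAbelian p V) (hEV : E ≤ Subgroup.normalizer (V : Set Ω))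
    (hfaith : E ⊓ Subgroup.centralizer (V : Set Ω) = ⊥) (hEab : IsElementaryAbelian p E) (hE : E ≠ ⊥)
    (hoff : Nat.card ↥V ≤ Nat.card ↥E * Nat.card ↥(V ⊓ Subgroup.centralizer (E : Set Ω))) :
    ∃ A ≤ E, A ≠ ⊥ ∧ Nat.card ↥V ≤ Nat.card ↥A * Nat.card ↥(V ⊓ Subgroup.centralizer (A : Set Ω)) ∧
      ⁅⁅V, A⁆, A⁆ = ⊥ := by
  classical
  have hVc : ∀ x ∈ V, ∀ y ∈ V, x * y = y * x := fun x hx y hy =>
    congrArg Subtype.val (hV.1.1.comm ⟨x, hx⟩ ⟨y, hy⟩)
  obtain ⟨A₀, ⟨hA₀E, hA₀⟩, hmax⟩ := Set.exists_max_image {B : Subgroup Ω | B ≤ E ∧ B ≠ ⊥}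
    (fun B => Fusion.offMeasure V B) (Set.toFinite _) ⟨E, le_rfl, hE⟩
  obtain ⟨A, ⟨hAE, hA, hAeq⟩, hmin⟩ := Set.exists_min_image
    {B : Subgroup Ω | B ≤ E ∧ B ≠ ⊥ ∧ Fusion.offMeasure V B = Fusion.offMeasure V A₀}
    (fun B => Nat.card B) (Set.toFinite _) ⟨A₀, hA₀E, hA₀, rfl⟩
  have hVA : Nat.card ↥V ≤ Fusion.offMeasure V A := hAeq ▸ hoff.trans (hmax E ⟨le_rfl, hE⟩)
  have hAV : A ≤ Subgroup.normalizer (V : Set Ω) := hAE.trans hEV
  have hAcomm : ∀ a ∈ A, ∀ b ∈ A, a * b = b * a := fun a ha b hb =>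
    congrArg Subtype.val (hEab.1.1.comm ⟨a, hAE ha⟩ ⟨b, hAE hb⟩)
  have hab : ⁅A, A⁆ ≤ Subgroup.centralizer (V : Set Ω) := Subgroup.commutator_le.2 fun a ha b hb => by
    rw [commutatorElement_eq_one_iff_mul_comm.2 (hAcomm a ha b hb)]; exact one_mem _
  obtain ⟨h1, h2⟩ := Fusion.offMeasure_replacement hVc hAV hab le_rfl (fun B hB => by
    rcases eq_or_ne B ⊥ with rfl | hB'
    · refine le_trans ?_ hVA
      simpa [Fusion.offMeasure] using Subgroup.card_le_of_le (inf_le_left :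
        V ⊓ Subgroup.centralizer ((⊥ : Subgroup Ω) : Set Ω) ≤ V)
    · exact hAeq ▸ hmax B ⟨hB.trans hAE, hB'⟩)
  set W := ⁅V, A⁆
  set B := A ⊓ Subgroup.centralizer (W : Set Ω)
  have hBne : B ≠ ⊥ := by
    intro hb
    rw [hb] at h2
    have hV2 : V ≤ W ⊔ (V ⊓ Subgroup.centralizer (A : Set Ω)) := by
      rw [← h2]
      refine le_inf le_rfl fun x _ => Subgroup.mem_centralizer_iff.2 fun y hy => ?_
      rw [Subgroup.mem_bot.1 hy]; simp
    have hWV : W ≤ V := Subgroup.commutator_le.2 fun x hx a ha => Fusion.act_comm_mem hAV hx ha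
    have hW : W ≤ ⁅W, A⁆ := Subgroup.commutator_le.2 fun x hx a ha => by
      have h3 : W ⊔ (V ⊓ Subgroup.centralizer (A : Set Ω)) ≤ Subgroup.normalizer (W : Set Ω) :=
        (sup_le hWV inf_le_left).trans fun y hy => Subgroup.mem_normalizer_fintype fun w hw => by
          rw [hVc y hy w (hWV hw), mul_inv_cancel_right]; exact hw
      obtain ⟨w, hw, c, hc, rfl⟩ : ∃ w ∈ W, ∃ c ∈ V ⊓ Subgroup.centralizer (A : Set Ω), w * c = x := by
        have h4 : (V ⊓ Subgroup.centralizer (A : Set Ω) : Subgroup Ω) ≤ Subgroup.normalizer (W : Set Ω) :=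
          le_sup_right.trans h3
        have hx' := hV2 hx
        rwa [← SetLike.mem_coe, Subgroup.coe_mul_of_right_le_normalizer_left _ _ h4, Set.mem_mul] at hx'
      rw [Fusion.act_comm_mul hVc hAV (hWV hw) hc.1 ha,
        commutatorElement_eq_one_iff_mul_comm.2 (Subgroup.mem_centralizer_iff.1 hc.2 a ha).symm, mul_one]
      exact Subgroup.commutator_mem_commutator hw ha
    have hW0 : W = ⊥ := Fusion.eq_bot_of_le_act_comm hAV (p := p)
      (fun x => ⟨1, Subtype.ext (by simpa using hV.2 x x.2)⟩)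
      (fun a ha => by rw [hEab.2 a (hAE ha)]; exact one_mem _) hWV hW
    rw [hW0, bot_sup_eq] at hV2
    refine hA (le_bot_iff.1 fun a ha => hfaith.le ⟨hAE ha, Subgroup.mem_centralizer_iff.2 fun v hv => ?_⟩)
    exact (Subgroup.mem_centralizer_iff.1 (hV2 hv).2 a ha).symm
  have hBA : B = A := Subgroup.eq_of_le_of_card_ge inf_le_left
    (hmin B ⟨inf_le_left.trans hAE, hBne, h1.trans hAeq⟩)
  exact ⟨A, hAE, hA, hVA, Subgroup.commutator_eq_bot_iff_le_centralizer.2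
    (Subgroup.le_centralizer_iff.1 (hBA.ge.trans inf_le_right))⟩

theorem exists_normal_offender {Ω : Type*} [Group Ω] [Finite Ω] (p : ℕ) [hp : Fact p.Prime]
    (hp2 : p ≠ 2) (V G : Subgroup Ω) (hV : IsElementaryAbelian p V) (hG : IsPGroup p ↥G)
    (hGV : G ≤ Subgroup.normalizer (V : Set Ω))
    (hfaith : G ⊓ Subgroup.centralizer (V : Set Ω) = ⊥) {A₀ : Subgroup Ω} (hA₀G : A₀ ≤ G)
    (hA₀ : A₀ ≠ ⊥)
    (hoff : Nat.card ↥V ≤ Nat.card ↥A₀ * Nat.card ↥(V ⊓ Subgroup.centralizer (A₀ : Set Ω)))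
    (hquad : ⁅⁅V, A₀⁆, A₀⁆ = ⊥) :
    ∃ A : Subgroup Ω, A ≤ G ∧ A ≠ ⊥ ∧ IsElementaryAbelian p A ∧
      Nat.card ↥V ≤ Nat.card ↥A * Nat.card ↥(V ⊓ Subgroup.centralizer (A : Set Ω)) ∧
      ⁅⁅V, A⁆, A⁆ = ⊥ ∧
      ∀ g ∈ Subgroup.closure {x : Ω | ∃ h ∈ G, ∃ a ∈ A, x = h * a * h⁻¹}, ∀ a ∈ A, g * a * g⁻¹ ∈ A := by
  classical
  letI : CommGroup ↥V := { (inferInstance : Group ↥V) with mul_comm := hV.1.1.comm }
  have hpE : ∀ x : (Additive ↥V), p • x = 0 := fun x =>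
    show Additive.ofMul ((Additive.toMul x) ^ p) = 0 by
      rw [show (Additive.toMul x : ↥V) ^ p = 1 from Subtype.ext (by simpa using hV.2 _ (Additive.toMul x).2)]
      rfl
  haveI hmod : Module (ZMod p) (Additive ↥V) := AddCommGroup.zmodModule hpE
  let act : G → ↥V → ↥V := fun g v =>
    ⟨(g : Ω) * v * (g : Ω)⁻¹, (Subgroup.mem_normalizer_iff.1 (hGV g.2) v).1 v.2⟩
  let cj : G → (Additive ↥V) →+ (Additive ↥V) := fun g =>
    { toFun := fun v => Additive.ofMul (act g (Additive.toMul v))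
      map_zero' := congrArg Additive.ofMul (Subtype.ext (show (g : Ω) * (1 : Ω) * (g : Ω)⁻¹ = 1 by simp))
      map_add' := fun v w => congrArg Additive.ofMul (Subtype.ext
        (show (g : Ω) * ((Additive.toMul v : ↥V) * (Additive.toMul w : ↥V) : Ω) * (g : Ω)⁻¹ =
          ((g : Ω) * (Additive.toMul v : ↥V) * (g : Ω)⁻¹) * ((g : Ω) * (Additive.toMul w : ↥V) * (g : Ω)⁻¹)
          by group)) }
  let ρ : ↥G →* (Module.End (ZMod p) (Additive ↥V)) :=
    { toFun := fun g => (cj g).toZModLinearMap p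
      map_one' := LinearMap.ext fun v => by
        rw [Module.End.one_apply]
        exact congrArg Additive.ofMul (Subtype.ext
          (show (1 : Ω) * (Additive.toMul v : ↥V) * (1 : Ω)⁻¹ = ((Additive.toMul v : ↥V) : Ω) by simp))
      map_mul' := fun g h => LinearMap.ext fun v => by
        rw [Module.End.mul_apply]
        exact congrArg Additive.ofMul (Subtype.ext
          (show ((g : Ω) * h) * (Additive.toMul v : ↥V) * ((g : Ω) * h)⁻¹ =
            (g : Ω) * ((h : Ω) * (Additive.toMul v : ↥V) * (h : Ω)⁻¹) * (g : Ω)⁻¹ by group)) }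
  have hρ : ∀ (g : G) (v : ↥V), ((Additive.toMul (ρ g (Additive.ofMul v)) : ↥V) : Ω) =
      (g : Ω) * v * (g : Ω)⁻¹ := fun g v => rfl
  haveI : Finite (Module.End (ZMod p) (Additive ↥V)) := Finite.of_injective (fun f : (Module.End (ZMod p) (Additive ↥V)) => (f : (Additive ↥V) → (Additive ↥V))) DFunLike.coe_injective
  have hRp : ∀ x : (Module.End (ZMod p) (Additive ↥V)), p • x = 0 := fun x => LinearMap.ext fun v => by
    rw [LinearMap.smul_apply, hpE]; rfl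
  set n := Module.finrank (ZMod p) (Additive ↥V) with hn
  have hcard : ∀ C : Submodule (ZMod p) (Additive ↥V), Nat.card ((Additive ↥V) →ₗ[ZMod p] ↥C) = Nat.card C ^ n := fun C => by
    rw [← Nat.card_congr ((Module.finBasis (ZMod p) (Additive ↥V)).constr ℕ).toEquiv, Nat.card_fun, Nat.card_fin]
  have hinj : ∀ g : G, ρ g = 1 → g = 1 := fun g hg => Subtype.ext <| Subgroup.mem_bot.1 <| hfaith.le
    ⟨g.2, Subgroup.mem_centralizer_iff.2 fun v hv => by
      have h1 := hρ g ⟨v, hv⟩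
      rw [hg] at h1
      exact mul_inv_eq_iff_eq_mul.1 h1.symm |>.symm⟩
  have hρinj : Function.Injective ρ := fun a b h => (inv_mul_eq_one (a := a) (b := b)).1
    (hinj _ (by rw [map_mul, ← h, ← map_mul, inv_mul_cancel, map_one]))
  -- dictionary
  have hsq : ∀ (a : G) (x : (Module.End (ZMod p) (Additive ↥V))), ρ a = 1 + x → ∀ v : ↥V,
      ((Additive.toMul (x (Additive.ofMul v)) : ↥V) : Ω) = (a : Ω) * v * (a : Ω)⁻¹ * (v : Ω)⁻¹ := by
    intro a x hx v
    have h1 := hρ a v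
    rw [hx] at h1
    have h2 : (v : Ω) * ((Additive.toMul (x (Additive.ofMul v)) : ↥V) : Ω) = (a : Ω) * v * (a : Ω)⁻¹ := h1
    rw [← h2, show (v : Ω) * ((Additive.toMul (x (Additive.ofMul v)) : ↥V) : Ω) =
      ((Additive.toMul (x (Additive.ofMul v)) : ↥V) : Ω) * v from
        congrArg Subtype.val (mul_comm v (Additive.toMul (x (Additive.ofMul v)))), mul_inv_cancel_right]
  have hfix : ∀ (A : Subgroup G) (L : AddSubgroup (Module.End (ZMod p) (Additive ↥V))), (∀ a ∈ A, ∃ x ∈ L, ρ a = 1 + x) →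
      (∀ x ∈ L, ∃ a ∈ A, ρ a = 1 + x) →
      Nat.card (ann L) = Nat.card ↥(V ⊓ Subgroup.centralizer ((A.map G.subtype : Subgroup Ω) : Set Ω)) ^ n ∧
        Nat.card L = Nat.card ↥(A.map G.subtype) := by
    intro A L hAL hLA
    refine ⟨?_, ?_⟩
    · let C : Submodule (ZMod p) (Additive ↥V) := ⨅ x ∈ L, LinearMap.ker (x : (Additive ↥V) →ₗ[ZMod p] (Additive ↥V))
      have hC : ∀ v, v ∈ C ↔ ∀ x ∈ L, (x : (Additive ↥V) →ₗ[ZMod p] (Additive ↥V)) v = 0 := fun v => by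
        simp [C, Submodule.mem_iInf]
      let e : ↥(ann L) ≃ ((Additive ↥V) →ₗ[ZMod p] ↥C) :=
        { toFun := fun w => LinearMap.codRestrict C (w : (Module.End (ZMod p) (Additive ↥V))) fun v => (hC _).2 fun x hx =>
            LinearMap.congr_fun (w.2 x hx) v
          invFun := fun f => ⟨C.subtype.comp f, fun x hx => LinearMap.ext fun v => (hC _).1 (f v).2 x hx⟩
          left_inv := fun w => Subtype.ext (LinearMap.ext fun v => rfl)
          right_inv := fun f => LinearMap.ext fun v => rfl }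
      rw [Nat.card_congr e, hcard C]
      congr 1
      refine Nat.card_congr
        { toFun := fun v => ⟨(Additive.toMul (v : (Additive ↥V)) : ↥V), (Additive.toMul (v : (Additive ↥V))).2, ?_⟩
          invFun := fun v => ⟨Additive.ofMul ⟨v, v.2.1⟩, ?_⟩
          left_inv := fun v => rfl
          right_inv := fun v => rfl }
      · refine Subgroup.mem_centralizer_iff.2 ?_
        rintro _ ⟨a, ha, rfl⟩
        obtain ⟨x, hx, hax⟩ := hAL a ha
        have h1 := hsq a x hax (Additive.toMul (v : (Additive ↥V)))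
        rw [ofMul_toMul, (hC _).1 v.2 x hx] at h1
        exact mul_inv_eq_iff_eq_mul.1 (mul_inv_eq_one.1 h1.symm)
      · refine (hC _).2 fun x hx => ?_
        obtain ⟨a, ha, hax⟩ := hLA x hx
        have h2 := Subgroup.mem_centralizer_iff.1 v.2.2 (a : Ω) ⟨a, ha, rfl⟩
        have h1 := hsq a x hax ⟨v, v.2.1⟩
        rw [h2, mul_inv_cancel_right, mul_inv_cancel] at h1
        exact Subtype.ext h1
    · rw [Subgroup.card_map_of_injective G.subtype_injective]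
      choose f hf1 hf2 using hLA
      refine Nat.card_congr (Equiv.ofBijective (fun x : L => (⟨f x x.2, hf1 x x.2⟩ : A)) ⟨fun x y h => ?_, fun a => ?_⟩)
      · have := hf2 x x.2
        rw [show f x x.2 = f y y.2 from congrArg Subtype.val h, hf2 y y.2] at this
        exact Subtype.ext (add_left_cancel this).symm
      · obtain ⟨x, hx, hax⟩ := hAL a a.2
        exact ⟨⟨x, hx⟩, Subtype.ext (hρinj ((hf2 x hx).trans hax.symm))⟩
  have hRcard : Nat.card (Module.End (ZMod p) (Additive ↥V)) = Nat.card ↥V ^ n := by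
    rw [show Nat.card (Module.End (ZMod p) (Additive ↥V)) = Nat.card ((Additive ↥V) →ₗ[ZMod p] (Additive ↥V)) from rfl,
      ← Nat.card_congr ((Module.finBasis (ZMod p) (Additive ↥V)).constr ℕ).toEquiv, Nat.card_fun, Nat.card_fin]
    rfl
  -- the offender as an additive subgroup
  set B := A₀.subgroupOf G with hB
  have hBmap : B.map G.subtype = A₀ := Subgroup.map_subgroupOf_eq_of_le hA₀G
  have hW : ∀ a ∈ A₀, ∀ v ∈ V, ∀ b ∈ A₀, b * (a * v * a⁻¹ * v⁻¹) * b⁻¹ = a * v * a⁻¹ * v⁻¹ := by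
    intro a ha v hv b hb
    have h1 : a * v * a⁻¹ * v⁻¹ ∈ ⁅V, A₀⁆ := by
      rw [Subgroup.commutator_comm]
      exact Subgroup.commutator_mem_commutator ha hv
    have h2 := Subgroup.mem_centralizer_iff.1 (Subgroup.commutator_eq_bot_iff_le_centralizer.1 hquad h1) b hb
    rw [h2, mul_inv_cancel_right]
  have hprod : ∀ a ∈ B, ∀ b ∈ B, ∀ x y : (Module.End (ZMod p) (Additive ↥V)), ρ a = 1 + x → ρ b = 1 + y → x * y = 0 := by
    intro a ha b hb x y hx hy
    refine LinearMap.ext fun v => ?_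
    have h1 := hsq a x hx (Additive.toMul (y v))
    have h2 := hsq b y hy (Additive.toMul v)
    rw [ofMul_toMul] at h1 h2
    rw [h2, hW b hb _ (Additive.toMul v).2 a ha, mul_inv_cancel] at h1
    exact Subtype.ext h1
  let L₀ : AddSubgroup (Module.End (ZMod p) (Additive ↥V)) :=
    { carrier := {x | ∃ a ∈ B, ρ a = 1 + x}
      zero_mem' := ⟨1, one_mem _, by simp⟩
      add_mem' := by
        rintro x y ⟨a, ha, hx⟩ ⟨b, hb, hy⟩
        exact ⟨a * b, mul_mem ha hb, by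
          rw [map_mul, hx, hy, mul_add, add_mul, add_mul, hprod a ha b hb x y hx hy]; simp [add_assoc]⟩
      neg_mem' := by
        rintro x ⟨a, ha, hx⟩
        exact ⟨a⁻¹, inv_mem ha, by rw [rho_inv_eq ρ hx (hprod a ha a ha x x hx hx), sub_eq_add_neg]⟩ }
  obtain ⟨c0, d0⟩ := hfix B L₀ (fun a ha => ⟨ρ a - 1, ⟨a, ha, by simp⟩, by simp⟩) (fun x hx => hx)
  rw [hBmap] at c0 d0
  have hoff₀ : Off ρ n L₀ := by
    refine ⟨?_, ?_, ?_, fun h => hA₀ ?_⟩
    · rintro x ⟨a, ha, hx⟩ y ⟨b, hb, hy⟩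
      exact hprod a ha b hb x y hx hy
    · rintro x ⟨a, -, hx⟩
      exact ⟨a, hx⟩
    · rw [hRcard, c0, d0, ← mul_pow]; exact Nat.pow_le_pow_left hoff _
    · rw [h, AddSubgroup.card_bot] at d0
      exact Subgroup.card_eq_one.1 d0.symm
  obtain ⟨L, hL, hnorm⟩ := exists_off_normal hp2 hRp hG ρ hoff₀
  set A₁ := expGrp ρ L hL.sq
  obtain ⟨c1, d1⟩ := hfix A₁ L (fun a ⟨x, hx, ha⟩ => ⟨x, hx, ha⟩)
    (fun x hx => by obtain ⟨g, hg⟩ := hL.exp x hx; exact ⟨g, ⟨x, hx, hg⟩, hg⟩)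
  have hn0 : n ≠ 0 := fun h0 => hL.ne (by
    refine AddSubgroup.eq_bot_of_card_le L ?_
    refine (AddSubgroup.card_le_card_addGroup L).trans (le_of_eq ?_)
    rw [hRcard, h0, pow_zero])
  refine ⟨A₁.map G.subtype, Subgroup.map_subtype_le _, fun h => hL.ne ?_, ⟨⟨⟨?_⟩⟩, ?_⟩, ?_, ?_, ?_⟩
  · rw [h, Subgroup.card_bot] at d1
    exact AddSubgroup.eq_bot_of_card_le L d1.le
  · rintro ⟨_, a, ⟨x, hx, hax⟩, rfl⟩ ⟨_, b, ⟨y, hy, hby⟩, rfl⟩
    refine Subtype.ext (show (a : Ω) * b = b * a from congrArg Subtype.val (hρinj ?_ : a * b = b * a))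
    rw [map_mul, map_mul, hax, hby]
    simp [mul_add, add_mul, hL.sq x hx y hy, hL.sq y hy x hx, add_comm, add_left_comm]
  · rintro _ ⟨a, ⟨x, hx, hax⟩, rfl⟩
    have hk : ∀ k : ℕ, ρ (a ^ k) = 1 + k • x := fun k => by
      induction k with
      | zero => simp
      | succ k ih =>
        rw [pow_succ, map_mul, ih, hax]
        simp [mul_add, add_mul, mul_assoc, hL.sq x hx x hx, add_assoc]
    exact congrArg Subtype.val (hinj (a ^ p) (by rw [hk, hRp, add_zero]))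
  · refine (Nat.pow_le_pow_iff_left hn0).1 ?_
    rw [mul_pow, ← c1, ← d1, ← hRcard]
    exact hL.card
  · refine Subgroup.commutator_eq_bot_iff_le_centralizer.2 (Subgroup.commutator_le.2 ?_)
    rintro v hv _ ⟨a, ⟨x, hx, hax⟩, rfl⟩
    refine Subgroup.mem_centralizer_iff.2 ?_
    rintro _ ⟨b, ⟨y, hy, hby⟩, rfl⟩
    have h0 := hsq a x hax ⟨v, hv⟩
    have h1 := hsq b y hby (Additive.toMul (x (Additive.ofMul ⟨v, hv⟩)))
    rw [ofMul_toMul, show (y : (Additive ↥V) →ₗ[ZMod p] (Additive ↥V)) (x (Additive.ofMul ⟨v, hv⟩)) = 0 from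
      LinearMap.congr_fun (hL.sq y hy x hx) _, h0] at h1
    have h2 := mul_inv_eq_iff_eq_mul.1 (mul_inv_eq_one.1 h1.symm)
    rw [show ⁅v, (G.subtype a : Ω)⁆ = ((a : Ω) * v * (a : Ω)⁻¹ * v⁻¹)⁻¹ by
      simp [commutatorElement_def, mul_assoc]]
    exact (Commute.inv_right (show Commute (b : Ω) _ from h2)).eq
  · intro g hg
    have h1 : {x : Ω | ∃ h ∈ G, ∃ a ∈ A₁.map G.subtype, x = h * a * h⁻¹} ⊆
        G.subtype '' {x | ∃ h, ∃ a ∈ A₁, x = h * a * h⁻¹} := by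
      rintro _ ⟨h, hh, _, ⟨a, ha, rfl⟩, rfl⟩
      exact ⟨⟨h, hh⟩ * a * ⟨h, hh⟩⁻¹, ⟨⟨h, hh⟩, a, ha, rfl⟩, rfl⟩
    have h2 := Subgroup.closure_mono h1 hg
    rw [← MonoidHom.map_closure] at h2
    obtain ⟨g', hg', rfl⟩ := h2
    rintro _ ⟨a, ha, rfl⟩
    exact ⟨g' * a * g'⁻¹, (Subgroup.mem_normalizer_iff.1 (hnorm hg') a).1 ha, rfl⟩

/-- Let p ≥ 5 be a prime and, inside an ambient finite group, let G be a p-subgroup acting faithfully by conjugation on an elementary abelian p-subgroup V that it normalizes (only the identity of G centralizes V). Suppose V is an F-module for G: some nontrivial elementary abelian subgroup E of G satisfies #E · #C_V(E) ≥ #V. Then G contains such an offender A that moreover acts quadratically on V ([V, A, A] = 1) and is normal in its normal closure in G. -/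
theorem result {Ω : Type*} [Group Ω] [Finite Ω] (p : ℕ) [Fact p.Prime] (hp : 5 ≤ p) (V G : Subgroup Ω) (hV : Cfsg.IsElementaryAbelian p V) (hG : IsPGroup p ↥G) (hGV : G ≤ Subgroup.normalizer (V : Set Ω)) (hfaith : G ⊓ Subgroup.centralizer (V : Set Ω) = ⊥) (hF : ∃ E : Subgroup Ω, E ≤ G ∧ E ≠ ⊥ ∧ Cfsg.IsElementaryAbelian p E ∧ Nat.card ↥V ≤ Nat.card ↥E * Nat.card ↥(V ⊓ Subgroup.centralizer (E : Set Ω))) : ∃ A : Subgroup Ω, A ≤ G ∧ A ≠ ⊥ ∧ Cfsg.IsElementaryAbelian p A ∧ Nat.card ↥V ≤ Nat.card ↥A * Nat.card ↥(V ⊓ Subgroup.centralizer (A : Set Ω)) ∧ ⁅⁅V, A⁆, A⁆ = ⊥ ∧ ∀ g ∈ Subgroup.closure {x : Ω | ∃ h ∈ G, ∃ a ∈ A, x = h * a * h⁻¹}, ∀ a ∈ A, g * a * g⁻¹ ∈ A := by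
  obtain ⟨E, hEG, hE, hEab, hoff⟩ := hF
  obtain ⟨A, hAE, hA, hAoff, hquad⟩ := exists_quadratic p hV (hEG.trans hGV)
    (le_bot_iff.1 ((inf_le_inf_right _ hEG).trans hfaith.le)) hEab hE hoff
  exact exists_normal_offender p (by omega) V G hV hG hGV hfaith (hAE.trans hEG) hA hAoff hquad

end Cfsg.Agent.S1935
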