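import Cfsg.Statements.S1939
import Cfsg.Agent.Lib.Fusion.WeakClosure

set_option autoImplicit false
open Cfsg

namespace Cfsg.Agent.S1939

/-- Let S be a Sylow p-subgroup of the finite group G and a an element of S that is the only G-conjugate of a lying in S. Then every power of a has the same property: for every n, the only G-conjugate of a^n lying in S is a^n. -/
theorem result {G : Type*} [Group G] [Finite G] {p : ℕ} [Fact p.Prime] (S : Sylow p G) (a : G)
    (haS : a ∈ (S : Subgroup G)) (hwc : ∀ g : G, g * a * g⁻¹ ∈ (S : Subgroup G) → g * a * g⁻¹ = a) (n : ℕ) :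
    ∀ g : G, g * a ^ n * g⁻¹ ∈ (S : Subgroup G) → g * a ^ n * g⁻¹ = a ^ n := by
  intro g hg
  have hS := Fusion.sylIn_top S
  have hZ : ∀ s ∈ (S : Subgroup G), Commute s a := by
    intro s hs
    exact mul_inv_eq_iff_eq_mul.1 (hwc s (mul_mem (mul_mem hs haS) (inv_mem hs)))
  have hSC : (S : Subgroup G) ≤ Subgroup.centralizer ({a ^ n} : Set G) := fun s hs =>
    Subgroup.mem_centralizer_singleton_iff.2 (Commute.pow_right (hZ s hs) n).eq
  have h1 : g⁻¹ * a * g ∈ Subgroup.centralizer ({a ^ n} : Set G) := by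
    have h2 : Commute a (g * a ^ n * g⁻¹) := (hZ _ hg).symm
    rw [Subgroup.mem_centralizer_singleton_iff]
    have h3 := congrArg (fun z => g⁻¹ * z * g) h2.eq
    simpa [mul_assoc] using h3
  have hap : IsPGroup p (Subgroup.zpowers (g⁻¹ * a * g)) := by
    have := Fusion.isPGroup_cj (S.isPGroup'.to_le (Subgroup.zpowers_le.2 haS)) g⁻¹
    rw [Fusion.cj, MonoidHom.map_zpowers] at this
    have e : (MulAut.conj g⁻¹).toMonoidHom a = g⁻¹ * a * g := by simp
    rwa [e] at this
  obtain ⟨m, hm, hmS⟩ := (hS.mono hSC le_top).conj_le hap (Subgroup.zpowers_le.2 h1)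
  have h4 := hmS (Fusion.conj_mem_cj (Subgroup.mem_zpowers _))
  have h5 : m * g⁻¹ * a * (m * g⁻¹)⁻¹ = a := hwc _ (by simpa [mul_assoc] using h4)
  have h6 : Commute (m * g⁻¹) a := mul_inv_eq_iff_eq_mul.1 h5
  have h7 : Commute (g * m⁻¹) (a ^ n) := by simpa using (h6.inv_left.pow_right n)
  have h8 : Commute m (a ^ n) := Subgroup.mem_centralizer_singleton_iff.1 hm
  have h9 : Commute g (a ^ n) := by simpa using h7.mul_left h8
  rw [h9.eq, mul_inv_cancel_right]

end Cfsg.Agent.S1939
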