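import Cfsg.Statements.S1940
import Mathlib


set_option autoImplicit false
open Cfsg
open scoped commutatorElement

namespace Cfsg.Agent.S1940

/-- Let the finite group L act by automorphisms on the finite abelian group M, and let N be an L-invariant subgroup of M such that M/N is a p-group on which L acts trivially (every l • m lies in the coset mN). If every element of M is a product of an element of N and an element fixed by a Sylow p-subgroup T of L, then every element of M is a product of an element of N and an element fixed by all of L. -/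
theorem result {L : Type*} [Group L] [Finite L] {M : Type*} [CommGroup M] [Finite M] [MulDistribMulAction L M]
    {p : ℕ} [Fact p.Prime] (N : Subgroup M) (hN : ∀ (l : L) (m : M), m ∈ N → l • m ∈ N)
    (hquot : IsPGroup p (M ⧸ N)) (htriv : ∀ (l : L) (m : M), (l • m) * m⁻¹ ∈ N) (T : Sylow p L)
    (hT : ∀ m : M, ∃ n ∈ N, ∃ c : M, (∀ t ∈ (T : Subgroup L), t • c = c) ∧ m = n * c) :
    ∀ m : M, ∃ n ∈ N, ∃ c : M, (∀ l : L, l • c = c) ∧ m = n * c := by
  intro m
  obtain ⟨n, hn, c, hc, rfl⟩ := hT m
  let f : L ⧸ (T : Subgroup L) → M := fun q => Quotient.liftOn' q (fun l => l • c) fun a b hab => by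
    rw [QuotientGroup.leftRel_apply] at hab
    show a • c = b • c
    rw [← mul_inv_cancel_left a b, mul_smul, hc _ hab]
  have hf : ∀ (g : L) (q : L ⧸ (T : Subgroup L)), f (g • q) = g • f q := fun g q =>
    Quotient.inductionOn' q fun l => mul_smul g l c
  have := Fintype.ofFinite (L ⧸ (T : Subgroup L))
  have hfix : ∀ l : L, l • (∏ q, f q) = ∏ q, f q := fun l => by
    rw [Finset.smul_prod']
    simp only [← hf]
    exact Equiv.prod_comp (MulAction.toPerm l) f
  have hmk : QuotientGroup.mk' N (∏ q, f q) = (QuotientGroup.mk' N c) ^ (T : Subgroup L).index := by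
    rw [map_prod, Subgroup.index_eq_card, Nat.card_eq_fintype_card, ← Finset.card_univ]
    refine Finset.prod_eq_pow_card fun q _ => Quotient.inductionOn' q fun l => ?_
    refine (QuotientGroup.eq.2 ?_).symm
    rw [mul_comm]
    exact htriv l c
  obtain ⟨j, hj⟩ := hquot (QuotientGroup.mk' N c)
  have hcop : (T : Subgroup L).index.Coprime (orderOf (QuotientGroup.mk' N c)) :=
    Nat.Coprime.coprime_dvd_right (orderOf_dvd_of_pow_eq_one hj)
      (Nat.Coprime.pow_right _ (((Fact.out : p.Prime).coprime_iff_not_dvd.2 T.not_dvd_index).symm))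
  obtain ⟨k, hk⟩ := exists_pow_eq_self_of_coprime hcop
  refine ⟨n * c * ((∏ q, f q) ^ k)⁻¹, ?_, (∏ q, f q) ^ k, fun l => by rw [smul_pow', hfix],
    (inv_mul_cancel_right _ _).symm⟩
  refine (QuotientGroup.eq_one_iff _).1 ?_
  change QuotientGroup.mk' N (n * c * ((∏ q, f q) ^ k)⁻¹) = 1
  rw [map_mul, map_mul, map_inv, map_pow, hmk, hk, mul_inv_cancel_right]
  exact (QuotientGroup.eq_one_iff n).2 hn

end Cfsg.Agent.S1940
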