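import Cfsg.Statements.S1941
import Cfsg.Agent.Lib.Fusion.PLayerBasics
import Cfsg.Agent.Lib.Local.Basics

set_option autoImplicit false
open Cfsg
open Cfsg.Agent.Fusion
open scoped commutatorElement

namespace Cfsg.Agent.S1941

set_option linter.style.haveILetI false

/-- Let G be a finite group with no nontrivial normal subgroup of order prime to p, T a Sylow p-subgroup of G and E(G) the layer of G (the subgroup generated by its components). An automorphism of G of p-power order that fixes T and E(G) elementwise is inner. -/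
theorem result {G : Type*} [Group G] [Finite G] {p : ℕ} [Fact p.Prime] (hcore : Cfsg.pPrimeCore p G = ⊥)
    (T : Sylow p G) (α : MulAut G) (hα : ∃ j : ℕ, orderOf α = p ^ j) (hfixT : ∀ x ∈ (T : Subgroup G), α x = x)
    (hfixE : ∀ x ∈ Cfsg.layer G, α x = x) : ∃ g : G, ∀ x : G, α x = g * x * g⁻¹ := by
  haveI := Cfsg.Agent.Local.gfit_normal (H := G)
  have _ := hα
  obtain ⟨F, hF⟩ : ∃ F, F = Cfsg.generalizedFittingSubgroup G := ⟨_, rfl⟩
  haveI hFn : F.Normal := hF ▸ inferInstance
  have hfit := Cfsg.Agent.Fusion.fitting_eq_pCore hcore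
  have hO : Cfsg.pCore p G ≤ (T : Subgroup G) := IsPGroup.le_sylow_of_normal (Cfsg.Agent.Fusion.isPGroup_pCore p G) T
  have hfix : ∀ x ∈ F, α x = x := by
    have h : F ≤ α.toMonoidHom.eqLocus (MonoidHom.id G) := by
      rw [hF]
      refine sup_le (fun x hx => hfixE x hx) (fun x hx => hfixT x (hO ?_))
      rwa [← hfit]
    exact fun x hx => h hx
  obtain ⟨Z, hZ⟩ : ∃ Z, Z = Subgroup.centralizer (F : Set G) := ⟨_, rfl⟩
  have hZF : Z ≤ F := by rw [hZ, hF]; exact Cfsg.Agent.Solv.centralizer_gfit_le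
  haveI hZn : Z.Normal := hZ ▸ Cfsg.Agent.Solv.centralizer_normal_of_normal F
  have hZc : ∀ a b : Z, a * b = b * a := fun a b => Subtype.ext
    (Subgroup.mem_centralizer_iff.1 (hZ.le b.2) a (hZF a.2))
  haveI : IsMulCommutative Z := ⟨⟨hZc⟩⟩
  letI : CommGroup Z := { (inferInstance : Group Z) with mul_comm := hZc }
  haveI : Group.IsNilpotent Z := CommGroup.isNilpotent
  have hZp : IsPGroup p Z := (Cfsg.Agent.Fusion.isPGroup_pCore p G).to_le (by
    rw [← hfit]; exact le_sSup ⟨inferInstance, inferInstance⟩)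
  have hc : ∀ g : G, α g * g⁻¹ ∈ Z := fun g => by
    rw [hZ, Subgroup.mem_centralizer_iff]
    intro y hy
    have hy' := hfix y hy
    have h2 : g⁻¹ * y * g ∈ F := by
      have := hFn.conj_mem y hy g⁻¹
      simpa using this
    have h3 := hfix _ h2
    rw [map_mul, map_mul, map_inv, hy'] at h3
    calc y * (α g * g⁻¹) = α g * ((α g)⁻¹ * y * α g) * g⁻¹ := by group
      _ = α g * (g⁻¹ * y * g) * g⁻¹ := by rw [h3]
      _ = α g * g⁻¹ * y := by group
  obtain ⟨c, hcdef⟩ : ∃ c : G → Z, ∀ g, (c g : G) = α g * g⁻¹ := ⟨fun g => ⟨_, hc g⟩, fun _ => rfl⟩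
  have hct : ∀ g : G, ∀ t ∈ (T : Subgroup G), c (g * t) = c g := fun g t ht => Subtype.ext (by
    rw [hcdef, hcdef, map_mul, hfixT t ht, mul_inv_rev, mul_assoc, mul_inv_cancel_left])
  have hmul : ∀ h g : G, c (h * g) = c h * MulAut.conjNormal h (c g) := fun h g => Subtype.ext (by
    rw [Subgroup.coe_mul, MulAut.conjNormal_apply, hcdef, hcdef, hcdef, map_mul]; group)
  let d : G ⧸ (T : Subgroup G) → Z := fun q => Quotient.liftOn' q c fun a b hab => by
    rw [QuotientGroup.leftRel_apply] at hab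
    have := hct a _ hab
    rw [mul_inv_cancel_left] at this
    exact this.symm
  have hd : ∀ g : G, d (QuotientGroup.mk g) = c g := fun g => rfl
  haveI : Fintype (G ⧸ (T : Subgroup G)) := Fintype.ofFinite _
  obtain ⟨n, hn⟩ : ∃ n, n = (T : Subgroup G).index := ⟨_, rfl⟩
  have hcop : (Nat.card Z).Coprime n := by
    obtain ⟨k, hk⟩ := IsPGroup.iff_card.1 hZp
    rw [hk, hn]
    exact Nat.Coprime.pow_left k ((Nat.Prime.coprime_iff_not_dvd Fact.out).2 T.not_dvd_index)
  obtain ⟨w, hw⟩ := (powCoprime hcop).surjective (∏ q, d q)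
  rw [powCoprime_apply] at hw
  refine ⟨w, fun h => ?_⟩
  have hP : MulAut.conjNormal h (∏ q, d q) = (c h ^ n)⁻¹ * ∏ q, d q := by
    have h1 : ∀ q, MulAut.conjNormal h (d q) = (c h)⁻¹ * d (h • q) := fun q => by
      induction q using QuotientGroup.induction_on with
      | _ g =>
        rw [hd, show h • (QuotientGroup.mk g : G ⧸ (T : Subgroup G)) = QuotientGroup.mk (h * g) from rfl,
          hd, hmul, inv_mul_cancel_left]
    rw [map_prod, Finset.prod_congr rfl fun q _ => h1 q, Finset.prod_mul_distrib, Finset.prod_const,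
      Finset.card_univ, ← Nat.card_eq_fintype_card, ← Subgroup.index, ← hn, inv_pow]
    congr 1
    exact Fintype.prod_equiv (MulAction.toPerm h) _ _ fun q => rfl
  have h2 : MulAut.conjNormal h w = (c h)⁻¹ * w := (powCoprime hcop).injective (by
    rw [powCoprime_apply, powCoprime_apply, ← map_pow, hw, hP, mul_pow, inv_pow, hw])
  have h3 := congrArg Subtype.val h2
  rw [MulAut.conjNormal_apply, Subgroup.coe_mul, Subgroup.coe_inv, hcdef] at h3
  calc α h = α h * h⁻¹ * h := by group
    _ = (w : G) * (h * w * h⁻¹)⁻¹ * h := by rw [h3]; group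
    _ = (w : G) * h * (w : G)⁻¹ := by group

end Cfsg.Agent.S1941
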