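import Cfsg.Statements.S1944
import Cfsg.Agent.Lib.Fusion.Reduction
import Cfsg.Agent.Lib.Fusion.Cores

set_option autoImplicit false
open Cfsg
open Cfsg.Agent.Fusion
open scoped commutatorElement

namespace Cfsg.Agent.S1944

/-- Let S be a Sylow p-subgroup of the finite group G and suppose that the centre Z(S) lies in O_{p',p}(G). The elements of S each of which is its only G-conjugate in S form a subgroup W of Z(S); W is then a direct factor of Z(S): there is a subgroup K of Z(S) with W ∩ K = 1 and WK = Z(S). -/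
theorem result {G : Type*} [Group G] [Finite G] {p : ℕ} [Fact p.Prime] (S : Sylow p G)
    (hZ : ((S : Subgroup G) ⊓ Subgroup.centralizer ((S : Subgroup G) : Set G)) ≤ Cfsg.pPrimePCore p G) :
    ∃ W K : Subgroup G, (∀ x : G, x ∈ W ↔ (x ∈ (S : Subgroup G) ∧ ∀ g : G, g * x * g⁻¹ ∈ (S : Subgroup G) → g * x * g⁻¹ = x)) ∧
      K ≤ ((S : Subgroup G) ⊓ Subgroup.centralizer ((S : Subgroup G) : Set G)) ∧ W ⊓ K = ⊥ ∧ W ⊔ K = ((S : Subgroup G) ⊓ Subgroup.centralizer ((S : Subgroup G) : Set G)) := by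
  classical
  set R := Cfsg.pPrimeCore p G with hR
  have hRp : (Nat.card R).Coprime p := card_pPrimeCore_coprime p G
  set π := QuotientGroup.mk' R with hπ
  have hinj := injOn_mk_of_coprime hRp S.isPGroup'
  set Q := Cfsg.pCore p (G ⧸ R) with hQ
  set Z := (S : Subgroup G) ⊓ Subgroup.centralizer ((S : Subgroup G) : Set G) with hZdef
  set Sb := (S : Subgroup G).map π with hSb
  have hQS : Q ≤ Sb := pCore_le_sylIn (sylIn_map_mk (sylIn_top S))
  -- isolated elements are those with central image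
  have hiso : ∀ x ∈ (S : Subgroup G), ((∀ g : G, g * x * g⁻¹ ∈ (S : Subgroup G) → g * x * g⁻¹ = x) ↔
      x ∈ Z ∧ π x ∈ Subgroup.center (G ⧸ R)) := by
    intro x hx
    constructor
    · intro h
      have hxZ : x ∈ Z := Subgroup.mem_inf.2 ⟨hx, Subgroup.mem_centralizer_iff.2 fun s hs => by
        have h1 := h s (mul_mem (mul_mem hs hx) (inv_mem hs))
        exact mul_inv_eq_iff_eq_mul.1 h1⟩
      refine ⟨hxZ, Subgroup.mem_center_iff.2 fun y => ?_⟩
      obtain ⟨g, rfl⟩ := QuotientGroup.mk'_surjective R y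
      have hxQ : π x ∈ Q := Subgroup.mem_comap.1 (hZ hxZ)
      obtain ⟨s, hs, hse⟩ := hQS ((inferInstance : Q.Normal).conj_mem _ hxQ (π g))
      set a := g * x * g⁻¹ with ha
      have hp' : IsPGroup p (Subgroup.zpowers a) := by
        obtain ⟨k, hk⟩ := IsPGroup.iff_orderOf.1 S.isPGroup' ⟨x, hx⟩
        rw [Subgroup.orderOf_mk] at hk
        exact IsPGroup.of_card (n := k) (by
          rw [Nat.card_zpowers, ha, ← hk]
          exact orderOf_injective (MulAut.conj g).toMonoidHom (MulAut.conj g).injective x)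
      have haS : a ∈ R ⊔ (S : Subgroup G) := by
        have h1 : π a = π s := by rw [hse, ha, map_mul, map_mul, map_inv]
        rw [show a = a * s⁻¹ * s by group]
        refine mul_mem (Subgroup.mem_sup_left ?_) (Subgroup.mem_sup_right hs)
        rw [← QuotientGroup.eq_one_iff]
        show π (a * s⁻¹) = 1
        rw [map_mul, map_inv, h1, mul_inv_cancel]
      obtain ⟨u, hu, huS⟩ := ((sylIn_top S).mono le_sup_right le_top).conj_le hp'
        (Subgroup.zpowers_le.2 haS : Subgroup.zpowers a ≤ R ⊔ (S : Subgroup G))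
      obtain ⟨r, hr, t, ht, rfl⟩ := Subgroup.mem_sup_of_normal_left.1 hu
      have h2 : (r * t) * a * (r * t)⁻¹ ∈ (S : Subgroup G) := huS (conj_mem_cj (Subgroup.mem_zpowers a))
      have h3 := h (r * t * g) (by simpa [ha, mul_assoc] using h2)
      have h4 := congrArg π h3
      simp only [map_mul, map_inv, mul_inv_rev, show π r = 1 from (QuotientGroup.eq_one_iff r).2 hr,
        one_mul, inv_one, mul_one] at h4
      have h5 : π x * π t = π t * π x := by
        rw [← map_mul, ← map_mul, Subgroup.mem_centralizer_iff.1 hxZ.2 t ht]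
      have h6 : π g * π x * (π g)⁻¹ = π x := by
        calc π g * π x * (π g)⁻¹ = (π t)⁻¹ * (π t * π g * π x * ((π g)⁻¹ * (π t)⁻¹)) * π t := by group
          _ = (π t)⁻¹ * π x * π t := by rw [h4]
          _ = π x := by rw [mul_assoc, h5]; group
      exact mul_inv_eq_iff_eq_mul.1 h6
    · rintro ⟨hxZ, hc⟩ g hg
      refine hinj hg hxZ.1 ?_
      rw [map_mul, map_mul, map_inv, Subgroup.mem_center_iff.1 hc (π g), mul_inv_cancel_right]
  set W := Z ⊓ (Subgroup.center (G ⧸ R)).comap π with hW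
  set V := Q ⊓ Subgroup.centralizer (Q : Set (G ⧸ R)) with hV
  haveI : (Subgroup.centralizer (Q : Set (G ⧸ R))).Normal := Subgroup.normal_centralizer
  haveI hVn : V.Normal := Subgroup.normal_inf_normal _ _
  letI : CommGroup V := { (inferInstance : Group V) with
    mul_comm := fun a b => Subtype.ext ((Subgroup.mem_centralizer_iff.1 a.2.2 b b.2.1).symm) }
  have hzV : ∀ z ∈ Z, π z ∈ V := fun z hz => ⟨Subgroup.mem_comap.1 (hZ hz),
    Subgroup.mem_centralizer_iff.2 fun q hq => by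
      obtain ⟨s, hs, rfl⟩ := hQS hq
      rw [← map_mul, ← map_mul, Subgroup.mem_centralizer_iff.1 hz.2 s hs]⟩
  let cV : (G ⧸ R) → V →* V := fun y => MonoidHom.mk'
    (fun v => ⟨y * v * y⁻¹, hVn.conj_mem _ v.2 y⟩) (fun v w => Subtype.ext (by simp [mul_assoc]))
  haveI : Fintype ((G ⧸ R) ⧸ Sb) := Fintype.ofFinite _
  let τ : V →* V := ∏ q : (G ⧸ R) ⧸ Sb, cV q.out
  have hτfix : ∀ z (hz : z ∈ Z) (y : G ⧸ R), cV y (τ ⟨π z, hzV z hz⟩) = τ ⟨π z, hzV z hz⟩ := by
    intro z hz y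
    simp only [τ, MonoidHom.finsetProd_apply, map_prod]
    refine Fintype.prod_bijective (fun q => y • q) (MulAction.bijective y) _ _ fun q => ?_
    have hm : (QuotientGroup.mk (y • q).out : (G ⧸ R) ⧸ Sb) = QuotientGroup.mk (y * q.out) := by
      rw [QuotientGroup.out_eq']
      conv_lhs => rw [← QuotientGroup.out_eq' q]
      rfl
    obtain ⟨s, hs, hse⟩ := QuotientGroup.eq.1 hm
    have h1 : π s * π z = π z * π s := by
      rw [← map_mul, ← map_mul, Subgroup.mem_centralizer_iff.1 hz.2 s hs]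
    refine Subtype.ext ?_
    show y * (q.out * π z * q.out⁻¹) * y⁻¹ = (y • q).out * π z * (y • q).out⁻¹
    have h2 : y * q.out = (y • q).out * π s := by rw [hse]; group
    calc y * (q.out * π z * q.out⁻¹) * y⁻¹ = y * q.out * π z * (y * q.out)⁻¹ := by group
      _ = (y • q).out * (π s * π z) * (π s)⁻¹ * (y • q).out⁻¹ := by rw [h2]; group
      _ = _ := by rw [h1]; group
  let ψ : Z →* V := τ.comp (MonoidHom.mk' (fun z => (⟨π z, hzV z z.2⟩ : V))
    (fun a b => Subtype.ext (by simp)))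
  have hmem : ∀ z : Z, ∃ s ∈ W, π s = (ψ z : G ⧸ R) := by
    intro z
    obtain ⟨s, hs, hse⟩ := hQS (ψ z).2.1
    have hc : π s ∈ Subgroup.center (G ⧸ R) := Subgroup.mem_center_iff.2 fun y => by
      rw [hse]
      exact mul_inv_eq_iff_eq_mul.1 (congrArg Subtype.val (hτfix z z.2 y))
    refine ⟨s, ⟨⟨hs, Subgroup.mem_centralizer_iff.2 fun t ht => ?_⟩, hc⟩, hse⟩
    refine hinj (mul_mem ht hs) (mul_mem hs ht) ?_
    rw [map_mul, map_mul]
    exact Subgroup.mem_center_iff.1 hc (π t)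
  have hψW : ∀ (w : Z), (w : G) ∈ W → (ψ w : G ⧸ R) = π w ^ Sb.index := by
    intro w hw
    have h1 : ∀ q : (G ⧸ R) ⧸ Sb, cV q.out ⟨π w, hzV w w.2⟩ = ⟨π w, hzV w w.2⟩ := fun q =>
      Subtype.ext (show q.out * π w * q.out⁻¹ = π w by
        rw [Subgroup.mem_center_iff.1 hw.2 q.out, mul_inv_cancel_right])
    show ((τ ⟨π w, hzV w w.2⟩ : V) : G ⧸ R) = _
    simp only [τ, MonoidHom.finsetProd_apply, h1, Finset.prod_const, Finset.card_univ]
    rw [← Nat.card_eq_fintype_card]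
    simp [Subgroup.index]
  have hidx : ∀ w : G, w ∈ W → (orderOf (π w)).Coprime Sb.index := by
    intro w hw
    obtain ⟨k, hk⟩ := IsPGroup.iff_orderOf.1 S.isPGroup' ⟨w, hw.1.1⟩
    rw [Subgroup.orderOf_mk] at hk
    have h3 : ¬ p ∣ Sb.index := by
      have := (sylIn_map_mk (N := R) (sylIn_top S)).not_dvd
      rwa [Subgroup.relIndex_top_right] at this
    exact ((((Fact.out : p.Prime).coprime_iff_not_dvd.2 h3).pow_left k)).coprime_dvd_left
      (hk ▸ orderOf_map_dvd π w)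
  refine ⟨W, ψ.ker.map Z.subtype, fun x => ?_, Subgroup.map_subtype_le _, ?_, ?_⟩
  · constructor
    · rintro ⟨hxZ, hc⟩
      exact ⟨hxZ.1, (hiso x hxZ.1).2 ⟨hxZ, hc⟩⟩
    · rintro ⟨hx, h⟩
      exact (hiso x hx).1 h
  · refine eq_bot_iff.2 ?_
    rintro x ⟨hxW, w, hw, rfl⟩
    have h1 := hψW w hxW
    rw [show ψ w = 1 from hw, OneMemClass.coe_one] at h1
    have h2 := (hidx _ hxW)
    have h3 : orderOf (π (w : G)) = 1 :=
      Nat.eq_one_of_dvd_coprimes h2 dvd_rfl (orderOf_dvd_of_pow_eq_one h1.symm)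
    have h4 := hinj w.2.1 (one_mem _) (by rw [map_one]; exact orderOf_eq_one_iff.1 h3)
    exact Subgroup.mem_bot.2 h4
  · refine le_antisymm (sup_le inf_le_left (Subgroup.map_subtype_le _)) fun z hz => ?_
    obtain ⟨s, hsW, hs⟩ := hmem ⟨z, hz⟩
    obtain ⟨m, hm⟩ : ∃ m : ℕ, (π s ^ Sb.index) ^ m = π s :=
      exists_pow_eq_self_of_coprime (hidx s hsW).symm
    have hsm : s ^ m ∈ W := pow_mem hsW m
    have hker : (⟨s ^ m, hsm.1⟩⁻¹ * ⟨z, hz⟩ : Z) ∈ ψ.ker := by
      rw [MonoidHom.mem_ker, map_mul, map_inv, inv_mul_eq_one]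
      refine Subtype.ext ?_
      rw [hψW _ hsm, ← hs, map_pow, ← pow_mul, mul_comm, pow_mul, hm]
    rw [show z = s ^ m * ((s ^ m)⁻¹ * z) by group]
    exact mul_mem (Subgroup.mem_sup_left hsm) (Subgroup.mem_sup_right ⟨_, hker, rfl⟩)

end Cfsg.Agent.S1944
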