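import Cfsg.Statements.S1945
import Cfsg.Agent.Lib.Fusion.IsolatedCenter

set_option autoImplicit false
open Cfsg
open Cfsg.Agent.Fusion
open scoped commutatorElement

namespace Cfsg.Agent.S1945

/-- Let S be a Sylow p-subgroup of the finite group G, and assume that p is odd or that G is solvable. The elements of S each of which is its only G-conjugate in S form a subgroup W of Z(S); W is then a direct factor of Z(S): there is a subgroup K of Z(S) with W ∩ K = 1 and WK = Z(S). (For p = 2 and G not solvable this can fail.) -/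
theorem result {G : Type*} [Group G] [Finite G] {p : ℕ} [Fact p.Prime] (S : Sylow p G) (h : p ≠ 2 ∨ Group.IsSolvable G) :
    ∃ W K : Subgroup G, (∀ x : G, x ∈ W ↔ (x ∈ (S : Subgroup G) ∧ ∀ g : G, g * x * g⁻¹ ∈ (S : Subgroup G) → g * x * g⁻¹ = x)) ∧
      K ≤ ((S : Subgroup G) ⊓ Subgroup.centralizer ((S : Subgroup G) : Set G)) ∧ W ⊓ K = ⊥ ∧ W ⊔ K = ((S : Subgroup G) ⊓ Subgroup.centralizer ((S : Subgroup G) : Set G)) := by
  have hS := sylIn_top S
  have hsat := Local.FS.group_saturated hS
  obtain ⟨K, hK, h1, h2⟩ : ∃ K : Subgroup G, K ≤ (S : Subgroup G) ⊓ Subgroup.centralizer ((S : Subgroup G) : Set G) ∧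
      (groupFusionSystem (S : Subgroup G)).center ⊓ K = ⊥ ∧
      (groupFusionSystem (S : Subgroup G)).center ⊔ K = (S : Subgroup G) ⊓ Subgroup.centralizer ((S : Subgroup G) : Set G) := by
    rcases h with hp | hsolv
    · exact exists_center_complement_odd hp hS.isPGroup hsat
    · obtain ⟨Q, hQ, hZ⟩ := exists_normal_of_solvable hS hsolv
      exact Local.FS.exists_center_complement hS.isPGroup hsat hQ hZ
  exact ⟨_, K, fun x => mem_center_group_iff hS, hK, h1, h2⟩

end Cfsg.Agent.S1945
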