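import Cfsg.Statements.S1946
import Cfsg.Agent.Lib.Fusion.OmegaSeries

set_option autoImplicit false
open Cfsg
open Cfsg.Agent.Fusion
open scoped commutatorElement

namespace Cfsg.Agent.S1946

/-- Let P be a Sylow p-subgroup of the finite group G. Then G has a normal p-complement if and only if P controls the fusion of its elements of order dividing p (dividing 4 when p = 2): whenever such an element a of P has a G-conjugate g a g⁻¹ in P, that conjugate is already x a x⁻¹ for some x in P. -/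
theorem result {G : Type*} [Group G] [Finite G] {p : ℕ} [Fact p.Prime] (P : Sylow p G) :
    Cfsg.HasNormalPComplement p G ↔
      ∀ a ∈ (P : Subgroup G), (a ^ p = 1 ∨ (p = 2 ∧ a ^ 4 = 1)) → ∀ g : G, g * a * g⁻¹ ∈ (P : Subgroup G) →
        ∃ x ∈ (P : Subgroup G), g * a * g⁻¹ = x * a * x⁻¹ := by
  constructor
  · intro h a ha _ g hg
    obtain ⟨N, hN, hc⟩ := hnpc_exists_complement h P
    haveI := hN
    obtain ⟨⟨n, x⟩, hnx, -⟩ := hc.existsUnique g
    refine ⟨x, x.2, ?_⟩
    set b := (x : G) * a * (x : G)⁻¹ with hb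
    have hbP : b ∈ (P : Subgroup G) := mul_mem (mul_mem x.2 ha) (inv_mem x.2)
    have e : g * a * g⁻¹ = (n : G) * b * (n : G)⁻¹ := by
      rw [hb, ← hnx]; simp [mul_assoc]
    have h1 : (n : G) * b * (n : G)⁻¹ * b⁻¹ ∈ N := by
      rw [show (n : G) * b * (n : G)⁻¹ * b⁻¹ = (n : G) * (b * (n : G)⁻¹ * b⁻¹) by group]
      exact mul_mem n.2 (hN.conj_mem _ (inv_mem n.2) b)
    have h2 : (n : G) * b * (n : G)⁻¹ * b⁻¹ ∈ (P : Subgroup G) := mul_mem (e ▸ hg) (inv_mem hbP)
    have h3 := Subgroup.disjoint_def.1 hc.disjoint h1 h2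
    rw [e]
    exact mul_inv_eq_one.1 h3
  · intro h
    haveI : Group.IsNilpotent (P : Subgroup G) := P.isPGroup'.isNilpotent
    set m := Group.nilpotencyClass (P : Subgroup G)
    refine hnpc_of_omega_series (sylIn_top P) (fun i => (P : Subgroup G).lowerCentralSeries (m - i)) m
      ?_ fun Q hQ g hg _ a ha ho => ⟨?_, fun i hi => ?_⟩
    · show (P : Subgroup G).lowerCentralSeries (m - 0) = ⊥
      rw [Nat.sub_zero, ← Subgroup.top_subtype_lowerCentralSeries,
        Subgroup.lowerCentralSeries_nilpotencyClass, Subgroup.map_bot]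
    · show a ∈ (P : Subgroup G).lowerCentralSeries (m - m)
      rw [Nat.sub_self]
      exact hQ ha
    · show a⁻¹ * (g * a * g⁻¹) ∈ (P : Subgroup G).lowerCentralSeries (m - i)
      change a ∈ (P : Subgroup G).lowerCentralSeries (m - (i + 1)) at hi
      have hgP : g * a * g⁻¹ ∈ (P : Subgroup G) := hQ ((Subgroup.mem_normalizer_iff.1 hg a).1 ha)
      obtain ⟨x, hx, e⟩ := h a (hQ ha) ho g hgP
      rw [e]
      by_cases hc : m - i = 0
      · rw [hc]
        exact mul_mem (inv_mem (hQ ha)) (e ▸ hgP)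
      · rw [show m - i = m - (i + 1) + 1 by omega, Subgroup.lowerCentralSeries_succ]
        have h4 := Subgroup.commutator_mem_commutator (inv_mem hi) hx
        rwa [show ⁅a⁻¹, x⁆ = a⁻¹ * (x * a * x⁻¹) by simp [commutatorElement_def, mul_assoc]] at h4

end Cfsg.Agent.S1946
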