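import Cfsg.Statements.S1948
import Cfsg.Agent.Lib.Fusion.PConstrained

set_option autoImplicit false
open Cfsg
open Cfsg.Agent.Fusion
open scoped commutatorElement

namespace Cfsg.Agent.S1948

/-- Let S be a Sylow p-subgroup of the finite group G. Then G = N_G(S)·O_{p'}(G) if and only if G is p-constrained and N_G(S) controls fusion in S, in the sense that whenever a subgroup Q of S has a conjugate g Q g⁻¹ inside S, the element g is a product n c with n normalizing S and c centralizing Q. -/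
theorem result {G : Type*} [Group G] [Finite G] {p : ℕ} [Fact p.Prime] (S : Sylow p G) :
    Subgroup.normalizer ((S : Subgroup G) : Set G) ⊔ Cfsg.pPrimeCore p G = ⊤ ↔
      (Cfsg.IsPConstrained p G ∧
        ∀ Q : Subgroup G, Q ≤ (S : Subgroup G) → ∀ g : G, Q.map (MulAut.conj g).toMonoidHom ≤ (S : Subgroup G) →
          ∃ n ∈ Subgroup.normalizer ((S : Subgroup G) : Set G), ∃ c ∈ Subgroup.centralizer (Q : Set G), g = n * c) := by
  obtain ⟨K, hKdef⟩ : ∃ K, K = Cfsg.pPrimeCore p G := ⟨_, rfl⟩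
  haveI : K.Normal := hKdef ▸ inferInstance
  have hKS : K ⊓ (S : Subgroup G) = ⊥ :=
    coprime_inf_pGroup (hKdef ▸ card_pPrimeCore_coprime p G) S.isPGroup'
  constructor
  · intro h
    rw [← hKdef] at h
    have hgen : ∀ g : G, ∃ n ∈ Subgroup.normalizer ((S : Subgroup G) : Set G), ∃ k ∈ K, g = n * k := by
      intro g
      obtain ⟨n, hn, k, hk, rfl⟩ := Subgroup.mem_sup_of_normal_right.1 (h ▸ Subgroup.mem_top g :
        g ∈ Subgroup.normalizer ((S : Subgroup G) : Set G) ⊔ K)
      exact ⟨n, hn, k, hk, rfl⟩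
    refine ⟨?_, fun Q hQ g hg => ?_⟩
    · rw [isPConstrained_iff]
      haveI : ((S : Subgroup G).map (QuotientGroup.mk' (Cfsg.pPrimeCore p G))).Normal := ⟨fun x hx q => by
        obtain ⟨g, rfl⟩ := QuotientGroup.mk'_surjective _ q
        obtain ⟨s, hs, rfl⟩ := hx
        obtain ⟨n, hn, k, hk, rfl⟩ := hgen g
        have hk1 : QuotientGroup.mk' (Cfsg.pPrimeCore p G) k = 1 := (QuotientGroup.eq_one_iff k).2 (hKdef ▸ hk)
        rw [map_mul, hk1, mul_one, ← map_inv, ← map_mul, ← map_mul]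
        exact Subgroup.mem_map_of_mem _ ((Subgroup.mem_normalizer_iff.1 hn s).1 hs)⟩
      exact centralizer_pCore_le_of_normal_sylow pPrimeCore_quotient_eq_bot (sylIn_map_mk (sylIn_top S))
    · obtain ⟨n, hn, k, hk, rfl⟩ := hgen g
      refine ⟨n, hn, k, Subgroup.mem_centralizer_iff.2 fun q hq => ?_, rfl⟩
      have hkq : k * q * k⁻¹ ∈ (S : Subgroup G) := by
        have h1 := hg (Subgroup.mem_map_of_mem (MulAut.conj (n * k)).toMonoidHom hq)
        refine (Subgroup.mem_normalizer_iff.1 hn _).2 ?_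
        simpa [mul_assoc] using h1
      have h2 : k * q * k⁻¹ * q⁻¹ = 1 := by
        rw [← Subgroup.mem_bot, ← hKS, Subgroup.mem_inf]
        refine ⟨?_, mul_mem hkq (inv_mem (hQ hq))⟩
        rw [mul_assoc k, mul_assoc k]
        exact mul_mem hk (Subgroup.Normal.conj_mem inferInstance _ (inv_mem hk) q)
      exact (mul_inv_eq_iff_eq_mul.1 (mul_inv_eq_one.1 h2)).symm
  · rintro ⟨hc, hf⟩
    rw [eq_top_iff]
    intro g _
    haveI := pPrimePCore_normal (G := G) (p := p)
    have hQ : SylIn p ((S : Subgroup G) ⊓ Cfsg.pPrimePCore p G) (Cfsg.pPrimePCore p G) :=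
      (sylIn_top S).inf_normal le_top (by rw [Subgroup.normalizer_eq_top])
    have hM : Cfsg.pPrimePCore p G ≤ Subgroup.normalizer ((S : Subgroup G) : Set G) ⊔ Cfsg.pPrimeCore p G := by
      rw [← sup_pPrimeCore_of_sylIn hQ]
      exact sup_le_sup_right (inf_le_left.trans Subgroup.le_normalizer) _
    obtain ⟨m, hm, hmg⟩ := frattini_conj hQ (H := ⊤) (by rw [Subgroup.normalizer_eq_top]) (Subgroup.mem_top g)
    obtain ⟨n, hn, c, hcQ, he⟩ := hf _ inf_le_left (m * g) (by
      show cj _ (m * g) ≤ _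
      rw [cj_eq_self hmg]; exact inf_le_left)
    obtain ⟨P, hP⟩ := hQ.exists_sylow_subgroupOf
    have hcM : c ∈ Cfsg.pPrimePCore p G := by
      refine hc P ?_
      rwa [hP, Subgroup.map_subgroupOf_eq_of_le hQ.le]
    rw [show g = m⁻¹ * (n * c) by rw [← he]; group]
    exact mul_mem (inv_mem (hM hm)) (mul_mem (Subgroup.mem_sup_left hn) (hM hcM))

end Cfsg.Agent.S1948
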