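import Cfsg.Statements.S1949
import Cfsg.Agent.Lib.Fusion.OmegaSeries

set_option autoImplicit false
open Cfsg
open Cfsg.Agent.Fusion
open scoped commutatorElement

namespace Cfsg.Agent.S1949

/-- Let P be a finite p-group and G a group of automorphisms of P containing the inner automorphisms. Then there is a G-invariant subgroup D of P, contained in the subgroup generated by the elements x⁻¹α(x) with x in P and α in O^p(G), of exponent dividing p when p is odd and dividing 4 when p = 2, with [D, P] ≤ Z(D), such that every automorphism in G of order prime to p that fixes D elementwise is the identity; moreover every maximal abelian subgroup A of D is normal in P and every automorphism in G fixing A elementwise has p-power order. -/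
theorem result {P : Type*} [Group P] [Finite P] {p : ℕ} [Fact p.Prime] (hP : IsPGroup p P)
    (G : Subgroup (MulAut P)) (hG : Cfsg.Inn P ≤ G) :
    ∃ D : Subgroup P,
      (∀ α ∈ G, D.map α.toMonoidHom = D) ∧
      D ≤ Subgroup.closure {y : P | ∃ α ∈ Cfsg.pResidual p ↥G, ∃ x : P, y = x⁻¹ * (α : MulAut P) x} ∧
      (∀ d ∈ D, d ^ p = 1 ∨ (p = 2 ∧ d ^ 4 = 1)) ∧
      ⁅D, (⊤ : Subgroup P)⁆ ≤ D ⊓ Subgroup.centralizer (D : Set P) ∧
      (∀ α ∈ G, (orderOf α).Coprime p → (∀ d ∈ D, α d = d) → α = 1) ∧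
      ∀ A : Subgroup P, A ≤ D → IsMulCommutative ↥A →
        (∀ B : Subgroup P, A ≤ B → B ≤ D → IsMulCommutative ↥B → B = A) →
        A.Normal ∧ ∀ α ∈ G, (∀ a ∈ A, α a = a) → ∃ k : ℕ, orderOf α = p ^ k := by
  obtain ⟨H, hHc, hHp, hHcomm, hHC⟩ := exists_critical hP
  haveI := hHc
  have hz : ∀ x y g : H, ⁅y, x⁆ * g = g * ⁅y, x⁆ := by
    intro x y g
    have h1 := hHcomm (Subgroup.commutator_mem_commutator y.2 (Subgroup.mem_top (x : P)))
    exact Subtype.ext (Subgroup.mem_centralizer_iff.1 h1.2 _ g.2).symm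
  have hpz : ∀ y g : H, y ^ p * g = g * y ^ p := fun y g =>
    Subtype.ext (Subgroup.mem_centralizer_iff.1 (hHp y y.2).2 _ g.2).symm
  have hHinv : ∀ α : MulAut P, ∀ x ∈ H, α x ∈ H := fun α x hx =>
    (Subgroup.characteristic_iff_map_eq.1 hHc α).le ⟨x, hx, rfl⟩
  let D₀ : Subgroup P :=
    { carrier := {x | x ∈ H ∧ Agent.Local.FS.IsOmega p x}
      one_mem' := ⟨one_mem H, Or.inl (one_pow _)⟩
      mul_mem' := fun {x y} hx hy => ⟨mul_mem hx.1 hy.1, by
        have h1 : Agent.Local.FS.IsOmega p (⟨x, hx.1⟩ : H) :=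
          hx.2.imp (fun h => Subtype.ext h) fun h => ⟨h.1, Subtype.ext h.2⟩
        have h2 : Agent.Local.FS.IsOmega p (⟨y, hy.1⟩ : H) :=
          hy.2.imp (fun h => Subtype.ext h) fun h => ⟨h.1, Subtype.ext h.2⟩
        exact (Agent.Local.FS.omega_mul hz hpz h1 h2).imp (fun h => congrArg Subtype.val h)
          fun h => ⟨h.1, congrArg Subtype.val h.2⟩⟩
      inv_mem' := fun hx => ⟨inv_mem hx.1, hx.2.imp (fun h => by rw [inv_pow, h, inv_one])
        fun h => ⟨h.1, by rw [inv_pow, h.2, inv_one]⟩⟩ }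
  have h0inv : ∀ α : MulAut P, ∀ x ∈ D₀, α x ∈ D₀ := fun α x hx => ⟨hHinv α x hx.1,
    hx.2.imp (fun h => by rw [← map_pow, h, map_one]) fun h => ⟨h.1, by rw [← map_pow, h.2, map_one]⟩⟩
  set D := Subgroup.closure {y : P | ∃ α ∈ pResidual p ↥G, ∃ x ∈ D₀, y = x⁻¹ * (α : MulAut P) x}
    with hD
  have hD0 : D ≤ D₀ := (Subgroup.closure_le _).2 (by
    rintro _ ⟨γ, -, x, hx, rfl⟩
    exact mul_mem (inv_mem hx) (h0inv _ x hx))
  have hinv : ∀ α ∈ G, ∀ x ∈ D, α x ∈ D := by
    intro α hα x hx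
    have hn : (pResidual p ↥G).Normal := inferInstance
    have hle : D ≤ D.comap α.toMonoidHom := by
      refine (Subgroup.closure_le _).2 ?_
      rintro _ ⟨γ, hγ, z, hz0, rfl⟩
      let a : ↥G := ⟨α, hα⟩
      refine Subgroup.subset_closure ⟨a * γ * a⁻¹, hn.conj_mem γ hγ a, α z, h0inv α z hz0, ?_⟩
      simp only [MulEquiv.coe_toMonoidHom, map_mul, map_inv, Subgroup.coe_mul, Subgroup.coe_inv,
        MulAut.mul_apply]
      congr 2
      rw [MulAut.inv_apply, MulEquiv.symm_apply_apply]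
    exact hle hx
  haveI hDn : D.Normal := ⟨fun d hd g => hinv _ (hG ⟨g, rfl⟩) d hd⟩
  have hcomm : ⁅D, (⊤ : Subgroup P)⁆ ≤ D ⊓ Subgroup.centralizer (D : Set P) :=
    le_inf (Subgroup.commutator_le_left _ _)
      ((Subgroup.commutator_mono (hD0.trans fun x hx => hx.1) le_rfl).trans
        (hHcomm.trans (inf_le_right.trans (Subgroup.centralizer_le fun x hx => (hD0 hx).1))))
  have hdet : ∀ α ∈ G, (orderOf α).Coprime p → (∀ d ∈ D, α d = d) → α = 1 := by
    intro α hα hco hfix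
    obtain ⟨γ, hγ, hγo⟩ := Agent.Local.FS.exists_restrict α (hHinv α)
    have hγ1 : ∀ x : H, γ x = x := Agent.Local.FS.aut_fix_of_omega hz hpz (hP.to_subgroup H) γ
      (hco.coprime_dvd_left hγo) fun x hx => Subtype.ext (by
        rw [hγ]
        refine aut_fix_step hP α hco _ (hfix _ (Subgroup.subset_closure
          ⟨⟨α, hα⟩, Subgroup.subset_closure (show (orderOf (⟨α, hα⟩ : G)).Coprime p by
            rwa [← Subgroup.orderOf_coe]), x, ⟨x.2, ?_⟩, rfl⟩))
        exact hx.imp (fun h => congrArg Subtype.val h) fun h => ⟨h.1, congrArg Subtype.val h.2⟩)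
    exact aut_eq_one_of_fix hP hHC α hco fun x hx => by rw [← hγ ⟨x, hx⟩, hγ1]
  refine ⟨D, fun α hα => ?_, Subgroup.closure_mono ?_, fun d hd => (hD0 hd).2, hcomm, hdet,
    fun A hAD hA hmax => ?_⟩
  · have hle : D.map α.toMonoidHom ≤ D := by
      rintro _ ⟨x, hx, rfl⟩; exact hinv α hα x hx
    exact Subgroup.eq_of_le_of_card_ge hle (Subgroup.card_map_of_injective α.injective).ge
  · rintro _ ⟨γ, hγ, x, -, rfl⟩
    exact ⟨γ, hγ, x, rfl⟩
  have hAA : A ≤ Subgroup.centralizer (A : Set P) := Subgroup.le_centralizer_iff_isMulCommutative.2 hA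
  have habs : ∀ Z : Subgroup P, Z ≤ D → Z ≤ Subgroup.centralizer (A : Set P) →
      Z ≤ Subgroup.centralizer (Z : Set P) → Z ≤ A := by
    intro Z hZD hZA hZZ
    have h1 : A ⊔ Z ≤ Subgroup.centralizer (A ⊔ Z : Subgroup P) :=
      sup_le (Subgroup.le_centralizer_iff.1 (sup_le hAA hZA))
        (Subgroup.le_centralizer_iff.1 (sup_le (Subgroup.le_centralizer_iff.1 hZA) hZZ))
    have h2 := hmax (A ⊔ Z) le_sup_left (sup_le hAD hZD)
      (Subgroup.le_centralizer_iff_isMulCommutative.1 h1)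
    exact le_sup_right.trans h2.le
  have hZA : D ⊓ Subgroup.centralizer (D : Set P) ≤ A := habs _ inf_le_left
    (inf_le_right.trans (Subgroup.centralizer_le hAD))
    (inf_le_right.trans (Subgroup.centralizer_le inf_le_left))
  have hcA : ∀ a ∈ A, ∀ g : P, ⁅a, g⁆ ∈ A := fun a ha g =>
    hZA (hcomm (Subgroup.commutator_mem_commutator (hAD ha) (Subgroup.mem_top g)))
  refine ⟨⟨fun a ha g => ?_⟩, fun α hα hfix => ?_⟩
  · have h1 := mul_mem (inv_mem (hcA a ha g)) ha
    rwa [show ⁅a, g⁆⁻¹ * a = g * a * g⁻¹ by simp [commutatorElement_def, mul_assoc]] at h1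
  obtain ⟨k, m, hm, hkm⟩ := Nat.exists_eq_pow_mul_and_not_dvd (orderOf_pos α).ne' p
    (Fact.out : p.Prime).ne_one
  set β := α ^ p ^ k with hβ
  have hβA : ∀ a ∈ A, β a = a := by
    intro a ha
    have : ∀ j : ℕ, (α ^ j) a = a := fun j => by
      induction j with
      | zero => rfl
      | succ j ih => rw [pow_succ', MulAut.mul_apply, ih, hfix a ha]
    exact this _
  have hβo : (orderOf β).Coprime p := by
    refine Nat.Coprime.coprime_dvd_left (orderOf_dvd_of_pow_eq_one (n := m) ?_)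
      ((Fact.out : p.Prime).coprime_iff_not_dvd.2 hm).symm
    rw [hβ, ← pow_mul, ← hkm, pow_orderOf_eq_one]
  have hβ1 : β = 1 := hdet β (pow_mem hα _) hβo fun d hd => by
    refine aut_fix_step hP β hβo d (hβA _ ?_)
    have hqD : d⁻¹ * β d ∈ D := mul_mem (inv_mem hd) (hinv β (pow_mem hα _) d hd)
    refine habs (Subgroup.zpowers _) (Subgroup.zpowers_le.2 hqD) (Subgroup.zpowers_le.2 ?_)
      (Subgroup.le_centralizer_iff_isMulCommutative.2 inferInstance) (Subgroup.mem_zpowers _)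
    refine Subgroup.mem_centralizer_iff.2 fun a ha => ?_
    have h1 : d * a * d⁻¹ ∈ A := by
      have := mul_mem (inv_mem (hcA a ha d)) ha
      rwa [show ⁅a, d⁆⁻¹ * a = d * a * d⁻¹ by simp [commutatorElement_def, mul_assoc]] at this
    have h2 := hβA _ h1
    rw [map_mul, map_mul, map_inv, hβA a ha] at h2
    calc a * (d⁻¹ * β d) = d⁻¹ * (d * a * d⁻¹) * β d := by group
      _ = d⁻¹ * (β d * a * (β d)⁻¹) * β d := by rw [h2]
      _ = d⁻¹ * β d * a := by group
  obtain ⟨j, -, hj⟩ := (Nat.dvd_prime_pow (Fact.out : p.Prime)).1 (orderOf_dvd_of_pow_eq_one hβ1)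
  exact ⟨j, hj⟩

end Cfsg.Agent.S1949
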