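import Cfsg.Statements.S1950
import Cfsg.Agent.Lib.Char.CyclicPairsMain
import Cfsg.Agent.Lib.Char.PSolvHeight
import Cfsg.Agent.Lib.Solv.PSolvExtension
import Cfsg.Agent.Lib.Fusion.DihedralFours

set_option autoImplicit false
open Cfsg

namespace Cfsg.Agent.S1950

open Cfsg.Agent.Char

universe u

theorem pair_map {G H : Type*} [Group G] [Group H] [Finite G] {p : ℕ} [Fact p.Prime] (f : G →* H)
    {x y : G} {x' y' : H} (hx : f x = x') (hy : f y = y')
    (h : IsPSolvable p ↥(Subgroup.closure ({x, y} : Set G))) :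
    IsPSolvable p ↥(Subgroup.closure ({x', y'} : Set H)) := by
  rw [← hx, ← hy, show ({f x, f y} : Set H) = f '' {x, y} by rw [Set.image_pair], ← MonoidHom.map_closure]
  exact Solv.isPSolvable_map Fact.out h (f.subgroupMap _) (f.subgroupMap_surjective _)

theorem pair_comap {G H : Type*} [Group G] [Group H] [Finite G] {p : ℕ} [Fact p.Prime] (f : G →* H)
    (hf : Function.Injective f) [Finite H] {x y : G}
    (h : IsPSolvable p ↥(Subgroup.closure ({f x, f y} : Set H))) :
    IsPSolvable p ↥(Subgroup.closure ({x, y} : Set G)) := by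
  rw [show ({f x, f y} : Set H) = f '' {x, y} by rw [Set.image_pair], ← MonoidHom.map_closure] at h
  exact Local.FS.isPSolvable_of_equiv (Subgroup.equivMapOfInjective _ f hf).symm h

theorem main (p : ℕ) [Fact p.Prime] : ∀ (n : ℕ) {G : Type u} [Group G] [Finite G], Nat.card G = n →
    (∀ P : Sylow p G, IsCyclic (P : Subgroup G)) →
    (∀ x y : G, orderOf x = p → orderOf y = p → IsPSolvable p ↥(Subgroup.closure ({x, y} : Set G))) →
    IsPSolvable p G := by
  intro n
  induction n using Nat.strong_induction_on with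
  | _ n ih =>
  intro G _ _ hn hcyc hc
  have hp : p.Prime := Fact.out
  classical
  haveI : Fintype G := Fintype.ofFinite G
  by_cases hpG : p ∣ Nat.card G
  swap
  · exact Solv.isPSolvable_top_step (Or.inr (Nat.coprime_comm.1 (hp.coprime_iff_not_dvd.2 hpG)))
  by_cases hN0 : pPrimeCore p G ≠ ⊥
  · set N := pPrimeCore p G with hN
    have hNc : (Nat.card N).Coprime p := Fusion.card_pPrimeCore_coprime p G
    refine Solv.AutomizerPrimes.isPSolvable_of_coprime_quotient N hNc ?_
    have hlt : Nat.card (G ⧸ N) < n := by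
      have hN1 : 1 < Nat.card N := (Subgroup.one_lt_card_iff_ne_bot N).2 hN0
      rw [← hn, Subgroup.card_eq_card_quotient_mul_card_subgroup N]
      exact lt_mul_right Nat.card_pos hN1
    refine ih _ hlt rfl (fun S => ?_) fun x y hx hy => ?_
    · obtain ⟨T, rfl⟩ := Sylow.mapSurjective_surjective (QuotientGroup.mk'_surjective N) p S
      haveI := hcyc T
      exact isCyclic_of_surjective _ ((QuotientGroup.mk' N).subgroupMap_surjective (T : Subgroup G))
    · have hlift : ∀ x : G ⧸ N, orderOf x = p → ∃ z : G, orderOf z = p ∧ QuotientGroup.mk' N z = x := by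
        intro x hx
        obtain ⟨g, rfl⟩ := QuotientGroup.mk'_surjective N x
        obtain ⟨z, w, hw, hcm, ⟨k, hk⟩, hreg⟩ := exists_isPPart hp g
        have hgp : (QuotientGroup.mk' N g) ^ p = 1 := by
          have h := pow_orderOf_eq_one (QuotientGroup.mk' N g)
          rwa [hx] at h
        have hw1 : QuotientGroup.mk' N w = 1 := by
          have h1 : orderOf (QuotientGroup.mk' N w) ∣ p := by
            refine orderOf_dvd_of_pow_eq_one ?_
            have h := congrArg (QuotientGroup.mk' N) (hcm.mul_pow p)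
            rw [hw, map_pow, map_mul, hgp] at h
            have hz : orderOf (QuotientGroup.mk' N (z ^ p)) ∣ p ^ k :=
              hk ▸ (orderOf_map_dvd _ _).trans (orderOf_pow_dvd p)
            have e : QuotientGroup.mk' N (w ^ p) = (QuotientGroup.mk' N (z ^ p))⁻¹ :=
              eq_inv_of_mul_eq_one_right h.symm
            rw [← map_pow, ← orderOf_eq_one_iff]
            refine Nat.eq_one_of_dvd_coprimes (Nat.Coprime.pow_left k (hp.coprime_iff_not_dvd.2 hreg)) ?_ ?_
            · rw [e, orderOf_inv]; exact hz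
            · exact (orderOf_map_dvd _ _).trans (orderOf_pow_dvd p)
          rw [← orderOf_eq_one_iff]
          exact Nat.eq_one_of_dvd_coprimes (hp.coprime_iff_not_dvd.2 hreg) h1 (orderOf_map_dvd _ _)
        have hzx : QuotientGroup.mk' N z = QuotientGroup.mk' N g := by rw [← hw, map_mul, hw1, mul_one]
        refine ⟨z, ?_, hzx⟩
        have hzp : z ^ p ∈ N := by
          rw [← QuotientGroup.eq_one_iff, ← QuotientGroup.mk'_apply, map_pow, hzx, hgp]
        refine orderOf_eq_prime ?_ fun h => hp.ne_one ?_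
        · rw [← orderOf_eq_one_iff]
          refine Nat.eq_one_of_dvd_coprimes (Nat.Coprime.pow_left k ?_) (hk ▸ orderOf_pow_dvd p)
            ((Subgroup.orderOf_mk _ hzp).symm ▸ orderOf_dvd_natCard (⟨_, hzp⟩ : N))
          exact Nat.coprime_comm.1 hNc
        · rw [← hx, ← hzx, h, map_one, orderOf_one]
      obtain ⟨a, ha, rfl⟩ := hlift x hx
      obtain ⟨b, hb, rfl⟩ := hlift y hy
      exact pair_map (QuotientGroup.mk' N) rfl rfl (hc a b ha hb)
  rw [not_not] at hN0
  obtain ⟨P⟩ : Nonempty (Sylow p G) := inferInstance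
  haveI := hcyc P
  set q := Nat.card (P : Subgroup G) with hq'
  haveI : NeZero q := ⟨Nat.card_pos.ne'⟩
  obtain ⟨φ⟩ := CyclicPairs.exists_param P
  obtain ⟨a, hq⟩ := IsPGroup.iff_card.1 P.2
  have hpq : p ∣ q := P.dvd_card_of_dvd_card hpG
  have ha : 1 ≤ a := by
    rcases Nat.eq_zero_or_pos a with h | h
    · rw [hq', hq, h, pow_zero] at hpq; exact absurd (Nat.dvd_one.1 hpq) hp.ne_one
    · exact h
  by_cases hsimp : ∀ N : Subgroup G, N.Normal → N = ⊥ ∨ N = ⊤
  swap
  · simp only [not_forall, not_or] at hsimp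
    obtain ⟨N, hNn, hNb, hNt⟩ := hsimp
    haveI := hNn
    have hlt : Nat.card N < n := hn ▸ lt_of_le_of_ne (Subgroup.card_le_card_group N)
      (fun h => hNt (Subgroup.eq_top_of_card_eq N h))
    have hNs : IsPSolvable p N := by
      refine ih _ hlt rfl (fun S => ?_) fun x y hx hy =>
        pair_comap N.subtype N.subtype_injective (hc x y (by rw [Subgroup.orderOf_coe, hx]) (by rw [Subgroup.orderOf_coe, hy]))
      obtain ⟨T, hT⟩ := (S.2.map N.subtype).exists_le_sylow
      haveI := hcyc T
      haveI : IsCyclic ((S : Subgroup N).map N.subtype) :=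
        isCyclic_of_injective (Subgroup.inclusion hT) (Subgroup.inclusion_injective hT)
      exact isCyclic_of_injective ((S : Subgroup N).equivMapOfInjective N.subtype N.subtype_injective).toMonoidHom
        (MulEquiv.injective _)
    haveI : Nontrivial N := (Subgroup.nontrivial_iff_ne_bot N).2 hNb
    obtain ⟨T, hTn, hTb, hT⟩ := Solv.exists_normal_pgroup_or_coprime hNs
    have hpc : pCore p N ≠ ⊥ := by
      rcases hT with hT | hT
      · exact fun h => hTb (le_bot_iff.1 (h ▸ le_sSup ⟨hTn, hT⟩))
      · exfalso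
        haveI : ((pPrimeCore p N).map N.subtype).Normal := inferInstance
        have hle : (pPrimeCore p N).map N.subtype ≤ pPrimeCore p G := Fusion.le_pPrimeCore (by
          rw [Subgroup.card_map_of_injective N.subtype_injective]
          exact Fusion.card_pPrimeCore_coprime p N)
        rw [hN0, le_bot_iff, Subgroup.map_eq_bot_iff_of_injective _ N.subtype_injective] at hle
        exact hTb (le_bot_iff.1 (hle ▸ le_sSup ⟨hTn, hT⟩))
    set R := (pCore p N).map N.subtype with hR
    haveI : (pCore p N).Characteristic := inferInstance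
    haveI hRn : R.Normal := inferInstance
    have hRp : IsPGroup p R := (Fusion.isPGroup_pCore p N).map N.subtype
    have hRP : R ≤ (P : Subgroup G) := by
      have h := hRp.to_sup_of_normal_left P.2
      rw [← P.is_maximal' h le_sup_right]
      exact le_sup_left
    have hRb : R ≠ ⊥ := fun h => hpc ((Subgroup.map_eq_bot_iff_of_injective _ N.subtype_injective).1 h)
    have hR1 : p ∣ Nat.card R := by
      obtain ⟨k, hk⟩ := IsPGroup.iff_card.1 hRp
      have := (Subgroup.one_lt_card_iff_ne_bot R).2 hRb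
      cases k with
      | zero => rw [hk, pow_zero] at this; omega
      | succ k => rw [hk]; exact dvd_pow_self p (Nat.succ_ne_zero k)
    obtain ⟨z, hz⟩ := exists_prime_orderOf_dvd_card' p hR1
    have hz' : orderOf (z : G) = p := by rw [Subgroup.orderOf_coe, hz]
    haveI : IsCyclic R := isCyclic_of_injective (Subgroup.inclusion hRP) (Subgroup.inclusion_injective hRP)
    have hall : ∀ w : R, w ^ p = 1 → w ∈ Subgroup.zpowers z := by
      intro w hw
      have hle : (Finset.univ.filter fun w : R => w ^ p = 1).card ≤ p := IsCyclic.card_pow_eq_one_le hp.pos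
      have hsub : (Finset.univ.filter fun w : R => w ∈ Subgroup.zpowers z) ⊆
          Finset.univ.filter fun w : R => w ^ p = 1 := by
        intro v hv
        obtain ⟨i, rfl⟩ := (Finset.mem_filter.1 hv).2
        refine Finset.mem_filter.2 ⟨Finset.mem_univ _, ?_⟩
        show (z ^ i) ^ p = 1
        rw [← zpow_natCast, ← zpow_mul, mul_comm, zpow_mul, zpow_natCast, ← hz, pow_orderOf_eq_one, one_zpow]
      have hcard : (Finset.univ.filter fun w : R => w ∈ Subgroup.zpowers z).card = p := by
        rw [← Fintype.card_subtype, ← Nat.card_eq_fintype_card]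
        exact (Nat.card_zpowers z).trans hz
      have he := Finset.eq_of_subset_of_card_le hsub (by omega)
      have hw' : w ∈ Finset.univ.filter fun w : R => w ^ p = 1 :=
        Finset.mem_filter.2 ⟨Finset.mem_univ _, hw⟩
      rw [← he] at hw'
      exact (Finset.mem_filter.1 hw').2
    obtain ⟨i, hi⟩ := φ.surj (z : G) (hRP z.2)
    have hi0 : i ≠ 0 := fun h => by
      rw [h, CyclicPairs.map_zero] at hi
      rw [← hi, orderOf_one] at hz'
      exact hp.ne_one hz'.symm
    set C := Subgroup.centralizer ({φ.toFun i} : Set G) with hC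
    haveI hCn : C.Normal := by
      refine ⟨fun c hc' g => Subgroup.mem_centralizer_singleton_iff.2 ?_⟩
      have hcz := Subgroup.mem_centralizer_singleton_iff.1 hc'
      obtain ⟨j, hj⟩ := hall ⟨g⁻¹ * z * g, by
        simpa using hRn.conj_mem _ z.2 g⁻¹⟩ (Subtype.ext (by
          show (g⁻¹ * (z : G) * g) ^ p = 1
          rw [show g⁻¹ * (z : G) * g = g⁻¹ * z * g⁻¹⁻¹ by group, conj_pow, ← hz', pow_orderOf_eq_one]
          group))
      have hj' : (z : G) ^ j = g⁻¹ * z * g := congrArg Subtype.val hj
      rw [← hi] at hj'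
      have hcm : c * φ.toFun i ^ j = φ.toFun i ^ j * c := (Commute.zpow_right (show Commute c (φ.toFun i) from hcz) j).eq
      rw [hj'] at hcm
      calc g * c * g⁻¹ * φ.toFun i = g * (c * (g⁻¹ * φ.toFun i * g)) * g⁻¹ := by group
        _ = g * (g⁻¹ * φ.toFun i * g * c) * g⁻¹ := by rw [hcm]
        _ = φ.toFun i * (g * c * g⁻¹) := by group
    have hCs : IsPSolvable p C := by
      obtain ⟨K, hKn, hK, ⟨k, hk⟩, -⟩ := CyclicPairs.exists_complement φ hq hi0
      haveI := hKn
      exact Solv.AutomizerPrimes.isPSolvable_of_coprime_quotient K (Nat.coprime_comm.1 (hp.coprime_iff_not_dvd.2 hK))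
        (Solv.isPSolvable_top_step (Or.inl (IsPGroup.of_card (n := k) (by rw [← Subgroup.index_eq_card, hk]))))
    refine Solv.isPSolvable_of_extension C hCs (Solv.isPSolvable_top_step (Or.inr ?_))
    rw [← Subgroup.index_eq_card]
    have hPC : (P : Subgroup G) ≤ C := fun y hy => by
      obtain ⟨j, rfl⟩ := φ.surj y hy
      refine Subgroup.mem_centralizer_singleton_iff.2 ?_
      rw [← φ.map_add, ← φ.map_add, add_comm]
    exact Nat.coprime_comm.1 (hp.coprime_iff_not_dvd.2 fun h =>
      P.not_dvd_index (h.trans (Subgroup.index_dvd_of_le hPC)))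
  haveI : Nontrivial G := Finite.one_lt_card_iff_nontrivial.1 (hp.one_lt.trans_le (Nat.le_of_dvd Nat.card_pos hpG))
  haveI : IsSimpleGroup G := ⟨hsimp⟩
  by_cases hnp : HasNormalPComplement p G
  · obtain ⟨K, hKn, hK, ⟨k, hk⟩, -⟩ := exists_complement_index hnp
    haveI := hKn
    exact Solv.AutomizerPrimes.isPSolvable_of_coprime_quotient K (Nat.coprime_comm.1 (hp.coprime_iff_not_dvd.2 hK))
      (Solv.isPSolvable_top_step (Or.inl (IsPGroup.of_card (n := k) (by rw [← Subgroup.index_eq_card, hk]))))
  exfalso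
  have hp2 : p ≠ 2 := by
    rintro rfl
    exact hnp (Fusion.DihedralFours.hnpc_two_cyclic P (hcyc P))
  by_cases hq3 : q = 3
  · have hp3 : p = 3 := (Nat.prime_dvd_prime_iff_eq hp Nat.prime_three).1 (hq3 ▸ hpq)
    have hnc : ¬ IsMulCommutative G := fun h => hnp (Fusion.hnpc_of_normalizer_le_centralizer P
      fun x _ => Subgroup.mem_centralizer_iff.2 fun y _ => h.is_comm.comm y x)
    have hS : (CyclicPairs.mult φ).card ≥ 2 := CyclicPairs.two_le_card_mult φ hnp
    refine hp2 (Cfsg.Agent.S1951.result hnc P (fun h => ?_) ⟨?_, fun x hx => ?_⟩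
      (fun x hx y hy hx1 hy1 => ?_) (fun x hx y hy hg => ?_) (fun x hx hox => ?_) hc)
    · have : q = 1 := by rw [hq', h, Subgroup.card_bot]
      omega
    · exact ⟨⟨fun a b => (IsCyclic.commGroup (α := (P : Subgroup G))).mul_comm a b⟩⟩
    · have h := pow_card_eq_one' (G := (P : Subgroup G)) (x := ⟨x, hx⟩)
      rw [← hq', hq3, ← hp3] at h
      exact congrArg Subtype.val h
    · obtain ⟨i, rfl⟩ := φ.surj x hx
      obtain ⟨j, rfl⟩ := φ.surj y hy
      have hi : i ≠ 0 := fun h => hx1 (by rw [h, CyclicPairs.map_zero])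
      have hj : j ≠ 0 := fun h => hy1 (by rw [h, CyclicPairs.map_zero])
      refine isConj_iff.1 ((CyclicPairs.isConj_iff_rel φ i j).2 ?_)
      have hsub : (CyclicPairs.mult φ).image (fun s => s * i) ⊆ (Finset.univ : Finset (ZMod q)).erase 0 := by
        intro y hy
        obtain ⟨s, hs, rfl⟩ := Finset.mem_image.1 hy
        exact Finset.mem_erase.2 ⟨CyclicPairs.mult_ne_zero φ (by omega) hs hi, Finset.mem_univ _⟩
      have he := Finset.eq_of_subset_of_card_le hsub (by
        rw [Finset.card_erase_of_mem (Finset.mem_univ _), Finset.card_univ, ZMod.card,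
          Finset.card_image_of_injOn fun s hs t ht e => CyclicPairs.mult_inj φ hq hi hs ht e]
        omega)
      have hjm : j ∈ (Finset.univ : Finset (ZMod q)).erase 0 := Finset.mem_erase.2 ⟨hj, Finset.mem_univ _⟩
      rw [← he] at hjm
      obtain ⟨s, hs, hsj⟩ := Finset.mem_image.1 hjm
      exact ⟨s, hs, hsj.symm⟩
    · obtain ⟨i, rfl⟩ := φ.surj x hx
      obtain ⟨j, rfl⟩ := φ.surj y hy
      obtain ⟨s, hs, rfl⟩ := (CyclicPairs.isConj_iff_rel φ i j).1 (isConj_iff.2 hg)
      obtain ⟨n, hn', hns⟩ := (CyclicPairs.mem_mult φ).1 hs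
      exact ⟨n, hn', CyclicPairs.conj_apply φ hns i⟩
    · obtain ⟨i, rfl⟩ := φ.surj x hx
      refine CyclicPairs.hnpc_centralizer φ hq fun h => hp.ne_one ?_
      rw [← hox, h, CyclicPairs.map_zero, orderOf_one]
  exact CyclicPairs.no_pairs φ hnp hp2 hq ha hq3 hc

/-- Let G be a finite group whose Sylow p-subgroups are cyclic. Then G is p-solvable if and only if every two elements of order p of G generate a p-solvable subgroup. -/
theorem result {G : Type*} [Group G] [Finite G] {p : ℕ} [Fact p.Prime] (P : Sylow p G) (hP : IsCyclic ↥(P : Subgroup G)) :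
    Cfsg.IsPSolvable p G ↔ ∀ x y : G, orderOf x = p → orderOf y = p → Cfsg.IsPSolvable p ↥(Subgroup.closure ({x, y} : Set G)) := by
  refine ⟨fun h x y _ _ => Char.isPSolvable_subgroup Fact.out h _, fun h => main p _ rfl (fun Q => ?_) h⟩
  haveI := hP
  exact isCyclic_of_surjective (Sylow.equiv P Q) (Sylow.equiv P Q).surjective

end Cfsg.Agent.S1950
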