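import Cfsg.Statements.S1953
import Cfsg.Agent.Lib.Fusion.AutomizerFree
import Cfsg.Agent.Lib.Local.FS.StableConstrained

set_option autoImplicit false
open Cfsg
open Cfsg.Agent.Fusion
open scoped commutatorElement

namespace Cfsg.Agent.S1953

/-- Let p be an odd prime and P a Sylow p-subgroup of the finite group G, and suppose that for no p-subgroup Q of G does N_G(Q)/C_G(Q) have a section isomorphic to SL₂(p). Call a subgroup Q of P centric-radical when Z(Q) is a Sylow p-subgroup of C_G(Q) and the only normal subgroup X of N_G(Q) containing Q·C_G(Q) such that the index of Q·C_G(Q) in X is a power of p is Q·C_G(Q) itself (that is, N_G(Q)/Q·C_G(Q) has no nontrivial normal p-subgroup). Then there is a centric-radical subgroup Q of P contained in every centric-radical subgroup of P; it is normal in P, and N_G(Q) controls strong fusion in P: whenever a subgroup A of P has g A g⁻¹ ≤ P, the element g is a product h c with h in N_G(Q) and c centralizing A. -/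
theorem result {G : Type*} [Group G] [Finite G] {p : ℕ} [Fact p.Prime] (hp : p ≠ 2) (P : Sylow p G)
    (hfree : ∀ Q : Subgroup G, IsPGroup p ↥Q → ¬ ∃ (H K : Subgroup G) (_ : (K.subgroupOf H).Normal),
      Subgroup.centralizer (Q : Set G) ≤ K ∧ K ≤ H ∧ H ≤ Subgroup.normalizer (Q : Set G) ∧
      Nonempty ((↥H ⧸ K.subgroupOf H) ≃* Matrix.SpecialLinearGroup (Fin 2) (ZMod p)))
    (cr : Subgroup G → Prop)
    (hcr : ∀ Q : Subgroup G, cr Q ↔ (Q ≤ (P : Subgroup G) ∧
      (∃ R : Sylow p ↥(Subgroup.centralizer (Q : Set G)),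
        (R : Subgroup ↥(Subgroup.centralizer (Q : Set G))).map (Subgroup.centralizer (Q : Set G)).subtype = Q ⊓ Subgroup.centralizer (Q : Set G)) ∧
      ∀ X : Subgroup G, X ≤ Subgroup.normalizer (Q : Set G) →
        (∀ n ∈ Subgroup.normalizer (Q : Set G), X.map (MulAut.conj n).toMonoidHom = X) →
        Q ⊔ Subgroup.centralizer (Q : Set G) ≤ X → (∃ k : ℕ, (Q ⊔ Subgroup.centralizer (Q : Set G)).relIndex X = p ^ k) →
        X = Q ⊔ Subgroup.centralizer (Q : Set G))) :
    ∃ Q : Subgroup G, cr Q ∧ (∀ R : Subgroup G, cr R → Q ≤ R) ∧ (∀ x ∈ (P : Subgroup G), Q.map (MulAut.conj x).toMonoidHom = Q) ∧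
      ∀ A : Subgroup G, A ≤ (P : Subgroup G) → ∀ g : G, A.map (MulAut.conj g).toMonoidHom ≤ (P : Subgroup G) →
        ∃ h ∈ Subgroup.normalizer (Q : Set G), ∃ c ∈ Subgroup.centralizer (A : Set G), g = h * c := by
  have hP := sylIn_top P
  have hS := hP.isPGroup
  have hst := Fusion.isNormalizerPStable_of_automizer_free hp hfree
  set F := groupFusionSystem (P : Subgroup G)
  have hsat := Local.FS.group_saturated hP
  obtain ⟨⟨Q₀, hQ₀, hc₀⟩, -⟩ := Local.FS.stable_constrained hp _ G (P : Subgroup G) le_rfl hP hst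
  set Q := F.core with hQdef
  have hQn : F.IsNormal Q := Local.FS.core_normal hS hsat
  have hQ₀Q : Q₀ ≤ Q := le_sSup hQ₀
  have hcQ : FusionSystem.centralizerIn (P : Subgroup G) Q ≤ Q := fun x hx =>
    hQ₀Q (hc₀ ⟨hx.1, Subgroup.centralizer_le hQ₀Q hx.2⟩)
  have hQP : Q ≤ (P : Subgroup G) := hQn.1
  have hQsc := Local.FS.normal_stronglyClosed hQn
  have hPNQ : (P : Subgroup G) ≤ Subgroup.normalizer (Q : Set G) :=
    Local.FS.stronglyClosed_le_normalizer hQsc
  have hext := fun (A : Subgroup G) (hA : A ≤ (P : Subgroup G)) (g : G)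
    (hg : ∀ a ∈ A, g * a * g⁻¹ ∈ (P : Subgroup G)) => Local.FS.exists_conj_of_isNormal hQn hA hg
  have hnS : SylIn p (P : Subgroup G) (Subgroup.normalizer (Q : Set G)) := by
    have h1 := (Local.FS.fn_group_iff hP hQP).1 (Local.FS.fn_of_stronglyClosed hQsc)
    rwa [show FusionSystem.normalizerIn (P : Subgroup G) Q = (P : Subgroup G) from inf_eq_left.2 hPNQ] at h1
  set C := Subgroup.centralizer (Q : Set G) with hC
  have hCN : C ≤ Subgroup.normalizer (Q : Set G) := Subgroup.centralizer_le_normalizer _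
  have hNC : Subgroup.normalizer (Q : Set G) ≤ Subgroup.normalizer (C : Set G) := fun n hn =>
    mem_normalizer_of_cj_le (by rw [hC, cj_centralizer, cj_eq_self hn])
  have hsylC : SylIn p (Q ⊓ C) C := by
    have h1 := Local.FS.sylIn_centralizer_of_normalizer (S := (P : Subgroup G)) (P := Q)
      (by rw [show FusionSystem.normalizerIn (P : Subgroup G) Q = (P : Subgroup G) from inf_eq_left.2 hPNQ]; exact hnS)
    rwa [show FusionSystem.centralizerIn (P : Subgroup G) Q = Q ⊓ C from le_antisymm (le_inf hcQ inf_le_right)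
      (le_inf (inf_le_left.trans hQP) inf_le_right)] at h1
  obtain ⟨T, hT⟩ := hsylC.exists_sylow_subgroupOf
  -- the complement of `Z(Q)` in `C(Q)`
  set D := (pPrimeCore p C).map C.subtype with hD
  have hDC : D ≤ C := Subgroup.map_subtype_le _
  have hDcop : (Nat.card D).Coprime p := by
    rw [hD, Subgroup.card_map_of_injective C.subtype_injective]; exact card_pPrimeCore_coprime p C
  have hND : Subgroup.normalizer (Q : Set G) ≤ Subgroup.normalizer (D : Set G) :=
    fun n hn => mem_normalizer_of_cj_le (by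
      rintro _ ⟨_, ⟨d, hd, rfl⟩, rfl⟩
      have hnC : n ∈ Subgroup.normalizer (C : Set G) := hNC hn
      let e : MulAut C :=
        { toFun := fun c => ⟨n * c * n⁻¹, (Subgroup.mem_normalizer_iff.1 hnC c).1 c.2⟩
          invFun := fun c => ⟨n⁻¹ * c * n, (Subgroup.mem_normalizer_iff''.1 hnC c).1 c.2⟩
          left_inv := fun c => Subtype.ext (by simp [mul_assoc])
          right_inv := fun c => Subtype.ext (by simp [mul_assoc])
          map_mul' := fun a b => Subtype.ext (by simp [mul_assoc]) }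
      refine ⟨e d, ?_, rfl⟩
      have hchar : (pPrimeCore p C).map e.toMonoidHom = pPrimeCore p C :=
        Subgroup.characteristic_iff_map_eq.1 inferInstance e
      rw [← hchar]
      exact ⟨d, hd, rfl⟩)
  have hCD : C ≤ Q ⊔ D := by
    obtain ⟨S₁, W, hWn, hW⟩ := hnpc_of_normalizer_le_centralizer T (fun c _ => by
      refine Subgroup.mem_centralizer_iff.2 fun z hz => Subtype.ext ?_
      have hz' : (z : G) ∈ Q := (Subgroup.mem_subgroupOf.1 (hT ▸ hz : z ∈ (Q ⊓ C).subgroupOf C)).1
      exact Subgroup.mem_centralizer_iff.1 c.2 _ hz')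
    haveI := hWn
    have hWp : W ≤ pPrimeCore p C := le_pPrimeCore (by
      refine ((Nat.Prime.coprime_iff_not_dvd Fact.out).2 ?_).symm
      rw [← hW.index_eq_card]
      exact S₁.not_dvd_index)
    intro x hx
    have hx' : (⟨x, hx⟩ : C) ∈ (S₁ : Subgroup C) ⊔ W := by rw [hW.symm.sup_eq_top]; trivial
    obtain ⟨a, ha, w, hw, he⟩ := Subgroup.mem_sup_of_normal_right.1 hx'
    have he' : x = (a : G) * (w : G) := (congrArg Subtype.val he).symm
    rw [he']
    refine mul_mem (Subgroup.mem_sup_left ?_) (Subgroup.mem_sup_right ⟨w, hWp hw, rfl⟩)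
    obtain ⟨y, hy⟩ := MulAction.exists_smul_eq C T S₁
    obtain ⟨z, hz, rfl⟩ : a ∈ ((y • T : Sylow p C) : Subgroup C) := hy ▸ ha
    have hz' : (z : G) ∈ Q := (Subgroup.mem_subgroupOf.1 (hT ▸ hz : z ∈ (Q ⊓ C).subgroupOf C)).1
    have h1 : (y : G) * z * (y : G)⁻¹ = z := by
      rw [← Subgroup.mem_centralizer_iff.1 y.2 _ hz', mul_inv_cancel_right]
    show (y : G) * z * (y : G)⁻¹ ∈ Q
    rw [h1]; exact hz'
  refine ⟨Q, (hcr Q).2 ⟨hQP, ⟨T, ?_⟩, ?_⟩, fun R hR => ?_, fun x hx => cj_eq_self (hPNQ hx), ?_⟩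
  · rw [hT]; exact Subgroup.map_subgroupOf_eq_of_le inf_le_right
  · intro X hXN hXn hYX hidx
    obtain ⟨k, hk⟩ := hidx
    refine le_antisymm ?_ hYX
    have hNX : Subgroup.normalizer (Q : Set G) ≤ Subgroup.normalizer (X : Set G) := fun n hn =>
      mem_normalizer_iff_cj.2 (hXn n hn)
    set R := (P : Subgroup G) ⊓ X with hR
    have hRX : SylIn p R X := hnS.inf_normal hXN hNX
    have hQR : Q ≤ R := le_inf hQP (le_sup_left.trans hYX)
    -- `X` is `R` times the complement
    have hXRD : X ≤ R ⊔ D := by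
      have h1 : R ⊔ (Q ⊔ C) = X := by
        refine le_antisymm (sup_le inf_le_right hYX) (Subgroup.relIndex_eq_one.1 ?_)
        obtain ⟨j, -, hj⟩ := (Nat.dvd_prime_pow Fact.out).1
          (hk ▸ Subgroup.relIndex_dvd_of_le_left X (le_sup_right : Q ⊔ C ≤ R ⊔ (Q ⊔ C)))
        rcases Nat.eq_zero_or_pos j with h0 | h0
        · rw [hj, h0, pow_zero]
        · exact absurd ((dvd_pow_self p h0.ne').trans (hj ▸
            Subgroup.relIndex_dvd_of_le_left X (le_sup_left : R ≤ R ⊔ (Q ⊔ C)))) hRX.not_dvd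
      rw [← h1]
      exact sup_le le_sup_left (sup_le (hQR.trans le_sup_left) (hCD.trans (sup_le_sup_right hQR D)))
    have hDX : D ≤ X := (hDC.trans le_sup_right).trans hYX
    have hRn : F.IsNormal R := by
      refine Local.FS.isNormal_of_conj inf_le_left fun A hA g hg => ?_
      obtain ⟨k', hk', hkA⟩ := hext A hA g hg
      have hRN : R ≤ Subgroup.normalizer (Q : Set G) := inf_le_left.trans hPNQ
      -- move `k'` into the normalizer of `R`
      obtain ⟨x, hx, hxk⟩ := frattini_conj hRX hNX hk'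
      have hRD : R ≤ Subgroup.normalizer (D : Set G) := hRN.trans hND
      obtain ⟨r, hr, d, hd, rfl⟩ := exists_mul_of_mem_sup hRD (hXRD hx)
      have hk₁ : d * k' ∈ Subgroup.normalizer (R : Set G) := by
        have h := mul_mem (inv_mem (Subgroup.le_normalizer hr)) hxk
        rwa [show r⁻¹ * (r * d * k') = d * k' by group] at h
      have hk₁Q : d * k' ∈ Subgroup.normalizer (Q : Set G) := mul_mem (hCN (hDC hd)) hk'
      set M := Subgroup.normalizer (R : Set G) ⊓ Subgroup.normalizer (Q : Set G) with hM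
      have hPM : (P : Subgroup G) ≤ M := le_inf (fun y hy => mem_normalizer_of_cj_le (by
        rw [hR, cj_inf, cj_eq_self_of_mem hy, cj_eq_self (hNX (hPNQ hy))])) hPNQ
      set D₀ := D ⊓ M with hD₀
      have hPD₀ : (P : Subgroup G) ≤ Subgroup.normalizer (D₀ : Set G) := fun y hy => mem_normalizer_of_cj_le (by
        rw [hD₀, cj_inf, cj_eq_self (hND (hPNQ hy)), cj_eq_self_of_mem (hPM hy)])
      set B := cj A (d * k') with hB
      have hBM : B ≤ M := by
        rintro _ ⟨a, ha, rfl⟩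
        exact mul_mem (mul_mem ⟨hk₁, hk₁Q⟩ (hPM (hA ha))) (M.inv_mem ⟨hk₁, hk₁Q⟩)
      have hBle : B ≤ (P : Subgroup G) ⊔ D₀ := by
        intro b hb
        have hbM := hBM hb
        obtain ⟨a, ha, rfl⟩ := hb
        have ha' : k' * a * k'⁻¹ ∈ (P : Subgroup G) := by rw [hkA a ha]; exact hg a ha
        set a' := k' * a * k'⁻¹
        have he : (MulAut.conj (d * k')).toMonoidHom a = a' * (a'⁻¹ * d * a' * d⁻¹) := by
          show d * k' * a * (d * k')⁻¹ = _; simp only [a']; group
        rw [he] at hbM ⊢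
        refine mul_mem (Subgroup.mem_sup_left ha') (Subgroup.mem_sup_right ⟨mul_mem ?_ (D.inv_mem hd), ?_⟩)
        · simpa using (Subgroup.mem_normalizer_iff.1 (hND (hPNQ ((P : Subgroup G).inv_mem ha'))) d).1 hd
        · simpa using mul_mem (M.inv_mem (hPM ha')) hbM
      have hsylPD : SylIn p (P : Subgroup G) ((P : Subgroup G) ⊔ D₀) := hP.mono le_sup_left le_top
      obtain ⟨y, hy, hyB⟩ := hsylPD.conj_le (isPGroup_cj (hS.to_le hA) _) hBle
      obtain ⟨s, hs, c, hc, rfl⟩ := exists_mul_of_mem_sup hPD₀ hy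
      have hyB' : cj B c ≤ (P : Subgroup G) := by
        have h := cj_mono hyB s⁻¹
        rwa [cj_cj, inv_mul_cancel_left, cj_eq_self_of_mem (inv_mem hs)] at h
      refine ⟨c * (d * k'), mul_mem hc.2.1 hk₁, fun a ha => ?_⟩
      have h1 : c * (d * k') * a * (c * (d * k'))⁻¹ ∈ (P : Subgroup G) := by
        refine hyB' ⟨_, ⟨a, ha, rfl⟩, ?_⟩
        show c * (d * k' * a * (d * k')⁻¹) * c⁻¹ = _
        group
      have ha' : k' * a * k'⁻¹ ∈ (P : Subgroup G) := by rw [hkA a ha]; exact hg a ha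
      set a' := k' * a * k'⁻¹ with ha'def
      have he : c * d ∈ D := mul_mem hc.1 hd
      have h2 : a'⁻¹ * (c * (d * k') * a * (c * (d * k'))⁻¹) ∈ (P : Subgroup G) ⊓ D := by
        refine ⟨mul_mem ((P : Subgroup G).inv_mem ha') h1, ?_⟩
        rw [show a'⁻¹ * (c * (d * k') * a * (c * (d * k'))⁻¹) = a'⁻¹ * (c * d) * a' * (c * d)⁻¹ by
          simp only [ha'def]; group]
        exact mul_mem (by simpa using (Subgroup.mem_normalizer_iff.1 (hND (hPNQ ((P : Subgroup G).inv_mem ha'))) _).1 he)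
          (D.inv_mem he)
      have hPD : (P : Subgroup G) ⊓ D = ⊥ := by
        obtain ⟨j, hj⟩ := hS.exists_card_eq
        exact Subgroup.inf_eq_bot_of_coprime (hj ▸ (hDcop.pow_right j).symm)
      rw [hPD, Subgroup.mem_bot, inv_mul_eq_one] at h2
      rw [← h2, ha'def, hkA a ha]
    refine hXRD.trans (sup_le ?_ (hDC.trans le_sup_right))
    exact (le_sSup hRn : R ≤ Q).trans le_sup_left
  · -- every centric radical subgroup contains the core
    obtain ⟨hRP, hex, hrad⟩ := (hcr R).1 hR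
    refine Local.FS.le_of_inf_normalizer_le hS hQP hPNQ hRP ?_
    set U := Q ⊓ Subgroup.normalizer (R : Set G) with hU
    set CR := Subgroup.centralizer (R : Set G) with hCR
    set X := U ⊔ (R ⊔ CR) with hX
    have hXN : X ≤ Subgroup.normalizer (R : Set G) :=
      sup_le inf_le_right (sup_le Subgroup.le_normalizer (Subgroup.centralizer_le_normalizer _))
    have hCRn : ∀ n ∈ Subgroup.normalizer (R : Set G), n ∈ Subgroup.normalizer (CR : Set G) := fun n hn =>
      mem_normalizer_of_cj_le (by rw [hCR, cj_centralizer, cj_eq_self hn])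
    have hU' : ∀ n ∈ Subgroup.normalizer (R : Set G), n ∈ Subgroup.normalizer (X : Set G) := by
      intro n hn
      obtain ⟨k, hk, hkR⟩ := hext R hRP n fun r hr =>
        hRP ((Subgroup.mem_normalizer_iff.1 hn r).1 hr)
      have hkN : k ∈ Subgroup.normalizer (R : Set G) := mem_normalizer_of_cj_le (by
        rintro _ ⟨r, hr, rfl⟩
        show k * r * k⁻¹ ∈ R
        rw [hkR r hr]; exact (Subgroup.mem_normalizer_iff.1 hn r).1 hr)
      have hkX : k ∈ Subgroup.normalizer (X : Set G) := mem_normalizer_of_cj_le (by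
        rw [hX, cj_sup, cj_sup, hU, cj_inf, cj_eq_self hk, cj_normalizer, cj_eq_self hkN, cj_eq_self (hCRn k hkN)])
      have hc : k⁻¹ * n ∈ CR := Subgroup.mem_centralizer_iff.2 fun r hr => by
        have h1 : k⁻¹ * (n * r * n⁻¹) * k = r := by rw [← hkR r hr]; group
        calc r * (k⁻¹ * n) = k⁻¹ * (n * r * n⁻¹) * k * (k⁻¹ * n) := by rw [h1]
          _ = k⁻¹ * n * r := by group
      have h2 := mul_mem hkX (Subgroup.le_normalizer (Subgroup.mem_sup_right (Subgroup.mem_sup_right hc) : k⁻¹ * n ∈ X))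
      rwa [mul_inv_cancel_left] at h2
    have hUn : U ≤ Subgroup.normalizer ((R ⊔ CR : Subgroup G) : Set G) := fun u hu =>
      mem_normalizer_of_cj_le (by rw [cj_sup, cj_eq_self hu.2, cj_eq_self (hCRn u hu.2)])
    have hidx : ∃ k : ℕ, (R ⊔ CR).relIndex X = p ^ k := by
      obtain ⟨j, hj⟩ := (hS.to_le (inf_le_left.trans hQP : U ≤ _)).exists_card_eq
      have h3 : (R ⊔ CR).relIndex X = (R ⊔ CR).relIndex U := by
        set W := R ⊔ CR
        set N := Subgroup.normalizer (W : Set G)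
        haveI : (W.subgroupOf N).Normal :=
          (Subgroup.normal_subgroupOf_iff_le_normalizer Subgroup.le_normalizer).mpr le_rfl
        rw [hX, sup_comm, ← Subgroup.relIndex_subgroupOf (H := W) (sup_le Subgroup.le_normalizer hUn),
          ← Subgroup.relIndex_subgroupOf (H := W) hUn, Subgroup.subgroupOf_sup Subgroup.le_normalizer hUn,
          Subgroup.relIndex_sup_left]
      obtain ⟨i, -, hi⟩ := (Nat.dvd_prime_pow Fact.out).1 (hj ▸ Subgroup.relIndex_dvd_card (R ⊔ CR) U)
      exact ⟨i, h3.trans hi⟩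
    have hXe := hrad X hXN (fun n hn => cj_eq_self (hU' n hn)) le_sup_right hidx
    intro u hu
    have hu' : u ∈ R ⊔ CR := hXe ▸ Subgroup.mem_sup_left hu
    obtain ⟨r, hr, c, hc, rfl⟩ := exists_mul_of_mem_sup
      (fun r hr => hCRn r (Subgroup.le_normalizer hr)) hu'
    refine mul_mem hr ?_
    have hcP : c ∈ (P : Subgroup G) := by simpa using mul_mem (inv_mem (hRP hr)) (hQP hu.1)
    -- a p-element of the centralizer lies in the central Sylow subgroup
    obtain ⟨T', hT'⟩ := hex
    have hTc : SylIn p (R ⊓ CR) CR := by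
      rw [← hT']; exact sylIn_map CR T'
    obtain ⟨x, hx, hxc⟩ := hTc.conj_le (Q := Subgroup.zpowers c) (hS.to_le (Subgroup.zpowers_le.2 hcP))
      (Subgroup.zpowers_le.2 hc)
    have h4 : x * c * x⁻¹ ∈ R := (hxc ⟨c, Subgroup.mem_zpowers c, rfl⟩).1
    have h5 : x⁻¹ * (x * c * x⁻¹) = (x * c * x⁻¹) * x⁻¹ :=
      (Subgroup.mem_centralizer_iff.1 (inv_mem hx) _ h4).symm
    have h6 : c = x * c * x⁻¹ := by
      calc c = x⁻¹ * (x * c * x⁻¹) * x := by group
        _ = _ := by rw [h5, inv_mul_cancel_right]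
    rw [h6]; exact h4
  · intro A hA g hgA
    obtain ⟨k, hk, hkA⟩ := hext A hA g fun a ha => hgA ⟨a, ha, rfl⟩
    refine ⟨k, hk, k⁻¹ * g, Subgroup.mem_centralizer_iff.2 fun a ha => ?_, by group⟩
    have h1 : k⁻¹ * (g * a * g⁻¹) * k = a := by rw [← hkA a ha]; group
    calc a * (k⁻¹ * g) = k⁻¹ * (g * a * g⁻¹) * k * (k⁻¹ * g) := by rw [h1]
      _ = k⁻¹ * g * a := by group

end Cfsg.Agent.S1953
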