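import Cfsg.Statements.S1954
import Cfsg.Agent.Lib.Fusion.NormalControl

set_option autoImplicit false
open Cfsg
open Cfsg.Agent.Fusion
open scoped commutatorElement

namespace Cfsg.Agent.S1954

/-- Let N be a normal subgroup of the finite group G, P a Sylow p-subgroup of G, and V a subgroup of P ∩ N normal in P ∩ N such that N_N(V) controls strong fusion in P ∩ N with respect to N (whenever a subgroup A of P ∩ N has n A n⁻¹ ≤ P ∩ N for some n in N, then n = h c with h in N_N(V) and c in C_N(A)). Let W be the subgroup generated by the conjugates of V under N_G(P ∩ N). Then N_G(W) controls strong fusion in P with respect to G. -/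
theorem result {G : Type*} [Group G] [Finite G] {p : ℕ} [Fact p.Prime] (N : Subgroup G) [N.Normal] (P : Sylow p G) (V : Subgroup G)
    (hV : V ≤ (P : Subgroup G) ⊓ N) (hVn : ∀ x ∈ (P : Subgroup G) ⊓ N, V.map (MulAut.conj x).toMonoidHom = V)
    (hctrl : ∀ A : Subgroup G, A ≤ (P : Subgroup G) ⊓ N → ∀ n ∈ N, A.map (MulAut.conj n).toMonoidHom ≤ (P : Subgroup G) ⊓ N →
      ∃ h ∈ N ⊓ Subgroup.normalizer (V : Set G), ∃ c ∈ N ⊓ Subgroup.centralizer (A : Set G), n = h * c)
    (W : Subgroup G) (hW : W = Subgroup.closure (⋃ x ∈ Subgroup.normalizer (((P : Subgroup G) ⊓ N : Subgroup G) : Set G),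
      ((V.map (MulAut.conj x).toMonoidHom : Subgroup G) : Set G))) :
    ∀ A : Subgroup G, A ≤ (P : Subgroup G) → ∀ g : G, A.map (MulAut.conj g).toMonoidHom ≤ (P : Subgroup G) →
        ∃ h ∈ Subgroup.normalizer (W : Set G), ∃ c ∈ Subgroup.centralizer (A : Set G), g = h * c := by
  classical
  set T := (P : Subgroup G) ⊓ N with hTdef
  set NT := Subgroup.normalizer (T : Set G) with hNT
  have hWT : W ≤ T := by
    rw [hW]
    refine (Subgroup.closure_le _).2 (Set.iUnion₂_subset fun x hx => ?_)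
    exact SetLike.coe_subset_coe.2 ((cj_mono hV x).trans (cj_eq_self hx).le)
  have hNW : NT ≤ Subgroup.normalizer (W : Set G) := by
    intro y hy
    refine mem_normalizer_of_cj_le ?_
    conv_lhs => rw [hW, cj, MonoidHom.map_closure]
    rw [hW]
    refine Subgroup.closure_mono ?_
    simp only [Set.image_iUnion]
    refine Set.iUnion₂_subset fun x hx => ?_
    refine Set.Subset.trans ?_ (Set.subset_iUnion₂ (y * x) (mul_mem hy hx))
    rw [show V.map (MulAut.conj (y * x)).toMonoidHom = cj (cj V x) y from (cj_cj V x y).symm]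
    rfl
  -- one conjugate
  have hone : ∀ x ∈ NT, ∀ B : Subgroup G, B ≤ T → ∀ n ∈ N, cj B n ≤ T →
      ∃ h ∈ N ⊓ Subgroup.normalizer (cj V x : Set G), ∃ c ∈ N ⊓ Subgroup.centralizer (B : Set G), n = h * c := by
    intro x hx B hB n hn hBn
    obtain ⟨h, hh, c, hc, he⟩ := hctrl (cj B x⁻¹) ((cj_mono hB _).trans (cj_eq_self (inv_mem hx)).le)
      (x⁻¹ * n * x⁻¹⁻¹) ((inferInstance : N.Normal).conj_mem n hn x⁻¹) (by
        show cj _ _ ≤ T
        rw [cj_cj, show x⁻¹ * n * x⁻¹⁻¹ * x⁻¹ = x⁻¹ * n by group, ← cj_cj]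
        exact (cj_mono hBn _).trans (cj_eq_self (inv_mem hx)).le)
    refine ⟨x * h * x⁻¹, ⟨(inferInstance : N.Normal).conj_mem h hh.1 x, ?_⟩, x * c * x⁻¹,
      ⟨(inferInstance : N.Normal).conj_mem c hc.1 x, ?_⟩, ?_⟩
    · rw [← cj_normalizer]; exact conj_mem_cj hh.2
    · have h1 := conj_mem_cj (g := x) hc.2
      rwa [cj_centralizer, cj_inv_cj] at h1
    · calc n = x * (x⁻¹ * n * x⁻¹⁻¹) * x⁻¹ := by group
        _ = _ := by rw [he]; group
  have hVT : ∀ x ∈ NT, cj V x ≤ T := fun x hx => (cj_mono hV x).trans (cj_eq_self hx).le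
  -- several conjugates at once
  have hall : ∀ s : Finset G, (∀ x ∈ s, x ∈ NT) → ∀ B : Subgroup G, B ≤ T → ∀ n ∈ N, cj B n ≤ T →
      ∃ h, (h ∈ N ∧ ∀ x ∈ s, h ∈ Subgroup.normalizer (cj V x : Set G)) ∧
        ∃ c ∈ N ⊓ Subgroup.centralizer (B : Set G), n = h * c := by
    intro s
    induction s using Finset.induction_on with
    | empty => exact fun _ B _ n hn _ => ⟨n, ⟨hn, by simp⟩, 1, one_mem _, (mul_one n).symm⟩
    | insert a s _ ih =>
      intro hs B hB n hn hBn
      obtain ⟨h₁, hh₁, c₁, hc₁, e₁⟩ := hone a (hs a (Finset.mem_insert_self a s)) B hB n hn hBn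
      have hB' : B ⊔ cj V a ≤ T := sup_le hB (hVT a (hs a (Finset.mem_insert_self a s)))
      have hBn' : cj (B ⊔ cj V a) h₁ ≤ T := by
        rw [cj_sup, cj_eq_self hh₁.2]
        refine sup_le ?_ (hVT a (hs a (Finset.mem_insert_self a s)))
        rw [show h₁ = n * c₁⁻¹ by rw [e₁]; group, ← cj_cj,
          cj_eq_self (Subgroup.centralizer_le_normalizer _ (inv_mem hc₁.2))]
        exact hBn
      obtain ⟨h₂, hh₂, c₂, hc₂, e₂⟩ :=
        ih (fun x hx => hs x (Finset.mem_insert_of_mem hx)) (B ⊔ cj V a) hB' h₁ hh₁.1 hBn'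
      refine ⟨h₂, ⟨hh₂.1, fun x hx => ?_⟩, c₂ * c₁, mul_mem
        ⟨hc₂.1, Subgroup.centralizer_le (SetLike.coe_subset_coe.2 le_sup_left) hc₂.2⟩ hc₁, by
        rw [e₁, e₂, mul_assoc]⟩
      rcases Finset.mem_insert.1 hx with rfl | hx
      · rw [show h₂ = h₁ * c₂⁻¹ by rw [e₂]; group]
        exact mul_mem hh₁.2 (Subgroup.centralizer_le_normalizer _
          (Subgroup.centralizer_le (SetLike.coe_subset_coe.2 le_sup_right) (inv_mem hc₂.2)))
      · exact hh₂.2 x hx
  have hctrlW : ∀ B : Subgroup G, B ≤ T → ∀ n ∈ N, cj B n ≤ T →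
      ∃ h ∈ N ⊓ Subgroup.normalizer (W : Set G), ∃ c ∈ N ⊓ Subgroup.centralizer (B : Set G), n = h * c := by
    intro B hB n hn hBn
    obtain ⟨h, ⟨hhN, hh⟩, hc⟩ := hall (NT : Set G).toFinite.toFinset
      (fun x hx => (Set.Finite.mem_toFinset _).1 hx) B hB n hn hBn
    refine ⟨h, ⟨hhN, mem_normalizer_of_cj_le ?_⟩, hc⟩
    conv_lhs => rw [hW, cj, MonoidHom.map_closure]
    rw [hW]
    refine Subgroup.closure_mono ?_
    simp only [Set.image_iUnion]
    refine Set.iUnion₂_subset fun x hx => ?_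
    refine Set.Subset.trans ?_ (Set.subset_iUnion₂ x hx)
    conv_rhs => rw [show V.map (MulAut.conj x).toMonoidHom = cj (cj V x) h from
      (cj_eq_self (hh x ((Set.Finite.mem_toFinset _).2 hx))).symm]
    rfl
  have hPT : (P : Subgroup G) ≤ NT := fun x hx => mem_normalizer_of_cj_le (by
    rw [hTdef, cj_inf, cj_eq_self_of_mem hx, cj_of_normal])
  have hclosed : ∀ i, ∀ x ∈ W.lowerCentralSeries i, ∀ g : G, g * x * g⁻¹ ∈ (P : Subgroup G) →
      g * x * g⁻¹ ∈ W.lowerCentralSeries i := by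
    intro i x hx g hg
    have hT : SylIn p T N := (sylIn_top P).inf_normal le_top (by rw [Subgroup.normalizer_eq_top])
    obtain ⟨n, hn, hng⟩ := frattini_conj hT (H := ⊤) (by rw [Subgroup.normalizer_eq_top]) (Subgroup.mem_top g)
    have hx' : (n * g) * x * (n * g)⁻¹ ∈ W.lowerCentralSeries i := by
      have h1 := conj_mem_cj (g := n * g) hx
      rwa [cj_lower, cj_eq_self (hNW hng)] at h1
    set x' := (n * g) * x * (n * g)⁻¹
    have he : g * x * g⁻¹ = n⁻¹ * x' * n⁻¹⁻¹ := by simp [x', mul_assoc]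
    have hx'T : x' ∈ T := hWT (lower_le W i hx')
    have hgT : g * x * g⁻¹ ∈ T := ⟨hg, (inferInstance : N.Normal).conj_mem x (hWT (lower_le W i hx)).2 g⟩
    obtain ⟨h, hh, c, hc, hnc⟩ := hctrlW (Subgroup.zpowers x') (Subgroup.zpowers_le.2 hx'T) n⁻¹ (inv_mem hn) (by
      rw [cj, MonoidHom.map_zpowers, Subgroup.zpowers_le]
      rw [he] at hgT
      simpa using hgT)
    have h2 : g * x * g⁻¹ = h * x' * h⁻¹ := by
      rw [he, hnc, mul_inv_rev]
      have hcx := Subgroup.mem_centralizer_iff.1 hc.2 x' (Subgroup.mem_zpowers x')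
      calc h * c * x' * (c⁻¹ * h⁻¹) = h * (c * x') * c⁻¹ * h⁻¹ := by group
        _ = h * x' * h⁻¹ := by rw [← hcx]; group
    rw [h2]
    have h3 := conj_mem_cj (g := h) hx'
    rwa [cj_lower, cj_eq_self hh.2] at h3
  intro A hA g hg
  obtain ⟨c, hc, n, hn, he⟩ := normalizer_controls_of_series (sylIn_top P) (hWT.trans inf_le_left)
    (hPT.trans hNW) hclosed (A := (A : Set G)) (g := g⁻¹) hA (by
      rw [rcj_coe, inv_inv]; exact hg)
  exact ⟨n⁻¹, inv_mem hn, c⁻¹, inv_mem hc, by rw [← inv_inv g, he, mul_inv_rev]⟩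

end Cfsg.Agent.S1954
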