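import Cfsg.Statements.S1956
import Cfsg.Agent.Lib.Fusion.BurnsideFusion

set_option autoImplicit false
open Cfsg
open Cfsg.Agent.Fusion
open scoped commutatorElement

namespace Cfsg.Agent.S1956

/-- Let P be a Sylow p-subgroup of the finite group G such that every element of P of order dividing p (dividing 4 when p = 2) is central in P. Then the fusion of these elements is controlled by N_G(P): if such an element a of P has g a g⁻¹ in P, then g = n c with n normalizing P and c commuting with a. -/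
theorem result {G : Type*} [Group G] [Finite G] {p : ℕ} [Fact p.Prime] (P : Sylow p G)
    (hcen : ∀ a ∈ (P : Subgroup G), (a ^ p = 1 ∨ (p = 2 ∧ a ^ 4 = 1)) → ∀ y ∈ (P : Subgroup G), a * y = y * a) :
    ∀ a ∈ (P : Subgroup G), (a ^ p = 1 ∨ (p = 2 ∧ a ^ 4 = 1)) → ∀ g : G, g * a * g⁻¹ ∈ (P : Subgroup G) →
      ∃ n ∈ Subgroup.normalizer ((P : Subgroup G) : Set G), ∃ c : G, c * a = a * c ∧ g = n * c := by
  intro a ha hord g hg
  have hb : (g * a * g⁻¹) ^ p = 1 ∨ (p = 2 ∧ (g * a * g⁻¹) ^ 4 = 1) := by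
    rcases hord with h | ⟨h, h4⟩
    · exact Or.inl (by rw [conj_pow, h]; group)
    · exact Or.inr ⟨h, by rw [conj_pow, h4]; group⟩
  obtain ⟨b, hbdef⟩ : ∃ b, b = g * a * g⁻¹ := ⟨_, rfl⟩
  rw [← hbdef] at hg hb
  have hPC : (P : Subgroup G) ≤ Subgroup.centralizer {b} := fun y hy =>
    Subgroup.mem_centralizer_singleton_iff.2 (hcen b hg hb y hy).symm
  have hQC : cj (P : Subgroup G) g ≤ Subgroup.centralizer {b} := fun y hy => by
    refine Subgroup.mem_centralizer_singleton_iff.2 ?_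
    have h1 := hcen a ha hord _ (mem_cj.1 hy)
    calc y * b = g * ((g⁻¹ * y * g) * a) * g⁻¹ := by rw [hbdef]; group
      _ = b * y := by rw [← h1, hbdef]; group
  have hQs := (sylIn_top P).cj g
  rw [cj_of_normal (⊤ : Subgroup G) g] at hQs
  obtain ⟨x, hx, he⟩ := (hQs.mono hQC le_top).conj_eq ((sylIn_top P).mono hPC le_top)
  rw [cj_cj] at he
  have hxb := Subgroup.mem_centralizer_singleton_iff.1 hx
  refine ⟨x * g, mem_normalizer_iff_cj.2 he, g⁻¹ * x⁻¹ * g, ?_, by group⟩
  calc g⁻¹ * x⁻¹ * g * a = g⁻¹ * x⁻¹ * (b * x) * x⁻¹ * g := by rw [hbdef]; group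
    _ = a * (g⁻¹ * x⁻¹ * g) := by rw [← hxb, hbdef]; group

end Cfsg.Agent.S1956
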