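import Cfsg.Statements.S1957
import Cfsg.Agent.Lib.Fusion.Cores
import Cfsg.Agent.Lib.Fusion.Basic
import Cfsg.Agent.Lib.Fusion.KInf
import Cfsg.Agent.Lib.Solv.Generation

set_option autoImplicit false
open Cfsg
open Cfsg.Agent.Fusion
open scoped commutatorElement

namespace Cfsg.Agent.S1957

open scoped commutatorElement

theorem four_in_core {G : Type*} [Group G] [Finite G] (h2 : Cfsg.IsCharacteristicTwoType G) {u : G}
    (hu : u * u = 1) (hu1 : u ≠ 1) {U S : Subgroup G} (hSC : S ≤ Subgroup.centralizer ({u} : Set G))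
    (hS : IsPGroup 2 S)
    (hSmax : ∀ T : Subgroup G, IsPGroup 2 T → T ≤ Subgroup.centralizer ({u} : Set G) → S ≤ T → T = S)
    (hUS : U ≤ S) (hUn : ∀ s ∈ S, ∀ w ∈ U, s * w * s⁻¹ ∈ U) (huU : u ∈ U) (hU4 : Nat.card U = 4) :
    U ≤ (Cfsg.pCore 2 ↥(Subgroup.centralizer ({u} : Set G))).map (Subgroup.centralizer ({u} : Set G)).subtype := by
  classical
  haveI : Fact (Nat.Prime 2) := ⟨Nat.prime_two⟩
  have hmem : ∀ m, m ∈ Subgroup.zpowers u → m = 1 ∨ m = u := by
    rintro m ⟨k, rfl⟩
    rcases Int.even_or_odd' k with ⟨t, rfl | rfl⟩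
    · left; show u ^ (2 * t) = 1; rw [zpow_mul, zpow_two, hu, one_zpow]
    · right; show u ^ (2 * t + 1) = u; rw [zpow_add, zpow_mul, zpow_two, hu, one_zpow, one_mul, zpow_one]
  have hN : Subgroup.centralizer ({u} : Set G) = Subgroup.normalizer (Subgroup.zpowers u : Set G) := by
    refine le_antisymm (fun g hg => ?_) (fun g hg => ?_)
    · rw [Subgroup.mem_centralizer_singleton_iff] at hg
      refine mem_normalizer_of_cj_le ?_
      rintro _ ⟨m, hm, rfl⟩
      show g * m * g⁻¹ ∈ Subgroup.zpowers u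
      rcases hmem m hm with rfl | rfl
      · rw [mul_one, mul_inv_cancel]; exact one_mem _
      · rw [hg, mul_inv_cancel_right]; exact hm
    · rw [Subgroup.mem_centralizer_singleton_iff]
      rcases hmem _ ((Subgroup.mem_normalizer_iff.1 hg u).1 (Subgroup.mem_zpowers u)) with e | e
      · exact absurd (mul_left_cancel (a := g) ((mul_inv_eq_one.1 e).trans (mul_one g).symm)) hu1
      · exact mul_inv_eq_iff_eq_mul.1 e
  have hchar : Cfsg.IsOfCharacteristicTwo ↥(Subgroup.centralizer ({u} : Set G)) := by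
    rw [hN]
    exact h2.2 _ (IsPGroup.of_card (n := 1) (by rw [Nat.card_zpowers, pow_one]; exact orderOf_eq_prime ((pow_two u).trans hu) hu1))
      (fun h => hu1 (Subgroup.zpowers_eq_bot.1 h))
  obtain ⟨C, hC⟩ : ∃ C, C = Subgroup.centralizer ({u} : Set G) := ⟨_, rfl⟩
  rw [← hC] at hSC hSmax hchar ⊢
  obtain ⟨Q, hQ⟩ : ∃ Q, Q = (Cfsg.pCore 2 ↥C).map C.subtype := ⟨_, rfl⟩
  rw [← hQ]
  have hQ2 : IsPGroup 2 Q := hQ ▸ (isPGroup_pCore 2 ↥C).map _
  have hQC : Q ≤ C := hQ ▸ Subgroup.map_subtype_le _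
  have hCQ : C ≤ Subgroup.normalizer (Q : Set G) := fun c hc => mem_normalizer_of_cj_le (by
    rw [hQ]
    rintro _ ⟨_, ⟨x, hx, rfl⟩, rfl⟩
    exact ⟨⟨c, hc⟩ * x * ⟨c, hc⟩⁻¹, Subgroup.Normal.conj_mem inferInstance x hx _, rfl⟩)
  have hcent : ∀ g ∈ C, (∀ q ∈ Q, g * q = q * g) → g ∈ Q := fun g hg h => by
    rw [hQ]
    exact ⟨⟨g, hg⟩, hchar (Subgroup.mem_centralizer_iff.2 fun x hx =>
      Subtype.ext (h _ (hQ ▸ ⟨x, hx, rfl⟩)).symm), rfl⟩
  have huC : u ∈ C := hC ▸ Subgroup.mem_centralizer_singleton_iff.2 rfl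
  have hcu : ∀ g ∈ C, g * u = u * g := fun g hg => Subgroup.mem_centralizer_singleton_iff.1 (hC ▸ hg)
  have huQ : u ∈ Q := hcent u huC fun q hq => (hcu q (hQC hq)).symm
  have hQS : Q ≤ S := by
    have h := hSmax (S ⊔ Q) (hS.to_sup_of_normal_right' hQ2 (hSC.trans hCQ)) (sup_le hSC hQC) le_sup_left
    exact h ▸ le_sup_right
  by_cases hin : ∃ w ∈ U, w ∉ Subgroup.zpowers u ∧ w ∈ Q
  · obtain ⟨w, hw, hwu, hwQ⟩ := hin
    intro x hx
    let W : Subgroup G := U ⊓ Q
    have hlt : Nat.card (Subgroup.zpowers u) < Nat.card W := by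
      refine lt_of_le_of_ne (Subgroup.card_le_of_le (Subgroup.zpowers_le.2 ⟨huU, huQ⟩)) fun e => hwu ?_
      exact (Subgroup.eq_of_le_of_card_ge (Subgroup.zpowers_le.2 (⟨huU, huQ⟩ : u ∈ W)) e.ge).ge ⟨hw, hwQ⟩
    rw [Nat.card_zpowers, orderOf_eq_prime ((pow_two u).trans hu) hu1] at hlt
    have hd : Nat.card W ∣ 4 := hU4 ▸ Subgroup.card_dvd_of_le (inf_le_left : W ≤ U)
    have h4 : Nat.card W = 4 := by
      have h5 := Nat.le_of_dvd (by norm_num) hd
      rcases (show Nat.card W = 3 ∨ Nat.card W = 4 by omega) with h | h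
      · rw [h] at hd; norm_num at hd
      · exact h
    exact ((Subgroup.eq_of_le_of_card_ge (inf_le_left : W ≤ U) (by rw [h4, hU4])).ge hx).2
  · push Not at hin
    -- elements stabilizing the series `1 < ⟨u⟩ ≤ Q`
    have hUQ : ∀ w ∈ U, ∀ q ∈ Q, ⁅w, q⁆ ∈ Subgroup.zpowers u := by
      intro w hw q hq
      by_contra hne
      refine hin ⁅w, q⁆ ?_ hne ?_
      · rw [show ⁅w, q⁆ = w * (q * w⁻¹ * q⁻¹) by rw [commutatorElement_def]; group]
        exact mul_mem hw (hUn q (hQS hq) _ (inv_mem hw))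
      · rw [commutatorElement_def]
        exact mul_mem ((Subgroup.mem_normalizer_iff.1 (hCQ (hSC (hUS hw))) q).1 hq) (inv_mem hq)
    have hcz : ∀ z ∈ Subgroup.zpowers u, ∀ g ∈ C, g * z = z * g := by
      intro z hz g hg
      rcases hmem z hz with rfl | rfl
      · rw [mul_one, one_mul]
      · exact hcu g hg
    let W : Subgroup ↥C :=
      { carrier := {g | ∀ q ∈ Q, ⁅(g : G), q⁆ ∈ Subgroup.zpowers u}
        one_mem' := fun q _ => by rw [OneMemClass.coe_one, commutatorElement_one_left]; exact one_mem _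
        mul_mem' := fun {a b} ha hb q hq => by
          rw [Subgroup.coe_mul, show ⁅(a : G) * b, q⁆ = (a : G) * ⁅(b : G), q⁆ * (a : G)⁻¹ * ⁅(a : G), q⁆ by
            simp only [commutatorElement_def]; group, hcz _ (hb q hq) _ a.2, mul_inv_cancel_right]
          exact mul_mem (hb q hq) (ha q hq)
        inv_mem' := fun {a} ha q hq => by
          rw [Subgroup.coe_inv, show ⁅(a : G)⁻¹, q⁆ = (a : G)⁻¹ * ⁅(a : G), q⁆⁻¹ * (a : G)⁻¹⁻¹ by
            simp only [commutatorElement_def]; group, hcz _ (inv_mem (ha q hq)) _ (inv_mem a.2), mul_inv_cancel_right]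
          exact inv_mem (ha q hq) }
    have hWn : W.Normal := ⟨fun a ha g q hq => by
      have hq' : (g : G)⁻¹ * q * g ∈ Q := by
        have := (Subgroup.mem_normalizer_iff.1 (hCQ (inv_mem g.2)) q).1 hq
        rwa [inv_inv] at this
      rw [Subgroup.coe_mul, Subgroup.coe_mul, Subgroup.coe_inv,
        show ⁅(g : G) * a * (g : G)⁻¹, q⁆ = (g : G) * ⁅(a : G), (g : G)⁻¹ * q * g⁆ * (g : G)⁻¹ by
          simp only [commutatorElement_def]; group, hcz _ (ha _ hq') _ g.2, mul_inv_cancel_right]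
      exact ha _ hq'⟩
    have hW2 : IsPGroup 2 W := by
      intro g
      have hgg : ((g : ↥C) : G) * (g : ↥C) ∈ Q := hcent _ (mul_mem g.1.2 g.1.2) fun q hq => by
        refine commutatorElement_eq_one_iff_mul_comm.1 ?_
        rw [show ⁅((g : ↥C) : G) * (g : ↥C), q⁆ = ((g : ↥C) : G) * ⁅((g : ↥C) : G), q⁆ * ((g : ↥C) : G)⁻¹ * ⁅((g : ↥C) : G), q⁆ by
          simp only [commutatorElement_def]; group, hcz _ (g.2 q hq) _ g.1.2, mul_inv_cancel_right]
        rcases hmem _ (g.2 q hq) with e | e <;> rw [e]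
        · exact one_mul 1
        · exact hu
      obtain ⟨k, hk⟩ := hQ2 ⟨_, hgg⟩
      refine ⟨k + 1, Subtype.ext (Subtype.ext ?_)⟩
      have hk' : (((g : ↥C) : G) * (g : ↥C)) ^ 2 ^ k = 1 := congrArg Subtype.val hk
      rw [← pow_two, ← pow_mul, ← pow_succ'] at hk'
      exact hk'
    intro x hx
    rw [hQ]
    exact ⟨⟨x, hSC (hUS hx)⟩, le_sSup (show W ∈ {N : Subgroup ↥C | N.Normal ∧ IsPGroup 2 N} from ⟨hWn, hW2⟩)
      (fun q hq => hUQ x hx q hq), rfl⟩

/-- Let `G` be a finite non-abelian simple group in which every local subgroup is solvable and which is of characteristic 2 type. Let `P` be a Sylow 2-subgroup of `G` and `U` a normal subgroup of `P` that is a four-group, with `U` central in `P` if the centre of `P` is not cyclic. Then `U` centralizes every subgroup of odd order of `G` that it normalizes. -/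
theorem result {G : Type*} [Group G] [Finite G]
    [IsSimpleGroup G] (hna : ¬ IsMulCommutative G) (hN : Cfsg.IsNGroup G) (h2 : Cfsg.IsCharacteristicTwoType G)
    (P : Sylow 2 G) (U : Subgroup G) (hUP : U ≤ (P : Subgroup G)) (hUn : (P : Subgroup G) ≤ Subgroup.normalizer (U : Set G))
    (hU4 : IsKleinFour ↥U)
    (hUZ : ¬ IsCyclic ↥((P : Subgroup G) ⊓ Subgroup.centralizer ((P : Subgroup G) : Set G)) →
      U ≤ Subgroup.centralizer ((P : Subgroup G) : Set G))
    (K : Subgroup G) (hK : Odd (Nat.card K)) (hUK : U ≤ Subgroup.normalizer (K : Set G)) :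
    U ≤ Subgroup.centralizer (K : Set G) := by
  classical
  haveI : Fact (Nat.Prime 2) := ⟨Nat.prime_two⟩
  have h4 : Nat.card U = 4 := hU4.card_four
  have hsq : ∀ x ∈ U, x * x = 1 := fun x hx => by
    have h := Monoid.pow_exponent_eq_one (⟨x, hx⟩ : U)
    rw [hU4.exponent_two, pow_two] at h
    exact congrArg Subtype.val h
  have hUc : ∀ x ∈ U, ∀ y ∈ U, x * y = y * x := fun x hx y hy => by
    have h := hsq _ (mul_mem hx hy)
    rw [mul_eq_one_iff_eq_inv, mul_inv_rev, inv_eq_of_mul_eq_one_right (hsq x hx),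
      inv_eq_of_mul_eq_one_right (hsq y hy)] at h
    exact h
  have hPn : ∀ s ∈ (P : Subgroup G), ∀ w ∈ U, s * w * s⁻¹ ∈ U := fun s hs w hw =>
    (Subgroup.mem_normalizer_iff.1 (hUn hs) w).1 hw
  have hfour : ∀ {a b : G}, a ∈ U → b ∈ U → a ≠ 1 → b ≠ 1 → a ≠ b → ∀ x ∈ U, x = 1 ∨ x = a ∨ x = b ∨ x = a * b := by
    intro a b ha hb ha1 hb1 hab x hx
    by_contra h
    push Not at h
    letI : Fintype U := Fintype.ofFinite U
    have e1 : a * b ≠ 1 := fun e => hab (mul_left_cancel ((hsq a ha).trans e.symm))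
    have e2 : a * b ≠ a := fun e => hb1 (mul_left_cancel (e.trans (mul_one a).symm))
    have e3 : a * b ≠ b := fun e => ha1 (mul_right_cancel (e.trans (one_mul b).symm))
    let s : Finset U := {1, ⟨a, ha⟩, ⟨b, hb⟩, ⟨a * b, mul_mem ha hb⟩, ⟨x, hx⟩}
    have hs : s.card = 5 := by
      simp [s, Finset.card_insert_of_notMem, Subtype.ext_iff, Ne.symm ha1, Ne.symm hb1, hab, Ne.symm e1,
        Ne.symm e2, Ne.symm e3, Ne.symm h.1, Ne.symm h.2.1, Ne.symm h.2.2.1, Ne.symm h.2.2.2]
    have := s.card_le_univ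
    rw [← Nat.card_eq_fintype_card] at this
    omega
  -- the four-group lies in the cores of the centralizers of its involutions
  have hcore : ∀ v ∈ U, v ≠ 1 →
      U ≤ (Cfsg.pCore 2 ↥(Subgroup.centralizer ({v} : Set G))).map (Subgroup.centralizer ({v} : Set G)).subtype := by
    intro v hv hv1
    obtain ⟨P0, hP0⟩ : ∃ P0, P0 = (P : Subgroup G) ⊓ Subgroup.centralizer ({v} : Set G) := ⟨_, rfl⟩
    have hP0m : ∀ x, x ∈ P0 ↔ x ∈ (P : Subgroup G) ∧ x * v = v * x := fun x => by
      rw [hP0, Subgroup.mem_inf, Subgroup.mem_centralizer_singleton_iff]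
    obtain ⟨S, -, ⟨hS2, hSC, hP0S⟩, hSmax⟩ := Finite.exists_le_maximal
      (p := fun T : Subgroup G => IsPGroup 2 T ∧ T ≤ Subgroup.centralizer ({v} : Set G) ∧ P0 ≤ T) (a := P0)
      ⟨P.isPGroup'.to_le (hP0 ▸ inf_le_left), hP0 ▸ inf_le_right, le_rfl⟩
    have hSmax' : ∀ T : Subgroup G, IsPGroup 2 T → T ≤ Subgroup.centralizer ({v} : Set G) → S ≤ T → T = S :=
      fun T h1 h2' h3 => le_antisymm (hSmax ⟨h1, h2', hP0S.trans h3⟩ h3) h3
    have hUP0 : U ≤ P0 := fun w hw => (hP0m w).2 ⟨hUP hw, hUc w hw v hv⟩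
    refine four_in_core h2 ((hsq v hv)) hv1 hSC hS2 hSmax' (hUP0.trans hP0S) ?_ hv h4
    intro s hs w hw
    by_cases hSP : S ≤ P0
    · exact hPn s ((hP0m s).1 (hSP hs)).1 w hw
    -- now `P0` has index two in both groups
    by_cases hcenP : ∀ y ∈ (P : Subgroup G), y * v = v * y
    · have hle : (P : Subgroup G) ≤ S := fun y hy => hP0S ((hP0m y).2 ⟨hy, hcenP y hy⟩)
      have hPS : S = (P : Subgroup G) := P.is_maximal' hS2 hle
      exact hPn s (hPS ▸ hs) w hw
    push Not at hcenP
    obtain ⟨x, hxP, hxv⟩ := hcenP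
    have hZcyc : IsCyclic ↥((P : Subgroup G) ⊓ Subgroup.centralizer ((P : Subgroup G) : Set G)) := by
      by_contra h
      exact hxv (Subgroup.mem_centralizer_iff.1 (hUZ h hv) x hxP)
    obtain ⟨z, hz⟩ : ∃ z, z = v * (x * v * x⁻¹) := ⟨_, rfl⟩
    have hxvU : x * v * x⁻¹ ∈ U := hPn x hxP v hv
    have hxv1 : x * v * x⁻¹ ≠ 1 := fun e => hv1 (by
      calc v = x⁻¹ * (x * v * x⁻¹) * x := by group
        _ = 1 := by rw [e]; group)
    have hxvv : x * v * x⁻¹ ≠ v := fun e => hxv (mul_inv_eq_iff_eq_mul.1 e)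
    have hall := hfour hv hxvU hv1 hxv1 hxvv.symm
    have hz1 : z ≠ 1 := fun e => hxvv (by
      rw [hz] at e
      exact (mul_left_cancel ((hsq v hv).trans e.symm)).symm)
    -- some central involution lies in `U`
    have hfixz : ∀ y ∈ (P : Subgroup G), y * z * y⁻¹ = z := by
      haveI := P.isPGroup'.isNilpotent
      have hUn' : (U.subgroupOf (P : Subgroup G)).Normal := ⟨fun a ha g => hPn g g.2 a ha⟩
      obtain ⟨c, hcU, hc1, hcc⟩ := exists_fixed_mod (N := (⊥ : Subgroup (P : Subgroup G)))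
        (C := U.subgroupOf (P : Subgroup G)) (Q := ⊤) (by rw [Subgroup.normalizer_eq_top]) (fun h => hv1 (by
          have := h (show (⟨v, hUP hv⟩ : (P : Subgroup G)) ∈ U.subgroupOf (P : Subgroup G) from hv)
          exact congrArg Subtype.val (Subgroup.mem_bot.1 this)))
      have hcomm : ∀ y ∈ (P : Subgroup G), (c : G) * y = y * c := fun y hy =>
        congrArg Subtype.val (commutatorElement_eq_one_iff_mul_comm.1
          (Subgroup.mem_bot.1 (hcc ⟨y, hy⟩ (Subgroup.mem_top _))))
      have hc1' : (c : G) ≠ 1 := fun e => hc1 (Subgroup.mem_bot.2 (Subtype.ext e))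
      rcases hall (c : G) hcU with e | e | e | e
      · exact absurd e hc1'
      · exact absurd (e ▸ hcomm x hxP).symm hxv
      · exfalso
        have h1 := hcomm x hxP
        rw [e] at h1
        exact hxvv (mul_left_cancel (h1.symm.trans (by group)))
      · intro y hy
        rw [hz, ← e, ← hcomm y hy, mul_inv_cancel_right]
    have hzU : z ∈ U := hz ▸ mul_mem hv hxvU
    have hzC : ∀ e : G, e * e = 1 → e ∈ (P : Subgroup G) → (∀ y ∈ (P : Subgroup G), y * e = e * y) →
        e = 1 ∨ e = z := by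
      intro e he heP hec
      by_contra hcon
      push Not at hcon
      obtain ⟨Z, hZ⟩ : ∃ Z, Z = (P : Subgroup G) ⊓ Subgroup.centralizer ((P : Subgroup G) : Set G) := ⟨_, rfl⟩
      rw [← hZ] at hZcyc
      haveI := hZcyc
      have heZ : e ∈ Z := hZ ▸ ⟨heP, Subgroup.mem_centralizer_iff.2 fun y hy => hec y hy⟩
      have hzZ : z ∈ Z := hZ ▸ ⟨hUP hzU, Subgroup.mem_centralizer_iff.2 fun y hy =>
        mul_inv_eq_iff_eq_mul.1 (hfixz y hy)⟩
      letI : Fintype Z := Fintype.ofFinite Z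
      have h2c := IsCyclic.card_pow_eq_one_le (α := Z) (n := 2) two_pos
      have hsub : ({1, ⟨e, heZ⟩, ⟨z, hzZ⟩} : Finset Z) ⊆ Finset.univ.filter fun a : Z => a ^ 2 = 1 := by
        intro a ha
        simp only [Finset.mem_insert, Finset.mem_singleton] at ha
        rw [Finset.mem_filter]
        refine ⟨Finset.mem_univ _, ?_⟩
        rcases ha with rfl | rfl | rfl
        · exact one_pow 2
        · exact Subtype.ext ((pow_two e).trans he)
        · exact Subtype.ext ((pow_two z).trans (hsq z hzU))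
      have h3 := Finset.card_le_card hsub
      rw [Finset.card_insert_of_notMem (by simp [Subtype.ext_iff, Ne.symm hcon.1, Ne.symm hz1]),
        Finset.card_insert_of_notMem (by simp [Subtype.ext_iff, hcon.2]), Finset.card_singleton] at h3
      omega
    -- `P0` is normalised by `x`, of index two
    have hxU : ∀ y ∈ U, x * y * x⁻¹ = y ∨ x * y * x⁻¹ = y * z := by
      intro y hy
      rcases hall y hy with e | e | e | e <;> rw [e]
      · left; group
      · right; rw [hz, ← mul_assoc, hsq v hv, one_mul]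
      · right
        have hxz := hfixz x hxP
        have : x * (x * v * x⁻¹) * x⁻¹ = (x * v * x⁻¹)⁻¹ * (x * z * x⁻¹) := by rw [hz]; group
        rw [this, hxz, inv_eq_of_mul_eq_one_right (hsq _ hxvU)]
      · left; rw [← hz]; exact hfixz x hxP
    have hcases : ∀ y ∈ (P : Subgroup G), y ∈ P0 ∨ x⁻¹ * y ∈ P0 := by
      intro y hy
      rcases hall _ (hPn y hy v hv) with e | e | e | e
      · exact absurd (by
          calc v = y⁻¹ * (y * v * y⁻¹) * y := by group
            _ = 1 := by rw [e]; group) hv1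
      · exact Or.inl ((hP0m y).2 ⟨hy, mul_inv_eq_iff_eq_mul.1 e⟩)
      · refine Or.inr ((hP0m _).2 ⟨mul_mem (inv_mem hxP) hy, mul_inv_eq_iff_eq_mul.1 ?_⟩)
        calc x⁻¹ * y * v * (x⁻¹ * y)⁻¹ = x⁻¹ * (y * v * y⁻¹) * x := by group
          _ = v := by rw [e]; group
      · exfalso
        rw [← hz] at e
        refine hxvv ?_
        have hvz : v = z := by
          calc v = y⁻¹ * (y * v * y⁻¹) * y := by group
            _ = y⁻¹ * (y * z * y⁻¹) * y := by rw [e, hfixz y hy]
            _ = z := by group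
        rw [hvz]; exact hfixz x hxP
    have hx0 : x ∉ P0 := fun h => hxv ((hP0m x).1 h).2
    have hP2 : Nat.card (P : Subgroup G) ≤ 2 * Nat.card P0 := by
      rw [two_mul, ← Nat.card_sum]
      refine Nat.card_le_card_of_surjective (Sum.elim (fun b : P0 => (⟨(b : G), ((hP0m b).1 b.2).1⟩ : (P : Subgroup G)))
        (fun b : P0 => (⟨x * b, mul_mem hxP ((hP0m b).1 b.2).1⟩ : (P : Subgroup G)))) fun t => ?_
      rcases hcases t t.2 with h | h
      · exact ⟨Sum.inl ⟨t, h⟩, rfl⟩
      · exact ⟨Sum.inr ⟨_, h⟩, Subtype.ext (mul_inv_cancel_left _ _)⟩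
    have hS2c : Nat.card S ≤ Nat.card (P : Subgroup G) := by
      obtain ⟨Q, hQ⟩ := hS2.exists_le_sylow
      exact (Subgroup.card_le_of_le hQ).trans (Nat.card_congr (Sylow.equiv Q P).toEquiv).le
    obtain ⟨i, hi⟩ := IsPGroup.iff_card.1 hS2
    obtain ⟨j, hj⟩ := IsPGroup.iff_card.1 (hS2.to_le hP0S)
    have hlt : Nat.card P0 < Nat.card S := lt_of_le_of_ne (Subgroup.card_le_of_le hP0S)
      fun e => hSP (Subgroup.eq_of_le_of_card_ge hP0S e.ge).ge
    have hidx : (P0.subgroupOf S).index = 2 := by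
      show P0.relIndex S = 2
      have h1 := Subgroup.relIndex_mul_relIndex ⊥ P0 S bot_le hP0S
      rw [Subgroup.relIndex_bot_left, Subgroup.relIndex_bot_left] at h1
      have h5 : Nat.card P0 * P0.relIndex S ≤ Nat.card P0 * 2 := by rw [h1]; omega
      have h6 := Nat.le_of_mul_le_mul_left h5 Nat.card_pos
      rcases (show P0.relIndex S = 0 ∨ P0.relIndex S = 1 ∨ P0.relIndex S = 2 by omega) with h | h | h
      · rw [h, mul_zero] at h1; exact absurd h1.symm (Nat.card_pos).ne'
      · rw [h, mul_one] at h1; omega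
      · exact h
    have hnorm : ∀ a ∈ P0, s * a * s⁻¹ ∈ P0 := fun a ha =>
      (Subgroup.normal_of_index_eq_two hidx).conj_mem ⟨a, hP0S ha⟩ ha ⟨s, hs⟩
    -- the central involutions of `P0`
    have hinv : ∀ e ∈ P0, e * e = 1 → (∀ a ∈ P0, a * e = e * a) → e ∈ U := by
      intro e he he2 hec
      by_contra heU
      have heP := ((hP0m e).1 he).1
      obtain ⟨f, hf⟩ : ∃ f, f = x * e * x⁻¹ := ⟨_, rfl⟩
      have hx2 : x * x ∈ P0 := (hP0m _).2 ⟨mul_mem hxP hxP, by
        rcases hxU v hv with e' | e'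
        · exact absurd e' hxvv
        · have h2' : x * x * v * (x * x)⁻¹ = v := by
            calc x * x * v * (x * x)⁻¹ = x * (x * v * x⁻¹) * x⁻¹ := by group
              _ = x * (v * z) * x⁻¹ := by rw [e']
              _ = (x * v * x⁻¹) * (x * z * x⁻¹) := by group
              _ = v := by rw [e', hfixz x hxP, mul_assoc, hsq z hzU, mul_one]
          exact mul_inv_eq_iff_eq_mul.1 h2'⟩
      have hxP0 : ∀ a ∈ P0, x⁻¹ * a * x ∈ P0 := by
        intro a ha
        rcases hcases _ (mul_mem (mul_mem (inv_mem hxP) ((hP0m a).1 ha).1) hxP) with h | h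
        · exact h
        · exfalso
          refine hx0 ?_
          have h1 := mul_mem hx2 h
          have h2' : x⁻¹ * (x⁻¹ * a * x) = (x * x)⁻¹ * a * x := by group
          rw [h2'] at h
          have := mul_mem (inv_mem ha) (mul_mem hx2 h)
          rwa [← mul_assoc (x * x), mul_inv_cancel_left, inv_mul_cancel_left] at this
      have hff : f * f = 1 := by
        calc f * f = x * (e * e) * x⁻¹ := by rw [hf]; group
          _ = 1 := by rw [he2]; group
      have hfc : ∀ a ∈ P0, a * f = f * a := by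
        intro a ha
        have h := hec _ (hxP0 a ha)
        calc a * f = x * ((x⁻¹ * a * x) * e) * x⁻¹ := by rw [hf]; group
          _ = f * a := by rw [h, hf]; group
      have hxf : x * f * x⁻¹ = e := by
        calc x * f * x⁻¹ = (x * x) * e * (x * x)⁻¹ := by rw [hf]; group
          _ = e := by rw [hec _ hx2, mul_inv_cancel_right]
      have hef : e * f = f * e := (hfc e he)
      obtain ⟨g, hg⟩ : ∃ g, g = e * f := ⟨_, rfl⟩
      have hgc : ∀ y ∈ (P : Subgroup G), y * g = g * y := by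
        have hgx : x * g = g * x := mul_inv_eq_iff_eq_mul.1 (by
          calc x * g * x⁻¹ = (x * e * x⁻¹) * (x * f * x⁻¹) := by rw [hg]; group
            _ = g := by rw [← hf, hxf, hg, hef])
        have hga : ∀ a ∈ P0, a * g = g * a := fun a ha => by
          rw [hg, ← mul_assoc, hec a ha, mul_assoc, hfc a ha, ← mul_assoc]
        intro y hy
        rcases hcases y hy with h | h
        · exact hga y h
        · have h' := (show Commute x g from hgx).mul_left (show Commute (x⁻¹ * y) g from hga _ h)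
          rwa [mul_inv_cancel_left] at h'
      have hgg : g * g = 1 := by
        rw [hg, mul_assoc, ← mul_assoc f, ← hef, mul_assoc e f, ← mul_assoc e e, he2, hff, one_mul]
      have hgP : g ∈ (P : Subgroup G) := hg ▸ mul_mem heP (hf ▸ mul_mem (mul_mem hxP heP) (inv_mem hxP))
      have hfe : f = e * g := by rw [hg, ← mul_assoc, he2, one_mul]
      rcases hzC g hgg hgP hgc with e' | e'
      · rw [e', mul_one, hf] at hfe
        have hcy : ∀ y ∈ (P : Subgroup G), y * e = e * y := by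
          intro y hy
          rcases hcases y hy with h | h
          · exact hec y h
          · have h' := (show Commute x e from mul_inv_eq_iff_eq_mul.1 hfe).mul_left
              (show Commute (x⁻¹ * y) e from hec _ h)
            rwa [mul_inv_cancel_left] at h'
        rcases hzC e he2 heP hcy with rfl | rfl
        · exact heU (one_mem _)
        · exact heU hzU
      · -- `e * v` is fixed
        rw [e', hf] at hfe
        have hev : e * v = v * e := (hec v (hUP0 hv)).symm
        have hxev : x * (e * v) * x⁻¹ = e * v := by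
          rcases hxU v hv with e'' | e''
          · exact absurd e'' hxvv
          · calc x * (e * v) * x⁻¹ = (x * e * x⁻¹) * (x * v * x⁻¹) := by group
              _ = e * z * (v * z) := by rw [hfe, e'']
              _ = e * v := by
                rw [mul_assoc, ← mul_assoc z v, hUc z hzU v hv, mul_assoc v z, hsq z hzU, mul_one]
        have hcy : ∀ y ∈ (P : Subgroup G), y * (e * v) = e * v * y := by
          intro y hy
          have hP0c : ∀ a ∈ P0, a * (e * v) = e * v * a := fun a ha => by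
            rw [← mul_assoc, hec a ha, mul_assoc, ((hP0m a).1 ha).2, ← mul_assoc]
          rcases hcases y hy with h | h
          · exact hP0c y h
          · have h' := (show Commute x (e * v) from mul_inv_eq_iff_eq_mul.1 hxev).mul_left
              (show Commute (x⁻¹ * y) (e * v) from hP0c _ h)
            rwa [mul_inv_cancel_left] at h'
        have hev2 : e * v * (e * v) = 1 := by
          rw [mul_assoc, ← mul_assoc v, ← hev, mul_assoc e v, ← mul_assoc e e, he2, hsq v hv, one_mul]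
        rcases hzC _ hev2 (mul_mem heP (hUP hv)) hcy with h | h
        · exact heU (by rw [eq_inv_of_mul_eq_one_left h]; exact inv_mem hv)
        · exact heU (by rw [← mul_inv_cancel_right e v, h]; exact mul_mem hzU (inv_mem hv))
    refine hinv _ (hnorm w (hUP0 hw)) ?_ fun a ha => ?_
    · calc s * w * s⁻¹ * (s * w * s⁻¹) = s * (w * w) * s⁻¹ := by group
        _ = 1 := by rw [hsq w hw]; group
    · have ha' : s⁻¹ * a * s ∈ P0 := by
        have h := (Subgroup.normal_of_index_eq_two hidx).conj_mem ⟨a, hP0S ha⟩ ha ⟨s⁻¹, inv_mem hs⟩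
        simpa [Subgroup.mem_subgroupOf] using h
      have hwc : (s⁻¹ * a * s) * w = w * (s⁻¹ * a * s) := by
        obtain ⟨haP, hav⟩ := (hP0m _).1 ha'
        rcases hall w hw with e | e | e | e <;> rw [e]
        · rw [mul_one, one_mul]
        · exact hav
        · have c1 : Commute (s⁻¹ * a * s) v := hav
          have c2 : Commute (s⁻¹ * a * s) z := mul_inv_eq_iff_eq_mul.1 (hfixz _ haP)
          have : x * v * x⁻¹ = v * z := by rw [hz, ← mul_assoc, hsq v hv, one_mul]
          rw [this]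
          exact (c1.mul_right c2).eq
        · rw [← hz]; exact mul_inv_eq_iff_eq_mul.1 (hfixz _ haP)
      calc a * (s * w * s⁻¹) = s * ((s⁻¹ * a * s) * w) * s⁻¹ := by group
        _ = s * w * s⁻¹ * a := by rw [hwc]; group
  -- the centralizers of the involutions of `U` generate `K`
  have hcoU : (Nat.card U).Coprime (Nat.card K) := by
    rw [h4, show (4 : ℕ) = 2 ^ 2 from rfl]
    exact (Nat.coprime_two_left.2 hK).pow_left 2
  have hgen := Solv.gen_eq U K ⟨⟨fun a b => Subtype.ext (hUc a a.2 b b.2)⟩⟩ hUK hcoU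
  intro w hw
  rw [Subgroup.mem_centralizer_iff]
  intro k hk
  have hle : K ≤ Subgroup.centralizer ({w} : Set G) := by
    rw [← hgen]
    refine iSup₂_le fun B hB k hk => ?_
    obtain ⟨v, hvB, hv1⟩ : ∃ v ∈ B, v ≠ 1 := by
      by_contra hcon
      push Not at hcon
      obtain ⟨-, a, ha, hsup⟩ := hB
      rw [(Subgroup.eq_bot_iff_forall B).2 hcon, bot_sup_eq] at hsup
      have h5 : Nat.card (Subgroup.zpowers a) ≤ 2 := by
        rw [Nat.card_zpowers]; exact orderOf_le_of_pow_eq_one two_pos ((pow_two a).trans (hsq a ha))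
      rw [hsup, h4] at h5
      omega
    have hkv : k * v = v * k := (Subgroup.mem_centralizer_iff.1 hk.2 v hvB).symm
    rw [Subgroup.mem_centralizer_singleton_iff]
    have hmemQ := hcore v (hB.1 hvB) hv1 hw
    obtain ⟨Q, hQ⟩ : ∃ Q, Q = (Cfsg.pCore 2 ↥(Subgroup.centralizer ({v} : Set G))).map
      (Subgroup.centralizer ({v} : Set G)).subtype := ⟨_, rfl⟩
    rw [← hQ] at hmemQ
    have hQ2 : IsPGroup 2 Q := hQ ▸ (isPGroup_pCore 2 _).map _
    have hQconj : k * w * k⁻¹ ∈ Q := by
      rw [hQ] at hmemQ ⊢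
      obtain ⟨q, hq, rfl⟩ := hmemQ
      exact ⟨⟨k, Subgroup.mem_centralizer_singleton_iff.2 hkv⟩ * q * ⟨k, Subgroup.mem_centralizer_singleton_iff.2 hkv⟩⁻¹,
        Subgroup.Normal.conj_mem inferInstance q hq _, rfl⟩
    have hcQ : ⁅k, w⁆ ∈ Q := by rw [commutatorElement_def]; exact mul_mem hQconj (inv_mem hmemQ)
    have hcK : ⁅k, w⁆ ∈ K := by
      rw [show ⁅k, w⁆ = k * (w * k⁻¹ * w⁻¹) by rw [commutatorElement_def]; group]
      exact mul_mem hk.1 ((Subgroup.mem_normalizer_iff.1 (hUK hw) _).1 (inv_mem hk.1))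
    refine commutatorElement_eq_one_iff_mul_comm.1 ?_
    obtain ⟨m, hm⟩ := IsPGroup.iff_orderOf.1 hQ2 ⟨_, hcQ⟩
    rw [← Subgroup.orderOf_coe] at hm
    change orderOf ⁅k, w⁆ = 2 ^ m at hm
    have hd : orderOf ⁅k, w⁆ ∣ Nat.card K := by
      have := orderOf_dvd_natCard (⟨⁅k, w⁆, hcK⟩ : K)
      rwa [← Subgroup.orderOf_coe] at this
    exact orderOf_eq_one_iff.1 (Nat.eq_one_of_dvd_coprimes ((Nat.coprime_two_left.2 hK).pow_left m) (hm ▸ dvd_rfl) hd)
  exact Subgroup.mem_centralizer_singleton_iff.1 (hle hk)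

end Cfsg.Agent.S1957
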