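import Cfsg.Statements.S1966
import Cfsg.Agent.Lib.Fusion.Cores

set_option autoImplicit false
open Cfsg

namespace Cfsg.Agent.S1966

/-- Let p be a prime, G a finite group with Sylow p-subgroup S and 𝓕 a conjugation family for S in G. Then the members of 𝓕 containing O_p(G) still form a conjugation family for S in G. -/
theorem result {G : Type*} [Group G] [Finite G] {p : ℕ} [Fact p.Prime] (S : Sylow p G) (𝓕 : Set (Subgroup G)) (h : Cfsg.IsConjugationFamily 𝓕 (S : Subgroup G)) : Cfsg.IsConjugationFamily {T : Subgroup G | T ∈ 𝓕 ∧ Cfsg.pCore p G ≤ T} (S : Subgroup G) := by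
  refine ⟨fun T hT => h.1 T hT.1, fun A g hne hA hAg => ?_⟩
  have hO : pCore p G ≤ (S : Subgroup G) := Fusion.pCore_le_sylow S
  have hfix : ∀ x : G, ∀ a ∈ pCore p G, x * a * x⁻¹ ∈ pCore p G := fun x a ha =>
    (Cfsg.pCore_normal p G).conj_mem a ha x
  obtain ⟨n, T, x, hp, hT, hx, h0, hstep⟩ :=
    h.2 (A ∪ (pCore p G : Set G)) g hne.inl (Set.union_subset hA hO) (by
      rw [Set.image_union]
      refine Set.union_subset hAg ?_
      rintro _ ⟨a, ha, rfl⟩
      exact hO (by simpa using hfix g⁻¹ a ha))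
  refine ⟨n, T, x, hp, fun i => ⟨hT i, ?_⟩, hx,
    fun hn => Set.subset_union_left.trans (h0 hn),
    fun i hi => (Set.image_mono Set.subset_union_left).trans (hstep i hi)⟩
  obtain ⟨j, hj⟩ := i
  rcases j with _ | j
  · exact Set.subset_union_right.trans (h0 hj)
  · intro a ha
    refine hstep ⟨j, by omega⟩ hj
      ⟨((List.ofFn x).take (j + 1)).prod * a * (((List.ofFn x).take (j + 1)).prod)⁻¹,
        Or.inr (hfix _ a ha), by simp [mul_assoc]⟩

end Cfsg.Agent.S1966
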