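import Cfsg.Statements.S1967
import Cfsg.Agent.Lib.Fusion.WellPlaced

set_option autoImplicit false
open Cfsg

namespace Cfsg.Agent.S1967

/-- Let p be a prime, G a finite group with Sylow p-subgroup S and W a conjugacy functor for p on G. Then W controls strong fusion in G if and only if, whenever T ≤ S and g ∈ G satisfy gTg⁻¹ ≤ S, one can write g = n c with n ∈ N_G(W(S)) and c ∈ C_G(T). -/
theorem result {G : Type*} [Group G] [Finite G] {p : ℕ} [Fact p.Prime] (S : Sylow p G) (W : Subgroup G → Subgroup G) (hW : Cfsg.IsConjugacyFunctor p W) : Cfsg.ControlsStrongFusionIn p W ⊤ ↔ ∀ (T : Subgroup G) (g : G), T ≤ (S : Subgroup G) → T.map (MulAut.conj g).toMonoidHom ≤ (S : Subgroup G) → ∃ n ∈ Subgroup.normalizer ((W (S : Subgroup G) : Subgroup G) : Set G), ∃ c ∈ Subgroup.centralizer (T : Set G), g = n * c := by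
  have hS := Fusion.sylIn_top S
  constructor
  · rintro ⟨T₀, -, hT₀p, hT₀i, h⟩ T g hT hTg
    have hT₀ : Fusion.SylIn p T₀ ⊤ := ⟨le_top, hT₀p, hT₀i⟩
    obtain ⟨c, -, hc⟩ := hS.conj_eq hT₀
    obtain ⟨x, hx, hxA⟩ := h ((Fusion.cj T c : Subgroup G) : Set G) (c * g * c⁻¹) trivial
      (by rw [← hc]; exact Fusion.cj_mono hT c) (by
        rintro _ ⟨a, ha, rfl⟩
        rw [← hc, SetLike.mem_coe, Fusion.mem_cj]
        have h1 := hTg (Fusion.conj_mem_cj (g := g) (Fusion.mem_cj.1 ha))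
        simpa [mul_assoc] using h1)
    have hWc : W T₀ = Fusion.cj (W (S : Subgroup G)) c := by
      rw [← hc]; exact Fusion.conjFunctor_cj hW S.isPGroup' c
    refine ⟨c⁻¹ * x * c, ?_, (c⁻¹ * x * c)⁻¹ * g, ?_, by simp [mul_assoc]⟩
    · have h2 : x ∈ Fusion.cj (Subgroup.normalizer (W (S : Subgroup G) : Set G)) c := by
        rw [Fusion.cj_normalizer, ← hWc]; exact hx.2
      exact Fusion.mem_cj.1 h2
    · rw [Fusion.mem_centralizer_set]
      intro t ht
      have h3 := hxA _ (Fusion.conj_mem_cj (g := c) ht)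
      have h4 := congrArg (fun z => c⁻¹ * x⁻¹ * z * x * c) h3
      simp only [mul_assoc, mul_inv_rev, inv_inv, inv_mul_cancel_left, mul_inv_cancel_left,
        inv_mul_cancel, mul_one] at h4
      simp only [mul_inv_rev, inv_inv, mul_assoc]
      exact h4.symm
  · intro h
    refine ⟨(S : Subgroup G), le_top, S.isPGroup', hS.not_dvd, fun A g _ hA hgA => ?_⟩
    have h1 : (Subgroup.closure A).map (MulAut.conj g).toMonoidHom ≤ (S : Subgroup G) := by
      rw [MonoidHom.map_closure, Subgroup.closure_le]; exact hgA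
    obtain ⟨n, hn, c, hc, rfl⟩ := h (Subgroup.closure A) g ((Subgroup.closure_le _).2 hA) h1
    refine ⟨n, ⟨trivial, hn⟩, fun a ha => ?_⟩
    have h2 := Fusion.mem_centralizer_set.1 hc a (Subgroup.subset_closure ha)
    calc n * a * n⁻¹ = n * (c * a * c⁻¹) * n⁻¹ := by rw [h2]
      _ = n * c * a * (n * c)⁻¹ := by simp [mul_assoc]

end Cfsg.Agent.S1967
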