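import Cfsg.Statements.S1968
import Cfsg.Agent.Lib.Fusion.LocalGlobal
import Cfsg.Agent.Lib.Solv.Basic

set_option autoImplicit false
open Cfsg
open Cfsg.Agent.Fusion
open scoped commutatorElement

namespace Cfsg.Agent.S1968

/-- Let p be a prime, G a finite group with Sylow p-subgroup S and W a conjugacy functor for p on G with Z(P) ≤ W(P) for every p-subgroup P. Let A be a subgroup of Z(S) normalized by N_G(W(S)) that is not weakly closed in S with respect to G. Then there is a subgroup T of S, well placed in S with respect to W, such that: A ≤ T; N_G(W(N_S(T))) normalizes A; N_S(T) is a Sylow p-subgroup of N_G(T); A ≤ Z(N_S(T)); and A is not weakly closed in N_S(T) with respect to N_G(T), that is, some N_G(T)-conjugate of A other than A lies in N_S(T). -/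
theorem result {G : Type*} [Group G] [Finite G] {p : ℕ} [Fact p.Prime] (S : Sylow p G) (W : Subgroup G → Subgroup G) (hW : Cfsg.IsConjugacyFunctor p W) (hWZ : ∀ P : Subgroup G, IsPGroup p ↥P → P ⊓ Subgroup.centralizer (P : Set G) ≤ W P) (A : Subgroup G) (hAZ : A ≤ (S : Subgroup G) ⊓ Subgroup.centralizer ((S : Subgroup G) : Set G)) (hAN : Subgroup.normalizer ((W (S : Subgroup G) : Subgroup G) : Set G) ≤ Subgroup.normalizer ((A : Subgroup G) : Set G)) (hnwc : ¬ Cfsg.IsWeaklyClosed A (S : Subgroup G)) : ∃ T : Subgroup G, Cfsg.IsWellPlaced p W (S : Subgroup G) T ∧ A ≤ T ∧ Subgroup.normalizer ((W ((S : Subgroup G) ⊓ Subgroup.normalizer ((T : Subgroup G) : Set G)) : Subgroup G) : Set G) ≤ Subgroup.normalizer ((A : Subgroup G) : Set G) ∧ ¬ p ∣ ((S : Subgroup G) ⊓ Subgroup.normalizer ((T : Subgroup G) : Set G)).relIndex (Subgroup.normalizer ((T : Subgroup G) : Set G)) ∧ A ≤ Subgroup.centralizer (((S : Subgroup G) ⊓ Subgroup.normalizer ((T : Subgroup G) : Set G) : Subgroup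 G) : Set G) ∧ ∃ g ∈ Subgroup.normalizer ((T : Subgroup G) : Set G), A.map (MulAut.conj g).toMonoidHom ≤ (S : Subgroup G) ⊓ Subgroup.normalizer ((T : Subgroup G) : Set G) ∧ A.map (MulAut.conj g).toMonoidHom ≠ A := by
  classical
  have hS : SylIn p (S : Subgroup G) ⊤ := sylIn_top S
  have hAS : A ≤ (S : Subgroup G) := hAZ.trans inf_le_left
  set R : Subgroup G → G → Prop := fun T x => Cfsg.IsWellPlaced p W (S : Subgroup G) T ∧
    x ∈ Subgroup.normalizer (T : Set G) with hR
  have hex : ∃ T, Cfsg.IsWellPlaced p W (S : Subgroup G) T ∧ A ≤ T ∧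
      ∃ n ∈ Subgroup.normalizer (T : Set G), cj A n ≠ A := by
    obtain ⟨g, hg, hne⟩ : ∃ g : G, cj A g ≤ (S : Subgroup G) ∧ cj A g ≠ A := by
      by_contra hc
      push Not at hc
      exact hnwc ⟨hAS, hc⟩
    have hch : Chain R (A : Set G) g⁻¹ := by
      refine chain_of_local hS (fun T x h => ⟨h.2, h.1, inv_mem h.2⟩) (fun X hX => ?_) hAS ?_
      · obtain ⟨c, hc, hcS, hsyl⟩ := exists_wellPlaced_top hS hW X hX
        exact ⟨cj X c, c, rfl, hcS, hsyl, fun n hn _ => Chain.single ⟨hc, hn⟩ subset_rfl⟩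
      · rw [rcj_coe, inv_inv]; exact hg
    have aux : ∀ (B : Set G) (h : G), Chain R B h → B = A → cj A h⁻¹ ≠ A →
        ∃ T, Cfsg.IsWellPlaced p W (S : Subgroup G) T ∧ A ≤ T ∧
          ∃ n ∈ Subgroup.normalizer (T : Set G), cj A n ≠ A := by
      intro B h hB
      induction hB with
      | nil B => intro _ h1; rw [inv_one, cj_one] at h1; exact absurd rfl h1
      | @cons B g T x hx hBT _ ih =>
        intro hB hne
        subst hB
        by_cases hxA : cj A x⁻¹ = A
        · refine ih (by rw [rcj_coe, hxA]) ?_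
          rwa [mul_inv_rev, ← cj_cj, hxA] at hne
        · exact ⟨T, hx.1, hBT, x⁻¹, inv_mem hx.2, hxA⟩
    exact aux _ _ hch rfl (by rwa [inv_inv])
  have := Fintype.ofFinite (Subgroup G)
  let f : Subgroup G → ℕ := fun T => Nat.card ((S : Subgroup G) ⊓ Subgroup.normalizer (T : Set G) : Subgroup G)
  obtain ⟨T, hTmem, hmax⟩ := Finset.exists_max_image
    (Finset.univ.filter fun T => Cfsg.IsWellPlaced p W (S : Subgroup G) T ∧ A ≤ T ∧
      ∃ n ∈ Subgroup.normalizer (T : Set G), cj A n ≠ A) f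
    (by obtain ⟨T, hT⟩ := hex; exact ⟨T, Finset.mem_filter.2 ⟨Finset.mem_univ _, hT⟩⟩)
  obtain ⟨hwp, hAT, n, hn, hnA⟩ := (Finset.mem_filter.1 hTmem).2
  set Q := (S : Subgroup G) ⊓ Subgroup.normalizer (T : Set G) with hQ
  have hQp : IsPGroup p Q := S.2.to_le inf_le_left
  have hTQ : T ≤ Q := le_inf hwp.1 Subgroup.le_normalizer
  have hAc : A ≤ Subgroup.centralizer (Q : Set G) :=
    (hAZ.trans inf_le_right).trans (Subgroup.centralizer_le (SetLike.coe_subset_coe.2 inf_le_left))
  refine ⟨T, hwp, hAT, ?_, hwp.2 0, hAc, n, hn, ?_, hnA⟩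
  · by_contra hc
    obtain ⟨m, hm, hmA⟩ := SetLike.not_le_iff_exists.1 hc
    have hAW : A ≤ W Q := le_trans (le_inf (hAT.trans hTQ) hAc) (hWZ Q hQp)
    have hQS : Q ≠ (S : Subgroup G) := fun e => hmA (hAN (by rw [← e]; exact hm))
    obtain ⟨y, hy, hyQ⟩ := SetLike.exists_of_lt (SylIn.normalizer_growth (inf_le_left : Q ≤ _) hQS S.2)
    have hlt : f T < f (W Q) := by
      refine Cfsg.Agent.Solv.card_lt_of_lt (lt_of_le_of_ne (le_inf inf_le_left (Subgroup.le_normalizer.trans
        (conjFunctor_normalizer_le hW hQp))) fun e => hyQ ?_)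
      rw [e]
      exact ⟨hy.1, conjFunctor_normalizer_le hW hQp hy.2⟩

    refine hlt.not_ge (hmax (W Q) (Finset.mem_filter.2 ⟨Finset.mem_univ _, ⟨?_, fun i => ?_⟩, hAW, m, hm,
      fun e => hmA (mem_normalizer_iff_cj.2 e)⟩))
    · exact (conjFunctor_le hW hQp).trans inf_le_left
    · have h1 := hwp.2 (i + 1)
      rwa [functorTower_shift] at h1
  · exact (cj_mono hAT n).trans ((cj_eq_self hn).le.trans hTQ)

end Cfsg.Agent.S1968
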