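import Cfsg.Statements.S1969
import Cfsg.Agent.Lib.Fusion.Reduction

set_option autoImplicit false
universe u
open Cfsg
open Cfsg.Agent.Fusion
open scoped commutatorElement

namespace Cfsg.Agent.S1969

/-- Let p be a prime, G a finite group and W an isomorphism-invariant p-group functor (W assigns to every group Q a subgroup W(Q), nontrivial whenever Q is a nontrivial finite p-group, and every isomorphism from a finite p-group Q onto a group R carries W(Q) onto W(R)). Suppose that W(S*) is normal in G* whenever G* = K/R is a section of G with C_{G*}(O_p(G*)) ≤ O_p(G*) and S* is a Sylow p-subgroup of G*. Then W controls strong fusion in every section of G: for every section K/R and every Sylow p-subgroup T of K/R, the subgroup W(T) controls strong fusion in K/R. -/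
theorem result {G : Type u} [Group G] [Finite G] {p : ℕ} [Fact p.Prime] (W : ∀ (Q : Type u) [Group Q], Subgroup Q) (hW : Cfsg.IsCharPFunctor.{u} p W) (hloc : ∀ (K R : Subgroup G) [hR : (R.subgroupOf K).Normal], Subgroup.centralizer ((Cfsg.pCore p (↥K ⧸ R.subgroupOf K) : Subgroup (↥K ⧸ R.subgroupOf K)) : Set (↥K ⧸ R.subgroupOf K)) ≤ Cfsg.pCore p (↥K ⧸ R.subgroupOf K) → ∀ T : Sylow p (↥K ⧸ R.subgroupOf K), (Cfsg.inducedFunctor (G := (↥K ⧸ R.subgroupOf K)) W ((T : Subgroup (↥K ⧸ R.subgroupOf K)))).Normal) : ∀ (K R : Subgroup G) [hR : (R.subgroupOf K).Normal], ∀ T : Sylow p (↥K ⧸ R.subgroupOf K), Cfsg.ControlsStrongFusion p (Cfsg.inducedFunctor (G := (↥K ⧸ R.subgroupOf K)) W ((T : Subgroup (↥K ⧸ R.subgroupOf K)))) := by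
  intro K R hR T
  have h𝓦 : ∀ W' ∈ ({W} : Set (∀ (Q : Type u) [Group Q], Subgroup Q)),
      Cfsg.IsCharPFunctor.{u} p W' := by
    rintro W' hW'; rw [Set.mem_singleton_iff.1 hW']; exact hW
  have hfam := familyFus_sections h𝓦 (G := G) (fun X _ _ hX hc => by
    obtain ⟨K', R', hR', ⟨e⟩⟩ := hX
    refine familyFus_of_equiv h𝓦 e ?_
    obtain ⟨T'⟩ : Nonempty (Sylow p (K' ⧸ R'.subgroupOf K')) := inferInstance
    refine (familyFus_iff _).2 ⟨_, sylIn_top T', fun A h _ hA hhA => ?_⟩
    haveI hn := hloc K' R' (hR := hR') (centralizer_pCore_equiv e hc) T'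
    exact fus_step hA ⟨_, ⟨W, rfl, rfl⟩, trivial, by rw [Subgroup.normalizer_eq_top]; trivial⟩ hhA)
    (↥K ⧸ R.subgroupOf K) ⟨K, R, hR, ⟨MulEquiv.refl _⟩⟩
  rw [Set.image_singleton] at hfam
  obtain ⟨T₀, hT₀, hf⟩ := (familyFus_iff _).1 hfam
  have hf' := hf.sylow (fun W' hW' => by
    rw [Set.mem_singleton_iff.1 hW']; exact isConjugacyFunctor_induced hW) hT₀ (sylIn_top T)
  refine ⟨T, inducedFunctor_le W _, fun A hA => ⟨hA, fun g hg => ?_⟩⟩
  obtain ⟨x, hx, he⟩ := (famFusAt_singleton _ _ _).1 hf' A g trivial hA hg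
  exact ⟨x, hx.2, fun a ha => (he a ha).symm⟩

end Cfsg.Agent.S1969
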