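import Cfsg.Statements.S1970
import Cfsg.Agent.Lib.Fusion.TransferInduction

set_option autoImplicit false
universe u
open Cfsg
open Cfsg.Agent.Fusion
open scoped commutatorElement

namespace Cfsg.Agent.S1970

/-- Let p be a prime, G a finite group and W an isomorphism-invariant p-group functor (W assigns to every group Q a subgroup W(Q), nontrivial whenever Q is a nontrivial finite p-group, and every isomorphism from a finite p-group Q onto a group R carries W(Q) onto W(R)). Suppose that for every section G* = K/R of G with C_{G*}(O_p(G*)) ≤ O_p(G*) and every Sylow p-subgroup S* of G*, one has O_p(G*) ∩ (G*)' = O_p(G*) ∩ (N_{G*}(W(S*)))'. Then W controls transfer in every section G* of G: S* ∩ (G*)' = S* ∩ (N_{G*}(W(S*)))' for a Sylow p-subgroup S* of G*. -/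
theorem result {G : Type u} [Group G] [Finite G] {p : ℕ} [Fact p.Prime] (W : ∀ (Q : Type u) [Group Q], Subgroup Q) (hW : Cfsg.IsCharPFunctor.{u} p W) (hloc : ∀ (K R : Subgroup G) [hR : (R.subgroupOf K).Normal], Subgroup.centralizer ((Cfsg.pCore p (↥K ⧸ R.subgroupOf K) : Subgroup (↥K ⧸ R.subgroupOf K)) : Set (↥K ⧸ R.subgroupOf K)) ≤ Cfsg.pCore p (↥K ⧸ R.subgroupOf K) → ∀ T : Sylow p (↥K ⧸ R.subgroupOf K), Cfsg.pCore p (↥K ⧸ R.subgroupOf K) ⊓ commutator (↥K ⧸ R.subgroupOf K) = Cfsg.pCore p (↥K ⧸ R.subgroupOf K) ⊓ ⁅Subgroup.normalizer ((Cfsg.inducedFunctor (G := (↥K ⧸ R.subgroupOf K)) W ((T : Subgroup (↥K ⧸ R.subgroupOf K))) : Subgroup (↥K ⧸ R.subgroupOf K)) : Set (↥K ⧸ R.subgroupOf K)), Subgroup.normalizer ((Cfsg.inducedFunctor (G := (↥K ⧸ R.subgroupOf K)) W ((T : Subgroup (↥K ⧸ R.subgroupOf K))) : Subgroup (↥K ⧸ R.subgroupOf K)) : Set (↥K ⧸ R.subgroupOf K))⁆) : ∀ (K R : Subgroup G) [hR : (R.subgroupOf K).Normal], Cfsg.ControlsTransferIn p (Cfsg.inducedFunctor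 (G := (↥K ⧸ R.subgroupOf K)) W) ⊤ := by
  intro K R hR
  refine controlsTransfer_section hW (fun X _ _ hX => ?_) K R
  refine familyTransfer_sections_ind (isCharPFunctor_singleton hW) (G := G)
    (fun K R _ hc hsub hquot => ?_) X hX
  obtain ⟨T⟩ : Nonempty (Sylow p (↥K ⧸ R.subgroupOf K)) := inferInstance
  have hT := sylIn_top T
  set Y := ↥K ⧸ R.subgroupOf K
  by_cases hSQ : (T : Subgroup Y) = Cfsg.pCore p Y
  · refine familyTransfer_of_normal hT (Subgroup.normalizer_eq_top_iff.1 (top_le_iff.1 ?_))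
    haveI : (T : Subgroup Y).Normal := hSQ ▸ inferInstance
    exact (Subgroup.normalizer_eq_top (H := (T : Subgroup Y))).ge.trans
      (conjFunctor_normalizer_le (isConjugacyFunctor_induced hW) hT.isPGroup)
  have hQne : Cfsg.pCore p Y ≠ ⊥ := fun h => hSQ (by
    have h1 : (⊤ : Subgroup Y) ≤ Cfsg.pCore p Y := le_trans (fun x _ => ?_) hc
    · rw [h, le_bot_iff] at h1
      rw [h]
      exact le_bot_iff.1 (le_top.trans h1.le)
    · rw [h, mem_centralizer_set]
      intro s hs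
      simp [Subgroup.mem_bot.1 hs])
  refine (familyTransfer_iff _).2 ⟨_, hT, famTrans_of_core (isCharPFunctor_singleton hW) hT hsub
    (hquot _ hQne) hSQ fun q hq hqG => ?_⟩
  rw [famTransPart_singleton]
  exact ⟨pCore_le_sylIn hT hq, ((hloc K R hc T).le ⟨hq, hqG⟩).2⟩

end Cfsg.Agent.S1970
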