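import Cfsg.Statements.S1981
import Cfsg.Agent.Lib.Fusion.KInfMap

set_option autoImplicit false
open Cfsg
open Cfsg.Agent.Fusion
open scoped commutatorElement

namespace Cfsg.Agent.S1981

/-- Let P be a finite p-group generated by its abelian normal subgroups. Then both K-infinity subgroups of P equal P. -/
theorem result {P : Type*} [Group P] [Finite P] {p : ℕ} [Fact p.Prime] (hP : IsPGroup p P) (hgen : ⨆ A ∈ {A : Subgroup P | A.Normal ∧ IsMulCommutative ↥A}, A = ⊤) : Cfsg.kInfLower P = ⊤ ∧ Cfsg.kInfUpper P = ⊤ := by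
  have key : ∀ (R : Subgroup P), sSup (kLowerStarFamily R) = ⊤ ∧ sSup (kUpperStarFamily R) = ⊤ := by
    intro R
    constructor <;> refine top_le_iff.1 (hgen.ge.trans (iSup₂_le ?_)) <;>
      rintro A ⟨hAn, hA⟩ <;> haveI := hAn
    · exact le_sSup (abelian_normal_mem (Subgroup.le_centralizer_iff_isMulCommutative.2 hA) R).2.1
    · exact le_sSup (abelian_normal_mem (Subgroup.le_centralizer_iff_isMulCommutative.2 hA) R).2.2
  refine ⟨top_le_iff.1 ((key _).1.ge.trans (kSeqEven_le_kInfLower 0)), top_le_iff.1 (le_iInf fun n => ?_)⟩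
  rcases n with _ | n
  · exact le_top
  · exact (key (kSeqEven P n)).2.ge

end Cfsg.Agent.S1981
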