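import Cfsg.Statements.S1985
import Cfsg.Agent.Lib.Fusion.KInfControl
import Cfsg.Agent.S1973

set_option autoImplicit false
universe u
open Cfsg
open Cfsg.Agent.Fusion
open scoped commutatorElement

namespace Cfsg.Agent.S1985

/-- Let p be an odd prime and G a finite group. Then the lower K-infinity subgroup controls weak closure of elements in G: the lower K-infinity subgroup of every p-subgroup P of G contains Z(P), and for some (equivalently, every) Sylow p-subgroup S of G, with K the lower K-infinity subgroup of S, every element of S commuting with all of N_G(K) is weakly closed in S with respect to G (every G-conjugate of it lying in S equals it). -/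
theorem result {G : Type u} [Group G] [Finite G] {p : ℕ} [Fact p.Prime] (hp : p ≠ 2) : Cfsg.ControlsWeakClosureOfElementsIn p (Cfsg.inducedFunctor (G := G) Cfsg.kInfLower) ⊤ := by
  refine Cfsg.Agent.S1973.result (Cfsg.inducedFunctor Cfsg.kInfLower)
    (isConjugacyFunctor_induced (isCharPFunctor_kInfLower p)) zOf_le_inducedFunctor_kInfLower
    (fun H T hTH hT hidx hn => ?_) ⊤
  obtain ⟨g, hg, hgO, -, hq⟩ := kInfLower_element_in ⟨hTH, hT, hidx⟩ hn
  refine ⟨g, hg, hgO, fun U V _ hU => ?_⟩
  have h2 : Cfsg.iterCommutator (U.map H.subtype) (Subgroup.zpowers g) 2 = ⊥ :=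
    le_bot_iff.1 (((Subgroup.commutator_mono (Subgroup.commutator_mono hU le_rfl) le_rfl)).trans
      hq.le)
  have h2p : 2 ≤ p - 1 := by
    have := (Fact.out : p.Prime).two_le
    omega
  clear hU
  suffices h : ∀ n, 2 ≤ n → Cfsg.iterCommutator (U.map H.subtype) (Subgroup.zpowers g) n = ⊥ from
    (h _ h2p).le.trans bot_le
  intro n hn'
  induction n, hn' using Nat.le_induction with
  | base => exact h2
  | succ n _ ih =>
    show ⁅Cfsg.iterCommutator (U.map H.subtype) (Subgroup.zpowers g) n, Subgroup.zpowers g⁆ = ⊥
    rw [ih, Subgroup.commutator_bot_left]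

end Cfsg.Agent.S1985
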