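import Cfsg.Statements.S1989
import Cfsg.Agent.Lib.Fusion.StableFusion
import Cfsg.Agent.Lib.Fusion.QdFree
import Cfsg.Agent.Lib.Fusion.QdNoControl

set_option autoImplicit false
universe u
open Cfsg
open Cfsg.Agent.Fusion
open scoped commutatorElement

namespace Cfsg.Agent.S1989

/-- Let p be an odd prime and G a finite group. Then Qd(p) (the natural semidirect product of an elementary abelian group of order p² by SL₂(p)) is not involved in G if and only if, in every section K/R of G and for every Sylow p-subgroup T of K/R, the lower K-infinity subgroup of T controls strong fusion in K/R. -/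
theorem result {G : Type u} [Group G] [Finite G] {p : ℕ} [Fact p.Prime] (hp : p ≠ 2) : ¬ Cfsg.Involves ↥(Cfsg.qd p) G ↔ ∀ (K R : Subgroup G) [hR : (R.subgroupOf K).Normal], ∀ T : Sylow p (↥K ⧸ R.subgroupOf K), Cfsg.ControlsStrongFusion p (Cfsg.inducedFunctor (G := (↥K ⧸ R.subgroupOf K)) Cfsg.kInfLower (T : Subgroup (↥K ⧸ R.subgroupOf K))) := by
  constructor
  · intro hfree K R hR T
    haveI := hR
    set Y := ↥K ⧸ R.subgroupOf K
    have hY : Cfsg.Involves Y G := involves_section involves_refl K R
    exact controlsStrongFusion_of_normal (isCharPFunctor_kInfLower p)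
      (fun X _ _ hX hc S hS => (kInf_normal_of_stable hS hc fun N _ =>
        isNormalizerPStable_of_qd_free hp fun h => hfree (involves_trans h (involves_trans
          (involves_surjective hX (QuotientGroup.mk' N) (QuotientGroup.mk'_surjective N)) hY))).1) T
  · rintro hctl ⟨K, R, hR, ⟨e⟩⟩
    haveI := hR
    obtain ⟨T⟩ : Nonempty (Sylow p (↥K ⧸ R.subgroupOf K)) := inferInstance
    obtain ⟨T', -, hf⟩ := hctl K R T
    refine not_familyControls_qd e (𝓦 := {Cfsg.kInfLower}) (fun W hW => by
      rw [Set.mem_singleton_iff.1 hW]; exact isCharPFunctor_kInfLower p) _ ⟨T, rfl⟩ fun A g hA hg => ?_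
    obtain ⟨x, hx, hxe⟩ := (hf A (hA T')).2 g (hg T')
    refine ⟨1, ![1, x], rfl, fun i => ⟨_, rfl, ?_⟩, fun a ha => ?_⟩
    · fin_cases i
      simpa using hx
    · simpa using (hxe a ha).symm

end Cfsg.Agent.S1989
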