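import Cfsg.Statements.S1990
import Cfsg.Agent.Lib.Fusion.StableSmall
import Cfsg.Agent.Lib.Fusion.NPCFunctor
import Cfsg.Agent.Lib.Fusion.LocalGlobal

set_option autoImplicit false
universe u
open Cfsg
open Cfsg.Agent.Fusion
open scoped commutatorElement

namespace Cfsg.Agent.S1990

universe v

theorem layered_of_coatom {X : Type v} [Group X] [Finite X] {p : ℕ} [Fact p.Prime]
    (hq : HasNormalPComplement p (X ⧸ pCore p X)) {T : Subgroup X} (hT : SylIn p T ⊤)
    (hco : IsCoatom T) : IsAbelianLayered p X := by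
  set Q := pCore p X
  set ρ := QuotientGroup.mk' Q
  have hρ : Function.Surjective ρ := QuotientGroup.mk'_surjective Q
  have hcomapT : (T.map ρ).comap ρ = T := by
    rw [QuotientGroup.comap_map_mk', sup_eq_right.2 (pCore_le_sylIn hT)]
  have hco' : IsCoatom (T.map ρ) := ⟨fun h => hco.1 (by rw [← hcomapT, h, Subgroup.comap_top]),
    fun L hL => by
      have h3 : (L.comap ρ) = ⊤ := hco.2 _ (lt_of_le_of_ne
        (hcomapT.ge.trans (Subgroup.comap_mono hL.le)) fun h => hL.ne
          (Subgroup.comap_injective hρ (hcomapT.trans h)))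
      exact Subgroup.comap_injective hρ (h3.trans (Subgroup.comap_top ρ).symm)⟩
  have hab := pResidual_commutes (sylIn_map_mk (N := Q) hT) hco' hq
  refine ⟨Q, (pResidual p (X ⧸ Q)).comap ρ, Nat.card (pResidual p (X ⧸ Q)), inferInstance,
    Subgroup.Normal.comap inferInstance ρ, isPGroup_pCore p X, hnpc_iff.1 hq,
    fun a ha b hb => (QuotientGroup.eq_one_iff _).1 ?_, fun a ha => (QuotientGroup.eq_one_iff _).1 ?_,
    fun x => ?_⟩
  · show ρ ⁅a, b⁆ = 1
    rw [map_commutatorElement]
    exact commutatorElement_eq_one_iff_mul_comm.2 (hab _ ha _ hb)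
  · show ρ (a ^ _) = 1
    rw [map_pow]
    exact congrArg Subtype.val (pow_card_eq_one' (x := (⟨ρ a, ha⟩ : pResidual p (X ⧸ Q))))
  · obtain ⟨j, hj⟩ := isPGroup_quotient_pResidual (p := p) (G := X ⧸ Q) (QuotientGroup.mk (ρ x))
    refine ⟨j, ?_⟩
    rw [← QuotientGroup.mk_pow, QuotientGroup.eq_one_iff] at hj
    rw [Subgroup.mem_comap, map_pow]
    exact hj

theorem normal_of_strongFusion {X : Type v} [Group X] [Finite X] {p : ℕ} [Fact p.Prime]
    {V : Subgroup X} {T : Subgroup X} (hT : SylIn p T ⊤)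
    (hC : Subgroup.centralizer (pCore p X : Set X) ≤ pCore p X)
    (hV : T ≤ Subgroup.normalizer (V : Set X)) (h : ControlsStrongFusion p V) : V.Normal := by
  obtain ⟨T0, -, hf⟩ := h
  have hQ : (pCore p X : Set X) ⊆ ((T0 : Subgroup X) : Set X) := pCore_le_sylow T0
  refine Subgroup.normalizer_eq_top_iff.1 (top_le_iff.1 fun x _ => ?_)
  obtain ⟨-, hh⟩ := hf _ hQ
  obtain ⟨m, hm, he⟩ := hh x (by
    rintro _ ⟨a, ha, rfl⟩
    exact hQ ((inferInstance : (pCore p X).Normal).conj_mem a ha x))
  have h1 : m⁻¹ * x ∈ pCore p X := hC (mem_centralizer_set.2 fun a ha => by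
    calc m⁻¹ * x * a * (m⁻¹ * x)⁻¹ = m⁻¹ * (x * a * x⁻¹) * m := by group
      _ = m⁻¹ * (m * a * m⁻¹) * m := by rw [he a ha]
      _ = a := by group)
  have := mul_mem hm (hV (pCore_le_sylIn hT h1))
  rwa [mul_inv_cancel_left] at this


/-- Let p be an odd prime, G a finite group with Sylow p-subgroup S, and W an isomorphism-invariant p-group functor (W assigns to every group Q a subgroup W(Q), nontrivial whenever Q is a nontrivial finite p-group, and every isomorphism from a finite p-group Q onto a group R carries W(Q) onto W(R)). Suppose N_G(W(S)) has a normal p-complement, and W(T) controls strong fusion in every section G* = K/R of G all of whose sections are p-stable in the normalizer form, for every Sylow p-subgroup T of G*. Then G has a normal p-complement. -/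
theorem result {G : Type u} [Group G] [Finite G] {p : ℕ} [Fact p.Prime] (hp : p ≠ 2) (W : ∀ (Q : Type u) [Group Q], Subgroup Q) (hW : Cfsg.IsCharPFunctor.{u} p W) (S : Sylow p G) (hN : Cfsg.HasNormalPComplement p ↥(Subgroup.normalizer ((Cfsg.inducedFunctor (G := G) W (S : Subgroup G) : Subgroup G) : Set G))) (hctl : ∀ (K R : Subgroup G) [hR : (R.subgroupOf K).Normal], (∀ (K' R' : Subgroup (↥K ⧸ R.subgroupOf K)) [hR' : (R'.subgroupOf K').Normal], Cfsg.IsNormalizerPStable p (↥K' ⧸ R'.subgroupOf K')) → ∀ T : Sylow p (↥K ⧸ R.subgroupOf K), Cfsg.ControlsStrongFusion p (Cfsg.inducedFunctor (G := (↥K ⧸ R.subgroupOf K)) W (T : Subgroup (↥K ⧸ R.subgroupOf K)))) : Cfsg.HasNormalPComplement p G := by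
  refine hnpc_of_functor_sections hW (G := G) (fun X _ _ hX hc hq T hT => ?_) G involves_refl S hN
  have hlay := layered_of_coatom hq (sylIn_top T) hT
  obtain ⟨K, R, hR, ⟨e⟩⟩ := hX
  set Y := ↥K ⧸ R.subgroupOf K
  obtain ⟨T', hT'⟩ : ∃ T' : Sylow p Y,
      (T' : Subgroup Y) = (T : Subgroup X).map e.symm.toMonoidHom :=
    ⟨T.mapSurjective e.symm.surjective, rfl⟩
  refine inducedFunctor_normal_of_equiv hW e.symm T ?_
  rw [← hT']
  have hY : IsAbelianLayered p Y := hlay.surjective e.symm.toMonoidHom e.symm.surjective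
  refine normal_of_strongFusion (sylIn_top T') (centralizer_pCore_equiv e hc)
    (sylow_le_normalizer_functor (isConjugacyFunctor_induced hW) T'.isPGroup') ?_
  refine hctl K R (hR := hR) (fun K' R' _ => ?_) T'
  exact ((hY.injective K'.subtype K'.subtype_injective).surjective (QuotientGroup.mk' _)
    (QuotientGroup.mk'_surjective _)).stable hp

end Cfsg.Agent.S1990
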