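import Cfsg.Statements.S1992
import Cfsg.Agent.Lib.Fusion.IndexP
import Cfsg.Agent.Lib.Char.Burnside

set_option autoImplicit false
open Cfsg
open Cfsg.Agent.Fusion
open scoped commutatorElement

namespace Cfsg.Agent.S1992

universe v

theorem pgroup_of_index_prime {G : Type v} [Group G] [Finite G]
    (h : ∀ q : ℕ, q.Prime → q ∣ Nat.card G → ∀ Q : Sylow q G,
      Subgroup.normalizer ((Q : Subgroup G) : Set G) = Q)
    {p : ℕ} (hp : p.Prime) {M : Subgroup G} (hM : M.Normal) (hMi : M.index = p) :
    IsPGroup p G := by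
  have hall : ∀ q, q.Prime → q ∣ Nat.card G → q = p := by
    intro q hq hqd
    by_contra hne
    haveI := Fact.mk hq
    obtain ⟨Q⟩ : Nonempty (Sylow q G) := inferInstance
    have hQM : (Q : Subgroup G) ≤ M := by
      intro x hx
      obtain ⟨j, hj⟩ := IsPGroup.iff_orderOf.1 Q.isPGroup' ⟨x, hx⟩
      rw [Subgroup.orderOf_mk] at hj
      haveI := hM
      refine (QuotientGroup.eq_one_iff x).1 ?_
      show QuotientGroup.mk' M x = 1
      refine orderOf_eq_one_iff.1 (Nat.eq_one_of_dvd_coprimes (a := q ^ j) (b := p)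
        ((Nat.coprime_primes hq hp).2 hne |>.pow_left j) (hj ▸ orderOf_map_dvd _ x) ?_)
      rw [← hMi, Subgroup.index_eq_card]
      exact orderOf_dvd_natCard _
    have htop : M = ⊤ := top_le_iff.1 fun x _ => by
      obtain ⟨m, hm, hmx⟩ := frattini_conj ((sylIn_top Q).mono hQM le_top) (H := ⊤)
        (le_top.trans (Subgroup.normalizer_eq_top (H := M)).ge) (Subgroup.mem_top x)
      rw [h q hq hqd Q] at hmx
      have := M.mul_mem (M.inv_mem hm) (hQM hmx)
      rwa [inv_mul_cancel_left] at this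
    rw [htop, Subgroup.index_top] at hMi
    exact hp.ne_one hMi.symm
  haveI := Fact.mk hp
  refine IsPGroup.of_card (n := (Nat.card G).primeFactorsList.length) ?_
  exact Nat.eq_prime_pow_of_unique_prime_dvd Nat.card_pos.ne' (fun {d} hd hdd => hall d hd hdd)

theorem exists_pgroup {G : Type v} [Group G] [Finite G]
    (h : ∀ q : ℕ, q.Prime → q ∣ Nat.card G → ∀ Q : Sylow q G,
      Subgroup.normalizer ((Q : Subgroup G) : Set G) = Q) : ∃ q : ℕ, q.Prime ∧ IsPGroup q G := by
  rcases subsingleton_or_nontrivial G with hs | hn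
  · exact ⟨2, Nat.prime_two, fun g => ⟨0, Subsingleton.elim _ _⟩⟩
  suffices hM : ∃ p, p.Prime ∧ ∃ M : Subgroup G, M.Normal ∧ M.index = p by
    obtain ⟨p, hp, M, hMn, hMi⟩ := hM
    exact ⟨p, hp, pgroup_of_index_prime h hp hMn hMi⟩
  by_cases hbig : ∃ p, p.Prime ∧ 5 ≤ p ∧ p ∣ Nat.card G
  · obtain ⟨p, hp, hp5, hpd⟩ := hbig
    haveI := Fact.mk hp
    obtain ⟨S⟩ : Nonempty (Sylow p G) := inferInstance
    refine ⟨p, hp, exists_index_p_of_transfer (isCharPFunctor_kInfLower p) (G := G)
      (fun X _ _ _ => kInfLower_transfer hp5 X) G involves_refl (sylIn_top S)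
      (S.ne_bot_of_dvd_card hpd) fun g hg hgp => ?_⟩
    rw [h p hp hpd S] at hg
    obtain ⟨j, hj⟩ := IsPGroup.iff_orderOf.1 S.isPGroup' ⟨g, hg⟩
    rw [Subgroup.orderOf_mk] at hj
    rw [orderOf_eq_one_iff.1 (Nat.eq_one_of_dvd_coprimes (hgp.pow_right j) dvd_rfl (hj ▸ dvd_rfl))]
    exact one_mem _
  push Not at hbig
  have hsol : Group.IsSolvable G := Cfsg.Agent.Char.isSolvable_of_two_primes Nat.prime_two
    Nat.prime_three _ rfl fun r hr hrd => by
      have h5 : r < 5 := not_le.1 fun h5 => hbig r hr h5 hrd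
      have h2 := hr.two_le
      interval_cases r
      · exact .inl rfl
      · exact .inr rfl
      · exact absurd hr (by norm_num)
  have hlt := Group.IsSolvable.commutator_lt_top_of_nontrivial G
  obtain ⟨q, hq, hqd⟩ := Nat.exists_prime_and_dvd (n := (commutator G).index)
    (fun h1 => hlt.ne (Subgroup.index_eq_one.1 h1))
  haveI := Fact.mk hq
  obtain ⟨Q⟩ : Nonempty (Sylow q G) := inferInstance
  exact ⟨q, hq, exists_index_p_of_not_le (sylIn_top Q)
    fun hle => Q.not_dvd_index (hqd.trans (Subgroup.index_dvd_of_le hle))⟩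


/-- Let G be a finite group in which, for every prime q dividing the order of G, every Sylow q-subgroup is its own normalizer. Then the order of G is a power of a single prime (G is a q-group for some prime q; for G trivial any prime works). -/
theorem result {G : Type*} [Group G] [Finite G] (h : ∀ q : ℕ, q.Prime → q ∣ Nat.card G → ∀ Q : Sylow q G, Subgroup.normalizer ((Q : Subgroup G) : Set G) = Q) : ∃ q : ℕ, q.Prime ∧ IsPGroup q G := by
  exact exists_pgroup h

end Cfsg.Agent.S1992
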