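import Cfsg.Statements.S1997
import Cfsg.Agent.Lib.Fusion.TripleFactor
import Cfsg.Agent.S1996

set_option autoImplicit false
universe u
open Cfsg
open Cfsg.Agent.Fusion
open scoped commutatorElement

namespace Cfsg.Agent.S1997

/-- Let p be a prime, G a finite group with Sylow p-subgroup S, and W₁, W₂ two isomorphism-invariant p-group functors (W assigns to every group Q a subgroup W(Q), nontrivial whenever Q is a nontrivial finite p-group, and every isomorphism from a finite p-group Q onto a group R carries W(Q) onto W(R)). Suppose that G* = C_{G*}(Ω₁Z(S*)) N_{G*}(W₁(S*)) = C_{G*}(Ω₁Z(S*)) N_{G*}(W₂(S*)) = N_{G*}(W₁(S*)) N_{G*}(W₂(S*)) whenever G* = K/R is a section of G with C_{G*}(O_p(G*)) ≤ O_p(G*) and S* is a Sylow p-subgroup of G*, where Ω₁Z denotes the subgroup generated by the elements of order dividing p in the centre. Suppose also Ω₁Z(S) ≤ W₁(S) ∩ W₂(S), and let A be the normal closure of Ω₁Z(S)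 in N_G(W₁(S)). Then A is an elementary abelian subgroup of S, strongly closed in S with respect to G, and A controls strong fusion in G. -/
theorem result {G : Type u} [Group G] [Finite G] {p : ℕ} [Fact p.Prime] (S : Sylow p G) (W₁ W₂ : ∀ (Q : Type u) [Group Q], Subgroup Q) (hW₁ : Cfsg.IsCharPFunctor.{u} p W₁) (hW₂ : Cfsg.IsCharPFunctor.{u} p W₂) (hfac : ∀ (K R : Subgroup G) [hR : (R.subgroupOf K).Normal], Subgroup.centralizer ((Cfsg.pCore p (↥K ⧸ R.subgroupOf K) : Subgroup (↥K ⧸ R.subgroupOf K)) : Set (↥K ⧸ R.subgroupOf K)) ≤ Cfsg.pCore p (↥K ⧸ R.subgroupOf K) → ∀ T : Sylow p (↥K ⧸ R.subgroupOf K), (∀ x : (↥K ⧸ R.subgroupOf K), ∃ a ∈ Subgroup.centralizer ((Cfsg.omegaOne p ((T : Subgroup (↥K ⧸ R.subgroupOf K)) ⊓ Subgroup.centralizer (((T : Subgroup (↥K ⧸ R.subgroupOf K)) : Subgroup (↥K ⧸ R.subgroupOf K)) : Set (↥K ⧸ R.subgroupOf K))) : Subgroup (↥K ⧸ R.subgroupOf K)) : Set (↥K ⧸ R.subgroupOf K)), ∃ b ∈ Subgroup.normalizer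 ((Cfsg.inducedFunctor (G := (↥K ⧸ R.subgroupOf K)) W₁ (T : Subgroup (↥K ⧸ R.subgroupOf K)) : Subgroup (↥K ⧸ R.subgroupOf K)) : Set (↥K ⧸ R.subgroupOf K)), x = a * b) ∧ (∀ x : (↥K ⧸ R.subgroupOf K), ∃ a ∈ Subgroup.centralizer ((Cfsg.omegaOne p ((T : Subgroup (↥K ⧸ R.subgroupOf K)) ⊓ Subgroup.centralizer (((T : Subgroup (↥K ⧸ R.subgroupOf K)) : Subgroup (↥K ⧸ R.subgroupOf K)) : Set (↥K ⧸ R.subgroupOf K))) : Subgroup (↥K ⧸ R.subgroupOf K)) : Set (↥K ⧸ R.subgroupOf K)), ∃ b ∈ Subgroup.normalizer ((Cfsg.inducedFunctor (G := (↥K ⧸ R.subgroupOf K)) W₂ (T : Subgroup (↥K ⧸ R.subgroupOf K)) : Subgroup (↥K ⧸ R.subgroupOf K)) : Set (↥K ⧸ R.subgroupOf K)), x = a * b) ∧ (∀ x : (↥K ⧸ R.subgroupOf K), ∃ a ∈ Subgroup.normalizer ((Cfsg.inducedFunctor (G := (↥K ⧸ R.subgroupOf K)) W₁ (T : Subgroup (↥K ⧸ R.subgroupOf K)) : Subgroup (↥K ⧸ R.subgroupOf K)) : Set (↥K ⧸ R.subgroupOf K)), ∃ b ∈ Subgroup.normalizer ((Cfsg.inducedFunctor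 (G := (↥K ⧸ R.subgroupOf K)) W₂ (T : Subgroup (↥K ⧸ R.subgroupOf K)) : Subgroup (↥K ⧸ R.subgroupOf K)) : Set (↥K ⧸ R.subgroupOf K)), x = a * b)) (hZ : Cfsg.omegaOne p ((S : Subgroup G) ⊓ Subgroup.centralizer (((S : Subgroup G) : Subgroup G) : Set G)) ≤ Cfsg.inducedFunctor (G := G) W₁ (S : Subgroup G) ⊓ Cfsg.inducedFunctor (G := G) W₂ (S : Subgroup G)) (N₁ : Subgroup G) (hN₁ : N₁ = Subgroup.normalizer ((Cfsg.inducedFunctor (G := G) W₁ (S : Subgroup G) : Subgroup G) : Set G)) (A : Subgroup G) (hA : A = (Subgroup.normalClosure (((Cfsg.omegaOne p ((S : Subgroup G) ⊓ Subgroup.centralizer (((S : Subgroup G) : Subgroup G) : Set G))).subgroupOf N₁ : Subgroup ↥N₁) : Set ↥N₁)).map N₁.subtype) : A ≤ (S : Subgroup G) ∧ Cfsg.IsElementaryAbelian p A ∧ Cfsg.IsStronglyClosed A (S : Subgroup G) ∧ Cfsg.ControlsStrongFusion p A := by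
  classical
  have hS : SylIn p (S : Subgroup G) ⊤ := sylIn_top S
  set V₁ := inducedFunctor (G := G) W₁ (S : Subgroup G) with hV₁
  set V₂ := inducedFunctor (G := G) W₂ (S : Subgroup G) with hV₂
  set Z := Cfsg.omegaOne p ((S : Subgroup G) ⊓ Subgroup.centralizer (((S : Subgroup G) : Subgroup G) : Set G)) with hZdef
  have hc₁ := isConjugacyFunctor_induced (G := G) hW₁
  have hc₂ := isConjugacyFunctor_induced (G := G) hW₂
  have hV₁S : V₁ ≤ (S : Subgroup G) := conjFunctor_le hc₁ hS.isPGroup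
  have hZmem : ∀ z ∈ Z, z ∈ (S : Subgroup G) ⊓ Subgroup.centralizer ((S : Subgroup G) : Set G) ∧ z ^ p = 1 := by
    intro z hz
    induction hz using Subgroup.closure_induction with
    | mem z hz => exact hz
    | one => exact ⟨one_mem _, one_pow p⟩
    | mul a b _ _ ha hb =>
      refine ⟨mul_mem ha.1 hb.1, ?_⟩
      have hcomm : Commute a b := Subgroup.mem_centralizer_iff.1 hb.1.2 a ha.1.1
      rw [hcomm.mul_pow, ha.2, hb.2, one_mul]
    | inv a _ ha => exact ⟨inv_mem ha.1, by rw [inv_pow, ha.2, inv_one]⟩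
  have h12 : ∀ x ∈ Subgroup.normalizer (V₁ : Set G), ∀ z ∈ Z,
      ∃ n ∈ Subgroup.normalizer (V₂ : Set G), x * z * x⁻¹ = n * z * n⁻¹ := fun x hx z hz =>
    conj_omegaCenter_of_factor hS W₁ W₂ hW₁ hW₂ (fun K R hR hc T y => (hfac K R hc T).2.1 y)
      (hZ.trans inf_le_left) hx (hZmem z hz).1 (hZmem z hz).2
  have h21 : ∀ x ∈ Subgroup.normalizer (V₂ : Set G), ∀ z ∈ Z,
      ∃ n ∈ Subgroup.normalizer (V₁ : Set G), x * z * x⁻¹ = n * z * n⁻¹ := fun x hx z hz =>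
    conj_omegaCenter_of_factor hS W₂ W₁ hW₂ hW₁ (fun K R hR hc T y => (hfac K R hc T).1 y)
      (hZ.trans inf_le_right) hx (hZmem z hz).1 (hZmem z hz).2
  subst hN₁
  set N := Subgroup.normalizer (V₁ : Set G) with hN
  have hZV : Z ≤ V₁ := hZ.trans inf_le_left
  have hgen : ∀ n ∈ N, ∀ z ∈ Z, n * z * n⁻¹ ∈ A := by
    intro n hn z hz
    rw [hA]
    refine ⟨⟨n, hn⟩ * ⟨z, Subgroup.le_normalizer (hZV hz)⟩ * ⟨n, hn⟩⁻¹, ?_, rfl⟩
    exact Subgroup.normalClosure_normal.conj_mem _ (Subgroup.subset_normalClosure (by exact hz)) _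
  have hleast : ∀ H : Subgroup G, (∀ n ∈ N, ∀ z ∈ Z, n * z * n⁻¹ ∈ H) → A ≤ H := by
    intro H hH
    rw [hA, Subgroup.normalClosure, MonoidHom.map_closure, Subgroup.closure_le]
    rintro _ ⟨y, hy, rfl⟩
    obtain ⟨w, hw, hwy⟩ := Group.mem_conjugatesOfSet_iff.1 hy
    obtain ⟨n, rfl⟩ := isConj_iff.1 hwy
    exact hH n n.2 w hw
  have hAV : A ≤ V₁ := hleast V₁ fun n hn z hz => (Subgroup.mem_normalizer_iff.1 hn z).1 (hZV hz)
  have hAS : A ≤ (S : Subgroup G) := hAV.trans hV₁S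
  have hNA : N ≤ Subgroup.normalizer (A : Set G) := fun x hx => mem_normalizer_of_cj_le (by
    rw [cj_le_iff]
    refine hleast _ fun n hn z hz => ?_
    rw [mem_cj, inv_inv]
    have := hgen (x * n) (mul_mem hx hn) z hz
    simpa [mul_assoc] using this)
  have hN₂A : Subgroup.normalizer (V₂ : Set G) ≤ Subgroup.normalizer (A : Set G) := fun x hx =>
    mem_normalizer_of_cj_le (by
      rw [cj_le_iff]
      refine hleast _ fun n hn z hz => ?_
      rw [mem_cj, inv_inv]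
      obtain ⟨m, hm, e⟩ := h12 n hn z hz
      obtain ⟨k, hk, e'⟩ := h21 (x * m) (mul_mem hx hm) z hz
      have := hgen k hk z hz
      rw [← e'] at this
      rw [e]
      simpa [mul_assoc] using this)
  have hZA : ∀ z ∈ Z, ∀ a ∈ A, a * z = z * a := fun z hz a ha =>
    Subgroup.mem_centralizer_iff.1 (hZmem z hz).1.2 a (hAS ha)
  have hAc : A ≤ Subgroup.centralizer (A : Set G) := hleast _ fun n hn z hz =>
    Subgroup.mem_centralizer_iff.2 fun a ha => by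
      have h1 := hZA z hz (n⁻¹ * a * n) (by
        simpa using (Subgroup.mem_normalizer_iff.1 (inv_mem (hNA hn)) a).1 ha)
      calc a * (n * z * n⁻¹) = n * (n⁻¹ * a * n * z) * n⁻¹ := by group
        _ = n * z * n⁻¹ * a := by rw [h1]; group
  have hab : IsMulCommutative A := ⟨⟨fun a b => Subtype.ext (Subgroup.mem_centralizer_iff.1 (hAc b.2) a a.2)⟩⟩
  have hexp : ∀ a ∈ A, a ^ p = 1 := by
    intro a ha
    have hsub : (⟨a, ha⟩ : A) ^ p = 1 := by
      let H : Subgroup G :=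
        { carrier := {y | y ∈ A ∧ y ^ p = 1}
          one_mem' := ⟨one_mem _, one_pow p⟩
          mul_mem' := fun {u v} hu hv => ⟨mul_mem hu.1 hv.1, by
            rw [Commute.mul_pow (Subgroup.mem_centralizer_iff.1 (hAc hv.1) u hu.1), hu.2, hv.2, one_mul]⟩
          inv_mem' := fun {u} hu => ⟨inv_mem hu.1, by rw [inv_pow, hu.2, inv_one]⟩ }
      exact Subtype.ext (hleast H (fun n hn z hz => ⟨hgen n hn z hz, by
        rw [conj_pow, (hZmem z hz).2, mul_one, mul_inv_cancel]⟩) ha).2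
    exact congrArg Subtype.val hsub
  obtain ⟨T, hT, hfus⟩ := (familyFus_iff _).1 (Cfsg.Agent.S1996.result (G := G) W₁ W₂ hW₁ hW₂
    (fun K R hR hc T => (hfac K R hc T).2.2))
  have hfusS := hfus.sylow (p := p) (by
    intro W hW
    rcases hW with rfl | rfl
    · exact hc₁
    · exact hc₂) hT hS
  have hctrl : ∀ B : Set G, B ⊆ (S : Subgroup G) → ∀ g : G, lcj g B ⊆ (S : Subgroup G) →
      ∃ x ∈ Subgroup.normalizer (A : Set G), ∀ b ∈ B, x * b * x⁻¹ = g * b * g⁻¹ := by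
    intro B hB g hg
    obtain ⟨h, hh, he⟩ := hfusS B g trivial hB hg
    refine ⟨h, ?_, he⟩
    clear he
    induction hh with
    | one _ => exact one_mem _
    | step x _ hx _ ih =>
      refine mul_mem ?_ ih
      obtain ⟨W, hW, -, hxW⟩ := hx
      rcases hW with rfl | rfl
      · exact hNA hxW
      · exact hN₂A hxW
  refine ⟨hAS, ⟨hab, hexp⟩, ⟨hAS, fun a ha g hg => ?_⟩, S, hAS, fun B hB => ⟨hB, fun g hg => ?_⟩⟩
  · obtain ⟨x, hx, hxe⟩ := hctrl {a} (Set.singleton_subset_iff.2 (hAS ha)) g (by rintro _ ⟨b, rfl, rfl⟩; exact hg)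
    rw [← hxe a rfl]
    exact (Subgroup.mem_normalizer_iff.1 hx a).1 ha
  · obtain ⟨x, hx, hxe⟩ := hctrl B hB g hg
    exact ⟨x, hx, fun b hb => (hxe b hb).symm⟩

end Cfsg.Agent.S1997
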