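import Cfsg.Statements.S2761

set_option autoImplicit false
set_option synthInstance.maxSize 4000
set_option synthInstance.maxHeartbeats 200000
open Cfsg

namespace Cfsg.Agent.S2761

theorem result : Nonempty (↥(Cfsg.qd 2) ≃* Equiv.Perm (Fin 4)) := by

  have hmem : ∀ M : Matrix.SpecialLinearGroup (Fin 3) (ZMod 2), M ∈ qd 2 ↔
      (M : Matrix (Fin 3) (Fin 3) (ZMod 2)) 2 0 = 0 ∧ (M : Matrix (Fin 3) (Fin 3) (ZMod 2)) 2 1 = 0 ∧
        (M : Matrix (Fin 3) (Fin 3) (ZMod 2)) 2 2 = 1 := by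
    intro M
    refine ⟨fun hM => ?_, fun hM => Subgroup.subset_closure hM⟩
    unfold qd at hM
    induction hM using Subgroup.closure_induction with
    | mem x hx => exact hx
    | one => simp
    | mul a b _ _ ha hb =>
      rw [Matrix.SpecialLinearGroup.coe_mul]
      simp [Matrix.mul_apply, Fin.sum_univ_three, ha.1, ha.2.1, ha.2.2, hb.1, hb.2.1, hb.2.2]
    | inv a _ ha =>
      have hd := a.2
      rw [Matrix.det_fin_three, ha.1, ha.2.1, ha.2.2] at hd
      rw [Matrix.SpecialLinearGroup.coe_inv, Matrix.adjugate_fin_three]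
      simp [ha.1, ha.2.1, ha.2.2]
      linear_combination hd
  let pt : (Fin 2 → ZMod 2) → (Fin 3 → ZMod 2) := fun w => ![w 0, w 1, 1]
  let act : ↥(qd 2) → (Fin 2 → ZMod 2) → (Fin 2 → ZMod 2) := fun M w =>
    ![((M : Matrix.SpecialLinearGroup (Fin 3) (ZMod 2)) : Matrix (Fin 3) (Fin 3) (ZMod 2)).mulVec (pt w) 0,
      ((M : Matrix.SpecialLinearGroup (Fin 3) (ZMod 2)) : Matrix (Fin 3) (Fin 3) (ZMod 2)).mulVec (pt w) 1]
  have hpt : ∀ (M : ↥(qd 2)) (w : Fin 2 → ZMod 2),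
      ((M : Matrix.SpecialLinearGroup (Fin 3) (ZMod 2)) : Matrix (Fin 3) (Fin 3) (ZMod 2)).mulVec (pt w) =
        pt (act M w) := by
    intro M w
    obtain ⟨h0, h1, h2⟩ := (hmem M).1 M.2
    funext i
    fin_cases i
    · rfl
    · rfl
    · simp [pt, Matrix.mulVec, dotProduct, Fin.sum_univ_three, h0, h1, h2]
  have hpinj : Function.Injective pt := fun a b h => by
    funext i
    fin_cases i
    · exact congrFun h 0
    · exact congrFun h 1
  letI : MulAction ↥(qd 2) (Fin 2 → ZMod 2) :=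
    { smul := act
      one_smul := fun w => hpinj (by
        show pt (act 1 w) = pt w
        rw [← hpt]; simp)
      mul_smul := fun a b w => hpinj (by
        show pt (act (a * b) w) = pt (act a (act b w))
        rw [← hpt, ← hpt, ← hpt, Matrix.mulVec_mulVec]
        rfl) }
  let φ : ↥(qd 2) →* Equiv.Perm (Fin 2 → ZMod 2) := MulAction.toPermHom ↥(qd 2) (Fin 2 → ZMod 2)
  have hact : ∀ M w, φ M w = act M w := fun M w => rfl
  have hinj : Function.Injective φ := by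
    intro M N h
    have key : ∀ w : Fin 2 → ZMod 2,
        ((M : Matrix.SpecialLinearGroup (Fin 3) (ZMod 2)) : Matrix (Fin 3) (Fin 3) (ZMod 2)).mulVec (pt w) =
        ((N : Matrix.SpecialLinearGroup (Fin 3) (ZMod 2)) : Matrix (Fin 3) (Fin 3) (ZMod 2)).mulVec (pt w) :=
      fun w => by rw [hpt, hpt, ← hact, ← hact, h]
    have k0 := key ![0, 0]
    have k1 := key ![1, 0]
    have k2 := key ![0, 1]
    refine Subtype.ext (Matrix.SpecialLinearGroup.ext _ _ fun i j => ?_)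
    have e0 := congrFun k0 i
    have e1 := congrFun k1 i
    have e2 := congrFun k2 i
    simp [pt, Matrix.mulVec, dotProduct, Fin.sum_univ_three] at e0 e1 e2
    fin_cases j
    · simpa [e0] using e1
    · simpa [e0] using e2
    · simpa using e0
  have hxx : ∀ a : ZMod 2, a + a = 0 := by decide
  have hdec : ∀ b c d e : Fin 2 → ZMod 2, b ≠ c → b ≠ d → c ≠ d → e ≠ b → e ≠ c → e ≠ d →
      (c 0 - b 0) * (d 1 - b 1) - (d 0 - b 0) * (c 1 - b 1) = 1 ∧
        e 0 = c 0 - b 0 + (d 0 - b 0) + b 0 ∧ e 1 = c 1 - b 1 + (d 1 - b 1) + b 1 := by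
    decide
  have hsurj : Function.Surjective φ := by
    intro σ
    obtain ⟨b, hb⟩ : ∃ b, σ ![0, 0] = b := ⟨_, rfl⟩
    obtain ⟨c, hc⟩ : ∃ c, σ ![1, 0] = c := ⟨_, rfl⟩
    obtain ⟨d, hd⟩ : ∃ d, σ ![0, 1] = d := ⟨_, rfl⟩
    obtain ⟨e, he⟩ : ∃ e, σ ![1, 1] = e := ⟨_, rfl⟩
    obtain ⟨h1, he0, he1⟩ := hdec b c d e
      (hb ▸ hc ▸ σ.injective.ne (by decide)) (hb ▸ hd ▸ σ.injective.ne (by decide))
      (hc ▸ hd ▸ σ.injective.ne (by decide)) (he ▸ hb ▸ σ.injective.ne (by decide))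
      (he ▸ hc ▸ σ.injective.ne (by decide)) (he ▸ hd ▸ σ.injective.ne (by decide))
    let A : Matrix (Fin 3) (Fin 3) (ZMod 2) :=
      !![c 0 - b 0, d 0 - b 0, b 0; c 1 - b 1, d 1 - b 1, b 1; 0, 0, 1]
    have hA : A.det = 1 := by
      simp [A, Matrix.det_fin_three]
      linear_combination h1
    refine ⟨⟨⟨A, hA⟩, (hmem _).2 (by simp [A])⟩, Equiv.ext fun w => ?_⟩
    rw [hact]
    have hw : w = ![0, 0] ∨ w = ![1, 0] ∨ w = ![0, 1] ∨ w = ![1, 1] := by revert w; decide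
    funext i
    rcases hw with rfl | rfl | rfl | rfl <;> fin_cases i <;>
      simp [act, pt, A, Matrix.mulVec, dotProduct, Fin.sum_univ_three, hb, hc, hd, he, he0, he1]
  exact ⟨(MulEquiv.ofBijective φ ⟨hinj, hsurj⟩).trans
    (Equiv.permCongrHom (Fintype.equivFinOfCardEq (by simp)))⟩

end Cfsg.Agent.S2761
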