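import Cfsg.Statements.S2000
import Cfsg.Agent.Lib.Solv.FourFree.Control
import Cfsg.Agent.S2761
import Cfsg.Agent.Lib.Fusion.StableFusion
import Cfsg.Agent.Lib.Fusion.QdFree

set_option autoImplicit false
set_option linter.style.haveILetI false
universe u
open Cfsg
open Cfsg.Agent.Fusion

namespace Cfsg.Agent.S2000

/-- Let p be a prime and G a finite group. Then Qd(p) (the natural semidirect product of an elementary abelian group of order p² by SL₂(p)) is not involved in G if and only if there is a set 𝓦 of isomorphism-invariant p-group functors (each nontrivial on nontrivial finite p-groups and carried onto W(R) by every isomorphism from a finite p-group Q onto R, hence with characteristic values on finite p-groups) whose induced conjugacy functors control strong fusion in every section of G. -/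
theorem result {G : Type u} [Group G] [Finite G] {p : ℕ} [Fact p.Prime] : ¬ Cfsg.Involves ↥(Cfsg.qd p) G ↔ ∃ 𝓦 : Set (∀ (Q : Type u) [Group Q], Subgroup Q), (∀ W ∈ 𝓦, Cfsg.IsCharPFunctor.{u} p W) ∧ ∀ (K R : Subgroup G) [hR : (R.subgroupOf K).Normal], Cfsg.FamilyControlsStrongFusionIn p ((fun W => Cfsg.inducedFunctor (G := (↥K ⧸ R.subgroupOf K)) W) '' 𝓦) ⊤ := by
  constructor
  · intro hfree
    by_cases hp : p = 2
    · subst hp
      refine ⟨Solv.FourFree.pairFam, Solv.FourFree.pairFam_char, fun K R hR => ?_⟩
      · rw [Solv.FourFree.pairFam_image]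
        obtain ⟨e2⟩ := S2761.result
        refine Solv.FourFree.pair_controls fun h => hfree ?_
        obtain ⟨K', R', hR', ⟨e⟩⟩ := involves_trans h (involves_section involves_refl K R)
        exact ⟨K', R', hR', ⟨e.trans e2.symm⟩⟩
    · refine ⟨{Cfsg.kInfLower}, fun W hW => by
        rw [Set.mem_singleton_iff.1 hW]; exact isCharPFunctor_kInfLower p, fun K R hR => ?_⟩
      have hY : Cfsg.Involves (↥K ⧸ R.subgroupOf K) G := involves_section involves_refl K R
      refine familyFus_sections (fun W hW => by
        rw [Set.mem_singleton_iff.1 hW]; exact isCharPFunctor_kInfLower p) (G := ↥K ⧸ R.subgroupOf K)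
        (fun X _ _ hX hc => ?_) _ involves_refl
      obtain ⟨T⟩ : Nonempty (Sylow p X) := inferInstance
      refine (familyFus_iff _).2 ⟨_, sylIn_top T, fun A h _ hA hhA => ?_⟩
      haveI := (kInf_normal_of_stable (sylIn_top T) hc fun N _ =>
        isNormalizerPStable_of_qd_free hp fun h => hfree (involves_trans h (involves_trans
          (involves_surjective hX (QuotientGroup.mk' N) (QuotientGroup.mk'_surjective N)) hY))).1
      exact fus_step hA ⟨_, ⟨Cfsg.kInfLower, rfl, rfl⟩, trivial, by rw [Subgroup.normalizer_eq_top]; trivial⟩ hhA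
  · rintro ⟨W, hW, h⟩ ⟨K, R, hR, ⟨e⟩⟩
    haveI := hR
    exact Solv.FourFree.not_controls_qd e hW (h K R)

end Cfsg.Agent.S2000
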