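import Cfsg.Statements.S2004
import Cfsg.Agent.Lib.Fusion.LinearStable

set_option autoImplicit false
open Cfsg
open Cfsg.Agent.Fusion
open scoped commutatorElement

namespace Cfsg.Agent.S2004

/-- Let p be an odd prime and G a finite group such that SL₂(p) is not involved in N_G(P) for any nonidentity p-subgroup P of G. Then every section of G is p-stable in the normalizer form: in each section, whenever an element of the normalizer of a p-subgroup Q acts quadratically on Q, its image in N(Q)/C(Q) lies in O_p(N(Q)/C(Q)). -/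
theorem result {G : Type*} [Group G] [Finite G] {p : ℕ} [Fact p.Prime] (hp : p ≠ 2) (h : ∀ P : Subgroup G, IsPGroup p ↥P → P ≠ ⊥ → ¬ Cfsg.Involves (Matrix.SpecialLinearGroup (Fin 2) (ZMod p)) ↥(Subgroup.normalizer ((P : Subgroup G) : Set G))) : ∀ (K R : Subgroup G) [hR : (R.subgroupOf K).Normal], Cfsg.IsNormalizerPStable p (↥K ⧸ R.subgroupOf K) := by
  intro K R hR
  haveI := hR
  refine Cfsg.Agent.Fusion.isNormalizerPStable_of_not_involves hp fun Q hQ hQ1 hinv => ?_
  set R' := R.subgroupOf K
  set π := QuotientGroup.mk' R'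
  have hπ : Function.Surjective π := QuotientGroup.mk'_surjective R'
  set Q' := Q.comap π
  obtain ⟨P₀⟩ : Nonempty (Sylow p Q') := inferInstance
  set P : Subgroup K := (P₀ : Subgroup Q').map Q'.subtype
  have hPQ : P ≤ Q' := Subgroup.map_subtype_le _
  have hmapP : P.map π = Q := by
    refine le_antisymm ((Subgroup.map_mono hPQ).trans (Subgroup.map_comap_le _ _)) ?_
    have hkey : ((P₀ : Subgroup Q').map (π.subgroupComap Q)) = ⊤ := by
      have hs : Function.Surjective (π.subgroupComap Q) := fun q => by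
        obtain ⟨k, hk⟩ := hπ q
        exact ⟨⟨k, show π k ∈ Q from hk ▸ q.2⟩, Subtype.ext hk⟩
      obtain ⟨n, hn⟩ := IsPGroup.iff_card.1 hQ
      rw [← Subgroup.index_eq_one]
      exact Nat.eq_one_of_dvd_coprimes
        (((Nat.Prime.coprime_iff_not_dvd Fact.out).2 P₀.not_dvd_index).pow_left n)
        (hn ▸ Subgroup.index_dvd_card _) (Subgroup.index_map_dvd _ hs)
    intro q hq
    obtain ⟨x, hx, he⟩ := hkey.ge (Subgroup.mem_top ⟨q, hq⟩)
    exact ⟨x, ⟨x, hx, rfl⟩, congrArg Subtype.val he⟩
  set M := Subgroup.normalizer (P : Set K)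
  have hsurj : Subgroup.normalizer (Q : Set (K ⧸ R')) ≤ M.map π := by
    intro q hq
    obtain ⟨k, rfl⟩ := hπ q
    have hkQ : k ∈ Subgroup.normalizer (Q' : Set K) := by
      rw [Subgroup.mem_normalizer_iff]
      intro y
      show π y ∈ Q ↔ π (k * y * k⁻¹) ∈ Q
      rw [map_mul, map_mul, map_inv]
      exact Subgroup.mem_normalizer_iff.1 hq (π y)
    set N' := Subgroup.normalizer (Q' : Set K)
    haveI : (Q'.subgroupOf N').Normal := Subgroup.normal_in_normalizer
    let eq : Q'.subgroupOf N' ≃* Q' := Subgroup.subgroupOfEquivOfLe Subgroup.le_normalizer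
    let P₁ : Sylow p (Q'.subgroupOf N') :=
      P₀.comapOfInjective eq.toMonoidHom eq.injective (fun x _ => eq.surjective x)
    have hf := Sylow.normalizer_sup_eq_top P₁
    have hk : (⟨k, hkQ⟩ : N') ∈ (⊤ : Subgroup N') := trivial
    rw [← hf, ← SetLike.mem_coe, Subgroup.mul_normal] at hk
    obtain ⟨a, ha, b, hb, hab⟩ := hk
    have hP1 : (P₁ : Subgroup (Q'.subgroupOf N')).map (Q'.subgroupOf N').subtype = P.subgroupOf N' := by
      ext ⟨x, hx⟩
      constructor
      · rintro ⟨⟨⟨y, hy⟩, hyQ⟩, hyP, he⟩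
        obtain rfl : y = x := congrArg Subtype.val he
        exact ⟨⟨y, hyQ⟩, hyP, rfl⟩
      · rintro ⟨⟨y, hyQ⟩, hyP, he⟩
        obtain rfl : y = x := he
        exact ⟨⟨⟨y, hx⟩, hyQ⟩, hyP, rfl⟩
    have haM : (a : K) ∈ M := by
      rw [hP1] at ha
      rw [Subgroup.mem_normalizer_iff]
      intro y
      constructor
      · intro hy
        exact (Subgroup.mem_normalizer_iff.1 ha ⟨y, Subgroup.le_normalizer (hPQ hy)⟩).1 hy
      · intro hy
        have hy' : y ∈ N' := by
          have h1 : y = (a : K)⁻¹ * ((a : K) * y * (a : K)⁻¹) * a := by group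
          rw [h1]
          exact mul_mem (mul_mem (inv_mem a.2) (Subgroup.le_normalizer (hPQ hy))) a.2
        exact (Subgroup.mem_normalizer_iff.1 ha ⟨y, hy'⟩).2 hy
    have hbQ : π (b : K) ∈ P.map π := hmapP.ge (show π (b : K) ∈ Q from hb)
    obtain ⟨b', hb', hbe⟩ := hbQ
    have hkab : (a : K) * b = k := congrArg Subtype.val hab
    refine ⟨(a : K) * b', mul_mem haM (Subgroup.le_normalizer hb'), ?_⟩
    rw [map_mul, hbe, ← map_mul, hkab]
  set PG : Subgroup G := P.map K.subtype
  have hPG : IsPGroup p PG := (P₀.2.map _).map _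
  have hPG1 : PG ≠ ⊥ := by
    intro h0
    refine hQ1 ?_
    rw [← hmapP, (Subgroup.map_eq_bot_iff_of_injective _ K.subtype_injective).1 h0, Subgroup.map_bot]
  refine h PG hPG hPG1 ?_
  set NG := Subgroup.normalizer (PG : Set G)
  have hMG : ∀ m : M, (K.subtype m) ∈ NG := fun m =>
    (Subgroup.le_normalizer_map K.subtype) ⟨m, m.2, rfl⟩
  let e : M →* NG := (K.subtype.comp M.subtype).codRestrict NG hMG
  have he : Function.Injective e := fun x y hxy =>
    Subtype.ext (Subtype.ext (congrArg (fun t : NG => (t : G)) hxy))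
  have h1 : Cfsg.Involves M NG :=
    Cfsg.Agent.Fusion.involves_surjective (Cfsg.Agent.Fusion.involves_subgroup
      Cfsg.Agent.Fusion.involves_refl e.range) (MonoidHom.ofInjective he).symm.toMonoidHom
      (MonoidHom.ofInjective he).symm.surjective
  have h2 : Cfsg.Involves (M.map π) M :=
    Cfsg.Agent.Fusion.involves_surjective Cfsg.Agent.Fusion.involves_refl (π.subgroupMap M)
      (π.subgroupMap_surjective M)
  have h3 : Cfsg.Involves (Subgroup.normalizer (Q : Set (K ⧸ R'))) (M.map π) :=
    Cfsg.Agent.Fusion.involves_surjective (Cfsg.Agent.Fusion.involves_subgroup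
      Cfsg.Agent.Fusion.involves_refl ((Subgroup.normalizer (Q : Set (K ⧸ R'))).subgroupOf (M.map π)))
      (Subgroup.subgroupOfEquivOfLe hsurj).toMonoidHom (Subgroup.subgroupOfEquivOfLe hsurj).surjective
  exact Cfsg.Agent.Fusion.involves_trans hinv (Cfsg.Agent.Fusion.involves_trans h3
    (Cfsg.Agent.Fusion.involves_trans h2 h1))

end Cfsg.Agent.S2004
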