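import Cfsg.Statements.S2007
import Cfsg.Agent.Lib.Fusion.NPC

set_option autoImplicit false
open Cfsg
open Cfsg.Agent.Fusion
open scoped commutatorElement

namespace Cfsg.Agent.S2007

/-- Let p be a prime, G a finite group with Sylow p-subgroup S, and T a normal subgroup of S containing C_S(T). If N_G(T)/C_G(T) is a p-group (every element of N_G(T) of order prime to p centralizes T), then N_G(T) has a normal p-complement. -/
theorem result {G : Type*} [Group G] [Finite G] {p : ℕ} [Fact p.Prime] (S : Sylow p G) (T : Subgroup G) (hTS : T ≤ (S : Subgroup G)) (hTn : (S : Subgroup G) ≤ Subgroup.normalizer ((T : Subgroup G) : Set G)) (hC : (S : Subgroup G) ⊓ Subgroup.centralizer ((T : Subgroup G) : Set G) ≤ T) (hN : ∀ g ∈ Subgroup.normalizer ((T : Subgroup G) : Set G), (orderOf g).Coprime p → g ∈ Subgroup.centralizer ((T : Subgroup G) : Set G)) : Cfsg.HasNormalPComplement p ↥(Subgroup.normalizer ((T : Subgroup G) : Set G)) := by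
  let N := Subgroup.normalizer ((T : Subgroup G) : Set G)
  let C := Subgroup.centralizer ((T : Subgroup G) : Set G)
  have hCN : C ≤ N := Subgroup.centralizer_le_normalizer _
  have hnorm : N ≤ Subgroup.normalizer (C : Set G) := fun n hn => mem_normalizer_of_cj_le (by
    show cj C n ≤ C
    rw [cj_centralizer]
    exact le_of_eq (by rw [cj_eq_self hn]))
  have hSC : SylIn p ((S : Subgroup G) ⊓ C) C :=
    ((sylIn_top S).mono hTn le_top).inf_normal hCN hnorm
  have hC : Cfsg.HasNormalPComplement p ↥C := by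
    obtain ⟨P⟩ : Nonempty (Sylow p C) := inferInstance
    refine hnpc_of_normalizer_le_centralizer P fun c _ => ?_
    obtain ⟨x, hx, he⟩ := hSC.conj_eq (sylIn_map C P)
    refine Subgroup.mem_centralizer_iff.2 fun y hy => Subtype.ext ?_
    have hy' : (y : G) ∈ cj ((S : Subgroup G) ⊓ C) x := he.symm ▸ Subgroup.mem_map_of_mem _ hy
    have hT := hC (mem_cj.1 hy')
    have h1 := Subgroup.mem_centralizer_iff.1 hx _ hT
    have hyT : (y : G) ∈ T := by
      have : (y : G) = x⁻¹ * (y : G) * x := by
        calc (y : G) = x * (x⁻¹ * (y : G) * x) * x⁻¹ := by group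
          _ = x⁻¹ * (y : G) * x := by rw [← h1, mul_inv_cancel_right]
      rw [this]; exact hT
    exact Subgroup.mem_centralizer_iff.1 c.2 _ hyT
  rw [hnpc_iff] at hC ⊢
  have hle : (Cfsg.pResidual p ↥N).map N.subtype ≤ (Cfsg.pResidual p ↥C).map C.subtype := by
    rw [Cfsg.pResidual, MonoidHom.map_closure, Subgroup.closure_le]
    rintro _ ⟨g, hg, rfl⟩
    have hgC : (g : G) ∈ C := hN g g.2 (by rwa [Subgroup.orderOf_coe])
    refine ⟨⟨g, hgC⟩, Subgroup.subset_closure ?_, rfl⟩
    show (orderOf (⟨(g : G), hgC⟩ : C)).Coprime p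
    rwa [Subgroup.orderOf_mk, Subgroup.orderOf_coe]
  have h2 := Subgroup.card_dvd_of_le hle
  rw [Subgroup.card_map_of_injective N.subtype_injective,
    Subgroup.card_map_of_injective C.subtype_injective] at h2
  exact hC.coprime_dvd_left h2

end Cfsg.Agent.S2007
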