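import Cfsg.Statements.S2008
import Mathlib


set_option autoImplicit false
open Cfsg

namespace Cfsg.Agent.S2008

/-- Let H be a finite group and z an involution such that every proper normal subgroup of H meets the centralizer of z trivially, and suppose z lies in a Klein four-subgroup E of H all three of whose involutions are conjugate to z in H. Then H has no non-trivial abelian normal subgroup. -/
theorem result {H : Type*} [Group H] [Finite H] (z : H) (hz : orderOf z = 2) (hN : ∀ N : Subgroup H, N.Normal → N ≠ ⊤ → N ⊓ Subgroup.centralizer ({z} : Set H) = ⊥) (E : Subgroup H) (hE : IsKleinFour ↥E) (hzE : z ∈ E) (hc : ∀ e ∈ E, e ≠ 1 → IsConj z e) (N : Subgroup H) [N.Normal] (hab : IsMulCommutative ↥N) : N = ⊥ := by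
  haveI := hab
  have hcommN : ∀ x ∈ N, ∀ y ∈ N, x * y = y * x := fun x hx y hy =>
    congrArg Subtype.val (mul_comm' (⟨x, hx⟩ : N) ⟨y, hy⟩)
  have hcard : Nat.card E = 4 := hE.card_four
  have h2 : ∀ e ∈ E, e * e = 1 := fun e he => by
    have := IsKleinFour.mul_self (⟨e, he⟩ : E)
    exact congrArg Subtype.val this
  by_cases hNtop : N = ⊤
  · exfalso
    have hall : ∀ e ∈ E, e ∈ Subgroup.zpowers z := fun e he => by
      by_cases he1 : e = 1
      · exact he1 ▸ one_mem _
      obtain ⟨c, hcz⟩ := isConj_iff.1 (hc e he he1)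
      rw [hcommN c (hNtop ▸ Subgroup.mem_top _) z (hNtop ▸ Subgroup.mem_top _), mul_inv_cancel_right] at hcz
      exact hcz ▸ Subgroup.mem_zpowers z
    have := Subgroup.card_le_of_le (show E ≤ Subgroup.zpowers z from hall)
    rw [Nat.card_zpowers, hz, hcard] at this
    omega
  have hfix : ∀ e ∈ E, e ≠ 1 → ∀ n ∈ N, e * n = n * e → n = 1 := by
    intro e he he1 n hn hen
    obtain ⟨c, hcz⟩ := isConj_iff.1 (hc e he he1)
    have hm : c⁻¹ * n * c ∈ N ⊓ Subgroup.centralizer ({z} : Set H) := by
      refine Subgroup.mem_inf.2 ⟨by simpa using Subgroup.Normal.conj_mem inferInstance n hn c⁻¹, ?_⟩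
      rw [Subgroup.mem_centralizer_singleton_iff]
      calc c⁻¹ * n * c * z = c⁻¹ * (n * e) * c := by rw [← hcz]; group
        _ = z * (c⁻¹ * n * c) := by rw [← hen, ← hcz]; group
    rw [hN N inferInstance hNtop, Subgroup.mem_bot] at hm
    calc n = c * (c⁻¹ * n * c) * c⁻¹ := by group
      _ = 1 := by rw [hm]; group
  have hinv : ∀ e ∈ E, e ≠ 1 → ∀ n ∈ N, e * n * e = n⁻¹ := by
    intro e he he1 n hn
    have hm : e * n * e ∈ N := by
      have := Subgroup.Normal.conj_mem inferInstance n hn e (G := H)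
      rwa [show e⁻¹ = e from inv_eq_of_mul_eq_one_right (h2 e he)] at this
    refine eq_inv_of_mul_eq_one_left (hfix e he he1 _ (mul_mem hm hn) ?_)
    calc e * (e * n * e * n) = (e * e) * (n * e * n) := by group
      _ = n * e * n * (e * e) := by rw [h2 e he, one_mul, mul_one]
      _ = n * (e * n * e) * e := by group
      _ = e * n * e * n * e := by rw [hcommN n hn _ hm]
  obtain ⟨f, hfE, hf1, hfz⟩ : ∃ f ∈ E, f ≠ 1 ∧ f ≠ z := by
    by_contra hcon
    push Not at hcon
    have := Subgroup.card_le_of_le (show E ≤ Subgroup.zpowers z from fun e he => by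
      by_cases he1 : e = 1
      · exact he1 ▸ one_mem _
      · exact (hcon e he he1).symm ▸ Subgroup.mem_zpowers z)
    rw [Nat.card_zpowers, hz, hcard] at this
    omega
  have hz1 : z ≠ 1 := fun h => by rw [h, orderOf_one] at hz; omega
  have hzf : z * f ≠ 1 := fun h => hfz (by
    calc f = (z * z) * f := by rw [h2 z hzE, one_mul]
      _ = z := by rw [mul_assoc, h, mul_one])
  rw [eq_bot_iff]
  intro n hn
  rw [Subgroup.mem_bot]
  refine hfix _ (mul_mem hzE hfE) hzf n hn ?_
  have e1 := hinv z hzE hz1 n hn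
  have e2 := hinv f hfE hf1 n hn
  have e3 := hinv z hzE hz1 n⁻¹ (inv_mem hn)
  rw [inv_inv] at e3
  calc z * f * n = z * (f * n * f) * f := by
        rw [show z * (f * n * f) * f = z * f * n * (f * f) by group, h2 f hfE, mul_one]
    _ = z * n⁻¹ * (z * z) * f := by rw [e2, h2 z hzE, mul_one]
    _ = n * (z * f) := by rw [← mul_assoc, e3, mul_assoc]

end Cfsg.Agent.S2008
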