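import Cfsg.Statements.S2009
import Cfsg.Agent.S2008

set_option autoImplicit false
open Cfsg
open scoped commutatorElement

namespace Cfsg.Agent.S2009

/-- Let H be a finite group and z an involution such that every proper normal subgroup of H meets the centralizer of z trivially, and suppose z lies in a Klein four-subgroup E of H all three of whose involutions are conjugate to z in H. Then H is simple. -/
theorem result {H : Type*} [Group H] [Finite H] (z : H) (hz : orderOf z = 2) (hN : ∀ N : Subgroup H, N.Normal → N ≠ ⊤ → N ⊓ Subgroup.centralizer ({z} : Set H) = ⊥) (E : Subgroup H) (hE : IsKleinFour ↥E) (hzE : z ∈ E) (hc : ∀ e ∈ E, e ≠ 1 → IsConj z e) : IsSimpleGroup H := by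
  have hz1 : z ≠ 1 := fun h => by rw [h, orderOf_one] at hz; omega
  have hzz : z * z = 1 := by rw [← sq, ← hz, pow_orderOf_eq_one]
  haveI : Nontrivial H := ⟨⟨z, 1, hz1⟩⟩
  refine ⟨fun N hNn => ?_⟩
  by_cases hNtop : N = ⊤
  · exact Or.inr hNtop
  haveI := hNn
  refine Or.inl (S2008.result z hz hN E hE hzE hc N ⟨⟨fun a b => ?_⟩⟩)
  let φ : N ≃* N := MulAut.conjNormal z
  have hval : ∀ x : N, ((φ x : N) : H) = z * (x : H) * z⁻¹ := fun x => MulAut.conjNormal_apply z x
  refine (MonoidHom.FixedPointFree.commute_all_of_involutive (φ := φ) ?_ ?_ a b).eq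
  · intro x hx
    have h1 : z * (x : H) * z⁻¹ = x := (hval x).symm.trans (congrArg Subtype.val hx)
    have h2 : (x : H) ∈ N ⊓ Subgroup.centralizer ({z} : Set H) :=
      Subgroup.mem_inf.2 ⟨x.2, Subgroup.mem_centralizer_singleton_iff.2 (mul_inv_eq_iff_eq_mul.1 h1).symm⟩
    rw [hN N hNn hNtop, Subgroup.mem_bot] at h2
    exact Subtype.ext h2
  · intro x
    refine Subtype.ext ?_
    rw [hval, hval, inv_eq_of_mul_eq_one_right hzz]
    calc z * (z * (x : H) * z) * z = (z * z) * x * (z * z) := by group
      _ = x := by rw [hzz, one_mul, mul_one]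

end Cfsg.Agent.S2009
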