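import Cfsg.Statements.S2010
import Cfsg.Agent.Lib.Lead.SFourFactor

set_option autoImplicit false
open Cfsg
open scoped commutatorElement

namespace Cfsg.Agent.S2010

universe u

theorem main {G : Type u} [Group G] [Finite G] (hs : Group.IsSolvable G) (h0 : pPrimeCore 2 G = ⊥)
    (hS4 : ¬ Involves (Equiv.Perm (Fin 4)) G) (S : Sylow 2 G)
    (hcl : ∀ a ∈ (S : Subgroup G), ∀ b ∈ (S : Subgroup G), ∀ c ∈ (S : Subgroup G),
      ⁅a, b⁆ * c = c * ⁅a, b⁆) :
    (thompsonSubgroupOf 2 (S : Subgroup G)).Normal := by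
  haveI : Fact (Nat.Prime 2) := ⟨Nat.prime_two⟩
  haveI : (pCore 2 G).Normal := Solv.pCore_normal 2
  have h : Fusion.maxIn (fun A : Subgroup G => IsElementaryAbelian 2 A) (pCore 2 G) =
      Fusion.maxIn (fun A : Subgroup G => IsElementaryAbelian 2 A) (S : Subgroup G) :=
    Fusion.maxIn_eq_of_le (Fusion.replFamily_elementary 2) (Fusion.pCore_le_sylow S)
      fun A hA => SFour.maxIn_le_pCore hs h0 hS4 S hcl hA
  rw [← Fusion.jElem_eq, Fusion.jElem, ← h, ← Fusion.jElem, ← Subgroup.normalizer_eq_top_iff,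
    eq_top_iff, ← Subgroup.normalizer_eq_top (H := pCore 2 G)]
  exact Fusion.normalizer_le_jElem _

/-- Let G be a finite solvable group with no section isomorphic to the symmetric group of degree 4, whose Sylow 2-subgroup S has nilpotency class at most 2. Then G = N_G(J_e(S)) · O_{2'}(G), where J_e(S) is the subgroup generated by the elementary abelian subgroups of S of largest order. -/
theorem result {G : Type*} [Group G] [Finite G]
    [Group.IsSolvable G] (hS4 : ¬ Cfsg.Involves (Equiv.Perm (Fin 4)) G) (S : Sylow 2 G)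
    (hcl : Subgroup.lowerCentralSeries (S : Subgroup G) 2 = ⊥) :
    Subgroup.normalizer ((Cfsg.thompsonSubgroupOf 2 (S : Subgroup G)) : Set G) ⊔ Cfsg.pPrimeCore 2 G = ⊤ := by
  haveI : Fact (Nat.Prime 2) := ⟨Nat.prime_two⟩
  have hO := Fusion.card_pPrimeCore_coprime 2 G
  set O := pPrimeCore 2 G with hOdef
  haveI : O.Normal := Solv.pPrimeCore_normal 2
  set mk := QuotientGroup.mk' O with hmk
  have hmks : Function.Surjective mk := QuotientGroup.mk'_surjective O
  set J := thompsonSubgroupOf 2 (S : Subgroup G) with hJ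
  have hJS : J ≤ (S : Subgroup G) := Subgroup.map_subtype_le _
  have hSO : (S : Subgroup G) ⊓ O = ⊥ := by
    refine Solv.coprime_inf ?_
    obtain ⟨k, hk⟩ := IsPGroup.iff_card.1 S.2
    rw [hk]
    exact (hO.symm).pow_left k
  let S' : Sylow 2 (G ⧸ O) := S.mapSurjective hmks
  have hS' : (S' : Subgroup (G ⧸ O)) = (S : Subgroup G).map mk := rfl
  -- the quotient satisfies the hypotheses
  have hsQ : Group.IsSolvable (G ⧸ O) := Group.isSolvable_of_surjective hmks
  have h4Q : ¬ Cfsg.Involves (Equiv.Perm (Fin 4)) (G ⧸ O) := by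
    intro h
    obtain ⟨K, f, hf⟩ := Fusion.involves_exists_surjective h
    exact hS4 (Fusion.involves_of_surjective (f.comp (mk.subgroupComap K))
      (hf.comp (mk.subgroupComap_surjective_of_surjective K hmks)))
  have hclQ : ∀ a ∈ (S' : Subgroup (G ⧸ O)), ∀ b ∈ (S' : Subgroup (G ⧸ O)),
      ∀ c ∈ (S' : Subgroup (G ⧸ O)), ⁅a, b⁆ * c = c * ⁅a, b⁆ := by
    rw [hS']
    rintro _ ⟨a, ha, rfl⟩ _ ⟨b, hb, rfl⟩ _ ⟨c, hc, rfl⟩
    have h : ⁅⁅a, b⁆, c⁆ ∈ Subgroup.lowerCentralSeries (S : Subgroup G) 2 :=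
      Subgroup.commutator_mem_commutator (Subgroup.commutator_mem_commutator ha hb) hc
    rw [hcl, Subgroup.mem_bot, commutatorElement_eq_one_iff_mul_comm] at h
    rw [← map_commutatorElement, ← map_mul, ← map_mul, h]
  have hJn := main hsQ Fusion.pPrimeCore_quotient_eq_bot h4Q S' hclQ
  -- the Thompson subgroup of the image is the image of the Thompson subgroup
  let g : (S : Subgroup G) →* G ⧸ O := mk.comp (S : Subgroup G).subtype
  have hg : Function.Injective g := by
    rw [← MonoidHom.ker_eq_bot_iff, Subgroup.eq_bot_iff_forall]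
    intro x hx
    have : (x : G) ∈ (S : Subgroup G) ⊓ O := ⟨x.2, (QuotientGroup.eq_one_iff _).1 hx⟩
    rw [hSO, Subgroup.mem_bot] at this
    exact Subtype.ext this
  have hrange : g.range = (S' : Subgroup (G ⧸ O)) := by
    rw [hS', MonoidHom.range_comp, Subgroup.range_subtype]
  have hJmap : thompsonSubgroupOf 2 (S' : Subgroup (G ⧸ O)) = J.map mk := by
    rw [← hrange, hJ, thompsonSubgroupOf, thompsonSubgroupOf,
      ← Fusion.map_thompsonSubgroup (MonoidHom.ofInjective hg), Subgroup.map_map, Subgroup.map_map]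
    rfl
  rw [hJmap] at hJn
  set N : Subgroup G := J ⊔ O with hN
  haveI hNn : N.Normal := by
    have h := hJn.comap mk
    rwa [Subgroup.comap_map_eq, hmk, QuotientGroup.ker_mk'] at h
  -- Frattini
  have hJO : J ⊓ O = ⊥ := le_bot_iff.1 ((inf_le_inf_right O hJS).trans hSO.le)
  have hcard : Nat.card N = Nat.card O * Nat.card J := by
    have h := Solv.card_sup_mul_card_inf' O J (by rw [Subgroup.normalizer_eq_top]; exact le_top)
    rwa [inf_comm, hJO, Subgroup.card_bot, mul_one, sup_comm] at h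
  have hJN : J ≤ N := le_sup_left
  have hidx : (J.subgroupOf N).index = Nat.card O := by
    have h := Subgroup.card_mul_index (J.subgroupOf N)
    rw [Nat.card_congr (Subgroup.subgroupOfEquivOfLe hJN).toEquiv, hcard, mul_comm _ (Nat.card J)] at h
    exact Nat.eq_of_mul_eq_mul_left Nat.card_pos h
  have hJp : IsPGroup 2 (J.subgroupOf N) :=
    (S.2.to_le hJS).comap_of_injective N.subtype N.subtype_injective
  have hnd : ¬ 2 ∣ (J.subgroupOf N).index := by
    rw [hidx]
    exact (Nat.Prime.coprime_iff_not_dvd Nat.prime_two).1 hO.symm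
  have h := Sylow.normalizer_sup_eq_top (hJp.toSylow hnd)
  rw [IsPGroup.toSylow_coe, Subgroup.subgroupOf_map_subtype, inf_eq_left.2 hJN] at h
  refine eq_top_iff.2 (h.ge.trans (sup_le le_sup_left (sup_le ?_ le_sup_right)))
  exact Subgroup.le_normalizer.trans le_sup_left

end Cfsg.Agent.S2010
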