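import Cfsg.Statements.S2011
import Cfsg.Agent.Lib.Local.FS.Group
import Cfsg.Agent.Lib.Fusion.NPC
import Cfsg.Agent.Lib.Fusion.Cores

set_option autoImplicit false
open Cfsg Cfsg.Agent Cfsg.Agent.Local.FS
open Cfsg.Agent.Fusion
open scoped commutatorElement

namespace Cfsg.Agent.S2011

/-- Let G be a finite group with Sylow p-subgroup P and Q ≤ P. Then Q is centric in the fusion system of G on P (C_P(R) ≤ R for every G-conjugate R of Q lying in P) if and only if C_G(Q) is the internal direct product of Z(Q) = Q ∩ C_G(Q) and the largest normal subgroup of C_G(Q) of order prime to p. -/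
theorem result {G : Type*} [Group G] [Finite G] (p : ℕ) [Fact p.Prime] (P : Sylow p G) (Q : Subgroup G) (hQ : Q ≤ P) : (Cfsg.groupFusionSystem (P : Subgroup G)).IsCentric Q ↔ Cfsg.IsInternalDirectProduct (Q ⊓ Subgroup.centralizer (Q : Set G)) ((Cfsg.pPrimeCore p ↥(Subgroup.centralizer (Q : Set G))).map (Subgroup.centralizer (Q : Set G)).subtype) (Subgroup.centralizer (Q : Set G)) := by
  have hS := sylIn_top P
  obtain ⟨C, hC⟩ : ∃ C, C = Subgroup.centralizer (Q : Set G) := ⟨_, rfl⟩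
  rw [← hC]
  obtain ⟨Z, hZ⟩ : ∃ Z, Z = Q ⊓ C := ⟨_, rfl⟩
  rw [← hZ]
  obtain ⟨O, hO⟩ : ∃ O, O = (Cfsg.pPrimeCore p ↥C).map C.subtype := ⟨_, rfl⟩
  rw [← hO]
  have hOc : (Nat.card O).Coprime p := by
    rw [hO, Subgroup.card_map_of_injective C.subtype_injective]; exact card_pPrimeCore_coprime p _
  have hOC : O ≤ C := hO ▸ Subgroup.map_subtype_le _
  have hZp : IsPGroup p Z := P.isPGroup'.to_le (hZ ▸ inf_le_left.trans hQ)
  have hcom : ∀ a ∈ Z, ∀ b ∈ C, a * b = b * a := fun a ha b hb => by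
    rw [hZ] at ha
    exact Subgroup.mem_centralizer_iff.1 (hC ▸ hb) a (Subgroup.mem_inf.1 ha).1
  constructor
  · rintro ⟨-, hcen⟩
    obtain ⟨g, hg, hsyl⟩ := exists_conj_sylIn_centralizer hS hQ
    have h1 := hcen _ (isConj_group_iff.2 ⟨hQ, hg, g, rfl⟩)
    obtain ⟨T, hT⟩ := exists_sylIn (p := p) C
    have hTZ : T = Z := by
      refine le_antisymm ?_ ?_
      · obtain ⟨x, hx, hle⟩ := hsyl.conj_le (isPGroup_cj hT.isPGroup g)
          (by rw [← cj_centralizer, ← hC]; exact cj_mono hT.le g)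
        have hle' : cj (cj T g) x ≤ cj Q g := hle.trans h1
        intro t ht
        rw [hZ]
        refine Subgroup.mem_inf.2 ⟨?_, hT.le ht⟩
        have h2 := hle' (conj_mem_cj (conj_mem_cj ht))
        have h3 : x⁻¹ * (x * (g * t * g⁻¹) * x⁻¹) * x ∈ cj Q g := by
          have := Subgroup.mem_centralizer_iff.1 hx _ h2
          rw [show x⁻¹ * (x * (g * t * g⁻¹) * x⁻¹) * x = x⁻¹ * ((x * (g * t * g⁻¹) * x⁻¹) * x) by group,
            this, inv_mul_cancel_left]
          exact h2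
        have h4 : g * t * g⁻¹ ∈ cj Q g := by
          simpa [mul_assoc] using h3
        rw [mem_cj] at h4
        simpa [mul_assoc] using h4
      · obtain ⟨x, hx, hle⟩ := hT.conj_le hZp (hZ ▸ inf_le_right)
        intro z hz
        have h2 := hle (conj_mem_cj hz)
        rwa [← hcom z hz x hx, mul_inv_cancel_right] at h2
    rw [hTZ] at hT
    obtain ⟨S₀, hS₀⟩ := hT.exists_sylow_subgroupOf
    have hn : Cfsg.HasNormalPComplement p ↥C := by
      refine hnpc_of_normalizer_le_centralizer S₀ fun c _ => Subgroup.mem_centralizer_iff.2 fun y hy => ?_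
      have hy' : (y : G) ∈ Z := by
        have h2 : y ∈ Z.subgroupOf C := hS₀ ▸ hy
        exact h2
      exact Subtype.ext (hcom y hy' c c.2)
    rw [hnpc_iff] at hn
    refine ⟨hZ ▸ inf_le_right, hOC, fun a ha b hb => hcom a ha b (hOC hb),
      inf_comm O Z ▸ coprime_inf_pGroup hOc hZp, le_antisymm (sup_le (hZ ▸ inf_le_right) hOC) fun c hc => ?_⟩
    have h2 : (⟨c, hc⟩ : ↥C) ∈ Cfsg.pResidual p ↥C ⊔ (S₀ : Subgroup ↥C) := by
      rw [pResidual_sup_sylow]; trivial
    have h3 : Cfsg.pResidual p ↥C ⊔ (S₀ : Subgroup ↥C) ≤ (Z ⊔ O).subgroupOf C := by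
      refine sup_le (fun x hx => ?_) (fun x hx => ?_)
      · exact Subgroup.mem_sup_right (hO ▸ Subgroup.mem_map_of_mem _ (le_pPrimeCore hn hx))
      · exact Subgroup.mem_sup_left (show x ∈ Z.subgroupOf C from hS₀ ▸ hx)
    exact h3 h2
  · rintro ⟨-, -, -, -, hsup⟩
    refine ⟨hQ, fun R hR => ?_⟩
    obtain ⟨-, hRP, g, rfl⟩ := isConj_group_iff.1 hR
    intro x hx
    obtain ⟨hxP, hxC⟩ := Subgroup.mem_inf.1 hx
    obtain ⟨k, hk⟩ := P.isPGroup' ⟨x, hxP⟩
    have hyC : g⁻¹ * x * g ∈ C := by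
      rw [hC, Subgroup.mem_centralizer_iff]
      intro y hy
      have h1 := congrArg (fun t => g⁻¹ * t * g) (Subgroup.mem_centralizer_iff.1 hxC (g * y * g⁻¹) (conj_mem_cj hy))
      simpa [mul_assoc] using h1
    have hy : g⁻¹ * x * g ∈ ((Z ⊔ O : Subgroup G) : Set G) := by rw [hsup]; exact hyC
    rw [Subgroup.coe_mul_of_left_le_normalizer_right Z O (fun z hz => Subgroup.centralizer_le_normalizer _
      (Subgroup.mem_centralizer_iff.2 fun o ho => (hcom z hz o (hOC ho)).symm))] at hy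
    obtain ⟨z, hz, o, ho, hzo⟩ := hy
    have hx1 : x ^ p ^ k = 1 := congrArg Subtype.val hk
    have hpow : z ^ p ^ k * o ^ p ^ k = 1 := by
      rw [← (show Commute z o from hcom z hz o (hOC ho)).mul_pow, show z * o = g⁻¹ * x * g from hzo]
      calc (g⁻¹ * x * g) ^ p ^ k = (g⁻¹ * x * g⁻¹⁻¹) ^ p ^ k := by rw [inv_inv]
        _ = 1 := by rw [conj_pow, hx1]; group
    have ho1 : o ^ p ^ k = 1 := by
      have hm : o ^ p ^ k ∈ O ⊓ Z := Subgroup.mem_inf.2 ⟨pow_mem ho _, by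
        rw [eq_inv_of_mul_eq_one_right hpow]; exact inv_mem (pow_mem hz _)⟩
      rwa [coprime_inf_pGroup hOc hZp, Subgroup.mem_bot] at hm
    have ho2 : o = 1 := by
      refine orderOf_eq_one_iff.1 (Nat.eq_one_of_dvd_coprimes (hOc.pow_right k) ?_ (orderOf_dvd_of_pow_eq_one ho1))
      rw [← Subgroup.orderOf_mk o ho]; exact orderOf_dvd_natCard _
    rw [ho2] at hzo
    replace hzo : z = g⁻¹ * x * g := (mul_one z).symm.trans hzo
    rw [mem_cj, ← hzo]
    exact (hZ ▸ inf_le_left : Z ≤ Q) hz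

end Cfsg.Agent.S2011
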