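import Cfsg.Statements.S2014
import Cfsg.Agent.Lib.Fusion.Cores

set_option autoImplicit false
open Cfsg

namespace Cfsg.Agent.S2014

/-- Let P be a Sylow p-subgroup of a finite group G and A, C ≤ P subgroups conjugate in G, with C extremal: N_P(C) is a Sylow p-subgroup of N_G(C). Then there is g with gAg⁻¹ = C and g N_P(A) g⁻¹ ≤ N_P(C); moreover, given any h with hAh⁻¹ = C, g can be chosen so that h g⁻¹ lies in O^p(N_G(C)), the subgroup of N_G(C) generated by its elements of order prime to p. -/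
theorem result {G : Type*} [Group G] [Finite G] (p : ℕ) [Fact p.Prime] (P : Sylow p G) (A C : Subgroup G) (hA : A ≤ P) (hC : C ≤ P) (hext : ¬ p ∣ ((P : Subgroup G) ⊓ Subgroup.normalizer ((C : Subgroup G) : Set G)).relIndex (Subgroup.normalizer ((C : Subgroup G) : Set G))) (h : G) (hh : A.map (MulAut.conj h).toMonoidHom = C) : ∃ g : G, A.map (MulAut.conj g).toMonoidHom = C ∧ ((P : Subgroup G) ⊓ Subgroup.normalizer ((A : Subgroup G) : Set G)).map (MulAut.conj g).toMonoidHom ≤ (P : Subgroup G) ⊓ Subgroup.normalizer ((C : Subgroup G) : Set G) ∧ h * g⁻¹ ∈ (Cfsg.pResidual p ↥(Subgroup.normalizer ((C : Subgroup G) : Set G))).map (Subgroup.normalizer ((C : Subgroup G) : Set G)).subtype := by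
  have hN : Fusion.SylIn p ((P : Subgroup G) ⊓ Subgroup.normalizer (C : Set G))
      (Subgroup.normalizer (C : Set G)) := ⟨inf_le_right, P.isPGroup'.to_inf_left, hext⟩
  set N := Subgroup.normalizer (C : Set G)
  obtain ⟨R, hR⟩ := hN.exists_sylow_subgroupOf
  have hQ : Fusion.cj ((P : Subgroup G) ⊓ Subgroup.normalizer (A : Set G)) h ≤ N := by
    refine (Fusion.cj_mono inf_le_right h).trans ?_
    rw [Fusion.cj_normalizer, show Fusion.cj A h = C from hh]
  obtain ⟨m, hm, hm'⟩ := hN.conj_le (Fusion.isPGroup_cj P.isPGroup'.to_inf_left h) hQ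
  have hdec : (⟨m, hm⟩ : N) ∈ (R : Subgroup N) ⊔ Cfsg.pResidual p N := by
    rw [sup_comm, Fusion.pResidual_sup_sylow]; trivial
  rw [Subgroup.mem_sup_of_normal_right] at hdec
  obtain ⟨s, hs, r, hr, hsr⟩ := hdec
  have hs' : (s : G) ∈ (P : Subgroup G) ⊓ N := SetLike.le_def.1 hR.le hs
  have hm1 : (s : G) * r = m := congrArg Subtype.val hsr
  refine ⟨(r : G) * h, ?_, ?_, ⟨r⁻¹, inv_mem hr, by simp⟩⟩
  · change Fusion.cj A _ = C
    rw [← Fusion.cj_cj, show Fusion.cj A h = C from hh]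
    exact Fusion.cj_eq_self r.2
  · change Fusion.cj _ _ ≤ _
    rw [← hm1, Fusion.cj_cj] at hm'
    have h1 := Fusion.cj_mono hm' (s : G)⁻¹
    rw [Fusion.cj_cj, Fusion.cj_eq_self_of_mem (inv_mem hs')] at h1
    simpa [mul_assoc] using h1

end Cfsg.Agent.S2014
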