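import Cfsg.Statements.S2015
import Cfsg.Agent.Lib.Fusion.KInfTransfer

set_option autoImplicit false
universe u
open Cfsg
open Cfsg.Agent.Fusion
open scoped commutatorElement

namespace Cfsg.Agent.S2015

universe v

theorem range_inf_commutator {P : Type v} [Group P] [Finite P] {p : ℕ} [Fact p.Prime] (hp : 5 ≤ p)
    (hP : IsPGroup p P) {G : Type v} [Group G] [Finite G] (ι : P →* G) (hι : Function.Injective ι)
    (hT : ∃ T : Sylow p G, (T : Subgroup G) = ι.range) :
    ι.range ⊓ commutator G = ι.range ⊓ (commutator ↥(Subgroup.normalizer (((kInfLower P).map ι :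
      Subgroup G) : Set G))).map
        (Subgroup.normalizer (((kInfLower P).map ι : Subgroup G) : Set G)).subtype := by
  obtain ⟨T, hT⟩ := hT
  have hW := isCharPFunctor_kInfLower.{v} p
  have hK : inducedFunctor kInfLower (T : Subgroup G) = (kInfLower P).map ι := by
    let φ : P ≃* (T : Subgroup G) :=
      (MonoidHom.ofInjective hι).trans (MulEquiv.subgroupCongr hT.symm)
    show (kInfLower ↥(T : Subgroup G)).map _ = _
    rw [← hW.2 P (T : Subgroup G) hP φ, Subgroup.map_map]
    rfl
  obtain ⟨R, hR, hf⟩ := (controlsTransfer_iff _ _).1 (kInfLower_transfer hp G)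
  have hf' := (famTransAt_singleton _ _ _).1 (hf.sylow (fun W' hW' => by
    rw [Set.mem_singleton_iff.1 hW']; exact isConjugacyFunctor_induced hW) hR (sylIn_top T))
  rw [top_inf_eq, hK, hT, ← commutator_def] at hf'
  rw [Subgroup.map_subtype_commutator]
  exact hf'


/-- For p ≥ 5, every finite p-group P has a characteristic subgroup K containing Z(P), depending only on P, whose normalizer controls transfer wherever P is a Sylow subgroup: for every finite group G and every embedding ι of P onto a Sylow p-subgroup of G, the intersection of ι(P) with the derived subgroup of G equals its intersection with the derived subgroup of N_G(ι(K)). -/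
theorem result (p : ℕ) [Fact p.Prime] (hp : 5 ≤ p) (P : Type u) [Group P] [Finite P] (hP : IsPGroup p P) : ∃ K : Subgroup P, K.Characteristic ∧ Subgroup.center P ≤ K ∧ ∀ (G : Type u) [Group G] [Finite G] (ι : P →* G), Function.Injective ι → (∃ T : Sylow p G, (T : Subgroup G) = ι.range) → ι.range ⊓ commutator G = ι.range ⊓ (commutator ↥(Subgroup.normalizer ((K.map ι : Subgroup G) : Set G))).map (Subgroup.normalizer ((K.map ι : Subgroup G) : Set G)).subtype := by
  refine ⟨Cfsg.kInfLower P, Subgroup.characteristic_iff_map_eq.2 fun e =>
    (isCharPFunctor_kInfLower p).2 P P hP e, ?_, fun G _ _ ι hι hT => range_inf_commutator hp hP ι hι hT⟩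
  haveI : Group.IsNilpotent P := hP.isNilpotent
  exact center_le_kInfLower

end Cfsg.Agent.S2015
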