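import Cfsg.Statements.S2036
import Cfsg.Agent.Lib.Lie.MTwentyTwoMult.Main
import Cfsg.Agent.Lib.Solv.SchurProd

set_option autoImplicit false
open Cfsg

namespace Cfsg.Agent.S2036

open Cfsg.Agent.Lie

/-- M₂₂ read on the twenty-four points. -/
def model : GolayCover.Model ↥Cfsg.Spor.M22 where
  φ := Cfsg.Spor.M22.subtype
  inj := Subgroup.subtype_injective _
  F := [23, 0]
  F_lt := by decide
  mem σ hσ h := by
    have e1 : Cfsg.Agent.Spor.pt 23 = (none : Cfsg.GolayPt) := by decide
    have e2 : Cfsg.Agent.Spor.pt 0 = (some 0 : Cfsg.GolayPt) := by decide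
    have h1 := h 23 (by simp)
    have h2 := h 0 (by simp)
    rw [e1] at h1
    rw [e2] at h2
    exact ⟨⟨σ, ⟨hσ, h1⟩, h2⟩, rfl⟩

/-- The Schur multiplier of the Mathieu group M₂₂ (the permutations in the automorphism group of the length-24 binary code that fix each of two given points) is cyclic of order 12; here the Schur multiplier is described through stem extensions, as in the definitions: surjective homomorphisms onto the group from a finite group, whose kernel is central in that finite group and contained in that finite group's commutator subgroup. -/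
theorem result : Cfsg.HasCyclicSchurMultiplier ↥Cfsg.Spor.M22 12 := by
  exact Cfsg.Agent.Solv.hasSchur_congr (AddEquiv.toMultiplicative (ZMod.chineseRemainder (m := 3) (n := 4) (by decide)).toAddEquiv.symm)
    (MTwentyTwoMult.multiplier model rfl Cfsg.Agent.Local.FS.Mathieu.card_m22)

end Cfsg.Agent.S2036
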