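import Cfsg.Statements.S2077
import Cfsg.Agent.Lib.Spor.RuAutMain
import Cfsg.Agent.Lib.Spor.RuOutMain

set_option autoImplicit false
open Cfsg

namespace Cfsg.Agent.S2077

/-- The outer automorphism group of the Rudvalis group (the unitary automorphism group of the rank-28 Gaussian lattice modulo its centre) is trivial: every automorphism is inner. -/
theorem result : Nat.card (Cfsg.Out Cfsg.Spor.Ru) = 1 := by
  have hfin : Finite ↥Cfsg.Agent.Spor.RuCert.Gru :=
    Nat.finite_of_card_ne_zero (by rw [Cfsg.Agent.Spor.RuCert.card_G]; norm_num)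
  have h2 := @Cfsg.Agent.Lie.OutCriterion.card_congr ↥Cfsg.Agent.Spor.RuCert.Gru _ hfin Cfsg.Spor.Ru _
  have h3 := Cfsg.Agent.Spor.RuAut.ruEquiv
  rw [h2 h3]
  exact Cfsg.Agent.Spor.RuOut.card_out

end Cfsg.Agent.S2077
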