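import Cfsg.Statements.S2078
import Cfsg.Agent.Lib.Spor.ONOutMain

set_option autoImplicit false
open Cfsg

namespace Cfsg.Agent.S2078

/-- Isomorphic groups have equally many outer automorphisms. -/
theorem card_out_congr {X Y : Type} [Group X] [Group Y] (e : X ≃* Y) :
    Nat.card (Cfsg.Out X) = Nat.card (Cfsg.Out Y) := by
  refine Nat.card_congr (QuotientGroup.congr _ _ (MulAut.congr e) ?_).toEquiv
  refine Subgroup.ext fun β => ⟨?_, ?_⟩
  · rintro ⟨_, ⟨g, rfl⟩, rfl⟩
    exact ⟨e g, MulEquiv.ext fun x => by simp [MulAut.congr]⟩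
  · rintro ⟨g, rfl⟩
    exact ⟨_, ⟨e.symm g, rfl⟩, MulEquiv.ext fun x => by simp [MulAut.congr]⟩

/-- The outer automorphism group of the O'Nan group (the finitely presented group of the definitions) has order 2. -/
theorem result : Nat.card (Cfsg.Out Cfsg.Spor.ON) = 2 := by
  rw [card_out_congr Cfsg.Agent.Spor.ONCert.equiv]
  exact Cfsg.Agent.Spor.ONCert.Outer.card_out

end Cfsg.Agent.S2078
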