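import Cfsg.Statements.S2088
import Cfsg.Agent.Lib.Lie.LThreeFourMult.Main
import Cfsg.Agent.Lib.Spor.PlaneAut

set_option autoImplicit false
open Cfsg

namespace Cfsg.Agent.S2088

universe v w

/-- The centre under an isomorphism. -/
theorem center_map {A : Type v} {B : Type w} [Group A] [Group B] (E : A ≃* B) :
    (Subgroup.center A).map (E : A →* B) = Subgroup.center B := by
  ext z
  constructor
  · rintro ⟨y, hy, rfl⟩
    refine Subgroup.mem_center_iff.mpr fun g => ?_
    obtain ⟨g, rfl⟩ := E.surjective g
    exact (map_mul E g y).symm.trans ((congrArg E (Subgroup.mem_center_iff.mp hy g)).trans (map_mul E y g))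
  · intro hz
    refine ⟨E.symm z, Subgroup.mem_center_iff.mpr fun g => E.injective ?_, E.apply_symm_apply z⟩
    rw [map_mul, map_mul, E.apply_symm_apply]
    exact Subgroup.mem_center_iff.mp hz _

/-- Projective special linear groups of isomorphic fields. -/
noncomputable def pslMap {K : Type v} {L : Type w} [Field K] [Field L] (e : K ≃+* L) :
    Matrix.ProjectiveSpecialLinearGroup (Fin 3) K ≃* Matrix.ProjectiveSpecialLinearGroup (Fin 3) L :=
  let E : Matrix.SpecialLinearGroup (Fin 3) K ≃* Matrix.SpecialLinearGroup (Fin 3) L :=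
    { toFun := Matrix.SpecialLinearGroup.map (e : K →+* L)
      invFun := Matrix.SpecialLinearGroup.map (e.symm : L →+* K)
      left_inv := fun g => Subtype.ext (Matrix.ext fun i j => e.symm_apply_apply _)
      right_inv := fun g => Subtype.ext (Matrix.ext fun i j => e.apply_symm_apply _)
      map_mul' := map_mul _ }
  QuotientGroup.congr _ _ E (center_map E)

/-- Exceptional Schur multiplier: over the field with 4 elements, PSL₃ has Schur multiplier isomorphic to the product of cyclic groups of orders 3, 4 and 4 (order 48, not cyclic; here the Schur multiplier is described through stem extensions, as in the definitions). -/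
theorem result {F : Type*} [Field F] [Fintype F] (hF : Fintype.card F = 4) : Cfsg.HasSchurMultiplier (Matrix.ProjectiveSpecialLinearGroup (Fin 3) F) (Multiplicative (ZMod 3 × ZMod 4 × ZMod 4)) := by
  letI : Fintype (GaloisField 2 2) := Fintype.ofFinite _
  have hF' : Fintype.card (GaloisField 2 2) = 4 := by
    rw [← Nat.card_eq_fintype_card, GaloisField.card 2 2 (by norm_num)]
    norm_num
  have f := pslMap (FiniteField.ringEquivOfCardEq (hF.trans hF'.symm) : F ≃+* GaloisField 2 2)
  obtain ⟨e0⟩ := Cfsg.Agent.Spor.PlaneAut.three_point_iso (F := GaloisField 2 2)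
    (p := (none : Cfsg.GolayPt)) (q := some 0) (r := some 1) (by decide) (by decide) (by decide) hF'
  have e := e0.trans f.symm
  let M : Cfsg.Agent.Lie.GolayCover.Model (Matrix.ProjectiveSpecialLinearGroup (Fin 3) F) :=
    { φ := (Cfsg.M24.subtype.comp (Subgroup.subtype _)).comp e.symm.toMonoidHom
      inj := ((Subgroup.subtype_injective _).comp (Subgroup.subtype_injective _)).comp e.symm.injective
      F := [23, 0, 1]
      F_lt := by decide
      mem := fun σ hσ h => by
        have e1 : Cfsg.Agent.Spor.pt 23 = (none : Cfsg.GolayPt) := by decide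
        have e2 : Cfsg.Agent.Spor.pt 0 = (some 0 : Cfsg.GolayPt) := by decide
        have e3 : Cfsg.Agent.Spor.pt 1 = (some 1 : Cfsg.GolayPt) := by decide
        have h1 := h 23 (by simp)
        have h2 := h 0 (by simp)
        have h3 := h 1 (by simp)
        rw [e1] at h1
        rw [e2] at h2
        rw [e3] at h3
        refine ⟨e ⟨⟨σ, hσ⟩, ⟨h1, h2⟩, h3⟩, ?_⟩
        show ((e.symm (e ⟨⟨σ, hσ⟩, ⟨h1, h2⟩, h3⟩)).1.1 : Equiv.Perm Cfsg.GolayPt) = σ
        rw [e.symm_apply_apply] }
  exact Cfsg.Agent.Lie.LThreeFourMult.multiplier M rfl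
    ((Nat.card_congr f.toEquiv).trans (Cfsg.Agent.Spor.PlaneAut.card_psl34 hF'))

end Cfsg.Agent.S2088
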