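import Cfsg.Statements.S2099
import Cfsg.Agent.Lib.Small.OrthCover.EvenMain
import Cfsg.Agent.Lib.Small.OrthCover.MinusThree
import Cfsg.Agent.S2095

set_option autoImplicit false
open Cfsg

namespace Cfsg.Agent.S2099

/-- Schur multipliers of the even-dimensional orthogonal groups of minus type: for l ≥ 4 and a field F with q elements, the Schur multiplier of PΩ⁻_2l(F) (for the form Σ_{i<l−1} xᵢyᵢ + z₁² + a z₁z₂ + b z₂² with the binary part anisotropic) is cyclic of order gcd(4, q^l + 1); here the Schur multiplier is described through stem extensions, as in the definitions. -/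
theorem result {F : Type*} [Field F] [Fintype F] {q : ℕ} (hF : Fintype.card F = q) (l : ℕ) (hl : 4 ≤ l) (a b : F) (hab : ∀ z₁ z₂ : F, z₁ ^ 2 + a * z₁ * z₂ + b * z₂ ^ 2 = 0 → z₁ = 0 ∧ z₂ = 0) : Cfsg.HasCyclicSchurMultiplier (Cfsg.POmega F (Cfsg.quadFormMinus (l - 1) F a b)) (Nat.gcd 4 (q ^ l + 1)) := by
  classical
  subst hF
  have hl1 : l = l - 1 + 1 := by omega
  conv_rhs => rw [hl1]
  by_cases h2 : ringChar F = 2
  · haveI : CharP F 2 := ringChar.of_eq h2
    exact Cfsg.Agent.Small.OrthCover.pomega_minus_even hab (by omega)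
  · have hodd : Odd (Fintype.card F) := Nat.odd_iff.mpr (FiniteField.odd_card_of_char_ne_two h2)
    have h2' := Cfsg.Agent.Classical.OOmega.two_ne_of_odd hodd
    refine Cfsg.Agent.Small.OrthCover.pomega_minus_odd hodd hab (by omega) ?_
    intro Γ _ C hΓ
    by_cases hq : 5 ≤ Nat.card F ∨ 4 ≤ l - 1
    · exact Cfsg.Agent.Small.OrthCover.minus_bound h2' hab (by omega) hq C hΓ
    have h3 : Fintype.card F = 3 := by
      have := Fintype.one_lt_card (α := F)
      have := Nat.odd_iff.mp hodd
      rw [Nat.card_eq_fintype_card] at hq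
      omega
    have hl3 : l - 1 = 3 := by omega
    revert C
    rw [hl3]
    intro C
    exact Cfsg.Agent.Small.OrthCover.minus_bound_three h3 (Cfsg.Agent.S2095.result h3) hab C hΓ

end Cfsg.Agent.S2099
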