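import Cfsg.Statements.S2102
import Cfsg.Agent.S1055
import Cfsg.Agent.S1059
import Cfsg.Agent.Lib.Lie.GTwoFourMult.Main

set_option autoImplicit false
open Cfsg

namespace Cfsg.Agent.S2102

/-- Exceptional Schur multiplier: over the field with 4 elements the Chevalley group of type G₂ has Schur multiplier cyclic of order 2 (here the Schur multiplier is described through stem extensions, as in the definitions). -/
theorem result {F : Type*} [Field F] [Fintype F] (hF : Fintype.card F = 4) :
    Cfsg.HasCyclicSchurMultiplier ↥(Cfsg.Lie.chevG2.group F) 2 := by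
  classical
  obtain ⟨φ, hφ⟩ := Cfsg.Agent.Lie.GTwoFourHallJanko.exists_action hF
  have hcard : Nat.card ↥(Cfsg.Lie.chevG2.group F) = 251596800 :=
    (Cfsg.Agent.S1059.result hF).trans (by norm_num)
  refine Cfsg.Agent.Lie.GTwoFourMult.multiplier φ hφ hcard ?_
  have hne : ∃ a : F, a ≠ 0 ∧ a ≠ 1 := by
    obtain ⟨a, ha⟩ : ∃ a : F, a ∉ ({0, 1} : Finset F) := by
      by_contra! h
      have := (Finset.card_le_card fun a _ => h a : (Finset.univ : Finset F).card ≤ _).trans Finset.card_le_two
      rw [Finset.card_univ, hF] at this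
      omega
    simp only [Finset.mem_insert, Finset.mem_singleton, not_or] at ha
    exact ⟨a, ha⟩
  obtain ⟨hs, hnc⟩ := Cfsg.Agent.S1055.result hne
  haveI := hs
  rcases (inferInstance : (commutator ↥(Cfsg.Lie.chevG2.group F)).Normal).eq_bot_or_eq_top with h | h
  · exact absurd ⟨⟨fun a b => commutatorElement_eq_one_iff_mul_comm.1 (Subgroup.mem_bot.1 (h ▸ by
      rw [commutator_def]; exact Subgroup.commutator_mem_commutator (Subgroup.mem_top a) (Subgroup.mem_top b)))⟩⟩ hnc
  · exact h

end Cfsg.Agent.S2102
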