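import Cfsg.Statements.S2105
import Cfsg.Agent.Lib.Lie.LiftMultiplier
import Cfsg.Agent.Lib.Lie.MinusculeCerts
-- import your own Cfsg.Agent.* helpers here

set_option autoImplicit false
open Cfsg

namespace Cfsg.Agent.S2105

/-- Schur multipliers of the (adjoint, simple) Chevalley groups of type E₆: over a field with q elements the Schur multiplier is cyclic of order gcd(3, q − 1) (here the Schur multiplier is described through stem extensions, as in the definitions). -/
theorem result {F : Type*} [Field F] [Fintype F] {q : ℕ} (hF : Fintype.card F = q) : Cfsg.HasCyclicSchurMultiplier ↥(Cfsg.Lie.chevE6.group F) (Nat.gcd 3 (q - 1)) := by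
  subst hF
  have hJ : ∀ j ∈ ([] : List ℕ), ∃ k : Fˣ, k ^ j ≠ 1 := fun _ h => absurd h List.not_mem_nil
  exact Cfsg.Agent.Lie.multiplier_prime Cfsg.Agent.Lie.factsE6 Cfsg.Agent.Lie.minRepE6.full.cert.hyp.1
    (d := 3) (by norm_num)
    (Cfsg.Agent.Lie.exists_dec Cfsg.Agent.Lie.factsE6 hJ Cfsg.Agent.Lie.okZeroE6 Cfsg.Agent.Lie.okShapeE6 Cfsg.Agent.Lie.okAgreeE6)
    (Cfsg.Agent.Lie.card_center_of_rep Cfsg.Agent.Lie.minRepE6 Cfsg.Agent.Lie.factsE6 Cfsg.Agent.Lie.kerCertE6)
    fun Γ _ C => Cfsg.Agent.Lie.hasLift_E6 Cfsg.Agent.Lie.factsE6 C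

end Cfsg.Agent.S2105
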