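import Cfsg.Statements.S2108
import Cfsg.Agent.Lib.Lie.TwistMult.E6Rank
import Cfsg.Agent.Lib.Lie.TwistMult.E6Cover
import Cfsg.Agent.Lib.Solv.SchurSmall

set_option autoImplicit false
open Cfsg

namespace Cfsg.Agent.S2108

/-- Schur multipliers of the twisted groups of type ²E₆: for a prime power q ≠ 2, with the group realised over the field with q² elements, the Schur multiplier of ²E₆(q) is cyclic of order gcd(3, q + 1) (here the Schur multiplier is described through stem extensions, as in the definitions); q = 2 is exceptional. -/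
theorem result {K : Type*} [Field K] [Fintype K] {q : ℕ} (hq : IsPrimePow q) (hK : Fintype.card K = q ^ 2) (h2 : q ≠ 2) : Cfsg.HasCyclicSchurMultiplier ↥(Cfsg.Lie.twistedE6 K q) (Nat.gcd 3 (q + 1)) := by
  obtain ⟨S⟩ := Cfsg.Agent.Lie.E6.nonempty_setup (K := K) hq hK
  rcases (Nat.dvd_prime Nat.prime_three).1 (Nat.gcd_dvd_left 3 (q + 1)) with hd | hd
  · rw [hd]
    refine Solv.hasCyclicSchur_one_of fun Γ _ _ σ hσ k hk => ?_
    have h := Lie.E6.Mult.card_ker_dvd S hq h2 σ hσ
    rw [hd] at h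
    rw [Subgroup.card_eq_one.1 (Nat.dvd_one.1 h), Subgroup.mem_bot] at hk
    exact hk
  · rw [hd]
    refine Solv.hasCyclicSchur_of (Lie.E6.Mult.exists_cover S hq (hd ▸ Nat.gcd_dvd_right 3 (q + 1)))
      fun Γ _ _ σ hσ => ?_
    have h := Lie.E6.Mult.card_ker_dvd S hq h2 σ hσ
    rw [hd] at h
    haveI : Fact (Nat.Prime 3) := ⟨Nat.prime_three⟩
    rcases (Nat.dvd_prime Nat.prime_three).1 h with h1 | h3
    · exact ⟨1, one_pow 3, fun k => by
        rw [show k = 1 from Subtype.ext (Subgroup.mem_bot.1 (Subgroup.card_eq_one.1 h1 ▸ k.2))]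
        exact one_mem _⟩
    · haveI := isCyclic_of_prime_card h3
      obtain ⟨g, hg⟩ := IsCyclic.exists_generator (α := σ.ker)
      exact ⟨g, h3 ▸ pow_card_eq_one', hg⟩

end Cfsg.Agent.S2108
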