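import Cfsg.Statements.S2110
import Cfsg.Agent.Lib.Lie.TwistMult.D4Lift
import Cfsg.Agent.Lib.Solv.SchurSmall
-- import your own Cfsg.Agent.* helpers here

set_option autoImplicit false
open Cfsg

namespace Cfsg.Agent.S2110

/-- Schur multipliers of the triality-twisted groups ³D₄: for every prime power q, with the group realised over the field with q³ elements, the Schur multiplier of ³D₄(q) is trivial (here the Schur multiplier is described through stem extensions, as in the definitions). -/
theorem result {K : Type*} [Field K] [Fintype K] {q : ℕ} (hq : IsPrimePow q) (hK : Fintype.card K = q ^ 3) : Cfsg.HasCyclicSchurMultiplier ↥(Cfsg.Lie.twistedD4 K q) 1 := by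
  obtain ⟨p, f, hp, hf, rfl⟩ := hq
  haveI : Fact p.Prime := ⟨Nat.prime_iff.2 hp⟩
  obtain ⟨S⟩ := Cfsg.Agent.Lie.D4.nonempty_setup (q := p ^ f) ⟨p, f, hp, hf, rfl⟩ hK
  have hpK : (p : K) = 0 := by
    have h0 : ((Fintype.card K : ℕ) : K) = 0 := Nat.cast_card_eq_zero K
    rw [hK, Nat.cast_pow, Nat.cast_pow, ← pow_mul] at h0
    exact (pow_eq_zero_iff (by omega)).1 h0
  exact Cfsg.Agent.Solv.hasCyclicSchur_one_of fun Γ _ _ σ hσ k hk => by
    rw [Cfsg.Agent.Lie.TwistMult.D4.ker_eq_bot S rfl hpK σ hσ] at hk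
    exact hk

end Cfsg.Agent.S2110
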