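import Cfsg.Statements.S2113
import Cfsg.Agent.Lib.Small.Ree.Multiplier
-- import your own Cfsg.Agent.* helpers here

set_option autoImplicit false
open Cfsg

namespace Cfsg.Agent.S2113

/-- Schur multipliers of the small Ree groups: for q = 3^(2m+1) with m ≥ 1 the Schur multiplier of ²G₂(q) is trivial (here the Schur multiplier is described through stem extensions, as in the definitions). -/
theorem result {K : Type*} [Field K] [Fintype K] {m : ℕ} (hm : 1 ≤ m) (hK : Fintype.card K = 3 ^ (2 * m + 1)) : Cfsg.HasCyclicSchurMultiplier ↥(Cfsg.Lie.twistedG2 K (3 ^ m)) 1 := by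
  classical
  obtain ⟨T⟩ := Cfsg.Agent.Lie.G2.nonempty_setup hK
  have h27 := Small.Ree.large_card T hm
  refine ⟨⟨_, inferInstance, inferInstance, MonoidHom.id _, ⟨Function.surjective_id, ?_, ?_⟩, ?_⟩, ?_⟩
  · intro x hx; rw [MonoidHom.mem_ker] at hx; rw [show x = 1 from hx]; exact one_mem _
  · intro x hx; rw [MonoidHom.mem_ker] at hx; rw [show x = 1 from hx]; exact one_mem _
  · haveI : Subsingleton ↥(MonoidHom.id ↥(Cfsg.Lie.twistedG2 K (3 ^ m))).ker :=
      ⟨fun a b => Subtype.ext (a.2.trans b.2.symm)⟩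
    haveI : Subsingleton (Multiplicative (ZMod 1)) := inferInstanceAs (Subsingleton (ZMod 1))
    exact ⟨{ toFun := fun _ => 1, invFun := fun _ => 1, left_inv := fun _ => Subsingleton.elim _ _,
             right_inv := fun _ => Subsingleton.elim _ _, map_mul' := fun _ _ => (one_mul 1).symm }⟩
  · intro Γ _ _ σ hσ
    have h := Small.Ree.stem_trivial T h27 σ hσ
    exact ⟨1, fun y => ⟨1, Subtype.ext (Subgroup.mem_bot.1 (h ▸ y.2)).symm⟩⟩

end Cfsg.Agent.S2113
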