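import Cfsg.Statements.S2140
import Cfsg.Agent.Lib.Small.SLnMinDeg.Exceptional

set_option autoImplicit false
open Cfsg
open Cfsg.Agent Cfsg.Agent.Small

namespace Cfsg.Agent.S2140

/-- Minimal index of a proper subgroup of the linear groups: for n ≥ 3 and a field F with q elements, (n, q) ≠ (4, 2), every proper subgroup of PSL_n(F) has index at least (q^n − 1)/(q − 1), and some subgroup has exactly that index (the stabiliser of a point of the projective space). -/
theorem result {F : Type*} [Field F] [Fintype F] {q : ℕ} (hF : Fintype.card F = q) (n : ℕ) (hn : 3 ≤ n) (hexc : ¬ (n = 4 ∧ q = 2)) : (∀ H : Subgroup (Matrix.ProjectiveSpecialLinearGroup (Fin n) F), H ≠ ⊤ → (q ^ n - 1) / (q - 1) ≤ H.index) ∧ (∃ H : Subgroup (Matrix.ProjectiveSpecialLinearGroup (Fin n) F), H.index = (q ^ n - 1) / (q - 1)) := by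
  classical
  obtain ⟨k, rfl⟩ : ∃ k, n = k + 1 := ⟨n - 1, by omega⟩
  have hk : 2 ≤ k := by omega
  subst hF
  have hq : 2 ≤ Fintype.card F := Fintype.one_lt_card
  have hb : (Fintype.card F ^ (k + 1) - 1) / (Fintype.card F - 1) = MinDeg.qi (Fintype.card F) (k + 1) := by
    rw [← MinDeg.qi_mul _ _ (by omega), Nat.mul_div_cancel _ (by omega)]
  let π := QuotientGroup.mk' (Subgroup.center (Matrix.SpecialLinearGroup (Fin (k + 1)) F))
  have hπ : Function.Surjective π := QuotientGroup.mk'_surjective _
  refine ⟨fun H hH => ?_, ?_⟩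
  · rw [hb, ← Subgroup.index_comap_of_surjective H hπ]
    let _ : Fintype (Matrix.SpecialLinearGroup (Fin (k + 1)) F ⧸ H.comap π) := Fintype.ofFinite _
    rw [Subgroup.index, Nat.card_eq_fintype_card]
    have h2 : 2 ≤ Fintype.card (Matrix.SpecialLinearGroup (Fin (k + 1)) F ⧸ H.comap π) := by
      have h1 : (H.comap π).index ≠ 1 := by
        rw [Subgroup.index_comap_of_surjective H hπ]
        exact fun h => hH (Subgroup.index_eq_one.1 h)
      have h0 : (H.comap π).index ≠ 0 := Subgroup.index_ne_zero_of_finite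
      rw [Subgroup.index, Nat.card_eq_fintype_card] at h1 h0
      omega
    by_cases he : MinDeg.Exc k (Fintype.card F)
    · rcases he with ⟨rfl, he⟩ | ⟨rfl, he⟩
      · exact MinDeg.index_two he _ h2
      · exact MinDeg.index_three (by omega) _ h2
    · exact MinDeg.card_bound _ hk he h2
  · have : MulAction.IsPretransitive (Matrix.SpecialLinearGroup (Fin (k + 1)) F)
        (Projectivization F (Fin (k + 1) → F)) := MinDeg.pretransitive (by omega)
    refine ⟨(MulAction.stabilizer (Matrix.SpecialLinearGroup (Fin (k + 1)) F)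
      (MinDeg.p0 (F := F) (k := k))).map π, ?_⟩
    rw [Subgroup.index_map_eq _ hπ, MulAction.index_stabilizer_of_transitive, MinDeg.card_proj, hb]
    rw [QuotientGroup.ker_mk', ← Projectivization.SL_mulAction_ker]
    intro g hg
    rw [MulAction.mem_stabilizer_iff]
    simpa using Equiv.Perm.ext_iff.1 (MonoidHom.mem_ker.1 hg) (MinDeg.p0 (F := F) (k := k))

end Cfsg.Agent.S2140
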