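import Cfsg.Statements.S2149
import Cfsg.Agent.Lib.Lie.UFive.Quotient

set_option autoImplicit false
open Cfsg

namespace Cfsg.Agent.S2149

/-- Minimal index of a proper subgroup of PSU₃(5), realised over the field with 25 elements: every proper subgroup has index at least 50, and that index is attained. -/
theorem result {F : Type*} [Field F] [Fintype F] (hF : Fintype.card F = 25) : (∀ H : Subgroup (Cfsg.PSU 3 F 5), H ≠ ⊤ → 50 ≤ H.index) ∧ (∃ H : Subgroup (Cfsg.PSU 3 F 5), H.index = 50) := by
  obtain ⟨r, hr⟩ := Cfsg.Agent.Lie.UFive.exists_root hF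
  obtain ⟨p, e, σ, -, -, -, -, hσ⟩ := Cfsg.Agent.Classical.exists_usigma (F := F) (q := 5) (by rw [hF]; norm_num)
  refine ⟨fun H hH => ?_, Cfsg.Agent.Lie.UFive.exists_index_fifty hF hr hσ⟩
  rw [← Subgroup.index_comap_of_surjective H (QuotientGroup.mk'_surjective (Subgroup.center (Cfsg.SU 3 F 5)))]
  refine Cfsg.Agent.Lie.UFive.index_ge hF hr hσ _ fun h => hH ?_
  have := congrArg (Subgroup.map (QuotientGroup.mk' (Subgroup.center (Cfsg.SU 3 F 5)))) h
  rwa [Subgroup.map_comap_eq_self_of_surjective (QuotientGroup.mk'_surjective _),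
    Subgroup.map_top_of_surjective _ (QuotientGroup.mk'_surjective _)] at this

end Cfsg.Agent.S2149
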