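import Cfsg.Statements.S2152
import Cfsg.Agent.Lib.Small.UMinIndex.Proj

set_option autoImplicit false
open Cfsg

namespace Cfsg.Agent.S2152

/-- Minimal index of a proper subgroup of the unitary groups of even dimension n ≥ 6: for a field F with q² elements, q ≥ 3, every proper subgroup of PSU_n(q) has index at least (q^n − 1)(q^(n−1) + 1)/(q² − 1), and that index is attained (the isotropic points). -/
theorem result {F : Type*} [Field F] [Fintype F] (q : ℕ) (hF : Fintype.card F = q ^ 2) (hq : 3 ≤ q) (n : ℕ) (hn : 6 ≤ n) (heven : Even n) : (∀ H : Subgroup (Cfsg.PSU n F q), H ≠ ⊤ → (q ^ n - 1) * (q ^ (n - 1) + 1) / (q ^ 2 - 1) ≤ H.index) ∧ (∃ H : Subgroup (Cfsg.PSU n F q), H.index = (q ^ n - 1) * (q ^ (n - 1) + 1) / (q ^ 2 - 1)) := by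
  classical
  obtain ⟨p, k, s, hp, hchar, hqp, hk, hs⟩ := Classical.exists_usigma hF
  letI : StarRing F := Small.Hermitian.starRingOfInvolution s.toRingHom hs.involutive
  have hstar : ∀ x : F, star x = x ^ q := hs.apply_eq
  rw [Small.UMinIndex.bound_even (by omega) heven]
  refine Small.UMinIndex.psu_of_su (fun H hH => ?_) (Small.UMinIndex.attain_iso hstar hF (by omega))
  rcases Small.UMinIndex.bound_main hstar hF (by omega) hH with h | ⟨h2, -⟩
  · exact h
  · omega

end Cfsg.Agent.S2152
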