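import Cfsg.Statements.S2153
import Cfsg.Agent.Lib.Small.UMinIndex.Proj

set_option autoImplicit false
open Cfsg

namespace Cfsg.Agent.S2153

/-- Minimal index of a proper subgroup of the unitary groups PSU_n(2) with n divisible by 6, realised over the field with 4 elements: every proper subgroup has index at least 2^(n−1)(2^n − 1)/3, and that index is attained. -/
theorem result {F : Type*} [Field F] [Fintype F] (hF : Fintype.card F = 4) (n : ℕ) (hn : 6 ∣ n) (hpos : 6 ≤ n) : (∀ H : Subgroup (Cfsg.PSU n F 2), H ≠ ⊤ → 2 ^ (n - 1) * (2 ^ n - 1) / 3 ≤ H.index) ∧ (∃ H : Subgroup (Cfsg.PSU n F 2), H.index = 2 ^ (n - 1) * (2 ^ n - 1) / 3) := by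
  classical
  have hF' : Fintype.card F = 2 ^ 2 := by rw [hF]; norm_num
  obtain ⟨p, k, s, hp, hchar, hqp, hk, hs⟩ := Classical.exists_usigma hF'
  letI : StarRing F := Small.Hermitian.starRingOfInvolution s.toRingHom hs.involutive
  have hstar : ∀ x : F, star x = x ^ 2 := hs.apply_eq
  have heven : Even n := even_iff_two_dvd.2 (dvd_trans (by norm_num) hn)
  rw [Small.UMinIndex.bound_two heven (by omega)]
  refine Small.UMinIndex.psu_of_su (fun H hH => ?_) (Small.UMinIndex.attain_two (hstar := hstar) hF' (by omega))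
  rcases Small.UMinIndex.bound_main hstar hF' (by omega) hH with h | ⟨-, h⟩
  · have := ((Small.UMinIndex.nip_two n).2 heven).1
    omega
  · exact h

end Cfsg.Agent.S2153
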