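import Cfsg.Statements.S2166
import Cfsg.Agent.Lib.Small.SpInvolMatrix
-- import your own Cfsg.Agent.* helpers here

set_option autoImplicit false
open Cfsg

namespace Cfsg.Agent.S2166

open scoped Matrix

/-- Conjugacy of involutions in the symplectic group Sp_{2m}(F), F a finite field of characteristic two, m ≥ 2 (Sp taken as the matrices A with A J Aᵀ = J, acting on column vectors, with the alternating form f(u, v) = u ⬝ (J v)). For an involution t write V(t) for the set of vectors v with f(v, t v) = 0 (a subspace). Two involutions a, b are conjugate in Sp_{2m}(F) exactly when a − 1 and b − 1 have the same rank and, in case that rank is even, V(a) and V(b) have the same number of elements. -/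
theorem result {F : Type*} [Field F] [Fintype F] [CharP F 2] {m : ℕ} (hm : 2 ≤ m) (a b : ↥(Matrix.symplecticGroup (Fin m) F)) (ha : orderOf a = 2) (hb : orderOf b = 2) :
    IsConj a b ↔ ((((a : ↥(Matrix.symplecticGroup (Fin m) F)) : Matrix (Fin m ⊕ Fin m) (Fin m ⊕ Fin m) F) - 1).rank = (((b : ↥(Matrix.symplecticGroup (Fin m) F)) : Matrix (Fin m ⊕ Fin m) (Fin m ⊕ Fin m) F) - 1).rank ∧
      (Even (((a : ↥(Matrix.symplecticGroup (Fin m) F)) : Matrix (Fin m ⊕ Fin m) (Fin m ⊕ Fin m) F) - 1).rank → Nat.card {v : Fin m ⊕ Fin m → F // Cfsg.sympForm m F v (Matrix.mulVec ((a : ↥(Matrix.symplecticGroup (Fin m) F)) : Matrix (Fin m ⊕ Fin m) (Fin m ⊕ Fin m) F) v) = 0} = Nat.card {v : Fin m ⊕ Fin m → F // Cfsg.sympForm m F v (Matrix.mulVec ((b : ↥(Matrix.symplecticGroup (Fin m) F)) : Matrix (Fin m ⊕ Fin m) (Fin m ⊕ Fin m) F) v) = 0})) := by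
  have ha2 : a ^ 2 = 1 := by rw [← ha]; exact pow_orderOf_eq_one a
  have hb2 : b ^ 2 = 1 := by rw [← hb]; exact pow_orderOf_eq_one b
  rw [Cfsg.Agent.Small.SpInvolMatrix.conj_iff ha2 hb2]
  refine ⟨fun h => ⟨h.1, fun _ => ?_⟩, fun h => ⟨h.1, ?_⟩⟩
  · by_cases hA : ∀ v, Cfsg.sympForm m F v (a.1 *ᵥ v) = 0
    · rw [(Cfsg.Agent.Small.SpInvolMatrix.alt_iff_card a).1 hA,
        (Cfsg.Agent.Small.SpInvolMatrix.alt_iff_card b).1 (h.2.1 hA)]
    · have hq := (Cfsg.Agent.Small.InvForm.main a.1 (SymplecticGroup.mem_iff'.1 a.2)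
        (by rw [← Submonoid.coe_mul, ← sq, ha2, Submonoid.coe_one])).1
      have hq' := (Cfsg.Agent.Small.InvForm.main b.1 (SymplecticGroup.mem_iff'.1 b.2)
        (by rw [← Submonoid.coe_mul, ← sq, hb2, Submonoid.coe_one])).1
      have htot : Nat.card (Fin m ⊕ Fin m → F) = Fintype.card F ^ (2 * m) := by
        rw [Nat.card_fun, Nat.card_eq_fintype_card, Nat.card_eq_fintype_card, Fintype.card_sum, Fintype.card_fin,
          two_mul]
      have n1 := fun e => hA ((Cfsg.Agent.Small.SpInvolMatrix.alt_iff_card a).2 e)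
      have n2 := fun e => hA (h.2.2 ((Cfsg.Agent.Small.SpInvolMatrix.alt_iff_card b).2 e))
      rw [htot] at n1 n2
      exact Nat.eq_of_mul_eq_mul_right Fintype.card_pos
        ((hq.resolve_left n1).trans (hq'.resolve_left n2).symm)
  · by_cases he : Even ((a.1 : Matrix (Fin m ⊕ Fin m) (Fin m ⊕ Fin m) F) - 1).rank
    · rw [Cfsg.Agent.Small.SpInvolMatrix.alt_iff_card, Cfsg.Agent.Small.SpInvolMatrix.alt_iff_card, h.2 he]
    · refine iff_of_false (fun hA => he (Cfsg.Agent.Small.SpInvolMatrix.alt_even ha2 hA)) fun hB => ?_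
      exact he (h.1 ▸ Cfsg.Agent.Small.SpInvolMatrix.alt_even hb2 hB)

end Cfsg.Agent.S2166
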