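import Cfsg.Statements.S2169
import Cfsg.Agent.Lib.Small.Orth.Standard
import Cfsg.Agent.Lib.Classical.OrthPOmega
import Cfsg.Agent.Lib.Classical.DiscType

set_option autoImplicit false
open Cfsg

namespace Cfsg.Agent.S2169
open Cfsg.Agent.Small.Orth

/-- For the hyperbolic quadratic form Σ x_i y_i in dimension 2m over a finite field F of characteristic two, m ≥ 4 (plus type): an element of order 2 of the full isometry group O lies in the commutator subgroup Ω of O exactly when t − 1 has even rank. -/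
theorem result {F : Type*} [Field F] [Fintype F] [CharP F 2] {m : ℕ} (hm : 4 ≤ m) (t : ↥(Cfsg.isometryGroup F (Cfsg.quadFormPlus m F))) (ht : orderOf t = 2) :
    t ∈ Cfsg.Omega F (Cfsg.quadFormPlus m F) ↔ Even ((((t : ↥(Cfsg.isometryGroup F (Cfsg.quadFormPlus m F))) : GL (Fin m ⊕ Fin m) F) : Matrix (Fin m ⊕ Fin m) (Fin m ⊕ Fin m) F) - 1).rank := by
  classical
  have hh : Nat.card F ≠ 2 ∨ m ≠ 2 := Or.inr (by omega)
  obtain ⟨vs, hvs, hM⟩ := exists_list_mat (Cfsg.Agent.Classical.OOmega.coe_plus m) (qPlus_pnd F m) (card_plus F hh) t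
  rw [mem_omega (Cfsg.Agent.Classical.OOmega.coe_plus m) (qPlus_pnd F m) t vs hvs hM,
    even_rank_mat (qPlus_pnd F m) vs hvs hM]
  exact ⟨fun h => h.1, fun h => ⟨h, isSquare_all CharTwo.two_eq_zero _⟩⟩

end Cfsg.Agent.S2169
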