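import Cfsg.Statements.S2172
import Cfsg.Agent.Lib.Small.OInvolMatrix
-- import your own Cfsg.Agent.* helpers here

set_option autoImplicit false
open Cfsg

namespace Cfsg.Agent.S2172

open Cfsg.Agent.Small

/-- Splitting of involution classes from O to Ω for the hyperbolic quadratic form Q = Σ x_i y_i in dimension 2m over a finite field F of characteristic two, m ≥ 4. Let t, s be involutions of the commutator subgroup Ω that are conjugate in the full isometry group O. If it is not the case that t − 1 has rank m and Q(v + t v) = 0 for every vector v, then t and s are conjugate by an element of Ω. If t − 1 has rank m and Q(v + t v) = 0 for all v, then t and s are conjugate by an element of Ω exactly when the intersection of the images of t − 1 and s − 1 has even dimension (so the class of t in O meets at most two classes of Ω). -/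
theorem result {F : Type*} [Field F] [Fintype F] [CharP F 2] {m : ℕ} (hm : 4 ≤ m) (t s : ↥(Cfsg.isometryGroup F (Cfsg.quadFormPlus m F))) (ht : orderOf t = 2) (hs : orderOf s = 2) (htO : t ∈ Cfsg.Omega F (Cfsg.quadFormPlus m F)) (hsO : s ∈ Cfsg.Omega F (Cfsg.quadFormPlus m F)) (hconj : IsConj t s) :
    (¬ (((((t : ↥(Cfsg.isometryGroup F (Cfsg.quadFormPlus m F))) : GL (Fin m ⊕ Fin m) F) : Matrix (Fin m ⊕ Fin m) (Fin m ⊕ Fin m) F) - 1).rank = m ∧ ∀ v : Fin m ⊕ Fin m → F, Cfsg.quadFormPlus m F (v + Matrix.mulVec (((t : ↥(Cfsg.isometryGroup F (Cfsg.quadFormPlus m F))) : GL (Fin m ⊕ Fin m) F) : Matrix (Fin m ⊕ Fin m) (Fin m ⊕ Fin m) F) v) = 0) →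
      ∃ g ∈ Cfsg.Omega F (Cfsg.quadFormPlus m F), g * t * g⁻¹ = s) ∧
    ((((((t : ↥(Cfsg.isometryGroup F (Cfsg.quadFormPlus m F))) : GL (Fin m ⊕ Fin m) F) : Matrix (Fin m ⊕ Fin m) (Fin m ⊕ Fin m) F) - 1).rank = m ∧ ∀ v : Fin m ⊕ Fin m → F, Cfsg.quadFormPlus m F (v + Matrix.mulVec (((t : ↥(Cfsg.isometryGroup F (Cfsg.quadFormPlus m F))) : GL (Fin m ⊕ Fin m) F) : Matrix (Fin m ⊕ Fin m) (Fin m ⊕ Fin m) F) v) = 0) →
      ((∃ g ∈ Cfsg.Omega F (Cfsg.quadFormPlus m F), g * t * g⁻¹ = s) ↔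
        Even (Module.finrank F ↥(LinearMap.range (Matrix.toLin' ((((t : ↥(Cfsg.isometryGroup F (Cfsg.quadFormPlus m F))) : GL (Fin m ⊕ Fin m) F) : Matrix (Fin m ⊕ Fin m) (Fin m ⊕ Fin m) F) - 1)) ⊓ LinearMap.range (Matrix.toLin' ((((s : ↥(Cfsg.isometryGroup F (Cfsg.quadFormPlus m F))) : GL (Fin m ⊕ Fin m) F) : Matrix (Fin m ⊕ Fin m) (Fin m ⊕ Fin m) F) - 1)))))) := by
  have hq : Cfsg.quadFormPlus m F = ⇑(Cfsg.Agent.Small.Orth.qPlus F m) :=
    (Cfsg.Agent.Classical.OOmega.coe_plus m).symm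
  have halt : ∀ {t : ↥(Cfsg.isometryGroup F ⇑(Cfsg.Agent.Small.Orth.qPlus F m))}, OInvolMatrix.Alt t ↔
      ∀ v, (Cfsg.Agent.Small.Orth.qPlus F m) (v + Matrix.mulVec (t.1.1 : Matrix (Fin m ⊕ Fin m) (Fin m ⊕ Fin m) F) v) = 0 := by
    intro t
    refine forall_congr' fun v => ?_
    rw [Matrix.sub_mulVec, Matrix.one_mulVec, show Matrix.mulVec (t.1.1 : Matrix (Fin m ⊕ Fin m) (Fin m ⊕ Fin m) F) v - v =
      v + Matrix.mulVec (t.1.1 : Matrix (Fin m ⊕ Fin m) (Fin m ⊕ Fin m) F) v from funext fun i => by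
        simp only [Pi.sub_apply, Pi.add_apply, CharTwo.sub_eq_add]; ring]
  revert t s ht hs htO hsO hconj
  rw [hq]
  intro t s ht hs htO hsO hconj
  have hG := OInvolMatrix.gen (Orth.qPlus_pnd F m) (Or.inr (by simp; omega))
  have hι : Fintype.card (Fin m ⊕ Fin m) = 2 * m := by simp; omega
  have ht2 := ((OInvolMatrix.orderOf_two_iff t).1 ht).1
  exact ⟨fun h => OInvolMatrix.conj_omega (Orth.qPlus_pnd F m) hι hG ht2 hconj fun h' => h ⟨h'.1, halt.1 h'.2⟩,
    fun h => OInvolMatrix.conj_omega_iff (Orth.qPlus_pnd F m) hι hG ht2 htO hconj h.1 (halt.2 h.2)⟩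

end Cfsg.Agent.S2172
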