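import Cfsg.Statements.S2173
import Cfsg.Agent.Lib.Small.OInvolMatrix
-- import your own Cfsg.Agent.* helpers here

set_option autoImplicit false
open Cfsg

namespace Cfsg.Agent.S2173

open Cfsg.Agent.Small

/-- For the quadratic form Σ x_i y_i + (z₁² + c z₁ z₂ + d z₂²) in dimension 2m with anisotropic binary part over a finite field F of characteristic two, m ≥ 4 (minus type): two involutions of the commutator subgroup Ω that are conjugate in the full isometry group O are conjugate by an element of Ω (no class of involutions of O inside Ω splits). -/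
theorem result {F : Type*} [Field F] [Fintype F] [CharP F 2] {m : ℕ} (hm : 4 ≤ m) (c d : F) (hcd : ∀ z₁ z₂ : F, z₁ ^ 2 + c * z₁ * z₂ + d * z₂ ^ 2 = 0 → z₁ = 0 ∧ z₂ = 0) (t s : ↥(Cfsg.isometryGroup F (Cfsg.quadFormMinus (m - 1) F c d))) (ht : orderOf t = 2) (hs : orderOf s = 2) (htO : t ∈ Cfsg.Omega F (Cfsg.quadFormMinus (m - 1) F c d)) (hsO : s ∈ Cfsg.Omega F (Cfsg.quadFormMinus (m - 1) F c d)) (hconj : IsConj t s) :
    ∃ g ∈ Cfsg.Omega F (Cfsg.quadFormMinus (m - 1) F c d), g * t * g⁻¹ = s := by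
  obtain ⟨k, rfl⟩ : ∃ k, m = k + 1 := ⟨m - 1, by omega⟩
  have hq : Cfsg.quadFormMinus (k + 1 - 1) F c d = ⇑(OInvolMatrix.qMinus F (k + 1 - 1) c d) :=
    (Cfsg.Agent.Classical.OOmega.coe_minus (k + 1 - 1) c d).symm
  revert t s ht hs htO hsO hconj
  rw [hq]
  intro t s ht hs htO hsO hconj
  have hι : Fintype.card ((Fin (k + 1 - 1) ⊕ Fin (k + 1 - 1)) ⊕ Fin 2) = 2 * (k + 1) := by simp; omega
  have ht2 := ((OInvolMatrix.orderOf_two_iff t).1 ht).1
  refine OInvolMatrix.conj_omega (OInvolMatrix.qMinus_pnd hcd) hι (OInvolMatrix.gen_minus hcd) ht2 hconj fun h => ?_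
  have harf := OInvolMatrix.arf_of_alt (OInvolMatrix.qMinus_pnd hcd) hι ht2 h.2 h.1
  rw [OInvolMatrix.arf_minus hcd] at harf
  have : (0 : ℤ) < (Fintype.card F : ℤ) ^ (k + 1) := pow_pos (by exact_mod_cast Fintype.card_pos) _
  simp only [Nat.add_sub_cancel] at harf
  linarith

end Cfsg.Agent.S2173
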