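import Cfsg.Statements.S2177
import Cfsg.Agent.Lib.Small.Char2Invol.G2Cent

set_option autoImplicit false
open Cfsg

namespace Cfsg.Agent.S2177

/-- Conjugacy classes of involutions in the Chevalley group of type G₂ over a finite field F of characteristic two with at least four elements (the matrix group generated by the root elements x_r(t)). In this problem's root numbering for type G₂ (the Chevalley data module; p₁ = a short, p₂ = b long; roots indexed by coefficient vectors in increasing order) let 11 be the highest root 3a + 2b (long) and 9 the short root 2a + b; consider x_{3a+2b}(1) and x_{2a+b}(1). Then: each invertible matrix equal to one of these two products lies in the group and has order 2; every element of order 2 of the group is conjugate in the group to one of them; and no two of them are conjugate in the group (so, the two matrices being distinct, the group has exactly two conjugacy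 classes of involutions). -/
theorem result {F : Type*} [Field F] [Fintype F] [CharP F 2] (hF : 4 ≤ Fintype.card F) :
    (∀ y : GL Cfsg.Lie.chevG2.Idx F, ((y : GL Cfsg.Lie.chevG2.Idx F) : Matrix Cfsg.Lie.chevG2.Idx Cfsg.Lie.chevG2.Idx F) ∈ [Cfsg.Lie.chevG2.x F 11 1, Cfsg.Lie.chevG2.x F 9 1] → y ∈ Cfsg.Lie.chevG2.group F ∧ orderOf y = 2) ∧
    (∀ g ∈ Cfsg.Lie.chevG2.group F, orderOf g = 2 → ∃ y ∈ Cfsg.Lie.chevG2.group F, ((y : GL Cfsg.Lie.chevG2.Idx F) : Matrix Cfsg.Lie.chevG2.Idx Cfsg.Lie.chevG2.Idx F) ∈ [Cfsg.Lie.chevG2.x F 11 1, Cfsg.Lie.chevG2.x F 9 1] ∧ ∃ h ∈ Cfsg.Lie.chevG2.group F, h * g * h⁻¹ = y) ∧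
    (∀ y₁ ∈ Cfsg.Lie.chevG2.group F, ∀ y₂ ∈ Cfsg.Lie.chevG2.group F, ((y₁ : GL Cfsg.Lie.chevG2.Idx F) : Matrix Cfsg.Lie.chevG2.Idx Cfsg.Lie.chevG2.Idx F) ∈ [Cfsg.Lie.chevG2.x F 11 1, Cfsg.Lie.chevG2.x F 9 1] → ((y₂ : GL Cfsg.Lie.chevG2.Idx F) : Matrix Cfsg.Lie.chevG2.Idx Cfsg.Lie.chevG2.Idx F) ∈ [Cfsg.Lie.chevG2.x F 11 1, Cfsg.Lie.chevG2.x F 9 1] →
      (∃ h ∈ Cfsg.Lie.chevG2.group F, h * y₁ * h⁻¹ = y₂) → ((y₁ : GL Cfsg.Lie.chevG2.Idx F) : Matrix Cfsg.Lie.chevG2.Idx Cfsg.Lie.chevG2.Idx F) = ((y₂ : GL Cfsg.Lie.chevG2.Idx F) : Matrix Cfsg.Lie.chevG2.Idx Cfsg.Lie.chevG2.Idx F)) := by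
  have hmem : ∀ y : GL Cfsg.Lie.chevG2.Idx F, ((y : GL Cfsg.Lie.chevG2.Idx F) : Matrix Cfsg.Lie.chevG2.Idx Cfsg.Lie.chevG2.Idx F) ∈
      [Cfsg.Lie.chevG2.x F 11 1, Cfsg.Lie.chevG2.x F 9 1] →
      y = Cfsg.Agent.Small.C2Inv.G2.X 11 1 ∨ y = Cfsg.Agent.Small.C2Inv.G2.X 9 1 := by
    intro y hy
    simp only [List.mem_cons, List.not_mem_nil, or_false] at hy
    exact hy.imp (fun h => Units.ext h) (fun h => Units.ext h)
  have hord : ∀ r, r < 12 → orderOf (Cfsg.Agent.Small.C2Inv.G2.X r (1 : F)) = 2 := by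
    intro r hr
    refine orderOf_eq_prime ?_ (Cfsg.Agent.Small.ChevDomCent.xg_ne_one Cfsg.Agent.Lie.factsG2
      (by rw [Cfsg.Agent.Small.C2Inv.G2.nroots_eq]; exact hr) one_ne_zero)
    rw [sq, Cfsg.Agent.Small.C2Inv.G2.add', CharTwo.add_self_eq_zero, Cfsg.Agent.Small.C2Inv.G2.zero']
  refine ⟨fun y hy => ?_, fun g hg h2 => ?_, fun y₁ _ y₂ _ hy₁ hy₂ ⟨h, hh, he⟩ => ?_⟩
  · rcases hmem y hy with rfl | rfl <;>
      exact ⟨Cfsg.Agent.Small.C2Inv.G2.X_group _ _, hord _ (by norm_num)⟩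
  · have hsq : g * g = 1 := by
      have := pow_orderOf_eq_one g
      rwa [h2, sq] at this
    have hne : g ≠ 1 := fun e => by simp [e] at h2
    rcases Cfsg.Agent.Small.C2Inv.G2.std_of_involution hg hsq hne with ⟨x, hx, hxe⟩ | ⟨x, hx, hxe⟩
    · exact ⟨_, Cfsg.Agent.Small.C2Inv.G2.X_group 11 1, by simp, x, hx, hxe⟩
    · exact ⟨_, Cfsg.Agent.Small.C2Inv.G2.X_group 9 1, by simp, x, hx, hxe⟩
  · rcases hmem y₁ hy₁ with rfl | rfl <;> rcases hmem y₂ hy₂ with rfl | rfl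
    · rfl
    · exact absurd (Cfsg.Agent.Small.C2Inv.CJ.symm ⟨h, hh, he⟩) Cfsg.Agent.Small.C2Inv.G2.not_cj
    · exact absurd ⟨h, hh, he⟩ Cfsg.Agent.Small.C2Inv.G2.not_cj
    · rfl

end Cfsg.Agent.S2177
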