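import Cfsg.Statements.S2182
import Cfsg.Agent.Lib.Small.Char2Invol.TwE6.Classes
-- import your own Cfsg.Agent.* helpers here

set_option autoImplicit false
open Cfsg

namespace Cfsg.Agent.S2182

/-- The twisted group ²E₆(q), q even, realised inside the Chevalley group of type E₆ over the field K with q² elements, has exactly three conjugacy classes of elements of order 2. -/
theorem result {K : Type*} [Field K] [Fintype K] [CharP K 2] (q : ℕ) (hK : Fintype.card K = q ^ 2) :
    (ConjClasses.mk '' {g : ↥(Cfsg.Lie.twistedE6 K q) | orderOf g = 2}).ncard = 3 := by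
  classical
  obtain ⟨n, -, hn⟩ := FiniteField.card K 2
  have hq : IsPrimePow q := by
    obtain ⟨m, -, hm⟩ := (Nat.dvd_prime_pow Nat.prime_two).1
      (show q ∣ 2 ^ (n : ℕ) by rw [← hn, hK]; exact dvd_pow_self _ (by norm_num))
    refine (isPrimePow_nat_iff q).2 ⟨2, m, Nat.prime_two, Nat.pos_of_ne_zero ?_, hm.symm⟩
    rintro rfl
    have h1 : 1 < Fintype.card K := Fintype.one_lt_card
    simp [hm] at hK
    omega
  obtain ⟨S⟩ := Cfsg.Agent.Lie.E6.nonempty_setup hq hK
  exact Cfsg.Agent.Small.C2Inv.TwE6.count S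

end Cfsg.Agent.S2182
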