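import Cfsg.Statements.S2183
import Cfsg.Agent.Lib.Small.Char2Invol.D4.Classes
-- import your own Cfsg.Agent.* helpers here

set_option autoImplicit false
open Cfsg

namespace Cfsg.Agent.S2183

/-- The twisted group ³D₄(q), q even, realised inside the Chevalley group of type D₄ over the field K with q³ elements, has exactly two conjugacy classes of elements of order 2. -/
theorem result {K : Type*} [Field K] [Fintype K] [CharP K 2] (q : ℕ) (hK : Fintype.card K = q ^ 3) :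
    (ConjClasses.mk '' {g : ↥(Cfsg.Lie.twistedD4 K q) | orderOf g = 2}).ncard = 2 := by
  classical
  obtain ⟨n, -, hn⟩ := FiniteField.card K 2
  have hq : IsPrimePow q := by
    obtain ⟨m, -, hm⟩ := (Nat.dvd_prime_pow Nat.prime_two).1
      (show q ∣ 2 ^ (n : ℕ) by rw [← hn, hK]; exact dvd_pow_self _ (by norm_num))
    refine (isPrimePow_nat_iff q).2 ⟨2, m, Nat.prime_two, Nat.pos_of_ne_zero ?_, hm.symm⟩
    rintro rfl
    have h1 : 1 < Fintype.card K := Fintype.one_lt_card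
    simp [hm] at hK
    omega
  obtain ⟨S⟩ := Cfsg.Agent.Lie.D4.nonempty_setup hq hK
  obtain ⟨hl, hs, hl1, hs1⟩ := Cfsg.Agent.Small.C2Inv.D4.reps_sq S
  obtain ⟨zl, hzl⟩ : ∃ z : ↥(Cfsg.Lie.twistedD4 K q), z = ⟨_, Cfsg.Agent.Small.C2Inv.D4.longRep_mem S⟩ := ⟨_, rfl⟩
  obtain ⟨zs, hzs⟩ : ∃ z : ↥(Cfsg.Lie.twistedD4 K q), z = ⟨_, Cfsg.Agent.Small.C2Inv.D4.shortRep_mem S⟩ := ⟨_, rfl⟩
  have hol : orderOf zl = 2 :=
    orderOf_eq_prime (by rw [hzl, pow_two]; exact Subtype.ext hl) (by rw [hzl]; exact fun h => hl1 (congrArg Subtype.val h))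
  have hos : orderOf zs = 2 :=
    orderOf_eq_prime (by rw [hzs, pow_two]; exact Subtype.ext hs) (by rw [hzs]; exact fun h => hs1 (congrArg Subtype.val h))
  have himage : ConjClasses.mk '' {g : ↥(Cfsg.Lie.twistedD4 K q) | orderOf g = 2} =
      {ConjClasses.mk zl, ConjClasses.mk zs} := by
    ext C
    constructor
    · rintro ⟨g, hg, rfl⟩
      have hg' := orderOf_eq_iff (by norm_num : 0 < 2) |>.1 hg
      have h1 : (g : GL Cfsg.Lie.chevD4.Idx K) ≠ 1 := fun h => by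
        exact hg'.2 1 (by norm_num) (by norm_num) (by rw [pow_one]; exact Subtype.ext h)
      rcases Cfsg.Agent.Small.C2Inv.D4.std_of_involution S g.2
        (by rw [← pow_two]; exact congrArg Subtype.val hg'.1) h1 with ⟨x, hx, he⟩ | ⟨x, hx, he⟩
      · exact Or.inl (ConjClasses.mk_eq_mk_iff_isConj.2 (isConj_iff.2 ⟨⟨x, hx⟩, by rw [hzl]; exact Subtype.ext he⟩))
      · exact Or.inr (ConjClasses.mk_eq_mk_iff_isConj.2 (isConj_iff.2 ⟨⟨x, hx⟩, by rw [hzs]; exact Subtype.ext he⟩))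
    · rintro (rfl | rfl)
      · exact ⟨zl, hol, rfl⟩
      · exact ⟨zs, hos, rfl⟩
  rw [himage, Set.ncard_pair]
  intro h
  obtain ⟨x, hx⟩ := isConj_iff.1 (ConjClasses.mk_eq_mk_iff_isConj.1 h)
  rw [hzl, hzs] at hx
  exact Cfsg.Agent.Small.C2Inv.D4.not_conj S (S.le_fix x.2).1 (congrArg Subtype.val hx)

end Cfsg.Agent.S2183
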