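import Cfsg.Statements.S2190
import Cfsg.Agent.Lib.Lie.SubMax.AllTypes
import Cfsg.Agent.Lib.Classical.Subfield
import Cfsg.Agent.Lib.Lie.TwistTorus
-- import your own Cfsg.Agent.* helpers here

set_option autoImplicit false
open Cfsg

namespace Cfsg.Agent.S2190

/-- Subfield subgroups of prime degree are maximal. Let K be a finite field with q^r elements, r a prime, q a power of the characteristic, and G the Chevalley group of type G₂, B₂, D₄, F₄, E₆, E₇ or E₈ over K (the matrix group generated by the root elements). Let M be the subgroup of G consisting of the matrices all of whose entries lie in the subfield with q elements (entries c with c^q = c). Then M is a proper subgroup of G and is maximal: every subgroup of G containing M is M or G. -/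
theorem result {K : Type*} [Field K] [Fintype K] (p : ℕ) [Fact p.Prime] [CharP K p] (D : Cfsg.Lie.ChevalleyDatum) (hD : D ∈ [Cfsg.Lie.chevG2, Cfsg.Lie.chevB2, Cfsg.Lie.chevD4, Cfsg.Lie.chevF4, Cfsg.Lie.chevE6, Cfsg.Lie.chevE7, Cfsg.Lie.chevE8]) (a r : ℕ) (ha : 1 ≤ a) (hr : r.Prime) (hK : Fintype.card K = (p ^ a) ^ r) (M : Subgroup (GL D.Idx K))
    (hM : ∀ g : GL D.Idx K, g ∈ M ↔ g ∈ D.group K ∧ ∀ i j : D.Idx, ((g : Matrix D.Idx D.Idx K) i j) ^ (p ^ a) = (g : Matrix D.Idx D.Idx K) i j) :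
    M ≠ D.group K ∧ ∀ H : Subgroup (GL D.Idx K), M ≤ H → H ≤ D.group K → H = M ∨ H = D.group K := by
  classical
  obtain ⟨hF⟩ := Lie.facts_of_mem hD
  have hp : p.Prime := Fact.out
  set σ : K →+* K := iterateFrobenius K p a
  have hσ : ∀ x, σ x = x ^ (p ^ a) := fun x => iterateFrobenius_def p a x
  set K₀ : Subfield K := σ.eqLocusField (RingHom.id K)
  have hfix : ∀ x, x ∈ K₀ ↔ σ x = x := fun x => Iff.rfl
  have hK₀ : Nat.card K₀ = p ^ a := by
    rw [← Classical.card_pow_fixed (e := a * r) (b := a) hp (by rw [hK, ← pow_mul]) (Dvd.intro r rfl) (by omega)]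
    exact Nat.card_congr (Equiv.subtypeEquivRight fun x => by rw [hfix, hσ])
  have hcard : Fintype.card K = Nat.card K₀ ^ r := by rw [hK₀, hK]
  obtain ⟨hR, hC, hG, hT, hlow⟩ := Lie.SubMax.ready_of_mem (F := K) hD hF
  have hmem : ∀ g, g ∈ M ↔ g ∈ D.group K ∧ Lie.gmap σ g = g := by
    intro g
    rw [hM, Units.ext_iff, Lie.coe_gmap, ← Matrix.ext_iff]
    simp only [Matrix.map_apply, hσ]
  have hrat : Lie.SubMax.rat hF K₀ ≤ M := fun g hg => (hmem g).2
    ⟨Lie.SubMax.rat_le_group hF (K₀ := K₀) hg, Lie.SubMax.gmap_fix_rat hF σ (fun x hx => (hfix x).1 hx) hg⟩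
  have hne : M ≠ D.group K := by
    intro e
    obtain ⟨t, ht⟩ : ∃ t : K, t ∉ K₀ := by
      by_contra hall
      rw [not_exists] at hall
      have h1 : Nat.card K₀ = Fintype.card K := by
        rw [← Nat.card_eq_fintype_card]
        exact Nat.card_congr (Equiv.subtypeUnivEquiv fun x => not_not.1 (hall x))
      have h2 : Nat.card K₀ ^ 1 < Nat.card K₀ ^ r := Nat.pow_lt_pow_right Finite.one_lt_card hr.one_lt
      rw [pow_one, ← hcard, h1] at h2
      exact lt_irrefl _ h2
    have := ((hmem _).1 (e ▸ hF.xg_mem_group (Lie.SubMax.top D) t)).2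
    rw [hF.gmap_xg] at this
    exact ht ((hfix t).2 (hF.xg_inj (Lie.SubMax.top_lt hR) this))
  refine ⟨hne, fun H hMH hHG => ?_⟩
  obtain ⟨K₁, h₀, h₁, hfix₁⟩ := Lie.SubMax.overgroup hF hR hC hG hT hlow (hrat.trans hMH) hHG
  rcases eq_or_lt_of_le h₀ with e | hlt
  · exact Or.inl (le_antisymm (fun g hg => (hmem g).2 ⟨hHG hg, hfix₁ σ (e ▸ hfix) g hg⟩) hMH)
  refine Or.inr (le_antisymm hHG ?_)
  have htop : K₁ = ⊤ := Lie.SubMax.eq_top_of_lt hr hcard hlt
  rw [hF.group_eq, Subgroup.closure_le]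
  rintro _ ⟨⟨s, t⟩, rfl⟩
  exact h₁ (Lie.SubMax.xg_mem_rat hF K₁ s (htop.ge (Subfield.mem_top t)))

end Cfsg.Agent.S2190
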