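import Cfsg.Statements.S2220
import Cfsg.Agent.Lib.Char.OrderNine.Main
import Cfsg.Agent.Lib.Char.OrderNine.OneClass.Final
import Cfsg.Agent.Lib.Solv.ThreeLocal.Make
import Cfsg.Agent.S3341
-- import your own Cfsg.Agent.* helpers here

set_option autoImplicit false
open Cfsg

namespace Cfsg.Agent.S2220

/-- Let G be a non-abelian finite simple group of order 9·2ᵃ·qᵇ for a prime q other than 2 and 3, and suppose a Sylow 3-subgroup R of G is strongly self-centralizing: C_G(k) = R for every nonidentity k ∈ R. Then G is isomorphic to the alternating group of degree 6, to PSL(2,8) or to PSL(2,17). -/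
theorem result {G : Type*} [Group G] [Finite G] [IsSimpleGroup G] (hG : ¬ IsMulCommutative G)
    (q a b : ℕ) (hq : q.Prime) (hq2 : q ≠ 2) (hq3 : q ≠ 3) (hcard : Nat.card G = 9 * 2 ^ a * q ^ b)
    (R : Sylow 3 G) (hR : ∀ k ∈ (R : Subgroup G), k ≠ 1 → Subgroup.centralizer ({k} : Set G) = R) :
    Nonempty (G ≃* ↥(alternatingGroup (Fin 6))) ∨
      (∃ (F : Type) (_ : Field F) (_ : Fintype F), Fintype.card F = 8 ∧
        Nonempty (G ≃* Matrix.ProjectiveSpecialLinearGroup (Fin 2) F)) ∨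
      Nonempty (G ≃* Matrix.ProjectiveSpecialLinearGroup (Fin 2) (ZMod 17)) := by
  classical
  haveI := Fintype.ofFinite G
  haveI : Fact (Nat.Prime 3) := ⟨Nat.prime_three⟩
  have hR9 : Nat.card (R : Subgroup G) = 9 := Char.OrderNine.sylow_card hq hq3 hcard R
  have hab : IsMulCommutative R :=
    ⟨⟨IsPGroup.commutative_of_card_eq_prime_sq (p := 3) (G := ↥(R : Subgroup G)) (by rw [hR9]; norm_num)⟩⟩
  by_cases hexp : ∀ k ∈ (R : Subgroup G), k ^ 3 = 1
  swap
  · right
    push Not at hexp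
    obtain ⟨g, hg, hg3⟩ := hexp
    have hd : orderOf g ∣ 3 ^ 2 := by
      have := Subgroup.orderOf_dvd_natCard _ hg
      rw [hR9] at this
      exact this
    obtain ⟨k, hk, hgk⟩ := (Nat.dvd_prime_pow Nat.prime_three).mp hd
    have hg9 : orderOf g = 9 := by
      rcases Nat.lt_or_ge k 2 with h | h
      · exfalso
        refine hg3 (orderOf_dvd_iff_pow_eq_one.mp ?_)
        rw [hgk]
        exact (pow_dvd_pow 3 (show k ≤ 1 by omega)).trans (pow_one 3).dvd
      · rw [hgk, show k = 2 by omega]; norm_num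
    exact Char.OrderNine.inverted_of_hinv hG hq hq2 hq3 hcard R hR9 hab
      (Char.OrderNine.cyclic_case R hR9 hab hg hg9)
  by_cases hcl : ∃ u v : G, orderOf u = 3 ∧ orderOf v = 3 ∧ ∀ g : G, g * u * g⁻¹ ≠ v
  · exact Or.inl (S3341.result R (R : Subgroup G) rfl hab hexp hR9 hcl hR)
  exfalso
  push Not at hcl
  obtain ⟨X, hX⟩ := Solv.ThreeLocal.exists_ctx R rfl hR9 hexp
    (fun s hs h1 => by rw [hR s hs h1]; exact Subgroup.le_normalizer)
  have hmem : ∀ v, X.e v ∈ (R : Subgroup G) := fun v => hX ▸ X.e_mem v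
  have hne : ∀ v, v ≠ 0 → X.e v ≠ 1 := fun v hv h => hv (X.e_eq_one_iff.1 h)
  have hconj : ∀ u w : G, u ^ 3 = 1 → u ≠ 1 → w ^ 3 = 1 → w ≠ 1 → IsConj u w := fun u w h1 h2 h3 h4 =>
    isConj_iff.2 (hcl u w (orderOf_eq_prime h1 h2) (orderOf_eq_prime h3 h4))
  set v₀ : Solv.ThreeLocal.Pl := (1, 0) with hv₀
  have hv : v₀ ≠ 0 := Solv.ThreeLocal.pl10
  have hy : Char.OrderNine.OneClass.Hyp (X.e v₀) :=
    { cube := X.e_cube _
      ne_one := hne _ hv
      one_class := fun w hw hw1 => hconj _ _ (X.e_cube _) (hne _ hv) hw hw1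
      cent_card := by rw [hR _ (hmem _) (hne _ hv), hR9]
      cent_cube := fun w hw => by
        refine hexp w ?_
        rw [← hR _ (hmem v₀) (hne _ hv), Subgroup.mem_centralizer_singleton_iff]
        exact hw }
  have hN := X.card_normalizer hv (Finset.univ.erase 0) fun w => by
    simp only [Finset.mem_erase, Finset.mem_univ, and_true]
    refine ⟨fun hw => hconj _ _ (X.e_cube _) (hne _ hv) (X.e_cube _) (hne _ hw), ?_⟩
    rintro h rfl
    rw [X.e_zero] at h
    exact X.not_isConj_zero hv h.symm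
  rw [Finset.card_erase_of_mem (Finset.mem_univ _), Finset.card_univ, hR _ (hmem _) (hne _ hv), hR9,
    show Fintype.card Solv.ThreeLocal.Pl = 9 from rfl] at hN
  obtain ⟨k, hk⟩ := X.exists_card_eq
  rw [hN, hcard] at hk
  have h8 : 2 ^ a * q ^ b = 8 * (9 * k + 1) := by
    have e : 9 * (2 ^ a * q ^ b) = 9 * 2 ^ a * q ^ b := by ring
    omega
  have ha : 3 ≤ a := by
    have hd : 2 ^ 3 ∣ 2 ^ a * q ^ b := h8 ▸ Dvd.intro _ rfl
    have hc : Nat.Coprime (2 ^ 3) (q ^ b) :=
      (((Nat.coprime_primes Nat.prime_two hq).2 hq2.symm).pow_left 3).pow_right b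
    exact (Nat.pow_dvd_pow_iff_le_right (by norm_num)).1 (hc.dvd_of_dvd_mul_right hd)
  exact Char.OrderNine.OneClass.no_one_class hG hy hq hq2 hq3 (Char.OrderNine.one_le_exponent hG hq hcard).2
    hcard ha (by omega)
end Cfsg.Agent.S2220
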