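import Cfsg.Statements.S2222
import Cfsg.Agent.Lib.Lead.AltSylow

set_option autoImplicit false
open Cfsg

namespace Cfsg.Agent.S2222

theorem normal_orderTwelve_five (H : Subgroup (alternatingGroup (Fin 5)))
    (hH : Nat.card H = 12) (T : Sylow 2 H) : (T : Subgroup H).Normal := by
  have hA5 : ∀ x : alternatingGroup (Fin 5), x ^ 6 = 1 → x ^ 2 = 1 ∨ x ^ 3 = 1 := by
    decide +kernel
  have hT4 : Nat.card (T : Subgroup H) = 4 := by
    rw [Sylow.card_eq_multiplicity, hH]
    have : Nat.factorization 12 2 = 2 := by
      rw [Nat.factorization_def _ Nat.prime_two]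
      rw [show (12 : ℕ) = 3 * 2 ^ 2 from rfl, padicValNat.mul (by norm_num) (by norm_num),
        padicValNat.prime_pow, padicValNat.eq_zero_of_not_dvd (by norm_num)]
    rw [this]; rfl
  haveI : Fact (Nat.Prime 3) := ⟨Nat.prime_three⟩
  obtain ⟨R⟩ := (inferInstance : Nonempty (Sylow 3 H))
  have hQall : ∀ Q : Sylow 3 H, Nat.card (Q : Subgroup H) = 3 := by
    intro Q
    rw [Sylow.card_eq_multiplicity, hH]
    have : Nat.factorization 12 3 = 1 := by
      rw [Nat.factorization_def _ Nat.prime_three]
      rw [show (12 : ℕ) = 4 * 3 ^ 1 from rfl, padicValNat.mul (by norm_num) (by norm_num),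
        padicValNat.prime_pow, padicValNat.eq_zero_of_not_dvd (by norm_num)]
    rw [this]; rfl
  have hR3 := hQall R
  have hR1 : Nat.card (Sylow 3 H) ≠ 1 := by
    intro h1
    haveI : Subsingleton (Sylow 3 H) := (Nat.card_eq_one_iff_unique.1 h1).1
    haveI hRn : (R : Subgroup H).Normal := R.normal_of_subsingleton
    obtain ⟨r, hr⟩ := exists_prime_orderOf_dvd_card' (G := (R : Subgroup H)) 3 (by rw [hR3])
    have hr' : orderOf (r : H) = 3 := by rw [Subgroup.orderOf_coe, hr]
    have hr3 : (r : H) ^ 3 = 1 := by
      simpa [hr'] using pow_orderOf_eq_one (r : H)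
    -- an involution centralising `r`
    have hnot : ∀ s : H, s ^ 2 = 1 → Commute s (r : H) → s = 1 := by
      intro s hs hsr
      have h6 : ((s * r : H) : alternatingGroup (Fin 5)) ^ 6 = 1 := by
        rw [← Subgroup.coe_pow, hsr.mul_pow, show (6 : ℕ) = 2 * 3 from rfl, pow_mul, hs, one_pow,
          mul_comm 2 3, pow_mul, hr3, one_pow, one_mul, Subgroup.coe_one]
      rcases hA5 _ h6 with h | h
      · rw [← Subgroup.coe_pow, hsr.mul_pow, hs, one_mul] at h
        have hd : orderOf (r : H) ∣ 2 := orderOf_dvd_of_pow_eq_one (Subtype.ext h)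
        rw [hr'] at hd; norm_num at hd
      · rw [← Subgroup.coe_pow, hsr.mul_pow, hr3, mul_one] at h
        have h' : s ^ 3 = 1 := Subtype.ext h
        rw [pow_succ, hs, one_mul] at h'
        exact h'
    -- `T` acts on `R`, whose automorphism group has order 2
    let φ : (T : Subgroup H) →* MulAut (R : Subgroup H) := MulAut.conjNormal.comp (T : Subgroup H).subtype
    have hker : φ.ker = ⊥ := by
      by_contra hne
      obtain ⟨s, hs, hs2⟩ : ∃ s : (T : Subgroup H), s ∈ φ.ker ∧ orderOf s = 2 := by
        have hp : IsPGroup 2 φ.ker := T.2.to_subgroup _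
        haveI : Nontrivial φ.ker := (Subgroup.nontrivial_iff_ne_bot _).2 hne
        obtain ⟨k, hk, hk'⟩ := hp.nontrivial_iff_card.1 inferInstance
        obtain ⟨s, hs⟩ := exists_prime_orderOf_dvd_card' (G := φ.ker) 2
          (hk' ▸ dvd_pow_self 2 hk.ne')
        exact ⟨s, s.2, by rw [Subgroup.orderOf_coe, hs]⟩
      have h1 : ((s : H) : H) * (r : H) * ((s : H))⁻¹ = r := by
        have := congrArg Subtype.val (DFunLike.congr_fun (MonoidHom.mem_ker.1 hs) r)
        simpa [φ] using this
      have h2 := hnot (s : H) (by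
          have h4 := pow_orderOf_eq_one s
          rw [hs2] at h4
          rw [← Subgroup.coe_pow, h4, Subgroup.coe_one])
        (eq_mul_of_mul_inv_eq h1)
      have h3 : s = 1 := Subtype.ext h2
      rw [h3, orderOf_one] at hs2
      exact absurd hs2 (by norm_num)
    haveI : IsCyclic (R : Subgroup H) := isCyclic_of_prime_card hR3
    have hle := Nat.card_le_card_of_injective φ ((MonoidHom.ker_eq_bot_iff φ).1 hker)
    rw [hT4, IsCyclic.card_mulAut, hR3, Nat.totient_prime Nat.prime_three] at hle
    omega
  have hR4 : Nat.card (Sylow 3 H) = 4 := by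
    have h1 : (R : Subgroup H).index = 4 := by
      have := (R : Subgroup H).card_mul_index
      rw [hR3, hH] at this; omega
    have h2 := R.card_dvd_index
    rw [h1] at h2
    have h3 : Nat.card (Sylow 3 H) ≡ 1 [MOD 3] := card_sylow_modEq_one 3 H
    have h4 : Nat.card (Sylow 3 H) ≤ 4 := Nat.le_of_dvd (by norm_num) h2
    unfold Nat.ModEq at h3
    omega
  -- eight elements of order three leave room for one Sylow 2-subgroup
  haveI : Fintype H := Fintype.ofFinite _
  classical
  let s3 : Finset H := Finset.univ.filter fun x => orderOf x = 3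
  have hs3 : 8 ≤ s3.card := by
    haveI : Fintype (Sylow 3 H) := Fintype.ofFinite _
    have hsub : (Finset.univ : Finset (Sylow 3 H)).biUnion
        (fun Q => Finset.univ.filter fun x => x ∈ (Q : Subgroup H) ∧ x ≠ 1) ⊆ s3 := by
      intro x hx
      simp only [Finset.mem_biUnion, Finset.mem_univ, Finset.mem_filter, true_and] at hx
      obtain ⟨Q, hxQ, hx1⟩ := hx
      have hQ3 := hQall Q
      have hd := Subgroup.orderOf_dvd_natCard (Q : Subgroup H) hxQ
      rw [hQ3] at hd
      rcases (Nat.dvd_prime Nat.prime_three).1 hd with h | h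
      · exact absurd (orderOf_eq_one_iff.1 h) hx1
      · simp [s3, h]
    refine le_trans ?_ (Finset.card_le_card hsub)
    rw [Finset.card_biUnion]
    · have : ∀ Q : Sylow 3 H, (Finset.univ.filter fun x => x ∈ (Q : Subgroup H) ∧ x ≠ 1).card = 2 := by
        intro Q
        have hQ3 := hQall Q
        rw [show (Finset.univ.filter fun x => x ∈ (Q : Subgroup H) ∧ x ≠ 1) =
          (Finset.univ.filter fun x => x ∈ (Q : Subgroup H)).erase 1 by ext x; simp [and_comm],
          Finset.card_erase_of_mem (by simp), ← Fintype.card_subtype, ← Nat.card_eq_fintype_card]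
        rw [show Nat.card {x // x ∈ (Q : Subgroup H)} = 3 from hQ3]
      simp only [this, Finset.sum_const, Finset.card_univ, ← Nat.card_eq_fintype_card, hR4,
        smul_eq_mul]
      norm_num
    · intro Q _ Q' _ hne
      simp only [Function.onFun, Finset.disjoint_left, Finset.mem_filter, Finset.mem_univ, true_and]
      rintro x ⟨hxQ, hx1⟩ ⟨hxQ', -⟩
      apply hne
      haveI : Fact (Nat.Prime (Nat.card (Q : Subgroup H))) := ⟨by
        rw [hQall]; exact Nat.prime_three⟩
      haveI : Fact (Nat.Prime (Nat.card (Q' : Subgroup H))) := ⟨by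
        rw [hQall]; exact Nat.prime_three⟩
      refine Sylow.ext ?_
      have h1 : Subgroup.zpowers (⟨x, hxQ⟩ : (Q : Subgroup H)) = ⊤ :=
        zpowers_eq_top_of_prime_card rfl (by simpa using hx1)
      have h2 : Subgroup.zpowers (⟨x, hxQ'⟩ : (Q' : Subgroup H)) = ⊤ :=
        zpowers_eq_top_of_prime_card rfl (by simpa using hx1)
      apply le_antisymm <;> intro y hy
      · obtain ⟨k, hk⟩ := Subgroup.mem_zpowers_iff.1 (h1 ▸ Subgroup.mem_top (⟨y, hy⟩ : (Q : Subgroup H)))
        have : x ^ k = y := by simpa using congrArg Subtype.val hk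
        exact this ▸ zpow_mem hxQ' k
      · obtain ⟨k, hk⟩ := Subgroup.mem_zpowers_iff.1 (h2 ▸ Subgroup.mem_top (⟨y, hy⟩ : (Q' : Subgroup H)))
        have : x ^ k = y := by simpa using congrArg Subtype.val hk
        exact this ▸ zpow_mem hxQ k
  have huniq : ∀ T' : Sylow 2 H, ∀ x, x ∈ (T' : Subgroup H) ↔ x ∈ Finset.univ \ s3 := by
    intro T'
    have hsub : (Finset.univ.filter fun x => x ∈ (T' : Subgroup H)) ⊆ Finset.univ \ s3 := by
      intro x hx
      simp only [Finset.mem_filter, Finset.mem_univ, true_and] at hx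
      simp only [Finset.mem_sdiff, Finset.mem_univ, true_and, s3, Finset.mem_filter]
      intro h3
      have hd := Subgroup.orderOf_dvd_natCard (T' : Subgroup H) hx
      rw [h3, Sylow.card_eq_multiplicity, ← Sylow.card_eq_multiplicity T, hT4] at hd
      norm_num at hd
    have hc : (Finset.univ.filter fun x => x ∈ (T' : Subgroup H)).card = 4 := by
      rw [← Fintype.card_subtype, ← Nat.card_eq_fintype_card]
      exact (Sylow.card_eq_multiplicity T').trans ((Sylow.card_eq_multiplicity T).symm.trans hT4)
    have heq := Finset.eq_of_subset_of_card_le hsub (by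
      rw [Finset.card_sdiff_of_subset (Finset.subset_univ _), Finset.card_univ,
        ← Nat.card_eq_fintype_card, hH, hc]
      omega)
    intro x
    rw [← heq]; simp
  haveI : Subsingleton (Sylow 2 H) :=
    ⟨fun a b => Sylow.ext (Subgroup.ext fun x => (huniq a x).trans (huniq b x).symm)⟩
  exact T.normal_of_subsingleton

/-- For degree five the normaliser of a Sylow 2-subgroup normalises every overgroup. -/
theorem normalizes_overgroup_five (T : Sylow 2 (alternatingGroup (Fin 5)))
    (H : Subgroup (alternatingGroup (Fin 5))) (hTH : (T : Subgroup (alternatingGroup (Fin 5))) ≤ H) :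
    Subgroup.normalizer ((T : Subgroup (alternatingGroup (Fin 5))) : Set (alternatingGroup (Fin 5))) ≤
      Subgroup.normalizer (H : Set (alternatingGroup (Fin 5))) := by
  classical
  haveI : IsSimpleGroup (alternatingGroup (Fin 5)) := alternatingGroup.isSimpleGroup_five
  have hA : Nat.card (alternatingGroup (Fin 5)) = 60 := by
    rw [nat_card_alternatingGroup, Nat.card_fin]; rfl
  have hT : Nat.card (T : Subgroup (alternatingGroup (Fin 5))) = 4 := by
    rw [Sylow.card_eq_multiplicity, hA, Nat.factorization_def _ Nat.prime_two,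
      show (60 : ℕ) = 15 * 2 ^ 2 from rfl, padicValNat.mul (by norm_num) (by norm_num),
      padicValNat.prime_pow, padicValNat.eq_zero_of_not_dvd (by norm_num)]
    rfl
  have hd : 4 ∣ Nat.card H := hT ▸ Subgroup.card_dvd_of_le hTH
  have hd' : Nat.card H ∣ 60 := hA ▸ H.card_subgroup_dvd_card
  have hcases : Nat.card H = 4 ∨ Nat.card H = 12 ∨ Nat.card H = 20 ∨ Nat.card H = 60 := by
    have : ∀ k : ℕ, k < 61 → 4 ∣ k → k ∣ 60 → k = 4 ∨ k = 12 ∨ k = 20 ∨ k = 60 := by decide
    exact this _ (by have := Nat.le_of_dvd (by norm_num) hd'; omega) hd hd'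
  rcases hcases with h | h | h | h
  · rw [Subgroup.eq_of_le_of_card_ge hTH (by omega)]
  · have hn := normal_orderTwelve_five H h (T.subtype hTH)
    rw [Sylow.coe_subtype] at hn
    have hle : H ≤ Subgroup.normalizer ((T : Subgroup (alternatingGroup (Fin 5))) : Set (alternatingGroup (Fin 5))) :=
      (Subgroup.normal_subgroupOf_iff_le_normalizer hTH).1 hn
    have heq : H = Subgroup.normalizer ((T : Subgroup (alternatingGroup (Fin 5))) : Set (alternatingGroup (Fin 5))) := by
      refine Subgroup.eq_of_le_of_card_ge hle ?_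
      rw [h]
      by_contra hlt
      rw [not_le] at hlt
      set N := Subgroup.normalizer ((T : Subgroup (alternatingGroup (Fin 5))) : Set (alternatingGroup (Fin 5))) with hN
      have hd2 : Nat.card N ∣ 60 := hA ▸ N.card_subgroup_dvd_card
      have hd3 : 12 ∣ Nat.card N := h ▸ Subgroup.card_dvd_of_le hle
      have : Nat.card N = 60 := by
        have : ∀ k : ℕ, k < 61 → 12 ∣ k → k ∣ 60 → 12 < k → k = 60 := by decide
        exact this _ (by have := Nat.le_of_dvd (by norm_num) hd2; omega) hd3 hd2 hlt
      have htop : N = ⊤ := Subgroup.eq_top_of_card_eq _ (this.trans hA.symm)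
      have hnT : (T : Subgroup (alternatingGroup (Fin 5))).Normal :=
        Subgroup.normalizer_eq_top_iff.1 htop
      rcases hnT.eq_bot_or_eq_top with hb | hb
      · rw [hb, Subgroup.card_bot] at hT; norm_num at hT
      · rw [hb, Subgroup.card_top, hA] at hT; norm_num at hT
    rw [← heq]
    exact Subgroup.le_normalizer
  · exfalso
    have hidx : H.index = 3 := by
      have := H.card_mul_index
      rw [h, hA] at this; omega
    have hdvd : H.normalCore.index ∣ Nat.factorial H.index := by
      rw [Subgroup.normalCore_eq_ker, Subgroup.index_ker]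
      have := (MulAction.toPermHom (alternatingGroup (Fin 5))
        (alternatingGroup (Fin 5) ⧸ H)).range.card_subgroup_dvd_card
      rwa [Nat.card_perm, ← Subgroup.index_eq_card] at this
    rcases (Subgroup.normalCore_normal H).eq_bot_or_eq_top with hb | hb
    · rw [hb, Subgroup.index_bot, hA, hidx] at hdvd
      exact absurd (Nat.le_of_dvd (by decide) hdvd) (by decide)
    · have : H = ⊤ := top_le_iff.1 (hb ▸ H.normalCore_le)
      rw [this, Subgroup.card_top, hA] at h; norm_num at h
  · rw [Subgroup.eq_top_of_card_eq H (h.trans hA.symm)]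
    intro x _
    rw [Subgroup.mem_normalizer_iff]
    simp

/-- In the alternating group of degree n ≥ 5 every subgroup H of odd index is pronormal: for every element g, the subgroups H and gHg⁻¹ are conjugate by an element of the subgroup they generate. -/
theorem result (n : ℕ) (hn : 5 ≤ n)
    (H : Subgroup (alternatingGroup (Fin n))) (hH : Odd H.index) : Cfsg.IsPronormal H := by
  obtain ⟨T, hTH⟩ := Cfsg.Agent.Lead.exists_sylow_two_le_of_odd_index H hH
  intro g
  set K := H ⊔ H.map (MulAut.conj g).toMonoidHom with hK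
  have h1 : (T : Subgroup _) ≤ K := hTH.trans le_sup_left
  have h2 : ((g • T : Sylow 2 (alternatingGroup (Fin n))) : Subgroup _) ≤ K := by
    refine le_trans ?_ le_sup_right
    intro x hx
    rw [Sylow.coe_subgroup_smul, Subgroup.mem_pointwise_smul_iff_inv_smul_mem] at hx
    refine ⟨_, hTH hx, ?_⟩
    simp [MulAut.smul_def, MulAut.conj_apply, mul_assoc]
  obtain ⟨x, hx⟩ := MulAction.exists_smul_eq K (T.subtype h1) ((g • T).subtype h2)
  refine ⟨x, x.2, ?_⟩
  have hx' : (x : alternatingGroup (Fin n)) • T = g • T := by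
    rw [Sylow.smul_subtype] at hx
    exact Sylow.subtype_injective hx
  have hnorm : (x : alternatingGroup (Fin n))⁻¹ * g ∈
      Subgroup.normalizer ((T : Subgroup (alternatingGroup (Fin n))) : Set (alternatingGroup (Fin n))) :=
    Sylow.smul_eq_iff_mem_normalizer.1 (by rw [mul_smul, ← hx', inv_smul_smul])
  have hnH : (x : alternatingGroup (Fin n))⁻¹ * g ∈
      Subgroup.normalizer (H : Set (alternatingGroup (Fin n))) := by
    rcases eq_or_lt_of_le hn with h5 | h6
    · subst h5
      exact normalizes_overgroup_five T H hTH hnorm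
    · refine Subgroup.le_normalizer (hTH (Cfsg.Agent.Lead.sylow_two_alt_normalizer h6 T _ ?_))
      intro y hy
      exact (Subgroup.mem_normalizer_iff.1 hnorm y).1 hy
  ext y
  simp only [Subgroup.mem_map, MulEquiv.coe_toMonoidHom, MulAut.conj_apply]
  constructor
  · rintro ⟨z, hz, rfl⟩
    exact ⟨_, (Subgroup.mem_normalizer_iff.1 hnH z).1 hz, by group⟩
  · rintro ⟨z, hz, rfl⟩
    refine ⟨_, (Subgroup.mem_normalizer_iff''.1 hnH z).1 hz, by group⟩

end Cfsg.Agent.S2222
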