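import Cfsg.Statements.S2225
import Cfsg.Agent.Lib.Classical.Pronormal.CharTwo
import Cfsg.Agent.Lib.Classical.Pronormal.Linear
import Cfsg.Agent.Lib.Classical.Pronormal.Klein

set_option autoImplicit false
open Cfsg

namespace Cfsg.Agent.S2225

open Cfsg.Agent.Classical.OddPronormal

universe u

theorem klein_dim {F : Type u} [Field F] [Fintype F]
    (h8 : Fintype.card F % 8 = 3 ∨ Fintype.card F % 8 = 5) {d : ℕ} (hd : d = 2)
    (H : Subgroup (Matrix.ProjectiveSpecialLinearGroup (Fin d) F)) (hH : Odd H.index) :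
    Cfsg.IsPronormal H := by
  subst hd
  exact pronormal_psl2_klein h8 H hH

/-- Let F be a finite field and d = 2^w ≥ 2 a power of 2 such that PSL_d(F) is simple. Then every subgroup H of PSL_d(F) of odd index is pronormal: for every g, H and gHg⁻¹ are conjugate by an element of the subgroup they generate. -/
theorem result {F : Type*} [Field F] [Fintype F]
    (w : ℕ) (hw : 1 ≤ w) (hs : IsSimpleGroup (Matrix.ProjectiveSpecialLinearGroup (Fin (2 ^ w)) F))
    (H : Subgroup (Matrix.ProjectiveSpecialLinearGroup (Fin (2 ^ w)) F)) (hH : Odd H.index) : Cfsg.IsPronormal H := by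
  haveI : Fact (Nat.Prime 2) := ⟨Nat.prime_two⟩
  by_cases hodd : Fintype.card F % 2 = 1
  · by_cases h8 : w = 1 ∧ (Fintype.card F % 8 = 3 ∨ Fintype.card F % 8 = 5)
    · exact klein_dim h8.2 (by rw [h8.1, pow_one]) H hH
    · obtain ⟨T, hT⟩ := exists_self_normalizing_sylow F w hw hodd (fun h => by
        have := fun h' => h8 ⟨h, h'⟩
        omega)
      refine of_surjective Cfsg.Agent.Small.PSLn.pr Cfsg.Agent.Small.PSLn.pr_surjective
        (fun K hK => all_of_sylow T (fun L hL => isPronormal_of_normalizer_le T hL ?_) K hK) H hH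
      exact fun g hg => Subgroup.le_normalizer
        (hL (hT g fun x hx => (Subgroup.mem_normalizer_iff.1 hg x).1 hx))
  · obtain ⟨p, hp⟩ := CharP.exists F
    haveI : Fact p.Prime := ⟨CharP.char_is_prime F p⟩
    obtain ⟨e, -, he⟩ := FiniteField.card F p
    have hp2 : p = 2 := by
      by_contra hne
      have ho : Odd (p ^ (e : ℕ)) := ((Fact.out : p.Prime).odd_of_ne_two hne).pow
      rw [← he] at ho
      exact hodd (Nat.odd_iff.1 ho)
    subst hp2
    exact pronormal_psl_char_two rfl e.pos he H hH

end Cfsg.Agent.S2225
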