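import Cfsg.Statements.S2226
import Cfsg.Agent.Lib.Classical.Pronormal.UnitaryEven

set_option autoImplicit false
open Cfsg

namespace Cfsg.Agent.S2226

open Cfsg.Agent.Classical Cfsg.Agent.Classical.OddPronormal

/-- Let F be a finite field with q² elements and d = 2^w ≥ 4 a power of 2 such that the unitary group PSU_d(q) (realised over F) is simple. Then every subgroup H of PSU_d(q) of odd index is pronormal: for every g, H and gHg⁻¹ are conjugate by an element of the subgroup they generate. -/
theorem result {F : Type*} [Field F] [Fintype F] (q : ℕ)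
    (hF : Fintype.card F = q ^ 2) (w : ℕ) (hw : 2 ≤ w) (hs : IsSimpleGroup (Cfsg.PSU (2 ^ w) F q))
    (H : Subgroup (Cfsg.PSU (2 ^ w) F q)) (hH : Odd H.index) : Cfsg.IsPronormal H := by
  haveI : Fact (Nat.Prime 2) := ⟨Nat.prime_two⟩
  obtain ⟨p, e, φ, hp, hchar, hq, he, hφ⟩ := exists_usigma hF
  have pass : ∀ {X : Type _} [Group X] [Finite X] (f : X →* ↥(Cfsg.SU (2 ^ w) F q)),
      Function.Surjective f → (∀ K : Subgroup X, Odd K.index → Cfsg.IsPronormal K) →
      Cfsg.IsPronormal H := by
    intro X _ _ f hf h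
    exact of_surjective ((QuotientGroup.mk' _).comp f)
      ((QuotientGroup.mk'_surjective _).comp hf) h H hH
  have selfN : ∀ {X : Type _} [Group X] [Finite X] (T : Sylow 2 X),
      (∀ g : X, (∀ x ∈ (T : Subgroup X), g * x * g⁻¹ ∈ (T : Subgroup X)) → g ∈ (T : Subgroup X)) →
      ∀ K : Subgroup X, Odd K.index → Cfsg.IsPronormal K := by
    intro X _ _ T hT
    exact fun K hK => all_of_sylow T (fun L hL => isPronormal_of_normalizer_le T hL
      fun g hg => Subgroup.le_normalizer
        (hL (hT g fun x hx => (Subgroup.mem_normalizer_iff.1 hg x).1 hx))) K hK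
  rcases (by omega : q % 4 = 3 ∨ q % 4 = 1 ∨ q % 2 = 0) with h4 | h4 | h2
  · obtain ⟨Q, hQ⟩ := shape_herm hφ rfl hw h4
    obtain ⟨T, hT⟩ := exists_sylow_hSU hQ
    have heq : hSU φ (1 : Equiv.Perm (Fin (2 ^ w))) = Cfsg.SU (2 ^ w) F q := by
      ext A
      refine forall_congr' fun u => forall_congr' fun v => ?_
      rw [hφ.hermForm_eq, hφ.hermForm_eq]
      exact Iff.rfl
    exact pass (MulEquiv.subgroupCongr heq).toMonoidHom (MulEquiv.subgroupCongr heq).surjective
      (selfN T hT)
  · obtain ⟨ρ, Q, hρ, hρ', hQ⟩ := shape_hyp hφ rfl hw h4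
    obtain ⟨T, hT⟩ := exists_sylow_hSU hQ
    obtain ⟨f, hf⟩ := exists_hSU_surjective hφ hρ hρ'
    exact pass f hf (selfN T hT)
  · have hp2 : p = 2 := by
      by_contra hne
      have := Nat.odd_iff.1 ((hp.odd_of_ne_two hne).pow (n := e))
      rw [← hq] at this
      omega
    subst hp2
    haveI : CharP F 2 := hchar
    have hn : Even (2 ^ w) := (Nat.even_pow).2 ⟨even_two, by omega⟩
    obtain ⟨T, hT⟩ := exists_sylow_hU hφ hn
    obtain ⟨f, hf⟩ := exists_hSU_surjective hφ
      (ρ := (Fin.revPerm : Equiv.Perm (Fin (2 ^ w)))) (fun i => Fin.rev_rev i) (fun i h => by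
        obtain ⟨m, hm⟩ := hn
        have h' := congrArg Fin.val h
        rw [Fin.revPerm_apply, Fin.val_rev] at h'
        omega)
    exact pass f hf fun K hK => all_of_sylow T (fun L hL => isPronormal_of_normalizer_le T hL (by
      rw [hT] at hL ⊢
      exact normalizer_le_hU hφ hn T hT hL)) K hK

end Cfsg.Agent.S2226
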