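import Cfsg.Statements.S2231
import Cfsg.Agent.Lib.Small.SL2.Orders
-- import your own Cfsg.Agent.* helpers here

set_option autoImplicit false
open Cfsg

namespace Cfsg.Agent.S2231

/-- Let p be an odd prime and K a finite field of characteristic p. Then Qd(p) (the natural semidirect product of an elementary abelian group of order p² by SL₂(p)) is not involved in the projective special linear group PSL₂(K). -/
theorem result {p : ℕ} [Fact p.Prime] (hp : p ≠ 2) {K : Type*} [Field K] [Fintype K] [CharP K p] : ¬ Cfsg.Involves ↥(Cfsg.qd p) (Matrix.ProjectiveSpecialLinearGroup (Fin 2) K) := by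
  classical
  rintro ⟨K', R, hn, ⟨e⟩⟩
  obtain ⟨q, hq⟩ : ∃ q : Cfsg.qd p, orderOf q = 2 * p := by
    have h2 : (2 : ZMod p) ≠ 0 := Small.SL2C.two_ne_zero_of_char p hp
    let J : Matrix.SpecialLinearGroup (Fin 3) (ZMod p) :=
      ⟨!![-1, 0, 0; 0, -1, 0; 0, 0, 1], by simp [Matrix.det_fin_three]⟩
    let U : Matrix.SpecialLinearGroup (Fin 3) (ZMod p) :=
      ⟨!![1, 1, 0; 0, 1, 0; 0, 0, 1], by simp [Matrix.det_fin_three]⟩
    have hU : ∀ n : ℕ, (U ^ n).1 = !![1, (n : ZMod p), 0; 0, 1, 0; 0, 0, 1] := by
      intro n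
      induction n with
      | zero =>
        ext i j
        fin_cases i <;> fin_cases j <;> simp
      | succ n ih =>
        rw [pow_succ, Matrix.SpecialLinearGroup.coe_mul, ih]
        ext i j
        fin_cases i <;> fin_cases j <;> simp [U, Matrix.mul_apply, Fin.sum_univ_three, add_comm]
    have hUp : orderOf U = p := by
      refine orderOf_eq_prime (Subtype.ext ?_) fun h => ?_
      · rw [hU, CharP.cast_eq_zero]
        ext i j
        fin_cases i <;> fin_cases j <;> simp
      · have := congrArg (fun M : Matrix.SpecialLinearGroup (Fin 3) (ZMod p) => M.1 0 1) h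
        simp [U] at this
    have hJ : orderOf J = 2 := by
      refine orderOf_eq_prime (Subtype.ext ?_) fun h => ?_
      · rw [pow_two, Matrix.SpecialLinearGroup.coe_mul]
        ext i j
        fin_cases i <;> fin_cases j <;> simp [J, Matrix.mul_apply, Fin.sum_univ_three]
      · have := congrArg (fun M : Matrix.SpecialLinearGroup (Fin 3) (ZMod p) => M.1 0 0) h
        simp [J] at this
        exact h2 (by linear_combination -this)
    have hc : Commute J U := by
      apply Subtype.ext
      rw [Matrix.SpecialLinearGroup.coe_mul, Matrix.SpecialLinearGroup.coe_mul]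
      ext i j
      fin_cases i <;> fin_cases j <;> simp [J, U, Matrix.mul_apply, Fin.sum_univ_three]
    have hJm : J ∈ Cfsg.qd p := Subgroup.subset_closure ⟨by simp [J], by simp [J], by simp [J]⟩
    have hUm : U ∈ Cfsg.qd p := Subgroup.subset_closure ⟨by simp [U], by simp [U], by simp [U]⟩
    refine ⟨⟨J * U, mul_mem hJm hUm⟩, ?_⟩
    rw [← Subgroup.orderOf_coe, hc.orderOf_mul_eq_mul_orderOf_of_coprime, hJ, hUp]
    rw [hJ, hUp]
    exact (Nat.coprime_primes Nat.prime_two Fact.out).mpr (Ne.symm hp)
  obtain ⟨x, hx⟩ := QuotientGroup.mk'_surjective (R.subgroupOf K') (e.symm q)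
  have hd : 2 * p ∣ orderOf x := by
    have h := orderOf_map_dvd (e.toMonoidHom.comp (QuotientGroup.mk' (R.subgroupOf K'))) x
    simp only [MonoidHom.comp_apply, hx, MulEquiv.coe_toMonoidHom, MulEquiv.apply_symm_apply] at h
    rwa [hq] at h
  have hz := orderOf_pow_orderOf_div (orderOf_pos x).ne' hd
  exact Small.SL2C.orderOf_ne_two_mul p hp (((x ^ (orderOf x / (2 * p)) : K')) : Matrix.ProjectiveSpecialLinearGroup (Fin 2) K)
    (by rw [Subgroup.orderOf_coe, hz])

end Cfsg.Agent.S2231
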