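import Cfsg.Statements.S2238
import Cfsg.Agent.Lib.Lie.SuzukiFixityTwo
-- import your own Cfsg.Agent.* helpers here

set_option autoImplicit false
open Cfsg

namespace Cfsg.Agent.S2238

/-- The partition of the Suzuki group: with q = 2^(2m+1), m ≥ 1, r = 2^m and the Suzuki group realised as the stabiliser in SL₄ of the Suzuki–Tits ovoid, every non-identity element lies in exactly one subgroup that is either a Sylow 2-subgroup or a cyclic subgroup of order q − 1, q + 2r + 1 or q − 2r + 1. -/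
theorem result {F : Type*} [Field F] [Fintype F] {m : ℕ} (hm : 1 ≤ m) (hF : Fintype.card F = 2 ^ (2 * m + 1)) (g : ↥(Cfsg.Sz F m)) (hg : g ≠ 1) :
    ∃! U : Subgroup ↥(Cfsg.Sz F m), ((∃ P : Sylow 2 ↥(Cfsg.Sz F m), U = (P : Subgroup ↥(Cfsg.Sz F m))) ∨
      (IsCyclic ↥U ∧ Nat.card ↥U ∈ ({2 ^ (2 * m + 1) - 1, 2 ^ (2 * m + 1) + 2 ^ (m + 1) + 1, 2 ^ (2 * m + 1) - 2 ^ (m + 1) + 1} : Set ℕ))) ∧ g ∈ U := by
  classical
  haveI : Fact (Nat.Prime 2) := ⟨Nat.prime_two⟩
  set q := 2 ^ (2 * m + 1) with hq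
  obtain ⟨-, heven, -, hqp⟩ := Cfsg.Agent.Lie.Suzuki.q_facts hF hm
  have hRq : 2 ^ (m + 1) ≤ q := Nat.pow_le_pow_right (by norm_num) (by omega)
  have hR2 : (2 ^ (m + 1)) ^ 2 = 2 * q := by rw [hq, ← pow_mul, ← pow_succ']; congr 1; ring
  have hqe : Even q := hF ▸ heven
  have hq1 : 8 ≤ q := hF ▸ (Cfsg.Agent.Lie.Suzuki.q_facts hF hm).1
  have hRe : Even (2 ^ (m + 1)) := by rw [pow_succ]; exact even_two.mul_left _
  have hprod : (q + 2 ^ (m + 1) + 1) * (q - 2 ^ (m + 1) + 1) = q ^ 2 + 1 := by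
    zify [hRq] at hR2 ⊢
    linear_combination -hR2
  -- the three orders are pairwise coprime
  have hco : ∀ a ∈ ({q - 1, q + 2 ^ (m + 1) + 1, q - 2 ^ (m + 1) + 1} : Set ℕ),
      ∀ b ∈ ({q - 1, q + 2 ^ (m + 1) + 1, q - 2 ^ (m + 1) + 1} : Set ℕ),
      ∀ r : ℕ, r.Prime → r ∣ a → r ∣ b → a = b := by
    have h1 : ∀ r : ℕ, r.Prime → r ∣ q - 1 → ¬ r ∣ q ^ 2 + 1 := fun r hr h h' => by
      rw [← hF] at h h'
      exact (hqp r hr h').2.2.1 h
    have h2 : ∀ r : ℕ, r.Prime → r ∣ q + 2 ^ (m + 1) + 1 → r ∣ q - 2 ^ (m + 1) + 1 → False := by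
      intro r hr ha hb
      have hd := Nat.dvd_sub ha hb
      rw [show q + 2 ^ (m + 1) + 1 - (q - 2 ^ (m + 1) + 1) = 2 ^ (m + 2) by
        have : 2 ^ (m + 2) = 2 * 2 ^ (m + 1) := pow_succ' 2 (m + 1)
        omega] at hd
      have h2' := (Nat.prime_dvd_prime_iff_eq hr Nat.prime_two).1 (hr.dvd_of_dvd_pow hd)
      subst h2'
      obtain ⟨s, hs⟩ := hqe
      obtain ⟨w, hw⟩ := hRe
      omega
    intro a ha b hb r hr hra hrb
    simp only [Set.mem_insert_iff, Set.mem_singleton_iff] at ha hb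
    rcases ha with rfl | rfl | rfl <;> rcases hb with rfl | rfl | rfl
    all_goals first
      | rfl
      | exact absurd (hrb.trans (hprod ▸ dvd_mul_right _ _)) (h1 r hr hra)
      | exact absurd (hrb.trans (hprod ▸ dvd_mul_left _ _)) (h1 r hr hra)
      | exact absurd (hra.trans (hprod ▸ dvd_mul_right _ _)) (h1 r hr hrb)
      | exact absurd (hra.trans (hprod ▸ dvd_mul_left _ _)) (h1 r hr hrb)
      | exact (h2 r hr hra hrb).elim
      | exact (h2 r hr hrb hra).elim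
  -- the orders are odd
  have hoddset : ∀ a ∈ ({q - 1, q + 2 ^ (m + 1) + 1, q - 2 ^ (m + 1) + 1} : Set ℕ), ¬ 2 ∣ a := by
    intro a ha
    obtain ⟨s, hs⟩ := hqe
    obtain ⟨w, hw⟩ := hRe
    simp only [Set.mem_insert_iff, Set.mem_singleton_iff] at ha
    rcases ha with rfl | rfl | rfl <;> omega
  by_cases heven' : 2 ∣ orderOf g
  · obtain ⟨a, -, huniq⟩ := Cfsg.Agent.Lie.Suzuki.involution_fixed hF hm (orderOf_pow_orderOf_div (orderOf_pos g).ne' heven')
    have hfixa : ∀ b : Cfsg.suzukiOvoid F m, g • b = b → b = a := fun b hb => huniq b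
      (Subgroup.pow_mem (MulAction.stabilizer (Cfsg.Sz F m) b) (MulAction.mem_stabilizer_iff.2 hb) _)
    have hga : g • a = a := by
      obtain ⟨b, hb, hu⟩ := Cfsg.Agent.Lie.Suzuki.involution_fixed hF hm (orderOf_pow_orderOf_div (orderOf_pos g).ne' heven')
      have hab := (huniq b hb)
      subst hab
      exact hu _ (by rw [← mul_smul, ← (Commute.self_pow g _).eq, mul_smul, hb])
    have hP2 : IsPGroup 2 (Subgroup.zpowers g) := by
      rw [IsPGroup.iff_card]
      refine ⟨(Nat.card (Subgroup.zpowers g)).primeFactorsList.length,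
        Nat.eq_prime_pow_of_unique_prime_dvd Nat.card_pos.ne' fun {r} hr hrd => ?_⟩
      by_contra hr2
      rw [Nat.card_zpowers] at hrd
      have hy := orderOf_pow_orderOf_div (orderOf_pos g).ne' hrd
      obtain ⟨b, hba, hb, honly⟩ := Cfsg.Agent.Lie.Suzuki.odd_two_fixed hF hm
        (g := g ^ (orderOf g / r)) (fun h => by rw [h, orderOf_one] at hy; exact hr.ne_one hy.symm)
        (fun h => by rw [hy] at h; exact hr2 ((Nat.prime_dvd_prime_iff_eq Nat.prime_two hr).1 h).symm)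
        (a := a) (Subgroup.pow_mem (MulAction.stabilizer (Cfsg.Sz F m) a) (MulAction.mem_stabilizer_iff.2 hga) _)
      refine hba (hfixa b ((honly _ ?_).resolve_left fun h => hba (smul_left_cancel g (h.trans hga.symm))))
      rw [← mul_smul, ← (Commute.self_pow g _).eq, mul_smul, hb]
    obtain ⟨P, hP⟩ := hP2.exists_le_sylow
    refine ⟨(P : Subgroup _), ⟨Or.inl ⟨P, rfl⟩, hP (Subgroup.mem_zpowers g)⟩, ?_⟩
    rintro U ⟨⟨Q, rfl⟩ | ⟨-, hk⟩, hgU⟩
    · -- a Sylow subgroup is determined by the point it fixes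
      have key : ∀ R : Sylow 2 (Cfsg.Sz F m), g ∈ (R : Subgroup _) → ∃ c : Cfsg.Sz F m,
          (R : Subgroup _) = (Cfsg.Agent.Lie.Suzuki.uSub hF).map (MulAut.conj c).toMonoidHom ∧
          c • (⟨_, Cfsg.Agent.Lie.Suzuki.inf_mem⟩ : Cfsg.suzukiOvoid F m) = a := by
        intro R hR
        obtain ⟨c, hc⟩ := Cfsg.Agent.Small.SuzukiFacts.exists_conj_uSub hF hm R
        refine ⟨c, hc, hfixa _ ?_⟩
        rw [hc] at hR
        obtain ⟨w, ⟨x, y, rfl⟩, he⟩ := hR
        rw [← he]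
        show (c * Cfsg.Agent.Lie.Suzuki.tS hF x y * c⁻¹) • (c • _) = c • _
        rw [mul_smul, mul_smul, inv_smul_smul]
        congr 1
        exact Subtype.ext (Cfsg.Agent.Lie.Suzuki.tM_inf x y)
      obtain ⟨c, hc, hca⟩ := key P (hP (Subgroup.mem_zpowers g))
      obtain ⟨d, hd, hda⟩ := key Q hgU
      have hn : c⁻¹ * d ∈ Subgroup.normalizer ((Cfsg.Agent.Lie.Suzuki.uSub (m := m) hF : Subgroup _) : Set (Cfsg.Sz F m)) := by
        rw [Cfsg.Agent.Lie.Suzuki.normalizer_uSub hF hm]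
        have : (c⁻¹ * d) • (⟨_, Cfsg.Agent.Lie.Suzuki.inf_mem⟩ : Cfsg.suzukiOvoid F m) =
            ⟨_, Cfsg.Agent.Lie.Suzuki.inf_mem⟩ := by rw [mul_smul, hda, inv_smul_eq_iff, hca]
        exact MulAction.mem_stabilizer_iff.2 (congrArg Subtype.val this)
      rw [hc, hd]
      ext w
      constructor
      · rintro ⟨v, hv, rfl⟩
        exact ⟨(c⁻¹ * d) * v * (c⁻¹ * d)⁻¹, (Subgroup.mem_normalizer_iff.1 hn v).1 hv, by simp [mul_assoc]⟩
      · rintro ⟨v, hv, rfl⟩
        exact ⟨(c⁻¹ * d)⁻¹ * v * (c⁻¹ * d), (Subgroup.mem_normalizer_iff''.1 hn v).1 hv, by simp [mul_assoc]⟩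
    · exact absurd (heven'.trans (Subgroup.orderOf_mk g hgU ▸ orderOf_dvd_natCard (⟨g, hgU⟩ : U))) (hoddset _ hk)
  -- elements of odd order lie in one cyclic subgroup
  suffices h : ∃ V : Subgroup (Cfsg.Sz F m), IsCyclic V ∧
      Nat.card V ∈ ({q - 1, q + 2 ^ (m + 1) + 1, q - 2 ^ (m + 1) + 1} : Set ℕ) ∧ g ∈ V ∧
      Subgroup.centralizer {g} = V by
    obtain ⟨V, hVc, hVk, hgV, hCV⟩ := h
    refine ⟨V, ⟨Or.inr ⟨hVc, hVk⟩, hgV⟩, ?_⟩
    rintro W ⟨⟨Q, rfl⟩ | ⟨hWc, hWk⟩, hgW⟩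
    · exfalso
      obtain ⟨k, hk⟩ := Q.2 ⟨g, hgW⟩
      have h1 : orderOf g ∣ 2 ^ k := orderOf_dvd_of_pow_eq_one (by simpa using congrArg Subtype.val hk)
      obtain ⟨j, -, hj⟩ := (Nat.dvd_prime_pow Nat.prime_two).1 h1
      rcases j with _ | j
      · exact hg (orderOf_eq_one_iff.1 (by rw [hj, pow_zero]))
      · exact heven' (hj ▸ dvd_pow_self 2 (Nat.succ_ne_zero j))
    · have hWV : W ≤ V := fun w hw => by
        rw [← hCV, Subgroup.mem_centralizer_singleton_iff]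
        exact congrArg Subtype.val (hWc.commGroup.mul_comm (⟨w, hw⟩ : W) ⟨g, hgW⟩)
      obtain ⟨r, hr, hrd⟩ := Nat.exists_prime_and_dvd (fun h => hg (orderOf_eq_one_iff.1 h))
      have e := hco _ hWk _ hVk r hr (hrd.trans (Subgroup.orderOf_mk g hgW ▸ orderOf_dvd_natCard (⟨g, hgW⟩ : W)))
        (hrd.trans (Subgroup.orderOf_mk g hgV ▸ orderOf_dvd_natCard (⟨g, hgV⟩ : V)))
      exact Subgroup.eq_of_le_of_card_ge hWV e.ge
  by_cases hfree : ∀ a : Cfsg.suzukiOvoid F m, g • a ≠ a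
  · obtain ⟨r, hr, hrd⟩ := Nat.exists_prime_and_dvd (fun h => hg (orderOf_eq_one_iff.1 h))
    have hrn := Cfsg.Agent.Lie.Suzuki.prime_dvd_of_fpf hF hm hfree hr hrd
    have hy := orderOf_pow_orderOf_div (orderOf_pos g).ne' hrd
    have hgU : g ∈ Subgroup.centralizer ({g ^ (orderOf g / r)} : Set (Cfsg.Sz F m)) :=
      Subgroup.mem_centralizer_singleton_iff.2 (Commute.self_pow g _).eq
    refine ⟨_, (Cfsg.Agent.Lie.Suzuki.torus hF hm hr hrn hy).1, ?_, hgU, Cfsg.Agent.Lie.Suzuki.eq_torus hF hm hr hrn hy hgU hg⟩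
    obtain ⟨U, c, -, hk, hU⟩ := Cfsg.Agent.Lie.Suzuki.torus_conj hF hm hr hrn hy
    rw [hU, Subgroup.card_map_of_injective (MulAut.conj c).injective] at hk
    exact Or.inr hk
  · push Not at hfree
    obtain ⟨a, ha⟩ := hfree
    obtain ⟨b, hba, hb, honly⟩ := Cfsg.Agent.Lie.Suzuki.odd_two_fixed hF hm hg heven' ha
    set D := MulAction.stabilizer (Cfsg.Sz F m) a ⊓ MulAction.stabilizer (Cfsg.Sz F m) b with hD
    obtain ⟨f, hf⟩ : ∃ f : D →* Fˣ, Function.Injective f := Cfsg.Agent.Lie.Suzuki.two_point_cyclic hF hm hba.symm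
    have hgD : g ∈ D := ⟨MulAction.mem_stabilizer_iff.2 ha, MulAction.mem_stabilizer_iff.2 hb⟩
    have hDc : IsCyclic D := isCyclic_of_subgroup_isDomain ((Units.coeHom F).comp f) (Units.val_injective.comp hf)
    refine ⟨D, hDc, Or.inl (by rw [hD, Cfsg.Agent.Lie.Suzuki.two_point_card hF hm hba.symm, hF]), hgD,
      le_antisymm (fun c hc => ?_) fun c hc => ?_⟩
    · have hmem : ∀ w : Cfsg.suzukiOvoid F m, g • w = w → c • w = a ∨ c • w = b := fun w hw =>
        honly _ (by rw [← mul_smul, ← Subgroup.mem_centralizer_singleton_iff.1 hc, mul_smul, hw])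
      by_cases hca : c • a = a
      · exact ⟨hca, (hmem b hb).resolve_left fun h => hba (smul_left_cancel c (h.trans hca.symm))⟩
      exfalso
      have hcab : c • a = b := (hmem a ha).resolve_left hca
      have hcb : c • b = a := (hmem b hb).resolve_right fun h => hba (smul_left_cancel c (hcab.trans h.symm)).symm
      have h2 : 2 ∣ orderOf c := by
        by_contra hodd
        obtain ⟨j, hj⟩ := (Nat.odd_iff.2 (by omega : orderOf c % 2 = 1) : Odd (orderOf c))
        have h5 : ∀ i : ℕ, c ^ (2 * i) • a = a := fun i => by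
          induction i with
          | zero => simp
          | succ i ih => rw [mul_add, pow_add, mul_smul,
              show c ^ (2 * 1) • a = a by rw [mul_one, pow_two, mul_smul, hcab, hcb], ih]
        refine hca ?_
        conv_lhs => rw [← (show c ^ (2 * (j + 1)) = c by
          rw [show 2 * (j + 1) = orderOf c + 1 by omega, pow_succ, pow_orderOf_eq_one, one_mul])]
        exact h5 _
      obtain ⟨d, hd, hu⟩ := Cfsg.Agent.Lie.Suzuki.involution_fixed hF hm (orderOf_pow_orderOf_div (orderOf_pos c).ne' h2)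
      have hgd : g • d = d := hu _ (by
        rw [← mul_smul, ((show Commute g c from (Subgroup.mem_centralizer_singleton_iff.1 hc).symm).pow_right _).eq.symm,
          mul_smul, hd])
      have hcd : c • d = d := hu _ (by rw [← mul_smul, ← (Commute.self_pow c _).eq, mul_smul, hd])
      rcases honly d hgd with rfl | rfl
      · exact hca hcd
      · exact hba (hcd.symm.trans hcb)
    · exact Subgroup.mem_centralizer_singleton_iff.2
        (congrArg Subtype.val (hDc.commGroup.mul_comm (⟨c, hc⟩ : D) ⟨g, hgD⟩))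

end Cfsg.Agent.S2238
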