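import Cfsg.Statements.S2245
import Cfsg.Agent.Lib.Lead.UniqueMaxDown

set_option autoImplicit false
open Cfsg

namespace Cfsg.Agent.S2245

/-- For n ≥ 5 with n ≠ 6, a Sylow 2-subgroup of the alternating group A_n lies in exactly one maximal subgroup of A_n if and only if n = 2^k + 1 for some k ≥ 2; the same holds for the symmetric group S_n. -/
theorem result (n : ℕ) (hn : 5 ≤ n) (h6 : n ≠ 6) :
    ((∀ R : Sylow 2 ↥(alternatingGroup (Fin n)), (∃! M : Subgroup ↥(alternatingGroup (Fin n)), IsCoatom M ∧ (R : Subgroup ↥(alternatingGroup (Fin n))) ≤ M) ↔ ∃ k : ℕ, 2 ≤ k ∧ n = 2 ^ k + 1) ∧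
    (∀ R : Sylow 2 (Equiv.Perm (Fin n)), (∃! M : Subgroup (Equiv.Perm (Fin n)), IsCoatom M ∧ (R : Subgroup (Equiv.Perm (Fin n))) ≤ M) ↔ ∃ k : ℕ, 2 ≤ k ∧ n = 2 ^ k + 1)) := by
  constructor
  · intro R
    have hι : Function.Injective (alternatingGroup (Fin n)).subtype := Subtype.val_injective
    have hA : alternatingGroup (Fin n) ≤ (alternatingGroup (Fin n)).subtype.range := by
      rw [Subgroup.range_subtype]
    have hC : ∀ s : Set (Fin n), s.Nonempty → sᶜ.Nonempty → n ≠ 2 * s.ncard →
        IsCoatom (Cfsg.Agent.Lead.setStab (alternatingGroup (Fin n)).subtype s) := by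
      intro s h0 h1 h2
      exact alternatingGroup.isCoatom_stabilizer h0 h1 (by rwa [Nat.card_fin])
    constructor
    · intro h
      by_contra hk
      push Not at hk
      exact Cfsg.Agent.Lead.two_maximal_not_pow _ hι hA hC hn h6 R hk h
    · rintro ⟨k, hk2, hk⟩
      exact Cfsg.Agent.Lead.unique_maximal_pow _ hι hA hC k hk2 hk R
  · intro R
    have hι : Function.Injective (MonoidHom.id (Equiv.Perm (Fin n))) := Function.injective_id
    have hA : alternatingGroup (Fin n) ≤ (MonoidHom.id (Equiv.Perm (Fin n))).range :=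
      fun x _ => ⟨x, rfl⟩
    have hC : ∀ s : Set (Fin n), s.Nonempty → sᶜ.Nonempty → n ≠ 2 * s.ncard →
        IsCoatom (Cfsg.Agent.Lead.setStab (MonoidHom.id (Equiv.Perm (Fin n))) s) := by
      intro s h0 h1 h2
      exact Equiv.Perm.isCoatom_stabilizer h0 h1 (by rwa [Nat.card_fin])
    constructor
    · intro h
      by_contra hk
      push Not at hk
      exact Cfsg.Agent.Lead.two_maximal_not_pow _ hι hA hC hn h6 R hk h
    · rintro ⟨k, hk2, hk⟩
      exact Cfsg.Agent.Lead.unique_maximal_pow _ hι hA hC k hk2 hk R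

end Cfsg.Agent.S2245
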