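import Cfsg.Statements.S2250
import Cfsg.Agent.Lib.Small.SylowTwoSpWreath
import Cfsg.Agent.S2234

set_option autoImplicit false
open Cfsg

namespace Cfsg.Agent.S2250

/-- The normal 2-rank of the symplectic group over a finite field of odd order: for n ≥ 1 and S a Sylow 2-subgroup of Sp_{2n}(F), the largest rank of an elementary abelian subgroup of S that is normal in S equals n. -/
theorem result {F : Type*} [Field F] [Fintype F] (hF : Odd (Fintype.card F)) (n : ℕ) (hn : 1 ≤ n) (S : Sylow 2 ↥(Matrix.symplecticGroup (Fin n) F)) :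
    ((∃ E : Subgroup ↥(S : Subgroup ↥(Matrix.symplecticGroup (Fin n) F)), E.Normal ∧ Cfsg.IsElementaryAbelian 2 E ∧ 2 ^ (n) ≤ Nat.card ↥E) ∧
      ∀ E : Subgroup ↥(S : Subgroup ↥(Matrix.symplecticGroup (Fin n) F)), E.Normal → Cfsg.IsElementaryAbelian 2 E → Nat.card ↥E ≤ 2 ^ (n)) := by
  classical
  haveI : Fact (Nat.Prime 2) := ⟨Nat.prime_two⟩
  have h2 : (2 : F) ≠ 0 := Cfsg.Agent.Classical.SL2Four.two_ne_zero_of_odd rfl hF
  constructor
  swap
  · intro E _ hE
    haveI := hE.1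
    haveI : IsMulCommutative ↥(E.map (S : Subgroup ↥(Matrix.symplecticGroup (Fin n) F)).subtype) :=
      ⟨⟨fun a b => by
        obtain ⟨a', ha', ha⟩ := a.2
        obtain ⟨b', hb', hb⟩ := b.2
        refine Subtype.ext ?_
        show (a : ↥(Matrix.symplecticGroup (Fin n) F)) * b = b * a
        rw [← ha, ← hb]
        exact congrArg (fun z : ↥E => ((z : ↥(S : Subgroup ↥(Matrix.symplecticGroup (Fin n) F))) : ↥(Matrix.symplecticGroup (Fin n) F)))
          (mul_comm' (⟨a', ha'⟩ : ↥E) ⟨b', hb'⟩)⟩⟩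
    have h := (Cfsg.Agent.S2234.result hF n hn).2 (E.map (S : Subgroup ↥(Matrix.symplecticGroup (Fin n) F)).subtype)
      inferInstance (by
        rintro _ ⟨a, ha, rfl⟩
        rw [← map_pow, hE.2 a ha, map_one])
    rw [← Nat.card_congr (E.equivMapOfInjective _ Subtype.val_injective).toEquiv] at h
    exact h
  obtain ⟨P⟩ : Nonempty (Sylow 2 (Matrix.SpecialLinearGroup (Fin 2) F)) := inferInstance
  obtain ⟨T⟩ : Nonempty (Sylow 2 (Equiv.Perm (Fin n))) := inferInstance
  let φ := Cfsg.Agent.Char.TwoWreath.phiSp F n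
  let ψ := Cfsg.Agent.Char.TwoWreath.psiSp F n
  have hc := Cfsg.Agent.Char.TwoWreath.phi_psi (F := F) (n := n)
  let W := Cfsg.Agent.Char.TwoWreath.wr φ ψ hc (P : Subgroup _) (T : Subgroup _)
  -- the scalar tuples
  let m1 : Matrix.SpecialLinearGroup (Fin 2) F := ⟨-1, by simp [Matrix.det_fin_two]⟩
  have hm1 : ∀ x, Commute m1 x := fun x => Subtype.ext (show (-1 : Matrix (Fin 2) (Fin 2) F) * x.1 = x.1 * -1 by simp)
  have hm1sq : m1 * m1 = 1 := Subtype.ext (show (-1 : Matrix (Fin 2) (Fin 2) F) * -1 = 1 by simp)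
  have hm1ne : m1 ≠ 1 := fun h => h2 (by
    have h' := congrFun (congrFun (congrArg Subtype.val h) 0) 0
    simp [m1] at h'
    linear_combination -h')
  let Z : Subgroup (Matrix.SpecialLinearGroup (Fin 2) F) :=
    { carrier := {x | x = 1 ∨ x = m1}
      one_mem' := Or.inl rfl
      mul_mem' := by
        rintro a b (rfl | rfl) (rfl | rfl)
        exacts [Or.inl (one_mul _), Or.inr (one_mul _), Or.inr (mul_one _), Or.inl hm1sq]
      inv_mem' := by
        rintro a (rfl | rfl)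
        exacts [Or.inl inv_one, Or.inr (inv_eq_of_mul_eq_one_right hm1sq)] }
  have hZc : ∀ z ∈ Z, ∀ x, z * x = x * z := by
    rintro z (rfl | rfl) x
    exacts [by simp, hm1 x]
  have hZ2 : ∀ z ∈ Z, z * z = 1 := by
    rintro z (rfl | rfl)
    exacts [one_mul 1, hm1sq]
  have hZP : Z ≤ (P : Subgroup _) := by
    obtain ⟨Q, hQ⟩ := (show IsPGroup 2 Z from (IsPGroup.of_card (n := 1) (by
      rw [pow_one, Nat.card_eq_two_iff]
      exact ⟨⟨1, Or.inl rfl⟩, ⟨m1, Or.inr rfl⟩, fun h => hm1ne (congrArg Subtype.val h).symm, Set.eq_univ_of_forall fun y => by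
        rcases y.2 with h | h
        · exact Or.inl (Subtype.ext h)
        · exact Or.inr (Subtype.ext h)⟩))).exists_le_sylow
    obtain ⟨x, rfl⟩ := MulAction.exists_smul_eq (Matrix.SpecialLinearGroup (Fin 2) F) Q P
    intro z hz
    have h1 : x * z * x⁻¹ ∈ (x • Q : Sylow 2 _) := ⟨z, hQ hz, rfl⟩
    rwa [← hZc z hz x, mul_inv_cancel_right] at h1
  let E0 : Subgroup ↥(Matrix.symplecticGroup (Fin n) F) := (Subgroup.pi Set.univ fun _ : Fin n => Z).map φ
  have hφinj : Function.Injective φ := fun a b h => by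
    have := (Cfsg.Agent.Char.TwoWreath.psi_phi_inj (1 : Equiv.Perm (Fin n)) (a * b⁻¹) (by
      rw [map_one, one_mul, map_mul, map_inv, show Cfsg.Agent.Char.TwoWreath.phiSp F n a = Cfsg.Agent.Char.TwoWreath.phiSp F n b from h,
        mul_inv_cancel])).2
    exact mul_inv_eq_one.1 this
  have hE0W : E0 ≤ W := by
    rintro _ ⟨v, hv, rfl⟩
    exact ⟨1, one_mem _, v, fun i => hZP (hv i trivial), by rw [map_one, one_mul]⟩
  have hE0n : ∀ g ∈ W, ∀ e ∈ E0, g * e * g⁻¹ ∈ E0 := by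
    rintro _ ⟨h, -, v, -, rfl⟩ _ ⟨u, hu, rfl⟩
    refine ⟨u ∘ ⇑h⁻¹, fun i _ => hu _ trivial, ?_⟩
    have e1 : φ v * φ u = φ u * φ v := by
      rw [← map_mul, ← map_mul]
      exact congrArg φ (funext fun i => ((hZc _ (hu i trivial)) (v i)).symm)
    have e2 : ψ h * φ u = φ (u ∘ ⇑h⁻¹) * ψ h := by
      rw [hc h (u ∘ ⇑h⁻¹)]
      exact congrArg (fun w => ψ h * φ w) (funext fun i => by simp)
    rw [show ψ h * φ v * φ u * (ψ h * φ v)⁻¹ = ψ h * (φ v * φ u) * (φ v)⁻¹ * (ψ h)⁻¹ by group, e1,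
      ← mul_assoc (ψ h), mul_inv_cancel_right, e2, mul_inv_cancel_right]
  have hWcard : Nat.card W = 2 ^ (Nat.card ↥(Matrix.symplecticGroup (Fin n) F)).factorization 2 :=
    Cfsg.Agent.Char.TwoWreath.card_sylow_symplectic hF P T
  obtain ⟨g, hg⟩ := MulAction.exists_smul_eq ↥(Matrix.symplecticGroup (Fin n) F) (Sylow.ofCard W hWcard) S
  have hS : (S : Subgroup ↥(Matrix.symplecticGroup (Fin n) F)) = W.map (MulAut.conj g).toMonoidHom := by rw [← hg]; rfl
  refine ⟨(E0.map (MulAut.conj g).toMonoidHom).subgroupOf (S : Subgroup _), ⟨?_⟩, ⟨?_, ?_⟩, ?_⟩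
  · rintro ⟨a, ha⟩ hA ⟨b, hb⟩
    obtain ⟨e, he, hea⟩ := hA
    obtain ⟨w, hw, hwb⟩ := (hS ▸ hb : b ∈ W.map (MulAut.conj g).toMonoidHom)
    refine ⟨w * e * w⁻¹, hE0n w hw e he, ?_⟩
    rw [map_mul, map_mul, map_inv, hea, hwb]
    rfl
  · refine ⟨⟨fun a b => ?_⟩⟩
    obtain ⟨e, ⟨u, hu, rfl⟩, hea⟩ := a.2
    obtain ⟨e', ⟨u', -, rfl⟩, heb⟩ := b.2
    refine Subtype.ext (Subtype.ext ?_)
    show (a.1.1 : ↥(Matrix.symplecticGroup (Fin n) F)) * b.1.1 = b.1.1 * a.1.1
    rw [show a.1.1 = _ from hea.symm, show b.1.1 = _ from heb.symm, ← map_mul, ← map_mul, ← map_mul, ← map_mul,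
      show u * u' = u' * u from funext fun i => (hZc _ (hu i trivial)) (u' i)]
  · rintro a ⟨e, ⟨u, hu, rfl⟩, hea⟩
    refine Subtype.ext ?_
    show a.1 ^ 2 = 1
    rw [show a.1 = _ from hea.symm, pow_two, ← map_mul, ← map_mul, show u * u = 1 from funext fun i => hZ2 _ (hu i trivial),
      map_one, map_one]
  · rw [Nat.card_congr (Subgroup.subgroupOfEquivOfLe (hS ▸ Subgroup.map_mono hE0W)).toEquiv,
      ← Nat.card_congr (E0.equivMapOfInjective _ (MulAut.conj g).injective).toEquiv,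
      ← Nat.card_congr ((Subgroup.pi Set.univ fun _ : Fin n => Z).equivMapOfInjective _ hφinj).toEquiv]
    have hinj : Function.Injective (fun f : Fin n → Bool =>
        (⟨fun i => if f i then m1 else 1, fun i _ => by
          show (if f i then m1 else 1) ∈ Z
          split_ifs
          exacts [Or.inr rfl, Or.inl rfl]⟩ : ↥(Subgroup.pi Set.univ fun _ : Fin n => Z))) := fun f f' h => funext fun i => by
      have h' := congrFun (congrArg Subtype.val h) i
      dsimp only at h'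
      revert h'
      cases f i <;> cases f' i <;> simp [hm1ne, Ne.symm hm1ne]
    have h := Nat.card_le_card_of_injective _ hinj
    rwa [Nat.card_fun, Nat.card_fin, Nat.card_eq_fintype_card, Fintype.card_bool] at h

end Cfsg.Agent.S2250
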