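import Cfsg.Statements.S2251
import Cfsg.Agent.Lib.Lead.SuzukiSubgroups
-- import your own Cfsg.Agent.* helpers here

set_option autoImplicit false
open Cfsg

namespace Cfsg.Agent.S2251

/-- The subgroups of the Suzuki group: with q = 2^(2m+1), m ≥ 1, r = 2^m and the group realised as the stabiliser in SL₄ of the Suzuki–Tits ovoid, every proper subgroup is contained in the normalizer of a Sylow 2-subgroup, or in the normalizer of a cyclic subgroup of order q − 1, q + 2r + 1 or q − 2r + 1, or in a subgroup isomorphic to a smaller Suzuki group Sz(s) with s = 2^(2k+1) ≥ 8 and 2k+1 a proper divisor of 2m+1. -/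
theorem result {F : Type*} [Field F] [Fintype F] {m : ℕ} (hm : 1 ≤ m) (hF : Fintype.card F = 2 ^ (2 * m + 1)) (M : Subgroup ↥(Cfsg.Sz F m)) (hM : M ≠ ⊤) :
    (∃ P : Sylow 2 ↥(Cfsg.Sz F m), M ≤ Subgroup.normalizer ((P : Subgroup ↥(Cfsg.Sz F m)) : Set ↥(Cfsg.Sz F m))) ∨
    (∃ U : Subgroup ↥(Cfsg.Sz F m), IsCyclic ↥U ∧ Nat.card ↥U ∈ ({2 ^ (2 * m + 1) - 1, 2 ^ (2 * m + 1) + 2 ^ (m + 1) + 1, 2 ^ (2 * m + 1) - 2 ^ (m + 1) + 1} : Set ℕ) ∧
      M ≤ Subgroup.normalizer (U : Set ↥(Cfsg.Sz F m))) ∨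
    (∃ (K : Type) (_ : Field K) (_ : Fintype K) (k : ℕ), 1 ≤ k ∧ k < m ∧ Fintype.card K = 2 ^ (2 * k + 1) ∧ 2 * k + 1 ∣ 2 * m + 1 ∧
      ∃ S : Subgroup ↥(Cfsg.Sz F m), Nonempty (↥S ≃* ↥(Cfsg.Sz K k)) ∧ M ≤ S) := by
  by_cases hsol : Group.IsSolvable ↥M
  · rcases Cfsg.Agent.SzSolvable.solvable_cases hF hm hsol with ⟨a, ha⟩ | ⟨a, b, hab, hle⟩ | ⟨T, hT, hle⟩
    · left
      haveI : Fact (Nat.Prime 2) := ⟨Nat.prime_two⟩
      haveI := Cfsg.Agent.Lie.Suzuki.sz_pretransitive (m := m) hF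
      obtain ⟨g, hg⟩ := MulAction.exists_smul_eq ↥(Cfsg.Sz F m)
        (⟨_, Cfsg.Agent.Lie.Suzuki.inf_mem⟩ : Cfsg.suzukiOvoid F m) a
      refine ⟨g • ((Cfsg.Agent.Lie.Suzuki.uSub_isPGroup (m := m) hF).toSylow
        (Cfsg.Agent.Lie.Suzuki.not_two_dvd_index hF hm)), fun x hx => ?_⟩
      have hx' : g⁻¹ * x * g ∈ Subgroup.normalizer
          ((Cfsg.Agent.Lie.Suzuki.uSub (m := m) hF : Subgroup ↥(Cfsg.Sz F m)) : Set ↥(Cfsg.Sz F m)) := by
        rw [Cfsg.Agent.Lie.Suzuki.normalizer_uSub hF hm, MulAction.mem_stabilizer_iff]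
        have key : (g⁻¹ * x * g) • (⟨_, Cfsg.Agent.Lie.Suzuki.inf_mem⟩ : Cfsg.suzukiOvoid F m) =
            ⟨_, Cfsg.Agent.Lie.Suzuki.inf_mem⟩ := by
          rw [mul_smul, mul_smul, hg, MulAction.mem_stabilizer_iff.1 (ha hx), ← hg, inv_smul_smul]
        exact congrArg Subtype.val key
      have h2 := Subgroup.mem_map_of_mem (MulAut.conj g).toMonoidHom hx'
      rw [Subgroup.map_equiv_normalizer_eq, show (MulAut.conj g).toMonoidHom (g⁻¹ * x * g) = x by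
        show g * (g⁻¹ * x * g) * g⁻¹ = x; group] at h2
      exact h2
    · refine Or.inr (Or.inl ⟨Cfsg.Agent.SzSolvable.pairTorus a b, Cfsg.Agent.SzSolvable.pairTorus_isCyclic hF hm hab,
        Or.inl (by rw [Cfsg.Agent.Lie.Suzuki.two_point_card hF hm hab, hF]), fun x hx => ?_⟩)
      refine Subgroup.mem_normalizer_fintype fun t ht => ?_
      obtain ⟨h1, h2⟩ := Cfsg.Agent.SzSolvable.mem_pairTorus.1 ht
      show x * t * x⁻¹ ∈ Cfsg.Agent.SzSolvable.pairTorus a b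
      rw [Cfsg.Agent.SzSolvable.mem_pairTorus, mul_smul, mul_smul, mul_smul, mul_smul]
      rcases Cfsg.Agent.SzSolvable.mem_pairStab.1 (inv_mem (hle hx)) with ⟨e1, e2⟩ | ⟨e1, e2⟩ <;>
        rw [e1, e2, h1, h2] <;> constructor <;> first
          | exact (inv_smul_eq_iff.1 e1).symm
          | exact (inv_smul_eq_iff.1 e2).symm
    · exact Or.inr (Or.inl ⟨T, (hT.facts hF hm).1, Or.inr (hT.facts hF hm).2.2.2.1, hle⟩)
  · obtain ⟨K, i1, i2, k, hk, hkm, hK, hdiv, hiso⟩ :=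
      Cfsg.Agent.SzSubgroups.subfield_of_insolvable hF hm hsol hM
    exact Or.inr (Or.inr ⟨K, i1, i2, k, hk, hkm, hK, hdiv, M, hiso, le_rfl⟩)

end Cfsg.Agent.S2251
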