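import Cfsg.Statements.S2254
import Cfsg.Agent.Lib.Solv.NilpotentPermSylow

set_option autoImplicit false
open Cfsg

namespace Cfsg.Agent.S2254

open Solv.NilPerm

/-- Let n ≡ 3 (mod 4). Then every nilpotent subgroup of the symmetric group on n letters has order at most 3 times the order of a Sylow 2-subgroup of the symmetric group on n − 3 letters; the bound is attained by a nilpotent subgroup isomorphic to the direct product of such a Sylow 2-subgroup with a cyclic group of order 3; and any two nilpotent subgroups attaining the bound are conjugate. -/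
theorem result  (n : ℕ) (hn : n % 4 = 3)
    (P : Sylow 2 (Equiv.Perm (Fin (n - 3)))) :
    (∀ N : Subgroup (Equiv.Perm (Fin n)), Group.IsNilpotent N → Nat.card N ≤ 3 * Nat.card P) ∧
    (∃ M : Subgroup (Equiv.Perm (Fin n)), Group.IsNilpotent M ∧ Nat.card M = 3 * Nat.card P ∧
      Nonempty (M ≃* (↥(P : Subgroup (Equiv.Perm (Fin (n - 3)))) × Multiplicative (ZMod 3)))) ∧
    (∀ N₁ N₂ : Subgroup (Equiv.Perm (Fin n)), Group.IsNilpotent N₁ → Group.IsNilpotent N₂ →
      Nat.card N₁ = 3 * Nat.card P → Nat.card N₂ = 3 * Nat.card P →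
      ∃ g : Equiv.Perm (Fin n), N₂ = N₁.map (MulAut.conj g).toMonoidHom) := by
  classical
  obtain ⟨m, rfl⟩ : ∃ m, n = m + 3 := ⟨n - 3, by omega⟩
  have e3 : m + 3 - 3 = m := Nat.add_sub_cancel m 3
  revert P
  rw [e3]
  intro P
  obtain ⟨i, rfl⟩ : ∃ i, m = 4 * i := ⟨m / 4, by omega⟩
  have hP : Nat.card ↥(P : Subgroup (Equiv.Perm (Fin (4 * i)))) = F (4 * i) := by
    rw [card_perm_sylow, Nat.card_fin, F_eq _ (by omega)]
  have hF : F (4 * i + 3) = 3 * F (4 * i) := by
    rw [F_four_mul i (by norm_num), show 4 * i = 4 * i + 0 from rfl, F_four_mul i (by norm_num)]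
    simp
  rw [hP, ← hF]
  refine ⟨fun N hN => bound _ N (Nat.card_fin _) hN, ?_, ?_⟩
  · let R := (P : Subgroup (Equiv.Perm (Fin (4 * i)))).map (tail (4 * i)).permCongrHom.toMonoidHom
    let eR : ↥(P : Subgroup (Equiv.Perm (Fin (4 * i)))) ≃* ↥R :=
      (P : Subgroup (Equiv.Perm (Fin (4 * i)))).equivMapOfInjective _ (tail (4 * i)).permCongrHom.injective
    have hRn : Group.IsNilpotent ↥R := by
      haveI : Fact (Nat.Prime 2) := ⟨Nat.prime_two⟩
      haveI := P.isPGroup'.isNilpotent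
      exact Group.nilpotent_of_mulEquiv eR
    obtain ⟨e⟩ := std_equiv (fun x : Fin (4 * i + 3) => (x : ℕ) < 3) R (card_head _)
    refine ⟨std (fun x : Fin (4 * i + 3) => (x : ℕ) < 3) R, std_nilpotent _ R (card_head _) hRn, ?_,
      ⟨e.trans (MulEquiv.prodCongr eR.symm (MulEquiv.refl _))⟩⟩
    rw [card_std _ R (card_head _), ← Nat.card_congr eR.toEquiv, hP, hF]
  · intro N₁ N₂ h₁ h₂ c₁ c₂
    have hs : ∀ N : Subgroup (Equiv.Perm (Fin (4 * i + 3))), Group.IsNilpotent ↥N → Nat.card ↥N = F (4 * i + 3) →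
        ∃ (p : Fin (4 * i + 3) → Prop) (R : Subgroup (Equiv.Perm {x // ¬ p x})),
          Nat.card {x // p x} = 3 ∧ Nat.card ↥R = 2 ^ V (Nat.card {x // ¬ p x}) ∧ N = std p R := by
      intro N hN hc
      haveI := hN
      obtain ⟨p, hp, h3, hR⟩ := sym_eq (n := 4 * i + 3) (by omega) N (Nat.card_fin _) hc
      set r := res N (fun x => ¬ p x) (not_inv hp)
      have hb : Nat.card {x // ¬ p x} = 4 * i := by
        have h := card_compl p
        rw [h3, Nat.card_fin] at h
        omega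
      have hle := bound _ r.range rfl (Group.nilpotent_of_surjective r.rangeRestrict r.rangeRestrict_surjective)
      rw [hb] at hle
      obtain ⟨e1, e2⟩ := eq_std hp h3 hR (N := F (4 * i)) (by rw [hc, hF]) (F_pos _) hle
      exact ⟨p, r.range, h3, by rw [e2, hb, F_eq _ (by omega)], e1⟩
    obtain ⟨p, R, hp, hR, rfl⟩ := hs N₁ h₁ c₁
    obtain ⟨q, R', hq, hR', rfl⟩ := hs N₂ h₂ c₂
    have hpq : Nat.card {x // ¬ p x} = Nat.card {x // ¬ q x} := by
      have h1 := card_compl p
      have h2 := card_compl q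
      omega
    obtain ⟨e₂⟩ := Finite.card_eq.1 hpq
    obtain ⟨c, hc⟩ := sym_sylow_conj (R.map e₂.permCongrHom.toMonoidHom) R'
      (by rw [Subgroup.card_map_of_injective e₂.permCongrHom.injective, hR, hpq]) hR'
    obtain ⟨π, -, hπ⟩ := exists_conj p q R R' hp hq e₂ c hc 1
    exact ⟨π, hπ⟩

end Cfsg.Agent.S2254
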