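import Cfsg.Statements.S2255
import Cfsg.Agent.Lib.Solv.NilpotentPermSylow

set_option autoImplicit false
open Cfsg

namespace Cfsg.Agent.S2255

open Solv.NilPerm

/-- Let n be a natural number not congruent to 3 modulo 4, with n ∉ {5, 6, 9}. Then every nilpotent subgroup of the alternating group on n letters has order at most the order of a Sylow 2-subgroup of the alternating group (so the nilpotent subgroups of largest order are exactly the Sylow 2-subgroups). -/
theorem result  (n : ℕ) (hn : n % 4 ≠ 3)
    (h5 : n ≠ 5) (h6 : n ≠ 6) (h9 : n ≠ 9)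
    (N : Subgroup (alternatingGroup (Fin n))) (hN : Group.IsNilpotent N)
    (P : Sylow 2 (alternatingGroup (Fin n))) :
    Nat.card N ≤ Nat.card P := by
  classical
  set G := N.map (alternatingGroup (Fin n)).subtype with hG
  have hc : Nat.card ↥G = Nat.card ↥N := Solv.card_map_subtype N
  haveI := hN
  have hGn : Group.IsNilpotent ↥G := Group.nilpotent_of_mulEquiv
    (N.equivMapOfInjective _ (alternatingGroup (Fin n)).subtype_injective)
  have hb := (alt_bound n G (Nat.card_fin n) hGn
    (fun g ⟨k, _, e⟩ => e ▸ Equiv.Perm.mem_alternatingGroup.1 k.2)).1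
  rw [hc] at hb
  by_cases h2 : n ≤ 1
  · rw [H, if_pos (by omega)] at hb
    exact hb.trans (Nat.card_pos)
  · have h1 := two_mul_H (n := n) (by omega) (by omega) h5 h6 h9
    have h3 := card_alt_sylow (β := Fin n) (by rw [Nat.card_fin]; omega) P
    rw [Nat.card_fin, ← F_eq n hn, ← h1] at h3
    omega

end Cfsg.Agent.S2255
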