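import Cfsg.Statements.S2256
import Cfsg.Agent.Lib.Solv.NilpotentPermSylow

set_option autoImplicit false
open Cfsg

namespace Cfsg.Agent.S2256

open Solv.NilPerm

/-- Let n ≡ 3 (mod 4) with n ≥ 7. Then every nilpotent subgroup of the alternating group on n letters has order at most 3 times the order of a Sylow 2-subgroup of the alternating group on n − 3 letters; the bound is attained by a nilpotent subgroup isomorphic to the direct product of such a Sylow 2-subgroup with a cyclic group of order 3; and any two nilpotent subgroups of the alternating group attaining the bound are conjugate in it. -/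
theorem result  (n : ℕ) (hn : n % 4 = 3) (h7 : 7 ≤ n)
    (P : Sylow 2 (alternatingGroup (Fin (n - 3)))) :
    (∀ N : Subgroup (alternatingGroup (Fin n)), Group.IsNilpotent N → Nat.card N ≤ 3 * Nat.card P) ∧
    (∃ M : Subgroup (alternatingGroup (Fin n)), Group.IsNilpotent M ∧ Nat.card M = 3 * Nat.card P ∧
      Nonempty (M ≃* (↥(P : Subgroup (alternatingGroup (Fin (n - 3)))) × Multiplicative (ZMod 3)))) ∧
    (∀ N₁ N₂ : Subgroup (alternatingGroup (Fin n)), Group.IsNilpotent N₁ → Group.IsNilpotent N₂ →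
      Nat.card N₁ = 3 * Nat.card P → Nat.card N₂ = 3 * Nat.card P →
      ∃ g : alternatingGroup (Fin n), N₂ = N₁.map (MulAut.conj g).toMonoidHom) := by
  classical
  obtain ⟨m, rfl⟩ : ∃ m, n = m + 3 := ⟨n - 3, by omega⟩
  have e3 : m + 3 - 3 = m := Nat.add_sub_cancel m 3
  revert P
  rw [e3]
  intro P
  obtain ⟨i, rfl⟩ : ∃ i, m = 4 * i := ⟨m / 4, by omega⟩
  have hP : 2 * Nat.card ↥(P : Subgroup ↥(alternatingGroup (Fin (4 * i)))) = F (4 * i) := by
    rw [card_alt_sylow (by rw [Nat.card_fin]; omega), Nat.card_fin, F_eq _ (by omega)]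
  have hF : F (4 * i + 3) = 3 * F (4 * i) := by
    rw [F_four_mul i (by norm_num), show 4 * i = 4 * i + 0 from rfl, F_four_mul i (by norm_num)]
    simp
  have hH : H (4 * i + 3) = 3 * Nat.card ↥(P : Subgroup ↥(alternatingGroup (Fin (4 * i)))) := by
    have := two_mul_H (n := 4 * i + 3) (by omega) (by omega) (by omega) (by omega) (by omega)
    omega
  rw [← hH]
  set A := alternatingGroup (Fin (4 * i + 3))
  have hmap : ∀ N : Subgroup ↥A, Group.IsNilpotent ↥N → Group.IsNilpotent ↥(N.map A.subtype) ∧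
      (∀ g ∈ N.map A.subtype, Equiv.Perm.sign g = 1) := fun N hN =>
    ⟨@Group.nilpotent_of_mulEquiv _ _ _ _ hN (N.equivMapOfInjective _ A.subtype_injective),
      fun g ⟨k, _, e⟩ => e ▸ Equiv.Perm.mem_alternatingGroup.1 k.2⟩
  refine ⟨fun N hN => ?_, ?_, ?_⟩
  · rw [← Solv.card_map_subtype N]
    exact (alt_bound _ _ (Nat.card_fin _) (hmap N hN).1 (hmap N hN).2).1
  · let f := (tail (4 * i)).permCongrHom.toMonoidHom.comp (alternatingGroup (Fin (4 * i))).subtype
    have hf : Function.Injective f :=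
      (tail (4 * i)).permCongrHom.injective.comp (alternatingGroup (Fin (4 * i))).subtype_injective
    let R := (P : Subgroup ↥(alternatingGroup (Fin (4 * i)))).map f
    let eR : ↥(P : Subgroup ↥(alternatingGroup (Fin (4 * i)))) ≃* ↥R :=
      (P : Subgroup ↥(alternatingGroup (Fin (4 * i)))).equivMapOfInjective f hf
    have hRn : Group.IsNilpotent ↥R := by
      haveI : Fact (Nat.Prime 2) := ⟨Nat.prime_two⟩
      haveI := P.isPGroup'.isNilpotent
      exact Group.nilpotent_of_mulEquiv eR
    have hRs : ∀ g ∈ R, Equiv.Perm.sign g = 1 := by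
      rintro _ ⟨k, _, rfl⟩
      show Equiv.Perm.sign ((tail (4 * i)).permCongr (k : Equiv.Perm (Fin (4 * i)))) = 1
      rw [Equiv.Perm.sign_permCongr]
      exact Equiv.Perm.mem_alternatingGroup.1 k.2
    set p := fun x : Fin (4 * i + 3) => (x : ℕ) < 3
    have hle : std p R ≤ A := fun g hg => Equiv.Perm.mem_alternatingGroup.2 (std_sign p R hRs g hg)
    obtain ⟨e⟩ := std_equiv p R (card_head _)
    have hn' := std_nilpotent p R (card_head _) hRn
    refine ⟨(std p R).subgroupOf A, @Group.nilpotent_of_mulEquiv _ _ _ _ hn' (Subgroup.subgroupOfEquivOfLe hle).symm,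
      ?_, ⟨(Subgroup.subgroupOfEquivOfLe hle).trans (e.trans (MulEquiv.prodCongr eR.symm (MulEquiv.refl _)))⟩⟩
    rw [Solv.card_subgroupOf hle, card_std p R (card_head _), ← Nat.card_congr eR.toEquiv, hH]
  · intro N₁ N₂ h₁ h₂ c₁ c₂
    have hs : ∀ N : Subgroup ↥A, Group.IsNilpotent ↥N → Nat.card ↥N = H (4 * i + 3) →
        ∃ (p : Fin (4 * i + 3) → Prop) (R : Subgroup (Equiv.Perm {x // ¬ p x})),
          Nat.card {x // p x} = 3 ∧ 2 * Nat.card ↥R = 2 ^ V (Nat.card {x // ¬ p x}) ∧
            (∀ g ∈ R, Equiv.Perm.sign g = 1) ∧ N.map A.subtype = std p R := by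
      intro N hN hc
      obtain ⟨hn', hs'⟩ := hmap N hN
      obtain ⟨p, hp, h3, hR, heven⟩ := (alt_bound (4 * i + 3) (N.map A.subtype) (Nat.card_fin _) hn' hs').2 (by omega)
        (by omega) (by rw [Solv.card_map_subtype, hc])
      set r := res (N.map A.subtype) (fun x => ¬ p x) (not_inv hp)
      haveI := hn'
      have hb : Nat.card {x // ¬ p x} = 4 * i := by
        have h := card_compl p
        rw [h3, Nat.card_fin] at h
        omega
      have hrs : ∀ g ∈ r.range, Equiv.Perm.sign g = 1 := by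
        rintro _ ⟨g, rfl⟩
        have h := sign_res hp g
        rw [hs' g g.2] at h
        have h1 := heven g
        rw [h1, one_mul] at h
        exact h.symm
      have hle := (alt_bound _ r.range rfl (Group.nilpotent_of_surjective r.rangeRestrict r.rangeRestrict_surjective) hrs).1
      rw [hb] at hle
      have hHb := two_mul_H (n := 4 * i) (by omega) (by omega) (by omega) (by omega) (by omega)
      obtain ⟨e1, e2⟩ := eq_std hp h3 hR (N := H (4 * i)) (by rw [Solv.card_map_subtype, hc, hH]; omega)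
        (by have := F_pos (4 * i); omega) hle
      exact ⟨p, r.range, h3, by rw [e2, hb, hHb, F_eq _ (by omega)], hrs, e1⟩
    obtain ⟨p, R, hp, hR, hRs, e1⟩ := hs N₁ h₁ c₁
    obtain ⟨q, R', hq, hR', hRs', e2⟩ := hs N₂ h₂ c₂
    have hpq : Nat.card {x // ¬ p x} = Nat.card {x // ¬ q x} := by
      have h1 := card_compl p
      have h2 := card_compl q
      omega
    obtain ⟨e₂⟩ := Finite.card_eq.1 hpq
    obtain ⟨c, hc⟩ := alt_sylow_conj (by have := card_compl q; rw [Nat.card_fin] at this; omega)
      (R.map e₂.permCongrHom.toMonoidHom) R'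
      (by rintro _ ⟨g, hg, rfl⟩; show Equiv.Perm.sign (e₂.permCongr g) = 1; rw [Equiv.Perm.sign_permCongr]; exact hRs g hg)
      hRs' (by rw [Subgroup.card_map_of_injective e₂.permCongrHom.injective, hR, hpq]) hR'
    obtain ⟨π, hπs, hπ⟩ := exists_conj p q R R' hp hq e₂ c hc 1
    refine ⟨⟨π, Equiv.Perm.mem_alternatingGroup.2 hπs⟩, Subgroup.map_injective A.subtype_injective ?_⟩
    rw [e2, hπ, ← e1, Subgroup.map_map, Subgroup.map_map]
    congr 1

end Cfsg.Agent.S2256
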