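import Cfsg.Statements.S2257
import Cfsg.Agent.Lib.Small.SL2.SolvablePairsCount

set_option autoImplicit false
open Cfsg

namespace Cfsg.Agent.S2257

theorem result (p : ℕ) (hp : p.Prime) {F : Type*} [Field F] [Fintype F]
    (hF : Fintype.card F = 2 ^ p) (x : Matrix.ProjectiveSpecialLinearGroup (Fin 2) F) :
    (orderOf x = 2 → Nat.card {y : Matrix.ProjectiveSpecialLinearGroup (Fin 2) F // Group.IsSolvable ↥(Subgroup.closure ({x, y} : Set (Matrix.ProjectiveSpecialLinearGroup (Fin 2) F)))} = 3 * 2 ^ p * (2 ^ p - 1)) ∧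
    (x ≠ 1 → orderOf x ∣ 2 ^ p - 1 → Nat.card {y : Matrix.ProjectiveSpecialLinearGroup (Fin 2) F // Group.IsSolvable ↥(Subgroup.closure ({x, y} : Set (Matrix.ProjectiveSpecialLinearGroup (Fin 2) F)))} = 2 * 2 ^ p * (2 ^ p - 1)) ∧
    (x ≠ 1 → orderOf x ∣ 2 ^ p + 1 → Nat.card {y : Matrix.ProjectiveSpecialLinearGroup (Fin 2) F // Group.IsSolvable ↥(Subgroup.closure ({x, y} : Set (Matrix.ProjectiveSpecialLinearGroup (Fin 2) F)))} = 2 * (2 ^ p + 1)) := by
  open Cfsg.Agent.Small Cfsg.Agent.Small.SL2C Cfsg.Agent.Small.SolvPairs Cfsg.Agent.Lie.OddGraphPSL2 in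
  classical
  have h2 : (2 : F) = 0 := (two_dvd_iff (F := F)).1 (hF ▸ dvd_pow_self 2 hp.ne_zero)
  obtain ⟨X, rfl⟩ := PSL2.pr_surjective x
  rw [count_pr h2 X, ← hF]
  have hne : PSL2.pr X ≠ 1 → X ≠ 1 := fun h e => h (by rw [e, map_one])
  have hq : 2 ∣ Fintype.card F := hF ▸ dvd_pow_self 2 hp.ne_zero
  have hq2 := Fintype.one_lt_card (α := F)
  refine ⟨fun ho => ?_, fun hx ho => ?_, fun hx ho => ?_⟩
  · obtain ⟨ht, hs⟩ := (even_involution_iff h2 X).1 ho
    rw [← count_invol (F := F) h2]
    refine count_conj (isConj_of_trace hs (not_isSc_of_01 (by simp [mkSL])) ?_ (Or.inl h2))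
    rw [ht]
    simp only [mkSL_val, Matrix.trace_fin_two_of]
    linear_combination -h2
  all_goals
    have hs := not_sc_of_ne_one h2 (hne hx)
    have ht : X.1.trace ≠ 0 := fun ht => by
      rw [(even_involution_iff h2 X).2 ⟨ht, hs⟩] at ho
      omega
    have h4 : X.1.trace * X.1.trace ≠ 4 := fun h => ht (mul_self_eq_zero.1 (by linear_combination h + 2 * h2))
    have hdvd := orderOf_dvd_of_pow_eq_one (pr_pow_sol h4)
    rw [center_card_even h2, Nat.div_one] at hdvd
    have hone : orderOf (PSL2.pr X) ≠ 1 := fun h => hx (orderOf_eq_one_iff.1 h)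
    have hgcd : orderOf (PSL2.pr X) ∣ Fintype.card F - 1 → orderOf (PSL2.pr X) ∣ Fintype.card F + 1 → False :=
      fun d1 d2 => by
        have d3 := Nat.dvd_sub d2 d1
        rw [show Fintype.card F + 1 - (Fintype.card F - 1) = 2 by omega] at d3
        rcases (Nat.dvd_prime Nat.prime_two).1 d3 with h | h
        · exact hone h
        · rw [h] at d1; omega
  · rcases sol_add_roots (t := X.1.trace) (d := 1) (by rwa [mul_one]), roots_cases (t := X.1.trace) (d := 1) (by rwa [mul_one]) with ⟨hsum, hr | hr⟩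
    · rw [hr, add_zero] at hsum
      exact (hgcd ho (hsum ▸ hdvd)).elim
    · obtain ⟨v, c, hv, hvc⟩ := exists_eigen_of_roots (g := X) (by omega)
      have hc : c * c - X.1.trace * c + 1 = 0 := by
        have h1 := congrArg (fun Y : Matrix (Fin 2) (Fin 2) F => Y.mulVec v) (sq_eq X)
        simp only [← Matrix.mulVec_mulVec, hvc, Matrix.mulVec_smul, Matrix.sub_mulVec, Matrix.one_mulVec,
          Matrix.smul_mulVec, smul_smul] at h1
        have h2 : (c * c - X.1.trace * c + 1) • v = 0 := by linear_combination (norm := module) h1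
        exact (smul_eq_zero.mp h2).resolve_right hv
      have hc0 : c ≠ 0 := fun h => by rw [h] at hc; simp at hc
      rw [← count_split (F := F) h2 (Units.mk0 c hc0) (fun h => ht (by
        simp only [Units.val_mk0] at h
        refine (mul_eq_zero.1 (show c * X.1.trace = 0 by linear_combination h - hc + h2)).resolve_left hc0))]
      refine count_conj (isConj_of_trace hs (fun hsc => ?_) ?_ (Or.inl h2))
      · obtain ⟨-, -, h3⟩ := (isSc_iff _).1 hsc
        simp [mkSL] at h3
        refine (mul_eq_zero.1 (show c * X.1.trace = 0 from ?_)).elim hc0 ht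
        have h5 : c * c = 1 := by nth_rewrite 2 [h3]; exact mul_inv_cancel₀ hc0
        linear_combination h5 - hc + h2
      · simp only [mkSL_val, Matrix.trace_fin_two_of, Units.val_inv_eq_inv_val, Units.val_mk0]
        field_simp
        linear_combination -hc
  · rcases sol_add_roots (t := X.1.trace) (d := 1) (by rwa [mul_one]), roots_cases (t := X.1.trace) (d := 1) (by rwa [mul_one]) with ⟨hsum, hr | hr⟩
    · exact count_nonsplit h2 (hne hx) ht hr
    · rw [hr] at hsum
      exact (hgcd (by rw [show Fintype.card F - 1 = sol X.1.trace 1 by omega]; exact hdvd) ho).elim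

end Cfsg.Agent.S2257
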