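import Cfsg.Statements.S2258
import Cfsg.Agent.Lib.Small.SL2.SolvablePairsThreeCount

set_option autoImplicit false
open Cfsg

namespace Cfsg.Agent.S2258

theorem result (p : ℕ) (hp : p.Prime) (hodd : Odd p) {F : Type*} [Field F] [Fintype F]
    (hF : Fintype.card F = 3 ^ p) (x : Matrix.ProjectiveSpecialLinearGroup (Fin 2) F) :
    (orderOf x = 2 → Nat.card {y : Matrix.ProjectiveSpecialLinearGroup (Fin 2) F // Group.IsSolvable ↥(Subgroup.closure ({x, y} : Set (Matrix.ProjectiveSpecialLinearGroup (Fin 2) F)))} = 3 ^ p * (3 ^ p + 1)) ∧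
    (orderOf x = 3 → 2 * Nat.card {y : Matrix.ProjectiveSpecialLinearGroup (Fin 2) F // Group.IsSolvable ↥(Subgroup.closure ({x, y} : Set (Matrix.ProjectiveSpecialLinearGroup (Fin 2) F)))} = 3 ^ p * (3 ^ p + 5)) ∧
    (x ≠ 1 → orderOf x ≠ 2 → orderOf x ∣ 3 ^ p - 1 → Nat.card {y : Matrix.ProjectiveSpecialLinearGroup (Fin 2) F // Group.IsSolvable ↥(Subgroup.closure ({x, y} : Set (Matrix.ProjectiveSpecialLinearGroup (Fin 2) F)))} = 3 ^ p * (3 ^ p - 1)) ∧
    (x ≠ 1 → orderOf x ≠ 2 → orderOf x ∣ 3 ^ p + 1 → Nat.card {y : Matrix.ProjectiveSpecialLinearGroup (Fin 2) F // Group.IsSolvable ↥(Subgroup.closure ({x, y} : Set (Matrix.ProjectiveSpecialLinearGroup (Fin 2) F)))} = 3 ^ p + 1) := by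
  open Cfsg.Agent.Small Cfsg.Agent.Small.SL2C Cfsg.Agent.Small.SolvPairs Cfsg.Agent.Small.SolvPairsThree in
  classical
  have h3 : (3 : F) = 0 := by
    have h := Nat.cast_card_eq_zero F
    rw [hF, Nat.cast_pow] at h
    exact_mod_cast eq_zero_of_pow_eq_zero h
  have h2 : (2 : F) ≠ 0 := fun h => one_ne_zero (α := F) (by linear_combination h3 - h)
  have hmod : Fintype.card F % 4 = 3 := by
    obtain ⟨k, rfl⟩ := hodd
    rw [hF, pow_succ, pow_mul, Nat.mul_mod, Nat.pow_mod]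
    norm_num
  have hFld : Fld F := ⟨h3, h2, fun z hz => by
    have : IsSquare (-1 : F) := ⟨z, hz.symm⟩
    rw [FiniteField.isSquare_neg_one_iff] at this
    exact this hmod⟩
  have h4 : (4 : F) = 1 := four_eq_one hFld
  obtain ⟨X, rfl⟩ := PSL2.pr_surjective x
  have hq3 : 3 ∣ Fintype.card F := hF ▸ dvd_pow_self 3 hp.ne_zero
  have hq2 := Fintype.one_lt_card (α := F)
  have key := count_pr3 h2 X
  have hne : PSL2.pr X ≠ 1 → ¬ IsSc X.1 := fun h e => h (pr_eq_one_iff.2 e)
  haveI : Fact (Nat.Prime 2) := ⟨Nat.prime_two⟩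
  haveI : Fact (Nat.Prime 3) := ⟨Nat.prime_three⟩
  have ho2 : PSL2.pr X ≠ 1 → X.1.trace = 0 → orderOf (PSL2.pr X) = 2 := fun h ht =>
    orderOf_eq_prime (by rw [pow_two]; exact pr_sq ht) h
  have ho3 : PSL2.pr X ≠ 1 → X.1.trace * X.1.trace = 1 → orderOf (PSL2.pr X) = 3 := fun h ht =>
    orderOf_eq_prime (by rw [pow_succ, pow_two]; exact pr_cube ht) h
  have hsemi : PSL2.pr X ≠ 1 → orderOf (PSL2.pr X) ≠ 2 → orderOf (PSL2.pr X) ≠ 3 →
      X.1.trace ≠ 0 ∧ X.1.trace * X.1.trace ≠ 4 ∧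
        orderOf (PSL2.pr X) ∣ sol X.1.trace 1 / 2 ∧ 2 ∣ sol X.1.trace 1 := by
    intro h e2 e3
    have ht4 : X.1.trace * X.1.trace ≠ 4 := fun e => e3 (ho3 h (e.trans h4))
    refine ⟨fun e => e2 (ho2 h e), ht4, ?_, ?_⟩
    · have := orderOf_dvd_of_pow_eq_one (pr_pow_sol ht4)
      rwa [center_card_odd h2] at this
    · have := center_dvd_sol (hne h)
      rwa [center_card_odd h2] at this
  have hgcd : PSL2.pr X ≠ 1 → orderOf (PSL2.pr X) ≠ 2 → orderOf (PSL2.pr X) ∣ Fintype.card F - 1 →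
      orderOf (PSL2.pr X) ∣ Fintype.card F + 1 → False := fun h e2 d1 d2 => by
    have d3 := Nat.dvd_sub d2 d1
    rw [show Fintype.card F + 1 - (Fintype.card F - 1) = 2 by omega] at d3
    rcases (Nat.dvd_prime Nat.prime_two).1 d3 with e | e
    · exact h (orderOf_eq_one_iff.1 e)
    · exact e2 e
  rw [← hF]
  refine ⟨fun ho => ?_, fun ho => ?_, fun hx e2 ho => ?_, fun hx e2 ho => ?_⟩
  · have hx : PSL2.pr X ≠ 1 := fun e => by rw [e, orderOf_one] at ho; omega
    have ht : X.1.trace = 0 := by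
      by_contra ht
      refine hne hx ?_
      have hsq := pow_orderOf_eq_one (PSL2.pr X)
      rw [ho, pow_two, ← map_mul, pr_eq_one_iff] at hsq
      obtain ⟨c, hc⟩ := hsq
      rw [val_mul', sq_eq] at hc
      refine ⟨(c + 1) / X.1.trace, ?_⟩
      apply smul_right_injective (Matrix (Fin 2) (Fin 2) F) ht
      show X.1.trace • X.1 = X.1.trace • ((c + 1) / X.1.trace) • (1 : Matrix (Fin 2) (Fin 2) F)
      rw [smul_smul, mul_div_cancel₀ _ ht, add_smul, one_smul, ← hc, sub_add_cancel]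
    have hc := count_invol3 (F := F) hFld
    have hJ : IsConj (PSL2.pr X) (PSL2.pr (mkSL !![(0 : F), -1; 1, 0] (by rw [Matrix.det_fin_two_of]; ring))) := by
      refine MonoidHom.map_isConj _ (isConj_of_trace (hne hx) (not_isSc_of_01 (by simp [mkSL])) ?_ (Or.inr ?_))
      · rw [ht, mkSL_val, Matrix.trace_fin_two_of, add_zero]
      · rw [ht, mul_zero, h4]; exact zero_ne_one
    show Nat.card {y // SPair (PSL2.pr X) y} = _
    rw [count_conjP hJ]
    rw [← count_pr3 h2] at hc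
    obtain ⟨q, hq⟩ : ∃ q, Fintype.card F = q + 1 := ⟨Fintype.card F - 1, (Nat.sub_add_cancel Fintype.card_pos).symm⟩
    rw [hq] at hc ⊢
    simp only [Nat.add_sub_cancel] at hc
    nlinarith
  · have hx : PSL2.pr X ≠ 1 := fun e => by rw [e, orderOf_one] at ho; omega
    have ht : X.1.trace * X.1.trace = 4 := by
      by_contra ht
      by_cases h0 : X.1.trace = 0
      · have := ho2 hx h0; omega
      have hd := orderOf_dvd_of_pow_eq_one (pr_pow_sol ht)
      have hd2 := center_dvd_sol (hne hx)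
      rw [center_card_odd h2] at hd hd2
      rw [ho] at hd
      rcases sol_eq ht with ⟨-, hs⟩ | ⟨-, hs⟩ <;> rw [hs] at hd hd2 <;>
        (obtain ⟨m, hm⟩ := hd2; rw [hm, Nat.mul_div_cancel_left _ two_pos] at hd; omega)
    obtain ⟨b, hb, hc⟩ := exists_pr_uS (hne hx) ht
    show 2 * Nat.card {y // SPair (PSL2.pr X) y} = _
    rw [count_conjP hc, count_pr3 h2, count_order3 hFld hb]
    obtain ⟨q, hq⟩ : ∃ q, Fintype.card F = q + 1 := ⟨Fintype.card F - 1, (Nat.sub_add_cancel Fintype.card_pos).symm⟩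
    rw [hq]
    simp only [Nat.add_sub_cancel]
    ring
  all_goals
    have e3 : orderOf (PSL2.pr X) ≠ 3 := fun e => by rw [e] at ho; omega
    obtain ⟨ht, ht4, hdvd, hev⟩ := hsemi hx e2 e3
    have hdvd' : orderOf (PSL2.pr X) ∣ sol X.1.trace 1 := hdvd.trans (Nat.div_dvd_of_dvd hev)
    show Nat.card {y // SPair (PSL2.pr X) y} = _
  · rcases sol_eq ht4 with ⟨hr, hs⟩ | ⟨-, hs⟩
    swap
    · exact (hgcd hx e2 ho (hs ▸ hdvd')).elim
    obtain ⟨v, c, hv, hvc⟩ := exists_eigen_of_roots (g := X) (by omega)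
    have hc : c * c - X.1.trace * c + 1 = 0 := by
      have h1 := congrArg (fun Y : Matrix (Fin 2) (Fin 2) F => Y.mulVec v) (sq_eq X)
      simp only [← Matrix.mulVec_mulVec, hvc, Matrix.mulVec_smul, Matrix.sub_mulVec, Matrix.one_mulVec,
        Matrix.smul_mulVec, smul_smul] at h1
      have h2 : (c * c - X.1.trace * c + 1) • v = 0 := by linear_combination (norm := module) h1
      exact (smul_eq_zero.mp h2).resolve_right hv
    have hc0 : c ≠ 0 := fun h => by rw [h] at hc; simp at hc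
    have hcc : c * c ≠ 1 := fun h => by
      have e : X.1.trace * c = 2 := by linear_combination h - hc
      exact ht4 (by linear_combination (X.1.trace * c + 2) * e - X.1.trace * X.1.trace * h)
    have hu : (Units.mk0 c hc0 : F) * Units.mk0 c hc0 ≠ 1 := hcc
    have h := count_split3 hFld (Units.mk0 c hc0) hu
    rw [← count_pr3 h2] at h
    refine (count_conjP (MonoidHom.map_isConj _ (isConj_of_trace (hne hx) (fun hsc => ?_) ?_ (Or.inr ht4)))).trans
      (Nat.eq_of_mul_eq_mul_left two_pos (h.trans (mul_assoc _ _ _)))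
    · obtain ⟨-, -, h5⟩ := (isSc_iff _).1 hsc
      simp [mkSL] at h5
      refine hcc ?_
      nth_rewrite 2 [h5]
      exact mul_inv_cancel₀ hc0
    · simp only [mkSL_val, Matrix.trace_fin_two_of, Units.val_inv_eq_inv_val, Units.val_mk0]
      field_simp
      linear_combination -hc
  · rcases sol_eq ht4 with ⟨-, hs⟩ | ⟨hr, -⟩
    · exact (hgcd hx e2 (hs ▸ hdvd') ho).elim
    refine Nat.eq_of_mul_eq_mul_left two_pos ?_
    rw [count_pr3 h2]
    exact count_nonsplit3 hFld ht4 ht hr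

end Cfsg.Agent.S2258
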