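import Cfsg.Statements.S2263
import Cfsg.Agent.Lib.Small.UnitaryMaxOrder.Upper
import Cfsg.Agent.Lib.Small.UnitaryMaxOrder.Exist

set_option autoImplicit false
open Cfsg

namespace Cfsg.Agent.S2263

/-- Let q = p^f with p prime and f ≥ 1, F a field with q² elements, d ≥ 3 with (d, q) ≠ (3, 2), and PGU_d(q) the general unitary group of the standard Hermitian form modulo its centre. Then the largest order of an element of PGU_d(q) is: q^(d−1) − 1 if d is odd and f ≥ 2; (p^(d−2) + 1)p if d is odd and f = 1; q^(d−1) + 1 if d is even and q > 2; 4(2^(d−3) + 1) if d is even and q = 2. -/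
theorem result {F : Type*} [Field F] [Fintype F] (p f d : ℕ) (hp : p.Prime) (hf : 1 ≤ f) (q : ℕ) (hq : q = p ^ f)
    (hF : Fintype.card F = q ^ 2) (hd : 3 ≤ d) (h32 : ¬ (d = 3 ∧ q = 2)) :
    (Odd d → 2 ≤ f → (∀ g : (↥(Cfsg.GU d F q) ⧸ Subgroup.center ↥(Cfsg.GU d F q)), orderOf g ≤ q ^ (d - 1) - 1) ∧ ∃ g : (↥(Cfsg.GU d F q) ⧸ Subgroup.center ↥(Cfsg.GU d F q)), orderOf g = q ^ (d - 1) - 1) ∧
    (Odd d → f = 1 → (∀ g : (↥(Cfsg.GU d F q) ⧸ Subgroup.center ↥(Cfsg.GU d F q)), orderOf g ≤ (p ^ (d - 2) + 1) * p) ∧ ∃ g : (↥(Cfsg.GU d F q) ⧸ Subgroup.center ↥(Cfsg.GU d F q)), orderOf g = (p ^ (d - 2) + 1) * p) ∧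
    (Even d → 2 < q → (∀ g : (↥(Cfsg.GU d F q) ⧸ Subgroup.center ↥(Cfsg.GU d F q)), orderOf g ≤ q ^ (d - 1) + 1) ∧ ∃ g : (↥(Cfsg.GU d F q) ⧸ Subgroup.center ↥(Cfsg.GU d F q)), orderOf g = q ^ (d - 1) + 1) ∧
    (Even d → q = 2 → (∀ g : (↥(Cfsg.GU d F q) ⧸ Subgroup.center ↥(Cfsg.GU d F q)), orderOf g ≤ 4 * (2 ^ (d - 3) + 1)) ∧ ∃ g : (↥(Cfsg.GU d F q) ⧸ Subgroup.center ↥(Cfsg.GU d F q)), orderOf g = 4 * (2 ^ (d - 3) + 1)) := by
  classical
  subst hq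
  haveI := Fact.mk hp
  haveI : CharP F p := by
    obtain ⟨⟨k, hk⟩, hp', hc⟩ := FiniteField.card F (ringChar F)
    have h1 : p ∣ ringChar F ^ k := hc ▸ hF ▸ dvd_pow (dvd_pow_self p (by omega)) two_ne_zero
    obtain rfl := (Nat.prime_dvd_prime_iff_eq hp hp').1 (hp.dvd_of_dvd_pow h1)
    exact ringChar.charP F
  obtain ⟨-, -, σ, -, -, -, -, hσ⟩ := Cfsg.Agent.Classical.exists_usigma hF
  letI : StarRing F := Cfsg.Agent.Small.Hermitian.starRingOfInvolution (σ : F →+* F) hσ.involutive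
  have hstar : ∀ x : F, star x = x ^ p ^ f := fun x => hσ.apply_eq x
  have hq2 : 2 ≤ p ^ f := le_trans hp.two_le (Nat.le_self_pow (by omega) p)
  have upper : ∀ T, Cfsg.Agent.Small.UMaxOrd.Target p (p ^ f) d T →
      ∀ g : (↥(Cfsg.GU d F (p ^ f)) ⧸ Subgroup.center ↥(Cfsg.GU d F (p ^ f))), orderOf g ≤ T := by
    intro T hT g
    obtain ⟨g, rfl⟩ := QuotientGroup.mk_surjective g
    obtain ⟨n, hn, hnT, hc⟩ := Cfsg.Agent.Small.UMaxOrd.exists_central_power hf rfl hF hd h32 hT g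
    refine le_trans (orderOf_le_of_pow_eq_one hn ?_) hnT
    rwa [← QuotientGroup.mk_pow, QuotientGroup.eq_one_iff]
  have one1 : ((1 : GL (Fin 1) F) : Matrix (Fin 1) (Fin 1) F).conjTranspose *
      ((1 : GL (Fin 1) F) : Matrix (Fin 1) (Fin 1) F) = 1 := by simp
  have cop : ∀ n : ℕ, 1 ≤ n → ∀ e, ((p ^ f) ^ n + 1).Coprime (p ^ e) := fun n hn e => by
    refine Nat.Coprime.pow_right e ?_
    obtain ⟨m, hm⟩ : p ∣ (p ^ f) ^ n := dvd_pow (dvd_pow_self p (by omega)) (by omega)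
    rw [hm]
    simp
  refine ⟨fun hod hf2 => ?_, fun hod hf1 => ?_, fun hev hq' => ?_, fun hev hq' => ?_⟩
  · have hpp : p * p ≤ p ^ f := by rw [← sq]; exact Nat.pow_le_pow_right hp.pos hf2
    have hne : p ^ f ≠ 2 := by have := Nat.mul_le_mul hp.two_le hp.two_le; omega
    refine ⟨upper _ ⟨le_rfl, fun h => absurd hod (Nat.not_odd_iff_even.2 h), fun _ => Or.inr hpp,
      fun _ h => absurd h hne, fun _ h => absurd h hne⟩, ?_⟩
    obtain ⟨j, hj⟩ := hod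
    obtain ⟨v, hv, hvo⟩ := Cfsg.Agent.Small.UMaxOrd.exists_torus_even_full hstar hF j (by omega)
    obtain ⟨g, hg⟩ := Cfsg.Agent.Small.UMaxOrd.exists_order (p := p) (d := d) (show j + j + 1 = d by omega) le_rfl
      hstar hF v hv hvo 1 one1 orderOf_one ⟨0, rfl⟩ (Nat.coprime_one_right _)
    exact ⟨g, by rw [hg, mul_one, show 2 * j = d - 1 by omega]⟩
  · subst hf1
    have e1 : (p ^ (d - 2) + 1) * p = p ^ (d - 1) + p := by
      rw [add_mul, one_mul, ← pow_succ, show d - 2 + 1 = d - 1 by omega]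
    refine ⟨upper _ ⟨by rw [e1, pow_one]; omega, fun h => absurd hod (Nat.not_odd_iff_even.2 h), fun _ => Or.inl le_rfl,
      fun h _ => absurd hod (Nat.not_odd_iff_even.2 h), fun _ h => ?_⟩, ?_⟩
    · rw [pow_one] at h
      subst h
      omega
    obtain ⟨j, hj⟩ := hod
    obtain ⟨v, hv, hvo⟩ := Cfsg.Agent.Small.UMaxOrd.exists_torus_odd_full hstar hF (d := d - 2) ⟨j - 1, by omega⟩
    obtain ⟨w, hw, hwo, -⟩ := Cfsg.Agent.Small.Hermitian.exists_unipotent hstar hF p 2 (by norm_num)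
    obtain ⟨g, hg⟩ := Cfsg.Agent.Small.UMaxOrd.exists_order (p := p) (d := d) (show d - 2 + 2 = d by omega) (by norm_num)
      hstar hF v hv hvo w hw hwo ⟨_, rfl⟩ (cop _ (by omega) _)
    refine ⟨g, ?_⟩
    rw [hg, Nat.clog_eq_one le_rfl hp.two_le, pow_one]
  · refine ⟨upper _ ⟨by omega, fun _ => le_rfl, fun h => absurd hev (Nat.not_even_iff_odd.2 h),
      fun _ h => by omega, fun h => absurd hev (Nat.not_even_iff_odd.2 h)⟩, ?_⟩
    obtain ⟨j, hj⟩ := hev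
    obtain ⟨v, hv, hvo⟩ := Cfsg.Agent.Small.UMaxOrd.exists_torus_odd_full hstar hF (d := d - 1) ⟨j - 1, by omega⟩
    obtain ⟨g, hg⟩ := Cfsg.Agent.Small.UMaxOrd.exists_order (p := p) (d := d) (show d - 1 + 1 = d by omega) le_rfl
      hstar hF v hv hvo 1 one1 orderOf_one ⟨0, rfl⟩ (Nat.coprime_one_right _)
    exact ⟨g, by rw [hg, mul_one]⟩
  · have hp2 : p = 2 := le_antisymm (hq' ▸ Nat.le_self_pow (by omega) p) hp.two_le
    have e1 : 4 * (2 ^ (d - 3) + 1) = 2 ^ (d - 1) + 4 := by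
      rw [mul_add, show (4 : ℕ) = 2 ^ 2 by norm_num, ← pow_add, show 2 + (d - 3) = d - 1 by omega]
      norm_num
    refine ⟨upper _ ⟨by rw [e1, hq']; omega, fun _ => by rw [e1, hq']; omega, fun h => absurd hev (Nat.not_even_iff_odd.2 h),
      fun _ _ => le_rfl, fun h => absurd hev (Nat.not_even_iff_odd.2 h)⟩, ?_⟩
    obtain ⟨j, hj⟩ := hev
    obtain ⟨v, hv, hvo⟩ := Cfsg.Agent.Small.UMaxOrd.exists_torus_odd_full hstar hF (d := d - 3) ⟨j - 2, by omega⟩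
    obtain ⟨w, hw, hwo, -⟩ := Cfsg.Agent.Small.Hermitian.exists_unipotent hstar hF p 3 (by norm_num)
    obtain ⟨g, hg⟩ := Cfsg.Agent.Small.UMaxOrd.exists_order (p := p) (d := d) (show d - 3 + 3 = d by omega) (by norm_num)
      hstar hF v hv hvo w hw hwo ⟨_, rfl⟩ (cop _ (by omega) _)
    refine ⟨g, ?_⟩
    rw [hg, hq', hp2, show Nat.clog 2 3 = 2 by decide]
    ring

end Cfsg.Agent.S2263
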