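import Cfsg.Statements.S2264
import Cfsg.Agent.Lib.Classical.QuotientOrderBound
import Cfsg.Agent.Lib.Classical.Elusive.SympSetup
-- import your own Cfsg.Agent.* helpers here

set_option autoImplicit false
open Cfsg

namespace Cfsg.Agent.S2264

/-- Let F be a finite field with q elements and m ≥ 2. Then every element g of PSp_2m(F) satisfies (q − 1)·|g| ≤ q^(m+1), i.e. has order at most q^(m+1)/(q − 1). -/
theorem result {F : Type*} [Field F] [Fintype F] (m : ℕ) (hm : 2 ≤ m) (g : Cfsg.PSp m F) :
    (Fintype.card F - 1) * orderOf g ≤ Fintype.card F ^ (m + 1) := by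
  classical
  let ρ : ↥(Matrix.symplecticGroup (Fin m) F) →* Module.End F (Fin m ⊕ Fin m → F) :=
    (Matrix.toLinAlgEquiv' (R := F) (n := Fin m ⊕ Fin m)).toMonoidHom.comp (Matrix.symplecticGroup (Fin m) F).subtype
  refine Classical.OrderBound.quotient_bound ρ ?_ (Classical.Elusive.sympB m F) (fun w hw => ?_)
    (fun x u v => Classical.Elusive.sympB_toLin x u v) (Or.inl ?_) g
  · exact (Matrix.toLinAlgEquiv' (R := F) (n := Fin m ⊕ Fin m)).injective.comp Subtype.val_injective
  · refine Classical.Elusive.sympB_nondeg w fun u => ?_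
    have h := Classical.Elusive.sympB_self (d := m) (F := F) (u + w)
    simp only [map_add, LinearMap.add_apply, Classical.Elusive.sympB_self, hw u] at h
    simpa using h
  · simp [two_mul]

end Cfsg.Agent.S2264
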