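import Cfsg.Statements.S2265
import Cfsg.Agent.Lib.Classical.QuotientOrderBound
import Cfsg.Agent.Lib.Classical.OrthForms
-- import your own Cfsg.Agent.* helpers here

set_option autoImplicit false
open Cfsg

namespace Cfsg.Agent.S2265

open Classical.OCount

/-- The bound for the group of a non-degenerate quadratic form. -/
theorem bound {ι : Type} [Fintype ι] [DecidableEq ι] {F : Type*} [Field F] [Fintype F] {Q : QuadraticForm F (ι → F)}
    (hQ : PND Q) {m : ℕ} (hdim : Fintype.card ι ≤ 2 * m ∨ (3 ≤ m ∧ (2 : F) ≠ 0 ∧ Fintype.card ι ≤ 2 * m + 1))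
    (g : Cfsg.POmega F (⇑Q)) : (Fintype.card F - 1) * orderOf g ≤ Fintype.card F ^ (m + 1) := by
  let ρ : ↥(Cfsg.Omega F (⇑Q)) →* Module.End F (ι → F) :=
    (Matrix.toLinAlgEquiv' (R := F) (n := ι)).toMonoidHom.comp
      (((Units.coeHom (Matrix ι ι F)).comp (Cfsg.isometryGroup F (⇑Q)).subtype).comp (Cfsg.Omega F (⇑Q)).subtype)
  refine Classical.OrderBound.quotient_bound ρ ?_ Q.polarBilin (fun w hw => hQ w fun u => ?_)
    (fun x u v => ?_) (by rwa [Module.finrank_pi]) g
  · exact (Matrix.toLinAlgEquiv' (R := F) (n := ι)).injective.comp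
      (Units.val_injective.comp (Subtype.val_injective.comp Subtype.val_injective))
  · rw [QuadraticMap.polar_comm]
    exact hw u
  · have h : ∀ z, Q (ρ x z) = Q z := fun z => x.1.2 z z
    change QuadraticMap.polar (⇑Q) (ρ x u) (ρ x v) = QuadraticMap.polar (⇑Q) u v
    simp only [QuadraticMap.polar, ← map_add, h]

/-- Let F be a finite field with q elements. Every element g of PΩ_(2m+1)(F) (m ≥ 3, q odd), of PΩ⁺_2m(F) (m ≥ 4), or of PΩ⁻_2m(F) (m ≥ 4, the form having an anisotropic binary part) satisfies (q − 1)·|g| ≤ q^(m+1), i.e. has order at most q^(m+1)/(q − 1). -/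
theorem result {F : Type*} [Field F] [Fintype F] (m : ℕ) :
    (3 ≤ m → Odd (Fintype.card F) → ∀ g : Cfsg.POmega F (Cfsg.quadFormOdd m F),
      (Fintype.card F - 1) * orderOf g ≤ Fintype.card F ^ (m + 1)) ∧
    (4 ≤ m → ∀ g : Cfsg.POmega F (Cfsg.quadFormPlus m F),
      (Fintype.card F - 1) * orderOf g ≤ Fintype.card F ^ (m + 1)) ∧
    (4 ≤ m → ∀ a b : F, (∀ z₁ z₂ : F, z₁ ^ 2 + a * z₁ * z₂ + b * z₂ ^ 2 = 0 → z₁ = 0 ∧ z₂ = 0) →
      ∀ g : Cfsg.POmega F (Cfsg.quadFormMinus (m - 1) F a b),
      (Fintype.card F - 1) * orderOf g ≤ Fintype.card F ^ (m + 1)) := by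
  classical
  refine ⟨fun hm hodd g => ?_, fun hm g => ?_, fun hm a b hab g => ?_⟩
  · have h2 : (2 : F) ≠ 0 := fun h => by
      have : ringChar F = 2 := by
        have h' : ringChar F ∣ 2 := ringChar.dvd (by exact_mod_cast h)
        exact (Nat.prime_two.eq_one_or_self_of_dvd _ h').resolve_left (CharP.ringChar_ne_one)
      have := FiniteField.even_card_iff_char_two.mp this
      rcases hodd with ⟨r, hr⟩
      omega
    revert g
    rw [← Classical.OOmega.coe_odd]
    intro g
    exact bound (Classical.OOmega.formOf_pnd (Classical.OOmega.pnd_line h2))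
      (Or.inr ⟨hm, h2, by simp; omega⟩) g
  · revert g
    rw [← Classical.OOmega.coe_plus]
    intro g
    exact bound (Classical.OOmega.formOf_pnd Classical.OOmega.pnd_empty) (Or.inl (by simp; omega)) g
  · revert g
    rw [← Classical.OOmega.coe_minus]
    intro g
    exact bound (Classical.OOmega.formOf_pnd (Classical.OOmega.pnd_plane hab)) (Or.inl (by simp; omega)) g

end Cfsg.Agent.S2265
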