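import Cfsg.Statements.S2269
import Mathlib
-- import your own Cfsg.Agent.* helpers here

set_option autoImplicit false
open Cfsg

namespace Cfsg.Agent.S2269

open Equiv Equiv.Perm
open scoped Pointwise

/-- The automizer of a subgroup has even index when some element of the normaliser inverts a
non-involution of the subgroup. -/
theorem even_index {G : Type*} [Group G] {P : Subgroup G} {x m : G} (hx : x ∈ P)
    (hm : m ∈ Subgroup.normalizer (P : Set G)) (hinv : m * x * m⁻¹ = x⁻¹) (hne : x⁻¹ ≠ x) :
    2 ∣ ((Subgroup.centralizer (P : Set G)).subgroupOf (Subgroup.normalizer (P : Set G))).index := by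
  by_contra hodd
  set K := (Subgroup.centralizer (P : Set G)).subgroupOf (Subgroup.normalizer (P : Set G)) with hK
  have hn : K.Normal := by
    rw [hK, ← Subgroup.normalizerMonoidHom_ker]
    infer_instance
  have hpow : ∀ k : ℕ, m ^ k * x * (m ^ k)⁻¹ = x ^ ((-1 : ℤ) ^ k) := by
    intro k
    induction k with
    | zero => simp
    | succ k ih =>
      rw [pow_succ' m k, mul_inv_rev, show m * m ^ k * x * ((m ^ k)⁻¹ * m⁻¹) = m * (m ^ k * x * (m ^ k)⁻¹) * m⁻¹ by group, ih,
        ← conj_zpow, hinv, inv_zpow', pow_succ]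
      congr 1
      ring
  have hmem := K.pow_index_mem (⟨m, hm⟩ : Subgroup.normalizer (P : Set G))
  rw [hK, Subgroup.mem_subgroupOf, Subgroup.mem_centralizer_iff] at hmem
  have h1 := hmem x hx
  simp only [SubmonoidClass.coe_pow] at h1
  rw [← hK] at h1
  have h2 := hpow K.index
  rw [← h1, mul_inv_cancel_right, (Nat.odd_iff.mpr (by omega) : Odd K.index).neg_one_pow] at h2
  exact hne (by simpa using h2.symm)

/-- A `p`-cycle is conjugate to its inverse by an even permutation once two points are fixed. -/
theorem exists_even_inverting (n p : ℕ) [Fact p.Prime] (hp : p ≠ 2) (hn : p + 2 ≤ n) :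
    ∃ x g : alternatingGroup (Fin n), orderOf x = p ∧ g * x * g⁻¹ = x⁻¹ := by
  have hp2 : 2 ≤ p := (Fact.out : p.Prime).two_le
  set l : List (Fin n) := (List.finRange n).take p with hl
  have hnd : l.Nodup := (List.nodup_finRange n).take
  have hlen : l.length = p := by simp [hl]; omega
  have hne1 : ∀ x : Fin n, l ≠ [x] := fun x h => by rw [h] at hlen; simp at hlen; omega
  set c : Perm (Fin n) := l.formPerm with hc
  have hcyc : c.IsCycle := List.isCycle_formPerm hnd (by omega)
  have hsup : c.support = l.toFinset := List.support_formPerm_of_nodup l hnd hne1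
  have hcard : c.support.card = p := by rw [hsup, List.toFinset_card_of_nodup hnd, hlen]
  have hord : orderOf c = p := by rw [hcyc.orderOf, hcard]
  have hsign : sign c = 1 := by
    rw [hcyc.sign, hcard, ((Fact.out : p.Prime).odd_of_ne_two hp).neg_one_pow]
    simp
  obtain ⟨a, ha, b, hb, hab⟩ : ∃ a ∈ c.supportᶜ, ∃ b ∈ c.supportᶜ, a ≠ b := by
    refine Finset.one_lt_card.mp ?_
    rw [Finset.card_compl, hcard, Fintype.card_fin]
    omega
  have hconj : IsConj c c⁻¹ := by rw [Equiv.Perm.isConj_iff_cycleType_eq, Equiv.Perm.cycleType_inv]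
  obtain ⟨g, hg⟩ := isConj_iff.mp hconj
  have hdisj : Commute (Equiv.swap a b) c := by
    apply Equiv.Perm.Disjoint.commute
    intro y
    by_cases hy : y = a ∨ y = b
    · refine Or.inr ?_
      rcases hy with rfl | rfl
      · simpa using ha
      · simpa using hb
    · exact Or.inl (Equiv.swap_apply_of_ne_of_ne (fun h => hy (Or.inl h)) (fun h => hy (Or.inr h)))
  obtain ⟨g', hg', hgs⟩ : ∃ g' : Perm (Fin n), g' * c * g'⁻¹ = c⁻¹ ∧ sign g' = 1 := by
    rcases Int.units_eq_one_or (sign g) with h | h
    · exact ⟨g, hg, h⟩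
    · refine ⟨g * Equiv.swap a b, ?_, ?_⟩
      · rw [mul_inv_rev, show g * Equiv.swap a b * c * ((Equiv.swap a b)⁻¹ * g⁻¹) = g * (Equiv.swap a b * c * (Equiv.swap a b)⁻¹) * g⁻¹ by group,
          hdisj.eq, mul_inv_cancel_right, hg]
      · rw [map_mul, h, sign_swap hab]; simp
  refine ⟨⟨c, Equiv.Perm.mem_alternatingGroup.mpr hsign⟩, ⟨g', Equiv.Perm.mem_alternatingGroup.mpr hgs⟩, ?_, ?_⟩
  · rw [← hord]
    exact (orderOf_injective (alternatingGroup (Fin n)).subtype Subtype.val_injective _).symm
  · exact Subtype.ext hg'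

/-- A non-commuting pair of `2`-elements generating a `2`-group, for degree at least six. -/
theorem exists_dihedral (n : ℕ) (hn : 6 ≤ n) :
    ∃ a b : alternatingGroup (Fin n), a ^ 4 = 1 ∧ b ^ 2 = 1 ∧ b * a * b⁻¹ = a⁻¹ ∧ a * b ≠ b * a := by
  let f : Fin 6 ↪ Fin n := Fin.castLEEmb hn
  let φ : Perm (Fin 6) →* Perm (Fin n) := Equiv.Perm.extendDomainHom (Equiv.ofInjective f f.injective)
  have hφ : Function.Injective φ := Equiv.Perm.extendDomainHom_injective _
  have hs : ∀ σ, sign (φ σ) = sign σ := fun σ => Equiv.Perm.sign_extendDomain σ _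
  let a : Perm (Fin 6) := Equiv.swap 0 1 * Equiv.swap 1 2 * Equiv.swap 2 3 * Equiv.swap 4 5
  let b : Perm (Fin 6) := Equiv.swap 0 2 * Equiv.swap 4 5
  have h : sign a = 1 ∧ sign b = 1 ∧ a ^ 4 = 1 ∧ b ^ 2 = 1 ∧ b * a * b⁻¹ = a⁻¹ ∧ a * b ≠ b * a := by
    decide +kernel
  obtain ⟨sa, sb, ha, hb, hab, hne⟩ := h
  refine ⟨⟨φ a, Equiv.Perm.mem_alternatingGroup.mpr (by rw [hs, sa])⟩,
    ⟨φ b, Equiv.Perm.mem_alternatingGroup.mpr (by rw [hs, sb])⟩, Subtype.ext ?_, Subtype.ext ?_, Subtype.ext ?_, ?_⟩
  · show φ a ^ 4 = 1
    rw [← map_pow, ha, map_one]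
  · show φ b ^ 2 = 1
    rw [← map_pow, hb, map_one]
  · show φ b * φ a * (φ b)⁻¹ = (φ a)⁻¹
    rw [← map_inv, ← map_mul, ← map_mul, hab, map_inv]
  · intro h
    have h' : φ a * φ b = φ b * φ a := congrArg Subtype.val h
    rw [← map_mul, ← map_mul] at h'
    exact hne (hφ h')

/-- Let n ≥ 5 and let P be an abelian Sylow p-subgroup of the alternating group A_n. Then N(P)/C(P) (taken in A_n) has even order, or P is cyclic, except when n = 5 and p = 2, where P is a four-group and N(P)/C(P) has order 3. -/
theorem result (n : ℕ) (hn : 5 ≤ n) {p : ℕ} [Fact p.Prime]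
    (P : Sylow p (alternatingGroup (Fin n))) (hP : IsMulCommutative (P : Subgroup (alternatingGroup (Fin n)))) :
    (¬ (n = 5 ∧ p = 2) → 2 ∣ ((Subgroup.centralizer ((P : Subgroup (alternatingGroup (Fin n))) : Set (alternatingGroup (Fin n)))).subgroupOf (Subgroup.normalizer ((P : Subgroup (alternatingGroup (Fin n))) : Set (alternatingGroup (Fin n))))).index ∨ IsCyclic (P : Subgroup (alternatingGroup (Fin n)))) ∧
    ((n = 5 ∧ p = 2) → ((Subgroup.centralizer ((P : Subgroup (alternatingGroup (Fin n))) : Set (alternatingGroup (Fin n)))).subgroupOf (Subgroup.normalizer ((P : Subgroup (alternatingGroup (Fin n))) : Set (alternatingGroup (Fin n))))).index = 3 ∧ IsKleinFour (P : Subgroup (alternatingGroup (Fin n)))) := by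
  classical
  haveI : IsMulCommutative (P : Subgroup (alternatingGroup (Fin n))) := hP
  have hcard2 : 2 * Nat.card (alternatingGroup (Fin n)) = n.factorial := by
    haveI : Nontrivial (Fin n) := Fin.nontrivial_iff_two_le.mpr (by omega)
    rw [Nat.card_eq_fintype_card, two_mul_card_alternatingGroup, Fintype.card_perm, Fintype.card_fin]
  constructor
  · intro hex
    rcases eq_or_ne p 2 with rfl | hp2
    · exfalso
      have hn6 : 6 ≤ n := by
        rcases Nat.lt_or_ge n 6 with h | h
        · exact absurd ⟨by omega, rfl⟩ hex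
        · exact h
      obtain ⟨a, b, ha, hb, hab, hne⟩ := exists_dihedral n hn6
      have h2 : ∀ {c : alternatingGroup (Fin n)} {k : ℕ}, c ^ (2 ^ k) = 1 → IsPGroup 2 (Subgroup.zpowers c) := by
        intro c k hc
        obtain ⟨j, -, hj⟩ := (Nat.dvd_prime_pow Nat.prime_two).mp (orderOf_dvd_of_pow_eq_one hc)
        exact IsPGroup.of_card (n := j) (by rw [Nat.card_zpowers, hj])
      have hnorm : Subgroup.zpowers b ≤ Subgroup.normalizer (Subgroup.zpowers a : Set (alternatingGroup (Fin n))) := by
        rw [Subgroup.zpowers_le, Subgroup.mem_normalizer_iff]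
        have hbb : b⁻¹ = b := inv_eq_of_mul_eq_one_right (by rw [← pow_two]; exact hb)
        have hfwd : ∀ y, y ∈ Subgroup.zpowers a → b * y * b⁻¹ ∈ Subgroup.zpowers a := by
          intro y hy
          obtain ⟨k, rfl⟩ := Subgroup.mem_zpowers_iff.mp hy
          rw [← conj_zpow, hab]
          exact Subgroup.zpow_mem _ (Subgroup.inv_mem _ (Subgroup.mem_zpowers a)) k
        intro y
        refine ⟨hfwd y, fun hy => ?_⟩
        have h := hfwd _ hy
        rw [hbb] at h
        have : b * (b * y * b) * b = y := by
          calc b * (b * y * b) * b = (b * b) * y * (b * b) := by group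
            _ = y := by rw [← pow_two, hb]; simp
        rwa [this] at h
      have hH : IsPGroup 2 (Subgroup.zpowers b ⊔ Subgroup.zpowers a : Subgroup (alternatingGroup (Fin n))) :=
        IsPGroup.to_sup_of_normal_right' (h2 (k := 1) (by simpa using hb)) (h2 (k := 2) (by simpa using ha)) hnorm
      obtain ⟨Q, hQ⟩ := hH.exists_le_sylow
      have haQ : a ∈ (Q : Subgroup _) := hQ (Subgroup.mem_sup_right (Subgroup.mem_zpowers a))
      have hbQ : b ∈ (Q : Subgroup _) := hQ (Subgroup.mem_sup_left (Subgroup.mem_zpowers b))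
      have e := P.equiv Q
      obtain ⟨a', ha'⟩ := e.surjective ⟨a, haQ⟩
      obtain ⟨b', hb'⟩ := e.surjective ⟨b, hbQ⟩
      have := congrArg Subtype.val (congrArg e (mul_comm' a' b'))
      rw [map_mul, map_mul, ha', hb'] at this
      exact hne this
    · rcases Nat.lt_or_ge n (p + 2) with hlt | hge
      · right
        have hp3 : 3 ≤ p := by have := (Fact.out : p.Prime).two_le; omega
        obtain ⟨k, hk⟩ := P.isPGroup'.exists_card_eq
        have hdvd : p ^ k ∣ n.factorial := by
          rw [← hcard2, ← hk]
          exact Dvd.dvd.mul_left (Subgroup.card_subgroup_dvd_card _) 2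
        have hk1 : k ≤ 1 := by
          have h1 := (padicValNat_dvd_iff_le (p := p) n.factorial_ne_zero).mp hdvd
          have hlog : Nat.log p n < 2 := Nat.log_lt_of_lt_pow (by omega) (by nlinarith)
          rw [padicValNat_factorial hlog] at h1
          simp at h1
          have : n / p ≤ 1 := by
            rw [Nat.div_le_iff_le_mul_add_pred (by omega)]
            omega
          omega
        rcases Nat.le_one_iff_eq_zero_or_eq_one.mp hk1 with rfl | rfl
        · haveI : Subsingleton (P : Subgroup (alternatingGroup (Fin n))) := (Nat.card_eq_one_iff_unique.mp (by simpa using hk)).1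
          infer_instance
        · exact isCyclic_of_prime_card (p := p) (by simpa using hk)
      · left
        obtain ⟨x, g, hx, hg⟩ := exists_even_inverting n p hp2 hge
        have hzp : IsPGroup p (Subgroup.zpowers x) := IsPGroup.of_card (n := 1) (by rw [Nat.card_zpowers, hx, pow_one])
        obtain ⟨Q, hQ⟩ := hzp.exists_le_sylow
        obtain ⟨h, rfl⟩ := MulAction.exists_smul_eq (alternatingGroup (Fin n)) P Q
        have hxQ : x ∈ (MulAut.conj h • (P : Subgroup (alternatingGroup (Fin n)))) := hQ (Subgroup.mem_zpowers x)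
        obtain ⟨y, hy, rfl⟩ := hxQ
        simp only [MulDistribMulAction.toMonoidEnd_apply, MulDistribMulAction.toMonoidHom_apply, MulAut.smul_def, MulAut.conj_apply] at hg hx
        set k : alternatingGroup (Fin n) := (h⁻¹ * g * h)⁻¹ with hkdef
        have hky : k⁻¹ * y * k = y⁻¹ := by
          rw [hkdef, inv_inv]
          calc h⁻¹ * g * h * y * (h⁻¹ * g * h)⁻¹ = h⁻¹ * (g * (h * y * h⁻¹) * g⁻¹) * h := by group
            _ = y⁻¹ := by rw [hg]; group
        obtain ⟨m, hm, hmy⟩ := P.conj_eq_normalizer_conj_of_mem y k hy (by rw [hky]; exact inv_mem hy)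
        rw [hky] at hmy
        refine even_index hy (inv_mem hm) (by rw [inv_inv]; exact hmy.symm) ?_
        intro heq
        have h2 : y ^ 2 = 1 := by
          rw [pow_two]
          nth_rewrite 1 [← heq]
          exact inv_mul_cancel y
        have h3 : (h * y * h⁻¹) ^ 2 = 1 := by rw [conj_pow, h2]; simp
        have := orderOf_dvd_of_pow_eq_one h3
        rw [hx] at this
        exact hp2 ((Nat.prime_dvd_prime_iff_eq Fact.out Nat.prime_two).mp this)
  · rintro ⟨rfl, rfl⟩
    have h60 : Nat.card (alternatingGroup (Fin 5)) = 60 := by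
      have : (Nat.factorial 5) = 120 := by decide
      omega
    have hP4 : Nat.card (P : Subgroup (alternatingGroup (Fin 5))) = 4 := by
      have : (60 : ℕ).factorization 2 = 2 := by
        rw [show (60 : ℕ) = 2 ^ 2 * 15 by norm_num, Nat.factorization_mul_apply_of_coprime (by norm_num),
          Nat.Prime.factorization_pow Nat.prime_two, Nat.factorization_eq_zero_of_not_dvd (show ¬ 2 ∣ 15 by norm_num)]
        simp
      rw [Sylow.card_eq_multiplicity, h60, this]; norm_num
    have hno4 : ∀ x : alternatingGroup (Fin 5), x ^ 4 = 1 → x ^ 2 = 1 := by decide +kernel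
    have hsq : ∀ x : (P : Subgroup (alternatingGroup (Fin 5))), x ^ 2 = 1 := by
      intro x
      have h4 : x ^ 4 = 1 := by rw [← hP4]; exact pow_card_eq_one'
      apply Subtype.ext
      exact hno4 x.1 (by simpa using congrArg Subtype.val h4)
    refine ⟨?_, ⟨hP4, ?_⟩⟩
    · set S : Subgroup (alternatingGroup (Fin 5)) := ↑P with hSdef
      set k := ((Subgroup.centralizer (S : Set (alternatingGroup (Fin 5)))).subgroupOf (Subgroup.normalizer (S : Set (alternatingGroup (Fin 5))))).index with hk
      have hk1 : k ≠ 1 := by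
        intro h1
        rw [hk, Subgroup.index_eq_one, Subgroup.subgroupOf_eq_top] at h1
        haveI : IsSimpleGroup (alternatingGroup (Fin 5)) := alternatingGroup.isSimpleGroup_five
        haveI := MonoidHom.ker_transferSylow_isComplement' P h1
        have hc := (MonoidHom.ker_transferSylow_isComplement' P h1).card_mul
        rcases (MonoidHom.transferSylow P h1).normal_ker.eq_bot_or_eq_top with h | h
        · rw [h, Subgroup.card_bot, one_mul, hP4, h60] at hc; omega
        · rw [h, Subgroup.card_top, hP4, h60] at hc; omega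
      have hk15 : k ∣ 15 := by
        have h1 : k ∣ S.index := by
          refine dvd_trans ?_ (Subgroup.relIndex_dvd_index_of_le (Subgroup.le_normalizer (H := S)))
          rw [hk, ← Subgroup.relIndex]
          exact Subgroup.relIndex_dvd_of_le_left _ P.le_centralizer
        have h2 := S.card_mul_index
        rw [hP4, h60] at h2
        have : S.index = 15 := by omega
        rwa [this] at h1
      have hk6 : k ∣ 6 := by
        let f : MulAut S →* Equiv.Perm {x : S // x ≠ 1} :=
          { toFun := fun α => α.toEquiv.subtypeEquiv (fun x => by simp)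
            map_one' := by ext; rfl
            map_mul' := fun α β => by ext; rfl }
        have hf : Function.Injective f := by
          intro α β h
          apply MulEquiv.ext
          intro x
          by_cases hx : x = 1
          · simp [hx]
          · exact congrArg (fun g : {x : S // x ≠ 1} => g.1) (Equiv.ext_iff.mp h ⟨x, hx⟩)
        have h6 : Nat.card (Equiv.Perm {x : S // x ≠ 1}) = 6 := by
          haveI : Fintype S := Fintype.ofFinite _
          rw [Nat.card_perm, Nat.card_eq_fintype_card, Fintype.card_subtype_compl, Fintype.card_subtype_eq,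
            ← Nat.card_eq_fintype_card, hP4]
          rfl
        have h1 : k ∣ Nat.card (MulAut S) := by
          have h := Subgroup.card_dvd_of_injective _ (QuotientGroup.kerLift_injective S.normalizerMonoidHom)
          rw [Subgroup.normalizerMonoidHom_ker, ← Subgroup.index, ← hk] at h
          exact h
        exact h1.trans ((Subgroup.card_dvd_of_injective f hf).trans h6.dvd)
      have h3 : k ∣ Nat.gcd 15 6 := Nat.dvd_gcd hk15 hk6
      norm_num at h3
      exact ((Nat.dvd_prime Nat.prime_three).mp h3).resolve_left hk1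
    · apply Nat.dvd_antisymm
      · exact Monoid.exponent_dvd_of_forall_pow_eq_one hsq
      · haveI : Nontrivial (P : Subgroup (alternatingGroup (Fin 5))) := Finite.one_lt_card_iff_nontrivial.mp (by omega)
        obtain ⟨x, hx⟩ := exists_ne (1 : (P : Subgroup (alternatingGroup (Fin 5))))
        have h2 : orderOf x = 2 := orderOf_eq_prime (hsq x) hx
        have h3 := Monoid.order_dvd_exponent x
        rwa [h2] at h3

end Cfsg.Agent.S2269
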