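import Cfsg.Statements.S2272
-- import your own Cfsg.Agent.* helpers here

set_option autoImplicit false
open Cfsg

namespace Cfsg.Agent.S2272

open Matrix

variable {F : Type*} [Field F] {d : ℕ}

/-- A non-scalar matrix moves a vector out of its line. -/
theorem exists_indep (A : Matrix (Fin d) (Fin d) F) (hA : ¬ ∃ c : F, A = c • 1) :
    ∃ x, LinearIndependent F ![x, A *ᵥ x] := by
  by_contra! h
  have heig : ∀ v : Fin d → F, ∃ c : F, A *ᵥ v = c • v := fun v => by
    rcases eq_or_ne v 0 with rfl | hv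
    · exact ⟨0, by simp⟩
    have := h v
    rw [LinearIndependent.pair_iff' hv] at this
    push Not at this
    obtain ⟨c, hc⟩ := this
    exact ⟨c, hc.symm⟩
  refine hA ?_
  obtain ⟨c, hc⟩ := (LinearMap.exists_eq_smul_id_of_forall_notLinearIndependent (f := Matrix.toLin' A) fun v => by
    rw [Matrix.toLin'_apply]
    exact h v)
  exact ⟨c, Matrix.toLin'.injective (by rw [hc, map_smul, Matrix.toLin'_one, Module.End.one_eq_id])⟩

/-- Transitivity on independent pairs. -/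
theorem exists_map (hd : 3 ≤ d) {x y x' y' : Fin d → F} (h : LinearIndependent F ![x, y])
    (h' : LinearIndependent F ![x', y']) :
    ∃ g : Matrix.SpecialLinearGroup (Fin d) F, g.1 *ᵥ x' = x ∧ g.1 *ᵥ y' = y := by
  classical
  have ext : ∀ a b : Fin d → F, LinearIndependent F ![a, b] → ∃ (P : Matrix (Fin d) (Fin d) F),
      P.det ≠ 0 ∧ P *ᵥ Pi.single ⟨0, by omega⟩ 1 = a ∧ P *ᵥ Pi.single ⟨1, by omega⟩ 1 = b := by
    intro a b hab
    obtain ⟨m, rfl⟩ : ∃ m, d = 2 + m := ⟨d - 2, by omega⟩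
    obtain ⟨C, hC⟩ := Submodule.exists_isCompl (Submodule.span F (Set.range ![a, b]))
    have hfin : Module.finrank F C = m := by
      have h1 := Submodule.finrank_add_eq_of_isCompl hC
      rw [finrank_span_eq_card hab, Fintype.card_fin, Module.finrank_fintype_fun_eq_card, Fintype.card_fin] at h1
      omega
    let bC := Module.finBasisOfFinrankEq F C hfin
    let v : Fin (2 + m) → (Fin (2 + m) → F) := Fin.addCases ![a, b] (fun i => (bC i : Fin (2 + m) → F))
    have hv : LinearIndependent F v := by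
      have hs : LinearIndependent F (Sum.elim ![a, b] fun i => (bC i : Fin (2 + m) → F)) := by
        refine hab.sum_type (bC.linearIndependent.map' C.subtype C.ker_subtype) ?_
        refine hC.disjoint.mono_right (Submodule.span_le.mpr ?_)
        rintro _ ⟨i, rfl⟩
        exact (bC i).2
      have : v = (Sum.elim ![a, b] fun i => (bC i : Fin (2 + m) → F)) ∘ finSumFinEquiv.symm := by
        funext i
        refine Fin.addCases (fun j => ?_) (fun j => ?_) i <;> simp [v]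
      rw [this]
      exact hs.comp _ finSumFinEquiv.symm.injective
    refine ⟨Matrix.of fun i j => v j i, isUnit_iff_ne_zero.mp ((Matrix.isUnit_iff_isUnit_det _).mp
      (Matrix.linearIndependent_cols_iff_isUnit.mp hv)), ?_, ?_⟩
    · rw [Matrix.mulVec_single_one]
      funext i
      show v ⟨0, by omega⟩ i = a i
      rw [show (⟨0, by omega⟩ : Fin (2 + m)) = Fin.castAdd m 0 from rfl]
      simp [v]
    · rw [Matrix.mulVec_single_one]
      funext i
      show v ⟨1, by omega⟩ i = b i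
      rw [show (⟨1, by omega⟩ : Fin (2 + m)) = Fin.castAdd m 1 from rfl]
      simp [v]
  obtain ⟨P, hP, hP0, hP1⟩ := ext x y h
  obtain ⟨Q, hQ, hQ0, hQ1⟩ := ext x' y' h'
  let D : Matrix (Fin d) (Fin d) F := Matrix.diagonal fun i => if (i : ℕ) = 2 then Q.det / P.det else 1
  have hD : D.det = Q.det / P.det := by
    rw [Matrix.det_diagonal, Finset.prod_eq_single (⟨2, by omega⟩ : Fin d)]
    · simp
    · intro i _ hi
      rw [if_neg fun e => hi (Fin.ext e)]
    · simp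
  have hDj : ∀ (j : ℕ) (hj : j < d), j ≠ 2 → D *ᵥ Pi.single ⟨j, hj⟩ 1 = Pi.single ⟨j, hj⟩ 1 := fun j hj h2 => by
    rw [Matrix.diagonal_mulVec_single, if_neg (by exact h2), one_mul]
  have hQi : ∀ v, Q⁻¹ *ᵥ (Q *ᵥ v) = v := fun v => by
    rw [Matrix.mulVec_mulVec, Matrix.nonsing_inv_mul _ (isUnit_iff_ne_zero.mpr hQ), Matrix.one_mulVec]
  refine ⟨⟨P * D * Q⁻¹, ?_⟩, ?_, ?_⟩
  · rw [Matrix.det_mul, Matrix.det_mul, hD, Matrix.det_nonsing_inv, Ring.inverse_eq_inv']
    field_simp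
  · show (P * D * Q⁻¹) *ᵥ x' = x
    rw [← hQ0, ← Matrix.mulVec_mulVec, hQi, ← Matrix.mulVec_mulVec, hDj 0 _ (by omega), hP0]
  · show (P * D * Q⁻¹) *ᵥ y' = y
    rw [← hQ1, ← Matrix.mulVec_mulVec, hQi, ← Matrix.mulVec_mulVec, hDj 1 _ (by omega), hP1]

/-- The trace of the product of conjugates takes every value. -/
theorem exists_trace (hd : 3 ≤ d) (A B : Matrix.SpecialLinearGroup (Fin d) F) (hA : ¬ ∃ c : F, A.1 = c • 1)
    (hB : ¬ ∃ c : F, B.1 = c • 1) (s : F) :
    ∃ g : Matrix.SpecialLinearGroup (Fin d) F, (A * (g * B * g⁻¹)).1.trace = s := by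
  classical
  obtain ⟨x, hx⟩ := exists_indep A.1 hA
  obtain ⟨x', hx'⟩ := exists_indep B.1 hB
  obtain ⟨y, hy⟩ : ∃ y, LinearIndependent F ![y, x, A.1 *ᵥ x] := by
    obtain ⟨y, hy⟩ : ∃ y, y ∉ Submodule.span F (Set.range ![x, A.1 *ᵥ x]) := by
      by_contra! hall
      have htop : Submodule.span F (Set.range ![x, A.1 *ᵥ x]) = ⊤ := Submodule.eq_top_iff'.mpr hall
      have h1 := finrank_span_eq_card hx
      rw [htop, finrank_top, Module.finrank_fintype_fun_eq_card, Fintype.card_fin, Fintype.card_fin] at h1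
      omega
    exact ⟨y, linearIndependent_finCons.mpr ⟨hx, hy⟩⟩
  have hxy : LinearIndependent F ![x, y] := by
    have := hy.comp ![1, 0] (by decide)
    convert this using 1
    funext i
    fin_cases i <;> rfl
  obtain ⟨g, hgx, hgy⟩ := exists_map hd hxy hx'
  obtain ⟨M, hM⟩ : ∃ M, M = g * B * g⁻¹ := ⟨_, rfl⟩
  have hgix : (g⁻¹).1 *ᵥ x = x' := by
    rw [← hgx, Matrix.mulVec_mulVec, ← Matrix.SpecialLinearGroup.coe_mul, inv_mul_cancel,
      Matrix.SpecialLinearGroup.coe_one, Matrix.one_mulVec]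
  have hMx : M.1 *ᵥ x = y := by
    rw [hM, Matrix.SpecialLinearGroup.coe_mul, Matrix.SpecialLinearGroup.coe_mul, ← Matrix.mulVec_mulVec,
      hgix, ← Matrix.mulVec_mulVec, hgy]
  -- functionals with prescribed values
  have hφ : ∀ u v : F, ∃ φ : Fin d → F, φ ⬝ᵥ x = 0 ∧ φ ⬝ᵥ (A.1 *ᵥ x) = u ∧ φ ⬝ᵥ y = v := by
    intro u v
    have hy' : LinearIndependent F ![y, x, A.1 *ᵥ x] := hy
    let R : Matrix (Fin 3) (Fin d) F := Matrix.of ![y, x, A.1 *ᵥ x]
    have hsurj : Function.Surjective R.mulVecLin := by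
      rw [← LinearMap.range_eq_top]
      refine Submodule.eq_top_of_finrank_eq ?_
      rw [show Module.finrank F R.mulVecLin.range = R.rank from rfl, LinearIndependent.rank_matrix (M := R) hy',
        Module.finrank_fintype_fun_eq_card]
    obtain ⟨φ, hφ⟩ := hsurj ![v, 0, u]
    have e := fun i => congrFun hφ i
    refine ⟨φ, ?_, ?_, ?_⟩
    · rw [dotProduct_comm]; exact e 1
    · rw [dotProduct_comm]; exact e 2
    · rw [dotProduct_comm]; exact e 0
  choose φ h1 h2 h3 using hφ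
  -- the trace along the transvections
  obtain ⟨l, hl⟩ : ∃ l : (Fin d → F) →ₗ[F] F, ∀ f, l f = f ⬝ᵥ ((M.1 * A.1) *ᵥ x) - f ⬝ᵥ ((A.1 * M.1) *ᵥ x) :=
    ⟨(dotProductBilin F F).flip ((M.1 * A.1) *ᵥ x) - (dotProductBilin F F).flip ((A.1 * M.1) *ᵥ x), fun f => rfl⟩
  have htr : ∀ f : Fin d → F, f ⬝ᵥ x = 0 → ∃ h : Matrix.SpecialLinearGroup (Fin d) F,
      (A * (h * M * h⁻¹)).1.trace = (A.1 * M.1).trace + l f - (f ⬝ᵥ (A.1 *ᵥ x)) * (f ⬝ᵥ (M.1 *ᵥ x)) := by
    intro f hf
    obtain ⟨N, hN⟩ : ∃ N, N = Matrix.vecMulVec x f := ⟨_, rfl⟩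
    have hdet : ∀ c : F, (1 + c • N).det = 1 := fun c => by
      rw [hN, ← Matrix.smul_vecMulVec, Matrix.vecMulVec_eq Unit, Matrix.det_one_add_replicateCol_mul_replicateRow,
        dotProduct_smul, hf, smul_zero, add_zero]
    obtain ⟨h, hh⟩ : ∃ h : Matrix.SpecialLinearGroup (Fin d) F, h.1 = 1 + N :=
      ⟨⟨1 + N, by simpa using hdet 1⟩, rfl⟩
    obtain ⟨h', hh'⟩ : ∃ h : Matrix.SpecialLinearGroup (Fin d) F, h.1 = 1 - N :=
      ⟨⟨1 - N, by simpa [sub_eq_add_neg] using hdet (-1)⟩, rfl⟩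
    have hNN : N * N = 0 := by rw [hN, Matrix.vecMulVec_mul_vecMulVec, hf, zero_smul, Matrix.vecMulVec_zero]
    have hinv : h⁻¹ = h' := by
      refine inv_eq_of_mul_eq_one_right (Subtype.ext ?_)
      rw [Matrix.SpecialLinearGroup.coe_mul, hh, hh', Matrix.SpecialLinearGroup.coe_one, mul_sub, mul_one,
        add_mul, one_mul, hNN, add_zero, add_sub_cancel_right]
    refine ⟨h, ?_⟩
    have hrk : ∀ P : Matrix (Fin d) (Fin d) F, (P * N).trace = f ⬝ᵥ (P *ᵥ x) := fun P => by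
      rw [hN, Matrix.mul_vecMulVec, Matrix.trace_vecMulVec, dotProduct_comm]
    have hNPN : N * M.1 * N = (f ⬝ᵥ (M.1 *ᵥ x)) • N := by
      rw [hN, Matrix.vecMulVec_mul, Matrix.vecMulVec_mul_vecMulVec, ← Matrix.dotProduct_mulVec,
        Matrix.vecMulVec_smul]
    rw [hinv, Matrix.SpecialLinearGroup.coe_mul, Matrix.SpecialLinearGroup.coe_mul, Matrix.SpecialLinearGroup.coe_mul,
      hh, hh', hl, show A.1 * ((1 + N) * M.1 * (1 - N)) = A.1 * M.1 + A.1 * N * M.1 - A.1 * M.1 * N - A.1 * (N * M.1 * N) by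
        noncomm_ring]
    rw [Matrix.trace_sub, Matrix.trace_sub, Matrix.trace_add, hNPN, Matrix.mul_smul, Matrix.trace_smul,
      Matrix.trace_mul_cycle, hrk, hrk, hrk, smul_eq_mul]
    ring
  -- solve for the two parameters
  have hlin : ∀ u v : F, ∃ h : Matrix.SpecialLinearGroup (Fin d) F,
      (A * (h * M * h⁻¹)).1.trace = (A.1 * M.1).trace + u * l (φ 1 0) + v * l (φ 0 1) - u * v := by
    intro u v
    obtain ⟨h, hh⟩ := htr (u • φ 1 0 + v • φ 0 1)
      (by rw [add_dotProduct, smul_dotProduct, smul_dotProduct, h1, h1, smul_zero, smul_zero, add_zero])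
    refine ⟨h, ?_⟩
    rw [hh, map_add, map_smul, map_smul, hMx, add_dotProduct, add_dotProduct, smul_dotProduct, smul_dotProduct,
      smul_dotProduct, smul_dotProduct, h2, h2, h3, h3]
    simp only [smul_eq_mul]
    ring
  obtain ⟨h, hh⟩ := hlin (s - (A.1 * M.1).trace - (l (φ 1 0) - 1) * l (φ 0 1)) (l (φ 1 0) - 1)
  refine ⟨h * g, ?_⟩
  rw [show h * g * B * (h * g)⁻¹ = h * M * h⁻¹ by rw [hM]; group, hh]
  ring

/-- Let F be a finite field and d ≥ 3, and let a, b be non-identity elements of PSL_d(F). Then the product of the conjugacy classes of a and b is not a single conjugacy class: there are conjugates a′ of a and b′ of b such that a′b′ is not conjugate to ab. -/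
theorem result {F : Type*} [Field F] [Fintype F] (d : ℕ) (hd : 3 ≤ d)
    (a b : Matrix.ProjectiveSpecialLinearGroup (Fin d) F) (ha : a ≠ 1) (hb : b ≠ 1) :
    ∃ g h : Matrix.ProjectiveSpecialLinearGroup (Fin d) F, ¬ IsConj (a * b) (g * a * g⁻¹ * (h * b * h⁻¹)) := by
  classical
  obtain ⟨A, rfl⟩ := QuotientGroup.mk_surjective a
  obtain ⟨B, rfl⟩ := QuotientGroup.mk_surjective b
  have hns : ∀ C : Matrix.SpecialLinearGroup (Fin d) F,
      (QuotientGroup.mk C : Matrix.ProjectiveSpecialLinearGroup (Fin d) F) ≠ 1 → ¬ ∃ c : F, C.1 = c • 1 := by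
    rintro C hC ⟨c, hc⟩
    refine hC ((QuotientGroup.eq_one_iff C).mpr (Subgroup.mem_center_iff.mpr fun D => Subtype.ext ?_))
    rw [Matrix.SpecialLinearGroup.coe_mul, Matrix.SpecialLinearGroup.coe_mul, hc, Matrix.smul_mul, Matrix.mul_smul,
      Matrix.one_mul, Matrix.mul_one]
  obtain ⟨g₀, h₀⟩ := exists_trace hd A B (hns A ha) (hns B hb) 0
  obtain ⟨g₁, h₁⟩ := exists_trace hd A B (hns A ha) (hns B hb) 1
  by_contra hall
  push Not at hall
  have e : IsConj (QuotientGroup.mk (A * (g₀ * B * g₀⁻¹)) : Matrix.ProjectiveSpecialLinearGroup (Fin d) F)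
      (QuotientGroup.mk (A * (g₁ * B * g₁⁻¹))) := by
    have e0 := hall 1 (QuotientGroup.mk g₀)
    have e1 := hall 1 (QuotientGroup.mk g₁)
    simp only [one_mul, inv_one, mul_one, ← QuotientGroup.mk_inv, ← QuotientGroup.mk_mul] at e0 e1
    exact e0.symm.trans e1
  obtain ⟨c, hc⟩ := isConj_iff.mp e
  obtain ⟨C, rfl⟩ := QuotientGroup.mk_surjective c
  rw [← QuotientGroup.mk_inv, ← QuotientGroup.mk_mul, ← QuotientGroup.mk_mul, QuotientGroup.eq] at hc
  obtain ⟨z, hz⟩ := (Subgroup.mem_center_iff.mp hc |> fun h => (Matrix.SpecialLinearGroup.mem_center_iff.mp hc))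
  obtain ⟨Z, hZ⟩ : ∃ Z, Z = (C * (A * (g₀ * B * g₀⁻¹)) * C⁻¹)⁻¹ * (A * (g₁ * B * g₁⁻¹)) := ⟨_, rfl⟩
  have he : A * (g₁ * B * g₁⁻¹) = C * (A * (g₀ * B * g₀⁻¹)) * C⁻¹ * Z := by rw [hZ, mul_inv_cancel_left]
  have hZv : Z.1 = z • 1 := by rw [hZ, ← hz.2, Matrix.scalar_apply, Matrix.smul_one_eq_diagonal]
  rw [he, Matrix.SpecialLinearGroup.coe_mul, hZv, Matrix.mul_smul, Matrix.mul_one, Matrix.trace_smul,
    Matrix.SpecialLinearGroup.coe_mul, Matrix.trace_mul_comm,
    ← Matrix.SpecialLinearGroup.coe_mul, inv_mul_cancel_left, h₀, smul_zero] at h₁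
  exact zero_ne_one h₁

end Cfsg.Agent.S2272
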