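import Cfsg.Statements.S2277
import Cfsg.Agent.Lib.Small.TwoFixedSpaces
import Cfsg.Agent.Lib.Solv.Coprime
-- import your own Cfsg.Agent.* helpers here

set_option autoImplicit false
open Cfsg
open scoped Pointwise

namespace Cfsg.Agent.S2277

/-- Let p ≥ 3 be prime and G a finite group with a Sylow p-subgroup P and a normal p-complement N (N normal, of order prime to p, with NP = G). Suppose P is generated by a subset C and also by a subset D, and that ⟨x c x⁻¹, d⟩ is a p-group for all x ∈ N, c ∈ C, d ∈ D. Then P centralizes N, so that G = N × P. -/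
theorem result {G : Type*} [Group G] [Finite G] (p : ℕ) [Fact p.Prime] (hp3 : 3 ≤ p) (P : Sylow p G)
    (N : Subgroup G) [N.Normal] (hN : (Nat.card N).Coprime p) (hNP : N ⊔ (P : Subgroup G) = ⊤)
    (C D : Set G) (hC : Subgroup.closure C = (P : Subgroup G)) (hD : Subgroup.closure D = (P : Subgroup G))
    (h : ∀ x ∈ N, ∀ c ∈ C, ∀ d ∈ D, IsPGroup p ↥(Subgroup.closure ({x * c * x⁻¹, d} : Set G))) :
    ⁅(P : Subgroup G), N⁆ = ⊥ := by
  classical
  have hp : p.Prime := Fact.out
  obtain ⟨a, ha⟩ := IsPGroup.iff_card.1 P.2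
  have hPN : (Nat.card (P : Subgroup G)).Coprime (Nat.card N) := by
    rw [ha]; exact Nat.Coprime.pow_left a hN.symm
  have hPnN : (P : Subgroup G) ≤ Subgroup.normalizer (N : Set G) := by
    rw [Subgroup.normalizer_eq_top]; exact le_top
  have hsol : Group.IsSolvable (P : Subgroup G) := by
    haveI := P.2.isNilpotent; infer_instance
  have hinf : N ⊓ (P : Subgroup G) = ⊥ := Cfsg.Agent.Solv.coprime_inf hPN.symm
  have hCP : C ⊆ (P : Subgroup G) := hC ▸ Subgroup.subset_closure
  have hDP : D ⊆ (P : Subgroup G) := hD ▸ Subgroup.subset_closure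
  have hgen : ∀ S : Set G, Subgroup.closure S = (P : Subgroup G) →
      Subgroup.closure ((fun a : (P : Subgroup G) => (a : G)) ⁻¹' S) = ⊤ := by
    intro S hS
    apply Subgroup.map_injective (P : Subgroup G).subtype_injective
    rw [MonoidHom.map_closure, ← MonoidHom.range_eq_map, Subgroup.range_subtype]
    conv_rhs => rw [← hS]
    congr 1
    ext y
    exact ⟨fun ⟨z, hz, e⟩ => e ▸ hz, fun hy => ⟨⟨y, hS ▸ Subgroup.subset_closure hy⟩, hy, rfl⟩⟩
  -- the elements of `N` centralising `P`
  have hmain : ∀ q : ℕ, q.Prime → q ^ (Nat.card N).factorization q ∣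
      Nat.card (N ⊓ Subgroup.centralizer ((P : Subgroup G) : Set G) : Subgroup G) := by
    intro q hq
    haveI := Fact.mk hq
    by_cases hqp : q = p
    · subst hqp
      rw [Nat.factorization_eq_zero_of_not_dvd ((hq.coprime_iff_not_dvd).1 hN.symm), pow_zero]
      exact one_dvd _
    obtain ⟨R, hR, hRP⟩ := Cfsg.Agent.Solv.exists_invariant_sylow hPnN hPN (Or.inl hsol) q
    rw [← hR.2]
    refine Subgroup.card_dvd_of_le (le_inf hR.1 fun r hr => ?_)
    let φ : (P : Subgroup G) →* MulAut R :=
      { toFun := fun a =>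
          { toFun := fun y => ⟨(a : G) * y * (a : G)⁻¹, Cfsg.Agent.Solv.conj_mem_of_mem_normalizer (hRP a.2) y.2⟩
            invFun := fun y => ⟨(a : G)⁻¹ * y * (a : G), by
              simpa using Cfsg.Agent.Solv.conj_mem_of_mem_normalizer (inv_mem (hRP a.2)) y.2⟩
            left_inv := fun y => Subtype.ext (by simp [mul_assoc])
            right_inv := fun y => Subtype.ext (by simp [mul_assoc])
            map_mul' := fun y z => Subtype.ext (by simp [mul_assoc]) }
        map_one' := MulEquiv.ext fun y => Subtype.ext (by simp)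
        map_mul' := fun a b => MulEquiv.ext fun y => Subtype.ext (by simp [mul_assoc]) }
    have hφ : ∀ a y, ((φ a y : R) : G) = (a : G) * y * (a : G)⁻¹ := fun a y => rfl
    have htriv := Cfsg.Agent.Small.TwoFixedSpaces.trivial_of_factor (p := p) (q := q) (by omega) hq
      (Ne.symm hqp) _ φ hR.isPGroup P.2 _ _ (hgen C hC) (hgen D hD) (by
        intro c hc d hd x
        set S := Subgroup.closure ({(c : G), (d : G)} : Set G) with hS
        have hSP : S ≤ (P : Subgroup G) := (Subgroup.closure_le _).2 (by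
          rintro y (rfl | rfl); exacts [c.2, d.2])
        have hcS : (c : G) ∈ S := Subgroup.subset_closure (Or.inl rfl)
        have hdS : (d : G) ∈ S := Subgroup.subset_closure (Or.inr rfl)
        have hSR : S ≤ Subgroup.normalizer (R : Set G) := hSP.trans hRP
        have hRS : R ⊓ S = ⊥ := le_bot_iff.1 ((inf_le_inf hR.1 hSP).trans hinf.le)
        set H := R ⊔ S with hH
        obtain ⟨k, hk⟩ := IsPGroup.iff_card.1 (P.2.to_le hSP)
        have hcardH : Nat.card H = Nat.card R * Nat.card S := by
          have := Cfsg.Agent.Solv.card_sup_mul_card_inf' R S hSR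
          rwa [hRS, Subgroup.card_bot, mul_one] at this
        have hfac : (Nat.card H).factorization p = k := by
          rw [hcardH, Nat.factorization_mul Nat.card_pos.ne' Nat.card_pos.ne', Finsupp.add_apply, hk, hR.2,
            hq.factorization_pow, hp.factorization_pow, Finsupp.single_eq_of_ne (Ne.symm hqp),
            Finsupp.single_eq_same, zero_add]
        let S0 : Sylow p H := Sylow.ofCard (S.subgroupOf H)
          (by rw [hfac, Nat.card_congr (Subgroup.subgroupOfEquivOfLe le_sup_right).toEquiv, hk])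
        set Q := Subgroup.closure ({(x : G) * c * (x : G)⁻¹, (d : G)} : Set G) with hQ
        have hQH : Q ≤ H := (Subgroup.closure_le _).2 (by
          rintro y (rfl | rfl)
          · exact mul_mem (mul_mem (Subgroup.mem_sup_left x.2) (Subgroup.mem_sup_right hcS))
              (inv_mem (Subgroup.mem_sup_left x.2))
          · exact Subgroup.mem_sup_right hdS)
        have hQp : IsPGroup p (Q.subgroupOf H) :=
          (h x (hR.1 x.2) c hc d hd).of_equiv (Subgroup.subgroupOfEquivOfLe hQH).symm
        obtain ⟨T, hT⟩ := hQp.exists_le_sylow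
        obtain ⟨g, hg⟩ := MulAction.exists_smul_eq H T S0
        have hgS : ∀ y : H, y ∈ (T : Subgroup H) → (g * y * g⁻¹ : H).1 ∈ S := by
          intro y hy
          have h1 : g * y * g⁻¹ ∈ ((g • T : Sylow p H) : Subgroup H) := by
            rw [Sylow.coe_subgroup_smul]
            exact Subgroup.mem_pointwise_smul_iff_inv_smul_mem.2 (by simpa [MulAut.smul_def, mul_assoc] using hy)
          rw [hg] at h1
          exact h1
        have hg' : (g : G)⁻¹ ∈ (R : Set G) * (S : Set G) := by
          rw [← Subgroup.coe_mul_of_right_le_normalizer_left R S hSR]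
          exact inv_mem g.2
        obtain ⟨r₁, hr₁, s, hs, hrs⟩ := Set.mem_mul.1 hg'
        have hu : ∀ y ∈ Q, r₁⁻¹ * y * r₁ ∈ S := by
          intro y hy
          have h1 : (g : G) * y * (g : G)⁻¹ ∈ S := hgS ⟨y, hQH hy⟩ (hT hy)
          have e : (g : G) = s⁻¹ * r₁⁻¹ := by rw [← mul_inv_rev, hrs, inv_inv]
          rw [e] at h1
          have h2 := mul_mem (mul_mem hs h1) (inv_mem hs)
          simpa [mul_assoc] using h2
        have hfix : ∀ t ∈ R, ∀ b ∈ (P : Subgroup G), t * b * t⁻¹ ∈ (P : Subgroup G) → t * b * t⁻¹ = b := by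
          intro t ht b hb hmem
          have h1 : t * b * t⁻¹ * b⁻¹ ∈ R := Cfsg.Agent.Solv.comm_mem_of_mem_normalizer (hRP hb) ht
          have h2 := Subgroup.mem_inf.2 ⟨hR.1 h1, mul_mem hmem (inv_mem hb)⟩
          rw [hinf, Subgroup.mem_bot, mul_inv_eq_one] at h2
          exact h2
        have hcfix := hfix (r₁⁻¹ * x) (mul_mem (inv_mem hr₁) x.2) c c.2 (hSP (by
          simpa [mul_assoc] using hu _ (Subgroup.subset_closure (Or.inl rfl))))
        have hdfix := hfix r₁⁻¹ (inv_mem hr₁) d d.2 (hSP (by
          simpa [mul_assoc] using hu _ (Subgroup.subset_closure (Or.inr rfl))))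
        refine ⟨⟨r₁, hr₁⟩, ⟨r₁⁻¹ * x, mul_mem (inv_mem hr₁) x.2⟩, Subtype.ext ?_, Subtype.ext ?_,
          Subtype.ext (by simp)⟩
        · rw [hφ]
          show (d : G) * r₁ * (d : G)⁻¹ = r₁
          have e : Commute r₁ (d : G) := Commute.inv_left_iff.1 (mul_inv_eq_iff_eq_mul.1 hdfix)
          rw [← e.eq, mul_inv_cancel_right]
        · rw [hφ]
          show (c : G) * (r₁⁻¹ * x) * (c : G)⁻¹ = r₁⁻¹ * x
          have e : Commute (r₁⁻¹ * (x : G)) (c : G) := mul_inv_eq_iff_eq_mul.1 hcfix
          rw [← e.eq, mul_inv_cancel_right]) rfl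
    rw [Subgroup.mem_centralizer_iff]
    intro a ha'
    have h1 := congrArg Subtype.val (htriv ⟨a, ha'⟩ ⟨r, hr⟩)
    rw [hφ] at h1
    exact mul_inv_eq_iff_eq_mul.1 h1
  have hle : N ≤ Subgroup.centralizer ((P : Subgroup G) : Set G) := by
    have hdvd : Nat.card N ∣ Nat.card (N ⊓ Subgroup.centralizer ((P : Subgroup G) : Set G) : Subgroup G) := by
      rw [← Nat.factorization_le_iff_dvd Nat.card_pos.ne' Nat.card_pos.ne']
      intro q
      by_cases hq : q.Prime
      · exact (hq.pow_dvd_iff_le_factorization Nat.card_pos.ne').1 (hmain q hq)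
      · simp [Nat.factorization_eq_zero_of_not_prime _ hq]
    have := Subgroup.eq_of_le_of_card_ge (inf_le_left (b := Subgroup.centralizer ((P : Subgroup G) : Set G)))
      (Nat.le_of_dvd Nat.card_pos hdvd)
    exact this ▸ inf_le_right
  rw [Subgroup.commutator_eq_bot_iff_le_centralizer]
  exact Subgroup.le_centralizer_iff.1 hle

end Cfsg.Agent.S2277
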