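import Cfsg.Statements.S2289
import Cfsg.Agent.Lib.Small.SU3Pres.Main
-- import your own Cfsg.Agent.* helpers here

set_option autoImplicit false
open Cfsg

namespace Cfsg.Agent.S2289

/-- Let F be a field with q² elements, q ∉ {2, 3, 5}, and SU_3(q), PSU_3(q) the special unitary group of the standard Hermitian form and its central quotient. Then SU_3(q) has a presentation with 3 generators and at most 23 relations, and PSU_3(q) one with 3 generators and at most 24 relations. -/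
theorem result {F : Type*} [Field F] [Fintype F] (q : ℕ) (hF : Fintype.card F = q ^ 2) (h2 : q ≠ 2) (h3 : q ≠ 3) (h5 : q ≠ 5) :
    (∃ rels : Finset (FreeGroup (Fin 3)), rels.card ≤ 23 ∧ Nonempty (PresentedGroup (↑rels : Set (FreeGroup (Fin 3))) ≃* ↥(Cfsg.SU 3 F q))) ∧ (∃ rels : Finset (FreeGroup (Fin 3)), rels.card ≤ 24 ∧ Nonempty (PresentedGroup (↑rels : Set (FreeGroup (Fin 3))) ≃* Cfsg.PSU 3 F q)) := by
  classical
  obtain ⟨p, hp⟩ := CharP.exists F
  haveI := hp
  haveI hpf : Fact p.Prime := ⟨CharP.char_is_prime F p⟩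
  obtain ⟨k, -, hk⟩ := FiniteField.card F p
  obtain ⟨i, -, hi⟩ := (Nat.dvd_prime_pow hpf.out).1
    (show q ∣ p ^ (k : ℕ) by rw [← hk, hF]; exact dvd_pow_self _ (by norm_num))
  haveI : ExpChar F p := ExpChar.prime hpf.out
  let σ : F →+* F := iterateFrobenius F p i
  have hσ : ∀ x : F, σ x = x ^ q := fun x => by rw [hi]; exact iterateFrobenius_def ..
  letI : StarRing F := Cfsg.Agent.Small.Hermitian.starRingOfInvolution σ (fun x => by
    rw [hσ, hσ, ← pow_mul, ← sq, ← hF, FiniteField.pow_card])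
  have hstar : ∀ x : F, star x = x ^ q := hσ
  obtain ⟨t0, ht0⟩ := IsCyclic.exists_generator (α := Fˣ)
  let D : Cfsg.Agent.Small.SU3Pres.Prm F q :=
    { hF := hF
      hstar := hstar
      q3 := by have := Cfsg.Agent.Small.Hermitian.q_two_le hF; omega
      t0 := t0
      gen := ht0 }
  obtain ⟨rels, hc, e, -⟩ := Cfsg.Agent.Small.SU3Pres.presentation D (by have := Cfsg.Agent.Small.Hermitian.q_two_le hF; omega)
  obtain ⟨φ⟩ := Cfsg.Agent.Small.SU3Pres.exists_equiv hstar hF
  refine ⟨⟨rels, hc.trans (by norm_num), ⟨e.trans φ⟩⟩, ?_⟩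
  obtain ⟨z, hz⟩ := Cfsg.Agent.Small.SU3Pres.center_cyclic D
  obtain ⟨R, hR, ⟨e'⟩⟩ := Cfsg.Agent.Small.SU3Pres.quotient_pres rels hc e z _ hz
  refine ⟨R, hR.trans (by norm_num), ⟨e'.trans (QuotientGroup.congr _ _ φ ?_)⟩⟩
  ext x
  simp only [Subgroup.mem_map, Subgroup.mem_center_iff]
  constructor
  · rintro ⟨y, hy, rfl⟩ g
    obtain ⟨g', rfl⟩ := φ.surjective g
    show φ g' * φ y = φ y * φ g'
    rw [← map_mul, ← map_mul, hy]
  · intro hx
    refine ⟨φ.symm x, fun g => φ.injective ?_, φ.apply_symm_apply x⟩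
    rw [map_mul, map_mul, φ.apply_symm_apply]
    exact hx _

end Cfsg.Agent.S2289
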