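import Cfsg.Statements.S2295
import Cfsg.Agent.Lib.Small.OmegaPres.Pres
-- import your own Cfsg.Agent.* helpers here

set_option autoImplicit false
open Cfsg

namespace Cfsg.Agent.S2295

/-- Let F be a finite field and n ≥ 4, and let Ω⁺_2n(F) be the commutator subgroup of the orthogonal group of the hyperbolic quadratic form Σ x_i y_i, with PΩ⁺_2n(F) its central quotient. Then Ω⁺_2n(F) has a presentation with 8 generators and at most 31 relations (at most 29 if n = 4 or 5), and PΩ⁺_2n(F) one with 8 generators and at most 32 relations (at most 30 if n = 4 or 5). -/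
theorem result {F : Type*} [Field F] [Fintype F] (n : ℕ) (hn : 4 ≤ n) :
    (∃ rels : Finset (FreeGroup (Fin 8)), rels.card ≤ 31 ∧ Nonempty (PresentedGroup (↑rels : Set (FreeGroup (Fin 8))) ≃* ↥(Cfsg.Omega F (Cfsg.quadFormPlus n F)))) ∧ (∃ rels : Finset (FreeGroup (Fin 8)), rels.card ≤ 32 ∧ Nonempty (PresentedGroup (↑rels : Set (FreeGroup (Fin 8))) ≃* Cfsg.POmega F (Cfsg.quadFormPlus n F))) ∧
    (n ≤ 5 → (∃ rels : Finset (FreeGroup (Fin 8)), rels.card ≤ 29 ∧ Nonempty (PresentedGroup (↑rels : Set (FreeGroup (Fin 8))) ≃* ↥(Cfsg.Omega F (Cfsg.quadFormPlus n F)))) ∧ (∃ rels : Finset (FreeGroup (Fin 8)), rels.card ≤ 30 ∧ Nonempty (PresentedGroup (↑rels : Set (FreeGroup (Fin 8))) ≃* Cfsg.POmega F (Cfsg.quadFormPlus n F)))) := by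
  classical
  obtain ⟨l, rfl⟩ : ∃ l, n = l + 2 := ⟨n - 2, by omega⟩
  have hl : 2 ≤ l := by omega
  have key : Small.BoundedPres.PresN 8 ↥(Cfsg.Omega F (Cfsg.quadFormPlus (l + 2) F)) (if l + 2 ≤ 5 then 29 else 31) ∧
      ∃ z, Subgroup.normalClosure {z} = Subgroup.center ↥(Cfsg.Omega F (Cfsg.quadFormPlus (l + 2) F)) := by
    by_cases h2 : l = 2
    · subst h2
      obtain ⟨h, hz⟩ := Small.OmegaPres.presN_Omega hl (Small.BoundedPres.presN_SL_four_short (F := F))
      exact ⟨(h.succ.succ).mono (by norm_num), hz⟩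
    by_cases h3 : l = 3
    · subst h3
      obtain ⟨h, hz⟩ := Small.OmegaPres.presN_Omega hl (Small.BoundedPres.presN_SL_five (F := F))
      exact ⟨(h.succ.succ).mono (by norm_num), hz⟩
    · obtain ⟨h, hz⟩ := Small.OmegaPres.presN_Omega hl (Small.BoundedPres.presN_SL_six (F := F) (l + 2) (by omega))
      exact ⟨(h.succ).mono (by rw [if_neg h2, if_neg (by omega)]), hz⟩
  obtain ⟨h, z, hz⟩ := key
  have hP : Small.BoundedPres.PresN 8 (Cfsg.POmega F (Cfsg.quadFormPlus (l + 2) F))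
      ((if l + 2 ≤ 5 then 29 else 31) + 1) := h.quotient z _ hz
  refine ⟨h.mono (by split_ifs <;> omega), hP.mono (by split_ifs <;> omega), fun h5 => ⟨?_, ?_⟩⟩
  · exact h.mono (by rw [if_pos h5])
  · exact hP.mono (by rw [if_pos h5])

end Cfsg.Agent.S2295
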