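import Cfsg.Statements.S2296
import Cfsg.Agent.Lib.Small.BoundedPres.SLnShortAll
import Cfsg.Agent.Lib.Small.SpPres.Main
-- import your own Cfsg.Agent.* helpers here

set_option autoImplicit false
open Cfsg

namespace Cfsg.Agent.S2296

/-- Let F be a finite field. Sp_2n(F) has a presentation with 10 generators and at most 58 relations for n ≥ 4, with 9 generators and at most 57 relations for n = 4 or 5, and with 8 generators and at most 52 relations for n = 3; in each case PSp_2n(F) has a presentation with the same number of generators and at most one more relation. -/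
theorem result {F : Type*} [Field F] [Fintype F] (n : ℕ) :
    (4 ≤ n → (∃ rels : Finset (FreeGroup (Fin 10)), rels.card ≤ 58 ∧ Nonempty (PresentedGroup (↑rels : Set (FreeGroup (Fin 10))) ≃* Matrix.symplecticGroup (Fin n) F)) ∧ (∃ rels : Finset (FreeGroup (Fin 10)), rels.card ≤ 59 ∧ Nonempty (PresentedGroup (↑rels : Set (FreeGroup (Fin 10))) ≃* Cfsg.PSp n F))) ∧
    ((n = 4 ∨ n = 5) → (∃ rels : Finset (FreeGroup (Fin 9)), rels.card ≤ 57 ∧ Nonempty (PresentedGroup (↑rels : Set (FreeGroup (Fin 9))) ≃* Matrix.symplecticGroup (Fin n) F)) ∧ (∃ rels : Finset (FreeGroup (Fin 9)), rels.card ≤ 58 ∧ Nonempty (PresentedGroup (↑rels : Set (FreeGroup (Fin 9))) ≃* Cfsg.PSp n F))) ∧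
    (n = 3 → (∃ rels : Finset (FreeGroup (Fin 8)), rels.card ≤ 52 ∧ Nonempty (PresentedGroup (↑rels : Set (FreeGroup (Fin 8))) ≃* Matrix.symplecticGroup (Fin n) F)) ∧ (∃ rels : Finset (FreeGroup (Fin 8)), rels.card ≤ 53 ∧ Nonempty (PresentedGroup (↑rels : Set (FreeGroup (Fin 8))) ≃* Cfsg.PSp n F))) := by
  have key : 4 ≤ n → ∃ rels : Finset (FreeGroup (Fin 9)), rels.card ≤ 49 ∧
      Nonempty (PresentedGroup (↑rels : Set (FreeGroup (Fin 9))) ≃* Matrix.symplecticGroup (Fin n) F) := by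
    intro h
    obtain ⟨r, hr, ⟨e⟩⟩ := Small.BoundedPres.presN_SL_six (F := F) n h
    obtain ⟨R, hR, he⟩ := Small.SpPres.pres_of_SL (F := F) (m := n) (by omega) r hr e
    exact ⟨R, hR.trans (by split_ifs <;> norm_num), he⟩
  refine ⟨fun h => ?_, fun h => ?_, fun h => ?_⟩
  · obtain ⟨r, hr, ⟨e⟩⟩ := key h
    obtain ⟨R, hR, ⟨e'⟩⟩ := Small.SpPres.add_gens 1 r hr e
    obtain ⟨R', hR', he'⟩ := Small.SpPres.projective R hR e'
    exact ⟨⟨R, hR.trans (by norm_num), ⟨e'⟩⟩, ⟨R', hR'.trans (by norm_num), he'⟩⟩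
  · obtain ⟨r, hr, ⟨e⟩⟩ := key (by omega)
    obtain ⟨R', hR', he'⟩ := Small.SpPres.projective r hr e
    exact ⟨⟨r, hr.trans (by norm_num), ⟨e⟩⟩, ⟨R', hR'.trans (by norm_num), he'⟩⟩
  · subst h
    obtain ⟨r, hr, ⟨e⟩⟩ := Small.SpPres.sp6 (F := F)
    obtain ⟨R', hR', he'⟩ := Small.SpPres.projective r hr e
    exact ⟨⟨r, hr.trans (by norm_num), ⟨e⟩⟩, ⟨R', hR'.trans (by norm_num), he'⟩⟩

end Cfsg.Agent.S2296
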