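import Cfsg.Statements.S2298
import Cfsg.Agent.Lib.Lead.GL2Class
import Mathlib

set_option autoImplicit false
open Cfsg

namespace Cfsg.Agent.S2298

/-- Over a finite field F with q elements, every irreducible complex character of GL₂ has degree 1, q − 1, q or q + 1; and when q ≥ 3 (so that these four numbers are distinct) there are exactly q − 1 irreducible characters of degree 1, exactly q − 1 of degree q, exactly (q − 1)(q − 2)/2 of degree q + 1 and exactly q(q − 1)/2 of degree q − 1. -/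
theorem result {F : Type*} [Field F] [Fintype F] :
    (∀ χ : Matrix.GeneralLinearGroup (Fin 2) F → ℂ, Cfsg.IsIrrCharacter (Matrix.GeneralLinearGroup (Fin 2) F) χ →
      χ 1 = 1 ∨ χ 1 = (Fintype.card F : ℂ) - 1 ∨ χ 1 = (Fintype.card F : ℂ) ∨ χ 1 = (Fintype.card F : ℂ) + 1) ∧
    (3 ≤ Fintype.card F →
      Nat.card {χ : Cfsg.IrrCharacter (Matrix.GeneralLinearGroup (Fin 2) F) // (χ : Matrix.GeneralLinearGroup (Fin 2) F → ℂ) 1 = 1} = Fintype.card F - 1 ∧
      Nat.card {χ : Cfsg.IrrCharacter (Matrix.GeneralLinearGroup (Fin 2) F) // (χ : Matrix.GeneralLinearGroup (Fin 2) F → ℂ) 1 = (Fintype.card F : ℂ)} = Fintype.card F - 1 ∧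
      Nat.card {χ : Cfsg.IrrCharacter (Matrix.GeneralLinearGroup (Fin 2) F) // (χ : Matrix.GeneralLinearGroup (Fin 2) F → ℂ) 1 = (Fintype.card F : ℂ) + 1} = (Fintype.card F - 1) * (Fintype.card F - 2) / 2 ∧
      Nat.card {χ : Cfsg.IrrCharacter (Matrix.GeneralLinearGroup (Fin 2) F) // (χ : Matrix.GeneralLinearGroup (Fin 2) F → ℂ) 1 = (Fintype.card F : ℂ) - 1} = Fintype.card F * (Fintype.card F - 1) / 2) := by
  classical
  have hq := Fintype.one_lt_card (α := F)
  constructor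
  · intro χ hχ
    rcases Cfsg.Agent.Lead.GL2.classify hχ with ⟨α, rfl⟩ | ⟨α, rfl⟩ | ⟨α, β, -, rfl⟩ | ⟨-, hd, -⟩
    · exact Or.inl (Cfsg.Agent.Lead.GL2.linDet_one α)
    · exact Or.inr (Or.inr (Or.inl (Cfsg.Agent.Lead.GL2.st_one_val α)))
    · exact Or.inr (Or.inr (Or.inr (Cfsg.Agent.Lead.GL2.ps_one_val α β)))
    · exact Or.inr (Or.inl (by rw [hd, Nat.cast_sub hq.le, Nat.cast_one]))
  intro h3
  haveI : Fintype (MulChar F ℂ) := Fintype.ofFinite _
  let d : Cfsg.Agent.Lead.GL2.Idx F ⊕ Cfsg.Agent.Lead.GL2.Cusp F → ℕ :=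
    Sum.elim (Sum.elim (Sum.elim (fun _ => 1) (fun _ => Fintype.card F)) (fun _ => Fintype.card F + 1))
      (fun _ => Fintype.card F - 1)
  have hval : ∀ x, ((Cfsg.Agent.Lead.GL2.irrEquiv x : Cfsg.IrrCharacter (Matrix.GeneralLinearGroup (Fin 2) F)) :
      Matrix.GeneralLinearGroup (Fin 2) F → ℂ) 1 = ((d x : ℕ) : ℂ) := by
    rintro (i | c)
    · refine (Cfsg.Agent.Lead.GL2.idxChar_one i).trans ?_
      rcases i with (α | α) | z <;> simp [d]
    · exact Cfsg.Agent.Lead.GL2.cusp_count.1 c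
  have key : ∀ {β : Type _} (v : ℕ) (f : β → Cfsg.Agent.Lead.GL2.Idx F ⊕ Cfsg.Agent.Lead.GL2.Cusp F),
      Function.Injective f → (∀ b, d (f b) = v) → (∀ x, d x = v → ∃ b, f b = x) →
      Nat.card {χ : Cfsg.IrrCharacter (Matrix.GeneralLinearGroup (Fin 2) F) //
        (χ : Matrix.GeneralLinearGroup (Fin 2) F → ℂ) 1 = (v : ℂ)} = Nat.card β := by
    intro β v f hf h1 h2
    refine (Nat.card_congr (Equiv.ofBijective (fun b => ⟨Cfsg.Agent.Lead.GL2.irrEquiv (f b), by
      rw [hval, h1]⟩) ⟨fun a b h => hf (Cfsg.Agent.Lead.GL2.irrEquiv.injective (congrArg Subtype.val h)), ?_⟩)).symm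
    rintro ⟨χ, hχ⟩
    obtain ⟨x, rfl⟩ := Cfsg.Agent.Lead.GL2.irrEquiv.surjective χ
    rw [hval, Nat.cast_inj] at hχ
    obtain ⟨b, rfl⟩ := h2 x hχ
    exact ⟨b, rfl⟩
  have hlin : Nat.card (MulChar F ℂ) = Fintype.card F - 1 := by
    rw [Nat.card_eq_fintype_card, Cfsg.Agent.Lead.GL2.card_mulChar]
  refine ⟨?_, ?_, ?_, ?_⟩
  · rw [← Nat.cast_one, key 1 (fun a => Sum.inl (Sum.inl (Sum.inl a)))
      (fun a b h => by simpa using h) (fun _ => rfl) (fun x hx => by
        rcases x with ((a | a) | z) | c <;> first | exact ⟨_, rfl⟩ | (exfalso; simp [d] at hx; omega) | (exfalso; simp [d] at hx))]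
    exact hlin
  · rw [key (Fintype.card F) (fun a => Sum.inl (Sum.inl (Sum.inr a)))
      (fun a b h => by simpa using h) (fun _ => rfl) (fun x hx => by
        rcases x with ((a | a) | z) | c <;> first | exact ⟨_, rfl⟩ | (exfalso; simp [d] at hx; omega) | (exfalso; simp [d] at hx))]
    exact hlin
  · haveI : Fintype {z : Sym2 (MulChar F ℂ) // ¬ z.IsDiag} := Fintype.ofFinite _
    rw [← Nat.cast_one, ← Nat.cast_add, key (Fintype.card F + 1) (fun z => Sum.inl (Sum.inr z))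
      (fun a b h => by simpa using h) (fun _ => rfl) (fun x hx => by
        rcases x with ((a | a) | z) | c <;> first | exact ⟨_, rfl⟩ | (exfalso; simp [d] at hx; omega) | (exfalso; simp [d] at hx))]
    rw [show Fintype.card F - 2 = Fintype.card F - 1 - 1 by omega,
      ← Cfsg.Agent.Lead.GL2.card_idx_pairs, Nat.mul_div_cancel _ (by norm_num), Nat.card_eq_fintype_card]
  · rw [← Nat.cast_one, ← Nat.cast_sub hq.le, key (Fintype.card F - 1) (fun c => Sum.inr c)
      (fun a b h => by simpa using h) (fun _ => rfl) (fun x hx => by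
        rcases x with ((a | a) | z) | c <;> first | exact ⟨_, rfl⟩ | (exfalso; simp [d] at hx; omega))]
    rw [← Cfsg.Agent.Lead.GL2.cusp_count.2, Nat.mul_div_cancel _ (by norm_num)]

end Cfsg.Agent.S2298
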