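import Cfsg.Statements.S2309
import Cfsg.Agent.Lib.Lead.GL2Class
import Mathlib

set_option autoImplicit false
open Cfsg

namespace Cfsg.Agent.S2309

/-- Over a finite field F with q elements: every irreducible complex character of GL₂ of degree q − 1 vanishes at every diagonal matrix with two distinct entries, and every irreducible complex character of degree q + 1 vanishes at every element with no eigenvector in F². -/
theorem result {F : Type*} [Field F] [Fintype F] (χ : Matrix.GeneralLinearGroup (Fin 2) F → ℂ) (hχ : Cfsg.IsIrrCharacter (Matrix.GeneralLinearGroup (Fin 2) F) χ) (g : Matrix.GeneralLinearGroup (Fin 2) F) :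
    (χ 1 = (Fintype.card F : ℂ) - 1 → (g : Matrix (Fin 2) (Fin 2) F) 0 1 = 0 → (g : Matrix (Fin 2) (Fin 2) F) 1 0 = 0 → (g : Matrix (Fin 2) (Fin 2) F) 0 0 ≠ (g : Matrix (Fin 2) (Fin 2) F) 1 1 → χ g = 0) ∧
    (χ 1 = (Fintype.card F : ℂ) + 1 → (∀ (c : F) (v : Fin 2 → F), v ≠ 0 → (g : Matrix (Fin 2) (Fin 2) F).mulVec v ≠ c • v) → χ g = 0) := by
  classical
  have hq := Fintype.one_lt_card (α := F)
  rcases Cfsg.Agent.Lead.GL2.classify hχ with ⟨α, rfl⟩ | ⟨α, rfl⟩ | ⟨α, β, -, rfl⟩ | ⟨hc, hd, -⟩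
  all_goals refine ⟨fun h1 h01 h10 hne => ?_, fun h1 hg => ?_⟩
  all_goals try (simp only [Cfsg.Agent.Lead.GL2.linDet_one, Cfsg.Agent.Lead.GL2.st_one_val, Cfsg.Agent.Lead.GL2.ps_one_val] at h1)
  · exfalso
    have hcard : Fintype.card F = 2 := by
      have h2 : (Fintype.card F : ℂ) = 2 := by linear_combination -h1
      exact_mod_cast h2
    have h00 : (g : Matrix (Fin 2) (Fin 2) F) 0 0 ≠ 0 ∧ (g : Matrix (Fin 2) (Fin 2) F) 1 1 ≠ 0 :=
      Cfsg.Agent.Lead.GL2.borel_diag_ne (Cfsg.Agent.Lead.GL2.mem_borel.2 h10)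
    have : Subsingleton Fˣ := Fintype.card_le_one_iff_subsingleton.1 (by rw [Fintype.card_units, hcard])
    exact hne (congrArg Units.val (Subsingleton.elim (Units.mk0 _ h00.1) (Units.mk0 _ h00.2)))
  · have : (Fintype.card F : ℂ) = 0 := by linear_combination -h1
    norm_num [Fintype.card_ne_zero] at this
  · have : (0 : ℂ) = 1 := by linear_combination -h1
    norm_num at this
  · have : (0 : ℂ) = 1 := by linear_combination h1
    norm_num at this
  · have : (2 : ℂ) = 0 := by linear_combination h1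
    norm_num at this
  · exact Cfsg.Agent.Lead.GL2.ps_elliptic α β hg
  · have h00 : (g : Matrix (Fin 2) (Fin 2) F) 0 0 ≠ 0 ∧ (g : Matrix (Fin 2) (Fin 2) F) 1 1 ≠ 0 :=
      Cfsg.Agent.Lead.GL2.borel_diag_ne (Cfsg.Agent.Lead.GL2.mem_borel.2 h10)
    have hg' : g = Cfsg.Agent.Lead.GL2.up (Units.mk0 _ h00.1) (Units.mk0 _ h00.2) 0 := by
      refine Cfsg.Agent.Lead.GL2.ext2 ?_ ?_ ?_ ?_ <;> simp [Cfsg.Agent.Lead.GL2.mat, Cfsg.Agent.Lead.GL2.up, h01, h10]
    rw [hg']
    exact Cfsg.Agent.Lead.GL2.cusp_diag (Cfsg.Agent.Char.irr_isCharacter hχ) hc _ _ hne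
  · rw [hd, Nat.cast_sub hq.le, Nat.cast_one] at h1
    have : (2 : ℂ) = 0 := by linear_combination -h1
    norm_num at this

end Cfsg.Agent.S2309
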