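import Cfsg.Statements.S2310
import Cfsg.Agent.Lib.Lead.GL2Class
import Mathlib

set_option autoImplicit false
open Cfsg

namespace Cfsg.Agent.S2310

/-- Over a finite field F with q ≥ 3 elements, let u be the upper unitriangular matrix of GL₂ with off-diagonal entry 1. An irreducible complex character χ of GL₂ takes at u the value 1 if χ has degree 1 or q + 1, the value −1 if χ has degree q − 1, and the value 0 if χ has degree q. -/
theorem result {F : Type*} [Field F] [Fintype F] (hq : 3 ≤ Fintype.card F) (χ : Matrix.GeneralLinearGroup (Fin 2) F → ℂ) (hχ : Cfsg.IsIrrCharacter (Matrix.GeneralLinearGroup (Fin 2) F) χ)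
    (u : Matrix.GeneralLinearGroup (Fin 2) F) (hu : (u : Matrix (Fin 2) (Fin 2) F) = !![1, 1; 0, 1]) :
    (χ 1 = 1 → χ u = 1) ∧ (χ 1 = (Fintype.card F : ℂ) + 1 → χ u = 1) ∧
    (χ 1 = (Fintype.card F : ℂ) - 1 → χ u = -1) ∧ (χ 1 = (Fintype.card F : ℂ) → χ u = 0) := by
  classical
  have hu' : u = Cfsg.Agent.Lead.GL2.up 1 1 1 := by
    refine Cfsg.Agent.Lead.GL2.ext2 ?_ ?_ ?_ ?_ <;> simp [Cfsg.Agent.Lead.GL2.mat, Cfsg.Agent.Lead.GL2.up, hu]
  subst hu'
  have hq' : (3 : ℕ) ≤ Fintype.card F := hq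
  rcases Cfsg.Agent.Lead.GL2.classify hχ with ⟨α, rfl⟩ | ⟨α, rfl⟩ | ⟨α, β, -, rfl⟩ | ⟨-, hd, hu2⟩
  · simp only [Cfsg.Agent.Lead.GL2.linDet_one, Cfsg.Agent.Lead.GL2.linDet_u]
    refine ⟨fun _ => trivial, fun _ => trivial, fun h => ?_, fun h => ?_⟩ <;> exfalso
    · have : ((2 : ℕ) : ℂ) = ((Fintype.card F : ℕ) : ℂ) := by push_cast; linear_combination h
      norm_cast at this; omega
    · norm_cast at h; omega
  · simp only [Cfsg.Agent.Lead.GL2.st_one_val, Cfsg.Agent.Lead.GL2.st_u]
    refine ⟨fun h => ?_, fun h => ?_, fun h => ?_, fun _ => trivial⟩ <;> exfalso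
    · norm_cast at h; omega
    · norm_cast at h; omega
    · have : (0 : ℂ) = 1 := by linear_combination -h
      norm_num at this
  · simp only [Cfsg.Agent.Lead.GL2.ps_one_val, Cfsg.Agent.Lead.GL2.ps_u]
    refine ⟨fun _ => trivial, fun _ => trivial, fun h => ?_, fun h => ?_⟩ <;> exfalso
    · have : (2 : ℂ) = 0 := by linear_combination h
      norm_num at this
    · norm_cast at h; omega
  · rw [hd, hu2, Nat.cast_sub (by omega), Nat.cast_one]
    refine ⟨fun h => ?_, fun h => ?_, fun _ => rfl, fun h => ?_⟩ <;> exfalso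
    · have : ((Fintype.card F : ℕ) : ℂ) = ((2 : ℕ) : ℂ) := by push_cast; linear_combination h
      norm_cast at this; omega
    · have : (2 : ℂ) = 0 := by linear_combination -h
      norm_num at this
    · have : (1 : ℂ) = 0 := by linear_combination -h
      norm_num at this

end Cfsg.Agent.S2310
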