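import Cfsg.Statements.S2320
import Cfsg.Agent.Lib.Lead.GL2Class
import Mathlib

set_option autoImplicit false
open Cfsg

namespace Cfsg.Agent.S2320

/-- Over a finite field F with q elements, every irreducible complex character of GL₂ of degree q takes a value of absolute value 1 at every diagonal matrix with two different diagonal entries and at every element with no eigenvector in F². -/
theorem result {F : Type*} [Field F] [Fintype F] (χ : Matrix.GeneralLinearGroup (Fin 2) F → ℂ) (hχ : Cfsg.IsIrrCharacter (Matrix.GeneralLinearGroup (Fin 2) F) χ) (hdeg : χ 1 = (Fintype.card F : ℂ)) (g : Matrix.GeneralLinearGroup (Fin 2) F) :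
    ((g : Matrix (Fin 2) (Fin 2) F) 0 1 = 0 → (g : Matrix (Fin 2) (Fin 2) F) 1 0 = 0 → (g : Matrix (Fin 2) (Fin 2) F) 0 0 ≠ (g : Matrix (Fin 2) (Fin 2) F) 1 1 → ‖χ g‖ = 1) ∧
    ((∀ (c : F) (v : Fin 2 → F), v ≠ 0 → (g : Matrix (Fin 2) (Fin 2) F).mulVec v ≠ c • v) → ‖χ g‖ = 1) := by
  classical
  have hq := Fintype.one_lt_card (α := F)
  have hnorm : ∀ (α : MulChar F ℂ) (a : Fˣ), ‖α (a : F)‖ = 1 := fun α a => by
    refine Complex.norm_eq_one_of_pow_eq_one (n := Fintype.card Fˣ) ?_ Fintype.card_ne_zero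
    rw [← map_pow, ← Units.val_pow_eq_pow_val, pow_card_eq_one, Units.val_one, map_one]
  rcases Cfsg.Agent.Lead.GL2.classify hχ with ⟨α, rfl⟩ | ⟨α, rfl⟩ | ⟨α, β, -, rfl⟩ | ⟨-, hd, -⟩
  · rw [Cfsg.Agent.Lead.GL2.linDet_one] at hdeg
    norm_cast at hdeg
    omega
  · refine ⟨fun h01 h10 hne => ?_, fun hg => ?_⟩
    · have h00 : (g : Matrix (Fin 2) (Fin 2) F) 0 0 ≠ 0 ∧ (g : Matrix (Fin 2) (Fin 2) F) 1 1 ≠ 0 :=
        Cfsg.Agent.Lead.GL2.borel_diag_ne (Cfsg.Agent.Lead.GL2.mem_borel.2 h10)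
      have hg' : g = Cfsg.Agent.Lead.GL2.up (Units.mk0 _ h00.1) (Units.mk0 _ h00.2) 0 := by
        refine Cfsg.Agent.Lead.GL2.ext2 ?_ ?_ ?_ ?_ <;> simp [Cfsg.Agent.Lead.GL2.mat, Cfsg.Agent.Lead.GL2.up, h01, h10]
      rw [hg', Cfsg.Agent.Lead.GL2.st, Pi.sub_apply, Cfsg.Agent.Lead.GL2.ps_diag _ _ _ _ hne,
        Cfsg.Agent.Lead.GL2.linDet_up, mul_comm (α ((Units.mk0 _ h00.2 : Fˣ) : F)), add_sub_cancel_right,
        norm_mul, hnorm, hnorm, one_mul]
    · rw [Cfsg.Agent.Lead.GL2.st, Pi.sub_apply, Cfsg.Agent.Lead.GL2.ps_elliptic _ _ hg, zero_sub, norm_neg]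
      have : (Cfsg.Agent.Lead.GL2.mat g).det = ((Matrix.GeneralLinearGroup.det g : Fˣ) : F) :=
        (Matrix.GeneralLinearGroup.val_det_apply g).symm
      rw [Cfsg.Agent.Lead.GL2.linDet, this, hnorm]
  · rw [Cfsg.Agent.Lead.GL2.ps_one_val] at hdeg
    norm_num at hdeg
  · rw [hd, Nat.cast_sub hq.le, Nat.cast_one] at hdeg
    norm_num at hdeg

end Cfsg.Agent.S2320
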