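import Cfsg.Statements.S2321
import Cfsg.Agent.Lib.Lead.SL2Ind
import Mathlib

set_option autoImplicit false
open Cfsg

namespace Cfsg.Agent.S2321

/-- Over a finite field F with q elements, an irreducible complex character of SL₂ of degree q (the Steinberg character) takes the value 1 at every diagonal matrix whose diagonal entry a has a² ≠ 1, the value −1 at every element with no eigenvector in F², and the value 0 at every upper triangular matrix with equal diagonal entries and non-zero upper right entry. -/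
theorem result {F : Type*} [Field F] [Fintype F] (χ : Matrix.SpecialLinearGroup (Fin 2) F → ℂ) (hχ : Cfsg.IsIrrCharacter (Matrix.SpecialLinearGroup (Fin 2) F) χ) (hdeg : χ 1 = (Fintype.card F : ℂ)) (g : Matrix.SpecialLinearGroup (Fin 2) F) :
    ((g : Matrix (Fin 2) (Fin 2) F) 0 1 = 0 → (g : Matrix (Fin 2) (Fin 2) F) 1 0 = 0 → (g : Matrix (Fin 2) (Fin 2) F) 0 0 ^ 2 ≠ 1 → χ g = 1) ∧
    ((∀ (c : F) (v : Fin 2 → F), v ≠ 0 → (g : Matrix (Fin 2) (Fin 2) F).mulVec v ≠ c • v) → χ g = -1) ∧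
    ((g : Matrix (Fin 2) (Fin 2) F) 1 0 = 0 → (g : Matrix (Fin 2) (Fin 2) F) 0 0 = (g : Matrix (Fin 2) (Fin 2) F) 1 1 → (g : Matrix (Fin 2) (Fin 2) F) 0 1 ≠ 0 → χ g = 0) := by
  classical
  haveI : Fintype (MulChar F ℂ) := Fintype.ofFinite _
  have hq1 := Fintype.one_lt_card (α := F)
  obtain ⟨n, hn, hk⟩ := Cfsg.Agent.Lead.SL2.kind hχ
  rw [hn, Nat.cast_inj] at hdeg
  cases hk with
  | one _ hm => omega
  | prin γ _ _ hm => omega
  | cusp _ _ _ _ _ hm => omega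
  | halfPs _ ho _ hm => omega
  | halfCusp _ _ _ _ _ ho _ hm => omega
  | st hst _ =>
    subst hst
    refine ⟨fun h01 h10 hne => ?_, fun he => ?_, fun h10 heq hb => ?_⟩
    · obtain ⟨a, ha, hg⟩ := Cfsg.Agent.Lead.SL2.toGL2_diag h01 h10
      rw [← ha] at hne
      simp only [Cfsg.Agent.Lead.SL2.St0, Cfsg.Agent.Lead.SL2.res, hg, Cfsg.Agent.Lead.GL2.st,
        Pi.sub_apply, Cfsg.Agent.Lead.GL2.ps_diag _ _ _ _ (Cfsg.Agent.Lead.SL2.diag_ne hne),
        Cfsg.Agent.Lead.GL2.linDet_up, MulChar.one_apply_coe]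
      norm_num
    · simp only [Cfsg.Agent.Lead.SL2.St0, Cfsg.Agent.Lead.SL2.res, Cfsg.Agent.Lead.GL2.st, Pi.sub_apply,
        Cfsg.Agent.Lead.GL2.ps_elliptic _ _ (Cfsg.Agent.Lead.SL2.noEigen_toGL2 he),
        Cfsg.Agent.Lead.GL2.linDet, Cfsg.Agent.Lead.SL2.det_toGL2, map_one]
      norm_num
    · have hd : (g : Matrix (Fin 2) (Fin 2) F).det = 1 := g.2
      rw [Matrix.det_fin_two, h10, mul_zero, sub_zero] at hd
      have ha : (g : Matrix (Fin 2) (Fin 2) F) 0 0 ≠ 0 := left_ne_zero_of_mul (hd ▸ one_ne_zero)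
      have hg : Cfsg.Agent.Lead.SL2.toGL2 g = Cfsg.Agent.Lead.GL2.up (Units.mk0 _ ha) (Units.mk0 _ ha)
          ((g : Matrix (Fin 2) (Fin 2) F) 0 1) :=
        Cfsg.Agent.Lead.GL2.ext2 rfl rfl h10 heq.symm
      simp only [Cfsg.Agent.Lead.SL2.St0, Cfsg.Agent.Lead.SL2.res, hg, Cfsg.Agent.Lead.GL2.st,
        Pi.sub_apply, Cfsg.Agent.Lead.GL2.ps_borel, Cfsg.Agent.Lead.GL2.linDet_up, MulChar.one_apply_coe]
      simp [hb]

end Cfsg.Agent.S2321
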