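import Cfsg.Statements.S2322
import Cfsg.Agent.Lib.Lead.SL2Ind
import Mathlib

set_option autoImplicit false
open Cfsg

namespace Cfsg.Agent.S2322

/-- Over a finite field F with q elements, q odd: every irreducible complex character of SL₂ of degree q − 1 or (q − 1)/2 vanishes at every diagonal matrix whose diagonal entry a has a² ≠ 1, and every irreducible complex character of degree q + 1 or (q + 1)/2 vanishes at every element with no eigenvector in F². -/
theorem result {F : Type*} [Field F] [Fintype F] (hodd : Odd (Fintype.card F)) (χ : Matrix.SpecialLinearGroup (Fin 2) F → ℂ) (hχ : Cfsg.IsIrrCharacter (Matrix.SpecialLinearGroup (Fin 2) F) χ) (g : Matrix.SpecialLinearGroup (Fin 2) F) :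
    ((χ 1 = (Fintype.card F : ℂ) - 1 ∨ χ 1 = (((Fintype.card F - 1) / 2 : ℕ) : ℂ)) →
      (g : Matrix (Fin 2) (Fin 2) F) 0 1 = 0 → (g : Matrix (Fin 2) (Fin 2) F) 1 0 = 0 → (g : Matrix (Fin 2) (Fin 2) F) 0 0 ^ 2 ≠ 1 → χ g = 0) ∧
    ((χ 1 = (Fintype.card F : ℂ) + 1 ∨ χ 1 = (((Fintype.card F + 1) / 2 : ℕ) : ℂ)) →
      (∀ (c : F) (v : Fin 2 → F), v ≠ 0 → (g : Matrix (Fin 2) (Fin 2) F).mulVec v ≠ c • v) → χ g = 0) := by
  classical
  haveI : Fintype (MulChar F ℂ) := Fintype.ofFinite _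
  have hq1 := Fintype.one_lt_card (α := F)
  have ho := Nat.odd_iff.1 hodd
  obtain ⟨n, hn, hk⟩ := Cfsg.Agent.Lead.SL2.kind hχ
  rw [hn, ← Nat.cast_one, ← Nat.cast_add, ← Nat.cast_sub hq1.le]
  simp only [Nat.cast_inj]
  constructor
  · intro hd h01 h10 hne
    obtain ⟨a, ha, hg⟩ := Cfsg.Agent.Lead.SL2.toGL2_diag h01 h10
    rw [← ha] at hne
    have h3 : Fintype.card F ≠ 3 := by
      intro h3
      have := FiniteField.pow_card_sub_one_eq_one (a : F) a.ne_zero
      rw [h3] at this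
      exact hne this
    have hv := Cfsg.Agent.Lead.SL2.diag_ne hne
    cases hk with
    | one _ hm => omega
    | st _ hm => omega
    | prin γ _ _ hm => omega
    | cusp χ' hχ' hc _ h _ =>
      rw [h, Cfsg.Agent.Lead.SL2.res, hg]
      exact Cfsg.Agent.Lead.GL2.cusp_diag (Cfsg.Agent.Char.irr_isCharacter hχ') hc _ _ hv
    | halfPs φ _ _ hm => omega
    | halfCusp χ' φ hχ' hc _ _ h _ =>
      have := h.at_diag hodd hg
      rw [Cfsg.Agent.Lead.GL2.cusp_diag (Cfsg.Agent.Char.irr_isCharacter hχ') hc _ _ hv] at this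
      linear_combination this / 2
  · intro hd he
    cases hk with
    | one _ hm => omega
    | st _ hm => omega
    | prin γ _ h _ =>
      rw [h]
      exact Cfsg.Agent.Lead.GL2.ps_elliptic _ _ (Cfsg.Agent.Lead.SL2.noEigen_toGL2 he)
    | cusp χ' hχ' hc hf h hm =>
      rw [h]
      exact Cfsg.Agent.Lead.SL2.free_elliptic_three (by omega) hχ' hc hf he
    | halfPs φ _ h _ =>
      have := h.at_elliptic hodd he
      rw [Cfsg.Agent.Lead.GL2.ps_elliptic _ _ (Cfsg.Agent.Lead.SL2.noEigen_toGL2 he)] at this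
      linear_combination this / 2
    | halfCusp χ' φ _ _ _ _ _ hm => omega

end Cfsg.Agent.S2322
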