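import Cfsg.Statements.S2324
import Cfsg.Agent.Lib.Lead.SL2Ind
import Mathlib

set_option autoImplicit false
open Cfsg

namespace Cfsg.Agent.S2324

/-- Over a finite field F with q elements, q odd and q ≥ 5, let u be the upper unitriangular matrix of SL₂ with off-diagonal entry 1 and let δ = (−1)^((q−1)/2). Every irreducible complex character χ of SL₂ of degree (q + 1)/2 satisfies (2χ(u) − 1)² = δq, and every irreducible complex character χ of degree (q − 1)/2 satisfies (2χ(u) + 1)² = δq; that is, χ(u) = (1 ± √(δq))/2 in the first case and χ(u) = (−1 ± √(δq))/2 in the second. Moreover two different irreducible characters of degree (q + 1)/2 take the two different values (their values at u add up to 1), and likewise for degree (q − 1)/2 (values adding up to −1). -/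
theorem result {F : Type*} [Field F] [Fintype F] (hodd : Odd (Fintype.card F)) (hq : 5 ≤ Fintype.card F)
    (u : Matrix.SpecialLinearGroup (Fin 2) F) (hu : (u : Matrix (Fin 2) (Fin 2) F) = !![1, 1; 0, 1]) :
    (∀ χ : Matrix.SpecialLinearGroup (Fin 2) F → ℂ, Cfsg.IsIrrCharacter (Matrix.SpecialLinearGroup (Fin 2) F) χ → χ 1 = (((Fintype.card F + 1) / 2 : ℕ) : ℂ) → (2 * χ u - 1) ^ 2 = (-1 : ℂ) ^ ((Fintype.card F - 1) / 2) * (Fintype.card F : ℂ)) ∧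
    (∀ χ : Matrix.SpecialLinearGroup (Fin 2) F → ℂ, Cfsg.IsIrrCharacter (Matrix.SpecialLinearGroup (Fin 2) F) χ → χ 1 = (((Fintype.card F - 1) / 2 : ℕ) : ℂ) → (2 * χ u + 1) ^ 2 = (-1 : ℂ) ^ ((Fintype.card F - 1) / 2) * (Fintype.card F : ℂ)) ∧
    (∀ χ₁ χ₂ : Matrix.SpecialLinearGroup (Fin 2) F → ℂ, Cfsg.IsIrrCharacter (Matrix.SpecialLinearGroup (Fin 2) F) χ₁ → Cfsg.IsIrrCharacter (Matrix.SpecialLinearGroup (Fin 2) F) χ₂ → χ₁ ≠ χ₂ →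
      χ₁ 1 = (((Fintype.card F + 1) / 2 : ℕ) : ℂ) → χ₂ 1 = (((Fintype.card F + 1) / 2 : ℕ) : ℂ) → χ₁ u + χ₂ u = 1) ∧
    (∀ χ₁ χ₂ : Matrix.SpecialLinearGroup (Fin 2) F → ℂ, Cfsg.IsIrrCharacter (Matrix.SpecialLinearGroup (Fin 2) F) χ₁ → Cfsg.IsIrrCharacter (Matrix.SpecialLinearGroup (Fin 2) F) χ₂ → χ₁ ≠ χ₂ →
      χ₁ 1 = (((Fintype.card F - 1) / 2 : ℕ) : ℂ) → χ₂ 1 = (((Fintype.card F - 1) / 2 : ℕ) : ℂ) → χ₁ u + χ₂ u = -1) := by
  classical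
  haveI : Fintype (MulChar F ℂ) := Fintype.ofFinite _
  obtain rfl : u = Cfsg.Agent.Lead.SL2.uSL 1 := Subtype.ext hu
  have hps : ∀ {a b : Matrix.SpecialLinearGroup (Fin 2) F → ℂ},
      Cfsg.Agent.Lead.SL2.Halves (Cfsg.Agent.Lead.GL2.ps Cfsg.Agent.Lead.SL2.eta 1) a b →
      a (Cfsg.Agent.Lead.SL2.uSL 1) + b (Cfsg.Agent.Lead.SL2.uSL 1) = 1 := fun {a b} h => by
    have e := congrFun h.2.2.2.1 (Cfsg.Agent.Lead.SL2.uSL 1)
    rw [Cfsg.Agent.Lead.SL2.res, Cfsg.Agent.Lead.SL2.toGL2_uSL, Cfsg.Agent.Lead.GL2.ps_u] at e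
    exact e.symm
  have hcu : ∀ {χ a b}, Cfsg.IsIrrCharacter (Matrix.GeneralLinearGroup (Fin 2) F) χ →
      Cfsg.Agent.Lead.GL2.IsCusp χ → Cfsg.Agent.Lead.SL2.Halves χ a b →
      a (Cfsg.Agent.Lead.SL2.uSL 1) + b (Cfsg.Agent.Lead.SL2.uSL 1) = -1 := fun {χ a b} hχ hc h => by
    have e := congrFun h.2.2.2.1 (Cfsg.Agent.Lead.SL2.uSL 1)
    rw [Cfsg.Agent.Lead.SL2.res, Cfsg.Agent.Lead.SL2.toGL2_uSL,
      (Cfsg.Agent.Lead.GL2.cusp_values hχ hc).2] at e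
    exact e.symm
  refine ⟨?_, ?_, ?_, ?_⟩
  · intro χ hχ hd
    obtain ⟨φ, h⟩ := (Cfsg.Agent.Lead.SL2.deg_half_plus hodd hq hχ).1 hd
    have hsq := h.diff_sq hodd
    rw [Pi.sub_apply, Cfsg.Agent.Lead.SL2.eta_neg_one hodd] at hsq
    have hs := hps h
    rw [← hsq]
    linear_combination (3 * χ (Cfsg.Agent.Lead.SL2.uSL 1) - φ (Cfsg.Agent.Lead.SL2.uSL 1) - 1) * hs
  · intro χ hχ hd
    obtain ⟨χ', φ, hχ', hc, h⟩ := (Cfsg.Agent.Lead.SL2.deg_half_minus hodd hq hχ).1 hd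
    have hsq := h.diff_sq hodd
    rw [Pi.sub_apply, Cfsg.Agent.Lead.SL2.eta_neg_one hodd] at hsq
    have hs := hcu hχ' hc h
    rw [← hsq]
    linear_combination (3 * χ (Cfsg.Agent.Lead.SL2.uSL 1) - φ (Cfsg.Agent.Lead.SL2.uSL 1) + 1) * hs
  · intro χ₁ χ₂ h₁ h₂ hne hd₁ hd₂
    obtain ⟨φ, h⟩ := (Cfsg.Agent.Lead.SL2.deg_half_plus hodd hq h₁).1 hd₁
    obtain ⟨φ', h'⟩ := (Cfsg.Agent.Lead.SL2.deg_half_plus hodd hq h₂).1 hd₂
    rcases h.eq_or h' with e | e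
    · exact absurd e.symm hne
    · rw [e]; exact hps h
  · intro χ₁ χ₂ h₁ h₂ hne hd₁ hd₂
    obtain ⟨χ, φ, hχ, hc, h⟩ := (Cfsg.Agent.Lead.SL2.deg_half_minus hodd hq h₁).1 hd₁
    obtain ⟨χ', φ', hχ', hc', h'⟩ := (Cfsg.Agent.Lead.SL2.deg_half_minus hodd hq h₂).1 hd₂
    rcases Cfsg.Agent.Lead.SL2.cusp_halves_unique hodd hχ hχ' hc hc' h h' with e | e
    · exact absurd e.symm hne
    · rw [e]; exact hcu hχ hc h

end Cfsg.Agent.S2324
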