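import Cfsg.Statements.S2326
import Cfsg.Agent.Lib.Lie.GroupCard
import Cfsg.Agent.Lib.Lie.AllFacts
-- import your own Cfsg.Agent.* helpers here

set_option autoImplicit false
open Cfsg

namespace Cfsg.Agent.S2326

/-- In a Chevalley group of type G₂, B₂, D₄, F₄, E₆, E₇ or E₈ over a finite field of characteristic p, the subgroup U generated by the positive root elements is a Sylow p-subgroup. -/
theorem result {F : Type*} [Field F] [Fintype F] (p : ℕ) [Fact p.Prime] [CharP F p] (D : Cfsg.Lie.ChevalleyDatum) (hD : D ∈ [Cfsg.Lie.chevG2, Cfsg.Lie.chevB2, Cfsg.Lie.chevD4, Cfsg.Lie.chevF4, Cfsg.Lie.chevE6, Cfsg.Lie.chevE7, Cfsg.Lie.chevE8]) :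
    ∃ P : Sylow p ↥(D.group F), (P : Subgroup ↥(D.group F)) = (D.posUnipotent F).subgroupOf (D.group F) := by
  classical
  open Cfsg.Agent.Lie in
  obtain ⟨hF⟩ := facts_of_mem hD
  open Cfsg.Agent.Lie in
  have hU : Nat.card (D.posUnipotent F) = Nat.card F ^ (D.nroots / 2) := by
    rw [← hF.tsys_U, show (hF.tsys F).U = (hF.tsys F).US (Cfsg.Agent.Lie.Facts.posL D) from rfl, hF.card_US hF.closedList_posL,
      hF.length_posL]
  open Cfsg.Agent.Lie in
  have hle : D.posUnipotent F ≤ D.group F := by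
    refine le_trans ?_ hF.borel_le_group
    rw [← hF.tsys_U, ← hF.tsys_B]
    exact (hF.tsys F).U_le_B
  open Cfsg.Agent.Lie in
  have hG := hF.card_group_sum (F := F)
  obtain ⟨f, hp, hf⟩ := FiniteField.card F p
  have hq : Nat.card F = p ^ (f : ℕ) := by rw [Nat.card_eq_fintype_card, hf]
  have hcardU : Nat.card ((D.posUnipotent F).subgroupOf (D.group F)) = p ^ ((f : ℕ) * (D.nroots / 2)) := by
    rw [Nat.card_congr (Subgroup.subgroupOfEquivOfLe hle).toEquiv, hU, hq, ← pow_mul]
  have hidx : ((D.posUnipotent F).subgroupOf (D.group F)).index =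
      Nat.card (D.diagonalSubgroup F) * hF.lenSum (List.range D.rank) (Nat.card F) := by
    have h := Subgroup.card_mul_index ((D.posUnipotent F).subgroupOf (D.group F))
    rw [hG, hcardU, hq, ← pow_mul, mul_assoc, ← hq] at h
    exact Nat.eq_of_mul_eq_mul_left (pow_pos hp.pos _) h
  have hH : ¬ p ∣ Nat.card (D.diagonalSubgroup F) := by
    intro hd
    have h1 : Nat.card (D.diagonalSubgroup F) ∣ Nat.card (Fin D.rank → Fˣ) := by
      rw [hF.diagonalSubgroup_eq F]
      exact Subgroup.card_range_dvd _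
    have h2 := hd.trans h1
    rw [Nat.card_fun, Nat.card_units, hq] at h2
    have h3 := hp.dvd_of_dvd_pow h2
    have h4 : p ∣ p ^ (f : ℕ) := dvd_pow_self p f.ne_zero
    have h5 : 1 ≤ p ^ (f : ℕ) := Nat.one_le_pow _ _ hp.pos
    have h6 := Nat.dvd_sub h4 h3
    rw [Nat.sub_sub_self h5] at h6
    exact hp.one_lt.ne' (Nat.dvd_one.mp h6)
  have hL : ¬ p ∣ hF.lenSum (List.range D.rank) (Nat.card F) := by
    intro hd
    unfold Cfsg.Agent.Lie.Facts.lenSum at hd
    have h1 : (1 : hF.weyl) ∈ (Finset.univ : Finset hF.weyl).filter (fun w => hF.InJ (List.range D.rank) w) :=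
      Finset.mem_filter.mpr ⟨Finset.mem_univ _, ⟨[], by simp, rfl⟩⟩
    rw [← Finset.add_sum_erase _ _ h1, Cfsg.Agent.Lie.RefSystem.len_one, pow_zero] at hd
    have h2 : p ∣ ∑ w ∈ ((Finset.univ : Finset hF.weyl).filter (fun w => hF.InJ (List.range D.rank) w)).erase 1,
        Nat.card F ^ hF.refSys.len w := by
      refine Finset.dvd_sum fun w hw => ?_
      have hw1 : hF.refSys.len w ≠ 0 := fun h0 =>
        Finset.ne_of_mem_erase hw (hF.refSys.eq_one_of_len_eq_zero h0)
      rw [hq, ← pow_mul]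
      exact dvd_pow_self p (Nat.mul_ne_zero f.ne_zero hw1)
    exact hp.one_lt.ne' (Nat.dvd_one.mp ((Nat.dvd_add_left h2).mp hd))
  have hPG : IsPGroup p ((D.posUnipotent F).subgroupOf (D.group F)) := IsPGroup.of_card hcardU
  refine ⟨hPG.toSylow ?_, rfl⟩
  rw [hidx]
  exact (Nat.Prime.not_dvd_mul hp hH hL)

end Cfsg.Agent.S2326
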