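import Cfsg.Statements.S2332
import Cfsg.Agent.Lib.Small.SLnMinDeg.Perm
import Cfsg.Agent.Lib.Small.SLnBlocks

set_option autoImplicit false
open Cfsg
open Cfsg.Agent Cfsg.Agent.Small

namespace Cfsg.Agent.S2332

/-- Smallest degree of a non-linear irreducible complex representation of SL_n over a finite field with q elements, for n ≥ 3 and (n, q) not one of (3, 2), (3, 4), (4, 2), (4, 3): every irreducible complex representation of SL_n(F) of degree at least 2 has degree at least (q^n − q)/(q − 1), and there is an irreducible complex representation of exactly that degree. -/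
theorem result {F : Type*} [Field F] [Fintype F] [DecidableEq F] (n : ℕ) (hn : 3 ≤ n)
    (hex : (n, Fintype.card F) ≠ (3, 2) ∧ (n, Fintype.card F) ≠ (3, 4) ∧ (n, Fintype.card F) ≠ (4, 2) ∧ (n, Fintype.card F) ≠ (4, 3)) :
    (∀ (k : ℕ) (ρ : Representation ℂ (Matrix.SpecialLinearGroup (Fin n) F) (Fin k → ℂ)), ρ.IsIrreducible → 2 ≤ k → (Fintype.card F ^ n - Fintype.card F) / (Fintype.card F - 1) ≤ k) ∧
    (∃ ρ : Representation ℂ (Matrix.SpecialLinearGroup (Fin n) F) (Fin ((Fintype.card F ^ n - Fintype.card F) / (Fintype.card F - 1)) → ℂ), ρ.IsIrreducible) := by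
  obtain ⟨k, rfl⟩ : ∃ k, n = k + 1 := ⟨n - 1, by omega⟩
  have hk : 2 ≤ k := by omega
  obtain ⟨hex1, hex2, hex3, hex4⟩ := hex
  have hexc : ¬ MinDeg.Exc k (Fintype.card F) := by
    unfold MinDeg.Exc
    simp only [ne_eq, Prod.mk.injEq] at hex1 hex2 hex3 hex4
    omega
  have hq : 2 ≤ Fintype.card F := Fintype.one_lt_card
  have hb : (Fintype.card F ^ (k + 1) - Fintype.card F) / (Fintype.card F - 1) =
      MinDeg.qi (Fintype.card F) (k + 1) - 1 := by
    have h : Fintype.card F ^ (k + 1) - Fintype.card F =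
        Fintype.card F * MinDeg.qi (Fintype.card F) k * (Fintype.card F - 1) := by
      rw [mul_assoc, MinDeg.qi_mul _ _ (by omega), Nat.mul_sub_one, ← pow_succ']
    rw [h, Nat.mul_div_cancel _ (by omega), MinDeg.qi_succ, Nat.add_sub_cancel]
  refine ⟨fun d ρ hρ hd => ?_, ?_⟩
  · rw [hb]
    have : Nontrivial (Fin d → ℂ) := Module.nontrivial_of_finrank_pos (R := ℂ) (by
      rw [Module.finrank_fin_fun]; omega)
    refine (MinDeg.bound hk hexc _ ρ ?_).trans_eq (Module.finrank_fin_fun ℂ)
    by_contra! h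
    obtain ⟨v, hv⟩ := exists_ne (0 : Fin d → ℂ)
    rcases SLnSt.irr_of_isIrreducible hρ (ℂ ∙ v) (fun g x hx => by rw [h g]; exact hx) with e | e
    · exact hv (Submodule.span_singleton_eq_bot.1 e)
    · have h1 : Module.finrank ℂ ↥(ℂ ∙ v) = 1 := finrank_span_singleton hv
      rw [e, finrank_top, Module.finrank_fin_fun] at h1
      omega
  · classical
    have : MulAction.IsPretransitive (Matrix.SpecialLinearGroup (Fin (k + 1)) F)
        (Projectivization F (Fin (k + 1) → F)) := MinDeg.pretransitive (by omega)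
    let _ : Fintype (Projectivization F (Fin (k + 1) → F)) := Fintype.ofFinite _
    have hX : Fintype.card (Projectivization F (Fin (k + 1) → F)) = MinDeg.qi (Fintype.card F) (k + 1) := by
      rw [← MinDeg.card_proj, Nat.card_eq_fintype_card]
    have hne : Nonempty (Projectivization F (Fin (k + 1) → F)) := ⟨MinDeg.p0⟩
    have hdim : Module.finrank ℂ ↥(MinDeg.zs (Projectivization F (Fin (k + 1) → F))) =
        (Fintype.card F ^ (k + 1) - Fintype.card F) / (Fintype.card F - 1) := by
      rw [MinDeg.finrank_zs, hX, hb]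
    have hpos : 1 ≤ MinDeg.qi (Fintype.card F) (k + 1) - 1 := by
      rw [MinDeg.qi_succ, Nat.add_sub_cancel]
      exact Nat.one_le_iff_ne_zero.2 (Nat.mul_ne_zero (by omega)
        (Nat.one_le_iff_ne_zero.1 (MinDeg.one_le_qi (by omega))))
    have hnt : Nontrivial ↥(MinDeg.zs (Projectivization F (Fin (k + 1) → F))) :=
      Module.nontrivial_of_finrank_pos (R := ℂ) (by rw [hdim, hb]; omega)
    obtain ⟨e⟩ : Nonempty (↥(MinDeg.zs (Projectivization F (Fin (k + 1) → F))) ≃ₗ[ℂ]
        (Fin ((Fintype.card F ^ (k + 1) - Fintype.card F) / (Fintype.card F - 1)) → ℂ)) :=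
      ⟨(Module.finBasisOfFinrankEq ℂ _ hdim).equivFun⟩
    refine ⟨Char.repTransport (MinDeg.zrep (Matrix.SpecialLinearGroup (Fin (k + 1)) F)
      (Projectivization F (Fin (k + 1) → F))) e,
      Char.isIrreducible_of_equiv (Char.repTransportEquiv _ e) (SLnSt.isIrreducible_of_irr fun S hS => ?_)⟩
    refine or_iff_not_imp_left.2 fun h0 => ?_
    have h := MinDeg.bound' hk hexc (V := ↥S) _ (MinDeg.res_nontrivial _ S hS h0)
    refine Submodule.eq_top_of_finrank_eq (le_antisymm S.finrank_le ?_)
    rw [hdim, hb]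
    exact h

end Cfsg.Agent.S2332
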