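import Cfsg.Statements.S2333
import Cfsg.Agent.Lib.Small.SpTwoMinDeg
import Cfsg.Agent.Lib.Small.SLnBlocks

set_option autoImplicit false
open Cfsg
open Cfsg.Agent Cfsg.Agent.Small

namespace Cfsg.Agent.S2333

/-- For a finite field F of even order q and n ≥ 2 with (n, q) ≠ (2, 2), every irreducible complex representation of the symplectic group Sp_{2n}(F) of degree at least 2 has degree at least (q^n − 1)(q^n − q)/(2(q + 1)). -/
theorem result {F : Type*} [Field F] [Fintype F] [DecidableEq F] (n : ℕ) (hn : 2 ≤ n) (heven : Even (Fintype.card F)) (hex : (n, Fintype.card F) ≠ (2, 2)) :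
    (∀ (k : ℕ) (ρ : Representation ℂ (Matrix.symplecticGroup (Fin n) F) (Fin k → ℂ)), ρ.IsIrreducible → 2 ≤ k → (Fintype.card F ^ n - 1) * (Fintype.card F ^ n - Fintype.card F) / (2 * (Fintype.card F + 1)) ≤ k) := by
  intro k ρ hρ hk
  have h2 : (2 : F) = 0 := by
    by_contra h
    have hchar : ringChar F ≠ 2 := fun hc => h (by
      have := ringChar.of_eq hc
      exact CharTwo.two_eq_zero)
    exact (Nat.not_even_iff_odd.2 (Nat.odd_iff.2 (FiniteField.odd_card_of_char_ne_two hchar))) heven
  have : Nontrivial (Fin k → ℂ) := Module.nontrivial_of_finrank_pos (R := ℂ) (by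
    rw [Module.finrank_fin_fun]; omega)
  have hne : ∃ g, ρ g ≠ 1 := by
    by_contra! h
    obtain ⟨v, hv⟩ := exists_ne (0 : Fin k → ℂ)
    rcases SLnSt.irr_of_isIrreducible hρ (ℂ ∙ v) (fun g x hx => by rw [h g]; exact hx) with e | e
    · exact hv (Submodule.span_singleton_eq_bot.1 e)
    · have h1 : Module.finrank ℂ ↥(ℂ ∙ v) = 1 := finrank_span_singleton hv
      rw [e, finrank_top, Module.finrank_fin_fun] at h1
      omega
  have h := SpTwo.bound h2 n (by omega) _ ρ hne
  rw [Module.finrank_fin_fun] at h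
  exact Nat.div_le_of_le_mul h

end Cfsg.Agent.S2333
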