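import Cfsg.Statements.S2337
import Cfsg.Agent.Lib.Lie.SuzukiSp4
import Cfsg.Agent.Lib.Lead.SuzukiDegree

set_option autoImplicit false
open Cfsg

namespace Cfsg.Agent.S2337

open Cfsg.Agent.Lie.Suzuki

/-- For the Suzuki group Sz(q), q = 2^(2m+1) with m ≥ 1 (realised inside Sp₄ over the field with q elements), every irreducible complex representation of degree at least 2 has degree at least 2^m·(q − 1). -/
theorem result {F : Type*} [Field F] [Fintype F] (m : ℕ) (hm : 1 ≤ m) (hF : Fintype.card F = 2 ^ (2 * m + 1)) :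
    (∀ (k : ℕ) (ρ : Representation ℂ (Cfsg.Lie.Sz F (2 ^ (m + 1))) (Fin k → ℂ)), ρ.IsIrreducible → 2 ≤ k → 2 ^ m * (2 ^ (2 * m + 1) - 1) ≤ k) := by
  intro k ρ hirr hk
  obtain ⟨e⟩ := lie_sz_equiv hF hm
  haveI := sz_simple hF hm
  obtain ⟨ψ, hψ⟩ : ∃ ψ : Cfsg.Sz F m →* Module.End ℂ (Fin k → ℂ), ∀ g, ψ g = ρ (e g) :=
    ⟨MonoidHom.comp ρ e.toMonoidHom, fun _ => rfl⟩
  refine Cfsg.Agent.Lead.SuzukiDeg.min_degree hF hm ψ ((MonoidHom.ker_eq_bot_iff _).1
    ((IsSimpleGroup.eq_bot_or_eq_top_of_normal ψ.ker inferInstance).resolve_right fun htop => ?_))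
  have htriv : ∀ g, ρ g = 1 := fun g => by
    have : e.symm g ∈ ψ.ker := htop ▸ Subgroup.mem_top _
    rw [MonoidHom.mem_ker, hψ, e.apply_symm_apply] at this
    exact this
  obtain ⟨v, hv⟩ : ∃ v : Fin k → ℂ, v ≠ 0 := by
    haveI : Nonempty (Fin k) := ⟨⟨0, by omega⟩⟩
    exact exists_ne 0
  let W : Subrepresentation ρ :=
    ⟨Submodule.span ℂ {v}, fun g x hx => by rw [htriv]; exact hx⟩
  haveI := hirr
  rcases eq_bot_or_eq_top W with h | h
  · have h1 : (Submodule.span ℂ {v} : Submodule ℂ (Fin k → ℂ)) = ⊥ := congrArg Subrepresentation.toSubmodule h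
    exact hv (by simpa using h1)
  · have h1 : (Submodule.span ℂ {v} : Submodule ℂ (Fin k → ℂ)) = ⊤ := congrArg Subrepresentation.toSubmodule h
    have h2 := finrank_span_singleton (K := ℂ) hv
    rw [h1, finrank_top, Module.finrank_fin_fun] at h2
    omega

end Cfsg.Agent.S2337
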