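import Cfsg.Statements.S2338
import Cfsg.Agent.Lib.Small.GTwoDegree.OneThird
import Cfsg.Agent.Lib.Small.GTwoDegree.Three
import Cfsg.Agent.S0135
import Cfsg.Agent.S1055
import Cfsg.Agent.S1059

set_option autoImplicit false
open Cfsg

namespace Cfsg.Agent.S2338

/-- Lower bounds for the degrees of non-linear irreducible complex representations of the Chevalley group of type G₂ over a finite field with q elements: the degree is at least q³ + 1 when q ≡ 1 (mod 3) and q > 4, at least q³ − 1 when q ≡ 2 (mod 3) and q > 2, and at least q⁴ + q² + 1 when q ≡ 0 (mod 3) and q > 3. -/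
theorem result {F : Type*} [Field F] [Fintype F] (k : ℕ) (ρ : Representation ℂ (Cfsg.Lie.chevG2.group F) (Fin k → ℂ)) (hρ : ρ.IsIrreducible) (hk : 2 ≤ k) :
    (Fintype.card F % 3 = 1 → 4 < Fintype.card F → Fintype.card F ^ 3 + 1 ≤ k) ∧
    (Fintype.card F % 3 = 2 → 2 < Fintype.card F → Fintype.card F ^ 3 - 1 ≤ k) ∧
    (Fintype.card F % 3 = 0 → 3 < Fintype.card F → Fintype.card F ^ 4 + Fintype.card F ^ 2 + 1 ≤ k) := by
  open Cfsg.Agent.Small.GTwoDegree in
  obtain ⟨h1, h2, h3⟩ : (Fintype.card F % 3 = 1 → 4 < Fintype.card F → Fintype.card F ^ 3 + 1 ≤ k) ∧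
      (Fintype.card F % 3 = 2 → 2 < Fintype.card F → Fintype.card F ^ 3 - 1 ≤ k) ∧
      (Fintype.card F % 3 = 0 → 3 < Fintype.card F → Fintype.card F ^ 4 + Fintype.card F ^ 2 + 1 ≤ k) := by
    obtain ⟨p, hp⟩ := CharP.exists F
    have : Fact p.Prime := ⟨CharP.char_is_prime F p⟩
    obtain ⟨n, hpp, hn⟩ := FiniteField.card F p
    have hgood : 4 < Fintype.card F → Good ρ := fun hq => by
      refine good_of_irreducible ρ (Cfsg.Agent.S1055.result ?_).1 hρ (by simpa using hk) hq
      classical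
      obtain ⟨a, -, ha⟩ := Finset.exists_mem_notMem_of_card_lt_card
        (show ({0, 1} : Finset F).card < Finset.univ.card by
          have := Finset.card_le_two (a := (0 : F)) (b := 1)
          rw [Finset.card_univ]; omega)
      exact ⟨a, fun e => ha (by simp [e]), fun e => ha (by simp [e])⟩
    have hne3 : Fintype.card F % 3 ≠ 0 → (3 : F) ≠ 0 := fun hm h0 => by
      have hd : p ∣ 3 := (CharP.cast_eq_zero_iff F p 3).1 (by exact_mod_cast h0)
      have hp3 : p = 3 := (Nat.prime_dvd_prime_iff_eq hpp Nat.prime_three).1 hd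
      exact hm (Nat.mod_eq_zero_of_dvd (hn ▸ hp3 ▸ dvd_pow_self p n.pos.ne'))
    have hdim : Module.finrank ℂ (Fin k → ℂ) = k := Module.finrank_fin_fun ℂ
    refine ⟨fun hm hq => ?_, fun hm hq => ?_, fun hm hq => ?_⟩
    · have hg := hgood hq
      rcases degree_or_atMost hg (hne3 (by omega)) with h | h
      · rwa [hdim] at h
      · exact (not_atMost hg h hm).elim
    · have hq' : 4 < Fintype.card F := by
        by_contra hle
        have h4 : Fintype.card F = 3 ∨ Fintype.card F = 4 := by omega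
        omega
      rcases degree_or_atMost (hgood hq') (hne3 (by omega)) with h | h
      · omega
      · have := h.deg
        omega
    · have hd : p ∣ Fintype.card F := hn ▸ dvd_pow_self p n.pos.ne'
      have hp3 : p = 3 := ((Nat.prime_dvd_prime_iff_eq Nat.prime_three hpp).1
        (Nat.prime_three.dvd_of_dvd_pow (hn ▸ Nat.dvd_of_mod_eq_zero hm))).symm
      have hq9 : 9 ≤ Fintype.card F := by
        rw [hn, hp3]
        have : 2 ≤ (n : ℕ) := by
          by_contra hle
          have h1 : (n : ℕ) = 1 := by have := n.pos; omega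
          rw [hn, hp3, h1] at hq
          norm_num at hq
        exact le_trans (by norm_num) (Nat.pow_le_pow_right (by norm_num) this)
      have h30 : (3 : F) = 0 := by
        have := CharP.cast_eq_zero F p
        rw [hp3] at this; exact_mod_cast this
      have hlb := degree_three h30 (hgood (by omega)) hq9
      rw [hdim] at hlb
      have hdvd := Cfsg.Agent.S0135.result ρ
      rw [hdim, Cfsg.Agent.S1059.result rfl] at hdvd
      by_contra hlt
      obtain ⟨r, hr⟩ : ∃ r, Fintype.card F ^ 2 = r + 81 := ⟨Fintype.card F ^ 2 - 81, by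
        have : 81 ≤ Fintype.card F ^ 2 := Nat.pow_le_pow_left hq9 2
        omega⟩
      have h4 : Fintype.card F ^ 4 = (r + 81) * (r + 81) := by rw [← hr]; ring
      have h6 : Fintype.card F ^ 6 = (r + 81) * (r + 81) * (r + 81) := by rw [← hr]; ring
      rw [h6, hr] at hdvd
      rw [h4, hr] at hlb hlt
      obtain ⟨c, hc⟩ := hdvd
      have hcases : k + 2 = (r + 81) * (r + 81) + (r + 81) ∨ k + 1 = (r + 81) * (r + 81) + (r + 81) ∨
          k = (r + 81) * (r + 81) + (r + 81) := by omega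
      have hsub : (r + 81) * (r + 81) * (r + 81) - 1 + 1 = (r + 81) * (r + 81) * (r + 81) :=
        Nat.sub_add_cancel (Nat.one_le_iff_ne_zero.2 (by positivity))
      obtain ⟨N, hN⟩ : ∃ N, (r + 81) * (r + 81) * (r + 81) = N + 1 := ⟨_, hsub.symm⟩
      rw [hN, Nat.add_sub_cancel] at hc
      rw [show r + 81 - 1 = r + 80 by omega] at hc
      have hz : ((r : ℤ) + 81) ^ 3 * ((r : ℤ) + 80) * (((r : ℤ) + 81) ^ 3 - 1) = (k : ℤ) * c := by
        have e1 : ((N : ℤ) + 1) = ((r : ℤ) + 81) ^ 3 := by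
          have : ((N + 1 : ℕ) : ℤ) = ((r + 81 : ℕ) : ℤ) ^ 3 := by rw [← hN]; push_cast; ring
          push_cast at this; linarith
        rw [← e1, add_sub_cancel_right]
        exact_mod_cast hc
      have hkey : ∀ (m : ℤ) (d : ℤ), 0 < d → d < m → ∀ a : ℤ, m * a ≠ d := fun m d hd0 hdm a he => by
        have : m ∣ d := ⟨a, he.symm⟩
        have := Int.le_of_dvd hd0 this
        omega
      rcases hcases with e | e | e
      · have ek : (k : ℤ) = ((r : ℤ) + 80) * ((r : ℤ) + 83) := by
          have : ((k + 2 : ℕ) : ℤ) = (((r + 81) * (r + 81) + (r + 81) : ℕ) : ℤ) := by rw [e]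
          push_cast at this; linear_combination this
        rw [ek] at hz
        have h0 : ((r : ℤ) + 81) ^ 3 * (((r : ℤ) + 81) ^ 3 - 1) = ((r : ℤ) + 83) * c :=
          mul_left_cancel₀ (show ((r : ℤ) + 80) ≠ 0 by positivity) (by linear_combination hz)
        exact hkey ((r : ℤ) + 83) 72 (by norm_num) (by omega)
          (c - (((r : ℤ) + 81) ^ 5 - 2 * ((r : ℤ) + 81) ^ 4 + 4 * ((r : ℤ) + 81) ^ 3 - 9 * ((r : ℤ) + 81) ^ 2 +
            18 * ((r : ℤ) + 81) - 36)) (by linear_combination -h0)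
      · have ek : (k : ℤ) = ((r : ℤ) + 81) ^ 2 + ((r : ℤ) + 81) - 1 := by
          have : ((k + 1 : ℕ) : ℤ) = (((r + 81) * (r + 81) + (r + 81) : ℕ) : ℤ) := by rw [e]
          push_cast at this; linear_combination this
        rw [ek] at hz
        exact hkey (((r : ℤ) + 81) ^ 2 + ((r : ℤ) + 81) - 1) (26 * ((r : ℤ) + 81) - 16) (by omega)
          (by nlinarith)
          (c - (((r : ℤ) + 81) ^ 5 - 2 * ((r : ℤ) + 81) ^ 4 + 3 * ((r : ℤ) + 81) ^ 3 - 6 * ((r : ℤ) + 81) ^ 2 +
            10 * ((r : ℤ) + 81) - 16)) (by linear_combination -hz)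
      · have ek : (k : ℤ) = ((r : ℤ) + 81) * ((r : ℤ) + 82) := by
          have : ((k : ℕ) : ℤ) = (((r + 81) * (r + 81) + (r + 81) : ℕ) : ℤ) := by rw [e]
          push_cast at this; linear_combination this
        rw [ek] at hz
        have h0 : ((r : ℤ) + 81) ^ 2 * ((r : ℤ) + 80) * (((r : ℤ) + 81) ^ 3 - 1) = ((r : ℤ) + 82) * c :=
          mul_left_cancel₀ (show ((r : ℤ) + 81) ≠ 0 by positivity) (by linear_combination hz)
        exact hkey ((r : ℤ) + 82) 4 (by norm_num) (by omega)
          (c - (((r : ℤ) + 81) ^ 5 - 2 * ((r : ℤ) + 81) ^ 4 + 2 * ((r : ℤ) + 81) ^ 3 - 3 * ((r : ℤ) + 81) ^ 2 +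
            4 * ((r : ℤ) + 81) - 4)) (by linear_combination -h0)
  exact ⟨h1, h2, h3⟩

end Cfsg.Agent.S2338
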