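import Cfsg.Statements.S2342
import Cfsg.Agent.Lib.Small.D4Degree.Main
-- import your own Cfsg.Agent.* helpers here

set_option autoImplicit false
open Cfsg

namespace Cfsg.Agent.S2342

/-- For the twisted group ³D₄(q), realised over the field with q³ elements (q a prime power), every irreducible complex representation of degree at least 2 has degree at least q(q⁴ − q² + 1). -/
theorem result {K : Type*} [Field K] [Fintype K] (q : ℕ) (hq : IsPrimePow q) (hK : Fintype.card K = q ^ 3) :
    (∀ (k : ℕ) (ρ : Representation ℂ (Cfsg.Lie.twistedD4 K q) (Fin k → ℂ)), ρ.IsIrreducible → 2 ≤ k → q * (q ^ 4 - q ^ 2 + 1) ≤ k) := by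
  intro k ρ hirr hk
  obtain ⟨S⟩ := Cfsg.Agent.Lie.D4.nonempty_setup hq hK
  haveI := S.simple.1
  refine Cfsg.Agent.Small.D4Degree.min_degree S ρ hirr ((MonoidHom.ker_eq_bot_iff _).1
    ((IsSimpleGroup.eq_bot_or_eq_top_of_normal (MonoidHom.ker ρ) inferInstance).resolve_right fun htop => ?_))
  have htriv : ∀ g, ρ g = 1 := fun g => MonoidHom.mem_ker.1 (htop ▸ Subgroup.mem_top g)
  haveI : Nonempty (Fin k) := ⟨⟨0, by omega⟩⟩
  obtain ⟨v, hv⟩ := exists_ne (0 : Fin k → ℂ)
  let W : Subrepresentation ρ := ⟨Submodule.span ℂ {v}, fun g x hx => by rw [htriv]; exact hx⟩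
  haveI := hirr
  rcases eq_bot_or_eq_top W with h | h
  · have h1 : (Submodule.span ℂ {v} : Submodule ℂ (Fin k → ℂ)) = ⊥ := congrArg Subrepresentation.toSubmodule h
    exact hv (by simpa using h1)
  · have h1 : (Submodule.span ℂ {v} : Submodule ℂ (Fin k → ℂ)) = ⊤ := congrArg Subrepresentation.toSubmodule h
    have h2 := finrank_span_singleton (K := ℂ) hv
    rw [h1, finrank_top, Module.finrank_fin_fun] at h2
    omega

end Cfsg.Agent.S2342
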