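import Cfsg.Statements.S2344
import Cfsg.Agent.Lib.Char.OmegaDeg.OddMain
import Cfsg.Agent.Lib.Classical.OrthForms

set_option autoImplicit false
open Cfsg

namespace Cfsg.Agent.S2344

/-- For a finite field F of odd order q > 3 and n ≥ 3, every irreducible complex representation of degree at least 2 of Ω_{2n+1}(F) (the commutator subgroup of the isometry group of the quadratic form x₀² + x₁y₁ + ⋯ + x_ny_n) has degree at least (q^{2n} − 1)/(q² − 1). -/
theorem result {F : Type*} [Field F] [Fintype F] (n : ℕ) (hn : 3 ≤ n) (hodd : Odd (Fintype.card F)) (h3 : 3 < Fintype.card F) :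
    (∀ (k : ℕ) (ρ : Representation ℂ (Cfsg.Omega F (Cfsg.quadFormOdd n F)) (Fin k → ℂ)), ρ.IsIrreducible → 2 ≤ k → (Fintype.card F ^ (2 * n) - 1) / (Fintype.card F ^ 2 - 1) ≤ k) := by
  obtain ⟨Q, hQ⟩ : ∃ Q, Q = Cfsg.Agent.Classical.OOmega.formOf n (Equiv.sumComm Unit (Fin n ⊕ Fin n))
      (Cfsg.Agent.Classical.OCount.lineForm F) := ⟨_, rfl⟩
  rw [← Cfsg.Agent.Classical.OOmega.coe_odd n, ← hQ]
  intro k ρ hirr hk
  have h2 : (2 : F) ≠ 0 := by
    intro h
    have : CharP F 2 := CharTwo.of_one_ne_zero_of_two_eq_zero one_ne_zero h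
    have he := (FiniteField.even_card_iff_char_two (F := F)).1 (ringChar.eq F 2)
    exact (Nat.not_even_iff_odd.2 hodd) (Nat.even_iff.2 he)
  have hpnd := Cfsg.Agent.Classical.OOmega.pnd_line h2
  have hS : Cfsg.Agent.Small.OMinIndex.Space Q :=
    ⟨hQ ▸ Cfsg.Agent.Classical.OOmega.formOf_pnd hpnd, by
      rw [Module.finrank_fintype_fun_eq_card, Fintype.card_sum, Fintype.card_sum, Fintype.card_fin,
        Fintype.card_unit]; omega⟩
  have hsh : Cfsg.Agent.Char.OmegaDeg.Sh Q (⊤ : Submodule F (Unit ⊕ (Fin n ⊕ Fin n) → F)) n 1 :=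
    hQ ▸ Cfsg.Agent.Char.OmegaDeg.sh_formOf (R := Unit) rfl _ _ hpnd
      (fun z hz => funext fun _ => mul_self_eq_zero.1 hz)
      (fun c _ => by simp [Cfsg.Agent.Char.OmegaDeg.base])
  exact Cfsg.Agent.Char.OmegaDeg.le_degree hS
    (Cfsg.Agent.Char.OmegaDeg.low_odd hS h2 (by
      obtain ⟨t, ht⟩ := hodd
      omega) hn hsh) ρ hirr hk

end Cfsg.Agent.S2344
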