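import Cfsg.Statements.S2345
import Cfsg.Agent.Lib.Char.OmegaDeg.Main
import Cfsg.Agent.Lib.Classical.OrthForms

set_option autoImplicit false
open Cfsg

namespace Cfsg.Agent.S2345

/-- For a finite field F with q > 3 elements and n ≥ 4, every irreducible complex representation of degree at least 2 of Ω⁺_{2n}(F) (the commutator subgroup of the isometry group of the hyperbolic quadratic form x₁y₁ + ⋯ + x_ny_n) has degree at least (q^n − 1)(q^{n−1} + q)/(q² − 1). -/
theorem result {F : Type*} [Field F] [Fintype F] (n : ℕ) (hn : 4 ≤ n) (h3 : 3 < Fintype.card F) :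
    (∀ (k : ℕ) (ρ : Representation ℂ (Cfsg.Omega F (Cfsg.quadFormPlus n F)) (Fin k → ℂ)), ρ.IsIrreducible → 2 ≤ k → (Fintype.card F ^ n - 1) * (Fintype.card F ^ (n - 1) + Fintype.card F) / (Fintype.card F ^ 2 - 1) ≤ k) := by
  obtain ⟨Q, hQ⟩ : ∃ Q, Q = Cfsg.Agent.Classical.OOmega.formOf n (Equiv.sumEmpty (Fin n ⊕ Fin n) Empty).symm
      (0 : QuadraticForm F (Empty → F)) := ⟨_, rfl⟩
  rw [← Cfsg.Agent.Classical.OOmega.coe_plus n, ← hQ]
  intro k ρ hirr hk
  have hpnd := Cfsg.Agent.Classical.OOmega.pnd_empty (F := F)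
  have hS : Cfsg.Agent.Small.OMinIndex.Space Q :=
    ⟨hQ ▸ Cfsg.Agent.Classical.OOmega.formOf_pnd hpnd, by
      rw [Module.finrank_fintype_fun_eq_card, Fintype.card_sum, Fintype.card_fin]; omega⟩
  have hsh : Cfsg.Agent.Char.OmegaDeg.Sh Q (⊤ : Submodule F (Fin n ⊕ Fin n → F)) n 0 :=
    hQ ▸ Cfsg.Agent.Char.OmegaDeg.sh_formOf (R := Empty) rfl _ _ hpnd (fun z _ => funext fun r => r.elim)
      (fun c _ => by simp [Cfsg.Agent.Char.OmegaDeg.base])
  rw [Cfsg.Agent.Char.OmegaDeg.plus_formula (by omega) (by omega)]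
  exact Cfsg.Agent.Char.OmegaDeg.le_degree hS
    (Cfsg.Agent.Char.OmegaDeg.low_plus hS (by omega) n (by omega) _ hsh) ρ hirr hk

end Cfsg.Agent.S2345
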