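import Cfsg.Statements.S2346
import Cfsg.Agent.Lib.Char.OmegaDeg.Main
import Cfsg.Agent.Lib.Classical.OrthForms

set_option autoImplicit false
open Cfsg

namespace Cfsg.Agent.S2346

/-- For a finite field F with q elements, n ≥ 4, and a, b ∈ F with z₁² + a z₁z₂ + b z₂² anisotropic, every irreducible complex representation of degree at least 2 of Ω⁻_{2n}(F) (the commutator subgroup of the isometry group of x₁y₁ + ⋯ + x_{n−1}y_{n−1} + z₁² + a z₁z₂ + b z₂²) has degree at least (q^n + 1)(q^{n−1} − q)/(q² − 1). -/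
theorem result {F : Type*} [Field F] [Fintype F] (n : ℕ) (hn : 4 ≤ n) (a b : F) (hab : ∀ z₁ z₂ : F, z₁ ^ 2 + a * z₁ * z₂ + b * z₂ ^ 2 = 0 → z₁ = 0 ∧ z₂ = 0) :
    (∀ (k : ℕ) (ρ : Representation ℂ (Cfsg.Omega F (Cfsg.quadFormMinus (n - 1) F a b)) (Fin k → ℂ)), ρ.IsIrreducible → 2 ≤ k → (Fintype.card F ^ n + 1) * (Fintype.card F ^ (n - 1) - Fintype.card F) / (Fintype.card F ^ 2 - 1) ≤ k) := by
  obtain ⟨Q, hQ⟩ : ∃ Q, Q = Cfsg.Agent.Classical.OOmega.formOf (n - 1)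
      (Equiv.refl ((Fin (n - 1) ⊕ Fin (n - 1)) ⊕ Fin 2)) (Cfsg.Agent.Classical.OCount.planeForm a b) := ⟨_, rfl⟩
  rw [← Cfsg.Agent.Classical.OOmega.coe_minus (n - 1) a b, ← hQ]
  intro k ρ hirr hk
  have hpnd := Cfsg.Agent.Classical.OOmega.pnd_plane hab
  have hS : Cfsg.Agent.Small.OMinIndex.Space Q :=
    ⟨hQ ▸ Cfsg.Agent.Classical.OOmega.formOf_pnd hpnd, by
      rw [Module.finrank_fintype_fun_eq_card, Fintype.card_sum, Fintype.card_sum, Fintype.card_fin, Fintype.card_fin]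
      omega⟩
  have haniso : ∀ z : Fin 2 → F, Cfsg.Agent.Classical.OCount.planeForm a b z = 0 → z = 0 := fun z hz => by
    rw [Cfsg.Agent.Classical.OCount.planeForm_apply] at hz
    obtain ⟨h1, h2⟩ := hab _ _ hz
    funext i; fin_cases i <;> assumption
  have hsh : Cfsg.Agent.Char.OmegaDeg.Sh Q (⊤ : Submodule F (((Fin (n - 1) ⊕ Fin (n - 1)) ⊕ Fin 2) → F)) (n - 1) 2 :=
    hQ ▸ Cfsg.Agent.Char.OmegaDeg.sh_formOf (R := Fin 2) (Fintype.card_fin 2) _ _ hpnd haniso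
      (fun c hc => by
        rw [show Cfsg.Agent.Char.OmegaDeg.base (Fintype.card F) 2 = Fintype.card F + 1 by
          simp [Cfsg.Agent.Char.OmegaDeg.base]]
        exact Cfsg.Agent.Char.OmegaDeg.plane_values a b hab c hc)
  rw [Cfsg.Agent.Char.OmegaDeg.minus_formula Fintype.one_lt_card (by omega)]
  exact Cfsg.Agent.Char.OmegaDeg.le_degree hS
    (Cfsg.Agent.Char.OmegaDeg.low_minus hS (n - 1) (by omega) _ hsh) ρ hirr hk

end Cfsg.Agent.S2346
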