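import Cfsg.Statements.S2347
import Cfsg.Agent.Lib.Lead.WeilRep

set_option autoImplicit false
open Cfsg

namespace Cfsg.Agent.S2347

/-- Smallest degree of a non-linear irreducible complex representation of the symplectic group Sp_{2n} over a finite field of odd order q, n ≥ 2: every irreducible complex representation of degree at least 2 has degree at least (q^n − 1)/2, and there is an irreducible complex representation of exactly that degree (a Weil representation). -/
theorem result {F : Type*} [Field F] [Fintype F] [DecidableEq F] (n : ℕ) (hn : 2 ≤ n) (hodd : Odd (Fintype.card F)) :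
    (∀ (k : ℕ) (ρ : Representation ℂ (Matrix.symplecticGroup (Fin n) F) (Fin k → ℂ)), ρ.IsIrreducible → 2 ≤ k → (Fintype.card F ^ n - 1) / 2 ≤ k) ∧
    (∃ ρ : Representation ℂ (Matrix.symplecticGroup (Fin n) F) (Fin ((Fintype.card F ^ n - 1) / 2) → ℂ), ρ.IsIrreducible) := by
  haveI : NeZero n := ⟨by omega⟩
  constructor
  · intro k ρ hirr hk
    by_contra hlt
    have htriv : ∀ g, ρ g = 1 := Cfsg.Agent.SpBound.trivial_of_small hodd ρ (by
      rw [Module.finrank_fin_fun]; omega)
    have := Cfsg.Agent.Small.Unitary.degree_le_one_of_trivial ρ hirr htriv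
    omega
  · have h2 : (2 : F) ≠ 0 := Cfsg.Agent.SpBound.two_ne (hodd := hodd)
    obtain ⟨ψ, hψx⟩ := (AddChar.exists_apply_ne_zero (a := (1 : F))).2 one_ne_zero
    have hψ : ψ ≠ 0 := fun h => hψx (by rw [h, AddChar.zero_apply])
    set d := (Fintype.card F ^ n - 1) / 2 with hd
    have hdim : Module.finrank ℂ (Cfsg.Agent.Weil.half (F := F) (n := n) (-1)) = d := by
      have h := Cfsg.Agent.Weil.finrank_half (F := F) (n := n) h2 (ε := -1) (by norm_num)
      set a := Module.finrank ℂ (Cfsg.Agent.Weil.half (F := F) (n := n) (-1))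
      have hN : 2 * a + 1 = Fintype.card F ^ n := by
        have h' : ((2 * a + 1 : ℕ) : ℂ) = ((Fintype.card F ^ n : ℕ) : ℂ) := by
          push_cast
          rw [h]
          ring
        exact_mod_cast h'
      omega
    set r := Cfsg.Agent.Weil.weilOdd (n := n) h2 hψ with hr
    have htriv : ∀ {V : Type} [AddCommGroup V] [Module ℂ V] [FiniteDimensional ℂ V]
        (σ : Representation ℂ (Matrix.symplecticGroup (Fin n) F) V), Module.finrank ℂ V < d → ∀ g, σ g = 1 :=
      fun σ h => Cfsg.Agent.SpBound.trivial_of_small hodd σ h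
    obtain ⟨g₀, hg₀⟩ := Cfsg.Agent.Weil.weilOdd_ne_one hn h2 hψ
    let e : (Cfsg.Agent.Weil.half (F := F) (n := n) (-1)) ≃ₗ[ℂ] (Fin d → ℂ) :=
      (Module.finBasisOfFinrankEq ℂ _ hdim).equivFun
    let ρ : Representation ℂ (Matrix.symplecticGroup (Fin n) F) (Fin d → ℂ) :=
      { toFun := fun g => e.conj (r g)
        map_one' := by
          refine LinearMap.ext fun x => ?_
          simp [LinearEquiv.conj_apply]
        map_mul' := fun g h => by
          refine LinearMap.ext fun x => ?_
          simp [LinearEquiv.conj_apply] }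
    have hρ : ρ g₀ ≠ 1 := by
      intro h
      refine hg₀ (LinearMap.ext fun x => ?_)
      have h' := LinearMap.congr_fun h (e x)
      simpa [ρ, LinearEquiv.conj_apply] using h'
    refine ⟨ρ, ?_⟩
    haveI : Nontrivial (Subrepresentation ρ) := by
      refine ⟨⊥, ⊤, fun h => hρ (LinearMap.ext fun x => ?_)⟩
      have e : (⊥ : Submodule ℂ (Fin d → ℂ)) = ⊤ := congrArg Subrepresentation.toSubmodule h
      have hx : x ∈ (⊥ : Submodule ℂ (Fin d → ℂ)) := by rw [e]; trivial
      rw [(Submodule.mem_bot ℂ).1 hx, map_zero, map_zero]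
    refine { eq_bot_or_eq_top := fun W => ?_ }
    by_contra hW
    push Not at hW
    set S := W.toSubmodule with hS
    have hS0 : S ≠ ⊥ := fun h => hW.1 (Subrepresentation.toSubmodule_injective h)
    have hS1 : S ≠ ⊤ := fun h => hW.2 (Subrepresentation.toSubmodule_injective h)
    have hlt : Module.finrank ℂ S < d := by
      have := Submodule.finrank_lt hS1
      rwa [Module.finrank_fin_fun] at this
    have hinv : ∀ g, S ≤ S.comap (ρ g) := fun g x hx => W.apply_mem_toSubmodule g hx
    let σ : Representation ℂ (Matrix.symplecticGroup (Fin n) F) S :=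
      { toFun := fun g => (ρ g).restrict (hinv g)
        map_one' := LinearMap.ext fun x => Subtype.ext (by simp [map_one])
        map_mul' := fun g h => LinearMap.ext fun x => Subtype.ext (by simp [map_mul]) }
    let τ : Representation ℂ (Matrix.symplecticGroup (Fin n) F) ((Fin d → ℂ) ⧸ S) :=
      { toFun := fun g => S.mapQ S (ρ g) (hinv g)
        map_one' := by
          refine Submodule.linearMap_qext _ (LinearMap.ext fun x => ?_)
          simp [map_one]
        map_mul' := fun g h => by
          refine Submodule.linearMap_qext _ (LinearMap.ext fun x => ?_)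
          simp [map_mul] }
    have hlt' : Module.finrank ℂ ((Fin d → ℂ) ⧸ S) < d := by
      have h1 := S.finrank_quotient_add_finrank
      rw [Module.finrank_fin_fun] at h1
      have h2 : Module.finrank ℂ S ≠ 0 := fun h => hS0 (Submodule.finrank_eq_zero.1 h)
      omega
    have hσ := htriv σ hlt g₀
    have hτ := htriv τ hlt' g₀
    refine hρ ?_
    set N := ρ g₀ - 1 with hN
    have hN2 : N * N = 0 := by
      refine LinearMap.ext fun x => ?_
      have hx : N x ∈ S := by
        have h1 := LinearMap.congr_fun hτ (Submodule.Quotient.mk x)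
        have h2 : Submodule.Quotient.mk (ρ g₀ x) = (Submodule.Quotient.mk x : (Fin d → ℂ) ⧸ S) := by simpa [τ] using h1
        simpa [hN] using (Submodule.Quotient.eq S).1 h2
      have h3 := congrArg Subtype.val (LinearMap.congr_fun hσ ⟨N x, hx⟩)
      have h4 : ρ g₀ (N x) = N x := h3
      show N (N x) = 0
      rw [hN, LinearMap.sub_apply, Module.End.one_apply, ← hN, h4, sub_self]
    have hpow : ∀ k : ℕ, (1 + N) ^ k = 1 + (k : ℂ) • N := by
      intro k
      induction k with
      | zero => simp
      | succ k ih =>
        rw [pow_succ, ih, add_mul, one_mul, smul_mul_assoc, mul_add, mul_one, hN2, add_zero]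
        push_cast
        module
    have h5 := hpow (orderOf g₀)
    rw [hN, add_sub_cancel, ← map_pow, pow_orderOf_eq_one, map_one, ← hN, left_eq_add, smul_eq_zero] at h5
    rw [← sub_eq_zero, ← hN]
    exact h5.resolve_left (Nat.cast_ne_zero.2 (orderOf_pos g₀).ne')

end Cfsg.Agent.S2347
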