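import Cfsg.Statements.S2352
import Cfsg.Agent.Lib.Small.WordMap
-- import your own Cfsg.Agent.* helpers here

set_option autoImplicit false
open Cfsg

namespace Cfsg.Agent.S2352

/-- A non-trivial law holds in only finitely many alternating groups: for every non-trivial element w of the free group on countably many generators there is N such that for all n ≥ N some substitution of elements of the alternating group of degree n into w is not the identity. -/
theorem result (w : FreeGroup ℕ) (hw : w ≠ 1) :
    ∃ N : ℕ, ∀ n : ℕ, N ≤ n → ∃ f : ℕ → alternatingGroup (Fin n), FreeGroup.lift f w ≠ 1 := by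
  classical
  obtain ⟨p, hp, hprime⟩ := Nat.exists_infinite_primes (Small.WordMap.bound w)
  haveI : Fact p.Prime := ⟨hprime⟩
  obtain ⟨f, hf⟩ := Small.WordMap.exists_noncentral (F := ZMod p) w hw (by rwa [ZMod.card])
  obtain ⟨k, ⟨e⟩⟩ := Finite.exists_equiv_fin (Matrix.SpecialLinearGroup (Fin 2) (ZMod p))
  refine ⟨k + k, fun n hn => ?_⟩
  let ι : Fin k ⊕ Fin k ↪ Fin n := finSumFinEquiv.toEmbedding.trans (Fin.castLEEmb hn)
  let φ : (Matrix.SpecialLinearGroup (Fin 2) (ZMod p)) →* Equiv.Perm (Fin n) :=
    (Equiv.Perm.viaEmbeddingHom ι).comp ((Equiv.Perm.sumCongrHom (Fin k) (Fin k)).comp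
      ((MonoidHom.id _).prod (MonoidHom.id _) |>.comp
        (e.permCongrHom.toMonoidHom.comp (MulAction.toPermHom (Matrix.SpecialLinearGroup (Fin 2) (ZMod p)) (Matrix.SpecialLinearGroup (Fin 2) (ZMod p))))))
  have hφ : ∀ g, φ g ∈ alternatingGroup (Fin n) := by
    intro g
    rw [Equiv.Perm.mem_alternatingGroup]
    simp only [φ, MonoidHom.comp_apply, Equiv.Perm.viaEmbeddingHom_apply,
      Equiv.Perm.viaEmbedding, Equiv.Perm.sign_extendDomain, Equiv.Perm.sumCongrHom_apply,
      MonoidHom.prod_apply, MonoidHom.id_apply, Equiv.Perm.sign_sumCongr]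
    exact Int.units_mul_self _
  have hinj : Function.Injective φ := by
    intro a b h
    have h1 := Equiv.Perm.sumCongrHom_injective (Equiv.Perm.viaEmbeddingHom_injective ι h)
    exact MulAction.toPerm_injective (e.permCongrHom.injective (congrArg Prod.fst h1))
  refine ⟨fun i => (φ.codRestrict _ hφ) (f i), fun h => hf ?_⟩
  have : FreeGroup.lift (fun i => (φ.codRestrict _ hφ) (f i)) =
      (φ.codRestrict _ hφ).comp (FreeGroup.lift f) :=
    FreeGroup.ext_hom _ _ (fun i => by simp)
  rw [this] at h
  have h1 : φ (FreeGroup.lift f w) = φ 1 := by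
    rw [map_one]; exact congrArg Subtype.val h
  rw [hinj h1]
  exact Subgroup.one_mem _


end Cfsg.Agent.S2352
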