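import Cfsg.Statements.S2353
import Cfsg.Agent.Lib.Small.WordMap
-- import your own Cfsg.Agent.* helpers here

set_option autoImplicit false
open Cfsg

namespace Cfsg.Agent.S2353

/-- A non-trivial law holds in PSL_2 over only finitely many finite fields: for every non-trivial element w of the free group on countably many generators there is N such that over every finite field with at least N elements some substitution of elements of PSL_2 into w is not the identity. -/
theorem result (w : FreeGroup ℕ) (hw : w ≠ 1) :
    ∃ N : ℕ, ∀ (F : Type*) [Field F] [Fintype F], N ≤ Fintype.card F →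
      ∃ f : ℕ → Matrix.ProjectiveSpecialLinearGroup (Fin 2) F, FreeGroup.lift f w ≠ 1 := by
  refine ⟨Small.WordMap.bound w, fun F _ _ hF => ?_⟩
  obtain ⟨f, hf⟩ := Small.WordMap.exists_noncentral w hw hF
  refine ⟨fun i => (QuotientGroup.mk' _) (f i), fun h => hf ?_⟩
  have : FreeGroup.lift (fun i => (QuotientGroup.mk'
      (Subgroup.center (Matrix.SpecialLinearGroup (Fin 2) F))) (f i)) =
      (QuotientGroup.mk' _).comp (FreeGroup.lift f) :=
    FreeGroup.ext_hom _ _ (fun i => by simp)
  rw [this] at h
  exact (QuotientGroup.eq_one_iff _).mp h


end Cfsg.Agent.S2353
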