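import Cfsg.Statements.S2354
-- import your own Cfsg.Agent.* helpers here

set_option autoImplicit false
open Cfsg

set_option maxHeartbeats 2000000
open Matrix Polynomial

namespace Cfsg.Agent.S2354

variable {F : Type*} [Field F] {n : ℕ}

/-- The coefficient matrix at a given degree. -/
noncomputable def topMat (M : Matrix (Fin n) (Fin n) F[X]) (d : ℕ) : Matrix (Fin n) (Fin n) F :=
  M.map (fun p => p.coeff d)

/-- All entries have degree at most the given bound. -/
def DegLe (M : Matrix (Fin n) (Fin n) F[X]) (d : ℕ) : Prop := ∀ r c, (M r c).natDegree ≤ d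

theorem DegLe.mul {M N : Matrix (Fin n) (Fin n) F[X]} {a b : ℕ} (hM : DegLe M a) (hN : DegLe N b) :
    DegLe (M * N) (a + b) := by
  intro r c
  rw [Matrix.mul_apply]
  exact natDegree_sum_le_of_forall_le _ _ fun k _ =>
    natDegree_mul_le.trans (add_le_add (hM r k) (hN k c))

theorem topMat_mul {M N : Matrix (Fin n) (Fin n) F[X]} {a b : ℕ} (hM : DegLe M a)
    (hN : DegLe N b) : topMat (M * N) (a + b) = topMat M a * topMat N b := by
  ext r c
  simp only [topMat, Matrix.map_apply, Matrix.mul_apply, finsetSum_coeff]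
  exact Finset.sum_congr rfl fun k _ => coeff_mul_add_eq_of_natDegree_le (hM r k) (hN k c)

theorem degLe_C (A : Matrix (Fin n) (Fin n) F) : DegLe (A.map C) 0 := by intro r c; simp

theorem topMat_C (A : Matrix (Fin n) (Fin n) F) : topMat (A.map C) 0 = A := by
  ext r c; simp [topMat]

/-- The exponents of a letter. -/
def expo (e : ℕ) (b : Bool) : Fin 4 → ℕ :=
  if b then ![2 * e + 2, e + 2, e, 0] else ![0, e, e + 2, 2 * e + 2]

/-- The dominant coordinate of a letter. -/
def side (b : Bool) : Fin 4 := if b then 0 else 3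

/-- A letter. -/
noncomputable def letterP (e : ℕ) (h : ℕ → GL (Fin 4) F) (x : ℕ × Bool) :
    Matrix (Fin 4) (Fin 4) F[X] :=
  ((h x.1 : GL (Fin 4) F) : Matrix (Fin 4) (Fin 4) F).map C *
    diagonal (fun k => (X : F[X]) ^ expo e x.2 k) *
      (((h x.1)⁻¹ : GL (Fin 4) F) : Matrix (Fin 4) (Fin 4) F).map C

theorem degLe_diag (e : ℕ) (b : Bool) :
    DegLe (diagonal fun k => (X : F[X]) ^ expo e b k) (2 * e + 2) := by
  intro r c
  rcases eq_or_ne r c with rfl | hrc
  · rw [diagonal_apply_eq, natDegree_X_pow]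
    cases b <;> fin_cases r <;> simp [expo] <;> omega
  · simp [diagonal_apply_ne _ hrc]

theorem topMat_diag (e : ℕ) (b : Bool) (he : 1 ≤ e) :
    topMat (diagonal fun k => (X : F[X]) ^ expo e b k) (2 * e + 2) =
      Matrix.single (side b) (side b) 1 := by
  ext r c
  rcases eq_or_ne r c with rfl | hrc
  · cases b <;> fin_cases r <;>
      simp [topMat, expo, side, coeff_X_pow, coeff_one, Matrix.single_apply] <;> omega
  · have h0 : ¬ (side b = r ∧ side b = c) := fun ⟨h1, h2⟩ => hrc (h1.symm.trans h2)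
    simp [topMat, diagonal_apply_ne _ hrc, h0, Matrix.single_apply]

theorem degLe_letterP (e : ℕ) (h : ℕ → GL (Fin 4) F) (x : ℕ × Bool) :
    DegLe (letterP e h x) (2 * e + 2) := by
  have := ((degLe_C ((h x.1 : GL (Fin 4) F) : Matrix (Fin 4) (Fin 4) F)).mul
    (degLe_diag (F := F) e x.2)).mul
    (degLe_C (((h x.1)⁻¹ : GL (Fin 4) F) : Matrix (Fin 4) (Fin 4) F))
  simpa only [zero_add, add_zero, letterP] using this

theorem topMat_letterP (e : ℕ) (he : 1 ≤ e) (h : ℕ → GL (Fin 4) F) (x : ℕ × Bool) :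
    topMat (letterP e h x) (2 * e + 2) =
      ((h x.1 : GL (Fin 4) F) : Matrix (Fin 4) (Fin 4) F) * Matrix.single (side x.2) (side x.2) 1 *
        (((h x.1)⁻¹ : GL (Fin 4) F) : Matrix (Fin 4) (Fin 4) F) := by
  have h1 := (degLe_C ((h x.1 : GL (Fin 4) F) : Matrix (Fin 4) (Fin 4) F)).mul
    (degLe_diag (F := F) e x.2)
  have h2 := topMat_mul h1 (degLe_C (((h x.1)⁻¹ : GL (Fin 4) F) : Matrix (Fin 4) (Fin 4) F))
  rw [topMat_mul (degLe_C _) (degLe_diag (F := F) e x.2), topMat_C, topMat_C,
    topMat_diag e x.2 he] at h2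
  simpa only [zero_add, add_zero, letterP] using h2

/-- The product of the letters of a word. -/
noncomputable def wordP (e : ℕ) (h : ℕ → GL (Fin 4) F) (L : List (ℕ × Bool)) :
    Matrix (Fin 4) (Fin 4) F[X] := (L.map (letterP e h)).prod

theorem degLe_wordP (e : ℕ) (h : ℕ → GL (Fin 4) F) (L : List (ℕ × Bool)) :
    DegLe (wordP e h L) (L.length * (2 * e + 2)) := by
  induction L with
  | nil =>
    intro r c
    rcases eq_or_ne r c with rfl | hrc <;> simp [wordP, *]
  | cons x L ih =>
    rw [wordP, List.map_cons, List.prod_cons, List.length_cons, add_one_mul, add_comm]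
    exact (degLe_letterP e h x).mul ih

theorem top_wordP (e : ℕ) (he : 1 ≤ e) (h : ℕ → GL (Fin 4) F) (N : ℕ)
    (hh : ∀ i j, i < N → j < N → i ≠ j → ∀ a b,
      (((h i)⁻¹ * h j : GL (Fin 4) F) : Matrix (Fin 4) (Fin 4) F) (side a) (side b) ≠ 0) :
    ∀ L : List (ℕ × Bool), FreeGroup.IsReduced L → (∀ x ∈ L, x.1 < N) → ∀ i b L', L = (i, b) :: L' →
      ∃ v : Fin 4 → F, v ≠ 0 ∧ topMat (wordP e h L) (L.length * (2 * e + 2)) =
        vecMulVec ((h i : GL (Fin 4) F).val *ᵥ Pi.single (side b) 1) v := by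
  intro L
  induction L with
  | nil => intro _ _ i b L' h; cases h
  | cons x L ih =>
    intro hred hN i b L' hL'
    obtain ⟨rfl, rfl⟩ : x = (i, b) ∧ L = L' := by simpa using hL'
    cases L with
    | nil =>
      refine ⟨Pi.single (side b) 1 ᵥ* ((h i)⁻¹ : GL (Fin 4) F).val, ?_, ?_⟩
      · intro h0
        have := congrArg (fun v => v ᵥ* (h i : GL (Fin 4) F).val) h0
        simp only [Matrix.vecMul_vecMul, ← Units.val_mul, inv_mul_cancel, Units.val_one,
          Matrix.vecMul_one, Matrix.zero_vecMul] at this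
        simpa using congrFun this (side b)
      · simp only [wordP, List.map_cons, List.map_nil, List.prod_cons, List.prod_nil, mul_one,
          List.length_cons, List.length_nil, zero_add, one_mul, topMat_letterP e he]
        rw [show Matrix.single (side b) (side b) (1 : F) =
          vecMulVec (Pi.single (side b) 1) (Pi.single (side b) 1) by
            rw [Matrix.single_eq_single_vecMulVec_single]]
        rw [Matrix.mul_vecMulVec, Matrix.vecMulVec_mul]
    | cons y L'' =>
      obtain ⟨j, c⟩ := y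
      rw [FreeGroup.isReduced_cons_cons] at hred
      obtain ⟨hjb, hred'⟩ := hred
      obtain ⟨v, hv0, hv⟩ := ih hred' (fun x hx => hN x (by simp [hx])) j c L'' rfl
      set z := (((h i)⁻¹ * h j : GL (Fin 4) F) : Matrix (Fin 4) (Fin 4) F) (side b) (side c)
        with hz
      have hz0 : z ≠ 0 := by
        by_cases hij : i = j
        · subst hij
          obtain rfl : b = c := hjb rfl
          simp [hz]
        · exact hh i j (hN (i, b) (by simp)) (hN (j, c) (by simp)) hij b c
      refine ⟨z • v, smul_ne_zero hz0 hv0, ?_⟩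
      rw [wordP, List.map_cons, List.prod_cons, ← wordP, List.length_cons, add_one_mul, add_comm,
        topMat_mul (degLe_letterP e h _) (degLe_wordP e h _), hv, topMat_letterP e he,
        Matrix.mul_vecMulVec]
      have key : ((h i : GL (Fin 4) F).val * Matrix.single (side b) (side b) 1 *
          ((h i)⁻¹ : GL (Fin 4) F).val) *ᵥ ((h j : GL (Fin 4) F).val *ᵥ Pi.single (side c) 1) =
          z • ((h i : GL (Fin 4) F).val *ᵥ Pi.single (side b) 1) := by
        rw [Matrix.mulVec_mulVec, Matrix.mul_assoc, Matrix.mul_assoc, ← Units.val_mul,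
          ← Matrix.mulVec_mulVec, ← Matrix.mulVec_smul]
        congr 1
        ext k
        rw [hz]
        simp only [Matrix.mulVec_single_one, Matrix.col_apply, Pi.smul_apply, smul_eq_mul]
        rcases eq_or_ne k (side b) with rfl | hk
        · simp
        · simp [hk, hk.symm, Pi.single_apply]
      rw [key]
      ext r c
      simp [vecMulVec_apply]
      ring

/-- The unipotent element with parameters zero and y. -/
def uMat {F : Type*} [Field F] (e : ℕ) (y : F) : Matrix (Fin 4) (Fin 4) F :=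
  !![1, 0, y, y ^ e; 0, 1, 0, y; 0, 0, 1, 0; 0, 0, 0, 1]

/-- The opposite unipotent element with parameters zero and y. -/
def lMat {F : Type*} [Field F] (e : ℕ) (y : F) : Matrix (Fin 4) (Fin 4) F :=
  !![1, 0, 0, 0; 0, 1, 0, 0; y, 0, 1, 0; y ^ e, y, 0, 1]

theorem uMat_sq [CharP F 2] (e : ℕ) (y : F) : uMat e y * uMat e y = 1 := by
  ext r c
  fin_cases r <;> fin_cases c <;>
    simp [uMat, Matrix.mul_apply, Fin.sum_univ_four, CharTwo.add_self_eq_zero]

theorem lMat_sq [CharP F 2] (e : ℕ) (y : F) : lMat e y * lMat e y = 1 := by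
  ext r c
  fin_cases r <;> fin_cases c <;>
    simp [lMat, Matrix.mul_apply, Fin.sum_univ_four, CharTwo.add_self_eq_zero]

/-- The unipotent element as a unit. -/
def uGL [CharP F 2] (e : ℕ) (y : F) : GL (Fin 4) F := ⟨uMat e y, uMat e y, uMat_sq e y, uMat_sq e y⟩

/-- The opposite unipotent element as a unit. -/
def lGL [CharP F 2] (e : ℕ) (y : F) : GL (Fin 4) F := ⟨lMat e y, lMat e y, lMat_sq e y, lMat_sq e y⟩

/-- The torus element. -/
def tGL (e : ℕ) (τ : Fˣ) : GL (Fin 4) F :=
  ⟨diagonal (fun k => ((![τ ^ (e + 1), τ, τ⁻¹, (τ⁻¹) ^ (e + 1)] k : Fˣ) : F)),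
    diagonal (fun k => (((![τ ^ (e + 1), τ, τ⁻¹, (τ⁻¹) ^ (e + 1)] k)⁻¹ : Fˣ) : F)),
    by simp [Matrix.diagonal_mul_diagonal], by simp [Matrix.diagonal_mul_diagonal]⟩

section Field
variable [Fintype F] [CharP F 2] {m : ℕ} (hm : 1 ≤ m) (hF : Fintype.card F = 2 ^ (2 * m + 1))

omit [CharP F 2] in
include hF in
theorem pow_e_e (x : F) : (x ^ 2 ^ (m + 1)) ^ 2 ^ (m + 1) = x ^ 2 := by
  rw [← pow_mul, ← pow_add, show m + 1 + (m + 1) = 2 * m + 1 + 1 by ring, pow_succ, pow_mul,
    ← hF, FiniteField.pow_card]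

include hF in
theorem uGL_mem (y : F) : uGL (2 ^ (m + 1)) y ∈ Cfsg.Lie.Sz F (2 ^ (m + 1)) := by
  apply Subgroup.subset_closure
  refine ⟨?_, ?_⟩
  · intro a b
    simp [uGL, uMat, Cfsg.Lie.altForm4, Matrix.mulVec, dotProduct, Fin.sum_univ_four]
    ring_nf
    simp [CharTwo.two_eq_zero]
  · have he := pow_e_e hF y
    have h0 : (0 : F) ^ 2 ^ (m + 1) = 0 := zero_pow (by simp)
    ext r c
    fin_cases r <;> fin_cases c <;>
      simp [uGL, uMat, Cfsg.Lie.star4, Cfsg.Lie.pairOf, h0, he, CharTwo.sub_eq_add] <;> ring_nf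

include hF in
theorem lGL_mem (y : F) : lGL (2 ^ (m + 1)) y ∈ Cfsg.Lie.Sz F (2 ^ (m + 1)) := by
  apply Subgroup.subset_closure
  refine ⟨?_, ?_⟩
  · intro a b
    simp [lGL, lMat, Cfsg.Lie.altForm4, Matrix.mulVec, dotProduct, Fin.sum_univ_four]
    ring_nf
    simp [CharTwo.two_eq_zero]
  · have he := pow_e_e hF y
    have h0 : (0 : F) ^ 2 ^ (m + 1) = 0 := zero_pow (by simp)
    ext r c
    fin_cases r <;> fin_cases c <;>
      simp [lGL, lMat, Cfsg.Lie.star4, Cfsg.Lie.pairOf, h0, he, CharTwo.sub_eq_add] <;> ring_nf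

omit [CharP F 2] in
include hF in
theorem tGL_mem (τ : Fˣ) : tGL (2 ^ (m + 1)) τ ∈ Cfsg.Lie.Sz F (2 ^ (m + 1)) := by
  apply Subgroup.subset_closure
  set e := 2 ^ (m + 1) with hedef
  set t : F := (τ : F) with ht
  have ht0 : t ≠ 0 := τ.ne_zero
  refine ⟨?_, ?_⟩
  · intro a b
    simp [tGL, Cfsg.Lie.altForm4, Matrix.mulVec_diagonal, ← ht]
    field_simp
  · have he : (t ^ e) ^ e = t ^ 2 := pow_e_e hF t
    have h0 : (0 : F) ^ e = 0 := zero_pow (by simp [hedef])
    have hee : t ^ (e * e) = t ^ 2 := by rw [pow_mul, he]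
    ext r c
    fin_cases r <;> fin_cases c <;>
      simp [tGL, Cfsg.Lie.star4, Cfsg.Lie.pairOf, h0, ← ht] <;>
      (try field_simp) <;>
      (try simp only [mul_pow, ← pow_mul, add_mul, mul_add, pow_add, one_mul, mul_one, hee]) <;>
      (try ring)

include hF in
theorem corner_ne (d : F) (hd : d ≠ 0) (a b : Bool) :
    ((uMat (2 ^ (m + 1)) 1 * lMat (2 ^ (m + 1)) d * uMat (2 ^ (m + 1)) 1 :
      Matrix (Fin 4) (Fin 4) F)) (side a) (side b) ≠ 0 := by
  have hcorner : 1 + d + d ^ 2 ^ (m + 1) ≠ 0 := by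
    intro h
    have h2 : 1 + d ^ 2 ^ (m + 1) + d ^ 2 = 0 := by
      have := congrArg (fun z => z ^ 2 ^ (m + 1)) h
      simpa [add_pow_char_pow, pow_e_e hF, zero_pow] using this
    have h3 : d * (d + 1) = 0 := by
      have : (1 + d + d ^ 2 ^ (m + 1)) + (1 + d ^ 2 ^ (m + 1) + d ^ 2) = 0 := by rw [h, h2, add_zero]
      linear_combination this - (1 + d ^ 2 ^ (m + 1)) * CharTwo.two_eq_zero (R := F)
    rcases mul_eq_zero.mp h3 with h4 | h4
    · exact hd h4
    · rw [CharTwo.add_eq_zero] at h4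
      subst h4
      simp [CharTwo.add_self_eq_zero] at h
  have hne : d ^ 2 ^ (m + 1) ≠ 0 := pow_ne_zero _ hd
  cases a <;> cases b <;>
    simp [side, uMat, lMat, Matrix.mul_apply, Fin.sum_univ_four] <;>
    intro h <;> first
      | exact hd h
      | exact hne h
      | (apply hcorner; linear_combination h)
      | (apply hne; linear_combination h - (1 + d) * CharTwo.two_eq_zero (R := F))

end Field

/-- A non-trivial law holds in only finitely many Suzuki groups: for every non-trivial element w of the free group on countably many generators there is N such that for q = 2^(2m+1) with m ≥ N some substitution of elements of the Suzuki group over the field with q elements into w is not the identity. -/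
theorem result (w : FreeGroup ℕ) (hw : w ≠ 1) :
    ∃ N : ℕ, ∀ (F : Type*) [Field F] [Fintype F] (m : ℕ), 1 ≤ m → N ≤ m →
      Fintype.card F = 2 ^ (2 * m + 1) →
      ∃ f : ℕ → ↥(Cfsg.Lie.Sz F (2 ^ (m + 1))), FreeGroup.lift f w ≠ 1 := by
  classical
  set L := w.toWord with hL
  set N := (L.map Prod.fst).sum + 1 with hNdef
  refine ⟨4 * L.length + N + 4, ?_⟩
  intro F _ _ m hm1 hmN hF
  haveI : Fact (Nat.Prime 2) := ⟨Nat.prime_two⟩
  haveI : CharP F 2 := by
    obtain ⟨p, hp⟩ := CharP.exists F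
    obtain ⟨n, hprime, hn⟩ := FiniteField.card F p
    obtain rfl : p = 2 := by
      have : p ∣ 2 ^ (2 * m + 1) := hF ▸ hn ▸ dvd_pow_self p n.ne_zero
      exact (Nat.prime_dvd_prime_iff_eq hprime Nat.prime_two).mp (hprime.dvd_of_dvd_pow this)
    exact hp
  set e := 2 ^ (m + 1) with he
  set M := 2 ^ m with hM
  have hmM : m < M := Nat.lt_two_pow_self
  have heM : e = 2 * M := by rw [he, hM, pow_succ, mul_comm]
  have hq : Fintype.card F = 2 * M * M := by
    rw [hF, hM, two_mul m, pow_succ, pow_add]; ring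
  have hNq : N ≤ Fintype.card F := by rw [hq]; nlinarith
  have hsize : L.length * (2 * e + 2) + 1 < Fintype.card F := by rw [hq, heM]; nlinarith
  let y : ℕ → F := fun i =>
    if h : i < N then (Fintype.equivFin F).symm ⟨i, h.trans_le hNq⟩ else 0
  let h : ℕ → GL (Fin 4) F := fun i => lGL e (y i) * uGL e 1
  have hN : ∀ x ∈ L, x.1 < N := by
    intro x hx
    have := List.le_sum_of_mem (List.mem_map.mpr ⟨x, hx, rfl⟩ : x.1 ∈ L.map Prod.fst)
    omega
  have hh : ∀ i j, i < N → j < N → i ≠ j → ∀ a b,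
      (((h i)⁻¹ * h j : GL (Fin 4) F) : Matrix (Fin 4) (Fin 4) F) (side a) (side b) ≠ 0 := by
    intro i j hi hj hij a b
    have hd : y i + y j ≠ 0 := by
      rw [Ne, CharTwo.add_eq_zero]
      simp [y, hi, hj, hij]
    have hprod : (((h i)⁻¹ * h j : GL (Fin 4) F) : Matrix (Fin 4) (Fin 4) F) =
        uMat e 1 * lMat e (y i + y j) * uMat e 1 := by
      have hl : lMat e (y i) * lMat e (y j) = lMat e (y i + y j) := by
        ext r c
        fin_cases r <;> fin_cases c <;>
          simp [lMat, Matrix.mul_apply, Fin.sum_univ_four, he, add_pow_char_pow]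
      simp only [h, _root_.mul_inv_rev, Units.val_mul]
      change uMat e 1 * lMat e (y i) * (lMat e (y j) * uMat e 1) = _
      simp only [mul_assoc, ← hl]
    rw [hprod]
    exact corner_ne hF _ hd a b
  obtain ⟨⟨i, b⟩, L', hcons⟩ : ∃ x L', L = x :: L' := by
    cases hL' : L with
    | nil => exact absurd (FreeGroup.toWord_eq_nil_iff.mp (hL.symm.trans hL')) hw
    | cons x L' => exact ⟨x, L', rfl⟩
  have he1 : 1 ≤ e := by rw [he]; exact Nat.one_le_two_pow
  obtain ⟨v, hv0, hv⟩ := top_wordP e he1 h N hh L FreeGroup.isReduced_toWord hN i b L' hcons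
  set D := L.length * (2 * e + 2) with hD
  set c := L.length * (e + 1) with hc
  set Q : Matrix (Fin 4) (Fin 4) F[X] := wordP e h L - (X : F[X]) ^ c • 1 with hQ
  have hlen : 1 ≤ L.length := by rw [hcons]; simp
  have hcD : c < D := by rw [hc, hD]; exact Nat.mul_lt_mul_of_pos_left (by omega) hlen
  have htopQ : topMat Q D = vecMulVec ((h i : GL (Fin 4) F).val *ᵥ Pi.single (side b) 1) v := by
    rw [← hv]
    ext r s
    rcases eq_or_ne r s with rfl | hrs
    · simp [hQ, topMat, coeff_X_pow, hcD.ne']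
    · simp [hQ, topMat, hrs]
  have hex : ∃ r s, (Q r s).coeff D ≠ 0 := by
    by_contra! hall
    obtain ⟨s, hs⟩ := Function.ne_iff.mp hv0
    have hu : ∃ r, ((h i : GL (Fin 4) F).val *ᵥ Pi.single (side b) 1) r ≠ 0 := by
      by_contra! hu
      have := congrArg (fun u => ((h i)⁻¹ : GL (Fin 4) F).val *ᵥ u) (funext hu :
        ((h i : GL (Fin 4) F).val *ᵥ Pi.single (side b) (1 : F)) = 0)
      simp only [Matrix.mulVec_mulVec, ← Units.val_mul, inv_mul_cancel, Units.val_one,
        Matrix.one_mulVec, Matrix.mulVec_zero] at this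
      simpa using congrFun this (side b)
    obtain ⟨r, hr⟩ := hu
    have := congrFun (congrFun htopQ r) s
    simp only [topMat, Matrix.map_apply, hall, vecMulVec_apply] at this
    exact mul_ne_zero hr hs this.symm
  obtain ⟨r, s, hrs⟩ := hex
  set P := Q r s with hP
  have hP0 : P ≠ 0 := fun h => hrs (by simp [h])
  have hdegP : P.natDegree ≤ D := by
    rw [hP, hQ, Matrix.sub_apply]
    refine (natDegree_sub_le _ _).trans (max_le (degLe_wordP e h L r s) ?_)
    rcases eq_or_ne r s with rfl | hne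
    · simp; omega
    · simp [hne]
  obtain ⟨τ, hτ⟩ : ∃ τ : F, (P * X).eval τ ≠ 0 := by
    by_contra! hall
    refine mul_ne_zero hP0 X_ne_zero ?_
    refine Polynomial.eq_zero_of_natDegree_lt_card_of_eval_eq_zero' (P * X) Finset.univ
      (fun x _ => hall x) ?_
    rw [natDegree_mul hP0 X_ne_zero, natDegree_X, Finset.card_univ]
    omega
  rw [eval_mul, eval_X, mul_ne_zero_iff] at hτ
  set u : Fˣ := Units.mk0 τ hτ.2 with hu
  let g : ℕ → GL (Fin 4) F := fun i => h i * tGL e u * (h i)⁻¹
  have hmem : ∀ i, g i ∈ Cfsg.Lie.Sz F e := fun i =>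
    mul_mem (mul_mem (mul_mem (lGL_mem hF _) (uGL_mem hF _)) (tGL_mem hF _))
      (inv_mem (mul_mem (lGL_mem hF _) (uGL_mem hF _)))
  refine ⟨fun i => ⟨g i, hmem i⟩, fun hone => hτ.1 ?_⟩
  have hg1 : FreeGroup.lift g w = 1 := by
    have h2 : FreeGroup.lift g = (Cfsg.Lie.Sz F e).subtype.comp
        (FreeGroup.lift fun i => (⟨g i, hmem i⟩ : Cfsg.Lie.Sz F e)) :=
      FreeGroup.ext_hom _ _ (fun i => by simp)
    rw [h2, MonoidHom.comp_apply, hone, map_one]
  have key : ∀ M : List (ℕ × Bool), τ ^ (M.length * (e + 1)) • ((FreeGroup.lift g (FreeGroup.mk M)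
      : GL (Fin 4) F) : Matrix (Fin 4) (Fin 4) F) = (wordP e h M).map (evalRingHom τ) := by
    intro M
    induction M with
    | nil => simp [wordP, ← FreeGroup.one_eq_mk]
    | cons x M ih =>
      obtain ⟨j, c⟩ := x
      rw [FreeGroup.lift_mk, List.map_cons, List.prod_cons, ← FreeGroup.lift_mk, wordP,
        List.map_cons, List.prod_cons, ← wordP, Matrix.map_mul, ← ih, List.length_cons,
        add_one_mul, pow_add, Units.val_mul, Matrix.mul_smul, mul_smul]
      congr 1
      rw [← Matrix.smul_mul]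
      congr 1
      have hC : ∀ A : Matrix (Fin 4) (Fin 4) F, (A.map C).map (evalRingHom τ) = A := fun A => by
        ext; simp
      rw [letterP, Matrix.map_mul, Matrix.map_mul, hC, hC, Matrix.diagonal_map (map_zero _)]
      have ht : τ ≠ 0 := hτ.2
      cases c
      · simp only [cond_false, g, _root_.mul_inv_rev, inv_inv, Units.val_mul, ← mul_assoc]
        rw [← Matrix.smul_mul, ← Matrix.mul_smul]
        congr 2
        rw [tGL, Units.inv_mk, ← Matrix.diagonal_smul]
        refine Matrix.diagonal_eq_diagonal_iff.mpr fun k => ?_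
        fin_cases k <;> simp [hu, expo, pow_add, two_mul] <;> field_simp
      · simp only [cond_true, g, Units.val_mul]
        rw [← Matrix.smul_mul, ← Matrix.mul_smul]
        congr 2
        rw [tGL, ← Matrix.diagonal_smul]
        refine Matrix.diagonal_eq_diagonal_iff.mpr fun k => ?_
        fin_cases k <;> simp [hu, expo, pow_add, two_mul] <;> field_simp
  have hfin := key L
  rw [hL, FreeGroup.mk_toWord, hg1] at hfin
  have := congrFun (congrFun hfin r) s
  rw [hP, hQ, Matrix.sub_apply, eval_sub]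
  rw [Matrix.map_apply, coe_evalRingHom, ← hL] at this
  rw [← this]
  rcases eq_or_ne r s with rfl | hne
  · simp [hc]
  · simp [hne]

end Cfsg.Agent.S2354
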