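import Cfsg.Statements.S2355
import Cfsg.Agent.Lib.Small.WordMap
import Cfsg.Agent.Lib.Small.ClassicalHom
-- import your own Cfsg.Agent.* helpers here

set_option autoImplicit false
open Cfsg

namespace Cfsg.Agent.S2355

variable {w : FreeGroup ℕ}

/-- `w` takes a noncentral value on some perfect subgroup. -/
def Wit (w : FreeGroup ℕ) (H : Type*) [Group H] : Prop :=
  ∃ P : Subgroup H, ⁅P, P⁆ = P ∧ ∃ f : ℕ → P, FreeGroup.lift f w ∉ Subgroup.center P

theorem Wit.of_perfect {S : Type*} [Group S] (hS : commutator S = ⊤) (f : ℕ → S)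
    (hf : FreeGroup.lift f w ∉ Subgroup.center S) : Wit w S := by
  refine ⟨⊤, hS, fun i => ⟨f i, trivial⟩, fun h => hf ?_⟩
  rw [Subgroup.mem_center_iff]
  intro g
  have h1 := Subgroup.mem_center_iff.mp h ⟨g, trivial⟩
  have h2 := congrArg (Subgroup.subtype _) h1
  have e : (⊤ : Subgroup S).subtype.comp (FreeGroup.lift (fun i => (⟨f i, trivial⟩ : (⊤ : Subgroup S)))) =
      FreeGroup.lift f := FreeGroup.ext_hom _ _ (fun i => by simp)
  rw [← e]
  simpa using h2

theorem Wit.map {H K : Type*} [Group H] [Group K] (h : Wit w H) (φ : H →* K)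
    (hφ : Function.Injective φ) : Wit w K := by
  obtain ⟨P, hP, f, hf⟩ := h
  refine ⟨P.map φ, by rw [← Subgroup.map_commutator, hP],
    fun i => Subgroup.equivMapOfInjective P φ hφ (f i), fun hc => hf ?_⟩
  set e := Subgroup.equivMapOfInjective P φ hφ
  have he : FreeGroup.lift (fun i => e (f i)) = e.toMonoidHom.comp (FreeGroup.lift f) :=
    FreeGroup.ext_hom _ _ (fun i => by simp)
  rw [he] at hc
  rw [Subgroup.mem_center_iff]
  intro g
  exact e.injective (by rw [map_mul, map_mul]; exact Subgroup.mem_center_iff.mp hc (e g))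

theorem Wit.restrict {H K : Type*} [Group H] [Group K] (h : Wit w H) (φ : K →* H)
    (hφ : Function.Injective φ) (hr : commutator H ≤ φ.range) : Wit w K := by
  obtain ⟨P, hP, f, hf⟩ := h
  have hle : P ≤ φ.range :=
    le_trans (hP.ge.trans (Subgroup.commutator_mono le_top le_top)) hr
  have hmap : (P.comap φ).map φ = P := Subgroup.map_comap_eq_self hle
  let e : P.comap φ ≃* P :=
    (Subgroup.equivMapOfInjective (P.comap φ) φ hφ).trans (MulEquiv.subgroupCongr hmap)
  refine ⟨P.comap φ, ?_, fun i => e.symm (f i), fun hc => hf ?_⟩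
  · apply Subgroup.map_injective hφ
    rw [Subgroup.map_commutator, hmap, hP]
  have he : FreeGroup.lift f = e.toMonoidHom.comp (FreeGroup.lift (fun i => e.symm (f i))) :=
    FreeGroup.ext_hom _ _ (fun i => by simp)
  rw [he, Subgroup.mem_center_iff]
  intro g
  obtain ⟨g, rfl⟩ := e.surjective g
  rw [MonoidHom.comp_apply, MulEquiv.coe_toMonoidHom, ← map_mul, ← map_mul,
    Subgroup.mem_center_iff.mp hc g]

theorem Wit.not_law {K G : Type*} [Group K] [Group G] (h : Wit w K)
    (e : G ≃* K ⧸ Subgroup.center K) : ¬ ∀ f : ℕ → G, FreeGroup.lift f w = 1 := by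
  obtain ⟨P, -, f, hf⟩ := h
  intro hall
  apply hf
  let ψ : P →* G := e.symm.toMonoidHom.comp ((QuotientGroup.mk' _).comp P.subtype)
  have he : FreeGroup.lift (fun i => ψ (f i)) = ψ.comp (FreeGroup.lift f) :=
    FreeGroup.ext_hom _ _ (fun i => by simp)
  have h1 := hall (fun i => ψ (f i))
  rw [he, MonoidHom.comp_apply] at h1
  have h2 : (QuotientGroup.mk' (Subgroup.center K)) (FreeGroup.lift f w : K) = 1 :=
    e.symm.injective (h1.trans (map_one _).symm)
  rw [Subgroup.mem_center_iff]
  intro g
  exact Subtype.ext (Subgroup.mem_center_iff.mp ((QuotientGroup.eq_one_iff _).mp h2) g)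

theorem perfect_SL2 (F : Type*) [Field F] [Finite F] (h : 4 ≤ Nat.card F) :
    commutator (Matrix.SpecialLinearGroup (Fin 2) F) = ⊤ := by
  classical
  haveI := Fintype.ofFinite F
  obtain ⟨a, ha⟩ : ∃ a : F, a ∉ ({0, 1, -1} : Finset F) := by
    by_contra! hall
    have h1 : Fintype.card F ≤ ({0, 1, -1} : Finset F).card :=
      Finset.card_le_card (fun x _ => hall x)
    have := Finset.card_le_three (a := (0 : F)) (b := 1) (c := -1)
    rw [Nat.card_eq_fintype_card] at h
    omega
  simp only [Finset.mem_insert, Finset.mem_singleton, not_or] at ha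
  refine Matrix.SL2.commutator_eq_top ha.1 ?_
  intro hsq
  rcases sq_eq_one_iff.mp hsq with h' | h'
  · exact ha.2.1 h'
  · exact ha.2.2 h'

theorem wit_SL2 (hw : w ≠ 1) (F : Type*) [Field F] [Finite F]
    (h : max 4 (Small.WordMap.bound w) ≤ Nat.card F) :
    Wit w (Matrix.SpecialLinearGroup (Fin 2) F) := by
  haveI := Fintype.ofFinite F
  obtain ⟨f, hf⟩ := Small.WordMap.exists_noncentral (F := F) w hw
    (by rw [← Nat.card_eq_fintype_card]; omega)
  exact Wit.of_perfect (perfect_SL2 F (by omega)) f hf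

theorem wit_GL_large (hw : w ≠ 1) (F : Type*) [Field F] [Finite F] {n : ℕ} (hn : 2 ≤ n)
    (h : max 4 (Small.WordMap.bound w) ≤ Nat.card F) : Wit w (GL (Fin n) F) :=
  ((wit_SL2 hw F h).map _ Matrix.SpecialLinearGroup.toGL_injective).map _
    (Small.glBlockHom_injective F hn)

theorem range_toGL_commutator (F : Type*) [Field F] (n : ℕ) :
    commutator (GL (Fin n) F) ≤
      (Matrix.SpecialLinearGroup.toGL (n := Fin n) (R := F)).range := by
  intro g hg
  have h1 : Matrix.GeneralLinearGroup.det g = 1 :=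
    MonoidHom.mem_ker.mp (Abelianization.commutator_subset_ker Matrix.GeneralLinearGroup.det hg)
  exact ⟨⟨(g : Matrix (Fin n) (Fin n) F), congrArg Units.val h1⟩, Units.ext rfl⟩

theorem card_quot_le {ι F G : Type*} [Fintype ι] [Field F] [Fintype F] [Group G]
    {K : Type*} [Group K] (φ : K → Matrix ι ι F) (hφ : Function.Injective φ)
    (e : G ≃* K ⧸ Subgroup.center K) {B M : ℕ} (hB : Fintype.card F ≤ B)
    (hM : Fintype.card ι ≤ M) : Nat.card G ≤ B ^ (M * M) := by
  classical
  haveI : Finite K := Finite.of_injective φ hφ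
  rw [Nat.card_congr e.toEquiv]
  refine le_trans (Nat.card_le_card_of_surjective _ Quotient.mk''_surjective) ?_
  refine le_trans (Nat.card_le_card_of_injective φ hφ) ?_
  rw [Nat.card_eq_fintype_card]
  have : Fintype.card (Matrix ι ι F) = Fintype.card F ^ (Fintype.card ι * Fintype.card ι) := by
    rw [← Fintype.card_prod, ← Fintype.card_fun]
    exact Fintype.card_congr (Equiv.curry ι ι F).symm
  rw [this]
  exact (Nat.pow_le_pow_left hB _).trans
    (Nat.pow_le_pow_right (lt_of_lt_of_le Fintype.card_pos hB) (Nat.mul_le_mul hM hM))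

/-- A non-trivial law is satisfied by only finitely many finite simple groups that are alternating or classical, up to isomorphism: for every non-trivial element w of the free group on countably many generators there is a bound N such that every alternating group of degree ≥ 5 and every simple classical group (linear, symplectic, unitary or orthogonal, in this problem's sense) in which w is a law has order at most N. -/
theorem result (w : FreeGroup ℕ) (hw : w ≠ 1) :
    ∃ N : ℕ, ∀ (G : Type*) [Group G] [Finite G],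
      (Cfsg.IsAlternating G ∨ Cfsg.IsPSL G ∨ Cfsg.IsPSp G ∨ Cfsg.IsPSU G ∨ Cfsg.IsPOmegaOdd G ∨
          Cfsg.IsPOmegaPlus G ∨ Cfsg.IsPOmegaMinus G) →
      (∀ f : ℕ → G, FreeGroup.lift f w = 1) → Nat.card G ≤ N := by
  classical
  obtain ⟨p, hp, hprime⟩ := Nat.exists_infinite_primes (max 4 (Small.WordMap.bound w))
  haveI : Fact p.Prime := ⟨hprime⟩
  obtain ⟨k, ⟨e₀⟩⟩ := Finite.exists_equiv_fin (Matrix.SpecialLinearGroup (Fin 2) (ZMod p))
  have hS₀ : Wit w (Equiv.Perm (Fin k)) :=
    (wit_SL2 hw (ZMod p) (by rwa [Nat.card_zmod])).map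
      (e₀.permCongrHom.toMonoidHom.comp (MulAction.toPermHom _ _))
      (e₀.permCongrHom.injective.comp MulAction.toPerm_injective)
  have hperm : ∀ n, k ≤ n → Wit w (Equiv.Perm (Fin n)) := fun n hn =>
    hS₀.map _ (Equiv.Perm.viaEmbeddingHom_injective (Fin.castLEEmb hn))
  set B := max 4 (Small.WordMap.bound w) with hB
  have hGL : ∀ (F : Type) [Field F] [Fintype F] (n : ℕ), 2 ≤ n →
      (B ≤ Fintype.card F ∨ k ≤ n) → Wit w (GL (Fin n) F) := by
    intro F _ _ n hn h
    rcases h with h | h
    · exact wit_GL_large hw F hn (by rwa [Nat.card_eq_fintype_card])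
    · exact (hperm n h).map _ (Small.permGL_injective n)
  refine ⟨max k.factorial (((B + 1) ^ 2) ^ ((2 * k + 2) * (2 * k + 2))), ?_⟩
  intro G _ _ hG hlaw
  by_contra hcard
  rw [not_le, max_lt_iff] at hcard
  rcases hG with ⟨n, hn5, ⟨e⟩⟩ | ⟨F, _, _, n, hn2, -, ⟨e⟩⟩ | ⟨F, _, _, m, hm, -, ⟨e⟩⟩ |
    ⟨F, _, _, n, q, hF, hn, -, ⟨e⟩⟩ | ⟨F, _, _, m, hm, -, ⟨e⟩⟩ | ⟨F, _, _, m, hm, ⟨e⟩⟩ |
    ⟨F, _, _, m, a, b, hm, -, ⟨e⟩⟩
  · -- alternating
    by_cases hnk : n < k
    · have h1 : Nat.card G ≤ k.factorial := by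
        rw [Nat.card_congr e.toEquiv]
        refine (Subgroup.card_le_card_group _).trans ?_
        rw [Nat.card_perm, Nat.card_fin]
        exact Nat.factorial_le hnk.le
      omega
    have hA : Wit w (alternatingGroup (Fin n)) := by
      refine (hperm n (not_lt.mp hnk)).restrict (alternatingGroup (Fin n)).subtype
        (Subgroup.subtype_injective _) ?_
      rw [Subgroup.range_subtype]
      intro x hx
      exact Abelianization.commutator_subset_ker Equiv.Perm.sign hx
    obtain ⟨P, -, f, hf⟩ := hA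
    apply hf
    have h1 : FreeGroup.lift (fun i => (f i : alternatingGroup (Fin n))) w = 1 := by
      have h2 : FreeGroup.lift (fun i => (f i : alternatingGroup (Fin n))) =
          e.toMonoidHom.comp (FreeGroup.lift (fun i => e.symm (f i : alternatingGroup (Fin n)))) :=
        FreeGroup.ext_hom _ _ (fun i => by simp)
      rw [h2, MonoidHom.comp_apply, hlaw, map_one]
    have h3 : FreeGroup.lift (fun i => (f i : alternatingGroup (Fin n))) =
        P.subtype.comp (FreeGroup.lift f) := FreeGroup.ext_hom _ _ (fun i => by simp)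
    rw [h3, MonoidHom.comp_apply] at h1
    rw [show FreeGroup.lift f w = 1 from Subtype.ext h1]
    exact Subgroup.one_mem _
  · -- linear
    by_cases hbig : B ≤ Fintype.card F ∨ k ≤ n
    · exact ((hGL F n hn2 hbig).restrict Matrix.SpecialLinearGroup.toGL
        Matrix.SpecialLinearGroup.toGL_injective (range_toGL_commutator F n)).not_law e hlaw
    push Not at hbig
    have := card_quot_le (fun g : Matrix.SpecialLinearGroup (Fin n) F =>
      (g : Matrix (Fin n) (Fin n) F)) Subtype.val_injective e
      (B := (B + 1) ^ 2) (M := 2 * k + 2) (by nlinarith) (by simp; omega)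
    omega
  · -- symplectic
    by_cases hbig : B ≤ Fintype.card F ∨ k ≤ m
    · exact ((hGL F m hm hbig).map _ (Small.spHom_injective m)).not_law e hlaw
    push Not at hbig
    have := card_quot_le (fun g : Matrix.symplecticGroup (Fin m) F =>
      (g : Matrix (Fin m ⊕ Fin m) (Fin m ⊕ Fin m) F)) Subtype.val_injective e
      (B := (B + 1) ^ 2) (M := 2 * k + 2) (by nlinarith) (by simp; omega)
    omega
  · -- unitary
    have hq : Nat.card F = q ^ 2 := by rw [Nat.card_eq_fintype_card, hF]
    by_cases hbig : B + 1 ≤ q ∨ k ≤ n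
    · obtain ⟨σ, hσ⟩ := Small.exists_frobenius_half hq
      have hGU : Wit w (GU n F q) := by
        rcases hbig with h | h
        · obtain ⟨F₀, φ, hc, hinj, hφ⟩ := Small.exists_SL2_in_GU2 hq σ hσ
          have h2n : 2 ≤ n := by omega
          exact (wit_SL2 hw F₀ (by omega)).map
            (((Small.glBlockHom F h2n).comp φ).codRestrict _
              fun g => Small.glBlockHom_mem_GU σ hσ h2n _ (hφ g))
            (fun x y hxy => hinj (Small.glBlockHom_injective F h2n (congrArg Subtype.val hxy)))
        · exact (hperm n h).map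
            ((Small.permGL n F).codRestrict _ (Small.permGL_mem_GU σ hσ))
            (fun x y hxy => Small.permGL_injective n (congrArg Subtype.val hxy))
      let ι : SU n F q →* GU n F q :=
        ((Matrix.SpecialLinearGroup.toGL).comp (SU n F q).subtype).codRestrict _ fun g => g.2
      refine (hGU.restrict ι (fun x y hxy => Subtype.ext (Matrix.SpecialLinearGroup.toGL_injective
        (congrArg Subtype.val hxy))) ?_).not_law e hlaw
      intro g hg
      have h1 : Matrix.GeneralLinearGroup.det (g : GL (Fin n) F) = 1 :=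
        MonoidHom.mem_ker.mp (Abelianization.commutator_subset_ker
          (Matrix.GeneralLinearGroup.det.comp (GU n F q).subtype) hg)
      refine ⟨⟨⟨((g : GL (Fin n) F) : Matrix (Fin n) (Fin n) F), congrArg Units.val h1⟩, g.2⟩, ?_⟩
      exact Subtype.ext (Units.ext rfl)
    push Not at hbig
    have := card_quot_le (fun g : SU n F q =>
      ((g : Matrix.SpecialLinearGroup (Fin n) F) : Matrix (Fin n) (Fin n) F))
      (fun x y h => Subtype.ext (Subtype.ext h)) e
      (B := (B + 1) ^ 2) (M := 2 * k + 2)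
      (by rw [hF]; exact Nat.pow_le_pow_left (by omega) 2) (by simp; omega)
    omega
  · -- odd orthogonal
    by_cases hbig : B ≤ Fintype.card F ∨ k ≤ m
    · exact (((hGL F m (by omega) hbig).map _ (Small.oddHom_injective m)).restrict
        (Subgroup.subtype _) (Subgroup.subtype_injective _) (by simp)).not_law e hlaw
    push Not at hbig
    have := card_quot_le (fun g : Omega F (quadFormOdd m F) =>
      (((g : isometryGroup F (quadFormOdd m F)) : GL (Unit ⊕ (Fin m ⊕ Fin m)) F) :
        Matrix (Unit ⊕ (Fin m ⊕ Fin m)) (Unit ⊕ (Fin m ⊕ Fin m)) F))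
      (fun x y h => Subtype.ext (Subtype.ext (Units.ext h))) e
      (B := (B + 1) ^ 2) (M := 2 * k + 2) (by nlinarith) (by simp; omega)
    omega
  · -- plus type
    by_cases hbig : B ≤ Fintype.card F ∨ k ≤ m
    · exact (((hGL F m (by omega) hbig).map _ (Small.plusHom_injective m)).restrict
        (Subgroup.subtype _) (Subgroup.subtype_injective _) (by simp)).not_law e hlaw
    push Not at hbig
    have := card_quot_le (fun g : Omega F (quadFormPlus m F) =>
      (((g : isometryGroup F (quadFormPlus m F)) : GL (Fin m ⊕ Fin m) F) :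
        Matrix (Fin m ⊕ Fin m) (Fin m ⊕ Fin m) F))
      (fun x y h => Subtype.ext (Subtype.ext (Units.ext h))) e
      (B := (B + 1) ^ 2) (M := 2 * k + 2) (by nlinarith) (by simp; omega)
    omega
  · -- minus type
    by_cases hbig : B ≤ Fintype.card F ∨ k ≤ m - 1
    · exact (((hGL F (m - 1) (by omega) hbig).map _ (Small.minusHom_injective (m - 1) a b)).restrict
        (Subgroup.subtype _) (Subgroup.subtype_injective _) (by simp)).not_law e hlaw
    push Not at hbig
    have := card_quot_le (fun g : Omega F (quadFormMinus (m - 1) F a b) =>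
      (((g : isometryGroup F (quadFormMinus (m - 1) F a b)) :
        GL ((Fin (m - 1) ⊕ Fin (m - 1)) ⊕ Fin 2) F) :
        Matrix ((Fin (m - 1) ⊕ Fin (m - 1)) ⊕ Fin 2) ((Fin (m - 1) ⊕ Fin (m - 1)) ⊕ Fin 2) F))
      (fun x y h => Subtype.ext (Subtype.ext (Units.ext h))) e
      (B := (B + 1) ^ 2) (M := 2 * k + 2) (by nlinarith) (by simp; omega)
    omega


end Cfsg.Agent.S2355
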