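import Cfsg.Statements.S2357
import Cfsg.Agent.Lib.Small.Ree.Orders
-- import your own Cfsg.Agent.* helpers here

set_option autoImplicit false
open Cfsg

namespace Cfsg.Agent.S2357

/-- Let R be the small Ree group over the field with q = 3^(2m+1) ≥ 27 elements and write φ for Euler's totient function. Then R has exactly q²(q²−q+1) involutions, (q²−1)(q³+1) elements of order 3, and q²(q−1)(q³+1) elements of order 6 and as many of order 9; for i > 2 dividing q−1 it has φ(i)q³(q³+1)/2 elements of order i; for i > 1 dividing (q+1)/4 it has φ(i)q³(q−1)(q²−q+1)/6 elements of order i and φ(i)q³(q−1)(q²−q+1)/2 elements of order 2i; and for i > 1 dividing q − 3^(m+1) + 1 (respectively q + 3^(m+1) + 1) it has φ(i)q³(q²−1)(q + 3^(m+1) + 1)/6 (respectively φ(i)q³(q²−1)(q − 3^(m+1) + 1)/6) elements of order i. -/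
theorem result {K : Type*} [Field K] [Fintype K] {m : ℕ} (hm : 1 ≤ m)
    (hK : Fintype.card K = 3 ^ (2 * m + 1)) :
    Nat.card {g : ↥(Cfsg.Lie.twistedG2 K (3 ^ m)) // orderOf g = 2} = (3 ^ (2 * m + 1)) ^ 2 * ((3 ^ (2 * m + 1)) ^ 2 - 3 ^ (2 * m + 1) + 1) ∧
    Nat.card {g : ↥(Cfsg.Lie.twistedG2 K (3 ^ m)) // orderOf g = 3} = ((3 ^ (2 * m + 1)) ^ 2 - 1) * ((3 ^ (2 * m + 1)) ^ 3 + 1) ∧
    Nat.card {g : ↥(Cfsg.Lie.twistedG2 K (3 ^ m)) // orderOf g = 6} = (3 ^ (2 * m + 1)) ^ 2 * (3 ^ (2 * m + 1) - 1) * ((3 ^ (2 * m + 1)) ^ 3 + 1) ∧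
    Nat.card {g : ↥(Cfsg.Lie.twistedG2 K (3 ^ m)) // orderOf g = 9} = (3 ^ (2 * m + 1)) ^ 2 * (3 ^ (2 * m + 1) - 1) * ((3 ^ (2 * m + 1)) ^ 3 + 1) ∧
    (∀ i : ℕ, 2 < i → i ∣ 3 ^ (2 * m + 1) - 1 →
      2 * Nat.card {g : ↥(Cfsg.Lie.twistedG2 K (3 ^ m)) // orderOf g = i} = Nat.totient i * (3 ^ (2 * m + 1)) ^ 3 * ((3 ^ (2 * m + 1)) ^ 3 + 1)) ∧
    (∀ i : ℕ, 1 < i → i ∣ (3 ^ (2 * m + 1) + 1) / 4 →
      6 * Nat.card {g : ↥(Cfsg.Lie.twistedG2 K (3 ^ m)) // orderOf g = i} =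
          Nat.totient i * (3 ^ (2 * m + 1)) ^ 3 * (3 ^ (2 * m + 1) - 1) * ((3 ^ (2 * m + 1)) ^ 2 - 3 ^ (2 * m + 1) + 1) ∧
        2 * Nat.card {g : ↥(Cfsg.Lie.twistedG2 K (3 ^ m)) // orderOf g = 2 * i} =
          Nat.totient i * (3 ^ (2 * m + 1)) ^ 3 * (3 ^ (2 * m + 1) - 1) * ((3 ^ (2 * m + 1)) ^ 2 - 3 ^ (2 * m + 1) + 1)) ∧
    (∀ i : ℕ, 1 < i → i ∣ 3 ^ (2 * m + 1) - 3 ^ (m + 1) + 1 →
      6 * Nat.card {g : ↥(Cfsg.Lie.twistedG2 K (3 ^ m)) // orderOf g = i} =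
        Nat.totient i * (3 ^ (2 * m + 1)) ^ 3 * ((3 ^ (2 * m + 1)) ^ 2 - 1) * (3 ^ (2 * m + 1) + 3 ^ (m + 1) + 1)) ∧
    (∀ i : ℕ, 1 < i → i ∣ 3 ^ (2 * m + 1) + 3 ^ (m + 1) + 1 →
      6 * Nat.card {g : ↥(Cfsg.Lie.twistedG2 K (3 ^ m)) // orderOf g = i} =
        Nat.totient i * (3 ^ (2 * m + 1)) ^ 3 * ((3 ^ (2 * m + 1)) ^ 2 - 1) * (3 ^ (2 * m + 1) - 3 ^ (m + 1) + 1)) := by
  classical
  obtain ⟨T⟩ := Cfsg.Agent.Lie.G2.nonempty_setup hK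
  have h27 := Small.Ree.large_card T hm
  obtain ⟨x₁, x₂, hx₁, hx₂, e₁, e₂, n₁, n₂, hp, -, -⟩ := Small.Ree.two_tori T h27
  obtain ⟨c3, c6, c9⟩ := Small.Ree.count_three_six_nine T
  have c2 := Small.Ree.count_two T
  rw [hK] at e₁ e₂ c2 c3 c6 c9
  have hr : 3 ^ (m + 1) ≤ 3 ^ (2 * m + 1) := Nat.pow_le_pow_right (by norm_num) (by omega)
  have a3 : Nat.card ↥(Small.Ree.Tor T x₁) = 3 ^ (2 * m + 1) - 3 ^ (m + 1) + 1 := by omega
  have a4 : Nat.card ↥(Small.Ree.Tor T x₂) = 3 ^ (2 * m + 1) + 3 ^ (m + 1) + 1 := by omega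
  have hKp : Small.Ree.Kp K = (3 ^ (2 * m + 1)) ^ 2 - 3 ^ (2 * m + 1) + 1 := by rw [Small.Ree.Kp, hK]
  rw [hKp] at c2
  refine ⟨c2, c3, c6, c9, fun i hi hd => ?_, fun i hi hd => ?_, fun i hi hd => ?_, fun i hi hd => ?_⟩
  · have h := Small.Ree.count_order_HH T h27 hi (by rw [hK]; exact hd)
    rw [hK] at h
    exact h
  · have hd' : i ∣ (Fintype.card K + 1) / 4 := by rw [hK]; exact hd
    obtain ⟨-, hodd, -⟩ := Small.Ree.quarter_facts T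
    have hio : Odd i := hodd.of_dvd_nat hd'
    have h1 := Small.Ree.count_order_Z2 T h27 (j := i) (c := 1) hi hd' dvd_rfl
      (fun h => by
        have := Nat.le_of_dvd (by norm_num) h
        obtain rfl : i = 2 := by omega
        exact absurd hio (by decide))
      (by rw [one_mul]; exact Small.Ree.card_order_A2 T h27 hd')
    have h2 := Small.Ree.count_order_Z2 T h27 (j := 2 * i) (c := 3) hi hd' (dvd_mul_left _ _)
      (fun h => by have := Nat.le_of_dvd (by norm_num) h; omega) (Small.Ree.card_order_double T h27 hd')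
    rw [hK, hKp, one_mul] at h1
    rw [hK, hKp] at h2
    refine ⟨h1, Nat.eq_of_mul_eq_mul_left (by norm_num : 0 < 3) ?_⟩
    exact (mul_assoc 3 2 _).symm.trans h2
  · have h := Small.Ree.count_order_T T h27 hx₁ hi (a3 ▸ hd) n₁ hp
    rw [hK, a4] at h
    exact h
  · have h := Small.Ree.count_order_T T h27 hx₂ hi (a4 ▸ hd) n₂ (by rw [mul_comm]; exact hp)
    rw [hK, a3] at h
    exact h

end Cfsg.Agent.S2357
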