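import Cfsg.Statements.S2368
import Cfsg.Agent.Lib.Small.FieldMatrix

set_option autoImplicit false
open Cfsg

namespace Cfsg.Agent.S2368

/-- Let F be a finite field of characteristic p and m ≥ 1. Every element of GL(m, F) of p-power order has order less than p·m, and GL(m, F) has an element of p-power order at least m; so the largest order of a p-element of GL(m, F) is the least power of p that is at least m. -/
theorem result {F : Type*} [Field F] [Fintype F] (p : ℕ) [Fact p.Prime] [CharP F p] (m : ℕ) (hm : 1 ≤ m) :
    (∀ g : Matrix.GeneralLinearGroup (Fin m) F, (∃ j : ℕ, orderOf g = p ^ j) → orderOf g < p * m) ∧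
      ∃ g : Matrix.GeneralLinearGroup (Fin m) F, (∃ j : ℕ, orderOf g = p ^ j) ∧ m ≤ orderOf g := by
  constructor
  · rintro g ⟨j, hj⟩
    haveI : Nonempty (Fin m) := ⟨⟨0, by omega⟩⟩
    have hnil : IsNilpotent ((g : Matrix (Fin m) (Fin m) F) - 1) := by
      refine ⟨p ^ j, ?_⟩
      rw [sub_pow_char_pow_of_commute p _ (Commute.one_right _), one_pow, sub_eq_zero,
        ← Units.val_pow_eq_pow_val, ← hj, pow_orderOf_eq_one, Units.val_one]
    refine (Nat.le_of_dvd (pow_pos (Fact.out : p.Prime).pos _)
      (Small.orderOf_unipotent_dvd p g hnil)).trans_lt ?_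
    rcases eq_or_lt_of_le hm with h1 | h1
    · subst h1
      simpa using (Fact.out : p.Prime).one_lt
    · have hp := (Fact.out : p.Prime).one_lt
      have h2 := Nat.pow_pred_clog_lt_self hp h1
      have h3 : 0 < Nat.clog p m := Nat.clog_pos hp (by omega)
      calc p ^ Nat.clog p m = p * p ^ (Nat.clog p m).pred := by
            rw [← pow_succ']; congr 1; rw [Nat.pred_eq_sub_one]; omega
        _ < p * m := by gcongr
  · refine ⟨Small.jordanGL m F, ⟨_, Small.orderOf_jordanGL m F p hm⟩, ?_⟩
    rw [Small.orderOf_jordanGL m F p hm]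
    exact Nat.le_pow_clog (Fact.out : p.Prime).one_lt m


end Cfsg.Agent.S2368
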