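import Cfsg.Statements.S2369
import Cfsg.Agent.Lib.Small.Char2Invol.F4.Primes
-- import your own Cfsg.Agent.* helpers here

set_option autoImplicit false
open Cfsg

namespace Cfsg.Agent.S2369

/-- Let q = 2^(2m+1) with m ≥ 1 and let a, b be commuting elements of the large Ree group ²F₄(q) with a an involution. Then every prime divisor of the order of b divides q(q⁴ − 1). -/
theorem result {K : Type*} [Field K] [Fintype K] (m : ℕ) (hm : 1 ≤ m) (hK : Fintype.card K = 2 ^ (2 * m + 1))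
    (a b : ↥(Cfsg.Lie.twistedF4 K (2 ^ m))) (ha : orderOf a = 2) (hab : Commute a b) :
    (orderOf b).primeFactors ⊆ (2 ^ (2 * m + 1) * ((2 ^ (2 * m + 1)) ^ 4 - 1)).primeFactors := by
  haveI := Cfsg.Agent.Lie.F4.charP_two hK
  obtain ⟨S⟩ := Cfsg.Agent.Lie.F4.nonempty_setup hK
  intro r hr
  rw [Nat.mem_primeFactors] at hr ⊢
  refine ⟨hr.1, Cfsg.Agent.Small.C2Inv.F4.primes_cent S a b ha hab hr.1 hr.2.1, ?_⟩
  have h2 : 2 ≤ 2 ^ (2 * m + 1) := Nat.le_self_pow (by omega) 2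
  have h4 : 1 < (2 ^ (2 * m + 1)) ^ 4 := Nat.one_lt_pow (by norm_num) h2
  have : 0 < 2 ^ (2 * m + 1) * ((2 ^ (2 * m + 1)) ^ 4 - 1) := Nat.mul_pos (by omega) (by omega)
  omega

end Cfsg.Agent.S2369
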