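import Cfsg.Statements.S2370
import Cfsg.Agent.Lib.Lie.UnipotentExponent
import Cfsg.Agent.Lib.Lie.GroupCard
import Cfsg.Agent.Lib.Lie.TorusCerts
import Cfsg.Agent.Lib.Lie.WeylF4
-- import your own Cfsg.Agent.* helpers here

set_option autoImplicit false
open Cfsg

namespace Cfsg.Agent.S2370

/-- Let q = 2^(2m+1) with m ≥ 1. Every element of 2-power order of the large Ree group ²F₄(q) has order at most 32. -/
theorem result {K : Type*} [Field K] [Fintype K] (m : ℕ) (hm : 1 ≤ m) (hK : Fintype.card K = 2 ^ (2 * m + 1))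
    (x : ↥(Cfsg.Lie.twistedF4 K (2 ^ m))) (hx : ∃ j : ℕ, orderOf x = 2 ^ j) : orderOf x ≤ 32 := by
  obtain ⟨j, hj⟩ := hx
  have _ := hm
  have h2 : CharP K 2 := by
    obtain ⟨p, hp⟩ := CharP.exists K
    obtain ⟨n, hn, hc⟩ := FiniteField.card K p
    have hdvd : p ∣ 2 ^ (2 * m + 1) := by
      rw [← hK, hc]; exact dvd_pow_self p n.pos.ne'
    have := (Nat.prime_dvd_prime_iff_eq hn Nat.prime_two).1 (hn.dvd_of_dvd_pow hdvd)
    exact this ▸ hp
  have : Fact (Nat.Prime 2) := ⟨Nat.prime_two⟩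
  let hF := Lie.factsF4
  let G := Cfsg.Lie.chevF4.group K
  have hle : Cfsg.Lie.twistedF4 K (2 ^ m) ≤ G := by
    refine (Subgroup.closure_le _).2 ?_
    rintro g ⟨w, -, hg⟩
    have e : g = hF.wg w := Units.ext (by rw [hg, hF.coe_wg])
    rw [e]
    exact hF.wg_mem_group w
  let y : ↥G := ⟨(x : GL Cfsg.Lie.chevF4.Idx K), hle x.2⟩
  have hy : orderOf y = 2 ^ j := by
    rw [← hj, ← Subgroup.orderOf_coe, ← Subgroup.orderOf_coe]
  have hU : Cfsg.Lie.chevF4.posUnipotent K ≤ G := by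
    rw [hF.posUnipotent_eq K]
    exact Lie.CommSys.US_le _ fun r _ t => hF.xg_mem_group r t
  let U' : Subgroup ↥G := (Cfsg.Lie.chevF4.posUnipotent K).subgroupOf G
  have hcardU : Nat.card U' = (2 ^ (2 * m + 1)) ^ 24 := by
    rw [Nat.card_congr (Subgroup.subgroupOfEquivOfLe hU).toEquiv, ← hF.tsys_U]
    show Nat.card ↥((hF.tsys K).US (Lie.Facts.posL Cfsg.Lie.chevF4)) = _
    rw [hF.card_US hF.closedList_posL, hF.length_posL, Nat.card_eq_fintype_card, hK]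
    rfl
  have hP : IsPGroup 2 U' := IsPGroup.of_card (n := (2 * m + 1) * 24) (by rw [hcardU, ← pow_mul])
  have hcardG : Nat.card ↥G = (2 ^ (2 * m + 1)) ^ 24 * (((2 ^ (2 * m + 1)) ^ 2 - 1) *
      ((2 ^ (2 * m + 1)) ^ 6 - 1) * ((2 ^ (2 * m + 1)) ^ 8 - 1) * ((2 ^ (2 * m + 1)) ^ 12 - 1)) := by
    have h := hF.card_group (F := K) hK Lie.kerCertF4 [2, 6, 8, 12] rfl Lie.lenSumF4
    simpa [mul_assoc, Fin.prod_univ_zero, show Cfsg.Lie.chevF4.nroots / 2 = 24 from rfl] using h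
  have hidx : ¬ 2 ∣ U'.index := by
    have h1 := U'.card_mul_index
    rw [hcardU, hcardG] at h1
    have h2' : U'.index = _ := Nat.eq_of_mul_eq_mul_left (by positivity) h1
    rw [h2']
    have hodd : ∀ e, 1 ≤ e → ¬ 2 ∣ (2 ^ (2 * m + 1)) ^ e - 1 := by
      intro e he hd
      have h3 : 2 ∣ (2 ^ (2 * m + 1)) ^ e := dvd_pow (dvd_pow_self 2 (by omega)) (by omega)
      have h4 : 1 ≤ (2 ^ (2 * m + 1)) ^ e := Nat.one_le_pow _ _ (by positivity)
      omega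
    simp only [Nat.prime_two.dvd_mul, not_or]
    exact ⟨⟨⟨hodd 2 (by norm_num), hodd 6 (by norm_num)⟩, hodd 8 (by norm_num)⟩, hodd 12 (by norm_num)⟩
  let P : Sylow 2 ↥G := hP.toSylow hidx
  have hYp : IsPGroup 2 (Subgroup.zpowers y) := IsPGroup.of_card (n := j) (by rw [Nat.card_zpowers, hy])
  obtain ⟨Q, hQ⟩ := hYp.exists_le_sylow
  obtain ⟨g, hg⟩ := MulAction.exists_smul_eq (↥G) P Q
  have hyQ : y ∈ (Q : Subgroup ↥G) := hQ (Subgroup.mem_zpowers y)
  rw [← hg, Sylow.coe_subgroup_smul] at hyQ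
  obtain ⟨u, hu, hue⟩ := Subgroup.mem_map.1 hyQ
  have hu' : (u : GL Cfsg.Lie.chevF4.Idx K) ∈ Cfsg.Lie.chevF4.posUnipotent K := hu
  have hu32 := Lie.pow_prime_pow_eq_one hF (fun k => ([8, 15, 21, 11] : List ℤ).getD k 0) 2 5
    (by decide +kernel) (by decide +kernel) hu'
  have hy32 : y ^ 32 = 1 := by
    rw [← hue]
    show (MulAut.conj g u) ^ 32 = 1
    rw [← map_pow, show u ^ 32 = 1 from Subtype.ext hu32, map_one]
  rw [hj, ← hy]
  exact orderOf_le_of_pow_eq_one (by norm_num) hy32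

end Cfsg.Agent.S2370
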