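import Cfsg.Statements.S2376
import Cfsg.Agent.Lib.Small.D4Torus.Two
-- import your own Cfsg.Agent.* helpers here

set_option autoImplicit false
open Cfsg

namespace Cfsg.Agent.S2376

/-- The group ³D₄(q) contains a cyclic subgroup of order (q³ − 1)(q + 1) which is its own centralizer. -/
theorem result {K : Type*} [Field K] [Fintype K] (q : ℕ) (hq : IsPrimePow q) (hK : Fintype.card K = q ^ 3) :
    ∃ H : Subgroup ↥(Cfsg.Lie.twistedD4 K q), IsCyclic ↥H ∧ Nat.card ↥H = (q ^ 3 - 1) * (q + 1) ∧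
      Subgroup.centralizer (H : Set ↥(Cfsg.Lie.twistedD4 K q)) = H := by
  classical
  obtain ⟨S⟩ := Cfsg.Agent.Lie.D4.nonempty_setup hq hK
  obtain ⟨β, hβq, hβ⟩ := Cfsg.Agent.Small.D4Torus.exists_beta S
  obtain ⟨hcyc, hcard⟩ := Cfsg.Agent.Small.D4Torus.cyclic_card S hβq hβ
  have hle := Cfsg.Agent.Small.D4Torus.Hsub_le S hβ
  let e := Subgroup.subgroupOfEquivOfLe hle
  refine ⟨(Cfsg.Agent.Small.D4Torus.Hsub S hβ).subgroupOf (Cfsg.Lie.twistedD4 K q), e.isCyclic.2 hcyc,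
    (Nat.card_congr e.toEquiv).trans hcard, ?_⟩
  ext g
  constructor
  · intro hg
    rw [Subgroup.mem_subgroupOf]
    have hc : ∀ h ∈ Cfsg.Agent.Small.D4Torus.Hsub S hβ, Commute h (g : GL Cfsg.Lie.chevD4.Idx K) :=
      fun h hh => congrArg Subtype.val (hg ⟨h, hle hh⟩ hh)
    rcases Nat.lt_or_ge q 3 with h | h
    · obtain rfl : q = 2 := by have := S.hq; omega
      have : CharP K 2 :=
        CharTwo.of_one_ne_zero_of_two_eq_zero one_ne_zero (Cfsg.Agent.Small.D4Torus.two_zero S)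
      exact Cfsg.Agent.Small.D4Torus.cent_two S hβq hβ g.2 hc
    · exact Cfsg.Agent.Small.D4Torus.cent_three S hβq hβ h g.2 hc
  · intro hg h hh
    have := hcyc
    rw [Subgroup.mem_subgroupOf] at hg
    have e' := congrArg Subtype.val (IsMulCommutative.is_comm.comm
      (⟨h.1, hh⟩ : ↥(Cfsg.Agent.Small.D4Torus.Hsub S hβ)) ⟨g.1, hg⟩)
    exact Subtype.ext e'

end Cfsg.Agent.S2376
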