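import Cfsg.Statements.S2383
import Cfsg.Agent.Lib.Small.Modular.SemisimpleClasses
-- import your own Cfsg.Agent.* helpers here

set_option autoImplicit false
open Cfsg

namespace Cfsg.Agent.S2383

/-- Steinberg's count of semisimple classes in characteristic 2 for the types B₂, D₄, E₇, where the finite simply connected group has trivial centre and so coincides with the Chevalley group: for the Chevalley group of type B₂, D₄ or E₇ over a field with `q` elements of characteristic 2, the conjugacy classes of elements of odd order number exactly `q^l`, `l` the rank. -/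
theorem result {F : Type*} [Field F] [Fintype F] {q : ℕ} (hq : Fintype.card F = q) [CharP F 2]
    (D : Cfsg.Lie.ChevalleyDatum) (hD : D ∈ [Cfsg.Lie.chevB2, Cfsg.Lie.chevD4, Cfsg.Lie.chevE7]) :
    Nat.card {c : ConjClasses ↥(D.group F) // ∃ g : ↥(D.group F), ConjClasses.mk g = c ∧ Odd (orderOf g)} = q ^ D.rank := by
  have hq' : q = Fintype.card F := hq.symm
  subst hq'
  haveI : Fact (Nat.Prime 2) := ⟨Nat.prime_two⟩
  have hodd : Nat.gcd 2 (Fintype.card F - 1) = 1 := by
    obtain ⟨n, -, hn⟩ := FiniteField.card F 2
    have h2 : 2 ∣ Fintype.card F := hn ▸ dvd_pow_self 2 n.ne_zero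
    have h3 := Fintype.card_pos (α := F)
    exact Nat.coprime_two_left.2 (Nat.odd_iff.2 (by omega))
  have key : ∀ (hF : Cfsg.Agent.Lie.Facts D), Function.Injective (Cfsg.Agent.Lie.torus D F) →
      Nat.card {c : ConjClasses ↥(D.group F) //
        ∃ g : ↥(D.group F), ConjClasses.mk g = c ∧ Odd (orderOf g)} = Fintype.card F ^ D.rank := by
    intro hF hinj
    rw [← Small.Modular.card_semisimple_classes hF 2 hinj]
    exact Nat.card_congr (Equiv.subtypeEquivRight fun c => exists_congr fun g =>
      and_congr_right' Nat.coprime_two_right.symm)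
  simp only [List.mem_cons, List.not_mem_nil, or_false] at hD
  rcases hD with rfl | rfl | rfl
  · obtain ⟨hF⟩ := Cfsg.Agent.Lie.nonempty_factsB2
    exact key hF (Small.Modular.torus_injective_of_gcd hF Cfsg.Agent.Lie.kerCertB2 fun a => by
      fin_cases a; exact hodd)
  · obtain ⟨hF⟩ := Cfsg.Agent.Lie.nonempty_factsD4
    exact key hF (Small.Modular.torus_injective_of_gcd hF Cfsg.Agent.Lie.kerCertD4 fun a => by
      fin_cases a <;> exact hodd)
  · obtain ⟨hF⟩ := Cfsg.Agent.Lie.nonempty_factsE7
    exact key hF (Small.Modular.torus_injective_of_gcd hF Cfsg.Agent.Lie.kerCertE7 fun a => by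
      fin_cases a; exact hodd)

end Cfsg.Agent.S2383
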