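import Cfsg.Statements.S2388
import Cfsg.Agent.Lib.Small.Semisimple
-- import your own Cfsg.Agent.* helpers here

set_option autoImplicit false
open Cfsg

namespace Cfsg.Agent.S2388

/-- In `SL_n(q)`, `q` a power of the prime `p`, two elements of order prime to `p` with the same characteristic polynomial are conjugate in `SL_n(q)` (not merely in `GL_n`). -/
theorem result {F : Type*} [Field F] [Fintype F] (p : ℕ) [Fact p.Prime] [CharP F p] (n : ℕ)
    (g h : Matrix.SpecialLinearGroup (Fin n) F) (hg : (orderOf g).Coprime p) (hh : (orderOf h).Coprime p)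
    (hc : (g : Matrix (Fin n) (Fin n) F).charpoly = (h : Matrix (Fin n) (Fin n) F).charpoly) : IsConj g h := by
  let toG : Matrix.SpecialLinearGroup (Fin n) F →* GL (Fin n) F := Matrix.SpecialLinearGroup.toGL
  have hinj : Function.Injective toG := fun a b h => Subtype.ext (congrArg Units.val h)
  have hg' : (orderOf (toG g)).Coprime p := by rwa [orderOf_injective toG hinj]
  have hh' : (orderOf (toG h)).Coprime p := by rwa [orderOf_injective toG hinj]
  obtain ⟨c, hconj⟩ := isConj_iff.1 (Cfsg.Agent.Small.Semisimple.isConj_of_charpoly p (toG g) (toG h) hg' hh' hc)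
  obtain ⟨y, hy, hd⟩ := Cfsg.Agent.Small.Semisimple.exists_centralizing_det p (toG g) c hg'
  have hdet : ((c * y⁻¹ : GL (Fin n) F) : Matrix (Fin n) (Fin n) F).det = 1 := by
    have h2 := congrArg (fun m : GL (Fin n) F => (m : Matrix (Fin n) (Fin n) F).det) (inv_mul_cancel_right c y)
    simp only [Units.val_mul, Matrix.det_mul] at h2
    rw [hd] at h2
    have hne : (c : Matrix (Fin n) (Fin n) F).det ≠ 0 := ((Matrix.isUnit_iff_isUnit_det _).1 c.isUnit).ne_zero
    rw [Units.val_mul, Matrix.det_mul]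
    exact (mul_eq_right₀ hne).1 h2
  obtain ⟨s, hs⟩ : ∃ s : Matrix.SpecialLinearGroup (Fin n) F, toG s = c * y⁻¹ :=
    ⟨⟨_, hdet⟩, Units.ext rfl⟩
  refine isConj_iff.2 ⟨s, hinj ?_⟩
  have hcy : y⁻¹ * toG g = toG g * y⁻¹ := inv_mul_eq_iff_eq_mul.2 (by rw [← mul_assoc, hy, mul_inv_cancel_right])
  rw [map_mul, map_mul, map_inv, hs, mul_inv_rev, inv_inv, mul_assoc c y⁻¹ (toG g), hcy, ← hconj]
  group

end Cfsg.Agent.S2388
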