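import Cfsg.Statements.S2392
import Cfsg.Agent.Lib.Char.SpecialLinearMinDegree

set_option autoImplicit false
open scoped MatrixGroups
open Cfsg
open scoped ComplexConjugate

namespace Cfsg.Agent.S2392

/-- A lower bound for representations in cross characteristic: for `n ≥ 3` and a field `F` with `q` elements, every homomorphism from `SL_n(F)` to `GL_d(K)`, `K` a field of characteristic different from that of `F`, whose kernel is central has `d ≥ q^(n-1) - 1`. -/
theorem result {F : Type*} [Field F] [Fintype F] {q : ℕ} (hq : Fintype.card F = q) (n : ℕ) (hn : 3 ≤ n)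
    {K : Type*} [Field K] (hK : ringChar K ≠ ringChar F) {d : ℕ}
    (ρ : Matrix.SpecialLinearGroup (Fin n) F →* GL (Fin d) K) (hker : ρ.ker ≤ Subgroup.center (Matrix.SpecialLinearGroup (Fin n) F)) :
    q ^ (n - 1) - 1 ≤ d := by
  classical
  obtain ⟨m, rfl⟩ := Nat.exists_eq_add_one.2 (show 0 < n by omega)
  haveI : Fact (ringChar F).Prime := ⟨CharP.char_is_prime F (ringChar F)⟩
  let L := AlgebraicClosure K
  have hp : ((ringChar F : ℕ) : L) ≠ 0 := by
    rw [← map_natCast (algebraMap K L), map_ne_zero]
    intro h
    have h1 : ringChar K ∣ ringChar F := ringChar.dvd h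
    rcases (Nat.dvd_prime (CharP.char_is_prime F (ringChar F))).1 h1 with h2 | h2
    · exact CharP.ringChar_ne_one h2
    · exact hK h2
  have h := Cfsg.Agent.Char.SLPerm.min_degree_aux (F := F) (m := m) (by omega) (ringChar F) hp
    ((Units.coeHom _).comp ((Matrix.GeneralLinearGroup.map (algebraMap K L)).comp ρ)) (fun g hg => hker ?_)
  · subst hq
    simpa using h
  · rw [MonoidHom.mem_ker]
    refine Units.ext ?_
    apply (algebraMap K L).injective |> (fun hi => Matrix.map_injective (m := Fin d) (n := Fin d) hi)
    simpa [Matrix.GeneralLinearGroup.map] using hg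

end Cfsg.Agent.S2392
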