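import Cfsg.Statements.S2393
import Cfsg.Agent.Lib.Lead.SpDegreeBound

set_option autoImplicit false
open scoped MatrixGroups
open Cfsg

namespace Cfsg.Agent.S2393

open Matrix Cfsg.Agent.SpBound

variable {F : Type*} [Field F] [Fintype F] [DecidableEq F] {n : ℕ} [NeZero n]

theorem eigen_indep {L V A ι : Type*} [Field L] [AddCommGroup V] [Module L V] (T : A → Module.End L V)
    (s : Finset ι) :
    ∀ (v : ι → V) (lam : ι → A → L), (∀ i ∈ s, ∀ a, T a (v i) = lam i a • v i) →
      Set.InjOn lam (s : Set ι) → ∑ i ∈ s, v i = 0 → ∀ i ∈ s, v i = 0 := by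
  classical
  induction s using Finset.induction_on with
  | empty => simp
  | insert b s hb ih =>
    intro v lam hev hinj hsum
    have key : ∀ i ∈ s, v i = 0 := by
      intro i hi
      obtain ⟨a, ha⟩ : ∃ a, lam i a ≠ lam b a := by
        by_contra! h
        exact hb (hinj (Finset.mem_insert_of_mem hi) (Finset.mem_insert_self b s) (funext h) ▸ hi)
      have h0 : ∑ j ∈ s, (lam j a - lam b a) • v j = 0 := by
        have h1 : T a (∑ j ∈ insert b s, v j) - lam b a • (∑ j ∈ insert b s, v j) = 0 := by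
          rw [hsum, map_zero, smul_zero, sub_zero]
        rw [map_sum, Finset.smul_sum, ← Finset.sum_sub_distrib, Finset.sum_insert hb,
          hev b (Finset.mem_insert_self b s), sub_self, zero_add] at h1
        rw [← h1]
        refine Finset.sum_congr rfl fun j hj => ?_
        rw [hev j (Finset.mem_insert_of_mem hj), sub_smul]
      have h2 := ih (fun j => (lam j a - lam b a) • v j) lam
        (fun j hj a' => by rw [map_smul, hev j (Finset.mem_insert_of_mem hj), smul_comm])
        (hinj.mono (by simp)) h0 i hi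
      exact (smul_eq_zero.mp h2).resolve_left (sub_ne_zero.mpr ha)
    intro i hi
    rcases Finset.mem_insert.mp hi with rfl | hi
    · rw [Finset.sum_insert hb, Finset.sum_eq_zero key, add_zero] at hsum
      exact hsum
    · exact key i hi

theorem pair_ne {L : Type*} [Field L] (hodd : Odd (Fintype.card F)) {ψ : AddChar F L} {x : F} (hx : ψ x ≠ 1)
    {D : Matrix (Fin n) (Fin n) F} (hD : D ∈ symH F n) (hD0 : D ≠ 0) :
    ∃ S : symH F n, ψ (D * (S : Matrix (Fin n) (Fin n) F)).trace ≠ 1 := by
  obtain ⟨i, j, hij⟩ : ∃ i j, D i j ≠ 0 := by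
    by_contra! hall
    exact hD0 (Matrix.ext hall)
  have hsym : D j i = D i j := congrFun (congrFun hD i) j
  have h2 : (2 : F) ≠ 0 := two_ne (hodd := hodd)
  set c : F := x / (2 * D i j) with hc
  refine ⟨⟨Matrix.single i j c + Matrix.single j i c, by
    rw [mem_symH, Matrix.transpose_add, Matrix.transpose_single, Matrix.transpose_single, add_comm]⟩, ?_⟩
  rw [Matrix.mul_add, Matrix.trace_add, Matrix.trace_mul_single, Matrix.trace_mul_single]
  simp only [MulOpposite.smul_eq_mul_unop, MulOpposite.unop_op, hsym]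
  rwa [show D i j * c + D i j * c = x by rw [hc]; field_simp; ring]

theorem bound {L : Type*} [Field L] {d : ℕ} (hodd : Odd (Fintype.card F))
    (hcard : (Nat.card (symH F n) : L) ≠ 0) {ψ : AddChar F L} {x : F} (hx : ψ x ≠ 1)
    (σ : Matrix.symplecticGroup (Fin n) F →* GL (Fin d) L) {S₀ : symH F n} (hS : σ (uElt S₀) ≠ 1) :
    (Fintype.card F ^ n - 1) / 2 ≤ d := by
  classical
  let R : Matrix.symplecticGroup (Fin n) F →* Module.End L (Fin d → L) :=
    (Matrix.toLinAlgEquiv' : Matrix (Fin d) (Fin d) L ≃ₐ[L] _).toAlgHom.toRingHom.toMonoidHom.comp ((Units.coeHom _).comp σ)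
  have hR : Function.Injective fun M : GL (Fin d) L => Matrix.toLinAlgEquiv' (M : Matrix (Fin d) (Fin d) L) :=
    fun M M' h => Units.ext (Matrix.toLinAlgEquiv'.injective h)
  let χ : Matrix (Fin n) (Fin n) F → symH F n → L := fun T S => ψ (T * (S : Matrix (Fin n) (Fin n) F)).trace
  let P : symH F n → Module.End L (Fin d → L) := fun T => ∑ S : symH F n, χ (T : Matrix (Fin n) (Fin n) F) (-S) • R (uElt S)
  have hP : ∀ T a, R (uElt a) * P T = χ (T : Matrix (Fin n) (Fin n) F) a • P T := by
    intro T a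
    simp only [P, Finset.mul_sum, Finset.smul_sum, mul_smul_comm, ← map_mul, smul_smul, ← uElt_add]
    refine Fintype.sum_equiv (Equiv.addLeft a) _ _ fun S => ?_
    rw [Equiv.coe_addLeft]
    congr 1
    simp only [χ]
    rw [← AddChar.map_add_eq_mul, ← Matrix.trace_add, ← Matrix.mul_add]
    congr 3
    simp
  obtain ⟨T, hT0, v, hv⟩ : ∃ T : symH F n, T ≠ 0 ∧ ∃ v, P T v ≠ 0 := by
    by_contra hno
    push Not at hno
    have hsum : ∑ T : symH F n, P T = (Nat.card (symH F n) : L) • 1 := by
      simp only [P]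
      rw [Finset.sum_comm]
      simp only [← Finset.sum_smul]
      rw [Fintype.sum_eq_single (0 : symH F n)]
      · simp [χ, uElt_zero, map_one, Nat.card_eq_fintype_card]
      · intro S hS0
        obtain ⟨T₁, hT₁⟩ := pair_ne hodd hx (D := -(S : Matrix (Fin n) (Fin n) F)) (neg_mem S.2)
          (by simpa using fun h => hS0 (Subtype.ext (neg_eq_zero.1 (by simpa using h))))
        have h := Fintype.sum_equiv (Equiv.addRight T₁) (fun T : symH F n => χ (T : Matrix (Fin n) (Fin n) F) (-S) * χ T₁ (-S))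
          (fun T : symH F n => χ (T : Matrix (Fin n) (Fin n) F) (-S)) fun T => by
            simp only [χ, Equiv.coe_addRight, AddSubgroup.coe_add]
            rw [← AddChar.map_add_eq_mul, ← Matrix.trace_add, ← Matrix.add_mul]
        rw [← Finset.sum_mul] at h
        have hne : χ T₁ (-S) ≠ 1 := by
          simp only [χ, AddSubgroup.coe_neg]
          rwa [Matrix.trace_mul_comm]
        rw [(mul_eq_zero.1 (by linear_combination h :
          (∑ T : symH F n, χ (T : Matrix (Fin n) (Fin n) F) (-S)) * (χ T₁ (-S) - 1) = 0)).resolve_right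
          (sub_ne_zero.2 hne), zero_smul]
    rw [Fintype.sum_eq_single (0 : symH F n) (fun T hT => LinearMap.ext (hno T hT))] at hsum
    refine hS (hR ?_)
    show R (uElt S₀) = Matrix.toLinAlgEquiv' ((1 : GL (Fin d) L) : Matrix (Fin d) (Fin d) L)
    have h1 := hP 0 S₀
    rw [hsum, show χ ((0 : symH F n) : Matrix (Fin n) (Fin n) F) S₀ = 1 by simp [χ], one_smul, mul_smul_comm, mul_one] at h1
    rw [Units.val_one, map_one]
    exact smul_right_injective _ hcard h1
  obtain ⟨s, hs, hsB⟩ := orbit_large hodd T.2 (fun h => hT0 (Subtype.ext h))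
  choose B hB using hsB
  have hev : ∀ a, R (uElt a) (P T v) = χ (T : Matrix (Fin n) (Fin n) F) a • P T v := fun a =>
    LinearMap.congr_fun (hP T a) v
  let w : s → Fin d → L := fun M => R (dElt (B M.1 M.2)⁻¹) (P T v)
  have hw : ∀ (M : s) (S : symH F n), R (uElt S) (w M) = χ M.1 S • w M := by
    intro M S
    have key := uElt_mul_dElt (B M.1 M.2)⁻¹
      ⟨(B M.1 M.2 : Matrix (Fin n) (Fin n) F) * (S : Matrix (Fin n) (Fin n) F) * (B M.1 M.2 : Matrix (Fin n) (Fin n) F)ᵀ, congr_sym _ S⟩
    have e : ((B M.1 M.2)⁻¹).val * ((B M.1 M.2 : Matrix (Fin n) (Fin n) F) * (S : Matrix (Fin n) (Fin n) F) *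
        (B M.1 M.2 : Matrix (Fin n) (Fin n) F)ᵀ) * (((B M.1 M.2)⁻¹).val)ᵀ = (S : Matrix (Fin n) (Fin n) F) := by
      simp only [← Matrix.mul_assoc, Units.inv_mul, Matrix.one_mul]
      rw [Matrix.mul_assoc, ← Matrix.transpose_mul, Units.inv_mul, Matrix.transpose_one, Matrix.mul_one]
    simp only [e] at key
    show R (uElt S) (R (dElt (B M.1 M.2)⁻¹) (P T v)) = _
    rw [← Module.End.mul_apply, ← map_mul, show uElt S * dElt (B M.1 M.2)⁻¹ = _ from key, map_mul,
      Module.End.mul_apply, hev, map_smul]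
    congr 1
    simp only [χ]
    refine congrArg ψ ?_
    calc _ = (((B M.1 M.2 : Matrix (Fin n) (Fin n) F)ᵀ * (T : Matrix (Fin n) (Fin n) F) *
          (B M.1 M.2 : Matrix (Fin n) (Fin n) F)) * (S : Matrix (Fin n) (Fin n) F)).trace := by
          rw [← Matrix.mul_assoc, Matrix.trace_mul_comm, ← Matrix.mul_assoc, ← Matrix.mul_assoc]
      _ = _ := by rw [← hB M.1 M.2]
  have hsym : ∀ M : s, M.1 ∈ symH F n := fun M => by
    rw [mem_symH, hB M.1 M.2, Matrix.transpose_mul, Matrix.transpose_mul, Matrix.transpose_transpose,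
      show (T : Matrix (Fin n) (Fin n) F)ᵀ = T from T.2, Matrix.mul_assoc]
  have hinj : ∀ M M' : s, χ M.1 = χ M'.1 → M = M' := by
    intro M M' h
    by_contra hne
    obtain ⟨S, hS1⟩ := pair_ne hodd hx (sub_mem (hsym M) (hsym M')) (sub_ne_zero.2 fun e => hne (Subtype.ext e))
    apply hS1
    rw [Matrix.sub_mul, Matrix.trace_sub, AddChar.map_sub_eq_div, show ψ (M.1 * (S : Matrix (Fin n) (Fin n) F)).trace = _
      from congrFun h S]
    exact div_self (ψ.val_isUnit _).ne_zero
  have hli : LinearIndependent L w := by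
    rw [Fintype.linearIndependent_iff]
    intro c hc M
    have hz := eigen_indep (fun S : symH F n => R (uElt S)) Finset.univ (fun M : s => c M • w M) (fun M S => χ M.1 S)
      (fun M _ S => by rw [map_smul, hw M S, smul_comm]) (fun M _ M' _ h => hinj M M' h) hc M (Finset.mem_univ M)
    refine (smul_eq_zero.1 hz).resolve_right fun h => hv ?_
    have h2 := congrArg (R (dElt (B M.1 M.2)⁻¹)⁻¹) h
    rw [map_zero, show w M = R (dElt (B M.1 M.2)⁻¹) (P T v) from rfl, ← Module.End.mul_apply, ← map_mul,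
      inv_mul_cancel, map_one] at h2
    exact h2
  have := hli.fintype_card_le_finrank
  rw [Fintype.card_coe, Module.finrank_fin_fun] at this
  omega

/-- A lower bound for representations in cross characteristic: for `n ≥ 2` and a field `F` with `q` elements, `q` odd, every homomorphism from the symplectic group `Sp_{2n}(F)` to `GL_d(K)`, `K` a field of characteristic different from that of `F`, whose kernel is central has `d ≥ q^(n-1)(q-1)/2`. -/
theorem result {F : Type*} [Field F] [Fintype F] {q : ℕ} (hq : Fintype.card F = q) (hodd : Odd q) (n : ℕ) (hn : 2 ≤ n)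
    {K : Type*} [Field K] (hK : ringChar K ≠ ringChar F) {d : ℕ}
    (ρ : ↥(Matrix.symplecticGroup (Fin n) F) →* GL (Fin d) K) (hker : ρ.ker ≤ Subgroup.center ↥(Matrix.symplecticGroup (Fin n) F)) :
    q ^ (n - 1) * (q - 1) / 2 ≤ d := by
  classical
  subst hq
  haveI : NeZero n := ⟨by omega⟩
  set L := AlgebraicClosure K
  set p := ringChar F with hpdef
  haveI hp : CharP F p := ringChar.charP F
  haveI hpp : Fact p.Prime := ⟨CharP.char_is_prime F p⟩
  haveI : NeZero p := ⟨hpp.out.ne_zero⟩
  have hpK : (p : K) ≠ 0 := by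
    intro h
    have h1 := (ringChar.spec K p).1 h
    rcases (Nat.dvd_prime hpp.out).1 h1 with h2 | h2
    · exact (CharP.ringChar_ne_one (R := K)) h2
    · exact hK h2
  haveI : NeZero (p : L) := ⟨by
    rw [← map_natCast (algebraMap K L)]
    exact (map_ne_zero _).2 hpK⟩
  obtain ⟨ζ, hζ⟩ := HasEnoughRootsOfUnity.exists_primitiveRoot L p
  letI := ZMod.algebra F p
  obtain ⟨a, ha⟩ := FiniteField.trace_to_zmod_nondegenerate F (one_ne_zero (α := F))
  let ψ : AddChar F L := (AddChar.zmodChar p hζ.pow_eq_one).compAddMonoidHom (Algebra.trace (ZMod p) F).toAddMonoidHom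
  have hx : ψ (1 * a) ≠ 1 := by
    intro h
    apply ha
    have hprim := AddChar.zmodChar_primitive_of_primitive_root p hζ
    exact (hprim.zmod_char_eq_one_iff p _).1 h
  set σ := (Matrix.GeneralLinearGroup.map (n := Fin d) (algebraMap K L)).comp ρ with hσ
  have hcard : (Nat.card (symH F n) : L) ≠ 0 := by
    obtain ⟨k, hk⟩ : ∃ k, Nat.card (Matrix (Fin n) (Fin n) F) = p ^ k := by
      obtain ⟨e, -, he⟩ := FiniteField.card F p
      refine ⟨((e : ℕ) * Fintype.card (Fin n)) * Fintype.card (Fin n), ?_⟩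
      show Nat.card (Fin n → Fin n → F) = _
      rw [Nat.card_eq_fintype_card, Fintype.card_fun, Fintype.card_fun, he, ← pow_mul, ← pow_mul, mul_assoc]
    obtain ⟨j, -, hj⟩ := (Nat.dvd_prime_pow hpp.out).1 (hk ▸ AddSubgroup.card_addSubgroup_dvd_card (symH F n))
    rw [hj, Nat.cast_pow]
    exact pow_ne_zero _ (NeZero.ne (p : L))
  have hS : Matrix.single (0 : Fin n) 0 (1 : F) ∈ symH F n := by rw [mem_symH, Matrix.transpose_single]
  have hu : σ (uElt ⟨_, hS⟩) ≠ 1 := by
    intro h
    have h1 : ρ (uElt ⟨_, hS⟩) = 1 := by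
      apply Units.ext
      ext i j
      have := congrArg (fun M : GL (Fin d) L => (M : Matrix (Fin d) (Fin d) L) i j) h
      apply (algebraMap K L).injective
      simpa [hσ, Matrix.one_apply, apply_ite (algebraMap K L)] using this
    have h2 := Subgroup.mem_center_iff.1 (hker (MonoidHom.mem_ker.2 h1))
      ⟨Matrix.fromBlocks 1 0 (Matrix.single (0 : Fin n) 0 (1 : F)) 1, by
        rw [SymplecticGroup.mem_iff]
        simp [Matrix.J, Matrix.fromBlocks_transpose, Matrix.fromBlocks_multiply, Matrix.transpose_single]⟩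
    have h3 := congrArg Subtype.val h2
    change Matrix.fromBlocks 1 0 (Matrix.single (0 : Fin n) 0 (1 : F)) 1 * Matrix.fromBlocks 1 (Matrix.single (0 : Fin n) 0 (1 : F)) 0 1
      = Matrix.fromBlocks 1 (Matrix.single (0 : Fin n) 0 (1 : F)) 0 1 * Matrix.fromBlocks 1 0 (Matrix.single (0 : Fin n) 0 (1 : F)) 1 at h3
    have h4 := congrFun (congrFun h3 (.inl 0)) (.inl 0)
    simp [Matrix.fromBlocks_multiply] at h4
  refine le_trans ?_ (bound hodd hcard hx σ hu)
  refine Nat.div_le_div_right ?_
  rw [Nat.mul_sub, mul_one, ← pow_succ, Nat.sub_add_cancel (by omega : 1 ≤ n)]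
  have : 1 ≤ Fintype.card F ^ (n - 1) := Nat.one_le_pow _ _ Fintype.card_pos
  omega

end Cfsg.Agent.S2393
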