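import Cfsg.Statements.S2398
import Cfsg.Agent.Lib.Lie.LiftCover
-- import your own Cfsg.Agent.* helpers here

set_option autoImplicit false
open Cfsg

namespace Cfsg.Agent.S2398

/-- Universality of the group Δ presented by Steinberg's generators with relators (R1), (R2), over a field with more than four elements (types G₂, B₂, D₄, F₄, E₆, E₇, E₈): for every central extension `π₁ : E → G₁` (surjective, central kernel) and every homomorphism `σ : Δ → G₁` there is exactly one homomorphism `τ : Δ → E` with `π₁ ∘ τ = σ`. In particular every central extension of Δ splits; together with the fact that Δ maps onto the Chevalley group with central kernel, this makes Δ the universal central extension of the Chevalley group. -/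
theorem result {K : Type*} [Field K] (hK5 : ∃ s : Finset K, 4 < s.card) (D : Cfsg.Lie.ChevalleyDatum) (hD : D ∈ [Cfsg.Lie.chevG2, Cfsg.Lie.chevB2, Cfsg.Lie.chevD4, Cfsg.Lie.chevF4, Cfsg.Lie.chevE6, Cfsg.Lie.chevE7, Cfsg.Lie.chevE8])
    {G₁ E : Type*} [Group G₁] [Group E] (π₁ : E →* G₁) (hπ : Function.Surjective π₁) (hc : π₁.ker ≤ Subgroup.center E)
    (σ : D.SteinbergCover K →* G₁) : ∃! τ : D.SteinbergCover K →* E, π₁.comp τ = σ := by
  obtain ⟨s, hs⟩ := hK5
  obtain ⟨k, hk⟩ := Cfsg.Agent.Lie.exists_pow_ne_one (s := s) (j := 2) (by norm_num) (by omega)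
  obtain ⟨hF⟩ := Cfsg.Agent.Lie.facts_of_mem hD
  have hH := Cfsg.Agent.Lie.stHyp_of_mem hD
  refine hF.sc_universal hH k.ne_zero (fun h => hk (Units.ext (by rw [Units.val_pow_eq_pow_val, h, Units.val_one])))
    π₁ hπ hc σ fun C => ?_
  simp only [List.mem_cons, List.not_mem_nil, or_false] at hD
  rcases hD with rfl | rfl | rfl | rfl | rfl | rfl | rfl
  · exact Cfsg.Agent.Lie.hasLift_G2 hF ⟨s, hs⟩ C
  · exact Cfsg.Agent.Lie.hasLift_B2 hF ⟨s, hs⟩ C
  · exact Cfsg.Agent.Lie.hasLift_D4 hF ⟨s, by omega⟩ C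
  · exact Cfsg.Agent.Lie.hasLift_F4 hF ⟨s, by omega⟩ C
  · exact Cfsg.Agent.Lie.hasLift_E6 hF C
  · exact Cfsg.Agent.Lie.hasLift_E7 hF C
  · exact Cfsg.Agent.Lie.hasLift_E8 hF C

end Cfsg.Agent.S2398
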