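import Cfsg.Statements.S2400
import Cfsg.Agent.Lib.Lie.LiftPerfect
import Cfsg.Agent.Lib.Lie.LiftB2Three
-- import your own Cfsg.Agent.* helpers here

set_option autoImplicit false
open Cfsg

namespace Cfsg.Agent.S2400

/-- Over a finite field `K`, the group presented by Steinberg's relators (R1)–(R3) (the universal Chevalley group) of type E₆ or E₇, or of type B₂ or D₄ with `K` of more than two elements, has trivial Schur multiplier: every finite stem extension of it is an isomorphism (Schur multiplier described through stem extensions as in the definitions). Types G₂, F₄ and E₈ are not covered here. -/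
theorem result {K : Type*} [Field K] [Fintype K] (e : Cfsg.Lie.ChevalleyDatum × ℕ)
    (he : e ∈ [(Cfsg.Lie.chevE6, 0), (Cfsg.Lie.chevE7, 0), (Cfsg.Lie.chevB2, 2), (Cfsg.Lie.chevD4, 2)]) (hK : Fintype.card K ≠ e.2) :
    Cfsg.HasCyclicSchurMultiplier (e.1.SteinbergGroup K) 1 := by
  have : Finite K := inferInstance
  have hsmall : ∀ n, Fintype.card K ≠ n → n = 2 → Fintype.card K = 3 ∨ Fintype.card K = 4 ∨ 4 < Fintype.card K := by
    intro n h1 h2
    have := Fintype.one_lt_card (α := K)
    omega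
  have h3 : Fintype.card K = 3 → (3 : K) = 0 ∧ ∀ t : K, ∃ n : ℕ, (n : K) = t := by
    intro h
    have h0 : (3 : K) = 0 := by
      have := Nat.cast_card_eq_zero K
      rwa [h] at this
    refine ⟨h0, fun t => ?_⟩
    have : Fact (Nat.Prime 3) := ⟨Nat.prime_three⟩
    have : CharP K 3 := (CharP.charP_iff_prime_eq_zero Nat.prime_three).2 h0
    have hbij : Function.Bijective (ZMod.castHom (dvd_refl 3) K) :=
      (Fintype.bijective_iff_injective_and_card _).2
        ⟨(ZMod.castHom (dvd_refl 3) K).injective, by rw [ZMod.card, h]⟩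
    obtain ⟨z, hz⟩ := hbij.2 t
    exact ⟨z.val, by rw [← hz, ZMod.castHom_apply, ZMod.cast_eq_val]⟩
  have h2 : Fintype.card K = 4 → (2 : K) = 0 := by
    intro h
    have h0 : (4 : K) = 0 := by
      have := Nat.cast_card_eq_zero K
      rwa [h] at this
    have : (2 : K) * 2 = 0 := by linear_combination h0
    exact (mul_self_eq_zero.1 this)
  simp only [List.mem_cons, List.not_mem_nil, or_false] at he
  rcases he with rfl | rfl | rfl | rfl
  · exact Cfsg.Agent.Lie.steinberg_multiplier_one Cfsg.Agent.Lie.factsE6 (Cfsg.Agent.Lie.stHyp_of_mem (by simp))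
      (Cfsg.Agent.Lie.factsE6.st_perfect (Cfsg.Agent.Lie.stHyp_of_mem (by simp))
        (Cfsg.Agent.Lie.factsE6.sys_perf_cert (Cfsg.Agent.Lie.factsE6.stC K)
          (fun h => absurd h Bool.false_ne_true) _ [] (by simp) Cfsg.Agent.Lie.okPerfE6))
      fun Γ _ C => Cfsg.Agent.Lie.hasLift_E6 _ C
  · exact Cfsg.Agent.Lie.steinberg_multiplier_one Cfsg.Agent.Lie.factsE7 (Cfsg.Agent.Lie.stHyp_of_mem (by simp))
      (Cfsg.Agent.Lie.factsE7.st_perfect (Cfsg.Agent.Lie.stHyp_of_mem (by simp))
        (Cfsg.Agent.Lie.factsE7.sys_perf_cert (Cfsg.Agent.Lie.factsE7.stC K)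
          (fun h => absurd h Bool.false_ne_true) _ [] (by simp) Cfsg.Agent.Lie.okPerfE7))
      fun Γ _ C => Cfsg.Agent.Lie.hasLift_E7 _ C
  · have hH : Cfsg.Agent.Lie.StHyp Cfsg.Lie.chevB2 := Cfsg.Agent.Lie.stHyp_of_mem (by simp)
    refine Cfsg.Agent.Lie.steinberg_multiplier_one Cfsg.Agent.Lie.factsB2 hH ?_ fun Γ _ C => ?_
    · refine Cfsg.Agent.Lie.factsB2.st_perfect hH fun i hi => ?_
      by_cases hq : ∃ a : K, a ≠ 0 ∧ a ^ 2 ≠ 1
      · obtain ⟨a, ha, ha2⟩ := hq
        exact Cfsg.Agent.Lie.factsB2.sys_simple_of_square (Cfsg.Agent.Lie.factsB2.stT hH K) ha ha2 hi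
      · refine Cfsg.Agent.Lie.factsB2.sys_perf_cert (Cfsg.Agent.Lie.factsB2.stC K) (two := true)
          (fun _ h20 => ?_) _ [] (by simp) Cfsg.Agent.Lie.okPerfB2 i hi
        obtain ⟨a, ha, ha1⟩ : ∃ a : K, a ≠ 0 ∧ a ≠ 1 := by
          classical
          by_contra hc
          have hsub : (Finset.univ : Finset K) ⊆ {0, 1} := fun x _ => by
            by_contra hx
            simp only [Finset.mem_insert, Finset.mem_singleton, not_or] at hx
            exact hc ⟨x, hx⟩
          have := Finset.card_le_card hsub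
          rw [Finset.card_univ] at this
          have := (Finset.card_le_two (a := (0 : K)) (b := 1))
          have := Fintype.one_lt_card (α := K)
          omega
        apply hq
        refine ⟨a, ha, fun h => ?_⟩
        rcases sq_eq_one_iff.1 h with h' | h'
        · exact ha1 h'
        · exact ha1 (by linear_combination h' - h20)
    · rcases hsmall _ hK rfl with h | h | h
      · exact Cfsg.Agent.Lie.hasLift_B2_three _ (h3 h).1 (h3 h).2 C
      · exact Cfsg.Agent.Lie.hasLift_B2_four _ ⟨Finset.univ, by rw [Finset.card_univ]; omega⟩ (h2 h) C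
      · exact Cfsg.Agent.Lie.hasLift_B2 _ ⟨Finset.univ, by rw [Finset.card_univ]; omega⟩ C
  · have hH : Cfsg.Agent.Lie.StHyp Cfsg.Lie.chevD4 := Cfsg.Agent.Lie.stHyp_of_mem (by simp)
    refine Cfsg.Agent.Lie.steinberg_multiplier_one Cfsg.Agent.Lie.factsD4 hH
      (Cfsg.Agent.Lie.factsD4.st_perfect hH
        (Cfsg.Agent.Lie.factsD4.sys_perf_cert (Cfsg.Agent.Lie.factsD4.stC K)
          (fun h => absurd h Bool.false_ne_true) _ [] (by simp) Cfsg.Agent.Lie.okPerfD4))
      fun Γ _ C => ?_
    rcases hsmall _ hK rfl with h | h | h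
    · exact Cfsg.Agent.Lie.hasLift_D4_three _ (h3 h).1 (h3 h).2 C
    · exact Cfsg.Agent.Lie.hasLift_D4 _ ⟨Finset.univ, by rw [Finset.card_univ]; omega⟩ C
    · exact Cfsg.Agent.Lie.hasLift_D4 _ ⟨Finset.univ, by rw [Finset.card_univ]; omega⟩ C

end Cfsg.Agent.S2400
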