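import Cfsg.Statements.S2429
import Cfsg.Agent.Lib.Small.SL2.Torus
-- import your own Cfsg.Agent.* helpers here

set_option autoImplicit false
open Cfsg

namespace Cfsg.Agent.S2429

/-- Let F be a finite field with q elements, q odd. Then SL₂ over F contains a cyclic subgroup T′ of order q + 1 (a non-split torus) with the following properties: T′ is its own centraliser, and indeed the centraliser of each element of T′ other than 1 and −1 is exactly T′; every element of SL₂ having no eigenvector in F² is conjugate to an element of T′; the normaliser of T′ has order 2(q + 1) and exactly (q + 7)/2 conjugacy classes; and every element of that normaliser outside T′ has square −1. -/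
theorem result {F : Type*} [Field F] [Fintype F] (hodd : Odd (Fintype.card F)) :
    ∃ T' : Subgroup (Matrix.SpecialLinearGroup (Fin 2) F), IsCyclic T' ∧ Nat.card T' = Fintype.card F + 1 ∧
      Subgroup.centralizer ((T' : Set (Matrix.SpecialLinearGroup (Fin 2) F))) = T' ∧
      (∀ g : Matrix.SpecialLinearGroup (Fin 2) F, g ∈ T' → (g : Matrix (Fin 2) (Fin 2) F) ≠ 1 → (g : Matrix (Fin 2) (Fin 2) F) ≠ -1 → Subgroup.centralizer ({g} : Set (Matrix.SpecialLinearGroup (Fin 2) F)) = T') ∧
      (∀ g : Matrix.SpecialLinearGroup (Fin 2) F, (∀ (c : F) (v : Fin 2 → F), v ≠ 0 → (g : Matrix (Fin 2) (Fin 2) F).mulVec v ≠ c • v) → ∃ h : Matrix.SpecialLinearGroup (Fin 2) F, h * g * h⁻¹ ∈ T') ∧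
      Nat.card (Subgroup.normalizer (T' : Set (Matrix.SpecialLinearGroup (Fin 2) F))) = 2 * (Fintype.card F + 1) ∧
      Nat.card (ConjClasses (Subgroup.normalizer (T' : Set (Matrix.SpecialLinearGroup (Fin 2) F)))) = (Fintype.card F + 7) / 2 ∧
      ∀ g : Matrix.SpecialLinearGroup (Fin 2) F, g ∈ Subgroup.normalizer (T' : Set (Matrix.SpecialLinearGroup (Fin 2) F)) → g ∉ T' → ((g * g) : Matrix (Fin 2) (Fin 2) F) = -1 := by
  have h2 := Small.SL2C.not_two_dvd_iff.mp hodd.not_two_dvd_nat
  obtain ⟨t, ht, hr⟩ := Small.SL2C.exists_roots_zero (F := F)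
  obtain ⟨g, hgt, hg⟩ := Small.SL2C.comp_elt t
  rw [← hgt] at ht hr
  have hs : Small.SL2C.sol (g : Matrix (Fin 2) (Fin 2) F).trace 1 = Fintype.card F + 1 := by
    rcases Small.SL2C.sol_eq ht with ⟨h', -⟩ | ⟨-, h'⟩
    · omega
    · exact h'
  refine ⟨Small.SL2C.tor g, Small.SL2C.isCyclic_centralizer ht, ?_, ?_, fun x hx h1 h1' => ?_, fun x hx => ?_,
    ?_, ?_, fun x hx hn => Small.SL2C.sq_outside ht hx hn⟩
  · rw [Small.SL2C.card_centralizer g hg, hs]
  · exact le_antisymm (Subgroup.centralizer_le (Set.singleton_subset_iff.mpr (Small.SL2C.self_mem_tor g)))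
      fun h hh => Subgroup.mem_centralizer_iff.mpr fun a ha => Small.SL2C.tor_comm hg a ha h hh
  · refine (Small.SL2C.tor_eq ht hx fun h => ?_).1
    rcases Small.SL2C.isSc_SL h with e | e
    · exact h1 e
    · exact h1' e
  · have hr' := Small.SL2C.roots_eq_zero_of_noEigen hx
    rw [x.2] at hr'
    exact Small.SL2C.conj_into_tor h2 ht hr hr' (Small.SL2C.not_isSc_of_noEigen hx)
  · rw [(Small.SL2C.card_normalizer ht).1, hs]
  · have h := Small.SL2C.classes_normalizer h2 ht
    rw [hs] at h
    omega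

end Cfsg.Agent.S2429
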