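import Cfsg.Statements.S2433
import Cfsg.Agent.Lib.Lead.SL2Ind
import Cfsg.Agent.Lib.Small.SL2.FixedLines
-- import your own Cfsg.Agent.* helpers here

set_option autoImplicit false
open Cfsg

namespace Cfsg.Agent.S2433

/-- Let F be a finite field with q elements, q odd, α a multiplicative character of F, and R(α) the function on SL₂ induced from the linear character b ↦ α(b₁₁) of the upper triangular subgroup. Then R(α) takes the value α(a) + α(a⁻¹) at a diagonal element with entries a, a⁻¹, a² ≠ 1; the value 0 at every element with no eigenvector in F²; the value α(ε) at an upper triangular element with both diagonal entries ε and non-zero upper right entry; and the value (q + 1)α(ε) at the scalar element ε (ε = ±1). -/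
theorem result {F : Type*} [Field F] [Fintype F] [DecidableEq F] (hodd : Odd (Fintype.card F)) (α : MulChar F ℂ) (g : Matrix.SpecialLinearGroup (Fin 2) F) :
    ((g : Matrix (Fin 2) (Fin 2) F) 0 1 = 0 → (g : Matrix (Fin 2) (Fin 2) F) 1 0 = 0 → (g : Matrix (Fin 2) (Fin 2) F) 0 0 ^ 2 ≠ 1 →
      (Cfsg.indFun ((Cfsg.upperTriangularGL 2 F).comap Matrix.SpecialLinearGroup.toGL) (fun b => α (((b : Matrix.SpecialLinearGroup (Fin 2) F) : Matrix (Fin 2) (Fin 2) F) 0 0))) g = α ((g : Matrix (Fin 2) (Fin 2) F) 0 0) + α ((g : Matrix (Fin 2) (Fin 2) F) 1 1)) ∧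
    ((∀ (c : F) (v : Fin 2 → F), v ≠ 0 → (g : Matrix (Fin 2) (Fin 2) F).mulVec v ≠ c • v) → (Cfsg.indFun ((Cfsg.upperTriangularGL 2 F).comap Matrix.SpecialLinearGroup.toGL) (fun b => α (((b : Matrix.SpecialLinearGroup (Fin 2) F) : Matrix (Fin 2) (Fin 2) F) 0 0))) g = 0) ∧
    ((g : Matrix (Fin 2) (Fin 2) F) 1 0 = 0 → (g : Matrix (Fin 2) (Fin 2) F) 0 0 = (g : Matrix (Fin 2) (Fin 2) F) 1 1 → (g : Matrix (Fin 2) (Fin 2) F) 0 1 ≠ 0 →
      (Cfsg.indFun ((Cfsg.upperTriangularGL 2 F).comap Matrix.SpecialLinearGroup.toGL) (fun b => α (((b : Matrix.SpecialLinearGroup (Fin 2) F) : Matrix (Fin 2) (Fin 2) F) 0 0))) g = α ((g : Matrix (Fin 2) (Fin 2) F) 0 0)) ∧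
    ((g : Matrix (Fin 2) (Fin 2) F) 0 1 = 0 → (g : Matrix (Fin 2) (Fin 2) F) 1 0 = 0 → (g : Matrix (Fin 2) (Fin 2) F) 0 0 = (g : Matrix (Fin 2) (Fin 2) F) 1 1 →
      (Cfsg.indFun ((Cfsg.upperTriangularGL 2 F).comap Matrix.SpecialLinearGroup.toGL) (fun b => α (((b : Matrix.SpecialLinearGroup (Fin 2) F) : Matrix (Fin 2) (Fin 2) F) 0 0))) g = ((Fintype.card F : ℂ) + 1) * α ((g : Matrix (Fin 2) (Fin 2) F) 0 0)) := by
  classical
  rw [Lead.SL2.indSL_eq_R, Lead.SL2.R, Lead.SL2.res]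
  have hd := g.2
  rw [Matrix.det_fin_two] at hd
  have key : (g : Matrix (Fin 2) (Fin 2) F) 1 0 = 0 → ∃ a d : Fˣ,
      Lead.SL2.toGL2 g = Lead.GL2.up a d ((g : Matrix (Fin 2) (Fin 2) F) 0 1) ∧
        (a : F) = (g : Matrix (Fin 2) (Fin 2) F) 0 0 ∧ (d : F) = (g : Matrix (Fin 2) (Fin 2) F) 1 1 :=
    fun h => Small.SL2C.eq_up (g := Lead.SL2.toGL2 g) h
  refine ⟨fun h01 h10 hne => ?_, fun h => Lead.GL2.ps_elliptic _ _ h, fun h10 heq hne => ?_,
    fun h01 h10 heq => ?_⟩ <;> obtain ⟨a, d, e, ha, hd'⟩ := key h10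
  · rw [h10, mul_zero, sub_zero] at hd
    rw [e, h01, Lead.GL2.ps_diag _ _ _ _ (fun h => hne (by rw [pow_two]; nth_rewrite 2 [← ha]; rw [h, hd', hd]))]
    simp [← ha, ← hd']
  · rw [e, Lead.GL2.ps_borel, show a = d from Units.ext (by rw [ha, hd', heq])]
    simp [hne, heq, ← hd']
  · rw [e, h01, Lead.GL2.ps_borel, show a = d from Units.ext (by rw [ha, hd', heq])]
    simp [heq, ← hd']
    ring

end Cfsg.Agent.S2433
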