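import Cfsg.Statements.S2434
import Cfsg.Agent.Lib.Lead.SL2TorusMain
import Cfsg.Agent.S2322

set_option autoImplicit false
open Cfsg

namespace Cfsg.Agent.S2434

/-- Let F be a finite field with q elements, q odd, and C a cyclic subgroup of order q + 1 of SL₂ over F (a non-split torus; it contains the centre). For every homomorphism θ from C to the non-zero complex numbers with θ² ≠ 1 there is an irreducible complex character χ of degree q − 1 such that χ(c) = −θ(c) − θ(c)⁻¹ for every non-central c in C, χ(zg) = θ(z)χ(g) for central z in C, χ vanishes at diagonal elements with entry a, a² ≠ 1, and χ takes the value −1 at every upper unitriangular element other than 1. Conversely every irreducible character of degree q − 1 has, for some such θ, the values −θ(c) − θ(c)⁻¹ at the non-central elements c of C (for q ≥ 5 these are exactly the cuspidal characters of degree q − 1). -/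
theorem result {F : Type*} [Field F] [Fintype F] (hodd : Odd (Fintype.card F))
    (C : Subgroup (Matrix.SpecialLinearGroup (Fin 2) F)) (hC : IsCyclic C) (hcard : Nat.card C = Fintype.card F + 1) :
    (∀ θ : C →* ℂˣ, (∃ c : C, θ c ^ 2 ≠ 1) →
      ∃ χ : Matrix.SpecialLinearGroup (Fin 2) F → ℂ, Cfsg.IsIrrCharacter (Matrix.SpecialLinearGroup (Fin 2) F) χ ∧ χ 1 = (Fintype.card F : ℂ) - 1 ∧
        (∀ c : C, (c : Matrix.SpecialLinearGroup (Fin 2) F) ∉ Subgroup.center (Matrix.SpecialLinearGroup (Fin 2) F) → χ c = -((θ c).val + (θ c)⁻¹.val)) ∧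
        (∀ c : C, (c : Matrix.SpecialLinearGroup (Fin 2) F) ∈ Subgroup.center (Matrix.SpecialLinearGroup (Fin 2) F) → ∀ g : Matrix.SpecialLinearGroup (Fin 2) F, χ ((c : Matrix.SpecialLinearGroup (Fin 2) F) * g) = (θ c).val * χ g) ∧
        (∀ g : Matrix.SpecialLinearGroup (Fin 2) F, (g : Matrix (Fin 2) (Fin 2) F) 0 1 = 0 → (g : Matrix (Fin 2) (Fin 2) F) 1 0 = 0 → (g : Matrix (Fin 2) (Fin 2) F) 0 0 ^ 2 ≠ 1 → χ g = 0) ∧
        (∀ g : Matrix.SpecialLinearGroup (Fin 2) F, (g : Matrix (Fin 2) (Fin 2) F) 1 0 = 0 → (g : Matrix (Fin 2) (Fin 2) F) 0 0 = 1 → (g : Matrix (Fin 2) (Fin 2) F) 1 1 = 1 → (g : Matrix (Fin 2) (Fin 2) F) 0 1 ≠ 0 → χ g = -1)) ∧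
    (∀ χ : Matrix.SpecialLinearGroup (Fin 2) F → ℂ, Cfsg.IsIrrCharacter (Matrix.SpecialLinearGroup (Fin 2) F) χ → χ 1 = (Fintype.card F : ℂ) - 1 →
      ∃ θ : C →* ℂˣ, (∃ c : C, θ c ^ 2 ≠ 1) ∧
        ∀ c : C, (c : Matrix.SpecialLinearGroup (Fin 2) F) ∉ Subgroup.center (Matrix.SpecialLinearGroup (Fin 2) F) → χ c = -((θ c).val + (θ c)⁻¹.val)) := by
  classical
  haveI : Fintype (MulChar F ℂ) := Fintype.ofFinite _
  have hC : Cfsg.Agent.Lead.SL2T.Tor C := ⟨hC, hcard⟩
  have hz := hC.zSL_mem hodd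
  refine ⟨fun θ hθ => ?_, fun χ hχ hd => ?_⟩
  · obtain ⟨γ, hγ⟩ := Cfsg.Agent.Lead.SL2T.exists_gamma (F := F) hodd (Cfsg.Agent.Lead.SL2T.fn_z θ hz).1
    have hirr := Cfsg.Agent.Lead.SL2T.phi_irr hodd hC θ hθ γ hz hγ
    refine ⟨_, hirr, Cfsg.Agent.Lead.SL2T.phi_one hC γ θ, fun c hc => ?_, fun c hc g => ?_,
      fun g h01 h10 hne => ?_, fun g h10 h00 h11 hb => ?_⟩
    · rw [Cfsg.Agent.Lead.SL2T.phi_mem hodd hC γ θ c
        (fun h => hc (Cfsg.Agent.Lead.SL2T.mem_center_iff'.2 h))]
      simp [Cfsg.Agent.Lead.SL2T.fn]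
    · rcases Cfsg.Agent.Lead.SL2T.sc_cases (Cfsg.Agent.Lead.SL2T.mem_center_iff'.1 hc) with e | e
      · have : c = 1 := Subtype.ext e
        subst this
        simp
      · have : c = ⟨Cfsg.Agent.Lead.SL2.zSL, hz⟩ := Subtype.ext e
        subst this
        rw [Cfsg.Agent.Lead.SL2.central_mul hirr, Cfsg.Agent.Lead.SL2T.phi_zSL hC γ θ hz hγ,
          Cfsg.Agent.Lead.SL2T.phi_one hC, mul_div_cancel_left₀]
        have h3 := Cfsg.Agent.Lead.SL2T.q_three_le hodd
        rw [sub_ne_zero]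
        exact_mod_cast (by omega : Fintype.card F ≠ 1)
    · obtain ⟨a, ha, -⟩ := Cfsg.Agent.Lead.SL2.toGL2_diag h01 h10
      have hdet : (g : Matrix (Fin 2) (Fin 2) F).det = 1 := g.2
      rw [Matrix.det_fin_two, h01, zero_mul, sub_zero] at hdet
      set x := (g : Matrix (Fin 2) (Fin 2) F) 0 0
      set y := (g : Matrix (Fin 2) (Fin 2) F) 1 1
      have htr : g.1.trace = x + y := Matrix.trace_fin_two _
      refine Cfsg.Agent.Lead.SL2T.phi_split hodd hC γ θ (fun h => hne ?_) ?_
      · rw [htr] at h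
        have h1 : (x - y) * (x - y) = 0 := by linear_combination h - 4 * hdet
        have h2 : x = y := sub_eq_zero.1 (mul_self_eq_zero.1 h1)
        linear_combination hdet + x * h2
      · exact Nat.card_ne_zero.2 ⟨⟨⟨-x, by rw [htr]; linear_combination -hdet⟩⟩, inferInstance⟩
    · have e : g = Cfsg.Agent.Lead.SL2.uSL ((g : Matrix (Fin 2) (Fin 2) F) 0 1) := by
        refine Subtype.ext (Matrix.ext fun i j => ?_)
        fin_cases i <;> fin_cases j <;> simp [Cfsg.Agent.Lead.SL2.uSL, h10, h00, h11]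
      rw [e]
      exact Cfsg.Agent.Lead.SL2T.phi_uSL hodd hC γ θ hb
  · by_cases h4 : 4 ≤ Fintype.card F
    · obtain ⟨θ, γ, hθ, rfl⟩ := Cfsg.Agent.Lead.SL2T.exists_theta hodd h4 hC hχ hd
      refine ⟨θ, hθ, fun c hc => ?_⟩
      rw [Cfsg.Agent.Lead.SL2T.phi_mem hodd hC γ θ c
        (fun h => hc (Cfsg.Agent.Lead.SL2T.mem_center_iff'.2 h))]
      simp [Cfsg.Agent.Lead.SL2T.fn]
    · have h3 : Fintype.card F = 3 := by
        have := Cfsg.Agent.Lead.SL2T.q_three_le hodd
        omega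
      obtain ⟨g0, hg, ho, hns, hgz⟩ := Cfsg.Agent.Lead.SL2T.exists_gen hodd hC hz
      let i : ℂˣ := Units.mk0 Complex.I Complex.I_ne_zero
      have hi : orderOf i ∣ orderOf g0 := by
        rw [ho, h3]
        exact orderOf_dvd_of_pow_eq_one (Units.ext (by simp [i, Complex.I_pow_four]))
      refine ⟨monoidHomOfForallMemZpowers hg hi, ⟨g0, fun h => ?_⟩, fun c hc => ?_⟩
      · rw [monoidHomOfForallMemZpowers_apply_gen] at h
        have := congrArg Units.val h
        simp [i] at this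
        norm_num at this
      · have hns' : ¬ Cfsg.Agent.Small.SL2C.IsSc (c : Matrix.SpecialLinearGroup (Fin 2) F).1 :=
          fun h => hc (Cfsg.Agent.Lead.SL2T.mem_center_iff'.2 h)
        obtain ⟨ht, hr, -⟩ := hC.spec hodd c.2 hns'
        rw [(Cfsg.Agent.S2322.result hodd χ hχ c.1).2 (Or.inr (by rw [hd, h3]; norm_num))
          (Cfsg.Agent.Lead.SL2T.noEigen_of_roots ht hr)]
        obtain ⟨k, hk⟩ := (IsOfFinOrder.mem_powers_iff_mem_zpowers (isOfFinOrder_of_finite g0)).2 (hg c)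
        simp only at hk
        subst hk
        rw [map_pow, monoidHomOfForallMemZpowers_apply_gen]
        have hodd' : Odd k := by
          rcases Nat.even_or_odd k with ⟨j, rfl⟩ | h
          · exfalso
            apply hns'
            have hh : (Fintype.card F + 1) / 2 = 2 := by rw [h3]
            rw [hh] at hgz
            rw [← two_mul, pow_mul, hgz]
            rcases Nat.even_or_odd j with ⟨l, rfl⟩ | ⟨l, rfl⟩
            · rw [← two_mul, pow_mul]
              simp only [Subgroup.coe_pow, sq, Subgroup.coe_mul, Cfsg.Agent.Lead.SL2.zSL_sq, one_pow]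
              exact Cfsg.Agent.Lead.SL2T.isSc_one
            · rw [pow_succ, pow_mul]
              simp only [Subgroup.coe_pow, sq, Subgroup.coe_mul, Cfsg.Agent.Lead.SL2.zSL_sq, one_pow,
                one_mul]
              exact Cfsg.Agent.Lead.SL2T.isSc_zSL
          · exact h
        obtain ⟨j, rfl⟩ := hodd'
        rw [Units.val_pow_eq_pow_val, Units.val_inv_eq_inv_val, Units.val_pow_eq_pow_val]
        simp [i, pow_succ, pow_mul]
        rcases Nat.even_or_odd j with hj | hj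
        · simp [hj.neg_one_pow]
        · simp [hj.neg_one_pow]

end Cfsg.Agent.S2434
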