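import Cfsg.Statements.S2435
import Cfsg.Agent.Lib.Lead.SL2TorusMain

set_option autoImplicit false
open Cfsg

namespace Cfsg.Agent.S2435

/-- Let F be a finite field with q elements, q odd and q ≥ 5, and χ an irreducible complex character of SL₂ over F. If χ has degree (q + 1)/2, then at a diagonal element with entry a, a² ≠ 1, χ takes the value 1 when a is a square in F and −1 otherwise. If χ has degree (q − 1)/2, then at an element g with no eigenvector in F² (so g has order dividing q + 1), χ takes the value −1 when g raised to the power (q + 1)/2 is the identity and the value 1 otherwise. -/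
theorem result {F : Type*} [Field F] [Fintype F] (hodd : Odd (Fintype.card F)) (hq : 5 ≤ Fintype.card F)
    (χ : Matrix.SpecialLinearGroup (Fin 2) F → ℂ) (hχ : Cfsg.IsIrrCharacter (Matrix.SpecialLinearGroup (Fin 2) F) χ) (g : Matrix.SpecialLinearGroup (Fin 2) F) :
    (χ 1 = (((Fintype.card F + 1) / 2 : ℕ) : ℂ) → (g : Matrix (Fin 2) (Fin 2) F) 0 1 = 0 → (g : Matrix (Fin 2) (Fin 2) F) 1 0 = 0 → (g : Matrix (Fin 2) (Fin 2) F) 0 0 ^ 2 ≠ 1 →
      (IsSquare ((g : Matrix (Fin 2) (Fin 2) F) 0 0) → χ g = 1) ∧ (¬ IsSquare ((g : Matrix (Fin 2) (Fin 2) F) 0 0) → χ g = -1)) ∧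
    (χ 1 = (((Fintype.card F - 1) / 2 : ℕ) : ℂ) → (∀ (c : F) (v : Fin 2 → F), v ≠ 0 → (g : Matrix (Fin 2) (Fin 2) F).mulVec v ≠ c • v) →
      (((g ^ ((Fintype.card F + 1) / 2)) : Matrix (Fin 2) (Fin 2) F) = 1 → χ g = -1) ∧ (((g ^ ((Fintype.card F + 1) / 2)) : Matrix (Fin 2) (Fin 2) F) ≠ 1 → χ g = 1)) := by
  classical
  haveI : Fintype (MulChar F ℂ) := Fintype.ofFinite _
  constructor
  · intro hd h01 h10 hne
    obtain ⟨φ, h⟩ := (Cfsg.Agent.Lead.SL2.deg_half_plus hodd hq hχ).1 hd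
    obtain ⟨a, ha, hg⟩ := Cfsg.Agent.Lead.SL2.toGL2_diag h01 h10
    rw [← ha] at hne ⊢
    have h2 := h.at_diag hodd hg
    rw [Cfsg.Agent.Lead.GL2.ps_diag _ _ _ _ (Cfsg.Agent.Lead.SL2.diag_ne hne)] at h2
    simp only [MulChar.one_apply_coe, mul_one] at h2
    refine ⟨fun hs => ?_, fun hs => ?_⟩
    · rw [Cfsg.Agent.Lead.SL2.eta_sq a.ne_zero hs, Cfsg.Agent.Lead.SL2.eta_sq (Units.ne_zero _)
        (by rw [Units.val_inv_eq_inv_val]; exact hs.inv)] at h2
      linear_combination h2 / 2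
    · rw [Cfsg.Agent.Lead.SL2.eta_not_sq hs, Cfsg.Agent.Lead.SL2.eta_not_sq
        (by rw [Units.val_inv_eq_inv_val]; intro hh; exact hs (by simpa using hh.inv))] at h2
      linear_combination h2 / 2
  · intro hd he
    obtain ⟨χ', φ, hχ', hc, h⟩ := (Cfsg.Agent.Lead.SL2.deg_half_minus hodd hq hχ).1 hd
    obtain ⟨hC, hns⟩ := Cfsg.Agent.Lead.SL2T.Tor.tor_of hodd he
    have hz := hC.zSL_mem hodd
    obtain ⟨η, hη, hval, hηz, hη2⟩ := Cfsg.Agent.Lead.SL2T.exists_eta hodd hC hz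
    have hgm : g ∈ Cfsg.Agent.Small.SL2C.tor g := Cfsg.Agent.Small.SL2C.self_mem_tor g
    have hv := Cfsg.Agent.Lead.SL2T.res_fixed_cusp hodd hq hC hz η hη hηz hη2 hχ' hc h ⟨g, hgm⟩ hns
    have h2 := h.at_elliptic hodd he
    rw [Cfsg.Agent.Lead.SL2.res] at hv
    simp only at hv
    rw [hv] at h2
    obtain ⟨hp, hn⟩ := hval ⟨g, hgm⟩
    refine ⟨fun h1 => ?_, fun h1 => ?_⟩
    · rw [hp (Subtype.ext (Subtype.ext (by simpa using h1)))] at h2
      linear_combination h2 / 2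
    · rw [hn (fun e => h1 (by
        have := congrArg (fun x => ((x : ↥(Cfsg.Agent.Small.SL2C.tor g)) :
          Matrix.SpecialLinearGroup (Fin 2) F).1) e
        simpa using this))] at h2
      linear_combination h2 / 2

end Cfsg.Agent.S2435
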