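import Cfsg.Statements.S2438
import Cfsg.Agent.Lib.Lead.SL2Ind
import Mathlib

set_option autoImplicit false
open Cfsg

namespace Cfsg.Agent.S2438

/-- Let F be a finite field with q elements, q odd, q ≥ 5, U the upper unitriangular subgroup of SL₂ over F, and χ an irreducible complex character. The sum of the values of χ over U equals 2q, q, 0, q, 0 according as the degree of χ is q + 1, q, q − 1, (q + 1)/2, (q − 1)/2; so among these five degrees the sum vanishes exactly for the degrees q − 1 and (q − 1)/2, i.e. the irreducible characters of those two degrees are the ones whose restriction to U does not contain the trivial character (the cuspidal characters), while those of degree q + 1, q and (q + 1)/2 are not cuspidal. -/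
theorem result {F : Type*} [Field F] [Fintype F] [DecidableEq F] (hodd : Odd (Fintype.card F)) (hq : 5 ≤ Fintype.card F)
    (χ : Matrix.SpecialLinearGroup (Fin 2) F → ℂ) (hχ : Cfsg.IsIrrCharacter (Matrix.SpecialLinearGroup (Fin 2) F) χ) :
    (χ 1 = (Fintype.card F : ℂ) + 1 →
      (∑ g : Matrix.SpecialLinearGroup (Fin 2) F, if (g : Matrix (Fin 2) (Fin 2) F) 1 0 = 0 ∧ (g : Matrix (Fin 2) (Fin 2) F) 0 0 = 1 ∧ (g : Matrix (Fin 2) (Fin 2) F) 1 1 = 1 then χ g else 0) = 2 * (Fintype.card F : ℂ)) ∧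
    (χ 1 = (Fintype.card F : ℂ) →
      (∑ g : Matrix.SpecialLinearGroup (Fin 2) F, if (g : Matrix (Fin 2) (Fin 2) F) 1 0 = 0 ∧ (g : Matrix (Fin 2) (Fin 2) F) 0 0 = 1 ∧ (g : Matrix (Fin 2) (Fin 2) F) 1 1 = 1 then χ g else 0) = (Fintype.card F : ℂ)) ∧
    (χ 1 = (Fintype.card F : ℂ) - 1 →
      (∑ g : Matrix.SpecialLinearGroup (Fin 2) F, if (g : Matrix (Fin 2) (Fin 2) F) 1 0 = 0 ∧ (g : Matrix (Fin 2) (Fin 2) F) 0 0 = 1 ∧ (g : Matrix (Fin 2) (Fin 2) F) 1 1 = 1 then χ g else 0) = 0) ∧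
    (χ 1 = (((Fintype.card F + 1) / 2 : ℕ) : ℂ) →
      (∑ g : Matrix.SpecialLinearGroup (Fin 2) F, if (g : Matrix (Fin 2) (Fin 2) F) 1 0 = 0 ∧ (g : Matrix (Fin 2) (Fin 2) F) 0 0 = 1 ∧ (g : Matrix (Fin 2) (Fin 2) F) 1 1 = 1 then χ g else 0) = (Fintype.card F : ℂ)) ∧
    (χ 1 = (((Fintype.card F - 1) / 2 : ℕ) : ℂ) →
      (∑ g : Matrix.SpecialLinearGroup (Fin 2) F, if (g : Matrix (Fin 2) (Fin 2) F) 1 0 = 0 ∧ (g : Matrix (Fin 2) (Fin 2) F) 0 0 = 1 ∧ (g : Matrix (Fin 2) (Fin 2) F) 1 1 = 1 then χ g else 0) = 0) := by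
  haveI : Fintype (MulChar F ℂ) := Fintype.ofFinite _
  have hq1 := Fintype.one_lt_card (α := F)
  have hsum : (∑ g : Matrix.SpecialLinearGroup (Fin 2) F, if (g : Matrix (Fin 2) (Fin 2) F) 1 0 = 0 ∧
      (g : Matrix (Fin 2) (Fin 2) F) 0 0 = 1 ∧ (g : Matrix (Fin 2) (Fin 2) F) 1 1 = 1 then χ g else 0) =
      Cfsg.Agent.Lead.SL2.uSum χ := by
    rw [← Finset.sum_filter]
    refine (Finset.sum_nbij Cfsg.Agent.Lead.SL2.uSL ?_ ?_ ?_ (fun _ _ => rfl)).symm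
    · intro x _
      refine Finset.mem_filter.2 ⟨Finset.mem_univ _, ?_⟩
      simp [Cfsg.Agent.Lead.SL2.uSL]
    · intro x _ y _ h
      exact congrArg (fun g : Matrix.SpecialLinearGroup (Fin 2) F => (g : Matrix (Fin 2) (Fin 2) F) 0 1) h
    · intro g hg
      simp only [Finset.coe_filter, Finset.mem_univ, true_and, Set.mem_setOf_eq] at hg
      refine ⟨(g : Matrix (Fin 2) (Fin 2) F) 0 1, by simp, Subtype.ext (Matrix.ext fun i j => ?_)⟩
      fin_cases i <;> fin_cases j <;> simp [Cfsg.Agent.Lead.SL2.uSL, hg.1, hg.2.1, hg.2.2]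
  rw [hsum]
  refine ⟨?_, ?_, ?_, ?_, ?_⟩
  · intro h
    obtain ⟨γ, -, rfl⟩ := (Cfsg.Agent.Lead.SL2.deg_R (by omega) hχ).1 h
    rw [Cfsg.Agent.Lead.SL2.R, Cfsg.Agent.Lead.SL2.uSum_res (Cfsg.Agent.Lead.GL2.isCharacter_ps γ 1),
      Cfsg.Agent.Lead.GL2.ps_one_val, Cfsg.Agent.Lead.GL2.ps_u, Nat.cast_sub hq1.le]
    push_cast; ring
  · intro h
    have e := (Cfsg.Agent.Lead.SL2.deg_q (by omega) hχ).1 h
    subst e
    rw [Cfsg.Agent.Lead.SL2.St0,
      Cfsg.Agent.Lead.SL2.uSum_res (Cfsg.Agent.Char.irr_isCharacter (Cfsg.Agent.Lead.GL2.st_irr 1)),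
      Cfsg.Agent.Lead.GL2.st_one_val, Cfsg.Agent.Lead.GL2.st_u]
    ring
  · intro h
    obtain ⟨χ', hχ', hc, -, rfl⟩ := (Cfsg.Agent.Lead.SL2.deg_free (by omega) hχ).1 h
    rw [Cfsg.Agent.Lead.SL2.uSum_res (Cfsg.Agent.Char.irr_isCharacter hχ'),
      (Cfsg.Agent.Lead.GL2.cusp_values hχ' hc).1, (Cfsg.Agent.Lead.GL2.cusp_values hχ' hc).2]
    ring
  · intro h
    obtain ⟨φ, hh⟩ := (Cfsg.Agent.Lead.SL2.deg_half_plus hodd hq hχ).1 h
    have e := hh.uSum_eq hodd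
    rw [Cfsg.Agent.Lead.SL2.uSum_res (Cfsg.Agent.Lead.GL2.isCharacter_ps _ _),
      Cfsg.Agent.Lead.GL2.ps_one_val, Cfsg.Agent.Lead.GL2.ps_u, Nat.cast_sub hq1.le] at e
    push_cast at e
    linear_combination e / 2
  · intro h
    obtain ⟨χ', φ, hχ', hc, hh⟩ := (Cfsg.Agent.Lead.SL2.deg_half_minus hodd hq hχ).1 h
    have e := hh.uSum_eq hodd
    rw [Cfsg.Agent.Lead.SL2.uSum_res (Cfsg.Agent.Char.irr_isCharacter hχ'),
      (Cfsg.Agent.Lead.GL2.cusp_values hχ' hc).1, (Cfsg.Agent.Lead.GL2.cusp_values hχ' hc).2] at e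
    linear_combination e / 2

end Cfsg.Agent.S2438
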