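import Cfsg.Statements.S2439
import Cfsg.Agent.Lib.Small.SLnBlockCount
import Cfsg.Agent.Lib.Small.SL2.Orders

set_option autoImplicit false
open Cfsg
open Cfsg Cfsg.Agent

namespace Cfsg.Agent.S2439

/-- Let F be a finite field with q elements of odd characteristic p, and M a maximal ideal of the algebraic integers containing p. Then SL₂ over F has exactly three p-blocks relative to M: the irreducible character of degree q (the Steinberg character) alone; the other irreducible characters taking the same value at −1 as at 1 (the principal block); and the irreducible characters χ with χ(−1) = −χ(1). Every Sylow p-subgroup is a defect group of each of the last two blocks. -/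
theorem result {F : Type*} [Field F] [Fintype F] (p : ℕ) [Fact p.Prime] [CharP F p] (hp : p ≠ 2)
    (M : Ideal Cfsg.AlgInt) (hM : Cfsg.IsPModular p M) :
    (∀ B : Set (Cfsg.IrrCharacter (Matrix.SpecialLinearGroup (Fin 2) F)), Cfsg.IsPBlock M B ↔
      (B = {χ : Cfsg.IrrCharacter (Matrix.SpecialLinearGroup (Fin 2) F) | (χ : Matrix.SpecialLinearGroup (Fin 2) F → ℂ) 1 = (Fintype.card F : ℂ)} ∨
       B = {χ : Cfsg.IrrCharacter (Matrix.SpecialLinearGroup (Fin 2) F) | (χ : Matrix.SpecialLinearGroup (Fin 2) F → ℂ) (-1) = (χ : Matrix.SpecialLinearGroup (Fin 2) F → ℂ) 1 ∧ (χ : Matrix.SpecialLinearGroup (Fin 2) F → ℂ) 1 ≠ (Fintype.card F : ℂ)} ∨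
       B = {χ : Cfsg.IrrCharacter (Matrix.SpecialLinearGroup (Fin 2) F) | (χ : Matrix.SpecialLinearGroup (Fin 2) F → ℂ) (-1) = -(χ : Matrix.SpecialLinearGroup (Fin 2) F → ℂ) 1})) ∧
    Nat.card {B : Set (Cfsg.IrrCharacter (Matrix.SpecialLinearGroup (Fin 2) F)) // Cfsg.IsPBlock M B} = 3 ∧
    ∀ P : Sylow p (Matrix.SpecialLinearGroup (Fin 2) F),
      Cfsg.IsDefectGroup p M {χ : Cfsg.IrrCharacter (Matrix.SpecialLinearGroup (Fin 2) F) | (χ : Matrix.SpecialLinearGroup (Fin 2) F → ℂ) (-1) = (χ : Matrix.SpecialLinearGroup (Fin 2) F → ℂ) 1 ∧ (χ : Matrix.SpecialLinearGroup (Fin 2) F → ℂ) 1 ≠ (Fintype.card F : ℂ)} (P : Subgroup (Matrix.SpecialLinearGroup (Fin 2) F)) ∧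
      Cfsg.IsDefectGroup p M {χ : Cfsg.IrrCharacter (Matrix.SpecialLinearGroup (Fin 2) F) | (χ : Matrix.SpecialLinearGroup (Fin 2) F → ℂ) (-1) = -(χ : Matrix.SpecialLinearGroup (Fin 2) F → ℂ) 1} (P : Subgroup (Matrix.SpecialLinearGroup (Fin 2) F)) := by
  classical
  letI : Fintype (Matrix.SpecialLinearGroup (Fin 2) F) := Cfsg.Agent.Small.SLnSt.fintypeSL
  obtain ⟨st, hst, d⟩ := Cfsg.Agent.Small.SLnSt.exists_data (F := F) (n := 2) le_rfl p hM
  rw [Nat.choose_self, pow_one] at hst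
  have h2 : (2 : F) ≠ 0 := Cfsg.Agent.Small.SL2C.two_ne_zero_of_char p hp
  have hm : (-1 : (Matrix.SpecialLinearGroup (Fin 2) F)) ∈ Subgroup.center (Matrix.SpecialLinearGroup (Fin 2) F) :=
    Subgroup.mem_center_iff.2 fun g => Subtype.ext (by
      show g.1 * (-1 : (Matrix.SpecialLinearGroup (Fin 2) F)).1 = (-1 : (Matrix.SpecialLinearGroup (Fin 2) F)).1 * g.1
      rw [Matrix.SpecialLinearGroup.coe_neg, Matrix.SpecialLinearGroup.coe_one, mul_neg, neg_mul,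
        mul_one, one_mul])
  have hZ : ∀ z : ↥(Subgroup.center (Matrix.SpecialLinearGroup (Fin 2) F)), (z : (Matrix.SpecialLinearGroup (Fin 2) F)) = 1 ∨ (z : (Matrix.SpecialLinearGroup (Fin 2) F)) = -1 := by
    intro z
    rcases Cfsg.Agent.Small.SL2C.isSc_SL (Cfsg.Agent.Small.SL2C.mem_center_iff.1 z.2) with h | h
    · exact Or.inl (Subtype.ext (h.trans Matrix.SpecialLinearGroup.coe_one.symm))
    · exact Or.inr (Subtype.ext (h.trans (by
        rw [Matrix.SpecialLinearGroup.coe_neg, Matrix.SpecialLinearGroup.coe_one])))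
  set e : ↥(Subgroup.center (Matrix.SpecialLinearGroup (Fin 2) F)) := ⟨-1, hm⟩
  have hst1 : ∀ χ : Cfsg.IrrCharacter (Matrix.SpecialLinearGroup (Fin 2) F), (χ : (Matrix.SpecialLinearGroup (Fin 2) F) → ℂ) 1 = (Fintype.card F : ℂ) ↔ χ = st := by
    refine fun χ => ⟨fun h => d.uniq χ ?_, fun h => by rw [h]; exact hst⟩
    rw [← d.st_dexp]
    unfold Cfsg.Agent.Char.dexp Cfsg.Agent.Char.deg
    rw [h, hst]
  have hne : ∀ χ : Cfsg.IrrCharacter (Matrix.SpecialLinearGroup (Fin 2) F), (χ : (Matrix.SpecialLinearGroup (Fin 2) F) → ℂ) 1 ≠ 0 :=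
    fun χ => Cfsg.Agent.Char.irr_one_ne_zero χ.2
  have hval : ∀ χ : Cfsg.IrrCharacter (Matrix.SpecialLinearGroup (Fin 2) F), ((Cfsg.Agent.Char.CentralBlocks.mu χ e : ℂˣ) : ℂ) =
      (χ : (Matrix.SpecialLinearGroup (Fin 2) F) → ℂ) (-1) / (χ : (Matrix.SpecialLinearGroup (Fin 2) F) → ℂ) 1 := fun χ => Cfsg.Agent.Char.CentralBlocks.mu_val χ e
  have hee : e * e = 1 := Subtype.ext (Subtype.ext (by
    show (-1 : (Matrix.SpecialLinearGroup (Fin 2) F)).1 * (-1 : (Matrix.SpecialLinearGroup (Fin 2) F)).1 = (1 : (Matrix.SpecialLinearGroup (Fin 2) F)).1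
    rw [Matrix.SpecialLinearGroup.coe_neg, Matrix.SpecialLinearGroup.coe_one, neg_mul_neg,
      Matrix.mul_one]))
  have hsgn : ∀ l : ↥(Subgroup.center (Matrix.SpecialLinearGroup (Fin 2) F)) →* ℂˣ, ((l e : ℂˣ) : ℂ) = 1 ∨ ((l e : ℂˣ) : ℂ) = -1 := by
    intro l
    apply mul_self_eq_one_iff.1
    rw [← Units.val_mul, ← map_mul, hee, map_one, Units.val_one]
  have hdet : ∀ l l' : ↥(Subgroup.center (Matrix.SpecialLinearGroup (Fin 2) F)) →* ℂˣ, ((l e : ℂˣ) : ℂ) = ((l' e : ℂˣ) : ℂ) → l = l' := by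
    intro l l' h
    refine MonoidHom.ext fun z => ?_
    rcases hZ z with hz | hz
    · rw [show z = 1 from Subtype.ext hz, map_one, map_one]
    · rw [show z = e from Subtype.ext hz]
      exact Units.ext h
  set S0 := {χ : Cfsg.IrrCharacter (Matrix.SpecialLinearGroup (Fin 2) F) | (χ : (Matrix.SpecialLinearGroup (Fin 2) F) → ℂ) 1 = (Fintype.card F : ℂ)}
  set S1 := {χ : Cfsg.IrrCharacter (Matrix.SpecialLinearGroup (Fin 2) F) | (χ : (Matrix.SpecialLinearGroup (Fin 2) F) → ℂ) (-1) = (χ : (Matrix.SpecialLinearGroup (Fin 2) F) → ℂ) 1 ∧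
    (χ : (Matrix.SpecialLinearGroup (Fin 2) F) → ℂ) 1 ≠ (Fintype.card F : ℂ)}
  set S2 := {χ : Cfsg.IrrCharacter (Matrix.SpecialLinearGroup (Fin 2) F) | (χ : (Matrix.SpecialLinearGroup (Fin 2) F) → ℂ) (-1) = -(χ : (Matrix.SpecialLinearGroup (Fin 2) F) → ℂ) 1}
  have e0 : S0 = {st} := Set.ext fun χ => hst1 χ
  have e1 : ∀ l : ↥(Subgroup.center (Matrix.SpecialLinearGroup (Fin 2) F)) →* ℂˣ, ((l e : ℂˣ) : ℂ) = 1 →
      {χ : Cfsg.IrrCharacter (Matrix.SpecialLinearGroup (Fin 2) F) | χ ≠ st ∧ Cfsg.Agent.Char.CentralBlocks.mu χ = l} = S1 := by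
    intro l hl
    ext χ
    constructor
    · rintro ⟨h1, h2'⟩
      have h3 : ((Cfsg.Agent.Char.CentralBlocks.mu χ e : ℂˣ) : ℂ) = 1 := by rw [h2']; exact hl
      rw [hval, div_eq_one_iff_eq (hne χ)] at h3
      exact ⟨h3, fun h4 => h1 ((hst1 χ).1 h4)⟩
    · rintro ⟨h1, h3⟩
      refine ⟨fun h4 => h3 ((hst1 χ).2 h4), hdet _ _ ?_⟩
      rw [hl, hval, h1, div_self (hne χ)]
  have e2 : ∀ l : ↥(Subgroup.center (Matrix.SpecialLinearGroup (Fin 2) F)) →* ℂˣ, ((l e : ℂˣ) : ℂ) = -1 →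
      {χ : Cfsg.IrrCharacter (Matrix.SpecialLinearGroup (Fin 2) F) | χ ≠ st ∧ Cfsg.Agent.Char.CentralBlocks.mu χ = l} = S2 := by
    intro l hl
    ext χ
    constructor
    · rintro ⟨h1, h2'⟩
      have h3 : ((Cfsg.Agent.Char.CentralBlocks.mu χ e : ℂˣ) : ℂ) = -1 := by rw [h2']; exact hl
      rw [hval, div_eq_iff (hne χ), neg_one_mul] at h3
      exact h3
    · intro (h1 : (χ : (Matrix.SpecialLinearGroup (Fin 2) F) → ℂ) (-1) = -(χ : (Matrix.SpecialLinearGroup (Fin 2) F) → ℂ) 1)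
      have h5 : ((Cfsg.Agent.Char.CentralBlocks.mu χ e : ℂˣ) : ℂ) = -1 := by
        rw [hval, h1, neg_div, div_self (hne χ)]
      refine ⟨fun h4 => ?_, hdet _ _ (h5.trans hl.symm)⟩
      rw [h4, d.st_center e, Units.val_one] at h5
      norm_num at h5
  obtain ⟨l1, hl1⟩ : ∃ l : ↥(Subgroup.center (Matrix.SpecialLinearGroup (Fin 2) F)) →* ℂˣ, ((l e : ℂˣ) : ℂ) = 1 := ⟨1, rfl⟩
  obtain ⟨l2, hl2⟩ : ∃ l : ↥(Subgroup.center (Matrix.SpecialLinearGroup (Fin 2) F)) →* ℂˣ, ((l e : ℂˣ) : ℂ) = -1 := by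
    haveI : NeZero ((Monoid.exponent ↥(Subgroup.center (Matrix.SpecialLinearGroup (Fin 2) F)) : ℂ)) :=
      ⟨Nat.cast_ne_zero.2 Monoid.exponent_ne_zero_of_finite⟩
    letI : CommGroup ↥(Subgroup.center (Matrix.SpecialLinearGroup (Fin 2) F)) :=
      { (inferInstance : Group ↥(Subgroup.center (Matrix.SpecialLinearGroup (Fin 2) F))) with
        mul_comm := fun a b => Subtype.ext (Subgroup.mem_center_iff.1 b.2 (a : (Matrix.SpecialLinearGroup (Fin 2) F))) }
    have he1 : e ≠ 1 := fun h => by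
      have h3 := congrFun (congrFun (congrArg (fun x : ↥(Subgroup.center (Matrix.SpecialLinearGroup (Fin 2) F)) => (x : (Matrix.SpecialLinearGroup (Fin 2) F)).1) h) 0) 0
      simp [e] at h3
      exact h2 (by linear_combination -h3)
    obtain ⟨φ, hφ⟩ :=
      CommGroup.exists_apply_ne_one_of_hasEnoughRootsOfUnity ↥(Subgroup.center (Matrix.SpecialLinearGroup (Fin 2) F)) ℂ he1
    exact ⟨φ, (hsgn φ).resolve_left fun h => hφ (Units.ext h)⟩
  refine ⟨fun B => ?_, ?_, fun P => ?_⟩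
  · rw [d.blocks_iff hM B]
    constructor
    · rintro (h | ⟨l, h⟩)
      · exact Or.inl (h.trans e0.symm)
      · rcases hsgn l with h' | h'
        · exact Or.inr (Or.inl (h.trans (e1 l h')))
        · exact Or.inr (Or.inr (h.trans (e2 l h')))
    · rintro (h | h | h)
      · exact Or.inl (h.trans e0)
      · exact Or.inr ⟨l1, h.trans (e1 l1 hl1).symm⟩
      · exact Or.inr ⟨l2, h.trans (e2 l2 hl2).symm⟩
  · rw [d.card_blocks hM, Cfsg.Agent.Small.SL2C.center_card_odd h2]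
  · have key : ∀ l : ↥(Subgroup.center (Matrix.SpecialLinearGroup (Fin 2) F)) →* ℂˣ,
        Cfsg.IsDefectGroup p M {χ : Cfsg.IrrCharacter (Matrix.SpecialLinearGroup (Fin 2) F) | χ ≠ st ∧
          Cfsg.Agent.Char.CentralBlocks.mu χ = l} (P : Subgroup (Matrix.SpecialLinearGroup (Fin 2) F)) := by
      intro l
      obtain ⟨χ, hχ, hl⟩ := d.exists_rep l
      have hB := (d.blocks_iff hM _).2 (Or.inr ⟨l, rfl⟩)
      rw [Cfsg.Agent.Char.block_eq_blockOf (Cfsg.Agent.Char.pmod_prime hM) hB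
        (show χ ∈ {χ : Cfsg.IrrCharacter (Matrix.SpecialLinearGroup (Fin 2) F) | χ ≠ st ∧ Cfsg.Agent.Char.CentralBlocks.mu χ = l} from
          ⟨hχ, hl⟩)]
      exact d.isDefectGroup_sylow hM hχ P
    exact ⟨e1 l1 hl1 ▸ key l1, e2 l2 hl2 ▸ key l2⟩

end Cfsg.Agent.S2439
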