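import Cfsg.Statements.S2442
import Cfsg.Agent.Lib.Char.GLCusp.Count

set_option autoImplicit false
open scoped MatrixGroups
open Cfsg

namespace Cfsg.Agent.S2442

open Classical in
/-- Let F be a finite field with q elements and n ≥ 2. Call a complex character χ of GL_n over F cuspidal when, for every 0 < m < n, the sum of χ over the subgroup of matrices that agree with the identity outside the upper right m × (n − m) block vanishes (the restriction of χ to the unipotent radical of each maximal standard parabolic subgroup contains no principal constituent). Then GL_n has at least φ(qⁿ − 1)/n distinct cuspidal irreducible characters of degree (q − 1)(q² − 1)⋯(q^(n−1) − 1), φ being Euler's function (in particular at least one). -/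
theorem result {F : Type*} [Field F] [Fintype F] [DecidableEq F] (n : ℕ) (hn : 2 ≤ n) :
    Nat.totient (Fintype.card F ^ n - 1) / n ≤
      Nat.card {χ : Cfsg.IrrCharacter (GL (Fin n) F) //
        (χ : GL (Fin n) F → ℂ) 1 = ∏ i ∈ Finset.Ico 1 n, ((Fintype.card F : ℂ) ^ i - 1) ∧
        ∀ m : ℕ, 0 < m → m < n →
          (∑ g : GL (Fin n) F,
            if (∀ i j : Fin n, ¬ (i.val < m ∧ m ≤ j.val) → (g : Matrix (Fin n) (Fin n) F) i j = (1 : Matrix (Fin n) (Fin n) F) i j)
            then (χ : GL (Fin n) F → ℂ) g else 0) = 0} := by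
  exact (by
  classical
  obtain ⟨θ, hθ⟩ := Cfsg.Agent.GLCusp.exists_theta F
  refine le_trans (Cfsg.Agent.GLCusp.totient_le_card_cusp hn) ?_
  refine Nat.card_le_card_of_injective
    (fun χ => ⟨χ.1, Cfsg.Agent.GLCusp.cusp_one (by omega) θ hθ χ.1 χ.2, fun m hm0 hmn => ?_⟩)
    fun χ χ' e => Subtype.ext (congrArg Subtype.val e :)
  refine Eq.trans ?_ (χ.2.std_sum hm0 hmn 1)
  rw [← Finset.sum_filter]
  symm
  refine Finset.sum_bij (fun N _ => Cfsg.Agent.GLCusp.stdUnip N)
    (fun N _ => ?_) (fun N _ N' _ e => ?_) (fun g hg => ?_) (fun N _ => by rw [one_mul])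
  · rw [Finset.mem_filter]
    refine ⟨Finset.mem_univ _, fun i j hij => ?_⟩
    change (1 + N.1) i j = _
    rw [Matrix.add_apply, N.2 i j hij, add_zero]
  · have e' := congrArg (fun g : GL (Fin n) F => (g : Matrix (Fin n) (Fin n) F)) e
    exact Subtype.ext (add_left_cancel (e' :))
  · rw [Finset.mem_filter] at hg
    refine ⟨⟨(g : Matrix (Fin n) (Fin n) F) - 1, fun i j hij => ?_⟩, Finset.mem_univ _, Units.ext ?_⟩
    · rw [Matrix.sub_apply, hg.2 i j hij, sub_self]
    · exact add_sub_cancel _ _)

end Cfsg.Agent.S2442
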