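import Cfsg.Statements.S2444
import Cfsg.Agent.Lib.Lie.SLComm.Sourour
import Cfsg.Agent.Lib.Lie.SLComm.Small

set_option autoImplicit false
open Cfsg

namespace Cfsg.Agent.S2444

/-- In the special linear group SL(n,F) over a finite field F, with n ≥ 2 and (n, |F|) not (2,2) or (2,3), every element is a commutator a·b·a⁻¹·b⁻¹ of two elements of SL(n,F). -/
theorem result {F : Type*} [Field F] [Fintype F] (n : ℕ) (hn : 2 ≤ n) (hex : n = 2 → 4 ≤ Fintype.card F) :
    ∀ g : Matrix.SpecialLinearGroup (Fin n) F, ∃ a b : Matrix.SpecialLinearGroup (Fin n) F, g = a * b * a⁻¹ * b⁻¹ := by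
  intro g
  have hdet : (g : Matrix (Fin n) (Fin n) F).det = 1 := g.2
  have hcom : Agent.Lie.SLComm.Com (g : Matrix (Fin n) (Fin n) F) := by
    by_cases h4 : 4 ≤ Fintype.card F
    · exact Agent.Lie.SLComm.com_of_det_four h4 hn _ hdet
    · refine Agent.Lie.SLComm.com_small ?_ ?_ _ hdet
      · have : 1 < Fintype.card F := Fintype.one_lt_card
        omega
      · by_contra h
        exact h4 (hex (by omega))
  obtain ⟨a, b, ha, hb, h⟩ := hcom
  obtain ⟨a', rfl⟩ : ∃ x : Matrix.SpecialLinearGroup (Fin n) F, (x : Matrix (Fin n) (Fin n) F) = a := ⟨⟨a, ha⟩, rfl⟩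
  obtain ⟨b', rfl⟩ : ∃ x : Matrix.SpecialLinearGroup (Fin n) F, (x : Matrix (Fin n) (Fin n) F) = b := ⟨⟨b, hb⟩, rfl⟩
  refine ⟨a', b', ?_⟩
  rw [eq_mul_inv_iff_mul_eq, eq_mul_inv_iff_mul_eq]
  exact Subtype.ext h

end Cfsg.Agent.S2444
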