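import Cfsg.Statements.S2459
import Cfsg.Agent.Lib.Small.SLThreeF3

set_option autoImplicit false
open Cfsg

namespace Cfsg.Agent.S2459

/-- A form of Thompson's conjecture for PSL(3,q), q > 2 (covering the non-identity elements), with a semisimple class: for F a finite field of characteristic p with more than 2 elements there is an element x of PSL(3,F) of order prime to p such that every non-identity element of PSL(3,F) is a product of two conjugates of x. -/
theorem result {F : Type*} [Field F] [Fintype F] (p : ℕ) [Fact p.Prime] [CharP F p] (h3 : 3 ≤ Fintype.card F) :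
    ∃ x : Matrix.ProjectiveSpecialLinearGroup (Fin 3) F, ¬ p ∣ orderOf x ∧ ∀ g : Matrix.ProjectiveSpecialLinearGroup (Fin 3) F, g ≠ 1 → ∃ u v : Matrix.ProjectiveSpecialLinearGroup (Fin 3) F, g = (u * x * u⁻¹) * (v * x * v⁻¹) := by
  classical
  suffices H : ∃ x : Matrix.SpecialLinearGroup (Fin 3) F, (∃ N : ℕ, x ^ N = 1 ∧ ¬ p ∣ N) ∧
      ∀ A : Matrix.SpecialLinearGroup (Fin 3) F, (∀ s : F, A.1 ≠ !![s, 0, 0; 0, s, 0; 0, 0, s]) →
        ∃ P Q, A = P * x * P⁻¹ * (Q * x * Q⁻¹) by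
    obtain ⟨x, ⟨N, hN, hpN⟩, hx⟩ := H
    let π := QuotientGroup.mk' (Subgroup.center (Matrix.SpecialLinearGroup (Fin 3) F))
    refine ⟨π x, fun hd => hpN (hd.trans (orderOf_dvd_of_pow_eq_one ?_)), fun g hg => ?_⟩
    · rw [← map_pow, hN, map_one]
    · obtain ⟨A, rfl⟩ := QuotientGroup.mk'_surjective _ g
      obtain ⟨P, Q, rfl⟩ := hx A fun s hs => hg <| by
        refine (QuotientGroup.eq_one_iff A).2 (Subgroup.mem_center_iff.2 fun B => ?_)
        apply Small.SLThreeGen.ext3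
        rw [Small.SLThreeGen.vmul, Small.SLThreeGen.vmul, hs, Matrix.eta_fin_three B.1]
        simp [Matrix.mul_fin_three, mul_comm]
      exact ⟨π P, π Q, by simp [π]⟩
  by_cases h4 : Fintype.card F = 3
  · refine ⟨⟨Small.SLThreeGen.comp13 F, Small.SLThreeGen.comp13_det⟩, ⟨13, ?_, ?_⟩,
      fun A hA => Small.SLThreeGen.exists_sol_three h4 _ A rfl hA⟩
    · apply Small.SLThreeGen.ext3
      have hc : (3 : F) = 0 := by
        have : ((Fintype.card F : ℕ) : F) = 0 := FiniteField.cast_card_eq_zero F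
        rw [h4] at this
        exact_mod_cast this
      change (Small.SLThreeGen.comp13 F) ^ 13 = 1
      simp [Small.SLThreeGen.comp13, pow_succ, Matrix.mul_fin_three, Matrix.one_fin_three]
      grind
    · intro hd
      have h13 : p = 13 := (Nat.prime_dvd_prime_iff_eq Fact.out (by norm_num)).1 hd
      obtain ⟨n, -, hn⟩ := FiniteField.card F p
      rw [h4, h13] at hn
      have : 13 ≤ 13 ^ (n : ℕ) := Nat.le_self_pow n.pos.ne' 13
      omega
  obtain ⟨g, hg0, hpow, -⟩ := Small.SLThreeGen.exists_gen (F := F)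
  have hg2 : g ^ 2 ≠ 1 := by
    intro h
    have hsub : (Finset.univ : Finset F) ⊆ {0, 1, g} := by
      intro a _
      by_cases ha : a = 0
      · simp [ha]
      obtain ⟨k, rfl⟩ := hpow a ha
      rcases Nat.even_or_odd' k with ⟨j, rfl | rfl⟩ <;> simp [pow_mul, pow_succ, h]
    have := (Finset.card_le_card hsub).trans Finset.card_le_three
    rw [Finset.card_univ] at this
    omega
  have d1 : (1 : F) ≠ g := fun h => hg2 (by rw [← h, one_pow])
  have d2 : (1 : F) ≠ g⁻¹ := fun h => d1 (by rw [eq_comm, ← inv_eq_one, ← h])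
  have d3 : g ≠ g⁻¹ := fun h => hg2 (by rw [sq]; nth_rw 2 [h]; rw [mul_inv_cancel₀ hg0])
  refine ⟨Small.SLThreeGen.mk !![1, 0, 0; 0, g, 0; 0, 0, g⁻¹]
    (Small.SLThreeGen.det_one_three (by simp [hg0])), ⟨Fintype.card F - 1, ?_, ?_⟩, fun A hA => ?_⟩
  · apply Small.SLThreeGen.ext3
    rw [Matrix.SpecialLinearGroup.coe_pow, Small.SLThreeGen.vmk, Small.SLThreeGen.vone,
      show !![1, 0, 0; 0, g, 0; 0, 0, g⁻¹] = Matrix.diagonal ![1, g, g⁻¹] by
        ext i j; fin_cases i <;> fin_cases j <;> simp,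
      Matrix.diagonal_pow]
    ext i j
    fin_cases i <;> fin_cases j <;> simp [FiniteField.pow_card_sub_one_eq_one g hg0]
  · intro hd
    obtain ⟨n, hp, hn⟩ := FiniteField.card F p
    have h1 : p ∣ Fintype.card F := hn ▸ dvd_pow_self p n.pos.ne'
    have h2 := Nat.dvd_sub h1 hd
    rw [show Fintype.card F - (Fintype.card F - 1) = 1 by omega] at h2
    exact hp.ne_one (Nat.dvd_one.1 h2)
  · obtain ⟨G, c₁, c₂, r₁, r₂, x, hG, hAG⟩ := Small.SLThreeGen.exists_LU A.1 hA A.2 hg0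
    obtain ⟨Pl, hPl, hL⟩ := Small.SLThreeGen.lower_diag 1 g g⁻¹ c₁ c₂ g⁻¹ d1 d2 d3
    obtain ⟨Pu, hPu, hU⟩ := Small.SLThreeGen.upper_diag 1 g g⁻¹ r₁ r₂ x d1 d2 d3
    refine Small.SLThreeGen.eq_mul_conj _ A hG hPl hPu (fun δ hδ => ?_) hAG hL hU
    refine ⟨!![δ, 0, 0; 0, 1, 0; 0, 0, 1], by simp [Matrix.det_fin_three], ?_⟩
    rw [Small.SLThreeGen.vmk]
    simp [Matrix.mul_fin_three]

end Cfsg.Agent.S2459
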