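import Cfsg.Statements.S2460
import Cfsg.Agent.Lib.Small.SpFourThompsonGroup
-- import your own Cfsg.Agent.* helpers here

set_option autoImplicit false
open Cfsg

namespace Cfsg.Agent.S2460

/-- A form of Thompson's conjecture for the simple groups PSp(4,q), q ≥ 3 (covering the non-identity elements), with a semisimple class: for F a finite field of characteristic p with at least 3 elements there is an element x of PSp(4,F) of order prime to p such that every non-identity element of PSp(4,F) is a product of two conjugates of x. -/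
theorem result {F : Type*} [Field F] [Fintype F] (p : ℕ) [Fact p.Prime] [CharP F p] (h3 : 3 ≤ Fintype.card F) :
    ∃ x : Cfsg.PSp 2 F, ¬ p ∣ orderOf x ∧ ∀ g : Cfsg.PSp 2 F, g ≠ 1 → ∃ u v : Cfsg.PSp 2 F, g = (u * x * u⁻¹) * (v * x * v⁻¹) := by
  classical
  obtain ⟨τ, d, hg⟩ := Small.SpFourThompson.exists_good h3
  have hc : IsUnit (Small.SpFourThompson.comp2 τ d).det :=
    Small.SpFourThompson.isUnit_of_inC hg (Small.SpFourThompson.comp2_inC τ d)
  refine ⟨QuotientGroup.mk' _ (Small.SpFourThompson.dg (Small.SpFourThompson.comp2 τ d) hc), ?_, ?_⟩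
  · intro hdvd
    have h1 := orderOf_dvd_of_pow_eq_one
      (Small.SpFourThompson.dg_pow_eq_one hc (Small.SpFourThompson.comp2_pow hg))
    have h2 := hdvd.trans ((orderOf_map_dvd _ _).trans h1)
    obtain ⟨n, -, hn⟩ := FiniteField.card F p
    have hpq : p ∣ Fintype.card F * Fintype.card F := by
      refine dvd_mul_of_dvd_left ?_ _
      rw [hn]
      exact dvd_pow_self _ n.ne_zero
    have hpos : 1 ≤ Fintype.card F * Fintype.card F := by nlinarith
    have h3' := Nat.dvd_sub hpq h2
    rw [Nat.sub_sub_self hpos] at h3'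
    exact (Fact.out : p.Prime).one_lt.ne' (Nat.dvd_one.1 h3')
  · intro g hg1
    obtain ⟨G, rfl⟩ := QuotientGroup.mk'_surjective _ g
    obtain ⟨u, v, huv⟩ := Small.SpFourThompson.exists_two h3 hg hc G
      (fun h => hg1 ((QuotientGroup.eq_one_iff G).2 h))
    refine ⟨QuotientGroup.mk' _ u, QuotientGroup.mk' _ v, ?_⟩
    rw [huv]
    simp only [map_mul, map_inv]

end Cfsg.Agent.S2460
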