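import Cfsg.Statements.S2461
import Cfsg.Agent.Lib.Small.GTwoThompsonGroup
-- import your own Cfsg.Agent.* helpers here

set_option autoImplicit false
open Cfsg

namespace Cfsg.Agent.S2461

/-- A form of Thompson's conjecture for the simple Chevalley groups G₂(q), q ≥ 3 (covering the non-identity elements), with a semisimple class: for F a finite field of characteristic p with at least 3 elements there is an element x of the Chevalley group of type G₂ over F of order prime to p such that every non-identity element of that group is a product of two conjugates of x. -/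
theorem result {F : Type*} [Field F] [Fintype F] (p : ℕ) [Fact p.Prime] [CharP F p] (h3 : 3 ≤ Fintype.card F) :
    ∃ x : Cfsg.Lie.chevG2.group F, ¬ p ∣ orderOf x ∧ ∀ g : Cfsg.Lie.chevG2.group F, g ≠ 1 → ∃ u v : Cfsg.Lie.chevG2.group F, g = (u * x * u⁻¹) * (v * x * v⁻¹) := by
  classical
  obtain ⟨τ, d, hτ, hg⟩ := Small.GTwoThompson.exists_good' h3
  have h := Lie.G2Orders.exists_ne01' h3
  have hc : IsUnit (Small.SpFourThompson.comp2 τ d).det :=
    Small.SpFourThompson.isUnit_of_inC hg (Small.SpFourThompson.comp2_inC τ d)
  set X := Matrix.GeneralLinearGroup.mk'' (Small.SpFourThompson.comp2 τ d) hc with hX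
  refine ⟨Small.GTwoThompson.lv h X, ?_, fun g hg1 =>
    Small.GTwoThompson.exists_two h3 h hτ hg hc hg1⟩
  intro hdvd
  have hpow : X ^ (Fintype.card F * Fintype.card F - 1) = 1 := by
    apply Units.ext
    rw [Units.val_pow_eq_pow_val, Units.val_one, hX]
    exact Small.SpFourThompson.comp2_pow hg
  have h2 := hdvd.trans ((orderOf_map_dvd (Small.GTwoThompson.lv h) X).trans (orderOf_dvd_of_pow_eq_one hpow))
  obtain ⟨n, -, hn⟩ := FiniteField.card F p
  have hpq : p ∣ Fintype.card F * Fintype.card F := by
    refine dvd_mul_of_dvd_left ?_ _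
    rw [hn]
    exact dvd_pow_self _ n.ne_zero
  have hpos : 1 ≤ Fintype.card F * Fintype.card F := by nlinarith
  have h3' := Nat.dvd_sub hpq h2
  rw [Nat.sub_sub_self hpos] at h3'
  exact (Fact.out : p.Prime).one_lt.ne' (Nat.dvd_one.1 h3')

end Cfsg.Agent.S2461
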