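import Cfsg.Statements.S2463
import Cfsg.Agent.Lib.Small.FFourTwistThompson.Group
import Cfsg.Agent.Lib.Small.FFourTwistThompson.TitsMain

set_option autoImplicit false
set_option maxRecDepth 8000
open Cfsg

namespace Cfsg.Agent.S2463

attribute [local irreducible] Cfsg.Lie.twistedF4 commutator

theorem transport {M N : Type*} [Group M] [Group N] (e : M ≃* N)
    (h : ∃ x : N, Odd (orderOf x) ∧ ∀ g : N, g ≠ 1 → ∃ u v : N, g = (u * x * u⁻¹) * (v * x * v⁻¹)) :
    ∃ x : M, Odd (orderOf x) ∧ ∀ g : M, g ≠ 1 → ∃ u v : M, g = (u * x * u⁻¹) * (v * x * v⁻¹) := by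
  obtain ⟨x, hx, h⟩ := h
  refine ⟨e.symm x, by rwa [MulEquiv.orderOf_eq], fun g hg => ?_⟩
  obtain ⟨u, v, huv⟩ := h (e g) fun h1 => hg (e.injective (h1.trans e.map_one.symm))
  refine ⟨e.symm u, e.symm v, e.injective ?_⟩
  rw [huv]
  simp

/-- A form of Thompson's conjecture for the simple groups of type ²F₄ (covering the non-identity elements) with a semisimple class: if M is a large Ree group ²F₄(2^(2m+1)) with m ≥ 1, or the Tits group, then there is an element x of M of odd order such that every non-identity element of M is a product of two conjugates of x. -/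
theorem result {M : Type*} [Group M] [Finite M] (hM : Cfsg.Lie.Iso2F4 M ∨ Cfsg.Lie.IsoTits M) :
    ∃ x : M, Odd (orderOf x) ∧ ∀ g : M, g ≠ 1 → ∃ u v : M, g = (u * x * u⁻¹) * (v * x * v⁻¹) := by
  rcases hM with ⟨K, _, _, m, hm, hcard, ⟨e⟩⟩ | h
  · haveI : CharP K 2 := Cfsg.Agent.Lie.F4.charP_two hcard
    obtain ⟨S⟩ := Cfsg.Agent.Lie.F4.nonempty_setup (K := K) (m := m) hcard
    exact transport e (Cfsg.Agent.Small.FFourTwistThompson.exists_cover S hm)
  · obtain ⟨e⟩ : Nonempty (M ≃* Cfsg.Lie.TitsGroup) := h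
    exact transport (N := Cfsg.Lie.TitsGroup) e
      Cfsg.Agent.Small.FFourTwistThompson.TitsCov.exists_cover_tits

end Cfsg.Agent.S2463
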