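import Cfsg.Statements.S2481
import Cfsg.Agent.Lib.Small.ClassNumberU.Classes
import Cfsg.Agent.Lib.Small.ClassNumberU.Arith
import Cfsg.Agent.Lib.Small.UnitarySemisimpleCount
import Cfsg.Agent.Lib.Classical.UnitaryForm

set_option autoImplicit false
open Cfsg

namespace Cfsg.Agent.S2481

/-- The number of conjugacy classes of SU(n,q): for n ≥ 2, q a prime power and F the field with q² elements, the number k of conjugacy classes of SU(n,q) (the determinant-one isometries of the standard Hermitian form on F^n) satisfies q^(n−1) ≤ k ≤ 8.26·q^(n−1). -/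
theorem result {F : Type*} [Field F] [Fintype F] (n q : ℕ) (hn : 2 ≤ n) (hF : Fintype.card F = q ^ 2) :
    q ^ (n - 1) ≤ Nat.card (ConjClasses (Cfsg.SU n F q)) ∧ 100 * Nat.card (ConjClasses (Cfsg.SU n F q)) ≤ 826 * q ^ (n - 1) := by
  classical
  obtain ⟨⟨e, he⟩, hp, -⟩ := FiniteField.card F (ringChar F)
  haveI : Fact (ringChar F).Prime := ⟨hp⟩
  haveI : CharP F (ringChar F) := ringChar.charP F
  obtain ⟨-, -, σ, -, -, -, -, hσ⟩ := Cfsg.Agent.Classical.exists_usigma hF
  letI : StarRing F := Cfsg.Agent.Small.Hermitian.starRingOfInvolution (σ : F →+* F) hσ.involutive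
  have hstar : ∀ x : F, star x = x ^ q := fun x => hσ.apply_eq x
  have hq2 : 2 ≤ q := by
    by_contra hlt
    have h1 : 1 < Fintype.card F := Fintype.one_lt_card
    rw [hF] at h1
    have h2 : q ^ 2 ≤ 1 ^ 2 := Nat.pow_le_pow_left (by omega) 2
    omega
  obtain ⟨m, rfl⟩ : ∃ m, n = m + 1 := ⟨n - 1, by omega⟩
  refine ⟨?_, ?_⟩
  · rw [Nat.add_sub_cancel, ← Cfsg.Agent.Small.UnitarySemisimpleCount.card_classes hstar hF (ringChar F) m]
    exact Finite.card_subtype_le _
  · refine Nat.le_of_mul_le_mul_left ?_ (Nat.succ_pos q)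
    calc (q + 1) * (100 * Nat.card (ConjClasses ↥(Cfsg.SU (m + 1) F q)))
        = 100 * ((q + 1) * Nat.card (ConjClasses ↥(Cfsg.SU (m + 1) F q))) := by ring
      _ ≤ 100 * (∑ d ∈ Cfsg.Agent.Small.ClassNumberU.shapes (m + 1) (m + 1),
            (∏ k, Cfsg.Agent.Small.ClassNumberU.wgt q (d k)) * Cfsg.Agent.Small.ClassNumberU.hsh q d ^ 2) :=
          Nat.mul_le_mul_left _ (Cfsg.Agent.Small.ClassNumberU.card_su_le hstar hF)
      _ ≤ 826 * (q + 1) * q ^ (m + 1 - 1) := Cfsg.Agent.Small.ClassNumberU.weighted_bound hq2 hn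
      _ = (q + 1) * (826 * q ^ (m + 1 - 1)) := by ring

end Cfsg.Agent.S2481
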