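import Cfsg.Statements.S2482
import Cfsg.Agent.Lib.Small.ClassNumberSp.Arith
import Cfsg.Agent.Lib.Small.SymplecticClasses

set_option autoImplicit false
open Cfsg

namespace Cfsg.Agent.S2482

/-- The number of conjugacy classes of Sp(2n,q), q odd: for F a finite field of odd order q and n ≥ 1, the number k of conjugacy classes of Sp(2n,F) satisfies q^n ≤ k ≤ 10.8·q^n. -/
theorem result {F : Type*} [Field F] [Fintype F] (hodd : Odd (Fintype.card F)) (n : ℕ) (hn : 1 ≤ n) :
    Fintype.card F ^ n ≤ Nat.card (ConjClasses (Matrix.symplecticGroup (Fin n) F)) ∧ 5 * Nat.card (ConjClasses (Matrix.symplecticGroup (Fin n) F)) ≤ 54 * Fintype.card F ^ n := by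
  classical
  obtain ⟨⟨e, he⟩, hp, hcard⟩ := FiniteField.card F (ringChar F)
  haveI : Fact (ringChar F).Prime := ⟨hp⟩
  haveI : CharP F (ringChar F) := ringChar.charP F
  have hq : 3 ≤ Fintype.card F := by
    have h1 : 1 < Fintype.card F := Fintype.one_lt_card
    obtain ⟨k, hk⟩ := hodd
    omega
  refine ⟨?_, ?_⟩
  · rw [← Cfsg.Agent.Small.SymplecticClasses.card_classes (F := F) (p := ringChar F) (m := n)]
    exact Finite.card_subtype_le _
  · exact le_trans (Nat.mul_le_mul_left 5 (Cfsg.Agent.Small.ClassNumberSp.card_classes_le hodd n))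
      (Cfsg.Agent.Small.ClassNumberSp.spSum_le hq n hn)

end Cfsg.Agent.S2482
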