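import Cfsg.Statements.S2486
import Cfsg.Agent.Lib.Solv.UniTwo

set_option autoImplicit false
open scoped Pointwise
open Cfsg

namespace Cfsg.Agent.S2486


/-- Let n ≥ 4 and let G be a finite group with a normal subgroup N of index 2 isomorphic to SL(n,2) and with trivial centralizer in G (so G is the extension of the simple group L_n(2) by its inverse-transpose automorphism, its full automorphism group). Then any two Sylow 2-subgroups of G have a non-trivial intersection: for a Sylow 2-subgroup H and every x ∈ G, H ∩ H^x ≠ 1. -/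
theorem result {G : Type*} [Group G] [Finite G] {n : ℕ} (hn : 4 ≤ n) (N : Subgroup G) [N.Normal]
    (e : N ≃* Matrix.SpecialLinearGroup (Fin n) (ZMod 2)) (hidx : N.index = 2)
    (hC : Subgroup.centralizer (N : Set G) = ⊥)
    (H : Sylow 2 G) (x : G) :
    (H : Subgroup G) ⊓ MulAut.conj x • (H : Subgroup G) ≠ ⊥ := by
  classical
  haveI : Fact (Nat.Prime 2) := ⟨Nat.prime_two⟩
  -- an identification with GL and the triangular group
  have hgl : Function.Bijective (Matrix.SpecialLinearGroup.toGL :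
      Matrix.SpecialLinearGroup (Fin n) (ZMod 2) →* GL (Fin n) (ZMod 2)) := by
    refine ⟨Matrix.SpecialLinearGroup.toGL_injective, fun g => ⟨⟨g, ?_⟩, Units.ext rfl⟩⟩
    exact Solv.UniTwo.eq_one_of_ne_zero _ ((Matrix.isUnit_iff_isUnit_det _).1 g.isUnit).ne_zero
  let e₁ : ↥N ≃* Solv.UniTwo.GLn n := e.trans (MulEquiv.ofBijective _ hgl)
  let S : Subgroup G := (H : Subgroup G) ⊓ N
  let P : Subgroup ↥N := (Solv.UniTwo.U n).comap e₁.toMonoidHom
  have hPp : IsPGroup 2 ↥P := Solv.UniTwo.isPGroup.comap_of_injective e₁.toMonoidHom e₁.injective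
  have hPmax : ∀ Q : Subgroup ↥N, IsPGroup 2 ↥Q → P ≤ Q → Q = P := by
    intro Q hQ hle
    by_contra hne
    have hlt : P < Q := lt_of_le_of_ne hle (Ne.symm hne)
    haveI : Group.IsNilpotent ↥Q := hQ.isNilpotent
    have h2 : (P.subgroupOf Q) < Subgroup.normalizer ((P.subgroupOf Q : Subgroup ↥Q) : Set ↥Q) :=
      Group.normalizerCondition_of_isNilpotent (P.subgroupOf Q) (lt_top_iff_ne_top.2 fun h =>
        hlt.not_ge (Subgroup.subgroupOf_eq_top.1 h))
    obtain ⟨q, hq, hqn⟩ := SetLike.exists_of_lt h2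
    refine hqn (Subgroup.mem_subgroupOf.2 ?_)
    show e₁ (q : ↥N) ∈ Solv.UniTwo.U n
    refine Solv.UniTwo.self_normalizing fun u hu => ?_
    have h3 : (⟨e₁.symm u, hle (show e₁ (e₁.symm u) ∈ Solv.UniTwo.U n by rwa [e₁.apply_symm_apply])⟩ : ↥Q) ∈
        P.subgroupOf Q := by
      show e₁ (e₁.symm u) ∈ Solv.UniTwo.U n
      rwa [e₁.apply_symm_apply]
    have h4 : e₁ ((q⁻¹ * ⟨e₁.symm u, hle (show e₁ (e₁.symm u) ∈ Solv.UniTwo.U n by
        rwa [e₁.apply_symm_apply])⟩ * q : ↥Q) : ↥N) ∈ Solv.UniTwo.U n :=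
      (Subgroup.mem_normalizer_iff''.1 hq _).1 h3
    simpa using h4
  obtain ⟨f, hf⟩ : ∃ f : ↥N ≃* Solv.UniTwo.GLn n, ∀ m : ↥N, f m ∈ Solv.UniTwo.U n ↔ (m : G) ∈ (H : Subgroup G) := by
    obtain ⟨Q, hQ⟩ := (hPp.map N.subtype).exists_le_sylow
    obtain ⟨y, hy⟩ := MulAction.exists_smul_eq G H Q
    refine ⟨(MulAut.conjNormal y : MulAut ↥N).trans e₁, fun m => ?_⟩
    have hQN : (Q : Subgroup G).subgroupOf N = P :=
      hPmax _ (Q.isPGroup'.comap_of_injective N.subtype N.subtype_injective)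
        (Subgroup.map_le_iff_le_comap.1 hQ)
    show (MulAut.conjNormal y m : ↥N) ∈ P ↔ _
    rw [← hQN, Subgroup.mem_subgroupOf, MulAut.conjNormal_apply, ← hy]
    show MulAut.conj y (m : G) ∈ MulAut.conj y • (H : Subgroup G) ↔ _
    exact Subgroup.smul_mem_pointwise_smul_iff
  have hSf : ∀ m : ↥N, f m ∈ Solv.UniTwo.U n ↔ (m : G) ∈ S :=
    fun m => (hf m).trans ⟨fun h => ⟨h, m.2⟩, fun h => h.1⟩
  -- every element is a product of an element of N and one of H
  have hHN : ¬ (H : Subgroup G) ≤ N := fun h => by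
    have h1 := Subgroup.index_dvd_of_le h
    rw [hidx] at h1
    exact H.not_dvd_index h1
  obtain ⟨h₀, hh₀, hh₀N⟩ := SetLike.not_le_iff_exists.1 hHN
  have hdec : ∀ y : G, ∃ m : ↥N, ∃ h ∈ (H : Subgroup G), y = m * h := by
    intro y
    by_cases hy : y ∈ N
    · exact ⟨⟨y, hy⟩, 1, one_mem _, by simp⟩
    · refine ⟨⟨y * h₀⁻¹, ?_⟩, h₀, hh₀, by simp⟩
      rw [Subgroup.mul_mem_iff_of_index_two hidx, inv_mem_iff]
      tauto
  have hnormS : ∀ h ∈ (H : Subgroup G), MulAut.conj h • S = S := by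
    intro h hh
    ext w
    rw [Subgroup.mem_pointwise_smul_iff_inv_smul_mem, ← map_inv, MulAut.smul_def, MulAut.conj_apply, inv_inv]
    show (h⁻¹ * w * h ∈ (H : Subgroup G) ∧ h⁻¹ * w * h ∈ N) ↔ w ∈ (H : Subgroup G) ∧ w ∈ N
    refine and_congr ?_ ?_
    · rw [Subgroup.mul_mem_cancel_right _ hh, Subgroup.mul_mem_cancel_left _ ((H : Subgroup G).inv_mem hh)]
    · rw [mul_assoc, Subgroup.Normal.mem_comm_iff inferInstance, mul_assoc, mul_inv_cancel, mul_one]
  have hself : ∀ y : G, MulAut.conj y • S = S → y ∈ (H : Subgroup G) := by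
    intro y hy
    obtain ⟨m, h, hh, rfl⟩ := hdec y
    rw [map_mul, mul_smul, hnormS h hh] at hy
    refine mul_mem ((hSf m).2 ?_ |> fun hu => (hf m).1 hu) hh
    refine (hSf m).1 (Solv.UniTwo.self_normalizing fun u hu => ?_)
    obtain ⟨w, rfl⟩ := f.surjective u
    have h1 : (w : G) ∈ MulAut.conj (m : G) • S := by rw [hy]; exact (hSf w).1 hu
    rw [Subgroup.mem_pointwise_smul_iff_inv_smul_mem, ← map_inv, MulAut.smul_def, MulAut.conj_apply, inv_inv] at h1
    rw [← map_inv, ← map_mul, ← map_mul]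
    exact (hSf _).2 h1
  haveI : Fintype G := Fintype.ofFinite G
  intro hbot
  set K : Subgroup G := MulAut.conj x • S with hK
  -- the conjugates of K under H
  let Y : Finset (Subgroup G) := Finset.univ.image fun u : ↥(Solv.UniTwo.U n) =>
    MulAut.conj ((f.symm ((u : Solv.UniTwo.GLn n) * Solv.UniTwo.W n) : ↥N) : G) • S
  have hmem : ∀ h ∈ (H : Subgroup G), MulAut.conj h • K ∈ Y := by
    intro h hh
    obtain ⟨m, h', hh', hd⟩ := hdec (h * x)
    have hKm : MulAut.conj h • K = MulAut.conj (m : G) • S := by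
      rw [hK, ← mul_smul, ← map_mul, hd, map_mul, mul_smul, hnormS h' hh']
    obtain ⟨u, hu, v, hv, huv⟩ := Solv.UniTwo.big_cell (g := f m) fun t ht htc => by
      obtain ⟨w, rfl⟩ := f.surjective t
      have hw1 : (w : G) ∈ MulAut.conj (m : G) • S := by
        rw [Subgroup.mem_pointwise_smul_iff_inv_smul_mem, ← map_inv, MulAut.smul_def, MulAut.conj_apply, inv_inv]
        exact (hSf (m⁻¹ * w * m)).1 (by simpa using htc)
      rw [← hKm, Subgroup.mem_pointwise_smul_iff_inv_smul_mem, ← map_inv, MulAut.smul_def, MulAut.conj_apply,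
        inv_inv] at hw1
      have hw2 : h⁻¹ * (w : G) * h ∈ (H : Subgroup G) ⊓ MulAut.conj x • (H : Subgroup G) := by
        refine ⟨(H : Subgroup G).mul_mem ((H : Subgroup G).mul_mem ((H : Subgroup G).inv_mem hh) ((hf w).1 ht)) hh, ?_⟩
        exact Subgroup.pointwise_smul_le_pointwise_smul_iff.2 (inf_le_left : S ≤ (H : Subgroup G)) hw1
      rw [hbot, Subgroup.mem_bot] at hw2
      have hw3 : w = 1 := Subtype.ext (by
        calc (w : G) = h * (h⁻¹ * (w : G) * h) * h⁻¹ := by group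
          _ = 1 := by rw [hw2]; group)
      rw [hw3, map_one]
    refine Finset.mem_image.2 ⟨⟨u, hu⟩, Finset.mem_univ _, ?_⟩
    rw [hKm]
    have hmv : (m : G) = ((f.symm (u * Solv.UniTwo.W n) : ↥N) : G) * ((f.symm v : ↥N) : G) := by
      rw [← Subgroup.coe_mul, ← map_mul, ← huv, f.symm_apply_apply]
    rw [hmv, map_mul (MulAut.conj : G →* MulAut G), mul_smul,
      hnormS ((f.symm v : ↥N) : G) ((hf _).1 (by rwa [f.apply_symm_apply]))]
  -- counting
  have hcard : Nat.card ↥(Solv.UniTwo.U n) < Nat.card ↥(H : Subgroup G) := by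
    let ι : ↥(Solv.UniTwo.U n) → ↥(H : Subgroup G) := fun u =>
      ⟨(f.symm (u : Solv.UniTwo.GLn n) : G), (hf _).1 (by rw [f.apply_symm_apply]; exact u.2)⟩
    rw [Nat.card_eq_fintype_card, Nat.card_eq_fintype_card]
    refine Fintype.card_lt_of_injective_of_notMem ι ?_ (b := ⟨h₀, hh₀⟩) ?_
    · intro a b hab
      exact Subtype.ext (f.symm.injective (Subtype.ext (congrArg Subtype.val hab :)))
    · rintro ⟨u, hu⟩
      have e' : (f.symm (u : Solv.UniTwo.GLn n) : G) = h₀ := congrArg Subtype.val hu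
      exact hh₀N (e' ▸ (f.symm (u : Solv.UniTwo.GLn n)).2)
  obtain ⟨a, ha, b, hb, hab, heq⟩ := Finset.exists_ne_map_eq_of_card_lt_of_maps_to
    (s := Finset.univ.filter (· ∈ (H : Subgroup G))) (t := Y) (f := fun h => MulAut.conj h • K)
    (by
      refine lt_of_le_of_lt Finset.card_image_le ?_
      rw [Finset.card_univ, ← Nat.card_eq_fintype_card, ← Fintype.card_subtype, ← Nat.card_eq_fintype_card]
      exact hcard)
    (fun h hh => hmem h (Finset.mem_filter.1 hh).2)
  simp only [Finset.mem_filter, Finset.mem_univ, true_and] at ha hb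
  have hs : x⁻¹ * (b⁻¹ * a) * x ∈ (H : Subgroup G) := by
    refine hself _ ?_
    rw [map_mul, map_mul, mul_smul, mul_smul, ← hK, map_mul, mul_smul]
    show MulAut.conj x⁻¹ • (MulAut.conj b⁻¹ • (MulAut.conj a • K)) = S
    rw [show MulAut.conj a • K = MulAut.conj b • K from heq, map_inv, map_inv, inv_smul_smul, hK, inv_smul_smul]
  have hs2 : b⁻¹ * a ∈ (H : Subgroup G) ⊓ MulAut.conj x • (H : Subgroup G) := by
    refine ⟨(H : Subgroup G).mul_mem ((H : Subgroup G).inv_mem hb) ha, ?_⟩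
    have h4 := Subgroup.smul_mem_pointwise_smul _ (MulAut.conj x) _ hs
    rw [MulAut.smul_def, MulAut.conj_apply, show x * (x⁻¹ * (b⁻¹ * a) * x) * x⁻¹ = b⁻¹ * a by group] at h4
    exact h4
  rw [hbot, Subgroup.mem_bot] at hs2
  exact hab (inv_mul_eq_one.1 hs2).symm

end Cfsg.Agent.S2486
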