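import Cfsg.Statements.S2487
import Cfsg.Agent.Lib.Small.OrthFlagMeet
import Cfsg.Agent.Lib.Classical.OrthMatrix
import Cfsg.Agent.Lib.Classical.OrthForms

set_option autoImplicit false
open scoped Pointwise
open Cfsg

namespace Cfsg.Agent.S2487

open Cfsg.Agent.Small.OrthFlagMeet Cfsg.Agent.Classical
open Cfsg.Agent.Classical.OCount (PND)

theorem meet {F : Type*} [Field F] [Finite F] (h01 : ∀ a : F, a = 0 ∨ a = 1) {ι : Type} [Fintype ι] [DecidableEq ι]
    {Q : QuadraticForm F (ι → F)} (hQ : PND Q) {m : ℕ} (hdim : Module.finrank F (ι → F) = 2 * (m + 1))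
    {L : Submodule F (ι → F)} (hL : ∀ w ∈ L, Q w = 0) (hLd : Module.finrank F L = m + 1)
    (H : Sylow 2 ↥(Cfsg.isometryGroup F ⇑Q)) (x : ↥(Cfsg.isometryGroup F ⇑Q)) :
    (H : Subgroup ↥(Cfsg.isometryGroup F ⇑Q)) ⊓ MulAut.conj x • (H : Subgroup _) ≠ ⊥ := by
  classical
  let e := ORefl.toMat Q
  -- the Sylow subgroup as a group of linear maps
  let P : Subgroup ((ι → F) ≃ₗ[F] (ι → F)) :=
    ((H : Subgroup ↥(Cfsg.isometryGroup F ⇑Q)).comap e.toMonoidHom).map (ORefl.Iso Q).subtype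
  have hPQ : P ≤ ORefl.Iso Q := by rintro _ ⟨g, -, rfl⟩; exact g.2
  have hP : IsPGroup 2 P :=
    (H.isPGroup'.comap_of_injective e.toMonoidHom e.injective).map _
  obtain ⟨A, hA, hPA⟩ := exists_flag hQ h01 hdim hPQ hP
  let S : Subgroup ↥(Cfsg.isometryGroup F ⇑Q) :=
    ((flagStab Q m A).subgroupOf (ORefl.Iso Q)).map e.toMonoidHom
  have hS : IsPGroup 2 S :=
    ((flagStab_isPGroup hQ h01 hdim hL hLd hA).comap_of_injective (ORefl.Iso Q).subtype
      (Subgroup.subtype_injective _)).map _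
  have hHS : (H : Subgroup ↥(Cfsg.isometryGroup F ⇑Q)) ≤ S := fun g hg =>
    ⟨e.symm g, hPA ⟨e.symm g, (show e (e.symm g) ∈ H by rw [e.apply_symm_apply]; exact hg), rfl⟩,
      e.apply_symm_apply g⟩
  have hSH : S = H := H.is_maximal' hS hHS
  -- the conjugate flag
  let y : (ι → F) ≃ₗ[F] (ι → F) := (e.symm x).1
  let B : ℕ → Submodule F (ι → F) := fun j => (A j).map (y : (ι → F) →ₗ[F] (ι → F))
  have hy : ∀ v, Q (y v) = Q v := (e.symm x).2
  have hB : IsFlag Q ⊤ m B := ⟨fun _ _ => le_top,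
    fun j hj v hv => by obtain ⟨w, hw, rfl⟩ := hv; exact (hy w).trans (hA.sing j hj w hw),
    fun j hj => Submodule.map_mono (hA.mono j hj),
    fun j hj => (LinearEquiv.finrank_map_eq y (A j)).trans (hA.dim j hj)⟩
  obtain ⟨g, hg1, hgA, hgB, -⟩ := exists_common hQ h01 m ⊤
    (fun w _ h => hQ w fun v => h v Submodule.mem_top) (by rw [finrank_top, hdim]) A B hA hB
  intro hbot
  have hgI : g ∈ ORefl.Iso Q := hgA.1
  have hmem : e ⟨g, hgI⟩ ∈ (H : Subgroup ↥(Cfsg.isometryGroup F ⇑Q)) ⊓ MulAut.conj x • (H : Subgroup _) := by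
    refine ⟨hSH ▸ ⟨⟨g, hgI⟩, hgA, rfl⟩, ?_⟩
    show e ⟨g, hgI⟩ ∈ MulAut.conj x • (H : Subgroup ↥(Cfsg.isometryGroup F ⇑Q))
    rw [Subgroup.mem_pointwise_smul_iff_inv_smul_mem]
    show (MulAut.conj x)⁻¹ (e ⟨g, hgI⟩) ∈ (H : Subgroup ↥(Cfsg.isometryGroup F ⇑Q))
    rw [MulAut.conj_inv_apply, ← hSH]
    refine ⟨(e.symm x)⁻¹ * ⟨g, hgI⟩ * e.symm x, ?_, by simp [MulEquiv.coe_toMonoidHom]⟩
    show y⁻¹ * g * y ∈ flagStab Q m A
    refine mem_flagStab (mul_mem (mul_mem (inv_mem (e.symm x).2) hgI) (e.symm x).2) fun j hj v hv => ?_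
    have := apply_mem hgB hj (Submodule.mem_map_of_mem (f := (y : (ι → F) →ₗ[F] (ι → F))) hv)
    obtain ⟨w, hw, hwe⟩ := this
    show y.symm (g (y v)) ∈ A j
    rw [show g (y v) = y w from hwe.symm, y.symm_apply_apply]
    exact hw
  rw [hbot, Subgroup.mem_bot, map_eq_one_iff e e.injective] at hmem
  exact hg1 (congrArg Subtype.val hmem)

/-- Let m ≥ 4 and let G be the full isometry group of the hyperbolic quadratic form x₁y₁ + ⋯ + x_m y_m on the 2m-dimensional space over the field with 2 elements (the orthogonal group O⁺(2m,2), which contains Ω⁺(2m,2) with index 2). Then any two Sylow 2-subgroups of G have a non-trivial intersection: for a Sylow 2-subgroup H and every x ∈ G, H ∩ H^x ≠ 1. -/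
theorem result {F : Type*} [Field F] [Fintype F] (hF : Fintype.card F = 2) {m : ℕ} (hm : 4 ≤ m)
    (H : Sylow 2 (Cfsg.isometryGroup F (Cfsg.quadFormPlus m F)))
    (x : Cfsg.isometryGroup F (Cfsg.quadFormPlus m F)) :
    (H : Subgroup (Cfsg.isometryGroup F (Cfsg.quadFormPlus m F))) ⊓ MulAut.conj x • (H : Subgroup _) ≠ ⊥ := by
  classical
  have h01 : ∀ a : F, a = 0 ∨ a = 1 := by
    intro a
    by_contra h
    push Not at h
    have h3 : ({0, 1, a} : Finset F).card = 3 := by simp [h.1.symm, h.2.symm]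
    have := Finset.card_le_univ ({0, 1, a} : Finset F)
    omega
  obtain ⟨k, rfl⟩ : ∃ k, m = k + 1 := ⟨m - 1, by omega⟩
  revert H x
  rw [← OOmega.coe_plus (F := F) (k + 1)]
  intro H x
  let f : (Fin (k + 1) → F) →ₗ[F] (Fin (k + 1) ⊕ Fin (k + 1) → F) :=
    { toFun := fun v => Sum.elim v 0
      map_add' := fun v w => by ext (i | i) <;> simp
      map_smul' := fun c v => by ext (i | i) <;> simp }
  refine meet h01 (OOmega.formOf_pnd OOmega.pnd_empty) (m := k) (L := LinearMap.range f) ?_ ?_ ?_ H x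
  · rw [Module.finrank_fintype_fun_eq_card]; simp; omega
  · rintro _ ⟨v, rfl⟩
    rw [OOmega.coe_plus]
    simp [Cfsg.quadFormPlus, f]
  · rw [LinearMap.finrank_range_of_inj (fun v w h => funext fun i => congrFun h (Sum.inl i)),
      Module.finrank_fintype_fun_eq_card, Fintype.card_fin]

end Cfsg.Agent.S2487
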