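import Cfsg.Statements.S2488
-- import your own Cfsg.Agent.* helpers here

set_option autoImplicit false
open scoped Pointwise
open Cfsg

namespace Cfsg.Agent.S2488

abbrev A6 := ↥(alternatingGroup (Fin 6))

/-- The representative involution. -/
def z0 : A6 := ⟨Equiv.swap 0 1 * Equiv.swap 2 3, Equiv.Perm.mem_alternatingGroup.2 (by decide +kernel)⟩

/-- Three bits recording the order of a product. -/
def sig {M : Type*} [Monoid M] [DecidableEq M] (a : M) : Bool × Bool × Bool :=
  (decide (a ^ 2 = 1), decide (a ^ 3 = 1), decide (a ^ 5 = 1))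

set_option maxRecDepth 100000 in
theorem facts :
    (Finset.univ.filter fun v : A6 => v * v = 1 ∧ v ≠ 1).card = 45 ∧
    ∀ b : Bool × Bool × Bool, (Finset.univ.filter fun v : A6 => v * v = 1 ∧ v ≠ 1 ∧ sig (z0 * v) = b).card ≤ 16 := by
  decide +kernel

theorem conj_z0 {g : A6} (hg : g * g = 1) (hne : g ≠ 1) : ∃ c : A6, c * z0 * c⁻¹ = g := by
  have ho : orderOf (g : Equiv.Perm (Fin 6)) = 2 := by
    refine orderOf_eq_prime ?_ fun e => hne (Subtype.ext e)
    rw [pow_two]
    exact congrArg Subtype.val hg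
  obtain ⟨n, hn⟩ := Equiv.Perm.cycleType_prime_order (by rw [ho]; exact Nat.prime_two)
  rw [ho] at hn
  have hs := Equiv.Perm.sum_cycleType_le (g : Equiv.Perm (Fin 6))
  rw [hn, Multiset.sum_replicate, Fintype.card_fin, smul_eq_mul] at hs
  have hsign : Equiv.Perm.sign (g : Equiv.Perm (Fin 6)) = 1 := g.2
  rw [Equiv.Perm.sign_of_cycleType, hn, Multiset.sum_replicate, Multiset.card_replicate, smul_eq_mul] at hsign
  obtain rfl : n = 1 := by
    have h3 : n ≤ 2 := by omega
    interval_cases n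
    · exact absurd hsign (by decide)
    · rfl
    · exact absurd hsign (by decide)
  have hz : Equiv.Perm.cycleType (z0 : Equiv.Perm (Fin 6)) = {2, 2} := by decide +kernel
  obtain ⟨π, hπ⟩ := isConj_iff.1 (Equiv.Perm.isConj_iff_cycleType_eq.2
    (hz.trans (hn.trans rfl).symm))
  rcases Int.units_eq_one_or (Equiv.Perm.sign π) with h | h
  · exact ⟨⟨π, h⟩, Subtype.ext hπ⟩
  · refine ⟨⟨π * Equiv.swap 0 1, ?_⟩, Subtype.ext ?_⟩
    · rw [Equiv.Perm.mem_alternatingGroup, map_mul, h, Equiv.Perm.sign_swap (by decide)]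
      decide
    · rw [← hπ]
      show π * Equiv.swap 0 1 * (z0 : Equiv.Perm (Fin 6)) * (π * Equiv.swap 0 1)⁻¹ =
        π * (z0 : Equiv.Perm (Fin 6)) * π⁻¹
      have hc : Equiv.swap (0 : Fin 6) 1 * (z0 : Equiv.Perm (Fin 6)) =
          (z0 : Equiv.Perm (Fin 6)) * Equiv.swap 0 1 := by decide +kernel
      rw [mul_assoc π, hc, mul_inv_rev]
      group

theorem sig_map {M M' : Type*} [Monoid M] [DecidableEq M] [Monoid M'] [DecidableEq M'] (f : M ≃* M') (a : M) :
    sig (f a) = sig a := by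
  simp [sig, ← map_pow]

theorem sig_hom {M M' : Type*} [Monoid M] [DecidableEq M] [Monoid M'] [DecidableEq M'] (f : M →* M')
    (hf : Function.Injective f) (a : M) : sig (f a) = sig a := by
  simp [sig, ← map_pow, hf.eq_iff' f.map_one]


/-- Let G be a finite group with a normal subgroup N of index 4 isomorphic to the alternating group of degree 6 and with trivial centralizer in G (so G is the full automorphism group of A₆). Then any two Sylow 2-subgroups of G have a non-trivial intersection: for a Sylow 2-subgroup H and every x ∈ G, H ∩ H^x ≠ 1. -/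
theorem result {G : Type*} [Group G] [Finite G] (N : Subgroup G) [N.Normal]
    (e : N ≃* alternatingGroup (Fin 6)) (hidx : N.index = 4)
    (hC : Subgroup.centralizer (N : Set G) = ⊥)
    (H : Sylow 2 G) (x : G) :
    (H : Subgroup G) ⊓ MulAut.conj x • (H : Subgroup G) ≠ ⊥ := by
  classical
  haveI : Fact (Nat.Prime 2) := ⟨Nat.prime_two⟩
  have hG : Nat.card G = 1440 := by
    rw [← Subgroup.card_mul_index N, hidx, Nat.card_congr e.toEquiv, nat_card_alternatingGroup, Nat.card_fin]
    rfl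
  have hH : Nat.card ↥(H : Subgroup G) = 32 := by
    rw [Sylow.card_eq_multiplicity, hG,
      show (1440 : ℕ) = 2 ^ 5 * 45 by norm_num, Nat.factorization_mul (by norm_num) (by norm_num), Finsupp.add_apply,
      Nat.Prime.factorization_pow Nat.prime_two, Nat.factorization_eq_zero_of_not_dvd (by norm_num : ¬ 2 ∣ 45),
      Finsupp.single_eq_same]
    norm_num
  haveI : Fintype G := Fintype.ofFinite G
  intro hbot
  -- the involutions of N
  let I : Finset G := Finset.univ.filter fun v => v ∈ N ∧ v * v = 1 ∧ v ≠ 1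
  have hI : ∀ (P : A6 → Prop) [DecidablePred P] (Q : G → Prop) [DecidablePred Q],
      (∀ v : ↥N, Q v ↔ P (e v)) →
      (I.filter Q).card = (Finset.univ.filter fun v : A6 => v * v = 1 ∧ v ≠ 1 ∧ P v).card := by
    intro P _ Q _ hPQ
    refine Finset.card_bij (fun v hv => e ⟨v, (Finset.mem_filter.1 (Finset.mem_filter.1 hv).1).2.1⟩)
      (fun v hv => ?_) (fun a _ b _ h => congrArg Subtype.val (e.injective h)) (fun b hb => ?_)
    · obtain ⟨hvI, hvQ⟩ := Finset.mem_filter.1 hv
      obtain ⟨-, hvN, hv2, hv1⟩ := Finset.mem_filter.1 hvI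
      refine Finset.mem_filter.2 ⟨Finset.mem_univ _, ?_, ?_, (hPQ ⟨v, hvN⟩).1 hvQ⟩
      · rw [← map_mul, show (⟨v, hvN⟩ : ↥N) * ⟨v, hvN⟩ = 1 from Subtype.ext hv2, map_one]
      · exact fun h => hv1 (congrArg Subtype.val (e.injective (h.trans (map_one e).symm)))
    · obtain ⟨-, hb2, hb1, hbP⟩ := Finset.mem_filter.1 hb
      have hc : (e.symm b : G) * (e.symm b : G) = 1 := by
        rw [← Subgroup.coe_mul, ← map_mul, hb2, map_one, Subgroup.coe_one]
      refine ⟨(e.symm b : G), Finset.mem_filter.2 ⟨Finset.mem_filter.2 ⟨Finset.mem_univ _, (e.symm b).2, hc, ?_⟩,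
        (hPQ _).2 (by rwa [e.apply_symm_apply])⟩, e.apply_symm_apply b⟩
      intro h
      apply hb1
      rw [← e.apply_symm_apply b, show e.symm b = 1 from Subtype.ext h, map_one]
  have hI45 : I.card = 45 := by
    have h := hI (fun _ => True) (fun _ => True) (fun _ => Iff.rfl)
    rw [Finset.filter_true] at h
    rw [h, ← facts.1]
    exact congrArg Finset.card (Finset.filter_congr fun v _ => by simp)
  have hsurj : ∀ u ∈ I, ∀ v ∈ I, ∃ g : G, g * u * g⁻¹ = v := by
    intro u hu v hv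
    obtain ⟨-, huN, hu2, hu1⟩ := Finset.mem_filter.1 hu
    obtain ⟨-, hvN, hv2, hv1⟩ := Finset.mem_filter.1 hv
    obtain ⟨cu, hcu⟩ := conj_z0 (g := e ⟨u, huN⟩)
      (by rw [← map_mul, show (⟨u, huN⟩ : ↥N) * ⟨u, huN⟩ = 1 from Subtype.ext hu2, map_one])
      (fun h => hu1 (congrArg Subtype.val (e.injective (h.trans (map_one e).symm))))
    obtain ⟨cv, hcv⟩ := conj_z0 (g := e ⟨v, hvN⟩)
      (by rw [← map_mul, show (⟨v, hvN⟩ : ↥N) * ⟨v, hvN⟩ = 1 from Subtype.ext hv2, map_one])
      (fun h => hv1 (congrArg Subtype.val (e.injective (h.trans (map_one e).symm))))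
    refine ⟨(e.symm (cv * cu⁻¹) : G), ?_⟩
    have h1 : e.symm (cv * cu⁻¹) * ⟨u, huN⟩ * (e.symm (cv * cu⁻¹))⁻¹ = ⟨v, hvN⟩ := by
      apply e.injective
      rw [map_mul, map_mul, map_inv, e.apply_symm_apply, ← hcv, ← hcu]
      group
    exact congrArg Subtype.val h1
  have hconjI : ∀ u ∈ I, ∀ g : G, g * u * g⁻¹ ∈ I := by
    intro u hu g
    obtain ⟨-, huN, hu2, hu1⟩ := Finset.mem_filter.1 hu
    refine Finset.mem_filter.2 ⟨Finset.mem_univ _, Subgroup.Normal.conj_mem inferInstance u huN g, ?_,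
      fun h => hu1 (conj_eq_one_iff.1 h)⟩
    rw [show g * u * g⁻¹ * (g * u * g⁻¹) = g * (u * u) * g⁻¹ by group, hu2]; group
  have hcard32 : ∀ u ∈ I, Nat.card ↥(Subgroup.centralizer {u}) = 32 := by
    intro u hu
    have h45 : (MulAction.orbit (ConjAct G) u).ncard = 45 := by
      rw [← hI45, ← Set.ncard_coe_finset]
      congr 1
      ext v
      constructor
      · rintro ⟨g, rfl⟩
        exact hconjI u hu (ConjAct.ofConjAct g)
      · intro hv
        obtain ⟨g, hg⟩ := hsurj u hu v hv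
        exact ⟨ConjAct.toConjAct g, by rw [← hg]; exact ConjAct.toConjAct_smul g u⟩
    rw [← MulAction.index_stabilizer] at h45
    have hst : Nat.card ↥(MulAction.stabilizer (ConjAct G) u) = Nat.card ↥(Subgroup.centralizer {u}) := by
      refine Nat.card_congr (ConjAct.ofConjAct.toEquiv.subtypeEquiv fun g => ?_)
      rw [MulAction.mem_stabilizer_iff, ConjAct.smul_def, Subgroup.mem_centralizer_singleton_iff,
        mul_inv_eq_iff_eq_mul]
      rfl
    have hm := Subgroup.card_mul_index (MulAction.stabilizer (ConjAct G) u)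
    rw [show Nat.card (ConjAct G) = 1440 from hG, hst, h45] at hm
    omega
  obtain ⟨z, hzI, hCz⟩ : ∃ z ∈ I, Subgroup.centralizer {z} = (H : Subgroup G) := by
    obtain ⟨u, hu⟩ : I.Nonempty := Finset.card_pos.1 (by rw [hI45]; norm_num)
    let P : Sylow 2 G := Sylow.ofCard (Subgroup.centralizer {u})
      (by rw [hcard32 u hu, ← hH, Sylow.card_eq_multiplicity])
    obtain ⟨g, hg⟩ := MulAction.exists_smul_eq G P H
    refine ⟨g * u * g⁻¹, hconjI u hu g, ?_⟩
    rw [← hg]
    ext h
    show h ∈ _ ↔ h ∈ MulAut.conj g • Subgroup.centralizer {u}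
    rw [Subgroup.mem_pointwise_smul_iff_inv_smul_mem, Subgroup.mem_centralizer_singleton_iff,
      Subgroup.mem_centralizer_singleton_iff, ← map_inv, MulAut.smul_def, MulAut.conj_apply, inv_inv]
    constructor
    · intro hh
      calc g⁻¹ * h * g * u = g⁻¹ * (h * (g * u * g⁻¹)) * g := by group
        _ = u * (g⁻¹ * h * g) := by rw [hh]; group
    · intro hh
      calc h * (g * u * g⁻¹) = g * (g⁻¹ * h * g * u) * g⁻¹ := by group
        _ = g * u * g⁻¹ * h := by rw [hh]; group
  have hzH : ∀ h ∈ (H : Subgroup G), h * z = z * h := fun h hh =>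
    Subgroup.mem_centralizer_singleton_iff.1 (hCz.symm ▸ hh)
  obtain ⟨-, hzN, hz2, hz1⟩ := Finset.mem_filter.1 hzI
  obtain ⟨cz, hcz⟩ := conj_z0 (g := e ⟨z, hzN⟩)
    (by rw [← map_mul, show (⟨z, hzN⟩ : ↥N) * ⟨z, hzN⟩ = 1 from Subtype.ext hz2, map_one])
    (fun h => hz1 (congrArg Subtype.val (e.injective (h.trans (map_one e).symm))))
  set t := x * z * x⁻¹ with ht
  have htI : t ∈ I := hconjI z hzI x
  -- the orbit of t under H
  let T : Finset G := I.filter fun v => sig (z * v) = sig (z * t)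
  have hT : T.card ≤ 16 := by
    let f : ↥N ≃* A6 := e.trans (MulAut.conj cz⁻¹)
    have hfz : f ⟨z, hzN⟩ = z0 := by
      show MulAut.conj cz⁻¹ (e ⟨z, hzN⟩) = z0
      rw [← hcz, MulAut.conj_apply]
      group
    have hsig : ∀ v : ↥N, sig (z * (v : G)) = sig (z0 * f v) := fun v => by
      rw [← hfz, ← map_mul, sig_map, ← sig_hom N.subtype N.subtype_injective]
      rfl
    have hbij : (I.filter fun v => sig (z * v) = sig (z * t)).card =
        (Finset.univ.filter fun v : A6 => v * v = 1 ∧ v ≠ 1 ∧ sig (z0 * v) = sig (z * t)).card := by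
      rw [hI (fun v => sig (z0 * MulAut.conj cz⁻¹ v) = sig (z * t)) _ fun v => by rw [hsig v]; rfl]
      refine Finset.card_equiv (MulAut.conj cz⁻¹).toEquiv fun v => ?_
      simp only [Finset.mem_filter, Finset.mem_univ, true_and]
      show _ ↔ MulAut.conj cz⁻¹ v * MulAut.conj cz⁻¹ v = 1 ∧ MulAut.conj cz⁻¹ v ≠ 1 ∧ _
      rw [← map_mul, EmbeddingLike.map_eq_one_iff, ne_eq, ne_eq, EmbeddingLike.map_eq_one_iff]
      rfl
    exact hbij ▸ facts.2 _
  have hmaps : Set.MapsTo (fun h : G => h * t * h⁻¹) (H : Set G) (T : Set G) := by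
    intro h hh
    obtain ⟨-, htN, ht2, ht1⟩ := Finset.mem_filter.1 htI
    refine Finset.mem_coe.2 (Finset.mem_filter.2 ⟨Finset.mem_filter.2 ⟨Finset.mem_univ _,
      Subgroup.Normal.conj_mem inferInstance t htN h, ?_, fun e' => ht1 (conj_eq_one_iff.1 e')⟩, ?_⟩)
    · rw [show h * t * h⁻¹ * (h * t * h⁻¹) = h * (t * t) * h⁻¹ by group, ht2]; group
    · have hc : z * (h * t * h⁻¹) = MulAut.conj h (z * t) := by
        rw [MulAut.conj_apply, ← mul_assoc h z t, hzH h hh]
        group
      show sig (z * (h * t * h⁻¹)) = _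
      rw [hc, sig_map]
  have hinj : Set.InjOn (fun h : G => h * t * h⁻¹) (H : Set G) := by
    intro a ha b hb hab
    have h2 : x⁻¹ * (b⁻¹ * a) * x ∈ Subgroup.centralizer {z} := by
      rw [Subgroup.mem_centralizer_singleton_iff, ← mul_inv_eq_iff_eq_mul]
      have h3 : b⁻¹ * (a * t * a⁻¹) * b = t := by
        have := congrArg (fun v => b⁻¹ * v * b) (show a * t * a⁻¹ = b * t * b⁻¹ from hab)
        refine this.trans ?_
        group
      calc x⁻¹ * (b⁻¹ * a) * x * z * (x⁻¹ * (b⁻¹ * a) * x)⁻¹ = x⁻¹ * (b⁻¹ * (a * t * a⁻¹) * b) * x := by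
            rw [ht]; group
        _ = z := by rw [h3, ht]; group
    rw [hCz] at h2
    have h3 : b⁻¹ * a ∈ (H : Subgroup G) ⊓ MulAut.conj x • (H : Subgroup G) := by
      refine ⟨(H : Subgroup G).mul_mem ((H : Subgroup G).inv_mem hb) ha, ?_⟩
      have h4 := Subgroup.smul_mem_pointwise_smul _ (MulAut.conj x) _ h2
      rw [MulAut.smul_def, MulAut.conj_apply,
        show x * (x⁻¹ * (b⁻¹ * a) * x) * x⁻¹ = b⁻¹ * a by group] at h4
      exact h4
    rw [hbot, Subgroup.mem_bot] at h3
    exact (inv_mul_eq_one.1 h3).symm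
  have h32 := Set.ncard_le_ncard_of_injOn _ hmaps hinj
  rw [← Nat.card_coe_set_eq, Set.ncard_coe_finset] at h32
  have : 32 ≤ 16 := hH ▸ (h32.trans hT)
  norm_num at this

end Cfsg.Agent.S2488
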