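import Cfsg.Statements.S2490
import Cfsg.Agent.Lib.Solv.Basic
import Cfsg.Agent.Lib.Char.Burnside
import Cfsg.Agent.Lib.Fusion.TransferPow

set_option autoImplicit false
open Cfsg

namespace Cfsg.Agent.S2490

open Subgroup
open scoped Pointwise

variable {G : Type*} [Group G] [Finite G]

theorem two_eq : ∀ a b : Multiplicative (ZMod 2), (a = 1 ↔ b = 1) → a = b := by decide

theorem index_two_hom {K : Type*} [Group K] (D : Subgroup K) (h : D.index = 2) :
    ∃ χ : K →* Multiplicative (ZMod 2), ∀ k, χ k = 1 ↔ k ∈ D := by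
  classical
  refine ⟨MonoidHom.mk' (fun k => if k ∈ D then 1 else Multiplicative.ofAdd 1) fun a b => ?_, fun k => ?_⟩
  · have hm := Subgroup.mul_mem_iff_of_index_two h (a := a) (b := b)
    by_cases ha : a ∈ D <;> by_cases hb : b ∈ D <;> simp [ha, hb, hm] <;> rfl
  · show (if k ∈ D then (1 : Multiplicative (ZMod 2)) else Multiplicative.ofAdd 1) = 1 ↔ k ∈ D
    by_cases hk : k ∈ D <;> simp [hk]

/-- An edge of the prime graph. -/
def E (G : Type*) [Group G] (a b : ℕ) : Prop := ∃ g : G, orderOf g = a * b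

theorem edge_of_commute {a b : ℕ} (ha : a.Prime) (hb : b.Prime) (hab : a ≠ b) {x y : G} (hx : orderOf x = a)
    (hy : orderOf y = b) (h : x * y = y * x) : E G a b ∧ E G b a := by
  have h1 : orderOf (x * y) = a * b := by
    rw [Commute.orderOf_mul_eq_mul_orderOf_of_coprime h (by rw [hx, hy]; exact (Nat.coprime_primes ha hb).2 hab), hx, hy]
  exact ⟨⟨_, h1⟩, ⟨x * y, by rw [h1, mul_comm]⟩⟩

/-- An element of prime order normalising a small subgroup centralises it. -/
theorem centralizes_of_fix (N : Subgroup G) (x : G) (p : ℕ) [Fact p.Prime] (hx : orderOf x = p)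
    (hN : x ∈ normalizer (N : Set G))
    (hnum : ∀ f ∈ (Nat.card ↥N).divisors, Nat.card ↥N % p = f % p → f = Nat.card ↥N) :
    ∀ n ∈ N, x * n = n * x := by
  let Z := zpowers (⟨x, hN⟩ : ↥(normalizer (N : Set G)))
  letI : MulAction ↥Z ↥N := MulAction.compHom ↥N (N.normalizerMonoidHom.comp Z.subtype)
  have hZ : IsPGroup p ↥Z := IsPGroup.of_card (n := 1) (by rw [Nat.card_zpowers, Subgroup.orderOf_mk, hx, pow_one])
  have hval : ∀ n : ↥N, (((⟨⟨x, hN⟩, mem_zpowers _⟩ : ↥Z) • n : ↥N) : G) = x * n * x⁻¹ := fun n => rfl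
  have h := hZ.card_modEq_card_fixedPoints ↥N
  have he : MulAction.fixedPoints ↥Z ↥N = ((centralizer {x}).subgroupOf N : Set ↥N) := by
    ext n
    constructor
    · intro hn
      have h1 := congrArg Subtype.val (hn ⟨⟨x, hN⟩, mem_zpowers _⟩)
      rw [hval] at h1
      show (n : G) ∈ centralizer {x}
      exact mem_centralizer_singleton_iff.2 (mul_inv_eq_iff_eq_mul.1 h1).symm
    · intro (hn : (n : G) ∈ centralizer {x})
      rintro ⟨z, k, rfl⟩
      have h1 : (⟨⟨x, hN⟩, mem_zpowers _⟩ : ↥Z) ∈ MulAction.stabilizer ↥Z n :=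
        Subtype.ext ((hval n).trans (mul_inv_eq_iff_eq_mul.2 (mem_centralizer_singleton_iff.1 hn).symm))
      exact (Subgroup.zpow_mem _ h1 k : (⟨⟨x, hN⟩, mem_zpowers _⟩ : ↥Z) ^ k ∈ MulAction.stabilizer ↥Z n)
  rw [he] at h
  have hall := hnum _ (Nat.mem_divisors.2 ⟨card_subgroup_dvd_card ((centralizer {x}).subgroupOf N),
    Nat.card_pos.ne'⟩) h
  intro n hn
  have htop := Subgroup.eq_top_of_card_eq _ hall
  exact (mem_centralizer_singleton_iff.1 ((Subgroup.eq_top_iff' _).1 htop ⟨n, hn⟩)).symm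

/-- The possible numbers of Sylow 11-subgroups. -/
theorem n_cases : ∀ d ∈ Nat.divisors 720, d % 11 = 1 → d = 1 ∨ d = 12 ∨ d = 45 ∨ d = 144 := by decide +kernel

theorem q_list : ∀ d ∈ Nat.divisors 720, d ≠ 1 →
    ((d ∣ 16 ∨ d ∣ 9 ∨ d ∣ 5) → d = 2 ∨ d = 4 ∨ d = 8 ∨ d = 16 ∨ d = 3 ∨ d = 9 ∨ d = 5) := by decide +kernel

theorem eleven_fix : ∀ c ∈ ({2, 4, 8, 16, 3, 9, 5} : Finset ℕ), ∀ f ∈ c.divisors, c % 11 = f % 11 → f = c := by
  decide +kernel

theorem five_fix : ∀ c ∈ ({2, 4, 3} : Finset ℕ), ∀ f ∈ c.divisors, c % 5 = f % 5 → f = c := by decide +kernel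

theorem missing : ∀ n ∈ ({12, 45, 144} : Finset ℕ), ∀ c ∈ ({2, 4, 8, 16, 3, 9, 5} : Finset ℕ),
    ∀ r ∈ ({2, 3, 5} : Finset ℕ), Nat.Coprime r c → n * c * 11 ∣ 7920 → ¬ r ∣ n * c * 11 →
    r = 5 ∧ c ∈ ({2, 4, 3} : Finset ℕ) := by decide +kernel

theorem pow_list : ∀ q ∈ ({2, 3, 5} : Finset ℕ), ∀ j ∈ Finset.range 13, j ≠ 0 → q ^ j ∣ 7920 →
    q ^ j ∈ ({2, 4, 8, 16, 3, 9, 5} : Finset ℕ) := by decide +kernel

theorem prime_factor {r : ℕ} (hr : r.Prime) (h : r ∣ 7920) : r = 2 ∨ r = 3 ∨ r = 5 ∨ r = 11 := by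
  rw [show (7920 : ℕ) = 2 ^ 4 * 3 ^ 2 * 5 * 11 by norm_num] at h
  rcases hr.dvd_mul.1 h with h | h
  rcases hr.dvd_mul.1 h with h | h
  rcases hr.dvd_mul.1 h with h | h
  · exact Or.inl ((Nat.prime_dvd_prime_iff_eq hr Nat.prime_two).1 (hr.dvd_of_dvd_pow h))
  · exact Or.inr (Or.inl ((Nat.prime_dvd_prime_iff_eq hr Nat.prime_three).1 (hr.dvd_of_dvd_pow h)))
  · exact Or.inr (Or.inr (Or.inl ((Nat.prime_dvd_prime_iff_eq hr (by norm_num)).1 h)))
  · exact Or.inr (Or.inr (Or.inr ((Nat.prime_dvd_prime_iff_eq hr (by norm_num)).1 h)))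

/-- No vertex sees all the others, and no path through 11, 2, 3 and 5. -/
theorem no_hub {A : Set ℕ} (ha : ∃ a ∈ A, a.Prime ∧ a ∣ Nat.card G) (hb : ∃ b ∉ A, b.Prime ∧ b ∣ Nat.card G)
    (hord : Nat.card G = 7920)
    (hsep : ∀ a ∈ A, ∀ b ∉ A, a.Prime → b.Prime → a ∣ Nat.card G → b ∣ Nat.card G → ¬ E G a b)
    (h : ((2 ∈ A ↔ 3 ∈ A) ∧ (3 ∈ A ↔ 5 ∈ A) ∧ (5 ∈ A ↔ 11 ∈ A))) : False := by
  obtain ⟨a, haA, hap, had⟩ := ha
  obtain ⟨b, hbA, hbp, hbd⟩ := hb
  rw [hord] at had hbd
  rcases prime_factor hap had with rfl | rfl | rfl | rfl <;>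
    rcases prime_factor hbp hbd with rfl | rfl | rfl | rfl <;> tauto

theorem link {A : Set ℕ} (hord : Nat.card G = 7920)
    (hsep : ∀ a ∈ A, ∀ b ∉ A, a.Prime → b.Prime → a ∣ Nat.card G → b ∣ Nat.card G → ¬ E G a b) {a b : ℕ}
    (ha : a = 2 ∨ a = 3 ∨ a = 5 ∨ a = 11) (hb : b = 2 ∨ b = 3 ∨ b = 5 ∨ b = 11) (h : E G a b ∧ E G b a) :
    a ∈ A ↔ b ∈ A := by
  have hp : ∀ c, c = 2 ∨ c = 3 ∨ c = 5 ∨ c = 11 → c.Prime ∧ c ∣ Nat.card G := by
    rintro c (rfl | rfl | rfl | rfl) <;> rw [hord] <;> norm_num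
  constructor
  · intro haA
    by_contra hbA
    exact hsep a haA b hbA (hp a ha).1 (hp b hb).1 (hp a ha).2 (hp b hb).2 h.1
  · intro hbA
    by_contra haA
    exact hsep b hbA a haA (hp b hb).1 (hp a ha).1 (hp b hb).2 (hp a ha).2 h.2

/-- An involution commuting with an element of order 11 that fixes one point of 45 moves everything else,
if it is an even permutation. -/
theorem fixes_only {X : Type*} [Fintype X] [DecidableEq X] (hX : Fintype.card X = 45) (pt : X)
    (x t : Equiv.Perm X) (hx : orderOf x = 11) (hxfix : ∀ y, x y = y → y = pt) (ht : orderOf t = 2)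
    (hcomm : x * t = t * x) (htp : t pt = pt) (hsign : Equiv.Perm.sign t = 1) :
    ∀ y, t y = y → y = pt := by
  classical
  haveI : Fact (Nat.Prime 11) := ⟨by norm_num⟩
  obtain ⟨k, hk⟩ := Equiv.Perm.cycleType_prime_order (by rw [ht]; exact Nat.prime_two)
  rw [ht] at hk
  have hsupp : t.support.card = 2 * (k + 1) := by
    rw [← Equiv.Perm.sum_cycleType, hk, Multiset.sum_replicate, smul_eq_mul, mul_comm]
  have heven : Even (k + 1) := by
    rw [Equiv.Perm.sign_of_cycleType, hk, Multiset.sum_replicate, Multiset.card_replicate, smul_eq_mul] at hsign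
    rcases Nat.even_or_odd (k + 1) with h | h
    · exact h
    · have : Odd ((k + 1) * 2 + (k + 1)) := by obtain ⟨m, hm⟩ := h; exact ⟨3 * m + 1, by omega⟩
      rw [this.neg_one_pow] at hsign
      exact absurd hsign (by decide)
  have hinv : ∀ (z : ↥(zpowers x)), ∀ y ∈ t.support, (z : Equiv.Perm X) y ∈ t.support := by
    intro z y hy
    have hc : (z : Equiv.Perm X) * t = t * z := by
      obtain ⟨i, hi⟩ := mem_zpowers_iff.1 z.2
      rw [← hi]
      exact (Commute.zpow_left hcomm i).eq
    rw [Equiv.Perm.mem_support] at hy ⊢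
    intro h
    apply hy
    have h1 := Equiv.Perm.ext_iff.1 hc y
    simp only [Equiv.Perm.coe_mul, Function.comp_apply] at h1
    rw [h] at h1
    exact (z : Equiv.Perm X).injective h1
  letI : MulAction ↥(zpowers x) {y // y ∈ t.support} :=
    { smul := fun z y => ⟨(z : Equiv.Perm X) y, hinv z y y.2⟩
      one_smul := fun y => rfl
      mul_smul := fun a b y => rfl }
  have hP : IsPGroup 11 ↥(zpowers x) := IsPGroup.of_card (n := 1) (by rw [Nat.card_zpowers, hx, pow_one])
  have h0 : MulAction.fixedPoints ↥(zpowers x) {y // y ∈ t.support} = ∅ := by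
    rw [Set.eq_empty_iff_forall_notMem]
    intro y hy
    have h1 : x (y : X) = y := congrArg Subtype.val (hy ⟨x, mem_zpowers x⟩)
    have h2 := y.2
    rw [hxfix _ h1, Equiv.Perm.mem_support] at h2
    exact h2 htp
  have hmod := hP.card_modEq_card_fixedPoints {y // y ∈ t.support}
  rw [h0, Nat.card_eq_fintype_card, Fintype.card_coe, hsupp, Nat.card_of_isEmpty] at hmod
  have hle : t.support ⊆ Finset.univ.erase pt := fun y hy =>
    Finset.mem_erase.2 ⟨fun e => Equiv.Perm.mem_support.1 hy (by rw [e, htp]), Finset.mem_univ _⟩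
  have hle' := Finset.card_le_card hle
  rw [hsupp, Finset.card_erase_of_mem (Finset.mem_univ _), Finset.card_univ, hX] at hle'
  unfold Nat.ModEq at hmod
  obtain ⟨m, hm⟩ := heven
  have heq : t.support = Finset.univ.erase pt := by
    refine Finset.eq_of_subset_of_card_le hle ?_
    rw [hsupp, Finset.card_erase_of_mem (Finset.mem_univ _), Finset.card_univ, hX]
    omega
  intro y hy
  by_contra hne
  exact Equiv.Perm.mem_support.1 (heq ▸ Finset.mem_erase.2 ⟨hne, Finset.mem_univ y⟩ : y ∈ t.support) hy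


/-- Let G be a finite group of order 7920 = 2⁴·3²·5·11 (the order of the smallest Mathieu group) and suppose its prime graph (vertices the prime divisors of the order, distinct p, q joined when there is an element of order pq) is disconnected: the prime divisors split into two non-empty parts with no element of order pq for p in one part and q in the other. Then G is simple. -/
theorem result {G : Type*} [Group G] [Finite G] (hord : Nat.card G = 7920)
    (hdisc : (∃ A : Set ℕ, (∃ a ∈ A, a.Prime ∧ a ∣ Nat.card G) ∧ (∃ b ∉ A, b.Prime ∧ b ∣ Nat.card G) ∧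
      ∀ a ∈ A, ∀ b ∉ A, a.Prime → b.Prime → a ∣ Nat.card G → b ∣ Nat.card G → ¬ ∃ g : G, orderOf g = a * b)) :
    IsSimpleGroup G := by
  classical
  haveI : Fact (Nat.Prime 2) := ⟨Nat.prime_two⟩
  haveI : Fact (Nat.Prime 3) := ⟨Nat.prime_three⟩
  haveI : Fact (Nat.Prime 5) := ⟨by norm_num⟩
  haveI : Fact (Nat.Prime 11) := ⟨by norm_num⟩
  haveI : Nontrivial G := Finite.one_lt_card_iff_nontrivial.1 (by omega)
  obtain ⟨A, hA, hB, hsep⟩ := hdisc
  have hub := fun h => no_hub hA hB hord hsep h
  have L : ∀ {a b : ℕ}, (a = 2 ∨ a = 3 ∨ a = 5 ∨ a = 11) → (b = 2 ∨ b = 3 ∨ b = 5 ∨ b = 11) →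
      (∃ x y : G, orderOf x = a ∧ orderOf y = b ∧ x * y = y * x) → (a ∈ A ↔ b ∈ A) := by
    rintro a b ha hb ⟨x, y, hx, hy, hxy⟩
    by_cases hab : a = b
    · rw [hab]
    · have hp : ∀ c, c = 2 ∨ c = 3 ∨ c = 5 ∨ c = 11 → c.Prime := by
        rintro c (rfl | rfl | rfl | rfl) <;> norm_num
      exact link hord hsep ha hb (edge_of_commute (hp a ha) (hp b hb) hab hx hy hxy)
  have hf : ∀ {p k r : ℕ} [Fact p.Prime], 7920 = p ^ k * r → ¬ p ∣ r →
      ∀ S : Sylow p G, Nat.card ↥(S : Subgroup G) = p ^ k ∧ (S : Subgroup G).index = r := by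
    intro p k r hp h1 h2 S
    have hr : r ≠ 0 := fun e => by rw [e, mul_zero] at h1; norm_num at h1
    have hc : Nat.card ↥(S : Subgroup G) = p ^ k := by
      rw [Sylow.card_eq_multiplicity, hord, h1, Nat.factorization_mul (pow_ne_zero k hp.out.ne_zero) hr,
        Finsupp.add_apply, Nat.Prime.factorization_pow hp.out, Finsupp.single_eq_same,
        Nat.factorization_eq_zero_of_not_dvd h2, add_zero]
    refine ⟨hc, ?_⟩
    have := Subgroup.card_mul_index (S : Subgroup G)
    rw [hc, hord, h1] at this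
    exact Nat.eq_of_mul_eq_mul_left (pow_pos hp.out.pos k) this
  -- Sylow 11-subgroups
  have hS11 : ∀ S : Sylow 11 G, Nat.card ↥(S : Subgroup G) = 11 ∧ (S : Subgroup G).index = 720 := by
    intro S
    have := hf (p := 11) (k := 1) (r := 720) (by norm_num) (by norm_num) S
    rwa [pow_one] at this
  obtain ⟨x, hx⟩ := exists_prime_orderOf_dvd_card' (G := G) 11 (by rw [hord]; norm_num)
  let P : Sylow 11 G := Sylow.ofCard (zpowers x) (by
    rw [Nat.card_zpowers, hx]
    exact (hS11 default).1.symm.trans (Sylow.card_eq_multiplicity _))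
  have hPx : (P : Subgroup G) = zpowers x := rfl
  set N₁ := normalizer ((P : Subgroup G) : Set G) with hN₁
  have hn : Nat.card (Sylow 11 G) = N₁.index := Sylow.card_eq_index_normalizer P
  have hncases : N₁.index = 1 ∨ N₁.index = 12 ∨ N₁.index = 45 ∨ N₁.index = 144 := by
    refine n_cases _ (Nat.mem_divisors.2 ⟨?_, by norm_num⟩) ?_
    · rw [← hn, ← (hS11 P).2]; exact P.card_dvd_index
    · rw [← hn]; exact card_sylow_modEq_one 11 G
  have hcardN₁ := Subgroup.card_mul_index N₁
  rw [hord] at hcardN₁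
  -- a normal Sylow subgroup makes the graph connected
  have hPnormal : N₁.index ≠ 1 := by
    intro h1
    haveI : (P : Subgroup G).Normal := normalizer_eq_top_iff.1 (Subgroup.index_eq_one.1 h1)
    set D := centralizer ((P : Subgroup G) : Set G) with hD
    have hq : D.index ∣ 10 := by
      have h2 : Nat.card ↥((P : Subgroup G).normalizerMonoidHom.range) ∣ Nat.card (MulAut ↥(P : Subgroup G)) :=
        card_subgroup_dvd_card _
      rw [← Subgroup.index_ker, Subgroup.normalizerMonoidHom_ker] at h2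
      have h3 : Nat.card (MulAut ↥(P : Subgroup G)) = 10 := by
        haveI : IsCyclic ↥(P : Subgroup G) := isCyclic_of_prime_card (hS11 P).1
        rw [IsCyclic.card_mulAut, (hS11 P).1, Nat.totient_prime (by norm_num)]
      rw [h3] at h2
      have h4 : D.index = (D.subgroupOf N₁).index := by
        have h5 := Subgroup.relIndex_mul_index (centralizer_le_normalizer _ : D ≤ N₁)
        rw [h1, mul_one] at h5
        exact h5.symm
      rw [h4]; exact h2
    have hDc := Subgroup.card_mul_index D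
    rw [hord] at hDc
    have hcD : ∀ {p : ℕ}, p.Prime → p ∣ Nat.card ↥D → ∃ a b : G, orderOf a = 11 ∧ orderOf b = p ∧ a * b = b * a := by
      intro p hp hd
      haveI := Fact.mk hp
      obtain ⟨b, hb⟩ := exists_prime_orderOf_dvd_card' p hd
      refine ⟨x, b, hx, by rwa [Subgroup.orderOf_coe], ?_⟩
      exact (mem_centralizer_iff.1 b.2) x (hPx ▸ mem_zpowers x)
    have h9 : 9 ∣ Nat.card ↥D := by
      have h7 : 9 ∣ Nat.card ↥D * D.index := hDc.symm ▸ (by norm_num)
      exact (Nat.Coprime.coprime_dvd_right hq (by norm_num : Nat.Coprime 9 10)).dvd_of_dvd_mul_right h7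
    have h2 : 2 ∣ Nat.card ↥D := by
      by_contra h
      have h16 : 16 ∣ Nat.card ↥D * D.index := hDc.symm ▸ (by norm_num)
      have := (Nat.Coprime.pow_left 4 ((Nat.prime_two.coprime_iff_not_dvd).2 h)).dvd_of_dvd_mul_left h16
      exact absurd (this.trans hq) (by norm_num)
    have e1 := L (by norm_num) (by norm_num) (hcD Nat.prime_two h2)
    have e2 := L (by norm_num) (by norm_num) (hcD Nat.prime_three ((by norm_num : 3 ∣ 9).trans h9))
    have e3 : 11 ∈ A ↔ 5 ∈ A ∨ False := by
      by_cases h5 : 5 ∣ Nat.card ↥D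
      · simpa using L (by norm_num) (by norm_num) (hcD (by norm_num) h5)
      · obtain ⟨T, hT⟩ := Sylow.exists_subgroup_card_pow_prime 3 (n := 2) (G := ↥D) (by simpa using h9)
        let T' : Sylow 3 ↥D := Sylow.ofCard T (by
          rw [hT]
          congr 1
          have h27 : ¬ 27 ∣ Nat.card ↥D := fun h => by
            have := h.trans (hord ▸ card_subgroup_dvd_card D)
            norm_num at this
          refine le_antisymm ((Nat.prime_three.pow_dvd_iff_le_factorization Nat.card_pos.ne').1 (by simpa using h9)) ?_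
          by_contra hgt
          exact h27 ((Nat.prime_three.pow_dvd_iff_le_factorization (k := 3) Nat.card_pos.ne').2 (by omega)))
        have hfr := Sylow.normalizer_sup_eq_top T'
        set K := normalizer ((((T' : Subgroup ↥D).map D.subtype : Subgroup G)) : Set G) with hK
        have h5K : 5 ∣ Nat.card ↥K := by
          have hc := Solv.card_sup_mul_card_inf D K
          rw [sup_comm, hfr, Subgroup.card_top, hord] at hc
          rcases (Nat.Prime.dvd_mul (by norm_num : Nat.Prime 5)).1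
            (hc ▸ (Dvd.dvd.mul_right (by norm_num) _ : 5 ∣ 7920 * Nat.card ↥(D ⊓ K : Subgroup G))) with h | h
          · exact absurd h h5
          · exact h
        obtain ⟨y, hy⟩ := exists_prime_orderOf_dvd_card' 5 h5K
        set T₀ := (T' : Subgroup ↥D).map D.subtype
        have hT₀ : Nat.card ↥T₀ = 9 := by
          rw [Subgroup.card_map_of_injective D.subtype_injective]; exact hT
        have hcy := centralizes_of_fix T₀ (y : G) 5 (by rwa [Subgroup.orderOf_coe]) y.2
          (by rw [hT₀]; decide +kernel)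
        obtain ⟨b, hb⟩ := exists_prime_orderOf_dvd_card' 3 (hT₀ ▸ (by norm_num) : 3 ∣ Nat.card ↥T₀)
        have e := L (a := 5) (b := 3) (by norm_num) (by norm_num)
          ⟨y, b, by rwa [Subgroup.orderOf_coe], by rwa [Subgroup.orderOf_coe], hcy b b.2⟩
        rw [or_false]
        exact e2.trans e.symm
    rw [or_false] at e3
    exact hub ⟨e1.symm.trans e2, e2.symm.trans e3, e3.symm⟩
  have hn3 : N₁.index = 12 ∨ N₁.index = 45 ∨ N₁.index = 144 := hncases.resolve_left hPnormal
  -- no abelian normal subgroup of order prime to 11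
  have hnoab : ∀ N : Subgroup G, N.Normal → N ≠ ⊥ → IsMulCommutative ↥N →
      ∀ q : ℕ, q.Prime → q ≠ 11 → IsPGroup q ↥N → False := by
    intro N hNn hNb hNc q hq hq11 hNq
    haveI := Fact.mk hq
    obtain ⟨k, hk⟩ := hNq.exists_card_eq
    have hd : Nat.card ↥N ∣ 720 := by
      have h1 : Nat.card ↥N ∣ 720 * 11 := by rw [show 720 * 11 = 7920 by norm_num, ← hord]; exact card_subgroup_dvd_card N
      refine Nat.Coprime.dvd_of_dvd_mul_right ?_ h1
      rw [hk]
      exact Nat.Coprime.pow_left k ((Nat.coprime_primes hq (by norm_num)).2 hq11)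
    have hk0 : k ≠ 0 := fun e => hNb (Subgroup.card_eq_one.1 (by rw [hk, e, pow_zero]))
    have hq3 : q = 2 ∨ q = 3 ∨ q = 5 := by
      have := prime_factor hq (((dvd_pow_self q hk0).trans (hk ▸ hd)).trans (by norm_num))
      tauto
    set c := Nat.card ↥N with hc
    have hcmem : c ∈ ({2, 4, 8, 16, 3, 9, 5} : Finset ℕ) := by
      have hd' : c ∣ 2 ^ 4 * 3 ^ 2 * 5 := by simpa using hd
      have h := q_list c (Nat.mem_divisors.2 ⟨hd, by norm_num⟩) (fun e => hNb (Subgroup.card_eq_one.1 e)) (by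
        have hpow : ∀ {r m : ℕ}, r.Prime → q ≠ r → Nat.Coprime c (r ^ m) := fun {r m} hr hne => by
          rw [hk]; exact Nat.Coprime.pow _ _ ((Nat.coprime_primes hq hr).2 hne)
        rcases hq3 with rfl | rfl | rfl
        · exact Or.inl (by
            simpa using ((hpow (r := 5) (m := 1) (by norm_num) (by norm_num)).dvd_of_dvd_mul_right
              (by simpa using hd') |> (hpow (r := 3) (m := 2) Nat.prime_three (by norm_num)).dvd_of_dvd_mul_right))
        · exact Or.inr (Or.inl (by
            simpa using (hpow (r := 2) (m := 4) Nat.prime_two (by norm_num)).dvd_of_dvd_mul_left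
              ((hpow (r := 5) (m := 1) (by norm_num) (by norm_num)).dvd_of_dvd_mul_right (by simpa using hd'))))
        · exact Or.inr (Or.inr ((hpow (r := 2) (m := 4) Nat.prime_two (by norm_num)).dvd_of_dvd_mul_left
            ((hpow (r := 3) (m := 2) Nat.prime_three (by norm_num)).dvd_of_dvd_mul_left
              (by simpa [mul_comm, mul_left_comm, mul_assoc] using hd')))))
      simp only [Finset.mem_insert, Finset.mem_singleton]
      tauto
    obtain ⟨a, ha⟩ := exists_prime_orderOf_dvd_card' q (show q ∣ Nat.card ↥N by rw [← hc, hk]; exact dvd_pow_self q hk0)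
    have ha' : orderOf (a : G) = q := by rwa [Subgroup.orderOf_coe]
    haveI := hNn
    set C := centralizer (N : Set G) with hC
    have hNC : N ≤ C := fun u hu => mem_centralizer_iff.2 fun w hw =>
      congrArg Subtype.val (mul_comm' (⟨w, hw⟩ : ↥N) ⟨u, hu⟩)
    have hnorm : ∀ y : G, y ∈ normalizer (N : Set G) := fun y => by
      rw [normalizer_eq_top]; exact mem_top y
    have hxC : x ∈ C := mem_centralizer_iff.2 fun w hw =>
      (centralizes_of_fix N x 11 hx (hnorm x) (eleven_fix c hcmem) w hw).symm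
    have hPC : (P : Subgroup G) ≤ C := hPx ▸ zpowers_le.2 hxC
    have hcop : q = 2 ∨ q = 3 ∨ q = 5 ∨ q = 11 := by tauto
    have hedge : ∀ r, (r = 2 ∨ r = 3 ∨ r = 5 ∨ r = 11) → r ∣ Nat.card ↥C → (q ∈ A ↔ r ∈ A) := by
      intro r hr hd
      haveI : Fact r.Prime := ⟨by rcases hr with rfl | rfl | rfl | rfl <;> norm_num⟩
      obtain ⟨b, hb⟩ := exists_prime_orderOf_dvd_card' r hd
      exact L hcop hr ⟨a, b, ha', by rwa [Subgroup.orderOf_coe], mem_centralizer_iff.1 b.2 a a.2⟩
    have h11 : 11 ∣ Nat.card ↥C := (hS11 P).1 ▸ Subgroup.card_dvd_of_le hPC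
    have hqC : q ∣ Nat.card ↥C := (show q ∣ Nat.card ↥N by rw [← hc, hk]; exact dvd_pow_self q hk0).trans (Subgroup.card_dvd_of_le hNC)
    have hprod : N₁.index * c * 11 ∣ Nat.card ↥C := by
      let Q : Sylow 11 ↥C := P.subtype hPC
      have hfr := Sylow.normalizer_sup_eq_top Q
      have hmap : (Q : Subgroup ↥C).map C.subtype = (P : Subgroup G) := by
        show ((P : Subgroup G).subgroupOf C).map C.subtype = _
        rw [Subgroup.subgroupOf_map_subtype, inf_eq_left.2 hPC]
      rw [hmap] at hfr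
      have hcs := Solv.card_sup_mul_card_inf C N₁
      rw [sup_comm, hfr, Subgroup.card_top, hord, ← hcardN₁] at hcs
      have hC' : Nat.card ↥C = N₁.index * Nat.card ↥(C ⊓ N₁ : Subgroup G) := by
        have hpos : 0 < Nat.card ↥N₁ := Nat.card_pos
        nlinarith
      have hNP : Nat.card ↥(N ⊔ (P : Subgroup G) : Subgroup G) = c * 11 := by
        rw [Solv.card_sup_of_inf_eq_bot N _ (Solv.coprime_inf (by
          rw [(hS11 P).1, ← hc, hk]
          exact Nat.Coprime.pow_left k ((Nat.coprime_primes hq (by norm_num)).2 hq11))), (hS11 P).1]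
      have hle : N ⊔ (P : Subgroup G) ≤ C ⊓ N₁ := by
        refine sup_le (le_inf hNC fun u hu => ?_) (le_inf hPC le_normalizer)
        exact centralizer_le_normalizer _ (mem_centralizer_iff.2 fun w hw =>
          ((mem_centralizer_iff.1 (hPC hw)) u hu).symm)
      have hd2 := Subgroup.card_dvd_of_le hle
      rw [hNP] at hd2
      rw [hC', mul_assoc]
      exact mul_dvd_mul_left _ hd2
    have hmiss : ∀ r ∈ ({2, 3, 5} : Finset ℕ), r ∣ Nat.card ↥C := by
      intro r hr
      have hrp : r.Prime := by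
        simp only [Finset.mem_insert, Finset.mem_singleton] at hr
        rcases hr with rfl | rfl | rfl <;> norm_num
      by_contra hno
      have hrc : Nat.Coprime r c := hrp.coprime_iff_not_dvd.2 fun h => hno (h.trans (Subgroup.card_dvd_of_le hNC))
      obtain ⟨h5, hc5⟩ := missing N₁.index (by simp only [Finset.mem_insert, Finset.mem_singleton]; exact hn3)
        c hcmem r hr hrc (hord ▸ hprod.trans (card_subgroup_dvd_card C)) fun h => hno (h.trans hprod)
      subst h5
      obtain ⟨y, hy⟩ := exists_prime_orderOf_dvd_card' (G := G) 5 (by rw [hord]; norm_num)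
      have hyC : y ∈ C := mem_centralizer_iff.2 fun w hw =>
        (centralizes_of_fix N y 5 hy (hnorm y) (five_fix c hc5) w hw).symm
      exact hno (hy ▸ (Subgroup.orderOf_mk y hyC ▸ orderOf_dvd_natCard (⟨y, hyC⟩ : ↥C)))
    have h2 := hedge 2 (by norm_num) (hmiss 2 (by decide))
    have h3 := hedge 3 (by norm_num) (hmiss 3 (by decide))
    have h5 := hedge 5 (by norm_num) (hmiss 5 (by decide))
    have h11' := hedge 11 (by norm_num) h11
    exact hub ⟨h2.symm.trans h3, h3.symm.trans h5, h5.symm.trans h11'⟩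
  -- every proper nontrivial normal subgroup has order divisible by 11
  have hnormal : ∀ M : Subgroup G, M.Normal → M ≠ ⊥ → 11 ∣ Nat.card ↥M := by
    intro M hM hMb
    by_contra h11
    haveI := hM
    obtain ⟨N, hNn, hNb, hNM, hmin⟩ := Solv.exists_minimal_normal_le M hMb
    haveI := hNn
    have hN11 : ¬ 11 ∣ Nat.card ↥N := fun h => h11 (h.trans (Subgroup.card_dvd_of_le hNM))
    have hNd : Nat.card ↥N ∣ 7920 := hord ▸ card_subgroup_dvd_card N
    by_cases h235 : 2 ∣ Nat.card ↥N ∧ 3 ∣ Nat.card ↥N ∧ 5 ∣ Nat.card ↥N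
    · have hedge : ∀ q, q = 2 ∨ q = 3 ∨ q = 5 → q ∣ Nat.card ↥N → (11 ∈ A ↔ q ∈ A) := by
        intro q hq hqd
        haveI : Fact q.Prime := ⟨by rcases hq with rfl | rfl | rfl <;> norm_num⟩
        let Q : Sylow q ↥N := default
        have hfr := Sylow.normalizer_sup_eq_top Q
        set Q₀ := (Q : Subgroup ↥N).map N.subtype with hQ₀
        set K := normalizer ((Q₀ : Subgroup G) : Set G)
        have h11K : 11 ∣ Nat.card ↥K := by
          have hc := Solv.card_sup_mul_card_inf N K
          rw [sup_comm, hfr, Subgroup.card_top, hord] at hc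
          rcases (Nat.Prime.dvd_mul (by norm_num : Nat.Prime 11)).1
            (hc ▸ (Dvd.dvd.mul_right (by norm_num) _ : 11 ∣ 7920 * Nat.card ↥(N ⊓ K : Subgroup G))) with h | h
          · exact absurd h hN11
          · exact h
        obtain ⟨y, hy⟩ := exists_prime_orderOf_dvd_card' 11 h11K
        obtain ⟨j, hj⟩ := (Q.isPGroup'.map N.subtype).exists_card_eq
        have hQd : q ∣ Nat.card ↥Q₀ := by
          rw [hQ₀, Subgroup.card_map_of_injective N.subtype_injective]
          exact Q.dvd_card_of_dvd_card hqd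
        have hj4 : q ^ j ∈ ({2, 4, 8, 16, 3, 9, 5} : Finset ℕ) := by
          have hdd : q ^ j ∣ 7920 := hj ▸ hord ▸ card_subgroup_dvd_card Q₀
          have hj0 : j ≠ 0 := fun e => by
            have := hQd; rw [hj, e, pow_zero, Nat.dvd_one] at this
            exact (Fact.out : q.Prime).ne_one this
          have hjle : q ^ j ≤ 7920 := Nat.le_of_dvd (by norm_num) hdd
          have hj12 : j ≤ 12 := by
            by_contra hgt
            have h1 : 2 ^ 13 ≤ q ^ j := (Nat.pow_le_pow_left (Fact.out : q.Prime).two_le 13).trans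
              (Nat.pow_le_pow_right (Fact.out : q.Prime).pos (by omega))
            norm_num at h1
            omega
          exact pow_list q (by simp only [Finset.mem_insert, Finset.mem_singleton]; exact hq) j
            (Finset.mem_range.2 (by omega)) hj0 hdd
        have hcy := centralizes_of_fix Q₀ (y : G) 11 (by rwa [Subgroup.orderOf_coe]) y.2
          (fun f hf => eleven_fix _ (hj ▸ hj4) f hf)
        obtain ⟨b, hb⟩ := exists_prime_orderOf_dvd_card' q hQd
        exact L (by norm_num) (by rcases hq with rfl | rfl | rfl <;> norm_num)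
          ⟨y, b, by rwa [Subgroup.orderOf_coe], by rwa [Subgroup.orderOf_coe], hcy b b.2⟩
      have e2 := hedge 2 (by norm_num) h235.1
      have e3 := hedge 3 (by norm_num) h235.2.1
      have e5 := hedge 5 (by norm_num) h235.2.2
      exact hub ⟨e2.symm.trans e3, e3.symm.trans e5, e5.symm⟩
    · obtain ⟨p, q, hp, hq, hpq⟩ : ∃ p q : ℕ, p.Prime ∧ q.Prime ∧
          ∀ r, r.Prime → r ∣ Nat.card ↥N → r = p ∨ r = q := by
        have hr' : ∀ r, r.Prime → r ∣ Nat.card ↥N → r = 2 ∨ r = 3 ∨ r = 5 := fun r hr h => by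
          rcases prime_factor hr (h.trans hNd) with rfl | rfl | rfl | rfl <;> tauto
        rcases not_and_or.1 h235 with h | h
        · exact ⟨3, 5, Nat.prime_three, by norm_num, fun r hr hd => by
            rcases hr' r hr hd with rfl | rfl | rfl <;> tauto⟩
        rcases not_and_or.1 h with h | h
        · exact ⟨2, 5, Nat.prime_two, by norm_num, fun r hr hd => by
            rcases hr' r hr hd with rfl | rfl | rfl <;> tauto⟩
        · exact ⟨2, 3, Nat.prime_two, Nat.prime_three, fun r hr hd => by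
            rcases hr' r hr hd with rfl | rfl | rfl <;> tauto⟩
      obtain ⟨hc, r, hr, -, hrN⟩ := Solv.minimal_normal_elementaryAbelian N
        (Char.isSolvable_of_two_primes hp hq _ rfl hpq) hNb hmin
      refine hnoab N hNn hNb hc r hr (fun e => hN11 ?_) hrN
      subst e
      obtain ⟨k, hk⟩ := hrN.exists_card_eq
      rw [hk]
      exact dvd_pow_self 11 fun e => hNb (Subgroup.card_eq_one.1 (by rw [hk, e, pow_zero]))
  by_contra hns
  obtain ⟨M₀, hM₀, hM₀b, hM₀t⟩ : ∃ M : Subgroup G, M.Normal ∧ M ≠ ⊥ ∧ M ≠ ⊤ := by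
    by_contra h
    push_neg at h
    refine hns ⟨fun H hH => ?_⟩
    by_cases e : H = ⊥
    · exact Or.inl e
    · exact Or.inr (h H hH e)
  haveI := hM₀
  obtain ⟨M, hMn, hMb, hMle, hmin⟩ := Solv.exists_minimal_normal_le M₀ hM₀b
  haveI := hMn
  have hMt : M ≠ ⊤ := fun e => hM₀t (top_le_iff.1 (e ▸ hMle))
  have hcontains : ∀ K : Subgroup G, K.Normal → K ≠ ⊥ → ∀ S : Sylow 11 G, (S : Subgroup G) ≤ K := by
    intro K hK hKb S
    haveI := hK
    obtain ⟨y, hy⟩ := exists_prime_orderOf_dvd_card' 11 (hnormal K hK hKb)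
    let S' : Sylow 11 G := Sylow.ofCard (zpowers (y : G)) (by
      rw [Nat.card_zpowers, Subgroup.orderOf_coe, hy]
      exact (hS11 default).1.symm.trans (Sylow.card_eq_multiplicity _))
    obtain ⟨g, hg⟩ := MulAction.exists_smul_eq G S' S
    rw [← hg]
    intro w hw
    have hw' : w ∈ MulAut.conj g • zpowers (y : G) := hw
    rw [Subgroup.mem_pointwise_smul_iff_inv_smul_mem, ← map_inv, MulAut.smul_def, MulAut.conj_apply, inv_inv] at hw'
    have := Subgroup.Normal.conj_mem hK _ ((zpowers_le.2 y.2 : zpowers (y : G) ≤ K) hw') g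
    simpa [mul_assoc] using this
  have hxM : x ∈ M := hcontains M hMn hMb P (hPx ▸ mem_zpowers x)
  have hPM : (P : Subgroup G) ≤ M := hPx ▸ zpowers_le.2 hxM
  -- M is perfect
  have hperf : ⁅M, M⁆ = M := by
    rcases hmin ⁅M, M⁆ inferInstance (Subgroup.commutator_le_right M M) with h | h
    · exfalso
      refine hPnormal ?_
      rw [← hn, Nat.card_eq_one_iff_unique]
      refine ⟨⟨fun S T => ?_⟩, inferInstance⟩
      obtain ⟨g, hg⟩ := MulAction.exists_smul_eq ↥M (S.subtype (hcontains M hMn hMb S))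
        (T.subtype (hcontains M hMn hMb T))
      have hcomm : ∀ u v : ↥M, u * v = v * u := fun u v => Subtype.ext (by
        have := Subgroup.mem_bot.1 (h ▸ Subgroup.commutator_mem_commutator u.2 v.2)
        exact commutatorElement_eq_one_iff_mul_comm.1 this)
      have hfix : g • S.subtype (hcontains M hMn hMb S) = S.subtype (hcontains M hMn hMb S) :=
        Sylow.smul_eq_iff_mem_normalizer.2 (mem_normalizer_iff.2 fun u => by
          rw [hcomm g u, mul_inv_cancel_right])
      rw [hfix] at hg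
      exact Sylow.subtype_injective hg
    · exact h
  have hMperf : commutator ↥M = ⊤ := by
    apply Subgroup.map_injective M.subtype_injective
    rw [_root_.commutator_def, Subgroup.map_commutator, ← MonoidHom.range_eq_map, Subgroup.range_subtype, hperf]
  have habel : ∀ {B : Type} [CommGroup B] (φ : ↥M →* B), ∀ m, φ m = 1 := fun φ m =>
    MonoidHom.mem_ker.1 (Abelianization.commutator_subset_ker φ (hMperf ▸ mem_top m))
  -- the action on the Sylow subgroups is faithful
  haveI : Fintype (Sylow 11 G) := Fintype.ofFinite _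
  let π := MulAction.toPermHom G (Sylow 11 G)
  have hπ : Function.Injective π := by
    rw [← MonoidHom.ker_eq_bot_iff]
    by_contra hK
    apply hPnormal
    rw [← hn, Nat.card_eq_one_iff_unique]
    refine ⟨⟨fun S T => ?_⟩, inferInstance⟩
    have hSker := hcontains π.ker inferInstance hK S
    have hle : (S : Subgroup G) ≤ normalizer (T : Set G) := fun u hu =>
      Sylow.smul_eq_iff_mem_normalizer.1 (Equiv.Perm.ext_iff.1 (MonoidHom.mem_ker.1 (hSker hu)) T)
    have h1 : (S : Subgroup G) ≤ (T : Subgroup G) := by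
      have h := S.isPGroup'.inf_normalizer_sylow T
      rw [inf_eq_left.2 hle] at h
      exact h ▸ inf_le_right
    exact Sylow.ext (S.is_maximal' T.isPGroup' h1).symm
  have hxfix : ∀ S : Sylow 11 G, π x S = S → S = P := fun S hS => by
    have h1 : x ∈ normalizer (S : Set G) := Sylow.smul_eq_iff_mem_normalizer.1 hS
    have h2 : (P : Subgroup G) ≤ (S : Subgroup G) := by
      have h := P.isPGroup'.inf_normalizer_sylow S
      rw [inf_eq_left.2 (hPx ▸ zpowers_le.2 h1)] at h
      exact h ▸ inf_le_right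
    exact (Sylow.ext (P.is_maximal' S.isPGroup' h2))
  set D := centralizer ((P : Subgroup G) : Set G) with hD
  have hq : D.relIndex N₁ ∣ 10 := by
    have h2 : Nat.card ↥((P : Subgroup G).normalizerMonoidHom.range) ∣ Nat.card (MulAut ↥(P : Subgroup G)) :=
      card_subgroup_dvd_card _
    rw [← Subgroup.index_ker, Subgroup.normalizerMonoidHom_ker] at h2
    haveI : IsCyclic ↥(P : Subgroup G) := isCyclic_of_prime_card (hS11 P).1
    rwa [IsCyclic.card_mulAut, (hS11 P).1, Nat.totient_prime (by norm_num)] at h2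
  -- the Sylow subgroup of M is not central in its normalizer
  have htransfer : ¬ M ⊓ N₁ ≤ D := by
    intro hle
    let Q : Sylow 11 ↥M := P.subtype hPM
    have hQn : normalizer ((Q : Subgroup ↥M) : Set ↥M) ≤ centralizer ((Q : Subgroup ↥M) : Set ↥M) := by
      intro u hu
      rw [mem_centralizer_iff]
      intro w hw
      refine Subtype.ext ?_
      have h1 : (u : G) ∈ D := hle ⟨u.2, mem_normalizer_iff.2 fun v => ?_⟩
      · exact mem_centralizer_iff.1 h1 w hw
      · by_cases hv : v ∈ M
        · exact mem_normalizer_iff.1 hu ⟨v, hv⟩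
        · refine ⟨fun h => absurd (hPM h) hv, fun h => absurd ?_ hv⟩
          have := M.mul_mem (M.mul_mem (M.inv_mem u.2) (hPM h)) u.2
          simpa [mul_assoc] using this
    have hcompl := MonoidHom.ker_transferSylow_isComplement' Q hQn
    have hxQ : (⟨x, hxM⟩ : ↥M) ∈ (Q : Subgroup ↥M) := show x ∈ (P : Subgroup G) by rw [hPx]; exact mem_zpowers x
    have hker : (MonoidHom.transferSylow Q hQn).ker = ⊤ := top_le_iff.1 (hMperf ▸ (by
      rw [_root_.commutator_def, Subgroup.commutator_le]
      intro u _ v _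
      rw [MonoidHom.mem_ker, map_commutatorElement, commutatorElement_eq_one_iff_mul_comm]
      haveI : IsCyclic ↥(Q : Subgroup ↥M) := isCyclic_of_prime_card (p := 11) (by
        rw [show (Q : Subgroup ↥M) = (P : Subgroup G).subgroupOf M from rfl, Solv.card_subgroupOf hPM]
        exact (hS11 P).1)
      exact mul_comm' _ _))
    have hbot := hcompl.disjoint.eq_bot
    rw [hker, top_inf_eq] at hbot
    rw [hbot, Subgroup.mem_bot] at hxQ
    have : orderOf x = 1 := orderOf_eq_one_iff.2 (congrArg Subtype.val hxQ)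
    omega
  rcases hn3 with h12 | h45 | h144
  · -- degree twelve
    have hD11 : D ≤ (P : Subgroup G) := by
      intro d hd
      have hdP : π d P = P := Sylow.smul_eq_iff_mem_normalizer.2 (centralizer_le_normalizer _ hd)
      obtain ⟨S₁, hS₁⟩ : ∃ S₁, S₁ ≠ P := by
        by_contra h
        push_neg at h
        haveI : Subsingleton (Sylow 11 G) := ⟨fun a b => (h a).trans (h b).symm⟩
        have := Nat.card_of_subsingleton P
        omega
      -- the other eleven subgroups form one orbit of x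
      have horb : ∀ S : Sylow 11 G, S ≠ P → ∃ i : ℕ, π (x ^ i) S₁ = S := by
        intro S hS
        let O := MulAction.orbit ↥(zpowers x) S₁
        have hO : 11 ≤ O.ncard := by
          have hd : O.ncard ∣ 11 := by
            rw [← MulAction.index_stabilizer]
            have := Subgroup.index_dvd_card (MulAction.stabilizer ↥(zpowers x) S₁)
            rwa [Nat.card_zpowers, hx] at this
          rcases (Nat.dvd_prime (by norm_num)).1 hd with h | h
          · exfalso
            apply hS₁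
            refine hxfix S₁ ?_
            obtain ⟨w, hw⟩ := Set.ncard_eq_one.1 h
            have h1 : (⟨x, mem_zpowers x⟩ : ↥(zpowers x)) • S₁ ∈ ({w} : Set _) := hw ▸ MulAction.mem_orbit _ _
            have h2 : S₁ ∈ ({w} : Set _) := hw ▸ MulAction.mem_orbit_self _
            exact h1.trans h2.symm
          · omega
        have hsub : O ⊆ ({P} : Set (Sylow 11 G))ᶜ := by
          rintro _ ⟨z, rfl⟩ (e : z • S₁ = P)
          apply hS₁
          have hz : (z : G) • P = P := Sylow.smul_eq_iff_mem_normalizer.2 (le_normalizer (show (z : G) ∈ (P : Subgroup G) by rw [hPx]; exact z.2))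
          exact MulAction.injective (z : G) ((e : (z : G) • S₁ = P).trans hz.symm)
        have heq : O = ({P} : Set (Sylow 11 G))ᶜ := Set.eq_of_subset_of_ncard_le hsub (by
          rw [Set.ncard_compl, Set.ncard_singleton, hn, h12]; omega)
        have : S ∈ O := heq ▸ hS
        obtain ⟨⟨z, hz⟩, hzS⟩ := this
        obtain ⟨i, hi⟩ := (mem_zpowers_iff_mem_range_orderOf.1 hz) |> Finset.mem_image.1 |>
          fun ⟨i, _, hi⟩ => (⟨i, hi⟩ : ∃ i, x ^ i = z)
        exact ⟨i, by rw [hi]; exact hzS⟩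
      have hdS : π d S₁ ≠ P := fun e => hS₁ ((π d).injective (e.trans hdP.symm))
      obtain ⟨i, hi⟩ := horb _ hdS
      have hcd : ∀ j : ℕ, x ^ j * d = d * x ^ j := fun j =>
        mem_centralizer_iff.1 hd _ (hPx ▸ Subgroup.pow_mem _ (mem_zpowers x) j)
      have hde : d = x ^ i := by
        apply hπ
        refine Equiv.Perm.ext fun S => ?_
        by_cases hS : S = P
        · rw [hS, hdP]
          exact (Sylow.smul_eq_iff_mem_normalizer.2 (le_normalizer (hPx ▸ Subgroup.pow_mem _ (mem_zpowers x) i))).symm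
        · obtain ⟨j, rfl⟩ := horb S hS
          rw [← Equiv.Perm.mul_apply, ← map_mul, ← hcd, map_mul, Equiv.Perm.mul_apply, ← hi,
            ← Equiv.Perm.mul_apply, ← Equiv.Perm.mul_apply, ← map_mul, ← map_mul, ← pow_add, ← pow_add, add_comm]
      rw [hde, hPx]
      exact Subgroup.pow_mem _ (mem_zpowers x) i
    have h1 := Subgroup.relIndex_mul_index (centralizer_le_normalizer _ : D ≤ N₁)
    have h2 := Subgroup.card_dvd_of_le hD11
    rw [(hS11 P).1] at h2
    have h3 := Nat.le_of_dvd (by norm_num) h2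
    have h4 := Nat.le_of_dvd (by norm_num) hq
    have h5 := Subgroup.card_mul_index D
    rw [← h1, hord, h12] at h5
    nlinarith
  · -- degree forty-five
    rw [h45] at hcardN₁
    have hX : Fintype.card (Sylow 11 G) = 45 := by rw [← Nat.card_eq_fintype_card, hn, h45]
    -- involutions of M centralising P fix only P
    have hinv : ∀ t ∈ M, t ∈ D → orderOf t = 2 → ∀ S, π t S = S → S = P := by
      intro t htM htD ht S hS
      refine fixes_only hX P (π x) (π t) (by rw [orderOf_injective π hπ, hx]) hxfix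
        (by rw [orderOf_injective π hπ, ht]) ?_ (Sylow.smul_eq_iff_mem_normalizer.2 (centralizer_le_normalizer _ htD))
        (habel ((Equiv.Perm.sign : Equiv.Perm (Sylow 11 G) →* ℤˣ).comp (π.comp M.subtype)) ⟨t, htM⟩) S hS
      rw [← map_mul, ← map_mul, mem_centralizer_iff.1 htD x (hPx ▸ mem_zpowers x)]
    -- a Sylow 2-subgroup inside the normalizer
    obtain ⟨S₂, hS₂⟩ := Sylow.exists_subgroup_card_pow_prime 2 (n := 4) (G := ↥N₁)
      (by rw [show Nat.card ↥N₁ = 176 by omega]; norm_num)
    let S₀ : Sylow 2 G := Sylow.ofCard (S₂.map N₁.subtype) (by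
      rw [Subgroup.card_map_of_injective N₁.subtype_injective, hS₂, ← (hf (p := 2) (k := 4) (r := 495)
        (by norm_num) (by norm_num) default).1, Sylow.card_eq_multiplicity])
    let S : Subgroup ↥M := (S₀ : Subgroup G).subgroupOf M
    have hSN : ∀ s : ↥M, s ∈ S → (s : G) ∈ N₁ := fun s hs => Subgroup.map_subtype_le S₂ hs
    have hS2 : IsPGroup 2 ↥S := S₀.isPGroup'.comap_of_injective M.subtype M.subtype_injective
    have hSodd : Nat.Coprime 2 S.index := by
      refine Nat.Coprime.coprime_dvd_right ?_ (by norm_num : Nat.Coprime 2 495)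
      have hcs := Solv.card_sup_mul_card_inf M (S₀ : Subgroup G)
      have hS₀c := (hf (p := 2) (k := 4) (r := 495) (by norm_num) (by norm_num) S₀).1
      have hSc : Nat.card ↥(M ⊓ (S₀ : Subgroup G) : Subgroup G) = Nat.card ↥S := by
        rw [← Solv.card_map_subtype S,
          show S.map M.subtype = (S₀ : Subgroup G) ⊓ M from Subgroup.subgroupOf_map_subtype _ _, inf_comm]
      rw [hSc, hS₀c, ← Subgroup.card_mul_index S] at hcs
      have hsd : S.index * 16 ∣ 7920 := by
        have : Nat.card ↥(M ⊔ (S₀ : Subgroup G) : Subgroup G) = S.index * 16 := by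
          have hpos : 0 < Nat.card ↥S := Nat.card_pos
          norm_num at hcs
          refine Nat.eq_of_mul_eq_mul_right hpos ?_
          rw [hcs, ← Subgroup.card_mul_index S]
          ring
        rw [← this, ← hord]
        exact card_subgroup_dvd_card _
      exact (Nat.mul_dvd_mul_iff_right (by norm_num : 0 < 16)).1 (by simpa using hsd)
    have hDnorm : ∀ g ∈ N₁, ∀ d : G, d ∈ D → g⁻¹ * d * g ∈ D := by
      intro g hg d hd
      rw [hD, mem_centralizer_iff]
      intro w hw
      have hw' : g * w * g⁻¹ ∈ (P : Subgroup G) := (mem_normalizer_iff.1 hg w).1 hw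
      calc w * (g⁻¹ * d * g) = g⁻¹ * ((g * w * g⁻¹) * d) * g := by group
        _ = g⁻¹ * (d * (g * w * g⁻¹)) * g := by rw [mem_centralizer_iff.1 hd _ hw']
        _ = g⁻¹ * d * g * w := by group
    -- some element of S does not centralise P
    obtain ⟨s₀, hs₀, hs₀D⟩ : ∃ s : ↥M, s ∈ S ∧ (s : G) ∉ D := by
      by_contra h
      push_neg at h
      apply htransfer
      intro g hg
      haveI : (D.subgroupOf N₁).Normal :=
        ⟨fun d hd u => by
          have := hDnorm (u : G)⁻¹ (N₁.inv_mem u.2) _ hd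
          rwa [inv_inv] at this⟩
      have h1 : D.relIndex (M ⊓ N₁) ∣ D.relIndex N₁ := by
        rw [← Subgroup.relIndex_subgroupOf (H := D) (inf_le_right : M ⊓ N₁ ≤ N₁)]
        exact Subgroup.relIndex_dvd_index_of_normal _ _
      have hS'D : S.map M.subtype ≤ D := by rintro _ ⟨v, hv, rfl⟩; exact h v hv
      have hS'I : S.map M.subtype ≤ M ⊓ N₁ := by rintro _ ⟨v, hv, rfl⟩; exact ⟨v.2, hSN v hv⟩
      have hS'rel : (S.map M.subtype).relIndex M = S.index := by
        rw [Subgroup.relIndex, Subgroup.subgroupOf, Subgroup.comap_map_eq_self_of_injective M.subtype_injective]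
      have h2 : D.relIndex (M ⊓ N₁) ∣ S.index := by
        rw [← hS'rel, ← Subgroup.relIndex_mul_relIndex _ _ _ hS'I inf_le_left]
        refine dvd_mul_of_dvd_left ?_ _
        exact Subgroup.index_dvd_of_le fun v hv => hS'D hv
      have h3 : D.relIndex (M ⊓ N₁) ∣ Nat.gcd (Nat.gcd 10 176) S.index := by
        refine Nat.dvd_gcd (Nat.dvd_gcd (h1.trans hq) (h1.trans ?_)) h2
        exact (Subgroup.index_dvd_card (D.subgroupOf N₁)).trans (by rw [show Nat.card ↥N₁ = 176 by omega])
      rw [show Nat.gcd 10 176 = 2 by norm_num, hSodd, Nat.dvd_one] at h3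
      exact Subgroup.relIndex_eq_one.1 h3 hg
    -- the character of S
    have hidx2 : D.relIndex N₁ = 2 := by
      have h2dvd : D.relIndex N₁ ∣ 176 :=
        (Subgroup.index_dvd_card (D.subgroupOf N₁)).trans (by rw [show Nat.card ↥N₁ = 176 by omega])
      have h2' : D.relIndex N₁ ∣ 2 := by
        have := Nat.dvd_gcd hq h2dvd
        norm_num at this
        exact this
      rcases (Nat.dvd_prime Nat.prime_two).1 h2' with h | h
      · exact absurd ((Subgroup.relIndex_eq_one.1 h) (hSN s₀ hs₀)) hs₀D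
      · exact h
    obtain ⟨χ, hχ⟩ := index_two_hom (D.subgroupOf N₁) hidx2
    let ι : ↥S →* ↥N₁ :=
      { toFun := fun s => ⟨((s : ↥M) : G), hSN s s.2⟩
        map_one' := rfl
        map_mul' := fun a b => rfl }
    let ϕ : ↥S →* Multiplicative (ZMod 2) := χ.comp ι
    have hϕ : ∀ s : ↥S, ϕ s = 1 ↔ ((s : ↥M) : G) ∈ D := fun s => hχ (ι s)
    obtain ⟨k, hk⟩ := hS2 ⟨s₀, hs₀⟩
    have hs₀k : s₀ ^ 2 ^ k = 1 := congrArg Subtype.val hk
    obtain ⟨k', -, hk'⟩ := (Nat.dvd_prime_pow Nat.prime_two).1 (orderOf_dvd_of_pow_eq_one hs₀k)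
    -- fusion keeps the centralizer
    have hfix : ∀ t : ↥M, t ∈ S → t ≠ 1 → (t : G) ∈ D → ∀ Q, π (t : G) Q = Q → Q = P := by
      intro t htS htne htD Q hQ
      obtain ⟨j, hj⟩ := hS2 ⟨t, htS⟩
      have hj' : t ^ 2 ^ j = 1 := congrArg Subtype.val hj
      obtain ⟨i, -, hi⟩ := (Nat.dvd_prime_pow Nat.prime_two).1 (orderOf_dvd_of_pow_eq_one hj')
      have hi0 : i ≠ 0 := fun e => htne (orderOf_eq_one_iff.1 (by rw [hi, e, pow_zero]))
      have hu : orderOf (t ^ 2 ^ (i - 1)) = 2 := by
        rw [orderOf_pow' _ (pow_ne_zero _ two_ne_zero), hi, Nat.gcd_eq_right (pow_dvd_pow 2 (by omega)),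
          Nat.pow_div (by omega) two_pos, show i - (i - 1) = 1 by omega, pow_one]
      refine hinv _ (t ^ 2 ^ (i - 1)).2 (by push_cast; exact D.pow_mem htD _) (by rw [Subgroup.orderOf_coe, hu]) Q ?_
      push_cast
      rw [map_pow]
      exact Equiv.Perm.pow_apply_eq_self_of_apply_eq_self hQ _
    have hfusion : ∀ (u a : ↥M), u ∈ S → a⁻¹ * u * a ∈ S → (u : G) ∈ D → ((a⁻¹ * u * a : ↥M) : G) ∈ D := by
      intro u a hu hua huD
      by_cases hu1 : u = 1
      · subst hu1; simp [D.one_mem]
      have hcoe : ((a⁻¹ * u * a : ↥M) : G) = (a : G)⁻¹ * (u : G) * (a : G) := rfl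
      rw [hcoe]
      refine hDnorm (a : G) ?_ _ huD
      refine Sylow.smul_eq_iff_mem_normalizer.1 (hfix u hu hu1 huD _ ?_)
      have h1 : π ((a⁻¹ * u * a : ↥M) : G) P = P := Sylow.smul_eq_iff_mem_normalizer.2 (hSN _ hua)
      rw [hcoe] at h1
      show (u : G) • ((a : G) • P) = (a : G) • P
      calc (u : G) • ((a : G) • P) = (a : G) • (((a : G)⁻¹ * u * a) • P) := by
            rw [← mul_smul, ← mul_smul]; group
        _ = (a : G) • P := by rw [show ((a : G)⁻¹ * u * a) • P = P from h1]
    refine Cfsg.Agent.Fusion.transfer_ne_one ϕ s₀ hs₀ hk' hSodd ?_ ?_ (habel _ _)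
    · exact fun e => hs₀D ((hϕ _).1 e)
    · intro j a ha
      rw [← map_pow]
      refine two_eq _ _ (((hϕ _).trans ?_).trans (hϕ _).symm)
      constructor
      · intro h
        have h' := hfusion _ a⁻¹ ha (by
          rw [show (a⁻¹)⁻¹ * (a⁻¹ * s₀ ^ j * a) * a⁻¹ = s₀ ^ j by group]
          exact S.pow_mem hs₀ j) h
        rwa [show (a⁻¹)⁻¹ * (a⁻¹ * s₀ ^ j * a) * a⁻¹ = s₀ ^ j by group] at h'
      · exact hfusion _ a (S.pow_mem hs₀ j) ha
  · -- degree one hundred and forty-four
    apply htransfer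
    intro g hg
    have hc : Nat.card ↥N₁ = 55 := by rw [h144] at hcardN₁; omega
    have hMN : Nat.card ↥(M ⊓ N₁ : Subgroup G) ∣ 55 := hc ▸ Subgroup.card_dvd_of_le inf_le_right
    have hP11 : 11 ∣ Nat.card ↥(M ⊓ N₁ : Subgroup G) := (hS11 P).1 ▸ Subgroup.card_dvd_of_le (le_inf hPM le_normalizer)
    have hsup := Sylow.normalizer_sup_eq_top (P.subtype hPM)
    rw [show ((P.subtype hPM : Subgroup ↥M)).map M.subtype = (P : Subgroup G) from by
      show ((P : Subgroup G).subgroupOf M).map M.subtype = _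
      rw [Subgroup.subgroupOf_map_subtype, inf_eq_left.2 hPM]] at hsup
    have hcs := Solv.card_sup_mul_card_inf M N₁
    rw [sup_comm, hsup, Subgroup.card_top, hord, hc] at hcs
    have hne : Nat.card ↥(M ⊓ N₁ : Subgroup G) ≠ 55 := fun e => hMt (Subgroup.eq_top_of_card_eq _ (by
      rw [e] at hcs; omega))
    have h11 : Nat.card ↥(M ⊓ N₁ : Subgroup G) = 11 := by
      obtain ⟨d, hd⟩ := hP11
      have hd5 : d ∣ 5 := by rw [hd] at hMN; exact (Nat.mul_dvd_mul_iff_left (by norm_num : 0 < 11)).1 (by simpa using hMN)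
      rcases (Nat.dvd_prime (by norm_num)).1 hd5 with rfl | rfl <;> omega
    have heq : (P : Subgroup G) = M ⊓ N₁ := Subgroup.eq_of_le_of_card_ge (le_inf hPM le_normalizer)
      (by rw [h11, (hS11 P).1])
    rw [← heq, hPx] at hg
    refine mem_centralizer_iff.2 fun w hw => ?_
    rw [hPx] at hw
    obtain ⟨i, rfl⟩ := mem_zpowers_iff.1 hg
    obtain ⟨j, rfl⟩ := mem_zpowers_iff.1 hw
    exact zpow_mul_comm x j i

end Cfsg.Agent.S2490
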