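import Cfsg.Statements.S2495
import Cfsg.Agent.Lib.Small.SingerCentralizer
import Cfsg.Agent.Lib.Small.ClassNumber.Main
import Cfsg.Agent.S2904

set_option autoImplicit false
set_option linter.style.haveILetI false
open Cfsg

namespace Cfsg.Agent.S2495

open Matrix

variable {F : Type*} [Field F] [Fintype F] {q n : ℕ}

/-- A Singer cycle with determinant of full order. -/
theorem exists_singer (hF : Fintype.card F = q) (hn : 1 ≤ n) :
    ∃ s : GL (Fin n) F, orderOf s = q ^ n - 1 ∧ ∀ k : ℕ, GeneralLinearGroup.det (s ^ k) = 1 → q - 1 ∣ k := by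
  classical
  obtain ⟨p, hp⟩ := CharP.exists F
  haveI := hp
  haveI : Fact p.Prime := ⟨CharP.char_is_prime F p⟩
  haveI : NeZero n := ⟨by omega⟩
  let K := FiniteField.Extension F p n
  have hK : Module.finrank F K = n := FiniteField.finrank_extension F p n
  haveI : Module.Finite F K := Module.finite_of_finrank_eq_succ (n := n - 1) (by omega)
  haveI : Finite K := Module.finite_of_finite F
  let b : Module.Basis (Fin n) F K := Module.finBasisOfFinrankEq F K hK
  obtain ⟨g, hg⟩ := IsCyclic.exists_generator (α := Kˣ)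
  let φ : Kˣ →* GL (Fin n) F := Units.map (Algebra.leftMulMatrix b : K →ₐ[F] _).toMonoidHom
  have hφ : Function.Injective φ := Units.map_injective (Algebra.leftMulMatrix_injective b)
  refine ⟨φ g, ?_, fun k hk => ?_⟩
  · rw [orderOf_injective φ hφ, orderOf_eq_card_of_forall_mem_zpowers hg, Nat.card_units,
      Module.natCard_eq_pow_finrank (K := F) (V := K), hK, Nat.card_eq_fintype_card, hF]
  · have hdet : ∀ u : Kˣ, GeneralLinearGroup.det (φ u) = Units.map (Algebra.norm F (S := K)) u := fun u => by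
      ext
      simp [φ, Algebra.norm_eq_matrix_det b]
    rw [← map_pow, hdet, map_pow] at hk
    have hgen : ∀ x : Fˣ, x ∈ Subgroup.zpowers (Units.map (Algebra.norm F (S := K)) g) := by
      intro x
      obtain ⟨u, rfl⟩ := FiniteField.unitsMap_norm_surjective F K x
      rw [← MonoidHom.map_zpowers]
      exact Subgroup.mem_map_of_mem _ (hg u)
    have := orderOf_dvd_of_pow_eq_one hk
    rwa [orderOf_eq_card_of_forall_mem_zpowers hgen, Nat.card_units, Nat.card_eq_fintype_card, hF] at this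

/-- A cyclic group has one subgroup of each order. -/
theorem subgroup_eq_of_card {A : Type*} [Group A] [Finite A] [IsCyclic A] (S T : Subgroup A)
    (h : Nat.card S = Nat.card T) : S = T := by
  classical
  haveI := Fintype.ofFinite A
  have key : ∀ R : Subgroup A, (R : Set A).toFinset = Finset.univ.filter fun a : A => a ^ Nat.card R = 1 := by
    intro R
    refine Finset.eq_of_subset_of_card_le (fun a ha => ?_) ?_
    · rw [Set.mem_toFinset, SetLike.mem_coe] at ha
      rw [Finset.mem_filter]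
      exact ⟨Finset.mem_univ _, congrArg Subtype.val (pow_card_eq_one' (x := (⟨a, ha⟩ : R)))⟩
    · refine (IsCyclic.card_pow_eq_one_le (Nat.card_pos (α := R))).trans (le_of_eq ?_)
      rw [Set.toFinset_card, ← Nat.card_eq_fintype_card]
      rfl
  apply SetLike.coe_injective
  rw [← Set.toFinset_inj, key, key, h]

/-- An element of prime order whose centraliser is cyclic lies in cyclic Sylow subgroups only. -/
theorem conj_of_cyclic_centralizers {G : Type*} [Group G] [Finite G] {r : ℕ} [Fact r.Prime] (y y₀ : G)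
    (hy : orderOf y = r) (hy₀ : orderOf y₀ = r)
    (hc : ∀ z : G, orderOf z = r → IsCyclic ↥(Subgroup.centralizer ({z} : Set G))) :
    ∃ g : G, ∀ x, x ∈ Subgroup.centralizer ({y} : Set G) → g * x * g⁻¹ ∈ Subgroup.centralizer ({y₀} : Set G) := by
  have hin : ∀ (z : G), orderOf z = r → ∀ P : Sylow r G, z ∈ (P : Subgroup G) →
      IsCyclic ↥(P : Subgroup G) := by
    intro z hz P hzP
    haveI : Nontrivial ↥(P : Subgroup G) := by
      refine (Subgroup.nontrivial_iff_ne_bot _).2 fun h => ?_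
      rw [h, Subgroup.mem_bot] at hzP
      rw [hzP, orderOf_one] at hz
      exact (Fact.out : r.Prime).ne_one hz.symm
    haveI : Nontrivial (Subgroup.center ↥(P : Subgroup G)) := IsPGroup.center_nontrivial P.isPGroup'
    obtain ⟨w, hw⟩ := exists_ne (1 : Subgroup.center ↥(P : Subgroup G))
    obtain ⟨m, hm⟩ := (P.isPGroup'.to_subgroup (Subgroup.center ↥(P : Subgroup G))).exists_card_eq
    have hmr : r ∣ Nat.card (Subgroup.center ↥(P : Subgroup G)) := by
      rw [hm]
      refine dvd_pow_self r fun h0 => hw ?_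
      rw [h0, pow_zero, Nat.card_eq_one_iff_unique] at hm
      exact hm.1.elim _ _
    obtain ⟨c, hc'⟩ := exists_prime_orderOf_dvd_card' r hmr
    let c' : G := ((c : ↥(P : Subgroup G)) : G)
    have hc2 : orderOf c' = r := by
      rw [show c' = (c : ↥(P : Subgroup G)).1 from rfl, Subgroup.orderOf_coe, Subgroup.orderOf_coe, hc']
    haveI := hc c' hc2
    refine isCyclic_of_injective (Subgroup.inclusion (?_ : (P : Subgroup G) ≤ Subgroup.centralizer ({c'} : Set G)))
      (Subgroup.inclusion_injective _)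
    intro x hx
    rw [Subgroup.mem_centralizer_singleton_iff]
    exact (congrArg Subtype.val ((Subgroup.mem_center_iff.1 c.2) ⟨x, hx⟩))
  obtain ⟨P, hP⟩ := (IsPGroup.of_card (n := 1) (by rw [Nat.card_zpowers, hy, pow_one]) :
    IsPGroup r ↥(Subgroup.zpowers y)).exists_le_sylow
  obtain ⟨P₀, hP₀⟩ := (IsPGroup.of_card (n := 1) (by rw [Nat.card_zpowers, hy₀, pow_one]) :
    IsPGroup r ↥(Subgroup.zpowers y₀)).exists_le_sylow
  obtain ⟨g, hg⟩ := MulAction.exists_smul_eq G P P₀
  haveI := hin y₀ hy₀ P₀ (hP₀ (Subgroup.mem_zpowers y₀))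
  have hmem : g * y * g⁻¹ ∈ (P₀ : Subgroup G) := by
    rw [← hg, Sylow.coe_subgroup_smul]
    exact Subgroup.smul_mem_pointwise_smul y (MulAut.conj g) _ (hP (Subgroup.mem_zpowers y))
  have hord : orderOf (g * y * g⁻¹) = r := by
    rw [← hy]
    exact MulEquiv.orderOf_eq (MulAut.conj g) y
  -- one subgroup of each order in a cyclic group
  have hz : Subgroup.zpowers (⟨g * y * g⁻¹, hmem⟩ : ↥(P₀ : Subgroup G)) =
      Subgroup.zpowers (⟨y₀, hP₀ (Subgroup.mem_zpowers y₀)⟩ : ↥(P₀ : Subgroup G)) := by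
    apply subgroup_eq_of_card
    rw [Nat.card_zpowers, Nat.card_zpowers, Subgroup.orderOf_mk, Subgroup.orderOf_mk, hord, hy₀]
  obtain ⟨k, hk⟩ := Subgroup.mem_zpowers_iff.1 (hz ▸ Subgroup.mem_zpowers _ :
    (⟨y₀, hP₀ (Subgroup.mem_zpowers y₀)⟩ : ↥(P₀ : Subgroup G)) ∈ Subgroup.zpowers ⟨g * y * g⁻¹, hmem⟩)
  refine ⟨g, fun x hx => ?_⟩
  rw [Subgroup.mem_centralizer_singleton_iff] at hx ⊢
  have hk' : (g * y * g⁻¹) ^ k = y₀ := congrArg Subtype.val hk
  rw [← hk']
  refine (Commute.zpow_right ?_ k).eq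
  show MulAut.conj g x * MulAut.conj g y = MulAut.conj g y * MulAut.conj g x
  rw [← map_mul, ← map_mul, hx]

/-- The arithmetic of the criterion. -/
theorem criterion {m : ℕ} (hq : 2 ≤ q) (hm : 1 ≤ m) :
    (q ^ m + 1) * Nat.gcd (2 * m) (q - 1) ∣ (q ^ (2 * m) - 1) / (q - 1) ↔
      padicValNat 2 (q - 1) < padicValNat 2 (2 * m) := by
  obtain ⟨S, hS⟩ : ∃ S, S = ∑ i ∈ Finset.range m, q ^ i := ⟨_, rfl⟩
  have hgeom : (q - 1) * S = q ^ m - 1 := by
    rw [hS, Nat.geomSum_eq hq, Nat.mul_div_cancel']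
    simpa using Nat.sub_dvd_pow_sub_pow q 1 m
  have hfac : (q ^ (2 * m) - 1) / (q - 1) = (q ^ m + 1) * S := by
    refine Nat.div_eq_of_eq_mul_left (by omega) ?_
    rw [mul_assoc, mul_comm S, hgeom, ← Nat.sq_sub_sq, one_pow, ← pow_mul, mul_comm m]
  rw [hfac, Nat.mul_dvd_mul_iff_left (by positivity)]
  obtain ⟨D, hD⟩ : ∃ D, D = Nat.gcd (2 * m) (q - 1) := ⟨_, rfl⟩
  have hDq : D ∣ q - 1 := hD ▸ Nat.gcd_dvd_right _ _
  have hDm : D ∣ 2 * m := hD ▸ Nat.gcd_dvd_left _ _
  have hmod : (S : ZMod D) = m := by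
    have h1 : (q : ZMod D) = 1 := by
      have := (ZMod.natCast_eq_zero_iff (q - 1) D).2 hDq
      rwa [Nat.cast_sub (by omega), Nat.cast_one, sub_eq_zero] at this
    simp [hS, h1]
  rw [← hD, ← ZMod.natCast_eq_zero_iff, hmod, ZMod.natCast_eq_zero_iff]
  haveI : Fact (Nat.Prime 2) := ⟨Nat.prime_two⟩
  rw [padicValNat.mul (by norm_num) (by omega), padicValNat.self (by norm_num)]
  constructor
  · intro h
    by_contra hv
    have h1 : 2 ^ (1 + padicValNat 2 m) ∣ D := by
      rw [hD]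
      refine Nat.dvd_gcd ?_ ((pow_dvd_pow 2 (not_lt.1 hv)).trans pow_padicValNat_dvd)
      rw [pow_add, pow_one]
      exact mul_dvd_mul_left 2 pow_padicValNat_dvd
    exact pow_succ_padicValNat_not_dvd (p := 2) (by omega : m ≠ 0) (by rw [add_comm]; exact h1.trans h)
  · intro hv
    obtain ⟨a, ha⟩ : ∃ a, a = padicValNat 2 (q - 1) := ⟨_, rfl⟩
    obtain ⟨e, o, ho, hDe⟩ : ∃ e o, ¬ 2 ∣ o ∧ D = 2 ^ e * o :=
      Nat.exists_eq_pow_mul_and_not_dvd (fun h => by rw [h, zero_dvd_iff] at hDq; omega) 2 (by norm_num)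
    have he : e ≤ a := by
      rw [ha]
      exact (padicValNat_dvd_iff_le (by omega)).1 ((dvd_mul_right _ o).trans (hDe ▸ hDq))
    have hco : Nat.Coprime o 2 := ((Nat.prime_two.coprime_iff_not_dvd).2 ho).symm
    rw [hDe]
    refine Nat.Coprime.mul_dvd_of_dvd_of_dvd (hco.symm.pow_left e) ?_
      (hco.dvd_of_dvd_mul_left ((dvd_mul_left o _).trans (hDe ▸ hDm)))
    exact (pow_dvd_pow 2 (show e ≤ padicValNat 2 m by omega)).trans pow_padicValNat_dvd

end Cfsg.Agent.S2495

namespace Cfsg.Agent.S2495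
open Matrix

/-- Let q be an odd prime power, n ≥ 4 even, and L = PSL(n,q). Then L has an element of order q^(n/2) + 1 if and only if the 2-part of n exceeds the 2-part of q − 1. -/
theorem result {F : Type*} [Field F] [Fintype F] {q : ℕ} (hF : Fintype.card F = q) (hodd : Odd q)
    {n : ℕ} (hn : 4 ≤ n) (heven : Even n) :
    (∃ g : Matrix.ProjectiveSpecialLinearGroup (Fin n) F, orderOf g = q ^ (n / 2) + 1) ↔
      padicValNat 2 (q - 1) < padicValNat 2 n := by
  classical
  obtain ⟨m, rfl⟩ : ∃ m, n = 2 * m := ⟨n / 2, by obtain ⟨k, hk⟩ := heven; omega⟩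
  rw [Nat.mul_div_cancel_left m two_pos]
  have hq : 2 ≤ q := by rw [← hF]; exact Fintype.one_lt_card
  obtain ⟨D, hD⟩ : ∃ D, D = Nat.gcd (2 * m) (q - 1) := ⟨_, rfl⟩
  rw [← criterion hq (by omega : 1 ≤ m), ← hD]
  obtain ⟨N, hN⟩ : ∃ N, N = q ^ m + 1 := ⟨_, rfl⟩
  obtain ⟨M, hM⟩ : ∃ M, M = (q ^ (2 * m) - 1) / (q - 1) := ⟨_, rfl⟩
  rw [← hN, ← hM]
  have hqM : (q - 1) * M = q ^ (2 * m) - 1 := by
    rw [hM, Nat.mul_div_cancel']
    simpa using Nat.sub_dvd_pow_sub_pow q 1 (2 * m)
  let SLn := Matrix.SpecialLinearGroup (Fin (2 * m)) F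
  let ι : SLn →* GL (Fin (2 * m)) F := Matrix.SpecialLinearGroup.toGL
  have hι : Function.Injective ι := fun a b h => Subtype.ext (congrArg Units.val h)
  have hZ : Nat.card (Subgroup.center SLn) = D := by
    rw [Small.ClassNumber.card_center (by omega), hF, hD]
  have hιdet : ∀ x : SLn, GeneralLinearGroup.det (ι x) = 1 := fun x => Units.ext x.2
  obtain ⟨s, hs, hsdet⟩ := exists_singer (F := F) (n := 2 * m) hF (by omega)
  constructor
  · rintro ⟨g, hg⟩
    obtain ⟨r, hr, hrd, hrprim⟩ := S2904.result q (2 * m) (by omega) (by omega)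
      (fun h => by rw [h.1] at hodd; exact absurd hodd (by decide)) (by omega)
    haveI : Fact r.Prime := ⟨hr⟩
    have hrN : r ∣ N := by
      have h2 : q ^ (2 * m) - 1 = (q ^ m + 1) * (q ^ m - 1) := by
        rw [← Nat.sq_sub_sq, one_pow, ← pow_mul, mul_comm m]
      rw [h2, hr.dvd_mul] at hrd
      exact hN ▸ hrd.resolve_right (hrprim m (by omega) (by omega))
    have hrq : ¬ r ∣ q - 1 := fun h => hrprim 1 one_pos (by omega) (by rwa [pow_one])
    have hq0 : (q : ZMod r) ≠ 0 := by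
      intro h0
      have h1 := (ZMod.natCast_eq_zero_iff _ _).2 hrd
      rw [Nat.cast_sub (Nat.one_le_pow _ _ (by omega)), Nat.cast_pow, h0, zero_pow (by omega), Nat.cast_one] at h1
      simp at h1
    have hone : ∀ k, (q : ZMod r) ^ k = 1 → r ∣ q ^ k - 1 := fun k hk => by
      rw [← ZMod.natCast_eq_zero_iff, Nat.cast_sub (Nat.one_le_pow _ _ (by omega)), Nat.cast_pow, hk,
        Nat.cast_one, sub_self]
    have hi : orderOf (q : ZMod r) = 2 * m := by
      refine (orderOf_eq_iff (by omega)).2 ⟨?_, fun k hk hk0 h => hrprim k hk0 hk (hone k h)⟩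
      have := (ZMod.natCast_eq_zero_iff _ _).2 hrd
      rwa [Nat.cast_sub (Nat.one_le_pow _ _ (by omega)), Nat.cast_pow, Nat.cast_one, sub_eq_zero] at this
    obtain ⟨p, hchar⟩ := CharP.exists F
    haveI : Fact p.Prime := ⟨CharP.char_is_prime F p⟩
    have hrp : r ≠ p := by
      rintro rfl
      refine hq0 ((ZMod.natCast_eq_zero_iff _ _).2 ?_)
      obtain ⟨e, -, he⟩ := FiniteField.card F r
      rw [← hF, he]
      exact dvd_pow_self r e.ne_zero
    obtain ⟨x, rfl⟩ := QuotientGroup.mk_surjective g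
    -- an element of order `r` in the preimage
    obtain ⟨y, hy⟩ : ∃ y, y = x ^ (N / r * D) := ⟨_, rfl⟩
    have hrD : r.Coprime D := (hr.coprime_iff_not_dvd).2 fun h => hrq (h.trans (hD ▸ Nat.gcd_dvd_right _ _))
    have hyr : y ^ r = 1 := by
      have hxN : x ^ N ∈ Subgroup.center SLn := by
        rw [← QuotientGroup.eq_one_iff, QuotientGroup.mk_pow, ← hg, pow_orderOf_eq_one]
      rw [hy, ← pow_mul, mul_right_comm, Nat.div_mul_cancel hrN, pow_mul, ← hZ]
      exact congrArg Subtype.val (pow_card_eq_one' (x := (⟨_, hxN⟩ : Subgroup.center SLn)))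
    have hy1 : y ≠ 1 := by
      intro h
      have h1 : (QuotientGroup.mk x : SLn ⧸ Subgroup.center SLn) ^ (N / r * D) = 1 := by
        rw [← QuotientGroup.mk_pow, ← hy, h, QuotientGroup.mk_one]
      have h2 := orderOf_dvd_of_pow_eq_one h1
      rw [hg] at h2
      rw [← Nat.div_mul_cancel hrN, Nat.mul_div_cancel _ hr.pos] at h2
      have h3 := Nat.dvd_of_mul_dvd_mul_left (Nat.div_pos (Nat.le_of_dvd (by omega) hrN) hr.pos) h2
      exact hr.one_lt.ne' (Nat.dvd_one.1 (hrD.dvd_of_dvd_mul_left (by simpa using h3)))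
    have hyo : orderOf (ι y) = r := by
      rw [orderOf_injective ι hι]
      exact orderOf_eq_prime hyr hy1
    have hcyc : ∀ z : GL (Fin (2 * m)) F, orderOf z = r → IsCyclic ↥(Subgroup.centralizer ({z} : Set _)) ∧
        Nat.card ↥(Subgroup.centralizer ({z} : Set _)) = q ^ (2 * m) - 1 := fun z hz =>
      Small.SingerCentralizer.centralizer_cyclic hF (by omega) hr hrp hi z hz
    have hrs : r ∣ orderOf s := by rw [hs]; exact hrd
    obtain ⟨y₀, hy₀def⟩ : ∃ y₀, y₀ = s ^ (orderOf s / r) := ⟨_, rfl⟩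
    have hy₀ : orderOf y₀ = r := hy₀def ▸ orderOf_pow_orderOf_div (orderOf_pos s).ne' hrs
    obtain ⟨c, hc⟩ := conj_of_cyclic_centralizers (ι y) y₀ hyo hy₀ fun z hz => (hcyc z hz).1
    have hC0 : Subgroup.centralizer ({y₀} : Set (GL (Fin (2 * m)) F)) = Subgroup.zpowers s := by
      refine (Subgroup.eq_of_le_of_card_ge ?_ (le_of_eq ?_)).symm
      · rw [Subgroup.zpowers_le, Subgroup.mem_centralizer_singleton_iff, hy₀def]
        exact (Commute.refl s).pow_right _
      · rw [(hcyc y₀ hy₀).2, Nat.card_zpowers, hs]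
    -- the determinant one part of the centraliser of `y`
    let H := Subgroup.centralizer ({y} : Set SLn)
    haveI := (hcyc (ι y) hyo).1
    have hmem : ∀ a : H, ι (a : SLn) ∈ Subgroup.centralizer ({ι y} : Set (GL (Fin (2 * m)) F)) := fun a => by
      rw [Subgroup.mem_centralizer_singleton_iff, ← map_mul, ← map_mul,
        Subgroup.mem_centralizer_singleton_iff.1 a.2]
    let j : H →* ↥(Subgroup.centralizer ({ι y} : Set (GL (Fin (2 * m)) F))) :=
      (ι.comp H.subtype).codRestrict _ hmem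
    have hHc : IsCyclic H := isCyclic_of_injective j fun a b h => Subtype.ext (hι (congrArg Subtype.val h))
    have hexp : Monoid.exponent H ∣ M := by
      refine Monoid.exponent_dvd_of_forall_pow_eq_one fun a => Subtype.ext (hι ?_)
      rw [Subgroup.coe_pow, Subgroup.coe_one, map_one, map_pow]
      have h1 := hc _ (hmem a)
      rw [hC0, ← mem_powers_iff_mem_zpowers] at h1
      obtain ⟨k, hk⟩ := h1
      simp only at hk
      have h2 : GeneralLinearGroup.det (s ^ k) = 1 := by
        rw [hk, map_mul, map_mul, hιdet, map_inv, mul_one, mul_inv_cancel]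
      obtain ⟨l, hl⟩ := hsdet k h2
      have h3 : (c * ι (a : SLn) * c⁻¹) ^ M = 1 := by
        rw [← hk, ← pow_mul, hl, show (q - 1) * l * M = (q - 1) * M * l by ring, hqM, pow_mul, ← hs,
          pow_orderOf_eq_one, one_pow]
      rw [conj_pow] at h3
      simpa using h3
    rw [IsCyclic.exponent_eq_card] at hexp
    have hle : Subgroup.center SLn ≤ H := Subgroup.center_le_centralizer _
    have hxH : x ∈ H := by
      rw [Subgroup.mem_centralizer_singleton_iff, hy]
      exact (Commute.refl x).pow_right _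
    refine dvd_trans ?_ hexp
    have hcard : Nat.card H = Nat.card (H.map (QuotientGroup.mk' (Subgroup.center SLn))) * D := by
      rw [← Subgroup.relIndex_ker, QuotientGroup.ker_mk', ← hZ,
        ← Nat.card_congr (Subgroup.subgroupOfEquivOfLe hle).toEquiv]
      exact ((Subgroup.center SLn).subgroupOf H).index_mul_card.symm
    rw [hcard]
    refine mul_dvd_mul_right ?_ D
    have h5 := _root_.orderOf_dvd_natCard (⟨_, Subgroup.mem_map_of_mem (QuotientGroup.mk' (Subgroup.center SLn)) hxH⟩ :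
      H.map (QuotientGroup.mk' (Subgroup.center SLn)))
    rw [Subgroup.orderOf_mk] at h5
    exact hg ▸ h5
  · intro h
    obtain ⟨u, hu⟩ : ∃ u, u = s ^ (q - 1) := ⟨_, rfl⟩
    have hdet1 : GeneralLinearGroup.det u = 1 := by
      rw [hu, map_pow, show q - 1 = Fintype.card Fˣ by rw [Fintype.card_units, hF], pow_card_eq_one]
    obtain ⟨x, hx⟩ : ∃ x : SLn, ι x = u := ⟨⟨u.1, congrArg Units.val hdet1⟩, Units.ext rfl⟩
    have hxo : orderOf x = M := by
      rw [← orderOf_injective ι hι, hx, hu, orderOf_pow_of_dvd (by omega) (hs ▸ hqM ▸ dvd_mul_right _ _), hs,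
        ← hqM, Nat.mul_div_cancel_left _ (by omega)]
    obtain ⟨o, ho⟩ : ∃ o, o = orderOf (QuotientGroup.mk x : SLn ⧸ Subgroup.center SLn) := ⟨_, rfl⟩
    have hMo : M ∣ o * D := by
      rw [← hxo, orderOf_dvd_iff_pow_eq_one, pow_mul, ← hZ]
      have hmem : x ^ o ∈ Subgroup.center SLn := by
        rw [← QuotientGroup.eq_one_iff, QuotientGroup.mk_pow, ho, pow_orderOf_eq_one]
      exact congrArg Subtype.val (pow_card_eq_one' (x := (⟨_, hmem⟩ : Subgroup.center SLn)))
    have hNo : N ∣ o := Nat.dvd_of_mul_dvd_mul_right (hZ ▸ Nat.card_pos) (h.trans hMo)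
    rw [ho] at hNo
    exact ⟨_, orderOf_pow_orderOf_div (orderOf_pos _).ne' hNo⟩

end Cfsg.Agent.S2495
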