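import Cfsg.Statements.S2506
import Cfsg.Agent.Lib.Solv.AbelianPermConj

set_option autoImplicit false
open scoped Pointwise
open Cfsg

namespace Cfsg.Agent.S2506

/-- In the alternating group of any degree, any two abelian subgroups of the largest possible order (among abelian subgroups) are conjugate. -/
theorem result (n : ℕ)
    (A B : Subgroup (alternatingGroup (Fin n))) (hA : IsMulCommutative A) (hB : IsMulCommutative B)
    (hAmax : ∀ C : Subgroup (alternatingGroup (Fin n)), IsMulCommutative C → Nat.card C ≤ Nat.card A)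
    (hBmax : ∀ C : Subgroup (alternatingGroup (Fin n)), IsMulCommutative C → Nat.card C ≤ Nat.card B) :
    ∃ g : alternatingGroup (Fin n), B = MulAut.conj g • A := by
  classical
  have hmap : ∀ C : Subgroup ↥(alternatingGroup (Fin n)), IsMulCommutative ↥C →
      (∀ x y : ↥(C.map (alternatingGroup (Fin n)).subtype), x * y = y * x) ∧ ∀ g ∈ C.map (alternatingGroup (Fin n)).subtype, Equiv.Perm.sign g = 1 := by
    intro C hC
    refine ⟨?_, fun g ⟨k, _, e⟩ => e ▸ Equiv.Perm.mem_alternatingGroup.1 k.2⟩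
    rintro ⟨_, x, hx, rfl⟩ ⟨_, y, hy, rfl⟩
    exact Subtype.ext (congrArg (fun t : ↥C => ((t : ↥(alternatingGroup (Fin n))) : Equiv.Perm (Fin n)))
      (mul_comm' (⟨x, hx⟩ : ↥C) ⟨y, hy⟩) :)
  obtain ⟨K, hKc, hKs, hK⟩ := Solv.AbPerm.exists_max n (α := Fin n) (Nat.card_fin n)
  have hle : K ≤ alternatingGroup (Fin n) := fun g hg => Equiv.Perm.mem_alternatingGroup.2 (hKs g hg)
  have hKC : IsMulCommutative ↥(K.subgroupOf (alternatingGroup (Fin n))) := ⟨⟨fun x y => Subtype.ext (Subtype.ext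
    (congrArg Subtype.val (hKc ⟨_, x.2⟩ ⟨_, y.2⟩) :))⟩⟩
  have hcard : ∀ C : Subgroup ↥(alternatingGroup (Fin n)), IsMulCommutative ↥C →
      (∀ D : Subgroup ↥(alternatingGroup (Fin n)), IsMulCommutative ↥D → Nat.card ↥D ≤ Nat.card ↥C) →
      Nat.card ↥(C.map (alternatingGroup (Fin n)).subtype) = Solv.AbPerm.AB n := by
    intro C hC hmax
    refine le_antisymm (Solv.AbPerm.alt_bound n _ (Nat.card_fin n) (hmap C hC).1 (hmap C hC).2).1 ?_
    rw [Solv.card_map_subtype, ← hK, ← Solv.card_subgroupOf hle]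
    exact hmax _ hKC
  have hA2 := hcard A hA hAmax
  have hB2 := hcard B hB hBmax
  by_cases hn2 : n ≤ 2
  · have h1 : Solv.AbPerm.AB n = 1 := by interval_cases n <;> rfl
    refine ⟨1, ?_⟩
    rw [map_one, one_smul]
    exact Subgroup.map_injective (alternatingGroup (Fin n)).subtype_injective
      ((Subgroup.card_eq_one.1 (hB2.trans h1)).trans (Subgroup.card_eq_one.1 (hA2.trans h1)).symm)
  obtain ⟨π, hπ⟩ := Solv.AbPerm.conj_max n (A.map (alternatingGroup (Fin n)).subtype) (B.map (alternatingGroup (Fin n)).subtype) (Nat.card_fin n) (Nat.card_fin n)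
    (hmap A hA).1 (hmap B hB).1 (hmap A hA).2 (hmap B hB).2 hA2 hB2
  -- correct the parity inside one block
  obtain ⟨σ, hσ, hπσ⟩ : ∃ σ : Equiv.Perm (Fin n), Equiv.Perm.sign σ = 1 ∧
      (A.map (alternatingGroup (Fin n)).subtype).map σ.permCongrHom.toMonoidHom = B.map (alternatingGroup (Fin n)).subtype := by
    rcases Int.units_eq_one_or (Equiv.Perm.sign (π : Equiv.Perm (Fin n))) with h | h
    · exact ⟨π, h, hπ⟩
    obtain ⟨p, hp, hpc, hR, hRK, hRs, -⟩ := (Solv.AbPerm.alt_bound n (A.map (alternatingGroup (Fin n)).subtype) (Nat.card_fin n)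
      (hmap A hA).1 (hmap A hA).2).2 (by omega) hA2
    obtain ⟨c, hc1, hc⟩ := Solv.AbPerm.block_conj (β := {x // p x}) (by rw [hpc]; exact Solv.AbPerm.T_cases n)
      (Solv.NilPerm.res (A.map (alternatingGroup (Fin n)).subtype) p hp).range (Solv.NilPerm.res (A.map (alternatingGroup (Fin n)).subtype) p hp).range
      (by rw [hR, hpc]) (by rw [hR, hpc]) (by rintro _ ⟨g, rfl⟩; exact hRs g) (by rintro _ ⟨g, rfl⟩; exact hRs g) (-1)
    set τ := Equiv.Perm.subtypeCongrHom p (c, 1) with hτ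
    have hτs : Equiv.Perm.sign τ = -1 := by
      show Equiv.Perm.sign (Equiv.Perm.subtypeCongr c 1) = -1
      rw [Equiv.Perm.sign_subtypeCongr, hc1, map_one, mul_one]
    refine ⟨π * τ, by rw [map_mul, h, hτs]; rfl, ?_⟩
    have hfix : (A.map (alternatingGroup (Fin n)).subtype).map τ.permCongrHom.toMonoidHom = A.map (alternatingGroup (Fin n)).subtype := by
      have hglue := Solv.AbPerm.eq_glue hp (by rw [hR, hRK, (Solv.AbPerm.T_mul n (by omega)).2, hA2])
      have hconj : ∀ a b, τ.permCongr (Equiv.Perm.subtypeCongrHom p (a, b)) =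
          Equiv.Perm.subtypeCongrHom p (c.permCongr a, b) := by
        intro a b
        rw [Equiv.permCongr_eq_mul, hτ, ← map_inv, ← map_mul, ← map_mul, Prod.inv_mk, Prod.mk_mul_mk,
          Prod.mk_mul_mk, inv_one, one_mul, mul_one, Equiv.permCongr_eq_mul]
      conv_lhs => rw [hglue]
      conv_rhs => rw [hglue]
      ext g
      constructor
      · rintro ⟨_, ⟨⟨a, b⟩, ⟨ha, hb⟩, rfl⟩, rfl⟩
        refine ⟨(c.permCongr a, b), ⟨?_, hb⟩, (hconj a b).symm⟩
        show c.permCongr a ∈ (Solv.NilPerm.res (A.map (alternatingGroup (Fin n)).subtype) p hp).range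
        rw [← hc]
        exact ⟨a, ha, rfl⟩
      · rintro ⟨⟨a', b⟩, ⟨ha', hb⟩, rfl⟩
        have ha'' : a' ∈ (Solv.NilPerm.res (A.map (alternatingGroup (Fin n)).subtype) p hp).range.map c.permCongrHom.toMonoidHom := hc.symm ▸ ha'
        obtain ⟨a, ha, rfl⟩ := ha''
        exact ⟨_, ⟨(a, b), ⟨ha, hb⟩, rfl⟩, hconj a b⟩
    conv_rhs => rw [← hπ, ← hfix, Subgroup.map_map]
    congr 1
  refine ⟨⟨σ, Equiv.Perm.mem_alternatingGroup.2 hσ⟩, Subgroup.map_injective (alternatingGroup (Fin n)).subtype_injective ?_⟩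
  rw [← hπσ, Subgroup.map_map]
  show _ = (A.map (MulAut.conj (⟨σ, _⟩ : ↥(alternatingGroup (Fin n)))).toMonoidHom).map (alternatingGroup (Fin n)).subtype
  rw [Subgroup.map_map]
  congr 1

end Cfsg.Agent.S2506
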