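import Cfsg.Statements.S2509
import Cfsg.Agent.Lib.Classical.Pronormal.SpProduct
import Cfsg.Agent.Lib.Classical.Pronormal.SpSingle
import Cfsg.Agent.Lib.Classical.Pronormal.SpModel

set_option autoImplicit false
open Cfsg

namespace Cfsg.Agent.S2509

open Cfsg.Agent.Classical.SpPro Cfsg.Agent.Classical.OddPronormal Cfsg.Agent.Perm.Pronormal

universe u

/-- The facts on one factor. -/
theorem factor (F : Type u) [Field F] [Fintype F] (n : ℕ) (hodd : Fintype.card F % 2 = 1)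
    (hn : ∃ k : ℕ, n = 2 ^ k) :
    ∃ S : Sylow 2 (Ug F (Fin n)),
      (∀ g ∈ Subgroup.normalizer ((S : Subgroup (Ug F (Fin n))) : Set (Ug F (Fin n))),
        ∀ g' ∈ Subgroup.normalizer ((S : Subgroup (Ug F (Fin n))) : Set (Ug F (Fin n))),
          g * g' * g⁻¹ * g'⁻¹ ∈ (S : Subgroup (Ug F (Fin n)))) ∧
      ∀ R : Subgroup (Ug F (Fin n)), (S : Subgroup (Ug F (Fin n))) ≤ R →
        ∀ g ∈ Subgroup.normalizer ((S : Subgroup (Ug F (Fin n))) : Set (Ug F (Fin n))),
          g ∈ Subgroup.normalizer (R : Set (Ug F (Fin n))) ∨ g ∈ R ⊔ cj g R := by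
  classical
  haveI : Fact (Nat.Prime 2) := ⟨Nat.prime_two⟩
  obtain ⟨k, hk⟩ := hn
  haveI : Nonempty (Fin n) := ⟨⟨0, by rw [hk]; exact Nat.two_pow_pos k⟩⟩
  obtain ⟨Q, i, j, hq, hi, hj⟩ := exists_quat F hodd
  obtain ⟨W⟩ := (inferInstance : Nonempty (Sylow 2 (Equiv.Perm (Fin n))))
  have htr : ∀ a b : Fin n, ∃ σ ∈ (W : Subgroup (Equiv.Perm (Fin n))), σ a = b :=
    fun a b => sylow_perm_trans n k hk W a b
  have hsn := fun σ h => Cfsg.Agent.Lead.mem_sylow_two_perm_of_normalize n W σ h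
  obtain ⟨S, hS⟩ := exists_sylow_wr (ι := Fin n) hq hi W
  refine ⟨S, ?_, ?_⟩
  · intro g hg g' hg'
    rw [hS] at hg hg' ⊢
    obtain ⟨s, hs, c, hc, rfl⟩ := normalizer_wr hq hi htr hsn hg
    obtain ⟨s', hs', c', hc', rfl⟩ := normalizer_wr hq hi htr hsn hg'
    set S' : Subgroup (Ug F (Fin n)) := monG (W : Subgroup (Equiv.Perm (Fin n))) Q with hS'
    set N := Subgroup.normalizer (S' : Set (Ug F (Fin n)))
    have hC : ∀ d, ∀ x ∈ S', x * dg F (Fin n) (fun _ => d) ∈ N → dg F (Fin n) (fun _ => d) ∈ N :=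
      fun d x hx h => by
        have := N.mul_mem (Subgroup.le_normalizer (S'.inv_mem hx)) h
        rwa [inv_mul_cancel_left] at this
    have hCc := hC c s hs hg
    have hCc' := hC c' s' hs' hg'
    haveI := qIn_normal Q
    have hQc : c * c' * c⁻¹ * c'⁻¹ ∈ (Q : Subgroup _) := by
      have hidx := index_qIn_dvd hodd hq.sqi Q hi
      haveI : IsCyclic (nrm Q ⧸ qIn Q) := by
        rcases (Nat.dvd_prime Nat.prime_three).1 hidx with h | h
        · haveI : Subsingleton (nrm Q ⧸ qIn Q) :=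
            (Nat.card_eq_one_iff_unique.1 (show Nat.card (nrm Q ⧸ qIn Q) = 1 from h)).1
          exact isCyclic_of_subsingleton
        · haveI : Fact (Nat.Prime 3) := ⟨Nat.prime_three⟩
          exact isCyclic_of_prime_card (show Nat.card (nrm Q ⧸ qIn Q) = 3 from h)
      have h1 : (((⟨c, hc⟩ * ⟨c', hc'⟩ * ⟨c, hc⟩⁻¹ * ⟨c', hc'⟩⁻¹ : nrm Q)) : nrm Q ⧸ qIn Q) = 1 := by
        rw [QuotientGroup.mk_mul, QuotientGroup.mk_mul, QuotientGroup.mk_mul, QuotientGroup.mk_inv,
          QuotientGroup.mk_inv, (IsCyclic.commGroup).mul_comm ((⟨c, hc⟩ : nrm Q) : nrm Q ⧸ qIn Q),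
          mul_inv_cancel_right, mul_inv_cancel]
      exact Subgroup.mem_subgroupOf.1 ((QuotientGroup.eq_one_iff (N := qIn Q) _).1 h1)
    set A : N := ⟨_, hCc⟩
    set B : N := ⟨_, hCc'⟩
    set sA : N := ⟨s, Subgroup.le_normalizer hs⟩
    set sB : N := ⟨s', Subgroup.le_normalizer hs'⟩
    haveI : (S'.subgroupOf N).Normal :=
      ⟨fun x hx y => (Subgroup.mem_normalizer_iff.1 y.2 x).1 hx⟩
    have e1 : (sA : N ⧸ S'.subgroupOf N) = 1 := (QuotientGroup.eq_one_iff _).2 hs
    have e2 : (sB : N ⧸ S'.subgroupOf N) = 1 := (QuotientGroup.eq_one_iff _).2 hs'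
    have e3 : ((A * B * A⁻¹ * B⁻¹ : N) : N ⧸ S'.subgroupOf N) = 1 := by
      refine (QuotientGroup.eq_one_iff _).2 ?_
      show dg F (Fin n) (fun _ => c) * dg F (Fin n) (fun _ => c') * (dg F (Fin n) (fun _ => c))⁻¹ *
        (dg F (Fin n) (fun _ => c'))⁻¹ ∈ S'
      rw [← map_inv, ← map_inv, ← map_mul, ← map_mul, ← map_mul]
      exact dg_mem_monG.2 fun _ => hQc
    have e4 : ((sA * A * (sB * B) * (sA * A)⁻¹ * (sB * B)⁻¹ : N) : N ⧸ S'.subgroupOf N) = 1 := by
      simp only [QuotientGroup.mk_mul, QuotientGroup.mk_inv] at e3 ⊢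
      rw [e1, e2, one_mul, one_mul]
      exact e3
    exact Subgroup.mem_subgroupOf.1 ((QuotientGroup.eq_one_iff _).1 e4)
  · intro R hR g hg
    rw [hS] at hg hR
    obtain ⟨s, hs, c, hc, rfl⟩ := normalizer_wr hq hi htr hsn hg
    set C := dg F (Fin n) (fun _ => c)
    rcases single_factor hodd hq hi hj htr hR hc with h | h
    · exact Or.inl (mul_mem (Subgroup.le_normalizer (hR hs)) (cj_eq_self_iff.1 h))
    · right
      set J := R ⊔ cj (s * C) R
      have hsJ : s ∈ J := le_sup_left (α := Subgroup (Ug F (Fin n))) (hR hs)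
      have h1 : cj s (R ⊔ cj C R) = J := by
        rw [cj_sup, cj_cj, cj_eq_self_of_mem (hR hs)]
      have h2 : s * C * s⁻¹ ∈ J := h1 ▸ ⟨C, h, rfl⟩
      have := mul_mem h2 hsJ
      rwa [inv_mul_cancel_right] at this

/-- Let G be a finite direct product of groups PSp_{2m_i}(F_i) (the symplectic group on a 2m_i-dimensional space modulo its centre), where each m_i is a power of 2 (m_i = 1, giving PSL₂, is allowed), each F_i is a finite field of odd order, and each factor PSp_{2m_i}(F_i) is a simple group. Then every subgroup H of G of odd index is pronormal in G: for every g ∈ G the subgroups H and gHg⁻¹ are conjugate by an element of the subgroup they generate. -/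
theorem result {t : ℕ}
    (m : Fin t → ℕ) (F : Fin t → Type*) [∀ i, Field (F i)] [∀ i, Fintype (F i)]
    (hm : ∀ i, ∃ k : ℕ, m i = 2 ^ k) (hodd : ∀ i, Odd (Fintype.card (F i)))
    (hs : ∀ i, IsSimpleGroup (Cfsg.PSp (m i) (F i)))
    (H : Subgroup (Π i, Cfsg.PSp (m i) (F i))) (hH : Odd H.index) : Cfsg.IsPronormal H := by
  classical
  haveI : Fact (Nat.Prime 2) := ⟨Nat.prime_two⟩
  choose S hab hL using fun i => factor (F i) (m i) (Nat.odd_iff.1 (hodd i)) (hm i)
  obtain ⟨T, hT⟩ := exists_sylow_pi 2 S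
  let f : (∀ i, Ug (F i) (Fin (m i))) →* (Π i, Cfsg.PSp (m i) (F i)) :=
    MonoidHom.pi fun i =>
      ((QuotientGroup.mk' _).comp (toSp (F i) (m i))).comp (Pi.evalMonoidHom _ i)
  have hf : Function.Surjective f := by
    intro y
    choose x hx using fun i =>
      ((QuotientGroup.mk'_surjective _).comp (toSp_surjective (F := F i) (n := m i))) (y i)
    exact ⟨x, funext hx⟩
  exact of_surjective f hf
    (fun K hK => all_of_sylow T (fun L hL' => pi_pronormal 2 S hab hL hT hL') K hK) H hH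

end Cfsg.Agent.S2509
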