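import Cfsg.Statements.S2510
import Cfsg.Agent.Lib.Small.FieldMatrix
import Cfsg.Agent.Lib.Small.Spectrum

set_option autoImplicit false
open Cfsg

set_option maxHeartbeats 1000000
set_option linter.style.haveILetI false
open Matrix Polynomial

namespace Cfsg.Agent.S2510

variable {F : Type*} [Field F] {n : ℕ}

local notation "SLn" => Matrix.SpecialLinearGroup (Fin n) F
local notation "PSLn" => Matrix.ProjectiveSpecialLinearGroup (Fin n) F

/-- The projection to the projective group. -/
def proj : SLn →* PSLn :=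
  QuotientGroup.mk' (Subgroup.center (Matrix.SpecialLinearGroup (Fin n) F))

theorem proj_eq_one_iff (g : SLn) :
    proj g = 1 ↔ ∃ a : F, (g : Matrix (Fin n) (Fin n) F) = a • 1 := by
  rw [proj, QuotientGroup.mk'_apply, QuotientGroup.eq_one_iff,
    Matrix.SpecialLinearGroup.mem_center_iff]
  constructor
  · rintro ⟨a, -, ha⟩
    exact ⟨a, by rw [← ha, Matrix.scalar_apply, Matrix.smul_one_eq_diagonal]⟩
  · rintro ⟨a, ha⟩
    refine ⟨a, ?_, by rw [ha, Matrix.scalar_apply, Matrix.smul_one_eq_diagonal]⟩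
    have h := g.2
    rw [ha, Matrix.det_smul, Matrix.det_one, mul_one] at h
    exact h

theorem orderOf_proj_dvd (g : SLn) {N : ℕ} {a : F}
    (h : (g : Matrix (Fin n) (Fin n) F) ^ N = a • 1) : orderOf (proj g) ∣ N := by
  refine orderOf_dvd_of_pow_eq_one ?_
  rw [← map_pow, proj_eq_one_iff]
  exact ⟨a, by rw [Matrix.SpecialLinearGroup.coe_pow, h]⟩

theorem exists_pow_orderOf_proj (g : SLn) :
    ∃ a : F, (g : Matrix (Fin n) (Fin n) F) ^ orderOf (proj g) = a • 1 := by
  have h := pow_orderOf_eq_one (proj g)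
  rw [← map_pow, proj_eq_one_iff] at h
  simpa using h

/-- Elements whose order divides an order divisible by `r`. -/
def Good (r : ℕ) (x : PSLn) : Prop := ∃ y : PSLn, r ∣ orderOf y ∧ orderOf x ∣ orderOf y

theorem Good.of_dvd {r : ℕ} {x y : PSLn} (h : orderOf x ∣ orderOf y) (hy : Good r y) : Good r x :=
  let ⟨z, h1, h2⟩ := hy; ⟨z, h1, h.trans h2⟩

theorem good_of_idempotent [Fintype F] {r : ℕ} (hr : r.Prime) (hrq : r ∣ Fintype.card F - 1)
    (hrn : ¬ r ∣ n) (g : SLn) (E : Matrix (Fin n) (Fin n) F) (hE : E * E = E) (h0 : E ≠ 0)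
    (h1 : E ≠ 1) (hc : Commute E (g : Matrix (Fin n) (Fin n) F)) : Good r (proj g) := by
  classical
  haveI : Fact r.Prime := ⟨hr⟩
  obtain ⟨u, hu⟩ := exists_prime_orderOf_dvd_card' (G := Fˣ) r
    (by rwa [Nat.card_units, Nat.card_eq_fintype_card])
  set P : F → F → Matrix (Fin n) (Fin n) F := fun a b => a • E + b • (1 - E) with hP
  have hmul : ∀ a b c d, P a b * P c d = P (a * c) (b * d) := by
    intro a b c d
    have h01 : E * (1 - E) = 0 := by rw [mul_sub, mul_one, hE, sub_self]
    have h10 : (1 - E) * E = 0 := by rw [sub_mul, one_mul, hE, sub_self]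
    have h11 : (1 - E) * (1 - E) = 1 - E := by rw [mul_sub, mul_one, h10, sub_zero]
    simp only [hP, add_mul, mul_add, smul_mul_assoc, mul_smul_comm, hE, h01, h10, h11, smul_zero,
      add_zero, zero_add, smul_smul, mul_comm c a, mul_comm d b]
  have hPone : P 1 1 = 1 := by simp [hP]
  have hpow : ∀ (a : F) (k : ℕ), P a 1 ^ k = P (a ^ k) 1 := by
    intro a k
    induction k with
    | zero => simp [hPone]
    | succ k ih => rw [pow_succ, ih, hmul, pow_succ, one_mul]
  set x : F := (u : F) with hx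
  have hxr : x ^ r = 1 := by rw [hx, ← Units.val_pow_eq_pow_val, ← hu, pow_orderOf_eq_one]; rfl
  have hxn : x ^ n ≠ 1 := by
    intro h
    apply hrn
    rw [← hu, orderOf_dvd_iff_pow_eq_one]
    exact Units.ext (by simpa [hx] using h)
  set D := (P x 1).det with hD
  have hDr : D ^ r = 1 := by rw [hD, ← Matrix.det_pow, hpow, hxr, hPone, Matrix.det_one]
  have hD0 : D ≠ 0 := by
    intro h
    rw [h, zero_pow hr.ne_zero] at hDr
    exact zero_ne_one hDr
  set M : Matrix (Fin n) (Fin n) F := D⁻¹ • P (x ^ n) 1 with hM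
  have hMdet : M.det = 1 := by
    rw [hM, Matrix.det_smul, ← hpow, Matrix.det_pow, ← hD, Fintype.card_fin, inv_pow,
      inv_mul_cancel₀ (pow_ne_zero _ hD0)]
  let y : SLn := ⟨M, hMdet⟩
  have hy1 : proj y ≠ 1 := by
    rw [Ne, proj_eq_one_iff]
    rintro ⟨c, hc'⟩
    have hyM : (y : Matrix (Fin n) (Fin n) F) = M := rfl
    rw [hyM, hM] at hc'
    have e1 := congrArg (fun Z => Z * P 1 0) hc'
    have e2 := congrArg (fun Z => Z * P 0 1) hc'
    simp only [smul_mul_assoc, hmul, one_mul, mul_one, mul_zero] at e1 e2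
    simp only [hP, zero_smul, one_smul, add_zero, zero_add, smul_smul] at e1 e2
    have h1E : (1 : Matrix (Fin n) (Fin n) F) - E ≠ 0 := sub_ne_zero.mpr h1.symm
    have f1 := smul_left_injective F h0 e1
    have f2 := smul_left_injective F h1E e2
    apply hxn
    rw [← f2] at f1
    field_simp at f1
    exact f1
  have hyr : proj y ^ r = 1 := by
    rw [← map_pow, proj_eq_one_iff]
    refine ⟨1, ?_⟩
    rw [Matrix.SpecialLinearGroup.coe_pow]
    change M ^ r = _
    rw [hM, _root_.smul_pow, hpow, ← pow_mul, mul_comm n r, pow_mul, hxr, one_pow, hPone, inv_pow, hDr,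
      inv_one]
  have hord : orderOf (proj y) = r := orderOf_eq_prime hyr hy1
  by_cases hrg : r ∣ orderOf (proj g)
  · exact ⟨proj g, hrg, dvd_rfl⟩
  have hcomm : Commute (proj g) (proj y) := by
    apply Commute.map
    apply Subtype.ext
    change (g : Matrix (Fin n) (Fin n) F) * M = M * (g : Matrix (Fin n) (Fin n) F)
    have : Commute (g : Matrix (Fin n) (Fin n) F) M := by
      rw [hM]
      exact ((hc.symm.smul_right _).add_right
        (((Commute.one_right _).sub_right hc.symm).smul_right _)).smul_right _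
    exact this
  refine ⟨proj g * proj y, ?_, ?_⟩
  all_goals rw [hcomm.orderOf_mul_eq_mul_orderOf_of_coprime
    (by rw [hord]; exact ((hr.coprime_iff_not_dvd).mpr hrg).symm), hord]
  · exact dvd_mul_left _ _
  · exact dvd_mul_right _ _

/-- Either the minimal polynomial is a power of an irreducible, or a nontrivial idempotent commutes. -/
theorem primary_or_idempotent (hn : 1 ≤ n) (A : Matrix (Fin n) (Fin n) F) :
    (∃ E : Matrix (Fin n) (Fin n) F, E * E = E ∧ E ≠ 0 ∧ E ≠ 1 ∧ Commute E A) ∨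
    ∃ (f : F[X]) (k : ℕ), f.Monic ∧ Irreducible f ∧ 1 ≤ k ∧ k * f.natDegree ≤ n ∧
      aeval A (f ^ k) = 0 := by
  classical
  haveI : Nonempty (Fin n) := ⟨⟨0, hn⟩⟩
  have hint : IsIntegral F A := Matrix.isIntegral A
  set μ := minpoly F A with hμ
  obtain ⟨f, hfm, hfi, hfd⟩ := exists_monic_irreducible_factor μ (minpoly.not_isUnit F A)
  obtain ⟨k, rest, hrest, hμeq⟩ := WfDvdMonoid.max_power_factor (minpoly.ne_zero hint) hfi
  rw [← hμ] at hμeq
  have hcop : IsCoprime (f ^ k) rest := ((hfi.coprime_iff_not_dvd).mpr hrest).pow_left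
  have hk1 : 1 ≤ k := by
    rcases Nat.eq_zero_or_pos k with rfl | hk
    · rw [pow_zero, one_mul] at hμeq
      exact absurd (hμeq ▸ hfd) hrest
    · exact hk
  by_cases hu : IsUnit rest
  · right
    have hrm : rest.Monic := (hfm.pow k).of_mul_monic_left (hμeq ▸ minpoly.monic hint)
    rw [hrm.eq_one_of_isUnit hu, mul_one] at hμeq
    refine ⟨f, k, hfm, hfi, hk1, ?_, by rw [← hμeq, hμ, minpoly.aeval]⟩
    have hdeg := Polynomial.natDegree_le_of_dvd (Matrix.minpoly_dvd_charpoly A)
      A.charpoly_monic.ne_zero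
    rwa [← hμ, hμeq, natDegree_pow, Matrix.charpoly_natDegree_eq_dim, Fintype.card_fin] at hdeg
  · left
    obtain ⟨u, v, huv⟩ := hcop
    have hzero : aeval A (f ^ k * rest) = 0 := by rw [← hμeq, hμ, minpoly.aeval]
    refine ⟨aeval A (u * f ^ k), ?_, ?_, ?_, ?_⟩
    · rw [← map_mul]
      have : u * f ^ k * (u * f ^ k) = u * f ^ k - (u * v) * (f ^ k * rest) := by
        linear_combination (u * f ^ k) * huv
      rw [this, map_sub, map_mul _ (u * v), hzero, mul_zero, sub_zero]
    · intro h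
      have hd : f ^ k * rest ∣ u * f ^ k := hμeq ▸ minpoly.dvd F A h
      have hr' : rest ∣ u := by
        obtain ⟨c, hc⟩ := hd
        refine ⟨c, mul_right_cancel₀ (pow_ne_zero k hfi.ne_zero) ?_⟩
        linear_combination hc
      apply hu
      rw [isUnit_iff_dvd_one, ← huv]
      exact dvd_add (hr'.mul_right _) (dvd_mul_left _ _)
    · intro h
      have hv : aeval A (v * rest) = 0 := by
        have := congrArg (aeval A) huv
        rwa [map_add, h, map_one, add_eq_left] at this
      have hd : f ^ k * rest ∣ v * rest := hμeq ▸ minpoly.dvd F A hv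
      have hf' : f ∣ v := by
        have h2 : f ^ k ∣ v := (mul_dvd_mul_iff_right (minpoly.ne_zero hint |> fun h0 => by
          rw [← hμ, hμeq] at h0; exact right_ne_zero_of_mul h0)).mp hd
        exact (dvd_pow_self f (by omega)).trans h2
      apply hfi.not_isUnit
      rw [isUnit_iff_dvd_one, ← huv]
      exact dvd_add (dvd_mul_of_dvd_right (dvd_pow_self f (by omega)) _) (hf'.mul_right _)
    · exact ((Commute.refl (X : F[X])).map (aeval A) |> fun _ => by
        have := (Commute.all (u * f ^ k) X).map (aeval A)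
        simpa using this)

theorem pow_eq_smul_of_dvd (p : ℕ) [Fact p.Prime] [CharP F p] {A : Matrix (Fin n) (Fin n) F}
    {f : F[X]} {k : ℕ} (hA : aeval A (f ^ k) = 0) {N : ℕ} {a : F} (hf : f ∣ X ^ N - C a) {c : ℕ}
    (hc : k ≤ p ^ c) : A ^ (N * p ^ c) = a ^ p ^ c • 1 := by
  have h : f ^ k ∣ X ^ (N * p ^ c) - C (a ^ p ^ c) := by
    have : (X ^ N - C a : F[X]) ^ p ^ c = X ^ (N * p ^ c) - C (a ^ p ^ c) := by
      rw [sub_pow_char_pow, ← pow_mul, map_pow]
    rw [← this]
    exact (pow_dvd_pow_of_dvd hf k).trans (pow_dvd_pow _ hc)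
  obtain ⟨d, hd⟩ := h
  have := congrArg (aeval A) hd
  rw [map_sub, map_pow, aeval_X, aeval_C, map_mul, hA, zero_mul, sub_eq_zero,
    Algebra.algebraMap_eq_smul_one] at this
  exact this

theorem geom_mul (q d : ℕ) (hq : 2 ≤ q) : (q ^ d - 1) / (q - 1) * (q - 1) = q ^ d - 1 :=
  Nat.div_mul_cancel (Nat.sub_one_dvd_pow_sub_one q d)

theorem dvd_X_pow_geom_sub_norm [Fintype F] {f : F[X]} (hm : f.Monic) (hi : Irreducible f) :
    f ∣ X ^ ((Fintype.card F ^ f.natDegree - 1) / (Fintype.card F - 1)) -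
      C ((-1) ^ f.natDegree * f.coeff 0) := by
  haveI := Fact.mk hi
  haveI : Module.Finite F (AdjoinRoot f) := hm.finite_adjoinRoot
  haveI : Finite (AdjoinRoot f) := Module.finite_of_finite F
  have hcard : Nat.card (AdjoinRoot f) = Nat.card F ^ f.natDegree := by
    rw [Module.natCard_eq_pow_finrank (K := F) (V := AdjoinRoot f),
      (AdjoinRoot.powerBasis hi.ne_zero).finrank, AdjoinRoot.powerBasis_dim]
  rw [← AdjoinRoot.mk_eq_zero, map_sub, map_pow, AdjoinRoot.mk_X, AdjoinRoot.mk_C, sub_eq_zero,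
    ← AdjoinRoot.algebraMap_eq, ← Nat.card_eq_fintype_card (α := F), ← hcard,
    ← FiniteField.algebraMap_norm_eq_pow (K := F)]
  congr 1
  have := Algebra.PowerBasis.norm_gen_eq_coeff_zero_minpoly (AdjoinRoot.powerBasis hi.ne_zero)
  rw [AdjoinRoot.powerBasis_gen, AdjoinRoot.powerBasis_dim, AdjoinRoot.minpoly_root hi.ne_zero,
    hm.leadingCoeff, inv_one, map_one, mul_one] at this
  exact this

theorem mem_range_of_pow_card {F K : Type*} [Field F] [Fintype F] [Field K] [Algebra F K] {x : K}
    (hx : x ^ (Fintype.card F - 1) = 1) : ∃ a : F, algebraMap F K a = x := by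
  classical
  have h2 := Fintype.one_lt_card (α := F)
  set P : K[X] := X ^ Fintype.card F - X with hP
  have hP0 : P ≠ 0 := FiniteField.X_pow_card_sub_X_ne_zero K h2
  have hsub : Finset.univ.image (algebraMap F K) ⊆ P.roots.toFinset := by
    intro y hy
    obtain ⟨a, -, rfl⟩ := Finset.mem_image.mp hy
    rw [Multiset.mem_toFinset, mem_roots hP0]
    simp [hP, ← map_pow, FiniteField.pow_card]
  have heq : Finset.univ.image (algebraMap F K) = P.roots.toFinset := by
    apply Finset.eq_of_subset_of_card_le hsub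
    rw [Finset.card_image_of_injective _ (algebraMap F K).injective, Finset.card_univ]
    refine (Multiset.toFinset_card_le _).trans ((card_roots' _).trans ?_)
    rw [hP, FiniteField.X_pow_card_sub_X_natDegree_eq K h2]
  have hx' : x ∈ P.roots.toFinset := by
    rw [Multiset.mem_toFinset, mem_roots hP0, IsRoot.def, hP, eval_sub, eval_pow, eval_X,
      show Fintype.card F = Fintype.card F - 1 + 1 by omega, pow_succ, hx, one_mul, sub_self]
  rw [← heq, Finset.mem_image] at hx'
  obtain ⟨a, -, ha⟩ := hx'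
  exact ⟨a, ha⟩

/-- Block sum of square matrices. -/
def blockMat {d e : ℕ} (h : d + e = n) :
    Matrix (Fin d) (Fin d) F × Matrix (Fin e) (Fin e) F →* Matrix (Fin n) (Fin n) F where
  toFun P := Matrix.reindex (finSumFinEquiv.trans (finCongr h)) (finSumFinEquiv.trans (finCongr h))
    (Matrix.fromBlocks P.1 0 0 P.2)
  map_one' := by
    simp only [Prod.fst_one, Prod.snd_one, Matrix.fromBlocks_one, Matrix.reindex_apply,
      Matrix.submatrix_one_equiv]
  map_mul' P Q := by
    simp only [Matrix.reindex_apply, Matrix.submatrix_mul_equiv, Matrix.fromBlocks_multiply,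
      Prod.fst_mul, Prod.snd_mul]
    simp

theorem blockMat_injective {d e : ℕ} (h : d + e = n) :
    Function.Injective (blockMat (F := F) h) := by
  intro P Q hPQ
  have := (Matrix.reindex _ _).injective hPQ
  obtain ⟨h1, -, -, h2⟩ := Matrix.fromBlocks_inj.mp this
  exact Prod.ext h1 h2

theorem blockMat_det {d e : ℕ} (h : d + e = n)
    (P : Matrix (Fin d) (Fin d) F × Matrix (Fin e) (Fin e) F) :
    (blockMat h P).det = P.1.det * P.2.det := by
  change (Matrix.reindex _ _ _).det = _
  rw [Matrix.det_reindex_self, Matrix.det_fromBlocks_zero₂₁]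

theorem blockMat_smul_one {d e : ℕ} (h : d + e = n) (a : F) :
    blockMat h (a • 1, a • 1) = a • (1 : Matrix (Fin n) (Fin n) F) := by
  change Matrix.reindex _ _ (Matrix.fromBlocks _ 0 0 _) = _
  rw [show Matrix.fromBlocks (a • (1 : Matrix (Fin d) (Fin d) F)) 0 0 (a • 1) =
    a • Matrix.fromBlocks 1 0 0 1 by rw [Matrix.fromBlocks_smul]; simp, Matrix.fromBlocks_one]
  simp [Matrix.reindex_apply, Matrix.submatrix_smul, ← Equiv.coe_trans]

theorem det_jordanGL (p : ℕ) [Fact p.Prime] [CharP F p] (e : ℕ) :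
    (Small.jordanGL e F : Matrix (Fin e) (Fin e) F).det = 1 := by
  rcases Nat.eq_zero_or_pos e with rfl | he
  · simp
  apply iterateFrobenius_inj F p (Nat.clog p e)
  rw [iterateFrobenius_def, iterateFrobenius_def, one_pow, ← Matrix.det_pow,
    ← Units.val_pow_eq_pow_val, ← Small.orderOf_jordanGL e F p he, pow_orderOf_eq_one,
    Units.val_one, Matrix.det_one]

theorem jordan_pow_scalar (p : ℕ) [Fact p.Prime] [CharP F p] {e N : ℕ} (he : 1 ≤ e) {a : F}
    (h : (Small.jordanGL e F : Matrix (Fin e) (Fin e) F) ^ N = a • 1) :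
    a = 1 ∧ p ^ Nat.clog p e ∣ N := by
  have ha : a = 1 := by
    apply iterateFrobenius_inj F p (Nat.clog p e)
    rw [iterateFrobenius_def, iterateFrobenius_def, one_pow]
    have h1 := congrArg (fun M => M ^ p ^ Nat.clog p e) h
    simp only [_root_.smul_pow, one_pow] at h1
    rw [← pow_mul, mul_comm, pow_mul, ← Units.val_pow_eq_pow_val,
      ← Small.orderOf_jordanGL e F p he, pow_orderOf_eq_one, Units.val_one, one_pow,
      Small.orderOf_jordanGL e F p he] at h1
    have := congrFun (congrFun h1 ⟨0, he⟩) ⟨0, he⟩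
    simpa using this.symm
  refine ⟨ha, ?_⟩
  rw [← Small.orderOf_jordanGL e F p he, orderOf_dvd_iff_pow_eq_one]
  apply Units.ext
  rw [Units.val_pow_eq_pow_val, h, ha, one_smul, Units.val_one]

variable [Fintype F]

theorem exists_singer_SL (d : ℕ) (hd : 1 ≤ d) :
    ∃ s : GL (Fin d) F, orderOf s = Fintype.card F ^ d - 1 ∧
      ((s ^ (Fintype.card F - 1) : GL (Fin d) F) : Matrix (Fin d) (Fin d) F).det = 1 := by
  obtain ⟨s, hs⟩ := Small.exists_singer (F := F) d hd
  refine ⟨s, by rw [hs, Nat.card_eq_fintype_card], ?_⟩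
  rw [Units.val_pow_eq_pow_val, Matrix.det_pow, FiniteField.pow_card_sub_one_eq_one]
  exact ((Matrix.isUnit_iff_isUnit_det _).mp s.isUnit).ne_zero

/-- The block element attached to a degree `d` is good and dominates the relevant orders. -/
theorem good_block (p : ℕ) [Fact p.Prime] [CharP F p] {r : ℕ} (hr : r.Prime)
    (hrq : r ∣ Fintype.card F - 1) (hrn : ¬ r ∣ n) (d : ℕ) (hd : 1 ≤ d) (hdn : d < n) :
    ∃ x : PSLn, Good r x ∧
      (Fintype.card F ^ d - 1) / (Fintype.card F - 1) * p ^ Nat.clog p (n - d) ∣ orderOf x := by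
  classical
  have h : d + (n - d) = n := by omega
  set q := Fintype.card F with hq
  have hq2 : 2 ≤ q := Fintype.one_lt_card
  obtain ⟨s, hs, hsdet⟩ := exists_singer_SL (F := F) d hd
  rw [← hq] at hs hsdet
  set S' : Matrix (Fin d) (Fin d) F := Units.val (s ^ (q - 1)) with hS'
  set J : Matrix (Fin (n - d)) (Fin (n - d)) F := Units.val (Small.jordanGL (n - d) F) with hJ
  have hdet : (blockMat h (S', J)).det = 1 := by
    rw [blockMat_det, hsdet, det_jordanGL p, mul_one]
  set y : SLn := ⟨blockMat h (S', J), hdet⟩ with hy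
  refine ⟨proj y, ?_, ?_⟩
  · refine good_of_idempotent hr hrq hrn y (blockMat h (1, 0)) ?_ ?_ ?_ ?_
    · rw [← map_mul]; simp
    · intro h0
      have h2 : blockMat (F := F) h (1, 0) = blockMat h (0, 0) := by
        rw [h0]
        simpa using (blockMat_smul_one (F := F) h 0).symm
      have := congrFun (congrFun (congrArg Prod.fst (blockMat_injective h h2)) ⟨0, hd⟩) ⟨0, hd⟩
      simp at this
    · intro h0
      have := congrArg Prod.snd (blockMat_injective h (h0.trans (map_one _).symm))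
      have := congrFun (congrFun this ⟨0, by omega⟩) ⟨0, by omega⟩
      simp at this
    · change Commute _ (blockMat h (S', J))
      exact (Commute.prod (Commute.one_left _) (Commute.zero_left _)).map _
  · obtain ⟨a, ha⟩ := exists_pow_orderOf_proj y
    set N := orderOf (proj y) with hN
    have hya : blockMat h ((S', J) ^ N) = blockMat h (a • 1, a • 1) := by
      rw [map_pow, blockMat_smul_one]; exact ha
    have h12 := blockMat_injective h hya
    obtain ⟨ha1, hpN⟩ := jordan_pow_scalar p (by omega) (congrArg Prod.snd h12)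
    have hS : S' ^ N = 1 := by
      have := congrArg Prod.fst h12
      simpa [ha1] using this
    refine Nat.Coprime.mul_dvd_of_dvd_of_dvd ?_ ?_ hpN
    · apply Nat.Coprime.pow_right
      rw [Nat.coprime_comm, (Fact.out : p.Prime).coprime_iff_not_dvd]
      intro hdvd
      have h1 : p ∣ q ^ d - 1 := by
        rw [← geom_mul q d hq2]
        exact hdvd.mul_right _
      have h2 : p ∣ q ^ d := by
        obtain ⟨k, -, hk⟩ := FiniteField.card F p
        rw [hq, hk, ← pow_mul]
        exact dvd_pow_self p (by positivity)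
      have h3 := Nat.dvd_sub h2 h1
      rw [Nat.sub_sub_self (Nat.one_le_pow _ _ (by omega))] at h3
      exact (Fact.out : p.Prime).one_lt.ne' (Nat.dvd_one.mp h3)
    · have h1 : (s ^ (q - 1)) ^ N = 1 := Units.ext (by
        rw [Units.val_pow_eq_pow_val, ← hS', hS, Units.val_one])
      rw [← pow_mul, ← orderOf_dvd_iff_pow_eq_one, hs, ← geom_mul q d hq2,
        mul_comm (q - 1) N] at h1
      exact Nat.dvd_of_mul_dvd_mul_right (by omega) h1

/-- A single element dominates all elements with irreducible minimal polynomial of full degree. -/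
theorem singer_bad (hn : 1 ≤ n) : ∃ A : PSLn, ∀ (g : SLn) (f : F[X]), f.Monic → Irreducible f →
    f.natDegree = n → aeval (g : Matrix (Fin n) (Fin n) F) f = 0 →
    orderOf (proj g) ∣ orderOf A := by
  classical
  set q := Fintype.card F with hq
  have hq2 : 2 ≤ q := Fintype.one_lt_card
  obtain ⟨s, hs, hsdet⟩ := exists_singer_SL (F := F) n hn
  rw [← hq] at hs hsdet
  set G₀ : SLn := ⟨((s ^ (q - 1) : GL (Fin n) F) : Matrix _ _ F), hsdet⟩ with hG₀
  refine ⟨proj G₀, fun g f hfm hfi hfd hfg => ?_⟩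
  obtain ⟨a, ha⟩ := exists_pow_orderOf_proj G₀
  set N := orderOf (proj G₀) with hN
  set T := (q ^ n - 1) / (q - 1) with hT
  haveI : Nonempty (Fin n) := ⟨⟨0, hn⟩⟩
  have hTN : T ∣ N * (q - 1) := by
    change (((s ^ (q - 1) : GL (Fin n) F) : Matrix (Fin n) (Fin n) F)) ^ N = a • 1 at ha
    rw [← Units.val_pow_eq_pow_val] at ha
    have ha0 : a ≠ 0 := by
      rintro rfl
      rw [zero_smul] at ha
      exact Units.ne_zero ((s ^ (q - 1)) ^ N) ha
    have h1 : ((s ^ (q - 1)) ^ N) ^ (q - 1) = 1 := by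
      apply Units.ext
      rw [Units.val_pow_eq_pow_val, ha, _root_.smul_pow, one_pow,
        FiniteField.pow_card_sub_one_eq_one a ha0, one_smul, Units.val_one]
    rw [← pow_mul, ← pow_mul, ← orderOf_dvd_iff_pow_eq_one, hs, ← geom_mul q n hq2,
      mul_comm (q - 1) (N * (q - 1))] at h1
    exact Nat.dvd_of_mul_dvd_mul_right (by omega) h1
  have hchar : (g : Matrix (Fin n) (Fin n) F).charpoly = f := by
    have h1 : f = minpoly F (g : Matrix (Fin n) (Fin n) F) :=
      minpoly.eq_of_irreducible_of_monic hfi hfg hfm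
    have h2 := Matrix.minpoly_dvd_charpoly (g : Matrix (Fin n) (Fin n) F)
    rw [← h1] at h2
    refine (Polynomial.eq_of_monic_of_dvd_of_natDegree_le hfm (Matrix.charpoly_monic _) h2 ?_)
    rw [Matrix.charpoly_natDegree_eq_dim, Fintype.card_fin, hfd]
  have hnorm : (-1 : F) ^ f.natDegree * f.coeff 0 = 1 := by
    have := Matrix.det_eq_sign_charpoly_coeff (g : Matrix (Fin n) (Fin n) F)
    rw [g.2, hchar, Fintype.card_fin] at this
    rw [hfd, ← this]
  have hX := dvd_X_pow_geom_sub_norm hfm hfi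
  rw [hnorm, hfd, ← hq, ← hT] at hX
  haveI := Fact.mk hfi
  have hroot : (AdjoinRoot.root f) ^ T = 1 := by
    rw [← AdjoinRoot.mk_eq_zero, map_sub, map_pow, AdjoinRoot.mk_X, map_one, map_one,
      sub_eq_zero] at hX
    exact hX
  obtain ⟨c, hc⟩ : ∃ c : F, algebraMap F (AdjoinRoot f) c = AdjoinRoot.root f ^ N := by
    refine mem_range_of_pow_card ?_
    obtain ⟨w, hw⟩ := hTN
    rw [← hq, ← pow_mul, hw, pow_mul, hroot, one_pow]
  have hd : f ∣ X ^ N - C c := by
    rw [← AdjoinRoot.mk_eq_zero, map_sub, map_pow, AdjoinRoot.mk_X, AdjoinRoot.mk_C, ← hc,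
      AdjoinRoot.algebraMap_eq, sub_self]
  obtain ⟨e, he⟩ := hd
  apply orderOf_proj_dvd g (a := c)
  have := congrArg (aeval (g : Matrix (Fin n) (Fin n) F)) he
  rw [map_sub, map_pow, aeval_X, aeval_C, map_mul, hfg, zero_mul, sub_eq_zero,
    Algebra.algebraMap_eq_smul_one] at this
  exact this

theorem classify (p : ℕ) [Fact p.Prime] [CharP F p] {r : ℕ} (hr : r.Prime)
    (hrq : r ∣ Fintype.card F - 1) (hrn : ¬ r ∣ n) (hn : 2 ≤ n) :
    ∃ A B : PSLn, (∀ x : PSLn, Good r x ∨ orderOf x ∣ orderOf A ∨ orderOf x ∣ orderOf B) ∧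
      ((¬ ∃ j : ℕ, n - 1 = p ^ j) → ∀ x : PSLn, Good r x ∨ orderOf x ∣ orderOf A) := by
  classical
  have hp1 := (Fact.out : p.Prime).one_lt
  obtain ⟨A, hA⟩ := singer_bad (F := F) (n := n) (by omega)
  set J : SLn := ⟨(Small.jordanGL n F : Matrix (Fin n) (Fin n) F), det_jordanGL p n⟩ with hJ
  set B := proj J with hB
  have hBord : p ^ Nat.clog p n ∣ orderOf B := by
    obtain ⟨a, ha⟩ := exists_pow_orderOf_proj J
    exact (jordan_pow_scalar p (by omega) ha).2
  refine ⟨A, B, ?_⟩
  have key : ∀ x : PSLn, Good r x ∨ orderOf x ∣ orderOf A ∨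
      (orderOf x ∣ p ^ Nat.clog p n ∧ (n ≤ p ^ Nat.clog p (n - 1) → Good r x)) := by
    intro x
    obtain ⟨g, rfl⟩ := QuotientGroup.mk'_surjective _ x
    change Good r (proj g) ∨ _
    rcases primary_or_idempotent (by omega) (g : Matrix (Fin n) (Fin n) F) with
      ⟨E, hE, h0, h1, hc⟩ | ⟨f, k, hfm, hfi, hk, hkd, hfA⟩
    · exact Or.inl (good_of_idempotent hr hrq hrn g E hE h0 h1 hc)
    set d := f.natDegree with hd
    have hd1 : 1 ≤ d := hfi.natDegree_pos
    have hdn : d ≤ n := (Nat.le_mul_of_pos_left d hk).trans hkd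
    have hscal := dvd_X_pow_geom_sub_norm hfm hfi
    rw [← hd] at hscal
    rcases Nat.eq_or_lt_of_le hdn with hdeq | hdlt
    · obtain rfl : k = 1 := by nlinarith
      rw [pow_one] at hfA
      exact Or.inr (Or.inl (hA g f hfm hfi hdeq hfA))
    rcases Nat.eq_or_lt_of_le hd1 with hdone | hd2
    · right; right
      rw [← hdone] at hscal hkd
      rw [mul_one] at hkd
      simp only [pow_one] at hscal
      rw [Nat.div_self (by have := Fintype.one_lt_card (α := F); omega)] at hscal
      have hx : ∀ c, k ≤ p ^ c → orderOf (proj g) ∣ p ^ c := by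
        intro c hc
        have := orderOf_proj_dvd g (pow_eq_smul_of_dvd p hfA hscal hc)
        rwa [one_mul] at this
      refine ⟨hx _ (hkd.trans (Nat.le_pow_clog hp1 n)), fun hle => ?_⟩
      obtain ⟨y, hy, hord⟩ := good_block (n := n) p hr hrq hrn 1 le_rfl (by omega)
      refine Good.of_dvd ?_ hy
      rw [pow_one, Nat.div_self (by have := Fintype.one_lt_card (α := F); omega),
        one_mul] at hord
      exact (hx _ (hkd.trans hle)).trans hord
    · left
      obtain ⟨y, hy, hord⟩ := good_block (n := n) p hr hrq hrn d hd1 hdlt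
      refine Good.of_dvd ?_ hy
      have hk2 : k ≤ p ^ Nat.clog p (n - d) := by
        refine le_trans ?_ (Nat.le_pow_clog hp1 _)
        rcases Nat.eq_or_lt_of_le hk with rfl | hk2
        · omega
        · obtain ⟨k', rfl⟩ : ∃ k', k = k' + 1 := ⟨k - 1, by omega⟩
          rw [add_one_mul] at hkd
          have : k' + 1 ≤ k' * d := by nlinarith
          omega
      exact (orderOf_proj_dvd g (pow_eq_smul_of_dvd p hfA hscal hk2)).trans hord
  refine ⟨fun x => ?_, fun hno x => ?_⟩
  · rcases key x with h | h | ⟨h, -⟩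
    exacts [Or.inl h, Or.inr (Or.inl h), Or.inr (Or.inr (h.trans hBord))]
  · rcases key x with h | h | ⟨-, h⟩
    · exact Or.inl h
    · exact Or.inr h
    · refine Or.inl (h ?_)
      by_contra hlt
      have := Nat.le_pow_clog hp1 (n - 1)
      exact hno ⟨Nat.clog p (n - 1), by omega⟩

/-- Let F be a finite field with q = p^a elements, n ≥ 2 (with q ≥ 4 when n = 2), L = PSL(n, F), and let r be a prime dividing q − 1 and not dividing n. Then for every m the direct product L × L × L × (ℤ/r)^m has the same set of element orders as L × L × L; and if n − 1 ≠ p^j for every j ≥ 0 (so never when n = 2, since 1 = p^0), then already L × L × (ℤ/r)^m has the same set of element orders as L × L. -/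
theorem result {F : Type*} [Field F] [Fintype F] (p a n r m : ℕ) (hp : p.Prime) (ha : 1 ≤ a) (hF : Fintype.card F = p ^ a)
    (hn : 2 ≤ n) (hn2 : n = 2 → 4 ≤ Fintype.card F) (hr : r.Prime) (hrq : r ∣ Fintype.card F - 1) (hrn : ¬ r ∣ n) :
    Set.range (orderOf : Matrix.ProjectiveSpecialLinearGroup (Fin n) F × Matrix.ProjectiveSpecialLinearGroup (Fin n) F × Matrix.ProjectiveSpecialLinearGroup (Fin n) F × Multiplicative (Fin m → ZMod r) → ℕ) =
      Set.range (orderOf : Matrix.ProjectiveSpecialLinearGroup (Fin n) F × Matrix.ProjectiveSpecialLinearGroup (Fin n) F × Matrix.ProjectiveSpecialLinearGroup (Fin n) F → ℕ) ∧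
    ((¬ ∃ j : ℕ, n - 1 = p ^ j) →
      Set.range (orderOf : Matrix.ProjectiveSpecialLinearGroup (Fin n) F × Matrix.ProjectiveSpecialLinearGroup (Fin n) F × Multiplicative (Fin m → ZMod r) → ℕ) =
        Set.range (orderOf : Matrix.ProjectiveSpecialLinearGroup (Fin n) F × Matrix.ProjectiveSpecialLinearGroup (Fin n) F → ℕ)) := by
  classical
  haveI : Fact p.Prime := ⟨hp⟩
  haveI : CharP F p := charP_of_card_eq_prime_pow (R := F) hF
  obtain ⟨A, B, h3, h2⟩ := classify (F := F) (n := n) p hr hrq hrn hn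
  obtain ⟨z₀, hz₀⟩ : ∃ z₀ : Matrix.ProjectiveSpecialLinearGroup (Fin n) F, r ∣ orderOf z₀ := by
    obtain ⟨x, hx, -⟩ := good_block (F := F) (n := n) p hr hrq hrn 1 le_rfl (by omega)
    obtain ⟨y, hy, -⟩ := hx
    exact ⟨y, hy⟩
  exact ⟨Small.range_orderOf_prod_three Small.zmod_fun_pow_eq_one z₀ hz₀ A B h3,
    fun hno => Small.range_orderOf_prod_two Small.zmod_fun_pow_eq_one z₀ hz₀ A (h2 hno)⟩

end Cfsg.Agent.S2510
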