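import Cfsg.Statements.S2511
import Cfsg.Agent.Lib.Small.Hermitian
import Cfsg.Agent.Lib.Small.Spectrum

set_option autoImplicit false
open Cfsg

set_option maxHeartbeats 1000000
set_option linter.style.haveILetI false
set_option linter.unusedSimpArgs false
set_option linter.unusedSectionVars false
open Matrix Polynomial

namespace Cfsg.Agent.S2511

open Small.Hermitian (starRingOfInvolution)

/-! ### General facts on matrices and polynomials -/

section General

variable {F : Type*} [Field F] {ι : Type*} [Fintype ι] [DecidableEq ι]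

theorem commute_aeval_right {R : Type*} [Ring R] [Algebra F R] {A B : R}
    (h : Commute A B) (e : F[X]) : Commute A (Polynomial.aeval B e) := by
  induction e using Polynomial.induction_on' with
  | add a b ha hb => rw [map_add]; exact ha.add_right hb
  | monomial i a =>
    rw [Polynomial.aeval_monomial]
    exact (show Commute A (algebraMap F R a) from (Algebra.commutes a A).symm).mul_right
      (h.pow_right i)

theorem linearIndependent_krylov {n : ℕ} (A : Matrix (Fin n) (Fin n) F) (f : F[X]) (k : ℕ)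
    (hk : 1 ≤ k) (hf : Irreducible f) (v : Fin n → F)
    (hv : Polynomial.aeval A (f ^ (k - 1)) *ᵥ v ≠ 0) (hv0 : Polynomial.aeval A (f ^ k) *ᵥ v = 0) :
    LinearIndependent F (fun i : Fin (k * f.natDegree) => (A ^ (i : ℕ)) *ᵥ v) := by
  classical
  set m := k * f.natDegree with hm
  rw [Fintype.linearIndependent_iff]
  intro c hc
  set P : F[X] := ∑ i : Fin m, Polynomial.C (c i) * X ^ (i : ℕ) with hP
  have hPv : Polynomial.aeval A P *ᵥ v = 0 := by
    rw [hP, map_sum, Matrix.sum_mulVec, ← hc]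
    refine Finset.sum_congr rfl fun i _ => ?_
    rw [map_mul, map_pow, aeval_C, aeval_X, Algebra.algebraMap_eq_smul_one, smul_one_mul,
      Matrix.smul_mulVec]
  have hcoeff : ∀ i : Fin m, P.coeff i = c i := by
    intro i
    simp [hP, coeff_C_mul, coeff_X_pow, Fin.val_inj]
  by_contra hne'
  obtain ⟨i, hi⟩ : ∃ i, c i ≠ 0 := not_forall.mp hne'
  have hP0 : P ≠ 0 := fun h => hi (by rw [← hcoeff, h, coeff_zero])
  have hdeg : P.natDegree < m := by
    have hle : P.natDegree ≤ m - 1 := by
      rw [hP]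
      refine natDegree_sum_le_of_forall_le _ _ fun i _ => ?_
      refine (natDegree_C_mul_X_pow_le _ _).trans ?_
      have := i.isLt
      omega
    have := i.isLt
    omega
  obtain ⟨a, b, hab⟩ : ∃ a b : F[X], a * P + b * f ^ k = EuclideanDomain.gcd P (f ^ k) :=
    ⟨EuclideanDomain.gcdA P (f ^ k), EuclideanDomain.gcdB P (f ^ k), by
      rw [EuclideanDomain.gcd_eq_gcd_ab]; ring⟩
  set G := EuclideanDomain.gcd P (f ^ k) with hG
  obtain ⟨j, hj, hassoc⟩ := (dvd_prime_pow hf.prime k).mp (EuclideanDomain.gcd_dvd_right P (f ^ k))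
  rw [← hG] at hassoc
  have hjk : j < k := by
    by_contra hge
    have hd : f ^ k ∣ P :=
      ((pow_dvd_pow f (not_lt.mp hge)).trans hassoc.symm.dvd).trans
        (EuclideanDomain.gcd_dvd_left _ _)
    have := Polynomial.natDegree_le_of_dvd hd hP0
    rw [natDegree_pow] at this
    omega
  obtain ⟨r, hr⟩ : G ∣ f ^ (k - 1) := hassoc.dvd.trans (pow_dvd_pow f (by omega))
  apply hv
  rw [hr, ← hab, mul_comm _ r, mul_add, map_add, Matrix.add_mulVec, map_mul, map_mul _ a,
    ← Matrix.mulVec_mulVec, ← Matrix.mulVec_mulVec, hPv, ← mul_assoc, map_mul _ (r * b),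
    ← Matrix.mulVec_mulVec, hv0]
  simp

theorem isPrimary_or_split {R : Type*} [Ring R] [Algebra F R] [Nontrivial R] (A : R)
    (hint : IsIntegral F A) :
    ∃ (f : F[X]) (k : ℕ), f.Monic ∧ Irreducible f ∧ 1 ≤ k ∧
      (minpoly F A = f ^ k ∨ ∃ e : F[X],
        Polynomial.aeval A e * Polynomial.aeval A e = Polynomial.aeval A e ∧
        Polynomial.aeval A e ≠ 1 ∧ Polynomial.aeval A (f ^ k) * Polynomial.aeval A e = 0 ∧
        Polynomial.aeval A (f ^ (k - 1)) * Polynomial.aeval A e ≠ 0) := by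
  set μ := minpoly F A with hμ
  obtain ⟨f, hfm, hfi, hfd⟩ := exists_monic_irreducible_factor μ (minpoly.not_isUnit F A)
  obtain ⟨k, rest, hrest, hμeq⟩ := WfDvdMonoid.max_power_factor (minpoly.ne_zero hint) hfi
  rw [← hμ] at hμeq
  have hcop : IsCoprime (f ^ k) rest := ((hfi.coprime_iff_not_dvd).mpr hrest).pow_left
  have hk1 : 1 ≤ k := by
    rcases Nat.eq_zero_or_pos k with rfl | hk
    · rw [pow_zero, one_mul] at hμeq
      exact absurd (hμeq ▸ hfd) hrest
    · exact hk
  refine ⟨f, k, hfm, hfi, hk1, ?_⟩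
  by_cases hu : IsUnit rest
  · left
    have hrm : rest.Monic := (hfm.pow k).of_mul_monic_left (hμeq ▸ minpoly.monic hint)
    rw [hrm.eq_one_of_isUnit hu, mul_one] at hμeq
    exact hμeq
  · right
    obtain ⟨u, v, huv⟩ := hcop
    have hzero : Polynomial.aeval A (f ^ k * rest) = 0 := by rw [← hμeq, hμ, minpoly.aeval]
    refine ⟨v * rest, ?_, ?_, ?_, ?_⟩
    · rw [← map_mul]
      have : v * rest * (v * rest) = v * rest - (u * v) * (f ^ k * rest) := by
        linear_combination (v * rest) * huv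
      rw [this, map_sub, map_mul _ (u * v), hzero, mul_zero, sub_zero]
    · intro h
      have h1 : Polynomial.aeval A (u * f ^ k) = 0 := by
        have := congrArg (Polynomial.aeval A) huv
        rwa [map_add, h, map_one, add_eq_right] at this
      obtain ⟨c, hc⟩ : f ^ k * rest ∣ u * f ^ k := hμeq ▸ minpoly.dvd F A h1
      have hr' : rest ∣ u := by
        refine ⟨c, mul_right_cancel₀ (pow_ne_zero k hfi.ne_zero) ?_⟩
        linear_combination hc
      apply hu
      rw [isUnit_iff_dvd_one, ← huv]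
      exact dvd_add (hr'.mul_right _) (dvd_mul_left _ _)
    · rw [← map_mul, show f ^ k * (v * rest) = v * (f ^ k * rest) by ring, map_mul, hzero,
        mul_zero]
    · intro h
      rw [← map_mul] at h
      have h1 : f ^ k * rest ∣ f ^ (k - 1) * v * rest := by
        rw [mul_assoc]; exact hμeq ▸ minpoly.dvd F A h
      have hrest0 : rest ≠ 0 := fun h0 => hrest (h0 ▸ dvd_zero f)
      have h2 : f ^ k ∣ f ^ (k - 1) * v := (mul_dvd_mul_iff_right hrest0).mp h1
      have h3 : f ∣ v := by
        obtain ⟨j, rfl⟩ : ∃ j, k = j + 1 := ⟨k - 1, by omega⟩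
        rw [pow_succ, Nat.add_sub_cancel] at h2
        exact (mul_dvd_mul_iff_left (pow_ne_zero _ hfi.ne_zero)).mp h2
      apply hfi.not_isUnit
      rw [isUnit_iff_dvd_one, ← huv]
      exact dvd_add (dvd_mul_of_dvd_right (dvd_pow_self f (by omega)) _) (h3.mul_right _)

theorem pow_sub_smul_mul_eq_zero {R : Type*} [Ring R] [Algebra F R] (p : ℕ) [Fact p.Prime]
    [CharP F p] {A E : R} {f : F[X]} {k : ℕ} (hA : Polynomial.aeval A (f ^ k) * E = 0) {N : ℕ}
    {a : F} (hf : f ∣ X ^ N - C a) {c : ℕ} (hc : k ≤ p ^ c) :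
    (A ^ (N * p ^ c) - a ^ p ^ c • 1) * E = 0 := by
  have h : f ^ k ∣ X ^ (N * p ^ c) - C (a ^ p ^ c) := by
    have : (X ^ N - C a : F[X]) ^ p ^ c = X ^ (N * p ^ c) - C (a ^ p ^ c) := by
      rw [sub_pow_char_pow, ← pow_mul, map_pow]
    rw [← this]
    exact (pow_dvd_pow_of_dvd hf k).trans (pow_dvd_pow _ hc)
  obtain ⟨d, hd⟩ := h
  have := congrArg (Polynomial.aeval A) hd
  rw [map_sub, map_pow, aeval_X, aeval_C, mul_comm (f ^ k) d, map_mul,
    Algebra.algebraMap_eq_smul_one] at this
  rw [this, mul_assoc, hA, mul_zero]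

theorem irreducible_dvd_of_dvd_charpoly {n : ℕ} (Z : Matrix (Fin n) (Fin n) F) {g P : F[X]}
    (hg : Irreducible g) (hgd : g ∣ Z.charpoly) (hP : Polynomial.aeval Z P = 0) : g ∣ P := by
  classical
  haveI := Fact.mk hg
  set K := AdjoinRoot g
  set β : K := AdjoinRoot.root g with hβ
  set Z' : Matrix (Fin n) (Fin n) K := Z.map (algebraMap F K) with hZ'
  have hroot : (Matrix.scalar (Fin n) β - Z').det = 0 := by
    rw [← Matrix.eval_charpoly]
    have hmap : Z'.charpoly = Z.charpoly.map (algebraMap F K) := Z.charpoly_map (algebraMap F K)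
    rw [hmap, eval_map, ← aeval_def, hβ, AdjoinRoot.aeval_eq, AdjoinRoot.mk_eq_zero]
    exact hgd
  obtain ⟨v, hv0, hv⟩ := Matrix.exists_mulVec_eq_zero_iff.mpr hroot
  have hP' : Polynomial.aeval Z' (P.map (algebraMap F K)) = 0 := by
    rw [aeval_map_algebraMap]
    have h : Polynomial.aeval ((Algebra.ofId F K).mapMatrix Z) P =
        (Algebra.ofId F K).mapMatrix (Polynomial.aeval Z P) := aeval_algHom_apply _ Z P
    rw [hP, map_zero] at h
    exact h
  obtain ⟨Q, hQ⟩ := X_sub_C_dvd_sub_C_eval (a := β) (p := P.map (algebraMap F K))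
  have h1 := congrArg (Polynomial.aeval Z') hQ
  rw [map_sub, hP', zero_sub, aeval_C, mul_comm, map_mul, map_sub, aeval_X, aeval_C,
    Algebra.algebraMap_eq_smul_one, Algebra.algebraMap_eq_smul_one] at h1
  have h2 := congrArg (fun M => M *ᵥ v) h1
  have hv' : (Z' - β • (1 : Matrix (Fin n) (Fin n) K)) *ᵥ v = 0 := by
    rw [← neg_sub, neg_mulVec, Matrix.smul_one_eq_diagonal, ← Matrix.scalar_apply, hv, neg_zero]
  simp only [← Matrix.mulVec_mulVec, hv', Matrix.mulVec_zero, neg_mulVec, Matrix.smul_mulVec,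
    Matrix.one_mulVec, neg_eq_zero, smul_eq_zero, hv0, or_false] at h2
  rw [← AdjoinRoot.mk_eq_zero, ← AdjoinRoot.aeval_eq, aeval_def, ← eval_map]
  exact h2

end General

/-! ### Number theory -/

/-- The order of the norm-one torus of determinant one in dimension `m`. -/
def torusOrder (q m : ℕ) : ℕ :=
  if Even m then (q ^ m - 1) / (q + 1) else (q ^ m + 1) / (q + 1)

theorem succ_dvd_pow_add_one {q m : ℕ} (hm : Odd m) : q + 1 ∣ q ^ m + 1 := by
  simpa using Odd.nat_add_dvd_pow_add_pow q 1 (n := m) hm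

theorem succ_dvd_pow_sub_one (q d : ℕ) : q + 1 ∣ q ^ (2 * d) - 1 :=
  (Dvd.intro _ (Small.Hermitian.sq_sub_one q).symm).trans (by
    rw [pow_mul]; exact Nat.sub_one_dvd_pow_sub_one _ _)

/-- `[n]` in base `q²` and `q^n + 1` have greatest common divisor `(q^n+1)/(q+1)`, `n` odd. -/
theorem gcd_geom_torus {q n : ℕ} (hq : 2 ≤ q) (hn : Odd n) :
    Nat.gcd (((q ^ 2) ^ n - 1) / (q ^ 2 - 1)) (q ^ n + 1) = (q ^ n + 1) / (q + 1) := by
  obtain ⟨M, hM⟩ := succ_dvd_pow_add_one (q := q) hn
  set s := ∑ i ∈ Finset.range n, q ^ i with hs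
  have hsq : s * (q - 1) = q ^ n - 1 := by
    rw [hs, Nat.geomSum_eq hq, Nat.div_mul_cancel (Nat.sub_one_dvd_pow_sub_one q n)]
  have hcop : Nat.Coprime s (q + 1) := by
    refine Nat.coprime_of_dvd' fun l hl hls hlq => ?_
    haveI := Fact.mk hl
    exfalso
    have h1 : ((q : ℕ) : ZMod l) = -1 := by
      have : ((q + 1 : ℕ) : ZMod l) = 0 := (ZMod.natCast_eq_zero_iff _ _).mpr hlq
      push_cast at this
      exact eq_neg_of_add_eq_zero_left this
    have h2 : (s : ZMod l) = 0 := (ZMod.natCast_eq_zero_iff _ _).mpr hls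
    rw [hs] at h2
    push_cast at h2
    simp only [h1, neg_one_geom_sum, Nat.not_even_iff_odd.mpr hn, if_false, one_ne_zero] at h2
  have hbig : (q ^ 2) ^ n - 1 = (q ^ n + 1) * (q ^ n - 1) := by
    rw [← pow_mul, mul_comm 2 n, pow_mul, Small.Hermitian.sq_sub_one]
  rw [hbig, ← hsq, hM, Small.Hermitian.sq_sub_one,
    show (q + 1) * M * (s * (q - 1)) = (q + 1) * (q - 1) * (M * s) by ring,
    Nat.mul_div_cancel_left _ (Nat.mul_pos (by omega) (by omega)),
    Nat.mul_div_cancel_left _ (by omega), mul_comm (q + 1) M, Nat.gcd_mul_left, hcop, mul_one]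

/-! ### The unitary group -/

section Unitary

variable {F : Type*} [Field F] [Fintype F] [StarRing F] {q : ℕ} {n : ℕ}

local notation "Mn" => Matrix (Fin n) (Fin n) F

theorem mem_SU_iff (hstar : ∀ x : F, star x = x ^ q) (g : Matrix.SpecialLinearGroup (Fin n) F) :
    g ∈ Cfsg.SU n F q ↔ ((g : Mn))ᴴ * (g : Mn) = 1 := by
  have hq0 : q ≠ 0 := by
    rintro rfl
    have := hstar 0
    simp at this
  have hform : ∀ u v : Fin n → F, Cfsg.hermForm n F q u v = u ⬝ᵥ star v := fun u v => by
    simp [Cfsg.hermForm, dotProduct, hstar]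
  constructor
  · intro h
    ext i j
    have h1 := h (Pi.single j 1) (Pi.single i 1)
    change Cfsg.hermForm n F q ((g : Mn) *ᵥ Pi.single j 1) ((g : Mn) *ᵥ Pi.single i 1) = _ at h1
    rw [hform, hform, Matrix.mulVec_single_one, Matrix.mulVec_single_one] at h1
    rw [Matrix.mul_apply, Matrix.one_apply]
    calc ∑ k, (g : Mn)ᴴ i k * (g : Mn) k j = (g : Mn).col j ⬝ᵥ star ((g : Mn).col i) := by
          simp [dotProduct, mul_comm]
      _ = _ := by
          rw [h1]
          simp [dotProduct, Pi.single_apply, apply_ite star, eq_comm]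
  · intro h u v
    change Cfsg.hermForm n F q ((g : Mn) *ᵥ u) ((g : Mn) *ᵥ v) = _
    rw [hform, hform, Matrix.star_mulVec, dotProduct_comm, ← Matrix.dotProduct_mulVec,
      Matrix.mulVec_mulVec, h, Matrix.one_mulVec, dotProduct_comm]

/-- The matrix of an element of `SU`. -/
abbrev mat (g : Cfsg.SU n F q) : Mn := ((g : Matrix.SpecialLinearGroup (Fin n) F) : Mn)

theorem mat_pow (g : Cfsg.SU n F q) (N : ℕ) : mat (g ^ N) = mat g ^ N := by
  simp [mat, SubmonoidClass.coe_pow, Matrix.SpecialLinearGroup.coe_pow]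

theorem mat_injective : Function.Injective (mat : Cfsg.SU n F q → Mn) := fun _ _ h =>
  Subtype.ext (Subtype.ext h)

/-- An element of `SU` from a unitary matrix of determinant one. -/
def mkSU (hstar : ∀ x : F, star x = x ^ q) (M : Mn) (hM : Mᴴ * M = 1) (hd : M.det = 1) :
    Cfsg.SU n F q :=
  ⟨⟨M, hd⟩, (mem_SU_iff hstar _).mpr hM⟩

theorem exists_norm_one_order (hstar : ∀ x : F, star x = x ^ q) (hF : Fintype.card F = q ^ 2)
    {r : ℕ} (hr : r ∣ q + 1) (hr0 : 1 ≤ r) :
    ∃ z : Fˣ, orderOf z = r ∧ star (z : F) * (z : F) = 1 := by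
  obtain ⟨g, hg⟩ := IsCyclic.exists_ofOrder_eq_natCard (α := Fˣ)
  rw [Nat.card_units, Nat.card_eq_fintype_card, hF] at hg
  have hdvd : r ∣ q ^ 2 - 1 := hr.trans (Dvd.intro _ (Small.Hermitian.sq_sub_one q).symm)
  have hord : orderOf (g ^ ((q ^ 2 - 1) / r)) = r := by
    have hpos : q ^ 2 - 1 ≠ 0 := by rw [← hg]; exact (orderOf_pos g).ne'
    rw [← hg]
    exact orderOf_pow_orderOf_div (orderOf_pos g).ne' (hg ▸ hdvd)
  refine ⟨_, hord, Small.Hermitian.star_mul_self_of_pow hstar ?_⟩
  obtain ⟨c, hc⟩ := hr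
  rw [← Units.val_pow_eq_pow_val, hc]
  nth_rewrite 2 [← hord]
  rw [pow_mul, pow_orderOf_eq_one, one_pow, Units.val_one]

theorem center_smul (hstar : ∀ x : F, star x = x ^ q) (hF : Fintype.card F = q ^ 2) (hn : 3 ≤ n)
    (g : Cfsg.SU n F q) (hg : g ∈ Subgroup.center (Cfsg.SU n F q)) :
    ∃ c : F, c ≠ 0 ∧ c ^ n = 1 ∧ star c * c = 1 ∧ mat g = c • 1 := by
  classical
  have hq := Small.Hermitian.q_two_le hF
  set M := mat g with hMdef
  have hcomm : ∀ h : Cfsg.SU n F q, mat h * M = M * mat h := fun h =>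
    congrArg Subtype.val (congrArg Subtype.val (Subgroup.mem_center_iff.mp hg h))
  obtain ⟨z, hz, hzs⟩ := exists_norm_one_order hstar hF (dvd_refl (q + 1)) (by omega)
  have hz1 : (z : F) ≠ 1 := by
    intro h
    rw [show z = 1 from Units.ext h, orderOf_one] at hz
    omega
  have third : ∀ i l : Fin n, ∃ j, j ≠ i ∧ j ≠ l := by
    intro i l
    by_contra! h
    have hsub : (Finset.univ : Finset (Fin n)) ⊆ {i, l} := by
      intro j _
      simp only [Finset.mem_insert, Finset.mem_singleton]
      exact (eq_or_ne j i).imp id (h j)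
    have := (Finset.card_le_card hsub).trans (Finset.card_le_two)
    rw [Finset.card_univ, Fintype.card_fin] at this
    omega
  have hoff : ∀ i l, i ≠ l → M i l = 0 := by
    intro i l hil
    obtain ⟨j, hji, hjl⟩ := third i l
    set d : Fin n → F := fun k => if k = i then (z : F) else if k = j then (z : F)⁻¹ else 1 with hd
    have hdet : (diagonal d).det = 1 := by
      rw [det_diagonal, ← Finset.prod_subset (Finset.subset_univ {i, j})]
      · rw [Finset.prod_pair (Ne.symm hji)]
        simp [hd, hji]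
      · intro k _ hk
        simp only [Finset.mem_insert, Finset.mem_singleton, not_or] at hk
        simp [hd, hk.1, hk.2]
    have huni : (diagonal d)ᴴ * diagonal d = 1 := by
      rw [diagonal_conjTranspose, diagonal_mul_diagonal, ← diagonal_one]
      congr 1
      funext k
      simp only [hd, Pi.star_apply]
      split_ifs
      · exact hzs
      · rw [star_inv₀, ← mul_inv, hzs, inv_one]
      · simp
    have := congrFun (congrFun (hcomm (mkSU hstar _ huni hdet)) i) l
    change (diagonal d * M) i l = (M * diagonal d) i l at this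
    rw [diagonal_mul, mul_diagonal] at this
    simp only [hd, if_true, if_neg (Ne.symm hil), if_neg (Ne.symm hjl), mul_one] at this
    have h2 : ((z : F) - 1) * M i l = 0 := by linear_combination this
    exact (mul_eq_zero.mp h2).resolve_left (sub_ne_zero.mpr hz1)
  have hdiag : ∀ l j, M l l = M j j := by
    intro l j
    rcases eq_or_ne l j with rfl | hlj
    · rfl
    obtain ⟨i, hil, hij⟩ := third l j
    set c : Equiv.Perm (Fin n) := Equiv.swap i l * Equiv.swap i j with hc
    have hdet : (c.permMatrix F).det = 1 := by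
      rw [Matrix.det_permutation, hc, Equiv.Perm.sign_mul, Equiv.Perm.sign_swap hil,
        Equiv.Perm.sign_swap hij]
      simp
    have hP : (c.permMatrix F)ᴴ = (c.permMatrix F)ᵀ := by
      ext a b
      simp [conjTranspose_apply, PEquiv.toMatrix_apply, apply_ite star]
    have huni : (c.permMatrix F)ᴴ * c.permMatrix F = 1 := by
      rw [hP, transpose_permMatrix, ← permMatrix_mul, mul_inv_cancel, permMatrix_one]
    have hMd : M = diagonal fun k => M k k := by
      ext a b
      rcases eq_or_ne a b with rfl | hab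
      · simp
      · simp [hoff a b hab, hab]
    have := congrFun (congrFun (hcomm (mkSU hstar _ huni hdet)) j) l
    change (c.permMatrix F * M) j l = (M * c.permMatrix F) j l at this
    rw [hMd, mul_diagonal, diagonal_mul] at this
    have hcj : c j = l := by
      rw [hc, Equiv.Perm.mul_apply, Equiv.swap_apply_right, Equiv.swap_apply_left]
    simpa [PEquiv.toMatrix_apply, Equiv.toPEquiv_apply, hcj] using this
  set c := M ⟨0, by omega⟩ ⟨0, by omega⟩ with hc
  have hMc : M = c • 1 := by
    ext a b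
    rcases eq_or_ne a b with rfl | hab
    · simp [hc, hdiag a ⟨0, by omega⟩]
    · simp [hoff a b hab, hab]
  have hdet : c ^ n = 1 := by
    have := (g : Matrix.SpecialLinearGroup (Fin n) F).2
    change M.det = 1 at this
    rw [hMc, Matrix.det_smul, Matrix.det_one, mul_one] at this
    simpa using this
  have hc0 : c ≠ 0 := by
    intro h
    rw [h, zero_pow (by omega)] at hdet
    exact zero_ne_one hdet
  refine ⟨c, hc0, hdet, ?_, hMc⟩
  have hu : Mᴴ * M = 1 := (mem_SU_iff hstar _).mp g.2
  have := congrFun (congrFun hu ⟨0, by omega⟩) ⟨0, by omega⟩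
  rw [hMc] at this
  simpa [conjTranspose_smul, smul_smul, mul_comm] using this

/-- The projection to the projective group. -/
def proj : Cfsg.SU n F q →* Cfsg.PSU n F q :=
  QuotientGroup.mk' (Subgroup.center (Cfsg.SU n F q))

theorem proj_eq_one (g : Cfsg.SU n F q) {c : F} (h : mat g = c • 1) : proj g = 1 := by
  rw [proj, QuotientGroup.mk'_apply, QuotientGroup.eq_one_iff, Subgroup.mem_center_iff]
  intro k
  apply mat_injective
  change mat k * mat g = mat g * mat k
  rw [h]
  simp

theorem orderOf_proj_dvd (g : Cfsg.SU n F q) {N : ℕ} {c : F} (h : mat g ^ N = c • 1) :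
    orderOf (proj g) ∣ N := by
  refine orderOf_dvd_of_pow_eq_one ?_
  rw [← map_pow]
  exact proj_eq_one _ (by rw [mat_pow, h])

theorem exists_pow_orderOf_proj (hstar : ∀ x : F, star x = x ^ q) (hF : Fintype.card F = q ^ 2)
    (hn : 3 ≤ n) (g : Cfsg.SU n F q) :
    ∃ c : F, star c * c = 1 ∧ mat g ^ orderOf (proj g) = c • 1 := by
  have h := pow_orderOf_eq_one (proj g)
  rw [← map_pow, proj, QuotientGroup.mk'_apply, QuotientGroup.eq_one_iff] at h
  obtain ⟨c, -, -, hc, hc'⟩ := center_smul hstar hF hn _ h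
  exact ⟨c, hc, by rw [← hc', mat_pow]; rfl⟩

/-- Elements whose order divides an order divisible by `r`. -/
def Good (r : ℕ) (x : Cfsg.PSU n F q) : Prop :=
  ∃ y : Cfsg.PSU n F q, r ∣ orderOf y ∧ orderOf x ∣ orderOf y

theorem Good.of_dvd {r : ℕ} {x y : Cfsg.PSU n F q} (h : orderOf x ∣ orderOf y) (hy : Good r y) :
    Good r x :=
  let ⟨z, h1, h2⟩ := hy; ⟨z, h1, h.trans h2⟩

theorem good_of_idempotent (hstar : ∀ x : F, star x = x ^ q) (hF : Fintype.card F = q ^ 2)
    {r : ℕ} (hr : r.Prime) (hrq : r ∣ q + 1)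
    (hrn : ¬ r ∣ n) (hn3 : 3 ≤ n) (g : Cfsg.SU n F q) (E : Mn) (hE : E * E = E) (hEs : Eᴴ = E)
    (h0 : E ≠ 0)
    (h1 : E ≠ 1) (hc : Commute E (mat g)) : Good r (proj g) := by
  classical
  haveI : Fact r.Prime := ⟨hr⟩
  obtain ⟨u, hu, hus⟩ := exists_norm_one_order hstar hF hrq hr.one_le
  set P : F → F → Mn := fun a b => a • E + b • (1 - E) with hP
  have hmul : ∀ a b c d, P a b * P c d = P (a * c) (b * d) := by
    intro a b c d
    have h01 : E * (1 - E) = 0 := by rw [mul_sub, mul_one, hE, sub_self]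
    have h10 : (1 - E) * E = 0 := by rw [sub_mul, one_mul, hE, sub_self]
    have h11 : (1 - E) * (1 - E) = 1 - E := by rw [mul_sub, mul_one, h10, sub_zero]
    simp only [hP, add_mul, mul_add, smul_mul_assoc, mul_smul_comm, hE, h01, h10, h11, smul_zero,
      add_zero, zero_add, smul_smul, mul_comm c a, mul_comm d b]
  have hPs : ∀ a b, (P a b)ᴴ = P (star a) (star b) := by
    intro a b
    simp only [hP, conjTranspose_add, conjTranspose_smul, conjTranspose_sub, conjTranspose_one, hEs]
  have hPone : P 1 1 = 1 := by simp [hP]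
  have hpow : ∀ (a : F) (k : ℕ), P a 1 ^ k = P (a ^ k) 1 := by
    intro a k
    induction k with
    | zero => simp [hPone]
    | succ k ih => rw [pow_succ, ih, hmul, pow_succ, one_mul]
  set x : F := (u : F) with hx
  have hxr : x ^ r = 1 := by rw [hx, ← Units.val_pow_eq_pow_val, ← hu, pow_orderOf_eq_one]; rfl
  have hxn : x ^ n ≠ 1 := by
    intro h
    apply hrn
    rw [← hu, orderOf_dvd_iff_pow_eq_one]
    exact Units.ext (by simpa [hx] using h)
  set D := (P x 1).det with hD
  have hDr : D ^ r = 1 := by rw [hD, ← Matrix.det_pow, hpow, hxr, hPone, Matrix.det_one]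
  have hD0 : D ≠ 0 := by
    intro h
    rw [h, zero_pow hr.ne_zero] at hDr
    exact zero_ne_one hDr
  have hDs : star D * D = 1 := by
    refine Small.Hermitian.star_mul_self_of_pow hstar ?_
    obtain ⟨c, hc⟩ := hrq
    rw [hc, pow_mul, hDr, one_pow]
  set M : Mn := D⁻¹ • P (x ^ n) 1 with hM
  have hMdet : M.det = 1 := by
    rw [hM, Matrix.det_smul, ← hpow, Matrix.det_pow, ← hD, Fintype.card_fin, inv_pow,
      inv_mul_cancel₀ (pow_ne_zero _ hD0)]
  have hMu : Mᴴ * M = 1 := by
    rw [hM, conjTranspose_smul, hPs, star_one, star_pow, Matrix.smul_mul, Matrix.mul_smul, hmul,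
      one_mul, ← mul_pow, hus, one_pow, hPone, smul_smul, star_inv₀, ← mul_inv, hDs, inv_one,
      one_smul]
  set y := mkSU hstar M hMu hMdet with hy
  have hy1 : proj y ≠ 1 := by
    intro he
    have hcent : y ∈ Subgroup.center (Cfsg.SU n F q) := by
      rwa [proj, QuotientGroup.mk'_apply, QuotientGroup.eq_one_iff] at he
    obtain ⟨c, -, -, -, hc'⟩ := center_smul hstar hF hn3 y hcent
    change M = c • 1 at hc'
    rw [hM] at hc'
    have e1 := congrArg (fun Z => Z * P 1 0) hc'
    have e2 := congrArg (fun Z => Z * P 0 1) hc'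
    simp only [smul_mul_assoc, hmul, one_mul, mul_one, mul_zero] at e1 e2
    simp only [hP, zero_smul, one_smul, add_zero, zero_add, smul_smul] at e1 e2
    have h1E : (1 : Mn) - E ≠ 0 := sub_ne_zero.mpr h1.symm
    have f1 := smul_left_injective F h0 e1
    have f2 := smul_left_injective F h1E e2
    apply hxn
    rw [← f2] at f1
    field_simp at f1
    exact f1
  have hyr : proj y ^ r = 1 := by
    rw [← map_pow]
    refine proj_eq_one _ (c := 1) ?_
    rw [mat_pow]
    change M ^ r = _
    rw [hM, _root_.smul_pow, hpow, ← pow_mul, mul_comm n r, pow_mul, hxr, one_pow, hPone, inv_pow,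
      hDr, inv_one]
  have hord : orderOf (proj y) = r := orderOf_eq_prime hyr hy1
  by_cases hrg : r ∣ orderOf (proj g)
  · exact ⟨proj g, hrg, dvd_rfl⟩
  have hcomm : Commute (proj g) (proj y) := by
    apply Commute.map
    apply mat_injective
    change mat g * M = M * mat g
    have : Commute (mat g) M := by
      rw [hM]
      exact ((hc.symm.smul_right _).add_right
        (((Commute.one_right _).sub_right hc.symm).smul_right _)).smul_right _
    exact this
  refine ⟨proj g * proj y, ?_, ?_⟩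
  all_goals rw [hcomm.orderOf_mul_eq_mul_orderOf_of_coprime
    (by rw [hord]; exact ((hr.coprime_iff_not_dvd).mpr hrg).symm), hord]
  · exact dvd_mul_left _ _
  · exact dvd_mul_right _ _

theorem aeval_conjTranspose (A : Mn) (P : F[X]) :
    (Polynomial.aeval A P)ᴴ = Polynomial.aeval Aᴴ (P.map (starRingEnd F)) := by
  induction P using Polynomial.induction_on' with
  | add a b ha hb => rw [map_add, conjTranspose_add, Polynomial.map_add, map_add, ha, hb]
  | monomial i a =>
    rw [Polynomial.map_monomial, aeval_monomial, aeval_monomial, Algebra.algebraMap_eq_smul_one,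
      Algebra.algebraMap_eq_smul_one, smul_one_mul, smul_one_mul, conjTranspose_smul,
      conjTranspose_pow]
    rfl

theorem mem_range_of_norm_one {K : Type*} [Field K] [Algebra F K] (hstar : ∀ x : F, star x = x ^ q)
    (hF : Fintype.card F = q ^ 2) {x : K} (hx : x ^ (q + 1) = 1) :
    ∃ c : F, star c * c = 1 ∧ algebraMap F K c = x := by
  classical
  have h2 := Fintype.one_lt_card (α := F)
  set P : K[X] := X ^ Fintype.card F - X with hP
  have hP0 : P ≠ 0 := FiniteField.X_pow_card_sub_X_ne_zero K h2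
  have hsub : Finset.univ.image (algebraMap F K) ⊆ P.roots.toFinset := by
    intro y hy
    obtain ⟨a, -, rfl⟩ := Finset.mem_image.mp hy
    rw [Multiset.mem_toFinset, mem_roots hP0]
    simp [hP, ← map_pow, FiniteField.pow_card]
  have heq : Finset.univ.image (algebraMap F K) = P.roots.toFinset := by
    apply Finset.eq_of_subset_of_card_le hsub
    rw [Finset.card_image_of_injective _ (algebraMap F K).injective, Finset.card_univ]
    refine (Multiset.toFinset_card_le _).trans ((card_roots' _).trans ?_)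
    rw [hP, FiniteField.X_pow_card_sub_X_natDegree_eq K h2]
  have hx' : x ∈ P.roots.toFinset := by
    have hq := Small.Hermitian.q_two_le hF
    have h3 : x ^ (q ^ 2 - 1) = 1 := by
      rw [Small.Hermitian.sq_sub_one, pow_mul, hx, one_pow]
    rw [Multiset.mem_toFinset, mem_roots hP0, IsRoot.def, hP, eval_sub, eval_pow, eval_X,
      show Fintype.card F = q ^ 2 - 1 + 1 by omega, pow_succ, h3, one_mul, sub_self]
  rw [← heq, Finset.mem_image] at hx'
  obtain ⟨a, -, ha⟩ := hx'
  refine ⟨a, Small.Hermitian.star_mul_self_of_pow hstar ?_, ha⟩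
  apply (algebraMap F K).injective
  rw [map_pow, ha, hx, map_one]

theorem exists_norm_one_dvd (hstar : ∀ x : F, star x = x ^ q) (hF : Fintype.card F = q ^ 2)
    {f : F[X]} [Fact (Irreducible f)] {N : ℕ}
    (h : AdjoinRoot.root f ^ (N * (q + 1)) = 1) :
    ∃ c : F, star c * c = 1 ∧ f ∣ X ^ N - C c := by
  rw [pow_mul] at h
  obtain ⟨c, hc, hc'⟩ := mem_range_of_norm_one hstar hF h
  refine ⟨c, hc, ?_⟩
  rw [← AdjoinRoot.mk_eq_zero, map_sub, map_pow, AdjoinRoot.mk_X, AdjoinRoot.mk_C, ← hc',
    AdjoinRoot.algebraMap_eq, sub_self]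

theorem adjoinRoot_card {f : F[X]} (hfi : Irreducible f) :
    Nat.card (AdjoinRoot f) = Fintype.card F ^ f.natDegree := by
  haveI := Fact.mk hfi
  haveI : Module.Finite F (AdjoinRoot f) :=
    Module.Finite.of_basis (AdjoinRoot.powerBasis hfi.ne_zero).basis
  rw [Module.natCard_eq_pow_finrank (K := F) (V := AdjoinRoot f),
    (AdjoinRoot.powerBasis hfi.ne_zero).finrank, AdjoinRoot.powerBasis_dim,
    Nat.card_eq_fintype_card]

theorem root_norm {f : F[X]} [Fact (Irreducible f)] (hfm : f.Monic) :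
    AdjoinRoot.root f ^ ((Fintype.card F ^ f.natDegree - 1) / (Fintype.card F - 1)) =
      algebraMap F (AdjoinRoot f) ((-1) ^ f.natDegree * f.coeff 0) := by
  have hfi : Irreducible f := Fact.out
  haveI : Module.Finite F (AdjoinRoot f) :=
    Module.Finite.of_basis (AdjoinRoot.powerBasis hfi.ne_zero).basis
  haveI : Finite (AdjoinRoot f) := Module.finite_of_finite F
  rw [← adjoinRoot_card hfi, ← Nat.card_eq_fintype_card (α := F),
    ← FiniteField.algebraMap_norm_eq_pow (K := F)]
  congr 1
  have := Algebra.PowerBasis.norm_gen_eq_coeff_zero_minpoly (AdjoinRoot.powerBasis hfi.ne_zero)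
  rw [AdjoinRoot.powerBasis_gen, AdjoinRoot.powerBasis_dim, AdjoinRoot.minpoly_root hfi.ne_zero,
    hfm.leadingCoeff, inv_one, map_one, mul_one] at this
  exact this

/-- A conjugate-reciprocal irreducible polynomial has odd degree `d`, its roots satisfy
`x ^ (q^d + 1) = 1`. -/
theorem selfconj_root (hstar : ∀ x : F, star x = x ^ q) (hF : Fintype.card F = q ^ 2)
    {f : F[X]} [Fact (Irreducible f)] (hne : AdjoinRoot.root f ≠ 0)
    (hrec : Polynomial.aeval (AdjoinRoot.root f)⁻¹ (f.map (starRingEnd F)) = 0) :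
    Odd f.natDegree ∧ AdjoinRoot.root f ^ (q ^ f.natDegree + 1) = 1 := by
  classical
  have hfi : Irreducible f := Fact.out
  haveI : Module.Finite F (AdjoinRoot f) :=
    Module.Finite.of_basis (AdjoinRoot.powerBasis hfi.ne_zero).basis
  haveI : Finite (AdjoinRoot f) := Module.finite_of_finite F
  haveI := Fintype.ofFinite (AdjoinRoot f)
  obtain ⟨p, hp⟩ := CharP.exists F
  haveI := hp
  haveI : Fact p.Prime := ⟨(CharP.char_is_prime F p)⟩
  haveI : CharP (AdjoinRoot f) p :=
    charP_of_injective_algebraMap (algebraMap F (AdjoinRoot f)).injective p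
  have hq := Small.Hermitian.q_two_le hF
  set d := f.natDegree with hd
  set α := AdjoinRoot.root f with hα
  obtain ⟨e, he⟩ : ∃ e, q = p ^ e := by
    obtain ⟨k, -, hk⟩ := FiniteField.card F p
    rw [hF] at hk
    obtain ⟨e, -, he⟩ := (Nat.dvd_prime_pow (Fact.out : p.Prime)).mp
      (hk ▸ dvd_pow_self q two_ne_zero : q ∣ p ^ (k : ℕ))
    exact ⟨e, he⟩
  set φ : AdjoinRoot f →+* AdjoinRoot f := iterateFrobenius (AdjoinRoot f) p e with hφ
  have hφq : ∀ x, φ x = x ^ q := fun x => by rw [hφ, iterateFrobenius_def, ← he]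
  have hroot : Polynomial.aeval (α⁻¹ ^ q) f = 0 := by
    have h1 := congrArg φ hrec
    rw [aeval_def, hom_eval₂, map_zero, eval₂_map, hφq] at h1
    rw [aeval_def]
    have hcomp : (φ.comp (algebraMap F (AdjoinRoot f))).comp (starRingEnd F) =
        algebraMap F (AdjoinRoot f) := RingHom.ext fun c => by
      simp only [RingHom.comp_apply, hφq, starRingEnd_apply, hstar, ← map_pow, ← pow_mul]
      rw [← sq, ← hF, FiniteField.pow_card]
    rwa [hcomp] at h1
  let ψ : AdjoinRoot f →ₐ[F] AdjoinRoot f :=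
    AdjoinRoot.liftAlgHom f (Algebra.ofId F (AdjoinRoot f)) (α⁻¹ ^ q)
      (by rwa [aeval_def] at hroot)
  have hψ : ψ α = α⁻¹ ^ q := AdjoinRoot.liftAlgHom_root ..
  have hbij : Function.Bijective ψ :=
    Finite.injective_iff_bijective.mp ψ.toRingHom.injective
  obtain ⟨i, hi⟩ := (FiniteField.bijective_frobeniusAlgEquivOfAlgebraic_pow F (AdjoinRoot f)).2
    (AlgEquiv.ofBijective ψ hbij)
  set Q := Fintype.card F with hQ
  have hfr : ∀ (j : ℕ) (x : AdjoinRoot f),
      ((FiniteField.frobeniusAlgEquivOfAlgebraic F (AdjoinRoot f)) ^ j) x = x ^ Q ^ j := by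
    intro j x
    rw [AlgEquiv.coe_pow, FiniteField.coe_frobeniusAlgEquivOfAlgebraic, pow_iterate]
  have hαi : α ^ Q ^ (i : ℕ) = α⁻¹ ^ q := by
    rw [← hfr, ← hψ]
    exact congrFun (congrArg DFunLike.coe hi) α
  have hfd : Module.finrank F (AdjoinRoot f) = d := by
    rw [(AdjoinRoot.powerBasis hfi.ne_zero).finrank, AdjoinRoot.powerBasis_dim]
  have hdpos : 0 < d := hfi.natDegree_pos
  have hfix : ∀ x : AdjoinRoot f, x ^ Q ^ d = x := by
    intro x
    rw [hQ, hd, ← adjoinRoot_card hfi, Nat.card_eq_fintype_card, FiniteField.pow_card]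
  have hmod : ∀ (x : AdjoinRoot f) (a : ℕ), x ^ Q ^ a = x ^ Q ^ (a % d) := by
    intro x a
    conv_lhs => rw [← Nat.mod_add_div a d]
    rw [pow_add, pow_mul Q, pow_mul]
    generalize a / d = c
    generalize x ^ Q ^ (a % d) = y
    induction c with
    | zero => simp
    | succ c ih => rw [pow_succ, pow_mul, ih, hfix]
  have hinj : ∀ a b : ℕ, α ^ Q ^ a = α ^ Q ^ b → a % d = b % d := by
    intro a b hab
    rw [hmod α a, hmod α b, ← hfr, ← hfr] at hab
    have h1 := AdjoinRoot.algHom_ext (f := f)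
      (g₁ := ((FiniteField.frobeniusAlgEquivOfAlgebraic F (AdjoinRoot f)) ^ (a % d) :
        AdjoinRoot f ≃ₐ[F] AdjoinRoot f).toAlgHom)
      (g₂ := ((FiniteField.frobeniusAlgEquivOfAlgebraic F (AdjoinRoot f)) ^ (b % d) :
        AdjoinRoot f ≃ₐ[F] AdjoinRoot f).toAlgHom) hab
    have h2 := (FiniteField.bijective_frobeniusAlgEquivOfAlgebraic_pow F (AdjoinRoot f)).1
      (a₁ := ⟨a % d, hfd.symm ▸ Nat.mod_lt _ hdpos⟩) (a₂ := ⟨b % d, hfd.symm ▸ Nat.mod_lt _ hdpos⟩)
      (AlgEquiv.coe_algHom_injective h1)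
    simpa using congrArg Fin.val h2
  have h2i : α ^ Q ^ (2 * (i : ℕ)) = α ^ Q ^ 1 := by
    rw [two_mul, pow_add, pow_mul, hαi, ← pow_mul, mul_comm q, pow_mul, inv_pow α, hαi]
    rw [inv_pow α, inv_inv, ← pow_mul, pow_one, hF, sq]
  have hcong := hinj _ _ h2i
  have hilt : (i : ℕ) < d := hfd ▸ i.isLt
  have hodd : Odd d := by
    rw [← Nat.not_even_iff_odd]
    rintro ⟨t, ht⟩
    have h1 : (2 * (i : ℕ)) % 2 = 1 % 2 := by
      have hdvd : 2 ∣ d := ⟨t, by omega⟩
      rw [← Nat.mod_mod_of_dvd (2 * (i : ℕ)) hdvd, hcong, Nat.mod_mod_of_dvd 1 hdvd]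
    omega
  refine ⟨hodd, ?_⟩
  obtain ⟨t, ht⟩ := hodd
  have hkey : α ^ Q ^ (t + 1) = α⁻¹ ^ q := by
    rw [← hαi, hmod α (t + 1), hmod α (i : ℕ)]
    congr 2
    rcases Nat.eq_zero_or_pos t with rfl | htpos
    · simp [ht, Nat.mod_one]
    rw [Nat.one_mod_eq_one.mpr (by omega)] at hcong
    rcases Nat.lt_or_ge (2 * (i : ℕ)) d with hlt | hge
    · rw [Nat.mod_eq_of_lt hlt] at hcong; omega
    · rw [Nat.mod_eq_sub_mod hge, Nat.mod_eq_of_lt (by omega)] at hcong
      rw [show t + 1 = (i : ℕ) by omega]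
  apply iterateFrobenius_inj (AdjoinRoot f) p e
  rw [iterateFrobenius_def, iterateFrobenius_def, one_pow, ← he, ← pow_mul,
    show (q ^ d + 1) * q = Q ^ (t + 1) + q by
      rw [hF, ← pow_mul, show 2 * (t + 1) = d + 1 by omega, pow_succ]; ring,
    pow_add, hkey, inv_pow, inv_mul_cancel₀ (pow_ne_zero _ hne)]

/-- What is known on the order of an element of `SU`. -/
theorem analyse (hstar : ∀ x : F, star x = x ^ q) (hF : Fintype.card F = q ^ 2) (p : ℕ)
    [Fact p.Prime] [CharP F p] (hn : 3 ≤ n) (g : Cfsg.SU n F q) :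
    (∃ E : Mn, E * E = E ∧ Eᴴ = E ∧ E ≠ 0 ∧ E ≠ 1 ∧ Commute E (mat g)) ∨
    (∃ k, k ≤ n ∧ ∀ c, k ≤ p ^ c → ∃ s : F, mat g ^ p ^ c = s • 1) ∨
    ∃ m k, 2 ≤ m ∧ 1 ≤ k ∧ k * m ≤ n ∧
      (∀ c, k ≤ p ^ c → ∃ s : F, mat g ^ (torusOrder q m * p ^ c) = s • 1) ∧
      (m = n → ∀ N, torusOrder q n ∣ N * (q + 1) → ∃ s : F, mat g ^ N = s • 1) := by
  classical
  haveI : Nonempty (Fin n) := ⟨⟨0, by omega⟩⟩
  have hq := Small.Hermitian.q_two_le hF
  set A := mat g with hA
  have hAA : Aᴴ * A = 1 := (mem_SU_iff hstar _).mp g.2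
  have hAA' : A * Aᴴ = 1 := mul_eq_one_comm.mp hAA
  have hdetA : A.det = 1 := (g : Matrix.SpecialLinearGroup (Fin n) F).2
  obtain ⟨l, hl⟩ : ∃ l : ℕ, A ^ l = Aᴴ := by
    refine ⟨orderOf g - 1, ?_⟩
    have h1 : A ^ orderOf g = 1 := by rw [hA, ← mat_pow, pow_orderOf_eq_one]; rfl
    rw [← Nat.sub_add_cancel (orderOf_pos g : 0 < orderOf g), pow_succ] at h1
    calc A ^ (orderOf g - 1) = A ^ (orderOf g - 1) * A * Aᴴ := by rw [mul_assoc, hAA', mul_one]
      _ = Aᴴ := by rw [h1, one_mul]
  obtain ⟨f, k, hfm, hfi, hk, hcase⟩ := isPrimary_or_split A (Matrix.isIntegral A)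
  haveI := Fact.mk hfi
  set d := f.natDegree with hd
  have hd1 : 1 ≤ d := hfi.natDegree_pos
  rcases hcase with hμ | ⟨e, hee, he1, hfe, hfe'⟩
  · -- a single primary component
    have hann : Polynomial.aeval A (f ^ k) = 0 := by rw [← hμ, minpoly.aeval]
    have hdeg : k * d ≤ n := by
      have h1 := Polynomial.natDegree_le_of_dvd (Matrix.minpoly_dvd_charpoly A)
        A.charpoly_monic.ne_zero
      rwa [hμ, natDegree_pow, Matrix.charpoly_natDegree_eq_dim, Fintype.card_fin] at h1
    have hα0 : AdjoinRoot.root f ≠ 0 := by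
      intro h
      rw [← AdjoinRoot.mk_X, AdjoinRoot.mk_eq_zero] at h
      obtain ⟨r, hr⟩ := (hfi.associated_of_dvd Polynomial.irreducible_X h).symm.dvd
      have := hann
      rw [hr, mul_pow, map_mul, map_pow, aeval_X] at this
      have hu : IsUnit (A ^ k) := (IsUnit.pow _ ⟨⟨A, Aᴴ, hAA', hAA⟩, rfl⟩)
      have h2 : Polynomial.aeval A (r ^ k) = 0 := hu.mul_right_eq_zero.mp this
      have h3 : f ^ k ∣ r ^ k := hμ ▸ minpoly.dvd F A h2
      have hf0 : f ^ k ≠ 0 := pow_ne_zero _ hfi.ne_zero
      have hr0 : r ≠ 0 := fun h0 => hfi.ne_zero (by rw [hr, h0, mul_zero])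
      have h4 := Polynomial.natDegree_le_of_dvd h3 (pow_ne_zero _ hr0)
      rw [natDegree_pow, natDegree_pow, hr, natDegree_mul X_ne_zero hr0, natDegree_X] at h4
      nlinarith
    have hrec : Polynomial.aeval (AdjoinRoot.root f)⁻¹ (f.map (starRingEnd F)) = 0 := by
      have h1 : Polynomial.aeval A (((f.map (starRingEnd F)).comp (X ^ l)) ^ k) = 0 := by
        rw [map_pow, aeval_comp, map_pow, aeval_X, hl, ← map_pow (Polynomial.aeval Aᴴ),
          ← Polynomial.map_pow, ← aeval_conjTranspose, hann, conjTranspose_zero]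
      have h2 : f ∣ (f.map (starRingEnd F)).comp (X ^ l) :=
        hfi.prime.dvd_of_dvd_pow ((dvd_pow_self f (by omega)).trans (hμ ▸ minpoly.dvd F A h1))
      have h3 : Polynomial.aeval A (X * X ^ l - 1 : F[X]) = 0 := by
        rw [map_sub, map_mul, map_pow, aeval_X, map_one, hl, hAA', sub_self]
      have h4 : f ∣ X * X ^ l - 1 := (dvd_pow_self f (by omega)).trans (hμ ▸ minpoly.dvd F A h3)
      rw [← AdjoinRoot.mk_eq_zero, map_sub, map_mul, map_pow, AdjoinRoot.mk_X, map_one,
        sub_eq_zero] at h4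
      rw [← eq_inv_of_mul_eq_one_right h4]
      rw [← AdjoinRoot.mk_eq_zero, ← AdjoinRoot.aeval_eq, aeval_comp, map_pow, aeval_X] at h2
      exact h2
    obtain ⟨hdodd, hαq⟩ := selfconj_root hstar hF hα0 hrec
    rw [← hd] at hdodd hαq
    have hscal : ∀ {N : ℕ}, AdjoinRoot.root f ^ (N * (q + 1)) = 1 →
        ∀ c, k ≤ p ^ c → ∃ s : F, A ^ (N * p ^ c) = s • 1 := by
      intro N hN c hc
      obtain ⟨a, -, ha⟩ := exists_norm_one_dvd hstar hF hN
      have := pow_sub_smul_mul_eq_zero p (E := (1 : Mn)) (by rw [mul_one]; exact hann) ha hc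
      rw [mul_one, sub_eq_zero] at this
      exact ⟨_, this⟩
    right
    rcases Nat.eq_or_lt_of_le hd1 with hd1' | hd2
    · left
      refine ⟨k, by nlinarith, fun c hc => ?_⟩
      have := hscal (N := 1) (by rw [one_mul]; rw [← hd1', pow_one] at hαq; exact hαq) c hc
      rwa [one_mul] at this
    right
    refine ⟨d, k, hd2, hk, hdeg, ?_, fun hmn N hN => ?_⟩
    · intro c hc
      refine hscal ?_ c hc
      rw [torusOrder, if_neg (Nat.not_even_iff_odd.mpr hdodd),
        Nat.div_mul_cancel (succ_dvd_pow_add_one hdodd)]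
      exact hαq
    · obtain rfl : k = 1 := by nlinarith
      rw [pow_one] at hμ
      have hchar : A.charpoly = f := by
        have h2 := Matrix.minpoly_dvd_charpoly A
        rw [hμ] at h2
        refine Polynomial.eq_of_monic_of_dvd_of_natDegree_le hfm (Matrix.charpoly_monic _) h2 ?_
        rw [Matrix.charpoly_natDegree_eq_dim, Fintype.card_fin, ← hd, hmn]
      have hnorm := root_norm (f := f) hfm
      rw [← hd, hmn] at hnorm
      rw [hmn] at hαq hdodd
      have hone : (-1 : F) ^ n * f.coeff 0 = 1 := by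
        have := Matrix.det_eq_sign_charpoly_coeff A
        rw [hdetA, hchar, Fintype.card_fin] at this
        exact this.symm
      rw [hone, map_one, hF] at hnorm
      have hM : AdjoinRoot.root f ^ torusOrder q n = 1 := by
        rw [torusOrder, if_neg (Nat.not_even_iff_odd.mpr hdodd), ← gcd_geom_torus hq hdodd,
          pow_gcd_eq_one]
        exact ⟨hnorm, hαq⟩
      obtain ⟨w, hw⟩ := hN
      obtain ⟨s, hs⟩ := hscal (N := N) (by rw [hw, pow_mul, hM, one_pow]) 0 (by simp)
      exact ⟨s, by rwa [pow_zero, mul_one] at hs⟩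
  · -- at least two primary components
    set E := Polynomial.aeval A e with hE
    have hEA : Commute E A := (commute_aeval_right (Commute.refl A) e).symm
    have hEH : Eᴴ = Polynomial.aeval A ((e.map (starRingEnd F)).comp (X ^ l)) := by
      rw [hE, aeval_conjTranspose, aeval_comp, map_pow, aeval_X, hl]
    have hEHA : Commute Eᴴ A := by
      rw [hEH]; exact (commute_aeval_right (Commute.refl A) _).symm
    have hEEH : Commute E Eᴴ := by
      rw [hEH]; exact commute_aeval_right hEA _
    have hE0 : E ≠ 0 := by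
      intro h
      rw [h, mul_zero] at hfe'
      exact hfe' rfl
    by_cases hprod : E * Eᴴ = 0
    swap
    · left
      refine ⟨E * Eᴴ, ?_, ?_, hprod, ?_, hEA.mul_left hEHA⟩
      · calc E * Eᴴ * (E * Eᴴ) = E * (Eᴴ * E) * Eᴴ := by simp only [mul_assoc]
          _ = (E * E) * (E * E)ᴴ := by
              rw [← hEEH.eq, conjTranspose_mul]; simp only [mul_assoc]
          _ = E * Eᴴ := by rw [hee]
      · rw [conjTranspose_mul, conjTranspose_conjTranspose]
      · intro h
        apply he1
        calc E = E * (E * Eᴴ) := by rw [h, mul_one]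
          _ = 1 := by rw [← mul_assoc, hee, h]
    have hprod' : Eᴴ * E = 0 := hEEH.eq ▸ hprod
    by_cases hsum : E + Eᴴ = 1
    swap
    · left
      refine ⟨E + Eᴴ, ?_, ?_, ?_, hsum, hEA.add_left hEHA⟩
      · rw [add_mul, mul_add, mul_add, hprod, hprod', hee, ← conjTranspose_mul, hee, add_zero,
          zero_add]
      · rw [conjTranspose_add, conjTranspose_conjTranspose, add_comm]
      · intro h
        apply hE0
        have := congrArg (fun Z => E * Z) h
        rwa [mul_add, hee, hprod, add_zero, mul_zero] at this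
    have hEH1 : Eᴴ = 1 - E := eq_sub_of_add_eq' hsum
    -- the dimension bound
    obtain ⟨v, hv⟩ : ∃ v, (Polynomial.aeval A (f ^ (k - 1)) * E) *ᵥ v ≠ 0 := by
      by_contra! h
      exact hfe' (Matrix.ext_of_mulVec_single fun i => by rw [h, Matrix.zero_mulVec])
    have hli := linearIndependent_krylov A f k hk hfi (E *ᵥ v) (by rwa [Matrix.mulVec_mulVec])
      (by rw [Matrix.mulVec_mulVec, hfe, Matrix.zero_mulVec])
    rw [← hd] at hli
    set R : Matrix (Fin (k * d)) (Fin n) F :=
      Matrix.of fun i => (A ^ (i : ℕ)) *ᵥ (E *ᵥ v) with hR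
    have hliR : LinearIndependent F R.row := hli
    have hliR' : LinearIndependent F (R.map star).row := by
      rw [Fintype.linearIndependent_iff] at hliR ⊢
      intro c hc i
      have h1 : ∑ i, star (c i) • R.row i = 0 := by
        funext j
        have := congrArg star (congrFun hc j)
        simpa [star_sum] using this
      exact star_eq_zero.mp (hliR (fun i => star (c i)) h1 i)
    have hzero : R.map star * Rᵀ = 0 := by
      ext i j
      have key : (R.map star * Rᵀ) i j =
          star ((A ^ (i : ℕ)) *ᵥ (E *ᵥ v)) ⬝ᵥ ((A ^ (j : ℕ)) *ᵥ (E *ᵥ v)) := by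
        simp [Matrix.mul_apply, dotProduct, hR]
      rw [key, Matrix.mulVec_mulVec, Matrix.mulVec_mulVec, (hEA.symm.pow_left _).eq,
        (hEA.symm.pow_left _).eq, Matrix.star_mulVec, conjTranspose_mul, ← Matrix.dotProduct_mulVec,
        Matrix.mulVec_mulVec, mul_assoc, ← mul_assoc Eᴴ E, hprod', zero_mul, mul_zero,
        Matrix.zero_mulVec, dotProduct_zero, Matrix.zero_apply]
    have h2kd : k * d + k * d ≤ n := by
      have h1 := Matrix.rank_add_rank_le_card_of_mul_eq_zero hzero
      rwa [Matrix.rank_transpose, hliR.rank_matrix, hliR'.rank_matrix, Fintype.card_fin,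
        Fintype.card_fin] at h1
    have hscal : ∀ {N : ℕ}, AdjoinRoot.root f ^ (N * (q + 1)) = 1 →
        ∀ c, k ≤ p ^ c → ∃ s : F, A ^ (N * p ^ c) = s • 1 := by
      intro N hN c hc
      obtain ⟨a, ha1, ha⟩ := exists_norm_one_dvd hstar hF hN
      have h1 := pow_sub_smul_mul_eq_zero p hfe ha hc
      set s := a ^ p ^ c with hs
      have hs1 : star s * s = 1 := by rw [hs, star_pow, ← mul_pow, ha1, one_pow]
      set M := N * p ^ c with hM
      have h2 : (1 - E) * (Aᴴ ^ M - star s • 1) = 0 := by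
        have := congrArg conjTranspose h1
        rwa [conjTranspose_mul, conjTranspose_sub, conjTranspose_pow, conjTranspose_smul,
          conjTranspose_one, hEH1, conjTranspose_zero] at this
      have h3 : (1 - E) * (A ^ M - s • 1) = 0 := by
        have h4 : (Aᴴ ^ M - star s • 1) * (s • A ^ M) = s • (1 : Mn) - A ^ M := by
          rw [sub_mul, Matrix.mul_smul, ← (show Commute Aᴴ A from hAA.trans hAA'.symm).mul_pow, hAA,
            one_pow, Matrix.smul_mul, one_mul, smul_smul, hs1, one_smul]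
        calc (1 - E) * (A ^ M - s • 1) = -((1 - E) * (Aᴴ ^ M - star s • 1) * (s • A ^ M)) := by
              rw [mul_assoc, h4, ← mul_neg, neg_sub]
          _ = 0 := by rw [h2, zero_mul, neg_zero]
      refine ⟨s, sub_eq_zero.mp ?_⟩
      calc A ^ M - s • 1 = (A ^ M - s • 1) * E + (1 - E) * (A ^ M - s • 1) := by
            rw [((hEA.symm.pow_left _).sub_left ((Commute.one_left _).smul_left _)).eq, sub_mul,
              one_mul]
            abel
        _ = 0 := by rw [h1, h3, add_zero]
    have hα0 : AdjoinRoot.root f ≠ 0 := by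
      intro h
      rw [← AdjoinRoot.mk_X, AdjoinRoot.mk_eq_zero] at h
      obtain ⟨r, hr⟩ := h
      have h1 : Polynomial.aeval A (X ^ k : F[X]) * E = 0 := by
        rw [hr, mul_pow, mul_comm (f ^ k) _, map_mul, mul_assoc, hfe, mul_zero]
      rw [map_pow, aeval_X] at h1
      exact hE0 (((IsUnit.pow k ⟨⟨A, Aᴴ, hAA', hAA⟩, rfl⟩).mul_right_eq_zero).mp h1)
    have hαbig : AdjoinRoot.root f ^ (q ^ (2 * d) - 1) = 1 := by
      haveI : Module.Finite F (AdjoinRoot f) :=
        Module.Finite.of_basis (AdjoinRoot.powerBasis hfi.ne_zero).basis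
      haveI : Finite (AdjoinRoot f) := Module.finite_of_finite F
      haveI := Fintype.ofFinite (AdjoinRoot f)
      have hcard : Fintype.card (AdjoinRoot f) = q ^ (2 * d) := by
        rw [← Nat.card_eq_fintype_card, adjoinRoot_card hfi, hF, ← pow_mul]
      rw [← hcard]
      exact FiniteField.pow_card_sub_one_eq_one _ hα0
    have hM0 : torusOrder q (d + d) * (q + 1) = q ^ (2 * d) - 1 := by
      rw [torusOrder, if_pos ⟨d, rfl⟩, ← two_mul,
        Nat.div_mul_cancel (succ_dvd_pow_sub_one q d)]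
    right; right
    refine ⟨d + d, k, by omega, hk, by rw [mul_add]; exact h2kd, ?_, fun hmn N hN => ?_⟩
    · intro c hc
      exact hscal (by rw [hM0, hαbig]) c hc
    obtain rfl : k = 1 := by
      rcases Nat.eq_or_lt_of_le hk with h | h
      · exact h.symm
      · exfalso
        have : 2 * d ≤ k * d := Nat.mul_le_mul_right d h
        omega
    have hfA : Polynomial.aeval A f * E = 0 := by rwa [pow_one] at hfe
    suffices hM : AdjoinRoot.root f ^ torusOrder q n = 1 by
      obtain ⟨w, hw⟩ := hN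
      obtain ⟨s, hs⟩ := hscal (N := N) (by rw [hw, pow_mul, hM, one_pow]) 0 (by simp)
      exact ⟨s, by rwa [pow_zero, mul_one] at hs⟩
    by_cases hf1 : f = X - C 1
    · have hroot1 : AdjoinRoot.root f = 1 := by
        have h1 : AdjoinRoot.mk f (X - C 1) = 0 := by
          rw [AdjoinRoot.mk_eq_zero]; exact hf1 ▸ dvd_rfl
        rwa [map_sub, AdjoinRoot.mk_X, map_one, map_one, sub_eq_zero] at h1
      rw [hroot1, one_pow]
    -- the determinant condition
    set Z : Mn := A * E + (1 - E) with hZ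
    set W : Mn := E + A * (1 - E) with hW
    have hE1E : E * (1 - E) = 0 := by rw [mul_sub, mul_one, hee, sub_self]
    have h1EE : (1 - E) * E = 0 := by rw [sub_mul, one_mul, hee, sub_self]
    have h1E1E : (1 - E) * (1 - E) = 1 - E := by rw [mul_sub, mul_one, h1EE, sub_zero]
    have hEAE : E * A = A * E := hEA.eq
    have hWZ : Wᴴ * Z = 1 := by
      rw [hW, hZ, conjTranspose_add, conjTranspose_mul, conjTranspose_sub, conjTranspose_one, hEH1,
        sub_sub_cancel]
      have hx : E * Aᴴ = Aᴴ * E := by rw [← hl]; exact (hEA.pow_right l).eq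
      rw [hx]
      have hy : (1 - E) * (A * E) = 0 := by rw [← hEAE, ← mul_assoc, h1EE, zero_mul]
      have hz : Aᴴ * E * (A * E) = E := by
        rw [mul_assoc, ← mul_assoc E A E, hEAE, mul_assoc A E E, hee, ← mul_assoc, hAA, one_mul]
      rw [add_mul, mul_add, mul_add, hy, h1E1E, hz, mul_assoc Aᴴ E (1 - E), hE1E, mul_zero]
      abel
    have hWA : W * Z = A := by
      rw [hW, hZ, add_mul, mul_add, mul_add, hE1E, ← mul_assoc E A E, hEAE, mul_assoc A E E, hee,
        mul_assoc A (1 - E) (A * E), ← mul_assoc (1 - E) A E, sub_mul 1 E A, one_mul, hEAE, sub_mul,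
        mul_assoc A E E, hee, sub_self, mul_zero, mul_assoc A (1 - E), h1E1E]
      rw [mul_sub, mul_one]
      abel
    set D := Z.det with hD
    have hD0 : D ≠ 0 := by
      intro h
      have := congrArg Matrix.det hWZ
      rw [det_mul, ← hD, h, mul_zero, det_one] at this
      exact zero_ne_one this
    have hDs : star D = D := by
      have h1 : star W.det * D = 1 := by rw [← det_conjTranspose, hD, ← det_mul, hWZ, det_one]
      have h2 : W.det * D = 1 := by rw [hD, ← det_mul, hWA, hdetA]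
      have h3 : star W.det = W.det := mul_right_cancel₀ hD0 (h1.trans h2.symm)
      have h4 := congrArg star h2
      rw [star_mul', star_one, h3] at h4
      exact mul_left_cancel₀ (left_ne_zero_of_mul (h2.symm ▸ one_ne_zero)) (h4.trans h2.symm)
    have hpoly : ∀ P : F[X], Polynomial.aeval Z P * E = Polynomial.aeval A P * E := by
      have hZE : Z * E = A * E := by rw [hZ, add_mul, mul_assoc, hee, h1EE, add_zero]
      have hpow : ∀ i : ℕ, Z ^ i * E = A ^ i * E := by
        intro i
        induction i with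
        | zero => simp
        | succ i ih =>
          rw [pow_succ, pow_succ, mul_assoc, hZE, ← hEAE, ← mul_assoc, ih, mul_assoc, hEAE,
            ← mul_assoc]
      intro P
      induction P using Polynomial.induction_on' with
      | add a b ha hb => rw [map_add, map_add, add_mul, add_mul, ha, hb]
      | monomial i a => rw [aeval_monomial, aeval_monomial, mul_assoc, mul_assoc, hpow]
    have hZ1 : Z - 1 = E * (A - 1) := by
      rw [hZ, mul_sub, mul_one, hEAE]; abel
    have hPann : Polynomial.aeval Z (f * (X - C 1)) = 0 := by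
      rw [map_mul, map_sub, aeval_X, aeval_C, map_one, hZ1, ← mul_assoc, hpoly, hfA, zero_mul]
    have hh : Z.charpoly.natDegree = n := by
      rw [Matrix.charpoly_natDegree_eq_dim, Fintype.card_fin]
    have hfac : ∀ g : F[X], Irreducible g → g ∣ Z.charpoly → g ∣ f ∨ g ∣ X - C 1 := fun g hg hgd =>
      hg.prime.dvd_or_dvd (irreducible_dvd_of_dvd_charpoly Z hg hgd hPann)
    have hX1 : X - C 1 ∣ Z.charpoly := by
      rw [dvd_iff_isRoot, IsRoot.def, Matrix.eval_charpoly, map_one]
      refine Matrix.exists_mulVec_eq_zero_iff.mp ?_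
      obtain ⟨w, hw⟩ : ∃ w, (1 - E) *ᵥ w ≠ 0 := by
        by_contra! h
        exact he1 (sub_eq_zero.mp (Matrix.ext_of_mulVec_single fun i => by
          rw [h, Matrix.zero_mulVec])).symm
      refine ⟨(1 - E) *ᵥ w, hw, ?_⟩
      have hc1 : Commute (A - 1) (1 - E) :=
        (Commute.one_right _).sub_right (hEA.symm.sub_left (Commute.one_left E))
      rw [Matrix.mulVec_mulVec, ← neg_sub, hZ1, neg_mul, mul_assoc, hc1.eq, ← mul_assoc, hE1E,
        zero_mul, neg_zero, Matrix.zero_mulVec]
    have hf_dvd : f ∣ Z.charpoly := by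
      by_contra hnot
      have hd' : Z.charpoly ∣ (X - C 1) ^ n := by
        refine Small.dvd_pow_of_irreducible_factors _ n _ Z.charpoly_monic.ne_zero hh.le ?_
        intro g hg hgd
        rcases hfac g hg hgd with h | h
        · exact absurd (((hg.associated_of_dvd hfi h).symm.dvd).trans hgd) hnot
        · exact h
      obtain ⟨c, hc⟩ := hd'
      have h1 := congrArg (fun P => Polynomial.aeval Z P * E) hc
      simp only [hpoly] at h1
      have h2 : Polynomial.aeval A ((X - C 1) ^ n : F[X]) * E = 0 := by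
        rw [← hpoly, hc, map_mul, Matrix.aeval_self_charpoly, zero_mul, zero_mul]
      have hcop : IsCoprime f ((X - C 1) ^ n) := by
        refine ((hfi.coprime_iff_not_dvd).mpr fun hdd => hf1 ?_).pow_right
        exact Polynomial.eq_of_monic_of_associated hfm (monic_X_sub_C 1)
          (hfi.associated_of_dvd (irreducible_X_sub_C 1) hdd)
      obtain ⟨a, b, hab⟩ := hcop
      apply hE0
      have h3 : Polynomial.aeval A (a * f + b * (X - C 1) ^ n) * E = Polynomial.aeval A (1 : F[X]) * E := by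
        rw [hab]
      rw [map_add, map_mul _ a f, map_mul _ b ((X - C 1) ^ n), add_mul, mul_assoc, mul_assoc, hfA,
        h2, mul_zero, mul_zero, add_zero, map_one, one_mul] at h3
      exact h3.symm
    obtain ⟨h, hfh⟩ := hf_dvd
    have hmon : h.Monic := hfm.of_mul_monic_left (hfh ▸ Z.charpoly_monic)
    have hdegh : h.natDegree = d := by
      rw [hfh, natDegree_mul hfi.ne_zero hmon.ne_zero, ← hd] at hh
      omega
    have hfh' : ¬ f ∣ h := by
      intro hdd
      have heq : h = f := Polynomial.eq_of_monic_of_dvd_of_natDegree_le hfm hmon hdd (by omega)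
      rw [hfh, heq] at hX1
      have h1 : X - C 1 ∣ f := ((irreducible_X_sub_C (1 : F)).prime.dvd_or_dvd hX1).elim id id
      exact hf1 (Polynomial.eq_of_monic_of_associated hfm (monic_X_sub_C 1)
        ((irreducible_X_sub_C 1).associated_of_dvd hfi h1).symm)
    have hh' : h = (X - C 1) ^ d := by
      have hd' : h ∣ (X - C 1) ^ d := by
        refine Small.dvd_pow_of_irreducible_factors _ d _ hmon.ne_zero hdegh.le ?_
        intro g hg hgd
        rcases hfac g hg (hgd.trans (hfh ▸ dvd_mul_left h f)) with h' | h'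
        · exact absurd (((hg.associated_of_dvd hfi h').symm.dvd).trans hgd) hfh'
        · exact h'
      refine (Polynomial.eq_of_monic_of_dvd_of_natDegree_le hmon ((monic_X_sub_C 1).pow d) hd' ?_).symm
      rw [natDegree_pow, natDegree_X_sub_C, hdegh, mul_one]
    have hDval : D = (-1) ^ d * f.coeff 0 := by
      rw [hD, Matrix.det_eq_sign_charpoly_coeff, hfh, hh', Fintype.card_fin,
        Polynomial.mul_coeff_zero, coeff_zero_eq_eval_zero ((X - C 1) ^ d), eval_pow, eval_sub,
        eval_X, eval_C, zero_sub, ← hmn, pow_add]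
      rw [show ((-1 : F) ^ d * (-1) ^ d) = 1 by rw [← mul_pow]; simp, one_mul, mul_comm]
    have hnorm := root_norm (f := f) hfm
    rw [← hd, ← hDval, hF] at hnorm
    have hD1 : D ^ (q - 1) = 1 := by
      apply mul_left_cancel₀ hD0
      rw [← pow_succ', Nat.sub_add_cancel (by omega : 1 ≤ q), mul_one, ← hstar, hDs]
    have hT : torusOrder q n = ((q ^ 2) ^ d - 1) / (q ^ 2 - 1) * (q - 1) := by
      apply Nat.eq_of_mul_eq_mul_right (show 0 < q + 1 by omega)
      rw [mul_assoc, mul_comm (q - 1), ← Small.Hermitian.sq_sub_one,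
        Nat.div_mul_cancel (Nat.sub_one_dvd_pow_sub_one _ _), ← pow_mul, ← hmn, hM0]
    rw [hT, pow_mul, hnorm, ← map_pow, hD1, map_one]

/-- A unitary torus of determinant one and order `torusOrder q m`. -/
theorem exists_torus (hstar : ∀ x : F, star x = x ^ q) (hF : Fintype.card F = q ^ 2) (m : ℕ)
    (hm : 1 ≤ m) :
    ∃ v : GL (Fin m) F, (v : Matrix (Fin m) (Fin m) F)ᴴ * (v : Matrix (Fin m) (Fin m) F) = 1 ∧
      orderOf v = torusOrder q m ∧ (v : Matrix (Fin m) (Fin m) F).det = 1 := by
  rcases Nat.even_or_odd m with ⟨d, rfl⟩ | hodd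
  · rw [torusOrder, if_pos ⟨d, rfl⟩, ← two_mul]
    have := Small.Hermitian.exists_torus_even hstar hF d (by omega)
    rw [← two_mul] at this
    exact this
  · rw [torusOrder, if_neg (Nat.not_even_iff_odd.mpr hodd)]
    exact Small.Hermitian.exists_torus_odd hstar hF hodd

theorem torusOrder_coprime (hF : Fintype.card F = q ^ 2) (p : ℕ) [Fact p.Prime] [CharP F p] (m : ℕ)
    (hm : 1 ≤ m) : Nat.Coprime p (torusOrder q m) := by
  rw [(Fact.out : p.Prime).coprime_iff_not_dvd]
  intro hdvd
  have hpq : p ∣ q := by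
    obtain ⟨k, -, hk⟩ := FiniteField.card F p
    rw [hF] at hk
    exact (Fact.out : p.Prime).dvd_of_dvd_pow (hk ▸ dvd_pow_self p k.ne_zero : p ∣ q ^ 2)
  have hpm : p ∣ q ^ m := hpq.trans (dvd_pow_self q (by omega))
  have hq := Small.Hermitian.q_two_le hF
  have hpos : 1 ≤ q ^ m := Nat.one_le_pow _ _ (by omega)
  have h1 : p ∣ 1 := by
    rcases Nat.even_or_odd m with ⟨d, hd⟩ | hodd
    · have h2 : torusOrder q m * (q + 1) = q ^ m - 1 := by
        rw [torusOrder, if_pos ⟨d, hd⟩, Nat.div_mul_cancel]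
        rw [hd, ← two_mul]; exact succ_dvd_pow_sub_one q d
      have := Nat.dvd_sub hpm (h2 ▸ hdvd.mul_right _)
      rwa [Nat.sub_sub_self hpos] at this
    · have h2 : torusOrder q m * (q + 1) = q ^ m + 1 := by
        rw [torusOrder, if_neg (Nat.not_even_iff_odd.mpr hodd),
          Nat.div_mul_cancel (succ_dvd_pow_add_one hodd)]
      exact (Nat.dvd_add_iff_right hpm).mpr (h2 ▸ hdvd.mul_right _)
  exact (Fact.out : p.Prime).one_lt.ne' (Nat.dvd_one.mp h1)

/-- Block sum of square matrices. -/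
def blockMat (F : Type*) [Field F] {d e n : ℕ} (h : d + e = n) :
    Matrix (Fin d) (Fin d) F × Matrix (Fin e) (Fin e) F →* Matrix (Fin n) (Fin n) F where
  toFun P := Matrix.reindex (finSumFinEquiv.trans (finCongr h)) (finSumFinEquiv.trans (finCongr h))
    (Matrix.fromBlocks P.1 0 0 P.2)
  map_one' := by
    simp only [Prod.fst_one, Prod.snd_one, Matrix.fromBlocks_one, Matrix.reindex_apply,
      Matrix.submatrix_one_equiv]
  map_mul' P Q := by
    simp only [Matrix.reindex_apply, Matrix.submatrix_mul_equiv, Matrix.fromBlocks_multiply,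
      Prod.fst_mul, Prod.snd_mul]
    simp

theorem blockMat_injective {d e : ℕ} (h : d + e = n) : Function.Injective (blockMat F h) := by
  intro P Q hPQ
  obtain ⟨h1, -, -, h2⟩ := fromBlocks_inj.mp ((Matrix.reindex _ _).injective hPQ)
  exact Prod.ext h1 h2

theorem blockMat_conjTranspose {d e : ℕ} (h : d + e = n)
    (P : Matrix (Fin d) (Fin d) F × Matrix (Fin e) (Fin e) F) :
    (blockMat F h P)ᴴ = blockMat F h (P.1ᴴ, P.2ᴴ) := by
  change (Matrix.reindex _ _ _)ᴴ = Matrix.reindex _ _ _
  rw [conjTranspose_reindex, fromBlocks_conjTranspose]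
  simp

theorem blockMat_smul_one {d e : ℕ} (h : d + e = n) (c : F) :
    blockMat F h (c • 1, c • 1) = c • (1 : Mn) := by
  change Matrix.reindex _ _ _ = _
  rw [show Matrix.fromBlocks (c • (1 : Matrix (Fin d) (Fin d) F)) 0 0 (c • 1) =
    c • Matrix.fromBlocks 1 0 0 1 by rw [Matrix.fromBlocks_smul]; simp, Matrix.fromBlocks_one]
  simp [Matrix.reindex_apply, Matrix.submatrix_smul, ← Equiv.coe_trans]

theorem good_block (hstar : ∀ x : F, star x = x ^ q) (hF : Fintype.card F = q ^ 2) (p : ℕ)
    [Fact p.Prime] [CharP F p] {r : ℕ} (hr : r.Prime) (hrq : r ∣ q + 1) (hrn : ¬ r ∣ n)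
    (hn : 3 ≤ n) (m : ℕ) (hm : 1 ≤ m) (hmn : m < n) :
    ∃ x : Cfsg.PSU n F q, Good r x ∧ p ^ Nat.clog p (n - m) * torusOrder q m ∣ orderOf x := by
  classical
  have h : m + (n - m) = n := by omega
  obtain ⟨T, hT, hTo, hTd⟩ := exists_torus hstar hF m hm
  obtain ⟨u, hu, huo, hud⟩ := Small.Hermitian.exists_unipotent hstar hF p (n - m) (by omega)
  set T' := Units.val T with hT'
  set u' := Units.val u with hu'
  have hdet : (blockMat F h (T', u')).det = 1 := by
    change (Matrix.reindex _ _ _).det = _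
    rw [Matrix.det_reindex_self, Matrix.det_fromBlocks_zero₂₁, hTd, hud, one_mul]
  have huni : (blockMat F h (T', u'))ᴴ * blockMat F h (T', u') = 1 := by
    rw [blockMat_conjTranspose, ← map_mul, Prod.mk_mul_mk, hT, hu]
    exact map_one _
  set y := mkSU hstar _ huni hdet with hy
  refine ⟨proj y, ?_, ?_⟩
  · refine good_of_idempotent hstar hF hr hrq hrn hn y (blockMat F h (1, 0)) ?_ ?_ ?_ ?_ ?_
    · rw [← map_mul]; simp
    · rw [blockMat_conjTranspose]; simp
    · intro h0
      have h2 : blockMat F h (1, 0) = blockMat F h (0, 0) := by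
        rw [h0]
        simpa using (blockMat_smul_one (F := F) h 0).symm
      have := congrFun (congrFun (congrArg Prod.fst (blockMat_injective h h2)) ⟨0, hm⟩) ⟨0, hm⟩
      simp at this
    · intro h0
      have := congrArg Prod.snd (blockMat_injective h (h0.trans (map_one _).symm))
      have := congrFun (congrFun this ⟨0, by omega⟩) ⟨0, by omega⟩
      simp at this
    · change Commute _ (blockMat F h (T', u'))
      exact (Commute.prod (Commute.one_left _) (Commute.zero_left _)).map _
  · obtain ⟨c, -, hyN⟩ := exists_pow_orderOf_proj hstar hF hn y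
    set N := orderOf (proj y) with hN
    have hblk : blockMat F h ((T', u') ^ N) = blockMat F h (c • 1, c • 1) := by
      rw [map_pow, blockMat_smul_one]; exact hyN
    have h12 := blockMat_injective h hblk
    have eu : u' ^ N = c • 1 := congrArg Prod.snd h12
    have hc1 : c = 1 := by
      apply iterateFrobenius_inj F p (Nat.clog p (n - m))
      rw [iterateFrobenius_def, iterateFrobenius_def, one_pow]
      have e2 := congrArg (fun M => M ^ p ^ Nat.clog p (n - m)) eu
      simp only [_root_.smul_pow, one_pow] at e2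
      rw [← pow_mul, mul_comm, pow_mul, hu', ← Units.val_pow_eq_pow_val, ← huo, pow_orderOf_eq_one,
        Units.val_one, one_pow, huo] at e2
      have := congrFun (congrFun e2 ⟨0, by omega⟩) ⟨0, by omega⟩
      simpa using this.symm
    have huN : orderOf u ∣ N := orderOf_dvd_of_pow_eq_one (Units.ext (by
      rw [Units.val_pow_eq_pow_val, ← hu', eu, hc1, one_smul, Units.val_one]))
    have hTN : orderOf T ∣ N := orderOf_dvd_of_pow_eq_one (Units.ext (by
      rw [Units.val_pow_eq_pow_val, ← hT']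
      have e := congrArg Prod.fst h12
      simpa [hc1] using e))
    rw [huo] at huN
    rw [hTo] at hTN
    exact ((torusOrder_coprime hF p m hm).pow_left _).mul_dvd_of_dvd_of_dvd huN hTN

theorem classify (hstar : ∀ x : F, star x = x ^ q) (hF : Fintype.card F = q ^ 2) (p : ℕ)
    [Fact p.Prime] [CharP F p] {r : ℕ} (hr : r.Prime) (hrq : r ∣ q + 1) (hrn : ¬ r ∣ n)
    (hn : 3 ≤ n) :
    ∃ A B : Cfsg.PSU n F q,
      (∀ x : Cfsg.PSU n F q, Good r x ∨ orderOf x ∣ orderOf A ∨ orderOf x ∣ orderOf B) ∧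
      ((¬ ∃ j : ℕ, n - 1 = p ^ j) → ∀ x : Cfsg.PSU n F q, Good r x ∨ orderOf x ∣ orderOf A) := by
  classical
  have hp1 := (Fact.out : p.Prime).one_lt
  obtain ⟨T, hT, hTo, hTd⟩ := exists_torus hstar hF n (by omega)
  obtain ⟨u, hu, huo, hud⟩ := Small.Hermitian.exists_unipotent hstar hF p n (by omega)
  set G₀ := mkSU hstar _ hT hTd with hG₀
  set U₀ := mkSU hstar _ hu hud with hU₀
  have hA : torusOrder q n ∣ orderOf (proj G₀) * (q + 1) := by
    obtain ⟨c, hc, h⟩ := exists_pow_orderOf_proj hstar hF hn G₀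
    rw [← hTo]
    apply orderOf_dvd_of_pow_eq_one
    apply Units.ext
    change (Units.val (T ^ (orderOf (proj G₀) * (q + 1)))) = _
    rw [Units.val_pow_eq_pow_val, pow_mul]
    change (mat G₀ ^ orderOf (proj G₀)) ^ (q + 1) = _
    rw [h, _root_.smul_pow, one_pow, pow_succ, ← hstar, hc, one_smul, Units.val_one]
  have hB : p ^ Nat.clog p n ∣ orderOf (proj U₀) := by
    obtain ⟨c, -, h⟩ := exists_pow_orderOf_proj hstar hF hn U₀
    change Units.val u ^ orderOf (proj U₀) = c • 1 at h
    have hc1 : c = 1 := by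
      apply iterateFrobenius_inj F p (Nat.clog p n)
      rw [iterateFrobenius_def, iterateFrobenius_def, one_pow]
      have e2 := congrArg (fun M => M ^ p ^ Nat.clog p n) h
      simp only [_root_.smul_pow, one_pow] at e2
      rw [← pow_mul, mul_comm, pow_mul, ← Units.val_pow_eq_pow_val, ← huo, pow_orderOf_eq_one,
        Units.val_one, one_pow, huo] at e2
      have := congrFun (congrFun e2 ⟨0, by omega⟩) ⟨0, by omega⟩
      simpa using this.symm
    rw [← huo]
    exact orderOf_dvd_of_pow_eq_one (Units.ext (by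
      rw [Units.val_pow_eq_pow_val, h, hc1, one_smul, Units.val_one]))
  refine ⟨proj G₀, proj U₀, ?_⟩
  have key : ∀ x : Cfsg.PSU n F q, Good r x ∨ orderOf x ∣ orderOf (proj G₀) ∨
      (orderOf x ∣ p ^ Nat.clog p n ∧ (n ≤ p ^ Nat.clog p (n - 1) → Good r x)) := by
    intro x
    obtain ⟨g, rfl⟩ : ∃ g, proj g = x := QuotientGroup.mk'_surjective _ x
    rcases analyse hstar hF p hn g with ⟨E, hE, hEs, h0, h1, hc⟩ | ⟨k, hkn, hscal⟩ |
      ⟨m, k, hm, hk, hkm, hscal, hfull⟩
    · exact Or.inl (good_of_idempotent hstar hF hr hrq hrn hn g E hE hEs h0 h1 hc)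
    · have hd : ∀ c, k ≤ p ^ c → orderOf (proj g) ∣ p ^ c := fun c hc =>
        let ⟨_, hs⟩ := hscal c hc; orderOf_proj_dvd g hs
      refine Or.inr (Or.inr ⟨hd _ (hkn.trans (Nat.le_pow_clog hp1 n)), fun hle => ?_⟩)
      obtain ⟨y, hy, hord⟩ := good_block (n := n) hstar hF p hr hrq hrn hn 1 le_rfl (by omega)
      exact Good.of_dvd (((hd _ (hkn.trans hle)).trans (dvd_mul_right _ _)).trans hord) hy
    rcases Nat.eq_or_lt_of_le (le_trans (Nat.le_mul_of_pos_left m hk) hkm) with rfl | hlt
    · obtain ⟨_, hs⟩ := hfull rfl _ hA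
      exact Or.inr (Or.inl (orderOf_proj_dvd g hs))
    · obtain ⟨y, hy, hord⟩ := good_block (n := n) hstar hF p hr hrq hrn hn m (by omega) hlt
      have hk2 : k ≤ p ^ Nat.clog p (n - m) := by
        refine le_trans ?_ (Nat.le_pow_clog hp1 _)
        rcases Nat.eq_or_lt_of_le hk with rfl | hk2
        · omega
        · obtain ⟨k', rfl⟩ : ∃ k', k = k' + 1 := ⟨k - 1, by omega⟩
          rw [add_one_mul] at hkm
          have : k' + 1 ≤ k' * m := by nlinarith
          omega
      obtain ⟨_, hs⟩ := hscal _ hk2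
      refine Or.inl (Good.of_dvd ?_ hy)
      exact (orderOf_proj_dvd g hs).trans (by rw [mul_comm]; exact hord)
  refine ⟨fun x => ?_, fun hno x => ?_⟩
  · rcases key x with h | h | ⟨h, -⟩
    exacts [Or.inl h, Or.inr (Or.inl h), Or.inr (Or.inr (h.trans hB))]
  · rcases key x with h | h | ⟨-, h⟩
    · exact Or.inl h
    · exact Or.inr h
    · refine Or.inl (h ?_)
      by_contra hlt
      have := Nat.le_pow_clog hp1 (n - 1)
      exact hno ⟨Nat.clog p (n - 1), by omega⟩

end Unitary

/-- Let F be a finite field with q² elements, q = p^a, n ≥ 3 with (n, q) ≠ (3, 2), L = PSU(n, q) realised over F, and let r be a prime dividing q + 1 and not dividing n. Then for every m the direct product L × L × L × (ℤ/r)^m has the same set of element orders as L × L × L; and if n − 1 is not a power of p, then already L × L × (ℤ/r)^m has the same set of element orders as L × L. -/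
theorem result {F : Type*} [Field F] [Fintype F] (p a n q r m : ℕ) (hp : p.Prime) (ha : 1 ≤ a) (hq : q = p ^ a) (hF : Fintype.card F = q ^ 2)
    (hn : 3 ≤ n) (hn3 : ¬ (n = 3 ∧ q = 2)) (hr : r.Prime) (hrq : r ∣ q + 1) (hrn : ¬ r ∣ n) :
    Set.range (orderOf : Cfsg.PSU n F q × Cfsg.PSU n F q × Cfsg.PSU n F q × Multiplicative (Fin m → ZMod r) → ℕ) = Set.range (orderOf : Cfsg.PSU n F q × Cfsg.PSU n F q × Cfsg.PSU n F q → ℕ) ∧
    ((¬ ∃ j : ℕ, n - 1 = p ^ j) →
      Set.range (orderOf : Cfsg.PSU n F q × Cfsg.PSU n F q × Multiplicative (Fin m → ZMod r) → ℕ) = Set.range (orderOf : Cfsg.PSU n F q × Cfsg.PSU n F q → ℕ)) := by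
  classical
  haveI : Fact p.Prime := ⟨hp⟩
  haveI : CharP F p := charP_of_card_eq_prime_pow (R := F) (p := p) (f := a * 2)
    (by rw [hF, hq, ← pow_mul])
  let σ : F →+* F := iterateFrobenius F p a
  have hσ : ∀ x, σ x = x ^ q := fun x => by rw [iterateFrobenius_def, hq]
  letI : StarRing F := starRingOfInvolution σ fun x => by
    rw [hσ, hσ, ← pow_mul, ← sq, ← hF, FiniteField.pow_card]
  have hstar : ∀ x : F, star x = x ^ q := hσ
  obtain ⟨A, B, h3, h2⟩ := classify (n := n) hstar hF p hr hrq hrn hn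
  obtain ⟨z₀, hz₀⟩ : ∃ z₀ : Cfsg.PSU n F q, r ∣ orderOf z₀ := by
    obtain ⟨x, ⟨y, hy, -⟩, -⟩ := good_block (n := n) hstar hF p hr hrq hrn hn 1 le_rfl (by omega)
    exact ⟨y, hy⟩
  exact ⟨Small.range_orderOf_prod_three Small.zmod_fun_pow_eq_one z₀ hz₀ A B h3,
    fun hno => Small.range_orderOf_prod_two Small.zmod_fun_pow_eq_one z₀ hz₀ A (h2 hno)⟩

end Cfsg.Agent.S2511
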