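import Cfsg.Statements.S2512
import Cfsg.Agent.Lib.Small.SymplecticElems
import Cfsg.Agent.Lib.Small.Spectrum
import Cfsg.Agent.Lib.Small.Primary

set_option autoImplicit false
open Cfsg

set_option maxHeartbeats 1000000
set_option linter.style.haveILetI false
set_option linter.unusedSimpArgs false
open Matrix Polynomial

namespace Cfsg.Agent.S2512

theorem commute_aeval_right {F R : Type*} [Field F] [Ring R] [Algebra F R] {A B : R}
    (h : Commute A B) (e : F[X]) : Commute A (Polynomial.aeval B e) := by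
  induction e using Polynomial.induction_on' with
  | add a b ha hb => rw [map_add]; exact ha.add_right hb
  | monomial i a =>
    rw [Polynomial.aeval_monomial]
    exact (show Commute A (algebraMap F R a) from (Algebra.commutes a A).symm).mul_right (h.pow_right i)

variable {F : Type*} [Field F] {n : ℕ}

local notation "Mn" => Matrix (Fin n ⊕ Fin n) (Fin n ⊕ Fin n) F
local notation "Spn" => Matrix.symplecticGroup (Fin n) F

/-- The projection to the projective group. -/
def proj : Spn →* Cfsg.PSp n F :=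
  QuotientGroup.mk' (Subgroup.center (Matrix.symplecticGroup (Fin n) F))

theorem smul_self_eq_one {c : F} (h : c * c = 1) : c = 1 ∨ c = -1 := mul_self_eq_one_iff.mp h

theorem exists_pow_orderOf_proj (g : Spn) :
    ∃ c : F, c * c = 1 ∧ (g : Mn) ^ orderOf (proj g) = c • 1 := by
  have h := pow_orderOf_eq_one (proj g)
  rw [← map_pow, proj, QuotientGroup.mk'_apply, QuotientGroup.eq_one_iff] at h
  obtain ⟨c, hc, hc'⟩ := Small.sp_center_smul n _ h
  exact ⟨c, hc, by rw [← hc', SubmonoidClass.coe_pow]; rfl⟩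

/-- Elements whose order divides an even order. -/
def Good (x : Cfsg.PSp n F) : Prop := ∃ y : Cfsg.PSp n F, 2 ∣ orderOf y ∧ orderOf x ∣ orderOf y

/-- The adjoint relation for the symplectic form. -/
def Adj (M M' : Mn) : Prop := Mᵀ * J (Fin n) F = J (Fin n) F * M'

theorem Adj.mul {M M' N N' : Mn} (h1 : Adj M M') (h2 : Adj N N') : Adj (M * N) (N' * M') := by
  unfold Adj at *
  rw [transpose_mul, mul_assoc, h1, ← mul_assoc, h2, mul_assoc]

theorem Adj.add {M M' N N' : Mn} (h1 : Adj M M') (h2 : Adj N N') : Adj (M + N) (M' + N') := by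
  unfold Adj at *
  rw [transpose_add, add_mul, h1, h2, mul_add]

theorem Adj.sub {M M' N N' : Mn} (h1 : Adj M M') (h2 : Adj N N') : Adj (M - N) (M' - N') := by
  unfold Adj at *
  rw [transpose_sub, sub_mul, h1, h2, mul_sub]

theorem Adj.smul {M M' : Mn} (h : Adj M M') (c : F) : Adj (c • M) (c • M') := by
  unfold Adj at *
  rw [transpose_smul, Matrix.smul_mul, h, Matrix.mul_smul]

theorem adj_one : Adj (1 : Mn) 1 := by simp [Adj]

theorem Adj.pow {M M' : Mn} (h : Adj M M') (i : ℕ) : Adj (M ^ i) (M' ^ i) := by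
  induction i with
  | zero => simpa using adj_one
  | succ i ih => rw [pow_succ, pow_succ']; exact ih.mul h

theorem Adj.aeval {M M' : Mn} (h : Adj M M') (e : F[X]) :
    Adj (Polynomial.aeval M e) (Polynomial.aeval M' e) := by
  induction e using Polynomial.induction_on' with
  | add a b ha hb => rw [map_add, map_add]; exact ha.add hb
  | monomial i a =>
    rw [aeval_monomial, aeval_monomial, Algebra.algebraMap_eq_smul_one, smul_one_mul, smul_one_mul]
    exact (h.pow i).smul a

theorem J_cancel {M N : Mn} (h : J (Fin n) F * M = J (Fin n) F * N) : M = N := by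
  have h1 := congrArg (fun Z => J (Fin n) F * Z) h
  simp only [← mul_assoc, J_squared, neg_mul, one_mul, neg_inj] at h1
  exact h1

theorem Adj.unique {M M' M'' : Mn} (h : Adj M M') (h' : Adj M M'') : M' = M'' :=
  J_cancel (h.symm.trans h')

theorem exists_adj (M : Mn) : ∃ M', Adj M M' := by
  refine ⟨-(J (Fin n) F) * Mᵀ * J (Fin n) F, ?_⟩
  unfold Adj
  simp only [← mul_assoc, mul_neg, J_squared, neg_neg, one_mul]

theorem adj_self_inv (g : Spn) : Adj (g : Mn) ((g⁻¹ : Spn) : Mn) := by
  unfold Adj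
  rw [SymplecticGroup.coe_inv]
  simp only [← mul_assoc, mul_neg, J_squared, neg_neg, one_mul]

/-- The degree of a primary self-adjoint minimal polynomial is at most `n`. -/
theorem krylov_bound (h2 : (2 : F) ≠ 0) (B : Mn) (hB : Adj B B) (φ : F[X]) (k : ℕ) (hk : 1 ≤ k)
    (hφ : Irreducible φ) (hmin : minpoly F B = φ ^ k) : k * φ.natDegree ≤ n := by
  classical
  set m := k * φ.natDegree with hm
  have hne : Polynomial.aeval B (φ ^ (k - 1)) ≠ 0 := by
    intro h
    have hd : φ ^ k ∣ φ ^ (k - 1) := hmin ▸ minpoly.dvd F B h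
    have := (pow_dvd_pow_iff hφ.ne_zero hφ.not_isUnit).mp hd
    omega
  obtain ⟨v, hv⟩ : ∃ v, Polynomial.aeval B (φ ^ (k - 1)) *ᵥ v ≠ 0 := by
    by_contra! h
    exact hne (Matrix.ext_of_mulVec_single fun i => by rw [h, Matrix.zero_mulVec])
  set R : Matrix (Fin m) (Fin n ⊕ Fin n) F := Matrix.of fun i => (B ^ (i : ℕ)) *ᵥ v with hR
  have hskew : ∀ i : ℕ, v ⬝ᵥ ((J (Fin n) F * B ^ i) *ᵥ v) = 0 := by
    intro i
    have hadj := hB.pow i
    unfold Adj at hadj
    have hT : (J (Fin n) F * B ^ i)ᵀ = -(J (Fin n) F * B ^ i) := by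
      rw [transpose_mul, J_transpose, mul_neg, hadj]
    have h1 : v ⬝ᵥ ((J (Fin n) F * B ^ i) *ᵥ v) = v ⬝ᵥ ((J (Fin n) F * B ^ i)ᵀ *ᵥ v) := by
      rw [Matrix.mulVec_transpose, dotProduct_comm v (v ᵥ* _), ← Matrix.dotProduct_mulVec]
    rw [hT, neg_mulVec, dotProduct_neg] at h1
    have h3 : (2 : F) * (v ⬝ᵥ ((J (Fin n) F * B ^ i) *ᵥ v)) = 0 := by linear_combination h1
    exact (mul_eq_zero.mp h3).resolve_left h2
  have hzero : R * J (Fin n) F * Rᵀ = 0 := by
    ext i j
    have hadj := hB.pow (i : ℕ)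
    unfold Adj at hadj
    have key : (R * J (Fin n) F * Rᵀ) i j = ((B ^ (i : ℕ)) *ᵥ v) ⬝ᵥ
        (J (Fin n) F *ᵥ ((B ^ (j : ℕ)) *ᵥ v)) := by
      rw [Matrix.dotProduct_mulVec]
      simp [Matrix.mul_apply, Matrix.vecMul, dotProduct, hR]
    rw [key, Matrix.zero_apply, Matrix.mulVec_mulVec, dotProduct_comm, ← Matrix.vecMul_transpose,
      ← Matrix.dotProduct_mulVec, Matrix.mulVec_mulVec]
    have : (J (Fin n) F * B ^ (j : ℕ))ᵀ * B ^ (i : ℕ) = -(J (Fin n) F * B ^ ((j : ℕ) + i)) := by
      have hadj' := hB.pow (j : ℕ)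
      unfold Adj at hadj'
      rw [transpose_mul, J_transpose, mul_neg, hadj', neg_mul, mul_assoc, ← pow_add]
    rw [this, neg_mulVec, dotProduct_neg, hskew, neg_zero]
  have hrankR : R.rank = m := by
    have hli : LinearIndependent F R.row := by
      rw [Fintype.linearIndependent_iff]
      intro c hc
      set P : F[X] := ∑ i : Fin m, Polynomial.C (c i) * X ^ (i : ℕ) with hP
      have hPv : Polynomial.aeval B P *ᵥ v = 0 := by
        rw [hP, map_sum, Matrix.sum_mulVec]
        rw [← hc]
        apply Finset.sum_congr rfl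
        intro i _
        rw [map_mul, map_pow, aeval_C, aeval_X, Algebra.algebraMap_eq_smul_one, smul_one_mul,
          Matrix.smul_mulVec]
        rfl
      have hcoeff : ∀ i : Fin m, P.coeff i = c i := by
        intro i
        simp [hP, coeff_C_mul, coeff_X_pow, Fin.val_inj]
      by_contra hne'
      obtain ⟨i, hi⟩ : ∃ i, c i ≠ 0 := not_forall.mp hne'
      have hP0 : P ≠ 0 := fun h => hi (by rw [← hcoeff, h, coeff_zero])
      have hdeg : P.natDegree < m := by
        have hle : P.natDegree ≤ m - 1 := by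
          rw [hP]
          refine natDegree_sum_le_of_forall_le _ _ fun i _ => ?_
          refine (natDegree_C_mul_X_pow_le _ _).trans ?_
          have := i.isLt
          omega
        have := i.isLt
        omega
      obtain ⟨a, b, hab⟩ : ∃ a b : F[X], a * P + b * φ ^ k = EuclideanDomain.gcd P (φ ^ k) :=
        ⟨EuclideanDomain.gcdA P (φ ^ k), EuclideanDomain.gcdB P (φ ^ k), by
          rw [EuclideanDomain.gcd_eq_gcd_ab]; ring⟩
      set G := EuclideanDomain.gcd P (φ ^ k) with hG
      obtain ⟨j, hj, hassoc⟩ := (dvd_prime_pow hφ.prime k).mp (EuclideanDomain.gcd_dvd_right P (φ ^ k))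
      rw [← hG] at hassoc
      have hjk : j < k := by
        by_contra hge
        have hd : φ ^ k ∣ P :=
          ((pow_dvd_pow φ (not_lt.mp hge)).trans hassoc.symm.dvd).trans
            (EuclideanDomain.gcd_dvd_left _ _)
        have := Polynomial.natDegree_le_of_dvd hd hP0
        rw [natDegree_pow] at this
        omega
      have hGd : G ∣ φ ^ (k - 1) := hassoc.dvd.trans (pow_dvd_pow φ (by omega))
      obtain ⟨r, hr⟩ := hGd
      apply hv
      rw [hr, ← hab, mul_comm _ r, mul_add, map_add, Matrix.add_mulVec, map_mul, map_mul _ a,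
        ← Matrix.mulVec_mulVec, ← Matrix.mulVec_mulVec, hPv, ← mul_assoc, map_mul _ (r * b),
        show Polynomial.aeval B (φ ^ k) = 0 by rw [← hmin, minpoly.aeval]]
      simp
    rw [hli.rank_matrix, Fintype.card_fin]
  have h1 := Matrix.rank_add_rank_le_card_of_mul_eq_zero hzero
  rw [Matrix.rank_transpose, Matrix.rank_mul_eq_left_of_isUnit_det _ _ (isUnit_det_J _ _), hrankR,
    Fintype.card_sum, Fintype.card_fin] at h1
  omega

theorem good_of_idempotent (h2 : (2 : F) ≠ 0) (g : Spn) (hodd : Odd (orderOf (proj g)))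
    (E : Mn) (hE : E * E = E) (h0 : E ≠ 0) (h1 : E ≠ 1) (hc : Commute E (g : Mn))
    (hadj : Adj E E) : Good (proj g) := by
  classical
  set H : Mn := 1 - (2 : F) • E with hH
  have hHH : H * H = 1 := by
    rw [hH]
    simp only [sub_mul, mul_sub, one_mul, mul_one, smul_mul_assoc, mul_smul_comm, hE]
    module
  have hHadj : Adj H H := adj_one.sub (hadj.smul 2)
  have hmem : H ∈ Matrix.symplecticGroup (Fin n) F := by
    rw [SymplecticGroup.mem_iff', hHadj, mul_assoc, hHH, mul_one]
  set h : Spn := ⟨H, hmem⟩ with hh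
  have hne : proj h ≠ 1 := by
    intro he
    rw [proj, QuotientGroup.mk'_apply, QuotientGroup.eq_one_iff] at he
    obtain ⟨c, hcc, hc'⟩ := Small.sp_center_smul n _ he
    change H = c • 1 at hc'
    rcases smul_self_eq_one hcc with rfl | rfl
    · apply h0
      have : (2 : F) • E = 0 := by
        rw [hH, one_smul, sub_eq_self] at hc'
        exact hc'
      exact (smul_eq_zero.mp this).resolve_left h2
    · apply h1
      have : (2 : F) • (E - 1) = 0 := by
        rw [smul_sub]
        rw [hH, neg_one_smul, sub_eq_iff_eq_add] at hc'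
        rw [two_smul F (1 : Mn), sub_eq_zero]
        calc (2 : F) • E = 1 + (-1 + (2 : F) • E) := by abel
          _ = 1 + 1 := by rw [← hc']
      exact sub_eq_zero.mp ((smul_eq_zero.mp this).resolve_left h2)
  have hsq : proj h ^ 2 = 1 := by
    rw [← map_pow, show h ^ 2 = 1 from Subtype.ext (by rw [pow_two]; exact hHH), map_one]
  have hord : orderOf (proj h) = 2 := orderOf_eq_prime hsq hne
  have hcomm : Commute (proj g) (proj h) := by
    apply Commute.map
    apply Subtype.ext
    change (g : Mn) * H = H * (g : Mn)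
    exact (((Commute.one_right _).sub_right (hc.symm.smul_right _)) : Commute (g : Mn) H)
  refine ⟨proj g * proj h, ?_, ?_⟩
  all_goals rw [hcomm.orderOf_mul_eq_mul_orderOf_of_coprime
    (by rw [hord]; exact hodd.coprime_two_right), hord]
  · exact dvd_mul_left _ _
  · exact dvd_mul_right _ _

/-- The quadratic trick: `y + y' = x + x'` forces `(y - x) * (x * y - 1) = 0`. -/
theorem sum_inv_eq {R : Type*} [Ring R] {x x' y y' : R} (hx : x * x' = 1) (hy : y * y' = 1)
    (hc : Commute x y) (h : y + y' = x + x') : (y - x) * (x * y - 1) = 0 := by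
  have h1 : x * y * y + x = x * y * x + y := by
    calc x * y * y + x = x * y * y + x * y * y' := by rw [mul_assoc x y y', hy, mul_one]
      _ = x * y * (x + x') := by rw [← mul_add, h]
      _ = x * y * x + y := by rw [mul_add, hc.eq, mul_assoc y x x', hx, mul_one]
  have h2 : (y - x) * (x * y - 1) = x * y * y + x - (x * y * x + y) := by
    rw [sub_mul, mul_sub, mul_sub, mul_one, mul_one, mul_assoc x y x, mul_assoc x y y,
      ← mul_assoc y x y, ← hc.eq, mul_assoc x y y]
    abel
  rw [h2, h1, sub_self]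

variable [Fintype F]

theorem pow_card_pow_of_dvd {φ : F[X]} (hφ : Irreducible φ) :
    φ ∣ X ^ (Fintype.card F ^ φ.natDegree) - X := by
  haveI := Fact.mk hφ
  haveI : Module.Finite F (AdjoinRoot φ) :=
    Module.Finite.of_basis (AdjoinRoot.powerBasis hφ.ne_zero).basis
  haveI : Finite (AdjoinRoot φ) := Module.finite_of_finite F
  haveI := Fintype.ofFinite (AdjoinRoot φ)
  have hcard : Fintype.card (AdjoinRoot φ) = Fintype.card F ^ φ.natDegree := by
    rw [← Nat.card_eq_fintype_card, ← Nat.card_eq_fintype_card,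
      Module.natCard_eq_pow_finrank (K := F) (V := AdjoinRoot φ),
      (AdjoinRoot.powerBasis hφ.ne_zero).finrank, AdjoinRoot.powerBasis_dim]
  rw [← AdjoinRoot.mk_eq_zero, map_sub, map_pow, AdjoinRoot.mk_X, sub_eq_zero, ← hcard,
    FiniteField.pow_card]

theorem coe_inv_mul (g : Spn) : ((g⁻¹ : Spn) : Mn) * (g : Mn) = 1 :=
  congrArg Subtype.val (inv_mul_cancel g)

theorem coe_mul_inv (g : Spn) : (g : Mn) * ((g⁻¹ : Spn) : Mn) = 1 :=
  congrArg Subtype.val (mul_inv_cancel g)

/-- Either a self-adjoint idempotent commutes with `g`, or the order of `g` is one of the bad types. -/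
theorem analyse (p a : ℕ) [Fact p.Prime] [CharP F p] (hq : Fintype.card F = p ^ a)
    (h2 : (2 : F) ≠ 0) (hn : 1 ≤ n) (g : Spn) (hodd : Odd (orderOf g)) :
    (∃ E : Mn, E * E = E ∧ E ≠ 0 ∧ E ≠ 1 ∧ Commute E (g : Mn) ∧ Adj E E) ∨
    orderOf g ∣ p ^ Nat.clog p (2 * n) ∨
    ∃ d k, 1 ≤ d ∧ 1 ≤ k ∧ k * d ≤ n ∧
      (orderOf g ∣ p ^ Nat.clog p k * (Fintype.card F ^ d + 1) ∨
        orderOf g ∣ p ^ Nat.clog p k * (Fintype.card F ^ d - 1)) := by
  classical
  haveI : Nonempty (Fin n ⊕ Fin n) := ⟨Sum.inl ⟨0, hn⟩⟩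
  set A : Mn := (g : Mn) with hA
  set A' : Mn := ((g⁻¹ : Spn) : Mn) with hA'
  have hAA' : A * A' = 1 := coe_mul_inv g
  have hA'A : A' * A = 1 := coe_inv_mul g
  have hcAA' : Commute A A' := hAA'.trans hA'A.symm
  have hadjA : Adj A A' := adj_self_inv g
  have hadjA' : Adj A' A := by
    have := adj_self_inv g⁻¹
    rwa [inv_inv] at this
  set B : Mn := A + A' with hB
  have hBB : Adj B B := by
    have := hadjA.add hadjA'
    rwa [add_comm A' A] at this
  have hcAB : Commute A B := (Commute.refl A).add_right hcAA'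
  rcases Small.primary_or_idempotent_poly B (Matrix.isIntegral B) with
    ⟨e, he, he0, he1⟩ | ⟨φ, k, hφm, hφi, hk, hmin⟩
  · left
    refine ⟨Polynomial.aeval B e, he, he0, he1, ?_, hBB.aeval e⟩
    exact (commute_aeval_right hcAB e).symm
  set d := φ.natDegree with hd
  have hd1 : 1 ≤ d := hφi.natDegree_pos
  have hkd : k * d ≤ n := krylov_bound h2 B hBB φ k hk hφi hmin
  have hann : Polynomial.aeval B (φ ^ k) = 0 := by rw [← hmin, minpoly.aeval]
  have hp1 := (Fact.out : p.Prime).one_lt
  have hpow1 : ∀ N, A ^ N = 1 → orderOf g ∣ N := fun N h =>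
    orderOf_dvd_of_pow_eq_one (Subtype.ext (by rw [SubmonoidClass.coe_pow]; exact h))
  refine (em (∃ E : Mn, E * E = E ∧ E ≠ 0 ∧ E ≠ 1 ∧ Commute E A ∧ Adj E E)).imp id fun hnotE => ?_
  by_cases hdiv : φ ∣ X ^ 2 - C 4
  · -- both eigenvalues are equal to the same sign
    left
    obtain ⟨s, hs, hdvd⟩ : ∃ s : F, s * s = 1 ∧ φ ∣ X - C (2 * s) := by
      have h4 : (X ^ 2 - C 4 : F[X]) = (X - C (2 * 1)) * (X - C (2 * (-1))) := by
        have h22 : (C 4 : F[X]) = C 2 * C 2 := by rw [← map_mul]; norm_num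
        rw [h22, mul_neg, map_neg, mul_one]
        ring
      rw [h4] at hdiv
      rcases hφi.prime.dvd_or_dvd hdiv with h | h
      exacts [⟨1, by ring, h⟩, ⟨-1, by ring, h⟩]
    have hlin : Irreducible (X - C (2 * s) : F[X]) := irreducible_X_sub_C _
    have hassoc : Associated φ (X - C (2 * s)) := hφi.associated_of_dvd hlin hdvd
    have hB0 : (B - (2 * s) • 1) ^ k = 0 := by
      obtain ⟨r, hr⟩ : φ ^ k ∣ (X - C (2 * s)) ^ k := pow_dvd_pow_of_dvd hdvd k
      have := congrArg (Polynomial.aeval B) hr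
      rwa [map_pow, map_sub, aeval_X, aeval_C, map_mul (Polynomial.aeval B), hann, zero_mul,
        Algebra.algebraMap_eq_smul_one] at this
    have hsq : (A - s • 1) ^ 2 = A * (B - (2 * s) • 1) := by
      rw [hB, pow_two]
      simp only [sub_mul, mul_sub, mul_add, smul_mul_assoc, mul_smul_comm, one_mul, mul_one,
        smul_smul, hs, one_smul, hAA']
      match_scalars <;> first | ring1 | linear_combination hs | linear_combination -hs
    have hnil : (A - s • 1) ^ (2 * k) = 0 := by
      rw [pow_mul, hsq, (hcAB.sub_right ((Commute.one_right A).smul_right _)).mul_pow, hB0, mul_zero]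
    set c := Nat.clog p (2 * n) with hc
    have h2k : 2 * k ≤ p ^ c := le_trans (by nlinarith) (Nat.le_pow_clog hp1 _)
    have hAP : A ^ p ^ c = s ^ p ^ c • 1 := by
      have := pow_eq_zero_of_le h2k hnil
      rw [sub_pow_char_pow_of_commute p _ ((Commute.one_right A).smul_right _), _root_.smul_pow,
        one_pow, sub_eq_zero] at this
      exact this
    apply hpow1
    rcases smul_self_eq_one hs with rfl | rfl
    · rw [hAP, one_pow, one_smul]
    · exfalso
      have hNg : A ^ orderOf g = 1 := by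
        rw [hA, ← SubmonoidClass.coe_pow, pow_orderOf_eq_one]; rfl
      have h3 := congrArg (fun M : Mn => M ^ orderOf g) hAP
      simp only [← pow_mul] at h3
      rw [mul_comm, pow_mul, hNg, one_pow, _root_.smul_pow, one_pow, ← pow_mul,
        (((((Fact.out : p.Prime).odd_of_ne_two (by
          rintro rfl
          exact h2 (CharP.cast_eq_zero F 2)))).pow).mul hodd).neg_one_pow] at h3
      have := congrFun (congrFun h3 (Sum.inl ⟨0, hn⟩)) (Sum.inl ⟨0, hn⟩)
      simp at this
      exact h2 (by linear_combination this)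
  · -- the regular case
    set c := Nat.clog p k with hc
    set P := p ^ c with hP
    set q' := Fintype.card F ^ d with hq'
    have hkP : k ≤ P := Nat.le_pow_clog hp1 k
    have hBq : B ^ (q' * P) = B ^ P := by
      have h : φ ^ k ∣ X ^ (q' * P) - X ^ P := by
        have : (X ^ q' - X : F[X]) ^ P = X ^ (q' * P) - X ^ P := by
          rw [hP, sub_pow_char_pow, ← pow_mul]
        rw [← this]
        exact (pow_dvd_pow_of_dvd (pow_card_pow_of_dvd hφi) k).trans (pow_dvd_pow _ hkP)
      obtain ⟨r, hr⟩ := h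
      have := congrArg (Polynomial.aeval B) hr
      rwa [map_sub, map_pow, map_pow, aeval_X, map_mul, hann, zero_mul, sub_eq_zero] at this
    set x : Mn := A ^ P with hx
    set x' : Mn := A' ^ P with hx'
    have hxx' : x * x' = 1 := by rw [hx, hx', ← hcAA'.mul_pow, hAA', one_pow]
    have hq'pow : q' = p ^ (a * d) := by rw [hq', hq, ← pow_mul]
    have hsum : x ^ q' + x' ^ q' = x + x' := by
      rw [hx, hx', ← pow_mul, ← pow_mul, mul_comm P q', hP, hq'pow, ← pow_add,
        ← add_pow_char_pow_of_commute p _ hcAA', ← add_pow_char_pow_of_commute p _ hcAA', ← hB]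
      rw [pow_add, ← hq'pow, ← hP]
      exact hBq
    have hyy' : x ^ q' * x' ^ q' = 1 := by
      rw [← (hcAA'.pow_pow P P).mul_pow, hxx', one_pow]
    have hprod : (x ^ q' - x) * (x * x ^ q' - 1) = 0 :=
      sum_inv_eq hxx' hyy' ((Commute.refl x).pow_right q') hsum
    have hq'2 : 1 ≤ q' := Nat.one_le_pow _ _ Fintype.card_pos
    set x₁ : Mn := x ^ (q' - 1) with hx1
    set x₂ : Mn := x ^ (q' + 1) with hx2
    have hx_unit : IsUnit x := by
      rw [hx]
      exact (IsUnit.pow _ ⟨⟨A, A', hAA', hA'A⟩, rfl⟩)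
    have hzero : (x₁ - 1) * (x₂ - 1) = 0 := by
      apply hx_unit.mul_left_cancel
      have ea : x * (x₁ - 1) = x ^ q' - x := by
        rw [mul_sub, mul_one, hx1, ← pow_succ', Nat.sub_add_cancel hq'2]
      have eb : x₂ - 1 = x * x ^ q' - 1 := by rw [hx2, pow_succ']
      rw [mul_zero, ← mul_assoc, ea, eb]
      exact hprod
    have hDunit : IsUnit (x₂ - x₁) := by
      have h1 : x₂ - x₁ = x₁ * (x ^ 2 - 1) := by
        rw [mul_sub, mul_one, hx1, hx2, ← pow_add, show q' - 1 + 2 = q' + 1 by omega]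
      rw [h1]
      refine (hx_unit.pow _).mul ?_
      rw [hx, ← pow_mul, mul_comm P 2, pow_mul, ← one_pow P, hP,
        ← sub_pow_char_pow_of_commute p _ (Commute.one_right _)]
      apply IsUnit.pow
      rw [← isUnit_pow_iff (n := 2) two_ne_zero]
      have h4 : (A ^ 2 - 1) ^ 2 = A ^ 2 * (B ^ 2 - (4 : F) • 1) := by
        have e1 : A * B = A ^ 2 + 1 := by rw [hB, mul_add, hAA', pow_two]
        rw [mul_sub, ← hcAB.mul_pow, e1, Matrix.mul_smul, mul_one,
          show (4 : F) = 2 + 2 by norm_num, add_smul, two_smul]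
        rw [pow_two (A ^ 2 + 1), pow_two (A ^ 2 - 1), add_mul, mul_add, mul_add, sub_mul, mul_sub,
          mul_sub, mul_one, one_mul, one_mul]
        abel
      rw [h4]
      refine (IsUnit.pow _ ⟨⟨A, A', hAA', hA'A⟩, rfl⟩).mul ?_
      have hcop : IsCoprime (φ ^ k) (X ^ 2 - C 4) :=
        ((hφi.coprime_iff_not_dvd).mpr hdiv).pow_left
      obtain ⟨u, v, huv⟩ := hcop
      have h5 := congrArg (Polynomial.aeval B) huv
      have h6 : Polynomial.aeval B (X ^ 2 - C 4 : F[X]) = B ^ 2 - (4 : F) • 1 := by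
        rw [map_sub, map_pow, aeval_X, aeval_C, Algebra.algebraMap_eq_smul_one]
      rw [map_add, map_mul, map_mul, hann, mul_zero, zero_add, map_one] at h5
      rw [← h6]
      refine ⟨⟨_, Polynomial.aeval B v, ?_, h5⟩, rfl⟩
      rw [← map_mul, mul_comm, map_mul, h5]
    obtain ⟨D, hD⟩ := hDunit
    have hcomA1 : Commute x₁ x₂ := ((Commute.refl x).pow_pow _ _)
    have hcomD : Commute (x₂ - 1) (D : Mn) := by
      rw [hD]
      exact ((Commute.refl x₂).sub_right hcomA1.symm).sub_left (Commute.one_left _)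
    set E : Mn := (x₂ - 1) * ((D⁻¹ : Mnˣ) : Mn) with hE
    have hED : E * (D : Mn) = x₂ - 1 := by rw [hE, mul_assoc, D.inv_mul, mul_one]
    have hDE : (D : Mn) * E = x₂ - 1 := by
      rw [hE, ← mul_assoc, ← hcomD.eq, mul_assoc, D.mul_inv, mul_one]
    have hcEA : Commute E A := by
      have h1 : Commute (x₂ - 1) A :=
        (((Commute.refl A).pow_left P).pow_left _).sub_left (Commute.one_left _)
      have h2' : Commute (D : Mn) A := by
        rw [hD]
        exact (((Commute.refl A).pow_left P).pow_left _).sub_left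
          (((Commute.refl A).pow_left P).pow_left _)
      exact h1.mul_left h2'.units_inv_left
    have hidem : E * E = E := by
      have h1 : (1 - E) * (D : Mn) = 1 - x₁ := by
        rw [sub_mul, one_mul, hED, hD]; abel
      have h2' : E * ((1 - E) * (D : Mn)) * (D : Mn) = 0 := by
        rw [h1]
        have : Commute (1 - x₁) (D : Mn) := by
          rw [hD]
          exact (Commute.one_left _).sub_left (hcomA1.sub_right (Commute.refl x₁))
        rw [mul_assoc, this.eq, ← mul_assoc, hED, ← neg_sub x₁ 1, mul_neg]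
        rw [show (x₂ - 1) * (x₁ - 1) = (x₁ - 1) * (x₂ - 1) from
          ((hcomA1.symm.sub_right (Commute.one_right _)).sub_left (Commute.one_left _)).eq,
          hzero, neg_zero]
      rw [← mul_assoc] at h2'
      have h3 := D.isUnit.mul_right_cancel (h2'.trans (zero_mul (D : Mn)).symm)
      have h4 := D.isUnit.mul_right_cancel (h3.trans (zero_mul (D : Mn)).symm)
      rw [mul_sub, mul_one, sub_eq_zero] at h4
      exact h4.symm
    have hadjE : Adj E E := by
      obtain ⟨E', hE'⟩ := exists_adj E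
      have hadjx : Adj x x' := hadjA.pow P
      have hadjx1 : Adj x₁ (x' ^ (q' - 1)) := hadjx.pow _
      have hadjx2 : Adj x₂ (x' ^ (q' + 1)) := hadjx.pow _
      set x₁' := x' ^ (q' - 1) with hx1'
      set x₂' := x' ^ (q' + 1) with hx2'
      have h1 : (x₂' - x₁') * E' = x₂' - 1 := by
        have hl : Adj (x₂ - 1) ((x₂' - x₁') * E') := by
          have := hE'.mul (hadjx2.sub hadjx1)
          rwa [← hD, hED] at this
        exact hl.unique (hadjx2.sub adj_one)
      have hcxx' : Commute x x' := hcAA'.pow_pow P P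
      have e1 : x₁ * x₁' = 1 := by rw [hx1, hx1', ← hcxx'.mul_pow, hxx', one_pow]
      have e2 : x₂ * x₂' = 1 := by rw [hx2, hx2', ← hcxx'.mul_pow, hxx', one_pow]
      have h7 : x₁ * x₂ * (x₂' - x₁') = -(D : Mn) := by
        rw [mul_sub, mul_assoc, e2, mul_one, hcomA1.eq, mul_assoc, e1, mul_one, hD, neg_sub]
      have h8 : x₁ * x₂ * (x₂' - 1) = -(x₂ - 1) := by
        rw [mul_sub, mul_assoc, e2, mul_one, mul_one]
        rw [sub_mul, mul_sub, mul_sub, one_mul, mul_one, one_mul] at hzero
        calc x₁ - x₁ * x₂ = -(x₂ - 1) - (x₁ * x₂ - x₁ - (x₂ - 1)) := by abel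
          _ = -(x₂ - 1) := by rw [hzero, sub_zero]
      have h9 : (D : Mn) * E' = x₂ - 1 := by
        have := congrArg (fun M => x₁ * x₂ * M) h1
        simp only [← mul_assoc, h7, h8, neg_mul, neg_inj] at this
        exact this
      have : E' = E := D.isUnit.mul_left_cancel (h9.trans hDE.symm)
      rwa [this] at hE'
    by_cases hE0 : E = 0
    · right
      refine ⟨d, k, hd1, hk, hkd, Or.inl ?_⟩
      rw [hE0, zero_mul, eq_comm, sub_eq_zero] at hED
      apply hpow1
      rw [pow_mul, ← hP, ← hx]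
      exact hED
    by_cases hE1 : E = 1
    · right
      refine ⟨d, k, hd1, hk, hkd, Or.inr ?_⟩
      rw [hE1, one_mul, hD] at hED
      apply hpow1
      rw [pow_mul, ← hP, ← hx]
      change x₁ = 1
      exact sub_right_injective hED
    · exact False.elim (hnotE ⟨E, hidem, hE0, hE1, hcEA, hadjE⟩)

/-- The element attached to a proper block is good and dominates. -/
theorem good_block (p : ℕ) [Fact p.Prime] [CharP F p] (hp2 : p ≠ 2) (h2 : (2 : F) ≠ 0) (d : ℕ)
    (hd : 1 ≤ d) (hdn : d < n) (plus : Bool) :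
    ∃ y : Cfsg.PSp n F, 2 ∣ orderOf y ∧
      p ^ Nat.clog p (2 * (n - d)) *
        (if plus then Fintype.card F ^ d + 1 else Fintype.card F ^ d - 1) ∣ orderOf y := by
  classical
  have h : d + (n - d) = n := by omega
  obtain ⟨u, hu⟩ := Small.exists_sp_unipotent (F := F) p (n - d) (by omega)
  obtain ⟨T, hT⟩ : ∃ T : symplecticGroup (Fin d) F,
      orderOf T = if plus then Fintype.card F ^ d + 1 else Fintype.card F ^ d - 1 := by
    cases plus
    · simpa [Nat.card_eq_fintype_card] using Small.exists_sp_torus_minus (F := F) d hd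
    · simpa [Nat.card_eq_fintype_card] using Small.exists_sp_torus_plus (F := F) d hd
  set Q := if plus then Fintype.card F ^ d + 1 else Fintype.card F ^ d - 1 with hQ
  set y := Small.spBlockHom F h (T, u) with hy
  obtain ⟨c, hc, hyN⟩ := exists_pow_orderOf_proj y
  set N := orderOf (proj y) with hN
  have hblk : Small.spBlockMat F h (((T : Matrix _ _ F), (u : Matrix _ _ F)) ^ N) =
      Small.spBlockMat F h (c • 1, c • 1) := by
    rw [map_pow, Small.spBlockMat_smul_one]
    exact hyN
  have h12 := Small.spBlockMat_injective h hblk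
  have hP : Odd (p ^ Nat.clog p (2 * (n - d))) :=
    (((Fact.out : p.Prime).odd_of_ne_two hp2)).pow
  have hc1 : c = 1 := by
    rcases smul_self_eq_one hc with h1 | h1
    · exact h1
    exfalso
    have e := congrArg Prod.snd h12
    simp only [Prod.pow_snd] at e
    have e2 := congrArg (fun M => M ^ p ^ Nat.clog p (2 * (n - d))) e
    simp only [_root_.smul_pow, one_pow] at e2
    rw [← pow_mul, mul_comm, pow_mul, ← hu, ← SubmonoidClass.coe_pow, pow_orderOf_eq_one,
      OneMemClass.coe_one, one_pow, hu, h1, hP.neg_one_pow] at e2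
    have := congrFun (congrFun e2 (Sum.inl ⟨0, by omega⟩)) (Sum.inl ⟨0, by omega⟩)
    simp at this
    exact h2 (by linear_combination this)
  have huN : orderOf u ∣ N := by
    apply orderOf_dvd_of_pow_eq_one
    apply Subtype.ext
    have e := congrArg Prod.snd h12
    simpa [hc1] using e
  have hTN : orderOf T ∣ N := by
    apply orderOf_dvd_of_pow_eq_one
    apply Subtype.ext
    have e := congrArg Prod.fst h12
    simpa [hc1] using e
  rw [hu] at huN
  rw [hT] at hTN
  have hpq : p ∣ Fintype.card F ^ d := by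
    obtain ⟨k, -, hk⟩ := FiniteField.card F p
    rw [hk, ← pow_mul]
    exact dvd_pow_self p (by positivity)
  have hcardodd : Odd (Fintype.card F ^ d) := by
    apply Odd.pow
    obtain ⟨k, -, hk⟩ := FiniteField.card F p
    rw [hk]
    exact ((Fact.out : p.Prime).odd_of_ne_two hp2).pow
  have hQeven : 2 ∣ Q := by
    obtain ⟨j, hj⟩ := hcardodd
    cases plus
    · exact ⟨j, by simp [hQ, hj]⟩
    · exact ⟨j + 1, by simp [hQ, hj]; ring⟩
  refine ⟨proj y, hQeven.trans hTN, ?_⟩
  refine Nat.Coprime.mul_dvd_of_dvd_of_dvd ?_ huN hTN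
  apply Nat.Coprime.pow_left
  rw [(Fact.out : p.Prime).coprime_iff_not_dvd]
  intro hdvd
  have h1 : p ∣ 1 := by
    have hpos : 1 ≤ Fintype.card F ^ d := Nat.one_le_pow _ _ Fintype.card_pos
    cases plus
    · simp [hQ] at hdvd
      have := Nat.dvd_sub hpq hdvd
      rwa [Nat.sub_sub_self hpos] at this
    · simp [hQ] at hdvd
      exact (Nat.dvd_add_iff_right hpq).mpr hdvd
  exact (Fact.out : p.Prime).one_lt.ne' (Nat.dvd_one.mp h1)

theorem half_dvd_orderOf (T : Spn) {Q : ℕ} (hT : orderOf T = Q) :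
    Q ∣ 2 * orderOf (proj T) := by
  rw [← hT]
  obtain ⟨c, hc, h⟩ := exists_pow_orderOf_proj T
  apply orderOf_dvd_of_pow_eq_one
  apply Subtype.ext
  rw [SubmonoidClass.coe_pow, mul_comm, pow_mul, h, _root_.smul_pow, one_pow, pow_two, hc, one_smul]
  rfl

theorem classify (p a : ℕ) [Fact p.Prime] [CharP F p] (hq : Fintype.card F = p ^ a)
    (hodd : Odd (Fintype.card F)) (hn : 2 ≤ n) :
    ∃ A B : Cfsg.PSp n F,
      (∀ x : Cfsg.PSp n F, Good x ∨ orderOf x ∣ orderOf A ∨ orderOf x ∣ orderOf B) ∧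
      ((¬ ∃ j : ℕ, 2 * n - 1 = p ^ j) → ∀ x : Cfsg.PSp n F, Good x ∨ orderOf x ∣ orderOf A) := by
  classical
  have hp1 := (Fact.out : p.Prime).one_lt
  have hp2 : p ≠ 2 := by
    rintro rfl
    rw [hq] at hodd
    rcases Nat.eq_zero_or_pos a with rfl | ha
    · have := Fintype.one_lt_card (α := F)
      simp [hq] at this
    · exact (Nat.not_even_iff_odd.mpr hodd) (even_two.pow_of_ne_zero ha.ne')
  have h2 : (2 : F) ≠ 0 := Ring.two_ne_zero (by rw [ringChar.eq F p]; exact hp2)
  set q' := Fintype.card F ^ n with hq'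
  obtain ⟨j, hj⟩ : Odd q' := hodd.pow
  obtain ⟨Tp, hTp⟩ := Small.exists_sp_torus_plus (F := F) n (by omega)
  obtain ⟨Tm, hTm⟩ := Small.exists_sp_torus_minus (F := F) n (by omega)
  rw [Nat.card_eq_fintype_card, ← hq'] at hTp hTm
  have hP : j + 1 ∣ orderOf (proj Tp) := by
    have := half_dvd_orderOf Tp hTp
    rw [show q' + 1 = 2 * (j + 1) by omega] at this
    exact Nat.dvd_of_mul_dvd_mul_left two_pos this
  have hM : j ∣ orderOf (proj Tm) := by
    have := half_dvd_orderOf Tm hTm
    rw [show q' - 1 = 2 * j by omega] at this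
    exact Nat.dvd_of_mul_dvd_mul_left two_pos this
  obtain ⟨u, hu⟩ := Small.exists_sp_unipotent (F := F) p n (by omega)
  have hB : p ^ Nat.clog p (2 * n) ∣ orderOf (proj u) := by
    have := half_dvd_orderOf u hu
    exact ((((Fact.out : p.Prime).odd_of_ne_two hp2).pow).coprime_two_right).dvd_of_dvd_mul_left this
  set A := if Even j then proj Tp else proj Tm with hA
  refine ⟨A, proj u, ?_⟩
  have key : ∀ x : Cfsg.PSp n F, Good x ∨ orderOf x ∣ orderOf A ∨
      (orderOf x ∣ p ^ Nat.clog p (2 * n) ∧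
        (2 * n ≤ p ^ Nat.clog p (2 * (n - 1)) → Good x)) := by
    intro x
    by_cases hev : 2 ∣ orderOf x
    · exact Or.inl ⟨x, hev, dvd_rfl⟩
    have hxodd : Odd (orderOf x) := Nat.odd_iff.mpr (by omega)
    obtain ⟨g₀, rfl⟩ : ∃ g, proj g = x := QuotientGroup.mk'_surjective _ x
    -- a lift of odd order
    obtain ⟨g, hg, hgodd⟩ : ∃ g : Spn, proj g = proj g₀ ∧ Odd (orderOf g) := by
      have hN : (g₀ ^ orderOf (proj g₀)) ^ 2 = 1 := by
        obtain ⟨c, hc, h⟩ := exists_pow_orderOf_proj g₀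
        apply Subtype.ext
        rw [SubmonoidClass.coe_pow, SubmonoidClass.coe_pow, h, _root_.smul_pow, one_pow, pow_two,
          hc, one_smul]
        rfl
      obtain ⟨i, hi⟩ := hxodd
      refine ⟨g₀ ^ (2 * i + 2), ?_, ?_⟩
      · rw [map_pow, show 2 * i + 2 = orderOf (proj g₀) + 1 by omega, pow_succ, pow_orderOf_eq_one,
          one_mul]
      · have h1 : (g₀ ^ (2 * i + 2)) ^ (2 * i + 1) = 1 := by
          rw [← pow_mul, show (2 * i + 2) * (2 * i + 1) = orderOf (proj g₀) * 2 * (i + 1) by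
            rw [hi]; ring, pow_mul, pow_mul, hN, one_pow]
        exact Odd.of_dvd_nat ⟨i, rfl⟩ (orderOf_dvd_of_pow_eq_one h1)
    rw [← hg] at hxodd ⊢
    have hdg : orderOf (proj g) ∣ orderOf g := orderOf_map_dvd proj g
    rcases analyse p a hq h2 (by omega) g hgodd with
      ⟨E, hE, h0, h1, hc, hadj⟩ | hu' | ⟨d, k, hd, hk, hkd, hcase⟩
    · exact Or.inl (good_of_idempotent h2 g hxodd E hE h0 h1 hc hadj)
    · refine Or.inr (Or.inr ⟨hdg.trans hu', fun hle => ?_⟩)
      obtain ⟨y, hy, hord⟩ := good_block (F := F) (n := n) p hp2 h2 1 le_rfl (by omega) false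
      refine ⟨y, hy, hdg.trans (hu'.trans ?_)⟩
      refine Dvd.dvd.trans ?_ ((dvd_mul_right _ _).trans hord)
      exact Nat.pow_dvd_pow p (Nat.clog_le_of_le_pow hle)
    obtain ⟨plus, hplus⟩ : ∃ plus : Bool, orderOf g ∣ p ^ Nat.clog p k *
        (if plus then Fintype.card F ^ d + 1 else Fintype.card F ^ d - 1) := by
      rcases hcase with h | h
      exacts [⟨true, by simpa using h⟩, ⟨false, by simpa using h⟩]
    have hdn : d ≤ n := le_trans (Nat.le_mul_of_pos_left d hk) hkd
    rcases Nat.eq_or_lt_of_le hdn with rfl | hdlt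
    · obtain rfl : k = 1 := by nlinarith
      rw [Nat.clog_one_right, pow_zero, one_mul] at hplus
      have hhalf : orderOf (proj g) ∣ if plus then j + 1 else j := by
        have hcop : Nat.Coprime (orderOf g) 2 := hgodd.coprime_two_right
        refine hdg.trans (hcop.dvd_of_dvd_mul_left ?_)
        cases plus
        · simp only [Bool.false_eq_true, if_false] at hplus ⊢
          rwa [← show q' - 1 = 2 * j by omega, hq']
        · simp only [if_true] at hplus ⊢
          rwa [← show q' + 1 = 2 * (j + 1) by omega, hq']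
      rcases Nat.even_or_odd j with hje | hjo
      · cases plus
        · exact Or.inl ⟨proj Tm, (even_iff_two_dvd.mp hje).trans hM, hhalf.trans hM⟩
        · exact Or.inr (Or.inl (by rw [hA, if_pos hje]; exact hhalf.trans hP))
      · cases plus
        · exact Or.inr (Or.inl (by
            rw [hA, if_neg (Nat.not_even_iff_odd.mpr hjo)]; exact hhalf.trans hM))
        · exact Or.inl ⟨proj Tp, (even_iff_two_dvd.mp hjo.add_one).trans hP, hhalf.trans hP⟩
    · obtain ⟨y, hy, hord⟩ := good_block (F := F) (n := n) p hp2 h2 d hd hdlt plus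
      refine Or.inl ⟨y, hy, hdg.trans (hplus.trans (Dvd.dvd.trans ?_ hord))⟩
      refine mul_dvd_mul_right (Nat.pow_dvd_pow p (Nat.clog_mono_right p ?_)) _
      rcases Nat.eq_or_lt_of_le hk with rfl | hk2
      · omega
      · obtain ⟨k', rfl⟩ : ∃ k', k = k' + 1 := ⟨k - 1, by omega⟩
        rw [add_one_mul] at hkd
        have : k' + 1 ≤ 2 * (k' * d) := by nlinarith
        omega
  refine ⟨fun x => ?_, fun hno x => ?_⟩
  · rcases key x with h | h | ⟨h, -⟩
    exacts [Or.inl h, Or.inr (Or.inl h), Or.inr (Or.inr (h.trans hB))]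
  · rcases key x with h | h | ⟨-, h⟩
    · exact Or.inl h
    · exact Or.inr h
    · refine Or.inl (h ?_)
      by_contra hlt
      have h1 := Nat.le_pow_clog hp1 (2 * (n - 1))
      refine hno ⟨Nat.clog p (2 * (n - 1)), ?_⟩
      have h3 : Odd (p ^ Nat.clog p (2 * (n - 1))) := ((Fact.out : p.Prime).odd_of_ne_two hp2).pow
      obtain ⟨i, hi⟩ := h3
      omega

/-- Let F be a finite field of odd order q = p^a, n ≥ 2 (with q ≥ 3 automatic), and L = PSp(2n, F). Then for every m the direct product L × L × L × (ℤ/2)^m has the same set of element orders as L × L × L; and if 2n − 1 is not a power of p, then already L × L × (ℤ/2)^m has the same set of element orders as L × L. -/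
theorem result {F : Type*} [Field F] [Fintype F] (p a n m : ℕ) (hp : p.Prime) (ha : 1 ≤ a) (hF : Fintype.card F = p ^ a) (hodd : Odd (Fintype.card F))
    (hn : 2 ≤ n) :
    Set.range (orderOf : Cfsg.PSp n F × Cfsg.PSp n F × Cfsg.PSp n F × Multiplicative (Fin m → ZMod 2) → ℕ) = Set.range (orderOf : Cfsg.PSp n F × Cfsg.PSp n F × Cfsg.PSp n F → ℕ) ∧
    ((¬ ∃ j : ℕ, 2 * n - 1 = p ^ j) →
      Set.range (orderOf : Cfsg.PSp n F × Cfsg.PSp n F × Multiplicative (Fin m → ZMod 2) → ℕ) = Set.range (orderOf : Cfsg.PSp n F × Cfsg.PSp n F → ℕ)) := by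
  classical
  haveI : Fact p.Prime := ⟨hp⟩
  haveI : CharP F p := charP_of_card_eq_prime_pow (R := F) hF
  obtain ⟨A, B, h3, h2⟩ := classify (F := F) (n := n) p a hF hodd hn
  have hp2 : p ≠ 2 := by
    rintro rfl
    rw [hF] at hodd
    exact (Nat.not_even_iff_odd.mpr hodd) (even_two.pow_of_ne_zero (by omega))
  have htwo : (2 : F) ≠ 0 := Ring.two_ne_zero (by rw [ringChar.eq F p]; exact hp2)
  obtain ⟨z₀, hz₀, -⟩ := good_block (F := F) (n := n) p hp2 htwo 1 le_rfl (by omega) false
  exact ⟨Small.range_orderOf_prod_three Small.zmod_fun_pow_eq_one z₀ hz₀ A B h3,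
    fun hno => Small.range_orderOf_prod_two Small.zmod_fun_pow_eq_one z₀ hz₀ A (h2 hno)⟩

end Cfsg.Agent.S2512
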