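import Cfsg.Statements.S2513
import Cfsg.Agent.Lib.Small.FieldMatrix

set_option autoImplicit false
open Cfsg

namespace Cfsg.Agent.S2513

theorem units_eq_one {F : Type*} [Field F] [Fintype F] (hF : Fintype.card F = 2) (u : Fˣ) :
    u = 1 := by
  classical
  have : Fintype.card Fˣ = 1 := by rw [Fintype.card_units, hF]
  exact Fintype.card_le_one_iff.mp this.le u 1

/-- Over the field with two elements `PSL n` is `GL n`. -/
noncomputable def equivGL (n : ℕ) {F : Type*} [Field F] [Fintype F] (hF : Fintype.card F = 2) :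
    Matrix.ProjectiveSpecialLinearGroup (Fin n) F ≃* GL (Fin n) F :=
  have hc : Subgroup.center (Matrix.SpecialLinearGroup (Fin n) F) = ⊥ := by
    rw [eq_bot_iff]
    intro A hA
    obtain ⟨r, hr, hr'⟩ := Matrix.SpecialLinearGroup.mem_center_iff.mp hA
    rw [Subgroup.mem_bot]
    apply Subtype.ext
    rcases Nat.eq_zero_or_pos n with rfl | hn
    · exact Subsingleton.elim _ _
    have hr0 : r ≠ 0 := by
      rintro rfl
      simp [zero_pow hn.ne'] at hr
    have : r = 1 := congrArg Units.val (units_eq_one hF (Units.mk0 r hr0))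
    rw [← hr', this]
    simp
  (QuotientGroup.quotientMulEquivOfEq hc).trans <| QuotientGroup.quotientBot.trans <|
    MulEquiv.ofBijective Matrix.SpecialLinearGroup.toGL
      ⟨Matrix.SpecialLinearGroup.toGL_injective, fun g =>
        ⟨⟨(g : Matrix (Fin n) (Fin n) F),
          congrArg Units.val (units_eq_one hF (Matrix.GeneralLinearGroup.det g))⟩, Units.ext rfl⟩⟩

/-- Let F be the field with two elements, n ≥ 2, L = PSL(n, F) and k₀ = ⌊(n + 3)/2⌋. Then for every k ≥ k₀ the direct product of k copies of L has the same set of element orders as the direct product of k₀ copies of L. -/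
theorem result {F : Type*} [Field F] [Fintype F] (hF : Fintype.card F = 2) (n k : ℕ) (hn : 2 ≤ n) (hk : (n + 3) / 2 ≤ k) :
    Set.range (orderOf : (Fin k → Matrix.ProjectiveSpecialLinearGroup (Fin n) F) → ℕ) = Set.range (orderOf : (Fin ((n + 3) / 2) → Matrix.ProjectiveSpecialLinearGroup (Fin n) F) → ℕ) := by
  haveI : Fact (Nat.Prime 2) := ⟨Nat.prime_two⟩
  haveI : CharP F 2 := by
    have := charP_of_card_eq_prime_pow (R := F) (p := 2) (f := 1) (by simp [hF])
    exact this
  set m := (n + 3) / 2 with hm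
  set L : ℕ := (Finset.Icc 1 n).lcm (fun d => 2 ^ d - 1) with hLdef
  have hcardF : Nat.card F = 2 := by rw [Nat.card_eq_fintype_card, hF]
  have hL : ∀ d, 1 ≤ d → d ≤ n → Nat.card F ^ d - 1 ∣ L := by
    intro d h1 h2
    rw [hcardF]
    exact Finset.dvd_lcm (Finset.mem_Icc.mpr ⟨h1, h2⟩)
  let e := equivGL n hF
  have hexp : ∀ (j : ℕ) (f : Fin j → Matrix.ProjectiveSpecialLinearGroup (Fin n) F),
      orderOf f ∣ L * 2 ^ Nat.clog 2 n := by
    intro j f
    rw [orderOf_dvd_iff_pow_eq_one]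
    funext i
    apply e.injective
    rw [Pi.pow_apply, map_pow, Pi.one_apply, map_one]
    exact Small.gl_pow_exponent 2 n L hL _
  obtain ⟨h, hh⟩ : ∃ h : Fin m → GL (Fin n) F, L * 2 ^ Nat.clog 2 n ∣ orderOf h := by
    have hs : ∀ j : ℕ, ∃ s : GL (Fin n) F, j < n → 2 ^ (n - j) - 1 ∣ orderOf s := by
      intro j
      by_cases hj : j < n
      · obtain ⟨s, hs⟩ := Small.exists_singer (F := F) (n - j) (by omega)
        refine ⟨Small.glBlockHom F (Nat.sub_le n j) s, fun _ => ?_⟩
        rw [orderOf_injective _ (Small.glBlockHom_injective F _), hs, hcardF]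
      · exact ⟨1, fun h => absurd h hj⟩
    choose s hs using hs
    refine ⟨fun i => if (i : ℕ) = 0 then Small.jordanGL n F else s ((i : ℕ) - 1), ?_⟩
    set h : Fin m → GL (Fin n) F :=
      fun i => if (i : ℕ) = 0 then Small.jordanGL n F else s ((i : ℕ) - 1) with hdef
    have hproj : ∀ i, orderOf (h i) ∣ orderOf h := fun i =>
      orderOf_map_dvd (Pi.evalMonoidHom (fun _ : Fin m => GL (Fin n) F) i) h
    have hA : 2 ^ Nat.clog 2 n ∣ orderOf h := by
      have := hproj ⟨0, by omega⟩
      simp only [hdef, if_true] at this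
      rwa [Small.orderOf_jordanGL n F 2 (by omega)] at this
    have hB : L ∣ orderOf h := by
      apply Finset.lcm_dvd
      intro d hd
      obtain ⟨hd1, hd2⟩ := Finset.mem_Icc.mp hd
      obtain ⟨d', hdd, hlo, hhi⟩ : ∃ d', d ∣ d' ∧ n < 2 * d' ∧ d' ≤ n := by
        refine ⟨d * (n / d), dvd_mul_right _ _, ?_, Nat.mul_div_le n d⟩
        have h1 := Nat.div_add_mod n d
        have h2 := Nat.mod_lt n hd1
        have h3 : 1 ≤ n / d := (Nat.one_le_div_iff hd1).mpr hd2
        have h4 : d * 1 ≤ d * (n / d) := Nat.mul_le_mul_left d h3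
        omega
      have hdvd : 2 ^ d - 1 ∣ 2 ^ d' - 1 := Nat.pow_sub_one_dvd_pow_sub_one 2 hdd
      have := hproj ⟨n - d' + 1, by omega⟩
      simp only [hdef, Nat.succ_ne_zero, if_false, Nat.add_sub_cancel] at this
      have h5 := hs (n - d') (by omega)
      rw [show n - (n - d') = d' by omega] at h5
      exact hdvd.trans (h5.trans this)
    have hcop : Nat.Coprime L (2 ^ Nat.clog 2 n) := by
      apply Nat.Coprime.pow_right
      rw [Nat.coprime_comm, Nat.prime_two.coprime_iff_not_dvd]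
      intro h2
      have : L ∣ ∏ d ∈ Finset.Icc 1 n, (2 ^ d - 1) :=
        Finset.lcm_dvd (fun d hd => Finset.dvd_prod_of_mem _ hd)
      obtain ⟨d, hd, hd2⟩ := (Nat.prime_two.prime.dvd_finsetProd_iff _).mp (h2.trans this)
      have hd1 := (Finset.mem_Icc.mp hd).1
      obtain ⟨c, rfl⟩ : ∃ c, d = c + 1 := ⟨d - 1, by omega⟩
      rw [pow_succ] at hd2
      have := Nat.one_le_two_pow (n := c)
      omega
    exact hcop.mul_dvd_of_dvd_of_dvd hB hA
  have hgen : ∀ (j : ℕ), m ≤ j → ∀ d, d ∣ L * 2 ^ Nat.clog 2 n →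
      ∃ f : Fin j → Matrix.ProjectiveSpecialLinearGroup (Fin n) F, orderOf f = d := by
    intro j hj d hd
    let f₀ : Fin j → Matrix.ProjectiveSpecialLinearGroup (Fin n) F :=
      fun i => if hi : (i : ℕ) < m then e.symm (h ⟨i, hi⟩) else 1
    have h0 : orderOf h ∣ orderOf f₀ := by
      rw [orderOf_dvd_iff_pow_eq_one]
      funext i
      have h1 := congrFun (pow_orderOf_eq_one f₀) (Fin.castLE hj i)
      rw [Pi.pow_apply, Pi.one_apply] at h1 ⊢
      have h2 : f₀ (Fin.castLE hj i) = e.symm (h i) := by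
        simp [f₀, i.isLt]
      rw [h2, ← map_pow] at h1
      exact e.symm.injective (h1.trans (map_one _).symm)
    have hd' : d ∣ orderOf f₀ := hd.trans (hh.trans h0)
    exact ⟨f₀ ^ (orderOf f₀ / d), orderOf_pow_orderOf_div (orderOf_pos f₀).ne' hd'⟩
  ext d
  constructor
  · rintro ⟨f, rfl⟩
    obtain ⟨g, hg⟩ := hgen m le_rfl _ (hexp k f)
    exact ⟨g, hg⟩
  · rintro ⟨f, rfl⟩
    obtain ⟨g, hg⟩ := hgen k hk _ (hexp m f)
    exact ⟨g, hg⟩


end Cfsg.Agent.S2513
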