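import Cfsg.Statements.S2515
import Cfsg.Agent.Lib.Lead.TwistedTensor
import Cfsg.Agent.Lib.Lead.PGLOrders

set_option autoImplicit false
open Cfsg

namespace Cfsg.Agent.S2515


theorem range_semi {F : Type} [Field F] [Fintype F] [CharP F 3] [Fact (Nat.Prime 3)]
    (hq : Fintype.card F % 4 = 3) (h4 : 4 ≤ Fintype.card F) :
    Set.range (orderOf : SemiSpec.Semi (TwistedTensor.Op F) (TwistedTensor.Mod F) → ℕ) =
      {m | m ∣ 6 ∨ m ∣ 9 ∨ m ∣ Fintype.card F - 1 ∨ m ∣ (Fintype.card F + 1) / 2} := by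
  classical
  have hns : ¬ IsSquare (-1 : F) := by rw [FiniteField.isSquare_neg_one_iff]; simpa using hq
  have hgcd : Nat.gcd 2 (Fintype.card F - 1) = 2 := Nat.gcd_eq_left (by omega)
  have hexp := TwistedTensor.three_nsmul (F := F)
  refine Set.eq_of_subset_of_subset ?_ ?_
  · rintro m ⟨x, rfl⟩
    by_cases hfix : ∀ M : TwistedTensor.Mod F, x.right • M = M → M = 0
    · rw [SemiSpec.orderOf_eq_of_fpf x hfix, Prod.orderOf]
      have he : orderOf x.right.2 ∣ 2 := orderOf_dvd_of_pow_eq_one (Int.units_sq _)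
      have hx := Cfsg.Agent.Small.SL2C.orderOf_dvd 3 x.right.1
      rw [hgcd] at hx
      rcases hx with h | h | h
      · exact Or.inl (Nat.lcm_dvd (h.trans (by norm_num)) (he.trans (by norm_num)))
      · exact Or.inr (Or.inr (Or.inl (Nat.lcm_dvd (h.trans (Nat.div_dvd_of_dvd (by omega)))
          (he.trans (by omega)))))
      · exact Or.inr (Or.inr (Or.inr (Nat.lcm_dvd h (he.trans (by omega)))))
    · push Not at hfix
      obtain ⟨M, hM, hne⟩ := hfix
      have hd := SemiSpec.orderOf_dvd_mul hexp x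
      rcases TwistedTensor.fixed_cases hns x.right M hne hM with h | h
      · exact Or.inl (hd.trans (Nat.mul_dvd_mul_left 3 (orderOf_dvd_of_pow_eq_one h)))
      · exact Or.inr (Or.inl (hd.trans (Nat.mul_dvd_mul_left 3 (orderOf_dvd_of_pow_eq_one h))))
  · have hu : orderOf (Cfsg.Agent.Small.PSL2.pr (Cfsg.Agent.Small.PSL2.uS (1 : F))) = 3 :=
      Cfsg.Agent.Small.SL2C.orderOf_pr_uS 3 one_ne_zero
    have h1 : orderOf (-1 : ℤˣ) = 2 := orderOf_eq_prime (Int.units_sq _) (by decide)
    have key : ∀ (h : TwistedTensor.Op F) (n m : ℕ), orderOf h = n → n ≠ 0 → m ∣ n →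
        m ∈ Set.range (orderOf : SemiSpec.Semi (TwistedTensor.Op F) (TwistedTensor.Mod F) → ℕ) :=
      fun h n m hn h0 hm => PGLOrders.exists_of_dvd
        ((SemiSpec.orderOf_el_zero (V := TwistedTensor.Mod F) h).trans hn) h0 hm
    rintro m (hm | hm | hm | hm)
    · refine key (Cfsg.Agent.Small.PSL2.pr (Cfsg.Agent.Small.PSL2.uS (1 : F)), -1) 6 m ?_ (by norm_num) hm
      rw [Prod.orderOf_mk, hu, h1]; rfl
    · refine PGLOrders.exists_of_dvd ((SemiSpec.orderOf_el (r := 3) Nat.prime_three hexp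
        (!![0, 0; 0, 1] : Matrix (Fin 2) (Fin 2) F)
        ((Cfsg.Agent.Small.PSL2.pr (Cfsg.Agent.Small.PSL2.uS (1 : F)), 1) : TwistedTensor.Op F) ?_).trans ?_)
        (by norm_num) hm
      · have ho : orderOf ((Cfsg.Agent.Small.PSL2.pr (Cfsg.Agent.Small.PSL2.uS (1 : F)), 1) :
            TwistedTensor.Op F) = 3 := by rw [Prod.orderOf_mk, hu, orderOf_one]; rfl
        rw [ho, Finset.sum_range_succ, Finset.sum_range_succ, Finset.sum_range_one, pow_zero, one_smul,
          pow_one, sq, mul_smul, TwistedTensor.smul_def, TwistedTensor.smul_def]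
        intro hc
        have hU : ((!![1, 1; 0, 1] : Matrix (Fin 2) (Fin 2) F).map (frobenius F 3)).transpose =
            !![1, 0; 1, 1] := by
          ext i j
          fin_cases i <;> fin_cases j <;> simp
        simp only [TwistedTensor.act, Cfsg.Agent.Small.PSL2.uS_val, hU, Units.val_one, Int.cast_one,
          one_smul, Matrix.mul_fin_two] at hc
        have h2 : (2 : F) = 0 := by
          have := congrFun (congrFun hc 0) 0
          simp at this
          have h3 : (3 : F) = 0 := by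
            have := CharP.cast_eq_zero F 3
            exact_mod_cast this
          linear_combination this - h3
        exact (Cfsg.Agent.Small.SL2C.two_ne_zero_of_char (F := F) 3 (by norm_num)) h2
      · rw [Prod.orderOf_mk, hu, orderOf_one]; rfl
    · obtain ⟨y, hy⟩ := Cfsg.Agent.Small.SL2C.order_exists (F := F) 3 h4
        ((Fintype.card F - 1) / 2) (Or.inr (Or.inl (by rw [hgcd])))
      refine key (y, -1) (Fintype.card F - 1) m ?_ (by omega) hm
      rw [Prod.orderOf_mk, hy, h1, Nat.Coprime.lcm_eq_mul (Nat.coprime_two_right.2 (Nat.odd_iff.2 (by omega)))]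
      omega
    · obtain ⟨y, hy⟩ := Cfsg.Agent.Small.SL2C.order_exists (F := F) 3 h4
        ((Fintype.card F + 1) / 2) (Or.inr (Or.inr (by rw [hgcd])))
      refine key (y, 1) ((Fintype.card F + 1) / 2) m ?_ (by omega) hm
      rw [Prod.orderOf_mk, hy, orderOf_one, Nat.lcm_one_right]


/-- Let q = 3^α with α ≥ 3 odd. There is a finite group H having a non-trivial normal 3-subgroup and whose element orders maximal under divisibility are exactly 6, 9, q − 1 and (q + 1)/2. -/
theorem result (α : ℕ) (hα : 3 ≤ α) (hodd : Odd α) :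
    ∃ (H : Type) (_ : Group H) (_ : Fintype H), (∃ P : Subgroup H, P.Normal ∧ P ≠ ⊥ ∧ IsPGroup 3 ↥P) ∧
      {n : ℕ | n ∈ Set.range (orderOf : H → ℕ) ∧ ∀ m ∈ Set.range (orderOf : H → ℕ), n ∣ m → m = n} = ({6, 9, 3 ^ α - 1, (3 ^ α + 1) / 2} : Set ℕ) := by
  classical
  have : Fact (Nat.Prime 3) := ⟨Nat.prime_three⟩
  let F := GaloisField 3 α
  let : Fintype F := Fintype.ofFinite F
  obtain ⟨q, hqdef⟩ : ∃ q, q = 3 ^ α := ⟨_, rfl⟩
  have hcard : Fintype.card F = q := by
    rw [hqdef, Fintype.card_eq_nat_card]; exact GaloisField.card 3 α (by omega)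
  obtain ⟨k, hk⟩ := hodd
  have h4 : q % 4 = 3 := by
    rw [hqdef, hk, pow_succ, pow_mul, Nat.mul_mod, Nat.pow_mod]; norm_num
  have h27 : 27 ≤ q := hqdef ▸ (show 3 ^ 3 ≤ 3 ^ α from Nat.pow_le_pow_right (by norm_num) hα)
  have h3 : 3 ∣ q := hqdef ▸ dvd_pow_self 3 (by omega)
  have hR := range_semi (F := F) (by rw [hcard]; exact h4) (by omega)
  rw [hcard] at hR
  have := SemiSpec.finite_semi (TwistedTensor.Op F) (TwistedTensor.Mod F)
  have : Nontrivial (TwistedTensor.Mod F) := inferInstanceAs (Nontrivial (Matrix (Fin 2) (Fin 2) F))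
  refine ⟨SemiSpec.Semi (TwistedTensor.Op F) (TwistedTensor.Mod F), inferInstance, Fintype.ofFinite _,
    ⟨SemiSpec.base _ _, SemiSpec.base_normal _ _, SemiSpec.base_ne_bot _ _, fun x => ⟨1, ?_⟩⟩, ?_⟩
  · rw [pow_one]
    exact Subtype.ext (SemiSpec.base_pow _ _ TwistedTensor.three_nsmul x.1 x.2)
  rw [hR, ← hqdef]
  have n3 : ¬ 3 ∣ q - 1 := by omega
  have n3' : ¬ 3 ∣ (q + 1) / 2 := by omega
  have no : ∀ a b : ℕ, 3 ∣ a → ¬ 3 ∣ b → ¬ a ∣ b := fun a b h1 h2 h => h2 (h1.trans h)
  have hle : ∀ a b : ℕ, 0 < b → b < a → ¬ a ∣ b := fun a b h0 h1 h => absurd (Nat.le_of_dvd h0 h) (by omega)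
  have hg : ¬ (q + 1) / 2 ∣ q - 1 := fun h => by
    have h' : (q + 1) / 2 ∣ q + 1 - (q - 1) := Nat.dvd_sub (Nat.div_dvd_of_dvd (by omega)) h
    rw [show q + 1 - (q - 1) = 2 by omega] at h'
    exact absurd (Nat.le_of_dvd (by norm_num) h') (by omega)
  ext n
  simp only [Set.mem_setOf_eq, Set.mem_insert_iff, Set.mem_singleton_iff]
  constructor
  · rintro ⟨h | h | h | h, hmax⟩
    · exact Or.inl (hmax 6 (Or.inl dvd_rfl) h).symm
    · exact Or.inr (Or.inl (hmax 9 (Or.inr (Or.inl dvd_rfl)) h).symm)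
    · exact Or.inr (Or.inr (Or.inl (hmax _ (Or.inr (Or.inr (Or.inl dvd_rfl))) h).symm))
    · exact Or.inr (Or.inr (Or.inr (hmax _ (Or.inr (Or.inr (Or.inr dvd_rfl))) h).symm))
  · rintro (rfl | rfl | rfl | rfl)
    · refine ⟨Or.inl dvd_rfl, fun m hm hd => ?_⟩
      rcases hm with h | h | h | h
      · exact Nat.dvd_antisymm h hd
      · exact absurd (hd.trans h) (by decide)
      · exact absurd (hd.trans h) (no _ _ (by norm_num) n3)
      · exact absurd (hd.trans h) (no _ _ (by norm_num) n3')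
    · refine ⟨Or.inr (Or.inl dvd_rfl), fun m hm hd => ?_⟩
      rcases hm with h | h | h | h
      · exact absurd (hd.trans h) (by decide)
      · exact Nat.dvd_antisymm h hd
      · exact absurd (hd.trans h) (no _ _ (by norm_num) n3)
      · exact absurd (hd.trans h) (no _ _ (by norm_num) n3')
    · refine ⟨Or.inr (Or.inr (Or.inl dvd_rfl)), fun m hm hd => ?_⟩
      rcases hm with h | h | h | h
      · exact absurd (hd.trans h) (hle _ _ (by norm_num) (by omega))
      · exact absurd (hd.trans h) (hle _ _ (by norm_num) (by omega))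
      · exact Nat.dvd_antisymm h hd
      · exact absurd (hd.trans h) (hle _ _ (by omega) (by omega))
    · refine ⟨Or.inr (Or.inr (Or.inr dvd_rfl)), fun m hm hd => ?_⟩
      rcases hm with h | h | h | h
      · exact absurd (hd.trans h) (hle _ _ (by norm_num) (by omega))
      · exact absurd (hd.trans h) (hle _ _ (by norm_num) (by omega))
      · exact absurd (hd.trans h) hg
      · exact Nat.dvd_antisymm h hd

end Cfsg.Agent.S2515
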