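import Cfsg.Statements.S2519
import Cfsg.Agent.Lib.Lie.G2Orders.Maximal

set_option autoImplicit false
open Cfsg

namespace Cfsg.Agent.S2519

/-- Let F be a finite field of odd order q = p^a ≥ 5. The element orders of the Chevalley group G₂(F) that are maximal under divisibility are exactly p(q + 1), p(q − 1), q² − 1, q² + q + 1, q² − q + 1, together with p² when p is 3 or 5. -/
theorem result {F : Type*} [Field F] [Fintype F] (p a : ℕ) (hp : p.Prime) (hp2 : p ≠ 2) (ha : 1 ≤ a) (hF : Fintype.card F = p ^ a) (hq5 : 5 ≤ Fintype.card F) :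
    {n : ℕ | n ∈ Set.range (orderOf : ↥(Cfsg.Lie.chevG2.group F) → ℕ) ∧ ∀ m ∈ Set.range (orderOf : ↥(Cfsg.Lie.chevG2.group F) → ℕ), n ∣ m → m = n} =
      ({p * (p ^ a + 1), p * (p ^ a - 1), p ^ (2 * a) - 1, p ^ (2 * a) + p ^ a + 1, p ^ (2 * a) - p ^ a + 1} : Set ℕ) ∪
        (if p = 3 ∨ p = 5 then ({p ^ 2} : Set ℕ) else ∅) := by
  have h3 : 3 ≤ Fintype.card F := by omega
  have h5 : 5 ≤ p ^ a := hF ▸ hq5
  have hdvd : p ∣ p ^ a := dvd_pow_self p (by omega)
  have e2 : p ^ (2 * a) = (p ^ a) ^ 2 := by rw [← pow_mul, mul_comm]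
  have hex : ∀ N, Lie.G2Orders.InList p (p ^ a) N →
      N ∈ Set.range (orderOf : ↥(Cfsg.Lie.chevG2.group F) → ℕ) := fun N hN =>
    Lie.G2Orders.exists_of_inList hp ha hF h3 hN
  have hiff : ∀ N, N ∈ (({p * (p ^ a + 1), p * (p ^ a - 1), p ^ (2 * a) - 1, p ^ (2 * a) + p ^ a + 1,
      p ^ (2 * a) - p ^ a + 1} : Set ℕ) ∪ (if p = 3 ∨ p = 5 then ({p ^ 2} : Set ℕ) else ∅)) ↔
      Lie.G2Orders.InList p (p ^ a) N := by
    intro N
    by_cases h : p = 3 ∨ p = 5
    · rw [if_pos h]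
      simp only [Set.mem_union, Set.mem_insert_iff, Set.mem_singleton_iff, e2, Lie.G2Orders.InList, h, true_and, hp2, false_and,
        false_or]
      constructor
      · rintro ((h' | h' | h' | h' | h') | h') <;> simp [h']
      · rintro (h' | h' | h' | h' | h' | h') <;> simp [h']
    · rw [if_neg h]
      simp only [Set.mem_union, Set.mem_insert_iff, Set.mem_singleton_iff, Set.mem_empty_iff_false, e2, Lie.G2Orders.InList, h,
        false_and, or_false, hp2]
      constructor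
      · rintro (h' | h' | h' | h' | h') <;> simp [h']
      · rintro (h' | h' | h' | h' | h') <;> simp [h']
  ext n
  constructor
  · rintro ⟨⟨g, rfl⟩, hmax⟩
    obtain ⟨N, hd, hN⟩ := Lie.G2Orders.order_dvd hp ha hF g
    rw [← hmax N (hex N hN) hd]
    exact (hiff N).2 hN
  · intro hn
    have hn' := (hiff n).1 hn
    refine ⟨hex n hn', ?_⟩
    rintro m ⟨g, rfl⟩ hnm
    obtain ⟨N, hd, hN⟩ := Lie.G2Orders.order_dvd hp ha hF g
    have := Lie.G2Orders.antichain hp hp2 hdvd h5 hn' hN (hnm.trans hd)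
    subst this
    exact Nat.dvd_antisymm hd hnm

end Cfsg.Agent.S2519
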