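import Cfsg.Statements.S2520
import Cfsg.Agent.Lib.Lie.G2Orders.Maximal

set_option autoImplicit false
open Cfsg

namespace Cfsg.Agent.S2520

/-- Let F be a finite field with q = 2^a ≥ 4 elements and G₂(F) the Chevalley group of type G₂ over it. Every element order of G₂(F) maximal under divisibility lies in the set {8, 12, 2(q + 1), 2(q − 1), q² − 1, q² + q + 1, q² − q + 1}, and every member of that set is an element order of G₂(F). -/
theorem result {F : Type*} [Field F] [Fintype F] (a : ℕ) (ha : 2 ≤ a) (hF : Fintype.card F = 2 ^ a) :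
    {n : ℕ | n ∈ Set.range (orderOf : ↥(Cfsg.Lie.chevG2.group F) → ℕ) ∧ ∀ m ∈ Set.range (orderOf : ↥(Cfsg.Lie.chevG2.group F) → ℕ), n ∣ m → m = n} ⊆ ({8, 12, 2 * (2 ^ a + 1), 2 * (2 ^ a - 1), 2 ^ (2 * a) - 1, 2 ^ (2 * a) + 2 ^ a + 1, 2 ^ (2 * a) - 2 ^ a + 1} : Set ℕ) ∧
    ({8, 12, 2 * (2 ^ a + 1), 2 * (2 ^ a - 1), 2 ^ (2 * a) - 1, 2 ^ (2 * a) + 2 ^ a + 1, 2 ^ (2 * a) - 2 ^ a + 1} : Set ℕ) ⊆ Set.range (orderOf : ↥(Cfsg.Lie.chevG2.group F) → ℕ) := by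
  have hF' : Fintype.card F = 2 ^ a := hF
  have h3 : 3 ≤ Fintype.card F := by
    have : 2 ^ 2 ≤ 2 ^ a := Nat.pow_le_pow_right (by norm_num) ha
    omega
  have e2 : (2 : ℕ) ^ (2 * a) = (2 ^ a) ^ 2 := by rw [← pow_mul, mul_comm]
  have hex : ∀ N, Lie.G2Orders.InList 2 (2 ^ a) N →
      N ∈ Set.range (orderOf : ↥(Cfsg.Lie.chevG2.group F) → ℕ) := fun N hN =>
    Lie.G2Orders.exists_of_inList Nat.prime_two (by omega) hF' h3 hN
  have hiff : ∀ N, N ∈ ({8, 12, 2 * (2 ^ a + 1), 2 * (2 ^ a - 1), 2 ^ (2 * a) - 1, 2 ^ (2 * a) + 2 ^ a + 1,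
      2 ^ (2 * a) - 2 ^ a + 1} : Set ℕ) ↔ Lie.G2Orders.InList 2 (2 ^ a) N := by
    intro N
    simp only [Set.mem_insert_iff, Set.mem_singleton_iff, e2, Lie.G2Orders.InList, true_and, Nat.reduceEqDiff,
      or_self, false_and, or_false]
    constructor
    · rintro (h | h | h | h | h | h | h)
      exacts [Or.inr (Or.inr (Or.inr (Or.inr (Or.inr (Or.inl h))))),
        Or.inr (Or.inr (Or.inr (Or.inr (Or.inr (Or.inr h))))), Or.inr (Or.inl h), Or.inl h,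
        Or.inr (Or.inr (Or.inl h)), Or.inr (Or.inr (Or.inr (Or.inl h))),
        Or.inr (Or.inr (Or.inr (Or.inr (Or.inl h))))]
    · rintro (h | h | h | h | h | h | h) <;> simp [h]
  refine ⟨?_, fun N hN => hex N ((hiff N).1 hN)⟩
  rintro n ⟨⟨g, rfl⟩, hmax⟩
  obtain ⟨N, hdvd, hN⟩ := Lie.G2Orders.order_dvd Nat.prime_two (by omega) hF' g
  rw [← hmax N (hex N hN) hdvd]
  exact (hiff N).2 hN

end Cfsg.Agent.S2520
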