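import Cfsg.Statements.S2524
import Cfsg.Agent.Lib.Lie.WeilRankOne.Final

set_option autoImplicit false
open Cfsg

namespace Cfsg.Agent.S2524

/-- Let F be a finite field of odd order q and G = Sp(2n, F) with n ≥ 2. Then G has exactly four irreducible complex characters of degree (q^n + 1)/2 or (q^n − 1)/2 (two of each), and every other non-principal irreducible character has degree at least (q^n − 1)(q^n − q)/(2(q + 1)). -/
theorem result {F : Type*} [Field F] [Fintype F] (hodd : Odd (Fintype.card F)) (n : ℕ) (hn : 2 ≤ n) :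
    Nat.card {χ : Cfsg.IrrCharacter ↥(Matrix.symplecticGroup (Fin n) F) // (χ : ↥(Matrix.symplecticGroup (Fin n) F) → ℂ) 1 = (((Fintype.card F) ^ n + 1 : ℕ) : ℂ) / 2} = 2 ∧
    Nat.card {χ : Cfsg.IrrCharacter ↥(Matrix.symplecticGroup (Fin n) F) // (χ : ↥(Matrix.symplecticGroup (Fin n) F) → ℂ) 1 = (((Fintype.card F) ^ n - 1 : ℕ) : ℂ) / 2} = 2 ∧
    ∀ χ : Cfsg.IrrCharacter ↥(Matrix.symplecticGroup (Fin n) F),
      (χ : ↥(Matrix.symplecticGroup (Fin n) F) → ℂ) 1 ≠ 1 →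
      (χ : ↥(Matrix.symplecticGroup (Fin n) F) → ℂ) 1 ≠ (((Fintype.card F) ^ n + 1 : ℕ) : ℂ) / 2 →
      (χ : ↥(Matrix.symplecticGroup (Fin n) F) → ℂ) 1 ≠ (((Fintype.card F) ^ n - 1 : ℕ) : ℂ) / 2 →
      (((Fintype.card F) ^ n - 1 : ℕ) : ℝ) * (((Fintype.card F) ^ n - Fintype.card F : ℕ) : ℝ) / (2 * ((Fintype.card F : ℕ) + 1 : ℝ)) ≤ ‖(χ : ↥(Matrix.symplecticGroup (Fin n) F) → ℂ) 1‖ := by
  classical
  haveI : NeZero n := ⟨by omega⟩
  obtain ⟨hc, hgap⟩ := Cfsg.Agent.WeilOne.counts (F := F) hn hodd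
  have hone : 1 ≤ Fintype.card F ^ n := Nat.one_le_pow _ _ Fintype.card_pos
  have hp : (((Fintype.card F) ^ n + 1 : ℕ) : ℂ) / 2 = ((Fintype.card F : ℂ) ^ n + 1) / 2 := by push_cast; ring
  have hm : (((Fintype.card F) ^ n - 1 : ℕ) : ℂ) / 2 = ((Fintype.card F : ℂ) ^ n + -1) / 2 := by
    rw [Nat.cast_sub hone]; push_cast; ring
  refine ⟨by rw [hp]; exact hc 1 (one_mul 1), by rw [hm]; exact hc (-1) (by norm_num), fun χ h1 hp' hm' => ?_⟩
  obtain ⟨d, hd, hcl⟩ := hgap χ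
  rw [hd, Complex.norm_natCast]
  by_contra hlt
  push Not at hlt
  rw [lt_div_iff₀ (by positivity)] at hlt
  obtain ⟨ε, hε, he⟩ := hcl (by exact_mod_cast hlt) (fun h => h1 (by rw [hd, h, Nat.cast_one]))
  rcases mul_self_eq_one_iff.1 hε with rfl | rfl
  · exact hp' (by rw [hp]; exact he)
  · exact hm' (by rw [hm]; exact he)

end Cfsg.Agent.S2524
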