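import Cfsg.Statements.S2531
import Mathlib.LinearAlgebra.Projectivization.Cardinality

set_option autoImplicit false
open Cfsg

namespace Cfsg.Agent.S2531

open Module

set_option linter.unusedSectionVars false
set_option linter.style.haveILetI false

variable {F : Type*} [Field F] [Finite F]

/-- The points of a subspace. -/
abbrev Pts {n : ℕ} (W : Submodule F (Fin n → F)) := {x : Projectivization F (Fin n → F) // x.rep ∈ W}

theorem mem_iff {n : ℕ} (W : Submodule F (Fin n → F)) (v : Fin n → F) (hv : v ≠ 0) :
    (Projectivization.mk F v hv).rep ∈ W ↔ v ∈ W := by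
  obtain ⟨c, hc⟩ := Projectivization.exists_smul_eq_mk_rep F v hv
  rw [← hc]
  exact W.smul_mem_iff_of_isUnit c.isUnit

/-- A nonzero subspace has, modulo the field size, one point. -/
theorem card_pts {n : ℕ} (W : Submodule F (Fin n → F)) (hW : W ≠ ⊥) :
    (Nat.card (Pts W) : ZMod (Nat.card F)) = 1 := by
  classical
  have hinj : Function.Injective (Projectivization.map W.subtype W.injective_subtype) :=
    Projectivization.map_injective _ W.injective_subtype
  have hmem : ∀ x, (Projectivization.map W.subtype W.injective_subtype x).rep ∈ W := by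
    intro x
    induction x using Projectivization.ind with
    | h v hv => rw [Projectivization.map_mk, mem_iff]; exact v.2
  have hcard : Nat.card (Pts W) = Nat.card (Projectivization F W) := by
    refine (Nat.card_eq_of_bijective (fun x => (⟨_, hmem x⟩ : Pts W))
      ⟨fun x y h => hinj (congrArg Subtype.val h), fun ⟨x, hx⟩ => ?_⟩).symm
    exact ⟨Projectivization.mk F ⟨x.rep, hx⟩ (fun h => x.rep_nonzero (congrArg Subtype.val h)),
      Subtype.ext ((Projectivization.map_mk W.subtype W.injective_subtype _ _).trans x.mk_rep)⟩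
  obtain ⟨d, hd⟩ : ∃ d, finrank F W = d + 1 := ⟨finrank F W - 1, by
    have := Submodule.one_le_finrank_iff.2 hW
    omega⟩
  rw [hcard, Projectivization.card_of_finrank F W hd, Finset.sum_range_succ']
  simp

/-- Two linear forms on a space of dimension above two have a common zero. -/
theorem exists_common_zero {n : ℕ} (hn : 3 ≤ n) (f g : (Fin n → F) →ₗ[F] F) : f.ker ⊓ g.ker ≠ ⊥ := by
  intro h
  rw [← LinearMap.ker_prod, LinearMap.ker_eq_bot] at h
  have := LinearMap.finrank_le_finrank_of_injective h
  simp at this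
  omega

end Cfsg.Agent.S2531

namespace Cfsg.Agent.S2531

/-- Let `F` be a finite field and `n ≥ 3`. No set of permutations of the points of the projective space of `Fⁿ`, each induced by an invertible semilinear transformation of `Fⁿ` (so a subset of the full projective semilinear group), is sharply 2-transitive on the points: it is impossible that for all pairs of distinct points `(a, b)` and `(c, d)` exactly one member of the set sends `a` to `c` and `b` to `d`. -/
theorem result {F : Type*} [Field F] [Finite F]
    (n : ℕ) (hn : 3 ≤ n) (S : Set (Equiv.Perm (Projectivization F (Fin n → F))))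
    (hS : ∀ s ∈ S, ∃ (σ : F ≃+* F) (f : (Fin n → F) →ₛₗ[(σ : F →+* F)] (Fin n → F)) (hf : Function.Injective f),
      ∀ x, s x = Projectivization.map f hf x) :
    ¬ (∀ a b c d : Projectivization F (Fin n → F), a ≠ b → c ≠ d →
        ∃! s, s ∈ S ∧ s a = c ∧ s b = d) := by
  intro H
  classical
  haveI : NeZero n := ⟨by omega⟩
  obtain ⟨e, he⟩ : ∃ e : Fin n → F, e = Pi.single 0 1 := ⟨_, rfl⟩
  have he0 : e ≠ 0 := by rw [he]; simp
  let P := Projectivization F (Fin n → F)
  let a : P := Projectivization.mk F e he0
  let π : (Fin n → F) →ₗ[F] F := LinearMap.proj 0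
  have hea : a.rep ∉ π.ker := by
    rw [mem_iff, LinearMap.mem_ker]
    simp [π, he]
  let T := {s : Equiv.Perm P // s ∈ S ∧ s a = a}
  haveI : Fintype T := Fintype.ofFinite T
  let C := {y : P // y ≠ a ∧ y.rep ∉ π.ker}
  let B := Pts π.ker
  haveI : Nontrivial F := inferInstance
  -- double count
  have hE : Nat.card (Σ t : T, {y : C // (t.1 y.1).rep ∈ π.ker}) = Nat.card B * Nat.card C := by
    rw [← Nat.card_prod]
    refine Nat.card_eq_of_bijective (fun z => ((⟨z.1.1 z.2.1.1, z.2.2⟩ : B), z.2.1)) ⟨?_, ?_⟩
    · rintro ⟨t, y, hy⟩ ⟨t', y', hy'⟩ h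
      obtain ⟨h1, h2⟩ := Prod.mk.injEq .. ▸ h
      subst h2
      have h3 : t.1 y.1 = t'.1 y.1 := congrArg Subtype.val h1
      obtain ⟨s, -, hs⟩ := H a y.1 a (t.1 y.1) (Ne.symm y.2.1) (fun e' => hea (e' ▸ hy))
      obtain rfl : t = t' := Subtype.ext ((hs _ ⟨t.2.1, t.2.2, rfl⟩).trans (hs _ ⟨t'.2.1, t'.2.2, h3.symm⟩).symm)
      rfl
    · rintro ⟨b, y⟩
      obtain ⟨s, ⟨hs1, hs2, hs3⟩, -⟩ := H a y.1 a b.1 (Ne.symm y.2.1) (fun e' => hea (e' ▸ b.2))
      exact ⟨⟨⟨s, hs1, hs2⟩, y, hs3 ▸ b.2⟩, Prod.ext (Subtype.ext hs3) rfl⟩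
  rw [Nat.card_sigma] at hE
  have hE' := congrArg (fun x : ℕ => (x : ZMod (Nat.card F))) hE
  simp only [Nat.cast_sum, Nat.cast_mul] at hE'
  -- each element gives a multiple of the field size
  have ht : ∀ t : T, (Nat.card {y : C // (t.1 y.1).rep ∈ π.ker} : ZMod (Nat.card F)) = 0 := by
    intro t
    obtain ⟨σ, f, hf, hfs⟩ := hS t.1 t.2.1
    let g : (Fin n → F) →ₗ[F] F :=
      { toFun := fun v => σ.symm (f v 0)
        map_add' := fun u v => by simp
        map_smul' := fun c v => by simp }
    have hg : ∀ y : P, (t.1 y).rep ∈ π.ker ↔ y.rep ∈ g.ker := by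
      intro y
      induction y using Projectivization.ind with
      | h v hv =>
        rw [hfs, Projectivization.map_mk, mem_iff, mem_iff, LinearMap.mem_ker, LinearMap.mem_ker]
        simp [π, g]
    have hgne : g.ker ≠ ⊥ := fun hb => exists_common_zero hn π g (by rw [hb, inf_bot_eq])
    have hsplit : Nat.card {y : C // (t.1 y.1).rep ∈ π.ker} + Nat.card (Pts (π.ker ⊓ g.ker)) =
        Nat.card (Pts g.ker) := by
      haveI := Fintype.ofFinite P
      simp only [Nat.card_eq_fintype_card]
      rw [← Fintype.card_congr ((Equiv.subtypeEquivRight fun y : C => hg y.1).trans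
          (Equiv.subtypeSubtypeEquivSubtypeInter (fun y : P => y ≠ a ∧ y.rep ∉ π.ker) fun y => y.rep ∈ g.ker)).symm]
      simp only [Fintype.card_subtype]
      rw [← Finset.card_filter_add_card_filter_not (s := Finset.univ.filter fun y : P => y.rep ∈ g.ker)
        (fun y : P => y.rep ∉ π.ker)]
      simp only [Finset.filter_filter]
      congr 2
      · ext y
        simp only [Finset.mem_filter, Finset.mem_univ, true_and]
        refine ⟨fun h => ⟨h.2, h.1.2⟩, fun h => ⟨⟨fun ha => ?_, h.2⟩, h.1⟩⟩
        subst ha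
        have := (hg a).2 h.1
        rw [t.2.2] at this
        exact hea this
      · ext y
        simp [and_comm]
    have h1 := congrArg (fun x : ℕ => (x : ZMod (Nat.card F))) hsplit
    simp only [Nat.cast_add, card_pts _ (exists_common_zero hn π g), card_pts _ hgne] at h1
    exact add_eq_right.1 h1
  have hbot : π.ker ≠ ⊥ := fun hb => exists_common_zero hn π 0 (by rw [hb, bot_inf_eq])
  rw [Finset.sum_eq_zero fun t _ => ht t, card_pts _ hbot, one_mul] at hE'
  have hC : Nat.card C + 1 + Nat.card B = Nat.card (Pts (⊤ : Submodule F (Fin n → F))) := by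
    haveI := Fintype.ofFinite P
    simp only [Nat.card_eq_fintype_card, Fintype.card_subtype, C, B]
    have h1 : (Finset.univ.filter fun y : P => y.rep ∉ π.ker) =
        insert a (Finset.univ.filter fun y : P => y ≠ a ∧ y.rep ∉ π.ker) := by
      ext y
      simp only [Finset.mem_filter, Finset.mem_univ, true_and, Finset.mem_insert]
      by_cases hy : y = a
      · subst hy; simp [hea]
      · simp [hy]
    have h2 : (Finset.univ.filter fun y : P => y.rep ∈ (⊤ : Submodule F (Fin n → F))) = Finset.univ :=
      Finset.filter_true_of_mem fun y _ => Submodule.mem_top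
    rw [h2, ← Finset.card_filter_add_card_filter_not (s := Finset.univ) (fun y : P => y.rep ∈ π.ker), h1,
      Finset.card_insert_of_notMem (by simp), add_comm]
  have h2 := congrArg (fun x : ℕ => (x : ZMod (Nat.card F))) hC
  simp only [Nat.cast_add, Nat.cast_one, card_pts _ hbot, card_pts (⊤ : Submodule F (Fin n → F)) (ne_bot_of_le_ne_bot hbot le_top),
    ← hE', zero_add] at h2
  haveI : Fact (1 < Nat.card F) := ⟨Finite.one_lt_card⟩
  have hB : (Nat.card B : ZMod (Nat.card F)) = 1 := card_pts _ hbot
  exact one_ne_zero (by linear_combination h2 - hB : (1 : ZMod (Nat.card F)) = 0)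

end Cfsg.Agent.S2531
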