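import Cfsg.Statements.S2536
import Cfsg.Agent.Lib.Small.HallSym.Props
-- import your own Cfsg.Agent.* helpers here

set_option autoImplicit false
open Cfsg

namespace Cfsg.Agent.S2536

/-- Let `π` be a set of primes and `n` a natural number such that at least two primes of `π` divide `n!` but not every prime dividing `n!` lies in `π`. Then the symmetric group of degree `n` has a Hall `π`-subgroup if and only if either `n` is prime and the primes of `π` dividing `n!` are exactly the primes smaller than `n` (a point stabilizer is then such a subgroup), or `n ∈ {7, 8}` and the primes of `π` dividing `n!` are exactly 2 and 3. -/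
theorem result (n : ℕ) (π : Set ℕ)
    (h2 : ∃ r s : ℕ, r.Prime ∧ s.Prime ∧ r ≠ s ∧ r ∈ π ∧ s ∈ π ∧ r ≤ n ∧ s ≤ n)
    (hns : ∃ r : ℕ, r.Prime ∧ r ≤ n ∧ r ∉ π) :
    Cfsg.IsEPiGroup π (Equiv.Perm (Fin n)) ↔
      ((n.Prime ∧ ∀ r : ℕ, r.Prime → r ≤ n → (r ∈ π ↔ r < n)) ∨
       ((n = 7 ∨ n = 8) ∧ ∀ r : ℕ, r.Prime → r ≤ n → (r ∈ π ↔ (r = 2 ∨ r = 3)))) := by
  constructor
  · rintro ⟨H, hH⟩
    obtain ⟨-, -, B, hB, -⟩ := Cfsg.Agent.Small.HallSym.sym_hall hH h2 hns
    rcases hB with ⟨hn, hπ, -⟩ | ⟨hn, hπ, -⟩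
    · exact Or.inl ⟨hn, hπ⟩
    · exact Or.inr ⟨hn, hπ⟩
  · rintro (⟨hn, hπ⟩ | ⟨hn, hπ⟩)
    · have h5 : 5 ≤ n := by
        obtain ⟨r, s, hr, hs, hrs, hrπ, hsπ, hrn, hsn⟩ := h2
        have h1 := (hπ r hr hrn).1 hrπ
        have h2' := (hπ s hs hsn).1 hsπ
        have := hr.two_le
        have := hs.two_le
        have : n ≠ 4 := fun h => absurd (h ▸ hn) (by norm_num)
        omega
      obtain ⟨B, -, hB⟩ := Finset.exists_subset_card_eq (s := (Finset.univ : Finset (Fin n)))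
        (n := n - 1) (by simp)
      exact ⟨_, Cfsg.Agent.Small.HallSym.shape_hall h5 (B := B) (Or.inl ⟨hn, hπ, hB⟩)⟩
    · obtain ⟨B, -, hB⟩ := Finset.exists_subset_card_eq (s := (Finset.univ : Finset (Fin n)))
        (n := 4) (by simp; omega)
      exact ⟨_, Cfsg.Agent.Small.HallSym.shape_hall (by omega) (B := B) (Or.inr ⟨hn, hπ, hB⟩)⟩

end Cfsg.Agent.S2536
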