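import Cfsg.Statements.S2537
import Cfsg.Agent.Lib.Classical.Dickson.Solvable
import Cfsg.Agent.Lib.Classical.Dickson.Subgroups
import Cfsg.Agent.Lib.Classical.PSL2Poly
import Cfsg.Agent.Lib.Solv.Hall

set_option autoImplicit false
open Cfsg

namespace Cfsg.Agent.S2537

theorem part_eq {Q q m a b : ℕ} (hQ : Q ≠ 0) (hm : ¬ 2 ∣ m ∧ ¬ 3 ∣ m) (hq : ¬ 2 ∣ q ∧ ¬ 3 ∣ q)
    (h : q * Q = 2 ^ a * 3 ^ b * m) : Q.factorization 2 = a ∧ Q.factorization 3 = b := by
  have hq0 : q ≠ 0 := fun e => hq.1 (e ▸ dvd_zero 2)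
  have hm0 : m ≠ 0 := fun e => hm.1 (e ▸ dvd_zero 2)
  constructor
  · have h' := congrArg (fun n : ℕ => n.factorization 2) h
    simpa [Nat.factorization_mul, hq0, hQ, hm0, Nat.factorization_pow, Nat.prime_two.factorization,
      Nat.prime_three.factorization, Nat.factorization_eq_zero_of_not_dvd hq.1,
      Nat.factorization_eq_zero_of_not_dvd hm.1] using h'
  · have h' := congrArg (fun n : ℕ => n.factorization 3) h
    simpa [Nat.factorization_mul, hq0, hQ, hm0, Nat.factorization_pow, Nat.prime_two.factorization,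
      Nat.prime_three.factorization, Nat.factorization_eq_zero_of_not_dvd hq.2,
      Nat.factorization_eq_zero_of_not_dvd hm.2] using h'

theorem part_unique {v w a b : ℕ} (h : 2 ^ v * 3 ^ w = 2 ^ a * 3 ^ b) : v = a ∧ w = b := by
  constructor
  · have h' := congrArg (fun n : ℕ => n.factorization 2) h
    simpa [Nat.factorization_mul, Nat.factorization_pow, Nat.prime_two.factorization,
      Nat.prime_three.factorization] using h'
  · have h' := congrArg (fun n : ℕ => n.factorization 3) h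
    simpa [Nat.factorization_mul, Nat.factorization_pow, Nat.prime_two.factorization,
      Nat.prime_three.factorization] using h'

open Cfsg.Agent.Classical.Dickson in
theorem hall_iff {F : Type*} [Field F] [Fintype F] {p : ℕ} [Fact p.Prime] [CharP F p] (hp : 5 ≤ p) (q : ℕ)
    (hq : Fintype.card F = q) :
    (∃ H : Subgroup (Matrix.ProjectiveSpecialLinearGroup (Fin 2) F), Cfsg.IsPiHall ({2, 3} : Set ℕ) H) ↔
      (3 ∣ q - 1 ∧ q % 4 = 1) ∨ (3 ∣ q + 1 ∧ q % 4 = 3) ∨
        2 ^ (q ^ 2 - 1).factorization 2 * 3 ^ (q ^ 2 - 1).factorization 3 = 24 ∨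
        2 ^ (q ^ 2 - 1).factorization 2 * 3 ^ (q ^ 2 - 1).factorization 3 = 48 := by
  classical
  obtain ⟨n, hpp, hqp⟩ := FiniteField.card F p
  rw [hq] at hqp
  have hq2 : ¬ 2 ∣ q := fun h => by
    have := (Nat.prime_dvd_prime_iff_eq Nat.prime_two hpp).1 (Nat.prime_two.dvd_of_dvd_pow (hqp ▸ h))
    omega
  have hq3 : ¬ 3 ∣ q := fun h => by
    have := (Nat.prime_dvd_prime_iff_eq Nat.prime_three hpp).1 (Nat.prime_three.dvd_of_dvd_pow (hqp ▸ h))
    omega
  have hq5 : 5 ≤ q := hqp ▸ hp.trans (Nat.le_self_pow n.ne_zero p)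
  have h2F : (2 : F) ≠ 0 := Cfsg.Agent.Small.SL2C.not_two_dvd_iff.1 (hq ▸ hq2)
  have hgcd : Nat.gcd 2 (q - 1) = 2 := Nat.gcd_eq_left (by omega)
  have hsq : q ^ 2 - 1 = (q + 1) * (q - 1) := Nat.sq_sub_sq q 1
  have hQ0 : q ^ 2 - 1 ≠ 0 := by
    rw [hsq]; exact Nat.mul_ne_zero (by omega) (by omega)
  have hP : 2 * Nat.card (Matrix.ProjectiveSpecialLinearGroup (Fin 2) F) = q * (q ^ 2 - 1) := by
    have h := Cfsg.Agent.Lead.GLBasic.card_PSL (F := F) 2
    rw [hq, hgcd, Cfsg.Agent.Small.SL2C.card_SL2, hq] at h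
    exact h
  constructor
  · rintro ⟨H, hH, hidx⟩
    have hi2 : ¬ 2 ∣ H.index := hidx 2 Nat.prime_two (by simp)
    have hi3 : ¬ 3 ∣ H.index := hidx 3 Nat.prime_three (by simp)
    have hN : 2 * Nat.card H * H.index = q * (q ^ 2 - 1) := by rw [mul_assoc, Subgroup.card_mul_index, hP]
    have hmod : q % 6 = 1 ∨ q % 6 = 5 := by omega
    have h8 : 8 ∣ q ^ 2 - 1 := by
      rw [hsq]
      obtain ⟨k, rfl⟩ : ∃ k, q = 2 * k + 1 := ⟨q / 2, by omega⟩
      rw [show (2 * k + 1 + 1) * (2 * k + 1 - 1) = 4 * (k * (k + 1)) by rw [Nat.add_sub_cancel]; ring]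
      exact mul_dvd_mul (dvd_refl 4) (Nat.even_mul_succ_self k).two_dvd
    have h3Q : 3 ∣ q ^ 2 - 1 := by
      rw [hsq]
      rcases hmod with h | h
      · exact Dvd.dvd.mul_left (by omega) _
      · exact Dvd.dvd.mul_right (by omega) _
    have h4 : 4 ∣ Nat.card H := by
      have : 8 ∣ 2 * Nat.card H * H.index := hN ▸ h8.mul_left q
      have := (Nat.Coprime.dvd_of_dvd_mul_right ((Nat.Coprime.pow_left 3 ((Nat.prime_two.coprime_iff_not_dvd).2 hi2)) :
        Nat.Coprime 8 H.index) this)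
      omega
    have h3 : 3 ∣ Nat.card H := by
      have : 3 ∣ 2 * Nat.card H * H.index := hN ▸ h3Q.mul_left q
      have := Nat.Coprime.dvd_of_dvd_mul_right ((Nat.prime_three.coprime_iff_not_dvd).2 hi3) this
      omega
    have hpart : ∀ a b : ℕ, 2 * Nat.card H = 2 ^ a * 3 ^ b →
        2 ^ (q ^ 2 - 1).factorization 2 * 3 ^ (q ^ 2 - 1).factorization 3 = 2 ^ a * 3 ^ b := by
      intro a b h
      rw [h] at hN
      obtain ⟨e2, e3⟩ := part_eq hQ0 ⟨hi2, hi3⟩ ⟨hq2, hq3⟩ hN.symm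
      rw [e2, e3]
    rcases cases_on H with ⟨k, hk, hc⟩ | ⟨g, hg, -⟩ | ⟨-, ⟨e⟩⟩ | ⟨-, ⟨e⟩⟩ | ⟨-, ⟨e⟩⟩ | ⟨K, m, hm, hKm, hK⟩
    · rcases card_dvd_torus hk hc with h | h <;> rw [hq, hgcd, Nat.mul_div_cancel' (by omega)] at h
      · exact Or.inl ⟨h3.trans h, by have := h4.trans h; omega⟩
      · exact Or.inr (Or.inl ⟨h3.trans h, by have := h4.trans h; omega⟩)
    · have h := card_dvd_borel hg
      rw [hq, hgcd] at h
      have hco : (Nat.card H * 2).Coprime q := Nat.Coprime.mul_left (Nat.coprime_of_dvd fun r hr hrH hrq => by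
        rcases hH r hr hrH with rfl | hr3
        · exact hq2 hrq
        · obtain rfl : r = 3 := hr3
          exact hq3 hrq) ((Nat.prime_two.coprime_iff_not_dvd).2 hq2)
      have h' := Nat.Coprime.dvd_of_dvd_mul_right hco h
      exact Or.inl ⟨(h3.mul_right 2).trans h', by have := (h4.mul_right 2).trans h'; omega⟩
    · refine Or.inr (Or.inr (Or.inl ?_))
      have hc : Nat.card H = 12 := by
        rw [Nat.card_congr e.toEquiv, nat_card_alternatingGroup, Nat.card_fin]; rfl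
      exact hpart 3 1 (by rw [hc]; norm_num)
    · refine Or.inr (Or.inr (Or.inr ?_))
      have hc : Nat.card H = 24 := by
        rw [Nat.card_congr e.toEquiv, Nat.card_perm, Nat.card_fin]; rfl
      exact hpart 4 1 (by rw [hc]; norm_num)
    · exfalso
      have hc : Nat.card H = 60 := by
        rw [Nat.card_congr e.toEquiv, nat_card_alternatingGroup, Nat.card_fin]; rfl
      have := hH 5 (by norm_num) (by rw [hc]; norm_num)
      simp at this
    · exfalso
      have hpK : p ∣ Nat.card K := hpp.dvd_of_dvd_pow (show p ∣ Nat.card K ^ m by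
        rw [hKm, hq, hqp]; exact dvd_pow_self p n.ne_zero)
      have hd : p ∣ Nat.card H := by
        rcases hK with ⟨-, h⟩ | ⟨-, -, h⟩
        · exact h ▸ hpK.mul_right _
        · exact (hpp.dvd_mul.1 (h ▸ hpK.mul_right _)).resolve_left fun hh => by
            have := Nat.le_of_dvd two_pos hh; omega
      rcases hH p hpp hd with h | h
      · omega
      · have : p = 3 := h
        omega
  · have mk : ∀ (D : Subgroup (Matrix.ProjectiveSpecialLinearGroup (Fin 2) F)) (c r : ℕ), Group.IsSolvable D →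
        Nat.card D = c → c * r = Nat.card (Matrix.ProjectiveSpecialLinearGroup (Fin 2) F) → ¬ 2 ∣ r → ¬ 3 ∣ r →
        ∃ H : Subgroup (Matrix.ProjectiveSpecialLinearGroup (Fin 2) F), Cfsg.IsPiHall ({2, 3} : Set ℕ) H := by
      intro D c r hD hDc hr h2 h3
      have hc0 : c ≠ 0 := hDc ▸ Nat.card_pos.ne'
      obtain ⟨m, n', hmn, hco, hm, hn⟩ := Cfsg.Agent.Solv.exists_pi_split ({2, 3} : Set ℕ) c hc0
      obtain ⟨K, hK⟩ := Cfsg.Agent.Solv.hall_exists hD (hDc.trans hmn) hco
      refine ⟨K.map D.subtype, fun s hs hsd => ?_, fun s hs hsπ hsd => ?_⟩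
      · rw [Subgroup.card_map_of_injective D.subtype_injective, hK] at hsd
        exact hm s hs hsd
      · have h := Subgroup.card_mul_index (K.map D.subtype)
        rw [Subgroup.card_map_of_injective D.subtype_injective, hK, ← hr, hmn, mul_assoc] at h
        have hm0 : m ≠ 0 := fun e => hc0 (by rw [hmn, e, zero_mul])
        rw [Nat.eq_of_mul_eq_mul_left (Nat.pos_of_ne_zero hm0) h] at hsd
        rcases hs.dvd_mul.1 hsd with h' | h'
        · exact hn s hs h' hsπ
        · rcases hsπ with rfl | h3'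
          · exact h2 h'
          · obtain rfl : s = 3 := h3'
            exact h3 h'
    have hd2 : ∀ k, Group.IsSolvable (DihedralGroup k) := dihedral_solvable
    rintro (⟨h3, h4⟩ | ⟨h3, h4⟩ | h | h)
    · obtain ⟨D, hDc, ⟨e⟩⟩ := exists_dihedral_minus (F := F) (by omega) (by omega)
      rw [hq, hgcd, Nat.mul_div_cancel' (by omega)] at hDc
      haveI := hd2 ((Fintype.card F - 1) / Nat.gcd 2 (Fintype.card F - 1))
      refine mk D (q - 1) (q * ((q + 1) / 2)) (Group.isSolvable_of_isSolvable_injective (f := e.toMonoidHom) e.injective)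
        hDc ?_ ?_ ?_
      · have e2 : 2 * ((q + 1) / 2) = q + 1 := Nat.mul_div_cancel' (by omega)
        refine Nat.eq_of_mul_eq_mul_left two_pos ?_
        rw [hP, hsq]; linear_combination (q * (q - 1)) * e2
      · intro hd; rcases Nat.prime_two.dvd_mul.1 hd with hd | hd <;> omega
      · intro hd; rcases Nat.prime_three.dvd_mul.1 hd with hd | hd <;> omega
    · obtain ⟨D, hDc, ⟨e⟩⟩ := exists_dihedral_plus (F := F) (by omega)
      rw [hq, hgcd, Nat.mul_div_cancel' (by omega)] at hDc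
      haveI := hd2 ((Fintype.card F + 1) / Nat.gcd 2 (Fintype.card F - 1))
      refine mk D (q + 1) (q * ((q - 1) / 2)) (Group.isSolvable_of_isSolvable_injective (f := e.toMonoidHom) e.injective)
        hDc ?_ ?_ ?_
      · have e2 : 2 * ((q - 1) / 2) = q - 1 := Nat.mul_div_cancel' (by omega)
        refine Nat.eq_of_mul_eq_mul_left two_pos ?_
        rw [hP, hsq]; linear_combination (q * (q + 1)) * e2
      · intro hd; rcases Nat.prime_two.dvd_mul.1 hd with hd | hd <;> omega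
      · intro hd; rcases Nat.prime_three.dvd_mul.1 hd with hd | hd <;> omega
    all_goals
      obtain ⟨r, hr, hr2, hr3⟩ : ∃ r, q ^ 2 - 1 = 2 ^ (q ^ 2 - 1).factorization 2 * 3 ^ (q ^ 2 - 1).factorization 3 * r ∧
          ¬ 2 ∣ r ∧ ¬ 3 ∣ r := by
        have e2 := Nat.ordProj_mul_ordCompl_eq_self (q ^ 2 - 1) 2
        have n2 := Nat.not_dvd_ordCompl Nat.prime_two hQ0
        obtain ⟨o, ho⟩ : ∃ o, o = (q ^ 2 - 1) / 2 ^ (q ^ 2 - 1).factorization 2 := ⟨_, rfl⟩
        rw [← ho] at e2 n2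
        have ho0 : o ≠ 0 := fun h => n2 (h ▸ dvd_zero 2)
        have e3 := Nat.ordProj_mul_ordCompl_eq_self o 3
        have n3 := Nat.not_dvd_ordCompl Nat.prime_three ho0
        have hfo : o.factorization 3 = (q ^ 2 - 1).factorization 3 := by
          conv_rhs => rw [← e2]
          simp [Nat.factorization_mul, ho0, Nat.factorization_pow, Nat.prime_two.factorization]
        refine ⟨o / 3 ^ o.factorization 3, ?_, fun hd => n2 (e3 ▸ hd.mul_left _), n3⟩
        rw [← hfo, mul_assoc, e3, e2]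
      rw [h] at hr
    · obtain ⟨D, ⟨e⟩⟩ := Cfsg.Agent.Classical.SL2Four.exists_alt_four_odd (F := F) h2F
      have hDc : Nat.card D = 12 := by rw [Nat.card_congr e.toEquiv, nat_card_alternatingGroup, Nat.card_fin]; rfl
      refine mk D 12 (q * r) (solvable_of_two_three (a := 2) (b := 1) (by rw [hDc]; norm_num)) hDc ?_ ?_ ?_
      · refine Nat.eq_of_mul_eq_mul_left two_pos ?_
        rw [hP, hr]; ring
      · intro hd; rcases Nat.prime_two.dvd_mul.1 hd with hd | hd; exacts [hq2 hd, hr2 hd]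
      · intro hd; rcases Nat.prime_three.dvd_mul.1 hd with hd | hd; exacts [hq3 hd, hr3 hd]
    · obtain ⟨D, h' | ⟨hDc, -, -⟩⟩ := Cfsg.Agent.Classical.SL2Four.exists_normalizer_odd (F := F) h2F
      · exfalso
        obtain ⟨-, -, h8⟩ := h'
        rw [hq] at h8
        have h16 : 16 ∣ q ^ 2 - 1 := ⟨3 * r, by rw [hr]; ring⟩
        have : (q ^ 2) % 16 = (q % 16) ^ 2 % 16 := Nat.pow_mod q 2 16
        have h16' : q % 16 = 3 ∨ q % 16 = 5 ∨ q % 16 = 11 ∨ q % 16 = 13 := by omega
        have h25 : 25 ≤ q ^ 2 := Nat.pow_le_pow_left hq5 2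
        rcases h16' with h' | h' | h' | h' <;> rw [h'] at this <;> norm_num at this <;> omega
      · refine mk D 24 (q * r) (solvable_of_two_three (a := 3) (b := 1) (by rw [hDc]; norm_num)) hDc ?_ ?_ ?_
        · refine Nat.eq_of_mul_eq_mul_left two_pos ?_
          rw [hP, hr]; ring
        · intro hd; rcases Nat.prime_two.dvd_mul.1 hd with hd | hd; exacts [hq2 hd, hr2 hd]
        · intro hd; rcases Nat.prime_three.dvd_mul.1 hd with hd | hd; exacts [hq3 hd, hr3 hd]

theorem result {F : Type*} [Field F] [Fintype F] {p : ℕ} [Fact p.Prime] [CharP F p]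
    (hp : 5 ≤ p) (q : ℕ) (hq : Fintype.card F = q) :
    (∃ H : Subgroup (Matrix.ProjectiveSpecialLinearGroup (Fin 2) F), Cfsg.IsPiHall ({2, 3} : Set ℕ) H) ↔
      (3 ∣ q - 1 ∧ q % 4 = 1) ∨ (3 ∣ q + 1 ∧ q % 4 = 3) ∨
        2 ^ (q ^ 2 - 1).factorization 2 * 3 ^ (q ^ 2 - 1).factorization 3 = 24 ∨
        2 ^ (q ^ 2 - 1).factorization 2 * 3 ^ (q ^ 2 - 1).factorization 3 = 48 := by
  exact hall_iff hp q hq

end Cfsg.Agent.S2537
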