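import Cfsg.Statements.S2541
import Cfsg.Agent.Lib.Small.AltOrders
-- import your own Cfsg.Agent.* helpers here

set_option autoImplicit false
open Cfsg

namespace Cfsg.Agent.S2541

/-- Let F be a field with 9 elements. The symmetric group S_6 is not isomorphic to PGL_2(F) (although both have index-2 subgroups isomorphic to A_6). -/
theorem result {F : Type*} [Field F] [Fintype F] (hF : Fintype.card F = 9) : ¬ Nonempty (Equiv.Perm (Fin 6) ≃* Matrix.ProjGenLinGroup (Fin 2) F) := by
  classical
  rintro ⟨e⟩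
  obtain ⟨a, ha⟩ := IsCyclic.exists_generator (α := Fˣ)
  have hoa : orderOf a = 8 := by
    rw [orderOf_eq_card_of_forall_mem_zpowers ha, Nat.card_eq_fintype_card, Fintype.card_units, hF]
  obtain ⟨g, hg⟩ : ∃ g : GL (Fin 2) F, (g : Matrix (Fin 2) (Fin 2) F) = Matrix.diagonal ![(a : F), 1] :=
    ⟨Matrix.GeneralLinearGroup.mkOfDetNeZero (Matrix.diagonal ![(a : F), 1])
      (by simp [Matrix.det_diagonal]), rfl⟩
  obtain ⟨x, hx⟩ : ∃ x : Matrix.ProjGenLinGroup (Fin 2) F,
      x = (QuotientGroup.mk g : GL (Fin 2) F ⧸ Subgroup.center (GL (Fin 2) F)) := ⟨_, rfl⟩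
  have hox : orderOf x = 8 := by
    rw [orderOf_eq_iff (by norm_num)]
    have hpow : ∀ k : ℕ, ((g ^ k : GL (Fin 2) F) : Matrix (Fin 2) (Fin 2) F) =
        Matrix.diagonal ![(a : F) ^ k, 1] := fun k => by
      rw [Units.val_pow_eq_pow_val, hg, Matrix.diagonal_pow]
      congr 1
      funext i; fin_cases i <;> simp
    refine ⟨?_, fun m hm hm0 h => ?_⟩
    · have : g ^ 8 = 1 := Units.ext (by
        rw [hpow, ← Units.val_pow_eq_pow_val, ← hoa, pow_orderOf_eq_one, Units.val_one, Units.val_one,
          ← Matrix.diagonal_one]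
        congr 1
        funext i; fin_cases i <;> simp)
      rw [hx]
      exact (QuotientGroup.mk_pow _ _ _).symm.trans (by rw [this, QuotientGroup.mk_one]; rfl)
    · rw [hx] at h
      have h' : g ^ m ∈ Subgroup.center (GL (Fin 2) F) :=
        (QuotientGroup.eq_one_iff _).mp ((QuotientGroup.mk_pow _ _ _).trans h)
      have h1 := Subgroup.mem_center_iff.mp h'
        (Matrix.GeneralLinearGroup.mkOfDetNeZero !![1, 1; 0, 1] (by simp [Matrix.det_fin_two]))
      have h2 := congrFun (congrFun (congrArg (fun y : GL (Fin 2) F => (y : Matrix (Fin 2) (Fin 2) F)) h1) 0) 1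
      simp only [Units.val_mul, hpow] at h2
      simp [Matrix.mul_apply, Fin.sum_univ_two, Matrix.GeneralLinearGroup.mkOfDetNeZero] at h2
      have : a ^ m = 1 := Units.ext (by rw [Units.val_pow_eq_pow_val, Units.val_one]; exact h2.symm)
      have := Nat.le_of_dvd (by omega) (orderOf_dvd_of_pow_eq_one this)
      omega
  exact Small.AltOrders.no_order_eight (e.symm x) (by rw [MulEquiv.orderOf_eq, hox])

end Cfsg.Agent.S2541
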