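import Cfsg.Statements.S2548
import Cfsg.Agent.Lib.Small.Polar.OrthogonalModels
import Cfsg.Agent.Lib.Small.Polar.SmallCases
-- import your own Cfsg.Agent.* helpers here

set_option autoImplicit false
open Cfsg

namespace Cfsg.Agent.S2548

/-- Let F be a finite field of characteristic p and consider the group PΩ⁺_{2m}(F) of the hyperbolic quadratic form Σ x_i y_i with m ≥ 1, where Ω denotes the commutator subgroup of the full isometry group. This group has an irreducible complex character χ whose degree equals the order of a Sylow p-subgroup (equal to q^(m(m−1)) when #F = q, except in the degenerate case m = 2, q = 2, where this commutator subgroup has order 18 and its Sylow 2-subgroups have order 2) and whose restriction to any Sylow p-subgroup P is the regular character of P: χ vanishes on the non-identity elements of P. (This is the Steinberg character.) -/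
theorem result {F : Type*} [Field F] [Fintype F] (p : ℕ) [Fact p.Prime] [CharP F p] (m : ℕ) (hm : 1 ≤ m) : ∃ χ : Cfsg.POmega F (Cfsg.quadFormPlus m F) → ℂ, Cfsg.IsIrrCharacter (Cfsg.POmega F (Cfsg.quadFormPlus m F)) χ ∧ ∀ P : Sylow p (Cfsg.POmega F (Cfsg.quadFormPlus m F)), χ 1 = Nat.card P ∧ ∀ x : Cfsg.POmega F (Cfsg.quadFormPlus m F), x ∈ P → x ≠ 1 → χ x = 0 := by
  haveI : Finite F := Finite.of_fintype F
  by_cases h : Nat.card F ≠ 2 ∨ m ≠ 2
  · exact Cfsg.Agent.Small.Polar.exists_plus_steinberg p m hm h
  push Not at h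
  obtain ⟨hF, rfl⟩ := h
  rw [Nat.card_eq_fintype_card] at hF
  obtain ⟨n, hp, hn⟩ := FiniteField.card F p
  obtain rfl : p = 2 := (Nat.prime_dvd_prime_iff_eq hp Nat.prime_two).1 ⟨p ^ ((n : ℕ) - 1), by
    rw [← hF, hn, ← pow_succ', Nat.sub_add_cancel n.pos]⟩
  exact Cfsg.Agent.Small.PolarSmall.plus_four_two hF

end Cfsg.Agent.S2548
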