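import Cfsg.Statements.S2551
import Cfsg.Agent.Lib.Lead.GLFourTwo
import Cfsg.Agent.Lib.Solv.ASevenLinear
import Cfsg.Agent.S0256

set_option autoImplicit false
open Cfsg

namespace Cfsg.Agent.S2551

open Solv.ASevenLinear

theorem two_trans {F : Type*} [Field F] [Fintype F] (hF : Fintype.card F = 2)
    (φ : A7 →* Matrix.GeneralLinearGroup (Fin 4) F) (hφ : Function.Injective φ) (v w v' w' : Fin 4 → F)
    (hv : v ≠ 0) (hw : w ≠ 0) (hvw : v ≠ w) (hv' : v' ≠ 0) (hw' : w' ≠ 0) (hvw' : v' ≠ w') :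
    ∃ g : A7, (φ g : Matrix (Fin 4) (Fin 4) F).mulVec v = v' ∧ (φ g : Matrix (Fin 4) (Fin 4) F).mulVec w = w' := by
  classical
  letI : DistribMulAction A7 (Fin 4 → F) :=
    { smul := fun g x => (φ g : Matrix (Fin 4) (Fin 4) F).mulVec x
      one_smul := fun x => by
        show (φ 1 : Matrix (Fin 4) (Fin 4) F).mulVec x = x
        rw [map_one, Units.val_one, Matrix.one_mulVec]
      mul_smul := fun g h x => by
        show (φ (g * h) : Matrix (Fin 4) (Fin 4) F).mulVec x = _
        rw [map_mul, Units.val_mul, ← Matrix.mulVec_mulVec]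
        rfl
      smul_zero := fun g => Matrix.mulVec_zero _
      smul_add := fun g x y => Matrix.mulVec_add _ x y }
  haveI : FaithfulSMul A7 (Fin 4 → F) := ⟨fun {g h} e => hφ (Units.ext
    (Matrix.ext_of_mulVec_single fun j => e (Pi.single j 1)))⟩
  haveI : Fact (Nat.Prime 2) := ⟨Nat.prime_two⟩
  haveI : CharP F 2 := charP_of_card_eq_prime hF
  refine two_transitive (V := Fin 4 → F) ?_ (fun x => funext fun i => CharTwo.add_self_eq_zero (x i))
    hv hw hvw hv' hw' hvw'
  rw [Nat.card_eq_fintype_card, Fintype.card_fun, Fintype.card_fin, hF]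
  rfl


/-- Let F be the field with 2 elements. GL_4(F) (≅ A_8) has a subgroup isomorphic to the alternating group A_7, and every such subgroup acts 2-transitively on the 15 non-zero vectors of F⁴: any ordered pair of distinct non-zero vectors is carried to any other by some element of the subgroup. -/
theorem result {F : Type*} [Field F] [Fintype F] (hF : Fintype.card F = 2) : (∃ H : Subgroup (Matrix.GeneralLinearGroup (Fin 4) F), Nonempty (H ≃* alternatingGroup (Fin 7))) ∧ ∀ H : Subgroup (Matrix.GeneralLinearGroup (Fin 4) F), Nonempty (H ≃* alternatingGroup (Fin 7)) → ∀ v w v' w' : Fin 4 → F, v ≠ 0 → w ≠ 0 → v ≠ w → v' ≠ 0 → w' ≠ 0 → v' ≠ w' → ∃ g ∈ H, (g : Matrix (Fin 4) (Fin 4) F).mulVec v = v' ∧ (g : Matrix (Fin 4) (Fin 4) F).mulVec w = w' := by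
  classical
  haveI : Fact (Nat.Prime 2) := ⟨Nat.prime_two⟩
  refine ⟨?_, fun H ⟨e⟩ v w v' w' hv hw hvw hv' hw' hvw' => ?_⟩
  · let r : F ≃+* ZMod 2 := (ZMod.ringEquivOfPrime F Nat.prime_two hF).symm
    let E : Matrix.GeneralLinearGroup (Fin 4) F ≃* Lead.GLFourTwo.G4 := Units.mapEquiv r.mapMatrix.toMulEquiv
    obtain ⟨E1⟩ := Lead.GLFourTwo.gl_psl (n := Fin 4)
    obtain ⟨E0⟩ := S0256.result (F := ZMod 2) (ZMod.card 2)
    let ι : A7 →* ↥(alternatingGroup (Fin 8)) :=
      ((Equiv.Perm.viaEmbeddingHom (Fin.castSuccEmb (n := 7))).comp (alternatingGroup (Fin 7)).subtype).codRestrict _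
        fun g => by
          show Equiv.Perm.sign (Equiv.Perm.viaEmbedding (g : S7) _) = 1
          rw [Equiv.Perm.viaEmbedding, Equiv.Perm.sign_extendDomain]
          exact g.2
    have hι : Function.Injective ι := fun a b h => Subtype.ext
      (Equiv.Perm.viaEmbeddingHom_injective _ (congrArg Subtype.val h))
    let φ : A7 →* Matrix.GeneralLinearGroup (Fin 4) F := (E.trans (E1.trans E0)).symm.toMonoidHom.comp ι
    have hφ : Function.Injective φ := (E.trans (E1.trans E0)).symm.injective.comp hι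
    exact ⟨φ.range, ⟨(MonoidHom.ofInjective hφ).symm⟩⟩
  · obtain ⟨g, h1, h2⟩ := two_trans hF (H.subtype.comp e.symm.toMonoidHom)
      (H.subtype_injective.comp e.symm.injective) v w v' w' hv hw hvw hv' hw' hvw'
    exact ⟨_, (e.symm g).2, h1, h2⟩

end Cfsg.Agent.S2551
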