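import Cfsg.Statements.S2556
import Cfsg.Agent.Lib.Char.SuzukiSylowAutModel

set_option autoImplicit false
open Cfsg
open scoped ComplexConjugate

namespace Cfsg.Agent.S2556

/-- Let S be a Sylow 2-subgroup of the Suzuki group Sz(q), q = 2ⁿ with n = 2m + 1 ≥ 3 (realised as 4 × 4 matrices over the field with q elements). Then the largest normal 2-subgroup of the automorphism group of S is elementary abelian of order 2^(n²), and the automorphism group of S has order 2^(n²) · n · (q − 1). -/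
theorem result {S : Type*} [Group S] [Finite S] (m : ℕ) (hm : 1 ≤ m)
    {F : Type*} [Field F] [Fintype F] (hF : Fintype.card F = 2 ^ (2 * m + 1))
    (P : Sylow 2 ↥(Cfsg.Lie.Sz F (2 ^ (m + 1)))) (hS : Nonempty (S ≃* ↥(P : Subgroup ↥(Cfsg.Lie.Sz F (2 ^ (m + 1)))))) :
    Cfsg.IsElementaryAbelian 2 (Cfsg.pCore 2 (MulAut S)) ∧ Nat.card ↥(Cfsg.pCore 2 (MulAut S)) = 2 ^ ((2 * m + 1) ^ 2) ∧
      Nat.card (MulAut S) = 2 ^ ((2 * m + 1) ^ 2) * ((2 * m + 1) * (2 ^ (2 * m + 1) - 1)) := by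
  classical
  haveI : Fact (Nat.Prime 2) := ⟨Nat.prime_two⟩
  haveI : CharP F 2 := charP_of_card_eq_prime_pow (f := 2 * m + 1) hF
  obtain ⟨e⟩ := hS
  obtain ⟨e'⟩ := Cfsg.Agent.Char.SuzukiAut.sylow_model hm hF P
  let E : S ≃* Cfsg.Agent.Char.SuzukiAut.Pt F (m + 1) := e.trans e'.symm
  let A : MulAut S ≃* MulAut (Cfsg.Agent.Char.SuzukiAut.Pt F (m + 1)) := MulAut.congr E
  haveI : Finite (MulAut S) := Finite.of_injective (fun e => e.toEquiv) MulEquiv.toEquiv_injective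
  obtain ⟨hE, hc, ho⟩ := Cfsg.Agent.Char.SuzukiAut.aut_structure (s := m + 1) (by omega : 3 ≤ 2 * m + 1) (by omega) hF
  have hmap := Cfsg.Agent.Fusion.map_pCore_equiv (p := 2) A
  refine ⟨⟨⟨⟨fun a b => ?_⟩⟩, fun a ha => ?_⟩, ?_, ?_⟩
  · have h := hE.1.is_comm.comm ⟨A a, hmap ▸ Subgroup.mem_map_of_mem _ a.2⟩ ⟨A b, hmap ▸ Subgroup.mem_map_of_mem _ b.2⟩
    refine Subtype.ext (A.injective ?_)
    rw [Subgroup.coe_mul, Subgroup.coe_mul, map_mul, map_mul]
    exact congrArg Subtype.val h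
  · exact A.injective (by rw [map_pow, map_one]; exact hE.2 _ (hmap ▸ Subgroup.mem_map_of_mem _ ha))
  · rw [← hc, ← hmap]
    exact Nat.card_congr (Subgroup.equivMapOfInjective _ _ A.injective).toEquiv
  · rw [Nat.card_congr A.toEquiv, ho]

end Cfsg.Agent.S2556
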