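import Cfsg.Statements.S2558
import Cfsg.Agent.Lib.Small.ClassNumberO.Arith
import Cfsg.Agent.Lib.Small.ClassNumberO.Lower
import Cfsg.Agent.Lib.Small.Gram.Standard

set_option autoImplicit false
open Cfsg

namespace Cfsg.Agent.S2558

/-- The number of conjugacy classes of the full orthogonal groups O⁺(2n,q) and O⁻(2n,q), q odd, 2n ≥ 4: for F a finite field of odd order q and n ≥ 2, the number k of conjugacy classes of the isometry group of the hyperbolic quadratic form Σ xᵢyᵢ on F^{2n}, and likewise of the elliptic form Σ xᵢyᵢ + (z₁² + a z₁z₂ + b z₂²) with anisotropic binary part, satisfies q^n/2 ≤ k ≤ 9.5·q^n. -/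
theorem result {F : Type*} [Field F] [Fintype F] (hodd : Odd (Fintype.card F)) (n : ℕ) (hn : 2 ≤ n) (a b : F) (hab : ∀ z₁ z₂ : F, z₁ ^ 2 + a * z₁ * z₂ + b * z₂ ^ 2 = 0 → z₁ = 0 ∧ z₂ = 0) :
    (Fintype.card F ^ n ≤ 2 * Nat.card (ConjClasses ↥(Cfsg.isometryGroup F (Cfsg.quadFormPlus n F))) ∧
      2 * Nat.card (ConjClasses ↥(Cfsg.isometryGroup F (Cfsg.quadFormPlus n F))) ≤ 19 * Fintype.card F ^ n) ∧
    (Fintype.card F ^ n ≤ 2 * Nat.card (ConjClasses ↥(Cfsg.isometryGroup F (Cfsg.quadFormMinus (n - 1) F a b))) ∧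
      2 * Nat.card (ConjClasses ↥(Cfsg.isometryGroup F (Cfsg.quadFormMinus (n - 1) F a b))) ≤ 19 * Fintype.card F ^ n) := by
  classical
  have h2 : (2 : F) ≠ 0 := Ring.two_ne_zero fun h => by
    have := FiniteField.even_card_of_char_two h
    rw [Nat.odd_iff] at hodd
    omega
  have hq : 3 ≤ Fintype.card F := by
    have h1 : 1 < Fintype.card F := Fintype.one_lt_card
    obtain ⟨k, hk⟩ := hodd
    omega
  have key : ∀ {ι : Type} [Fintype ι] [DecidableEq ι] (B : Matrix ι ι F), B.transpose = B → IsUnit B.det →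
      Fintype.card ι = 2 * n →
      Fintype.card F ^ n ≤ 2 * Nat.card (ConjClasses ↥(Cfsg.Agent.Small.Gram.Iso B)) ∧
        2 * Nat.card (ConjClasses ↥(Cfsg.Agent.Small.Gram.Iso B)) ≤ 19 * Fintype.card F ^ n := by
    intro ι _ _ B hs hu hc
    refine ⟨Cfsg.Agent.Small.ClassNumberO.le_card_classes hodd hs hu n hn hc, ?_⟩
    exact le_trans (Cfsg.Agent.Small.ClassNumberO.card_classes_le ⟨hs, hu⟩ hodd (Fintype.equivFinOfCardEq hc))
      (Cfsg.Agent.Small.ClassNumberO.oSum_even_le hq n (by omega))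
  rw [Cfsg.Agent.Small.Gram.isometry_eq h2 (Cfsg.Agent.Small.FormDisc.polar_plus n) (Cfsg.Agent.Small.Gram.plus_quad n),
    Cfsg.Agent.Small.Gram.isometry_eq h2 (Cfsg.Agent.Small.FormDisc.polar_minus (n - 1) a b)
      (Cfsg.Agent.Small.Gram.minus_quad (n - 1) a b)]
  refine ⟨key _ ?_ (Cfsg.Agent.Small.Gram.det_plus_unit n) ?_, key _ ?_
    (Cfsg.Agent.Small.Gram.det_minus_unit h2 (n - 1) hab) ?_⟩
  · rw [Cfsg.Agent.Small.FormDisc.Jplus, Matrix.fromBlocks_transpose]
    simp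
  · rw [Fintype.card_sum, Fintype.card_fin]
    omega
  · rw [Cfsg.Agent.Small.FormDisc.Jminus, Matrix.fromBlocks_transpose, Cfsg.Agent.Small.FormDisc.Jplus,
      Matrix.fromBlocks_transpose]
    congr 1
    · simp
    · ext i j
      fin_cases i <;> fin_cases j <;> rfl
  · rw [Fintype.card_sum, Fintype.card_sum, Fintype.card_fin, Fintype.card_fin]
    omega

end Cfsg.Agent.S2558
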