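import Cfsg.Statements.S2559
import Cfsg.Agent.Lib.Small.ClassNumberOTwo.Main
-- import your own Cfsg.Agent.* helpers here

set_option autoImplicit false
open Cfsg

namespace Cfsg.Agent.S2559

open Cfsg.Agent.Small.SpEven

universe u

variable {F : Type u} [Field F] [CharP F 2]

/-- the hyperbolic space -/
def plusSp (n : ℕ) : QSp F (Fin n ⊕ Fin n → F) where
  B := LinearMap.mk₂ F (fun v w => ∑ i, (v (.inl i) * w (.inr i) + v (.inr i) * w (.inl i)))
    (fun v v' w => by rw [← Finset.sum_add_distrib]; exact Finset.sum_congr rfl fun i _ => by simp; ring)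
    (fun c v w => by rw [smul_eq_mul, Finset.mul_sum]; exact Finset.sum_congr rfl fun i _ => by simp; ring)
    (fun v w w' => by rw [← Finset.sum_add_distrib]; exact Finset.sum_congr rfl fun i _ => by simp; ring)
    (fun c v w => by rw [smul_eq_mul, Finset.mul_sum]; exact Finset.sum_congr rfl fun i _ => by simp; ring)
  Q := Cfsg.quadFormPlus n F
  alt := fun v => by
    simp only [LinearMap.mk₂_apply]
    exact Finset.sum_eq_zero fun i _ => by rw [mul_comm, CharTwo.add_self_eq_zero]
  nondeg := fun v hv => by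
    funext j
    rcases j with j | j
    · simpa [Pi.single_apply, Finset.sum_ite_eq, Finset.sum_ite_eq'] using hv (Pi.single (.inr j) 1)
    · simpa [Pi.single_apply, Finset.sum_ite_eq, Finset.sum_ite_eq'] using hv (Pi.single (.inl j) 1)
  polar := fun v w => by
    simp only [Cfsg.quadFormPlus, LinearMap.mk₂_apply, ← Finset.sum_add_distrib]
    exact Finset.sum_congr rfl fun i _ => by simp; ring
  Q_smul := fun c v => by
    simp only [Cfsg.quadFormPlus, Finset.mul_sum]
    exact Finset.sum_congr rfl fun i _ => by simp; ring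

/-- the elliptic space -/
def minusSp (m : ℕ) (a b : F) (ha : a ≠ 0) : QSp F ((Fin m ⊕ Fin m) ⊕ Fin 2 → F) where
  B := LinearMap.mk₂ F (fun v w => (∑ i, (v (.inl (.inl i)) * w (.inl (.inr i)) + v (.inl (.inr i)) * w (.inl (.inl i))))
      + a * (v (.inr 0) * w (.inr 1) + v (.inr 1) * w (.inr 0)))
    (fun v v' w => by
      rw [add_add_add_comm, ← Finset.sum_add_distrib]
      exact congrArg₂ (· + ·) (Finset.sum_congr rfl fun i _ => by simp; ring) (by simp; ring))
    (fun c v w => by
      rw [smul_eq_mul, mul_add c, Finset.mul_sum]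
      exact congrArg₂ (· + ·) (Finset.sum_congr rfl fun i _ => by simp; ring) (by simp; ring))
    (fun v w w' => by
      rw [add_add_add_comm, ← Finset.sum_add_distrib]
      exact congrArg₂ (· + ·) (Finset.sum_congr rfl fun i _ => by simp; ring) (by simp; ring))
    (fun c v w => by
      rw [smul_eq_mul, mul_add c, Finset.mul_sum]
      exact congrArg₂ (· + ·) (Finset.sum_congr rfl fun i _ => by simp; ring) (by simp; ring))
  Q := Cfsg.quadFormMinus m F a b
  alt := fun v => by
    simp only [LinearMap.mk₂_apply]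
    rw [mul_comm (v (.inr 1)), CharTwo.add_self_eq_zero, mul_zero, add_zero]
    exact Finset.sum_eq_zero fun i _ => by rw [mul_comm, CharTwo.add_self_eq_zero]
  nondeg := fun v hv => by
    funext j
    rcases j with (j | j) | j
    · simpa [Pi.single_apply, Finset.sum_ite_eq, Finset.sum_ite_eq'] using hv (Pi.single (.inl (.inr j)) 1)
    · simpa [Pi.single_apply, Finset.sum_ite_eq, Finset.sum_ite_eq'] using hv (Pi.single (.inl (.inl j)) 1)
    · fin_cases j
      · simpa [Pi.single_apply, ha] using hv (Pi.single (.inr 1) 1)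
      · simpa [Pi.single_apply, ha] using hv (Pi.single (.inr 0) 1)
  polar := fun v w => by
    simp only [Cfsg.quadFormMinus, LinearMap.mk₂_apply, Pi.add_apply, CharTwo.add_sq]
    have h : ∑ i, (v (.inl (.inl i)) + w (.inl (.inl i))) * (v (.inl (.inr i)) + w (.inl (.inr i))) =
        ∑ i, v (.inl (.inl i)) * v (.inl (.inr i)) + ∑ i, w (.inl (.inl i)) * w (.inl (.inr i)) +
          ∑ i, (v (.inl (.inl i)) * w (.inl (.inr i)) + v (.inl (.inr i)) * w (.inl (.inl i))) := by
      rw [← Finset.sum_add_distrib, ← Finset.sum_add_distrib]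
      exact Finset.sum_congr rfl fun i _ => by ring
    rw [h]
    ring
  Q_smul := fun c v => by
    simp only [Cfsg.quadFormMinus, mul_add, Finset.mul_sum, Pi.smul_apply, smul_eq_mul]
    exact congrArg₂ (· + ·) (Finset.sum_congr rfl fun i _ => by ring) (by ring)

/-- The number of conjugacy classes of the full orthogonal groups O⁺(2n,q) and O⁻(2n,q), q even, 2n ≥ 4: for F a finite field of even order q and n ≥ 2, the number k of conjugacy classes of the isometry group of the hyperbolic quadratic form Σ xᵢyᵢ on F^{2n}, and likewise of the elliptic form Σ xᵢyᵢ + (z₁² + a z₁z₂ + b z₂²) with anisotropic binary part, satisfies q^n/2 ≤ k ≤ 15·q^n. -/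
theorem result {F : Type*} [Field F] [Fintype F] (heven : Even (Fintype.card F)) (n : ℕ) (hn : 2 ≤ n) (a b : F) (hab : ∀ z₁ z₂ : F, z₁ ^ 2 + a * z₁ * z₂ + b * z₂ ^ 2 = 0 → z₁ = 0 ∧ z₂ = 0) :
    (Fintype.card F ^ n ≤ 2 * Nat.card (ConjClasses ↥(Cfsg.isometryGroup F (Cfsg.quadFormPlus n F))) ∧
      Nat.card (ConjClasses ↥(Cfsg.isometryGroup F (Cfsg.quadFormPlus n F))) ≤ 15 * Fintype.card F ^ n) ∧
    (Fintype.card F ^ n ≤ 2 * Nat.card (ConjClasses ↥(Cfsg.isometryGroup F (Cfsg.quadFormMinus (n - 1) F a b))) ∧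
      Nat.card (ConjClasses ↥(Cfsg.isometryGroup F (Cfsg.quadFormMinus (n - 1) F a b))) ≤ 15 * Fintype.card F ^ n) := by
  have h2 : ringChar F = 2 := FiniteField.even_card_iff_char_two.2 (Nat.even_iff.1 heven)
  haveI : CharP F 2 := ringChar.of_eq h2
  have ha : a ≠ 0 := by
    rintro rfl
    obtain ⟨c, hc⟩ := FiniteField.isSquare_of_char_two h2 b
    exact one_ne_zero (hab c 1 (by rw [hc, zero_mul, zero_mul, add_zero, one_pow, mul_one, sq,
      CharTwo.add_self_eq_zero])).2
  have hP : Fintype.card (Fin n ⊕ Fin n) = 2 * n := by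
    rw [Fintype.card_sum, Fintype.card_fin]; omega
  have hM : Fintype.card ((Fin (n - 1) ⊕ Fin (n - 1)) ⊕ Fin 2) = 2 * n := by
    rw [Fintype.card_sum, Fintype.card_sum, Fintype.card_fin, Fintype.card_fin]; omega
  exact ⟨⟨card_lower (plusSp n) hn hP, card_upper (plusSp n) hn hP⟩,
    card_lower (minusSp (n - 1) a b ha) hn hM, card_upper (minusSp (n - 1) a b ha) hn hM⟩

end Cfsg.Agent.S2559
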