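import Cfsg.Statements.S2560
import Cfsg.Agent.Lib.Small.ClassNumberO.OddGroup

set_option autoImplicit false
open Cfsg

namespace Cfsg.Agent.S2560

/-- The number of conjugacy classes of Ω(2n+1,q), q odd, n ≥ 2: for F a finite field of odd order q, the number k of conjugacy classes of the commutator subgroup of the isometry group of the quadratic form x₀² + Σ xᵢyᵢ on F^{2n+1} satisfies q^n/2 ≤ k ≤ 7.3·q^n. -/
theorem result {F : Type*} [Field F] [Fintype F] (hodd : Odd (Fintype.card F)) (n : ℕ) (hn : 2 ≤ n) :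
    Fintype.card F ^ n ≤ 2 * Nat.card (ConjClasses ↥(Cfsg.Omega F (Cfsg.quadFormOdd n F))) ∧
      10 * Nat.card (ConjClasses ↥(Cfsg.Omega F (Cfsg.quadFormOdd n F))) ≤ 73 * Fintype.card F ^ n := by
  classical
  have h2 : (2 : F) ≠ 0 := Ring.two_ne_zero fun h => by
    have := FiniteField.even_card_of_char_two h
    rw [Nat.odd_iff] at hodd
    omega
  have key : ∀ S : Subgroup (Matrix.GeneralLinearGroup (Unit ⊕ (Fin n ⊕ Fin n)) F),
      S = Cfsg.Agent.Small.Gram.Iso (Cfsg.Agent.Small.Gram.Jodd F n) →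
      Fintype.card F ^ n ≤ 2 * Nat.card (ConjClasses ↥(commutator ↥S)) ∧
        10 * Nat.card (ConjClasses ↥(commutator ↥S)) ≤ 73 * Fintype.card F ^ n := by
    rintro S rfl
    have hs : (Cfsg.Agent.Small.Gram.Jodd F n).transpose = Cfsg.Agent.Small.Gram.Jodd F n := by
      rw [Cfsg.Agent.Small.Gram.Jodd, Matrix.fromBlocks_transpose, Cfsg.Agent.Small.FormDisc.Jplus,
        Matrix.fromBlocks_transpose]
      simp
    have hB : Cfsg.Agent.Small.ClassNumberO.IsGram (Cfsg.Agent.Small.Gram.Jodd F n) :=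
      ⟨hs, Cfsg.Agent.Small.Gram.det_Jodd h2 n⟩
    have hι : Fintype.card (Unit ⊕ (Fin n ⊕ Fin n)) = 2 * n + 1 := by
      rw [Fintype.card_sum, Fintype.card_sum, Fintype.card_fin, Fintype.card_unit]
      omega
    exact ⟨Cfsg.Agent.Small.ClassNumberO.le_card_classes_omega hB hodd n (by omega) hι,
      Cfsg.Agent.Small.ClassNumberO.card_classes_omega_le hB hodd n (by omega) hι⟩
  exact key _ (Cfsg.Agent.Small.Gram.isometry_eq h2 (Cfsg.Agent.Small.Gram.polar_odd n)
    (Cfsg.Agent.Small.Gram.odd_quad n))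

end Cfsg.Agent.S2560
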