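import Cfsg.Statements.S2562
import Cfsg.Agent.Lib.Small.QuadTwo
-- import your own Cfsg.Agent.* helpers here

set_option autoImplicit false
open Cfsg

namespace Cfsg.Agent.S2562

/-- Witt indices over the field of two elements, m ≥ 1: for the plus-type form Σ xᵢyᵢ in dimension 2m some m-dimensional subspace is totally singular and no totally singular subspace has larger dimension; for the minus-type form Σ xᵢyᵢ + (z₁² + z₁z₂ + z₂²) in dimension 2m the maximal dimension of a totally singular subspace is m − 1. -/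
theorem result (m : ℕ) (hm : 1 ≤ m) :
    (∃ U : Submodule (ZMod 2) (Fin m ⊕ Fin m → ZMod 2), (∀ u ∈ U, Cfsg.quadFormPlus m (ZMod 2) u = 0) ∧ Module.finrank (ZMod 2) ↥U = m) ∧
    (∀ U : Submodule (ZMod 2) (Fin m ⊕ Fin m → ZMod 2), (∀ u ∈ U, Cfsg.quadFormPlus m (ZMod 2) u = 0) → Module.finrank (ZMod 2) ↥U ≤ m) ∧
    (∃ U : Submodule (ZMod 2) ((Fin (m - 1) ⊕ Fin (m - 1)) ⊕ Fin 2 → ZMod 2), (∀ u ∈ U, Cfsg.quadFormMinus (m - 1) (ZMod 2) 1 1 u = 0) ∧ Module.finrank (ZMod 2) ↥U = m - 1) ∧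
    (∀ U : Submodule (ZMod 2) ((Fin (m - 1) ⊕ Fin (m - 1)) ⊕ Fin 2 → ZMod 2), (∀ u ∈ U, Cfsg.quadFormMinus (m - 1) (ZMod 2) 1 1 u = 0) → Module.finrank (ZMod 2) ↥U ≤ m - 1) := by
  classical
  refine ⟨?_, ?_, ?_, ?_⟩
  · let ι : (Fin m → ZMod 2) →ₗ[ZMod 2] (Fin m ⊕ Fin m → ZMod 2) :=
      { toFun := fun a => Sum.elim a 0
        map_add' := fun a b => by ext i; cases i <;> simp
        map_smul' := fun c a => by ext i; cases i <;> simp }
    have hι : Function.Injective ι := fun a b h => funext fun i => congrFun h (Sum.inl i)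
    refine ⟨LinearMap.range ι, ?_, by rw [LinearMap.finrank_range_of_inj hι, Module.finrank_fin_fun]⟩
    rintro _ ⟨a, rfl⟩
    simp [ι, Cfsg.quadFormPlus]
  · intro U hU
    have h := Classical.Witt.finrank_le_half (Small.QuadTwo.plusQ (ZMod 2) m) Small.QuadTwo.plusQ_nondeg
      (W := U) (fun w hw => (Small.QuadTwo.plusQ_apply w).trans (hU w hw))
    simp only [Module.finrank_pi, Fintype.card_sum, Fintype.card_fin] at h
    omega
  · let ι : (Fin (m - 1) → ZMod 2) →ₗ[ZMod 2] ((Fin (m - 1) ⊕ Fin (m - 1)) ⊕ Fin 2 → ZMod 2) :=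
      { toFun := fun a => Sum.elim (Sum.elim a 0) 0
        map_add' := fun a b => by ext (i | i) <;> (try cases i) <;> simp
        map_smul' := fun c a => by ext (i | i) <;> (try cases i) <;> simp }
    have hι : Function.Injective ι := fun a b h => funext fun i => congrFun h (Sum.inl (Sum.inl i))
    refine ⟨LinearMap.range ι, ?_, by rw [LinearMap.finrank_range_of_inj hι, Module.finrank_fin_fun]⟩
    rintro _ ⟨a, rfl⟩
    simp [ι, Cfsg.quadFormMinus]
  · intro U hU
    exact Small.QuadTwo.minus_witt U hU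

end Cfsg.Agent.S2562
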