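import Cfsg.Statements.S2564
import Cfsg.Agent.Lib.Small.QuadTwo
-- import your own Cfsg.Agent.* helpers here

set_option autoImplicit false
open Cfsg

namespace Cfsg.Agent.S2564

/-- On the 2m-dimensional space over the field of two elements (m ≥ 1) let f be the alternating form obtained by polarizing the plus-type form Σ xᵢyᵢ, and let q be any quadratic form polarizing to f. For a vector w, the function q + f(·, w) again polarizes to f, and it is equivalent to q under an invertible linear map (that is, has the same type) if and only if q(w) = 0. -/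
theorem result (m : ℕ) (hm : 1 ≤ m) (q : (Fin m ⊕ Fin m → ZMod 2) → ZMod 2) (hq : (∀ u v : (Fin m ⊕ Fin m → ZMod 2), q (u + v) = q u + q v + (Cfsg.quadFormPlus m (ZMod 2) (u + v) - Cfsg.quadFormPlus m (ZMod 2) u - Cfsg.quadFormPlus m (ZMod 2) v))) (w : (Fin m ⊕ Fin m → ZMod 2)) :
    (∀ u v : (Fin m ⊕ Fin m → ZMod 2), (q (u + v) + (Cfsg.quadFormPlus m (ZMod 2) (u + v + w) - Cfsg.quadFormPlus m (ZMod 2) (u + v) - Cfsg.quadFormPlus m (ZMod 2) w)) =
        (q u + (Cfsg.quadFormPlus m (ZMod 2) (u + w) - Cfsg.quadFormPlus m (ZMod 2) u - Cfsg.quadFormPlus m (ZMod 2) w)) + (q v + (Cfsg.quadFormPlus m (ZMod 2) (v + w) - Cfsg.quadFormPlus m (ZMod 2) v - Cfsg.quadFormPlus m (ZMod 2) w)) +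
        (Cfsg.quadFormPlus m (ZMod 2) (u + v) - Cfsg.quadFormPlus m (ZMod 2) u - Cfsg.quadFormPlus m (ZMod 2) v)) ∧
    ((∃ g : (Fin m ⊕ Fin m → ZMod 2) ≃ₗ[ZMod 2] (Fin m ⊕ Fin m → ZMod 2), ∀ v, q v + (Cfsg.quadFormPlus m (ZMod 2) (v + w) - Cfsg.quadFormPlus m (ZMod 2) v - Cfsg.quadFormPlus m (ZMod 2) w) = q (g v)) ↔ q w = 0) := by
  classical
  have hpol : ∀ u v w : Fin m ⊕ Fin m → ZMod 2,
      Cfsg.quadFormPlus m (ZMod 2) (u + v + w) - Cfsg.quadFormPlus m (ZMod 2) (u + v) - Cfsg.quadFormPlus m (ZMod 2) w =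
        (Cfsg.quadFormPlus m (ZMod 2) (u + w) - Cfsg.quadFormPlus m (ZMod 2) u - Cfsg.quadFormPlus m (ZMod 2) w) +
          (Cfsg.quadFormPlus m (ZMod 2) (v + w) - Cfsg.quadFormPlus m (ZMod 2) v - Cfsg.quadFormPlus m (ZMod 2) w) := by
    intro u v w
    have h := QuadraticMap.polar_add_left (Small.QuadTwo.plusQ (ZMod 2) m) u v w
    simpa only [QuadraticMap.polar, Small.QuadTwo.plusQ_apply] using h
  have hq' : ∀ u v : Fin m ⊕ Fin m → ZMod 2,
      (fun x => q x + (Cfsg.quadFormPlus m (ZMod 2) (x + w) - Cfsg.quadFormPlus m (ZMod 2) x - Cfsg.quadFormPlus m (ZMod 2) w)) (u + v) =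
      (fun x => q x + (Cfsg.quadFormPlus m (ZMod 2) (x + w) - Cfsg.quadFormPlus m (ZMod 2) x - Cfsg.quadFormPlus m (ZMod 2) w)) u +
      (fun x => q x + (Cfsg.quadFormPlus m (ZMod 2) (x + w) - Cfsg.quadFormPlus m (ZMod 2) x - Cfsg.quadFormPlus m (ZMod 2) w)) v +
        (Cfsg.quadFormPlus m (ZMod 2) (u + v) - Cfsg.quadFormPlus m (ZMod 2) u - Cfsg.quadFormPlus m (ZMod 2) v) := by
    intro u v
    simp only [hq u v, hpol u v w]
    ring
  refine ⟨hq', ?_⟩
  obtain ⟨q', rfl⟩ : ∃ q' : (Fin m ⊕ Fin m → ZMod 2) → ZMod 2, q' = fun x => q x + (Cfsg.quadFormPlus m (ZMod 2) (x + w) - Cfsg.quadFormPlus m (ZMod 2) x - Cfsg.quadFormPlus m (ZMod 2) w) := ⟨_, rfl⟩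
  have hz := Small.QuadTwo.zeros_shift q hq w
  have hone := Small.QuadTwo.card_eq_one q
  have hq0 : ∀ a : ZMod 2, a = 0 ∨ a = 1 := by decide
  constructor
  · rintro ⟨g, hg⟩
    rcases hq0 (q w) with h | h
    · exact h
    exfalso
    have h1 : Small.QuadTwo.zeros (fun x => q x + (Cfsg.quadFormPlus m (ZMod 2) (x + w) - Cfsg.quadFormPlus m (ZMod 2) x - Cfsg.quadFormPlus m (ZMod 2) w)) = Small.QuadTwo.zeros q := by
      conv_lhs => rw [show (fun x => q x + (Cfsg.quadFormPlus m (ZMod 2) (x + w) - Cfsg.quadFormPlus m (ZMod 2) x - Cfsg.quadFormPlus m (ZMod 2) w)) = q ∘ g.toEquiv from funext hg]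
      exact Small.QuadTwo.zeros_comp q g.toEquiv
    rw [h, h1] at hz
    have hpow : 2 ^ (2 * m) = 2 * 2 ^ (2 * m - 1) := by rw [← pow_succ']; congr 1; omega
    have hpos : 0 < 2 ^ (m - 1) := Nat.two_pow_pos _
    have hle : 2 ^ (m - 1) ≤ 2 ^ (2 * m - 1) := Nat.pow_le_pow_right (by norm_num) (by omega)
    rcases Small.QuadTwo.zeros_eq_or hm q hq with h2 | h2 <;> omega
  · intro h
    rw [h] at hz
    have hsame : Small.QuadTwo.zeros (fun x => q x + (Cfsg.quadFormPlus m (ZMod 2) (x + w) - Cfsg.quadFormPlus m (ZMod 2) x - Cfsg.quadFormPlus m (ZMod 2) w)) = Small.QuadTwo.zeros q := hz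
    rcases Small.QuadTwo.classify hm q hq with ⟨g, hg⟩ | ⟨g, hg⟩
    · obtain ⟨g', hg'⟩ := (Small.QuadTwo.plus_iff hm _ hq').mpr (hsame.trans ((Small.QuadTwo.plus_iff hm q hq).mp ⟨g, hg⟩))
      exact ⟨g'.trans g.symm, fun v => by rw [hg ((g'.trans g.symm) v), LinearEquiv.trans_apply, LinearEquiv.apply_symm_apply]; exact hg' v⟩
    · obtain ⟨g', hg'⟩ := (Small.QuadTwo.minus_iff hm _ hq').mpr (hsame.trans_ne ((Small.QuadTwo.minus_iff hm q hq).mp ⟨g, hg⟩))
      exact ⟨g'.trans g.symm, fun v => by rw [hg ((g'.trans g.symm) v), LinearEquiv.trans_apply, LinearEquiv.apply_symm_apply]; exact hg' v⟩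

end Cfsg.Agent.S2564
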