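import Cfsg.Statements.S2565
import Cfsg.Agent.Lib.Classical.OrthOrders

set_option autoImplicit false
open Cfsg

namespace Cfsg.Agent.S2565

open scoped Matrix

/-- Functions on eight points. -/
abbrev V8 := Fin 8 → ZMod 2
/-- Coordinates in three hyperbolic planes. -/
abbrev V6 := Fin 3 ⊕ Fin 3 → ZMod 2

/-- The even-weight basis vectors. -/
def bas : Fin 3 ⊕ Fin 3 → V8 :=
  Sum.elim ![![1, 1, 1, 1, 0, 0, 0, 0], ![1, 0, 0, 1, 1, 1, 0, 0], ![0, 0, 1, 1, 1, 0, 1, 0]]
    ![![1, 1, 1, 0, 1, 0, 0, 0], ![0, 1, 0, 1, 1, 1, 0, 0], ![1, 1, 0, 0, 0, 1, 1, 0]]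

/-- The dual vectors. -/
def dual (i : Fin 3 ⊕ Fin 3) : V8 := bas i.swap

/-- The coordinates. -/
def co (v : V8) : V6 := fun i => v ⬝ᵥ dual i

/-- The representative of a coordinate vector. -/
def rec8 (c : V6) : V8 := ∑ i, c i • bas i

/-- Even weight. -/
def Ev (v : V8) : Prop := ∑ k, v k = 0

instance (v : V8) : Decidable (Ev v) := inferInstanceAs (Decidable (_ = _))

theorem ev_bas : ∀ i, Ev (bas i) := by decide +kernel

theorem ev_rec : ∀ c : V6, Ev (rec8 c) := by decide +kernel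

theorem rec_co : ∀ v : V8, Ev v → rec8 (co v) = v ∨ rec8 (co v) = v + 1 := by decide +kernel

theorem co_rec : ∀ c : V6, co (rec8 c) = c := by decide +kernel

theorem co_add_one : ∀ v : V8, Ev v → co (v + 1) = co v := by decide +kernel

theorem weight_one : ∀ v : V8, Ev v → ((Finset.univ.filter fun k => v k = 1).card / 2 : ℕ) =
    ((Cfsg.quadFormPlus 3 (ZMod 2) (co v)).val : ZMod 2) := by decide +kernel

/-- Permuting the eight points. -/
def pr (g : Equiv.Perm (Fin 8)) (v : V8) : V8 := fun k => v (g.symm k)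

theorem pr_ev (g : Equiv.Perm (Fin 8)) {v : V8} (h : Ev v) : Ev (pr g v) := by
  unfold Ev pr at *
  rwa [Equiv.sum_comp g.symm v]

/-- The matrix of a permutation. -/
def mat (g : Equiv.Perm (Fin 8)) : Matrix (Fin 3 ⊕ Fin 3) (Fin 3 ⊕ Fin 3) (ZMod 2) :=
  Matrix.of fun i j => co (pr g (bas j)) i

theorem mat_mulVec (g : Equiv.Perm (Fin 8)) (c : V6) : mat g *ᵥ c = co (pr g (rec8 c)) := by
  ext i
  simp only [mat, Matrix.mulVec, dotProduct, Matrix.of_apply, co, pr, rec8, Finset.sum_apply, Pi.smul_apply,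
    smul_eq_mul, Finset.sum_mul]
  rw [Finset.sum_comm]
  exact Finset.sum_congr rfl fun k _ => Finset.sum_congr rfl fun j _ => by ring

theorem co_pr (g : Equiv.Perm (Fin 8)) {v : V8} (h : Ev v) : co (pr g (rec8 (co v))) = co (pr g v) := by
  rcases rec_co v h with e | e
  · rw [e]
  · rw [e, show pr g (v + 1) = pr g v + 1 from rfl, co_add_one _ (pr_ev g h)]

/-- The homomorphism to matrices. -/
def matHom : Equiv.Perm (Fin 8) →* Matrix (Fin 3 ⊕ Fin 3) (Fin 3 ⊕ Fin 3) (ZMod 2) where
  toFun := mat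
  map_one' := Matrix.ext_of_mulVec_single fun j => by
    rw [mat_mulVec, Matrix.one_mulVec, show pr 1 (rec8 (Pi.single j 1)) = rec8 (Pi.single j 1) from rfl, co_rec]
  map_mul' g h := Matrix.ext_of_mulVec_single fun j => by
    rw [← Matrix.mulVec_mulVec, mat_mulVec, mat_mulVec, mat_mulVec, co_pr g (pr_ev h (ev_rec _))]
    rfl

theorem isometry (g : Equiv.Perm (Fin 8)) (c : V6) :
    Cfsg.quadFormPlus 3 (ZMod 2) (mat g *ᵥ c) = Cfsg.quadFormPlus 3 (ZMod 2) c := by
  rw [mat_mulVec]
  have h1 := weight_one _ (pr_ev g (ev_rec c))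
  have h2 := weight_one _ (ev_rec c)
  rw [co_rec] at h2
  have hcard : (Finset.univ.filter fun k => pr g (rec8 c) k = 1).card =
      (Finset.univ.filter fun k => rec8 c k = 1).card := by
    refine Finset.card_bij (fun k _ => g.symm k) (fun k hk => ?_) (fun a _ b _ e => g.symm.injective e) fun b hb => ?_
    · exact Finset.mem_filter.2 ⟨Finset.mem_univ _, (Finset.mem_filter.1 hk).2⟩
    · refine ⟨g b, Finset.mem_filter.2 ⟨Finset.mem_univ _, ?_⟩, g.symm_apply_apply b⟩
      show rec8 c (g.symm (g b)) = 1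
      rw [g.symm_apply_apply]
      exact (Finset.mem_filter.1 hb).2
  rw [hcard, h2] at h1
  simpa using h1.symm

theorem ev_pair : ∀ a b : Fin 8, a ≠ b → Ev (Pi.single a 1 + Pi.single b 1) := by decide +kernel

theorem sep : ∀ a b : Fin 8, a ≠ b → (∀ c, c ≠ a → c ≠ b →
    co (Pi.single a 1 + Pi.single c 1) = co (Pi.single b 1 + Pi.single c 1)) → False := by decide +kernel

theorem pairs : ∀ a b a' b' : Fin 8, a ≠ b → a' ≠ b' →
    co (Pi.single a 1 + Pi.single b 1) = co (Pi.single a' 1 + Pi.single b' 1) → a = a' ∨ a = b' := by decide +kernel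

theorem fin8_ne : ∀ a : Fin 8, a ≠ a + 1 ∧ a ≠ a + 2 ∧ a + 1 ≠ a + 2 := by decide

theorem matHom_injective : Function.Injective matHom := by
  rw [injective_iff_map_eq_one]
  intro g hg
  have hfix : ∀ a b : Fin 8, a ≠ b → g a = a ∨ g a = b := by
    intro a b hab
    have hp : pr g (Pi.single a 1 + Pi.single b 1) = Pi.single (g a) 1 + Pi.single (g b) 1 := by
      ext k
      simp [pr, Pi.single_apply, Equiv.symm_apply_eq]
    have h := co_pr g (ev_pair a b hab)
    rw [← mat_mulVec, show mat g = 1 from hg, Matrix.one_mulVec, hp] at h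
    rcases pairs _ _ _ _ (g.injective.ne hab) hab h.symm with e | e
    · exact Or.inl e
    · exact Or.inr e
  ext a
  have h1 := hfix a (a + 1) (fin8_ne a).1
  have h2 := hfix a (a + 2) (fin8_ne a).2.1
  have h3 : a + 1 ≠ a + 2 := (fin8_ne a).2.2
  rcases h1 with e | e
  · simp [e]
  · rcases h2 with e' | e'
    · simp [e']
    · exact absurd (e.symm.trans e') h3

/-- The commutator subgroup of the full orthogonal group of the plus-type form Σ xᵢyᵢ in dimension 6 over the field of two elements (the group Ω⁺₆(2), of index 2) is isomorphic to the alternating group of degree 8. -/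
theorem result :
    (Cfsg.Omega (ZMod 2) (Cfsg.quadFormPlus 3 (ZMod 2))).index = 2 ∧
    Nonempty (↥(Cfsg.Omega (ZMod 2) (Cfsg.quadFormPlus 3 (ZMod 2))) ≃* alternatingGroup (Fin 8)) := by
  let f : Equiv.Perm (Fin 8) →* ↥(Cfsg.isometryGroup (ZMod 2) (Cfsg.quadFormPlus 3 (ZMod 2))) :=
    matHom.toHomUnits.codRestrict _ fun g => fun u _ => isometry g u
  have hinj : Function.Injective f := fun g h e => matHom_injective (by
    have := congrArg (fun t : ↥(Cfsg.isometryGroup (ZMod 2) (Cfsg.quadFormPlus 3 (ZMod 2))) =>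
      Units.val (Subtype.val t)) e
    exact this)
  have hcard : Nat.card ↥(Cfsg.isometryGroup (ZMod 2) (Cfsg.quadFormPlus 3 (ZMod 2))) = 40320 := by
    rw [Cfsg.Agent.Classical.OCount.card_plus]
    simp [Finset.prod_range_succ, ZMod.card]
    rfl
  have hP : Nat.card (Equiv.Perm (Fin 8)) = 40320 := by
    rw [Nat.card_perm, Nat.card_eq_fintype_card, Fintype.card_fin]; rfl
  let e : Equiv.Perm (Fin 8) ≃* ↥(Cfsg.isometryGroup (ZMod 2) (Cfsg.quadFormPlus 3 (ZMod 2))) :=
    MulEquiv.ofBijective f ((Nat.bijective_iff_injective_and_card f).2 ⟨hinj, hP.trans hcard.symm⟩)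
  have hmap : (alternatingGroup (Fin 8)).map e.toMonoidHom = Cfsg.Omega (ZMod 2) (Cfsg.quadFormPlus 3 (ZMod 2)) := by
    rw [← alternatingGroup.commutator_perm_eq (α := Fin 8) (by simp), Cfsg.Omega, commutator_def, commutator_def,
      Subgroup.map_commutator, Subgroup.map_top_of_surjective e.toMonoidHom e.surjective]
  refine ⟨?_, ⟨(hmap ▸ (alternatingGroup (Fin 8)).equivMapOfInjective e.toMonoidHom e.injective).symm⟩⟩
  rw [← hmap, Subgroup.index_map_of_bijective (f := e.toMonoidHom) e.bijective]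
  exact alternatingGroup.index_eq_two

end Cfsg.Agent.S2565
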