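import Cfsg.Statements.S2567
import Cfsg.Agent.Lib.Lead.GLBasic
-- import your own Cfsg.Agent.* helpers here

set_option autoImplicit false
open Cfsg

namespace Cfsg.Agent.S2567

/-- Lifting elements of prime order from PGL to GL: let F be a finite field with q elements, r a prime not dividing q − 1, and x an element of order r in GL_n(F) modulo its centre (the scalar matrices). Then x has exactly one preimage in GL_n(F) of order r. -/
theorem result {F : Type*} [Field F] [Fintype F] {q n r : ℕ} (hF : Fintype.card F = q) (hr : r.Prime) (hdiv : ¬ r ∣ q - 1) (x : GL (Fin n) F ⧸ Subgroup.center (GL (Fin n) F)) (hx : orderOf x = r) : ∃! g : GL (Fin n) F, (QuotientGroup.mk g : GL (Fin n) F ⧸ Subgroup.center (GL (Fin n) F)) = x ∧ orderOf g = r := by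
  classical
  subst hF
  have hn0 : n ≠ 0 := by
    rintro rfl
    have : x = 1 := by
      obtain ⟨g, rfl⟩ := QuotientGroup.mk_surjective x
      rw [Subsingleton.elim g 1]; rfl
    rw [this, orderOf_one] at hx
    exact hr.one_lt.ne hx
  have : Nonempty (Fin n) := ⟨⟨0, Nat.pos_of_ne_zero hn0⟩⟩
  have hcard : Nat.card (Subgroup.center (GL (Fin n) F)) = Fintype.card F - 1 :=
    Lead.GLBasic.card_center_GL n
  have hco : (Nat.card (Subgroup.center (GL (Fin n) F))).Coprime r := by
    rw [hcard]; exact ((hr.coprime_iff_not_dvd).mpr hdiv).symm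
  obtain ⟨g0, rfl⟩ := QuotientGroup.mk_surjective x
  have hmem : g0 ^ r ∈ Subgroup.center (GL (Fin n) F) := by
    rw [← QuotientGroup.eq_one_iff, QuotientGroup.mk_pow, ← hx, pow_orderOf_eq_one]
  obtain ⟨d, hd⟩ := (powCoprime hco).surjective ⟨g0 ^ r, hmem⟩
  have hd' : (d : GL (Fin n) F) ^ r = g0 ^ r := congrArg Subtype.val hd
  obtain ⟨g, hg⟩ : ∃ g, g = g0 * (d : GL (Fin n) F)⁻¹ := ⟨_, rfl⟩
  have hgq : (QuotientGroup.mk g : GL (Fin n) F ⧸ Subgroup.center (GL (Fin n) F)) = QuotientGroup.mk g0 := by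
    rw [hg, QuotientGroup.eq]
    simp
  have hgr : g ^ r = 1 := by
    rw [hg, Commute.mul_pow (((Subgroup.mem_center_iff.mp (inv_mem d.2)) g0)), inv_pow, hd', mul_inv_cancel]
  have : Fact r.Prime := ⟨hr⟩
  refine ⟨g, ⟨hgq, orderOf_eq_prime hgr fun h => ?_⟩, fun y hy => ?_⟩
  · rw [← hgq, h, QuotientGroup.mk_one, orderOf_one] at hx
    exact hr.one_lt.ne hx
  · obtain ⟨hy1, hy2⟩ := hy
    obtain ⟨z, hz⟩ : ∃ z : Subgroup.center (GL (Fin n) F), (z : GL (Fin n) F) = g⁻¹ * y :=
      ⟨⟨_, QuotientGroup.eq.mp (hgq.trans hy1.symm)⟩, rfl⟩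
    have e : y = g * z := by rw [hz, mul_inv_cancel_left]
    have hyr : y ^ r = 1 := hy2 ▸ pow_orderOf_eq_one y
    rw [e, Commute.mul_pow (Subgroup.mem_center_iff.mp z.2 g), hgr, one_mul] at hyr
    have : powCoprime hco z = powCoprime hco 1 := Subtype.ext (by simpa using hyr)
    rw [e, (powCoprime hco).injective this, Subgroup.coe_one, mul_one]

end Cfsg.Agent.S2567
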