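import Cfsg.Statements.S2569
import Cfsg.Agent.Lib.Small.Semisimple
-- import your own Cfsg.Agent.* helpers here

set_option autoImplicit false
open Cfsg

namespace Cfsg.Agent.S2569

/-- In GL_n over a finite field of characteristic p, the conjugacy class of a semisimple element (an element of order prime to p) under the special linear group is its whole GL-conjugacy class: for every such x and every invertible g there is h of determinant one with h x h⁻¹ = g x g⁻¹. -/
theorem result {F : Type*} [Field F] [Fintype F] {p : ℕ} [Fact p.Prime] [CharP F p] {n : ℕ} (x g : GL (Fin n) F) (hx : (orderOf x).Coprime p) : ∃ h : GL (Fin n) F, (h : Matrix (Fin n) (Fin n) F).det = 1 ∧ h * x * h⁻¹ = g * x * g⁻¹ := by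
  obtain ⟨y, hy, hd⟩ := Cfsg.Agent.Small.Semisimple.exists_centralizing_det p x g hx
  refine ⟨g * y⁻¹, ?_, ?_⟩
  · have h1 : ((g * y⁻¹) * y : GL (Fin n) F) = g := inv_mul_cancel_right g y
    have h2 := congrArg (fun m : GL (Fin n) F => (m : Matrix (Fin n) (Fin n) F).det) h1
    simp only [Units.val_mul, Matrix.det_mul] at h2
    rw [hd] at h2
    have hne : (g : Matrix (Fin n) (Fin n) F).det ≠ 0 := ((Matrix.isUnit_iff_isUnit_det _).1 g.isUnit).ne_zero
    rw [Units.val_mul, Matrix.det_mul]
    exact (mul_eq_right₀ hne).1 h2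
  · have hc : y⁻¹ * x = x * y⁻¹ := (inv_mul_eq_iff_eq_mul.2 (by rw [← mul_assoc, hy, mul_inv_cancel_right]))
    rw [mul_inv_rev, inv_inv, mul_assoc g y⁻¹ x, hc]
    group

end Cfsg.Agent.S2569
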