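import Cfsg.Statements.S2570
import Cfsg.Agent.Lib.Small.JordanType
-- import your own Cfsg.Agent.* helpers here

set_option autoImplicit false
open Cfsg

namespace Cfsg.Agent.S2570

/-- Number of conjugacy classes of elements of order p in GL_n over a finite field of characteristic p: they correspond to the Jordan types, that is, to the partitions of n with all parts at most p other than the partition into ones, so there are (number of partitions of n with parts ≤ p) − 1 of them. -/
theorem result {F : Type*} [Field F] [Fintype F] {p : ℕ} [Fact p.Prime] [CharP F p] (n : ℕ) : Nat.card {C : ConjClasses (GL (Fin n) F) // ∃ g : GL (Fin n) F, ConjClasses.mk g = C ∧ orderOf g = p} = (Finset.univ.filter (fun μ : Nat.Partition n => ∀ a ∈ μ.parts, a ≤ p)).card - 1 := by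
  classical
  have h := Cfsg.Agent.Small.JordanType.card_classes (F := F) (n := n)
    (fun μ => (∀ a ∈ μ.parts, a ≤ p) ∧ ¬ ∀ a ∈ μ.parts, a ≤ 1) (fun g => orderOf g = p)
    (fun g => Cfsg.Agent.Small.JordanType.order_p_iff g)
  rw [Cfsg.Agent.Small.JordanType.card_filter_partition n p (Fact.out : p.Prime).one_lt.le] at h
  refine ((Nat.card_congr (Equiv.subtypeEquivRight fun C => ?_)).trans h).trans (by congr)
  exact exists_congr fun g => and_comm

end Cfsg.Agent.S2570
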