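import Cfsg.Statements.S2592
import Cfsg.Agent.Lib.Small.SpRegular.Exists

set_option autoImplicit false
open Cfsg

namespace Cfsg.Agent.S2592
open Cfsg.Agent.Small

theorem two_ne {F : Type*} [Field F] [Fintype F] {q : ℕ} (hF : Fintype.card F = q) (hq : Odd q) : (2 : F) ≠ 0 := by
  intro h
  obtain ⟨p, hchar⟩ := CharP.exists F
  obtain ⟨k, hp, hc⟩ := FiniteField.card F p
  have hp2 : p = 2 := (Nat.prime_dvd_prime_iff_eq hp Nat.prime_two).1 ((CharP.cast_eq_zero_iff F p 2).1 (by simpa using h))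
  rw [← hF, hc, hp2] at hq
  exact (Nat.not_odd_iff_even.2 (Nat.even_pow.2 ⟨even_two, k.ne_zero⟩)) hq


/-- Over a finite field with q elements, q odd, the centraliser in Sp_2m(F) (m ≥ 1) of a regular unipotent element (u − 1 nilpotent of rank 2m − 1) has order 2 q^m. -/
theorem result {F : Type*} [Field F] [Fintype F] {q : ℕ} (hF : Fintype.card F = q) (hq : Odd q) {m : ℕ} (hm : 1 ≤ m) (u : Matrix.symplecticGroup (Fin m) F) (hnil : ((u : Matrix (Fin m ⊕ Fin m) (Fin m ⊕ Fin m) F) - 1) ^ (2 * m) = 0) (hreg : ((u : Matrix (Fin m ⊕ Fin m) (Fin m ⊕ Fin m) F) - 1).rank = 2 * m - 1) : Nat.card ↥(Subgroup.centralizer ({u} : Set ↥(Matrix.symplecticGroup (Fin m) F))) = 2 * q ^ m := by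
  classical
  rw [← hF]
  exact SpRegular.card_centralizer (two_ne hF hq) hm u ((SpRegular.isR_iff hm _).2 ⟨hnil, hreg⟩)

end Cfsg.Agent.S2592
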