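import Cfsg.Statements.S2594
import Cfsg.Agent.Lib.Small.SpInvolMatrix
-- import your own Cfsg.Agent.* helpers here

set_option autoImplicit false
open Cfsg

namespace Cfsg.Agent.S2594

open scoped Matrix

/-- Over a finite field with q elements, q even, an element t of Sp_2m(F) with rank(t − 1) = 1 (a symplectic transvection) has centraliser in Sp_2m(F) of order q^(2m−1) · |Sp_(2m−2)(q)| = q^(2m−1) · q^((m−1)²) · Π_(i=1)^(m−1) (q^(2i) − 1). -/
theorem result {F : Type*} [Field F] [Fintype F] [CharP F 2] {q : ℕ} (hF : Fintype.card F = q) {m : ℕ} (hm : 1 ≤ m) (t : Matrix.symplecticGroup (Fin m) F) (ht : ((t : Matrix (Fin m ⊕ Fin m) (Fin m ⊕ Fin m) F) - 1).rank = 1) : Nat.card ↥(Subgroup.centralizer ({t} : Set ↥(Matrix.symplecticGroup (Fin m) F))) = q ^ (2 * m - 1) * (q ^ ((m - 1) ^ 2) * ∏ i : Fin (m - 1), (q ^ (2 * ((i : ℕ) + 1)) - 1)) := by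
  have h2 : t ^ 2 = 1 := by
    obtain ⟨N, hN⟩ : ∃ N, N = Cfsg.Agent.Small.SpInvolMatrix.nil t := ⟨_, rfl⟩
    have hr : Module.finrank F (LinearMap.range N) = 1 := by
      rw [hN, Cfsg.Agent.Small.SpInvolMatrix.finrank_nil]; exact ht
    obtain ⟨⟨w, hw⟩, hw0, hspan⟩ := finrank_eq_one_iff'.1 hr
    have hw1 : w ≠ 0 := fun h => hw0 (Subtype.ext h)
    have hc : ∀ x, ∃ c : F, N x = c • w := fun x => by
      obtain ⟨c, hc⟩ := hspan ⟨N x, LinearMap.mem_range_self N x⟩
      exact ⟨c, (congrArg Subtype.val hc).symm⟩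
    choose c hc using hc
    have halt := Cfsg.Agent.Classical.SpCount.stdForm_isAltND (F := F) m
    -- isometry: c x f(w,y) + c y f(x,w) = 0
    have hiso : ∀ x y, c x * Cfsg.Agent.Classical.SpCount.stdForm m F w y +
        c y * Cfsg.Agent.Classical.SpCount.stdForm m F x w = 0 := fun x y => by
      have h := Cfsg.Agent.Small.SpInvolMatrix.form_mulVec t x y
      have e : ∀ z, t.1 *ᵥ z = z + c z • w := fun z => by
        rw [← hc, hN, Cfsg.Agent.Small.SpInvolMatrix.nil_apply, add_sub_cancel]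
      simp only [e, map_add, map_smul, LinearMap.add_apply, LinearMap.smul_apply, smul_eq_mul, halt.self] at h
      linear_combination h
    have hcw : c w = 0 := by
      obtain ⟨y, hy⟩ : ∃ y, Cfsg.Agent.Classical.SpCount.stdForm m F w y ≠ 0 := by
        by_contra! h
        exact hw1 (halt.nondeg w h)
      have := hiso w y
      rw [halt.self, mul_zero, add_zero] at this
      exact (mul_eq_zero.1 this).resolve_right hy
    have hNN : ∀ x, N (N x) = 0 := fun x => by rw [hc x, map_smul, hc w, hcw, zero_smul, smul_zero]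
    refine Subtype.ext (Matrix.toLin'.injective (LinearMap.ext fun x => ?_))
    have := hNN x
    rw [hN, Cfsg.Agent.Small.SpInvolMatrix.nil_apply, Cfsg.Agent.Small.SpInvolMatrix.nil_apply,
      Matrix.mulVec_sub, Matrix.mulVec_mulVec] at this
    rw [sq, Submonoid.coe_mul, Submonoid.coe_one, Matrix.toLin'_one, LinearMap.id_apply, Matrix.toLin'_apply]
    funext i
    have hi := congrFun this i
    simp only [Pi.sub_apply, Pi.zero_apply] at hi
    linear_combination hi + CharTwo.add_self_eq_zero ((t.1 *ᵥ x) i) - CharTwo.add_self_eq_zero (x i)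
  obtain ⟨O, h, -, ho, -⟩ := Cfsg.Agent.Small.SpInvolMatrix.card_cent_matrix hF h2 ht
  rw [h, ho odd_one, show (1 - 1) / 2 = 0 from rfl, show Cfsg.Agent.Small.SymFormsTwo.sp q 0 = 1 by
      simp [Cfsg.Agent.Small.SymFormsTwo.sp], mul_one, Cfsg.Agent.Small.SpInvolMatrix.sp_eq,
    show (3 * 1 ^ 2 - 1) / 2 = 1 from rfl, mul_one (2 * m)]

end Cfsg.Agent.S2594
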