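import Cfsg.Statements.S2596
import Cfsg.Agent.Lib.Small.OInvolMatrix
-- import your own Cfsg.Agent.* helpers here

set_option autoImplicit false
open Cfsg

namespace Cfsg.Agent.S2596

open Cfsg.Agent.Small

/-- Number of conjugacy classes of involutions in the full orthogonal group O⁻_2m(F) of an elliptic quadratic form (Σ_(i<m−1) x_i y_i plus an anisotropic binary form) over a finite field of characteristic two (m ≥ 1): one class for each odd s ≤ m, two for each even s with 2 ≤ s < m and one for s = m when m is even, where s = rank(t − 1); in all m + ⌊(m − 1)/2⌋. -/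
theorem result {F : Type*} [Field F] [Fintype F] [CharP F 2] {m : ℕ} (hm : 1 ≤ m) (a b : F) (hab : ∀ z₁ z₂ : F, z₁ ^ 2 + a * z₁ * z₂ + b * z₂ ^ 2 = 0 → z₁ = 0 ∧ z₂ = 0) : Nat.card {C : ConjClasses ↥(Cfsg.isometryGroup F (Cfsg.quadFormMinus (m - 1) F a b)) // ∃ g : ↥(Cfsg.isometryGroup F (Cfsg.quadFormMinus (m - 1) F a b)), ConjClasses.mk g = C ∧ orderOf g = 2} = m + (m - 1) / 2 := by
  obtain ⟨k, rfl⟩ : ∃ k, m = k + 1 := ⟨m - 1, by omega⟩
  have hq : Cfsg.quadFormMinus (k + 1 - 1) F a b = ⇑(OInvolMatrix.qMinus F (k + 1 - 1) a b) :=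
    (Cfsg.Agent.Classical.OOmega.coe_minus (k + 1 - 1) a b).symm
  have hne : ArfTwo.arf (OInvolMatrix.qMinus F (k + 1 - 1) a b) ≠ (Fintype.card F : ℤ) ^ (k + 1) := by
    rw [OInvolMatrix.arf_minus hab]
    have : (0 : ℤ) < (Fintype.card F : ℤ) ^ (k + 1) := pow_pos (by exact_mod_cast Fintype.card_pos) _
    intro h
    simp only [Nat.add_sub_cancel] at h
    linarith
  rw [hq]
  exact OInvolMatrix.card_classes (OInvolMatrix.qMinus_pnd hab) (m := k + 1) (by simp; ring) ((k + 1 - 1) / 2)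
    (fun j => ⟨fun h => ⟨by omega, fun h' => absurd h' (by omega)⟩, fun h => by
      rcases Nat.lt_or_ge (2 * j + 2) (k + 1) with hlt | hge
      · omega
      · exact absurd (h.2 (by omega)) hne⟩)

end Cfsg.Agent.S2596
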