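import Cfsg.Statements.S2600
import Cfsg.Agent.Lib.Small.PSpn.Sp4
import Cfsg.Agent.Lib.Small.PSpn.Out
import Cfsg.Agent.Lib.Small.PSpn.Simple

set_option autoImplicit false
open Cfsg

namespace Cfsg.Agent.S2600

open Cfsg.Agent.Small.PSpn

open Matrix

variable {F : Type*} [Field F] [Fintype F] [CharP F 2]

/-- The exceptional endomorphism squares to the Frobenius map on transvections. -/
theorem gam_gam_trans (v : Fin 2 ⊕ Fin 2 → F) (t : F) :
    gamMat (gamMat (eich v 0 t : Matrix.symplecticGroup (Fin 2) F).1) =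
      (eich v 0 t : Matrix.symplecticGroup (Fin 2) F).1.map (frobeniusEquiv F 2) := by
  have h2 : (2 : F) = 0 := CharP.cast_eq_zero F 2
  have hv : ∀ a b, (eich v 0 t : Matrix.symplecticGroup (Fin 2) F).1 a b =
      (if a = b then 1 else 0) + t * sf v (Pi.single b 1) * v a := by
    intro a b
    rw [eich_entry t (sf_zero_right v), sf_zero_left, add_zero]
    simp [Pi.single_apply]
  have hsf : ∀ b : Fin 2 ⊕ Fin 2, sf v (Pi.single b 1) =
      Sum.elim (fun i => v (.inr i)) (fun i => v (.inl i)) b := by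
    intro b
    rcases b with i | i <;> fin_cases i <;>
      simp [sf, Cfsg.sympForm, Matrix.J, Matrix.mulVec, dotProduct, Fintype.sum_sum_type,
        Fin.sum_univ_two, CharTwo.neg_eq]
  ext a b
  rw [Matrix.map_apply, frobeniusEquiv_apply]
  simp only [gamMat, Matrix.of_apply, hv, hsf]
  rcases a with a | a <;> rcases b with b | b <;> fin_cases a <;> fin_cases b <;>
    simp [pI, qI, frobenius_def] <;> ring_nf <;> (try simp [h2, CharTwo.neg_eq])

/-- The square of the exceptional automorphism is the Frobenius field automorphism. -/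
theorem gamP_sq : (gamP : MulAut (Cfsg.PSp 2 F)) * gamP = fS (frobeniusEquiv F 2) := by
  refine MulEquiv.ext fun y => ?_
  obtain ⟨x, rfl⟩ := ps_surjective y
  rw [MulAut.mul_apply, gamP_apply, gamP_apply, fS_apply]
  congr 1
  have hx : x ∈ TG F 2 := by rw [sp_generated]; exact Subgroup.mem_top x
  refine MonoidHom.eqOn_closure (f := gam.comp gam)
    (g := (fieldS (frobeniusEquiv F 2)).toMonoidHom) ?_ hx
  rintro _ ⟨v, t, rfl⟩
  exact Subtype.ext (gam_gam_trans v t)

theorem main {f : ℕ} (hf : 1 ≤ f) (hF : Fintype.card F = 2 ^ f) :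
    IsCyclic (Cfsg.Out (Cfsg.PSp 2 F)) ∧ Nat.card (Cfsg.Out (Cfsg.PSp 2 F)) = 2 * f := by
  have h2 : (2 : F) = 0 := CharP.cast_eq_zero F 2
  haveI : Fact (Nat.Prime 2) := ⟨Nat.prime_two⟩
  haveI hnorm : (Cfsg.Inn (Cfsg.PSp 2 F)).Normal := inn_normal
  let q : MulAut (Cfsg.PSp 2 F) →* Cfsg.Out (Cfsg.PSp 2 F) := QuotientGroup.mk' _
  have hg2 : q (gamP * gamP) = q (gamP) ^ 2 := by rw [map_mul, sq]
  -- every field automorphism is a power of the Frobenius
  have hfrob : ∀ σ : F ≃+* F, ∃ k : ℕ, σ = (frobeniusEquiv F 2) ^ k := by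
    intro σ
    let := ZMod.algebra F 2
    let s : F ≃ₐ[ZMod 2] F := AlgEquiv.ofRingEquiv (f := σ) (fun x => by
      exact DFunLike.congr_fun (RingHom.ext_zmod ((σ : F →+* F).comp (algebraMap (ZMod 2) F))
        (algebraMap (ZMod 2) F)) x)
    obtain ⟨k, hk⟩ := (FiniteField.bijective_frobeniusAlgEquivOfAlgebraic_pow (ZMod 2) F).2 s
    refine ⟨k, RingEquiv.ext fun x => ?_⟩
    have h3 : ((frobeniusEquiv F 2) ^ (k : ℕ)) x = x ^ 2 ^ (k : ℕ) := by
      induction (k : ℕ) with
      | zero => simp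
      | succ j ih =>
        rw [pow_succ', RingAut.mul_apply, ih, frobeniusEquiv_apply, frobenius_def, ← pow_mul,
          ← pow_succ]
    have h4 := DFunLike.congr_fun hk x
    simp only [AlgEquiv.coe_pow] at h4
    rw [h3]
    calc σ x = s x := rfl
      _ = x ^ 2 ^ (k : ℕ) := by
        rw [← h4, FiniteField.coe_frobeniusAlgEquivOfAlgebraic, pow_iterate, ZMod.card]
  have hgen : ∀ α, q α ∈ Subgroup.zpowers (q gamP) := by
    intro α
    have hbase : ∀ (g : Cfsg.GSp 2 F) (σ : F ≃+* F), q (cS g * fS σ) ∈ Subgroup.zpowers (q gamP) := by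
      intro g σ
      have hin : (cS g : MulAut (Cfsg.PSp 2 F)) ∈ Cfsg.Inn (Cfsg.PSp 2 F) :=
        inndiag_eq_inn (m := 2) (by omega) h2 ▸ (inndiag_eq (m := 2) (F := F) ▸ ⟨g, rfl⟩)
      obtain ⟨k, rfl⟩ := hfrob σ
      rw [map_mul, show q (cS g) = 1 from (QuotientGroup.eq_one_iff _).mpr hin, one_mul, map_pow,
        map_pow, ← gamP_sq, hg2]
      exact pow_mem (pow_mem (Subgroup.mem_zpowers _) 2) k
    rcases HI_or α with h | h
    · obtain ⟨g, σ, rfl⟩ := aut_decomp_of_HI le_rfl α h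
      exact hbase g σ
    · obtain ⟨g, σ, hgs⟩ := aut_decomp_of_HI le_rfl _ h
      have : α = gamP * (cS g * fS σ) := by rw [← hgs, mul_inv_cancel_left]
      rw [this, map_mul]
      exact mul_mem (Subgroup.mem_zpowers _) (hbase g σ)
  refine ⟨⟨⟨q gamP, fun x => ?_⟩⟩, ?_⟩
  · obtain ⟨α, rfl⟩ := QuotientGroup.mk'_surjective _ x
    exact hgen α
  · have h1 := Subgroup.card_eq_card_quotient_mul_card_subgroup (Cfsg.Inn (Cfsg.PSp 2 F))
    have hodd : Nat.gcd 2 (2 ^ f - 1) = 1 := by
      have : ¬ 2 ∣ 2 ^ f - 1 := by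
        have := dvd_pow_self 2 (by omega : f ≠ 0)
        have := Nat.one_le_two_pow (n := f)
        omega
      exact Nat.prime_two.coprime_iff_not_dvd.mpr this
    rw [card_aut4 hF, hodd, mul_one, card_inn (m := 2) (by omega)] at h1
    exact (Nat.eq_of_mul_eq_mul_right Nat.card_pos h1).symm


/-- Outer automorphism group of PSp_4(q) for q = 2^f even: it is cyclic of order 2f, generated by the class of the exceptional (graph-field) automorphism whose square is the Frobenius field automorphism. -/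
theorem result {F : Type*} [Field F] [Fintype F] {f : ℕ} (hf : 1 ≤ f) (hF : Fintype.card F = 2 ^ f) : IsCyclic (Cfsg.Out (Cfsg.PSp 2 F)) ∧ Nat.card (Cfsg.Out (Cfsg.PSp 2 F)) = 2 * f := by
  haveI : Fact (Nat.Prime 2) := ⟨Nat.prime_two⟩
  haveI : CharP F 2 := charP_of_card_eq_prime_pow hF
  exact main hf hF

end Cfsg.Agent.S2600
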