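import Cfsg.Statements.S2601
import Cfsg.Agent.Lib.Small.PSLn.Out

set_option autoImplicit false
open Cfsg

namespace Cfsg.Agent.S2601

open Cfsg.Agent.Small.PSLn

/-- Structure of the outer automorphism group of PSL_n(q), n ≥ 3, q = p^f: it has a normal cyclic subgroup of order gcd(n, q − 1) (the diagonal automorphisms) whose quotient is the direct product of a cyclic group of order f (field automorphisms) and a group of order 2 (the inverse-transpose graph automorphism). -/
theorem result {F : Type*} [Field F] [Fintype F] {p f n : ℕ} [Fact p.Prime] (hf : 1 ≤ f) (hF : Fintype.card F = p ^ f) (hn : 3 ≤ n) : ∃ φ : Cfsg.Out (Matrix.ProjectiveSpecialLinearGroup (Fin n) F) →* Multiplicative (ZMod f × ZMod 2), Function.Surjective φ ∧ IsCyclic φ.ker ∧ Nat.card φ.ker = Nat.gcd n (p ^ f - 1) := by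
  classical
  have : NeZero n := ⟨by omega⟩
  let G := Matrix.ProjectiveSpecialLinearGroup (Fin n) F
  obtain ⟨e⟩ := fieldAut_equiv hF
  obtain ⟨Θ, hΘ, hker⟩ := exists_theta (n := n) (F := F) hn
  have hinn : Inn G ≤ Θ.ker := by
    rintro _ ⟨k, rfl⟩
    obtain ⟨A, rfl⟩ := pr_surjective k
    rw [hker, ← conjP_toGL]
    exact ⟨_, rfl⟩
  let Θ' : Cfsg.Out G →* (F ≃+* F) × Multiplicative (ZMod 2) := QuotientGroup.lift (Inn G) Θ hinn
  let E : (F ≃+* F) × Multiplicative (ZMod 2) ≃* Multiplicative (ZMod f × ZMod 2) :=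
    (e.prodCongr (MulEquiv.refl _)).trans
      (MulEquiv.prodMultiplicative (G := ZMod f) (H := ZMod 2)).symm
  have hsurj : Function.Surjective Θ' := fun x => ⟨QuotientGroup.mk _, hΘ 1 x.1 x.2⟩
  let φ : Cfsg.Out G →* Multiplicative (ZMod f × ZMod 2) := E.toMonoidHom.comp Θ'
  refine ⟨φ, E.surjective.comp hsurj, ?_⟩
  let δ : Fˣ →* Cfsg.Out G := (QuotientGroup.mk' (Inn G)).comp (conjP.comp dGL)
  have hδ : δ.range = φ.ker := by
    apply le_antisymm
    · rintro _ ⟨t, rfl⟩
      rw [MonoidHom.mem_ker]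
      have h1 : conjP (dGL t) ∈ Θ.ker := hker ▸ ⟨_, rfl⟩
      change E (Θ (conjP (dGL t))) = 1
      rw [MonoidHom.mem_ker.mp h1, map_one]
    · intro x hx
      obtain ⟨α, rfl⟩ := QuotientGroup.mk'_surjective _ x
      have h1 : Θ α = 1 := E.map_eq_one_iff.mp hx
      have h2 : α ∈ (conjP (n := n) (F := F)).range := hker ▸ MonoidHom.mem_ker.mpr h1
      obtain ⟨g, rfl⟩ := h2
      refine ⟨Matrix.GeneralLinearGroup.det g, ?_⟩
      change QuotientGroup.mk (conjP (dGL _)) = QuotientGroup.mk (conjP g)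
      rw [QuotientGroup.eq, ← map_inv, ← map_mul, inner_iff_det, map_mul, map_inv, det_dGL]
      simp
  have hδker : δ.ker = (powMonoidHom n : Fˣ →* Fˣ).range := by
    ext t
    rw [MonoidHom.mem_ker]
    change (QuotientGroup.mk (conjP (dGL t)) : Cfsg.Out G) = 1 ↔ _
    rw [QuotientGroup.eq_one_iff, inner_iff_det, det_dGL]
  rw [← hδ]
  refine ⟨isCyclic_of_surjective δ.rangeRestrict δ.rangeRestrict_surjective, ?_⟩
  rw [← Nat.card_congr (QuotientGroup.quotientKerEquivRange δ).toEquiv, ← Subgroup.index_eq_card,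
    hδker, IsCyclic.index_powMonoidHom_range, Nat.card_units, Nat.card_eq_fintype_card, hF,
    Nat.gcd_comm]

end Cfsg.Agent.S2601
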