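import Cfsg.Statements.S2603
import Cfsg.Agent.Lib.Small.PSUn.Out
import Cfsg.Agent.Lib.Classical.UnitaryForm

set_option autoImplicit false
open Cfsg

namespace Cfsg.Agent.S2603

/-- Structure of the outer automorphism group of PSU_n(q), n ≥ 3, (n, q) ≠ (3, 2), q = p^f, realised over the field with q² elements: it has a normal cyclic subgroup of order gcd(n, q + 1) (diagonal automorphisms) with cyclic quotient of order 2f (generated by the Frobenius field automorphism of the field with q² elements, whose f-th power is the graph automorphism). -/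
theorem result {K : Type*} [Field K] [Fintype K] {p f q n : ℕ} [Fact p.Prime] (hf : 1 ≤ f) (hq : q = p ^ f) (hK : Fintype.card K = q ^ 2) (hn : 3 ≤ n) (h32 : ¬ (n = 3 ∧ q = 2)) : ∃ φ : Cfsg.Out (Cfsg.PSU n K q) →* Multiplicative (ZMod (2 * f)), Function.Surjective φ ∧ IsCyclic φ.ker ∧ Nat.card φ.ker = Nat.gcd n (q + 1) := by
  classical
  obtain ⟨p', e', τ, -, -, -, -, hτ⟩ := Cfsg.Agent.Classical.exists_usigma hK
  letI : StarRing K := Cfsg.Agent.Small.Hermitian.starRingOfInvolution (τ : K →+* K) hτ.involutive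
  have hstar : ∀ x : K, star x = x ^ q := fun x => hτ.apply_eq x
  obtain ⟨e⟩ := Cfsg.Agent.Small.PSLn.fieldAut_equiv (F := K) (p := p) (f := 2 * f)
    (by rw [hK, hq, ← pow_mul, mul_comm])
  obtain ⟨Θ, hΘ, hker⟩ := Cfsg.Agent.Small.PSUn.exists_theta hstar hK hn h32
  have hle : Cfsg.Inn (Cfsg.PSU n K q) ≤ Θ.ker := by
    rw [hker, ← Cfsg.Agent.Small.PSUn.inndiag_eq]
    exact Cfsg.Agent.Small.PSUn.inn_le_inndiag
  let Θ' : Cfsg.Out (Cfsg.PSU n K q) →* (K ≃+* K) :=
    QuotientGroup.lift (Cfsg.Inn (Cfsg.PSU n K q)) Θ hle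
  let φ : Cfsg.Out (Cfsg.PSU n K q) →* Multiplicative (ZMod (2 * f)) := e.toMonoidHom.comp Θ'
  refine ⟨φ, e.surjective.comp fun σ => ⟨QuotientGroup.mk _, hΘ 1 σ⟩, ?_⟩
  let δ : Cfsg.GU n K q →* Cfsg.Out (Cfsg.PSU n K q) :=
    (QuotientGroup.mk' _).comp Cfsg.Agent.Small.PSUn.cU
  have hker1 : (Cfsg.Agent.Small.PSUn.Delta (n := n) hstar).ker = δ.ker := by
    ext g
    rw [MonoidHom.mem_ker, MonoidHom.mem_ker, ← Cfsg.Agent.Small.PSUn.inn_iff_Delta hstar hK hn]
    exact (QuotientGroup.eq_one_iff _).symm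
  have hδ : δ.range = φ.ker := by
    apply le_antisymm
    · rintro _ ⟨g, rfl⟩
      change e (Θ (Cfsg.Agent.Small.PSUn.cU g)) = 1
      rw [MonoidHom.mem_ker.mp (hker ▸ ⟨g, rfl⟩ : Cfsg.Agent.Small.PSUn.cU g ∈ Θ.ker), map_one]
    · intro x hx
      obtain ⟨α, rfl⟩ := QuotientGroup.mk'_surjective _ x
      have h1 : Θ α = 1 := e.map_eq_one_iff.mp hx
      have h2 : α ∈ (Cfsg.Agent.Small.PSUn.cU (n := n) (F := K) (q := q)).range :=
        hker ▸ MonoidHom.mem_ker.mpr h1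
      obtain ⟨g, rfl⟩ := h2
      exact ⟨g, rfl⟩
  have hsurj : Function.Surjective (Cfsg.Agent.Small.PSUn.Delta (n := n) hstar) :=
    (QuotientGroup.mk'_surjective _).comp
      (Cfsg.Agent.Small.PSUn.detU_surjective hstar hn)
  let E := ((QuotientGroup.quotientKerEquivOfSurjective _ hsurj).symm.trans
    (QuotientGroup.quotientMulEquivOfEq hker1)).trans (QuotientGroup.quotientKerEquivRange δ)
  rw [← hδ]
  refine ⟨isCyclic_of_surjective E.toMonoidHom E.surjective, ?_⟩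
  rw [← Nat.card_congr E.toEquiv, ← Subgroup.index_eq_card,
    Cfsg.Agent.Small.PSUn.index_pow hK]

end Cfsg.Agent.S2603
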