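import Cfsg.Statements.S2604
import Cfsg.Agent.Lib.Small.OrthAut.Out
import Cfsg.Agent.S0816

set_option autoImplicit false
open Cfsg

namespace Cfsg.Agent.S2604

open Cfsg.Agent.Small.OrthAut


/-- Outer automorphism group of the simple orthogonal group Ω_(2m+1)(q), m ≥ 3, q = p^f odd: it is the direct product of a group of order 2 (diagonal automorphisms, from SO) and a cyclic group of order f (field automorphisms). -/
theorem result {F : Type*} [Field F] [Fintype F] {p f m : ℕ} [Fact p.Prime] (hf : 1 ≤ f) (hF : Fintype.card F = p ^ f) (hp : p ≠ 2) (hm : 3 ≤ m) : Nonempty (Cfsg.Out (Cfsg.POmega F (Cfsg.quadFormOdd m F)) ≃* Multiplicative (ZMod 2 × ZMod f)) := by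
  rw [← Cfsg.Agent.Classical.OOmega.coe_odd m]
  have hodd : Odd p := (Fact.out : p.Prime).odd_of_ne_two hp
  have hodd' : Odd (Fintype.card F) := hF ▸ hodd.pow
  have h2 := Cfsg.Agent.Classical.OOmega.two_ne_of_odd hodd'
  have S := setup_odd h2 hm
  haveI : IsSimpleGroup (Cfsg.POmega F ⇑(qOdd F m)) :=
    Cfsg.Agent.Classical.OOmega.simple_standard (Cfsg.Agent.Classical.OOmega.pnd_line h2) hm
  have hcard : Nat.card (Cfsg.Out (Cfsg.POmega F ⇑(qOdd F m))) = 2 * f := card_out_eq S (by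
    have h := Cfsg.Agent.S0816.result p f hf hF hodd m hm
    rwa [← Cfsg.Agent.Classical.OOmega.coe_odd m] at h)
  have hL := noLag_qOdd h2 m
  have hK : Nat.card (↥(Cfsg.Agent.Small.Orth.GO ⇑(qOdd F m)) ⧸ Cfsg.Agent.Small.Orth.innSub (qOdd F m)) = 2 := by
    rw [card_out_ext S hL (sigma_odd m), card_fieldAut hF] at hcard
    exact mul_right_cancel₀ (show f ≠ 0 by omega) hcard
  have hco : ∀ (σ : F ≃+* F) (x : Unit ⊕ (Fin m ⊕ Fin m) → F),
      qOdd F m (fun i => σ (x i)) = σ (qOdd F m x) := fun σ x => by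
    simp [Cfsg.Agent.Classical.OOmega.coe_odd, Cfsg.quadFormOdd, map_sum, map_mul, map_add, map_pow]
  let t : RingAut F →* Cfsg.Out (Cfsg.POmega F ⇑(qOdd F m)) := (outHom (qOdd F m)).comp
    (MonoidHom.mk' (fun σ => ofSemi (coordSemi σ (hco σ))) fun σ τ => Subtype.ext (Prod.ext (Equiv.ext fun _ => rfl) rfl))
  obtain ⟨e⟩ := split_central (outSigma S hL) (simOut (qOdd F m)) simOut_injective (range_simOut S hL) t
    (fun σ => outSigma_apply S hL _) fun k σ => commute_of_card_two (outSigma S hL).ker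
      (by rw [← range_simOut S hL, ← Nat.card_congr (MonoidHom.ofInjective (simOut_injective (Q := qOdd F m))).toEquiv,
        hK]) (range_simOut S hL ▸ ⟨k, rfl⟩) _
  haveI := isCyclic_of_prime_card (p := 2) hK
  obtain ⟨e'⟩ := Cfsg.Agent.Small.PSLn.fieldAut_equiv hF
  exact ⟨e.trans (((mulEquivOfCyclicCardEq (G' := Multiplicative (ZMod 2)) (by rw [hK]; simp)).prodCongr e').trans
    (MulEquiv.prodMultiplicative _ _).symm)⟩

end Cfsg.Agent.S2604
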