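import Cfsg.Statements.S2605
import Cfsg.Agent.Lib.Small.OrthAut.MinusFrob
import Cfsg.Agent.S0818

set_option autoImplicit false
set_option linter.style.haveILetI false
open Cfsg

namespace Cfsg.Agent.S2605

open Cfsg.Agent.Small.OrthAut Cfsg.Agent.Classical QuadraticMap Matrix
open Cfsg.Agent.Small.Orth (GO incl innSub qMinus prodRf)

/-- A reflection is not inner in characteristic two. -/
theorem refl_notMem {F : Type*} [Field F] [Fintype F] {f : ℕ} (hF : Fintype.card F = 2 ^ f) {ι : Type} [Fintype ι]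
    [DecidableEq ι] {Q : QuadraticForm F (ι → F)} (S : Setup Q) (v : ι → F) (hv : Q v = 1) (g : ↥(GO ⇑Q))
    (hg : ∀ y, g.1.1 *ᵥ y = (prodRf Q [v]).1 y) : g ∉ innSub Q := by
  haveI : CharP F 2 := charP_of_card_eq_prime_pow hF
  rintro ⟨_, ⟨h, hh, rfl⟩, he⟩
  have hk : goHom Q (g * (incl ⇑Q h)⁻¹) ∈ (autHom Q).ker := by
    rw [MonoidHom.mem_ker, autHom_goHom, map_mul, map_inv, he, mul_inv_cancel]
  obtain ⟨-, c, -, hc⟩ := (mem_ker_autHom S _).1 hk
  have hgx : ∀ x, g.1.1 *ᵥ x = c • (h.1.1 *ᵥ x) := fun x => by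
    rw [← hc, goHom_apply, Matrix.mulVec_mulVec]
    congr 1
    exact (congrArg (fun y : ↥(GO ⇑Q) => y.1.1) (inv_mul_cancel_right g (incl ⇑Q h))).symm
  have hcc : c * c = 1 := by
    have h1 : Q (g.1.1 *ᵥ v) = 1 := by rw [hg]; exact ((prodRf Q [v]).2 v).trans hv
    rw [hgx, QuadraticMap.map_smul, show Q (h.1.1 *ᵥ v) = Q v from h.2 v v, hv, smul_eq_mul, mul_one] at h1
    exact h1
  have hc1 : c = 1 := by
    rcases mul_self_eq_one_iff.1 hcc with e | e
    · exact e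
    · exact e.trans (CharTwo.neg_eq 1)
  have := ((Cfsg.Agent.Small.Orth.mem_omega rfl S.pnd h [v] (by simp [hv]) fun x => by rw [← hg, hgx, hc1, one_smul]).1 hh).1
  simp at this


/-- Outer automorphism group of PΩ⁻_2m(q), m ≥ 4, q = 2^f: cyclic of order 2f, generated by a semilinear map inducing the Frobenius automorphism of the field (its f-th power is a graph automorphism, an orthogonal transvection). -/
theorem result {F : Type*} [Field F] [Fintype F] {f m : ℕ} (hf : 1 ≤ f) (hF : Fintype.card F = 2 ^ f) (hm : 4 ≤ m) (a b : F) (hab : ∀ z₁ z₂ : F, z₁ ^ 2 + a * z₁ * z₂ + b * z₂ ^ 2 = 0 → z₁ = 0 ∧ z₂ = 0) : IsCyclic (Cfsg.Out (Cfsg.POmega F (Cfsg.quadFormMinus (m - 1) F a b))) ∧ Nat.card (Cfsg.Out (Cfsg.POmega F (Cfsg.quadFormMinus (m - 1) F a b))) = 2 * f := by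
  obtain ⟨j, rfl⟩ : ∃ j, m = j + 1 := ⟨m - 1, by omega⟩
  rw [Nat.add_sub_cancel, ← OOmega.coe_minus j a b]
  haveI : Fact (Nat.Prime 2) := ⟨Nat.prime_two⟩
  have S := setup_minus (F := F) (show 3 ≤ j by omega) hab
  have hL := noLag_qMinus (m := j) hab
  haveI : IsSimpleGroup (Cfsg.POmega F ⇑(qMinus j a b)) :=
    OOmega.simple_standard (OOmega.pnd_plane hab) (show 3 ≤ j by omega)
  have hcard : Nat.card (Cfsg.Out (Cfsg.POmega F ⇑(qMinus j a b))) = 2 * f := card_out_eq S (by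
    have h := Cfsg.Agent.S0818.result 2 f hf hF (j + 1) hm a b hab
    rwa [if_pos rfl, Nat.add_sub_cancel, ← OOmega.coe_minus j a b] at h)
  obtain ⟨σ, hσ, hσf, hord, -⟩ := exists_frob hf hF
  obtain ⟨l, g, hl, hlf, hg⟩ := frob_minus_two (m := j) hf hF hab σ hσ hσf
  obtain ⟨x, hx⟩ : ∃ x, x = outHom (qMinus j a b) (ofSemi l) := ⟨_, rfl⟩
  have hne : x ^ f ≠ 1 := by
    rw [hx, ← map_pow, hlf, Ne, outHom_goHom]
    exact refl_notMem hF S _ (by rw [Cfsg.Agent.Small.Orth.qMinus_apply]; simp) g hg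
  have hdvd : f ∣ orderOf x := by
    rw [← hord, show σ = outSigma S hL x by rw [hx, outSigma_apply]; exact hl.symm]
    exact orderOf_map_dvd _ _
  have hox : orderOf x = 2 * f := by
    obtain ⟨k, hk⟩ := hdvd
    have h1 : f * k ∣ f * 2 := hk ▸ mul_comm 2 f ▸ hcard ▸ orderOf_dvd_natCard x
    rcases (Nat.dvd_prime Nat.prime_two).1 (Nat.dvd_of_mul_dvd_mul_left (by omega) h1) with rfl | rfl
    · exact absurd (by rw [show f = orderOf x by omega]; exact pow_orderOf_eq_one x) hne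
    · omega
  haveI : Finite (Cfsg.Out (Cfsg.POmega F ⇑(qMinus j a b))) := Nat.finite_of_card_ne_zero (by omega)
  exact ⟨isCyclic_of_orderOf_eq_card x (hox.trans hcard.symm), hcard⟩

end Cfsg.Agent.S2605
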