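import Cfsg.Statements.S2606
import Cfsg.Agent.Lib.Small.OrthAut.MinusFrob
import Cfsg.Agent.Lib.Small.OrthAut.SignConj
import Cfsg.Agent.S0818

set_option autoImplicit false
set_option linter.style.haveILetI false
set_option maxHeartbeats 1000000
open Cfsg

namespace Cfsg.Agent.S2606

open Cfsg.Agent.Small.OrthAut Cfsg.Agent.Classical QuadraticMap Matrix
open Cfsg.Agent.Small.Orth (GO innSub qMinus NegMem mult SimSetup omegaSub rho)

theorem even_of_case {q : ℕ} (hq : Odd q) (m : ℕ) (h : ¬ (q % 4 = 3 ∧ Odd m)) : Even (m * (q - 1) / 2) := by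
  obtain ⟨k, rfl⟩ := hq
  rw [Nat.add_sub_cancel, show m * (2 * k) = 2 * (m * k) by ring, Nat.mul_div_cancel_left _ two_pos, Nat.even_mul]
  by_contra h'
  push Not at h'
  obtain ⟨r, rfl⟩ := Nat.not_even_iff_odd.1 h'.2
  exact h ⟨by omega, Nat.not_even_iff_odd.1 h'.1⟩

/-- With `-1` in `Ω` the similitude classes form a dihedral group. -/
theorem exists_dihedral {F : Type*} [Field F] [Finite F] {ι : Type} [Fintype ι] [DecidableEq ι]
    {Q : QuadraticForm F (ι → F)} {N : ℕ} (S : SimSetup Q N) (hneg : NegMem Q) :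
    Nonempty ((↥(GO ⇑Q) ⧸ innSub Q) ≃* DihedralGroup 4) := by
  obtain ⟨φ, hφ, hker⟩ := S.pgo_inn.2 hneg
  let r : ↥(GO ⇑Q) →* ↥(Cfsg.pgoAut F ⇑Q) :=
    (rho ⇑Q).codRestrict _ fun g => Cfsg.Agent.Small.Orth.pgoAut_eq (q := ⇑Q) ▸ ⟨g, rfl⟩
  have hr : Function.Surjective r := fun y => by
    obtain ⟨y, hy⟩ := y
    rw [Cfsg.Agent.Small.Orth.pgoAut_eq] at hy
    obtain ⟨g, rfl⟩ := hy
    exact ⟨g, rfl⟩
  have hk : (φ.comp r).ker = innSub Q := by
    ext g
    rw [MonoidHom.mem_ker, MonoidHom.comp_apply, ← MonoidHom.mem_ker, hker, Subgroup.mem_subgroupOf, Subgroup.mem_comap,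
      Cfsg.Agent.Small.Orth.inn_eq]
    rfl
  exact ⟨(QuotientGroup.quotientMulEquivOfEq hk.symm).trans
    (QuotientGroup.quotientKerEquivOfSurjective _ (hφ.comp hr))⟩


/-- Outer automorphism group of PΩ⁻_2m(q), m ≥ 4, q = p^f odd: it is dihedral of order 8 times cyclic of order f when q ≡ 3 (mod 4) and m is odd, and otherwise the direct product of a group of order 2 with a cyclic group of order 2f. -/
theorem result {F : Type*} [Field F] [Fintype F] {p f m : ℕ} [Fact p.Prime] (hf : 1 ≤ f) (hF : Fintype.card F = p ^ f) (hp : p ≠ 2) (hm : 4 ≤ m) (a b : F) (hab : ∀ z₁ z₂ : F, z₁ ^ 2 + a * z₁ * z₂ + b * z₂ ^ 2 = 0 → z₁ = 0 ∧ z₂ = 0) : if p ^ f % 4 = 3 ∧ Odd m then Nonempty (Cfsg.Out (Cfsg.POmega F (Cfsg.quadFormMinus (m - 1) F a b)) ≃* DihedralGroup 4 × Multiplicative (ZMod f)) else Nonempty (Cfsg.Out (Cfsg.POmega F (Cfsg.quadFormMinus (m - 1) F a b)) ≃* Multiplicative (ZMod 2 × ZMod (2 * f))) := by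
  obtain ⟨j, rfl⟩ : ∃ j, m = j + 1 := ⟨m - 1, by omega⟩
  rw [Nat.add_sub_cancel, ← OOmega.coe_minus j a b]
  have hpodd : Odd p := (Fact.out : p.Prime).odd_of_ne_two hp
  have hodd : Odd (Fintype.card F) := hF ▸ hpodd.pow
  have h2 := OOmega.two_ne_of_odd hodd
  have T := setup_minus (F := F) (show 3 ≤ j by omega) hab
  have S := Cfsg.Agent.Small.Orth.setupMinus hodd (show 3 ≤ j by omega) hab
  have hL := noLag_qMinus (m := j) hab
  haveI : IsSimpleGroup (Cfsg.POmega F ⇑(qMinus j a b)) :=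
    OOmega.simple_standard (OOmega.pnd_plane hab) (show 3 ≤ j by omega)
  have hiff : NegMem (qMinus j a b) ↔ p ^ f % 4 = 3 ∧ Odd (j + 1) := by
    rw [Cfsg.Agent.Small.Orth.negMem_minus hodd hab, hF, Nat.odd_add_one, Nat.not_odd_iff_even, and_comm]
  haveI : NeZero f := ⟨by omega⟩
  haveI : NeZero (2 * f) := ⟨by omega⟩
  obtain ⟨σ, hσ, hσf, hord, hgen⟩ := exists_frob hf hF
  obtain ⟨l, g, hl, -, hlf, hgQ, hgd⟩ := frob_minus_odd (m := j) hF h2 hab σ hσ hσf
  have hgm : mult g = 1 := Units.ext (S.mult_eq g fun y => by rw [Units.val_one, one_mul]; exact hgQ y)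
  have hg1 : S.multSign g = 1 := (S.multSign_eq_one g).2 (by rw [hgm]; exact IsSquare.one)
  have hg2 : S.delta g ≠ 1 := fun h => S.neg_ne_one (by
    have h' := (S.delta_eq_one g).1 h
    rwa [hgd, hgm, Units.val_one, one_pow] at h')
  obtain ⟨x, hx⟩ : ∃ x, x = outHom (qMinus j a b) (ofSemi l) := ⟨_, rfl⟩
  have hxf : x ^ f = simOut _ (QuotientGroup.mk g) := by rw [hx, ← map_pow, hlf, simOut_mk]
  have hxσ : outSigma T hL x = σ := by rw [hx, outSigma_apply]; exact hl
  split_ifs with hc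
  · -- the dihedral case
    have hneg : NegMem (qMinus j a b) := hiff.2 hc
    have hfodd : Odd f := by
      by_contra h
      obtain ⟨k, rfl⟩ := Nat.not_odd_iff_even.1 h
      have h1 := hc.1
      rw [← two_mul, pow_mul, Nat.pow_mod] at h1
      have h3 : p ^ 2 % 4 = 1 := by
        obtain ⟨r, rfl⟩ := hpodd
        ring_nf; omega
      rw [h3, one_pow] at h1
      omega
    obtain ⟨D, hD, -⟩ := S.exists_D
    obtain ⟨A, B, fr⟩ := S.exists_frame hneg D hD
    have hx2f : (x ^ 2) ^ f = 1 := by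
      rw [← pow_mul, mul_comm, pow_mul, hxf, ← map_pow, pow_two]
      rcases fr.odd_class g hg1 hg2 with e | e <;> rw [e]
      · rw [fr.aa, map_one]
      · rw [fr.bb, map_one]
    have hσ2f : (σ ^ 2) ^ f = 1 := by rw [← pow_mul, mul_comm, pow_mul, hσf, one_pow]
    have hbij : Function.Bijective (cycHom (σ ^ 2) hσ2f) := by
      refine (Nat.bijective_iff_surjective_and_card _).2 ⟨fun τ => ?_, by
        rw [Nat.card_congr Multiplicative.toAdd, Nat.card_zmod, card_fieldAut hF]⟩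
      obtain ⟨k, rfl⟩ := Subgroup.mem_zpowers_iff.1 (show τ ∈ Subgroup.zpowers σ by rw [hgen]; trivial)
      obtain ⟨r, hr⟩ := hfodd
      refine ⟨Multiplicative.ofAdd (((r + 1) * k : ℤ) : ZMod f), ?_⟩
      rw [cycHom_apply, ← _root_.zpow_natCast σ 2, ← _root_.zpow_mul,
        show ((2 : ℕ) : ℤ) * ((r + 1) * k) = (f : ℤ) * k + k by rw [hr]; push_cast; ring, _root_.zpow_add, _root_.zpow_mul,
        _root_.zpow_natCast σ f, hσf, _root_.one_zpow, one_mul]
    let e₁ : Multiplicative (ZMod f) ≃* RingAut F := MulEquiv.ofBijective _ hbij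
    have hker : (e₁.symm.toMonoidHom.comp (outSigma T hL)).ker = (outSigma T hL).ker := by
      ext y
      simp
    obtain ⟨e⟩ := split_central (e₁.symm.toMonoidHom.comp (outSigma T hL)) (simOut (qMinus j a b)) simOut_injective
      ((range_simOut T hL).trans hker.symm) (cycHom (x ^ 2) hx2f) (fun y => by
        obtain ⟨k, hk⟩ := ZMod.intCast_surjective y.toAdd
        have hy : y = Multiplicative.ofAdd (k : ZMod f) := by rw [hk]; rfl
        apply e₁.injective
        show e₁ (e₁.symm (outSigma T hL _)) = cycHom (σ ^ 2) hσ2f y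
        rw [MulEquiv.apply_symm_apply, hy, cycHom_apply, cycHom_apply, map_zpow, map_pow, hxσ])
      (fun k y => by
        obtain ⟨n, hn⟩ := cycHom_mem (x ^ 2) hx2f y
        rw [hn]
        exact (hx ▸ commute_sq_simOut S l k).zpow_right n)
    obtain ⟨e₂⟩ := exists_dihedral S hneg
    exact ⟨e.trans (e₂.prodCongr (MulEquiv.refl _))⟩
  · -- the abelian case
    have hneg : ¬ NegMem (qMinus j a b) := fun h => hc (hiff.1 h)
    have hcard : Nat.card (Cfsg.Out (Cfsg.POmega F ⇑(qMinus j a b))) = 4 * f := card_out_eq T (by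
      have h := Cfsg.Agent.S0818.result p f hf hF (j + 1) hm a b hab
      rwa [if_neg hp, if_pos (even_of_case (hpodd.pow (n := f)) (j + 1) hc), Nat.add_sub_cancel,
        ← OOmega.coe_minus j a b] at h)
    obtain ⟨D, hD, hD2⟩ := S.exists_D
    have hD1 : S.multSign D ≠ 1 := fun h => hD ((S.multSign_eq_one D).1 h)
    obtain ⟨d, hd⟩ : ∃ d, d = simOut (qMinus j a b) (QuotientGroup.mk D) := ⟨_, rfl⟩
    have hone : ∀ g : ↥(GO ⇑(qMinus j a b)), S.multSign g = 1 → S.delta g = 1 →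
        (QuotientGroup.mk g : ↥(GO ⇑(qMinus j a b)) ⧸ innSub (qMinus j a b)) = 1 := fun g h1 h3 => by
      rw [← QuotientGroup.mk_one]
      exact mk_eq_of_signs S hneg (by rw [h1, map_one]) (by rw [h3, map_one])
    have hsq : ∀ g : ↥(GO ⇑(qMinus j a b)),
        simOut (qMinus j a b) (QuotientGroup.mk g) ^ 2 = 1 := fun g => by
      rw [← map_pow, ← QuotientGroup.mk_pow, hone _ (by rw [map_pow]; exact Int.units_sq _)
        (by rw [map_pow]; exact Int.units_sq _), map_one]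
    have hd2 : d ^ 2 = 1 := hd ▸ hsq D
    have hx2 : x ^ (2 * f) = 1 := by rw [mul_comm, pow_mul, hxf, hsq]
    have hdx : ∀ u v, Commute (cycHom d hd2 u) (cycHom x hx2 v) := fun u v => by
      obtain ⟨i, hi⟩ := cycHom_mem d hd2 u
      obtain ⟨k, hk⟩ := cycHom_mem x hx2 v
      rw [hi, hk]
      exact ((hd ▸ hx ▸ commute_simOut S hneg l (QuotientGroup.mk D)).zpow_left i).zpow_right k
    let Ψ := (cycHom d hd2).noncommCoprod (cycHom x hx2) hdx
    have hmem : ∀ (i k : ℤ), d ^ i * x ^ k ∈ Ψ.range := fun i k =>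
      ⟨(Multiplicative.ofAdd (i : ZMod 2), Multiplicative.ofAdd (k : ZMod (2 * f))), by
        rw [MonoidHom.noncommCoprod_apply, cycHom_apply, cycHom_apply]⟩
    have hdm : d ∈ Ψ.range := by simpa using hmem 1 0
    have hxm : x ∈ Ψ.range := by simpa using hmem 0 1
    have hgm' : simOut (qMinus j a b) (QuotientGroup.mk g) ∈ Ψ.range := hxf ▸ pow_mem hxm f
    have hbij : Function.Bijective Ψ := by
      refine (Nat.bijective_iff_surjective_and_card _).2 ⟨fun y => ?_, by
        rw [hcard, Nat.card_prod, Nat.card_congr Multiplicative.toAdd, Nat.card_congr Multiplicative.toAdd,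
          Nat.card_zmod, Nat.card_zmod]
        ring⟩
      obtain ⟨k, hk⟩ := Subgroup.mem_zpowers_iff.1
        (show outSigma T hL y ∈ Subgroup.zpowers σ by rw [hgen]; trivial)
      obtain ⟨c, hc'⟩ : y * (x ^ k)⁻¹ ∈ (simOut (qMinus j a b)).range := by
        rw [range_simOut T hL, MonoidHom.mem_ker, map_mul, map_inv, map_zpow, hxσ, hk, mul_inv_cancel]
      obtain ⟨h, rfl⟩ := QuotientGroup.mk_surjective c
      rw [show y = simOut (qMinus j a b) (QuotientGroup.mk h) * x ^ k by rw [hc', inv_mul_cancel_right]]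
      refine mul_mem ?_ (zpow_mem hxm k)
      have hneq : ∀ u : ℤˣ, u ≠ 1 → u = -1 := fun u hu => (Int.units_eq_one_or u).resolve_left hu
      rcases Int.units_eq_one_or (S.multSign h) with e1 | e1 <;> rcases Int.units_eq_one_or (S.delta h) with e3 | e3
      · rw [hone h e1 e3, map_one]; exact one_mem _
      · rw [mk_eq_of_signs S hneg (g' := g) (by rw [e1, hg1]) (by rw [e3, hneq _ hg2])]
        exact hgm'
      · rw [mk_eq_of_signs S hneg (g' := D) (by rw [e1, hneq _ hD1]) (by rw [e3, hD2])]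
        exact hd ▸ hdm
      · rw [mk_eq_of_signs S hneg (g' := D * g) (by rw [e1, map_mul, hneq _ hD1, hg1, mul_one])
          (by rw [e3, map_mul, hD2, hneq _ hg2, one_mul]), QuotientGroup.mk_mul, map_mul]
        exact mul_mem (hd ▸ hdm) hgm'
    exact ⟨(MulEquiv.ofBijective Ψ hbij).symm.trans (MulEquiv.prodMultiplicative _ _).symm⟩

end Cfsg.Agent.S2606
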