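import Cfsg.Statements.S2607
import Cfsg.Agent.Lib.Small.OrthAut.PlusOut

set_option autoImplicit false
open Cfsg

namespace Cfsg.Agent.S2607

/-- Outer automorphism group of PΩ⁺_2m(q), q = 2^f: for m ≥ 5 it is the direct product of a group of order 2 (graph automorphism, an orthogonal transvection) and a cyclic group of order f (field automorphisms); for m = 4 triality enlarges it to S_3 × C_f. -/
theorem result {F : Type*} [Field F] [Fintype F] {f m : ℕ} (hf : 1 ≤ f) (hF : Fintype.card F = 2 ^ f) (hm : 4 ≤ m) : if m = 4 then Nonempty (Cfsg.Out (Cfsg.POmega F (Cfsg.quadFormPlus m F)) ≃* Equiv.Perm (Fin 3) × Multiplicative (ZMod f)) else Nonempty (Cfsg.Out (Cfsg.POmega F (Cfsg.quadFormPlus m F)) ≃* Multiplicative (ZMod 2 × ZMod f)) := by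
  haveI : Fact (Nat.Prime 2) := ⟨Nat.prime_two⟩
  split_ifs with h4
  · subst h4
    obtain ⟨e⟩ := Cfsg.Agent.Small.OrthAut.out_plus_four (F := F)
    obtain ⟨e'⟩ := Cfsg.Agent.Small.ChevAut.OutD4.out_two hf hF
    exact ⟨e.trans e'⟩
  · rw [← Cfsg.Agent.Classical.OOmega.coe_plus m]
    have hm3 : 3 ≤ m := by omega
    have T := Cfsg.Agent.Small.OrthAut.setup_plus (F := F) hm3
    have hL := Cfsg.Agent.Small.OrthAut.noLag_plus (F := F) (show 5 ≤ m by omega)
    haveI := Cfsg.Agent.Small.OrthAut.simple_plus (F := F) hm3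
    have hcard : Nat.card (Cfsg.Out (Cfsg.POmega F ⇑(Cfsg.Agent.Small.Orth.qPlus F m))) = 2 * f :=
      Cfsg.Agent.Small.OrthAut.card_out_eq T (by
        have h := Cfsg.Agent.Small.OrthAut.card_mulAut_plus hf hF (show 4 ≤ m by omega)
        rw [if_neg h4, if_pos rfl, one_mul] at h
        rwa [← Cfsg.Agent.Classical.OOmega.coe_plus m] at h)
    rw [Cfsg.Agent.Small.OrthAut.card_out_ext T hL (Cfsg.Agent.Small.OrthAut.sigma_plus m),
      Cfsg.Agent.Small.OrthAut.card_fieldAut hF] at hcard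
    have hK := mul_right_cancel₀ (show f ≠ 0 by omega) hcard
    haveI := isCyclic_of_prime_card (p := 2) hK
    obtain ⟨e⟩ := Cfsg.Agent.Small.OrthAut.out_plus (p := 2) hf hF (show 5 ≤ m by omega)
    exact ⟨e.trans (((mulEquivOfCyclicCardEq (G' := Multiplicative (ZMod 2)) (by rw [hK]; simp)).prodCongr
      (MulEquiv.refl _)).trans (MulEquiv.prodMultiplicative _ _).symm)⟩

end Cfsg.Agent.S2607
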