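import Cfsg.Statements.S2608
import Cfsg.Agent.Lib.Small.OrthAut.PlusOut

set_option autoImplicit false
set_option maxHeartbeats 4000000
open Cfsg

namespace Cfsg.Agent.S2608

/-- Outer automorphism group of PΩ⁺_2m(q), q = p^f odd: for m = 4 it is S_4 × C_f (triality); for m ≥ 5 it is C_2 × C_2 × C_f when q ≡ 3 (mod 4) and m is odd, and D_8 × C_f otherwise. -/
theorem result {F : Type*} [Field F] [Fintype F] {p f m : ℕ} [Fact p.Prime] (hf : 1 ≤ f) (hF : Fintype.card F = p ^ f) (hp : p ≠ 2) (hm : 4 ≤ m) : if m = 4 then Nonempty (Cfsg.Out (Cfsg.POmega F (Cfsg.quadFormPlus m F)) ≃* Equiv.Perm (Fin 4) × Multiplicative (ZMod f)) else if p ^ f % 4 = 3 ∧ Odd m then Nonempty (Cfsg.Out (Cfsg.POmega F (Cfsg.quadFormPlus m F)) ≃* Multiplicative (ZMod 2 × ZMod 2 × ZMod f)) else Nonempty (Cfsg.Out (Cfsg.POmega F (Cfsg.quadFormPlus m F)) ≃* DihedralGroup 4 × Multiplicative (ZMod f)) := by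
  split_ifs with h4 hc
  · subst h4
    obtain ⟨e⟩ := Cfsg.Agent.Small.OrthAut.out_plus_four (F := F)
    obtain ⟨e'⟩ := Cfsg.Agent.Small.ChevAut.OutD4.out_odd hf hF hp
    exact ⟨e.trans e'⟩
  all_goals
    rw [← Cfsg.Agent.Classical.OOmega.coe_plus m]
    have hm3 : 3 ≤ m := by omega
    have hodd : Odd (Fintype.card F) := hF ▸ ((Fact.out : p.Prime).odd_of_ne_two hp).pow
    have h2 := Cfsg.Agent.Classical.OOmega.two_ne_of_odd hodd
    have S := (Cfsg.Agent.Small.OrthAut.evenData_plus (F := F) hm3).sim h2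
    have hn := Cfsg.Agent.Small.Orth.negMem_plus hodd (show 1 ≤ m by omega) (F := F)
    rw [hF] at hn
    obtain ⟨e⟩ := Cfsg.Agent.Small.OrthAut.out_plus (p := p) hf hF (show 5 ≤ m by omega)
    have hq : ∀ {B : Type} [Group B], (∃ φ : ↥(Cfsg.pgoAut F ⇑(Cfsg.Agent.Small.Orth.qPlus F m)) →* B, Function.Surjective φ ∧
        φ.ker = (Cfsg.Inn (Cfsg.POmega F ⇑(Cfsg.Agent.Small.Orth.qPlus F m))).subgroupOf (Cfsg.pgoAut F ⇑(Cfsg.Agent.Small.Orth.qPlus F m))) →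
        Nonempty ((↥(Cfsg.Agent.Small.Orth.GO ⇑(Cfsg.Agent.Small.Orth.qPlus F m)) ⧸ Cfsg.Agent.Small.Orth.innSub (Cfsg.Agent.Small.Orth.qPlus F m)) ≃* B) := by
      intro B _ h
      rw [Cfsg.Agent.Small.Orth.pgoAut_eq, MonoidHom.range_eq_map, Cfsg.Agent.Small.Orth.inn_eq] at h
      obtain ⟨φ, hφ, hker⟩ := h
      obtain ⟨e⟩ := Cfsg.Agent.Small.OrthAut.quot_equiv _ ⊤ (Cfsg.Agent.Small.Orth.innSub (Cfsg.Agent.Small.Orth.qPlus F m)) _ rfl φ hφ hker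
      exact ⟨(Subgroup.topEquiv.symm.trans (MulEquiv.subgroupCongr
        (Subgroup.map_top_of_surjective _ (QuotientGroup.mk'_surjective _)).symm)).trans e⟩
  · obtain ⟨eK⟩ := hq (S.pgo_inn.1 fun h => hn.1 h ⟨hc.2, hc.1⟩)
    exact ⟨(e.trans (eK.prodCongr (MulEquiv.refl _))).trans ((MulEquiv.prodMultiplicative _ _).symm.trans
      (AddEquiv.toMultiplicative AddEquiv.prodAssoc))⟩
  · obtain ⟨eK⟩ := hq (S.pgo_inn.2 (hn.2 fun h => hc ⟨h.2, h.1⟩))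
    exact ⟨e.trans (eK.prodCongr (MulEquiv.refl _))⟩

end Cfsg.Agent.S2608
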