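import Cfsg.Statements.S2610
import Cfsg.Agent.Lib.Small.Orth.Standard
import Cfsg.Agent.Lib.Classical.OrthPOmega
import Cfsg.Agent.Lib.Classical.DiscType

set_option autoImplicit false
open Cfsg

namespace Cfsg.Agent.S2610
open Cfsg.Agent.Small.Orth

/-- For a quadratic form Q on F^n with non-degenerate polar form, F finite of odd order and n ≥ 2 even, the isometry −1 lies in Ω (the commutator subgroup of the orthogonal group) if and only if the discriminant of Q (the determinant of the Gram matrix of its polar form) is a square. -/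
theorem result {F : Type*} [Field F] [Fintype F] (h2 : (2 : F) ≠ 0) {n : ℕ} (hn : 2 ≤ n) (he : Even n) (Q : QuadraticForm F (Fin n → F)) (hQ : (QuadraticMap.polarBilin Q).Nondegenerate) : (∃ g : ↥(Cfsg.isometryGroup F ⇑Q), g ∈ Cfsg.Omega F ⇑Q ∧ ((g : Matrix.GeneralLinearGroup (Fin n) F) : Matrix (Fin n) (Fin n) F) = -1) ↔ IsSquare (Matrix.of (fun i j : Fin n => QuadraticMap.polar ⇑Q (Pi.single i 1) (Pi.single j 1))).det := by
  classical
  open Cfsg.Agent.Classical in
  have hP : OCount.PND Q := ORefl.pnd_of_nondeg hQ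
  open Cfsg.Agent.Classical in
  obtain ⟨b, hb1, hb2⟩ := DiscType.exists_basis (B := QuadraticMap.polarBilin Q) h2
    (LinearMap.BilinForm.isSymm_def.2 fun x y => QuadraticMap.polar_comm ⇑Q x y) hQ
  have hn' : Module.finrank F (Fin n → F) = n := Module.finrank_fin_fun F
  have hpQ : ∀ i, QuadraticMap.polarBilin Q (b i) (b i) = 2 * Q (b i) := fun i =>
    Cfsg.Agent.Classical.ORefl.polar_self_two (b i)
  have hns : ∀ i, Q (b i) ≠ 0 := fun i h0 => hb2 i (by rw [hpQ, h0, mul_zero])
  have key := Cfsg.Agent.Classical.OOmega.negI_mem_iff h2 hP (by rw [hn']; exact hn)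
    (List.ofFn fun i => b i) (fun w hw => by obtain ⟨i, rfl⟩ := List.mem_ofFn.1 hw; exact hns i)
    (by
      rw [List.pairwise_iff_getElem]
      intro i j hi hj hij
      simp only [List.getElem_ofFn]
      exact hb1 _ _ (by simp [Fin.ext_iff]; omega))
    (fun x hx => hP x fun w => by
      rw [← b.sum_repr w, ← QuadraticMap.polarBilin_apply_apply, map_sum]
      refine Finset.sum_eq_zero fun i _ => ?_
      rw [map_smul, QuadraticMap.polarBilin_apply_apply, QuadraticMap.polar_comm,
        hx (b i) (List.mem_ofFn.2 ⟨i, rfl⟩), smul_zero])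
  rw [Cfsg.Agent.Classical.OOmega.exists_neg_iff, key, List.length_ofFn, List.map_ofFn, List.prod_ofFn]
  have hev : Even (Module.finrank F (Fin n → F)) := by rw [hn']; exact he
  simp only [hev, true_and, Function.comp_apply]
  -- the Gram matrix in the orthogonal basis
  set G := Matrix.of (fun i j : Fin n => QuadraticMap.polar ⇑Q (Pi.single i 1) (Pi.single j 1)) with hG
  have hform : ∀ x y : Fin n → F, dotProduct x (G.mulVec y) = QuadraticMap.polar Q x y := by
    intro x y
    have hG' : G = LinearMap.toMatrix₂' F (QuadraticMap.polarBilin Q) := by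
      ext i j; rw [LinearMap.toMatrix₂'_apply]; rfl
    rw [← Matrix.toLinearMap₂'_apply', hG', Matrix.toLinearMap₂'_toMatrix']
    rfl
  obtain ⟨ε, -⟩ : ∃ ε : Fin n ≃ Fin (Module.finrank F (Fin n → F)), True := ⟨finCongr hn'.symm, trivial⟩
  set P : Matrix (Fin n) (Fin n) F := Matrix.of fun k i => b (ε i) k with hPdef
  have hPdet : P.det ≠ 0 := by
    have : P = (Pi.basisFun F (Fin n)).toMatrix (b.reindex ε.symm) := by
      ext k i; simp [hPdef, Module.Basis.toMatrix_apply]
    rw [this]
    exact ((Pi.basisFun F (Fin n)).isUnit_det (b.reindex ε.symm)).ne_zero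
  have hdiag : P.transpose * G * P = Matrix.diagonal fun i => 2 * Q (b (ε i)) := by
    ext i j
    have h1 : (P.transpose * G * P) i j = dotProduct (b (ε i)) (G.mulVec (b (ε j))) := by
      rw [Matrix.mul_assoc]; rfl
    rw [h1, hform]
    rcases eq_or_ne i j with rfl | hij
    · rw [Matrix.diagonal_apply_eq, ← hpQ]; rfl
    · rw [Matrix.diagonal_apply_ne _ hij]
      exact hb1 _ _ (ε.injective.ne hij)
  have hdet := congrArg Matrix.det hdiag
  rw [Matrix.det_mul, Matrix.det_mul, Matrix.det_transpose, Matrix.det_diagonal, Finset.prod_mul_distrib,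
    ε.prod_comp fun i => Q (b i), Finset.prod_const, Finset.card_univ, Fintype.card_fin] at hdet
  rw [show P.det * G.det * P.det = G.det * (P.det * P.det) by ring] at hdet
  rw [← isSquare_mul_iff (he.isSquare_pow (2 : F)) (pow_ne_zero _ h2), mul_comm, ← hdet,
    isSquare_mul_iff (IsSquare.mul_self _) (mul_ne_zero hPdet hPdet)]

end Cfsg.Agent.S2610
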