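import Cfsg.Statements.S2611
import Cfsg.Agent.Lib.Small.Orth.LeviMat
import Cfsg.Agent.Lib.Small.Orth.Sum
import Cfsg.Agent.Lib.Classical.OrthPOmega
import Cfsg.Agent.Lib.Classical.DiscType

set_option autoImplicit false
open Cfsg

namespace Cfsg.Agent.S2611
open Cfsg.Agent.Small.Orth

/-- For the hyperbolic quadratic form Σ x_i y_i on F^(2m) (F finite, m ≥ 1, excluding m = 2 over the field of two elements) and an invertible m × m matrix A, the block-diagonal isometry diag(A, (A⁻¹)ᵀ), which stabilises the two maximal totally singular subspaces x = 0 and y = 0, lies in Ω⁺_2m(F) (the commutator subgroup of the orthogonal group) if and only if det A is a square in F. -/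
theorem result {F : Type*} [Field F] [Fintype F] {m : ℕ} (hm : 1 ≤ m) (h : Fintype.card F ≠ 2 ∨ m ≠ 2) (A : GL (Fin m) F) : (∃ g : ↥(Cfsg.isometryGroup F (Cfsg.quadFormPlus m F)), g ∈ Cfsg.Omega F (Cfsg.quadFormPlus m F) ∧ ((g : Matrix.GeneralLinearGroup (Fin m ⊕ Fin m) F) : Matrix (Fin m ⊕ Fin m) (Fin m ⊕ Fin m) F) = Matrix.fromBlocks (A : Matrix (Fin m) (Fin m) F) 0 0 ((A : Matrix (Fin m) (Fin m) F)⁻¹).transpose) ↔ IsSquare (A : Matrix (Fin m) (Fin m) F).det := by
  classical
  have hh : Nat.card F ≠ 2 ∨ m ≠ 2 := by simpa [Nat.card_eq_fintype_card] using h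
  refine exists_levi_iff (Cfsg.Agent.Classical.OOmega.coe_plus m) Cfsg.Agent.Classical.OOmega.pnd_empty
    (card_plus F hh) (A : Matrix (Fin m) (Fin m) F) (Matrix.GeneralLinearGroup.det_ne_zero A) _ ⟨fun i => ?_, fun i => ?_, fun x hx hy => ?_⟩
  · funext k
    rcases k with k | k <;>
      simp [Cfsg.Agent.Classical.OOmega.bv, Matrix.mulVec_single, Finset.sum_apply, Pi.single_apply]
  · funext k
    rcases k with k | k <;>
      simp [Cfsg.Agent.Classical.OOmega.bv, Matrix.mulVec_single, Finset.sum_apply, Pi.single_apply]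
  · have e : x = 0 := by
      funext k
      rcases k with k | k
      · exact (polar_bv_inl _ _ x k).2.symm.trans (hy k)
      · exact (polar_bv_inl _ _ x k).1.symm.trans (hx k)
    rw [e, map_zero]

end Cfsg.Agent.S2611
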