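import Cfsg.Statements.S2612
import Cfsg.Agent.Lib.Small.Orth.LeviMat
import Cfsg.Agent.Lib.Small.Orth.Sum
import Cfsg.Agent.Lib.Classical.OrthPOmega
import Cfsg.Agent.Lib.Classical.DiscType

set_option autoImplicit false
open Cfsg

namespace Cfsg.Agent.S2612
open Cfsg.Agent.Small.Orth

/-- For the hyperbolic quadratic form Σ x_i y_i on F^(2m) (F finite, m ≥ 1, excluding m = 2 over the field of two elements), Ω⁺_2m(F) (the commutator subgroup of the orthogonal group) contains an element interchanging the two complementary maximal totally singular subspaces {y = 0} and {x = 0} if and only if m is even (dimension divisible by 4). -/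
theorem result {F : Type*} [Field F] [Fintype F] {m : ℕ} (hm : 1 ≤ m) (h : Fintype.card F ≠ 2 ∨ m ≠ 2) : (∃ g : ↥(Cfsg.isometryGroup F (Cfsg.quadFormPlus m F)), g ∈ Cfsg.Omega F (Cfsg.quadFormPlus m F) ∧ (∀ v : Fin m ⊕ Fin m → F, (∀ i, v (Sum.inr i) = 0) → ∀ i, (((g : Matrix.GeneralLinearGroup (Fin m ⊕ Fin m) F) : Matrix (Fin m ⊕ Fin m) (Fin m ⊕ Fin m) F).mulVec v) (Sum.inl i) = 0) ∧ (∀ v : Fin m ⊕ Fin m → F, (∀ i, v (Sum.inl i) = 0) → ∀ i, (((g : Matrix.GeneralLinearGroup (Fin m ⊕ Fin m) F) : Matrix (Fin m ⊕ Fin m) (Fin m ⊕ Fin m) F).mulVec v) (Sum.inr i) = 0)) ↔ Even m := by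
  classical
  have hh : Nat.card F ≠ 2 ∨ m ≠ 2 := by simpa [Nat.card_eq_fintype_card] using h
  have hq := Cfsg.Agent.Classical.OOmega.coe_plus (F := F) m
  have hP := qPlus_pnd F m
  constructor
  · rintro ⟨g, hg, hgU, -⟩
    obtain ⟨vs, hvs, hM⟩ := exists_list_mat hq hP (card_plus F hh) g
    obtain ⟨he, -⟩ := (mem_omega hq hP g vs hvs hM).1 hg
    rw [← even_zeroRight F g.1.1 vs hvs hM] at he
    have h0 : zeroRight F m ⊓ (zeroRight F m).map (Matrix.mulVecLin g.1.1) = ⊥ := by
      refine (Submodule.eq_bot_iff _).2 ?_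
      rintro x ⟨hx, v, hv, rfl⟩
      funext k
      rcases k with k | k
      · exact hgU v ((mem_zeroRight F v).1 hv) k
      · exact (mem_zeroRight F _).1 hx k
    rwa [h0, finrank_bot, Nat.sub_zero] at he
  · intro he
    let e : Fin m → Fin m ⊕ Fin m → F := fun i =>
      Cfsg.Agent.Classical.OOmega.bv (Equiv.sumEmpty (Fin m ⊕ Fin m) Empty).symm (.inl (.inl i))
    let f : Fin m → Fin m ⊕ Fin m → F := fun i =>
      Cfsg.Agent.Classical.OOmega.bv (Equiv.sumEmpty (Fin m ⊕ Fin m) Empty).symm (.inl (.inr i))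
    have hf : HFam (qPlus F m) e f := hfam_formOf _ _
    set vs := (List.finRange m).map (fun k => e k - f k) with hvsd
    have hval : ∀ v ∈ vs, qPlus F m v = -1 := by
      intro v hv
      obtain ⟨k, -, rfl⟩ := List.mem_map.1 hv
      rw [Cfsg.Agent.Classical.ORefl.map_sub_two, hf.qe, hf.qf, hf.ef, if_pos rfl]; ring
    have hne : ∀ v ∈ vs, qPlus F m v ≠ 0 := fun v hv => by rw [hval v hv]; simp
    obtain ⟨g, hg⟩ := exists_word_mat hq vs
    have hprod : (vs.map fun v => qPlus F m v).prod = (-1 : F) ^ m := by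
      rw [List.map_congr_left hval]
      simp [hvsd, Function.comp_def]
    have key : ∀ v : Fin m ⊕ Fin m → F,
        (prodRf (qPlus F m) vs).1 v = fun k => v (Sum.swap k) := by
      intro v
      have hv : v = (∑ i, v (.inl i) • e i) + ∑ i, v (.inr i) • f i := by
        funext k
        rcases k with k | k <;>
          simp [e, f, Cfsg.Agent.Classical.OOmega.bv, Finset.sum_apply, Pi.single_apply]
      conv_lhs => rw [hv]
      rw [map_add, map_sum, map_sum]
      simp only [map_smul, hvsd, (swap_word hf _ (List.nodup_finRange m) _).1,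
        (swap_word hf _ (List.nodup_finRange m) _).2, List.mem_finRange, if_true]
      funext k
      rcases k with k | k <;>
        simp [e, f, Cfsg.Agent.Classical.OOmega.bv, Finset.sum_apply, Pi.single_apply]
    refine ⟨g, (mem_omega hq hP g vs hne hg).2 ⟨by simpa [hvsd] using he, by rw [hprod, he.neg_one_pow]; exact IsSquare.one⟩,
      fun v hv i => ?_, fun v hv i => ?_⟩
    · rw [hg, key]; exact hv i
    · rw [hg, key]; exact hv i

end Cfsg.Agent.S2612
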