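import Cfsg.Statements.S2614
import Cfsg.Agent.Lib.Small.Orth.LeviMat
import Cfsg.Agent.Lib.Small.Orth.Sum
import Cfsg.Agent.Lib.Classical.OrthPOmega
import Cfsg.Agent.Lib.Classical.DiscType

set_option autoImplicit false
open Cfsg

namespace Cfsg.Agent.S2614
open Cfsg.Agent.Small.Orth

/-- For the form x_0² + Σ x_j y_j on F^(2m+1), F finite with q elements, q odd, and 1 ≤ i ≤ m: the involution of determinant one negating the first i hyperbolic pairs (and fixing x_0 and the other pairs) lies in Ω_(2m+1)(q) (commutator subgroup of the orthogonal group) if and only if q^i ≡ 1 (mod 4); its (−1)-eigenspace is a hyperbolic 2i-space. -/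
theorem result {F : Type*} [Field F] [Fintype F] {q : ℕ} (hF : Fintype.card F = q) (hq : Odd q) {m : ℕ} (i : ℕ) (hi : 1 ≤ i) (him : i ≤ m) : (∃ g : ↥(Cfsg.isometryGroup F (Cfsg.quadFormOdd m F)), g ∈ Cfsg.Omega F (Cfsg.quadFormOdd m F) ∧ ((g : Matrix.GeneralLinearGroup (Unit ⊕ (Fin m ⊕ Fin m)) F) : Matrix (Unit ⊕ (Fin m ⊕ Fin m)) (Unit ⊕ (Fin m ⊕ Fin m)) F) = Matrix.diagonal (fun k : Unit ⊕ (Fin m ⊕ Fin m) => if (Sum.elim (fun _ : Unit => i) (Sum.elim (fun j : Fin m => (j : ℕ)) (fun j : Fin m => (j : ℕ))) k) < i then (-1 : F) else 1)) ↔ q ^ i % 4 = 1 := by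
  classical
  subst hF
  have h2 := Cfsg.Agent.Classical.OOmega.two_ne_of_odd hq
  rw [← Cfsg.Agent.Classical.OOmega.isSquare_neg_one_pow hq, ← det_neg_first (F := F) i him]
  refine exists_levi_iff (Cfsg.Agent.Classical.OOmega.coe_odd m) (Cfsg.Agent.Classical.OOmega.pnd_line h2)
    (Or.inl (Cfsg.Agent.Classical.ORefl.card_field_ne_two h2)) _
    (by rw [det_neg_first i him]; exact pow_ne_zero _ (by simp)) _ ?_
  refine acts_diagonal _ _ _ _ (fun j => by split_ifs <;> simp) (fun j => rfl) (fun j => ?_) (fun r => ?_)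
  · show (if (j : ℕ) < i then (-1 : F) else 1) = _
    split_ifs <;> simp [neg_inv]
  · show (if i < i then (-1 : F) else 1) = 1
    rw [if_neg (lt_irrefl i)]

end Cfsg.Agent.S2614
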