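import Cfsg.Statements.S2615
import Cfsg.Agent.Lib.Small.Orth.LeviMat
import Cfsg.Agent.Lib.Small.Orth.Sum
import Cfsg.Agent.Lib.Classical.OrthPOmega
import Cfsg.Agent.Lib.Classical.DiscType

set_option autoImplicit false
open Cfsg

namespace Cfsg.Agent.S2615
open Cfsg.Agent.Small.Orth

/-- For an elliptic form Σ_(j<m−1) x_j y_j + (z₁² + a z₁z₂ + b z₂²) (anisotropic binary part) on F^(2m), F finite with q elements, q odd, and 1 ≤ i ≤ m − 1: the involution negating the first i hyperbolic pairs and fixing the rest lies in Ω⁻_2m(q) (commutator subgroup of the orthogonal group) if and only if q^i ≡ 1 (mod 4). -/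
theorem result {F : Type*} [Field F] [Fintype F] {q : ℕ} (hF : Fintype.card F = q) (hq : Odd q) {m : ℕ} (a b : F) (hab : ∀ z₁ z₂ : F, z₁ ^ 2 + a * z₁ * z₂ + b * z₂ ^ 2 = 0 → z₁ = 0 ∧ z₂ = 0) (i : ℕ) (hi : 1 ≤ i) (him : i + 1 ≤ m) : (∃ g : ↥(Cfsg.isometryGroup F (Cfsg.quadFormMinus (m - 1) F a b)), g ∈ Cfsg.Omega F (Cfsg.quadFormMinus (m - 1) F a b) ∧ ((g : Matrix.GeneralLinearGroup ((Fin (m - 1) ⊕ Fin (m - 1)) ⊕ Fin 2) F) : Matrix ((Fin (m - 1) ⊕ Fin (m - 1)) ⊕ Fin 2) ((Fin (m - 1) ⊕ Fin (m - 1)) ⊕ Fin 2) F) = Matrix.diagonal (fun k : (Fin (m - 1) ⊕ Fin (m - 1)) ⊕ Fin 2 => if (Sum.elim (Sum.elim (fun j : Fin (m - 1) => (j : ℕ)) (fun j : Fin (m - 1) => (j : ℕ))) (fun _ : Fin 2 => i) k) < i then (-1 : F) else 1)) ↔ q ^ i % 4 = 1 := by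
  classical
  subst hF
  have h2 := Cfsg.Agent.Classical.OOmega.two_ne_of_odd hq
  rw [← Cfsg.Agent.Classical.OOmega.isSquare_neg_one_pow hq, ← det_neg_first (m := m - 1) (F := F) i (by omega)]
  refine exists_levi_iff (Cfsg.Agent.Classical.OOmega.coe_minus (m - 1) a b) (Cfsg.Agent.Classical.OOmega.pnd_plane hab)
    (Or.inl (Cfsg.Agent.Classical.ORefl.card_field_ne_two h2)) _
    (by rw [det_neg_first i (by omega)]; exact pow_ne_zero _ (by simp)) _ ?_
  refine acts_diagonal _ _ _ _ (fun j => by split_ifs <;> simp) (fun j => rfl) (fun j => ?_) (fun r => ?_)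
  · show (if (j : ℕ) < i then (-1 : F) else 1) = _
    split_ifs <;> simp [neg_inv]
  · show (if i < i then (-1 : F) else 1) = 1
    rw [if_neg (lt_irrefl i)]

end Cfsg.Agent.S2615
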