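import Cfsg.Statements.S2627
import Cfsg.Agent.Lib.Small.Orth.LeviMat
import Cfsg.Agent.Lib.Small.Orth.Sum
import Cfsg.Agent.Lib.Classical.OrthPOmega
import Cfsg.Agent.Lib.Classical.DiscType

set_option autoImplicit false
open Cfsg

namespace Cfsg.Agent.S2627
open Cfsg.Agent.Small.Orth

/-- For an orthogonal direct sum Q = Q₁ ⊕ Q₂ of quadratic forms with non-degenerate polar forms over a finite field, an isometry g₁ of Q₁ extended by the identity on the second summand lies in Ω(Q) (the commutator subgroup of the orthogonal group of Q) if and only if g₁ lies in Ω(Q₁). (Excluded: the field of two elements when the first summand or the whole space has dimension 4, where the commutator subgroup of O⁺₄(2) is smaller than the group usually called Ω.) -/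
theorem result {F : Type*} [Field F] [Fintype F] {k l : ℕ} (h : Fintype.card F ≠ 2 ∨ (k ≠ 4 ∧ k + l ≠ 4)) (Q₁ : QuadraticForm F (Fin k → F)) (Q₂ : QuadraticForm F (Fin l → F)) (h₁ : (QuadraticMap.polarBilin Q₁).Nondegenerate) (h₂ : (QuadraticMap.polarBilin Q₂).Nondegenerate) (g₁ : ↥(Cfsg.isometryGroup F ⇑Q₁)) : (∃ g : ↥(Cfsg.isometryGroup F (fun v : Fin k ⊕ Fin l → F => Q₁ (v ∘ Sum.inl) + Q₂ (v ∘ Sum.inr))), g ∈ Cfsg.Omega F (fun v : Fin k ⊕ Fin l → F => Q₁ (v ∘ Sum.inl) + Q₂ (v ∘ Sum.inr)) ∧ ((g : Matrix.GeneralLinearGroup (Fin k ⊕ Fin l) F) : Matrix (Fin k ⊕ Fin l) (Fin k ⊕ Fin l) F) = Matrix.fromBlocks ((g₁ : Matrix.GeneralLinearGroup (Fin k) F) : Matrix (Fin k) (Fin k) F) 0 0 1) ↔ g₁ ∈ Cfsg.Omega F ⇑Q₁ := by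
  classical
  have hP₁ : Cfsg.Agent.Classical.OCount.PND Q₁ := Cfsg.Agent.Classical.ORefl.pnd_of_nondeg h₁
  have hP₂ : Cfsg.Agent.Classical.OCount.PND Q₂ := Cfsg.Agent.Classical.ORefl.pnd_of_nondeg h₂
  obtain ⟨vs, hvs, hM⟩ := exists_list_mat rfl hP₁
    (h.imp (fun h => by simpa [Nat.card_eq_fintype_card] using h) fun h => by simpa using h.1) g₁
  rw [mem_omega rfl hP₁ g₁ vs hvs hM,
    exists_iff (coe_sumForm Q₁ Q₂) (sumForm_pnd Q₁ Q₂ hP₁ hP₂) (vs.map fun v => (Sum.elim v 0 : Fin k ⊕ Fin l → F))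
      (fun w hw => by obtain ⟨v, hv, rfl⟩ := List.mem_map.1 hw; rw [sumForm_inl]; exact hvs v hv)
      (fun x => by rw [prodRf_inl, Matrix.fromBlocks_mulVec, hM]; simp)]
  simp [List.map_map, Function.comp_def, sumForm_inl]

end Cfsg.Agent.S2627
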