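import Cfsg.Statements.S2628
import Cfsg.Agent.Lib.Small.Orth.LeviMat
import Cfsg.Agent.Lib.Small.Orth.Sum
import Cfsg.Agent.Lib.Classical.OrthPOmega
import Cfsg.Agent.Lib.Classical.DiscType

set_option autoImplicit false
open Cfsg

namespace Cfsg.Agent.S2628
open Cfsg.Agent.Small.Orth

/-- For the orthogonal direct sum Q ⊕ Q of two copies of a quadratic form Q with non-degenerate polar form on F^k (F finite), every isometry g of Q acting diagonally, diag(g, g), lies in Ω(Q ⊕ Q), the commutator subgroup of the orthogonal group of Q ⊕ Q. (Excluded: k = 2 over the field of two elements, where Q ⊕ Q is the hyperbolic 4-space whose orthogonal group's commutator subgroup is smaller than the group usually called Ω.) -/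
theorem result {F : Type*} [Field F] [Fintype F] {k : ℕ} (h : Fintype.card F ≠ 2 ∨ k ≠ 2) (Q : QuadraticForm F (Fin k → F)) (hQ : (QuadraticMap.polarBilin Q).Nondegenerate) (g : ↥(Cfsg.isometryGroup F ⇑Q)) : ∃ x : ↥(Cfsg.isometryGroup F (fun v : Fin k ⊕ Fin k → F => Q (v ∘ Sum.inl) + Q (v ∘ Sum.inr))), x ∈ Cfsg.Omega F (fun v : Fin k ⊕ Fin k → F => Q (v ∘ Sum.inl) + Q (v ∘ Sum.inr)) ∧ ((x : Matrix.GeneralLinearGroup (Fin k ⊕ Fin k) F) : Matrix (Fin k ⊕ Fin k) (Fin k ⊕ Fin k) F) = Matrix.fromBlocks ((g : Matrix.GeneralLinearGroup (Fin k) F) : Matrix (Fin k) (Fin k) F) 0 0 ((g : Matrix.GeneralLinearGroup (Fin k) F) : Matrix (Fin k) (Fin k) F) := by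
  classical
  have hP : Cfsg.Agent.Classical.OCount.PND Q := Cfsg.Agent.Classical.ORefl.pnd_of_nondeg hQ
  have hS := sumForm_pnd Q Q hP hP
  have hq := coe_sumForm Q Q
  -- the isometry `g ⊕ 1`
  obtain ⟨a, ha⟩ : ∃ a : ↥(Cfsg.Agent.Classical.ORefl.Iso (sumForm Q Q)),
      ∀ x, a.1 x = Sum.elim (g.1.1.mulVec (x ∘ Sum.inl)) (x ∘ Sum.inr) := by
    refine ⟨(Cfsg.Agent.Classical.ORefl.toMat (sumForm Q Q)).symm ⟨⟨Matrix.fromBlocks g.1.1 0 0 1,
      Matrix.fromBlocks g⁻¹.1.1 0 0 1, ?_, ?_⟩, fun x _ => ?_⟩, fun x => ?_⟩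
    · rw [Matrix.fromBlocks_multiply]; simp
    · rw [Matrix.fromBlocks_multiply]; simp
    · show sumForm Q Q ((Matrix.fromBlocks g.1.1 0 0 1).mulVec x) = sumForm Q Q x
      rw [Matrix.fromBlocks_mulVec, hq]
      simp only [Matrix.zero_mulVec, add_zero, zero_add, Matrix.one_mulVec, Sum.elim_comp_inl, Sum.elim_comp_inr]
      rw [show Q (g.1.1.mulVec (x ∘ Sum.inl)) = Q (x ∘ Sum.inl) from g.2 (x ∘ Sum.inl) (x ∘ Sum.inl)]
    · rw [← Cfsg.Agent.Classical.ORefl.toMat_apply, MulEquiv.apply_symm_apply]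
      show (Matrix.fromBlocks g.1.1 0 0 1).mulVec x = _
      rw [Matrix.fromBlocks_mulVec]; simp
  -- the swap
  let s : ↥(Cfsg.Agent.Classical.ORefl.Iso (sumForm Q Q)) :=
    ⟨LinearEquiv.funCongrLeft F F (Equiv.sumComm (Fin k) (Fin k)), fun x => by
      rw [hq]; exact add_comm _ _⟩
  have hs : ∀ x : Fin k ⊕ Fin k → F, s.1 x = fun i => x (Sum.swap i) := fun x => rfl
  have hss : ∀ x, s⁻¹.1 x = fun i => x (Sum.swap i) := fun x => by
    apply s.1.injective
    rw [show s.1 (s⁻¹.1 x) = x from s.1.apply_symm_apply x, hs]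
    funext i; simp
  obtain ⟨vs, hvs, rfl⟩ := exists_list hS
    (h.imp (fun h => by simpa [Nat.card_eq_fintype_card] using h) fun h => by
      rw [Module.finrank_fintype_fun_eq_card, Fintype.card_sum, Fintype.card_fin]; omega) a
  obtain ⟨y, hy⟩ := exists_word_mat hq (vs ++ vs.map fun v => s.1 v)
  have hval : ∀ v, sumForm Q Q (s.1 v) = sumForm Q Q v := s.2
  refine ⟨y, (mem_omega hq hS y _ (fun w hw => (List.mem_append.1 hw).elim (hvs w) fun hw => by
      obtain ⟨v, hv, rfl⟩ := List.mem_map.1 hw; rw [hval]; exact hvs v hv) hy).2 ⟨?_, ?_⟩, ?_⟩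
  · rw [List.length_append, List.length_map]; exact ⟨_, rfl⟩
  · rw [List.map_append, List.prod_append, List.map_map]
    simp only [Function.comp_def, hval]
    exact IsSquare.mul_self _
  · refine Matrix.ext_of_mulVec_single fun i => ?_
    rw [hy, prodRf_append, ← conj_prodRf]
    show (prodRf (sumForm Q Q) vs).1 (s.1 ((prodRf (sumForm Q Q) vs).1 (s⁻¹.1 _))) = _
    rw [hss, ha, ha, hs, Matrix.fromBlocks_mulVec]
    funext j
    rcases j with j | j <;> simp [Function.comp_def]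

end Cfsg.Agent.S2628
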