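import Cfsg.Statements.S2631
import Cfsg.Agent.Lib.Small.Orth.Standard
import Cfsg.Agent.Lib.Classical.OrthPOmega
import Cfsg.Agent.Lib.Classical.DiscType

set_option autoImplicit false
open Cfsg

namespace Cfsg.Agent.S2631
open Cfsg.Agent.Small.Orth

/-- For the hyperbolic form Σ x_i y_i on F^(2m) over a finite field (m ≥ 1, excluding m = 2 over the field of two elements), Ω (the commutator subgroup of the orthogonal group) acts transitively on each of the two classes of maximal totally singular subspaces: if U and W are m-dimensional totally singular subspaces with m − dim(U ∩ W) even, some element of Ω carries U to W. -/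
theorem result {F : Type*} [Field F] [Fintype F] {m : ℕ} (hm : 1 ≤ m) (h : Fintype.card F ≠ 2 ∨ m ≠ 2) (U W : Submodule F (Fin m ⊕ Fin m → F)) (hU : Module.finrank F U = m) (hW : Module.finrank F W = m) (hU0 : ∀ u ∈ U, Cfsg.quadFormPlus m F u = 0) (hW0 : ∀ w ∈ W, Cfsg.quadFormPlus m F w = 0) (he : Even (m - Module.finrank F ↥(U ⊓ W))) : ∃ g : ↥(Cfsg.isometryGroup F (Cfsg.quadFormPlus m F)), g ∈ Cfsg.Omega F (Cfsg.quadFormPlus m F) ∧ U.map (Matrix.mulVecLin ((g : Matrix.GeneralLinearGroup (Fin m ⊕ Fin m) F) : Matrix (Fin m ⊕ Fin m) (Fin m ⊕ Fin m) F)) = W := by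
  classical
  have hh : Nat.card F ≠ 2 ∨ m ≠ 2 := by simpa [Nat.card_eq_fintype_card] using h
  have hq := Cfsg.Agent.Classical.OOmega.coe_plus (F := F) m
  rw [← hq] at hU0 hW0
  have hP := qPlus_pnd F m
  obtain ⟨g, hg⟩ := exists_map_iso hP (LinearEquiv.ofFinrankEq U W (hU.trans hW.symm))
    (fun u => by rw [hW0 _ (Subtype.mem _), hU0 _ u.2])
  obtain ⟨vs, hvs, rfl⟩ := exists_list hP (card_plus' F hh) g
  have hmapeq : U.map ((prodRf (qPlus F m) vs).1 : _ →ₗ[F] _) = W := by
    refine Submodule.eq_of_le_of_finrank_eq ?_ ((LinearEquiv.finrank_map_eq _ U).trans (hU.trans hW.symm))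
    rintro _ ⟨u, hu, rfl⟩; exact hg u hu
  have heven : Even vs.length := by
    rw [← even_inter_iff hP (by simp [Module.finrank_fintype_fun_eq_card]; omega) hU0 hU vs hvs, hmapeq]
    exact he
  obtain ⟨ws, h1, h3, h4, h5⟩ := exists_scale hP hU0
    (fun e => by rw [e, finrank_bot] at hU; omega) (values_ne hvs)
  exact exists_omega_map hq hP (hU.trans hW.symm) vs ws hvs h1 hg h5 (heven.add h3) h4

end Cfsg.Agent.S2631
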