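import Cfsg.Statements.S2632
import Cfsg.Agent.Lib.Small.Orth.Standard
import Cfsg.Agent.Lib.Classical.OrthPOmega
import Cfsg.Agent.Lib.Classical.DiscType

set_option autoImplicit false
open Cfsg

namespace Cfsg.Agent.S2632
open Cfsg.Agent.Small.Orth

/-- Ω is transitive on non-degenerate subspaces of each isometry type: for a quadratic form Q on F^n, n ≥ 3, with non-degenerate polar form (F finite; excluding dimension 4 over the field of two elements), if U and W are subspaces on which the polar form is non-degenerate and there is a Q-preserving linear isomorphism U → W, then some element of Ω (the commutator subgroup of the orthogonal group) carries U to W. (In dimension 2 this fails: Ω can be {±1}, which fixes every line.) -/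
theorem result {F : Type*} [Field F] [Fintype F] {n : ℕ} (hn : 3 ≤ n) (h : Fintype.card F ≠ 2 ∨ n ≠ 4) (Q : QuadraticForm F (Fin n → F)) (hQ : (QuadraticMap.polarBilin Q).Nondegenerate) (U W : Submodule F (Fin n → F)) (hU : U ⊓ LinearMap.BilinForm.orthogonal (QuadraticMap.polarBilin Q) U = ⊥) (hW : W ⊓ LinearMap.BilinForm.orthogonal (QuadraticMap.polarBilin Q) W = ⊥) (e : U ≃ₗ[F] W) (he : ∀ u : U, Q (e u : Fin n → F) = Q (u : Fin n → F)) : ∃ g : ↥(Cfsg.isometryGroup F ⇑Q), g ∈ Cfsg.Omega F ⇑Q ∧ U.map (Matrix.mulVecLin ((g : Matrix.GeneralLinearGroup (Fin n) F) : Matrix (Fin n) (Fin n) F)) = W := by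
  classical
  have hP : Cfsg.Agent.Classical.OCount.PND Q := Cfsg.Agent.Classical.ORefl.pnd_of_nondeg hQ
  obtain ⟨g, hg⟩ := exists_map_iso hP e he
  obtain ⟨vs, hvs, rfl⟩ := exists_list hP (by simpa [Nat.card_eq_fintype_card, Module.finrank_fin_fun] using h) g
  obtain ⟨X, hX, hXd, hXU⟩ : ∃ X : Submodule F (Fin n → F),
      X ⊓ LinearMap.BilinForm.orthogonal (QuadraticMap.polarBilin Q) X = ⊥ ∧ 2 ≤ Module.finrank F X ∧
        ∀ w ∈ X, w ∈ U ∨ ∀ u ∈ U, QuadraticMap.polar Q w u = 0 := by
    by_cases hd : 2 ≤ Module.finrank F U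
    · exact ⟨U, hU, hd, fun w hw => Or.inl hw⟩
    · refine ⟨LinearMap.BilinForm.orthogonal (QuadraticMap.polarBilin Q) U, ?_, ?_, fun w hw => Or.inr fun u hu => ?_⟩
      · rw [LinearMap.BilinForm.orthogonal_orthogonal hQ (Cfsg.Agent.Classical.Witt.isRefl Q), inf_comm, hU]
      · rw [LinearMap.BilinForm.finrank_orthogonal hQ, Module.finrank_fin_fun]; omega
      · rw [QuadraticMap.polar_comm]; exact hw u hu
  obtain ⟨ws, h1, h3, h4⟩ := exists_word_in hX hXd vs.length (values_ne hvs)
  exact exists_omega_map rfl hP (LinearEquiv.finrank_eq e) vs ws hvs (fun w hw => (h1 w hw).2) hg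
    (fun u hu => prodRf_mem ws (fun w hw => hXU w (h1 w hw).1) hu) h3 h4

end Cfsg.Agent.S2632
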