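import Cfsg.Statements.S2633
import Cfsg.Agent.Lib.Small.Orth.Standard
import Cfsg.Agent.Lib.Classical.OrthPOmega
import Cfsg.Agent.Lib.Classical.DiscType

set_option autoImplicit false
open Cfsg

namespace Cfsg.Agent.S2633
open Cfsg.Agent.Small.Orth

/-- Ω is transitive on totally singular subspaces of each dimension less than half the dimension: for a quadratic form Q on F^n with non-degenerate polar form (F finite; excluding dimension 4 over the field of two elements), if U and W are subspaces of the same dimension k with 2k < n on which Q vanishes, then some element of Ω (the commutator subgroup of the orthogonal group) carries U to W. -/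
theorem result {F : Type*} [Field F] [Fintype F] {n : ℕ} (h : Fintype.card F ≠ 2 ∨ n ≠ 4) (Q : QuadraticForm F (Fin n → F)) (hQ : (QuadraticMap.polarBilin Q).Nondegenerate) (U W : Submodule F (Fin n → F)) {k : ℕ} (hk : 2 * k < n) (hU : Module.finrank F U = k) (hW : Module.finrank F W = k) (hU0 : ∀ u ∈ U, Q u = 0) (hW0 : ∀ w ∈ W, Q w = 0) : ∃ g : ↥(Cfsg.isometryGroup F ⇑Q), g ∈ Cfsg.Omega F ⇑Q ∧ U.map (Matrix.mulVecLin ((g : Matrix.GeneralLinearGroup (Fin n) F) : Matrix (Fin n) (Fin n) F)) = W := by
  classical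
  have hP : Cfsg.Agent.Classical.OCount.PND Q := Cfsg.Agent.Classical.ORefl.pnd_of_nondeg hQ
  by_cases hk0 : k = 0
  · subst hk0
    refine ⟨1, one_mem _, ?_⟩
    rw [Submodule.finrank_eq_zero.1 hU, Submodule.finrank_eq_zero.1 hW, Submodule.map_bot]
  obtain ⟨g, hg⟩ := exists_map_iso hP (LinearEquiv.ofFinrankEq U W (hU.trans hW.symm))
    (fun u => by rw [hW0 _ (Subtype.mem _), hU0 _ u.2])
  obtain ⟨vs, hvs, rfl⟩ := exists_list hP (by simpa [Nat.card_eq_fintype_card, Module.finrank_fin_fun] using h) g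
  obtain ⟨x, hx, hxU⟩ : ∃ x, Q x ≠ 0 ∧ ∀ u ∈ U, QuadraticMap.polar Q x u = 0 := by
    by_contra hc
    push Not at hc
    have h1 := Cfsg.Agent.Classical.Witt.finrank_le_half Q hQ
      (W := LinearMap.BilinForm.orthogonal (QuadraticMap.polarBilin Q) U) (fun w hw => by
        by_contra hne
        obtain ⟨u, hu, hu'⟩ := hc w hne
        exact hu' (by rw [QuadraticMap.polar_comm]; exact hw u hu))
    rw [LinearMap.BilinForm.finrank_orthogonal hQ, Module.finrank_fin_fun, hU] at h1
    omega
  have hUne : U ≠ ⊥ := fun e => hk0 (by rw [← hU, e, finrank_bot])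
  rcases Nat.even_or_odd vs.length with hev | hodd
  · obtain ⟨ws, h1, h3, h4, h5⟩ := exists_scale hP hU0 hUne (values_ne hvs)
    exact exists_omega_map rfl hP (hU.trans hW.symm) vs ws hvs h1 hg h5 (hev.add h3) h4
  · obtain ⟨ws, h1, h3, h4, h5⟩ := exists_scale hP hU0 hUne (mul_ne_zero (values_ne hvs) hx)
    refine exists_omega_map rfl hP (hU.trans hW.symm) vs (x :: ws) hvs (by simpa using ⟨hx, h1⟩) hg (fun u hu => ?_) ?_ ?_
    · rw [prodRf_cons]
      show Cfsg.Agent.Classical.ORefl.refl Q x ((prodRf Q ws).1 u) ∈ U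
      rw [Cfsg.Agent.Classical.ORefl.refl_fix (hxU _ (h5 u hu))]; exact h5 u hu
    · rw [List.length_cons]; exact hodd.add_odd h3.add_one
    · rw [List.map_cons, List.prod_cons, ← mul_assoc]; exact h4

end Cfsg.Agent.S2633
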