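import Cfsg.Statements.S2634
import Cfsg.Agent.Lib.Small.Orth.Standard
import Cfsg.Agent.Lib.Classical.OrthPOmega
import Cfsg.Agent.Lib.Classical.DiscType

set_option autoImplicit false
open Cfsg

namespace Cfsg.Agent.S2634
open Cfsg.Agent.Small.Orth

/-- Over a finite field of characteristic two, Ω (the commutator subgroup of the orthogonal group of a quadratic form Q on F^n with non-degenerate polar form; excluding dimension 4 over the field of two elements) acts transitively on the non-singular 1-spaces: for u, v with Q(u) ≠ 0 and Q(v) ≠ 0 some element of Ω carries the line through u to the line through v. -/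
theorem result {F : Type*} [Field F] [Fintype F] [CharP F 2] {n : ℕ} (h : Fintype.card F ≠ 2 ∨ n ≠ 4) (Q : QuadraticForm F (Fin n → F)) (hQ : (QuadraticMap.polarBilin Q).Nondegenerate) (u v : Fin n → F) (hu : Q u ≠ 0) (hv : Q v ≠ 0) : ∃ g : ↥(Cfsg.isometryGroup F ⇑Q), g ∈ Cfsg.Omega F ⇑Q ∧ (F ∙ ((g : Matrix.GeneralLinearGroup (Fin n) F) : Matrix (Fin n) (Fin n) F).mulVec u) = F ∙ v := by
  classical
  have hP : Cfsg.Agent.Classical.OCount.PND Q := Cfsg.Agent.Classical.ORefl.pnd_of_nondeg hQ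
  obtain ⟨s, hs⟩ := isSquare_all (CharTwo.two_eq_zero (R := F)) (Q u / Q v)
  have hs0 : s ≠ 0 := fun e => by rw [e, mul_zero, div_eq_zero_iff] at hs; tauto
  have huv : Q (s • v) = Q u := by rw [QuadraticMap.map_smul, smul_eq_mul, ← hs, div_mul_cancel₀ _ hv]
  have hu0 : u ≠ 0 := fun e => hu (by rw [e, QuadraticMap.map_zero])
  have hv0 : v ≠ 0 := fun e => hv (by rw [e, QuadraticMap.map_zero])
  obtain ⟨g, hg⟩ := Cfsg.Agent.Classical.OOmega.exists_conj hP hu0 (smul_ne_zero hs0 hv0) huv
  obtain ⟨vs, hvs, rfl⟩ := exists_list hP (by simpa [Nat.card_eq_fintype_card, Module.finrank_fin_fun] using h) g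
  have hmap : ∀ x ∈ F ∙ u, (prodRf Q vs).1 x ∈ F ∙ v := by
    intro x hx
    obtain ⟨t, rfl⟩ := Submodule.mem_span_singleton.1 hx
    rw [map_smul, hg]
    exact Submodule.smul_mem _ _ (Submodule.smul_mem _ _ (Submodule.mem_span_singleton_self v))
  have hrank : Module.finrank F (F ∙ u) = Module.finrank F (F ∙ v) := by
    rw [finrank_span_singleton hu0, finrank_span_singleton hv0]
  have hsq : ∀ a : F, IsSquare a := isSquare_all CharTwo.two_eq_zero
  obtain ⟨k, hk, hstab⟩ : ∃ k : List (Fin n → F), ((∀ w ∈ k, Q w ≠ 0) ∧ Even (vs.length + k.length)) ∧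
      ∀ x ∈ F ∙ u, (prodRf Q k).1 x ∈ F ∙ u := by
    rcases Nat.even_or_odd vs.length with he | ho
    · exact ⟨[], ⟨by simp, by simpa using he⟩, fun x hx => hx⟩
    · exact ⟨[u], ⟨by simp [hu], ho.add_odd odd_one⟩,
        fun x hx => prodRf_mem [u] (fun w hw => Or.inl (by simp at hw; simp [hw])) hx⟩
  obtain ⟨g', hg', hgm⟩ := exists_omega_map rfl hP hrank vs k hvs hk.1 hmap hstab hk.2 (hsq _)
  refine ⟨g', hg', ?_⟩
  rw [Submodule.map_span, Set.image_singleton] at hgm
  simpa using hgm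

end Cfsg.Agent.S2634
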