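import Cfsg.Statements.S2635
import Cfsg.Agent.Lib.Small.Orth.Standard
import Cfsg.Agent.Lib.Classical.OrthPOmega
import Cfsg.Agent.Lib.Classical.DiscType

set_option autoImplicit false
open Cfsg

namespace Cfsg.Agent.S2635
open Cfsg.Agent.Small.Orth

/-- Over a finite field of characteristic two, for a quadratic form Q on F^n with non-degenerate polar form, n ≥ 2, other than dimension 4 over the field of two elements, Ω (the commutator subgroup of the orthogonal group) is exactly the subgroup generated by the products of two reflections (orthogonal transvections) x ↦ x − Q(v)⁻¹ f(x, v) v, Q(v) ≠ 0: the products of an even number of reflections. -/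
theorem result {F : Type*} [Field F] [Fintype F] [CharP F 2] {n : ℕ} (hn : 2 ≤ n) (h : Fintype.card F ≠ 2 ∨ n ≠ 4) (Q : QuadraticForm F (Fin n → F)) (hQ : (QuadraticMap.polarBilin Q).Nondegenerate) : Cfsg.Omega F ⇑Q = Subgroup.closure {g : ↥(Cfsg.isometryGroup F ⇑Q) | ∃ u v : Fin n → F, Q u ≠ 0 ∧ Q v ≠ 0 ∧ ((g : Matrix.GeneralLinearGroup (Fin n) F) : Matrix (Fin n) (Fin n) F) = Cfsg.reflectionMatrix ⇑Q u * Cfsg.reflectionMatrix ⇑Q v} := by
  have hP : Cfsg.Agent.Classical.OCount.PND Q := Cfsg.Agent.Classical.ORefl.pnd_of_nondeg hQ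
  have h' : Nat.card F ≠ 2 ∨ Fintype.card (Fin n) ≠ 4 := by
    simpa [Nat.card_eq_fintype_card] using h
  have hmat : ∀ u v : Fin n → F, ∀ x, (Cfsg.reflectionMatrix ⇑Q u * Cfsg.reflectionMatrix ⇑Q v).mulVec x =
      (prodRf Q [u, v]).1 x := fun u v x => by
    rw [← Matrix.mulVec_mulVec, ← Cfsg.Agent.Classical.ORefl.toMat_refl, ← Cfsg.Agent.Classical.ORefl.toMat_refl,
      Cfsg.Agent.Classical.ORefl.toMat_apply, Cfsg.Agent.Classical.ORefl.toMat_apply, prodRf_pair]
    rfl
  refine le_antisymm (fun g hg => ?_) ((Subgroup.closure_le _).2 ?_)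
  · obtain ⟨vs, hvs, hM⟩ := exists_list_mat rfl hP h' g
    obtain ⟨hev, -⟩ := (mem_omega rfl hP g vs hvs hM).1 hg
    suffices H : ∀ k, ∀ vs : List (Fin n → F), vs.length = 2 * k → (∀ v ∈ vs, Q v ≠ 0) →
        ∀ g : ↥(Cfsg.isometryGroup F ⇑Q), (∀ x, g.1.1.mulVec x = (prodRf Q vs).1 x) →
          g ∈ Subgroup.closure {g : ↥(Cfsg.isometryGroup F ⇑Q) | ∃ u v : Fin n → F, Q u ≠ 0 ∧ Q v ≠ 0 ∧
            ((g : Matrix.GeneralLinearGroup (Fin n) F) : Matrix (Fin n) (Fin n) F) =
              Cfsg.reflectionMatrix ⇑Q u * Cfsg.reflectionMatrix ⇑Q v} by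
      obtain ⟨k, hk⟩ := hev
      exact H k vs (by omega) hvs g hM
    intro k
    induction k with
    | zero =>
      intro vs hl _ g hM
      rw [List.length_eq_zero_iff.1 (by omega : vs.length = 0)] at hM
      have : g = 1 := Subtype.ext (Units.ext (Matrix.ext_of_mulVec_single fun i => by
        rw [hM, show ((1 : ↥(Cfsg.isometryGroup F ⇑Q)).1.1) = (1 : Matrix (Fin n) (Fin n) F) from rfl, Matrix.one_mulVec]; rfl))
      rw [this]; exact one_mem _
    | succ k ih =>
      intro vs hl hvs g hM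
      obtain ⟨u, vs, rfl⟩ := List.exists_cons_of_length_pos (by omega : 0 < vs.length)
      obtain ⟨v, vs, rfl⟩ := List.exists_cons_of_length_pos (l := vs) (by simp at hl; omega)
      obtain ⟨a, ha⟩ := exists_word_mat (Q := Q) rfl [u, v]
      obtain ⟨b, hb⟩ := exists_word_mat (Q := Q) rfl vs
      have e : g = a * b := Subtype.ext (Units.ext (Matrix.ext_of_mulVec_single fun i => by
        show g.1.1.mulVec _ = (a.1.1 * b.1.1).mulVec _
        rw [hM, ← Matrix.mulVec_mulVec, hb, ha, show u :: v :: vs = [u, v] ++ vs from rfl, prodRf_append]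
        rfl))
      rw [e]
      refine mul_mem (Subgroup.subset_closure ⟨u, v, hvs u (by simp), hvs v (by simp), ?_⟩)
        (ih vs (by simp at hl; omega) (fun w hw => hvs w (by simp [hw])) b hb)
      exact Matrix.ext_of_mulVec_single fun i => by rw [ha, hmat]
  · rintro g ⟨u, v, hu, hv, hgM⟩
    exact (mem_omega rfl hP g [u, v] (by simp [hu, hv]) fun x => by rw [hgM, hmat]).2
      ⟨⟨1, rfl⟩, isSquare_all CharTwo.two_eq_zero _⟩

end Cfsg.Agent.S2635
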