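import Cfsg.Statements.S2636
import Mathlib
-- import your own Cfsg.Agent.* helpers here

set_option autoImplicit false
open Cfsg

namespace Cfsg.Agent.S2636

/-- Centraliser of a field automorphism in PGL_n: let F be the field with q = q₀^r elements, σ a field automorphism of F of prime order r (so its fixed field has q₀ elements) and n ≥ 1. The invertible matrices g whose entrywise image under σ is a scalar multiple of g — those whose coset modulo scalars is fixed by σ — number (q − 1)/(q₀ − 1) · |GL_n(q₀)|; equivalently the centraliser in PGL_n(q) of the induced automorphism has the order of PGL_n(q₀). -/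
theorem result {F : Type*} [Field F] [Fintype F] {q₀ r n : ℕ} (hr : r.Prime) (hn : 1 ≤ n) (hF : Fintype.card F = q₀ ^ r) (σ : F ≃+* F) (hσ : orderOf σ = r) : Nat.card {g : GL (Fin n) F // ∃ c : F, c ≠ 0 ∧ (g : Matrix (Fin n) (Fin n) F).map σ = c • (g : Matrix (Fin n) (Fin n) F)} = (q₀ ^ r - 1) / (q₀ - 1) * ∏ i : Fin n, (q₀ ^ n - q₀ ^ (i : ℕ)) := by
  classical
  have : Finite (F ≃+* F) := Finite.of_injective (fun e : F ≃+* F => (e : F → F))
    (fun a b h => RingEquiv.ext fun x => congrFun h x)
  let G := Subgroup.zpowers σ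
  let : Fintype G := Fintype.ofFinite _
  let K := FixedPoints.subfield G F
  let : Fintype K := Fintype.ofFinite _
  have hfix : ∀ y : F, σ y = y ↔ y ∈ K := fun y => by
    refine ⟨fun hy => ?_, fun hy => hy ⟨σ, Subgroup.mem_zpowers σ⟩⟩
    rintro ⟨τ, k, rfl⟩
    change (σ ^ k) y = y
    exact Subgroup.zpow_mem _ (show σ ∈ MulAction.stabilizer (F ≃+* F) y from hy) k
  have hK : Fintype.card K = q₀ := by
    have hrank := FixedPoints.finrank_eq_card G F
    have hc := Module.card_eq_pow_finrank (K := K) (V := F)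
    rw [hrank, hF, ← Nat.card_eq_fintype_card (α := G), Nat.card_zpowers, hσ] at hc
    exact (Nat.pow_left_injective hr.ne_zero hc).symm
  let ι : K →+* F := K.subtype
  let Φ : Fˣ × GL (Fin n) K →* GL (Fin n) F :=
    { toFun := fun x => Units.map (algebraMap F (Matrix (Fin n) (Fin n) F)).toMonoidHom x.1 *
        Matrix.GeneralLinearGroup.map ι x.2
      map_one' := by simp
      map_mul' := fun x y => by
        apply Units.ext
        simp only [Prod.fst_mul, Prod.snd_mul, map_mul, Units.val_mul]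
        show _ = _ * _ * (_ * _)
        rw [mul_assoc, mul_assoc, ← mul_assoc _ (Units.val (Units.map _ y.1)) (Units.val _)]
        congr 1
        rw [← mul_assoc]
        congr 1
        exact Algebra.commutes (y.1 : F) _ }
  have hΦ : ∀ x i j, (Φ x : Matrix (Fin n) (Fin n) F) i j =
      (x.1 : F) * ι ((x.2 : Matrix (Fin n) (Fin n) K) i j) := fun x i j => by
    show ((algebraMap F (Matrix (Fin n) (Fin n) F) (x.1 : F)) * (x.2 : Matrix (Fin n) (Fin n) K).map ι) i j = _
    rw [← Algebra.smul_def]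
    rfl
  have hrange : ∀ g : GL (Fin n) F, g ∈ Φ.range ↔
      ∃ c : F, c ≠ 0 ∧ (g : Matrix (Fin n) (Fin n) F).map σ = c • (g : Matrix (Fin n) (Fin n) F) := by
    intro g
    constructor
    · rintro ⟨⟨a, h⟩, rfl⟩
      refine ⟨σ a / a, div_ne_zero ((map_ne_zero σ).mpr a.ne_zero) a.ne_zero, ?_⟩
      ext i j
      rw [Matrix.map_apply, Matrix.smul_apply, hΦ, smul_eq_mul]
      show σ ((a : F) * ι ((h : Matrix (Fin n) (Fin n) K) i j)) = σ (a : F) / a * ((a : F) * ι ((h : Matrix (Fin n) (Fin n) K) i j))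
      rw [map_mul, (hfix (ι ((h : Matrix (Fin n) (Fin n) K) i j))).mpr (SetLike.coe_mem _)]
      field_simp
    · rintro ⟨c, hc0, h2⟩
      haveI : Nonempty (Fin n) := ⟨⟨0, hn⟩⟩
      obtain ⟨i, j, hij⟩ : ∃ i j, (g : Matrix (Fin n) (Fin n) F) i j ≠ 0 := by
        by_contra hh
        push Not at hh
        exact g.ne_zero (by ext i j; exact hh i j)
      have hq : ∀ k l, (g : Matrix (Fin n) (Fin n) F) k l / (g : Matrix (Fin n) (Fin n) F) i j ∈ K := fun k l => by
        rw [← hfix]
        have e1 := congrFun (congrFun h2 k) l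
        have e2 := congrFun (congrFun h2 i) j
        simp only [Matrix.map_apply, Matrix.smul_apply, smul_eq_mul] at e1 e2
        rw [map_div₀, e1, e2, mul_div_mul_left _ _ hc0]
      let h0 : Matrix (Fin n) (Fin n) K := Matrix.of fun k l => ⟨_, hq k l⟩
      have hdet : h0.det ≠ 0 := fun hz => by
        have h3 := congrArg ι hz
        rw [RingHom.map_det, map_zero] at h3
        have : ι.mapMatrix h0 = ((g : Matrix (Fin n) (Fin n) F) i j)⁻¹ • (g : Matrix (Fin n) (Fin n) F) := by
          ext k l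
          simp [h0, ι, div_eq_inv_mul]
        rw [this, Matrix.det_smul] at h3
        exact mul_ne_zero (pow_ne_zero _ (inv_ne_zero hij))
          (Matrix.GeneralLinearGroup.val_det_apply g ▸ Units.ne_zero _) h3
      refine ⟨(Units.mk0 _ hij, Matrix.GeneralLinearGroup.mkOfDetNeZero h0 hdet), Units.ext ?_⟩
      ext k l
      rw [hΦ]
      exact mul_div_cancel₀ _ hij
  have hker : Nat.card Φ.ker = q₀ - 1 := by
    rw [← hK, ← Fintype.card_units, ← Nat.card_eq_fintype_card]
    let f : Kˣ → Φ.ker := fun u => ⟨((Units.map ι.toMonoidHom u)⁻¹,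
      Units.map (algebraMap K (Matrix (Fin n) (Fin n) K)).toMonoidHom u), by
        rw [MonoidHom.mem_ker]
        apply Units.ext
        ext i j
        rw [hΦ]
        by_cases hij : i = j
        · subst hij; simp [Matrix.algebraMap_matrix_apply, ι]
        · simp [Matrix.algebraMap_matrix_apply, hij, ι]⟩
    refine (Nat.card_eq_of_bijective f ⟨fun u v e => ?_, ?_⟩).symm
    · have := congrArg (fun x : Φ.ker => ((x.1.1⁻¹ : Fˣ) : F)) e
      simp only [f, inv_inv] at this
      exact Units.ext (ι.injective this)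
    · rintro ⟨⟨a, h⟩, hx⟩
      rw [MonoidHom.mem_ker] at hx
      have e : ∀ i j, (a : F) * ι ((h : Matrix (Fin n) (Fin n) K) i j) = (1 : Matrix (Fin n) (Fin n) F) i j :=
        fun i j => by rw [← hΦ (a, h), hx]; rfl
      have h00 := e ⟨0, hn⟩ ⟨0, hn⟩
      rw [Matrix.one_apply_eq] at h00
      have hu : (h : Matrix (Fin n) (Fin n) K) ⟨0, hn⟩ ⟨0, hn⟩ ≠ 0 := fun h0 => by
        rw [h0, map_zero, mul_zero] at h00; exact zero_ne_one h00
      refine ⟨Units.mk0 _ hu, Subtype.ext (Prod.ext (Units.ext ?_) (Units.ext ?_))⟩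
      · show ((Units.map ι.toMonoidHom (Units.mk0 _ hu))⁻¹ : Fˣ).1 = (a : F)
        rw [Units.val_inv_eq_inv_val]
        exact inv_eq_of_mul_eq_one_left h00
      · ext i j
        show ι ((algebraMap K (Matrix (Fin n) (Fin n) K) ((h : Matrix (Fin n) (Fin n) K) ⟨0, hn⟩ ⟨0, hn⟩)) i j) =
          ι ((h : Matrix (Fin n) (Fin n) K) i j)
        apply mul_left_cancel₀ a.ne_zero
        rw [e]
        by_cases hij : i = j
        · subst hij
          rw [Matrix.one_apply_eq, Matrix.algebraMap_matrix_apply, if_pos rfl]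
          exact h00
        · rw [Matrix.one_apply_ne hij, Matrix.algebraMap_matrix_apply, if_neg hij, map_zero, mul_zero]
  have hcard := Φ.ker.card_eq_card_quotient_mul_card_subgroup
  rw [Nat.card_congr (QuotientGroup.quotientKerEquivRange Φ).toEquiv, hker, Nat.card_prod, Nat.card_units,
    Nat.card_eq_fintype_card (α := F), hF, Matrix.card_GL_field, hK] at hcard
  rw [Nat.card_congr (Equiv.subtypeEquivRight fun g => (hrange g).symm)]
  have hq1 : 1 < q₀ := hK ▸ Fintype.one_lt_card
  obtain ⟨t, ht⟩ : q₀ - 1 ∣ q₀ ^ r - 1 := by simpa using Nat.sub_dvd_pow_sub_pow q₀ 1 r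
  rw [ht, Nat.mul_div_cancel_left _ (by omega)]
  rw [ht] at hcard
  apply Nat.eq_of_mul_eq_mul_right (show 0 < q₀ - 1 by omega)
  show Nat.card Φ.range * (q₀ - 1) = _
  rw [← hcard]
  ring

end Cfsg.Agent.S2636
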