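import Cfsg.Statements.S2639
import Cfsg.Agent.Lib.Small.UnitaryRestrict
import Cfsg.Agent.Lib.Classical.SymplecticIso
-- import your own Cfsg.Agent.* helpers here

set_option autoImplicit false
open Cfsg

namespace Cfsg.Agent.S2639

/-- The unitary group embeds in the symplectic group of twice the dimension over the subfield: for a field K with q² elements and a field F with q elements (isomorphic to the subfield of K of order q), there is an injective homomorphism GU_m(q) → Sp_2m(F). -/
theorem result {K F : Type*} [Field K] [Fintype K] [Field F] [Fintype F] {q : ℕ} (hK : Fintype.card K = q ^ 2) (hF : Fintype.card F = q) (m : ℕ) : ∃ φ : ↥(Cfsg.GU m K q) →* ↥(Matrix.symplecticGroup (Fin m) F), Function.Injective φ := by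
  classical
  obtain ⟨S⟩ := Cfsg.Agent.Small.QuadExt.exists_setup hF hK
  let _ : Algebra F K := S.emb.toAlgebra
  have halg : ∀ a, algebraMap F K a = S.emb a := fun _ => rfl
  obtain ⟨lam, hadd, hsmul, hker⟩ := Cfsg.Agent.Small.QuadExt.exists_coord S hF hK
  let h : (Fin m → K) → (Fin m → K) → K := fun u v => ∑ i, u i * S.conj (v i)
  have hsw : ∀ u v, S.conj (h u v) = h v u := fun u v => by
    simp only [h, map_sum, map_mul, S.conj_conj]
    exact Finset.sum_congr rfl fun i _ => mul_comm _ _
  let B : (Fin m → K) →ₗ[F] (Fin m → K) →ₗ[F] F := LinearMap.mk₂ F (fun u v => lam (h u v))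
    (fun u u' v => by
      rw [← hadd]; congr 1
      simp only [h, Pi.add_apply, add_mul, Finset.sum_add_distrib])
    (fun c u v => by
      rw [smul_eq_mul, ← hsmul, Finset.mul_sum]; congr 1
      refine Finset.sum_congr rfl fun i _ => ?_
      rw [Pi.smul_apply, Algebra.smul_def, halg, mul_assoc])
    (fun u v v' => by
      rw [← hadd]; congr 1
      simp only [h, Pi.add_apply, map_add, mul_add, Finset.sum_add_distrib])
    (fun c u v => by
      rw [smul_eq_mul, ← hsmul, Finset.mul_sum]; congr 1
      refine Finset.sum_congr rfl fun i _ => ?_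
      rw [Pi.smul_apply, Algebra.smul_def, halg, map_mul, S.conj_emb]
      ring)
  have hB : Cfsg.Agent.Classical.SpCount.IsAltND B := by
    refine ⟨fun v => (hker _).mpr (hsw v v), fun v hv => funext fun i => ?_⟩
    obtain ⟨w, hw⟩ := Cfsg.Agent.Small.QuadExt.exists_not_fixed S hF hK
    by_contra hne
    have h1 : ∀ c : K, S.conj (v i * S.conj c) = v i * S.conj c := fun c => by
      have := (hker _).mp (hv (Pi.single i c))
      simpa [h, Pi.single_apply, apply_ite] using this
    have h2 := h1 (S.conj (w / v i))
    rw [S.conj_conj, mul_div_cancel₀ _ hne] at h2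
    exact hw h2
  have hfin : Module.finrank F (Fin m → K) = 2 * m := by
    have := Module.card_eq_pow_finrank (K := F) (V := Fin m → K)
    rw [Fintype.card_fun, Fintype.card_fin, hK, hF, ← pow_mul] at this
    exact (Nat.pow_right_injective (hF ▸ Fintype.one_lt_card) this).symm
  obtain ⟨e⟩ := Cfsg.Agent.Classical.SpCount.exists_isomEquiv hB hfin
  let ρ := Cfsg.Agent.Small.UnitaryRestrict.rho F (K := K) m q
  have hinv : ∀ g x, ρ g⁻¹ (ρ g x) = x := fun g x => by
    rw [← Module.End.mul_apply, ← map_mul, inv_mul_cancel, map_one]; rfl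
  let τ : ↥(Cfsg.GU m K q) →* ((Fin m → K) ≃ₗ[F] (Fin m → K)) :=
    { toFun := fun g => LinearEquiv.ofLinear (ρ g) (ρ g⁻¹)
        (LinearMap.ext fun x => by simpa using hinv g⁻¹ x) (LinearMap.ext fun x => hinv g x)
      map_one' := LinearEquiv.ext fun x => by
        show ρ 1 x = x
        rw [map_one]; rfl
      map_mul' := fun a b => LinearEquiv.ext fun x => by
        show ρ (a * b) x = ρ a (ρ b x)
        rw [map_mul]; rfl }
  refine ⟨e.toMonoidHom.comp (τ.codRestrict _ fun g u v => ?_), e.injective.comp fun a b hab => ?_⟩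
  · have hg := g.2 u v
    show lam (h (ρ g u) (ρ g v)) = lam (h u v)
    simp only [h, ← Cfsg.Agent.Small.UnitaryRestrict.hermForm_eq S.conj S.conj_eq]
    exact congrArg lam hg
  · refine Cfsg.Agent.Small.UnitaryRestrict.rho_injective (F := F) m q (LinearMap.ext fun x => ?_)
    exact LinearEquiv.congr_fun (congrArg Subtype.val hab) x

end Cfsg.Agent.S2639
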