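import Cfsg.Statements.S2640
import Cfsg.Agent.Lib.Small.UnitaryRestrict
-- import your own Cfsg.Agent.* helpers here

set_option autoImplicit false
open Cfsg

namespace Cfsg.Agent.S2640

/-- For m even, the unitary group GU_m(q) (over the field with q² elements) embeds in the orthogonal group O⁺_2m(q) of the hyperbolic form Σ x_i y_i over the field with q elements (there is an injective homomorphism). -/
theorem result {K F : Type*} [Field K] [Fintype K] [Field F] [Fintype F] {q : ℕ} (hK : Fintype.card K = q ^ 2) (hF : Fintype.card F = q) (m : ℕ) (hm : Even m) : ∃ φ : ↥(Cfsg.GU m K q) →* ↥(Cfsg.isometryGroup F (Cfsg.quadFormPlus m F)), Function.Injective φ := by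
  classical
  obtain ⟨S⟩ := Cfsg.Agent.Small.QuadExt.exists_setup hF hK
  let _ : Algebra F K := S.emb.toAlgebra
  obtain ⟨w, hw⟩ := Cfsg.Agent.Small.QuadExt.exists_not_fixed S hF hK
  obtain ⟨ν, hν⟩ := Cfsg.Agent.Small.QuadExt.exists_norm_neg_one S hF hK
  obtain ⟨ζ, hζ, hζ1⟩ := Cfsg.Agent.Small.QuadExt.exists_norm_one_ne_one S hF hK
  obtain ⟨k, rfl⟩ := hm
  obtain ⟨Φ, hΦ⟩ := Cfsg.Agent.Small.UnitaryRestrict.exists_even_map (F := F) (n := k + k)
    (finProdFinEquiv.trans (finCongr (Nat.mul_two k ▸ rfl) : Fin (k * 2) ≃ Fin (k + k)))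
    S.conj S.conj_conj S.conj_emb w hw ν hν ζ hζ hζ1
  exact Cfsg.Agent.Small.UnitaryRestrict.exists_embed S.conj S.conj_eq (by rw [hK, hF])
    (by simp; omega) _ (Cfsg.Agent.Small.UnitaryRestrict.plus_nondeg _) Φ hΦ

end Cfsg.Agent.S2640
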