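import Cfsg.Statements.S2641
import Cfsg.Agent.Lib.Small.UnitaryRestrict
-- import your own Cfsg.Agent.* helpers here

set_option autoImplicit false
open Cfsg

namespace Cfsg.Agent.S2641

/-- For m odd, the unitary group GU_m(q) (over the field with q² elements) embeds in the orthogonal group O⁻_2m(q) of an elliptic form (Σ_(i<m−1) x_i y_i plus an anisotropic binary form) over the field with q elements (there is an injective homomorphism). -/
theorem result {K F : Type*} [Field K] [Fintype K] [Field F] [Fintype F] {q : ℕ} (hK : Fintype.card K = q ^ 2) (hF : Fintype.card F = q) (m : ℕ) (hm : Odd m) (a b : F) (hab : ∀ z₁ z₂ : F, z₁ ^ 2 + a * z₁ * z₂ + b * z₂ ^ 2 = 0 → z₁ = 0 ∧ z₂ = 0) : ∃ φ : ↥(Cfsg.GU m K q) →* ↥(Cfsg.isometryGroup F (Cfsg.quadFormMinus (m - 1) F a b)), Function.Injective φ := by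
  classical
  obtain ⟨S⟩ := Cfsg.Agent.Small.QuadExt.exists_setup hF hK
  let _ : Algebra F K := S.emb.toAlgebra
  have halg : ∀ a, algebraMap F K a = S.emb a := fun _ => rfl
  obtain ⟨w, hw⟩ := Cfsg.Agent.Small.QuadExt.exists_not_fixed S hF hK
  obtain ⟨ν, hν⟩ := Cfsg.Agent.Small.QuadExt.exists_norm_neg_one S hF hK
  obtain ⟨ζ, hζ, hζ1⟩ := Cfsg.Agent.Small.QuadExt.exists_norm_one_ne_one S hF hK
  obtain ⟨r, hr1, hr2, hr3⟩ := Cfsg.Agent.Small.QuadExt.exists_root S hF hK a b hab
  obtain ⟨k, rfl⟩ := hm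
  show ∃ φ : ↥(Cfsg.GU (2 * k + 1) K q) →* ↥(Cfsg.isometryGroup F (Cfsg.quadFormMinus (2 * k) F a b)), Function.Injective φ
  obtain ⟨Φ, hΦ⟩ := Cfsg.Agent.Small.UnitaryRestrict.exists_even_map (F := F) (n := 2 * k)
    (finProdFinEquiv.trans (finCongr (by omega)) : Fin k × Fin 2 ≃ Fin (2 * k))
    S.conj S.conj_conj S.conj_emb w hw ν hν ζ hζ hζ1
  let Ψ : (((Fin (2 * k) ⊕ Fin (2 * k)) ⊕ Fin 2) → F) →ₗ[F] (Fin (2 * k + 1) → K) :=
    { toFun := fun v => Fin.cons (S.emb (v (Sum.inr 0)) - r * S.emb (v (Sum.inr 1)))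
        (fun i => Φ (fun x => v (Sum.inl x)) (Fin.cast (by omega) i))
      map_add' := fun u v => by
        have h : (fun x => u (Sum.inl x) + v (Sum.inl x)) = (fun x => u (Sum.inl x)) + fun x => v (Sum.inl x) := rfl
        funext i
        refine Fin.cases ?_ (fun j => ?_) i
        · simp only [Pi.add_apply, map_add, Fin.cons_zero]; ring
        · simp [h]
      map_smul' := fun c v => by
        have h : (fun x => c * v (Sum.inl x)) = c • fun x => v (Sum.inl x) := rfl
        funext i
        refine Fin.cases ?_ (fun j => ?_) i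
        · simp only [Pi.smul_apply, smul_eq_mul, map_mul, Fin.cons_zero, RingHom.id_apply, Algebra.smul_def, halg]
          ring
        · simp [h] }
  have hQ : ∀ v, Cfsg.Agent.Small.UnitaryRestrict.nrm S.conj (Ψ v) =
      algebraMap F K (Cfsg.quadFormMinus (2 * k) F a b v) := by
    intro v
    have h := hΦ (fun x => v (Sum.inl x))
    simp only [Cfsg.Agent.Small.UnitaryRestrict.nrm, Cfsg.quadFormPlus, Cfsg.quadFormMinus, halg, map_add] at h ⊢
    rw [Fin.sum_univ_succ]
    simp only [Ψ, LinearMap.coe_mk, AddHom.coe_mk, Fin.cons_zero, Fin.cons_succ]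
    rw [← h]
    refine (add_comm _ _).trans (congrArg₂ (· + ·) ?_ ?_)
    · exact rfl
    · simp only [map_sub, map_mul, map_pow, S.conj_emb]
      linear_combination (-(S.emb (v (Sum.inr 0)) * S.emb (v (Sum.inr 1)))) * hr1
        + (S.emb (v (Sum.inr 1))) ^ 2 * hr2
  refine Cfsg.Agent.Small.UnitaryRestrict.exists_embed S.conj S.conj_eq (by rw [hK, hF])
    (by simp; omega) _ ?_ Ψ hQ
  intro v hv
  have h0 : Cfsg.quadFormMinus (2 * k) F a b v = 0 := by
    have := hv 0
    simpa [Cfsg.quadFormMinus] using this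
  have hp : (fun x => v (Sum.inl x)) = 0 := by
    refine Cfsg.Agent.Small.UnitaryRestrict.plus_nondeg _ _ fun u => ?_
    have h := hv (Sum.elim u 0)
    simp only [Cfsg.quadFormMinus, Pi.add_apply, Sum.elim_inl, Sum.elim_inr, Pi.zero_apply, add_zero] at h h0
    have hA := hv (Sum.elim 0 ![1, 0])
    have hB := hv (Sum.elim 0 ![0, 1])
    simp [Cfsg.quadFormMinus] at hA hB
    have e0 : 2 * v (Sum.inr 0) + a * v (Sum.inr 1) = 0 := by linear_combination hA - h0
    have e1 : a * v (Sum.inr 0) + 2 * b * v (Sum.inr 1) = 0 := by linear_combination hB - h0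
    have hdet : 4 * b - a ^ 2 ≠ 0 := by
      intro hd
      by_cases h2 : (2 : F) = 0
      · have ha : a = 0 := pow_eq_zero_iff (n := 2) (by norm_num) |>.mp (by linear_combination -hd + 2 * b * h2)
        have hinj : Function.Injective fun x : F => x * x := fun x y hxy => by
          have : (x - y) * (x - y) = 0 := by linear_combination (norm := ring_nf) hxy + (y * y - x * y) * h2
          exact sub_eq_zero.mp (mul_self_eq_zero.mp this)
        obtain ⟨s, hs⟩ := Finite.injective_iff_surjective.mp hinj b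
        have hs' : s * s = b := hs
        exact one_ne_zero (hab s 1 (by rw [ha]; linear_combination hs' + b * h2)).2
      · have h4 : (4 : F) ≠ 0 := by rw [show (4 : F) = 2 * 2 by norm_num]; exact mul_ne_zero h2 h2
        refine one_ne_zero (hab (-a / 2) 1 ?_).2
        field_simp
        linear_combination hd
    have z1 : v (Sum.inr 1) = 0 := by
      have : (4 * b - a ^ 2) * v (Sum.inr 1) = 0 := by linear_combination 2 * e1 - a * e0
      exact (mul_eq_zero.mp this).resolve_left hdet
    have z0 : v (Sum.inr 0) = 0 := by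
      have : (4 * b - a ^ 2) * v (Sum.inr 0) = 0 := by linear_combination 2 * b * e0 - a * e1
      exact (mul_eq_zero.mp this).resolve_left hdet
    rw [z0, z1] at h
    show (∑ i, (v (Sum.inl (Sum.inl i)) + u (Sum.inl i)) * (v (Sum.inl (Sum.inr i)) + u (Sum.inr i))) =
      ∑ i, u (Sum.inl i) * u (Sum.inr i)
    linear_combination h
  have hl : ∀ x, v (Sum.inl x) = 0 := fun x => congrFun hp x
  have hz : v (Sum.inr 0) = 0 ∧ v (Sum.inr 1) = 0 := by
    refine hab _ _ ?_
    simpa [Cfsg.quadFormMinus, hl] using h0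
  funext x
  rcases x with x | x
  · exact hl x
  · fin_cases x
    · exact hz.1
    · exact hz.2

end Cfsg.Agent.S2641
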