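import Cfsg.Statements.S2645
import Cfsg.Agent.Lib.Small.SymplecticClasses
import Cfsg.Agent.Lib.Small.PrimeOrderFactor
-- import your own Cfsg.Agent.* helpers here

set_option autoImplicit false
open Cfsg

namespace Cfsg.Agent.S2645

/-- Number of conjugacy classes of elements of odd prime order r, r different from the characteristic, in the symplectic group Sp_2m(q): let i be the multiplicative order of q modulo r and t = (r − 1)/i. If i is odd the eigenvalue orbits pair off (Λ ≠ Λ⁻¹) and the classes correspond to the non-zero (t/2)-tuples (a_j) with 2i Σ a_j ≤ 2m, giving C(⌊m/i⌋ + t/2, t/2) − 1 classes; if i is even (Λ = Λ⁻¹) they correspond to the non-zero t-tuples with i Σ a_j ≤ 2m, giving C(⌊2m/i⌋ + t, t) − 1 classes. -/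
theorem result {F : Type*} [Field F] [Fintype F] {p q : ℕ} [Fact p.Prime] [CharP F p] (hF : Fintype.card F = q) (m r i t : ℕ) (hr : r.Prime) (hr2 : r ≠ 2) (hrp : r ≠ p) (hi : i = orderOf (q : ZMod r)) (ht : t * i = r - 1) : Nat.card {C : ConjClasses ↥(Matrix.symplecticGroup (Fin m) F) // ∃ g : Matrix.symplecticGroup (Fin m) F, ConjClasses.mk g = C ∧ orderOf g = r} = if Odd i then Nat.choose (m / i + t / 2) (t / 2) - 1 else Nat.choose (2 * m / i + t) t - 1 := by
  classical
  obtain ⟨P, hP⟩ : ∃ P, P = Cfsg.Agent.Small.PrimeOrderFactor.factors F r := ⟨_, rfl⟩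
  haveI : Fact r.Prime := ⟨hr⟩
  obtain ⟨hS, -, hSc⟩ := Cfsg.Agent.Small.PrimeOrderFactor.exists_data (K := F) (p := p) hr hrp
  rw [← hP, hF, ← hi] at hSc
  have hipos : 0 < i := by
    rcases Nat.eq_zero_or_pos i with h | h
    · rw [h, mul_zero] at ht
      have := hr.two_le
      omega
    · exact h
  have hcard : P.card = t := Nat.eq_of_mul_eq_mul_right hipos (hSc.trans ht.symm)
  have hi' : i = orderOf ((Fintype.card F : ℕ) : ZMod r) := by rw [hF, hi]
  have hN : Fintype.card (Fin m ⊕ Fin m) = 2 * m := by rw [Fintype.card_sum, Fintype.card_fin, two_mul]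
  have hσ : ∀ x : F, RingHom.id F x = x ^ p ^ 0 := fun x => by rw [pow_zero, pow_one, RingHom.id_apply]
  have hσσ : ∀ x : F, RingHom.id F (RingHom.id F x) = x := fun x => rfl
  rw [Cfsg.Agent.Small.PrimeOrderFactor.card_classes (p := p) (Matrix.symplecticGroup (Fin m) F).subtype
    Subtype.val_injective (fun Q => ∀ j ≤ 2 * m, Q.coeff j = Q.coeff (2 * m - j))
    (fun g h hc => Cfsg.Agent.Small.SymplecticClasses.charpoly_conj hc)
    (fun g h hg hh hc => Cfsg.Agent.Small.SymplecticClasses.conj_of_charpoly p g h hg hh hc)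
    (fun g j hj => Cfsg.Agent.Small.SymplecticClasses.charpoly_palindrome g hj)
    (fun Q hQ hd hg => Cfsg.Agent.Small.SymplecticClasses.exists_element p hQ (hd.trans hN) hg) hr hrp hi', hN]
  have hgood : ∀ M : Multiset (Cfsg.Agent.Small.PrimeOrderFactor.factors F r), i * M.card ≤ 2 * m →
      ((∀ j ≤ 2 * m, (Cfsg.Agent.Small.PrimeOrderFactor.fac (2 * m) i M).coeff j =
        (Cfsg.Agent.Small.PrimeOrderFactor.fac (2 * m) i M).coeff (2 * m - j)) ↔
      M.map (Cfsg.Agent.Small.PrimeOrderFactor.dualS (p := p) hr hrp (RingHom.id F) hσσ) = M) := by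
    intro M hM
    obtain ⟨hm, hd, -, hdiv⟩ := Cfsg.Agent.Small.PrimeOrderFactor.fac_spec (p := p) hr hrp hi' hM
    have hdual := Cfsg.Agent.Small.PrimeOrderFactor.dual_fac (p := p) hr hrp (RingHom.id F) hσσ (2 * m) i M
    obtain ⟨R, hR⟩ : ∃ R, R = Cfsg.Agent.Small.PrimeOrderFactor.fac (2 * m) i M := ⟨_, rfl⟩
    rw [← hR] at hm hd hdiv hdual ⊢
    constructor
    · intro h
      have hc0 : R.coeff 0 = 1 := by rw [h 0 (Nat.zero_le _), Nat.sub_zero, ← hd, hm.coeff_natDegree]
      have e : Cfsg.Agent.Small.PrimeOrderFactor.dual (RingHom.id F) R = R := by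
        refine Polynomial.ext fun j => ?_
        rcases le_or_gt j (2 * m) with hj | hj
        · rw [Cfsg.Agent.Small.PrimeOrderFactor.coeff_dual _ _ (hd.symm ▸ hj), hd, hc0, map_one, inv_one, one_mul,
            RingHom.id_apply, ← h j hj]
        · rw [Polynomial.coeff_eq_zero_of_natDegree_lt (by
              rw [Cfsg.Agent.Small.PrimeOrderFactor.natDegree_dual _ (by rw [hc0]; exact one_ne_zero), hd]; exact hj),
            Polynomial.coeff_eq_zero_of_natDegree_lt (hd.symm ▸ hj)]
      refine Cfsg.Agent.Small.PrimeOrderFactor.fac_injective (p := p) hr hrp hi' (by rwa [Multiset.card_map]) hM ?_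
      rw [← hdual, e, hR]
    · intro h
      rw [h, ← hR] at hdual
      have h0 := congrArg (fun Q => Q.coeff 0) hdual
      simp only [Cfsg.Agent.Small.PrimeOrderFactor.coeff_zero_dual _ hm, RingHom.id_apply] at h0
      have hc0 : R.coeff 0 = 1 := by
        have hne : R.coeff 0 ≠ 0 := by
          intro e
          obtain ⟨s, hs⟩ := hdiv
          have := congrArg (fun Q => Q.coeff 0) hs
          simp only [Polynomial.mul_coeff_zero, e, zero_mul] at this
          simp [Polynomial.coeff_zero_eq_eval_zero, hr.ne_zero] at this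
        by_cases h2 : (2 : F) = 0
        · have : (R.coeff 0 - 1) ^ 2 = 0 := by
            rw [inv_eq_iff_eq_inv] at h0
            have e : R.coeff 0 * R.coeff 0 = 1 := by
              nth_rewrite 1 [h0]; rw [inv_mul_cancel₀ hne]
            linear_combination e - (R.coeff 0 - 1) * h2
          exact sub_eq_zero.1 (pow_eq_zero_iff two_ne_zero |>.1 this)
        · letI : Invertible (-1 : F) := ⟨-1, by norm_num, by norm_num⟩
          have hne1 : R.eval (-1) ≠ 0 := by
            intro e
            obtain ⟨s, hs⟩ := hdiv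
            have := congrArg (Polynomial.eval (-1 : F)) hs
            rw [Polynomial.eval_mul, e, zero_mul, Polynomial.eval_pow, Polynomial.eval_sub, Polynomial.eval_pow,
              Polynomial.eval_X, Polynomial.eval_one, (hr.odd_of_ne_two hr2).neg_one_pow] at this
            exact h2 (neg_eq_zero.1 (by
              rw [show (-2 : F) = -1 - 1 by norm_num]; exact (pow_eq_zero_iff'.1 this).1))
          have e1 : Polynomial.eval₂ (RingHom.id F) (⅟(-1 : F)) R.reverse * (-1) ^ R.natDegree =
              Polynomial.eval₂ (RingHom.id F) (-1 : F) R := Polynomial.eval₂_reverse_mul_pow _ _ _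
          rw [hd, pow_mul, neg_one_sq, one_pow, mul_one, show (⅟(-1 : F)) = -1 from rfl] at e1
          have e2 := congrArg (Polynomial.eval (-1 : F)) hdual
          rw [Cfsg.Agent.Small.PrimeOrderFactor.dual, Polynomial.map_id, Polynomial.eval_mul, Polynomial.eval_C,
            RingHom.id_apply] at e2
          change Polynomial.eval (-1 : F) R.reverse = Polynomial.eval (-1 : F) R at e1
          rw [e1, mul_eq_right₀ hne1, inv_eq_one] at e2
          exact e2
      intro j hj
      have h1 := congrArg (fun Q => Q.coeff j) hdual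
      simp only [Cfsg.Agent.Small.PrimeOrderFactor.coeff_dual _ _ (hd.symm ▸ hj), hd, hc0, RingHom.id_apply,
        inv_one, one_mul] at h1
      exact h1.symm
  have hsub : ∀ M : Multiset (Cfsg.Agent.Small.PrimeOrderFactor.factors F r), M.card ≤ 2 * m / i → i * M.card ≤ 2 * m :=
    fun M h => (Nat.mul_le_mul_left i h).trans (Nat.mul_div_le _ i)
  rw [Nat.card_congr (Equiv.subtypeEquivRight fun M => and_congr_right fun h => hgood M (hsub M h))]
  obtain ⟨hyes, hno⟩ := Cfsg.Agent.Small.PrimeOrderFactor.card_dual_invariant (K := F) (p := p) hr hrp (RingHom.id F) 0 hσ hσσ (2 * m / i)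
  have hne1 : (1 : ZMod r) ≠ -1 := by
    intro e
    have h2 : ((2 : ℕ) : ZMod r) = 0 := by push_cast; linear_combination e
    exact hr2 ((Nat.prime_dvd_prime_iff_eq hr Nat.prime_two).1 ((ZMod.natCast_eq_zero_iff _ _).1 h2))
  have hq1 : (q : ZMod r) ^ i = 1 := by rw [hi]; exact pow_orderOf_eq_one _
  by_cases hodd : Odd i
  · rw [if_pos hodd, hno ?_, ← hP, hcard, Nat.div_div_eq_div_mul, mul_comm i 2, Nat.mul_div_mul_left _ _ two_pos]
    rintro ⟨j, hj⟩
    rw [pow_zero, one_mul, hF, Nat.cast_pow] at hj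
    refine hne1 ?_
    calc (1 : ZMod r) = (((q : ZMod r) ^ i)) ^ j := by rw [hq1, one_pow]
      _ = (-1 : ZMod r) ^ i := by rw [← pow_mul, mul_comm, pow_mul, hj]
      _ = -1 := hodd.neg_one_pow
  · rw [if_neg hodd, hyes ?_, ← hP, hcard]
    obtain ⟨u, hu⟩ := Nat.not_odd_iff_even.1 hodd
    refine ⟨u, ?_⟩
    rw [pow_zero, one_mul, hF, Nat.cast_pow]
    have h1 : ((q : ZMod r) ^ u) ^ 2 = 1 := by rw [← pow_mul, ← hq1]; congr 1; omega
    refine (sq_eq_one_iff.1 h1).resolve_left fun e => ?_
    have h2 := orderOf_dvd_of_pow_eq_one e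
    rw [← hi] at h2
    have := Nat.le_of_dvd (by omega) h2
    omega

end Cfsg.Agent.S2645
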