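import Cfsg.Statements.S2646
import Cfsg.Agent.Lib.Small.UnitaryJordanCentralizer
import Cfsg.Agent.Lib.Classical.UnitaryOrders
import Cfsg.Agent.Lib.Classical.UnitaryForm

set_option autoImplicit false
open Cfsg

namespace Cfsg.Agent.S2646

/-- Order of the centraliser in the general unitary group GU_n(q) of a unipotent element of given Jordan type: if u ∈ GU_n(q) (isometries of Σ u_i v_i^q over the field with q² elements) is similar to the unipotent matrix with a_i Jordan blocks of size i (all sizes at least 1), then its centraliser in GU_n(q) has order q^γ · Π_i |GU_(a_i)(q)| with γ = 2 Σ_(i<j) i a_i a_j + Σ_i (i − 1) a_i², the same exponent as in GL_n(q), where |GU_a(q)| = q^(a(a−1)/2) Π_(k=1)^a (q^k − (−1)^k). -/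
theorem result {K : Type*} [Field K] [Fintype K] {q n t : ℕ} (hK : Fintype.card K = q ^ 2) (d : Fin t → ℕ) (hd : ∀ k, 1 ≤ d k) (e : ((k : Fin t) × Fin (d k)) ≃ Fin n) (u : ↥(Cfsg.GU n K q)) (hu : IsConj (Matrix.reindex e e (Cfsg.jordanTypeMatrix d K)) ((u : GL (Fin n) K) : Matrix (Fin n) (Fin n) K)) : (Nat.card ↥(Subgroup.centralizer ({u} : Set ↥(Cfsg.GU n K q))) : ℤ) = (q : ℤ) ^ (2 * (∑ i ∈ Finset.range (Finset.univ.sup d + 1), ∑ j ∈ Finset.range (Finset.univ.sup d + 1), if i < j then i * (Finset.univ.filter (fun k : Fin t => d k = i)).card * (Finset.univ.filter (fun k : Fin t => d k = j)).card else 0) + ∑ i ∈ Finset.range (Finset.univ.sup d + 1), (i - 1) * (Finset.univ.filter (fun k : Fin t => d k = i)).card ^ 2) * ∏ i ∈ Finset.range (Finset.univ.sup d + 1), ((q : ℤ) ^ ((Finset.univ.filter (fun k : Fin t => d k = i)).card * ((Finset.univ.filter (fun k : Fin t => d k = i)).card - 1) / 2) * ∏ j : Fin (Finset.univ.filter (fun k : Fin t => d k = i)).card, ((q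 : ℤ) ^ ((j : ℕ) + 1) - (-1) ^ ((j : ℕ) + 1))) := by
  classical
  obtain ⟨p', e', σ', -, -, -, -, hσ'⟩ := Cfsg.Agent.Classical.exists_usigma hK
  letI : StarRing K := Cfsg.Agent.Small.Hermitian.starRingOfInvolution (σ' : K →+* K) hσ'.involutive
  have hstar : ∀ x : K, star x = x ^ q := fun x => hσ'.apply_eq x
  obtain ⟨p, hp⟩ := CharP.exists K
  obtain ⟨e₀, hpp, -⟩ := FiniteField.card K p
  haveI : Fact p.Prime := ⟨hpp⟩
  have hq : 1 ≤ q := by
    rcases Nat.eq_zero_or_pos q with h | h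
    · subst h; simp at hK
    · exact h
  have hGU : ∀ a : ℕ, (Nat.card ↥(Cfsg.GU a K q) : ℤ) =
      (q : ℤ) ^ (a * (a - 1) / 2) * ∏ j : Fin a, ((q : ℤ) ^ ((j : ℕ) + 1) - (-1) ^ ((j : ℕ) + 1)) := by
    intro a
    rw [Cfsg.Agent.Classical.UCount.card_GU hσ' a,
      Fin.prod_univ_eq_prod_range (fun j : ℕ => ((q : ℤ) ^ (j + 1) - (-1) ^ (j + 1))) a, Nat.cast_mul, Nat.cast_pow,
      Nat.cast_prod]
    congr 1
    refine Finset.prod_congr rfl fun j _ => ?_
    rcases Nat.even_or_odd j with he | ho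
    · rw [if_pos he, he.add_one.neg_one_pow]
      push_cast
      ring
    · rw [if_neg (Nat.not_even_iff_odd.2 ho), ho.add_one.neg_one_pow, Nat.cast_sub (Nat.one_le_pow _ _ hq)]
      push_cast
      ring
  rw [Cfsg.Agent.Small.UnitaryJordanCent.card_centralizer hstar hK (p := p) d hd e u hu,
    Cfsg.Agent.Small.JordanCent.exponent_eq d hd _ (fun _ => rfl), Nat.cast_mul, Nat.cast_pow, Nat.cast_prod,
    Fin.prod_univ_eq_prod_range (fun i : ℕ =>
      (Nat.card ↥(Cfsg.GU (Finset.univ.filter (fun k : Fin t => d k = i)).card K q) : ℤ)) (Finset.univ.sup d + 1)]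
  congr 1
  exact Finset.prod_congr rfl fun i _ => hGU _

end Cfsg.Agent.S2646
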