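import Cfsg.Statements.S2647
import Cfsg.Agent.Lib.Small.OmegaSevenFusion

set_option autoImplicit false
open Cfsg

namespace Cfsg.Agent.S2647

/-- Let q be an odd prime power with q ≡ ±3 (mod 8), F a field with q elements and S a Sylow 2-subgroup of the commutator subgroup Ω₇(q) of the orthogonal group of the form x₀² + x₁y₁ + x₂y₂ + x₃y₃ over F. Then every automorphism of S induced by N(S) is inner, S has no strongly closed subgroup other than 1 and S with respect to this group, and the 2-fusion system of Ω₇(q) on S is simple. -/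
theorem result {F : Type*} [Field F] [Fintype F] [DecidableEq F] (q : ℕ) (hF : Fintype.card F = q) (hq : q % 8 = 3 ∨ q % 8 = 5) (S : Sylow 2 ↥(Cfsg.Omega F (Cfsg.quadFormOdd 3 F))) : (Cfsg.groupFusionSystem (S : Subgroup ↥(Cfsg.Omega F (Cfsg.quadFormOdd 3 F)))).autGroup (S : Subgroup ↥(Cfsg.Omega F (Cfsg.quadFormOdd 3 F))) = Cfsg.Inn ↥(S : Subgroup ↥(Cfsg.Omega F (Cfsg.quadFormOdd 3 F))) ∧ (∀ T : Subgroup ↥(Cfsg.Omega F (Cfsg.quadFormOdd 3 F)), (Cfsg.groupFusionSystem (S : Subgroup ↥(Cfsg.Omega F (Cfsg.quadFormOdd 3 F)))).StronglyClosed T → T = ⊥ ∨ T = (S : Subgroup ↥(Cfsg.Omega F (Cfsg.quadFormOdd 3 F)))) ∧ (Cfsg.groupFusionSystem (S : Subgroup ↥(Cfsg.Omega F (Cfsg.quadFormOdd 3 F)))).IsSimple 2 := by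
  haveI : Fact (Nat.Prime 2) := ⟨Nat.prime_two⟩
  haveI : Finite ↥(Cfsg.Omega F (Cfsg.quadFormOdd 3 F)) := inferInstance
  subst hF
  obtain ⟨hN, hS1, hsc⟩ := Cfsg.Agent.Small.OmegaSeven.omega_seven F hq S
  refine ⟨?_, hsc, Cfsg.Agent.Local.FS.simple_of_normalizer S hS1 (fun g hg => ⟨g, hN g hg, fun x _ => rfl⟩) hsc⟩
  rw [Cfsg.Agent.Local.FS.autGroup_group le_rfl]
  ext α
  rw [Cfsg.Agent.Local.FS.mem_autInducedBy, Cfsg.Agent.Local.FS.mem_Inn]
  refine ⟨fun ⟨g, _, hg⟩ => ⟨g, hN g (Subgroup.mem_normalizer_fintype fun x hx => ?_), hg⟩,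
    fun ⟨g, _, hg⟩ => ⟨g, Subgroup.mem_top _, hg⟩⟩
  show g * x * g⁻¹ ∈ (S : Subgroup _)
  rw [← hg x hx]
  exact Cfsg.Agent.Local.FS.av_mem α hx

end Cfsg.Agent.S2647
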