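import Cfsg.Statements.S2653
import Cfsg.Agent.Lib.Small.AltDeg.Reduce
-- import your own Cfsg.Agent.* helpers here

set_option autoImplicit false
open scoped MatrixGroups
open Cfsg

namespace Cfsg.Agent.S2653

/-- Alternating sections of finite linear groups. Let `F` be a finite field of characteristic `p` and `n` a natural number, and suppose some subgroup `H` of GL_n(F) has a normal subgroup `K` with `H ⧸ K` isomorphic to the alternating group of degree `r ≥ 9`. Then `n ≥ r - 2` when `p` divides `r`, and `n ≥ r - 1` otherwise (the smallest degree of a nontrivial projective representation of that alternating group in characteristic `p`). The same bound follows for every classical group with natural module of dimension `n` over `F`, since each is a section of a subgroup of GL_n(F). -/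
theorem result {F : Type*} [Field F] [Fintype F] (p : ℕ) [Fact p.Prime] [CharP F p]
    (n : ℕ) (r : ℕ) (H : Subgroup (GL (Fin n) F)) (K : Subgroup ↥H) [K.Normal]
    (h : Nonempty (↥H ⧸ K ≃* ↥(alternatingGroup (Fin r)))) (hr : 9 ≤ r) :
    r - 1 - (if p ∣ r then 1 else 0) ≤ n := by
  exact by
    classical
    obtain ⟨e⟩ := h
    obtain ⟨ρ, hρ⟩ : ∃ ρ : ↥H →* (Module.End (AlgebraicClosure F) (Fin n → AlgebraicClosure F))ˣ,
        ρ = ((Units.map (Matrix.toLinAlgEquiv' (R := AlgebraicClosure F)).toMulEquiv.toMonoidHom).comp
          (Units.map (RingHom.mapMatrix (algebraMap F (AlgebraicClosure F))).toMonoidHom)).comp H.subtype :=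
      ⟨_, rfl⟩
    have hk : ρ.ker ≤ (e.toMonoidHom.comp (QuotientGroup.mk' K)).ker := fun g hg => by
      have h1 : g = 1 := by
        rw [MonoidHom.mem_ker] at hg
        have := congrArg Units.val hg
        rw [hρ] at this
        exact Subtype.ext (Units.ext (Matrix.map_injective (RingHom.injective _)
          ((Matrix.toLinAlgEquiv' (R := AlgebraicClosure F)).injective
            (this.trans (by simp [Matrix.map_one])))))
      subst h1
      exact Subgroup.one_mem _
    have hs : Function.Surjective (e.toMonoidHom.comp (QuotientGroup.mk' K)) :=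
      e.surjective.comp (QuotientGroup.mk'_surjective K)
    haveI : Finite (Matrix (Fin n) (Fin n) F) := inferInstanceAs (Finite (Fin n → Fin n → F))
    have hb := Cfsg.Agent.Small.AltDeg.main (K := AlgebraicClosure F) hr n (Fin n → AlgebraicClosure F) ↥H ρ
      (e.toMonoidHom.comp (QuotientGroup.mk' K)) (Module.finrank_fin_fun _) hk hs
    haveI : CharP (AlgebraicClosure F) p := charP_of_injective_algebraMap (algebraMap F (AlgebraicClosure F)).injective p
    rw [Cfsg.Agent.Small.AltDeg.bd, CharP.cast_eq_zero_iff (AlgebraicClosure F) p r] at hb
    split_ifs at hb ⊢ <;> omega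

end Cfsg.Agent.S2653
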