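import Cfsg.Statements.S2667
import Cfsg.Agent.Lib.Small.Shintani
-- import your own Cfsg.Agent.* helpers here

set_option autoImplicit false
open Cfsg

namespace Cfsg.Agent.S2667

/-- Shintani descent, in an abstract form. Let `σ` be an automorphism of a group `X` and `e ≥ 1` (no surjectivity of the Lang maps is needed for this part; in the classical setting `X` is a connected algebraic group and `σ` a Steinberg endomorphism). Write `G` for the subgroup of fixed points of `σᵉ` and `H` for the subgroup of fixed points of `σ`. The `G`-conjugacy classes in the coset `G σ` of the semidirect product of `G` by `σ` correspond to the orbits of `G` on itself under twisted conjugation `g ↦ k g σ(k)⁻¹`, and the `e`-th power of `g σ` has `G`-part the norm `g σ(g) ⋯ σ^(e-1)(g)`. For `g` in `G` and any `a` with `g = a σ(a)⁻¹`, put `x = σᵉ(a)⁻¹ a`. Then conjugation by `a⁻¹` carries the twisted centralizer `{k ∈ G : k g σ(k)⁻¹ = g}` (the centralizer of `g σ` in `G`) exactly onto the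 centralizer of `x` in `H`: an element `k` of `X` lies in `G` and satisfies `k g σ(k)⁻¹ = g` if and only if `a⁻¹ k a` lies in `H` and commutes with `x`. In particular the two centralizers are conjugate in `X` and have the same order. -/
theorem result {X : Type*} [Group X] (σ : MulAut X) (e : ℕ) (he : 1 ≤ e)
    (g : X) (hg : g ∈ (MulEquiv.toMonoidHom (σ ^ e)).eqLocus (MonoidHom.id X)) (a : X) (ha : g = a * (σ a)⁻¹) (k : X) :
    (k ∈ (MulEquiv.toMonoidHom (σ ^ e)).eqLocus (MonoidHom.id X) ∧ k * g * (σ k)⁻¹ = g) ↔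
      (a⁻¹ * k * a ∈ (MulEquiv.toMonoidHom σ).eqLocus (MonoidHom.id X) ∧
        (a⁻¹ * k * a) * (((σ ^ e) a)⁻¹ * a) = (((σ ^ e) a)⁻¹ * a) * (a⁻¹ * k * a)) := by
  obtain ⟨x, hxd⟩ : ∃ x, x = ((σ ^ e) a)⁻¹ * a := ⟨_, rfl⟩
  obtain ⟨c, hc⟩ : ∃ c, c = a⁻¹ * k * a := ⟨_, rfl⟩
  have hk : k = a * c * a⁻¹ := by rw [hc]; group
  rw [← hxd, ← hc, Small.Shintani.mem_fix, Small.Shintani.mem_fix]
  have hea : (σ ^ e) a = a * x⁻¹ := by rw [hxd]; exact Small.Shintani.pow_e_eq σ a e
  have h1 : k * g * (σ k)⁻¹ = g ↔ σ c = c := by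
    rw [eq_comm, Small.Shintani.twist_iff σ ha ha,
      show (k * a)⁻¹ * a = c⁻¹ by rw [hc]; group, map_inv, inv_inj]
  have h2 : σ c = c → ((σ ^ e) k = k ↔ c * x = x * c) := by
    intro hf
    rw [hk, map_mul, map_mul, map_inv, hea, Small.Shintani.fixed_pow σ hf, _root_.mul_inv_rev, inv_inv]
    constructor
    · intro h
      calc c * x = x * (a⁻¹ * (a * x⁻¹ * c * (x * a⁻¹)) * a) := by group
        _ = x * c := by rw [h]; group
    · intro h
      calc a * x⁻¹ * c * (x * a⁻¹) = a * (x⁻¹ * (c * x)) * a⁻¹ := by group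
        _ = a * c * a⁻¹ := by rw [h]; group
  constructor
  · rintro ⟨hG, ht⟩
    exact ⟨h1.mp ht, (h2 (h1.mp ht)).mp hG⟩
  · rintro ⟨hf, hcx⟩
    exact ⟨(h2 hf).mpr hcx, h1.mpr hf⟩

end Cfsg.Agent.S2667
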