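import Cfsg.Statements.S2670
import Cfsg.Agent.Lib.Small.ProjPrimeClasses

set_option autoImplicit false
open Cfsg

namespace Cfsg.Agent.S2670

/-- Number of conjugacy classes of elements of prime order r in PGL_n(q) = GL_n(q)/scalars when r divides q − 1 (n ≥ 2): the classes of elements with a diagonalisable lift correspond to the orbits of the cyclic rotation on the r-tuples of eigenvalue multiplicities (a_0, …, a_(r−1)) summing to n with every a_j < n, and when r divides n there are r − 1 further classes (lifts acting irreducibly on blocks of size r); in all (C(n+r−1, r−1) − r − [r ∣ n])/r + r·[r ∣ n] classes. -/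
theorem result {F : Type*} [Field F] [Fintype F] {q : ℕ} (hF : Fintype.card F = q) {n r : ℕ} (hn : 2 ≤ n) (hr : r.Prime) (hrq : r ∣ q - 1) : Nat.card {C : ConjClasses (GL (Fin n) F ⧸ Subgroup.center (GL (Fin n) F)) // ∃ g : GL (Fin n) F ⧸ Subgroup.center (GL (Fin n) F), ConjClasses.mk g = C ∧ orderOf g = r} = (Nat.choose (n + r - 1) (r - 1) - r - (if r ∣ n then 1 else 0)) / r + r * (if r ∣ n then 1 else 0) := by
  classical
  subst hF
  obtain ⟨p, hp⟩ := CharP.exists F
  obtain ⟨e, hpp, he⟩ := FiniteField.card F p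
  haveI : Fact p.Prime := ⟨hpp⟩
  have hcop : (Fintype.card F - 1).Coprime p := by
    refine Nat.Coprime.symm (hpp.coprime_iff_not_dvd.2 fun hd => ?_)
    have h1 : p ∣ Fintype.card F := by rw [he]; exact dvd_pow_self p e.pos.ne'
    have h2 := Nat.dvd_sub h1 hd
    rw [Nat.sub_sub_self Fintype.card_pos] at h2
    exact hpp.ne_one (Nat.dvd_one.1 h2)
  refine Cfsg.Agent.Small.ProjPrimeClasses.Setup.card_classes (N := Fintype.card F - 1) (p := p)
    (φ := Units.coeHom (Matrix (Fin n) (Fin n) F)) ?_
  refine ⟨fun a b h => Units.ext h, hn, hr, hrq, dvd_rfl, fun c _ => ?_, ?_, fun π w _ => ?_, fun g c _ => ?_,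
    fun g h hg hh hc => Cfsg.Agent.Small.Semisimple.isConj_of_charpoly p g h hg hh hc⟩
  · rw [← Fintype.card_units]; exact pow_card_eq_one
  · exact Nat.Coprime.mul_left (hcop.coprime_dvd_left hrq) hcop
  · have h := Cfsg.Agent.Small.ProjPrimeClasses.mono_mul π (fun i => ((w i)⁻¹ : Fˣ).val) (fun i => (w i : F))
    simp only [Units.inv_mul, Matrix.diagonal_one] at h
    exact ⟨⟨_, _, mul_eq_one_comm.1 h, h⟩, rfl⟩
  · rw [← Fintype.card_units]; exact pow_card_eq_one

end Cfsg.Agent.S2670
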