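import Cfsg.Statements.S2671
import Cfsg.Agent.Lib.Small.UnitaryPrimeClasses
import Cfsg.Agent.Lib.Classical.UnitaryForm
-- import your own Cfsg.Agent.* helpers here

set_option autoImplicit false
open Cfsg

namespace Cfsg.Agent.S2671

/-- Number of conjugacy classes of elements of odd prime order r in the general unitary group GU_n(q), for r not dividing q(q + 1): let i be the multiplicative order of q modulo r, b = i if i is odd and b = i/2 if i is even, and s = (r − 1)/b. If i ≢ 2 (mod 4) the eigenvalue orbits pair off into dual pairs of totally isotropic blocks and there are C(⌊n/(2b)⌋ + s/2, s/2) − 1 classes; if i ≡ 2 (mod 4) each orbit gives a non-degenerate block of dimension i/2 and there are C(⌊2n/i⌋ + s, s) − 1 classes. -/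
theorem result {K : Type*} [Field K] [Fintype K] {p q n r i b s : ℕ} [Fact p.Prime] [CharP K p] (hK : Fintype.card K = q ^ 2) (hr : r.Prime) (hr2 : r ≠ 2) (hrp : r ≠ p) (hi : i = orderOf (q : ZMod r)) (hi2 : i ≠ 2) (hb : b = if Odd i then i else i / 2) (hs : s * b = r - 1) : Nat.card {C : ConjClasses ↥(Cfsg.GU n K q) // ∃ g : ↥(Cfsg.GU n K q), ConjClasses.mk g = C ∧ orderOf g = r} = if i % 4 = 2 then Nat.choose (2 * n / i + s) s - 1 else Nat.choose (n / (2 * b) + s / 2) (s / 2) - 1 := by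
  obtain ⟨p', e', σ', -, -, -, -, hσ'⟩ := Cfsg.Agent.Classical.exists_usigma hK
  letI : StarRing K := Cfsg.Agent.Small.Hermitian.starRingOfInvolution (σ' : K →+* K) hσ'.involutive
  have hstar : ∀ x : K, star x = x ^ q := fun x => hσ'.apply_eq x
  haveI : Fact r.Prime := ⟨hr⟩
  obtain ⟨N, -, hN⟩ := FiniteField.card K p
  obtain ⟨k, hk⟩ : ∃ k, q = p ^ k := by
    obtain ⟨k, -, hk⟩ := (Nat.dvd_prime_pow (Fact.out : p.Prime)).1
      (show q ∣ p ^ (N : ℕ) by rw [← hN, hK]; exact dvd_pow_self q two_ne_zero)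
    exact ⟨k, hk⟩
  have hipos : 0 < i := by
    rcases Nat.eq_zero_or_pos i with h | h
    · subst hb
      rw [h] at hs
      norm_num at hs
      have := hr.two_le
      omega
    · exact h
  have hb' : b = orderOf ((Fintype.card K : ℕ) : ZMod r) := by
    rw [hK, Nat.cast_pow, orderOf_pow' _ two_ne_zero, ← hi, hb]
    rcases Nat.even_or_odd i with he | ho
    · rw [if_neg (Nat.not_odd_iff_even.2 he), Nat.gcd_eq_right he.two_dvd]
    · rw [if_pos ho, show Nat.gcd i 2 = 1 from Nat.coprime_two_right.2 ho, Nat.div_one]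
  have hbpos : 0 < b := by
    rcases Nat.eq_zero_or_pos b with h | h
    · rw [h, mul_zero] at hs
      have := hr.two_le
      omega
    · exact h
  obtain ⟨-, -, hSc⟩ := Cfsg.Agent.Small.PrimeOrderFactor.exists_data (K := K) (p := p) hr hrp
  rw [← hb'] at hSc
  have hcard := Nat.eq_of_mul_eq_mul_right hbpos (hSc.trans hs.symm)
  rw [Cfsg.Agent.Small.UnitaryPrimeClasses.card_classes hstar hK hr hrp hb']
  obtain ⟨hyes, hno⟩ := Cfsg.Agent.Small.PrimeOrderFactor.card_dual_invariant (K := K) (p := p) hr hrp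
    (starRingEnd K) k (fun x => hk ▸ hstar x) star_star (n / b)
  have hq1 : (q : ZMod r) ^ i = 1 := by rw [hi]; exact pow_orderOf_eq_one _
  have hne1 : (-1 : ZMod r) ≠ 1 := by
    intro e
    have h2 : ((2 : ℕ) : ZMod r) = 0 := by push_cast; linear_combination -e
    exact hr2 ((Nat.prime_dvd_prime_iff_eq hr Nat.prime_two).1 ((ZMod.natCast_eq_zero_iff _ _).1 h2))
  have hexp : ∀ j, (((p ^ k) * Fintype.card K ^ j : ℕ) : ZMod r) = (q : ZMod r) ^ (2 * j + 1) := by
    intro j
    rw [← hk, hK, ← pow_mul, ← pow_succ', Nat.cast_pow]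
  by_cases h4 : i % 4 = 2
  · have hbi : i = 2 * b := by
      rw [hb, if_neg (by rintro ⟨u, hu⟩; omega)]
      omega
    have hcount := hyes ?_
    · rw [if_pos h4, hcount, hcard, hbi, Nat.mul_div_mul_left _ _ two_pos]
    refine ⟨b / 2, ?_⟩
    rw [hexp, show 2 * (b / 2) + 1 = b by omega]
    have h1 : ((q : ZMod r) ^ b) ^ 2 = 1 := by rw [← pow_mul, mul_comm, ← hbi, hq1]
    refine (sq_eq_one_iff.1 h1).resolve_left fun e => ?_
    have h2 := orderOf_dvd_of_pow_eq_one e
    rw [← hi] at h2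
    have := Nat.le_of_dvd hbpos h2
    omega
  · have hcount := hno ?_
    · rw [if_neg h4, hcount, hcard, Nat.div_div_eq_div_mul, mul_comm b 2]
    rintro ⟨j, hj⟩
    rw [hexp] at hj
    have h1 : (q : ZMod r) ^ (2 * (2 * j + 1)) = 1 := by rw [mul_comm, pow_mul, hj, neg_one_sq]
    have h2 : i ∣ 2 * (2 * j + 1) := hi ▸ orderOf_dvd_of_pow_eq_one h1
    have h3 : ¬ i ∣ 2 * j + 1 := fun h => hne1 (by
      rw [← hj]; exact orderOf_dvd_iff_pow_eq_one.1 (hi ▸ h))
    rcases Nat.even_or_odd i with ⟨u, hu⟩ | ho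
    · have h5 : u ∣ 2 * j + 1 := Nat.dvd_of_mul_dvd_mul_left two_pos (by rwa [two_mul u, ← hu])
      rcases Nat.even_or_odd u with ⟨w, hw⟩ | ⟨w, hw⟩
      · obtain ⟨z, hz⟩ : 2 ∣ 2 * j + 1 := (Dvd.intro w (by omega)).trans h5
        omega
      · omega
    · exact h3 ((Nat.coprime_two_right.2 ho).dvd_of_dvd_mul_left h2)

end Cfsg.Agent.S2671
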