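import Cfsg.Statements.S2672
import Cfsg.Agent.Lib.Small.ProjPrimeClasses
import Cfsg.Agent.Lib.Small.UnitaryPrimeClasses
import Cfsg.Agent.Lib.Classical.UnitaryForm

set_option autoImplicit false
open Cfsg

namespace Cfsg.Agent.S2672

/-- Number of conjugacy classes of elements of odd prime order r in PGU_n(q) = GU_n(q)/scalars (n ≥ 3) when r divides q + 1: as in the linear case with q − 1 replaced by q + 1, the classes correspond to the rotation orbits on r-tuples of eigenvalue multiplicities summing to n with every entry < n, plus r − 1 further classes when r divides n; in all (C(n+r−1, r−1) − r − [r ∣ n])/r + r·[r ∣ n]. -/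
theorem result {K : Type*} [Field K] [Fintype K] {q n r : ℕ} (hK : Fintype.card K = q ^ 2) (hn : 3 ≤ n) (hr : r.Prime) (hr2 : r ≠ 2) (hrq : r ∣ q + 1) : Nat.card {C : ConjClasses (↥(Cfsg.GU n K q) ⧸ Subgroup.center ↥(Cfsg.GU n K q)) // ∃ g : ↥(Cfsg.GU n K q) ⧸ Subgroup.center ↥(Cfsg.GU n K q), ConjClasses.mk g = C ∧ orderOf g = r} = (Nat.choose (n + r - 1) (r - 1) - r - (if r ∣ n then 1 else 0)) / r + r * (if r ∣ n then 1 else 0) := by
  classical
  obtain ⟨p', e', σ', -, -, -, -, hσ'⟩ := Cfsg.Agent.Classical.exists_usigma hK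
  letI : StarRing K := Cfsg.Agent.Small.Hermitian.starRingOfInvolution (σ' : K →+* K) hσ'.involutive
  have hstar : ∀ x : K, star x = x ^ q := fun x => hσ'.apply_eq x
  obtain ⟨p, hp⟩ := CharP.exists K
  obtain ⟨e, hpp, he⟩ := FiniteField.card K p
  haveI : Fact p.Prime := ⟨hpp⟩
  have hpq : p ∣ q := hpp.dvd_of_dvd_pow (n := 2) (by rw [← hK, he]; exact dvd_pow_self p e.pos.ne')
  have hcop : (q + 1).Coprime p := by
    refine Nat.Coprime.symm (hpp.coprime_iff_not_dvd.2 fun hd => ?_)
    exact hpp.ne_one (Nat.dvd_one.1 ((Nat.dvd_add_right hpq).1 hd))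
  have hsq : Fintype.card K - 1 = (q + 1) * (q - 1) := by
    rw [hK, ← one_pow 2, Nat.sq_sub_sq, one_pow]
  refine Cfsg.Agent.Small.ProjPrimeClasses.Setup.card_classes (N := q + 1) (p := p)
    (φ := (Units.coeHom (Matrix (Fin n) (Fin n) K)).comp (Cfsg.GU n K q).subtype) ?_
  refine ⟨fun a b h => Subtype.ext (Units.ext h), by omega, hr, hrq, by rw [hsq]; exact dvd_mul_right _ _,
    fun c hc => ?_, Nat.Coprime.mul_left (hcop.coprime_dvd_left hrq) hcop, fun π w hw => ?_, fun g c hgc => ?_,
    fun g h hg hh hc => (Cfsg.Agent.Small.UnitaryConj.conj_GU hstar hK g h).2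
      (Cfsg.Agent.Small.Semisimple.isConj_of_charpoly p _ _ (by rwa [Subgroup.orderOf_coe])
        (by rwa [Subgroup.orderOf_coe]) hc)⟩
  · have h1 : orderOf c ∣ Nat.gcd (r * (q + 1)) ((q - 1) * (q + 1)) := by
      refine Nat.dvd_gcd (orderOf_dvd_of_pow_eq_one (by rwa [pow_mul])) ?_
      rw [mul_comm, ← hsq, ← Fintype.card_units]
      exact orderOf_dvd_card
    rw [Nat.gcd_mul_right, show Nat.gcd r (q - 1) = 1 from (Nat.Prime.coprime_iff_not_dvd hr).2 fun hd => hr2
      ((Nat.prime_dvd_prime_iff_eq hr Nat.prime_two).1 (by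
        have h3 := Nat.dvd_sub hrq hd
        rcases Nat.eq_zero_or_pos q with h | h
        · subst h; simp at hrq; exact absurd hrq hr.ne_one
        · rwa [show q + 1 - (q - 1) = 2 by omega] at h3)), one_mul] at h1
    exact orderOf_dvd_iff_pow_eq_one.1 h1
  · have h := Cfsg.Agent.Small.ProjPrimeClasses.mono_mul π (fun i => star (w i : K)) (fun i => (w i : K))
    have h1 : (fun i => star (w i : K) * (w i : K)) = fun _ => 1 := funext fun i => by
      rw [hstar, ← pow_succ, ← Units.val_pow_eq_pow_val, hw i, Units.val_one]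
    rw [h1, Matrix.diagonal_one] at h
    have h2 : (Matrix.of fun i j => if i = π j then ((w j : Kˣ) : K) else 0).conjTranspose =
        Matrix.of fun i j => if j = π i then star (w i : K) else 0 := by
      ext i j
      simp [apply_ite star]
    exact ⟨⟨⟨_, _, mul_eq_one_comm.1 h, h⟩, (Cfsg.Agent.Small.PSUn.mem_GU_iff_star hstar _).2
      (by rw [h2]; exact h)⟩, rfl⟩
  · have h := (Cfsg.Agent.Small.PSUn.mem_GU_iff_star hstar _).1 g.2
    rw [show (g.1.val) = Matrix.scalar (Fin n) (c : K) from hgc, Matrix.scalar_apply, Matrix.diagonal_conjTranspose,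
      Matrix.diagonal_mul_diagonal, ← Matrix.diagonal_one] at h
    have h1 := congrFun (Matrix.diagonal_injective h) ⟨0, by omega⟩
    simp only [Pi.star_apply, hstar, ← pow_succ] at h1
    exact Units.ext (by simpa using h1)

end Cfsg.Agent.S2672
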