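import Cfsg.Statements.S2673
import Cfsg.Agent.Lib.Small.OrthogonalPrimeClasses
-- import your own Cfsg.Agent.* helpers here

set_option autoImplicit false
open Cfsg

namespace Cfsg.Agent.S2673

/-- Number of conjugacy classes of elements of odd prime order r ≠ p in the orthogonal group O_(2m+1)(q) of x_0² + Σ x_j y_j, q odd: with i the multiplicative order of q mod r and t = (r − 1)/i, there are C(⌊m/i⌋ + t/2, t/2) − 1 classes if i is odd (dual pairs of totally singular i-blocks) and C(⌊(2m+1)/i⌋ + t, t) − 1 if i is even (elliptic i-blocks). -/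
theorem result {F : Type*} [Field F] [Fintype F] {p q : ℕ} [Fact p.Prime] [CharP F p] (hF : Fintype.card F = q) (hq : Odd q) (m r i t : ℕ) (hr : r.Prime) (hr2 : r ≠ 2) (hrp : r ≠ p) (hi : i = orderOf (q : ZMod r)) (ht : t * i = r - 1) : Nat.card {C : ConjClasses ↥(Cfsg.isometryGroup F (Cfsg.quadFormOdd m F)) // ∃ g : ↥(Cfsg.isometryGroup F (Cfsg.quadFormOdd m F)), ConjClasses.mk g = C ∧ orderOf g = r} = if Odd i then Nat.choose (m / i + t / 2) (t / 2) - 1 else Nat.choose ((2 * m + 1) / i + t) t - 1 := by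
  classical
  subst hF
  have h2 : (2 : F) ≠ 0 := fun h => by
    haveI : CharP F 2 := CharTwo.of_one_ne_zero_of_two_eq_zero one_ne_zero h
    have h' := FiniteField.even_card_of_char_two (ringChar.eq F 2)
    rw [Nat.odd_iff] at hq
    omega
  rw [← Cfsg.Agent.Classical.OOmega.coe_odd m]
  have hn : Fintype.card (Unit ⊕ (Fin m ⊕ Fin m)) = 2 * m + 1 := by
    simp only [Fintype.card_sum, Fintype.card_fin, Fintype.card_unit]; omega
  have hipos := Cfsg.Agent.Small.OrthogonalPrimeClasses.ord_pos (F := F) (p := p) hr hrp hi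
  have hQ := Cfsg.Agent.Small.QuadModels.nondegenerate (Cfsg.Agent.Classical.OOmega.formOf_pnd (m := m)
    (e := Equiv.sumComm Unit (Fin m ⊕ Fin m)) (Cfsg.Agent.Classical.OOmega.pnd_line h2))
  rw [Cfsg.Agent.Small.OrthogonalPrimeClasses.card_classes_eq (p := p) _ hQ (fun _ => h2) hr hr2 hrp hi
    (by omega) ht rfl, hn]
  by_cases hodd : Odd i
  · rw [if_pos hodd, if_pos hodd]
    have hm : (2 * m + 1) / i / 2 = m / i := by
      rw [Nat.div_div_eq_div_mul, mul_comm i 2, ← Nat.div_div_eq_div_mul, show (2 * m + 1) / 2 = m by omega]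
    split_ifs with h
    · have ho : Odd ((2 * m + 1) / i) := by
        rcases Nat.even_or_odd ((2 * m + 1) / i) with he | he
        · have h' := he.mul_left i
          rw [Nat.mul_div_cancel' h.1] at h'
          exact absurd h' (Nat.not_even_iff_odd.2 ⟨m, rfl⟩)
        · exact he
      obtain ⟨j, hj⟩ := ho
      rw [hj] at hm ⊢
      rw [show (2 * j + 1 - 1) / 2 = m / i by omega]
    · rw [hm]
  · rw [if_neg hodd, if_neg hodd, if_neg]
    intro h
    exact hodd (Odd.of_dvd_nat ⟨m, rfl⟩ h.1)

end Cfsg.Agent.S2673
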