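import Cfsg.Statements.S2674
import Cfsg.Agent.Lib.Small.OrthogonalPrimeClasses
-- import your own Cfsg.Agent.* helpers here

set_option autoImplicit false
open Cfsg

namespace Cfsg.Agent.S2674

/-- Number of conjugacy classes of elements of odd prime order r ≠ p in the orthogonal group O⁺_2m(q) of Σ x_j y_j (m ≥ 1): with i the multiplicative order of q mod r and t = (r − 1)/i — if i is odd, C(⌊m/i⌋ + t/2, t/2) − 1; if i is even, C(⌊2m/i⌋ + t, t) − 1 minus, when i divides 2m with odd quotient, the C(2m/i + t − 1, t − 1) tuples using the whole space (an odd number of elliptic i-blocks fills an elliptic, not a hyperbolic, space). -/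
theorem result {F : Type*} [Field F] [Fintype F] {p q : ℕ} [Fact p.Prime] [CharP F p] (hF : Fintype.card F = q) (m r i t : ℕ) (hm : 1 ≤ m) (hr : r.Prime) (hr2 : r ≠ 2) (hrp : r ≠ p) (hi : i = orderOf (q : ZMod r)) (ht : t * i = r - 1) : Nat.card {C : ConjClasses ↥(Cfsg.isometryGroup F (Cfsg.quadFormPlus m F)) // ∃ g : ↥(Cfsg.isometryGroup F (Cfsg.quadFormPlus m F)), ConjClasses.mk g = C ∧ orderOf g = r} = if Odd i then Nat.choose (m / i + t / 2) (t / 2) - 1 else Nat.choose (2 * m / i + t) t - 1 - (if i ∣ 2 * m ∧ Odd (2 * m / i) then Nat.choose (2 * m / i + t - 1) (t - 1) else 0) := by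
  classical
  subst hF
  rw [← Cfsg.Agent.Classical.OOmega.coe_plus m]
  have hn : Fintype.card (Fin m ⊕ Fin m) = 2 * m := by rw [Fintype.card_sum, Fintype.card_fin, two_mul]
  have hipos := Cfsg.Agent.Small.OrthogonalPrimeClasses.ord_pos (F := F) (p := p) hr hrp hi
  have hq0 := Cfsg.Agent.Small.OrthogonalPrimeClasses.cast_ne_zero_of (F := F) hr (p := p) hrp
  have hQ := Cfsg.Agent.Small.QuadModels.nondegenerate (Cfsg.Agent.Classical.OOmega.formOf_pnd (m := m)
    (e := (Equiv.sumEmpty (Fin m ⊕ Fin m) Empty).symm) (Cfsg.Agent.Classical.OOmega.pnd_empty (F := F)))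
  have hnodd : Odd (Fintype.card (Fin m ⊕ Fin m)) → (2 : F) ≠ 0 := fun h => by
    rw [hn, Nat.odd_iff] at h; omega
  rw [Cfsg.Agent.Small.OrthogonalPrimeClasses.card_classes_eq (p := p) _ hQ hnodd hr hr2 hrp hi (by omega) ht rfl, hn]
  simp only [Cfsg.Agent.Classical.OOmega.coe_plus, Cfsg.Agent.Small.QuadModels.card_one_plus,
    Cfsg.Agent.Small.OrthogonalPrimeClasses.plus_dvd_iff hr (Fintype.card_pos (α := F)) hq0]
  by_cases hodd : Odd i
  · rw [if_pos hodd, if_pos hodd, if_neg]
    · rw [Nat.div_div_eq_div_mul, mul_comm i 2, Nat.mul_div_mul_left _ _ two_pos]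
    · rintro ⟨h1, h2⟩
      obtain ⟨e, he⟩ := (Nat.Coprime.dvd_of_dvd_mul_left (Nat.coprime_two_right.2 hodd) h1)
      exact h2 (by rw [he, pow_mul, hi, pow_orderOf_eq_one, one_pow])
  · rw [if_neg hodd, if_neg hodd]
    by_cases hd : i ∣ 2 * m
    · rw [Cfsg.Agent.Small.OrthogonalPrimeClasses.pow_of_even hr hi hodd hipos hd]
      have he : 0 < 2 * m / i := Nat.div_pos (Nat.le_of_dvd (by omega) hd) hipos
      have ht0 : 0 < t := by
        rcases Nat.eq_zero_or_pos t with h | h
        · have := hr.two_le; rw [h, zero_mul] at ht; omega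
        · exact h
      rcases Nat.even_or_odd (2 * m / i) with hev | hov
      · rw [if_neg (fun h => h.2 hev.neg_one_pow), if_neg (fun h => (Nat.not_odd_iff_even.2 hev) h.2), Nat.sub_zero]
      · haveI : Fact r.Prime := ⟨hr⟩
        rw [if_pos ⟨hd, fun h => Cfsg.Agent.Small.OrthogonalPrimeClasses.one_ne_neg_one hr hr2
          (h.symm.trans hov.neg_one_pow)⟩, if_pos ⟨hd, hov⟩]
        exact Cfsg.Agent.Small.OrthogonalPrimeClasses.pascal_sub he ht0
    · rw [if_neg (fun h => hd h.1), if_neg (fun h => hd h.1), Nat.sub_zero]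

end Cfsg.Agent.S2674
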