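import Cfsg.Statements.S2675
import Cfsg.Agent.Lib.Small.OrthogonalPrimeClasses
-- import your own Cfsg.Agent.* helpers here

set_option autoImplicit false
open Cfsg

namespace Cfsg.Agent.S2675

/-- Number of conjugacy classes of elements of odd prime order r ≠ p in the orthogonal group O⁻_2m(q) of an elliptic form Σ_(j<m−1) x_j y_j + z₁² + a z₁z₂ + c z₂² (binary part anisotropic, m ≥ 1): with i the multiplicative order of q mod r and t = (r − 1)/i — if i is odd, C(⌊m/i⌋ + t/2, t/2) − 1 minus, when i divides m, the C(m/i + t/2 − 1, t/2 − 1) tuples filling the whole space (dual pairs of totally singular blocks fill a hyperbolic space); if i is even, C(⌊2m/i⌋ + t, t) − 1 minus, when i divides 2m with even quotient, the C(2m/i + t − 1, t − 1) tuples filling the whole space with an even number of elliptic blocks. -/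
theorem result {F : Type*} [Field F] [Fintype F] {p q : ℕ} [Fact p.Prime] [CharP F p] (hF : Fintype.card F = q) (m r i t : ℕ) (hm : 1 ≤ m) (a c : F) (hac : ∀ z₁ z₂ : F, z₁ ^ 2 + a * z₁ * z₂ + c * z₂ ^ 2 = 0 → z₁ = 0 ∧ z₂ = 0) (hr : r.Prime) (hr2 : r ≠ 2) (hrp : r ≠ p) (hi : i = orderOf (q : ZMod r)) (ht : t * i = r - 1) : Nat.card {C : ConjClasses ↥(Cfsg.isometryGroup F (Cfsg.quadFormMinus (m - 1) F a c)) // ∃ g : ↥(Cfsg.isometryGroup F (Cfsg.quadFormMinus (m - 1) F a c)), ConjClasses.mk g = C ∧ orderOf g = r} = if Odd i then Nat.choose (m / i + t / 2) (t / 2) - 1 - (if i ∣ m then Nat.choose (m / i + t / 2 - 1) (t / 2 - 1) else 0) else Nat.choose (2 * m / i + t) t - 1 - (if i ∣ 2 * m ∧ Even (2 * m / i) then Nat.choose (2 * m / i + t - 1) (t - 1) else 0) := by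
  classical
  subst hF
  obtain ⟨j, hj⟩ : ∃ j, j = m - 1 := ⟨_, rfl⟩
  rw [← hj]
  obtain rfl : m = j + 1 := by omega
  rw [← Cfsg.Agent.Classical.OOmega.coe_minus j a c]
  have hn : Fintype.card ((Fin j ⊕ Fin j) ⊕ Fin 2) = 2 * (j + 1) := by
    simp only [Fintype.card_sum, Fintype.card_fin]; omega
  have hipos := Cfsg.Agent.Small.OrthogonalPrimeClasses.ord_pos (F := F) (p := p) hr hrp hi
  have hq0 := Cfsg.Agent.Small.OrthogonalPrimeClasses.cast_ne_zero_of (F := F) hr (p := p) hrp
  have hQ := Cfsg.Agent.Small.QuadModels.nondegenerate (Cfsg.Agent.Classical.OOmega.formOf_pnd (m := j)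
    (e := Equiv.refl ((Fin j ⊕ Fin j) ⊕ Fin 2)) (Cfsg.Agent.Classical.OOmega.pnd_plane hac))
  have hnodd : Odd (Fintype.card ((Fin j ⊕ Fin j) ⊕ Fin 2)) → (2 : F) ≠ 0 := fun h => by
    rw [hn, Nat.odd_iff] at h; omega
  rw [Cfsg.Agent.Small.OrthogonalPrimeClasses.card_classes_eq (p := p) _ hQ hnodd hr hr2 hrp hi (by omega) ht rfl, hn]
  simp only [Cfsg.Agent.Classical.OOmega.coe_minus, Cfsg.Agent.Small.QuadModels.card_one_minus j a c hac,
    Cfsg.Agent.Small.OrthogonalPrimeClasses.minus_dvd_iff hr hq0]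
  have ht0 : 0 < t := by
    rcases Nat.eq_zero_or_pos t with h | h
    · have := hr.two_le; rw [h, zero_mul] at ht; omega
    · exact h
  by_cases hodd : Odd i
  · rw [if_pos hodd, if_pos hodd]
    have hhalf : 2 * (j + 1) / i / 2 = (j + 1) / i := by
      rw [Nat.div_div_eq_div_mul, mul_comm i 2, Nat.mul_div_mul_left _ _ two_pos]
    by_cases hd : i ∣ j + 1
    · obtain ⟨e, he⟩ := hd
      have ht2 : 0 < t / 2 := by
        have hev : Even (t * i) := by rw [ht]; exact (hr.odd_of_ne_two hr2).tsub_odd odd_one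
        rcases Nat.even_mul.1 hev with ⟨s, hs⟩ | h
        · omega
        · exact absurd h (Nat.not_even_iff_odd.2 hodd)
      have he0 : 0 < e := Nat.pos_of_mul_pos_left (a := i) (by omega)
      have hq1 : ((Fintype.card F : ℕ) : ZMod r) ^ (j + 1) = 1 := by
        rw [he, pow_mul, hi, pow_orderOf_eq_one, one_pow]
      rw [if_pos ⟨⟨2 * e, by rw [he]; ring⟩, fun h => Cfsg.Agent.Small.OrthogonalPrimeClasses.one_ne_neg_one hr hr2
        (hq1.symm.trans h)⟩, if_pos ⟨e, he⟩, he, show 2 * (i * e) / i = 2 * e by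
          rw [mul_left_comm, Nat.mul_div_cancel_left _ hipos], Nat.mul_div_cancel_left _ hipos,
        show (2 * e - 1) / 2 = e - 1 by omega]
      exact Cfsg.Agent.Small.OrthogonalPrimeClasses.pascal_sub he0 ht2
    · rw [if_neg (fun h => hd (Nat.Coprime.dvd_of_dvd_mul_left (Nat.coprime_two_right.2 hodd) h.1)), if_neg hd,
        Nat.sub_zero, hhalf]
  · rw [if_neg hodd, if_neg hodd]
    by_cases hd : i ∣ 2 * (j + 1)
    · rw [Cfsg.Agent.Small.OrthogonalPrimeClasses.pow_of_even hr hi hodd hipos hd]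
      have he : 0 < 2 * (j + 1) / i := Nat.div_pos (Nat.le_of_dvd (by omega) hd) hipos
      rcases Nat.even_or_odd (2 * (j + 1) / i) with hev | hov
      · haveI : Fact r.Prime := ⟨hr⟩
        rw [if_pos ⟨hd, fun h => Cfsg.Agent.Small.OrthogonalPrimeClasses.one_ne_neg_one hr hr2
          (hev.neg_one_pow.symm.trans h)⟩, if_pos ⟨hd, hev⟩]
        exact Cfsg.Agent.Small.OrthogonalPrimeClasses.pascal_sub he ht0
      · rw [if_neg (fun h => h.2 hov.neg_one_pow), if_neg (fun h => (Nat.not_even_iff_odd.2 hov) h.2), Nat.sub_zero]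
    · rw [if_neg (fun h => hd h.1), if_neg (fun h => hd h.1), Nat.sub_zero]

end Cfsg.Agent.S2675
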