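import Cfsg.Statements.S2677
import Cfsg.Agent.Lib.Classical.UnitaryOrders

set_option autoImplicit false
open Cfsg

namespace Cfsg.Agent.S2677

open Matrix

theorem mem_iff {F : Type*} [Field F] [Fintype F] {q n : ℕ} {τ : F ≃+* F}
    (hτ : Cfsg.Agent.Classical.IsUSigma q τ) (g : GL (Fin n) F) :
    g ∈ Cfsg.GU n F q ↔
      (g : Matrix (Fin n) (Fin n) F)ᵀ * (g : Matrix (Fin n) (Fin n) F).map τ = 1 := by
  have hh : ∀ u v : Fin n → F, Cfsg.hermForm n F q u v = u ⬝ᵥ fun i => τ (v i) := fun u v => by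
    simp [Cfsg.hermForm, dotProduct, hτ.apply_eq]
  have hexp : ∀ (M : Matrix (Fin n) (Fin n) F) (u v : Fin n → F),
      Cfsg.hermForm n F q (M *ᵥ u) (M *ᵥ v) = u ⬝ᵥ ((Mᵀ * M.map τ) *ᵥ fun i => τ (v i)) := fun M u v => by
    rw [hh, show (fun i => τ ((M *ᵥ v) i)) = M.map τ *ᵥ fun i => τ (v i) from
      funext fun i => RingHom.map_mulVec (τ : F →+* F) M v i, ← Matrix.mulVec_mulVec,
      Matrix.dotProduct_mulVec u, Matrix.vecMul_transpose]
  rw [Cfsg.Agent.Classical.mem_GU_iff]
  refine ⟨fun h => ?_, fun h u v => by rw [hexp, h, Matrix.one_mulVec, hh]⟩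
  refine Matrix.ext fun i j => ?_
  have hs : ∀ k : Fin n, (fun l => τ ((Pi.single k 1 : Fin n → F) l)) = Pi.single k 1 := fun k => by
    funext l; rcases eq_or_ne l k with rfl | hl <;> simp [*]
  have := h (Pi.single i 1) (Pi.single j 1)
  rw [hexp, hh, hs] at this
  simpa [Matrix.mulVec_single_one, Matrix.one_apply, Pi.single_apply, eq_comm] using this

theorem exists_scalar {K : Type*} [Field K] [Finite K] (σ : K ≃+* K) {r : ℕ} (hσ : orderOf σ = r) {c : K}
    (hc : c ≠ 0) (hN : ∏ i ∈ Finset.range r, (σ ^ i) c = 1) : ∃ b : K, b ≠ 0 ∧ σ b = c * b := by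
  classical
  let a : ℕ → K := fun i => ∏ j ∈ Finset.range i, (σ ^ (j + 0)) c
  have ha0 : ∀ i, a i ≠ 0 := fun i => Finset.prod_ne_zero_iff.2 fun j _ => (map_ne_zero _).2 hc
  haveI : Finite (K ≃+* K) := Finite.of_injective (fun e => (e : K → K)) DFunLike.coe_injective
  have hinj : Function.Injective fun i : Fin r => ((σ ^ (i : ℕ) : K ≃+* K) : K →* K) := fun i j e =>
    Fin.ext (pow_injOn_Iio_orderOf (x := σ) (by simp [hσ]) (by simp [hσ])
      (RingEquiv.ext fun x => DFunLike.congr_fun e x))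
  have hind := (linearIndependent_monoidHom K K).comp _ hinj
  obtain ⟨z, hz⟩ : ∃ z, ∑ i ∈ Finset.range r, a i * (σ ^ i) z ≠ 0 := by
    by_contra h
    push Not at h
    have hr0 : 0 < r := hσ ▸ orderOf_pos σ
    have := Fintype.linearIndependent_iff.1 hind (fun i => a i) (funext fun z => by
      simpa [Finset.sum_range, Function.comp_def, Finset.sum_apply] using h z) ⟨0, hr0⟩
    exact ha0 0 this
  refine ⟨(∑ i ∈ Finset.range r, a i * (σ ^ i) z)⁻¹, inv_ne_zero hz, ?_⟩
  have hstep : c * σ (∑ i ∈ Finset.range r, a i * (σ ^ i) z) = ∑ i ∈ Finset.range r, a i * (σ ^ i) z := by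
    have e : ∀ i, c * σ (a i) = a (i + 1) := fun i => by
      simp only [a, add_zero, map_prod, Finset.prod_range_succ' (n := i), pow_zero]
      rw [mul_comm]
      congr 1
      exact Finset.prod_congr rfl fun j _ => by rw [pow_succ']; rfl
    have e2 : c * σ (∑ i ∈ Finset.range r, a i * (σ ^ i) z) =
        ∑ i ∈ Finset.range r, a (i + 1) * (σ ^ (i + 1)) z := by
      rw [map_sum, Finset.mul_sum]
      exact Finset.sum_congr rfl fun i _ => by rw [map_mul, ← mul_assoc, e, pow_succ' σ]; rfl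
    rw [e2]
    have h1 := Finset.sum_range_succ' (fun i => a i * (σ ^ i) z) r
    have h2 := Finset.sum_range_succ (fun i => a i * (σ ^ i) z) r
    have h3 : a r * (σ ^ r) z = a 0 * (σ ^ 0) z := by
      rw [show a r = 1 by simpa [a] using hN, show σ ^ r = 1 by rw [← hσ]; exact pow_orderOf_eq_one σ]
      simp [a]
    exact add_right_cancel ((h1.symm.trans h2).trans (congrArg _ h3))
  rw [map_inv₀]
  generalize ∑ i ∈ Finset.range r, a i * (σ ^ i) z = B at hz hstep
  have : σ B ≠ 0 := by simp [hz]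
  field_simp
  linear_combination -hstep

/-- The fixed field of a ring automorphism. -/
def fixedField {K : Type*} [Field K] (σ : K ≃+* K) : Subfield K where
  carrier := {x | σ x = x}
  one_mem' := map_one σ
  zero_mem' := map_zero σ
  add_mem' {a b} ha hb := by simp only [Set.mem_setOf_eq] at *; rw [map_add, ha, hb]
  mul_mem' {a b} ha hb := by simp only [Set.mem_setOf_eq] at *; rw [map_mul, ha, hb]
  neg_mem' {a} ha := by simp only [Set.mem_setOf_eq] at *; rw [map_neg, ha]
  inv_mem' a ha := by simp only [Set.mem_setOf_eq] at *; rw [map_inv₀, ha]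

theorem card_fixedField {K : Type*} [Field K] [Fintype K] (σ : K ≃+* K) :
    Nat.card K = Nat.card (fixedField σ) ^ orderOf σ := by
  classical
  haveI : Finite (K ≃+* K) := Finite.of_injective (fun e => (e : K → K)) DFunLike.coe_injective
  letI := Fintype.ofFinite ↥(Subgroup.zpowers σ)
  have h := FixedPoints.finrank_eq_card ↥(Subgroup.zpowers σ) K
  rw [← Nat.card_eq_fintype_card, Nat.card_zpowers] at h
  rw [Module.natCard_eq_pow_finrank (K := FixedPoints.subfield ↥(Subgroup.zpowers σ) K) (V := K), h]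
  congr 1
  refine Nat.card_congr (Equiv.subtypeEquivRight fun x => ⟨fun hx => hx ⟨σ, Subgroup.mem_zpowers σ⟩, fun hx g => ?_⟩)
  obtain ⟨g, hg⟩ := g
  obtain ⟨k, rfl⟩ := Submonoid.mem_powers_iff _ _ |>.1 (mem_powers_iff_mem_zpowers.2 hg)
  show (σ ^ k) x = x
  clear hg
  induction k with
  | zero => rfl
  | succ k ih => rw [pow_succ]; show (σ ^ k) (σ x) = x; rw [show σ x = x from hx, ih]

theorem count {K : Type*} [Field K] [Fintype K] {q₀ q r n : ℕ} (hr2 : Odd r) (hn : 1 ≤ n)
    (hq : q = q₀ ^ r) (hK : Fintype.card K = q ^ 2) (σ : K ≃+* K) (hσ : orderOf σ = r) :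
    (q₀ + 1 ∣ q + 1) ∧
    Nat.card {g : ↥(Cfsg.GU n K q) // ∃ c : K, c ≠ 0 ∧ ((g : GL (Fin n) K) : Matrix (Fin n) (Fin n) K).map σ =
        c • ((g : GL (Fin n) K) : Matrix (Fin n) (Fin n) K)} =
      (q + 1) / (q₀ + 1) *
        (q₀ ^ (n * (n - 1) / 2) * ∏ i ∈ Finset.range n, (if Even i then q₀ ^ (i + 1) + 1 else q₀ ^ (i + 1) - 1)) := by
  classical
  set K0 := fixedField σ with hK0def
  letI := Fintype.ofFinite ↥K0
  have hr0 : 0 < r := hr2.pos
  have hK0 : Fintype.card ↥K0 = q₀ ^ 2 := by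
    have h := card_fixedField σ
    rw [Nat.card_eq_fintype_card, Nat.card_eq_fintype_card, hK, hσ, hq, ← pow_mul, mul_comm, pow_mul] at h
    exact (Nat.pow_left_injective hr0.ne' h).symm
  obtain ⟨-, -, τ, -, -, -, -, hτ⟩ := Cfsg.Agent.Classical.exists_usigma hK
  obtain ⟨-, -, τ₀, -, -, -, -, hτ₀⟩ := Cfsg.Agent.Classical.exists_usigma hK0
  have hq0 : ∀ x : ↥K0, (x : K) ^ q = (x : K) ^ q₀ := by
    intro x
    obtain ⟨k, hk⟩ := hr2
    rw [hq, hk, pow_succ, pow_mul, pow_mul]
    have e : (x : K) ^ (q₀ ^ 2) = x := by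
      rw [← hK0, ← SubmonoidClass.coe_pow, FiniteField.pow_card]
    suffices H : ∀ j, (x : K) ^ ((q₀ ^ 2) ^ j) = x by rw [H]
    intro j
    induction j with
    | zero => simp
    | succ j ih => rw [pow_succ, pow_mul, ih, e]
  have hτK0 : ∀ x : ↥K0, τ (x : K) = ((τ₀ x : ↥K0) : K) := fun x => by
    rw [hτ.apply_eq, hτ₀.apply_eq, hq0, SubmonoidClass.coe_pow]
  -- the norm one groups
  let U := (powMonoidHom (q + 1) : Kˣ →* Kˣ).ker
  have hq1 : 1 ≤ q₀ := Nat.one_le_iff_ne_zero.2 fun h => by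
    rw [h] at hK0; exact Fintype.card_ne_zero (hK0.trans (zero_pow two_ne_zero))
  have cardker : ∀ (L : Type _) [Field L] [Fintype L] (s : ℕ), Fintype.card L = s ^ 2 →
      Nat.card (powMonoidHom (s + 1) : Lˣ →* Lˣ).ker = s + 1 := by
    intro L _ _ s hL
    rw [IsCyclic.card_powMonoidHom_ker, Nat.card_units, Nat.card_eq_fintype_card, hL,
      show s ^ 2 - 1 = (s + 1) * (s - 1) by simpa using Nat.sq_sub_sq s 1]
    exact Nat.gcd_eq_right (dvd_mul_right _ _)
  -- the product map
  let incl : GL (Fin n) ↥K0 →* GL (Fin n) K := Matrix.GeneralLinearGroup.map K0.subtype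
  have hincl : ∀ h : GL (Fin n) ↥K0, (incl h : Matrix (Fin n) (Fin n) K) =
      (h : Matrix (Fin n) (Fin n) ↥K0).map K0.subtype := fun h => rfl
  have hmem : ∀ h : GL (Fin n) ↥K0, incl h ∈ Cfsg.GU n K q ↔ h ∈ Cfsg.GU n ↥K0 q₀ := by
    intro h
    rw [mem_iff hτ, mem_iff hτ₀, hincl]
    have e : ((h : Matrix (Fin n) (Fin n) ↥K0).map K0.subtype).map τ =
        ((h : Matrix (Fin n) (Fin n) ↥K0).map τ₀).map K0.subtype := by
      ext i j; exact hτK0 _
    rw [e, ← Matrix.transpose_map, ← Matrix.map_mul]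
    constructor
    · intro he
      exact Matrix.map_injective K0.subtype.injective (he.trans (Matrix.map_one _ (map_zero _) (map_one _)).symm)
    · intro he
      rw [he, Matrix.map_one _ (map_zero _) (map_one _)]
  let sc : Kˣ →* GL (Fin n) K := Units.map (Matrix.scalar (Fin n)).toMonoidHom
  have hsc : ∀ b : Kˣ, (sc b : Matrix (Fin n) (Fin n) K) = (b : K) • 1 := fun b => by
    simp [sc, Matrix.smul_one_eq_diagonal]
  have hscU : ∀ b ∈ U, sc b ∈ Cfsg.GU n K q := by
    intro b hb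
    have hb' : (b : K) ^ (q + 1) = 1 := by
      have := congrArg Units.val (show b ^ (q + 1) = 1 from hb)
      simpa using this
    rw [mem_iff hτ, hsc, Matrix.map_smul' _ (b : K), Matrix.map_one _ (map_zero _) (map_one _),
      Matrix.transpose_smul, Matrix.transpose_one, smul_mul_smul_comm, one_mul, hτ.apply_eq, ← pow_succ',
      hb', one_smul]
    exact fun x y => map_mul τ x y
  let Φ : ↥U × ↥(Cfsg.GU n ↥K0 q₀) →* GL (Fin n) K :=
    { toFun := fun p => sc p.1 * incl p.2
      map_one' := by simp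
      map_mul' := fun p p' => by
        apply Units.ext
        simp only [Prod.fst_mul, Prod.snd_mul, Subgroup.coe_mul, map_mul, Units.val_mul, hsc]
        simp only [smul_one_mul, Matrix.smul_mul, Matrix.mul_smul, one_mul, smul_smul, Matrix.mul_assoc, mul_comm] }
  have hΦ : ∀ p, (Φ p : Matrix (Fin n) (Fin n) K) = ((p.1.1 : Kˣ) : K) • (incl p.2.1 : Matrix (Fin n) (Fin n) K) :=
    fun p => by
      show ((sc p.1.1 : GL (Fin n) K) : Matrix (Fin n) (Fin n) K) * _ = _
      rw [hsc, Matrix.smul_mul, one_mul]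
  have hrange : Nat.card {g : ↥(Cfsg.GU n K q) // ∃ c : K, c ≠ 0 ∧
      ((g : GL (Fin n) K) : Matrix (Fin n) (Fin n) K).map σ = c • ((g : GL (Fin n) K) : Matrix (Fin n) (Fin n) K)} =
      Nat.card ↥Φ.range := by
    refine Nat.card_congr ((Equiv.subtypeSubtypeEquivSubtypeExists _ _).trans (Equiv.subtypeEquivRight fun g => ?_))
    constructor
    · rintro ⟨hg, c, hc, e⟩
      set M := (g : Matrix (Fin n) (Fin n) K)
      have hM : M ≠ 0 := by
        intro h0
        have h1 := g.isUnit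
        rw [show (g : Matrix (Fin n) (Fin n) K) = 0 from h0] at h1
        haveI : Nonempty (Fin n) := ⟨⟨0, hn⟩⟩
        exact not_isUnit_zero h1
      have hMu : Mᵀ * M.map τ = 1 := (mem_iff hτ g).1 hg
      have hpow : ∀ i, M.map ((σ ^ i : K ≃+* K)) = (∏ j ∈ Finset.range i, (σ ^ j) c) • M := by
        intro i
        induction i with
        | zero => simp
        | succ i ih =>
          ext a b
          have h1 := congrFun (congrFun e a) b
          have h2 := congrFun (congrFun ih a) b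
          simp only [Matrix.map_apply, Matrix.smul_apply, smul_eq_mul] at h1 h2 ⊢
          rw [pow_succ]
          show (σ ^ i) (σ (M a b)) = _
          rw [h1, map_mul, h2, Finset.prod_range_succ, ← mul_assoc]
          ring
      obtain ⟨a, b, hab⟩ : ∃ a b, M a b ≠ 0 := by
        by_contra h; push Not at h; exact hM (Matrix.ext h)
      have hN : ∏ i ∈ Finset.range r, (σ ^ i) c = 1 := by
        have h2 := congrFun (congrFun (hpow r) a) b
        rw [show σ ^ r = 1 by rw [← hσ]; exact pow_orderOf_eq_one σ] at h2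
        exact (mul_eq_right₀ hab).1 h2.symm
      obtain ⟨b, hb, hσb⟩ := exists_scalar σ hσ hc hN
      -- `c` has norm one
      have hcq : c * τ c = 1 := by
        have hcom : ∀ x, σ (τ x) = τ (σ x) := fun x => by rw [hτ.apply_eq, hτ.apply_eq, map_pow]
        have h := congrArg (fun N : Matrix (Fin n) (Fin n) K => N.map σ) hMu
        rw [Matrix.map_mul, Matrix.transpose_map, show (M.map τ).map σ = (M.map σ).map τ from
          Matrix.ext fun i j => hcom _, e, Matrix.map_one _ (map_zero _) (map_one _), Matrix.transpose_smul,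
          Matrix.map_smul' _ c, smul_mul_smul_comm, hMu] at h
        · simpa using congrFun (congrFun h ⟨0, hn⟩) ⟨0, hn⟩
        · exact fun x y => map_mul τ x y
      obtain ⟨e0, he0⟩ : ∃ e0 : ↥K0, (e0 : K) = b * τ b := ⟨⟨b * τ b, show σ (b * τ b) = b * τ b by
        rw [map_mul, hσb, show σ (τ b) = τ (σ b) by rw [hτ.apply_eq, hτ.apply_eq, map_pow], hσb, map_mul]
        linear_combination b * τ b * hcq⟩, rfl⟩
      have he0' : e0 ≠ 0 := fun h => by
        rw [h, ZeroMemClass.coe_zero] at he0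
        exact mul_ne_zero hb (by simp [hb]) he0.symm
      have hfix : τ₀ e0 = e0 := Subtype.ext (by
        rw [← hτK0, he0, map_mul, hτ.involutive, mul_comm])
      obtain ⟨μ, hμ⟩ : ∃ μ : (↥K0)ˣ, μ ^ (q₀ + 1) = Units.mk0 e0 he0' := by
        obtain ⟨ζ, hζ⟩ := IsCyclic.exists_generator (α := (↥K0)ˣ)
        obtain ⟨k, hk⟩ := (mem_powers_iff_mem_zpowers.2 (hζ (Units.mk0 e0 he0')))
        change ζ ^ k = _ at hk
        have h1 : ζ ^ (k * (q₀ - 1)) = 1 := by
          rw [pow_mul, hk]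
          apply Units.ext
          rw [Units.val_pow_eq_pow_val, Units.val_mk0, Units.val_one]
          have h2 : e0 ^ q₀ = e0 := (hτ₀.apply_eq e0).symm.trans hfix
          refine mul_right_cancel₀ he0' ?_
          rw [← pow_succ, Nat.sub_add_cancel hq1, h2, one_mul]
        have hord : orderOf ζ = (q₀ + 1) * (q₀ - 1) := by
          rw [orderOf_eq_card_of_forall_mem_zpowers hζ, Nat.card_units, Nat.card_eq_fintype_card, hK0]
          simpa using Nat.sq_sub_sq q₀ 1
        have hd := hord ▸ orderOf_dvd_of_pow_eq_one h1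
        have hq2 : 0 < q₀ - 1 := by
          rcases Nat.lt_or_ge 1 q₀ with h | h
          · omega
          · have h1 := (Fintype.one_lt_card (α := ↥K0))
            rw [hK0, show q₀ = 1 by omega] at h1
            simp at h1
        obtain ⟨l, rfl⟩ := Nat.dvd_of_mul_dvd_mul_right hq2 hd
        exact ⟨ζ ^ l, by rw [← pow_mul, mul_comm, hk]⟩
      have hμ' : ((μ : ↥K0) : K) * τ ((μ : ↥K0) : K) = b * τ b := by
        rw [hτK0, hτ₀.apply_eq, SubmonoidClass.coe_pow, ← pow_succ', ← he0,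
          ← SubmonoidClass.coe_pow, ← Units.val_pow_eq_pow_val, hμ, Units.val_mk0]
      have hμ0 : ((μ : ↥K0) : K) ≠ 0 := by simp
      set u : K := b / ((μ : ↥K0) : K) with hu
      have hu0 : u ≠ 0 := div_ne_zero hb hμ0
      have hσu : σ u = c * u := by
        rw [hu, map_div₀, hσb, show σ ((μ : ↥K0) : K) = ((μ : ↥K0) : K) from (μ : ↥K0).2, mul_div_assoc]
      have huU : (Units.mk0 u hu0) ∈ U := by
        show (Units.mk0 u hu0) ^ (q + 1) = 1
        apply Units.ext
        rw [Units.val_pow_eq_pow_val, Units.val_mk0, Units.val_one, pow_succ', ← hτ.apply_eq, hu, map_div₀,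
          div_mul_div_comm, ← hμ', div_self]
        exact mul_ne_zero hμ0 (by simp)
      have hfixM : ∀ i j, u⁻¹ * M i j ∈ K0 := fun i j => by
        show σ (u⁻¹ * M i j) = u⁻¹ * M i j
        have h1 := congrFun (congrFun e i) j
        simp only [Matrix.map_apply, Matrix.smul_apply, smul_eq_mul] at h1
        rw [map_mul, map_inv₀, hσu, h1]
        field_simp
      let H : Matrix (Fin n) (Fin n) ↥K0 := Matrix.of fun i j => ⟨u⁻¹ * M i j, hfixM i j⟩
      have hHu : H.map K0.subtype = u⁻¹ • M := rfl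
      have hdet : H.det ≠ 0 := by
        intro h0
        have h1 := (RingHom.map_det K0.subtype H).symm
        rw [h0, map_zero, RingHom.mapMatrix_apply, hHu, Matrix.det_smul] at h1
        exact mul_ne_zero (pow_ne_zero _ (inv_ne_zero hu0)) ((Matrix.isUnit_iff_isUnit_det _).1 g.isUnit).ne_zero h1
      let h : GL (Fin n) ↥K0 := Matrix.GeneralLinearGroup.mkOfDetNeZero H hdet
      have hprod : sc (Units.mk0 u hu0) * incl h = g := Units.ext (by
        rw [Units.val_mul, hsc, Units.val_mk0, hincl, Matrix.smul_mul, one_mul,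
          show ((h : Matrix (Fin n) (Fin n) ↥K0)) = H from rfl, hHu, smul_smul, mul_inv_cancel₀ hu0, one_smul])
      have hh : h ∈ Cfsg.GU n ↥K0 q₀ := by
        rw [← hmem]
        have := mul_mem (inv_mem (hscU _ huU)) hg
        rwa [← hprod, inv_mul_cancel_left] at this
      exact ⟨(⟨_, huU⟩, ⟨h, hh⟩), hprod⟩
    · rintro ⟨p, rfl⟩
      refine ⟨mul_mem (hscU _ p.1.2) ((hmem _).2 p.2.2),
        σ ((p.1.1 : Kˣ) : K) / ((p.1.1 : Kˣ) : K), div_ne_zero (by simp) (Units.ne_zero _), ?_⟩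
      rw [hΦ, Matrix.map_smul' _ ((p.1.1 : Kˣ) : K), smul_smul, div_mul_cancel₀ _ (Units.ne_zero _)]
      · congr 1
        ext i j
        exact (((p.2.1 : GL (Fin n) ↥K0) : Matrix (Fin n) (Fin n) ↥K0) i j).2
      · exact fun x y => map_mul σ x y
  have hker : Nat.card ↥Φ.ker = q₀ + 1 := by
    rw [← cardker ↥K0 q₀ hK0]
    refine (Nat.card_congr (Equiv.ofBijective (fun μ : ↥(powMonoidHom (q₀ + 1) : (↥K0)ˣ →* (↥K0)ˣ).ker =>
      (⟨(⟨Units.map K0.subtype.toMonoidHom μ.1, ?_⟩, ⟨Units.map (Matrix.scalar (Fin n)).toMonoidHom μ.1⁻¹, ?_⟩), ?_⟩ :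
        ↥Φ.ker)) ⟨?_, ?_⟩)).symm
    · have h : μ.1 ^ (q₀ + 1) = 1 := μ.2
      show Units.map K0.subtype.toMonoidHom μ.1 ^ (q + 1) = 1
      apply Units.ext
      show (((μ.1 : ↥K0)) : K) ^ (q + 1) = 1
      rw [pow_succ, hq0, ← pow_succ, ← SubmonoidClass.coe_pow, ← Units.val_pow_eq_pow_val, h, Units.val_one]
      rfl
    · have h : (((μ.1⁻¹ : (↥K0)ˣ) : ↥K0)) ^ (q₀ + 1) = 1 := by
        rw [← Units.val_pow_eq_pow_val, inv_pow, show μ.1 ^ (q₀ + 1) = 1 from μ.2, inv_one, Units.val_one]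
      rw [mem_iff hτ₀]
      show (Matrix.scalar (Fin n) ((μ.1⁻¹ : (↥K0)ˣ) : ↥K0))ᵀ *
        (Matrix.scalar (Fin n) ((μ.1⁻¹ : (↥K0)ˣ) : ↥K0)).map τ₀ = 1
      simp only [Matrix.scalar_apply, Matrix.diagonal_transpose]
      rw [Matrix.diagonal_map (map_zero _), Matrix.diagonal_mul_diagonal, ← Matrix.diagonal_one]
      congr 1
      funext i
      rw [hτ₀.apply_eq, ← pow_succ', h]
    · refine Units.ext ((hΦ _).trans ?_)
      show (((μ.1 : ↥K0)) : K) • (Matrix.scalar (Fin n) ((μ.1⁻¹ : (↥K0)ˣ) : ↥K0)).map K0.subtype = 1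
      ext i j
      by_cases hij : i = j <;> simp [hij, Matrix.one_apply]
    · intro a b hab
      apply Subtype.ext
      apply Units.ext
      have h1 := congrArg (fun x : ↥Φ.ker => ((x.1.1.1 : Kˣ) : K)) hab
      exact Subtype.ext h1
    · rintro ⟨⟨⟨b, hb⟩, ⟨h, hh⟩⟩, hk⟩
      have hk' : (b : K) • (incl h : Matrix (Fin n) (Fin n) K) = 1 := by
        rw [← hΦ (⟨b, hb⟩, ⟨h, hh⟩), show Φ (⟨b, hb⟩, ⟨h, hh⟩) = 1 from hk, Units.val_one]
      have h00 : (b : K) * (((h : Matrix (Fin n) (Fin n) ↥K0) ⟨0, hn⟩ ⟨0, hn⟩) : K) = 1 := by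
        simpa [hincl] using congrFun (congrFun hk' ⟨0, hn⟩) ⟨0, hn⟩
      have hbK : (b : K) ∈ K0 := by
        rw [eq_inv_of_mul_eq_one_left h00]
        exact inv_mem (SetLike.coe_mem _)
      have hb0 : (⟨(b : K), hbK⟩ : ↥K0) ≠ 0 := fun e => b.ne_zero (congrArg Subtype.val e)
      refine ⟨⟨Units.mk0 _ hb0, ?_⟩, ?_⟩
      · show Units.mk0 _ hb0 ^ (q₀ + 1) = 1
        apply Units.ext
        apply Subtype.ext
        rw [Units.val_pow_eq_pow_val, SubmonoidClass.coe_pow, Units.val_mk0, Units.val_one, OneMemClass.coe_one,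
          pow_succ, ← hq0 ⟨(b : K), hbK⟩, ← pow_succ, ← Units.val_pow_eq_pow_val,
          show b ^ (q + 1) = 1 from hb, Units.val_one]
      · refine Subtype.ext (Prod.ext (Subtype.ext (Units.ext rfl)) (Subtype.ext (Units.ext ?_)))
        apply Matrix.map_injective K0.subtype.injective
        ext i j
        have h1 := congrFun (congrFun hk' i) j
        simp only [Matrix.smul_apply, smul_eq_mul, hincl, Matrix.map_apply] at h1
        simp only [Units.coe_map, Matrix.map_apply, RingHom.toMonoidHom_eq_coe, MonoidHom.coe_coe,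
          Matrix.scalar_apply, Matrix.diagonal_apply, Matrix.one_apply] at h1 ⊢
        split_ifs with hij
        · subst hij
          simp only [if_true] at h1
          simp [eq_inv_of_mul_eq_one_right h1]
        · rw [if_neg hij] at h1
          simp only [map_zero]
          exact ((mul_eq_zero.1 h1).resolve_left b.ne_zero).symm
  have hprod : Nat.card ↥Φ.range * (q₀ + 1) =
      (q + 1) * (q₀ ^ (n * (n - 1) / 2) * ∏ i ∈ Finset.range n, (if Even i then q₀ ^ (i + 1) + 1 else q₀ ^ (i + 1) - 1)) := by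
    rw [← hker, ← Subgroup.index_ker, mul_comm, Subgroup.card_mul_index, Nat.card_prod, cardker K q hK,
      Cfsg.Agent.Classical.UCount.card_GU hτ₀ n]
  have hdvd : q₀ + 1 ∣ q + 1 := by
    rw [hq]
    simpa using hr2.nat_add_dvd_pow_add_pow q₀ 1
  refine ⟨hdvd, ?_⟩
  rw [hrange]
  apply Nat.eq_of_mul_eq_mul_right (show 0 < q₀ + 1 by omega)
  rw [hprod, mul_right_comm ((q + 1) / (q₀ + 1)), Nat.div_mul_cancel hdvd]

/-- Centraliser of a field automorphism of odd prime order in PGU_n(q): let q = q₀^r with r an odd prime, K the field with q² elements and σ a field automorphism of K of order r (fixed field of order q₀²). The elements g of GU_n(q) whose entrywise image under σ is a scalar multiple of g — those whose coset modulo the q + 1 unitary scalars is fixed by σ — number (q + 1)/(q₀ + 1) · |GU_n(q₀)|; equivalently the centraliser in PGU_n(q) of the induced automorphism has the order of PGU_n(q₀). -/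
theorem result {K : Type*} [Field K] [Fintype K] {q₀ q r n : ℕ} (hr : r.Prime) (hr2 : r ≠ 2) (hn : 1 ≤ n) (hq : q = q₀ ^ r) (hK : Fintype.card K = q ^ 2) (σ : K ≃+* K) (hσ : orderOf σ = r) : (Nat.card {g : ↥(Cfsg.GU n K q) // ∃ c : K, c ≠ 0 ∧ ((g : GL (Fin n) K) : Matrix (Fin n) (Fin n) K).map σ = c • ((g : GL (Fin n) K) : Matrix (Fin n) (Fin n) K)} : ℤ) = ((q + 1) / (q₀ + 1) : ℕ) * ((q₀ : ℤ) ^ (n * (n - 1) / 2) * ∏ i : Fin n, ((q₀ : ℤ) ^ ((i : ℕ) + 1) - (-1) ^ ((i : ℕ) + 1))) := by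
  have hodd : Odd r := hr.odd_of_ne_two hr2
  have hq1 : 1 ≤ q₀ := Nat.one_le_iff_ne_zero.2 fun h => by
    rw [hq, h, zero_pow hr.ne_zero] at hK
    exact Fintype.card_ne_zero (hK.trans (zero_pow two_ne_zero))
  rw [(count hodd hn hq hK σ hσ).2, Nat.cast_mul, Nat.cast_mul, Nat.cast_pow, Nat.cast_prod,
    ← Fin.prod_univ_eq_prod_range (fun i => ((if Even i then q₀ ^ (i + 1) + 1 else q₀ ^ (i + 1) - 1 : ℕ) : ℤ)) n]
  congr 2
  refine Finset.prod_congr rfl fun i _ => ?_
  split_ifs with he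
  · rw [(he.add_one).neg_one_pow]; push_cast; ring
  · rw [(Nat.not_even_iff_odd.1 he).add_one.neg_one_pow, Nat.cast_sub (Nat.one_le_pow _ _ hq1)]; push_cast; ring

end Cfsg.Agent.S2677
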