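import Cfsg.Statements.S2679
import Cfsg.Agent.Lib.Small.QuadExt
-- import your own Cfsg.Agent.* helpers here

set_option autoImplicit false
open Cfsg

namespace Cfsg.Agent.S2679

/-- An elliptic orthogonal group embeds in the hyperbolic orthogonal group of the same dimension over the quadratic extension: for a field F with q elements and a field K with q² elements there is an injective homomorphism from O⁻_2m(F) (isometries of Σ_(j<m−1) x_j y_j + z₁² + a z₁z₂ + c z₂², binary part anisotropic) to O⁺_2m(K) (isometries of Σ_(j<m) x_j y_j over K). -/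
theorem result {F K : Type*} [Field F] [Fintype F] [Field K] [Fintype K] {q : ℕ} (hF : Fintype.card F = q) (hK : Fintype.card K = q ^ 2) {m : ℕ} (hm : 1 ≤ m) (a c : F) (hac : ∀ z₁ z₂ : F, z₁ ^ 2 + a * z₁ * z₂ + c * z₂ ^ 2 = 0 → z₁ = 0 ∧ z₂ = 0) : ∃ φ : ↥(Cfsg.isometryGroup F (Cfsg.quadFormMinus (m - 1) F a c)) →* ↥(Cfsg.isometryGroup K (Cfsg.quadFormPlus m K)), Function.Injective φ := by
  classical
  obtain ⟨S⟩ := Cfsg.Agent.Small.QuadExt.exists_setup hF hK
  obtain ⟨r, hr1, hr2, hr3⟩ := Cfsg.Agent.Small.QuadExt.exists_root S hF hK a c hac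
  obtain ⟨k, rfl⟩ : ∃ k, m = k + 1 := ⟨m - 1, by omega⟩
  show ∃ φ : ↥(Cfsg.isometryGroup F (Cfsg.quadFormMinus k F a c)) →* ↥(Cfsg.isometryGroup K (Cfsg.quadFormPlus (k + 1) K)), Function.Injective φ
  let Qm : (((Fin (k) ⊕ Fin (k)) ⊕ Fin 2) → K) → K :=
    Cfsg.quadFormMinus (k) K (S.emb a) (S.emb c)
  let Φ₀ : (((Fin (k) ⊕ Fin (k)) ⊕ Fin 2) → K) →ₗ[K] (Fin (k + 1) ⊕ Fin (k + 1) → K) :=
    { toFun := fun v => Sum.elim
        (Fin.cons (v (Sum.inr 0) - r * v (Sum.inr 1)) (fun i => v (Sum.inl (Sum.inl (Fin.cast (by omega) i)))))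
        (Fin.cons (v (Sum.inr 0) - S.conj r * v (Sum.inr 1)) (fun i => v (Sum.inl (Sum.inr (Fin.cast (by omega) i)))))
      map_add' := fun u v => by
        funext x
        rcases x with x | x <;> refine Fin.cases ?_ (fun j => ?_) x <;> simp <;> ring
      map_smul' := fun d v => by
        funext x
        rcases x with x | x <;> refine Fin.cases ?_ (fun j => ?_) x <;> simp <;> ring }
  have hinj : Function.Injective Φ₀ := by
    rw [← LinearMap.ker_eq_bot, LinearMap.ker_eq_bot']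
    intro v hv
    have h0 := congrFun hv (Sum.inl 0)
    have h1 := congrFun hv (Sum.inr 0)
    simp [Φ₀] at h0 h1
    have hz1 : v (Sum.inr 1) = 0 := by
      have : (S.conj r - r) * v (Sum.inr 1) = 0 := by linear_combination h0 - h1
      exact (mul_eq_zero.mp this).resolve_left (sub_ne_zero.mpr (Ne.symm hr3))
    have hz0 : v (Sum.inr 0) = 0 := by rw [hz1] at h0; simpa using h0
    funext x
    rcases x with (i | i) | i
    · have h := congrFun hv (Sum.inl (Fin.succ (Fin.cast (by omega) i)))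
      simpa [Φ₀] using h
    · have h := congrFun hv (Sum.inr (Fin.succ (Fin.cast (by omega) i)))
      simpa [Φ₀] using h
    · fin_cases i
      · exact hz0
      · exact hz1
  let Φ := LinearMap.linearEquivOfInjective Φ₀ hinj (by simp; omega)
  have hΦ : ∀ v, Cfsg.quadFormPlus (k + 1) K (Φ v) = Qm v := by
    intro v
    rw [LinearMap.linearEquivOfInjective_apply]
    simp only [Qm, Cfsg.quadFormPlus, Cfsg.quadFormMinus, Φ₀, LinearMap.coe_mk, AddHom.coe_mk, Sum.elim_inl,
      Sum.elim_inr]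
    rw [Fin.sum_univ_succ]
    simp only [Fin.cons_zero, Fin.cons_succ]
    refine (add_comm _ _).trans (congrArg₂ (· + ·) ?_ ?_)
    · exact rfl
    · linear_combination (-(v (Sum.inr 0) * v (Sum.inr 1))) * hr1 + v (Sum.inr 1) ^ 2 * hr2
  let G := ↥(Cfsg.isometryGroup F (Cfsg.quadFormMinus (k) F a c))
  let ρ : G →* ((((Fin (k) ⊕ Fin (k)) ⊕ Fin 2) → K) →ₗ[K]
      (((Fin (k) ⊕ Fin (k)) ⊕ Fin 2) → K)) :=
    { toFun := fun g => Matrix.mulVecLin ((((g : GL ((Fin (k) ⊕ Fin (k)) ⊕ Fin 2) F) : Matrix ((Fin (k) ⊕ Fin (k)) ⊕ Fin 2) ((Fin (k) ⊕ Fin (k)) ⊕ Fin 2) F)).map S.emb)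
      map_one' := by
        apply LinearMap.ext; intro v
        simp
      map_mul' := fun g h => by
        apply LinearMap.ext; intro v
        simp only [Matrix.mulVecLin_apply, Module.End.mul_apply, Matrix.mulVec_mulVec]
        congr 1
        exact Matrix.map_mul (f := S.emb) }
  have hρ : Function.Injective ρ := by
    intro g h e
    apply Subtype.ext
    apply Units.ext
    ext i j
    have := congrFun (LinearMap.congr_fun e (Pi.single j 1)) i
    exact S.emb.injective (by simpa [ρ] using this)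
  have hQF : ∀ v, Qm (fun x => S.emb (v x)) = S.emb (Cfsg.quadFormMinus (k) F a c v) := fun v => by
    simp [Qm, Cfsg.quadFormMinus, map_sum]
  have hgF : ∀ (g : G) (v : ((Fin k ⊕ Fin k) ⊕ Fin 2) → F), Qm (ρ g (fun x => S.emb (v x))) = Qm (fun x => S.emb (v x)) := fun g v => by
    have h : ρ g (fun x => S.emb (v x)) = fun x => S.emb ((((g : GL ((Fin (k) ⊕ Fin (k)) ⊕ Fin 2) F) : Matrix ((Fin (k) ⊕ Fin (k)) ⊕ Fin 2) ((Fin (k) ⊕ Fin (k)) ⊕ Fin 2) F).mulVec v) x) := by
      funext x
      exact (RingHom.map_mulVec S.emb _ v x).symm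
    rw [h, hQF, hQF]
    exact congrArg S.emb (g.2 v v)
  have hadd : ∀ x y, Qm (x + y) - Qm x - Qm y = ∑ i, (x (Sum.inl (Sum.inl i)) * y (Sum.inl (Sum.inr i))
      + y (Sum.inl (Sum.inl i)) * x (Sum.inl (Sum.inr i))) + (2 * x (Sum.inr 0) * y (Sum.inr 0)
        + S.emb a * (x (Sum.inr 0) * y (Sum.inr 1) + y (Sum.inr 0) * x (Sum.inr 1))
        + 2 * S.emb c * x (Sum.inr 1) * y (Sum.inr 1)) := fun x y => by
    simp only [Qm, Cfsg.quadFormMinus, Pi.add_apply, add_mul, mul_add, Finset.sum_add_distrib]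
    ring
  have hsm : ∀ (d : K) x, Qm (d • x) = d * d * Qm x := fun d x => by
    simp only [Qm, Cfsg.quadFormMinus, Pi.smul_apply, smul_eq_mul, Finset.mul_sum, mul_add]
    congr 1
    · exact Finset.sum_congr rfl fun i _ => by ring
    · ring
  obtain ⟨Qq, hQq⟩ : ∃ Qq : QuadraticForm K (((Fin (k) ⊕ Fin (k)) ⊕ Fin 2) → K), ∀ x, Qq x = Qm x := by
    refine ⟨QuadraticMap.ofPolar Qm hsm ?_ ?_, fun _ => rfl⟩
    · intro x x' y
      simp only [QuadraticMap.polar, hadd, Pi.add_apply, add_mul, mul_add, Finset.sum_add_distrib]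
      ring
    · intro d x y
      simp only [QuadraticMap.polar, hadd, Pi.smul_apply, smul_eq_mul, Finset.mul_sum, mul_add,
        Finset.sum_add_distrib]
      ring_nf
  have hpres : ∀ (g : G) v, Qm (ρ g v) = Qm v := by
    intro g v
    have h := QuadraticMap.ext_iff.mp (show Qq.comp (ρ g) = Qq from ?_) v
    · simpa [hQq] using h
    have hsingle : ∀ i : ((Fin (k) ⊕ Fin (k)) ⊕ Fin 2),
        (Pi.single i 1 : ((Fin (k) ⊕ Fin (k)) ⊕ Fin 2) → K) = fun x => S.emb ((Pi.single i 1 : ((Fin k ⊕ Fin k) ⊕ Fin 2) → F) x) := fun i => by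
      funext x; by_cases hx : x = i <;> simp [Pi.single_apply, hx]
    have h1 : ∀ i, Qq (ρ g (Pi.single i 1)) = Qq (Pi.single i 1) := fun i => by
      rw [hQq, hQq, hsingle, hgF]
    have h2 : ∀ i j, QuadraticMap.polar Qq (ρ g (Pi.single i 1)) (ρ g (Pi.single j 1)) =
        QuadraticMap.polar Qq (Pi.single i 1) (Pi.single j 1) := fun i j => by
      rw [QuadraticMap.polar, QuadraticMap.polar, h1, h1, ← map_add]
      have : Qq (ρ g (Pi.single i 1 + Pi.single j 1)) = Qq (Pi.single i 1 + Pi.single j 1) := by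
        rw [hQq, hQq, hsingle, hsingle]
        have := hgF g (Pi.single i 1 + Pi.single j 1)
        simpa [Pi.add_def] using this
      rw [this]
    apply QuadraticMap.ext
    intro x
    rw [QuadraticMap.comp_apply, pi_eq_sum_univ' x, map_sum]
    simp only [map_smul]
    rw [QuadraticMap.map_sum, QuadraticMap.map_sum]
    congr 1
    · exact Finset.sum_congr rfl fun i _ => by rw [QuadraticMap.map_smul, QuadraticMap.map_smul, h1]
    · refine Finset.sum_congr rfl fun p _ => ?_
      refine Sym2.inductionOn p fun i j => ?_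
      simp only [Sym2.lift_mk, QuadraticMap.polarSym2_sym2Mk, QuadraticMap.polar_smul_left,
        QuadraticMap.polar_smul_right, Sym2.map_mk, h2]
  refine Cfsg.Agent.Small.QuadExt.embed_isometry Φ.symm ρ hρ Qm id Function.injective_id
    (Cfsg.quadFormPlus (k + 1) K) (fun w => ?_) hpres
  rw [← hΦ, LinearEquiv.apply_symm_apply]
  rfl

end Cfsg.Agent.S2679
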