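import Cfsg.Statements.S2682
import Cfsg.Agent.Lib.Small.SpInvolMatrix
-- import your own Cfsg.Agent.* helpers here

set_option autoImplicit false
open Cfsg

namespace Cfsg.Agent.S2682

/-- Centraliser order of an involution t of Sp_2m(q), q even, with s = rank(t − 1) even and f(v, tv) ≠ 0 for some v, f the symplectic form (type c_s): |C(t)| = q^(2ms − (3s² − 3s)/2 − 1) · |Sp_(s−2)(q)| · |Sp_(2m−2s)(q)|. -/
theorem result {F : Type*} [Field F] [Fintype F] [CharP F 2] {q : ℕ} (hF : Fintype.card F = q) {m s : ℕ} (t : Matrix.symplecticGroup (Fin m) F) (ht : t ^ 2 = 1) (hs : ((t : Matrix (Fin m ⊕ Fin m) (Fin m ⊕ Fin m) F) - 1).rank = s) (heven : Even s) (hna : ∃ v : Fin m ⊕ Fin m → F, Cfsg.sympForm m F v ((t : Matrix (Fin m ⊕ Fin m) (Fin m ⊕ Fin m) F).mulVec v) ≠ 0) : Nat.card ↥(Subgroup.centralizer ({t} : Set ↥(Matrix.symplecticGroup (Fin m) F))) = q ^ (2 * m * s - (3 * s ^ 2 - 3 * s)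 / 2 - 1) * ((q : ℕ) ^ (((s - 2) / 2) ^ 2) * ∏ i : Fin ((s - 2) / 2), (q ^ (2 * ((i : ℕ) + 1)) - 1)) * ((q : ℕ) ^ ((m - s) ^ 2) * ∏ i : Fin (m - s), (q ^ (2 * ((i : ℕ) + 1)) - 1)) := by
  obtain ⟨O, h, -, -, ho⟩ := Cfsg.Agent.Small.SpInvolMatrix.card_cent_matrix hF ht hs
  obtain ⟨v, hv⟩ := hna
  rw [h, ho heven (fun hA => hv (hA v)), Cfsg.Agent.Small.SpInvolMatrix.sp_eq,
    Cfsg.Agent.Small.SpInvolMatrix.sp_eq, ← mul_assoc (q ^ (2 * m * s - (3 * s ^ 2 - s) / 2)), ← pow_add]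
  have hs0 : 0 < s := by
    by_contra h0
    obtain rfl : s = 0 := by omega
    refine hv ?_
    have hsm := hs
    rw [← Cfsg.Agent.Small.SpInvolMatrix.finrank_nil, Submodule.finrank_eq_zero, LinearMap.range_eq_bot] at hsm
    have := ((Cfsg.Agent.Small.SpInvolMatrix.alt_iff t).1 fun w => by rw [hsm, LinearMap.zero_apply, map_zero]) v
    exact this
  have hm : 2 * s ≤ 2 * m := by
    have := Cfsg.Agent.Small.InvolutionsSp.two_rank_le (Cfsg.Agent.Small.SpInvolMatrix.invol ht)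
    rwa [Cfsg.Agent.Small.SpInvolMatrix.finrank_space, Cfsg.Agent.Small.SpInvolMatrix.finrank_nil, hs] at this
  obtain ⟨k, rfl⟩ := heven
  have h1 : (3 * (k + k) ^ 2 - (k + k)) / 2 = (6 * k ^ 2 - k) := by
    rw [show 3 * (k + k) ^ 2 - (k + k) = 2 * (6 * k ^ 2 - k) by ring_nf; omega]
    omega
  have h2 : (3 * (k + k) ^ 2 - 3 * (k + k)) / 2 = 6 * k ^ 2 - 3 * k := by
    rw [show 3 * (k + k) ^ 2 - 3 * (k + k) = 2 * (6 * k ^ 2 - 3 * k) by ring_nf; omega]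
    omega
  have h3 : 3 * k ≤ 6 * k ^ 2 := by nlinarith
  have h4 : 8 * k ^ 2 ≤ 2 * m * (k + k) := by nlinarith
  rw [h1, h2, show 2 * m * (k + k) - (6 * k ^ 2 - k) + (k + k - 1) = 2 * m * (k + k) - (6 * k ^ 2 - 3 * k) - 1 by omega]

end Cfsg.Agent.S2682
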