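import Cfsg.Statements.S2683
import Cfsg.Agent.Lib.Small.OInvolMatrix
-- import your own Cfsg.Agent.* helpers here

set_option autoImplicit false
open Cfsg

namespace Cfsg.Agent.S2683

open Cfsg.Agent.Small

/-- For the hyperbolic form Σ x_j y_j on F^(2m) over a finite field with q elements, q even (excluding m = 2 over the field of two elements), and an involution x of the orthogonal group with s = rank(x − 1) odd (type b_s; such x lie outside Ω): the elements of Ω (the commutator subgroup of the orthogonal group) commuting with x number q^(2m(s−1) − (3s² − 3s)/2) · |Sp_(s−1)(q)| · |Sp_(2m−2s)(q)|, where |Sp_2k(q)| = q^(k²) Π_(i=1)^k (q^(2i) − 1). -/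
theorem result {F : Type*} [Field F] [Fintype F] [CharP F 2] {q : ℕ} (hF : Fintype.card F = q) {m s : ℕ} (h : Fintype.card F ≠ 2 ∨ m ≠ 2) (x : ↥(Cfsg.isometryGroup F (Cfsg.quadFormPlus m F))) (hx : x ^ 2 = 1) (hs : (((x : Matrix.GeneralLinearGroup (Fin m ⊕ Fin m) F) : Matrix (Fin m ⊕ Fin m) (Fin m ⊕ Fin m) F) - 1).rank = s) (hodd : Odd s) : Nat.card {g : ↥(Cfsg.Omega F (Cfsg.quadFormPlus m F)) // (g : ↥(Cfsg.isometryGroup F (Cfsg.quadFormPlus m F))) * x = x * (g : ↥(Cfsg.isometryGroup F (Cfsg.quadFormPlus m F)))} = q ^ (2 * m * (s - 1) - (3 * s ^ 2 - 3 * s) / 2) * ((q : ℕ) ^ (((s - 1) / 2) ^ 2) * ∏ i : Fin ((s - 1) / 2), (q ^ (2 * ((i : ℕ) + 1)) - 1)) * ((q : ℕ) ^ ((m - s) ^ 2) * ∏ i : Fin (m - s), (q ^ (2 * ((i : ℕ) + 1)) - 1)) := by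
  have hq : Cfsg.quadFormPlus m F = ⇑(Cfsg.Agent.Small.Orth.qPlus F m) :=
    (Cfsg.Agent.Classical.OOmega.coe_plus m).symm
  revert x hx hs hodd
  rw [hq]
  intro x hx hs hodd
  subst hF
  have hι : Fintype.card (Fin m ⊕ Fin m) = 2 * m := by simp; omega
  have hG := OInvolMatrix.gen (Orth.qPlus_pnd F m) (h.imp (by simp) (by simp; omega))
  have hsm : s ≤ m := hs ▸ OInvolMatrix.rank_le (Orth.qPlus_pnd F m) hι hx
  have hpos : ∀ n, 0 < Fintype.card F ^ n := fun n => pow_pos Fintype.card_pos n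
  obtain ⟨O, hO, o1, -⟩ := OInvolMatrix.cent_omega_nonalt (Orth.qPlus_pnd F m) hι hG hx hs fun ha =>
    Nat.not_even_iff_odd.2 hodd (hs ▸ OInvolMatrix.alt_even (Orth.qPlus_pnd F m) hx ha)
  rw [o1 hodd] at hO
  refine Nat.eq_of_mul_eq_mul_right (hpos (2 * m - s)) (hO.trans ?_)
  have e : 2 * m * s - (3 * s ^ 2 - s) / 2 = 2 * m * (s - 1) - (3 * s ^ 2 - 3 * s) / 2 + (2 * m - s) := by
    obtain ⟨k, rfl⟩ := hodd
    obtain ⟨K, hK⟩ : ∃ K, K = k * k := ⟨_, rfl⟩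
    obtain ⟨P, hP⟩ : ∃ P, P = m * k := ⟨_, rfl⟩
    have h1 : 2 * m * (2 * k + 1) = 4 * P + 2 * m := by rw [hP]; ring
    have h2 : 2 * m * (2 * k + 1 - 1) = 4 * P := by rw [hP, Nat.add_sub_cancel]; ring
    have h3 : (2 * k + 1) ^ 2 = 4 * K + 4 * k + 1 := by rw [hK]; ring
    have h4 : 2 * K + k ≤ P := by
      rw [hK, hP]
      calc 2 * (k * k) + k = (2 * k + 1) * k := by ring
        _ ≤ m * k := Nat.mul_le_mul_right k hsm
    rw [h1, h2, h3]
    omega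
  rw [e, pow_add, SymFormsTwo.sp, SymFormsTwo.sp]
  ring

end Cfsg.Agent.S2683
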