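import Cfsg.Statements.S2684
import Cfsg.Agent.Lib.Small.OInvolMatrix
-- import your own Cfsg.Agent.* helpers here

set_option autoImplicit false
open Cfsg

namespace Cfsg.Agent.S2684

open Cfsg.Agent.Small

/-- For the hyperbolic form Q = Σ x_j y_j on F^(2m) over a finite field with q elements, q even (excluding m = 2 over the field of two elements), and an involution x ≠ 1 of the orthogonal group with s = rank(x − 1) even and Q vanishing on the image of x − 1 (equivalently f(v, xv) = 0 for all v, where f(u, w) = Q(u + w) − Q(u) − Q(w) is the bilinear form of Q; type a_s, which lies in Ω): its centraliser in Ω (the commutator subgroup of the orthogonal group) has order q^(2ms − (3s² + s)/2) · |Sp_s(q)| · |Ω⁺_(2m−2s)(q)|, where |Ω⁺_2k(q)| = q^(k(k−1)) (q^k − 1) Π_(i=1)^(k−1) (q^(2i) − 1) for k ≥ 1 and the last factor is 1 when s = m. -/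
theorem result {F : Type*} [Field F] [Fintype F] [CharP F 2] {q : ℕ} (hF : Fintype.card F = q) {m s : ℕ} (h : Fintype.card F ≠ 2 ∨ m ≠ 2) (x : ↥(Cfsg.isometryGroup F (Cfsg.quadFormPlus m F))) (hx : x ^ 2 = 1) (hx1 : x ≠ 1) (hs : (((x : Matrix.GeneralLinearGroup (Fin m ⊕ Fin m) F) : Matrix (Fin m ⊕ Fin m) (Fin m ⊕ Fin m) F) - 1).rank = s) (heven : Even s) (halt : ∀ v : Fin m ⊕ Fin m → F, Cfsg.quadFormPlus m F ((((x : Matrix.GeneralLinearGroup (Fin m ⊕ Fin m) F) : Matrix (Fin m ⊕ Fin m) (Fin m ⊕ Fin m) F) - 1).mulVec v) = 0) : Nat.card {g : ↥(Cfsg.Omega F (Cfsg.quadFormPlus m F)) // (g : ↥(Cfsg.isometryGroup F (Cfsg.quadFormPlus m F))) * x = x * (g : ↥(Cfsg.isometryGroup F (Cfsg.quadFormPlus m F)))} = q ^ (2 * m * s - (3 * s ^ 2 + s) / 2) * ((q : ℕ) ^ ((s / 2) ^ 2) * ∏ i : Fin (s / 2), (q ^ (2 * ((i : ℕ) + 1)) - 1)) * (if s = m then 1 else q ^ ((m - s) * (m - s - 1)) * (q ^ (m - s) - 1) * ∏ i : Fin (m - s - 1), (q ^ (2 * ((i : ℕ)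 + 1)) - 1)) := by
  have hq : Cfsg.quadFormPlus m F = ⇑(Cfsg.Agent.Small.Orth.qPlus F m) :=
    (Cfsg.Agent.Classical.OOmega.coe_plus m).symm
  revert x hx hx1 hs heven halt
  rw [hq]
  intro x hx hx1 hs heven halt
  subst hF
  have hι : Fintype.card (Fin m ⊕ Fin m) = 2 * m := by simp; omega
  have hG := OInvolMatrix.gen (Orth.qPlus_pnd F m) (h.imp (by simp) (by simp; omega))
  have hsm : s ≤ m := hs ▸ OInvolMatrix.rank_le (Orth.qPlus_pnd F m) hι hx
  have hpos : ∀ n, 0 < Fintype.card F ^ n := fun n => pow_pos Fintype.card_pos n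
  have hO := OInvolMatrix.cent_omega_alt (Orth.qPlus_pnd F m) hι hG hx hs halt (OInvolMatrix.arf_plus m)
  obtain ⟨T, hT⟩ : ∃ T, 2 * T = 3 * s ^ 2 + s := by
    obtain ⟨j, hj⟩ := heven
    exact ⟨6 * j ^ 2 + j, by rw [hj]; ring⟩
  have hle : s * s ≤ m * s := Nat.mul_le_mul_right s hsm
  by_cases hm' : s = m
  · subst hm'
    rw [if_pos rfl, mul_one] at hO
    rw [if_pos rfl, mul_one]
    refine Nat.eq_of_mul_eq_mul_right (hpos s) (hO.trans ?_)
    have e : 2 * s * s - (3 * s ^ 2 - s) / 2 = 2 * s * s - (3 * s ^ 2 + s) / 2 + s := by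
      have h1 : 2 * s * s = 2 * (s * s) := by ring
      have h2 : s ^ 2 = s * s := by ring
      have h3 : s ≤ s * s := Nat.le_mul_self s
      rw [h1, h2]
      omega
    rw [e, pow_add, SymFormsTwo.sp, SymFormsTwo.sp, Nat.sub_self]
    simp
    ring
  · rw [if_neg hm'] at hO
    rw [if_neg hm']
    obtain ⟨j, hj⟩ : ∃ j, m - s = j + 1 := ⟨m - s - 1, by omega⟩
    rw [hj] at hO ⊢
    rw [Nat.add_sub_cancel]
    refine Nat.eq_of_mul_eq_mul_right (mul_pos (hpos m) (Nat.succ_pos (Fintype.card F ^ (j + 1)))) (hO.trans ?_)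
    rw [Nat.succ_eq_add_one]
    have e : 2 * m * s - (3 * s ^ 2 - s) / 2 + (j + 1) ^ 2 =
        2 * m * s - (3 * s ^ 2 + s) / 2 + (j + 1) * j + m := by
      have h1 : 2 * m * s = 2 * (m * s) := by ring
      have h2 : s ^ 2 = s * s := by ring
      have h3 : (j + 1) ^ 2 = (j + 1) * j + (j + 1) := by ring
      have h4 : s ≤ s * s := Nat.le_mul_self s
      rw [h1, h2, h3]
      rw [h2] at hT
      omega
    have hsp : SymFormsTwo.sp (Fintype.card F) (j + 1) = Fintype.card F ^ ((j + 1) ^ 2) *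
        ((Fintype.card F ^ (j + 1) - 1) * (Fintype.card F ^ (j + 1) + 1) *
          ∏ i : Fin j, (Fintype.card F ^ (2 * ((i : ℕ) + 1)) - 1)) := by
      rw [SymFormsTwo.sp, Fin.prod_univ_castSucc]
      simp only [Fin.val_castSucc, Fin.val_last]
      rw [show Fintype.card F ^ (2 * (j + 1)) - 1 = (Fintype.card F ^ (j + 1) - 1) * (Fintype.card F ^ (j + 1) + 1) by
        rw [mul_comm (Fintype.card F ^ (j + 1) - 1), ← Nat.sq_sub_sq, ← pow_mul, one_pow]; ring_nf]
      ring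
    rw [hsp, show ∀ A B : ℕ, Fintype.card F ^ (2 * m * s - (3 * s ^ 2 - s) / 2) * A *
      (Fintype.card F ^ ((j + 1) ^ 2) * B) = Fintype.card F ^ (2 * m * s - (3 * s ^ 2 - s) / 2 + (j + 1) ^ 2) * A * B
      from fun A B => by rw [pow_add]; ring, e, pow_add, pow_add, SymFormsTwo.sp]
    ring

end Cfsg.Agent.S2684
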