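import Cfsg.Statements.S2685
import Cfsg.Agent.Lib.Small.OInvolMatrix
-- import your own Cfsg.Agent.* helpers here

set_option autoImplicit false
open Cfsg

namespace Cfsg.Agent.S2685

open Cfsg.Agent.Small

/-- For the hyperbolic form Q = Σ x_j y_j on F^(2m) over a finite field with q elements, q even (excluding m = 2 over the field of two elements), and an involution x of the orthogonal group with s = rank(x − 1) even and Q not vanishing on the image of x − 1 (f(v, xv) ≠ 0 for some v, where f(u, w) = Q(u + w) − Q(u) − Q(w) is the bilinear form of Q; type c_s, which lies in Ω): its centraliser in Ω (the commutator subgroup of the orthogonal group) has order q^(2m(s−1) − (3s² − 5s)/2 − 1) · |Sp_(s−2)(q)| · |Sp_(2m−2s)(q)|. -/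
theorem result {F : Type*} [Field F] [Fintype F] [CharP F 2] {q : ℕ} (hF : Fintype.card F = q) {m s : ℕ} (h : Fintype.card F ≠ 2 ∨ m ≠ 2) (x : ↥(Cfsg.isometryGroup F (Cfsg.quadFormPlus m F))) (hx : x ^ 2 = 1) (hs : (((x : Matrix.GeneralLinearGroup (Fin m ⊕ Fin m) F) : Matrix (Fin m ⊕ Fin m) (Fin m ⊕ Fin m) F) - 1).rank = s) (heven : Even s) (hna : ∃ v : Fin m ⊕ Fin m → F, Cfsg.quadFormPlus m F ((((x : Matrix.GeneralLinearGroup (Fin m ⊕ Fin m) F) : Matrix (Fin m ⊕ Fin m) (Fin m ⊕ Fin m) F) - 1).mulVec v) ≠ 0) : Nat.card {g : ↥(Cfsg.Omega F (Cfsg.quadFormPlus m F)) // (g : ↥(Cfsg.isometryGroup F (Cfsg.quadFormPlus m F))) * x = x * (g : ↥(Cfsg.isometryGroup F (Cfsg.quadFormPlus m F)))} = q ^ (2 * m * (s - 1) - (3 * s ^ 2 - 5 * s) / 2 - 1) * ((q : ℕ) ^ (((s - 2) / 2) ^ 2) * ∏ i : Fin ((s - 2) / 2), (q ^ (2 * ((i : ℕ) + 1)) - 1)) * ((q : ℕ) ^ ((m - s) ^ 2) * ∏ i : Fin (m - s), (q ^ (2 * ((i : ℕ) + 1)) - 1)) := by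
  have hq : Cfsg.quadFormPlus m F = ⇑(Cfsg.Agent.Small.Orth.qPlus F m) :=
    (Cfsg.Agent.Classical.OOmega.coe_plus m).symm
  revert x hx hs heven hna
  rw [hq]
  intro x hx hs heven hna
  subst hF
  have hι : Fintype.card (Fin m ⊕ Fin m) = 2 * m := by simp; omega
  have hG := OInvolMatrix.gen (Orth.qPlus_pnd F m) (h.imp (by simp) (by simp; omega))
  have hsm : s ≤ m := hs ▸ OInvolMatrix.rank_le (Orth.qPlus_pnd F m) hι hx
  have hpos : ∀ n, 0 < Fintype.card F ^ n := fun n => pow_pos Fintype.card_pos n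
  obtain ⟨v, hv⟩ := hna
  obtain ⟨O, hO, -, o2⟩ := OInvolMatrix.cent_omega_nonalt (Orth.qPlus_pnd F m) hι hG hx hs fun ha => hv (ha v)
  rw [o2 heven] at hO
  refine Nat.eq_of_mul_eq_mul_right (hpos (2 * m - s)) (hO.trans ?_)
  have hs0 : 0 < s := Nat.pos_of_ne_zero fun h0 => hv (by
    subst h0
    rw [← OInvolMatrix.finrank_nil, Submodule.finrank_eq_zero, LinearMap.range_eq_bot] at hs
    have h1 := LinearMap.congr_fun hs v
    rw [OInvolMatrix.nil, Matrix.toLin'_apply] at h1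
    change Matrix.mulVec _ v = 0 at h1
    rw [h1, QuadraticMap.map_zero])
  have e : 2 * m * s - (3 * s ^ 2 - s) / 2 + (s - 1) =
      2 * m * (s - 1) - (3 * s ^ 2 - 5 * s) / 2 - 1 + (2 * m - s) := by
    obtain ⟨k, hk⟩ := heven
    obtain ⟨j, rfl⟩ : ∃ j, k = j + 1 := ⟨k - 1, by omega⟩
    subst hk
    obtain ⟨K, hK⟩ : ∃ K, K = j * j := ⟨_, rfl⟩
    obtain ⟨P, hP⟩ : ∃ P, P = m * j := ⟨_, rfl⟩
    have h1 : 2 * m * (j + 1 + (j + 1)) = 4 * P + 4 * m := by rw [hP]; ring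
    have h2 : 2 * m * (j + 1 + (j + 1) - 1) = 4 * P + 2 * m := by
      rw [hP, show j + 1 + (j + 1) - 1 = 2 * j + 1 by omega]; ring
    have h3 : (j + 1 + (j + 1)) ^ 2 = 4 * K + 8 * j + 4 := by rw [hK]; ring
    have h4 : 2 * K + 2 * j ≤ P := by
      rw [hK, hP]
      calc 2 * (j * j) + 2 * j = (j + 1 + (j + 1)) * j := by ring
        _ ≤ m * j := Nat.mul_le_mul_right j hsm
    rw [h1, h2, h3]
    omega
  rw [show ∀ A B : ℕ, Fintype.card F ^ (2 * m * s - (3 * s ^ 2 - s) / 2) * (Fintype.card F ^ (s - 1) * A) * B =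
    Fintype.card F ^ (2 * m * s - (3 * s ^ 2 - s) / 2 + (s - 1)) * A * B from fun A B => by rw [pow_add]; ring,
    e, pow_add, SymFormsTwo.sp, SymFormsTwo.sp]
  ring

end Cfsg.Agent.S2685
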