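import Cfsg.Statements.S2699
import Cfsg.Agent.Lib.Small.PSLn.GraphClasses
-- import your own Cfsg.Agent.* helpers here

set_option autoImplicit false
open Cfsg

namespace Cfsg.Agent.S2699

open Cfsg.Agent.Small
open scoped Matrix

/-- Let T = PSL_n(F) over the field with p^f elements with n ≥ 3 odd, n = 2m + 1, and G = Inndiag(T) the image of PGL_n(F). Every involutory graph automorphism γ of T (an inner-diagonal automorphism followed by inverse-transpose, of order 2) has centralizer C_G(γ) isomorphic to the projective conformal orthogonal group of the form x₀² + Σ xᵢ yᵢ in dimension n (for q even this group is isomorphic to Sp_{n−1}(q)), and any two involutory graph automorphisms are G-conjugate. -/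
theorem result {F : Type*} [Field F] [Fintype F] {p f : ℕ} [Fact p.Prime] (hF : Fintype.card F = p ^ f) (hf : 1 ≤ f) {n : ℕ} (hn : 3 ≤ n) {m : ℕ} (hnm : n = 2 * m + 1) (γ γ' : MulAut (Matrix.ProjectiveSpecialLinearGroup (Fin n) F)) (hγ : Cfsg.IsGraphAutClassPSL γ) (hγ2 : orderOf γ = 2) (hγ' : Cfsg.IsGraphAutClassPSL γ') (hγ'2 : orderOf γ' = 2) :
    Nonempty (↥(Cfsg.inndiagPSL n F ⊓ Subgroup.centralizer {γ}) ≃* Cfsg.PGO F (Cfsg.quadFormOdd m F)) ∧ Cfsg.IsConjUnder (Cfsg.inndiagPSL n F) γ γ' := by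
  have hn2 : 2 ≤ n := by omega
  obtain ⟨B, rfl, hB⟩ := PSLn.exists_gram hn hγ hγ2
  obtain ⟨B', rfl, hB'⟩ := PSLn.exists_gram hn hγ' hγ'2
  rw [PSLn.conjUnder_iff hn2]
  by_cases h2 : (2 : F) = 0
  · haveI : CharP F 2 := CharTwo.of_one_ne_zero_of_two_eq_zero one_ne_zero h2
    have hsym : ∀ {C : GL (Fin n) F}, (C.valᵀ = C.val ∨ C.valᵀ = -C.val) → C.valᵀ = C.val := fun {C} h => by
      rcases h with h | h
      · exact h
      · rw [h]
        ext i j
        rw [Matrix.neg_apply, CharTwo.neg_eq]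
    have hna : ∀ {ι : Type} [Fintype ι] [DecidableEq ι] {X : Matrix ι ι F}, Fintype.card ι = 2 * m + 1 →
        IsUnit X.det → ¬ ∀ v : ι → F, v ⬝ᵥ X *ᵥ v = 0 := fun {ι} _ _ {X} hc hX h => by
      obtain ⟨k, hk⟩ := SymplecticSemisimple.exists_even _ (B := Matrix.toLinearMap₂' F X)
        ⟨fun v => by rw [Matrix.toLinearMap₂'_apply']; exact h v, fun x hx => Gram.bil_nondeg hX x hx⟩ rfl
      rw [Module.finrank_fintype_fun_eq_card, hc] at hk
      omega
    have hmod : ∀ {C : GL (Fin n) F}, (C.valᵀ = C.val ∨ C.valᵀ = -C.val) →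
        Gram.Model C.val (SymFormsTwo.oddMat (F := F) m) := fun {C} h =>
      Gram.two_model (hsym h) (PSLn.gl_det C) (Gram.oddMat_symm m) (Gram.oddMat_det m)
        (by simp [hnm]; ring)
        (iff_of_false (hna (by rw [Fintype.card_fin, hnm]) (PSLn.gl_det C))
          (hna (by simp; ring) (Gram.oddMat_det m)))
    refine ⟨?_, (hmod hB).trans (hmod hB').symm⟩
    haveI : Nonempty ((Fin m ⊕ Fin m) ⊕ Fin 1) := ⟨.inr 0⟩
    obtain ⟨a⟩ := PSLn.centralizer_model hn2 B (hmod hB)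
    obtain ⟨b⟩ := Gram.twoQuot (Gram.oddMat_det (F := F) m)
    obtain ⟨c⟩ := Gram.isoOdd_equiv (F := F) m
    obtain ⟨d⟩ := Cfsg.Agent.Classical.OrthTwo.equiv (F := F) (m := m)
    obtain ⟨e⟩ := Gram.twoQuad (Cfsg.quadFormOdd m F)
      (fun c v => by
        simp only [Cfsg.quadFormOdd, Pi.smul_apply, smul_eq_mul, mul_add, Finset.mul_sum]
        exact congrArg₂ (· + ·) (by ring) (Finset.sum_congr rfl fun i _ => by ring))
      ⟨Pi.single (.inl ()) 1, by simp [Cfsg.quadFormOdd]⟩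
    exact ⟨a.trans (b.symm.trans (c.symm.trans (d.symm.trans e)))⟩
  · have hmod : ∀ {C : GL (Fin n) F}, (C.valᵀ = C.val ∨ C.valᵀ = -C.val) →
        Gram.Model C.val (Gram.Jodd F m) := fun {C} h => by
      rcases h with h | h
      · exact Gram.sym_odd h2 h (PSLn.gl_det C) (by rw [Fintype.card_fin, hnm])
      · exact absurd h (PSLn.no_skew h2 hnm C)
    refine ⟨?_, (hmod hB).trans (hmod hB').symm⟩
    unfold Cfsg.PGO
    rw [Gram.quadSim_eq h2 (Gram.polar_odd m) (Gram.odd_quad m)]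
    exact PSLn.centralizer_model hn2 B (hmod hB)

end Cfsg.Agent.S2699
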