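import Cfsg.Statements.S2700
import Cfsg.Agent.Lib.Small.PSLn.GraphClasses
-- import your own Cfsg.Agent.* helpers here

set_option autoImplicit false
open Cfsg

namespace Cfsg.Agent.S2700

open Cfsg.Agent.Small
open scoped Matrix

/-- Let T = PSL_n(F) over a finite field of odd order with n = 2m ≥ 4 even, and G = Inndiag(T) the image of PGL_n(F). The involutory graph automorphisms of T fall into exactly three G-classes, with representatives γ₁, γ₂, γ₃ whose centralizers in G are isomorphic respectively to the projective conformal symplectic group PGSp_n(F), the projective conformal orthogonal group of the plus-type form Σ xᵢ yᵢ, and that of a minus-type form Σ xᵢ yᵢ + z₁² + a z₁ z₂ + b z₂² (anisotropic binary part) in dimension n. -/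
theorem result {F : Type*} [Field F] [Fintype F] (hodd : Odd (Fintype.card F)) {n m : ℕ} (hm : 2 ≤ m) (hnm : n = 2 * m) :
    ∃ (γ₁ γ₂ γ₃ : MulAut (Matrix.ProjectiveSpecialLinearGroup (Fin n) F)) (a b : F), (∀ z₁ z₂ : F, z₁ ^ 2 + a * z₁ * z₂ + b * z₂ ^ 2 = 0 → z₁ = 0 ∧ z₂ = 0) ∧ Cfsg.IsGraphAutClassPSL γ₁ ∧ orderOf γ₁ = 2 ∧ Cfsg.IsGraphAutClassPSL γ₂ ∧ orderOf γ₂ = 2 ∧ Cfsg.IsGraphAutClassPSL γ₃ ∧ orderOf γ₃ = 2 ∧ ¬ Cfsg.IsConjUnder (Cfsg.inndiagPSL n F) γ₁ γ₂ ∧ ¬ Cfsg.IsConjUnder (Cfsg.inndiagPSL n F) γ₁ γ₃ ∧ ¬ Cfsg.IsConjUnder (Cfsg.inndiagPSL n F) γ₂ γ₃ ∧ (∀ γ : MulAut (Matrix.ProjectiveSpecialLinearGroup (Fin n) F), Cfsg.IsGraphAutClassPSL γ → orderOf γ = 2 → Cfsg.IsConjUnder (Cfsg.inndiagPSL n F) γ₁ γ ∨ Cfsg.IsConjUnder (Cfsg.inndiagPSL n F) γ₂ γ ∨ Cfsg.IsConjUnder (Cfsg.inndiagPSL n F) γ₃ γ) ∧ Nonempty (↥(Cfsg.inndiagPSL n F ⊓ Subgroup.centralizer {γ₁}) ≃* Cfsg.PGSp m F)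 ∧ Nonempty (↥(Cfsg.inndiagPSL n F ⊓ Subgroup.centralizer {γ₂}) ≃* Cfsg.PGO F (Cfsg.quadFormPlus m F)) ∧ Nonempty (↥(Cfsg.inndiagPSL n F ⊓ Subgroup.centralizer {γ₃}) ≃* Cfsg.PGO F (Cfsg.quadFormMinus (m - 1) F a b)) := by
  have h2 := FormDisc.two_ne rfl hodd (F := F)
  have hn : 3 ≤ n := by omega
  have hn2 : 2 ≤ n := by omega
  have hm1 : 1 ≤ m := by omega
  obtain ⟨a, c, hac⟩ := QuadModels.exists_aniso (F := F)
  obtain ⟨B₁, h₁⟩ := PSLn.exists_unit_model (n := n) (by rw [Fintype.card_sum, Fintype.card_fin]; omega)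
    (Matrix.isUnit_det_J (Fin m) F)
  obtain ⟨B₂, h₂⟩ := PSLn.exists_unit_model (n := n) (by rw [Fintype.card_sum, Fintype.card_fin]; omega)
    (Gram.det_plus_unit (F := F) m)
  obtain ⟨B₃, h₃⟩ := PSLn.exists_unit_model (n := n)
    (by rw [Fintype.card_sum, Fintype.card_sum, Fintype.card_fin, Fintype.card_fin]; omega)
    (Gram.det_minus_unit h2 (m - 1) hac)
  have s₁ : B₁.valᵀ = -B₁.val := by
    have := h₁.symm.transpose_eq (ε := (-1 : F)) (by rw [Matrix.J_transpose, neg_one_smul])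
    rwa [neg_one_smul] at this
  have s₂ : B₂.valᵀ = B₂.val := by
    have := h₂.symm.transpose_eq (ε := (1 : F)) (by rw [PSLn.Jplus_symm, one_smul])
    rwa [one_smul] at this
  have s₃ : B₃.valᵀ = B₃.val := by
    have := h₃.symm.transpose_eq (ε := (1 : F)) (by rw [PSLn.Jminus_symm, one_smul])
    rwa [one_smul] at this
  refine ⟨PSLn.gr B₁, PSLn.gr B₂, PSLn.gr B₃, a, c, hac,
    (PSLn.graph_iff hn _).2 ⟨_, rfl⟩, (PSLn.gr_order_iff hn _).2 (.inr s₁),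
    (PSLn.graph_iff hn _).2 ⟨_, rfl⟩, (PSLn.gr_order_iff hn _).2 (.inl s₂),
    (PSLn.graph_iff hn _).2 ⟨_, rfl⟩, (PSLn.gr_order_iff hn _).2 (.inl s₃), ?_, ?_, ?_, ?_, ?_, ?_, ?_⟩
  · rw [PSLn.conjUnder_iff hn2]
    exact fun h => PSLn.not_model_J h2 hm1 s₂ (h.symm.trans h₁)
  · rw [PSLn.conjUnder_iff hn2]
    exact fun h => PSLn.not_model_J h2 hm1 s₃ (h.symm.trans h₁)
  · rw [PSLn.conjUnder_iff hn2]
    exact fun h => PSLn.not_model_plus_minus h2 hm1 hac (h₂.symm.trans (h.trans h₃))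
  · intro γ hγ hγ2
    obtain ⟨B, rfl, hB⟩ := PSLn.exists_gram hn hγ hγ2
    simp only [PSLn.conjUnder_iff hn2]
    rcases PSLn.even_cases h2 hm1 hnm hac B hB with ⟨-, h⟩ | ⟨-, h | h⟩
    · exact .inl (h₁.trans h.symm)
    · exact .inr (.inl (h₂.trans h.symm))
    · exact .inr (.inr (h₃.trans h.symm))
  · unfold Cfsg.PGSp; rw [Gram.gsp_eq]
    exact PSLn.centralizer_model hn2 B₁ h₁
  · unfold Cfsg.PGO
    rw [Gram.quadSim_eq h2 (FormDisc.polar_plus m) (Gram.plus_quad m)]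
    exact PSLn.centralizer_model hn2 B₂ h₂
  · unfold Cfsg.PGO
    rw [Gram.quadSim_eq h2 (FormDisc.polar_minus (m - 1) a c) (Gram.minus_quad (m - 1) a c)]
    exact PSLn.centralizer_model hn2 B₃ h₃

end Cfsg.Agent.S2700
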