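import Cfsg.Statements.S2701
import Cfsg.Agent.Lib.Small.PSLn.GraphClasses
-- import your own Cfsg.Agent.* helpers here

set_option autoImplicit false
open Cfsg

namespace Cfsg.Agent.S2701

open Cfsg.Agent.Small
open scoped Matrix

/-- Let T = PSL_n(F) over a finite field of characteristic 2 with n = 2m ≥ 4 even, and G = Inndiag(T) the image of PGL_n(F). The involutory graph automorphisms of T fall into exactly two G-classes, with representatives γ₁ and γ₃ whose centralizers in G are isomorphic respectively to the symplectic group Sp_n(F) and to the centralizer in Sp_n(F) of a symplectic transvection. -/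
theorem result {F : Type*} [Field F] [Fintype F] [CharP F 2] {n m : ℕ} (hm : 2 ≤ m) (hnm : n = 2 * m) :
    ∃ (γ₁ γ₃ : MulAut (Matrix.ProjectiveSpecialLinearGroup (Fin n) F)) (t : ↥(Matrix.symplecticGroup (Fin m) F)), Cfsg.IsTransvection (t : Matrix (Fin m ⊕ Fin m) (Fin m ⊕ Fin m) F) ∧ Cfsg.IsGraphAutClassPSL γ₁ ∧ orderOf γ₁ = 2 ∧ Cfsg.IsGraphAutClassPSL γ₃ ∧ orderOf γ₃ = 2 ∧ ¬ Cfsg.IsConjUnder (Cfsg.inndiagPSL n F) γ₁ γ₃ ∧ (∀ γ : MulAut (Matrix.ProjectiveSpecialLinearGroup (Fin n) F), Cfsg.IsGraphAutClassPSL γ → orderOf γ = 2 → Cfsg.IsConjUnder (Cfsg.inndiagPSL n F) γ₁ γ ∨ Cfsg.IsConjUnder (Cfsg.inndiagPSL n F) γ₃ γ) ∧ Nonempty (↥(Cfsg.inndiagPSL n F ⊓ Subgroup.centralizer {γ₁}) ≃* ↥(Matrix.symplecticGroup (Fin m) F)) ∧ Nonempty (↥(Cfsg.inndiagPSL n F ⊓ Subgroup.centralizer {γ₃}) ≃* ↥(Subgroup.centralizer ({t} : Set ↥(Matrix.symplecticGroup (Fin m) F)))) := by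
  have hn : 3 ≤ n := by omega
  have hn2 : 2 ≤ n := by omega
  haveI : NeZero m := ⟨by omega⟩
  haveI : Nonempty (Fin m ⊕ Fin m) := ⟨.inl 0⟩
  obtain ⟨B₁, h₁⟩ := PSLn.exists_unit_model (n := n) (by rw [Fintype.card_sum, Fintype.card_fin]; omega)
    (Matrix.isUnit_det_J (Fin m) F)
  obtain ⟨B₃, h₃⟩ := PSLn.exists_unit_model (n := n) (by rw [Fintype.card_sum, Fintype.card_fin]; omega)
    (Gram.Bp_det (F := F) (m := m))
  have hsym : ∀ {C : GL (Fin n) F}, C.valᵀ = -C.val → C.valᵀ = C.val := fun {C} h => by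
    rw [h]
    ext i j
    rw [Matrix.neg_apply, CharTwo.neg_eq]
  have s₁ : B₁.valᵀ = B₁.val := by
    have := h₁.symm.transpose_eq (ε := (1 : F)) (by rw [Gram.J_symm, one_smul])
    rwa [one_smul] at this
  have s₃ : B₃.valᵀ = B₃.val := by
    have := h₃.symm.transpose_eq (ε := (1 : F)) (by rw [Gram.Bp_symm, one_smul])
    rwa [one_smul] at this
  refine ⟨PSLn.gr B₁, PSLn.gr B₃, Gram.tv F m, Gram.tv_transvection, (PSLn.graph_iff hn _).2 ⟨_, rfl⟩,
    (PSLn.gr_order_iff hn _).2 (.inl s₁), (PSLn.graph_iff hn _).2 ⟨_, rfl⟩,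
    (PSLn.gr_order_iff hn _).2 (.inl s₃), ?_, ?_, ?_, ?_⟩
  · rw [PSLn.conjUnder_iff hn2]
    exact fun h => Gram.Bp_not_alt ((h₁.symm.trans (h.trans h₃)).alt_eq (Gram.J_alt m))
  · intro γ hγ hγ2
    obtain ⟨B, rfl, hB⟩ := PSLn.exists_gram hn hγ hγ2
    have hs : B.valᵀ = B.val := hB.elim id hsym
    simp only [PSLn.conjUnder_iff hn2]
    by_cases hal : ∀ v, v ⬝ᵥ B.val *ᵥ v = 0
    · exact .inl (h₁.trans (Gram.alt_model hal (PSLn.gl_det B) (by rw [Fintype.card_fin, hnm])).symm)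
    · exact .inr (h₃.trans (Gram.two_model hs (PSLn.gl_det B) Gram.Bp_symm Gram.Bp_det
        (by rw [Fintype.card_fin, Fintype.card_sum, Fintype.card_fin]; omega) (iff_of_false hal Gram.Bp_not_alt)).symm)
  · obtain ⟨a⟩ := PSLn.centralizer_model hn2 B₁ h₁
    obtain ⟨b⟩ := Gram.twoQuot (Matrix.isUnit_det_J (Fin m) F)
    obtain ⟨c⟩ := Gram.isoJ_equiv (F := F) m
    exact ⟨a.trans (b.symm.trans c)⟩
  · obtain ⟨a⟩ := PSLn.centralizer_model hn2 B₃ h₃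
    obtain ⟨b⟩ := Gram.twoQuot (Gram.Bp_det (F := F) (m := m))
    obtain ⟨c⟩ := Gram.isoBp_equiv (F := F) (m := m)
    exact ⟨a.trans (b.symm.trans c)⟩

end Cfsg.Agent.S2701
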