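import Cfsg.Statements.S2702
import Cfsg.Agent.Lib.Small.PSLn.GraphClasses
-- import your own Cfsg.Agent.* helpers here

set_option autoImplicit false
open Cfsg

namespace Cfsg.Agent.S2702

open Cfsg.Agent.Small
open scoped Matrix

/-- Let T = PSL_n(F) over the field with q = p^f elements, n ≥ 3, G = Inndiag(T) the image of PGL_n(F), and γ an involutory graph automorphism of T. The G-class of γ is the union of exactly c T-classes, where: if n is even and q is odd, c = gcd(n/2, q − 1) when C_G(γ) is isomorphic to the projective conformal symplectic group PGSp_n(F) (symplectic type) and c = gcd(n, q − 1)/2 otherwise; and c = gcd(n, q − 1) when n is odd or q is even. -/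
theorem result {F : Type*} [Field F] [Fintype F] {p f : ℕ} [Fact p.Prime] (hF : Fintype.card F = p ^ f) (hf : 1 ≤ f) {n : ℕ} (hn : 3 ≤ n) (γ : MulAut (Matrix.ProjectiveSpecialLinearGroup (Fin n) F)) (hγ : Cfsg.IsGraphAutClassPSL γ) (hγ2 : orderOf γ = 2) :
    ((Even n ∧ Odd p ∧ Nonempty (↥(Cfsg.inndiagPSL n F ⊓ Subgroup.centralizer {γ}) ≃* Cfsg.PGSp (n / 2) F)) → Cfsg.splitClassCount (Cfsg.inndiagPSL n F) (Cfsg.Inn (Matrix.ProjectiveSpecialLinearGroup (Fin n) F)) γ = Nat.gcd (n / 2) (p ^ f - 1)) ∧ ((Even n ∧ Odd p ∧ ¬ Nonempty (↥(Cfsg.inndiagPSL n F ⊓ Subgroup.centralizer {γ}) ≃* Cfsg.PGSp (n / 2) F)) → Cfsg.splitClassCount (Cfsg.inndiagPSL n F) (Cfsg.Inn (Matrix.ProjectiveSpecialLinearGroup (Fin n) F)) γ = Nat.gcd n (p ^ f - 1) / 2) ∧ (¬ (Even n ∧ Odd p) → Cfsg.splitClassCount (Cfsg.inndiagPSL n F) (Cfsg.Inn (Matrix.ProjectiveSpecialLinearGroup (Fin n) F)) γ = Nat.gcd n (p ^ f - 1)) := by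
  have hn2 : 2 ≤ n := by omega
  haveI : NeZero n := ⟨by omega⟩
  have hp := (Fact.out : p.Prime)
  haveI : CharP F p := charP_of_card_eq_prime_pow hF
  have hcu : Nat.card Fˣ = p ^ f - 1 := by rw [Nat.card_units, Nat.card_eq_fintype_card, hF]
  rw [← hcu]
  obtain ⟨B, rfl, hB⟩ := PSLn.exists_gram hn hγ hγ2
  have main : Even n → Odd p →
      ((Nonempty (↥(Cfsg.inndiagPSL n F ⊓ Subgroup.centralizer {PSLn.gr B}) ≃* Cfsg.PGSp (n / 2) F) →
        Cfsg.splitClassCount (Cfsg.inndiagPSL n F) (Cfsg.Inn (Matrix.ProjectiveSpecialLinearGroup (Fin n) F))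
          (PSLn.gr B) = Nat.gcd (n / 2) (Nat.card Fˣ)) ∧
      (¬ Nonempty (↥(Cfsg.inndiagPSL n F ⊓ Subgroup.centralizer {PSLn.gr B}) ≃* Cfsg.PGSp (n / 2) F) →
        Cfsg.splitClassCount (Cfsg.inndiagPSL n F) (Cfsg.Inn (Matrix.ProjectiveSpecialLinearGroup (Fin n) F))
          (PSLn.gr B) = Nat.gcd n (Nat.card Fˣ) / 2)) := by
    intro he hop
    have hodd : Odd (Fintype.card F) := by rw [hF]; exact hop.pow
    have h2 := FormDisc.two_ne rfl hodd (F := F)
    obtain ⟨m, hm⟩ := he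
    obtain rfl : n = 2 * m := by omega
    rw [Nat.mul_div_cancel_left m two_pos]
    have hm1 : 1 ≤ m := by omega
    obtain ⟨a, c, hac⟩ := QuadModels.exists_aniso (F := F)
    rcases PSLn.even_cases h2 hm1 rfl hac B hB with ⟨-, h⟩ | ⟨hs, h⟩
    · have hiso : Nonempty (↥(Cfsg.inndiagPSL (2 * m) F ⊓ Subgroup.centralizer {PSLn.gr B}) ≃* Cfsg.PGSp m F) := by
        unfold Cfsg.PGSp; rw [Gram.gsp_eq]
        exact PSLn.centralizer_model hn2 B h
      exact ⟨fun _ => PSLn.count_symp hn2 rfl B h, fun hne => absurd hiso hne⟩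
    · refine ⟨fun ⟨e⟩ => ?_, fun _ => PSLn.count_orth h2 hodd hn2 rfl B hs⟩
      exfalso
      rcases h with h | h
      · obtain ⟨a'⟩ := PSLn.centralizer_model hn2 B h
        exact Gram.card_orth_plus_ne hodd hm1 (Nat.card_congr (a'.symm.trans e).toEquiv)
      · obtain ⟨a'⟩ := PSLn.centralizer_model hn2 B h
        have e' := Gram.card_orth_minus_ne hodd (m - 1) hac
        rw [show m - 1 + 1 = m by omega] at e'
        exact e' (Nat.card_congr (a'.symm.trans e).toEquiv)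
  refine ⟨fun ⟨he, hop, h⟩ => (main he hop).1 h, fun ⟨he, hop, h⟩ => (main he hop).2 h, fun hc => ?_⟩
  refine PSLn.count_trivial hn2 B fun g hg => ?_
  obtain ⟨c, hc'⟩ := hg
  have hd := Gram.det_sq_of_sim (PSLn.gl_det B) hc'
  rw [Fintype.card_fin] at hd
  rcases Nat.even_or_odd n with he | ho
  · have hp2 : p = 2 := hp.even_iff.1 (Nat.not_odd_iff_even.1 fun hop => hc ⟨he, hop⟩)
    subst hp2
    obtain ⟨s, rfl⟩ := Gram.exists_sqrt c
    refine ⟨s, Units.ext (SymFormsTwo.sq_inj ?_)⟩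
    rw [hd, powMonoidHom_apply, Units.val_pow_eq_pow_val, Units.val_mul, ← pow_two, ← pow_mul, ← pow_mul,
      mul_comm n 2]
  · obtain ⟨k, rfl⟩ := ho
    obtain ⟨d, hdd⟩ : ∃ d : Fˣ, d = Matrix.GeneralLinearGroup.det g := ⟨_, rfl⟩
    rw [← hdd] at hd ⊢
    have hd' : d ^ 2 = c ^ (2 * k + 1) :=
      Units.ext (by rw [Units.val_pow_eq_pow_val, Units.val_pow_eq_pow_val]; exact hd)
    refine ⟨d / c ^ k, ?_⟩
    rw [powMonoidHom_apply, div_pow, pow_succ, pow_mul d 2 k, hd', ← pow_mul, ← pow_mul,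
      mul_comm (2 * k + 1) k, mul_div_assoc]
    simp

end Cfsg.Agent.S2702
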