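import Cfsg.Statements.S2703
import Cfsg.Agent.Lib.Small.PSLn.GraphClasses
-- import your own Cfsg.Agent.* helpers here

set_option autoImplicit false
open Cfsg

namespace Cfsg.Agent.S2703

open Cfsg.Agent.Small
open scoped Matrix

/-- Let T = PSL_n(F) over the field with q elements, q odd, n = 2m ≥ 4 even, and ι the inverse-transpose automorphism. Its centralizer in G = Inndiag(T) (the image of PGL_n(F)) is isomorphic to the projective conformal orthogonal group of the plus-type form Σ xᵢ yᵢ in dimension n when n(q − 1)/4 is even, and to that of a minus-type form (Σ xᵢ yᵢ + z₁² + a z₁ z₂ + b z₂² with anisotropic binary part) when n(q − 1)/4 is odd. -/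
theorem result {F : Type*} [Field F] [Fintype F] (hodd : Odd (Fintype.card F)) {n m : ℕ} (hm : 2 ≤ m) (hnm : n = 2 * m) (ι : MulAut (Matrix.ProjectiveSpecialLinearGroup (Fin n) F)) (hι : Cfsg.IsInverseTransposeAutPSL ι) :
    (Even (n * (Fintype.card F - 1) / 4) → Nonempty (↥(Cfsg.inndiagPSL n F ⊓ Subgroup.centralizer {ι}) ≃* Cfsg.PGO F (Cfsg.quadFormPlus m F))) ∧ (¬ Even (n * (Fintype.card F - 1) / 4) → ∃ a b : F, (∀ z₁ z₂ : F, z₁ ^ 2 + a * z₁ * z₂ + b * z₂ ^ 2 = 0 → z₁ = 0 ∧ z₂ = 0) ∧ Nonempty (↥(Cfsg.inndiagPSL n F ⊓ Subgroup.centralizer {ι}) ≃* Cfsg.PGO F (Cfsg.quadFormMinus (m - 1) F a b))) := by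
  have h2 := FormDisc.two_ne rfl hodd (F := F)
  have hn : 3 ≤ n := by omega
  have hn2 : 2 ≤ n := by omega
  have hm1 : 1 ≤ m := by omega
  obtain rfl : ι = PSLn.gr 1 := by rw [(PSLn.invT_iff ι).1 hι, PSLn.gr, map_one, one_mul]
  obtain ⟨a, c, hac⟩ := QuadModels.exists_aniso (F := F)
  have harith : n * (Fintype.card F - 1) / 4 = m * (Fintype.card F - 1) / 2 := by
    obtain ⟨t, ht⟩ := hodd
    rw [hnm, ht, Nat.add_sub_cancel, show 2 * m * (2 * t) = (m * t) * 4 by ring,
      show m * (2 * t) = (m * t) * 2 by ring, Nat.mul_div_cancel _ (by norm_num), Nat.mul_div_cancel _ two_pos]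
  rw [harith, ← FormDisc.isSquare_neg_one_pow rfl hodd m]
  have key := Gram.sym_even h2 (B := (1 : GL (Fin n) F).val) (by rw [Units.val_one, Matrix.transpose_one])
    (PSLn.gl_det 1) hm1 (by rw [Fintype.card_fin, hnm]) hac
  have hdet1 : (1 : GL (Fin n) F).val.det = 1 := by rw [Units.val_one, Matrix.det_one]
  refine ⟨fun hs => ?_, fun hs => ?_⟩
  · rcases key with h | h
    · unfold Cfsg.PGO
      rw [Gram.quadSim_eq h2 (FormDisc.polar_plus m) (Gram.plus_quad m)]
      exact PSLn.centralizer_model hn2 1 h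
    · exfalso
      obtain ⟨d, -, hd⟩ := h.disc (by rw [Fintype.card_fin, hnm])
        (by rw [Fintype.card_sum, Fintype.card_sum, Fintype.card_fin, Fintype.card_fin]; omega)
        (Gram.det_minus_unit h2 _ hac)
      obtain ⟨k, rfl⟩ : ∃ k, m = k + 1 := ⟨m - 1, by omega⟩
      rw [Nat.add_sub_cancel, FormDisc.det_Jminus, hdet1, mul_one] at hd
      obtain ⟨u, hu⟩ := hs
      have hu0 : u ≠ 0 := fun h0 => pow_ne_zero (k + 1) (neg_ne_zero.2 (one_ne_zero (α := F))) (by rw [hu, h0, mul_zero])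
      refine Gram.disc_nonsquare h2 hac ⟨d / u, ?_⟩
      field_simp
      linear_combination hd - (a * a - 4 * c) * hu
  · refine ⟨a, c, hac, ?_⟩
    rcases key with h | h
    · exfalso
      obtain ⟨d, -, hd⟩ := h.disc (by rw [Fintype.card_fin, hnm])
        (by rw [Fintype.card_sum, Fintype.card_fin]; ring) (Gram.det_plus_unit m)
      rw [FormDisc.det_Jplus, hdet1, mul_one] at hd
      exact hs ⟨d, hd⟩
    · unfold Cfsg.PGO
      rw [Gram.quadSim_eq h2 (FormDisc.polar_minus (m - 1) a c) (Gram.minus_quad (m - 1) a c)]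
      exact PSLn.centralizer_model hn2 1 h

end Cfsg.Agent.S2703
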