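import Cfsg.Statements.S2704
import Cfsg.Agent.Lib.Small.PSLn.Centralizers

set_option autoImplicit false
open Cfsg

namespace Cfsg.Agent.S2704

open Cfsg.Agent.Small.PSLn

/-- Let T = PSL_n(F) over the field F with p^f elements, n ≥ 3, and G = Inndiag(T) the image of PGL_n(F). If x is an involutory graph-field automorphism of T then f is even; x is G-conjugate to every other involutory graph-field automorphism; C_G(x) is isomorphic to the projective general unitary group PGU_n(q₀) with q₀² = p^f, realised over F itself through the Hermitian form Σ uᵢ vᵢ^{q₀}; and the G-class of x is the union of exactly gcd(n, q₀ − 1) T-classes. -/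
theorem result {F : Type*} [Field F] [Fintype F] {p f : ℕ} [Fact p.Prime] (hF : Fintype.card F = p ^ f) (hf : 1 ≤ f) {n : ℕ} (hn : 3 ≤ n) (x : MulAut (Matrix.ProjectiveSpecialLinearGroup (Fin n) F)) (hx : Cfsg.IsGraphFieldAutClassPSL x) (hx2 : orderOf x = 2) :
    Even f ∧ (∀ y : MulAut (Matrix.ProjectiveSpecialLinearGroup (Fin n) F), Cfsg.IsGraphFieldAutClassPSL y → orderOf y = 2 → Cfsg.IsConjUnder (Cfsg.inndiagPSL n F) x y) ∧ Nonempty (↥(Cfsg.inndiagPSL n F ⊓ Subgroup.centralizer {x}) ≃* Cfsg.PGU n F (p ^ (f / 2))) ∧ Cfsg.splitClassCount (Cfsg.inndiagPSL n F) (Cfsg.Inn (Matrix.ProjectiveSpecialLinearGroup (Fin n) F)) x = Nat.gcd n (p ^ (f / 2) - 1) := by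
  classical
  have : NeZero n := ⟨by omega⟩
  have hn2 : 2 ≤ n := by omega
  have std : ∀ y : MulAut (Matrix.ProjectiveSpecialLinearGroup (Fin n) F),
      Cfsg.IsGraphFieldAutClassPSL y → orderOf y = 2 →
      ∃ (α : MulAut (Matrix.ProjectiveSpecialLinearGroup (Fin n) F)) (σ : F ≃+* F),
        orderOf σ = 2 ∧ α * y * α⁻¹ = fieldP σ * itP := by
    rintro y ⟨-, α, φ, γ, σ, hσ, hφ, hγ, hye⟩ hy2
    have he : α * y * α⁻¹ = fieldP σ * itP := by
      rw [hye, (stdField_iff σ _).mp hφ, (invT_iff _).mp hγ]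
    refine ⟨α, σ, orderOf_eq_prime ?_ hσ, he⟩
    have hpow : (fieldP σ * itP : MulAut (Matrix.ProjectiveSpecialLinearGroup (Fin n) F)) ^ 2 = 1 := by
      rw [← he, ← MulAut.conj_apply, ← map_pow, ← hy2, pow_orderOf_eq_one, map_one]
    rw [(show Commute (fieldP σ) itP from (itP_fieldP σ).symm).mul_pow, pow_two itP, itP_sq, mul_one,
      ← map_pow] at hpow
    exact fieldP_injective hn2 (hpow.trans (map_one fieldP).symm)
  obtain ⟨α, σ, hord, hx0⟩ := std x hx hx2
  have hinv : ∀ z, σ (σ z) = z := fun z => by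
    have h1 : σ * σ = 1 := by rw [← pow_two, ← hord, pow_orderOf_eq_one]
    exact DFunLike.congr_fun h1 z
  have hne : σ ≠ RingEquiv.refl F := fun h => by
    have h1 : σ = 1 := h
    rw [h1, orderOf_one] at hord
    exact absurd hord (by norm_num)
  obtain ⟨q, hq⟩ := Cfsg.Agent.Classical.exists_isUSigma_of_involutive hinv hne
  obtain ⟨g', hg'⟩ := orderOf_dvd_f hF σ
  rw [hord] at hg'
  have hqe : q = p ^ (f / 2) := by
    apply Nat.pow_left_injective two_ne_zero
    change q ^ 2 = (p ^ (f / 2)) ^ 2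
    rw [← hq.card, hF, ← pow_mul, Nat.div_mul_cancel ⟨g', hg'⟩]
  subst hqe
  refine ⟨⟨g', by omega⟩, ?_, ?_, ?_⟩
  · intro y hy hy2
    obtain ⟨β, τ, hτ, hy0⟩ := std y hy hy2
    obtain ⟨e⟩ := fieldAut_equiv hF
    have : IsCyclic (Multiplicative (ZMod f)) := isCyclic_multiplicative
    have : NeZero f := ⟨by omega⟩
    have hcard : Nat.card (Multiplicative (ZMod f)) = f := by
      rw [Nat.card_congr Multiplicative.toAdd, Nat.card_zmod]
    have hk := card_pow_ker (A := Multiplicative (ZMod f)) (m := 2) (by rw [hcard]; exact ⟨g', hg'⟩)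
    have hτσ : τ = σ := by
      apply e.injective
      by_contra hne'
      let g : Fin 3 → ↥(powMonoidHom 2 : Multiplicative (ZMod f) →* Multiplicative (ZMod f)).ker :=
        ![1, ⟨e σ, by
            change e σ ^ 2 = 1
            rw [← map_pow, ← hord, pow_orderOf_eq_one, map_one]⟩, ⟨e τ, by
            change e τ ^ 2 = 1
            rw [← map_pow, ← hτ, pow_orderOf_eq_one, map_one]⟩]
      have h1 : e σ ≠ 1 := fun h => hne (e.map_eq_one_iff.mp h)
      have h2 : e τ ≠ 1 := fun h => by
        rw [e.map_eq_one_iff.mp h, orderOf_one] at hτ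
        exact absurd hτ (by norm_num)
      have hinj : Function.Injective g := by
        intro i j hij
        fin_cases i <;> fin_cases j <;>
          simp [g, Subtype.ext_iff, h1, h2, hne', Ne.symm h1, Ne.symm h2, Ne.symm hne'] at hij ⊢
      have := Nat.card_le_card_of_injective g hinj
      rw [hk, Nat.card_eq_fintype_card, Fintype.card_fin] at this
      omega
    subst hτσ
    have hN := inndiag_normal (n := n) (F := F) hn2
    obtain ⟨Θ, -, hker⟩ := exists_theta (n := n) (F := F) hn
    have hδ : y * x⁻¹ ∈ Cfsg.inndiagPSL n F := by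
      rw [inndiag_eq, ← hker, MonoidHom.mem_ker, map_mul, map_inv, mul_inv_eq_one]
      have h1 := congrArg Θ hx0
      have h2 := congrArg Θ hy0
      simp only [map_mul, map_inv] at h1 h2
      have hc : ∀ a b : (F ≃+* F) × Multiplicative (ZMod 2), a * b = b * a := fun a b =>
        Prod.ext (e.injective (by rw [Prod.fst_mul, Prod.fst_mul, map_mul, map_mul, mul_comm]))
          (mul_comm _ _)
      rw [hc (Θ α), mul_inv_cancel_right] at h1
      rw [hc (Θ β), mul_inv_cancel_right] at h2
      rw [h1, h2]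
    have := (coset_conj hn2 (x := x) (δ := y * x⁻¹) (Or.inr hx) Nat.prime_two hx2 hδ).mp
      (by rw [inv_mul_cancel_right]; exact hy2)
    rwa [inv_mul_cancel_right] at this
  · obtain ⟨⟨e⟩, -, -⟩ := graphField_centralizer (n := n) hq
    obtain ⟨c⟩ := centralizer_conj (n := n) (F := F) hn2 α x
    exact ⟨(c.trans (MulEquiv.subgroupCongr (by rw [hx0]))).trans e⟩
  · rw [← splitClassCount_conj (inndiag_normal (n := n) (F := F) hn2) inn_normal α x, hx0]
    exact graphField_count hn2 hq

end Cfsg.Agent.S2704
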