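import Cfsg.Statements.S2705
import Cfsg.Agent.Lib.Small.PSUn.FieldAut
import Cfsg.Agent.Lib.Classical.UnitaryForm

set_option autoImplicit false
open Cfsg

namespace Cfsg.Agent.S2705

/-- Let T = PSU_n(q) be simple (n ≥ 3, (n, q) ≠ (3, 2), q = p^f), realised over the field F with q² elements, G = Inndiag(T) the image of PGU_n(q) in Aut(T), and x a field automorphism of T (conjugate to a standard field automorphism of odd order) of odd prime order r. Then r divides f; C_G(x) is isomorphic to PGU_n(q₀) with q₀ = p^(f/r), realised over a field F₀ with q₀² elements; and the G-class of x is the union of exactly gcd(n, (q + 1)/(q₀ + 1)) T-classes. -/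
theorem result {F : Type*} [Field F] [Fintype F] {p f q : ℕ} [Fact p.Prime] (hq : q = p ^ f) (hf : 1 ≤ f) (hF : Fintype.card F = q ^ 2) {n : ℕ} (hn : 3 ≤ n) (hs : ¬ (n = 3 ∧ q = 2)) (x : MulAut (Cfsg.PSU n F q)) (hx : Cfsg.IsFieldAutClassPSU x) {r : ℕ} (hr : r.Prime) (hro : Odd r) (hxr : orderOf x = r) (F₀ : Type*) [Field F₀] [Fintype F₀] (hF₀ : Fintype.card F₀ = p ^ (2 * (f / r))) :
    r ∣ f ∧ Nonempty (↥(Cfsg.inndiagPSU n F q ⊓ Subgroup.centralizer {x}) ≃* Cfsg.PGU n F₀ (p ^ (f / r))) ∧ Cfsg.splitClassCount (Cfsg.inndiagPSU n F q) (Cfsg.Inn (Cfsg.PSU n F q)) x = Nat.gcd n ((q + 1) / (p ^ (f / r) + 1)) := by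
  classical
  obtain ⟨p', e', τ, -, -, -, -, hτ⟩ := Cfsg.Agent.Classical.exists_usigma hF
  letI : StarRing F := Cfsg.Agent.Small.Hermitian.starRingOfInvolution (τ : F →+* F) hτ.involutive
  have hstar : ∀ x : F, star x = x ^ q := fun x => hτ.apply_eq x
  obtain ⟨α, σ, hodd, hord, hxe⟩ := Cfsg.Agent.Small.PSUn.class_data hstar hF hn hx
  have hN := Cfsg.Agent.Small.PSUn.inndiag_normal hstar hF hn hs
  have hσr : orderOf σ = r := hord ▸ hxr
  have hF2 : Fintype.card F = p ^ (2 * f) := by rw [hF, hq, ← pow_mul, mul_comm]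
  obtain ⟨hdvd, hemb⟩ := Cfsg.Agent.Small.PSUn.exists_sub (F₀ := F₀) hF2 σ hodd
  rw [hσr] at hdvd hemb
  obtain ⟨ι, hι⟩ := hemb hF₀
  have hF₀' : Fintype.card F₀ = (p ^ (f / r)) ^ 2 := by rw [hF₀, ← pow_mul, mul_comm]
  obtain ⟨p₀, e₀, τ₀, -, -, -, -, hτ₀⟩ := Cfsg.Agent.Classical.exists_usigma hF₀'
  letI : StarRing F₀ :=
    Cfsg.Agent.Small.Hermitian.starRingOfInvolution (τ₀ : F₀ →+* F₀) hτ₀.involutive
  have hstar₀ : ∀ x : F₀, star x = x ^ (p ^ (f / r)) := fun x => hτ₀.apply_eq x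
  have hqq : q = (p ^ (f / r)) ^ r := by rw [← pow_mul, Nat.div_mul_cancel hdvd, hq]
  have hcomp := Cfsg.Agent.Small.PSUn.comp_star hstar hstar₀ hF₀' (hσr ▸ hodd) hqq ι
  obtain ⟨⟨E⟩, hcount⟩ :=
    Cfsg.Agent.Small.PSUn.field_count hstar hF hn hstar₀ hF₀' σ hodd ι hι hcomp
  obtain ⟨c⟩ := Cfsg.Agent.Small.PSUn.centralizer_transport hN α x
  refine ⟨hdvd, ⟨(c.trans (MulEquiv.subgroupCongr (by rw [hxe]))).trans E⟩, ?_⟩
  rw [← Cfsg.Agent.Small.PSLn.splitClassCount_conj hN Cfsg.Agent.Small.PSUn.inn_normal α x, hxe]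
  exact hcount

end Cfsg.Agent.S2705
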