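import Cfsg.Statements.S2707
import Cfsg.Agent.Lib.Small.PSUn.GraphClasses
-- import your own Cfsg.Agent.* helpers here

set_option autoImplicit false
open Cfsg

namespace Cfsg.Agent.S2707

open Cfsg.Agent.Small
open scoped Matrix

/-- Let T = PSU_n(q) with n = 2m ≥ 4 even and q odd, realised over the field F with q² elements, and G = Inndiag(T) the image of PGU_n(q). The involutory graph automorphisms of T fall into exactly three G-classes, with representatives whose centralizers in G are isomorphic respectively to the projective conformal symplectic group PGSp_n(F₀), the projective conformal orthogonal group of the plus-type form Σ xᵢ yᵢ, and that of a minus-type form Σ xᵢ yᵢ + z₁² + a z₁ z₂ + b z₂² (anisotropic binary part) in dimension n, all over a field F₀ with q elements. -/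
theorem result {F : Type*} [Field F] [Fintype F] {q : ℕ} (hodd : Odd q) (hF : Fintype.card F = q ^ 2) {n m : ℕ} (hm : 2 ≤ m) (hnm : n = 2 * m) (F₀ : Type*) [Field F₀] [Fintype F₀] (hF₀ : Fintype.card F₀ = q) :
    ∃ (γ₁ γ₂ γ₃ : MulAut (Cfsg.PSU n F q)) (a b : F₀), (∀ z₁ z₂ : F₀, z₁ ^ 2 + a * z₁ * z₂ + b * z₂ ^ 2 = 0 → z₁ = 0 ∧ z₂ = 0) ∧ Cfsg.IsGraphAutClassPSU γ₁ ∧ orderOf γ₁ = 2 ∧ Cfsg.IsGraphAutClassPSU γ₂ ∧ orderOf γ₂ = 2 ∧ Cfsg.IsGraphAutClassPSU γ₃ ∧ orderOf γ₃ = 2 ∧ ¬ Cfsg.IsConjUnder (Cfsg.inndiagPSU n F q) γ₁ γ₂ ∧ ¬ Cfsg.IsConjUnder (Cfsg.inndiagPSU n F q) γ₁ γ₃ ∧ ¬ Cfsg.IsConjUnder (Cfsg.inndiagPSU n F q) γ₂ γ₃ ∧ (∀ γ : MulAut (Cfsg.PSU n F q), Cfsg.IsGraphAutClassPSU γ → orderOf γ = 2 → Cfsg.IsConjUnder (Cfsg.inndiagPSU n F q) γ₁ γ ∨ Cfsg.IsConjUnder (Cfsg.inndiagPSU n F q) γ₂ γ ∨ Cfsg.IsConjUnder (Cfsg.inndiagPSU n F q) γ₃ γ) ∧ Nonempty (↥(Cfsg.inndiagPSU n F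 q ⊓ Subgroup.centralizer {γ₁}) ≃* Cfsg.PGSp m F₀) ∧ Nonempty (↥(Cfsg.inndiagPSU n F q ⊓ Subgroup.centralizer {γ₂}) ≃* Cfsg.PGO F₀ (Cfsg.quadFormPlus m F₀)) ∧ Nonempty (↥(Cfsg.inndiagPSU n F q ⊓ Subgroup.centralizer {γ₃}) ≃* Cfsg.PGO F₀ (Cfsg.quadFormMinus (m - 1) F₀ a b)) := by
  classical
  obtain ⟨_, _, τ, -, -, -, -, hτ⟩ := Cfsg.Agent.Classical.exists_usigma hF
  letI : StarRing F := Hermitian.starRingOfInvolution (τ : F →+* F) hτ.involutive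
  have hstar : ∀ x : F, star x = x ^ q := fun x => hτ.apply_eq x
  obtain ⟨j, hj⟩ := PSUn.exists_incl hstar hF hF₀
  have hn : 3 ≤ n := by omega
  have hm1 : 1 ≤ m := by omega
  haveI : Nonempty (Fin n) := ⟨⟨0, by omega⟩⟩
  have h2 := FormDisc.two_ne hF₀ hodd (F := F₀)
  obtain ⟨a, c, hac⟩ := QuadModels.exists_aniso (F := F₀)
  obtain ⟨B₁, o₁, d₁⟩ := PSUn.exists_B hstar hF j hj hn (Matrix.isUnit_det_J (Fin m) F₀)
    (by rw [Fintype.card_sum, Fintype.card_fin]; omega) (.inr (Matrix.J_transpose _ _))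
  obtain ⟨B₂, o₂, d₂⟩ := PSUn.exists_B hstar hF j hj hn (Gram.det_plus_unit (F := F₀) m)
    (by rw [Fintype.card_sum, Fintype.card_fin]; omega) (.inl (PSLn.Jplus_symm m))
  obtain ⟨B₃, o₃, d₃⟩ := PSUn.exists_B hstar hF j hj hn (Gram.det_minus_unit h2 (m - 1) hac)
    (by rw [Fintype.card_sum, Fintype.card_sum, Fintype.card_fin, Fintype.card_fin]; omega)
    (.inl (PSLn.Jminus_symm (m - 1) a c))
  refine ⟨PSUn.gr B₁, PSUn.gr B₂, PSUn.gr B₃, a, c, hac, PSUn.graph_of_gr hstar hF hn B₁, o₁,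
    PSUn.graph_of_gr hstar hF hn B₂, o₂, PSUn.graph_of_gr hstar hF hn B₃, o₃, ?_, ?_, ?_, ?_, ?_, ?_, ?_⟩
  · rw [PSUn.conjUnder_iff hstar hF j hj hn d₁ d₂]
    exact fun h => PSLn.not_model_J h2 hm1 (PSLn.Jplus_symm m) h.symm
  · rw [PSUn.conjUnder_iff hstar hF j hj hn d₁ d₃]
    exact fun h => PSLn.not_model_J h2 hm1 (PSLn.Jminus_symm (m - 1) a c) h.symm
  · rw [PSUn.conjUnder_iff hstar hF j hj hn d₂ d₃]
    exact PSLn.not_model_plus_minus h2 hm1 hac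
  · intro γ hγ hγ2
    obtain ⟨B, rfl, hB⟩ := PSUn.exists_gram hstar hF hn hγ hγ2
    obtain ⟨G, hG⟩ := PSUn.exists_desc hstar hF j hj hn B hB
    rcases PSUn.even_model h2 hm1 (by rw [Fintype.card_fin, hnm]) hac hG.isUnit (PSUn.desc_sym j hj hG hB) with
      ⟨-, h⟩ | ⟨-, h | h⟩
    · exact .inl ((PSUn.conjUnder_iff hstar hF j hj hn d₁ hG).2 h.symm)
    · exact .inr (.inl ((PSUn.conjUnder_iff hstar hF j hj hn d₂ hG).2 h.symm))
    · exact .inr (.inr ((PSUn.conjUnder_iff hstar hF j hj hn d₃ hG).2 h.symm))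
  · unfold Cfsg.PGSp
    rw [Gram.gsp_eq]
    exact PSUn.centralizer_desc hstar hF hn j hj d₁
  · unfold Cfsg.PGO
    rw [Gram.quadSim_eq h2 (FormDisc.polar_plus m) (Gram.plus_quad m)]
    exact PSUn.centralizer_desc hstar hF hn j hj d₂
  · unfold Cfsg.PGO
    rw [Gram.quadSim_eq h2 (FormDisc.polar_minus (m - 1) a c) (Gram.minus_quad (m - 1) a c)]
    exact PSUn.centralizer_desc hstar hF hn j hj d₃

end Cfsg.Agent.S2707
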