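import Cfsg.Statements.S2708
import Cfsg.Agent.Lib.Small.PSUn.GraphClasses
-- import your own Cfsg.Agent.* helpers here

set_option autoImplicit false
open Cfsg

namespace Cfsg.Agent.S2708

open Cfsg.Agent.Small
open scoped Matrix

/-- Let T = PSU_n(q) with n = 2m ≥ 4 even and q even, realised over the field F (of characteristic 2) with q² elements, and G = Inndiag(T) the image of PGU_n(q). The involutory graph automorphisms of T fall into exactly two G-classes, with representatives whose centralizers in G are isomorphic respectively to the symplectic group Sp_n(F₀) and to the centralizer in Sp_n(F₀) of a symplectic transvection, F₀ a field with q elements. -/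
theorem result {F : Type*} [Field F] [Fintype F] [CharP F 2] {q : ℕ} (hF : Fintype.card F = q ^ 2) {n m : ℕ} (hm : 2 ≤ m) (hnm : n = 2 * m) (F₀ : Type*) [Field F₀] [Fintype F₀] (hF₀ : Fintype.card F₀ = q) :
    ∃ (γ₁ γ₃ : MulAut (Cfsg.PSU n F q)) (t : ↥(Matrix.symplecticGroup (Fin m) F₀)), Cfsg.IsTransvection (t : Matrix (Fin m ⊕ Fin m) (Fin m ⊕ Fin m) F₀) ∧ Cfsg.IsGraphAutClassPSU γ₁ ∧ orderOf γ₁ = 2 ∧ Cfsg.IsGraphAutClassPSU γ₃ ∧ orderOf γ₃ = 2 ∧ ¬ Cfsg.IsConjUnder (Cfsg.inndiagPSU n F q) γ₁ γ₃ ∧ (∀ γ : MulAut (Cfsg.PSU n F q), Cfsg.IsGraphAutClassPSU γ → orderOf γ = 2 → Cfsg.IsConjUnder (Cfsg.inndiagPSU n F q) γ₁ γ ∨ Cfsg.IsConjUnder (Cfsg.inndiagPSU n F q) γ₃ γ) ∧ Nonempty (↥(Cfsg.inndiagPSU n F q ⊓ Subgroup.centralizer {γ₁}) ≃* ↥(Matrix.symplecticGroup (Fin m) F₀)) ∧ Nonempty (↥(Cfsg.inndiagPSU n F q ⊓ Subgroup.centralizer {γ₃}) ≃* ↥(Subgroup.centralizer ({t} : Set ↥(Matrix.symplecticGroup (Fin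 m) F₀)))) := by
  classical
  obtain ⟨_, _, τ, -, -, -, -, hτ⟩ := Cfsg.Agent.Classical.exists_usigma hF
  letI : StarRing F := Hermitian.starRingOfInvolution (τ : F →+* F) hτ.involutive
  have hstar : ∀ x : F, star x = x ^ q := fun x => hτ.apply_eq x
  obtain ⟨j, hj⟩ := PSUn.exists_incl hstar hF hF₀
  have hn : 3 ≤ n := by omega
  haveI : NeZero m := ⟨by omega⟩
  haveI : Nonempty (Fin m ⊕ Fin m) := ⟨.inl 0⟩
  haveI : Nonempty (Fin n) := ⟨⟨0, by omega⟩⟩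
  haveI : CharP F₀ 2 := CharTwo.of_one_ne_zero_of_two_eq_zero one_ne_zero
    (j.injective (by rw [map_zero, map_ofNat, CharTwo.two_eq_zero]))
  obtain ⟨B₁, o₁, d₁⟩ := PSUn.exists_B hstar hF j hj hn (Matrix.isUnit_det_J (Fin m) F₀)
    (by rw [Fintype.card_sum, Fintype.card_fin]; omega) (.inr (Matrix.J_transpose _ _))
  obtain ⟨B₃, o₃, d₃⟩ := PSUn.exists_B hstar hF j hj hn (Gram.Bp_det (F := F₀) (m := m))
    (by rw [Fintype.card_sum, Fintype.card_fin]; omega) (.inl Gram.Bp_symm)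
  refine ⟨PSUn.gr B₁, PSUn.gr B₃, Gram.tv F₀ m, Gram.tv_transvection, PSUn.graph_of_gr hstar hF hn B₁, o₁,
    PSUn.graph_of_gr hstar hF hn B₃, o₃, ?_, ?_, ?_, ?_⟩
  · rw [PSUn.conjUnder_iff hstar hF j hj hn d₁ d₃]
    exact fun h => Gram.Bp_not_alt (h.alt_eq (Gram.J_alt m))
  · intro γ hγ hγ2
    obtain ⟨B, rfl, hB⟩ := PSUn.exists_gram hstar hF hn hγ hγ2
    obtain ⟨G, hG⟩ := PSUn.exists_desc hstar hF j hj hn B hB
    have hs : Gᵀ = G := (PSUn.desc_sym j hj hG hB).elim id fun h => h.trans PSUn.neg_of_two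
    by_cases hal : ∀ v, v ⬝ᵥ G *ᵥ v = 0
    · exact .inl ((PSUn.conjUnder_iff hstar hF j hj hn d₁ hG).2
        (Gram.alt_model hal hG.isUnit (by rw [Fintype.card_fin, hnm])).symm)
    · exact .inr ((PSUn.conjUnder_iff hstar hF j hj hn d₃ hG).2
        (Gram.two_model hs hG.isUnit Gram.Bp_symm Gram.Bp_det
          (by rw [Fintype.card_fin, Fintype.card_sum, Fintype.card_fin]; omega)
          (iff_of_false hal Gram.Bp_not_alt)).symm)
  · obtain ⟨a⟩ := PSUn.centralizer_desc hstar hF hn j hj d₁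
    obtain ⟨b⟩ := Gram.twoQuot (Matrix.isUnit_det_J (Fin m) F₀)
    obtain ⟨c⟩ := Gram.isoJ_equiv (F := F₀) m
    exact ⟨a.trans (b.symm.trans c)⟩
  · obtain ⟨a⟩ := PSUn.centralizer_desc hstar hF hn j hj d₃
    obtain ⟨b⟩ := Gram.twoQuot (Gram.Bp_det (F := F₀) (m := m))
    obtain ⟨c⟩ := Gram.isoBp_equiv (F := F₀) (m := m)
    exact ⟨a.trans (b.symm.trans c)⟩

end Cfsg.Agent.S2708
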