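import Cfsg.Statements.S2709
import Cfsg.Agent.Lib.Small.PSUn.GraphClasses
-- import your own Cfsg.Agent.* helpers here

set_option autoImplicit false
open Cfsg

namespace Cfsg.Agent.S2709

open Cfsg.Agent.Small
open scoped Matrix

/-- Let T = PSU_n(q) be simple (n ≥ 3, (n,q) ≠ (3,2), q = p^f), realised over the field F with q² elements, G = Inndiag(T) the image of PGU_n(q), and γ an involutory graph automorphism of T. The G-class of γ is the union of exactly c T-classes, where: if n is even and q is odd, c = gcd(n/2, q + 1) when C_G(γ) is isomorphic to PGSp_n(F₀) for a field F₀ with q elements (symplectic type) and c = gcd(n, q + 1)/2 otherwise; and c = gcd(n, q + 1) when n is odd or q is even. -/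
theorem result {F : Type*} [Field F] [Fintype F] {p f q : ℕ} [Fact p.Prime] (hq : q = p ^ f) (hf : 1 ≤ f) (hF : Fintype.card F = q ^ 2) {n : ℕ} (hn : 3 ≤ n) (hs : ¬ (n = 3 ∧ q = 2)) (F₀ : Type*) [Field F₀] [Fintype F₀] (hF₀ : Fintype.card F₀ = q) (γ : MulAut (Cfsg.PSU n F q)) (hγ : Cfsg.IsGraphAutClassPSU γ) (hγ2 : orderOf γ = 2) :
    ((Even n ∧ Odd q ∧ Nonempty (↥(Cfsg.inndiagPSU n F q ⊓ Subgroup.centralizer {γ}) ≃* Cfsg.PGSp (n / 2) F₀)) → Cfsg.splitClassCount (Cfsg.inndiagPSU n F q) (Cfsg.Inn (Cfsg.PSU n F q)) γ = Nat.gcd (n / 2) (q + 1)) ∧ ((Even n ∧ Odd q ∧ ¬ Nonempty (↥(Cfsg.inndiagPSU n F q ⊓ Subgroup.centralizer {γ}) ≃* Cfsg.PGSp (n / 2) F₀)) → Cfsg.splitClassCount (Cfsg.inndiagPSU n F q) (Cfsg.Inn (Cfsg.PSU n F q)) γ = Nat.gcd n (q + 1) / 2) ∧ (¬ (Even n ∧ Odd q) → Cfsg.splitClassCount (Cfsg.inndiagPSU n F q) (Cfsg.Inn (Cfsg.PSU n F q)) γ = Nat.gcd n (q + 1)) := by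
  classical
  obtain ⟨_, _, τ, -, -, -, -, hτ⟩ := Cfsg.Agent.Classical.exists_usigma hF
  letI : StarRing F := Hermitian.starRingOfInvolution (τ : F →+* F) hτ.involutive
  have hstar : ∀ x : F, star x = x ^ q := fun x => hτ.apply_eq x
  obtain ⟨j, hj⟩ := PSUn.exists_incl hstar hF hF₀
  haveI : Nonempty (Fin n) := ⟨⟨0, by omega⟩⟩
  obtain ⟨B, rfl, hB⟩ := PSUn.exists_gram hstar hF hn hγ hγ2
  obtain ⟨G, hG⟩ := PSUn.exists_desc hstar hF j hj hn B hB
  have main : Even n → Odd q →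
      ((Nonempty (↥(Cfsg.inndiagPSU n F q ⊓ Subgroup.centralizer {PSUn.gr B}) ≃* Cfsg.PGSp (n / 2) F₀) →
        Cfsg.splitClassCount (Cfsg.inndiagPSU n F q) (Cfsg.Inn (Cfsg.PSU n F q)) (PSUn.gr B) =
          Nat.gcd (n / 2) (q + 1)) ∧
      (¬ Nonempty (↥(Cfsg.inndiagPSU n F q ⊓ Subgroup.centralizer {PSUn.gr B}) ≃* Cfsg.PGSp (n / 2) F₀) →
        Cfsg.splitClassCount (Cfsg.inndiagPSU n F q) (Cfsg.Inn (Cfsg.PSU n F q)) (PSUn.gr B) =
          Nat.gcd n (q + 1) / 2)) := by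
    intro he hodd
    have hodd' : Odd (Fintype.card F₀) := by rw [hF₀]; exact hodd
    have h2 := FormDisc.two_ne rfl hodd' (F := F₀)
    obtain ⟨m, hm⟩ := he
    obtain rfl : n = 2 * m := by omega
    rw [Nat.mul_div_cancel_left m two_pos]
    have hm1 : 1 ≤ m := by omega
    obtain ⟨a, c, hac⟩ := QuadModels.exists_aniso (F := F₀)
    rcases PSUn.even_model h2 hm1 (Fintype.card_fin _) hac hG.isUnit (PSUn.desc_sym j hj hG hB) with
      ⟨-, h⟩ | ⟨hsym, h⟩
    · have hiso : Nonempty (↥(Cfsg.inndiagPSU (2 * m) F q ⊓ Subgroup.centralizer {PSUn.gr B}) ≃*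
          Cfsg.PGSp m F₀) := by
        unfold Cfsg.PGSp
        rw [Gram.gsp_eq]
        exact PSUn.centralizer_model hstar hF hn j hj hG h
      exact ⟨fun _ => PSUn.count_symp hstar hF hn j hj rfl hG h, fun hne => absurd hiso hne⟩
    · refine ⟨fun ⟨e⟩ => ?_, fun _ => PSUn.count_orth hstar hF hn j hj h2 hm1 rfl (Fintype.card_fin _) hG hsym⟩
      exfalso
      rcases h with h | h
      · obtain ⟨a'⟩ := PSUn.centralizer_model hstar hF hn j hj hG h
        exact Gram.card_orth_plus_ne hodd' hm1 (Nat.card_congr (a'.symm.trans e).toEquiv)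
      · obtain ⟨a'⟩ := PSUn.centralizer_model hstar hF hn j hj hG h
        have e' := Gram.card_orth_minus_ne hodd' (m - 1) hac
        rw [show m - 1 + 1 = m by omega] at e'
        exact e' (Nat.card_congr (a'.symm.trans e).toEquiv)
  refine ⟨fun ⟨he, hop, h⟩ => (main he hop).1 h, fun ⟨he, hop, h⟩ => (main he hop).2 h, fun hc => ?_⟩
  refine PSUn.count_triv hstar hF hn j hj hG (Fintype.card_fin n) ?_
  rcases Nat.even_or_odd n with he | ho
  · refine .inr ?_
    have hq2 : 2 ∣ Fintype.card F₀ := by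
      rw [hF₀]
      exact (Nat.not_odd_iff_even.1 fun hodd => hc ⟨he, hodd⟩).two_dvd
    exact CharTwo.of_one_ne_zero_of_two_eq_zero one_ne_zero
      (not_not.1 fun h => SL2C.not_two_dvd_iff.2 h hq2)
  · exact .inl ho

end Cfsg.Agent.S2709
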