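import Cfsg.Statements.S2710
import Cfsg.Agent.Lib.Small.PSUn.GraphClasses
-- import your own Cfsg.Agent.* helpers here

set_option autoImplicit false
open Cfsg

namespace Cfsg.Agent.S2710

open Cfsg.Agent.Small
open scoped Matrix

/-- Let T = PSU_n(q) with n ≥ 4 divisible by 4 (n = 2m) and q odd, realised over the field F with q² elements, G = Inndiag(T) the image of PGU_n(q), and φ the standard field automorphism of T attached to the q-th power map of F (it induces inverse-transpose on the unitary matrices and is a graph automorphism). Its centralizer in G is isomorphic to the projective conformal orthogonal group of the plus-type form Σ xᵢ yᵢ in dimension n over a field F₀ with q elements. (Dimensions n ≡ 2 (mod 4) are not covered.) -/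
theorem result {F : Type*} [Field F] [Fintype F] {q : ℕ} (hodd : Odd q) (hF : Fintype.card F = q ^ 2) {n m : ℕ} (hm : 2 ≤ m) (hnm : n = 2 * m) (h4 : 4 ∣ n) (F₀ : Type*) [Field F₀] [Fintype F₀] (hF₀ : Fintype.card F₀ = q) (σ : F ≃+* F) (hσ : ∀ a : F, σ a = a ^ q) (φ : MulAut (Cfsg.PSU n F q)) (hφ : Cfsg.IsFieldAutPSUOf σ φ) :
    Nonempty (↥(Cfsg.inndiagPSU n F q ⊓ Subgroup.centralizer {φ}) ≃* Cfsg.PGO F₀ (Cfsg.quadFormPlus m F₀)) := by
  classical
  obtain ⟨_, _, τ, -, -, -, -, hτ⟩ := Cfsg.Agent.Classical.exists_usigma hF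
  letI : StarRing F := Hermitian.starRingOfInvolution (τ : F →+* F) hτ.involutive
  have hstar : ∀ x : F, star x = x ^ q := fun x => hτ.apply_eq x
  obtain ⟨j, hj⟩ := PSUn.exists_incl hstar hF hF₀
  have hn : 3 ≤ n := by omega
  have hm1 : 1 ≤ m := by omega
  have h2 := FormDisc.two_ne hF₀ hodd (F := F₀)
  obtain rfl := PSUn.field_gram hstar hF hn σ hσ hφ
  have hd : PSUn.Desc j ((1 : ↥(Cfsg.GU n F q)) : GL (Fin n) F).val (1 : Matrix (Fin n) (Fin n) F₀) :=
    ⟨1, 1, 1, 1, Matrix.one_mul 1, Matrix.one_mul 1, by simp [PSUn.cj_one], by simp [Matrix.map_one]⟩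
  obtain ⟨a, c, hac⟩ := QuadModels.exists_aniso (F := F₀)
  unfold Cfsg.PGO
  rw [Gram.quadSim_eq h2 (FormDisc.polar_plus m) (Gram.plus_quad m)]
  rcases Gram.sym_even h2 (Matrix.transpose_one (α := F₀) (n := Fin n)) hd.isUnit hm1
    (by rw [Fintype.card_fin, hnm]) hac with h | h
  · exact PSUn.centralizer_model hstar hF hn j hj hd h
  · exfalso
    obtain ⟨d, -, hdd⟩ := h.disc (by rw [Fintype.card_fin, hnm])
      (by rw [Fintype.card_sum, Fintype.card_sum, Fintype.card_fin, Fintype.card_fin]; omega)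
      (Gram.det_minus_unit h2 _ hac)
    have hme : Even m := by
      obtain ⟨k, hk⟩ := h4
      exact ⟨k, by omega⟩
    have hodd1 : Odd (m - 1) := Nat.Even.sub_odd hm1 hme odd_one
    rw [FormDisc.det_Jminus, Matrix.det_one, mul_one, hodd1.neg_one_pow] at hdd
    exact Gram.disc_nonsquare h2 hac ⟨d, by linear_combination hdd⟩

end Cfsg.Agent.S2710
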