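import Cfsg.Statements.S2711
import Cfsg.Agent.Lib.Small.PSUn.FieldAut
import Cfsg.Agent.Lib.Classical.UnitaryForm

set_option autoImplicit false
open Cfsg

namespace Cfsg.Agent.S2711

/-- Let T = PSU_n(q) be simple (n ≥ 3, (n,q) ≠ (3,2)), realised over the field F with q² elements, and let x be a field automorphism of T (conjugate to a standard field automorphism of odd order) of prime order r. Then an element y of the coset Inndiag(T)·x (y = δ x with δ in the image of PGU_n(q)) has order r if and only if y is conjugate to x by an element of Inndiag(T). (T has no graph-field automorphisms.) -/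
theorem result {F : Type*} [Field F] [Fintype F] {p f q : ℕ} [Fact p.Prime] (hq : q = p ^ f) (hf : 1 ≤ f) (hF : Fintype.card F = q ^ 2) {n : ℕ} (hn : 3 ≤ n) (hs : ¬ (n = 3 ∧ q = 2)) (x δ : MulAut (Cfsg.PSU n F q)) (hx : Cfsg.IsFieldAutClassPSU x) {r : ℕ} (hr : r.Prime) (hxr : orderOf x = r) (hδ : δ ∈ Cfsg.inndiagPSU n F q) :
    orderOf (δ * x) = r ↔ Cfsg.IsConjUnder (Cfsg.inndiagPSU n F q) x (δ * x) := by
  classical
  obtain ⟨p', e', τ, -, -, -, -, hτ⟩ := Cfsg.Agent.Classical.exists_usigma hF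
  letI : StarRing F := Cfsg.Agent.Small.Hermitian.starRingOfInvolution (τ : F →+* F) hτ.involutive
  have hstar : ∀ x : F, star x = x ^ q := fun x => hτ.apply_eq x
  obtain ⟨α, σ, hodd, hord, hxe⟩ := Cfsg.Agent.Small.PSUn.class_data hstar hF hn hx
  have hN := Cfsg.Agent.Small.PSUn.inndiag_normal hstar hF hn hs
  have hσr : orderOf σ = r := hord ▸ hxr
  have hF2 : Fintype.card F = p ^ (2 * f) := by rw [hF, hq, ← pow_mul, mul_comm]
  constructor
  swap
  · rintro ⟨h, -, he⟩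
    rw [he, ← MulAut.conj_apply, ← hxr]
    exact MulEquiv.orderOf_eq _ x
  intro hy
  let F₀ := GaloisField p (2 * (f / r))
  haveI : Fintype F₀ := Fintype.ofFinite _
  obtain ⟨hdvd', -⟩ := Cfsg.Agent.Small.PSUn.exists_sub (F₀ := F₀) hF2 σ hodd
  have hF₀ : Fintype.card F₀ = p ^ (2 * (f / r)) := by
    rw [← Nat.card_eq_fintype_card, GaloisField.card]
    have : 0 < f / r := Nat.div_pos (Nat.le_of_dvd hf (hσr ▸ hdvd')) hr.pos
    omega
  obtain ⟨hdvd, hemb⟩ := Cfsg.Agent.Small.PSUn.exists_sub (F₀ := F₀) hF2 σ hodd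
  rw [hσr] at hdvd hemb
  obtain ⟨ι, hι⟩ := hemb hF₀
  have hF₀' : Fintype.card F₀ = (p ^ (f / r)) ^ 2 := by rw [hF₀, ← pow_mul, mul_comm]
  obtain ⟨p₀, e₀, τ₀, -, -, -, -, hτ₀⟩ := Cfsg.Agent.Classical.exists_usigma hF₀'
  letI : StarRing F₀ :=
    Cfsg.Agent.Small.Hermitian.starRingOfInvolution (τ₀ : F₀ →+* F₀) hτ₀.involutive
  have hstar₀ : ∀ x : F₀, star x = x ^ (p ^ (f / r)) := fun x => hτ₀.apply_eq x
  have hqq : q = (p ^ (f / r)) ^ r := by rw [← pow_mul, Nat.div_mul_cancel hdvd, hq]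
  have hcomp := Cfsg.Agent.Small.PSUn.comp_star hstar hstar₀ hF₀' (hσr ▸ hodd) hqq ι
  rw [← Cfsg.Agent.Small.PSUn.isConjUnder_field hN α, hxe]
  obtain ⟨g, hg⟩ : α * δ * α⁻¹ ∈ (Cfsg.Agent.Small.PSUn.cU (n := n) (F := F) (q := q)).range :=
    Cfsg.Agent.Small.PSUn.inndiag_eq (n := n) (F := F) (q := q) ▸ hN.conj_mem δ hδ α
  have hy' : α * (δ * x) * α⁻¹ =
      Cfsg.Agent.Small.PSUn.cU g * Cfsg.Agent.Small.PSUn.fU σ := by
    rw [hg, ← hxe]; group
  rw [hy']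
  obtain ⟨B, hB⟩ := Cfsg.Agent.Small.PSUn.field_conj hstar hF hn hstar₀ hF₀' σ hodd ι hι hcomp g
    (by rw [← hy', ← MulAut.conj_apply, ← map_pow, hσr, ← hy, pow_orderOf_eq_one, map_one])
  exact ⟨_, Cfsg.Agent.Small.PSUn.inndiag_eq (n := n) (F := F) (q := q) ▸ ⟨B, rfl⟩, hB⟩

end Cfsg.Agent.S2711
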