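import Cfsg.Statements.S2713
import Cfsg.Agent.Lib.Small.PSpn.FieldAut

set_option autoImplicit false
open Cfsg

namespace Cfsg.Agent.S2713

/-- Let T = PSp_{2m}(F) be simple over a finite field (m ≥ 2, (2m, |F|) ≠ (4, 2)) and let x be a field automorphism of T of prime order r. Then an element y of the coset Inndiag(T)·x (y = δ x with δ in the image of the projective conformal symplectic group) has order r if and only if y is conjugate to x by an element of Inndiag(T). -/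
theorem result {F : Type*} [Field F] [Fintype F] {m : ℕ} (hm : 2 ≤ m) (hs : m = 2 → 3 ≤ Fintype.card F) (x δ : MulAut (Cfsg.PSp m F)) (hx : Cfsg.IsFieldAutClassPSp x) {r : ℕ} (hr : r.Prime) (hxr : orderOf x = r) (hδ : δ ∈ Cfsg.inndiagPSp m F) :
    orderOf (δ * x) = r ↔ Cfsg.IsConjUnder (Cfsg.inndiagPSp m F) x (δ * x) := by
  classical
  obtain ⟨p, hp⟩ := CharP.exists F
  obtain ⟨f, hpp, hF⟩ := FiniteField.card F p
  haveI : Fact p.Prime := ⟨hpp⟩
  have hm1 : 1 ≤ m := by omega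
  obtain ⟨α, σ, hord, hxe⟩ := Cfsg.Agent.Small.PSpn.class_data hm1 hx
  have hN := Cfsg.Agent.Small.PSpn.inndiag_normal (F := F) hm
  have hσr : orderOf σ = r := hord ▸ hxr
  constructor
  swap
  · rintro ⟨h, -, he⟩
    rw [he, ← MulAut.conj_apply, ← hxr]
    exact MulEquiv.orderOf_eq _ x
  intro hy
  let F₀ := GaloisField p ((f : ℕ) / r)
  haveI : Fintype F₀ := Fintype.ofFinite _
  have hdvd : r ∣ (f : ℕ) := hσr ▸ Cfsg.Agent.Small.PSLn.orderOf_dvd_f hF σ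
  have hF₀ : Fintype.card F₀ = p ^ ((f : ℕ) / orderOf σ) := by
    rw [← Nat.card_eq_fintype_card, hσr, GaloisField.card]
    exact (Nat.div_pos (Nat.le_of_dvd f.pos hdvd) hr.pos).ne'
  obtain ⟨ι, hι⟩ := Cfsg.Agent.Small.PSLn.exists_fixed_embedding hF σ F₀ hF₀
  rw [← Cfsg.Agent.Small.PSLn.isConjUnder_conj hN α, hxe]
  obtain ⟨g, hg⟩ : α * δ * α⁻¹ ∈ (Cfsg.Agent.Small.PSpn.cS (m := m) (F := F)).range :=
    Cfsg.Agent.Small.PSpn.inndiag_eq (m := m) (F := F) ▸ hN.conj_mem δ hδ α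
  have hy' : α * (δ * x) * α⁻¹ =
      Cfsg.Agent.Small.PSpn.cS g * Cfsg.Agent.Small.PSpn.fS σ := by
    rw [hg, ← hxe]; group
  rw [hy']
  obtain ⟨B, hB⟩ := Cfsg.Agent.Small.PSpn.field_conj hm1 σ ι hι g
    (by rw [← hy', ← MulAut.conj_apply, ← map_pow, hσr, ← hy, pow_orderOf_eq_one, map_one])
  exact ⟨_, Cfsg.Agent.Small.PSpn.inndiag_eq (m := m) (F := F) ▸ ⟨B, rfl⟩, hB⟩

end Cfsg.Agent.S2713
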