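import Cfsg.Statements.S2714
import Cfsg.Agent.Lib.Small.OrthAut.FieldMinus

set_option autoImplicit false
open Cfsg

namespace Cfsg.Agent.S2714

/-- Let T = Ω_{2m+1}(F) (m ≥ 3, |F| = p^f odd; realised as PΩ of the form x₀² + Σ xᵢ yᵢ), G = Inndiag(T) the image of the conformal orthogonal group in Aut(T), and x a field automorphism of T of prime order r. Then r divides f; C_G(x) is isomorphic to Inndiag(Ω_{2m+1}(F₀)) for a field F₀ with p^(f/r) elements; and the G-class of x is a single T-class when r is odd and the union of exactly two T-classes when r = 2. -/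
theorem result {F : Type*} [Field F] [Fintype F] {p f : ℕ} [Fact p.Prime] (hF : Fintype.card F = p ^ f) (hf : 1 ≤ f) (hodd : Odd (Fintype.card F)) {m : ℕ} (hm : 3 ≤ m) (x : MulAut (Cfsg.POmega F (Cfsg.quadFormOdd m F))) (hx : Cfsg.IsFieldAutClassPOmega (Cfsg.quadFormOdd m F) x) {r : ℕ} (hr : r.Prime) (hxr : orderOf x = r) (F₀ : Type*) [Field F₀] [Fintype F₀] (hF₀ : Fintype.card F₀ = p ^ (f / r)) :
    r ∣ f ∧ Nonempty (↥(Cfsg.inndiagPOmegaOdd m F ⊓ Subgroup.centralizer {x}) ≃* ↥(Cfsg.inndiagPOmegaOdd m F₀)) ∧ (Odd r → Cfsg.splitClassCount (Cfsg.inndiagPOmegaOdd m F) (Cfsg.Inn (Cfsg.POmega F (Cfsg.quadFormOdd m F))) x = 1) ∧ (r = 2 → Cfsg.splitClassCount (Cfsg.inndiagPOmegaOdd m F) (Cfsg.Inn (Cfsg.POmega F (Cfsg.quadFormOdd m F))) x = 2) := by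
  have h2 := Cfsg.Agent.Classical.OOmega.two_ne_of_odd hodd
  have key : ∀ y : MulAut (Cfsg.POmega F ⇑(Cfsg.Agent.Small.OrthAut.qOdd F m)),
      Cfsg.IsFieldAutClassPOmega ⇑(Cfsg.Agent.Small.OrthAut.qOdd F m) y → orderOf y = r →
      r ∣ f ∧ Nonempty (↥(Cfsg.autSubgroupOf (fun β : MulAut (Cfsg.POmega F ⇑(Cfsg.Agent.Small.OrthAut.qOdd F m)) =>
            Cfsg.IsSimilarityInducedAutPOmega ⇑(Cfsg.Agent.Small.OrthAut.qOdd F m) β) ⊓ Subgroup.centralizer {y}) ≃*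
          ↥(Cfsg.autSubgroupOf (fun β : MulAut (Cfsg.POmega F₀ ⇑(Cfsg.Agent.Small.OrthAut.qOdd F₀ m)) =>
            Cfsg.IsSimilarityInducedAutPOmega ⇑(Cfsg.Agent.Small.OrthAut.qOdd F₀ m) β))) ∧
        (Odd r → Cfsg.splitClassCount (Cfsg.autSubgroupOf (fun β : MulAut (Cfsg.POmega F ⇑(Cfsg.Agent.Small.OrthAut.qOdd F m)) =>
            Cfsg.IsSimilarityInducedAutPOmega ⇑(Cfsg.Agent.Small.OrthAut.qOdd F m) β))
          (Cfsg.Inn (Cfsg.POmega F ⇑(Cfsg.Agent.Small.OrthAut.qOdd F m))) y = 1) ∧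
        (r = 2 → Cfsg.splitClassCount (Cfsg.autSubgroupOf (fun β : MulAut (Cfsg.POmega F ⇑(Cfsg.Agent.Small.OrthAut.qOdd F m)) =>
            Cfsg.IsSimilarityInducedAutPOmega ⇑(Cfsg.Agent.Small.OrthAut.qOdd F m) β))
          (Cfsg.Inn (Cfsg.POmega F ⇑(Cfsg.Agent.Small.OrthAut.qOdd F m))) y = 2) := by
    intro y hy hyr
    obtain ⟨hd, σ, j, D, hσ, rfl⟩ := Cfsg.Agent.Small.OrthAut.odd_field_desc hF h2 hm hy hr hyr F₀ hF₀
    have h20 := Cfsg.Agent.Small.OrthAut.two_ne_fixed j h2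
    have S₀ := Cfsg.Agent.Small.OrthAut.setup_odd h20 hm
    rw [Cfsg.Agent.Small.OrthAut.inndiag_odd_eq, Cfsg.Agent.Small.OrthAut.inndiag_odd_eq]
    obtain ⟨T⟩ := S₀.frame
    obtain ⟨v, hv⟩ := Cfsg.Agent.Classical.OOmega.exists_value_of_pair T.hp 1
    have hc := D.count_odd_dim hm h20
    exact ⟨hd, D.centralizer_equiv (Cfsg.Agent.Small.OrthAut.setup_odd h2 hm) S₀ ⟨v, by simp [hv]⟩ ⊤ ⊤
      (fun _ => trivial) (fun _ => iff_of_true trivial trivial),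
      fun ho => hc.1 (hσ.symm ▸ ho), fun h => hc.2 (hσ.trans h)⟩
  rw [Cfsg.Agent.Classical.OOmega.coe_odd, Cfsg.Agent.Classical.OOmega.coe_odd] at key
  exact key x hx hxr

end Cfsg.Agent.S2714
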