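import Cfsg.Statements.S2715
import Cfsg.Agent.Lib.Small.OrthAut.OutFour
import Cfsg.Agent.Lib.Small.OrthAut.FieldMinus

set_option autoImplicit false
set_option maxHeartbeats 1000000
open Cfsg

namespace Cfsg.Agent.S2715

/-- Let T = PΩ⁺_{2m}(F) (m ≥ 4, |F| = p^f; the form Σ xᵢ yᵢ), G = Inndiag(T) the image of the class-preserving similarities in Aut(T), and x a field automorphism of T of prime order r. Then r divides f; C_G(x) is isomorphic to Inndiag(PΩ⁺_{2m}(F₀)) for a field F₀ with p^(f/r) elements; and the G-class of x is the union of exactly c T-classes, where c = 1 if r is odd or p = 2, and otherwise (r = 2, p odd) c = 2 when m is odd and p^(f/2) ≡ 1 (mod 4), and c = 4 in the remaining cases. -/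
theorem result {F : Type*} [Field F] [Fintype F] {p f : ℕ} [Fact p.Prime] (hF : Fintype.card F = p ^ f) (hf : 1 ≤ f) {m : ℕ} (hm : 4 ≤ m) (x : MulAut (Cfsg.POmega F (Cfsg.quadFormPlus m F))) (hx : Cfsg.IsFieldAutClassPOmega (Cfsg.quadFormPlus m F) x) {r : ℕ} (hr : r.Prime) (hxr : orderOf x = r) (F₀ : Type*) [Field F₀] [Fintype F₀] (hF₀ : Fintype.card F₀ = p ^ (f / r)) :
    r ∣ f ∧ Nonempty (↥(Cfsg.inndiagPOmegaPlus m F ⊓ Subgroup.centralizer {x}) ≃* ↥(Cfsg.inndiagPOmegaPlus m F₀)) ∧ ((Odd r ∨ p = 2) → Cfsg.splitClassCount (Cfsg.inndiagPOmegaPlus m F) (Cfsg.Inn (Cfsg.POmega F (Cfsg.quadFormPlus m F))) x = 1) ∧ ((r = 2 ∧ p ≠ 2 ∧ Odd m ∧ p ^ (f / 2) % 4 = 1) → Cfsg.splitClassCount (Cfsg.inndiagPOmegaPlus m F) (Cfsg.Inn (Cfsg.POmega F (Cfsg.quadFormPlus m F))) x = 2) ∧ ((r = 2 ∧ p ≠ 2 ∧ ¬ (Odd m ∧ p ^ (f / 2) % 4 = 1)) → Cfsg.splitClassCount (Cfsg.inndiagPOmegaPlus m F) (Cfsg.Inn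 (Cfsg.POmega F (Cfsg.quadFormPlus m F))) x = 4) := by
  have key : ∀ y : MulAut (Cfsg.POmega F ⇑(Cfsg.Agent.Small.Orth.qPlus F m)),
      Cfsg.IsFieldAutClassPOmega ⇑(Cfsg.Agent.Small.Orth.qPlus F m) y → orderOf y = r →
      r ∣ f ∧ Nonempty (↥((Cfsg.Agent.Small.OrthAut.evenK (Cfsg.Agent.Small.Orth.qPlus F m) m).map
          (Cfsg.Agent.Small.Orth.rho ⇑(Cfsg.Agent.Small.Orth.qPlus F m)) ⊓ Subgroup.centralizer {y}) ≃*
        ↥((Cfsg.Agent.Small.OrthAut.evenK (Cfsg.Agent.Small.Orth.qPlus F₀ m) m).map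
          (Cfsg.Agent.Small.Orth.rho ⇑(Cfsg.Agent.Small.Orth.qPlus F₀ m)))) ∧
      ((Odd r ∨ p = 2) → Cfsg.splitClassCount ((Cfsg.Agent.Small.OrthAut.evenK (Cfsg.Agent.Small.Orth.qPlus F m) m).map
          (Cfsg.Agent.Small.Orth.rho ⇑(Cfsg.Agent.Small.Orth.qPlus F m)))
          (Cfsg.Inn (Cfsg.POmega F ⇑(Cfsg.Agent.Small.Orth.qPlus F m))) y = 1) ∧
      ((r = 2 ∧ p ≠ 2 ∧ Odd m ∧ p ^ (f / 2) % 4 = 1) →
        Cfsg.splitClassCount ((Cfsg.Agent.Small.OrthAut.evenK (Cfsg.Agent.Small.Orth.qPlus F m) m).map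
          (Cfsg.Agent.Small.Orth.rho ⇑(Cfsg.Agent.Small.Orth.qPlus F m)))
          (Cfsg.Inn (Cfsg.POmega F ⇑(Cfsg.Agent.Small.Orth.qPlus F m))) y = 2) ∧
      ((r = 2 ∧ p ≠ 2 ∧ ¬ (Odd m ∧ p ^ (f / 2) % 4 = 1)) →
        Cfsg.splitClassCount ((Cfsg.Agent.Small.OrthAut.evenK (Cfsg.Agent.Small.Orth.qPlus F m) m).map
          (Cfsg.Agent.Small.Orth.rho ⇑(Cfsg.Agent.Small.Orth.qPlus F m)))
          (Cfsg.Inn (Cfsg.POmega F ⇑(Cfsg.Agent.Small.Orth.qPlus F m))) y = 4) := by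
    intro y hy hyr
    obtain ⟨hrf, σ, j, D, hσ, rfl⟩ := Cfsg.Agent.Small.OrthAut.plus_field_desc_four hF hm hy hr hyr F₀ hF₀
    have E := Cfsg.Agent.Small.OrthAut.evenData_plus (F := F) (show 3 ≤ m by omega)
    have E₀ := Cfsg.Agent.Small.OrthAut.evenData_plus (F := F₀) (show 3 ≤ m by omega)
    have h20 : p ≠ 2 → (2 : F₀) ≠ 0 := fun hp =>
      Cfsg.Agent.Classical.OOmega.two_ne_of_odd (hF₀ ▸ ((Fact.out : p.Prime).odd_of_ne_two hp).pow)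
    refine ⟨hrf, D.centralizer_even E E₀, fun h => ?_, fun h => ?_, fun h => ?_⟩
    · rcases h with ho | hp
      · exact D.count_one E E₀ (hσ.symm ▸ ho)
      · subst hp
        haveI : CharP F 2 := charP_of_card_eq_prime_pow hF
        rw [D.count_even E E₀, Cfsg.Agent.Small.OrthAut.kq, Cfsg.Agent.Small.OrthAut.evenK_two CharTwo.two_eq_zero,
          Subgroup.relIndex_eq_one]
        rintro _ ⟨g, hg, rfl⟩
        rw [show QuotientGroup.mk' (Cfsg.Agent.Small.Orth.innSub (Cfsg.Agent.Small.Orth.qPlus F m)) g = 1 from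
          (QuotientGroup.eq_one_iff g).2 hg]
        exact one_mem _
    · obtain ⟨rfl, hp, hc⟩ := h
      exact (Cfsg.Agent.Small.OrthAut.count_two_plus (by omega) D hσ (h20 hp)).1 (by rw [hF₀]; exact hc)
    · obtain ⟨rfl, hp, hc⟩ := h
      exact (Cfsg.Agent.Small.OrthAut.count_two_plus (by omega) D hσ (h20 hp)).2 (by rw [hF₀]; exact hc)
  rw [← Cfsg.Agent.Small.OrthAut.inndiag_plus_eq (show 3 ≤ m by omega),
    ← Cfsg.Agent.Small.OrthAut.inndiag_plus_eq (F := F₀) (show 3 ≤ m by omega)] at key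
  rw [Cfsg.Agent.Classical.OOmega.coe_plus, Cfsg.Agent.Classical.OOmega.coe_plus] at key
  exact key x hx hxr

end Cfsg.Agent.S2715
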