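import Cfsg.Statements.S2716
import Cfsg.Agent.Lib.Small.OrthAut.FieldMinus

set_option autoImplicit false
open Cfsg

namespace Cfsg.Agent.S2716

/-- Let T = PΩ⁻_{2m+2}(F) (m ≥ 3, |F| = p^f; the form Σ xᵢ yᵢ + z₁² + a z₁ z₂ + b z₂² with anisotropic binary part), G = Inndiag(T), and x a field automorphism of T of prime order r. Then r is odd and divides f; C_G(x) is isomorphic to Inndiag(PΩ⁻_{2m+2}(F₀)) for a field F₀ with p^(f/r) elements and some anisotropic binary part over F₀; and the G-class of x is a single T-class. -/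
theorem result {F : Type*} [Field F] [Fintype F] {p f : ℕ} [Fact p.Prime] (hF : Fintype.card F = p ^ f) (hf : 1 ≤ f) {m : ℕ} (hm : 3 ≤ m) (a b : F) (hab : (∀ z₁ z₂ : F, z₁ ^ 2 + a * z₁ * z₂ + b * z₂ ^ 2 = 0 → z₁ = 0 ∧ z₂ = 0)) (x : MulAut (Cfsg.POmega F (Cfsg.quadFormMinus m F a b))) (hx : Cfsg.IsFieldAutClassPOmegaMinus m x) {r : ℕ} (hr : r.Prime) (hxr : orderOf x = r) (F₀ : Type*) [Field F₀] [Fintype F₀] (hF₀ : Fintype.card F₀ = p ^ (f / r)) :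
    Odd r ∧ r ∣ f ∧ (∃ a₀ b₀ : F₀, (∀ z₁ z₂ : F₀, z₁ ^ 2 + a₀ * z₁ * z₂ + b₀ * z₂ ^ 2 = 0 → z₁ = 0 ∧ z₂ = 0) ∧ Nonempty (↥(Cfsg.inndiagPOmegaMinus m F a b ⊓ Subgroup.centralizer {x}) ≃* ↥(Cfsg.inndiagPOmegaMinus m F₀ a₀ b₀))) ∧ Cfsg.splitClassCount (Cfsg.inndiagPOmegaMinus m F a b) (Cfsg.Inn (Cfsg.POmega F (Cfsg.quadFormMinus m F a b))) x = 1 := by
  obtain ⟨a', b', ψ, σ, hab', hσ, ha, hb, hφ⟩ := hx
  have key : ∀ (ψ' : Cfsg.POmega F ⇑(Cfsg.Agent.Small.Orth.qMinus m a b) ≃*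
        Cfsg.POmega F ⇑(Cfsg.Agent.Small.Orth.qMinus m a' b')) (y : MulAut (Cfsg.POmega F ⇑(Cfsg.Agent.Small.Orth.qMinus m a b))),
      Cfsg.IsFieldAutPOmegaOf ⇑(Cfsg.Agent.Small.Orth.qMinus m a' b') σ ((ψ'.symm.trans y).trans ψ') → orderOf y = r →
      Odd r ∧ r ∣ f ∧ (∃ a₀ b₀ : F₀, ∃ hab₀ : (∀ z₁ z₂ : F₀, z₁ ^ 2 + a₀ * z₁ * z₂ + b₀ * z₂ ^ 2 = 0 → z₁ = 0 ∧ z₂ = 0),
        Nonempty (↥((Cfsg.Agent.Small.OrthAut.evenK (Cfsg.Agent.Small.Orth.qMinus m a b) (m + 1)).map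
            (Cfsg.Agent.Small.Orth.rho ⇑(Cfsg.Agent.Small.Orth.qMinus m a b)) ⊓ Subgroup.centralizer {y}) ≃*
          ↥((Cfsg.Agent.Small.OrthAut.evenK (Cfsg.Agent.Small.Orth.qMinus m a₀ b₀) (m + 1)).map
            (Cfsg.Agent.Small.Orth.rho ⇑(Cfsg.Agent.Small.Orth.qMinus m a₀ b₀))))) ∧
      Cfsg.splitClassCount ((Cfsg.Agent.Small.OrthAut.evenK (Cfsg.Agent.Small.Orth.qMinus m a b) (m + 1)).map
          (Cfsg.Agent.Small.Orth.rho ⇑(Cfsg.Agent.Small.Orth.qMinus m a b)))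
          (Cfsg.Inn (Cfsg.POmega F ⇑(Cfsg.Agent.Small.Orth.qMinus m a b))) y = 1 := by
    intro ψ' y hy hyr
    obtain ⟨hord, hodd, hdesc⟩ := Cfsg.Agent.Small.OrthAut.minus_desc hm hab hab' ψ' hσ ha hb hy hr hyr
    have hdvd : r ∣ f := hord ▸ Cfsg.Agent.Small.PSLn.orderOf_dvd_f hF σ
    obtain ⟨j, hfix⟩ := Cfsg.Agent.Small.PSLn.exists_fixed_embedding hF σ F₀ (by rw [hF₀, ← hord])
    obtain ⟨a₀, b₀, hab₀, D, rfl⟩ := hdesc hfix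
    have E := Cfsg.Agent.Small.OrthAut.evenData_minus hm hab
    have E₀ := Cfsg.Agent.Small.OrthAut.evenData_minus hm hab₀
    exact ⟨hodd, hdvd, ⟨a₀, b₀, hab₀, D.centralizer_even E E₀⟩, D.count_one E E₀ (hord.symm ▸ hodd)⟩
  rw [← Cfsg.Agent.Small.OrthAut.inndiag_minus_eq hm hab] at key
  rw [Cfsg.Agent.Classical.OOmega.coe_minus, Cfsg.Agent.Classical.OOmega.coe_minus] at key
  obtain ⟨h1, h3, ⟨a₀, b₀, hab₀, h4⟩, h5⟩ := key ψ x hφ hxr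
  refine ⟨h1, h3, ⟨a₀, b₀, hab₀, ?_⟩, h5⟩
  rw [← Cfsg.Agent.Small.OrthAut.inndiag_minus_eq hm hab₀, Cfsg.Agent.Classical.OOmega.coe_minus] at h4
  exact h4

end Cfsg.Agent.S2716
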