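import Cfsg.Statements.S2717
import Cfsg.Agent.Lib.Small.OrthAut.FieldMinus

set_option autoImplicit false
set_option maxHeartbeats 1000000
open Cfsg

namespace Cfsg.Agent.S2717

/-- Let T = PΩ⁺_{2m}(F) with m ≥ 5 (dimension 2m ≠ 8) and |F| = p^f, G = Inndiag(T), and x an involutory graph-field automorphism of T. Then f is even; any two involutory graph-field automorphisms of T are G-conjugate; C_G(x) is isomorphic to Inndiag(PΩ⁻_{2m}(F₀)) for a field F₀ with p^(f/2) elements (some anisotropic binary part over F₀); and the G-class of x is the union of exactly c T-classes with c = 1 if p = 2, c = 4 if p is odd, m is odd and p^(f/2) ≡ 1 (mod 4), and c = 2 otherwise. -/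
theorem result {F : Type*} [Field F] [Fintype F] {p f : ℕ} [Fact p.Prime] (hF : Fintype.card F = p ^ f) (hf : 1 ≤ f) {m : ℕ} (hm : 5 ≤ m) (x : MulAut (Cfsg.POmega F (Cfsg.quadFormPlus m F))) (hx : Cfsg.IsGraphFieldAutClassPOmegaPlus m x) (hx2 : orderOf x = 2) (F₀ : Type*) [Field F₀] [Fintype F₀] (hF₀ : Fintype.card F₀ = p ^ (f / 2)) :
    Even f ∧ (∀ y : MulAut (Cfsg.POmega F (Cfsg.quadFormPlus m F)), Cfsg.IsGraphFieldAutClassPOmegaPlus m y → orderOf y = 2 → Cfsg.IsConjUnder (Cfsg.inndiagPOmegaPlus m F) x y) ∧ (∃ a₀ b₀ : F₀, (∀ z₁ z₂ : F₀, z₁ ^ 2 + a₀ * z₁ * z₂ + b₀ * z₂ ^ 2 = 0 → z₁ = 0 ∧ z₂ = 0) ∧ Nonempty (↥(Cfsg.inndiagPOmegaPlus m F ⊓ Subgroup.centralizer {x}) ≃* ↥(Cfsg.inndiagPOmegaMinus (m - 1) F₀ a₀ b₀))) ∧ (p = 2 → Cfsg.splitClassCount (Cfsg.inndiagPOmegaPlus m F) (Cfsg.Inn (Cfsg.POmega F (Cfsg.quadFormPlus m F))) x = 1) ∧ ((p ≠ 2 ∧ Odd m ∧ p ^ (f /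 2) % 4 = 1) → Cfsg.splitClassCount (Cfsg.inndiagPOmegaPlus m F) (Cfsg.Inn (Cfsg.POmega F (Cfsg.quadFormPlus m F))) x = 4) ∧ ((p ≠ 2 ∧ ¬ (Odd m ∧ p ^ (f / 2) % 4 = 1)) → Cfsg.splitClassCount (Cfsg.inndiagPOmegaPlus m F) (Cfsg.Inn (Cfsg.POmega F (Cfsg.quadFormPlus m F))) x = 2) := by
  obtain ⟨k, rfl⟩ : ∃ k, m = k + 1 := ⟨m - 1, by omega⟩
  obtain ⟨a₀, b₀, hab⟩ := Cfsg.Agent.Small.QuadModels.exists_aniso (F := F₀)
  have hk : 3 ≤ k := by omega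
  have key : ∀ y : MulAut (Cfsg.POmega F ⇑(Cfsg.Agent.Small.Orth.qPlus F (k + 1))),
      Cfsg.Agent.Small.OrthAut.GraphFieldClass ⇑(Cfsg.Agent.Small.Orth.qPlus F (k + 1)) y → orderOf y = 2 →
      Even f ∧
      (∀ z, Cfsg.Agent.Small.OrthAut.GraphFieldClass ⇑(Cfsg.Agent.Small.Orth.qPlus F (k + 1)) z → orderOf z = 2 →
        Cfsg.IsConjUnder ((Cfsg.Agent.Small.OrthAut.evenK (Cfsg.Agent.Small.Orth.qPlus F (k + 1)) (k + 1)).map
          (Cfsg.Agent.Small.Orth.rho ⇑(Cfsg.Agent.Small.Orth.qPlus F (k + 1)))) y z) ∧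
      Nonempty (↥((Cfsg.Agent.Small.OrthAut.evenK (Cfsg.Agent.Small.Orth.qPlus F (k + 1)) (k + 1)).map
          (Cfsg.Agent.Small.Orth.rho ⇑(Cfsg.Agent.Small.Orth.qPlus F (k + 1))) ⊓ Subgroup.centralizer {y}) ≃*
        ↥((Cfsg.Agent.Small.OrthAut.evenK (Cfsg.Agent.Small.Orth.qMinus k a₀ b₀) (k + 1)).map
          (Cfsg.Agent.Small.Orth.rho ⇑(Cfsg.Agent.Small.Orth.qMinus k a₀ b₀)))) ∧
      (p = 2 → Cfsg.splitClassCount ((Cfsg.Agent.Small.OrthAut.evenK (Cfsg.Agent.Small.Orth.qPlus F (k + 1)) (k + 1)).map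
          (Cfsg.Agent.Small.Orth.rho ⇑(Cfsg.Agent.Small.Orth.qPlus F (k + 1))))
          (Cfsg.Inn (Cfsg.POmega F ⇑(Cfsg.Agent.Small.Orth.qPlus F (k + 1)))) y = 1) ∧
      ((p ≠ 2 ∧ Odd (k + 1) ∧ p ^ (f / 2) % 4 = 1) →
        Cfsg.splitClassCount ((Cfsg.Agent.Small.OrthAut.evenK (Cfsg.Agent.Small.Orth.qPlus F (k + 1)) (k + 1)).map
          (Cfsg.Agent.Small.Orth.rho ⇑(Cfsg.Agent.Small.Orth.qPlus F (k + 1))))
          (Cfsg.Inn (Cfsg.POmega F ⇑(Cfsg.Agent.Small.Orth.qPlus F (k + 1)))) y = 4) ∧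
      ((p ≠ 2 ∧ ¬ (Odd (k + 1) ∧ p ^ (f / 2) % 4 = 1)) →
        Cfsg.splitClassCount ((Cfsg.Agent.Small.OrthAut.evenK (Cfsg.Agent.Small.Orth.qPlus F (k + 1)) (k + 1)).map
          (Cfsg.Agent.Small.Orth.rho ⇑(Cfsg.Agent.Small.Orth.qPlus F (k + 1))))
          (Cfsg.Inn (Cfsg.POmega F ⇑(Cfsg.Agent.Small.Orth.qPlus F (k + 1)))) y = 2) := by
    intro y hy hy2
    obtain ⟨h2f, σ, j, D, hσ, rfl⟩ := Cfsg.Agent.Small.OrthAut.plus_graph_desc hF (by omega) hy hy2 F₀ hF₀ hab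
    have E := Cfsg.Agent.Small.OrthAut.evenData_plus (F := F) (show 3 ≤ k + 1 by omega)
    have E₀ := Cfsg.Agent.Small.OrthAut.evenData_minus hk hab
    have h20 : p ≠ 2 → (2 : F₀) ≠ 0 := fun hp =>
      Cfsg.Agent.Classical.OOmega.two_ne_of_odd (hF₀ ▸ ((Fact.out : p.Prime).odd_of_ne_two hp).pow)
    refine ⟨(even_iff_two_dvd).2 h2f,
      fun z hz hz2 => Cfsg.Agent.Small.OrthAut.plus_graph_conj hm _ z hy hy2 hz hz2,
      D.centralizer_even E E₀, fun hp => ?_, fun h => ?_, fun h => ?_⟩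
    · subst hp
      haveI : CharP F 2 := charP_of_card_eq_prime_pow hF
      rw [D.count_even E E₀, Cfsg.Agent.Small.OrthAut.kq, Cfsg.Agent.Small.OrthAut.evenK_two CharTwo.two_eq_zero,
        Subgroup.relIndex_eq_one]
      rintro _ ⟨g, hg, rfl⟩
      rw [show QuotientGroup.mk' (Cfsg.Agent.Small.Orth.innSub (Cfsg.Agent.Small.Orth.qPlus F (k + 1))) g = 1 from
        (QuotientGroup.eq_one_iff g).2 hg]
      exact one_mem _
    · exact (Cfsg.Agent.Small.OrthAut.count_two_graph hk hab D hσ (h20 h.1)).1 (by rw [hF₀]; exact h.2)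
    · exact (Cfsg.Agent.Small.OrthAut.count_two_graph hk hab D hσ (h20 h.1)).2 (by rw [hF₀]; exact h.2)
  rw [← Cfsg.Agent.Small.OrthAut.inndiag_plus_eq (show 3 ≤ k + 1 by omega),
    ← Cfsg.Agent.Small.OrthAut.inndiag_minus_eq hk hab] at key
  simp only [Cfsg.Agent.Small.OrthAut.GraphFieldClass] at key
  rw [Cfsg.Agent.Classical.OOmega.coe_plus, Cfsg.Agent.Classical.OOmega.coe_minus] at key
  obtain ⟨h1, h3, h4, h5⟩ := key x hx hx2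
  exact ⟨h1, h3, ⟨a₀, b₀, hab, h4⟩, h5⟩

end Cfsg.Agent.S2717
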