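import Cfsg.Statements.S2718
import Cfsg.Agent.Lib.Small.Orth.SimGraph
-- import your own Cfsg.Agent.* helpers here

set_option autoImplicit false
open Cfsg

namespace Cfsg.Agent.S2718

/-- Let T = PΩ⁺_{2m}(F) with m ≥ 4 and |F| = q odd, G = Inndiag(T), and γ an involutory graph automorphism of T induced by a similarity (one interchanging the two classes of maximal totally singular subspaces). Then the G-class of γ is either a single T-class or the union of exactly two T-classes, and it is the union of two unless m is odd and q ≡ 3 (mod 4). -/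
theorem result {F : Type*} [Field F] [Fintype F] (hodd : Odd (Fintype.card F)) {m : ℕ} (hm : 4 ≤ m) (γ : MulAut (Cfsg.POmega F (Cfsg.quadFormPlus m F))) (hγ : Cfsg.IsSimilarityGraphAutPOmegaPlus m γ) (hγ2 : orderOf γ = 2) :
    (Cfsg.splitClassCount (Cfsg.inndiagPOmegaPlus m F) (Cfsg.Inn (Cfsg.POmega F (Cfsg.quadFormPlus m F))) γ = 1 ∨ Cfsg.splitClassCount (Cfsg.inndiagPOmegaPlus m F) (Cfsg.Inn (Cfsg.POmega F (Cfsg.quadFormPlus m F))) γ = 2) ∧ (¬ (Odd m ∧ Fintype.card F % 4 = 3) → Cfsg.splitClassCount (Cfsg.inndiagPOmegaPlus m F) (Cfsg.Inn (Cfsg.POmega F (Cfsg.quadFormPlus m F))) γ = 2) := by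
  have h2 : γ * γ = 1 := by
    have := pow_orderOf_eq_one γ
    rwa [hγ2, pow_two] at this
  refine ⟨?_, fun hc => Cfsg.Agent.Small.Orth.split_graph hodd (by omega) hc γ hγ h2⟩
  by_cases hc : Odd m ∧ Fintype.card F % 4 = 3
  · haveI : (Cfsg.Inn (Cfsg.POmega F (Cfsg.quadFormPlus m F))).Normal := Cfsg.innNormal _
    haveI : Finite (MulAut (Cfsg.POmega F (Cfsg.quadFormPlus m F))) :=
      Finite.of_injective (fun e : MulAut (Cfsg.POmega F (Cfsg.quadFormPlus m F)) => (e : Cfsg.POmega F (Cfsg.quadFormPlus m F) → Cfsg.POmega F (Cfsg.quadFormPlus m F))) DFunLike.coe_injective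
    obtain ⟨φ, hφ, hk⟩ := (Cfsg.Agent.Small.Orth.inndiag_plus (F := F) (m := m) hodd (by omega)).1 hc
    obtain ⟨h1, h3⟩ := Cfsg.Agent.Small.Orth.split_le (x := γ) φ hφ hk
    have hcard : Nat.card (Multiplicative (ZMod 2)) = 2 :=
      (Nat.card_congr Multiplicative.toAdd).trans (Nat.card_zmod 2)
    omega
  · exact Or.inr (Cfsg.Agent.Small.Orth.split_graph hodd (by omega) hc γ hγ h2)

end Cfsg.Agent.S2718
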