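import Cfsg.Statements.S2719
import Cfsg.Agent.Lib.Small.OrthAut.MinusGraph

set_option autoImplicit false
open Cfsg

namespace Cfsg.Agent.S2719

/-- Let T = PΩ⁻_{2m+2}(F) with m ≥ 3 and |F| = q odd (form with anisotropic binary part z₁² + a z₁ z₂ + b z₂²), G = Inndiag(T), and γ an involutory graph automorphism of T (an automorphism in the image of the semisimilarity group, not inner-diagonal, of order 2). Then the G-class of γ is either a single T-class or the union of exactly two T-classes, and it is the union of two unless m is even and q ≡ 1 (mod 4). -/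
theorem result {F : Type*} [Field F] [Fintype F] (hodd : Odd (Fintype.card F)) {m : ℕ} (hm : 3 ≤ m) (a b : F) (hab : (∀ z₁ z₂ : F, z₁ ^ 2 + a * z₁ * z₂ + b * z₂ ^ 2 = 0 → z₁ = 0 ∧ z₂ = 0)) (γ : MulAut (Cfsg.POmega F (Cfsg.quadFormMinus m F a b))) (hγ : Cfsg.IsGraphAutClassPOmegaMinus m a b γ) (hγ2 : orderOf γ = 2) :
    (Cfsg.splitClassCount (Cfsg.inndiagPOmegaMinus m F a b) (Cfsg.Inn (Cfsg.POmega F (Cfsg.quadFormMinus m F a b))) γ = 1 ∨ Cfsg.splitClassCount (Cfsg.inndiagPOmegaMinus m F a b) (Cfsg.Inn (Cfsg.POmega F (Cfsg.quadFormMinus m F a b))) γ = 2) ∧ (¬ (Even m ∧ Fintype.card F % 4 = 1) → Cfsg.splitClassCount (Cfsg.inndiagPOmegaMinus m F a b) (Cfsg.Inn (Cfsg.POmega F (Cfsg.quadFormMinus m F a b))) γ = 2) := by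
  have h2 : γ * γ = 1 := by
    have := pow_orderOf_eq_one γ
    rwa [hγ2, pow_two] at this
  have S := Cfsg.Agent.Small.Orth.setupMinus hodd hm hab
  have key : ∀ y : MulAut (Cfsg.POmega F ⇑(Cfsg.Agent.Small.Orth.qMinus m a b)),
      y ∉ (Cfsg.Agent.Small.OrthAut.evenK (Cfsg.Agent.Small.Orth.qMinus m a b) (m + 1)).map
        (Cfsg.Agent.Small.Orth.rho ⇑(Cfsg.Agent.Small.Orth.qMinus m a b)) → y * y = 1 →
      ¬ (Even m ∧ Fintype.card F % 4 = 1) →
      Cfsg.splitClassCount ((Cfsg.Agent.Small.OrthAut.evenK (Cfsg.Agent.Small.Orth.qMinus m a b) (m + 1)).map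
        (Cfsg.Agent.Small.Orth.rho ⇑(Cfsg.Agent.Small.Orth.qMinus m a b)))
        (Cfsg.Inn (Cfsg.POmega F ⇑(Cfsg.Agent.Small.Orth.qMinus m a b))) y = 2 := by
    intro y hy hyy hc
    rw [Cfsg.Agent.Small.OrthAut.evenK_odd S] at hy ⊢
    obtain ⟨g, rfl, hgd⟩ := Cfsg.Agent.Small.OrthAut.minus_graph_lift hodd hm hab S y hy hyy
    exact Cfsg.Agent.Small.OrthAut.minus_graph_split hodd hm hab S g hgd hyy hc
  rw [← Cfsg.Agent.Small.OrthAut.inndiag_minus_eq hm hab, Cfsg.Agent.Classical.OOmega.coe_minus] at key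
  refine ⟨?_, key γ hγ.2.1 h2⟩
  by_cases hc : Even m ∧ Fintype.card F % 4 = 1
  · haveI : (Cfsg.Inn (Cfsg.POmega F (Cfsg.quadFormMinus m F a b))).Normal := Cfsg.innNormal _
    haveI : Finite (MulAut (Cfsg.POmega F (Cfsg.quadFormMinus m F a b))) :=
      Finite.of_injective (fun e : MulAut (Cfsg.POmega F (Cfsg.quadFormMinus m F a b)) =>
        (e : Cfsg.POmega F (Cfsg.quadFormMinus m F a b) → Cfsg.POmega F (Cfsg.quadFormMinus m F a b)))
        DFunLike.coe_injective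
    obtain ⟨φ, hφ, hk⟩ := (Cfsg.Agent.Small.Orth.inndiag_minus hodd hm a b hab).2 (fun h => by
      have := hc.2
      omega)
    obtain ⟨h1, h3⟩ := Cfsg.Agent.Small.Orth.split_le (x := γ) φ hφ hk
    have hcard : Nat.card (Multiplicative (ZMod 2)) = 2 :=
      (Nat.card_congr Multiplicative.toAdd).trans (Nat.card_zmod 2)
    omega
  · exact Or.inr (key γ hγ.2.1 h2 hc)

end Cfsg.Agent.S2719
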