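import Cfsg.Statements.S2721
import Cfsg.Agent.Lib.Small.Orth.SemisimpleClasses
import Cfsg.Agent.Lib.Small.OrthAut.MinusClasses

set_option autoImplicit false
set_option maxHeartbeats 1000000
open Cfsg

namespace Cfsg.Agent.S2721

/-- Let T = PΩ⁻_{2m+2}(F) (m ≥ 3, F finite of odd characteristic p), G = Inndiag(T), and let x be an automorphism of T induced by a similarity of the form (an element of the image G̃ of the conformal orthogonal group) of odd prime order r ≠ p. Then the T-class, the PSO-class and the G-class of x coincide (conjugacy under inner automorphisms, under the image of the special orthogonal group, and under G), and the PO-class of x coincides with its G̃-class. (In characteristic 2 the first equality fails: there the special orthogonal group is the full orthogonal group and some such classes split.) -/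
theorem result {F : Type*} [Field F] [Fintype F] {p : ℕ} [Fact p.Prime] [CharP F p] (hp : p ≠ 2) {m : ℕ} (hm : 3 ≤ m) (a b : F) (hab : (∀ z₁ z₂ : F, z₁ ^ 2 + a * z₁ * z₂ + b * z₂ ^ 2 = 0 → z₁ = 0 ∧ z₂ = 0)) (x : MulAut (Cfsg.POmega F (Cfsg.quadFormMinus m F a b))) (hx : x ∈ Cfsg.pgoAut F (Cfsg.quadFormMinus m F a b)) {r : ℕ} (hr : r.Prime) (hro : Odd r) (hrp : r ≠ p) (hxr : orderOf x = r) :
    (∀ y : MulAut (Cfsg.POmega F (Cfsg.quadFormMinus m F a b)), (Cfsg.IsConjUnder (Cfsg.Inn (Cfsg.POmega F (Cfsg.quadFormMinus m F a b))) x y ↔ Cfsg.IsConjUnder (Cfsg.inndiagPOmegaMinus m F a b) x y) ∧ (Cfsg.IsConjUnder (Cfsg.psoAut F (Cfsg.quadFormMinus m F a b)) x y ↔ Cfsg.IsConjUnder (Cfsg.inndiagPOmegaMinus m F a b) x y)) ∧ (∀ y : MulAut (Cfsg.POmega F (Cfsg.quadFormMinus m F a b)), Cfsg.IsConjUnder (Cfsg.poAut F (Cfsg.quadFormMinus m F a b)) x y ↔ Cfsg.IsConjUnder (Cfsg.pgoAut F (Cfsg.quadFormMinus m F a b)) x y) := by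
  have h2 : (2 : F) ≠ 0 := by
    intro h
    exact hp (((Nat.prime_two).eq_one_or_self_of_dvd p ((CharP.cast_eq_zero_iff F p 2).1 (by exact_mod_cast h))).resolve_left
      (Fact.out : p.Prime).ne_one)
  have hodd : Odd (Fintype.card F) := Nat.odd_iff.2 (FiniteField.odd_card_of_char_ne_two fun e => h2 (by
    haveI := ringChar.of_eq e
    exact CharTwo.two_eq_zero))
  have S := Cfsg.Agent.Small.Orth.setupMinus hodd hm hab
  have key : ∀ y : MulAut (Cfsg.POmega F ⇑(Cfsg.Agent.Small.Orth.qMinus m a b)), y ∈ Cfsg.pgoAut F ⇑(Cfsg.Agent.Small.Orth.qMinus m a b) → orderOf y = r →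
      (∀ z : MulAut (Cfsg.POmega F ⇑(Cfsg.Agent.Small.Orth.qMinus m a b)),
        (Cfsg.IsConjUnder (Cfsg.Inn (Cfsg.POmega F ⇑(Cfsg.Agent.Small.Orth.qMinus m a b))) y z ↔
          Cfsg.IsConjUnder ((Cfsg.Agent.Small.OrthAut.evenK (Cfsg.Agent.Small.Orth.qMinus m a b) (m + 1)).map (Cfsg.Agent.Small.Orth.rho ⇑(Cfsg.Agent.Small.Orth.qMinus m a b))) y z) ∧
        (Cfsg.IsConjUnder (Cfsg.psoAut F ⇑(Cfsg.Agent.Small.Orth.qMinus m a b)) y z ↔
          Cfsg.IsConjUnder ((Cfsg.Agent.Small.OrthAut.evenK (Cfsg.Agent.Small.Orth.qMinus m a b) (m + 1)).map (Cfsg.Agent.Small.Orth.rho ⇑(Cfsg.Agent.Small.Orth.qMinus m a b))) y z)) ∧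
      ∀ z : MulAut (Cfsg.POmega F ⇑(Cfsg.Agent.Small.Orth.qMinus m a b)),
        (Cfsg.IsConjUnder (Cfsg.poAut F ⇑(Cfsg.Agent.Small.Orth.qMinus m a b)) y z ↔ Cfsg.IsConjUnder (Cfsg.pgoAut F ⇑(Cfsg.Agent.Small.Orth.qMinus m a b)) y z) := by
    intro y hy hyr
    rw [Cfsg.Agent.Small.Orth.pgoAut_eq] at hy
    obtain ⟨s, rfl, hs⟩ := S.exists_lift y hy hr hro hyr
    rw [Cfsg.Agent.Small.OrthAut.evenK_odd S]
    exact S.semisimple_classes (p := p) (hs.symm ▸ hr) (hs.symm ▸ hro) (hs.symm ▸ hrp)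
  rw [← Cfsg.Agent.Small.OrthAut.inndiag_minus_eq hm hab] at key
  rw [Cfsg.Agent.Classical.OOmega.coe_minus] at key
  exact key x hx hxr

end Cfsg.Agent.S2721
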