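import Cfsg.Statements.S2723
import Cfsg.Agent.Lib.Small.Orth.SimMinus
-- import your own Cfsg.Agent.* helpers here

set_option autoImplicit false
open Cfsg

namespace Cfsg.Agent.S2723

/-- Let T = PΩ⁺_{2m}(F) with m ≥ 4 and |F| = q odd. The image of the special orthogonal group in Aut(T) contains the inner automorphism group T with index 1 (they coincide) when m is odd and q ≡ 3 (mod 4), and with index 2 otherwise (the index is 2 exactly when the discriminant of the form is a square). -/
theorem result {F : Type*} [Field F] [Fintype F] (hodd : Odd (Fintype.card F)) {m : ℕ} (hm : 4 ≤ m) :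
    ((Odd m ∧ Fintype.card F % 4 = 3) → (Cfsg.Inn (Cfsg.POmega F (Cfsg.quadFormPlus m F))).relIndex (Cfsg.psoAut F (Cfsg.quadFormPlus m F)) = 1) ∧ (¬ (Odd m ∧ Fintype.card F % 4 = 3) → (Cfsg.Inn (Cfsg.POmega F (Cfsg.quadFormPlus m F))).relIndex (Cfsg.psoAut F (Cfsg.quadFormPlus m F)) = 2) := by
  obtain ⟨h1, h2⟩ := (Cfsg.Agent.Small.Orth.setupPlus hodd (m := m) (by omega)).inn_pso_of (Cfsg.Agent.Classical.OOmega.coe_plus m)
  have hN := Cfsg.Agent.Small.Orth.negMem_plus (m := m) hodd (by omega)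
  exact ⟨fun hc => h1 fun hn => (hN.1 hn) hc, fun hc => h2 (hN.2 hc)⟩

end Cfsg.Agent.S2723
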