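import Cfsg.Statements.S2733
import Cfsg.Agent.Lib.Small.OrthAut.BalanceMinus

set_option autoImplicit false
open Cfsg

namespace Cfsg.Agent.S2733

/-- A criterion for the failure of local balance in almost simple groups whose socle is a minus-type orthogonal group PΩ⁻_{2m+2}(F) (m ≥ 3; the form Σ xᵢ yᵢ + z₁² + a z₁ z₂ + b z₂² with anisotropic binary part). Let F be a finite field of characteristic r and K the (simple) group in question; let A be a group of automorphisms of K containing all inner automorphisms, and x ∈ A an automorphism of prime order p ≠ r that is not inner-diagonal (not induced by a class-preserving similarity, classes read over a quadratic extension). Then the largest normal subgroup of C_A(x) of order prime to p is nontrivial if and only if x is a field automorphism of K (conjugate under Aut(K) to a non-identity standard field automorphism) and p does not divide the number of fixed points of x on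 K. -/
theorem result {F : Type*} [Field F] [Fintype F] {r : ℕ} [Fact r.Prime] [CharP F r] {m : ℕ} (hm : 3 ≤ m) (a b : F) (hab : (∀ z₁ z₂ : F, z₁ ^ 2 + a * z₁ * z₂ + b * z₂ ^ 2 = 0 → z₁ = 0 ∧ z₂ = 0)) (hK : IsSimpleGroup (Cfsg.POmega F (Cfsg.quadFormMinus m F a b))) (A : Subgroup (MulAut (Cfsg.POmega F (Cfsg.quadFormMinus m F a b)))) (hinn : ∀ k : Cfsg.POmega F (Cfsg.quadFormMinus m F a b), MulAut.conj k ∈ A) {p : ℕ} [Fact p.Prime] (hpr : p ≠ r) (x : MulAut (Cfsg.POmega F (Cfsg.quadFormMinus m F a b))) (hxA : x ∈ A) (hord : orderOf x = p) (hnot : ¬ Cfsg.IsInnerDiagonalAutPOmegaMinus m a b x) :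
    Cfsg.pPrimeCore p ↥(A ⊓ Subgroup.centralizer {x}) ≠ ⊥ ↔ (Cfsg.IsFieldAutClassPOmegaMinus m x ∧ Nat.Coprime p (Nat.card ↥(MonoidHom.eqLocus x.toMonoidHom (MonoidHom.id (Cfsg.POmega F (Cfsg.quadFormMinus m F a b)))))) := by
  have h2 : (2 : F) = 0 → p ≠ 2 := fun h e => hpr (e.trans (((Nat.prime_dvd_prime_iff_eq (Fact.out : r.Prime)
    Nat.prime_two).1 ((CharP.cast_eq_zero_iff F r 2).1 (by exact_mod_cast h))).symm))
  have key : ∀ (A' : Subgroup (MulAut (Cfsg.POmega F ⇑(Cfsg.Agent.Small.Orth.qMinus m a b)))),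
      (∀ k, MulAut.conj k ∈ A') → ∀ y : MulAut (Cfsg.POmega F ⇑(Cfsg.Agent.Small.Orth.qMinus m a b)), orderOf y = p →
      ¬ (∃ g : GL ((Fin m ⊕ Fin m) ⊕ Fin 2) F,
        g ∈ Cfsg.Geo.quadSimilarityGroup (F := F) ⇑(Cfsg.Agent.Small.Orth.qMinus m a b) ∧
        Cfsg.PreservesSingularClassesMinus m a b g.1 ∧
        Cfsg.IsInducedBySemilinearPOmega ⇑(Cfsg.Agent.Small.Orth.qMinus m a b) g (RingEquiv.refl F) y) →
      (p = 2 ∧ Cfsg.pPrimeCore p ↥(A' ⊓ Subgroup.centralizer {y}) = ⊥) ∨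
      ∃ a' b' : F, (∀ z₁ z₂ : F, z₁ ^ 2 + a' * z₁ * z₂ + b' * z₂ ^ 2 = 0 → z₁ = 0 ∧ z₂ = 0) ∧
        (∃ (ψ : Cfsg.POmega F ⇑(Cfsg.Agent.Small.Orth.qMinus m a b) ≃*
            Cfsg.POmega F ⇑(Cfsg.Agent.Small.Orth.qMinus m a' b')) (σ : F ≃+* F),
          σ ≠ RingEquiv.refl F ∧ σ a' = a' ∧ σ b' = b' ∧
            Cfsg.IsFieldAutPOmegaOf ⇑(Cfsg.Agent.Small.Orth.qMinus m a' b') σ ((ψ.symm.trans y).trans ψ)) ∧
        (Cfsg.pPrimeCore p ↥(A' ⊓ Subgroup.centralizer {y}) ≠ ⊥ ↔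
          Nat.Coprime p (Nat.card (MonoidHom.eqLocus y.toMonoidHom
            (MonoidHom.id (Cfsg.POmega F ⇑(Cfsg.Agent.Small.Orth.qMinus m a b)))))) :=
    fun A' hA' y hy hn => Cfsg.Agent.Small.OrthAut.balance_minus hm hab A' hA' h2 y hy fun g hg e =>
      hn ⟨g.1, g.2, (Cfsg.Agent.Small.OrthAut.preserves_evenK_minus hm hab g).2 hg,
        (Cfsg.Agent.Small.Orth.induced_iff g y).2 e⟩
  rw [Cfsg.Agent.Classical.OOmega.coe_minus] at key
  rcases key A hinn x hord hnot with ⟨rfl, hbot⟩ | ⟨a', b', hab', hψ, hiff⟩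
  · refine iff_of_false (fun h => h hbot) ?_
    rintro ⟨⟨a', b', ψ, σ, hab', hσ, ha, hb, hφ⟩, -⟩
    have key2 : ∀ (ψ' : Cfsg.POmega F ⇑(Cfsg.Agent.Small.Orth.qMinus m a b) ≃*
        Cfsg.POmega F ⇑(Cfsg.Agent.Small.Orth.qMinus m a' b'))
        (y : MulAut (Cfsg.POmega F ⇑(Cfsg.Agent.Small.Orth.qMinus m a b))),
        Cfsg.IsFieldAutPOmegaOf ⇑(Cfsg.Agent.Small.Orth.qMinus m a' b') σ ((ψ'.symm.trans y).trans ψ') →
        orderOf y = 2 → Odd 2 :=
      fun ψ' y hy hy2 =>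
        (Cfsg.Agent.Small.OrthAut.minus_desc.{_, 0} hm hab hab' ψ' hσ ha hb hy Nat.prime_two hy2).2.1
    rw [Cfsg.Agent.Classical.OOmega.coe_minus, Cfsg.Agent.Classical.OOmega.coe_minus] at key2
    exact absurd (key2 ψ x hφ hord) (by decide)
  · rw [Cfsg.Agent.Classical.OOmega.coe_minus] at hψ
    obtain ⟨ψ, σ, hψ⟩ := hψ
    rw [hiff, iff_and_self]
    exact fun _ => ⟨a', b', ψ, σ, hab', hψ⟩

end Cfsg.Agent.S2733
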