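import Cfsg.Statements.S2734
import Cfsg.Agent.Lib.Small.FoldG2
import Cfsg.Agent.Lib.Small.FoldAgree
-- import your own Cfsg.Agent.* helpers here

set_option autoImplicit false
open Cfsg

namespace Cfsg.Agent.S2734

/-- In the Chevalley group of type D₄ over a finite field F (the matrix group generated by the root elements), a graph automorphism attached to a symmetry π of the Dynkin diagram (sending each fundamental root element x_p(t) to x_{π(p)}(t) and each x_{−p}(t) to x_{−π(p)}(t)) that has order 3 — a standard triality graph automorphism, π being a 3-cycle of the three outer nodes — has fixed-point subgroup isomorphic to the Chevalley group of type G₂ over F. -/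
theorem result {F : Type*} [Field F] [Fintype F] (τ : MulAut ↥(Cfsg.Lie.chevD4.group F)) (hτ : Cfsg.Lie.chevD4.IsGraphAut τ) (hτ3 : orderOf τ = 3) :
    Nonempty (↥(MonoidHom.eqLocus τ.toMonoidHom (MonoidHom.id ↥(Cfsg.Lie.chevD4.group F))) ≃* ↥(Cfsg.Lie.chevG2.group F)) := by
  classical
  have hlong : ∀ i : Fin Cfsg.Lie.chevD4.rank, Cfsg.Lie.chevD4.isLong (Cfsg.Lie.chevD4.simple i.val) = false := by
    decide +kernel
  obtain ⟨π, hπ, hact⟩ := Small.Fold.exists_actsBy Lie.factsD4 hlong hτ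
  have hcases : ∀ π : Equiv.Perm (Fin Cfsg.Lie.chevD4.rank), Cfsg.Lie.chevD4.IsDiagramSymmetry π →
      (∀ i, π i = Lie.D4.σ i) ∨ (∀ i, π (Lie.D4.σ i) = i) ∨ ∀ i, π (π i) = i := by
    unfold Cfsg.Lie.ChevalleyDatum.IsDiagramSymmetry
    decide +kernel
  obtain ⟨T, hR, hs, hfr, -⟩ := Lie.factsD4.exists_twist (Lie.modField_zero F) Lie.okMap_D4a
    (Lie.stHyp_of_mem (by simp)) Lie.okOrder_D4a (RingHom.id F) (fun t => (pow_one t).symm) Lie.D4.σ
    Lie.D4.okTwist_σ (RingHom.id F)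
  have hfr' : ∀ t, T.fr t = t := fun t => by rw [hfr]; rfl
  have hexp : ∀ r, r < Cfsg.Lie.chevD4.nroots → T.R.expo r = 1 := by rw [hR]; decide +kernel
  have hneg : ∀ i : Fin Cfsg.Lie.chevD4.rank,
      T.R.sign (Cfsg.Lie.chevD4.neg (Cfsg.Lie.chevD4.simple i.val)) = 1 := by rw [hR]; decide +kernel
  obtain ⟨e₂⟩ := Small.FoldG2.main T hR hs hfr'
  have conclude : ∀ φ : MulAut ↥(Cfsg.Lie.chevD4.group F), Small.Fold.ActsBy Lie.factsD4 φ T.σ →
      (∀ x, φ x = x ↔ τ x = x) →
      Nonempty (↥(MonoidHom.eqLocus τ.toMonoidHom (MonoidHom.id ↥(Cfsg.Lie.chevD4.group F))) ≃*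
        ↥(Cfsg.Lie.chevG2.group F)) := by
    intro φ hφ hiff
    obtain ⟨e₁⟩ := Small.Fold.iso_of_actsBy T φ hfr' hexp hneg hφ
    have he : MonoidHom.eqLocus τ.toMonoidHom (MonoidHom.id ↥(Cfsg.Lie.chevD4.group F)) =
        MonoidHom.eqLocus φ.toMonoidHom (MonoidHom.id ↥(Cfsg.Lie.chevD4.group F)) :=
      Subgroup.ext fun x => (hiff x).symm
    exact ⟨((MulEquiv.subgroupCongr he).trans e₁).trans e₂⟩
  rcases hcases π hπ with h | h | h
  · refine conclude τ ?_ fun x => Iff.rfl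
    rw [hs]; rwa [show ⇑Lie.D4.σ = ⇑π from funext fun i => (h i).symm]
  · refine conclude τ⁻¹ ?_ fun x => ⟨fun hx => ?_, fun hx => ?_⟩
    · rw [hs]; exact hact.inv h
    · exact ((MulEquiv.symm_apply_eq τ).1 hx).symm
    · exact (MulEquiv.symm_apply_eq τ).2 hx.symm
  · exfalso
    have h2 : τ * τ = 1 := (hact.comp hact).eq_one h
    have hd : orderOf τ ∣ 2 := orderOf_dvd_of_pow_eq_one (by rw [pow_two, h2])
    rw [hτ3] at hd
    norm_num at hd

end Cfsg.Agent.S2734
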