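import Cfsg.Statements.S2737
import Cfsg.Agent.Lib.Small.OrthAut.FieldMinus

set_option autoImplicit false
open Cfsg

namespace Cfsg.Agent.S2737

/-- Let T = PΩ⁻_{2m+2}(F) (m ≥ 3; form with anisotropic binary part) and x a field automorphism of T of prime order r. Then an element y of the coset Inndiag(T)·x has order r if and only if y is conjugate to x by an element of Inndiag(T). (T has no graph-field automorphisms.) -/
theorem result {F : Type*} [Field F] [Fintype F] {m : ℕ} (hm : 3 ≤ m) (a b : F) (hab : (∀ z₁ z₂ : F, z₁ ^ 2 + a * z₁ * z₂ + b * z₂ ^ 2 = 0 → z₁ = 0 ∧ z₂ = 0)) (x δ : MulAut (Cfsg.POmega F (Cfsg.quadFormMinus m F a b))) (hx : Cfsg.IsFieldAutClassPOmegaMinus m x) {r : ℕ} (hr : r.Prime) (hxr : orderOf x = r) (hδ : δ ∈ Cfsg.inndiagPOmegaMinus m F a b) :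
    orderOf (δ * x) = r ↔ Cfsg.IsConjUnder (Cfsg.inndiagPOmegaMinus m F a b) x (δ * x) := by
  obtain ⟨a', b', ψ, σ, hab', hσ, ha, hb, hφ⟩ := hx
  have key : ∀ (ψ' : Cfsg.POmega F ⇑(Cfsg.Agent.Small.Orth.qMinus m a b) ≃*
        Cfsg.POmega F ⇑(Cfsg.Agent.Small.Orth.qMinus m a' b')) (y δ' : MulAut (Cfsg.POmega F ⇑(Cfsg.Agent.Small.Orth.qMinus m a b))),
      Cfsg.IsFieldAutPOmegaOf ⇑(Cfsg.Agent.Small.Orth.qMinus m a' b') σ ((ψ'.symm.trans y).trans ψ') → orderOf y = r →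
      δ' ∈ (Cfsg.Agent.Small.OrthAut.evenK (Cfsg.Agent.Small.Orth.qMinus m a b) (m + 1)).map
          (Cfsg.Agent.Small.Orth.rho ⇑(Cfsg.Agent.Small.Orth.qMinus m a b)) →
      (orderOf (δ' * y) = r ↔ Cfsg.IsConjUnder ((Cfsg.Agent.Small.OrthAut.evenK (Cfsg.Agent.Small.Orth.qMinus m a b) (m + 1)).map
          (Cfsg.Agent.Small.Orth.rho ⇑(Cfsg.Agent.Small.Orth.qMinus m a b))) y (δ' * y)) := by
    intro ψ' y δ' hy hyr hδ'
    obtain ⟨hord, -, hdesc⟩ := Cfsg.Agent.Small.OrthAut.minus_desc hm hab hab' ψ' hσ ha hb hy hr hyr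
    obtain ⟨F₀, _, _, j, hfix⟩ := Cfsg.Agent.Small.OrthAut.exists_fixed_field (σ : RingAut F)
    obtain ⟨a₀, b₀, hab₀, D, rfl⟩ := hdesc hfix
    rw [← hord]
    exact Cfsg.Agent.Small.OrthAut.minus_coset hm hab hab₀ D hδ'
  rw [← Cfsg.Agent.Small.OrthAut.inndiag_minus_eq hm hab] at key
  rw [Cfsg.Agent.Classical.OOmega.coe_minus, Cfsg.Agent.Classical.OOmega.coe_minus] at key
  exact key ψ x δ hφ hxr hδ

end Cfsg.Agent.S2737
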