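import Cfsg.Statements.S2756
import Cfsg.Agent.Lib.Local.InvertedTwoClosed

set_option autoImplicit false
open Cfsg

namespace Cfsg.Agent.S2756

open Cfsg.Agent.Local in
theorem result {G : Type*} [Group G] [Finite G] : ((∀ P : Sylow 2 G, (P : Subgroup G).Normal) ↔ ∀ (q : ℕ) [Fact q.Prime], q ≠ 2 → q ∣ Nat.card G → ∀ T : Sylow q G, ∀ P : Sylow 2 ↥(Subgroup.normalizer (Cfsg.centerThompsonAOf (T : Subgroup G) : Set G)), (P : Subgroup ↥(Subgroup.normalizer (Cfsg.centerThompsonAOf (T : Subgroup G) : Set G))).Normal) ∧ ((∀ P : Sylow 2 G, (P : Subgroup G).Normal) ↔ ∀ (q : ℕ) [Fact q.Prime], q ≠ 2 → ∀ T : Sylow q G, ∀ x ∈ (T : Subgroup G), x ≠ 1 → ∀ g ∈ Subgroup.normalizer (Cfsg.centerThompsonAOf (T : Subgroup G) : Set G), g * x * g⁻¹ ≠ x⁻¹) := by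
  haveI : Fact (Nat.Prime 2) := ⟨Nat.prime_two⟩
  refine ⟨⟨fun h q _ _ _ T P => InvControl.sylow_normal_of_subgroup h _ P, fun h => ?_⟩,
    ⟨fun h q _ hq T x hx hx1 g _ he => ?_, fun h => ?_⟩⟩
  · by_contra hno
    obtain ⟨q, hq, hq2, hI⟩ := InvControl.exists_inv_of_not_two_closed hno
    haveI : Fact q.Prime := ⟨hq⟩
    obtain ⟨T⟩ : Nonempty (Sylow q G) := inferInstance
    obtain ⟨x, hx, hx1, g, hg, he⟩ := InvControl.exists_inverted_mem_sylow hq2 hI T
    obtain ⟨k, hk⟩ := T.2 ⟨x, hx⟩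
    have hdvd : q ∣ Nat.card G := by
      refine dvd_trans ?_ (Subgroup.card_subgroup_dvd_card (T : Subgroup G))
      obtain ⟨m, hm⟩ := IsPGroup.iff_card.1 T.2
      rcases m with _ | m
      · rw [pow_zero] at hm
        exact absurd (Subgroup.mem_bot.1 ((Subgroup.card_eq_one.1 hm).le hx)) hx1
      · exact hm ▸ dvd_pow_self q m.succ_ne_zero
    have hxN : x ∈ Subgroup.normalizer (centerThompsonAOf (T : Subgroup G) : Set G) := by
      rw [← Fusion.zFam_comm_eq]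
      exact Fusion.replFamily_comm.normalizer_le_zFam _ (Subgroup.le_normalizer hx)
    exact InvControl.not_inv_of_two_closed hq2 (h q hq2 hdvd T)
      ⟨⟨x, hxN⟩, trivial, fun e => hx1 (congrArg Subtype.val e),
        ⟨k, Subtype.ext (show x ^ q ^ k = 1 from congrArg Subtype.val hk)⟩, ⟨g, hg⟩, trivial,
        Subtype.ext he⟩
  · obtain ⟨k, hk⟩ := T.2 ⟨x, hx⟩
    exact InvControl.not_inv_of_two_closed hq h
      ⟨x, trivial, hx1, ⟨k, congrArg Subtype.val hk⟩, g, trivial, he⟩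
  · by_contra hno
    obtain ⟨q, hq, hq2, hI⟩ := InvControl.exists_inv_of_not_two_closed hno
    haveI : Fact q.Prime := ⟨hq⟩
    obtain ⟨T⟩ : Nonempty (Sylow q G) := inferInstance
    obtain ⟨x, hx, hx1, g, hg, he⟩ := InvControl.exists_inverted_mem_sylow hq2 hI T
    exact h q hq2 T x hx hx1 g hg he

end Cfsg.Agent.S2756
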