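import Cfsg.Statements.S2762
import Cfsg.Agent.Lib.LocalEven.NaturalSL2
import Cfsg.Agent.Lib.Fusion.Cores

set_option autoImplicit false
open Cfsg
set_option maxHeartbeats 1600000

namespace Cfsg.Agent.S2762

theorem result {F : Type*} [Field F] [Fintype F] {p : ℕ} [Fact p.Prime] [CharP F p] : (∀ M : ↥(Cfsg.qdOver F), M ∈ Cfsg.pCore p ↥(Cfsg.qdOver F) ↔ ((M : Matrix.SpecialLinearGroup (Fin 3) F) : Matrix (Fin 3) (Fin 3) F) 0 0 = 1 ∧ ((M : Matrix.SpecialLinearGroup (Fin 3) F) : Matrix (Fin 3) (Fin 3) F) 0 1 = 0 ∧ ((M : Matrix.SpecialLinearGroup (Fin 3) F) : Matrix (Fin 3) (Fin 3) F) 1 0 = 0 ∧ ((M : Matrix.SpecialLinearGroup (Fin 3) F) : Matrix (Fin 3) (Fin 3) F) 1 1 = 1) ∧ ∃ K : Subgroup ↥(Cfsg.qdOver F), (∀ M : ↥(Cfsg.qdOver F), M ∈ K ↔ ((M : Matrix.SpecialLinearGroup (Fin 3) F) : Matrix (Fin 3) (Fin 3) F) 0 2 = 0 ∧ ((M : Matrix.SpecialLinearGroup (Fin 3) F) : Matrix (Fin 3) (Fin 3) F) 1 2 = 0) ∧ K ⊓ Cfsg.pCore p ↥(Cfsg.qdOver F)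 = ⊥ ∧ K ⊔ Cfsg.pCore p ↥(Cfsg.qdOver F) = ⊤ ∧ Nonempty (↥K ≃* Matrix.SpecialLinearGroup (Fin 2) F) ∧ Cfsg.IsNaturalSL2Module F (Cfsg.pCore p ↥(Cfsg.qdOver F)) K := by
  classical
  have hmem : ∀ M : Matrix.SpecialLinearGroup (Fin 3) F, M ∈ qdOver F ↔
      (M : Matrix (Fin 3) (Fin 3) F) 2 0 = 0 ∧ (M : Matrix (Fin 3) (Fin 3) F) 2 1 = 0 ∧
        (M : Matrix (Fin 3) (Fin 3) F) 2 2 = 1 := by
    intro M
    refine ⟨fun hM => ?_, fun hM => Subgroup.subset_closure hM⟩
    unfold qdOver at hM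
    induction hM using Subgroup.closure_induction with
    | mem x hx => exact hx
    | one => simp
    | mul a b _ _ ha hb =>
      rw [Matrix.SpecialLinearGroup.coe_mul]
      simp [Matrix.mul_apply, Fin.sum_univ_three, ha.1, ha.2.1, ha.2.2, hb.1, hb.2.1, hb.2.2]
    | inv a _ ha =>
      have hd := a.2
      rw [Matrix.det_fin_three, ha.1, ha.2.1, ha.2.2] at hd
      rw [Matrix.SpecialLinearGroup.coe_inv, Matrix.adjugate_fin_three]
      simp [ha.1, ha.2.1, ha.2.2]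
      linear_combination hd
  let m : ↥(qdOver F) → Matrix (Fin 3) (Fin 3) F := fun M => ((M : Matrix.SpecialLinearGroup (Fin 3) F) : Matrix (Fin 3) (Fin 3) F)
  have hrow : ∀ M, m M 2 0 = 0 ∧ m M 2 1 = 0 ∧ m M 2 2 = 1 := fun M => (hmem M).1 M.2
  have hmul : ∀ A B, m (A * B) = m A * m B := fun A B => rfl
  have hone : m 1 = 1 := rfl
  have hext : ∀ A B, m A = m B → A = B := fun A B h => Subtype.ext (Subtype.ext h)
  let blk : ↥(qdOver F) → Matrix.SpecialLinearGroup (Fin 2) F := fun M =>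
    ⟨!![m M 0 0, m M 0 1; m M 1 0, m M 1 1], by
      have hd := (M : Matrix.SpecialLinearGroup (Fin 3) F).2
      obtain ⟨h0, h1, h2⟩ := (hmem M).1 M.2
      rw [Matrix.det_fin_three, h0, h1, h2] at hd
      rw [Matrix.det_fin_two_of]
      linear_combination hd⟩
  let π : ↥(qdOver F) →* Matrix.SpecialLinearGroup (Fin 2) F := MonoidHom.mk' blk fun A B => by
    obtain ⟨h0, h1, -⟩ := hrow B
    apply Subtype.ext
    rw [Matrix.SpecialLinearGroup.coe_mul]
    show !![m (A * B) 0 0, m (A * B) 0 1; m (A * B) 1 0, m (A * B) 1 1] =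
      !![m A 0 0, m A 0 1; m A 1 0, m A 1 1] * !![m B 0 0, m B 0 1; m B 1 0, m B 1 1]
    rw [hmul, Matrix.mul_fin_two]
    ext i j
    fin_cases i <;> fin_cases j <;> simp [Matrix.mul_apply, Fin.sum_univ_three, h0, h1]
  let emb : Matrix.SpecialLinearGroup (Fin 2) F → Matrix.SpecialLinearGroup (Fin 3) F := fun g =>
    ⟨!![g.1 0 0, g.1 0 1, 0; g.1 1 0, g.1 1 1, 0; 0, 0, 1], by
      have hd := g.2
      rw [Matrix.det_fin_two] at hd
      simp [Matrix.det_fin_three]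
      linear_combination hd⟩
  let s : Matrix.SpecialLinearGroup (Fin 2) F →* ↥(qdOver F) :=
    MonoidHom.mk' (fun g => ⟨emb g, (hmem _).2 (by simp [emb])⟩) fun g h => by
      apply Subtype.ext
      apply Subtype.ext
      show (emb (g * h) : Matrix (Fin 3) (Fin 3) F) = (emb g : Matrix (Fin 3) (Fin 3) F) * (emb h : Matrix (Fin 3) (Fin 3) F)
      ext i j
      fin_cases i <;> fin_cases j <;>
        simp [emb, Matrix.SpecialLinearGroup.coe_mul, Matrix.mul_apply, Fin.sum_univ_three, Fin.sum_univ_two]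
  have hs : ∀ g i j, m (s g) i j = (!![g.1 0 0, g.1 0 1, 0; g.1 1 0, g.1 1 1, 0; 0, 0, 1] : Matrix (Fin 3) (Fin 3) F) i j :=
    fun g i j => rfl
  have hπs : ∀ g, π (s g) = g := fun g => by
    apply Subtype.ext
    show !![m (s g) 0 0, m (s g) 0 1; m (s g) 1 0, m (s g) 1 1] = g.1
    ext i j
    fin_cases i <;> fin_cases j <;> simp [hs]
  set N := π.ker
  have hker : ∀ M, M ∈ N ↔ m M 0 0 = 1 ∧ m M 0 1 = 0 ∧ m M 1 0 = 0 ∧ m M 1 1 = 1 := fun M => by
    rw [MonoidHom.mem_ker]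
    constructor
    · intro h
      have h' : !![m M 0 0, m M 0 1; m M 1 0, m M 1 1] = (1 : Matrix (Fin 2) (Fin 2) F) := congrArg Subtype.val h
      refine ⟨?_, ?_, ?_, ?_⟩
      · simpa using congrFun (congrFun h' 0) 0
      · simpa using congrFun (congrFun h' 0) 1
      · simpa using congrFun (congrFun h' 1) 0
      · simpa using congrFun (congrFun h' 1) 1
    · rintro ⟨a, b, c, d⟩
      apply Subtype.ext
      show !![m M 0 0, m M 0 1; m M 1 0, m M 1 1] = (1 : Matrix (Fin 2) (Fin 2) F)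
      rw [a, b, c, d, Matrix.one_fin_two]
  -- coordinates on the kernel
  let c : ↥(qdOver F) → Fin 2 → F := fun M => ![m M 0 2, m M 1 2]
  have hcmul : ∀ A ∈ N, ∀ B, c (A * B) = c A + c B := by
    intro A hA B
    obtain ⟨a, b, e, d⟩ := (hker A).1 hA
    obtain ⟨-, -, h2⟩ := hrow B
    funext i
    fin_cases i <;> simp [c, hmul, Matrix.mul_apply, Fin.sum_univ_three, a, b, e, d, h2, add_comm]
  have hcinj : ∀ A ∈ N, ∀ B ∈ N, c A = c B → A = B := by
    intro A hA B hB h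
    obtain ⟨a, b, e, d⟩ := (hker A).1 hA
    obtain ⟨a', b', e', d'⟩ := (hker B).1 hB
    obtain ⟨r0, r1, r2⟩ := hrow A
    obtain ⟨r0', r1', r2'⟩ := hrow B
    have h02 : m A 0 2 = m B 0 2 := congrFun h 0
    have h12 : m A 1 2 = m B 1 2 := congrFun h 1
    apply hext
    ext i j
    fin_cases i <;> fin_cases j <;> simp [a, b, e, d, a', b', e', d', r0, r1, r2, r0', r1', r2', h02, h12]
  have hc1 : c 1 = 0 := by funext i; fin_cases i <;> simp [c, hone]
  have hpow : ∀ A ∈ N, ∀ k : ℕ, c (A ^ k) = k • c A := by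
    intro A hA k
    induction k with
    | zero => rw [pow_zero, hc1, zero_smul]
    | succ k ih => rw [pow_succ, hcmul _ (pow_mem hA k), ih, succ_nsmul]
  have hNp : IsPGroup p ↥N := fun A => ⟨1, Subtype.ext (hcinj _ (pow_mem A.2 _) _ (one_mem N) (by
    rw [pow_one, hpow _ A.2, OneMemClass.coe_one, hc1]
    funext i
    simp [nsmul_eq_mul, CharP.cast_eq_zero F p]))⟩
  have hπsurj : Function.Surjective π := fun g => ⟨s g, hπs g⟩
  have hcore : pCore p ↥(qdOver F) = N := by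
    refine le_antisymm ?_ (Fusion.le_pCore hNp)
    obtain ⟨n, -, hn⟩ := FiniteField.card F p
    obtain ⟨P, hP⟩ := NatSL2.uni_sylow (F := F) (p := p) hn
    set I := (pCore p ↥(qdOver F)).map π
    haveI : I.Normal := Subgroup.Normal.map inferInstance π hπsurj
    have hI : I ≤ NatSL2.uni F := hP ▸ ((Fusion.isPGroup_pCore p _).map π).le_sylow_of_normal P
    intro A hA
    rw [MonoidHom.mem_ker]
    have h1 : π A ∈ I := ⟨A, hA, rfl⟩
    obtain ⟨a, ha⟩ := hI h1
    let w : Matrix.SpecialLinearGroup (Fin 2) F := ⟨!![0, 1; -1, 0], by simp [Matrix.det_fin_two]⟩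
    obtain ⟨b, hb⟩ := hI ((inferInstance : I.Normal).conj_mem _ h1 w)
    rw [← ha, eq_mul_inv_iff_mul_eq] at hb
    have h2 : ((NatSL2.u b * w : Matrix.SpecialLinearGroup (Fin 2) F) : Matrix (Fin 2) (Fin 2) F) 1 1 =
      ((w * NatSL2.u a : Matrix.SpecialLinearGroup (Fin 2) F) : Matrix (Fin 2) (Fin 2) F) 1 1 := by rw [hb]
    rw [Matrix.SpecialLinearGroup.coe_mul, Matrix.SpecialLinearGroup.coe_mul] at h2
    simp [NatSL2.u, w, Matrix.mul_apply, Fin.sum_univ_two] at h2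
    have ha0 : a = 0 := by simpa using h2
    rw [← ha, ha0]
    ext i j; fin_cases i <;> fin_cases j <;> simp [NatSL2.u]
  refine ⟨fun M => by rw [hcore]; exact hker M, s.range, fun M => ?_, ?_, ?_, ?_, ?_⟩
  · constructor
    · rintro ⟨g, rfl⟩
      exact ⟨hs g 0 2, hs g 1 2⟩
    · rintro ⟨h02, h12⟩
      refine ⟨π M, hext _ _ ?_⟩
      obtain ⟨r0, r1, r2⟩ := hrow M
      ext i j
      rw [hs]
      have e0 : (π M).1 = !![m M 0 0, m M 0 1; m M 1 0, m M 1 1] := rfl
      fin_cases i <;> fin_cases j <;> simp [e0, r0, r1, r2] <;> first | exact h02.symm | exact h12.symm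
  · rw [hcore, eq_bot_iff]
    intro M hM
    obtain ⟨⟨g, rfl⟩, h2⟩ := Subgroup.mem_inf.1 hM
    rw [MonoidHom.mem_ker, hπs] at h2
    simp [h2]
  · rw [hcore, eq_top_iff]
    intro M _
    have h1 : (s (π M))⁻¹ * M ∈ N := by
      rw [MonoidHom.mem_ker, map_mul, map_inv, hπs, inv_mul_cancel]
    have h2 := Subgroup.mul_mem_sup (S := s.range) ⟨π M, rfl⟩ h1
    rwa [mul_inv_cancel_left] at h2
  · exact ⟨(MonoidHom.ofInjective (Function.LeftInverse.injective hπs)).symm⟩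
  · rw [hcore]
    refine ⟨by rw [Subgroup.normalizer_eq_top]; exact le_top, π.comp s.range.subtype, ?_, ?_, ?_, ?_⟩
    · exact
      { toFun := fun A => c ((Additive.toMul A : ↥N) : ↥(qdOver F))
        invFun := fun v => Additive.ofMul (⟨⟨⟨!![1, 0, v 0; 0, 1, v 1; 0, 0, 1], by simp [Matrix.det_fin_three]⟩,
          (hmem _).2 (by simp)⟩, (hker _).2 (by simp [m])⟩ : ↥N)
        left_inv := fun A => Additive.toMul.injective (Subtype.ext (hcinj _ (SetLike.coe_mem _) _ (SetLike.coe_mem _) (by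
          funext i; fin_cases i <;> simp [c, m])))
        right_inv := fun v => by funext i; fin_cases i <;> simp [c, m]
        map_add' := fun A B => hcmul _ (Additive.toMul A).2 _ }
    · intro g
      exact ⟨⟨s g, g, rfl⟩, hπs g⟩
    · have hb : (π.comp s.range.subtype).ker = ⊥ := by
        rw [eq_bot_iff]
        rintro ⟨_, g, rfl⟩ hg
        rw [MonoidHom.mem_ker, MonoidHom.comp_apply, Subgroup.coe_subtype, hπs] at hg
        exact Subgroup.mem_bot.2 (Subtype.ext (by simp [hg]))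
      rw [hb, eq_comm, eq_bot_iff]
      rintro ⟨_, g, rfl⟩ hg
      have hc := Subgroup.mem_centralizer_iff.1 (Subgroup.mem_subgroupOf.1 hg)
      have key : ∀ v : Fin 2 → F, g.1 0 0 * v 0 + g.1 0 1 * v 1 = v 0 ∧ g.1 1 0 * v 0 + g.1 1 1 * v 1 = v 1 := by
        intro v
        let T : ↥(qdOver F) := ⟨⟨!![1, 0, v 0; 0, 1, v 1; 0, 0, 1], by simp [Matrix.det_fin_three]⟩, (hmem _).2 (by simp)⟩
        have h1 : T * s g = s g * T := hc T ((hker T).2 (by simp [T, m]))
        have h2 := congrArg (fun M => m M 0 2) h1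
        have h3 := congrArg (fun M => m M 1 2) h1
        simp [hmul, Matrix.mul_apply, Fin.sum_univ_three, hs, T, m] at h2 h3
        have hg0 : m (s g) 0 2 = 0 := hs g 0 2
        have hg1 : m (s g) 1 2 = 0 := hs g 1 2
        simp only [m] at hg0 hg1
        constructor
        · linear_combination -h2
        · linear_combination -h3
      obtain ⟨h00, h10⟩ := key ![1, 0]
      obtain ⟨h01, h11⟩ := key ![0, 1]
      simp at h00 h10 h01 h11
      have hg1 : g = 1 := by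
        ext i j; fin_cases i <;> fin_cases j <;> simp [h00, h10, h01, h11]
      exact Subgroup.mem_bot.2 (Subtype.ext (by simp [hg1]))
    · rintro ⟨_, g, rfl⟩ v
      have hn : (π.ker : Subgroup ↥(qdOver F)).Normal := inferInstance
      refine ⟨⟨_, hn.conj_mem _ v.2 (s g)⟩, rfl, ?_⟩
      show c (s g * (v : ↥(qdOver F)) * (s g)⁻¹) = Matrix.mulVec (π (s g)).1 (c (v : ↥(qdOver F)))
      rw [hπs]
      obtain ⟨r0, r1, r2⟩ := hrow (v : ↥(qdOver F))
      obtain ⟨a, b, e, d⟩ := (hker _).1 v.2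
      have k0 := hs g
      have k1 : ∀ i j, m (s g)⁻¹ i j = _ := fun i j => by rw [← map_inv]; exact hs g⁻¹ i j
      funext i
      fin_cases i <;>
        simp [c, hmul, Matrix.mul_apply, Fin.sum_univ_three, Fin.sum_univ_two, Matrix.mulVec, dotProduct, k0, k1, a, b, e, d, r0, r1, r2]

end Cfsg.Agent.S2762
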