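import Cfsg.Statements.S2763
import Cfsg.Agent.Lib.Fusion.QdNoControl
import Cfsg.Agent.Lib.LocalEven.CharP
-- import your own Cfsg.Agent.* helpers here

set_option autoImplicit false
open Cfsg

open Cfsg.Agent Cfsg.Agent.Fusion
open scoped Pointwise

namespace Cfsg.Agent.S2763

universe u

open Classical in
/-- the functor which sends every group isomorphic to `S` to the image of `T` -/
noncomputable def wFun {S : Type u} [Group S] (T : Subgroup S) (Q : Type u) [Group Q] : Subgroup Q :=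
  if h : Nonempty (S ≃* Q) then T.map h.some.toMonoidHom else Subgroup.center Q

theorem map_char_eq {S R : Type u} [Group S] [Group R] {T : Subgroup S} (hTc : T.Characteristic)
    (a b : S ≃* R) : T.map a.toMonoidHom = T.map b.toMonoidHom := by
  have h := Subgroup.characteristic_iff_map_eq.1 hTc (a.trans b.symm)
  conv_rhs => rw [← h]
  rw [Subgroup.map_map]
  congr 1
  ext x
  simp

theorem wFun_charP {p : ℕ} [Fact p.Prime] {S : Type u} [Group S] {T : Subgroup S} (hT : T ≠ ⊥)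
    (hTc : T.Characteristic) : Cfsg.IsCharPFunctor.{u} p (wFun T) := by
  refine ⟨fun Q _ _ hQ hQn => ?_, fun Q R _ _ _ _ φ => ?_⟩
  · unfold wFun
    split_ifs with h
    · intro h0
      exact hT ((Subgroup.map_eq_bot_iff_of_injective T h.some.injective).1 h0)
    · haveI := hQn
      exact (hQ.bot_lt_center).ne'
  · unfold wFun
    split_ifs with h h' h'
    · rw [Subgroup.map_map]
      exact map_char_eq hTc (h.some.trans φ) h'.some
    · exact absurd ⟨h.some.trans φ⟩ h'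
    · exact absurd ⟨h'.some.trans φ.symm⟩ h
    · refine le_antisymm ?_ fun r hr => ⟨φ.symm r, ?_, φ.apply_symm_apply r⟩
      · rintro _ ⟨x, hx, rfl⟩
        refine Subgroup.mem_center_iff.2 fun r => ?_
        obtain ⟨y, rfl⟩ := φ.surjective r
        show φ y * φ x = φ x * φ y
        rw [← map_mul, Subgroup.mem_center_iff.1 hx y, map_mul]
      · refine Subgroup.mem_center_iff.2 fun y => φ.injective ?_
        rw [map_mul, map_mul, φ.apply_symm_apply, Subgroup.mem_center_iff.1 hr]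



/-- In the group Qd(p) (p prime; the natural semidirect product of an elementary abelian group of order p² by SL₂(p)), the normalizer of every nontrivial characteristic subgroup of a Sylow p-subgroup S equals the normalizer of S, which is a proper subgroup; in particular no such characteristic subgroup is normal. -/
theorem result {p : ℕ} [Fact p.Prime] (S : Sylow p ↥(Cfsg.qd p)) (T : Subgroup ↥(S : Subgroup ↥(Cfsg.qd p))) (hT : T ≠ ⊥) (hTc : T.Characteristic) : Subgroup.normalizer ((T.map (S : Subgroup ↥(Cfsg.qd p)).subtype : Subgroup ↥(Cfsg.qd p)) : Set ↥(Cfsg.qd p)) = Subgroup.normalizer ((S : Subgroup ↥(Cfsg.qd p)) : Set ↥(Cfsg.qd p)) ∧ Subgroup.normalizer ((S : Subgroup ↥(Cfsg.qd p)) : Set ↥(Cfsg.qd p)) ≠ ⊤ := by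
  set e := MulEquiv.refl ↥(Cfsg.qd p)
  -- the standard Sylow subgroup is a conjugate of `S`
  obtain ⟨P, hP⟩ := (isPGroup_qdT e).exists_le_sylow
  have hPe : (P : Subgroup ↥(Cfsg.qd p)) = qdT e := qdT_maximal e P.isPGroup' hP
  obtain ⟨g, hg⟩ := MulAction.exists_smul_eq ↥(Cfsg.qd p) P S
  have hSg : (S : Subgroup ↥(Cfsg.qd p)) = cj (qdT e) g := by
    rw [← hg, ← hPe]; rfl
  have hgT : ∀ y, y ∈ qdT e ↔ g * y * g⁻¹ ∈ (S : Subgroup ↥(Cfsg.qd p)) := fun y => by
    rw [hSg, mem_cj]; simp [mul_assoc]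
  obtain ⟨ψ, hψ⟩ : ∃ ψ : ↥(S : Subgroup ↥(Cfsg.qd p)) ≃* ↥(qdT e), ∀ s, (ψ s : ↥(Cfsg.qd p)) = g⁻¹ * s * g :=
    ⟨{ toFun := fun s => ⟨g⁻¹ * s * g, (hgT _).2 (by simp [mul_assoc])⟩
       invFun := fun y => ⟨g * y * g⁻¹, (hgT _).1 y.2⟩
       left_inv := fun s => Subtype.ext (by simp [mul_assoc])
       right_inv := fun y => Subtype.ext (by simp [mul_assoc])
       map_mul' := fun a b => Subtype.ext (by simp [mul_assoc]) }, fun s => rfl⟩
  have hW := wFun_charP (p := p) hT hTc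
  have hWT : Cfsg.inducedFunctor (wFun T) (qdT e) = cj (T.map (S : Subgroup ↥(Cfsg.qd p)).subtype) g⁻¹ := by
    unfold Cfsg.inducedFunctor wFun
    rw [dif_pos ⟨ψ⟩, map_char_eq hTc (Nonempty.some _) ψ]
    ext y
    constructor
    · rintro ⟨_, ⟨s, hs, rfl⟩, rfl⟩
      rw [mem_cj, inv_inv]
      refine ⟨s, hs, ?_⟩
      show (s : ↥(Cfsg.qd p)) = g * (ψ s : ↥(Cfsg.qd p)) * g⁻¹
      rw [hψ]; group
    · intro hy
      rw [mem_cj, inv_inv] at hy
      obtain ⟨s, hs, hse⟩ := hy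
      refine ⟨ψ s, ⟨s, hs, rfl⟩, ?_⟩
      show (ψ s : ↥(Cfsg.qd p)) = y
      rw [hψ, show (s : ↥(Cfsg.qd p)) = g * y * g⁻¹ from hse]; group
  have hmain : Subgroup.normalizer ((T.map (S : Subgroup ↥(Cfsg.qd p)).subtype : Subgroup ↥(Cfsg.qd p)) : Set ↥(Cfsg.qd p)) ≤
      Subgroup.normalizer ((S : Subgroup ↥(Cfsg.qd p)) : Set ↥(Cfsg.qd p)) := by
    intro n hn
    obtain ⟨m, hm⟩ : ∃ m, m = g⁻¹ * n * g := ⟨_, rfl⟩
    have hmN : m ∈ Subgroup.normalizer ((Cfsg.inducedFunctor (wFun T) (qdT e) : Subgroup ↥(Cfsg.qd p)) : Set ↥(Cfsg.qd p)) := by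
      rw [hWT, ← cj_normalizer, mem_cj, hm, inv_inv]
      simpa [mul_assoc] using hn
    have hz := qdZ_stable e hW hmN (z := qdElt e 1 ![1, 0]) ⟨![1, 0], rfl, rfl⟩
    obtain ⟨R, v, hRv⟩ := qdElt_surj e m
    rw [← hRv, qdElt_conj] at hz
    obtain ⟨w, hw, hwe⟩ := hz
    have hw2 := (qdElt_inj e hwe).2
    have h10 : R.1 1 0 = 0 := by
      have h1 : R * 1 * R⁻¹ = 1 := by group
      rw [h1] at hw2
      have h2 := congrFun hw2 1
      rw [hw] at h2
      simpa [show (1 : Matrix.SpecialLinearGroup (Fin 2) (ZMod p)).1 = 1 from rfl, Matrix.mulVec, dotProduct,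
        Fin.sum_univ_two, Matrix.vecHead, Matrix.vecTail] using h2.symm
    have hmT : m ∈ Subgroup.normalizer (qdT e : Set ↥(Cfsg.qd p)) := by
      refine mem_normalizer_of_cj_le ?_
      rintro _ ⟨_, ⟨a, w', rfl⟩, rfl⟩
      show m * qdElt e (Dickson.upU a) w' * m⁻¹ ∈ qdT e
      rw [← hRv, qdElt_conj]
      obtain ⟨i1, i2, i3, i4⟩ := Dickson.inv_entries R
      have hd := Dickson.det_eq R
      rw [h10, mul_zero, sub_zero] at hd
      have hA : ∀ A : Matrix.SpecialLinearGroup (Fin 2) (ZMod p), A.1 1 0 = 0 → A.1 0 0 = 1 →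
          ∀ u, qdElt e A u ∈ qdT e := fun A h1 h2 u => ⟨A.1 0 1, u, by rw [← Dickson.eq_upU h1 h2]⟩
      have u00 : (Dickson.upU a).1 0 0 = 1 := by simp [Dickson.upU]
      have u01 : (Dickson.upU a).1 0 1 = a := by simp [Dickson.upU]
      have u10 : (Dickson.upU a).1 1 0 = 0 := by simp [Dickson.upU]
      have u11 : (Dickson.upU a).1 1 1 = 1 := by simp [Dickson.upU]
      refine hA _ ?_ ?_ _
      · simp [Dickson.mul_entry, u00, u01, u10, u11, i1, i3, h10]
      · simp [Dickson.mul_entry, u00, u01, u10, u11, i1, i3, h10]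
        linear_combination hd
    have hn' : n = g * m * g⁻¹ := by rw [hm]; group
    rw [hn', hSg, ← cj_normalizer]
    exact conj_mem_cj hmT
  refine ⟨le_antisymm hmain ?_, ?_⟩
  · haveI := hTc
    exact LocalEven.normalizer_le_char _ T
  · intro htop
    let w : Matrix.SpecialLinearGroup (Fin 2) (ZMod p) := ⟨!![0, -1; 1, 0], by simp [Matrix.det_fin_two]⟩
    have hin : g * qdElt e w 0 * g⁻¹ ∈ Subgroup.normalizer ((S : Subgroup ↥(Cfsg.qd p)) : Set ↥(Cfsg.qd p)) :=
      htop ▸ Subgroup.mem_top _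
    rw [hSg, ← cj_normalizer, mem_cj] at hin
    have h := normalizer_qdT e (R := w) (v := 0) (by simpa [mul_assoc] using hin)
    simp [w] at h

end Cfsg.Agent.S2763
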