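import Cfsg.Statements.S2773
import Cfsg.Agent.Lib.Fusion.ThreeTransfer.Main

set_option autoImplicit false
universe u
open Cfsg Cfsg.Agent.Fusion
open scoped Pointwise

namespace Cfsg.Agent.S2773

/-- For every nontrivial finite 3-group S there is a nontrivial characteristic subgroup K of S such that, in every finite group G containing S as a Sylow 3-subgroup, S ∩ G' is the product of S ∩ (C_G(Z(S)))' and S ∩ (N_G(K))' (derived subgroups; product taken elementwise). -/
theorem result {S : Type u} [Group S] [Finite S] [Nontrivial S] (hS : IsPGroup 3 S) : ∃ K : Subgroup S, K ≠ ⊥ ∧ K.Characteristic ∧ ∀ (G : Type u) [Group G] [Finite G] (τ : S →* G), Function.Injective τ → (∃ P : Sylow 3 G, (P : Subgroup G) = τ.range) → ∀ g : G, g ∈ τ.range ⊓ commutator G ↔ ∃ a ∈ τ.range ⊓ ⁅Subgroup.centralizer ((τ.range ⊓ Subgroup.centralizer (τ.range : Set G) : Subgroup G) : Set G), Subgroup.centralizer ((τ.range ⊓ Subgroup.centralizer (τ.range : Set G) : Subgroup G) : Set G)⁆,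 ∃ b ∈ τ.range ⊓ ⁅Subgroup.normalizer ((K.map τ : Subgroup G) : Set G), Subgroup.normalizer ((K.map τ : Subgroup G) : Set G)⁆, g = a * b := by
  classical
  haveI : Fact (Nat.Prime 3) := ⟨Nat.prime_three⟩
  have hV : IsCharPFunctor.{u} 3 (wV 3) := isCharPFunctor_wV (by decide)
  have hJ := isCharPFunctor_compJ hV
  refine ⟨compJ (wV 3) S, hJ.1 S hS inferInstance,
    Subgroup.characteristic_iff_map_eq.2 fun σ => hJ.2 S S hS σ, ?_⟩
  intro G _ _ τ hτ ⟨Q, hQ⟩ g
  set P := τ.range with hPdef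
  have hP : SylIn 3 P ⊤ := hQ ▸ sylIn_top Q
  have hKeq : inducedFunctor (compJ (wV 3)) P = (compJ (wV 3) S).map τ := by
    rw [hPdef, MonoidHom.range_eq_map,
      inducedFunctor_map_of_injOn hJ τ hτ.injOn (hS.to_subgroup ⊤)]
    refine congrArg (Subgroup.map τ) ?_
    exact hJ.2 _ _ (hS.to_subgroup ⊤) Subgroup.topEquiv
  have hNK : Subgroup.normalizer (P : Set G) ≤ Subgroup.normalizer ((compJ (wV 3) S).map τ : Set G) :=
    hKeq ▸ conjFunctor_normalizer_le (isConjugacyFunctor_induced hJ) hP.isPGroup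
  set C := Subgroup.centralizer ((P ⊓ Subgroup.centralizer (P : Set G) : Subgroup G) : Set G) with hC
  set NK := Subgroup.normalizer ((compJ (wV 3) S).map τ : Set G) with hNKdef
  have hn : P ⊓ ⁅NK, NK⁆ ≤ Subgroup.normalizer ((P ⊓ ⁅C, C⁆ : Subgroup G) : Set G) := by
    intro s hs
    have hPC : P ≤ C := Subgroup.le_centralizer_iff.1 inf_le_right
    exact mem_normalizer_iff_cj.2 (by
      rw [cj_inf, cj_commutator, cj_eq_self_of_mem hs.1, cj_eq_self_of_mem (hPC hs.1)])
  constructor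
  · intro hg
    have hsup : g ∈ (P ⊓ ⁅C, C⁆) ⊔ (P ⊓ ⁅NK, NK⁆) := by
      obtain ⟨T, hT, hf⟩ := (familyTransfer_iff _).1 (threeFam_transfer (p := 3) (by decide) G)
      have hle : P ⊓ ⁅(⊤ : Subgroup G), ⊤⁆ ≤ (P ⊓ ⁅C, C⁆) ⊔ (P ⊓ ⁅NK, NK⁆) := by
        rw [hf.sylow (isConjugacyFunctor_image (isCharPFunctor_threeFam (by decide))) hT hP]
        refine iSup₂_le ?_
        rintro _ ⟨W, rfl | rfl, rfl⟩
        · refine (inf_le_inf_left _ (Subgroup.commutator_mono inf_le_right inf_le_right)).trans ?_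
          beta_reduce
          rw [inducedFunctor_center]
          exact (inf_normalizer_center_le hP).trans
            (sup_le_sup_left (inf_le_inf_left _ (Subgroup.commutator_mono hNK hNK)) _)
        · refine (inf_le_inf_left _ (Subgroup.commutator_mono inf_le_right inf_le_right)).trans ?_
          beta_reduce
          rw [hKeq]
          exact le_sup_right
      exact hle ⟨hg.1, by rw [← commutator_def]; exact hg.2⟩
    rw [← SetLike.mem_coe, Subgroup.coe_mul_of_right_le_normalizer_left _ _ hn] at hsup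
    obtain ⟨a, ha, b, hb, rfl⟩ := hsup
    exact ⟨a, ha, b, hb, rfl⟩
  · rintro ⟨a, ha, b, hb, rfl⟩
    refine ⟨mul_mem ha.1 hb.1, mul_mem ?_ ?_⟩
    · exact (Subgroup.commutator_mono le_top le_top : ⁅C, C⁆ ≤ ⁅(⊤ : Subgroup G), ⊤⁆) ha.2
    · exact (Subgroup.commutator_mono le_top le_top : ⁅NK, NK⁆ ≤ ⁅(⊤ : Subgroup G), ⊤⁆) hb.2

end Cfsg.Agent.S2773
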