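import Cfsg.Statements.S2779
import Cfsg.Agent.Lib.LocalEven.NaturalSL2

set_option autoImplicit false
open Cfsg
open scoped commutatorElement

namespace Cfsg.Agent.S2779

theorem result {G : Type*} [Group G] [Finite G] {p : ℕ} [Fact p.Prime] {F : Type*} [Field F] [Fintype F] (n : ℕ) (hF : Fintype.card F = p ^ n) (V L : Subgroup G) (hnat : Cfsg.IsNaturalSL2Module F V L) (hf : L ⊓ Subgroup.centralizer (V : Set G) = ⊥) (S : Sylow p ↥L) (T : Subgroup G) (hT : T = ((S : Subgroup ↥L).map L.subtype)) : ⁅⁅V, T⁆, T⁆ = ⊥ ∧ Nat.card V = p ^ (2 * n) ∧ Nat.card ↥(V ⊓ Subgroup.centralizer ((T : Subgroup G) : Set G)) = p ^ n ∧ ∀ s ∈ T, s ≠ 1 → (V ⊓ Subgroup.centralizer ({s} : Set G)) = (V ⊓ Subgroup.centralizer ((T : Subgroup G) : Set G)) ∧ ⁅V, T⁆ = (V ⊓ Subgroup.centralizer ((T : Subgroup G) : Set G)) ∧ ⁅V, Subgroup.zpowers s⁆ = (V ⊓ Subgroup.centralizer ((T : Subgroup G) : Set G)) ∧ ∀ v ∈ V, v ∉ Subgroup.centralizer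 (T : Set G) → Subgroup.closure {x : G | ∃ t ∈ T, x = v * t * v⁻¹ * t⁻¹} = (V ⊓ Subgroup.centralizer ((T : Subgroup G) : Set G)) := by
  obtain ⟨D⟩ := NatSL2.exists_model hF hnat hf S hT
  have hTV : ∀ t ∈ T, ∀ v ∈ V, t * v * t⁻¹ ∈ V := fun t ht v hv => D.conj_mem (D.le ht) hv
  set A₀ : Subgroup G := V ⊓ Subgroup.centralizer ((T : Subgroup G) : Set G) with hA₀
  have hcle : ⁅V, T⁆ ≤ A₀ := by
    rw [Subgroup.commutator_le]
    intro v hv t ht
    obtain ⟨a, ha, -⟩ := D.exists_t ht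
    obtain ⟨h1, h2⟩ := D.comm_mem_fix ht hv ha
    rw [commutatorElement_def]
    exact D.mem_fix.2 ⟨h1, by rw [h2]; rfl⟩
  have hge : ∀ s ∈ T, s ≠ 1 → A₀ ≤ ⁅V, Subgroup.zpowers s⁆ := by
    intro s hs hs1 w hw
    obtain ⟨a, ha, ha0⟩ := D.exists_t hs
    obtain ⟨hwV, hw1⟩ := D.mem_fix.1 hw
    obtain ⟨v, hv, hcv⟩ := D.c_surj ![0, -(D.c w 0) / a]
    obtain ⟨h1, h2⟩ := D.comm_mem_fix hs hv ha
    have h3 : w = v * s * v⁻¹ * s⁻¹ := by
      refine D.c_inj hwV h1 ?_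
      rw [h2, hcv]
      funext i
      fin_cases i
      · simp only [Matrix.cons_val_one, Matrix.cons_val_fin_one]
        simp [mul_div_cancel₀ _ (ha0 hs1)]
      · simpa using hw1
    rw [h3]
    exact Subgroup.commutator_mem_commutator hv (Subgroup.mem_zpowers s)
  have hbot : ⁅⁅V, T⁆, T⁆ = ⊥ := by
    rw [Subgroup.commutator_eq_bot_iff_le_centralizer]
    exact hcle.trans inf_le_right
  have hVcard : Nat.card V = p ^ (2 * n) := by
    rw [Nat.card_congr (Additive.ofMul.trans D.ψ.toEquiv), Nat.card_fun, Nat.card_eq_fintype_card,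
      hF, Nat.card_eq_fintype_card, Fintype.card_fin, ← pow_mul, mul_comm]
  have hAcard : Nat.card ↥A₀ = p ^ n := by
    rw [← hF, ← Nat.card_eq_fintype_card]
    refine Nat.card_eq_of_bijective (fun w : ↥A₀ => D.c w 0) ⟨fun a b hab => ?_, fun x => ?_⟩
    · obtain ⟨ha, ha'⟩ := D.mem_fix.1 a.2
      obtain ⟨hb, hb'⟩ := D.mem_fix.1 b.2
      refine Subtype.ext (D.c_inj ha hb (funext fun i => ?_))
      fin_cases i
      · exact hab
      · exact ha'.trans hb'.symm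
    · obtain ⟨w, hw, hcw⟩ := D.c_surj ![x, 0]
      exact ⟨⟨w, D.mem_fix.2 ⟨hw, by rw [hcw]; rfl⟩⟩, by simp [hcw]⟩
  refine ⟨hbot, hVcard, hAcard, fun s hs hs1 => ⟨?_, ?_, ?_, fun v hv hvT => ?_⟩⟩
  · obtain ⟨a, ha, ha0⟩ := D.exists_t hs
    ext x
    rw [hA₀, D.mem_fix, Subgroup.mem_inf]
    refine and_congr_right fun hx => ?_
    rw [Subgroup.mem_centralizer_singleton_iff]
    rw [eq_comm (a := D.c x 1)]
    constructor
    · intro h
      exact ((mul_eq_zero.1 ((D.centralizes_iff hs hx ha).1 h.symm)).resolve_left (ha0 hs1)).symm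
    · intro h
      exact ((D.centralizes_iff hs hx ha).2 (by rw [← h, mul_zero])).symm
  · exact le_antisymm hcle ((hge s hs hs1).trans
      (Subgroup.commutator_mono le_rfl (Subgroup.zpowers_le.2 hs)))
  · exact le_antisymm ((Subgroup.commutator_mono le_rfl (Subgroup.zpowers_le.2 hs)).trans hcle)
      (hge s hs hs1)
  · have hv1 : D.c v 1 ≠ 0 := fun h => hvT (Subgroup.mem_inf.1 (D.mem_fix.2 ⟨hv, h⟩)).2
    refine le_antisymm ((Subgroup.closure_le _).2 ?_) fun w hw => ?_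
    · rintro _ ⟨t, ht, rfl⟩
      obtain ⟨a, ha, -⟩ := D.exists_t ht
      obtain ⟨h1, h2⟩ := D.comm_mem_fix ht hv ha
      exact D.mem_fix.2 ⟨h1, by rw [h2]; rfl⟩
    · obtain ⟨hwV, hw1⟩ := D.mem_fix.1 hw
      obtain ⟨t, htL, ht, ha⟩ := D.exists_of_a (-(D.c w 0) / D.c v 1)
      obtain ⟨h1, h2⟩ := D.comm_mem_fix ht hv ha
      refine Subgroup.subset_closure ⟨t, ht, D.c_inj hwV h1 ?_⟩
      rw [h2]
      funext i
      fin_cases i
      · simp [div_mul_cancel₀ _ hv1]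
      · simpa using hw1

end Cfsg.Agent.S2779
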