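import Cfsg.Statements.S2780
import Cfsg.Agent.Lib.LocalEven.NaturalSL2

set_option autoImplicit false
open Cfsg

namespace Cfsg.Agent.S2780

theorem result {G : Type*} [Group G] [Finite G] {p : ℕ} [Fact p.Prime] {F : Type*} [Field F] [Fintype F] (n : ℕ) (hF : Fintype.card F = p ^ n) (V L : Subgroup G) (hnat : Cfsg.IsNaturalSL2Module F V L) (hf : L ⊓ Subgroup.centralizer (V : Set G) = ⊥) (S : Sylow p ↥L) (T : Subgroup G) (hT : T = ((S : Subgroup ↥L).map L.subtype)) : (∀ g ∈ L, g ∉ Subgroup.normalizer (T : Set G) → Cfsg.IsInternalDirectProduct (V ⊓ Subgroup.centralizer ((T : Subgroup G) : Set G)) (V ⊓ Subgroup.centralizer ((T.map (MulAut.conj g).toMonoidHom : Subgroup G) : Set G)) V) ∧ (∀ x ∈ L, x ≠ 1 → (orderOf x).Coprime p → (V ⊓ Subgroup.centralizer ({x} : Set G)) = ⊥) ∧ (∀ U : Subgroup G, U ≤ (V ⊓ Subgroup.centralizer ((T : Subgroup G) : Set G)) → L ⊓ Subgroup.normalizer (T : Set G) ≤ Subgroup.normalizer (U : Set G) → U = ⊥ ∨ U =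 (V ⊓ Subgroup.centralizer ((T : Subgroup G) : Set G))) ∧ (∀ U : Subgroup G, (V ⊓ Subgroup.centralizer ((T : Subgroup G) : Set G)) ≤ U → U ≤ V → L ⊓ Subgroup.normalizer (T : Set G) ≤ Subgroup.normalizer (U : Set G) → U = (V ⊓ Subgroup.centralizer ((T : Subgroup G) : Set G)) ∨ U = V) := by
  classical
  obtain ⟨D⟩ := NatSL2.exists_model hF hnat hf S hT
  haveI : CharP F p := NatSL2.charP_of_card hF
  set A₀ : Subgroup G := V ⊓ Subgroup.centralizer ((T : Subgroup G) : Set G) with hA₀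
  -- the diagonal elements
  have hdiag : ∀ l : F, l ≠ 0 → ∃ g, ∃ hg : g ∈ L, g ∈ Subgroup.normalizer (T : Set G) ∧
      ((D.ρ ⟨g, hg⟩ : Matrix.SpecialLinearGroup (Fin 2) F) : Matrix (Fin 2) (Fin 2) F) = !![l, 0; 0, l⁻¹] := by
    intro l hl
    set M : Matrix.SpecialLinearGroup (Fin 2) F :=
      ⟨!![l, 0; 0, l⁻¹], by simp [Matrix.det_fin_two, hl]⟩ with hM
    refine ⟨D.ρ.symm M, SetLike.coe_mem _, ?_, by
      show ((D.ρ (D.ρ.symm M) : Matrix.SpecialLinearGroup (Fin 2) F) : Matrix (Fin 2) (Fin 2) F) = _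
      rw [D.ρ.apply_symm_apply]⟩
    rw [Subgroup.mem_normalizer_iff]
    intro t
    have key : ∀ (N : Matrix.SpecialLinearGroup (Fin 2) F) (a : F), (N : Matrix (Fin 2) (Fin 2) F) = !![l, 0; 0, l⁻¹] ∨ (N : Matrix (Fin 2) (Fin 2) F) = !![l⁻¹, 0; 0, l] →
        N * NatSL2.u a * N⁻¹ ∈ NatSL2.uni F := by
      intro N a hN
      rw [NatSL2.mem_uni]
      rcases hN with hN | hN
      · refine ⟨l * a * l, ?_⟩
        rw [eq_mul_inv_iff_mul_eq]
        ext i j
        rw [Matrix.SpecialLinearGroup.coe_mul, Matrix.SpecialLinearGroup.coe_mul, hN]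
        fin_cases i <;> fin_cases j <;> simp [NatSL2.u, Matrix.mul_apply, Fin.sum_univ_two, hl]
      · refine ⟨l⁻¹ * a * l⁻¹, ?_⟩
        rw [eq_mul_inv_iff_mul_eq]
        ext i j
        rw [Matrix.SpecialLinearGroup.coe_mul, Matrix.SpecialLinearGroup.coe_mul, hN]
        fin_cases i <;> fin_cases j <;> simp [NatSL2.u, Matrix.mul_apply, Fin.sum_univ_two, hl]
    constructor
    · intro ht
      have h1 := (D.mem (D.ρ.symm M * ⟨t, D.le ht⟩ * (D.ρ.symm M)⁻¹)).2 (by
        obtain ⟨a, ha, -⟩ := D.exists_t ht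
        rw [map_mul, map_mul, map_inv, D.ρ.apply_symm_apply, ha]
        exact key M a (Or.inl rfl))
      exact h1
    · intro ht
      have h0 := D.le ht
      have htL : t ∈ L := by
        have := L.mul_mem (L.mul_mem (L.inv_mem (D.ρ.symm M).2) h0) (D.ρ.symm M).2
        simpa [mul_assoc] using this
      refine (D.mem ⟨t, htL⟩).2 ?_
      obtain ⟨a, ha, -⟩ := D.exists_t ht
      have h1 : D.ρ ⟨t, htL⟩ = M⁻¹ * NatSL2.u a * M⁻¹⁻¹ := by
        rw [← ha, inv_inv, show (⟨(D.ρ.symm M : G) * t * ((D.ρ.symm M : ↥L) : G)⁻¹, D.le ht⟩ : ↥L) =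
          D.ρ.symm M * ⟨t, htL⟩ * (D.ρ.symm M)⁻¹ from rfl, map_mul, map_mul, map_inv, D.ρ.apply_symm_apply]
        group
      rw [h1]
      refine key _ a (Or.inr ?_)
      rw [Matrix.SpecialLinearGroup.coe_inv, hM]
      ext i j; fin_cases i <;> fin_cases j <;> simp [Matrix.adjugate_fin_two]
  refine ⟨fun g hg hgT => ?_, fun x hx hx1 hxp => ?_, fun U hU hUn => ?_, fun U hAU hUV hUn => ?_⟩
  · set M := (D.ρ ⟨g, hg⟩ : Matrix.SpecialLinearGroup (Fin 2) F) with hM
    have h10 : (M : Matrix (Fin 2) (Fin 2) F) 1 0 ≠ 0 := by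
      intro h0
      apply hgT
      rw [Subgroup.mem_normalizer_iff]
      have hdet : (M : Matrix (Fin 2) (Fin 2) F) 0 0 * (M : Matrix (Fin 2) (Fin 2) F) 1 1 = 1 := by
        have := M.2
        rw [Matrix.det_fin_two, h0, mul_zero, sub_zero] at this
        exact this
      have key : ∀ a : F, M * NatSL2.u a * M⁻¹ = NatSL2.u (M 0 0 * a * M 0 0) := by
        intro a
        rw [mul_inv_eq_iff_eq_mul]
        ext i j
        rw [Matrix.SpecialLinearGroup.coe_mul, Matrix.SpecialLinearGroup.coe_mul]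
        fin_cases i <;> fin_cases j <;>
          simp [NatSL2.u, Matrix.mul_apply, Fin.sum_univ_two, h0] <;> linear_combination ((M : Matrix (Fin 2) (Fin 2) F) 0 0 * a) * (-hdet)
      intro t
      constructor
      · intro ht
        obtain ⟨a, ha, -⟩ := D.exists_t ht
        refine (D.mem (⟨g, hg⟩ * ⟨t, D.le ht⟩ * ⟨g, hg⟩⁻¹)).2 ?_
        rw [map_mul, map_mul, map_inv, ha, ← hM, key]
        exact ⟨_, rfl⟩
      · intro ht
        obtain ⟨a, ha, -⟩ := D.exists_t ht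
        have htL : t ∈ L := by
          have := L.mul_mem (L.mul_mem (L.inv_mem hg) (D.le ht)) hg
          simpa [mul_assoc] using this
        refine (D.mem ⟨t, htL⟩).2 ⟨a / (M 0 0 * M 0 0), ?_⟩
        have hne : (M : Matrix (Fin 2) (Fin 2) F) 0 0 ≠ 0 := left_ne_zero_of_mul_eq_one hdet
        have h1 : M * D.ρ ⟨t, htL⟩ * M⁻¹ = NatSL2.u a := by
          rw [← ha, hM, ← map_inv, ← map_mul, ← map_mul]; rfl
        have h2 := key (a / (M 0 0 * M 0 0))
        rw [show M 0 0 * (a / (M 0 0 * M 0 0)) * M 0 0 = a by field_simp, ← h1] at h2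
        exact mul_left_cancel (mul_right_cancel h2)
    have hmem : ∀ v, v ∈ V ⊓ Subgroup.centralizer ((T.map (MulAut.conj g).toMonoidHom : Subgroup G) : Set G) ↔
        ∃ w ∈ A₀, v = g * w * g⁻¹ := by
      intro v
      constructor
      · intro hv
        obtain ⟨h1, h2⟩ := Subgroup.mem_inf.1 hv
        refine ⟨g⁻¹ * v * g, Subgroup.mem_inf.2 ⟨(Subgroup.mem_normalizer_iff''.1 (D.norm hg) v).1 h1,
          Subgroup.mem_centralizer_iff.2 fun t ht => ?_⟩, by group⟩
        have h3 := Subgroup.mem_centralizer_iff.1 h2 _ ⟨t, ht, rfl⟩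
        simp only [MulEquiv.coe_toMonoidHom, MulAut.conj_apply] at h3
        calc t * (g⁻¹ * v * g) = g⁻¹ * (g * t * g⁻¹ * v) * g := by group
          _ = g⁻¹ * (v * (g * t * g⁻¹)) * g := by rw [h3]
          _ = g⁻¹ * v * g * t := by group
      · rintro ⟨w, hw, rfl⟩
        obtain ⟨h1, h2⟩ := Subgroup.mem_inf.1 hw
        refine Subgroup.mem_inf.2 ⟨D.conj_mem hg h1, Subgroup.mem_centralizer_iff.2 ?_⟩
        rintro _ ⟨t, ht, rfl⟩
        simp only [MulEquiv.coe_toMonoidHom, MulAut.conj_apply]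
        calc g * t * g⁻¹ * (g * w * g⁻¹) = g * (t * w) * g⁻¹ := by group
          _ = g * (w * t) * g⁻¹ := by rw [Subgroup.mem_centralizer_iff.1 h2 t ht]
          _ = g * w * g⁻¹ * (g * t * g⁻¹) := by group
    refine ⟨inf_le_left, inf_le_left, ?_, ?_, ?_⟩
    · intro a ha b hb
      have hab := D.c_inj (mul_mem (Subgroup.mem_inf.1 ha).1 (Subgroup.mem_inf.1 hb).1)
        (mul_mem (Subgroup.mem_inf.1 hb).1 (Subgroup.mem_inf.1 ha).1)
      apply hab
      rw [D.c_mul (Subgroup.mem_inf.1 ha).1 (Subgroup.mem_inf.1 hb).1,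
        D.c_mul (Subgroup.mem_inf.1 hb).1 (Subgroup.mem_inf.1 ha).1, add_comm]
    · rw [eq_bot_iff]
      intro v hv
      obtain ⟨h1, h2⟩ := Subgroup.mem_inf.1 hv
      obtain ⟨w, hw, rfl⟩ := (hmem v).1 h2
      obtain ⟨hwV, hw1⟩ := D.mem_fix.1 hw
      obtain ⟨hvV, hv1⟩ := D.mem_fix.1 h1
      rw [D.c_conj hg hwV] at hv1
      simp only [Matrix.mulVec, dotProduct, Fin.sum_univ_two, hw1, mul_zero, add_zero, mul_eq_zero] at hv1
      have hwz : w = 1 := D.c_inj hwV (one_mem V) (by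
        rw [D.c_one]; funext i; fin_cases i
        · exact hv1.resolve_left h10
        · exact hw1)
      simp [hwz]
    · refine le_antisymm (sup_le inf_le_left inf_le_left) fun v hv => ?_
      obtain ⟨w, hwV, hcw⟩ := D.c_surj ![D.c v 1 / (M : Matrix (Fin 2) (Fin 2) F) 1 0, 0]
      have hw : w ∈ A₀ := D.mem_fix.2 ⟨hwV, by rw [hcw]; rfl⟩
      have hgw := D.conj_mem hg hwV
      have h2 : v * (g * w * g⁻¹)⁻¹ ∈ A₀ := by
        refine D.mem_fix.2 ⟨mul_mem hv (inv_mem hgw), ?_⟩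
        rw [D.c_mul hv (inv_mem hgw), D.c_inv hgw, D.c_conj hg hwV, hcw]
        simp [Matrix.mulVec, dotProduct, Fin.sum_univ_two, ← hM, mul_div_cancel₀ _ h10]
      have h3 := Subgroup.mul_mem_sup (T := V ⊓ Subgroup.centralizer ((T.map (MulAut.conj g).toMonoidHom : Subgroup G) : Set G))
        h2 ((hmem _).2 ⟨w, hw, rfl⟩)
      rwa [inv_mul_cancel_right] at h3
  · rw [eq_bot_iff]
    intro v hv
    obtain ⟨hvV, hvx⟩ := Subgroup.mem_inf.1 hv
    rw [Subgroup.mem_bot]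
    by_contra hv1
    apply hx1
    set M := (D.ρ ⟨x, hx⟩ : Matrix.SpecialLinearGroup (Fin 2) F) with hM
    have hfix : (M : Matrix (Fin 2) (Fin 2) F).mulVec (D.c v) = D.c v := by
      rw [hM, ← D.c_conj hx hvV]
      congr 1
      rw [mul_inv_eq_iff_eq_mul, Subgroup.mem_centralizer_singleton_iff.1 hvx]
    set N : Matrix (Fin 2) (Fin 2) F := (M : Matrix (Fin 2) (Fin 2) F) - 1 with hN
    have hcv : D.c v ≠ 0 := fun h => hv1 (D.c_inj hvV (one_mem V) (by rw [h, D.c_one]))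
    have hdN : N.det = 0 := Matrix.exists_mulVec_eq_zero_iff.1
      ⟨D.c v, hcv, by rw [hN, Matrix.sub_mulVec, hfix, Matrix.one_mulVec, sub_self]⟩
    have hdM := M.2
    rw [Matrix.det_fin_two] at hdM
    have htr : N 0 0 + N 1 1 = 0 := by
      rw [Matrix.det_fin_two] at hdN
      simp only [hN, Matrix.sub_apply, Matrix.one_apply_eq, ne_eq, zero_ne_one, one_ne_zero,
        not_false_eq_true, Matrix.one_apply_ne, sub_zero] at hdN ⊢
      linear_combination hdM - hdN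
    have hNN : N * N = 0 := by
      rw [Matrix.det_fin_two] at hdN
      ext i j
      rw [Matrix.mul_apply, Fin.sum_univ_two]
      fin_cases i <;> fin_cases j <;> simp
      · linear_combination (N 0 0) * htr - hdN
      · linear_combination (N 0 1) * htr
      · linear_combination (N 1 0) * htr
      · linear_combination (N 1 1) * htr - hdN
    have hMp : (M : Matrix (Fin 2) (Fin 2) F) ^ p = 1 := by
      have h1 : (M : Matrix (Fin 2) (Fin 2) F) = 1 + N := by rw [hN, add_sub_cancel]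
      haveI : CharP (Matrix (Fin 2) (Fin 2) F) p := Matrix.charP p
      rw [h1, add_pow_char_of_commute _ (Commute.one_left N), one_pow]
      obtain ⟨k, hk⟩ := Nat.exists_eq_add_of_le (Fact.out : p.Prime).two_le
      rw [hk, pow_add, pow_two, hNN, zero_mul, add_zero]
    have hxp1 : x ^ p = 1 := by
      have h1 : D.ρ ((⟨x, hx⟩ : ↥L) ^ p) = D.ρ 1 := by
        rw [map_pow, map_one, ← hM]
        apply Subtype.ext
        rw [Matrix.SpecialLinearGroup.coe_pow, hMp, Matrix.SpecialLinearGroup.coe_one]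
      simpa using congrArg Subtype.val (D.ρ.injective h1)
    exact orderOf_eq_one_iff.1 (Nat.eq_one_of_dvd_coprimes hxp dvd_rfl (orderOf_dvd_of_pow_eq_one hxp1))
  · refine or_iff_not_imp_left.2 fun hne => le_antisymm hU fun w hw => ?_
    obtain ⟨u, hu, hu1⟩ := U.bot_or_exists_ne_one.resolve_left hne
    obtain ⟨huV, hu'⟩ := D.mem_fix.1 (hU hu)
    obtain ⟨hwV, hw'⟩ := D.mem_fix.1 hw
    have hu0 : D.c u 0 ≠ 0 := fun h => hu1 (D.c_inj huV (one_mem V) (by
      rw [D.c_one]; funext i; fin_cases i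
      · exact h
      · exact hu'))
    rcases eq_or_ne (D.c w 0) 0 with h0 | h0
    · rw [D.c_inj hwV (one_mem V) (by
        rw [D.c_one]; funext i; fin_cases i
        · exact h0
        · exact hw')]
      exact one_mem U
    obtain ⟨g, hg, hgT, hgρ⟩ := hdiag (D.c w 0 / D.c u 0) (div_ne_zero h0 hu0)
    have h1 := (Subgroup.mem_normalizer_iff.1 (hUn (Subgroup.mem_inf.2 ⟨hg, hgT⟩)) u).1 hu
    rwa [D.c_inj (D.conj_mem hg huV) hwV ?_] at h1
    rw [D.c_conj hg huV, hgρ]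
    funext i
    fin_cases i
    · simp [Matrix.mulVec, dotProduct, Fin.sum_univ_two, hu', hu0]
    · simp [Matrix.mulVec, dotProduct, Fin.sum_univ_two, hu', hw']
  · refine or_iff_not_imp_left.2 fun hne => le_antisymm hUV fun w hw => ?_
    obtain ⟨u, hu, hu1⟩ : ∃ u ∈ U, D.c u 1 ≠ 0 := by
      by_contra! hno
      exact hne (le_antisymm (fun u hu => D.mem_fix.2 ⟨hUV hu, hno u hu⟩) hAU)
    have huV := hUV hu
    rcases eq_or_ne (D.c w 1) 0 with h0 | h0
    · exact hAU (D.mem_fix.2 ⟨hw, h0⟩)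
    obtain ⟨g, hg, hgT, hgρ⟩ := hdiag (D.c u 1 / D.c w 1) (div_ne_zero hu1 h0)
    have h1 := (Subgroup.mem_normalizer_iff.1 (hUn (Subgroup.mem_inf.2 ⟨hg, hgT⟩)) u).1 hu
    have h2 : w * (g * u * g⁻¹)⁻¹ ∈ A₀ := by
      refine D.mem_fix.2 ⟨mul_mem hw (inv_mem (D.conj_mem hg huV)), ?_⟩
      rw [D.c_mul hw (inv_mem (D.conj_mem hg huV)), D.c_inv (D.conj_mem hg huV), D.c_conj hg huV, hgρ]
      simp [Matrix.mulVec, dotProduct, Fin.sum_univ_two, hu1, h0]
    have h3 := mul_mem (hAU h2) h1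
    rwa [inv_mul_cancel_right] at h3

end Cfsg.Agent.S2780
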