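import Cfsg.Statements.S2781
import Cfsg.Agent.Lib.Fusion.Cores

set_option autoImplicit false
open Cfsg
open scoped commutatorElement

namespace Cfsg.Agent.S2781

theorem result {G : Type*} [Group G] [Finite G] {p : ℕ} [Fact p.Prime] (V H : Subgroup G) (hV : Cfsg.IsElementaryAbelian p V) (hHV : H ≤ Subgroup.normalizer (V : Set G)) (hf : H ⊓ Subgroup.centralizer (V : Set G) = ⊥) (R : Subgroup G) (hR : R = (Cfsg.pResidual p ↥H).map H.subtype) (S : Sylow p ↥R) (T : Subgroup G) (hT : T = ((S : Subgroup ↥R).map R.subtype)) (hgen : ∀ W : Subgroup G, H ≤ Subgroup.normalizer (W : Set G) → (V ⊓ Subgroup.centralizer ((T : Subgroup G) : Set G)) ≤ W → V ≤ W) : ⁅V, R⁆ ⊔ (V ⊓ Subgroup.centralizer ((R : Subgroup G) : Set G)) = V := by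
  classical
  subst hT
  set T : Subgroup G := (S : Subgroup ↥R).map R.subtype
  haveI : IsMulCommutative ↥V := hV.1
  have hcomm : ∀ a ∈ V, ∀ b ∈ V, a * b = b * a := fun a ha b hb =>
    congrArg Subtype.val (mul_comm' (⟨a, ha⟩ : ↥V) ⟨b, hb⟩)
  haveI : (pResidual p ↥H).Normal := inferInstance
  have hRH : R ≤ H := hR ▸ Subgroup.map_subtype_le _
  have hHR : H ≤ Subgroup.normalizer (R : Set G) :=
    (Subgroup.normal_subgroupOf_iff_le_normalizer hRH).1 (by
      rw [hR, Subgroup.subgroupOf, Subgroup.comap_map_eq_self_of_injective H.subtype_injective]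
      infer_instance)
  have hRV := hRH.trans hHV
  set W : Subgroup G := ⁅V, R⁆ ⊔ (V ⊓ Subgroup.centralizer ((R : Subgroup G) : Set G))
  have hVR : ⁅V, R⁆ ≤ V := Subgroup.le_normalizer_iff_commutator_le_left.1 hRV
  have hWV : W ≤ V := sup_le hVR inf_le_left
  refine le_antisymm hWV (hgen W ?_ ?_)
  · intro h hh
    rw [Subgroup.mem_normalizer_iff_map_conj_eq, Subgroup.map_sup, Subgroup.map_commutator,
      Subgroup.map_inf _ _ _ (MulAut.conj h).injective,
      Subgroup.mem_normalizer_iff_map_conj_eq.1 (hHV hh),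
      Subgroup.mem_normalizer_iff_map_conj_eq.1 (hHR hh)]
    congr 2
    refine le_antisymm ?_ ?_
    · rintro _ ⟨x, hx, rfl⟩
      refine Subgroup.mem_centralizer_iff.2 fun r hr => ?_
      have hr' := (Subgroup.mem_normalizer_iff''.1 (hHR hh) r).1 hr
      have h1 := congrArg (fun z => h * z * h⁻¹) (Subgroup.mem_centralizer_iff.1 hx _ hr')
      simpa [mul_assoc] using h1
    · intro x hx
      refine ⟨h⁻¹ * x * h, Subgroup.mem_centralizer_iff.2 fun r hr => ?_, by simp [mul_assoc]⟩
      have hr' := (Subgroup.mem_normalizer_iff.1 (hHR hh) r).1 hr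
      have h1 := congrArg (fun z => h⁻¹ * z * h) (Subgroup.mem_centralizer_iff.1 hx _ hr')
      simpa [mul_assoc] using h1
  · intro v hv
    obtain ⟨hvV, hvT⟩ := Subgroup.mem_inf.1 hv
    -- averaging over the cosets of `T` in `R`
    haveI : Fintype (↥R ⧸ (S : Subgroup ↥R)) := Fintype.ofFinite _
    letI : CommGroup ↥V := { (inferInstance : Group ↥V) with mul_comm := mul_comm' }
    have hmemV : ∀ r : ↥R, (r : G) * v * (r : G)⁻¹ ∈ V := fun r =>
      (Subgroup.mem_normalizer_iff.1 (hRV r.2) v).1 hvV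
    let f : ↥R ⧸ (S : Subgroup ↥R) → ↥V := Quotient.lift (fun r : ↥R => (⟨_, hmemV r⟩ : ↥V))
      (fun a b hab => Subtype.ext (by
        have ht : ((a⁻¹ * b : ↥R) : G) ∈ T := ⟨_, QuotientGroup.leftRel_apply.1 hab, rfl⟩
        have h1 := Subgroup.mem_centralizer_iff.1 hvT _ ht
        simp only [Subgroup.coe_mul, Subgroup.coe_inv] at h1
        have h2 := congrArg (fun z => (a : G) * z * (b : G)⁻¹) h1
        simpa [mul_assoc] using h2.symm))
    set m := Fintype.card (↥R ⧸ (S : Subgroup ↥R))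
    set P : ↥V := ∏ x, f x
    have hfix : (P : G) ∈ V ⊓ Subgroup.centralizer ((R : Subgroup G) : Set G) := by
      refine Subgroup.mem_inf.2 ⟨P.2, Subgroup.mem_centralizer_iff.2 fun r hr => ?_⟩
      let c : ↥V →* ↥V := MonoidHom.mk'
        (fun y => ⟨r * y * r⁻¹, (Subgroup.mem_normalizer_iff.1 (hRV hr) y).1 y.2⟩)
        (fun y z => Subtype.ext (by simp [mul_assoc]))
      have h1 : c P = P := by
        rw [map_prod]
        refine Fintype.prod_equiv (MulAction.toPerm (⟨r, hr⟩ : ↥R)) _ _ fun x => ?_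
        induction x using Quotient.inductionOn with
        | h a => exact Subtype.ext (by
            show r * ((a : G) * v * (a : G)⁻¹) * r⁻¹ = ((r * a : G)) * v * (r * a)⁻¹
            group)
      have h2 : r * (P : G) * r⁻¹ = P := congrArg Subtype.val h1
      exact mul_inv_eq_iff_eq_mul.1 h2
    have hdiff : ∀ x, ((f x : ↥V) : G) * v⁻¹ ∈ W := by
      intro x
      induction x using Quotient.inductionOn with
      | h a =>
        refine Subgroup.mem_sup_left ?_
        show (a : G) * v * (a : G)⁻¹ * v⁻¹ ∈ _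
        rw [Subgroup.commutator_comm]
        exact Subgroup.commutator_mem_commutator a.2 hvV
    have hvm : v ^ m ∈ W := by
      have h1 : (∏ x, f x * (⟨v, hvV⟩ : ↥V)⁻¹ : ↥V) = P * ((⟨v, hvV⟩ : ↥V) ^ m)⁻¹ := by
        rw [Finset.prod_mul_distrib, Finset.prod_const, inv_pow, Finset.card_univ]
      have h2 : ((∏ x, f x * (⟨v, hvV⟩ : ↥V)⁻¹ : ↥V) : G) ∈ W :=
        show _ ∈ W.subgroupOf V from Subgroup.prod_mem _ fun x _ => hdiff x
      rw [h1] at h2
      have h3 : (P : G) * (v ^ m)⁻¹ ∈ W := h2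
      exact inv_mem_iff.1 ((W.mul_mem_cancel_left (Subgroup.mem_sup_right hfix)).1 h3)
    have hco : (p).Coprime m := by
      rw [(Fact.out : p.Prime).coprime_iff_not_dvd, show m = (S : Subgroup ↥R).index by
        rw [Subgroup.index_eq_card, Nat.card_eq_fintype_card]]
      exact S.not_dvd_index
    have hvp : orderOf v ∣ p := orderOf_dvd_of_pow_eq_one (hV.2 v hvV)
    obtain ⟨k, hk⟩ := Nat.exists_mul_mod_eq_one_of_coprime hco.symm (Fact.out : p.Prime).one_lt
    have h1 : (v ^ m) ^ k = v := by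
      rw [← pow_mul, ← pow_mod_orderOf]
      rcases (Nat.dvd_prime (Fact.out : p.Prime)).1 hvp with h | h
      · rw [h, Nat.mod_one, pow_zero, orderOf_eq_one_iff.1 h]
      · rw [h, hk.2, pow_one]
    exact h1 ▸ pow_mem hvm k

end Cfsg.Agent.S2781
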