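import Cfsg.Statements.S2787
import Cfsg.Agent.Lib.Local.QuadraticRelation
import Cfsg.Agent.Lib.Small.Ree.SylowTwo
import Cfsg.Agent.Lib.Solv.Zipper

set_option autoImplicit false
open Cfsg
open scoped commutatorElement

namespace Cfsg.Agent.S2787

theorem result {G : Type*} [Group G] [Finite G] {p : ℕ} [Fact p.Prime] (V H : Subgroup G) (hV : Cfsg.IsElementaryAbelian p V) (hHV : H ≤ Subgroup.normalizer (V : Set G)) (hirr : ∀ U : Subgroup G, U ≤ V → H ≤ Subgroup.normalizer (U : Set G) → U = ⊥ ∨ U = V) (hnt : ¬ H ≤ Subgroup.centralizer (V : Set G)) [hn : ((Subgroup.centralizer (V : Set G)).subgroupOf H).Normal] (hq : (∃ (F : Type) (_ : Field F) (_ : Fintype F) (n : ℕ), Fintype.card F = p ^ n ∧ Odd (Fintype.card F) ∧ Nonempty (↥H ⧸ (Subgroup.centralizer (V : Set G)).subgroupOf H ≃* Matrix.ProjectiveSpecialLinearGroup (Fin 2) F)) ∨ (p = 3 ∧ Cfsg.Lie.IsoRee (↥H ⧸ (Subgroup.centralizer (V : Set G)).subgroupOf H))) (A : Subgroup G) (hA : A ≤ H) (hquad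 : ⁅⁅V, A⁆, A⁆ = ⊥) : ⁅V, A⁆ = ⊥ := by
  classical
  have hp2 : p ≠ 2 := by
    rcases hq with ⟨F, _, _, n, hn', hodd, -⟩ | ⟨h3, -⟩
    · rintro rfl
      rcases n.eq_zero_or_pos with rfl | hn0
      · have := Fintype.one_lt_card (α := F)
        rw [hn', pow_zero] at this
        omega
      · rw [hn', Nat.odd_pow_iff hn0.ne'] at hodd
        exact absurd hodd (by decide)
    · omega
  set C := Subgroup.centralizer (V : Set G) with hC
  have quad : ∀ a ∈ A, ∀ b ∈ A, ∀ v ∈ V, ⁅⁅v, a⁆, b⁆ = 1 := fun a ha b hb v hv =>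
    Subgroup.mem_bot.1 (hquad ▸ Subgroup.commutator_mem_commutator
      (Subgroup.commutator_mem_commutator hv ha) hb)
  suffices hAC : A ≤ C by
    rw [Subgroup.commutator_comm]
    exact Subgroup.commutator_eq_bot_iff_le_centralizer.2 hAC
  by_contra hAC
  obtain ⟨u, huA, huC⟩ := SetLike.not_le_iff_exists.1 hAC
  have conjq : ∀ h ∈ H, ∀ a ∈ A, ∀ v ∈ V, ⁅⁅v, h * a * h⁻¹⁆, h * a * h⁻¹⁆ = 1 := by
    intro h hh a ha v hv
    have hv' : h⁻¹ * v * h ∈ V :=
      (Subgroup.mem_normalizer_iff''.1 (hHV hh) v).1 hv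
    have e : ⁅⁅v, h * a * h⁻¹⁆, h * a * h⁻¹⁆ = h * ⁅⁅h⁻¹ * v * h, a⁆, a⁆ * h⁻¹ := by
      simp only [commutatorElement_def]; group
    rw [e, quad a ha a ha _ hv', mul_one, mul_inv_cancel]
  have hup : u ^ p ∈ C := by
    refine Subgroup.mem_centralizer_iff.2 fun v hv => ?_
    set d := ⁅u, v⁆ with hd
    have hdV : d ∈ V := by
      rw [hd, commutatorElement_def]
      exact mul_mem ((Subgroup.mem_normalizer_iff.1 (hHV (hA huA)) v).1 hv) (inv_mem hv)
    have hud : u * d = d * u := by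
      have h1 := quad u huA u huA v hv
      rw [commutatorElement_eq_one_iff_mul_comm, ← commutatorElement_inv u v] at h1
      exact (Commute.inv_left_iff.1 h1).eq.symm
    have key : ∀ n : ℕ, u ^ n * v = d ^ n * v * u ^ n := by
      intro n
      induction n with
      | zero => simp
      | succ n ih =>
        calc u ^ (n + 1) * v = u * (u ^ n * v) := by rw [pow_succ', mul_assoc]
          _ = (u * d ^ n) * v * u ^ n := by rw [ih]; simp only [mul_assoc]
          _ = d ^ n * (u * v) * u ^ n := by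
            rw [(Commute.pow_right hud n).eq]; simp only [mul_assoc]
          _ = d ^ (n + 1) * v * u ^ (n + 1) := by
            rw [show u * v = d * v * u by rw [hd, commutatorElement_def]; group, pow_succ d,
              pow_succ' u]; simp only [mul_assoc]
    rw [key, hV.2 d hdV, one_mul]
  set N := C.subgroupOf H with hN
  set π := QuotientGroup.mk' N with hπ
  rcases hq with ⟨F, _, _, n, hn', -, ⟨e⟩⟩ | ⟨hp3, hree⟩
  · set f := e.toMonoidHom.comp π with hf
    have hfs : Function.Surjective f := e.surjective.comp (QuotientGroup.mk'_surjective N)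
    have hker : ∀ z : H, f z = 1 ↔ (z : G) ∈ C := fun z => by
      show e (π z) = 1 ↔ _
      rw [e.map_eq_one_iff]
      exact (QuotientGroup.eq_one_iff z).trans Subgroup.mem_subgroupOf
    obtain ⟨g, h, hne, hsq⟩ := Cfsg.Agent.Local.QuadRel.psl_partner hn' (f ⟨u, hA huA⟩)
      (fun h1 => huC ((hker _).1 h1)) (by rw [← map_pow]; exact (hker _).2 hup)
    obtain ⟨g', rfl⟩ := hfs g
    obtain ⟨h', rfl⟩ := hfs h
    rw [← map_inv f ⟨u, hA huA⟩] at hne hsq
    simp only [← map_inv, ← map_mul] at hne hsq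
    refine hne ((hker _).2 ?_)
    exact Cfsg.Agent.Local.QuadRel.sq_relation hp2 V H hV hHV
      (x := g' * u * g'⁻¹) (y := h' * u⁻¹ * h'⁻¹)
      (mul_mem (mul_mem g'.2 (hA huA)) (inv_mem g'.2))
      (mul_mem (mul_mem h'.2 (inv_mem (hA huA))) (inv_mem h'.2))
      (conjq g' g'.2 u huA) (conjq h' h'.2 u⁻¹ (inv_mem huA)) ((hker _).1 hsq)
  · obtain ⟨K, _, _, m, hm, hK, ⟨e⟩⟩ := hree
    obtain ⟨S⟩ := Cfsg.Agent.Lie.G2.nonempty_setup hK
    haveI hs : IsSimpleGroup (↥H ⧸ N) :=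
      haveI := (S.simple hm).1
      MulEquiv.isSimpleGroup e
    have hpcore : Cfsg.pCore p (↥H ⧸ N) = ⊥ := by
      haveI : (Cfsg.pCore p (↥H ⧸ N)).Normal := inferInstance
      rcases this.eq_bot_or_eq_top with h0 | h0
      · exact h0
      · exfalso
        haveI : Fact (Nat.Prime 2) := ⟨Nat.prime_two⟩
        obtain ⟨P⟩ : Nonempty (Sylow 2 (Cfsg.Agent.Small.Ree.RG S)) := inferInstance
        have h8 := (Cfsg.Agent.Small.Ree.sylow_two S P).1
        have hpg : IsPGroup p (Cfsg.Agent.Small.Ree.RG S) :=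
          ((Cfsg.Agent.Fusion.isPGroup_pCore p (↥H ⧸ N)).of_equiv
            ((MulEquiv.subgroupCongr h0).trans Subgroup.topEquiv)).of_equiv e
        obtain ⟨k, hk⟩ := IsPGroup.iff_card.1 (hpg.to_subgroup (P : Subgroup _))
        rw [h8, hp3] at hk
        rcases k.eq_zero_or_pos with rfl | hk0
        · simp at hk
        · have := dvd_pow_self 3 hk0.ne'
          omega
    obtain ⟨h, hh⟩ : ∃ h : H, ¬ IsPGroup p ((Subgroup.closure
        ({⟨u, hA huA⟩, h * ⟨u, hA huA⟩ * h⁻¹} : Set H)).map π) := by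
      by_contra hcon
      push Not at hcon
      have hle : Subgroup.zpowers (π ⟨u, hA huA⟩) ≤ Cfsg.pCore p (↥H ⧸ N) := by
        refine Cfsg.Agent.Solv.baer_suzuki _ fun q => ?_
        obtain ⟨h, rfl⟩ := QuotientGroup.mk'_surjective N q
        refine (hcon h).to_le (sup_le ?_ ?_)
        · exact Subgroup.zpowers_le.2 ⟨_, Subgroup.subset_closure (by simp), rfl⟩
        · rintro _ ⟨z, hz, rfl⟩
          obtain ⟨i, rfl⟩ := Subgroup.mem_zpowers_iff.1 hz
          refine ⟨(h * ⟨u, hA huA⟩ * h⁻¹) ^ i,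
            zpow_mem (Subgroup.subset_closure (by simp)) i, ?_⟩
          rw [map_zpow, map_mul, map_mul, map_inv]
          exact conj_zpow
      rw [hpcore, Subgroup.zpowers_le, Subgroup.mem_bot] at hle
      exact huC (Subgroup.mem_subgroupOf.1 ((QuotientGroup.eq_one_iff _).1 hle))
    refine Cfsg.Agent.Local.QuadRel.not_two_abelian hp3 V H hV hHV (x := u)
      (y := (h : G) * u * (h : G)⁻¹) (hA huA)
      (mul_mem (mul_mem h.2 (hA huA)) (inv_mem h.2)) (quad u huA u huA) (conjq h h.2 u huA) ?_ ?_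
    · by_contra hcon
      push Not at hcon
      refine hh fun z => ?_
      obtain ⟨_, w, hw, rfl⟩ := z
      have hwG : (w : G) ∈ Subgroup.closure ({u, (h : G) * u * (h : G)⁻¹} : Set G) := by
        have h1 : (w : G) ∈ (Subgroup.closure
            ({⟨u, hA huA⟩, h * ⟨u, hA huA⟩ * h⁻¹} : Set H)).map H.subtype := ⟨w, hw, rfl⟩
        rw [MonoidHom.map_closure, Set.image_pair] at h1
        exact h1
      obtain ⟨j, hj⟩ := hcon _ hwG
      refine ⟨j, Subtype.ext ?_⟩
      show π w ^ p ^ j = 1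
      rw [← map_pow]
      exact (QuotientGroup.eq_one_iff _).2 (Subgroup.mem_subgroupOf.2 hj)
    · intro T hTH hT a ha b hb
      haveI : Fact (Nat.Prime 2) := ⟨Nat.prime_two⟩
      let f : H →* Cfsg.Agent.Small.Ree.RG S := e.toMonoidHom.comp π
      obtain ⟨P, hP⟩ := (((hT.comap_subtype (K := H)).map f) :
        IsPGroup 2 ((T.subgroupOf H).map f)).exists_le_sylow
      have hsq := (Cfsg.Agent.Small.Ree.sylow_two S P).2
      have ha' : f ⟨a, hTH ha⟩ ∈ (P : Subgroup _) := hP ⟨_, ha, rfl⟩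
      have hb' : f ⟨b, hTH hb⟩ ∈ (P : Subgroup _) := hP ⟨_, hb, rfl⟩
      have hcomm : f ⟨a, hTH ha⟩ * f ⟨b, hTH hb⟩ = f ⟨b, hTH hb⟩ * f ⟨a, hTH ha⟩ := by
        have e1 := eq_inv_of_mul_eq_one_left (hsq _ (mul_mem ha' hb'))
        rw [mul_inv_rev, ← eq_inv_of_mul_eq_one_left (hsq _ ha'),
          ← eq_inv_of_mul_eq_one_left (hsq _ hb')] at e1
        exact e1
      rw [← commutatorElement_eq_one_iff_mul_comm, ← map_commutatorElement] at hcomm
      have h1 : e (π ⁅(⟨a, hTH ha⟩ : H), ⟨b, hTH hb⟩⁆) = 1 := hcomm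
      rw [e.map_eq_one_iff] at h1
      exact Subgroup.mem_subgroupOf.1 ((QuotientGroup.eq_one_iff _).1 h1)

end Cfsg.Agent.S2787
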