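import Cfsg.Statements.S2788
import Cfsg.Agent.Lib.LocalEven.SL2Displacement

set_option autoImplicit false
open scoped commutatorElement
open Cfsg

namespace Cfsg.Agent.S2788

theorem result {G : Type*} [Group G] [Finite G] {p : ℕ} [Fact p.Prime] (V H : Subgroup G) (hV : Cfsg.IsElementaryAbelian p V) (hHV : H ≤ Subgroup.normalizer (V : Set G)) (hf : H ⊓ Subgroup.centralizer (V : Set G) = ⊥) {F : Type*} [Field F] [Fintype F] (n : ℕ) (hF : Fintype.card F = p ^ n) (hiso : Nonempty (↥H ≃* Matrix.SpecialLinearGroup (Fin 2) F)) (S : Sylow p ↥H) (T : Subgroup G) (hT : T = ((S : Subgroup ↥H).map H.subtype)) (A : Subgroup G) (hA : A ≤ T) (hA3 : 3 ≤ Nat.card A) (hquad : ⁅⁅V, A⁆, A⁆ = ⊥) : ∀ a ∈ A, a ≠ 1 → p ^ n ≤ ((V ⊓ Subgroup.centralizer ({a} : Set G))).relIndex V := by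
  classical
  clear hquad hA3
  obtain ⟨iso⟩ := hiso
  intro a ha ha1
  set C := V ⊓ Subgroup.centralizer ({a} : Set G) with hC
  have hp := (Fact.out : p.Prime)
  -- `a` as an element of `H`
  obtain ⟨a', haS, rfl⟩ : ∃ a' : ↥H, a' ∈ (S : Subgroup ↥H) ∧ (a' : G) = a := by
    have h1 := hA ha
    rw [hT] at h1
    obtain ⟨a', h2, h3⟩ := h1
    exact ⟨a', h2, h3⟩
  have hne : C.relIndex V ≠ 0 := (Subgroup.index_ne_zero_of_finite (H := C.subgroupOf V))
  have hVab : ∀ u ∈ V, ∀ v ∈ V, u * v = v * u := fun u hu v hv =>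
    congrArg Subtype.val (hV.1.1.1 ⟨u, hu⟩ ⟨v, hv⟩)
  have hVp : IsPGroup p V := fun v => ⟨1, Subtype.ext (by rw [pow_one]; exact hV.2 v v.2)⟩
  obtain ⟨j, hj⟩ := hVp.index (C.subgroupOf V)
  change p ^ n ≤ C.relIndex V
  rw [Subgroup.relIndex, hj]
  refine Nat.pow_le_pow_right hp.pos ?_
  -- nothing in `H` but `1` centralizes `V`
  have hfix : ∀ h : ↥H, (∀ v ∈ V, (h : G) * v = v * (h : G)) → h = 1 := by
    intro h hv
    have : (h : G) ∈ H ⊓ Subgroup.centralizer (V : Set G) :=
      ⟨h.2, Subgroup.mem_centralizer_iff.2 fun v hv' => (hv v hv').symm⟩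
    rw [hf, Subgroup.mem_bot] at this
    exact Subtype.ext this
  have hj0 : 1 ≤ j := by
    by_contra h
    have h0 : j = 0 := by omega
    rw [h0, pow_zero, Subgroup.index_eq_one, Subgroup.subgroupOf_eq_top] at hj
    exact ha1 (by
      rw [hfix a' fun v hv => (Subgroup.mem_centralizer_iff.1 (hj hv).2 _ rfl)]
      rfl)
  by_cases hn : n ≤ 1
  · omega
  obtain ⟨k, hk⟩ := S.2 ⟨a', haS⟩
  have hαk : iso a' ^ p ^ k = 1 := by
    rw [← map_pow, show a' ^ p ^ k = 1 from congrArg Subtype.val hk, map_one]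
  have hα : iso a' ≠ 1 := fun h => ha1 (by rw [iso.injective (h.trans (map_one _).symm)]; rfl)
  obtain ⟨g, hg⟩ := LocalEven.SL2Disp.exists_commutator p (by omega) hF hα hαk
  obtain ⟨r, e, hr, he, hre, hprim⟩ := LocalEven.SL2Disp.exists_primitive (n := n) hp (by omega)
  obtain ⟨l, rfl⟩ : ∃ l, e = l + 1 := ⟨e - 1, by omega⟩
  -- an element of order `r ^ (l + 1)` centralizing `C ⊓ C'`
  set b : ↥H := iso.symm g * a' * (iso.symm g)⁻¹ with hb
  set x : ↥H := a' * b⁻¹ with hx
  have hox : orderOf x = p ^ n + 1 := by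
    rw [← hF, ← hg, ← MulEquiv.orderOf_eq iso]
    congr 1
    simp [hx, hb, commutatorElement_def, mul_assoc]
  set y : ↥H := x ^ ((p ^ n + 1) / r ^ (l + 1)) with hy
  have hoy : orderOf y = r ^ (l + 1) := by
    rw [hy, ← hox, orderOf_pow_orderOf_div (orderOf_pos x).ne' (by rwa [hox])]
  set z : ↥H := y ^ r ^ l with hz
  have hz1 : z ≠ 1 := by
    intro h
    have h1 := Nat.le_of_dvd (pow_pos hr.pos l) (hoy ▸ orderOf_dvd_of_pow_eq_one h)
    exact absurd h1 (not_le.2 (Nat.pow_lt_pow_right hr.one_lt (Nat.lt_succ_self l)))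
  set C' := V ⊓ Subgroup.centralizer ({(b : G)} : Set G) with hC'
  set D := V ⊓ Subgroup.centralizer ({(z : G)} : Set G) with hD
  have hCD : C ⊓ C' ≤ D := by
    rintro v ⟨⟨hv, hva⟩, ⟨-, hvb⟩⟩
    have h1 : (a' : G) * v = v * a' := Subgroup.mem_centralizer_iff.1 hva _ rfl
    have h2 : (b : G) * v = v * b := Subgroup.mem_centralizer_iff.1 hvb _ rfl
    refine ⟨hv, Subgroup.mem_centralizer_iff.2 ?_⟩
    rintro w rfl
    have h3 : Commute (x : G) v := by
      rw [hx]
      push_cast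
      exact Commute.mul_left h1 (Commute.inv_left h2)
    rw [hz, hy]
    push_cast
    exact ((h3.pow_left _).pow_left _)
  -- `C'` has the index of `C`
  have hconjV : ∀ h : ↥H, ∀ v ∈ V, (h : G) * v * (h : G)⁻¹ ∈ V := fun h v hv =>
    (Subgroup.mem_normalizer_iff.1 (hHV h.2) v).1 hv
  have hCC' : Nat.card C' = Nat.card C := by
    have : C' = C.map (MulAut.conj (iso.symm g : G)).toMonoidHom := by
      apply le_antisymm
      · intro v hv
        have h1 := Subgroup.mem_centralizer_iff.1 hv.2 _ rfl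
        rw [hb] at h1
        push_cast at h1
        have h0 : (iso.symm g : G)⁻¹ * v * (iso.symm g : G) ∈ V := by
          simpa using hconjV (iso.symm g)⁻¹ v hv.1
        refine ⟨(iso.symm g : G)⁻¹ * v * (iso.symm g : G), ⟨h0, Subgroup.mem_centralizer_iff.2 ?_⟩, by
          simp [mul_assoc]⟩
        rintro w rfl
        calc (a' : G) * ((iso.symm g : G)⁻¹ * v * (iso.symm g : G))
            = (iso.symm g : G)⁻¹ * ((iso.symm g : G) * a' * (iso.symm g : G)⁻¹ * v) *
              (iso.symm g : G) := by group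
          _ = (iso.symm g : G)⁻¹ * v * (iso.symm g : G) * a' := by rw [h1]; group
      · rintro _ ⟨v, hv, rfl⟩
        refine ⟨hconjV _ v hv.1, Subgroup.mem_centralizer_iff.2 ?_⟩
        rintro w rfl
        have h1 := Subgroup.mem_centralizer_iff.1 hv.2 _ rfl
        rw [hb]
        push_cast
        simp only [MulEquiv.coe_toMonoidHom, MulAut.conj_apply]
        calc (iso.symm g : G) * a' * (iso.symm g : G)⁻¹ * ((iso.symm g : G) * v * (iso.symm g : G)⁻¹)
            = (iso.symm g : G) * (a' * v) * (iso.symm g : G)⁻¹ := by group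
          _ = _ := by rw [h1]; group
    rw [this, Subgroup.card_map_of_injective (f := (MulAut.conj (iso.symm g : G)).toMonoidHom)
      (MulAut.conj (iso.symm g : G)).injective]
  have hcard : ∀ U : Subgroup G, U ≤ V → U.relIndex V * Nat.card U = Nat.card V := by
    intro U hU
    rw [← Subgroup.relIndex_bot_left U, ← Subgroup.relIndex_bot_left V, mul_comm,
      Subgroup.relIndex_mul_relIndex _ _ _ bot_le hU]
  have hjC : C.relIndex V = p ^ j := hj
  have hC'i : C'.relIndex V = p ^ j := by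
    have h1 := hcard C inf_le_left
    have h2 := hcard C' inf_le_left
    rw [hCC', ← h1, hjC] at h2
    exact Nat.eq_of_mul_eq_mul_right Nat.card_pos h2
  obtain ⟨d, hd⟩ := hVp.index (D.subgroupOf V)
  have hd2 : d ≤ 2 * j := by
    have h1 : D.relIndex V ≤ (C ⊓ C').relIndex V :=
      Subgroup.relIndex_le_of_le_left hCD (Subgroup.index_ne_zero_of_finite (H := (C ⊓ C').subgroupOf V))
    have h2 := Subgroup.relIndex_inf_le (H := C) (K := C') (L := V)
    rw [hjC, hC'i, ← pow_add] at h2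
    have h3 : p ^ d ≤ p ^ (j + j) := hd ▸ h1.trans h2
    have := (Nat.pow_le_pow_iff_right hp.one_lt).1 h3
    omega
  -- `⟨y⟩` acts freely on `V` outside `D`
  suffices h : 2 * n ≤ d by omega
  by_contra hdn
  have hd1 : 1 ≤ d := by
    by_contra h
    have h0 : d = 0 := by omega
    rw [h0, pow_zero, Subgroup.index_eq_one, Subgroup.subgroupOf_eq_top] at hd
    exact hz1 (hfix z fun v hv => Subgroup.mem_centralizer_iff.1 (hd hv).2 _ rfl)
  refine hprim d hd1 (by omega) ?_
  let σ : ↥H → G → G := fun h v => (h : G) * v * (h : G)⁻¹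
  have hzy : ∀ h ∈ Subgroup.zpowers y, Commute z h := by
    rintro _ ⟨i, rfl⟩
    exact ((Commute.refl y).pow_left _).zpow_right i
  let X := {v : G // v ∈ V ∧ v ∉ D}
  have hmem : ∀ h ∈ Subgroup.zpowers y, ∀ v : G, v ∈ V → v ∉ D →
      σ h v ∈ V ∧ σ h v ∉ D := by
    intro h hh v hv hvD
    refine ⟨hconjV h v hv, fun hc => hvD ⟨hv, Subgroup.mem_centralizer_iff.2 ?_⟩⟩
    rintro w rfl
    have h1 : (z : G) * σ h v = σ h v * z := Subgroup.mem_centralizer_iff.1 hc.2 _ rfl
    have h2 : (z : G) * (h : G) = (h : G) * z := congrArg Subtype.val (hzy h hh).eq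
    refine mul_left_cancel (a := (h : G)) (mul_right_cancel (b := (h : G)⁻¹) ?_)
    calc (h : G) * ((z : G) * v) * (h : G)⁻¹ = (z : G) * σ h v := by
          simp only [σ]; rw [← mul_assoc, ← h2]; group
      _ = (h : G) * (v * z) * (h : G)⁻¹ := by
          rw [h1]; simp only [σ]
          have h4 : (h : G)⁻¹ * z = z * (h : G)⁻¹ := (Commute.inv_right h2).eq.symm
          rw [mul_assoc _ ((h : G)⁻¹) (z : G), h4]; group
  letI : MulAction (Subgroup.zpowers y) X :=
    { smul := fun h v => ⟨σ h v, hmem h h.2 v v.2.1 v.2.2⟩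
      one_smul := fun v => Subtype.ext (show σ (1 : ↥H) v = v by simp [σ])
      mul_smul := fun h h' v => Subtype.ext (show σ ((h : ↥H) * h') v = σ h (σ h' v) by
        simp [σ, mul_assoc]) }
  have hfree : ∀ v : X, MulAction.stabilizer (Subgroup.zpowers y) v = ⊥ := by
    intro v
    by_contra hne
    obtain ⟨⟨h, hh⟩, hh1'⟩ := Subgroup.ne_bot_iff_exists_ne_one.1 hne
    have hh1 : h ≠ 1 := fun e => hh1' (Subtype.ext e)
    -- a power of `h` is `z`
    have hzh : z ∈ Subgroup.zpowers (h : ↥H) := by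
      obtain ⟨i, hi⟩ := Subgroup.mem_zpowers_iff.1 h.2
      obtain ⟨e, he', hge⟩ := (Nat.dvd_prime_pow hr).1 (Nat.gcd_dvd_right i.natAbs (r ^ (l + 1)))
      rcases eq_or_lt_of_le he' with rfl | hlt
      · exfalso
        apply hh1
        apply Subtype.ext
        rw [OneMemClass.coe_one, ← hi, ← orderOf_dvd_iff_zpow_eq_one, hoy]
        exact Int.natCast_dvd.2 (hge ▸ Nat.gcd_dvd_left _ _)
      · have hb1 := Int.gcd_eq_gcd_ab i ((r ^ (l + 1) : ℕ) : ℤ)
        have hb2 : Int.gcd i ((r ^ (l + 1) : ℕ) : ℤ) = r ^ e := by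
          rw [Int.gcd_def, Int.natAbs_natCast, hge]
        have hy1 : y ^ ((r ^ (l + 1) : ℕ) : ℤ) = 1 := by rw [zpow_natCast, ← hoy, pow_orderOf_eq_one]
        have h5 : y ^ r ^ e ∈ Subgroup.zpowers (h : ↥H) := by
          refine Subgroup.mem_zpowers_iff.2 ⟨Int.gcdA i ((r ^ (l + 1) : ℕ) : ℤ), ?_⟩
          rw [← zpow_natCast y (r ^ e), ← hb2, hb1, zpow_add, zpow_mul, zpow_mul, hy1, one_zpow,
            mul_one, hi]
        rw [hz, show r ^ l = r ^ e * r ^ (l - e) by rw [← pow_add]; congr 1; omega, pow_mul]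
        exact pow_mem h5 _
    have hvh : σ (h : ↥H) v = v := congrArg Subtype.val (MulAction.mem_stabilizer_iff.1 hh)
    have hc : ∀ u ∈ Subgroup.zpowers (h : ↥H), Commute (u : G) (v : G) := by
      rintro _ ⟨i, rfl⟩
      push_cast
      exact Commute.zpow_left (mul_inv_eq_iff_eq_mul.1 hvh) i
    refine v.2.2 ⟨v.2.1, Subgroup.mem_centralizer_iff.2 ?_⟩
    rintro w rfl
    exact hc z hzh
  haveI : Fintype X := Fintype.ofFinite _
  have hdvd : r ^ (l + 1) ∣ Nat.card X := by
    rw [← hoy, ← Nat.card_zpowers]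
    refine ⟨Nat.card (Quotient (MulAction.orbitRel (Subgroup.zpowers y) X)), ?_⟩
    rw [Nat.card_congr (MulAction.selfEquivSigmaOrbits (Subgroup.zpowers y) X), Nat.card_sigma]
    rw [Finset.sum_congr rfl fun ω _ => ?_, Finset.sum_const, Finset.card_univ,
      ← Nat.card_eq_fintype_card, smul_eq_mul, mul_comm]
    rw [Nat.card_congr (MulAction.orbitEquivQuotientStabilizer (Subgroup.zpowers y) ω.out), hfree]
    exact Nat.card_congr (QuotientGroup.quotientBot (G := Subgroup.zpowers y)).toEquiv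
  have hX : Nat.card X + Nat.card D = Nat.card V := by
    rw [← Nat.card_sum]
    refine Nat.card_congr
      { toFun := fun s => s.elim (fun v => ⟨v.1, v.2.1⟩) (fun v => ⟨v.1, v.2.1⟩)
        invFun := fun v => if h : (v : G) ∈ D then Sum.inr ⟨v, h⟩ else Sum.inl ⟨v, v.2, h⟩
        left_inv := ?_
        right_inv := ?_ }
    · rintro (v | v)
      · simp [v.2.2]
      · simp [v.2]
    · intro v
      by_cases h : (v : G) ∈ D <;> simp [h]
  have hXeq : Nat.card X = (p ^ d - 1) * Nat.card D := by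
    have := hcard D inf_le_left
    rw [Subgroup.relIndex, hd] at this
    rw [Nat.sub_mul, one_mul]
    omega
  rw [hXeq] at hdvd
  refine Nat.Coprime.dvd_of_dvd_mul_right ?_ hdvd
  obtain ⟨c, hc⟩ := IsPGroup.iff_card.1 (hVp.to_le (inf_le_left : D ≤ V))
  rw [hc]
  refine Nat.Coprime.pow _ _ ((Nat.coprime_primes hr hp).2 ?_)
  rintro rfl
  have h1 : r ∣ r ^ n + 1 := (dvd_pow_self r (by omega)).trans hre
  exact hp.not_dvd_one ((Nat.dvd_add_right (dvd_pow_self r (by omega))).1 h1)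

end Cfsg.Agent.S2788
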