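import Cfsg.Statements.S2792
import Cfsg.Agent.Lib.LocalEven.YoshidaWeak
import Cfsg.Agent.Lib.Fusion.WeakClosure
import Cfsg.Agent.Lib.Fusion.Cores

set_option autoImplicit false
open Cfsg
open Cfsg.Agent Cfsg.Agent.Fusion
open scoped commutatorElement

namespace Cfsg.Agent.S2792

/-- Let S be a Sylow p-subgroup of the finite group G and W a subgroup of S weakly closed in S with respect to G. If S ∩ G' ≠ S ∩ (N_G(W))', then there are x ∈ S, z ∈ W and a maximal subgroup W₀ of W such that the iterated commutator [x, z; p−1] (with [x, z] = x⁻¹z⁻¹xz and [x, z; i+1] = [[x, z; i], z]) lies in W₀ but not in the Frattini subgroup of W₀; in particular [x, z; p−1] ≠ 1. -/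
theorem result {G : Type*} [Group G] [Finite G] {p : ℕ} [Fact p.Prime] (S : Sylow p G) (W : Subgroup G) (hW : Cfsg.IsWeaklyClosed W (S : Subgroup G)) (h : (S : Subgroup G) ⊓ commutator G ≠ (S : Subgroup G) ⊓ ⁅Subgroup.normalizer (W : Set G), Subgroup.normalizer (W : Set G)⁆) : ∃ x ∈ (S : Subgroup G), ∃ z ∈ W, ∃ W₀ : Subgroup ↥W, IsCoatom W₀ ∧ (fun y : G => y⁻¹ * z⁻¹ * y * z)^[p - 1] x ∈ W₀.map W.subtype ∧ (fun y : G => y⁻¹ * z⁻¹ * y * z)^[p - 1] x ∉ ((frattini ↥W₀).map W₀.subtype).map W.subtype := by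
  by_contra hc
  push_neg at hc
  refine h ?_
  have hS := sylIn_top S
  obtain ⟨H, hH⟩ : ∃ H, H = Subgroup.normalizer (W : Set G) := ⟨_, rfl⟩
  rw [← hH]
  have hSH : (S : Subgroup G) ≤ H := hH ▸ weaklyClosed_le_normalizer hS hW S.isPGroup' hW.1
  have hWn : ∀ s ∈ (S : Subgroup G), ∀ w ∈ W, s * w * s⁻¹ ∈ W := fun s hs w hw =>
    (Subgroup.mem_normalizer_iff.1 (hH ▸ hSH hs) w).1 hw
  have hfix : ∀ g : G, (∀ w ∈ W, g⁻¹ * w * g ∈ H) → g ∈ H := by
    intro g hg
    have hle : cj W g⁻¹ ≤ H := fun z hz => by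
      rw [mem_cj, inv_inv] at hz
      have h1 := hg _ hz
      rwa [show g⁻¹ * (g * z * g⁻¹) * g = z by group] at h1
    obtain ⟨k, hk, hk2⟩ := (hS.mono hSH le_top).conj_le (isPGroup_cj (S.isPGroup'.to_le hW.1) g⁻¹) hle
    rw [cj_cj] at hk2
    have h2 : k * g⁻¹ ∈ H := hH ▸ mem_normalizer_iff_cj.2 (hW.2 _ hk2)
    have h3 := H.mul_mem (H.inv_mem hk) h2
    rw [inv_mul_cancel_left] at h3
    exact (H.inv_mem_iff).1 h3
  have hiter : ∀ u ∈ (S : Subgroup G), ∀ z ∈ W, ∀ y ∈ W, (fun t : G => t⁻¹ * z⁻¹ * t * z)^[p - 1] u = y →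
      ∀ W₀ : Subgroup ↥W, IsCoatom W₀ → y ∈ W₀.map W.subtype →
        y ∈ ((frattini ↥W₀).map W₀.subtype).map W.subtype := by
    intro u hu z hz y _ he W₀ hW₀ hy
    rw [← he] at hy ⊢
    exact hc u hu z hz W₀ hW₀ hy
  have hres := YoshidaWeak.pResidualOf_eq S H W hSH hW.1 hfix hWn hiter
  refine le_antisymm ?_ (inf_le_inf_left _ (Subgroup.commutator_mono le_top le_top))
  haveI : (Cfsg.pResidual p G).Normal := Subgroup.normal_of_characteristic _
  obtain ⟨D, hD⟩ : ∃ D : Subgroup G, D = Cfsg.pResidual p G ⊔ ⁅(S : Subgroup G), (S : Subgroup G)⁆ := ⟨_, rfl⟩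
  have hcomm : commutator G ≤ D := by
    haveI hDn : D.Normal := by
      refine Subgroup.normalizer_eq_top_iff.1 (top_le_iff.1 ?_)
      rw [← pResidual_sup_sylow (p := p) S]
      refine sup_le ((hD ▸ le_sup_left : Cfsg.pResidual p G ≤ D).trans Subgroup.le_normalizer) fun s hs => ?_
      refine mem_normalizer_of_cj_le (le_of_eq ?_)
      rw [hD, cj_sup, cj_of_normal, cj_commutator, cj_eq_self_of_mem hs]
    rw [commutator_def, Subgroup.commutator_le]
    intro x _ z _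
    obtain ⟨r, hr, s, hs, rfl⟩ := Subgroup.mem_sup_of_normal_left.1
      ((pResidual_sup_sylow (p := p) S).ge (Subgroup.mem_top x))
    obtain ⟨r', hr', s', hs', rfl⟩ := Subgroup.mem_sup_of_normal_left.1
      ((pResidual_sup_sylow (p := p) S).ge (Subgroup.mem_top z))
    have hR : Cfsg.pResidual p G ≤ D := hD ▸ le_sup_left
    have hC : ⁅s, s'⁆ ∈ D := (hD ▸ le_sup_right : ⁅(S : Subgroup G), (S : Subgroup G)⁆ ≤ D)
      (Subgroup.commutator_mem_commutator hs hs')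
    rw [← QuotientGroup.eq_one_iff] at hC ⊢
    show ⁅((r * s : G) : G ⧸ D), ((r' * s' : G) : G ⧸ D)⁆ = 1
    rw [QuotientGroup.mk_mul, QuotientGroup.mk_mul, (QuotientGroup.eq_one_iff r).2 (hR hr),
      (QuotientGroup.eq_one_iff r').2 (hR hr'), one_mul, one_mul]
    exact hC
  intro y hy
  obtain ⟨hyS, hyG⟩ := Subgroup.mem_inf.1 hy
  refine Subgroup.mem_inf.2 ⟨hyS, ?_⟩
  have hyD : y ∈ Cfsg.pResidual p G ⊔ ⁅(S : Subgroup G), (S : Subgroup G)⁆ := hD ▸ hcomm hyG
  obtain ⟨r, hr, t, ht, rfl⟩ := Subgroup.mem_sup_of_normal_left.1 hyD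
  have htH : t ∈ ⁅H, H⁆ := Subgroup.commutator_mono hSH hSH ht
  refine mul_mem ?_ htH
  have hrS : r ∈ (S : Subgroup G) := by
    have := mul_mem hyS (inv_mem (Subgroup.commutator_le_self _ ht))
    rwa [mul_inv_cancel_right] at this
  have hrR : r ∈ Cfsg.pResidualOf p H := hres ▸ Subgroup.mem_inf.2 ⟨hr, hSH hrS⟩
  obtain ⟨r', hr', rfl⟩ := hrR
  obtain ⟨f, hf⟩ : ∃ f : ↥H →* Abelianization ↥H, f = Abelianization.of := ⟨_, rfl⟩
  obtain ⟨a, ha⟩ := IsPGroup.iff_orderOf.1 S.isPGroup' ⟨_, hrS⟩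
  rw [Subgroup.orderOf_mk] at ha
  have h1 : f r' ^ p ^ a = 1 := by
    rw [← map_pow, show r' ^ p ^ a = 1 from Subtype.ext (by
      rw [SubmonoidClass.coe_pow, ← ha]; exact pow_orderOf_eq_one _), map_one]
  have hker : r' ∈ f.ker := by
    let E : Subgroup (Abelianization ↥H) :=
      { carrier := {v | (orderOf v).Coprime p}
        one_mem' := by simp
        mul_mem' := fun {v w} hv hw =>
          Nat.Coprime.coprime_dvd_left (Commute.all v w).orderOf_mul_dvd_mul_orderOf (hv.mul_left hw)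
        inv_mem' := fun {v} hv => by simpa using hv }
    have hE : Cfsg.pResidual p ↥H ≤ E.comap f := by
      refine (Subgroup.closure_le _).2 fun g hg => ?_
      show (orderOf (f g)).Coprime p
      exact Nat.Coprime.coprime_dvd_left (orderOf_map_dvd f g) hg
    refine MonoidHom.mem_ker.2 (orderOf_eq_one_iff.1 ?_)
    exact Nat.eq_one_of_dvd_coprimes ((hE hr' : (orderOf (f r')).Coprime p).pow_right a) dvd_rfl
      (orderOf_dvd_of_pow_eq_one h1)
  rw [hf, Abelianization.ker_of] at hker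
  have := Subgroup.mem_map_of_mem H.subtype hker
  rwa [Subgroup.map_subtype_commutator] at this

end Cfsg.Agent.S2792
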