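import Cfsg.Statements.S2794
import Cfsg.Agent.Lib.Fusion.StableFusion
import Cfsg.Agent.Lib.Fusion.QdFree
import Cfsg.Agent.Lib.Fusion.QdNoControl
import Cfsg.Agent.Lib.Fusion.ZJControl

set_option autoImplicit false
open Cfsg

namespace Cfsg.Agent.S2794

theorem result {G : Type*} [Group G] [Finite G] {p : ℕ} [Fact p.Prime] (hp : p ≠ 2) : ¬ Cfsg.Involves ↥(Cfsg.qd p) G ↔ ∀ (K R : Subgroup G) [hR : (R.subgroupOf K).Normal], ∀ T : Sylow p (K ⧸ R.subgroupOf K), Cfsg.ControlsStrongFusion p (Cfsg.centerThompsonAOf (T : Subgroup (K ⧸ R.subgroupOf K))) := by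
  open Cfsg.Agent.Fusion in
  constructor
  · intro hfree K R hR T
    haveI := hR
    have hY : Cfsg.Involves (↥K ⧸ R.subgroupOf K) G := involves_section involves_refl K R
    rw [← inducedFunctor_wZA]
    exact controlsStrongFusion_of_normal (isCharPFunctor_wZA (p := p))
      (fun X _ _ hX hc S hS => by
        obtain ⟨T', rfl⟩ := hS.exists_sylow
        exact centerThompsonAOf_normal hp hc (fun N _ hN => isPStableOn_of_qd_free hp
          (fun h => hfree (involves_trans h (involves_trans hX hY))) N hN) T') T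
  · rintro hctl ⟨K, R, hR, ⟨e⟩⟩
    haveI := hR
    obtain ⟨T⟩ : Nonempty (Sylow p (↥K ⧸ R.subgroupOf K)) := inferInstance
    obtain ⟨T', -, hf⟩ := hctl K R T
    refine not_familyControls_qd e (𝓦 := {wZA}) (fun W hW => by
      rw [Set.mem_singleton_iff.1 hW]; exact isCharPFunctor_wZA) _ ⟨T, rfl⟩ fun A g hA hg => ?_
    obtain ⟨x, hx, hxe⟩ := (hf A (hA T')).2 g (hg T')
    refine ⟨1, ![1, x], rfl, fun i => ⟨_, rfl, ?_⟩, fun a ha => ?_⟩
    · fin_cases i
      simpa [inducedFunctor_wZA] using hx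
    · simpa using (hxe a ha).symm

end Cfsg.Agent.S2794
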