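import Cfsg.Statements.S2799
import Cfsg.Agent.Lib.Local.FS.GlaubermanCenter

set_option autoImplicit false
open Cfsg

namespace Cfsg.Agent.S2799

theorem result {G : Type*} [Group G] [Finite G] {p : ℕ} [Fact p.Prime] (S : Sylow p G) (x : G) (hxS : x ∈ (S : Subgroup G)) (hxZ : x ∈ (Subgroup.center ↥(Subgroup.normalizer ((Cfsg.thompsonSubgroupAOf (S : Subgroup G)) : Set G))).map (Subgroup.normalizer ((Cfsg.thompsonSubgroupAOf (S : Subgroup G)) : Set G)).subtype) (h : p ≠ 2 ∨ (∃ z ∈ (S : Subgroup G) ⊓ Subgroup.centralizer ((S : Subgroup G) : Set G), z ^ p = x) ∨ ¬ Cfsg.Involves (Equiv.Perm (Fin 4)) G) : ∀ g : G, g * x * g⁻¹ ∈ (S : Subgroup G) → g * x * g⁻¹ = x := by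
  open Cfsg.Agent.Local.FS Cfsg.Agent.Fusion in
  obtain ⟨⟨x', hx'⟩, hc, rfl⟩ := hxZ
  refine weaklyClosed_of_glauberman (sylIn_top S) hxS
    (fun g hg => congrArg Subtype.val (Subgroup.mem_center_iff.1 hc ⟨g, hg⟩)) ?_
  rcases h with h | ⟨z, hz, he⟩ | h
  · exact Or.inl h
  · exact Or.inr (Or.inl ⟨z, hz.1, fun s hs => Subgroup.mem_centralizer_iff.1 hz.2 s hs, he⟩)
  · exact Or.inr (Or.inr h)

end Cfsg.Agent.S2799
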