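import Cfsg.Statements.S2800
import Cfsg.Agent.Lib.Local.FS.ThompsonInner

set_option autoImplicit false
open Cfsg

namespace Cfsg.Agent.S2800

theorem result {G : Type*} [Group G] [Finite G] {p : ℕ} [Fact p.Prime] (S : Sylow p G) (h : p ≠ 2 ∨ ¬ Cfsg.Involves (Equiv.Perm (Fin 4)) G) (hC : Cfsg.HasNormalPComplement p ↥(Subgroup.centralizer (((S : Subgroup G) ⊓ Subgroup.centralizer ((S : Subgroup G) : Set G) : Subgroup G) : Set G))) (hN : Cfsg.HasNormalPComplement p ↥(Subgroup.normalizer ((Cfsg.thompsonSubgroupAOf (S : Subgroup G)) : Set G))) : Cfsg.HasNormalPComplement p G := by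
  open Cfsg.Agent.Local.FS Cfsg.Agent.Fusion Cfsg.FusionSystem in
  have hS := sylIn_top S
  have hJN : (S : Subgroup G) ≤ Subgroup.normalizer (Cfsg.thompsonSubgroupAOf (S : Subgroup G) : Set G) :=
    ((le_normalizerIn (le_refl (S : Subgroup G))).trans
      (normalizer_le_functor (S := (S : Subgroup G)) S.2 (isCharPFunctor_wJA (p := p)).2 le_rfl)).trans inf_le_right
  exact hnpc_of_isInner hS (isInner_thompson S.2 (group_saturated hS)
    (h.imp id fun hX => group_sectionFree hS hX)
    (cAt_group S.2 (Subgroup.le_centralizer_iff.1 inf_le_right) hC) (pAt_group S.2 hJN hN))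

end Cfsg.Agent.S2800
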