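import Cfsg.Statements.S2802
import Cfsg.Agent.Lib.LocalEven.Reduced

set_option autoImplicit false
open Cfsg
open scoped commutatorElement Pointwise

namespace Cfsg.Agent.S2802

theorem result {L : Type*} [Group L] [Finite L] {p : ℕ} [Fact p.Prime] (hchar : Subgroup.centralizer (Cfsg.pCore p L : Set L) ≤ Cfsg.pCore p L) (T : Sylow p L) (R : Subgroup L) (hTR : (T : Subgroup L) ≤ R) (X : Subgroup ↥R) (hX : Cfsg.IsPReducedNormal p X) : Cfsg.IsPReducedNormal p (Subgroup.normalClosure ((X.map R.subtype : Subgroup L) : Set L)) := by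
  have hXr := (LocalEven.Red.reduced_iff X).1 hX
  haveI := hXr.1
  refine LocalEven.Red.reduced_closure T ?_ fun M hM _ hp => ?_
  · rintro _ ⟨x, hx, rfl⟩
    have hc : ∀ z ∈ pCore p L, z * (x : L) = x * z := by
      intro z hz
      have hzR : z ∈ R := hTR (Fusion.pCore_le_sylow T hz)
      have h1 : (⟨z, hzR⟩ : ↥R) ∈ pCore p ↥R :=
        Fusion.le_pCore (N := (pCore p L).subgroupOf R)
          ((Fusion.isPGroup_pCore p L).comap_of_injective R.subtype R.subtype_injective) hz
      exact congrArg Subtype.val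
        (Subgroup.mem_centralizer_iff.1 (LocalEven.Red.core_le_centralizer hX h1) x hx).symm
    exact LocalEven.mem_omega_center.2 ⟨hchar (Subgroup.mem_centralizer_iff.2 hc), hc,
      congrArg Subtype.val (hX.2.1.2 x hx)⟩
  · intro t ht
    obtain ⟨htT, htM⟩ := Subgroup.mem_inf.1 ht
    haveI := hM
    have h1 := hXr.2.2 (M.subgroupOf R) inferInstance fun m hm => by
      obtain ⟨k, hk⟩ := hp m hm
      refine ⟨k, Subgroup.mem_centralizer_iff.2 fun y hy => Subtype.ext ?_⟩
      exact Subgroup.mem_centralizer_iff.1 hk y (Subgroup.subset_normalClosure ⟨y, hy, rfl⟩)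
    refine Subgroup.mem_centralizer_iff.2 ?_
    rintro _ ⟨y, hy, rfl⟩
    exact congrArg Subtype.val (Subgroup.mem_centralizer_iff.1 (h1 (show (⟨t, hTR htT⟩ : ↥R) ∈ M.subgroupOf R from htM)) y hy)

end Cfsg.Agent.S2802
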