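import Cfsg.Statements.S2803
import Cfsg.Agent.Lib.LocalEven.Reduced
import Cfsg.Agent.Lib.Fusion.WeakClosureFunctor

set_option autoImplicit false
open Cfsg
open scoped commutatorElement Pointwise

namespace Cfsg.Agent.S2803

theorem result {L : Type*} [Group L] [Finite L] {p : ℕ} [Fact p.Prime] (hchar : Subgroup.centralizer (Cfsg.pCore p L : Set L) ≤ Cfsg.pCore p L) (T : Sylow p L) (Y : Subgroup L) (hY : (Cfsg.IsPReducedNormal p Y ∧ ∀ V : Subgroup L, Cfsg.IsPReducedNormal p V → V ≤ Y)) (TL : Subgroup L) (hTL : TL = (T : Subgroup L) ⊓ Subgroup.centralizer (Y : Set L)) : (∀ g : L, ∃ a ∈ Subgroup.normalizer (TL : Set L), ∃ c ∈ Subgroup.centralizer (Y : Set L), g = a * c) ∧ (Cfsg.pCore p ↥(Subgroup.normalizer (TL : Set L))).map (Subgroup.normalizer (TL : Set L)).subtype = TL ∧ Y = Cfsg.omegaOne p (TL ⊓ Subgroup.centralizer (TL : Set L)) := by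
  obtain ⟨hYr, hYmax⟩ := hY
  haveI := hYr.1
  set C := Subgroup.centralizer (Y : Set L) with hC
  haveI : C.Normal := Subgroup.normal_centralizer (H := Y)
  have hS : Fusion.SylIn p TL C := by
    rw [hTL]
    exact (Fusion.sylIn_top T).inf_normal le_top (by rw [Subgroup.normalizer_eq_top])
  set N := Subgroup.normalizer (TL : Set L) with hN
  have hfr : ∀ g : L, ∃ a ∈ N, ∃ c ∈ C, g = a * c := by
    intro g
    obtain ⟨n, hn, hng⟩ := Fusion.frattini_conj (H := ⊤) hS (by rw [Subgroup.normalizer_eq_top]) (Subgroup.mem_top g)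
    refine ⟨n * g, hng, g⁻¹ * n⁻¹ * g, ?_, by group⟩
    simpa using (inferInstance : C.Normal).conj_mem _ (inv_mem hn) g⁻¹
  refine ⟨hfr, ?_, ?_⟩
  · set X₀ := pCoreOf p N
    show X₀ = TL
    have hXp : IsPGroup p X₀ := Fusion.pCoreOf_isPGroup N
    have hTX : TL ≤ X₀ := Fusion.le_pCoreOf Subgroup.le_normalizer le_rfl hS.isPGroup
    haveI : (C ⊔ X₀).Normal := by
      rw [← Subgroup.normalizer_eq_top_iff, eq_top_iff]
      intro g _
      obtain ⟨a, ha, c, hc, rfl⟩ := hfr g
      refine mul_mem (Fusion.mem_normalizer_iff_cj.2 ?_) (Subgroup.le_normalizer (Subgroup.mem_sup_left hc))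
      rw [Fusion.cj_sup, Fusion.cj_of_normal, Fusion.cj_eq_self (Fusion.le_normalizer_pCoreOf N ha)]
    have h1 : C ⊔ X₀ ≤ C := ((LocalEven.Red.reduced_iff Y).1 hYr).2.2 _ inferInstance fun x hx => by
      obtain ⟨c, hc, u, hu, rfl⟩ := Subgroup.mem_sup_of_normal_left.1 hx
      obtain ⟨k, hk⟩ := hXp ⟨u, hu⟩
      refine ⟨k, (QuotientGroup.eq_one_iff _).1 ?_⟩
      rw [QuotientGroup.mk_pow, QuotientGroup.mk_mul, (QuotientGroup.eq_one_iff c).2 hc, one_mul,
        ← QuotientGroup.mk_pow, show u ^ p ^ k = 1 from congrArg Subtype.val hk, QuotientGroup.mk_one]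
    exact hS.eq_of_le hXp hTX (le_sup_right.trans h1)
  · have hPTL : pCore p L ≤ TL := hTL ▸ le_inf (Fusion.pCore_le_sylow T) (LocalEven.Red.core_le_centralizer hYr)
    have hYW : Y ≤ omegaOne p (TL ⊓ Subgroup.centralizer (TL : Set L)) := fun y hy =>
      LocalEven.mem_omega_center.2 ⟨hPTL (LocalEven.Red.le_pCore hYr hy),
        fun s hs => (Subgroup.mem_centralizer_iff.1 ((hTL ▸ hs : s ∈ (T : Subgroup L) ⊓ C).2) y hy).symm,
        hYr.2.1.2 y hy⟩
    refine le_antisymm hYW ?_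
    set W := omegaOne p (TL ⊓ Subgroup.centralizer (TL : Set L))
    have hred : IsPReducedNormal p (Subgroup.normalClosure (W : Set L)) := by
      refine LocalEven.Red.reduced_closure T (fun w hw => ?_) fun M hM _ hp => ?_
      · obtain ⟨h1, h2, h3⟩ := LocalEven.mem_omega_center.1 hw
        have hc : ∀ z ∈ pCore p L, z * w = w * z := fun z hz => h2 z (hPTL hz)
        exact LocalEven.mem_omega_center.2 ⟨hchar (Subgroup.mem_centralizer_iff.2 hc), hc, h3⟩
      · intro t ht
        obtain ⟨htT, htM⟩ := Subgroup.mem_inf.1 ht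
        have h1 : M ≤ C := ((LocalEven.Red.reduced_iff Y).1 hYr).2.2 M hM
          (LocalEven.Red.pmod_mono hp (Subgroup.centralizer_le fun y hy => Subgroup.subset_normalClosure (hYW hy)))
        have htTL : t ∈ TL := hTL ▸ Subgroup.mem_inf.2 ⟨htT, h1 htM⟩
        exact Subgroup.mem_centralizer_iff.2 fun w hw => ((LocalEven.mem_omega_center.1 hw).2.1 t htTL).symm
    exact Subgroup.le_normalClosure.trans (hYmax _ hred)

end Cfsg.Agent.S2803
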