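import Cfsg.Statements.S2804
import Cfsg.Agent.Lib.LocalEven.ReducedOf
import Cfsg.Agent.Lib.Local.CentralizerTrick
import Cfsg.Agent.S2820

set_option autoImplicit false
open Cfsg
open scoped commutatorElement Pointwise

namespace Cfsg.Agent.S2804

theorem result {L : Type*} [Group L] [Finite L] {p : ℕ} [Fact p.Prime] (hchar : Subgroup.centralizer (Cfsg.pCore p L : Set L) ≤ Cfsg.pCore p L) (V : Subgroup L) (hV : Cfsg.IsPReducedNormal p V) (K : Subgroup L) (hK : K.IsSubnormal) : ⁅V, (Cfsg.pResidual p ↥K).map K.subtype⁆ ≤ K ∧ Cfsg.IsPReducedNormal p ((⁅V, (Cfsg.pResidual p ↥K).map K.subtype⁆).subgroupOf K) := by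
  haveI := hV.1
  set B : Subgroup L := (pResidual p ↥K).map K.subtype with hBdef
  have hBK : B ≤ K := Subgroup.map_subtype_le _
  have hKB : K ≤ Subgroup.normalizer (B : Set L) := LocalEven.Red.le_normalizer_of_map _
  have hB : B.IsSubnormal :=
    (inferInstance : (pResidual p ↥K).Normal).isSubnormal.trans' hK
  have hVp := LocalEven.Red.isPGroup_of_elementary hV.2.1
  have hBres : (pResidual p ↥B).map B.subtype = B := by
    refine le_antisymm (Subgroup.map_subtype_le _) ?_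
    conv_lhs => rw [hBdef, pResidual, MonoidHom.map_closure]
    refine (Subgroup.closure_le _).2 ?_
    rintro _ ⟨x, hx, rfl⟩
    have hxB : (x : L) ∈ B := ⟨x, Subgroup.subset_closure hx, rfl⟩
    refine ⟨⟨x, hxB⟩, Subgroup.subset_closure ?_, rfl⟩
    show (orderOf (⟨(x : L), hxB⟩ : ↥B)).Coprime p
    rw [Subgroup.orderOf_mk, Subgroup.orderOf_coe]
    exact hx
  have hVB : V ≤ Subgroup.normalizer (B : Set L) :=
    (S2820.result V B (inferInstance : V.Normal).isSubnormal hB hVp hBres).1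
  set W : Subgroup L := ⁅V, B⁆ with hW
  have hWB : W ≤ B := Subgroup.le_normalizer_iff_commutator_le_right.1 hVB
  have hWV : W ≤ V := Subgroup.commutator_le_left V B
  have hKW : K ≤ Subgroup.normalizer (W : Set L) := fun k hk => Fusion.mem_normalizer_iff_cj.2 (by
    rw [hW, Fusion.cj_commutator, Fusion.cj_of_normal, Fusion.cj_eq_self (hKB hk)])
  refine ⟨hWB.trans hBK, (LocalEven.Red.reduced_iff _).2 ⟨?_, ?_, fun M hM hp => ?_⟩⟩
  · exact Subgroup.normal_subgroupOf_of_le_normalizer hKW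
  · exact ⟨⟨⟨fun a b => Subtype.ext (Subtype.ext (congrArg Subtype.val
      (hV.2.1.1.is_comm.comm (⟨_, hWV a.2⟩ : V) ⟨_, hWV b.2⟩) :))⟩⟩,
      fun a ha => Subtype.ext (hV.2.1.2 _ (hWV ha))⟩
  · set CV := Subgroup.centralizer (V : Set L) with hCV
    haveI : CV.Normal := Subgroup.normal_centralizer (H := V)
    have sn : ∀ X : Subgroup L, X ≤ K → K ≤ Subgroup.normalizer (X : Set L) → LocalEven.Red.PMod p X CV → X ≤ CV :=
      fun X hX hn hXp => LocalEven.Red.le_centralizer_of_subnormal hV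
        (.step X K hX hK (Subgroup.normal_subgroupOf_of_le_normalizer hn)) hXp
    set CW := Subgroup.centralizer (W : Set L)
    have hX : B ⊓ CW ≤ CV := by
      refine sn _ (inf_le_left.trans hBK) (fun k hk => Fusion.mem_normalizer_iff_cj.2 (by
        rw [Fusion.cj_inf, Fusion.cj_eq_self (hKB hk), Fusion.cj_centralizer, Fusion.cj_eq_self (hKW hk)]))
        fun x hx => ⟨1, Subgroup.mem_centralizer_iff.2 fun v hv => ?_⟩
      obtain ⟨hxB, hxC⟩ := Subgroup.mem_inf.1 hx
      have hz : ⁅x, v⁆ ∈ W := by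
        rw [hW, Subgroup.commutator_comm]; exact Subgroup.commutator_mem_commutator hxB hv
      have h1 := CentTrick.conj_pow (a := x) (h := v) (z := ⁅x, v⁆)
        (Subgroup.mem_centralizer_iff.1 hxC _ hz).symm (by simp [commutatorElement_def]) p
      rw [hV.2.1.2 _ (hWV hz), one_mul, mul_inv_eq_iff_eq_mul] at h1
      rw [pow_one]; exact h1.symm
    set M' : Subgroup L := M.map K.subtype
    have hM'n : K ≤ Subgroup.normalizer (M' : Set L) := by
      haveI := hM
      exact LocalEven.Red.le_normalizer_of_map M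
    have hp' : LocalEven.Red.PMod p M' CW := by
      rintro _ ⟨m, hm, rfl⟩
      obtain ⟨k, hk⟩ := hp m hm
      refine ⟨k, Subgroup.mem_centralizer_iff.2 fun w hw => ?_⟩
      exact congrArg Subtype.val (Subgroup.mem_centralizer_iff.1 hk ⟨w, hBK (hWB hw)⟩ hw)
    have hM'K : M' ≤ K := Subgroup.map_subtype_le _
    have h2 : M' ⊓ B ≤ CV := sn _ (inf_le_left.trans hM'K)
      (fun k hk => Fusion.mem_normalizer_iff_cj.2 (by
        rw [Fusion.cj_inf, Fusion.cj_eq_self (hKB hk), Fusion.cj_eq_self (hM'n hk)]))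
      fun x hx => by
        obtain ⟨hxM, hxB⟩ := Subgroup.mem_inf.1 hx
        obtain ⟨k, hk⟩ := hp' x hxM
        exact ⟨k, hX (Subgroup.mem_inf.2 ⟨pow_mem hxB _, hk⟩)⟩
    have h3 : M' ≤ CV := sn _ hM'K hM'n fun x hx => by
      obtain ⟨a, ha⟩ := (Fusion.isPGroup_quotient_pResidual (p := p) (G := ↥K)) (QuotientGroup.mk ⟨x, hM'K hx⟩)
      rw [← QuotientGroup.mk_pow, QuotientGroup.eq_one_iff] at ha
      exact ⟨a, h2 (Subgroup.mem_inf.2 ⟨pow_mem hx _, ⟨_, ha, rfl⟩⟩)⟩
    intro m hm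
    refine Subgroup.mem_centralizer_iff.2 fun y hy => Subtype.ext ?_
    exact Subgroup.mem_centralizer_iff.1 (h3 ⟨m, hm, rfl⟩) y (hWV hy)

end Cfsg.Agent.S2804
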