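import Cfsg.Statements.S2805
import Cfsg.Agent.Lib.LocalEven.Kieler
-- import your own Cfsg.Agent.* helpers here

set_option autoImplicit false
open Cfsg

open Cfsg.Agent Cfsg.Agent.Fusion

namespace Cfsg.Agent.S2805

/-- Kieler's Lemma: let H be a finite group of characteristic p (C_H(O_p(H)) ≤ O_p(H)), T a Sylow p-subgroup of H and L a subnormal subgroup of H. Then C_L(Ω₁(Z(T))) = C_L(Ω₁(Z(T ∩ L))), Ω₁(Z(·)) denoting the elements of order dividing p in the centre. -/
theorem result {H : Type*} [Group H] [Finite H] {p : ℕ} [Fact p.Prime] (hH : Subgroup.centralizer (Cfsg.pCore p H : Set H) ≤ Cfsg.pCore p H) (T : Sylow p H) (L : Subgroup H) (hL : L.IsSubnormal) : L ⊓ Subgroup.centralizer ((Cfsg.omegaOne p ((T : Subgroup H) ⊓ Subgroup.centralizer ((T : Subgroup H) : Set H))) : Set H) = L ⊓ Subgroup.centralizer ((Cfsg.omegaOne p (((T : Subgroup H) ⊓ L) ⊓ Subgroup.centralizer ((((T : Subgroup H) ⊓ L) : Subgroup H) : Set H))) : Set H) := by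
  classical
  suffices h : LocalEven.CharP p L ∧ SylIn p ((T : Subgroup H) ⊓ L) L ∧
      L ⊓ Subgroup.centralizer (Cfsg.omegaOne p ((T : Subgroup H) ⊓ Subgroup.centralizer ((T : Subgroup H) : Set H)) : Set H) =
      L ⊓ Subgroup.centralizer (Cfsg.omegaOne p (((T : Subgroup H) ⊓ L) ⊓ Subgroup.centralizer ((((T : Subgroup H) ⊓ L) : Subgroup H) : Set H)) : Set H) from h.2.2
  induction hL with
  | top =>
    refine ⟨?_, by rw [inf_top_eq]; exact sylIn_top T, by simp only [inf_top_eq]⟩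
    intro x hx
    have h1 : (x : H) ∈ Cfsg.pCore p H := hH (Subgroup.mem_centralizer_iff.2 fun y hy =>
      congrArg Subtype.val (Subgroup.mem_centralizer_iff.1 hx ⟨y, Subgroup.mem_top y⟩
        (le_pCore (N := (Cfsg.pCore p H).subgroupOf ⊤) (isPGroup_pCore p H).comap_subtype hy)))
    exact le_pCore (N := (Cfsg.pCore p H).subgroupOf ⊤) (isPGroup_pCore p H).comap_subtype h1
  | step A K hAK _ hn ih =>
    obtain ⟨hK, hS, heq⟩ := ih
    have h1 := LocalEven.kieler_normal hK hS hAK hn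
    have h2 : (T : Subgroup H) ⊓ K ⊓ A = (T : Subgroup H) ⊓ A := by rw [inf_assoc, inf_eq_right.2 hAK]
    rw [h2] at h1
    refine ⟨LocalEven.charP_normal hK hAK hn, ?_, ?_⟩
    · rw [← h2]; exact hS.inf_normal hAK ((Subgroup.normal_subgroupOf_iff_le_normalizer hAK).1 hn)
    · rw [← h1]
      have h3 := congrArg (fun X : Subgroup H => A ⊓ X) heq
      simp only [← inf_assoc, inf_eq_left.2 hAK] at h3
      exact h3

end Cfsg.Agent.S2805
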