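import Cfsg.Statements.S2806
import Cfsg.Agent.Lib.LocalEven.PointStab

set_option autoImplicit false
open Cfsg

namespace Cfsg.Agent.S2806

theorem result {H : Type*} [Group H] [Finite H] {p : ℕ} [Fact p.Prime] (hH : Cfsg.IsOfLocalCharacteristic p H) (T : Sylow p H) (L₁ L₂ : Subgroup H) (h₁ : L₁.IsSubnormal) (h₂ : L₂.IsSubnormal) : Cfsg.pointStabilizer p (L₁ ⊔ L₂) ((T : Subgroup H) ⊓ (L₁ ⊔ L₂)) = Cfsg.pointStabilizer p L₁ ((T : Subgroup H) ⊓ L₁) ⊔ Cfsg.pointStabilizer p L₂ ((T : Subgroup H) ⊓ L₂) := by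
  exact Cfsg.Agent.LocalEven.PointStab.pointStabilizer_sup T hH h₁ h₂

end Cfsg.Agent.S2806
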