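import Cfsg.Statements.S2807
import Cfsg.Agent.Lib.Local.FS.Yoshida
import Cfsg.Agent.Lib.Local.FS.Group
import Cfsg.Agent.Lib.Fusion.Focal
import Cfsg.Agent.S5076

set_option autoImplicit false
open Cfsg

namespace Cfsg.Agent.S2807

open scoped commutatorElement

/-- Let S be a Sylow p-subgroup of the finite group G. If S ∩ G' ≠ S ∩ (N_G(S))' (derived subgroups), then the wreath product Z_p ≀ Z_p — realised as a Sylow p-subgroup of the symmetric group of degree p² — is a homomorphic image of S. -/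
theorem result {G : Type*} [Group G] [Finite G] {p : ℕ} [Fact p.Prime] (S : Sylow p G) (h : (S : Subgroup G) ⊓ commutator G ≠ (S : Subgroup G) ⊓ ⁅Subgroup.normalizer ((S : Subgroup G) : Set G), Subgroup.normalizer ((S : Subgroup G) : Set G)⁆) : ∃ (P : Sylow p (Equiv.Perm (Fin (p ^ 2)))) (f : ↥(S : Subgroup G) →* ↥(P : Subgroup (Equiv.Perm (Fin (p ^ 2))))), Function.Surjective f := by
  open Cfsg.Agent.Local.FS Cfsg.Agent.Fusion Cfsg.FusionSystem in
  by_contra hW
  apply h
  set N := Subgroup.normalizer ((S : Subgroup G) : Set G) with hN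
  refine le_antisymm ?_ (inf_le_inf_left _ (Subgroup.commutator_mono le_top le_top))
  set F := Cfsg.groupFusionSystem (S : Subgroup G) with hFdef
  have hF : F.IsSaturated p := Cfsg.Agent.S5076.result p S
  have hnt : NormTrivial p ↥(S : Subgroup G) := fun M hM u μ hMi m => by
    by_contra hm
    exact hW (Cfsg.Agent.Fusion.exists_surj_of_norm S.2 hMi u μ m hm)
  have hY := focal_le_normFoc_of_normTrivial S.2 hF hnt
  have h1 : normFoc F (S : Subgroup G) ≤ (S : Subgroup G) ⊓ ⁅N, N⁆ :=
    le_inf (normFoc_le _ _) (normFoc_le_of fun P f hf hSP hfS x hx => by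
      obtain ⟨hPS, -, g, hg⟩ := map_group_iff.1 hf
      have hPeq : P = (S : Subgroup G) := le_antisymm hPS hSP
      have hle : (S : Subgroup G).map (MulAut.conj g).toMonoidHom ≤ (S : Subgroup G) := by
        rintro _ ⟨a, ha, rfl⟩
        show g * a * g⁻¹ ∈ _
        rw [← hg a (hSP ha)]
        exact hf.mem (hSP ha)
      have heq := Subgroup.eq_of_le_of_card_ge hle
        (le_of_eq (Subgroup.card_map_of_injective (MulAut.conj g).injective).symm)
      have hgN : g ∈ N := Subgroup.mem_normalizer_iff.2 fun a => ⟨fun ha => hle ⟨a, ha, rfl⟩, fun ha => by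
        obtain ⟨b, hb, e⟩ := heq.ge ha
        exact (MulAut.conj g).injective e ▸ hb⟩
      have hxN : x ∈ N := Subgroup.le_normalizer (hPS hx)
      rw [hg x hx]
      have := Subgroup.commutator_mem_commutator (Subgroup.inv_mem N hxN) hgN
      simpa [commutatorElement_def, mul_assoc] using this)
  refine le_trans ?_ h1
  refine le_trans ?_ hY
  rw [inf_commutator_eq_focalIn_top (sylIn_top S)]
  refine (Subgroup.closure_le _).2 ?_
  rintro _ ⟨x, hx, g, -, hxg, rfl⟩
  have hle : Subgroup.zpowers x ≤ (S : Subgroup G) := Subgroup.zpowers_le.2 hx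
  refine Subgroup.subset_closure ⟨Subgroup.zpowers x, Cfsg.conjHom (Subgroup.zpowers x) g,
    ⟨x, Subgroup.mem_zpowers x⟩, ⟨hle, fun a => ?_, g, fun a => rfl⟩, rfl⟩
  obtain ⟨k, hk⟩ := Subgroup.mem_zpowers_iff.1 a.2
  show g * (a : G) * g⁻¹ ∈ _
  rw [← hk, ← conj_zpow]
  exact Subgroup.zpow_mem _ hxg k

end Cfsg.Agent.S2807
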