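import Cfsg.Statements.S2809
import Cfsg.Agent.Lib.LocalEven.PPrime
-- import your own Cfsg.Agent.* helpers here

set_option autoImplicit false
open Cfsg

open Cfsg.Agent Cfsg.Agent.Fusion
open scoped commutatorElement

namespace Cfsg.Agent.S2809

/-- Let H be a finite group, p a prime, R a p-subgroup of H with C_H(R) ≤ R, and L a subgroup of N_H(R) acting nilpotently on R (some iterated commutator [R, L, …, L] is trivial). Then L is a p-group. -/
theorem result {H : Type*} [Group H] [Finite H] {p : ℕ} [Fact p.Prime] (R : Subgroup H) (hR : IsPGroup p ↥R) (hC : Subgroup.centralizer (R : Set H) ≤ R) (L : Subgroup H) (hL : L ≤ Subgroup.normalizer (R : Set H)) (hnil : ∃ n : ℕ, Cfsg.iterCommutator R L n = ⊥) : IsPGroup p ↥L := by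
  obtain ⟨n, hn⟩ := hnil
  have hle : ∀ i, Cfsg.iterCommutator R L i ≤ R := by
    intro i
    induction i with
    | zero => exact le_rfl
    | succ i ih =>
      show ⁅Cfsg.iterCommutator R L i, L⁆ ≤ R
      rw [Subgroup.commutator_le]
      intro a ha b hb
      rw [commutatorElement_def, show a * b * a⁻¹ * b⁻¹ = a * (b * a⁻¹ * b⁻¹) by group]
      exact mul_mem (ih ha) ((Subgroup.mem_set_normalizer_iff.1 (hL hb) _).1 (inv_mem (ih ha)))
  refine LocalEven.isPGroup_of_coprime_elements fun x hx hxc => ?_
  have h : ∀ j i, i + j = n → ∀ y ∈ Cfsg.iterCommutator R L i, x * y = y * x := by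
    intro j
    induction j with
    | zero =>
      intro i hi y hy
      rw [add_zero] at hi
      rw [hi, hn, Subgroup.mem_bot] at hy
      rw [hy]; simp
    | succ j ih =>
      intro i hi y hy
      have hmem : x * y * x⁻¹ * y⁻¹ ∈ Cfsg.iterCommutator R L (i + 1) := by
        have h1 : ⁅y, x⁆ ∈ Cfsg.iterCommutator R L (i + 1) := Subgroup.commutator_mem_commutator hy hx
        rw [← commutatorElement_def x y, ← commutatorElement_inv y x]
        exact inv_mem h1
      obtain ⟨k, hk⟩ := hR ⟨_, hle _ hmem⟩
      exact LocalEven.commute_of_commutator_fixed hxc (congrArg Subtype.val hk) (ih (i + 1) (by omega) _ hmem)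
  obtain ⟨k, hk⟩ := hR ⟨x, hC (Subgroup.mem_centralizer_iff.2 fun y hy => (h n 0 (zero_add n) y hy).symm)⟩
  exact LocalEven.eq_one_of_pow_coprime (congrArg Subtype.val hk) (pow_orderOf_eq_one x) hxc

end Cfsg.Agent.S2809
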