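import Cfsg.Statements.S2810
import Cfsg.Agent.Lib.LocalEven.PPrime
-- import your own Cfsg.Agent.* helpers here

set_option autoImplicit false
open Cfsg

open Cfsg.Agent Cfsg.Agent.Fusion
open scoped commutatorElement

namespace Cfsg.Agent.S2810

/-- Let H be a finite group of characteristic p and L a subgroup of H centralizing every factor of some H-invariant chain 1 = A₀ ≤ A₁ ≤ … ≤ Aₙ = O_p(H) of normal subgroups (that is, [A_{i+1}, L] ≤ Aᵢ for each i). Then L ≤ O_p(H). -/
theorem result {H : Type*} [Group H] [Finite H] {p : ℕ} [Fact p.Prime] (hchar : Subgroup.centralizer (Cfsg.pCore p H : Set H) ≤ Cfsg.pCore p H) (L : Subgroup H) (n : ℕ) (A : Fin (n + 1) → Subgroup H) (h0 : A 0 = ⊥) (hn : A (Fin.last n) = Cfsg.pCore p H) (hmono : Monotone A) (hnorm : ∀ i, (A i).Normal) (hcent : ∀ i : Fin n, ⁅A i.succ, L⁆ ≤ A i.castSucc) : L ≤ Cfsg.pCore p H := by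
  obtain ⟨P, hP⟩ : ∃ P, P = Cfsg.pCore p H := ⟨_, rfl⟩
  have hnm := fun i => (hnorm i).conj_mem
  let N : Subgroup H :=
    { carrier := {g | ∀ i : Fin n, ∀ a ∈ A i.succ, g * a * g⁻¹ * a⁻¹ ∈ A i.castSucc}
      one_mem' := fun i a _ => by simp
      mul_mem' := fun {g h} hg hh i a ha => by
        rw [show g * h * a * (g * h)⁻¹ * a⁻¹ = (g * (h * a * h⁻¹) * g⁻¹ * (h * a * h⁻¹)⁻¹) * (h * a * h⁻¹ * a⁻¹) by group]
        exact mul_mem (hg i _ (hnm _ a ha h)) (hh i a ha)
      inv_mem' := fun {g} hg i a ha => by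
        have h1 := inv_mem (hg i _ (hnm _ a ha g⁻¹))
        simpa [mul_assoc] using h1 }
  haveI : N.Normal := ⟨fun g hg t i a ha => by
    have h1 := hnm _ _ (hg i _ (hnm _ a ha t⁻¹)) t
    simpa [mul_assoc] using h1⟩
  have hLN : L ≤ N := fun g hg i a ha => by
    have h1 := inv_mem (hcent i (Subgroup.commutator_mem_commutator ha hg))
    rw [commutatorElement_inv, commutatorElement_def] at h1
    exact h1
  refine hLN.trans (le_pCore (LocalEven.isPGroup_of_coprime_elements fun x hx hxc => ?_))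
  have h : ∀ i : Fin (n + 1), ∀ y ∈ A i, x * y = y * x := by
    intro i
    induction i using Fin.induction with
    | zero => intro y hy; rw [h0, Subgroup.mem_bot] at hy; rw [hy]; simp
    | succ i ih =>
      intro y hy
      have hmem := hx i y hy
      obtain ⟨k, hk⟩ := isPGroup_pCore p H ⟨_, (hn ▸ hmono (Fin.le_last _) : A i.castSucc ≤ Cfsg.pCore p H) hmem⟩
      exact LocalEven.commute_of_commutator_fixed hxc (congrArg Subtype.val hk) (ih _ hmem)
  exact LocalEven.eq_one_of_centralizes_pCore hchar hxc fun y hy => h (Fin.last n) y (hn.symm ▸ hy)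

end Cfsg.Agent.S2810
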