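import Cfsg.Statements.S2812
import Cfsg.Agent.Lib.LocalEven.GFitAction

set_option autoImplicit false
open Cfsg
open Cfsg.Agent
open scoped commutatorElement

namespace Cfsg.Agent.S2812

theorem result {G : Type*} [Group G] [Finite G] {p : ℕ} [Fact p.Prime] (H : Subgroup G) (hO : Cfsg.pCore p ↥H = ⊥) (Y : Subgroup G) (hY : IsPGroup p ↥Y) (hYH : Y ≤ Subgroup.normalizer (H : Set G)) (L : Subgroup G) (hLF : L ≤ (Cfsg.generalizedFittingSubgroup ↥H).map H.subtype) (hLsn : (L.subgroupOf H).IsSubnormal) (hYL : Y ≤ Subgroup.normalizer (L : Set G)) : ⁅L, Y⁆ ⊔ (L ⊓ Subgroup.centralizer (Y : Set G)) = L ∧ ⁅L, Y⁆ = ⁅⁅L, Y⁆, Y⁆ := by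
  obtain ⟨h1, h2⟩ := LocalEven.GFitAct.hyps_of_subnormal hO hLF hLsn
  exact ⟨LocalEven.GFitAct.split h1 h2 hY hYL, (LocalEven.GFitAct.idem h1 h2 hY hYL).symm⟩

end Cfsg.Agent.S2812
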