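import Cfsg.Statements.S2813
import Cfsg.Agent.Lib.LocalEven.PPrime
-- import your own Cfsg.Agent.* helpers here

set_option autoImplicit false
open Cfsg

open Cfsg.Agent Cfsg.Agent.Fusion
open scoped commutatorElement

namespace Cfsg.Agent.S2813

/-- Let K be a subgroup of the finite group H with O_p(K) = 1 and Y a p-subgroup of N_H(K) with [K, Y, Y] = 1. Then [K, Y] = 1. -/
theorem result {H : Type*} [Group H] [Finite H] {p : ℕ} [Fact p.Prime] (K : Subgroup H) (hO : Cfsg.pCore p ↥K = ⊥) (Y : Subgroup H) (hY : IsPGroup p ↥Y) (hYK : Y ≤ Subgroup.normalizer (K : Set H)) (hq : ⁅⁅K, Y⁆, Y⁆ = ⊥) : ⁅K, Y⁆ = ⊥ := by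
  set W := ⁅K, Y⁆ with hW
  have hWK : W ≤ K := by
    rw [hW, Subgroup.commutator_le]
    intro k hk y hy
    rw [commutatorElement_def, show k * y * k⁻¹ * y⁻¹ = k * (y * k⁻¹ * y⁻¹) by group]
    exact mul_mem hk ((Subgroup.mem_set_normalizer_iff.1 (hYK hy) _).1 (inv_mem hk))
  have hWc : ∀ w ∈ W, ∀ y ∈ Y, w * y = y * w := fun w hw y hy => by
    have h := Subgroup.commutator_mem_commutator hw hy
    rw [hq, Subgroup.mem_bot, commutatorElement_eq_one_iff_mul_comm] at h
    exact h
  have hKW : ∀ k ∈ K, ∀ w ∈ W, k * w * k⁻¹ ∈ W := by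
    intro k hk w hw
    induction hw using Subgroup.closure_induction with
    | mem g hg =>
      obtain ⟨k', hk', y, hy, rfl⟩ := hg
      rw [show k * ⁅k', y⁆ * k⁻¹ = ⁅k * k', y⁆ * ⁅k, y⁆⁻¹ by simp only [commutatorElement_def]; group]
      exact mul_mem (Subgroup.commutator_mem_commutator (mul_mem hk hk') hy)
        (inv_mem (Subgroup.commutator_mem_commutator hk hy))
    | one => simp
    | mul u v _ _ hu hv =>
      rw [show k * (u * v) * k⁻¹ = k * u * k⁻¹ * (k * v * k⁻¹) by group]; exact mul_mem hu hv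
    | inv u _ hu => rw [show k * u⁻¹ * k⁻¹ = (k * u * k⁻¹)⁻¹ by group]; exact inv_mem hu
  have hab : ∀ w ∈ W, ∀ v ∈ W, w * v = v * w := by
    intro w hw v hv
    induction hv using Subgroup.closure_induction with
    | mem g hg =>
      obtain ⟨k, hk, y, hy, rfl⟩ := hg
      have h1 := hWc _ (hKW k⁻¹ (inv_mem hk) w hw) y hy
      rw [inv_inv] at h1
      have h2 : Commute w (k * y * k⁻¹) := by
        show w * (k * y * k⁻¹) = k * y * k⁻¹ * w
        calc w * (k * y * k⁻¹) = k * (k⁻¹ * w * k * y) * k⁻¹ := by group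
          _ = k * (y * (k⁻¹ * w * k)) * k⁻¹ := by rw [h1]
          _ = k * y * k⁻¹ * w := by group
      exact (h2.mul_right (show Commute w y from hWc w hw y hy).inv_right).eq
    | one => simp
    | mul u v _ _ hu hv => exact ((show Commute w u from hu).mul_right hv).eq
    | inv u _ hu => exact (show Commute w u from hu).inv_right.eq
  have hWp : IsPGroup p W := by
    let T : Subgroup H :=
      { carrier := {w | w ∈ W ∧ ∃ n, w ^ p ^ n = 1}
        one_mem' := ⟨one_mem _, 0, by simp⟩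
        mul_mem' := fun {a b} ⟨ha, i, hi⟩ ⟨hb, j, hj⟩ => ⟨mul_mem ha hb, i + j, by
          rw [(show Commute a b from hab a ha b hb).mul_pow, pow_add, pow_mul, hi, one_pow, one_mul,
            mul_comm, pow_mul, hj, one_pow]⟩
        inv_mem' := fun {a} ⟨ha, i, hi⟩ => ⟨inv_mem ha, i, by rw [inv_pow, hi, inv_one]⟩ }
    have hWT : W ≤ T := by
      rw [hW, Subgroup.commutator_le]
      intro k hk y hy
      refine ⟨Subgroup.commutator_mem_commutator hk hy, ?_⟩
      obtain ⟨n, hn⟩ := hY ⟨y, hy⟩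
      refine ⟨n, ?_⟩
      obtain ⟨c, hc⟩ : ∃ c, c = ⁅k, y⁆ := ⟨_, rfl⟩
      have hcy : Commute c y := hc ▸ hWc _ (Subgroup.commutator_mem_commutator hk hy) y hy
      have h1 : c * y = k * y * k⁻¹ := by rw [hc, commutatorElement_def]; group
      have h2 : (c * y) ^ p ^ n = (k * y * k⁻¹) ^ p ^ n := by rw [h1]
      rw [hcy.mul_pow, conj_pow, show y ^ p ^ n = 1 from congrArg Subtype.val hn, mul_one, mul_one,
        mul_inv_cancel] at h2
      rw [← hc]; exact h2
    intro w
    obtain ⟨n, hn⟩ := (hWT w.2).2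
    exact ⟨n, Subtype.ext hn⟩
  haveI : (W.subgroupOf K).Normal :=
    ⟨fun w hw k => hKW k k.2 w hw⟩
  have h := le_pCore (N := W.subgroupOf K) hWp.comap_subtype
  rw [hO, le_bot_iff, Subgroup.subgroupOf_eq_bot] at h
  exact disjoint_self.1 (h.mono_right hWK)

end Cfsg.Agent.S2813
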