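import Cfsg.Statements.S2814
import Cfsg.Agent.Lib.Solv.Coprime
import Cfsg.Agent.Lib.Solv.Subnormal
import Cfsg.Agent.Lib.Fusion.NPC
-- import your own Cfsg.Agent.* helpers here

set_option autoImplicit false
open Cfsg

open Cfsg.Agent Cfsg.Agent.Fusion

namespace Cfsg.Agent.S2814

/-- Let A be a subgroup of the finite group H and K the subnormal closure of A (intersection of the subnormal subgroups containing A). Then K is the normal closure of A inside K and N_H(A) ≤ N_H(K); K = A·O^p(K), O^p(K) being generated by the elements of K of order prime to p; and if A is a p-group, O^p(K) = [O^p(K), A]. -/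
theorem result {H : Type*} [Group H] [Finite H] {p : ℕ} [Fact p.Prime] (A : Subgroup H) (K : Subgroup H) (hK : K = Cfsg.subnormalClosure A) : (Subgroup.normalClosure ((A.subgroupOf K : Subgroup ↥K) : Set ↥K)).map K.subtype = K ∧ Subgroup.normalizer (A : Set H) ≤ Subgroup.normalizer (K : Set H) ∧ A ⊔ (Cfsg.pResidual p ↥K).map K.subtype = K ∧ (IsPGroup p ↥A → ⁅(Cfsg.pResidual p ↥K).map K.subtype, A⁆ = (Cfsg.pResidual p ↥K).map K.subtype) := by
  classical
  subst hK
  set K := Cfsg.subnormalClosure A with hKdef
  have hAK : A ≤ K := le_sInf fun X hX => hX.1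
  have hKsn : K.IsSubnormal := by
    obtain ⟨t, ht⟩ := (Set.toFinite {X : Subgroup H | A ≤ X ∧ X.IsSubnormal}).exists_finset_coe
    have h2 : K = t.inf id := by rw [Finset.inf_id_eq_sInf, ht]; rfl
    rw [h2]
    refine Finset.inf_induction (p := fun X : Subgroup H => X.IsSubnormal) ?_
      (fun X hX Y hY => hX.inf hY) fun X hX => ?_
    · exact Subgroup.Normal.isSubnormal inferInstance
    · have hX' : X ∈ (t : Set (Subgroup H)) := hX
      rw [ht] at hX'
      exact hX'.2
  have hmin : ∀ X : Subgroup H, A ≤ X → X.IsSubnormal → K ≤ X := fun X h1 h2 => sInf_le ⟨h1, h2⟩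
  have hminK : ∀ X : Subgroup K, A.subgroupOf K ≤ X → X.IsSubnormal → X = ⊤ := fun X h1 h2 => by
    refine eq_top_iff.2 fun x _ => ?_
    obtain ⟨y, hy, he⟩ := hmin (X.map K.subtype) (fun a ha => ⟨⟨a, hAK ha⟩, h1 ha, rfl⟩)
      (Subgroup.IsSubnormal.trans' h2 hKsn) x.2
    rwa [← Subtype.ext he]
  have h1 : Subgroup.normalClosure ((A.subgroupOf K : Subgroup K) : Set K) = ⊤ :=
    hminK _ Subgroup.subset_normalClosure (Subgroup.Normal.isSubnormal inferInstance)
  set R := Cfsg.pResidual p K with hR
  haveI : Group.IsNilpotent (K ⧸ R) := (isPGroup_quotient_pResidual (p := p) (G := K)).isNilpotent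
  have h3 : A.subgroupOf K ⊔ R = ⊤ := by
    refine hminK _ le_sup_left ?_
    rw [← sup_comm R, ← QuotientGroup.comap_map_mk']
    exact (Cfsg.Agent.Solv.isSubnormal_of_isNilpotent _).comap _
  refine ⟨?_, fun g hg => mem_normalizer_iff_cj.2 ?_, ?_, fun hA => ?_⟩
  · rw [h1, ← MonoidHom.range_eq_map, Subgroup.range_subtype]
  · have h := hmin (cj K g) ?_ (hKsn.map (MulAut.conj g).surjective)
    · exact (Subgroup.eq_of_le_of_card_ge h (card_cj K g).le).symm
    · intro a ha
      rw [← cj_eq_self hg] at ha
      exact cj_mono hAK g ha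
  · refine le_antisymm (sup_le hAK (Subgroup.map_subtype_le _)) fun x hx => ?_
    have := h3.ge (Subgroup.mem_top (⟨x, hx⟩ : K))
    rw [Subgroup.mem_sup_of_normal_right] at this
    obtain ⟨a, ha, r, hr, he⟩ := this
    rw [show x = (a : H) * r from (congrArg Subtype.val he).symm]
    exact mul_mem (Subgroup.mem_sup_left ha) (Subgroup.mem_sup_right ⟨r, hr, rfl⟩)
  · set A' := A.subgroupOf K with hA'
    set N := ⁅R, A'⁆ with hN
    obtain ⟨hNR, hRN, hAN⟩ := Cfsg.Agent.Solv.commutator_normal_in (K := R) (A := A')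
      (by rw [Subgroup.normalizer_eq_top]; exact le_top)
    haveI hNn : N.Normal := Subgroup.normalizer_eq_top_iff.1 (top_le_iff.1 (h3.ge.trans (sup_le hAN hRN)))
    set π := QuotientGroup.mk' N
    have htop : A'.map π = ⊤ := by
      have hn : (A'.map π).Normal := by
        refine Subgroup.normalizer_eq_top_iff.1 (top_le_iff.1 ?_)
        rw [← Subgroup.map_top_of_surjective π (QuotientGroup.mk'_surjective N), ← h3, Subgroup.map_sup]
        refine sup_le Subgroup.le_normalizer ((?_ : R.map π ≤ _).trans (Subgroup.centralizer_le_normalizer _))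
        rw [← Subgroup.commutator_eq_bot_iff_le_centralizer, ← Subgroup.map_commutator, ← hN,
          QuotientGroup.map_mk'_self]
      have := hminK ((A'.map π).comap π) (Subgroup.le_comap_map _ _) ((Subgroup.Normal.isSubnormal hn).comap _)
      rw [← Subgroup.map_comap_eq_self_of_surjective (QuotientGroup.mk'_surjective N) (A'.map π), this,
        Subgroup.map_top_of_surjective π (QuotientGroup.mk'_surjective N)]
    have hq : IsPGroup p (K ⧸ N) := by
      have : IsPGroup p (A'.map π) := (hA.comap_subtype (K := K)).map π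
      rw [htop] at this
      exact this.of_equiv Subgroup.topEquiv
    have hNeq : N = R := le_antisymm hNR (pResidual_le_of_isPGroup_quotient hq)
    have h := congrArg (Subgroup.map K.subtype) hNeq
    rw [hN, Subgroup.map_commutator, hA', Subgroup.map_subgroupOf_eq_of_le hAK] at h
    exact h

end Cfsg.Agent.S2814
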