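import Cfsg.Statements.S2815
import Cfsg.Agent.Lib.LocalEven.GFitAction

set_option autoImplicit false
open Cfsg
open Cfsg.Agent
open scoped commutatorElement

namespace Cfsg.Agent.S2815

theorem result {H : Type*} [Group H] [Finite H] {p : ℕ} [Fact p.Prime] (hp : p ∣ Nat.card H) (hO : Cfsg.pCore p H = ⊥) (hq : Cfsg.IsQuasisimple ↥(Cfsg.pResidual p H)) : Cfsg.pResidual p H = Cfsg.generalizedFittingSubgroup H ∧ (∀ Y : Subgroup H, IsPGroup p ↥Y → Y ≠ ⊥ → ⁅Cfsg.pResidual p H, Y⁆ = Cfsg.pResidual p H ∧ Cfsg.pResidual p H ≤ ⨆ k : ↥(Cfsg.pResidual p H), Y.map (MulAut.conj (k : H)).toMonoidHom) ∧ (∀ C : Subgroup H, C.Normal → ¬ Cfsg.pResidual p H ≤ C → (Nat.card ↥C).Coprime p) ∧ Cfsg.IsPIrreducible p H := by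
  haveI hEn : (generalizedFittingSubgroup H).Normal := Local.gfit_normal
  obtain ⟨K, hK⟩ : ∃ K, K = pResidual p H := ⟨_, rfl⟩
  rw [← hK] at hq ⊢
  haveI : K.Normal := hK ▸ inferInstance
  have hcomp : IsComponent K := ⟨(inferInstance : K.Normal).isSubnormal, hq⟩
  obtain ⟨C, hC⟩ : ∃ C, C = Subgroup.centralizer (K : Set H) := ⟨_, rfl⟩
  haveI : C.Normal := hC ▸ inferInstance
  have hqK : IsPGroup p (H ⧸ K) := by
    subst hK; exact Fusion.isPGroup_quotient_pResidual
  have hCK : C ≤ K := by
    obtain ⟨P⟩ : Nonempty (Sylow p ↥C) := inferInstance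
    haveI : Group.IsNilpotent ↥C := by
      haveI : Group.IsNilpotent (↥C ⧸ K.subgroupOf C) := by
        have hqC : IsPGroup p (↥C ⧸ K.subgroupOf C) := by
          intro x
          induction x using QuotientGroup.induction_on
          rename_i c
          obtain ⟨k, hk⟩ := hqK (QuotientGroup.mk (c : H))
          refine ⟨k, ?_⟩
          rw [← QuotientGroup.mk_pow, QuotientGroup.eq_one_iff, Subgroup.mem_subgroupOf, SubmonoidClass.coe_pow,
            ← QuotientGroup.eq_one_iff, QuotientGroup.mk_pow]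
          exact hk
        exact hqC.isNilpotent
      refine Subgroup.isNilpotent_of_ker_le_center (QuotientGroup.mk' (K.subgroupOf C)) ?_
      rw [QuotientGroup.ker_mk']
      intro x hx
      refine Subgroup.mem_center_iff.2 fun y => Subtype.ext ?_
      exact (Subgroup.mem_centralizer_iff.1 (hC.le y.2) x hx).symm
    have hsn : C ≤ fittingSubgroup H := Solv.normal_le_fitting inferInstance
    intro c hc
    rw [← QuotientGroup.eq_one_iff, ← orderOf_eq_one_iff]
    obtain ⟨k, hk⟩ := hqK (QuotientGroup.mk c)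
    refine Nat.eq_one_of_dvd_coprimes ((LocalEven.GFitAct.fitting_coprime (p := p) hO).pow_right k) ?_
      (orderOf_dvd_of_pow_eq_one hk)
    exact (orderOf_map_dvd (QuotientGroup.mk' K) c).trans (Subgroup.orderOf_mk c (hsn hc) ▸ orderOf_dvd_natCard _)
  have hE : K = generalizedFittingSubgroup H := by
    refine le_antisymm ((Solv.component_le_layer hcomp).trans le_sup_left) (sup_le (sSup_le fun L hL => ?_) ?_)
    · rcases eq_or_ne L K with rfl | hne
      · exact le_rfl
      · exact (hC ▸ Subgroup.commutator_eq_bot_iff_le_centralizer.1 (Solv.components_commute hL hcomp hne) : L ≤ C).trans hCK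
    · refine le_trans ?_ hCK
      rw [hC, Subgroup.le_centralizer_iff, ← Subgroup.commutator_eq_bot_iff_le_centralizer]
      exact le_bot_iff.1 ((Subgroup.commutator_mono (Solv.component_le_layer hcomp) le_rfl).trans
        Solv.layer_commutator_fitting.le)
  have hCp : (Nat.card ↥C).Coprime p := LocalEven.GFitAct.centralizer_coprime hO fun B hB hBC =>
    LocalEven.GFitAct.eq_bot_of_centralizes hO hB (hE ▸ hC ▸ hBC)
  have key : ∀ N : Subgroup H, K ≤ Subgroup.normalizer ((⁅K, N⁆ : Subgroup H) : Set H) → ⁅K, N⁆ ≤ K → ¬ K ≤ ⁅K, N⁆ →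
      N ≤ C := by
    intro N hn hle hne
    have hc : ⁅⁅K, N⁆, K⁆ = ⊥ := by
      rw [Subgroup.commutator_eq_bot_iff_le_centralizer]
      haveI := (Subgroup.normal_subgroupOf_iff_le_normalizer hle).2 hn
      intro x hx
      rcases Solv.qs_normal_le_center_or_top hq ((⁅K, N⁆).subgroupOf K) with h | h
      · exact absurd (Subgroup.subgroupOf_eq_top.1 h) hne
      · exact Subgroup.mem_centralizer_iff.2 fun k hk =>
          congrArg Subtype.val (Subgroup.mem_center_iff.1 (h (show (⟨x, hle hx⟩ : ↥K) ∈ _ from hx)) ⟨k, hk⟩)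
    rw [hC, Subgroup.le_centralizer_iff, ← Subgroup.commutator_eq_bot_iff_le_centralizer]
    have h3 := Subgroup.commutator_commutator_eq_bot_of_rotate (H₁ := K) (H₂ := K) (H₃ := N) hc
      (by rw [Subgroup.commutator_comm N K]; exact hc)
    rwa [Solv.qs_self_commutator hq] at h3
  have hN : ∀ N : Subgroup H, N.Normal → ¬ K ≤ N → (Nat.card ↥N).Coprime p := by
    intro N hNn hne
    refine hCp.coprime_dvd_left (Subgroup.card_dvd_of_le (key N ?_ ?_ fun h => hne ?_))
    · rw [Subgroup.normalizer_eq_top]; exact le_top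
    · exact Subgroup.commutator_le_left K N
    · exact h.trans (Subgroup.commutator_le_right K N)
  refine ⟨hE, fun Y hY hY0 => ?_, fun N hNn hne => hN N hNn hne, ?_⟩
  · have hYK : Y ≤ Subgroup.normalizer (K : Set H) := by rw [Subgroup.normalizer_eq_top]; exact le_top
    obtain ⟨h1, h2, -⟩ := Solv.commutator_normal_in hYK
    have htop : K ≤ ⁅K, Y⁆ := by
      by_contra hne
      obtain ⟨k, hk⟩ := IsPGroup.iff_card.1 hY
      refine hY0 (Subgroup.card_eq_one.1 ?_)
      have h := hCp.coprime_dvd_left (Subgroup.card_dvd_of_le (key Y h2 h1 hne))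
      rw [hk] at h ⊢
      rcases Nat.eq_zero_or_pos k with rfl | hk0
      · simp
      · exact absurd ((Nat.coprime_pow_left_iff hk0 p p).1 h) (by simp [(Fact.out : p.Prime).ne_one])
    refine ⟨le_antisymm h1 htop, htop.trans (Subgroup.commutator_le.2 fun k hk y hy => ?_)⟩
    rw [show ⁅k, y⁆ = k * y * k⁻¹ * y⁻¹ by rw [commutatorElement_def]]
    refine mul_mem (le_iSup (fun c : ↥K => Y.map (MulAut.conj (c : H)).toMonoidHom) ⟨k, hk⟩ ⟨y, hy, by simp⟩) (inv_mem ?_)
    exact le_iSup (fun c : ↥K => Y.map (MulAut.conj (c : H)).toMonoidHom) 1 ⟨y, hy, by simp⟩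
  · refine ⟨fun h => ?_, fun N hNn hNc => ?_⟩
    · obtain ⟨S⟩ : Nonempty (Sylow p H) := inferInstance
      have h1 := S.dvd_card_of_dvd_card hp
      have h2 : (S : Subgroup H) ≤ pCore p H := Fusion.le_pCore (hn := h S) S.isPGroup'
      rw [hO, le_bot_iff] at h2
      rw [h2, Subgroup.card_bot] at h1
      exact (Fact.out : p.Prime).ne_one (Nat.dvd_one.1 h1)
    · rw [← hK]
      by_contra hne
      refine hNc fun S => ?_
      obtain ⟨k, hk⟩ := IsPGroup.iff_card.1 S.isPGroup'
      have h := (hN N hNn hne).coprime_dvd_left (S : Subgroup ↥N).card_subgroup_dvd_card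
      rw [hk] at h
      have hk0 : k = 0 := by
        by_contra h0
        exact absurd ((Nat.coprime_pow_left_iff (Nat.pos_of_ne_zero h0) p p).1 h) (by simp [(Fact.out : p.Prime).ne_one])
      rw [hk0, pow_zero] at hk
      rw [Subgroup.card_eq_one.1 hk]
      infer_instance

end Cfsg.Agent.S2815
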