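import Cfsg.Statements.S2816
import Cfsg.Agent.Lib.LocalEven.GFitAction

set_option autoImplicit false
open Cfsg
open Cfsg.Agent
open scoped commutatorElement

namespace Cfsg.Agent.S2816

theorem result {H : Type*} [Group H] [Finite H] {p : ℕ} [Fact p.Prime] (hO : Cfsg.pCore p H = ⊥) (Y : Subgroup H) (hY : IsPGroup p ↥Y) : (∀ K : Subgroup H, K.IsSubnormal → Y ≤ K → ⁅Cfsg.generalizedFittingSubgroup H, Y⁆ = ⁅(Cfsg.generalizedFittingSubgroup ↥K).map K.subtype, Y⁆ ∧ ⁅(Cfsg.generalizedFittingSubgroup ↥K).map K.subtype, Y⁆ = ⁅⁅(Cfsg.generalizedFittingSubgroup ↥K).map K.subtype, Y⁆, Y⁆) ∧ (∀ Y₀ : Subgroup H, Y₀ ≤ Y → ⁅⁅Cfsg.generalizedFittingSubgroup H, Y⁆, Y₀⁆ = ⊥ → Y₀ = ⊥) := by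
  haveI hEn : (generalizedFittingSubgroup H).Normal := Local.gfit_normal
  refine ⟨fun K hK hYK => ?_, fun Y₀ hY₀ h => ?_⟩
  · -- `F*` of a subnormal subgroup
    have hmain : ∀ M : Subgroup H, M.IsSubnormal → Y ≤ M →
        (generalizedFittingSubgroup ↥M).map M.subtype ≤ generalizedFittingSubgroup H ∧
        ((generalizedFittingSubgroup ↥M).map M.subtype).IsSubnormal ∧
        ⁅generalizedFittingSubgroup H, Y⁆ = ⁅(generalizedFittingSubgroup ↥M).map M.subtype, Y⁆ := by
      intro M hM
      induction hM with
      | top =>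
        intro _
        rw [← Fusion.gfit_inf_normal, inf_top_eq]
        exact ⟨le_rfl, hEn.isSubnormal, rfl⟩
      | step A B hAB hB hN ih =>
        intro hYA
        obtain ⟨hle, hsn, heq⟩ := ih (hYA.trans hAB)
        haveI := hN
        obtain ⟨EB, hEB⟩ : ∃ EB, EB = (generalizedFittingSubgroup ↥B).map B.subtype := ⟨_, rfl⟩
        obtain ⟨EA, hEA⟩ : ∃ EA, EA = (generalizedFittingSubgroup ↥A).map A.subtype := ⟨_, rfl⟩
        have h1 : EA = EB ⊓ A := by
          have h := congrArg (Subgroup.map B.subtype) (Fusion.gfit_inf_normal (A.subgroupOf B))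
          rw [Subgroup.map_inf _ _ _ B.subtype_injective, Subgroup.map_subgroupOf_eq_of_le hAB, ← hEB] at h
          rw [h, hEA]
          have hgm : (generalizedFittingSubgroup ↥(A.subgroupOf B)).map (Subgroup.subgroupOfEquivOfLe hAB).toMonoidHom =
              generalizedFittingSubgroup ↥A := by
            have key : ∀ {X Z : Type _} [Group X] [Group Z] [Finite X] [Finite Z] (e : X ≃* Z),
                (generalizedFittingSubgroup X).map e.toMonoidHom ≤ generalizedFittingSubgroup Z := by
              intro X Z _ _ _ _ e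
              rw [generalizedFittingSubgroup, generalizedFittingSubgroup, Subgroup.map_sup]
              refine sup_le_sup ?_ (Solv.fitting_map_equiv e)
              rw [Subgroup.map_le_iff_le_comap]
              refine sSup_le fun K hK => Subgroup.map_le_iff_le_comap.1 (Solv.component_le_layer ?_)
              exact ⟨Subgroup.IsSubnormal.map (f := e.toMonoidHom) e.surjective hK.1,
                Local.isQuasisimple_congr (K.equivMapOfInjective _ e.injective) hK.2⟩
            refine le_antisymm (key _) fun x hx => ?_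
            refine ⟨(Subgroup.subgroupOfEquivOfLe hAB).symm x, ?_, by simp⟩
            exact key (Subgroup.subgroupOfEquivOfLe hAB).symm ⟨x, hx, rfl⟩
          rw [← hgm, Subgroup.map_map, Subgroup.map_map]
          rfl
        rw [← hEB] at hle hsn heq
        rw [← hEA]
        have hYM : Y ≤ Subgroup.normalizer (EB : Set H) :=
          hEB ▸ (hYA.trans hAB).trans (Subgroup.le_normalizer.trans (by
            haveI : (generalizedFittingSubgroup ↥B).Characteristic := by
              refine Subgroup.characteristic_iff_map_le.2 fun e => ?_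
              rw [generalizedFittingSubgroup, Subgroup.map_sup]
              refine sup_le_sup ?_ (Solv.fitting_map_equiv e)
              rw [Subgroup.map_le_iff_le_comap]
              refine sSup_le fun K hK => Subgroup.map_le_iff_le_comap.1 (Solv.component_le_layer ?_)
              exact ⟨Subgroup.IsSubnormal.map (f := e.toMonoidHom) e.surjective hK.1,
                Local.isQuasisimple_congr (K.equivMapOfInjective _ e.injective) hK.2⟩
            exact LocalEven.normalizer_le_char B _))
        obtain ⟨g1, g2⟩ := LocalEven.GFitAct.hyps_of_subnormal' hO hle hsn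
        have hidem := LocalEven.GFitAct.idem g1 g2 hY hYM
        have hD : ⁅EB, Y⁆ ≤ EA := by
          rw [h1]
          refine le_inf (Solv.commutator_normal_in hYM).1 ?_
          have hBA : B ≤ Subgroup.normalizer (A : Set H) := (Subgroup.normal_subgroupOf_iff_le_normalizer hAB).1 hN
          refine (Subgroup.commutator_mono (hEB ▸ Subgroup.map_subtype_le _) hYA).trans ?_
          rw [Subgroup.commutator_comm]
          exact (Solv.commutator_normal_in hBA).1
        refine ⟨(h1 ▸ inf_le_left : EA ≤ EB).trans hle, ?_, heq.trans (le_antisymm ?_ (Subgroup.commutator_mono (h1 ▸ inf_le_left) le_rfl))⟩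
        · refine Subgroup.IsSubnormal.step EA EB (h1 ▸ inf_le_left) hsn ?_
          rw [Subgroup.normal_subgroupOf_iff_le_normalizer (h1 ▸ inf_le_left)]
          intro g hg
          refine Fusion.mem_normalizer_of_cj_le ?_
          rintro _ ⟨x, hx, rfl⟩
          rw [h1] at hx ⊢
          obtain ⟨hx1, hx2⟩ := Subgroup.mem_inf.1 hx
          have hgB : g ∈ B := Subgroup.map_subtype_le _ (hEB ▸ hg)
          exact Subgroup.mem_inf.2 ⟨mul_mem (mul_mem hg hx1) (inv_mem hg),
            (Subgroup.mem_normalizer_iff.1 ((Subgroup.normal_subgroupOf_iff_le_normalizer hAB).1 hN hgB) x).1 hx2⟩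
        · rw [← hidem]
          exact Subgroup.commutator_mono hD le_rfl
    obtain ⟨hle, hsn, heq⟩ := hmain K hK hYK
    obtain ⟨g1, g2⟩ := LocalEven.GFitAct.hyps_of_subnormal' hO hle hsn
    refine ⟨heq, (LocalEven.GFitAct.idem g1 g2 hY ?_).symm⟩
    haveI : (generalizedFittingSubgroup ↥K).Characteristic := by
      refine Subgroup.characteristic_iff_map_le.2 fun e => ?_
      rw [generalizedFittingSubgroup, Subgroup.map_sup]
      refine sup_le_sup ?_ (Solv.fitting_map_equiv e)
      rw [Subgroup.map_le_iff_le_comap]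
      refine sSup_le fun K hK => Subgroup.map_le_iff_le_comap.1 (Solv.component_le_layer ?_)
      exact ⟨Subgroup.IsSubnormal.map (f := e.toMonoidHom) e.surjective hK.1,
        Local.isQuasisimple_congr (K.equivMapOfInjective _ e.injective) hK.2⟩
    exact hYK.trans (Subgroup.le_normalizer.trans (LocalEven.normalizer_le_char K _))
  · refine LocalEven.GFitAct.eq_bot_of_centralizes hO (hY.to_le hY₀) ?_
    obtain ⟨g1, g2⟩ := LocalEven.GFitAct.hyps_of_subnormal' hO le_rfl hEn.isSubnormal
    have hs := LocalEven.GFitAct.split g1 g2 hY (by rw [Subgroup.normalizer_eq_top]; exact le_top)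
    rw [Subgroup.le_centralizer_iff]
    refine hs.ge.trans (sup_le ?_ (inf_le_right.trans (Subgroup.centralizer_le hY₀)))
    exact Subgroup.commutator_eq_bot_iff_le_centralizer.1 h

end Cfsg.Agent.S2816
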