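import Cfsg.Statements.S2817
import Cfsg.Agent.Lib.LocalEven.GFitAction

set_option autoImplicit false
open Cfsg
open Cfsg.Agent
open scoped commutatorElement
set_option maxHeartbeats 1000000

namespace Cfsg.Agent.S2817

theorem result {H : Type*} [Group H] [Finite H] {p : ℕ} [Fact p.Prime] (hO : Cfsg.pCore p H = ⊥) (Q : Subgroup H) (hQ : IsPGroup p ↥Q) (L : Subgroup H) (hL : L = ⁅Cfsg.generalizedFittingSubgroup H, Q⁆) (F : Subgroup H) (hF : F ≤ Cfsg.generalizedFittingSubgroup H ∧ Cfsg.generalizedFittingSubgroup H ≤ Subgroup.normalizer (F : Set H) ∧ Q ≤ Subgroup.centralizer (F : Set H) ∧ ∀ N : Subgroup H, N ≤ Cfsg.generalizedFittingSubgroup H → Cfsg.generalizedFittingSubgroup H ≤ Subgroup.normalizer (N : Set H) → Q ≤ Subgroup.centralizer (N : Set H) → N ≤ F) : F = Cfsg.generalizedFittingSubgroup H ⊓ Subgroup.centralizer ((L ⊔ Q : Subgroup H) : Set H) ∧ ⁅L, Q⁆ = L ∧ L ⊓ F ≤ (frattini ↥L).map L.subtype ∧ (∀ B : Subgroup H, IsPGroup p ↥B → B ≤ Subgroup.normalizer (Q : Set H) → ⁅L, B⁆ ≤ F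 → ⁅L, B⁆ = ⊥) ∧ (Nat.card ↥(Subgroup.centralizer ((F ⊔ L : Subgroup H) : Set H))).Coprime p := by
  haveI hEn : (generalizedFittingSubgroup H).Normal := Local.gfit_normal
  obtain ⟨E, hE⟩ : ∃ E, E = generalizedFittingSubgroup H := ⟨_, rfl⟩
  rw [← hE] at hL hF ⊢
  haveI : E.Normal := hE ▸ hEn
  obtain ⟨hFE, hEF, hQF, hFmax⟩ := hF
  have hQE : Q ≤ Subgroup.normalizer (E : Set H) := by rw [Subgroup.normalizer_eq_top]; exact le_top
  obtain ⟨gE1, gE2⟩ := LocalEven.GFitAct.hyps_of_subnormal' hO hE.le (inferInstance : E.Normal).isSubnormal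
  obtain ⟨hLE, hEL, hQL⟩ := Solv.commutator_normal_in hQE
  rw [← hL] at hLE hEL hQL
  have hLQ : ⁅L, Q⁆ = L := by rw [hL]; exact LocalEven.GFitAct.idem gE1 gE2 hQ hQE
  have hsplit := LocalEven.GFitAct.split gE1 gE2 hQ hQE
  rw [← hL] at hsplit
  have hLF : L ≤ Subgroup.centralizer (F : Set H) := by
    rw [← Subgroup.commutator_eq_bot_iff_le_centralizer, hL, Subgroup.commutator_comm E Q]
    refine Subgroup.commutator_commutator_eq_bot_of_rotate ?_ ?_
    · refine le_bot_iff.1 ((Subgroup.commutator_mono (?_ : ⁅E, F⁆ ≤ F) le_rfl).trans ?_)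
      · rw [Subgroup.commutator_comm]; exact (Solv.commutator_normal_in hEF).1
      · rw [Subgroup.commutator_comm, le_bot_iff, Subgroup.commutator_eq_bot_iff_le_centralizer]; exact hQF
    · rw [Subgroup.commutator_comm F Q, (Subgroup.commutator_eq_bot_iff_le_centralizer).2 hQF]
      exact le_bot_iff.1 (Subgroup.commutator_le.2 fun a ha b _ => by
        rw [Subgroup.mem_bot.1 ha, commutatorElement_one_left]; exact one_mem _)
  have hFeq : F = E ⊓ Subgroup.centralizer ((L ⊔ Q : Subgroup H) : Set H) := by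
    refine le_antisymm (le_inf hFE ?_) ?_
    · exact Subgroup.le_centralizer_iff.1 (sup_le hLF hQF)
    · have hLQn : E ≤ Subgroup.normalizer ((L ⊔ Q : Subgroup H) : Set H) := by
        intro e he
        refine Fusion.mem_normalizer_of_cj_le ?_
        rw [Fusion.cj, Subgroup.map_sup]
        refine sup_le (le_sup_of_le_left (Fusion.cj_eq_self (hEL he)).le) ?_
        rintro _ ⟨q, hq, rfl⟩
        show e * q * e⁻¹ ∈ L ⊔ Q
        rw [show e * q * e⁻¹ = ⁅e, q⁆ * q by rw [commutatorElement_def]; group]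
        exact mul_mem (Subgroup.mem_sup_left (hL ▸ Subgroup.commutator_mem_commutator he hq)) (Subgroup.mem_sup_right hq)
      refine hFmax _ inf_le_left (fun e he => Fusion.mem_normalizer_of_cj_le ?_)
        (Subgroup.le_centralizer_iff.1 (inf_le_right.trans (Subgroup.centralizer_le (SetLike.coe_subset_coe.2 le_sup_right))))
      rintro _ ⟨x, hx, rfl⟩
      obtain ⟨hx1, hx2⟩ := Subgroup.mem_inf.1 hx
      refine Subgroup.mem_inf.2 ⟨(inferInstance : E.Normal).conj_mem x hx1 e, Subgroup.mem_centralizer_iff.2 fun u hu => ?_⟩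
      have hu' : e⁻¹ * u * e ∈ L ⊔ Q := by
        have := (Subgroup.mem_normalizer_iff.1 (hLQn (inv_mem he)) u).1 hu
        rwa [inv_inv] at this
      have h := Subgroup.mem_centralizer_iff.1 hx2 _ hu'
      show u * (e * x * e⁻¹) = e * x * e⁻¹ * u
      calc u * (e * x * e⁻¹) = e * (e⁻¹ * u * e * x) * e⁻¹ := by group
        _ = e * (x * (e⁻¹ * u * e)) * e⁻¹ := by rw [h]
        _ = _ := by group
  have hLsn : L.IsSubnormal := Subgroup.IsSubnormal.step L E hLE (inferInstance : E.Normal).isSubnormal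
    ((Subgroup.normal_subgroupOf_iff_le_normalizer hLE).2 hEL)
  obtain ⟨gL1, gL2⟩ := LocalEven.GFitAct.hyps_of_subnormal' hO (hLE.trans hE.le) hLsn
  have hphi : L ⊓ F ≤ (frattini ↥L).map L.subtype := by
    obtain ⟨D, hD⟩ : ∃ D, D = (commutator ↥L).map L.subtype := ⟨_, rfl⟩
    have hD' : D = ⁅L, L⁆ := by
      rw [hD, commutator_def, Subgroup.map_commutator, ← MonoidHom.range_eq_map, Subgroup.range_subtype]
    haveI : (commutator ↥L).Normal := inferInstance
    -- the abelianisation has order prime to `p`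
    have hab : (commutator ↥L).index.Coprime p := by
      obtain ⟨Fl, hFl⟩ : ∃ Fl, Fl = fittingSubgroup ↥L := ⟨_, rfl⟩
      have hle : commutator ↥L ⊔ Fl = ⊤ := by
        refine eq_top_iff.2 (gL1.ge.trans (sup_le (le_sup_of_le_left (sSup_le fun K hK => ?_)) (hFl ▸ le_sup_right)))
        rw [← Solv.qs_self_commutator hK.2, commutator_def]
        exact Subgroup.commutator_mono le_top le_top
      refine gL2.coprime_dvd_left ?_
      rw [← hFl, Subgroup.index_eq_card]
      have h := congrArg (Subgroup.map (QuotientGroup.mk' (commutator ↥L))) hle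
      rw [Subgroup.map_sup, QuotientGroup.map_mk'_self, bot_sup_eq,
        Subgroup.map_top_of_surjective _ (QuotientGroup.mk'_surjective _)] at h
      rw [← Subgroup.card_top (G := ↥L ⧸ commutator ↥L), ← h]
      exact Subgroup.card_map_dvd _ _
    classical
    haveI : Fintype ↥Q := Fintype.ofFinite _
    letI : CommGroup (↥L ⧸ commutator ↥L) :=
      { (inferInstance : Group (↥L ⧸ commutator ↥L)) with
        mul_comm := fun a b => by
          induction a using QuotientGroup.induction_on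
          induction b using QuotientGroup.induction_on
          rw [← QuotientGroup.mk_mul, ← QuotientGroup.mk_mul, QuotientGroup.eq]
          rename_i a b
          rw [show (a * b)⁻¹ * (b * a) = ⁅b⁻¹, a⁻¹⁆ by rw [commutatorElement_def]; group, commutator_def]
          exact Subgroup.commutator_mem_commutator (Subgroup.mem_top _) (Subgroup.mem_top _) }
    let τ : ↥L →* ↥L ⧸ commutator ↥L := MonoidHom.mk' (fun x => ∏ q : ↥Q,
      (QuotientGroup.mk (⟨(q : H) * x * (q : H)⁻¹, (Subgroup.mem_normalizer_iff.1 (hQL q.2) _).1 x.2⟩ : ↥L) : ↥L ⧸ commutator ↥L))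
      fun x y => by
        rw [← Finset.prod_mul_distrib]
        refine Finset.prod_congr rfl fun q _ => ?_
        rw [← QuotientGroup.mk_mul]
        congr 1
        apply Subtype.ext
        show (q : H) * (x * y : ↥L) * (q : H)⁻¹ = ((q : H) * x * (q : H)⁻¹) * ((q : H) * y * (q : H)⁻¹)
        simp [mul_assoc]
    have hτ : ∀ x : ↥L, τ x = 1 := by
      intro x
      have hle : ⁅L, Q⁆ ≤ τ.ker.map L.subtype := by
        refine Subgroup.commutator_le.2 fun a ha q hq => ?_
        have hb : q * a * q⁻¹ ∈ L := (Subgroup.mem_normalizer_iff.1 (hQL hq) a).1 ha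
        refine ⟨⟨a, ha⟩ * ⟨q * a * q⁻¹, hb⟩⁻¹, ?_, by simp [commutatorElement_def, mul_assoc]⟩
        show _ ∈ τ.ker
        rw [MonoidHom.mem_ker, map_mul, map_inv, mul_inv_eq_one]
        refine (Fintype.prod_equiv (Equiv.mulRight (⟨q, hq⟩ : ↥Q)) _ _ fun r => ?_).symm
        congr 1
        apply Subtype.ext
        show (r : H) * (q * a * q⁻¹) * (r : H)⁻¹ = ((r : H) * q) * a * ((r : H) * q)⁻¹
        group
      rw [hLQ] at hle
      obtain ⟨y, hy, hyx⟩ := hle x.2
      rw [← Subtype.ext hyx]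
      exact hy
    intro z hz
    obtain ⟨hzL, hzF⟩ := Subgroup.mem_inf.1 hz
    have hzD : (⟨z, hzL⟩ : ↥L) ∈ commutator ↥L := by
      have h1 : (QuotientGroup.mk (⟨z, hzL⟩ : ↥L) : ↥L ⧸ commutator ↥L) ^ Fintype.card ↥Q = 1 := by
        rw [← hτ ⟨z, hzL⟩, ← Finset.card_univ, ← Finset.prod_const]
        refine Finset.prod_congr rfl fun q _ => ?_
        congr 1
        apply Subtype.ext
        show z = (q : H) * z * (q : H)⁻¹
        rw [← Subgroup.mem_centralizer_iff.1 (hQF q.2) z hzF, mul_inv_cancel_right]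
      rw [← QuotientGroup.eq_one_iff, ← orderOf_eq_one_iff]
      obtain ⟨k, hk⟩ := IsPGroup.iff_card.1 hQ
      rw [← Nat.card_eq_fintype_card, hk] at h1
      exact Nat.eq_one_of_dvd_coprimes (hab.pow_right k)
        (Subgroup.index_eq_card (commutator ↥L) ▸ orderOf_dvd_natCard _) (orderOf_dvd_of_pow_eq_one h1)
    refine ⟨⟨z, hzL⟩, ?_, rfl⟩
    have hzc : ∀ y : ↥L, y * ⟨z, hzL⟩ = (⟨z, hzL⟩ : ↥L) * y := fun y =>
      Subtype.ext (Subgroup.mem_centralizer_iff.1 (hLF y.2) z hzF).symm
    refine Subgroup.mem_iInf.2 fun M => Subgroup.mem_iInf.2 fun hM => ?_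
    by_contra hzM
    have hsup : M ⊔ Subgroup.zpowers (⟨z, hzL⟩ : ↥L) = ⊤ :=
      hM.2 _ (lt_of_le_of_ne le_sup_left fun h => hzM (h ▸ Subgroup.mem_sup_right (Subgroup.mem_zpowers _)))
    refine hzM ((?_ : commutator ↥L ≤ M) hzD)
    haveI : M.Normal := by
      rw [← Subgroup.normalizer_eq_top_iff, eq_top_iff, ← hsup]
      refine sup_le Subgroup.le_normalizer (Subgroup.zpowers_le.2 (Subgroup.centralizer_le_normalizer _ ?_))
      exact Subgroup.mem_centralizer_iff.2 fun y _ => hzc y
    refine Subgroup.Normal.commutator_le_of_self_sup_commutative_eq_top hsup ?_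
    infer_instance
  refine ⟨hFeq, hLQ, hphi, fun B hB hBQ hBF => ?_, ?_⟩
  · have hBL : B ≤ Subgroup.normalizer (L : Set H) := by
      intro b hb
      refine Fusion.mem_normalizer_of_cj_le ?_
      rw [hL, Fusion.cj_commutator, Fusion.cj_eq_self (hBQ hb),
        Fusion.cj_eq_self (show b ∈ Subgroup.normalizer (E : Set H) by rw [Subgroup.normalizer_eq_top]; trivial)]
    have hsB := LocalEven.GFitAct.split gL1 gL2 hB hBL
    have hDle : ⁅L, B⁆ ≤ (frattini ↥L).map L.subtype :=
      (le_inf (Solv.commutator_normal_in hBL).1 hBF).trans hphi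
    obtain ⟨C, hC⟩ : ∃ C, C = (L ⊓ Subgroup.centralizer (B : Set H)).subgroupOf L := ⟨_, rfl⟩
    have htop : C ⊔ frattini ↥L = ⊤ := by
      refine Subgroup.map_injective L.subtype_injective ?_
      rw [Subgroup.map_sup, hC, Subgroup.map_subgroupOf_eq_of_le inf_le_left, ← MonoidHom.range_eq_map, Subgroup.range_subtype]
      exact le_antisymm (sup_le inf_le_left (Subgroup.map_subtype_le _))
        (hsB.ge.trans (sup_le (le_sup_of_le_right hDle) le_sup_left))
    have hCtop : C = ⊤ := frattini_nongenerating htop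
    rw [Subgroup.commutator_eq_bot_iff_le_centralizer]
    intro x hx
    have : (⟨x, hx⟩ : ↥L) ∈ C := hCtop ▸ Subgroup.mem_top _
    rw [hC, Subgroup.mem_subgroupOf] at this
    exact this.2
  · refine LocalEven.GFitAct.centralizer_coprime hO fun B hB hBC => ?_
    refine LocalEven.GFitAct.eq_bot_of_centralizes hO hB ?_
    rw [← hE]
    have hBFL : B ≤ Subgroup.centralizer ((F ⊔ L : Subgroup H) : Set H) := hBC
    have hBE : B ≤ Subgroup.normalizer (E : Set H) := by rw [Subgroup.normalizer_eq_top]; exact le_top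
    have hidem := LocalEven.GFitAct.idem gE1 gE2 hB hBE
    -- `C_E(L) = [C_E(L), Q] F`
    obtain ⟨C', hC'⟩ : ∃ C', C' = E ⊓ Subgroup.centralizer (L : Set H) := ⟨_, rfl⟩
    have hQC' : Q ≤ Subgroup.normalizer (C' : Set H) := by
      intro q hq
      refine Fusion.mem_normalizer_of_cj_le ?_
      rw [hC', Fusion.cj_inf, Fusion.cj_centralizer, Fusion.cj_eq_self (hQL hq),
        Fusion.cj_eq_self (show q ∈ Subgroup.normalizer (E : Set H) by rw [Subgroup.normalizer_eq_top]; trivial)]
    have hEC' : E ≤ Subgroup.normalizer (C' : Set H) := by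
      intro e he
      refine Fusion.mem_normalizer_of_cj_le ?_
      rw [hC', Fusion.cj_inf, Fusion.cj_centralizer, Fusion.cj_eq_self (hEL he),
        Fusion.cj_eq_self (show e ∈ Subgroup.normalizer (E : Set H) by rw [Subgroup.normalizer_eq_top]; trivial)]
    have hC'E : C' ≤ E := hC' ▸ inf_le_left
    have hC'sn : C'.IsSubnormal := Subgroup.IsSubnormal.step C' E hC'E (inferInstance : E.Normal).isSubnormal
      ((Subgroup.normal_subgroupOf_iff_le_normalizer hC'E).2 hEC')
    obtain ⟨gC1, gC2⟩ := LocalEven.GFitAct.hyps_of_subnormal' hO (hC'E.trans hE.le) hC'sn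
    have hC'B : C' ≤ Subgroup.centralizer (B : Set H) := by
      refine (LocalEven.GFitAct.split gC1 gC2 hQ hQC').ge.trans (sup_le ?_ ?_)
      · refine (Subgroup.commutator_mono hC'E le_rfl).trans ?_
        rw [← hL]
        exact Subgroup.le_centralizer_iff.1 (hBFL.trans (Subgroup.centralizer_le (SetLike.coe_subset_coe.2 le_sup_right)))
      · refine le_trans ?_ (Subgroup.le_centralizer_iff.1 (hBFL.trans (Subgroup.centralizer_le (SetLike.coe_subset_coe.2 le_sup_left))))
        rw [hFeq, hC']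
        refine le_inf (inf_le_left.trans inf_le_left) (Subgroup.le_centralizer_iff.1 (sup_le ?_ ?_))
        · exact Subgroup.le_centralizer_iff.1 (inf_le_left.trans inf_le_right)
        · exact Subgroup.le_centralizer_iff.1 inf_le_right
    have hBL' : B ≤ Subgroup.centralizer (L : Set H) := hBFL.trans (Subgroup.centralizer_le (SetLike.coe_subset_coe.2 le_sup_right))
    have hEB : ⁅E, B⁆ ≤ C' := by
      rw [hC']
      refine le_inf (Solv.commutator_normal_in hBE).1 ?_
      rw [← Subgroup.commutator_eq_bot_iff_le_centralizer]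
      refine Subgroup.commutator_commutator_eq_bot_of_rotate ?_ ?_
      · rw [Subgroup.commutator_comm B L, Subgroup.commutator_eq_bot_iff_le_centralizer.2 (Subgroup.le_centralizer_iff.1 hBL')]
        exact le_bot_iff.1 (Subgroup.commutator_le.2 fun a ha b _ => by
          rw [Subgroup.mem_bot.1 ha, commutatorElement_one_left]; exact one_mem _)
      · refine le_bot_iff.1 ((Subgroup.commutator_mono (?_ : ⁅L, E⁆ ≤ L) le_rfl).trans ?_)
        · exact (Solv.commutator_normal_in hEL).1
        · rw [Subgroup.commutator_eq_bot_iff_le_centralizer.2 (Subgroup.le_centralizer_iff.1 hBL')]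
    rw [Subgroup.le_centralizer_iff, ← Subgroup.commutator_eq_bot_iff_le_centralizer, ← hidem,
      Subgroup.commutator_eq_bot_iff_le_centralizer]
    exact hEB.trans hC'B

end Cfsg.Agent.S2817
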