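import Cfsg.Statements.S2818
import Cfsg.Agent.Lib.LocalEven.PPrime
import Cfsg.Agent.Lib.LocalEven.Kieler
import Cfsg.Agent.Lib.Solv.PGroupPhi
-- import your own Cfsg.Agent.* helpers here

set_option autoImplicit false
open Cfsg

open Cfsg.Agent Cfsg.Agent.Fusion
open scoped commutatorElement

namespace Cfsg.Agent.S2818

/-- Let P be a finite p-subgroup of a group G and H a subgroup of N_G(P) with [P, H] ≤ Ω₁(Z(P)) (the elements of order dividing p in the centre of P). Then H centralizes the Frattini subgroup of P. -/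
theorem result {G : Type*} [Group G] [Finite G] {p : ℕ} [Fact p.Prime] (P : Subgroup G) (hP : IsPGroup p ↥P) (H : Subgroup G) (hH : H ≤ Subgroup.normalizer (P : Set G)) (h : ⁅P, H⁆ ≤ Cfsg.omegaOne p (P ⊓ Subgroup.centralizer (P : Set G))) : ⁅(frattini ↥P).map P.subtype, H⁆ = ⊥ := by
  rw [Subgroup.commutator_eq_bot_iff_le_centralizer]
  rintro _ ⟨x, hx, rfl⟩
  refine Subgroup.mem_centralizer_iff.2 fun g hg => ?_
  have hom : ∀ y : ↥P, (∀ s ∈ P, s * (g * y * g⁻¹ * (y : G)⁻¹) = g * y * g⁻¹ * (y : G)⁻¹ * s) ∧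
      (g * y * g⁻¹ * (y : G)⁻¹) ^ p = 1 := fun y => by
    have h1 : ⁅(y : G), g⁆⁻¹ ∈ Cfsg.omegaOne p (P ⊓ Subgroup.centralizer (P : Set G)) :=
      inv_mem (h (Subgroup.commutator_mem_commutator y.2 hg))
    rw [commutatorElement_inv, commutatorElement_def] at h1
    exact (LocalEven.mem_omega_center.1 h1).2
  let c : ↥P →* ↥P := MonoidHom.mk'
    (fun y => ⟨g * y * g⁻¹ * (y : G)⁻¹, LocalEven.commutator_mem_of_normalizer (hH hg) y.2⟩)
    fun a b => Subtype.ext (by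
      show g * ((a : G) * b) * g⁻¹ * ((a : G) * b)⁻¹ = g * a * g⁻¹ * (a : G)⁻¹ * (g * b * g⁻¹ * (b : G)⁻¹)
      calc g * ((a : G) * b) * g⁻¹ * ((a : G) * b)⁻¹
          = g * a * g⁻¹ * ((g * b * g⁻¹ * (b : G)⁻¹) * (a : G)⁻¹) := by group
        _ = g * a * g⁻¹ * ((a : G)⁻¹ * (g * b * g⁻¹ * (b : G)⁻¹)) := by rw [(hom b).1 _ (inv_mem a.2)]
        _ = _ := by group)
  have hker : ∀ y : ↥P, y ∈ c.ker ↔ g * (y : G) = y * g := fun y => by
    rw [MonoidHom.mem_ker, Subtype.ext_iff]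
    show g * y * g⁻¹ * (y : G)⁻¹ = 1 ↔ _
    rw [mul_inv_eq_one, mul_inv_eq_iff_eq_mul]
  have hle : frattini ↥P ≤ c.ker := by
    refine Fusion.frattini_le_of_elementary_quotient (p := p) c.ker (fun a b => ?_) (fun a => ?_)
    · rw [MonoidHom.mem_ker, map_commutatorElement, commutatorElement_eq_one_iff_mul_comm]
      exact Subtype.ext ((hom b).1 _ (c a).2)
    · rw [MonoidHom.mem_ker, map_pow]
      exact Subtype.ext (hom a).2
  exact (hker x).1 (hle hx)

end Cfsg.Agent.S2818
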