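import Cfsg.Statements.S2819
import Cfsg.Agent.Lib.Fusion.Basic
import Cfsg.Agent.Lib.Solv.PGroupPhi

set_option autoImplicit false
open Cfsg
open scoped commutatorElement

namespace Cfsg.Agent.S2819

theorem result {G : Type*} [Group G] [Finite G] {p : ℕ} [Fact p.Prime] (P : Subgroup G) (hP : IsPGroup p ↥P) (H : Subgroup G) (hH : H ≤ Subgroup.normalizer (P : Set G)) (Y : Subgroup G) (hYH : Y ≤ H) (hYc : Y ≤ Subgroup.centralizer ((⁅P, P⁆ : Subgroup G) : Set G)) (hel : Cfsg.IsElementaryAbelian p ⁅P, Y⁆) (NY : Subgroup G) (hNY : NY = (Subgroup.normalClosure ((Y.subgroupOf H : Subgroup ↥H) : Set ↥H)).map H.subtype) : (Cfsg.pResidual p ↥NY).map NY.subtype ≤ Subgroup.centralizer (((frattini ↥P).map P.subtype : Subgroup G) : Set G) := by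
  classical
  subst hNY
  set D : Subgroup G := ⁅P, P⁆ with hD
  set Φ : Subgroup G := (frattini ↥P).map P.subtype with hΦ
  have hHP : ∀ h ∈ H, h ∈ Subgroup.normalizer (P : Set G) := fun h hh => hH hh
  have hDn : ∀ h ∈ Subgroup.normalizer (P : Set G), h ∈ Subgroup.normalizer (D : Set G) := fun h hh =>
    Fusion.mem_normalizer_iff_cj.2 (by rw [hD, Fusion.cj_commutator, Fusion.cj_eq_self hh])
  have hΦn : ∀ h ∈ Subgroup.normalizer (P : Set G), ∀ z ∈ Φ, h * z * h⁻¹ ∈ Φ := by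
    intro y hy z hz
    rw [hΦ] at hz ⊢
    obtain ⟨u, hu, rfl⟩ := hz
    refine ⟨Subgroup.normalizerMonoidHom P ⟨y, hy⟩ u, ?_, rfl⟩
    rw [← Subgroup.characteristic_iff_map_eq.1 (inferInstance : (frattini ↥P).Characteristic)
      (Subgroup.normalizerMonoidHom P ⟨y, hy⟩)]
    exact ⟨u, hu, rfl⟩
  have hDP : (commutator ↥P).map P.subtype = D := by
    rw [hD, commutator_def, Subgroup.map_commutator, ← MonoidHom.range_eq_map, Subgroup.range_subtype]
  -- the elements of the Frattini subgroup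
  have hpow : ∀ z ∈ Φ, ∃ x : ↥P, ((x : G) ^ p)⁻¹ * z ∈ D := by
    rintro _ ⟨z, hz, rfl⟩
    let A : Subgroup ↥P := (powMonoidHom p : Abelianization ↥P →* Abelianization ↥P).range.comap Abelianization.of
    have hA : frattini ↥P ≤ A := Solv.frattini_le (p := p) A
      (fun a b => ⟨1, by simp [map_commutatorElement, commutatorElement_def]⟩)
      (fun a => ⟨Abelianization.of a, by simp⟩)
    obtain ⟨q, hq⟩ := hA hz
    obtain ⟨x, rfl⟩ : ∃ x, Abelianization.of x = q := QuotientGroup.mk_surjective q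
    refine ⟨x, ?_⟩
    rw [powMonoidHom_apply, ← map_pow] at hq
    rw [← hDP]
    refine ⟨(x ^ p)⁻¹ * z, ?_, rfl⟩
    exact QuotientGroup.eq.1 hq
  -- `Y` acts trivially on `Φ / D`
  have hY : ∀ y ∈ Y, ∀ z ∈ Φ, y * z * y⁻¹ * z⁻¹ ∈ D := by
    intro y hy z hz
    have hyP := hH (hYH hy)
    obtain ⟨x, hx⟩ := hpow z hz
    set d := ((x : G) ^ p)⁻¹ * z with hd
    have hdy : y * d * y⁻¹ = d := by
      rw [mul_inv_eq_iff_eq_mul, Subgroup.mem_centralizer_iff.1 (hYc hy) d hx]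
    set c := y * (x : G) * y⁻¹ * (x : G)⁻¹ with hc
    have hcP : c ∈ P := mul_mem ((Subgroup.mem_normalizer_iff.1 hyP x).1 x.2) (inv_mem x.2)
    have hcp : c ^ p = 1 := by
      refine hel.2 c ?_
      have h1 := inv_mem (Subgroup.commutator_mem_commutator x.2 hy)
      rwa [commutatorElement_inv, commutatorElement_def] at h1
    have hmain : (c * x) ^ p * ((x : G) ^ p)⁻¹ ∈ D := by
      rw [← hDP]
      refine ⟨((⟨c, hcP⟩ : ↥P) * x) ^ p * (x ^ p)⁻¹, ?_, rfl⟩
      rw [← Abelianization.ker_of, SetLike.mem_coe, MonoidHom.mem_ker, map_mul, map_pow, map_mul, mul_pow, map_inv,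
        map_pow, ← map_pow (Abelianization.of) (⟨c, hcP⟩ : ↥P),
        show (⟨c, hcP⟩ : ↥P) ^ p = 1 from Subtype.ext hcp, map_one, one_mul, mul_inv_cancel]
    have hzd : z = (x : G) ^ p * d := by rw [hd, mul_inv_cancel_left]
    have e : y * z * y⁻¹ * z⁻¹ = (c * x) ^ p * d * (z⁻¹) := by
      rw [show c * x = y * x * y⁻¹ by rw [hc]; group, conj_pow, hzd]
      nth_rewrite 3 [← hdy]
      group
    rw [e, hzd, show (c * x) ^ p * d * ((x : G) ^ p * d)⁻¹ = (c * x) ^ p * ((x : G) ^ p)⁻¹ by group]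
    exact hmain
  set NY := (Subgroup.normalClosure ((Y.subgroupOf H : Subgroup ↥H) : Set ↥H)).map H.subtype
  have hNY : ∀ g ∈ NY, g ∈ Subgroup.normalizer (P : Set G) ∧ (∀ d ∈ D, g * d * g⁻¹ = d) ∧
      ∀ z ∈ Φ, g * z * g⁻¹ * z⁻¹ ∈ D := by
    rintro _ ⟨g, hg, rfl⟩
    induction hg using Subgroup.closure_induction with
    | mem w hw =>
      obtain ⟨y, hy, hyc⟩ := Group.mem_conjugatesOfSet_iff.1 hw
      obtain ⟨a, rfl⟩ := isConj_iff.1 hyc
      have haP := hH a.2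
      refine ⟨hH (a * y * a⁻¹).2, fun d hd => ?_, fun z hz => ?_⟩
      · have hd' := (Subgroup.mem_normalizer_iff''.1 (hDn _ haP) d).1 hd
        have h1 := Subgroup.mem_centralizer_iff.1 (hYc hy) _ hd'
        simp only [Subgroup.coe_subtype] at h1
        show (a : G) * y * (a : G)⁻¹ * d * ((a : G) * y * (a : G)⁻¹)⁻¹ = d
        calc _ = (a : G) * ((y : G) * ((a : G)⁻¹ * d * a) * (y : G)⁻¹) * (a : G)⁻¹ := by group
          _ = (a : G) * (((a : G)⁻¹ * d * a) * (y : G) * (y : G)⁻¹) * (a : G)⁻¹ := by rw [← h1]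
          _ = d := by group
      · have hz' : (a : G)⁻¹ * z * a ∈ Φ := by
          simpa using hΦn _ (inv_mem haP) z hz
        have h1 := (Subgroup.mem_normalizer_iff.1 (hDn _ haP) _).1 (hY y hy _ hz')
        show (a : G) * y * (a : G)⁻¹ * z * ((a : G) * y * (a : G)⁻¹)⁻¹ * z⁻¹ ∈ D
        convert h1 using 1
        group
    | one => exact ⟨one_mem _, fun d _ => by simp, fun z _ => by simp⟩
    | mul a b _ _ iha ihb =>
      simp only [Subgroup.coe_subtype] at iha ihb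
      refine ⟨mul_mem iha.1 ihb.1, fun d hd => ?_, fun z hz => ?_⟩
      · show (a : G) * b * d * ((a : G) * b)⁻¹ = d
        calc _ = (a : G) * ((b : G) * d * (b : G)⁻¹) * (a : G)⁻¹ := by group
          _ = _ := by rw [ihb.2.1 d hd]; exact iha.2.1 d hd
      · show (a : G) * b * z * ((a : G) * b)⁻¹ * z⁻¹ ∈ D
        rw [show (a : G) * b * z * ((a : G) * b)⁻¹ * z⁻¹ =
          (a : G) * ((b : G) * z * (b : G)⁻¹ * z⁻¹) * (a : G)⁻¹ * ((a : G) * z * (a : G)⁻¹ * z⁻¹) by group]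
        exact mul_mem ((Subgroup.mem_normalizer_iff.1 (hDn _ iha.1) _).1 (ihb.2.2 z hz)) (iha.2.2 z hz)
    | inv a _ iha =>
      simp only [Subgroup.coe_subtype] at iha
      refine ⟨inv_mem iha.1, fun d hd => ?_, fun z hz => ?_⟩
      · show (a : G)⁻¹ * d * (a : G)⁻¹⁻¹ = d
        calc _ = (a : G)⁻¹ * ((a : G) * d * (a : G)⁻¹) * a := by rw [iha.2.1 d hd]; group
          _ = d := by group
      · show (a : G)⁻¹ * z * (a : G)⁻¹⁻¹ * z⁻¹ ∈ D
        rw [show (a : G)⁻¹ * z * (a : G)⁻¹⁻¹ * z⁻¹ = (a : G)⁻¹ * ((a : G) * z * (a : G)⁻¹ * z⁻¹)⁻¹ * a by group]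
        exact (Subgroup.mem_normalizer_iff''.1 (hDn _ iha.1) _).1 (inv_mem (iha.2.2 z hz))
  rw [Subgroup.map_le_iff_le_comap, pResidual, Subgroup.closure_le]
  intro g hg
  obtain ⟨-, h2, h3⟩ := hNY g g.2
  rw [SetLike.mem_coe, Subgroup.mem_comap, Subgroup.mem_centralizer_iff]
  intro z hz
  show z * (g : G) = g * z
  set d := (g : G) * z * (g : G)⁻¹ * z⁻¹ with hd
  have hdD : d ∈ D := h3 z hz
  have hn : ∀ n : ℕ, (g : G) ^ n * z * ((g : G) ^ n)⁻¹ = d ^ n * z := by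
    intro n
    induction n with
    | zero => simp
    | succ n ih =>
      calc (g : G) ^ (n + 1) * z * ((g : G) ^ (n + 1))⁻¹ = (g : G) * ((g : G) ^ n * z * ((g : G) ^ n)⁻¹) * (g : G)⁻¹ := by
            rw [pow_succ']; group
        _ = ((g : G) * d ^ n * (g : G)⁻¹) * ((g : G) * z * (g : G)⁻¹) := by rw [ih]; group
        _ = d ^ n * (d * z) := by
            rw [h2 _ (pow_mem hdD n), show (g : G) * z * (g : G)⁻¹ = d * z by rw [hd]; group]
        _ = d ^ (n + 1) * z := by rw [pow_succ]; exact (mul_assoc _ _ _).symm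
  have h4 := hn (orderOf (g : G))
  rw [pow_orderOf_eq_one, one_mul, inv_one, mul_one] at h4
  have h5 : d ^ orderOf (g : G) = 1 := right_eq_mul.1 h4
  have hdP : d ∈ P := by
    have h6 : D ≤ P := by rw [hD]; exact Subgroup.commutator_le_self P
    exact h6 hdD
  obtain ⟨k, hk⟩ := IsPGroup.iff_orderOf.1 hP ⟨d, hdP⟩
  rw [Subgroup.orderOf_mk] at hk
  have h7 : orderOf d = 1 := Nat.eq_one_of_dvd_coprimes
    (a := orderOf (g : G)) (b := p ^ k) ((by rwa [Subgroup.orderOf_coe] : (orderOf (g : G)).Coprime p).pow_right k)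
    (orderOf_dvd_of_pow_eq_one h5) hk.dvd
  rw [orderOf_eq_one_iff, hd, mul_inv_eq_one, mul_inv_eq_iff_eq_mul] at h7
  exact h7.symm

end Cfsg.Agent.S2819
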