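import Cfsg.Statements.S2821
import Cfsg.Agent.Lib.LocalEven.ReducedOf

set_option autoImplicit false
open Cfsg
open scoped commutatorElement Pointwise

namespace Cfsg.Agent.S2821

theorem result {H : Type*} [Group H] [Finite H] {p : ℕ} [Fact p.Prime] (T : Sylow p H) (L : Subgroup H) (hTL : (T : Subgroup H) ≤ L) (hL : Subgroup.centralizer (Cfsg.pCore p ↥L : Set ↥L) ≤ Cfsg.pCore p ↥L) (T₀ : Subgroup H) (hT₀ : T₀ = (T : Subgroup H) ⊓ Subgroup.centralizer (((Cfsg.largestPReducedOf p L) : Subgroup H) : Set H)) : (∃ P : Sylow p ↥(Subgroup.centralizer (((Cfsg.largestPReducedOf p L) : Subgroup H) : Set H)), (P : Subgroup ↥(Subgroup.centralizer (((Cfsg.largestPReducedOf p L) : Subgroup H) : Set H))) = T₀.subgroupOf (Subgroup.centralizer (((Cfsg.largestPReducedOf p L) : Subgroup H) : Set H))) ∧ (Cfsg.pCoreOf p L) ≤ T₀ ∧ T₀ ≤ L ⊓ Subgroup.centralizer (((Cfsg.largestPReducedOf p L) : Subgroup H) : Set H) ∧ (Cfsg.omegaOne p ((T : Subgroup H) ⊓ Subgroup.centralizer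 (((T : Subgroup H) : Subgroup H) : Set H))) ≤ Cfsg.sylowCenterClosure p L ∧ Cfsg.sylowCenterClosure p L ≤ (Cfsg.largestPReducedOf p L) ∧ (Cfsg.largestPReducedOf p L) ≤ (Cfsg.omegaOne p ((Cfsg.pCoreOf p L) ⊓ Subgroup.centralizer (((Cfsg.pCoreOf p L) : Subgroup H) : Set H))) := by
  set Y : Subgroup H := largestPReducedOf p L
  have hTN : (T : Subgroup H) ≤ Subgroup.normalizer (Y : Set H) := hTL.trans (LocalEven.Red.le_normalizer_Y L)
  have hS : Fusion.SylIn p T₀ (Subgroup.centralizer (Y : Set H)) := by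
    rw [hT₀]
    exact ((Fusion.sylIn_top T).mono hTN le_top).inf_normal (Subgroup.centralizer_le_normalizer _)
      (LocalEven.Red.le_normalizer_centralizer le_rfl)
  refine ⟨hS.exists_sylow_subgroupOf, ?_, ?_, LocalEven.Red.omega_le_closure T hTL,
    LocalEven.Red.closure_le_Y L hL, LocalEven.Red.Y_le_omega L⟩
  · rw [hT₀]
    exact le_inf (Fusion.pCoreOf_le_sylIn ((Fusion.sylIn_top T).mono hTL le_top)) (LocalEven.Red.core_le_centralizer_Y L)
  · rw [hT₀]
    exact inf_le_inf_right _ hTL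

end Cfsg.Agent.S2821
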