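import Cfsg.Statements.S2823
import Cfsg.Agent.Lib.LocalEven.ReducedOf

set_option autoImplicit false
open Cfsg
open scoped commutatorElement Pointwise

namespace Cfsg.Agent.S2823

theorem result {H : Type*} [Group H] [Finite H] {p : ℕ} [Fact p.Prime] (T : Sylow p H) (L : Subgroup H) (hTL : (T : Subgroup H) ≤ L) (hL : Subgroup.centralizer (Cfsg.pCore p ↥L : Set ↥L) ≤ Cfsg.pCore p ↥L) : Cfsg.sylowCenterClosure p L = (Cfsg.omegaOne p (L ⊓ Subgroup.centralizer ((L : Subgroup H) : Set H))) ⊔ ⁅Cfsg.sylowCenterClosure p L, (Cfsg.pResidual p ↥L).map L.subtype⁆ ∧ ⁅Cfsg.sylowCenterClosure p L, L⁆ = ⁅Cfsg.sylowCenterClosure p L, (Cfsg.pResidual p ↥L).map L.subtype⁆ := by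
  classical
  set Z := sylowCenterClosure p L
  set R : Subgroup H := (pResidual p ↥L).map L.subtype
  set W : Subgroup H := ⁅Z, R⁆
  set AT := omegaOne p ((T : Subgroup H) ⊓ Subgroup.centralizer ((T : Subgroup H) : Set H))
  have hZY : Z ≤ largestPReducedOf p L := LocalEven.Red.closure_le_Y L hL
  have hel : IsElementaryAbelian p Z := LocalEven.Red.elementary_mono
    (LocalEven.Red.elementary_omega_center (pCoreOf p L)) (hZY.trans (LocalEven.Red.Y_le_omega L))
  haveI := hel.1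
  have hZL : Z ≤ L := hZY.trans (Subgroup.map_subtype_le _)
  have hLR : L ≤ Subgroup.normalizer (R : Set H) := LocalEven.Red.le_normalizer_of_map _
  obtain ⟨S₀, hS₀⟩ := ((Fusion.sylIn_top T).mono hTL le_top).exists_sylow_subgroupOf
  have hTS : (S₀ : Subgroup ↥L).map L.subtype = (T : Subgroup H) := by
    rw [hS₀, Subgroup.subgroupOf_map_subtype, inf_eq_left.2 hTL]
  have hterm : ∀ (S : Sylow p ↥L) (l : ↥L), ∀ x ∈ omegaOne p (((S : Subgroup ↥L).map L.subtype) ⊓
      Subgroup.centralizer (((S : Subgroup ↥L).map L.subtype : Subgroup H) : Set H)),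
      (l : H) * x * (l : H)⁻¹ ∈ omegaOne p ((((l • S : Sylow p ↥L) : Subgroup ↥L).map L.subtype) ⊓
      Subgroup.centralizer ((((l • S : Sylow p ↥L) : Subgroup ↥L).map L.subtype : Subgroup H) : Set H)) := by
    intro S l x hx
    obtain ⟨h1, h2, h3⟩ := LocalEven.mem_omega_center.1 hx
    obtain ⟨s, hs, rfl⟩ := h1
    refine LocalEven.mem_omega_center.2 ⟨⟨l * s * l⁻¹, ?_, by simp⟩, ?_, by rw [conj_pow, h3, mul_one, mul_inv_cancel]⟩
    · exact Subgroup.smul_mem_pointwise_smul s (MulAut.conj l) _ hs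
    · rintro _ ⟨_, ⟨t, ht, rfl⟩, rfl⟩
      have h4 := h2 t ⟨t, ht, rfl⟩
      show (l : H) * t * (l : H)⁻¹ * (l * L.subtype s * (l : H)⁻¹) = l * L.subtype s * (l : H)⁻¹ * ((l : H) * t * (l : H)⁻¹)
      calc (l : H) * t * (l : H)⁻¹ * (l * L.subtype s * (l : H)⁻¹) = l * ((t : H) * L.subtype s) * (l : H)⁻¹ := by group
        _ = l * (L.subtype s * t) * (l : H)⁻¹ := by rw [h4]
        _ = _ := by group
  have hLZ : L ≤ Subgroup.normalizer (Z : Set H) := by
    intro l hl
    refine Fusion.mem_normalizer_of_cj_le ?_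
    refine Subgroup.map_le_iff_le_comap.2 (iSup_le fun S x hx => ?_)
    exact le_iSup (fun S : Sylow p ↥L => omegaOne p (((S : Subgroup L).map L.subtype) ⊓
      Subgroup.centralizer (((S : Subgroup L).map L.subtype : Subgroup H) : Set H))) ((⟨l, hl⟩ : ↥L) • S)
      (hterm S ⟨l, hl⟩ x hx)
  have hLW : L ≤ Subgroup.normalizer (W : Set H) := fun l hl => Fusion.mem_normalizer_iff_cj.2 (by
    rw [Fusion.cj_commutator, Fusion.cj_eq_self (hLZ hl), Fusion.cj_eq_self (hLR hl)])
  have hWZ : W ≤ Z := Subgroup.le_normalizer_iff_commutator_le_left.1 ((Subgroup.map_subtype_le _).trans hLZ)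
  have hATZ : AT ≤ Z := LocalEven.Red.omega_le_closure T hTL
  have hzl : ∀ z ∈ AT, ∀ l ∈ L, ⁅z, l⁆ ∈ W := by
    intro z hz l hl
    have h1 : (⟨l, hl⟩ : ↥L) ∈ pResidual p ↥L ⊔ (S₀ : Subgroup ↥L) := by
      rw [Fusion.pResidual_sup_sylow]; exact Subgroup.mem_top _
    obtain ⟨r, hr, t, ht, he⟩ := Subgroup.mem_sup_of_normal_left.1 h1
    have he' : l = (r : H) * t := (congrArg Subtype.val he).symm
    have htT : (t : H) ∈ (T : Subgroup H) := hTS ▸ ⟨t, ht, rfl⟩
    have hc := (LocalEven.mem_omega_center.1 hz).2.1 _ htT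
    have e : ⁅z, l⁆ = ⁅z, (r : H)⁆ := by
      rw [he', commutatorElement_def, commutatorElement_def]
      calc z * ((r : H) * t) * z⁻¹ * ((r : H) * t)⁻¹ = z * r * ((t : H) * z⁻¹) * (t : H)⁻¹ * (r : H)⁻¹ := by group
        _ = z * r * (z⁻¹ * t) * (t : H)⁻¹ * (r : H)⁻¹ := by
          rw [show (t : H) * z⁻¹ = z⁻¹ * t from ((show Commute (t : H) z from hc).inv_right).eq]
        _ = _ := by group
    rw [e]
    exact Subgroup.commutator_mem_commutator (hATZ hz) ⟨r, hr, rfl⟩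
  have hgen : Z ≤ W ⊔ AT := by
    refine iSup_le fun S => ?_
    obtain ⟨l, rfl⟩ := MulAction.exists_smul_eq ↥L S₀ S
    intro x hx
    have h1 := hterm (l • S₀) l⁻¹ x hx
    rw [inv_smul_smul, hTS] at h1
    simp only [Subgroup.coe_inv, inv_inv] at h1
    have h2 := hzl _ h1 _ l.2
    have e : x = ⁅(l : H)⁻¹ * x * l, (l : H)⁆⁻¹ * ((l : H)⁻¹ * x * l) := by
      simp only [commutatorElement_def]; group
    rw [e]
    exact mul_mem (Subgroup.mem_sup_left (inv_mem h2)) (Subgroup.mem_sup_right h1)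
  have hnWA : AT ≤ Subgroup.normalizer (W : Set H) := (hATZ.trans hZL).trans hLW
  have hZLW : ⁅Z, L⁆ ≤ W := by
    refine Subgroup.commutator_le.2 fun z hz l hl => ?_
    have hz' := hgen hz
    rw [← SetLike.mem_coe, Subgroup.coe_mul_of_right_le_normalizer_left _ _ hnWA] at hz'
    obtain ⟨w, hw, a, ha, rfl⟩ := hz'
    have e : ⁅w * a, l⁆ = w * ⁅a, l⁆ * w⁻¹ * (w * (l * w⁻¹ * l⁻¹)) := by
      simp only [commutatorElement_def]; group
    rw [e]
    exact mul_mem (mul_mem (mul_mem hw (hzl a ha l hl)) (inv_mem hw))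
      (mul_mem hw ((Subgroup.mem_normalizer_iff.1 (hLW hl) _).1 (inv_mem hw)))
  have hidx : ¬ p ∣ (T : Subgroup H).relIndex L := ((Fusion.sylIn_top T).mono hTL le_top).not_dvd
  refine ⟨le_antisymm ?_ (sup_le ?_ hWZ),
    le_antisymm hZLW (Subgroup.commutator_mono le_rfl (Subgroup.map_subtype_le _))⟩
  · refine hgen.trans (sup_le le_sup_right fun z hz => ?_)
    set a : Z := ⟨z, hATZ hz⟩
    have hfix := fun k (hk : k ∈ L) => LocalEven.avg_fixed (p := p) (P := (T : Subgroup H)) hLZ (a := a)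
      (LocalEven.mem_omega_center.1 hz).2.1 hk
    have hmod := LocalEven.avg_congr_mod (p := p) (P := (T : Subgroup H)) hLZ hel.2 hidx (a := a) (W := W)
      fun k hk => by
        have := inv_mem (hzl z hz k hk)
        simpa [commutatorElement_def, mul_assoc, a] using this
    set v := LocalEven.avg hLZ (T : Subgroup H) p a
    have hv : (v : H) ∈ omegaOne p (L ⊓ Subgroup.centralizer ((L : Subgroup H) : Set H)) :=
      LocalEven.mem_omega_center.2 ⟨hZL v.2, hfix, hel.2 v v.2⟩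
    have e : z = ((v : H) * z⁻¹)⁻¹ * v := by group
    rw [e]
    exact mul_mem (Subgroup.mem_sup_right (inv_mem hmod)) (Subgroup.mem_sup_left hv)
  · intro x hx
    obtain ⟨h1, h2, h3⟩ := LocalEven.mem_omega_center.1 hx
    refine hATZ (LocalEven.mem_omega_center.2 ⟨?_, fun s hs => h2 s (hTL hs), h3⟩)
    have hzp : IsPGroup p ↥(Subgroup.zpowers x) := by
      rintro ⟨y, hy⟩
      obtain ⟨i, rfl⟩ := Subgroup.mem_zpowers_iff.1 hy
      refine ⟨1, Subtype.ext ?_⟩
      show (x ^ i) ^ p ^ 1 = 1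
      rw [pow_one, ← zpow_natCast, ← zpow_mul, mul_comm, zpow_mul, zpow_natCast, h3, one_zpow]
    have hn : (T : Subgroup H) ≤ Subgroup.normalizer ((Subgroup.zpowers x : Subgroup H) : Set H) := fun t ht => by
      refine Fusion.mem_normalizer_of_cj_le ?_
      rw [Fusion.cj, MonoidHom.map_zpowers, Subgroup.zpowers_le]
      show t * x * t⁻¹ ∈ Subgroup.zpowers x
      rw [h2 t (hTL ht), mul_inv_cancel_right]
      exact Subgroup.mem_zpowers x
    have h4 : (T : Subgroup H) = Subgroup.zpowers x ⊔ (T : Subgroup H) :=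
      (T.is_maximal' (hzp.to_sup_of_normal_left' T.isPGroup' hn) le_sup_right).symm
    rw [h4]
    exact Subgroup.mem_sup_left (Subgroup.mem_zpowers x)

end Cfsg.Agent.S2823
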