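import Cfsg.Statements.S2825
import Cfsg.Agent.Lib.LocalEven.ReducedSubnormal
-- import your own Cfsg.Agent.* helpers here

set_option autoImplicit false
open Cfsg

namespace Cfsg.Agent.S2825

/-- Let L be a subnormal subgroup of the finite group H, p a prime, Y_H and Y_L the largest p-reduced normal subgroups. Then Y_H ∩ L = Y_H ∩ Y_L and this subgroup is a p-reduced normal subgroup of L; C_L(Y_L) = C_L(Y_H) = C_L(Y_H ∩ L); and if O^p(H) ≤ L, then [Y_L, L] = 1 if and only if [Y_H, H] = 1. -/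
theorem result {H : Type*} [Group H] [Finite H] {p : ℕ} [Fact p.Prime] (L : Subgroup H) (hL : L.IsSubnormal) : Cfsg.largestPReduced p H ⊓ L = Cfsg.largestPReduced p H ⊓ (Cfsg.largestPReducedOf p L) ∧ Cfsg.IsPReducedNormal p ((Cfsg.largestPReduced p H ⊓ L).subgroupOf L) ∧ L ⊓ Subgroup.centralizer ((Cfsg.largestPReducedOf p L : Subgroup H) : Set H) = L ⊓ Subgroup.centralizer (Cfsg.largestPReduced p H : Set H) ∧ L ⊓ Subgroup.centralizer (Cfsg.largestPReduced p H : Set H) = L ⊓ Subgroup.centralizer ((Cfsg.largestPReduced p H ⊓ L : Subgroup H) : Set H) ∧ (Cfsg.pResidual p H ≤ L → (⁅(Cfsg.largestPReducedOf p L), L⁆ = ⊥ ↔ ⁅Cfsg.largestPReduced p H, (⊤ : Subgroup H)⁆ = ⊥)) := by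
  have hY := Cfsg.Agent.LocalEven.Red.largest_reduced (p := p) (L := H)
  have h3 := Cfsg.Agent.LocalEven.RedSub.centralizer_Y_subnormal (p := p) _ H rfl L hL
  have h4 := (Cfsg.Agent.LocalEven.RedSub.inf_centralizer_eq hL hY).symm
  refine ⟨le_antisymm (le_inf inf_le_left (Cfsg.Agent.LocalEven.RedSub.inf_le_Y hL))
      (inf_le_inf_left _ (Subgroup.map_subtype_le _)),
    Cfsg.Agent.LocalEven.RedSub.inf_reduced hL hY, h3, h4, fun hR => ?_⟩
  set Y := Cfsg.largestPReduced p H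
  rw [Subgroup.commutator_eq_bot_iff_le_centralizer, Subgroup.commutator_eq_bot_iff_le_centralizer,
    Subgroup.le_centralizer_iff, Subgroup.le_centralizer_iff (K := (⊤ : Subgroup H))]
  constructor
  · intro h
    have hLC : L ≤ Subgroup.centralizer (Y : Set H) := fun x hx => (h3.le ⟨hx, h hx⟩).2
    refine ((Cfsg.Agent.LocalEven.Red.reduced_iff Y).1 hY).2.2 ⊤ inferInstance fun x _ => ?_
    obtain ⟨k, hk⟩ := Cfsg.Agent.Fusion.isPGroup_quotient_pResidual (p := p) (G := H) (QuotientGroup.mk x)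
    rw [← QuotientGroup.mk_pow, QuotientGroup.eq_one_iff] at hk
    exact ⟨k, hLC (hR hk)⟩
  · intro h x hx
    exact (h3.ge ⟨hx, h (Subgroup.mem_top x)⟩).2

end Cfsg.Agent.S2825
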