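import Cfsg.Statements.S2826
import Cfsg.Agent.Lib.LocalEven.Kieler
-- import your own Cfsg.Agent.* helpers here

set_option autoImplicit false
open Cfsg

open Cfsg.Agent Cfsg.Agent.Fusion Cfsg.Agent.LocalEven
open scoped commutatorElement

namespace Cfsg.Agent.S2826

/-- Let H be a finite group of characteristic p, T a Sylow p-subgroup, and V a normal elementary abelian p-subgroup of H containing Ω₁(Z(T)). Then C_H(Ω₁(Z(T))) = C_H([V, O^p(H)] ∩ Ω₁(Z(T))), O^p(H) being generated by the elements of order prime to p. -/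
theorem result {H : Type*} [Group H] [Finite H] {p : ℕ} [Fact p.Prime] (hH : Subgroup.centralizer (Cfsg.pCore p H : Set H) ≤ Cfsg.pCore p H) (T : Sylow p H) (V : Subgroup H) [V.Normal] (hV : Cfsg.IsElementaryAbelian p V) (hZV : (Cfsg.omegaOne p ((T : Subgroup H) ⊓ Subgroup.centralizer (((T : Subgroup H) : Subgroup H) : Set H))) ≤ V) : Subgroup.centralizer ((Cfsg.omegaOne p ((T : Subgroup H) ⊓ Subgroup.centralizer (((T : Subgroup H) : Subgroup H) : Set H))) : Set H) = Subgroup.centralizer (((⁅V, Cfsg.pResidual p H⁆ ⊓ (Cfsg.omegaOne p ((T : Subgroup H) ⊓ Subgroup.centralizer (((T : Subgroup H) : Subgroup H) : Set H)))) : Subgroup H) : Set H) := by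
  classical
  set T0 : Subgroup H := (T : Subgroup H)
  set Z := Cfsg.omegaOne p (T0 ⊓ Subgroup.centralizer (T0 : Set H))
  set W := ⁅V, Cfsg.pResidual p H⁆
  refine le_antisymm (Subgroup.centralizer_le (SetLike.coe_subset_coe.2 inf_le_right)) fun x hx => ?_
  refine Subgroup.mem_centralizer_iff.2 fun z hz => ?_
  obtain ⟨hzT, hzc, hzp⟩ := mem_omega_center.1 (hz : z ∈ Z)
  haveI := hV.1
  have hKA : (⊤ : Subgroup H) ≤ Subgroup.normalizer (V : Set H) := by rw [Subgroup.normalizer_eq_top]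
  have hidx : ¬ p ∣ T0.relIndex ⊤ := by rw [Subgroup.relIndex_top_right]; exact T.not_dvd_index
  have hVT : V ≤ T0 := (le_pCore (IsPGroup.iff_orderOf.2 fun v => by
    obtain ⟨k, -, hk⟩ := (Nat.dvd_prime_pow (Fact.out : p.Prime)).1
      (orderOf_dvd_of_pow_eq_one (n := p ^ 1) (show v ^ p ^ 1 = 1 from Subtype.ext (by
        rw [pow_one, Subgroup.coe_pow, hV.2 _ v.2]; rfl)))
    exact ⟨k, hk⟩)).trans (pCore_le_sylow T)
  set a : V := ⟨z, hZV hz⟩
  have hfix : ∀ s ∈ T0, s * (a : H) = a * s := hzc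
  set e := avg hKA T0 p a with he
  have hefix : ∀ k : H, k * (e : H) = e * k := fun k => avg_fixed hKA hfix (Subgroup.mem_top k)
  have hcW : (e : H) * z⁻¹ ∈ W := by
    refine avg_congr_mod hKA hV.2 hidx (a := a) fun k _ => ?_
    have hk := (pResidual_sup_sylow T).ge (Subgroup.mem_top k)
    rw [Subgroup.mem_sup_of_normal_left] at hk
    obtain ⟨o, ho, t, ht, rfl⟩ := hk
    have e1 : t * z = z * t := hzc t ht
    rw [show o * t * z * (o * t)⁻¹ * z⁻¹ = ⁅o, z⁆ by
      rw [commutatorElement_def]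
      calc o * t * z * (o * t)⁻¹ * z⁻¹ = o * (t * z) * t⁻¹ * o⁻¹ * z⁻¹ := by group
        _ = o * (z * t) * t⁻¹ * o⁻¹ * z⁻¹ := by rw [e1]
        _ = o * z * o⁻¹ * z⁻¹ := by group]
    show ⁅o, z⁆ ∈ ⁅V, Cfsg.pResidual p H⁆
    rw [← commutatorElement_inv]
    exact inv_mem (Subgroup.commutator_mem_commutator (hZV hz) ho)
  have hcZ : (e : H) * z⁻¹ ∈ Z :=
    mul_mem (mem_omega_center.2 ⟨hVT e.2, fun s _ => hefix s, hV.2 _ e.2⟩) (inv_mem hz)
  have h := Subgroup.mem_centralizer_iff.1 hx _ ⟨hcW, hcZ⟩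
  have h2 : x * z = z * x := by
    have h3 : Commute x ((e : H) * z⁻¹) := h.symm
    have h4 : Commute x (e : H) := hefix x
    have h5 := (h4.inv_right.mul_right h3).inv_right
    exact (by simpa using h5 : Commute x z).eq
  exact h2.symm

end Cfsg.Agent.S2826
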