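import Cfsg.Statements.S2827
import Cfsg.Agent.Lib.LocalEven.PIrred

set_option autoImplicit false
open Cfsg
open scoped commutatorElement

namespace Cfsg.Agent.S2827

theorem result {H : Type*} [Group H] [Finite H] {p : ℕ} [Fact p.Prime] (hH : Cfsg.IsPIrreducible p H) (T : Sylow p H) : Subgroup.normalClosure ((T : Subgroup H) : Set H) = ⊤ ∧ commutator H ⊔ (T : Subgroup H) = ⊤ ∧ Cfsg.pResidual p H ≤ commutator H ∧ ∀ Y : Subgroup H, Y ≤ (T : Subgroup H) → (T : Subgroup H) ≤ Subgroup.normalizer (Y : Set H) → ¬ Y ≤ Cfsg.pCore p H → ⁅Cfsg.pResidual p H, Y⁆ = Cfsg.pResidual p H ∧ Cfsg.pResidual p H ≤ Subgroup.normalClosure (Y : Set H) := by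
  have hnT : ¬ (T : Subgroup H) ≤ pCore p H := fun h => hH.1 ((LocalEven.PIrr.pclosed_iff T).2 h)
  have hC : Subgroup.normalClosure ((T : Subgroup H) : Set H) = ⊤ := by
    have h2 := (LocalEven.PIrr.commutator_residual_eq hH T le_rfl Subgroup.le_normalizer hnT).2
    rw [eq_top_iff, ← Fusion.pResidual_sup_sylow T]
    exact sup_le h2 Subgroup.le_normalClosure
  have htop : commutator H ⊔ (T : Subgroup H) = ⊤ := by
    haveI : (commutator H ⊔ (T : Subgroup H)).Normal := by
      rw [← Subgroup.normalizer_eq_top_iff, eq_top_iff]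
      intro g _
      refine Fusion.mem_normalizer_of_cj_le ?_
      rintro _ ⟨y, hy, rfl⟩
      have e : (MulAut.conj g).toMonoidHom y = ⁅g, y⁆ * y := by simp [commutatorElement_def]
      rw [e]
      exact mul_mem (Subgroup.mem_sup_left (Subgroup.commutator_mem_commutator (Subgroup.mem_top _) (Subgroup.mem_top _))) hy
    exact LocalEven.PIrr.normalClosure_le hC le_sup_right
  exact ⟨hC, htop, LocalEven.PIrr.residual_le_of_sup T.isPGroup' htop,
    fun Y hY hTY hnY => LocalEven.PIrr.commutator_residual_eq hH T hY hTY hnY⟩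

end Cfsg.Agent.S2827
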