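import Cfsg.Statements.S2828
import Cfsg.Agent.Lib.LocalEven.PIrred

set_option autoImplicit false
open Cfsg
open scoped commutatorElement

namespace Cfsg.Agent.S2828

theorem result {H : Type*} [Group H] [Finite H] {p : ℕ} [Fact p.Prime] (D : Subgroup H) [D.Normal] (hD : IsPGroup p ↥D) : (Cfsg.IsPIrreducible p H ↔ Cfsg.IsPIrreducible p (H ⧸ D)) ∧ (Cfsg.IsStronglyPIrreducible p H ↔ Cfsg.IsStronglyPIrreducible p (H ⧸ D)) := by
  obtain ⟨T⟩ : Nonempty (Sylow p H) := inferInstance
  set π := QuotientGroup.mk' D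
  have hπ := QuotientGroup.mk'_surjective D
  have hcl : IsPClosed p (H ⧸ D) ↔ IsPClosed p H := by
    obtain ⟨T', hT'⟩ := (Fusion.sylIn_map_mk (N := D) (Fusion.sylIn_top T)).exists_sylow
    rw [LocalEven.PIrr.pclosed_iff T', LocalEven.PIrr.pclosed_iff T, hT', LocalEven.PIrr.map_core_le_iff D hD]
  have hR := LocalEven.PIrr.residual_map (p := p) D
  have hback : ∀ N : Subgroup H, N.Normal → (pResidual p H).map π ≤ N.map π → pResidual p H ≤ N := by
    intro N hN h
    haveI := hN
    refine LocalEven.PIrr.residual_le_of_le (M := pResidual p H) le_rfl hD ?_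
    rw [sup_comm]
    refine (Subgroup.map_le_iff_le_comap.1 h).trans ?_
    rw [QuotientGroup.comap_map_mk']
  have hcomm : ∀ N : Subgroup H, (⁅N.map π, (⊤ : Subgroup (H ⧸ D))⁆ ≤ pCore p (H ⧸ D)) ↔ ⁅N, (⊤ : Subgroup H)⁆ ≤ pCore p H := by
    intro N
    rw [← Subgroup.map_top_of_surjective π hπ, ← Subgroup.map_commutator, LocalEven.PIrr.map_core_le_iff D hD]
  refine ⟨and_congr (not_congr hcl.symm) ⟨fun h N hN hnc => ?_, fun h N hN hnc => ?_⟩,
    and_congr (not_congr hcl.symm) ⟨fun h N hN hnc => ?_, fun h N hN hnc => ?_⟩⟩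
  · haveI := hN
    haveI : ((N.comap π).map π).Normal := by rw [Subgroup.map_comap_eq_self_of_surjective hπ]; exact hN
    have h1 : ¬ IsPClosed p ↥(N.comap π) := fun hc => hnc (by
      have := (LocalEven.PIrr.pclosed_quot_iff D hD T (N.comap π)).2 hc
      rwa [Subgroup.map_comap_eq_self_of_surjective hπ] at this)
    rw [← hR, Subgroup.map_le_iff_le_comap]
    exact h _ inferInstance h1
  · haveI := hN
    haveI : (N.map π).Normal := hN.map π hπ
    refine hback N hN ?_
    rw [hR]
    exact h _ inferInstance fun hc => hnc ((LocalEven.PIrr.pclosed_quot_iff D hD T N).1 hc)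
  · haveI := hN
    rw [← hR, Subgroup.map_le_iff_le_comap]
    refine h _ inferInstance fun hc => hnc ?_
    rw [← Subgroup.map_comap_eq_self_of_surjective hπ N, hcomm]
    exact hc
  · haveI := hN
    refine hback N hN ?_
    rw [hR]
    exact h _ (hN.map π hπ) fun hc => hnc ((hcomm N).1 hc)

end Cfsg.Agent.S2828
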