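import Cfsg.Statements.S2829
import Cfsg.Agent.Lib.LocalEven.PIrred

set_option autoImplicit false
open Cfsg
open scoped commutatorElement

namespace Cfsg.Agent.S2829

theorem result {H : Type*} [Group H] [Finite H] {p : ℕ} [Fact p.Prime] (hH : Cfsg.IsStronglyPIrreducible p H) : Cfsg.IsPIrreducible p H := by
  obtain ⟨T⟩ : Nonempty (Sylow p H) := inferInstance
  refine ⟨hH.1, fun N hN hnc => hH.2 N hN fun hc => hnc ?_⟩
  haveI := hN
  refine (LocalEven.PIrr.pclosed_sub_iff T N).2 ?_
  set X := ((T : Subgroup H) ⊓ N) ⊔ pCore p H with hX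
  haveI : X.Normal := by
    rw [← Subgroup.normalizer_eq_top_iff, eq_top_iff]
    intro g _
    refine Fusion.mem_normalizer_of_cj_le ?_
    rw [Fusion.cj_sup, Fusion.cj_of_normal (pCore p H)]
    refine sup_le ?_ le_sup_right
    rintro _ ⟨y, hy, rfl⟩
    have e : (MulAut.conj g).toMonoidHom y = ⁅y, g⁆⁻¹ * y := by simp [commutatorElement_def, mul_assoc]
    rw [e]
    exact mul_mem (Subgroup.mem_sup_right (inv_mem (hc (Subgroup.commutator_mem_commutator
      (Subgroup.mem_inf.1 hy).2 (Subgroup.mem_top g))))) (Subgroup.mem_sup_left hy)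
  have hXp : IsPGroup p X := T.isPGroup'.to_inf_left.to_sup_of_normal_right (Fusion.isPGroup_pCore p H)
  exact le_sup_left.trans (Fusion.le_pCore hXp)

end Cfsg.Agent.S2829
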