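import Cfsg.Statements.S2830
import Cfsg.Agent.Lib.LocalEven.PIrred

set_option autoImplicit false
open Cfsg
open scoped commutatorElement

namespace Cfsg.Agent.S2830

theorem result {G : Type*} [Group G] [Finite G] {p : ℕ} [Fact p.Prime] (V H : Subgroup G) (hV : Cfsg.IsElementaryAbelian p V) (hHV : H ≤ Subgroup.normalizer (V : Set G)) (hH : Cfsg.IsPIrreducible p ↥H) (hnc : ¬ (Cfsg.pResidual p ↥H).map H.subtype ≤ Subgroup.centralizer (V : Set G)) [hn : ((Subgroup.centralizer (V : Set G)).subgroupOf H).Normal] : Cfsg.IsPClosed p ↥(H ⊓ Subgroup.centralizer (V : Set G)) ∧ (∀ T : Subgroup G, T ≤ H → IsPGroup p ↥T → T ⊓ Subgroup.centralizer (V : Set G) ≤ Cfsg.pCoreOf p H) ∧ (Cfsg.pCoreOf p H ≤ Subgroup.centralizer (V : Set G) → (∀ T : Subgroup G, T ≤ H → IsPGroup p ↥T → T ⊓ Subgroup.centralizer (V : Set G) = T ⊓ Cfsg.pCoreOf p H) ∧ Cfsg.pCore p (↥H ⧸ (Subgroup.centralizer (V : Set G)).subgroupOf H) = ⊥) := by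
  set C := Subgroup.centralizer (V : Set G)
  set N : Subgroup ↥H := C.subgroupOf H with hN
  haveI : N.Normal := hn
  have hncN : ¬ pResidual p ↥H ≤ N := fun h => hnc (Subgroup.map_le_iff_le_comap.2 h)
  have hNc : IsPClosed p ↥N := by
    by_contra h
    exact hncN (hH.2 N hn h)
  have h2 : ∀ T : Subgroup G, T ≤ H → IsPGroup p ↥T → T ⊓ C ≤ pCoreOf p H := by
    intro T hTH hT x hx
    obtain ⟨hxT, hxC⟩ := Subgroup.mem_inf.1 hx
    exact ⟨⟨x, hTH hxT⟩, LocalEven.PIrr.inf_le_of_closed N hNc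
      (Q := T.subgroupOf H) (hT.comap_of_injective H.subtype H.subtype_injective)
      (Subgroup.mem_inf.2 ⟨hxT, hxC⟩), rfl⟩
  refine ⟨?_, h2, fun hle => ⟨fun T hTH hT => le_antisymm (le_inf inf_le_left (h2 T hTH hT))
    (inf_le_inf_left T hle), ?_⟩⟩
  · let e : ↥N ≃* ↥(H ⊓ C : Subgroup G) :=
      (Subgroup.equivMapOfInjective N H.subtype H.subtype_injective).trans
        (MulEquiv.subgroupCongr (by rw [hN, Subgroup.subgroupOf_map_subtype, inf_comm]))
    intro P
    obtain ⟨P'⟩ : Nonempty (Sylow p ↥N) := inferInstance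
    haveI := hNc P'
    haveI : ((P' : Subgroup ↥N).map e.toMonoidHom).Normal := Subgroup.Normal.map inferInstance _ e.surjective
    exact Solv.pclosed_of_normal ((P' : Subgroup ↥N).map e.toMonoidHom) (P'.isPGroup'.map _)
      (by rw [show ((P' : Subgroup ↥N).map e.toMonoidHom).index = (P' : Subgroup ↥N).index from Subgroup.index_map_equiv _ e]; exact P'.not_dvd_index) P
  · set π := QuotientGroup.mk' N
    set M := (pCore p (↥H ⧸ N)).comap π with hM
    haveI : M.Normal := inferInstance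
    have hMcl : IsPClosed p ↥M := by
      by_contra h
      have hRM := hH.2 M inferInstance h
      have hq : IsPGroup p (↥H ⧸ N) := by
        intro x
        obtain ⟨g, rfl⟩ := QuotientGroup.mk'_surjective N x
        obtain ⟨a, ha⟩ := (Fusion.isPGroup_quotient_pResidual (p := p) (G := ↥H)) (QuotientGroup.mk g)
        rw [← QuotientGroup.mk_pow, QuotientGroup.eq_one_iff] at ha
        obtain ⟨k, hk⟩ := Fusion.isPGroup_pCore p (↥H ⧸ N) ⟨π (g ^ p ^ a), hRM ha⟩
        refine ⟨a + k, ?_⟩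
        have := congrArg Subtype.val hk
        simp only [Subgroup.coe_pow, Subgroup.coe_one] at this
        rw [pow_add, pow_mul, ← map_pow]
        exact this
      exact hncN (Fusion.pResidual_le_of_isPGroup_quotient hq)
    obtain ⟨T⟩ : Nonempty (Sylow p ↥H) := inferInstance
    have h4 : (T : Subgroup ↥H) ⊓ M ≤ N := ((LocalEven.PIrr.pclosed_sub_iff T M).1 hMcl).trans
      (fun x hx => hle ⟨x, hx, rfl⟩)
    obtain ⟨T', hT'⟩ := (Fusion.sylIn_map_mk (N := N) (Fusion.sylIn_top T)).exists_sylow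
    refine eq_bot_iff.2 fun z hz => ?_
    have hzT : z ∈ (T : Subgroup ↥H).map π := hT' ▸ Fusion.pCore_le_sylow T' hz
    obtain ⟨t, ht, rfl⟩ := hzT
    exact Subgroup.mem_bot.2 ((QuotientGroup.eq_one_iff t).2 (h4 (Subgroup.mem_inf.2 ⟨ht, hz⟩)))

end Cfsg.Agent.S2830
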