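import Cfsg.Statements.S2831
import Cfsg.Agent.Lib.LocalEven.PIrred

set_option autoImplicit false
open Cfsg
open scoped commutatorElement

namespace Cfsg.Agent.S2831

theorem result {H : Type*} [Group H] [Finite H] {p : ℕ} [Fact p.Prime] (T : Sylow p H) (hmin : Cfsg.IsMinimalOver (T : Subgroup H)) : Cfsg.IsPIrreducible p H := by
  obtain ⟨hcl, M, ⟨hMc, hTM⟩, hu⟩ := hmin
  have hncl : ¬ IsPClosed p H := by
    intro h
    haveI := h T
    exact hMc.1 (top_le_iff.1 ((LocalEven.PIrr.normalClosure_le hcl le_rfl).ge.trans hTM))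
  refine ⟨hncl, fun N hN hnc => ?_⟩
  haveI := hN
  by_contra hR
  have h1 : N ⊔ (T : Subgroup H) ≠ ⊤ := fun h => hR (LocalEven.PIrr.residual_le_of_sup T.isPGroup' h)
  have hNM : N ≤ M := le_sup_left.trans (LocalEven.PIrr.le_max hu h1 le_sup_right)
  set S := (T : Subgroup H) ⊓ N
  have hS : Fusion.SylIn p S N := (Fusion.sylIn_top T).inf_normal le_top (by rw [Subgroup.normalizer_eq_top])
  have hTS : (T : Subgroup H) ≤ Subgroup.normalizer (S : Set H) := by
    refine fun t ht => Fusion.mem_normalizer_iff_cj.2 ?_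
    rw [Fusion.cj_inf, Fusion.cj_eq_self_of_mem ht, Fusion.cj_of_normal]
  have h2 : Subgroup.normalizer (S : Set H) ≠ ⊤ := by
    intro h
    haveI : S.Normal := Subgroup.normalizer_eq_top_iff.1 h
    exact hnc ((LocalEven.PIrr.pclosed_sub_iff T N).2 (Fusion.le_pCore hS.isPGroup))
  have hSM := LocalEven.PIrr.le_max hu h2 hTS
  refine hMc.1 (eq_top_iff.2 fun g _ => ?_)
  obtain ⟨n, hn, hng⟩ := Fusion.frattini_conj (H := ⊤) hS (by rw [Subgroup.normalizer_eq_top]) (Subgroup.mem_top g)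
  have := mul_mem (inv_mem (hNM hn)) (hSM hng)
  simpa using this

end Cfsg.Agent.S2831
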