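import Cfsg.Statements.S2832
import Cfsg.Agent.Lib.LocalEven.PIrred

set_option autoImplicit false
open Cfsg
open scoped commutatorElement

namespace Cfsg.Agent.S2832

theorem result {H : Type*} [Group H] [Finite H] {p : ℕ} [Fact p.Prime] (T : Sylow p H) (hmin : Cfsg.IsMinimalOver (T : Subgroup H)) (N : Subgroup H) [N.Normal] : IsPGroup p (H ⧸ N) ∨ Cfsg.IsMinimalOver ((T : Subgroup H).map (QuotientGroup.mk' N)) := by
  obtain ⟨hcl, M, ⟨hMc, hTM⟩, hu⟩ := hmin
  set π := QuotientGroup.mk' N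
  have hπ := QuotientGroup.mk'_surjective N
  by_cases htop : N ⊔ (T : Subgroup H) = ⊤
  · left
    intro x
    obtain ⟨g, rfl⟩ := hπ x
    obtain ⟨n, hn, t, ht, rfl⟩ := Subgroup.mem_sup_of_normal_left.1 (htop ▸ Subgroup.mem_top g : g ∈ N ⊔ (T : Subgroup H))
    obtain ⟨k, hk⟩ := T.isPGroup' ⟨t, ht⟩
    refine ⟨k, ?_⟩
    rw [map_mul, show π n = 1 from (QuotientGroup.eq_one_iff n).2 hn, one_mul, ← map_pow,
      show t ^ p ^ k = 1 from congrArg Subtype.val hk, map_one]
  · right
    have hNM : N ≤ M := le_sup_left.trans (LocalEven.PIrr.le_max hu htop le_sup_right)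
    have hcM : (M.map π).comap π = M := by rw [QuotientGroup.comap_map_mk', sup_eq_right.2 hNM]
    refine ⟨?_, M.map π, ⟨⟨fun h => hMc.1 (by rw [← hcM, h, Subgroup.comap_top]), fun L hL => ?_⟩,
      Subgroup.map_mono hTM⟩, ?_⟩
    · rw [Subgroup.coe_map, ← Subgroup.map_normalClosure _ π hπ, hcl, Subgroup.map_top_of_surjective π hπ]
    · have h3 : L.comap π = ⊤ := hMc.2 _ (lt_of_le_of_ne (hcM.ge.trans (Subgroup.comap_mono hL.le))
        fun h => hL.ne (Subgroup.comap_injective hπ (hcM.trans h)))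
      exact Subgroup.comap_injective hπ (h3.trans (Subgroup.comap_top π).symm)
    · rintro L ⟨hL, hTL⟩
      have h1 : L.comap π ≠ ⊤ := fun h => hL.1 (Subgroup.comap_injective hπ (h.trans (Subgroup.comap_top π).symm))
      have h2 := LocalEven.PIrr.le_max hu h1 (Subgroup.map_le_iff_le_comap.1 hTL)
      have h3 : L ≤ M.map π := by
        have := Subgroup.map_mono (f := π) h2
        rwa [Subgroup.map_comap_eq_self_of_surjective hπ] at this
      refine (h3.eq_or_lt.resolve_right fun hlt => ?_)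
      have := hL.2 _ hlt
      exact hMc.1 (by rw [← hcM, this, Subgroup.comap_top])

end Cfsg.Agent.S2832
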