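import Cfsg.Statements.S2833
import Cfsg.Agent.Lib.Fusion.Basic

set_option autoImplicit false
open Cfsg
open scoped commutatorElement Pointwise

namespace Cfsg.Agent.S2833

theorem result {G : Type*} [Group G] [Finite G] (V L : Subgroup G) (hLV : L ≤ Subgroup.normalizer (V : Set G)) (X : Subgroup G) (hX : X ≤ L) (g : G) (hg : g ∈ L) (hq : ⁅⁅V, X⁆, X⁆ = ⊥) (hgen : X ⊔ X.map (MulAut.conj g).toMonoidHom = L) (W : Subgroup G) (hW : W = ⁅V, L⁆) : ⁅V, X⁆ ⊔ ⁅V, X.map (MulAut.conj g).toMonoidHom⁆ = W ∧ W ⊓ Subgroup.centralizer (X : Set G) = ⁅V, X⁆ ∧ W ⊓ Subgroup.centralizer (L : Set G) = ⁅V, X⁆ ⊓ ⁅V, X.map (MulAut.conj g).toMonoidHom⁆ := by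
  set Xg := X.map (MulAut.conj g).toMonoidHom with hXg
  set A : Subgroup G := ⁅V, X⁆ with hA
  set B : Subgroup G := ⁅V, Xg⁆ with hB
  have hXgL : Xg ≤ L := hgen ▸ le_sup_right
  have hgV : g ∈ Subgroup.normalizer (V : Set G) := hLV hg
  have hBA : B = Fusion.cj A g := by
    rw [hB, hA, Fusion.cj_commutator, Fusion.cj_eq_self hgV]
  have hXA : X ≤ Subgroup.centralizer (A : Set G) :=
    Subgroup.le_centralizer_iff.1 (Subgroup.commutator_eq_bot_iff_le_centralizer.1 hq)
  have hXgB : Xg ≤ Subgroup.centralizer (B : Set G) := by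
    rw [hBA, ← Fusion.cj_centralizer]; exact Fusion.cj_mono hXA g
  have hBV : B ≤ V := Subgroup.le_normalizer_iff_commutator_le_left.1 (hXgL.trans hLV)
  have hAV : A ≤ V := Subgroup.le_normalizer_iff_commutator_le_left.1 (hX.trans hLV)
  have hVA : V ≤ Subgroup.normalizer (A : Set G) := Subgroup.normalizer_commutator_ge_left V X
  have hVB : V ≤ Subgroup.normalizer (B : Set G) := Subgroup.normalizer_commutator_ge_left V Xg
  have hVU : V ≤ Subgroup.normalizer ((A ⊔ B : Subgroup G) : Set G) := fun v hv =>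
    Fusion.mem_normalizer_iff_cj.2 (by rw [Fusion.cj_sup, Fusion.cj_eq_self (hVA hv), Fusion.cj_eq_self (hVB hv)])
  have hstep : ∀ (K P Q : Subgroup G), K ≤ Subgroup.centralizer (P : Set G) → Q ≤ V → ⁅V, K⁆ ≤ P →
      K ≤ Subgroup.normalizer ((P ⊔ Q : Subgroup G) : Set G) := by
    intro K P Q hP hQ hVK
    rw [Subgroup.le_normalizer_iff]
    intro k hk z hz
    rw [Subgroup.sup_eq_closure] at hz
    induction hz using Subgroup.closure_induction with
    | mem z hz =>
      rcases hz with hz | hz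
      · rw [show k * z * k⁻¹ = z by rw [← Subgroup.mem_centralizer_iff.1 (hP hk) z hz]; group]
        exact Subgroup.mem_sup_left hz
      · rw [show k * z * k⁻¹ = ⁅z, k⁆⁻¹ * z by simp [commutatorElement_def, mul_assoc]]
        exact mul_mem (Subgroup.mem_sup_left (inv_mem (hVK (Subgroup.commutator_mem_commutator (hQ hz) hk))))
          (Subgroup.mem_sup_right hz)
    | one => simp
    | mul a b _ _ ha hb =>
      rw [show k * (a * b) * k⁻¹ = (k * a * k⁻¹) * (k * b * k⁻¹) by group]
      exact mul_mem ha hb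
    | inv a _ ha =>
      rw [show k * a⁻¹ * k⁻¹ = (k * a * k⁻¹)⁻¹ by group]
      exact inv_mem ha
  have hLU : L ≤ Subgroup.normalizer ((A ⊔ B : Subgroup G) : Set G) := by
    rw [← hgen]
    refine sup_le (hstep X A B hXA hBV le_rfl) ?_
    have := hstep Xg B A hXgB hAV le_rfl
    rwa [sup_comm] at this
  have hWU : A ⊔ B = W := by
    rw [hW]
    refine le_antisymm (sup_le (Subgroup.commutator_mono le_rfl hX) (Subgroup.commutator_mono le_rfl hXgL)) ?_
    refine Subgroup.commutator_le.2 fun v hv l hl => ?_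
    rw [← hgen, Subgroup.sup_eq_closure] at hl
    have : l ∈ L ∧ ∀ v ∈ V, ⁅v, l⁆ ∈ A ⊔ B := by
      induction hl using Subgroup.closure_induction with
      | mem z hz =>
        rcases hz with hz | hz
        · exact ⟨hX hz, fun v hv => Subgroup.mem_sup_left (Subgroup.commutator_mem_commutator hv hz)⟩
        · exact ⟨hXgL hz, fun v hv => Subgroup.mem_sup_right (Subgroup.commutator_mem_commutator hv hz)⟩
      | one => exact ⟨one_mem _, fun v _ => by simp⟩
      | mul a b _ _ ha hb =>
        refine ⟨mul_mem ha.1 hb.1, fun v hv => ?_⟩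
        rw [show ⁅v, a * b⁆ = ⁅v, a⁆ * (a * ⁅v, b⁆ * a⁻¹) by simp only [commutatorElement_def]; group]
        exact mul_mem (ha.2 v hv) ((Subgroup.mem_normalizer_iff.1 (hLU ha.1) _).1 (hb.2 v hv))
      | inv a _ ha =>
        refine ⟨inv_mem ha.1, fun v hv => ?_⟩
        rw [show ⁅v, a⁻¹⁆ = a⁻¹ * ⁅v, a⁆⁻¹ * a⁻¹⁻¹ by simp only [commutatorElement_def]; group]
        exact (Subgroup.mem_normalizer_iff.1 (hLU (inv_mem ha.1)) _).1 (inv_mem (ha.2 v hv))
    exact this.2 v hv
  have hWA : W ⊓ Subgroup.centralizer (X : Set G) = A := by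
    refine le_antisymm (fun w hw => ?_) (le_inf (hWU ▸ le_sup_left) (Subgroup.le_centralizer_iff.1 hXA))
    obtain ⟨hwW, hwC⟩ := Subgroup.mem_inf.1 hw
    rw [← hWU, ← SetLike.mem_coe,
      Subgroup.coe_mul_of_right_le_normalizer_left _ _ (hBV.trans hVA)] at hwW
    obtain ⟨a, ha, b, hb, rfl⟩ := hwW
    have hbX : b ∈ Subgroup.centralizer (X : Set G) := by
      have := mul_mem (inv_mem ((Subgroup.le_centralizer_iff.1 hXA) ha)) hwC
      simpa using this
    have hbL : L ≤ Subgroup.centralizer ({b} : Set G) := by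
      rw [← hgen]
      refine sup_le ?_ ?_
      · exact fun x hx => Subgroup.mem_centralizer_singleton_iff.2 (Subgroup.mem_centralizer_iff.1 hbX x hx)
      · exact fun x hx => Subgroup.mem_centralizer_singleton_iff.2
          (Subgroup.mem_centralizer_iff.1 (hXgB hx) b hb).symm
    refine mul_mem ha ?_
    rw [hBA] at hb
    obtain ⟨a', ha', hae⟩ := hb
    have hc := Subgroup.mem_centralizer_singleton_iff.1 (hbL hg)
    have e : a' = b := by
      have h2 : g * a' * g⁻¹ = b := hae
      calc a' = g⁻¹ * (g * a' * g⁻¹) * g := by group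
        _ = g⁻¹ * (b * g) := by rw [h2]; group
        _ = g⁻¹ * (g * b) := by rw [hc]
        _ = b := by group
    exact e ▸ ha'
  refine ⟨hWU, hWA, ?_⟩
  have hgW : g ∈ Subgroup.normalizer (W : Set G) := by
    rw [hW]; exact Subgroup.normalizer_commutator_ge_right V L hg
  have hWB : W ⊓ Subgroup.centralizer (Xg : Set G) = B := by
    have := congrArg (fun K => Fusion.cj K g) hWA
    simp only [Fusion.cj_inf, Fusion.cj_centralizer, Fusion.cj_eq_self hgW, ← hBA] at this
    exact this
  refine le_antisymm (le_inf ?_ ?_) ?_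
  · rw [← hWA]; exact inf_le_inf_left W (Subgroup.centralizer_le hX)
  · rw [← hWB]; exact inf_le_inf_left W (Subgroup.centralizer_le hXgL)
  · refine le_inf (inf_le_left.trans (hWU ▸ le_sup_left)) ?_
    refine Subgroup.le_centralizer_iff.1 (hgen.symm.le.trans (sup_le ?_ ?_))
    · exact hXA.trans (Subgroup.centralizer_le inf_le_left)
    · exact hXgB.trans (Subgroup.centralizer_le inf_le_right)

end Cfsg.Agent.S2833
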