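import Cfsg.Statements.S2834
import Cfsg.Agent.Lib.Fusion.WeakClosureFunctor
import Cfsg.Agent.Lib.LocalEven.PIrred

set_option autoImplicit false
set_option maxHeartbeats 800000
open Cfsg

namespace Cfsg.Agent.S2834

open Cfsg.Agent.Fusion

theorem core_cj {H : Type*} [Group H] [Finite H] {p : ℕ} [Fact p.Prime] (A : Subgroup H) (g : H) :
    pCoreOf p (cj A g) = cj (pCoreOf p A) g := by
  have hle : ∀ (B : Subgroup H) (g : H), cj (pCoreOf p B) g ≤ pCoreOf p (cj B g) := fun B g =>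
    le_pCoreOf (cj_mono (pCoreOf_le B) g) ((cj_mono (le_normalizer_pCoreOf B) g).trans (cj_normalizer _ _).le)
      (isPGroup_cj (pCoreOf_isPGroup B) g)
  refine le_antisymm ?_ (hle A g)
  have := cj_mono (hle (cj A g) g⁻¹) g
  rwa [cj_inv_cj, cj_cj_inv] at this

theorem descend {H : Type*} [Group H] [Finite H] {p : ℕ} [Fact p.Prime] (M A O : Subgroup H) [O.Normal] :
    ∀ (n : ℕ) (X : Subgroup H), Nat.card X = n → ∀ (T1 : Subgroup H) (g u : H), SylIn p T1 X →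
      O ≤ pCoreOf p X → cj A u ≤ T1 → ¬ cj A u ≤ pCoreOf p X → T1 ≤ cj M g → ¬ X ≤ cj M g →
      (∀ Y : Subgroup H, T1 ≤ Y → Y < X → Y ≤ cj M g) →
      ∃ (v g' : H) (L : Subgroup H), cj A v ⊔ O ≤ L ∧ cj A v ⊔ pCoreOf p L ≤ L ⊓ cj M g' ∧ L ⊓ cj M g' < L ∧
        (∀ Y : Subgroup H, cj A v ⊔ pCoreOf p L ≤ Y → Y < L → Y ≤ L ⊓ cj M g') ∧
        ∀ x ∈ L, x ∉ L ⊓ cj M g' → (cj A v ⊔ cj (cj A v) x) ⊔ pCoreOf p L = L := by
  intro n
  induction n using Nat.strong_induction_on with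
  | _ n ih =>
  intro X hn T1 g u hT1 hO hAT hAO hTM hXM hmax
  subst hn
  obtain ⟨M0, hM0⟩ : ∃ M0, M0 = X ⊓ cj M g := ⟨_, rfl⟩
  have hM0X : M0 < X := lt_of_le_of_ne (hM0 ▸ inf_le_left) fun e => hXM (inf_eq_left.1 (hM0.symm.trans e))
  have hOT : pCoreOf p X ≤ T1 := pCoreOf_le_sylIn hT1
  have hT1M0 : T1 ≤ M0 := hM0 ▸ le_inf hT1.le hTM
  have hmax' : ∀ Y : Subgroup H, T1 ≤ Y → Y < X → Y ≤ M0 := fun Y h1 h2 => hM0 ▸ le_inf h2.le (hmax Y h1 h2)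
  -- nothing over `cj A u` is normal in `X`
  have hnotn : ∀ W : Subgroup H, W ≤ X → IsPGroup p W → cj A u ≤ W → X ≤ Subgroup.normalizer (W : Set H) → False :=
    fun W hWX hW hAW hn' => hAO (hAW.trans (le_pCoreOf hWX hn' hW))
  by_cases hdone : ∀ Y : Subgroup H, cj A u ⊔ pCoreOf p X ≤ Y → Y < X → Y ≤ M0
  · refine ⟨u, g, X, sup_le (hAT.trans hT1.le) (hO.trans (pCoreOf_le X)),
      hM0 ▸ sup_le (hAT.trans hT1M0) (hOT.trans hT1M0), hM0 ▸ hM0X, fun Y h1 h2 => hM0 ▸ hdone Y h1 h2, ?_⟩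
    intro x hx hxM
    rw [← hM0] at hxM
    by_contra hne
    have hxX : cj X x = X := cj_eq_self_of_mem hx
    have hle : cj A u ⊔ cj (cj A u) x ⊔ pCoreOf p X ≤ X :=
      sup_le (sup_le (hAT.trans hT1.le) ((cj_mono (hAT.trans hT1.le) x).trans hxX.le)) (pCoreOf_le X)
    have h1 := hdone _ (sup_le (le_sup_left.trans le_sup_left) le_sup_right) (lt_of_le_of_ne hle hne)
    have h2 : cj A u ⊔ pCoreOf p X ≤ cj M0 x⁻¹ := by
      refine sup_le ?_ ?_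
      · have := cj_mono ((le_sup_right.trans le_sup_left : cj (cj A u) x ≤ _).trans h1) x⁻¹
        rwa [cj_cj_inv] at this
      · have := cj_mono (hOT.trans hT1M0) x⁻¹
        rwa [cj_eq_self (le_normalizer_pCoreOf X (inv_mem hx))] at this
    have h3 : cj M0 x⁻¹ < X := by
      refine lt_of_le_of_ne ((cj_mono hM0X.le _).trans (cj_eq_self_of_mem (inv_mem hx)).le) fun e => hM0X.ne ?_
      have := congrArg (fun Z => cj Z x) e
      simpa only [cj_inv_cj, hxX] using this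
    have h4 : cj M0 x⁻¹ = M0 := Subgroup.eq_of_le_of_card_ge (hdone _ h2 h3) (card_cj _ _).ge
    have hxn : x ∈ Subgroup.normalizer (M0 : Set H) := by
      rw [← inv_inv x]; exact inv_mem (mem_normalizer_iff_cj.2 h4)
    -- `M0` is self-normalizing in `X`
    obtain ⟨N, hN⟩ : ∃ N, N = X ⊓ Subgroup.normalizer (M0 : Set H) := ⟨_, rfl⟩
    rcases (hN ▸ inf_le_left : N ≤ X).lt_or_eq with hlt | heq
    · exact hxM (hmax' N (hN ▸ le_inf hT1.le (hT1M0.trans Subgroup.le_normalizer)) hlt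
        (hN ▸ Subgroup.mem_inf.2 ⟨hx, hxn⟩))
    · have hXn : X ≤ Subgroup.normalizer (M0 : Set H) := heq.ge.trans (hN ▸ inf_le_right)
      have hTM0 : SylIn p T1 M0 := hT1.mono hT1M0 hM0X.le
      obtain ⟨N', hN'⟩ : ∃ N', N' = X ⊓ Subgroup.normalizer (T1 : Set H) := ⟨_, rfl⟩
      rcases (hN' ▸ inf_le_left : N' ≤ X).lt_or_eq with hlt' | heq'
      · refine hM0X.not_ge fun z hz => ?_
        obtain ⟨m, hm, hmz⟩ := frattini_conj (H := X) hTM0 hXn hz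
        have h5 := hmax' N' (hN' ▸ le_inf hT1.le Subgroup.le_normalizer) hlt'
          (hN' ▸ Subgroup.mem_inf.2 ⟨mul_mem (hM0X.le hm) hz, hmz⟩)
        simpa using mul_mem (inv_mem hm) h5
      · exact hnotn T1 hT1.le hT1.isPGroup hAT (heq'.ge.trans (hN' ▸ inf_le_right))
  -- pairs
  push Not at hdone
  obtain ⟨Y₀, hY₀, hY₀X, hY₀M⟩ := hdone
  obtain ⟨S, hS⟩ : ∃ S, S = {R : Subgroup H | IsPGroup p R ∧ pCoreOf p X ≤ R ∧
      (∃ w, cj A w ≤ R ∧ ¬ cj A w ≤ pCoreOf p X) ∧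
      ∃ Y : Subgroup H, ∃ x ∈ X, R ≤ Y ∧ R ≤ cj M0 x ∧ Y < X ∧ ¬ Y ≤ cj M0 x} := ⟨_, rfl⟩
  have hS0 : cj A u ⊔ pCoreOf p X ∈ S := hS ▸ ⟨hT1.isPGroup.to_le (sup_le hAT hOT), le_sup_right,
    ⟨u, le_sup_left, hAO⟩, Y₀, 1, one_mem X, hY₀, (sup_le (hAT.trans hT1M0) (hOT.trans hT1M0)).trans (cj_one M0).ge,
    hY₀X, fun h => hY₀M (h.trans (cj_one M0).le)⟩
  obtain ⟨R, -, hR⟩ := (Set.toFinite S).exists_le_maximal hS0
  have hRS := hR.1
  rw [hS] at hRS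
  obtain ⟨hRp, hOR, ⟨w, hwR, hwO⟩, Y, x, hx, hRY, hRM, hYX, hYM⟩ := hRS
  have hxX : cj X x = X := cj_eq_self_of_mem hx
  have hM0x : cj M0 x = X ⊓ cj M (x * g) := by rw [hM0, cj_inf, hxX, cj_cj]
  have hM0xX : cj M0 x < X := lt_of_le_of_ne ((cj_mono hM0X.le x).trans hxX.le) fun e => hM0X.ne
    ((cj_le_cj (g := x)).1 (hxX.le.trans e.ge) |> le_antisymm hM0X.le)
  have hmaxx : ∀ Z : Subgroup H, cj T1 x ≤ Z → Z < X → Z ≤ cj M0 x := by
    intro Z h1 h2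
    have h3 := hmax' (cj Z x⁻¹) (by have := cj_mono h1 x⁻¹; rwa [cj_cj_inv] at this) (by
      refine lt_of_le_of_ne ((cj_mono h2.le _).trans (cj_eq_self_of_mem (inv_mem hx)).le) fun e => h2.ne ?_
      have := congrArg (fun W => cj W x) e
      simpa only [cj_inv_cj, hxX] using this)
    have h4 := cj_mono h3 x
    rwa [cj_inv_cj] at h4
  have hgrow : ∀ (Z : Subgroup H) (R' : Subgroup H), IsPGroup p R' → R < R' → R' ≤ Z → R' ≤ cj M0 x → Z < X →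
      ¬ Z ≤ cj M0 x → False := fun Z R' h1 h2 h3 h4 h5 h6 =>
    hR.not_gt (hS ▸ ⟨h1, hOR.trans h2.le, ⟨w, hwR.trans h2.le, hwO⟩, Z, x, hx, h3, h4, h5, h6⟩) h2
  have hRX : R ≤ X := hRY.trans hYX.le
  have hRn : ¬ X ≤ Subgroup.normalizer (R : Set H) := fun h => hwO (hwR.trans (le_pCoreOf hRX h hRp))
  -- a Sylow subgroup of `cj M0 x` over `R`, properly bigger
  obtain ⟨T2, hT2, hRT2⟩ := exists_sylIn_ge hRp hRM
  have hRlt : R < T2 := by
    refine lt_of_le_of_ne hRT2 ?_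
    rintro rfl
    have hs : SylIn p (cj T1 x) (cj M0 x) := (hT1.mono hT1M0 hM0X.le).cj x
    obtain ⟨c, hc, he⟩ := hs.conj_eq hT2
    have h1 : cj T1 x ≤ cj Y c⁻¹ := by
      have := cj_mono (he.le.trans hRY) c⁻¹
      rwa [cj_cj_inv] at this
    have hcX : c ∈ X := hM0xX.le hc
    have h2 : cj Y c⁻¹ < X := by
      refine lt_of_le_of_ne ((cj_mono hYX.le _).trans (cj_eq_self_of_mem (inv_mem hcX)).le) fun e => hYX.ne ?_
      have := congrArg (fun W => cj W c) e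
      simpa only [cj_inv_cj, cj_eq_self_of_mem hcX] using this
    have h3 := cj_mono (hmaxx _ h1 h2) c
    rw [cj_inv_cj, cj_eq_self_of_mem hc] at h3
    exact hYM h3
  have hP2 := SylIn.normalizer_growth hRT2 hRlt.ne hT2.isPGroup
  have hnorm : ∀ W : Subgroup H, W ≤ X → IsPGroup p W → ¬ X ≤ Subgroup.normalizer (W : Set H) →
      R ≤ Subgroup.normalizer (W : Set H) → T2 ⊓ Subgroup.normalizer (R : Set H) ≤ Subgroup.normalizer (W : Set H) →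
      X ⊓ Subgroup.normalizer (W : Set H) ≤ cj M0 x := by
    intro W hWX hW hWn hRW hP
    by_contra hle
    exact hgrow (X ⊓ Subgroup.normalizer (W : Set H)) (T2 ⊓ Subgroup.normalizer (R : Set H))
      (hT2.isPGroup.to_le inf_le_left) hP2 (le_inf ((inf_le_left.trans hT2.le).trans hM0xX.le) hP)
      (inf_le_left.trans hT2.le) (lt_of_le_of_ne inf_le_left fun e => hWn (inf_eq_left.1 e)) hle
  -- `R` is a Sylow subgroup of a minimal `Z`
  obtain ⟨Z, hZY, hZmin⟩ := Finite.exists_le_minimal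
    (p := fun Z : Subgroup H => R ≤ Z ∧ Z ≤ Y ∧ ¬ Z ≤ cj M0 x) (a := Y) ⟨hRY, le_rfl, hYM⟩
  obtain ⟨hRZ, -, hZM⟩ := hZmin.1
  have hZX : Z < X := lt_of_le_of_lt hZY hYX
  obtain ⟨P1, hP1, hRP1⟩ := exists_sylIn_ge hRp hRZ
  have hP1eq : P1 = R := by
    by_contra hne
    have hgr := SylIn.normalizer_growth hRP1 (Ne.symm hne) hP1.isPGroup
    have h1 := hnorm R hRX hRp hRn Subgroup.le_normalizer inf_le_right
    exact hgrow Z _ (hP1.isPGroup.to_le inf_le_left) hgr (inf_le_left.trans hP1.le)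
      (le_trans (le_inf ((inf_le_left.trans hP1.le).trans hZX.le) inf_le_right) h1) hZX hZM
  subst hP1eq
  have hOZ : pCoreOf p X ≤ pCoreOf p Z := le_pCoreOf (hOR.trans hRZ)
    (hZX.le.trans (le_normalizer_pCoreOf X)) (pCoreOf_isPGroup X)
  by_cases hex : ∃ v, cj A v ≤ P1 ∧ ¬ cj A v ≤ pCoreOf p Z
  · obtain ⟨v, hvR, hvZ⟩ := hex
    refine ih (Nat.card Z) ?_ Z rfl P1 (x * g) v hP1 (hO.trans hOZ) hvR hvZ
      (hRM.trans (hM0x ▸ inf_le_right)) (fun h => hZM (hM0x ▸ le_inf hZX.le h)) fun W h1 h2 => ?_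
    · exact lt_of_le_of_ne (Subgroup.card_le_of_le hZX.le) fun e => hZX.ne
        (Subgroup.eq_of_le_of_card_ge hZX.le e.ge)
    · by_contra hle
      exact h2.not_ge (hZmin.2 ⟨h1, h2.le.trans hZY, fun h => hle (h.trans (hM0x ▸ inf_le_right))⟩ h2.le)
  exfalso
  push Not at hex
  obtain ⟨W, hW⟩ : ∃ W : Subgroup H, W = ⨆ v : {v : H // cj A v ≤ P1}, cj A (v : H) := ⟨_, rfl⟩
  have hWR : W ≤ P1 := hW ▸ iSup_le fun v => v.2
  have hwW : cj A w ≤ W := hW ▸ le_iSup (fun v : {v : H // cj A v ≤ P1} => cj A (v : H)) ⟨w, hwR⟩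
  have hWn : ∀ t : H, (∀ v : H, cj A v ≤ P1 → cj A (t * v) ≤ P1) → t ∈ Subgroup.normalizer (W : Set H) := by
    intro t ht
    refine mem_normalizer_of_cj_le (Subgroup.map_le_iff_le_comap.2 ?_)
    conv_lhs => rw [hW]
    refine iSup_le fun v => Subgroup.map_le_iff_le_comap.1 ?_
    show cj (cj A (v : H)) t ≤ W
    rw [cj_cj, hW]
    exact le_iSup (fun v : {v : H // cj A v ≤ P1} => cj A (v : H)) ⟨t * v, ht v v.2⟩
  have hPW : ∀ K : Subgroup H, K ≤ Subgroup.normalizer (P1 : Set H) → K ≤ Subgroup.normalizer (W : Set H) :=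
    fun K hK t ht => hWn t fun v hv => by rw [← cj_cj]; exact (cj_mono hv t).trans (cj_eq_self (hK ht)).le
  have hZW : Z ≤ Subgroup.normalizer (W : Set H) := fun z hz => hWn z fun v hv => by
    rw [← cj_cj]
    exact ((cj_mono (hex v hv) z).trans (cj_eq_self (le_normalizer_pCoreOf Z hz)).le).trans (pCoreOf_le_sylIn hP1)
  have h1 := hnorm W (hWR.trans hRX) (hRp.to_le hWR) (fun h => hwO (hwW.trans (le_pCoreOf (hWR.trans hRX) h (hRp.to_le hWR))))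
    (hPW _ Subgroup.le_normalizer) (hPW _ inf_le_right)
  exact hZM (le_trans (le_inf hZX.le hZW) h1)

theorem result {H : Type*} [Group H] [Finite H] {p : ℕ} [Fact p.Prime] (T : Sylow p H) (hmin : Cfsg.IsMinimalOver (T : Subgroup H)) (M : Subgroup H) (hM : IsCoatom M ∧ (T : Subgroup H) ≤ M) (A : Subgroup H) (hAT : A ≤ (T : Subgroup H)) (hA : ¬ A ≤ Cfsg.pCore p H) : ∃ L : Subgroup H, A ⊔ Cfsg.pCore p H ≤ L ∧ ∃ L₀ : Subgroup H, A ⊔ (Cfsg.pCoreOf p L) ≤ L₀ ∧ L₀ < L ∧ (∀ X : Subgroup H, A ⊔ (Cfsg.pCoreOf p L) ≤ X → X < L → X ≤ L₀) ∧ (∃ g : H, L₀ = L ⊓ ((M : Subgroup H).map (MulAut.conj (g : H)).toMonoidHom)) ∧ ∀ x ∈ L, x ∉ L₀ → (A ⊔ ((A : Subgroup H).map (MulAut.conj (x : H)).toMonoidHom)) ⊔ (Cfsg.pCoreOf p L) = L := by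
  obtain ⟨-, huniq⟩ := hmin
  obtain ⟨M', hM', hu⟩ := huniq
  have hMM : M' = M := (hu M hM).symm
  subst hMM
  have htop : pCoreOf p (⊤ : Subgroup H) ≤ pCore p H ∧ pCore p H ≤ pCoreOf p (⊤ : Subgroup H) := by
    refine ⟨Fusion.le_pCore (hn := ?_) (Fusion.pCoreOf_isPGroup _), Fusion.le_pCoreOf le_top ?_ (Fusion.isPGroup_pCore p H)⟩
    · rw [← Subgroup.normalizer_eq_top_iff]; exact top_le_iff.1 (Fusion.le_normalizer_pCoreOf ⊤)
    · rw [Subgroup.normalizer_eq_top]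
  obtain ⟨v, g, L, h1, h2, h3, h4, h5⟩ := descend (p := p) M' A (pCore p H) _ ⊤ rfl (T : Subgroup H) 1 1
    (Fusion.sylIn_top T) htop.2 ((Fusion.cj_one A).le.trans hAT)
    (fun h => hA ((Fusion.cj_one A).ge.trans (h.trans htop.1))) (hM.2.trans (Fusion.cj_one M').ge)
    (fun h => hM.1.1 (top_le_iff.1 (h.trans (Fusion.cj_one M').le)))
    (fun Y hY hY' => (LocalEven.PIrr.le_max hu hY'.ne hY).trans (Fusion.cj_one M').ge)
  obtain ⟨L', hL'⟩ : ∃ L', L' = Fusion.cj L v⁻¹ := ⟨_, rfl⟩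
  have hcore : pCoreOf p L' = Fusion.cj (pCoreOf p L) v⁻¹ := hL' ▸ core_cj L v⁻¹
  have hbot : Fusion.cj (L ⊓ Fusion.cj M' g) v⁻¹ = L' ⊓ Fusion.cj M' (v⁻¹ * g) := by
    rw [Fusion.cj_inf, Fusion.cj_cj, hL']
  have hup : ∀ K : Subgroup H, A ⊔ pCoreOf p L' ≤ K → Fusion.cj A v ⊔ pCoreOf p L ≤ Fusion.cj K v := by
    intro K hK
    have := Fusion.cj_mono hK v
    rwa [Fusion.cj_sup, hcore, Fusion.cj_inv_cj] at this
  have hdown : ∀ K : Subgroup H, Fusion.cj K v ≤ L ⊓ Fusion.cj M' g → K ≤ L' ⊓ Fusion.cj M' (v⁻¹ * g) := by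
    intro K hK
    have := Fusion.cj_mono hK v⁻¹
    rwa [Fusion.cj_cj_inv, hbot] at this
  refine ⟨L', ?_, L' ⊓ Fusion.cj M' (v⁻¹ * g), ?_, ?_, fun X hX hXL => ?_, ⟨v⁻¹ * g, rfl⟩, fun x hx hxn => ?_⟩
  · have := Fusion.cj_mono h1 v⁻¹
    rwa [Fusion.cj_sup, Fusion.cj_cj_inv, Fusion.cj_of_normal (pCore p H), ← hL'] at this
  · have := Fusion.cj_mono h2 v⁻¹
    rwa [Fusion.cj_sup, Fusion.cj_cj_inv, ← hcore, hbot] at this
  · refine lt_of_le_of_ne inf_le_left fun e => h3.ne ?_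
    rw [← hbot, hL'] at e
    have := congrArg (fun X => Fusion.cj X v) e
    simpa only [Fusion.cj_inv_cj] using this
  · refine hdown X (h4 _ (hup X hX) ?_)
    refine lt_of_le_of_ne ?_ fun e => hXL.ne ?_
    · have := Fusion.cj_mono hXL.le v; rwa [hL', Fusion.cj_inv_cj] at this
    · rw [hL', ← e, Fusion.cj_cj_inv]
  · have hx' : v * x * v⁻¹ ∈ L := by
      have := Fusion.mem_cj.1 (hL' ▸ hx : x ∈ Fusion.cj L v⁻¹)
      simpa [mul_assoc] using this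
    have h6 := h5 (v * x * v⁻¹) hx' fun h => hxn (by
      rw [← hbot, Fusion.mem_cj]
      simpa [mul_assoc] using h)
    have h7 := congrArg (fun X => Fusion.cj X v⁻¹) h6
    simp only [Fusion.cj_sup, Fusion.cj_cj_inv, ← hcore, ← hL'] at h7
    rw [Fusion.cj_cj, Fusion.cj_cj, show v⁻¹ * (v * x * v⁻¹) * v = x by group] at h7
    exact h7

end Cfsg.Agent.S2834
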