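import Cfsg.Statements.S2835
import Cfsg.Agent.Lib.LocalEven.MinOver

set_option autoImplicit false
open Cfsg
open scoped commutatorElement

namespace Cfsg.Agent.S2835

theorem result {L : Type*} [Group L] [Finite L] {p : ℕ} [Fact p.Prime] (L₀ : Subgroup L) (hL₀ : IsCoatom L₀) (T : Sylow p ↥L₀) (Y : Subgroup L) (hYT : Y ≤ (T : Subgroup ↥L₀).map L₀.subtype) (hmin : Cfsg.IsMinimalOver Y) : Subgroup.normalizer (((T : Subgroup ↥L₀).map L₀.subtype : Subgroup L) : Set L) ≤ L₀ ∧ Cfsg.pCore p L ≤ L₀ ∧ (∃ P : Sylow p L, (P : Subgroup L) = (T : Subgroup ↥L₀).map L₀.subtype) ∧ Subgroup.normalizer (L₀ : Set L) = L₀ ∧ (∀ g : L, g ∉ L₀ → Y ⊔ Y.map (MulAut.conj g).toMonoidHom = ⊤) ∧ (IsMulCommutative ↥Y → ∀ g : L, g ∉ L₀ → Y ⊓ Y.map (MulAut.conj g).toMonoidHom = Y ⊓ Subgroup.center L) := by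
  have hT := Fusion.sylIn_map L₀ T
  set T' : Subgroup L := (T : Subgroup ↥L₀).map L₀.subtype
  have htop := LocalEven.MinOv.sylIn_top hmin hL₀ hT hYT
  refine ⟨LocalEven.MinOv.normalizer_sylow_le hmin hL₀ hT hYT, (Fusion.pCore_le_sylIn htop).trans hT.le,
    htop.exists_sylow, LocalEven.MinOv.normalizer_max hmin hL₀ hT hYT,
    fun g hg => LocalEven.MinOv.sup_conj_eq_top hmin hL₀ hT hYT hg, fun hc g hg => ?_⟩
  apply le_antisymm
  · refine le_inf inf_le_left fun x hx => ?_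
    have h1 : Y ⊔ Fusion.cj Y g ≤ Subgroup.centralizer ({x} : Set L) := by
      refine sup_le (fun y hy => ?_) ?_
      · rw [Subgroup.mem_centralizer_singleton_iff]
        exact congrArg Subtype.val (hc.is_comm.comm (⟨y, hy⟩ : Y) ⟨x, (Subgroup.mem_inf.1 hx).1⟩)
      · rintro _ ⟨y, hy, rfl⟩
        obtain ⟨z, hz, hze⟩ := (Subgroup.mem_inf.1 hx).2
        rw [Subgroup.mem_centralizer_singleton_iff, ← hze, ← map_mul, ← map_mul]
        exact congrArg _ (congrArg Subtype.val (hc.is_comm.comm (⟨y, hy⟩ : Y) ⟨z, hz⟩))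
    rw [LocalEven.MinOv.sup_conj_eq_top hmin hL₀ hT hYT hg] at h1
    rw [Subgroup.mem_center_iff]
    exact fun y => Subgroup.mem_centralizer_singleton_iff.1 (h1 (Subgroup.mem_top y))
  · intro x hx
    obtain ⟨hxY, hxZ⟩ := Subgroup.mem_inf.1 hx
    refine Subgroup.mem_inf.2 ⟨hxY, x, hxY, ?_⟩
    show g * x * g⁻¹ = x
    rw [Subgroup.mem_center_iff.1 hxZ g, mul_assoc, mul_inv_cancel, mul_one]

end Cfsg.Agent.S2835
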