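import Cfsg.Statements.S2836
import Cfsg.Agent.Lib.LocalEven.MinOver

set_option autoImplicit false
open Cfsg
open scoped commutatorElement

namespace Cfsg.Agent.S2836

theorem result {L : Type*} [Group L] [Finite L] {p : ℕ} [Fact p.Prime] (L₀ : Subgroup L) (hL₀ : IsCoatom L₀) (T : Sylow p ↥L₀) (Y : Subgroup L) (hYT : Y ≤ (T : Subgroup ↥L₀).map L₀.subtype) (hmin : Cfsg.IsMinimalOver Y) : (Cfsg.pCore p L ≤ L₀.normalCore ∧ (L₀.normalCore).map (QuotientGroup.mk' (Cfsg.pCore p L)) = frattini (L ⧸ Cfsg.pCore p L) ∧ Cfsg.IsPClosed p ↥(L₀.normalCore)) ∧ ∀ (N : Subgroup L) [N.Normal], N ≤ L₀ → Cfsg.IsPClosed p ↥N ∧ Group.IsNilpotent (↥N ⧸ Cfsg.pCore p ↥N) ∧ (Nat.card (↥N ⧸ Cfsg.pCore p ↥N)).Coprime p := by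
  have hT := Fusion.sylIn_map L₀ T
  set T' : Subgroup L := (T : Subgroup ↥L₀).map L₀.subtype
  have htop := LocalEven.MinOv.sylIn_top hmin hL₀ hT hYT
  obtain ⟨S, hS⟩ := htop.exists_sylow
  have hcl : ∀ (N : Subgroup L) [N.Normal], N ≤ L₀ → IsPClosed p ↥N := fun N _ hN =>
    (LocalEven.PIrr.pclosed_sub_iff S N).2 (hS.symm ▸ LocalEven.MinOv.normal_inf_le_core hmin hL₀ hT hYT hN)
  set P := pCore p L
  set π := QuotientGroup.mk' P
  have hπ := QuotientGroup.mk'_surjective P
  have hPL : P ≤ L₀ := (Fusion.pCore_le_sylIn htop).trans hT.le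
  refine ⟨⟨Subgroup.normal_le_normalCore.2 hPL, ?_, hcl _ (Subgroup.normalCore_le L₀)⟩, fun N hNn hN => ?_⟩
  · refine le_antisymm (LocalEven.MinOv.normal_map_le_frattini hmin hL₀ hT hYT (Subgroup.normalCore_le L₀)) ?_
    have hcM : (L₀.map π).comap π = L₀ := by rw [QuotientGroup.comap_map_mk', sup_eq_right.2 hPL]
    have hco : IsCoatom (L₀.map π) := by
      refine ⟨fun h => hL₀.1 (by rw [← hcM, h, Subgroup.comap_top]), fun K hK => ?_⟩
      have h3 : K.comap π = ⊤ := hL₀.2 _ (lt_of_le_of_ne (hcM.ge.trans (Subgroup.comap_mono hK.le))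
        fun h => hK.ne (Subgroup.comap_injective hπ (hcM.trans h)))
      exact Subgroup.comap_injective hπ (h3.trans (Subgroup.comap_top π).symm)
    have h1 : (frattini (L ⧸ P)).comap π ≤ L₀.normalCore :=
      Subgroup.normal_le_normalCore.2 ((Subgroup.comap_mono (frattini_le_coatom hco)).trans hcM.le)
    have h2 := Subgroup.map_mono (f := π) h1
    rwa [Subgroup.map_comap_eq_self_of_surjective hπ] at h2
  · haveI := hNn
    have hle := LocalEven.MinOv.normal_map_le_frattini hmin hL₀ hT hYT hN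
    have hK : pCore p ↥N = P.subgroupOf N := by
      refine le_antisymm (fun x hx => ?_) (Fusion.le_pCore ((Fusion.isPGroup_pCore p L).comap_of_injective N.subtype N.subtype_injective))
      haveI : ((pCore p ↥N).map N.subtype).Normal := inferInstance
      exact Fusion.le_pCore (N := (pCore p ↥N).map N.subtype) ((Fusion.isPGroup_pCore p ↥N).map _) ⟨x, hx, rfl⟩
    have hker : (π.comp N.subtype).ker = pCore p ↥N := by
      rw [hK, ← MonoidHom.comap_ker, QuotientGroup.ker_mk']; rfl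
    have e : ↥N ⧸ pCore p ↥N ≃* ↥(π.comp N.subtype).range :=
      (QuotientGroup.quotientMulEquivOfEq hker.symm).trans (QuotientGroup.quotientKerEquivRange _)
    refine ⟨hcl N hN, ?_, ?_⟩
    · haveI : Group.IsNilpotent ↥(frattini (L ⧸ P)) := frattini_nilpotent
      have hle' : (π.comp N.subtype).range ≤ frattini (L ⧸ P) := by
        rw [MonoidHom.range_comp, Subgroup.range_subtype]; exact hle
      haveI : Group.IsNilpotent ↥(π.comp N.subtype).range :=
        Group.nilpotent_of_mulEquiv (Subgroup.subgroupOfEquivOfLe hle')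
      exact Group.nilpotent_of_mulEquiv e.symm
    · rw [← Subgroup.index_eq_card, Nat.coprime_comm, (Fact.out : p.Prime).coprime_iff_not_dvd]
      obtain ⟨Q⟩ : Nonempty (Sylow p ↥N) := inferInstance
      haveI := hcl N hN Q
      exact fun hd => Q.not_dvd_index (hd.trans (Subgroup.index_dvd_of_le (Fusion.le_pCore Q.isPGroup')))

end Cfsg.Agent.S2836
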