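import Cfsg.Statements.S2837
import Cfsg.Agent.Lib.LocalEven.MinOver
import Cfsg.Agent.Lib.Solv.PGroupPhi

set_option autoImplicit false
open Cfsg

namespace Cfsg.Agent.S2837

theorem result {L : Type*} [Group L] [Finite L] {p : ℕ} [Fact p.Prime] (hchar : Subgroup.centralizer (Cfsg.pCore p L : Set L) ≤ Cfsg.pCore p L) (L₀ : Subgroup L) (hL₀ : IsCoatom L₀) (Y : Subgroup L) (hYL₀ : Y ≤ L₀) (hYel : Cfsg.IsElementaryAbelian p Y) (hmin : Cfsg.IsMinimalOver Y) (hOY : Cfsg.pCore p L ≤ Subgroup.normalizer (Y : Set L)) (A : Subgroup L) (hA : A = Subgroup.normalClosure (((Cfsg.pCore p L ⊓ Y : Subgroup L)) : Set L)) (g : L) (hg : g ∉ L₀) : (frattini ↥A).map A.subtype = ⁅A, A⁆ ∧ ⁅A, A⁆ = ⁅A ⊓ Y, A⁆ ∧ ⁅A ⊓ Y, A⁆ = ⁅A ⊓ Y, A ⊓ Y.map (MulAut.conj g).toMonoidHom⁆ ∧ ⁅A ⊓ Y, A⁆ ≤ Y ⊓ Subgroup.center L ∧ Y ⊓ Y.map (MulAut.conj g).toMonoidHom = Y ⊓ Subgroup.center L ∧ (A ⊓ Y) ⊓ (A ⊓ Y.map (MulAut.conj g).toMonoidHom) =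 Y ⊓ Subgroup.center L ∧ A ⊓ Subgroup.center L = Y ⊓ Subgroup.center L := by
  classical
  obtain ⟨Q, hQ⟩ : ∃ Q, Q = pCore p L := ⟨_, rfl⟩
  haveI hQn : Q.Normal := by rw [hQ]; infer_instance
  have hQp : IsPGroup p Q := hQ ▸ Fusion.isPGroup_pCore p L
  rw [← hQ] at hA hOY
  have hYp : IsPGroup p Y := fun y => ⟨1, Subtype.ext (by rw [pow_one]; exact hYel.2 y.1 y.2)⟩
  obtain ⟨Y', hY'⟩ : ∃ Y', Y' = Y.map (MulAut.conj g).toMonoidHom := ⟨_, rfl⟩
  rw [← hY']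
  have hsup : Y ⊔ Y' = ⊤ := by
    obtain ⟨T, hYT⟩ := (hYp.comap_of_injective L₀.subtype L₀.subtype_injective).exists_le_sylow
    have h1 : Y ≤ (T : Subgroup L₀).map L₀.subtype := fun y hy => ⟨⟨y, hYL₀ hy⟩, hYT hy, rfl⟩
    rw [hY']
    exact Cfsg.Agent.LocalEven.MinOv.sup_conj_eq_top hmin hL₀ (Fusion.sylIn_map L₀ T) h1 hg
  have hab : ∀ a ∈ Y, ∀ b ∈ Y, a * b = b * a := fun a ha b hb => by
    haveI := hYel.1
    exact congrArg Subtype.val (mul_comm' (⟨a, ha⟩ : Y) ⟨b, hb⟩)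
  have hab' : ∀ a ∈ Y', ∀ b ∈ Y', a * b = b * a := by
    rw [hY']
    rintro _ ⟨a, ha, rfl⟩ _ ⟨b, hb, rfl⟩
    rw [← map_mul, ← map_mul, hab a ha b hb]
  have hconj : ∀ z, z ∈ Y' ↔ g⁻¹ * z * g ∈ Y := fun z => by
    rw [hY', Subgroup.mem_map_equiv, MulAut.conj_symm_apply]
  have hQY : ∀ q ∈ Q, ∀ y ∈ Y, q * y * q⁻¹ ∈ Y := fun q hq y hy =>
    (Subgroup.mem_normalizer_iff.1 (hOY hq) y).1 hy
  have hQY' : ∀ q ∈ Q, ∀ y ∈ Y', q * y * q⁻¹ ∈ Y' := fun q hq y hy => by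
    rw [hconj] at hy ⊢
    have h := hQY _ (hQn.conj_mem q hq g⁻¹) _ hy
    convert h using 1
    group
  obtain ⟨B, hB⟩ : ∃ B, B = Q ⊓ Y := ⟨_, rfl⟩
  obtain ⟨B', hB'⟩ : ∃ B', B' = Q ⊓ Y' := ⟨_, rfl⟩
  have hnB : ∀ y ∈ Y, ∀ b ∈ B ⊔ B', y * b * y⁻¹ ∈ B ⊔ B' := fun y hy b hb => by
    have hle : B ⊔ B' ≤ (B ⊔ B').comap (MulAut.conj y).toMonoidHom := by
      refine sup_le (fun b hb => ?_) (fun b hb => ?_)
      · show y * b * y⁻¹ ∈ B ⊔ B'
        rw [hab y hy b (hB ▸ hb : b ∈ Q ⊓ Y).2, mul_inv_cancel_right]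
        exact Subgroup.mem_sup_left hb
      · show y * b * y⁻¹ ∈ B ⊔ B'
        have hbQ : b ∈ Q := (hB' ▸ hb : b ∈ Q ⊓ Y').1
        have h1 : y * b * y⁻¹ * b⁻¹ ∈ B := hB ▸ Subgroup.mem_inf.2
          ⟨Q.mul_mem (hQn.conj_mem b hbQ y) (Q.inv_mem hbQ), by
            simpa [mul_assoc] using Y.mul_mem hy (hQY b hbQ _ (Y.inv_mem hy))⟩
        simpa using Subgroup.mul_mem_sup h1 hb
    exact hle hb
  have hnB' : ∀ y ∈ Y', ∀ b ∈ B ⊔ B', y * b * y⁻¹ ∈ B ⊔ B' := fun y hy b hb => by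
    have hle : B ⊔ B' ≤ (B ⊔ B').comap (MulAut.conj y).toMonoidHom := by
      refine sup_le (fun b hb => ?_) (fun b hb => ?_)
      · show y * b * y⁻¹ ∈ B ⊔ B'
        have hbQ : b ∈ Q := (hB ▸ hb : b ∈ Q ⊓ Y).1
        have h1 : y * b * y⁻¹ * b⁻¹ ∈ B' := hB' ▸ Subgroup.mem_inf.2
          ⟨Q.mul_mem (hQn.conj_mem b hbQ y) (Q.inv_mem hbQ), by
            simpa [mul_assoc] using Y'.mul_mem hy (hQY' b hbQ _ (Y'.inv_mem hy))⟩
        simpa using Subgroup.mul_mem _ (Subgroup.mem_sup_right (S := B) h1) (Subgroup.mem_sup_left (T := B') hb)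
      · show y * b * y⁻¹ ∈ B ⊔ B'
        rw [hab' y hy b (hB' ▸ hb : b ∈ Q ⊓ Y').2, mul_inv_cancel_right]
        exact Subgroup.mem_sup_right hb
    exact hle hb
  haveI hN : (B ⊔ B').Normal := by
    rw [← Subgroup.normalizer_eq_top_iff, eq_top_iff, ← hsup]
    refine sup_le (fun y hy => ?_) (fun y hy => ?_) <;>
      refine Subgroup.mem_normalizer_iff.2 fun b => ⟨?_, fun hb => ?_⟩
    · exact hnB y hy b
    · simpa [mul_assoc] using hnB y⁻¹ (Y.inv_mem hy) _ hb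
    · exact hnB' y hy b
    · simpa [mul_assoc] using hnB' y⁻¹ (Y'.inv_mem hy) _ hb
  haveI hAn : A.Normal := hA ▸ Subgroup.normalClosure_normal
  have hBA : B ≤ A := by rw [hA, hB]; exact Subgroup.le_normalClosure
  have hB'A : B' ≤ A := fun z hz => by
    rw [hB'] at hz
    have h1 : g⁻¹ * z * g ∈ A := hBA (hB ▸ Subgroup.mem_inf.2 ⟨by simpa using hQn.conj_mem z hz.1 g⁻¹, (hconj z).1 hz.2⟩)
    simpa [mul_assoc] using hAn.conj_mem _ h1 g
  have hAeq : A = B ⊔ B' := le_antisymm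
    (by rw [hA]; exact Subgroup.normalClosure_le_normal fun b hb => Subgroup.mem_sup_left (hB ▸ hb)) (sup_le hBA hB'A)
  have hAQ : A ≤ Q := hAeq ▸ sup_le (hB ▸ inf_le_left) (hB' ▸ inf_le_left)
  have hAY : A ⊓ Y = B := le_antisymm (hB ▸ inf_le_inf_right Y hAQ) (le_inf hBA (hB ▸ inf_le_right))
  have hAY' : A ⊓ Y' = B' := le_antisymm (hB' ▸ inf_le_inf_right Y' hAQ) (le_inf hB'A (hB' ▸ inf_le_right))
  have hcen : ∀ z, (∀ y ∈ Y, y * z = z * y) → (∀ y ∈ Y', y * z = z * y) → z ∈ Subgroup.center L := by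
    intro z h1 h2
    have h : (⊤ : Subgroup L) ≤ Subgroup.centralizer ({z} : Set L) := hsup ▸
      sup_le (fun y hy => Subgroup.mem_centralizer_singleton_iff.2 (h1 y hy))
        (fun y hy => Subgroup.mem_centralizer_singleton_iff.2 (h2 y hy))
    exact Subgroup.mem_center_iff.2 fun x => Subgroup.mem_centralizer_singleton_iff.1 (h (Subgroup.mem_top x))
  have hYY : Y ⊓ Y' = Y ⊓ Subgroup.center L := by
    ext z
    refine ⟨fun hz => Subgroup.mem_inf.2 ⟨hz.1, hcen z (fun y hy => hab y hy z hz.1) fun y hy => hab' y hy z hz.2⟩,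
      fun hz => Subgroup.mem_inf.2 ⟨hz.1, (hconj z).2 ?_⟩⟩
    rw [Subgroup.mem_center_iff.1 hz.2 g⁻¹, inv_mul_cancel_right]
    exact hz.1
  have hcoreZ : Y ⊓ Subgroup.center L ≤ Q := by
    rw [hQ]
    haveI : (Y ⊓ Subgroup.center L).Normal := ⟨fun z hz x => by
      rw [Subgroup.mem_center_iff.1 hz.2 x, mul_inv_cancel_right]; exact hz⟩
    exact Fusion.le_pCore (hYp.to_le inf_le_left)
  have hBB : B ⊓ B' = Y ⊓ Subgroup.center L := by
    rw [hB, hB', inf_inf_inf_comm, inf_idem, hYY]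
    exact inf_eq_right.2 hcoreZ
  obtain ⟨C, hC⟩ : ∃ C, C = ⁅B, B'⁆ := ⟨_, rfl⟩
  have hCle : C ≤ Y ⊓ Subgroup.center L := by
    rw [hC, ← hBB, Subgroup.commutator_le]
    intro b hb c hc
    have hb1 : b ∈ Q ⊓ Y := hB ▸ hb
    have hc1 : c ∈ Q ⊓ Y' := hB' ▸ hc
    rw [hB, hB', commutatorElement_def]
    refine Subgroup.mem_inf.2 ⟨Subgroup.mem_inf.2 ⟨?_, ?_⟩, Subgroup.mem_inf.2 ⟨?_, ?_⟩⟩
    · exact Q.mul_mem (Q.mul_mem (Q.mul_mem hb1.1 hc1.1) (Q.inv_mem hb1.1)) (Q.inv_mem hc1.1)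
    · simpa [mul_assoc] using Y.mul_mem hb1.2 (hQY c hc1.1 _ (Y.inv_mem hb1.2))
    · exact Q.mul_mem (Q.mul_mem (Q.mul_mem hb1.1 hc1.1) (Q.inv_mem hb1.1)) (Q.inv_mem hc1.1)
    · exact Y'.mul_mem (hQY' b hb1.1 c hc1.2) (Y'.inv_mem hc1.2)
  haveI hCn : C.Normal := ⟨fun z hz x => by
    rw [Subgroup.mem_center_iff.1 (hCle hz).2 x, mul_inv_cancel_right]; exact hz⟩
  obtain ⟨π, hπ⟩ : ∃ π, π = QuotientGroup.mk' C := ⟨_, rfl⟩
  have hgen : ∀ a ∈ A, (∀ b ∈ A, π a * π b = π b * π a) ∧ π a ^ p = 1 := by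
    have hcomm : ∀ a ∈ B, ∀ b ∈ B', π a * π b = π b * π a := fun a ha b hb => by
      rw [← commutatorElement_eq_one_iff_mul_comm, ← map_commutatorElement, hπ]
      exact (QuotientGroup.eq_one_iff _).2 (hC ▸ Subgroup.commutator_mem_commutator ha hb)
    have hpair : ∀ a ∈ (B : Set L) ∪ B', ∀ b ∈ (B : Set L) ∪ B', π a * π b = π b * π a := by
      rintro a (ha | ha) b (hb | hb)
      · rw [← map_mul, ← map_mul, hab a (hB ▸ ha : a ∈ Q ⊓ Y).2 b (hB ▸ hb : b ∈ Q ⊓ Y).2]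
      · exact hcomm a ha b hb
      · exact (hcomm b hb a ha).symm
      · rw [← map_mul, ← map_mul, hab' a (hB' ▸ ha : a ∈ Q ⊓ Y').2 b (hB' ▸ hb : b ∈ Q ⊓ Y').2]
    have hle : ∀ a ∈ A, ∀ b ∈ (B : Set L) ∪ B', π a * π b = π b * π a := by
      intro a ha
      rw [hAeq, Subgroup.sup_eq_closure] at ha
      induction ha using Subgroup.closure_induction with
      | mem a ha => exact hpair a ha
      | one => intro b _; simp
      | mul a b _ _ iha ihb => intro c hc; rw [map_mul]; exact Commute.mul_left (iha c hc) (ihb c hc)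
      | inv a _ iha => intro c hc; rw [map_inv]; exact Commute.inv_left (iha c hc)
    intro a ha
    refine ⟨fun b hb => ?_, ?_⟩
    · rw [hAeq, Subgroup.sup_eq_closure] at hb
      induction hb using Subgroup.closure_induction with
      | mem b hb => exact hle a ha b hb
      | one => simp
      | mul b c _ _ ihb ihc => rw [map_mul]; exact Commute.mul_right ihb ihc
      | inv b _ ihb => rw [map_inv]; exact Commute.inv_right ihb
    · rw [hAeq, Subgroup.sup_eq_closure] at ha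
      induction ha using Subgroup.closure_induction with
      | mem a ha =>
        rw [← map_pow]
        rcases ha with ha | ha
        · rw [hYel.2 a (hB ▸ ha : a ∈ Q ⊓ Y).2, map_one]
        · have h1 := (hconj a).1 (hB' ▸ ha : a ∈ Q ⊓ Y').2
          have h2 := hYel.2 _ h1
          rw [show g⁻¹ * a * g = g⁻¹ * a * g⁻¹⁻¹ by group, conj_pow, conj_eq_one_iff] at h2
          rw [h2, map_one]
      | one => simp
      | mul a b ha hb iha ihb =>
        rw [← Subgroup.sup_eq_closure, ← hAeq] at ha hb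
        have hc : Commute (π a) (π b) := by
          rw [hAeq, Subgroup.sup_eq_closure] at hb
          clear iha ihb
          induction hb using Subgroup.closure_induction with
          | mem b hb => exact hle a ha b hb
          | one => simp
          | mul b c _ _ ihb ihc => rw [map_mul]; exact Commute.mul_right ihb ihc
          | inv b _ ihb => rw [map_inv]; exact Commute.inv_right ihb
        rw [map_mul, hc.mul_pow, iha, ihb, one_mul]
      | inv a ha iha =>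
        rw [← Subgroup.sup_eq_closure, ← hAeq] at ha
        rw [map_inv, inv_pow, iha, inv_one]
  have hAA : ⁅A, A⁆ = C := by
    refine le_antisymm (Subgroup.commutator_le.2 fun a ha b hb => ?_) (hC ▸ Subgroup.commutator_mono hBA hB'A)
    rw [← QuotientGroup.eq_one_iff (N := C), ← QuotientGroup.mk'_apply, map_commutatorElement, ← hπ,
      commutatorElement_eq_one_iff_mul_comm]
    exact (hgen a ha).1 b hb
  have hBAc : ⁅B, A⁆ = C := le_antisymm (hAA ▸ Subgroup.commutator_mono hBA le_rfl)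
    (hC ▸ Subgroup.commutator_mono le_rfl hB'A)
  have hAp : IsPGroup p A := hQp.to_le hAQ
  rw [hAY, hAY', hAA, hBAc, ← hC, hYY, hBB]
  refine ⟨le_antisymm (Subgroup.map_le_iff_le_comap.2 ?_) ?_, rfl, rfl, hCle, rfl, rfl, ?_⟩
  · haveI : (C.comap A.subtype).Normal := inferInstance
    refine Cfsg.Agent.Solv.frattini_le (p := p) _ (fun a b => ?_) (fun a => ?_)
    · exact hAA ▸ Subgroup.commutator_mem_commutator a.2 b.2
    · refine Subgroup.mem_comap.2 ((QuotientGroup.eq_one_iff _).1 ?_)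
      show QuotientGroup.mk' C ((a : L) ^ p) = 1
      rw [← hπ, map_pow]
      exact (hgen a a.2).2
  · rw [← hAA, Subgroup.commutator_le]
    intro a ha b hb
    exact ⟨_, Cfsg.Agent.Solv.commutatorElement_mem_frattini hAp ⟨a, ha⟩ ⟨b, hb⟩, rfl⟩
  · refine le_antisymm (fun a ha => Subgroup.mem_inf.2 ⟨?_, ha.2⟩) (le_inf ?_ inf_le_right)
    · have hz := ha.2
      have haA : a ∈ B ⊔ B' := hAeq ▸ ha.1
      have hBn : B' ≤ Subgroup.normalizer (B : Set L) := fun c hc => by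
        have hcQ : c ∈ Q := (hB' ▸ hc : c ∈ Q ⊓ Y').1
        have h : ∀ q ∈ Q, ∀ b ∈ B, q * b * q⁻¹ ∈ B := fun q hq b hb => by
          rw [hB] at hb ⊢
          exact Subgroup.mem_inf.2 ⟨hQn.conj_mem b hb.1 q, hQY q hq b hb.2⟩
        refine Subgroup.mem_normalizer_iff.2 fun b => ⟨h c hcQ b, fun hb => ?_⟩
        simpa [mul_assoc] using h c⁻¹ (Q.inv_mem hcQ) _ hb
      rw [← SetLike.mem_coe, Subgroup.coe_mul_of_right_le_normalizer_left _ _ hBn] at haA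
      obtain ⟨b, hb, c, hc, rfl⟩ := haA
      have hbY : b ∈ Y := (hB ▸ hb : b ∈ Q ⊓ Y).2
      have hcY : c ∈ Y' := (hB' ▸ hc : c ∈ Q ⊓ Y').2
      have hcZ : c ∈ Subgroup.center L := hcen c (fun y hy => by
        have h1 := Subgroup.mem_center_iff.1 hz y
        dsimp only at h1
        rw [← mul_assoc, hab y hy b hbY, mul_assoc, mul_assoc] at h1
        exact mul_left_cancel h1) fun y hy => hab' y hy c hcY
      have : c ∈ Y ⊓ Y' := Subgroup.mem_inf.2 ⟨by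
        have := (hconj c).1 hcY
        rwa [Subgroup.mem_center_iff.1 hcZ g⁻¹, inv_mul_cancel_right] at this, hcY⟩
      exact Y.mul_mem hbY this.1
    · exact (hBB.ge.trans inf_le_left).trans hBA

end Cfsg.Agent.S2837
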