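import Cfsg.Statements.S2838
import Cfsg.Agent.Lib.LocalEven.WeakSubgroup

set_option autoImplicit false
open Cfsg

namespace Cfsg.Agent.S2838

theorem result {H : Type*} [Group H] [Finite H] {p : ℕ} [Fact p.Prime] (Q : Subgroup H) (hQp : IsPGroup p ↥Q) (hQ1 : Q ≠ ⊥) : (Cfsg.IsWeaklyClosedSubgroup p Q ↔ ∀ g : H, ⁅Q, ((Q : Subgroup H).map (MulAut.conj (g : H)).toMonoidHom)⁆ ≤ Q ⊓ ((Q : Subgroup H).map (MulAut.conj (g : H)).toMonoidHom) → ((Q : Subgroup H).map (MulAut.conj (g : H)).toMonoidHom) = Q) ∧ (Cfsg.IsWeaklyClosedSubgroup p Q ↔ ∀ R : Subgroup H, IsPGroup p ↥R → Q ≤ R → Subgroup.normalizer ((R : Subgroup H) : Set H) ≤ Subgroup.normalizer ((Q : Subgroup H) : Set H)) := by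
  refine ⟨⟨fun hw g hg => ?_, fun h => ?_⟩, ⟨fun hw R hR hQR x hx => ?_, fun h => ?_⟩⟩
  · set Q' := Q.map (MulAut.conj g).toMonoidHom with hQ'
    have hQ'p : IsPGroup p Q' := hQp.map _
    have hn : Q' ≤ Subgroup.normalizer (Q : Set H) :=
      Subgroup.le_normalizer_iff_commutator_le_left.2 (hg.trans inf_le_left)
    exact LocalEven.Weak.eq_of_le hw (hQp.to_sup_of_normal_left' hQ'p hn) le_sup_left le_sup_right
  · refine LocalEven.Weak.of_mutual hQp fun g h1 h2 => h g (le_inf ?_ ?_)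
    · exact Subgroup.le_normalizer_iff_commutator_le_left.1 h2
    · exact Subgroup.le_normalizer_iff_commutator_le_right.1 h1
  · refine Fusion.mem_normalizer_iff_cj.2 (LocalEven.Weak.eq_of_le hw hR hQR ?_)
    exact (Fusion.cj_mono hQR x).trans (Fusion.cj_eq_self hx).le
  · exact LocalEven.Weak.of_normalizer hQp h

end Cfsg.Agent.S2838
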