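import Cfsg.Statements.S2839
import Cfsg.Agent.Lib.LocalEven.WeakSubgroup
import Cfsg.Agent.Lib.Fusion.Reduction

set_option autoImplicit false
open Cfsg

namespace Cfsg.Agent.S2839

theorem result {H : Type*} [Group H] [Finite H] {p : ℕ} [Fact p.Prime] (Q : Subgroup H) (hQp : IsPGroup p ↥Q) (hQ1 : Q ≠ ⊥) (hwc : Cfsg.IsWeaklyClosedSubgroup p Q) (K : Subgroup H) (hQK : Q ≤ K) (N' : Subgroup H) [N'.Normal] : Cfsg.IsWeaklyClosedSubgroup p (Q.subgroupOf K) ∧ (∀ g : H, ((Q : Subgroup H).map (MulAut.conj (g : H)).toMonoidHom) ≤ K → ∃ k ∈ K, ((Q : Subgroup H).map (MulAut.conj (g : H)).toMonoidHom) = ((Q : Subgroup H).map (MulAut.conj (k : H)).toMonoidHom)) ∧ Cfsg.IsParabolic p ((Subgroup.normalizer ((Q : Subgroup H) : Set H)).subgroupOf K) ∧ (N' ⊓ Subgroup.normalizer ((Q : Subgroup H) : Set H)) ⊔ (Cfsg.pResidual p ↥N').map N'.subtype = N' ∧ Cfsg.IsWeaklyClosedSubgroup p (Q.map (QuotientGroup.mk' N')) := by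
  refine ⟨?_, fun g hg => LocalEven.Weak.conj_in hwc hQK hg, ?_, ?_, ?_⟩
  · refine LocalEven.Weak.of_mutual (hQp.comap_of_injective K.subtype K.subtype_injective) fun k hk1 hk2 => ?_
    apply Subgroup.map_injective K.subtype_injective
    have hmapQ : (Q.subgroupOf K).map K.subtype = Q := by
      rw [Subgroup.subgroupOf_map_subtype, inf_eq_left.2 hQK]
    have hmapk : (Fusion.cj (Q.subgroupOf K) k).map K.subtype = Fusion.cj Q (k : H) := by
      rw [Fusion.cj, Subgroup.map_map,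
        show K.subtype.comp (MulAut.conj k).toMonoidHom = (MulAut.conj (k : H)).toMonoidHom.comp K.subtype from
          MonoidHom.ext fun x => by simp, ← Subgroup.map_map, hmapQ]
    rw [hmapk, hmapQ]
    have hn : Fusion.cj Q (k : H) ≤ Subgroup.normalizer (Q : Set H) := by
      rw [← hmapk]
      refine (Subgroup.map_mono hk2).trans ((Subgroup.le_normalizer_map _).trans ?_)
      rw [hmapQ]
    exact LocalEven.Weak.eq_of_le hwc (hQp.to_sup_of_normal_left' (hQp.map _) hn) le_sup_left le_sup_right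
  · obtain ⟨S, hS, hQS⟩ := Fusion.exists_sylIn_ge hQp hQK
    obtain ⟨P, hP⟩ := hS.exists_sylow_subgroupOf
    exact ⟨P, hP.le.trans (Subgroup.comap_mono (LocalEven.Weak.le_normalizer hwc hS.isPGroup hQS))⟩
  · obtain ⟨T, hT⟩ := hQp.exists_le_sylow
    have hTN : (T : Subgroup H) ≤ Subgroup.normalizer (Q : Set H) := LocalEven.Weak.le_normalizer hwc T.isPGroup' hT
    have hs : Fusion.SylIn p ((T : Subgroup H) ⊓ N') N' :=
      (Fusion.sylIn_top T).inf_normal le_top (by rw [Subgroup.normalizer_eq_top])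
    obtain ⟨P, hP⟩ := hs.exists_sylow_subgroupOf
    refine le_antisymm (sup_le inf_le_left (Subgroup.map_subtype_le _)) ?_
    intro x hx
    have h1 : (⟨x, hx⟩ : N') ∈ pResidual p ↥N' ⊔ (P : Subgroup N') := by
      rw [Fusion.pResidual_sup_sylow]; exact Subgroup.mem_top _
    obtain ⟨a, ha, b, hb, he⟩ := Subgroup.mem_sup_of_normal_left.1 h1
    rw [hP, Subgroup.mem_subgroupOf] at hb
    have he' : (a : H) * b = x := congrArg Subtype.val he
    rw [← he']
    exact mul_mem (Subgroup.mem_sup_right ⟨a, ha, rfl⟩)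
      (Subgroup.mem_sup_left (Subgroup.mem_inf.2 ⟨b.2, hTN (Subgroup.mem_inf.1 hb).1⟩))
  · obtain ⟨T, hT⟩ := hQp.exists_le_sylow
    set π := QuotientGroup.mk' N'
    obtain ⟨T', hT'⟩ := (Fusion.sylIn_map_mk (N := N') (Fusion.sylIn_top T)).exists_sylow
    refine ⟨T', hT' ▸ Subgroup.map_mono hT, fun g' hg' => ?_⟩
    obtain ⟨g, rfl⟩ := QuotientGroup.mk'_surjective N' g'
    have hcj : ∀ x : H, (Q.map π).map (MulAut.conj (π x)).toMonoidHom = (Fusion.cj Q x).map π := by
      intro x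
      rw [Subgroup.map_map, Subgroup.map_map]
      congr 1
    rw [hT', hcj] at hg'
    rw [hcj]
    have h1 : Fusion.cj Q g ≤ (T : Subgroup H) ⊔ N' := by
      intro x hx
      have : π x ∈ (T : Subgroup H).map π := hg' ⟨x, hx, rfl⟩
      have h2 : x ∈ ((T : Subgroup H).map π).comap π := this
      rwa [QuotientGroup.comap_map_mk', sup_comm] at h2
    obtain ⟨k, hk, he⟩ := LocalEven.Weak.conj_in hwc (hT.trans le_sup_left) h1
    obtain ⟨t, ht, n, hn, rfl⟩ := Subgroup.mem_sup_of_normal_right.1 hk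
    rw [he, ← hcj, map_mul, show π n = 1 from (QuotientGroup.eq_one_iff n).2 hn, mul_one, hcj,
      Fusion.cj_eq_self (LocalEven.Weak.le_normalizer hwc T.isPGroup' hT ht)]

end Cfsg.Agent.S2839
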