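import Cfsg.Statements.S2840
import Cfsg.Agent.Lib.LocalEven.WeakSubgroup

set_option autoImplicit false
open Cfsg

namespace Cfsg.Agent.S2840

theorem result {H : Type*} [Group H] [Finite H] {p : ℕ} [Fact p.Prime] (Q : Subgroup H) (hQp : IsPGroup p ↥Q) (hQ1 : Q ≠ ⊥) (hwc : Cfsg.IsWeaklyClosedSubgroup p Q) (K : Subgroup H) (hQK : Q ≤ K) (Kc : Subgroup H) (hKc : Kc = Cfsg.weakClosure Q K) : Kc = ⨆ k : ↥K, ((Q : Subgroup H).map (MulAut.conj ((k : H) : H)).toMonoidHom) ∧ Kc = (Cfsg.subnormalClosure (Q.subgroupOf K)).map K.subtype := by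
  have hconj : ∀ k ∈ K, Q.map (MulAut.conj k).toMonoidHom ≤ K := fun k hk =>
    (Fusion.cj_mono hQK k).trans (Fusion.cj_eq_self_of_mem hk).le
  have h1 : Kc = ⨆ k : ↥K, Q.map (MulAut.conj (k : H)).toMonoidHom := by
    refine le_antisymm ?_ ?_
    · rw [hKc]
      refine iSup_le fun g => ?_
      obtain ⟨k, hk, he⟩ := LocalEven.Weak.conj_in hwc hQK g.2
      change Fusion.cj Q g ≤ _
      rw [he]
      exact le_iSup (fun k : ↥K => Q.map (MulAut.conj (k : H)).toMonoidHom) ⟨k, hk⟩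
    · rw [hKc]
      exact iSup_le fun k => le_iSup (fun g : {g : H // Q.map (MulAut.conj g).toMonoidHom ≤ K} =>
        Q.map (MulAut.conj (g : H)).toMonoidHom) ⟨k, hconj k k.2⟩
  refine ⟨h1, le_antisymm ?_ ?_⟩
  · rw [h1]
    refine iSup_le fun k => ?_
    intro x hx
    have hxK : x ∈ K := hconj k k.2 hx
    refine ⟨⟨x, hxK⟩, ?_, rfl⟩
    simp only [subnormalClosure, Subgroup.coe_sInf, Set.mem_iInter₂]
    rintro X ⟨hQX, hX⟩
    obtain ⟨y, hy, hye⟩ := LocalEven.Weak.conj_le_of_subnormal hwc hQK hX hQX k k.2 hx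
    rwa [show y = ⟨x, hxK⟩ from Subtype.ext hye] at hy
  · have hKcK : Kc ≤ K := h1 ▸ iSup_le fun k => hconj k k.2
    have hn : (Kc.subgroupOf K).Normal := by
      refine Subgroup.normal_subgroupOf_of_le_normalizer fun k hk => Fusion.mem_normalizer_of_cj_le ?_
      rw [h1, Fusion.cj, Subgroup.map_iSup]
      refine iSup_le fun j => ?_
      refine le_trans (le_of_eq (Fusion.cj_cj Q j k)) ?_
      exact le_iSup (fun i : ↥K => Q.map (MulAut.conj (i : H)).toMonoidHom) ⟨k * j, mul_mem hk j.2⟩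
    have hQKc : Q ≤ Kc := by
      rw [h1]
      refine le_trans (Fusion.cj_one Q).ge ?_
      exact le_iSup (fun i : ↥K => Q.map (MulAut.conj (i : H)).toMonoidHom) (1 : ↥K)
    refine le_trans (Subgroup.map_mono (sInf_le ⟨fun x hx => hQKc hx, hn.isSubnormal⟩)) ?_
    rw [Subgroup.subgroupOf_map_subtype]
    exact inf_le_left

end Cfsg.Agent.S2840
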