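import Cfsg.Statements.S2842
import Cfsg.Agent.Lib.LocalEven.WeaklyClosedCentralizer

set_option autoImplicit false
open Cfsg

namespace Cfsg.Agent.S2842

theorem result {H : Type*} [Group H] [Finite H] {p : ℕ} [Fact p.Prime] (Q : Subgroup H) (hQp : IsPGroup p ↥Q) (hQ1 : Q ≠ ⊥) (hwc : Cfsg.IsWeaklyClosedSubgroup p Q) (hCQ : Subgroup.centralizer ((Q : Subgroup H) : Set H) ≤ Q) (L : Subgroup H) (hQL : Q ≤ L) (hyp : Subgroup.centralizer (Cfsg.pCore p H : Set H) ≤ Cfsg.pCore p H ∨ ∃ y : H, y ≠ 1 ∧ y ∈ (Cfsg.pCoreOf p L) ⊓ Subgroup.centralizer ((Q : Subgroup H) : Set H) ∧ Subgroup.centralizer (Cfsg.pCore p ↥(Subgroup.centralizer ({y} : Set H)) : Set ↥(Subgroup.centralizer ({y} : Set H))) ≤ Cfsg.pCore p ↥(Subgroup.centralizer ({y} : Set H))) : ⁅Q, Subgroup.centralizer (((Cfsg.pCoreOf p L) : Subgroup H) : Set H)⁆ ≤ Q ⊓ (Cfsg.pCoreOf p L) ∧ IsPGroup p ↥(Subgroup.centralizer (((Cfsg.pCoreOf p L) : Subgroup H) : Set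 H)) ∧ Subgroup.centralizer (Cfsg.pCore p ↥L : Set ↥L) ≤ Cfsg.pCore p ↥L := by
  refine Cfsg.Agent.LocalEven.WeaklyClosedCentralizer.main hQp hwc hCQ hQL ?_
  rcases hyp with h | ⟨y, hy1, ⟨hyR, -⟩, hy⟩
  · refine Cfsg.Agent.LocalEven.WeaklyClosedCentralizer.charPIn_mono (R' := ⊥)
      (Cfsg.Agent.Fusion.pCoreOf_isPGroup L) bot_le ?_
    intro c hc hreg hfix
    have hc1 : c ∈ pCore p H := h (Subgroup.mem_centralizer_iff.2 fun w hw => hfix w
      (Cfsg.Agent.Fusion.le_pCoreOf (fun x hx => Subgroup.mem_centralizer_iff.2 fun b hb => by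
          rw [Subgroup.mem_bot.1 hb, one_mul, mul_one])
        (fun g _ => Cfsg.Agent.Fusion.mem_normalizer_of_cj_le (by
          rintro _ ⟨z, hz, rfl⟩
          exact Subgroup.Normal.conj_mem inferInstance z hz g))
        (Cfsg.Agent.Fusion.isPGroup_pCore p H) hw))
    obtain ⟨k, hk⟩ := IsPGroup.iff_orderOf.1 (Cfsg.Agent.Fusion.isPGroup_pCore p H) ⟨c, hc1⟩
    rw [Subgroup.orderOf_mk] at hk
    rcases Nat.eq_zero_or_pos k with rfl | hk0
    · exact orderOf_eq_one_iff.1 (by rw [hk, pow_zero])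
    · exact absurd (hk ▸ dvd_pow_self p hk0.ne') hreg
  · refine Cfsg.Agent.LocalEven.WeaklyClosedCentralizer.charPIn_mono (R' := Subgroup.zpowers y)
      (Cfsg.Agent.Fusion.pCoreOf_isPGroup L) (Subgroup.zpowers_le.2 hyR) ?_
    have he : Subgroup.centralizer ((Subgroup.zpowers y : Subgroup H) : Set H) = Subgroup.centralizer ({y} : Set H) := by
      rw [Subgroup.zpowers_eq_closure, Subgroup.centralizer_closure]
    rw [he]
    exact Cfsg.Agent.LocalEven.WeaklyClosedCentralizer.charPIn_of_subtype _ hy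

end Cfsg.Agent.S2842
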