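import Cfsg.Statements.S2843
import Cfsg.Agent.Lib.LocalEven.LargeBasic

set_option autoImplicit false
open Cfsg
open scoped commutatorElement Pointwise

namespace Cfsg.Agent.S2843

theorem result {H : Type*} [Group H] [Finite H] {p : ℕ} [Fact p.Prime] (Q : Subgroup H) (hQp : IsPGroup p ↥Q) (hQ1 : Q ≠ ⊥) (hL : Cfsg.IsLarge Q) (L : Subgroup H) (hQL : Q ≤ L) (Y : Subgroup H) (hYp : IsPGroup p ↥Y) (hY1 : Y ≠ ⊥) (hLY : L ≤ Subgroup.normalizer ((Y : Subgroup H) : Set H)) : Cfsg.weakClosure Q L = Cfsg.weakClosure Q (L ⊔ Subgroup.centralizer ((Y : Subgroup H) : Set H)) ∧ ⁅Cfsg.weakClosure Q L, Subgroup.centralizer ((Y : Subgroup H) : Set H)⁆ ≤ (Cfsg.pCoreOf p (Cfsg.weakClosure Q L)) ∧ Subgroup.centralizer ((Y : Subgroup H) : Set H) ≤ Subgroup.normalizer (((Cfsg.weakClosure Q L) : Subgroup H) : Set H) := by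
  classical
  set C := Subgroup.centralizer ((Y : Subgroup H) : Set H)
  -- the centralizer of `Y` normalizes the conjugates of `Q` in `L`
  have hcn : ∀ R : Subgroup H, IsPGroup p ↥R → IsLarge R → R ≤ L → C ≤ Subgroup.normalizer (R : Set H) := by
    intro R hRp hR hRL
    have hn : R ≤ Subgroup.normalizer (Y : Set H) := hRL.trans hLY
    haveI : (Y.subgroupOf (Y ⊔ R)).Normal :=
      (Subgroup.normal_subgroupOf_iff_le_normalizer le_sup_left).2 (sup_le Subgroup.le_normalizer hn)
    have h1 := LocalEven.Large.normal_inf_center (hYp.to_sup_of_normal_left' hRp hn) (Y.subgroupOf (Y ⊔ R))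
      (by rw [ne_eq, Subgroup.subgroupOf_eq_bot, disjoint_iff, inf_eq_left.2 le_sup_left]; exact hY1)
    have hU : Y ⊓ Subgroup.centralizer (R : Set H) ≠ ⊥ := by
      intro h
      apply h1
      rw [eq_bot_iff]
      intro x hx
      obtain ⟨hx1, hx2⟩ := Subgroup.mem_inf.1 hx
      have h2 : (x : H) ∈ Y ⊓ Subgroup.centralizer (R : Set H) := Subgroup.mem_inf.2 ⟨hx1,
        Subgroup.mem_centralizer_iff.2 fun q hq =>
          congrArg Subtype.val (Subgroup.mem_center_iff.1 hx2 ⟨q, Subgroup.mem_sup_right hq⟩)⟩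
      rw [h, Subgroup.mem_bot] at h2
      exact Subgroup.mem_bot.2 (Subtype.ext h2)
    exact ((Subgroup.centralizer_le inf_le_left).trans (Subgroup.centralizer_le_normalizer _)).trans
      (hR.2 _ inf_le_right hU)
  have hconj : ∀ g : H, Fusion.cj Q g ≤ L → C ≤ Subgroup.normalizer (Fusion.cj Q g : Set H) :=
    fun g hg => hcn _ (Fusion.isPGroup_cj hQp g) (LocalEven.Large.conj hL g) hg
  set W := weakClosure Q L
  have hWdef : W = ⨆ g : {g : H // Q.map (MulAut.conj g).toMonoidHom ≤ L}, Fusion.cj Q (g : H) := rfl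
  have hle : ∀ g : H, Fusion.cj Q g ≤ L → Fusion.cj Q g ≤ W := fun g hg =>
    le_iSup (fun g : {g : H // Q.map (MulAut.conj g).toMonoidHom ≤ L} => Fusion.cj Q (g : H)) ⟨g, hg⟩
  have hCW : C ≤ Subgroup.normalizer (W : Set H) := fun c hc => Fusion.mem_normalizer_of_cj_le (by
    rw [hWdef, Fusion.cj, Subgroup.map_iSup]
    refine iSup_le fun g => le_trans (le_of_eq ?_) (hle g g.2)
    exact Fusion.cj_eq_self (hconj g g.2 hc))
  refine ⟨le_antisymm ?_ ?_, ?_, hCW⟩
  · exact iSup_le fun g => le_iSup_of_le ⟨g, g.2.trans le_sup_left⟩ le_rfl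
  · refine iSup_le fun g => ?_
    obtain ⟨k, hk, he⟩ := LocalEven.Weak.conj_in (LocalEven.Large.weak hQp hQ1 hL)
      (hQL.trans le_sup_left) g.2
    have hLC : L ≤ Subgroup.normalizer ((C : Subgroup H) : Set H) := fun l hl =>
      Fusion.mem_normalizer_iff_cj.2 (by rw [Fusion.cj_centralizer, Fusion.cj_eq_self (hLY hl)])
    rw [← SetLike.mem_coe, Subgroup.coe_mul_of_left_le_normalizer_right _ _ hLC] at hk
    obtain ⟨l, hl, c, hc, rfl⟩ := hk
    change Fusion.cj Q (g : H) ≤ W
    rw [he, ← Fusion.cj_cj, Fusion.cj_eq_self (hcn Q hQp hL hQL hc)]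
    exact hle l ((Fusion.cj_mono hQL l).trans (Fusion.cj_eq_self_of_mem hl).le)
  · -- the commutator lies in the core
    set K := W ⊓ C
    have hPn : C ≤ Subgroup.normalizer (pCoreOf p W : Set H) := fun c hc => by
      refine Fusion.mem_normalizer_of_cj_le (Fusion.le_pCoreOf
        ((Fusion.cj_mono (Fusion.pCoreOf_le _) c).trans (Fusion.cj_eq_self (hCW hc)).le) ?_
        (Fusion.isPGroup_cj (Fusion.pCoreOf_isPGroup _) c))
      have := Fusion.cj_mono (Fusion.le_normalizer_pCoreOf (p := p) W) c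
      rwa [Fusion.cj_eq_self (hCW hc), Fusion.cj_normalizer] at this
    have hWL : W ≤ L := iSup_le fun g => g.2
    have hgen : ∀ g : H, Fusion.cj Q g ≤ L → ⁅Fusion.cj Q g, C⁆ ≤ pCoreOf p W := by
      intro g hg
      set R := Fusion.cj Q g
      have hRC : R ≤ Subgroup.normalizer ((C : Subgroup H) : Set H) := fun r hr =>
        Fusion.mem_normalizer_iff_cj.2 (by rw [Fusion.cj_centralizer, Fusion.cj_eq_self (hLY (hg hr))])
      have h1 : ⁅R, C⁆ ≤ R ⊓ C := le_inf
        (Subgroup.le_normalizer_iff_commutator_le_left.1 (hconj g hg))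
        (Subgroup.le_normalizer_iff_commutator_le_right.1 hRC)
      refine h1.trans ?_
      have hKW : W ≤ Subgroup.normalizer ((K : Subgroup H) : Set H) := fun w hw =>
        Fusion.mem_normalizer_iff_cj.2 (by
          rw [Fusion.cj_inf, Fusion.cj_eq_self_of_mem hw, Fusion.cj_centralizer,
            Fusion.cj_eq_self (hLY (hWL hw))])
      have h2 : R ⊓ C ≤ pCoreOf p K := by
        refine Fusion.le_pCoreOf (le_inf (inf_le_left.trans (hle g hg)) inf_le_right) ?_
          (Fusion.isPGroup_cj hQp g).to_inf_left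
        intro k hk
        exact Fusion.mem_normalizer_iff_cj.2 (by
          rw [Fusion.cj_inf, Fusion.cj_eq_self (hconj g hg (Subgroup.mem_inf.1 hk).2),
            Fusion.cj_eq_self_of_mem (Subgroup.mem_inf.1 hk).2])
      refine h2.trans (Fusion.le_pCoreOf ((Fusion.pCoreOf_le _).trans inf_le_left) (fun w hw => ?_)
        (Fusion.pCoreOf_isPGroup _))
      refine Fusion.mem_normalizer_of_cj_le (Fusion.le_pCoreOf
        ((Fusion.cj_mono (Fusion.pCoreOf_le _) w).trans (Fusion.cj_eq_self (hKW hw)).le) ?_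
        (Fusion.isPGroup_cj (Fusion.pCoreOf_isPGroup _) w))
      have := Fusion.cj_mono (Fusion.le_normalizer_pCoreOf (p := p) K) w
      rwa [Fusion.cj_eq_self (hKW hw), Fusion.cj_normalizer] at this
    refine Subgroup.commutator_le.2 fun w hw c hc => ?_
    have key : ∀ v ∈ W, ⁅v, c⁆ ∈ pCoreOf p W ∧ v ∈ W := by
      intro v hv
      have hv0 := hv
      rw [hWdef, Subgroup.iSup_eq_closure] at hv
      induction hv using Subgroup.closure_induction with
      | mem x hx =>
        obtain ⟨g, hg⟩ := Set.mem_iUnion.1 hx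
        exact ⟨hgen g g.2 (Subgroup.commutator_mem_commutator hg hc), hv0⟩
      | one => exact ⟨by rw [commutatorElement_one_left]; exact one_mem _, one_mem _⟩
      | mul a b ha hb iha ihb =>
        have ha' : a ∈ W := by rw [hWdef, Subgroup.iSup_eq_closure]; exact ha
        have hb' : b ∈ W := by rw [hWdef, Subgroup.iSup_eq_closure]; exact hb
        obtain ⟨h1, -⟩ := iha ha'
        obtain ⟨h2, -⟩ := ihb hb'
        refine ⟨?_, hv0⟩
        have e : ⁅a * b, c⁆ = a * ⁅b, c⁆ * a⁻¹ * ⁅a, c⁆ := by simp only [commutatorElement_def]; group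
        rw [e]
        exact mul_mem ((Subgroup.mem_normalizer_iff.1 (Fusion.le_normalizer_pCoreOf W ha') _).1 h2) h1
      | inv a ha iha =>
        have ha' : a ∈ W := by rw [hWdef, Subgroup.iSup_eq_closure]; exact ha
        obtain ⟨h1, -⟩ := iha ha'
        refine ⟨?_, hv0⟩
        have e : ⁅a⁻¹, c⁆ = a⁻¹ * ⁅a, c⁆⁻¹ * a := by simp only [commutatorElement_def]; group
        rw [e]
        exact (Subgroup.mem_normalizer_iff''.1 (Fusion.le_normalizer_pCoreOf W ha') _).1 (inv_mem h1)
    exact (key w hw).1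

end Cfsg.Agent.S2843
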