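import Cfsg.Statements.S2844
import Cfsg.Agent.Lib.LocalEven.LargeBasic

set_option autoImplicit false
open Cfsg

namespace Cfsg.Agent.S2844

theorem result {H : Type*} [Group H] [Finite H] {p : ℕ} [Fact p.Prime] (Q : Subgroup H) (hQp : IsPGroup p ↥Q) (hQ1 : Q ≠ ⊥) (hL : Cfsg.IsLarge Q) (Qb : Subgroup H) (hQb : Qb = Cfsg.largeBullet p Q) : (∀ g : H, g ∉ Subgroup.normalizer ((Q : Subgroup H) : Set H) → Subgroup.centralizer ((Q : Subgroup H) : Set H) ⊓ Subgroup.centralizer ((((Q : Subgroup H).map (MulAut.conj (g : H)).toMonoidHom) : Subgroup H) : Set H) = ⊥ ∧ Subgroup.centralizer ((Qb : Subgroup H) : Set H) ⊓ Subgroup.centralizer ((((Qb : Subgroup H).map (MulAut.conj (g : H)).toMonoidHom) : Subgroup H) : Set H) = ⊥ ∧ (Q ⊓ Subgroup.centralizer ((Q : Subgroup H) : Set H)) ⊓ (((Q : Subgroup H).map (MulAut.conj (g : H)).toMonoidHom) ⊓ Subgroup.centralizer ((((Q : Subgroup H).map (MulAut.conj (g : H)).toMonoidHom)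 : Subgroup H) : Set H)) = ⊥ ∧ (Qb ⊓ Subgroup.centralizer ((Qb : Subgroup H) : Set H)) ⊓ (((Qb : Subgroup H).map (MulAut.conj (g : H)).toMonoidHom) ⊓ Subgroup.centralizer ((((Qb : Subgroup H).map (MulAut.conj (g : H)).toMonoidHom) : Subgroup H) : Set H)) = ⊥) ∧ Subgroup.normalizer ((Q : Subgroup H) : Set H) = Subgroup.normalizer ((Qb : Subgroup H) : Set H) ∧ Cfsg.IsLarge Qb := by
  subst hQb
  obtain ⟨hQb, hN, hLb⟩ := LocalEven.Large.bullet_facts hQp hQ1 hL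
  have hQb1 : largeBullet p Q ≠ ⊥ := fun h => hQ1 (le_bot_iff.1 (h ▸ hQb))
  refine ⟨fun g hg => ?_, hN, hLb⟩
  have h1 := LocalEven.Large.centralizer_inf_eq_bot hQp hQ1 hL (g := g)
    (fun h => hg (Fusion.mem_normalizer_iff_cj.2 h))
  have h2 := LocalEven.Large.centralizer_inf_eq_bot (p := p) (Fusion.pCoreOf_isPGroup _) hQb1 hLb (g := g)
    (fun h => hg (hN ▸ Fusion.mem_normalizer_iff_cj.2 h))
  exact ⟨h1, h2, le_bot_iff.1 ((inf_le_inf inf_le_right inf_le_right).trans h1.le),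
    le_bot_iff.1 ((inf_le_inf inf_le_right inf_le_right).trans h2.le)⟩

end Cfsg.Agent.S2844
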