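import Cfsg.Statements.S2846
import Cfsg.Agent.Lib.LocalEven.BasicProperty
import Cfsg.Agent.S2843
import Cfsg.Agent.S2845

set_option autoImplicit false
open Cfsg

namespace Cfsg.Agent.S2846

theorem result {H : Type*} [Group H] [Finite H] {p : ℕ} [Fact p.Prime] (Q : Subgroup H) (hQp : IsPGroup p ↥Q) (hQ1 : Q ≠ ⊥) (hLg : Cfsg.IsLarge Q) (S : Sylow p H) (hQS : Q ≤ (S : Subgroup H)) (L : Subgroup H) (hSL : (S : Subgroup H) ≤ L) (hL : L ∈ Cfsg.charPSubgroups p H) : ∃ M Ls : Subgroup H, (S : Subgroup H) ≤ M ∧ Cfsg.IsInFrakM p M ∧ (S : Subgroup H) ≤ Ls ∧ Ls ≤ M ∧ Ls ∈ Cfsg.charPSubgroups p H ∧ L ⊔ Subgroup.centralizer (((Cfsg.largestPReducedOf p L) : Subgroup H) : Set H) = Ls ⊔ Subgroup.centralizer (((Cfsg.largestPReducedOf p L) : Subgroup H) : Set H) ∧ Cfsg.weakClosure Q L = Cfsg.weakClosure Q Ls ∧ Cfsg.weakClosure Q Ls ≤ Cfsg.weakClosure Q M ∧ (Cfsg.largestPReducedOf p L) = (Cfsg.largestPReducedOf p Ls) ∧ (Cfsg.largestPReducedOf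 p Ls) ≤ (Cfsg.largestPReducedOf p M) ∧ (¬ L ≤ Subgroup.normalizer ((Q : Subgroup H) : Set H) → ¬ Ls ≤ Subgroup.normalizer ((Q : Subgroup H) : Set H) ∧ ¬ M ≤ Subgroup.normalizer ((Q : Subgroup H) : Set H)) := by
  obtain ⟨M, Ls, hSM, hM, hSLs, hLsM, hLs, hY, hYM, hfac⟩ :=
    LocalEven.Basic.exists_basic (Cfsg.Agent.S2845.result Q hQp hQ1 hLg).2.2 S L hSL hL
  obtain ⟨Y, hYdef⟩ : ∃ Y, Y = largestPReducedOf p L := ⟨_, rfl⟩
  have hLN : L ≤ Subgroup.normalizer (Y : Set H) := hYdef ▸ LocalEven.Red.le_normalizer_Y L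
  have hLsN : Ls ≤ Subgroup.normalizer (Y : Set H) := hYdef ▸ hY ▸ LocalEven.Red.le_normalizer_Y Ls
  have hYp : IsPGroup p Y := hYdef ▸
    (LocalEven.Red.isPGroup_of_elementary (LocalEven.Red.largest_reduced (p := p) (L := ↥L)).2.1).map _
  have hweq : weakClosure Q L = weakClosure Q Ls := by
    by_cases hY0 : Y = ⊥
    · have h1 : Subgroup.centralizer (Y : Set H) = ⊤ := top_le_iff.1 fun x _ =>
        Subgroup.mem_centralizer_iff.2 fun y hy => by
          rw [hY0] at hy; rw [Subgroup.mem_bot.1 hy, one_mul, mul_one]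
      exfalso
      have h0 := (LocalEven.Red.omega_le_closure S hSL).trans
        ((LocalEven.Red.closure_le_Y L (LocalEven.Basic.centralizer_subtype hL)).trans hYdef.ge)
      rw [hY0, le_bot_iff] at h0
      have hS : (S : Subgroup H) ≠ ⊥ := fun h => hQ1 (le_bot_iff.1 (h ▸ hQS))
      obtain ⟨z, hz, hz1⟩ := (Subgroup.bot_or_exists_ne_one _).resolve_left
        (LocalEven.Large.centre_ne_bot S.isPGroup' hS)
      obtain ⟨⟨hzS, hzc⟩, k, hk⟩ := And.intro (Subgroup.mem_inf.1 hz)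
        (IsPGroup.iff_orderOf.1 S.isPGroup' ⟨z, (Subgroup.mem_inf.1 hz).1⟩)
      rw [Subgroup.orderOf_mk] at hk
      rcases k with _ | k
      · exact hz1 (orderOf_eq_one_iff.1 (by rw [hk, pow_zero]))
      · have hw := h0.le (LocalEven.mem_omega_center.2 ⟨pow_mem hzS (p ^ k),
          fun s hs => ((show Commute s z from Subgroup.mem_centralizer_iff.1 hzc s hs).pow_right _).eq,
          by rw [← pow_mul, ← pow_succ, ← hk, pow_orderOf_eq_one]⟩)
        rw [Subgroup.mem_bot] at hw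
        have := orderOf_dvd_of_pow_eq_one hw
        rw [hk] at this
        have := (Nat.pow_dvd_pow_iff_le_right (Fact.out : p.Prime).one_lt).1 this
        omega
    · rw [(Cfsg.Agent.S2843.result Q hQp hQ1 hLg L (hQS.trans hSL) Y hYp hY0 hLN).1,
        (Cfsg.Agent.S2843.result Q hQp hQ1 hLg Ls (hQS.trans hSLs) Y hYp hY0 hLsN).1, hYdef, hfac]
  refine ⟨M, Ls, hSM, hM, hSLs, hLsM, hLs, hfac, hweq, iSup_le fun g => ?_, hY, hY ▸ hYM, fun hLQ => ?_⟩
  · exact le_iSup (fun g : {g : H // Q.map (MulAut.conj g).toMonoidHom ≤ M} =>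
      Q.map (MulAut.conj (g : H)).toMonoidHom) ⟨g, g.2.trans hLsM⟩
  · have hcan : ¬ Ls ≤ Subgroup.normalizer (Q : Set H) := by
      intro hLsQ
      apply hLQ
      have hw := LocalEven.Large.weak hQp hQ1 hLg
      have hWQ : weakClosure Q Ls = Q := by
        refine le_antisymm (iSup_le fun g => ?_) ?_
        · obtain ⟨k, hk, he⟩ := LocalEven.Weak.conj_in hw (hQS.trans hSLs) g.2
          exact he.trans_le (Fusion.cj_eq_self (hLsQ hk)).le
        · exact le_trans (Fusion.cj_one Q).ge (le_iSup (fun g : {g : H // Q.map (MulAut.conj g).toMonoidHom ≤ Ls} =>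
            Q.map (MulAut.conj (g : H)).toMonoidHom) ⟨1, le_trans (Fusion.cj_one Q).le (hQS.trans hSLs)⟩)
      intro l hl
      refine Fusion.mem_normalizer_of_cj_le ?_
      refine (le_iSup (fun g : {g : H // Q.map (MulAut.conj g).toMonoidHom ≤ L} =>
        Q.map (MulAut.conj (g : H)).toMonoidHom) ⟨l, ?_⟩).trans (hweq.trans hWQ).le
      exact (Fusion.cj_mono (hQS.trans hSL) l).trans (Fusion.cj_eq_self_of_mem hl).le
    exact ⟨hcan, fun h => hcan (hLsM.trans h)⟩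

end Cfsg.Agent.S2846
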