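import Cfsg.Statements.S2848
import Cfsg.Agent.Lib.LocalEven.ReducedOf

set_option autoImplicit false
open Cfsg

namespace Cfsg.Agent.S2848

theorem result {G : Type*} [Group G] [Finite G] {p : ℕ} [Fact p.Prime] (S : Sylow p G) (Q : Subgroup G) (hQp : IsPGroup p ↥Q) (hQ1 : Q ≠ ⊥) (hQS : Q ≤ (S : Subgroup G)) (hQ : Cfsg.IsLarge Q) (M : Subgroup G) (hSM : (S : Subgroup G) ≤ M) (hM : Cfsg.IsInFrakM p M) : Cfsg.IsWeaklyClosedSubgroup p (((Cfsg.pCoreOf p M)).subgroupOf (M ⊔ Subgroup.centralizer (((Cfsg.largestPReducedOf p M) : Subgroup G) : Set G))) := by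
  set Y := largestPReducedOf p M
  set C := Subgroup.centralizer (Y : Set G)
  set Mh : Subgroup G := M ⊔ C
  set P := pCoreOf p M
  have hPC : P ≤ C := LocalEven.Red.core_le_centralizer_Y M
  have hS : Fusion.SylIn p (S : Subgroup G) ⊤ := Fusion.sylIn_top S
  have hPS : P ≤ (S : Subgroup G) := Fusion.pCoreOf_le_sylIn (hS.mono hSM le_top)
  have hMC : M ≤ Subgroup.normalizer ((C : Subgroup G) : Set G) :=
    LocalEven.Red.le_normalizer_centralizer (LocalEven.Red.le_normalizer_Y M)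
  have hMCn : M ≤ Subgroup.normalizer ((M ⊓ C : Subgroup G) : Set G) := fun m hm =>
    Fusion.mem_normalizer_iff_cj.2 (by
      rw [Fusion.cj_inf, Fusion.cj_eq_self_of_mem hm, Fusion.cj_eq_self (hMC hm)])
  have hsyl : Fusion.SylIn p ((S : Subgroup G) ⊓ (M ⊓ C)) (M ⊓ C) :=
    (hS.mono hSM le_top).inf_normal inf_le_left hMCn
  have hSC : (S : Subgroup G) ⊓ (M ⊓ C) ≤ P := by
    obtain ⟨R, hR⟩ := hsyl.exists_sylow_subgroupOf
    have hn : M ⊓ C ≤ Subgroup.normalizer (((S : Subgroup G) ⊓ (M ⊓ C) : Subgroup G) : Set G) :=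
      (Subgroup.normal_subgroupOf_iff_le_normalizer inf_le_right).1 (hR ▸ hM.2.2.2.2.1 R)
    refine Fusion.le_pCoreOf (inf_le_right.trans inf_le_left) (fun m hm => ?_) hsyl.isPGroup
    have h1 := hsyl.cj' (hMCn hm)
    obtain ⟨x, hx, he⟩ := hsyl.conj_eq h1
    exact Fusion.mem_normalizer_iff_cj.2 (he.symm.trans (Fusion.cj_eq_self (hn hx)))
  obtain ⟨T, hT⟩ := (hS.mono (hSM.trans le_sup_left : _ ≤ Mh) le_top).exists_sylow_subgroupOf
  refine ⟨T, hT ▸ Subgroup.comap_mono hPS, fun g hg => ?_⟩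
  rw [hT] at hg
  have hPM : P ≤ Mh := (Fusion.pCoreOf_le M).trans le_sup_left
  have hMhC : Mh ≤ Subgroup.normalizer ((C : Subgroup G) : Set G) := sup_le hMC Subgroup.le_normalizer
  have h1 : Fusion.cj P (g : G) ≤ P := by
    rintro _ ⟨x, hx, rfl⟩
    refine hSC (Subgroup.mem_inf.2 ⟨?_, Subgroup.mem_inf.2 ⟨?_, ?_⟩⟩)
    · exact hg ⟨⟨x, hPM hx⟩, hx, rfl⟩
    · exact hSM (hg ⟨⟨x, hPM hx⟩, hx, rfl⟩)
    · exact (Subgroup.mem_normalizer_iff.1 (hMhC g.2) x).1 (hPC hx)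
  have h2 := Fusion.cj_eq_of_cj_le h1
  ext y
  constructor
  · rintro ⟨x, hx, rfl⟩
    exact h2.le ⟨(x : G), hx, rfl⟩
  · intro hy
    obtain ⟨x, hx, hxy⟩ := h2.ge (show (y : G) ∈ P from hy)
    exact ⟨⟨x, hPM hx⟩, hx, Subtype.ext hxy⟩

end Cfsg.Agent.S2848
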