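import Cfsg.Statements.S2849
import Cfsg.Agent.Lib.LocalEven.ReducedOf

set_option autoImplicit false
open Cfsg
open scoped commutatorElement

namespace Cfsg.Agent.S2849

theorem result {G : Type*} [Group G] [Finite G] {p : ℕ} [Fact p.Prime] (S : Sylow p G) (Q : Subgroup G) (hQp : IsPGroup p ↥Q) (hQ1 : Q ≠ ⊥) (hQS : Q ≤ (S : Subgroup G)) (hQ : Cfsg.IsLarge Q) (M : Subgroup G) (hSM : (S : Subgroup G) ≤ M) (hM : Cfsg.IsInFrakM p M) (hasym : ¬ Cfsg.IsSymmetricIn (Cfsg.largestPReducedOf p M)) (R : Subgroup G) (hYR : (Cfsg.largestPReducedOf p M) ≤ R) (hRM : R ≤ (M ⊔ Subgroup.centralizer (((Cfsg.largestPReducedOf p M) : Subgroup G) : Set G))) : Cfsg.IsElementaryAbelian p ((Subgroup.normalClosure ((((Cfsg.largestPReducedOf p M)).subgroupOf (Subgroup.normalizer ((R : Subgroup G) : Set G)) : Subgroup ↥(Subgroup.normalizer ((R : Subgroup G) : Set G))) : Set ↥(Subgroup.normalizer ((R : Subgroup G) : Set G)))).map (Subgroup.normalizer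 ((R : Subgroup G) : Set G)).subtype) := by
  set Y := largestPReducedOf p M
  set N := Subgroup.normalizer ((R : Subgroup G) : Set G)
  have hMY : M ⊔ Subgroup.centralizer (Y : Set G) ≤ Subgroup.normalizer (Y : Set G) :=
    sup_le (LocalEven.Red.le_normalizer_Y M) (Subgroup.centralizer_le_normalizer _)
  have hRY : R ≤ Subgroup.normalizer (Y : Set G) := hRM.trans hMY
  have hYN : Y ≤ N := hYR.trans Subgroup.le_normalizer
  have hcjR : ∀ g ∈ N, Fusion.cj Y g ≤ R := fun g hg =>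
    (Fusion.cj_mono hYR g).trans (Fusion.cj_eq_self hg).le
  have hcjN : ∀ g ∈ N, R ≤ Subgroup.normalizer (Fusion.cj Y g : Set G) := fun g hg => by
    have := Fusion.cj_mono hRY g
    rwa [Fusion.cj_eq_self hg, Fusion.cj_normalizer] at this
  have hcomm : ∀ a ∈ N, ∀ x ∈ Y, ∀ y ∈ Y, (a * x * a⁻¹) * y = y * (a * x * a⁻¹) := by
    intro a ha x hx y hy
    have h0 : ⁅Y, Y.map (MulAut.conj a).toMonoidHom⁆ = ⊥ := by
      by_contra hne
      exact hasym ⟨a, hne, le_inf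
        (Subgroup.le_normalizer_iff_commutator_le_left.1 ((hcjR a ha).trans hRY))
        (Subgroup.le_normalizer_iff_commutator_le_right.1 (hYR.trans (hcjN a ha)))⟩
    exact Subgroup.mem_centralizer_iff.1 (Subgroup.commutator_eq_bot_iff_le_centralizer.1 h0 hy) _
      ⟨x, hx, rfl⟩
  have hel : IsElementaryAbelian p Y := LocalEven.Red.elementary_mono
    (LocalEven.Red.elementary_omega_center (pCoreOf p M)) (LocalEven.Red.Y_le_omega M)
  set U := (Subgroup.normalClosure ((Y.subgroupOf N : Subgroup ↥N) : Set ↥N)).map N.subtype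
  have hU : U = Subgroup.closure {z : G | ∃ a ∈ N, ∃ x ∈ Y, z = a * x * a⁻¹} := by
    show (Subgroup.normalClosure _).map N.subtype = _
    rw [Subgroup.normalClosure, MonoidHom.map_closure]
    congr 1
    ext z
    constructor
    · rintro ⟨c, hc, rfl⟩
      obtain ⟨y, hy, hyc⟩ := Group.mem_conjugatesOfSet_iff.1 hc
      obtain ⟨a, ha⟩ := isConj_iff.1 hyc
      exact ⟨a, a.2, y, hy, by rw [← ha]; rfl⟩
    · rintro ⟨a, ha, x, hx, rfl⟩
      exact ⟨⟨a, ha⟩ * ⟨x, hYN hx⟩ * ⟨a, ha⟩⁻¹, Group.mem_conjugatesOfSet_iff.2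
        ⟨⟨x, hYN hx⟩, hx, isConj_iff.2 ⟨⟨a, ha⟩, rfl⟩⟩, rfl⟩
  rw [hU]
  have hgen : ∀ u ∈ {z : G | ∃ a ∈ N, ∃ x ∈ Y, z = a * x * a⁻¹},
      ∀ v ∈ {z : G | ∃ a ∈ N, ∃ x ∈ Y, z = a * x * a⁻¹}, u * v = v * u := by
    rintro _ ⟨a, ha, x, hx, rfl⟩ _ ⟨b, hb, y, hy, rfl⟩
    have h := hcomm (b⁻¹ * a) (mul_mem (inv_mem hb) ha) x hx y hy
    calc a * x * a⁻¹ * (b * y * b⁻¹) = b * ((b⁻¹ * a) * x * (b⁻¹ * a)⁻¹ * y) * b⁻¹ := by group
      _ = b * (y * ((b⁻¹ * a) * x * (b⁻¹ * a)⁻¹)) * b⁻¹ := by rw [h]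
      _ = _ := by group
  have hab := Subgroup.isMulCommutative_closure hgen
  refine ⟨hab, fun u hu => ?_⟩
  induction hu using Subgroup.closure_induction with
  | mem z hz =>
    obtain ⟨a, ha, x, hx, rfl⟩ := hz
    rw [conj_pow, hel.2 x hx]; group
  | one => exact one_pow p
  | mul a b ha hb iha ihb =>
    have hc : Commute a b := congrArg Subtype.val (hab.is_comm.comm (⟨a, ha⟩ : ↥(Subgroup.closure _)) ⟨b, hb⟩)
    rw [hc.mul_pow, iha, ihb, one_mul]
  | inv a _ ih => rw [inv_pow, ih, inv_one]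

end Cfsg.Agent.S2849
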