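import Cfsg.Statements.S2850
import Cfsg.Agent.Lib.LocalEven.Asymmetric

set_option autoImplicit false
open Cfsg

namespace Cfsg.Agent.S2850

theorem result {G : Type*} [Group G] [Finite G] {p : ℕ} [Fact p.Prime] (S : Sylow p G) (Q : Subgroup G) (hQp : IsPGroup p ↥Q) (hQ1 : Q ≠ ⊥) (hQS : Q ≤ (S : Subgroup G)) (hQ : Cfsg.IsLarge Q) (M : Subgroup G) (hSM : (S : Subgroup G) ≤ M) (hM : Cfsg.IsInFrakM p M) (hasym : ¬ Cfsg.IsSymmetricIn (Cfsg.largestPReducedOf p M)) : (∀ L : Subgroup G, IsPGroup p ↥L → (Cfsg.pCoreOf p M) ≤ L → Subgroup.normalizer ((L : Subgroup G) : Set G) ≤ Subgroup.normalizer (((Cfsg.pCoreOf p M) : Subgroup G) : Set G) ∧ Subgroup.normalizer (((Cfsg.pCoreOf p M) : Subgroup G) : Set G) ≤ (M ⊔ Subgroup.centralizer (((Cfsg.largestPReducedOf p M) : Subgroup G) : Set G))) ∧ Cfsg.IsWeaklyClosedSubgroup p (Cfsg.pCoreOf p M) ∧ (∀ L : Subgroup G, (Cfsg.pCoreOf p M) ≤ L → Cfsg.IsParabolic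 p ((L ⊓ (M ⊔ Subgroup.centralizer (((Cfsg.largestPReducedOf p M) : Subgroup G) : Set G))).subgroupOf L)) ∧ (∀ x ∈ (Cfsg.largestPReducedOf p M), ∀ g : G, g * x * g⁻¹ ∈ (Cfsg.largestPReducedOf p M) → ∃ m ∈ M, m * x * m⁻¹ = g * x * g⁻¹) := by
  obtain ⟨hsyl, hMP, -, hmax⟩ := LocalEven.Asym.facts S hQp hQ1 hQ hSM hM
  have hP1 : pCoreOf p M ≠ ⊥ := fun h => hM.1.1
    ((Subgroup.map_eq_bot_iff_of_injective _ M.subtype_injective).1 h)
  have hPM := hmax (pCoreOf p M) hsyl.isPGroup hP1 hMP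
  have hw := LocalEven.Asym.weak S hQp hQ1 hQ hSM hM hasym
  refine ⟨fun L hL hPL => ⟨LocalEven.Asym.normalizer_le S hQp hQ1 hQ hSM hM hasym hL hPL, hPM⟩, hw,
    fun L hPL => ?_, fun x hx g hgx => ?_⟩
  · obtain ⟨T, hT, hPT⟩ := Fusion.exists_sylIn_ge (Fusion.pCoreOf_isPGroup M) hPL
    obtain ⟨R, hR⟩ := hT.exists_sylow_subgroupOf
    exact ⟨R, hR.le.trans (Subgroup.comap_mono (le_inf hT.le
      ((LocalEven.Weak.le_normalizer hw hT.isPGroup hPT).trans hPM)))⟩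
  · have hy : ∀ t ∈ pCoreOf p M, t * (g * x * g⁻¹) = g * x * g⁻¹ * t := fun t ht =>
      (Subgroup.mem_centralizer_iff.1 (hsyl.le ht) _ hgx).symm
    have h1 : Fusion.cj (pCoreOf p M) g ≤ Subgroup.centralizer ({g * x * g⁻¹} : Set G) := by
      rintro _ ⟨t, ht, rfl⟩
      rw [Subgroup.mem_centralizer_singleton_iff, show (MulAut.conj g).toMonoidHom t = g * t * g⁻¹ from rfl]
      calc g * t * g⁻¹ * (g * x * g⁻¹) = g * (t * x) * g⁻¹ := by group
        _ = g * (x * t) * g⁻¹ := by rw [← Subgroup.mem_centralizer_iff.1 (hsyl.le ht) x hx]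
        _ = _ := by group
    obtain ⟨c, hc, he⟩ := LocalEven.Weak.conj_in hw
      (fun t ht => Subgroup.mem_centralizer_singleton_iff.2 (hy t ht)) h1
    have hn : c⁻¹ * g ∈ Subgroup.normalizer ((pCoreOf p M : Subgroup G) : Set G) := by
      rw [Fusion.mem_normalizer_iff_cj, ← Fusion.cj_cj, he, Fusion.cj_cj_inv]
    have h2 := hPM hn
    rw [← SetLike.mem_coe, Subgroup.coe_mul_of_left_le_normalizer_right _ _
      (LocalEven.Red.le_normalizer_centralizer (LocalEven.Red.le_normalizer_Y M))] at h2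
    obtain ⟨m, hm, k, hk, hmk⟩ := h2
    refine ⟨m, hm, ?_⟩
    have hcy := Subgroup.mem_centralizer_singleton_iff.1 hc
    have hkx : k * x = x * k := (Subgroup.mem_centralizer_iff.1 hk x hx).symm
    change m * k = c⁻¹ * g at hmk
    calc m * x * m⁻¹ = m * (x * k) * k⁻¹ * m⁻¹ := by group
      _ = m * k * x * (m * k)⁻¹ := by rw [← hkx]; group
      _ = c⁻¹ * g * x * (c⁻¹ * g)⁻¹ := by rw [hmk]
      _ = c⁻¹ * (g * x * g⁻¹ * c) := by group
      _ = g * x * g⁻¹ := by rw [← hcy, inv_mul_cancel_left]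

end Cfsg.Agent.S2850
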