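import Cfsg.Statements.S2851
import Cfsg.Agent.Lib.LocalEven.Asymmetric
import Cfsg.Agent.Lib.LocalEven.ResidualOf
import Cfsg.Agent.Lib.Solv.Component
import Cfsg.Agent.Lib.Local.Basics
import Cfsg.Agent.Lib.Perm.Subnormalizer

set_option autoImplicit false
set_option maxHeartbeats 1000000
open scoped commutatorElement
open Cfsg

namespace Cfsg.Agent.S2851

theorem result {G : Type*} [Group G] [Finite G] {p : ℕ} [Fact p.Prime] (S : Sylow p G) (Q : Subgroup G) (hQp : IsPGroup p ↥Q) (hQ1 : Q ≠ ⊥) (hQS : Q ≤ (S : Subgroup G)) (hQ : Cfsg.IsLarge Q) (M : Subgroup G) (hSM : (S : Subgroup G) ≤ M) (hM : Cfsg.IsInFrakM p M) (hasym : ¬ Cfsg.IsSymmetricIn (Cfsg.largestPReducedOf p M)) [hn : ((Subgroup.centralizer (((Cfsg.largestPReducedOf p M) : Subgroup G) : Set G)).subgroupOf (M ⊔ Subgroup.centralizer (((Cfsg.largestPReducedOf p M) : Subgroup G) : Set G))).Normal] (F : Subgroup G) (hF : F = ((Cfsg.generalizedFittingSubgroup (↥(M ⊔ Subgroup.centralizer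 (((Cfsg.largestPReducedOf p M) : Subgroup G) : Set G)) ⧸ (Subgroup.centralizer (((Cfsg.largestPReducedOf p M) : Subgroup G) : Set G)).subgroupOf (M ⊔ Subgroup.centralizer (((Cfsg.largestPReducedOf p M) : Subgroup G) : Set G)))).comap (QuotientGroup.mk' ((Subgroup.centralizer (((Cfsg.largestPReducedOf p M) : Subgroup G) : Set G)).subgroupOf (M ⊔ Subgroup.centralizer (((Cfsg.largestPReducedOf p M) : Subgroup G) : Set G))))).map ((M ⊔ Subgroup.centralizer (((Cfsg.largestPReducedOf p M) : Subgroup G) : Set G))).subtype) (H : Subgroup G) (hFH : F ≤ H) (hH : Subgroup.centralizer (Cfsg.pCore p ↥H : Set ↥H) ≤ Cfsg.pCore p ↥H) : (Cfsg.largestPReducedOf p M) ≤ Cfsg.largestPReducedOf p H := by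
  obtain ⟨hsyl, hMP, hCP, hmax⟩ := LocalEven.Asym.facts S hQp hQ1 hQ hSM hM
  have hw := LocalEven.Asym.weak S hQp hQ1 hQ hSM hM hasym
  have hP1 : pCoreOf p M ≠ ⊥ := fun h => hM.1.1
    ((Subgroup.map_eq_bot_iff_of_injective _ M.subtype_injective).1 h)
  have hPN := hmax _ hsyl.isPGroup hP1 hMP
  have hYdag := hM.2.2.2.1
  obtain ⟨Y, hY⟩ : ∃ Y, Y = largestPReducedOf p M := ⟨_, rfl⟩
  obtain ⟨P, hP⟩ : ∃ P, P = pCoreOf p M := ⟨_, rfl⟩
  obtain ⟨C, hC⟩ : ∃ C, C = Subgroup.centralizer ((largestPReducedOf p M : Subgroup G) : Set G) := ⟨_, rfl⟩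
  obtain ⟨Mh, hMh⟩ : ∃ Mh, Mh = M ⊔ Subgroup.centralizer ((largestPReducedOf p M : Subgroup G) : Set G) := ⟨_, rfl⟩
  rw [← hP] at hsyl hw hP1 hPN
  rw [← hMh] at hPN hYdag
  rw [← hC] at hsyl
  rw [← hY]
  obtain ⟨π, hπ⟩ : ∃ π : ↥(M ⊔ Subgroup.centralizer ((largestPReducedOf p M : Subgroup G) : Set G)) →* _,
    π = QuotientGroup.mk' ((Subgroup.centralizer ((largestPReducedOf p M : Subgroup G) : Set G)).subgroupOf
      (M ⊔ Subgroup.centralizer ((largestPReducedOf p M : Subgroup G) : Set G))) := ⟨_, rfl⟩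
  have hs : Function.Surjective π := hπ ▸ QuotientGroup.mk'_surjective _
  have h0 : pCore p (↥(M ⊔ Subgroup.centralizer ((largestPReducedOf p M : Subgroup G) : Set G)) ⧸
      (Subgroup.centralizer ((largestPReducedOf p M : Subgroup G) : Set G)).subgroupOf
        (M ⊔ Subgroup.centralizer ((largestPReducedOf p M : Subgroup G) : Set G))) = ⊥ := by
    refine (LocalEven.Red.pCore_quotient_bot_iff _).2 fun N hN hp x hx => ?_
    subst hMh
    have h1 := ((LocalEven.Red.reduced_iff _).1 (LocalEven.Red.largest_reduced (p := p)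
      (L := ↥(M ⊔ Subgroup.centralizer ((largestPReducedOf p M : Subgroup G) : Set G))))).2.2 N hN
      fun z hz => by
        obtain ⟨k, hk⟩ := hp z hz
        refine ⟨k, Subgroup.mem_centralizer_iff.2 fun y hy => Subtype.ext ?_⟩
        exact Subgroup.mem_centralizer_iff.1 hk y (hYdag.ge ⟨y, hy, rfl⟩)
    rw [Subgroup.mem_subgroupOf, Subgroup.mem_centralizer_iff]
    intro y hy
    obtain ⟨v, hv, rfl⟩ := hYdag.le hy
    exact congrArg Subtype.val (Subgroup.mem_centralizer_iff.1 (h1 hx) v hv)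
  have hFle : F ≤ Mh := hMh ▸ hF ▸ Subgroup.map_subtype_le _
  have hCF : C ≤ F := by
    intro c hc
    rw [hF]
    refine ⟨⟨c, Subgroup.mem_sup_right (hC ▸ hc)⟩, ?_, rfl⟩
    rw [SetLike.mem_coe, Subgroup.mem_comap, QuotientGroup.mk'_apply,
      (QuotientGroup.eq_one_iff _).2 (Subgroup.mem_subgroupOf.2 (hC ▸ hc))]
    exact one_mem _
  -- no `p`-subgroup modulo `C` is normalized by `F`
  have key : ∀ D : Subgroup G, D ≤ Mh → F ≤ Subgroup.normalizer (D : Set G) →
      (∀ x ∈ D, ∃ k : ℕ, x ^ p ^ k ∈ C) → D ≤ C := by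
    subst hMh hC
    intro D hDM hFD hp
    obtain ⟨Db, hDb⟩ : ∃ Db, Db = (D.subgroupOf _).map π := ⟨_, rfl⟩
    have hDp : IsPGroup p Db := by
      subst hDb hπ
      rintro ⟨_, x, hx, rfl⟩
      obtain ⟨k, hk⟩ := hp x hx
      exact ⟨k, Subtype.ext (by
        show QuotientGroup.mk' _ x ^ p ^ k = 1
        rw [← map_pow]
        exact (QuotientGroup.eq_one_iff _).2 (Subgroup.mem_subgroupOf.2 (by rwa [SubmonoidClass.coe_pow])))⟩
    have hFm : (F.subgroupOf (M ⊔ Subgroup.centralizer ((largestPReducedOf p M : Subgroup G) : Set G))).map π =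
        generalizedFittingSubgroup _ := by
      have hsub : ∀ A : Subgroup ↥(M ⊔ Subgroup.centralizer ((largestPReducedOf p M : Subgroup G) : Set G)),
          (A.map (M ⊔ Subgroup.centralizer ((largestPReducedOf p M : Subgroup G) : Set G)).subtype).subgroupOf _ = A :=
        fun A => Subgroup.comap_map_eq_self_of_injective (Subgroup.subtype_injective _) A
      rw [hF, hsub, hπ,
        Subgroup.map_comap_eq_self_of_surjective (QuotientGroup.mk'_surjective _)]
    have hFN : (F.subgroupOf _).map π ≤ Subgroup.normalizer (Db : Set _) := by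
      rw [hDb]
      refine (Subgroup.map_mono fun f hf => ?_).trans (Subgroup.le_normalizer_map π)
      rw [Subgroup.mem_normalizer_iff]
      intro z
      exact Subgroup.mem_normalizer_iff.1 (hFD hf) (z : G)
    rw [hFm] at hFN
    haveI := Local.gfit_normal (H := ↥(M ⊔ Subgroup.centralizer ((largestPReducedOf p M : Subgroup G) : Set G)) ⧸
      (Subgroup.centralizer ((largestPReducedOf p M : Subgroup G) : Set G)).subgroupOf
        (M ⊔ Subgroup.centralizer ((largestPReducedOf p M : Subgroup G) : Set G)))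
    obtain ⟨E, hE⟩ : ∃ E, E = Db ⊓ generalizedFittingSubgroup _ := ⟨_, rfl⟩
    have hE0 : E = ⊥ := by
      refine le_bot_iff.1 (h0 ▸ Cfsg.Agent.Perm.subnormal_pgroup_le_pCore ?_ (hDp.to_le (hE ▸ inf_le_left)))
      refine Subgroup.IsSubnormal.step _ (generalizedFittingSubgroup _) (hE ▸ inf_le_right)
        (Subgroup.Normal.isSubnormal inferInstance) (Subgroup.normal_subgroupOf_of_le_normalizer fun f hf => ?_)
      rw [Fusion.mem_normalizer_iff_cj, hE, Fusion.cj_inf, Fusion.cj_eq_self (hFN hf), Fusion.cj_of_normal]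
    have h1 : Db ≤ Subgroup.centralizer ((generalizedFittingSubgroup (↥(M ⊔ Subgroup.centralizer ((largestPReducedOf p M : Subgroup G) : Set G)) ⧸
      (Subgroup.centralizer ((largestPReducedOf p M : Subgroup G) : Set G)).subgroupOf
        (M ⊔ Subgroup.centralizer ((largestPReducedOf p M : Subgroup G) : Set G)))) : Set _) := by
      refine (Subgroup.commutator_eq_bot_iff_le_centralizer).1 (le_bot_iff.1 ?_)
      rw [← hE0, hE]
      exact le_inf (Subgroup.le_normalizer_iff_commutator_le_left.1 hFN) (Subgroup.commutator_le_right _ _)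
    have h2 : Db ≤ ⊥ := hE0 ▸ hE ▸ le_inf le_rfl (h1.trans Solv.centralizer_gfit_le)
    intro x hx
    have h3 := h2 (hDb ▸ ⟨⟨x, hDM hx⟩, hx, rfl⟩ : π ⟨x, hDM hx⟩ ∈ Db)
    rw [Subgroup.mem_bot, hπ, QuotientGroup.mk'_apply, QuotientGroup.eq_one_iff] at h3
    exact h3
  have hPC : P ≤ C := hsyl.le
  have hPH : P ≤ H := (hPC.trans hCF).trans hFH
  obtain ⟨T, hT, hPT⟩ := Fusion.exists_sylIn_ge hsyl.isPGroup hPH
  have hTMh : T ≤ Mh := (LocalEven.Weak.le_normalizer hw hT.isPGroup hPT).trans hPN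
  have hO : pCoreOf p H ≤ P := by
    have h1 := key (pCoreOf p H) ((Fusion.pCoreOf_le_sylIn hT).trans hTMh)
      (hFH.trans (Fusion.le_normalizer_pCoreOf H)) fun x hx => by
        obtain ⟨k, hk⟩ := Fusion.pCoreOf_isPGroup (p := p) H ⟨x, hx⟩
        exact ⟨k, by rw [show x ^ p ^ k = 1 from congrArg Subtype.val hk]; exact one_mem _⟩
    exact le_sup_left.trans (hsyl.eq_of_le ((Fusion.pCoreOf_isPGroup (p := p) H).to_sup_of_normal_left' hsyl.isPGroup
      (hPH.trans (Fusion.le_normalizer_pCoreOf H))) le_sup_right (sup_le h1 hPC)).le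
  have hYP : Y ≤ P := hY ▸ hP ▸ LocalEven.Red.Y_le_core M
  have hYC : ∀ y ∈ Y, ∀ c ∈ C, y * c = c * y := fun y hy c hc =>
    Subgroup.mem_centralizer_iff.1 (hC ▸ hc) y (hY ▸ hy)
  obtain ⟨Ts, hTs⟩ := hT.exists_sylow_subgroupOf
  have hred : IsPReducedNormal p (Subgroup.normalClosure ((Y.subgroupOf H : Subgroup ↥H) : Set ↥H)) := by
    refine LocalEven.Red.reduced_closure Ts (fun x hx => ?_) fun N hN _ hp => ?_
    · have hc : ∀ z ∈ pCore p ↥H, z * x = x * z := fun z hz =>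
        Subtype.ext (hYC x hx z (hPC (hO ⟨z, hz, rfl⟩))).symm
      exact LocalEven.mem_omega_center.2 ⟨hH (Subgroup.mem_centralizer_iff.2 hc), hc, Subtype.ext (by
        simpa using (LocalEven.mem_omega_center.1 (LocalEven.Red.Y_le_omega M (hY ▸ hx))).2.2)⟩
    · haveI := hN
      have h1 := key (N.map H.subtype ⊓ Mh) inf_le_right (fun f hf => by
        rw [Fusion.mem_normalizer_iff_cj, Fusion.cj_inf,
          Fusion.cj_eq_self (LocalEven.Red.le_normalizer_of_map N (hFH hf)), Fusion.cj_eq_self_of_mem (hFle hf)])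
        fun x hx => by
          obtain ⟨⟨⟨z, hz⟩, hzN, rfl⟩, -⟩ := hx
          obtain ⟨k, hk⟩ := hp ⟨z, hz⟩ hzN
          refine ⟨k, hC ▸ Subgroup.mem_centralizer_iff.2 fun y hy => ?_⟩
          exact congrArg Subtype.val (Subgroup.mem_centralizer_iff.1 hk ⟨y, hPH (hYP (hY ▸ hy))⟩
            (Subgroup.subset_normalClosure (show (⟨y, _⟩ : ↥H) ∈ Y.subgroupOf H from hY ▸ hy)))
      intro t ht
      obtain ⟨htT, htN⟩ := Subgroup.mem_inf.1 ht
      rw [hTs, Subgroup.mem_subgroupOf] at htT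
      exact Subgroup.mem_centralizer_iff.2 fun x hx => Subtype.ext (hYC x hx t
        (h1 (Subgroup.mem_inf.2 ⟨⟨t, htN, rfl⟩, hTMh htT⟩)))
  intro y hy
  exact ⟨⟨y, hPH (hYP hy)⟩, LocalEven.Red.le_largest hred (Subgroup.subset_normalClosure hy), rfl⟩

end Cfsg.Agent.S2851
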