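import Cfsg.Statements.S2852
import Cfsg.Agent.Lib.LocalEven.Asymmetric
import Cfsg.Agent.S2839
import Cfsg.Agent.S2842

set_option autoImplicit false
open Cfsg

namespace Cfsg.Agent.S2852

theorem result {G : Type*} [Group G] [Finite G] {p : ℕ} [Fact p.Prime] (S : Sylow p G) (Q : Subgroup G) (hQp : IsPGroup p ↥Q) (hQ1 : Q ≠ ⊥) (hQS : Q ≤ (S : Subgroup G)) (hQ : Cfsg.IsLarge Q) (M : Subgroup G) (hSM : (S : Subgroup G) ≤ M) (hM : Cfsg.IsInFrakM p M) (htall : Cfsg.IsCharPTall p (Cfsg.largestPReducedOf p M)) (hasym : ¬ Cfsg.IsSymmetricIn (Cfsg.largestPReducedOf p M)) : ∃ H : Subgroup G, Cfsg.IsInFrakH p M H := by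
  obtain ⟨hsyl, hMP, hCP, -⟩ := LocalEven.Asym.facts S hQp hQ1 hQ hSM hM
  have hw := LocalEven.Asym.weak S hQp hQ1 hQ hSM hM hasym
  have hPp : IsPGroup p ↥(pCoreOf p M) := hsyl.isPGroup
  obtain ⟨T, L, hTL, hL, hYL⟩ := htall
  obtain ⟨P, hP⟩ := hsyl.exists_sylow_subgroupOf
  obtain ⟨c, hc⟩ := MulAction.exists_smul_eq (Subgroup.centralizer ((largestPReducedOf p M : Subgroup G) : Set G)) T P
  -- move `L` over `O_p(M)`
  have hPT : pCoreOf p M = Fusion.cj ((T : Subgroup ↥(Subgroup.centralizer ((largestPReducedOf p M : Subgroup G) : Set G))).map (Subgroup.centralizer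
      ((largestPReducedOf p M : Subgroup G) : Set G)).subtype) (c : G) := by
    obtain ⟨C, hC⟩ : ∃ C, C = Subgroup.centralizer ((largestPReducedOf p M : Subgroup G) : Set G) := ⟨_, rfl⟩
    subst hC
    have h1 := congrArg (fun R : Sylow p ↥(Subgroup.centralizer ((largestPReducedOf p M : Subgroup G) : Set G)) => (R : Subgroup ↥(Subgroup.centralizer ((largestPReducedOf p M : Subgroup G) : Set G))).map (Subgroup.centralizer
      ((largestPReducedOf p M : Subgroup G) : Set G)).subtype) hc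
    simp only [hP, Subgroup.map_subgroupOf_eq_of_le hsyl.le] at h1
    rw [← h1]
    show Subgroup.map _ (Subgroup.map (MulAut.conj c).toMonoidHom (T : Subgroup ↥(Subgroup.centralizer ((largestPReducedOf p M : Subgroup G) : Set G)))) =
      Subgroup.map (MulAut.conj (c : G)).toMonoidHom (Subgroup.map _ (T : Subgroup ↥(Subgroup.centralizer ((largestPReducedOf p M : Subgroup G) : Set G))))
    rw [Subgroup.map_map, Subgroup.map_map]
    rfl
  obtain ⟨Lc, hLc⟩ : ∃ Lc, Lc = Fusion.cj L (c : G) := ⟨_, rfl⟩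
  have hPLc : pCoreOf p M ≤ Lc := by rw [hPT, hLc]; exact Fusion.cj_mono hTL _
  have hcore : ∀ (A : Subgroup G) (g : G), Fusion.cj (pCoreOf p A) g ≤ pCoreOf p (Fusion.cj A g) := fun A g =>
    Fusion.le_pCoreOf (Fusion.cj_mono (Fusion.pCoreOf_le A) g)
      ((Fusion.cj_mono (Fusion.le_normalizer_pCoreOf A) g).trans (Fusion.cj_normalizer _ _).le)
      (Fusion.isPGroup_cj (Fusion.pCoreOf_isPGroup A) g)
  have hcore' : pCoreOf p Lc ≤ Fusion.cj (pCoreOf p L) (c : G) := by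
    have := Fusion.cj_mono (hcore Lc (c : G)⁻¹) (c : G)
    rw [hLc] at this ⊢
    rwa [Fusion.cj_inv_cj, Fusion.cj_cj_inv] at this
  have hYLc : ¬ largestPReducedOf p M ≤ pCoreOf p Lc := by
    intro h
    apply hYL
    have h1 := h.trans hcore'
    exact Fusion.cj_le_cj.1 ((Fusion.cj_eq_self ((Subgroup.centralizer_le_normalizer _) c.2)).le.trans h1)
  have hLcc : Subgroup.centralizer (pCore p ↥Lc : Set ↥Lc) ≤ pCore p ↥Lc := by
    rintro ⟨x, hx⟩ hxc
    have hx' : (c : G)⁻¹ * x * c ∈ L := Fusion.mem_cj.1 (hLc ▸ hx)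
    have h1 : (⟨_, hx'⟩ : ↥L) ∈ pCore p ↥L := by
      refine hL (Subgroup.mem_centralizer_iff.2 fun z hz => Subtype.ext ?_)
      obtain ⟨w, hw, e⟩ := (hLc ▸ hcore L (c : G) : Fusion.cj (pCoreOf p L) (c : G) ≤ pCoreOf p Lc)
        (Fusion.conj_mem_cj (show (z : G) ∈ pCoreOf p L from ⟨z, hz, rfl⟩))
      have h2 := congrArg Subtype.val (Subgroup.mem_centralizer_iff.1 hxc w hw)
      change (w : G) = (c : G) * z * (c : G)⁻¹ at e
      rw [Subgroup.coe_mul, Subgroup.coe_mul, e] at h2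
      simp only [Subgroup.coe_mul]
      calc (z : G) * ((c : G)⁻¹ * x * c) = (c : G)⁻¹ * ((c : G) * z * (c : G)⁻¹ * x) * c := by group
        _ = (c : G)⁻¹ * (x * ((c : G) * z * (c : G)⁻¹)) * c := by rw [h2]
        _ = _ := by group
    obtain ⟨w, hw', e⟩ := (hLc ▸ hcore L (c : G) : Fusion.cj (pCoreOf p L) (c : G) ≤ pCoreOf p Lc)
      (Fusion.conj_mem_cj (show (c : G)⁻¹ * x * c ∈ pCoreOf p L from ⟨_, h1, rfl⟩))
    have e' : (w : G) = x := by simpa [mul_assoc] using e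
    exact (Subtype.ext e' : w = ⟨x, hx⟩) ▸ hw'
  -- a minimal one inside
  obtain ⟨H, hHL, hH⟩ := Finite.exists_le_minimal
    (p := fun X : Subgroup G => pCoreOf p M ≤ X ∧ X ≤ Lc ∧ ¬ largestPReducedOf p M ≤ pCoreOf p X)
    (a := Lc) ⟨hPLc, le_rfl, hYLc⟩
  obtain ⟨hPH, hHLc, hYH⟩ := hH.1
  refine ⟨H, ?_, hPH, hYH, fun X hPX hX => ?_⟩
  swap
  · by_contra h
    exact hX.not_ge (hH.2 ⟨hPX, hX.le.trans hHLc, h⟩ hX.le)
  -- `H` has characteristic `p`
  have hP1 : (pCoreOf p M).subgroupOf Lc ≠ ⊥ := fun h => hM.1.1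
    ((Subgroup.map_eq_bot_iff_of_injective _ M.subtype_injective).1
      (le_bot_iff.1 ((Subgroup.map_subgroupOf_eq_of_le hPLc).ge.trans (by rw [h, Subgroup.map_bot]))))
  have hwc' := (Cfsg.Agent.S2839.result (pCoreOf p M) hPp (fun h => hP1 (by rw [h, Subgroup.bot_subgroupOf])) hw
    Lc hPLc ⊥).1
  have h := (Cfsg.Agent.S2842.result ((pCoreOf p M).subgroupOf Lc) (hPp.comap_of_injective Lc.subtype Lc.subtype_injective)
    hP1 hwc' (fun x hx => hCP (Subgroup.mem_centralizer_iff.2 fun t ht =>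
      congrArg Subtype.val (Subgroup.mem_centralizer_iff.1 hx ⟨t, hPLc ht⟩ ht)))
    (H.subgroupOf Lc) (Subgroup.comap_mono hPH) (Or.inl hLcc)).2.2
  let e := Subgroup.subgroupOfEquivOfLe hHLc
  intro x hx
  obtain ⟨y, rfl⟩ := e.surjective x
  rw [← Fusion.map_pCore_equiv e]
  refine ⟨y, h (Subgroup.mem_centralizer_iff.2 fun z hz => e.injective ?_), rfl⟩
  rw [map_mul, map_mul]
  exact Subgroup.mem_centralizer_iff.1 hx _ ((Fusion.map_pCore_equiv e).le ⟨z, hz, rfl⟩)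

end Cfsg.Agent.S2852
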