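import Cfsg.Statements.S2853
import Cfsg.Agent.Lib.LocalEven.Asymmetric
import Cfsg.Agent.Lib.LocalEven.ResidualOf
import Cfsg.Agent.Lib.LocalEven.WeaklyClosedCentralizer
import Cfsg.Agent.Lib.Solv.Subnormal
import Cfsg.Agent.Lib.Perm.Subnormalizer

set_option autoImplicit false
set_option maxHeartbeats 1000000
open scoped commutatorElement
open Cfsg

namespace Cfsg.Agent.S2853

theorem result {G : Type*} [Group G] [Finite G] {p : ℕ} [Fact p.Prime] (S : Sylow p G) (Q : Subgroup G) (hQp : IsPGroup p ↥Q) (hQ1 : Q ≠ ⊥) (hQS : Q ≤ (S : Subgroup G)) (hQ : Cfsg.IsLarge Q) (M : Subgroup G) (hSM : (S : Subgroup G) ≤ M) (hM : Cfsg.IsInFrakM p M) (htall : Cfsg.IsCharPTall p (Cfsg.largestPReducedOf p M)) (hasym : ¬ Cfsg.IsSymmetricIn (Cfsg.largestPReducedOf p M)) (H : Subgroup G) (hH : Cfsg.IsInFrakH p M H) (R : Subgroup G) (hR : R = (Cfsg.pResidual p ↥H).map H.subtype) : (∀ T : Sylow p ↥(H ⊓ (M ⊔ Subgroup.centralizer (((Cfsg.largestPReducedOf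 p M) : Subgroup G) : Set G))), ∃ P : Sylow p ↥H, ((P : Subgroup ↥H).map H.subtype) = (T : Subgroup ↥(H ⊓ (M ⊔ Subgroup.centralizer (((Cfsg.largestPReducedOf p M) : Subgroup G) : Set G)))).map (H ⊓ (M ⊔ Subgroup.centralizer (((Cfsg.largestPReducedOf p M) : Subgroup G) : Set G))).subtype) ∧ Cfsg.pCoreOf p H ≤ Subgroup.normalizer (((Cfsg.pCoreOf p M) : Subgroup G) : Set G) ⊓ Subgroup.normalizer (((Cfsg.largestPReducedOf p M) : Subgroup G) : Set G) ∧ ⁅R, (Cfsg.largestPReducedOf p M)⁆ = R ∧ R ⊔ (Cfsg.pCoreOf p M) = H ∧ R ⊔ (Cfsg.largestPReducedOf p M) = (Subgroup.normalClosure ((((Cfsg.largestPReducedOf p M)).subgroupOf H : Subgroup ↥H) : Set ↥H)).map H.subtype ∧ (Subgroup.normalClosure ((((Cfsg.pCoreOf p M)).subgroupOf H : Subgroup ↥H) : Set ↥H)).map H.subtype = H := by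
  obtain ⟨hsyl, hMP, -, hmax⟩ := LocalEven.Asym.facts S hQp hQ1 hQ hSM hM
  have hP1 : pCoreOf p M ≠ ⊥ := fun h => hM.1.1
    ((Subgroup.map_eq_bot_iff_of_injective _ M.subtype_injective).1 h)
  have hw := LocalEven.Asym.weak S hQp hQ1 hQ hSM hM hasym
  have hnl : ∀ L : Subgroup G, IsPGroup p L → pCoreOf p M ≤ L →
      Subgroup.normalizer (L : Set G) ≤ Subgroup.normalizer ((pCoreOf p M : Subgroup G) : Set G) :=
    fun L hL hPL => LocalEven.Asym.normalizer_le S hQp hQ1 hQ hSM hM hasym hL hPL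
  obtain ⟨Y, hY⟩ : ∃ Y, Y = largestPReducedOf p M := ⟨_, rfl⟩
  obtain ⟨P, hP⟩ : ∃ P, P = pCoreOf p M := ⟨_, rfl⟩
  obtain ⟨-, hPH, hYH, hmin⟩ := hH
  rw [← hY] at hsyl hmax hYH hmin ⊢
  rw [← hP] at hsyl hMP hP1 hw hnl hPH hmin ⊢
  have hMY : M ≤ Subgroup.normalizer (Y : Set G) := hY ▸ LocalEven.Red.le_normalizer_Y M
  have hPN : Subgroup.normalizer (P : Set G) ≤ M ⊔ Subgroup.centralizer (Y : Set G) := hmax P hsyl.isPGroup hP1 hMP
  have hdag : M ⊔ Subgroup.centralizer (Y : Set G) ≤ Subgroup.normalizer (Y : Set G) :=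
    sup_le hMY (Subgroup.centralizer_le_normalizer _)
  have hYP : Y ≤ P := hY ▸ hP ▸ LocalEven.Red.Y_le_core M
  have hYYN : P ≤ Subgroup.normalizer (Y : Set G) := hsyl.le.trans (Subgroup.centralizer_le_normalizer _)
  -- normal closures
  have hncl : ∀ A : Subgroup G, ∀ X : Subgroup G, A ≤ X → H ≤ Subgroup.normalizer (X : Set G) →
      (Subgroup.normalClosure ((A.subgroupOf H : Subgroup ↥H) : Set ↥H)).map H.subtype ≤ X := by
    intro A X hAX hX
    haveI : (X.subgroupOf H).Normal := ⟨fun z hz e => Subgroup.mem_subgroupOf.2 (by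
      rw [Subgroup.coe_mul, Subgroup.coe_mul, Subgroup.coe_inv]
      exact (Subgroup.mem_normalizer_iff.1 (hX e.2) _).1 (Subgroup.mem_subgroupOf.1 hz))⟩
    exact Subgroup.map_le_iff_le_comap.2 (Subgroup.normalClosure_le_normal (N := X.subgroupOf H) fun z hz => hAX hz)
  have hclose : ∀ A : Subgroup G, A ≤ H →
      A ≤ (Subgroup.normalClosure ((A.subgroupOf H : Subgroup ↥H) : Set ↥H)).map H.subtype :=
    fun A hA x hx => ⟨⟨x, hA hx⟩, Subgroup.subset_normalClosure hx, rfl⟩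
  -- a normal subgroup over `Y` has `Y` outside its core
  have hsub : ∀ X : Subgroup G, X ≤ H → H ≤ Subgroup.normalizer (X : Set G) → ¬ Y ≤ pCoreOf p X := by
    intro X hXH hX h
    refine hYH (h.trans (Fusion.le_pCoreOf ((Fusion.pCoreOf_le X).trans hXH) (fun g hg =>
      LocalEven.WeaklyClosedCentralizer.pCoreOf_invariant (hX hg)) (Fusion.pCoreOf_isPGroup X)))
  have hRH : R ≤ H := hR ▸ LocalEven.Res.le_self H
  have hRn : H ≤ Subgroup.normalizer (R : Set G) := hR ▸ Subgroup.le_normalizer.trans (LocalEven.Res.normalizer_le H)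
  have h6 : (Subgroup.normalClosure ((P.subgroupOf H : Subgroup ↥H) : Set ↥H)).map H.subtype = H := by
    obtain ⟨X, hX⟩ : ∃ X, X = (Subgroup.normalClosure ((P.subgroupOf H : Subgroup ↥H) : Set ↥H)).map H.subtype := ⟨_, rfl⟩
    rw [← hX]
    by_contra hne
    have hXH : X ≤ H := hX ▸ Subgroup.map_subtype_le _
    exact hsub X hXH (hX ▸ LocalEven.Red.le_normalizer_of_map _)
      (hmin X (hX ▸ hclose P hPH) (lt_of_le_of_ne hXH hne))
  have h4 : R ⊔ P = H := by
    refine le_antisymm (sup_le hRH hPH) ?_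
    by_contra hle
    haveI hN : (R.subgroupOf H).Normal := Subgroup.normal_subgroupOf_of_le_normalizer hRn
    obtain ⟨π, hπ⟩ : ∃ π : ↥H →* ↥H ⧸ R.subgroupOf H, π = QuotientGroup.mk' _ := ⟨_, rfl⟩
    have hs : Function.Surjective π := hπ ▸ QuotientGroup.mk'_surjective _
    have hq : IsPGroup p (↥H ⧸ R.subgroupOf H) := by
      have he : R.subgroupOf H = pResidual p ↥H := by
        rw [hR, Subgroup.subgroupOf, Subgroup.comap_map_eq_self_of_injective H.subtype_injective]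
      intro x
      obtain ⟨y, rfl⟩ := QuotientGroup.mk_surjective x
      obtain ⟨k, hk⟩ := Fusion.isPGroup_quotient_pResidual (p := p) (G := ↥H) (QuotientGroup.mk y)
      refine ⟨k, ?_⟩
      rw [← QuotientGroup.mk_pow, QuotientGroup.eq_one_iff] at hk ⊢
      rwa [he]
    haveI := hq.isNilpotent
    haveI : Finite (↥H ⧸ R.subgroupOf H) := inferInstance
    rcases (Solv.isSubnormal_of_isNilpotent ((P.subgroupOf H).map π)).lt_normal with htop | ⟨K, hK, hPK, hKt⟩
    · apply hle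
      intro h hh
      obtain ⟨x, hx, e⟩ := htop.ge (Subgroup.mem_top (π ⟨h, hh⟩))
      have h1 : x⁻¹ * ⟨h, hh⟩ ∈ R.subgroupOf H := by
        rw [← QuotientGroup.eq_one_iff (N := R.subgroupOf H)]
        show QuotientGroup.mk' _ (x⁻¹ * ⟨h, hh⟩) = 1
        rw [← hπ, map_mul, map_inv, e, inv_mul_cancel]
      have := mul_mem (Subgroup.mem_sup_right (S := R) (show (x : G) ∈ P from hx)) (Subgroup.mem_sup_left h1)
      simpa using this
    · haveI := hK
      refine hKt.ne (top_le_iff.1 fun v _ => ?_)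
      obtain ⟨⟨h, hh⟩, rfl⟩ := hs v
      obtain ⟨x, hx, e⟩ := h6.ge hh
      exact (Subtype.ext e : x = ⟨h, hh⟩) ▸ (Subgroup.normalClosure_le_normal (N := K.comap π)
        (fun z hz => hPK ⟨z, hz, rfl⟩) hx)
  -- `[R, Y] = R`
  have hYH' : Y ≤ H := hYP.trans hPH
  have h3 : ⁅R, Y⁆ = R := by
    refine le_antisymm (Subgroup.le_normalizer_iff_commutator_le_left.1 (hYH'.trans hRn)) ?_
    obtain ⟨D, hD⟩ : ∃ D, D = ⁅R, Y⁆ := ⟨_, rfl⟩
    rw [← hD]
    have hDR : D ≤ R := hD ▸ Subgroup.le_normalizer_iff_commutator_le_left.1 (hYH'.trans hRn)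
    have hDn : H ≤ Subgroup.normalizer (D : Set G) := by
      rw [← h4, hD]
      refine sup_le (Subgroup.normalizer_commutator_ge_left R Y) fun t ht => ?_
      rw [Fusion.mem_normalizer_iff_cj, Fusion.cj_commutator, Fusion.cj_eq_self (hRn (hPH ht)),
        Fusion.cj_eq_self (hYYN ht)]
    by_cases htop : D ⊔ P = H
    · calc R = (pResidual p ↥H).map H.subtype := hR
        _ ≤ _ := LocalEven.Res.le_of_sup hsyl.isPGroup (hPH.trans hDn) htop.ge
        _ ≤ D := LocalEven.Res.le_self D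
    exfalso
    have h1 := hmin (D ⊔ P) le_sup_right (lt_of_le_of_ne (sup_le (hDR.trans hRH) hPH) htop)
    have hDY : D ⊔ Y ≤ H := sup_le (hDR.trans hRH) hYH'
    have hn : H ≤ Subgroup.normalizer ((D ⊔ Y : Subgroup G) : Set G) := by
      rw [← h4]
      refine sup_le (fun r hr => Fusion.mem_normalizer_of_cj_le ?_) fun t ht => ?_
      · rw [Fusion.cj_sup, Fusion.cj_eq_self (hDn (hRH hr))]
        refine sup_le le_sup_left ?_
        rintro _ ⟨y, hy, rfl⟩
        rw [show (MulAut.conj r).toMonoidHom y = ⁅r, y⁆ * y by simp [commutatorElement_def]]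
        exact mul_mem (Subgroup.mem_sup_left (hD ▸ Subgroup.commutator_mem_commutator hr hy))
          (Subgroup.mem_sup_right hy)
      · rw [Fusion.mem_normalizer_iff_cj, Fusion.cj_sup, Fusion.cj_eq_self (hDn (hPH ht)),
          Fusion.cj_eq_self (hYYN ht)]
    have h2 : Y ≤ pCoreOf p (D ⊔ Y) := by
      refine (le_inf h1 le_sup_right).trans (Fusion.le_pCoreOf inf_le_right (fun x hx => ?_)
        ((Fusion.pCoreOf_isPGroup (p := p) (D ⊔ P)).to_le inf_le_left))
      have hx' : x ∈ D ⊔ P := (sup_le_sup_left hYP D) hx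
      rw [Fusion.mem_normalizer_iff_cj, Fusion.cj_inf, Fusion.cj_eq_self_of_mem hx,
        Fusion.cj_eq_self (Fusion.le_normalizer_pCoreOf (D ⊔ P) hx')]
    exact hsub _ hDY hn h2
  refine ⟨fun T => ?_, ?_, h3, h4, ?_, h6⟩
  · obtain ⟨X, hX⟩ : ∃ X, X = H ⊓ (M ⊔ Subgroup.centralizer (Y : Set G)) := ⟨_, rfl⟩
    obtain ⟨T', hT', hPT⟩ := Fusion.exists_sylIn_ge hsyl.isPGroup hPH
    have hT'X : T' ≤ X := hX ▸ le_inf hT'.le ((LocalEven.Weak.le_normalizer hw hT'.isPGroup hPT).trans hPN)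
    obtain ⟨A, hA⟩ : ∃ A, A = (T : Subgroup ↥(H ⊓ (M ⊔ Subgroup.centralizer (Y : Set G)))).map
      (H ⊓ (M ⊔ Subgroup.centralizer (Y : Set G))).subtype := ⟨_, rfl⟩
    have hTs : Fusion.SylIn p A (H ⊓ (M ⊔ Subgroup.centralizer (Y : Set G))) :=
      hA ▸ Fusion.sylIn_map _ T
    obtain ⟨x, hx, he⟩ := (hT'.mono hT'X (hX ▸ inf_le_left)).conj_eq (hX.symm ▸ hTs)
    have hxH : x ∈ H := (Subgroup.mem_inf.1 (hX ▸ hx)).1
    have hsH : Fusion.SylIn p A H := by
      rw [← he]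
      have := hT'.cj x
      rwa [Fusion.cj_eq_self_of_mem hxH] at this
    obtain ⟨P', hP'⟩ := hsH.exists_sylow_subgroupOf
    exact ⟨P', by rw [hP', Subgroup.map_subgroupOf_eq_of_le hsH.le, hA]⟩
  · have hL := (Fusion.pCoreOf_isPGroup (p := p) H).to_sup_of_normal_left' hsyl.isPGroup
      (hPH.trans (Fusion.le_normalizer_pCoreOf H))
    have h1 := ((le_sup_left : pCoreOf p H ≤ pCoreOf p H ⊔ P).trans Subgroup.le_normalizer).trans (hnl _ hL le_sup_right)
    exact le_inf h1 (h1.trans (hPN.trans hdag))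
  · refine le_antisymm (sup_le ?_ (hclose Y hYH')) (hncl Y _ le_sup_right ?_)
    · rw [← h3]
      refine Subgroup.commutator_le.2 fun r hr y hy => ?_
      rw [commutatorElement_def]
      exact mul_mem ((Subgroup.mem_normalizer_iff.1 (LocalEven.Red.le_normalizer_of_map _ (hRH hr)) y).1
        (hclose Y hYH' hy)) (inv_mem (hclose Y hYH' hy))
    · conv_lhs => rw [← h4]
      refine sup_le (le_sup_left.trans Subgroup.le_normalizer) fun t ht => ?_
      rw [Fusion.mem_normalizer_iff_cj, Fusion.cj_sup, Fusion.cj_eq_self (hRn (hPH ht)), Fusion.cj_eq_self (hYYN ht)]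

end Cfsg.Agent.S2853
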