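import Cfsg.Statements.S2854
import Cfsg.Agent.Lib.LocalEven.Asymmetric
import Cfsg.Agent.Lib.LocalEven.ResidualOf
import Cfsg.Agent.Lib.LocalEven.PIrred
import Cfsg.Agent.Lib.LocalEven.WeaklyClosedCentralizer
import Cfsg.Agent.S2853

set_option autoImplicit false
set_option maxHeartbeats 1000000
open scoped commutatorElement
open Cfsg

namespace Cfsg.Agent.S2854

theorem result {G : Type*} [Group G] [Finite G] {p : ℕ} [Fact p.Prime] (S : Sylow p G) (Q : Subgroup G) (hQp : IsPGroup p ↥Q) (hQ1 : Q ≠ ⊥) (hQS : Q ≤ (S : Subgroup G)) (hQ : Cfsg.IsLarge Q) (M : Subgroup G) (hSM : (S : Subgroup G) ≤ M) (hM : Cfsg.IsInFrakM p M) (hasym : ¬ Cfsg.IsSymmetricIn (Cfsg.largestPReducedOf p M)) (H : Subgroup G) (hH : Cfsg.IsInFrakH p M H) (g : G) (hHQ : H ≤ Subgroup.normalizer ((((Q : Subgroup G).map (MulAut.conj (g : G)).toMonoidHom) : Subgroup G) : Set G)) : ((Q : Subgroup G).map (MulAut.conj (g : G)).toMonoidHom)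 ≤ Cfsg.pCoreOf p (H ⊔ ((Q : Subgroup G).map (MulAut.conj (g : G)).toMonoidHom)) ∧ Cfsg.pCoreOf p (H ⊔ ((Q : Subgroup G).map (MulAut.conj (g : G)).toMonoidHom)) ≤ Subgroup.normalizer (((Cfsg.pCoreOf p M) : Subgroup G) : Set G) ∧ Subgroup.normalizer (((Cfsg.pCoreOf p M) : Subgroup G) : Set G) ≤ Subgroup.normalizer (((Cfsg.largestPReducedOf p M) : Subgroup G) : Set G) ∧ Subgroup.normalizer (((Cfsg.largestPReducedOf p M) : Subgroup G) : Set G) = (M ⊔ Subgroup.centralizer (((Cfsg.largestPReducedOf p M) : Subgroup G) : Set G)) ∧ (H.subgroupOf (H ⊔ ((Q : Subgroup G).map (MulAut.conj (g : G)).toMonoidHom))).Normal ∧ (Cfsg.pResidual p ↥H).map H.subtype = (Cfsg.pResidual p ↥(H ⊔ ((Q : Subgroup G).map (MulAut.conj (g : G)).toMonoidHom))).map (H ⊔ ((Q : Subgroup G).map (MulAut.conj (g : G)).toMonoidHom)).subtype ∧ Cfsg.IsPIrreducible p ↥(H ⊔ ((Q : Subgroup G).map (MulAut.conj (g : G)).toMonoidHom)) := by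
  obtain ⟨hsyl, hMP, -, hmax⟩ := LocalEven.Asym.facts S hQp hQ1 hQ hSM hM
  have hw := LocalEven.Asym.weak S hQp hQ1 hQ hSM hM hasym
  obtain ⟨-, hPH, hYH, hmin⟩ := id hH
  obtain ⟨R, hR⟩ : ∃ R, R = (pResidual p ↥H).map H.subtype := ⟨_, rfl⟩
  obtain ⟨Y, hY⟩ : ∃ Y, Y = largestPReducedOf p M := ⟨_, rfl⟩
  obtain ⟨P, hP⟩ : ∃ P, P = pCoreOf p M := ⟨_, rfl⟩
  obtain ⟨W, hW⟩ : ∃ W, W = Q.map (MulAut.conj g).toMonoidHom := ⟨_, rfl⟩
  rw [← hW] at hHQ ⊢
  obtain ⟨K, hK⟩ : ∃ K, K = H ⊔ W := ⟨_, rfl⟩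
  rw [← hK]
  have h3 : ⁅R, Y⁆ = R ∧ R ⊔ P = H := by
    -- char `p` tallness is only used for existence
    obtain ⟨T, hT⟩ := hsyl.exists_sylow_subgroupOf
    have htall : IsCharPTall p (largestPReducedOf p M) := ⟨T, H, by
      rw [hT, Subgroup.map_subgroupOf_eq_of_le hsyl.le]; exact hPH, hH.1, hYH⟩
    have h := Cfsg.Agent.S2853.result S Q hQp hQ1 hQS hQ M hSM hM htall hasym H hH R hR
    exact ⟨hY ▸ h.2.2.1, hP ▸ h.2.2.2.1⟩
  obtain ⟨h3, h4⟩ := h3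
  rw [← hY] at hsyl hmax hYH hmin hasym ⊢
  rw [← hP] at hsyl hMP hw hPH hmin ⊢
  have hPp : IsPGroup p ↥P := hsyl.isPGroup
  have hP1 : P ≠ ⊥ := fun h => hM.1.1
    ((Subgroup.map_eq_bot_iff_of_injective _ M.subtype_injective).1 (hP.symm.trans h))
  have hYP : Y ≤ P := hY ▸ hP ▸ LocalEven.Red.Y_le_core M
  have hMY : M ≤ Subgroup.normalizer (Y : Set G) := hY ▸ LocalEven.Red.le_normalizer_Y M
  have hPN : Subgroup.normalizer (P : Set G) ≤ M ⊔ Subgroup.centralizer (Y : Set G) := hmax P hPp hP1 hMP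
  have hdag : M ⊔ Subgroup.centralizer (Y : Set G) ≤ Subgroup.normalizer (Y : Set G) :=
    sup_le hMY (Subgroup.centralizer_le_normalizer _)
  have hWp : IsPGroup p ↥W := hW ▸ hQp.map _
  have hHK : H ≤ K := hK ▸ le_sup_left
  have hWK : W ≤ K := hK ▸ le_sup_right
  have hKW : K ≤ Subgroup.normalizer (W : Set G) := hK ▸ sup_le hHQ Subgroup.le_normalizer
  have ha : W ≤ pCoreOf p K := Fusion.le_pCoreOf hWK hKW hWp
  have hPK : P ≤ K := hPH.trans hHK
  have hb : pCoreOf p K ≤ Subgroup.normalizer (P : Set G) := by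
    have hL := (Fusion.pCoreOf_isPGroup (p := p) K).to_sup_of_normal_left' hPp
      (hPK.trans (Fusion.le_normalizer_pCoreOf K))
    refine ((le_sup_left : pCoreOf p K ≤ pCoreOf p K ⊔ P).trans Subgroup.le_normalizer).trans ?_
    rw [hP] at hL ⊢
    exact LocalEven.Asym.normalizer_le S hQp hQ1 hQ hSM hM (hY ▸ hasym) hL le_sup_right
  have hRH : R ≤ H := hR ▸ LocalEven.Res.le_self H
  have hRn : H ≤ Subgroup.normalizer (R : Set G) :=
    hR ▸ Subgroup.le_normalizer.trans (LocalEven.Res.normalizer_le H)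
  have hWY : W ≤ Subgroup.normalizer (Y : Set G) := (ha.trans hb).trans (hPN.trans hdag)
  have hWR : W ≤ Subgroup.normalizer (R : Set G) := fun q hq => Fusion.mem_normalizer_of_cj_le (by
    have h1 : Fusion.cj R q ≤ H := by
      have hle : Fusion.cj R q ≤ R ⊔ W := (Fusion.cj_mono le_sup_left q).trans
        (Fusion.cj_eq_self_of_mem (Subgroup.mem_sup_right hq)).le
      conv_lhs => rw [← h3, Fusion.cj_commutator, Fusion.cj_eq_self (hWY hq)]
      refine Subgroup.commutator_le.2 fun x hx y hy => ?_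
      have hx' := hle hx
      rw [← SetLike.mem_coe, Subgroup.coe_mul_of_left_le_normalizer_right _ _ (hRH.trans hHQ)] at hx'
      obtain ⟨r, hr, w, hw', rfl⟩ := hx'
      rw [show ⁅r * w, y⁆ = r * ⁅w, y⁆ * r⁻¹ * ⁅r, y⁆ by simp only [commutatorElement_def]; group]
      have hyH : y ∈ H := hPH (hYP hy)
      refine mul_mem (mul_mem (mul_mem (hRH hr) ?_) (inv_mem (hRH hr)))
        (mul_mem (mul_mem (mul_mem (hRH hr) hyH) (inv_mem (hRH hr))) (inv_mem hyH))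
      exact hPH (hYP (mul_mem ((Subgroup.mem_normalizer_iff.1 (hWY hw') y).1 hy) (inv_mem hy)))
    subst hR
    refine Subgroup.map_le_iff_le_comap.2 (LocalEven.Res.res_le fun x hx hc => LocalEven.Res.mem_res ?_ ?_)
    · exact h1 ⟨x, LocalEven.Res.mem_res hx hc, rfl⟩
    · rwa [show ((MulAut.conj q).toMonoidHom x) = (MulAut.conj q) x from rfl, MulEquiv.orderOf_eq])
  have hWH : W ≤ Subgroup.normalizer (H : Set G) := fun q hq => by
    rw [Fusion.mem_normalizer_iff_cj, ← h4, Fusion.cj_sup, Fusion.cj_eq_self (hWR hq),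
      Fusion.cj_eq_self (hb (ha hq))]
  have hHn : K ≤ Subgroup.normalizer (H : Set G) := hK ▸ sup_le Subgroup.le_normalizer hWH
  have hf : R = (pResidual p ↥K).map K.subtype := by
    rw [hR]
    exact le_antisymm (LocalEven.Res.mono hHK) (LocalEven.Res.le_of_sup hWp hWH hK.le)
  have hNY : Subgroup.normalizer (Y : Set G) = M ⊔ Subgroup.centralizer (Y : Set G) := by
    refine le_antisymm ?_ hdag
    by_cases hY0 : Y = ⊥
    · exact le_trans (fun x _ => Subgroup.mem_centralizer_iff.2 fun y hy => by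
        rw [hY0] at hy; rw [Subgroup.mem_bot.1 hy, one_mul, mul_one]) le_sup_right
    · exact hmax Y (hPp.to_le hYP) hY0 hMY
  refine ⟨ha, hb, hPN.trans hdag, hNY, Subgroup.normal_subgroupOf_of_le_normalizer hHn, hR.symm.trans hf, ?_⟩
  -- a Sylow subgroup of `K` over `P` and `W`
  have hL := (Fusion.pCoreOf_isPGroup (p := p) K).to_sup_of_normal_left' hPp
    (hPK.trans (Fusion.le_normalizer_pCoreOf K))
  obtain ⟨T, hT, hLT⟩ := Fusion.exists_sylIn_ge hL (sup_le (Fusion.pCoreOf_le K) hPK)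
  have hPT : P ≤ T := le_sup_right.trans hLT
  have hWT : W ≤ T := (ha.trans le_sup_left).trans hLT
  obtain ⟨Ts, hTs⟩ := hT.exists_sylow_subgroupOf
  have hTY : T ≤ Subgroup.normalizer (Y : Set G) :=
    (LocalEven.Weak.le_normalizer hw hT.isPGroup hPT).trans (hPN.trans hdag)
  have hKRT : K ≤ R ⊔ T := by
    rw [hK, ← h4]; exact sup_le (sup_le le_sup_left (hPT.trans le_sup_right)) (hWT.trans le_sup_right)
  refine ⟨fun hc => hYH ?_, fun N hN hNc => ?_⟩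
  · have h1 : Y ≤ pCoreOf p K := fun y hy =>
      ⟨⟨y, hPK (hYP hy)⟩, (LocalEven.PIrr.pclosed_iff Ts).1 hc (hTs.symm ▸ hPT (hYP hy)), rfl⟩
    refine (le_inf h1 ((hYP.trans hPH) : Y ≤ H)).trans
      (Fusion.le_pCoreOf inf_le_right (fun h hh => ?_) ((Fusion.pCoreOf_isPGroup K).to_le inf_le_left))
    rw [Fusion.mem_normalizer_iff_cj, Fusion.cj_inf, Fusion.cj_eq_self_of_mem hh,
      Fusion.cj_eq_self (Fusion.le_normalizer_pCoreOf K (hHK hh))]
  haveI := hN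
  obtain ⟨N', hN'⟩ : ∃ N', N' = N.map K.subtype := ⟨_, rfl⟩
  have hN'n : K ≤ Subgroup.normalizer (N' : Set G) := hN' ▸ LocalEven.Red.le_normalizer_of_map N
  obtain ⟨A, hA⟩ : ∃ A, A = N' ⊓ H := ⟨_, rfl⟩
  have hAn : K ≤ Subgroup.normalizer (A : Set G) := fun k hk => by
    rw [Fusion.mem_normalizer_iff_cj, hA, Fusion.cj_inf, Fusion.cj_eq_self (hN'n hk), Fusion.cj_eq_self (hHn hk)]
  by_cases htop : A ⊔ P = H
  · have h1 : R ≤ A := by
      rw [hR]
      exact (LocalEven.Res.le_of_sup hPp (hPK.trans hAn) htop.ge).trans (LocalEven.Res.le_self A)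
    intro x hx
    have hx' : (x : G) ∈ N' := by
      have := h1 (hf.ge ⟨x, hx, rfl⟩)
      exact (Subgroup.mem_inf.1 (hA ▸ this)).1
    obtain ⟨n, hn, e⟩ := hN' ▸ hx'
    exact (Subtype.ext e : n = x) ▸ hn
  exfalso
  have hAH : A ≤ H := hA ▸ inf_le_right
  have hYX := hmin (A ⊔ P) le_sup_right (lt_of_le_of_ne (sup_le hAH hPH) htop)
  -- modulo `O_p(K)`
  obtain ⟨π, hπ⟩ : ∃ π : ↥K →* ↥K ⧸ pCore p ↥K, π = QuotientGroup.mk' _ := ⟨_, rfl⟩
  have hs : Function.Surjective π := hπ ▸ QuotientGroup.mk'_surjective _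
  have h0 : pCore p (↥K ⧸ pCore p ↥K) = ⊥ := Fusion.pCore_quotient_eq_bot
  obtain ⟨Rb, hRb⟩ : ∃ Rb, Rb = (R.subgroupOf K).map π := ⟨_, rfl⟩
  obtain ⟨Yb, hYb⟩ : ∃ Yb, Yb = (Y.subgroupOf K).map π := ⟨_, rfl⟩
  obtain ⟨Tb, hTb⟩ : ∃ Tb, Tb = (T.subgroupOf K).map π := ⟨_, rfl⟩
  obtain ⟨Ab, hAb⟩ : ∃ Ab, Ab = (A.subgroupOf K).map π := ⟨_, rfl⟩
  haveI : (A.subgroupOf K).Normal := Subgroup.normal_subgroupOf_of_le_normalizer hAn
  haveI : (R.subgroupOf K).Normal := Subgroup.normal_subgroupOf_of_le_normalizer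
    (hK ▸ sup_le hRn hWR : K ≤ Subgroup.normalizer (R : Set G))
  haveI hAbn : Ab.Normal := hAb ▸ Subgroup.Normal.map inferInstance π hs
  haveI hRbn : Rb.Normal := hRb ▸ Subgroup.Normal.map inferInstance π hs
  have hYK : Y ≤ K := hYP.trans hPK
  have hRYb : Rb = ⁅Rb, Yb⁆ := by
    have he : (R.subgroupOf K) = ⁅R.subgroupOf K, Y.subgroupOf K⁆ := by
      apply Subgroup.map_injective K.subtype_injective
      rw [Subgroup.map_commutator, Subgroup.map_subgroupOf_eq_of_le (hRH.trans hHK),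
        Subgroup.map_subgroupOf_eq_of_le hYK, h3]
    rw [hRb, hYb, ← Subgroup.map_commutator, ← he]
  have hAY : ∀ a ∈ Ab, ∀ y ∈ Yb, a * y = y * a := by
    rw [hAb, hYb]
    rintro _ ⟨a, ha', rfl⟩ _ ⟨y, hy, rfl⟩
    rw [← commutatorElement_eq_one_iff_mul_comm, ← map_commutatorElement, hπ, QuotientGroup.mk'_apply,
      QuotientGroup.eq_one_iff]
    have hb1 : ⁅(a : G), (y : G)⁆ ∈ pCoreOf p (A ⊔ P) ⊓ A := by
      have hyc := hYX hy
      refine Subgroup.mem_inf.2 ⟨?_, ?_⟩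
      · exact mul_mem ((Subgroup.mem_normalizer_iff.1
          (Fusion.le_normalizer_pCoreOf (A ⊔ P) (Subgroup.mem_sup_left ha')) _).1 hyc) (inv_mem hyc)
      · rw [commutatorElement_def, mul_assoc, mul_assoc, ← mul_assoc (y : G)]
        exact mul_mem ha' ((Subgroup.mem_normalizer_iff.1 (hAn y.2) _).1 (inv_mem ha'))
    have h1 : pCoreOf p (A ⊔ P) ⊓ A ≤ pCoreOf p A := Fusion.le_pCoreOf inf_le_right (fun x hx => by
      rw [Fusion.mem_normalizer_iff_cj, Fusion.cj_inf, Fusion.cj_eq_self_of_mem hx,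
        Fusion.cj_eq_self (Fusion.le_normalizer_pCoreOf (A ⊔ P) (Subgroup.mem_sup_left hx))])
      ((Fusion.pCoreOf_isPGroup (p := p) (A ⊔ P)).to_le inf_le_left)
    have h2 : pCoreOf p A ≤ pCoreOf p K := Fusion.le_pCoreOf ((Fusion.pCoreOf_le A).trans (hAH.trans hHK))
      (fun k hk => LocalEven.WeaklyClosedCentralizer.pCoreOf_invariant (hAn hk)) (Fusion.pCoreOf_isPGroup A)
    obtain ⟨z, hz, e⟩ := h2 (h1 hb1)
    exact (Subtype.ext e : z = ⁅a, y⁆) ▸ hz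
  have hAR : ∀ a ∈ Ab, ∀ r ∈ Rb, a * r = r * a := by
    intro a ha' r hr
    haveI : (Subgroup.centralizer (Ab : Set (↥K ⧸ pCore p ↥K))).Normal := Subgroup.normal_centralizer
    have : Rb ≤ Subgroup.centralizer (Ab : Set (↥K ⧸ pCore p ↥K)) := by
      rw [hRYb]
      refine (Subgroup.commutator_mono le_rfl ?_).trans (Subgroup.commutator_le_right Rb _)
      exact fun y hy => Subgroup.mem_centralizer_iff.2 fun a ha => hAY a ha y hy
    exact Subgroup.mem_centralizer_iff.1 (this hr) a ha'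
  have htopb : Rb ⊔ Tb = ⊤ := by
    rw [hRb, hTb, ← Subgroup.map_sup, ← Subgroup.subgroupOf_sup (hRH.trans hHK) hT.le,
      Subgroup.subgroupOf_eq_top.2 hKRT, Subgroup.map_top_of_surjective π hs]
  have hTbp : IsPGroup p Tb := hTb ▸ (hT.isPGroup.comap_of_injective K.subtype K.subtype_injective).map π
  have hbot : ∀ Z : Subgroup (↥K ⧸ pCore p ↥K), Z.Normal → ∀ t ∈ Tb, (∀ r ∈ Rb, t * r = r * t) → t ∈ Z → t = 1 := by
    intro Z hZ t ht htr htZ
    obtain ⟨D, hD⟩ : ∃ D, D = (Tb ⊓ Z) ⊓ Subgroup.centralizer (Rb : Set (↥K ⧸ pCore p ↥K)) := ⟨_, rfl⟩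
    haveI : (Subgroup.centralizer (Rb : Set (↥K ⧸ pCore p ↥K))).Normal := Subgroup.normal_centralizer
    haveI := hZ
    haveI : D.Normal := by
      rw [← Subgroup.normalizer_eq_top_iff, eq_top_iff, ← htopb]
      refine sup_le (fun r hr => Fusion.mem_normalizer_of_cj_le ?_) fun s hs' => ?_
      · rintro _ ⟨d, hd, rfl⟩
        have hd' := Subgroup.mem_inf.1 (hD ▸ hd)
        rw [show (MulAut.conj r).toMonoidHom d = r * d * r⁻¹ from rfl,
          Subgroup.mem_centralizer_iff.1 hd'.2 r hr, mul_inv_cancel_right]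
        exact hd
      · rw [Fusion.mem_normalizer_iff_cj, hD, Fusion.cj_inf, Fusion.cj_inf, Fusion.cj_eq_self_of_mem hs',
          Fusion.cj_of_normal, Fusion.cj_of_normal]
    have h1 := Fusion.le_pCore (N := D) (hTbp.to_le (hD ▸ inf_le_left.trans inf_le_left))
      (hD ▸ Subgroup.mem_inf.2 ⟨Subgroup.mem_inf.2 ⟨ht, htZ⟩,
        Subgroup.mem_centralizer_iff.2 fun r hr => (htr r hr).symm⟩)
    rwa [h0, Subgroup.mem_bot] at h1
  haveI hNbn : (N.map π).Normal := Subgroup.Normal.map hN π hs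
  refine hNc ((LocalEven.PIrr.pclosed_sub_iff Ts N).2 fun x hx => ?_)
  obtain ⟨hxT, hxN⟩ := Subgroup.mem_inf.1 hx
  rw [hTs] at hxT
  rw [← QuotientGroup.eq_one_iff, ← QuotientGroup.mk'_apply, ← hπ]
  have hxTb : π x ∈ Tb := hTb ▸ ⟨x, hxT, rfl⟩
  have hAmem : ∀ h : ↥K, (h : G) ∈ H → π ⁅x, h⁆ ∈ Ab := by
    intro h hh
    rw [hAb]
    refine ⟨⁅x, h⁆, ?_, rfl⟩
    rw [SetLike.mem_coe, Subgroup.mem_subgroupOf, hA]
    refine Subgroup.mem_inf.2 ⟨hN' ▸ ⟨⁅x, h⁆, ?_, rfl⟩, ?_⟩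
    · rw [SetLike.mem_coe, commutatorElement_def, mul_assoc, mul_assoc, ← mul_assoc h]
      exact mul_mem hxN (hN.conj_mem _ (inv_mem hxN) h)
    · show (x : G) * h * (x : G)⁻¹ * (h : G)⁻¹ ∈ H
      exact mul_mem ((Subgroup.mem_normalizer_iff.1 (hHn x.2) _).1 hh) (inv_mem hh)
  have hxY : ∀ y ∈ Yb, ⁅π x, y⁆ = 1 := by
    intro y hy
    rw [hYb] at hy
    obtain ⟨y, hy', rfl⟩ := hy
    rw [← map_commutatorElement]
    have hc := hAmem y (hPH (hYP hy'))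
    refine hbot Ab hAbn _ ?_ (fun r hr => hAR _ hc r hr) hc
    rw [hTb]
    exact ⟨⁅x, y⁆, mul_mem (mul_mem (mul_mem hxT (hPT (hYP hy'))) (inv_mem hxT)) (inv_mem (hPT (hYP hy'))), rfl⟩
  refine hbot (N.map π) hNbn _ hxTb (fun r hr => ?_) ⟨x, hxN, rfl⟩
  suffices h : Rb ≤ Subgroup.centralizer ({π x} : Set (↥K ⧸ pCore p ↥K)) by
    exact (Subgroup.mem_centralizer_singleton_iff.1 (h hr)).symm
  rw [hRYb]
  refine Subgroup.commutator_le.2 fun r hr y hy => Subgroup.mem_centralizer_singleton_iff.2 ?_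
  obtain ⟨u, hu, eu⟩ : r ∈ (R.subgroupOf K).map π := hRb ▸ hr
  have hc : ⁅π x, r⁆ ∈ Ab := by rw [← eu, ← map_commutatorElement]; exact hAmem u (hRH hu)
  generalize hcd : ⁅π x, r⁆ = c at hc
  have e1 : π x * r * (π x)⁻¹ = c * r := by rw [← hcd]; simp [commutatorElement_def]
  have e2 : π x * y * (π x)⁻¹ = y := by
    have := commutatorElement_eq_one_iff_mul_comm.1 (hxY y hy)
    rw [this, mul_inv_cancel_right]
  have hcy := hAY c hc y hy
  have hcr : ∀ s ∈ Rb, c * s = s * c := hAR c hc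
  have hRc : r * y * r⁻¹ * y⁻¹ ∈ Rb := by
    rw [mul_assoc, mul_assoc, ← mul_assoc y]; exact mul_mem hr (hRbn.conj_mem _ (inv_mem hr) y)
  have key : π x * ⁅r, y⁆ * (π x)⁻¹ = ⁅r, y⁆ := by
    calc π x * ⁅r, y⁆ * (π x)⁻¹ = ⁅π x * r * (π x)⁻¹, π x * y * (π x)⁻¹⁆ := by
          simp only [commutatorElement_def]; group
      _ = ⁅c * r, y⁆ := by rw [e1, e2]
      _ = c * ⁅r, y⁆ * c⁻¹ * ⁅c, y⁆ := by simp only [commutatorElement_def]; group
      _ = ⁅r, y⁆ := by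
          rw [commutatorElement_eq_one_iff_mul_comm.2 hcy, mul_one, commutatorElement_def, hcr _ hRc,
            mul_inv_cancel_right]
  exact (mul_inv_eq_iff_eq_mul.1 key).symm

end Cfsg.Agent.S2854
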