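import Cfsg.Statements.S2855
import Cfsg.Agent.Lib.LocalEven.ResidualOf
import Cfsg.Agent.Lib.LocalEven.ParabolicInherit
import Cfsg.Agent.Lib.Perm.Subnormalizer
import Cfsg.Agent.Lib.Fusion.WeakClosureFunctor

set_option autoImplicit false
set_option maxHeartbeats 2000000
open scoped commutatorElement
open Cfsg

namespace Cfsg.Agent.S2855

open Cfsg.Agent.Fusion Cfsg.Agent.LocalEven

theorem gen_pgroup {G : Type*} [Group G] [Finite G] {p : ℕ} [Fact p.Prime] {X : Subgroup G} {𝔈 : Set (Subgroup G)}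
    (N : Subgroup G) (hle : ∀ E ∈ 𝔈, E ≤ X) (hX : ∀ Z : Subgroup G, (∀ E ∈ 𝔈, E ≤ Z) → X ≤ Z)
    (hn : ∀ E ∈ 𝔈, X ≤ Subgroup.normalizer (E : Set G))
    (hres : ∀ E ∈ 𝔈, (pResidual p ↥E).map E.subtype ≤ N) (hN : N.Normal) {x : G} (hx : x ∈ X)
    (hc : (orderOf x).Coprime p) : x ∈ N := by
  obtain ⟨π, hπ⟩ : ∃ π : ↥X →* ↥X ⧸ N.subgroupOf X, π = QuotientGroup.mk' _ := ⟨_, rfl⟩
  have hs : Function.Surjective π := hπ ▸ QuotientGroup.mk'_surjective _
  have h1 : X ≤ ((pCore p (↥X ⧸ N.subgroupOf X)).comap π).map X.subtype := by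
    refine hX _ fun E hE e he => ?_
    haveI : (E.subgroupOf X).Normal := Subgroup.normal_subgroupOf_of_le_normalizer (hn E hE)
    haveI := Subgroup.Normal.map (inferInstance : (E.subgroupOf X).Normal) π hs
    have hp : IsPGroup p ((E.subgroupOf X).map π) := by
      rintro ⟨_, ⟨u, hu, rfl⟩⟩
      obtain ⟨k, hk⟩ := (Fusion.isPGroup_quotient_pResidual (p := p) (G := ↥E))
        (QuotientGroup.mk ⟨(u : G), hu⟩)
      refine ⟨k, Subtype.ext ?_⟩
      rw [← QuotientGroup.mk_pow, QuotientGroup.eq_one_iff] at hk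
      rw [Subgroup.coe_pow, ← map_pow, Subgroup.coe_one, hπ, QuotientGroup.mk'_apply, QuotientGroup.eq_one_iff,
        Subgroup.mem_subgroupOf, Subgroup.coe_pow]
      exact hres E hE ⟨_, hk, by simp⟩
    exact ⟨⟨e, hle E hE he⟩, Fusion.le_pCore hp ⟨⟨e, hle E hE he⟩, he, rfl⟩, rfl⟩
  obtain ⟨⟨y, hy⟩, hy', e⟩ := h1 hx
  obtain ⟨k, hk⟩ := Fusion.isPGroup_pCore p _ ⟨π ⟨y, hy⟩, hy'⟩
  have hk' : π ⟨y, hy⟩ ^ p ^ k = 1 := congrArg Subtype.val hk
  rw [← map_pow, hπ, QuotientGroup.mk'_apply, QuotientGroup.eq_one_iff, Subgroup.mem_subgroupOf,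
    Subgroup.coe_pow] at hk'
  change y = x at e
  subst e
  obtain ⟨j, hj⟩ := exists_pow_eq_self_of_coprime (hc.symm.pow_left k)
  exact hj ▸ pow_mem hk' j

section core

variable {G : Type*} [Group G] [Finite G] {p : ℕ} [Fact p.Prime] {X : Subgroup G} [hXn : X.Normal]
  {𝔈 : Set (Subgroup G)} (hle : ∀ E ∈ 𝔈, E ≤ X) (hX : ∀ Z : Subgroup G, (∀ E ∈ 𝔈, E ≤ Z) → X ≤ Z)
  (hn : ∀ E ∈ 𝔈, X ≤ Subgroup.normalizer (E : Set G)) (h0 : pCore p G = ⊥)
  (ha : ∀ E ∈ 𝔈, ∃ a ∈ E, a ≠ 1 ∧ ∃ k, a ^ p ^ k = 1)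
  (hsi : ∀ E ∈ 𝔈, ∀ M : Subgroup G, M ≤ E → E ≤ Subgroup.normalizer (M : Set G) →
    (∀ m ∈ M, ∀ e ∈ E, m * e = e * m) ∨ (pResidual p ↥E).map E.subtype ≤ M)

include hle hn h0 in
theorem central_p {E : Subgroup G} (hE : E ∈ 𝔈) {c : G} (hc : c ∈ E) (hcc : ∀ e ∈ E, c * e = e * c)
    (hp : ∃ k, c ^ p ^ k = 1) : c = 1 := by
  have h1 : (Subgroup.zpowers c).IsSubnormal := by
    refine Subgroup.IsSubnormal.step _ E (Subgroup.zpowers_le.2 hc) ?_ ?_
    · exact Subgroup.IsSubnormal.step _ X (hle E hE) hXn.isSubnormal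
        (Subgroup.normal_subgroupOf_of_le_normalizer (hn E hE))
    · refine Subgroup.normal_subgroupOf_of_le_normalizer fun e he => mem_normalizer_of_cj_le ?_
      rw [cj, MonoidHom.map_zpowers, Subgroup.zpowers_le]
      rw [show (MulAut.conj e).toMonoidHom c = e * c * e⁻¹ from rfl, ← hcc e he, mul_inv_cancel_right]
      exact Subgroup.mem_zpowers c
  have h2 : IsPGroup p (Subgroup.zpowers c) := by
    obtain ⟨k, hk⟩ := hp
    obtain ⟨m, -, hm⟩ := (Nat.dvd_prime_pow Fact.out).1 (orderOf_dvd_of_pow_eq_one hk)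
    exact IsPGroup.of_card (n := m) ((Nat.card_zpowers c).trans hm)
  have h3 := Cfsg.Agent.Perm.subnormal_pgroup_le_pCore h1 h2 (Subgroup.mem_zpowers c)
  rwa [h0, Subgroup.mem_bot] at h3

include hle hn h0 ha hsi in
theorem res_le_derived {E : Subgroup G} (hE : E ∈ 𝔈) : (pResidual p ↥E).map E.subtype ≤ ⁅E, E⁆ := by
  have hd : E ≤ Subgroup.normalizer ((⁅E, E⁆ : Subgroup G) : Set G) := fun e he => by
    rw [mem_normalizer_iff_cj, cj_commutator, cj_eq_self_of_mem he]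
  refine (hsi E hE ⁅E, E⁆ ((Subgroup.le_normalizer_iff_commutator_le_left).1 Subgroup.le_normalizer) hd).resolve_left fun h => ?_
  obtain ⟨a, haE, ha1, k, hk⟩ := ha E hE
  refine ha1 (central_p hle hn h0 hE haE (fun e he => ?_) ⟨k, hk⟩)
  have hc : ⁅e, a⁆ ∈ ⁅E, E⁆ := Subgroup.commutator_mem_commutator he haE
  have hcE : ⁅e, a⁆ ∈ E := mul_mem (mul_mem (mul_mem he haE) (inv_mem he)) (inv_mem haE)
  have hpow : ⁅e, a⁆ ^ p ^ k = 1 := by
    have h1 : (e * a * e⁻¹) ^ p ^ k = 1 := by rw [conj_pow, hk, mul_one, mul_inv_cancel]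
    rw [show e * a * e⁻¹ = ⁅e, a⁆ * a by simp [commutatorElement_def], Commute.mul_pow (h _ hc a haE), hk,
      mul_one] at h1
    exact h1
  have := central_p hle hn h0 hE hcE (h _ hc) ⟨k, hpow⟩
  exact (commutatorElement_eq_one_iff_mul_comm.1 this).symm

include hle hn h0 ha hsi in
theorem commutes {E : Subgroup G} (hE : E ∈ 𝔈) {Y Z : Subgroup G} (hYZ : ⁅Y, E⁆ ≤ Z) (hZE : Z ≤ E)
    (hZ : ∀ z ∈ Z, ∀ e ∈ E, z * e = e * z) : ∀ y ∈ Y, ∀ e ∈ E, y * e = e * y := by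
  have h1 : ⁅⁅E, E⁆, Y⁆ = ⊥ := by
    have h2 : ⁅⁅Y, E⁆, E⁆ = ⊥ := le_bot_iff.1 (Subgroup.commutator_le.2 fun z hz e he =>
      Subgroup.mem_bot.2 (commutatorElement_eq_one_iff_mul_comm.2 (hZ z (hYZ hz) e he)))
    exact Subgroup.commutator_commutator_eq_bot_of_rotate (by rw [Subgroup.commutator_comm E Y]; exact h2) h2
  intro y hy
  obtain ⟨S, hS⟩ : ∃ S, SylIn p S E := by
    obtain ⟨S, hS, -⟩ := exists_sylIn_ge (p := p) (IsPGroup.of_bot : IsPGroup p (⊥ : Subgroup G)) (bot_le : ⊥ ≤ E)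
    exact ⟨S, hS⟩
  suffices h : E ≤ Subgroup.centralizer {y} by
    intro e he
    exact (Subgroup.mem_centralizer_singleton_iff.1 (h he)).symm
  rw [← Res.sup_sylIn hS]
  refine sup_le (fun e he => ?_) fun e he => ?_
  · have hc := Subgroup.commutator_mem_commutator (res_le_derived hle hn h0 ha hsi hE he) hy
    rw [h1, Subgroup.mem_bot, commutatorElement_eq_one_iff_mul_comm] at hc
    exact Subgroup.mem_centralizer_singleton_iff.2 hc
  · obtain ⟨k, hk⟩ := hS.isPGroup ⟨e, he⟩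
    have hk' : e ^ p ^ k = 1 := congrArg Subtype.val hk
    have hc : ⁅y, e⁆ ∈ Z := hYZ (Subgroup.commutator_mem_commutator hy (hS.le he))
    have h2 : (y * e * y⁻¹) ^ p ^ k = 1 := by rw [conj_pow, hk', mul_one, mul_inv_cancel]
    rw [show y * e * y⁻¹ = ⁅y, e⁆ * e by simp [commutatorElement_def], Commute.mul_pow (hZ _ hc e (hS.le he)),
      hk', mul_one] at h2
    have := central_p hle hn h0 hE (hZE hc) (hZ _ hc) ⟨k, h2⟩
    exact Subgroup.mem_centralizer_singleton_iff.2 (commutatorElement_eq_one_iff_mul_comm.1 this).symm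

include hle hn h0 ha hsi in
theorem dichotomy {E K : Subgroup G} (hE : E ∈ 𝔈) (hK : K ∈ 𝔈) :
    ((pResidual p ↥E).map E.subtype ≤ K ∨ (pResidual p ↥K).map K.subtype ≤ E) ∨ ⁅E, K⁆ = ⊥ := by
  rcases hsi E hE (E ⊓ K) inf_le_left (fun e he => by
    rw [mem_normalizer_iff_cj, cj_inf, cj_eq_self_of_mem he, cj_eq_self (hn K hK (hle E hE he))]) with h | h
  swap
  · exact Or.inl (Or.inl (h.trans inf_le_right))
  have hcom : ⁅K, E⁆ ≤ E ⊓ K := le_inf
    (Subgroup.le_normalizer_iff_commutator_le_right.1 ((hle K hK).trans (hn E hE)))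
    (Subgroup.le_normalizer_iff_commutator_le_left.1 ((hle E hE).trans (hn K hK)))
  refine Or.inr (le_bot_iff.1 (Subgroup.commutator_le.2 fun e he k hk => ?_))
  rw [Subgroup.mem_bot, commutatorElement_eq_one_iff_mul_comm]
  exact (commutes hle hn h0 ha hsi hE hcom inf_le_left h k hk e he).symm

include hle hX hn h0 ha hsi in
theorem normal_free (T : Sylow p G) (hT : X ⊔ (T : Subgroup G) = ⊤) (N : Subgroup G) [N.Normal]
    (hN : ∀ E ∈ 𝔈, ¬ (pResidual p ↥E).map E.subtype ≤ N) : (T : Subgroup G) ⊓ N = ⊥ := by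
  have hZ : ∀ E ∈ 𝔈, ∀ z ∈ E ⊓ N, ∀ e ∈ E, z * e = e * z := by
    intro E hE
    refine (hsi E hE (E ⊓ N) inf_le_left (fun e he => ?_)).resolve_right fun h => hN E hE (h.trans inf_le_right)
    rw [mem_normalizer_iff_cj, cj_inf, cj_eq_self_of_mem he, cj_of_normal]
  -- `N ⊓ X` is central in `X`
  have hY : ∀ y ∈ N ⊓ X, ∀ x ∈ X, y * x = x * y := by
    intro y hy x hx
    have hc : X ≤ Subgroup.centralizer ({y} : Set G) := hX _ fun E hE e he => by
      refine Subgroup.mem_centralizer_singleton_iff.2 (commutes hle hn h0 ha hsi hE (Y := N ⊓ X) (Z := E ⊓ N) ?_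
        inf_le_left (hZ E hE) y hy e he).symm
      exact le_inf (Subgroup.le_normalizer_iff_commutator_le_right.1 (inf_le_right.trans (hn E hE)))
        ((Subgroup.commutator_mono inf_le_left le_rfl).trans (Subgroup.commutator_le_left N E))
    exact (Subgroup.mem_centralizer_singleton_iff.1 (hc hx)).symm
  have hfree : ∀ c ∈ N ⊓ X, (∃ k, c ^ p ^ k = 1) → c = 1 := by
    rintro c hc ⟨k, hk⟩
    have h1 : (Subgroup.zpowers c).IsSubnormal := by
      refine Subgroup.IsSubnormal.step _ X (Subgroup.zpowers_le.2 hc.2) hXn.isSubnormal ?_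
      refine Subgroup.normal_subgroupOf_of_le_normalizer fun x hx => mem_normalizer_of_cj_le ?_
      rw [cj, MonoidHom.map_zpowers, Subgroup.zpowers_le,
        show (MulAut.conj x).toMonoidHom c = x * c * x⁻¹ from rfl, ← hY c hc x hx, mul_inv_cancel_right]
      exact Subgroup.mem_zpowers c
    have h2 : IsPGroup p (Subgroup.zpowers c) := by
      obtain ⟨m, -, hm⟩ := (Nat.dvd_prime_pow Fact.out).1 (orderOf_dvd_of_pow_eq_one hk)
      exact IsPGroup.of_card (n := m) ((Nat.card_zpowers c).trans hm)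
    have h3 := Cfsg.Agent.Perm.subnormal_pgroup_le_pCore h1 h2 (Subgroup.mem_zpowers c)
    rwa [h0, Subgroup.mem_bot] at h3
  have hYd : N ⊓ X ≤ ⁅X, X⁆ := by
    intro y hy
    refine gen_pgroup (p := p) ⁅X, X⁆ hle hX hn (fun E hE => ?_) ?_ hy.2 ?_
    · exact (res_le_derived hle hn h0 ha hsi hE).trans (Subgroup.commutator_mono (hle E hE) (hle E hE))
    · exact inferInstance
    · rw [Nat.coprime_comm, (Fact.out : p.Prime).coprime_iff_not_dvd]
      intro hd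
      have hne : y ^ (orderOf y / p) ≠ 1 := pow_ne_one_of_lt_orderOf
        (Nat.div_pos (Nat.le_of_dvd (orderOf_pos y) hd) (Fact.out : p.Prime).pos).ne'
        (Nat.div_lt_self (orderOf_pos y) (Fact.out : p.Prime).one_lt)
      refine hne (hfree _ (pow_mem hy _) ⟨1, ?_⟩)
      rw [pow_one, ← pow_mul, Nat.div_mul_cancel hd, pow_orderOf_eq_one]
  -- the Sylow subgroup of `N` centralizes `X`
  have hcent : ∀ t ∈ (T : Subgroup G) ⊓ N, ∀ x ∈ X, t * x = x * t := by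
    intro t ht x hx
    have hc : ∀ u ∈ X, ⁅t, u⁆ ∈ N ⊓ X := fun u hu => ⟨Subgroup.commutator_le_left N X (Subgroup.commutator_mem_commutator ht.2 hu),
      Subgroup.commutator_le_right N X (Subgroup.commutator_mem_commutator ht.2 hu)⟩
    have hder : ⁅X, X⁆ ≤ Subgroup.centralizer ({t} : Set G) := Subgroup.commutator_le.2 fun a ha' b hb => by
      refine Subgroup.mem_centralizer_singleton_iff.2 ?_
      have ea : t * a * t⁻¹ = ⁅t, a⁆ * a := by simp [commutatorElement_def]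
      have eb : t * b * t⁻¹ = ⁅t, b⁆ * b := by simp [commutatorElement_def]
      have h1 : t * ⁅a, b⁆ * t⁻¹ = ⁅t * a * t⁻¹, t * b * t⁻¹⁆ := by simp only [commutatorElement_def]; group
      rw [ea, eb] at h1
      generalize h2 : ⁅t, a⁆ = c at h1
      generalize h3 : ⁅t, b⁆ = d at h1
      have hcm : c ∈ N ⊓ X := h2 ▸ hc a ha'
      have hdm : d ∈ N ⊓ X := h3 ▸ hc b hb
      have e1 : ⁅c * a, d * b⁆ = ⁅a, b⁆ := by
        rw [show ⁅c * a, d * b⁆ = c * a * (d * b) * (c * a)⁻¹ * (d * b)⁻¹ from rfl]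
        have c1 := hY c hcm (a * (d * b) * a⁻¹) (mul_mem (mul_mem ha' (mul_mem hdm.2 hb)) (inv_mem ha'))
        have c2 := hY d hdm a ha'
        calc c * a * (d * b) * (c * a)⁻¹ * (d * b)⁻¹ = c * (a * (d * b) * a⁻¹) * c⁻¹ * (d * b)⁻¹ := by group
          _ = a * (d * b) * a⁻¹ * (d * b)⁻¹ := by rw [c1, mul_inv_cancel_right]
          _ = (a * d) * b * a⁻¹ * b⁻¹ * d⁻¹ := by group
          _ = d * (a * b * a⁻¹ * b⁻¹) * d⁻¹ := by rw [← c2]; group
          _ = _ := by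
            rw [hY d hdm _ (mul_mem (mul_mem (mul_mem ha' hb) (inv_mem ha')) (inv_mem hb)),
              mul_inv_cancel_right, commutatorElement_def]
      rw [e1, mul_inv_eq_iff_eq_mul] at h1
      exact h1.symm
    have hcx := hc x hx
    have hcom : t * ⁅t, x⁆ = ⁅t, x⁆ * t :=
      (Subgroup.mem_centralizer_singleton_iff.1 (hder (hYd hcx))).symm
    obtain ⟨k, hk⟩ := T.isPGroup' ⟨t, ht.1⟩
    have hk' : t ^ p ^ k = 1 := congrArg Subtype.val hk
    have h2 : (x * t * x⁻¹) ^ p ^ k = 1 := by rw [conj_pow, hk', mul_one, mul_inv_cancel]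
    rw [show x * t * x⁻¹ = ⁅t, x⁆⁻¹ * t by simp only [commutatorElement_def]; group,
      Commute.mul_pow ((show Commute t ⁅t, x⁆ from hcom).symm.inv_left), hk', mul_one, inv_pow, inv_eq_one] at h2
    exact commutatorElement_eq_one_iff_mul_comm.1 (hfree _ hcx ⟨k, h2⟩)
  haveI : ((T : Subgroup G) ⊓ N).Normal := by
    rw [← Subgroup.normalizer_eq_top_iff, eq_top_iff, ← hT]
    refine sup_le (fun x hx => mem_normalizer_of_cj_le ?_) fun t ht => ?_
    · rintro _ ⟨s, hs, rfl⟩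
      rw [show (MulAut.conj x).toMonoidHom s = x * s * x⁻¹ from rfl, ← hcent s hs x hx, mul_inv_cancel_right]
      exact hs
    · rw [mem_normalizer_iff_cj, cj_inf, cj_eq_self_of_mem ht, cj_of_normal]
  exact le_bot_iff.1 (h0 ▸ Fusion.le_pCore (T.isPGroup'.to_le inf_le_left))

end core

theorem sylow_of_sup {H : Type*} [Group H] [Finite H] {p : ℕ} [Fact p.Prime] (T : Sylow p H) {X E D : Subgroup H}
    [X.Normal] [D.Normal] (hDT : D ≤ (T : Subgroup H)) (hEX : E ≤ X)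
    (hn : X ⊔ D ≤ Subgroup.normalizer ((E ⊔ D : Subgroup H) : Set H)) :
    ∃ P : Sylow p ↥E, (P : Subgroup ↥E) = (T : Subgroup H).subgroupOf E := by
  have hsn : (E ⊔ D).IsSubnormal := Subgroup.IsSubnormal.step _ (X ⊔ D) (sup_le_sup_right hEX D)
    (Subgroup.Normal.isSubnormal inferInstance) (Subgroup.normal_subgroupOf_of_le_normalizer hn)
  have hS := sylIn_inf_subnormal T hsn
  obtain ⟨P, hP⟩ : ∃ P : Sylow p ↥E, (T : Subgroup H).subgroupOf E ≤ P :=
    (T.isPGroup'.comap_of_injective E.subtype E.subtype_injective).exists_le_sylow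
  refine ⟨P, (Subgroup.eq_of_le_of_card_ge hP ?_).symm⟩
  have hPE : (P : Subgroup ↥E).map E.subtype ≤ E := Subgroup.map_subtype_le _
  obtain ⟨g, hg, hle'⟩ := hS.conj_le (P.isPGroup'.map E.subtype) (hPE.trans le_sup_left)
  obtain ⟨d, hd, e, he, rfl⟩ := Subgroup.mem_sup_of_normal_left.1 (sup_comm E D ▸ hg)
  have hd' : d ∈ (T : Subgroup H) ⊓ (E ⊔ D) := ⟨hDT hd, Subgroup.mem_sup_right hd⟩
  have h1 : cj ((P : Subgroup ↥E).map E.subtype) e ≤ ((T : Subgroup H).subgroupOf E).map E.subtype := by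
    rw [Subgroup.subgroupOf_map_subtype]
    refine le_inf ?_ ((cj_mono hPE e).trans (cj_eq_self_of_mem he).le)
    have h2 := cj_mono hle' d⁻¹
    rw [cj_cj, inv_mul_cancel_left, cj_eq_self_of_mem (inv_mem hd')] at h2
    exact h2.trans inf_le_left
  have h2 := Subgroup.card_le_of_le h1
  rwa [card_cj, Subgroup.card_map_of_injective E.subtype_injective,
    Subgroup.card_map_of_injective E.subtype_injective] at h2

theorem result {H : Type*} [Group H] [Finite H] {p : ℕ} [Fact p.Prime] (𝒦 : Set (Subgroup H)) (hne : 𝒦.Nonempty) (hinv : ∀ h : H, ∀ E ∈ 𝒦, E.map (MulAut.conj h).toMonoidHom ∈ 𝒦) (htr : ∀ E ∈ 𝒦, ∀ K ∈ 𝒦, ∃ h : H, K = E.map (MulAut.conj h).toMonoidHom) (hres : Cfsg.pResidual p H ≤ sSup 𝒦) (hnorm : ∀ E ∈ 𝒦, sSup 𝒦 ⊔ Cfsg.pCore p H ≤ Subgroup.normalizer ((E ⊔ Cfsg.pCore p H : Subgroup H) : Set H)) : ((∀ E ∈ 𝒦, ∀ T : Sylow p ↥E, Cfsg.IsMinimalOver (T : Subgroup ↥E)) → ∀ T : Sylow p H, Cfsg.IsMinimalOver (T : Subgroup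 H)) ∧ ((∀ E ∈ 𝒦, Cfsg.IsStronglyPIrreducible p ↥E) → Cfsg.IsPIrreducible p H ∧ ∀ E ∈ 𝒦, ∀ K ∈ 𝒦, (Cfsg.pResidual p ↥(E ⊔ Cfsg.pCore p H)).map (E ⊔ Cfsg.pCore p H).subtype = (Cfsg.pResidual p ↥(K ⊔ Cfsg.pCore p H)).map (K ⊔ Cfsg.pCore p H).subtype ∨ ⁅E, K⁆ ≤ Cfsg.pCore p H) := by
  classical
  obtain ⟨D, hD⟩ : ∃ D, D = pCore p H := ⟨_, rfl⟩
  obtain ⟨X, hX⟩ : ∃ X, X = sSup 𝒦 := ⟨_, rfl⟩
  rw [← hD] at hnorm ⊢
  rw [← hX] at hres hnorm
  haveI hDn : D.Normal := hD ▸ inferInstance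
  have hDp : IsPGroup p D := hD ▸ Fusion.isPGroup_pCore p H
  have hEX : ∀ E ∈ 𝒦, E ≤ X := fun E hE => hX ▸ le_sSup hE
  haveI hXn : X.Normal := normal_iff_cj.2 fun g => cj_eq_of_cj_le <| Subgroup.map_le_iff_le_comap.2 <| by
    rw [hX]
    exact sSup_le fun E hE => Subgroup.map_le_iff_le_comap.1 (le_sSup (hinv g E hE))
  have hXT : ∀ T : Sylow p H, X ⊔ (T : Subgroup H) = ⊤ := fun T =>
    top_le_iff.1 ((Fusion.pResidual_sup_sylow T).ge.trans (sup_le_sup_right hres _))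
  have hTE : ∀ (T : Sylow p H), ∀ E ∈ 𝒦, ∃ P : Sylow p ↥E, (P : Subgroup ↥E) = (T : Subgroup H).subgroupOf E :=
    fun T E hE => sylow_of_sup T (hD ▸ Fusion.pCore_le_sylow T) (hEX E hE) (hnorm E hE)
  constructor
  · intro hmin T
    have hf : ∀ E ∈ 𝒦, ∃ F : Subgroup H, F ≤ E ∧ ¬ E ≤ F ∧ (T : Subgroup H) ⊓ E ≤ F ∧
        (∀ Z : Subgroup H, Z ≤ E → ¬ E ≤ Z → (T : Subgroup H) ⊓ E ≤ Z → Z ≤ F) ∧
        (∀ N : Subgroup H, E ≤ Subgroup.normalizer (N : Set H) → (T : Subgroup H) ⊓ E ≤ N → E ≤ N) := by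
      intro E hE
      obtain ⟨P, hP⟩ := hTE T E hE
      obtain ⟨hncl, F, ⟨hF, hPF⟩, huniq⟩ := hmin E hE P
      refine ⟨F.map E.subtype, Subgroup.map_subtype_le F, fun h => hF.1 (top_le_iff.1 fun x _ => ?_), ?_, ?_, ?_⟩
      · obtain ⟨y, hy, e⟩ := h x.2
        exact Subtype.ext e ▸ hy
      · rintro x ⟨hx1, hx2⟩
        exact ⟨⟨x, hx2⟩, hPF (hP ▸ hx1), rfl⟩
      · intro Z hZE hEZ hZ
        have := PIrr.le_max (Y := (P : Subgroup ↥E)) huniq (X := Z.subgroupOf E)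
          (fun h => hEZ (Subgroup.subgroupOf_eq_top.1 h))
          (by rw [hP]; exact fun x hx => hZ ⟨hx, x.2⟩)
        exact (Subgroup.map_subgroupOf_eq_of_le hZE).symm.le.trans (Subgroup.map_mono this)
      · intro N hN hTN
        haveI : (N.subgroupOf E).Normal := ⟨fun z hz e => Subgroup.mem_subgroupOf.2 (by
          rw [Subgroup.coe_mul, Subgroup.coe_mul, Subgroup.coe_inv]
          exact (Subgroup.mem_normalizer_iff.1 (hN e.2) _).1 (Subgroup.mem_subgroupOf.1 hz))⟩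
        exact Subgroup.subgroupOf_eq_top.1 (PIrr.normalClosure_le hncl (X := N.subgroupOf E)
          (by rw [hP]; exact fun x hx => hTN ⟨hx, x.2⟩))
    choose! f hf1 hf2 hf3 hf4 hf5 using hf
    have hcl : Subgroup.normalClosure ((T : Subgroup H) : Set H) = ⊤ := by
      refine top_le_iff.1 ((hXT T).ge.trans (sup_le ?_ Subgroup.le_normalClosure))
      rw [hX]
      exact sSup_le fun E hE => hf5 E hE _ (by rw [Subgroup.normalizer_eq_top]; exact le_top)
        (inf_le_left.trans Subgroup.le_normalClosure)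
    have hTt : (T : Subgroup H) ≠ ⊤ := by
      intro h
      obtain ⟨E, hE⟩ := hne
      exact hf2 E hE (by have := hf3 E hE; rwa [h, top_inf_eq] at this)
    -- every maximal subgroup over `T` is the stabilizer of the family `f`
    have hmax : ∀ M : Subgroup H, IsCoatom M ∧ (T : Subgroup H) ≤ M → ∀ m ∈ M, ∀ E ∈ 𝒦, cj (f E) m = f (cj E m) := by
      rintro M ⟨hM, hTM⟩
      have hDM : D ≤ M := (hD ▸ Fusion.pCore_le_sylow T : D ≤ (T : Subgroup H)).trans hTM
      have hnot : ∀ E ∈ 𝒦, ¬ E ≤ M := by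
        intro E hE hEM
        refine hM.1 (top_le_iff.1 ((hXT T).ge.trans (sup_le ?_ hTM)))
        rw [hX]
        refine sSup_le fun K hK => ?_
        obtain ⟨h, rfl⟩ := htr E hE K hK
        obtain ⟨x, hx, t, ht, rfl⟩ := Subgroup.mem_sup_of_normal_left.1 ((hXT T).ge (Subgroup.mem_top h))
        change cj E (x * t) ≤ M
        have h2 : cj E t ∈ 𝒦 := hinv t E hE
        have h3 : cj E t ⊔ D ≤ M := sup_le ((cj_mono hEM t).trans (cj_eq_self_of_mem (hTM ht)).le) hDM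
        rw [← cj_cj]
        exact ((cj_mono le_sup_left x).trans (cj_eq_self (hnorm _ h2 (Subgroup.mem_sup_left hx))).le).trans h3
      have key : ∀ m ∈ M, ∀ E ∈ 𝒦, cj (f E) m ≤ f (cj E m) := by
        intro m hm E hE
        refine hf4 _ (hinv m E hE) _ (cj_mono (hf1 E hE) m) (fun h => hf2 E hE (cj_le_cj.1 h)) ?_
        intro x hx
        rw [mem_cj]
        refine hf4 E hE (M ⊓ E) inf_le_right (fun h => hnot E hE (h.trans inf_le_left))
          (inf_le_inf_right E hTM) (Subgroup.mem_inf.2 ⟨?_, mem_cj.1 (Subgroup.mem_inf.1 hx).2⟩)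
        exact mul_mem (mul_mem (inv_mem hm) (hTM (Subgroup.mem_inf.1 hx).1)) hm
      intro m hm E hE
      refine le_antisymm (key m hm E hE) ?_
      have := cj_mono (key m⁻¹ (inv_mem hm) _ (hinv m E hE)) m
      rwa [cj_inv_cj, cj_cj_inv] at this
    let St : Subgroup H :=
      { carrier := {h | ∀ E ∈ 𝒦, cj (f E) h = f (cj E h)}
        one_mem' := fun E _ => by rw [cj_one, cj_one]
        mul_mem' := fun {a b} ha hb E hE => by
          rw [← cj_cj, hb E hE, ha _ (hinv b E hE), cj_cj]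
        inv_mem' := fun {a} ha E hE => by
          have := ha _ (hinv a⁻¹ E hE)
          rw [cj_inv_cj] at this
          rw [← this, cj_cj_inv] }
    have hSt : St ≠ ⊤ := by
      intro h
      obtain ⟨E, hE⟩ := hne
      refine hf2 E hE (hf5 E hE _ (fun e he => ?_) (hf3 E hE))
      have h1 : e ∈ St := h ▸ Subgroup.mem_top e
      have h2 := h1 E hE
      rw [cj_eq_self_of_mem he] at h2
      exact mem_normalizer_iff_cj.2 h2
    have hu : ∀ M : Subgroup H, IsCoatom M ∧ (T : Subgroup H) ≤ M → M = St := fun M hM =>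
      ((hM.1.le_iff.1 (show M ≤ St from fun m hm => hmax M hM m hm)).resolve_left hSt).symm
    obtain ⟨M, hM, hTM⟩ := (eq_top_or_exists_le_coatom (T : Subgroup H)).resolve_left hTt
    exact ⟨hcl, M, ⟨hM, hTM⟩, fun M' hM' => (hu M' hM').trans (hu M ⟨hM, hTM⟩).symm⟩
  · intro hsi
    obtain ⟨T⟩ : Nonempty (Sylow p H) := inferInstance
    obtain ⟨π, hπ⟩ : ∃ π : H →* H ⧸ D, π = QuotientGroup.mk' D := ⟨_, rfl⟩
    have hs : Function.Surjective π := hπ ▸ QuotientGroup.mk'_surjective D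
    have hker : ∀ x, π x = 1 ↔ x ∈ D := fun x => by rw [hπ]; exact QuotientGroup.eq_one_iff x
    have hπD : D.map π = ⊥ := le_bot_iff.1 (fun _ ⟨x, hx, e⟩ => e ▸ (hker x).2 hx)
    haveI hXbn : (X.map π).Normal := Subgroup.Normal.map inferInstance π hs
    have h0 : pCore p (H ⧸ D) = ⊥ := by subst hD; exact Fusion.pCore_quotient_eq_bot
    obtain ⟨𝔈, h𝔈⟩ : ∃ 𝔈, 𝔈 = (fun E : Subgroup H => E.map π) '' 𝒦 := ⟨_, rfl⟩
    have hle : ∀ E ∈ 𝔈, E ≤ X.map π := by
      rw [h𝔈]; rintro _ ⟨E, hE, rfl⟩; exact Subgroup.map_mono (hEX E hE)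
    have hgen : ∀ Z, (∀ E ∈ 𝔈, E ≤ Z) → X.map π ≤ Z := fun Z hZ => Subgroup.map_le_iff_le_comap.2 <| by
      rw [hX]
      exact sSup_le fun E hE => Subgroup.map_le_iff_le_comap.1 (hZ _ (h𝔈 ▸ ⟨E, hE, rfl⟩))
    have hn : ∀ E ∈ 𝔈, X.map π ≤ Subgroup.normalizer (E : Set (H ⧸ D)) := by
      rw [h𝔈]; rintro _ ⟨E, hE, rfl⟩
      refine (Subgroup.map_mono (le_sup_left.trans (hnorm E hE))).trans ((Subgroup.le_normalizer_map π).trans ?_)
      rw [Subgroup.map_sup, hπD, sup_bot_eq]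
    have hcore : ∀ E ∈ 𝒦, ∀ x ∈ pCore p ↥E, (x : H) ∈ D := by
      intro E hE x hx
      rw [← hker, ← Subgroup.mem_bot]
      have h1 : (((pCore p ↥E).map E.subtype).map π).IsSubnormal := by
        refine Subgroup.IsSubnormal.step _ (E.map π) (Subgroup.map_mono (Subgroup.map_subtype_le _)) ?_ ?_
        · exact Subgroup.IsSubnormal.step _ _ (hle _ (h𝔈 ▸ ⟨E, hE, rfl⟩)) hXbn.isSubnormal
            (Subgroup.normal_subgroupOf_of_le_normalizer (hn _ (h𝔈 ▸ ⟨E, hE, rfl⟩)))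
        · refine Subgroup.normal_subgroupOf_of_le_normalizer
            ((Subgroup.map_mono ?_).trans (Subgroup.le_normalizer_map π))
          exact Fusion.le_normalizer_pCoreOf E
      have h2 := Cfsg.Agent.Perm.subnormal_pgroup_le_pCore h1 (((Fusion.isPGroup_pCore p _).map _).map π)
      rw [h0] at h2
      exact h2 ⟨x, ⟨x, hx, rfl⟩, rfl⟩
    have ha : ∀ E ∈ 𝔈, ∃ a ∈ E, a ≠ 1 ∧ ∃ k, a ^ p ^ k = 1 := by
      rw [h𝔈]; rintro _ ⟨E, hE, rfl⟩
      obtain ⟨P, hP⟩ := hTE T E hE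
      obtain ⟨a, haP, haC⟩ := SetLike.not_le_iff_exists.1 fun h => (hsi E hE).1 ((PIrr.pclosed_iff P).2 h)
      have haC' : (a : H) ∉ D := fun h => haC (Fusion.le_pCore (N := D.subgroupOf E)
        (hDp.comap_of_injective E.subtype E.subtype_injective) h)
      obtain ⟨k, hk⟩ := P.isPGroup' ⟨a, haP⟩
      refine ⟨π a, ⟨a, a.2, rfl⟩, fun h => haC' ((hker _).1 h), k, ?_⟩
      have hk' : (a : H) ^ p ^ k = 1 := congrArg (fun z : ↥(P : Subgroup ↥E) => ((z : ↥E) : H)) hk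
      rw [← map_pow, hk', map_one]
    have hsib : ∀ E ∈ 𝔈, ∀ M : Subgroup (H ⧸ D), M ≤ E → E ≤ Subgroup.normalizer (M : Set (H ⧸ D)) →
        (∀ m ∈ M, ∀ e ∈ E, m * e = e * m) ∨ (pResidual p ↥E).map E.subtype ≤ M := by
      rw [h𝔈]; rintro _ ⟨E, hE, rfl⟩ M hM hMn
      haveI : ((M.comap π).subgroupOf E).Normal := ⟨fun z hz e => by
        rw [Subgroup.mem_subgroupOf, Subgroup.mem_comap] at hz ⊢
        rw [Subgroup.coe_mul, Subgroup.coe_mul, Subgroup.coe_inv, map_mul, map_mul, map_inv]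
        exact (Subgroup.mem_normalizer_iff.1 (hMn ⟨e, e.2, rfl⟩) _).1 hz⟩
      by_cases hcase : ⁅(M.comap π).subgroupOf E, (⊤ : Subgroup ↥E)⁆ ≤ pCore p ↥E
      · left
        rintro m hm _ ⟨e, he, rfl⟩
        obtain ⟨u, hu, rfl⟩ := hM hm
        rw [← commutatorElement_eq_one_iff_mul_comm, ← map_commutatorElement, hker]
        exact hcore E hE _ (hcase (Subgroup.commutator_mem_commutator
          (show (⟨u, hu⟩ : ↥E) ∈ _ from hm) (Subgroup.mem_top ⟨e, he⟩)))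
      · right
        rw [← Res.res_map, Subgroup.map_map, Subgroup.map_le_iff_le_comap]
        exact ((hsi E hE).2 _ inferInstance hcase).trans fun _ h => h
    have hTb : ∃ Tb : Sylow p (H ⧸ D), (Tb : Subgroup (H ⧸ D)) = (T : Subgroup H).map π := by
      subst hπ; exact (Fusion.sylIn_map_mk (N := D) (Fusion.sylIn_top T)).exists_sylow
    obtain ⟨Tb, hTb⟩ := hTb
    refine ⟨⟨fun hc => ?_, fun N hN hNc => ?_⟩, fun E hE K hK => ?_⟩
    · obtain ⟨E, hE⟩ := hne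
      refine (hsi E hE).1 ?_
      obtain ⟨P, hP⟩ := hTE T E hE
      rw [PIrr.pclosed_iff P, hP]
      exact fun x hx => Fusion.le_pCore (N := (pCore p H).subgroupOf E)
        ((Fusion.isPGroup_pCore p H).comap_of_injective E.subtype E.subtype_injective) ((PIrr.pclosed_iff T).1 hc hx)
    · haveI := hN
      haveI : (N.map π).Normal := Subgroup.Normal.map inferInstance π hs
      by_cases hall : ∀ E ∈ 𝔈, ¬ (pResidual p ↥E).map E.subtype ≤ N.map π
      · exfalso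
        refine hNc ((PIrr.pclosed_sub_iff T N).2 fun x hx => ?_)
        rw [← hD, ← hker, ← Subgroup.mem_bot, ← normal_free hle hgen hn h0 ha hsib Tb
          (by rw [hTb, ← Subgroup.map_sup, hXT T, Subgroup.map_top_of_surjective π hs]) (N.map π) hall]
        exact ⟨hTb ▸ ⟨x, hx.1, rfl⟩, ⟨x, hx.2, rfl⟩⟩
      · push_neg at hall
        obtain ⟨E₀, hE₀, hle₀⟩ := hall
        have hall' : ∀ E ∈ 𝔈, (pResidual p ↥E).map E.subtype ≤ N.map π := by
          rw [h𝔈] at hE₀ ⊢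
          obtain ⟨E₁, hE₁, rfl⟩ := hE₀
          rintro _ ⟨E, hE, rfl⟩
          obtain ⟨h, rfl⟩ := htr E₁ hE₁ E hE
          change (pResidual p ↥((cj E₁ h).map π)).map ((cj E₁ h).map π).subtype ≤ _
          refine Res.res_le fun x hx hc => ?_
          obtain ⟨_, ⟨e, he, rfl⟩, rfl⟩ := hx
          rw [show (MulAut.conj h).toMonoidHom e = h * e * h⁻¹ from rfl, map_mul, map_mul, map_inv] at hc ⊢
          rw [show π h * π e * (π h)⁻¹ = MulAut.conj (π h) (π e) from rfl, MulEquiv.orderOf_eq] at hc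
          exact (inferInstance : (N.map π).Normal).conj_mem _ (hle₀ (Res.mem_res ⟨e, he, rfl⟩ hc)) _
        have h1 : pResidual p H ≤ N ⊔ D := by
          refine (Subgroup.closure_le _).2 fun x hx => ?_
          have h2 := gen_pgroup (N.map π) hle hgen hn hall' inferInstance
            (Subgroup.mem_map_of_mem π (hres (Subgroup.subset_closure hx)))
            (Nat.Coprime.coprime_dvd_left (orderOf_map_dvd π x) hx)
          rw [← Subgroup.mem_comap, Subgroup.comap_map_eq, show π.ker = D from Subgroup.ext hker] at h2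
          exact h2
        exact PIrr.residual_le_of_le (M := pResidual p H) le_rfl hDp h1
    · have hconj : ∀ E K : Subgroup H, (∃ h, K = E.map (MulAut.conj h).toMonoidHom) →
          Nat.card ↥((pResidual p ↥(E ⊔ D)).map (E ⊔ D).subtype) ≤
            Nat.card ↥((pResidual p ↥(K ⊔ D)).map (K ⊔ D).subtype) := by
        rintro E K ⟨h, rfl⟩
        change _ ≤ Nat.card ↥((pResidual p ↥(cj E h ⊔ D)).map (cj E h ⊔ D).subtype)
        rw [show cj E h ⊔ D = cj (E ⊔ D) h by rw [cj_sup, cj_of_normal D], ← card_cj ((pResidual p ↥(E ⊔ D)).map (E ⊔ D).subtype) h]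
        exact Subgroup.card_le_of_le (Res.map_le _ (MulAut.conj h).injective _)
      have hmap : ∀ E K : Subgroup H, (pResidual p ↥(E.map π)).map (E.map π).subtype ≤ K.map π →
          (pResidual p ↥(E ⊔ D)).map (E ⊔ D).subtype ≤ (pResidual p ↥(K ⊔ D)).map (K ⊔ D).subtype := by
        intro E K hEK
        refine Res.res_le fun x hx hc => Res.mem_res ?_ hc
        have h2 : π x ∈ E.map π := by
          have := Subgroup.mem_map_of_mem π hx
          rwa [Subgroup.map_sup, hπD, sup_bot_eq] at this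
        have h3 := hEK (Res.mem_res h2 (Nat.Coprime.coprime_dvd_left (orderOf_map_dvd π x) hc))
        rw [← Subgroup.mem_comap, Subgroup.comap_map_eq, show π.ker = D from Subgroup.ext hker] at h3
        exact h3
      rcases dichotomy hle hn h0 ha hsib (h𝔈 ▸ ⟨E, hE, rfl⟩ : E.map π ∈ 𝔈) (h𝔈 ▸ ⟨K, hK, rfl⟩ : K.map π ∈ 𝔈)
        with (h | h) | h
      · exact Or.inl (Subgroup.eq_of_le_of_card_ge (hmap E K h) (hconj K E (htr K hK E hE)))
      · exact Or.inl (Subgroup.eq_of_le_of_card_ge (hmap K E h) (hconj E K (htr E hE K hK))).symm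
      · refine Or.inr fun x hx => (hker x).1 ?_
        rw [← Subgroup.mem_bot, ← h, ← Subgroup.map_commutator]
        exact ⟨x, hx, rfl⟩

end Cfsg.Agent.S2855
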