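import Cfsg.Statements.S2856
import Cfsg.Agent.Lib.LocalEven.AmalgamVertexV

set_option autoImplicit false
open scoped commutatorElement
open Cfsg

namespace Cfsg.Agent.S2856

theorem result {X : Type*} [Group X] {p : ℕ} [Fact p.Prime] (M₁ M₂ : Subgroup X) (h : Cfsg.IsSpeAmalgamPair p M₁ M₂) (lam : Cfsg.CosetVertex M₁ M₂) (n : ℕ) (hn : 1 ≤ n) (V : Subgroup X) (hV : V = Cfsg.vertexVIter p M₁ M₂ n lam) (hVQ : V ≤ Cfsg.vertexQ p lam) : ¬ ⁅V, ((Cfsg.pResidual p ↥(Cfsg.pElementClosure p (MulAction.stabilizer X lam))).map (Cfsg.pElementClosure p (MulAction.stabilizer X lam)).subtype)⁆ ≤ ⁅V, Cfsg.vertexQ p lam⁆ := by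
  intro hle
  subst hV
  obtain ⟨δ, hδ⟩ := Amalgam.exists_adj lam
  have hC := h.1
  haveI := Amalgam.finite_stab hC lam
  have hH := Amalgam.le_normalizer_vertexVIter (p := p) hC.1 n lam
  have hQH : vertexQ p lam ≤ MulAction.stabilizer X lam := Subgroup.map_subtype_le _
  have hHQ : MulAction.stabilizer X lam ≤ Subgroup.normalizer (vertexQ p lam : Set X) := fun g hg =>
    Subgroup.le_normalizer_map _ ⟨⟨g, hg⟩, by rw [Subgroup.normalizer_eq_top]; exact Subgroup.mem_top _, rfl⟩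
  haveI : Finite ↥(vertexQ p lam) := Finite.of_injective _ (Subgroup.inclusion_injective hQH)
  refine Amalgam.vIter_absurd h hδ n hn hVQ _ ?_ ?_ hle (fun hV' => ?_)
  · refine Amalgam.le_normalizer_of_map fun g hg => ?_
    rw [Subgroup.map_commutator]
    refine Subgroup.commutator_mono ?_ ?_
    · rintro _ ⟨v, hv, rfl⟩
      exact (Subgroup.mem_normalizer_iff.1 (hH hg) v).1 hv
    · rintro _ ⟨v, hv, rfl⟩
      exact (Subgroup.mem_normalizer_iff.1 (hHQ hg) v).1 hv
  · refine Subgroup.commutator_le.2 fun v hv q hq => ?_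
    rw [commutatorElement_def, mul_assoc v, mul_assoc v]
    exact mul_mem hv ((Subgroup.mem_normalizer_iff.1 (hH (hQH hq)) _).1 (inv_mem hv))
  · exact Amalgam.le_of_le_sup_commutator (Q := vertexQ p lam) ((Fusion.isPGroup_pCore p _).map _) hVQ
      ((Amalgam.vertexQ_le_edge hC hδ).trans (inf_le_right.trans (Amalgam.le_normalizer_vertexVIter hC.1 _ δ))) hV'

end Cfsg.Agent.S2856
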