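import Cfsg.Statements.S2857
import Cfsg.Agent.Lib.LocalEven.AmalgamVertexV

set_option autoImplicit false
open scoped commutatorElement
open Cfsg

namespace Cfsg.Agent.S2857

theorem result {X : Type*} [Group X] {p : ℕ} [Fact p.Prime] (M₁ M₂ : Subgroup X) (h : Cfsg.IsSpeAmalgamPair p M₁ M₂) (lam : Cfsg.CosetVertex M₁ M₂) (n : ℕ) (hn : 2 ≤ n) (hVQ : Cfsg.vertexVIter p M₁ M₂ n lam ≤ Cfsg.vertexQ p lam) : ¬ ⁅Cfsg.vertexVIter p M₁ M₂ n lam, ((Cfsg.pResidual p ↥(Cfsg.pElementClosure p (MulAction.stabilizer X lam))).map (Cfsg.pElementClosure p (MulAction.stabilizer X lam)).subtype)⁆ ≤ Cfsg.vertexVIter p M₁ M₂ (n - 2) lam := by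
  intro hle
  obtain ⟨δ, hδ⟩ := Amalgam.exists_adj lam
  have h1 : vertexVIter p M₁ M₂ (n - 2) lam ≤ vertexVIter p M₁ M₂ (n - 1) δ := by
    have := Amalgam.vertexVIter_le_of_adj (p := p) h.1.1 hδ.symm (n - 2)
    rwa [show n - 2 + 1 = n - 1 by omega] at this
  refine Amalgam.vIter_absurd h hδ n (by omega) hVQ _ (Amalgam.le_normalizer_vertexVIter h.1.1 _ lam) ?_ hle
    (fun hV => hV.trans (sup_le le_rfl h1))
  have := Amalgam.vertexVIter_le_of_adj (p := p) h.1.1 hδ (n - 1)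
  rw [show n - 1 + 1 = n by omega] at this
  exact h1.trans this

end Cfsg.Agent.S2857
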