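import Cfsg.Statements.S2859
import Cfsg.Agent.Lib.LocalEven.ResidualOf
import Cfsg.Agent.Lib.LocalEven.WeaklyClosedCentralizer
import Cfsg.Agent.Lib.Fusion.WeakClosureFunctor

set_option autoImplicit false
set_option maxHeartbeats 1000000
open scoped commutatorElement
open Cfsg

namespace Cfsg.Agent.S2859

open Cfsg.Agent.Fusion Cfsg.Agent.LocalEven

theorem cancel {Γ : Type*} [Group Γ] (A B : Subgroup Γ) [hA : A.Normal] [hB : B.Normal]
    (hc : ∀ a ∈ A, ∀ b ∈ B, ⁅a, b⁆ ∈ Subgroup.center Γ) {k x y h : Γ} (hk : k ∈ A) (hx : x ∈ A)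
    (hy : y ∈ B) (hh : h ∈ B) : ⁅⁅k, x * y⁆, h⁆ = 1 := by
  have hcen : ∀ z ∈ Subgroup.center Γ, ∀ g, g * z = z * g := fun z hz => Subgroup.mem_center_iff.1 hz
  have l1 : ∀ a ∈ A, ∀ a' ∈ A, ∀ b ∈ B, ⁅a * a', b⁆ = ⁅a', b⁆ * ⁅a, b⁆ := by
    intro a _ a' ha' b hb
    rw [show ⁅a * a', b⁆ = a * ⁅a', b⁆ * a⁻¹ * ⁅a, b⁆ by simp only [commutatorElement_def]; group,
      hcen _ (hc a' ha' b hb) a, mul_inv_cancel_right]
  have l2 : ∀ a ∈ A, ∀ b ∈ B, ∀ b' ∈ B, ⁅a, b * b'⁆ = ⁅a, b⁆ * ⁅a, b'⁆ := by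
    intro a ha b _ b' hb'
    rw [show ⁅a, b * b'⁆ = ⁅a, b⁆ * (b * ⁅a, b'⁆ * b⁻¹) by simp only [commutatorElement_def]; group,
      hcen _ (hc a ha b' hb') b, mul_inv_cancel_right]
  have key : ∀ a ∈ A, ⁅(x * y) * a * (x * y)⁻¹, h⁆ = ⁅a, h⁆ := by
    intro a ha
    have hr : ⁅h⁻¹, x⁻¹⁆ ∈ Subgroup.center Γ := by
      rw [← commutatorElement_inv]; exact inv_mem (hc _ (inv_mem hx) _ (inv_mem hh))
    have hr' : ⁅h⁻¹, x⁻¹⁆ ∈ B := by
      rw [commutatorElement_def, inv_inv, inv_inv, mul_assoc, mul_assoc, ← mul_assoc x⁻¹]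
      exact mul_mem (inv_mem hh) (by simpa using hB.conj_mem h hh x⁻¹)
    have e : (x * y)⁻¹ * h * (x * y) = y⁻¹ * h * y * ⁅h⁻¹, x⁻¹⁆ := by
      rw [mul_assoc _ y, hcen _ hr y]
      simp only [commutatorElement_def]; group
    have h1 : (x * y) * a * (x * y)⁻¹ ∈ A := hA.conj_mem a ha _
    have hd : ⁅(x * y) * a * (x * y)⁻¹, h⁆ = (x * y) * ⁅a, (x * y)⁻¹ * h * (x * y)⁆ * (x * y)⁻¹ := by
      simp only [commutatorElement_def]; group
    have hz : (x * y)⁻¹ * h * (x * y) ∈ B := by simpa using hB.conj_mem h hh (x * y)⁻¹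
    rw [hd, hcen _ (hc a ha _ hz) (x * y), mul_inv_cancel_right, e,
      l2 a ha _ (mul_mem (mul_mem (inv_mem hy) hh) hy) _ hr',
      commutatorElement_eq_one_iff_mul_comm.2 (hcen _ hr a), mul_one,
      l2 a ha _ (mul_mem (inv_mem hy) hh) _ hy, l2 a ha _ (inv_mem hy) _ hh,
      hcen _ (hc a ha h hh) ⁅a, y⁻¹⁆, mul_assoc, ← l2 a ha _ (inv_mem hy) _ hy, inv_mul_cancel,
      commutatorElement_one_right, mul_one]
  have hu : (x * y) * k⁻¹ * (x * y)⁻¹ ∈ A := hA.conj_mem _ (inv_mem hk) _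
  rw [show ⁅k, x * y⁆ = k * ((x * y) * k⁻¹ * (x * y)⁻¹) by simp only [commutatorElement_def]; group,
    l1 k hk _ hu h hh, key _ (inv_mem hk), ← l1 k hk _ (inv_mem hk) h hh, mul_inv_cancel,
    commutatorElement_one_left]

theorem side {G : Type*} [Group G] [Finite G] {p : ℕ} [Fact p.Prime] (Q : Subgroup G)
    (hwc : IsWeaklyClosedSubgroup p Q) (Hc : Subgroup G) (hHc : Hc = weakClosure Q ⊤) (H H' : Subgroup G)
    (hH : H ≤ Hc ∧ Hc ≤ Subgroup.normalizer (H : Set G)) (hH' : H' ≤ Hc ∧ Hc ≤ Subgroup.normalizer (H' : Set G))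
    (hprod : H ⊔ H' = Hc) (hcomm : ⁅H, H'⁆ ≤ Subgroup.normalizer (Q : Set G)) :
    let K := (pResidual p ↥(weakClosure Q (H ⊔ Q))).map (weakClosure Q (H ⊔ Q)).subtype
    ⁅K, Q⁆ = K ∧ ⁅K, H⁆ = K ∧ K ≤ ⁅H, H⁆ ∧ Hc ≤ Subgroup.normalizer (K : Set G) ∧
      ⁅K, H'⁆ ≤ pCoreOf p Hc ∧ K ≤ H ∧ weakClosure Q (H ⊔ Q) = K ⊔ Q ∧
      H ≤ Subgroup.normalizer (weakClosure Q (H ⊔ Q) : Set G) := by
  intro K
  obtain ⟨W, hW⟩ : ∃ W, W = weakClosure Q (H ⊔ Q) := ⟨_, rfl⟩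
  have hK : K = (pResidual p ↥W).map W.subtype := by subst hW; rfl
  rw [← hW]
  clear_value K
  have hQp := Weak.isPGroup_of_weak hwc
  have hle : ∀ g : G, cj Q g ≤ Hc := fun g =>
    hHc.symm ▸ le_iSup (fun g : {g : G // cj Q g ≤ ⊤} => cj Q g) ⟨g, le_top⟩
  have hQc : Q ≤ Hc := cj_one Q ▸ hle 1
  -- the weak closure inside `H Q`
  have hQW : Q ≤ W := by
    rw [hW]
    have := le_iSup (fun g : {g : G // cj Q g ≤ H ⊔ Q} => cj Q g) ⟨1, (cj_one Q).le.trans le_sup_right⟩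
    exact (cj_one Q).ge.trans this
  have hWle : W ≤ H ⊔ Q := hW ▸ iSup_le fun g => g.2
  have hWmem : ∀ g : G, cj Q g ≤ H ⊔ Q → cj Q g ≤ W := fun g hg =>
    hW ▸ le_iSup (fun g : {g : G // cj Q g ≤ H ⊔ Q} => cj Q g) ⟨g, hg⟩
  have hgenW : ∀ X : Subgroup G, Q ≤ X → W ≤ Subgroup.normalizer (X : Set G) → W ≤ X := by
    intro X hQX hX
    conv_lhs => rw [hW]
    refine iSup_le fun g => ?_
    obtain ⟨k, hk, he⟩ := Weak.conj_in hwc hQW (hWmem g g.2)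
    exact he.trans_le ((cj_mono hQX k).trans (cj_eq_self (hX hk)).le)
  have hHW : H ≤ Subgroup.normalizer (W : Set G) := fun x hx => mem_normalizer_of_cj_le (by
    conv_lhs => rw [hW]
    refine Subgroup.map_le_iff_le_comap.2 (iSup_le fun g => Subgroup.map_le_iff_le_comap.1 ?_)
    show cj (cj Q g) x ≤ W
    rw [cj_cj]
    refine hWmem _ ?_
    rw [← cj_cj]
    exact (cj_mono g.2 x).trans (cj_eq_self_of_mem (le_sup_left (b := Q) hx)).le)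
  have hWN : W ≤ Subgroup.normalizer (K : Set G) :=
    hK ▸ Subgroup.le_normalizer.trans (Res.normalizer_le W)
  obtain ⟨S, hS, hQS⟩ := exists_sylIn_ge hQp hQW
  have hWS : K ⊔ S = W := hK ▸ Res.sup_sylIn hS
  have hSQ : S ≤ Subgroup.normalizer (Q : Set G) := Weak.le_normalizer hwc hS.isPGroup hQS
  have hWKQ : W = K ⊔ Q := by
    refine le_antisymm (hgenW _ le_sup_right (hWS.ge.trans (sup_le (le_sup_left.trans Subgroup.le_normalizer) ?_)))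
      (sup_le (hK ▸ Res.le_self W) hQW)
    intro s hs
    rw [mem_normalizer_iff_cj, cj_sup, cj_eq_self (hWN (hS.le hs)), cj_eq_self (hSQ hs)]
  have hKW : K ≤ W := hK ▸ Res.le_self W
  have hQH : Q ≤ Subgroup.normalizer (H : Set G) := hQc.trans hH.2
  have hKH : K ≤ H := hK ▸ (Res.le_of_sup hQp hQH hWle).trans (Res.le_self H)
  have hKres : K = (pResidual p ↥K).map K.subtype := by subst hK; exact (Res.idem W).symm
  have hKN : H ≤ Subgroup.normalizer (K : Set G) := hK ▸ hHW.trans (Res.normalizer_le W)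
  have hKQ : ⁅K, Q⁆ = K := by
    refine le_antisymm (Subgroup.le_normalizer_iff_commutator_le_left.1 (hQW.trans hWN)) ?_
    have hW' : W ≤ ⁅K, Q⁆ ⊔ Q := by
      refine hgenW _ le_sup_right (hWKQ.le.trans (sup_le (fun k hk => mem_normalizer_of_cj_le ?_)
        (le_sup_right.trans Subgroup.le_normalizer)))
      rw [cj_sup]
      refine sup_le ((cj_eq_self (Subgroup.normalizer_commutator_ge_left K Q hk)).le.trans le_sup_left) ?_
      rintro _ ⟨q, hq, rfl⟩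
      rw [show (MulAut.conj k).toMonoidHom q = ⁅k, q⁆ * q by simp [commutatorElement_def]]
      exact mul_mem (Subgroup.mem_sup_left (Subgroup.commutator_mem_commutator hk hq)) (Subgroup.mem_sup_right hq)
    calc K = (pResidual p ↥W).map W.subtype := hK
      _ ≤ _ := Res.le_of_sup hQp (Subgroup.normalizer_commutator_ge_right K Q) hW'
      _ ≤ ⁅K, Q⁆ := Res.le_self _
  -- `[H, H']` is central modulo `O_p(Hc)`
  obtain ⟨P, hP⟩ : ∃ P, P = pCoreOf p Hc := ⟨_, rfl⟩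
  rw [← hP]
  have hPn : Hc ≤ Subgroup.normalizer (P : Set G) := hP ▸ Fusion.le_normalizer_pCoreOf Hc
  have hPc : P ≤ Hc := hP ▸ Fusion.pCoreOf_le _
  have hR1 : ⁅H, H'⁆ ≤ Hc := Subgroup.commutator_le.2 fun a ha b hb =>
    mul_mem (mul_mem (mul_mem (hH.1 ha) (hH'.1 hb)) (inv_mem (hH.1 ha))) (inv_mem (hH'.1 hb))
  have hR2 : Hc ≤ Subgroup.normalizer ((⁅H, H'⁆ : Subgroup G) : Set G) := fun g hg => by
    rw [mem_normalizer_iff_cj, cj_commutator, cj_eq_self (hH.2 hg), cj_eq_self (hH'.2 hg)]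
  have hRQ : ⁅⁅H, H'⁆, Q⁆ ≤ P := by
    have h1 : ⁅⁅H, H'⁆, Q⁆ ≤ Q := Subgroup.le_normalizer_iff_commutator_le_right.1 hcomm
    have h2 : ⁅⁅H, H'⁆, Q⁆ ≤ ⁅H, H'⁆ := Subgroup.le_normalizer_iff_commutator_le_left.1 (hQc.trans hR2)
    have h3 := Fusion.le_pCoreOf h2 (Subgroup.normalizer_commutator_ge_left _ Q) (hQp.to_le h1)
    refine h3.trans (hP ▸ Fusion.le_pCoreOf ((Fusion.pCoreOf_le _).trans hR1) ?_ (Fusion.pCoreOf_isPGroup _))
    exact hR2.trans (fun g hg => WeaklyClosedCentralizer.pCoreOf_invariant hg)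
  have hconj : ∀ g : G, ∃ k ∈ Hc, cj Q g = cj Q k := fun g => Weak.conj_in hwc hQc (hle g)
  have hcen : ∀ r ∈ ⁅H, H'⁆, ∀ z ∈ Hc, ⁅r, z⁆ ∈ P := by
    intro r hr z hz
    rw [hHc, weakClosure] at hz
    have main : z ∈ Hc ∧ ∀ r ∈ ⁅H, H'⁆, ⁅r, z⁆ ∈ P := by
      induction hz using Subgroup.iSup_induction' with
      | hp g x hx =>
        obtain ⟨k, hk, he⟩ := hconj g
        change x ∈ cj Q g at hx
        refine ⟨hle g hx, fun r hr => ?_⟩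
        rw [he] at hx
        have h := (cj_mono hRQ k).trans (cj_eq_self (hPn hk)).le
        rw [cj_commutator, cj_eq_self (hR2 hk)] at h
        exact h (Subgroup.commutator_mem_commutator hr hx)
      | h1 => exact ⟨one_mem _, fun r _ => by simp⟩
      | hmul x y _ _ hx hy =>
        refine ⟨mul_mem hx.1 hy.1, fun r hr => ?_⟩
        rw [show ⁅r, x * y⁆ = ⁅r, x⁆ * (x * ⁅r, y⁆ * x⁻¹) by simp only [commutatorElement_def]; group]
        exact mul_mem (hx.2 r hr) ((Subgroup.mem_normalizer_iff.1 (hPn hx.1) _).1 (hy.2 r hr))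
    exact main.2 r hr
  have hKH' : ⁅K, H'⁆ ≤ P := by
    obtain ⟨π, hπ⟩ : ∃ π : ↥Hc →* ↥Hc ⧸ pCore p ↥Hc, π = QuotientGroup.mk' _ := ⟨_, rfl⟩
    have hπ1 : ∀ z : ↥Hc, π z = 1 ↔ (z : G) ∈ P := fun z => by
      rw [hπ, QuotientGroup.mk'_apply, QuotientGroup.eq_one_iff, hP, pCoreOf]
      exact ⟨fun h => ⟨z, h, rfl⟩, fun ⟨w, hw, e⟩ => Subtype.ext e ▸ hw⟩
    have hs : Function.Surjective π := hπ ▸ QuotientGroup.mk'_surjective _
    haveI : (H.subgroupOf Hc).Normal := Subgroup.normal_subgroupOf_of_le_normalizer hH.2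
    haveI : (H'.subgroupOf Hc).Normal := Subgroup.normal_subgroupOf_of_le_normalizer hH'.2
    haveI := Subgroup.Normal.map (inferInstance : (H.subgroupOf Hc).Normal) π hs
    haveI := Subgroup.Normal.map (inferInstance : (H'.subgroupOf Hc).Normal) π hs
    have hZ : ∀ a ∈ (H.subgroupOf Hc).map π, ∀ b ∈ (H'.subgroupOf Hc).map π, ⁅a, b⁆ ∈ Subgroup.center _ := by
      rintro _ ⟨a, ha, rfl⟩ _ ⟨b, hb, rfl⟩
      refine Subgroup.mem_center_iff.2 fun z => ?_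
      obtain ⟨z, rfl⟩ := hs z
      refine (commutatorElement_eq_one_iff_mul_comm.1 ?_).symm
      rw [← map_commutatorElement, ← map_commutatorElement, hπ1]
      exact hcen _ (Subgroup.commutator_mem_commutator ha hb) _ z.2
    have hmem : ∀ u : G, u ∈ K → ∀ h ∈ H', ⁅u, h⁆ ∈ P := by
      intro u hu
      rw [← hKQ, Subgroup.commutator_def] at hu
      have main : u ∈ Hc ∧ ∀ h ∈ H', ⁅u, h⁆ ∈ P := by
        induction hu using Subgroup.closure_induction with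
        | mem x hx =>
          obtain ⟨k, hk, q, hq, rfl⟩ := hx
          have hq' : q ∈ H ⊔ H' := hprod ▸ hQc hq
          rw [← SetLike.mem_coe, Subgroup.coe_mul_of_left_le_normalizer_right H H' (hH.1.trans hH'.2)] at hq'
          obtain ⟨x, hx, y, hy, rfl⟩ := hq'
          refine ⟨mul_mem (mul_mem (mul_mem (hH.1 (hKH hk)) (hQc hq)) (inv_mem (hH.1 (hKH hk)))) (inv_mem (hQc hq)),
            fun h hh => ?_⟩
          have := cancel _ _ hZ (k := π ⟨k, hH.1 (hKH hk)⟩) (x := π ⟨x, hH.1 hx⟩) (y := π ⟨y, hH'.1 hy⟩)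
            (h := π ⟨h, hH'.1 hh⟩) ⟨_, hKH hk, rfl⟩ ⟨_, hx, rfl⟩ ⟨_, hy, rfl⟩ ⟨_, hh, rfl⟩
          rw [← map_mul, ← map_commutatorElement, ← map_commutatorElement, hπ1] at this
          exact this
        | one => exact ⟨one_mem _, fun h _ => by simp⟩
        | mul x y _ _ hx hy =>
          refine ⟨mul_mem hx.1 hy.1, fun h hh => ?_⟩
          rw [show ⁅x * y, h⁆ = x * ⁅y, h⁆ * x⁻¹ * ⁅x, h⁆ by simp only [commutatorElement_def]; group]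
          exact mul_mem ((Subgroup.mem_normalizer_iff.1 (hPn hx.1) _).1 (hy.2 h hh)) (hx.2 h hh)
        | inv x _ hx =>
          refine ⟨inv_mem hx.1, fun h hh => ?_⟩
          rw [show ⁅x⁻¹, h⁆ = x⁻¹ * ⁅x, h⁆⁻¹ * x⁻¹⁻¹ by simp only [commutatorElement_def]; group]
          exact (Subgroup.mem_normalizer_iff.1 (hPn (inv_mem hx.1)) _).1 (inv_mem (hx.2 h hh))
      exact main.2
    exact Subgroup.commutator_le.2 hmem
  -- `Hc` normalizes `K`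
  have hPH : P ⊓ H ≤ Subgroup.normalizer (K : Set G) := inf_le_right.trans hKN
  have hPHp : IsPGroup p ↥(P ⊓ H) := (hP ▸ Fusion.pCoreOf_isPGroup Hc : IsPGroup p P).to_le inf_le_left
  have hH'K : H' ≤ Subgroup.normalizer (K : Set G) := fun h hh => mem_normalizer_of_cj_le (by
    refine le_trans (le_of_eq (congrArg (fun X => cj X h) hKres)) (Subgroup.map_le_iff_le_comap.2
      (Res.res_le fun k hk hc => ?_))
    show h * k * h⁻¹ ∈ K
    have h1 : k⁻¹ * (h * k * h⁻¹) ∈ P ⊓ H := by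
      refine Subgroup.mem_inf.2 ⟨?_, mul_mem (inv_mem (hKH hk)) ((Subgroup.mem_normalizer_iff.1 (hH.2 (hH'.1 hh)) k).1 (hKH hk))⟩
      rw [show k⁻¹ * (h * k * h⁻¹) = ⁅k⁻¹, h⁆ by simp only [commutatorElement_def]; group]
      exact hKH' (Subgroup.commutator_mem_commutator (inv_mem hk) hh)
    have h2 : h * k * h⁻¹ ∈ K ⊔ (P ⊓ H) := by
      rw [← mul_inv_cancel_left k (h * k * h⁻¹)]
      exact mul_mem (Subgroup.mem_sup_left hk) (Subgroup.mem_sup_right h1)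
    refine Res.le_self K (Res.le_of_sup hPHp hPH le_rfl (Res.mem_res h2 ?_))
    rwa [show h * k * h⁻¹ = (MulAut.conj h) k from rfl, MulEquiv.orderOf_eq])
  have hHcK : Hc ≤ Subgroup.normalizer (K : Set G) := hprod ▸ sup_le hKN hH'K
  have hKH2 : ⁅K, H⁆ = K := by
    refine le_antisymm (Subgroup.le_normalizer_iff_commutator_le_left.1 hKN) ?_
    have hD : Hc ≤ Subgroup.normalizer ((⁅K, H⁆ : Subgroup G) : Set G) := fun g hg => by
      rw [mem_normalizer_iff_cj, cj_commutator, cj_eq_self (hHcK hg), cj_eq_self (hH.2 hg)]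
    have h1 : K ≤ ⁅K, H⁆ ⊔ P := by
      conv_lhs => rw [← hKQ]
      refine Subgroup.commutator_le.2 fun k hk q hq => ?_
      have hq' : q ∈ H ⊔ H' := hprod ▸ hQc hq
      rw [← SetLike.mem_coe, Subgroup.coe_mul_of_left_le_normalizer_right H H' (hH.1.trans hH'.2)] at hq'
      obtain ⟨x, hx, y, hy, rfl⟩ := hq'
      rw [show ⁅k, x * y⁆ = ⁅k, x⁆ * (x * ⁅k, y⁆ * x⁻¹) by simp only [commutatorElement_def]; group]
      exact mul_mem (Subgroup.mem_sup_left (Subgroup.commutator_mem_commutator hk hx)) (Subgroup.mem_sup_right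
        ((Subgroup.mem_normalizer_iff.1 (hPn (hH.1 hx)) _).1 (hKH' (Subgroup.commutator_mem_commutator hk hy))))
    calc K = (pResidual p ↥K).map K.subtype := hKres
      _ ≤ _ := Res.le_of_sup (hP ▸ Fusion.pCoreOf_isPGroup Hc : IsPGroup p P) (hPc.trans hD) h1
      _ ≤ ⁅K, H⁆ := Res.le_self _
  exact ⟨hKQ, hKH2, hKH2.ge.trans (Subgroup.commutator_mono hKH le_rfl), hHcK, hKH', hKH, hWKQ, hHW⟩

theorem result {G : Type*} [Group G] [Finite G] {p : ℕ} [Fact p.Prime] (Q : Subgroup G) (hQp : IsPGroup p ↥Q) (hQ1 : Q ≠ ⊥) (hwc : Cfsg.IsWeaklyClosedSubgroup p Q) (Hc : Subgroup G) (hHc : Hc = Cfsg.weakClosure Q ⊤) (H₁ H₂ : Subgroup G) (hn₁ : H₁ ≤ Hc ∧ Hc ≤ Subgroup.normalizer ((H₁ : Subgroup G) : Set G)) (hn₂ : H₂ ≤ Hc ∧ Hc ≤ Subgroup.normalizer ((H₂ : Subgroup G) : Set G)) (hprod : H₁ ⊔ H₂ = Hc) (hcomm : ⁅H₁, H₂⁆ ≤ Subgroup.normalizer ((Q : Subgroup G) : Set G)) (K₁ K₂ : Subgroup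 G) (hK₁ : K₁ = ((Cfsg.pResidual p ↥(Cfsg.weakClosure Q (H₁ ⊔ Q))).map ((Cfsg.weakClosure Q (H₁ ⊔ Q))).subtype)) (hK₂ : K₂ = ((Cfsg.pResidual p ↥(Cfsg.weakClosure Q (H₂ ⊔ Q))).map ((Cfsg.weakClosure Q (H₂ ⊔ Q))).subtype)) : (⁅K₁, Q⁆ = K₁ ∧ ⁅K₁, H₁⁆ = K₁ ∧ K₁ ≤ ⁅H₁, H₁⁆ ∧ Hc ≤ Subgroup.normalizer ((K₁ : Subgroup G) : Set G)) ∧ (⁅K₂, Q⁆ = K₂ ∧ ⁅K₂, H₂⁆ = K₂ ∧ K₂ ≤ ⁅H₂, H₂⁆ ∧ Hc ≤ Subgroup.normalizer ((K₂ : Subgroup G) : Set G)) ∧ K₁ ⊔ K₂ = ((Cfsg.pResidual p ↥Hc).map (Hc).subtype) ∧ ⁅K₁, K₂⁆ ≤ (Cfsg.pCoreOf p Hc) := by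
  obtain ⟨a1, a2, a3, a4, a5, -, a7, a8⟩ := side Q hwc Hc hHc H₁ H₂ hn₁ hn₂ hprod hcomm
  obtain ⟨b1, b2, b3, b4, -, b6, b7, b8⟩ := side Q hwc Hc hHc H₂ H₁ hn₂ hn₁ (sup_comm H₂ H₁ ▸ hprod)
    (Subgroup.commutator_comm H₂ H₁ ▸ hcomm)
  subst hK₁ hK₂
  refine ⟨⟨a1, a2, a3, a4⟩, ⟨b1, b2, b3, b4⟩, ?_, (Subgroup.commutator_mono le_rfl b6).trans a5⟩
  have hle : ∀ g : G, cj Q g ≤ Hc := fun g =>
    hHc.symm ▸ le_iSup (fun g : {g : G // cj Q g ≤ ⊤} => cj Q g) ⟨g, le_top⟩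
  have hQc : Q ≤ Hc := cj_one Q ▸ hle 1
  have hW : ∀ H : Subgroup G, H ≤ Hc → weakClosure Q (H ⊔ Q) ≤ Hc := fun H hH =>
    iSup_le fun g => g.2.trans (sup_le hH hQc)
  generalize hN : (pResidual p ↥(weakClosure Q (H₁ ⊔ Q))).map (weakClosure Q (H₁ ⊔ Q)).subtype ⊔
    (pResidual p ↥(weakClosure Q (H₂ ⊔ Q))).map (weakClosure Q (H₂ ⊔ Q)).subtype = N
  refine le_antisymm (hN ▸ sup_le (Res.mono (hW _ hn₁.1)) (Res.mono (hW _ hn₂.1))) ?_
  have hNn : Hc ≤ Subgroup.normalizer (N : Set G) := fun g hg => by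
    rw [mem_normalizer_iff_cj, ← hN, cj_sup, cj_eq_self (a4 hg), cj_eq_self (b4 hg)]
  have h1 : ∀ H : Subgroup G, H ≤ Hc → weakClosure Q (H ⊔ Q) ≤ N ⊔ Q →
      H ≤ Subgroup.normalizer (weakClosure Q (H ⊔ Q) : Set G) → H ≤ Subgroup.normalizer ((N ⊔ Q : Subgroup G) : Set G) := by
    intro H hH hWle hHW g hg
    refine mem_normalizer_of_cj_le ?_
    rw [cj_sup, cj_eq_self (hNn (hH hg))]
    refine sup_le le_sup_left (le_trans ?_ hWle)
    refine (cj_mono ?_ g).trans (cj_eq_self (hHW hg)).le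
    exact (cj_one Q).ge.trans (le_iSup (fun g : {g : G // cj Q g ≤ H ⊔ Q} => cj Q g) ⟨1, (cj_one Q).le.trans le_sup_right⟩)
  have hX : Hc ≤ Subgroup.normalizer ((N ⊔ Q : Subgroup G) : Set G) := hprod ▸ sup_le
    (h1 _ hn₁.1 (a7.le.trans (sup_le_sup_right (hN ▸ le_sup_left) Q)) a8)
    (h1 _ hn₂.1 (b7.le.trans (sup_le_sup_right (hN ▸ le_sup_right) Q)) b8)
  have hcN : Hc ≤ N ⊔ Q := by
    conv_lhs => rw [hHc]
    refine iSup_le fun g => ?_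
    obtain ⟨k, hk, he⟩ := Weak.conj_in hwc hQc (hle g)
    exact he.trans_le ((cj_mono le_sup_right k).trans (cj_eq_self (hX hk)).le)
  exact (Res.le_of_sup hQp (hQc.trans hNn) hcN).trans (Res.le_self N)

end Cfsg.Agent.S2859
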