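import Cfsg.Statements.S2860
import Cfsg.Agent.S2843
import Cfsg.Agent.S2845
import Cfsg.Agent.Lib.LocalEven.ResidualOf
import Cfsg.Agent.Lib.LocalEven.LargeBasic
import Cfsg.Agent.Lib.LocalEven.WeaklyClosedCentralizer
import Cfsg.Agent.Lib.Solv.Component
import Cfsg.Agent.Lib.Local.Basics
import Cfsg.Agent.Lib.Perm.Subnormalizer

set_option autoImplicit false
set_option maxHeartbeats 2000000
open scoped commutatorElement
open Cfsg

namespace Cfsg.Agent.S2860

theorem central_ext {H K : Type*} [Group H] [Group K] (f : H →* K) (hf : Function.Surjective f)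
    (hk : f.ker ≤ Subgroup.center H) [hH : Group.IsPerfect H] (hK : IsQuasisimple K) : IsQuasisimple H := by
  have hperf : ⁅(⊤ : Subgroup H), (⊤ : Subgroup H)⁆ = ⊤ := by
    have := hH.commutator_eq_top
    rwa [commutator_def] at this
  have key : ∀ N : Subgroup H, N.Normal → N = ⊤ ∨ N ≤ Subgroup.center H := by
    intro N hN
    haveI := hN
    haveI : (N.map f).Normal := Subgroup.Normal.map hN f hf
    rcases Solv.qs_normal_le_center_or_top hK (N.map f) with h | h
    · left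
      have h2 : N ⊔ f.ker = ⊤ := by rw [← Subgroup.comap_map_eq, h, Subgroup.comap_top]
      rw [← top_le_iff, ← hperf, Subgroup.commutator_le]
      intro x _ y _
      obtain ⟨n, hn, z, hz, rfl⟩ := Subgroup.mem_sup_of_normal_left.1 (h2.ge (Subgroup.mem_top x))
      have hzy := Subgroup.mem_center_iff.1 (hk hz) y
      rw [show ⁅n * z, y⁆ = n * (z * y * z⁻¹) * n⁻¹ * y⁻¹ by simp only [commutatorElement_def]; group, ← hzy,
        mul_inv_cancel_right, mul_assoc n y, mul_assoc n]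
      exact mul_mem hn (hN.conj_mem _ (inv_mem hn) y)
    · right
      have h4 : ∀ n ∈ N, ∀ x : H, ⁅n, x⁆ ∈ Subgroup.center H := fun n hn x => hk (by
        rw [MonoidHom.mem_ker, map_commutatorElement, commutatorElement_eq_one_iff_mul_comm]
        exact (Subgroup.mem_center_iff.1 (h ⟨n, hn, rfl⟩) (f x)).symm)
      have h5 : ⁅⁅N, (⊤ : Subgroup H)⁆, (⊤ : Subgroup H)⁆ = ⊥ := le_bot_iff.1 <| by
        refine (Subgroup.commutator_mono (Subgroup.commutator_le.2 fun n hn x _ => h4 n hn x) le_rfl).trans ?_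
        refine Subgroup.commutator_le.2 fun z hz x _ => ?_
        rw [Subgroup.mem_bot, commutatorElement_eq_one_iff_mul_comm, Subgroup.mem_center_iff.1 hz x]
      have h6 : ⁅⁅(⊤ : Subgroup H), (⊤ : Subgroup H)⁆, N⁆ = ⊥ :=
        Subgroup.commutator_commutator_eq_bot_of_rotate (by rw [Subgroup.commutator_comm (⊤ : Subgroup H) N]; exact h5) h5
      rw [hperf] at h6
      intro n hn
      refine Subgroup.mem_center_iff.2 fun x => commutatorElement_eq_one_iff_mul_comm.1 ?_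
      rw [← Subgroup.mem_bot, ← h6]
      exact Subgroup.commutator_mem_commutator (Subgroup.mem_top x) hn
  refine ⟨hH, ?_⟩
  haveI := Solv.qs_nontrivial hK
  have hne : Subgroup.center H ≠ ⊤ := by
    intro h
    have h1 : (⊤ : Subgroup H) = ⊥ := by
      rw [← hperf]
      refine le_bot_iff.1 (Subgroup.commutator_le.2 fun a _ b _ => ?_)
      rw [Subgroup.mem_bot, commutatorElement_eq_one_iff_mul_comm]
      exact Subgroup.mem_center_iff.1 (h.ge (Subgroup.mem_top b)) a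
    obtain ⟨a, b, hab⟩ := exists_pair_ne K
    obtain ⟨x, rfl⟩ := hf a
    obtain ⟨y, rfl⟩ := hf b
    exact hab (by rw [Subgroup.mem_bot.1 (h1.le (Subgroup.mem_top x)), Subgroup.mem_bot.1 (h1.le (Subgroup.mem_top y))])
  haveI : Nontrivial (H ⧸ Subgroup.center H) := by
    by_contra hn
    rw [not_nontrivial_iff_subsingleton] at hn
    exact hne (top_le_iff.1 fun x _ => (QuotientGroup.eq_one_iff x).1 (Subsingleton.elim _ _))
  refine ⟨fun A hA => ?_⟩
  rcases key (A.comap (QuotientGroup.mk' _)) inferInstance with h | h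
  · exact Or.inr (top_le_iff.1 fun x _ => by
      obtain ⟨x, rfl⟩ := QuotientGroup.mk_surjective x
      exact h.ge (Subgroup.mem_top x))
  · refine Or.inl (le_bot_iff.1 fun x hx => ?_)
    obtain ⟨x, rfl⟩ := QuotientGroup.mk_surjective x
    exact Subgroup.mem_bot.2 ((QuotientGroup.eq_one_iff x).2 (h hx))

theorem result {G : Type*} [Group G] [Finite G] {p : ℕ} [Fact p.Prime] (Q : Subgroup G) (hQp : IsPGroup p ↥Q) (hQ1 : Q ≠ ⊥) (hQ : Cfsg.IsLarge Q) (U : Subgroup G) (hU : Cfsg.IsElementaryAbelian p U) (hU1 : U ≠ ⊥) (E : Subgroup G) (hQE : Q ≤ E) (hEU : E ≤ Subgroup.normalizer ((U : Subgroup G) : Set G)) (hQn : ¬ E ≤ Subgroup.normalizer ((Q : Subgroup G) : Set G)) [hn : ((Subgroup.centralizer ((U : Subgroup G) : Set G)).subgroupOf E).Normal] (hred : Cfsg.pCore p (↥E ⧸ (Subgroup.centralizer ((U : Subgroup G) : Set G)).subgroupOf E) = ⊥) (hqs : Cfsg.IsQuasisimple ↥(((Cfsg.pResidual p ↥E) ⊔ (Subgroup.centralizer ((U : Subgroup G) : Set G)).subgroupOf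 E).map (QuotientGroup.mk' ((Subgroup.centralizer ((U : Subgroup G) : Set G)).subgroupOf E)))) (Er : Subgroup G) (hEr : Er = ((Cfsg.pResidual p ↥(Cfsg.weakClosure Q E)).map ((Cfsg.weakClosure Q E)).subtype)) [hn2 : ((Subgroup.centralizer ((U : Subgroup G) : Set G)).subgroupOf Er).Normal] : ((Cfsg.pResidual p ↥E).map (E).subtype) ⊔ (E ⊓ Subgroup.centralizer ((U : Subgroup G) : Set G)) = Er ⊔ (E ⊓ Subgroup.centralizer ((U : Subgroup G) : Set G)) ∧ ⁅Er, Er⁆ = Er ∧ ((Cfsg.pResidual p ↥Er).map (Er).subtype) = Er ∧ Cfsg.IsQuasisimple (↥Er ⧸ (Subgroup.centralizer ((U : Subgroup G) : Set G)).subgroupOf Er) ∧ Cfsg.IsQuasisimple (↥Er ⧸ Cfsg.pCore p ↥Er) ∧ ∀ Y : Subgroup G, Y ≤ E → IsPGroup p ↥Y → ¬ Y ≤ Subgroup.centralizer ((U : Subgroup G) : Set G) → ⁅Er, Y⁆ = Er := by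
  have hUp : IsPGroup p ↥U := fun v => ⟨1, Subtype.ext (by simpa using hU.2 v v.2)⟩
  have hwk := LocalEven.Large.weak hQp hQ1 hQ
  obtain ⟨C, hC⟩ : ∃ C, C = Subgroup.centralizer ((U : Subgroup G) : Set G) := ⟨_, rfl⟩
  obtain ⟨W, hW⟩ : ∃ W, W = weakClosure Q E := ⟨_, rfl⟩
  obtain ⟨-, hWC, -⟩ := Cfsg.Agent.S2843.result Q hQp hQ1 hQ E hQE U hUp hU1 hEU
  rw [← hW, ← hC] at hWC
  rw [← hW] at hEr
  have hWle : W ≤ E := hW ▸ iSup_le fun g => g.2
  have hWmem : ∀ g : G, Fusion.cj Q g ≤ E → Fusion.cj Q g ≤ W := fun g hg =>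
    hW ▸ le_iSup (fun g : {g : G // Fusion.cj Q g ≤ E} => Fusion.cj Q g) ⟨g, hg⟩
  have hQW : Q ≤ W := (Fusion.cj_one Q).ge.trans (hWmem 1 ((Fusion.cj_one Q).le.trans hQE))
  have hEW : E ≤ Subgroup.normalizer (W : Set G) := fun x hx => Fusion.mem_normalizer_of_cj_le (by
    conv_lhs => rw [hW]
    refine Subgroup.map_le_iff_le_comap.2 (iSup_le fun g => Subgroup.map_le_iff_le_comap.1 ?_)
    show Fusion.cj (Fusion.cj Q g) x ≤ W
    rw [Fusion.cj_cj]
    refine hWmem _ ?_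
    rw [← Fusion.cj_cj]
    exact (Fusion.cj_mono g.2 x).trans (Fusion.cj_eq_self_of_mem hx).le)
  have hgen : ∀ X : Subgroup G, Q ≤ X → W ≤ Subgroup.normalizer (X : Set G) → W ≤ X := by
    intro X hQX hX
    conv_lhs => rw [hW]
    refine iSup_le fun g => ?_
    obtain ⟨k, hk, he⟩ := LocalEven.Weak.conj_in hwk hQW (hWmem g g.2)
    exact he.trans_le ((Fusion.cj_mono hQX k).trans (Fusion.cj_eq_self (hX hk)).le)
  have hErW : Er ≤ W := hEr ▸ LocalEven.Res.le_self W
  have hErE : Er ≤ E := hErW.trans hWle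
  have hEEr : E ≤ Subgroup.normalizer (Er : Set G) := hEr ▸ hEW.trans (LocalEven.Res.normalizer_le W)
  have hErid : (pResidual p ↥Er).map Er.subtype = Er := by subst hEr; exact LocalEven.Res.idem W
  have hWEQ : W ≤ Er ⊔ Q := by
    obtain ⟨S, hS, hQS⟩ := Fusion.exists_sylIn_ge hQp hQW
    have hWS : Er ⊔ S = W := hEr ▸ LocalEven.Res.sup_sylIn hS
    refine hgen _ le_sup_right (hWS.ge.trans (sup_le (le_sup_left.trans Subgroup.le_normalizer) fun s hs => ?_))
    rw [Fusion.mem_normalizer_iff_cj, Fusion.cj_sup, Fusion.cj_eq_self ((hWle.trans hEEr) (hS.le hs)),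
      Fusion.cj_eq_self (LocalEven.Weak.le_normalizer hwk hS.isPGroup hQS hs)]
  have hErQ : ⁅Er, Q⁆ = Er := by
    refine le_antisymm (Subgroup.le_normalizer_iff_commutator_le_left.1 (hQE.trans hEEr)) ?_
    have hW' : W ≤ ⁅Er, Q⁆ ⊔ Q := by
      refine hgen _ le_sup_right (hWEQ.trans (sup_le (fun k hk => Fusion.mem_normalizer_of_cj_le ?_)
        (le_sup_right.trans Subgroup.le_normalizer)))
      rw [Fusion.cj_sup]
      refine sup_le ((Fusion.cj_eq_self (Subgroup.normalizer_commutator_ge_left Er Q hk)).le.trans le_sup_left) ?_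
      rintro _ ⟨q, hq, rfl⟩
      rw [show (MulAut.conj k).toMonoidHom q = ⁅k, q⁆ * q by simp [commutatorElement_def]]
      exact mul_mem (Subgroup.mem_sup_left (Subgroup.commutator_mem_commutator hk hq)) (Subgroup.mem_sup_right hq)
    calc Er = (pResidual p ↥W).map W.subtype := hEr
      _ ≤ _ := LocalEven.Res.le_of_sup hQp (Subgroup.normalizer_commutator_ge_right Er Q) hW'
      _ ≤ ⁅Er, Q⁆ := LocalEven.Res.le_self _
  -- the quotient `E / C_E(U)`
  obtain ⟨π, hπ⟩ : ∃ π : ↥E →* ↥E ⧸ (Subgroup.centralizer ((U : Subgroup G) : Set G)).subgroupOf E,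
    π = QuotientGroup.mk' _ := ⟨_, rfl⟩
  have hs : Function.Surjective π := hπ ▸ QuotientGroup.mk'_surjective _
  have hker : ∀ x : ↥E, π x = 1 ↔ (x : G) ∈ C := fun x => by
    rw [hπ, hC]; exact (QuotientGroup.eq_one_iff x).trans Subgroup.mem_subgroupOf
  obtain ⟨K, hK⟩ : ∃ K, K = ((pResidual p ↥E) ⊔ (Subgroup.centralizer ((U : Subgroup G) : Set G)).subgroupOf E).map π :=
    ⟨_, rfl⟩
  rw [← hπ, ← hK] at hqs
  have hKres : K = (pResidual p ↥E).map π := by
    rw [hK, Subgroup.map_sup, sup_eq_left]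
    rintro _ ⟨x, hx, rfl⟩
    rw [(hker x).2 (hC ▸ hx)]
    exact one_mem _
  haveI hKn : K.Normal := hKres ▸ Subgroup.Normal.map inferInstance π hs
  have hfree : ∀ Z : Subgroup (↥E ⧸ (Subgroup.centralizer ((U : Subgroup G) : Set G)).subgroupOf E),
      Z.IsSubnormal → IsPGroup p Z → Z = ⊥ := fun Z h1 h2 =>
    le_bot_iff.1 (hred ▸ Cfsg.Agent.Perm.subnormal_pgroup_le_pCore h1 h2)
  -- a `p`-subgroup centralizing `K` is trivial
  have hcent : ∀ Z : Subgroup (↥E ⧸ (Subgroup.centralizer ((U : Subgroup G) : Set G)).subgroupOf E),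
      IsPGroup p Z → ⁅K, Z⁆ = ⊥ → Z = ⊥ := by
    intro Z hZ hKZ
    obtain ⟨T, hZT⟩ := hZ.exists_le_sylow
    obtain ⟨D, hD⟩ : ∃ D, D = (T : Subgroup (↥E ⧸ (Subgroup.centralizer ((U : Subgroup G) : Set G)).subgroupOf E)) ⊓
      Subgroup.centralizer (K : Set (↥E ⧸ (Subgroup.centralizer ((U : Subgroup G) : Set G)).subgroupOf E)) := ⟨_, rfl⟩
    have hZD : Z ≤ D := hD ▸ le_inf hZT
      (Subgroup.commutator_eq_bot_iff_le_centralizer.1 (by rw [Subgroup.commutator_comm, hKZ]))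
    haveI : (Subgroup.centralizer (K : Set (↥E ⧸ (Subgroup.centralizer ((U : Subgroup G) : Set G)).subgroupOf E))).Normal :=
      Subgroup.normal_centralizer
    haveI : D.Normal := by
      rw [← Subgroup.normalizer_eq_top_iff, eq_top_iff, ← Fusion.pResidual_sup_sylow T,
        ← Fusion.map_pResidual_of_surjective (p := p) π hs, ← hKres]
      refine sup_le (fun r hr => Fusion.mem_normalizer_of_cj_le ?_) fun s hs' => ?_
      · rintro _ ⟨d, hd, rfl⟩
        have hd' := Subgroup.mem_inf.1 (hD ▸ hd)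
        rw [show (MulAut.conj r).toMonoidHom d = r * d * r⁻¹ from rfl,
          Subgroup.mem_centralizer_iff.1 hd'.2 r hr, mul_inv_cancel_right]
        exact hd
      · rw [Fusion.mem_normalizer_iff_cj, hD, Fusion.cj_inf, Fusion.cj_eq_self_of_mem hs', Fusion.cj_of_normal]
    exact le_bot_iff.1 (hZD.trans (hfree D (Subgroup.Normal.isSubnormal inferInstance)
      (T.isPGroup'.to_le (hD ▸ inf_le_left))).le)
  have hKperf : ⁅K, K⁆ = K := Solv.qs_self_commutator hqs
  -- normal subgroups of `K` normalized by `K`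
  have hKdich : ∀ A : Subgroup (↥E ⧸ (Subgroup.centralizer ((U : Subgroup G) : Set G)).subgroupOf E),
      A ≤ K → K ≤ Subgroup.normalizer (A : Set _) → A = K ∨ ⁅A, K⁆ = ⊥ := by
    intro A hAK hA
    haveI : (A.subgroupOf K).Normal := Subgroup.normal_subgroupOf_of_le_normalizer hA
    rcases Solv.qs_normal_le_center_or_top hqs (A.subgroupOf K) with h | h
    · exact Or.inl (le_antisymm hAK (Subgroup.subgroupOf_eq_top.1 h))
    · refine Or.inr (le_bot_iff.1 (Subgroup.commutator_le.2 fun a ha k hk => ?_))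
      rw [Subgroup.mem_bot, commutatorElement_eq_one_iff_mul_comm]
      exact (congrArg Subtype.val (Subgroup.mem_center_iff.1 (h (show (⟨a, hAK ha⟩ : ↥K) ∈ A.subgroupOf K from ha))
        ⟨k, hk⟩)).symm
  obtain ⟨Qb, hQb⟩ : ∃ Qb, Qb = (Q.subgroupOf E).map π := ⟨_, rfl⟩
  obtain ⟨Eb, hEb⟩ : ∃ Eb, Eb = (Er.subgroupOf E).map π := ⟨_, rfl⟩
  obtain ⟨Wb, hWb⟩ : ∃ Wb, Wb = (W.subgroupOf E).map π := ⟨_, rfl⟩
  haveI : (Er.subgroupOf E).Normal := Subgroup.normal_subgroupOf_of_le_normalizer hEEr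
  haveI : (W.subgroupOf E).Normal := Subgroup.normal_subgroupOf_of_le_normalizer hEW
  haveI hEbn : Eb.Normal := hEb ▸ Subgroup.Normal.map inferInstance π hs
  haveI hWbn : Wb.Normal := hWb ▸ Subgroup.Normal.map inferInstance π hs
  have hEbK : Eb ≤ K := by
    rw [hEb, hKres]
    refine Subgroup.map_mono fun x hx => ?_
    obtain ⟨y, hy, e⟩ := (hEr ▸ LocalEven.Res.mono hWle : Er ≤ (pResidual p ↥E).map E.subtype) hx
    exact Subtype.ext e ▸ hy
  have hQbp : IsPGroup p Qb := hQb ▸ (hQp.comap_of_injective E.subtype E.subtype_injective).map π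
  have hQb1 : Qb ≠ ⊥ := by
    intro h
    have h1 : Q ≤ C := fun q hq => (hker ⟨q, hQE hq⟩).1 (by
      rw [← Subgroup.mem_bot, ← h, hQb]; exact ⟨⟨q, hQE hq⟩, hq, rfl⟩)
    exact hQn (hEU.trans (hQ.2 U (Subgroup.le_centralizer_iff.1 (hC ▸ h1)) hU1))
  have hEbK' : Eb = K := by
    refine (hKdich Eb hEbK (by rw [Subgroup.normalizer_eq_top]; exact le_top)).resolve_right fun hZ => ?_
    have hWQ : Wb ≤ Eb ⊔ Qb := by
      rw [hWb, hEb, hQb, ← Subgroup.map_sup, ← Subgroup.subgroupOf_sup hErE hQE]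
      exact Subgroup.map_mono (Subgroup.comap_mono hWEQ)
    have h1 : ⁅K, Qb⁆ ≤ K ⊓ Wb := le_inf (Subgroup.commutator_le_left K Qb)
      ((Subgroup.commutator_mono le_rfl (hQb ▸ hWb ▸ Subgroup.map_mono (Subgroup.comap_mono hQW))).trans
        (Subgroup.commutator_le_right K Wb))
    rcases hKdich (K ⊓ Wb) inf_le_left (by rw [Subgroup.normalizer_eq_top]; exact le_top) with h | h
    · -- `K` would be abelian
      have hKW : K ≤ Eb ⊔ Qb := (inf_eq_left.1 h).trans hWQ
      obtain ⟨f, hf⟩ : ∃ f, f = QuotientGroup.mk' Eb := ⟨_, rfl⟩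
      have hp1 : IsPGroup p (K.map f) := by
        refine (hQbp.map f).to_le ((Subgroup.map_mono hKW).trans ?_)
        rw [Subgroup.map_sup, hf, QuotientGroup.map_mk'_self, bot_sup_eq]
      have hperf : ⁅K.map f, K.map f⁆ = K.map f := by rw [← Subgroup.map_commutator, hKperf]
      have h2 : K.map f = ⊥ := by
        by_contra hne
        haveI : Nontrivial ↥(K.map f) := (Subgroup.nontrivial_iff_ne_bot _).2 hne
        haveI : Finite ↥(K.map f) := inferInstance
        haveI := hp1.isNilpotent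
        have := Fusion.eq_bot_of_le_commutator_top (N := (⊤ : Subgroup ↥(K.map f))) (by
          refine (Subgroup.map_le_map_iff_of_injective (K.map f).subtype_injective).1 ?_
          rw [Subgroup.map_commutator, ← MonoidHom.range_eq_map, Subgroup.range_subtype, hperf])
        exact top_ne_bot this
      have hKE : K ≤ Eb := by
        rw [hf, Subgroup.map_eq_bot_iff, QuotientGroup.ker_mk'] at h2; exact h2
      refine Solv.qs_not_le_centralizer hqs (le_bot_iff.1 ?_)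
      exact (Subgroup.commutator_mono hKE le_rfl).trans hZ.le
    · have h3 : ⁅K, Qb⁆ = ⊥ := by
        have h4 : ⁅⁅K, Qb⁆, K⁆ = ⊥ := le_bot_iff.1 ((Subgroup.commutator_mono h1 le_rfl).trans h.le)
        have h5 := Subgroup.commutator_commutator_eq_bot_of_rotate (H₁ := K) (H₂ := K) (H₃ := Qb) h4
          (by rw [Subgroup.commutator_comm Qb K]; exact h4)
        rwa [hKperf] at h5
      exact hQb1 (hcent Qb hQbp h3)
  -- pulling back to `G`
  obtain ⟨O, hO⟩ : ∃ O, O = pCoreOf p Er := ⟨_, rfl⟩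
  have hOn : E ≤ Subgroup.normalizer (O : Set G) := hO ▸ fun e he =>
    LocalEven.WeaklyClosedCentralizer.pCoreOf_invariant (hEEr he)
  have hOp : IsPGroup p ↥O := hO ▸ Fusion.pCoreOf_isPGroup Er
  have hcom : ∀ e ∈ Er, ∀ z ∈ Er, z ∈ C → ⁅e, z⁆ ∈ O := by
    intro e he z hz hzC
    have h1 : ⁅e, z⁆ ∈ pCoreOf p W ⊓ Er := Subgroup.mem_inf.2 ⟨hWC (Subgroup.commutator_mem_commutator (hErW he) hzC),
      mul_mem (mul_mem (mul_mem he hz) (inv_mem he)) (inv_mem hz)⟩
    refine (hO ▸ Fusion.le_pCoreOf inf_le_right (fun x hx => ?_) ((Fusion.pCoreOf_isPGroup W).to_le inf_le_left) :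
      pCoreOf p W ⊓ Er ≤ O) h1
    rw [Fusion.mem_normalizer_iff_cj, Fusion.cj_inf, Fusion.cj_eq_self_of_mem hx,
      Fusion.cj_eq_self (Fusion.le_normalizer_pCoreOf W (hErW hx))]
  -- a subgroup of `Er` covering `K` contains `Er`
  have hcover : ∀ D : Subgroup G, D ≤ Er → Er ≤ Subgroup.normalizer (D : Set G) →
      K ≤ (D.subgroupOf E).map π → ∀ e ∈ Er, ∃ d ∈ D, ∃ z ∈ Er, z ∈ C ∧ e = d * z := by
    intro D hDEr hD hKD e he
    obtain ⟨d, hd, hde⟩ := hKD (hEbK'.le (show π ⟨e, hErE he⟩ ∈ Eb from hEb ▸ ⟨⟨e, hErE he⟩, he, rfl⟩))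
    refine ⟨d, hd, (d : G)⁻¹ * e, mul_mem (inv_mem (hDEr hd)) he, ?_, by group⟩
    have := (hker (d⁻¹ * ⟨e, hErE he⟩)).1 (by rw [map_mul, map_inv, hde, inv_mul_cancel])
    simpa using this
  have hperfEr : ⁅Er, Er⁆ = Er := by
    have hDEr : ⁅Er, Er⁆ ≤ Er := Subgroup.le_normalizer_iff_commutator_le_left.1 Subgroup.le_normalizer
    refine le_antisymm hDEr ?_
    have hDn : E ≤ Subgroup.normalizer ((⁅Er, Er⁆ : Subgroup G) : Set G) := fun x hx => by
      rw [Fusion.mem_normalizer_iff_cj, Fusion.cj_commutator, Fusion.cj_eq_self (hEEr hx)]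
    have hKD : K ≤ ((⁅Er, Er⁆ : Subgroup G).subgroupOf E).map π := by
      conv_lhs => rw [← hKperf, ← hEbK', hEb, ← Subgroup.map_commutator]
      refine Subgroup.map_mono (Subgroup.commutator_le.2 fun a ha b hb => ?_)
      exact Subgroup.commutator_mem_commutator ha hb
    have h1 : Er ≤ ⁅Er, Er⁆ ⊔ pCoreOf p W := by
      conv_lhs => rw [← hErQ]
      refine Subgroup.commutator_le.2 fun e he q hq => ?_
      obtain ⟨d, hd, z, hz, hzC, rfl⟩ := hcover _ hDEr (hErE.trans hDn) hKD e he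
      rw [show ⁅d * z, q⁆ = d * ⁅z, q⁆ * q * d⁻¹ * q⁻¹ by simp only [commutatorElement_def]; group]
      have hqd : q * d⁻¹ * q⁻¹ ∈ ⁅Er, Er⁆ := (Subgroup.mem_normalizer_iff.1 (hDn (hQE hq)) _).1 (inv_mem hd)
      have hzq : ⁅z, q⁆ ∈ pCoreOf p W := by
        rw [← commutatorElement_inv]; exact inv_mem (hWC (Subgroup.commutator_mem_commutator (hQW hq) hzC))
      have := mul_mem (mul_mem (Subgroup.mem_sup_left (T := pCoreOf p W) hd) (Subgroup.mem_sup_right hzq))
        (Subgroup.mem_sup_left hqd)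
      simpa [mul_assoc] using this
    calc Er = (pResidual p ↥Er).map Er.subtype := hErid.symm
      _ ≤ _ := LocalEven.Res.le_of_sup (Fusion.pCoreOf_isPGroup W) ((Fusion.pCoreOf_le W).trans (hWle.trans hDn)) h1
      _ ≤ _ := LocalEven.Res.le_self _
  haveI hErperf : Group.IsPerfect ↥Er := Subgroup.isPerfect_iff.2 hperfEr
  -- `Er / C_Er(U) ≅ K`
  obtain ⟨φ, hφ⟩ : ∃ φ : ↥Er →* ↥K, ∀ e, ((φ e) : _) = π ⟨e, hErE e.2⟩ :=
    ⟨(π.comp (Subgroup.inclusion hErE)).codRestrict K fun e => hEbK (hEb ▸ ⟨⟨e, hErE e.2⟩, e.2, rfl⟩), fun e => rfl⟩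
  have hφs : Function.Surjective φ := by
    rintro ⟨k, hk⟩
    rw [← hEbK', hEb] at hk
    obtain ⟨x, hx, rfl⟩ := hk
    exact ⟨⟨x, hx⟩, Subtype.ext (hφ _)⟩
  have hφk : φ.ker = (Subgroup.centralizer ((U : Subgroup G) : Set G)).subgroupOf Er := by
    ext e
    rw [MonoidHom.mem_ker, Subgroup.mem_subgroupOf]
    refine Iff.trans ?_ ((hker ⟨e, hErE e.2⟩).trans (Iff.of_eq (congrArg (fun X : Subgroup G => (e : G) ∈ X) hC)))
    rw [← hφ]
    exact ⟨fun h => by rw [h]; rfl, fun h => Subtype.ext h⟩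
  have hqsZ : IsQuasisimple (↥Er ⧸ (Subgroup.centralizer ((U : Subgroup G) : Set G)).subgroupOf Er) :=
    Local.isQuasisimple_congr ((QuotientGroup.quotientMulEquivOfEq hφk.symm).trans
      (QuotientGroup.quotientKerEquivOfSurjective φ hφs)).symm hqs
  have hOker : pCore p ↥Er ≤ φ.ker := by
    intro e he
    haveI : (pCore p ↥Er).Normal := inferInstance
    haveI h2 : ((pCore p ↥Er).map φ).Normal := Subgroup.Normal.map inferInstance φ hφs
    have h1 : ((pCore p ↥Er).map φ).map K.subtype = ⊥ := hfree _ (Subgroup.IsSubnormal.step _ K (Subgroup.map_subtype_le _)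
        (Subgroup.Normal.isSubnormal inferInstance) (by
          rw [show (((pCore p ↥Er).map φ).map K.subtype).subgroupOf K = (pCore p ↥Er).map φ from
            Subgroup.comap_map_eq_self_of_injective K.subtype_injective _]
          exact h2))
      (((Fusion.isPGroup_pCore p ↥Er).map φ).map K.subtype)
    rw [MonoidHom.mem_ker, ← Subgroup.mem_bot,
      ← (Subgroup.map_eq_bot_iff_of_injective _ K.subtype_injective).1 h1]
    exact ⟨e, he, rfl⟩
  have hqsO : IsQuasisimple (↥Er ⧸ pCore p ↥Er) := by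
    haveI : Group.IsPerfect (↥Er ⧸ pCore p ↥Er) :=
      Group.IsPerfect.ofSurjective (f := QuotientGroup.mk' _) (QuotientGroup.mk'_surjective _)
    refine central_ext (QuotientGroup.lift (pCore p ↥Er) φ hOker)
      (fun k => (hφs k).elim fun e he => ⟨QuotientGroup.mk e, he⟩) (fun z hz => ?_) hqs
    obtain ⟨e, rfl⟩ := QuotientGroup.mk_surjective z
    refine Subgroup.mem_center_iff.2 fun w => ?_
    obtain ⟨w, rfl⟩ := QuotientGroup.mk_surjective w
    rw [← commutatorElement_eq_one_iff_mul_comm]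
    refine (map_commutatorElement (QuotientGroup.mk' (pCore p ↥Er)) w e).symm.trans ((QuotientGroup.eq_one_iff _).2 ?_)
    have hz' : e ∈ φ.ker := hz
    rw [hφk, Subgroup.mem_subgroupOf, ← hC] at hz'
    obtain ⟨y, hy, ey⟩ := hO ▸ hcom w w.2 e e.2 hz'
    exact (Subtype.ext ey : y = ⁅w, e⁆) ▸ hy
  refine ⟨?_, hperfEr, hErid, hqsZ, hqsO, fun Y hYE hY hYC => ?_⟩
  · rw [← hC]
    refine le_antisymm (sup_le ?_ le_sup_right)
      (sup_le_sup_right (hEr ▸ LocalEven.Res.mono hWle) _)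
    rintro _ ⟨x, hx, rfl⟩
    obtain ⟨e, he, hex⟩ : π x ∈ Eb.map (MonoidHom.id _) := by
      rw [Subgroup.map_id, hEbK', hKres]; exact ⟨x, hx, rfl⟩
    obtain ⟨u, hu, rfl⟩ := hEb ▸ he
    have h1 := (hker (u⁻¹ * x)).1 (by rw [map_mul, map_inv, show π u = π x from hex, inv_mul_cancel])
    have := mul_mem (Subgroup.mem_sup_left (T := E ⊓ C) (show (u : G) ∈ Er from hu))
      (Subgroup.mem_sup_right (S := Er) (Subgroup.mem_inf.2 ⟨(u⁻¹ * x).2, h1⟩))
    simpa using this
  · have hYn := hYE.trans hEEr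
    have hDEr : ⁅Er, Y⁆ ≤ Er := Subgroup.le_normalizer_iff_commutator_le_left.1 hYn
    have hDn : Er ≤ Subgroup.normalizer ((⁅Er, Y⁆ : Subgroup G) : Set G) := Subgroup.normalizer_commutator_ge_left Er Y
    obtain ⟨Yb, hYb⟩ : ∃ Yb, Yb = (Y.subgroupOf E).map π := ⟨_, rfl⟩
    have hDb : ((⁅Er, Y⁆ : Subgroup G).subgroupOf E).map π = ⁅Eb, Yb⁆ := by
      rw [hEb, hYb, ← Subgroup.map_commutator]
      congr 1
      apply Subgroup.map_injective E.subtype_injective
      rw [Subgroup.map_commutator, Subgroup.map_subgroupOf_eq_of_le hErE, Subgroup.map_subgroupOf_eq_of_le hYE,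
        Subgroup.map_subgroupOf_eq_of_le (hDEr.trans hErE)]
    rw [hEbK'] at hDb
    have hKD : ⁅K, Yb⁆ = K := by
      refine (hKdich _ (Subgroup.commutator_le_left K Yb) (Subgroup.normalizer_commutator_ge_left K Yb)).resolve_right
        fun h => hYC ?_
      have h5 := Subgroup.commutator_commutator_eq_bot_of_rotate (H₁ := K) (H₂ := K) (H₃ := Yb) h
        (by rw [Subgroup.commutator_comm Yb K]; exact h)
      rw [hKperf] at h5
      have h6 := hcent Yb (hYb ▸ (hY.comap_of_injective E.subtype E.subtype_injective).map π) h5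
      intro y hy
      exact hC ▸ (hker ⟨y, hYE hy⟩).1 (by rw [← Subgroup.mem_bot, ← h6, hYb]; exact ⟨⟨y, hYE hy⟩, hy, rfl⟩)
    refine le_antisymm hDEr ?_
    have h1 : Er ≤ ⁅Er, Y⁆ ⊔ O := by
      conv_lhs => rw [← hperfEr]
      refine Subgroup.commutator_le.2 fun e he f hf => ?_
      obtain ⟨d, hd, z, hz, hzC, rfl⟩ := hcover _ hDEr hDn (hKD.ge.trans hDb.ge) e he
      rw [show ⁅d * z, f⁆ = d * ⁅z, f⁆ * f * d⁻¹ * f⁻¹ by simp only [commutatorElement_def]; group]
      have hfd : f * d⁻¹ * f⁻¹ ∈ ⁅Er, Y⁆ := (Subgroup.mem_normalizer_iff.1 (hDn hf) _).1 (inv_mem hd)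
      have hzf : ⁅z, f⁆ ∈ O := by
        rw [← commutatorElement_inv]; exact inv_mem (hcom f hf z hz hzC)
      have := mul_mem (mul_mem (Subgroup.mem_sup_left (T := O) hd) (Subgroup.mem_sup_right hzf))
        (Subgroup.mem_sup_left hfd)
      simpa [mul_assoc] using this
    calc Er = (pResidual p ↥Er).map Er.subtype := hErid.symm
      _ ≤ _ := LocalEven.Res.le_of_sup hOp ((hO ▸ Fusion.pCoreOf_le Er).trans hDn) h1
      _ ≤ _ := LocalEven.Res.le_self _

end Cfsg.Agent.S2860
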