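import Cfsg.Statements.S2861
import Cfsg.Agent.Lib.LocalEven.ReducedOf
import Cfsg.Agent.Lib.Lie.SuzukiSp4
import Cfsg.Agent.Lib.Lie.SuzukiSylow
import Cfsg.Agent.Lib.Classical.SL2Relations
import Cfsg.Agent.Lib.Small.SL2.Classes
import Cfsg.Agent.Lib.Fusion.Cores
import Cfsg.Agent.Lib.Perm.Subnormalizer

set_option autoImplicit false
set_option maxHeartbeats 1600000
open scoped commutatorElement
open Cfsg

namespace Cfsg.Agent.S2861

theorem order_two {X : Type*} [Group X] [Finite X] (h0 : pCore 2 X = ⊥) (Z : Subgroup X) (hZ : Nat.card Z = 2)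
    (hmax : ∀ A : Subgroup X, Z ≤ A → A ≠ ⊤ → A ≤ Subgroup.normalizer (Z : Set X)) :
    ∀ V : Subgroup X, IsPGroup 2 V → Subgroup.normalizer (Z : Set X) ≤ Subgroup.normalizer (V : Set X) →
      V ≠ ⊥ → V = Z := by
  haveI : Fact (Nat.Prime 2) := ⟨Nat.prime_two⟩
  classical
  have hZp : IsPGroup 2 Z := IsPGroup.of_card (n := 1) (by rw [hZ, pow_one])
  have hZne : Z ≠ ⊥ := fun h => by rw [h, Subgroup.card_bot] at hZ; omega
  obtain ⟨a, haZ, ha1⟩ := (Subgroup.bot_or_exists_ne_one Z).resolve_left hZne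
  have hab : ∀ z ∈ Z, z = 1 ∨ z = a := by
    intro z hz
    haveI := Fintype.ofFinite ↥Z
    have hc : Fintype.card ↥Z = 2 := by rw [← Nat.card_eq_fintype_card, hZ]
    by_contra h
    push Not at h
    have : ({(1 : ↥Z), ⟨a, haZ⟩, ⟨z, hz⟩} : Finset ↥Z).card ≤ 2 := hc ▸ Finset.card_le_univ _
    rw [Finset.card_insert_of_notMem (by simp [Subtype.ext_iff, Ne.symm ha1, Ne.symm h.1]),
      Finset.card_insert_of_notMem (by simp [Subtype.ext_iff, Ne.symm h.2]), Finset.card_singleton] at this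
    omega
  have ha2 : a * a = 1 := by
    rcases hab (a * a) (mul_mem haZ haZ) with h | h
    · exact h
    · exact absurd (mul_eq_right.1 h) ha1
  -- two conjugate involutions generating everything
  obtain ⟨g, hg⟩ : ∃ g, ¬ a * (g * a * g⁻¹) = (g * a * g⁻¹) * a := by
    by_contra hcom
    push Not at hcom
    obtain ⟨A, hA⟩ : ∃ A, A = Subgroup.normalClosure (Z : Set X) := ⟨_, rfl⟩
    haveI : A.Normal := hA ▸ Subgroup.normalClosure_normal
    have hZA : Z ≤ A := hA ▸ Subgroup.le_normalClosure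
    have hconj : ∀ s ∈ Group.conjugatesOfSet (Z : Set X), s = 1 ∨ ∃ g, s = g * a * g⁻¹ := by
      intro s hs
      obtain ⟨z, hz, hzs⟩ := Group.mem_conjugatesOfSet_iff.1 hs
      obtain ⟨g, rfl⟩ := isConj_iff.1 hzs
      rcases hab z hz with rfl | rfl
      · exact Or.inl (by rw [mul_one, mul_inv_cancel])
      · exact Or.inr ⟨g, rfl⟩
    have hcc : ∀ s ∈ Group.conjugatesOfSet (Z : Set X), ∀ t ∈ Group.conjugatesOfSet (Z : Set X), s * t = t * s := by
      intro s hs t ht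
      rcases hconj s hs with rfl | ⟨g, rfl⟩
      · rw [one_mul, mul_one]
      rcases hconj t ht with rfl | ⟨h, rfl⟩
      · rw [one_mul, mul_one]
      have h1 := congrArg (fun x => g * x * g⁻¹) (hcom (g⁻¹ * h))
      simpa [mul_assoc] using h1
    have hAp : IsPGroup 2 A := by
      rintro ⟨x, hx⟩
      refine ⟨1, Subtype.ext ?_⟩
      show x ^ 2 ^ 1 = 1
      rw [hA, Subgroup.normalClosure] at hx
      have main : ∀ y (hy : y ∈ Subgroup.closure (Group.conjugatesOfSet (Z : Set X))), y ^ 2 ^ 1 = 1 := by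
        intro y hy
        induction hy using Subgroup.closure_induction with
        | mem s hs =>
          rcases hconj s hs with rfl | ⟨g, rfl⟩
          · exact one_pow _
          · rw [conj_pow, pow_one, pow_two, ha2]; simp
        | one => exact one_pow _
        | mul u v hu hv ihu ihv =>
          have hc : Commute u v := congrArg Subtype.val ((Subgroup.isMulCommutative_closure hcc).is_comm.comm
            (⟨u, hu⟩ : ↥(Subgroup.closure _)) ⟨v, hv⟩)
          rw [hc.mul_pow, ihu, ihv, one_mul]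
        | inv u _ ih => rw [inv_pow, ih, inv_one]
      exact main x hx
    exact hZne (le_bot_iff.1 (h0 ▸ hZA.trans (Cfsg.Agent.Fusion.le_pCore hAp)))
  obtain ⟨b, hb⟩ : ∃ b, b = g * a * g⁻¹ := ⟨_, rfl⟩
  rw [← hb] at hg
  have hb2 : b * b = 1 := by rw [hb, show g * a * g⁻¹ * (g * a * g⁻¹) = g * (a * a) * g⁻¹ by group, ha2]; group
  obtain ⟨D, hD⟩ : ∃ D, D = Subgroup.closure ({a, b} : Set X) := ⟨_, rfl⟩
  have haD : a ∈ D := hD ▸ Subgroup.subset_closure (Set.mem_insert _ _)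
  have hbD : b ∈ D := hD ▸ Subgroup.subset_closure (Set.mem_insert_of_mem _ rfl)
  have hD' : D = ⊤ := by
    by_contra hne
    have h1 := hmax D (fun z hz => by rcases hab z hz with rfl | rfl <;> [exact one_mem D; exact haD]) hne hbD
    rcases hab _ ((Subgroup.mem_normalizer_iff.1 h1 a).1 haZ) with h | h
    · exact ha1 (by simpa [mul_assoc] using congrArg (fun x => b⁻¹ * x * b) h)
    · exact hg (mul_inv_eq_iff_eq_mul.1 h).symm
  have hbi : b⁻¹ = b := inv_eq_of_mul_eq_one_right hb2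
  have hai : a⁻¹ = a := inv_eq_of_mul_eq_one_right ha2
  obtain ⟨C, hC⟩ : ∃ C, C = Subgroup.zpowers (a * b) := ⟨_, rfl⟩
  have hcC : a * b ∈ C := hC ▸ Subgroup.mem_zpowers _
  have hinv : ∀ s : X, s = a ∨ s = b → s * (a * b) * s⁻¹ ∈ C := by
    rintro s (rfl | rfl)
    · rw [hai, show s * (s * b) * s = (s * s) * (b * s) by group, ha2, one_mul,
        show b * s = (s * b)⁻¹ by rw [mul_inv_rev, hbi, hai]]
      exact inv_mem hcC
    · rw [show s * (a * s) * s⁻¹ = (s⁻¹ * a⁻¹)⁻¹⁻¹ * 1 by rw [hbi, hai]; simp [mul_assoc, hb2], mul_one, inv_inv,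
        ← mul_inv_rev]
      exact inv_mem hcC
  haveI hCn : C.Normal := by
    rw [← Subgroup.normalizer_eq_top_iff, eq_top_iff, ← hD', hD, Subgroup.closure_le]
    intro s hs
    refine Cfsg.Agent.Fusion.mem_normalizer_of_cj_le ?_
    conv_lhs => rw [hC]
    rw [Cfsg.Agent.Fusion.cj, MonoidHom.map_zpowers, Subgroup.zpowers_le]
    exact hinv s (by simpa using hs)
  have hCodd : ¬ 2 ∣ Nat.card C := by
    intro hd
    obtain ⟨x, hx⟩ := exists_prime_orderOf_dvd_card' (G := C) 2 hd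
    have hn : (Subgroup.zpowers (x : X)).IsSubnormal := by
      refine Subgroup.IsSubnormal.step _ C (Subgroup.zpowers_le.2 x.2) (Subgroup.Normal.isSubnormal inferInstance)
        (Subgroup.normal_subgroupOf_of_le_normalizer fun c hc => ?_)
      rw [Subgroup.mem_normalizer_iff]
      intro z
      haveI : IsMulCommutative C := hC ▸ inferInstance
      constructor
      · intro hz
        have : Commute c z := congrArg Subtype.val (IsMulCommutative.is_comm.comm (⟨c, hc⟩ : C)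
          ⟨z, Subgroup.zpowers_le.2 x.2 hz⟩)
        rwa [this.eq, mul_inv_cancel_right]
      · intro hz
        have hzC : z ∈ C := by
          have := mul_mem (mul_mem (inv_mem hc) (Subgroup.zpowers_le.2 x.2 hz)) hc
          simpa [mul_assoc] using this
        have : Commute c z := congrArg Subtype.val (IsMulCommutative.is_comm.comm (⟨c, hc⟩ : C) ⟨z, hzC⟩)
        rwa [this.eq, mul_inv_cancel_right] at hz
    have h1 := Cfsg.Agent.Perm.subnormal_pgroup_le_pCore (p := 2) hn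
      (IsPGroup.of_card (n := 1) (by rw [Nat.card_zpowers, Subgroup.orderOf_coe, hx, pow_one]))
      (Subgroup.mem_zpowers _)
    rw [h0, Subgroup.mem_bot] at h1
    rw [show x = 1 from Subtype.ext h1, orderOf_one] at hx
    omega
  have hcov : C ⊔ Z = ⊤ := by
    rw [← top_le_iff, ← hD', hD, Subgroup.closure_le]
    rintro s (rfl | rfl)
    · exact Subgroup.mem_sup_right haZ
    · have := mul_mem (Subgroup.mem_sup_right (S := C) haZ) (Subgroup.mem_sup_left (T := Z) hcC)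
      rwa [← mul_assoc, ha2, one_mul] at this
  intro V hV hNV hV1
  have hJ := hV.to_sup_of_normal_left' hZp (Subgroup.le_normalizer.trans hNV)
  have hdvd : Nat.card ↥(V ⊔ Z) ∣ Nat.card C * 2 := by
    refine (Subgroup.card_subgroup_dvd_card _).trans ?_
    rw [← hZ, ← Subgroup.card_top (G := X), ← hcov]
    rw [sup_comm, mul_comm]
    exact Cfsg.Agent.Fusion.card_sup_dvd C Z
  obtain ⟨k, hk⟩ := IsPGroup.iff_card.1 hJ
  have h2 : Nat.card ↥(V ⊔ Z) ∣ 2 := by
    rw [hk] at hdvd ⊢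
    exact (Nat.Coprime.pow_left k ((Nat.Prime.coprime_iff_not_dvd Nat.prime_two).2 hCodd)).dvd_of_dvd_mul_left hdvd
  have hVZ : Z = V ⊔ Z := Subgroup.eq_of_le_of_card_ge le_sup_right (by rw [hZ]; exact Nat.le_of_dvd two_pos h2)
  have hle : V ≤ Z := hVZ ▸ le_sup_left
  refine Subgroup.eq_of_le_of_card_ge hle ?_
  rw [hZ]
  exact (Subgroup.one_lt_card_iff_ne_bot V).2 hV1

theorem sl2_case {F : Type*} [Field F] [Fintype F] {p : ℕ} [Fact p.Prime] {n : ℕ} (hn : Fintype.card F = p ^ n)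
    (Z V : Subgroup (Matrix.SpecialLinearGroup (Fin 2) F)) (hZ : IsPGroup p Z) (hZc : Nat.card Z = Fintype.card F)
    (hV : IsPGroup p V) (hNV : Subgroup.normalizer (Z : Set (Matrix.SpecialLinearGroup (Fin 2) F)) ≤ Subgroup.normalizer (V : Set (Matrix.SpecialLinearGroup (Fin 2) F))) (hV1 : V ≠ ⊥) :
    V = Z := by
  classical
  obtain ⟨U, hU⟩ : ∃ U : Subgroup (Matrix.SpecialLinearGroup (Fin 2) F), ∀ g, g ∈ U ↔ ∃ x : F, g = Classical.SL2Rel.u₂ x := by
    refine ⟨{ carrier := {g | ∃ x : F, g = Classical.SL2Rel.u₂ x}, mul_mem' := ?_, one_mem' := ?_, inv_mem' := ?_ }, fun g => Iff.rfl⟩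
    · rintro _ _ ⟨x, rfl⟩ ⟨y, rfl⟩
      exact ⟨x + y, (Classical.SL2Rel.rels₂.1 x y).symm⟩
    · exact ⟨0, (Classical.SL2Rel.rels₂.U_zero).symm⟩
    · rintro _ ⟨x, rfl⟩
      exact ⟨-x, (Classical.SL2Rel.rels₂.U_neg x).symm⟩
  have hu : ∀ x : F, Classical.SL2Rel.u₂ x ∈ U := fun x => (hU _).2 ⟨x, rfl⟩
  have hinj : Function.Injective (Classical.SL2Rel.u₂ (F := F)) := fun x y h => by
    have h1 := congrArg (fun M : Matrix.SpecialLinearGroup (Fin 2) F => (M : Matrix (Fin 2) (Fin 2) F) 0 1) h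
    simpa [Classical.SL2Rel.u₂, Matrix.SpecialLinearGroup.transvection, Matrix.transvection] using h1
  have hUc : Nat.card U = Fintype.card F := by
    rw [← Nat.card_eq_fintype_card]
    refine (Nat.card_congr (Equiv.ofBijective (fun x : F => (⟨_, hu x⟩ : U)) ⟨fun x y h => hinj (congrArg Subtype.val h), ?_⟩)).symm
    rintro ⟨g, hg⟩
    obtain ⟨x, rfl⟩ := (hU g).1 hg
    exact ⟨x, rfl⟩
  have hUp : IsPGroup p U := IsPGroup.of_card (n := n) (hUc.trans hn)
  have hUi : ¬ p ∣ U.index := by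
    have h := U.card_mul_index
    rw [hUc, Small.SL2C.card_SL2] at h
    have hq : 2 ≤ Fintype.card F := Fintype.one_lt_card
    have hpq : p ∣ Fintype.card F := by
      rw [hn]; refine dvd_pow_self p fun h0 => ?_; rw [hn, h0, pow_zero] at hq; omega
    have hidx : U.index = Fintype.card F ^ 2 - 1 := Nat.eq_of_mul_eq_mul_left (by omega) h
    intro hd
    rw [hidx] at hd
    have h4 := Nat.dvd_sub (hpq.trans (dvd_pow_self _ two_ne_zero)) hd
    rw [Nat.sub_sub_self (Nat.one_le_pow _ _ (by omega))] at h4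
    exact (Fact.out : p.Prime).one_lt.ne' (Nat.dvd_one.1 h4)
  obtain ⟨W, hW, hWle⟩ : ∃ W, W = V ⊔ Z ∧ IsPGroup p W :=
    ⟨_, rfl, hV.to_sup_of_normal_left' hZ (Subgroup.le_normalizer.trans hNV)⟩
  have hs : Fusion.SylIn p U ⊤ := ⟨le_top, hUp, by rwa [Subgroup.relIndex_top_right]⟩
  obtain ⟨g, -, hg⟩ := hs.conj_le hWle le_top
  have hVU : Fusion.cj V g ≤ U := (Fusion.cj_mono (hW ▸ le_sup_left) g).trans hg
  have hZU : Fusion.cj Z g = U := Subgroup.eq_of_le_of_card_ge ((Fusion.cj_mono (hW ▸ le_sup_right) g).trans hg)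
    (by rw [Fusion.card_cj, hZc, hUc])
  have hNU : Subgroup.normalizer (U : Set (Matrix.SpecialLinearGroup (Fin 2) F)) ≤ Subgroup.normalizer (Fusion.cj V g : Set (Matrix.SpecialLinearGroup (Fin 2) F)) := by
    rw [← hZU, ← Fusion.cj_normalizer, ← Fusion.cj_normalizer]
    exact Fusion.cj_mono hNV g
  -- the squares generate
  obtain ⟨A, hA⟩ : ∃ A : AddSubgroup F, ∀ x, x ∈ A ↔ Classical.SL2Rel.u₂ x ∈ Fusion.cj V g := by
    refine ⟨{ carrier := {x | Classical.SL2Rel.u₂ x ∈ Fusion.cj V g}, add_mem' := ?_, zero_mem' := ?_, neg_mem' := ?_ }, fun x => Iff.rfl⟩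
    · intro x y hx hy
      simp only [Set.mem_setOf_eq] at hx hy ⊢
      rw [Classical.SL2Rel.rels₂.1 x y]; exact mul_mem hx hy
    · simp only [Set.mem_setOf_eq]
      rw [Classical.SL2Rel.rels₂.U_zero]; exact one_mem _
    · intro x hx
      simp only [Set.mem_setOf_eq] at hx ⊢
      rw [Classical.SL2Rel.rels₂.U_neg]; exact inv_mem hx
  have hsq : ∀ x ∈ A, ∀ t : F, t ^ 2 * x ∈ A := by
    intro x hx t
    rcases eq_or_ne t 0 with rfl | ht
    · simp
    obtain ⟨d, hd⟩ : ∃ d, d = Classical.SL2Rel.h (Classical.SL2Rel.u₂ (F := F)) Classical.SL2Rel.l₂ t := ⟨_, rfl⟩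
    have hc : ∀ y : F, d * Classical.SL2Rel.u₂ y * d⁻¹ = Classical.SL2Rel.u₂ (y * t ^ 2) := fun y => by
      rw [hd, Classical.SL2Rel.rels₂.hU ht y, mul_inv_cancel_right]
    have hdn : d ∈ Subgroup.normalizer (U : Set (Matrix.SpecialLinearGroup (Fin 2) F)) := Fusion.mem_normalizer_of_cj_le (by
      rintro _ ⟨u, hu', rfl⟩
      obtain ⟨y, rfl⟩ := (hU u).1 hu'
      show d * Classical.SL2Rel.u₂ y * d⁻¹ ∈ U
      rw [hc]
      exact hu _)
    have h := (Subgroup.mem_normalizer_iff.1 (hNU hdn) _).1 ((hA x).1 hx)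
    rw [hc] at h
    rw [hA, mul_comm]
    exact h
  have hspan : AddSubgroup.closure (Set.range fun t : F => t ^ 2) = ⊤ := by
    obtain ⟨B, hB⟩ : ∃ B, B = AddSubgroup.closure (Set.range fun t : F => t ^ 2) := ⟨_, rfl⟩
    rw [← hB]
    by_contra hne
    have hsub : ∀ t : F, t ^ 2 ∈ B := fun t => hB ▸ AddSubgroup.subset_closure ⟨t, rfl⟩
    have hcard : Fintype.card F ≤ 2 * Nat.card B - 1 := by
      have h1 : (Finset.univ.image fun t : F => t ^ 2).card ≤ Nat.card B := by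
        rw [Nat.card_eq_fintype_card, Fintype.card_subtype]
        exact Finset.card_le_card fun y hy => by
          obtain ⟨t, -, rfl⟩ := Finset.mem_image.1 hy
          simpa using hsub t
      have h2 : (Finset.univ.erase (0 : F)).card ≤ 2 * ((Finset.univ.image fun t : F => t ^ 2).erase 0).card := by
        refine Finset.card_le_mul_card_image_of_maps_to (f := fun t : F => t ^ 2) (fun t ht => ?_) 2 fun y _ => ?_
        · refine Finset.mem_erase.2 ⟨pow_ne_zero _ (Finset.ne_of_mem_erase ht), Finset.mem_image.2 ⟨t, Finset.mem_univ t, rfl⟩⟩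
        · rcases Finset.eq_empty_or_nonempty ((Finset.univ.erase (0 : F)).filter fun t => t ^ 2 = y) with h | ⟨t, ht⟩
          · simp [h]
          · refine (Finset.card_le_card (t := ({t, -t} : Finset F)) fun s hs => ?_).trans Finset.card_le_two
            have e : s ^ 2 = t ^ 2 := (Finset.mem_filter.1 hs).2.trans (Finset.mem_filter.1 ht).2.symm
            rcases sq_eq_sq_iff_eq_or_eq_neg.1 e with h | h <;> simp [h]
      rw [Finset.card_erase_of_mem (Finset.mem_univ _), Finset.card_univ,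
        Finset.card_erase_of_mem (Finset.mem_image.2 ⟨0, Finset.mem_univ _, by simp⟩)] at h2
      have h5 : 0 < (Finset.univ.image fun t : F => t ^ 2).card :=
        Finset.card_pos.2 (Finset.univ_nonempty.image _)
      omega
    have hdvd : Nat.card B ∣ p ^ n := hn ▸ (Nat.card_eq_fintype_card (α := F)) ▸ AddSubgroup.card_addSubgroup_dvd_card B
    obtain ⟨j, hj, hjc⟩ := (Nat.dvd_prime_pow Fact.out).1 hdvd
    have hpn : Nat.card B * p ≤ Fintype.card F := by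
      rcases hj.lt_or_eq with hlt | rfl
      · rw [hjc, hn, ← pow_succ]
        exact Nat.pow_le_pow_right (Fact.out : p.Prime).pos hlt
      · exact absurd (AddSubgroup.eq_top_of_card_eq B (by rw [hjc, Nat.card_eq_fintype_card, hn])) hne
    have h2p := (Fact.out : p.Prime).two_le
    have h1 : 2 * Nat.card B ≤ Nat.card B * p := by rw [mul_comm 2]; exact Nat.mul_le_mul_left _ h2p
    have h3 : 0 < Nat.card B := Nat.card_pos
    omega
  have hall : ∀ y : F, y ∈ A := by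
    obtain ⟨w, hw, hw1⟩ := (Subgroup.bot_or_exists_ne_one (Fusion.cj V g)).resolve_left fun h => hV1 (by
      rw [← Fusion.cj_cj_inv V g, h, Fusion.cj_bot])
    obtain ⟨x, rfl⟩ := (hU w).1 (hVU hw)
    have hx0 : x ≠ 0 := fun h => hw1 (by rw [h, Classical.SL2Rel.rels₂.U_zero])
    intro y
    have h1 : y / x ∈ AddSubgroup.closure (Set.range fun t : F => t ^ 2) := hspan ▸ AddSubgroup.mem_top _
    have main : ∀ z (hz : z ∈ AddSubgroup.closure (Set.range fun t : F => t ^ 2)), z * x ∈ A := by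
      intro z hz
      induction hz using AddSubgroup.closure_induction with
      | mem s hs => obtain ⟨t, rfl⟩ := hs; exact hsq x ((hA x).2 hw) t
      | zero => rw [zero_mul]; exact zero_mem A
      | add u v _ _ ihu ihv => rw [add_mul]; exact add_mem ihu ihv
      | neg u _ ih => rw [neg_mul]; exact neg_mem ih
    have := main _ h1
    rwa [div_mul_cancel₀ _ hx0] at this
  have hVeq : Fusion.cj V g = Fusion.cj Z g := by
    refine le_antisymm (hVU.trans hZU.ge) fun w hw => ?_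
    obtain ⟨y, rfl⟩ := (hU w).1 (hZU ▸ hw)
    exact (hA y).1 (hall y)
  have := congrArg (fun X => Fusion.cj X g⁻¹) hVeq
  simpa [Fusion.cj_cj_inv] using this

theorem sz_case {F : Type*} [Field F] [Fintype F] {m : ℕ} (hm : 1 ≤ m) (hF : Fintype.card F = 2 ^ (2 * m + 1))
    (Z V : Subgroup (Cfsg.Sz F m)) (hZ2 : ∀ z ∈ Z, z ^ 2 = 1) (hZp : IsPGroup 2 Z)
    (hZc : Nat.card Z = Fintype.card F) (hV2 : ∀ z ∈ V, z ^ 2 = 1) (hV : IsPGroup 2 V)
    (hNV : Subgroup.normalizer (Z : Set (Cfsg.Sz F m)) ≤ Subgroup.normalizer (V : Set (Cfsg.Sz F m))) (hV1 : V ≠ ⊥) :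
    V = Z := by
  haveI : Fact (Nat.Prime 2) := ⟨Nat.prime_two⟩
  obtain ⟨W, hW, hWp⟩ : ∃ W, W = V ⊔ Z ∧ IsPGroup 2 W :=
    ⟨_, rfl, hV.to_sup_of_normal_left' hZp (Subgroup.le_normalizer.trans hNV)⟩
  have hs : Fusion.SylIn 2 (Lie.Suzuki.uSub (m := m) hF) ⊤ := ⟨le_top, Lie.Suzuki.uSub_isPGroup hF,
    by rw [Subgroup.relIndex_top_right]; exact Lie.Suzuki.not_two_dvd_index hF hm⟩
  obtain ⟨g, -, hg⟩ := hs.conj_le hWp le_top
  have hz : ∀ X : Subgroup (Cfsg.Sz F m), X ≤ W → (∀ z ∈ X, z ^ 2 = 1) →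
      Fusion.cj X g ≤ Lie.Suzuki.zSub hF := by
    rintro X hXW hX2 _ ⟨z, hz, rfl⟩
    obtain ⟨a, b, e⟩ := hg ⟨z, hXW hz, rfl⟩
    have h1 : ((MulAut.conj g).toMonoidHom z) ^ 2 = 1 := by rw [← map_pow, hX2 z hz, map_one]
    rw [e] at h1 ⊢
    rw [pow_two, Lie.Suzuki.tS_mul hF, ← Lie.Suzuki.tS_zero (m := m) hF] at h1
    have h2 := (Lie.Suzuki.tM_injective (m := m) (congrArg Subtype.val h1)).2
    have h3 : a = 0 := by
      rw [Lie.Suzuki.add_self hF, zero_add, mul_eq_zero] at h2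
      rcases h2 with h | h
      · exact eq_zero_of_pow_eq_zero h
      · exact h
    exact ⟨b, by rw [h3]⟩
  have hVz := hz V (hW ▸ le_sup_left) hV2
  have hZz : Fusion.cj Z g = Lie.Suzuki.zSub hF := Subgroup.eq_of_le_of_card_ge (hz Z (hW ▸ le_sup_right) hZ2)
    (by rw [Fusion.card_cj, hZc, Lie.Suzuki.card_zSub])
  have hNz : Subgroup.normalizer (Lie.Suzuki.zSub (m := m) hF : Set (Cfsg.Sz F m)) ≤ Subgroup.normalizer (Fusion.cj V g : Set (Cfsg.Sz F m)) := by
    rw [← hZz, ← Fusion.cj_normalizer, ← Fusion.cj_normalizer]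
    exact Fusion.cj_mono hNV g
  obtain ⟨w, hw, hw1⟩ := (Subgroup.bot_or_exists_ne_one (Fusion.cj V g)).resolve_left fun h => hV1 (by
    rw [← Fusion.cj_cj_inv V g, h, Fusion.cj_bot])
  obtain ⟨b, rfl⟩ := hVz hw
  have hb : b ≠ 0 := fun h => hw1 (by rw [h, Lie.Suzuki.tS_zero])
  have hVeq : Fusion.cj V g = Fusion.cj Z g := by
    refine le_antisymm (hVz.trans hZz.ge) fun w' hw' => ?_
    obtain ⟨y, rfl⟩ := hZz ▸ hw'
    rcases eq_or_ne y 0 with rfl | hy
    · rw [Lie.Suzuki.tS_zero]; exact one_mem _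
    obtain ⟨c, hc⟩ : ∃ c : Fˣ, (c : F) = y / b := ⟨Units.mk0 _ (div_ne_zero hy hb), rfl⟩
    obtain ⟨k, hk⟩ : ∃ k : Fˣ, k = c ^ (2 ^ (m + 1) - 1) := ⟨_, rfl⟩
    have hkc : (k : F) ^ (2 ^ (m + 1) + 1) = y / b := by
      have hexp : (2 ^ (m + 1) - 1) * (2 ^ (m + 1) + 1) + 1 = 2 * Fintype.card F := by
        rw [hF, ← pow_succ', show 2 * m + 1 + 1 = (m + 1) + (m + 1) by omega, pow_add 2 (m + 1) (m + 1)]
        have := Nat.one_le_pow (m + 1) 2 two_pos
        obtain ⟨j, hj⟩ := Nat.exists_eq_add_of_le this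
        rw [hj, Nat.add_sub_cancel_left]
        ring
      have hne : (y / b) ≠ 0 := div_ne_zero hy hb
      rw [hk, Units.val_pow_eq_pow_val, hc, ← pow_mul]
      refine mul_right_cancel₀ hne ?_
      rw [← pow_succ, hexp, mul_comm, pow_mul, FiniteField.pow_card, pow_two]
    have hdn : Lie.Suzuki.dS hF k ∈ Subgroup.normalizer (Lie.Suzuki.zSub (m := m) hF : Set (Cfsg.Sz F m)) :=
      Fusion.mem_normalizer_of_cj_le (by
        rintro _ ⟨_, ⟨d, rfl⟩, rfl⟩
        refine ⟨(k : F) ^ (2 ^ (m + 1) + 1) * d, ?_⟩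
        rw [show (MulAut.conj (Lie.Suzuki.dS hF k)).toMonoidHom (Lie.Suzuki.tS hF 0 d) =
          Lie.Suzuki.dS hF k * Lie.Suzuki.tS hF 0 d * (Lie.Suzuki.dS hF k)⁻¹ from rfl,
          Lie.Suzuki.dS_mul_tS hF hm, mul_inv_cancel_right, mul_zero])
    have h := (Subgroup.mem_normalizer_iff.1 (hNz hdn) _).1 hw
    rw [Lie.Suzuki.dS_mul_tS hF hm, mul_inv_cancel_right, mul_zero, hkc, div_mul_cancel₀ _ hb] at h
    exact h
  have := congrArg (fun X => Fusion.cj X g⁻¹) hVeq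
  simpa [Fusion.cj_cj_inv] using this

theorem result {G : Type*} [Group G] [Finite G] {p : ℕ} [Fact p.Prime] (S : Sylow p G) (Q : Subgroup G) (hQp : IsPGroup p ↥Q) (hQ1 : Q ≠ ⊥) (hQS : Q ≤ (S : Subgroup G)) (hQ : Cfsg.IsLarge Q) (M : Subgroup G) (hSM : (S : Subgroup G) ≤ M) (hM : Cfsg.IsInFrakM p M) (L : Subgroup G) (hL : Cfsg.IsInFrakL p M L) (NL : Subgroup G) (hNL : NL = L ⊓ Subgroup.normalizer (((Cfsg.largestPReducedOf p M) : Subgroup G) : Set G)) [hn : (((Cfsg.pCoreOf p L)).subgroupOf NL).Normal] : let Ybar : Subgroup (↥NL ⧸ ((Cfsg.pCoreOf p L)).subgroupOf NL) := (((Cfsg.largestPReducedOf p M)).subgroupOf NL).map (QuotientGroup.mk' (((Cfsg.pCoreOf p L)).subgroupOf NL)); Ybar ≠ ⊥ ∧ Ybar.Normal ∧ Cfsg.IsElementaryAbelian p Ybar ∧ ∀ (V : Subgroup (↥NL ⧸ ((Cfsg.pCoreOf p L)).subgroupOf NL)), V.Normal → Cfsg.IsElementaryAbelian p V → V ≠ ⊥ → V = Ybar := by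
  intro Ybar
  obtain ⟨hYL, -, hOY, hminov, -, ⟨hNlt, hmax⟩, hiso⟩ := hL
  obtain ⟨Y, hY⟩ : ∃ Y, Y = largestPReducedOf p M := ⟨_, rfl⟩
  obtain ⟨O, hO⟩ : ∃ O, O = pCoreOf p L := ⟨_, rfl⟩
  rw [← hY] at hYL hOY hminov hNlt hmax hiso
  have hel : IsElementaryAbelian p Y := hY ▸ LocalEven.Red.elementary_mono
    (LocalEven.Red.elementary_omega_center (pCoreOf p M)) (LocalEven.Red.Y_le_omega M)
  have hNLL : NL ≤ L := hNL ▸ inf_le_left
  have hYN : Y ≤ NL := hNL ▸ hY ▸ le_inf (hY ▸ hYL) Subgroup.le_normalizer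
  -- the quotient of `L`
  obtain ⟨π, hπ⟩ : ∃ π : ↥L →* ↥L ⧸ pCore p ↥L, π = QuotientGroup.mk' _ := ⟨_, rfl⟩
  have hs : Function.Surjective π := hπ ▸ QuotientGroup.mk'_surjective _
  have h0 : pCore p (↥L ⧸ pCore p ↥L) = ⊥ := Fusion.pCore_quotient_eq_bot
  have hker : ∀ x : ↥L, π x = 1 ↔ (x : G) ∈ pCoreOf p L := fun x => by
    rw [hπ, QuotientGroup.mk'_apply, QuotientGroup.eq_one_iff]
    exact ⟨fun h => ⟨x, h, rfl⟩, fun ⟨w, hw, e⟩ => (Subtype.ext e : w = x) ▸ hw⟩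
  obtain ⟨Z, hZ⟩ : ∃ Z, Z = (Y.subgroupOf L).map π := ⟨_, rfl⟩
  obtain ⟨N, hN⟩ : ∃ N, N = (NL.subgroupOf L).map π := ⟨_, rfl⟩
  have hYn : (L ⊓ Subgroup.normalizer (Y : Set G)) = NL := by rw [hNL, hY]
  rw [hYn] at hNlt hmax
  have hNeq : Subgroup.normalizer (Z : Set (↥L ⧸ pCore p ↥L)) = N := by
    refine le_antisymm ?_ ?_
    · have hne : Subgroup.normalizer (Z : Set (↥L ⧸ pCore p ↥L)) ≠ ⊤ := by
        intro htop
        haveI : Z.Normal := Subgroup.normalizer_eq_top_iff.1 htop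
        have hYp : IsPGroup p ↥Y := fun v => ⟨1, Subtype.ext (by simpa using hel.2 v v.2)⟩
        have h1 := Fusion.le_pCore (N := Z) (hZ ▸ (hYp.comap_of_injective L.subtype L.subtype_injective).map π)
        rw [h0, le_bot_iff, hZ, Subgroup.map_eq_bot_iff, hπ, QuotientGroup.ker_mk'] at h1
        have h2 := hminov.1
        rw [← top_le_iff] at h2
        have h3 : (⊤ : Subgroup ↥L) ≤ pCore p ↥L := h2.trans (Subgroup.normalClosure_le_normal h1)
        refine hNlt.not_ge fun l hl => hNL ▸ Subgroup.mem_inf.2 ⟨hl, hY ▸ hOY ⟨⟨l, hl⟩, h3 (Subgroup.mem_top _), rfl⟩⟩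
      intro z hz
      obtain ⟨x, rfl⟩ := hs z
      obtain ⟨X, hX⟩ : ∃ X, X = ((Subgroup.normalizer (Z : Set (↥L ⧸ pCore p ↥L))).comap π).map L.subtype := ⟨_, rfl⟩
      have hYX : Y ≤ X := fun y hy => hX ▸ ⟨⟨y, hYL hy⟩, Subgroup.le_normalizer (show π ⟨y, hYL hy⟩ ∈ Z from
        hZ ▸ ⟨⟨y, hYL hy⟩, hy, rfl⟩), rfl⟩
      have hXL : X < L := by
        refine lt_of_le_of_ne (hX ▸ Subgroup.map_subtype_le _) fun e => hne (top_le_iff.1 fun w _ => ?_)
        obtain ⟨⟨v, hv⟩, rfl⟩ := hs w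
        obtain ⟨u, hu, eu⟩ := hX ▸ e.ge hv
        exact (Subtype.ext eu : u = ⟨v, hv⟩) ▸ hu
      have h5 : (x : G) ∈ X := hX ▸ ⟨x, hz, rfl⟩
      rw [hN]
      exact ⟨x, hmax X hYX hXL h5, rfl⟩
    · rw [hN, hZ]
      refine (Subgroup.map_mono fun x hx => ?_).trans (Subgroup.le_normalizer_map π)
      rw [Subgroup.mem_normalizer_iff]
      intro z
      exact Subgroup.mem_normalizer_iff.1 (Subgroup.mem_inf.1 (hYn.ge hx)).2 (z : G)
  have hcard : Nat.card Z = (Y ⊓ pCoreOf p L).relIndex Y := by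
    rw [hZ, ← Subgroup.relIndex_ker, ← Subgroup.inf_relIndex_right,
      ← Subgroup.relIndex_map_map_of_injective _ _ L.subtype_injective, Subgroup.map_subgroupOf_eq_of_le hYL,
      Subgroup.map_inf _ _ _ L.subtype_injective, Subgroup.map_subgroupOf_eq_of_le hYL, hπ, QuotientGroup.ker_mk',
      inf_comm]
    rfl
  -- the quotient of `NL` inside it
  obtain ⟨ι, hι⟩ : ∃ ι : ↥NL ⧸ ((pCoreOf p L)).subgroupOf NL →* ↥L ⧸ pCore p ↥L,
      ∀ x : ↥NL, ι (QuotientGroup.mk x) = π (Subgroup.inclusion hNLL x) :=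
    ⟨QuotientGroup.lift _ (π.comp (Subgroup.inclusion hNLL)) fun x hx => (hker _).2 hx, fun x => rfl⟩
  have hιi : Function.Injective ι := by
    rw [injective_iff_map_eq_one]
    intro z hz
    obtain ⟨x, rfl⟩ := QuotientGroup.mk_surjective z
    rw [hι, hker] at hz
    exact (QuotientGroup.eq_one_iff x).2 hz
  have hYb : Ybar.map ι = Z := by
    rw [hZ]
    refine le_antisymm ?_ ?_
    · rintro _ ⟨_, ⟨x, hx, rfl⟩, rfl⟩
      rw [QuotientGroup.mk'_apply, hι]
      exact ⟨_, show (Subgroup.inclusion hNLL x : G) ∈ Y from hY ▸ hx, rfl⟩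
    · rintro _ ⟨x, hx, rfl⟩
      refine ⟨QuotientGroup.mk ⟨x, hYN hx⟩, ⟨⟨x, hYN hx⟩, hY ▸ hx, rfl⟩, ?_⟩
      rw [hι]
      rfl
  have hrange : ι.range = N := by
    rw [hN]
    refine le_antisymm ?_ ?_
    · rintro _ ⟨z, rfl⟩
      obtain ⟨x, rfl⟩ := QuotientGroup.mk_surjective z
      rw [hι]
      exact ⟨Subgroup.inclusion hNLL x, x.2, rfl⟩
    · rintro _ ⟨x, hx, rfl⟩
      exact ⟨QuotientGroup.mk ⟨x, hx⟩, by rw [hι]; rfl⟩
  have hYbn : Ybar.Normal := by
    haveI : ((largestPReducedOf p M).subgroupOf NL).Normal := Subgroup.normal_subgroupOf_of_le_normalizer (hNL ▸ inf_le_right)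
    exact Subgroup.Normal.map inferInstance _ (QuotientGroup.mk'_surjective _)
  have hYbel : IsElementaryAbelian p Ybar := by
    refine ⟨⟨⟨?_⟩⟩, ?_⟩
    · rintro ⟨_, x, hx, rfl⟩ ⟨_, y, hy, rfl⟩
      refine Subtype.ext ?_
      show QuotientGroup.mk' _ x * QuotientGroup.mk' _ y = QuotientGroup.mk' _ y * QuotientGroup.mk' _ x
      rw [← map_mul, ← map_mul]
      congr 1
      exact Subtype.ext (congrArg Subtype.val
        (hel.1.is_comm.comm (⟨(x : G), hY ▸ hx⟩ : Y) ⟨(y : G), hY ▸ hy⟩) :)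
    · rintro _ ⟨x, hx, rfl⟩
      rw [← map_pow, show x ^ p = 1 from Subtype.ext (by rw [SubmonoidClass.coe_pow, hel.2 _ (hY ▸ hx)]; rfl), map_one]
  have hZ2 : ∀ z ∈ Z, z ^ p = 1 := by
    rw [← hYb]
    rintro _ ⟨y, hy, rfl⟩
    rw [← map_pow, hYbel.2 y hy, map_one]
  have hZp : IsPGroup p Z := fun z => ⟨1, Subtype.ext (by simpa using hZ2 z z.2)⟩
  have hmaxZ : ∀ A : Subgroup (↥L ⧸ pCore p ↥L), Z ≤ A → A ≠ ⊤ → A ≤ Subgroup.normalizer (Z : Set (↥L ⧸ pCore p ↥L)) := by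
    intro A hA hAt
    rw [hNeq, hN]
    intro z hz
    obtain ⟨x, rfl⟩ := hs z
    obtain ⟨X, hX⟩ : ∃ X, X = (A.comap π).map L.subtype := ⟨_, rfl⟩
    have hXL : X < L := by
      refine lt_of_le_of_ne (hX ▸ Subgroup.map_subtype_le _) fun e => hAt (top_le_iff.1 fun w _ => ?_)
      obtain ⟨⟨v, hv⟩, rfl⟩ := hs w
      obtain ⟨u, hu, eu⟩ := hX ▸ e.ge hv
      exact (Subtype.ext eu : u = ⟨v, hv⟩) ▸ hu
    exact ⟨x, hmax X (fun y hy => hX ▸ ⟨⟨y, hYL hy⟩, hA (hZ ▸ ⟨⟨y, hYL hy⟩, hy, rfl⟩), rfl⟩) hXL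
      (hX ▸ ⟨x, hz, rfl⟩), rfl⟩
  have hZne : Z ≠ ⊥ := fun h => by
    refine hNlt.not_ge ?_
    have h4 : Subgroup.normalizer (Z : Set (↥L ⧸ pCore p ↥L)) = ⊤ := by rw [h, Subgroup.normalizer_eq_top]
    rw [hNeq, hN] at h4
    intro l hl
    obtain ⟨x, hx, e⟩ := h4.ge (Subgroup.mem_top (π ⟨l, hl⟩))
    have h5 := (hker (x⁻¹ * ⟨l, hl⟩)).1 (by rw [map_mul, map_inv, e, inv_mul_cancel])
    have hON : pCoreOf p L ≤ NL := hYn ▸ le_inf (Fusion.pCoreOf_le L) hOY
    have := mul_mem (show (x : G) ∈ NL from hx) (hON h5)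
    simpa using this
  refine ⟨fun h => hZne (by rw [← hYb, h, Subgroup.map_bot]), hYbn, hYbel, fun V hVn hVel hV1 => ?_⟩
  apply Subgroup.map_injective hιi
  rw [hYb]
  have hV1' : V.map ι ≠ ⊥ := fun h => hV1 ((Subgroup.map_eq_bot_iff_of_injective _ hιi).1 h)
  have hV2 : ∀ v ∈ V.map ι, v ^ p = 1 := by
    rintro _ ⟨v, hv, rfl⟩
    rw [← map_pow, hVel.2 v hv, map_one]
  have hVp : IsPGroup p ↥(V.map ι) := fun v => ⟨1, Subtype.ext (by simpa using hV2 v v.2)⟩
  have hNV : Subgroup.normalizer (Z : Set (↥L ⧸ pCore p ↥L)) ≤ Subgroup.normalizer ((V.map ι : Subgroup _) : Set (↥L ⧸ pCore p ↥L)) := by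
    rw [hNeq, ← hrange, MonoidHom.range_eq_map]
    refine (Subgroup.map_mono ?_).trans (Subgroup.le_normalizer_map ι)
    rw [Subgroup.normalizer_eq_top]
  obtain ⟨k, hk⟩ := IsPGroup.iff_card.1 hZp
  have h2case : Nat.card Z = 2 → V.map ι = Z := by
    intro h2
    have hp2 : p = 2 := by
      rw [h2] at hk
      have hd : p ∣ 2 := hk ▸ dvd_pow_self p (fun h => by rw [h, pow_zero] at hk; omega)
      exact (Nat.prime_dvd_prime_iff_eq Fact.out Nat.prime_two).1 hd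
    subst hp2
    exact order_two h0 Z h2 hmaxZ _ hVp hNV hV1'
  have transfer : ∀ {X : Type} [Group X] (e : (↥L ⧸ pCore p ↥L) ≃* X) (A : Subgroup (↥L ⧸ pCore p ↥L)),
      IsPGroup p A → IsPGroup p ↥(A.map e.toMonoidHom) ∧ Nat.card ↥(A.map e.toMonoidHom) = Nat.card A := by
    intro X _ e A hA
    exact ⟨hA.map _, Subgroup.card_map_of_injective e.injective⟩
  rcases hiso with ⟨F, _, _, hF, ⟨e⟩⟩ | ⟨hp2, F, _, _, m, hFm, hF, ⟨e⟩⟩ | ⟨hp2, r, hr, hr2, ⟨e⟩⟩
  · apply Subgroup.map_injective (f := e.toMonoidHom) e.injective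
    rw [← hcard] at hF
    refine sl2_case (n := k) (hF.trans hk) _ _ (hZp.map _) ?_ (hVp.map _) ?_ ?_
    · rw [(transfer e Z hZp).2, hF]
    · rw [← Subgroup.map_equiv_normalizer_eq, ← Subgroup.map_equiv_normalizer_eq]
      exact Subgroup.map_mono hNV
    · exact fun h => hV1' ((Subgroup.map_eq_bot_iff_of_injective _ e.injective).1 h)
  · subst hp2
    rw [← hcard] at hF
    rcases Nat.eq_zero_or_pos m with rfl | hm
    · exact h2case (by rw [← hF, hFm]; rfl)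
    obtain ⟨f⟩ := Lie.Suzuki.lie_sz_equiv hFm hm
    obtain ⟨e', he'⟩ : ∃ e' : (↥L ⧸ pCore 2 ↥L) ≃* Cfsg.Sz F m, e' = e.trans f.symm := ⟨_, rfl⟩
    apply Subgroup.map_injective (f := e'.toMonoidHom) e'.injective
    refine sz_case hm hFm _ _ ?_ (hZp.map _) ?_ ?_ (hVp.map _) ?_ ?_
    · rintro _ ⟨z, hz, rfl⟩; rw [← map_pow, hZ2 z hz, map_one]
    · rw [(transfer e' Z hZp).2, hF]
    · rintro _ ⟨z, hz, rfl⟩; rw [← map_pow, hV2 z hz, map_one]
    · rw [← Subgroup.map_equiv_normalizer_eq, ← Subgroup.map_equiv_normalizer_eq]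
      exact Subgroup.map_mono hNV
    · exact fun h => hV1' ((Subgroup.map_eq_bot_iff_of_injective _ e'.injective).1 h)
  · subst hp2
    refine h2case ?_
    have hd : Nat.card Z ∣ 2 * r := by
      rw [← DihedralGroup.nat_card, ← Nat.card_congr e.toEquiv]
      exact Subgroup.card_subgroup_dvd_card Z
    rw [hk] at hd ⊢
    have h2 : (2 : ℕ) ^ k ∣ 2 := (Nat.Coprime.pow_left k ((Nat.coprime_primes Nat.prime_two hr).2 (Ne.symm hr2))).dvd_of_dvd_mul_right hd
    rcases (Nat.dvd_prime Nat.prime_two).1 h2 with h | h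
    · exact absurd (Subgroup.eq_bot_of_card_eq Z (hk.trans h)) hZne
    · exact h

end Cfsg.Agent.S2861
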