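import Cfsg.Statements.S2862
import Cfsg.Agent.Lib.LocalEven.AsymmetricMin

set_option autoImplicit false
open Cfsg
open scoped commutatorElement

namespace Cfsg.Agent.LocalEven.AsymMin

open Cfsg.Agent.Fusion

variable {G : Type*} [Group G] [Finite G] {p : ℕ} [Fact p.Prime] {Y P H L : Subgroup G}

/-- `L = O^p(L) Y`. -/
theorem Setup.residual_sup (s : Setup p Y P H L) :
    L ≤ (pResidual p ↥L).map L.subtype ⊔ Y := by
  obtain ⟨T, hYT⟩ := (s.isPGroup_Y.comap_subtype (K := L)).exists_le_sylow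
  set T' := (T : Subgroup L).map L.subtype
  have hYT' : Y ≤ T' := fun y hy => ⟨⟨y, s.hYL hy⟩, hYT hy, rfl⟩
  have hT := s.pgroup_le_normalizer (T.isPGroup'.map _ : IsPGroup p T') (Subgroup.map_subtype_le _) hYT'
  have hTn : (T : Subgroup L) ≤ Subgroup.normalizer ((Y.subgroupOf L : Subgroup L) : Set L) := by
    rw [← Subgroup.subgroupOf_normalizer_eq s.hYL]
    exact fun t ht => hT ⟨t, ht, rfl⟩
  have hn : (pResidual p ↥L ⊔ Y.subgroupOf L).Normal := by
    rw [← Subgroup.normalizer_eq_top_iff, eq_top_iff, ← pResidual_sup_sylow T]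
    refine sup_le (le_sup_left.trans Subgroup.le_normalizer) fun t ht => mem_normalizer_iff_cj.2 ?_
    rw [cj_sup, cj_of_normal, cj_eq_self (hTn ht)]
  have h1 : pResidual p ↥L ⊔ Y.subgroupOf L = ⊤ :=
    top_le_iff.1 (s.closure_top ▸ Subgroup.normalClosure_le_normal (N := pResidual p ↥L ⊔ Y.subgroupOf L)
      (fun y hy => Subgroup.mem_sup_right hy))
  intro l hl
  have h2 : l ∈ (pResidual p ↥L ⊔ Y.subgroupOf L).map L.subtype := ⟨⟨l, hl⟩, h1 ▸ Subgroup.mem_top _, rfl⟩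
  rw [Subgroup.map_sup] at h2
  rw [Subgroup.map_subgroupOf_eq_of_le s.hYL] at h2
  exact h2

/-- A `p`-group acting on a nontrivial section of a `p`-group does not generate it by commutators. -/
theorem le_of_le_commutator_sup {T V W : Subgroup G} (hT : IsPGroup p T) (hVT : V ≤ T) (hWT : W ≤ T)
    (hWn : T ≤ Subgroup.normalizer (W : Set G)) (h : V ≤ ⁅V, T⁆ ⊔ W) : V ≤ W := by
  haveI : Group.IsNilpotent T := hT.isNilpotent
  haveI : (W.subgroupOf T).Normal := (Subgroup.normal_subgroupOf_iff_le_normalizer hWT).2 hWn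
  set π := QuotientGroup.mk' (W.subgroupOf T)
  set X := (V.subgroupOf T).map π
  have hX : X ≤ ⁅X, (⊤ : Subgroup (T ⧸ W.subgroupOf T))⁆ := by
    rintro _ ⟨v, hv, rfl⟩
    have h1 : (v : G) ∈ (⁅V.subgroupOf T, (⊤ : Subgroup T)⁆ ⊔ W.subgroupOf T).map T.subtype := by
      rw [Subgroup.map_sup, Subgroup.map_commutator, Subgroup.map_subgroupOf_eq_of_le hVT,
        Subgroup.map_subgroupOf_eq_of_le hWT, ← MonoidHom.range_eq_map, Subgroup.range_subtype]
      exact h hv
    obtain ⟨w, hw, e⟩ := h1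
    have h2 : π w ∈ (⁅V.subgroupOf T, (⊤ : Subgroup T)⁆ ⊔ W.subgroupOf T).map π := ⟨w, hw, rfl⟩
    rw [Subgroup.map_sup, QuotientGroup.map_mk'_self, sup_bot_eq, Subgroup.map_commutator,
      Subgroup.map_top_of_surjective π (QuotientGroup.mk'_surjective _)] at h2
    rwa [show w = v from Subtype.ext e] at h2
  have hl : ∀ n, X ≤ Subgroup.lowerCentralSeries (⊤ : Subgroup (T ⧸ W.subgroupOf T)) n := by
    intro n
    induction n with
    | zero => exact le_top
    | succ n ih => exact hX.trans (Subgroup.commutator_mono ih le_rfl)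
  obtain ⟨n, hn⟩ := (Subgroup.nilpotent_iff_lowerCentralSeries (G := T ⧸ W.subgroupOf T)).1 inferInstance
  intro v hv
  have h3 : π ⟨v, hVT hv⟩ = 1 := Subgroup.mem_bot.1 (hn ▸ hl n ⟨⟨v, hVT hv⟩, hv, rfl⟩)
  exact (QuotientGroup.eq_one_iff (⟨v, hVT hv⟩ : T)).1 h3

/-- `O^p(L)` is nontrivial on noncentral chief factors in the core of `H`. -/
theorem Setup.chief (s : Setup p Y P H L) {V W : Subgroup G} (hV : V ≤ pCoreOf p H)
    (hVn : H ≤ Subgroup.normalizer (V : Set G)) (hWn : H ≤ Subgroup.normalizer (W : Set G)) (hlt : W < V)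
    (hirr : ∀ Z : Subgroup G, H ≤ Subgroup.normalizer (Z : Set G) → W ≤ Z → Z ≤ V → Z = W ∨ Z = V)
    (hnc : ¬ ⁅V, H⁆ ≤ W) : ¬ ⁅V, (pResidual p ↥L).map L.subtype⁆ ≤ W := by
  intro hc
  set R := (pResidual p ↥L).map L.subtype
  set F := H ⊓ act V W
  have hRF : R ≤ F := le_inf ((Subgroup.map_subtype_le _).trans s.hLH)
    (le_act (((Subgroup.map_subtype_le _).trans s.hLH).trans hVn)
      (((Subgroup.map_subtype_le _).trans s.hLH).trans hWn) (by rwa [Subgroup.commutator_comm]))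
  have hH : H ≤ F ⊔ P := by
    conv_lhs => rw [← s.gen_P]
    exact sup_le (s.residual_sup.trans (sup_le (le_sup_of_le_left hRF) (le_sup_of_le_right s.hYP))) le_sup_right
  set C := ⁅V, P⁆ ⊔ W
  have hCV : C ≤ V := sup_le (Subgroup.le_normalizer_iff_commutator_le_left.1 (s.hPH.trans hVn)) hlt.le
  have hA : H ≤ act V C := by
    refine hH.trans (sup_le (fun f hf => ?_) ?_)
    · have hf' : f ∈ act V W := (Subgroup.mem_inf.1 hf).2
      refine ⟨hf'.1, mem_normalizer_of_cj_le ?_, fun v hv => Subgroup.mem_sup_right (hf'.2.2 v hv)⟩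
      rintro _ ⟨c, hc, rfl⟩
      show f * c * f⁻¹ ∈ C
      rw [show f * c * f⁻¹ = ⁅f, c⁆ * c by simp [commutatorElement_def]]
      exact mul_mem (Subgroup.mem_sup_right (hf'.2.2 c (hCV hc))) hc
    · refine le_act (s.hPH.trans hVn) ?_ (by rw [Subgroup.commutator_comm]; exact le_sup_left)
      exact fun x hx => mem_normalizer_iff_cj.2 (by
        rw [cj_sup, cj_commutator, cj_eq_self ((s.hPH.trans hVn) hx), cj_eq_self ((s.hPH.trans hWn) hx),
          cj_eq_self_of_mem hx])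
  have hVHC : ⁅V, H⁆ ≤ C := Subgroup.commutator_le.2 fun v hv x hx => by
    rw [← commutatorElement_inv]; exact inv_mem ((hA hx).2.2 v hv)
  rcases hirr (⁅V, H⁆ ⊔ W) (fun x hx => mem_normalizer_iff_cj.2 (by
      rw [cj_sup, cj_eq_self (hWn hx), cj_commutator, cj_eq_self (hVn hx), cj_eq_self_of_mem hx]))
    le_sup_right (sup_le (Subgroup.le_normalizer_iff_commutator_le_left.1 hVn) hlt.le) with e | e
  · exact hnc (e ▸ le_sup_left)
  · have hT : IsPGroup p ↥(pCoreOf p H ⊔ P) :=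
      (pCoreOf_isPGroup H).to_sup_of_normal_left' s.hPp (s.hPH.trans s.core_norm)
    have h1 : V ≤ ⁅V, pCoreOf p H ⊔ P⁆ ⊔ W := e.ge.trans <| sup_le
      (hVHC.trans (sup_le_sup_right (Subgroup.commutator_mono le_rfl le_sup_right) W)) le_sup_right
    exact hlt.not_ge (le_of_le_commutator_sup hT (hV.trans le_sup_left)
      ((hlt.le.trans hV).trans le_sup_left) (fun x hx => hWn (sup_le (pCoreOf_le H) s.hPH hx)) h1)

end Cfsg.Agent.LocalEven.AsymMin

namespace Cfsg.Agent.S2862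

open Cfsg.Agent.Fusion

/-- Standing hypotheses: G a finite group, S a Sylow p-subgroup, Q a nontrivial large p-subgroup of G contained in S, M a subgroup containing S with the basic property (M ∈ 𝔐_G(S)); Y_M the largest p-reduced normal subgroup of M and M† = M·C_G(Y_M). Suppose Y_M is char-p-tall and asymmetric in G, H ∈ ℌ_G(O_p(M)), and L is minimal among the subgroups of H containing Y_M with Y_M ≰ O_p(L). Then H = ⟨L, O_p(M)⟩ = ⟨hY_Mh⁻¹, O_p(M)⟩ for every h ∈ L outside N_L(Y_M); L is Y_M-minimal and of characteristic p, with N_L(Y_M) the unique maximal subgroup of L containing Y_M; [V, O^p(L)] ≠ 1 for every noncentral chief factor V/W of H inside O_p(H) (that is, O^p(L) does not act trivially on V/W); and the normal closure of O_p(L) ∩ Y_M in L lies in O_p(H). -/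
theorem result {G : Type*} [Group G] [Finite G] {p : ℕ} [Fact p.Prime] (S : Sylow p G) (Q : Subgroup G) (hQp : IsPGroup p ↥Q) (hQ1 : Q ≠ ⊥) (hQS : Q ≤ (S : Subgroup G)) (hQ : Cfsg.IsLarge Q) (M : Subgroup G) (hSM : (S : Subgroup G) ≤ M) (hM : Cfsg.IsInFrakM p M) (htall : Cfsg.IsCharPTall p (Cfsg.largestPReducedOf p M)) (hasym : ¬ Cfsg.IsSymmetricIn (Cfsg.largestPReducedOf p M)) (H : Subgroup G) (hH : Cfsg.IsInFrakH p M H) (L : Subgroup G) (hLH : L ≤ H) (hYL : (Cfsg.largestPReducedOf p M) ≤ L) (hYO : ¬ (Cfsg.largestPReducedOf p M) ≤ (Cfsg.pCoreOf p L)) (hmin : ∀ L' : Subgroup G, L' ≤ L → (Cfsg.largestPReducedOf p M) ≤ L' → ¬ (Cfsg.largestPReducedOf p M) ≤ (Cfsg.pCoreOf p L') → L' = L) : (L ⊔ (Cfsg.pCoreOf p M) = H ∧ ∀ h ∈ L, h ∉ Subgroup.normalizer (((Cfsg.largestPReducedOf p M) : Subgroup G) : Set G) → (((Cfsg.largestPReducedOf p M) : Subgroup G).map (MulAut.conj (h : G)).toMonoidHom) ⊔ (Cfsg.pCoreOf p M) = H) ∧ (Cfsg.IsMinimalOver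 (((Cfsg.largestPReducedOf p M)).subgroupOf L) ∧ Subgroup.centralizer (Cfsg.pCore p ↥L : Set ↥L) ≤ Cfsg.pCore p ↥L ∧ L ⊓ Subgroup.normalizer (((Cfsg.largestPReducedOf p M) : Subgroup G) : Set G) < L ∧ ∀ X : Subgroup G, (Cfsg.largestPReducedOf p M) ≤ X → X < L → X ≤ L ⊓ Subgroup.normalizer (((Cfsg.largestPReducedOf p M) : Subgroup G) : Set G)) ∧ (∀ V W' : Subgroup G, V ≤ (Cfsg.pCoreOf p H) → H ≤ Subgroup.normalizer ((V : Subgroup G) : Set G) → H ≤ Subgroup.normalizer ((W' : Subgroup G) : Set G) → W' < V → (∀ Z' : Subgroup G, H ≤ Subgroup.normalizer ((Z' : Subgroup G) : Set G) → W' ≤ Z' → Z' ≤ V → Z' = W' ∨ Z' = V) → ¬ ⁅V, H⁆ ≤ W' → ¬ ⁅V, ((Cfsg.pResidual p ↥L).map (L).subtype)⁆ ≤ W') ∧ (Subgroup.normalClosure (((((Cfsg.pCoreOf p L) ⊓ (Cfsg.largestPReducedOf p M)).subgroupOf L : Subgroup ↥L)) : Set ↥L)).map L.subtype ≤ (Cfsg.pCoreOf p H) := by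
  obtain ⟨hHc, hPH, -, hprop⟩ := hH
  obtain ⟨hsyl, -, -, hmax⟩ := LocalEven.Asym.facts S hQp hQ1 hQ hSM hM
  have hP1 : pCoreOf p M ≠ ⊥ := fun h => hM.1.1
    ((Subgroup.map_eq_bot_iff_of_injective _ M.subtype_injective).1 h)
  have hPN : Subgroup.normalizer ((pCoreOf p M : Subgroup G) : Set G) ≤
      Subgroup.normalizer ((largestPReducedOf p M : Subgroup G) : Set G) :=
    (hmax _ hsyl.isPGroup hP1 (le_normalizer_pCoreOf M)).trans
      (sup_le (LocalEven.Red.le_normalizer_Y M) (Subgroup.centralizer_le_normalizer _))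
  have s : LocalEven.AsymMin.Setup p (largestPReducedOf p M) (pCoreOf p M) H L :=
    { hYP := LocalEven.Red.Y_le_core M
      hPC := hsyl.le
      hPp := hsyl.isPGroup
      hNR := fun R hR hPR =>
        (LocalEven.Asym.normalizer_le S hQp hQ1 hQ hSM hM hasym hR hPR).trans hPN
      hasym := fun g h1 h2 => by
        by_contra hne
        exact hasym ⟨g, fun e => hne (Subgroup.le_centralizer_iff.1
          (Subgroup.commutator_eq_bot_iff_le_centralizer.1 e)),
          le_inf (Subgroup.le_normalizer_iff_commutator_le_left.1 h2)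
            (Subgroup.le_normalizer_iff_commutator_le_right.1 h1)⟩
      hPH := hPH
      hchar := fun x hx => by
        obtain ⟨hxH, hxC⟩ := Subgroup.mem_inf.1 hx
        refine ⟨⟨x, hxH⟩, hHc (Subgroup.mem_centralizer_iff.2 fun y hy => Subtype.ext ?_), rfl⟩
        exact Subgroup.mem_centralizer_iff.1 hxC y ⟨y, hy, rfl⟩
      hprop := hprop
      hLH := hLH
      hYL := hYL
      hYO := hYO
      hmin := hmin }
  obtain ⟨hm1, hm2, hm3⟩ := s.minimalOver
  refine ⟨⟨s.gen_P, fun h hh hn => s.pair_gen (s.pair_of_not_mem hh hn)⟩, ⟨hm1, ?_, hm2, hm3⟩,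
    fun V W hV hVn hWn hlt hirr hnc => s.chief hV hVn hWn hlt hirr hnc, ?_⟩
  · intro x hx
    have h1 : (x : G) ∈ pCoreOf p L := s.charP (Subgroup.mem_inf.2 ⟨x.2,
      Subgroup.mem_centralizer_iff.2 fun _ ⟨y, hy, e⟩ =>
        e ▸ congrArg Subtype.val (Subgroup.mem_centralizer_iff.1 hx y hy)⟩)
    obtain ⟨y, hy, e⟩ := h1
    exact (Subtype.ext e : y = x) ▸ hy
  · haveI : ((pCoreOf p H).subgroupOf L).Normal := ⟨fun n hn g =>
      (Subgroup.mem_normalizer_iff.1 (le_normalizer_pCoreOf H (hLH g.2)) _).1 hn⟩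
    rintro _ ⟨x, hx, rfl⟩
    exact Subgroup.normalClosure_le_normal (N := (pCoreOf p H).subgroupOf L)
      (fun y hy => s.inter_le_core hy) hx

end Cfsg.Agent.S2862
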