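import Cfsg.Statements.S2863
import Cfsg.Agent.Lib.LocalEven.TIModels
import Cfsg.Agent.Lib.LocalEven.ReducedOf

set_option autoImplicit false
open Cfsg

namespace Cfsg.Agent.S2863

theorem result {G : Type*} [Group G] [Finite G] {p : ℕ} [Fact p.Prime] (S : Sylow p G) (Q : Subgroup G) (hQp : IsPGroup p ↥Q) (hQ1 : Q ≠ ⊥) (hQS : Q ≤ (S : Subgroup G)) (hQ : Cfsg.IsLarge Q) (M : Subgroup G) (hSM : (S : Subgroup G) ≤ M) (hM : Cfsg.IsInFrakM p M) (L : Subgroup G) (hL : Cfsg.IsInFrakL p M L) (h : G) (hh : h ∈ L) (hnp : ¬ ∃ k : ℕ, orderOf h = p ^ k) : ∀ a ∈ (Cfsg.pCoreOf p L), h * a * h⁻¹ * a⁻¹ ∈ (Cfsg.largestPReducedOf p M) ⊓ Subgroup.centralizer ((L : Subgroup G) : Set G) → a ∈ (Cfsg.largestPReducedOf p M) ⊓ Subgroup.centralizer ((L : Subgroup G) : Set G) := by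
  intro a ha hcomm
  obtain ⟨hYL, hclos, hnorm, ⟨hmin, -⟩, hchar, ⟨-, hmax⟩, hmodel⟩ := hL
  set Y := Cfsg.largestPReducedOf p M with hY
  set Zc := Y ⊓ Subgroup.centralizer (L : Set G) with hZc
  set A := Cfsg.pCore p ↥L with hA
  have hAof : (Cfsg.pCoreOf p L).subgroupOf L = A :=
    Subgroup.comap_map_eq_self_of_injective L.subtype_injective _
  set Z := Zc.subgroupOf L with hZ
  have hZc' : ∀ z ∈ Z, ∀ l : ↥L, z * l = l * z := fun z hz l => Subtype.ext
    (Subgroup.mem_centralizer_iff.1 hz.2 l l.2).symm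
  haveI hZn : Z.Normal := ⟨fun z hz g => by rwa [← hZc' z hz g, mul_inv_cancel_right]⟩
  set YL := Y.subgroupOf L with hYLdef
  have hZY : Z ≤ YL := fun z hz => hz.1
  have hZA : Z ≤ A := fun z hz => hchar (Subgroup.mem_centralizer_iff.2 fun x _ => (hZc' z hz x).symm)
  have hYel := (Cfsg.Agent.LocalEven.Red.largest_reduced (p := p) (L := ↥M)).2.1
  have hYcomm : ∀ x ∈ YL, ∀ y ∈ YL, x * y = y * x := by
    intro x hx y hy
    obtain ⟨x', hx', ex⟩ := hx
    obtain ⟨y', hy', ey⟩ := hy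
    refine Subtype.ext ?_
    show (x : G) * y = y * x
    rw [show (x : G) = L.subtype x from rfl, show (y : G) = L.subtype y from rfl, ← ex, ← ey, ← map_mul,
      ← map_mul]
    exact congrArg _ (congrArg Subtype.val (hYel.1.is_comm.comm ⟨x', hx'⟩ ⟨y', hy'⟩))
  have hYexp : ∀ x ∈ YL, x ^ p = 1 := by
    intro x hx
    obtain ⟨x', hx', ex⟩ := hx
    refine Subtype.ext ?_
    rw [SubmonoidClass.coe_pow, show (x : G) = L.subtype x from rfl, ← ex, ← map_pow, hYel.2 x' hx', map_one]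
    rfl
  -- the quotient `↥L ⧸ Z`
  set μ := QuotientGroup.mk' Z with hμ
  have hμs : Function.Surjective μ := QuotientGroup.mk'_surjective Z
  have hker : ∀ x, μ x = 1 ↔ x ∈ Z := fun x => QuotientGroup.eq_one_iff x
  have hAne : A ≠ ⊤ := fun e => hnp <| by
    obtain ⟨k, hk⟩ := Cfsg.Agent.Fusion.isPGroup_pCore p ↥L ⟨⟨h, hh⟩, show (⟨h, hh⟩ : ↥L) ∈ A by rw [e]; exact Subgroup.mem_top _⟩
    obtain ⟨j, -, hj⟩ := (Nat.dvd_prime_pow (Fact.out : p.Prime)).1
      (orderOf_dvd_of_pow_eq_one (by simpa using congrArg (fun z : ↥A => ((z : ↥L) : G)) hk : h ^ p ^ k = 1))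
    exact ⟨j, hj⟩
  have hclosA : A = Subgroup.normalClosure ((YL ⊓ A : Subgroup ↥L) : Set ↥L) := by
    have h1 := congrArg (fun X : Subgroup G => X.subgroupOf L) hclos
    rw [hAof, show (Subgroup.map L.subtype _).subgroupOf L = _ from
      Subgroup.comap_map_eq_self_of_injective L.subtype_injective _] at h1
    refine h1.trans ?_
    rw [← hAof]
    rfl
  have hnormL : ∀ x : ↥L, (x : G) ∈ Subgroup.normalizer (Y : Set G) → x ∈ Subgroup.normalizer (YL : Set ↥L) :=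
    fun x hx => Subgroup.mem_normalizer_iff.2 fun y => (Subgroup.mem_normalizer_iff.1 hx (y : G))
  have hmaxL : ∀ X : Subgroup ↥L, YL ≤ X → X ≠ ⊤ → X ≤ Subgroup.normalizer (YL : Set ↥L) := by
    intro X hX hXt x hx
    refine hnormL x ((hmax (X.map L.subtype) (fun y hy => ⟨⟨y, hYL hy⟩, hX hy, rfl⟩)
      (lt_of_le_of_ne (Subgroup.map_subtype_le X) fun e1 => hXt ?_) ⟨x, hx, rfl⟩).2)
    refine eq_top_iff.2 fun z _ => ?_
    obtain ⟨w, hw, ew⟩ := (e1.symm ▸ z.2 : (z : G) ∈ X.map L.subtype)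
    exact Subtype.ext (a1 := z) (a2 := w) ew.symm ▸ hw
  have hYA : ¬ YL ≤ A := fun e => hAne (eq_top_iff.2 (hmin ▸ Subgroup.normalClosure_le_normal e))
  -- a model `f` of the quotient by `A`
  have hcoreQ : ∀ (Q : Type) [Group Q] [Finite Q] (f : ↥L →* Q), Function.Surjective f → f.ker = A →
      Cfsg.pCore p Q = ⊥ := by
    intro Q _ _ f hf hfker
    obtain ⟨e⟩ : Nonempty (↥L ⧸ A ≃* Q) := ⟨(QuotientGroup.quotientMulEquivOfEq hfker.symm).trans
      (QuotientGroup.quotientKerEquivOfSurjective f hf)⟩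
    have h1 : (Cfsg.pCore p Q).comap e.toMonoidHom ≤ Cfsg.pCore p (↥L ⧸ A) :=
      Cfsg.Agent.Fusion.le_pCore ((Cfsg.Agent.Fusion.isPGroup_pCore p Q).comap_of_injective _ e.injective)
    refine eq_bot_iff.2 fun x hx => ?_
    have h3 : Cfsg.pCore p (↥L ⧸ A) = ⊥ := Cfsg.Agent.Fusion.pCore_quotient_eq_bot
    rw [h3] at h1
    have h2 := h1 (show e.symm x ∈ (Cfsg.pCore p Q).comap e.toMonoidHom by simpa using hx)
    rw [Subgroup.mem_bot] at h2 ⊢
    rw [← e.apply_symm_apply x, h2, map_one]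
  have hneQ : ∀ (Q : Type) [Group Q] (f : ↥L →* Q), f.ker = A → YL.map f ≠ ⊥ := by
    intro Q _ f hfker e
    rw [Subgroup.map_eq_bot_iff, hfker] at e
    exact hYA e
  have hcard : ∀ (Q : Type) [Group Q] (f : ↥L →* Q), f.ker = A →
      Nat.card ↥(YL.map f) = (Y ⊓ Cfsg.pCoreOf p L).relIndex Y := by
    intro Q _ f hfker
    rw [← Subgroup.relIndex_ker, hfker, ← hAof, hYLdef, Subgroup.relIndex_subgroupOf hYL, inf_comm,
      Subgroup.inf_relIndex_right]
  have hexpQ : ∀ (Q : Type) [Group Q] (f : ↥L →* Q), ∀ x ∈ YL.map f, x ^ p = 1 := by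
    rintro Q _ f _ ⟨y, hy, rfl⟩
    rw [← map_pow, hYexp y hy, map_one]
  have hmaxQ : ∀ (Q : Type) [Group Q] (f : ↥L →* Q), Function.Surjective f → ∀ X : Subgroup Q,
      YL.map f ≤ X → X ≠ ⊤ → X ≤ Subgroup.normalizer ((YL.map f : Subgroup Q) : Set Q) := by
    intro Q _ f hf X hX hXt x hx
    obtain ⟨x, rfl⟩ := hf x
    have h1 := hmaxL (X.comap f) (Subgroup.map_le_iff_le_comap.1 hX) (fun e => hXt (by
      rw [← Subgroup.map_comap_eq_self_of_surjective hf X, e, Subgroup.map_top_of_surjective f hf])) hx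
    exact Subgroup.le_normalizer_map f ⟨x, h1, rfl⟩
  have fin : ∀ (Q : Type) [Group Q] [Finite Q] (f : ↥L →* Q), Function.Surjective f → f.ker = A →
      Cfsg.Agent.LocalEven.TI.OmegaSelf p (YL.map f) →
      (∀ (π : (↥L ⧸ Z) →* Q), Cfsg.Agent.LocalEven.TI.Full p π (YL.map μ) → (YL.map μ).map π = YL.map f →
        ∀ (s b : ↥L ⧸ Z) (r : ℕ), r.Prime → r ≠ p → orderOf (π s) = r → b ∈ π.ker → s * b = b * s → b = 1) →
      a ∈ Zc := by
    intro Q _ _ f hf hfker hprop hconcl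
    set π := QuotientGroup.lift Z f (hfker ▸ hZA) with hπ
    have hπμ : ∀ x, π (μ x) = f x := fun x => rfl
    have hmm : (YL.map μ).map π = YL.map f := by rw [Subgroup.map_map]; rfl
    have hπs : Function.Surjective π := fun q => by obtain ⟨x, hx⟩ := hf q; exact ⟨μ x, hx⟩
    have hπker : π.ker = A.map μ := by
      ext x
      obtain ⟨x, rfl⟩ := hμs x
      refine ⟨fun hx => ⟨x, hfker ▸ hx, rfl⟩, ?_⟩
      rintro ⟨y, hy, e⟩
      rw [MonoidHom.mem_ker, ← e, hπμ]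
      exact (hfker.symm ▸ hy : y ∈ f.ker)
    have hback : ∀ {x : ↥L}, μ x ∈ YL.map μ → x ∈ YL := by
      rintro x ⟨y, hy, e⟩
      have h1 : y⁻¹ * x ∈ Z := (hker _).1 (by rw [map_mul, map_inv, e, inv_mul_cancel])
      simpa using mul_mem hy (hZY h1)
    have hnμ : ∀ x : ↥L, x ∈ Subgroup.normalizer (YL : Set ↥L) →
        μ x ∈ Subgroup.normalizer ((YL.map μ : Subgroup _) : Set (↥L ⧸ Z)) := fun x hx =>
      Subgroup.le_normalizer_map μ ⟨x, hx, rfl⟩
    have hpre : Cfsg.Agent.LocalEven.TI.Pre p π (YL.map μ) := by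
      refine Cfsg.Agent.LocalEven.TI.Pre.of_core hπs ?_ ?_ ?_ ?_ (hcoreQ Q f hf hfker) ?_ ?_
      · rintro _ ⟨x, hx, rfl⟩ _ ⟨y, hy, rfl⟩
        rw [← map_mul, hYcomm x hx y hy, map_mul]
      · rintro _ ⟨x, hx, rfl⟩
        rw [← map_pow, hYexp x hx, map_one]
      · rw [hπker]
        rintro _ ⟨x, hx, rfl⟩
        exact hnμ x (hnormL x (hnorm ⟨x, hx, rfl⟩))
      · intro X hX hXt x hx
        obtain ⟨x, rfl⟩ := hμs x
        exact hnμ x (hmaxL (X.comap μ) (Subgroup.map_le_iff_le_comap.1 hX) (fun e => hXt (by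
          rw [← Subgroup.map_comap_eq_self_of_surjective hμs X, e, Subgroup.map_top_of_surjective μ hμs])) hx)
      · rw [hmm]; exact hneQ Q f hfker
      · rw [hmm]; exact hprop
    have hfull : Cfsg.Agent.LocalEven.TI.Full p π (YL.map μ) := by
      refine ⟨hpre, ?_, ?_⟩
      · rw [hπker]
        conv_lhs => rw [hclosA]
        rw [Subgroup.map_normalClosure _ _ hμs]
        refine Subgroup.normalClosure_mono ?_
        rintro _ ⟨x, hx, rfl⟩
        exact ⟨⟨x, hx.1, rfl⟩, x, hx.2, rfl⟩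
      · rintro g hg _ ⟨x, hx, rfl⟩ - hgx
        obtain ⟨g, rfl⟩ := hμs g
        rw [← map_inv, ← map_mul, ← map_mul] at hgx
        have h1 : g⁻¹ * x * g ∈ YL := hback hgx
        have h2 : YL ⊔ YL.map (MulAut.conj g).toMonoidHom = ⊤ := by
          refine eq_top_iff.2 fun z _ => ?_
          have h3 : μ z ∈ (YL ⊔ YL.map (MulAut.conj g).toMonoidHom).map μ := by
            have h4 : (YL ⊔ YL.map (MulAut.conj g).toMonoidHom).map μ = ⊤ := by
              rw [eq_top_iff, ← hpre.gen hg, Subgroup.map_sup, Subgroup.map_map]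
              refine sup_le_sup le_rfl ?_
              rintro _ ⟨_, ⟨y, hy, rfl⟩, rfl⟩
              exact ⟨y, hy, by simp⟩
            rw [h4]; exact Subgroup.mem_top _
          obtain ⟨w, hw, ew⟩ := h3
          have h5 : w⁻¹ * z ∈ Z := (hker _).1 (by rw [map_mul, map_inv, ew, inv_mul_cancel])
          simpa using mul_mem hw (Subgroup.mem_sup_left (hZY h5))
        have h6 : YL ⊔ YL.map (MulAut.conj g).toMonoidHom ≤ Subgroup.centralizer ({x} : Set ↥L) := by
          refine sup_le (fun y hy => Subgroup.mem_centralizer_singleton_iff.2 (hYcomm y hy x hx)) ?_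
          rintro _ ⟨y, hy, rfl⟩
          refine Subgroup.mem_centralizer_singleton_iff.2 ?_
          have h7 := hYcomm y hy _ h1
          simp only [MulEquiv.toMonoidHom_eq_coe, MonoidHom.coe_coe, MulAut.conj_apply]
          calc g * y * g⁻¹ * x = g * (y * (g⁻¹ * x * g)) * g⁻¹ := by group
            _ = g * (g⁻¹ * x * g * y) * g⁻¹ := by rw [h7]
            _ = x * (g * y * g⁻¹) := by group
        refine (hker x).2 ⟨hx, Subgroup.mem_centralizer_iff.2 fun l hl => ?_⟩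
        have h8 : (⟨l, hl⟩ : ↥L) ∈ Subgroup.centralizer ({x} : Set ↥L) := h6 (h2 ▸ Subgroup.mem_top _)
        exact congrArg Subtype.val (Subgroup.mem_centralizer_singleton_iff.1 h8)
    obtain ⟨a', ha', rfl⟩ : ∃ a' : ↥L, a' ∈ A ∧ (a' : G) = a := by
      obtain ⟨a', h1, h2⟩ := ha
      exact ⟨a', h1, h2⟩
    have hc : μ ⟨h, hh⟩ * μ a' = μ a' * μ ⟨h, hh⟩ := by
      have h1 : μ (⟨h, hh⟩ * a' * ⟨h, hh⟩⁻¹ * a'⁻¹) = 1 := (hker _).2 hcomm
      simp only [map_mul, map_inv] at h1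
      rwa [mul_inv_eq_one, mul_inv_eq_iff_eq_mul] at h1
    -- a power of the image of `h` of prime order
    obtain ⟨r, hr, hrp, hrd⟩ : ∃ r : ℕ, r.Prime ∧ r ≠ p ∧ r ∣ orderOf (π (μ ⟨h, hh⟩)) := by
      by_contra hno
      push Not at hno
      have hpp : p.Prime := Fact.out
      have h1 : IsPGroup p ↥A := Cfsg.Agent.Fusion.isPGroup_pCore p ↥L
      obtain ⟨k, hk⟩ : ∃ k, orderOf (π (μ ⟨h, hh⟩)) = p ^ k := by
        refine ⟨_, Nat.eq_prime_pow_of_unique_prime_dvd (orderOf_pos _).ne' fun {d} hd hdvd => ?_⟩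
        by_contra hdp
        exact hno d hd hdp hdvd
      have h2 : (⟨h, hh⟩ : ↥L) ^ p ^ k ∈ A := by
        rw [← hfker, MonoidHom.mem_ker, map_pow, ← hπμ, ← hk, pow_orderOf_eq_one]
      obtain ⟨j, hj⟩ := h1 ⟨_, h2⟩
      have h3 : h ^ p ^ (k + j) = 1 := by
        have := congrArg (fun z : ↥A => ((z : ↥L) : G)) hj
        simpa [← pow_mul, pow_add] using this
      obtain ⟨i, -, hi⟩ := (Nat.dvd_prime_pow hpp).1 (orderOf_dvd_of_pow_eq_one h3)
      exact hnp ⟨i, hi⟩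
    have hord : orderOf (π (μ ⟨h, hh⟩ ^ (orderOf (π (μ ⟨h, hh⟩)) / r))) = r := by
      rw [map_pow]
      obtain ⟨m, hm⟩ := hrd
      rw [hm, Nat.mul_div_cancel_left m hr.pos, orderOf_pow' _ (fun e => by
        rw [e, mul_zero] at hm; exact (orderOf_pos (π (μ ⟨h, hh⟩))).ne' hm), hm,
        Nat.gcd_eq_right (dvd_mul_left m r), Nat.mul_div_cancel]
      rcases Nat.eq_zero_or_pos m with e | e
      · rw [e, mul_zero] at hm; exact absurd hm (orderOf_pos _).ne'
      · exact e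
    have h1 := hconcl π hfull hmm _ (μ a') r hr hrp hord (hπker ▸ Subgroup.mem_map_of_mem μ ha')
      ((show Commute (μ ⟨h, hh⟩) (μ a') from hc).pow_left _).eq
    exact ((hker a').1 h1)
  rcases hmodel with ⟨F, _, _, hF, ⟨e⟩⟩ | ⟨rfl, F, _, _, m, hFm, hF, ⟨e⟩⟩ | ⟨rfl, r₀, hr₀, hr2, ⟨e⟩⟩
  · -- `SL₂`
    classical
    let f : ↥L →* Matrix.SpecialLinearGroup (Fin 2) F := e.toMonoidHom.comp (QuotientGroup.mk' A)
    have hf : Function.Surjective f := e.surjective.comp (QuotientGroup.mk'_surjective A)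
    have hfker : f.ker = A := (MonoidHom.ker_mulEquiv_comp _ _).trans (QuotientGroup.ker_mk' A)
    have hE : Nat.card ↥(YL.map f) = Fintype.card F := by rw [hcard _ f hfker, hF]
    obtain ⟨n, hn⟩ : ∃ n, Fintype.card F = p ^ n := by
      rw [← hE]
      refine IsPGroup.iff_card.1 ?_
      rintro ⟨x, hx⟩
      exact ⟨1, Subtype.ext (by rw [pow_one, SubmonoidClass.coe_pow, hexpQ _ f x hx]; rfl)⟩
    obtain ⟨hprop, θ, hθ⟩ := Cfsg.Agent.LocalEven.TI.sl2_case hn hE
    haveI : CharP F p := Cfsg.Agent.NatSL2.charP_of_card hn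
    let f' := θ.toMonoidHom.comp f
    have hf' : Function.Surjective f' := θ.surjective.comp hf
    have hf'ker : f'.ker = A := (MonoidHom.ker_mulEquiv_comp f θ).trans hfker
    have hE' : Nat.card ↥(YL.map f') = Fintype.card F := by rw [hcard _ f' hf'ker, hF]
    refine fin _ f' hf' hf'ker (Cfsg.Agent.LocalEven.TI.sl2_case hn hE').1
      fun π hfull hmm s b r hr hrp hs hb hsb => ?_
    exact hfull.no_fixed_sl2 (by rw [hmm, ← hθ, Subgroup.map_map]) hb hsb hr hrp hs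
  · -- Suzuki groups
    have hF2 : (Cfsg.largestPReducedOf 2 M ⊓ Cfsg.pCoreOf 2 L).relIndex (Cfsg.largestPReducedOf 2 M) =
        2 ^ (2 * m + 1) := by rw [← hF, hFm]
    rcases Nat.eq_zero_or_pos m with rfl | hm
    · let f : ↥L →* ↥(Cfsg.Lie.Sz F (2 ^ (0 + 1))) := e.toMonoidHom.comp (QuotientGroup.mk' A)
      have hf : Function.Surjective f := e.surjective.comp (QuotientGroup.mk'_surjective A)
      have hfker : f.ker = A := (MonoidHom.ker_mulEquiv_comp _ _).trans (QuotientGroup.ker_mk' A)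
      obtain ⟨h1, h2⟩ := Cfsg.Agent.LocalEven.TI.two_case (hcoreQ _ f hf hfker)
        (by rw [hcard _ f hfker, hF2]; rfl) (hmaxQ _ f hf)
      refine fin _ f hf hfker h1 fun π hfull hmm s b r hr hrp hs hb hsb => ?_
      have hodd : Odd (orderOf (π s)) := by rw [hs]; exact hr.odd_of_ne_two hrp
      obtain ⟨t, ht, ht1, hinv⟩ := h2 _ hodd
      rw [← hmm] at ht
      obtain ⟨y, hy, rfl⟩ := ht
      refine hfull.no_fixed_of_inverted rfl (x := 1) hb hy ht1 hsb hodd
        (fun e1 => hr.ne_one (by rw [← hs, e1, orderOf_one])) ?_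
      rw [one_mul, inv_one, mul_one]; exact hinv
    · obtain ⟨θ⟩ := Cfsg.Agent.Lie.Suzuki.lie_sz_equiv hFm hm
      let f : ↥L →* Cfsg.Sz F m := (e.trans θ.symm).toMonoidHom.comp (QuotientGroup.mk' A)
      have hf : Function.Surjective f := (e.trans θ.symm).surjective.comp (QuotientGroup.mk'_surjective A)
      have hfker : f.ker = A := (MonoidHom.ker_mulEquiv_comp _ (e.trans θ.symm)).trans (QuotientGroup.ker_mk' A)
      obtain ⟨h1, h2⟩ := Cfsg.Agent.LocalEven.TI.sz_case hFm hm (E := YL.map f)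
        (by rw [hcard _ f hfker, hF]) (hexpQ _ f)
      refine fin _ f hf hfker h1 fun π hfull hmm s b r hr hrp hs hb hsb => ?_
      have hodd : Odd (orderOf (π s)) := by rw [hs]; exact hr.odd_of_ne_two hrp
      have hs1 : π s ≠ 1 := fun e1 => hr.ne_one (by rw [← hs, e1, orderOf_one])
      obtain ⟨x, t, ht, ht1, hinv⟩ := h2 _ hs1 hodd
      rw [← hmm] at ht
      obtain ⟨y, hy, rfl⟩ := ht
      obtain ⟨x, rfl⟩ := hfull.pre.surj x
      refine hfull.no_fixed_of_inverted rfl (x := x) hb hy ht1 hsb hodd hs1 ?_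
      rw [map_mul, map_mul, map_inv]; exact hinv
  · -- dihedral groups
    haveI : NeZero r₀ := ⟨hr₀.ne_zero⟩
    let f : ↥L →* DihedralGroup r₀ := e.toMonoidHom.comp (QuotientGroup.mk' A)
    have hf : Function.Surjective f := e.surjective.comp (QuotientGroup.mk'_surjective A)
    have hfker : f.ker = A := (MonoidHom.ker_mulEquiv_comp _ _).trans (QuotientGroup.ker_mk' A)
    have hpg : IsPGroup 2 ↥(YL.map f) := by
      rintro ⟨x, hx⟩
      exact ⟨1, Subtype.ext (by rw [pow_one, SubmonoidClass.coe_pow, hexpQ _ f x hx]; rfl)⟩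
    have hcard2 : Nat.card ↥(YL.map f) = 2 := by
      obtain ⟨k, hk⟩ := IsPGroup.iff_card.1 hpg
      have h1 := (YL.map f).card_subgroup_dvd_card
      rw [hk, DihedralGroup.nat_card] at h1
      rcases k with _ | _ | k
      · exact absurd (Subgroup.card_eq_one.1 (by rw [hk, pow_zero])) (hneQ _ f hfker)
      · rw [hk]; rfl
      · exfalso
        have h2 : 2 ∣ r₀ := by
          refine Nat.dvd_of_mul_dvd_mul_left two_pos (dvd_trans ?_ h1)
          exact Dvd.intro_left (2 ^ k) (by ring)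
        exact hr2 ((Nat.prime_dvd_prime_iff_eq Nat.prime_two hr₀).1 h2).symm
    obtain ⟨h1, h2⟩ := Cfsg.Agent.LocalEven.TI.two_case (hcoreQ _ f hf hfker) hcard2 (hmaxQ _ f hf)
    refine fin _ f hf hfker h1 fun π hfull hmm s b r hr hrp hs hb hsb => ?_
    have hodd : Odd (orderOf (π s)) := by rw [hs]; exact hr.odd_of_ne_two hrp
    obtain ⟨t, ht, ht1, hinv⟩ := h2 _ hodd
    rw [← hmm] at ht
    obtain ⟨y, hy, rfl⟩ := ht
    refine hfull.no_fixed_of_inverted rfl (x := 1) hb hy ht1 hsb hodd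
      (fun e1 => hr.ne_one (by rw [← hs, e1, orderOf_one])) ?_
    rw [one_mul, inv_one, mul_one]; exact hinv

end Cfsg.Agent.S2863
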