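import Cfsg.Statements.S2864
import Cfsg.Agent.S2845
import Cfsg.Agent.Lib.LocalEven.ReducedOf
import Cfsg.Agent.Lib.Solv.HallHigman
import Cfsg.Agent.Lib.Solv.PGroupPhi
import Cfsg.Agent.Lib.Perm.Subnormalizer
import Cfsg.Agent.Lib.Solv.Subnormal

set_option autoImplicit false
open scoped commutatorElement
open Cfsg

namespace Cfsg.Agent.S2864

theorem result {G : Type*} [Group G] [Finite G] {p : ℕ} [Fact p.Prime] (S : Sylow p G) (Q : Subgroup G) (hQp : IsPGroup p ↥Q) (hQ1 : Q ≠ ⊥) (hQS : Q ≤ (S : Subgroup G)) (hQ : Cfsg.IsLarge Q) (M : Subgroup G) (hSM : (S : Subgroup G) ≤ M) (hM : Cfsg.IsInFrakM p M) (I : Subgroup G) (hI1 : I ≠ ⊥) (hIp : IsPGroup p ↥I) (hIM : I ≤ M ∧ M ≤ Subgroup.normalizer ((I : Subgroup G) : Set G)) (Y : Subgroup G) (hY : Y ≤ (Cfsg.pCoreOf p (M ⊔ Subgroup.centralizer (((Cfsg.largestPReducedOf p M) : Subgroup G) : Set G)))) (L : Subgroup G) (hYL : Y ≤ L) (A : Subgroup G) (hAp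 : IsPGroup p ↥A) (hAL : A ≤ L ∧ L ≤ Subgroup.normalizer ((A : Subgroup G) : Set G)) (hIA : I ≤ A) (hAM : A ≤ M) (hc : ⁅Y, A⁆ ≤ ⁅I, A⁆) : Y ≤ (Cfsg.pCoreOf p L) := by
  classical
  have hp : p.Prime := Fact.out
  obtain ⟨Mh, hMh⟩ : ∃ Mh, Mh = M ⊔ Subgroup.centralizer (((largestPReducedOf p M) : Subgroup G) : Set G) := ⟨_, rfl⟩
  rw [← hMh] at hY
  -- the normalizer of `I` lies in the maximal member over `M`
  obtain ⟨N, hN⟩ : ∃ N, N = Subgroup.normalizer ((I : Subgroup G) : Set G) := ⟨_, rfl⟩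
  have hMN : M ≤ N := hN ▸ hIM.2
  have hIN : I ≤ pCoreOf p N := Fusion.le_pCoreOf (hN ▸ Subgroup.le_normalizer) (hN ▸ le_rfl) hIp
  have hN1 : pCore p ↥N ≠ ⊥ := fun h => hI1 (le_bot_iff.1 (hIN.trans (by rw [pCoreOf, h, Subgroup.map_bot])))
  have hNc : N ∈ charPSubgroups p G :=
    ⟨hN1, (Cfsg.Agent.S2845.result Q hQp hQ1 hQ).2.1 N ⟨S, hSM.trans hMN⟩ hN1⟩
  obtain ⟨X, hNX, hX⟩ := (Set.toFinite (charPSubgroups p G)).exists_le_maximal hNc
  have hXM : X ∈ maxCharPSubgroups p G := ⟨hX.1, fun L' hL' h => le_antisymm (hX.2 hL' h) h⟩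
  have hNMh : N ≤ Mh := (hNX.trans (hM.2.2.1 X hXM (hMN.trans hNX)).le).trans hMh.ge
  obtain ⟨C, hC⟩ : ∃ C, C = L ⊓ Subgroup.centralizer (A : Set G) := ⟨_, rfl⟩
  have hCI : C ≤ Mh := fun c hc => hNMh (hN ▸ Subgroup.centralizer_le_normalizer _
    (Subgroup.centralizer_le hIA (hC ▸ hc : c ∈ L ⊓ Subgroup.centralizer (A : Set G)).2))
  obtain ⟨K, hK⟩ : ∃ K, K = C ⊔ Y := ⟨_, rfl⟩
  have hKL : K ≤ L := hK ▸ sup_le (hC ▸ inf_le_left) hYL
  have hKMh : K ≤ Mh := hK ▸ sup_le hCI (hY.trans (Fusion.pCoreOf_le _))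
  have hYK : Y ≤ pCoreOf p K := by
    refine (le_inf (le_sup_right.trans hK.ge) hY).trans (Fusion.le_pCoreOf inf_le_left ?_ ?_)
    · intro k hk
      refine Subgroup.mem_normalizer_iff.2 fun z => ?_
      rw [Subgroup.mem_inf, Subgroup.mem_inf, ← Subgroup.mem_normalizer_iff.1 (Subgroup.le_normalizer hk) z,
        ← Subgroup.mem_normalizer_iff.1 (Fusion.le_normalizer_pCoreOf Mh (hKMh hk)) z]
    · exact (Fusion.pCoreOf_isPGroup (p := p) Mh).to_le inf_le_right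
  -- `K` is subnormal in `L`
  obtain ⟨Φ, hΦ⟩ : ∃ Φ, Φ = (frattini ↥A).map A.subtype := ⟨_, rfl⟩
  have hΦn : ∀ y ∈ L, ∀ z ∈ Φ, y * z * y⁻¹ ∈ Φ := by
    intro y hy z hz
    rw [hΦ] at hz ⊢
    obtain ⟨u, hu, rfl⟩ := hz
    refine ⟨Subgroup.normalizerMonoidHom A ⟨y, hAL.2 hy⟩ u, ?_, rfl⟩
    rw [← Subgroup.characteristic_iff_map_eq.1 (inferInstance : (frattini ↥A).Characteristic)
      (Subgroup.normalizerMonoidHom A ⟨y, hAL.2 hy⟩)]
    exact ⟨u, hu, rfl⟩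
  let P : Subgroup ↥L :=
    { carrier := {x | ∀ a ∈ A, ⁅a, (x : G)⁆ ∈ Φ}
      one_mem' := fun a _ => by simp
      mul_mem' := fun {x y} hx hy a ha => by
        rw [Subgroup.coe_mul, show ⁅a, (x : G) * y⁆ = ⁅a, (x : G)⁆ * ((x : G) * ⁅a, (y : G)⁆ * (x : G)⁻¹) by
          simp only [commutatorElement_def]; group]
        exact mul_mem (hx a ha) (hΦn x x.2 _ (hy a ha))
      inv_mem' := fun {x} hx a ha => by
        rw [Subgroup.coe_inv, show ⁅a, (x : G)⁻¹⁆ = (x : G)⁻¹ * ⁅a, (x : G)⁆⁻¹ * (x : G)⁻¹⁻¹ by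
          simp only [commutatorElement_def]; group]
        exact hΦn _ (inv_mem x.2) _ (inv_mem (hx a ha)) }
  haveI hPn : P.Normal := ⟨fun x hx y a ha => by
    have hy : (y : G)⁻¹ * a * y ∈ A := by
      simpa using (Subgroup.mem_normalizer_iff.1 (hAL.2 (inv_mem y.2)) a).1 ha
    rw [Subgroup.coe_mul, Subgroup.coe_mul, Subgroup.coe_inv,
      show ⁅a, (y : G) * x * (y : G)⁻¹⁆ = (y : G) * ⁅(y : G)⁻¹ * a * y, (x : G)⁆ * (y : G)⁻¹ by
        simp only [commutatorElement_def]; group]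
    exact hΦn y y.2 _ (hx _ hy)⟩
  have hAA : ⁅A, A⁆ ≤ Φ := Subgroup.commutator_le.2 fun a ha b hb =>
    hΦ ▸ ⟨_, Solv.commutatorElement_mem_frattini hAp ⟨a, ha⟩ ⟨b, hb⟩, rfl⟩
  have hCP : (C.subgroupOf L) ≤ P := fun x hx a ha => by
    rw [commutatorElement_eq_one_iff_mul_comm.2 (Subgroup.mem_centralizer_iff.1 (hC ▸ hx : (x : G) ∈ L ⊓ _).2 a ha)]
    exact one_mem _
  have hKP : K.subgroupOf L ≤ P := by
    rw [hK, Subgroup.subgroupOf_sup (hC ▸ inf_le_left) hYL]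
    refine sup_le hCP fun x hx a ha => ?_
    rw [← commutatorElement_inv]
    exact inv_mem ((hc.trans ((Subgroup.commutator_mono hIA le_rfl).trans hAA))
      (Subgroup.commutator_mem_commutator hx ha))
  haveI hCn : ((C.subgroupOf L).subgroupOf P).Normal := by
    haveI : (C.subgroupOf L).Normal := ⟨fun x hx y => by
      rw [Subgroup.mem_subgroupOf, hC] at hx ⊢
      refine Subgroup.mem_inf.2 ⟨(y * x * y⁻¹).2, Subgroup.mem_centralizer_iff.2 fun a ha => ?_⟩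
      have hy : (y : G)⁻¹ * a * y ∈ A := by
        simpa using (Subgroup.mem_normalizer_iff.1 (hAL.2 (inv_mem y.2)) a).1 ha
      have h1 := Subgroup.mem_centralizer_iff.1 hx.2 _ hy
      rw [Subgroup.coe_mul, Subgroup.coe_mul, Subgroup.coe_inv]
      calc a * ((y : G) * x * (y : G)⁻¹) = (y : G) * (((y : G)⁻¹ * a * y) * x) * (y : G)⁻¹ := by group
        _ = (y : G) * ((x : G) * ((y : G)⁻¹ * a * y)) * (y : G)⁻¹ := by rw [h1]
        _ = _ := by group⟩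
    infer_instance
  have hQp' : IsPGroup p (↥P ⧸ (C.subgroupOf L).subgroupOf P) := by
    intro q
    induction q using QuotientGroup.induction_on with
    | _ x =>
      obtain ⟨k, m, hm, hkm⟩ := Nat.exists_eq_pow_mul_and_not_dvd (orderOf_pos ((x : ↥L) : G)).ne' p hp.ne_one
      refine ⟨k, ?_⟩
      rw [← QuotientGroup.mk_pow, QuotientGroup.eq_one_iff]
      show (((x : ↥L) ^ p ^ k : ↥L) : G) ∈ C
      rw [SubmonoidClass.coe_pow, hC]
      refine Subgroup.mem_inf.2 ⟨pow_mem (x : ↥L).2 _, ?_⟩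
      refine Solv.centralizes_of_frattini A hAp _ (hAL.2 (pow_mem (x : ↥L).2 _)) ?_ fun a ha => ?_
      · refine (Nat.Coprime.coprime_dvd_left (orderOf_dvd_of_pow_eq_one (n := m) ?_) ((hp.coprime_iff_not_dvd.2 hm).symm))
        rw [← pow_mul, ← hkm, pow_orderOf_eq_one]
      · rw [← hΦ, ← SubmonoidClass.coe_pow]
        exact (P.pow_mem x.2 _) a ha
  have hsn : (K.subgroupOf L).IsSubnormal := by
    have h1 : ((K.subgroupOf L).subgroupOf P).IsSubnormal := by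
      haveI : Finite (↥P ⧸ (C.subgroupOf L).subgroupOf P) := Finite.of_surjective _ (QuotientGroup.mk'_surjective _)
      haveI := hQp'.isNilpotent
      have h2 := (Solv.isSubnormal_of_isNilpotent
        (((K.subgroupOf L).subgroupOf P).map (QuotientGroup.mk' ((C.subgroupOf L).subgroupOf P)))).comap
        (QuotientGroup.mk' ((C.subgroupOf L).subgroupOf P))
      rw [QuotientGroup.comap_map_mk'] at h2
      have hle : (C.subgroupOf L).subgroupOf P ≤ (K.subgroupOf L).subgroupOf P :=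
        Subgroup.comap_mono (Subgroup.comap_mono (hK ▸ le_sup_left : C ≤ K))
      rwa [sup_eq_right.2 hle] at h2
    have h3 := h1.trans' hPn.isSubnormal
    rwa [Subgroup.map_subgroupOf_eq_of_le hKP] at h3
  have hsn' := ((inferInstance : (pCore p ↥(K.subgroupOf L)).Normal).isSubnormal.trans' hsn)
  have hle := Cfsg.Agent.Perm.subnormal_pgroup_le_pCore hsn' ((Fusion.isPGroup_pCore p _).map _)
  intro y hy
  obtain ⟨⟨k, hk⟩, hk', rfl⟩ := hYK hy
  have hy' : (⟨⟨k, hKL hk⟩, hk⟩ : ↥(K.subgroupOf L)) ∈ pCore p ↥(K.subgroupOf L) := by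
    have e := (Subgroup.subgroupOfEquivOfLe hKL).symm
    refine Fusion.le_pCore (N := (pCore p ↥K).map (Subgroup.subgroupOfEquivOfLe hKL).symm.toMonoidHom) ?_ ⟨_, hk', Subtype.ext rfl⟩
      (hn := (inferInstance : (pCore p ↥K).Normal).map _ (MulEquiv.surjective _))
    exact (Fusion.isPGroup_pCore p _).map _
  exact ⟨⟨k, hKL hk⟩, hle ⟨_, hy', rfl⟩, rfl⟩

end Cfsg.Agent.S2864
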