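import Cfsg.Statements.S3069
import Cfsg.Agent.Lib.Fusion.KInfTransfer
-- import your own Cfsg.Agent.* helpers here

set_option autoImplicit false
open Cfsg

open Cfsg.Agent Cfsg.Agent.Fusion
open scoped commutatorElement

universe u

namespace Cfsg.Agent.S3069

/-- A proper `p`-residual is the same as a Sylow subgroup outside the commutator subgroup. -/
theorem pResidual_ne_top_iff_sylow {X : Type u} [Group X] [Finite X] {p : ℕ} [Fact p.Prime] (T : Sylow p X) :
    pResidual p X ≠ ⊤ ↔ ¬ (T : Subgroup X) ≤ commutator X := by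
  constructor
  · intro h hle
    set R := pResidual p X
    have hq : IsPGroup p (X ⧸ R) := isPGroup_quotient_pResidual
    haveI := hq.isNilpotent
    haveI : Nontrivial (X ⧸ R) := QuotientGroup.nontrivial_iff.2 h
    refine (IsSolvable.commutator_lt_top_of_nontrivial (X ⧸ R)).ne ?_
    have h1 := congrArg (Subgroup.map (QuotientGroup.mk' R)) (pResidual_sup_sylow T)
    rw [Subgroup.map_sup, QuotientGroup.map_mk'_self, bot_sup_eq,
      Subgroup.map_top_of_surjective _ (QuotientGroup.mk'_surjective R)] at h1
    refine eq_top_iff.2 (h1.ge.trans ((Subgroup.map_mono hle).trans ?_))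
    rw [commutator_def, commutator_def, Subgroup.map_commutator]
    exact Subgroup.commutator_mono le_top le_top
  · intro h hR
    refine h fun s hs => ?_
    set π := QuotientGroup.mk' (commutator X)
    have hle : pResidual p (X ⧸ commutator X) ≤
        ({ carrier := {x | (orderOf x).Coprime p}
           one_mem' := by simp
           mul_mem' := fun {a b} ha hb => by
             have hab : Commute a b := by
               induction a using QuotientGroup.induction_on with
               | H x =>
                 induction b using QuotientGroup.induction_on with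
                 | H y => exact commutatorElement_eq_one_iff_mul_comm.1 ((QuotientGroup.eq_one_iff ⁅x, y⁆).2
                     (Subgroup.commutator_mem_commutator (Subgroup.mem_top x) (Subgroup.mem_top y)))
             exact (Nat.Coprime.mul_left ha hb).coprime_dvd_left hab.orderOf_mul_dvd_mul_orderOf
           inv_mem' := fun {a} ha => by simpa using ha } : Subgroup (X ⧸ commutator X)) :=
      (Subgroup.closure_le _).2 fun x hx => hx
    have h1 : π s ∈ pResidual p (X ⧸ commutator X) := by
      rw [← map_pResidual_of_surjective π (QuotientGroup.mk'_surjective _), hR]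
      exact ⟨s, trivial, rfl⟩
    have h2 : (orderOf (π s)).Coprime p := hle h1
    obtain ⟨j, hj⟩ := IsPGroup.iff_orderOf.1 (T.isPGroup'.map π) ⟨π s, s, hs, rfl⟩
    replace hj : orderOf (π s) = p ^ j := by rw [← hj, ← Subgroup.orderOf_coe]
    exact (QuotientGroup.eq_one_iff s).1 (orderOf_eq_one_iff.1
      (Nat.eq_one_of_dvd_coprimes (h2.pow_right j) dvd_rfl (dvd_of_eq hj)))

/-- The statement in a fixed universe. -/
theorem main {p : ℕ} [Fact p.Prime] (hp : 5 ≤ p) : ∀ (n : ℕ) (X : Type u) [Group X] [Finite X],
    Nat.card X = n → ∀ S : Sylow p X, (S : Subgroup X) ≠ ⊥ →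
      (∀ g ∈ Subgroup.normalizer ((S : Subgroup X) : Set X), (orderOf g).Coprime p →
        g ∈ Subgroup.centralizer ((S : Subgroup X) : Set X)) → pResidual p X ≠ ⊤ := by
  intro n
  induction n using Nat.strong_induction_on with
  | _ n IH =>
  intro X _ _ hn S hS hN
  subst hn
  obtain ⟨T, hTle, hTp, hTd, hT⟩ := kInfLower_transfer hp X
  obtain ⟨P, rfl⟩ := (⟨hTle, hTp, hTd⟩ : SylIn p T ⊤).exists_sylow
  -- move the hypothesis to `P`
  obtain ⟨a, rfl⟩ := MulAction.exists_smul_eq X P S
  have hPN : ∀ g ∈ Subgroup.normalizer ((P : Subgroup X) : Set X), (orderOf g).Coprime p →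
      g ∈ Subgroup.centralizer ((P : Subgroup X) : Set X) := by
    intro g hg hgp
    have h1 := hN (a * g * a⁻¹) ?_ ?_
    · rw [show ((a • P : Sylow p X) : Subgroup X) = cj (P : Subgroup X) a from rfl, ← cj_centralizer, mem_cj,
        show a⁻¹ * (a * g * a⁻¹) * a = g by group] at h1
      exact h1
    · rw [show ((a • P : Sylow p X) : Subgroup X) = cj (P : Subgroup X) a from rfl, ← cj_normalizer]
      exact conj_mem_cj hg
    · exact (orderOf_injective (MulAut.conj a).toMonoidHom (MulAut.conj a).injective g).symm ▸ hgp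
  have hP1 : (P : Subgroup X) ≠ ⊥ := fun h => hS (by
    rw [show ((a • P : Sylow p X) : Subgroup X) = cj (P : Subgroup X) a from rfl, h, cj_bot])
  have hW := isConjugacyFunctor_induced (G := X) (isCharPFunctor_kInfLower p)
  set K := inducedFunctor kInfLower (P : Subgroup X)
  have hK1 : K ≠ ⊥ := (hW _ P.isPGroup').2.1 hP1
  set M := Subgroup.normalizer (K : Set X)
  have hPM : (P : Subgroup X) ≤ M := sylow_le_normalizer_functor hW P.isPGroup'
  by_cases hM : M = ⊤
  · haveI : K.Normal := Subgroup.normalizer_eq_top_iff.1 hM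
    have hKP : K ≤ P := inducedFunctor_le _ _
    by_cases hKS : K = (P : Subgroup X)
    · -- a normal Sylow subgroup
      intro hR
      have hnorm : Subgroup.normalizer ((P : Subgroup X) : Set X) = ⊤ := hKS ▸ hM
      have hcen : Subgroup.centralizer ((P : Subgroup X) : Set X) = ⊤ := by
        refine top_le_iff.1 (hR.ge.trans ((Subgroup.closure_le _).2 fun g hg => ?_))
        exact hPN g (hnorm ▸ Subgroup.mem_top g) hg
      have hnpc : HasNormalPComplement p X :=
        ⟨P, _, MonoidHom.normal_ker _, MonoidHom.ker_transferSylow_isComplement' P (fun x _ => hcen.ge (Subgroup.mem_top x))⟩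
      have h1 := hnpc_iff.1 hnpc
      rw [hR, Subgroup.card_top] at h1
      refine hP1 (Subgroup.eq_bot_of_card_eq _ ?_)
      obtain ⟨j, hj⟩ := IsPGroup.iff_card.1 P.isPGroup'
      exact Nat.eq_one_of_dvd_coprimes (h1.pow_right j) (Subgroup.card_subgroup_dvd_card _) (dvd_of_eq hj)
    · intro hR
      set π := QuotientGroup.mk' K
      obtain ⟨Q, hQ⟩ := (sylIn_map_mk (N := K) (sylIn_top P)).exists_sylow
      have hcard : Nat.card (X ⧸ K) < Nat.card X := by
        rw [Subgroup.card_eq_card_quotient_mul_card_subgroup K]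
        exact lt_mul_of_one_lt_right Nat.card_pos ((Subgroup.one_lt_card_iff_ne_bot _).2 hK1)
      refine IH _ hcard (X ⧸ K) rfl Q ?_ ?_ (by rw [← map_pResidual_of_surjective π (QuotientGroup.mk'_surjective K), hR,
        Subgroup.map_top_of_surjective _ (QuotientGroup.mk'_surjective K)])
      · rw [hQ]; intro h
        exact hKS (le_antisymm hKP (by rwa [← QuotientGroup.ker_mk' K, ← Subgroup.map_eq_bot_iff]))
      · intro q hq hqp
        obtain ⟨g, rfl⟩ := QuotientGroup.mk'_surjective K q
        rw [hQ] at hq ⊢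
        have hgN : g ∈ Subgroup.normalizer ((P : Subgroup X) : Set X) := by
          have h1 : g ∈ (Subgroup.normalizer (((P : Subgroup X).map π : Subgroup (X ⧸ K)) : Set (X ⧸ K))).comap π := hq
          rwa [Subgroup.comap_normalizer_eq_of_surjective _ (QuotientGroup.mk'_surjective K),
            QuotientGroup.comap_map_mk', sup_eq_right.2 hKP] at h1
        obtain ⟨j, m, hm, hjm⟩ := Nat.exists_eq_pow_mul_and_not_dvd (orderOf_pos g).ne' p (Fact.out (p := p.Prime)).ne_one
        have hcop : (orderOf (g ^ p ^ j)).Coprime p := by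
          rw [orderOf_pow_of_dvd (pow_ne_zero _ (Fact.out (p := p.Prime)).ne_zero) (hjm ▸ dvd_mul_right _ _), hjm,
            Nat.mul_div_cancel_left _ (pow_pos (Fact.out (p := p.Prime)).pos j)]
          exact ((Nat.Prime.coprime_iff_not_dvd Fact.out).2 hm).symm
        have hmem : π g ∈ Subgroup.zpowers (π g ^ p ^ j) := by
          obtain ⟨b, hb⟩ := exists_pow_eq_self_of_coprime ((hqp.pow_right j).symm)
          exact ⟨b, (zpow_natCast _ b).trans hb⟩
        refine (Subgroup.zpowers_le.2 ?_) hmem
        rw [← map_pow]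
        refine Subgroup.mem_centralizer_iff.2 ?_
        rintro _ ⟨s, hs, rfl⟩
        rw [← map_mul, ← map_mul, Subgroup.mem_centralizer_iff.1 (hPN _ (pow_mem hgN _) hcop) s hs]
  · obtain ⟨Q, hQ⟩ := ((sylIn_top P).mono hPM le_top).exists_sylow_subgroupOf
    have hcard : Nat.card M < Nat.card X := lt_of_le_of_ne (Subgroup.card_le_card_group M)
      fun h => hM (Subgroup.eq_top_of_card_eq M h)
    have hres : pResidual p M ≠ ⊤ := by
      refine IH _ hcard M rfl Q ?_ fun g hg hgp => ?_
      · rw [hQ]; intro h
        exact hP1 (by rw [← Subgroup.map_subgroupOf_eq_of_le hPM, h, Subgroup.map_bot])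
      · rw [hQ] at hg ⊢
        rw [← Subgroup.subgroupOf_normalizer_eq hPM] at hg
        refine Subgroup.mem_centralizer_iff.2 fun s hs => Subtype.ext ?_
        exact Subgroup.mem_centralizer_iff.1 (hPN g hg (by rwa [Subgroup.orderOf_coe])) s hs
    rw [pResidual_ne_top_iff_sylow Q, hQ] at hres
    rw [pResidual_ne_top_iff_sylow P]
    intro hle
    refine hres fun x hx => ?_
    have h1 : (x : X) ∈ ⁅(⊤ : Subgroup X) ⊓ M, (⊤ : Subgroup X) ⊓ M⁆ := by
      have h2 : (x : X) ∈ (P : Subgroup X) ⊓ ⁅(⊤ : Subgroup X), ⊤⁆ := ⟨hx, hle hx⟩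
      rw [hT] at h2
      exact h2.2
    rw [top_inf_eq, show ⁅M, M⁆ = (commutator M).map M.subtype by
      rw [commutator_def, Subgroup.map_commutator, ← MonoidHom.range_eq_map, Subgroup.range_subtype]] at h1
    obtain ⟨y, hy, he⟩ := h1
    rwa [← Subtype.ext he]

/-- Let p ≥ 7 be a prime and S a nontrivial Sylow p-subgroup of the finite group G. If N_G(S)/C_G(S) is a p-group (every element of N_G(S) of order prime to p centralizes S), then O^p(G) < G, i.e. G has a nontrivial p-factor group. -/
theorem result {G : Type*} [Group G] [Finite G] {p : ℕ} [Fact p.Prime]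
    (hp : 7 ≤ p) (S : Sylow p G) (hS : (S : Subgroup G) ≠ ⊥)
    (hN : ∀ g ∈ Subgroup.normalizer ((S : Subgroup G) : Set G), (orderOf g).Coprime p →
      g ∈ Subgroup.centralizer ((S : Subgroup G) : Set G)) :
    Cfsg.pResidual p G ≠ ⊤ := by
  exact main (by omega) _ G rfl S hS hN

end Cfsg.Agent.S3069
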