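import Cfsg.Statements.S2872
import Cfsg.Agent.S3069
import Cfsg.Agent.Lib.Solv.PGroupPhi
-- import your own Cfsg.Agent.* helpers here

set_option autoImplicit false
open Cfsg

open Cfsg.Agent Cfsg.Agent.Fusion
open scoped commutatorElement

namespace Cfsg.Agent.S2872

/-- An invariant product over a `p`-group action reduces to the fixed points, for values of exponent `p`. -/
theorem prod_eq_fixed {X α A : Type*} [Group X] [MulAction X α] [Fintype α] [CommGroup A] {p : ℕ} [Fact p.Prime]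
    (hX : IsPGroup p X) [Finite X] [DecidablePred fun a : α => a ∈ MulAction.fixedPoints X α]
    (v : α → A) (hv : ∀ (x : X) a, v (x • a) = v a) (hexp : ∀ a, v a ^ p = 1) :
    ∏ a, v a = ∏ a with a ∈ MulAction.fixedPoints X α, v a := by
  classical
  rw [← Finset.prod_filter_mul_prod_filter_not Finset.univ (fun a => a ∈ MulAction.fixedPoints X α) v]
  refine mul_eq_left.2 ?_
  letI := MulAction.orbitRel X α
  rw [← Finset.prod_fiberwise _ (fun a => (Quotient.mk (MulAction.orbitRel X α) a)) v]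
  refine Finset.prod_eq_one fun o _ => ?_
  induction o using Quotient.inductionOn with
  | h a =>
  by_cases ha : a ∈ MulAction.fixedPoints X α
  · refine Finset.prod_eq_one fun b hb => ?_
    simp only [Finset.mem_filter, Finset.mem_univ, true_and] at hb
    obtain ⟨x, hx⟩ := MulAction.orbitRel_apply.1 (Quotient.exact hb.2)
    exact absurd (show b ∈ MulAction.fixedPoints X α by rw [← hx]; show x • a ∈ _; rw [ha x]; exact ha) hb.1
  · have hs : ((Finset.univ.filter fun b => b ∉ MulAction.fixedPoints X α).filter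
        fun b => Quotient.mk (MulAction.orbitRel X α) b = Quotient.mk _ a) = (MulAction.orbit X a).toFinset := by
      ext b
      simp only [Finset.mem_filter, Finset.mem_univ, true_and, Set.mem_toFinset]
      constructor
      · rintro ⟨-, hb⟩
        exact MulAction.orbitRel_apply.1 (Quotient.exact hb)
      · intro hb
        refine ⟨fun hfix => ha ?_, Quotient.sound (MulAction.orbitRel_apply.2 hb)⟩
        obtain ⟨x, rfl⟩ := hb
        change x • a ∈ MulAction.fixedPoints X α at hfix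
        have h : a = x • a := by
          have := hfix x⁻¹
          rwa [inv_smul_smul] at this
        rw [h]; exact hfix
    rw [hs, Finset.prod_eq_pow_card (b := v a) (fun b hb => by
      obtain ⟨x, rfl⟩ := Set.mem_toFinset.1 hb
      exact hv x a)]
    obtain ⟨n, hn⟩ := hX.card_orbit a
    rw [Set.toFinset_card, ← Nat.card_eq_fintype_card, hn]
    rcases n with _ | n
    · exfalso
      rw [pow_zero, Nat.card_eq_one_iff_unique] at hn
      exact ha fun x => congrArg Subtype.val (hn.1.elim ⟨x • a, MulAction.mem_orbit a x⟩ ⟨a, MulAction.mem_orbit_self a⟩)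
    · rw [pow_succ', pow_mul, hexp, one_pow]

/-- Let S be a Sylow 2-subgroup of the finite group G. Then G has a proper normal subgroup of 2-power index (O²(G) ≠ G), or Ω₁(Z(S)) is contained in the Frattini subgroup of S, or N_G(S) acts nontrivially on Ω₁(Z(S)) by conjugation. -/
theorem result {G : Type*} [Group G] [Finite G] (S : Sylow 2 G) : Cfsg.pResidual 2 G ≠ ⊤ ∨ Cfsg.omegaOne 2 ((S : Subgroup G) ⊓ Subgroup.centralizer ((S : Subgroup G) : Set G)) ≤ (frattini ↥(S : Subgroup G)).map (S : Subgroup G).subtype ∨ ∃ g ∈ Subgroup.normalizer ((S : Subgroup G) : Set G), ∃ z ∈ Cfsg.omegaOne 2 ((S : Subgroup G) ⊓ Subgroup.centralizer ((S : Subgroup G) : Set G)), g * z * g⁻¹ ≠ z := by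
  classical
  set S0 : Subgroup G := (S : Subgroup G) with hS0
  set Φ := frattini S0
  by_contra hcon
  push Not at hcon
  obtain ⟨hR, hle, hfixN⟩ := hcon
  have hSD : S0 ≤ commutator G := by
    by_contra h
    exact (Cfsg.Agent.S3069.pResidual_ne_top_iff_sylow S).2 h hR
  -- the central involution outside the Frattini subgroup
  obtain ⟨z, ⟨hzS, hzC⟩, hz2, hzΦ⟩ : ∃ z : G, z ∈ S0 ⊓ Subgroup.centralizer (S0 : Set G) ∧ z ^ 2 = 1 ∧
      z ∉ Φ.map S0.subtype := by
    by_contra h
    push Not at h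
    exact hle ((Subgroup.closure_le _).2 fun z hz => h z hz.1 hz.2)
  have hzo : z ∈ Cfsg.omegaOne 2 (S0 ⊓ Subgroup.centralizer (S0 : Set G)) :=
    Subgroup.subset_closure ⟨⟨hzS, hzC⟩, hz2⟩
  have hfixN' : ∀ g ∈ Subgroup.normalizer (S0 : Set G), g * z * g⁻¹ = z := fun g hg => hfixN g hg z hzo
  -- the transfer
  letI : CommGroup (S0 ⧸ Φ) :=
    { (inferInstance : Group (S0 ⧸ Φ)) with
      mul_comm := fun a b => by
        induction a using QuotientGroup.induction_on with
        | H x =>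
          induction b using QuotientGroup.induction_on with
          | H y => exact commutatorElement_eq_one_iff_mul_comm.1 ((QuotientGroup.eq_one_iff ⁅x, y⁆).2
              (Cfsg.Agent.Solv.commutatorElement_mem_frattini S.isPGroup' x y)) }
  let ϕ : S0 →* S0 ⧸ Φ := QuotientGroup.mk' Φ
  have hexp : ∀ a : S0 ⧸ Φ, a ^ 2 = 1 := fun a => by
    induction a using QuotientGroup.induction_on with
    | H x => exact (QuotientGroup.eq_one_iff (x ^ 2)).2 (Cfsg.Agent.Solv.pow_mem_frattini S.isPGroup' x)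
  have hconj : ∀ (h : S0) (x : G) (hx : x ∈ S0) (hx' : (h : G)⁻¹ * x * h ∈ S0),
      ϕ ⟨(h : G)⁻¹ * x * h, hx'⟩ = ϕ ⟨x, hx⟩ := fun h x hx hx' => by
    rw [show (⟨(h : G)⁻¹ * x * h, hx'⟩ : S0) = h⁻¹ * ⟨x, hx⟩ * h from Subtype.ext rfl, map_mul, map_mul,
      mul_comm (ϕ h⁻¹), mul_assoc, ← map_mul, inv_mul_cancel, map_one, mul_one]
  letI := S0.fintypeQuotientOfFiniteIndex
  let v : G ⧸ S0 → S0 ⧸ Φ := fun q =>
    if h : q.out⁻¹ * z * q.out ∈ S0 then ϕ ⟨_, h⟩ else 1
  have hzmul : ∀ a : G, z * (z * a) = a := fun a => by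
    rw [← mul_assoc, ← sq, hz2, one_mul]
  have hv : MonoidHom.transfer ϕ z = ∏ q : G ⧸ S0, v q := by
    have hT : Subgroup.IsComplement (Set.range (Quotient.out : G ⧸ S0 → G)) (S0 : Set G) :=
      Subgroup.isComplement_range_left fun q => Quotient.out_eq q
    rw [MonoidHom.transfer_def ϕ ⟨_, hT⟩, Subgroup.leftTransversals.diff]
    have hα : ∀ q : G ⧸ S0, (hT.leftQuotientEquiv q : G) = q.out := fun q =>
      Subgroup.IsComplement.leftQuotientEquiv_apply (fun q => Quotient.out_eq q) q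
    have hmem : ∀ q : G ⧸ S0, q.out⁻¹ * (z * (z⁻¹ • q).out) ∈ S0 := fun q => by
      rw [← QuotientGroup.eq, QuotientGroup.out_eq']
      show q = z • (((z⁻¹ • q).out : G) : G ⧸ S0)
      rw [QuotientGroup.out_eq', smul_inv_smul]
    refine (Finset.prod_congr rfl fun q _ => ?_ : _ = ∏ q : G ⧸ S0, ϕ ⟨_, hmem q⟩).trans ?_
    · refine congrArg ϕ (Subtype.ext ?_)
      simp only [Subgroup.smul_apply_eq_smul_apply_inv_smul, hα, smul_eq_mul]
    have hzz : z⁻¹ = z := inv_eq_of_mul_eq_one_right (by rw [← sq, hz2])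
    have hinv : ∀ q : G ⧸ S0, z⁻¹ • z⁻¹ • q = q := fun q => by
      rw [smul_smul, ← mul_inv_rev, ← sq, hz2, inv_one, one_smul]
    rw [← Finset.prod_filter_mul_prod_filter_not Finset.univ (fun q : G ⧸ S0 => z⁻¹ • q = q),
      ← Finset.prod_filter_mul_prod_filter_not Finset.univ (fun q : G ⧸ S0 => z⁻¹ • q = q) v]
    have hout : ∀ q : G ⧸ S0, q.out⁻¹ * z * q.out ∈ S0 ↔ z⁻¹ • q = q := fun q => by
      rw [mul_assoc, ← QuotientGroup.eq, QuotientGroup.out_eq']
      show q = z • ((q.out : G) : G ⧸ S0) ↔ _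
      rw [QuotientGroup.out_eq', hzz, eq_comm]
    refine congrArg₂ (· * ·) (Finset.prod_congr rfl fun q hq => ?_) ?_
    · have hq' : z⁻¹ • q = q := (Finset.mem_filter.1 hq).2
      simp only [v]
      rw [dif_pos ((hout q).2 hq')]
      exact congrArg ϕ (Subtype.ext (by simp only [hq', mul_assoc]))
    · rw [Finset.prod_eq_one (f := v) fun q hq => dif_neg fun h => absurd ((hout q).1 h) (Finset.mem_filter.1 hq).2]
      refine Finset.prod_involution (fun q _ => z⁻¹ • q) (fun q _ => ?_) (fun q hq _ => (Finset.mem_filter.1 hq).2)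
        (fun q hq => ?_) fun q _ => hinv q
      · rw [← map_mul]
        refine (congrArg ϕ (Subtype.ext ?_)).trans (map_one ϕ)
        show q.out⁻¹ * (z * (z⁻¹ • q).out) * ((z⁻¹ • q).out⁻¹ * (z * (z⁻¹ • z⁻¹ • q).out)) = 1
        rw [hinv]
        calc q.out⁻¹ * (z * (z⁻¹ • q).out) * ((z⁻¹ • q).out⁻¹ * (z * q.out))
            = q.out⁻¹ * (z * (z * q.out)) := by group
          _ = 1 := by rw [hzmul, inv_mul_cancel]
      · simp only [Finset.mem_filter, Finset.mem_univ, true_and] at hq ⊢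
        rw [hinv]; exact fun h => hq h.symm
  have hinvar : ∀ (s : S0) (q : G ⧸ S0), v (s • q) = v q := by
    intro s q
    have h0 : ((s • q).out : G ⧸ S0) = ((s : G) * q.out : G) := by
      rw [QuotientGroup.out_eq']
      show (s : G) • q = (s : G) • ((q.out : G) : G ⧸ S0)
      rw [QuotientGroup.out_eq']
    obtain ⟨h, hh⟩ : ∃ h : S0, (s • q).out = (s : G) * q.out * h :=
      ⟨⟨_, QuotientGroup.eq.1 h0.symm⟩, by simp [mul_assoc]⟩
    have hsz : (s : G)⁻¹ * z * s = z := by
      rw [mul_assoc, ← Subgroup.mem_centralizer_iff.1 hzC s s.2, inv_mul_cancel_left]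
    have e : (s • q).out⁻¹ * z * (s • q).out = (h : G)⁻¹ * (q.out⁻¹ * z * q.out) * h := by
      rw [hh]
      calc ((s : G) * q.out * h)⁻¹ * z * ((s : G) * q.out * h)
          = (h : G)⁻¹ * (q.out⁻¹ * ((s : G)⁻¹ * z * s) * q.out) * h := by group
        _ = _ := by rw [hsz]
    simp only [v]
    by_cases hq : q.out⁻¹ * z * q.out ∈ S0
    · have hq' : (h : G)⁻¹ * (q.out⁻¹ * z * q.out) * h ∈ S0 := mul_mem (mul_mem (inv_mem h.2) hq) h.2
      rw [dif_pos hq, dif_pos (e ▸ hq')]
      simp only [e]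
      exact hconj h _ hq hq'
    · rw [dif_neg hq, dif_neg]
      intro hc
      rw [e] at hc
      refine hq ?_
      have := mul_mem (mul_mem h.2 hc) (inv_mem h.2)
      rwa [show (h : G) * ((h : G)⁻¹ * (q.out⁻¹ * z * q.out) * h) * (h : G)⁻¹ = q.out⁻¹ * z * q.out by group] at this
  rw [prod_eq_fixed S.isPGroup' v hinvar (fun q => hexp _), Finset.prod_eq_pow_card (b := ϕ ⟨z, hzS⟩)] at hv
  swap
  · intro q hq
    have hq' : q ∈ MulAction.fixedPoints S0 (G ⧸ S0) := (Finset.mem_filter.1 hq).2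
    have hN : (q.out : G) ∈ Subgroup.normalizer (S0 : Set G) := by
      have h : cj S0 q.out⁻¹ ≤ S0 := by
        rintro _ ⟨s, hs, rfl⟩
        have h1 := hq' ⟨s, hs⟩
        show q.out⁻¹ * s * q.out⁻¹⁻¹ ∈ S0
        rw [inv_inv, mul_assoc, ← QuotientGroup.eq, QuotientGroup.out_eq']
        conv_lhs => rw [← h1, ← QuotientGroup.out_eq' q]
        rfl
      exact inv_inv (q.out : G) ▸ inv_mem (mem_normalizer_of_cj_le h)
    have e : q.out⁻¹ * z * q.out = z := by
      have := hfixN' _ (inv_mem hN)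
      rwa [inv_inv] at this
    simp only [v, e]
    exact dif_pos hzS
  have hodd : ¬ 2 ∣ (Finset.univ.filter fun q : G ⧸ S0 => q ∈ MulAction.fixedPoints S0 (G ⧸ S0)).card := by
    have h := S.isPGroup'.card_modEq_card_fixedPoints (G ⧸ S0)
    rw [← Fintype.card_subtype, ← Nat.card_eq_fintype_card]
    intro hd
    exact S.not_dvd_index (Nat.modEq_zero_iff_dvd.1 (h.trans (Nat.modEq_zero_iff_dvd.2 hd)))
  obtain ⟨k, hk⟩ : Odd (Finset.univ.filter fun q : G ⧸ S0 => q ∈ MulAction.fixedPoints S0 (G ⧸ S0)).card := by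
    rw [Nat.odd_iff]; omega
  rw [hk, pow_succ, pow_mul, hexp, one_pow, one_mul] at hv
  have h1 : MonoidHom.transfer ϕ z = 1 := by
    have := (Abelianization.commutator_subset_ker (MonoidHom.transfer ϕ)) (hSD hzS)
    exact this
  rw [h1] at hv
  exact hzΦ ⟨⟨z, hzS⟩, (QuotientGroup.eq_one_iff (⟨z, hzS⟩ : S0)).1 hv.symm, rfl⟩

end Cfsg.Agent.S2872
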