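import Cfsg.Statements.S2873
import Cfsg.Agent.Lib.Fusion.Cores

set_option autoImplicit false
set_option maxHeartbeats 1000000
open Cfsg

namespace Cfsg.Agent.S2873

theorem result {G : Type*} [Group G] [Finite G] {r : ℕ} [Fact r.Prime] (hr : r ≠ 2) [hN : (Cfsg.pCore 2 G).Normal] (hquot : Nonempty (G ⧸ Cfsg.pCore 2 G ≃* DihedralGroup r)) (R : Sylow r G) (hC : Cfsg.pCore 2 G ⊓ Subgroup.centralizer ((R : Subgroup G) : Set G) = ⊥) : Nonempty (↥(Subgroup.normalizer ((R : Subgroup G) : Set G)) ≃* DihedralGroup r) ∧ ∀ a : G, a ∈ Subgroup.normalizer ((R : Subgroup G) : Set G) → orderOf a = 2 → (∀ b : G, orderOf b = 2 → b ∉ Cfsg.pCore 2 G → ∃ g : G, g * a * g⁻¹ = b) ∧ Nat.card ↥(Cfsg.pCore 2 G ⊓ Subgroup.centralizer ({a} : Set G)) ^ 2 = Nat.card ↥(Cfsg.pCore 2 G) := by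
  classical
  have hrp : r.Prime := Fact.out
  haveI : NeZero r := ⟨hrp.ne_zero⟩
  have hodd : Odd r := hrp.odd_of_ne_two hr
  obtain ⟨e⟩ := hquot
  set N := pCore 2 G with hNdef
  have hN2 : IsPGroup 2 ↥N := Fusion.isPGroup_pCore 2 G
  have hR : IsPGroup r ↥(R : Subgroup G) := R.isPGroup'
  have hcop : (Nat.card ↥N).Coprime (Nat.card ↥(R : Subgroup G)) := by
    obtain ⟨i, hi⟩ := IsPGroup.iff_card.1 hN2
    obtain ⟨j, hj⟩ := IsPGroup.iff_card.1 hR
    rw [hi, hj]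
    exact Nat.Coprime.pow _ _ ((Nat.coprime_primes Nat.prime_two hrp).2 (Ne.symm hr))
  have hNR : N ⊓ (R : Subgroup G) = ⊥ := Subgroup.inf_eq_bot_of_coprime hcop
  -- the normalizer of `R` meets `N` trivially
  have hNN : ∀ n ∈ N, n ∈ Subgroup.normalizer ((R : Subgroup G) : Set G) → n = 1 := by
    intro n hn hnR
    rw [← Subgroup.mem_bot, ← hC]
    refine Subgroup.mem_inf.2 ⟨hn, Subgroup.mem_centralizer_iff.2 fun x hx => ?_⟩
    have h1 : n * x * n⁻¹ * x⁻¹ ∈ N ⊓ (R : Subgroup G) := by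
      refine Subgroup.mem_inf.2 ⟨?_, mul_mem ((Subgroup.mem_normalizer_iff.1 hnR x).1 hx) (inv_mem hx)⟩
      rw [mul_assoc, mul_assoc, ← mul_assoc x]
      exact mul_mem hn (hN.conj_mem _ (inv_mem hn) x)
    rw [hNR, Subgroup.mem_bot, mul_inv_eq_one, mul_inv_eq_iff_eq_mul] at h1
    exact h1.symm
  set L : Subgroup G := Subgroup.normalizer ((R : Subgroup G) : Set G) with hL
  let π : G →* DihedralGroup r := e.toMonoidHom.comp (QuotientGroup.mk' N)
  have hπs : Function.Surjective π := e.surjective.comp (QuotientGroup.mk'_surjective N)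
  have hπk : ∀ g, π g = 1 ↔ g ∈ N := fun g =>
    (map_eq_one_iff e e.injective).trans (QuotientGroup.eq_one_iff g)
  have hinj : Function.Injective (π.comp L.subtype) := by
    rw [← MonoidHom.ker_eq_bot_iff, eq_bot_iff]
    intro l hl
    exact Subgroup.mem_bot.2 (Subtype.ext (hNN l ((hπk l).1 hl) l.2))
  -- the rotations
  set C : Subgroup (DihedralGroup r) := Subgroup.zpowers (DihedralGroup.r 1)
  have hCcard : Nat.card ↥C = r := by rw [Nat.card_zpowers, DihedralGroup.orderOf_r_one]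
  have hCidx : C.index = 2 := by
    have h1 := C.card_mul_index
    rw [hCcard, DihedralGroup.nat_card, mul_comm 2 r] at h1
    exact mul_left_cancel₀ hrp.ne_zero h1
  haveI : C.Normal := Subgroup.normal_of_index_eq_two hCidx
  have hCs : ∀ P : Sylow r (DihedralGroup r), (P : Subgroup (DihedralGroup r)) = C := by
    intro P
    have hCp : IsPGroup r ↥C := IsPGroup.of_card (n := 1) (by rw [hCcard, pow_one])
    exact (Subgroup.eq_of_le_of_card_ge (hCp.le_sylow_of_normal P) (by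
        rw [hCcard, Sylow.card_eq_multiplicity, DihedralGroup.nat_card, Nat.factorization_mul two_ne_zero hrp.ne_zero,
          Finsupp.add_apply, Nat.prime_two.factorization, hrp.factorization, Finsupp.single_eq_same,
          Finsupp.single_eq_of_ne hr, zero_add, pow_one])).symm
  have hRC : (R : Subgroup G).map π = C := by
    rw [← hCs (R.mapSurjective hπs)]; rfl
  have hLtop : Function.Surjective (π.comp L.subtype) := by
    set U : Subgroup G := C.comap π
    have hRU : (R : Subgroup G) ≤ U := fun x hx => show π x ∈ C by rw [← hRC]; exact ⟨x, hx, rfl⟩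
    intro q
    obtain ⟨g, rfl⟩ := hπs q
    have h1 := Sylow.normalizer_sup_eq_top' R hRU
    have h2 : g ∈ Subgroup.normalizer ((R : Subgroup G) : Set G) ⊔ U := h1 ▸ Subgroup.mem_top g
    rw [← SetLike.mem_coe, Subgroup.mul_normal] at h2
    obtain ⟨l, hl, u, hu, rfl⟩ := h2
    obtain ⟨x, hx, hxu⟩ : π u ∈ (R : Subgroup G).map π := hRC.symm ▸ hu
    exact ⟨⟨l * x, L.mul_mem hl (Subgroup.le_normalizer hx)⟩, by simp [hxu]⟩
  let eL : ↥L ≃* DihedralGroup r := MulEquiv.ofBijective (π.comp L.subtype) ⟨hinj, hLtop⟩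
  have heL : ∀ l : ↥L, eL l = π (l : G) := fun l => rfl
  refine ⟨⟨eL⟩, fun a ha ha2 => ?_⟩
  obtain ⟨i₀, hi₀⟩ : ∃ i, eL ⟨a, ha⟩ = DihedralGroup.sr i := by
    rcases h : eL ⟨a, ha⟩ with i | i
    · exfalso
      have h1 : orderOf (DihedralGroup.r i) = 2 := by
        rw [← h, MulEquiv.orderOf_eq, Subgroup.orderOf_mk, ha2]
      rw [DihedralGroup.orderOf_r] at h1
      have h2 : 2 ∣ r := by rw [← h1]; exact Nat.div_dvd_of_dvd (Nat.gcd_dvd_left _ _)
      exact hr ((Nat.prime_dvd_prime_iff_eq Nat.prime_two hrp).1 h2).symm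
    · exact ⟨i, rfl⟩
  obtain ⟨⟨ρ, hρL⟩, hρ⟩ := eL.surjective (DihedralGroup.r 1)
  have hρR : ρ ∈ (R : Subgroup G) := by
    obtain ⟨x, hx, hxe⟩ : DihedralGroup.r 1 ∈ (R : Subgroup G).map π := hRC.symm ▸ Subgroup.mem_zpowers _
    have h1 : eL ⟨x, Subgroup.le_normalizer hx⟩ = eL ⟨ρ, hρL⟩ := by rw [hρ, heL]; exact hxe
    have h2 : x = ρ := congrArg Subtype.val (eL.injective h1)
    exact h2 ▸ hx
  have hρgen : Subgroup.zpowers ρ = (R : Subgroup G) := by
    refine Subgroup.eq_of_le_of_card_ge (Subgroup.zpowers_le.2 hρR) ?_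
    rw [Nat.card_zpowers, ← Subgroup.orderOf_mk ρ hρL, ← MulEquiv.orderOf_eq eL, hρ,
      DihedralGroup.orderOf_r_one]
    have h1 : Nat.card ↥((R : Subgroup G).map π) = Nat.card ↥(R : Subgroup G) := by
      have h3 : (R : Subgroup G).map π = ((R : Subgroup G).subgroupOf L).map (π.comp L.subtype) := by
        ext z
        constructor
        · rintro ⟨y, hy, rfl⟩
          exact ⟨⟨y, Subgroup.le_normalizer hy⟩, hy, rfl⟩
        · rintro ⟨y, hy, rfl⟩
          exact ⟨y, hy, rfl⟩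
      rw [h3, Subgroup.card_map_of_injective hinj]
      exact Nat.card_congr (Subgroup.subgroupOfEquivOfLe Subgroup.le_normalizer).toEquiv
    rw [hRC, hCcard] at h1
    exact h1.ge
  have hfix : ∀ n ∈ N, n * ρ = ρ * n → n = 1 := by
    intro n hn h
    rw [← Subgroup.mem_bot, ← hC]
    refine Subgroup.mem_inf.2 ⟨hn, ?_⟩
    rw [← hρgen]
    exact Subgroup.mem_centralizer_iff.2 (by
      rintro _ ⟨i, rfl⟩
      exact ((show Commute n ρ from h).zpow_right i).eq.symm)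
  have haρ : a * ρ * a⁻¹ = ρ⁻¹ := by
    have h1 : eL (⟨a, ha⟩ * ⟨ρ, hρL⟩ * ⟨a, ha⟩⁻¹) = eL (⟨ρ, hρL⟩⁻¹) := by
      rw [map_mul, map_mul, map_inv, map_inv, hi₀, hρ]
      simp
    exact congrArg Subtype.val (eL.injective h1)
  have haa : a * a = 1 := by rw [← pow_two, ← ha2, pow_orderOf_eq_one]
  have hainv : a⁻¹ = a := inv_eq_of_mul_eq_one_left haa
  have haρ2 : a * ρ * (a * ρ) = 1 := by
    calc a * ρ * (a * ρ) = a * ρ * a⁻¹ * ρ := by rw [hainv]; group
      _ = 1 := by rw [haρ, inv_mul_cancel]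
  -- every element of the coset `N ρ` is a conjugate of `ρ`
  have hconj : ∀ n ∈ N, ∃ x ∈ N, n * ρ = x * ρ * x⁻¹ := by
    have hmem : ∀ x : ↥N, (x : G) * ρ * (x : G)⁻¹ * ρ⁻¹ ∈ N := fun x => by
      rw [mul_assoc, mul_assoc, ← mul_assoc ρ]
      exact mul_mem x.2 (hN.conj_mem _ (inv_mem x.2) ρ)
    have hfi : Function.Injective (fun x : ↥N => (⟨_, hmem x⟩ : ↥N)) := by
      intro x y hxy
      have h1 : (x : G) * ρ * (x : G)⁻¹ * ρ⁻¹ = y * ρ * (y : G)⁻¹ * ρ⁻¹ := congrArg Subtype.val hxy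
      have h2 := mul_right_cancel h1
      have h3 : ((y : G)⁻¹ * x) * ρ = ρ * ((y : G)⁻¹ * x) := by
        calc (y : G)⁻¹ * x * ρ = (y : G)⁻¹ * ((x : G) * ρ * (x : G)⁻¹) * x := by group
          _ = (y : G)⁻¹ * ((y : G) * ρ * (y : G)⁻¹) * x := by rw [h2]
          _ = _ := by group
      exact (Subtype.ext (inv_mul_eq_one.1 (hfix _ (mul_mem (inv_mem y.2) x.2) h3))).symm
    intro n hn
    obtain ⟨x, hx⟩ := (Finite.injective_iff_surjective.1 hfi) ⟨n, hn⟩
    refine ⟨x, x.2, ?_⟩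
    rw [← show (x : G) * ρ * (x : G)⁻¹ * ρ⁻¹ = n from congrArg Subtype.val hx, inv_mul_cancel_right]
  -- an element of `N a` inverting a conjugate of `ρ` is determined
  have huniq : ∀ x ∈ N, ∀ n ∈ N, ∀ m ∈ N,
      (n * a) * (x * ρ * x⁻¹) * (n * a)⁻¹ = (x * ρ * x⁻¹)⁻¹ →
      (m * a) * (x * ρ * x⁻¹) * (m * a)⁻¹ = (x * ρ * x⁻¹)⁻¹ → n = m := by
    intro x hx n hn m hm h1 h2
    have h3 : ((n * a)⁻¹ * (m * a)) * (x * ρ * x⁻¹) * ((n * a)⁻¹ * (m * a))⁻¹ = x * ρ * x⁻¹ := by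
      calc _ = (n * a)⁻¹ * ((m * a) * (x * ρ * x⁻¹) * (m * a)⁻¹) * (n * a) := by group
        _ = (n * a)⁻¹ * ((n * a) * (x * ρ * x⁻¹) * (n * a)⁻¹) * (n * a) := by rw [h2, h1]
        _ = _ := by group
    have h4 : (n * a)⁻¹ * (m * a) ∈ N := by
      rw [show (n * a)⁻¹ * (m * a) = a⁻¹ * (n⁻¹ * m) * a by group]
      exact hN.conj_mem' _ (mul_mem (inv_mem hn) hm) a
    set d := (n * a)⁻¹ * (m * a) with hd
    have h5 : (x⁻¹ * d * x) * ρ = ρ * (x⁻¹ * d * x) := by
      rw [mul_inv_eq_iff_eq_mul] at h3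
      calc (x⁻¹ * d * x) * ρ = x⁻¹ * (d * (x * ρ * x⁻¹)) * x := by group
        _ = x⁻¹ * (x * ρ * x⁻¹ * d) * x := by rw [h3]
        _ = _ := by group
    have h6 := hfix _ (hN.conj_mem' _ h4 x) h5
    have h7 : d = 1 := by simpa [mul_assoc] using congrArg (fun z => x * z * x⁻¹) h6
    rw [hd, inv_mul_eq_one, mul_left_inj] at h7
    exact h7
  -- `n a` conjugated
  have hna : ∀ x ∈ N, ∃ n ∈ N, x * a * x⁻¹ = n * a := fun x hx => ⟨x * a * x⁻¹ * a⁻¹, by
    rw [mul_assoc, mul_assoc, ← mul_assoc a]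
    exact mul_mem hx (hN.conj_mem _ (inv_mem hx) a), by group⟩
  have hinvx : ∀ x : G, (x * a * x⁻¹) * (x * ρ * x⁻¹) * (x * a * x⁻¹)⁻¹ = (x * ρ * x⁻¹)⁻¹ := fun x => by
    calc _ = x * (a * ρ * a⁻¹) * x⁻¹ := by group
      _ = _ := by rw [haρ]; group
  have hcoset : ∀ n ∈ N, n * a * (n * a) = 1 → ∃ x ∈ N, x * a * x⁻¹ = n * a := by
    intro n hn h1
    obtain ⟨x, hx, hxe⟩ := hconj n hn
    obtain ⟨m, hm, hme⟩ := hna x hx
    refine ⟨x, hx, hme.trans ?_⟩
    rw [huniq x hx n hn m hm ?_ (hme ▸ hinvx x)]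
    rw [← hxe, inv_eq_of_mul_eq_one_left h1]
    calc n * a * (n * ρ) * (n * a) = n * a * (n * a) * (a⁻¹ * ρ * n * a) := by group
      _ = ρ⁻¹ * n⁻¹ := by
        have h2 : a * n * a = n⁻¹ := by
          calc a * n * a = n⁻¹ * (n * a * (n * a)) := by group
            _ = n⁻¹ := by rw [h1, mul_one]
        calc n * a * (n * a) * (a⁻¹ * ρ * n * a) = (a * ρ * a⁻¹) * (a * n * a) := by
              rw [h1, hainv, one_mul]
              calc a * ρ * n * a = a * ρ * (a * a) * n * a := by rw [haa, mul_one]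
                _ = _ := by group
          _ = ρ⁻¹ * n⁻¹ := by rw [haρ, h2]
      _ = (n * ρ)⁻¹ := by group
  refine ⟨fun b hb hbN => ?_, ?_⟩
  · -- conjugacy
    obtain ⟨⟨l, hlL⟩, hl⟩ := eL.surjective (π b)
    obtain ⟨j, hj⟩ : ∃ j, π b = DihedralGroup.sr j := by
      rcases h : π b with j | j
      · exfalso
        have h1 : π b ^ 2 = 1 := by rw [← map_pow, ← hb, pow_orderOf_eq_one, map_one]
        rw [h, pow_two, DihedralGroup.r_mul_r, DihedralGroup.one_def, DihedralGroup.r.injEq, ← two_mul] at h1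
        refine hbN ((hπk b).1 ?_)
        rw [h, DihedralGroup.one_def, DihedralGroup.r.injEq]
        refine (mul_eq_zero.1 h1).resolve_left fun h2 => ?_
        have h3 : ((2 : ℕ) : ZMod r) = 0 := by simpa using h2
        rw [ZMod.natCast_eq_zero_iff] at h3
        exact hr ((Nat.prime_dvd_prime_iff_eq hrp Nat.prime_two).1 h3)
      · exact ⟨j, rfl⟩
    haveI := Fact.mk hrp
    haveI : NeZero (2 : ZMod r) := ⟨fun h2 => by
      have h3 : ((2 : ℕ) : ZMod r) = 0 := by simpa using h2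
      rw [ZMod.natCast_eq_zero_iff] at h3
      exact hr ((Nat.prime_dvd_prime_iff_eq hrp Nat.prime_two).1 h3)⟩
    obtain ⟨c, hc⟩ : ∃ c : ZMod r, c + c = i₀ - j := ⟨(i₀ - j) / 2, add_halves _⟩
    obtain ⟨⟨k, hkL⟩, hk⟩ := eL.surjective (DihedralGroup.r c)
    have hπk' : π k = DihedralGroup.r c := (heL ⟨k, hkL⟩).symm.trans hk
    have hπa : π a = DihedralGroup.sr i₀ := (heL ⟨a, ha⟩).symm.trans hi₀
    have hn : k⁻¹ * b * k * a ∈ N := by
      rw [← hπk, map_mul, map_mul, map_mul, map_inv, hπk', hπa, hj]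
      simp only [DihedralGroup.inv_r, DihedralGroup.r_mul_sr, DihedralGroup.sr_mul_r, DihedralGroup.sr_mul_sr,
        DihedralGroup.one_def]
      congr 1
      linear_combination -hc
    have hb2 : b * b = 1 := by rw [← pow_two, ← hb, pow_orderOf_eq_one]
    obtain ⟨x, hx, hxe⟩ := hcoset _ hn (by
      rw [mul_assoc (k⁻¹ * b * k), haa, mul_one]
      calc k⁻¹ * b * k * (k⁻¹ * b * k) = k⁻¹ * (b * b) * k := by group
        _ = 1 := by rw [hb2]; group)
    rw [mul_assoc _ a a, haa, mul_one] at hxe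
    refine ⟨k * x, ?_⟩
    calc k * x * a * (k * x)⁻¹ = k * (x * a * x⁻¹) * k⁻¹ := by group
      _ = b := by rw [hxe]; group
  · -- counting
    set A : Subgroup ↥N := (Subgroup.centralizer ({a} : Set G)).subgroupOf N with hA
    set B : Subgroup ↥N := (Subgroup.centralizer ({a * ρ} : Set G)).subgroupOf N with hB
    have hinvρ : (a * ρ) * ρ * (a * ρ)⁻¹ = ρ⁻¹ := by
      rw [← haρ]; group
    have hbij : Function.Bijective (fun x : ↥N => ((x : ↥N ⧸ A), (x : ↥N ⧸ B))) := by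
      refine ⟨fun x y hxy => ?_, fun q => ?_⟩
      · obtain ⟨h1, h2⟩ := Prod.ext_iff.1 hxy
        have h1' : x⁻¹ * y ∈ A := QuotientGroup.eq.1 h1
        have h2' : x⁻¹ * y ∈ B := QuotientGroup.eq.1 h2
        rw [hA, Subgroup.mem_subgroupOf] at h1'
        rw [hB, Subgroup.mem_subgroupOf] at h2'
        have h3 := Subgroup.mem_centralizer_singleton_iff.1 h1'
        have h4 := Subgroup.mem_centralizer_singleton_iff.1 h2'
        have h5 : (((x⁻¹ * y : ↥N)) : G) * ρ = ρ * ((x⁻¹ * y : ↥N) : G) := by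
          calc _ = a⁻¹ * (a * ((x⁻¹ * y : ↥N) : G)) * ρ := by group
            _ = a⁻¹ * (((x⁻¹ * y : ↥N) : G) * a) * ρ := by rw [h3]
            _ = a⁻¹ * (((x⁻¹ * y : ↥N) : G) * (a * ρ)) := by group
            _ = a⁻¹ * (a * ρ * ((x⁻¹ * y : ↥N) : G)) := by rw [h4]
            _ = _ := by group
        exact inv_mul_eq_one.1 (Subtype.ext (hfix _ (x⁻¹ * y).2 h5))
      · obtain ⟨q₁, q₂⟩ := q
        obtain ⟨⟨u, hu⟩, rfl⟩ := QuotientGroup.mk_surjective q₁
        obtain ⟨⟨v, hv⟩, rfl⟩ := QuotientGroup.mk_surjective q₂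
        obtain ⟨m, hm, hme⟩ := hna u hu
        have hvn : v * (a * ρ) * v⁻¹ * (a * ρ)⁻¹ ∈ N := by
          rw [mul_assoc, mul_assoc, ← mul_assoc (a * ρ)]
          exact mul_mem hv (hN.conj_mem _ (inv_mem hv) (a * ρ))
        set P := u * a * u⁻¹ * (v * (a * ρ) * v⁻¹) with hP
        have hPn : P * ρ⁻¹ ∈ N := by
          rw [hP, hme, show m * a * (v * (a * ρ) * v⁻¹) * ρ⁻¹ =
            m * (a * (v * (a * ρ) * v⁻¹ * (a * ρ)⁻¹) * a⁻¹) * (a * a) by group, haa, mul_one]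
          exact mul_mem hm (hN.conj_mem _ hvn a)
        obtain ⟨x, hx, hxe⟩ := hconj _ hPn
        rw [inv_mul_cancel_right] at hxe
        obtain ⟨n', hn', hne'⟩ := hna x hx
        have hq : (u * a * u⁻¹) * P * (u * a * u⁻¹)⁻¹ = P⁻¹ := by
          have hu2 : u * a * u⁻¹ * (u * a * u⁻¹) = 1 := by
            calc _ = u * (a * a) * u⁻¹ := by group
              _ = 1 := by rw [haa]; group
          have hv2 : v * (a * ρ) * v⁻¹ * (v * (a * ρ) * v⁻¹) = 1 := by
            calc _ = v * (a * ρ * (a * ρ)) * v⁻¹ := by group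
              _ = 1 := by rw [haρ2]; group
          have gen : ∀ p q : G, p * p = 1 → q * q = 1 → p * (p * q) * p⁻¹ = (p * q)⁻¹ := by
            intro p q h1 h2
            rw [mul_inv_rev, inv_eq_of_mul_eq_one_left h1, inv_eq_of_mul_eq_one_left h2,
              ← mul_assoc p p q, h1, one_mul]
          rw [hP]
          exact gen _ _ hu2 hv2
        rw [hxe] at hq
        have heq : x * a * x⁻¹ = u * a * u⁻¹ := by
          rw [hne', hme, huniq x hx n' hn' m hm (hne' ▸ hinvx x) (hme ▸ hq)]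
        have heq2 : x * (a * ρ) * x⁻¹ = v * (a * ρ) * v⁻¹ := by
          calc x * (a * ρ) * x⁻¹ = x * a * x⁻¹ * (x * ρ * x⁻¹) := by group
            _ = u * a * u⁻¹ * P := by rw [heq, ← hxe]
            _ = (u * (a * a) * u⁻¹) * (v * (a * ρ) * v⁻¹) := by rw [hP]; group
            _ = _ := by rw [haa]; group
        have key : ∀ w c : G, x * c * x⁻¹ = w * c * w⁻¹ → (x⁻¹ * w) * c = c * (x⁻¹ * w) := by
          intro w c h
          calc (x⁻¹ * w) * c = x⁻¹ * (w * c * w⁻¹) * w := by group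
            _ = x⁻¹ * (x * c * x⁻¹) * w := by rw [h]
            _ = _ := by group
        have e1 : (⟨x, hx⟩ : ↥N)⁻¹ * ⟨u, hu⟩ ∈ A := by
          rw [hA, Subgroup.mem_subgroupOf, Subgroup.coe_mul, Subgroup.coe_inv]
          exact Subgroup.mem_centralizer_singleton_iff.2 (key u a heq)
        have e2 : (⟨x, hx⟩ : ↥N)⁻¹ * ⟨v, hv⟩ ∈ B := by
          rw [hB, Subgroup.mem_subgroupOf, Subgroup.coe_mul, Subgroup.coe_inv]
          exact Subgroup.mem_centralizer_singleton_iff.2 (key v (a * ρ) heq2)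
        exact ⟨⟨x, hx⟩, Prod.ext (QuotientGroup.eq.2 e1) (QuotientGroup.eq.2 e2)⟩
    have hcard := Nat.card_congr (Equiv.ofBijective _ hbij)
    rw [Nat.card_prod] at hcard
    -- the two centralizers have the same order
    obtain ⟨i, hi⟩ := hodd
    have hsw : ρ ^ i * a * (ρ ^ i)⁻¹ = a * ρ := by
      have h1 : a * ρ ^ i * a⁻¹ = (ρ ^ i)⁻¹ := by rw [← conj_pow, haρ, inv_pow]
      have h2 : ρ ^ (i + i + 1) = 1 := by
        rw [← two_mul, ← hi, ← orderOf_dvd_iff_pow_eq_one, ← Subgroup.orderOf_mk ρ hρL, ← MulEquiv.orderOf_eq eL, hρ,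
          DihedralGroup.orderOf_r_one]
      have h3 : ρ = (ρ ^ i)⁻¹ * (ρ ^ i)⁻¹ := by
        rw [← mul_inv_rev, ← pow_add]
        exact eq_inv_of_mul_eq_one_left (by rw [← pow_succ']; exact h2)
      calc ρ ^ i * a * (ρ ^ i)⁻¹ = a * (a⁻¹ * ρ ^ i * a) * (ρ ^ i)⁻¹ := by group
        _ = a * (a * ρ ^ i * a⁻¹) * (ρ ^ i)⁻¹ := by rw [hainv]
        _ = a * ((ρ ^ i)⁻¹ * (ρ ^ i)⁻¹) := by rw [h1]; group
        _ = a * ρ := by rw [← h3]
    have hAB : Nat.card ↥B = Nat.card ↥A := by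
      have e1 : ∀ c : G, Nat.card ↥((Subgroup.centralizer ({c} : Set G)).subgroupOf N) =
          Nat.card ↥(Subgroup.centralizer ({c} : Set G) ⊓ N) := fun c => by
        rw [← Subgroup.inf_subgroupOf_right]
        exact Nat.card_congr (Subgroup.subgroupOfEquivOfLe inf_le_right).toEquiv
      rw [hA, hB, e1, e1]
      suffices hmap : (Subgroup.centralizer ({a} : Set G) ⊓ N).map (MulAut.conj (ρ ^ i)).toMonoidHom =
          Subgroup.centralizer ({a * ρ} : Set G) ⊓ N by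
        rw [← hmap, Subgroup.card_map_of_injective]
        exact (MulAut.conj (ρ ^ i)).injective
      ext y
      rw [Subgroup.mem_map_equiv, MulAut.conj_symm_apply, Subgroup.mem_inf, Subgroup.mem_inf,
        Subgroup.mem_centralizer_singleton_iff, Subgroup.mem_centralizer_singleton_iff]
      refine and_congr ?_ ?_
      · rw [← hsw]
        constructor
        · intro h
          calc y * (ρ ^ i * a * (ρ ^ i)⁻¹) = ρ ^ i * ((ρ ^ i)⁻¹ * y * ρ ^ i * a) * (ρ ^ i)⁻¹ := by group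
            _ = ρ ^ i * (a * ((ρ ^ i)⁻¹ * y * ρ ^ i)) * (ρ ^ i)⁻¹ := by rw [h]
            _ = _ := by group
        · intro h
          calc (ρ ^ i)⁻¹ * y * ρ ^ i * a = (ρ ^ i)⁻¹ * (y * (ρ ^ i * a * (ρ ^ i)⁻¹)) * ρ ^ i := by group
            _ = (ρ ^ i)⁻¹ * (ρ ^ i * a * (ρ ^ i)⁻¹ * y) * ρ ^ i := by rw [h]
            _ = _ := by group
      · exact ⟨fun h => by simpa [mul_assoc] using hN.conj_mem _ h (ρ ^ i), fun h => hN.conj_mem' _ h _⟩
    have hA' := A.card_mul_index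
    have hB' := B.card_mul_index
    rw [← Subgroup.index_eq_card, ← Subgroup.index_eq_card] at hcard
    have hAe : Nat.card ↥(pCore 2 G ⊓ Subgroup.centralizer ({a} : Set G)) = Nat.card ↥A := by
      rw [hA, ← Subgroup.inf_subgroupOf_right, inf_comm]
      exact (Nat.card_congr (Subgroup.subgroupOfEquivOfLe inf_le_right).toEquiv).symm
    rw [hAe]
    rw [hAB] at hB'
    have hpos : 0 < Nat.card ↥N := Nat.card_pos
    apply mul_right_cancel₀ hpos.ne'
    calc Nat.card ↥A ^ 2 * Nat.card ↥N = Nat.card ↥A ^ 2 * (A.index * B.index) := by rw [← hcard]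
      _ = (Nat.card ↥A * A.index) * (Nat.card ↥A * B.index) := by ring
      _ = Nat.card ↥N * Nat.card ↥N := by rw [hA', hB']

end Cfsg.Agent.S2873
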