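import Cfsg.Statements.S2874
import Cfsg.Agent.Lib.LocalEven.AltFourGLTwo

set_option autoImplicit false
open Cfsg

namespace Cfsg.Agent.S2874

theorem result (k : ℕ) (hk : 2 ≤ k) (H₁ H₂ : Subgroup (GL (Fin 2) (ZMod (2 ^ k)))) (h₁ : Nonempty (↥H₁ ≃* ↥(alternatingGroup (Fin 4)))) (h₂ : Nonempty (↥H₂ ≃* ↥(alternatingGroup (Fin 4)))) : ∃ g : GL (Fin 2) (ZMod (2 ^ k)), H₂ = H₁.map (MulAut.conj g).toMonoidHom := by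
  obtain ⟨e₁⟩ := h₁
  obtain ⟨e₂⟩ := h₂
  obtain ⟨g₁, hg₁⟩ := Cfsg.Agent.LocalEven.AltFourGLTwo.normal_form hk H₁ e₁
  obtain ⟨g₂, hg₂⟩ := Cfsg.Agent.LocalEven.AltFourGLTwo.normal_form hk H₂ e₂
  refine ⟨g₂⁻¹ * g₁, ?_⟩
  ext x
  have hc : ∀ (g y : GL (Fin 2) (ZMod (2 ^ k))) (H : Subgroup (GL (Fin 2) (ZMod (2 ^ k)))),
      g * y * g⁻¹ ∈ H.map (MulAut.conj g).toMonoidHom ↔ y ∈ H := fun g y H =>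
    ⟨fun ⟨z, hz, h⟩ => by
      have : z = y := mul_left_cancel (mul_right_cancel h)
      rwa [← this],
    fun h => ⟨y, h, rfl⟩⟩
  have h₂' := (hg₂ (g₂ * x * g₂⁻¹))
  have h₁' := (hg₁ (g₂ * x * g₂⁻¹))
  rw [hc] at h₂'
  rw [h₂', ← h₁']
  constructor
  · rintro ⟨z, hz, h⟩
    refine ⟨z, hz, ?_⟩
    change g₁ * z * g₁⁻¹ = g₂ * x * g₂⁻¹ at h
    change g₂⁻¹ * g₁ * z * (g₂⁻¹ * g₁)⁻¹ = x
    have : g₂⁻¹ * g₁ * z * (g₂⁻¹ * g₁)⁻¹ = g₂⁻¹ * (g₁ * z * g₁⁻¹) * g₂ := by group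
    rw [this, h]; group
  · rintro ⟨z, hz, h⟩
    refine ⟨z, hz, ?_⟩
    change g₂⁻¹ * g₁ * z * (g₂⁻¹ * g₁)⁻¹ = x at h
    change g₁ * z * g₁⁻¹ = g₂ * x * g₂⁻¹
    rw [← h]; group

end Cfsg.Agent.S2874
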