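import Cfsg.Statements.S2879
import Cfsg.Agent.Lib.Perm.Fpf.QuatAut
import Cfsg.Agent.Lib.Fusion.QuasiDihedral
import Cfsg.Agent.Lib.Fusion.SolvableBalance
import Cfsg.Agent.Lib.Lie.HuppertRegular

set_option autoImplicit false
open Cfsg
open Cfsg.Agent Cfsg.Agent.Fusion
open scoped commutatorElement

namespace Cfsg.Agent.S2879

/-- Two elements satisfying the quaternion relations and generating a group of order eight. -/
theorem quaternion_of_rels {G : Type*} [Group G] [Finite G] (Q : Subgroup G) (h8 : Nat.card Q = 8) {c r : G}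
    (hcQ : c ∈ Q) (hrQ : r ∈ Q) (hc : orderOf c = 4) (hr : r * r = c * c) (hrc : r * c * r⁻¹ = c⁻¹)
    (hne : r ∉ Subgroup.zpowers c) : Nonempty (QuaternionGroup 2 ≃* Q) := by
  have hpow : ∀ i j : ℕ, (i : ZMod 4) = (j : ZMod 4) → c ^ i = c ^ j := fun i j h => by
    rw [pow_eq_pow_iff_modEq, hc]; exact (ZMod.natCast_eq_natCast_iff i j 4).1 h
  let C : ZMod (2 * 2) → G := fun k => c ^ k.val
  have hC : ∀ k l, C k * C l = C (k + l) := fun k l => by
    show c ^ k.val * c ^ l.val = c ^ (k + l).val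
    rw [← pow_add]; exact hpow _ _ (by simp [ZMod.natCast_zmod_val])
  have hCr : ∀ k, C k * r = r * C (-k) := fun k => by
    show c ^ k.val * r = r * c ^ (-k).val
    have h1 : r * c⁻¹ ^ k.val * r⁻¹ = c ^ k.val := by
      rw [← conj_pow, show r * c⁻¹ * r⁻¹ = (r * c * r⁻¹)⁻¹ by group, hrc, inv_inv]
    rw [show c⁻¹ ^ k.val = c ^ (-k).val by
      rw [inv_pow, inv_eq_iff_mul_eq_one, ← pow_add, ← pow_zero c]; exact hpow _ _ (by simp [ZMod.natCast_zmod_val])] at h1
    rw [← h1]; group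
  have hC2 : r * r = C 2 := by
    show r * r = c ^ (2 : ZMod 4).val
    rw [hr, ← pow_two]; rfl
  let f : QuaternionGroup 2 → Q := fun q => match q with
    | QuaternionGroup.a k => ⟨C k, pow_mem hcQ _⟩
    | QuaternionGroup.xa k => ⟨r * C k, mul_mem hrQ (pow_mem hcQ _)⟩
  have hmul : ∀ u v, f (u * v) = f u * f v := by
    rintro (k | k) (l | l) <;> refine Subtype.ext ?_ <;>
      simp only [f, QuaternionGroup.a_mul_a, QuaternionGroup.a_mul_xa, QuaternionGroup.xa_mul_a,
        QuaternionGroup.xa_mul_xa, Subgroup.coe_mul]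
    · exact (hC k l).symm
    · rw [← mul_assoc, hCr, mul_assoc, hC, neg_add_eq_sub]
    · rw [mul_assoc, hC]
    · rw [mul_assoc r (C k), ← mul_assoc (C k), hCr, ← mul_assoc, ← mul_assoc, hC2, hC, hC]
      congr 1
      push_cast
      ring
  have hinj : Function.Injective f := by
    have hne' : ∀ k l, C k ≠ r * C l := fun k l e => hne (by
      rw [show r = C k * (C l)⁻¹ by rw [e, mul_inv_cancel_right]]
      exact mul_mem (pow_mem (Subgroup.mem_zpowers c) _) (inv_mem (pow_mem (Subgroup.mem_zpowers c) _)))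
    have hCi : Function.Injective C := fun k l e => ZMod.val_injective _ (pow_injOn_Iio_orderOf
      (by rw [hc]; exact ZMod.val_lt k) (by rw [hc]; exact ZMod.val_lt l) e)
    rintro (k | k) (l | l) h <;> have h' := congrArg Subtype.val h <;> simp only [f] at h'
    · rw [hCi h']
    · exact absurd h' (hne' k l)
    · exact absurd h'.symm (hne' l k)
    · rw [hCi (mul_left_cancel h')]
  refine ⟨MulEquiv.ofBijective (MonoidHom.mk' f hmul) ⟨hinj, ?_⟩⟩
  letI := Fintype.ofFinite Q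
  exact ((Fintype.bijective_iff_injective_and_card f).2 ⟨hinj, by
    rw [QuaternionGroup.card, ← Nat.card_eq_fintype_card, h8]⟩).2

/-- A two-group with a cyclic subgroup of index two inverting modulo four. -/
theorem quaternion_of_odd_aut {T : Type*} [Group T] [Finite T] (hT : IsPGroup 2 T) {n : ℕ} (hn : 2 ≤ n) {x y : T}
    (hx : orderOf x = 2 ^ n) (hidx : (Subgroup.zpowers x).index = 2) (hy : y ∉ Subgroup.zpowers x) {e : ℤ}
    (he : (4 : ℤ) ∣ e + 1) (hyx : y * x * y⁻¹ = x ^ e) :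
    (Nat.card (Subgroup.center T) = 2) ∧
    ∀ (Q : Subgroup T), Q.Normal → ∀ φ : MulAut Q, Odd (orderOf φ) → φ ≠ 1 →
      (∀ z : Q, (z : T) ∈ Subgroup.center T → φ z = z) → Nonempty (QuaternionGroup 2 ≃* Q) := by
  classical
  haveI : Fact (Nat.Prime 2) := ⟨Nat.prime_two⟩
  have hoz : ∀ i : ℤ, x ^ i = 1 ↔ (2 : ℤ) ^ n ∣ i := fun i => by
    rw [← orderOf_dvd_iff_zpow_eq_one, hx]; push_cast; rfl
  have hcos : ∀ s : T, s ∈ Subgroup.zpowers x ∨ ∃ i : ℤ, s = x ^ i * y := by
    intro s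
    rcases em (s ∈ Subgroup.zpowers x) with h | h
    · exact Or.inl h
    · right
      have h1 := (Subgroup.mul_mem_iff_of_index_two hidx (a := s) (b := y⁻¹)).2
        (iff_of_false h (fun h' => hy (inv_inv y ▸ inv_mem h')))
      obtain ⟨i, hi⟩ := h1
      have hi' : x ^ i = s * y⁻¹ := hi
      exact ⟨i, by rw [hi']; group⟩
  have hconj : ∀ i j : ℤ, (x ^ i * y) * x ^ j * (x ^ i * y)⁻¹ = x ^ (e * j) := fun i j => by
    rw [show (x ^ i * y) * x ^ j * (x ^ i * y)⁻¹ = x ^ i * (y * x ^ j * y⁻¹) * (x ^ i)⁻¹ by group,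
      ← conj_zpow, hyx, ← zpow_mul, ← zpow_neg, ← zpow_add, ← zpow_add]
    congr 1; ring
  have hpow2 : (2 : ℤ) ^ n = 2 * 2 ^ (n - 1) := by
    rw [← pow_succ', show n - 1 + 1 = n by omega]
  have h4n : (4 : ℤ) ∣ 2 ^ n := by
    rw [show (4 : ℤ) = 2 ^ 2 by norm_num]; exact pow_dvd_pow 2 hn
  obtain ⟨z, hz⟩ : ∃ z, z = x ^ ((2 : ℤ) ^ (n - 1)) := ⟨_, rfl⟩
  -- the centre
  have hzC : z ∈ Subgroup.center T := by
    rw [Subgroup.mem_center_iff]
    intro s
    rcases hcos s with ⟨i, rfl⟩ | ⟨i, rfl⟩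
    · rw [hz]; exact ((Commute.refl x).zpow_zpow i _).eq
    · refine mul_inv_eq_iff_eq_mul.1 ?_
      rw [hz, hconj, ← mul_inv_eq_one, ← zpow_neg, ← zpow_add, hoz]
      obtain ⟨m, hm⟩ := he
      exact ⟨2 * m - 1, by rw [hpow2]; linear_combination (2 : ℤ) ^ (n - 1) * hm⟩
  have hz1 : z ≠ 1 := by
    rw [hz, Ne, hoz, hpow2]
    rintro ⟨k, hk⟩
    have hpos : (0 : ℤ) < 2 ^ (n - 1) := pow_pos two_pos _
    have : (2 * k - 1) * (2 : ℤ) ^ (n - 1) = 0 := by linear_combination -hk
    rcases mul_eq_zero.1 this with h | h <;> omega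
  have hcenter : ∀ w ∈ Subgroup.center T, w = 1 ∨ w = z := by
    intro w hw
    rw [Subgroup.mem_center_iff] at hw
    rcases hcos w with ⟨j, rfl⟩ | ⟨i, rfl⟩
    · have h1 : x ^ (e * j) = x ^ j := by
        rw [← hconj 0 j, zpow_zero, one_mul]; show y * x ^ j * y⁻¹ = x ^ j
        rw [hw y, mul_inv_cancel_right]
      rw [← mul_inv_eq_one, ← zpow_neg, ← zpow_add, hoz] at h1
      -- `(e - 1) j` is divisible by `2 ^ n`
      obtain ⟨m, hm⟩ := he
      have h2 : (2 : ℤ) ^ (n - 1) ∣ (2 * m - 1) * j := by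
        obtain ⟨k, hk⟩ := h1
        refine ⟨k, ?_⟩
        rw [hpow2] at hk
        have hk2 : 2 * ((2 * m - 1) * j) = 2 * ((2 : ℤ) ^ (n - 1) * k) := by linear_combination hk - j * hm
        exact mul_left_cancel₀ two_ne_zero hk2
      obtain ⟨k, hk⟩ := (IsCoprime.pow_left (x := (2 : ℤ)) (y := 2 * m - 1) ⟨m, -1, by ring⟩).dvd_of_dvd_mul_left h2
      rcases Int.even_or_odd k with ⟨l, rfl⟩ | ⟨l, rfl⟩
      · left; rw [hoz]; exact ⟨l, by rw [hk, hpow2]; ring⟩
      · right
        show x ^ j = z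
        rw [hz, hk, ← mul_inv_eq_one, ← zpow_neg, ← zpow_add, hoz]
        exact ⟨l, by rw [hpow2]; ring⟩
    · exfalso
      have h1 := hconj i 1
      rw [zpow_one, mul_one, ← hw x, mul_inv_cancel_right] at h1
      rw [eq_comm, ← mul_inv_eq_one] at h1
      have h2 : x ^ (e - 1) = 1 := by rw [zpow_sub, zpow_one]; exact h1
      rw [hoz] at h2
      obtain ⟨m, hm⟩ := he
      have : (4 : ℤ) ∣ e - 1 := h4n.trans h2
      omega
  refine ⟨?_, fun Q hQn φ hφ hφ1 hfix => ?_⟩
  · have hle : Subgroup.center T = Subgroup.zpowers z := le_antisymm (fun w hw => by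
      rcases hcenter w hw with rfl | rfl
      · exact one_mem _
      · exact Subgroup.mem_zpowers _) (Subgroup.zpowers_le.2 hzC)
    rw [hle, Nat.card_zpowers]
    exact orderOf_eq_prime (by rw [hz, ← zpow_natCast, ← zpow_mul, hoz, hpow2]; exact ⟨1, by push_cast; ring⟩) hz1
  have hQ2 : IsPGroup 2 Q := hT.to_subgroup Q
  -- elements of `Q` on which `φ` is trivial
  by_cases hQx : Q ≤ Subgroup.zpowers x
  · exfalso
    haveI := isCyclic_of_injective (Subgroup.inclusion hQx) (Subgroup.inclusion_injective hQx)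
    exact hφ1 (Perm.Fpf.QuatAut.eq_one_of_odd_cyclic hQ2 hφ (pow_orderOf_eq_one φ))
  obtain ⟨r₀, hr₀, hr₀x⟩ := SetLike.not_le_iff_exists.1 hQx
  have hcard : Nat.card Q = 2 * Nat.card ((Subgroup.zpowers x).subgroupOf Q) := by
    rw [← Subgroup.index_mul_card ((Subgroup.zpowers x).subgroupOf Q)]
    congr 1
    haveI := Subgroup.normal_of_index_eq_two hidx
    have h1 : ((Subgroup.zpowers x).subgroupOf Q).index ∣ 2 := hidx ▸ Subgroup.relIndex_dvd_index_of_normal _ _
    rcases (Nat.dvd_prime Nat.prime_two).1 h1 with h | h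
    · exact absurd (Subgroup.subgroupOf_eq_top.1 (Subgroup.index_eq_one.1 h) hr₀) hr₀x
    · exact h
  obtain ⟨W, hW⟩ : ∃ W, W = (Subgroup.zpowers x).subgroupOf Q := ⟨_, rfl⟩
  rw [← hW] at hcard
  have hmemW : ∀ {q : Q}, q ∈ W ↔ (q : T) ∈ Subgroup.zpowers x := by intro q; rw [hW, Subgroup.mem_subgroupOf]
  haveI : IsCyclic W := by
    have hinj : Function.Injective
        (fun w : W => (⟨((w : Q) : T), hmemW.1 w.2⟩ : Subgroup.zpowers x)) :=
      fun u v h => Subtype.ext (Subtype.ext (congrArg (fun t : Subgroup.zpowers x => (t : T)) h))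
    exact isCyclic_of_injective (MonoidHom.mk'
      (fun w : W => (⟨((w : Q) : T), hmemW.1 w.2⟩ : Subgroup.zpowers x))
      (fun u v => rfl)) hinj
  obtain ⟨w0, hgen⟩ := IsCyclic.exists_generator (α := W)
  -- elements of `Q` outside the cyclic subgroup have order dividing four
  have hout : ∀ q : Q, q ∉ W → q ^ 4 = 1 ∧ (q : T) * (w0 : Q) * (q : T)⁻¹ = ((w0 : Q) : T) ^ e := by
    intro q hq
    rw [hW, Subgroup.mem_subgroupOf] at hq
    obtain ⟨i, hi⟩ := (hcos q).resolve_left hq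
    obtain ⟨j, hj⟩ : ∃ j : ℤ, x ^ j = ((w0 : Q) : T) := hmemW.1 w0.2
    refine ⟨Subtype.ext ?_, ?_⟩
    · push_cast
      rw [hi]
      have h2 : (x ^ i * y) ^ 2 ∈ Subgroup.zpowers x := Subgroup.sq_mem_of_index_two hidx _
      obtain ⟨k, hk⟩ := h2
      have hk' : x ^ k = (x ^ i * y) ^ 2 := hk
      have h3 := hconj i k
      rw [hk', ← pow_succ', pow_succ, mul_inv_cancel_right] at h3
      rw [show (4 : ℕ) = 2 * 2 by rfl, pow_mul, ← hk', ← zpow_natCast, ← zpow_mul, hoz]
      rw [← hk'] at h3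
      have h4 : x ^ ((e - 1) * k) = 1 := by
        rw [sub_mul, one_mul, zpow_sub, mul_inv_eq_one]
        exact h3.symm
      rw [hoz] at h4
      obtain ⟨m, hm⟩ := he
      have h5 : (2 : ℤ) ^ n ∣ (2 * m - 1) * (k * ((2 : ℕ) : ℤ)) := by
        refine h4.trans (dvd_of_eq ?_); push_cast; linear_combination k * hm
      exact (IsCoprime.pow_left (x := (2 : ℤ)) (y := 2 * m - 1) ⟨m, -1, by ring⟩).dvd_of_dvd_mul_left h5
    · rw [hi, ← hj, hconj, ← zpow_mul, mul_comm]
  have hodd_int : ∀ v : Q, φ v ∈ ({v, v⁻¹} : Set Q) → φ (φ v) = v := by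
    rintro v (h | h)
    · rw [h, h]
    · rw [h, map_inv, h, inv_inv]
  have hstab : ∀ v : Q, φ (φ v) = v → φ v = v := by
    intro v hv
    obtain ⟨m, hm⟩ := hφ
    have h1 : ∀ k : ℕ, (φ ^ (2 * k)) v = v := by
      intro k
      induction k with
      | zero => rfl
      | succ k ih => rw [show 2 * (k + 1) = 2 * k + 1 + 1 by ring, pow_succ, MulAut.mul_apply, pow_succ, MulAut.mul_apply, hv, ih]
    have h2 : (φ ^ orderOf φ) v = v := by rw [pow_orderOf_eq_one]; rfl
    rwa [hm, pow_succ', MulAut.mul_apply, h1] at h2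
  -- coprime automorphisms trivial on `W`
  have hWfix : (∀ w ∈ W, φ w = w) → False := by
    intro hw
    obtain ⟨r, hr⟩ : ∃ r : Q, r ∉ W := ⟨⟨r₀, hr₀⟩, by rw [hW, Subgroup.mem_subgroupOf]; exact hr₀x⟩
    have hidxW : W.index = 2 := by
      have h := Subgroup.index_mul_card W
      exact Nat.eq_of_mul_eq_mul_right Nat.card_pos (h.trans hcard)
    have hφr : φ r ∉ W := fun h => hr (by
      have h1 := hw _ h
      rw [EmbeddingLike.apply_eq_iff_eq] at h1
      exact h1 ▸ h)
    have hd : r⁻¹ * φ r ∈ W := (Subgroup.mul_mem_iff_of_index_two hidxW).2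
      (iff_of_false (fun h => hr (inv_inv r ▸ inv_mem h)) hφr)
    have h1 : ∀ k : ℕ, (φ ^ k) r = r * (r⁻¹ * φ r) ^ k := by
      intro k
      induction k with
      | zero => simp
      | succ k ih =>
        rw [pow_succ', MulAut.mul_apply, ih, map_mul, map_pow, hw _ hd, pow_succ', ← mul_assoc r,
          mul_inv_cancel_left]
    have h2 := h1 (orderOf φ)
    rw [pow_orderOf_eq_one, MulAut.one_apply, left_eq_mul] at h2
    obtain ⟨k, hk⟩ := hQ2 (r⁻¹ * φ r)
    have h3 : r⁻¹ * φ r = 1 := orderOf_eq_one_iff.1 (Nat.eq_one_of_dvd_coprimes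
      ((Nat.coprime_two_right.2 hφ).pow_right k) (orderOf_dvd_of_pow_eq_one h2) (orderOf_dvd_of_pow_eq_one hk))
    refine hφ1 (MulEquiv.ext fun q => ?_)
    rw [MulAut.one_apply]
    by_cases hq : q ∈ W
    · exact hw q hq
    · have hrq : r⁻¹ * q ∈ W := (Subgroup.mul_mem_iff_of_index_two hidxW).2
        (iff_of_false (fun h => hr (inv_inv r ▸ inv_mem h)) hq)
      rw [← mul_inv_cancel_left r q, map_mul, hw _ hrq, ← inv_mul_eq_one.1 h3]
  -- the image of the generator is outside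
  obtain ⟨c, hcdef⟩ : ∃ c, c = (w0 : Q) := ⟨_, rfl⟩
  have hcW : c ∈ W := hcdef ▸ w0.2
  have hWc : ∀ w ∈ W, w ∈ Subgroup.zpowers c := fun w hw => by
    obtain ⟨k, hk⟩ := hgen ⟨w, hw⟩
    exact ⟨k, by rw [hcdef]; exact congrArg Subtype.val hk⟩
  have hφc : φ c ∉ W := by
    intro h
    refine hWfix ?_
    let ψ : MulAut W :=
      { toFun := fun w => ⟨φ w, by
          obtain ⟨k, hk⟩ := hWc w w.2
          have hk' : c ^ k = (w : Q) := hk
          rw [← hk', map_zpow]; exact zpow_mem h k⟩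
        invFun := fun w => ⟨φ.symm w, by
          obtain ⟨k, hk⟩ := hWc w w.2
          have hk' : c ^ k = (w : Q) := hk
          obtain ⟨m, hm⟩ := hφ
          have hsymm : φ.symm c ∈ W := by
            have e1 : φ.symm c = (φ ^ (2 * m)) c := by
              apply φ.injective
              rw [MulEquiv.apply_symm_apply, ← MulAut.mul_apply, ← pow_succ', ← hm, pow_orderOf_eq_one]
              rfl
            rw [e1]
            clear e1
            have : ∀ j : ℕ, (φ ^ j) c ∈ W := by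
              intro j
              induction j with
              | zero => exact hcW
              | succ j ih =>
                rw [pow_succ', MulAut.mul_apply]
                obtain ⟨l, hl⟩ := hWc _ ih
                have hl' : c ^ l = (φ ^ j) c := hl
                rw [← hl', map_zpow]; exact zpow_mem h l
            exact this _
          rw [← hk', map_zpow]; exact zpow_mem hsymm k⟩
        left_inv := fun w => Subtype.ext (φ.symm_apply_apply w)
        right_inv := fun w => Subtype.ext (φ.apply_symm_apply w)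
        map_mul' := fun u v => Subtype.ext (map_mul φ (u : Q) v) }
    have hψpow : ∀ j : ℕ, ∀ w : W, (((ψ ^ j) w : W) : Q) = (φ ^ j) w := by
      intro j
      induction j with
      | zero => exact fun w => rfl
      | succ j ih => intro w; rw [pow_succ', pow_succ', MulAut.mul_apply, MulAut.mul_apply, ← ih]; rfl
    have hψ : ψ = 1 := Perm.Fpf.QuatAut.eq_one_of_odd_cyclic (hQ2.to_subgroup W) hφ (f := ψ)
      (MulEquiv.ext fun w => Subtype.ext (by rw [hψpow, pow_orderOf_eq_one]; rfl))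
    exact fun w hw => congrArg Subtype.val (DFunLike.congr_fun hψ ⟨w, hw⟩)
  -- `c` has order four
  have hc4 : c ^ 4 = 1 := by
    have h1 := (hout _ hφc).1
    rw [← map_pow] at h1
    exact φ.injective (h1.trans (map_one φ).symm)
  have hc2 : c ^ 2 ≠ 1 := by
    intro h2
    refine hWfix fun w hw => ?_
    obtain ⟨k, hk⟩ := hWc w hw
    have hk' : c ^ k = w := hk
    rw [← hk', map_zpow]
    congr 1
    refine hfix c ?_
    rw [Subgroup.mem_center_iff]
    intro s
    obtain ⟨j, hj⟩ : ∃ j : ℤ, x ^ j = (c : T) := hmemW.1 hcW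
    rcases hcos s with ⟨i, rfl⟩ | ⟨i, rfl⟩
    · rw [← hj]; exact ((Commute.refl x).zpow_zpow i j).eq
    · refine mul_inv_eq_iff_eq_mul.1 ?_
      rw [← hj, hconj, ← mul_inv_eq_one, ← zpow_neg, ← zpow_add]
      obtain ⟨m, hm⟩ := he
      have h2' : (x ^ j) ^ (2 : ℤ) = 1 := by rw [hj, zpow_two, ← pow_two]; simpa using congrArg Subtype.val h2
      rw [show e * j + -j = j * 2 * (2 * m - 1) by linear_combination j * hm, zpow_mul, zpow_mul, h2', one_zpow]
  have hco : orderOf c = 4 := by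
    rw [show (4 : ℕ) = 2 ^ (1 + 1) by norm_num]
    exact orderOf_eq_prime_pow (by rw [pow_one]; exact hc2) hc4
  have hWcard : Nat.card W = 4 := by
    rw [← hco, hcdef, Subgroup.orderOf_coe]
    exact (orderOf_eq_card_of_forall_mem_zpowers hgen).symm
  rw [hWcard] at hcard
  have hcT : orderOf (c : T) = 4 := by rw [Subgroup.orderOf_coe, hco]
  have hrel := (hout _ hφc).2
  rw [← hcdef] at hrel
  have hce : (c : T) ^ e = (c : T)⁻¹ := by
    rw [← zpow_neg_one, zpow_eq_zpow_iff_modEq, hcT, Int.modEq_iff_dvd]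
    obtain ⟨m, hm⟩ := he
    exact ⟨-m, by push_cast; omega⟩
  rw [hce] at hrel
  have hsq : φ c * φ c = c * c := by
    rw [← map_mul]
    refine hfix _ ?_
    have h2 : ((c * c : Q) : T) = z := by
      obtain ⟨j, hj⟩ : ∃ j : ℤ, x ^ j = (c : T) := hmemW.1 hcW
      push_cast
      rw [← hj, ← zpow_add]
      have h4 : (2 : ℤ) ^ n ∣ j * 4 := by
        rw [← hoz, zpow_mul, hj, show ((c : T)) ^ (4 : ℤ) = (c : T) ^ 4 from zpow_natCast _ 4, ← hcT, pow_orderOf_eq_one]
      have h2 : ¬ (2 : ℤ) ^ n ∣ j + j := by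
        rw [← hoz, zpow_add, hj, ← pow_two]
        intro h; exact hc2 (Subtype.ext (by push_cast; exact h))
      obtain ⟨k, hk⟩ := h4
      rw [hpow2] at hk
      have hjj : j + j = (2 : ℤ) ^ (n - 1) * k := by linarith
      rcases Int.even_or_odd k with ⟨l, rfl⟩ | ⟨l, rfl⟩
      · exact absurd ⟨l, by rw [hjj, hpow2]; ring⟩ h2
      · rw [hz, ← mul_inv_eq_one, ← zpow_neg, ← zpow_add, hoz]
        exact ⟨l, by rw [hjj, hpow2]; ring⟩
    rw [h2]; exact hzC
  refine quaternion_of_rels Q hcard c.2 (φ c).2 hcT ?_ hrel (fun h => hφc ?_)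
  · exact_mod_cast congrArg Subtype.val hsq
  · obtain ⟨k, hk⟩ := h
    have hk' : c ^ k = φ c := Subtype.ext (by push_cast; exact hk)
    exact hk' ▸ zpow_mem hcW k


/-- Let G be a finite solvable group with O(G) = 1 whose Sylow 2-subgroup T is dihedral of order at least 8 or semidihedral, with G ≠ T and Z(T) normal in G. Then G has a normal subgroup isomorphic to SL₂(3). -/
theorem result {G : Type*} [Group G] [Finite G] (hsol : IsSolvable G) (hO : Cfsg.oddCore G = ⊥) (T : Sylow 2 G) (hT : (∃ n : ℕ, 4 ≤ n ∧ Nonempty (↥(T : Subgroup G) ≃* DihedralGroup n)) ∨ Cfsg.IsQuasiDihedral ↥(T : Subgroup G)) (hne : (T : Subgroup G) ≠ ⊤) (hZ : ((T : Subgroup G) ⊓ Subgroup.centralizer ((T : Subgroup G) : Set G)).Normal) : ∃ U : Subgroup G, U.Normal ∧ Nonempty (↥U ≃* Matrix.SpecialLinearGroup (Fin 2) (ZMod 3)) := by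
  classical
  haveI : Fact (Nat.Prime 2) := ⟨Nat.prime_two⟩
  -- the shape of `T`
  obtain ⟨n, hn, x, y, e, hx, hidx, hy, he, hyx⟩ : ∃ (n : ℕ) (_ : 2 ≤ n) (x y : ↥(T : Subgroup G)) (e : ℤ),
      orderOf x = 2 ^ n ∧ (Subgroup.zpowers x).index = 2 ∧ y ∉ Subgroup.zpowers x ∧ (4 : ℤ) ∣ e + 1 ∧
        y * x * y⁻¹ = x ^ e := by
    rcases hT with ⟨n, hn, ⟨d⟩⟩ | hQD
    · obtain ⟨m, hm⟩ := IsPGroup.iff_card.1 T.isPGroup'
      rw [Nat.card_congr d.toEquiv, DihedralGroup.nat_card] at hm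
      obtain ⟨k, -, hk⟩ := (Nat.dvd_prime_pow Nat.prime_two).1 (⟨2, by rw [← hm]; ring⟩ : n ∣ 2 ^ m)
      have hk2 : 2 ≤ k := by
        by_contra h
        have : n ≤ 2 ^ 1 := hk ▸ Nat.pow_le_pow_right (by norm_num) (by omega)
        omega
      have hox : orderOf (d.symm (DihedralGroup.r 1)) = 2 ^ k := by
        rw [MulEquiv.orderOf_eq, DihedralGroup.orderOf_r_one, hk]
      refine ⟨k, hk2, d.symm (DihedralGroup.r 1), d.symm (DihedralGroup.sr 0), -1, hox, ?_, ?_, by norm_num, ?_⟩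
      · have h := Subgroup.index_mul_card (Subgroup.zpowers (d.symm (DihedralGroup.r 1)))
        rw [Nat.card_zpowers, hox, Nat.card_congr d.toEquiv, DihedralGroup.nat_card] at h
        exact Nat.eq_of_mul_eq_mul_right (by positivity) (h.trans (congrArg (2 * ·) hk))
      · rintro ⟨i, hi⟩
        have h := congrArg d hi
        simp only [map_zpow, MulEquiv.apply_symm_apply, DihedralGroup.r_one_zpow] at h
        exact absurd h (by simp)
      · apply d.injective
        simp only [map_mul, map_inv, map_zpow, MulEquiv.apply_symm_apply, zpow_neg_one, DihedralGroup.inv_r,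
          DihedralGroup.inv_sr, DihedralGroup.sr_mul_r, DihedralGroup.sr_mul_sr]
        congr 1
        ring
    · obtain ⟨n, ⟨D⟩⟩ := exists_qdData' hQD
      refine ⟨n, by have := D.hn; omega, D.x, D.y, ((2 ^ (n - 1) - 1 : ℕ) : ℤ), D.ox, D.index_zpowers, D.y_not_mem,
        ⟨2 ^ (n - 3), ?_⟩, by rw [zpow_natCast]; exact D.rel⟩
      have h1 : 1 ≤ 2 ^ (n - 1) := Nat.one_le_two_pow
      rw [Nat.cast_sub h1]
      push_cast
      rw [sub_add_cancel, show n - 1 = 2 + (n - 3) by have := D.hn; omega, pow_add]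
      norm_num
  obtain ⟨hcard2, hquat⟩ := quaternion_of_odd_aut T.isPGroup' hn hx hidx hy he hyx
  obtain ⟨Q, hQ⟩ : ∃ Q, Q = Cfsg.pCore 2 G := ⟨_, rfl⟩
  haveI : Q.Normal := hQ ▸ inferInstance
  have hQT : Q ≤ (T : Subgroup G) := hQ ▸ pCore_le_sylow T
  have hQ2 : IsPGroup 2 Q := hQ ▸ isPGroup_pCore 2 G
  have hCQ : Subgroup.centralizer (Q : Set G) ≤ Q := hQ ▸ centralizer_pCore_le_of_solvable hsol hO
  -- the centre of `T` is central
  have hzc : ∀ z : ↥(T : Subgroup G), z ∈ Subgroup.center ↥(T : Subgroup G) → ∀ g : G, g * (z : G) = z * g := by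
    intro z hz g
    rcases eq_or_ne z 1 with rfl | hz1
    · simp
    have hzm : (z : G) ∈ (T : Subgroup G) ⊓ Subgroup.centralizer ((T : Subgroup G) : Set G) :=
      Subgroup.mem_inf.2 ⟨z.2, Subgroup.mem_centralizer_iff.2 fun t ht =>
        congrArg Subtype.val (Subgroup.mem_center_iff.1 hz ⟨t, ht⟩)⟩
    have hw := hZ.conj_mem _ hzm g
    obtain ⟨hwT, hwC⟩ := Subgroup.mem_inf.1 hw
    have hwc : (⟨_, hwT⟩ : ↥(T : Subgroup G)) ∈ Subgroup.center ↥(T : Subgroup G) :=
      Subgroup.mem_center_iff.2 fun t => Subtype.ext (Subgroup.mem_centralizer_iff.1 hwC t t.2)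
    have huniq : ∀ u ∈ Subgroup.center ↥(T : Subgroup G), u ≠ 1 → u = z := by
      intro u hu hu1
      obtain ⟨a, ha, hall⟩ := (Nat.card_eq_two_iff' (1 : Subgroup.center ↥(T : Subgroup G))).1 hcard2
      have e1 := hall ⟨u, hu⟩ (fun h => hu1 (congrArg Subtype.val h))
      have e2 := hall ⟨z, hz⟩ (fun h => hz1 (congrArg Subtype.val h))
      exact congrArg Subtype.val (e1.trans e2.symm)
    have hwne : (⟨_, hwT⟩ : ↥(T : Subgroup G)) ≠ 1 := fun h => hz1 (Subtype.ext
      (conj_eq_one_iff.1 (congrArg Subtype.val h)))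
    exact mul_inv_eq_iff_eq_mul.1 (congrArg Subtype.val (huniq _ hwc hwne))
  -- an element of odd order
  obtain ⟨q, hq, hqd⟩ := Nat.exists_prime_and_dvd (show (T : Subgroup G).index ≠ 1 from fun h => hne (Subgroup.index_eq_one.1 h))
  haveI := Fact.mk hq
  have hq2 : q ≠ 2 := fun h => T.not_dvd_index (h ▸ hqd)
  obtain ⟨g, hg⟩ := exists_prime_orderOf_dvd_card' (G := G) q (hqd.trans (Subgroup.index_dvd_card _))
  have hgodd : Odd (orderOf g) := hg ▸ hq.odd_of_ne_two hq2
  have hnorm : ∀ h : G, h ∈ Subgroup.normalizer (Q : Set G) := fun h => by rw [Subgroup.normalizer_eq_top]; trivial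
  let ι := Subgroup.subgroupOfEquivOfLe hQT
  let conjQ : G →* MulAut Q := MulAut.conjNormal
  obtain ⟨φ, hφ⟩ : ∃ φ : MulAut (Q.subgroupOf (T : Subgroup G)), φ = (MulAut.congr ι.symm) (conjQ g) := ⟨_, rfl⟩
  have hgne : g ∉ Subgroup.centralizer (Q : Set G) := by
    intro h
    obtain ⟨k, hk⟩ := IsPGroup.iff_orderOf.1 hQ2 ⟨g, hCQ h⟩
    rw [Subgroup.orderOf_mk, hg] at hk
    rcases k with _ | k
    · exact hq.ne_one (by simpa using hk)
    · exact hq2 ((Nat.prime_dvd_prime_iff_eq Nat.prime_two hq).1 (hk ▸ dvd_pow_self 2 k.succ_ne_zero)).symm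
  have hφ1 : φ ≠ 1 := by
    intro h
    rw [hφ, map_eq_one_iff _ (MulEquiv.injective _)] at h
    refine hgne (Subgroup.mem_centralizer_iff.2 fun u hu => ?_)
    have h1 := congrArg Subtype.val (DFunLike.congr_fun h (⟨u, hu⟩ : Q))
    rw [MulAut.conjNormal_apply, MulAut.one_apply] at h1
    exact (mul_inv_eq_iff_eq_mul.1 h1).symm
  obtain ⟨eQ'⟩ := hquat (Q.subgroupOf (T : Subgroup G)) (Subgroup.Normal.subgroupOf inferInstance _) φ
    (hgodd.of_dvd_nat (by rw [hφ, MulEquiv.orderOf_eq]; exact orderOf_map_dvd conjQ g)) hφ1 (fun z hz => by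
      apply Subtype.ext; apply Subtype.ext
      rw [hφ]
      show g * (((z : ↥(T : Subgroup G))) : G) * g⁻¹ = _
      rw [hzc _ hz g, mul_inv_cancel_right])
  let eQ := eQ'.trans ι
  -- odd order elements have order three
  obtain ⟨π, hπ⟩ := Perm.Fpf.QuatAut.aut_perm
  have hAut : Function.Injective (π.comp (MulAut.congr eQ.symm).toMonoidHom) :=
    hπ.comp (MulEquiv.injective _)
  have hg3 : g ^ 3 = 1 := by
    obtain ⟨θ, hθ⟩ : ∃ θ, θ = (π.comp (MulAut.congr eQ.symm).toMonoidHom) (conjQ g) := ⟨_, rfl⟩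
    have h1 : orderOf θ ∣ orderOf g := hθ ▸ orderOf_map_dvd ((π.comp (MulAut.congr eQ.symm).toMonoidHom).comp conjQ) g
    have h2 : orderOf θ ∣ 24 := by
      have h := orderOf_dvd_natCard θ
      rwa [Nat.card_eq_fintype_card, Fintype.card_perm, Fintype.card_fin] at h
    rw [hg] at h1
    rcases hq.eq_one_or_self_of_dvd _ h1 with h | h
    · exfalso
      refine hgne (Subgroup.mem_centralizer_iff.2 fun u hu => ?_)
      have h3 : conjQ g = 1 := hAut (by rw [← hθ, orderOf_eq_one_iff.1 h, map_one])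
      have h4 := congrArg Subtype.val (DFunLike.congr_fun h3 (⟨u, hu⟩ : Q))
      rw [MulAut.conjNormal_apply, MulAut.one_apply] at h4
      exact (mul_inv_eq_iff_eq_mul.1 h4).symm
    · rw [h] at h2
      have hq24 : q ∣ 2 ^ 3 * 3 := h2
      rcases (Nat.Prime.dvd_mul hq).1 hq24 with h5 | h5
      · exact absurd ((Nat.prime_dvd_prime_iff_eq hq Nat.prime_two).1 (hq.dvd_of_dvd_pow h5)) hq2
      · rw [← (Nat.prime_dvd_prime_iff_eq hq Nat.prime_three).1 h5, ← hg, pow_orderOf_eq_one]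
  have hg3o : orderOf g = 3 := by
    haveI : Fact (Nat.Prime 3) := ⟨Nat.prime_three⟩
    exact orderOf_eq_prime hg3 fun h => hgne (h ▸ one_mem _)
  have hQ8 : Nat.card Q = 8 := by rw [← Nat.card_congr eQ.toEquiv, Nat.card_eq_fintype_card, QuaternionGroup.card]
  obtain ⟨U, hU⟩ : ∃ U, U = Q ⊔ Subgroup.zpowers g := ⟨_, rfl⟩
  have hU24 : Nat.card U = 24 := by
    rw [hU, Solv.card_sup_of_inf_eq_bot Q (Subgroup.zpowers g)
      (Subgroup.inf_eq_bot_of_coprime (by rw [hQ8, Nat.card_zpowers, hg3o]; norm_num)), hQ8, Nat.card_zpowers, hg3o]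
  -- the order of `G` divides `48`
  have hG48 : Nat.card G ∣ 48 := by
    have hker : conjQ.ker ≤ Subgroup.centralizer (Q : Set G) := fun a ha => Subgroup.mem_centralizer_iff.2 fun u hu => by
      have h4 := congrArg Subtype.val (DFunLike.congr_fun (MonoidHom.mem_ker.1 ha) (⟨u, hu⟩ : Q))
      rw [MulAut.conjNormal_apply, MulAut.one_apply] at h4
      exact (mul_inv_eq_iff_eq_mul.1 h4).symm
    have key : ∀ w : QuaternionGroup 2, (∀ v, w * v = v * w) → w = 1 ∨ w = QuaternionGroup.a 2 := by decide +kernel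
    have h2 : Nat.card conjQ.ker ∣ 2 := by
      obtain ⟨z, hz⟩ : ∃ z : G, z = (eQ (QuaternionGroup.a 2) : G) := ⟨_, rfl⟩
      have hzz : z * z = 1 := by
        rw [hz, ← Subgroup.coe_mul, ← map_mul, show (QuaternionGroup.a 2 * QuaternionGroup.a 2 : QuaternionGroup 2) = 1 by decide +kernel,
          map_one, Subgroup.coe_one]
      have hle : conjQ.ker ≤ Subgroup.zpowers z := by
        intro a ha
        have haQ := hCQ (hker ha)
        rcases key (eQ.symm ⟨a, haQ⟩) (fun v => eQ.injective (by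
          rw [map_mul, map_mul, eQ.apply_symm_apply]
          exact Subtype.ext (Subgroup.mem_centralizer_iff.1 (hker ha) _ (eQ v).2).symm)) with h | h
        · have := congrArg eQ h
          rw [eQ.apply_symm_apply, map_one] at this
          rw [show a = 1 from congrArg Subtype.val this]; exact one_mem _
        · have := congrArg eQ h
          rw [eQ.apply_symm_apply] at this
          rw [show a = z from (congrArg Subtype.val this).trans hz.symm]; exact Subgroup.mem_zpowers z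
      exact (Subgroup.card_dvd_of_le hle).trans (by rw [Nat.card_zpowers]; exact orderOf_dvd_of_pow_eq_one (by rw [pow_two, hzz]))
    have h1 : conjQ.ker.index ∣ 24 := by
      rw [Subgroup.index_ker]
      refine (Subgroup.card_subgroup_dvd_card _).trans ?_
      have h := Subgroup.card_subgroup_dvd_card (π.comp (MulAut.congr eQ.symm).toMonoidHom).range
      rw [Nat.card_eq_fintype_card (α := Equiv.Perm (Fin 4)), Fintype.card_perm, Fintype.card_fin] at h
      refine dvd_trans ?_ h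
      exact (Nat.card_congr (MonoidHom.ofInjective hAut).toEquiv).dvd
    rw [← Subgroup.card_mul_index conjQ.ker]
    exact Nat.mul_dvd_mul h2 h1
  have hUn : U.Normal := by
    have h := Subgroup.index_mul_card U
    rw [hU24] at h
    have hi : U.index ∣ 2 := Nat.dvd_of_mul_dvd_mul_right (show 0 < 24 by norm_num) (h ▸ hG48)
    rcases (Nat.dvd_prime Nat.prime_two).1 hi with h1 | h1
    · rw [Subgroup.index_eq_one.1 h1]; infer_instance
    · exact Subgroup.normal_of_index_eq_two h1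
  have hQU : Q ≤ U := hU ▸ le_sup_left
  have hgU : g ∈ U := hU ▸ Subgroup.mem_sup_right (Subgroup.mem_zpowers g)
  haveI : (Q.subgroupOf U).Normal := Subgroup.Normal.subgroupOf inferInstance U
  refine ⟨U, hUn, Lie.HuppertRegular.sl23_of_order hU24 (eQ.trans (Subgroup.subgroupOfEquivOfLe hQU).symm) (g := ⟨g, hgU⟩)
    (by rw [Subgroup.normalizer_eq_top]; trivial) (Subtype.ext hg3) (fun h => hgne ?_)⟩
  exact Subgroup.mem_centralizer_iff.2 fun u hu =>
    congrArg Subtype.val (Subgroup.mem_centralizer_iff.1 h ⟨u, hQU hu⟩ (Subgroup.mem_subgroupOf.2 hu))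

end Cfsg.Agent.S2879
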