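import Cfsg.Statements.S2880
import Cfsg.Agent.Lib.Solv.Extraspecial
-- import your own Cfsg.Agent.* helpers here

set_option autoImplicit false
open Cfsg

open Cfsg.Agent
open scoped commutatorElement

namespace Cfsg.Agent.S2880

/-- Let E be an extraspecial 2-group of order 2^(2m+1) of plus type, that is, containing an elementary abelian subgroup of order 2^(m+1) (equivalently, a central product of m dihedral groups of order 8). Then E has exactly 2^(2m) − 2^m elements of order 4. -/
theorem result {E : Type*} [Group E] [Finite E] (m : ℕ) (hm : 1 ≤ m) (hE : Cfsg.IsExtraspecial 2 E) (hcard : Nat.card E = 2 ^ (2 * m + 1)) (hplus : ∃ A : Subgroup E, Cfsg.IsElementaryAbelian 2 A ∧ Nat.card A = 2 ^ (m + 1)) : Nat.card {x : E // orderOf x = 4} = 2 ^ (2 * m) - 2 ^ m := by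
  classical
  obtain ⟨A, ⟨hAc, hA2⟩, hAcard⟩ := hplus
  obtain ⟨m', -, hm', hbound⟩ := Cfsg.Agent.Solv.extraspecial_card hE
  have hmm : m' = m := by
    have := Nat.pow_right_injective le_rfl (hm'.symm.trans hcard)
    omega
  subst hmm
  have hd : commutator E = Subgroup.center E := hE.1.2.2
  have hcen : ∀ x y : E, ⁅x, y⁆ ∈ Subgroup.center E := fun x y =>
    hd.le (Subgroup.commutator_mem_commutator (Subgroup.mem_top x) (Subgroup.mem_top y))
  have hz : ∀ c ∈ Subgroup.center E, c * c = 1 := fun c hc => by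
    have := pow_card_eq_one' (x := (⟨c, hc⟩ : Subgroup.center E))
    rw [hE.2] at this
    rw [← sq]; exact congrArg Subtype.val this
  have hz2 : ∀ c ∈ Subgroup.center E, ∀ d ∈ Subgroup.center E, c ≠ 1 → d ≠ 1 → c = d := fun c hc d hd hc1 hd1 => by
    have h := Nat.card_eq_two_iff' (⟨1, one_mem _⟩ : Subgroup.center E) |>.1 hE.2
    exact congrArg Subtype.val (h.unique (y₁ := ⟨c, hc⟩) (y₂ := ⟨d, hd⟩)
      (fun e => hc1 (congrArg Subtype.val e)) (fun e => hd1 (congrArg Subtype.val e)))
  have hAcomm : ∀ {a b}, a ∈ A → b ∈ A → a * b = b * a := fun {a b} ha hb =>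
    congrArg Subtype.val (hAc.1.1 ⟨a, ha⟩ ⟨b, hb⟩)
  -- `A` is self-centralising
  have hself : ∀ x, x ∉ A → ∃ a ∈ A, ⁅x, a⁆ ≠ 1 := by
    intro x hx
    by_contra h
    push Not at h
    set B := Subgroup.closure ((A : Set E) ∪ {x})
    have hB : IsMulCommutative B := by
      refine Subgroup.isMulCommutative_closure ?_
      rintro u (hu | hu) v (hv | hv)
      · exact hAcomm hu hv
      · rw [Set.mem_singleton_iff.1 hv]
        exact (commutatorElement_eq_one_iff_mul_comm.1 (h u hu)).symm
      · rw [Set.mem_singleton_iff.1 hu]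
        exact commutatorElement_eq_one_iff_mul_comm.1 (h v hv)
      · rw [Set.mem_singleton_iff.1 hu, Set.mem_singleton_iff.1 hv]
    have hlt : A < B := lt_of_le_of_ne (fun a ha => Subgroup.subset_closure (Or.inl ha))
      fun e => hx (e.ge (Subgroup.subset_closure (Or.inr rfl)))
    have h1 : Nat.card A < Nat.card B := by
      by_contra hle
      exact hlt.ne (Subgroup.eq_of_le_of_card_ge hlt.le (Nat.not_lt.1 hle))
    have h2 := Nat.le_of_dvd (pow_pos (by norm_num) _) (hbound B hB)
    omega
  have hrep : ∀ x : E, ∃ a ∈ A, x = (QuotientGroup.mk x : E ⧸ A).out * a := fun x =>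
    ⟨_, QuotientGroup.eq.1 (QuotientGroup.out_eq' (QuotientGroup.mk x : E ⧸ A)), by simp⟩
  let α : E ⧸ A → E := fun q => if h : ∃ a ∈ A, ⁅q.out, a⁆ ≠ 1 then h.choose else 1
  have hαA : ∀ q, α q ∈ A := fun q => by
    simp only [α]
    split
    · next h => exact h.choose_spec.1
    · exact one_mem _
  have hα : ∀ x, x ∉ A → ⁅x, α (QuotientGroup.mk x)⁆ ≠ 1 := by
    intro x hx
    obtain ⟨a, ha, hxa⟩ := hrep x
    set q : E ⧸ A := QuotientGroup.mk x
    have hq : q.out ∉ A := fun h => hx (hxa ▸ mul_mem h ha)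
    have hex := hself _ hq
    have hαq : α q = hex.choose := dif_pos hex
    rw [hαq, hxa, show ⁅q.out * a, hex.choose⁆ = q.out * ⁅a, hex.choose⁆ * q.out⁻¹ * ⁅q.out, hex.choose⁆ by
      simp only [commutatorElement_def]; group,
      commutatorElement_eq_one_iff_mul_comm.2 (hAcomm ha hex.choose_spec.1), mul_one, mul_inv_cancel, one_mul]
    exact hex.choose_spec.2
  let f : E → E := fun x => x * α (QuotientGroup.mk x)
  have hmk : ∀ x, (QuotientGroup.mk (f x) : E ⧸ A) = QuotientGroup.mk x := fun x =>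
    QuotientGroup.eq.2 (by simpa [f] using inv_mem (hαA (QuotientGroup.mk x)))
  have hff : ∀ x, f (f x) = x := fun x => by
    show f x * α (QuotientGroup.mk (f x)) = x
    rw [hmk]
    show x * α _ * α _ = x
    rw [mul_assoc, ← sq, hA2 _ (hαA _), mul_one]
  have hfA : ∀ x, x ∉ A → f x ∉ A := fun x hx h => hx ((A.mul_mem_cancel_right (hαA _)).1 h)
  -- the square changes by the nontrivial central element
  have hsq : ∀ x, x ∉ A → (f x * f x = 1 ↔ x * x ≠ 1) := by
    intro x hx
    set a := α (QuotientGroup.mk x)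
    set c := ⁅x, a⁆
    have hc : c ∈ Subgroup.center E := hcen _ _
    have hxx : x * x ∈ Subgroup.center E := by
      have := Cfsg.Agent.Solv.extraspecial_pow_mem_center hE x
      rwa [sq] at this
    have ha : a⁻¹ = a := inv_eq_of_mul_eq_one_right (by rw [← sq]; exact hA2 _ (hαA _))
    have e : f x * f x = x * x * c := by
      have h1 : x * a = c * (a * x) := by simp only [c, commutatorElement_def]; group
      calc f x * f x = (x * a) * x * a := by simp only [f, a]; group
        _ = c * (a * x) * x * a := by rw [h1]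
        _ = c * (a * ((x * x) * a)) := by group
        _ = c * (a * (a * (x * x))) := by rw [Subgroup.mem_center_iff.1 hxx a]
        _ = c * (x * x) := by rw [← mul_assoc a a, ← sq, hA2 _ (hαA _), one_mul]
        _ = x * x * c := (Subgroup.mem_center_iff.1 hc _).symm
    rw [e]
    constructor
    · intro h1 h2
      rw [h2, one_mul] at h1
      exact hα x hx h1
    · intro h2
      rw [hz2 _ hxx _ hc h2 (hα x hx)]
      exact hz _ hc
  have h4 : ∀ x : E, orderOf x = 4 ↔ x ∉ A ∧ x * x ≠ 1 := by
    intro x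
    constructor
    · intro h
      have hxx : x * x ≠ 1 := fun e => by
        have := orderOf_dvd_of_pow_eq_one (n := 2) ((sq x).trans e)
        rw [h] at this; norm_num at this
      exact ⟨fun hxA => hxx (by rw [← sq]; exact hA2 x hxA), hxx⟩
    · rintro ⟨-, hxx⟩
      refine orderOf_eq_prime_pow (p := 2) (n := 1) (by rwa [pow_one, sq]) ?_
      rw [show (2 : ℕ) ^ (1 + 1) = 2 * 2 by norm_num, pow_mul, sq, sq]
      have h := Cfsg.Agent.Solv.extraspecial_pow_mem_center hE x
      rw [sq] at h
      exact hz _ h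
  let e : {x : E // x ∉ A ∧ x * x ≠ 1} ≃ {x : E // x ∉ A ∧ x * x = 1} :=
    { toFun := fun x => ⟨f x, hfA x x.2.1, (hsq x x.2.1).2 x.2.2⟩
      invFun := fun x => ⟨f x, hfA x x.2.1, fun h => (hsq x x.2.1).1 h x.2.2⟩
      left_inv := fun x => Subtype.ext (hff x)
      right_inv := fun x => Subtype.ext (hff x) }
  rw [Nat.card_congr (Equiv.subtypeEquivRight h4)]
  set n := Nat.card {x : E // x ∉ A ∧ x * x ≠ 1}
  have hn : Nat.card {x : E // x ∉ A ∧ x * x = 1} = n := (Nat.card_congr e).symm
  letI := Fintype.ofFinite E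
  have htot : Nat.card E = Nat.card A + (n + Nat.card {x : E // x ∉ A ∧ x * x = 1}) := by
    simp only [n, Nat.card_eq_fintype_card, Fintype.card_subtype]
    rw [← Finset.card_univ, ← Finset.card_filter_add_card_filter_not (s := Finset.univ) (fun x => x ∈ A),
      ← Finset.card_filter_add_card_filter_not (s := Finset.univ.filter fun x => x ∉ A) (fun x : E => x * x ≠ 1),
      Finset.filter_filter, Finset.filter_filter]
    simp only [ne_eq, not_not]
  rw [hn, hcard, hAcard] at htot
  have h2 : 2 ^ (2 * m' + 1) = 2 * 2 ^ (2 * m') := by rw [pow_succ']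
  have h3 : 2 ^ (m' + 1) = 2 * 2 ^ m' := by rw [pow_succ']
  omega

end Cfsg.Agent.S2880
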