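import Cfsg.Statements.S2882
import Cfsg.Agent.Lib.Local.FS.MathieuNormalizer

set_option autoImplicit false
open Cfsg

namespace Cfsg.Agent.S2882

theorem result (S : Sylow 2 ↥Cfsg.M24) : Subgroup.normalizer ((S : Subgroup ↥Cfsg.M24) : Set ↥Cfsg.M24) = (S : Subgroup ↥Cfsg.M24) := by
  exact Cfsg.Agent.Local.FS.Mathieu.m24_normalizer S

end Cfsg.Agent.S2882
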