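import Cfsg.Statements.S2896
import Cfsg.Agent.Lib.LocalEven.CharP
-- import your own Cfsg.Agent.* helpers here

set_option autoImplicit false
open Cfsg

open Cfsg.Agent Cfsg.Agent.Fusion

namespace Cfsg.Agent.S2896

/-- Let p be a prime dividing the order of the finite group G, S a Sylow p-subgroup of G and X a subgroup of S. (i) If some nontrivial element z of the centre of X has F*(C_G(z)) = O_p(C_G(z)), then F*(N_G(X)) = O_p(N_G(X)). (ii) G has parabolic characteristic p if and only if F*(C_G(z)) = O_p(C_G(z)) for every nontrivial z ∈ Ω₁(Z(S)). (iii) If F*(C_G(z)) = O_p(C_G(z)) for every element z of S of order p, then G has local characteristic p. -/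
theorem result {G : Type*} [Group G] [Finite G] {p : ℕ} [Fact p.Prime] (hdiv : p ∣ Nat.card G) (S : Sylow p G) (X : Subgroup G) (hX : X ≤ (S : Subgroup G)) : (∀ z : G, z ≠ 1 → z ∈ X → (∀ x ∈ X, x * z = z * x) → Cfsg.generalizedFittingSubgroup ↥(Subgroup.centralizer ({z} : Set G)) = Cfsg.pCore p ↥(Subgroup.centralizer ({z} : Set G)) → Cfsg.generalizedFittingSubgroup ↥(Subgroup.normalizer (X : Set G)) = Cfsg.pCore p ↥(Subgroup.normalizer (X : Set G))) ∧ (Cfsg.IsOfParabolicCharacteristic p G ↔ ∀ z : G, z ≠ 1 → z ∈ Cfsg.omegaOne p ((S : Subgroup G) ⊓ Subgroup.centralizer ((S : Subgroup G) : Set G)) → Cfsg.generalizedFittingSubgroup ↥(Subgroup.centralizer ({z} : Set G)) = Cfsg.pCore p ↥(Subgroup.centralizer ({z} : Set G))) ∧ ((∀ z : G, z ∈ (S : Subgroup G) → orderOf z = p → Cfsg.generalizedFittingSubgroup ↥(Subgroup.centralizer ({z} : Set G)) = Cfsg.pCore p ↥(Subgroup.centralizer ({z} : Set G))) → Cfsg.IsOfLocalCharacteristic p G) := by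
  refine ⟨fun z _ hzX hzc hz => ?_, ⟨fun hpar z hz1 hz => ?_, fun h R hR hne hpr => ?_⟩, fun h => ⟨hdiv, fun T hT hne => ?_⟩⟩
  · exact LocalEven.charP_iff_gfit.1 (LocalEven.charP_normalizer_of_central (S.isPGroup'.to_le hX) hzX hzc
      (LocalEven.charP_iff_gfit.2 hz))
  · have hzS : z ∈ (S : Subgroup G) ⊓ Subgroup.centralizer ((S : Subgroup G) : Set G) :=
      (Subgroup.closure_le _).2 (fun x hx => hx.1) hz
    have hzS' : z ∈ (S : Subgroup G) := hzS.1
    have hp' : IsPGroup p (Subgroup.zpowers z) := S.isPGroup'.to_le (Subgroup.zpowers_le.2 hzS')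
    have hSn : (S : Subgroup G) ≤ Subgroup.normalizer (Subgroup.zpowers z : Set G) := fun s hs =>
      LocalEven.zpowers_le_normalizer (Subgroup.mem_centralizer_iff.1 hzS.2 s hs)
    have hN := hpar _ hp' (fun e => hz1 (Subgroup.zpowers_eq_bot.1 e)) ⟨S, hSn⟩
    have := LocalEven.charP_centralizer hp' le_rfl Subgroup.le_normalizer hN
    rw [LocalEven.centralizer_zpowers] at this
    exact LocalEven.charP_iff_gfit.1 this
  · obtain ⟨P, hP⟩ := hpr
    obtain ⟨g, -, hg⟩ := (sylIn_top P).conj_eq (sylIn_top S)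
    have hSn : (S : Subgroup G) ≤ Subgroup.normalizer (cj R g : Set G) := by
      rw [← hg, ← cj_normalizer]; exact cj_mono hP g
    have hRS : cj R g ≤ (S : Subgroup G) := by
      have hsup : IsPGroup p ↥((S : Subgroup G) ⊔ cj R g) :=
        S.isPGroup'.to_sup_of_normal_right' (isPGroup_cj hR g) hSn
      rw [← (sylIn_top S).eq_of_le hsup le_sup_left le_top]
      exact le_sup_right
    have hne' : cj R g ≠ ⊥ := fun e => hne (by rw [← cj_cj_inv R g, e, cj_bot])
    obtain ⟨z, hzR, hzp, hzc⟩ := LocalEven.exists_central_order S.isPGroup' hRS hSn hne'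
    have hz1 : z ≠ 1 := fun e => by
      rw [e, orderOf_one] at hzp; exact (Fact.out : p.Prime).ne_one hzp.symm
    have hzΩ : z ∈ Cfsg.omegaOne p ((S : Subgroup G) ⊓ Subgroup.centralizer ((S : Subgroup G) : Set G)) :=
      Subgroup.subset_closure ⟨⟨hRS hzR, Subgroup.mem_centralizer_iff.2 hzc⟩, by rw [← hzp, pow_orderOf_eq_one]⟩
    have hN := LocalEven.charP_normalizer_of_central (isPGroup_cj hR g) hzR (fun x hx => hzc x (hRS hx))
      (LocalEven.charP_iff_gfit.2 (h z hz1 hzΩ))
    exact LocalEven.charP_cj g (by rw [cj_normalizer]; exact hN)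
  · obtain ⟨g, -, hg⟩ := (sylIn_top S).conj_le hT le_top
    have hne' : cj T g ≠ ⊥ := fun e => hne (by rw [← cj_cj_inv T g, e, cj_bot])
    obtain ⟨z, hzR, hzp, hzc⟩ :=
      LocalEven.exists_central_order (isPGroup_cj hT g) le_rfl Subgroup.le_normalizer hne'
    have hN := LocalEven.charP_normalizer_of_central (isPGroup_cj hT g) hzR hzc
      (LocalEven.charP_iff_gfit.2 (h z (hg hzR) hzp))
    exact LocalEven.charP_cj g (by rw [cj_normalizer]; exact hN)

end Cfsg.Agent.S2896
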