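import Cfsg.Statements.S2898
import Cfsg.Agent.Lib.LocalEven.CharP
-- import your own Cfsg.Agent.* helpers here

set_option autoImplicit false
open Cfsg

open Cfsg.Agent Cfsg.Agent.Fusion

namespace Cfsg.Agent.S2898

/-- Let G be a finite group of even order with parabolic characteristic 2. If the centre of G ⧸ O(G) is trivial, then O(G) = 1. -/
theorem result {G : Type*} [Group G] [Finite G] (h2 : 2 ∣ Nat.card G) (hG : Cfsg.IsOfParabolicCharacteristic 2 G) [hN : (Cfsg.oddCore G).Normal] (hZ : Subgroup.center (G ⧸ Cfsg.oddCore G) = ⊥) : Cfsg.oddCore G = ⊥ := by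
  classical
  by_contra hW1
  set W := Cfsg.oddCore G with hW
  haveI := hN
  have hodd : ∀ w ∈ W, w * w = 1 → w = 1 := fun w hw h => by
    have h1 : orderOf w ∣ Nat.card W := by
      have := orderOf_dvd_natCard (⟨w, hw⟩ : ↥W)
      rwa [Subgroup.orderOf_mk] at this
    exact orderOf_eq_one_iff.1 (Nat.eq_one_of_dvd_coprimes (card_pPrimeCore_coprime 2 G).symm
      (orderOf_dvd_of_pow_eq_one (by rw [pow_two]; exact h)) h1)
  obtain ⟨S⟩ : Nonempty (Sylow 2 G) := inferInstance
  have hcent : ∀ z ∈ (S : Subgroup G), orderOf z = 2 → (∀ s ∈ (S : Subgroup G), s * z = z * s) →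
      ∀ w ∈ W, z * w * z⁻¹ = w⁻¹ := by
    intro z hzS hz hzc
    set N := Subgroup.normalizer (Subgroup.zpowers z : Set G) with hNdef
    have hch : LocalEven.CharP 2 N := hG _ (LocalEven.isPGroup_zpowers ⟨1, by rw [hz, pow_one]⟩)
      (fun h => by rw [Subgroup.zpowers_eq_bot] at h; rw [h, orderOf_one] at hz; omega)
      ⟨S, fun s hs => LocalEven.zpowers_le_normalizer (hzc s hs)⟩
    have hfix : ∀ w ∈ W, w * z = z * w → w = 1 := by
      intro w hw hwz
      have hwN : w ∈ N := LocalEven.zpowers_le_normalizer hwz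
      have hle : W.subgroupOf N ≤ Subgroup.centralizer (Cfsg.pCore 2 ↥N : Set ↥N) := by
        intro a ha
        refine Subgroup.mem_centralizer_iff.2 fun b hb => ?_
        have hcop : (Nat.card ↥(W.subgroupOf N)).Coprime 2 :=
          (card_pPrimeCore_coprime 2 G).coprime_dvd_left (by
            rw [← Subgroup.card_map_of_injective N.subtype_injective, Subgroup.subgroupOf_map_subtype]
            exact Subgroup.card_dvd_of_le inf_le_left)
        refine Subgroup.commute_of_normal_of_disjoint _ _ inferInstance inferInstance ?_ b a hb ha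
        rw [disjoint_iff, inf_comm]
        exact coprime_inf_pGroup hcop (isPGroup_pCore 2 ↥N)
      obtain ⟨i, hi⟩ := isPGroup_pCore 2 ↥N ⟨⟨w, hwN⟩, hch (hle hw)⟩
      have hi' : w ^ 2 ^ i = 1 := congrArg (fun t : ↥(Cfsg.pCore 2 ↥N) => ((t : ↥N) : G)) hi
      have h1 := orderOf_dvd_natCard (⟨w, hw⟩ : ↥W)
      rw [Subgroup.orderOf_mk] at h1
      exact orderOf_eq_one_iff.1 (Nat.eq_one_of_dvd_coprimes
        ((card_pPrimeCore_coprime 2 G).symm.pow_left i) (orderOf_dvd_of_pow_eq_one hi') h1)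
    have hzz : z * z = 1 := by rw [← pow_two, ← hz, pow_orderOf_eq_one]
    obtain ⟨φ, hφ⟩ : ∃ φ : ↥W →* ↥W, ∀ w, (φ w : G) = z * w * z⁻¹ :=
      ⟨MonoidHom.mk' (fun w => ⟨z * w * z⁻¹, hN.conj_mem _ w.2 z⟩) fun a b => Subtype.ext (by
        show z * (a * b : G) * z⁻¹ = z * a * z⁻¹ * (z * b * z⁻¹)
        group), fun w => rfl⟩
    have hφf : MonoidHom.FixedPointFree φ := fun w hw => by
      refine Subtype.ext (hfix w w.2 ?_)
      have h := congrArg Subtype.val hw
      rw [hφ] at h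
      calc (w : G) * z = z * w * z⁻¹ * z := by rw [h]
        _ = z * w := by group
    have hφi : Function.Involutive φ := fun w => Subtype.ext (by
      rw [hφ, hφ]
      calc z * (z * (w : G) * z⁻¹) * z⁻¹ = (z * z) * w * (z * z)⁻¹ := by group
        _ = w := by rw [hzz, one_mul, inv_one, mul_one])
    intro w hw
    have h : φ ⟨w, hw⟩ = ⟨w, hw⟩⁻¹ := congrFun (hφf.coe_eq_inv_of_involutive hφi) _
    have h' := congrArg Subtype.val h
    rw [hφ] at h'
    exact h'
  have hSne : (S : Subgroup G) ≠ ⊥ := S.ne_bot_of_dvd_card h2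
  obtain ⟨z, hzS, hz, hzc⟩ :=
    LocalEven.exists_central_order S.isPGroup' le_rfl Subgroup.le_normalizer hSne
  obtain ⟨w0, hw0, hw01⟩ := W.ne_bot_iff_exists_ne_one.1 hW1 |> fun ⟨a, ha⟩ =>
    (⟨a.1, a.2, fun h => ha (Subtype.ext h)⟩ : ∃ w ∈ W, w ≠ 1)
  have hzinv := hcent z hzS hz hzc
  set C := Subgroup.centralizer (W : Set G) with hC
  haveI : C.Normal := normal_iff_cj.2 fun g => by rw [hC, cj_centralizer, cj_of_normal]
  -- the centralizer of `W` has odd order
  have hCS : (S : Subgroup G) ⊓ C = ⊥ := by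
    by_contra hne
    obtain ⟨y, hy, hy2, hyc⟩ := LocalEven.exists_central_order S.isPGroup'
      (inf_le_left : (S : Subgroup G) ⊓ C ≤ S) (fun s hs => mem_normalizer_of_cj_le (by
        rw [cj_inf, cj_of_normal C]
        exact inf_le_inf_right C (cj_eq_self_of_mem hs).le)) hne
    have h1 := hcent y hy.1 hy2 hyc w0 hw0
    rw [← Subgroup.mem_centralizer_iff.1 hy.2 w0 hw0, mul_inv_cancel_right] at h1
    exact hw01 (hodd w0 hw0 (by nth_rewrite 2 [h1]; exact mul_inv_cancel w0))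
  have hCW : C ≤ W := by
    refine le_pPrimeCore ((Nat.prime_two.coprime_iff_not_dvd.2 fun hd => ?_).symm)
    have hS' : SylIn 2 ((S : Subgroup G) ⊓ C) C :=
      (sylIn_top S).inf_normal le_top (fun g _ => by rw [Subgroup.normalizer_eq_top]; trivial)
    rw [hCS] at hS'
    refine hS'.not_dvd ?_
    rwa [Subgroup.relIndex_bot_left]
  have hzcen : (QuotientGroup.mk z : G ⧸ W) ∈ Subgroup.center (G ⧸ W) := by
    refine Subgroup.mem_center_iff.2 fun a => ?_
    obtain ⟨g, rfl⟩ := QuotientGroup.mk_surjective a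
    rw [← QuotientGroup.mk_mul, ← QuotientGroup.mk_mul, QuotientGroup.eq]
    refine hCW (Subgroup.mem_centralizer_iff.2 fun w hw => ?_)
    have hinv : ∀ v ∈ W, z⁻¹ * v * z = v⁻¹ := fun v hv => by
      calc z⁻¹ * v * z = z⁻¹ * (z * v⁻¹ * z⁻¹) * z := by rw [hzinv _ (inv_mem hv), inv_inv]
        _ = v⁻¹ := by group
    have h1 : (g * z)⁻¹ * (z * g) * w * ((g * z)⁻¹ * (z * g))⁻¹ = w := by
      calc (g * z)⁻¹ * (z * g) * w * ((g * z)⁻¹ * (z * g))⁻¹
          = z⁻¹ * (g⁻¹ * (z * (g * w * g⁻¹) * z⁻¹) * g) * z := by group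
        _ = z⁻¹ * (g⁻¹ * (g * w * g⁻¹)⁻¹ * g) * z := by rw [hzinv _ (hN.conj_mem w hw g)]
        _ = z⁻¹ * w⁻¹ * z := by group
        _ = w := by rw [hinv _ (inv_mem hw), inv_inv]
    exact (mul_inv_eq_iff_eq_mul.1 h1).symm
  rw [hZ, Subgroup.mem_bot, QuotientGroup.eq_one_iff] at hzcen
  have hzz : z * z = 1 := by rw [← pow_two, ← hz, pow_orderOf_eq_one]
  rw [hodd z hzcen hzz, orderOf_one] at hz
  omega

end Cfsg.Agent.S2898
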