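import Cfsg.Statements.S2907

set_option autoImplicit false
open Cfsg
open scoped commutatorElement

namespace Cfsg.Agent.S2907

theorem result {X : Type*} [Group X] [Finite X] {p : ℕ} [Fact p.Prime] (hX : Cfsg.IsSemiExtraspecial p X) (x : X) (hx : x ∉ Subgroup.center X) : (Subgroup.centralizer ({x} : Set X)).index = Nat.card ↥(Subgroup.center X) ∧ {z : X | ∃ y : X, z = x * y * x⁻¹ * y⁻¹} = (Subgroup.center X : Set X) := by
  classical
  obtain ⟨hsp, hY⟩ := hX
  have hcen : ∀ y : X, x * y * x⁻¹ * y⁻¹ ∈ Subgroup.center X := fun y => by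
    rw [← hsp.2.2, commutator_def, ← commutatorElement_def]
    exact Subgroup.commutator_mem_commutator trivial trivial
  let φ : X →* ↥(Subgroup.center X) := MonoidHom.mk' (fun y => ⟨_, hcen y⟩) (fun y z => Subtype.ext (by
    show x * (y * z) * x⁻¹ * (y * z)⁻¹ = (x * y * x⁻¹ * y⁻¹) * (x * z * x⁻¹ * z⁻¹)
    have h1 := Subgroup.mem_center_iff.1 (hcen z) y
    calc x * (y * z) * x⁻¹ * (y * z)⁻¹ = (x * y * x⁻¹ * y⁻¹) * (y * (x * z * x⁻¹ * z⁻¹)) * y⁻¹ := by group
      _ = (x * y * x⁻¹ * y⁻¹) * ((x * z * x⁻¹ * z⁻¹) * y) * y⁻¹ := by rw [h1]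
      _ = _ := by group))
  have hker : φ.ker = Subgroup.centralizer ({x} : Set X) := by
    ext y
    rw [MonoidHom.mem_ker, Subgroup.mem_centralizer_singleton_iff, Subtype.ext_iff]
    show x * y * x⁻¹ * y⁻¹ = 1 ↔ _
    rw [mul_inv_eq_one, mul_inv_eq_iff_eq_mul, eq_comm]
  have htop : φ.range = ⊤ := by
    rcases eq_top_or_exists_le_coatom φ.range with h | ⟨M, hM, hle⟩
    · exact h
    exfalso
    obtain ⟨hn, hex⟩ := hY (M.map (Subgroup.center X).subtype) (Subgroup.map_subtype_le M) (by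
      rwa [Subgroup.subgroupOf, Subgroup.comap_map_eq_self_of_injective (Subgroup.center X).subtype_injective])
    set Y := M.map (Subgroup.center X).subtype
    have h1 : QuotientGroup.mk' Y x ∈ Subgroup.center (X ⧸ Y) := by
      rw [Subgroup.mem_center_iff]
      intro q
      obtain ⟨y, rfl⟩ := QuotientGroup.mk'_surjective Y q
      rw [← map_mul, ← map_mul, eq_comm]
      refine QuotientGroup.eq.2 ?_
      have h2 : (x * y)⁻¹ * (x * y * x⁻¹ * y⁻¹)⁻¹ * (x * y) ∈ Y :=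
        hn.conj_mem' _ (inv_mem ⟨φ y, hle ⟨y, rfl⟩, rfl⟩) (x * y)
      have h3 : (x * y)⁻¹ * (y * x) = (x * y)⁻¹ * (x * y * x⁻¹ * y⁻¹)⁻¹ * (x * y) := by group
      rw [h3]
      exact h2
    rw [← hex.1.2.2, commutator_def, ← Subgroup.map_top_of_surjective _ (QuotientGroup.mk'_surjective Y),
      ← Subgroup.map_commutator, ← commutator_def, hsp.2.2] at h1
    obtain ⟨z, hz, hzx⟩ := h1
    apply hx
    have h4 := Subgroup.map_subtype_le M (QuotientGroup.eq.1 hzx)
    have := mul_mem hz h4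
    rwa [mul_inv_cancel_left] at this
  refine ⟨by rw [← hker, Subgroup.index_ker, htop, Nat.card_congr Subgroup.topEquiv.toEquiv], ?_⟩
  ext z
  constructor
  · rintro ⟨y, rfl⟩
    exact hcen y
  · intro hz
    obtain ⟨y, hy⟩ : (⟨z, hz⟩ : ↥(Subgroup.center X)) ∈ φ.range := htop ▸ Subgroup.mem_top _
    exact ⟨y, (congrArg Subtype.val hy).symm⟩

end Cfsg.Agent.S2907
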