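import Cfsg.Statements.S2908
import Cfsg.Agent.Lib.Solv.Coprime
import Cfsg.Agent.Lib.Fusion.NPC
-- import your own Cfsg.Agent.* helpers here

set_option autoImplicit false
open Cfsg

open Cfsg.Agent Cfsg.Agent.Fusion
open scoped commutatorElement

namespace Cfsg.Agent.S2908

/-- Let P be a p-subgroup of a finite group, normalized by a p-subgroup A and by a subgroup B of order prime to p that commutes elementwise with A. If [P, B] ≤ [P, A], then B centralizes P. -/
theorem result {G : Type*} [Group G] [Finite G] {p : ℕ} [Fact p.Prime] (P A B : Subgroup G) (hP : IsPGroup p ↥P) (hA : IsPGroup p ↥A) (hB : ¬ p ∣ Nat.card ↥B) (hnA : A ≤ Subgroup.normalizer (P : Set G)) (hnB : B ≤ Subgroup.normalizer (P : Set G)) (hAB : ⁅A, B⁆ = ⊥) (hcomm : ⁅P, B⁆ ≤ ⁅P, A⁆) : ⁅P, B⁆ = ⊥ := by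
  have hco : (Nat.card B).Coprime (Nat.card P) := by
    obtain ⟨k, hk⟩ := IsPGroup.iff_card.1 hP
    rw [hk]; exact ((Nat.Prime.coprime_iff_not_dvd Fact.out).2 hB).symm.pow_right k
  haveI : Group.IsNilpotent P := hP.isNilpotent
  have hsol : Group.IsSolvable B ∨ Group.IsSolvable P := Or.inr inferInstance
  set R := ⁅P, B⁆ with hR
  obtain ⟨hRP, hPR, hBR⟩ := Cfsg.Agent.Solv.commutator_normal_in hnB
  have hAB' : A ≤ Subgroup.centralizer (B : Set G) := Subgroup.commutator_eq_bot_iff_le_centralizer.1 hAB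
  have hAR : A ≤ Subgroup.normalizer (R : Set G) := fun a ha => by
    rw [mem_normalizer_iff_cj, hR, cj_commutator, cj_eq_self (hnA ha),
      cj_eq_self (Subgroup.centralizer_le_normalizer _ (hAB' ha))]
  set X := P ⊔ A
  have hXp : IsPGroup p X := hP.to_sup_of_normal_left' hA hnA
  have hXR : X ≤ Subgroup.normalizer (R : Set G) := sup_le hPR hAR
  set N := ⁅R, X⁆ with hN
  have hNR : N ≤ R := Subgroup.le_normalizer_iff_commutator_le_left.1 hXR
  have hPN : P ≤ Subgroup.normalizer (N : Set G) := fun x hx => by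
    rw [mem_normalizer_iff_cj, hN, cj_commutator, cj_eq_self (hPR hx),
      cj_eq_self_of_mem (Subgroup.mem_sup_left hx : x ∈ X)]
  have hgen : ∀ b ∈ B, ∀ c ∈ ⁅P, A⁆, ⁅b, c⁆ ∈ N := by
    intro b hb c hc
    have hle : ⁅P, A⁆ ≤ P := Subgroup.le_normalizer_iff_commutator_le_left.1 hnA
    rw [Subgroup.commutator_def] at hc
    induction hc using Subgroup.closure_induction with
    | mem c hc =>
      obtain ⟨x, hx, a, ha, rfl⟩ := hc
      set r := ⁅b, x⁆
      have hr : r ∈ R := by
        show ⁅b, x⁆ ∈ ⁅P, B⁆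
        rw [Subgroup.commutator_comm]; exact Subgroup.commutator_mem_commutator hb hx
      have hab : b * a = a * b := Subgroup.mem_centralizer_iff.1 (hAB' ha) b hb
      set c := ⁅x, a⁆
      have hbc : b * c * b⁻¹ = r * c * r⁻¹ * ⁅r, a⁆ := by
        have e1 : b * c * b⁻¹ = ⁅b * x * b⁻¹, a⁆ := by
          calc b * c * b⁻¹ = (b * x * b⁻¹) * (b * a * b⁻¹) * (b * x * b⁻¹)⁻¹ * (b * a * b⁻¹)⁻¹ := by
                simp only [c, commutatorElement_def]; group
            _ = ⁅b * x * b⁻¹, a⁆ := by rw [hab, mul_inv_cancel_right, commutatorElement_def]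
        rw [e1]; simp only [r, c, commutatorElement_def]; group
      rw [show ⁅b, c⁆ = ⁅r, c⁆ * (c * ⁅r, a⁆ * c⁻¹) by
        rw [commutatorElement_def b c, hbc]; simp only [commutatorElement_def]; group]
      have hcP : c ∈ P := hle (Subgroup.commutator_mem_commutator hx ha)
      exact mul_mem (Subgroup.commutator_mem_commutator hr (Subgroup.mem_sup_left hcP))
        ((Subgroup.mem_normalizer_iff.1 (hPN hcP) _).1
          (Subgroup.commutator_mem_commutator hr (Subgroup.mem_sup_right ha)))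
    | one => rw [commutatorElement_one_right]; exact one_mem _
    | mul c d hc hd h1 h2 =>
      rw [← Subgroup.commutator_def] at hc
      rw [show ⁅b, c * d⁆ = ⁅b, c⁆ * (c * ⁅b, d⁆ * c⁻¹) by simp only [commutatorElement_def]; group]
      exact mul_mem h1 ((Subgroup.mem_normalizer_iff.1 (hPN (hle hc)) _).1 h2)
    | inv c hc h1 =>
      rw [← Subgroup.commutator_def] at hc
      rw [show ⁅b, c⁻¹⁆ = c⁻¹ * ⁅b, c⁆⁻¹ * c⁻¹⁻¹ by simp only [commutatorElement_def]; group]
      exact (Subgroup.mem_normalizer_iff.1 (inv_mem (hPN (hle hc))) _).1 (inv_mem h1)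
  have hRN : R ≤ N := by
    refine (Cfsg.Agent.Solv.commutator_commutator_eq hnB hco hsol).ge.trans ?_
    rw [Subgroup.commutator_le]
    intro c hc b hb
    rw [← commutatorElement_inv]
    exact inv_mem (hgen b hb c (hcomm hc))
  by_contra hne
  exact not_le_commutator_pgroup hXp (hRP.trans le_sup_left) hne hRN

end Cfsg.Agent.S2908
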