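import Cfsg.Statements.S2909
import Cfsg.Agent.Lib.Solv.Generation
import Cfsg.Agent.Lib.Fusion.AB
import Cfsg.Agent.Lib.Fusion.Basic
import Cfsg.Agent.S2908

set_option autoImplicit false
open Cfsg
open scoped commutatorElement

namespace Cfsg.Agent.S2909

theorem result {G : Type*} [Group G] [Finite G] {p : ℕ} [Fact p.Prime] (E : Subgroup G) [E.Normal] (hE : IsPGroup p ↥E) (U : Subgroup G) (hU : Cfsg.IsElementaryAbelian p U) (hnc : ¬ IsCyclic ↥U) (hcond : (∀ u ∈ U, u ≠ 1 → E ⊓ Subgroup.centralizer (U : Set G) = E ⊓ Subgroup.centralizer ({u} : Set G)) ∨ (∀ u ∈ U, u ≠ 1 → ⁅E, U⁆ = ⁅E, Subgroup.zpowers u⁆)) (R : Subgroup G) (hR : ¬ p ∣ Nat.card ↥R) (hRU : U ≤ Subgroup.normalizer (R : Set G)) : ⁅R, U⁆ ≤ Subgroup.centralizer (E : Set G) := by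
  classical
  have hUp : IsPGroup p ↥U := fun u => ⟨1, Subtype.ext (by simpa using hU.2 u u.2)⟩
  have hco : (Nat.card ↥U).Coprime (Nat.card ↥R) := by
    obtain ⟨k, hk⟩ := IsPGroup.iff_card.1 hUp
    rw [hk]
    exact ((Fact.out : p.Prime).coprime_iff_not_dvd.2 hR).pow_left k
  have hEn : ∀ g : G, g ∈ Subgroup.normalizer (E : Set G) := fun g => by
    rw [Subgroup.normalizer_eq_top]; trivial
  have hEC : (Subgroup.centralizer (E : Set G)).Normal := Subgroup.normal_centralizer (H := E)
  have hUc : ∀ a ∈ U, ∀ b ∈ U, a * b = b * a := fun a ha b hb =>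
    congrArg Subtype.val (hU.1.is_comm.comm (⟨a, ha⟩ : ↥U) ⟨b, hb⟩)
  -- the basic commutators
  have key : ∀ u ∈ U, u ≠ 1 → ∀ a ∈ R, a * u = u * a → ∀ v ∈ U,
      ⁅a, v⁆ ∈ Subgroup.centralizer (E : Set G) := by
    intro u hu hu1 a ha hau v hv
    set c := ⁅a, v⁆ with hc
    have hcR : c ∈ R := by
      rw [hc, commutatorElement_def, show a * v * a⁻¹ * v⁻¹ = a * (v * a⁻¹ * v⁻¹) by group]
      exact mul_mem ha ((Subgroup.mem_normalizer_iff.1 (hRU hv) _).1 (inv_mem ha))
    have hcu : c * u = u * c := by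
      have h1 : Commute u a := hau.symm
      have h2 : Commute u v := hUc u hu v hv
      exact ((((h1.mul_right h2).mul_right h1.inv_right).mul_right h2.inv_right : Commute u (a * v * a⁻¹ * v⁻¹))).eq.symm
    have hTp : IsPGroup p ↥(Subgroup.zpowers u) := hUp.to_le (Subgroup.zpowers_le.2 hu)
    rcases hcond with hcond | hcond
    · refine Fusion.mem_centralizer_of_AB hE hTp (fun t _ => hEn t) (hEn c) ?_ ?_ ?_
      · rintro _ ⟨i, rfl⟩
        exact ((show Commute c u from hcu).zpow_right i).eq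
      · have h1 : orderOf c ∣ Nat.card ↥R := by
          rw [← Subgroup.orderOf_mk c hcR]; exact orderOf_dvd_natCard _
        exact ((Fact.out : p.Prime).coprime_iff_not_dvd.2 fun hd => hR (hd.trans h1)).symm
      · intro q hq hfix
        have hsame := hcond u hu hu1
        have hmem : ∀ x ∈ E, x * u = u * x → ∀ w ∈ U, x * w = w * x := by
          intro x hx hxu w hw
          have h3 : x ∈ E ⊓ Subgroup.centralizer (U : Set G) :=
            hsame.symm ▸ Subgroup.mem_inf.2 ⟨hx, Subgroup.mem_centralizer_singleton_iff.2 hxu⟩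
          exact (Subgroup.mem_centralizer_iff.1 (Subgroup.mem_inf.1 h3).2 w hw).symm
        have hqu := hfix u (Subgroup.mem_zpowers u)
        have hq' : a⁻¹ * q * a ∈ E := (Subgroup.mem_normalizer_iff''.1 (hEn a) q).1 hq
        have hq'u : a⁻¹ * q * a * u = u * (a⁻¹ * q * a) := by
          have h1 : Commute u a := hau.symm
          have h2 : Commute u q := hqu.symm
          exact ((h1.inv_right.mul_right h2).mul_right h1).eq.symm
        have hv1 := hmem q hq hqu v hv
        have hv2 := hmem _ hq' hq'u v hv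
        rw [hc, commutatorElement_def]
        have h4 : (a * v * a⁻¹) * q = q * (a * v * a⁻¹) := by
          calc (a * v * a⁻¹) * q = a * (v * (a⁻¹ * q * a)) * a⁻¹ := by group
            _ = a * (a⁻¹ * q * a * v) * a⁻¹ := by rw [hv2]
            _ = _ := by group
        exact ((show Commute (a * v * a⁻¹) q from h4).mul_left (show Commute v q from hv1.symm).inv_left).eq
    · set D := ⁅E, U⁆ with hD
      have hDu : D = ⁅E, Subgroup.zpowers u⁆ := hcond u hu hu1
      have hanD : a ∈ Subgroup.normalizer (D : Set G) := Fusion.mem_normalizer_iff_cj.2 (by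
        rw [hDu, Fusion.cj_commutator, Fusion.cj_eq_self (hEn a), Fusion.cj, MonoidHom.map_zpowers,
          show (MulAut.conj a).toMonoidHom u = u from mul_inv_eq_iff_eq_mul.2 hau])
      have htriv : ∀ w ∈ U, ∀ q ∈ E, w * q * w⁻¹ * q⁻¹ ∈ D := by
        intro w hw q hq
        have h1 := inv_mem (Subgroup.commutator_mem_commutator hq hw)
        rwa [commutatorElement_inv, commutatorElement_def] at h1
      have hcD : ∀ q ∈ E, c * q * c⁻¹ * q⁻¹ ∈ D := by
        intro q hq
        set d := v⁻¹ * q * v⁻¹⁻¹ * q⁻¹ with hd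
        have hdD : d ∈ D := htriv _ (inv_mem hv) q hq
        have h1 : ∀ x ∈ E, (a * v * a⁻¹) * x * (a * v * a⁻¹)⁻¹ * x⁻¹ ∈ D := by
          intro x hx
          have hx' : a⁻¹ * x * a ∈ E := (Subgroup.mem_normalizer_iff''.1 (hEn a) x).1 hx
          have := (Subgroup.mem_normalizer_iff.1 hanD _).1 (htriv v hv _ hx')
          convert this using 1
          group
        have h2 : c * q * c⁻¹ * q⁻¹ =
            ((a * v * a⁻¹) * d * (a * v * a⁻¹)⁻¹ * d⁻¹) * d *
              ((a * v * a⁻¹) * q * (a * v * a⁻¹)⁻¹ * q⁻¹) := by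
          rw [hc, hd, commutatorElement_def]; group
        rw [h2]
        exact mul_mem (mul_mem (h1 d (Subgroup.le_normalizer_iff_commutator_le_left.1
          (fun w _ => hEn w) hdD)) hdD) (h1 q hq)
      have hcE : ⁅E, Subgroup.zpowers c⁆ ≤ ⁅E, Subgroup.zpowers u⁆ := by
        rw [← hDu, Subgroup.commutator_le]
        have hDn : c ∈ Subgroup.normalizer (D : Set G) := by
          have hvD : v ∈ Subgroup.normalizer (D : Set G) :=
            Subgroup.normalizer_commutator_ge_right E U hv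
          rw [hc, commutatorElement_def]
          exact mul_mem (mul_mem (mul_mem hanD hvD) (inv_mem hanD)) (inv_mem hvD)
        intro q hq z hz
        have h1 : z ∈ Subgroup.normalizer (D : Set G) ∧ ∀ x ∈ E, z * x * z⁻¹ * x⁻¹ ∈ D := by
          rw [Subgroup.zpowers_eq_closure] at hz
          induction hz using Subgroup.closure_induction with
          | mem y hy => rw [Set.mem_singleton_iff.1 hy]; exact ⟨hDn, hcD⟩
          | one => exact ⟨one_mem _, fun x _ => by simp⟩
          | mul y w _ _ ihy ihw =>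
            refine ⟨mul_mem ihy.1 ihw.1, fun x hx => ?_⟩
            rw [show y * w * x * (y * w)⁻¹ * x⁻¹ = y * (w * x * w⁻¹ * x⁻¹) * y⁻¹ * (y * x * y⁻¹ * x⁻¹) by group]
            exact mul_mem ((Subgroup.mem_normalizer_iff.1 ihy.1 _).1 (ihw.2 x hx)) (ihy.2 x hx)
          | inv y _ ihy =>
            refine ⟨inv_mem ihy.1, fun x hx => ?_⟩
            rw [show y⁻¹ * x * y⁻¹⁻¹ * x⁻¹ = y⁻¹ * (y * x * y⁻¹ * x⁻¹)⁻¹ * y by group]
            exact (Subgroup.mem_normalizer_iff''.1 ihy.1 _).1 (inv_mem (ihy.2 x hx))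
        have h2 := inv_mem (h1.2 q hq)
        rwa [← commutatorElement_def, commutatorElement_inv] at h2
      have hB : ¬ p ∣ Nat.card ↥(Subgroup.zpowers c) := fun hd =>
        hR (hd.trans (Subgroup.card_dvd_of_le (Subgroup.zpowers_le.2 hcR)))
      have h0 : ⁅Subgroup.zpowers u, Subgroup.zpowers c⁆ = ⊥ := by
        rw [Subgroup.commutator_eq_bot_iff_le_centralizer, Subgroup.zpowers_le,
          Subgroup.mem_centralizer_iff]
        rintro _ ⟨i, rfl⟩
        exact ((show Commute c u from hcu).zpow_left i).eq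
      have h3 := S2908.result E (Subgroup.zpowers u) (Subgroup.zpowers c) hE hTp hB
        (fun t _ => hEn t) (fun t _ => hEn t) h0 hcE
      rw [Subgroup.commutator_eq_bot_iff_le_centralizer] at h3
      rw [Subgroup.mem_centralizer_iff]
      intro e he
      exact (Subgroup.mem_centralizer_iff.1 (h3 he) c (Subgroup.mem_zpowers c)).symm
  rw [Subgroup.commutator_le]
  intro a ha v hv
  rw [← Solv.gen_eq U R hU.1 hRU hco, iSup_subtype'] at ha
  refine Subgroup.iSup_induction (C := fun a => ⁅a, v⁆ ∈ Subgroup.centralizer (E : Set G)) _ ha ?_ ?_ ?_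
  · rintro ⟨B, hBU, b, hb, hgen⟩ x hx
    obtain ⟨hxR, hxB⟩ := Subgroup.mem_inf.1 hx
    rcases B.bot_or_exists_ne_one with rfl | ⟨u, hu, hu1⟩
    · rw [bot_sup_eq] at hgen
      exact absurd (hgen ▸ inferInstance) hnc
    · exact key u (hBU hu) hu1 x hxR (Subgroup.mem_centralizer_iff.1 hxB u hu).symm v hv
  · simp
  · intro x y hx hy
    rw [show ⁅x * y, v⁆ = x * ⁅y, v⁆ * x⁻¹ * ⁅x, v⁆ by simp only [commutatorElement_def]; group]
    exact mul_mem (hEC.conj_mem _ hy x) hx

end Cfsg.Agent.S2909
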