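import Cfsg.Statements.S2910
import Cfsg.Agent.Lib.Local.FS.OmegaChain
import Cfsg.Agent.Lib.Fusion.NPC
-- import your own Cfsg.Agent.* helpers here

set_option autoImplicit false
open Cfsg

open Cfsg.Agent Cfsg.Agent.Fusion

namespace Cfsg.Agent.S2910

/-- Let p be an odd prime dividing the order of the finite group G and P a Sylow p-subgroup of G. If Ω₁(P) (generated by the elements of order dividing p) is contained in the centre of G, then G has a normal p-complement. In particular, if G is quasisimple then Ω₁(P) is not central in G. -/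
theorem result {G : Type*} [Group G] [Finite G] {p : ℕ} [Fact p.Prime] (hp : p ≠ 2) (hdiv : p ∣ Nat.card G) (P : Sylow p G) (hZ : Cfsg.omegaOne p (P : Subgroup G) ≤ Subgroup.center G) : Cfsg.HasNormalPComplement p G ∧ ¬ Cfsg.IsQuasisimple G := by
  have hnpc : Cfsg.HasNormalPComplement p G := by
    refine hnpc_of_centralize (sylIn_top P) fun Q hQ g hg hgp => ?_
    let φ : ↥(Subgroup.normalizer (Q : Set G)) →* MulAut ↥Q := Q.normalizerMonoidHom
    have ho : (orderOf (φ ⟨g, hg⟩)).Coprime p :=
      hgp.coprime_dvd_left ((orderOf_map_dvd φ ⟨g, hg⟩).trans (by rw [Subgroup.orderOf_mk]))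
    have h1 := Local.FS.aut_eq_one_of_fix_order_p hp (P.isPGroup'.to_le hQ) (φ ⟨g, hg⟩) ho fun x hx => by
      have hxc : (x : G) ∈ Subgroup.center G := hZ (Subgroup.subset_closure
        ⟨hQ x.2, by simpa using congrArg Subtype.val hx⟩)
      refine Subtype.ext ?_
      show g * x * g⁻¹ = (x : G)
      rw [Subgroup.mem_center_iff.1 hxc g, mul_inv_cancel_right]
    refine Subgroup.mem_centralizer_iff.2 fun x hx => ?_
    have h2 := congrArg Subtype.val (DFunLike.congr_fun h1 ⟨x, hx⟩)
    have h3 : g * x * g⁻¹ = x := h2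
    exact (mul_inv_eq_iff_eq_mul.1 h3).symm
  refine ⟨hnpc, fun hqs => ?_⟩
  obtain ⟨Q, N, hN, hc⟩ := hnpc
  haveI := hN
  haveI := hqs.1
  have hcard : Nat.card (G ⧸ N) = Nat.card Q := by
    rw [← Subgroup.index_eq_card, ← hc.symm.index_eq_card]
  obtain ⟨k, hk⟩ := IsPGroup.iff_card.1 Q.isPGroup'
  haveI := (IsPGroup.of_card (G := G ⧸ N) (hcard.trans hk)).isNilpotent
  haveI : Nontrivial (G ⧸ N) := by
    rw [← Finite.one_lt_card_iff_nontrivial, hcard]
    exact Nat.lt_of_lt_of_le (Fact.out : p.Prime).one_lt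
      (Nat.le_of_dvd Nat.card_pos (Q.dvd_card_of_dvd_card hdiv))
  exact Group.IsPerfect.not_isSolvable (G := G ⧸ N) inferInstance

end Cfsg.Agent.S2910
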