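import Cfsg.Statements.S2911
import Mathlib
import Cfsg.Agent.S2872
import Cfsg.Agent.S3069
-- import your own Cfsg.Agent.* helpers here

set_option autoImplicit false
open Cfsg

open Cfsg.Agent Cfsg.Agent.Fusion
open scoped commutatorElement

namespace Cfsg.Agent.S2911

/-- The central facts about the model group. -/
theorem model :
    (∀ x : Multiplicative (ZMod 2) × DihedralGroup 4, (∀ y, x * y = y * x) → x * x = 1 ∧
      (x = 1 ∨ x = (Multiplicative.ofAdd 1, 1) ∨ x = (1, DihedralGroup.r 2) ∨
        x = (Multiplicative.ofAdd 1, DihedralGroup.r 2))) ∧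
    (∀ x y : Multiplicative (ZMod 2) × DihedralGroup 4,
      x * y * x⁻¹ * y⁻¹ = 1 ∨ x * y * x⁻¹ * y⁻¹ = (1, DihedralGroup.r 2)) ∧
    (∀ x : Multiplicative (ZMod 2) × DihedralGroup 4, x * x = 1 ∨ x * x = (1, DihedralGroup.r 2)) ∧
    (∀ y : Multiplicative (ZMod 2) × DihedralGroup 4, ((Multiplicative.ofAdd 1, 1) : Multiplicative (ZMod 2) × DihedralGroup 4) * y = y * (Multiplicative.ofAdd 1, 1)) := by
  refine ⟨?_, ?_, ?_, ?_⟩
  · decide
  · decide
  · decide
  · decide

/-- A finite group whose Sylow 2-subgroups are isomorphic to the direct product of a group of order 2 and a dihedral group of order 8 has a subgroup of index two. -/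
theorem result {G : Type*} [Group G] [Finite G] (S : Sylow 2 G) (hS : Nonempty (↥(S : Subgroup G) ≃* Multiplicative (ZMod 2) × DihedralGroup 4)) : ∃ H : Subgroup G, H.index = 2 := by
  classical
  obtain ⟨φ⟩ := hS
  obtain ⟨hcen, hcomm, hsq, hzcen⟩ := model
  set S0 : Subgroup G := (S : Subgroup G) with hS0
  suffices h : pResidual 2 G ≠ ⊤ by
    rw [Cfsg.Agent.S3069.pResidual_ne_top_iff_sylow S] at h
    obtain ⟨N, -, hN⟩ := exists_normal_index_prime (sylIn_top S) h
    exact ⟨N, hN⟩
  set z : S0 := φ.symm (Multiplicative.ofAdd 1, 1) with hz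
  set c : S0 := φ.symm (1, DihedralGroup.r 2) with hc
  have hc2 : c * c = 1 := φ.injective (by rw [map_mul, map_one, hc, φ.apply_symm_apply]; decide)
  have hzc : z ∈ Subgroup.center S0 := Subgroup.mem_center_iff.2 fun y => φ.injective (by
    rw [map_mul, map_mul, hz, φ.apply_symm_apply, hzcen])
  have hΦ : ∀ x ∈ frattini S0, x = 1 ∨ x = c := by
    set C := Subgroup.zpowers c
    have hmem : ∀ x : S0, φ x = 1 ∨ φ x = (1, DihedralGroup.r 2) → x ∈ C := fun x hx => by
      rcases hx with hx | hx
      · rw [show x = 1 from φ.injective (hx.trans φ.map_one.symm)]; exact one_mem _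
      · rw [show x = c from φ.injective (hx.trans (φ.apply_symm_apply _).symm)]
        exact Subgroup.mem_zpowers c
    haveI : C.Normal := ⟨fun x hx g => by
      have h1 : g * x * g⁻¹ * x⁻¹ ∈ C := hmem _ (by simpa only [map_mul, map_inv] using hcomm (φ g) (φ x))
      have := mul_mem h1 hx
      rwa [inv_mul_cancel_right] at this⟩
    have hle := Cfsg.Agent.Solv.frattini_le (p := 2) C
      (fun a b => hmem _ (by simpa only [commutatorElement_def, map_mul, map_inv] using hcomm (φ a) (φ b)))
      (fun a => hmem _ (by simpa only [sq, map_mul] using hsq (φ a)))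
    intro x hx
    obtain ⟨k, rfl⟩ := hle hx
    rcases Int.even_or_odd' k with ⟨j, rfl | rfl⟩
    · left
      show c ^ (2 * j) = 1
      rw [zpow_mul, show c ^ (2 : ℤ) = 1 by rw [zpow_two, hc2], one_zpow]
    · right
      show c ^ (2 * j + 1) = c
      rw [zpow_add, zpow_mul, show c ^ (2 : ℤ) = 1 by rw [zpow_two, hc2], one_zpow, one_mul, zpow_one]
  have hcne : c ≠ 1 := fun h => by
    have := congrArg φ h
    rw [hc, φ.apply_symm_apply, φ.map_one] at this
    revert this; decide
  have hcases : ∀ w ∈ S0 ⊓ Subgroup.centralizer (S0 : Set G), w * w = 1 ∧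
      (w = 1 ∨ w = z ∨ w = c ∨ w = (z : G) * c) := by
    rintro w ⟨hwS, hwC⟩
    obtain ⟨h1, h2⟩ := hcen (φ ⟨w, hwS⟩) (fun y => by
      rw [← φ.apply_symm_apply y, ← map_mul, ← map_mul]
      exact congrArg φ (Subtype.ext (Subgroup.mem_centralizer_iff.1 hwC _ (φ.symm y).2).symm))
    refine ⟨congrArg Subtype.val (φ.injective (a₁ := ⟨w, hwS⟩ * ⟨w, hwS⟩) (a₂ := 1) (by rw [map_mul, h1, map_one])), ?_⟩
    rcases h2 with h2 | h2 | h2 | h2
    · exact Or.inl (congrArg Subtype.val (φ.injective (a₁ := ⟨w, hwS⟩) (a₂ := 1) (h2.trans φ.map_one.symm)))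
    · exact Or.inr (Or.inl (congrArg Subtype.val (φ.injective (a₁ := ⟨w, hwS⟩) (h2.trans (φ.apply_symm_apply _).symm))))
    · exact Or.inr (Or.inr (Or.inl (congrArg Subtype.val (φ.injective (a₁ := ⟨w, hwS⟩) (h2.trans (φ.apply_symm_apply _).symm)))))
    · exact Or.inr (Or.inr (Or.inr (congrArg Subtype.val (φ.injective (a₁ := ⟨w, hwS⟩) (a₂ := z * c)
        (h2.trans (by rw [map_mul, hz, hc, φ.apply_symm_apply, φ.apply_symm_apply]; decide))))))
  rcases Cfsg.Agent.S2872.result S with h | h | ⟨g, hg, w, hw, hgw⟩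
  · exact h
  · exfalso
    have hzmem : (z : G) ∈ Cfsg.omegaOne 2 (S0 ⊓ Subgroup.centralizer (S0 : Set G)) := by
      have hz' : (z : G) ∈ S0 ⊓ Subgroup.centralizer (S0 : Set G) := ⟨z.2, Subgroup.mem_centralizer_iff.2
        fun y hy => congrArg Subtype.val (Subgroup.mem_center_iff.1 hzc ⟨y, hy⟩)⟩
      exact Subgroup.subset_closure ⟨hz', by rw [sq]; exact (hcases _ hz').1⟩
    obtain ⟨x, hx, hxe⟩ := h hzmem
    have hxz : φ x = (Multiplicative.ofAdd 1, 1) := by
      rw [show x = z from Subtype.ext hxe, hz, φ.apply_symm_apply]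
    rcases hΦ x hx with rfl | rfl
    · rw [φ.map_one] at hxz; revert hxz; decide
    · rw [hc, φ.apply_symm_apply] at hxz; revert hxz; decide
  · exfalso
    refine hgw ?_
    set Z := S0 ⊓ Subgroup.centralizer (S0 : Set G)
    have hwZ : w ∈ Z := (Subgroup.closure_le _).2 (fun x hx => hx.1) hw
    have hgZ : ∀ g ∈ Subgroup.normalizer (S0 : Set G), ∀ x ∈ Z, g * x * g⁻¹ ∈ Z := by
      rintro g hg x ⟨hx, hxC⟩
      refine ⟨(Subgroup.mem_normalizer_iff.1 hg x).1 hx, Subgroup.mem_centralizer_iff.2 fun y hy => ?_⟩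
      have hy' := (Subgroup.mem_normalizer_iff.1 (inv_mem hg) y).1 hy
      rw [inv_inv] at hy'
      have := Subgroup.mem_centralizer_iff.1 hxC _ hy'
      calc y * (g * x * g⁻¹) = g * ((g⁻¹ * y * g) * x) * g⁻¹ := by group
        _ = g * (x * (g⁻¹ * y * g)) * g⁻¹ := by rw [this]
        _ = g * x * g⁻¹ * y := by group
    have hgc : ∀ g ∈ Subgroup.normalizer (S0 : Set G), g * (c : G) * g⁻¹ = c := by
      intro g hg
      have hcΦ : c ∈ frattini S0 := by
        have h := Cfsg.Agent.Solv.pow_mem_frattini (p := 2) S.isPGroup' (φ.symm (1, DihedralGroup.r 1))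
        rwa [← map_pow, show ((1, DihedralGroup.r 1) : Multiplicative (ZMod 2) × DihedralGroup 4) ^ 2 = (1, DihedralGroup.r 2) by decide, ← hc] at h
      let e : S0 ≃* S0 :=
        { toFun := fun y => ⟨g * y * g⁻¹, (Subgroup.mem_normalizer_iff.1 hg _).1 y.2⟩
          invFun := fun y => ⟨g⁻¹ * y * g, by simpa using (Subgroup.mem_normalizer_iff.1 (inv_mem hg) _).1 y.2⟩
          left_inv := fun y => Subtype.ext (by simp [mul_assoc])
          right_inv := fun y => Subtype.ext (by simp [mul_assoc])
          map_mul' := fun a b => Subtype.ext (by simp [mul_assoc]) }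
      have he : e c ∈ frattini S0 := (Subgroup.characteristic_iff_map_le.1 inferInstance e) ⟨c, hcΦ, rfl⟩
      rcases hΦ _ he with h | h
      · exact absurd (e.injective (h.trans e.map_one.symm)) hcne
      · exact congrArg Subtype.val h
    have hg2 : ∀ g ∈ Subgroup.normalizer (S0 : Set G), g * (z : G) * g⁻¹ = z ∨ g * (z : G) * g⁻¹ = (z : G) * c := by
      intro g hg
      have hz' : (z : G) ∈ Z := ⟨z.2, Subgroup.mem_centralizer_iff.2
        fun y hy => congrArg Subtype.val (Subgroup.mem_center_iff.1 hzc ⟨y, hy⟩)⟩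
      rcases (hcases _ (hgZ g hg _ hz')).2 with h | h | h | h
      · exfalso
        rw [conj_eq_one_iff] at h
        have : φ z = φ 1 := congrArg φ (Subtype.ext h)
        rw [hz, φ.apply_symm_apply, φ.map_one] at this; revert this; decide
      · exact Or.inl h
      · exfalso
        have h' : (z : G) = c := by
          rw [← hgc g hg] at h
          exact mul_left_cancel (mul_right_cancel h)
        have : φ z = φ c := congrArg φ (Subtype.ext h')
        rw [hz, hc, φ.apply_symm_apply, φ.apply_symm_apply] at this; revert this; decide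
      · exact Or.inr h
    have hfix : g * (z : G) * g⁻¹ = z := by
      -- split `g` into its parts
      obtain ⟨a, m, hm, hgm⟩ := Nat.exists_eq_pow_mul_and_not_dvd (orderOf_pos g).ne' 2 (by norm_num)
      have hoddm : Odd m := Nat.odd_iff.2 (Nat.two_dvd_ne_zero.1 hm)
      have h1 : g ^ m ∈ S0 := by
        have hp : IsPGroup 2 (Subgroup.zpowers (g ^ m)) := by
          refine IsPGroup.of_card (n := a) ?_
          rw [Nat.card_zpowers, orderOf_pow_of_dvd (by rintro rfl; simp at hm) (hgm ▸ dvd_mul_left _ _), hgm,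
            Nat.mul_div_cancel _ hoddm.pos]
        have hsup : IsPGroup 2 (S0 ⊔ Subgroup.zpowers (g ^ m) : Subgroup G) :=
          S.isPGroup'.to_sup_of_normal_left' hp (Subgroup.zpowers_le.2 (pow_mem hg m))
        rw [show S0 = S0 ⊔ Subgroup.zpowers (g ^ m) from (S.3 hsup le_sup_left).symm]
        exact Subgroup.mem_sup_right (Subgroup.mem_zpowers _)
      rcases hg2 g hg with h | h
      · exact h
      · exfalso
        have hiter : ∀ i : ℕ, g ^ i * (z : G) * (g ^ i)⁻¹ = if Even i then (z : G) else (z : G) * c := by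
          intro i
          induction i with
          | zero => simp
          | succ i ih =>
            rw [pow_succ', show g * g ^ i * (z : G) * (g * g ^ i)⁻¹ = g * (g ^ i * z * (g ^ i)⁻¹) * g⁻¹ by group, ih]
            by_cases hi : Even i
            · rw [if_pos hi, if_neg (by simp [Nat.even_add_one, hi]), h]
            · rw [if_neg hi, if_pos (by simp [Nat.even_add_one, hi]),
                show g * ((z : G) * c) * g⁻¹ = (g * z * g⁻¹) * (g * c * g⁻¹) by group, h, hgc g hg, mul_assoc,
                ← Subgroup.coe_mul, hc2, Subgroup.coe_one, mul_one]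
        have h3 := hiter m
        rw [if_neg (Nat.not_even_iff_odd.2 hoddm)] at h3
        have h4 : g ^ m * (z : G) * (g ^ m)⁻¹ = z := by
          rw [mul_inv_eq_iff_eq_mul]
          exact congrArg Subtype.val (Subgroup.mem_center_iff.1 hzc ⟨_, h1⟩)
        exact hcne (Subtype.ext (by simpa using h4.symm.trans h3))
    rcases (hcases w hwZ).2 with rfl | rfl | rfl | rfl
    · simp
    · exact hfix
    · exact hgc g hg
    · rw [show g * ((z : G) * c) * g⁻¹ = (g * z * g⁻¹) * (g * c * g⁻¹) by group, hfix, hgc g hg]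

end Cfsg.Agent.S2911
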