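import Cfsg.Statements.S2912
import Cfsg.Agent.Lib.Solv.Extraspecial

set_option autoImplicit false
open Cfsg
set_option maxHeartbeats 800000

namespace Cfsg.Agent.S2912

theorem result {G : Type*} [Group G] [Finite G] {p r : ℕ} [Fact p.Prime] [hr : Fact r.Prime] (hpr : p ≠ r) (E A : Subgroup G) (w : ℕ) (hE : Cfsg.IsExtraspecial p ↥E) (hEcard : Nat.card ↥E = p ^ (2 * w + 1)) (hA : Cfsg.IsElementaryAbelian r A) (hnorm : E ≤ Subgroup.normalizer (A : Set G)) (hfaith : E ⊓ Subgroup.centralizer (A : Set G) = ⊥) (n : ℕ) (hn : 1 ≤ n) (hdiv : p ∣ r ^ n - 1) (hmin : ∀ k : ℕ, 1 ≤ k → p ∣ r ^ k - 1 → n ≤ k) : r ^ (n * p ^ w) ≤ Nat.card ↥A := by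
  classical
  have hpp : p.Prime := Fact.out
  have hrp : r.Prime := Fact.out
  obtain ⟨⟨-, -, hcomm⟩, hZcard⟩ := hE
  -- the centre
  obtain ⟨z, hz⟩ := exists_prime_orderOf_dvd_card' (G := ↥(Subgroup.center ↥E)) p hZcard.symm.dvd
  set zE : ↥E := (z : ↥E) with hzE
  have hzord : orderOf zE = p := (Subgroup.orderOf_coe z).trans hz
  have hzc : ∀ e : ↥E, e * zE = zE * e := fun e => Subgroup.mem_center_iff.1 z.2 e
  have hzgen : ∀ c ∈ Subgroup.center ↥E, ∃ k : ℕ, c = zE ^ k := by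
    intro c hc
    have h1 : Subgroup.zpowers zE = Subgroup.center ↥E :=
      Subgroup.eq_of_le_of_card_ge (Subgroup.zpowers_le.2 z.2) (by rw [hZcard, Nat.card_zpowers, hzord])
    rw [← h1, mem_zpowers_iff_mem_range_orderOf, Finset.mem_image] at hc
    obtain ⟨k, -, hk⟩ := hc
    exact ⟨k, hk.symm⟩
  have hz1 : zE ≠ 1 := fun h => hpp.ne_one (by rw [← hzord, h, orderOf_one])
  -- the action
  have hAc : ∀ a ∈ A, ∀ b ∈ A, a * b = b * a := fun a ha b hb =>
    congrArg Subtype.val (hA.1.is_comm.comm ⟨a, ha⟩ ⟨b, hb⟩)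
  obtain ⟨B, hB⟩ : ∃ B : Subgroup G, ∀ b, b ∈ B ↔ ∃ a ∈ A, b = (zE : G) * a * (zE : G)⁻¹ * a⁻¹ := by
    let f : ↥A →* G := MonoidHom.mk' (fun a => (zE : G) * a * (zE : G)⁻¹ * (a : G)⁻¹) fun a b => by
      have h1 : (zE : G) * b * (zE : G)⁻¹ * (b : G)⁻¹ ∈ A :=
        mul_mem ((Subgroup.mem_normalizer_iff.1 (hnorm zE.2) _).1 b.2) (inv_mem b.2)
      show (zE : G) * (a * b : ↥A) * (zE : G)⁻¹ * ((a * b : ↥A) : G)⁻¹ = _
      rw [Subgroup.coe_mul]
      calc (zE : G) * ((a : G) * b) * (zE : G)⁻¹ * ((a : G) * b)⁻¹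
          = (zE : G) * a * (zE : G)⁻¹ * (((zE : G) * b * (zE : G)⁻¹ * (b : G)⁻¹) * (a : G)⁻¹) := by group
        _ = (zE : G) * a * (zE : G)⁻¹ * ((a : G)⁻¹ * ((zE : G) * b * (zE : G)⁻¹ * (b : G)⁻¹)) := by
            rw [hAc _ h1 _ (inv_mem a.2)]
        _ = _ := by group
    exact ⟨f.range, fun b => ⟨fun ⟨a, ha⟩ => ⟨a, a.2, ha.symm⟩, fun ⟨a, ha, hb⟩ => ⟨⟨a, ha⟩, hb.symm⟩⟩⟩
  have hBA : B ≤ A := fun b hb => by
    obtain ⟨a, ha, rfl⟩ := (hB b).1 hb
    exact mul_mem ((Subgroup.mem_normalizer_iff.1 (hnorm zE.2) _).1 ha) (inv_mem ha)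
  have hBfix : ∀ b ∈ B, (zE : G) * b * (zE : G)⁻¹ = b → b = 1 := by
    intro b hb hfix
    obtain ⟨a, ha, hba⟩ := (hB b).1 hb
    have hk : ∀ k : ℕ, (zE : G) ^ k * a * ((zE : G) ^ k)⁻¹ = b ^ k * a := by
      intro k
      induction k with
      | zero => simp
      | succ k ih =>
        calc (zE : G) ^ (k + 1) * a * ((zE : G) ^ (k + 1))⁻¹
            = (zE : G) * ((zE : G) ^ k * a * ((zE : G) ^ k)⁻¹) * (zE : G)⁻¹ := by rw [pow_succ']; group
          _ = ((zE : G) * b * (zE : G)⁻¹) ^ k * ((zE : G) * a * (zE : G)⁻¹) := by rw [ih, conj_pow]; group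
          _ = b ^ k * (b * a) := by rw [hfix, hba]; group
          _ = _ := by rw [pow_succ]; group
    have h1 := hk p
    rw [show (zE : G) ^ p = 1 by rw [← hzord, ← SubmonoidClass.coe_pow, pow_orderOf_eq_one]; rfl] at h1
    rw [one_mul, inv_one, mul_one, eq_comm, mul_eq_right] at h1
    rw [← orderOf_eq_one_iff]
    exact Nat.eq_one_of_dvd_coprimes ((Nat.coprime_primes hpp hrp).2 hpr) (orderOf_dvd_of_pow_eq_one h1)
      (orderOf_dvd_of_pow_eq_one (hA.2 b (hBA hb)))
  have hB1 : B ≠ ⊥ := by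
    intro h
    apply hz1
    have hzA : (zE : G) ∈ E ⊓ Subgroup.centralizer (A : Set G) :=
      Subgroup.mem_inf.2 ⟨zE.2, Subgroup.mem_centralizer_iff.2 fun a ha => by
        have h1 : (zE : G) * a * (zE : G)⁻¹ * a⁻¹ = 1 := Subgroup.mem_bot.1 (h ▸ (hB _).2 ⟨a, ha, rfl⟩)
        exact (mul_inv_eq_iff_eq_mul.1 (mul_inv_eq_one.1 h1)).symm⟩
    rw [hfaith, Subgroup.mem_bot] at hzA
    exact Subtype.ext hzA
  have hBn : E ≤ Subgroup.normalizer (B : Set G) := by
    have hle : ∀ g ∈ E, ∀ b ∈ B, g * b * g⁻¹ ∈ B := by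
      intro g hg b hb
      obtain ⟨a, ha, rfl⟩ := (hB b).1 hb
      refine (hB _).2 ⟨g * a * g⁻¹, (Subgroup.mem_normalizer_iff.1 (hnorm hg) _).1 ha, ?_⟩
      have hgz : g * (zE : G) = (zE : G) * g := congrArg Subtype.val (hzc ⟨g, hg⟩)
      have hgz' : (zE : G)⁻¹ * g⁻¹ = g⁻¹ * (zE : G)⁻¹ := by rw [← mul_inv_rev, hgz, mul_inv_rev]
      calc g * ((zE : G) * a * (zE : G)⁻¹ * a⁻¹) * g⁻¹
          = (g * (zE : G)) * a * ((zE : G)⁻¹ * a⁻¹ * g⁻¹) := by group
        _ = (zE : G) * g * a * ((g⁻¹ * g) * (zE : G)⁻¹ * a⁻¹ * g⁻¹) := by rw [hgz]; group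
        _ = (zE : G) * g * a * (g⁻¹ * (g * (zE : G)⁻¹) * a⁻¹ * g⁻¹) := by group
        _ = (zE : G) * g * a * (g⁻¹ * ((zE : G)⁻¹ * g) * a⁻¹ * g⁻¹) := by
            rw [(show Commute g (zE : G) from hgz).inv_right.eq]
        _ = _ := by group
    intro g hg
    refine Subgroup.mem_normalizer_iff.2 fun b => ⟨hle g hg b, fun hb => ?_⟩
    have := hle g⁻¹ (inv_mem hg) _ hb
    simpa [mul_assoc] using this
  obtain ⟨W, hWB, hW⟩ := Finite.exists_le_minimal
    (p := fun W : Subgroup G => W ≠ ⊥ ∧ W ≤ B ∧ E ≤ Subgroup.normalizer (W : Set G)) (a := B)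
    ⟨hB1, le_rfl, hBn⟩
  obtain ⟨hW1, -, hWn⟩ := hW.1
  letI : CommGroup ↥W :=
    { (inferInstance : Group ↥W) with mul_comm := fun a b => Subtype.ext (hAc _ (hBA (hWB a.2)) _ (hBA (hWB b.2))) }
  let σ : ↥E →* AddMonoid.End (Additive ↥W) :=
    { toFun := fun e => MonoidHom.toAdditive ((W.normalizerMonoidHom ⟨(e : G), hWn e.2⟩ : MulAut ↥W).toMonoidHom)
      map_one' := by
        refine AddMonoidHom.ext fun x => Additive.toMul.injective (Subtype.ext ?_)
        show (((1 : ↥E) : G)) * ((Additive.toMul x : ↥W) : G) * (((1 : ↥E) : G))⁻¹ = ((Additive.toMul x : ↥W) : G)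
        simp
      map_mul' := fun a b => by
        refine AddMonoidHom.ext fun x => Additive.toMul.injective (Subtype.ext ?_)
        show (((a * b : ↥E) : G)) * ((Additive.toMul x : ↥W) : G) * (((a * b : ↥E) : G))⁻¹ =
          (a : G) * ((b : G) * ((Additive.toMul x : ↥W) : G) * (b : G)⁻¹) * (a : G)⁻¹
        simp [mul_assoc] }
  have hσ : ∀ (e : ↥E) (x : Additive ↥W), ((Additive.toMul (σ e x) : ↥W) : G) = (e : G) * ((Additive.toMul x : ↥W) : G) * (e : G)⁻¹ :=
    fun e x => rfl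
  have hcentral : ∀ c ∈ Subring.closure ({σ zE} : Set (AddMonoid.End (Additive ↥W))), ∀ e : ↥E, Commute c (σ e) := by
    intro c hc e
    induction hc using Subring.closure_induction with
    | mem x hx => rw [Set.mem_singleton_iff.1 hx]; exact (show σ zE * σ e = σ e * σ zE by rw [← map_mul, ← map_mul, hzc e])
    | zero => exact Commute.zero_left _
    | one => exact Commute.one_left _
    | add x y _ _ hx hy => exact hx.add_left hy
    | neg x _ hx => exact hx.neg_left
    | mul x y _ _ hx hy => exact hx.mul_left hy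
  have hinj : ∀ c ∈ Subring.closure ({σ zE} : Set (AddMonoid.End (Additive ↥W))), c ≠ 0 → ∀ x, c x = 0 → x = 0 := by
    intro c hc hc0
    let T : Subgroup G :=
      { carrier := {g | ∃ hg : g ∈ W, c (Additive.ofMul ⟨g, hg⟩) = 0}
        one_mem' := ⟨one_mem W, map_zero c⟩
        mul_mem' := by
          rintro a b ⟨ha, ha'⟩ ⟨hb, hb'⟩
          refine ⟨mul_mem ha hb, ?_⟩
          rw [show (Additive.ofMul (⟨a * b, mul_mem ha hb⟩ : ↥W)) = Additive.ofMul ⟨a, ha⟩ + Additive.ofMul ⟨b, hb⟩ from rfl,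
            map_add, ha', hb', add_zero]
        inv_mem' := by
          rintro a ⟨ha, ha'⟩
          refine ⟨inv_mem ha, ?_⟩
          rw [show (Additive.ofMul (⟨a⁻¹, inv_mem ha⟩ : ↥W)) = - Additive.ofMul ⟨a, ha⟩ from rfl,
            map_neg, ha', neg_zero] }
    have hTW : T ≤ W := fun g hg => hg.1
    have hle : ∀ g ∈ E, ∀ b ∈ T, g * b * g⁻¹ ∈ T := by
      rintro g hg b ⟨hb, hb'⟩
      refine ⟨(Subgroup.mem_normalizer_iff.1 (hWn hg) b).1 hb, ?_⟩
      have h1 := DFunLike.congr_fun (hcentral c hc ⟨g, hg⟩).eq (Additive.ofMul ⟨b, hb⟩)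
      rw [AddMonoid.End.coe_mul, AddMonoid.End.coe_mul, Function.comp_apply, Function.comp_apply, hb', map_zero] at h1
      rw [← h1]
      rfl
    have hTn : E ≤ Subgroup.normalizer (T : Set G) := by
      intro g hg
      refine Subgroup.mem_normalizer_iff.2 fun b => ⟨hle g hg b, fun hb => ?_⟩
      have := hle g⁻¹ (inv_mem hg) _ hb
      simpa [mul_assoc] using this
    by_cases hT : T = ⊥
    · intro x hx
      have : ((Additive.toMul x : ↥W) : G) ∈ T := ⟨SetLike.coe_mem _, hx⟩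
      rw [hT, Subgroup.mem_bot] at this
      exact Additive.toMul.injective (Subtype.ext this)
    · exfalso
      refine hc0 (AddMonoidHom.ext fun x => ?_)
      have := hW.2 ⟨hT, hTW.trans hWB, hTn⟩ hTW (Additive.toMul x).2
      exact this.2
  obtain ⟨K, hK⟩ : ∃ K, K = Subring.closure ({σ zE} : Set (AddMonoid.End (Additive ↥W))) := ⟨_, rfl⟩
  have hθK : σ zE ∈ K := hK ▸ Subring.subset_closure rfl
  haveI : Nontrivial ↥W := (Subgroup.nontrivial_iff_ne_bot W).2 hW1
  haveI : Finite (AddMonoid.End (Additive ↥W)) := Finite.of_injective (fun f => (f : Additive ↥W → Additive ↥W)) DFunLike.coe_injective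
  letI : CommRing ↥K :=
    { (inferInstance : Ring ↥K) with
      mul_comm := by
        subst hK
        rintro ⟨a, ha⟩ ⟨b, hb⟩
        apply Subtype.ext
        show a * b = b * a
        induction ha using Subring.closure_induction with
        | mem x hx => rw [Set.mem_singleton_iff.1 hx]; exact (hcentral b hb zE).symm.eq
        | zero => simp
        | one => simp
        | add x y _ _ hx hy => exact ((show Commute x b from hx).add_left hy).eq
        | neg x _ hx => exact ((show Commute x b from hx).neg_left).eq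
        | mul x y _ _ hx hy => exact ((show Commute x b from hx).mul_left hy).eq }
  haveI : Nontrivial ↥K := ⟨0, 1, fun h => by
    obtain ⟨x, hx⟩ := exists_ne (0 : Additive ↥W)
    exact hx (DFunLike.congr_fun (congrArg Subtype.val h) x).symm⟩
  haveI : NoZeroDivisors ↥K := ⟨fun {a b} hab => by
    by_contra hno
    push Not at hno
    refine hno.2 (Subtype.ext (AddMonoidHom.ext fun x => ?_))
    exact hinj a.1 (hK ▸ a.2) (fun h => hno.1 (Subtype.ext h)) _ (DFunLike.congr_fun (congrArg Subtype.val hab) x)⟩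
  haveI : IsDomain ↥K := NoZeroDivisors.to_isDomain _
  haveI : Fintype ↥K := Fintype.ofFinite _
  letI : Field ↥K := Fintype.fieldOfDomain ↥K
  let ρ : ↥E →* Module.End ↥K (Additive ↥W) :=
    { toFun := fun e =>
        { toFun := σ e
          map_add' := map_add _
          map_smul' := fun c x => (DFunLike.congr_fun (hcentral c.1 (hK ▸ c.2) e).eq x).symm }
      map_one' := by ext x; simp
      map_mul' := fun a b => by ext x; simp; rfl }
  let θ : ↥K := ⟨σ zE, hθK⟩
  have hρz : ∀ x, ρ zE x = θ • x := fun x => rfl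
  have hθ1 : θ ≠ 1 := by
    intro h
    obtain ⟨w0, hw0⟩ := exists_ne (1 : ↥W)
    refine hw0 (Subtype.ext (hBfix _ (hWB w0.2) ?_))
    have h1 := DFunLike.congr_fun (congrArg Subtype.val h) (Additive.ofMul w0)
    exact congrArg (fun y => ((Additive.toMul y : ↥W) : G)) h1
  have hθp : θ ^ p = 1 := by
    apply Subtype.ext
    show (σ zE) ^ p = 1
    rw [← map_pow, ← hzord, pow_orderOf_eq_one, map_one]
  have hr0 : ((r : ℕ) : ↥K) = 0 := by
    obtain ⟨x, hx⟩ := exists_ne (0 : Additive ↥W)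
    have h1 : ((r : ℕ) : ↥K) • x = 0 := by
      rw [Nat.cast_smul_eq_nsmul]
      exact Additive.toMul.injective (Subtype.ext (hA.2 _ (hBA (hWB (Additive.toMul x).2))))
    exact (smul_eq_zero.1 h1).resolve_right hx
  haveI : CharP ↥K r := (CharP.charP_iff_prime_eq_zero hrp).2 hr0
  obtain ⟨f, -, hf⟩ := FiniteField.card ↥K r
  have hnf : n ≤ (f : ℕ) := by
    refine hmin f f.2 ?_
    rw [← hf, ← Fintype.card_units]
    have hθ0 : θ ≠ 0 := fun h => hθ1 (by rw [h, zero_pow hpp.ne_zero] at hθp; exact absurd hθp zero_ne_one)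
    have : orderOf (Units.mk0 θ hθ0) = p :=
      orderOf_eq_prime (Units.ext (by rw [Units.val_pow_eq_pow_val]; exact hθp)) (fun h => hθ1 (congrArg Units.val h))
    exact this ▸ orderOf_dvd_card
  have hp0 : ((Nat.card ↥E : ℕ) : ↥K) ≠ 0 := by
    rw [hEcard, Nat.cast_pow]
    refine pow_ne_zero _ fun h => hpr ?_
    exact ((Nat.prime_dvd_prime_iff_eq hrp hpp).1 ((CharP.cast_eq_zero_iff ↥K r p).1 h)).symm
  haveI : Fintype ↥E := Fintype.ofFinite _
  have hsum : ∀ x : ↥E, (∑ g : ↥E, ρ g * ρ x * ρ g⁻¹) =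
      if x ∈ Subgroup.center ↥E then ((Nat.card ↥E : ℕ) : ↥K) • ρ x else 0 := by
    intro x
    split_ifs with hx
    · rw [Finset.sum_congr rfl (fun g _ => by
        rw [← map_mul, ← map_mul, Subgroup.mem_center_iff.1 hx g, mul_inv_cancel_right]),
        Finset.sum_const, Finset.card_univ, Nat.cast_smul_eq_nsmul, Nat.card_eq_fintype_card]
    · obtain ⟨g0, hg0⟩ : ∃ g0 : ↥E, g0 * x ≠ x * g0 := by
        by_contra hno
        push Not at hno
        exact hx (Subgroup.mem_center_iff.2 hno)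
      have hcm : g0 * x * g0⁻¹ * x⁻¹ ∈ Subgroup.center ↥E :=
        hcomm ▸ Subgroup.commutator_mem_commutator (Subgroup.mem_top g0) (Subgroup.mem_top x)
      obtain ⟨k, hk⟩ := hzgen _ hcm
      obtain ⟨S, hS⟩ : ∃ S, S = ∑ g : ↥E, ρ g * ρ x * ρ g⁻¹ := ⟨_, rfl⟩
      rw [← hS]
      have h1 : S = (θ ^ k) • S := by
        conv_lhs => rw [hS, ← Equiv.sum_comp (Equiv.mulRight g0)]
        rw [hS, Finset.smul_sum]
        refine Finset.sum_congr rfl fun g _ => ?_
        show ρ (g * g0) * ρ x * ρ (g * g0)⁻¹ = _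
        have hzk : ∀ y, ρ (zE ^ k) y = θ ^ k • y := by
          intro y
          show σ (zE ^ k) y = _
          rw [map_pow]
          rfl
        rw [← map_mul, ← map_mul, ← map_mul, ← map_mul,
          show g * g0 * x * (g * g0)⁻¹ = g * (g0 * x * g0⁻¹ * x⁻¹) * (x * g⁻¹) by group, hk,
          Subgroup.mem_center_iff.1 (pow_mem z.2 k) g]
        refine LinearMap.ext fun y => ?_
        rw [LinearMap.smul_apply, ← hzk, show zE ^ k * g * (x * g⁻¹) = zE ^ k * (g * x * g⁻¹) by group,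
          map_mul]
        rfl
      have hθk : θ ^ k ≠ 1 := by
        intro h
        apply hg0
        have h2 : orderOf θ = p := orderOf_eq_prime hθp hθ1
        have h3 : zE ^ k = 1 := orderOf_dvd_iff_pow_eq_one.1 (by rw [hzord, ← h2]; exact orderOf_dvd_of_pow_eq_one h)
        rw [h3, mul_inv_eq_one, mul_inv_eq_iff_eq_mul] at hk
        exact hk
      have h4 : (θ ^ k - 1) • S = 0 := (sub_smul (θ ^ k) 1 S).trans (by rw [one_smul, ← h1, sub_self])
      exact (smul_eq_zero.1 h4).resolve_left (sub_ne_zero.2 hθk)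
  have hind : LinearIndependent ↥K fun a : ↥E ⧸ Subgroup.center ↥E => ρ a.out := by
    rw [Fintype.linearIndependent_iff]
    intro α hα b
    have h1 : (∑ g : ↥E, ρ g * ((∑ i, α i • ρ i.out) * ρ b.out⁻¹) * ρ g⁻¹) = 0 := by simp [hα]
    simp only [Finset.sum_mul, Finset.mul_sum, smul_mul_assoc, mul_smul_comm] at h1
    rw [Finset.sum_comm] at h1
    simp only [← Finset.smul_sum] at h1
    rw [Finset.sum_congr rfl (fun a _ => by rw [← map_mul ρ a.out, hsum]),
      Finset.sum_eq_single b (fun a _ hab => by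
        rw [if_neg, smul_zero]
        intro h
        apply hab
        have h' : ((a.out * b.out⁻¹ : ↥E) : ↥E ⧸ Subgroup.center ↥E) = 1 := (QuotientGroup.eq_one_iff _).2 h
        rwa [QuotientGroup.mk_mul, QuotientGroup.mk_inv, QuotientGroup.out_eq', QuotientGroup.out_eq',
          mul_inv_eq_one] at h') (fun h => absurd (Finset.mem_univ b) h),
      mul_inv_cancel, if_pos (one_mem _), map_one, smul_smul] at h1
    obtain ⟨x, hx⟩ := exists_ne (0 : Additive ↥W)
    have h2 := LinearMap.congr_fun h1 x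
    rw [LinearMap.smul_apply, Module.End.one_apply, LinearMap.zero_apply] at h2
    exact ((mul_eq_zero.1 ((smul_eq_zero.1 h2).resolve_right hx))).resolve_right hp0
  haveI : Module.Finite ↥K (Additive ↥W) := Module.Finite.of_finite
  obtain ⟨m, hm⟩ : ∃ m, m = Module.finrank ↥K (Additive ↥W) := ⟨_, rfl⟩
  have hsq : p ^ (2 * w) ≤ m * m := by
    have h1 := hind.fintype_card_le_finrank
    have e := Module.finrank_linearMap ↥K ↥K (Additive ↥W) (Additive ↥W)
    rw [← hm] at e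
    replace h1 := h1.trans e.le
    · have h2 := Subgroup.card_mul_index (Subgroup.center ↥E)
      rw [hZcard, hEcard, Subgroup.index_eq_card, pow_succ'] at h2
      rw [← Nat.eq_of_mul_eq_mul_left hpp.pos h2, Nat.card_eq_fintype_card]
      exact h1
  have hm' : p ^ w ≤ m := by
    by_contra hlt
    rw [not_le] at hlt
    have := Nat.mul_self_lt_mul_self hlt
    rw [← pow_add, ← two_mul] at this
    omega
  have hWcard : Nat.card ↥W = r ^ ((f : ℕ) * m) := by
    rw [pow_mul, ← hf, ← Nat.card_eq_fintype_card, hm, ← Module.natCard_eq_pow_finrank]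
    exact Nat.card_congr Additive.ofMul
  calc r ^ (n * p ^ w) ≤ r ^ ((f : ℕ) * m) := Nat.pow_le_pow_right hrp.pos (Nat.mul_le_mul hnf hm')
    _ = Nat.card ↥W := hWcard.symm
    _ ≤ Nat.card ↥A := Subgroup.card_le_of_le (hWB.trans hBA)

end Cfsg.Agent.S2912
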