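import Cfsg.Statements.S2924
import Cfsg.Agent.Lib.SSF.Main
import Cfsg.Agent.Lib.Fusion.ExtendedLayer
import Cfsg.Agent.Lib.Solv.Component

set_option autoImplicit false
open Cfsg

namespace Cfsg.Agent.S2924

open Cfsg.Agent.SSF Cfsg.Agent.Fusion
open scoped commutatorElement Pointwise

section Helpers

variable {X : Type*} [Group X] [Finite X]

theorem core_odd (a : X) : Odd (Nat.card (centralizerPPrimeCore 2 a)) :=
  Nat.coprime_two_right.1 (Opc_coprime 2 (Subgroup.centralizer ({a} : Set X)))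

/-- The part in `C(y)` of the core of `C(a)` centralises `O_2(C(y))`. -/
theorem cent_pCore {a y : X} (hay : a * y = y * a) (ha : IsPGroup 2 (Subgroup.zpowers a)) :
    centralizerPPrimeCore 2 a ⊓ Subgroup.centralizer {y} ≤
      Subgroup.centralizer (Ox 2 (Subgroup.centralizer ({y} : Set X)) : Set X) := by
  intro d hd
  obtain ⟨hdO, hdy⟩ := Subgroup.mem_inf.1 hd
  have hay' : a ∈ Subgroup.centralizer ({y} : Set X) := Subgroup.mem_centralizer_singleton_iff.2 hay
  have hda : Commute d a :=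
    Subgroup.mem_centralizer_singleton_iff.1 (Subgroup.map_subtype_le _ hdO)
  refine mem_centralizer_of_AB (T := Subgroup.zpowers a) (isPGroup_Ox 2 _) ha
    (Subgroup.zpowers_le.2 (self_le_normalizer_Ox 2 _ hay'))
    (self_le_normalizer_Ox 2 _ hdy) ?_ ?_ fun r hr hrT => ?_
  · intro v hv
    obtain ⟨i, rfl⟩ := Subgroup.mem_zpowers_iff.1 hv
    exact (hda.zpow_right i).eq
  · refine (Opc_coprime 2 (Subgroup.centralizer ({a} : Set X))).coprime_dvd_left ?_
    rw [← Subgroup.orderOf_mk d hdO]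
    exact orderOf_dvd_natCard _
  · refine (comm_one (coprime_inf_pGroup (Opc_coprime 2 _) (isPGroup_Ox 2 _)) hdO hr
      (self_le_normalizer_Opc 2 _ ?_) (self_le_normalizer_Ox 2 _ hdy))
    exact Subgroup.mem_centralizer_singleton_iff.2 (hrT a (Subgroup.mem_zpowers a))

theorem odd_zpowers_sq {d : X} (hd : Odd (orderOf d)) : d ∈ Subgroup.zpowers (d ^ 2) := by
  obtain ⟨k, hk⟩ := hd
  refine Subgroup.mem_zpowers_iff.2 ⟨(k + 1 : ℕ), ?_⟩
  rw [zpow_natCast, ← pow_mul, show 2 * (k + 1) = orderOf d + 1 by omega, pow_succ, pow_orderOf_eq_one,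
    one_mul]

/-- The core of `C(a)` meets `C(z)` trivially when `F*(C(z)) = O_2(C(z))`. -/
theorem core_inf_eq_bot {a z : X} (haz : a * z = z * a) (ha : IsPGroup 2 (Subgroup.zpowers a))
    (hz : Cfsg.generalizedFittingSubgroup ↥(Subgroup.centralizer ({z} : Set X)) =
      Cfsg.pCore 2 ↥(Subgroup.centralizer ({z} : Set X))) :
    centralizerPPrimeCore 2 a ⊓ Subgroup.centralizer {z} = ⊥ := by
  refine le_bot_iff.1 fun d hd => ?_
  have hdc := cent_pCore haz ha hd
  obtain ⟨hdO, hdz⟩ := Subgroup.mem_inf.1 hd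
  have h1 : (⟨d, hdz⟩ : ↥(Subgroup.centralizer ({z} : Set X))) ∈
      Subgroup.centralizer (Cfsg.generalizedFittingSubgroup ↥(Subgroup.centralizer ({z} : Set X)) : Set _) := by
    rw [hz]
    exact Subgroup.mem_centralizer_iff.2 fun v hv => Subtype.ext
      (Subgroup.mem_centralizer_iff.1 hdc v ⟨v, hv, rfl⟩)
  have h2 := Solv.centralizer_gfit_le h1
  rw [hz] at h2
  rw [← coprime_inf_pGroup (Opc_coprime 2 _) (isPGroup_Ox 2 (Subgroup.centralizer ({z} : Set X)))]
  exact Subgroup.mem_inf.2 ⟨hdO, ⟨_, h2, rfl⟩⟩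

theorem inverts {O : Subgroup X} {z : X} (hzO : z ∈ Subgroup.normalizer (O : Set X))
    (hfix : O ⊓ Subgroup.centralizer {z} = ⊥) (hz2 : z * z = 1) {v : X} (hv : v ∈ O) :
    z * v * z⁻¹ = v⁻¹ := by
  let f : O → O := fun x => ⟨(x : X)⁻¹ * (z * x * z⁻¹), mul_mem (inv_mem x.2) (nrm hzO x.2)⟩
  have hf : Function.Injective f := fun x x' h => by
    have h' : (x : X)⁻¹ * (z * x * z⁻¹) = (x' : X)⁻¹ * (z * x' * z⁻¹) := congrArg Subtype.val h
    have h1 : (x' : X) * (x : X)⁻¹ ∈ O ⊓ Subgroup.centralizer {z} := by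
      refine Subgroup.mem_inf.2 ⟨mul_mem x'.2 (inv_mem x.2), Subgroup.mem_centralizer_singleton_iff.2 ?_⟩
      calc (x' : X) * (x : X)⁻¹ * z = (x' : X) * ((x : X)⁻¹ * (z * x * z⁻¹)) * (z * (x : X)⁻¹) := by group
        _ = (x' : X) * ((x' : X)⁻¹ * (z * x' * z⁻¹)) * (z * (x : X)⁻¹) := by rw [h']
        _ = z * ((x' : X) * (x : X)⁻¹) := by group
    rw [hfix, Subgroup.mem_bot, mul_inv_eq_one] at h1
    exact Subtype.ext h1.symm
  obtain ⟨x, hx⟩ := (Finite.injective_iff_surjective.1 hf) ⟨v, hv⟩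
  have hx' : (x : X)⁻¹ * (z * x * z⁻¹) = v := congrArg Subtype.val hx
  have hzi : z⁻¹ = z := inv_eq_of_mul_eq_one_left hz2
  have hzz : ∀ w : X, z * (z * w) = w := fun w => by rw [← mul_assoc, hz2, one_mul]
  rw [← hx', hzi]
  simp only [mul_inv_rev, inv_inv, mul_assoc, hzz, hz2, mul_one, hzi]

end Helpers

/-- Let X be a finite group and Y an elementary abelian 2-subgroup of X of order at least 8 such that C_X(x) has no components (E(C_X(x)) = 1) for every nontrivial x ∈ Y, and F*(C_X(z)) = O₂(C_X(z)) for some nontrivial z ∈ Y. Then the subgroup generated by the cores O(C_X(y)), y ∈ Y nontrivial, has odd order and is normalized by N_X(Y). -/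
theorem result {X : Type*} [Group X] [Finite X] (Y : Subgroup X) (hY : Cfsg.IsElementaryAbelian 2 Y) (h8 : 8 ≤ Nat.card ↥Y) (hE : ∀ x ∈ Y, x ≠ 1 → Cfsg.layer ↥(Subgroup.centralizer ({x} : Set X)) = ⊥) (hz : ∃ z ∈ Y, z ≠ 1 ∧ Cfsg.generalizedFittingSubgroup ↥(Subgroup.centralizer ({z} : Set X)) = Cfsg.pCore 2 ↥(Subgroup.centralizer ({z} : Set X))) : Odd (Nat.card ↥(⨆ y : {y : X // y ∈ Y ∧ y ≠ 1}, (Cfsg.oddCore ↥(Subgroup.centralizer ({(y : X)} : Set X))).map (Subgroup.centralizer ({(y : X)} : Set X)).subtype)) ∧ Subgroup.normalizer (Y : Set X) ≤ Subgroup.normalizer ((⨆ y : {y : X // y ∈ Y ∧ y ≠ 1}, (Cfsg.oddCore ↥(Subgroup.centralizer ({(y : X)} : Set X))).map (Subgroup.centralizer ({(y : X)} : Set X)).subtype : Subgroup X) : Set X) := by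
  obtain ⟨z, hzY, hz1, hzF⟩ := hz
  have hcomm : ∀ u ∈ Y, ∀ v ∈ Y, u * v = v * u := fun u hu v hv =>
    congrArg Subtype.val (hY.1.1.1 ⟨u, hu⟩ ⟨v, hv⟩)
  have h2 : ∀ y ∈ Y, IsPGroup 2 (Subgroup.zpowers y) := fun y hy =>
    (elab_isPGroup hY).to_le (Subgroup.zpowers_le.2 hy)
  have hsq : ∀ y ∈ Y, y * y = 1 := fun y hy => by rw [← sq]; exact hY.2 y hy
  have hnrm : ∀ (a : X) {g : X}, g * a = a * g →
      g ∈ Subgroup.normalizer (centralizerPPrimeCore 2 a : Set X) := fun a g hg =>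
    self_le_normalizer_Opc 2 _ (Subgroup.mem_centralizer_singleton_iff.2 hg)
  -- `z` inverts every core
  have hinv : ∀ a ∈ Y, ∀ v ∈ centralizerPPrimeCore 2 a, z * v * z⁻¹ = v⁻¹ := fun a ha v hv =>
    inverts (hnrm a (hcomm z hzY a ha)) (core_inf_eq_bot (hcomm a ha z hzY) (h2 a ha) hzF) (hsq z hzY) hv
  have hab : ∀ a ∈ Y, ∀ u ∈ centralizerPPrimeCore 2 a, ∀ v ∈ centralizerPPrimeCore 2 a, u * v = v * u := by
    intro a ha u hu v hv
    have h := hinv a ha (u * v) (mul_mem hu hv)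
    rw [show z * (u * v) * z⁻¹ = (z * u * z⁻¹) * (z * v * z⁻¹) by group, hinv a ha u hu, hinv a ha v hv,
      ← mul_inv_rev, inv_inj] at h
    exact h.symm
  have hbal : ∀ a ∈ Y, ∀ b ∈ Y, b ≠ 1 →
      centralizerPPrimeCore 2 a ⊓ Subgroup.centralizer {b} ≤ centralizerPPrimeCore 2 b := by
    intro a ha b hb hb1 d hd
    obtain ⟨hdO, hdb⟩ := Subgroup.mem_inf.1 hd
    obtain ⟨H, hH⟩ : ∃ H, H = Subgroup.centralizer ({b} : Set X) := ⟨_, rfl⟩
    have hdH : d ∈ H := hH ▸ hdb
    have hd1 : d ∈ Subgroup.centralizer (Ox 2 H : Set X) := hH ▸ cent_pCore (hcomm a ha b hb) (h2 a ha) hd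
    have hd2 : d ∈ Subgroup.centralizer (Opc 2 H : Set X) := by
      refine Subgroup.mem_centralizer_iff.2 fun r hr => ?_
      have hrO : r ∈ centralizerPPrimeCore 2 b := by subst hH; exact hr
      have hu : d * r * d⁻¹ ∈ centralizerPPrimeCore 2 b :=
        nrm (self_le_normalizer_Opc 2 _ hdb) hrO
      have h := hinv b hb _ hu
      rw [show z * (d * r * d⁻¹) * z⁻¹ = (z * d * z⁻¹) * (z * r * z⁻¹) * (z * d * z⁻¹)⁻¹ by group,
        hinv a ha d hdO, hinv b hb r hrO] at h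
      have h' : Commute r⁻¹ (d ^ 2) := by
        show r⁻¹ * d ^ 2 = d ^ 2 * r⁻¹
        calc r⁻¹ * d ^ 2 = d * (d⁻¹ * r⁻¹ * (d⁻¹)⁻¹) * d := by
              simp only [sq, inv_inv, mul_assoc, mul_inv_cancel_left]
          _ = d * ((d * r * d⁻¹)⁻¹) * d := by rw [h]
          _ = d ^ 2 * r⁻¹ := by
              simp only [sq, mul_inv_rev, inv_inv, mul_assoc, inv_mul_cancel_left, inv_mul_cancel,
                mul_one]
      have ho : Odd (orderOf d) := (core_odd a).of_dvd_nat (by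
        rw [← Subgroup.orderOf_mk d hdO]; exact orderOf_dvd_natCard _)
      obtain ⟨i, hi⟩ := Subgroup.mem_zpowers_iff.1 (odd_zpowers_sq ho)
      rw [← hi]
      exact ((Commute.inv_left_iff.1 h').zpow_right i).eq
    -- the Fitting subgroup is centralised
    have hF : (⟨d, hdb⟩ : ↥(Subgroup.centralizer ({b} : Set X))) ∈
        Cfsg.generalizedFittingSubgroup ↥(Subgroup.centralizer ({b} : Set X)) := by
      subst hH
      refine Solv.centralizer_gfit_le ?_
      rw [Cfsg.generalizedFittingSubgroup, hE b hb hb1, bot_sup_eq]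
      have hc : fittingSubgroup ↥(Subgroup.centralizer ({b} : Set X)) ≤
          (Subgroup.centralizer ({d} : Set X)).comap (Subgroup.centralizer ({b} : Set X)).subtype := by
        rw [Solv.fitting_eq_iSup_pCore]
        refine iSup_le fun q w hw => Subgroup.mem_comap.2 (Subgroup.mem_centralizer_singleton_iff.2 ?_)
        have hwq : (w : X) ∈ Ox (q : ℕ) (Subgroup.centralizer ({b} : Set X)) := ⟨w, hw, rfl⟩
        rcases eq_or_ne (q : ℕ) 2 with hq | hq
        · exact Subgroup.mem_centralizer_iff.1 hd1 w (hq ▸ hwq)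
        · refine Subgroup.mem_centralizer_iff.1 hd2 w (le_Opc (Ox_le _ _) (self_le_normalizer_Ox _ _) ?_ hwq)
          haveI := Fact.mk q.2
          obtain ⟨k, hk⟩ := IsPGroup.iff_card.1 (isPGroup_Ox (q : ℕ) (Subgroup.centralizer ({b} : Set X)))
          rw [hk]
          exact ((Nat.coprime_primes q.2 Nat.prime_two).2 hq).pow_left k
      refine Subgroup.mem_centralizer_iff.2 fun v hv => Subtype.ext ?_
      exact Subgroup.mem_centralizer_singleton_iff.1 (Subgroup.mem_comap.1 (hc hv))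
    rw [Cfsg.generalizedFittingSubgroup, hE b hb hb1, bot_sup_eq] at hF
    -- an element of odd order of the Fitting subgroup lies in the core
    have hle : fittingSubgroup ↥(Subgroup.centralizer ({b} : Set X)) ≤
        pCore 2 ↥(Subgroup.centralizer ({b} : Set X)) ⊔ pPrimeCore 2 ↥(Subgroup.centralizer ({b} : Set X)) := by
      rw [Solv.fitting_eq_iSup_pCore]
      refine iSup_le fun q => ?_
      rcases eq_or_ne (q : ℕ) 2 with hq | hq
      · exact hq ▸ le_sup_left
      · haveI := Fact.mk q.2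
        obtain ⟨k, hk⟩ := IsPGroup.iff_card.1 (isPGroup_pCore (q : ℕ) ↥(Subgroup.centralizer ({b} : Set X)))
        refine le_trans (le_pPrimeCore ?_) le_sup_right
        rw [hk]
        exact ((Nat.coprime_primes q.2 Nat.prime_two).2 hq).pow_left k
    obtain ⟨u, hu, v, hv, huv⟩ := Subgroup.mem_sup_of_normal_right.1 (hle hF)
    have hdis : Disjoint (pCore 2 ↥(Subgroup.centralizer ({b} : Set X)))
        (pPrimeCore 2 ↥(Subgroup.centralizer ({b} : Set X))) := by
      rw [disjoint_iff, inf_comm]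
      exact coprime_inf_pGroup (card_pPrimeCore_coprime 2 _) (isPGroup_pCore 2 _)
    have hcuv : Commute u v :=
      Subgroup.commute_of_normal_of_disjoint _ _ inferInstance inferInstance hdis u v hu hv
    obtain ⟨j, hj⟩ := isPGroup_pCore 2 _ ⟨u, hu⟩
    have hpow : (⟨d, hdb⟩ : ↥(Subgroup.centralizer ({b} : Set X))) ^ 2 ^ j = v ^ 2 ^ j := by
      rw [← huv, hcuv.mul_pow, show u ^ 2 ^ j = 1 from congrArg Subtype.val hj, one_mul]
    have hco : (2 ^ j).Coprime (orderOf d) := by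
      refine (Nat.Coprime.symm ?_).pow_left j
      refine (Opc_coprime 2 (Subgroup.centralizer ({a} : Set X))).coprime_dvd_left ?_
      rw [← Subgroup.orderOf_mk d hdO]
      exact orderOf_dvd_natCard _
    obtain ⟨m, hm⟩ := exists_pow_eq_self_of_coprime hco
    refine ⟨(v ^ 2 ^ j) ^ m, pow_mem (pow_mem hv _) _, ?_⟩
    rw [← hpow]
    exact hm
  have hθ : Cfsg.IsSolvableSignalizerFunctor 2 Y (fun a => centralizerPPrimeCore 2 a) := by
    refine ⟨⟨fun a _ _ => Subgroup.map_subtype_le _, fun a _ _ h => ?_, fun a ha _ b hb x hx => ?_,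
      fun a ha _ b hb hb1 => hbal a ha b hb hb1⟩, fun a ha _ => ?_⟩
    · exact (Nat.not_even_iff_odd.2 (core_odd a)) (even_iff_two_dvd.2 h)
    · exact nrm (hnrm a (hcomm b hb a ha)) hx
    · exact Group.isSolvable_of_comm fun u v => Subtype.ext (hab a ha u u.2 v v.2)
  obtain ⟨hW, -⟩ := complete_of_odd hY (by simpa using h8) hθ fun a _ _ => core_odd a
  refine ⟨?_, fun g hg => ?_⟩
  · rw [← Nat.not_even_iff_odd, even_iff_two_dvd]
    exact hW.2.1
  · show g ∈ Subgroup.normalizer ((⨆ y : {y : X // y ∈ Y ∧ y ≠ 1}, centralizerPPrimeCore 2 (y : X) : Subgroup X) : Set X)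
    refine mem_normalizer_of_cj_le ?_
    rw [show cj (⨆ y : {y : X // y ∈ Y ∧ y ≠ 1}, centralizerPPrimeCore 2 (y : X)) g =
      ⨆ y : {y : X // y ∈ Y ∧ y ≠ 1}, cj (centralizerPPrimeCore 2 (y : X)) g from Subgroup.map_iSup _ _]
    refine iSup_le fun y => ?_
    have hy' : g * (y : X) * g⁻¹ ∈ Y := nrm hg y.2.1
    have hc : cj (Subgroup.centralizer ({(y : X)} : Set X)) g = Subgroup.centralizer ({g * y * g⁻¹} : Set X) := by
      rw [← Subgroup.centralizer_closure {(y : X)}, cj_centralizer, ← Subgroup.centralizer_closure {g * y * g⁻¹}]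
      congr 2
      exact (MonoidHom.map_closure _ _).trans (congrArg _ (Set.image_singleton))
    refine le_trans (le_of_eq ?_) (le_iSup (fun y : {y : X // y ∈ Y ∧ y ≠ 1} => centralizerPPrimeCore 2 (y : X))
      ⟨g * y * g⁻¹, hy', fun h => y.2.2 ?_⟩)
    · show cj _ g = centralizerPPrimeCore 2 (g * (y : X) * g⁻¹)
      rw [centralizerPPrimeCore, cj_pPrimeCore_subgroup, hc, centralizerPPrimeCore]
    · exact conj_eq_one_iff.1 h

end Cfsg.Agent.S2924
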