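import Cfsg.Statements.S2925
import Cfsg.Agent.Lib.Solv.Component
import Cfsg.Agent.Lib.LocalEven.ParabolicInherit

set_option autoImplicit false
open Cfsg
open Cfsg.Agent Cfsg.Agent.Fusion
open scoped commutatorElement

namespace Cfsg.Agent.S2925

/-- Let K be a component of the finite group X and T a Sylow 2-subgroup of X. If some abelian normal subgroup Y of T does not normalize K, then K ⧸ Z(K) has abelian Sylow 2-subgroups. -/
theorem result {X : Type*} [Group X] [Finite X] (K : Subgroup X) (hK : Cfsg.IsComponent K) (T : Sylow 2 X) (Y : Subgroup X) (hYT : Y ≤ (T : Subgroup X)) (hYn : (Y.subgroupOf (T : Subgroup X)).Normal) (hYab : IsMulCommutative ↥Y) (hnot : ¬ Y ≤ Subgroup.normalizer (K : Set X)) (P : Sylow 2 (↥K ⧸ Subgroup.center ↥K)) : IsMulCommutative ↥(P : Subgroup (↥K ⧸ Subgroup.center ↥K)) := by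
  classical
  haveI : Fact (Nat.Prime 2) := ⟨Nat.prime_two⟩
  obtain ⟨y, hy, hyK⟩ := SetLike.not_le_iff_exists.1 hnot
  obtain ⟨L, hL⟩ : ∃ L, L = K.map (MulAut.conj y).toMonoidHom := ⟨_, rfl⟩
  have hLc : Cfsg.IsComponent L := by
    rw [hL, ← Solv.conj_smul_eq_map]; exact Solv.component_conj hK y
  have hcomm := Solv.components_commute hK hLc (fun e => hyK (mem_normalizer_iff_cj.2 (hL ▸ e).symm))
  rw [Subgroup.commutator_eq_bot_iff_le_centralizer] at hcomm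
  have hkl : ∀ k ∈ K, ∀ l ∈ L, k * l = l * k := fun k hk l hl =>
    ((Subgroup.mem_centralizer_iff.1 (hcomm hk)) l hl).symm
  have hYc : ∀ a ∈ Y, ∀ b ∈ Y, a * b = b * a := fun a ha b hb =>
    congrArg Subtype.val (hYab.1.1 ⟨a, ha⟩ ⟨b, hb⟩)
  have hTY : (T : Subgroup X) ≤ Subgroup.normalizer (Y : Set X) :=
    (Subgroup.normal_subgroupOf_iff_le_normalizer hYT).1 hYn
  -- commutators inside `T ∩ K` are central in `K`
  have key : ∀ s ∈ (T : Subgroup X) ⊓ K, ∀ t ∈ (T : Subgroup X) ⊓ K, ∀ k ∈ K,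
      k * (t⁻¹ * s⁻¹ * t * s) = t⁻¹ * s⁻¹ * t * s * k := by
    intro s hs t ht k hk
    obtain ⟨hsT, hsK⟩ := Subgroup.mem_inf.1 hs
    obtain ⟨htT, htK⟩ := Subgroup.mem_inf.1 ht
    have hY1 : ∀ r ∈ (T : Subgroup X), y * r * y⁻¹ * r⁻¹ ∈ Y := fun r hr => by
      rw [show y * r * y⁻¹ * r⁻¹ = y * (r * y⁻¹ * r⁻¹) by group]
      exact mul_mem hy ((Subgroup.mem_set_normalizer_iff.1 (hTY hr) _).1 (inv_mem hy))
    have hu : y * s * y⁻¹ ∈ L := hL ▸ conj_mem_cj hsK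
    have hv : y * t * y⁻¹ ∈ L := hL ▸ conj_mem_cj htK
    obtain ⟨u, hu'⟩ : ∃ u, u = y * s * y⁻¹ := ⟨_, rfl⟩
    obtain ⟨v, hv'⟩ : ∃ v, v = y * t * y⁻¹ := ⟨_, rfl⟩
    have h1 : (u * s⁻¹) * (v * t⁻¹) = (v * t⁻¹) * (u * s⁻¹) := by
      rw [hu', hv']; exact hYc _ (hY1 s hsT) _ (hY1 t htT)
    rw [← hu'] at hu
    rw [← hv'] at hv
    have e1 : s⁻¹ * v = v * s⁻¹ := hkl _ (inv_mem hsK) _ hv
    have e2 : t⁻¹ * u = u * t⁻¹ := hkl _ (inv_mem htK) _ hu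
    have e3 : u * v * (s⁻¹ * t⁻¹) = v * u * (t⁻¹ * s⁻¹) := by
      calc u * v * (s⁻¹ * t⁻¹) = u * (v * s⁻¹) * t⁻¹ := by group
        _ = (u * s⁻¹) * (v * t⁻¹) := by rw [← e1]; group
        _ = (v * t⁻¹) * (u * s⁻¹) := h1
        _ = v * (t⁻¹ * u) * s⁻¹ := by group
        _ = _ := by rw [e2]; group
    have e4 : (v * u)⁻¹ * (u * v) = t⁻¹ * s⁻¹ * t * s := by
      calc (v * u)⁻¹ * (u * v) = (v * u)⁻¹ * (u * v * (s⁻¹ * t⁻¹)) * (t * s) := by group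
        _ = _ := by rw [e3]; group
    exact hkl k hk _ (e4 ▸ mul_mem (inv_mem (mul_mem hv hu)) (mul_mem hu hv))
  obtain ⟨S, hS⟩ := (LocalEven.sylIn_inf_subnormal T hK.1).exists_sylow_subgroupOf
  obtain ⟨g, hg⟩ := MulAction.exists_smul_eq (↥K ⧸ Subgroup.center ↥K)
    (S.mapSurjective (QuotientGroup.mk'_surjective (Subgroup.center ↥K))) P
  refine ⟨⟨fun a b => Subtype.ext ?_⟩⟩
  have hmem : ∀ c : (P : Subgroup (↥K ⧸ Subgroup.center ↥K)), ∃ r ∈ (S : Subgroup ↥K),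
      g * QuotientGroup.mk r * g⁻¹ = (c : ↥K ⧸ Subgroup.center ↥K) := by
    intro c
    have h := c.2
    simp only [← hg] at h
    rw [Sylow.coe_subgroup_smul, Sylow.coe_mapSurjective] at h
    obtain ⟨w, ⟨r, hr, rfl⟩, hw⟩ := h
    exact ⟨r, hr, hw⟩
  obtain ⟨r, hr, ha⟩ := hmem a
  obtain ⟨r', hr', hb⟩ := hmem b
  rw [hS, Subgroup.mem_subgroupOf] at hr hr'
  have hz : r'⁻¹ * r⁻¹ * r' * r ∈ Subgroup.center ↥K := Subgroup.mem_center_iff.2 fun k =>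
    Subtype.ext (by simpa using key r hr r' hr' k k.2)
  have hrr : (QuotientGroup.mk r : ↥K ⧸ Subgroup.center ↥K) * QuotientGroup.mk r' =
      QuotientGroup.mk r' * QuotientGroup.mk r := by
    rw [← QuotientGroup.mk_mul, ← QuotientGroup.mk_mul, QuotientGroup.eq, show (r * r')⁻¹ * (r' * r) = r'⁻¹ * r⁻¹ * r' * r by group]
    exact hz
  show (a : ↥K ⧸ Subgroup.center ↥K) * b = b * a
  rw [← ha, ← hb, conj_mul, conj_mul, hrr]

end Cfsg.Agent.S2925
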