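import Cfsg.Statements.S2929
import Cfsg.Agent.Lib.Perm.ThreeCycleClasses
import Cfsg.Agent.Lib.Fusion.Basic

set_option autoImplicit false
open Cfsg

namespace Cfsg.Agent.S2929

theorem result (n : ℕ) (hn : 5 ≤ n) (H : Subgroup (Equiv.Perm (Fin n))) (hF : Cfsg.IsQuasisimple ↥(Cfsg.generalizedFittingSubgroup ↥H)) (hS : ∃ P : Sylow 3 (Equiv.Perm (Fin n)), (P : Subgroup (Equiv.Perm (Fin n))) ≤ H) : ∃ m : ℕ, (m = n - 2 ∨ m = n - 1 ∨ m = n) ∧ Nonempty (↥(Cfsg.generalizedFittingSubgroup ↥H) ≃* ↥(alternatingGroup (Fin m))) := by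
  classical
  obtain ⟨P, hP⟩ := hS
  obtain ⟨m, hm, he⟩ := Perm.ThreeClasses.main hF (fun U hU hUinv => by
    by_contra hc
    obtain ⟨x, y, z, hx, hy, hz, hxy, hxz, hyz⟩ := Finset.two_lt_card_iff.1 (not_le.1 hc)
    let T : Subgroup (Equiv.Perm (Fin n)) :=
      { carrier := {σ | ∀ w, σ w ∈ U ↔ w ∈ U}
        one_mem' := fun w => Iff.rfl
        mul_mem' := fun {a b} ha hb w => (ha (b w)).trans (hb w)
        inv_mem' := fun {a} ha w => by
          have h1 := ha (a⁻¹ w)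
          rw [show a (a⁻¹ w) = w from a.apply_symm_apply w] at h1
          exact h1.symm }
    have hHT : H ≤ T := fun σ hσ w => ⟨fun h => by
      have h1 := hUinv σ⁻¹ (H.inv_mem hσ) _ h
      simpa using h1, hUinv σ hσ w⟩
    have hsyl : Fusion.SylIn 3 (P : Subgroup (Equiv.Perm (Fin n))) T :=
      ⟨hP.trans hHT, P.2, fun hd => by
        haveI : Fact (Nat.Prime 3) := ⟨Nat.prime_three⟩
        exact Sylow.not_dvd_index P
          (Subgroup.relIndex_mul_index (hP.trans hHT) ▸ hd.mul_right _)⟩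
    haveI : Fact (Nat.Prime 3) := ⟨Nat.prime_three⟩
    have hcT : Perm.AltAut.cyc x y z ∈ T := fun w => by
      by_cases h1 : w = x
      · subst h1; simp [Perm.AltAut.cyc_left hxy hxz, hy, hx]
      by_cases h2 : w = y
      · subst h2; simp [Perm.AltAut.cyc_mid hxz hyz, hy, hz]
      by_cases h3 : w = z
      · subst h3
        simp [show Perm.AltAut.cyc x y w w = x by
          simp [Perm.AltAut.cyc, Equiv.swap_apply_of_ne_of_ne, hxy, hxz, hyz], hx, hz]
      · rw [Perm.AltAut.cyc_other h1 h2 h3]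
    obtain ⟨t, ht, hle⟩ := hsyl.conj_le (Q := Subgroup.zpowers (Perm.AltAut.cyc x y z)) (IsPGroup.of_card
      (n := 1) (by rw [Nat.card_zpowers, (Perm.AltAut.cyc_isThreeCycle hxy hxz hyz).orderOf, pow_one]))
      (Subgroup.zpowers_le.2 hcT)
    have h1 : t * Perm.AltAut.cyc x y z * t⁻¹ ∈ H :=
      hP (hle (Fusion.conj_mem_cj (Subgroup.mem_zpowers _)))
    rw [Perm.AltAut.conj_cyc] at h1
    exact hU (t x) ((ht x).2 hx) _ _ _ (t.injective.ne hxy) (t.injective.ne hxz) (t.injective.ne hyz) h1 rfl)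
  exact ⟨m, by simpa using hm, he⟩

end Cfsg.Agent.S2929
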