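import Cfsg.Statements.S2930
import Cfsg.Agent.Lib.Char.PMinimalAlt

set_option autoImplicit false
open Cfsg
open scoped ComplexConjugate

namespace Cfsg.Agent.S2930

/-- Let X be a finite 3-minimal group (a Sylow 3-subgroup is not normal and lies in a unique maximal subgroup) whose generalized Fitting subgroup is isomorphic to an alternating group of degree n ≥ 5. Then X = F*(X), and n = 6, n = 9, or n = 3ᵃ + 1 for some a ≥ 2. -/
theorem result {X : Type*} [Group X] [Finite X] (hX : Cfsg.IsPMinimal 3 X) (n : ℕ) (hn : 5 ≤ n) (hF : Nonempty (↥(Cfsg.generalizedFittingSubgroup X) ≃* ↥(alternatingGroup (Fin n)))) : Cfsg.generalizedFittingSubgroup X = ⊤ ∧ (n = 6 ∨ n = 9 ∨ ∃ a : ℕ, 2 ≤ a ∧ n = 3 ^ a + 1) := by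
  classical
  haveI : Fact (Nat.Prime 3) := ⟨Nat.prime_three⟩
  obtain ⟨e⟩ := hF
  obtain ⟨F, hFdef⟩ : ∃ F, F = generalizedFittingSubgroup X := ⟨_, rfl⟩
  rw [← hFdef]
  let e0 : ↥F ≃* ↥(alternatingGroup (Fin n)) := (MulEquiv.subgroupCongr hFdef).trans e
  haveI hFn : F.Normal := hFdef ▸ Cfsg.Agent.Local.gfit_normal
  have hCF : Subgroup.centralizer (F : Set X) ≤ F := hFdef ▸ Cfsg.Agent.Solv.centralizer_gfit_le
  let θ : X →* MulAut ↥(alternatingGroup (Fin n)) := (MulAut.congr e0).toMonoidHom.comp MulAut.conjNormal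
  have hθ : ∀ (x : X) (a : ↥(alternatingGroup (Fin n))), θ x a = e0 (MulAut.conjNormal x (e0.symm a)) :=
    fun x a => rfl
  have h3 : ¬ 3 ∣ F.index := by
    intro hd
    obtain ⟨y, hy⟩ := exists_prime_orderOf_dvd_card' 3 (Subgroup.index_eq_card F ▸ hd)
    obtain ⟨x, rfl⟩ := QuotientGroup.mk_surjective y
    obtain ⟨j, m, hm, hjm⟩ := Nat.exists_eq_pow_mul_and_not_dvd (orderOf_pos x).ne' 3 (by norm_num)
    have hpow : (x ^ m) ^ (3 ^ j) = 1 := by rw [← pow_mul, mul_comm, ← hjm, pow_orderOf_eq_one]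
    have hxm : x ^ m ∉ F := fun hx => by
      have h1 : (QuotientGroup.mk x : X ⧸ F) ^ m = 1 := by
        rw [← QuotientGroup.mk_pow]; exact (QuotientGroup.eq_one_iff _).2 hx
      have h2 := orderOf_dvd_of_pow_eq_one h1
      rw [hy] at h2
      exact hm h2
    have hodd : Odd (orderOf (θ (x ^ m))) := by
      obtain ⟨i, -, hi⟩ := (Nat.dvd_prime_pow Nat.prime_three).1
        (orderOf_dvd_of_pow_eq_one (show θ (x ^ m) ^ (3 ^ j) = 1 by rw [← map_pow, hpow, map_one]))
      rw [hi]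
      exact Odd.pow (by decide)
    obtain ⟨π, hπ⟩ := Cfsg.Agent.Perm.AltAut.exists_perm_of_odd hn _ hodd
    have hπ3 : π ^ (3 ^ j) = 1 := Cfsg.Agent.Perm.AltAut.conjNormal_injective (by omega) (by
      rw [map_pow, ← hπ, ← map_pow θ, hpow, map_one, map_one])
    have hπA : π ∈ alternatingGroup (Fin n) := by
      rw [Equiv.Perm.mem_alternatingGroup]
      have h1 := congrArg Equiv.Perm.sign hπ3
      rw [map_pow, map_one] at h1
      rcases Int.units_eq_one_or (Equiv.Perm.sign π) with e1 | e1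
      · exact e1
      · rw [e1, Odd.neg_one_pow (Odd.pow (by decide))] at h1
        exact absurd h1 (by decide)
    obtain ⟨a, ha⟩ : ∃ a, a = e0.symm ⟨π, hπA⟩ := ⟨_, rfl⟩
    have hcen : (a : X)⁻¹ * x ^ m ∈ Subgroup.centralizer (F : Set X) := by
      refine Subgroup.mem_centralizer_iff.2 fun f hf => ?_
      have h1 := hθ (x ^ m) (e0 ⟨f, hf⟩)
      rw [hπ, MulEquiv.symm_apply_apply] at h1
      have h2 : MulAut.conjNormal π (e0 ⟨f, hf⟩) = e0 (a * ⟨f, hf⟩ * a⁻¹) := by
        rw [ha, map_mul, map_mul, map_inv, MulEquiv.apply_symm_apply]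
        exact Subtype.ext (by simp [MulAut.conjNormal_apply])
      have h4 := congrArg Subtype.val (e0.injective (h2.symm.trans h1))
      simp only [Subgroup.coe_mul, Subgroup.coe_inv, MulAut.conjNormal_apply] at h4
      calc f * ((a : X)⁻¹ * x ^ m) = (a : X)⁻¹ * ((a : X) * f * (a : X)⁻¹) * x ^ m := by group
        _ = (a : X)⁻¹ * x ^ m * f := by rw [h4]; group
    exact hxm (by simpa using mul_mem a.2 (hCF hcen))
  obtain ⟨S⟩ : Nonempty (Sylow 3 X) := inferInstance
  have hSF : (S : Subgroup X) ≤ F := by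
    intro s hs
    rw [← QuotientGroup.eq_one_iff]
    obtain ⟨k, hk⟩ := S.isPGroup' ⟨s, hs⟩
    have h1 : (QuotientGroup.mk s : X ⧸ F) ^ (3 ^ k) = 1 := by
      rw [← QuotientGroup.mk_pow, show s ^ 3 ^ k = 1 from congrArg Subtype.val hk, QuotientGroup.mk_one]
    have h2 : orderOf (QuotientGroup.mk s : X ⧸ F) ∣ Nat.gcd (3 ^ k) (Nat.card (X ⧸ F)) :=
      Nat.dvd_gcd (orderOf_dvd_of_pow_eq_one h1) (orderOf_dvd_natCard _)
    rw [(Nat.Coprime.pow_left k ((Nat.prime_three).coprime_iff_not_dvd.2 (Subgroup.index_eq_card F ▸ h3)) :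
      Nat.Coprime (3 ^ k) (Nat.card (X ⧸ F))), Nat.dvd_one, orderOf_eq_one_iff] at h2
    exact h2
  obtain ⟨hSn, M₀, ⟨hM₀, hSM⟩, huniq⟩ := hX S
  have hle : ∀ L : Subgroup X, L ≠ ⊤ → (S : Subgroup X) ≤ L → L ≤ M₀ := fun L hL hSL => by
    obtain ⟨K, hK, hLK⟩ := (eq_top_or_exists_le_coatom L).resolve_left hL
    exact huniq K ⟨hK, hSL.trans hLK⟩ ▸ hLK
  have hFtop : F = ⊤ := by
    by_contra hne
    refine hM₀.1 (top_unique ?_)
    rw [← S.normalizer_sup_eq_top' hSF]
    refine sup_le (hle _ (fun h => hSn (Subgroup.normalizer_eq_top_iff.1 h)) Subgroup.le_normalizer)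
      (hle F hne hSF)
  refine ⟨hFtop, ?_⟩
  let ε : X →* Equiv.Perm (Fin n) :=
    (alternatingGroup (Fin n)).subtype.comp ((Subgroup.topEquiv.symm.trans
      ((MulEquiv.subgroupCongr hFtop).symm.trans e0)).toMonoidHom)
  have hεinj : Function.Injective ε :=
    Subtype.val_injective.comp (MulEquiv.injective _)
  have hεr : ε.range = alternatingGroup (Fin n) := by
    rw [MonoidHom.range_comp, MonoidHom.range_eq_top.2 (MulEquiv.surjective _), ← MonoidHom.range_eq_map,
      Subgroup.range_subtype]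
  have hback : ∀ L : Subgroup (Equiv.Perm (Fin n)), L ≤ alternatingGroup (Fin n) → (L.comap ε).map ε = L :=
    fun L hL => Subgroup.map_comap_eq_self (hεr.symm ▸ hL)
  have hset : Cfsg.Agent.Char.PMinAlt.Setup ((S : Subgroup X).map ε) (M₀.map ε) := by
    refine ⟨by rwa [Fintype.card_fin], S.isPGroup'.map ε, hεr ▸ MonoidHom.range_eq_map ε ▸ Subgroup.map_mono le_top,
      fun h => hSn ?_, fun L hPL hL hne => ?_⟩
    · rw [(Subgroup.map_eq_bot_iff_of_injective _ hεinj).1 h]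
      infer_instance
    · rw [← hback L hL]
      refine Subgroup.map_mono (hle _ (fun h => hne ?_) (Subgroup.map_le_iff_le_comap.1 hPL))
      rw [← hback L hL, h, ← MonoidHom.range_eq_map, hεr]
  have hres := Cfsg.Agent.Char.PMinAlt.card_eq_or_pow hset (fun h => hM₀.1 (top_unique fun x _ => by
    obtain ⟨y, hy, hxy⟩ := h (show ε x ∈ alternatingGroup (Fin n) by rw [← hεr]; exact ⟨x, rfl⟩)
    rw [← hεinj hxy]
    exact hy))
  rwa [Fintype.card_fin] at hres

end Cfsg.Agent.S2930
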