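import Cfsg.Statements.S2931
import Cfsg.Agent.Lib.Solv.SylowEightData
import Cfsg.Agent.Lib.Classical.SymplecticCount
import Cfsg.Agent.S0288

set_option autoImplicit false
open Cfsg

namespace Cfsg.Agent.S2931

open Cfsg.Agent.Solv.SylEight

theorem sylow_of_embedding {W G : Type*} [Group W] [Group G] [Finite G] {n : ℕ} (hW : Nat.card W = 2 ^ n)
    (hG : (Nat.card G).factorization 2 = n) (f : W →* G) (hf : Function.Injective f) (P : Sylow 2 G) :
    Nonempty (W ≃* ↥(P : Subgroup G)) := by
  have h : Nat.card f.range = 2 ^ (Nat.card G).factorization 2 := by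
    rw [hG, ← hW]
    exact (Nat.card_congr (MonoidHom.ofInjective hf).toEquiv).symm
  exact ⟨(MonoidHom.ofInjective hf).trans (Sylow.equiv (Sylow.ofCard f.range h) P)⟩

/-- Assemble a homomorphism on a semidirect product and check its injectivity. -/
theorem exists_lift {N X G : Type*} [Group N] [Group X] [Group G] (φ : X →* MulAut N) (f : N →* G) (g : X →* G)
    (hc : ∀ x n, f (φ x n) * g x = g x * f n) (hinj : ∀ n x, f n * g x = 1 → n = 1 ∧ x = 1) :
    ∃ F : N ⋊[φ] X →* G, Function.Injective F := by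
  refine ⟨SemidirectProduct.lift f g fun x => MonoidHom.ext fun n => ?_, ?_⟩
  · show f (φ x n) = g x * f n * (g x)⁻¹
    rw [← hc x n, mul_inv_cancel_right]
  · rw [injective_iff_map_eq_one]
    intro a ha
    obtain ⟨h1, h2⟩ := hinj a.left a.right ha
    exact SemidirectProduct.ext h1 h2

/-- The action of the four-group. -/
def phiV : Multiplicative VV →* MulAut (Multiplicative BB) where
  toFun x := AddEquiv.toMultiplicative
    { toFun := shift x.toAdd
      invFun := shift (-x.toAdd)
      left_inv := fun v => funext fun y => by simp [shift, add_assoc]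
      right_inv := fun v => funext fun y => by simp [shift, add_assoc]
      map_add' := fun _ _ => rfl }
  map_one' := MulEquiv.ext fun v => by
    show Multiplicative.ofAdd (shift 0 v.toAdd) = v
    have : shift 0 v.toAdd = v.toAdd := funext fun y => by simp [shift]
    rw [this]; rfl
  map_mul' x y := MulEquiv.ext fun v => by
    show Multiplicative.ofAdd (shift (x.toAdd + y.toAdd) v.toAdd) = Multiplicative.ofAdd (shift x.toAdd (shift y.toAdd v.toAdd))
    exact congrArg Multiplicative.ofAdd (funext fun z => by simp [shift, add_assoc])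

/-- The action of the dihedral group. -/
def phiD : DihedralGroup 4 →* MulAut (Multiplicative CC) where
  toFun g := AddEquiv.toMultiplicative
    { toFun := perm g
      invFun := perm g⁻¹
      left_inv := fun v => funext fun k => by simp only [perm, inv_inv, ← rho_mul, inv_mul_cancel, rho_one]
      right_inv := fun v => funext fun k => by simp only [perm, inv_inv, ← rho_mul, mul_inv_cancel, rho_one]
      map_add' := fun _ _ => rfl }
  map_one' := MulEquiv.ext fun v => by
    show Multiplicative.ofAdd (perm 1 v.toAdd) = v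
    have : perm 1 v.toAdd = v.toAdd := funext fun y => by simp [perm, rho_one]
    rw [this]; rfl
  map_mul' x y := MulEquiv.ext fun v => by
    show Multiplicative.ofAdd (perm (x * y) v.toAdd) = Multiplicative.ofAdd (perm x (perm y v.toAdd))
    exact congrArg Multiplicative.ofAdd (funext fun z => by simp [perm, rho_mul])

theorem card_WV : Nat.card (Multiplicative BB ⋊[phiV] Multiplicative VV) = 2 ^ 6 := by
  rw [SemidirectProduct.card, Nat.card_congr Multiplicative.toAdd, Nat.card_congr Multiplicative.toAdd,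
    Nat.card_eq_fintype_card, Nat.card_eq_fintype_card]
  rfl

theorem card_WD : Nat.card (Multiplicative CC ⋊[phiD] DihedralGroup 4) = 2 ^ 7 := by
  rw [SemidirectProduct.card, Nat.card_congr Multiplicative.toAdd, Nat.card_eq_fintype_card, Nat.card_eq_fintype_card]
  rfl

theorem fact_two {n k m : ℕ} (hn : n = 2 ^ k * m) (hm : ¬ 2 ∣ m) : n.factorization 2 = k := by
  have hm0 : m ≠ 0 := fun h => hm (h ▸ dvd_zero 2)
  rw [hn, Nat.factorization_mul (pow_ne_zero _ two_ne_zero) hm0, Finsupp.add_apply,
    Nat.factorization_eq_zero_of_not_dvd hm, Nat.Prime.factorization_pow Nat.prime_two,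
    Finsupp.single_eq_same, add_zero]

theorem alt_side (P : Sylow 2 ↥(alternatingGroup (Fin 8))) :
    Nonempty (Multiplicative BB ⋊[phiV] Multiplicative VV ≃* ↥(P : Subgroup ↥(alternatingGroup (Fin 8)))) := by
  let f : Multiplicative BB →* Equiv.Perm (Fin 8) :=
    MonoidHom.mk' (fun v => baseA v.toAdd) fun v w => baseA_mul _ _
  let g : Multiplicative VV →* Equiv.Perm (Fin 8) :=
    MonoidHom.mk' (fun x => topA x.toAdd) fun x y => topA_mul _ _
  obtain ⟨F, hF⟩ := exists_lift phiV (f.codRestrict (alternatingGroup (Fin 8)) fun v => by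
        have := evenA v.toAdd 0
        rw [show topA 0 = 1 by decide, mul_one] at this
        exact Equiv.Perm.mem_alternatingGroup.2 this)
      (g.codRestrict (alternatingGroup (Fin 8)) fun x => by
        have := evenA 0 x.toAdd
        rw [show baseA 0 = 1 by decide, one_mul] at this
        exact Equiv.Perm.mem_alternatingGroup.2 this)
      (fun x v => Subtype.ext (compatA x.toAdd v.toAdd))
      (fun v x h => faithA v.toAdd x.toAdd (congrArg Subtype.val h))
  refine sylow_of_embedding card_WV ?_ F hF P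
  exact fact_two (m := 315) (by
    have h1 := nat_card_alternatingGroup (α := Fin 8)
    rw [h1, Nat.card_eq_fintype_card, Fintype.card_fin]
    rfl) (by norm_num)

theorem sym_side (P : Sylow 2 (Equiv.Perm (Fin 8))) :
    Nonempty (Multiplicative CC ⋊[phiD] DihedralGroup 4 ≃* ↥(P : Subgroup (Equiv.Perm (Fin 8)))) := by
  let f : Multiplicative CC →* Equiv.Perm (Fin 8) :=
    MonoidHom.mk' (fun v => baseP v.toAdd) fun v w => baseP_mul _ _
  let g : DihedralGroup 4 →* Equiv.Perm (Fin 8) := MonoidHom.mk' topP topP_mul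
  obtain ⟨F, hF⟩ := exists_lift phiD f g (fun x v => compatP x v.toAdd) (fun v x h => faithP v.toAdd x h)
  refine sylow_of_embedding card_WD ?_ F hF P
  exact fact_two (m := 315) (by rw [Nat.card_perm, Nat.card_eq_fintype_card, Fintype.card_fin]; rfl) (by norm_num)

theorem scalar_of_commute (A : M4) (h1 : A * testT = testT * A) (h2 : A * testT' = testT' * A)
    (h3 : A * swapPlanes = swapPlanes * A) : ∃ c : ZMod 3, A = c • 1 := by
  refine ⟨A (.inl 0) (.inl 0), ?_⟩
  have e1 := fun i j => congrFun (congrFun h1 i) j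
  have e2 := fun i j => congrFun (congrFun h2 i) j
  have e3 := fun i j => congrFun (congrFun h3 i) j
  simp only [testT, testT', swapPlanes, blk, Matrix.mul_apply, Fintype.sum_sum_type, Fin.sum_univ_two,
    Sum.forall, Fin.forall_fin_two] at e1 e2 e3
  simp at e1 e2 e3
  ext (i | i) (j | j) <;> fin_cases i <;> fin_cases j <;> simp <;> grind

theorem psp_side (F : Type) [Field F] [Fintype F] (hF : Fintype.card F = 3) (Q : Sylow 2 (Cfsg.PSp 2 F)) :
    Nonempty (Multiplicative BB ⋊[phiV] Multiplicative VV ≃* ↥(Q : Subgroup (Cfsg.PSp 2 F))) := by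
  let e : ZMod 3 ≃+* F := ZMod.ringEquivOfPrime F Nat.prime_three hF
  let π : M4 →* Matrix (Fin 2 ⊕ Fin 2) (Fin 2 ⊕ Fin 2) F := (e : ZMod 3 →+* F).mapMatrix.toMonoidHom
  have hinj : Function.Injective π := fun A B h => by
    ext i j; exact e.injective (congrFun (congrFun h i) j)
  have hJ : π (Matrix.J (Fin 2) (ZMod 3)) = Matrix.J (Fin 2) F := by
    simp [π, Matrix.J, Matrix.fromBlocks_map, Matrix.map_one, Matrix.map_zero, Matrix.map_neg]
  have hsymp : ∀ A : M4, A * Matrix.J (Fin 2) (ZMod 3) * A.transpose = Matrix.J (Fin 2) (ZMod 3) →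
      π A ∈ Matrix.symplecticGroup (Fin 2) F := fun A hA => by
    rw [SymplecticGroup.mem_iff, ← hJ, show (π A).transpose = π A.transpose from rfl, ← map_mul, ← map_mul, hA]
  have hmem : ∀ A : M4, A ∈ Matrix.symplecticGroup (Fin 2) (ZMod 3) → π A ∈ Matrix.symplecticGroup (Fin 2) F :=
    fun A hA => hsymp A (SymplecticGroup.mem_iff.1 hA)
  have hb : ∀ v, π (baseS v) ∈ Matrix.symplecticGroup (Fin 2) F := fun v => hmem _ (by
    have ht : ∀ x, tauS x ∈ Matrix.symplecticGroup (Fin 2) (ZMod 3) := fun x => SymplecticGroup.mem_iff.2 (sympS x).2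
    exact mul_mem (mul_mem (mul_mem (pow_mem (ht _) _) (pow_mem (ht _) _)) (pow_mem (ht _) _)) (pow_mem (ht _) _))
  have ht : ∀ x, π (topS x) ∈ Matrix.symplecticGroup (Fin 2) F := fun x => hsymp _ (sympS x).1
  have hneg : (-1 : Matrix (Fin 2 ⊕ Fin 2) (Fin 2 ⊕ Fin 2) F) ∈ Matrix.symplecticGroup (Fin 2) F := by
    rw [SymplecticGroup.mem_iff]; simp
  let z : Matrix.symplecticGroup (Fin 2) F := ⟨-1, hneg⟩
  have hz : z ∈ Subgroup.center (Matrix.symplecticGroup (Fin 2) F) :=
    Subgroup.mem_center_iff.2 fun g => Subtype.ext (show g.1 * (-1) = (-1) * g.1 by simp)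
  let mk := QuotientGroup.mk' (Subgroup.center (Matrix.symplecticGroup (Fin 2) F))
  have hpm : ∀ (A B : M4) (hA : π A ∈ Matrix.symplecticGroup (Fin 2) F) (hB : π B ∈ Matrix.symplecticGroup (Fin 2) F),
      Pm A B → mk ⟨π A, hA⟩ = mk ⟨π B, hB⟩ := by
    rintro A B hA hB (rfl | rfl)
    · rfl
    · have he : (⟨π (-B), hA⟩ : Matrix.symplecticGroup (Fin 2) F) = ⟨π B, hB⟩ * z :=
        Subtype.ext (by simp [z, π]; ext i j; simp)
      rw [he, map_mul, show mk z = 1 from (QuotientGroup.eq_one_iff z).2 hz, mul_one]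
  let f : Multiplicative BB →* Cfsg.PSp 2 F := MonoidHom.mk' (fun v => mk ⟨π (baseS v.toAdd), hb _⟩) fun v w =>
    (hpm (baseS (v.toAdd + w.toAdd)) (baseS v.toAdd * baseS w.toAdd) (hb _)
      (by rw [map_mul]; exact mul_mem (hb _) (hb _)) (baseS_mul _ _)).trans
      ((congrArg mk (Subtype.ext (map_mul π _ _))).trans (map_mul mk _ _))
  let g : Multiplicative VV →* Cfsg.PSp 2 F := MonoidHom.mk' (fun x => mk ⟨π (topS x.toAdd), ht _⟩) fun x y =>
    (hpm (topS (x.toAdd + y.toAdd)) (topS x.toAdd * topS y.toAdd) (ht _)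
      (by rw [map_mul]; exact mul_mem (ht _) (ht _)) (topS_mul _ _)).trans
      ((congrArg mk (Subtype.ext (map_mul π _ _))).trans (map_mul mk _ _))
  obtain ⟨Φ, hΦ⟩ := exists_lift phiV f g (fun x v => by
      show mk _ * mk _ = mk _ * mk _
      rw [← map_mul, ← map_mul]
      have h := hpm (baseS (shift x.toAdd v.toAdd) * topS x.toAdd) (topS x.toAdd * baseS v.toAdd)
        (by rw [map_mul]; exact mul_mem (hb _) (ht _)) (by rw [map_mul]; exact mul_mem (ht _) (hb _)) (compatS _ _)
      convert h using 2 <;> exact Subtype.ext (map_mul π _ _).symm)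
    (fun v x h => by
      have h1 : (⟨π (baseS v.toAdd), hb _⟩ * ⟨π (topS x.toAdd), ht _⟩ : Matrix.symplecticGroup (Fin 2) F) ∈
          Subgroup.center (Matrix.symplecticGroup (Fin 2) F) := (QuotientGroup.eq_one_iff _).1 h
      have key : ∀ T : M4, T * Matrix.J (Fin 2) (ZMod 3) * T.transpose = Matrix.J (Fin 2) (ZMod 3) →
          baseS v.toAdd * topS x.toAdd * T = T * (baseS v.toAdd * topS x.toAdd) := fun T hT => hinj (by
        have := congrArg Subtype.val (Subgroup.mem_center_iff.1 h1 ⟨π T, hsymp T hT⟩)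
        simp only [Submonoid.coe_mul] at this
        simp only [map_mul]
        exact this.symm)
      exact faithS v.toAdd x.toAdd (key _ sympTest.1) (key _ sympTest.2.1) (key _ sympTest.2.2))
  refine sylow_of_embedding card_WV ?_ Φ hΦ Q
  have hcard := Classical.SpCount.card_symplecticGroup (F := F) 2
  rw [hF] at hcard
  norm_num [Finset.prod_range_succ] at hcard
  have hcen : (Subgroup.center (Matrix.symplecticGroup (Fin 2) F) : Set _) = {1, z} := by
    ext c
    refine ⟨fun hc => ?_, ?_⟩
    · obtain ⟨A, hA⟩ : ∃ A : M4, π A = c.1 := ⟨c.1.map e.symm, by ext i j; simp [π]⟩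
      have hcom : ∀ T : M4, T * Matrix.J (Fin 2) (ZMod 3) * T.transpose = Matrix.J (Fin 2) (ZMod 3) →
          A * T = T * A := fun T hT => hinj (by
        have := congrArg Subtype.val (Subgroup.mem_center_iff.1 hc ⟨π T, hsymp T hT⟩)
        simp only [Submonoid.coe_mul] at this
        simp only [map_mul, hA]
        exact this.symm)
      obtain ⟨r, rfl⟩ := scalar_of_commute A (hcom _ sympTest.1) (hcom _ sympTest.2.1) (hcom _ sympTest.2.2)
      have hS : r • (1 : M4) * Matrix.J (Fin 2) (ZMod 3) * (r • (1 : M4)).transpose = Matrix.J (Fin 2) (ZMod 3) := by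
        apply hinj
        have := SymplecticGroup.mem_iff.1 c.2
        rw [← hA, ← hJ, show (π (r • (1 : M4))).transpose = π (r • (1 : M4)).transpose from rfl, ← map_mul, ← map_mul] at this
        exact this
      rcases (show ∀ r : ZMod 3, r = 0 ∨ r = 1 ∨ r = -1 by decide) r with rfl | rfl | rfl
      · exact absurd hS (by decide +kernel)
      · exact Or.inl (Subtype.ext (by rw [← hA]; simp))
      · exact Or.inr (Subtype.ext (by rw [← hA]; simp [z, π]; ext i j; simp [Matrix.one_apply, apply_ite e]))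
    · rintro (rfl | rfl)
      · exact Subgroup.one_mem _
      · exact hz
  have hz1 : z ≠ 1 := fun h => by
    have h2 := congrFun (congrFun (congrArg Subtype.val h) (.inl 0)) (.inl 0)
    simp [z] at h2
    have h3 : e ((-1 : ZMod 3)) = e 1 := by rw [map_neg, map_one]; exact h2
    exact absurd (e.injective h3) (by decide)
  have hc2 : Nat.card (Subgroup.center (Matrix.symplecticGroup (Fin 2) F)) = 2 := by
    have h := Nat.card_coe_set_eq (Subgroup.center (Matrix.symplecticGroup (Fin 2) F) : Set (Matrix.symplecticGroup (Fin 2) F))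
    rw [hcen, Set.ncard_pair (Ne.symm hz1)] at h
    exact (Nat.card_congr (Equiv.setCongr hcen)).trans h
  have h2 := Subgroup.card_mul_index (Subgroup.center (Matrix.symplecticGroup (Fin 2) F))
  rw [hc2, Subgroup.index_eq_card, hcard] at h2
  exact fact_two (m := 405) (show Nat.card (Cfsg.PSp 2 F) = 2 ^ 6 * 405 by show Nat.card (_ ⧸ _) = _; omega) (by norm_num)

theorem orth_side (K : Type) [Field K] [Fintype K] (hK : Fintype.card K = 2) (a b : K)
    (hab : ∀ z₁ z₂ : K, z₁ ^ 2 + a * z₁ * z₂ + b * z₂ ^ 2 = 0 → z₁ = 0 ∧ z₂ = 0)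
    (P : Sylow 2 ↥(Cfsg.isometryGroup K (Cfsg.quadFormMinus 2 K a b))) :
    Nonempty (Multiplicative CC ⋊[phiD] DihedralGroup 4 ≃*
      ↥(P : Subgroup ↥(Cfsg.isometryGroup K (Cfsg.quadFormMinus 2 K a b)))) := by
  let e : ZMod 2 ≃+* K := ZMod.ringEquivOfPrime K Nat.prime_two hK
  have h01 : ∀ x : K, x = 0 ∨ x = 1 := fun x => by
    obtain ⟨c, rfl⟩ := e.surjective x
    rcases (show ∀ c : ZMod 2, c = 0 ∨ c = 1 by decide) c with rfl | rfl
    · exact Or.inl (map_zero e)
    · exact Or.inr (map_one e)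
  have h11 : (1 : K) + 1 = 0 := by rw [← map_one e, ← map_add, show (1 : ZMod 2) + 1 = 0 by decide, map_zero]
  have hb : b = 1 := (h01 b).resolve_left fun h => by
    have := hab 0 1 (by rw [h]; ring)
    exact one_ne_zero this.2
  have ha : a = 1 := (h01 a).resolve_left fun h => by
    have := hab 1 1 (by rw [h, hb]; linear_combination h11)
    exact one_ne_zero this.1
  let π : Matrix I6 I6 (ZMod 2) →* Matrix I6 I6 K := (e : ZMod 2 →+* K).mapMatrix.toMonoidHom
  have hinj : Function.Injective π := fun A B h => by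
    ext i j; exact e.injective (congrFun (congrFun h i) j)
  have hq : ∀ x : I6 → ZMod 2, Cfsg.quadFormMinus 2 K a b (fun i => e (x i)) = e (qf x) := by
    intro x
    simp only [Cfsg.quadFormMinus, ha, hb, qf, Fin.sum_univ_two, map_add, map_mul]
    ring
  have hiso : ∀ A : Matrix I6 I6 (ZMod 2), (∀ x, qf (A.mulVec x) = qf x) → ∀ u : I6 → K,
      Cfsg.quadFormMinus 2 K a b ((π A).mulVec u) = Cfsg.quadFormMinus 2 K a b u := by
    intro A hA u
    obtain ⟨x, rfl⟩ : ∃ x : I6 → ZMod 2, (fun i => e (x i)) = u := ⟨fun i => e.symm (u i), by simp⟩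
    have hm : (π A).mulVec (fun i => e (x i)) = fun i => e (A.mulVec x i) := by
      ext i; simp [π, Matrix.mulVec, dotProduct, map_sum]
    rw [hm, hq, hq, hA]
  let f₀ : Multiplicative CC →* Matrix I6 I6 K := π.comp
    { toFun := fun v => baseO v.toAdd
      map_one' := by
        show baseO 0 = 1
        decide +kernel
      map_mul' := fun v w => baseO_mul _ _ }
  let g₀ : DihedralGroup 4 →* Matrix I6 I6 K := π.comp
    { toFun := topO
      map_one' := by decide +kernel
      map_mul' := topO_mul }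
  let f : Multiplicative CC →* ↥(Cfsg.isometryGroup K (Cfsg.quadFormMinus 2 K a b)) :=
    f₀.toHomUnits.codRestrict _ fun v => by
      intro u _
      show Cfsg.quadFormMinus 2 K a b ((π (baseO v.toAdd)).mulVec u) = _
      apply hiso
      rw [baseO_prod]
      intro x
      have hp : ∀ (k : ZMod 4) (n : ℕ) (x : I6 → ZMod 2), qf ((siegel (ww k) ^ n).mulVec x) = qf x := by
        intro k n
        induction n with
        | zero => intro x; rw [pow_zero, Matrix.one_mulVec]
        | succ n ih => intro x; rw [pow_succ, ← Matrix.mulVec_mulVec, ih, isoO']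
      simp only [← Matrix.mulVec_mulVec, hp]
  let g : DihedralGroup 4 →* ↥(Cfsg.isometryGroup K (Cfsg.quadFormMinus 2 K a b)) :=
    g₀.toHomUnits.codRestrict _ fun x => fun u _ => hiso _ (isoO x) u
  obtain ⟨Φ, hΦ⟩ := exists_lift phiD f g
    (fun x v => Subtype.ext (Units.ext (by
      show π _ * π _ = π _ * π _
      rw [← map_mul, ← map_mul]
      exact congrArg π (compatO x v.toAdd))))
    (fun v x h => faithO v.toAdd x (hinj (by
      rw [map_mul, map_one]
      exact congrArg (fun t : ↥(Cfsg.isometryGroup K (Cfsg.quadFormMinus 2 K a b)) => ((t : Matrix.GeneralLinearGroup I6 K) : Matrix I6 I6 K)) h)))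
  refine sylow_of_embedding card_WD ?_ Φ hΦ P
  refine fact_two (m := 405) ?_ (by norm_num)
  have := Cfsg.Agent.S0288.result hK 3 (by norm_num) a b hab
  rw [show (3 : ℕ) - 1 = 2 from rfl] at this
  rw [this]
  norm_num [Finset.prod_range_succ]

/-- The Sylow 2-subgroups of the alternating group of degree 8 and of PSp₄(3) are isomorphic, and so are the Sylow 2-subgroups of the symmetric group of degree 8 and of the full isometry group of a non-degenerate quadratic form of minus type in dimension 6 over the field with 2 elements. -/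
theorem result (F : Type) [Field F] [Fintype F] (hF : Fintype.card F = 3) (K : Type) [Field K] [Fintype K] (hK : Fintype.card K = 2) (a b : K) (hab : ∀ z₁ z₂ : K, z₁ ^ 2 + a * z₁ * z₂ + b * z₂ ^ 2 = 0 → z₁ = 0 ∧ z₂ = 0) (P : Sylow 2 ↥(alternatingGroup (Fin 8))) (Q : Sylow 2 (Cfsg.PSp 2 F)) (P' : Sylow 2 (Equiv.Perm (Fin 8))) (Q' : Sylow 2 ↥(Cfsg.isometryGroup K (Cfsg.quadFormMinus 2 K a b))) : Nonempty (↥(P : Subgroup ↥(alternatingGroup (Fin 8))) ≃* ↥(Q : Subgroup (Cfsg.PSp 2 F))) ∧ Nonempty (↥(P' : Subgroup (Equiv.Perm (Fin 8))) ≃* ↥(Q' : Subgroup ↥(Cfsg.isometryGroup K (Cfsg.quadFormMinus 2 K a b)))) := by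
  obtain ⟨e₁⟩ := alt_side P
  obtain ⟨e₂⟩ := psp_side F hF Q
  obtain ⟨e₃⟩ := sym_side P'
  obtain ⟨e₄⟩ := orth_side K hK a b hab Q'
  exact ⟨⟨e₁.symm.trans e₂⟩, ⟨e₃.symm.trans e₄⟩⟩

end Cfsg.Agent.S2931
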