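import Cfsg.Statements.S2932
import Cfsg.Agent.Lib.PushUp.NaturalSemilinear
import Cfsg.Agent.Lib.PushUp.NaturalSeven
import Cfsg.Agent.Lib.Small.SL2.Classes
import Cfsg.Agent.Lib.Lie.ConstrainedEight
import Cfsg.Agent.Lib.Local.ElemAb

set_option autoImplicit false
open Cfsg

namespace Cfsg.Agent.S2932

/-- Let p be a prime. Inside a finite ambient group let V be an elementary abelian p-subgroup and G a subgroup normalizing V and acting faithfully on it (G ∩ C(V) = 1), and let L ≤ G act on V as SL₂(F) on its natural module, F a finite field of characteristic p, with L ≅ SL₂(F). If every Sylow p-subgroup of N_G(L) is a Sylow p-subgroup of G, then either L is normal in G, or F has 4 elements and G is isomorphic to the alternating group of degree 7. -/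
theorem result {X : Type*} [Group X] [Finite X] {p : ℕ} [Fact p.Prime] (F : Type) [Field F] [Fintype F] [CharP F p] (V G L : Subgroup X) (hV : Cfsg.IsElementaryAbelian p V) (hGV : G ≤ Subgroup.normalizer (V : Set X)) (hfaith : G ⊓ Subgroup.centralizer (V : Set X) = ⊥) (hLG : L ≤ G) (hnat : Cfsg.IsNaturalSL2Module F V L) (hLiso : Nonempty (↥L ≃* Matrix.SpecialLinearGroup (Fin 2) F)) (hSyl : ∀ S : Sylow p ↥(G ⊓ Subgroup.normalizer (L : Set X)), ∀ P : Sylow p ↥G, Nat.card S = Nat.card P) : (L.subgroupOf G).Normal ∨ (Fintype.card F = 4 ∧ Nonempty (↥G ≃* ↥(alternatingGroup (Fin 7)))) := by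
  classical
  have hVc : ∀ x ∈ V, ∀ y ∈ V, x * y = y * x := fun x hx y hy => Local.elemAb_commute hV hx hy
  letI : CommGroup V := { (inferInstance : Group V) with mul_comm := fun a b => Subtype.ext (hVc a a.2 b b.2) }
  have hconj : ∀ g : G, ∀ v : X, v ∈ V → (g : X) * v * (g : X)⁻¹ ∈ V := fun g v hv =>
    (Subgroup.mem_normalizer_iff.1 (hGV g.2) v).1 hv
  let ρ : G →* AddMonoid.End (Additive V) :=
    { toFun := fun g => MonoidHom.toAdditive (MonoidHom.mk' (fun v : V => (⟨(g : X) * v * (g : X)⁻¹, hconj g v v.2⟩ : V))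
        fun a b => Subtype.ext (by show (g : X) * ((a : X) * b) * (g : X)⁻¹ = _ * _; group))
      map_one' := AddMonoidHom.ext fun v => Additive.toMul.injective (Subtype.ext (by
        show ((1 : G) : X) * ((Additive.toMul v : V) : X) * ((1 : G) : X)⁻¹ = _
        rw [OneMemClass.coe_one, one_mul, inv_one, mul_one]; rfl))
      map_mul' := fun g h => AddMonoidHom.ext fun v => Additive.toMul.injective (Subtype.ext (by
        show ((g : X) * h) * ((Additive.toMul v : V) : X) * ((g : X) * h)⁻¹ =
          (g : X) * ((h : X) * ((Additive.toMul v : V) : X) * (h : X)⁻¹) * (g : X)⁻¹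
        group)) }
  have hexp : ∀ v : Additive V, p • v = 0 := fun v => Additive.toMul.injective (Subtype.ext (by
    show (((Additive.toMul v : V) ^ p : V) : X) = 1
    rw [Subgroup.coe_pow]
    exact hV.2 _ (Additive.toMul v).2))
  have hfaith' : ∀ g : G, (∀ v, ρ g v = v) → g = 1 := fun g hg => by
    refine Subtype.ext (Subgroup.mem_bot.1 (hfaith ▸ Subgroup.mem_inf.2 ⟨g.2, Subgroup.mem_centralizer_iff.2 ?_⟩))
    intro v hv
    have h1 : (g : X) * v * (g : X)⁻¹ = v :=
      congrArg (fun w : Additive V => ((Additive.toMul w : V) : X)) (hg (Additive.ofMul (⟨v, hv⟩ : V)))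
    exact (mul_inv_eq_iff_eq_mul.1 h1).symm
  obtain ⟨hLV, R, ψ, hRs, hRk, hcompat⟩ := hnat
  have hRinj : Function.Injective R := by
    rw [← MonoidHom.ker_eq_bot_iff, hRk, eq_bot_iff]
    intro l hl
    exact Subgroup.mem_bot.2 (Subtype.ext (Subgroup.mem_bot.1 (hfaith ▸ Subgroup.mem_inf.2 ⟨hLG l.2, hl⟩)))
  let eL := MulEquiv.ofBijective R ⟨hRinj, hRs⟩
  let j : Matrix.SpecialLinearGroup (Fin 2) F →* G := (Subgroup.inclusion hLG).comp eL.symm.toMonoidHom
  have hjinj : Function.Injective j := (Subgroup.inclusion_injective hLG).comp eL.symm.injective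
  have hjr : j.range = L.subgroupOf G := by
    ext g
    rw [Subgroup.mem_subgroupOf]
    constructor
    · rintro ⟨M, rfl⟩; exact (eL.symm M).2
    · intro h
      refine ⟨eL ⟨g, h⟩, Subtype.ext ?_⟩
      show ((eL.symm (eL ⟨(g : X), h⟩) : L) : X) = g
      rw [eL.symm_apply_apply]
  have hact : ∀ M v, ψ (ρ (j M) v) = (M : Matrix (Fin 2) (Fin 2) F).mulVec (ψ v) := fun M v => by
    obtain ⟨w, hw1, hw2⟩ := hcompat (eL.symm M) (Additive.toMul v)
    have h1 : ρ (j M) v = Additive.ofMul w := Additive.toMul.injective (Subtype.ext hw1.symm)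
    rw [h1, hw2, show R (eL.symm M) = M from eL.apply_symm_apply M]
    rfl
  -- a Sylow subgroup of the normalizer
  set N := Subgroup.normalizer (j.range : Set G) with hN
  obtain ⟨m, -, hm⟩ := FiniteField.card F p
  have hAp : IsPGroup p ((NatSL2.uni F).map j) := by
    refine IsPGroup.of_card (n := m) ?_
    rw [← hm, ← NatSL2.card_uni]
    exact (Nat.card_congr ((NatSL2.uni F).equivMapOfInjective j hjinj).toEquiv).symm
  obtain ⟨T, hT, hAT⟩ := Fusion.exists_sylIn_ge hAp
    ((j.range_eq_map ▸ Subgroup.map_mono le_top : (NatSL2.uni F).map j ≤ j.range).trans Subgroup.le_normalizer)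
  have hTsyl : Fusion.SylIn p T ⊤ := by
    let S : Sylow p ↥(G ⊓ Subgroup.normalizer (L : Set X)) := default
    let P : Sylow p G := default
    let ι : ↥(G ⊓ Subgroup.normalizer (L : Set X)) →* G := Subgroup.inclusion inf_le_left
    have hι : Function.Injective ι := Subgroup.inclusion_injective _
    have hle : (S : Subgroup _).map ι ≤ N := by
      rintro _ ⟨x, -, rfl⟩
      rw [hN, Subgroup.mem_normalizer_iff]
      intro h
      rw [hjr, Subgroup.mem_subgroupOf, Subgroup.mem_subgroupOf]
      exact Subgroup.mem_normalizer_iff.1 x.2.2 (h : X)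
    refine (Fusion.sylIn_top P).of_card_ge hT.isPGroup le_top ?_
    refine le_trans ?_ (hT.card_le (S.isPGroup'.map ι) hle)
    rw [← Nat.card_congr ((S : Subgroup _).equivMapOfInjective ι hι).toEquiv]
    exact (hSyl S P).ge
  have D : NatNormal.Co ρ j ψ T p := ⟨hexp, hfaith', hjinj, hact, hTsyl, hAT, hT.le⟩
  by_cases hn : j.range.Normal
  · exact Or.inl (hjr ▸ hn)
  obtain ⟨hp2, hA4, t, htT, htA⟩ := D.setup.normal_or.resolve_left hn
  subst hp2
  have hF4 : Fintype.card F = 4 := by rw [← D.card_A, hA4]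
  refine Or.inr ⟨hF4, ?_⟩
  have hT8 : Nat.card T = 8 := by
    have hle : Nat.card T ≤ 8 := by
      have := D.card_T_le (n := 2) (by rw [hF4]; norm_num)
      omega
    have hlt : 4 < Nat.card T := by
      rw [← hA4]
      exact lt_of_le_of_ne (Subgroup.card_le_of_le hAT) fun h =>
        htA ((Subgroup.eq_of_le_of_card_ge hAT h.ge).symm ▸ htT)
    obtain ⟨k, hk⟩ := IsPGroup.iff_card.1 hT.isPGroup
    have h1 : k ≤ 3 := (Nat.pow_le_pow_iff_right Nat.one_lt_two).1 (by rw [← hk]; simpa using hle)
    interval_cases k <;> omega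
  have hL60 : Nat.card j.range = 60 := by
    rw [← Nat.card_congr (j.ofInjective hjinj).toEquiv]
    have := Small.SL2C.card_SL2 (F := F)
    rw [hF4] at this
    simpa using this
  haveI := D.isSimpleGroup_range hF4 rfl
  letI : Module (ZMod 2) (Additive V) := AddCommGroup.zmodModule hexp
  let φ : G →* (Additive V ≃ₗ[ZMod 2] Additive V) :=
    MonoidHom.mk' (fun g => LinearEquiv.ofLinear ((ρ g : Additive V →+ Additive V).toZModLinearMap 2)
        ((ρ g⁻¹ : Additive V →+ Additive V).toZModLinearMap 2)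
        (LinearMap.ext fun v => BestOff.act_self_inv ρ g v) (LinearMap.ext fun v => BestOff.act_inv_self ρ g v))
      fun g h => LinearEquiv.ext fun v => BestOff.act_mul ρ g h v
  have hφ : Function.Injective φ := by
    rw [← MonoidHom.ker_eq_bot_iff, eq_bot_iff]
    exact fun g hg => Subgroup.mem_bot.2 (hfaith' g fun v => DFunLike.congr_fun (MonoidHom.mem_ker.1 hg) v)
  obtain ⟨f, hf⟩ := Lie.ConstrainedEight.embed_aut (V := Additive V) (by rw [D.setup.cardX, hA4])
  exact D.setup.seven hA4 hL60 hT8 (fun t ht h => D.cent ht h) (f.comp φ) (hf.comp hφ) hn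

end Cfsg.Agent.S2932
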