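import Cfsg.Statements.S2933
import Cfsg.Agent.Lib.Lie.FixedLayersModels
import Cfsg.Agent.Lib.Lie.FixedLayersAbelian

set_option autoImplicit false
open Cfsg

namespace Cfsg.Agent.S2933

/-- Let T be a 2-subgroup of a finite group G, V ≤ Z(T) a four-group, and t, ρ ∈ N_G(V) ∩ N_G(T) elements of order 2 and 3 with t commuting with ρ and with V. If [V, ρ] = V and C_T(t) = V, then T is elementary abelian of order 16, or homocyclic of rank 2 (ℤ/2ⁿ × ℤ/2ⁿ for some n ≥ 1), or isomorphic to a Sylow 2-subgroup of PSL₃(4) or of PSU₃(4). -/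
theorem result {G : Type*} [Group G] [Finite G] (T V : Subgroup G) (hT : IsPGroup 2 ↥T) (hVT : V ≤ T ⊓ Subgroup.centralizer (T : Set G)) (hV : Nat.card ↥V = 4 ∧ ∀ v ∈ V, v ^ 2 = 1) (t ρ : G) (ht : orderOf t = 2) (hρ : orderOf ρ = 3) (htn : t ∈ Subgroup.normalizer (V : Set G) ⊓ Subgroup.normalizer (T : Set G)) (hρn : ρ ∈ Subgroup.normalizer (V : Set G) ⊓ Subgroup.normalizer (T : Set G)) (htρ : t * ρ = ρ * t) (htV : t ∈ Subgroup.centralizer (V : Set G)) (hVρ : ⁅V, Subgroup.zpowers ρ⁆ = V) (hCt : T ⊓ Subgroup.centralizer ({t} : Set G) = V) : (Nat.card ↥T = 16 ∧ ∀ x ∈ T, x ^ 2 = 1) ∨ (∃ n : ℕ, 1 ≤ n ∧ Nonempty (↥T ≃* Multiplicative (ZMod (2 ^ n)) × Multiplicative (ZMod (2 ^ n)))) ∨ (∃ (F : Type) (_ : Field F) (_ : Fintype F), Fintype.card F = 4 ∧ ∀ P : Sylow 2 (Matrix.ProjectiveSpecialLinearGroup (Fin 3) F), Nonempty (↥T ≃* ↥(P : Subgroup (Matrix.ProjectiveSpecialLinearGroup (Fin 3) F)))) ∨ (∃ (F : Type) (_ : Field F) (_ : Fintype F), Fintype.card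 F = 16 ∧ ∀ P : Sylow 2 (Cfsg.PSU 3 F 4), Nonempty (↥T ≃* ↥(P : Subgroup (Cfsg.PSU 3 F 4)))) := by
  classical
  haveI : Fact (Nat.Prime 2) := ⟨Nat.prime_two⟩
  obtain ⟨htV', htT⟩ := Subgroup.mem_inf.1 htn
  obtain ⟨hρV, hρT⟩ := Subgroup.mem_inf.1 hρn
  let α : MulAut ↥T := T.normalizerMonoidHom ⟨t, htT⟩
  let r : MulAut ↥T := T.normalizerMonoidHom ⟨ρ, hρT⟩
  have hα : ∀ x : ↥T, ((α x : ↥T) : G) = t * x * t⁻¹ := fun x => rfl
  have hr : ∀ x : ↥T, ((r x : ↥T) : G) = ρ * x * ρ⁻¹ := fun x => rfl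
  have hVT : ∀ {v : G}, v ∈ V → v ∈ T := fun hv => (hVT hv).1
  have hfix : ∀ x : ↥T, α x = x ↔ (x : G) ∈ V := by
    intro x
    rw [← hCt, Subgroup.mem_inf, Subgroup.mem_centralizer_singleton_iff, Subtype.ext_iff, hα,
      mul_inv_eq_iff_eq_mul]
    exact ⟨fun h => ⟨x.2, h.symm⟩, fun h => h.2.symm⟩
  have hρ3 : ρ ^ 3 = 1 := by rw [← hρ]; exact pow_orderOf_eq_one ρ
  have ht2 : t * t = 1 := by rw [← pow_two, ← ht]; exact pow_orderOf_eq_one t
  have hr3 : r ^ 3 = 1 := by
    rw [← map_pow, show (⟨ρ, hρT⟩ : ↥(Subgroup.normalizer (T : Set G))) ^ 3 = 1 from Subtype.ext hρ3,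
      map_one]
  -- conjugation by `ρ` fixes no involution of `V`
  let f : G → G := fun v => ρ * v * ρ⁻¹
  have hfV : ∀ v ∈ V, f v ∈ V := fun v hv => (Subgroup.mem_normalizer_iff.1 hρV v).1 hv
  have hfi : Function.Injective f := fun a b h => by simpa [f] using h
  have hf3 : ∀ v, f (f (f v)) = v := fun v => by
    show ρ * (ρ * (ρ * v * ρ⁻¹) * ρ⁻¹) * ρ⁻¹ = v
    rw [show ρ * (ρ * (ρ * v * ρ⁻¹) * ρ⁻¹) * ρ⁻¹ = (ρ * ρ * ρ) * v * (ρ * ρ * ρ)⁻¹ by group,
      ← pow_three', hρ3]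
    group
  have hmove : ∀ a ∈ V, a ≠ 1 → f a ≠ a := by
    intro a ha ha1 hfa
    have hall : ∀ v ∈ V, f v = v := by
      intro v hv
      by_contra hne
      have h1 : v ≠ 1 := fun h => hne (by subst h; simp [f])
      have h2 : v ≠ a := fun h => hne (by rw [h, hfa])
      have e1 : f v ≠ 1 := fun h => h1 (hfi (h.trans (by simp [f])))
      have e2 : f v ≠ a := fun h => h2 (hfi (h.trans hfa.symm))
      have e3 : f (f v) ≠ 1 := fun h => e1 (hfi (h.trans (by simp [f])))
      have e4 : f (f v) ≠ a := fun h => e2 (hfi (h.trans hfa.symm))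
      have e5 : f (f v) ≠ f v := fun h => hne (hfi h)
      have e6 : f (f v) ≠ v := fun h => hne (by
        calc f v = f (f (f v)) := by rw [h]
          _ = v := hf3 v)
      have hsub : (({1, a, v, f v, f (f v)} : Finset G) : Set G) ⊆ V := by
        intro w hw
        simp only [Finset.coe_insert, Finset.coe_singleton, Set.mem_insert_iff, Set.mem_singleton_iff] at hw
        rcases hw with rfl | rfl | rfl | rfl | rfl
        exacts [V.one_mem, ha, hv, hfV _ hv, hfV _ (hfV _ hv)]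
      have := Set.ncard_le_ncard hsub (Set.toFinite _)
      rw [Set.ncard_coe_finset, ← Nat.card_coe_set_eq] at this
      simp only [SetLike.coe_sort_coe] at this
      rw [Finset.card_insert_of_notMem (by simp [ha1.symm, h1.symm, e1.symm, e3.symm]),
        Finset.card_insert_of_notMem (by simp [h2.symm, e2.symm, e4.symm]),
        Finset.card_insert_of_notMem (by simp [Ne.symm hne, e6.symm]),
        Finset.card_insert_of_notMem (by simp [e5.symm]), Finset.card_singleton, hV.1] at this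
      omega
    have hcen : ∀ g ∈ Subgroup.zpowers ρ, ∀ v ∈ V, g * v = v * g := by
      intro g hg v hv
      obtain ⟨i, rfl⟩ := Subgroup.mem_zpowers_iff.1 hg
      exact Commute.zpow_left (show Commute ρ v from mul_inv_eq_iff_eq_mul.1 (hall v hv)) i
    have h0 : ⁅V, Subgroup.zpowers ρ⁆ = ⊥ := by
      rw [Subgroup.commutator_eq_bot_iff_le_centralizer]
      exact fun v hv => Subgroup.mem_centralizer_iff.2 fun g hg => hcen g hg v hv
    rw [hVρ] at h0
    have := hV.1
    rw [h0, Subgroup.card_bot] at this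
    omega
  have htrans : ∀ a ∈ V, ∀ b ∈ V, a ≠ 1 → b ≠ 1 → b = a ∨ b = f a ∨ b = f (f a) := by
    intro a ha b hb ha1 hb1
    by_contra hcon
    push Not at hcon
    obtain ⟨b1, b2, b3⟩ := hcon
    have e1 : f a ≠ 1 := fun h => ha1 (hfi (h.trans (by simp [f])))
    have e3 : f (f a) ≠ 1 := fun h => e1 (hfi (h.trans (by simp [f])))
    have e5 := hmove _ (hfV _ ha) e1
    have e6 : f (f a) ≠ a := fun h => hmove _ ha ha1 (by
      calc f a = f (f (f a)) := by rw [h]
        _ = a := hf3 a)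
    have e2 := hmove _ ha ha1
    have hsub : (({1, a, f a, f (f a), b} : Finset G) : Set G) ⊆ V := by
      intro w hw
      simp only [Finset.coe_insert, Finset.coe_singleton, Set.mem_insert_iff, Set.mem_singleton_iff] at hw
      rcases hw with rfl | rfl | rfl | rfl | rfl
      exacts [V.one_mem, ha, hfV _ ha, hfV _ (hfV _ ha), hb]
    have := Set.ncard_le_ncard hsub (Set.toFinite _)
    rw [Set.ncard_coe_finset, ← Nat.card_coe_set_eq] at this
    simp only [SetLike.coe_sort_coe] at this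
    rw [Finset.card_insert_of_notMem (by simp [ha1.symm, e1.symm, e3.symm, hb1.symm]),
      Finset.card_insert_of_notMem (by simp [e2.symm, e6.symm, b1.symm]),
      Finset.card_insert_of_notMem (by simp [e5.symm, b2.symm]),
      Finset.card_insert_of_notMem (by simp [b3.symm]), Finset.card_singleton, hV.1] at this
    omega
  let d : Cfsg.Agent.Lie.FixedLayer.Data ↥T 2 :=
    { α := α
      ρ := r
      invol := fun x => Subtype.ext (by
        rw [hα, hα]
        rw [show t * (t * x * t⁻¹) * t⁻¹ = t * t * x * (t * t)⁻¹ by group, ht2]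
        group)
      comm := fun x => Subtype.ext (by
        rw [hα, hr, hr, hα]
        rw [show t * (ρ * x * ρ⁻¹) * t⁻¹ = t * ρ * x * (t * ρ)⁻¹ by group, htρ]
        group)
      card_fix := by
        show _ = 4
        rw [← hV.1]
        exact Nat.card_congr ((Equiv.subtypeEquivRight hfix).trans
          (Equiv.subtypeSubtypeEquivSubtype (p := fun g => g ∈ T) (q := fun g => g ∈ V) fun hv => hVT hv))
      fix_sq := fun x hx => Subtype.ext (by
        have := hV.2 _ ((hfix x).1 hx); rwa [pow_two] at this)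
      trans := fun x y hx hy hx1 hy1 => by
        rcases htrans _ ((hfix x).1 hx) _ ((hfix y).1 hy) (fun h => hx1 (Subtype.ext h))
          (fun h => hy1 (Subtype.ext h)) with h | h | h
        · exact ⟨0, Subtype.ext (by rw [pow_zero]; exact h.symm)⟩
        · exact ⟨1, Subtype.ext (by rw [pow_one, hr]; exact h.symm)⟩
        · exact ⟨2, Subtype.ext (by rw [pow_two, MulAut.mul_apply, hr, hr]; exact h.symm)⟩
      rho_pow := fun x => by rw [show 2 ^ 2 - 1 = 3 from rfl, hr3]; rfl }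
  by_cases hab : ∀ x y : ↥T, x * y = y * x
  · rcases d.abelian hT hab with ⟨h16, hexp⟩ | h
    · exact Or.inl ⟨h16, fun x hx => congrArg Subtype.val (hexp ⟨x, hx⟩)⟩
    · exact Or.inr (Or.inl h)
  · push Not at hab
    rcases Cfsg.Agent.Lie.FixedLayer.classify d hT le_rfl hab with h | h
    · rw [show (4 : ℕ) ^ 2 = 16 from rfl, show (2 : ℕ) ^ 2 = 4 from rfl] at h
      obtain ⟨F, i1, i2, hF, S, ⟨e⟩⟩ := h
      exact Or.inr (Or.inr (Or.inr ⟨F, i1, i2, hF, fun P => ⟨e.trans (S.equiv P)⟩⟩))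
    · obtain ⟨F, i1, i2, hF, S, ⟨e⟩⟩ := h
      exact Or.inr (Or.inr (Or.inl ⟨F, i1, i2, hF, fun P => ⟨e.trans (S.equiv P)⟩⟩))

end Cfsg.Agent.S2933
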