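import Cfsg.Statements.S2940
import Cfsg.Agent.Lib.Fusion.Basic
-- import your own Cfsg.Agent.* helpers here

set_option autoImplicit false
open Cfsg

namespace Cfsg.Agent.S2940

open Cfsg.Agent.Fusion

/-- Let S be a Sylow p-subgroup of the finite group G and G₁, G₂ subgroups containing S with G = G₁G₂. Then for every g ∈ G there is a Sylow p-subgroup U of G with S ∩ S^g ≤ U ≤ G₁ ∩ G₂^g (conjugates taken as X^g = g⁻¹Xg). -/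
theorem result {G : Type*} [Group G] [Finite G] {p : ℕ} [Fact p.Prime] (S : Sylow p G) (G₁ G₂ : Subgroup G) (h1 : (S : Subgroup G) ≤ G₁) (h2 : (S : Subgroup G) ≤ G₂) (hfact : ∀ g : G, ∃ g₁ ∈ G₁, ∃ g₂ ∈ G₂, g = g₁ * g₂) (g : G) : ∃ U : Sylow p G, (S : Subgroup G) ⊓ Cfsg.subgroupConjRight g (S : Subgroup G) ≤ (U : Subgroup G) ∧ (U : Subgroup G) ≤ G₁ ⊓ Cfsg.subgroupConjRight g G₂ := by
  obtain ⟨g₁, hg₁, g₂, hg₂, hg⟩ := hfact g⁻¹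
  have hK : cj (S : Subgroup G) g₁ ≤ G₁ ⊓ cj G₂ g⁻¹ :=
    le_inf ((cj_mono h1 _).trans (cj_eq_self_of_mem hg₁).le) (by
      rw [hg, ← cj_cj, cj_eq_self_of_mem hg₂]
      exact cj_mono h2 _)
  have hT : SylIn p (cj (S : Subgroup G) g₁) (G₁ ⊓ cj G₂ g⁻¹) :=
    (sylIn_top (g₁ • S)).mono hK le_top
  have hD : (S : Subgroup G) ⊓ cj (S : Subgroup G) g⁻¹ ≤ G₁ ⊓ cj G₂ g⁻¹ :=
    inf_le_inf h1 (cj_mono h2 _)
  obtain ⟨x, hx, hxD⟩ := hT.conj_le S.isPGroup'.to_inf_left hD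
  refine ⟨x⁻¹ • g₁ • S, ?_, ?_⟩
  · exact cj_le_iff.1 hxD
  · change cj (cj (S : Subgroup G) g₁) x⁻¹ ≤ G₁ ⊓ cj G₂ g⁻¹
    exact (cj_mono hK _).trans (cj_eq_self_of_mem (inv_mem hx)).le

end Cfsg.Agent.S2940
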