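import Cfsg.Statements.S2942
import Cfsg.Agent.Lib.JComp.Struct
-- import your own Cfsg.Agent.* helpers here

set_option autoImplicit false
open Cfsg

namespace Cfsg.Agent.S2942

/-- Let G be a finite group of characteristic 2 type in which every 2-local subgroup is solvable and the centralizer of Ω₁(Z(S)) lies in N_G(S) for every Sylow 2-subgroup S, and let T be a nontrivial 2-subgroup (below, J is the Thompson subgroup generated by the elementary abelian 2-subgroups of largest order). If L is a subgroup in which T is a Sylow 2-subgroup, with J(T) not contained in O₂(L) and C_G(O₂(L)) ≤ O₂(L), then every J(T)-component contained in L is subnormal in L. -/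
theorem result {G : Type*} [Group G] [Finite G] (hL : Cfsg.IsCharacteristicTwoType G) (hN : ∀ N : Subgroup G, Cfsg.IsTwoLocal N → Group.IsSolvable ↥N)
    (hZ : ∀ S : Sylow 2 G, Subgroup.centralizer (Cfsg.omegaCenterOf (S : Subgroup G) : Set G) ≤ Subgroup.normalizer ((S : Subgroup G) : Set G)) (T : Subgroup G) (hT : IsPGroup 2 ↥T) (hT1 : T ≠ ⊥) (L : Subgroup G) (hLT : L ∈ Cfsg.jOvergroups T)
    (K : Subgroup G) (hK : Cfsg.IsJComponent T K) (hKL : K ≤ L) : (K.subgroupOf L).IsSubnormal := by
  haveI : Fact (Nat.Prime 2) := ⟨Nat.prime_two⟩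
  have h : JComp.Hy T L := ⟨⟨hL, hN, hZ⟩, hT, hT1, hLT⟩
  obtain ⟨F⟩ := h.factors
  obtain ⟨k, E, d⟩ := JComp.component_in h F h rfl hK hKL
  set M := JComp.yOf T L ⊔ JComp.cOf L with hM
  have hML : M ≤ L := sup_le h.Y_le inf_le_left
  have hMn : L ≤ Subgroup.normalizer (M : Set G) := fun l hl => by
    rw [Agent.Fusion.mem_normalizer_iff_cj, hM, Agent.Fusion.cj_sup,
      Agent.Fusion.cj_eq_self (JComp.Hy.L_norm_Y hl), Agent.Fusion.cj_eq_self (JComp.Hy.L_norm_C L hl)]
  have hKM : K ≤ M := d.leY.trans le_sup_left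
  have h1 : (M.subgroupOf L).IsSubnormal :=
    (Subgroup.normal_subgroupOf_of_le_normalizer hMn).isSubnormal
  refine Subgroup.IsSubnormal.step _ (M.subgroupOf L) (fun x hx => hKM hx) h1 ⟨fun x hx g => ?_⟩
  exact (Subgroup.mem_normalizer_iff.1 (d.normal g.2) _).1 hx

end Cfsg.Agent.S2942
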