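import Cfsg.Statements.S2950
import Cfsg.Agent.Lib.JComp.Loc
-- import your own Cfsg.Agent.* helpers here

set_option autoImplicit false
open Cfsg

namespace Cfsg.Agent.S2950

/-- Uniqueness of the maximal 2-local overgroup. Let G be a finite group of characteristic 2 type in which every 2-local subgroup is solvable and the centralizer of Ω₁(Z(S)) lies in N_G(S) for every Sylow 2-subgroup S; suppose O₂(G) = 1, fix a Sylow 2-subgroup S and a 2-local subgroup M containing N_G(J(S)) (J the Thompson subgroup generated by the elementary abelian 2-subgroups of largest order). Let T be maximal (for the order of a largest elementary abelian subgroup, then the order of J(T), then the order of T) among the nontrivial 2-subgroups of M lying in a 2-local subgroup not inside M, and let K be a J(T)-component not contained in M with J(T) the Thompson subgroup of every Sylow 2-subgroup of N_G(W_K) containing J(T), and O₂(⟨K, T⟩) ≠ 1. Then there is exactly one maximal 2-local subgroup L of G containing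 ⟨K, J(T)⟩; moreover K is subnormal in L and T is a Sylow 2-subgroup of L. -/
theorem result {G : Type*} [Group G] [Finite G] (hL : Cfsg.IsCharacteristicTwoType G) (hN : ∀ N : Subgroup G, Cfsg.IsTwoLocal N → Group.IsSolvable ↥N)
    (hZ : ∀ S : Sylow 2 G, Subgroup.centralizer (Cfsg.omegaCenterOf (S : Subgroup G) : Set G) ≤ Subgroup.normalizer ((S : Subgroup G) : Set G)) (hO : Cfsg.pCore 2 G = ⊥) (S : Sylow 2 G) (M : Subgroup G) (hM : Cfsg.IsTwoLocal M)
    (hMJ : Subgroup.normalizer (Cfsg.thompsonSubgroupOf 2 (S : Subgroup G) : Set G) ≤ M) (T : Subgroup G) (hT : T ∈ Cfsg.maxStraddlingTwoSubgroups M)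
    (K : Subgroup G) (hK : K ∈ Cfsg.jComponentsOutside M T) :
    ∃ L : Subgroup G, Cfsg.IsMaximalTwoLocal L ∧ K ⊔ Cfsg.thompsonSubgroupOf 2 T ≤ L ∧
      (∀ L' : Subgroup G, Cfsg.IsMaximalTwoLocal L' → K ⊔ Cfsg.thompsonSubgroupOf 2 T ≤ L' → L' = L) ∧
      (K.subgroupOf L).IsSubnormal ∧ Cfsg.IsSylowTwoIn T L := by
  haveI : Fact (Nat.Prime 2) := ⟨Nat.prime_two⟩
  have _ := hM
  obtain ⟨⟨hKc, -⟩, hKM, hcore⟩ := hK
  have c : JComp.Ctx M T := ⟨⟨hL, hN, hZ⟩, hO, hT, S, hMJ⟩
  obtain ⟨hmax, hKL, hJL⟩ := c.loc_spec hKc hKM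
  have h := c.outside_hy hKc hKM hcore
  refine ⟨_, hmax, sup_le hKL hJL, fun L' hL' hle => c.eq_loc hKc hKM hL' hle, ?_, h.mem.1⟩
  obtain ⟨F⟩ := h.factors
  obtain ⟨k, E, d⟩ := JComp.component_in h F h rfl hKc hKL
  set L := JComp.locOf T K
  set N := JComp.yOf T L ⊔ JComp.cOf L with hNdef
  have hNn : L ≤ Subgroup.normalizer (N : Set G) := fun l hl => by
    rw [Agent.Fusion.mem_normalizer_iff_cj, hNdef, Agent.Fusion.cj_sup,
      Agent.Fusion.cj_eq_self (JComp.Hy.L_norm_Y hl), Agent.Fusion.cj_eq_self (JComp.Hy.L_norm_C L hl)]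
  refine Subgroup.IsSubnormal.step _ (N.subgroupOf L) (fun x hx => (d.leY.trans le_sup_left) hx)
    (Subgroup.normal_subgroupOf_of_le_normalizer hNn).isSubnormal ⟨fun x hx g => ?_⟩
  exact (Subgroup.mem_normalizer_iff.1 (d.normal g.2) _).1 hx

end Cfsg.Agent.S2950
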