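import Cfsg.Statements.S2951
import Cfsg.Agent.Lib.JComp.Cases
-- import your own Cfsg.Agent.* helpers here

set_option autoImplicit false
open Cfsg

namespace Cfsg.Agent.S2951

/-- Let G be a finite group of characteristic 2 type in which every 2-local subgroup is solvable and the centralizer of Ω₁(Z(S)) lies in N_G(S) for every Sylow 2-subgroup S; suppose O₂(G) = 1, fix a Sylow 2-subgroup S and a 2-local subgroup M containing N_G(J(S)) (J the Thompson subgroup generated by the elementary abelian 2-subgroups of largest order), and put Z = Ω₁(Z(S)). Let T ≤ S be maximal (for the order of a largest elementary abelian subgroup, then the order of J(T), then the order of T) among the nontrivial 2-subgroups of M lying in a 2-local subgroup not inside M, K a J(T)-component not contained in M with J(T) the Thompson subgroup of every Sylow 2-subgroup of N_G(W_K) containing J(T), and O₂(⟨K, T⟩) ≠ 1, L a maximal 2-local subgroup containing ⟨K, J(T)⟩ (there is only one),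 and Z₀ = Ω₁(Z(J(T))). Then Z₀ ∩ W_K ≠ 1, and one of: Z = Z₀ has order 2; Z = Z₀ has order 4 and T = S; Ω₁(Z(T)) = Z₀ has order 4 and C_L(Z₀) has index 2 in N_G(Z₀). -/
theorem result {G : Type*} [Group G] [Finite G] (hL : Cfsg.IsCharacteristicTwoType G) (hN : ∀ N : Subgroup G, Cfsg.IsTwoLocal N → Group.IsSolvable ↥N)
    (hZ : ∀ S : Sylow 2 G, Subgroup.centralizer (Cfsg.omegaCenterOf (S : Subgroup G) : Set G) ≤ Subgroup.normalizer ((S : Subgroup G) : Set G)) (hO : Cfsg.pCore 2 G = ⊥) (S : Sylow 2 G) (M : Subgroup G) (hM : Cfsg.IsTwoLocal M)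
    (hMJ : Subgroup.normalizer (Cfsg.thompsonSubgroupOf 2 (S : Subgroup G) : Set G) ≤ M) (T : Subgroup G) (hT : T ∈ Cfsg.maxStraddlingTwoSubgroups M)
    (hTS : T ≤ (S : Subgroup G)) (K : Subgroup G) (hK : K ∈ Cfsg.jComponentsOutside M T)
    (L : Subgroup G) (hLmax : Cfsg.IsMaximalTwoLocal L) (hKL : K ⊔ Cfsg.thompsonSubgroupOf 2 T ≤ L)
    (Z Z₀ : Subgroup G) (hZdef : Z = Cfsg.omegaCenterOf (S : Subgroup G)) (hZ₀ : Z₀ = Cfsg.omegaCenterOf (Cfsg.thompsonSubgroupOf 2 T)) :
    Z₀ ⊓ Cfsg.wOf K ≠ ⊥ ∧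
      ((Z = Z₀ ∧ Nat.card ↥Z₀ = 2) ∨ (Z = Z₀ ∧ Nat.card ↥Z₀ = 4 ∧ T = (S : Subgroup G)) ∨
        (Cfsg.omegaCenterOf T = Z₀ ∧ Nat.card ↥Z₀ = 4 ∧
          (L ⊓ Subgroup.centralizer (Z₀ : Set G)).relIndex (Subgroup.normalizer (Z₀ : Set G)) = 2)) := by
  haveI : Fact (Nat.Prime 2) := ⟨Nat.prime_two⟩
  have _ := hM
  subst hZdef hZ₀
  obtain ⟨⟨hKc, -⟩, hKM, hcore⟩ := hK
  have c : JComp.Ctx M T := ⟨⟨hL, hN, hZ⟩, hO, hT, S, hMJ⟩
  have h := c.outside_hy hKc hKM hcore
  obtain rfl := c.eq_loc hKc hKM hLmax hKL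
  obtain ⟨hfix, hne⟩ := JComp.fixZ_spec c.pT hKc
  refine ⟨hne, ?_⟩
  have h4 := (c.spec hKc hKM h).2
  have hTZ := c.zOf_eq hKc hKM h
  set Z := omegaCenterOf (S : Subgroup G)
  have hZle : Z ≤ JComp.zOf T := fun z hz => by
    have hzQ := h.centralizer_Q fun q hq => JComp.omegaCenter_comm hz (hTS (h.Q_le_T hq))
    exact JComp.omega_le_zOf T (JComp.mem_omegaCenter (h.Q_le_T hzQ) ((JComp.omegaCenter_el _).2 z hz)
      fun t ht => JComp.omegaCenter_comm hz (hTS ht))
  have hfpos : 1 ≤ Nat.card ↥(JComp.fixZ T K) := Nat.card_pos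
  rcases (show Nat.card ↥(JComp.zOf T) = 2 ∨ Nat.card ↥(JComp.zOf T) = 4 by omega) with h2 | h2
  · refine Or.inl ⟨Subgroup.eq_of_le_of_card_ge hZle ?_, h2⟩
    have hS1 : (S : Subgroup G) ≠ ⊥ := fun hb => hT.1.2.1 (le_bot_iff.1 (hb ▸ hTS))
    have hgt : 1 < Nat.card Z := (Subgroup.one_lt_card_iff_ne_bot _).2 (JComp.omega_ne_bot S.isPGroup' hS1)
    show Nat.card ↥(JComp.zOf T) ≤ _
    omega
  rcases eq_or_ne T (S : Subgroup G) with hTeq | hTeq
  · refine Or.inr (Or.inl ⟨?_, h2, hTeq⟩)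
    show Z = JComp.zOf T
    rw [← hTZ, hTeq]
  refine Or.inr (Or.inr ⟨hTZ, h2, ?_⟩)
  show (_ ⊓ Subgroup.centralizer (JComp.zOf T : Set G)).relIndex _ = 2
  set L := JComp.locOf T K
  obtain ⟨x, hxS, hxN, -, hKx, hKxM, hKxne⟩ := c.two_of_growth hKc hKM h S.isPGroup' hTS hTeq
  have hxJ := JComp.normalizer_le_J T hxN
  have hxZ := JComp.omegaCenter_norm hxJ
  obtain ⟨a, ha, ha1, -⟩ := JComp.exists_gen (show Nat.card ↥(JComp.fixZ T K) = 2 by omega)
  set b := x * a * x⁻¹ with hbdef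
  have hb : b ∈ JComp.fixZ T (Agent.Fusion.cj K x) := JComp.fixZ_conj hxJ K ▸ Agent.Fusion.conj_mem_cj ha
  have hab : a ≠ b := fun e => ha1 (Subgroup.mem_bot.1 (c.fixZ_inf hKc hKM hKx hKxM hKxne ▸
    Subgroup.mem_inf.2 ⟨ha, e ▸ hb⟩))
  have hb1 : b ≠ 1 := fun e => ha1 (conj_eq_one_iff.1 e)
  have haZ := (Subgroup.mem_inf.1 ha).1
  have hbZ := (Subgroup.mem_inf.1 hb).1
  have hfour := JComp.four_cases (JComp.omegaCenter_el _) h2 haZ hbZ ha1 hb1 hab
  -- the third involution is central in `S`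
  have hcen : Subgroup.centralizer {a * b} ≤ Subgroup.normalizer ((S : Subgroup G) : Set G) := by
    refine le_trans (fun y hy => Subgroup.mem_centralizer_iff.2 fun w hw => ?_) (hZ S)
    have hxw : x * w * x⁻¹ = w := by rw [JComp.omegaCenter_comm hw hxS, mul_inv_cancel_right]
    rcases hfour w (hZle hw) with e | e | e | e
    · rw [e, one_mul, mul_one]
    · exact absurd (by rw [e] at hxw; exact hxw.symm) hab
    · refine absurd ?_ hab
      rw [e] at hxw
      have h1 : x * b * x⁻¹ = x * a * x⁻¹ := hxw.trans hbdef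
      exact (mul_left_cancel (mul_right_cancel h1)).symm
    · rw [e]; exact (Subgroup.mem_centralizer_singleton_iff.1 hy).symm
  have hnc : ∀ g : G, g * a * g⁻¹ ≠ a * b := by
    intro g hg
    have hle : ∀ {X : Subgroup G}, X ≤ Subgroup.centralizer {a} → Agent.Fusion.cj X g ≤ Subgroup.normalizer ((S : Subgroup G) : Set G) := by
      intro X hX
      refine le_trans ?_ hcen
      rintro _ ⟨y, hy, rfl⟩
      refine Subgroup.mem_centralizer_singleton_iff.2 ?_
      show g * y * g⁻¹ * (a * b) = a * b * (g * y * g⁻¹)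
      rw [← hg]
      calc g * y * g⁻¹ * (g * a * g⁻¹) = g * (y * a) * g⁻¹ := by group
        _ = g * (a * y) * g⁻¹ := by rw [Subgroup.mem_centralizer_singleton_iff.1 (hX hy)]
        _ = _ := by group
    have hKg := hle (fun y hy => Subgroup.mem_centralizer_singleton_iff.2
      (Subgroup.mem_centralizer_iff.1 (Subgroup.mem_inf.1 ha).2 y hy))
    have hJg := hle (X := thompsonSubgroupOf 2 T) (fun y hy => Subgroup.mem_centralizer_singleton_iff.2
      (JComp.omegaCenter_comm haZ hy))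
    rw [JComp.thompson_cj] at hJg
    have hpJ : IsPGroup 2 ↥(thompsonSubgroupOf 2 (Agent.Fusion.cj T g)) :=
      (Agent.Fusion.isPGroup_cj c.pT g).to_le (JComp.J_le _)
    have hJS : thompsonSubgroupOf 2 (Agent.Fusion.cj T g) ≤ (S : Subgroup G) := le_sup_left.trans
      (S.is_maximal' (hpJ.to_sup_of_normal_right' S.isPGroup' hJg) le_sup_right).le
    have hKg' := JComp.component_cj hKc g
    refine JComp.component_ne_two hKg' S.isPGroup' ?_
    rw [← hKg'.2.1, Subgroup.commutator_le]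
    exact fun y hy j hj => (JComp.commutator_elem_mem (hJS hj) (hKg hy)).2
  have haL : Subgroup.centralizer {a} ≤ L := by
    have hX : IsTwoLocal (Subgroup.normalizer (Subgroup.zpowers a : Set G)) :=
      ⟨_, (Agent.Fusion.isPGroup_elementary (JComp.omegaCenter_el _)).to_le (Subgroup.zpowers_le.2 haZ),
        fun hb => ha1 (Subgroup.zpowers_eq_bot.1 hb), rfl⟩
    have hcle : ∀ {y : G}, y * a = a * y → y ∈ Subgroup.normalizer (Subgroup.zpowers a : Set G) := fun {y} hy => by
      rw [Agent.Fusion.mem_normalizer_iff_cj, Agent.Fusion.cj, MonoidHom.map_zpowers]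
      show Subgroup.zpowers (y * a * y⁻¹) = _
      rw [hy, mul_inv_cancel_right]
    exact fun y hy => c.le_loc hKc hKM hX (sup_le
      (fun k hk => hcle (Subgroup.mem_centralizer_iff.1 (Subgroup.mem_inf.1 ha).2 k hk))
      (fun j hj => hcle (JComp.omegaCenter_comm haZ hj))) (hcle (Subgroup.mem_centralizer_singleton_iff.1 hy))
  -- the normalizer permutes `a` and `b`
  set H := L ⊓ Subgroup.centralizer (JComp.zOf T : Set G)
  set N := Subgroup.normalizer (JComp.zOf T : Set G)
  have hperm : ∀ n ∈ N, n * a * n⁻¹ = a ∨ n * a * n⁻¹ = b := by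
    intro n hn
    rcases hfour _ ((Subgroup.mem_normalizer_iff.1 hn a).1 haZ) with e | e | e | e
    · exact absurd (conj_eq_one_iff.1 e) ha1
    · exact Or.inl e
    · exact Or.inr e
    · exact absurd e (hnc n)
  have hmem : ∀ n ∈ N, n ∈ H ↔ n * a * n⁻¹ = a := by
    intro n hn
    refine ⟨fun hnH => ?_, fun he => ?_⟩
    · rw [← Subgroup.mem_centralizer_iff.1 (Subgroup.mem_inf.1 hnH).2 a haZ, mul_inv_cancel_right]
    · have hna : n * a = a * n := mul_inv_eq_iff_eq_mul.1 he
      refine Subgroup.mem_inf.2 ⟨haL (Subgroup.mem_centralizer_singleton_iff.2 hna), ?_⟩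
      have hnb : n * b * n⁻¹ = b := by
        rcases hfour _ ((Subgroup.mem_normalizer_iff.1 hn b).1 hbZ) with e | e | e | e
        · exact absurd (conj_eq_one_iff.1 e) hb1
        · exact absurd (mul_left_cancel (mul_right_cancel (e.trans he.symm))).symm hab
        · exact e
        · exact absurd (show (n * x) * a * (n * x)⁻¹ = a * b by rw [← e, hbdef]; group) (hnc _)
      have hnb' : n * b = b * n := mul_inv_eq_iff_eq_mul.1 hnb
      refine Subgroup.mem_centralizer_iff.2 fun w hw => ?_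
      rcases hfour w hw with e | e | e | e <;> rw [e]
      · rw [one_mul, mul_one]
      · exact hna.symm
      · exact hnb'.symm
      · exact ((show Commute n a from hna).mul_right hnb').eq.symm
  refine (Subgroup.index_eq_two_iff (H := H.subgroupOf N)).2 ⟨⟨x, hxZ⟩, fun n => ?_⟩
  simp only [Subgroup.mem_subgroupOf, Subgroup.coe_mul]
  rw [hmem _ (mul_mem n.2 hxZ), hmem _ n.2]
  have e1 : (n : G) * x * a * ((n : G) * x)⁻¹ = n * b * (n : G)⁻¹ := by rw [hbdef]; group
  rw [e1]
  rcases hperm n n.2 with e | e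
  · refine Or.inr ⟨e, fun e' => hab ?_⟩
    exact (mul_left_cancel (mul_right_cancel (e'.trans e.symm))).symm
  · refine Or.inl ⟨?_, fun e' => hab (e'.symm.trans e)⟩
    rcases hfour _ ((Subgroup.mem_normalizer_iff.1 n.2 b).1 hbZ) with e' | e' | e' | e'
    · exact absurd (conj_eq_one_iff.1 e') hb1
    · exact e'
    · exact absurd (mul_left_cancel (mul_right_cancel (e.trans e'.symm))) hab
    · exact absurd (show ((n : G) * x) * a * ((n : G) * x)⁻¹ = a * b by rw [e1, e']) (hnc _)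

end Cfsg.Agent.S2951
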