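import Cfsg.Statements.S2954
import Cfsg.Agent.Lib.JComp.SymFour

set_option autoImplicit false
open Cfsg

namespace Cfsg.Agent.S2954

/-- Let G be a finite group of characteristic 2 type in which every 2-local subgroup is solvable and the centralizer of Ω₁(Z(S)) lies in N_G(S) for every Sylow 2-subgroup S; suppose O₂(G) = 1, fix a Sylow 2-subgroup S and a 2-local subgroup M containing N_G(J(S)) (J the Thompson subgroup generated by the elementary abelian 2-subgroups of largest order). If T is maximal (for the order of a largest elementary abelian subgroup, then the order of J(T), then the order of T) among the nontrivial 2-subgroups of M lying in a 2-local subgroup not inside M, then there are two distinct maximal 2-local subgroups P₁, P₂ of G, each having T as a Sylow 2-subgroup, that are both isomorphic to the symmetric group on four letters or both isomorphic to its direct product with a group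 of order 2. -/
theorem result {G : Type*} [Group G] [Finite G] (hL : Cfsg.IsCharacteristicTwoType G) (hN : ∀ N : Subgroup G, Cfsg.IsTwoLocal N → Group.IsSolvable ↥N)
    (hZ : ∀ S : Sylow 2 G, Subgroup.centralizer (Cfsg.omegaCenterOf (S : Subgroup G) : Set G) ≤ Subgroup.normalizer ((S : Subgroup G) : Set G)) (hO : Cfsg.pCore 2 G = ⊥) (S : Sylow 2 G) (M : Subgroup G) (hM : Cfsg.IsTwoLocal M)
    (hMJ : Subgroup.normalizer (Cfsg.thompsonSubgroupOf 2 (S : Subgroup G) : Set G) ≤ M) (T : Subgroup G) (hT : T ∈ Cfsg.maxStraddlingTwoSubgroups M) :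
    ∃ P₁ P₂ : Subgroup G, P₁ ≠ P₂ ∧ Cfsg.IsMaximalTwoLocal P₁ ∧ Cfsg.IsMaximalTwoLocal P₂ ∧
      Cfsg.IsSylowTwoIn T P₁ ∧ Cfsg.IsSylowTwoIn T P₂ ∧
      ((Nonempty (↥P₁ ≃* Equiv.Perm (Fin 4)) ∧ Nonempty (↥P₂ ≃* Equiv.Perm (Fin 4))) ∨
        (Nonempty (↥P₁ ≃* Equiv.Perm (Fin 4) × Multiplicative (ZMod 2)) ∧
          Nonempty (↥P₂ ≃* Equiv.Perm (Fin 4) × Multiplicative (ZMod 2)))) := by
  haveI : Fact (Nat.Prime 2) := ⟨Nat.prime_two⟩
  have _ := hM
  have c₀ : JComp.Ctx M T := ⟨⟨hL, hN, hZ⟩, hO, hT, S, hMJ⟩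
  obtain ⟨M', K₁, K₂, c, s₁, s₂, hne, hnc⟩ := c₀.exists_nc
  obtain ⟨h₁, h₂, -⟩ := c.nc_spec s₁ s₂ hne hnc
  obtain ⟨v₂, hv₂, hv₂Q⟩ := SetLike.not_le_iff_exists.1 hnc
  obtain ⟨v₁, hv₁, hv₁Q⟩ := SetLike.not_le_iff_exists.1 fun h => hnc (c.comm_symm s₂ s₁ h)
  obtain ⟨hi₁, hi₁'⟩ := s₁.iso_symFour c h₁ (Subgroup.mem_inf.1 (s₂.w_le_q c hv₁)).1 hv₁Q (JComp.wOf_el.2 v₁ hv₁)
  obtain ⟨hi₂, hi₂'⟩ := s₂.iso_symFour c h₂ (Subgroup.mem_inf.1 (s₁.w_le_q c hv₂)).1 hv₂Q (JComp.wOf_el.2 v₂ hv₂)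
  refine ⟨_, _, hne.symm, (c.loc_spec s₁.comp s₁.notM).1, (c.loc_spec s₂.comp s₂.notM).1, s₁.hy.mem.1, s₂.hy.mem.1, ?_⟩
  have h4 := (c.spec s₁.comp s₁.notM s₁.hy).2
  have hfix := (JComp.fixZ_spec c.pT s₁.comp).1
  have hpos : 1 ≤ Nat.card ↥(JComp.fixZ T K₁) := Nat.card_pos
  rcases (show Nat.card ↥(JComp.zOf T) = 2 ∨ Nat.card ↥(JComp.zOf T) = 4 by omega) with h | h
  · exact Or.inl ⟨hi₁ h, hi₂ h⟩
  · exact Or.inr ⟨hi₁' h, hi₂' h⟩

end Cfsg.Agent.S2954
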