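import Cfsg.Statements.S2955
import Cfsg.Agent.Lib.LocalEven.SylowGraph
-- import your own Cfsg.Agent.* helpers here

set_option autoImplicit false
open Cfsg

namespace Cfsg.Agent.S2955

open Cfsg.Agent.Fusion
open Cfsg.Agent.LocalEven

/-- Let p be a prime dividing the order of the finite group G and 𝓕 a conjugation-closed family of subgroups that controls Sylow p-intersections in G. Suppose the Sylow p-subgroups of G are chain-connected: any two of them are joined by a chain of Sylow p-subgroups, consecutive ones distinct with nontrivial intersection, all containing the intersection of the two ends (equivalently, the graph on the Sylow p-subgroups whose edges are the distinct pairs meeting nontrivially is connected). Then for every Sylow p-subgroup S, G is generated by N_G(S) together with the members of 𝓕 that meet S in a Sylow p-subgroup of themselves. -/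
theorem result {G : Type*} [Group G] [Finite G] (p : ℕ) [Fact p.Prime] (hdiv : p ∣ Nat.card G)
    (𝓕 : Set (Subgroup G)) (h𝓕 : Cfsg.IsNormalSet 𝓕) (hc : Cfsg.ControlsSylowIntersections p 𝓕)
    (hconn : Cfsg.IsSylowChainConnected p G) (S : Sylow p G) :
    (⨆ X ∈ Cfsg.sylowMembers p 𝓕 (S : Subgroup G), X) ⊔ Subgroup.normalizer ((S : Subgroup G) : Set G) = ⊤ := by
  have := hdiv
  set L := (⨆ X ∈ Cfsg.sylowMembers p 𝓕 (S : Subgroup G), X) ⊔ Subgroup.normalizer ((S : Subgroup G) : Set G) with hL
  have hstrong := SylowGraph.strongly_of_controls h𝓕 hc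
  have hreach : ∀ B, Relation.ReflTransGen SylowGraph.Link S B → ∃ l ∈ L, l • S = B := by
    intro B hB
    induction hB with
    | refl => exact ⟨1, one_mem _, one_smul _ _⟩
    | @tail A B _ hAB ih =>
      obtain ⟨l, hl, rfl⟩ := ih
      obtain ⟨g, hg⟩ := MulAction.exists_smul_eq G S (l⁻¹ • B)
      have hlink := SylowGraph.link_smul l⁻¹ hAB
      rw [inv_smul_smul, ← hg] at hlink
      obtain ⟨d, hd, hd1⟩ := (Subgroup.bot_or_exists_ne_one _).resolve_left hlink.2
      obtain ⟨n, Y, y, y₀, hy₀, hY, hgy, -⟩ :=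
        hstrong S (((S : Subgroup G) ⊓ ((g • S : Sylow p G) : Subgroup G) : Subgroup G) : Set G) g
          (fun u hu => hu.1) ⟨d, hd, hd1⟩ (by rintro _ ⟨u, hu, rfl⟩; exact mem_cj.1 hu.2)
      have hgL : g ∈ L := by
        rw [hgy]
        refine mul_mem (list_prod_mem ?_) (Subgroup.mem_sup_right hy₀)
        intro u hu
        obtain ⟨i, rfl⟩ := (List.mem_ofFn' _ _).1 hu
        exact Subgroup.mem_sup_left (Subgroup.mem_iSup_of_mem (Y i) (Subgroup.mem_iSup_of_mem (hY i).1 (hY i).2))
      exact ⟨l * g, mul_mem hl hgL, by rw [mul_smul, hg, smul_inv_smul]⟩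
  refine eq_top_iff.2 fun g _ => ?_
  obtain ⟨l, hl, he⟩ := hreach (g • S) (SylowGraph.connected_iff.1 hconn S _)
  have hn : l⁻¹ * g ∈ Subgroup.normalizer ((S : Subgroup G) : Set G) := by
    have h1 : (l⁻¹ * g) • S = S := by rw [mul_smul, ← he, inv_smul_smul]
    exact mem_normalizer_iff_cj.2 (congrArg (fun Q : Sylow p G => (Q : Subgroup G)) h1)
  simpa using mul_mem hl (Subgroup.mem_sup_right (S := ⨆ X ∈ Cfsg.sylowMembers p 𝓕 (S : Subgroup G), X) hn)

end Cfsg.Agent.S2955
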