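import Cfsg.Statements.S2957
import Cfsg.Agent.Lib.LocalEven.FunctorRegular

set_option autoImplicit false
open Cfsg

namespace Cfsg.Agent.S2957

theorem result {G : Type*} [Group G] [Finite G] (p : ℕ) [Fact p.Prime] (hdiv : p ∣ Nat.card G)
    (f : Subgroup G → Set (Subgroup G)) (hf : Cfsg.IsNormalizerFunctor p f) (S : Sylow p G)
    (G₁ G₂ : Subgroup G) (h₁ : (S : Subgroup G) ≤ G₁) (h₂ : (S : Subgroup G) ≤ G₂)
    (hprod : ∀ g : G, ∃ g₁ ∈ G₁, ∃ g₂ ∈ G₂, g = g₁ * g₂)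
    (hr₁ : Cfsg.IsFunctorRegular p f G₁) (hr₂ : Cfsg.IsFunctorRegular p f G₂) :
    Cfsg.IsFunctorRegular p f ⊤ := by
  have := hdiv
  exact Cfsg.Agent.LocalEven.FunctorRegular.regular_of_product hf S G₁ G₂ h₁ h₂ hprod hr₁ hr₂

end Cfsg.Agent.S2957
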