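import Cfsg.Statements.S2958
import Cfsg.Agent.Lib.Fusion.Basic
-- import your own Cfsg.Agent.* helpers here

set_option autoImplicit false
open Cfsg

namespace Cfsg.Agent.S2958

open Cfsg.Agent.Fusion

/-- Let X, A, B be subgroups of a group G such that G is generated by the conjugates of X and every conjugate of X is contained in A or in B. Then A = G or B = G. -/
theorem result {G : Type*} [Group G] (X A B : Subgroup G) (hgen : (⨆ g : G, X.map (MulAut.conj g).toMonoidHom) = ⊤) (hcover : ∀ g : G, X.map (MulAut.conj g).toMonoidHom ≤ A ∨ X.map (MulAut.conj g).toMonoidHom ≤ B) : A = ⊤ ∨ B = ⊤ := by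
  classical
  by_contra hno
  obtain ⟨hA, hB⟩ := not_or.1 hno
  let C : Subgroup G := ⨆ g : {g : G // ¬ cj X g ≤ A}, cj X g.1
  have hCB : C ≤ B := iSup_le fun g => (hcover g.1).resolve_left g.2
  have hnorm : ∀ g : G, cj X g ≤ Subgroup.normalizer (C : Set G) := by
    intro g
    by_cases hg : cj X g ≤ A
    · intro a ha
      have haA : a ∈ A := hg ha
      have hle : ∀ b ∈ A, cj C b ≤ C := by
        intro b hb
        rw [cj_le_iff]
        refine iSup_le fun h => ?_
        rw [← cj_le_iff, cj_cj]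
        refine le_iSup_of_le (⟨b * h.1, fun hle => h.2 ?_⟩ : {g : G // ¬ cj X g ≤ A}) le_rfl
        rw [← cj_cj, cj_le_iff, cj_eq_self_of_mem (inv_mem hb)] at hle
        exact hle
      rw [mem_normalizer_iff_cj]
      refine le_antisymm (hle a haA) ?_
      have := hle a⁻¹ (inv_mem haA)
      rwa [cj_le_iff, inv_inv] at this
    · exact (le_iSup_of_le (⟨g, hg⟩ : {g : G // ¬ cj X g ≤ A}) le_rfl : cj X g ≤ C).trans Subgroup.le_normalizer
  haveI : C.Normal := Subgroup.normalizer_eq_top_iff.1 (top_le_iff.1 (hgen ▸ iSup_le hnorm))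
  by_cases hex : ∃ g, ¬ cj X g ≤ A
  · obtain ⟨g, hg⟩ := hex
    apply hB
    rw [eq_top_iff, ← hgen]
    refine iSup_le fun k => le_trans ?_ hCB
    have hle : cj X g ≤ C := le_iSup_of_le (⟨g, hg⟩ : {g : G // ¬ cj X g ≤ A}) le_rfl
    have h1 : cj (cj X g) (k * g⁻¹) ≤ cj C (k * g⁻¹) := cj_mono hle _
    rwa [cj_cj, inv_mul_cancel_right, cj_of_normal C] at h1
  · apply hA
    rw [eq_top_iff, ← hgen]
    exact iSup_le fun k => not_not.1 fun hk => hex ⟨k, hk⟩

end Cfsg.Agent.S2958
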