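import Cfsg.Statements.S2959
import Cfsg.Agent.Lib.LocalEven.PPrime
-- import your own Cfsg.Agent.* helpers here

set_option autoImplicit false
open Cfsg

open Cfsg.Agent Cfsg.Agent.Fusion
open scoped commutatorElement

namespace Cfsg.Agent.S2959

/-- Let G be a finite group of characteristic p, that is C_G(O_p(G)) ≤ O_p(G), with p prime, and let L be a subgroup of G normalized by O_p(G). Then L has characteristic p: C_L(O_p(L)) ≤ O_p(L). -/
theorem result {G : Type*} [Group G] [Finite G] {p : ℕ} [Fact p.Prime] (hG : Subgroup.centralizer (Cfsg.pCore p G : Set G) ≤ Cfsg.pCore p G) (L : Subgroup G) (hL : Cfsg.pCore p G ≤ Subgroup.normalizer (L : Set G)) : Subgroup.centralizer (Cfsg.pCore p ↥L : Set ↥L) ≤ Cfsg.pCore p ↥L := by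
  refine LocalEven.charP_of_elements fun x hx hxc hcent => ?_
  refine LocalEven.eq_one_of_centralizes_pCore hG hxc fun y hy => ?_
  have hbP : x * y * x⁻¹ * y⁻¹ ∈ Cfsg.pCore p G :=
    LocalEven.commutator_mem_of_normalizer (by rw [Subgroup.normalizer_eq_top]; trivial) hy
  have hbL : x * y * x⁻¹ * y⁻¹ ∈ L := by
    rw [show x * y * x⁻¹ * y⁻¹ = x * (y * x⁻¹ * y⁻¹) by group]
    exact mul_mem hx ((Subgroup.mem_set_normalizer_iff.1 (hL hy) _).1 (inv_mem hx))
  obtain ⟨k, hk⟩ := isPGroup_pCore p G ⟨_, hbP⟩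
  refine LocalEven.commute_of_commutator_fixed hxc (congrArg Subtype.val hk) (hcent _ ⟨⟨_, hbL⟩, ?_, rfl⟩)
  exact le_pCore (N := (Cfsg.pCore p G).subgroupOf L) (isPGroup_pCore p G).comap_subtype hbP

end Cfsg.Agent.S2959
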