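import Cfsg.Statements.S2960
import Cfsg.Agent.Lib.LocalEven.PPrime
import Cfsg.Agent.Lib.Fusion.AB
-- import your own Cfsg.Agent.* helpers here

set_option autoImplicit false
open Cfsg

open Cfsg.Agent Cfsg.Agent.Fusion
open scoped commutatorElement

namespace Cfsg.Agent.S2960

/-- Let G be a finite group of characteristic p (C_G(O_p(G)) ≤ O_p(G)), p prime, T a Sylow p-subgroup of G and Q a normal subgroup of T with C_T(Q) ≤ Q. Then C_G(Q) ≤ Q. -/
theorem result {G : Type*} [Group G] [Finite G] {p : ℕ} [Fact p.Prime] (hG : Subgroup.centralizer (Cfsg.pCore p G : Set G) ≤ Cfsg.pCore p G) (T : Sylow p G) (Q : Subgroup G) (hQT : Q ≤ (T : Subgroup G)) (hQn : (T : Subgroup G) ≤ Subgroup.normalizer (Q : Set G)) (hC : (T : Subgroup G) ⊓ Subgroup.centralizer (Q : Set G) ≤ Q) : Subgroup.centralizer (Q : Set G) ≤ Q := by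
  set C := Subgroup.centralizer (Q : Set G) with hCdef
  have hP : IsPGroup p C := LocalEven.isPGroup_of_coprime_elements fun x hx hxc => by
    refine LocalEven.eq_one_of_centralizes_pCore hG hxc fun y hy => ?_
    have h := mem_centralizer_of_AB (Q := Cfsg.pCore p G) (T := Q) (isPGroup_pCore p G) (T.isPGroup'.to_le hQT)
      (by rw [Subgroup.normalizer_eq_top]; exact le_top) (by rw [Subgroup.normalizer_eq_top]; trivial)
      (fun t ht => (Subgroup.mem_centralizer_iff.1 hx t ht).symm) hxc
      (fun q hq hqQ => (Subgroup.mem_centralizer_iff.1 hx q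
        (hC ⟨pCore_le_sylow T hq, Subgroup.mem_centralizer_iff.2 fun t ht => (hqQ t ht).symm⟩)).symm)
    exact (Subgroup.mem_centralizer_iff.1 h y hy).symm
  have hTC : (T : Subgroup G) ≤ Subgroup.normalizer (C : Set G) := fun t ht =>
    mem_normalizer_iff_cj.2 (by rw [hCdef, cj_centralizer, cj_eq_self (hQn ht)])
  have hsup : IsPGroup p ↥(C ⊔ (T : Subgroup G)) := hP.to_sup_of_normal_left' T.isPGroup' hTC
  have hCT : C ≤ (T : Subgroup G) := by
    have := (sylIn_top T).eq_of_le hsup le_sup_right le_top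
    exact le_sup_left.trans this.le
  exact (le_inf hCT le_rfl).trans hC

end Cfsg.Agent.S2960
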