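import Cfsg.Statements.S2961
import Cfsg.Agent.Lib.LocalEven.CharP
import Cfsg.Agent.Lib.Fusion.AB
-- import your own Cfsg.Agent.* helpers here

set_option autoImplicit false
open Cfsg

open Cfsg.Agent Cfsg.Agent.Fusion

namespace Cfsg.Agent.S2961

/-- Let G be a finite group of characteristic p (C_G(O_p(G)) ≤ O_p(G)), p prime, T a Sylow p-subgroup of G and Q a normal subgroup of T with C_T(Q) ≤ Q. Then every subgroup L of G containing Q has characteristic p: C_L(O_p(L)) ≤ O_p(L). -/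
theorem result {G : Type*} [Group G] [Finite G] {p : ℕ} [Fact p.Prime] (hG : Subgroup.centralizer (Cfsg.pCore p G : Set G) ≤ Cfsg.pCore p G) (T : Sylow p G) (Q : Subgroup G) (hQT : Q ≤ (T : Subgroup G)) (hQn : (T : Subgroup G) ≤ Subgroup.normalizer (Q : Set G)) (hC : (T : Subgroup G) ⊓ Subgroup.centralizer (Q : Set G) ≤ Q) (L : Subgroup G) (hQL : Q ≤ L) : Subgroup.centralizer (Cfsg.pCore p ↥L : Set ↥L) ≤ Cfsg.pCore p ↥L := by
  have hC0 := hC
  classical
  obtain ⟨P, hPdef⟩ : ∃ P, P = Cfsg.pCore p G := ⟨_, rfl⟩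
  haveI hPn : P.Normal := hPdef ▸ inferInstance
  rw [← hPdef] at hG
  have hPp : IsPGroup p P := hPdef ▸ isPGroup_pCore p G
  have hPT : P ≤ (T : Subgroup G) := hPdef ▸ pCore_le_sylow T
  have hQp : IsPGroup p Q := T.isPGroup'.to_le hQT
  set R := (Cfsg.pCore p ↥L).map L.subtype with hR
  have hRL : R ≤ L := Subgroup.map_subtype_le _
  have hLR : L ≤ Subgroup.normalizer (R : Set G) :=
    Subgroup.le_normalizer.trans (LocalEven.normalizer_le_char L _)
  clear hC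
  set C := L ⊓ Subgroup.centralizer (R : Set G) with hC
  have hCL : C ≤ L := inf_le_left
  have hLC : L ≤ Subgroup.normalizer (C : Set G) := fun g hg => mem_normalizer_iff_cj.2 (by
    rw [hC, cj_inf, cj_centralizer, cj_eq_self (hLR hg), cj_eq_self_of_mem hg])
  set X := P ⊓ L with hX
  have hXR : X ≤ R := by
    intro x hx
    haveI : ((P.subgroupOf L)).Normal := inferInstance
    exact ⟨⟨x, hx.2⟩, le_pCore (N := P.subgroupOf L) hPp.comap_subtype hx.1, rfl⟩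
  have hPQ : ∀ y ∈ P, ∀ q ∈ Q, q * y * q⁻¹ * y⁻¹ ∈ X := fun y hy q hq => by
    refine Subgroup.mem_inf.2 ⟨mul_mem (hPn.conj_mem y hy q) (inv_mem hy), ?_⟩
    rw [show q * y * q⁻¹ * y⁻¹ = q * (y * q⁻¹ * y⁻¹) by group]
    exact mul_mem (hQL hq) (hQL ((Subgroup.mem_set_normalizer_iff.1 (hQn (hPT hy)) _).1 (inv_mem hq)))
  set D := Subgroup.closure {g : G | ∃ q ∈ Q, ∃ c ∈ C, g = q * c * q⁻¹ * c⁻¹} with hD
  have hDC : D ≤ C := (Subgroup.closure_le _).2 (by
    rintro _ ⟨q, hq, c, hc, rfl⟩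
    exact mul_mem ((Subgroup.mem_set_normalizer_iff.1 (hLC (hQL hq)) c).1 hc) (inv_mem hc))
  have hcoprime : ∀ {d : G}, (orderOf d).Coprime p → ∀ {a : G} (n : ℕ), a ^ p ^ n = 1 →
      ∀ {m : ℕ}, orderOf d ∣ m → a ^ orderOf d = 1 → a = 1 := fun {d} hd {a} n ha {m} _ h =>
    orderOf_eq_one_iff.1 (Nat.eq_one_of_dvd_coprimes (hd.symm.pow_left n)
      (orderOf_dvd_of_pow_eq_one ha) (orderOf_dvd_of_pow_eq_one h))
  let Good : Subgroup G → Prop := fun Y => X ≤ Y ∧ Y ≤ P ∧ Q ≤ Subgroup.normalizer (Y : Set G) ∧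
    C ≤ Subgroup.normalizer (Y : Set G) ∧ ∀ d ∈ D, (orderOf d).Coprime p → ∀ y ∈ Y, d * y = y * d
  have hGX : Good X := by
    refine ⟨le_rfl, inf_le_left, fun q hq => ?_, fun c hc => ?_, fun d hd _ y hy => ?_⟩
    · exact mem_normalizer_iff_cj.2 (by rw [hX, cj_inf, cj_of_normal P, cj_eq_self_of_mem (hQL hq)])
    · exact mem_normalizer_iff_cj.2 (by rw [hX, cj_inf, cj_of_normal P, cj_eq_self_of_mem (hCL hc)])
    · exact (Subgroup.mem_centralizer_iff.1 (hDC hd).2 y (hXR hy)).symm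
  obtain ⟨Y, -, hY⟩ := Finite.exists_le_maximal (p := Good) (a := X) hGX
  obtain ⟨hXY, hYP, hQY, hCY, hdY⟩ := hY.1
  have hYeq : Y = P := by
    by_contra hne
    set N' := P ⊓ Subgroup.normalizer (Y : Set G) with hN'
    have hlt : Y < N' := SylIn.normalizer_growth (p := p) hYP hne hPp
    have hQN : Q ≤ Subgroup.normalizer (N' : Set G) := fun q hq => mem_normalizer_iff_cj.2 (by
      rw [hN', cj_inf, cj_of_normal P, cj_normalizer, cj_eq_self (hQY hq)])
    have hCN : C ≤ Subgroup.normalizer (N' : Set G) := fun c hc => mem_normalizer_iff_cj.2 (by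
      rw [hN', cj_inf, cj_of_normal P, cj_normalizer, cj_eq_self (hCY hc)])
    let K : Subgroup G :=
      { carrier := {g | g ∈ Subgroup.normalizer (Y : Set G) ∧ g ∈ Subgroup.normalizer (N' : Set G) ∧
          ∀ y ∈ N', g * y * g⁻¹ * y⁻¹ ∈ Y}
        one_mem' := ⟨one_mem _, one_mem _, fun y _ => by simp⟩
        mul_mem' := fun {g h} hg hh => ⟨mul_mem hg.1 hh.1, mul_mem hg.2.1 hh.2.1, fun y hy => by
          rw [show g * h * y * (g * h)⁻¹ * y⁻¹ =
            (g * (h * y * h⁻¹) * g⁻¹ * (h * y * h⁻¹)⁻¹) * (h * y * h⁻¹ * y⁻¹) by group]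
          exact mul_mem (hg.2.2 _ ((Subgroup.mem_set_normalizer_iff.1 hh.2.1 y).1 hy)) (hh.2.2 y hy)⟩
        inv_mem' := fun {g} hg => ⟨inv_mem hg.1, inv_mem hg.2.1, fun y hy => by
          have h1 := hg.2.2 _ ((Subgroup.mem_set_normalizer_iff.1 (inv_mem hg.2.1) y).1 hy)
          have h2 := inv_mem h1
          simpa [mul_assoc] using h2⟩ }
    have hDK : D ≤ K := (Subgroup.closure_le _).2 (by
      rintro _ ⟨q, hq, c, hc, rfl⟩
      refine ⟨mul_mem (mul_mem (mul_mem (hQY hq) (hCY hc)) (inv_mem (hQY hq))) (inv_mem (hCY hc)),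
        mul_mem (mul_mem (mul_mem (hQN hq) (hCN hc)) (inv_mem (hQN hq))) (inv_mem (hCN hc)), fun y hy => ?_⟩
      obtain ⟨y1, hy1⟩ : ∃ y1, y1 = c⁻¹ * y * c := ⟨_, rfl⟩
      have hy1N : y1 ∈ N' := by
        rw [hy1]; simpa using (Subgroup.mem_set_normalizer_iff.1 (inv_mem (hCN hc)) y).1 hy
      obtain ⟨a, hae⟩ : ∃ a, a = q⁻¹ * y1 * q * y1⁻¹ := ⟨_, rfl⟩
      have ha : a ∈ Y := hXY (by rw [hae]; simpa using hPQ y1 hy1N.1 q⁻¹ (inv_mem hq))
      have hb : c * a * c⁻¹ ∈ Y := (Subgroup.mem_set_normalizer_iff.1 (hCY hc) a).1 ha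
      have h3 : q * (c * a * c⁻¹) * q⁻¹ ∈ Y := (Subgroup.mem_set_normalizer_iff.1 (hQY hq) _).1 hb
      rw [show q * c * q⁻¹ * c⁻¹ * y * (q * c * q⁻¹ * c⁻¹)⁻¹ * y⁻¹ =
        q * (c * a * c⁻¹) * q⁻¹ * (q * y * q⁻¹ * y⁻¹) by rw [hae, hy1]; group]
      exact mul_mem h3 (hXY (hPQ y hy.1 q hq)))
    refine hlt.not_ge (hY.2 ⟨hXY.trans hlt.le, inf_le_left, hQN, hCN, fun d hd hdp y hy => ?_⟩ hlt.le)
    obtain ⟨a, hae⟩ : ∃ a, a = d * y * d⁻¹ * y⁻¹ := ⟨_, rfl⟩
    have ha : a ∈ Y := hae ▸ (hDK hd).2.2 y hy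
    have hda := hdY d hd hdp a ha
    have hpow : ∀ m : ℕ, d ^ m * y * (d ^ m)⁻¹ = a ^ m * y := by
      intro m
      induction m with
      | zero => simp
      | succ m ih =>
        calc d ^ (m + 1) * y * (d ^ (m + 1))⁻¹ = d * (d ^ m * y * (d ^ m)⁻¹) * d⁻¹ := by
              rw [pow_succ']; group
          _ = (d * a ^ m) * y * d⁻¹ := by rw [ih]; group
          _ = a ^ m * (d * y * d⁻¹ * y⁻¹) * y := by
              rw [(show Commute d a from hda).pow_right m]; group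
          _ = a ^ (m + 1) * y := by rw [← hae, pow_succ]
    have h1 := hpow (orderOf d)
    rw [pow_orderOf_eq_one, one_mul, inv_one, mul_one, right_eq_mul] at h1
    obtain ⟨n, hn⟩ := hPp ⟨a, hYP ha⟩
    have ha1 := hcoprime hdp n (congrArg Subtype.val hn) dvd_rfl h1
    have ha2 := hae.symm.trans ha1
    rw [mul_inv_eq_one, mul_inv_eq_iff_eq_mul] at ha2
    exact ha2
  have hPd : ∀ x : G, (orderOf x).Coprime p → (∀ y ∈ P, x * y = y * x) → x = 1 := fun x hx h => by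
    obtain ⟨n, hn⟩ := hPp ⟨x, hG (Subgroup.mem_centralizer_iff.2 fun y hy => (h y hy).symm)⟩
    exact hcoprime hx n (congrArg Subtype.val hn) dvd_rfl (pow_orderOf_eq_one x)
  have hDp : IsPGroup p D := by
    intro d
    obtain ⟨k, m, hm, hdm⟩ := Nat.exists_eq_pow_mul_and_not_dvd (orderOf_pos (d : G)).ne' p
      (Fact.out : p.Prime).ne_one
    refine ⟨k, Subtype.ext ?_⟩
    have hm' : orderOf ((d : G) ^ p ^ k) = m := by
      rw [orderOf_pow_of_dvd (pow_ne_zero _ (Fact.out : p.Prime).ne_zero) (hdm ▸ dvd_mul_right _ _), hdm,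
        Nat.mul_div_cancel_left _ (pow_pos (Fact.out : p.Prime).pos _)]
    have hcop : (orderOf ((d : G) ^ p ^ k)).Coprime p :=
      hm'.symm ▸ ((Fact.out : p.Prime).coprime_iff_not_dvd.2 hm).symm
    exact hPd _ hcop fun y hy => hdY _ (pow_mem d.2 _) hcop y (hYeq ▸ hy)
  have hDR : D ≤ R := by
    have hCD : C ≤ Subgroup.normalizer (D : Set G) := fun c hc => mem_normalizer_of_cj_le (by
      rw [cj_le_iff, hD, Subgroup.closure_le]
      rintro _ ⟨q, hq, c', hc', rfl⟩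
      rw [SetLike.mem_coe, mem_cj, inv_inv]
      have h1 : q * c * q⁻¹ * c⁻¹ ∈ D := Subgroup.subset_closure ⟨q, hq, c, hc, rfl⟩
      have h2 : q * (c * c') * q⁻¹ * (c * c')⁻¹ ∈ D :=
        Subgroup.subset_closure ⟨q, hq, c * c', mul_mem hc hc', rfl⟩
      rw [show c * (q * c' * q⁻¹ * c'⁻¹) * c⁻¹ =
        (q * c * q⁻¹ * c⁻¹)⁻¹ * (q * (c * c') * q⁻¹ * (c * c')⁻¹) by group]
      exact mul_mem (inv_mem h1) h2)
    intro d hd
    haveI : (D.subgroupOf C).Normal := (Subgroup.normal_subgroupOf_iff_le_normalizer hDC).2 hCD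
    exact LocalEven.pCore_map_le_of_normal hCL ((Subgroup.normal_subgroupOf_iff_le_normalizer hCL).2 hLC)
      ⟨⟨d, hDC hd⟩, le_pCore (N := D.subgroupOf C) hDp.comap_subtype hd, rfl⟩
  have hC' : ∀ q ∈ P, (∀ t ∈ Q, q * t = t * q) → q ∈ Q := fun q hq h =>
    hC0 ⟨hPT hq, Subgroup.mem_centralizer_iff.2 fun t ht => (h t ht).symm⟩
  have hmain : ∀ c ∈ C, (orderOf c).Coprime p → c = 1 := by
    intro c hc hcp
    have hQc : ∀ q ∈ Q, c * q = q * c := by
      intro q hq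
      obtain ⟨d, hde⟩ : ∃ d, d = q * c * q⁻¹ * c⁻¹ := ⟨_, rfl⟩
      have hdR : d ∈ R := hDR (hde ▸ Subgroup.subset_closure ⟨q, hq, c, hc, rfl⟩)
      have hdc : Commute d c := Subgroup.mem_centralizer_iff.1 hc.2 d hdR
      have h1 : (d * c) ^ orderOf c = 1 := by
        rw [show d * c = q * c * q⁻¹ by rw [hde]; group, conj_pow, pow_orderOf_eq_one, mul_one, mul_inv_cancel]
      rw [hdc.mul_pow, pow_orderOf_eq_one, mul_one] at h1
      obtain ⟨n, hn⟩ := (isPGroup_pCore p ↥L).map L.subtype ⟨d, hdR⟩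
      have hd1 := hcoprime hcp n (congrArg Subtype.val hn) dvd_rfl h1
      have hd2 := hde.symm.trans hd1
      rw [mul_inv_eq_one, mul_inv_eq_iff_eq_mul] at hd2
      exact hd2.symm
    refine hPd c hcp fun y hy => ?_
    have h := mem_centralizer_of_AB (Q := P) (T := Q) hPp hQp
      (by rw [Subgroup.normalizer_eq_top]; exact le_top) (by rw [Subgroup.normalizer_eq_top]; trivial) hQc hcp
      (fun q hq hqQ => (Subgroup.mem_centralizer_iff.1 hc.2 q (hXR ⟨hq, hQL (hC' q hq hqQ)⟩)).symm)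
    exact (Subgroup.mem_centralizer_iff.1 h y hy).symm
  haveI : (Subgroup.centralizer (Cfsg.pCore p ↥L : Set ↥L)).Normal :=
    normal_iff_cj.2 fun g => by rw [cj_centralizer, cj_of_normal]
  refine le_pCore ?_
  intro x
  obtain ⟨k, m, hm, hxm⟩ := Nat.exists_eq_pow_mul_and_not_dvd (orderOf_pos ((x : ↥L) : G)).ne' p
    (Fact.out : p.Prime).ne_one
  refine ⟨k, Subtype.ext (Subtype.ext ?_)⟩
  have hxC : ((x : ↥L) : G) ∈ C := ⟨(x : ↥L).2, Subgroup.mem_centralizer_iff.2 (by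
    rintro _ ⟨r, hr, rfl⟩
    exact congrArg Subtype.val (Subgroup.mem_centralizer_iff.1 x.2 r hr))⟩
  refine hmain _ (pow_mem hxC _) ?_
  show (orderOf (((x : ↥L) : G) ^ p ^ k)).Coprime p
  rw [orderOf_pow_of_dvd (pow_ne_zero _ (Fact.out : p.Prime).ne_zero) (hxm ▸ dvd_mul_right _ _), hxm,
    Nat.mul_div_cancel_left _ (pow_pos (Fact.out : p.Prime).pos _)]
  exact ((Fact.out : p.Prime).coprime_iff_not_dvd.2 hm).symm

end Cfsg.Agent.S2961
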