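import Cfsg.Statements.S2963
-- import your own Cfsg.Agent.* helpers here

set_option autoImplicit false
open Cfsg

open scoped Pointwise

namespace Cfsg.Agent.S2963


/-- Let n be odd. If the symmetric group of degree n is a minimal parabolic group for the prime 2, that is, a Sylow 2-subgroup is not normal and lies in exactly one maximal subgroup, then n = 2^m + 1 for some natural number m. -/
theorem result (n : ℕ) (hn : Odd n) (h : Cfsg.IsPMinimal 2 (Equiv.Perm (Fin n))) : ∃ m : ℕ, n = 2 ^ m + 1 := by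
  classical
  obtain ⟨S⟩ : Nonempty (Sylow 2 (Equiv.Perm (Fin n))) := inferInstance
  obtain ⟨hnn, M, ⟨hM, hSM⟩, huniq⟩ := h S
  have hle : ∀ K : Subgroup (Equiv.Perm (Fin n)), K ≠ ⊤ → (S : Subgroup _) ≤ K → K ≤ M := by
    intro K hK hSK
    obtain ⟨M', hM', hKM'⟩ := (eq_top_or_exists_le_coatom K).resolve_left hK
    exact (huniq M' ⟨hM', hSK.trans hKM'⟩) ▸ hKM'
  obtain ⟨x, hx⟩ : ∃ x : Fin n, x ∈ MulAction.fixedPoints S (Fin n) := by
    refine S.isPGroup'.nonempty_fixed_point_of_prime_not_dvd_card _ ?_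
    rw [Nat.card_fin]
    exact fun hd => (Nat.not_even_iff_odd.2 hn) (even_iff_two_dvd.2 hd)
  have hn3 : 3 ≤ n := by
    by_contra hlt
    refine hnn ?_
    obtain ⟨k, rfl⟩ := hn
    obtain rfl : k = 0 := by omega
    have hsub : Subsingleton (Equiv.Perm (Fin (2 * 0 + 1))) :=
      ⟨fun a b => Equiv.ext fun i => Subsingleton.elim (α := Fin 1) _ _⟩
    exact ⟨fun m hm g => by rw [Subsingleton.elim (g * m * g⁻¹) m]; exact hm⟩
  have hSx : ∀ s ∈ (S : Subgroup (Equiv.Perm (Fin n))), s x = x := fun s hs => hx ⟨s, hs⟩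
  have hSstab : (S : Subgroup _) ≤ MulAction.stabilizer (Equiv.Perm (Fin n)) x := hSx
  obtain ⟨y, hy⟩ : ∃ y, y ≠ x := haveI : Nontrivial (Fin n) := Fin.nontrivial_iff_two_le.2 (by omega); exists_ne x
  have hxM : MulAction.stabilizer (Equiv.Perm (Fin n)) x ≤ M := by
    refine hle _ (fun h0 => hy ?_) hSstab
    have := h0.symm ▸ Subgroup.mem_top (Equiv.swap x y)
    simpa using (MulAction.mem_stabilizer_iff.1 this)
  have hfix : ∀ m ∈ M, m x = x := by
    intro m hm
    by_contra hne
    refine hM.1 (eq_top_iff.2 fun g _ => ?_)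
    by_cases hg : g x = x
    · exact hxM hg
    have hsw : Equiv.swap (m x) (g x) ∈ MulAction.stabilizer (Equiv.Perm (Fin n)) x :=
      Equiv.swap_apply_of_ne_of_ne (Ne.symm hne) (Ne.symm hg)
    have hrest : (Equiv.swap (m x) (g x) * m)⁻¹ * g ∈ MulAction.stabilizer (Equiv.Perm (Fin n)) x := by
      rw [MulAction.mem_stabilizer_iff, mul_smul, inv_smul_eq_iff, Equiv.Perm.smul_def, Equiv.Perm.smul_def,
        Equiv.Perm.mul_apply, Equiv.swap_apply_left]
    have := mul_mem (mul_mem (hxM hsw) hm) (hxM hrest)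
    rwa [mul_inv_cancel_left] at this
  set O : Set (Fin n) := MulAction.orbit S y with hO
  have hxO : x ∉ O := by
    rintro ⟨s, hs⟩
    apply hy
    have e : s • y = s • x := hs.trans (hx s).symm
    exact smul_left_cancel s e
  have hall : ∀ z, z ≠ x → z ∈ O := by
    intro z hzx
    by_contra hz
    have hswx : Equiv.swap x z ∈ MulAction.stabilizer (Equiv.Perm (Fin n)) O := by
      rw [MulAction.mem_stabilizer_set]
      intro w
      by_cases hwx : w = x
      · subst hwx; simp [hz, hxO]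
      by_cases hwz : w = z
      · subst hwz; simp [hz, hxO]
      rw [Equiv.Perm.smul_def, Equiv.swap_apply_of_ne_of_ne hwx hwz]
    have hne : MulAction.stabilizer (Equiv.Perm (Fin n)) O ≠ ⊤ := by
      intro h0
      have := MulAction.mem_stabilizer_set.1 (h0.symm ▸ Subgroup.mem_top (Equiv.swap x y)) x
      simp only [Equiv.Perm.smul_def, Equiv.swap_apply_left] at this
      exact hxO (this.1 (MulAction.mem_orbit_self y))
    have hSO : (S : Subgroup _) ≤ MulAction.stabilizer (Equiv.Perm (Fin n)) O := by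
      intro s hs
      rw [MulAction.mem_stabilizer_set]
      intro w
      refine ⟨fun ⟨t, ht⟩ => ⟨(⟨s, hs⟩ : S)⁻¹ * t, ?_⟩, fun ⟨t, ht⟩ => ⟨(⟨s, hs⟩ : S) * t, ?_⟩⟩
      · change ((⟨s, hs⟩ : S)⁻¹ * t) • y = w
        rw [mul_smul, show t • y = s • w from ht]
        exact inv_smul_smul (⟨s, hs⟩ : S) w
      · change ((⟨s, hs⟩ : S) * t) • y = s • w
        rw [mul_smul, show t • y = w from ht]
        rfl
    exact hzx (by simpa using hfix _ (hle _ hne hSO hswx))
  have hcard : Nat.card O = n - 1 := by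
    rw [show O = ({x}ᶜ : Set (Fin n)) from Set.ext fun z => ⟨fun hz hzx => hxO (Set.mem_singleton_iff.1 hzx ▸ hz), hall z⟩,
      Nat.card_eq_fintype_card, Fintype.card_compl_set, Fintype.card_fin]
    simp
  obtain ⟨k, hk⟩ := S.isPGroup'.card_orbit y
  exact ⟨k, by rw [← hk, ← hO, hcard]; omega⟩

end Cfsg.Agent.S2963
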