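import Cfsg.Statements.S2968
import Cfsg.Agent.Lib.LocalEven.Isolated
-- import your own Cfsg.Agent.* helpers here

set_option autoImplicit false
open Cfsg

open Cfsg.Agent Cfsg.Agent.Fusion
open scoped commutatorElement

namespace Cfsg.Agent.S2968

/-- Let G be a finite group, p a prime, P a Sylow p-subgroup of G and x ∈ P an element of p-power order which is isolated in G (the only conjugate of x commuting with x is x itself). Then x lies in the centre of P, and the subgroup generated by x is both strongly closed and weakly closed in P with respect to G. -/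
theorem result {G : Type*} [Group G] [Finite G] {p : ℕ} [Fact p.Prime] (P : Sylow p G) (x : G) (hxP : x ∈ (P : Subgroup G)) (hx : ∃ k : ℕ, orderOf x = p ^ k) (hiso : Cfsg.IsIsolated x) : x ∈ (P : Subgroup G) ⊓ Subgroup.centralizer ((P : Subgroup G) : Set G) ∧ Cfsg.IsStronglyClosed (Subgroup.zpowers x) (P : Subgroup G) ∧ Cfsg.IsWeaklyClosed (Subgroup.zpowers x) (P : Subgroup G) := by
  have hc := LocalEven.pgroup_le_centralizer_of_isolated hiso P.isPGroup' hxP
  have hxC : x ∈ Subgroup.centralizer ((P : Subgroup G) : Set G) :=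
    Subgroup.mem_centralizer_iff.2 fun s hs => Subgroup.mem_centralizer_singleton_iff.1 (hc hs)
  have hle : Subgroup.zpowers x ≤ (P : Subgroup G) := Subgroup.zpowers_le.2 hxP
  refine ⟨⟨hxP, hxC⟩, ⟨hle, ?_⟩, hle, fun g hg => ?_⟩
  · intro y hy g hyP
    obtain ⟨k, rfl⟩ := Subgroup.mem_zpowers_iff.1 hy
    set C := Subgroup.centralizer ({x ^ k} : Set G) with hC
    have hxk : x ∈ C := Subgroup.mem_centralizer_singleton_iff.2 (Commute.self_zpow x k).eq
    have hgx : g⁻¹ * x * g⁻¹⁻¹ ∈ C := by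
      refine Subgroup.mem_centralizer_singleton_iff.2 ?_
      have h1 := (Subgroup.mem_centralizer_iff.1 hxC _ hyP).symm
      calc g⁻¹ * x * g⁻¹⁻¹ * x ^ k = g⁻¹ * (x * (g * x ^ k * g⁻¹)) * g := by group
        _ = g⁻¹ * (g * x ^ k * g⁻¹ * x) * g := by rw [h1]
        _ = x ^ k * (g⁻¹ * x * g⁻¹⁻¹) := by group
    obtain ⟨c, hc', hcomm⟩ := LocalEven.exists_conj_of_isolated hx hiso hxk hgx
    have h2 : (c * g⁻¹) * x ^ k = x ^ k * (c * g⁻¹) :=
      ((show Commute (c * g⁻¹) x from hcomm).zpow_right k).eq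
    have h3 : c * x ^ k = x ^ k * c := Subgroup.mem_centralizer_singleton_iff.1 hc'
    have h4 : g * x ^ k * g⁻¹ = x ^ k := by
      calc g * x ^ k * g⁻¹ = g * (c⁻¹ * (c * x ^ k)) * g⁻¹ := by group
        _ = g * c⁻¹ * (x ^ k * (c * g⁻¹)) := by rw [h3]; group
        _ = g * c⁻¹ * (c * g⁻¹ * x ^ k) := by rw [h2]
        _ = x ^ k := by group
    rw [h4]; exact zpow_mem (Subgroup.mem_zpowers x) k
  · rw [MonoidHom.map_zpowers, MulEquiv.coe_toMonoidHom, MulAut.conj_apply] at hg ⊢
    rw [LocalEven.conj_eq_of_isolated hiso P.isPGroup' hxP (hg (Subgroup.mem_zpowers _))]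

end Cfsg.Agent.S2968
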