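import Cfsg.Statements.S2969
import Cfsg.Agent.Lib.LocalEven.Isolated
-- import your own Cfsg.Agent.* helpers here

set_option autoImplicit false
open Cfsg

open Cfsg.Agent Cfsg.Agent.Fusion
open scoped commutatorElement

namespace Cfsg.Agent.S2969

/-- Let G be a finite group, p a prime and x ∈ G an element of p-power order which is isolated in G. If R is a p-subgroup of G containing x, then N_G(R) ≤ C_G(x); in particular x lies in the centre of R. Moreover, if x lies in a normal subgroup N of a subgroup H of G, then H = N·C_H(x). -/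
theorem result {G : Type*} [Group G] [Finite G] {p : ℕ} [Fact p.Prime] (x : G) (hx : ∃ k : ℕ, orderOf x = p ^ k) (hiso : Cfsg.IsIsolated x) : (∀ R : Subgroup G, IsPGroup p ↥R → x ∈ R → Subgroup.normalizer (R : Set G) ≤ Subgroup.centralizer ({x} : Set G)) ∧ (∀ H N : Subgroup G, N ≤ H → H ≤ Subgroup.normalizer (N : Set G) → x ∈ N → N ⊔ (H ⊓ Subgroup.centralizer ({x} : Set G)) = H) := by
  refine ⟨fun R hR hxR n hn => ?_, fun H N hNH hHN hxN => ?_⟩
  · refine Subgroup.mem_centralizer_singleton_iff.2 (mul_inv_eq_iff_eq_mul.1 ?_)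
    exact LocalEven.conj_eq_of_isolated hiso hR hxR ((Subgroup.mem_set_normalizer_iff.1 hn x).1 hxR)
  · refine le_antisymm (sup_le hNH inf_le_left) fun h hh => ?_
    obtain ⟨c, hc, hcomm⟩ := LocalEven.exists_conj_of_isolated hx hiso hxN
      ((Subgroup.mem_set_normalizer_iff.1 (hHN hh) x).1 hxN)
    rw [show h = c⁻¹ * (c * h) by group]
    exact mul_mem (Subgroup.mem_sup_left (inv_mem hc))
      (Subgroup.mem_sup_right ⟨mul_mem (hNH hc) hh, Subgroup.mem_centralizer_singleton_iff.2 hcomm⟩)

end Cfsg.Agent.S2969
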