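import Cfsg.Statements.S2970
import Cfsg.Agent.Lib.LocalEven.Isolated
import Cfsg.Agent.Lib.Fusion.NPC
-- import your own Cfsg.Agent.* helpers here

set_option autoImplicit false
open Cfsg

open Cfsg.Agent Cfsg.Agent.Fusion
open scoped commutatorElement

namespace Cfsg.Agent.S2970

/-- Let G be a finite group, p a prime and x ∈ G an element of p-power order which is isolated in G. Then the image of x in any quotient G ⧸ N is isolated in G ⧸ N; and if x ≠ 1 and the Sylow p-subgroups of G are cyclic, then G has a normal p-complement. -/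
theorem result {G : Type*} [Group G] [Finite G] {p : ℕ} [Fact p.Prime] (x : G) (hx : ∃ k : ℕ, orderOf x = p ^ k) (hiso : Cfsg.IsIsolated x) : (∀ (N : Subgroup G) [N.Normal], Cfsg.IsIsolated (QuotientGroup.mk x : G ⧸ N)) ∧ (x ≠ 1 → (∀ P : Sylow p G, IsCyclic ↥(P : Subgroup G)) → Cfsg.HasNormalPComplement p G) := by
  refine ⟨fun N _ => ?_, fun hx1 hcyc => ?_⟩
  · intro a ha
    obtain ⟨g, rfl⟩ := QuotientGroup.mk_surjective a
    rw [← QuotientGroup.mk_inv, ← QuotientGroup.mk_mul, ← QuotientGroup.mk_mul] at ha ⊢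
    obtain ⟨y, hye⟩ : ∃ y, y = g * x * g⁻¹ := ⟨_, rfl⟩
    rw [← hye] at ha ⊢
    set K := (Subgroup.closure {(QuotientGroup.mk x : G ⧸ N), QuotientGroup.mk y}).comap (QuotientGroup.mk' N)
      with hK
    have hxK : x ∈ K := Subgroup.subset_closure (Or.inl rfl)
    have hyK : y ∈ K := Subgroup.subset_closure (Or.inr rfl)
    obtain ⟨c, hc, hcomm⟩ := LocalEven.exists_conj_of_isolated hx hiso hxK (g := g) (hye ▸ hyK)
    have h1 : c * y * c⁻¹ = x := by
      rw [hye]
      calc c * (g * x * g⁻¹) * c⁻¹ = c * g * x * (c * g)⁻¹ := by group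
        _ = x := by rw [hcomm]; group
    have hab : ∀ u ∈ Subgroup.closure {(QuotientGroup.mk x : G ⧸ N), QuotientGroup.mk y},
        u * (QuotientGroup.mk y : G ⧸ N) = QuotientGroup.mk y * u := fun u hu => by
      refine Subgroup.mem_centralizer_singleton_iff.1 ((Subgroup.closure_le _).2 ?_ hu)
      rintro v (rfl | rfl)
      · exact Subgroup.mem_centralizer_singleton_iff.2 ha.eq
      · exact Subgroup.mem_centralizer_singleton_iff.2 rfl
    have h2 := congrArg (QuotientGroup.mk : G → G ⧸ N) h1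
    rw [QuotientGroup.mk_mul, QuotientGroup.mk_mul, hab (QuotientGroup.mk c) hc, QuotientGroup.mk_inv, mul_inv_cancel_right] at h2
    exact h2
  · obtain ⟨P, hP⟩ := (LocalEven.isPGroup_zpowers hx).exists_le_sylow
    haveI := hcyc P
    have hxP : x ∈ (P : Subgroup G) := hP (Subgroup.mem_zpowers x)
    have hPc : ∀ a ∈ (P : Subgroup G), ∀ b ∈ (P : Subgroup G), a * b = b * a := fun a ha b hb =>
      congrArg Subtype.val (mul_comm' (⟨a, ha⟩ : ↥(P : Subgroup G)) ⟨b, hb⟩)
    refine hnpc_of_normalizer_le_centralizer P fun n hn => ?_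
    have hnx : n * x = x * n := mul_inv_eq_iff_eq_mul.1
      (LocalEven.conj_eq_of_isolated hiso P.isPGroup' hxP ((Subgroup.mem_set_normalizer_iff.1 hn x).1 hxP))
    -- reduce to an element of order prime to `p`
    obtain ⟨k, m, hm, hnm⟩ := Nat.exists_eq_pow_mul_and_not_dvd (orderOf_pos n).ne' p
      (Fact.out : p.Prime).ne_one
    have hcop : Nat.Coprime (p ^ k) m := ((Fact.out : p.Prime).coprime_iff_not_dvd.2 hm).pow_left k
    obtain ⟨u, v, huv⟩ : ∃ u v : ℤ, ((p ^ k : ℕ) : ℤ) * u + (m : ℤ) * v = 1 :=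
      ⟨Nat.gcdA (p ^ k) m, Nat.gcdB (p ^ k) m, by rw [← Nat.gcd_eq_gcd_ab, hcop.gcd_eq_one]; rfl⟩
    have hnd : n = (n ^ (p ^ k)) ^ u * (n ^ m) ^ v := by
      rw [← zpow_natCast n (p ^ k), ← zpow_natCast n m, ← zpow_mul, ← zpow_mul, ← zpow_add, huv, zpow_one]
    have hC : ∀ a : G, a ∈ Subgroup.normalizer ((P : Subgroup G) : Set G) → (orderOf a).Coprime p → a * x = x * a →
        a ∈ Subgroup.centralizer ((P : Subgroup G) : Set G) := by
      intro a ha hao hax
      refine Subgroup.mem_centralizer_iff.2 fun y hy => ?_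
      obtain ⟨e, he⟩ := P.isPGroup' ⟨y, hy⟩
      have he' : y ^ p ^ e = 1 := congrArg Subtype.val he
      clear he
      induction e generalizing y with
      | zero => rw [pow_zero, pow_one] at he'; rw [he']; simp
      | succ e ih =>
        have hyp : a * y ^ p = y ^ p * a := (ih (y ^ p) (pow_mem hy p) (by rw [← pow_mul, ← pow_succ']; exact he')).symm
        have hb : a * y * a⁻¹ * y⁻¹ ∈ (P : Subgroup G) := LocalEven.commutator_mem_of_normalizer ha hy
        have hbp : (a * y * a⁻¹ * y⁻¹) ^ p = 1 := by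
          rw [(show Commute (a * y * a⁻¹) y⁻¹ from hPc _ ((Subgroup.mem_set_normalizer_iff.1 ha y).1 hy) _ (inv_mem hy)).mul_pow,
            conj_pow, inv_pow, hyp, mul_inv_cancel_right, mul_inv_cancel]
        refine (LocalEven.commute_of_commutator_fixed hao (n := 1) (by rw [pow_one]; exact hbp) ?_).symm
        obtain ⟨j, hj⟩ := hx
        obtain ⟨i, rfl⟩ : ∃ i, j = i + 1 := ⟨j - 1, by
          rcases j with _ | j
          · rw [pow_zero, orderOf_eq_one_iff] at hj; exact absurd hj hx1
          · rfl⟩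
        obtain ⟨w, hwe⟩ : ∃ w : ↥(P : Subgroup G), w = ⟨x ^ p ^ i, pow_mem hxP _⟩ := ⟨_, rfl⟩
        have hwo : orderOf w = p := by
          rw [hwe, Subgroup.orderOf_mk, orderOf_pow_of_dvd (pow_ne_zero _ (Fact.out : p.Prime).ne_zero)
            (hj ▸ pow_dvd_pow p (Nat.le_succ i)), hj, pow_succ, Nat.mul_div_cancel_left _ (pow_pos (Fact.out : p.Prime).pos _)]
        obtain ⟨t, ht⟩ : ∃ t : ↥(P : Subgroup G), (t : G) = a * y * a⁻¹ * y⁻¹ := ⟨⟨_, hb⟩, rfl⟩
        have htw : t ∈ Subgroup.zpowers w := by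
          rcases eq_or_ne t 1 with rfl | ht1
          · exact one_mem _
          have hto : orderOf t = p := orderOf_eq_prime (Subtype.ext (by rw [SubmonoidClass.coe_pow, ht]; exact hbp)) ht1
          classical
          letI : Fintype ↥(P : Subgroup G) := Fintype.ofFinite _
          by_contra htz
          have hle := IsCyclic.card_pow_eq_one_le (α := ↥(P : Subgroup G)) (Fact.out : p.Prime).pos
          have hsub : insert t ((Subgroup.zpowers w : Set ↥(P : Subgroup G)).toFinset) ⊆
              Finset.univ.filter fun v : ↥(P : Subgroup G) => v ^ p = 1 := by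
            intro v hv
            rw [Finset.mem_insert] at hv
            refine Finset.mem_filter.2 ⟨Finset.mem_univ _, ?_⟩
            rcases hv with rfl | hv
            · exact orderOf_dvd_iff_pow_eq_one.1 hto.dvd
            · rw [Set.mem_toFinset] at hv
              obtain ⟨z, rfl⟩ := hv
              show (w ^ z) ^ p = 1
              rw [← zpow_natCast (w ^ z) p, ← zpow_mul, mul_comm, zpow_mul, zpow_natCast,
                orderOf_dvd_iff_pow_eq_one.1 hwo.dvd, one_zpow]
          have h2 := (Finset.card_le_card hsub).trans hle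
          rw [Finset.card_insert_of_notMem (by rw [Set.mem_toFinset]; exact htz), Set.toFinset_card,
            ← Nat.card_eq_fintype_card] at h2
          rw [show Nat.card ↑(Subgroup.zpowers w : Set ↥(P : Subgroup G)) = p from (Nat.card_zpowers w).trans hwo] at h2
          omega
        obtain ⟨z, hz⟩ := Subgroup.mem_zpowers_iff.1 htw
        rw [← ht, ← hz, hwe, SubgroupClass.coe_zpow]
        exact (((show Commute a x from hax).pow_right _).zpow_right z).eq
    rw [hnd]
    refine mul_mem (zpow_mem ?_ u) (zpow_mem ?_ v)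
    · refine hC _ (pow_mem hn _) ?_ ((show Commute n x from hnx).pow_left _).eq
      rw [orderOf_pow_of_dvd (pow_ne_zero _ (Fact.out : p.Prime).ne_zero) (hnm ▸ dvd_mul_right _ _), hnm,
        Nat.mul_div_cancel_left _ (pow_pos (Fact.out : p.Prime).pos _)]
      exact ((Fact.out : p.Prime).coprime_iff_not_dvd.2 hm).symm
    · have hpe : (n ^ m) ^ p ^ k = 1 := by rw [← pow_mul, mul_comm, ← hnm, pow_orderOf_eq_one]
      have hsup : IsPGroup p ↥(Subgroup.zpowers (n ^ m) ⊔ (P : Subgroup G)) := by
        refine IsPGroup.to_sup_of_normal_right' ?_ P.isPGroup' (Subgroup.zpowers_le.2 (pow_mem hn m))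
        obtain ⟨i, -, hi⟩ := (Nat.dvd_prime_pow Fact.out).1 (orderOf_dvd_of_pow_eq_one hpe)
        exact IsPGroup.of_card (n := i) (by rw [Nat.card_zpowers, hi])
      have hnP : n ^ m ∈ (P : Subgroup G) := by
        rw [← (sylIn_top P).eq_of_le hsup le_sup_right le_top]
        exact Subgroup.mem_sup_left (Subgroup.mem_zpowers _)
      exact Subgroup.mem_centralizer_iff.2 fun y hy => hPc y hy _ hnP

end Cfsg.Agent.S2970
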