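import Cfsg.Statements.S2971
import Cfsg.Agent.Lib.LocalEven.Isolated
import Cfsg.Agent.Lib.Fusion.NPC
import Cfsg.Agent.Lib.Solv.UniqueSub
import Cfsg.Agent.S2970
-- import your own Cfsg.Agent.* helpers here

set_option autoImplicit false
open Cfsg

open Cfsg.Agent Cfsg.Agent.Fusion

namespace Cfsg.Agent.S2971

/-- Let G be a finite group and p an odd prime such that G has p-rank at most 1 (no elementary abelian subgroup of order p²). If x ∈ G is an isolated element of order p, then x is central modulo the largest normal subgroup of G of order prime to p. -/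
theorem result {G : Type*} [Group G] [Finite G] {p : ℕ} [Fact p.Prime] (hp : p ≠ 2) (hrk : Cfsg.PRankLE p 1 G) (x : G) (hx : orderOf x = p) (hiso : Cfsg.IsIsolated x) : Cfsg.InZStar p x := by
  classical
  have hxk : ∃ k : ℕ, orderOf x = p ^ k := ⟨1, by rw [hx, pow_one]⟩
  have hcyc : ∀ P : Sylow p G, IsCyclic ↥(P : Subgroup G) := by
    intro P
    have hu : Solv.UniqueOrderP p ↥(P : Subgroup G) := by
      rcases eq_or_ne (P : Subgroup G) ⊥ with hP | hP
      · intro a b _ _ hb
        exact absurd (Subtype.ext (Subgroup.mem_bot.1 (hP ▸ b.2) : (b : G) = 1)) hb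
      obtain ⟨z, hzP, hz, hzc⟩ :=
        LocalEven.exists_central_order P.isPGroup' le_rfl Subgroup.le_normalizer hP
      have hz1 : z ^ p = 1 := by rw [← hz, pow_orderOf_eq_one]
      have key : ∀ a : ↥(P : Subgroup G), (a : G) ^ p = 1 → (a : G) ∈ Subgroup.zpowers z := by
        intro a ha
        set A := Subgroup.closure ({z, (a : G)} : Set G) with hA
        have hAC : ∀ u ∈ A, (u * z = z * u) ∧ (u * a = a * u) := by
          intro u hu
          induction hu using Subgroup.closure_induction with
          | mem v hv =>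
            rcases hv with rfl | rfl
            · exact ⟨rfl, (hzc a a.2).symm⟩
            · exact ⟨hzc a a.2, rfl⟩
          | one => simp
          | mul v w _ _ hv hw =>
            exact ⟨((show Commute v z from hv.1).mul_left hw.1).eq, ((show Commute v (a : G) from hv.2).mul_left hw.2).eq⟩
          | inv v _ hv => exact ⟨(show Commute v z from hv.1).inv_left.eq, (show Commute v (a : G) from hv.2).inv_left.eq⟩
        have hAab : IsMulCommutative A := ⟨⟨fun u v => Subtype.ext (by
          show (u : G) * v = v * u
          have hle : A ≤ Subgroup.centralizer ({(u : G)} : Set G) := (Subgroup.closure_le _).2 (by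
            rintro w (rfl | rfl)
            · exact Subgroup.mem_centralizer_singleton_iff.2 (hAC u u.2).1.symm
            · exact Subgroup.mem_centralizer_singleton_iff.2 (hAC u u.2).2.symm)
          exact (Subgroup.mem_centralizer_singleton_iff.1 (hle v.2)).symm)⟩⟩
        have hAp : ∀ u ∈ A, u ^ p = 1 := by
          intro u hu
          induction hu using Subgroup.closure_induction with
          | mem v hv => rcases hv with rfl | rfl; exacts [hz1, ha]
          | one => simp
          | mul v w hv hw hv' hw' =>
            rw [(show Commute v w from congrArg Subtype.val (hAab.1.1 ⟨v, hv⟩ ⟨w, hw⟩)).mul_pow, hv', hw', one_mul]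
          | inv v _ hv => rw [inv_pow, hv, inv_one]
        have hle : Subgroup.zpowers z ≤ A := Subgroup.zpowers_le.2 (Subgroup.subset_closure (Or.inl rfl))
        rw [Subgroup.eq_of_le_of_card_ge hle (by
          rw [Nat.card_zpowers, hz]; exact (hrk A hAab hAp).trans_eq (pow_one p))]
        exact Subgroup.subset_closure (Or.inr rfl)
      intro a b ha hb hb1
      have ha' := key a (congrArg Subtype.val ha)
      have hb' := key b (congrArg Subtype.val hb)
      have hbb : Subgroup.zpowers (b : G) = Subgroup.zpowers z :=
        Subgroup.eq_of_le_of_card_ge (Subgroup.zpowers_le.2 hb') (by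
          rw [Nat.card_zpowers, Nat.card_zpowers, hz, orderOf_eq_prime (show (b : G) ^ p = 1 from congrArg Subtype.val hb)
            (fun h => hb1 (Subtype.ext h))])
      rw [← hbb] at ha'
      obtain ⟨i, hi⟩ := ha'
      exact ⟨i, Subtype.ext (by simpa using hi)⟩
    exact (Solv.cyclic_or_quaternion P.isPGroup' hu).resolve_right fun h => hp h.1
  have hnpc : Cfsg.HasNormalPComplement p G := by
    obtain ⟨P, hP⟩ := (LocalEven.isPGroup_zpowers hxk).exists_le_sylow
    have hxP : x ∈ (P : Subgroup G) := hP (Subgroup.mem_zpowers x)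
    refine S2970.result x hxk hiso |>.2 (fun h => ?_) hcyc
    rw [h, orderOf_one] at hx
    exact (Fact.out : p.Prime).ne_one hx.symm
  intro g
  obtain ⟨P, hP⟩ := (LocalEven.isPGroup_zpowers hxk).exists_le_sylow
  have hxP : x ∈ (P : Subgroup G) := hP (Subgroup.mem_zpowers x)
  obtain ⟨r, hr, s, hs, rfl⟩ := Subgroup.mem_sup_of_normal_left.1
    ((pResidual_sup_sylow P).ge (Subgroup.mem_top g))
  have hsx : s * x = x * s := Subgroup.mem_centralizer_singleton_iff.1
    (LocalEven.pgroup_le_centralizer_of_isolated hiso P.isPGroup' hxP hs)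
  refine hnpc_pResidual_le_pPrimeCore hnpc ?_
  rw [show r * s * x * (r * s)⁻¹ * x⁻¹ = r * ((s * x) * s⁻¹ * r⁻¹ * x⁻¹) by group, hsx,
    show x * s * s⁻¹ * r⁻¹ * x⁻¹ = x * r⁻¹ * x⁻¹ by group]
  exact mul_mem hr ((inferInstance : (Cfsg.pResidual p G).Normal).conj_mem _ (inv_mem hr) x)

end Cfsg.Agent.S2971
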