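import Cfsg.Statements.S2972
import Cfsg.Agent.Lib.LocalEven.IsolatedMinimalZStar
import Cfsg.Agent.Lib.Solv.Coprime

set_option autoImplicit false
open Cfsg
open Cfsg.Agent Cfsg.Agent.Fusion
open scoped commutatorElement

namespace Cfsg.Agent.S2972

/-- Let G be a finite group, p a prime and x ∈ G an isolated element of order p (the only conjugate of x commuting with x is x) which is not central modulo the largest normal subgroup of order prime to p, while x is central modulo the largest normal subgroup of order prime to p in every proper subgroup containing x, and the image of x is so in every quotient of G by a nontrivial normal subgroup (a minimal counterexample to the Z*_p statement). Then the derived subgroup G' is a non-abelian simple group and G = G'⟨x⟩. -/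
theorem result {G : Type*} [Group G] [Finite G] {p : ℕ} [Fact p.Prime] (x : G) (hx : orderOf x = p) (hiso : Cfsg.IsIsolated x) (hnz : ¬ Cfsg.InZStar p x) (hmin : ∀ (H : Subgroup G) (hxH : x ∈ H), H ≠ ⊤ → Cfsg.InZStar p (⟨x, hxH⟩ : ↥H)) (hquot : ∀ (N : Subgroup G) [N.Normal], N ≠ ⊥ → Cfsg.InZStar p (QuotientGroup.mk x : G ⧸ N)) : IsSimpleGroup ↥(commutator G) ∧ ¬ IsMulCommutative ↥(commutator G) ∧ commutator G ⊔ Subgroup.zpowers x = ⊤ := by
  classical
  have hxk : ∃ k : ℕ, orderOf x = p ^ k := ⟨1, by rw [hx, pow_one]⟩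
  have hO := LocalEven.pPrimeCore_eq_bot_of_minimal hnz hquot
  have hOp := LocalEven.pCore_eq_bot_of_minimal hxk hiso hnz hmin hquot
  have hsupp := LocalEven.sup_zpowers_eq_top hxk hiso hnz hmin hquot
  have hne : commutator G ≠ ⊥ := by
    intro h
    obtain ⟨g, hg⟩ := LocalEven.exists_moved_of_minimal hnz
    have h1 : ⁅g, x⁆ ∈ commutator G := Subgroup.commutator_mem_commutator (Subgroup.mem_top g) (Subgroup.mem_top x)
    rw [h, Subgroup.mem_bot, commutatorElement_def, mul_inv_eq_one] at h1
    exact hg h1
  haveI : Nontrivial (commutator G) := (Subgroup.nontrivial_iff_ne_bot _).2 hne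
  have hsimple : IsSimpleGroup ↥(commutator G) := by
    refine IsSimpleGroup.mk fun T₀ hT₀ => or_iff_not_imp_left.2 fun hT₀' => ?_
    -- a minimal nontrivial normal subgroup
    obtain ⟨T, hTle, hT⟩ := Finite.exists_le_minimal
      (p := fun T : Subgroup ↥(commutator G) => T.Normal ∧ T ≠ ⊥) (a := T₀) ⟨hT₀, hT₀'⟩
    obtain ⟨hTn, hTne⟩ := hT.1
    suffices hTt : T = ⊤ from top_le_iff.1 (hTt ▸ hTle)
    obtain ⟨U, hU⟩ : ∃ U, U = T.map (commutator G).subtype := ⟨_, rfl⟩
    have hUne : U ≠ ⊥ := by
      rw [hU, Ne, Subgroup.map_eq_bot_iff_of_injective _ (commutator G).subtype_injective]; exact hTne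
    have hUle : U ≤ commutator G := hU ▸ Subgroup.map_subtype_le T
    have hUnorm : commutator G ≤ Subgroup.normalizer (U : Set G) := by
      intro g hg
      refine mem_normalizer_of_cj_le ?_
      rintro _ ⟨_, hu, rfl⟩
      rw [hU] at hu ⊢
      obtain ⟨u, hu', rfl⟩ := hu
      exact ⟨_, hTn.conj_mem u hu' ⟨g, hg⟩, rfl⟩
    have htop := hsupp (commutator G) hne
    by_cases hxU : x ∈ Subgroup.normalizer (U : Set G)
    · haveI hUn : U.Normal := Subgroup.normalizer_eq_top_iff.1 (top_le_iff.1
        (htop ▸ sup_le hUnorm (Subgroup.zpowers_le.2 hxU)))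
      have hU2 := hsupp U hUne
      have hle : commutator G ≤ U := by
        rw [commutator_def, Subgroup.commutator_le]
        intro a _ b _
        obtain ⟨u, hu, s, hs, rfl⟩ := Subgroup.mem_sup_of_normal_left.1 (hU2.ge (Subgroup.mem_top a))
        obtain ⟨v, hv, t, ht, rfl⟩ := Subgroup.mem_sup_of_normal_left.1 (hU2.ge (Subgroup.mem_top b))
        rw [← QuotientGroup.eq_one_iff, ← QuotientGroup.mk'_apply, map_commutatorElement,
          commutatorElement_eq_one_iff_mul_comm, map_mul, map_mul]
        simp only [QuotientGroup.mk'_apply, (QuotientGroup.eq_one_iff u).2 hu,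
          (QuotientGroup.eq_one_iff v).2 hv, one_mul, ← QuotientGroup.mk_mul]
        obtain ⟨i, rfl⟩ := hs
        obtain ⟨j, rfl⟩ := ht
        rw [zpow_mul_comm]
      refine Subgroup.map_injective (commutator G).subtype_injective ?_
      rw [← hU, ← MonoidHom.range_eq_map, Subgroup.range_subtype]
      exact le_antisymm hUle hle
    exfalso
    -- distinct conjugates of `U` meet trivially, but share the elements centralized by `x`
    have hinf : cj U x ⊓ U = ⊥ := by
      have hn : ((cj U x ⊓ U).subgroupOf (commutator G)).Normal := by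
        refine ⟨fun a ha g => Subgroup.mem_subgroupOf.2 (Subgroup.mem_inf.2 ⟨?_, ?_⟩)⟩
        · have hg : (g : G) ∈ Subgroup.normalizer (cj U x : Set G) := by
            rw [← cj_normalizer, mem_cj]
            exact hUnorm (by
              simpa using (inferInstance : (commutator G).Normal).conj_mem _ g.2 x⁻¹)
          exact (Subgroup.mem_set_normalizer_iff.1 hg _).1 (Subgroup.mem_inf.1 (Subgroup.mem_subgroupOf.1 ha)).1
        · exact (Subgroup.mem_set_normalizer_iff.1 (hUnorm g.2) _).1
            (Subgroup.mem_inf.1 (Subgroup.mem_subgroupOf.1 ha)).2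
      have hle : (cj U x ⊓ U).subgroupOf (commutator G) ≤ T := by
        intro a ha
        have ha' := (Subgroup.mem_inf.1 (Subgroup.mem_subgroupOf.1 ha)).2
        rw [hU] at ha'
        obtain ⟨u, hu, hua⟩ := ha'
        exact (Subtype.ext hua : u = a) ▸ hu
      by_contra hne'
      have hne'' : (cj U x ⊓ U).subgroupOf (commutator G) ≠ ⊥ := by
        intro h
        refine hne' (eq_bot_iff.2 fun a ha => ?_)
        have h1 : (⟨a, hUle ha.2⟩ : ↥(commutator G)) ∈ (cj U x ⊓ U).subgroupOf (commutator G) :=
          Subgroup.mem_subgroupOf.2 ha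
        rw [h, Subgroup.mem_bot] at h1
        exact Subgroup.mem_bot.2 (congrArg Subtype.val h1)
      have hge := hT.2 ⟨hn, hne''⟩ hle
      refine hxU (mem_normalizer_iff_cj.2 (Subgroup.eq_of_le_of_card_ge ?_ (card_cj U x).le).symm)
      rw [hU]
      rintro _ ⟨u, hu, rfl⟩
      have h := (Subgroup.mem_inf.1 (Subgroup.mem_subgroupOf.1 (hge hu))).1
      rw [hU] at h
      exact h
    obtain ⟨P, hP⟩ := (LocalEven.isPGroup_zpowers hxk).exists_le_sylow
    have hPc := LocalEven.pgroup_le_centralizer_of_isolated hiso P.isPGroup' (hP (Subgroup.mem_zpowers x))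
    have h1 : SylIn p ((P : Subgroup G) ⊓ commutator G) (commutator G) := by
      simpa [Subgroup.normalizer_eq_top] using (sylIn_top P).inf_normal (N := commutator G) le_top
        (by rw [Subgroup.normalizer_eq_top])
    have h2 := h1.inf_normal (N := U) hUle hUnorm
    have hTp : ¬ (Nat.card U).Coprime p := by
      intro hc
      rw [hU, Subgroup.card_map_of_injective (commutator G).subtype_injective] at hc
      have h := Subgroup.map_mono (f := (commutator G).subtype) (le_pPrimeCore (hn := hTn) hc)
      rw [LocalEven.map_pPrimeCore_eq_bot_of_normal hO, ← hU, le_bot_iff] at h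
      exact hUne h
    rw [Nat.coprime_comm, (Fact.out : p.Prime).coprime_iff_not_dvd, not_not] at hTp
    obtain ⟨t, ht⟩ := exists_prime_orderOf_dvd_card' (G := U) p hTp
    obtain ⟨S, hS, htS⟩ := exists_sylIn_ge (H := U) (p := p) (Q := Subgroup.zpowers (t : G))
      (IsPGroup.of_card (n := 1) (by rw [Nat.card_zpowers, Subgroup.orderOf_coe, ht, pow_one]))
      (Subgroup.zpowers_le.2 t.2)
    obtain ⟨k, hk, hkS⟩ := h2.conj_le hS.isPGroup hS.le
    have htk : k * (t : G) * k⁻¹ ∈ (P : Subgroup G) ⊓ commutator G ⊓ U :=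
      hkS (conj_mem_cj (htS (Subgroup.mem_zpowers _)))
    obtain ⟨⟨htP, -⟩, htU⟩ := htk
    have hcomm := Subgroup.mem_centralizer_singleton_iff.1 (hPc htP)
    have h4 : k * (t : G) * k⁻¹ ∈ cj U x ⊓ U := Subgroup.mem_inf.2
      ⟨by have := conj_mem_cj (g := x) htU; rwa [← hcomm, mul_inv_cancel_right] at this, htU⟩
    rw [hinf, Subgroup.mem_bot, conj_eq_one_iff] at h4
    rw [← Subgroup.orderOf_coe, h4, orderOf_one] at ht
    exact (Fact.out : p.Prime).ne_one ht.symm
  refine ⟨hsimple, fun hab => ?_, hsupp _ hne⟩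
  haveI := hsimple
  letI : CommGroup ↥(commutator G) :=
    { (inferInstance : Group ↥(commutator G)) with mul_comm := hab.1.1 }
  have hprime : (Nat.card (commutator G)).Prime := IsSimpleGroup.prime_card
  refine hne ?_
  rcases eq_or_ne (Nat.card (commutator G)) p with h | h
  · exact eq_bot_iff.2 (hOp ▸ le_pCore (IsPGroup.of_card (n := 1) (by rw [h, pow_one])))
  · exact eq_bot_iff.2 (hO ▸ le_pPrimeCore ((Nat.coprime_primes hprime Fact.out).2 h))

end Cfsg.Agent.S2972
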