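import Cfsg.Statements.S2975
import Cfsg.Agent.Lib.LocalEven.IsolatedMinimalZStar
import Cfsg.Agent.Lib.Solv.Coprime

set_option autoImplicit false
open Cfsg
open Cfsg.Agent Cfsg.Agent.Fusion
open scoped commutatorElement

namespace Cfsg.Agent.S2975

/-- Let G be a finite group, p a prime and x ∈ G an isolated element of order p (the only conjugate of x commuting with x is x) which is not central modulo the largest normal subgroup of order prime to p, while x is central modulo the largest normal subgroup of order prime to p in every proper subgroup containing x, and the image of x is so in every quotient of G by a nontrivial normal subgroup (a minimal counterexample to the Z*_p statement). Then for every prime q, every q-subgroup of G that is normalized by x and maximal among the q-subgroups normalized by x is either trivial or a Sylow q-subgroup of G; and C_G(x) permutes the x-invariant Sylow q-subgroups of G transitively by conjugation. -/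
theorem result {G : Type*} [Group G] [Finite G] {p : ℕ} [Fact p.Prime] (x : G) (hx : orderOf x = p) (hiso : Cfsg.IsIsolated x) (hnz : ¬ Cfsg.InZStar p x) (hmin : ∀ (H : Subgroup G) (hxH : x ∈ H), H ≠ ⊤ → Cfsg.InZStar p (⟨x, hxH⟩ : ↥H)) (hquot : ∀ (N : Subgroup G) [N.Normal], N ≠ ⊥ → Cfsg.InZStar p (QuotientGroup.mk x : G ⧸ N)) (q : ℕ) [Fact q.Prime] : (∀ Q : Subgroup G, IsPGroup q ↥Q → x ∈ Subgroup.normalizer (Q : Set G) → (∀ R : Subgroup G, IsPGroup q ↥R → x ∈ Subgroup.normalizer (R : Set G) → Q ≤ R → R = Q) → Q = ⊥ ∨ ∃ S : Sylow q G, (S : Subgroup G) = Q) ∧ (∀ S₁ S₂ : Sylow q G, x ∈ Subgroup.normalizer ((S₁ : Subgroup G) : Set G) → x ∈ Subgroup.normalizer ((S₂ : Subgroup G) : Set G) → ∃ c ∈ Subgroup.centralizer ({x} : Set G), (S₁ : Subgroup G).map (MulAut.conj c).toMonoidHom = (S₂ : Subgroup G)) := by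
  classical
  have hxk : ∃ k : ℕ, orderOf x = p ^ k := ⟨1, by rw [hx, pow_one]⟩
  have hO := LocalEven.pPrimeCore_eq_bot_of_minimal hnz hquot
  refine ⟨fun Q hQ hxQ hmax => ?_, fun S₁ S₂ h1 h2 => ?_⟩
  · rcases eq_or_ne q p with rfl | hqp
    · right
      have hle : Q ≤ Subgroup.zpowers x ⊔ Q := le_sup_right
      have hR : IsPGroup q ↥(Subgroup.zpowers x ⊔ Q) :=
        (LocalEven.isPGroup_zpowers hxk).to_sup_of_normal_right' hQ (Subgroup.zpowers_le.2 hxQ)
      have heq := hmax _ hR (Subgroup.le_normalizer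
        (Subgroup.mem_sup_left (Subgroup.mem_zpowers x))) hle
      have hx' : x ∈ Q := heq ▸ Subgroup.mem_sup_left (Subgroup.mem_zpowers x)
      obtain ⟨P, hP⟩ := hQ.exists_le_sylow
      exact ⟨P, hmax _ P.isPGroup' (Subgroup.le_normalizer (hP hx')) hP⟩
    · refine or_iff_not_imp_left.2 fun hQ0 => ?_
      set H := Subgroup.normalizer (Q : Set G) with hH
      have hH0 : H ≠ ⊤ := by
        intro h
        haveI : Q.Normal := Subgroup.normalizer_eq_top_iff.1 h
        obtain ⟨k, hk⟩ := IsPGroup.iff_card.1 hQ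
        exact hQ0 (eq_bot_iff.2 (hO ▸ le_pPrimeCore
          (by rw [hk]; exact ((Nat.coprime_primes Fact.out Fact.out).2 hqp).pow_left k)))
      -- an invariant Sylow subgroup of `H` above `Q`
      obtain ⟨R, hR⟩ : ∃ R : Sylow q H, True := ⟨default, trivial⟩
      set M := (pPrimeCore p H ⊔ (R : Subgroup H)).map H.subtype with hM
      have hMc : (Nat.card M).Coprime p := by
        rw [hM, Subgroup.card_map_of_injective H.subtype_injective, sup_comm]
        refine Nat.Coprime.coprime_dvd_left (card_sup_dvd (pPrimeCore p H) (R : Subgroup H))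
          (Nat.Coprime.mul_left ?_ (card_pPrimeCore_coprime p H))
        obtain ⟨k, hk⟩ := IsPGroup.iff_card.1 R.isPGroup'
        rw [hk]
        exact ((Nat.coprime_primes Fact.out Fact.out).2 hqp).pow_left k
      have hxM : x ∈ Subgroup.normalizer (M : Set G) := by
        refine mem_normalizer_of_cj_le ?_
        rintro _ ⟨_, ⟨a, ha, rfl⟩, rfl⟩
        refine ⟨⟨x, hxQ⟩ * a * ⟨x, hxQ⟩⁻¹, ?_, rfl⟩
        have h := mul_mem (Subgroup.mem_sup_left (T := (R : Subgroup H))
          (inv_mem (hmin H hxQ hH0 a))) ha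
        rwa [show (a * (⟨x, hxQ⟩ : H) * a⁻¹ * (⟨x, hxQ⟩ : H)⁻¹)⁻¹ * a
          = ⟨x, hxQ⟩ * a * ⟨x, hxQ⟩⁻¹ by group] at h
      have hQR : Q ≤ (R : Subgroup H).map H.subtype := by
        rw [← Subgroup.map_subgroupOf_eq_of_le (Subgroup.le_normalizer : Q ≤ H)]
        refine Subgroup.map_mono ?_
        haveI : (Q.comap H.subtype).Normal := Subgroup.normal_in_normalizer
        exact (hQ.comap_of_injective H.subtype H.subtype_injective).le_sylow_of_normal R
      have hRM : (R : Subgroup H).map H.subtype ≤ M := Subgroup.map_mono le_sup_right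
      obtain ⟨V, hV, hQV, hxV⟩ := Solv.exists_invariant_sylow_ge (Subgroup.zpowers_le.2 hxM)
        (by rw [Nat.card_zpowers, hx]; exact hMc.symm)
        (Or.inl (Group.isSolvable_of_comm fun a b =>
          (inferInstance : IsMulCommutative (Subgroup.zpowers x)).is_comm.comm a b))
        Q (hQR.trans hRM) hQ (Subgroup.zpowers_le.2 hxQ)
      have hVQ : V = Q := hmax V hV.isPGroup (hxV (Subgroup.mem_zpowers x)) hQV
      have hQR' : Q = (R : Subgroup H).map H.subtype := by
        rw [← hVQ] at hQR ⊢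
        exact hV.eq_of_le (R.isPGroup'.map _) hRM hQR
      obtain ⟨P, hP⟩ := hQ.exists_le_sylow
      refine ⟨P, (le_antisymm ?_ hP)⟩
      by_contra hle
      have hlt : Q < (P : Subgroup G) ⊓ H := SylIn.normalizer_growth hP (fun e => hle e.ge) P.isPGroup'
      have h := R.is_maximal' ((P.isPGroup'.to_le inf_le_left).comap_of_injective H.subtype H.subtype_injective :
        IsPGroup q (((P : Subgroup G) ⊓ H).comap H.subtype)) (by
          intro a ha
          exact hlt.le (hQR'.symm ▸ Subgroup.mem_map_of_mem H.subtype ha))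
      refine hlt.not_ge fun a ha => ?_
      rw [hQR']
      exact ⟨⟨a, ha.2⟩, h ▸ ha, rfl⟩
  · obtain ⟨g, hg⟩ := MulAction.exists_smul_eq G S₁ S₂
    have hg' : cj (S₁ : Subgroup G) g = (S₂ : Subgroup G) := by rw [← hg]; rfl
    have hgx : g * x * g⁻¹ ∈ Subgroup.normalizer ((S₂ : Subgroup G) : Set G) := by
      rw [← hg', ← cj_normalizer]
      exact conj_mem_cj h1
    obtain ⟨c, hc, hcg⟩ := LocalEven.exists_conj_of_isolated hxk hiso h2 hgx
    refine ⟨c * g, Subgroup.mem_centralizer_singleton_iff.2 hcg, ?_⟩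
    show cj (S₁ : Subgroup G) (c * g) = _
    rw [← cj_cj, hg', cj_eq_self hc]

end Cfsg.Agent.S2975
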