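import Cfsg.Statements.S2981
import Cfsg.Agent.Lib.PushUp.OffBlock.Local
import Cfsg.Agent.Lib.Fusion.Cores
import Cfsg.Agent.Lib.Solv.Cores
import Cfsg.Agent.Lib.Local.ElemAb

set_option autoImplicit false
open Cfsg Cfsg.Agent
open scoped Pointwise

namespace Cfsg.Agent.S2981

/-- The local C**(G,T)-Theorem for minimal parabolic groups. Let G be a finite p-minimal group (a Sylow p-subgroup T is not normal and lies in exactly one maximal subgroup) of characteristic p (C_G(O_p(G)) ≤ O_p(G)), and suppose G ≠ C**(G,T), the subgroup generated by C_G(Ω₁(Z(T))) and N_G(J(T)) (J(T) generated by the elementary abelian p-subgroups of T of largest order). Put V = Ω₁(Z(O_p(G))) and C = C_G(V). Then there are subgroups E₁, …, E_r of G containing C such that: J(G)TC = G and the E_i C/C form an internal direct product equal to J(G)C/C; any two of the E_i are conjugate by an element of T; V = C_V(⟨E_i⟩)·∏[V, E_i] with [V, E_i, E_j] = 1 for i ≠ j; for some n ≥ 1, each E_i/C is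 isomorphic to SL₂(pⁿ), or p = 2 and to the symmetric group of degree 2ⁿ + 1; and E_i acts on [V, E_i]/C_{[V,E_i]}(E_i) as the natural two-dimensional SL₂(pⁿ)-module, respectively as the symmetric group of degree 2ⁿ+1 on its even-weight permutation module. -/
theorem result {G : Type*} [Group G] [Finite G] {p : ℕ} [Fact p.Prime] (hmin : Cfsg.IsPMinimal p G) (hG : Subgroup.centralizer (Cfsg.pCore p G : Set G) ≤ Cfsg.pCore p G) (T : Sylow p G) (hne : Cfsg.cStarStarOf p (T : Subgroup G) ≠ ⊤) : ∃ (r : ℕ) (E : Fin r → Subgroup G), (∀ i, Subgroup.centralizer (Cfsg.omegaOneCenter p (Cfsg.pCore p G) : Set G) ≤ E i) ∧ Cfsg.thompsonSubgroup p G ⊔ (T : Subgroup G) ⊔ Subgroup.centralizer (Cfsg.omegaOneCenter p (Cfsg.pCore p G) : Set G) = ⊤ ∧ (⨆ i, E i) = Cfsg.thompsonSubgroup p G ⊔ Subgroup.centralizer (Cfsg.omegaOneCenter p (Cfsg.pCore p G) : Set G) ∧ (∀ i j, i ≠ j → ⁅E i, E j⁆ ≤ Subgroup.centralizer (Cfsg.omegaOneCenter p (Cfsg.pCore p G) : Set G)) ∧ (∀ i, E i ⊓ (⨆ j ∈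 {j | j ≠ i}, E j) ≤ Subgroup.centralizer (Cfsg.omegaOneCenter p (Cfsg.pCore p G) : Set G)) ∧ (∀ i j, ∃ t ∈ (T : Subgroup G), (E i).map (MulAut.conj t).toMonoidHom = E j) ∧ (Cfsg.omegaOneCenter p (Cfsg.pCore p G) ⊓ Subgroup.centralizer ((⨆ i, E i : Subgroup G) : Set G)) ⊔ (⨆ i, ⁅Cfsg.omegaOneCenter p (Cfsg.pCore p G), E i⁆) = Cfsg.omegaOneCenter p (Cfsg.pCore p G) ∧ (∀ i j, i ≠ j → ⁅⁅Cfsg.omegaOneCenter p (Cfsg.pCore p G), E i⁆, E j⁆ = ⊥) ∧ ∀ i, ∃ n : ℕ, 1 ≤ n ∧ ((∃ (F : Type) (_ : Field F) (_ : Fintype F), Fintype.card F = p ^ n ∧ (∃ _ : ((Subgroup.centralizer (Cfsg.omegaOneCenter p (Cfsg.pCore p G) : Set G)).subgroupOf (E i)).Normal, Nonempty (↥(E i) ⧸ (Subgroup.centralizer (Cfsg.omegaOneCenter p (Cfsg.pCore p G) : Set G)).subgroupOf (E i) ≃* Matrix.SpecialLinearGroup (Fin 2) F)) ∧ Cfsg.ActsAsSL2OnSection F ⊤ (E i) ⁅Cfsg.omegaOneCenter p (Cfsg.pCore p G), E i⁆ (⁅Cfsg.omegaOneCenter p (Cfsg.pCore p G), E i⁆ ⊓ Subgroup.centralizer ((E i : Subgroup G) : Set G)))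 ∨ (p = 2 ∧ (∃ _ : ((Subgroup.centralizer (Cfsg.omegaOneCenter p (Cfsg.pCore p G) : Set G)).subgroupOf (E i)).Normal, Nonempty (↥(E i) ⧸ (Subgroup.centralizer (Cfsg.omegaOneCenter p (Cfsg.pCore p G) : Set G)).subgroupOf (E i) ≃* Equiv.Perm (Fin (2 ^ n + 1)))) ∧ Cfsg.ActsAsOddPermModuleOnSection (2 ^ n + 1) ⊤ (E i) ⁅Cfsg.omegaOneCenter p (Cfsg.pCore p G), E i⁆ (⁅Cfsg.omegaOneCenter p (Cfsg.pCore p G), E i⁆ ⊓ Subgroup.centralizer ((E i : Subgroup G) : Set G)))) := by
  classical
  have hp := (inferInstance : Fact p.Prime).out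
  set Q := pCore p G with hQdef
  have hQT : Q ≤ (T : Subgroup G) := Fusion.pCore_le_sylow T
  haveI hQn : Q.Normal := Solv.pCore_normal p
  set V := omegaOneCenter p Q with hVdef
  obtain ⟨hVQ, hVel, hVmem⟩ := OffBlock.omega_props (p := p) Q
  haveI hVn : V.Normal := OffBlock.omega_normal Q
  set C := Subgroup.centralizer (V : Set G) with hCdef
  haveI hCn : C.Normal := Subgroup.normal_centralizer
  have hQC : Q ≤ C := fun x hx => Subgroup.mem_centralizer_iff.2 fun v hv =>
    (Subgroup.mem_centralizer_iff.1 (hVQ hv).2 x hx).symm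
  obtain ⟨M, ⟨hM, hTM⟩, -⟩ := (hmin T).2
  have huniq := OffBlock.pMin_uniq hM hmin
  have hTtop := Fusion.sylIn_top T
  have hOmega := OffBlock.omega_le_omega hG T hQT
  -- `C**` lies in `M`
  have hstarM : cStarStarOf p (T : Subgroup G) ≤ M := by
    refine huniq _ hTtop hTM _ (le_trans ?_ le_sup_left) hne
    exact fun x hx => Subgroup.mem_centralizer_iff.2 fun v hv =>
      (Subgroup.mem_centralizer_iff.1 ((OffBlock.omega_props (p := p) (T : Subgroup G)).1 hv).2 x hx).symm
  have hCM : C ≤ M := le_trans (Subgroup.centralizer_le hOmega) (le_sup_left.trans hstarM)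
  -- Frattini: `T ∩ C = O_p(G)`
  have hfrat : ∀ N : Subgroup G, N.Normal → N ≤ M → (T : Subgroup G) ⊓ N ≤ Q := by
    intro N hN hNM
    have hNn : (⊤ : Subgroup G) ≤ Subgroup.normalizer (N : Set G) := (Subgroup.normalizer_eq_top (H := N)).ge
    have hS : Fusion.SylIn p ((T : Subgroup G) ⊓ N) N := hTtop.inf_normal le_top hNn
    have hnorm : Subgroup.normalizer (((T : Subgroup G) ⊓ N : Subgroup G) : Set G) = ⊤ := by
      by_contra htop
      have hle := huniq _ hTtop hTM _ (fun t ht => Fusion.mem_normalizer_iff_cj.2 (by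
        rw [Fusion.cj_inf, Fusion.cj_eq_self_of_mem ht, Fusion.cj_of_normal])) htop
      refine hM.1 (top_le_iff.1 fun g _ => ?_)
      obtain ⟨n, hn, hng⟩ := Fusion.frattini_conj hS hNn (Subgroup.mem_top g)
      simpa using mul_mem (inv_mem (hNM hn)) (hle hng)
    haveI := Subgroup.normalizer_eq_top_iff.1 hnorm
    exact le_sSup ⟨inferInstance, T.2.to_inf_left⟩
  let π : G →* G ⧸ C := QuotientGroup.mk' C
  have hπ : Function.Surjective π := QuotientGroup.mk'_surjective C
  have hπker : π.ker = C := QuotientGroup.ker_mk' C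
  have hcm : ∀ H : Subgroup G, (H.map π).comap π = H ⊔ C := fun H => by rw [Subgroup.comap_map_eq, hπker]
  -- the quotient is `p`-minimal
  let Tb := (T : Subgroup G).map π
  let Mb := M.map π
  have hMb : Mb.comap π = M := by rw [hcm, sup_eq_left.2 hCM]
  have hTb : Fusion.SylIn p Tb ⊤ := ⟨le_top, T.2.map π, by
    rw [Subgroup.relIndex_top_right]
    exact fun h => T.not_dvd_index (h.trans (Subgroup.index_map_dvd _ hπ))⟩
  have huniqb : ∀ T', Fusion.SylIn p T' ⊤ → T' ≤ Mb → ∀ H, T' ≤ H → H ≠ ⊤ → H ≤ Mb := by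
    intro T' hT' hT'M H hT'H hH
    obtain ⟨x, hx, e⟩ := (hTb.mono (Subgroup.map_mono hTM) le_top).conj_eq (hT'.mono hT'M le_top)
    obtain ⟨m, hm, rfl⟩ := hx
    have hle : Fusion.cj (T : Subgroup G) m ≤ H.comap π := fun y hy => hT'H (by
      rw [← e]
      refine Fusion.mem_cj.2 ⟨m⁻¹ * y * m, Fusion.mem_cj.1 hy, ?_⟩
      rw [map_mul, map_mul, map_inv])
    have h1 := huniq _ (hTtop.cj' (by rw [Subgroup.normalizer_eq_top]; trivial))
      ((Fusion.cj_mono hTM m).trans (Fusion.cj_eq_self_of_mem hm).le) _ hle fun htop => hH (by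
        rw [← Subgroup.map_comap_eq_self_of_surjective hπ H, htop, Subgroup.map_top_of_surjective π hπ])
    rw [← Subgroup.map_comap_eq_self_of_surjective hπ H]
    exact Subgroup.map_mono h1
  have B₀ : OffBlock.PMin p Mb :=
    { M_ne := fun e => hM.1 (by rw [← hMb, e, Subgroup.comap_top])
      exT := ⟨Tb, hTb, Subgroup.map_mono hTM, fun e => by
        rw [Subgroup.map_eq_bot_iff, hπker] at e
        have h1 : (T : Subgroup G) = Q := le_antisymm ((le_inf le_rfl e).trans (hfrat C hCn hCM)) hQT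
        exact (hmin T).1 (h1 ▸ hQn)⟩
      core := by
        haveI : (pCore p (G ⧸ C)).Normal := Solv.pCore_normal p
        set N := (pCore p (G ⧸ C)).comap π with hNdef
        have hle : N ≤ (T : Subgroup G) ⊔ C := by
          rw [← hcm]
          exact Subgroup.comap_mono (Fusion.pCore_le_sylIn hTb)
        have hNM : N ≤ M := hle.trans (sup_le hTM hCM)
        refine eq_bot_iff.2 fun x hx => ?_
        obtain ⟨g, rfl⟩ := hπ x
        obtain ⟨t, ht, c, hc, rfl⟩ := Subgroup.mem_sup_of_normal_right.1 (hle (show g ∈ N from hx))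
        have hπc : π c = 1 := by rwa [← MonoidHom.mem_ker, hπker]
        rw [map_mul, hπc, mul_one, Subgroup.mem_bot, ← MonoidHom.mem_ker, hπker]
        refine hQC (hfrat N inferInstance hNM ⟨ht, ?_⟩)
        show π t ∈ pCore p (G ⧸ C)
        rwa [map_mul, hπc, mul_one] at hx
      uniq := huniqb }
  -- the module
  obtain ⟨X, _, φ, val, S⟩ := OffBlock.exists_seen V hVel.1 (MonoidHom.id G) π Function.injective_id hπ
    (fun g => Subgroup.normalizer_eq_top (H := V) ▸ Subgroup.mem_top g)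
    (fun g hg => by
      have h1 : g ∈ π.ker := hg
      rwa [hπker] at h1)
  haveI : Finite X := Finite.of_injective val S.val_inj
  have hexp : ∀ v : X, p • v = 0 := fun v => S.val_inj (by
    have h : ∀ n : ℕ, val (n • v) = val v ^ n := fun n => by
      induction n with
      | zero => rw [zero_smul, pow_zero, S.val_zero]
      | succ n ih => rw [succ_nsmul, S.val_add, ih, pow_succ]
    rw [h, S.val_zero]
    exact hVel.2 _ (S.val_mem v))
  have hf : ∀ g, (∀ v, φ g v = v) → g = 1 := fun g hg => by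
    obtain ⟨a, rfl⟩ := hπ g
    rw [← MonoidHom.mem_ker, hπker]
    refine Subgroup.mem_centralizer_iff.2 fun x hx => ?_
    obtain ⟨v, rfl⟩ := (S.range x).1 hx
    exact ((S.act_eq a v).1 (hg v)).symm
  have himg : ∀ E : Subgroup (G ⧸ C), OffBlock.Seen.img (MonoidHom.id G) π E = E.comap π := fun E => by
    rw [OffBlock.Seen.img, Subgroup.map_id]
  -- fixed vectors of the Sylow subgroup are moved
  have hfixT : ∀ v, v ∈ BestOff.fixed φ Tb ↔ val v ∈ omegaOneCenter p (T : Subgroup G) := by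
    intro v
    rw [S.mem_fixed, himg, hcm]
    constructor
    · rintro ⟨hv, hv'⟩
      refine (OffBlock.omega_props (p := p) (T : Subgroup G)).2.2 _ (hQT (hVQ hv).1)
        (Subgroup.centralizer_le (fun y hy => Subgroup.mem_sup_left hy) hv') (hVel.2 _ hv)
    · intro hv
      refine ⟨S.val_mem v, ?_⟩
      have h1 : (T : Subgroup G) ⊔ C ≤ Subgroup.centralizer {val v} := sup_le
        (fun t ht => Subgroup.mem_centralizer_singleton_iff.2
          (Subgroup.mem_centralizer_iff.1 ((OffBlock.omega_props (p := p) (T : Subgroup G)).1 hv).2 t ht))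
        (fun c hc => Subgroup.mem_centralizer_singleton_iff.2
          (Subgroup.mem_centralizer_iff.1 hc _ (S.val_mem v)).symm)
      exact Subgroup.mem_centralizer_iff.2 fun g hg => Subgroup.mem_centralizer_singleton_iff.1 (h1 hg)
  have hmoved : ∀ T', Fusion.SylIn p T' ⊤ → T' ≤ Mb → ∀ g, g ∉ Mb → ∃ z ∈ BestOff.fixed φ T', φ g z ≠ z := by
    intro T' hT' hT'M g hg
    obtain ⟨m, hm, rfl⟩ := (hTb.mono (Subgroup.map_mono hTM) le_top).conj_eq (hT'.mono hT'M le_top)
    obtain ⟨a, ha⟩ := hπ (m⁻¹ * g * m)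
    have haM : a ∉ M := fun h => hg (by
      have h1 : m⁻¹ * g * m ∈ Mb := ha ▸ Subgroup.mem_map_of_mem π h
      have h2 := mul_mem (mul_mem hm h1) (inv_mem hm)
      rwa [show m * (m⁻¹ * g * m) * m⁻¹ = g by group] at h2)
    by_contra hcon
    simp only [not_exists, not_and, not_not] at hcon
    refine haM (hstarM (Subgroup.mem_sup_left (Subgroup.mem_centralizer_iff.2 fun x hx => ?_)))
    obtain ⟨z, rfl⟩ := (S.range x).1 (hOmega hx)
    refine ((S.act_eq a z).1 ?_).symm
    have h1 := hcon (φ m z) (OffProd.act_mem_fixed φ m ((hfixT z).2 hx))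
    rw [ha, BestOff.act_mul, BestOff.act_mul, h1, BestOff.act_inv_self]
  have K : OffBlock.Ctx φ p Mb :=
    { exp := hexp, faithful := hf, M_ne := B₀.M_ne, exT := B₀.exT, core := B₀.core, uniq := B₀.uniq
      moved := hmoved }
  -- elementary abelian subgroups of largest order are offenders
  have hAoff : ∀ A : Subgroup G, A ≤ (T : Subgroup G) → IsElementaryAbelian p A →
      (∀ B : Subgroup G, IsElementaryAbelian p B → B ≤ (T : Subgroup G) → Nat.card B ≤ Nat.card A) →
      Nat.card X ≤ OffProd.off φ (A.map π) := by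
    intro A hAT hA hmax
    have hVT : V ≤ (T : Subgroup G) := fun x hx => hQT (hVQ hx).1
    have hCA : V ⊓ Subgroup.centralizer (A : Set G) ≤ A := by
      have hel := Local.elemAb_sup hA (Local.elemAb_mono hVel (inf_le_left :
          V ⊓ Subgroup.centralizer (A : Set G) ≤ V))
        fun a ha b hb => Subgroup.mem_centralizer_iff.1 hb.2 a ha
      have := Subgroup.eq_of_le_of_card_ge (le_sup_left : A ≤ A ⊔ V ⊓ Subgroup.centralizer (A : Set G))
        (hmax _ hel (sup_le hAT (inf_le_left.trans hVT)))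
      exact le_sup_right.trans this.ge
    have hel := Local.elemAb_sup (Local.elemAb_mono hA (inf_le_left : A ⊓ C ≤ A)) hVel
      fun a ha b hb => (Subgroup.mem_centralizer_iff.1 ha.2 b hb).symm
    have h1 := hmax _ hel (sup_le (inf_le_left.trans hAT) hVT)
    have h2 := Solv.card_mul_set_mul_card_inf (A ⊓ C) V
    rw [← Subgroup.mul_normal] at h2
    have h3 : A ⊓ C ⊓ V ≤ V ⊓ Subgroup.centralizer (A : Set G) := fun x hx => ⟨hx.2,
      Subgroup.mem_centralizer_iff.2 fun a ha => Local.elemAb_commute hA ha hx.1.1⟩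
    have h4 : BestOff.fixed φ (A.map π) = BestOff.fixed φ (A.map π) := rfl
    have hfix : Nat.card ↥(A ⊓ C ⊓ V) ≤ Nat.card (BestOff.fixed φ (A.map π)) := by
      rw [S.card_fixed, himg, hcm]
      refine (Subgroup.card_le_of_le h3).trans (Subgroup.card_le_of_le fun x hx => ⟨hx.1, ?_⟩)
      have hle : A ⊔ C ≤ Subgroup.centralizer {x} := sup_le
        (fun a ha => Subgroup.mem_centralizer_singleton_iff.2 (Subgroup.mem_centralizer_iff.1 hx.2 a ha))
        (fun c hc => Subgroup.mem_centralizer_singleton_iff.2 (Subgroup.mem_centralizer_iff.1 hc _ hx.1).symm)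
      exact Subgroup.mem_centralizer_iff.2 fun g hg => Subgroup.mem_centralizer_singleton_iff.1 (hle hg)
    have h5 : Nat.card A = Nat.card (A.map π) * Nat.card ↥(A ⊓ C) := by
      have e := Subgroup.card_eq_card_quotient_mul_card_subgroup (π.comp A.subtype).ker
      rw [Nat.card_congr (QuotientGroup.quotientKerEquivRange (π.comp A.subtype)).toEquiv,
        MonoidHom.range_comp, Subgroup.range_subtype] at e
      rw [e]
      congr 1
      refine Nat.card_congr
        { toFun := fun x => ⟨((x : A) : G), Subgroup.mem_inf.2 ⟨(x : A).2, by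
            have h : π ((x : A) : G) = 1 := x.2
            rwa [← MonoidHom.mem_ker, hπker] at h⟩⟩
          invFun := fun x => ⟨⟨x, (Subgroup.mem_inf.1 x.2).1⟩, by
            show π (x : G) = 1
            rw [← MonoidHom.mem_ker, hπker]; exact (Subgroup.mem_inf.1 x.2).2⟩
          left_inv := fun x => rfl
          right_inv := fun x => rfl }
    rw [S.card_X]
    refine Nat.le_of_mul_le_mul_left ?_ (Nat.card_pos (α := ↥(A ⊓ C)))
    calc Nat.card ↥(A ⊓ C) * Nat.card V = Nat.card ↥(A ⊓ C ⊔ V) * Nat.card ↥(A ⊓ C ⊓ V) := h2.symm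
      _ ≤ Nat.card A * Nat.card (BestOff.fixed φ (A.map π)) := Nat.mul_le_mul h1 hfix
      _ = _ := by rw [h5, OffProd.off]; ring
  -- the maximal elementary abelian subgroups of `G`
  have hinT : ∀ B : Subgroup G, IsElementaryAbelian p B → ∃ g, Fusion.cj B g ≤ (T : Subgroup G) := fun B hB => by
    obtain ⟨g, -, hg⟩ := hTtop.conj_le (Local.elemAb_isPGroup hB) le_top
    exact ⟨g, hg⟩
  have hmaxT : ∀ A ∈ maxElementaryAbelianSubgroups p G, ∀ g, ∀ B : Subgroup G, IsElementaryAbelian p B →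
      B ≤ (T : Subgroup G) → Nat.card B ≤ Nat.card (Fusion.cj A g) := fun A hA g B hB _ => by
    rw [Fusion.card_cj]; exact hA.2 B hB
  -- some one of them acts nontrivially
  obtain ⟨A₀, hA₀, hA₀T, hA₀ne⟩ : ∃ A ∈ maxElementaryAbelianSubgroups p G, A ≤ (T : Subgroup G) ∧ A.map π ≠ ⊥ := by
    by_contra hcon
    simp only [not_exists, not_and, not_not] at hcon
    refine hne (top_le_iff.1 (le_trans ?_ le_sup_right))
    set J := thompsonSubgroupOf p (T : Subgroup G)
    have hJmem : ∀ A : Subgroup G, IsElementaryAbelian p A → A ≤ (T : Subgroup G) →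
        (∀ B : Subgroup G, IsElementaryAbelian p B → B ≤ (T : Subgroup G) → Nat.card B ≤ Nat.card A) → A ≤ J := by
      intro A hA hAT hmax a ha
      refine ⟨⟨a, hAT ha⟩, ?_, rfl⟩
      refine le_sSup (show A.subgroupOf (T : Subgroup G) ∈ maxElementaryAbelianSubgroups p ↥(T : Subgroup G) from ⟨⟨⟨⟨fun x y => Subtype.ext (Subtype.ext
        (Local.elemAb_commute hA x.2 y.2))⟩⟩, fun x hx => Subtype.ext (hA.2 _ hx)⟩, fun B hB => ?_⟩) ha
      rw [Nat.card_congr (Subgroup.subgroupOfEquivOfLe hAT).toEquiv,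
        ← Subgroup.card_map_of_injective (T : Subgroup G).subtype_injective]
      refine hmax _ ⟨⟨⟨fun x y => ?_⟩⟩, ?_⟩ (Subgroup.map_subtype_le B)
      · obtain ⟨x', hx', ex⟩ := x.2
        obtain ⟨y', hy', ey⟩ := y.2
        exact Subtype.ext (by
          show (x : G) * y = y * x
          rw [← ex, ← ey, ← map_mul, ← map_mul, Local.elemAb_commute hB hx' hy'])
      · rintro _ ⟨x', hx', rfl⟩
        rw [← map_pow, hB.2 x' hx', map_one]
    intro g _
    refine Fusion.mem_normalizer_of_cj_le ?_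
    rw [Fusion.cj_le_iff]
    rintro x ⟨y, hy, rfl⟩
    suffices h : sSup (maxElementaryAbelianSubgroups p ↥(T : Subgroup G)) ≤
        (Fusion.cj J g⁻¹).comap (T : Subgroup G).subtype from h hy
    refine sSup_le fun A hA => ?_
    rw [← Subgroup.map_le_iff_le_comap]
    set A' := A.map (T : Subgroup G).subtype
    have hA'el : IsElementaryAbelian p A' := ⟨⟨⟨fun x y => by
        obtain ⟨x', hx', ex⟩ := x.2
        obtain ⟨y', hy', ey⟩ := y.2
        exact Subtype.ext (by
          show (x : G) * y = y * x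
          rw [← ex, ← ey, ← map_mul, ← map_mul, Local.elemAb_commute hA.1 hx' hy'])⟩⟩, by
      rintro _ ⟨x', hx', rfl⟩
      rw [← map_pow, hA.1.2 x' hx', map_one]⟩
    have hA'max : ∀ B : Subgroup G, IsElementaryAbelian p B → Nat.card B ≤ Nat.card A' := fun B hB => by
      obtain ⟨b, hb⟩ := hinT B hB
      rw [Subgroup.card_map_of_injective (T : Subgroup G).subtype_injective, ← Fusion.card_cj B b,
        ← Nat.card_congr (Subgroup.subgroupOfEquivOfLe hb).toEquiv]
      refine hA.2 _ ⟨⟨⟨fun x y => Subtype.ext (Subtype.ext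
        (Local.elemAb_commute (OffBlock.elemAb_cj hB b) x.2 y.2))⟩⟩,
        fun x hx => Subtype.ext ((OffBlock.elemAb_cj hB b).2 _ hx)⟩
    have hA'T : A' ≤ (T : Subgroup G) := Subgroup.map_subtype_le A
    have hA'Q : A' ≤ Q := by
      have h1 := hcon A' ⟨hA'el, hA'max⟩ hA'T
      rw [Subgroup.map_eq_bot_iff, hπker] at h1
      exact (le_inf hA'T h1).trans (hfrat C hCn hCM)
    refine Fusion.cj_le_iff.1 (hJmem _ (OffBlock.elemAb_cj hA'el g) ?_ fun B hB _ => ?_)
    · exact ((Fusion.cj_mono hA'Q g).trans (Fusion.cj_of_normal Q g).le).trans hQT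
    · rw [Fusion.card_cj]; exact hA'max B hB
  have hA₀T' : A₀.map π ≤ Tb := Subgroup.map_mono hA₀T
  have hA₀c : ∀ a ∈ A₀.map π, ∀ b ∈ A₀.map π, Commute a b := by
    rintro _ ⟨a, ha, rfl⟩ _ ⟨b, hb, rfl⟩
    exact (show Commute a b from Local.elemAb_commute hA₀.1 ha hb).map π
  have hA₀off := hAoff A₀ hA₀T hA₀.1 fun B hB _ => hA₀.2 B hB
  obtain ⟨D₁, hD₁⟩ := OffBlock.exists_mem hA₀ne (hTb.isPGroup.to_le hA₀T') hA₀c hA₀off
  obtain ⟨E₀, hE₀⟩ := K.exists_member hTb hD₁
  obtain ⟨r, E, -, D⟩ := K.exists_decomp hTb (Subgroup.map_mono hTM) hE₀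
  -- the image of `J(G)` is the product of the blocks
  have hJ : (thompsonSubgroup p G).map π = ⨆ i, E i := by
    haveI hJn : (thompsonSubgroup p G).Normal := ⟨fun n hn g => by
      suffices h : thompsonSubgroup p G ≤ (thompsonSubgroup p G).comap (MulAut.conj g).toMonoidHom from h hn
      refine sSup_le fun A hA => ?_
      rw [← Subgroup.map_le_iff_le_comap]
      exact le_sSup ⟨OffBlock.elemAb_cj hA.1 g, fun B hB => (hA.2 B hB).trans (Fusion.card_cj A g).ge⟩⟩
    refine le_antisymm ?_ (D.closure _ (Subgroup.Normal.map inferInstance π hπ) (sSup_le fun B hB => ?_))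
    · rw [Subgroup.map_le_iff_le_comap]
      refine sSup_le fun A hA a ha => ?_
      obtain ⟨g, hg⟩ := hinT A hA.1
      have h1 := (K.off_le_sSup hTb (Subgroup.map_mono hTM) hE₀ (Subgroup.map_mono hg) (by
        rintro _ ⟨a, ha, rfl⟩ _ ⟨b, hb, rfl⟩
        exact (show Commute a b from Local.elemAb_commute (OffBlock.elemAb_cj hA.1 g) ha hb).map π)
        (hAoff _ hg (OffBlock.elemAb_cj hA.1 g) (hmaxT A hA g))).trans D.mems_le
        (Subgroup.mem_map_of_mem π (Fusion.conj_mem_cj (g := g) ha))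
      have h2 := D.normal.conj_mem _ h1 (π g⁻¹)
      rw [← map_inv, ← map_mul, ← map_mul] at h2
      simpa [mul_assoc] using h2
    · obtain ⟨B₁, hB₁A, hB₁⟩ := K.exists_mem_le hTb hE₀ hA₀ne hA₀T' hA₀c hA₀off
      obtain ⟨t, -, rfl⟩ := (K.members hTb (Subgroup.map_mono hTM) hB₁).2.2 B hB
      haveI : ((thompsonSubgroup p G).map π).Normal := Subgroup.Normal.map hJn π hπ
      have hle : A₀ ≤ thompsonSubgroup p G := le_sSup hA₀
      exact (Fusion.cj_mono (hB₁A.trans (Subgroup.map_mono hle)) t).trans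
        (Fusion.cj_of_normal ((thompsonSubgroup p G).map π) t).le
  have hCle : ∀ E' : Subgroup (G ⧸ C), C ≤ OffBlock.Seen.img (MonoidHom.id G) π E' := fun E' => by
    rw [himg]
    intro c hc
    rw [Subgroup.mem_comap, show π c = 1 from (hπker.ge hc : c ∈ π.ker)]
    exact one_mem _
  have hkerC : π.ker.map (MonoidHom.id G) = C := by rw [Subgroup.map_id, hπker]
  have hr : 0 < r := by
    by_contra hr
    haveI : IsEmpty (Fin r) := ⟨fun i => hr (Fin.pos i)⟩
    have h := D.mems_le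
    rw [iSup_of_empty] at h
    exact hE₀.1.ne (le_bot_iff.1 ((le_sSup hE₀).trans h))
  refine ⟨r, fun i => OffBlock.Seen.img (MonoidHom.id G) π (E i), fun i => hCle _, ?_, ?_,
    fun i j h => (S.comm_le D h).trans hkerC.le, fun i => (S.disj_le D i).trans hkerC.le, fun i j => ?_, S.sum_top D,
    fun i j h => S.comm_comm_eq_bot D h, fun i => ?_⟩
  · have h1 : ((thompsonSubgroup p G ⊔ (T : Subgroup G) ⊔ C).map π).comap π =
        thompsonSubgroup p G ⊔ (T : Subgroup G) ⊔ C := by
      rw [hcm, sup_eq_left.2 le_sup_right]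
    rw [← h1, Subgroup.map_sup, Subgroup.map_sup, hJ, D.gen, top_sup_eq, Subgroup.comap_top]
  · refine le_antisymm (iSup_le fun i => ?_) ?_
    · show OffBlock.Seen.img (MonoidHom.id G) π (E i) ≤ _
      rw [himg, ← hcm, hJ]
      exact Subgroup.comap_mono (le_iSup E i)
    · have h1 : ((⨆ i, OffBlock.Seen.img (MonoidHom.id G) π (E i)).map π).comap π =
          ⨆ i, OffBlock.Seen.img (MonoidHom.id G) π (E i) := by
        rw [hcm, sup_eq_left.2 ((hCle (E ⟨0, hr⟩)).trans
          (le_iSup (fun i => OffBlock.Seen.img (MonoidHom.id G) π (E i)) ⟨0, hr⟩))]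
      rw [← h1, ← hcm, hJ, Subgroup.map_iSup]
      refine Subgroup.comap_mono (iSup_mono fun i => ?_)
      rw [himg, Subgroup.map_comap_eq_self_of_surjective hπ]
  · obtain ⟨tb, ⟨t, ht, rfl⟩, e⟩ := D.conj i j
    exact ⟨t, ht, S.conj_img D (t := t) e⟩
  · obtain ⟨n, hn, h⟩ := S.natural D i
    refine ⟨n, hn, ?_⟩
    set U := OffBlock.Seen.img (MonoidHom.id G) π (E i)
    have hnorm : (C.subgroupOf U).Normal := hCn.subgroupOf U
    have hiso : ∀ {H : Type} [Group H] (f : ↥U →* H), Function.Surjective f →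
        (∀ g, f g = 1 ↔ (g : G) ∈ π.ker.map (MonoidHom.id G)) →
        ∃ _ : (C.subgroupOf U).Normal, Nonempty (↥U ⧸ C.subgroupOf U ≃* H) := fun f hf' hf1 => by
      refine ⟨hnorm, ⟨(QuotientGroup.quotientMulEquivOfEq ?_).trans (QuotientGroup.quotientKerEquivOfSurjective f hf')⟩⟩
      ext g
      rw [MonoidHom.mem_ker, hf1, hkerC]
      rfl
    rcases h with ⟨F, _, _, hF, ⟨f, hf', hf1⟩, hact⟩ | ⟨hp2, ⟨f, hf', hf1⟩, hact⟩
    · exact Or.inl ⟨F, inferInstance, inferInstance, hF, hiso f hf' hf1, hact⟩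
    · exact Or.inr ⟨hp2, hiso f hf' hf1, hact⟩

end Cfsg.Agent.S2981
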