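import Cfsg.Statements.S2990
import Cfsg.Agent.Lib.PushUp.CentrallyLarge

set_option autoImplicit false
open Cfsg

namespace Cfsg.Agent.S2990

/-- Let G be a finite group and S a Sylow p-subgroup of G in the basic pushing-up situation (G ≠ 1, C_G(O_p(G)) ≤ O_p(G), S lies in a unique maximal subgroup of G, and some quotient of G is isomorphic to PSL₂ over a field of order a power of p), and suppose that S centralizes Z(J(S)), where J(S) is generated by the abelian subgroups of S of largest order (that is, J̃(S) = C_S(Z(J(S))) = S). Call a subgroup R of S centrally large if |R|·|Z(R)| is as large as possible among subgroups of S, let Q be a minimal centrally large subgroup of S and let S_MCL be the subgroup generated by all minimal centrally large subgroups of S. Then the derived subgroup [Q, Q] is characteristic in S; Z(S) ∩ [Q, Q] or S_MCL is normal in G; and if [Q, Q] = 1, the minimal centrally large subgroups of S are exactly the abelian subgroups of S of largest order. -/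
theorem result {G : Type*} [Group G] [Finite G] {p : ℕ} [Fact p.Prime] (S : Subgroup G) (hE : Cfsg.IsPushingUpSituation p S) (hJ : S ≤ Subgroup.centralizer (Cfsg.centerThompsonAOf S : Set G)) (Q : Subgroup ↥S) (hQ : Cfsg.IsMinimalCentrallyLarge Q) : (⁅Q, Q⁆).Characteristic ∧ (((S ⊓ Subgroup.centralizer (S : Set G)) ⊓ (⁅Q, Q⁆).map S.subtype).Normal ∨ ((Cfsg.minimalCentrallyLargeJoin ↥S).map S.subtype).Normal) ∧ (⁅Q, Q⁆ = ⊥ → ∀ R : Subgroup ↥S, Cfsg.IsMinimalCentrallyLarge R ↔ R ∈ Cfsg.maxAbelianSubgroups ↥S) := by
  obtain ⟨-, ⟨T, rfl⟩, hchar, huniq, K, hKn, F, hFf, hFt, n, hF, ⟨iso⟩⟩ := hE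
  haveI := hKn
  have hn : 1 ≤ n := by
    by_contra hc
    have h1 := Fintype.one_lt_card (α := F)
    rw [hF, show n = 0 by omega, pow_zero] at h1
    omega
  have R := PushUp.Setting.of_iso hchar huniq K hn hF iso
  have key : ∀ X : Subgroup G, X ≤ Subgroup.center G → X.Normal := fun X hX => ⟨fun x hx g => by
    rwa [Subgroup.mem_center_iff.1 (hX hx) g, mul_inv_cancel_right]⟩
  refine ⟨?_, (PushUp.derived_or_join R hJ hQ).imp (key _) id, fun h =>
    CDLattice.minimal_iff_maxAbelian hQ
      (CDLattice.isMulCommutative_iff_le_centralizer.2 (Subgroup.commutator_eq_bot_iff_le_centralizer.1 h))⟩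
  refine Subgroup.characteristic_iff_map_le.2 fun e => ?_
  rw [Subgroup.map_le_iff_le_comap]
  refine Subgroup.commutator_le.2 fun a ha b hb => ?_
  have h := PushUp.transport_commutator hQ (e.toMonoidHom.comp Q.subtype)
    (e.injective.comp Q.subtype_injective) ⟨a, ha⟩ ⟨b, hb⟩
  exact h

end Cfsg.Agent.S2990
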