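import Cfsg.Statements.S2998
import Cfsg.Agent.Lib.Fusion.Basic
import Cfsg.Agent.Lib.Solv.Basic
-- import your own Cfsg.Agent.* helpers here

set_option autoImplicit false
open Cfsg

namespace Cfsg.Agent.S2998

open Cfsg.Agent.Fusion

/-- Let G be a finite group, p a prime, P a Sylow p-subgroup of G and x ∈ P an element such that N_G(R) ≤ C_G(x) for every nontrivial subgroup R of P. Then P ≤ C_G(x); every G-conjugate of x lying in P equals x (so g ∈ C_G(x) whenever g x g⁻¹ ∈ P); and for every normal subgroup N of G, the image of x in G ⧸ N has the same property with respect to the image of P: the normalizer of every nontrivial subgroup of the image of P centralizes the image of x. -/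
theorem result {G : Type*} [Group G] [Finite G] {p : ℕ} [Fact p.Prime] (P : Sylow p G) (x : G) (hxP : x ∈ (P : Subgroup G)) (hlc : ∀ R : Subgroup G, R ≤ (P : Subgroup G) → R ≠ ⊥ → Subgroup.normalizer (R : Set G) ≤ Subgroup.centralizer ({x} : Set G)) : (P : Subgroup G) ≤ Subgroup.centralizer ({x} : Set G) ∧ (∀ g : G, g * x * g⁻¹ ∈ (P : Subgroup G) → g * x * g⁻¹ = x) ∧ ∀ (N : Subgroup G) [N.Normal], ∀ R : Subgroup (G ⧸ N), R ≤ (P : Subgroup G).map (QuotientGroup.mk' N) → R ≠ ⊥ → Subgroup.normalizer (R : Set (G ⧸ N)) ≤ Subgroup.centralizer ({(QuotientGroup.mk x : G ⧸ N)} : Set (G ⧸ N)) := by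
  have hPC : (P : Subgroup G) ≤ Subgroup.centralizer ({x} : Set G) := by
    by_cases hP : (P : Subgroup G) = ⊥
    · rw [hP]; exact bot_le
    · exact Subgroup.le_normalizer.trans (hlc _ le_rfl hP)
  have hstep : ∀ m : ℕ, ∀ g : G, Nat.card P - Nat.card ↥((P : Subgroup G) ⊓ cj (P : Subgroup G) g) = m →
      (P : Subgroup G) ⊓ cj (P : Subgroup G) g ≠ ⊥ → g ∈ Subgroup.centralizer ({x} : Set G) := by
    intro m
    induction m using Nat.strong_induction_on with
    | _ m ih =>
      intro g hm hR1
      set R := (P : Subgroup G) ⊓ cj (P : Subgroup G) g with hR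
      set C := Subgroup.centralizer ({x} : Set G)
      have hNC : Subgroup.normalizer (R : Set G) ≤ C := hlc R inf_le_left hR1
      by_cases hRP : R = P
      · have h2 : cj (P : Subgroup G) g = P :=
          (Subgroup.eq_of_le_of_card_ge (hRP.ge.trans inf_le_right) (card_cj _ g).le).symm
        exact hlc _ le_rfl (hRP ▸ hR1) (mem_normalizer_iff_cj.2 h2)
      have hgr1 := SylIn.normalizer_growth (inf_le_left : R ≤ P) hRP P.isPGroup'
      have hgr2 : R < cj (P : Subgroup G) g ⊓ Subgroup.normalizer (R : Set G) := by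
        refine SylIn.normalizer_growth inf_le_right (fun he => hRP ?_) (isPGroup_cj P.isPGroup' g)
        exact Subgroup.eq_of_le_of_card_ge inf_le_left (by rw [he, card_cj])
      set U := (P : Subgroup G) ⊓ Subgroup.normalizer (R : Set G)
      set V := cj (P : Subgroup G) g ⊓ Subgroup.normalizer (R : Set G)
      have hPs : SylIn p (P : Subgroup G) C := (sylIn_top P).mono hPC le_top
      have hV : IsPGroup p V := (isPGroup_cj P.isPGroup' g).to_inf_left
      obtain ⟨h, hh, hVh⟩ := hPs.conj_le hV (inf_le_right.trans hNC)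
      have hle : cj V h ≤ (P : Subgroup G) ⊓ cj (P : Subgroup G) (h * g) :=
        le_inf hVh ((cj_mono inf_le_left h).trans (cj_cj _ g h).le)
      have hlt : Nat.card R < Nat.card V := by
        refine lt_of_le_of_ne (Subgroup.card_le_of_le hgr2.le) fun he => hgr2.ne ?_
        exact Subgroup.eq_of_le_of_card_ge hgr2.le he.ge
      have hle2 := Subgroup.card_le_of_le hle
      rw [card_cj] at hle2
      have hlP : Nat.card ↥((P : Subgroup G) ⊓ cj (P : Subgroup G) (h * g)) ≤ Nat.card P :=
        Subgroup.card_le_of_le inf_le_left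
      have hne : (P : Subgroup G) ⊓ cj (P : Subgroup G) (h * g) ≠ ⊥ := fun h0 => by
        rw [h0, Subgroup.card_bot] at hle2
        have : 0 < Nat.card R := Nat.card_pos
        omega
      have hhg := ih _ (by omega) (h * g) rfl hne
      simpa using mul_mem (inv_mem hh) hhg
  refine ⟨hPC, fun g hg => ?_, fun N _ R hR hR1 => ?_⟩
  · by_cases hx1 : x = 1
    · simp [hx1]
    have hne : (P : Subgroup G) ⊓ cj (P : Subgroup G) g ≠ ⊥ := fun h0 => by
      have : g * x * g⁻¹ ∈ (P : Subgroup G) ⊓ cj (P : Subgroup G) g := ⟨hg, conj_mem_cj hxP⟩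
      rw [h0, Subgroup.mem_bot, conj_eq_one_iff] at this
      exact hx1 this
    have := Subgroup.mem_centralizer_singleton_iff.1 (hstep _ g rfl hne)
    rw [this, mul_inv_cancel_right]
  · set π := QuotientGroup.mk' N
    set M := R.comap π
    set T := (P : Subgroup G) ⊓ M
    have hT1 : T ≠ ⊥ := by
      intro h0
      obtain ⟨r, hr, hr1⟩ := (Subgroup.bot_or_exists_ne_one R).resolve_left hR1
      obtain ⟨y, hy, rfl⟩ := hR hr
      have : y ∈ T := ⟨hy, hr⟩
      rw [h0, Subgroup.mem_bot] at this
      exact hr1 (by rw [this, map_one])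
    have hTM : SylIn p T M := by
      refine ⟨inf_le_right, P.isPGroup'.to_inf_left, fun hd => ?_⟩
      have hPN : SylIn p ((P : Subgroup G) ⊓ N) N := (sylIn_top P).inf_normal le_top (by rw [Subgroup.normalizer_eq_top])
      have hNM : N ≤ M := fun n hn => by
        show π n ∈ R
        rw [show π n = 1 from (QuotientGroup.eq_one_iff n).2 hn]; exact one_mem _
      have hM : M = T ⊔ N := by
        refine le_antisymm (fun m hm => ?_) (sup_le inf_le_right hNM)
        obtain ⟨y, hy, hye⟩ := hR hm
        have hyN : y⁻¹ * m ∈ N := QuotientGroup.eq.1 hye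
        have hyM : y ∈ M := by show π y ∈ R; rw [hye]; exact hm
        simpa using mul_mem (Subgroup.mem_sup_left (T := N) (show y ∈ T from ⟨hy, hyM⟩)) (Subgroup.mem_sup_right hyN)
      have hTN : T ⊓ N = (P : Subgroup G) ⊓ N := by rw [inf_assoc, inf_eq_right.2 hNM]
      have e1 : Nat.card M * Nat.card ↥(T ⊓ N) = Nat.card T * Nat.card N := by
        rw [hM, sup_comm T N, inf_comm T N, Cfsg.Agent.Solv.card_sup_mul_card_inf, mul_comm]
      have e2 := Subgroup.relIndex_mul_relIndex ⊥ T M bot_le inf_le_right
      rw [Subgroup.relIndex_bot_left, Subgroup.relIndex_bot_left] at e2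
      have e3 := Subgroup.relIndex_mul_relIndex ⊥ (T ⊓ N) N bot_le inf_le_right
      rw [Subgroup.relIndex_bot_left, Subgroup.relIndex_bot_left] at e3
      have e : T.relIndex M = ((P : Subgroup G) ⊓ N).relIndex N := by
        rw [← hTN]
        refine Nat.eq_of_mul_eq_mul_left (Nat.mul_pos (Nat.card_pos (α := T)) (Nat.card_pos (α := ↥(T ⊓ N)))) ?_
        rw [mul_right_comm, e2, e1, mul_assoc, e3]
      rw [e] at hd
      exact hPN.not_dvd hd
    intro q hq
    obtain ⟨g, rfl⟩ := QuotientGroup.mk'_surjective N q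
    have hgM : g ∈ Subgroup.normalizer (M : Set G) := by
      rw [Subgroup.mem_normalizer_iff]
      intro h
      have := (Subgroup.mem_normalizer_iff.1 hq) (π h)
      simpa [M, π, Subgroup.mem_comap] using this
    obtain ⟨m, hm, hmg⟩ := frattini_conj hTM le_rfl hgM
    have h1 := Subgroup.mem_centralizer_singleton_iff.1 (hlc T inf_le_left hT1 hmg)
    obtain ⟨y, hy, hye⟩ := hR hm
    have h2 : Commute (π x) (π m) := by
      rw [← hye]
      exact (show Commute x y from (Subgroup.mem_centralizer_singleton_iff.1 (hPC hy)).symm).map π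
    have h3 : Commute (π x) (π (m * g)) := (show Commute x (m * g) from h1.symm).map π
    have h4 : Commute (π x) (π g) := by
      have := h2.inv_right.mul_right h3
      rwa [map_mul, inv_mul_cancel_left] at this
    exact Subgroup.mem_centralizer_singleton_iff.2 h4.eq.symm

end Cfsg.Agent.S2998
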