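import Cfsg.Statements.S2999
import Cfsg.Agent.Lib.PushUp.BestOffenderNatural
import Cfsg.Agent.Lib.Fusion.Timmesfeld
import Mathlib.FieldTheory.Finite.GaloisField

set_option autoImplicit false
open Cfsg Cfsg.Agent
open scoped commutatorElement

namespace Cfsg.Agent.S2999

/-- Let p be a prime and let P and V be subgroups of a finite group with V elementary abelian, P normalizing V and acting faithfully on it (P ∩ C(V) = 1). Suppose P is p-minimal (a Sylow p-subgroup T of P is not normal and lies in a unique maximal subgroup M of P) and A ≤ T is an elementary abelian subgroup such that: |V/C_V(A)| ≤ |A| while |A₀|·|C_V(A₀)| < |A|·|C_V(A)| for every nontrivial proper subgroup A₀ of A; [C_V(T), P] ≠ 1; and P = ⟨A, xAx⁻¹⟩ for every x ∈ P outside M. Then, with q = |A|, there is a field F with q elements such that P ≅ SL₂(F), C_V(A) = [V, A]·C_V(P), and P acts on V/C_V(P) as SL₂(F) on its natural two-dimensional module. -/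
theorem result {G : Type*} [Group G] [Finite G] {p : ℕ} [Fact p.Prime] (V P : Subgroup G) (hV : Cfsg.IsElementaryAbelian p V) (hPV : P ≤ Subgroup.normalizer (V : Set G)) (hfaith : P ⊓ Subgroup.centralizer (V : Set G) = ⊥) (hmin : Cfsg.IsPMinimal p ↥P) (T : Sylow p ↥P) (M : Subgroup ↥P) (hM : IsCoatom M) (hTM : (T : Subgroup ↥P) ≤ M) (A : Subgroup G) (hAT : A ≤ ((T : Subgroup ↥P).map P.subtype)) (hAel : Cfsg.IsElementaryAbelian p A) (hi : Nat.card ↥V ≤ Nat.card ↥A * Nat.card ↥(V ⊓ Subgroup.centralizer ((A : Subgroup G) : Set G)) ∧ ∀ A₀ : Subgroup G, A₀ ≤ A → A₀ ≠ ⊥ → A₀ ≠ A → Nat.card ↥A₀ * Nat.card ↥(V ⊓ Subgroup.centralizer ((A₀ : Subgroup G) : Set G)) < Nat.card ↥A * Nat.card ↥(V ⊓ Subgroup.centralizer ((A : Subgroup G) : Set G))) (hii : ⁅(V ⊓ Subgroup.centralizer ((((T : Subgroup ↥P).map P.subtype) : Subgroup G) : Set G)), P⁆ ≠ ⊥) (hiii : ∀ x : ↥P, x ∉ M → A ⊔ A.map (MulAut.conj (x : G)).toMonoidHom = P) : ∃ (F : Type) (_ : Field F) (_ : Fintype F), Fintype.card F = Nat.card ↥A ∧ Nonempty (↥P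 ≃* Matrix.SpecialLinearGroup (Fin 2) F) ∧ (V ⊓ Subgroup.centralizer ((A : Subgroup G) : Set G)) = ⁅V, A⁆ ⊔ (V ⊓ Subgroup.centralizer ((P : Subgroup G) : Set G)) ∧ Cfsg.ActsAsSL2OnSection F ⊤ P V (V ⊓ Subgroup.centralizer ((P : Subgroup G) : Set G)) := by
  classical
  have hp := (inferInstance : Fact p.Prime).out
  have hVc : ∀ x ∈ V, ∀ y ∈ V, x * y = y * x := fun x hx y hy => Local.elemAb_commute hV hx hy
  haveI : IsMulCommutative V := hV.1
  letI : CommGroup V := { (inferInstance : Group V) with mul_comm := fun a b => Subtype.ext (hVc a a.2 b b.2) }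
  have hAP : A ≤ P := hAT.trans (Subgroup.map_subtype_le _)
  set A' : Subgroup P := A.subgroupOf P with hA'
  have hAA : A'.map P.subtype = A := Subgroup.map_subgroupOf_eq_of_le hAP
  have hconj : ∀ g : P, ∀ v : G, v ∈ V → (g : G) * v * (g : G)⁻¹ ∈ V := fun g v hv =>
    (Subgroup.mem_normalizer_iff.1 (hPV g.2) v).1 hv
  let ρ : P →* AddMonoid.End (Additive V) :=
    { toFun := fun g => MonoidHom.toAdditive (MonoidHom.mk' (fun v : V => (⟨(g : G) * v * (g : G)⁻¹, hconj g v v.2⟩ : V))
        fun a b => Subtype.ext (by show (g : G) * ((a : G) * b) * (g : G)⁻¹ = _ * _; group))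
      map_one' := AddMonoidHom.ext fun v => Additive.toMul.injective (Subtype.ext (by
        show ((1 : P) : G) * ((Additive.toMul v : V) : G) * ((1 : P) : G)⁻¹ = _
        rw [OneMemClass.coe_one, one_mul, inv_one, mul_one]; rfl))
      map_mul' := fun g h => AddMonoidHom.ext fun v => Additive.toMul.injective (Subtype.ext (by
        show ((g : G) * h) * ((Additive.toMul v : V) : G) * ((g : G) * h)⁻¹ =
          (g : G) * ((h : G) * ((Additive.toMul v : V) : G) * (h : G)⁻¹) * (g : G)⁻¹
        group)) }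
  let val : Additive V → G := fun v => ((Additive.toMul v : V) : G)
  have hval : ∀ (g : P) v, val (ρ g v) = (g : G) * val v * (g : G)⁻¹ := fun _ _ => rfl
  have hfix : ∀ (g : P) v, ρ g v = v ↔ (g : G) * val v = val v * g := fun g v => by
    rw [← mul_inv_eq_iff_eq_mul, ← hval]
    exact ⟨fun e => congrArg val e, fun e => Additive.toMul.injective (Subtype.ext e)⟩
  have hsub : ∀ (g : P) v, val (ρ g v - v) = ⁅(g : G), val v⁆ := fun g v => by
    rw [show val (ρ g v - v) = val (ρ g v) / val v from rfl, hval, div_eq_mul_inv, commutatorElement_def]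
  have hmem : ∀ (H : Subgroup P) v, v ∈ BestOff.fixed ρ H ↔
      val v ∈ V ⊓ Subgroup.centralizer ((H.map P.subtype : Subgroup G) : Set G) := fun H v => by
    rw [Subgroup.mem_inf, Subgroup.mem_centralizer_iff]
    constructor
    · refine fun hv => ⟨(Additive.toMul v).2, ?_⟩
      rintro _ ⟨g, hg, rfl⟩
      exact (hfix g v).1 (hv g hg)
    · exact fun hv g hg => (hfix g v).2 (hv.2 _ ⟨g, hg, rfl⟩)
  have hcard : ∀ H : Subgroup P, Nat.card (BestOff.fixed ρ H) =
      Nat.card ↥(V ⊓ Subgroup.centralizer ((H.map P.subtype : Subgroup G) : Set G)) := fun H =>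
    Nat.card_congr
      { toFun := fun v => ⟨val v, (hmem H v).1 v.2⟩
        invFun := fun w => ⟨Additive.ofMul (⟨w, w.2.1⟩ : V), (hmem H _).2 w.2⟩
        left_inv := fun v => rfl
        right_inv := fun w => rfl }
  have hcardA : Nat.card A' = Nat.card A := Nat.card_congr (Subgroup.subgroupOfEquivOfLe hAP).toEquiv
  have hcardX : Nat.card (Additive V) = Nat.card V := rfl
  have hnorm : A ≤ Subgroup.normalizer (V : Set G) := hAP.trans hPV
  have hab : ⁅A, A⁆ ≤ Subgroup.centralizer (V : Set G) := by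
    refine (Subgroup.commutator_le.2 fun a ha b hb => ?_)
    rw [commutatorElement_eq_one_iff_mul_comm.2 (Local.elemAb_commute hAel ha hb)]
    exact one_mem _
  -- `A` acts quadratically
  have hmax : ∀ B ≤ A, Fusion.offMeasure V B ≤ Fusion.offMeasure V A := by
    intro B hB
    by_cases h0 : B = ⊥
    · subst h0
      refine le_trans ?_ hi.1
      rw [Fusion.offMeasure, Subgroup.card_bot, one_mul]
      exact Subgroup.card_le_of_le inf_le_left
    by_cases h1 : B = A
    · rw [h1]
    exact (hi.2 B hB h0 h1).le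
  obtain ⟨hm, hw⟩ := Fusion.offMeasure_replacement hVc hnorm hab (le_refl V) hmax
  have hquad : ⁅V, A⁆ ≤ Subgroup.centralizer (A : Set G) := by
    set B := A ⊓ Subgroup.centralizer ((⁅V, A⁆ : Subgroup G) : Set G) with hB
    by_cases h1 : B = A
    · exact Subgroup.le_centralizer_iff.1 (inf_eq_left.1 h1)
    by_cases h0 : B = ⊥
    · rw [h0, Subgroup.coe_bot] at hw
      have htop : Subgroup.centralizer ({1} : Set G) = ⊤ := top_le_iff.1 fun g _ =>
        Subgroup.mem_centralizer_iff.2 fun y hy => by rw [Set.mem_singleton_iff.1 hy, one_mul, mul_one]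
      rw [htop, inf_top_eq] at hw
      have hVp : IsPGroup p V := Local.elemAb_isPGroup hV
      have hle : ⁅V, A⁆ ≤ ⁅⁅V, A⁆, A⁆ := by
        refine Subgroup.commutator_le.2 fun v hv a ha => ?_
        rw [hw] at hv
        have hWV : ⁅V, A⁆ ≤ V := Subgroup.commutator_le.2 fun x hx b hb => Fusion.act_comm_mem hnorm hx hb
        obtain ⟨c, hc, w, hwm, rfl⟩ : ∃ c ∈ V ⊓ Subgroup.centralizer (A : Set G), ∃ w ∈ ⁅V, A⁆, w * c = v := by
          suffices ⁅V, A⁆ ⊔ (V ⊓ Subgroup.centralizer (A : Set G)) ≤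
              { carrier := {x | ∃ c ∈ V ⊓ Subgroup.centralizer (A : Set G), ∃ w ∈ ⁅V, A⁆, w * c = x}
                one_mem' := ⟨1, one_mem _, 1, one_mem _, one_mul 1⟩
                mul_mem' := by
                  rintro _ _ ⟨c, hc, w, hw', rfl⟩ ⟨c', hc', w', hw'', rfl⟩
                  refine ⟨c * c', mul_mem hc hc', w * w', mul_mem hw' hw'', ?_⟩
                  rw [mul_assoc w w', ← mul_assoc w' c, hVc w' (hWV hw'') c hc.1, mul_assoc c w', ← mul_assoc]
                inv_mem' := by
                  rintro _ ⟨c, hc, w, hw', rfl⟩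
                  refine ⟨c⁻¹, inv_mem hc, w⁻¹, inv_mem hw', ?_⟩
                  rw [mul_inv_rev, hVc c⁻¹ (inv_mem hc.1) w⁻¹ (inv_mem (hWV hw'))] : Subgroup G } from this hv
          exact sup_le (fun x hx => ⟨1, one_mem _, x, hx, mul_one x⟩) fun x hx => ⟨x, hx, 1, one_mem _, one_mul x⟩
        rw [Fusion.act_comm_mul hVc hnorm (hWV hwm) hc.1 ha,
          commutatorElement_eq_one_iff_mul_comm.2 (Subgroup.mem_centralizer_iff.1 hc.2 a ha).symm, mul_one]
        exact Subgroup.commutator_mem_commutator hwm ha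
      rw [Fusion.eq_bot_of_le_act_comm hnorm hVp (fun a ha => by rw [hAel.2 a ha]; exact one_mem _)
        (Subgroup.commutator_le.2 fun x hx b hb => Fusion.act_comm_mem hnorm hx hb) hle]
      exact bot_le
    exact absurd hm (ne_of_lt (hi.2 B inf_le_left h0 h1))
  have hTM' : ∀ t : G, t ∈ (T : Subgroup P).map P.subtype → t ∈ P := fun t ht => Subgroup.map_subtype_le _ ht
  have D : BestOff.Data ρ A' (T : Subgroup P) M p :=
    { exp := fun v => Additive.toMul.injective (Subtype.ext (by
        show (((Additive.toMul v : V) ^ p : V) : G) = 1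
        rw [Subgroup.coe_pow]
        exact hV.2 _ (Additive.toMul v).2))
      M_ne := hM.1
      syl := Fusion.sylIn_top T
      T_le := hTM
      A_le := fun a ha => by
        obtain ⟨t, ht, e⟩ := hAT (Subgroup.mem_subgroupOf.1 ha)
        rwa [← P.subtype_injective e]
      not_normal := (hmin T).1
      gen := fun x hx => by
        apply Subgroup.map_injective P.subtype_injective
        rw [Subgroup.map_sup, Subgroup.map_map, show P.subtype.comp (MulAut.conj x).toMonoidHom =
          (MulAut.conj (x : G)).toMonoidHom.comp P.subtype from MonoidHom.ext fun y => by simp,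
          ← Subgroup.map_map, hAA, ← MonoidHom.range_eq_map, Subgroup.range_subtype]
        exact hiii x hx
      quad := fun a ha v => (hmem _ _).2 <| Subgroup.mem_inf.2 ⟨(Additive.toMul (ρ a v - v)).2, by
        rw [hAA, hsub, ← commutatorElement_inv]
        exact inv_mem (hquad (Subgroup.commutator_mem_commutator (Additive.toMul v).2
          (Subgroup.mem_subgroupOf.1 ha)))⟩
      off := by rw [hcardX, hcardA, hcard, hAA]; exact hi.1
      strict := fun A₀ h h0 h1 => by
        rw [hcard, hcard, hcardA, hAA, ← Nat.card_congr (A₀.equivMapOfInjective _ P.subtype_injective).toEquiv.symm]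
        refine hi.2 _ (hAA ▸ Subgroup.map_mono h) (fun e => h0 ?_) (fun e => h1 ?_)
        · exact (Subgroup.map_eq_bot_iff_of_injective _ P.subtype_injective).1 e
        · exact Subgroup.map_injective P.subtype_injective (e.trans hAA.symm)
      faithful := fun g hg => Subtype.ext (Subgroup.mem_bot.1 (hfaith ▸ Subgroup.mem_inf.2 ⟨g.2,
        Subgroup.mem_centralizer_iff.2 fun v hv => ((hfix g (Additive.ofMul (⟨v, hv⟩ : V))).1 (hg _)).symm⟩))
      moved := by
        by_contra hcon
        refine hii (Subgroup.commutator_eq_bot_iff_le_centralizer.2 fun z hz => ?_)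
        rw [Subgroup.mem_centralizer_iff]
        intro g hg
        by_contra hne
        refine hcon ⟨Additive.ofMul (⟨z, hz.1⟩ : V), (hmem _ _).2 hz, ⟨g, hg⟩, fun e => hne ?_⟩
        exact (hfix ⟨g, hg⟩ _).1 e }
  obtain ⟨himg, F, _, _, R, ψ, hF, hRb, hψs, hψ0, hact⟩ := D.exists_natural
  -- the field in the lowest universe
  obtain ⟨n, hn⟩ := IsPGroup.iff_card.1 (Local.elemAb_isPGroup (p := p) hAel)
  have hn0 : n ≠ 0 := by
    intro h0
    have := D.two_le_card
    rw [hcardA, hn, h0, pow_zero] at this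
    omega
  letI : Fintype (GaloisField p n) := Fintype.ofFinite _
  have hFn : Fintype.card (GaloisField p n) = Nat.card A := by
    rw [← Nat.card_eq_fintype_card, GaloisField.card p n hn0, hn]
  let e : F ≃+* GaloisField p n := FiniteField.ringEquivOfCardEq (by rw [hF, hcardA, hFn])
  let eSL := Matrix.SpecialLinearGroup.map (n := Fin 2) (e : F →+* GaloisField p n)
  have hbij : Function.Bijective (eSL.comp R) := by
    rw [MonoidHom.coe_comp]
    refine Function.Bijective.comp (g := ⇑eSL) ⟨fun a b h => ?_, fun y => ?_⟩ hRb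
    · ext i j
      exact e.injective (congrArg (fun m : Matrix.SpecialLinearGroup (Fin 2) (GaloisField p n) => m.1 i j) h)
    · refine ⟨Matrix.SpecialLinearGroup.map (n := Fin 2) (e.symm : GaloisField p n →+* F) y, ?_⟩
      ext i j
      exact e.apply_symm_apply _
  have hPfix : ∀ v, v ∈ BestOff.fixed ρ (⊤ : Subgroup P) ↔ val v ∈ V ⊓ Subgroup.centralizer (P : Set G) := fun v => by
    rw [hmem, ← MonoidHom.range_eq_map, Subgroup.range_subtype]
  refine ⟨GaloisField p n, inferInstance, inferInstance, hFn, ⟨MulEquiv.ofBijective _ hbij⟩, ?_, hPV, inf_le_left, ?_⟩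
  · refine le_antisymm (fun c hc => ?_) (sup_le (le_inf (Subgroup.commutator_le.2 fun x hx b hb =>
      Fusion.act_comm_mem hnorm hx hb) hquad) (inf_le_inf_left _ (Subgroup.centralizer_le hAP)))
    obtain ⟨a, v, ha, h⟩ := himg (Additive.ofMul (⟨c, hc.1⟩ : V)) ((hmem _ _).2 (by rw [hAA]; exact hc))
    have h1 : c / ⁅(a : G), val v⁆ ∈ V ⊓ Subgroup.centralizer (P : Set G) := by
      rw [← hsub]
      exact (hPfix _).1 h
    have h2 : ⁅(a : G), val v⁆ ∈ ⁅V, A⁆ := by
      rw [← commutatorElement_inv]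
      exact inv_mem (Subgroup.commutator_mem_commutator (Additive.toMul v).2 (Subgroup.mem_subgroupOf.1 ha))
    have h3 := mul_mem (Subgroup.mem_sup_right h1 : c / ⁅(a : G), val v⁆ ∈ ⁅V, A⁆ ⊔ _) (Subgroup.mem_sup_left h2)
    rwa [div_mul_cancel] at h3
  let ψ' : V →* Multiplicative (Fin 2 → GaloisField p n) :=
    MonoidHom.mk' (fun u => Multiplicative.ofAdd (fun i => e (ψ (Additive.ofMul u) i))) fun a b => by
      show _ = Multiplicative.ofAdd ((fun i => e (ψ (Additive.ofMul a) i)) + fun i => e (ψ (Additive.ofMul b) i))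
      congr 1
      funext i
      rw [Pi.add_apply, ← map_add, ← Pi.add_apply, ← map_add]
      rfl
  refine ⟨eSL.comp R, ψ', MonoidHom.range_eq_top.2 hbij.2, fun w => ?_, fun u => ?_, fun g u => ?_⟩
  · obtain ⟨v, hv⟩ := hψs fun i => e.symm (Multiplicative.toAdd w i)
    refine ⟨Additive.toMul v, Multiplicative.toAdd.injective (funext fun i => ?_)⟩
    show e (ψ v i) = _
    rw [hv, e.apply_symm_apply]
  · rw [show (u : G) ∈ V ⊓ Subgroup.centralizer (P : Set G) ↔ Additive.ofMul u ∈ BestOff.fixed ρ (⊤ : Subgroup P) from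
      (hPfix (Additive.ofMul u)).symm, ← hψ0]
    constructor
    · intro h
      funext i
      exact e.injective ((congrFun (congrArg Multiplicative.toAdd h) i).trans (map_zero e).symm)
    · intro h
      refine Multiplicative.toAdd.injective (funext fun i => ?_)
      show e (ψ (Additive.ofMul u) i) = 0
      rw [h]
      exact map_zero e
  · refine ⟨⟨(g : G) * u * (g : G)⁻¹, hconj g u u.2⟩, rfl, ?_⟩
    funext i
    show e (ψ (ρ g (Additive.ofMul u)) i) = _
    rw [hact]
    exact RingHom.map_mulVec (e : F →+* GaloisField p n) _ _ i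

end Cfsg.Agent.S2999
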