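import Cfsg.Statements.S3000
import Cfsg.Agent.Lib.PushUp.OffBlock.Setup
-- import your own Cfsg.Agent.* helpers here

set_option autoImplicit false
open Cfsg

namespace Cfsg.Agent.S3000

/-- Let p be a prime and let P and V be subgroups of a finite group with V elementary abelian, P normalizing V and acting faithfully on it (P ∩ C(V) = 1). Suppose P is p-minimal (a Sylow p-subgroup T of P is not normal and lies in a unique maximal subgroup M of P), O_p(P) = 1, C_P(C_V(T)) ≤ M, and P has a best offender on V: a subgroup A not centralizing V, with A/C_A(V) elementary abelian, such that |B|·|C_V(B)| ≤ |A|·|C_V(A)| for every subgroup B of A. Then there are subgroups E₁, …, E_r of P (r ≥ 1), pairwise commuting and forming with T a product P = (E₁ × ⋯ × E_r)T (internal direct product of the E_i), any two of which are conjugate by an element of T, such that V = C_V(E₁⋯E_r)·∏[V, E_i] with [V, E_i, E_j] = 1 for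 i ≠ j, and for each i there is n ≥ 1 with either E_i ≅ SL₂(pⁿ) acting on [V, E_i]/C_{[V,E_i]}(E_i) as on its natural two-dimensional module, or p = 2 and E_i isomorphic to the symmetric group of degree 2ⁿ + 1 acting on [V, E_i]/C_{[V,E_i]}(E_i) as on its even-weight permutation module. -/
theorem result {G : Type*} [Group G] [Finite G] {p : ℕ} [Fact p.Prime] (V P : Subgroup G) (hV : Cfsg.IsElementaryAbelian p V) (hPV : P ≤ Subgroup.normalizer (V : Set G)) (hfaith : P ⊓ Subgroup.centralizer (V : Set G) = ⊥) (hmin : Cfsg.IsPMinimal p ↥P) (T : Sylow p ↥P) (M : Subgroup ↥P) (hM : IsCoatom M) (hTM : (T : Subgroup ↥P) ≤ M) (hOp : Cfsg.pCore p ↥P = ⊥) (hoff : ∃ A : Subgroup G, A ≤ P ∧ ¬ A ≤ Subgroup.centralizer (V : Set G) ∧ Cfsg.IsBestOffenderOn p V A) (hCT : P ⊓ Subgroup.centralizer ((V ⊓ Subgroup.centralizer ((((T : Subgroup ↥P).map P.subtype) : Subgroup G) : Set G)) : Set G) ≤ M.map P.subtype) : ∃ (r :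 ℕ) (E : Fin r → Subgroup G), 1 ≤ r ∧ (∀ i, E i ≤ P) ∧ (∀ i j, i ≠ j → ⁅E i, E j⁆ = ⊥) ∧ (∀ i, E i ⊓ (⨆ j ∈ {j | j ≠ i}, E j) = ⊥) ∧ (⨆ i, E i) ⊔ ((T : Subgroup ↥P).map P.subtype) = P ∧ (∀ i j, ∃ t ∈ ((T : Subgroup ↥P).map P.subtype), (E i).map (MulAut.conj t).toMonoidHom = E j) ∧ (V ⊓ Subgroup.centralizer (((⨆ i, E i) : Subgroup G) : Set G)) ⊔ (⨆ i, ⁅V, E i⁆) = V ∧ (∀ i j, i ≠ j → ⁅⁅V, E i⁆, E j⁆ = ⊥) ∧ ∀ i, ∃ n : ℕ, 1 ≤ n ∧ ((∃ (F : Type) (_ : Field F) (_ : Fintype F), Fintype.card F = p ^ n ∧ Nonempty (↥(E i) ≃* Matrix.SpecialLinearGroup (Fin 2) F) ∧ Cfsg.ActsAsSL2OnSection F ⊤ (E i) ⁅V, E i⁆ (⁅V, E i⁆ ⊓ Subgroup.centralizer ((E i : Subgroup G) : Set G))) ∨ (p = 2 ∧ Nonempty (↥(E i) ≃* Equiv.Perm (Fin (2 ^ n + 1))) ∧ Cfsg.ActsAsOddPermModuleOnSection (2 ^ n + 1) ⊤ (E i) ⁅V, E i⁆ (⁅V, E i⁆ ⊓ Subgroup.centralizer ((E i : Subgroup G) : Set G)))) := by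
  classical
  obtain ⟨X, _, _, φ, val, S, hexp, hf, A', hA', hA'p, hA'c, hA'off⟩ :=
    OffBlock.exists_module V P hV hPV hfaith hoff
  have B₀ := OffBlock.pMin_of hM hmin T hTM hOp
  have K : OffBlock.Ctx φ p M :=
    { exp := hexp, faithful := hf, M_ne := B₀.M_ne, exT := B₀.exT, core := B₀.core, uniq := B₀.uniq
      moved := B₀.moved φ hexp hf hA' hA'p hA'c hA'off }
  obtain ⟨D₀, hD₀⟩ := OffBlock.exists_mem hA' hA'p hA'c hA'off
  obtain ⟨E₀, hE₀⟩ := K.exists_member (Fusion.sylIn_top T) hD₀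
  obtain ⟨r, E, hr, D⟩ := K.exists_decomp (Fusion.sylIn_top T) hTM hE₀
  have himg : ∀ E' : Subgroup ↥P, OffBlock.Seen.img P.subtype (MonoidHom.id ↥P) E' = E'.map P.subtype :=
    fun E' => by rw [OffBlock.Seen.img, Subgroup.comap_id]
  have hker : (MonoidHom.id ↥P).ker.map P.subtype = ⊥ := by
    rw [show (MonoidHom.id ↥P).ker = ⊥ from eq_bot_iff.2 fun x hx => Subgroup.mem_bot.2 hx, Subgroup.map_bot]
  refine ⟨r, fun i => OffBlock.Seen.img P.subtype (MonoidHom.id ↥P) (E i), hr,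
    fun i => Subgroup.map_subtype_le _, fun i j h => le_bot_iff.1 (hker ▸ S.comm_le D h),
    fun i => le_bot_iff.1 (hker ▸ S.disj_le D i), ?_, fun i j => ?_, S.sum_top D,
    fun i j h => S.comm_comm_eq_bot D h, fun i => ?_⟩
  · simp only [himg]
    rw [← Subgroup.map_iSup, ← Subgroup.map_sup, D.gen, ← MonoidHom.range_eq_map, Subgroup.range_subtype]
  · obtain ⟨t, ht, e⟩ := D.conj i j
    exact ⟨t, Subgroup.mem_map_of_mem P.subtype ht, S.conj_img D (t := t) e⟩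
  · obtain ⟨n, hn, h⟩ := S.natural D i
    refine ⟨n, hn, ?_⟩
    rcases h with ⟨F, _, _, hF, ⟨f, hf', hf1⟩, hact⟩ | ⟨hp2, ⟨f, hf', hf1⟩, hact⟩
    · exact Or.inl ⟨F, inferInstance, inferInstance, hF, ⟨MulEquiv.ofBijective f ⟨(injective_iff_map_eq_one f).2
        fun g hg => Subtype.ext (Subgroup.mem_bot.1 (hker ▸ (hf1 g).1 hg)), hf'⟩⟩, hact⟩
    · exact Or.inr ⟨hp2, ⟨MulEquiv.ofBijective f ⟨(injective_iff_map_eq_one f).2
        fun g hg => Subtype.ext (Subgroup.mem_bot.1 (hker ▸ (hf1 g).1 hg)), hf'⟩⟩, hact⟩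

end Cfsg.Agent.S3000
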