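import Cfsg.Statements.S3001
import Cfsg.Agent.Lib.PushUp.OffBlock.Setup
-- import your own Cfsg.Agent.* helpers here

set_option autoImplicit false
open Cfsg

namespace Cfsg.Agent.S3001

/-- Let p be a prime and let P and V be subgroups of a finite group with V elementary abelian, P normalizing V and acting faithfully on it (P ∩ C(V) = 1). Suppose P is p-minimal (a Sylow p-subgroup is not normal and lies in a unique maximal subgroup), O_p(P) = 1, and P has a best offender on V (a subgroup A not centralizing V, with A/C_A(V) elementary abelian and |B|·|C_V(B)| ≤ |A|·|C_V(A)| for every B ≤ A). Then [C_V(T), P] ≠ 1 for every Sylow p-subgroup T of P. -/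
theorem result {G : Type*} [Group G] [Finite G] {p : ℕ} [Fact p.Prime] (V P : Subgroup G) (hV : Cfsg.IsElementaryAbelian p V) (hPV : P ≤ Subgroup.normalizer (V : Set G)) (hfaith : P ⊓ Subgroup.centralizer (V : Set G) = ⊥) (hmin : Cfsg.IsPMinimal p ↥P) (hOp : Cfsg.pCore p ↥P = ⊥) (hoff : ∃ A : Subgroup G, A ≤ P ∧ ¬ A ≤ Subgroup.centralizer (V : Set G) ∧ Cfsg.IsBestOffenderOn p V A) (T : Sylow p ↥P) : ⁅(V ⊓ Subgroup.centralizer ((((T : Subgroup ↥P).map P.subtype) : Subgroup G) : Set G)), P⁆ ≠ ⊥ := by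
  classical
  obtain ⟨M, ⟨hM, hTM⟩, -⟩ := (hmin T).2
  obtain ⟨X, _, _, φ, val, S, hexp, hf, A', hA', hA'p, hA'c, hA'off⟩ :=
    OffBlock.exists_module V P hV hPV hfaith hoff
  obtain ⟨g, hg⟩ : ∃ g, g ∉ M := by
    by_contra h
    push Not at h
    exact hM.1 (top_le_iff.1 fun x _ => h x)
  obtain ⟨z, hz, hzm⟩ := (OffBlock.pMin_of hM hmin T hTM hOp).moved φ hexp hf hA' hA'p hA'c hA'off
    (T : Subgroup ↥P) (Fusion.sylIn_top T) hTM g hg
  intro hbot
  rw [Subgroup.commutator_eq_bot_iff_le_centralizer] at hbot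
  have h1 : val z ∈ V ⊓ Subgroup.centralizer ((((T : Subgroup ↥P).map P.subtype) : Subgroup G) : Set G) := by
    have := S.mem_fixed.1 hz
    rwa [OffBlock.Seen.img, Subgroup.comap_id] at this
  exact hzm ((S.act_eq g z).2 (Subgroup.mem_centralizer_iff.1 (hbot h1) _ g.2))

end Cfsg.Agent.S3001
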