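import Cfsg.Statements.S3003
import Cfsg.Agent.Lib.Fusion.OffenderBound
import Cfsg.Agent.Lib.Fusion.Cores

set_option autoImplicit false
open Cfsg

namespace Cfsg.Agent.S3003

theorem result {G : Type*} [Group G] [Finite G] {p : ℕ} [Fact p.Prime] (Q : Subgroup G) (hQp : IsPGroup p ↥Q) (hlarge : Cfsg.IsLarge Q) (G₁ : Subgroup G) (hQG : Q ≤ G₁) (R : Subgroup G) (hR : (Nat.card ↥R).Coprime p) (hGR : G₁ ≤ Subgroup.normalizer (R : Set G)) (U : Subgroup G) (hUG : U ≤ G₁) (hUp : IsPGroup p ↥U) : ((∃ x ∈ U, x ≠ 1 ∧ ∃ g ∈ G₁, g * x * g⁻¹ ∈ Q ⊓ Subgroup.centralizer (Q : Set G)) → R ⊓ Subgroup.centralizer (U : Set G) = ⊥) ∧ (Cfsg.IsElementaryAbelian p U → p ^ 2 ≤ Nat.card ↥U → (∀ U₀ : Subgroup G, U₀ ≤ U → IsCoatom (U₀.subgroupOf U) → ∃ x ∈ U₀, x ≠ 1 ∧ ∃ g ∈ G₁, g * x * g⁻¹ ∈ Q ⊓ Subgroup.centralizer (Q : Set G)) → R = ⊥) := by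
  have hp : p.Prime := Fact.out
  have key : ∀ W : Subgroup G, W ≤ G₁ → (∃ x ∈ W, x ≠ 1 ∧ ∃ g ∈ G₁, g * x * g⁻¹ ∈ Q ⊓ Subgroup.centralizer (Q : Set G)) →
      R ⊓ Subgroup.centralizer (W : Set G) = ⊥ := by
    rintro W - ⟨x, hxW, hx1, g, hg, hgx⟩
    rw [Subgroup.eq_bot_iff_forall]
    rintro r ⟨hrR, hrW⟩
    have hr' : g * r * g⁻¹ ∈ R := (Subgroup.mem_normalizer_iff.1 (hGR hg) r).1 hrR
    have hcomm : (g * r * g⁻¹) * (g * x * g⁻¹) = (g * x * g⁻¹) * (g * r * g⁻¹) := by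
      have h := Subgroup.mem_centralizer_iff.1 hrW x hxW
      calc (g * r * g⁻¹) * (g * x * g⁻¹) = g * (r * x) * g⁻¹ := by group
        _ = g * (x * r) * g⁻¹ := by rw [h]
        _ = (g * x * g⁻¹) * (g * r * g⁻¹) := by group
    have hN : g * r * g⁻¹ ∈ Subgroup.normalizer (Q : Set G) := by
      refine hlarge.2 (Subgroup.zpowers (g * x * g⁻¹)) (Subgroup.zpowers_le.2 hgx.2) ?_
        (Subgroup.centralizer_le_normalizer _ (Subgroup.mem_centralizer_iff.2 fun w hw => ?_))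
      · rw [Ne, Subgroup.zpowers_eq_bot]
        intro h
        exact hx1 (conj_eq_one_iff.1 h)
      · obtain ⟨k, rfl⟩ := hw
        exact (Commute.zpow_left hcomm.symm k).eq
    have hc : g * r * g⁻¹ ∈ Subgroup.centralizer (Q : Set G) := Subgroup.mem_centralizer_iff.2 fun q hq => by
      have h1 : g * r * g⁻¹ * q * (g * r * g⁻¹)⁻¹ * q⁻¹ ∈ R ⊓ Q := ⟨by
        rw [show g * r * g⁻¹ * q * (g * r * g⁻¹)⁻¹ * q⁻¹ = g * r * g⁻¹ * (q * (g * r * g⁻¹)⁻¹ * q⁻¹) by group]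
        exact R.mul_mem hr' ((Subgroup.mem_normalizer_iff.1 (hGR (hQG hq)) _).1 (R.inv_mem hr')),
        Q.mul_mem ((Subgroup.mem_normalizer_iff.1 hN q).1 hq) (Q.inv_mem hq)⟩
      rw [Cfsg.Agent.Fusion.coprime_inf_pGroup hR hQp, Subgroup.mem_bot, mul_inv_eq_one] at h1
      calc q * (g * r * g⁻¹) = g * r * g⁻¹ * q * (g * r * g⁻¹)⁻¹ * (g * r * g⁻¹) := by rw [h1]
        _ = g * r * g⁻¹ * q := by rw [inv_mul_cancel_right]
    have h1 : g * r * g⁻¹ ∈ R ⊓ Q := ⟨hr', hlarge.1 hc⟩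
    rw [Cfsg.Agent.Fusion.coprime_inf_pGroup hR hQp, Subgroup.mem_bot] at h1
    exact conj_eq_one_iff.1 h1
  refine ⟨key U hUG, fun hU hcard hyp => ?_⟩
  have hco : (Nat.card U).Coprime (Nat.card R) := by
    obtain ⟨k, hk⟩ := IsPGroup.iff_card.1 hUp
    rw [hk]; exact Nat.Coprime.pow_left k hR.symm
  rw [← Cfsg.Agent.Solv.gen_eq U R hU.1 (hUG.trans hGR) hco]
  refine le_bot_iff.1 (iSup₂_le fun B hB => ?_)
  obtain ⟨hBU, a, ha, hBa⟩ := hB
  obtain ⟨U₀, hU₀U, hU₀B, hmax⟩ : ∃ U₀, U₀ ≤ U ∧ U₀ ≤ B ∧ IsCoatom (U₀.subgroupOf U) := by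
    by_cases hBe : B = U
    · have hnt : (⊥ : Subgroup U) ≠ ⊤ := fun h => by
        have h1 := Subgroup.card_top (G := U)
        rw [← h, Subgroup.card_bot] at h1
        have := Nat.one_lt_pow (two_ne_zero) hp.one_lt
        omega
      obtain h | ⟨M, hM, -⟩ := eq_top_or_exists_le_coatom (⊥ : Subgroup U)
      · exact absurd h hnt
      · refine ⟨M.map U.subtype, Subgroup.map_subtype_le _, (Subgroup.map_subtype_le M).trans hBe.ge, ?_⟩
        rwa [Subgroup.subgroupOf, Subgroup.comap_map_eq_self_of_injective U.subtype_injective]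
    · have hle := Cfsg.Agent.Fusion.card_sup_zpowers_le (p := p)
        (fun b hb => Cfsg.Agent.Local.elemAb_commute hU ha (hBU hb)) hBa (hU.2 a ha)
      refine ⟨B, hBU, le_rfl, fun h => hBe (le_antisymm hBU (Subgroup.subgroupOf_eq_top.1 h)), fun N hN => ?_⟩
      obtain ⟨kU, hkU⟩ := IsPGroup.iff_card.1 hUp
      obtain ⟨kN, hkN⟩ := IsPGroup.iff_card.1 (hUp.to_subgroup N)
      obtain ⟨kB, hkB⟩ := IsPGroup.iff_card.1 (hUp.to_subgroup (B.subgroupOf U))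
      have hcB : Nat.card (B.subgroupOf U) = Nat.card B := Nat.card_congr (Subgroup.subgroupOfEquivOfLe hBU).toEquiv
      have hlt : kB < kN := by
        have h1 : Nat.card (B.subgroupOf U) < Nat.card N := lt_of_le_of_ne (Subgroup.card_le_of_le hN.le)
          fun h => hN.ne (Subgroup.eq_of_le_of_card_ge hN.le h.ge)
        rw [hkB, hkN] at h1
        exact (Nat.pow_lt_pow_iff_right hp.one_lt).1 h1
      refine Subgroup.eq_top_of_le_card _ ?_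
      rw [← hcB, hkB, hkU, ← pow_succ'] at hle
      rw [hkU, hkN]
      exact hle.trans (Nat.pow_le_pow_right hp.pos hlt)
  exact (inf_le_inf_left R (Subgroup.centralizer_le hU₀B)).trans
    (key U₀ (hU₀U.trans hUG) (hyp U₀ hU₀U hmax)).le

end Cfsg.Agent.S3003
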