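import Cfsg.Statements.S3006
import Cfsg.Agent.Lib.LocalEven.CentrallyLarge

set_option autoImplicit false
open scoped Pointwise
open Cfsg
open Cfsg.Agent
open scoped commutatorElement Pointwise

namespace Cfsg.Agent.S3006

/-- Let P be a finite p-group, Q a centrally large subgroup of P (|Q|·|Z(Q)| maximal among subgroups of P) and A an abelian subgroup of P of largest order. Then QA = AQ is a centrally large subgroup of P, C_{QA}(Q ∩ A) = Z(Q)·A, and the subgroup generated by all centrally large subgroups of P contains C_P(Z(J(P))), where J(P) is generated by the abelian subgroups of largest order. -/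
theorem result {p : ℕ} [Fact p.Prime] (P : Type*) [Group P] [Finite P] (hP : IsPGroup p P) (Q A : Subgroup P) (hQ : Cfsg.IsCentrallyLarge Q) (hA : A ∈ Cfsg.maxAbelianSubgroups P) : ((Q ⊔ A : Subgroup P) : Set P) = (Q : Set P) * (A : Set P) ∧ Cfsg.IsCentrallyLarge (Q ⊔ A) ∧ (Q ⊔ A) ⊓ Subgroup.centralizer ((Q ⊓ A : Subgroup P) : Set P) = (Q ⊓ Subgroup.centralizer (Q : Set P)) ⊔ A ∧ (((Q ⊓ Subgroup.centralizer (Q : Set P)) ⊔ A : Subgroup P) : Set P) = ((Q ⊓ Subgroup.centralizer (Q : Set P)) : Set P) * (A : Set P) ∧ Subgroup.centralizer ((Cfsg.thompsonSubgroupA P ⊓ Subgroup.centralizer (Cfsg.thompsonSubgroupA P : Set P) : Subgroup P) : Set P) ≤ Cfsg.centrallyLargeJoin P := by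
  obtain ⟨hset, hX, hB⟩ := CDLattice.sup_maxAbelian hQ hA
  obtain ⟨hQ1, hQ2⟩ := CDLattice.centrallyLarge_iff.1 hQ
  rw [inf_eq_right.2 hQ2]
  haveI := hA.1
  have hAA : A ≤ Subgroup.centralizer (A : Set P) := Subgroup.le_centralizer A
  have hAY : A ≤ Subgroup.centralizer ((Q ⊓ A : Subgroup P) : Set P) :=
    hAA.trans (Subgroup.centralizer_le (SetLike.coe_subset_coe.2 inf_le_right))
  have hZY : Subgroup.centralizer (Q : Set P) ≤ Subgroup.centralizer ((Q ⊓ A : Subgroup P) : Set P) :=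
    Subgroup.centralizer_le (SetLike.coe_subset_coe.2 inf_le_left)
  have hsup : Subgroup.centralizer (Q : Set P) ⊔ A ≤
      (Q ⊔ A) ⊓ Subgroup.centralizer ((Q ⊓ A : Subgroup P) : Set P) :=
    sup_le (le_inf (hQ2.trans le_sup_left) hZY) (le_inf le_sup_right hAY)
  have hmem : ∀ x ∈ (Q ⊔ A) ⊓ Subgroup.centralizer ((Q ⊓ A : Subgroup P) : Set P),
      x ∈ (Subgroup.centralizer (Q : Set P) : Set P) * (A : Set P) := by
    intro x hx
    obtain ⟨hxX, hxC⟩ := Subgroup.mem_inf.1 hx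
    obtain ⟨q, hq, a, ha, rfl⟩ : x ∈ (Q : Set P) * (A : Set P) := hset ▸ hxX
    have hqC : q ∈ Subgroup.centralizer ((Q ⊓ A : Subgroup P) : Set P) :=
      ((Subgroup.centralizer ((Q ⊓ A : Subgroup P) : Set P)).mul_mem_cancel_right (hAY ha)).1 hxC
    have hqB : q ∈ (Q ⊓ A) ⊔ Subgroup.centralizer (Q : Set P) := by
      refine (CDLattice.centralizer_eq_of_maxAbelian hB).le ?_
      rw [CDLattice.centralizer_sup']
      exact Subgroup.mem_inf.2 ⟨hqC, Subgroup.mem_centralizer_iff.2 fun z hz =>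
        (Subgroup.mem_centralizer_iff.1 hz q hq).symm⟩
    have hcomm : ∀ y ∈ Q ⊓ A, ∀ z ∈ Subgroup.centralizer (Q : Set P), y * z = z * y := fun y hy z hz =>
      Subgroup.mem_centralizer_iff.1 hz y (Subgroup.mem_inf.1 hy).1
    obtain ⟨y, hy, z, hz, rfl⟩ : q ∈ ((Q ⊓ A : Subgroup P) : Set P) * (Subgroup.centralizer (Q : Set P) : Set P) :=
      CDLattice.coe_sup_of_comm hcomm ▸ hqB
    refine ⟨z, hz, y * a, mul_mem (Subgroup.mem_inf.1 hy).2 ha, ?_⟩
    show z * (y * a) = y * z * a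
    rw [hcomm y hy z hz, mul_assoc]
  refine ⟨hset, hX, le_antisymm (fun x hx => ?_) hsup, ?_, ?_⟩
  · exact CDLattice.set_mul_subset _ A _ le_sup_left le_sup_right (hmem x hx)
  · rw [show ((Q : Set P) ⊓ (Subgroup.centralizer (Q : Set P) : Set P))
      = (Subgroup.centralizer (Q : Set P) : Set P) from inf_eq_right.2 hQ2]
    exact Set.Subset.antisymm (fun x hx => hmem x (hsup hx))
      (CDLattice.set_mul_subset _ A _ le_sup_left le_sup_right)
  · obtain ⟨R, hR⟩ := CDLattice.exists_centrallyLarge (P := P)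
    refine CDLattice.centralizer_centerJ_le
      (CDLattice.centrallyLarge_sSup ⟨R, hR⟩ fun X hX => hX) ?_
    exact sSup_le fun B hB => le_sup_right.trans
      (le_sSup (s := {X : Subgroup P | Cfsg.IsCentrallyLarge X}) (CDLattice.sup_maxAbelian hR hB).2.1)

end Cfsg.Agent.S3006
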