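import Cfsg.Statements.S3008
import Cfsg.Agent.Lib.LocalEven.CentrallyLargeNormal

set_option autoImplicit false
open Cfsg
open Cfsg.Agent
open scoped commutatorElement

namespace Cfsg.Agent.S3008

/-- Let P be a finite p-group, with J(P) generated by its abelian subgroups of largest order and J̃(P) = C_P(Z(J(P))); call R ≤ P centrally large if |R|·|Z(R)| is as large as possible, and let P_MCL be generated by the minimal centrally large subgroups. Then: for every centrally large Q, Q·J(P) ⊇ J̃(P); some minimal centrally large subgroup of P is normalized by both J(P) and P_MCL; if P = J(P) and d(P)² = |P|·|Z(P)|, where d(P) is the largest order of an abelian subgroup, then every minimal centrally large subgroup of P is abelian; and if every minimal centrally large subgroup is abelian then J̃(P) = J(P). -/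
theorem result {p : ℕ} [Fact p.Prime] (P : Type*) [Group P] [Finite P] (hP : IsPGroup p P) : (∀ Q : Subgroup P, Cfsg.IsCentrallyLarge Q → Subgroup.centralizer ((Cfsg.thompsonSubgroupA P ⊓ Subgroup.centralizer (Cfsg.thompsonSubgroupA P : Set P) : Subgroup P) : Set P) ≤ Q ⊔ Cfsg.thompsonSubgroupA P) ∧ (∃ Q : Subgroup P, Cfsg.IsMinimalCentrallyLarge Q ∧ Cfsg.thompsonSubgroupA P ≤ Subgroup.normalizer (Q : Set P) ∧ Cfsg.minimalCentrallyLargeJoin P ≤ Subgroup.normalizer (Q : Set P)) ∧ (Cfsg.thompsonSubgroupA P = ⊤ → (∀ A ∈ Cfsg.maxAbelianSubgroups P, Nat.card ↥A ^ 2 = Nat.card P * Nat.card ↥(Subgroup.center P)) → ∀ Q : Subgroup P, Cfsg.IsMinimalCentrallyLarge Q → IsMulCommutative ↥Q) ∧ ((∀ Q : Subgroup P, Cfsg.IsMinimalCentrallyLarge Q → IsMulCommutative ↥Q) → Subgroup.centralizer ((Cfsg.thompsonSubgroupA P ⊓ Subgroup.centralizer (Cfsg.thompsonSubgroupA P : Set P) : Subgroup P) : Set P) = Cfsg.thompsonSubgroupA P) := by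
  refine ⟨fun Q hQ => CDLattice.centralizer_centerJ_le (CDLattice.sup_thompsonA hQ) le_sup_right,
    CDLattice.exists_normalized hP, fun hJ hcard Q hQ => ?_, CDLattice.centralizer_centerJ_eq⟩
  obtain ⟨A, hA⟩ := CDLattice.exists_maxAbelian (P := P)
  have hCA := CDLattice.centralizer_eq_of_maxAbelian hA
  have htop := CDLattice.sup_thompsonA hQ.1
  rw [hJ, sup_top_eq] at htop
  have htop1 := (CDLattice.centrallyLarge_iff.1 htop).1
  have hcl : Cfsg.IsCentrallyLarge A := by
    refine CDLattice.centrallyLarge_iff.2 ⟨?_, hCA.le⟩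
    unfold Cfsg.IsCentralizerLarge at htop1 ⊢
    rw [Subgroup.coe_top, Subgroup.centralizer_univ, Subgroup.card_top] at htop1
    rw [hCA, ← pow_two, hcard A hA, htop1]
  obtain ⟨R, hRA, hR⟩ := Finite.exists_le_minimal (p := fun X : Subgroup P => Cfsg.IsCentrallyLarge X) (a := A) hcl
  have hRm : Cfsg.IsMinimalCentrallyLarge R := ⟨hR.1, fun X hX hXl => le_antisymm hX (hR.2 hXl hX)⟩
  have h := (CDLattice.minimal_cards hQ hRm).1
  haveI := hA.1
  have hbot : ⁅R, R⁆ = ⊥ := Subgroup.commutator_eq_bot_iff_le_centralizer.2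
    ((hRA.trans (Subgroup.le_centralizer A)).trans (Subgroup.centralizer_le (SetLike.coe_subset_coe.2 hRA)))
  rw [hbot, Subgroup.commutator_eq_bot_iff_le_centralizer] at h
  exact CDLattice.isMulCommutative_iff_le_centralizer.2 h

end Cfsg.Agent.S3008
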