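import Cfsg.Statements.S3009
import Cfsg.Agent.Lib.LocalEven.SL2ModuleRecog
import Cfsg.Agent.Lib.LocalEven.NaturalSL2
import Cfsg.Agent.Lib.Fusion.Basic

set_option autoImplicit false
open scoped commutatorElement
open Cfsg

namespace Cfsg.Agent.S3009

theorem result {X : Type*} [Group X] [Finite X] {p : ℕ} [Fact p.Prime] (G V : Subgroup X) (hV : Cfsg.IsElementaryAbelian p V) (hGV : G ≤ Subgroup.normalizer (V : Set X)) (F : Type) [Field F] [Fintype F] (n : ℕ) (hF : Fintype.card F = p ^ n) (hG : Nonempty (↥G ≃* Matrix.SpecialLinearGroup (Fin 2) F)) (hirr : ∀ U : Subgroup X, U ≤ V → G ≤ Subgroup.normalizer (U : Set X) → U = ⊥ ∨ U = V) (hnt : ⁅V, G⁆ ≠ ⊥) (S : Sylow p ↥G) (hyp : ⁅⁅V, (S : Subgroup ↥G).map G.subtype⁆, (S : Subgroup ↥G).map G.subtype⁆ = ⊥ ∨ Nat.card ↥V ≤ Nat.card ↥(V ⊓ Subgroup.centralizer (((S : Subgroup ↥G).map G.subtype : Subgroup X) : Set X)) ^ 2) : Cfsg.ActsAsSL2OnSection F ⊤ G V ⊥ := by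
  classical
  obtain ⟨e₀⟩ := hG
  obtain ⟨P, hP⟩ := NatSL2.uni_sylow (F := F) hF
  obtain ⟨g₀, hg₀⟩ := MulAction.exists_smul_eq (Matrix.SpecialLinearGroup (Fin 2) F) (S.mapSurjective (f := e₀.toMonoidHom) e₀.surjective) P
  obtain ⟨e, he⟩ : ∃ e : ↥G ≃* Matrix.SpecialLinearGroup (Fin 2) F, e = e₀.trans (MulAut.conj g₀) := ⟨_, rfl⟩
  have hSe : ∀ l : ↥G, l ∈ (S : Subgroup ↥G) ↔ ∃ a : F, Small.PSL2.uS a = e l := by
    intro l
    have h1 : ((S : Subgroup ↥G).map e₀.toMonoidHom).map (MulAut.conj g₀).toMonoidHom = NatSL2.uni F := by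
      rw [← hP, ← hg₀]; rfl
    have h2 : (S : Subgroup ↥G).map e.toMonoidHom = NatSL2.uni F := by rw [← h1, he, Subgroup.map_map]; rfl
    constructor
    · intro hl
      have : e l ∈ NatSL2.uni F := h2 ▸ Subgroup.mem_map_of_mem e.toMonoidHom hl
      exact this
    · intro h
      have : e l ∈ (S : Subgroup ↥G).map e.toMonoidHom := h2.symm ▸ h
      obtain ⟨s, hs, hsl⟩ := this
      rwa [e.injective hsl] at hs
  letI : CommGroup ↥V := { (inferInstance : Group ↥V) with mul_comm := hV.1.1.1 }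
  let act : Matrix.SpecialLinearGroup (Fin 2) F → ↥V → ↥V := fun g v =>
    ⟨((e.symm g : ↥G) : X) * (v : X) * ((e.symm g : ↥G) : X)⁻¹,
      (Subgroup.mem_normalizer_iff.1 (hGV (e.symm g).2) _).1 v.2⟩
  have hact : ∀ g v, (act g v : X) = ((e.symm g : ↥G) : X) * (v : X) * ((e.symm g : ↥G) : X)⁻¹ := fun g v => rfl
  let ρ : Matrix.SpecialLinearGroup (Fin 2) F →* AddMonoid.End (Additive ↥V) :=
    { toFun := fun g => MonoidHom.toAdditive (MonoidHom.mk' (act g) fun x y => Subtype.ext (by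
        simp only [hact, Subgroup.coe_mul]; group))
      map_one' := by
        refine AddMonoidHom.ext fun v => ?_
        show Additive.ofMul (act 1 v.toMul) = v
        have h : act 1 v.toMul = v.toMul := Subtype.ext (by simp [hact])
        rw [h]; rfl
      map_mul' := fun g h => by
        refine AddMonoidHom.ext fun v => ?_
        show Additive.ofMul (act (g * h) v.toMul) = Additive.ofMul (act g (act h v.toMul))
        refine congrArg Additive.ofMul (Subtype.ext ?_)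
        simp only [hact, map_mul, Subgroup.coe_mul]; group }
  have hρ : ∀ g (v : ↥V), ρ g (Additive.ofMul v) = Additive.ofMul (act g v) := fun g v => rfl
  have hcomm : ∀ g : ↥G, ∀ v ∈ V, ⁅v, (g : X)⁆ ∈ V := fun g v hv => by
    rw [commutatorElement_def, mul_assoc v, mul_assoc v]
    exact V.mul_mem hv ((Subgroup.mem_normalizer_iff.1 (hGV g.2) _).1 (V.inv_mem hv))
  have hnt' : ∃ g v, ρ g v ≠ v := by
    by_contra hall
    push Not at hall
    refine hnt ((Subgroup.commutator_eq_bot_iff_le_centralizer).2 fun v hv => ?_)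
    refine Subgroup.mem_centralizer_iff.2 fun g hg => ?_
    have h := hall (e ⟨g, hg⟩) (Additive.ofMul ⟨v, hv⟩)
    rw [hρ] at h
    have h' := congrArg (Subtype.val) (Additive.ofMul.injective h)
    rw [hact, MulEquiv.symm_apply_apply] at h'
    exact mul_inv_eq_iff_eq_mul.1 h'
  have hirr' : ∀ N : AddSubgroup (Additive ↥V), (∀ g, ∀ x ∈ N, ρ g x ∈ N) → N = ⊥ ∨ N = ⊤ := by
    intro N hN
    obtain ⟨U, hU⟩ : ∃ U, U = (AddSubgroup.toSubgroup' N).map V.subtype := ⟨_, rfl⟩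
    have hGU : G ≤ Subgroup.normalizer (U : Set X) := fun g hg => by
      refine Fusion.mem_normalizer_of_cj_le ?_
      rintro _ ⟨y, hy, rfl⟩
      rw [hU] at hy ⊢
      obtain ⟨v, hv, rfl⟩ := hy
      refine ⟨act (e ⟨g, hg⟩) v, hN (e ⟨g, hg⟩) _ hv, ?_⟩
      show (act (e ⟨g, hg⟩) v : X) = g * (v : X) * g⁻¹
      rw [hact, MulEquiv.symm_apply_apply]
    rcases hirr U (hU ▸ Subgroup.map_subtype_le _) hGU with h | h
    · refine Or.inl ((AddSubgroup.eq_bot_iff_forall _).2 fun x hx => ?_)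
      have h1 : (x.toMul : X) ∈ U := by rw [hU]; exact Subgroup.mem_map_of_mem V.subtype hx
      rw [h, Subgroup.mem_bot] at h1
      exact congrArg Additive.ofMul (Subtype.ext h1 : x.toMul = 1)
    · refine Or.inr (eq_top_iff.2 fun x _ => ?_)
      have h1 : (x.toMul : X) ∈ U := by rw [h]; exact x.toMul.2
      rw [hU] at h1
      obtain ⟨v, hv, he'⟩ := h1
      rwa [Subtype.ext he'] at hv
  have hsym : ∀ a : F, (e.symm (Small.PSL2.uS a) : X) ∈ (S : Subgroup ↥G).map G.subtype := fun a =>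
    ⟨_, (hSe _).2 ⟨a, (e.apply_symm_apply _).symm⟩, rfl⟩
  have hyp' : (∀ (a b : F) (x : Additive ↥V), ρ (Small.PSL2.uS a) (ρ (Small.PSL2.uS b) x - x) =
      ρ (Small.PSL2.uS b) x - x) ∨
      Nat.card (Additive ↥V) ≤ Nat.card ↥(LocalEven.SL2Recog.fixU ρ) ^ 2 := by
    rcases hyp with hq | hcard
    · refine Or.inl fun a b x => ?_
      obtain ⟨u, hu⟩ : ∃ u : X, u = (e.symm (Small.PSL2.uS a) : X) := ⟨_, rfl⟩
      obtain ⟨w, hw⟩ : ∃ w : X, w = (e.symm (Small.PSL2.uS b) : X) := ⟨_, rfl⟩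
      have h1 : ⁅(x.toMul : X)⁻¹, w⁆ ∈ ⁅V, (S : Subgroup ↥G).map G.subtype⁆ :=
        Subgroup.commutator_mem_commutator (V.inv_mem x.toMul.2) (hw ▸ hsym b)
      have h2 : ⁅⁅(x.toMul : X)⁻¹, w⁆, u⁆ = 1 := by
        rw [← Subgroup.mem_bot, ← hq]
        exact Subgroup.commutator_mem_commutator h1 (hu ▸ hsym a)
      have h3 := commutatorElement_eq_one_iff_mul_comm.1 h2
      refine Additive.toMul.injective (Subtype.ext ?_)
      rw [sub_eq_add_neg]
      show ((act (Small.PSL2.uS a) (act (Small.PSL2.uS b) x.toMul * x.toMul⁻¹) : ↥V) : X) =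
        ((act (Small.PSL2.uS b) x.toMul * x.toMul⁻¹ : ↥V) : X)
      have hd : ((act (Small.PSL2.uS b) x.toMul * x.toMul⁻¹ : ↥V) : X) = ⁅(x.toMul : X)⁻¹, w⁆ := by
        rw [show act (Small.PSL2.uS b) x.toMul * x.toMul⁻¹ = x.toMul⁻¹ * act (Small.PSL2.uS b) x.toMul from mul_comm _ _]
        rw [Subgroup.coe_mul, Subgroup.coe_inv, hact, ← hw, commutatorElement_def]; group
      rw [hact, hd, ← hu]
      exact mul_inv_eq_of_eq_mul h3.symm
    · refine Or.inr ?_
      rw [Nat.card_congr Additive.toMul]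
      obtain ⟨C, hC⟩ : ∃ C, C = V ⊓ Subgroup.centralizer (((S : Subgroup ↥G).map G.subtype : Subgroup X) : Set X) := ⟨_, rfl⟩
      rw [← hC] at hcard
      have hmem : ∀ x : ↥C, (x : X) ∈ V ∧ (x : X) ∈ Subgroup.centralizer (((S : Subgroup ↥G).map G.subtype : Subgroup X) : Set X) :=
        fun x => Subgroup.mem_inf.1 (hC ▸ x.2)
      let ι : ↥C → ↥(LocalEven.SL2Recog.fixU ρ) := fun x =>
        ⟨Additive.ofMul ⟨(x : X), (hmem x).1⟩, fun a => by
          rw [hρ]
          refine congrArg Additive.ofMul (Subtype.ext ?_)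
          rw [hact]
          exact mul_inv_eq_of_eq_mul (Subgroup.mem_centralizer_iff.1 (hmem x).2 _ (hsym a))⟩
      exact hcard.trans (Nat.pow_le_pow_left (Nat.card_le_card_of_injective ι fun x y h =>
        Subtype.ext (congrArg Subtype.val (Additive.ofMul.injective (congrArg Subtype.val h)) :)) 2)
  obtain ⟨Θ, hΘ, hΘe⟩ := LocalEven.SL2Recog.main ρ (p := p) (fun x => by
    refine Additive.toMul.injective ?_
    rw [toMul_nsmul]
    exact Subtype.ext (by simpa using hV.2 _ x.toMul.2)) hF hirr' hnt' hyp'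
  obtain ⟨Φ, hΦ⟩ : ∃ Φ : (Fin 2 → F) ≃+ Additive ↥V, Φ = AddEquiv.ofBijective Θ hΘ := ⟨_, rfl⟩
  refine ⟨hGV, bot_le, e.toMonoidHom, AddMonoidHom.toMultiplicativeRight Φ.symm.toAddMonoidHom,
    MonoidHom.range_eq_top.2 e.surjective, ?_, fun u => ?_, fun l u => ?_⟩
  · intro y
    exact ⟨(Φ y.toAdd).toMul, by simp⟩
  · constructor
    · intro h
      have h' : Φ.symm (Additive.ofMul u) = 0 := h
      rw [AddEquiv.map_eq_zero_iff] at h'
      rw [show u = 1 from h']
      exact one_mem _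
    · intro h
      rw [show u = 1 from Subtype.ext (Subgroup.mem_bot.1 h)]
      exact map_one _
  · refine ⟨act (e l) u, by rw [hact, MulEquiv.symm_apply_apply], ?_⟩
    show Φ.symm (Additive.ofMul (act (e l) u)) = (e l).1.mulVec (Φ.symm (Additive.ofMul u))
    rw [← hρ, AddEquiv.symm_apply_eq]
    have h1 := hΘe (e l) (Φ.symm (Additive.ofMul u))
    have h2 : Θ (Φ.symm (Additive.ofMul u)) = Additive.ofMul u := by
      have := Φ.apply_symm_apply (Additive.ofMul u)
      rwa [hΦ] at this ⊢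
    rw [h2] at h1
    rw [h1, hΦ]; rfl

end Cfsg.Agent.S3009
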