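import Cfsg.Statements.S3011
import Cfsg.Agent.Lib.Solv.Zipper

set_option autoImplicit false
open Cfsg

namespace Cfsg.Agent.S3011

theorem eq_one_of_inv_eq {G : Type*} [Group G] {h : G} (ho : Odd (orderOf h)) (he : h = h⁻¹) : h = 1 := by
  obtain ⟨j, hj⟩ := ho
  have h2 : h * h = 1 := eq_inv_iff_mul_eq_one.1 he
  have := pow_orderOf_eq_one h
  rwa [hj, pow_succ, pow_mul, pow_two, h2, one_pow, one_mul] at this

theorem commute_of_sq {G : Type*} [Group G] {h k : G} (hk : Odd (orderOf k)) (hc : Commute (k ^ 2) h) :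
    Commute k h := by
  obtain ⟨j, hj⟩ := hk
  have := hc.pow_left (j + 1)
  rwa [← pow_mul, show 2 * (j + 1) = 2 * j + 1 + 1 by omega, pow_succ, ← hj, pow_orderOf_eq_one, one_mul] at this

/-- In a Sidki pair of order four no two elements are centralised and inverted crosswise. -/
theorem two {G : Type*} [Group G] (V : Subgroup G) (hS : Cfsg.IsSidkiPair V) {x y h k : G}
    (hx : x ∈ V) (hy : y ∈ V) (hVmem : ∀ w ∈ V, w = 1 ∨ w = x ∨ w = y ∨ w = x * y)
    (hxy : Commute x y) (hh : h ≠ 1) (hho : Odd (orderOf h)) (hk : k ≠ 1) (hko : Odd (orderOf k))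
    (hxh : x * h * x⁻¹ = h⁻¹) (hyh : y * h * y⁻¹ = h) (hyk : y * k * y⁻¹ = k⁻¹)
    (hxk : x * k * x⁻¹ = k) : False := by
  have cx : ∀ u v : G, x * (u * v) * x⁻¹ = (x * u * x⁻¹) * (x * v * x⁻¹) := fun u v => by group
  have cy : ∀ u v : G, y * (u * v) * y⁻¹ = (y * u * y⁻¹) * (y * v * y⁻¹) := fun u v => by group
  have hxki : x * k⁻¹ * x⁻¹ = k⁻¹ := by rw [← conj_inv, hxk]
  have hyki : y * k⁻¹ * y⁻¹ = k := by rw [← conj_inv, hyk, inv_inv]
  have cxy : ∀ u : G, (x * y) * u * (x * y)⁻¹ = x * (y * u * y⁻¹) * x⁻¹ := fun u => by group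
  have hncomm : ¬ Commute h k := by
    intro hc
    have hodd : Odd (orderOf (h * k)) := Odd.of_dvd_nat (hho.mul hko) hc.orderOf_mul_dvd_mul_orderOf
    have hinv : (x * y) * (h * k) * (x * y)⁻¹ = (h * k)⁻¹ := by
      rw [cxy, cy, hyh, hyk, cx, hxh, hxki, mul_inv_rev, hc.inv_inv.eq]
    obtain ⟨w, hw, hw1, hwc⟩ := hS (h * k) (x * y) (mul_mem hx hy) hodd hinv
    have hwc' : w * (h * k) * w⁻¹ = h * k := mul_inv_eq_iff_eq_mul.2 hwc
    rcases hVmem w hw with rfl | rfl | rfl | rfl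
    · exact hw1 rfl
    · rw [cx, hxh, hxk, mul_right_cancel_iff] at hwc'
      exact hh (eq_one_of_inv_eq hho hwc'.symm)
    · rw [cy, hyh, hyk, mul_left_cancel_iff] at hwc'
      exact hk (eq_one_of_inv_eq hko hwc'.symm)
    · rw [hinv] at hwc'
      have h1 : h = k⁻¹ := eq_inv_of_mul_eq_one_left (eq_one_of_inv_eq hodd hwc'.symm)
      refine hh (eq_one_of_inv_eq hho ?_)
      conv_lhs => rw [← hyh, h1, hyki]
      rw [h1, inv_inv]
  have hodd : Odd (orderOf (k⁻¹ * h * k)) := by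
    have := (MulAut.conj k⁻¹).orderOf_eq h
    rw [MulAut.conj_apply, inv_inv] at this
    rwa [this]
  have hinv : x * (k⁻¹ * h * k) * x⁻¹ = (k⁻¹ * h * k)⁻¹ := by
    rw [cx, cx, hxki, hxh, hxk]; group
  obtain ⟨w, hw, hw1, hwc⟩ := hS _ x hx hodd hinv
  have hwc' : w * (k⁻¹ * h * k) * w⁻¹ = k⁻¹ * h * k := mul_inv_eq_iff_eq_mul.2 hwc
  rcases hVmem w hw with rfl | rfl | rfl | rfl
  · exact hw1 rfl
  · rw [hinv] at hwc'
    have := eq_one_of_inv_eq hodd hwc'.symm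
    exact hh (by
      calc h = k * (k⁻¹ * h * k) * k⁻¹ := by group
        _ = 1 := by rw [this]; group)
  · rw [cy, cy, hyh, hyk, hyki] at hwc'
    refine hncomm (commute_of_sq hko ?_).symm
    show k ^ 2 * h = h * k ^ 2
    calc k ^ 2 * h = k * (k * h * k⁻¹) * k := by simp only [pow_two]; group
      _ = k * (k⁻¹ * h * k) * k := by rw [hwc']
      _ = h * k ^ 2 := by simp only [pow_two]; group
  · rw [cxy, cy, cy, hyh, hyk, hyki, cx, cx, hxk, hxh, hxki] at hwc'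
    have h4 : Commute (k ^ 2 * k ^ 2) h := by
      have h2 : k ^ 2 * h⁻¹ * (k ^ 2)⁻¹ = h := by
        calc k ^ 2 * h⁻¹ * (k ^ 2)⁻¹ = k * (k * h⁻¹ * k⁻¹) * k⁻¹ := by simp only [pow_two]; group
          _ = k * (k⁻¹ * h * k) * k⁻¹ := by rw [hwc']
          _ = h := by group
      have h3 : k ^ 2 * h * (k ^ 2)⁻¹ = h⁻¹ := by
        conv_rhs => rw [← h2, conj_inv, inv_inv]
      show k ^ 2 * k ^ 2 * h = h * (k ^ 2 * k ^ 2)
      rw [← mul_inv_eq_iff_eq_mul]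
      calc k ^ 2 * k ^ 2 * h * (k ^ 2 * k ^ 2)⁻¹ = k ^ 2 * (k ^ 2 * h * (k ^ 2)⁻¹) * (k ^ 2)⁻¹ := by group
        _ = h := by rw [h3, h2]
    refine hncomm (commute_of_sq hko (commute_of_sq ?_ ?_)).symm
    · exact Odd.of_dvd_nat hko (orderOf_pow_dvd 2)
    · rwa [pow_two (k ^ 2)]

/-- Let G be a finite group and V a nontrivial elementary abelian 2-subgroup of G of order at most 4 such that, whenever an element of V inverts an element h of G of odd order, some nontrivial element of V commutes with h. Then V meets O₂(G) nontrivially. (The case of order at most 4 has a short argument from the Baer–Suzuki theorem.) -/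
theorem result {G : Type*} [Group G] [Finite G] (V : Subgroup G) (hV : Cfsg.IsElementaryAbelian 2 V) (hV1 : V ≠ ⊥) (hS : Cfsg.IsSidkiPair V) (h4 : Nat.card V ≤ 4) : V ⊓ Cfsg.pCore 2 G ≠ ⊥ := by
  obtain ⟨hab, hexp⟩ := hV
  have hcomm : ∀ a ∈ V, ∀ b ∈ V, Commute a b := fun a ha b hb =>
    congrArg Subtype.val (hab.is_comm.comm ⟨a, ha⟩ ⟨b, hb⟩)
  intro h0
  have hout : ∀ v ∈ V, v ≠ 1 → ∃ h : G, h ≠ 1 ∧ Odd (orderOf h) ∧ v * h * v⁻¹ = h⁻¹ := by
    intro v hv hv1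
    haveI : Fact (Nat.Prime 2) := ⟨Nat.prime_two⟩
    refine Solv.exists_odd_inverted (orderOf_eq_prime (hexp v hv) hv1) fun hc => hv1 ?_
    exact Subgroup.mem_bot.1 (h0 ▸ Subgroup.mem_inf.2 ⟨hv, hc⟩)
  obtain ⟨a, ha, ha1⟩ := (Subgroup.ne_bot_iff_exists_ne_one.1 hV1).elim fun a ha =>
    (⟨a.1, a.2, fun e => ha (Subtype.ext e)⟩ : ∃ a, a ∈ V ∧ a ≠ 1)
  obtain ⟨h, hh, hho, hah⟩ := hout a ha ha1
  obtain ⟨w, hw, hw1, hwh⟩ := hS h a ha hho hah
  have hwh' : w * h * w⁻¹ = h := mul_inv_eq_iff_eq_mul.2 hwh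
  have haw : a ≠ w := fun e => hh (eq_one_of_inv_eq hho (by rw [← hah, e, hwh']))
  obtain ⟨k, hk, hko, hwk⟩ := hout w hw hw1
  obtain ⟨u, hu, hu1, huk⟩ := hS k w hw hko hwk
  have huk' : u * k * u⁻¹ = k := mul_inv_eq_iff_eq_mul.2 huk
  have huw : u ≠ w := fun e => hk (eq_one_of_inv_eq hko (by rw [← hwk, ← e, huk']))
  have hmem : ∀ x ∈ V, ∀ y ∈ V, x ≠ 1 → y ≠ 1 → x ≠ y → ∀ z ∈ V, z = 1 ∨ z = x ∨ z = y ∨ z = x * y := by
    intro x hx y hy hx1 hy1 hxy z hz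
    by_contra hne
    push Not at hne
    obtain ⟨h1, h2, h3, h4⟩ := hne
    have hxy1 : x * y ≠ 1 := fun e => hxy (by
      rw [eq_inv_of_mul_eq_one_left e, inv_eq_of_mul_eq_one_right (pow_two y ▸ hexp y hy)])
    have hinj : Function.Injective (![⟨1, V.one_mem⟩, ⟨x, hx⟩, ⟨y, hy⟩, ⟨x * y, V.mul_mem hx hy⟩, ⟨z, hz⟩] :
        Fin 5 → V) := by
      intro i j hij
      have := congrArg Subtype.val hij
      fin_cases i <;> fin_cases j <;>
        simp_all [eq_comm]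
    have := Nat.card_le_card_of_injective _ hinj
    rw [Nat.card_fin] at this
    omega
  refine two V hS hu hw (hmem u hu w hw hu1 hw1 huw) (hcomm u hu w hw) hh hho hk hko ?_ hwh' hwk huk'
  rcases hmem a ha w hw ha1 hw1 haw u hu with rfl | rfl | rfl | rfl
  · exact absurd rfl hu1
  · exact hah
  · exact absurd rfl huw
  · calc a * w * h * (a * w)⁻¹ = a * (w * h * w⁻¹) * a⁻¹ := by group
      _ = h⁻¹ := by rw [hwh', hah]

end Cfsg.Agent.S3011
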