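import Cfsg.Statements.S3014
import Cfsg.Agent.Lib.LocalEven.MaximalPair
-- import your own Cfsg.Agent.* helpers here

set_option autoImplicit false
open Cfsg

open Cfsg.Agent Cfsg.Agent.Fusion

namespace Cfsg.Agent.S3014

/-- Let G be a finite group and H ≤ M ≤ G subgroups such that for every g ∈ G the subgroup generated by H and g H g⁻¹ meets M exactly in H. If H is a maximal subgroup of M and M is a maximal subgroup of G, then the normal closure of H in G meets M exactly in H. -/
theorem result {G : Type*} [Group G] [Finite G] (H M : Subgroup G) (hHM : H ≤ M) (hcl : ∀ g : G, (H ⊔ H.map (MulAut.conj g).toMonoidHom) ⊓ M = H) (hmaxH : IsCoatom (H.subgroupOf M)) (hmaxM : IsCoatom M) : Subgroup.normalClosure (H : Set G) ⊓ M = H := by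
  haveI : Nonempty G := ⟨1⟩
  have hHn : (H.subgroupOf M).Normal := by
    rw [Subgroup.normal_subgroupOf_iff_le_normalizer hHM]
    intro g hg
    refine mem_normalizer_of_cj_le ?_
    refine le_trans ?_ (hcl g).le
    exact le_inf le_sup_right ((cj_mono hHM g).trans (cj_eq_self_of_mem hg).le)
  haveI := hHn
  have hr : (H.relIndex M).Prime := LocalEven.index_prime_of_normal_coatom _ hmaxH
  haveI := Fact.mk hr
  have hnc : H ≤ Subgroup.normalClosure (H : Set G) := fun x hx => Subgroup.subset_normalClosure hx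
  by_contra hgoal
  have hnorm : ∀ L : Subgroup G, L.Normal → H ≤ L → L ⊓ M ≤ H → False := fun L hL hHL hLM => by
    haveI := hL
    exact hgoal (le_antisymm ((inf_le_inf_right M (Subgroup.normalClosure_le_normal hHL)).trans hLM)
      (le_inf hnc hHM))
  have hNL : ∀ L : Subgroup G, H ≤ L → L ⊓ M ≤ H → M ≤ Subgroup.normalizer (L : Set G) →
      Subgroup.normalizer (L : Set G) = M := by
    intro L hHL hLM hle
    rcases eq_or_lt_of_le hle with h | h
    · exact h.symm
    · exact (hnorm L (Subgroup.normalizer_eq_top_iff.1 (hmaxM.2 _ h)) hHL hLM).elim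
  have hNH : Subgroup.normalizer (H : Set G) = M :=
    hNL H le_rfl inf_le_left ((Subgroup.normal_subgroupOf_iff_le_normalizer hHM).1 hHn)
  have key : ∀ g x : G, x ∈ M → g * x * g⁻¹ ∈ M → g * x * g⁻¹ ∉ H → g ∈ M := by
    intro g x hx hy hyH
    obtain ⟨y, hye⟩ : ∃ y, y = g * x * g⁻¹ := ⟨_, rfl⟩
    rw [← hye] at hy hyH
    set L := H ⊔ cj H g with hL
    have hM : M ≤ Subgroup.normalizer (L : Set G) := by
      rw [← LocalEven.sup_eq_of_prime_relIndex hHM hr (Subgroup.zpowers_le.2 hy) fun h => hyH (h (Subgroup.mem_zpowers y))]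
      refine sup_le ((le_sup_left : H ≤ L).trans Subgroup.le_normalizer) (Subgroup.zpowers_le.2 (mem_normalizer_of_cj_le ?_))
      rw [hL, cj_sup, cj_eq_self (hNH.ge hy), cj_cj, hye, inv_mul_cancel_right,
        ← cj_cj, cj_eq_self (hNH.ge hx)]
    have h1 : L ≤ M := Subgroup.le_normalizer.trans (hNL L le_sup_left (hcl g).le hM).le
    have h2 : L ≤ H := (le_inf le_rfl h1).trans (hcl g).le
    exact hNH.le (mem_normalizer_of_cj_le (le_sup_right.trans h2))
  obtain ⟨T, hT, hTH⟩ := LocalEven.exists_sylIn_not_le (r := H.relIndex M) hHM rfl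
  obtain ⟨t, htT, htH⟩ := SetLike.not_le_iff_exists.1 hTH
  have hTtop : SylIn (H.relIndex M) T ⊤ := LocalEven.sylIn_top_of_normalizer_le hT fun n hn => by
    have h : n⁻¹ * t * n ∈ T := by
      have := (Subgroup.mem_set_normalizer_iff.1 (inv_mem hn) t).1 htT
      simpa using this
    refine key n (n⁻¹ * t * n) (hT.le h) ?_ ?_ <;> rw [show n * (n⁻¹ * t * n) * n⁻¹ = t by group]
    · exact hT.le htT
    · exact htH
  have hfoc : T ⊓ commutator G ≤ H := by
    rw [inf_commutator_eq_focalIn_top hTtop]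
    refine (Subgroup.closure_le _).2 ?_
    rintro _ ⟨x, hx, g, -, hgx, rfl⟩
    by_cases hy : g * x * g⁻¹ ∈ H
    · by_cases hxH : x ∈ H
      · exact mul_mem (inv_mem hxH) hy
      · have hg : g⁻¹ ∈ M := key g⁻¹ (g * x * g⁻¹) (hT.le hgx) (by
          rw [show g⁻¹ * (g * x * g⁻¹) * g⁻¹⁻¹ = x by group]; exact hT.le hx) (by
          rw [show g⁻¹ * (g * x * g⁻¹) * g⁻¹⁻¹ = x by group]; exact hxH)
        exact LocalEven.comm_mem_of_prime_relIndex hHM hHn hr (hT.le hx) (inv_mem_iff.1 hg)
    · exact LocalEven.comm_mem_of_prime_relIndex hHM hHn hr (hT.le hx) (key g x (hT.le hx) (hT.le hgx) hy)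
  have hGM := LocalEven.commutator_inf_le hHM hHn rfl hT hfoc
  haveI hKn : (commutator G ⊔ H).Normal := Subgroup.Normal.of_commutator_le G le_sup_left
  refine hnorm _ hKn le_sup_right ?_
  rintro m ⟨hm, hmM⟩
  obtain ⟨c, hc, h, hh, rfl⟩ := Subgroup.mem_sup_of_normal_left.1 hm
  refine mul_mem (hGM ⟨hc, ?_⟩) hh
  have hmM' : c * h ∈ M := hmM
  have := mul_mem hmM' (inv_mem (hHM hh))
  simpa [mul_assoc] using this

end Cfsg.Agent.S3014
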