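import Cfsg.Statements.S3015
import Cfsg.Agent.Lib.LocalEven.MaximalPair
import Cfsg.Agent.Lib.Fusion.Alperin
-- import your own Cfsg.Agent.* helpers here

set_option autoImplicit false
open Cfsg

open Cfsg.Agent Cfsg.Agent.Fusion

namespace Cfsg.Agent.S3015

/-- Let G be a finite non-abelian simple group, M a maximal subgroup of G and H a normal subgroup of M of prime index in M. Then G is generated by H together with one of its conjugates. -/
theorem result {G : Type*} [Group G] [Finite G] [IsSimpleGroup G] (hG : ¬ IsMulCommutative G) (M H : Subgroup G) (hmaxM : IsCoatom M) (hHM : H ≤ M) (hHn : (H.subgroupOf M).Normal) (hidx : (H.relIndex M).Prime) : ∃ g : G, H ⊔ H.map (MulAut.conj g).toMonoidHom = ⊤ := by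
  by_contra hcon
  push Not at hcon
  haveI := hHn
  haveI := Fact.mk hidx
  have hMbot : M ≠ ⊥ := fun h => hidx.ne_one (by rw [h, Subgroup.relIndex_bot_right])
  have hcases : ∀ L : Subgroup G, M ≤ Subgroup.normalizer (L : Set G) →
      L = ⊥ ∨ L = ⊤ ∨ Subgroup.normalizer (L : Set G) = M := by
    intro L hle
    rcases eq_or_lt_of_le hle with h | h
    · exact Or.inr (Or.inr h.symm)
    · rcases (Subgroup.normalizer_eq_top_iff.1 (hmaxM.2 _ h)).eq_bot_or_eq_top with h' | h'
      · exact Or.inl h'
      · exact Or.inr (Or.inl h')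
  have hNM : Subgroup.normalizer (M : Set G) = M := by
    rcases hcases M Subgroup.le_normalizer with h | h | h
    · exact absurd h hMbot
    · exact absurd h hmaxM.1
    · exact h
  have hHN : M ≤ Subgroup.normalizer (H : Set G) := (Subgroup.normal_subgroupOf_iff_le_normalizer hHM).1 hHn
  have key : ∀ Q : Subgroup G, Q ≤ M → ¬ Q ≤ H → Subgroup.normalizer (Q : Set G) ≤ M := by
    intro Q hQM hQH n hn
    have hsup := LocalEven.sup_eq_of_prime_relIndex hHM hidx hQM hQH
    have hin : ∀ g ∈ Subgroup.normalizer (Q : Set G), cj H g ≤ M := by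
      intro g hg
      set L := H ⊔ cj H g with hL
      have hM : M ≤ Subgroup.normalizer (L : Set G) := by
        refine hsup.ge.trans (sup_le ((le_sup_left : H ≤ L).trans Subgroup.le_normalizer) fun x hx => ?_)
        have hx' : g⁻¹ * x * g ∈ M := hQM (by simpa using (Subgroup.mem_set_normalizer_iff.1 (inv_mem hg) x).1 hx)
        refine mem_normalizer_of_cj_le ?_
        rw [hL, cj_sup, cj_eq_self (hHN (hQM hx)), cj_cj, show x * g = g * (g⁻¹ * x * g) by group,
          ← cj_cj, cj_eq_self (hHN hx')]
      rcases hcases L hM with h | h | h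
      · exact le_sup_right.trans (h.le.trans bot_le)
      · exact absurd h (hcon g)
      · exact le_sup_right.trans (Subgroup.le_normalizer.trans h.le)
    refine hNM.le (mem_normalizer_of_cj_le ?_)
    rw [← hsup, cj_sup]
    exact sup_le ((hin n hn).trans hsup.ge) ((cj_eq_self hn).le.trans le_sup_right)
  obtain ⟨T, hT, hTH⟩ := LocalEven.exists_sylIn_not_le (r := H.relIndex M) hHM rfl
  have hTtop : SylIn (H.relIndex M) T ⊤ := LocalEven.sylIn_top_of_normalizer_le hT (key T hT.le hTH)
  have hfoc : T ⊓ commutator G ≤ H := by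
    rw [inf_commutator_eq_focalIn_top hTtop]
    have hstep : ∀ (A : Set G) (g : G), Chain (TameStep (H.relIndex M) T) A g →
        ∀ a ∈ A, a ∈ T → a⁻¹ * (g⁻¹ * a * g) ∈ H := by
      intro A g h
      induction h with
      | nil A => intro a _ _; simp
      | @cons A g U x hx hAU _ ih =>
        intro a ha haT
        obtain ⟨Q, -, hU, hxN, -⟩ := hx
        have haU : a ∈ U := hAU ha
        have hxU : x⁻¹ * a * x ∈ U := by
          simpa using (Subgroup.mem_set_normalizer_iff.1 (inv_mem hxN) a).1 haU
        have hUT : U ≤ T := hU ▸ inf_le_left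
        have h1 : a⁻¹ * (x⁻¹ * a * x) ∈ H := by
          by_cases hUH : U ≤ H
          · exact mul_mem (inv_mem (hUH haU)) (hUH hxU)
          · have := LocalEven.comm_mem_of_prime_relIndex hHM hHn hidx (hT.le haT)
              (inv_mem (key U (hUT.trans hT.le) hUH hxN))
            simpa using this
        have h2 := ih (x⁻¹ * a * x) ⟨a, ha, rfl⟩ (hUT hxU)
        have := mul_mem h1 h2
        simpa [mul_assoc] using this
    refine (Subgroup.closure_le _).2 ?_
    rintro _ ⟨x, hx, g, -, hgx, rfl⟩
    have hc : Chain (TameStep (H.relIndex M) T) ({x} : Set G) g⁻¹ :=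
      alperin hTtop (by simpa using hx) (by simpa [rcj] using hgx)
    simpa using hstep _ _ hc x rfl hx
  have htop : commutator G = ⊤ := by
    rcases (inferInstance : (commutator G).Normal).eq_bot_or_eq_top with h | h
    · refine absurd ⟨⟨fun a b => ?_⟩⟩ hG
      have := Subgroup.commutator_mem_commutator (Subgroup.mem_top a) (Subgroup.mem_top b)
      rw [← commutator_def, h, Subgroup.mem_bot] at this
      exact commutatorElement_eq_one_iff_mul_comm.1 this
    · exact h
  rw [htop, inf_top_eq] at hfoc
  exact hTH hfoc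

end Cfsg.Agent.S3015
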