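import Cfsg.Statements.S3020
import Cfsg.Agent.Lib.LocalEven.Isolated
import Cfsg.Agent.Lib.Fusion.NPC
-- import your own Cfsg.Agent.* helpers here

set_option autoImplicit false
open Cfsg

open Cfsg.Agent Cfsg.Agent.Fusion
open scoped commutatorElement

namespace Cfsg.Agent.S3020

/-- Let G be a finite group, p a prime and H an abelian p-subgroup of G that is extremely closed (for every g, the subgroup generated by H and g H g⁻¹ meets N_G(H) exactly in H). Then for every g ∈ G, the subgroup T generated by H and g H g⁻¹ is the product of H with O_{p'}(T), and H meets O_{p'}(T) trivially; that is, O_{p'}(T) is a normal p-complement of H in T. -/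
theorem result {G : Type*} [Group G] [Finite G] {p : ℕ} [Fact p.Prime] (H : Subgroup G) (hHp : IsPGroup p H) (hHab : IsMulCommutative H) (hcl : Cfsg.IsExtremelyClosed H) (g : G) (T : Subgroup G) (hT : T = H ⊔ H.map (MulAut.conj g).toMonoidHom) : H ⊔ (Cfsg.pPrimeCore p ↥T).map T.subtype = T ∧ H ⊓ (Cfsg.pPrimeCore p ↥T).map T.subtype = ⊥ := by
  subst hT
  set T := H ⊔ H.map (MulAut.conj g).toMonoidHom with hTdef
  have hHT : H ≤ T := le_sup_left
  have hN : T ⊓ Subgroup.normalizer (H : Set G) = H := hcl g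
  set H' := H.subgroupOf T with hH'
  have hH'p : IsPGroup p H' := hHp.comap_subtype
  obtain ⟨P, hP⟩ := hH'p.exists_le_sylow
  have hPH : (P : Subgroup ↥T) = H' := by
    by_contra hne
    have hlt := SylIn.normalizer_growth hP (Ne.symm hne) P.isPGroup'
    obtain ⟨t, ht, htH⟩ := SetLike.exists_of_lt hlt
    refine htH (hN.le ⟨t.2, mem_normalizer_of_cj_le ?_⟩)
    rintro _ ⟨h, hh, rfl⟩
    exact (Subgroup.mem_set_normalizer_iff.1 ht.2 ⟨h, hHT hh⟩).1 hh
  have hB : Subgroup.normalizer ((P : Subgroup ↥T) : Set ↥T) ≤ Subgroup.centralizer ((P : Subgroup ↥T) : Set ↥T) := by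
    intro t ht
    rw [hPH] at ht ⊢
    have htH : (t : G) ∈ H := by
      refine hN.le ⟨t.2, mem_normalizer_of_cj_le ?_⟩
      rintro _ ⟨h, hh, rfl⟩
      exact (Subgroup.mem_set_normalizer_iff.1 ht ⟨h, hHT hh⟩).1 hh
    exact Subgroup.mem_centralizer_iff.2 fun h hh =>
      Subtype.ext (congrArg (fun w : ↥H => (w : G)) (hHab.1.1 ⟨h, hh⟩ ⟨t, htH⟩) :)
  have hnpc := hnpc_of_normalizer_le_centralizer P hB
  have hle : Cfsg.pResidual p ↥T ≤ Cfsg.pPrimeCore p ↥T := hnpc_pResidual_le_pPrimeCore hnpc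
  refine ⟨le_antisymm (sup_le hHT (Subgroup.map_subtype_le _)) fun t ht => ?_, ?_⟩
  · have h1 : (⟨t, ht⟩ : ↥T) ∈ H' ⊔ Cfsg.pPrimeCore p ↥T := by
      have h2 := (pResidual_sup_sylow P).ge (Subgroup.mem_top (⟨t, ht⟩ : ↥T))
      rw [hPH, sup_comm] at h2
      exact sup_le_sup_left hle _ h2
    have h2 := Subgroup.mem_map_of_mem T.subtype h1
    rw [Subgroup.map_sup, hH', Subgroup.map_subgroupOf_eq_of_le hHT] at h2
    exact h2
  · rw [inf_comm]
    exact coprime_inf_pGroup (by
      rw [Subgroup.card_map_of_injective T.subtype_injective]; exact card_pPrimeCore_coprime p ↥T) hHp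

end Cfsg.Agent.S3020
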