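import Cfsg.Statements.S3021
import Cfsg.Agent.Lib.LocalEven.Isolated
-- import your own Cfsg.Agent.* helpers here

set_option autoImplicit false
open Cfsg

open Cfsg.Agent Cfsg.Agent.Fusion
open scoped commutatorElement

namespace Cfsg.Agent.S3021

/-- Let G be a finite group, p a prime and H a p-subgroup of G that is extremely closed (for every g, the subgroup generated by H and g H g⁻¹ meets N_G(H) exactly in H). Then every p-subgroup Q of G containing H has N_G(Q) ≤ N_G(H); in particular every Sylow p-subgroup P of G containing H normalizes H, and H is strongly closed in P with respect to G. -/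
theorem result {G : Type*} [Group G] [Finite G] {p : ℕ} [Fact p.Prime] (H : Subgroup G) (hHp : IsPGroup p H) (hcl : Cfsg.IsExtremelyClosed H) : (∀ Q : Subgroup G, IsPGroup p Q → H ≤ Q → Subgroup.normalizer (Q : Set G) ≤ Subgroup.normalizer (H : Set G)) ∧ ∀ P : Sylow p G, H ≤ (P : Subgroup G) → (P : Subgroup G) ≤ Subgroup.normalizer (H : Set G) ∧ Cfsg.IsStronglyClosed H (P : Subgroup G) := by
  have hQN : ∀ Q : Subgroup G, IsPGroup p Q → H ≤ Q → Q ≤ Subgroup.normalizer (H : Set G) := by
    intro Q hQ hHQ
    by_contra hle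
    set N := Q ⊓ Subgroup.normalizer (H : Set G) with hN
    have hlt : N < Q ⊓ Subgroup.normalizer (N : Set G) :=
      SylIn.normalizer_growth inf_le_left (fun h => hle (inf_eq_left.1 h)) hQ
    obtain ⟨t, ht, htN⟩ := SetLike.exists_of_lt hlt
    have hHN : H ≤ N := le_inf hHQ Subgroup.le_normalizer
    have h1 : cj H t ≤ Subgroup.normalizer (H : Set G) :=
      (cj_mono hHN t).trans ((cj_eq_self ht.2).le.trans inf_le_right)
    exact htN ⟨ht.1, mem_normalizer_of_cj_le ((le_inf le_sup_right h1).trans (hcl t).le)⟩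
  refine ⟨fun Q hQ hHQ n hn => mem_normalizer_of_cj_le ?_,
    fun P hHP => ⟨hQN _ P.isPGroup' hHP, hHP, fun x hx g hg => ?_⟩⟩
  · exact (le_inf le_sup_right (((cj_mono hHQ n).trans (cj_eq_self hn).le).trans (hQN Q hQ hHQ))).trans (hcl n).le
  · exact (hcl g).le ⟨Subgroup.mem_sup_right (Subgroup.mem_map_of_mem (MulAut.conj g).toMonoidHom hx),
      hQN _ P.isPGroup' hHP hg⟩

end Cfsg.Agent.S3021
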