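import Cfsg.Statements.S3025
import Cfsg.Agent.Lib.Solv.UniqueSub
import Cfsg.Agent.Lib.Fusion.Basic

set_option autoImplicit false
open Cfsg
open Cfsg.Agent Cfsg.Agent.Fusion
open scoped commutatorElement

namespace Cfsg.Agent.S3025

/-- Let F be a finite group and H a nontrivial subgroup of F that is contained in every nontrivial subgroup of F which H normalizes. Then F has a nontrivial normal subgroup N contained in every nontrivial normal subgroup of F (a unique minimal normal subgroup), N is simple, and one of the following holds: C_F(N) = 1; or H = N has prime order p, C_F(N) is cyclic of order a power of p, and F/C_F(N) is cyclic of order dividing p − 1; or H = N has order 2, N is central in F, and F is a generalized quaternion group. -/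
theorem result {F : Type*} [Group F] [Finite F] (H : Subgroup F) (hH : H ≠ ⊥)
    (hmin : ∀ R : Subgroup F, R ≠ ⊥ → H ≤ Subgroup.normalizer (R : Set F) → H ≤ R) :
    ∃ N : Subgroup F, N.Normal ∧ N ≠ ⊥ ∧ (∀ M : Subgroup F, M.Normal → M ≠ ⊥ → N ≤ M) ∧ IsSimpleGroup ↥N ∧
      (Subgroup.centralizer (N : Set F) = ⊥ ∨
       (H = N ∧ (Nat.card N).Prime ∧ IsCyclic ↥(Subgroup.centralizer (N : Set F)) ∧
          (∃ k : ℕ, 1 ≤ k ∧ Nat.card ↥(Subgroup.centralizer (N : Set F)) = Nat.card N ^ k) ∧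
          (∃ g : F, Subgroup.centralizer (N : Set F) ⊔ Subgroup.zpowers g = ⊤) ∧
          (Subgroup.centralizer (N : Set F)).index ∣ Nat.card N - 1) ∨
       (H = N ∧ Nat.card N = 2 ∧ Subgroup.centralizer (N : Set F) = ⊤ ∧
          ∃ k : ℕ, 1 ≤ k ∧ Nonempty (F ≃* QuaternionGroup (2 ^ k)))) := by
  classical
  have hHle : ∀ M : Subgroup F, M.Normal → M ≠ ⊥ → H ≤ M := fun M hM hM0 =>
    hmin M hM0 (by rw [@Subgroup.normalizer_eq_top F _ M hM]; exact le_top)
  obtain ⟨N, hN⟩ : ∃ N, N = sInf {M : Subgroup F | M.Normal ∧ M ≠ ⊥} := ⟨_, rfl⟩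
  have hNle : ∀ M : Subgroup F, M.Normal → M ≠ ⊥ → N ≤ M := fun M h1 h2 => hN ▸ sInf_le ⟨h1, h2⟩
  have hHN : H ≤ N := hN ▸ le_sInf fun M hM => hHle M hM.1 hM.2
  have hN0 : N ≠ ⊥ := fun h => hH (eq_bot_iff.2 (h ▸ hHN))
  haveI hNn : N.Normal := by
    refine ⟨fun a ha g => ?_⟩
    rw [hN, Subgroup.mem_sInf] at ha ⊢
    exact fun M hM => hM.1.conj_mem a (ha M hM) g
  haveI : Nontrivial N := (Subgroup.nontrivial_iff_ne_bot N).2 hN0
  have hsimple : IsSimpleGroup ↥N := by
    obtain ⟨N₁, hN₁⟩ : ∃ N₁, N₁ = sInf {M : Subgroup N | M.Normal ∧ M ≠ ⊥} := ⟨_, rfl⟩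
    have hHN₁ : H.subgroupOf N ≤ N₁ := hN₁ ▸ le_sInf fun M hM h hh => by
      have h1 : H ≤ M.map N.subtype := hmin _ (by
          rw [Ne, Subgroup.map_eq_bot_iff_of_injective _ N.subtype_injective]; exact hM.2) (by
          intro a ha
          refine mem_normalizer_of_cj_le ?_
          rintro _ ⟨_, ⟨b, hb, rfl⟩, rfl⟩
          exact ⟨_, hM.1.conj_mem b hb ⟨a, hHN ha⟩, rfl⟩)
      obtain ⟨b, hb, hbh⟩ := h1 (Subgroup.mem_subgroupOf.1 hh)
      exact (N.subtype_injective hbh) ▸ hb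
    have hinv : ∀ g : F, ∀ a ∈ N₁, MulAut.conjNormal g a ∈ N₁ := by
      intro g a ha
      rw [hN₁, Subgroup.mem_sInf] at ha ⊢
      intro M hM
      refine ha (M.comap (MulAut.conjNormal g : MulAut N).toMonoidHom) ⟨hM.1.comap _, fun h => hM.2 ?_⟩
      rw [← Subgroup.map_comap_eq_self_of_surjective
        (f := (MulAut.conjNormal g : MulAut N).toMonoidHom) (MulEquiv.surjective _) M, h, Subgroup.map_bot]
    have hn : (N₁.map N.subtype).Normal := by
      refine ⟨?_⟩
      rintro _ ⟨a, ha, rfl⟩ g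
      exact ⟨_, hinv g a ha, MulAut.conjNormal_apply g a⟩
    have hne : N₁.map N.subtype ≠ ⊥ := by
      rw [Ne, Subgroup.map_eq_bot_iff_of_injective _ N.subtype_injective]
      intro h
      rw [h, le_bot_iff, Subgroup.subgroupOf_eq_bot, disjoint_iff, inf_eq_left.2 hHN] at hHN₁
      exact hH hHN₁
    refine IsSimpleGroup.mk fun M hM => or_iff_not_imp_left.2 fun hM0 => top_le_iff.1 fun a _ => ?_
    obtain ⟨b, hb, hba⟩ := hNle _ hn hne a.2
    rw [N.subtype_injective hba, SetLike.mem_coe] at hb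
    rw [hN₁, Subgroup.mem_sInf] at hb
    exact hb M ⟨hM, hM0⟩
  refine ⟨N, hNn, hN0, hNle, hsimple, ?_⟩
  set C := Subgroup.centralizer (N : Set F) with hC
  rcases eq_or_ne C ⊥ with h | hC0
  · exact Or.inl h
  right
  have hNC : N ≤ C := hNle C inferInstance hC0
  haveI := hsimple
  letI : CommGroup ↥N :=
    { (inferInstance : Group ↥N) with
      mul_comm := fun a b => Subtype.ext (Subgroup.mem_centralizer_iff.1 (hNC b.2) a a.2) }
  have hp : (Nat.card N).Prime := IsSimpleGroup.prime_card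
  haveI := Fact.mk hp
  have hHeq : H = N := by
    refine Subgroup.eq_of_le_of_card_ge hHN (le_of_eq ?_)
    rcases hp.eq_one_or_self_of_dvd _ (Subgroup.card_dvd_of_le hHN) with h | h
    · exact absurd (Subgroup.eq_bot_of_card_eq _ h) hH
    · exact h.symm
  have huniq : ∀ c ∈ C, (orderOf c).Prime → Subgroup.zpowers c = N := by
    intro c hc hco
    have hle : N ≤ Subgroup.zpowers c := by
      rw [← hHeq]
      refine hmin _ (fun h => ?_) ?_
      · rw [Subgroup.zpowers_eq_bot] at h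
        rw [h, orderOf_one] at hco
        exact Nat.not_prime_one hco
      · intro a ha
        refine mem_normalizer_of_cj_le ?_
        show (Subgroup.zpowers c).map _ ≤ _
        rw [MonoidHom.map_zpowers, MulEquiv.coe_toMonoidHom, MulAut.conj_apply,
          Subgroup.mem_centralizer_iff.1 hc a (hHN ha), mul_inv_cancel_right]
    rcases hco.eq_one_or_self_of_dvd _ (Nat.card_zpowers c ▸ Subgroup.card_dvd_of_le hle) with h | h
    · exact absurd h hp.ne_one
    · exact (Subgroup.eq_of_le_of_card_ge hle (by rw [h, Nat.card_zpowers])).symm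
  have hCp : IsPGroup (Nat.card N) C := by
    refine IsPGroup.of_card (n := (Nat.card C).primeFactorsList.length)
      (Nat.eq_prime_pow_of_unique_prime_dvd Nat.card_pos.ne' fun {q} hq hqd => ?_)
    haveI := Fact.mk hq
    obtain ⟨c, hc⟩ := exists_prime_orderOf_dvd_card' (G := C) q hqd
    have h := huniq c c.2 (by rw [Subgroup.orderOf_coe, hc]; exact hq)
    rw [← h, Nat.card_zpowers, Subgroup.orderOf_coe, hc]
  have hu : Solv.UniqueOrderP (Nat.card N) C := by
    intro a b ha hb hb1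
    have key : ∀ d : C, d ^ Nat.card N = 1 → d ≠ 1 → Subgroup.zpowers (d : F) = N := fun d hd hd1 =>
      huniq d d.2 (by rw [Subgroup.orderOf_coe, orderOf_eq_prime hd hd1]; exact hp)
    rcases eq_or_ne a 1 with rfl | ha1
    · exact one_mem _
    have h : (a : F) ∈ Subgroup.zpowers (b : F) := by
      rw [key b hb hb1, ← key a ha ha1]; exact Subgroup.mem_zpowers _
    obtain ⟨i, hi⟩ := h
    exact ⟨i, Subtype.ext (by simpa using hi)⟩
  have hker : (MulAut.conjNormal : F →* MulAut N).ker = C := by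
    ext g
    rw [MonoidHom.mem_ker, Subgroup.mem_centralizer_iff]
    constructor
    · intro h a ha
      have h1 := congrArg Subtype.val (DFunLike.congr_fun h (⟨a, ha⟩ : N))
      rw [MulAut.conjNormal_apply] at h1
      exact (mul_inv_eq_iff_eq_mul.1 h1).symm
    · intro h
      ext a
      rw [MulAut.conjNormal_apply, MulAut.one_apply, ← h a a.2, mul_inv_cancel_right]
  have hidx : C.index ∣ Nat.card N - 1 := by
    rw [← hker, Subgroup.index_ker]
    refine (Subgroup.card_subgroup_dvd_card _).trans (dvd_of_eq ?_)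
    rw [Nat.card_congr (IsCyclic.mulAutMulEquiv ↥N).toEquiv, Nat.card_eq_fintype_card,
      ZMod.card_units_eq_totient, Nat.totient_prime hp]
  have hk1 : ∀ k, Nat.card C = Nat.card N ^ k → 1 ≤ k := by
    intro k hk
    rcases k with _ | k
    · rw [pow_zero, Subgroup.card_eq_one] at hk
      exact absurd hk hC0
    · omega
  have hsecond : IsCyclic C → H = N ∧ (Nat.card N).Prime ∧ IsCyclic C ∧
      (∃ k : ℕ, 1 ≤ k ∧ Nat.card C = Nat.card N ^ k) ∧
      (∃ g : F, C ⊔ Subgroup.zpowers g = ⊤) ∧ C.index ∣ Nat.card N - 1 := by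
    intro hcyc
    obtain ⟨k, hk⟩ := IsPGroup.iff_card.1 hCp
    refine ⟨hHeq, hp, hcyc, ⟨k, hk1 k hk, hk⟩, ?_, hidx⟩
    haveI : IsCyclic (MulAut N) := isCyclic_of_surjective (IsCyclic.mulAutMulEquiv ↥N).symm
      (IsCyclic.mulAutMulEquiv ↥N).symm.surjective
    obtain ⟨⟨_, g, rfl⟩, hg⟩ :=
      IsCyclic.exists_generator (α := ↥(MulAut.conjNormal : F →* MulAut N).range)
    refine ⟨g, top_le_iff.1 fun f _ => ?_⟩
    obtain ⟨i, hi⟩ := hg ⟨_, f, rfl⟩
    have h1 : f * (g ^ i)⁻¹ ∈ C := by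
      rw [← hker, MonoidHom.mem_ker, map_mul, map_inv, map_zpow, mul_inv_eq_one]
      have := congrArg Subtype.val hi
      simpa using this.symm
    rw [← inv_mul_cancel_right f (g ^ i)]
    exact mul_mem (Subgroup.mem_sup_left h1) (Subgroup.mem_sup_right ⟨i, rfl⟩)
  rcases Solv.cyclic_or_quaternion hCp hu with hcyc | ⟨h2, n, ⟨e⟩⟩
  · exact Or.inl (hsecond hcyc)
  by_cases hcyc : IsCyclic C
  · exact Or.inl (hsecond hcyc)
  right
  have hCtop : C = ⊤ := Subgroup.index_eq_one.1 (Nat.eq_one_of_dvd_one (by rwa [h2] at hidx))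
  refine ⟨hHeq, h2, hCtop, n, Nat.one_le_iff_ne_zero.2 ?_,
    ⟨(Subgroup.topEquiv.symm.trans (MulEquiv.subgroupCongr hCtop.symm)).trans e⟩⟩
  rintro rfl
  rw [pow_zero] at e
  haveI := QuaternionGroup.quaternionGroup_one_isCyclic
  exact hcyc (isCyclic_of_surjective e.symm e.symm.surjective)

end Cfsg.Agent.S3025
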