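import Cfsg.Statements.S3027
import Cfsg.Agent.Lib.Fusion.Basic
-- import your own Cfsg.Agent.* helpers here

set_option autoImplicit false
open Cfsg

open Cfsg.Agent Cfsg.Agent.Fusion
open scoped commutatorElement

namespace Cfsg.Agent.S3027

/-- Let G be a finite group and D a normal subgroup of G such that G/D is perfect (that is, G = G′D). Then among the subnormal subgroups B of G with BD = G there is a least one, and it is normal in G. -/
theorem result {G : Type*} [Group G] [Finite G] (D : Subgroup G) [D.Normal] (hperf : ⁅(⊤ : Subgroup G), (⊤ : Subgroup G)⁆ ⊔ D = ⊤) :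
    ∃ B : Subgroup G, B.Normal ∧ B ⊔ D = ⊤ ∧ ∀ B' : Subgroup G, B'.IsSubnormal → B' ⊔ D = ⊤ → B ≤ B' := by
  classical
  have hmem : ∀ X Y : Subgroup G, X ⊔ D = ⊤ → Y ⊔ D = ⊤ → ⁅X, Y⁆ ⊔ D = ⊤ := by
    intro X Y hX hY
    have hm : ∀ Z : Subgroup G, Z ⊔ D = ⊤ ↔ Z.map (QuotientGroup.mk' D) = ⊤ := by
      intro Z
      constructor
      · intro h
        have := congrArg (Subgroup.map (QuotientGroup.mk' D)) h
        rwa [Subgroup.map_sup, QuotientGroup.map_mk'_self, sup_bot_eq,
          Subgroup.map_top_of_surjective _ (QuotientGroup.mk'_surjective D)] at this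
      · intro h
        have := congrArg (Subgroup.comap (QuotientGroup.mk' D)) h
        rwa [Subgroup.comap_map_eq, QuotientGroup.ker_mk', Subgroup.comap_top] at this
    rw [hm] at hX hY ⊢
    have htop := (hm ⊤).1 (top_sup_eq D)
    rw [Subgroup.map_commutator, hX, hY]
    have := (hm _).1 hperf
    rwa [Subgroup.map_commutator, htop] at this
  obtain ⟨B, -, hB⟩ := Finite.exists_le_minimal (p := fun B : Subgroup G => B.Normal ∧ B ⊔ D = ⊤)
    (a := ⊤) ⟨inferInstance, top_sup_eq D⟩
  obtain ⟨hBn, hBD⟩ := hB.1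
  haveI := hBn
  refine ⟨B, hBn, hBD, fun B' hB' => ?_⟩
  induction hB' with
  | top => exact fun _ => le_top
  | step H K hHK _ hn ih =>
    intro hHD
    have hBK : B ≤ K := ih (top_le_iff.1 (hHD.symm.le.trans (sup_le_sup_right hHK D)))
    have hKH : K ≤ Subgroup.normalizer (H : Set G) := (Subgroup.normal_subgroupOf_iff_le_normalizer hHK).1 hn
    have hBB : ∀ g : G, g ∈ Subgroup.normalizer (B : Set G) := fun g => by
      rw [Subgroup.normalizer_eq_top]; trivial
    -- normal subgroups of B covering G modulo D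
    set F : Set (Subgroup G) := {X | X ≤ B ∧ B ≤ Subgroup.normalizer (X : Set G) ∧ X ⊔ D = ⊤}
    have hX : H ⊓ B ∈ F := by
      refine ⟨inf_le_right, fun b hb => mem_normalizer_of_cj_le (by
        rw [cj_inf, cj_eq_self (hKH (hBK hb)), cj_eq_self (hBB b)]), top_le_iff.1 ?_⟩
      rw [← hmem H B hHD hBD]
      refine sup_le_sup_right (le_inf ?_ ?_) D
      · rw [Subgroup.commutator_le]
        intro h hh b hb
        rw [commutatorElement_def, show h * b * h⁻¹ * b⁻¹ = h * (b * h⁻¹ * b⁻¹) by group]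
        exact mul_mem hh ((Subgroup.mem_set_normalizer_iff.1 (hKH (hBK hb)) _).1 (inv_mem hh))
      · exact Subgroup.commutator_le_right H B
    obtain ⟨X, hXle, hXmin⟩ := Finite.exists_le_minimal (p := fun X => X ∈ F) (a := H ⊓ B) hX
    have hle : ∀ Y ∈ F, X ≤ Y := fun Y hY => by
      have hXY : X ⊓ Y ∈ F := by
        refine ⟨inf_le_left.trans hXmin.1.1, fun b hb => mem_normalizer_of_cj_le (by
          rw [cj_inf, cj_eq_self (hXmin.1.2.1 hb), cj_eq_self (hY.2.1 hb)]), top_le_iff.1 ?_⟩
        rw [← hmem X Y hXmin.1.2.2 hY.2.2]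
        refine sup_le_sup_right (le_inf ?_ ?_) D
        · rw [Subgroup.commutator_le]
          intro x hx y hy
          rw [commutatorElement_def, show x * y * x⁻¹ * y⁻¹ = x * (y * x⁻¹ * y⁻¹) by group]
          exact mul_mem hx ((Subgroup.mem_set_normalizer_iff.1 (hXmin.1.2.1 (hY.1 hy)) _).1 (inv_mem hx))
        · rw [Subgroup.commutator_le]
          intro x hx y hy
          rw [commutatorElement_def]
          exact mul_mem ((Subgroup.mem_set_normalizer_iff.1 (hY.2.1 (hXmin.1.1 hx)) _).1 hy) (inv_mem hy)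
      exact (hXmin.2 hXY inf_le_left).trans inf_le_right
    have hXn : X.Normal := normal_iff_cj.2 fun g => Subgroup.eq_of_le_of_card_ge
      (le_of_eq_of_le rfl (by
        have hF : cj X g⁻¹ ∈ F := by
          refine ⟨(cj_mono hXmin.1.1 _).trans (cj_of_normal B g⁻¹).le, ?_, ?_⟩
          · rw [← cj_normalizer]
            exact (cj_of_normal B g⁻¹).symm.le.trans (cj_mono hXmin.1.2.1 _)
          · rw [← cj_of_normal D g⁻¹, ← cj_sup, hXmin.1.2.2]; exact cj_of_normal ⊤ g⁻¹
        exact cj_le_iff.2 (hle _ hF))) (card_cj X g).ge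
    exact (hB.2 ⟨hXn, hXmin.1.2.2⟩ hXmin.1.1).trans (hXle.trans inf_le_left)

end Cfsg.Agent.S3027
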