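import Cfsg.Statements.S3028
import Cfsg.Agent.Lib.LocalEven.SubnormalJoin

set_option autoImplicit false
open Cfsg

namespace Cfsg.Agent.S3028

theorem result {G : Type*} [Group G] [Finite G] {p : ℕ} [Fact p.Prime] (S : Sylow p G) (A₁ A₂ : Subgroup G)
    (h₁ : A₁.IsSubnormal) (h₂ : A₂.IsSubnormal) :
    (A₁ ⊔ A₂) ⊓ (S : Subgroup G) = (A₁ ⊓ (S : Subgroup G)) ⊔ (A₂ ⊓ (S : Subgroup G)) := by
  exact Cfsg.Agent.LocalEven.SnJoin.sup_inf_sylow S h₁ h₂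

end Cfsg.Agent.S3028
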