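import Cfsg.Statements.S3031
import Cfsg.Agent.Lib.Lead.ClosedOrderD
-- import your own Cfsg.Agent.* helpers here

set_option autoImplicit false
open Cfsg

namespace Cfsg.Agent.S3031

/-- Let G be a finite group, p the smallest prime dividing |G| and P a Sylow p-subgroup. Suppose that P is cyclic, or that P has a subgroup D with 1 < |D| < |P| such that every subgroup E of P of order |D|, and also every subgroup E of P of order 4 when |D| = 2, satisfies g E g⁻¹ ∩ N_G(E) ≤ E for all g ∈ G (E is strongly closed in its normalizer with respect to G). Then G has a normal p-complement. -/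
theorem result {G : Type*} [Group G] [Finite G] {p : ℕ} [Fact p.Prime] (hdiv : p ∣ Nat.card G)
    (hmin : ∀ q : ℕ, q.Prime → q ∣ Nat.card G → p ≤ q) (P : Sylow p G)
    (h : IsCyclic ↥(P : Subgroup G) ∨ ∃ D : Subgroup G, D ≤ (P : Subgroup G) ∧ 1 < Nat.card D ∧ Nat.card D < Nat.card (P : Subgroup G) ∧
      ∀ E : Subgroup G, E ≤ (P : Subgroup G) → (Nat.card E = Nat.card D ∨ (Nat.card D = 2 ∧ Nat.card E = 4)) →
        ∀ g : G, E.map (MulAut.conj g).toMonoidHom ⊓ Subgroup.normalizer (E : Set G) ≤ E) :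
    Cfsg.HasNormalPComplement p G := by
  have hS := Cfsg.Agent.Fusion.sylIn_top P
  have hq : (Nat.card G).Coprime (p - 1) := Nat.coprime_of_dvd fun q hq h1 h2 => by
    have := hmin q hq h1
    have h3 := (Fact.out : p.Prime).one_lt
    have := Nat.le_of_dvd (by omega) h2
    omega
  rcases h with hc | ⟨D, hDP, hD1, hD2, hcl⟩
  · exact Cfsg.Agent.Lead.ClosedOrderD.hnpc_cyclic hS hq
  obtain ⟨k, hk⟩ := IsPGroup.iff_card.1 (P.isPGroup'.to_le hDP)
  refine Cfsg.Agent.Lead.ClosedOrderD.hnpc hS hq P rfl ⟨k, hk⟩ hD1 hD2 ?_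
  intro E hE hEc x hx g hgx
  have hPN : (P : Subgroup G) ≤ Subgroup.normalizer (E : Set G) := by
    by_contra hne
    set V := (P : Subgroup G) ⊓ Subgroup.normalizer (E : Set G) with hV
    have hlt := Cfsg.Agent.Fusion.SylIn.normalizer_growth (p := p) (inf_le_left : V ≤ P)
      (fun h => hne (inf_eq_left.1 h)) P.isPGroup'
    obtain ⟨w, hw, hwV⟩ := SetLike.exists_of_lt hlt
    refine hwV ⟨hw.1, Cfsg.Agent.Fusion.mem_normalizer_of_cj_le ?_⟩
    rintro _ ⟨y, hy, rfl⟩
    refine hcl E hE hEc w ⟨⟨y, hy, rfl⟩, ?_⟩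
    exact ((Subgroup.mem_normalizer_iff.1 hw.2 y).1 ⟨hE hy, Subgroup.le_normalizer hy⟩).2
  exact hcl E hE hEc g ⟨⟨x, hx, rfl⟩, hPN hgx⟩

end Cfsg.Agent.S3031
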