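import Cfsg.Statements.S3032
import Cfsg.Agent.Lib.Lead.ClosedOrderDSuper
-- import your own Cfsg.Agent.* helpers here

set_option autoImplicit false
open Cfsg

namespace Cfsg.Agent.S3032

/-- Let G be a finite group and E a normal subgroup with G/E supersolvable. Suppose that for every prime p and every non-cyclic Sylow p-subgroup P of E there is a subgroup D of P with 1 < |D| < |P| such that every subgroup F of P of order |D|, and also every subgroup F of P of order 4 when |D| = 2, satisfies g F g⁻¹ ∩ N_G(F) ≤ F for all g ∈ G. Then G is supersolvable. -/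
theorem result {G : Type*} [Group G] [Finite G] (E : Subgroup G) [E.Normal] (hGE : Cfsg.IsSupersolvable (G ⧸ E))
    (h : ∀ (p : ℕ), p.Prime → ∀ P : Subgroup G, P ≤ E → IsPGroup p P → ¬ p ∣ P.relIndex E → ¬ IsCyclic ↥P →
      ∃ D : Subgroup G, D ≤ P ∧ 1 < Nat.card D ∧ Nat.card D < Nat.card P ∧
        ∀ F : Subgroup G, F ≤ P → (Nat.card F = Nat.card D ∨ (Nat.card D = 2 ∧ Nat.card F = 4)) →
          ∀ g : G, F.map (MulAut.conj g).toMonoidHom ⊓ Subgroup.normalizer (F : Set G) ≤ F) :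
    Cfsg.IsSupersolvable G := by
  refine Cfsg.Agent.Lead.ClosedOrderD.isSupersolvable_of_goodIn _ G E rfl ?_ hGE
  intro p hp P hP hcy
  haveI := Fact.mk hp
  obtain ⟨D, hDP, hD1, hD2, hcl⟩ := h p hp P hP.le hP.isPGroup hP.not_dvd hcy
  obtain ⟨k, hk⟩ := IsPGroup.iff_card.1 (hP.isPGroup.to_le hDP)
  refine ⟨Nat.card D, ⟨k, hk⟩, hD1, hD2, ?_⟩
  intro F hF hFc x hx g hgx
  have hPN : P ≤ Subgroup.normalizer (F : Set G) := by
    by_contra hne
    set V := P ⊓ Subgroup.normalizer (F : Set G) with hV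
    have hlt := Cfsg.Agent.Fusion.SylIn.normalizer_growth (p := p) (inf_le_left : V ≤ P)
      (fun h => hne (inf_eq_left.1 h)) hP.isPGroup
    obtain ⟨w, hw, hwV⟩ := SetLike.exists_of_lt hlt
    refine hwV ⟨hw.1, Cfsg.Agent.Fusion.mem_normalizer_of_cj_le ?_⟩
    rintro _ ⟨y, hy, rfl⟩
    refine hcl F hF hFc w ⟨⟨y, hy, rfl⟩, ?_⟩
    exact ((Subgroup.mem_normalizer_iff.1 hw.2 y).1 ⟨hF hy, Subgroup.le_normalizer hy⟩).2
  exact hcl F hF hFc g ⟨⟨x, hx, rfl⟩, hPN hgx⟩

end Cfsg.Agent.S3032
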