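import Cfsg.Statements.S3033
import Cfsg.Agent.Lib.Perm.Supersolvable
import Cfsg.Agent.Lib.Perm.Huppert
import Cfsg.Agent.Lib.Fusion.NPC
import Cfsg.Agent.Lib.Solv.Kulakoff

set_option autoImplicit false
open Cfsg
open Cfsg.Agent.Fusion
open scoped commutatorElement

namespace Cfsg.Agent.S3033

open Cfsg.Agent.Perm in
/-- If every element of prime power order of an irreducible faithful supersolvable `q'`-group of automorphisms
of an elementary abelian `q`-group has only cyclic modules on its commutators, the module is cyclic. -/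
theorem card_eq_prime {G : Type*} [Group G] [Finite G] {q : ℕ} [hqF : Fact q.Prime] (N M : Subgroup G)
    (hN0 : N ≠ ⊥) (hNc : ∀ a ∈ N, ∀ b ∈ N, a * b = b * a) (hNq : ∀ a ∈ N, a ^ q = 1)
    (hMN : M ≤ Subgroup.normalizer (N : Set G))
    (hfaith : ∀ m ∈ M, (∀ g ∈ N, m * g = g * m) → m = 1)
    (hirr : ∀ S : Subgroup G, S ≤ N → (∀ m ∈ M, ∀ s ∈ S, m * s * m⁻¹ ∈ S) → S = ⊥ ∨ S = N)
    (hMq : ∀ m ∈ M, ¬ q ∣ orderOf m) (hM : Cfsg.IsSupersolvable M)
    (hE : ∀ x ∈ M, (∃ r : ℕ, r.Prime ∧ ∃ k, orderOf x = r ^ k) → ∀ g ∈ N,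
      x * (g * (x * g⁻¹ * x⁻¹)) * x⁻¹ ∈ Subgroup.zpowers (g * (x * g⁻¹ * x⁻¹))) :
    Nat.card N = q := by
  classical
  have hq : q.Prime := hqF.out
  have hconjN : ∀ m ∈ M, ∀ g ∈ N, m * g * m⁻¹ ∈ N := fun m hm g hg =>
    (Subgroup.mem_set_normalizer_iff.1 (hMN hm) g).1 hg
  have hord : ∀ g ∈ N, g ≠ 1 → orderOf g = q := fun g hg h1 => orderOf_eq_prime (hNq g hg) h1
  have hzz : ∀ g ∈ N, g ≠ 1 → ∀ i j : ℤ, g ^ i = g ^ j → (i : ZMod q) = (j : ZMod q) := by
    intro g hg h1 i j h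
    rw [zpow_eq_zpow_iff_modEq, hord g hg h1] at h
    exact (ZMod.intCast_eq_intCast_iff i j q).2 h
  have hzz' : ∀ g ∈ N, ∀ i j : ℤ, (i : ZMod q) = (j : ZMod q) → g ^ i = g ^ j := by
    intro g hg i j h
    rcases eq_or_ne g 1 with rfl | h1
    · simp
    rw [zpow_eq_zpow_iff_modEq, hord g hg h1]
    exact (ZMod.intCast_eq_intCast_iff i j q).1 h
  -- the commutators of `x` with `N`
  have hcom : ∀ x ∈ M, ∀ g ∈ N, g * (x * g⁻¹ * x⁻¹) ∈ N := fun x hx g hg =>
    mul_mem hg (hconjN x hx _ (inv_mem hg))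
  have hhom : ∀ x ∈ M, ∀ g ∈ N, ∀ g' ∈ N, g * (x * g⁻¹ * x⁻¹) * (g' * (x * g'⁻¹ * x⁻¹)) =
      (g * g') * (x * (g * g')⁻¹ * x⁻¹) := by
    intro x hx g hg g' hg'
    have h1 := hNc (x * g⁻¹ * x⁻¹) (hconjN x hx _ (inv_mem hg)) (g' * (x * g'⁻¹ * x⁻¹)) (hcom x hx g' hg')
    calc g * (x * g⁻¹ * x⁻¹) * (g' * (x * g'⁻¹ * x⁻¹))
        = g * ((x * g⁻¹ * x⁻¹) * (g' * (x * g'⁻¹ * x⁻¹))) := by group
      _ = _ := by rw [h1]; group
  -- a single exponent on the commutators
  have hexp : ∀ x ∈ M, (∃ r : ℕ, r.Prime ∧ ∃ k, orderOf x = r ^ k) → ∃ a : ℤ, ∀ g ∈ N,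
      x * (g * (x * g⁻¹ * x⁻¹)) * x⁻¹ = (g * (x * g⁻¹ * x⁻¹)) ^ a := by
    intro x hx hxr
    by_cases htriv : ∀ g ∈ N, g * (x * g⁻¹ * x⁻¹) = 1
    · exact ⟨1, fun g hg => by rw [htriv g hg]; group⟩
    push Not at htriv
    obtain ⟨g0, hg0, hc0⟩ := htriv
    obtain ⟨a, ha⟩ := hE x hx hxr g0 hg0
    refine ⟨a, fun g hg => ?_⟩
    have ha' : (g0 * (x * g0⁻¹ * x⁻¹)) ^ a = x * (g0 * (x * g0⁻¹ * x⁻¹)) * x⁻¹ := ha
    obtain ⟨b, hb⟩ := hE x hx hxr g hg
    have hb' : (g * (x * g⁻¹ * x⁻¹)) ^ b = x * (g * (x * g⁻¹ * x⁻¹)) * x⁻¹ := hb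
    obtain ⟨d, hd⟩ := hE x hx hxr (g0 * g) (mul_mem hg0 hg)
    have hd' : (g0 * g * (x * (g0 * g)⁻¹ * x⁻¹)) ^ d = x * (g0 * g * (x * (g0 * g)⁻¹ * x⁻¹)) * x⁻¹ := hd
    rw [← hhom x hx g0 hg0 g hg] at hd'
    obtain ⟨c, hcdef⟩ : ∃ c, c = g * (x * g⁻¹ * x⁻¹) := ⟨_, rfl⟩
    obtain ⟨c0, hc0def⟩ : ∃ c, c = g0 * (x * g0⁻¹ * x⁻¹) := ⟨_, rfl⟩
    have hcN : c ∈ N := hcdef ▸ hcom x hx g hg
    have hc0N : c0 ∈ N := hc0def ▸ hcom x hx g0 hg0
    rw [← hcdef] at hb' hd' ⊢
    rw [← hc0def] at ha' hd' hc0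
    rw [← conj_mul, ← ha', ← hb', (show Commute c0 c from hNc c0 hc0N c hcN).mul_zpow] at hd'
    by_cases hc1 : c = 1
    · rw [hc1]; group
    -- `c0 ^ (d - a) = c ^ (b - d)`
    have h1 : c0 ^ (d - a) = c ^ (b - d) := by
      rw [zpow_sub, zpow_sub, eq_mul_inv_iff_mul_eq, mul_assoc,
        ← (show Commute (c ^ d) (c0 ^ a)⁻¹ from hNc _ (zpow_mem hcN d) _ (inv_mem (zpow_mem hc0N a))).eq,
        ← mul_assoc, hd', hNc _ (zpow_mem hc0N a) _ (zpow_mem hcN b), mul_inv_cancel_right]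
    by_cases hbd : (b : ZMod q) = (d : ZMod q)
    · have h2 : c0 ^ (d - a) = c0 ^ (0 : ℤ) := by
        rw [h1, hzz' c hcN (b - d) 0 (by push_cast; rw [hbd, sub_self]), zpow_zero, zpow_zero]
      have h3 := hzz c0 hc0N hc0 _ _ h2
      push_cast at h3
      rw [sub_eq_zero] at h3
      rw [← hb']
      exact hzz' c hcN b a (hbd.trans h3)
    · -- `c` is a power of `c0`
      obtain ⟨e, he⟩ : ∃ e : ℤ, (e : ZMod q) * ((b - d : ℤ) : ZMod q) = 1 := by
        refine ⟨((((b - d : ℤ) : ZMod q))⁻¹).val, ?_⟩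
        rw [Int.cast_natCast, ZMod.natCast_zmod_val]
        exact inv_mul_cancel₀ (by push_cast; exact sub_ne_zero.2 hbd)
      have h2 : c = c0 ^ ((d - a) * e) := by
        rw [zpow_mul, h1, ← zpow_mul, hzz' c hcN ((b - d) * e) 1 (by push_cast at he ⊢; rw [mul_comm]; exact he),
          zpow_one]
      rw [h2, ← conj_zpow, ← ha', ← zpow_mul, ← zpow_mul, mul_comm]
  -- the fixed points of an element
  let C : G → Subgroup G := fun x => N ⊓ Subgroup.centralizer ({x} : Set G)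
  have memC : ∀ {x g : G}, g ∈ C x ↔ g ∈ N ∧ g * x = x * g := fun {x g} => by
    rw [Subgroup.mem_inf, Subgroup.mem_centralizer_singleton_iff]
  -- a prime power element without fixed points is a power map
  have hpow : ∀ x ∈ M, (∃ r : ℕ, r.Prime ∧ ∃ k, orderOf x = r ^ k) → C x = ⊥ →
      ∃ a : ℤ, ∀ g ∈ N, x * g * x⁻¹ = g ^ a := by
    intro x hx hxr hfix
    obtain ⟨a, ha⟩ := hexp x hx hxr
    refine ⟨a, fun g hg => ?_⟩
    have hbij : Function.Surjective (fun u : N => (⟨u * (x * (u : G)⁻¹ * x⁻¹), hcom x hx u u.2⟩ : N)) := by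
      refine Finite.surjective_of_injective fun u v huv => ?_
      have h1 : (u : G) * (x * (u : G)⁻¹ * x⁻¹) = v * (x * (v : G)⁻¹ * x⁻¹) := congrArg Subtype.val huv
      have h2 : (v : G)⁻¹ * u ∈ C x := by
        refine memC.2 ⟨mul_mem (inv_mem v.2) u.2, ?_⟩
        calc (v : G)⁻¹ * u * x = (v : G)⁻¹ * (u * (x * (u : G)⁻¹ * x⁻¹)) * x * u := by group
          _ = x * ((v : G)⁻¹ * u) := by rw [h1]; group
      rw [hfix, Subgroup.mem_bot, inv_mul_eq_one] at h2
      exact Subtype.ext h2.symm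
    obtain ⟨u, hu⟩ := hbij ⟨g, hg⟩
    have hu' : (u : G) * (x * (u : G)⁻¹ * x⁻¹) = g := congrArg Subtype.val hu
    rw [← hu', ha u u.2]
  -- elements commuting with `M` have no fixed points
  have hcent : ∀ x ∈ M, (∀ m ∈ M, m * x = x * m) → x ≠ 1 → C x = ⊥ := by
    intro x hx hxc hx1
    refine (hirr _ inf_le_left fun m hm s hs => ?_).resolve_right fun h => hx1 (hfaith x hx fun g hg => ?_)
    · obtain ⟨hsN, hsx⟩ := memC.1 hs
      refine memC.2 ⟨hconjN m hm s hsN, ?_⟩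
      have h1 : m⁻¹ * x = x * m⁻¹ := hxc _ (inv_mem hm)
      calc m * s * m⁻¹ * x = m * s * (m⁻¹ * x) := by group
        _ = m * (s * x) * m⁻¹ := by rw [h1]; group
        _ = m * (x * s) * m⁻¹ := by rw [hsx]
        _ = x * (m * s * m⁻¹) := by rw [← mul_assoc m x, hxc m hm]; group
    · exact ((memC.1 (show g ∈ C x by rw [show C x = N from h]; exact hg)).2).symm
  -- central elements are power maps
  have hscalar : ∀ x ∈ M, (∀ m ∈ M, m * x = x * m) → ∃ a : ℤ, ∀ g ∈ N, x * g * x⁻¹ = g ^ a := by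
    suffices key : ∀ n, ∀ x ∈ M, orderOf x ≤ n → (∀ m ∈ M, m * x = x * m) → ∃ a : ℤ, ∀ g ∈ N, x * g * x⁻¹ = g ^ a by
      exact fun x hx hxc => key _ x hx le_rfl hxc
    intro n
    induction n with
    | zero => intro x _ h; have := orderOf_pos x; omega
    | succ n ih =>
      intro x hx hn hxc
      rcases eq_or_ne x 1 with rfl | hx1
      · exact ⟨1, fun g _ => by group⟩
      obtain ⟨r, hr, hrd⟩ := Nat.exists_prime_and_dvd (fun h => hx1 (orderOf_eq_one_iff.1 h))
      obtain ⟨k, m, hm, hkm⟩ := Nat.exists_eq_pow_mul_and_not_dvd (orderOf_pos x).ne' r hr.ne_one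
      have hk0 : k ≠ 0 := fun h => hm (by rw [h, pow_zero, one_mul] at hkm; exact hkm ▸ hrd)
      have hcp : ∀ l : ℕ, ∀ u ∈ M, u * x ^ l = x ^ l * u := fun l u hu => ((show Commute u x from hxc u hu).pow_right l).eq
      rcases eq_or_ne m 1 with rfl | hm1
      · rw [mul_one] at hkm
        exact hpow x hx ⟨r, hr, k, hkm⟩ (hcent x hx hxc hx1)
      have hm0 : m ≠ 0 := fun h => hm (h ▸ dvd_zero r)
      have h1 : orderOf (x ^ (r ^ k)) < orderOf x := by
        rw [orderOf_pow_of_dvd (pow_ne_zero _ hr.ne_zero) (hkm ▸ dvd_mul_right _ _)]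
        exact Nat.div_lt_self (orderOf_pos x) (Nat.one_lt_pow hk0 hr.one_lt)
      have h2 : orderOf (x ^ m) < orderOf x := by
        rw [orderOf_pow_of_dvd hm0 (hkm ▸ dvd_mul_left _ _)]
        exact Nat.div_lt_self (orderOf_pos x) (by omega)
      obtain ⟨a, ha⟩ := ih (x ^ (r ^ k)) (pow_mem hx _) (by omega) (hcp _)
      obtain ⟨a', ha'⟩ := ih (x ^ m) (pow_mem hx _) (by omega) (hcp _)
      have hco : Nat.Coprime (r ^ k) m := (hr.coprime_iff_not_dvd.2 hm).pow_left k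
      -- `x` is a product of powers of the two parts
      obtain ⟨u, v, huv⟩ : ∃ u v : ℕ, x = (x ^ (r ^ k)) ^ u * (x ^ m) ^ v := by
        obtain ⟨u, hu⟩ : ∃ u : ℕ, r ^ k * u ≡ 1 [MOD m] := by
          obtain ⟨u, _, hu⟩ := Nat.exists_mul_mod_eq_one_of_coprime hco (by omega)
          exact ⟨u, by unfold Nat.ModEq; rw [hu, Nat.mod_eq_of_lt (by omega : 1 < m)]⟩
        obtain ⟨v, hv⟩ : ∃ v : ℕ, m * v ≡ 1 [MOD r ^ k] := by
          have h1k : 1 < r ^ k := Nat.one_lt_pow hk0 hr.one_lt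
          obtain ⟨v, _, hv⟩ := Nat.exists_mul_mod_eq_one_of_coprime hco.symm h1k
          exact ⟨v, by unfold Nat.ModEq; rw [hv, Nat.mod_eq_of_lt h1k]⟩
        refine ⟨u, v, ?_⟩
        rw [← pow_mul, ← pow_mul, ← pow_add]
        have e : r ^ k * u + m * v ≡ 1 [MOD r ^ k * m] := by
          refine (Nat.modEq_and_modEq_iff_modEq_mul hco).1 ⟨?_, ?_⟩
          · simpa using (Nat.modEq_zero_iff_dvd.2 (dvd_mul_right (r ^ k) u)).add hv
          · simpa using hu.add (Nat.modEq_zero_iff_dvd.2 (dvd_mul_right m v))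
        rw [← hkm] at e
        nth_rw 1 [← pow_one x]
        exact (pow_eq_pow_iff_modEq.2 e).symm
      have hiter : ∀ (w : G) (a : ℤ), (∀ g ∈ N, w * g * w⁻¹ = g ^ a) → ∀ j : ℕ, ∀ g ∈ N,
          w ^ j * g * (w ^ j)⁻¹ = g ^ (a ^ j) := by
        intro w a hw j
        induction j with
        | zero => intro g _; simp
        | succ j ihj =>
          intro g hg
          rw [pow_succ, show w ^ j * w * g * (w ^ j * w)⁻¹ = w ^ j * (w * g * w⁻¹) * (w ^ j)⁻¹ by group,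
            hw g hg, ihj _ (zpow_mem hg a), ← zpow_mul, pow_succ, mul_comm]
      refine ⟨a' ^ v * a ^ u, fun g hg => ?_⟩
      rw [huv, show (x ^ r ^ k) ^ u * (x ^ m) ^ v * g * ((x ^ r ^ k) ^ u * (x ^ m) ^ v)⁻¹ =
        (x ^ r ^ k) ^ u * ((x ^ m) ^ v * g * ((x ^ m) ^ v)⁻¹) * ((x ^ r ^ k) ^ u)⁻¹ by group,
        hiter _ _ ha' v g hg, hiter _ _ ha u _ (zpow_mem hg _), ← zpow_mul]
  by_cases hMc : ∀ m ∈ M, ∀ m' ∈ M, m * m' = m' * m
  · obtain ⟨g, hg, hg1⟩ := (Subgroup.bot_or_exists_ne_one N).resolve_left hN0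
    rcases hirr (Subgroup.zpowers g) (Subgroup.zpowers_le.2 hg) (fun m hm s hs => by
      obtain ⟨a, ha⟩ := hscalar m hm (fun u hu => hMc u hu m hm)
      rw [ha s (Subgroup.zpowers_le.2 hg hs)]
      exact zpow_mem hs a) with h | h
    · exact absurd (Subgroup.zpowers_eq_bot.1 h) hg1
    · rw [← h, Nat.card_zpowers, hord g hg hg1]
  exfalso
  push Not at hMc
  -- a normal subgroup of prime order modulo the centre
  haveI : Nontrivial (M ⧸ Subgroup.center M) := by
    obtain ⟨m, hm, m', hm', hne⟩ := hMc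
    refine ⟨QuotientGroup.mk ⟨m', hm'⟩, 1, fun h => hne ?_⟩
    rw [QuotientGroup.eq_one_iff, Subgroup.mem_center_iff] at h
    exact congrArg Subtype.val (h ⟨m, hm⟩)
  obtain ⟨R, hRn, hRr⟩ := exists_normal_card_prime (isSupersolvable_quotient hM (Subgroup.center M))
  obtain ⟨r, hr⟩ : ∃ r, r = Nat.card R := ⟨_, rfl⟩
  rw [← hr] at hRr
  haveI := Fact.mk hRr
  obtain ⟨⟨y, hyR⟩, hy⟩ := exists_prime_orderOf_dvd_card' (G := R) r (hr ▸ dvd_rfl)
  obtain ⟨b0, rfl⟩ := QuotientGroup.mk_surjective y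
  have hgenR : ∀ w ∈ R, w ∈ Subgroup.zpowers (QuotientGroup.mk b0 : M ⧸ Subgroup.center M) := by
    intro w hw
    rw [show Subgroup.zpowers (QuotientGroup.mk b0 : M ⧸ Subgroup.center M) = R from
      Subgroup.eq_of_le_of_card_ge (Subgroup.zpowers_le.2 hyR)
        (by rw [Nat.card_zpowers, ← hr]; exact (hy.symm.trans (Subgroup.orderOf_mk _ hyR)).le)]
    exact hw
  rw [Subgroup.orderOf_mk] at hy
  -- choose a representative of `r`-power order
  obtain ⟨e, l, hl, hel⟩ := Nat.exists_eq_pow_mul_and_not_dvd (orderOf_pos b0).ne' r hRr.ne_one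
  obtain ⟨b, hbdef⟩ : ∃ b, b = b0 ^ l := ⟨_, rfl⟩
  have hbord : ∃ t, orderOf b = r ^ t := by
    obtain ⟨t, -, ht⟩ := (Nat.dvd_prime_pow hRr).1 (orderOf_dvd_of_pow_eq_one
      (show b ^ r ^ e = 1 by rw [hbdef, ← pow_mul, mul_comm, ← hel, pow_orderOf_eq_one]))
    exact ⟨t, ht⟩
  have hbmk : Subgroup.zpowers (QuotientGroup.mk b : M ⧸ Subgroup.center M) =
      Subgroup.zpowers (QuotientGroup.mk b0) := by
    refine Subgroup.eq_of_le_of_card_ge (Subgroup.zpowers_le.2 ?_) ?_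
    · rw [hbdef, QuotientGroup.mk_pow]; exact pow_mem (Subgroup.mem_zpowers _) _
    · rw [Nat.card_zpowers, Nat.card_zpowers, hbdef, QuotientGroup.mk_pow]
      refine le_of_eq (Nat.Coprime.orderOf_pow ?_).symm
      rw [hy]
      exact hRr.coprime_iff_not_dvd.2 hl
  have hbc : b ∉ Subgroup.center M := by
    intro h
    rw [← QuotientGroup.eq_one_iff] at h
    rw [h, Subgroup.zpowers_one_eq_bot, eq_comm, Subgroup.zpowers_eq_bot] at hbmk
    rw [hbmk, orderOf_one] at hy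
    exact hRr.ne_one hy.symm
  have hbr : b ^ r ∈ Subgroup.center M := by
    rw [← QuotientGroup.eq_one_iff, QuotientGroup.mk_pow, ← orderOf_dvd_iff_pow_eq_one, ← Nat.card_zpowers,
      hbmk, Nat.card_zpowers, hy]
  have hz : ∀ h : M, ∃ (j : ℕ) (z : M), z ∈ Subgroup.center M ∧ h * b * h⁻¹ = z * b ^ j := by
    intro h
    have hmem : (QuotientGroup.mk (h * b * h⁻¹) : M ⧸ Subgroup.center M) ∈ R := by
      rw [QuotientGroup.mk_mul, QuotientGroup.mk_mul, QuotientGroup.mk_inv]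
      refine hRn.conj_mem _ ?_ _
      rw [hbdef, QuotientGroup.mk_pow]
      exact pow_mem hyR l
    have h1 := hgenR _ hmem
    rw [← hbmk, mem_zpowers_iff_mem_range_orderOf, Finset.mem_image] at h1
    obtain ⟨j, -, hj⟩ := h1
    refine ⟨j, h * b * h⁻¹ * (b ^ j)⁻¹, ?_, by group⟩
    rw [← QuotientGroup.eq_one_iff, QuotientGroup.mk_mul, QuotientGroup.mk_inv, QuotientGroup.mk_pow]
    rw [hj, mul_inv_cancel]
  have hcm : ∀ {u : M}, u ∈ Subgroup.center M → ∀ m ∈ M, m * (u : G) = u * m :=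
    fun {u} hu m hm => congrArg Subtype.val (Subgroup.mem_center_iff.1 hu ⟨m, hm⟩)
  -- every noncentral prime power element has a fixed point
  have hfix : ∀ x : M, x ∉ Subgroup.center M → (∃ s : ℕ, s.Prime ∧ ∃ k, orderOf x = s ^ k) →
      ∃ v ∈ N, v ≠ 1 ∧ (x : G) * v * (x : G)⁻¹ = v := by
    intro x hxc hxr
    by_contra hno
    push Not at hno
    have hC0 : C x = ⊥ := eq_bot_iff.2 fun v hv => by
      rw [Subgroup.mem_bot]
      by_contra hv1
      obtain ⟨hvN, hvx⟩ := memC.1 hv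
      exact hno v hvN hv1 (by rw [← hvx]; group)
    obtain ⟨a, ha⟩ := hpow x x.2 (by simpa only [Subgroup.orderOf_coe] using hxr) hC0
    refine hxc (Subgroup.mem_center_iff.2 fun m => Subtype.ext ?_)
    show (m : G) * x = x * m
    have h1 := hfaith _ (mul_mem (mul_mem x.2 m.2) (mul_mem (inv_mem x.2) (inv_mem m.2)))
      (fun g hg => mul_inv_eq_iff_eq_mul.1 ?_)
    · rw [← mul_assoc, mul_inv_eq_one, mul_inv_eq_iff_eq_mul] at h1
      exact h1.symm
    have hn1 : (m : G)⁻¹ * g * m ∈ N := by simpa using hconjN _ (inv_mem m.2) g hg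
    have hn2 : (x : G)⁻¹ * ((m : G)⁻¹ * g * m) * x ∈ N := by simpa using hconjN _ (inv_mem x.2) _ hn1
    calc (x : G) * m * ((x : G)⁻¹ * (m : G)⁻¹) * g * ((x : G) * m * ((x : G)⁻¹ * (m : G)⁻¹))⁻¹
        = (x : G) * ((m : G) * ((x : G)⁻¹ * ((m : G)⁻¹ * g * m) * x) * (m : G)⁻¹) * (x : G)⁻¹ := by group
      _ = ((m : G) * ((x : G)⁻¹ * ((m : G)⁻¹ * g * m) * x) * (m : G)⁻¹) ^ a := ha _ (hconjN _ m.2 _ hn2)
      _ = (m : G) * ((x : G)⁻¹ * ((m : G)⁻¹ * g * m) * x) ^ a * (m : G)⁻¹ := conj_zpow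
      _ = (m : G) * ((x : G) * ((x : G)⁻¹ * ((m : G)⁻¹ * g * m) * x) * (x : G)⁻¹) * (m : G)⁻¹ := by rw [ha _ hn2]
      _ = g := by group
  obtain ⟨v0, hv0, hv01, hbv0⟩ := hfix b hbc ⟨r, hRr, hbord⟩
  have hbr1 : b ^ r = 1 := by
    by_contra h
    have h1 := hcent _ (b ^ r).2 (hcm hbr) (fun e => h (Subtype.ext e))
    refine hv01 (Subgroup.mem_bot.1 (h1 ▸ memC.2 ⟨hv0, ?_⟩))
    push_cast
    exact ((show Commute (b : G) v0 from mul_inv_eq_iff_eq_mul.1 hbv0).pow_left r).eq.symm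
  -- some element moves the fixed points of `b`
  obtain ⟨h, hh⟩ : ∃ h : M, ∃ v ∈ C (b : G), (h : G) * v * (h : G)⁻¹ ∉ C (b : G) := by
    by_contra hno
    push Not at hno
    rcases hirr (C (b : G)) inf_le_left (fun m hm s hs => hno ⟨m, hm⟩ s hs) with h | h
    · exact hv01 (Subgroup.mem_bot.1 (h ▸ memC.2 ⟨hv0, (mul_inv_eq_iff_eq_mul.1 hbv0).symm⟩))
    · refine hbc ?_
      rw [show b = 1 from Subtype.ext (hfaith b b.2 fun g hg => ((memC.1 (show g ∈ C (b : G) by rw [h]; exact hg)).2).symm)]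
      exact one_mem _
  obtain ⟨v, hv, hvh⟩ := hh
  obtain ⟨hvN, hvb⟩ := memC.1 hv
  obtain ⟨j, z, hzc, hzj⟩ := hz h
  obtain ⟨w, hwdef⟩ : ∃ w, w = (h : G) * v * (h : G)⁻¹ := ⟨_, rfl⟩
  rw [← hwdef] at hvh
  have hwN : w ∈ N := hwdef ▸ hconjN _ h.2 v hvN
  have hw1 : (z : G) * (b : G) ^ j * w = w * ((z : G) * (b : G) ^ j) := by
    have e : (z : G) * (b : G) ^ j = (h : G) * b * (h : G)⁻¹ := by
      have := congrArg Subtype.val hzj; push_cast at this; exact this.symm
    rw [e, hwdef]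
    calc (h : G) * b * (h : G)⁻¹ * ((h : G) * v * (h : G)⁻¹) = (h : G) * (b * v) * (h : G)⁻¹ := by group
      _ = (h : G) * (v * b) * (h : G)⁻¹ := by rw [hvb]
      _ = _ := by group
  have hzr : z ^ r = 1 := by
    have h1 : (h * b * h⁻¹) ^ r = 1 := by rw [conj_pow, hbr1, mul_one, mul_inv_cancel]
    rw [hzj, (show Commute z (b ^ j) from (Subgroup.mem_center_iff.1 hzc _).symm).mul_pow, ← pow_mul,
      mul_comm j, pow_mul, hbr1, one_pow, mul_one] at h1
    exact h1
  have hz1 : z ≠ 1 := by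
    intro hz1
    refine hvh (memC.2 ⟨hwN, ?_⟩)
    rw [hz1, OneMemClass.coe_one, one_mul] at hw1
    rw [hz1, one_mul] at hzj
    have hj : ¬ r ∣ j := by
      rintro ⟨t, rfl⟩
      rw [pow_mul, hbr1, one_pow, mul_inv_eq_one, mul_eq_left] at hzj
      exact hbc (hzj ▸ one_mem _)
    obtain ⟨t, _, ht⟩ := Nat.exists_mul_mod_eq_one_of_coprime (hRr.coprime_iff_not_dvd.2 hj).symm hRr.one_lt
    have hbj : (b : G) = ((b : G) ^ j) ^ t := by
      rw [← pow_mul, ← Subgroup.coe_pow, ← Nat.mod_add_div (j * t) r, ht, pow_add, pow_one, pow_mul, hbr1,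
        one_pow, mul_one]
    rw [hbj]
    exact ((show Commute ((b : G) ^ j) w from hw1).pow_left t).eq.symm
  obtain ⟨s, hs⟩ := hscalar z z.2 (hcm hzc)
  have hzord : orderOf z = r := orderOf_eq_prime hzr hz1
  have hzfix : ∀ i : ℕ, ¬ r ∣ i → C ((z : G) ^ i) = ⊥ := fun i hi =>
    hcent _ (pow_mem z.2 i) (fun m hm => ((show Commute m (z : G) from hcm hzc m hm).pow_right i).eq) (fun e => hi
      (hzord ▸ orderOf_dvd_of_pow_eq_one (Subtype.ext (by simpa using e))))
  rcases hRr.eq_two_or_odd' with hr2 | hrodd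
  · -- `r = 2`
    subst hr2
    have hj : Odd j := by
      by_contra hev
      rw [Nat.not_odd_iff_even] at hev
      obtain ⟨t, rfl⟩ := hev
      rw [← two_mul, pow_mul, hbr1, one_pow, mul_one] at hzj
      refine hbc ?_
      rw [show b = h⁻¹ * z * h by rw [← hzj]; group]
      have hcomm := Subgroup.mem_center_iff.1 hzc h⁻¹
      rw [hcomm, inv_mul_cancel_right]
      exact hzc
    obtain ⟨t, rfl⟩ := hj
    rw [pow_add, pow_mul, hbr1, one_pow, one_mul, pow_one] at hzj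
    obtain ⟨e2, m2, hm2, hem⟩ := Nat.exists_eq_pow_mul_and_not_dvd (orderOf_pos h).ne' 2 (by norm_num)
    have hm2odd : Odd m2 := Nat.not_even_iff_odd.1 fun ev => hm2 ev.two_dvd
    obtain ⟨h2, hh2⟩ : ∃ h2, h2 = h ^ m2 := ⟨_, rfl⟩
    have hzb : ∀ n : ℕ, h ^ n * b * (h ^ n)⁻¹ = z ^ n * b := by
      intro n
      induction n with
      | zero => simp
      | succ n ihn =>
        rw [pow_succ', show h * h ^ n * b * (h * h ^ n)⁻¹ = h * (h ^ n * b * (h ^ n)⁻¹) * h⁻¹ by group, ihn,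
          ← conj_mul, hzj, (Subgroup.mem_center_iff.1 (pow_mem hzc n) h), mul_inv_cancel_right, ← mul_assoc,
          ← pow_succ]
    have hh2b : h2 * b * h2⁻¹ = z * b := by
      rw [hh2, hzb]
      obtain ⟨u, rfl⟩ := hm2odd
      rw [pow_add, pow_mul, hzr, one_pow, one_mul, pow_one]
    have hz2 : z * z = 1 := by rw [← pow_two]; exact hzr
    have hb2 : b * b = 1 := by rw [← pow_two]; exact hbr1
    have hh2o : ∃ k, orderOf h2 = 2 ^ k := by
      obtain ⟨k, -, hk⟩ := (Nat.dvd_prime_pow Nat.prime_two).1 (orderOf_dvd_of_pow_eq_one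
        (show h2 ^ 2 ^ e2 = 1 by rw [hh2, ← pow_mul, mul_comm, ← hem, pow_orderOf_eq_one]))
      exact ⟨k, hk⟩
    have hzinv : ∀ g ∈ N, (z : G) * g * (z : G)⁻¹ = g⁻¹ := by
      intro g hg
      have hzG : (z : G) * z = 1 := by simpa using congrArg Subtype.val hz2
      have h1 : (z : G) * g * (z : G)⁻¹ * g ∈ C z := by
        refine memC.2 ⟨mul_mem (hconjN _ z.2 g hg) hg, ?_⟩
        calc (z : G) * g * (z : G)⁻¹ * g * z
            = ((z : G) * g * (z : G)⁻¹) * g * z := rfl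
          _ = g * ((z : G) * g * (z : G)⁻¹) * z := by rw [hNc _ (hconjN _ z.2 g hg) g hg]
          _ = g * z * g := by group
          _ = (z : G) * ((z : G) * g * (z : G)⁻¹ * g) := by
              rw [inv_eq_of_mul_eq_one_right hzG, ← mul_assoc, ← mul_assoc, ← mul_assoc, hzG, one_mul]
      rw [show C (z : G) = ⊥ by simpa using hzfix 1 (by norm_num), Subgroup.mem_bot] at h1
      exact eq_inv_of_mul_eq_one_left h1
    have hq2 : ∀ g ∈ N, g⁻¹ = g → g = 1 := by
      intro g hg hgg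
      refine Subgroup.mem_bot.1 ((show C (z : G) = ⊥ by simpa using hzfix 1 (by norm_num)) ▸ memC.2 ⟨hg, ?_⟩)
      have h1 := (hzinv g hg).trans hgg
      rw [mul_inv_eq_iff_eq_mul] at h1
      exact h1.symm
    have hh2c : h2 ∉ Subgroup.center M := fun hc => hz1 (by
      rw [Subgroup.mem_center_iff] at hc
      rw [← hc b, mul_inv_cancel_right, eq_comm, mul_eq_right] at hh2b
      exact hh2b)
    obtain ⟨v2, hv2, hv21, hfix2⟩ := hfix h2 hh2c ⟨2, Nat.prime_two, hh2o⟩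
    obtain ⟨a, ha⟩ := hexp h2 h2.2 (by simpa only [Subgroup.orderOf_coe] using ⟨2, Nat.prime_two, hh2o⟩)
    -- `h2` is an involution
    have hu : (h2 : G) * ((b : G) * v2 * (b : G)⁻¹) * (h2 : G)⁻¹ = ((b : G) * v2 * (b : G)⁻¹)⁻¹ := by
      have e : (h2 : G) * b = z * b * h2 := by
        have := congrArg Subtype.val (mul_inv_eq_iff_eq_mul.1 hh2b); simpa using this
      calc (h2 : G) * ((b : G) * v2 * (b : G)⁻¹) * (h2 : G)⁻¹
          = ((h2 : G) * b) * v2 * ((h2 : G) * b)⁻¹ := by group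
        _ = (z : G) * ((b : G) * ((h2 : G) * v2 * (h2 : G)⁻¹) * (b : G)⁻¹) * (z : G)⁻¹ := by rw [e]; group
        _ = _ := by rw [hfix2, hzinv _ (hconjN _ b.2 _ hv2)]
    obtain ⟨u, huu⟩ : ∃ u, u = (b : G) * v2 * (b : G)⁻¹ := ⟨_, rfl⟩
    rw [← huu] at hu
    have huN : u ∈ N := huu ▸ hconjN _ b.2 _ hv2
    have hu1 : u ≠ 1 := by rw [huu, Ne, conj_eq_one_iff]; exact hv21
    have hinv : ∀ g ∈ N, (h2 : G) * ((h2 : G) * g * (h2 : G)⁻¹) * (h2 : G)⁻¹ = g := by
      have e1 : (h2 : G) * u⁻¹ * (h2 : G)⁻¹ = u := by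
        have := congrArg (fun t => t⁻¹) hu
        simpa [mul_assoc] using this
      have h1 := ha u huN
      rw [e1, ← conj_mul, hu] at h1
      have ha1 : (a : ZMod q) = -1 := by
        have huu1 : u * u ≠ 1 := fun e => hu1 (hq2 u huN (inv_eq_of_mul_eq_one_right e))
        have := hzz (u * u) (mul_mem huN huN) huu1 (-1) a (by rw [zpow_neg_one, mul_inv_rev, h1])
        push_cast at this
        exact this.symm
      intro g hg
      have h2' := ha g hg
      rw [hzz' _ (hcom _ h2.2 g hg) a (-1) (by push_cast; exact ha1), zpow_neg_one, mul_inv_rev, ← conj_mul] at h2'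
      have h3 : (h2 : G) * ((h2 : G) * g⁻¹ * (h2 : G)⁻¹) * (h2 : G)⁻¹ = g⁻¹ := by
        have e : ((h2 : G) * g⁻¹ * (h2 : G)⁻¹)⁻¹ = (h2 : G) * g * (h2 : G)⁻¹ := by group
        rw [e] at h2'
        exact mul_left_cancel h2'
      have := congrArg (fun t => t⁻¹) h3
      simpa [mul_assoc] using this
    have hh22 : h2 * h2 = 1 := Subtype.ext (hfaith _ (h2 * h2).2 fun g hg => by
      have h1 := hinv g hg
      push_cast
      calc (h2 : G) * h2 * g = (h2 : G) * ((h2 : G) * g * (h2 : G)⁻¹) * (h2 : G)⁻¹ * ((h2 : G) * h2) := by group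
        _ = _ := by rw [h1])
    -- `k = b h2` squares to `z`
    obtain ⟨k, hk⟩ : ∃ k, k = b * h2 := ⟨_, rfl⟩
    have hk2 : k * k = z := by
      calc k * k = b * (h2 * b * h2⁻¹) * (h2 * h2) := by rw [hk]; group
        _ = z * (b * b) := by rw [hh2b, hh22, mul_one, ← mul_assoc, Subgroup.mem_center_iff.1 hzc b, mul_assoc]
        _ = z := by rw [hb2, mul_one]
    have hkc : k ∉ Subgroup.center M := by
      intro hc
      rw [Subgroup.mem_center_iff] at hc
      refine hz1 ?_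
      have e := hc b
      rw [hk, ← mul_assoc, hb2, one_mul, mul_assoc, mul_inv_eq_iff_eq_mul.1 hh2b, ← mul_assoc, ← mul_assoc,
        Subgroup.mem_center_iff.1 hzc b, mul_assoc z b b, hb2, mul_one] at e
      exact mul_eq_right.1 e.symm
    have hko : ∃ e, orderOf k = 2 ^ e := by
      obtain ⟨e, -, he⟩ := (Nat.dvd_prime_pow Nat.prime_two).1 (orderOf_dvd_of_pow_eq_one
        (show k ^ 2 ^ 2 = 1 by rw [show 2 ^ 2 = 2 + 2 by norm_num, pow_add, pow_two, hk2, hz2]))
      exact ⟨e, he⟩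
    obtain ⟨w', hw', hw'1, hkw⟩ := hfix k hkc ⟨2, Nat.prime_two, hko⟩
    refine hw'1 (hq2 w' hw' ?_)
    rw [← hzinv w' hw', ← hk2]
    push_cast
    calc (k : G) * k * w' * ((k : G) * k)⁻¹ = (k : G) * ((k : G) * w' * (k : G)⁻¹) * (k : G)⁻¹ := by group
      _ = w' := by rw [hkw, hkw]
  · -- `r` odd
    obtain ⟨k, hk⟩ := hexp b b.2 ⟨r, hRr, by simpa only [Subgroup.orderOf_coe] using hbord⟩
    have hr3 : 3 ≤ r := by
      have := hRr.two_le
      rcases hrodd with ⟨t, ht⟩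
      omega
    have hzpows : ∀ i : ℕ, ∀ g ∈ N, (z : G) ^ i * g * ((z : G) ^ i)⁻¹ = g ^ (s ^ i) := by
      intro i
      induction i with
      | zero => intro g _; simp
      | succ i ihi =>
        intro g hg
        rw [pow_succ, show (z : G) ^ i * z * g * ((z : G) ^ i * z)⁻¹ = (z : G) ^ i * ((z : G) * g * (z : G)⁻¹) * ((z : G) ^ i)⁻¹ by group,
          hs g hg, ihi _ (zpow_mem hg s), ← zpow_mul, pow_succ, mul_comm]
    -- `b z^i` has no fixed points for some `i`
    have hev : ∀ i : ℕ, ¬ r ∣ i → (1 : ZMod q) = ((s ^ i * k : ℤ) : ZMod q) := by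
      intro i hi
      have hnc : b * z ^ i ∉ Subgroup.center M := fun hc => hbc (by
        have := mul_mem hc (inv_mem (pow_mem hzc i))
        rwa [mul_inv_cancel_right] at this)
      have hcomm : Commute b (z ^ i) := (Subgroup.mem_center_iff.1 (pow_mem hzc i) b)
      obtain ⟨t, -, ht⟩ := (Nat.dvd_prime_pow hRr).1 (orderOf_dvd_of_pow_eq_one
        (show (b * z ^ i) ^ r ^ 1 = 1 by
          rw [pow_one, hcomm.mul_pow, hbr1, one_mul, ← pow_mul, mul_comm, pow_mul, hzr, one_pow]))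
      obtain ⟨u, huN, hu1, hu⟩ := hfix _ hnc ⟨r, hRr, t, ht⟩
      push_cast at hu
      have hci : Commute (b : G) ((z : G) ^ i) := show _ = _ by simpa using congrArg Subtype.val hcomm.eq
      have h1 : ((b : G) * u * (b : G)⁻¹) ^ (s ^ i) = u := by
        rw [← hzpows i _ (hconjN _ b.2 u huN)]
        calc (z : G) ^ i * ((b : G) * u * (b : G)⁻¹) * ((z : G) ^ i)⁻¹
            = ((z : G) ^ i * b) * u * ((z : G) ^ i * b)⁻¹ := by group
          _ = u := by rw [← hci.eq, hu]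
      obtain ⟨c, hcdef⟩ : ∃ c, c = u * ((b : G) * u⁻¹ * (b : G)⁻¹) := ⟨_, rfl⟩
      have hcN : c ∈ N := hcdef ▸ hcom _ b.2 u huN
      have hc1 : c ≠ 1 := by
        intro e
        rw [hcdef] at e
        have hfixb : (b : G) * u * (b : G)⁻¹ = u := by
          have e' := mul_eq_one_iff_eq_inv.1 e
          rw [← conj_inv, inv_inv] at e'
          exact e'.symm
        rw [hfixb, ← hzpows i u huN] at h1
        exact hu1 (Subgroup.mem_bot.1 (hzfix i hi ▸ memC.2 ⟨huN, (mul_inv_eq_iff_eq_mul.1 h1).symm⟩))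
      have h2 : ((b : G) * c * (b : G)⁻¹) ^ (s ^ i) = c := by
        have e2 : (b : G) * c * (b : G)⁻¹ = ((b : G) * u * (b : G)⁻¹) * ((b : G) * ((b : G) * u * (b : G)⁻¹) * (b : G)⁻¹)⁻¹ := by
          rw [hcdef]; group
        rw [e2, (show Commute ((b : G) * u * (b : G)⁻¹) ((b : G) * ((b : G) * u * (b : G)⁻¹) * (b : G)⁻¹)⁻¹ from
          hNc _ (hconjN _ b.2 u huN) _ (inv_mem (hconjN _ b.2 _ (hconjN _ b.2 u huN)))).mul_zpow, inv_zpow,
          h1, conj_zpow, h1, hcdef]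
        group
      rw [hcdef, hk u huN, ← hcdef, ← zpow_mul] at h2
      have := hzz c hcN hc1 1 (k * s ^ i) (by rw [zpow_one, h2])
      push_cast at this ⊢
      rw [mul_comm]; exact this
    have h12 := (hev 1 (fun d => by have := Nat.le_of_dvd (by norm_num) d; omega)).symm.trans
      (hev 2 (fun d => by have := Nat.le_of_dvd (by norm_num) d; omega))
    push_cast at h12
    rw [pow_one, pow_two, mul_assoc] at h12
    rcases mul_eq_zero.1 (show ((s : ZMod q) * k) * ((s : ZMod q) - 1) = 0 by linear_combination -h12) with h0 | h0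
    · have := hev 1 (fun d => by have := Nat.le_of_dvd (by norm_num) d; omega)
      push_cast at this
      rw [pow_one, h0] at this
      exact one_ne_zero this
    · -- `s = 1`: `z` acts trivially
      rw [sub_eq_zero] at h0
      refine hz1 (Subtype.ext (hfaith z z.2 fun g hg => mul_inv_eq_iff_eq_mul.1 ?_))
      rw [hs g hg, hzz' g hg s 1 (by push_cast; exact h0), zpow_one]

universe u

/-- The hypothesis of the criterion. -/
def SmallPairs (G : Type u) [Group G] : Prop :=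
  ∀ (p q : ℕ), p.Prime → q.Prime → p ≠ q → ∀ (x g : G), (∃ a : ℕ, orderOf x = p ^ a) → (∃ b : ℕ, orderOf g = q ^ b) →
    ¬ q ^ 2 ∣ Nat.card ↥(Subgroup.zpowers x ⊔ Subgroup.zpowers (g * x * g⁻¹))

theorem smallPairs_subgroup {G : Type u} [Group G] (h : SmallPairs G) (H : Subgroup G) : SmallPairs H := by
  intro p q hp hq hpq x g hx hg
  have h1 := h p q hp hq hpq (x : G) (g : G) (by simpa only [Subgroup.orderOf_coe] using hx)
    (by simpa only [Subgroup.orderOf_coe] using hg)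
  have e : (Subgroup.zpowers x ⊔ Subgroup.zpowers (g * x * g⁻¹)).map H.subtype =
      Subgroup.zpowers (x : G) ⊔ Subgroup.zpowers ((g : G) * x * (g : G)⁻¹) := by
    rw [Subgroup.map_sup, MonoidHom.map_zpowers, MonoidHom.map_zpowers]
    rfl
  rwa [← Subgroup.card_map_of_injective (f := H.subtype) H.subtype_injective, e]

theorem exists_lift {G : Type u} [Group G] [Finite G] (N : Subgroup G) [N.Normal] {p : ℕ} (hp : p.Prime)
    (y : G ⧸ N) (hy : ∃ a : ℕ, orderOf y = p ^ a) :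
    ∃ x : G, (QuotientGroup.mk x : G ⧸ N) = y ∧ ∃ a : ℕ, orderOf x = p ^ a := by
  obtain ⟨a, ha⟩ := hy
  obtain ⟨x, rfl⟩ := QuotientGroup.mk_surjective y
  obtain ⟨e, m, hm, hem⟩ := Nat.exists_eq_pow_mul_and_not_dvd (orderOf_pos x).ne' p hp.ne_one
  have hco : Nat.Coprime m (p ^ a) := ((hp.coprime_iff_not_dvd.2 hm).symm).pow_right a
  obtain ⟨t, ht⟩ : ∃ t : ℕ, m * t ≡ 1 [MOD p ^ a] := by
    rcases Nat.lt_or_ge 1 (p ^ a) with h1 | h1
    · obtain ⟨t, _, ht⟩ := Nat.exists_mul_mod_eq_one_of_coprime hco h1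
      exact ⟨t, by unfold Nat.ModEq; rw [ht, Nat.mod_eq_of_lt h1]⟩
    · refine ⟨0, ?_⟩
      rw [show p ^ a = 1 by have := pow_pos hp.pos a; omega]
      exact Nat.modEq_one
  refine ⟨x ^ (m * t), ?_, ?_⟩
  · rw [QuotientGroup.mk_pow]
    conv_rhs => rw [← pow_one (QuotientGroup.mk x : G ⧸ N)]
    exact pow_eq_pow_iff_modEq.2 (by rw [ha]; exact ht)
  · obtain ⟨k, -, hk⟩ := (Nat.dvd_prime_pow hp).1 (orderOf_dvd_of_pow_eq_one
      (show (x ^ (m * t)) ^ p ^ e = 1 by
        rw [← pow_mul, show m * t * p ^ e = p ^ e * m * t by ring, ← hem, pow_mul, pow_orderOf_eq_one, one_pow]))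
    exact ⟨k, hk⟩

theorem smallPairs_quotient {G : Type u} [Group G] [Finite G] (h : SmallPairs G) (N : Subgroup G) [N.Normal] :
    SmallPairs (G ⧸ N) := by
  intro p q hp hq hpq y w hy hw hd
  obtain ⟨x, rfl, hx⟩ := exists_lift N hp y hy
  obtain ⟨g, rfl, hg⟩ := exists_lift N hq w hw
  refine h p q hp hq hpq x g hx hg (hd.trans ?_)
  have e : (Subgroup.zpowers x ⊔ Subgroup.zpowers (g * x * g⁻¹)).map (QuotientGroup.mk' N) =
      Subgroup.zpowers (QuotientGroup.mk x : G ⧸ N) ⊔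
        Subgroup.zpowers ((QuotientGroup.mk g : G ⧸ N) * QuotientGroup.mk x * (QuotientGroup.mk g)⁻¹) := by
    rw [Subgroup.map_sup, MonoidHom.map_zpowers, MonoidHom.map_zpowers]
    rfl
  rw [← e]
  exact Subgroup.card_map_dvd _ _

/-- The module generated by a commutator of a `p`-element with a `q`-subgroup it normalizes has order at most `q`. -/
theorem conj_commutator_mem {G : Type u} [Group G] [Finite G] (h : SmallPairs G) {p q : ℕ} (hp : p.Prime)
    [hqF : Fact q.Prime] (hpq : p ≠ q) {Q : Subgroup G} (hQ : IsPGroup q Q) {x g : G}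
    (hxQ : x ∈ Subgroup.normalizer (Q : Set G)) (hx : ∃ a : ℕ, orderOf x = p ^ a) (hg : g ∈ Q) :
    x * (g * (x * g⁻¹ * x⁻¹)) * x⁻¹ ∈ Subgroup.zpowers (g * (x * g⁻¹ * x⁻¹)) ∧
      (g * (x * g⁻¹ * x⁻¹)) ^ q = 1 := by
  obtain ⟨b, hb⟩ : ∃ b, orderOf (⟨g, hg⟩ : Q) = q ^ b := IsPGroup.iff_orderOf.1 hQ _
  rw [Subgroup.orderOf_mk] at hb
  obtain ⟨J, hJ⟩ : ∃ J, J = Subgroup.zpowers x ⊔ Subgroup.zpowers (g * x * g⁻¹) := ⟨_, rfl⟩
  have hxJ : x ∈ J := hJ ▸ Subgroup.mem_sup_left (Subgroup.mem_zpowers x)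
  have hcJ : g * (x * g⁻¹ * x⁻¹) ∈ J ⊓ Q := by
    refine Subgroup.mem_inf.2 ⟨?_, mul_mem hg ((Subgroup.mem_set_normalizer_iff.1 hxQ _).1 (inv_mem hg))⟩
    rw [show g * (x * g⁻¹ * x⁻¹) = g * x * g⁻¹ * x⁻¹ by group]
    exact mul_mem (hJ ▸ Subgroup.mem_sup_right (Subgroup.mem_zpowers _)) (inv_mem hxJ)
  have hD : Nat.card (J ⊓ Q : Subgroup G) ∣ q := by
    obtain ⟨k, hk⟩ := IsPGroup.iff_card.1 (hQ.to_le (inf_le_right : J ⊓ Q ≤ Q))
    rcases Nat.lt_or_ge k 2 with hk2 | hk2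
    · rw [hk]
      calc q ^ k ∣ q ^ 1 := pow_dvd_pow q (by omega)
        _ = q := pow_one q
    · exfalso
      refine h p q hp hqF.out hpq x g hx ⟨b, hb⟩ ?_
      rw [← hJ]
      exact ((pow_dvd_pow q hk2).trans (hk.symm.dvd)).trans (Subgroup.card_dvd_of_le inf_le_left)
  have hxc : x * (g * (x * g⁻¹ * x⁻¹)) * x⁻¹ ∈ J ⊓ Q := by
    obtain ⟨h1, h2⟩ := Subgroup.mem_inf.1 hcJ
    exact Subgroup.mem_inf.2 ⟨mul_mem (mul_mem hxJ h1) (inv_mem hxJ), (Subgroup.mem_set_normalizer_iff.1 hxQ _).1 h2⟩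
  refine ⟨?_, orderOf_dvd_iff_pow_eq_one.1 ((Subgroup.orderOf_dvd_natCard _ hcJ).trans hD)⟩
  rcases eq_or_ne (g * (x * g⁻¹ * x⁻¹)) 1 with h1 | h1
  · rw [h1]; simp
  rw [show Subgroup.zpowers (g * (x * g⁻¹ * x⁻¹)) = J ⊓ Q from
    Subgroup.eq_of_le_of_card_ge (Subgroup.zpowers_le.2 hcJ) (by
      refine Nat.le_of_dvd Nat.card_pos ?_
      rw [Nat.card_zpowers]
      rcases hqF.out.eq_one_or_self_of_dvd _ hD with hD' | hD'
      · rw [hD']; exact one_dvd _
      · rw [hD']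
        rcases hqF.out.eq_one_or_self_of_dvd _ ((Subgroup.orderOf_dvd_natCard _ hcJ).trans hD) with ho | ho
        · exact absurd (orderOf_eq_one_iff.1 ho) h1
        · exact ho.symm.dvd)]
  exact hxc

open Cfsg.Agent.Fusion in
/-- For `p > q` a `p`-element centralizes every `q`-subgroup it normalizes. -/
theorem centralizes_of_lt {G : Type u} [Group G] [Finite G] (h : SmallPairs G) {p q : ℕ} (hp : p.Prime)
    [hqF : Fact q.Prime] (hlt : q < p) {Q : Subgroup G} (hQ : IsPGroup q Q) {x : G}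
    (hxQ : x ∈ Subgroup.normalizer (Q : Set G)) (hx : ∃ a : ℕ, orderOf x = p ^ a) :
    ∀ g ∈ Q, x * g = g * x := by
  intro g hg
  obtain ⟨h1, hcq⟩ := conj_commutator_mem h hp (Nat.ne_of_gt hlt) hQ hxQ hx hg
  obtain ⟨c, hc⟩ : ∃ c, c = g * (x * g⁻¹ * x⁻¹) := ⟨_, rfl⟩
  rw [← hc] at h1 hcq
  obtain ⟨a, ha⟩ := hx
  have hxc : x * c * x⁻¹ = c := by
    rcases eq_or_ne c 1 with rfl | hc1
    · group
    have hco : orderOf c = q := orderOf_eq_prime hcq hc1
    obtain ⟨i, hi⟩ := h1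
    have hi' : c ^ i = x * c * x⁻¹ := hi
    have hit : ∀ j : ℕ, x ^ j * c * (x ^ j)⁻¹ = c ^ (i ^ j) := by
      intro j
      induction j with
      | zero => simp
      | succ j ihj =>
        rw [pow_succ, show x ^ j * x * c * (x ^ j * x)⁻¹ = x ^ j * (x * c * x⁻¹) * (x ^ j)⁻¹ by group, ← hi',
          ← conj_zpow, ihj, ← zpow_mul, pow_succ]
    have h2 := hit (p ^ a)
    rw [← ha, pow_orderOf_eq_one, one_mul, inv_one, mul_one] at h2
    have h3 : ((i : ZMod q)) ^ p ^ a = 1 := by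
      have h4 : c ^ (1 : ℤ) = c ^ (i ^ p ^ a) := by rw [zpow_one, ← ha]; exact h2
      rw [zpow_eq_zpow_iff_modEq, hco] at h4
      have := (ZMod.intCast_eq_intCast_iff _ _ _).2 h4
      push_cast at this
      exact this.symm
    have h5 : (i : ZMod q) = 1 := by
      have hi0 : (i : ZMod q) ≠ 0 := fun h0 => by
        rw [h0, zero_pow (pow_ne_zero _ hp.ne_zero)] at h3; exact zero_ne_one h3
      have h6 := ZMod.pow_card_sub_one_eq_one hi0
      have h7 := pow_gcd_eq_one.2 ⟨h3, h6⟩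
      have h8 : Nat.gcd (p ^ a) (q - 1) = 1 := by
        refine Nat.Coprime.pow_left a ((hp.coprime_iff_not_dvd).2 fun hd => ?_)
        have h9 := hqF.out.two_le
        have := Nat.le_of_dvd (by omega) hd
        omega
      rwa [h8, pow_one] at h7
    rw [← hi', ← zpow_one c, ← zpow_mul, one_mul, zpow_eq_zpow_iff_modEq, hco]
    exact (ZMod.intCast_eq_intCast_iff _ _ _).1 (by push_cast; exact h5)
  -- `c` is fixed, so `c ^ (order of x) = 1`
  have hit : ∀ j : ℕ, x ^ j * g⁻¹ * (x ^ j)⁻¹ = g⁻¹ * c ^ j := by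
    intro j
    induction j with
    | zero => simp
    | succ j ihj =>
      rw [pow_succ', show x * x ^ j * g⁻¹ * (x * x ^ j)⁻¹ = x * (x ^ j * g⁻¹ * (x ^ j)⁻¹) * x⁻¹ by group, ihj,
        ← conj_mul, ← conj_pow, hxc, pow_succ', ← mul_assoc]
      congr 1
      rw [hc]
      group
  have h2 := hit (p ^ a)
  rw [← ha, pow_orderOf_eq_one, one_mul, inv_one, mul_one, left_eq_mul] at h2
  have hc1 : c = 1 := by
    have h3 := Nat.dvd_gcd (orderOf_dvd_of_pow_eq_one h2) (orderOf_dvd_of_pow_eq_one hcq)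
    rw [ha, Nat.Coprime.pow_left a ((Nat.coprime_primes hp hqF.out).2 (Nat.ne_of_gt hlt)), Nat.dvd_one,
      orderOf_eq_one_iff] at h3
    exact h3
  have h4 : g * (x * g⁻¹ * x⁻¹) = 1 := hc ▸ hc1
  calc x * g = (g * (x * g⁻¹ * x⁻¹))⁻¹ * g * x := by group
    _ = g * x := by rw [h4, inv_one, one_mul]

open Cfsg.Agent.Perm Cfsg.Agent.Fusion in
theorem isSupersolvable_of_smallPairs : ∀ (n : ℕ) (G : Type u) [Group G] [Finite G], Nat.card G ≤ n →
    SmallPairs G → Cfsg.IsSupersolvable G := by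
  intro n
  induction n with
  | zero => intro G _ _ h; have := Nat.card_pos (α := G); omega
  | succ n ih =>
    intro G _ _ hn h
    classical
    rcases subsingleton_or_nontrivial G with h' | h'
    · exact isSupersolvable_of_subsingleton
    -- the smallest prime gives a normal complement
    obtain ⟨q, hqdef⟩ : ∃ q, q = (Nat.card G).minFac := ⟨_, rfl⟩
    have hq : q.Prime := hqdef ▸ Nat.minFac_prime Finite.one_lt_card.ne'
    haveI := Fact.mk hq
    obtain ⟨S, hS⟩ := exists_sylIn (p := q) (⊤ : Subgroup G)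
    have hnpc : HasNormalPComplement q G := by
      refine hnpc_of_centralize hS fun Q hQS g hg hgq => ?_
      have key : ∀ m, ∀ y : G, orderOf y ≤ m → y ∈ Subgroup.normalizer (Q : Set G) → (orderOf y).Coprime q →
          ∀ u ∈ Q, y * u = u * y := by
        intro m
        induction m with
        | zero => intro y hy; have := orderOf_pos y; omega
        | succ m ihm =>
          intro y hy hyQ hyq u hu
          rcases eq_or_ne y 1 with rfl | hy1
          · simp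
          obtain ⟨r, hr, hrd⟩ := Nat.exists_prime_and_dvd (fun e => hy1 (orderOf_eq_one_iff.1 e))
          have hqr : q < r := by
            rcases Nat.lt_or_ge q r with h1 | h1
            · exact h1
            exfalso
            have h2 : q ≤ r := hqdef ▸ Nat.minFac_le_of_dvd hr.two_le (hrd.trans (orderOf_dvd_natCard y))
            have h3 : r = q := le_antisymm h1 h2
            subst h3
            exact hr.ne_one (Nat.eq_one_of_dvd_coprimes hyq hrd dvd_rfl)
          obtain ⟨k, l, hl, hkl⟩ := Nat.exists_eq_pow_mul_and_not_dvd (orderOf_pos y).ne' r hr.ne_one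
          have hk0 : k ≠ 0 := fun e => hl (by rw [e, pow_zero, one_mul] at hkl; exact hkl ▸ hrd)
          have hl0 : l ≠ 0 := fun e => hl (e ▸ dvd_zero r)
          have h1 : ∀ u ∈ Q, y ^ l * u = u * y ^ l := by
            refine centralizes_of_lt h hr hqr (hS.isPGroup.to_le hQS) (pow_mem hyQ l) ⟨k, ?_⟩
            rw [orderOf_pow_of_dvd hl0 (hkl ▸ dvd_mul_left _ _), hkl, Nat.mul_div_cancel _ (Nat.pos_of_ne_zero hl0)]
          have h2 : ∀ u ∈ Q, y ^ r ^ k * u = u * y ^ r ^ k := by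
            refine ihm _ ?_ (pow_mem hyQ _) (hyq.coprime_dvd_left (orderOf_pow_dvd _))
            have : orderOf (y ^ r ^ k) < orderOf y := by
              rw [orderOf_pow_of_dvd (pow_ne_zero _ hr.ne_zero) (hkl ▸ dvd_mul_right _ _)]
              exact Nat.div_lt_self (orderOf_pos y) (Nat.one_lt_pow hk0 hr.one_lt)
            omega
          obtain ⟨e, f, hef⟩ : ∃ e f : ℤ, (e * (l : ℤ)) + (f * ((r ^ k : ℕ) : ℤ)) = 1 :=
            Int.isCoprime_iff_nat_coprime.2 (by simpa using ((hr.coprime_iff_not_dvd.2 hl).pow_left k).symm)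
          have h3 : y = (y ^ l) ^ e * (y ^ r ^ k) ^ f := by
            rw [← zpow_natCast y l, ← zpow_natCast y (r ^ k), ← zpow_mul, ← zpow_mul, ← zpow_add,
              show (l : ℤ) * e + ((r ^ k : ℕ) : ℤ) * f = 1 by linarith, zpow_one]
          rw [h3]
          exact ((Commute.zpow_left (show Commute (y ^ l) u from h1 u hu) e).mul_left
            (Commute.zpow_left (show Commute (y ^ r ^ k) u from h2 u hu) f)).eq
      rw [Subgroup.mem_centralizer_iff]
      exact fun u hu => (key _ g le_rfl hg hgq u hu).symm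
    have hK := hnpc_iff.1 hnpc
    have hKne : pResidual q G ≠ ⊤ := fun e => by
      rw [e, Subgroup.card_top] at hK
      exact hq.ne_one (Nat.eq_one_of_dvd_coprimes hK (hqdef ▸ Nat.minFac_dvd _) dvd_rfl)
    have hsub : ∀ H : Subgroup G, H ≠ ⊤ → Cfsg.IsSupersolvable H := fun H hH =>
      ih H (by have := Solv.card_lt_of_ne_top hH; omega) (smallPairs_subgroup h H)
    have hquo : ∀ N : Subgroup G, ∀ [N.Normal], N ≠ ⊥ → Cfsg.IsSupersolvable (G ⧸ N) := fun N _ hN =>
      ih _ (by have := Solv.card_quotient_lt N hN; omega) (smallPairs_quotient h N)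
    have hsol : Group.IsSolvable G := by
      have h1 : Group.IsSolvable (pResidual q G) := by
        haveI := isNilpotent_commutator (hsub _ hKne)
        haveI : Group.IsSolvable (pResidual q G ⧸ commutator (pResidual q G)) :=
          Group.isSolvable_of_comm fun a b => @mul_comm (Abelianization (pResidual q G)) _ a b
        exact Group.isSolvable_of_ker_le_range (commutator (pResidual q G)).subtype
          (QuotientGroup.mk' (commutator (pResidual q G))) (by simp)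
      haveI := h1
      haveI : Group.IsSolvable (G ⧸ pResidual q G) :=
        haveI := (isPGroup_quotient_pResidual (p := q) (G := G)).isNilpotent
        inferInstance
      exact Group.isSolvable_of_ker_le_range (pResidual q G).subtype (QuotientGroup.mk' (pResidual q G))
        (by simp)
    refine isSupersolvable_of_coatom_index_prime fun M hM => ?_
    by_cases hex : ∃ N : Subgroup G, N.Normal ∧ N ≠ ⊥ ∧ N ≤ M
    · obtain ⟨N, hN, hN0, hNM⟩ := hex
      have h1 := coatom_index_prime (hquo N hN0) (M.map (QuotientGroup.mk' N)) (by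
        refine ⟨fun e => hM.1 ?_, fun X hX => ?_⟩
        · have h2 := congrArg (Subgroup.comap (QuotientGroup.mk' N)) e
          rwa [QuotientGroup.comap_map_mk', Subgroup.comap_top, sup_eq_right.2 hNM] at h2
        · have h2 : M < X.comap (QuotientGroup.mk' N) := by
            refine lt_of_le_of_ne (Subgroup.map_le_iff_le_comap.1 hX.le) fun e => hX.ne ?_
            rw [e, Subgroup.map_comap_eq_self_of_surjective (QuotientGroup.mk'_surjective N)]
          have h3 := congrArg (Subgroup.map (QuotientGroup.mk' N)) (hM.2 _ h2)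
          rwa [Subgroup.map_comap_eq_self_of_surjective (QuotientGroup.mk'_surjective N),
            Subgroup.map_top_of_surjective _ (QuotientGroup.mk'_surjective N)] at h3)
      rwa [Subgroup.index_map_eq _ (QuotientGroup.mk'_surjective N) (by rwa [QuotientGroup.ker_mk'])] at h1
    push Not at hex
    haveI := hsol
    obtain ⟨N, hNn, hN0, hNmin⟩ := Solv.exists_minimal_normal (G := G)
    haveI := hNn
    obtain ⟨hNc', p, hp, hNp, hNp'⟩ := Solv.minimal_normal_elementaryAbelian N (by infer_instance) hN0 hNmin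
    haveI := Fact.mk hp
    have hNc : ∀ a ∈ N, ∀ b ∈ N, a * b = b * a := fun a ha b hb =>
      congrArg Subtype.val (hNc'.1.1 ⟨a, ha⟩ ⟨b, hb⟩)
    have hNM : N ⊔ M = ⊤ := hM.2 _ (lt_of_le_of_ne le_sup_right fun e => hex N hNn hN0 (sup_eq_right.1 e.symm))
    have hdec : ∀ g : G, ∃ a ∈ N, ∃ m ∈ M, g = a * m := fun g => by
      obtain ⟨a, ha, m, hm, rfl⟩ := Subgroup.mem_sup_of_normal_left.1 (hNM.ge (Subgroup.mem_top g))
      exact ⟨a, ha, m, hm, rfl⟩
    have hnormal : ∀ S : Subgroup G, (∀ a ∈ N, ∀ s ∈ S, a * s * a⁻¹ ∈ S) →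
        (∀ m ∈ M, ∀ s ∈ S, m * s * m⁻¹ ∈ S) → S.Normal := fun S h1 h2 => ⟨fun s hs g => by
      obtain ⟨a, ha, m, hm, rfl⟩ := hdec g
      rw [show a * m * s * (a * m)⁻¹ = a * (m * s * m⁻¹) * a⁻¹ by group]
      exact h1 a ha _ (h2 m hm s hs)⟩
    have hinf : N ⊓ M = ⊥ := by
      by_contra hne
      refine hex (N ⊓ M) (hnormal _ (fun a ha s hs => ?_) (fun m hm s hs => ?_)) hne inf_le_right
      · obtain ⟨h1, h2⟩ := Subgroup.mem_inf.1 hs
        rw [hNc a ha s h1, mul_inv_cancel_right]; exact hs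
      · obtain ⟨h1, h2⟩ := Subgroup.mem_inf.1 hs
        exact Subgroup.mem_inf.2 ⟨hNn.conj_mem s h1 m, mul_mem (mul_mem hm h2) (inv_mem hm)⟩
    have hidx : M.index = Nat.card N := by
      have h1 := Solv.card_sup_of_inf_eq_bot N M hinf
      rw [hNM, Subgroup.card_top] at h1
      have h2 := Subgroup.index_mul_card M
      rw [h1] at h2
      exact Nat.eq_of_mul_eq_mul_right Nat.card_pos h2
    rw [hidx]
    -- the action of `M` is faithful
    have hfaith : ∀ m ∈ M, (∀ g ∈ N, m * g = g * m) → m = 1 := by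
      intro m hm hmc
      by_contra hm1
      have hC : (M ⊓ Subgroup.centralizer (N : Set G)).Normal := hnormal _
        (fun a ha s hs => by
          rw [Subgroup.mem_centralizer_iff.1 (Subgroup.mem_inf.1 hs).2 a ha, mul_inv_cancel_right]
          exact hs)
        (fun u hu s hs => Subgroup.mem_inf.2 ⟨mul_mem (mul_mem hu (Subgroup.mem_inf.1 hs).1) (inv_mem hu),
          (inferInstance : (Subgroup.centralizer (N : Set G)).Normal).conj_mem s (Subgroup.mem_inf.1 hs).2 u⟩)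
      refine hex _ hC (fun e => hm1 ?_) inf_le_left
      exact Subgroup.mem_bot.1 (e ▸ Subgroup.mem_inf.2 ⟨hm, Subgroup.mem_centralizer_iff.2 fun g hg => (hmc g hg).symm⟩)
    have hirr : ∀ S : Subgroup G, S ≤ N → (∀ m ∈ M, ∀ s ∈ S, m * s * m⁻¹ ∈ S) → S = ⊥ ∨ S = N := by
      intro S hSN hS'
      refine hNmin S (hnormal S (fun a ha s hs => ?_) hS') hSN
      rw [hNc a ha s (hSN hs), mul_inv_cancel_right]; exact hs
    have hMss := hsub M hM.1
    have hMp : ¬ p ∣ Nat.card M := by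
      intro hd
      haveI : Nontrivial M := Finite.one_lt_card_iff_nontrivial.1
        (lt_of_lt_of_le hp.one_lt (Nat.le_of_dvd Nat.card_pos hd))
      obtain ⟨r, hr, hrd, hrmax⟩ := exists_max_prime (Finite.one_lt_card (α := M))
      haveI := Fact.mk hr
      obtain ⟨R⟩ : Nonempty (Sylow r M) := inferInstance
      haveI hRn : (R : Subgroup M).Normal := sylow_normal_of_max hMss r hrmax R
      obtain ⟨y, hy⟩ := exists_prime_orderOf_dvd_card' (G := M) r hrd
      obtain ⟨Rg, hRg⟩ : ∃ Rg, Rg = (R : Subgroup M).map M.subtype := ⟨_, rfl⟩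
      have hyR : (y : G) ∈ Rg := by
        refine hRg ▸ ⟨y, ?_, rfl⟩
        have hyp : IsPGroup r (Subgroup.zpowers y) := IsPGroup.of_card (n := 1) (by rw [Nat.card_zpowers, hy, pow_one])
        rw [← R.is_maximal' (hyp.to_sup_of_normal_right R.isPGroup') le_sup_right]
        exact Subgroup.mem_sup_left (Subgroup.mem_zpowers y)
      rcases eq_or_lt_of_le (hrmax p hp hd) with hrp | hrp
      · -- `N R` is a `p`-group: some nontrivial element of `N` is centralized by `R`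
        subst hrp
        obtain ⟨T, hT⟩ : ∃ T, T = Rg ⊔ N := ⟨_, rfl⟩
        have hTp : IsPGroup p T := hT ▸ (hRg ▸ R.isPGroup'.map _ : IsPGroup p Rg).to_sup_of_normal_right hNp'
        haveI : Fact p.Prime := ⟨hp⟩
        obtain ⟨v, hv, hv1, hvc⟩ : ∃ v ∈ N, v ≠ 1 ∧ ∀ u ∈ Rg, u * v = v * u := by
          haveI : (N.subgroupOf T).Normal := Subgroup.Normal.subgroupOf hNn T
          have hne : N.subgroupOf T ≠ ⊥ := by
            rw [Ne, Subgroup.subgroupOf_eq_bot, disjoint_iff, inf_eq_left.2 (hT ▸ le_sup_right)]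
            exact hN0
          obtain ⟨v, hv, hvc, hvo⟩ := Solv.exists_central_order hTp (N.subgroupOf T) hne
          refine ⟨v, Subgroup.mem_subgroupOf.1 hv, fun e => ?_, fun u hu => ?_⟩
          · rw [show v = 1 from Subtype.ext e, orderOf_one] at hvo; exact hp.ne_one hvo.symm
          · exact congrArg Subtype.val (Subgroup.mem_center_iff.1 hvc ⟨u, hT ▸ Subgroup.mem_sup_left hu⟩)
        rcases hirr (N ⊓ Subgroup.centralizer (Rg : Set G)) inf_le_left (fun m hm s hs => by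
          obtain ⟨hs1, hs2⟩ := Subgroup.mem_inf.1 hs
          refine Subgroup.mem_inf.2 ⟨hNn.conj_mem s hs1 m, Subgroup.mem_centralizer_iff.2 fun u hu => ?_⟩
          rw [hRg] at hu hs2
          obtain ⟨u', hu', rfl⟩ := hu
          have h2 := Subgroup.mem_centralizer_iff.1 hs2 _
            ⟨⟨m, hm⟩⁻¹ * u' * ⟨m, hm⟩, by have h3 := hRn.conj_mem u' hu' ⟨m, hm⟩⁻¹; rw [inv_inv] at h3; exact h3, rfl⟩
          simp only [Subgroup.coe_subtype, Subgroup.coe_mul, Subgroup.coe_inv] at h2 ⊢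
          calc (u' : G) * (m * s * m⁻¹) = m * (m⁻¹ * (u' : G) * m * s) * m⁻¹ := by group
            _ = m * (s * (m⁻¹ * (u' : G) * m)) * m⁻¹ := by rw [h2]
            _ = m * s * m⁻¹ * u' := by group) with e | e
        · exact hv1 (Subgroup.mem_bot.1 (e ▸ Subgroup.mem_inf.2 ⟨hv,
            Subgroup.mem_centralizer_iff.2 fun u hu => hvc u hu⟩))
        · have hy1 := hfaith y y.2 fun g hg => Subgroup.mem_centralizer_iff.1
            ((Subgroup.mem_inf.1 (show g ∈ N ⊓ Subgroup.centralizer (Rg : Set G) by rw [e]; exact hg)).2) _ hyR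
          rw [← Subgroup.orderOf_coe, hy1, orderOf_one] at hy
          exact hr.ne_one hy.symm
      · have hy1 := hfaith y y.2 (centralizes_of_lt h hr hrp hNp'
          (Subgroup.normalizer_eq_top (H := N) ▸ Subgroup.mem_top _)
          ⟨1, by rw [pow_one, Subgroup.orderOf_coe, hy]⟩)
        rw [← Subgroup.orderOf_coe, hy1, orderOf_one] at hy
        exact hr.ne_one hy.symm
    rw [card_eq_prime N M hN0 hNc hNp (by rw [Subgroup.normalizer_eq_top]; exact le_top) hfaith hirr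
      (fun m hm hd => hMp (hd.trans (Subgroup.orderOf_dvd_natCard M hm))) hMss
      (fun x hx ⟨r, hr, k, hk⟩ g hg => ?_)]
    · exact hp
    rcases eq_or_ne r p with rfl | hrp
    · rcases k with _ | k
      · rw [pow_zero, orderOf_eq_one_iff] at hk
        rw [hk]; simp
      · exact absurd ((hk ▸ dvd_pow_self r k.succ_ne_zero).trans (Subgroup.orderOf_dvd_natCard M hx)) hMp
    · exact (conj_commutator_mem h hr hrp hNp' (Subgroup.normalizer_eq_top (H := N) ▸ Subgroup.mem_top x) ⟨k, hk⟩ hg).1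


/-- Let G be a finite group such that for every pair of distinct primes p and q, every p-element x and every q-element g of G, the order of the subgroup generated by x and g x g⁻¹ is not divisible by q². Then G is supersolvable. -/
theorem result {G : Type*} [Group G] [Finite G]
    (h : ∀ (p q : ℕ), p.Prime → q.Prime → p ≠ q → ∀ (x g : G), (∃ a : ℕ, orderOf x = p ^ a) → (∃ b : ℕ, orderOf g = q ^ b) →
      ¬ q ^ 2 ∣ Nat.card ↥(Subgroup.zpowers x ⊔ Subgroup.zpowers (g * x * g⁻¹))) :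
    Cfsg.IsSupersolvable G := by
  exact isSupersolvable_of_smallPairs (Nat.card G) G le_rfl h

end Cfsg.Agent.S3033
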