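import Cfsg.Statements.S3036
import Cfsg.Agent.Lib.Fusion.Basic
import Cfsg.Agent.Lib.Solv.SetMul
-- import your own Cfsg.Agent.* helpers here

set_option autoImplicit false
open Cfsg

open Cfsg.Agent Cfsg.Agent.Fusion

namespace Cfsg.Agent.S3036

open scoped Pointwise

/-- Let G be a finite non-abelian simple group and A a proper nontrivial subgroup of G. Then |G| > |A| · |C_G(A)|. In particular |G| > |A|² for every nontrivial abelian subgroup A of G. -/
theorem result {G : Type*} [Group G] [Finite G] [IsSimpleGroup G] (hG : ¬ IsMulCommutative G) (A : Subgroup G) (hA1 : A ≠ ⊥) (hA2 : A ≠ ⊤) : Nat.card A * Nat.card ↥(Subgroup.centralizer (A : Set G)) < Nat.card G := by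
  classical
  by_contra hcon
  push Not at hcon
  let m : Subgroup G → ℕ := fun X => Nat.card X * Nat.card ↥(Subgroup.centralizer (X : Set G))
  have hpos : ∀ X : Subgroup G, 0 < m X := fun X => Nat.mul_pos Nat.card_pos Nat.card_pos
  have hZ : Subgroup.center G = ⊥ := by
    rcases (inferInstance : (Subgroup.center G).Normal).eq_bot_or_eq_top with h | h
    · exact h
    · exact absurd ⟨⟨fun x y => Subgroup.mem_center_iff.1 (h ▸ Subgroup.mem_top y) x⟩⟩ hG
  have hbot : m ⊥ = Nat.card G := by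
    show Nat.card (⊥ : Subgroup G) * _ = _
    rw [Subgroup.card_bot, one_mul, show Subgroup.centralizer ((⊥ : Subgroup G) : Set G) = ⊤ from
      top_le_iff.1 fun g _ => Subgroup.mem_centralizer_iff.2 fun h hh => by
        rw [Subgroup.mem_bot.1 hh]; simp, Subgroup.card_top]
  letI : Fintype (Subgroup G) := Fintype.ofFinite _
  obtain ⟨Y, -, hY⟩ := Finset.exists_max_image (Finset.univ : Finset (Subgroup G)) m ⟨⊥, Finset.mem_univ _⟩
  set M := m Y with hMdef
  have hmax : ∀ X, m X ≤ M := fun X => hY X (Finset.mem_univ _)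
  -- cardinality of products
  have hprod : ∀ X Z : Subgroup G, Nat.card X * Nat.card Z =
      Nat.card ↥(X ⊓ Z) * Set.ncard ((X : Set G) * (Z : Set G)) := fun X Z => by
      rw [← Solv.card_mul_set_mul_card_inf X Z, Nat.card_coe_set_eq, mul_comm]
  have hlat : ∀ X Z, m X = M → m Z = M → m (X ⊓ Z) = M ∧ m (X ⊔ Z) = M ∧
      ((X : Set G) * (Z : Set G)) = ((X ⊔ Z : Subgroup G) : Set G) := by
    intro X Z hX hZ'
    obtain ⟨C, hC⟩ : ∃ C, C = Subgroup.centralizer (X : Set G) := ⟨_, rfl⟩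
    obtain ⟨E, hE⟩ : ∃ E, E = Subgroup.centralizer (Z : Set G) := ⟨_, rfl⟩
    have hsup : Subgroup.centralizer ((X ⊔ Z : Subgroup G) : Set G) = C ⊓ E := by
      rw [hC, hE]
      refine le_antisymm (le_inf (Subgroup.centralizer_le (show (X : Set G) ⊆ _ from (le_sup_left : X ≤ X ⊔ Z)))
        (Subgroup.centralizer_le (show (Z : Set G) ⊆ _ from (le_sup_right : Z ≤ X ⊔ Z)))) ?_
      rw [Subgroup.le_centralizer_iff]
      exact sup_le (Subgroup.le_centralizer_iff.1 inf_le_left) (Subgroup.le_centralizer_iff.1 inf_le_right)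
    have hinf : C ⊔ E ≤ Subgroup.centralizer ((X ⊓ Z : Subgroup G) : Set G) := by
      rw [hC, hE]
      exact sup_le (Subgroup.centralizer_le (show ((X ⊓ Z : Subgroup G) : Set G) ⊆ X from (inf_le_left : X ⊓ Z ≤ X)))
        (Subgroup.centralizer_le (show ((X ⊓ Z : Subgroup G) : Set G) ⊆ Z from (inf_le_right : X ⊓ Z ≤ Z)))
    have hsub : ∀ P Q : Subgroup G, Set.ncard ((P : Set G) * (Q : Set G)) ≤ Nat.card ↥(P ⊔ Q) := fun P Q => by
      have h : (P : Set G) * (Q : Set G) ⊆ ((P ⊔ Q : Subgroup G) : Set G) := by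
        rintro _ ⟨a, ha, b, hb, rfl⟩
        exact mul_mem (Subgroup.mem_sup_left ha) (Subgroup.mem_sup_right hb)
      exact (Set.ncard_le_ncard h (Set.toFinite _)).trans_eq (Nat.card_coe_set_eq _).symm
    have e1 := hprod X Z
    have e2 := hprod C E
    have key : M * M ≤ m (X ⊔ Z) * m (X ⊓ Z) := by
      calc M * M = (Nat.card X * Nat.card C) * (Nat.card Z * Nat.card E) := by rw [hC, hE]; exact (congrArg₂ (· * ·) hX hZ').symm
        _ = (Nat.card X * Nat.card Z) * (Nat.card C * Nat.card E) := by ring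
        _ = (Set.ncard ((X : Set G) * (Z : Set G)) * Nat.card ↥(C ⊓ E)) *
            (Nat.card ↥(X ⊓ Z) * Set.ncard ((C : Set G) * (E : Set G))) := by rw [e1, e2]; ring
        _ ≤ m (X ⊔ Z) * m (X ⊓ Z) := by
            refine Nat.mul_le_mul (Nat.mul_le_mul (hsub X Z) (le_of_eq (by rw [hsup])))
              (Nat.mul_le_mul le_rfl ((hsub C E).trans (Subgroup.card_le_of_le hinf)))
    have h1 := hmax (X ⊔ Z)
    have h2 := hmax (X ⊓ Z)
    have hMp : 0 < M := hpos Y
    have h3 : m (X ⊔ Z) = M := le_antisymm h1 (by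
      by_contra hlt; push Not at hlt
      exact absurd (key.trans_lt (Nat.mul_lt_mul_of_lt_of_le hlt h2 hMp)) (lt_irrefl _))
    have h4 : m (X ⊓ Z) = M := le_antisymm h2 (Nat.le_of_mul_le_mul_left (h3 ▸ key) hMp)
    refine ⟨h4, h3, Set.eq_of_subset_of_ncard_le ?_ ?_ (Set.toFinite _)⟩
    · rintro _ ⟨a, ha, b, hb, rfl⟩
      exact mul_mem (Subgroup.mem_sup_left ha) (Subgroup.mem_sup_right hb)
    · by_contra hlt
      push Not at hlt
      have hlt' : Set.ncard ((X : Set G) * (Z : Set G)) < Nat.card ↥(X ⊔ Z) :=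
        hlt.trans_eq (Nat.card_coe_set_eq _).symm
      have : M * M < m (X ⊔ Z) * m (X ⊓ Z) := by
        calc M * M = (Nat.card X * Nat.card C) * (Nat.card Z * Nat.card E) := by rw [hC, hE]; exact (congrArg₂ (· * ·) hX hZ').symm
          _ = (Nat.card X * Nat.card Z) * (Nat.card C * Nat.card E) := by ring
          _ = (Set.ncard ((X : Set G) * (Z : Set G)) * Nat.card ↥(C ⊓ E)) *
              (Nat.card ↥(X ⊓ Z) * Set.ncard ((C : Set G) * (E : Set G))) := by rw [e1, e2]; ring
          _ < m (X ⊔ Z) * m (X ⊓ Z) := by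
              refine Nat.mul_lt_mul_of_lt_of_le ?_ (Nat.mul_le_mul le_rfl ((hsub C E).trans (Subgroup.card_le_of_le hinf))) (hpos _)
              show _ < Nat.card ↥(X ⊔ Z) * _
              rw [hsup]
              exact Nat.mul_lt_mul_of_pos_right hlt' Nat.card_pos
      rw [h3, h4] at this
      exact lt_irrefl _ this
  have hconj : ∀ (X : Subgroup G) (g : G), m (cj X g) = m X := fun X g => by
    show Nat.card _ * Nat.card _ = _
    rw [← cj_centralizer, card_cj, card_cj]
  -- the least member is trivial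
  obtain ⟨X, hX, hXmin⟩ := Finset.exists_min_image (Finset.univ.filter fun X => m X = M)
    (fun X : Subgroup G => Nat.card X) ⟨Y, Finset.mem_filter.2 ⟨Finset.mem_univ _, rfl⟩⟩
  have hXM : m X = M := (Finset.mem_filter.1 hX).2
  have hXle : ∀ Z, m Z = M → X ≤ Z := fun Z hZ' => by
    have h := (hlat X Z hXM hZ').1
    exact inf_eq_left.1 (Subgroup.eq_of_le_of_card_ge inf_le_left
      (hXmin _ (Finset.mem_filter.2 ⟨Finset.mem_univ _, h⟩)))
  have hXn : X.Normal := normal_iff_cj.2 fun g =>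
    (Subgroup.eq_of_le_of_card_ge (hXle _ ((hconj X g).trans hXM)) (card_cj X g).le).symm
  have htop : m ⊤ = Nat.card G := by
    show Nat.card (⊤ : Subgroup G) * _ = _
    rw [Subgroup.card_top, Subgroup.coe_top, Subgroup.centralizer_univ, hZ, Subgroup.card_bot, mul_one]
  have hMG : M = Nat.card G := by
    rcases hXn.eq_bot_or_eq_top with h | h
    · rw [← hXM, h, hbot]
    · rw [← hXM, h, htop]
  have hAM : m A = M := le_antisymm (hmax A) (hMG ▸ hcon)
  obtain ⟨W, hW, hWmax⟩ := Finset.exists_max_image (Finset.univ.filter fun X => m X = M ∧ A ≤ X ∧ X ≠ ⊤)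
    (fun X : Subgroup G => Nat.card X) ⟨A, Finset.mem_filter.2 ⟨Finset.mem_univ _, hAM, le_rfl, hA2⟩⟩
  obtain ⟨hWM, hAW, hWtop⟩ := (Finset.mem_filter.1 hW).2
  have hWn : W.Normal := normal_iff_cj.2 fun g => by
    obtain ⟨-, hs, hset⟩ := hlat W (cj W g) hWM ((hconj W g).trans hWM)
    by_cases hst : W ⊔ cj W g = ⊤
    · exfalso
      have hg : g⁻¹ ∈ (W : Set G) * (cj W g : Set G) := by rw [hset, hst]; trivial
      obtain ⟨a, ha, b, hb, hab⟩ := hg
      rw [SetLike.mem_coe, mem_cj] at hb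
      have hgW : g ∈ W := by
        have hab' : a * b = g⁻¹ := hab
        have : a⁻¹ * (g⁻¹ * b * g)⁻¹ = g := by
          calc a⁻¹ * (g⁻¹ * b * g)⁻¹ = a⁻¹ * g⁻¹ * b⁻¹ * g := by group
            _ = a⁻¹ * (a * b) * b⁻¹ * g := by rw [hab']
            _ = g := by group
        rw [← this]
        exact mul_mem (inv_mem ha) (inv_mem hb)
      rw [cj_eq_self_of_mem hgW, sup_idem] at hst
      exact hWtop hst
    · have h := Subgroup.eq_of_le_of_card_ge (le_sup_left : W ≤ W ⊔ cj W g)
        (hWmax _ (Finset.mem_filter.2 ⟨Finset.mem_univ _, hs, hAW.trans le_sup_left, hst⟩))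
      exact Subgroup.eq_of_le_of_card_ge (h.ge.trans' le_sup_right) (card_cj W g).ge
  rcases hWn.eq_bot_or_eq_top with h | h
  · exact hA1 (le_bot_iff.1 (h ▸ hAW))
  · exact hWtop h

end Cfsg.Agent.S3036
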