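import Cfsg.Statements.S3037
import Cfsg.Agent.Lib.Fusion.Basic
import Cfsg.Agent.Lib.Fusion.Timmesfeld
-- import your own Cfsg.Agent.* helpers here

set_option autoImplicit false
open Cfsg

namespace Cfsg.Agent.S3037

open Cfsg.Agent.Fusion
open scoped Pointwise

/-- Let V and G be subgroups of a finite group with V an elementary abelian p-group (p prime) on which G acts faithfully and irreducibly by conjugation: G normalizes V, G ∩ C(V) = 1, and the only subgroups of V normalized by G are 1 and V. If for some nontrivial subgroup A of G and some real α > 0 one has |V| ≤ |A|^α · |C_V(A)|, then |V| ≤ |G|^α. -/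
theorem card_mul_le {X : Type*} [Group X] [Finite X] (H K : Subgroup X) :
    Nat.card H * Nat.card K ≤ Nat.card ↥(H ⊔ K) * Nat.card ↥(H ⊓ K) := by
  rw [← Cfsg.Agent.Solv.card_mul_set_mul_card_inf]
  refine Nat.mul_le_mul_right _ (Nat.card_mono (Set.toFinite _) ?_)
  rintro _ ⟨a, ha, b, hb, rfl⟩
  exact mul_mem (Subgroup.mem_sup_left ha) (Subgroup.mem_sup_right hb)

theorem result {X : Type*} [Group X] [Finite X] {p : ℕ} [Fact p.Prime] (V G : Subgroup X) (hV : Cfsg.IsElementaryAbelian p V)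
    (hGV : G ≤ Subgroup.normalizer (V : Set X)) (hfaith : G ⊓ Subgroup.centralizer (V : Set X) = ⊥)
    (hirr : ∀ W : Subgroup X, W ≤ V → G ≤ Subgroup.normalizer (W : Set X) → W = ⊥ ∨ W = V)
    (A : Subgroup X) (hA : A ≤ G) (hA1 : A ≠ ⊥) (α : ℝ) (hα : 0 < α)
    (hbig : (Nat.card V : ℝ) ≤ (Nat.card A : ℝ) ^ α * (Nat.card ↥(V ⊓ Subgroup.centralizer (A : Set X)) : ℝ)) :
    (Nat.card V : ℝ) ≤ (Nat.card G : ℝ) ^ α := by
  classical
  haveI := Fintype.ofFinite (Subgroup X)
  let f : Subgroup X → ℝ := fun Y => (Nat.card Y : ℝ) ^ α * (Nat.card ↥(V ⊓ Subgroup.centralizer (Y : Set X)) : ℝ)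
  have hpos : ∀ Y : Subgroup X, (0 : ℝ) < Nat.card Y := fun Y => by exact_mod_cast Nat.card_pos
  have hfpos : ∀ Y, 0 < f Y := fun Y => mul_pos (Real.rpow_pos_of_pos (hpos Y) α) (by exact_mod_cast Nat.card_pos)
  let cand : Finset (Subgroup X) := Finset.univ.filter fun Y => Y ≤ G
  obtain ⟨Y₀, hY₀, hmax⟩ := cand.exists_max_image f ⟨A, by simp [cand, hA]⟩
  let top : Finset (Subgroup X) := cand.filter fun Y => f Y = f Y₀
  obtain ⟨Y, hY, hYbig⟩ := top.exists_max_image (fun Y => Nat.card Y) ⟨Y₀, by simp [top, hY₀]⟩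
  simp only [top, cand, Finset.mem_filter, Finset.mem_univ, true_and] at hY hYbig hmax hY₀
  obtain ⟨hYG, hYf⟩ := hY
  have hY1 : Y ≠ ⊥ := by
    intro h0
    have hfA : f Y₀ ≤ f A := by
      rw [← hYf, h0]
      simp only [f]
      rw [show (V ⊓ Subgroup.centralizer ((⊥ : Subgroup X) : Set X)) = V by
        refine inf_eq_left.2 fun v _ => ?_
        rw [Subgroup.mem_centralizer_iff]
        intro y hy
        rw [Subgroup.mem_bot.1 hy]; simp, Subgroup.card_bot, Nat.cast_one, Real.one_rpow, one_mul]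
      exact hbig
    have := hYbig A ⟨hA, le_antisymm (hmax A hA) hfA⟩
    rw [h0, Subgroup.card_bot] at this
    exact hA1 (Subgroup.eq_bot_of_card_eq A (le_antisymm this Nat.card_pos))
  have hnorm : ∀ g ∈ G, cj Y g = Y := by
    intro g hg
    have hgG : cj Y g ≤ G := (cj_mono hYG g).trans (cj_eq_self_of_mem hg).le
    have hgC : V ⊓ Subgroup.centralizer (cj Y g : Set X) = cj (V ⊓ Subgroup.centralizer (Y : Set X)) g := by
      rw [cj_inf, cj_eq_self (hGV hg), cj_centralizer]
    set Z := cj Y g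
    have hfZ : f Z = f Y := by simp only [f, Z, hgC, card_cj]
    set J := Y ⊔ Z
    set I := Y ⊓ Z
    have hc1 : (Nat.card Y : ℝ) * Nat.card Z ≤ Nat.card J * Nat.card I := by
      have := card_mul_le Y Z
      exact_mod_cast this
    have hab := hV.1
    set cY := V ⊓ Subgroup.centralizer (Y : Set X)
    set cZ := V ⊓ Subgroup.centralizer (Z : Set X)
    have hc2 : (Nat.card cY : ℝ) * Nat.card cZ ≤
        Nat.card ↥(V ⊓ Subgroup.centralizer (J : Set X)) * Nat.card ↥(V ⊓ Subgroup.centralizer (I : Set X)) := by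
      have hJ : cY ⊓ cZ ≤ V ⊓ Subgroup.centralizer (J : Set X) := by
        refine le_inf (inf_le_left.trans inf_le_left) ?_
        rw [Subgroup.le_centralizer_iff]
        refine sup_le ?_ ?_ <;> rw [Subgroup.le_centralizer_iff]
        · exact inf_le_left.trans inf_le_right
        · exact inf_le_right.trans inf_le_right
      have hI : cY ⊔ cZ ≤ V ⊓ Subgroup.centralizer (I : Set X) :=
        sup_le (inf_le_inf_left _ (Subgroup.centralizer_le (inf_le_left : I ≤ Y)))
          (inf_le_inf_left _ (Subgroup.centralizer_le (inf_le_right : I ≤ Z)))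
      have h1 := card_mul_le cY cZ
      have h2 := Nat.mul_le_mul (Subgroup.card_le_of_le hI) (Subgroup.card_le_of_le hJ)
      rw [mul_comm (Nat.card ↥(V ⊓ Subgroup.centralizer (J : Set X)) : ℝ)]
      exact_mod_cast h1.trans h2
    have hsub : f Y * f Z ≤ f J * f I := by
      simp only [f]
      rw [mul_mul_mul_comm, mul_mul_mul_comm ((Nat.card J : ℝ) ^ α), ← Real.mul_rpow (hpos Y).le (hpos Z).le,
        ← Real.mul_rpow (hpos J).le (hpos I).le]
      exact mul_le_mul (Real.rpow_le_rpow (mul_pos (hpos Y) (hpos Z)).le hc1 hα.le) hc2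
        (by positivity) (by positivity)
    have hJle : J ≤ G := sup_le hYG hgG
    have hJmax : f J = f Y₀ := by
      refine le_antisymm (hmax J hJle) ?_
      have h3 : f J * f I ≤ f J * f Y₀ := mul_le_mul_of_nonneg_left (hmax I (inf_le_left.trans hYG)) (hfpos J).le
      rw [hfZ, hYf] at hsub
      exact le_of_mul_le_mul_right (hsub.trans h3) (hfpos Y₀)
    have hJY : Y = J := Subgroup.eq_of_le_of_card_ge le_sup_left (hYbig J ⟨hJle, hJmax⟩)
    exact Subgroup.eq_of_le_of_card_ge (hJY ▸ le_sup_right) (card_cj Y g).ge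
  have hW : G ≤ Subgroup.normalizer ((V ⊓ Subgroup.centralizer (Y : Set X) : Subgroup X) : Set X) := fun g hg =>
    mem_normalizer_iff_cj.2 (by rw [cj_inf, cj_eq_self (hGV hg), cj_centralizer, hnorm g hg])
  rcases hirr _ inf_le_left hW with h | h
  · have hfY : (Nat.card V : ℝ) ≤ f Y := by rw [hYf]; exact hbig.trans (hmax A hA)
    simp only [f] at hfY
    rw [h, Subgroup.card_bot, Nat.cast_one, mul_one] at hfY
    exact hfY.trans (Real.rpow_le_rpow (hpos Y).le (by exact_mod_cast Subgroup.card_le_of_le hYG) hα.le)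
  · exfalso
    refine hY1 (le_bot_iff.1 (hfaith ▸ le_inf hYG ?_))
    rw [Subgroup.le_centralizer_iff]
    exact inf_eq_left.1 h

end Cfsg.Agent.S3037
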