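import Cfsg.Statements.S3038
import Cfsg.Agent.Lib.LocalEven.IsolatedSylow.Main

set_option autoImplicit false
open Cfsg

namespace Cfsg.Agent.S3038

/-- Let G be a finite group and p an odd prime with O_{p'}(G) = 1. Suppose that G has p-rank at most 2 and that some element x of order p is isolated in G and not central. Then F*(G) is a non-abelian simple group, and for every Sylow p-subgroup P of F*(G), either no conjugate of x lies in P and P is cyclic, or some conjugate of x lies in P and either P is extraspecial of order p³ and exponent p, or p = 3 and P has order 3^{2k+1} for some k ≥ 2 and is of maximal class (nilpotency class 2k). Since O_{p'}(G) = 1, such an x is not central modulo O_{p'}(G): the hypotheses describe a counterexample to the Z*_p statement in p-rank at most 2, and the conclusion records the structure it would have. -/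
theorem result {G : Type*} [Group G] [Finite G] {p : ℕ} [Fact p.Prime] (hp : p ≠ 2) (hcore : Cfsg.pPrimeCore p G = ⊥)
    (hrank : Cfsg.PRankLE p 2 G) (x : G) (hx : orderOf x = p) (hiso : Cfsg.IsIsolated x) (hnc : x ∉ Subgroup.center G) :
    IsSimpleGroup ↥(Cfsg.generalizedFittingSubgroup G) ∧ ¬ IsMulCommutative ↥(Cfsg.generalizedFittingSubgroup G) ∧
    ∀ P : Sylow p ↥(Cfsg.generalizedFittingSubgroup G),
      ((∀ g : G, g * x * g⁻¹ ∉ ((P : Subgroup ↥(Cfsg.generalizedFittingSubgroup G)).map (Cfsg.generalizedFittingSubgroup G).subtype)) ∧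
          IsCyclic ↥(P : Subgroup ↥(Cfsg.generalizedFittingSubgroup G))) ∨
      ((∃ g : G, g * x * g⁻¹ ∈ ((P : Subgroup ↥(Cfsg.generalizedFittingSubgroup G)).map (Cfsg.generalizedFittingSubgroup G).subtype)) ∧
        ((Cfsg.IsExtraspecial p ↥(P : Subgroup ↥(Cfsg.generalizedFittingSubgroup G)) ∧
            Nat.card (P : Subgroup ↥(Cfsg.generalizedFittingSubgroup G)) = p ^ 3 ∧
            ∀ y ∈ (P : Subgroup ↥(Cfsg.generalizedFittingSubgroup G)), y ^ p = 1) ∨
         (p = 3 ∧ ∃ k : ℕ, 2 ≤ k ∧ Nat.card (P : Subgroup ↥(Cfsg.generalizedFittingSubgroup G)) = 3 ^ (2 * k + 1) ∧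
            ∃ _ : Group.IsNilpotent ↥(P : Subgroup ↥(Cfsg.generalizedFittingSubgroup G)),
              Group.nilpotencyClass ↥(P : Subgroup ↥(Cfsg.generalizedFittingSubgroup G)) = 2 * k))) := by
  classical
  obtain ⟨hsimp, hnab⟩ := LocalEven.IsolatedRankTwo.gfit_simple hp hcore hrank x hx hiso hnc
  refine ⟨hsimp, hnab, fun P => ?_⟩
  haveI hFn : (Cfsg.generalizedFittingSubgroup G).Normal := Local.gfit_normal
  generalize Cfsg.generalizedFittingSubgroup G = F at hsimp hnab P hFn ⊢
  haveI := hsimp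
  have hperf : commutator F = ⊤ := by
    rcases hsimp.eq_bot_or_eq_top_of_normal (commutator F) inferInstance with h | h
    · refine absurd ⟨⟨fun a b => ?_⟩⟩ hnab
      refine commutatorElement_eq_one_iff_mul_comm.1 (Subgroup.mem_bot.1 (h ▸ ?_))
      rw [commutator_def]
      exact Subgroup.commutator_mem_commutator (Subgroup.mem_top a) (Subgroup.mem_top b)
    · exact h
  obtain ⟨S, hPS⟩ := (P.2.map F.subtype).exists_le_sylow
  obtain ⟨S₀, hxS₀⟩ := (LocalEven.isPGroup_zpowers (p := p) ⟨1, by rw [pow_one]; exact hx⟩ :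
    IsPGroup p (Subgroup.zpowers x)).exists_le_sylow
  obtain ⟨g₀, hg₀⟩ := MulAction.exists_smul_eq G S₀ S
  obtain ⟨y, hy⟩ : ∃ y, y = g₀ * x * g₀⁻¹ := ⟨_, rfl⟩
  have hyS : y ∈ (S : Subgroup G) := by
    rw [← hg₀, hy, Sylow.coe_subgroup_smul]
    exact Subgroup.mem_map_of_mem _ (hxS₀ (Subgroup.mem_zpowers x))
  have hyo : orderOf y = p := by
    rw [hy, ← MulAut.conj_apply, MulEquiv.orderOf_eq, hx]
  have hyiso : Cfsg.IsIsolated y := by
    intro g hg
    have h1 := hiso (g₀⁻¹ * g * g₀) (by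
      have h2 := congrArg (fun t => g₀⁻¹ * t * g₀) hg
      simp only [hy] at h2
      refine (commute_iff_eq _ _).2 ?_
      simpa only [mul_inv_rev, inv_inv, mul_assoc, inv_mul_cancel_left, mul_inv_cancel_left, inv_mul_cancel,
        mul_one] using h2)
    have h2 := congrArg (fun t => g₀ * t * g₀⁻¹) h1
    simp only [mul_inv_rev, inv_inv, mul_assoc, inv_mul_cancel_left, mul_inv_cancel_left, mul_inv_cancel,
      mul_one] at h2
    simp only [hy, mul_inv_rev, inv_inv, mul_assoc]
    exact h2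
  have hSy : ∀ s ∈ (S : Subgroup G), Commute s y := fun s hs =>
    Subgroup.mem_centralizer_singleton_iff.1 (LocalEven.pgroup_le_centralizer_of_isolated hyiso S.2 hyS hs)
  by_cases hyF : y ∈ F
  · have hyP : (⟨y, hyF⟩ : F) ∈ (P : Subgroup F) := by
      have he := P.is_maximal' (S.2.comap_of_injective F.subtype F.subtype_injective)
        (fun a ha => hPS ⟨a, ha, rfl⟩)
      exact he ▸ (show ((⟨y, hyF⟩ : F) : G) ∈ (S : Subgroup G) from hyS)
    refine Or.inr ⟨⟨g₀, ⟨⟨y, hyF⟩, hyP, hy⟩⟩, ?_⟩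
    have hset : LocalEven.IsolatedSylow.Setting F p (P : Subgroup F) ⟨y, hyF⟩ :=
      { hp2 := hp
        perf := hperf
        rank := Solv.RankTwo.prankLE_of_injective F.subtype F.subtype_injective hrank
        syl := Fusion.sylIn_top P
        order := by rw [← Subgroup.orderOf_coe]; exact hyo
        mem := hyP
        cen := fun b hb => Subtype.ext (hSy b (hPS ⟨b, hb, rfl⟩)).eq
        fixed := fun g hg => Subtype.ext (LocalEven.conj_eq_of_isolated hyiso S.2 hyS (g := (g : G))
          (hPS ⟨_, hg, rfl⟩)) }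
    exact hset.struct
  refine Or.inl ⟨fun g hg => hyF ?_, ?_⟩
  · have hgF : g * x * g⁻¹ ∈ F := Subgroup.map_subtype_le _ hg
    have := hFn.conj_mem _ hgF (g₀ * g⁻¹)
    rw [show g₀ * g⁻¹ * (g * x * g⁻¹) * (g₀ * g⁻¹)⁻¹ = g₀ * x * g₀⁻¹ by group, ← hy] at this
    exact this
  by_contra hnc
  obtain ⟨E, hE⟩ := Solv.RankTwo.exists_frame hp P.2
    (Solv.RankTwo.prankLE_of_injective (F.subtype.comp (P : Subgroup F).subtype)
      (fun a b e => (P : Subgroup F).subtype_injective (F.subtype_injective e)) hrank) hnc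
  have hp1 := (Fact.out : p.Prime).one_lt
  obtain ⟨a, haE, ha1⟩ : ∃ a ∈ E, a ≠ 1 := by
    by_contra hh
    push Not at hh
    have := hE.card
    rw [show E = ⊥ from (Subgroup.eq_bot_iff_forall _).2 hh, Subgroup.card_bot] at this
    exact (Nat.one_lt_pow two_ne_zero hp1).ne this
  obtain ⟨b, hbE, hba⟩ : ∃ b ∈ E, b ∉ Subgroup.zpowers a := by
    by_contra hh
    push Not at hh
    have h1 := Subgroup.card_le_of_le (show E ≤ Subgroup.zpowers a from hh)
    rw [hE.card, Nat.card_zpowers] at h1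
    have h2 := Nat.le_of_dvd (Fact.out : p.Prime).pos (orderOf_dvd_of_pow_eq_one (hE.exp a haE))
    nlinarith
  have hb1 : b ≠ 1 := fun e => hba (e ▸ one_mem _)
  have hmem : ∀ v : (P : Subgroup F), ((v : F) : G) ∈ (S : Subgroup G) := fun v => hPS ⟨v, v.2, rfl⟩
  have hordG : ∀ v : (P : Subgroup F), v ∈ E → v ≠ 1 → orderOf ((v : F) : G) = p := fun v hv hv1 => by
    rw [Subgroup.orderOf_coe, Subgroup.orderOf_coe]
    exact orderOf_eq_prime (hE.exp v hv) hv1
  obtain ⟨i, j, hij⟩ := LocalEven.IsolatedRankTwo.mem_closure_of_rank hrank (hordG b hbE hb1) (hordG a haE ha1)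
    hyo (congrArg (fun v : (P : Subgroup F) => ((v : F) : G)) (hE.comm b hbE a haE)) (hSy _ (hmem b))
    (hSy _ (hmem a)) (by
      rintro ⟨k, hk⟩
      refine hba ⟨k, Subtype.ext (Subtype.ext ?_)⟩
      simpa using hk)
  exact hyF (hij ▸ mul_mem (zpow_mem (b : F).2 i) (zpow_mem (a : F).2 j))
end Cfsg.Agent.S3038
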