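import Cfsg.Statements.S3043
import Cfsg.Agent.Lib.Solv.TICount.Action
import Cfsg.Agent.Lib.Solv.TICount.Sharp

set_option autoImplicit false
open Cfsg Cfsg.Agent.Solv

namespace Cfsg.Agent.S3043

/-- Let M be a nontrivial subgroup of a finite group G meeting each of its other conjugates trivially, with N_G(M) = M · C_{N_G(M)}(z) for some involution z ∈ N_G(M), and with C_G(x) of odd order for every nontrivial x ∈ M. Then one of the following holds: M is normal in G; the number of involutions of G is at most |G : M|; G is isomorphic to PGL₂(F) or to PSL₂(F) for a finite field F with |F| = |M|, M is an elementary abelian p-group for the characteristic p of F, and |F| ≡ 1 (mod 4) in the PSL₂ case; G is isomorphic to PSL₂(F) with |F| = 2^e, e > 1, and M is cyclic of order 2^e + 1; or for some d ≥ 1, G has an elementary abelian normal subgroup of order 2^{2d} complemented by N_G(M), and N_G(M) is dihedral of order 2(2^d + 1). -/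
theorem result {G : Type*} [Group G] [Finite G] (M : Subgroup G) (hM1 : M ≠ ⊥)
    (hTI : ∀ g : G, M ⊓ M.map (MulAut.conj g).toMonoidHom ≠ ⊥ → M.map (MulAut.conj g).toMonoidHom = M)
    (z : G) (hz : orderOf z = 2) (hzN : z ∈ Subgroup.normalizer (M : Set G))
    (hfac : M ⊔ (Subgroup.normalizer (M : Set G) ⊓ Subgroup.centralizer ({z} : Set G)) = Subgroup.normalizer (M : Set G))
    (hodd : ∀ x ∈ M, x ≠ 1 → Odd (Nat.card ↥(Subgroup.centralizer ({x} : Set G)))) :
    M.Normal ∨
    Nat.card {g : G // orderOf g = 2} ≤ M.index ∨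
    (∃ (F : Type) (_ : Field F) (_ : Fintype F) (p : ℕ) (_ : Fact p.Prime) (_ : CharP F p), Fintype.card F = Nat.card M ∧ Cfsg.IsElementaryAbelian p M ∧
        (Nonempty (G ≃* (GL (Fin 2) F ⧸ Subgroup.center (GL (Fin 2) F))) ∨
         (Fintype.card F % 4 = 1 ∧ Nonempty (G ≃* Matrix.ProjectiveSpecialLinearGroup (Fin 2) F)))) ∨
    (∃ (F : Type) (_ : Field F) (_ : Fintype F) (e : ℕ), 1 < e ∧ Fintype.card F = 2 ^ e ∧ IsCyclic ↥M ∧ Nat.card M = 2 ^ e + 1 ∧
        Nonempty (G ≃* Matrix.ProjectiveSpecialLinearGroup (Fin 2) F)) ∨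
    (∃ (d : ℕ) (E : Subgroup G), 1 ≤ d ∧ E.Normal ∧ Cfsg.IsElementaryAbelian 2 E ∧ Nat.card E = 2 ^ (2 * d) ∧
        E ⊓ Subgroup.normalizer (M : Set G) = ⊥ ∧ E ⊔ Subgroup.normalizer (M : Set G) = ⊤ ∧
        Nonempty (↥(Subgroup.normalizer (M : Set G)) ≃* DihedralGroup (2 ^ d + 1))) := by
  classical
  by_cases hn : M.Normal
  · exact Or.inl hn
  by_cases hcnt : Nat.card {g : G // orderOf g = 2} ≤ M.index
  · exact Or.inr (Or.inl hcnt)
  obtain ⟨hzz, hz1⟩ := TICount.orderOf_two.1 hz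
  have C : TICount.Ctx M z :=
    { ne := hM1
      ti := fun g x hx hx1 hg => by
        have hmem : g * x * g⁻¹ ∈ M ⊓ M.map (MulAut.conj g).toMonoidHom :=
          Subgroup.mem_inf.2 ⟨hg, Subgroup.mem_map.2 ⟨x, hx, rfl⟩⟩
        have heq := hTI g (fun e => hx1 (by
          rw [e, Subgroup.mem_bot] at hmem
          calc x = g⁻¹ * (g * x * g⁻¹) * g := by group
            _ = 1 := by rw [hmem]; group))
        refine Subgroup.mem_normalizer_iff.2 fun y => ⟨fun hy => ?_, fun hy => ?_⟩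
        · rw [← heq]; exact Subgroup.mem_map.2 ⟨y, hy, rfl⟩
        · rw [← heq, Subgroup.mem_map] at hy
          obtain ⟨w, hw, he⟩ := hy
          have : g * w * g⁻¹ = g * y * g⁻¹ := he
          exact (mul_left_cancel (mul_right_cancel this)) ▸ hw
      zz := hzz
      z1 := hz1
      zN := hzN
      fac := fun n hn' => by
        rw [TICount.Nm, ← hfac, ← SetLike.mem_coe,
          Subgroup.coe_mul_of_right_le_normalizer_left M _ inf_le_left] at hn'
        obtain ⟨x, hx, d, hd, rfl⟩ := Set.mem_mul.1 hn'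
        exact ⟨x, hx, d, hd, rfl⟩
      odd := hodd
      cnt := not_le.1 hcnt
      proper := fun h => hn (Subgroup.normalizer_eq_top_iff.1 h) }
  by_cases h2 : ∃ c c' : G, c * z = z * c ∧ c ∉ TICount.Nm M ∧ c' * z = z * c' ∧ c' ∉ TICount.Nm M ∧
      c⁻¹ * c' ∉ TICount.Nm M
  · have T : TICount.ManyCase M z := ⟨C, h2⟩
    obtain ⟨f, d, hf, hd, hK, hI, ⟨hm, hG, hC⟩ | ⟨hm, hG, hC⟩⟩ := T.numerics
    · exact Or.inr (Or.inr (Or.inr (Or.inr (T.dihedral_case hf hd hI hm hG hC))))
    · exact Or.inr (Or.inr (Or.inr (Or.inl (T.sharp_case hf hd hK hI hm hG hC))))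
  · obtain ⟨c, hc, hcN⟩ := C.exists_cent_out
    have T : TICount.TwoCase M z c := ⟨C, hc, hcN, fun c' hc' hcN' => by
      by_contra h
      exact h2 ⟨c, c', hc, hcN, hc', hcN', h⟩⟩
    exact Or.inr (Or.inr (Or.inl T.conclusion))

end Cfsg.Agent.S3043
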