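import Cfsg.Statements.S3044
import Cfsg.Agent.Lib.LocalEven.IsolatedGroup

set_option autoImplicit false
open Cfsg

namespace Cfsg.Agent.S3044

theorem result {G : Type*} [Group G] [Finite G] {p : ℕ} [Fact p.Prime] (S : Sylow p G) (P : Subgroup G) (hSP : (S : Subgroup G) ≤ P) (hPmin : Cfsg.IsPMinimal p ↥P)
    (L Y : Subgroup G)
    (hL : L = Subgroup.normalizer ((S : Subgroup G) : Set G) ⊔ ⨆ P' : {P' : Subgroup G // (S : Subgroup G) ≤ P' ∧ Cfsg.IsPMinimal p ↥P' ∧ P' ≠ P}, (P' : Subgroup G))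
    (hiso : ¬ (Cfsg.pCore p ↥L).map L.subtype ≤ (Cfsg.pCore p ↥P).map P.subtype)
    (hY : Y = Subgroup.normalClosure (((Cfsg.pResidual p ↥P).map P.subtype : Subgroup G) : Set G)) :
    Y ⊔ L = ⊤ ∧
    ¬ (Cfsg.pCore p ↥((Subgroup.normalizer ((S : Subgroup G) : Set G) ⊓ (Y ⊔ (S : Subgroup G))) ⊔
          ⨆ P' : {P' : Subgroup G // (S : Subgroup G) ≤ P' ∧ P' ≤ Y ⊔ (S : Subgroup G) ∧ Cfsg.IsPMinimal p ↥P' ∧ P' ≠ P}, (P' : Subgroup G))).map
        (Subgroup.subtype _) ≤ (Cfsg.pCore p ↥P).map P.subtype ∧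
    ((Cfsg.pResidual p ↥P).map P.subtype = Y ∨
     ∃ _ : (Cfsg.pCore p ↥Y).Normal,
       p ∣ Nat.card (↥Y ⧸ Cfsg.pCore p ↥Y) ∧ Cfsg.layer (↥Y ⧸ Cfsg.pCore p ↥Y) = ⊤ ∧
       ∀ K₁ K₂ : Subgroup (↥Y ⧸ Cfsg.pCore p ↥Y), Cfsg.IsComponent K₁ → Cfsg.IsComponent K₂ →
         ∃ s ∈ (S : Subgroup G), ((K₂.comap (QuotientGroup.mk' (Cfsg.pCore p ↥Y))).map Y.subtype) = (((K₁.comap (QuotientGroup.mk' (Cfsg.pCore p ↥Y))).map Y.subtype)).map (MulAut.conj s).toMonoidHom) := by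
  classical
  have d : LocalEven.Isolated.Data p S P L := ⟨hSP, hPmin, hL, hiso⟩
  haveI hn : (pCore p G).Normal := Solv.pCore_normal p
  have st := d.setup
  haveI hYn : Y.Normal := hY ▸ Subgroup.normalClosure_normal
  have hZY : (pResidual p ↥P).map P.subtype ≤ Y := hY ▸ Subgroup.le_normalClosure
  have hPY : P ≤ Y ⊔ (S : Subgroup G) := by
    obtain ⟨T, hT⟩ := ((Fusion.sylIn_top S).mono hSP le_top).exists_sylow_subgroupOf
    have h := congrArg (Subgroup.map P.subtype) (Fusion.pResidual_sup_sylow T)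
    rw [Subgroup.map_sup, hT, Subgroup.map_subgroupOf_eq_of_le hSP, ← MonoidHom.range_eq_map,
      Subgroup.range_subtype] at h
    exact h.ge.trans (sup_le_sup_right hZY _)
  refine ⟨?_, ?_, ?_⟩
  · exact top_le_iff.1 (d.top.ge.trans (sup_le (hPY.trans (sup_le le_sup_left (le_sup_of_le_right d.sL))) le_sup_right))
  · intro hle
    refine hiso (le_trans ?_ hle)
    generalize hL₁ : ((Subgroup.normalizer ((S : Subgroup G) : Set G) ⊓ (Y ⊔ (S : Subgroup G))) ⊔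
      ⨆ P' : {P' : Subgroup G // (S : Subgroup G) ≤ P' ∧ P' ≤ Y ⊔ (S : Subgroup G) ∧ IsPMinimal p ↥P' ∧ P' ≠ P}, (P' : Subgroup G)) = L₁
    have hL₁L : L₁ ≤ L := by
      rw [← hL₁, hL]
      refine sup_le (le_sup_of_le_left inf_le_left) (iSup_le fun P' => le_sup_of_le_right ?_)
      exact le_iSup (fun P' : {P' : Subgroup G // (S : Subgroup G) ≤ P' ∧ IsPMinimal p ↥P' ∧ P' ≠ P} => (P' : Subgroup G))
        ⟨P', P'.2.1, P'.2.2.2.1, P'.2.2.2.2⟩
    have hR₁ : (pCore p ↥L).map L.subtype ≤ L₁ := by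
      refine d.r_le_S.trans ?_
      rw [← hL₁]
      exact le_sup_of_le_left (le_inf Subgroup.le_normalizer le_sup_right)
    haveI := (Subgroup.normal_subgroupOf_iff_le_normalizer hR₁).2 (hL₁L.trans d.r_le_normalizer)
    intro x hx
    exact ⟨⟨x, hR₁ hx⟩, Fusion.le_pCore (N := ((pCore p ↥L).map L.subtype).subgroupOf L₁)
      (((Fusion.isPGroup_pCore p ↥L).map L.subtype).comap_subtype (K := L₁)) hx, rfl⟩
  · by_cases hA : ∃ t : ℕ, t.Prime ∧ t ≠ p ∧
        ((pResidual p ↥P).map P.subtype).map (QuotientGroup.mk' (pCore p G)) ≤ pCore t (G ⧸ pCore p G)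
    · obtain ⟨t, ht, htp, hZ⟩ := hA
      haveI hOn : ((pResidual p ↥P).map P.subtype).Normal := d.residual_normal (st.z_normal ht htp hZ)
      exact Or.inl (by rw [hY, Subgroup.normalClosure_eq_self])
    · push Not at hA
      obtain ⟨-, N, hN, hdvd, hlay, -, hconj⟩ := st.layer_case hA
      have hmapY : Y.map (QuotientGroup.mk' (pCore p G)) = N := by
        rw [hY, hN, Subgroup.map_normalClosure _ _ (QuotientGroup.mk'_surjective _)]
        simp only [Subgroup.coe_map]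
      subst hmapY
      obtain ⟨e, he⟩ := LocalEven.Isolated.exists_equiv (p := p) Y
      refine Or.inr ⟨Solv.pCore_normal p, ?_, LocalEven.Isolated.layer_map e.symm hlay, fun K₁ K₂ h₁ h₂ => ?_⟩
      · rwa [Nat.card_congr e.toEquiv]
      obtain ⟨s', hs', hs⟩ := hconj _ _ (LocalEven.Isolated.component_map e h₁) (LocalEven.Isolated.component_map e h₂)
      obtain ⟨s, hsS, rfl⟩ := hs'
      refine ⟨s, hsS, ?_⟩
      have hpre : ∀ K : Subgroup (↥Y ⧸ pCore p ↥Y), (K.comap (QuotientGroup.mk' (pCore p ↥Y))).map Y.subtype =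
          Y ⊓ (((K.map e.toMonoidHom).map (Y.map (QuotientGroup.mk' (pCore p G))).subtype).comap
            (QuotientGroup.mk' (pCore p G))) := by
        intro K
        ext y
        constructor
        · rintro ⟨a, ha, rfl⟩
          exact ⟨a.2, e (QuotientGroup.mk a), ⟨_, ha, rfl⟩, he a⟩
        · rintro ⟨hy, w, ⟨k, hk, rfl⟩, hw⟩
          refine ⟨⟨y, hy⟩, ?_, rfl⟩
          have : e k = e (QuotientGroup.mk ⟨y, hy⟩) := Subtype.ext (hw.trans (he ⟨y, hy⟩).symm)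
          rw [SetLike.mem_coe, Subgroup.mem_comap]
          rwa [show QuotientGroup.mk' (pCore p ↥Y) ⟨y, hy⟩ = k from (e.injective this).symm]
      rw [hpre, hpre, hs, ← Fusion.cj, Fusion.cj_inf, Fusion.cj_of_normal Y]
      congr 1
      ext y
      rw [Fusion.mem_cj, Subgroup.mem_comap, Subgroup.mem_comap, Fusion.mem_cj, map_mul, map_mul, map_inv]

end Cfsg.Agent.S3044
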