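import Cfsg.Statements.S3045
import Cfsg.Agent.Lib.LocalEven.IsolatedGroup

set_option autoImplicit false
open scoped commutatorElement
open Cfsg

namespace Cfsg.Agent.S3045

theorem result {G : Type*} [Group G] [Finite G] {p : ℕ} [Fact p.Prime] (S : Sylow p G) (P : Subgroup G) (hSP : (S : Subgroup G) ≤ P) (hPmin : Cfsg.IsPMinimal p ↥P)
    (L Y : Subgroup G)
    (hL : L = Subgroup.normalizer ((S : Subgroup G) : Set G) ⊔ ⨆ P' : {P' : Subgroup G // (S : Subgroup G) ≤ P' ∧ Cfsg.IsPMinimal p ↥P' ∧ P' ≠ P}, (P' : Subgroup G))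
    (hiso : ¬ (Cfsg.pCore p ↥L).map L.subtype ≤ (Cfsg.pCore p ↥P).map P.subtype)
    (hY : Y = Subgroup.normalClosure (((Cfsg.pResidual p ↥P).map P.subtype : Subgroup G) : Set G)) [hn : (Cfsg.pCore p G).Normal] :
    (Cfsg.pResidual p ↥P).map P.subtype ≤ (Cfsg.generalizedFittingSubgroup (G ⧸ Cfsg.pCore p G)).comap (QuotientGroup.mk' (Cfsg.pCore p G)) ∧
    (Group.IsSolvable ↥Y → (Cfsg.pResidual p ↥P).map P.subtype = Y ∧
       ∃ _ : (Cfsg.pCore p ↥Y).Normal, ∃ t : ℕ, t.Prime ∧ t ≠ p ∧ IsPGroup t (↥Y ⧸ Cfsg.pCore p ↥Y) ∧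
         ∃ _ : Group.IsNilpotent (↥Y ⧸ Cfsg.pCore p ↥Y), Group.nilpotencyClass (↥Y ⧸ Cfsg.pCore p ↥Y) ≤ 2) := by
  classical
  have d : LocalEven.Isolated.Data p S P L := ⟨hSP, hPmin, hL, hiso⟩
  have st := d.setup
  haveI hYn : Y.Normal := hY ▸ Subgroup.normalClosure_normal
  have hmapY : Y.map (QuotientGroup.mk' (pCore p G)) = Subgroup.normalClosure
      ((((pResidual p ↥P).map P.subtype).map (QuotientGroup.mk' (pCore p G)) : Subgroup (G ⧸ pCore p G)) : Set (G ⧸ pCore p G)) := by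
    rw [hY, Subgroup.map_normalClosure _ _ (QuotientGroup.mk'_surjective _)]
    simp only [Subgroup.coe_map]
  by_cases hA : ∃ t : ℕ, t.Prime ∧ t ≠ p ∧
      ((pResidual p ↥P).map P.subtype).map (QuotientGroup.mk' (pCore p G)) ≤ pCore t (G ⧸ pCore p G)
  · obtain ⟨t, ht, htp, hZ⟩ := hA
    haveI := Fact.mk ht
    refine ⟨?_, fun _ => ?_⟩
    · exact Subgroup.map_le_iff_le_comap.1 ((hZ.trans (Solv.pCore_le_fitting t)).trans le_sup_right)
    have hn := st.z_normal ht htp hZ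
    have hcls := st.class_two ht htp hZ
    haveI hOn : ((pResidual p ↥P).map P.subtype).Normal := d.residual_normal hn
    have hYeq : (pResidual p ↥P).map P.subtype = Y := by
      rw [hY, Subgroup.normalClosure_eq_self]
    refine ⟨hYeq, Solv.pCore_normal p, t, ht, htp, ?_⟩
    obtain ⟨e, -⟩ := LocalEven.Isolated.exists_equiv (p := p) Y
    have hYt : IsPGroup t ↥(Y.map (QuotientGroup.mk' (pCore p G))) := by
      rw [← hYeq]
      exact (Fusion.isPGroup_pCore t (G ⧸ pCore p G)).to_le hZ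
    have hq : IsPGroup t (↥Y ⧸ pCore p ↥Y) := hYt.of_equiv e.symm
    haveI hnil : Group.IsNilpotent (↥Y ⧸ pCore p ↥Y) := IsPGroup.isNilpotent (p := t) hq
    refine ⟨hq, hnil, ?_⟩
    rw [← Subgroup.upperCentralSeries_eq_top_iff_nilpotencyClass_le, eq_top_iff]
    intro x _
    rw [show (2 : ℕ) = 1 + 1 from rfl, Subgroup.mem_upperCentralSeries_succ_iff]
    intro y
    rw [Subgroup.upperCentralSeries_one, Subgroup.mem_center_iff]
    intro w
    apply e.injective
    apply Subtype.ext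
    have hmem : ∀ a : ↥(Y.map (QuotientGroup.mk' (pCore p G))),
        (a : G ⧸ pCore p G) ∈ ((pResidual p ↥P).map P.subtype).map (QuotientGroup.mk' (pCore p G)) :=
      fun a => by rw [hYeq]; exact a.2
    have h1 : ⁅(⁅(e x : G ⧸ pCore p G), (e y : G ⧸ pCore p G)⁆), (e w : G ⧸ pCore p G)⁆ = 1 := by
      rw [← Subgroup.mem_bot, ← hcls]
      exact Subgroup.commutator_mem_commutator (Subgroup.commutator_mem_commutator (hmem _) (hmem _)) (hmem _)
    simp only [map_mul, map_inv, Subgroup.coe_mul, Subgroup.coe_inv, commutatorElement_def] at h1 ⊢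
    exact (commutatorElement_eq_one_iff_mul_comm.1 (by simpa [commutatorElement_def] using h1)).symm
  · push Not at hA
    obtain ⟨hlay, N, hN, -, -, hns, -⟩ := st.layer_case hA
    refine ⟨Subgroup.map_le_iff_le_comap.1 (hlay.trans le_sup_left), fun hsol => absurd ?_ hns⟩
    haveI := hsol
    rw [hN, ← hmapY]
    exact Group.isSolvable_of_surjective ((QuotientGroup.mk' (pCore p G)).subgroupMap_surjective Y)

end Cfsg.Agent.S3045
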