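import Cfsg.Statements.S3049
import Cfsg.Agent.Lib.LocalEven.IsolatedRankTwo

set_option autoImplicit false
open Cfsg

namespace Cfsg.Agent.S3049

theorem result {G : Type*} [Group G] [Finite G] {p : ℕ} [Fact p.Prime] (hp : p ≠ 2) (hcore : Cfsg.pPrimeCore p G = ⊥)
    (hrank : Cfsg.PRankLE p 2 G) (x : G) (hx : orderOf x = p) (hiso : Cfsg.IsIsolated x) (hnc : x ∉ Subgroup.center G) :
    IsSimpleGroup ↥(Cfsg.generalizedFittingSubgroup G) ∧ ¬ IsMulCommutative ↥(Cfsg.generalizedFittingSubgroup G) := by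
  exact Cfsg.Agent.LocalEven.IsolatedRankTwo.gfit_simple hp hcore hrank x hx hiso hnc

end Cfsg.Agent.S3049
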