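import Cfsg.Statements.S3050
import Cfsg.Agent.Lib.LocalEven.NaturalExtension
import Cfsg.Agent.Lib.LocalEven.NaturalSL2

set_option autoImplicit false
open Cfsg
open Cfsg.Agent
open scoped commutatorElement

namespace Cfsg.Agent.S3050

/-- Let G be a finite group with a normal 2-subgroup Q such that G/Q is isomorphic to SL(2, 2ⁿ) with n ≥ 2, and suppose some element of G of order 3 fixes no nonidentity element of Q under conjugation. Then Q is elementary abelian and is the direct product of normal subgroups of G on each of which G acts as SL(2, 2ⁿ) acts on its natural two-dimensional module (a Galois twist of the natural action allowed). -/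
theorem result {G : Type*} [Group G] [Finite G]
    (Q : Subgroup G) [Q.Normal] (hQ : IsPGroup 2 ↥Q) (n : ℕ) (hn : 2 ≤ n)
    (K : Type*) [Field K] [Fintype K] (hK : Fintype.card K = 2 ^ n)
    (e : G ⧸ Q ≃* Matrix.SpecialLinearGroup (Fin 2) K)
    (x : G) (hx : orderOf x = 3) (hfpf : ∀ q ∈ Q, x * q * x⁻¹ = q → q = 1) :
    Cfsg.IsElementaryAbelian 2 Q ∧
      ∃ (k : ℕ) (V : Fin k → Subgroup G), (∀ i, V i ≤ Q ∧ (V i).Normal ∧
        Cfsg.ActsAsSL2OnSection K ⊤ ⊤ (V i) ⊥) ∧ iSupIndep V ∧ ⨆ i, V i = Q := by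
  classical
  haveI : CharP K 2 := NatSL2.charP_of_card (F := K) hK
  haveI : Fact (Nat.Prime 2) := ⟨Nat.prime_two⟩
  obtain ⟨a, ha0, ha1⟩ : ∃ a : K, a ≠ 0 ∧ a ≠ 1 := by
    by_contra hc
    push_neg at hc
    have h : (Finset.univ : Finset K) ⊆ {0, 1} := fun a _ => by
      by_cases h : a = 0
      · simp [h]
      · simp [hc a h]
    have h2 := (Finset.card_le_card h).trans Finset.card_le_two
    rw [Finset.card_univ, hK] at h2
    have : 2 ^ 2 ≤ 2 ^ n := Nat.pow_le_pow_right two_pos hn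
    omega
  obtain ⟨π, hπd⟩ : ∃ π : G →* Matrix.SpecialLinearGroup (Fin 2) K,
      π = e.toMonoidHom.comp (QuotientGroup.mk' Q) := ⟨_, rfl⟩
  have hπv : ∀ g, π g = e (g : G ⧸ Q) := fun g => hπd ▸ rfl
  have hπ : Function.Surjective π := fun s => by
    obtain ⟨g, hg⟩ := QuotientGroup.mk_surjective (e.symm s)
    exact ⟨g, by rw [hπv, hg, MulEquiv.apply_symm_apply]⟩
  have hker : π.ker = Q := by
    ext g
    rw [MonoidHom.mem_ker, hπv, EmbeddingLike.map_eq_one_iff, QuotientGroup.eq_one_iff]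
  have hx3 : x * x * x = 1 := by rw [← pow_three', ← hx]; exact pow_orderOf_eq_one x
  have hπx : π x ≠ 1 := by
    intro h
    have hxQ : x ∈ Q := by rw [← hker]; exact MonoidHom.mem_ker.2 h
    obtain ⟨k, hk⟩ := IsPGroup.iff_orderOf.1 hQ ⟨x, hxQ⟩
    rw [Subgroup.orderOf_mk, hx] at hk
    rcases Nat.eq_zero_or_pos k with rfl | hk0
    · simp at hk
    · have : 2 ∣ 3 := hk ▸ dvd_pow_self 2 hk0.ne'
      omega
  have hel := NatExt.ker_elementary a ha0 ha1 _ π hπ rfl (hker.symm ▸ hQ) x hπx hx3 (hker.symm ▸ hfpf)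
  rw [hker] at hel
  obtain ⟨d, c, hcinj, hcr, hcadd, hcact⟩ := NatExt.exists_coord π hπ hπx
    (by rw [← map_mul, ← map_mul, hx3, map_one]) hx3 Q hel
    (fun q hq v hv => by
      rw [hker] at hq
      exact congrArg Subtype.val (hel.1.1.comm ⟨q, hq⟩ ⟨v, hv⟩)) hfpf
  refine ⟨hel, d, ?_⟩
  have hc0 : c 0 = 1 := by
    have := hcadd 0 0
    rw [add_zero] at this
    exact left_eq_mul.1 this
  have hcQ : ∀ f, c f ∈ Q := fun f => by
    have h : c f ∈ (Q : Set G) := hcr ▸ ⟨f, rfl⟩
    exact h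
  let φ : Multiplicative (Fin d → Fin 2 → K) →* G :=
    { toFun := fun f => c f.toAdd
      map_one' := hc0
      map_mul' := fun f f' => hcadd f.toAdd f'.toAdd }
  let ι : ∀ i : Fin d, Multiplicative (Fin 2 → K) →* G := fun i =>
    φ.comp (AddMonoidHom.toMultiplicative (AddMonoidHom.single (fun _ : Fin d => Fin 2 → K) i))
  have hι : ∀ i v, ι i v = c (Pi.single i v.toAdd) := fun i v => rfl
  have hιinj : ∀ i, Function.Injective (ι i) := fun i v w h =>
    Multiplicative.toAdd.injective (Pi.single_injective i (hcinj h))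
  have hsingle : ∀ (g : G) (i : Fin d) (v : Fin 2 → K), NatExt.act (π g) (Pi.single i v) =
      Pi.single i ((π g : Matrix (Fin 2) (Fin 2) K).mulVec v) := by
    intro g i v
    funext j
    by_cases h : j = i
    · subst h; simp [NatExt.act]
    · simp [NatExt.act, Pi.single_eq_of_ne h]
  refine ⟨fun i => (ι i).range, fun i => ⟨?_, ?_, ?_⟩, ?_, ?_⟩
  · rintro _ ⟨v, rfl⟩
    exact hcQ _
  · constructor
    rintro _ ⟨v, rfl⟩ g
    refine ⟨Multiplicative.ofAdd ((π g : Matrix (Fin 2) (Fin 2) K).mulVec v.toAdd), ?_⟩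
    rw [hι, hι, hcact, hsingle, toAdd_ofAdd]
  · refine ⟨fun g _ => ?_, bot_le, π.comp (⊤ : Subgroup G).subtype,
      (MonoidHom.ofInjective (hιinj i)).symm.toMonoidHom, ?_, ?_, ?_, ?_⟩
    · have : ((ι i).range).Normal := by
        constructor
        rintro _ ⟨v, rfl⟩ g
        refine ⟨Multiplicative.ofAdd ((π g : Matrix (Fin 2) (Fin 2) K).mulVec v.toAdd), ?_⟩
        rw [hι, hι, hcact, hsingle, toAdd_ofAdd]
      rw [Subgroup.normalizer_eq_top]
      trivial
    · rw [MonoidHom.range_comp, Subgroup.range_subtype, ← MonoidHom.range_eq_map]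
      exact MonoidHom.range_eq_top.2 hπ
    · exact (MonoidHom.ofInjective (hιinj i)).symm.surjective
    · intro u
      rw [Subgroup.mem_bot, MulEquiv.toMonoidHom_eq_coe, MonoidHom.coe_coe, EmbeddingLike.map_eq_one_iff]
      exact ⟨fun h => h ▸ rfl, fun h => Subtype.ext h⟩
    · intro g u
      obtain ⟨v, rfl⟩ := (MonoidHom.ofInjective (hιinj i)).surjective u
      refine ⟨MonoidHom.ofInjective (hιinj i)
        (Multiplicative.ofAdd ((π (g : G) : Matrix (Fin 2) (Fin 2) K).mulVec v.toAdd)), ?_, ?_⟩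
      · show ι i _ = (g : G) * ι i v * (g : G)⁻¹
        rw [hι, hι, hcact, hsingle, toAdd_ofAdd]
      · simp
  · intro i
    rw [disjoint_iff_inf_le]
    intro y hy
    obtain ⟨⟨v, rfl⟩, hy2⟩ := Subgroup.mem_inf.1 hy
    let W : Subgroup G := Subgroup.map φ
      (AddMonoidHom.toMultiplicative (Pi.evalAddMonoidHom (fun _ : Fin d => Fin 2 → K) i)).ker
    have hle : (⨆ j, ⨆ (_ : j ≠ i), (ι j).range) ≤ W := iSup₂_le fun j hj => by
      rintro _ ⟨w, rfl⟩
      refine ⟨Multiplicative.ofAdd (Pi.single j w.toAdd), ?_, rfl⟩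
      refine MonoidHom.mem_ker.2 ?_
      simp [Pi.single_eq_of_ne hj.symm]
    obtain ⟨f, hf, he⟩ := hle hy2
    have h := hcinj (show c f.toAdd = c (Pi.single i v.toAdd) from he)
    have h0 : f.toAdd i = 0 := congrArg Multiplicative.toAdd (MonoidHom.mem_ker.1 hf)
    rw [h, Pi.single_eq_same] at h0
    rw [Subgroup.mem_bot, hι, h0, Pi.single_zero, hc0]
  · refine le_antisymm (iSup_le fun i => ?_) fun q hq => ?_
    · rintro _ ⟨v, rfl⟩
      exact hcQ _
    · have h : q ∈ (Q : Set G) := hq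
      rw [← hcr] at h
      obtain ⟨f, rfl⟩ := h
      have hsum : ∀ s : Finset (Fin d), c (∑ i ∈ s, Pi.single i (f i)) ∈ ⨆ i, (ι i).range := by
        intro s
        induction s using Finset.induction_on with
        | empty => simp [hc0]
        | insert i s his ih =>
          rw [Finset.sum_insert his, hcadd]
          exact mul_mem (Subgroup.mem_iSup_of_mem i ⟨Multiplicative.ofAdd (f i), rfl⟩) ih
      have := hsum Finset.univ
      rwa [Finset.univ_sum_single] at this

end Cfsg.Agent.S3050
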