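import Cfsg.Statements.S3053
import Cfsg.Agent.Lib.Fusion.OmegaClassTwo
import Cfsg.Agent.Lib.Solv.Extraspecial
-- import your own Cfsg.Agent.* helpers here

set_option autoImplicit false
open Cfsg

open Cfsg.Agent Cfsg.Agent.Fusion
open scoped commutatorElement

namespace Cfsg.Agent.S3053

/-- Let p be an odd prime and G a finite group with a Sylow p-subgroup P that is extraspecial of order p³ and exponent p². Then the centre of P is strongly closed in P with respect to G: a G-conjugate of an element of Z(P) that lies in P already lies in Z(P). In particular a nontrivial central element of P is conjugate in G to no noncentral element of P. -/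
theorem result {G : Type*} [Group G] [Finite G]
    {p : ℕ} [Fact p.Prime] (hp : p ≠ 2) (P : Sylow p G) (hE : Cfsg.IsExtraspecial p ↥P)
    (hcard : Nat.card P = p ^ 3) (hexp : Monoid.exponent ↥P = p ^ 2) :
    Cfsg.IsStronglyClosed ((Subgroup.center ↥P).map (P : Subgroup G).subtype) (P : Subgroup G) := by
  classical
  set Z := (Subgroup.center ↥P).map (P : Subgroup G).subtype with hZdef
  have hZcard : Nat.card Z = p :=
    (Subgroup.card_map_of_injective (P : Subgroup G).subtype_injective).trans hE.2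
  have hcm : ∀ a b : ↥P, ⁅a, b⁆ ∈ Subgroup.center ↥P := fun a b =>
    hE.1.2.2.le (Subgroup.commutator_mem_commutator (Subgroup.mem_top _) (Subgroup.mem_top _))
  -- the power map
  have hmul : ∀ a b : ↥P, (a * b) ^ p = a ^ p * b ^ p := fun a b =>
    pow_prime_mul_of_class_two hp (fun g => (Subgroup.mem_center_iff.1 (hcm b a) g).symm)
      (Subgroup.mem_center_iff.1 (Solv.extraspecial_pow_mem_center hE b) a).symm
  obtain ⟨φ, hφ⟩ : ∃ φ : ↥P →* ↥(Subgroup.center ↥P), ∀ a, (φ a : ↥P) = a ^ p :=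
    ⟨MonoidHom.mk' (fun a => ⟨a ^ p, Solv.extraspecial_pow_mem_center hE a⟩)
      fun a b => Subtype.ext (hmul a b), fun a => rfl⟩
  have hker : ∀ a : ↥P, a ∈ φ.ker ↔ (a : G) ^ p = 1 := fun a => by
    rw [MonoidHom.mem_ker, Subtype.ext_iff, OneMemClass.coe_one, hφ, Subtype.ext_iff, OneMemClass.coe_one,
      SubmonoidClass.coe_pow]
  have hrange : φ.range = ⊤ := by
    haveI : Fact (Nat.card ↥(Subgroup.center ↥P)).Prime := ⟨by rw [hE.2]; exact Fact.out⟩
    refine (Subgroup.eq_bot_or_eq_top_of_prime_card φ.range).resolve_left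
      fun h => ?_
    have : Monoid.exponent ↥P ∣ p := Monoid.exponent_dvd_of_forall_pow_eq_one fun a => by
      have h1 : φ a ∈ φ.range := ⟨a, rfl⟩
      rw [h, Subgroup.mem_bot] at h1
      rw [← hφ, h1]
      rfl
    rw [hexp] at this
    exact absurd (Nat.le_of_dvd (Fact.out : p.Prime).pos this)
      (by have := (Fact.out : p.Prime).two_le; nlinarith)
  set E := φ.ker.map (P : Subgroup G).subtype with hEdef
  have hmemE : ∀ a : G, a ∈ E ↔ a ∈ (P : Subgroup G) ∧ a ^ p = 1 := by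
    intro a
    constructor
    · rintro ⟨b, hb, rfl⟩; exact ⟨b.2, (hker b).1 hb⟩
    · rintro ⟨ha, h⟩; exact ⟨⟨a, ha⟩, (hker _).2 h, rfl⟩
  have hEP : E ≤ (P : Subgroup G) := fun a ha => ((hmemE a).1 ha).1
  have hEcard : Nat.card E = p ^ 2 := by
    rw [hEdef, Subgroup.card_map_of_injective (P : Subgroup G).subtype_injective]
    have := φ.ker.card_mul_index
    rw [Subgroup.index_ker, hrange, Subgroup.card_top, hE.2,
      show Nat.card ↥P = p ^ 3 from hcard, pow_succ] at this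
    exact Nat.eq_of_mul_eq_mul_right (Fact.out : p.Prime).pos this
  have hEc : ∀ a ∈ E, ∀ b ∈ E, a * b = b * a := fun a ha b hb => by
    haveI : IsMulCommutative ↥E := ⟨⟨IsPGroup.commutative_of_card_eq_prime_sq hEcard⟩⟩
    exact congrArg Subtype.val (mul_comm' (⟨a, ha⟩ : ↥E) ⟨b, hb⟩)
  have hZP : Z ≤ (P : Subgroup G) := Subgroup.map_subtype_le _
  have hZc : ∀ z ∈ Z, ∀ a ∈ (P : Subgroup G), a * z = z * a := by
    rintro _ ⟨z, hz, rfl⟩ a ha
    exact congrArg Subtype.val (Subgroup.mem_center_iff.1 hz ⟨a, ha⟩)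
  have hZp : ∀ z ∈ Z, z ^ p = 1 := fun z hz => by
    have h := pow_card_eq_one' (x := (⟨z, hz⟩ : ↥Z))
    rw [hZcard] at h
    exact congrArg Subtype.val h
  have hpowZ : ∀ a ∈ (P : Subgroup G), a ^ p ∈ Z := fun a ha =>
    ⟨(⟨a, ha⟩ : ↥P) ^ p, Solv.extraspecial_pow_mem_center hE _, rfl⟩
  have hZE : Z ≤ E := fun z hz => (hmemE z).2 ⟨hZP hz, hZp z hz⟩
  have hgen : ∀ (z : G) (_ : z ∈ Z) (_ : z ≠ 1) (w : G) (_ : w ∈ Z), ∃ k : ℕ, z ^ k = w := by
    intro z hz hz1 w hw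
    haveI : Fact (Nat.card ↥Z).Prime := ⟨by rw [hZcard]; exact Fact.out⟩
    obtain ⟨k, hk⟩ := mem_powers_of_prime_card (g := (⟨z, hz⟩ : ↥Z)) (g' := ⟨w, hw⟩) rfl
      (fun h => hz1 (congrArg Subtype.val h))
    exact ⟨k, congrArg Subtype.val hk⟩
  refine ⟨hZP, ?_⟩
  intro x hx g hy
  by_contra hyZ
  obtain ⟨y, hye⟩ : ∃ y, y = g * x * g⁻¹ := ⟨_, rfl⟩
  rw [← hye] at hy hyZ
  have hx1 : x ≠ 1 := fun h => hyZ (by rw [hye, h, mul_one, mul_inv_cancel]; exact one_mem _)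
  have hyE : y ∈ E := (hmemE y).2 ⟨hy, by rw [hye, conj_pow, hZp x hx, mul_one, mul_inv_cancel]⟩
  -- move to an element normalising `E`
  obtain ⟨h, hh, hhy⟩ : ∃ h : G, cj E h = E ∧ h * x * h⁻¹ = y := by
    set C := Subgroup.centralizer ({y} : Set G) with hC
    have hPg : cj (P : Subgroup G) g ≤ C := by
      rintro _ ⟨a, ha, rfl⟩
      rw [hC, Subgroup.mem_centralizer_singleton_iff]
      show g * a * g⁻¹ * y = y * (g * a * g⁻¹)
      rw [hye]
      calc g * a * g⁻¹ * (g * x * g⁻¹) = g * (a * x) * g⁻¹ := by group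
        _ = g * (x * a) * g⁻¹ := by rw [hZc x hx a ha]
        _ = g * x * g⁻¹ * (g * a * g⁻¹) := by group
    have hS : SylIn p (cj (P : Subgroup G) g) C :=
      ((sylIn_top P).cj' (Subgroup.le_normalizer (Subgroup.mem_top g))).mono hPg le_top
    obtain ⟨c, hc, hle⟩ := hS.conj_le (P.isPGroup'.to_le hEP)
      (fun a ha => Subgroup.mem_centralizer_singleton_iff.2 (hEc a ha y hyE))
    rw [hC, Subgroup.mem_centralizer_singleton_iff] at hc
    refine ⟨c⁻¹ * g, (Subgroup.eq_of_le_of_card_ge ?_ (card_cj E _).le).symm, ?_⟩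
    · intro a ha
      have h1 := hle (conj_mem_cj ha)
      rw [mem_cj] at h1 ⊢
      refine (hmemE _).2 ⟨by simpa [mul_assoc] using h1, ?_⟩
      rw [show (c⁻¹ * g)⁻¹ * a * (c⁻¹ * g) = (c⁻¹ * g)⁻¹ * a * ((c⁻¹ * g)⁻¹)⁻¹ by group, conj_pow,
        ((hmemE a).1 ha).2, mul_one, mul_inv_cancel]
    · calc c⁻¹ * g * x * (c⁻¹ * g)⁻¹ = c⁻¹ * (g * x * g⁻¹) * c := by group
        _ = c⁻¹ * (y * c) := by rw [← hye, mul_assoc]
        _ = y := by rw [← hc]; group
  -- an element of `P` outside `E`, and the subgroup generated by two elements of `E`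
  obtain ⟨u, huP, huE⟩ : ∃ u ∈ (P : Subgroup G), u ∉ E := SetLike.not_le_iff_exists.1 fun hle => by
    have := Subgroup.card_le_of_le hle
    rw [hEcard, show Nat.card ↥(P : Subgroup G) = p ^ 3 from hcard] at this
    exact absurd this (Nat.not_le.2 (Nat.pow_lt_pow_right (Fact.out : p.Prime).one_lt (by norm_num)))
  have hsup : ∀ (A : Subgroup G) (w : G), A ≤ E → Nat.card A = p → w ∈ E → w ∉ A →
      E ≤ A ⊔ Subgroup.zpowers w := by
    intro A w hA hAc hw hwA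
    have hle : A ⊔ Subgroup.zpowers w ≤ E := sup_le hA (Subgroup.zpowers_le.2 hw)
    refine (Subgroup.eq_of_le_of_card_ge hle ?_).ge
    obtain ⟨j, -, hj⟩ := (Nat.dvd_prime_pow Fact.out).1 (hEcard ▸ Subgroup.card_dvd_of_le hle)
    rw [hj, hEcard]
    refine Nat.pow_le_pow_right (Fact.out : p.Prime).pos (Nat.not_lt.1 fun hlt => hwA ?_)
    have heq : A = A ⊔ Subgroup.zpowers w := Subgroup.eq_of_le_of_card_ge le_sup_left (by
      rw [hj, hAc]; exact (Nat.pow_le_pow_right (Fact.out : p.Prime).pos (Nat.le_of_lt_succ hlt)).trans_eq (pow_one p))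
    rw [heq]; exact Subgroup.mem_sup_right (Subgroup.mem_zpowers w)
  -- transvections
  have htrans : ∀ w ∈ E, w ∉ Z → ∀ z ∈ Z, ∃ k : ℕ, u ^ k * w * (u ^ k)⁻¹ = w * z := by
    intro w hw hwZ z hz
    obtain ⟨c, hce⟩ : ∃ c, c = w⁻¹ * (u * w * u⁻¹) := ⟨_, rfl⟩
    have hcZ : c ∈ Z := by
      refine ⟨_, hcm (⟨w, hEP hw⟩ : ↥P)⁻¹ ⟨u, huP⟩, ?_⟩
      show (w⁻¹ : G) * u * w⁻¹⁻¹ * u⁻¹ = c
      rw [hce]; group
    have hc1 : c ≠ 1 := by
      intro h1
      have huw : u * w = w * u := by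
        rw [hce, inv_mul_eq_one] at h1
        calc u * w = u * w * u⁻¹ * u := by group
          _ = w * u := by rw [← h1]
      have hcu : E ≤ Subgroup.centralizer ({u} : Set G) :=
        (hsup Z w hZE hZcard hw hwZ).trans (sup_le
          (fun a ha => Subgroup.mem_centralizer_singleton_iff.2 (hZc a ha u huP).symm)
          (Subgroup.zpowers_le.2 (Subgroup.mem_centralizer_singleton_iff.2 huw.symm)))
      have hZu : (⟨u, huP⟩ : ↥P) ∈ Subgroup.center ↥P := by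
        refine Subgroup.mem_center_iff.2 fun b => Subtype.ext ?_
        show (b : G) * u = u * b
        have hcov : (b : G) ∈ E ⊔ Subgroup.zpowers u := by
          have hle : E ⊔ Subgroup.zpowers u ≤ (P : Subgroup G) := sup_le hEP (Subgroup.zpowers_le.2 huP)
          refine (Subgroup.eq_of_le_of_card_ge hle ?_).ge b.2
          obtain ⟨j, -, hj⟩ := (Nat.dvd_prime_pow Fact.out).1
            (show Nat.card ↥(E ⊔ Subgroup.zpowers u) ∣ p ^ 3 from hcard ▸ Subgroup.card_dvd_of_le hle)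
          rw [hj, show Nat.card ↥(P : Subgroup G) = p ^ 3 from hcard]
          refine Nat.pow_le_pow_right (Fact.out : p.Prime).pos (Nat.not_lt.1 fun hlt => huE ?_)
          have heq : E = E ⊔ Subgroup.zpowers u := Subgroup.eq_of_le_of_card_ge le_sup_left (by
            rw [hj, hEcard]; exact Nat.pow_le_pow_right (Fact.out : p.Prime).pos (by omega))
          rw [heq]; exact Subgroup.mem_sup_right (Subgroup.mem_zpowers u)
        exact Subgroup.mem_centralizer_singleton_iff.1 (sup_le hcu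
          (Subgroup.zpowers_le.2 (Subgroup.mem_centralizer_singleton_iff.2 rfl)) hcov)
      exact huE (hZE ⟨_, hZu, rfl⟩)
    obtain ⟨k, hk⟩ := hgen c hcZ hc1 z hz
    refine ⟨k, ?_⟩
    rw [← hk]
    clear hk
    induction k with
    | zero => simp
    | succ k ih =>
      calc u ^ (k + 1) * w * (u ^ (k + 1))⁻¹ = u * (u ^ k * w * (u ^ k)⁻¹) * u⁻¹ := by
            rw [pow_succ']; group
        _ = u * w * (c ^ k * u⁻¹) := by rw [ih]; group
        _ = (u * w * u⁻¹) * c ^ k := by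
            rw [← hZc _ (pow_mem hcZ k) _ (inv_mem huP)]; simp only [mul_assoc]
        _ = w * c ^ (k + 1) := by
            rw [pow_succ', ← mul_assoc w c, show w * c = u * w * u⁻¹ by rw [hce]; group]
  obtain ⟨k₁, hk₁⟩ := htrans y hyE hyZ x hx
  have hw : h⁻¹ * x * h ∈ E := by
    rw [← hh] at hZE
    exact mem_cj.1 (hZE hx)
  have hwZ : h⁻¹ * x * h ∉ Z := by
    intro hw'
    have hw1 : h⁻¹ * x * h ≠ 1 := fun he => hx1 (by
      calc x = h * (h⁻¹ * x * h) * h⁻¹ := by group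
        _ = 1 := by rw [he, mul_one, mul_inv_cancel])
    obtain ⟨k, hk⟩ := hgen _ hw' hw1 x hx
    apply hyZ
    rw [← hhy, ← hk, ← conj_pow, show h * (h⁻¹ * x * h) * h⁻¹ = x by group]
    exact pow_mem hx k
  obtain ⟨k₂, hk₂⟩ := htrans _ hw hwZ x⁻¹ (inv_mem hx)
  obtain ⟨a, hae⟩ : ∃ a, a = u ^ k₁ := ⟨_, rfl⟩
  obtain ⟨b, hbe⟩ : ∃ b, b = h * u ^ k₂ * h⁻¹ := ⟨_, rfl⟩
  have hax : a * x * a⁻¹ = x := by
    rw [hae, hZc x hx _ (pow_mem huP k₁), mul_inv_cancel_right]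
  have hay : a * y * a⁻¹ = y * x := by rw [hae]; exact hk₁
  have hby : b * y * b⁻¹ = y := by
    rw [hbe, ← hhy]
    calc h * u ^ k₂ * h⁻¹ * (h * x * h⁻¹) * (h * u ^ k₂ * h⁻¹)⁻¹
        = h * (u ^ k₂ * x) * (u ^ k₂)⁻¹ * h⁻¹ := by group
      _ = h * x * h⁻¹ := by rw [hZc x hx _ (pow_mem huP k₂)]; group
  have hbx : b * x * b⁻¹ = x * y⁻¹ := by
    rw [hbe, ← hhy]
    calc h * u ^ k₂ * h⁻¹ * x * (h * u ^ k₂ * h⁻¹)⁻¹
        = h * (u ^ k₂ * (h⁻¹ * x * h) * (u ^ k₂)⁻¹) * h⁻¹ := by group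
      _ = x * (h * x * h⁻¹)⁻¹ := by rw [hk₂]; group
  have hxy : x * y = y * x := hEc x (hZE hx) y hyE
  have hsx : (a * b * a) * x * (a * b * a)⁻¹ = y⁻¹ := by
    calc (a * b * a) * x * (a * b * a)⁻¹ = a * (b * (a * x * a⁻¹) * b⁻¹) * a⁻¹ := by group
      _ = a * (x * y⁻¹) * a⁻¹ := by rw [hax, hbx]
      _ = (a * x * a⁻¹) * (a * y * a⁻¹)⁻¹ := by group
      _ = y⁻¹ := by rw [hax, hay, mul_inv_rev, mul_inv_cancel_left]
  have hsy : (a * b * a) * y * (a * b * a)⁻¹ = x := by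
    calc (a * b * a) * y * (a * b * a)⁻¹ = a * (b * (a * y * a⁻¹) * b⁻¹) * a⁻¹ := by group
      _ = a * ((b * y * b⁻¹) * (b * x * b⁻¹)) * a⁻¹ := by rw [hay]; group
      _ = a * (y * (x * y⁻¹)) * a⁻¹ := by rw [hby, hbx]
      _ = x := by rw [← mul_assoc y x, ← hxy, mul_inv_cancel_right, hax]
  obtain ⟨t, hte⟩ : ∃ t, t = a * b * a * (a * b * a) := ⟨_, rfl⟩
  have htx : t * x * t⁻¹ = x⁻¹ := by
    calc t * x * t⁻¹ = (a * b * a) * ((a * b * a) * x * (a * b * a)⁻¹) * (a * b * a)⁻¹ := by rw [hte]; group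
      _ = ((a * b * a) * y * (a * b * a)⁻¹)⁻¹ := by rw [hsx]; group
      _ = x⁻¹ := by rw [hsy]
  have hty : t * y * t⁻¹ = y⁻¹ := by
    calc t * y * t⁻¹ = (a * b * a) * ((a * b * a) * y * (a * b * a)⁻¹) * (a * b * a)⁻¹ := by rw [hte]; group
      _ = y⁻¹ := by rw [hsy, hsx]
  -- `t` inverts `E`
  have hzx : Subgroup.zpowers x = Z := Subgroup.eq_of_le_of_card_ge (Subgroup.zpowers_le.2 hx) (by
    rw [hZcard, Nat.card_zpowers, orderOf_eq_prime (hZp x hx) hx1])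
  have hEgen : E ≤ Subgroup.zpowers x ⊔ Subgroup.zpowers y :=
    hzx ▸ hsup Z y hZE hZcard hyE hyZ
  have hinv : ∀ e ∈ E, t * e * t⁻¹ = e⁻¹ := by
    intro e he
    let I : Subgroup G :=
      { carrier := {e | e ∈ E ∧ t * e * t⁻¹ = e⁻¹}
        one_mem' := ⟨one_mem _, by group⟩
        mul_mem' := fun {e f} he hf => ⟨mul_mem he.1 hf.1, by
          rw [mul_inv_rev, hEc _ (inv_mem hf.1) _ (inv_mem he.1), ← he.2, ← hf.2]; group⟩
        inv_mem' := fun {e} he => ⟨inv_mem he.1, by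
          calc t * e⁻¹ * t⁻¹ = (t * e * t⁻¹)⁻¹ := by group
            _ = e⁻¹⁻¹ := by rw [he.2]⟩ }
    have hI : Subgroup.zpowers x ⊔ Subgroup.zpowers y ≤ I :=
      sup_le (Subgroup.zpowers_le.2 (show x ∈ I from ⟨hZE hx, htx⟩))
        (Subgroup.zpowers_le.2 (show y ∈ I from ⟨hyE, hty⟩))
    exact (hI (hEgen he)).2
  have hEn : (P : Subgroup G) ≤ Subgroup.normalizer (E : Set G) := by
    intro q hq
    refine mem_normalizer_of_cj_le ?_
    rintro _ ⟨e, he, rfl⟩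
    have h1 := (hmemE e).1 he
    refine (hmemE _).2 ⟨mul_mem (mul_mem hq h1.1) (inv_mem hq), ?_⟩
    show (q * e * q⁻¹) ^ p = 1
    rw [conj_pow, h1.2, mul_one, mul_inv_cancel]
  have htN : t ∈ Subgroup.normalizer (E : Set G) := by
    refine mem_normalizer_of_cj_le ?_
    rintro _ ⟨e, he, rfl⟩
    show t * e * t⁻¹ ∈ E
    rw [hinv e he]; exact inv_mem he
  set K := Subgroup.centralizer (E : Set G) with hKdef
  set M := K ⊔ (P : Subgroup G) with hMdef
  have hKN : ∀ n ∈ Subgroup.normalizer (E : Set G), cj K n = K := fun n hn => by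
    rw [hKdef, cj_centralizer, cj_eq_self hn]
  have hcommK : ∀ n ∈ Subgroup.normalizer (E : Set G), t * n * t⁻¹ * n⁻¹ ∈ K := by
    intro n hn
    refine Subgroup.mem_centralizer_iff.2 fun e he => ?_
    have he' : n⁻¹ * e * n ∈ E := by
      simpa using (Subgroup.mem_set_normalizer_iff.1 (inv_mem hn) e).1 he
    have h1 : t⁻¹ * e * t = e⁻¹ := by
      calc t⁻¹ * e * t = t⁻¹ * (t * e⁻¹ * t⁻¹) * t := by rw [hinv _ (inv_mem he), inv_inv]
        _ = e⁻¹ := by group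
    have h2 : (t * n * t⁻¹ * n⁻¹)⁻¹ * e * (t * n * t⁻¹ * n⁻¹) = e := by
      calc (t * n * t⁻¹ * n⁻¹)⁻¹ * e * (t * n * t⁻¹ * n⁻¹)
          = n * (t * (n⁻¹ * (t⁻¹ * e * t) * n) * t⁻¹) * n⁻¹ := by group
        _ = n * (n⁻¹ * e⁻¹ * n)⁻¹ * n⁻¹ := by
            rw [h1, hinv _ (by simpa [mul_assoc] using inv_mem he' : n⁻¹ * e⁻¹ * n ∈ E)]
        _ = e := by group
    calc e * (t * n * t⁻¹ * n⁻¹) = (t * n * t⁻¹ * n⁻¹) * ((t * n * t⁻¹ * n⁻¹)⁻¹ * e * (t * n * t⁻¹ * n⁻¹)) := by group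
      _ = _ := by rw [h2]
  have htM : cj M t = M := by
    refine cj_eq_of_cj_le ?_
    rw [hMdef, cj_sup]
    refine sup_le ((hKN t htN).le.trans le_sup_left) ?_
    rintro _ ⟨q, hq, rfl⟩
    show t * q * t⁻¹ ∈ K ⊔ (P : Subgroup G)
    rw [show t * q * t⁻¹ = (t * q * t⁻¹ * q⁻¹) * q by group]
    exact mul_mem (Subgroup.mem_sup_left (hcommK q (hEn hq))) (Subgroup.mem_sup_right hq)
  have hPM : SylIn p (P : Subgroup G) M := (sylIn_top P).mono le_sup_right le_top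
  obtain ⟨m, hm, hmt⟩ := frattini_conj (H := Subgroup.zpowers t) hPM
    (Subgroup.zpowers_le.2 (mem_normalizer_iff_cj.2 htM)) (Subgroup.mem_zpowers t)
  have hKPN : M ≤ Subgroup.normalizer (E : Set G) :=
    sup_le (Subgroup.centralizer_le_normalizer _) hEn
  obtain ⟨c, hc, q, hq, rfl⟩ : ∃ c ∈ K, ∃ q ∈ (P : Subgroup G), c * q = m := by
    haveI : (K.subgroupOf M).Normal :=
      (Subgroup.normal_subgroupOf_iff_le_normalizer le_sup_left).2
        fun n hn => mem_normalizer_iff_cj.2 (hKN n (hKPN hn))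
    have := Subgroup.mul_normal (H := ((P : Subgroup G).subgroupOf M)) (N := K.subgroupOf M)
    have hmem : (⟨m, hm⟩ : ↥M) ∈ (K.subgroupOf M) ⊔ ((P : Subgroup G).subgroupOf M) := by
      rw [← Subgroup.subgroupOf_sup le_sup_left le_sup_right]
      exact hm
    obtain ⟨c, hc, q, hq, he⟩ := Subgroup.mem_sup_of_normal_left.1 hmem
    exact ⟨c, hc, q, hq, congrArg Subtype.val he⟩
  -- `c * q * t` normalises `P` and induces on `P` the inverse map on `E`, the identity modulo `E`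
  obtain ⟨s, hse⟩ : ∃ s, s = q⁻¹ * (c * q * t) := ⟨_, rfl⟩
  have hsP : s ∈ Subgroup.normalizer ((P : Subgroup G) : Set G) :=
    hse ▸ mul_mem (inv_mem (Subgroup.le_normalizer hq)) hmt
  have hs : s = (q⁻¹ * c * q) * t := by rw [hse]; group
  have hcK : q⁻¹ * c * q ∈ K := by
    rw [← hKN q⁻¹ (inv_mem (hEn hq))]
    simpa using conj_mem_cj (g := q⁻¹) hc
  have hsinv : ∀ e ∈ E, s * e * s⁻¹ = e⁻¹ := by
    intro e he
    rw [hs]
    calc q⁻¹ * c * q * t * e * (q⁻¹ * c * q * t)⁻¹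
        = (q⁻¹ * c * q) * (t * e * t⁻¹) * (q⁻¹ * c * q)⁻¹ := by group
      _ = e⁻¹ := by
          rw [hinv e he, ← Subgroup.mem_centralizer_iff.1 hcK _ (inv_mem he), mul_inv_cancel_right]
  have hsu : s * u * s⁻¹ ∈ (P : Subgroup G) := (Subgroup.mem_set_normalizer_iff.1 hsP u).1 huP
  have hd : s * u * s⁻¹ * u⁻¹ ∈ E := by
    have hdK : s * u * s⁻¹ * u⁻¹ ∈ K := by
      have h2 : u * (q⁻¹ * c * q)⁻¹ * u⁻¹ ∈ K := by
        rw [← hKN u (hEn huP)]; exact conj_mem_cj (inv_mem hcK)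
      have h3 := mul_mem (mul_mem hcK (hcommK u (hEn huP))) h2
      rw [hs]
      rw [show q⁻¹ * c * q * t * u * (q⁻¹ * c * q * t)⁻¹ * u⁻¹
        = q⁻¹ * c * q * (t * u * t⁻¹ * u⁻¹) * (u * (q⁻¹ * c * q)⁻¹ * u⁻¹) by group]
      exact h3
    have hdP := mul_mem hsu (inv_mem huP)
    refine (hmemE _).2 ⟨hdP, ?_⟩
    by_contra hne
    obtain ⟨d, hde⟩ : ∃ d, d = s * u * s⁻¹ * u⁻¹ := ⟨_, rfl⟩
    rw [← hde] at hdK hdP hne
    -- a centralising element of `P` outside `E` would be central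
    have hsupP : (P : Subgroup G) ≤ E ⊔ Subgroup.zpowers d := by
      have hle : E ⊔ Subgroup.zpowers d ≤ (P : Subgroup G) := sup_le hEP (Subgroup.zpowers_le.2 hdP)
      refine (Subgroup.eq_of_le_of_card_ge hle ?_).ge
      obtain ⟨j, -, hj⟩ := (Nat.dvd_prime_pow Fact.out).1
        (show Nat.card ↥(E ⊔ Subgroup.zpowers d) ∣ p ^ 3 from hcard ▸ Subgroup.card_dvd_of_le hle)
      rw [hj, show Nat.card ↥(P : Subgroup G) = p ^ 3 from hcard]
      refine Nat.pow_le_pow_right (Fact.out : p.Prime).pos (Nat.not_lt.1 fun hlt => hne ?_)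
      have heq : E = E ⊔ Subgroup.zpowers d := Subgroup.eq_of_le_of_card_ge le_sup_left (by
        rw [hj, hEcard]; exact Nat.pow_le_pow_right (Fact.out : p.Prime).pos (by omega))
      have : d ∈ E := by rw [heq]; exact Subgroup.mem_sup_right (Subgroup.mem_zpowers d)
      exact ((hmemE d).1 this).2
    have hdc : (⟨d, hdP⟩ : ↥P) ∈ Subgroup.center ↥P := Subgroup.mem_center_iff.2 fun b => Subtype.ext (by
      show (b : G) * d = d * b
      exact Subgroup.mem_centralizer_singleton_iff.1 (sup_le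
        (fun e he => Subgroup.mem_centralizer_singleton_iff.2 (Subgroup.mem_centralizer_iff.1 hdK e he))
        (Subgroup.zpowers_le.2 (Subgroup.mem_centralizer_singleton_iff.2 rfl)) (hsupP b.2)))
    exact hne (hZp d ⟨_, hdc, rfl⟩)
  obtain ⟨d, hde⟩ : ∃ d, d = s * u * s⁻¹ * u⁻¹ := ⟨_, rfl⟩
  rw [← hde] at hd
  have h1 : (s * u * s⁻¹) ^ p = u ^ p := by
    rw [show s * u * s⁻¹ = d * u by rw [hde]; group]
    have h5 : (d * u) ^ p = d ^ p * u ^ p :=
      congrArg Subtype.val (hmul ⟨d, hEP hd⟩ ⟨u, huP⟩)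
    rw [h5, ((hmemE d).1 hd).2, one_mul]
  rw [conj_pow, hsinv _ (hZE (hpowZ u huP))] at h1
  refine huE ((hmemE u).2 ⟨huP, ?_⟩)
  have h2 : u ^ p * u ^ p = 1 := by nth_rewrite 1 [← h1]; exact inv_mul_cancel _
  have h3 := hZp _ (hpowZ u huP)
  obtain ⟨k, hk⟩ : ∃ k, p = 2 * k + 1 := (Fact.out : p.Prime).odd_of_ne_two hp
  calc u ^ p = (u ^ p) ^ (2 * k + 1) := by rw [pow_succ, pow_mul, pow_two, h2, one_pow, one_mul]
    _ = 1 := by rw [← hk]; exact h3

end Cfsg.Agent.S3053
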