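import Cfsg.Statements.S3055
import Cfsg.Agent.Lib.LocalEven.P3Bound

set_option autoImplicit false
open Cfsg
open Cfsg.Agent Cfsg.Agent.Fusion
open scoped commutatorElement

namespace Cfsg.Agent.S3055

/-- Let p be an odd prime and G a finite group with a Sylow p-subgroup P that is extraspecial of order p³ and exponent p. If all nonidentity elements of P are conjugate in G, then p ≤ 7. -/
theorem result {G : Type*} [Group G] [Finite G]
    {p : ℕ} [Fact p.Prime] (hp : p ≠ 2) (P : Sylow p G) (hE : Cfsg.IsExtraspecial p ↥P)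
    (hcard : Nat.card P = p ^ 3) (hexp : Monoid.exponent ↥P = p)
    (hconj : ∀ x y : ↥P, x ≠ 1 → y ≠ 1 → ∃ g : G, g * (x : G) * g⁻¹ = (y : G)) :
    p ≤ 7 := by
  classical
  have hprime : p.Prime := Fact.out
  obtain ⟨π, -, z0, hsurj, hker, hcent, hzo, -, -, -⟩ := LocalEven.exists_coordinates hE hcard hexp
  have hz01 : z0 ≠ 1 := fun h => hprime.ne_one (by rw [← hzo, h, orderOf_one])
  have hz0c : z0 ∈ Subgroup.center ↥P := hcent ▸ Subgroup.mem_zpowers z0
  have hpow : ∀ x ∈ (P : Subgroup G), x ^ p = 1 := fun x hx => by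
    have h := Monoid.pow_exponent_eq_one (⟨x, hx⟩ : ↥P)
    rw [hexp] at h
    exact congrArg Subtype.val h
  -- every automorphism of order `p` of a subgroup of order `p²` of `P` is induced
  have hSL : ∀ A : Subgroup G, A ≤ (P : Subgroup G) → Nat.card A = p ^ 2 →
      ∀ φ : MulAut ↥A, orderOf φ = p → ∃ g : G, ∀ a : ↥A, (φ a : G) = g * (a : G) * g⁻¹ := by
    intro A hAP hAcard φ hφ
    -- a fixed point `w` of `φ`
    have hφp : IsPGroup p ↥(Subgroup.zpowers φ) :=
      IsPGroup.of_card (n := 1) (by rw [Nat.card_zpowers, hφ, pow_one])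
    obtain ⟨w, hw, hw1⟩ := hφp.exists_fixed_point_of_prime_dvd_card_of_fixed_point ↥A
      (by rw [hAcard]; exact dvd_pow_self p two_ne_zero) (a := 1) (fun g => map_one (g : MulAut ↥A))
    have hwfix : φ w = w := hw ⟨φ, Subgroup.mem_zpowers φ⟩
    have hwG1 : (w : G) ≠ 1 := fun h => hw1 (Subtype.ext h).symm
    -- a Sylow subgroup centralizing `w` and containing `A`
    obtain ⟨g, hg⟩ := hconj z0 ⟨w, hAP w.2⟩ hz01 (fun h => hwG1 (congrArg Subtype.val h))
    have hCw : cj (P : Subgroup G) g ≤ Subgroup.centralizer ({(w : G)} : Set G) := by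
      rintro _ ⟨x, hx, rfl⟩
      refine Subgroup.mem_centralizer_singleton_iff.2 ?_
      have h1 : x * (z0 : G) = z0 * x := congrArg Subtype.val (Subgroup.mem_center_iff.1 hz0c ⟨x, hx⟩)
      have hg' : g * (z0 : G) * g⁻¹ = w := hg
      show g * x * g⁻¹ * w = w * (g * x * g⁻¹)
      rw [← hg']
      calc g * x * g⁻¹ * (g * (z0 : G) * g⁻¹) = g * (x * z0) * g⁻¹ := by group
        _ = g * (z0 * x) * g⁻¹ := by rw [h1]
        _ = g * (z0 : G) * g⁻¹ * (g * x * g⁻¹) := by group
    have hAC : A ≤ Subgroup.centralizer ({(w : G)} : Set G) := fun x hx =>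
      Subgroup.mem_centralizer_singleton_iff.2
        (congrArg Subtype.val (IsPGroup.commutative_of_card_eq_prime_sq hAcard ⟨x, hx⟩ w))
    obtain ⟨c, hc, hcA⟩ := ((((sylIn_top P).cj' (g := g) (by rw [Subgroup.normalizer_eq_top]; trivial))).mono hCw le_top).conj_le
      (P.isPGroup'.to_le hAP) hAC
    obtain ⟨k, hk⟩ : ∃ k, k = c⁻¹ * g := ⟨_, rfl⟩
    have hkw : k * (z0 : G) * k⁻¹ = w := by
      rw [hk, show c⁻¹ * g * (z0 : G) * (c⁻¹ * g)⁻¹ = c⁻¹ * (g * z0 * g⁻¹) * c by group]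
      show c⁻¹ * (g * (z0 : G) * g⁻¹) * c = w
      rw [show g * (z0 : G) * g⁻¹ = w from hg, mul_assoc, ← Subgroup.mem_centralizer_singleton_iff.1 hc,
        inv_mul_cancel_left]
    have hA0 : cj A k⁻¹ ≤ (P : Subgroup G) := by
      rw [cj_le_iff, inv_inv, hk, ← cj_cj, ← cj_le_cj (g := c), cj_inv_cj]
      exact hcA
    obtain ⟨hn0, hnc, -⟩ := LocalEven.p3_facts P hE hcard hexp hA0 (by rw [card_cj, hAcard])
    obtain ⟨u₀, hu₀, hu₀c⟩ := SetLike.not_le_iff_exists.1 hnc
    -- coordinates with `w` first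
    obtain ⟨b, hb, hbw⟩ : ∃ b ∈ A, b ∉ Subgroup.zpowers (w : G) := by
      by_contra h
      push Not at h
      have h2 := Subgroup.card_le_of_le h
      rw [hAcard, Nat.card_zpowers, orderOf_eq_prime (hpow w (hAP w.2)) hwG1] at h2
      nlinarith [hprime.two_le]
    obtain ⟨e, hmem, hsur, hadd, hinj, hew, heb⟩ :=
      LocalEven.exists_pair_equiv hAcard (fun x hx => hpow x (hAP hx)) w.2 hb hwG1 hbw
    have he0 : e 0 = 1 := by have h := hadd 0 0; rwa [add_zero, left_eq_mul] at h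
    have hlin : ∀ (f : ZMod p × ZMod p → G), (∀ v v', f (v + v') = f v * f v') → ∀ (n : ℕ) v,
        f (n • v) = f v ^ n := fun f hf n v => by
      induction n with
      | zero =>
        have h := hf 0 0
        rw [add_zero, left_eq_mul] at h
        simp [h]
      | succ n ih => rw [succ_nsmul, hf, ih, pow_succ]
    have hext : ∀ (f f' : ZMod p × ZMod p → G), (∀ v v', f (v + v') = f v * f v') →
        (∀ v v', f' (v + v') = f' v * f' v') → f (1, 0) = f' (1, 0) → f (0, 1) = f' (0, 1) → ∀ v, f v = f' v := by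
      intro f f' hf hf' h1 h2 v
      rw [show v = v.1.val • ((1 : ZMod p), (0 : ZMod p)) + v.2.val • ((0 : ZMod p), (1 : ZMod p)) from
        Prod.ext (by simp [ZMod.natCast_zmod_val]) (by simp [ZMod.natCast_zmod_val]),
        hf, hf', hlin f hf, hlin f hf, hlin f' hf', hlin f' hf', h1, h2]
    -- the transvection induced by `u = k u₀ k⁻¹`
    obtain ⟨u, hu⟩ : ∃ u, u = k * u₀ * k⁻¹ := ⟨_, rfl⟩
    have huw : u * (w : G) * u⁻¹ = w := by
      have h1 : u₀ * (z0 : G) = z0 * u₀ := congrArg Subtype.val (Subgroup.mem_center_iff.1 hz0c ⟨u₀, hu₀⟩)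
      rw [hu, ← hkw, show k * u₀ * k⁻¹ * (k * (z0 : G) * k⁻¹) * (k * u₀ * k⁻¹)⁻¹
        = k * (u₀ * z0) * u₀⁻¹ * k⁻¹ by group, h1]
      group
    obtain ⟨s₀, hs₀⟩ : ∃ s : ZMod p, u * b * u⁻¹ = e (s, 1) := by
      obtain ⟨b₀, hb₀⟩ : ∃ b₀, b₀ = k⁻¹ * b * k := ⟨_, rfl⟩
      have hb₀P : b₀ ∈ (P : Subgroup G) := hA0 (by rw [mem_cj, hb₀]; simpa [mul_assoc] using hb)
      have h1 : ⁅(⟨u₀, hu₀⟩ : ↥P), ⟨b₀, hb₀P⟩⁆ ∈ Subgroup.zpowers z0 := by
        rw [← hcent, ← hE.1.2.2, commutator_def]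
        exact Subgroup.commutator_mem_commutator (Subgroup.mem_top _) (Subgroup.mem_top _)
      obtain ⟨i, hi⟩ := h1
      have hi' : (z0 : G) ^ i = u₀ * b₀ * u₀⁻¹ * b₀⁻¹ := by
        simpa [commutatorElement_def] using congrArg Subtype.val hi
      refine ⟨(i : ZMod p), ?_⟩
      rw [show ((i : ZMod p), (1 : ZMod p)) = ((i : ZMod p).val • ((1 : ZMod p), (0 : ZMod p))) + (0, 1) by
        simp [ZMod.natCast_zmod_val], hadd, hlin e hadd, hew, heb]
      have h2 : (w : G) ^ (i : ZMod p).val = k * (z0 : G) ^ i * k⁻¹ := by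
        rw [← conj_zpow, hkw, ← zpow_natCast, zpow_eq_zpow_iff_modEq, orderOf_eq_prime (hpow w (hAP w.2)) hwG1,
          ← ZMod.intCast_eq_intCast_iff]
        simp [ZMod.natCast_zmod_val]
      rw [h2, hi', hu, hb₀]
      group
    have hact : ∀ v, u * e v * u⁻¹ = e (v.1 + s₀ * v.2, v.2) := by
      refine hext (fun v => u * e v * u⁻¹) (fun v => e (v.1 + s₀ * v.2, v.2)) (fun v v' => ?_) (fun v v' => ?_) ?_ ?_
      · show u * e (v + v') * u⁻¹ = _
        rw [hadd]; group
      · show e ((v + v').1 + s₀ * (v + v').2, (v + v').2) = _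
        rw [← hadd]
        exact congrArg e (Prod.ext (by simp; ring) rfl)
      · show u * e (1, 0) * u⁻¹ = _
        rw [hew, huw, ← hew]; simp
      · show u * e (0, 1) * u⁻¹ = _
        rw [heb, hs₀]; simp
    have hs0 : s₀ ≠ 0 := by
      intro h
      refine hu₀c (Subgroup.mem_centralizer_iff.2 fun y hy => ?_)
      obtain ⟨v, hv⟩ := hsur (k * y * k⁻¹) (by
        have := mem_cj.1 hy
        simpa [mul_assoc] using this)
      have h2 := hact v
      rw [h, zero_mul, add_zero, hv, hu,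
        show k * u₀ * k⁻¹ * (k * y * k⁻¹) * (k * u₀ * k⁻¹)⁻¹ = k * (u₀ * y * u₀⁻¹) * k⁻¹ by group] at h2
      have h3 := mul_left_cancel (mul_right_cancel h2)
      rw [mul_inv_eq_iff_eq_mul] at h3
      exact h3.symm
    -- the automorphism `φ` in coordinates
    obtain ⟨⟨s, m⟩, hsm⟩ := hsur (φ ⟨b, hb⟩) (φ ⟨b, hb⟩).2
    have hφe : ∀ v, (φ ⟨e v, hmem v⟩ : G) = e (v.1 + s * v.2, m * v.2) := by
      refine hext (fun v => (φ ⟨e v, hmem v⟩ : G)) (fun v => e (v.1 + s * v.2, m * v.2)) (fun v v' => ?_)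
        (fun v v' => ?_) ?_ ?_
      · show (φ ⟨e (v + v'), hmem _⟩ : G) = φ ⟨e v, hmem v⟩ * φ ⟨e v', hmem v'⟩
        rw [← Subgroup.coe_mul, ← map_mul]
        exact congrArg (fun x => (φ x : G)) (Subtype.ext (hadd v v'))
      · show e ((v + v').1 + s * (v + v').2, m * (v + v').2) = _
        rw [← hadd]
        exact congrArg e (Prod.ext (by simp; ring) (by simp; ring))
      · show (φ ⟨e (1, 0), hmem _⟩ : G) = _
        rw [show (⟨e (1, 0), hmem _⟩ : ↥A) = w from Subtype.ext hew, hwfix, ← hew]; simp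
      · show (φ ⟨e (0, 1), hmem _⟩ : G) = _
        rw [show (⟨e (0, 1), hmem _⟩ : ↥A) = ⟨b, hb⟩ from Subtype.ext heb, ← hsm]; simp
    have hm : m = 1 := by
      have hpw : ∀ n : ℕ, ∃ r : ZMod p, (((φ ^ n) ⟨e (0, 1), hmem _⟩ : ↥A) : G) = e (r, m ^ n) := by
        intro n
        induction n with
        | zero => exact ⟨0, by simp⟩
        | succ n ih =>
          obtain ⟨r, hr⟩ := ih
          refine ⟨r + s * m ^ n, ?_⟩
          rw [pow_succ', MulAut.mul_apply,
            show (φ ^ n) ⟨e (0, 1), hmem _⟩ = ⟨e (r, m ^ n), hmem _⟩ from Subtype.ext hr, hφe, ← pow_succ']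
      obtain ⟨r, hr⟩ := hpw p
      rw [show φ ^ p = 1 from orderOf_dvd_iff_pow_eq_one.1 hφ.dvd, MulAut.one_apply] at hr
      have h := congrArg Prod.snd (hinj hr)
      simp only [ZMod.pow_card] at h
      exact h.symm
    obtain ⟨n, hn⟩ : ∃ n : ℕ, (n : ZMod p) * s₀ = s :=
      ⟨(s / s₀).val, by rw [ZMod.natCast_zmod_val, div_mul_cancel₀ _ hs0]⟩
    have hun : ∀ (j : ℕ) v, u ^ j * e v * (u ^ j)⁻¹ = e (v.1 + (j : ZMod p) * s₀ * v.2, v.2) := by
      intro j
      induction j with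
      | zero => intro v; simp
      | succ j ih =>
        intro v
        rw [pow_succ, show u ^ j * u * e v * (u ^ j * u)⁻¹ = u ^ j * (u * e v * u⁻¹) * (u ^ j)⁻¹ by group,
          hact, ih]
        exact congrArg e (Prod.ext (by push_cast; ring) rfl)
    refine ⟨u ^ n, fun a => ?_⟩
    obtain ⟨v, hv⟩ := hsur a a.2
    rw [show a = ⟨e v, hmem v⟩ from Subtype.ext hv.symm, hφe, hun, hn, hm, one_mul]
  -- `p` subgroups of order `p²`
  by_contra hgt
  let A : ZMod p → Subgroup G := fun i =>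
    ((AddSubgroup.toSubgroup (AddSubgroup.zmultiples (![1, i] : Fin 2 → ZMod p))).comap π).map (P : Subgroup G).subtype
  have hAcard : ∀ i, Nat.card (A i) = p ^ 2 := by
    intro i
    show Nat.card (((AddSubgroup.toSubgroup (AddSubgroup.zmultiples (![1, i] : Fin 2 → ZMod p))).comap π).map
      (P : Subgroup G).subtype : Subgroup G) = p ^ 2
    rw [Subgroup.card_map_of_injective (P : Subgroup G).subtype_injective]
    set T := AddSubgroup.toSubgroup (AddSubgroup.zmultiples (![1, i] : Fin 2 → ZMod p))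
    have h1 := Subgroup.relIndex_ker (f := π) (K := T.comap π)
    have h2 := Subgroup.relIndex_mul_relIndex ⊥ π.ker (T.comap π) bot_le
      (fun x hx => Subgroup.mem_comap.2 (by rw [MonoidHom.mem_ker.1 hx]; exact one_mem T))
    rw [Subgroup.relIndex_bot_left, Subgroup.relIndex_bot_left, h1,
      Subgroup.map_comap_eq_self_of_surjective hsurj, hker] at h2
    have hT : Nat.card T = p := by
      refine (Nat.card_congr (Equiv.subtypeEquiv Multiplicative.toAdd (fun x => Iff.rfl))).trans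
        ((Nat.card_zmultiples (![1, i] : Fin 2 → ZMod p)).trans (addOrderOf_eq_prime ?_ ?_))
      · funext j; simp
      · exact fun h => one_ne_zero (congrFun h 0 : (1 : ZMod p) = 0)
    exact h2.symm.trans ((congrArg₂ (· * ·) hE.2 hT).trans (sq p).symm)
  have hA : Function.Injective A := by
    intro i j hij
    have h := Subgroup.map_injective (P : Subgroup G).subtype_injective hij
    obtain ⟨x, hx⟩ := hsurj (Multiplicative.ofAdd (![1, i] : Fin 2 → ZMod p))
    have h1 : x ∈ (AddSubgroup.toSubgroup (AddSubgroup.zmultiples (![1, i] : Fin 2 → ZMod p))).comap π := by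
      rw [Subgroup.mem_comap, hx]; exact AddSubgroup.mem_zmultiples (![1, i] : Fin 2 → ZMod p)
    rw [h, Subgroup.mem_comap, hx] at h1
    obtain ⟨n, hn⟩ := h1
    have hn' : n • (![1, j] : Fin 2 → ZMod p) = ![1, i] := hn
    have e0 := congrFun hn' 0
    have e1 := congrFun hn' 1
    simp at e0 e1
    rw [← e1, e0, one_mul]
  have hAP : ∀ i, A i ≤ (P : Subgroup G) := fun i => Subgroup.map_subtype_le _
  have h := LocalEven.radical_count P hE hcard hexp A hA hAP hAcard (fun i => hSL _ (hAP i) (hAcard i))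
  rw [ZMod.card] at h
  rcases (show p = 8 ∨ p = 9 ∨ p = 10 ∨ p = 11 ∨ p = 12 ∨ 13 ≤ p by omega) with h' | h' | h' | h' | h' | h'
  · subst h'; norm_num at hprime
  · subst h'; norm_num at hprime
  · subst h'; norm_num at hprime
  · have := h.2 (Or.inr h'); omega
  · subst h'; norm_num at hprime
  · have := h.1 (by omega); omega

end Cfsg.Agent.S3055
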