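import Cfsg.Statements.S3057
import Mathlib
import Cfsg.Agent.Lib.Solv.UniqueSub
import Cfsg.Agent.Lib.Solv.Generation
import Cfsg.Agent.Lib.Solv.PSolvHall
import Cfsg.Agent.Lib.Fusion.Cores
import Cfsg.Agent.Lib.Fusion.Reduction
-- import your own Cfsg.Agent.* helpers here

set_option autoImplicit false
open Cfsg

open Cfsg.Agent Cfsg.Agent.Fusion
open scoped Pointwise

namespace Cfsg.Agent.S3057

/-- One step in the intersection graph. -/
def Link {G : Type*} [Group G] {p : ℕ} (A B : Sylow p G) : Prop :=
  A ≠ B ∧ (A : Subgroup G) ⊓ (B : Subgroup G) ≠ ⊥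

/-- A cyclic or quaternion `p`-group has a unique subgroup of order `p`. -/
theorem unique_of_cyclic_or_quaternion {X : Type*} [Group X] [Finite X] {p : ℕ} [Fact p.Prime]
    (h : IsCyclic X ∨ (p = 2 ∧ ∃ n : ℕ, Nonempty (X ≃* QuaternionGroup (2 ^ n)))) : Solv.UniqueOrderP p X := by
  classical
  letI := Fintype.ofFinite X
  intro x y hx hy hy1
  rcases h with h | ⟨rfl, n, ⟨e⟩⟩
  · by_contra hne
    have hle := IsCyclic.card_pow_eq_one_le (α := X) (Fact.out (p := p.Prime)).pos
    have hsub : insert x ((Subgroup.zpowers y : Set X).toFinset) ⊆ Finset.univ.filter (fun a : X => a ^ p = 1) := by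
      intro a ha
      simp only [Finset.mem_filter, Finset.mem_univ, true_and]
      rcases Finset.mem_insert.1 ha with rfl | ha
      · exact hx
      · obtain ⟨k, rfl⟩ := Set.mem_toFinset.1 ha
        show (y ^ k) ^ p = 1
        rw [← zpow_natCast, ← zpow_mul, mul_comm, zpow_mul, zpow_natCast, hy, one_zpow]
    have h1 := Finset.card_le_card hsub
    rw [Finset.card_insert_of_notMem (by simpa using hne), Set.toFinset_card] at h1
    have h2 : Fintype.card (Subgroup.zpowers y : Set X) = p := by
      rw [← Nat.card_eq_fintype_card]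
      exact (Nat.card_zpowers y).trans (orderOf_eq_prime hy hy1)
    omega
  · have key : ∀ q : QuaternionGroup (2 ^ n), q ^ 2 = 1 → q = 1 ∨ q = QuaternionGroup.a ((2 ^ n : ℕ) : ZMod (2 * 2 ^ n)) := by
      intro q hq
      have hne : (((2 : ℕ) ^ n : ℕ) : ZMod (2 * 2 ^ n)) ≠ 0 := fun h => by
        rw [ZMod.natCast_eq_zero_iff] at h
        have := Nat.le_of_dvd (by positivity) h
        have : 0 < 2 ^ n := by positivity
        omega
      rcases q with i | i
      · rw [sq, QuaternionGroup.a_mul_a, QuaternionGroup.one_def, QuaternionGroup.a.injEq] at hq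
        haveI : NeZero (2 * 2 ^ n) := ⟨by positivity⟩
        have hv : 2 * 2 ^ n ∣ i.val + i.val := by
          rw [← ZMod.natCast_eq_zero_iff, Nat.cast_add, ZMod.natCast_zmod_val]
          exact hq
        obtain ⟨c, hc⟩ := hv
        have hlt := ZMod.val_lt i
        rcases c with _ | _ | c
        · left
          rw [QuaternionGroup.one_def, (ZMod.val_eq_zero i).1 (by omega)]
        · right
          have : i.val = 2 ^ n := by omega
          exact congrArg QuaternionGroup.a ((ZMod.natCast_zmod_val i).symm.trans (congrArg Nat.cast this))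
        · exfalso
          have : 2 * 2 ^ n * (c + 1 + 1) = 2 * 2 ^ n * c + 2 * (2 * 2 ^ n) := by ring
          omega
      · rw [QuaternionGroup.xa_sq, QuaternionGroup.one_def, QuaternionGroup.a.injEq] at hq
        exact absurd hq hne
    have hy' := (key (e y) (by rw [← map_pow, hy, map_one])).resolve_left fun h => hy1 (e.injective (h.trans e.map_one.symm))
    rcases key (e x) (by rw [← map_pow, hx, map_one]) with h | h
    · rw [show x = 1 from e.injective (h.trans e.map_one.symm)]; exact one_mem _
    · rw [show x = y from e.injective (h.trans hy'.symm)]; exact Subgroup.mem_zpowers y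

/-- Let p be a prime and G a finite p-solvable group of order divisible by p, with Sylow p-subgroup P. Then the Sylow p-subgroups of G fail to be chain-connected through nontrivial intersections (equivalently, G has a strongly p-embedded subgroup) if and only if O_p(G) = 1 and P is cyclic or, for p = 2, generalized quaternion. -/
theorem result {G : Type*} [Group G] [Finite G]
    (p : ℕ) [Fact p.Prime] (hdiv : p ∣ Nat.card G) (hsol : Cfsg.IsPSolvable p G) (P : Sylow p G) :
    ¬ Cfsg.IsSylowChainConnected p G ↔
      Cfsg.pCore p G = ⊥ ∧ (IsCyclic ↥P ∨ (p = 2 ∧ ∃ n : ℕ, Nonempty (↥P ≃* QuaternionGroup (2 ^ n)))) := by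
  classical
  have hconn : Cfsg.IsSylowChainConnected p G ↔ ∀ S T : Sylow p G, Relation.ReflTransGen Link S T := by
    constructor
    · intro h S T
      obtain ⟨n, c, h0, hl, -, hstep⟩ := h S T
      rw [← h0, ← hl]
      have : ∀ i : Fin (n + 1), Relation.ReflTransGen Link (c 0) (c i) := by
        intro i
        induction i using Fin.induction with
        | zero => exact .refl
        | succ i ih => exact ih.tail (hstep i)
      exact this _
    · intro h S T
      by_cases hST : (S : Subgroup G) ⊓ (T : Subgroup G) = ⊥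
      · have : ∀ U, Relation.ReflTransGen Link S U → ∃ (n : ℕ) (c : Fin (n + 1) → Sylow p G),
            c 0 = S ∧ c (Fin.last n) = U ∧ ∀ i : Fin n, Link (c i.castSucc) (c i.succ) := by
          intro U hU
          induction hU with
          | refl => exact ⟨0, fun _ => S, rfl, rfl, fun i => i.elim0⟩
          | tail hab hbc ih =>
            rename_i b U
            obtain ⟨n, c, h0, hl, hs⟩ := ih
            refine ⟨n + 1, Fin.snoc c U, ?_, Fin.snoc_last _ _, fun i => ?_⟩
            · rw [show (0 : Fin (n + 1 + 1)) = Fin.castSucc 0 from rfl, Fin.snoc_castSucc, h0]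
            · induction i using Fin.lastCases with
              | last => rw [Fin.snoc_castSucc, Fin.succ_last, Fin.snoc_last, hl]; exact hbc
              | cast j => rw [Fin.snoc_castSucc, Fin.succ_castSucc, Fin.snoc_castSucc]; exact hs j
        obtain ⟨n, c, h0, hl, hs⟩ := this T (h S T)
        exact ⟨n, c, h0, hl, fun i => hST ▸ bot_le, hs⟩
      · by_cases he : S = T
        · subst he
          exact ⟨0, fun _ => S, rfl, rfl, fun i => inf_le_left, fun i => i.elim0⟩
        · refine ⟨1, ![S, T], rfl, rfl, fun i => ?_, fun i => ?_⟩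
          · fin_cases i
            · exact inf_le_left
            · exact inf_le_right
          · fin_cases i
            exact ⟨he, hST⟩
  rw [hconn]
  have hP1 : (P : Subgroup G) ≠ ⊥ := P.ne_bot_of_dvd_card hdiv
  constructor
  · intro hnc
    have hO : Cfsg.pCore p G = ⊥ := by
      by_contra hne
      refine hnc fun S T => ?_
      by_cases he : S = T
      · rw [he]
      · exact .single ⟨he, fun h => hne (le_bot_iff.1 (h ▸ le_inf (pCore_le_sylow S) (pCore_le_sylow T)))⟩
    refine ⟨hO, Solv.cyclic_or_quaternion P.isPGroup' ?_⟩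
    by_contra hu
    refine hnc ?_
    -- the stabiliser of the class of `P`
    have hlink : ∀ (g : G) {A B : Sylow p G}, Link A B → Link (g • A) (g • B) := fun g {A B} h => by
      refine ⟨fun he => h.1 (smul_left_cancel g he), fun he => h.2 ?_⟩
      have e : ((g • A : Sylow p G) : Subgroup G) ⊓ (g • B : Sylow p G) = cj ((A : Subgroup G) ⊓ B) g := by
        rw [cj_inf]; rfl
      rw [e] at he
      rw [← cj_cj_inv ((A : Subgroup G) ⊓ B) g, he, cj_bot]
    have hsmul : ∀ (g : G) {A B : Sylow p G}, Relation.ReflTransGen Link A B →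
        Relation.ReflTransGen Link (g • A) (g • B) := fun g {A B} h => h.lift (g • ·) fun _ _ => hlink g
    have hsymm : ∀ {A B : Sylow p G}, Relation.ReflTransGen Link A B → Relation.ReflTransGen Link B A :=
      fun {A B} h => by
        induction h with
        | refl => exact .refl
        | tail _ hbc ih => exact Relation.ReflTransGen.head ⟨hbc.1.symm, by rw [inf_comm]; exact hbc.2⟩ ih
    let H : Subgroup G :=
      { carrier := {g | Relation.ReflTransGen Link P (g • P)}
        one_mem' := by show Relation.ReflTransGen Link P ((1 : G) • P); rw [one_smul]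
        mul_mem' := fun {a b} ha hb => by
          show Relation.ReflTransGen Link P ((a * b) • P)
          rw [mul_smul]
          exact ha.trans (hsmul a hb)
        inv_mem' := fun {a} ha => by
          have := hsymm (hsmul a⁻¹ ha)
          rwa [inv_smul_smul] at this }
    have hHN : ∀ Q : Subgroup G, Q ≤ P → Q ≠ ⊥ → Subgroup.normalizer (Q : Set G) ≤ H := by
      intro Q hQP hQ1 g hg
      show Relation.ReflTransGen Link P (g • P)
      by_cases he : P = g • P
      · rw [← he]
      · refine .single ⟨he, fun h => hQ1 (le_bot_iff.1 (h ▸ le_inf hQP ?_))⟩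
        exact (cj_eq_self hg).ge.trans (cj_mono hQP g)
    set N := Cfsg.pPrimeCore p G
    haveI : N.Normal := pPrimeCore_normal p G
    have hNco : (Nat.card N).Coprime p := card_pPrimeCore_coprime p G
    -- the elementary subgroup
    obtain ⟨x, z, hx, hz, hz1, hzc, hxz⟩ : ∃ x z : (P : Subgroup G), x ^ p = 1 ∧ z ^ p = 1 ∧ z ≠ 1 ∧
        z ∈ Subgroup.center _ ∧ x ∉ Subgroup.zpowers z := by
      haveI : Nontrivial (P : Subgroup G) := (Subgroup.nontrivial_iff_ne_bot _).2 hP1
      haveI := P.isPGroup'.center_nontrivial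
      obtain ⟨k, hk⟩ := IsPGroup.iff_card.1 (P.isPGroup'.to_subgroup (Subgroup.center (P : Subgroup G)))
      have hk0 : k ≠ 0 := fun h => by
        rw [h, pow_zero, Nat.card_eq_one_iff_unique] at hk
        exact not_subsingleton _ hk.1
      obtain ⟨⟨z, hzc⟩, hz⟩ := exists_prime_orderOf_dvd_card' (G := Subgroup.center (P : Subgroup G)) p (hk ▸ dvd_pow_self p hk0)
      rw [Subgroup.orderOf_mk] at hz
      unfold Solv.UniqueOrderP at hu
      push Not at hu
      obtain ⟨a, b, ha, hb, hb1, hab⟩ := hu
      have hz1 : z ≠ 1 := fun h => by rw [h, orderOf_one] at hz; exact (Fact.out (p := p.Prime)).ne_one hz.symm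
      have hzp : z ^ p = 1 := orderOf_dvd_iff_pow_eq_one.1 (dvd_of_eq hz)
      by_cases hbz : b ∈ Subgroup.zpowers z
      · refine ⟨a, z, ha, hzp, hz1, hzc, fun haz => hab ?_⟩
        rwa [show Subgroup.zpowers b = Subgroup.zpowers z from Subgroup.eq_of_le_of_card_ge (Subgroup.zpowers_le.2 hbz)
          (by rw [Nat.card_zpowers, Nat.card_zpowers, hz, orderOf_eq_prime hb hb1])]
      · exact ⟨b, z, hb, hzp, hz1, hzc, hbz⟩
    set E := Subgroup.closure ({(x : G), (z : G)} : Set G) with hE
    have hEP : E ≤ P := (Subgroup.closure_le _).2 (by rintro _ (rfl | rfl) <;> exact Subtype.prop _)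
    have hcomm : (x : G) * z = z * x := congrArg Subtype.val (Subgroup.mem_center_iff.1 hzc x)
    have hEab : IsMulCommutative E := Subgroup.isMulCommutative_closure (by
      rintro u (rfl | rfl) v (rfl | rfl) <;> first | rfl | exact hcomm | exact hcomm.symm)
    have hEexp : ∀ a ∈ E, a ^ p = 1 := fun a ha => by
      induction ha using Subgroup.closure_induction with
      | mem u hu =>
        rcases hu with rfl | rfl
        · exact congrArg Subtype.val hx
        · exact congrArg Subtype.val hz
      | one => exact one_pow _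
      | mul u v hu hv iu iv =>
        rw [(show Commute u v from congrArg Subtype.val (hEab.1.1 ⟨u, hu⟩ ⟨v, hv⟩)).mul_pow, iu, iv, one_mul]
      | inv u _ iu => rw [inv_pow, iu, inv_one]
    have hEH : N ≤ H := by
      have hco : (Nat.card E).Coprime (Nat.card N) := by
        obtain ⟨k, hk⟩ := IsPGroup.iff_card.1 (P.isPGroup'.to_le hEP)
        rw [hk]; exact (hNco.pow_right k).symm
      rw [← Solv.gen_eq E N hEab (by rw [Subgroup.normalizer_eq_top]; exact le_top) hco]
      refine iSup₂_le fun B hB => inf_le_right.trans ((Subgroup.centralizer_le_normalizer _).trans (hHN B (hB.1.trans hEP) ?_))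
      rintro rfl
      obtain ⟨a, ha, hEa⟩ := hB.2
      rw [bot_sup_eq] at hEa
      have hzE : (z : G) ∈ E := Subgroup.subset_closure (Or.inr rfl)
      have heq : Subgroup.zpowers (z : G) = E := by
        refine Subgroup.eq_of_le_of_card_ge (Subgroup.zpowers_le.2 hzE) ?_
        rw [← hEa, Nat.card_zpowers, Nat.card_zpowers, Subgroup.orderOf_coe, orderOf_eq_prime hz hz1]
        exact Nat.le_of_dvd (Fact.out (p := p.Prime)).pos (orderOf_dvd_of_pow_eq_one (hEexp a ha))
      obtain ⟨k, hk⟩ := heq.ge (Subgroup.subset_closure (Or.inl rfl) : (x : G) ∈ E)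
      exact hxz ⟨k, Subtype.ext (by simpa using hk)⟩
    -- the layer above the core
    set π := QuotientGroup.mk' N
    haveI : Nontrivial (G ⧸ N) := QuotientGroup.nontrivial_iff.2 fun h => by
      rw [h, Subgroup.card_top] at hNco
      exact (Nat.Prime.coprime_iff_not_dvd Fact.out).1 hNco.symm hdiv
    have hQ1 : Cfsg.pCore p (G ⧸ N) ≠ ⊥ := by
      obtain ⟨R, hRn, hR1, hR⟩ := Solv.exists_normal_pgroup_or_coprime
        (Solv.isPSolvable_map Fact.out hsol π (QuotientGroup.mk'_surjective N))
      haveI := hRn
      rcases hR with hR | hR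
      · exact fun h => hR1 (le_bot_iff.1 (h ▸ le_pCore hR))
      · exfalso
        have h := le_pPrimeCore hR
        rw [pPrimeCore_quotient_eq_bot] at h
        exact hR1 (le_bot_iff.1 h)
    set M := (Cfsg.pCore p (G ⧸ N)).comap π
    haveI : (Cfsg.pCore p (G ⧸ N)).Normal := pCore_normal p _
    haveI : M.Normal := Subgroup.Normal.comap inferInstance π
    set T0 := (P : Subgroup G) ⊓ M
    have hT0 : SylIn p T0 M := (sylIn_top P).inf_normal le_top (by rw [Subgroup.normalizer_eq_top])
    have hT01 : T0 ≠ ⊥ := fun h => by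
      have h1 := hT0.not_dvd
      rw [h, Subgroup.relIndex_bot_left] at h1
      refine hQ1 (Subgroup.eq_bot_of_card_eq _ ?_)
      obtain ⟨k, hk⟩ := IsPGroup.iff_card.1 (isPGroup_pCore p (G ⧸ N))
      rcases k with _ | k
      · exact hk
      · exfalso
        refine h1 ((dvd_pow_self p (Nat.succ_ne_zero k)).trans ?_)
        rw [← hk, ← Subgroup.map_comap_eq_self_of_surjective (QuotientGroup.mk'_surjective N) (Cfsg.pCore p (G ⧸ N))]
        exact Subgroup.card_map_dvd _ _
    have hMH : M ≤ H := by
      intro m hm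
      have hT0N : M = N ⊔ T0 := by
        refine le_antisymm ?_ (sup_le (fun y hy => Subgroup.mem_comap.2 (by
          rw [show π y = 1 from (QuotientGroup.eq_one_iff y).2 hy]; exact one_mem _)) inf_le_right)
        intro y hy
        obtain ⟨P', hP'⟩ := (sylIn_map_mk (N := N) (sylIn_top P)).exists_sylow
        obtain ⟨t, ht, hte⟩ : π y ∈ (P : Subgroup G).map π := hP' ▸ pCore_le_sylow P' hy
        have hn : t⁻¹ * y ∈ N := QuotientGroup.eq.1 hte
        have htM : t ∈ M := by
          refine Subgroup.mem_comap.2 ?_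
          rw [hte]; exact hy
        have := mul_mem (Subgroup.mem_sup_right (S := N) (show t ∈ T0 from ⟨ht, htM⟩)) (Subgroup.mem_sup_left hn)
        rwa [mul_inv_cancel_left] at this
      rw [hT0N] at hm
      exact sup_le hEH ((Subgroup.le_normalizer).trans (hHN T0 inf_le_left hT01)) hm
    intro S T
    have hall : ∀ g : G, g ∈ H := fun g => by
      obtain ⟨n, hn, hng⟩ := frattini_conj (H := ⊤) hT0 (by rw [Subgroup.normalizer_eq_top]) (Subgroup.mem_top g)
      have := mul_mem (inv_mem (hMH hn)) (hHN T0 inf_le_left hT01 hng)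
      rwa [inv_mul_cancel_left] at this
    obtain ⟨a, rfl⟩ := MulAction.exists_smul_eq G P S
    obtain ⟨b, rfl⟩ := MulAction.exists_smul_eq G P T
    exact (hsymm (hall a)).trans (hall b)
  · rintro ⟨hO, hcq⟩ hconn'
    -- linked Sylow subgroups share their subgroup of order `p`
    have hu : ∀ S : Sylow p G, Solv.UniqueOrderP p (S : Subgroup G) := fun S => by
      intro x y hx hy hy1
      obtain ⟨e⟩ : Nonempty ((S : Subgroup G) ≃* (P : Subgroup G)) := ⟨Sylow.equiv S P⟩
      have h := unique_of_cyclic_or_quaternion hcq (e x) (e y) (by rw [← map_pow, hx, map_one])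
        (by rw [← map_pow, hy, map_one]) fun h => hy1 (e.injective (h.trans e.map_one.symm))
      obtain ⟨k, hk⟩ := h
      exact ⟨k, e.injective (by simpa using hk)⟩
    obtain ⟨k, hk⟩ := IsPGroup.iff_card.1 P.isPGroup'
    have hk0 : k ≠ 0 := fun h => hP1 (Subgroup.eq_bot_of_card_eq _ (by rw [hk, h, pow_zero]))
    obtain ⟨w, hw⟩ := exists_prime_orderOf_dvd_card' (G := (P : Subgroup G)) p (hk ▸ dvd_pow_self p hk0)
    have hwp : (w : G) ^ p = 1 := orderOf_dvd_iff_pow_eq_one.1 (dvd_of_eq (by rw [Subgroup.orderOf_coe, hw]))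
    have hall : ∀ S, Relation.ReflTransGen Link P S → (w : G) ∈ (S : Subgroup G) := by
      intro S hS
      induction hS with
      | refl => exact w.2
      | @tail B C _ hBC ih =>
        obtain ⟨k, hk⟩ := IsPGroup.iff_card.1 (B.isPGroup'.to_le (inf_le_left : (B : Subgroup G) ⊓ C ≤ B))
        have hk0 : k ≠ 0 := fun h => hBC.2 (Subgroup.eq_bot_of_card_eq _ (by rw [hk, h, pow_zero]))
        obtain ⟨v, hv⟩ := exists_prime_orderOf_dvd_card' (G := ((B : Subgroup G) ⊓ C : Subgroup G)) p (hk ▸ dvd_pow_self p hk0)
        have hvp : (v : G) ^ p = 1 := orderOf_dvd_iff_pow_eq_one.1 (dvd_of_eq (by rw [Subgroup.orderOf_coe, hv]))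
        have hv1 : (v : G) ≠ 1 := fun h => by
          rw [← Subgroup.orderOf_coe, h, orderOf_one] at hv
          exact (Fact.out (p := p.Prime)).ne_one hv.symm
        obtain ⟨j, hj⟩ := hu B ⟨w, ih⟩ ⟨v, v.2.1⟩ (Subtype.ext hwp) (Subtype.ext hvp)
          (fun h => hv1 (congrArg Subtype.val h))
        have hwv : (v : G) ^ j = w := by simpa using congrArg Subtype.val hj
        rw [← hwv]
        exact zpow_mem (show (v : G) ∈ (C : Subgroup G) from v.2.2) j
    have hcore : Subgroup.normalClosure ({(w : G)} : Set G) ≤ (P : Subgroup G) := by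
      refine (Subgroup.closure_le _).2 ?_
      rintro _ hy
      obtain ⟨_, rfl, hc⟩ := Group.mem_conjugatesOfSet_iff.1 hy
      obtain ⟨g, rfl⟩ := isConj_iff.1 hc
      have h := hall _ (hconn' P (g⁻¹ • P))
      rw [show ((g⁻¹ • P : Sylow p G) : Subgroup G) = cj (P : Subgroup G) g⁻¹ from rfl, mem_cj, inv_inv] at h
      exact h
    have hw1 : (w : G) = 1 := by
      have h := le_pCore (P.isPGroup'.to_le hcore) (Subgroup.subset_normalClosure rfl)
      rwa [hO, Subgroup.mem_bot] at h
    rw [← Subgroup.orderOf_coe, hw1, orderOf_one] at hw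
    exact (Fact.out (p := p.Prime)).ne_one hw.symm

end Cfsg.Agent.S3057
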