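import Cfsg.Statements.S3058
import Cfsg.Agent.Lib.LocalEven.SylowGraph
import Cfsg.Agent.Lib.Solv.Generation
import Cfsg.Agent.Lib.Fusion.SubgroupCountBad

set_option autoImplicit false
open Cfsg
open Cfsg.Agent.Fusion
open scoped commutatorElement

namespace Cfsg.Agent.S3058

/-- Let p be a prime and G a finite group whose Sylow p-subgroups are not chain-connected through nontrivial intersections (so G has a strongly p-embedded subgroup). If N and M are normal subgroups of G whose orders are both divisible by p, then the order of N ∩ M is divisible by p. Consequently, among the normal subgroups of G whose order is divisible by p there is a smallest one (the intersection of all of them). -/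
theorem result {G : Type*} [Group G] [Finite G]
    (p : ℕ) [Fact p.Prime] (hG : ¬ Cfsg.IsSylowChainConnected p G)
    (N M : Subgroup G) [N.Normal] [M.Normal] (hN : p ∣ Nat.card N) (hM : p ∣ Nat.card M) :
    p ∣ Nat.card ↥(N ⊓ M) := by
  classical
  have hp : p.Prime := Fact.out
  by_contra hK
  obtain ⟨H, hH, hpH, hse⟩ := LocalEven.SylowGraph.not_connected_iff.1 hG
  obtain ⟨P, hP⟩ := LocalEven.SylowGraph.exists_sylow_le hse hpH
  have hmeet : ∀ L : Subgroup G, L.Normal → p ∣ Nat.card L →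
      ∃ x ∈ (P : Subgroup G) ⊓ L, orderOf x = p := by
    intro L hL hpL
    obtain ⟨x, hx, hxo⟩ := LocalEven.SylowGraph.exists_order_p hpL
    have hX : IsPGroup p (Subgroup.zpowers x) :=
      IsPGroup.of_card (n := 1) (by rw [Nat.card_zpowers, hxo, pow_one])
    obtain ⟨g, -, hg⟩ := (sylIn_top P).conj_le hX le_top
    have hmem := hg (Subgroup.mem_map_of_mem _ (Subgroup.mem_zpowers x))
    refine ⟨MulAut.conj g x, ⟨hmem, hL.conj_mem x hx g⟩, ?_⟩
    rw [MulEquiv.orderOf_eq]
    exact hxo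
  obtain ⟨x, hx, hxo⟩ := hmeet N inferInstance hN
  obtain ⟨y, hy, hyo⟩ := hmeet M inferInstance hM
  have hx1 : x ≠ 1 := fun h => hp.ne_one (by rw [← hxo, h, orderOf_one])
  have hy1 : y ≠ 1 := fun h => hp.ne_one (by rw [← hyo, h, orderOf_one])
  obtain ⟨hxP, hxN⟩ : x ∈ (P : Subgroup G) ∧ x ∈ N := hx
  obtain ⟨hyP, hyM⟩ : y ∈ (P : Subgroup G) ∧ y ∈ M := hy
  have hxy : x * y = y * x := by
    rw [← commutatorElement_eq_one_iff_mul_comm]
    have h1 : ⁅x, y⁆ ∈ (P : Subgroup G) ⊓ (N ⊓ M) := by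
      rw [commutatorElement_def]
      refine Subgroup.mem_inf.2 ⟨mul_mem (mul_mem (mul_mem hxP hyP) (inv_mem hxP)) (inv_mem hyP), Subgroup.mem_inf.2 ⟨?_, ?_⟩⟩
      · rw [mul_assoc, mul_assoc, ← mul_assoc y]
        exact mul_mem hxN ((inferInstance : N.Normal).conj_mem _ (inv_mem hxN) y)
      · exact mul_mem ((inferInstance : M.Normal).conj_mem y hyM x) (inv_mem hyM)
    obtain ⟨k, hk⟩ := (P.isPGroup'.to_inf_left (K := N ⊓ M)).exists_card_eq
    rcases k with _ | k
    · rw [pow_zero, Subgroup.card_eq_one] at hk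
      rwa [hk, Subgroup.mem_bot] at h1
    · exact absurd ((hk ▸ dvd_pow_self p k.succ_ne_zero :
        p ∣ Nat.card ((P : Subgroup G) ⊓ (N ⊓ M) : Subgroup G)).trans (Subgroup.card_dvd_of_le inf_le_right)) hK
  -- `N ⊓ M ≤ H` by coprime generation
  have hKH : N ⊓ M ≤ H := by
    let A := Subgroup.zpowers x ⊔ Subgroup.zpowers y
    have hAP : A ≤ (P : Subgroup G) := sup_le (Subgroup.zpowers_le.2 hxP) (Subgroup.zpowers_le.2 hyP)
    have hAc : IsMulCommutative A := by
      refine ⟨⟨fun a b => Subtype.ext ?_⟩⟩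
      exact CountSq.comm_of_closed_mul A hxy rfl _ a.2 _ b.2
    have hAnc : ¬ IsCyclic A := by
      intro hc
      have hxA : x ∈ A := Subgroup.mem_sup_left (Subgroup.mem_zpowers x)
      have hyA : y ∈ A := Subgroup.mem_sup_right (Subgroup.mem_zpowers y)
      have h := CountSq.cyclic_unique (Subgroup.zpowers (⟨x, hxA⟩ : A)) (Subgroup.zpowers (⟨y, hyA⟩ : A))
        (by rw [Nat.card_zpowers, Nat.card_zpowers, Subgroup.orderOf_mk, Subgroup.orderOf_mk, hxo, hyo])
      have hym : (⟨y, hyA⟩ : A) ∈ Subgroup.zpowers (⟨x, hxA⟩ : A) := h ▸ Subgroup.mem_zpowers _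
      obtain ⟨j, hj⟩ := hym
      have hj' : x ^ j = y := by simpa using congrArg Subtype.val hj
      apply hK
      refine (?_ : p ∣ orderOf y).trans (Subgroup.orderOf_dvd_natCard _ (show y ∈ N ⊓ M from ⟨hj' ▸ zpow_mem hxN j, hyM⟩))
      rw [hyo]
    have hcop : (Nat.card A).Coprime (Nat.card (N ⊓ M : Subgroup G)) := by
      obtain ⟨k, hk⟩ := (P.isPGroup'.to_le hAP).exists_card_eq
      rw [hk]
      exact (hp.coprime_iff_not_dvd.2 hK).pow_left k
    have hAN : A ≤ Subgroup.normalizer ((N ⊓ M : Subgroup G) : Set G) :=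
      fun g _ => Subgroup.normalizer_eq_top (N ⊓ M) ▸ Subgroup.mem_top g
    refine (Solv.gen_eq A (N ⊓ M) hAc hAN hcop).ge.trans (iSup₂_le fun B hB => ?_)
    obtain ⟨hBA, a, ha, hsup⟩ := hB
    have hBb : B ≠ ⊥ := by
      rintro rfl
      rw [bot_sup_eq] at hsup
      exact hAnc (hsup ▸ (inferInstance : IsCyclic (Subgroup.zpowers a)))
    refine inf_le_right.trans ((Subgroup.centralizer_le_normalizer _).trans ?_)
    exact LocalEven.SylowGraph.normalizer_le hse (P.isPGroup'.to_le (hBA.trans hAP)) hBb ((hBA.trans hAP).trans hP)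
  have hsy : ∀ L : Subgroup G, L.Normal → SylIn p ((P : Subgroup G) ⊓ L) L := by
    intro L hL
    exact (sylIn_top P).inf_normal le_top (fun a _ => Subgroup.normalizer_eq_top L ▸ Subgroup.mem_top a)
  have hQ : ∀ L : Subgroup G, L.Normal → p ∣ Nat.card L →
      Subgroup.normalizer (((P : Subgroup G) ⊓ L : Subgroup G) : Set G) ≤ H := by
    intro L hL hpL
    refine LocalEven.SylowGraph.normalizer_le hse P.isPGroup'.to_inf_left (fun h => ?_) (inf_le_left.trans hP)
    obtain ⟨a, ha, hao⟩ := hmeet L hL hpL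
    rw [h, Subgroup.mem_bot] at ha
    rw [ha, orderOf_one] at hao
    exact hp.ne_one hao.symm
  -- `N ≤ H`
  have hNH : N ≤ H := by
    intro n hn
    obtain ⟨Q, hQdef⟩ : ∃ Q, Q = (P : Subgroup G) ⊓ M := ⟨_, rfl⟩
    have hQM : SylIn p Q (Q ⊔ N ⊓ M) := hQdef ▸ (hsy M inferInstance).mono le_sup_left
      (sup_le inf_le_right inf_le_right)
    have hcj : n ∈ Subgroup.normalizer ((Q ⊔ N ⊓ M : Subgroup G) : Set G) := by
      refine mem_normalizer_of_cj_le ?_
      rw [cj_sup, cj_of_normal (N ⊓ M)]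
      refine sup_le ?_ le_sup_right
      rintro _ ⟨q, hq, rfl⟩
      have hqM : q ∈ M := (show Q ≤ M from hQdef ▸ inf_le_right) hq
      have h1 : n * q * n⁻¹ * q⁻¹ ∈ N ⊓ M := by
        refine Subgroup.mem_inf.2 ⟨?_, mul_mem ((inferInstance : M.Normal).conj_mem q hqM n) (inv_mem hqM)⟩
        have := mul_mem hn ((inferInstance : N.Normal).conj_mem n⁻¹ (inv_mem hn) q)
        simpa [mul_assoc] using this
      have h2 := mul_mem (Subgroup.mem_sup_right (S := Q) h1) (Subgroup.mem_sup_left (T := N ⊓ M) hq)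
      simpa [mul_assoc] using h2
    obtain ⟨k, hk, hkn⟩ := frattini_conj (H := Subgroup.zpowers n) hQM (Subgroup.zpowers_le.2 hcj) (Subgroup.mem_zpowers n)
    have hkH : k ∈ H := by
      have hle : Q ⊔ N ⊓ M ≤ H := sup_le (hQdef ▸ inf_le_left.trans hP) hKH
      exact hle hk
    have h := hQ M inferInstance hM (hQdef ▸ hkn)
    have := mul_mem (inv_mem hkH) h
    rwa [inv_mul_cancel_left] at this
  apply hH
  refine eq_top_iff.2 fun g _ => ?_
  obtain ⟨n, hn, hng⟩ := frattini_conj (H := (⊤ : Subgroup G)) (hsy N inferInstance)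
    (fun a _ => Subgroup.normalizer_eq_top N ▸ Subgroup.mem_top a) (Subgroup.mem_top g)
  have := mul_mem (inv_mem (hNH hn)) (hQ N inferInstance hN hng)
  rwa [inv_mul_cancel_left] at this

end Cfsg.Agent.S3058
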