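import Cfsg.Statements.S3059
import Cfsg.Agent.Lib.LocalEven.SylowGraph
-- import your own Cfsg.Agent.* helpers here

set_option autoImplicit false
open Cfsg

namespace Cfsg.Agent.S3059

open Cfsg.Agent.Fusion
open Cfsg.Agent.LocalEven

/-- Let p be a prime and H a strongly p-embedded subgroup of the finite group G in the classical sense: H is proper, p divides the order of H, and H ∩ gHg⁻¹ has order prime to p for every g outside H. Then for every normal subgroup N of G of order divisible by p, G = H · O^p(N), where O^p(N) is the subgroup generated by the elements of N of order prime to p. -/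
theorem result {G : Type*} [Group G] [Finite G]
    (p : ℕ) [Fact p.Prime] (H : Subgroup G) (hH : H ≠ ⊤) (hpH : p ∣ Nat.card H)
    (hse : ∀ g : G, g ∉ H → ¬ p ∣ Nat.card ↥(H ⊓ H.map (MulAut.conj g).toMonoidHom))
    (N : Subgroup G) [N.Normal] (hN : p ∣ Nat.card N) :
    H ⊔ Subgroup.closure {g : G | g ∈ N ∧ (orderOf g).Coprime p} = ⊤ := by
  set K := Subgroup.closure {g : G | g ∈ N ∧ (orderOf g).Coprime p} with hK
  obtain ⟨P, hP⟩ := SylowGraph.exists_sylow_le hse hpH
  set T := (P : Subgroup G) ⊓ N with hT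
  have hTN : SylIn p T N := (sylIn_top P).inf_normal le_top (by rw [Subgroup.normalizer_eq_top])
  have hT1 : T ≠ ⊥ := fun h => by
    have h1 := hTN.not_dvd
    rw [h, Subgroup.relIndex_bot_left] at h1
    exact h1 hN
  have hKN : K ≤ N := (Subgroup.closure_le _).2 fun g hg => hg.1
  have hKT : K ⊔ T = N := by
    refine le_antisymm (sup_le hKN inf_le_right) ?_
    have hle : K ⊔ T ≤ N := sup_le hKN inf_le_right
    have hdvd : Nat.card N ∣ Nat.card ↥(K ⊔ T) := by
      refine (Nat.dvd_iff_prime_pow_dvd_dvd _ _).2 fun q k hq hqk => ?_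
      haveI : Fact q.Prime := ⟨hq⟩
      obtain ⟨R, hR⟩ := Sylow.exists_subgroup_card_pow_prime q hqk
      rw [← hR, ← Subgroup.card_map_of_injective (f := N.subtype) Subtype.val_injective]
      by_cases hqp : q = p
      · subst hqp
        have hRp : IsPGroup q (R.map N.subtype) := (IsPGroup.of_card hR).map _
        obtain ⟨x, -, hx⟩ := hTN.conj_le hRp (Subgroup.map_subtype_le _)
        rw [← card_cj (R.map N.subtype) x]
        exact Subgroup.card_dvd_of_le (hx.trans le_sup_right)
      · refine Subgroup.card_dvd_of_le (le_trans ?_ le_sup_left)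
        rintro _ ⟨⟨r, hrN⟩, hr, rfl⟩
        refine Subgroup.subset_closure ⟨hrN, ?_⟩
        obtain ⟨j, hj⟩ := (IsPGroup.iff_orderOf.1 (IsPGroup.of_card hR)) ⟨⟨r, hrN⟩, hr⟩
        rw [Subgroup.orderOf_mk, Subgroup.orderOf_mk] at hj
        rw [show orderOf (N.subtype ⟨r, hrN⟩) = q ^ j from hj]
        exact ((Nat.coprime_primes hq Fact.out).2 hqp).pow_left j
    exact (Subgroup.eq_of_le_of_card_ge hle (Nat.le_of_dvd Nat.card_pos hdvd)).ge
  refine eq_top_iff.2 fun g _ => ?_
  obtain ⟨n, hn, hng⟩ := frattini_conj hTN (H := ⊤) (by rw [Subgroup.normalizer_eq_top]) (Subgroup.mem_top g)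
  have h1 : n * g ∈ H ⊔ K :=
    Subgroup.mem_sup_left (SylowGraph.normalizer_le hse P.isPGroup'.to_inf_left hT1 (inf_le_left.trans hP) hng)
  have h2 : n ∈ H ⊔ K := by
    rw [← hKT] at hn
    exact (sup_le le_sup_right ((inf_le_left.trans hP).trans le_sup_left) : K ⊔ T ≤ H ⊔ K) hn
  simpa using mul_mem (inv_mem h2) h1

end Cfsg.Agent.S3059
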