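import Cfsg.Statements.S3062
import Cfsg.Agent.Lib.Fusion.Replacement
-- import your own Cfsg.Agent.* helpers here

set_option autoImplicit false
open Cfsg

open Cfsg.Agent Cfsg.Agent.Fusion
open scoped commutatorElement

namespace Cfsg.Agent.S3062

/-- Let S be a finite p-group, J(S) the subgroup generated by the abelian subgroups of S of largest order and Z(J(S)) its centre. Then Z(S) ≤ D*(S) ≤ Z(J(S)), and every maximal normal abelian subgroup of S contains D*(S). -/
theorem result {S : Type*} [Group S] [Finite S] {p : ℕ} [Fact p.Prime]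
    (hS : IsPGroup p S) :
    Subgroup.center S ≤ Cfsg.dStar S ∧
    Cfsg.dStar S ≤ Cfsg.thompsonSubgroupA S ⊓ Subgroup.centralizer (Cfsg.thompsonSubgroupA S : Set S) ∧
    ∀ A : Subgroup S, A.Normal → IsMulCommutative A →
      (∀ B : Subgroup S, B.Normal → IsMulCommutative B → A ≤ B → B = A) → Cfsg.dStar S ≤ A := by
  classical
  haveI : Group.IsNilpotent S := hS.isNilpotent
  have hcomm : ∀ {A : Subgroup S}, IsMulCommutative A → ∀ {a b : S}, a ∈ A → b ∈ A → a * b = b * a :=
    fun {A} h {a b} ha hb => congrArg Subtype.val (h.1.1 ⟨a, ha⟩ ⟨b, hb⟩)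
  -- a member of the family centralises every abelian subgroup it normalises
  have key : ∀ B ∈ Cfsg.dStarFamily S, ∀ A : Subgroup S, IsMulCommutative A →
      B ≤ Subgroup.normalizer (A : Set S) → A ≤ Subgroup.centralizer (B : Set S) := by
    intro B hB A hA hBA
    have hn : ∀ n, A ⊓ Subgroup.upperCentralSeries S n ≤ Subgroup.centralizer (B : Set S) := by
      intro n
      induction n with
      | zero => simp [Subgroup.upperCentralSeries_zero]
      | succ n ih =>
        rintro x ⟨hxA, hxn⟩
        have hbx : ∀ b ∈ B, ⁅x, b⁆ ∈ A ⊓ Subgroup.upperCentralSeries S n := fun b hb =>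
          ⟨by
            rw [commutatorElement_def, show x * b * x⁻¹ * b⁻¹ = x * (b * x⁻¹ * b⁻¹) by group]
            exact mul_mem hxA ((Subgroup.mem_set_normalizer_iff.1 (hBA hb) _).1 (inv_mem hxA)),
          Subgroup.mem_upperCentralSeries_succ_iff.1 hxn b⟩
        set X := B ⊔ Subgroup.zpowers x with hX
        have hcen : ∀ b ∈ B, ⁅x, b⁆ ∈ Subgroup.centralizer (X : Set S) := fun b hb => by
          have h2 : X ≤ Subgroup.centralizer ({⁅x, b⁆} : Set S) := sup_le
            (fun y hy => Subgroup.mem_centralizer_singleton_iff.2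
              (Subgroup.mem_centralizer_iff.1 (ih (hbx b hb)) y hy))
            (Subgroup.zpowers_le.2 (Subgroup.mem_centralizer_singleton_iff.2
              (hcomm hA hxA (hbx b hb).1)))
          exact Subgroup.mem_centralizer_iff.2 fun y hy => Subgroup.mem_centralizer_singleton_iff.1 (h2 hy)
        have hXX : ⁅⁅X, X⁆, X⁆ = ⊥ := by
          rw [Subgroup.commutator_eq_bot_iff_le_centralizer, Subgroup.commutator_le]
          set Z := Subgroup.centralizer (X : Set S)
          -- modulo `Z` the generators commute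
          intro u hu v hv
          have hgen : ∀ {s : S}, s ∈ X → ∀ w ∈ X, (∀ g ∈ (B : Set S) ∪ {x}, ⁅s, g⁆ ∈ Z) → ⁅s, w⁆ ∈ Z := by
            intro s hs w hw hg
            rw [hX, Subgroup.zpowers_eq_closure, ← Subgroup.closure_eq B, ← Subgroup.closure_union] at hw
            induction hw using Subgroup.closure_induction with
            | mem g hg' => exact hg g hg'
            | one => rw [commutatorElement_one_right]; exact one_mem _
            | mul g g' hgX hg'X h1 h2 =>
              have hgX' : g ∈ X := by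
                rw [hX, Subgroup.zpowers_eq_closure, ← Subgroup.closure_eq B, ← Subgroup.closure_union]
                exact hgX
              rw [show ⁅s, g * g'⁆ = ⁅s, g⁆ * (g * ⁅s, g'⁆ * g⁻¹) by simp only [commutatorElement_def]; group,
                Subgroup.mem_centralizer_iff.1 h2 g hgX', mul_inv_cancel_right]
              exact mul_mem h1 h2
            | inv g hgX h1 =>
              have hgX' : g ∈ X := by
                rw [hX, Subgroup.zpowers_eq_closure, ← Subgroup.closure_eq B, ← Subgroup.closure_union]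
                exact hgX
              rw [show ⁅s, g⁻¹⁆ = g⁻¹ * ⁅s, g⁆⁻¹ * g⁻¹⁻¹ by simp only [commutatorElement_def]; group,
                Subgroup.mem_centralizer_iff.1 (inv_mem h1) g⁻¹ (inv_mem hgX'), mul_inv_cancel_right]
              exact inv_mem h1
          refine hgen hu v hv ?_
          rintro g hg
          have hgX : g ∈ X := by
            rcases hg with hg | hg
            · exact Subgroup.mem_sup_left hg
            · rw [Set.mem_singleton_iff.1 hg]; exact Subgroup.mem_sup_right (Subgroup.mem_zpowers x)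
          have h3 : ⁅g, u⁆ ∈ Z := by
            refine hgen hgX u hu ?_
            intro g' hg'
            rcases hg with hg | hg <;> rcases hg' with hg' | hg'
            · rw [commutatorElement_eq_one_iff_mul_comm.2 (hcomm hB.1 hg hg')]; exact one_mem _
            · rw [Set.mem_singleton_iff.1 hg', ← commutatorElement_inv]; exact inv_mem (hcen g hg)
            · rw [Set.mem_singleton_iff.1 hg]; exact hcen g' hg'
            · rw [Set.mem_singleton_iff.1 hg, Set.mem_singleton_iff.1 hg', commutatorElement_self]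
              exact one_mem _
          rw [← commutatorElement_inv]
          exact inv_mem h3
        exact Subgroup.mem_centralizer_iff.2 fun b hb => hB.2 x hXX b hb
    intro x hx
    refine hn (Group.nilpotencyClass S) ⟨hx, ?_⟩
    rw [upperCentralSeries_nilpotencyClass]; trivial
  have hsc : ∀ {A : Subgroup S}, A.Normal → IsMulCommutative A →
      (∀ B : Subgroup S, B.Normal → IsMulCommutative B → A ≤ B → B = A) →
      Subgroup.centralizer (A : Set S) ≤ A := by
    intro A hAn hA hmax
    haveI := hAn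
    by_contra hle
    obtain ⟨c, hcC, hcA, hc⟩ := exists_fixed_mod (N := A) (C := Subgroup.centralizer (A : Set S)) (Q := (⊤ : Subgroup S))
      (fun g _ => mem_normalizer_iff_cj.2 (by rw [cj_centralizer, cj_of_normal A])) hle
    set A1 := A ⊔ Subgroup.zpowers c with hA1
    have hn1 : A1.Normal := by
      refine normal_iff_cj.2 fun g => cj_eq_of_cj_le ?_
      rw [hA1, cj_sup, cj_of_normal A]
      refine sup_le le_sup_left ?_
      rw [cj, MonoidHom.map_zpowers, Subgroup.zpowers_le]
      show g * c * g⁻¹ ∈ A1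
      have h1 : ⁅c, g⁆⁻¹ ∈ A := inv_mem (hc g (Subgroup.mem_top g))
      rw [show g * c * g⁻¹ = ⁅c, g⁆⁻¹ * c by rw [commutatorElement_def]; group]
      exact mul_mem (Subgroup.mem_sup_left h1) (Subgroup.mem_sup_right (Subgroup.mem_zpowers c))
    have hc1 : IsMulCommutative A1 := by
      rw [← Subgroup.le_centralizer_iff_isMulCommutative]
      refine sup_le ?_ (Subgroup.zpowers_le.2 ?_) <;> (try rw [← Subgroup.zpowers_le]) <;> rw [Subgroup.le_centralizer_iff]
      · refine sup_le (Subgroup.le_centralizer_iff_isMulCommutative.2 hA) (Subgroup.zpowers_le.2 hcC)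
      · refine sup_le (fun a ha => ?_) (Subgroup.le_centralizer _)
        refine Subgroup.mem_centralizer_iff.2 ?_
        rintro _ ⟨k, rfl⟩
        exact ((show Commute c a from (Subgroup.mem_centralizer_iff.1 hcC a ha).symm).zpow_left k).eq
    exact hcA ((hmax A1 hn1 hc1 le_sup_left).le (Subgroup.mem_sup_right (Subgroup.mem_zpowers c)))
  have h3 : ∀ A : Subgroup S, A.Normal → IsMulCommutative A →
      (∀ B : Subgroup S, B.Normal → IsMulCommutative B → A ≤ B → B = A) → Cfsg.dStar S ≤ A := by
    intro A hAn hA hmax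
    refine sSup_le fun B hB => ?_
    haveI := hAn
    refine le_trans ?_ (hsc hAn hA hmax)
    rw [Subgroup.le_centralizer_iff]
    exact key B hB A hA (by rw [Subgroup.normalizer_eq_top]; exact le_top)
  refine ⟨le_sSup ⟨inferInstance, fun x _ a ha => (Subgroup.mem_center_iff.1 ha x).symm⟩, ?_, h3⟩
  -- `D*` is abelian and normal
  set D := Cfsg.dStar S with hD
  obtain ⟨A₀, -, hA₀⟩ := Finite.exists_le_maximal (p := fun B : Subgroup S => B.Normal ∧ IsMulCommutative B)
    (a := ⊥) ⟨inferInstance, inferInstance⟩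
  have hDA₀ : D ≤ A₀ := h3 A₀ hA₀.1.1 hA₀.1.2 fun B hBn hB hle => le_antisymm (hA₀.2 ⟨hBn, hB⟩ hle) hle
  have hDab : IsMulCommutative D :=
    ⟨⟨fun a b => Subtype.ext (hcomm hA₀.1.2 (hDA₀ a.2) (hDA₀ b.2))⟩⟩
  haveI hDn : D.Normal := normal_iff_cj.2 fun g => cj_eq_of_cj_le (by
    rw [cj_le_iff]
    refine sSup_le fun B hB => ?_
    rw [← cj_le_iff]
    refine le_sSup ⟨⟨⟨fun a b => Subtype.ext ?_⟩⟩, fun x hx a ha => ?_⟩
    · obtain ⟨a', ha', hae⟩ := a.2
      obtain ⟨b', hb', hbe⟩ := b.2
      show (a : S) * b = b * a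
      rw [← hae, ← hbe, ← map_mul, ← map_mul, hcomm hB.1 ha' hb']
    · obtain ⟨a', ha', rfl⟩ := ha
      have h := hB.2 (g⁻¹ * x * g) (by
        have h := congrArg (fun K => cj K g⁻¹) hx
        simp only [cj_commutator, cj_sup, cj_cj_inv, cj_bot] at h
        rw [cj, MonoidHom.map_zpowers, MulEquiv.coe_toMonoidHom, MulAut.conj_apply, inv_inv] at h
        exact h) a' ha'
      show g * a' * g⁻¹ * x = x * (g * a' * g⁻¹)
      calc g * a' * g⁻¹ * x = g * (a' * (g⁻¹ * x * g)) * g⁻¹ := by group
        _ = g * (g⁻¹ * x * g * a') * g⁻¹ := by rw [h]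
        _ = x * (g * a' * g⁻¹) := by group)
  have hnorm : ∀ A ∈ Cfsg.maxAbelianSubgroups S, D ≤ Subgroup.normalizer (A : Set S) →
      A ≤ Subgroup.centralizer (D : Set S) := fun A hA hle => by
    rw [Subgroup.le_centralizer_iff]
    refine sSup_le fun B hB => ?_
    rw [Subgroup.le_centralizer_iff]
    exact key B hB A hA.1 ((show B ≤ D from le_sSup hB).trans hle)
  have hself : ∀ A ∈ Cfsg.maxAbelianSubgroups S, ∀ c ∈ Subgroup.centralizer (A : Set S), c ∈ A := by
    intro A hA c hc
    have h : IsMulCommutative (A ⊔ Subgroup.zpowers c : Subgroup S) := by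
      rw [← Subgroup.le_centralizer_iff_isMulCommutative]
      refine sup_le ?_ ?_ <;> rw [Subgroup.le_centralizer_iff] <;> refine sup_le ?_ ?_
      · exact Subgroup.le_centralizer_iff_isMulCommutative.2 hA.1
      · exact Subgroup.zpowers_le.2 hc
      · rw [Subgroup.le_centralizer_iff]; exact Subgroup.zpowers_le.2 hc
      · exact Subgroup.le_centralizer _
    have heq := Subgroup.eq_of_le_of_card_ge (le_sup_left : A ≤ A ⊔ Subgroup.zpowers c) (hA.2 _ h)
    rw [heq]; exact Subgroup.mem_sup_right (Subgroup.mem_zpowers c)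
  have hall : ∀ A ∈ Cfsg.maxAbelianSubgroups S, A ≤ Subgroup.centralizer (D : Set S) := by
    letI : Fintype (Subgroup S) := Fintype.ofFinite _
    by_contra hcon
    push Not at hcon
    obtain ⟨A1, hA1, hA1'⟩ := hcon
    obtain ⟨A, hA, hAmax⟩ := Finset.exists_max_image
      (Finset.univ.filter fun A => A ∈ Cfsg.maxAbelianSubgroups S ∧ ¬ A ≤ Subgroup.centralizer (D : Set S))
      (fun A : Subgroup S => Nat.card ↥(A ⊓ D)) ⟨A1, Finset.mem_filter.2 ⟨Finset.mem_univ _, hA1, hA1'⟩⟩
    obtain ⟨hAm, hAC⟩ := (Finset.mem_filter.1 hA).2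
    refine hAC (hnorm A hAm ?_)
    by_contra hnot
    obtain ⟨b, hb, hbN, hbA⟩ := exists_normalizing_normalizer D A hnot
    have hDD : ⁅D, D⁆ ≤ A := by
      rw [Subgroup.commutator_eq_bot_iff_le_centralizer.2 (Subgroup.le_centralizer_iff_isMulCommutative.2 hDab)]
      exact bot_le
    obtain ⟨hcard, hab, -, hlt, -, -, hRN, -⟩ := replSub_spec hS (fun _ => hDab) hAm.1 hDD hb hbN hbA
    set R := replSub A b
    have hRm : R ∈ Cfsg.maxAbelianSubgroups S := ⟨hab, fun B hB => hcard ▸ hAm.2 B hB⟩
    have hRD : R ≤ Subgroup.centralizer (D : Set S) := by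
      by_contra hR
      refine absurd (hAmax R (Finset.mem_filter.2 ⟨Finset.mem_univ _, hRm, hR⟩)) (Nat.not_le.2 ?_)
      by_contra hle
      exact hlt.ne (Subgroup.eq_of_le_of_card_ge hlt.le (Nat.not_lt.1 hle))
    exact hnot (le_trans (fun d hd => hself R hRm d ((Subgroup.le_centralizer_iff.1 hRD) hd)) hRN)
  have hDA : ∀ A ∈ Cfsg.maxAbelianSubgroups S, D ≤ A := fun A hA d hd =>
    hself A hA d ((Subgroup.le_centralizer_iff.1 (hall A hA)) hd)
  obtain ⟨A, -, hA⟩ : ∃ A : Subgroup S, ⊥ ≤ A ∧ A ∈ Cfsg.maxAbelianSubgroups S := by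
    letI : Fintype (Subgroup S) := Fintype.ofFinite _
    obtain ⟨A, hA, hmax⟩ := Finset.exists_max_image (Finset.univ.filter fun A : Subgroup S => IsMulCommutative A)
      (fun A : Subgroup S => Nat.card A) ⟨⊥, Finset.mem_filter.2 ⟨Finset.mem_univ _, inferInstance⟩⟩
    exact ⟨A, bot_le, (Finset.mem_filter.1 hA).2, fun B hB => hmax B (Finset.mem_filter.2 ⟨Finset.mem_univ _, hB⟩)⟩
  refine le_inf ((hDA A hA).trans (le_sSup hA)) ?_
  rw [Subgroup.le_centralizer_iff]
  exact sSup_le hall

end Cfsg.Agent.S3062
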