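import Cfsg.Statements.S3061
import Cfsg.Agent.S3062
-- import your own Cfsg.Agent.* helpers here

set_option autoImplicit false
open Cfsg

namespace Cfsg.Agent.S3061

/-- Let S be a finite p-group. Then D*(S) itself belongs to the family that generates it: D*(S) is abelian, and every x ∈ S with ⟨D*(S), x⟩ of class at most two centralizes D*(S). Hence D*(S) is the unique maximal member of that family. -/
theorem result {S : Type*} [Group S] [Finite S] {p : ℕ} [Fact p.Prime] (hS : IsPGroup p S) :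
    Cfsg.dStar S ∈ Cfsg.dStarFamily S := by
  obtain ⟨A₀, -, hA₀⟩ := Finite.exists_le_maximal (p := fun B : Subgroup S => B.Normal ∧ IsMulCommutative B)
    (a := ⊥) ⟨inferInstance, inferInstance⟩
  have hle := (Cfsg.Agent.S3062.result hS).2.2 A₀ hA₀.1.1 hA₀.1.2
    fun B hBn hB h => le_antisymm (hA₀.2 ⟨hBn, hB⟩ h) h
  refine ⟨⟨⟨fun a b => Subtype.ext (show (a : S) * b = b * a from congrArg Subtype.val
    (hA₀.1.2.1.1 ⟨a, hle a.2⟩ ⟨b, hle b.2⟩))⟩⟩, fun x hx a ha => ?_⟩
  have h : Cfsg.dStar S ≤ Subgroup.centralizer ({x} : Set S) := by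
    refine sSup_le fun B hB b hb => Subgroup.mem_centralizer_singleton_iff.2 ?_
    refine hB.2 x (le_bot_iff.1 (le_trans ?_ hx.le)) b hb
    have h1 : B ⊔ Subgroup.zpowers x ≤ Cfsg.dStar S ⊔ Subgroup.zpowers x :=
      sup_le_sup_right (le_sSup hB) _
    exact Subgroup.commutator_mono (Subgroup.commutator_mono h1 h1) h1
  exact Subgroup.mem_centralizer_singleton_iff.1 (h ha)

end Cfsg.Agent.S3061
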