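import Cfsg.Statements.S3060
import Cfsg.Agent.S3061
import Cfsg.Agent.Lib.Fusion.ZJ
-- import your own Cfsg.Agent.* helpers here

set_option autoImplicit false
open Cfsg

open Cfsg.Agent Cfsg.Agent.Fusion
open scoped commutatorElement

namespace Cfsg.Agent.S3060

/-- The D*-Theorem. For a finite p-group S let D*(S) be the subgroup generated by the abelian subgroups A of S such that every x ∈ S with ⟨A, x⟩ of nilpotency class at most two centralizes A. Let p be an odd prime and H a finite p-stable group with Sylow p-subgroup S. Here H is p-stable in the following sense: the largest normal p-subgroup O_p(H) contains its centralizer in H, and for every normal p-subgroup P of H, every element acting quadratically on P has image in O_p(H/C_H(P)). Then D*(S) is a normal subgroup of H. -/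
theorem result {G : Type*} [Group G] [Finite G] {p : ℕ} [Fact p.Prime] (hp : p ≠ 2)
    (hc : Subgroup.centralizer (Cfsg.pCore p G : Set G) ≤ Cfsg.pCore p G)
    (hst : ∀ (P : Subgroup G) [P.Normal], IsPGroup p P → Cfsg.IsPStableOn p P) (S : Sylow p G) :
    (Cfsg.dStarOf (S : Subgroup G)).Normal := by
  classical
  set S0 : Subgroup G := (S : Subgroup G) with hS0
  set D := Cfsg.dStarOf S0 with hD
  have hDS : D ≤ S0 := Subgroup.map_subtype_le _
  have hmemD : ∀ {a : G}, a ∈ D → ∃ a' ∈ Cfsg.dStar S0, (a' : G) = a := fun ha => ha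
  have hfam := Cfsg.Agent.S3061.result (S := S0) S.isPGroup'
  have hDab : IsMulCommutative D := by
    refine ⟨⟨fun a b => Subtype.ext ?_⟩⟩
    obtain ⟨a', ha', hae⟩ := hmemD a.2
    obtain ⟨b', hb', hbe⟩ := hmemD b.2
    show (a : G) * b = b * a
    rw [← hae, ← hbe, ← Subgroup.coe_mul, ← Subgroup.coe_mul]
    exact congrArg Subtype.val
      (show a' * b' = b' * a' from congrArg Subtype.val (hfam.1.1.1 ⟨a', ha'⟩ ⟨b', hb'⟩))
  -- transfer of the class two condition
  have hbot : ∀ (W : Subgroup S0) (x : S0),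
      (⁅⁅W ⊔ Subgroup.zpowers x, W ⊔ Subgroup.zpowers x⁆, W ⊔ Subgroup.zpowers x⁆ = ⊥ ↔
        ⁅⁅W.map S0.subtype ⊔ Subgroup.zpowers (x : G), W.map S0.subtype ⊔ Subgroup.zpowers (x : G)⁆,
          W.map S0.subtype ⊔ Subgroup.zpowers (x : G)⁆ = ⊥) := by
    intro W x
    rw [show Subgroup.zpowers (x : G) = (Subgroup.zpowers x).map S0.subtype from
        ((MonoidHom.map_zpowers S0.subtype x).trans rfl).symm, ← Subgroup.map_sup, ← Subgroup.map_commutator,
      ← Subgroup.map_commutator, Subgroup.map_eq_bot_iff_of_injective _ S0.subtype_injective]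
  have hDcen : ∀ x ∈ S0, ⁅⁅D ⊔ Subgroup.zpowers x, D ⊔ Subgroup.zpowers x⁆, D ⊔ Subgroup.zpowers x⁆ = ⊥ →
      ∀ a ∈ D, a * x = x * a := by
    intro x hx hX a ha
    obtain ⟨a', ha', rfl⟩ := hmemD ha
    exact congrArg Subtype.val (hfam.2 ⟨x, hx⟩ ((hbot _ ⟨x, hx⟩).2 hX) a' ha')
  have hDnorm : S0 ≤ Subgroup.normalizer (D : Set G) := by
    intro g hg
    refine mem_normalizer_of_cj_le ?_
    rintro _ ⟨a, ha, rfl⟩
    obtain ⟨a', ha', rfl⟩ := hmemD ha
    have hch : (Cfsg.dStar S0).map (MulAut.conj (⟨g, hg⟩ : S0)).toMonoidHom ≤ Cfsg.dStar S0 := by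
      rw [Subgroup.map_le_iff_le_comap]
      refine sSup_le fun B hB => ?_
      rw [← Subgroup.map_le_iff_le_comap]
      refine le_sSup ⟨?_, fun x hx b hb => ?_⟩
      · refine ⟨⟨fun u v => Subtype.ext ?_⟩⟩
        obtain ⟨u', hu', hue⟩ := u.2
        obtain ⟨v', hv', hve⟩ := v.2
        show (u : S0) * v = v * u
        rw [← hue, ← hve, ← map_mul, ← map_mul]
        exact congrArg _ (show u' * v' = v' * u' from congrArg Subtype.val (hB.1.1.1 ⟨u', hu'⟩ ⟨v', hv'⟩))
      · obtain ⟨b', hb', rfl⟩ := hb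
        set e : S0 ≃* S0 := MulAut.conj (⟨g, hg⟩ : S0)
        have h := hB.2 (e.symm x) (by
          have h := congrArg (Subgroup.map e.symm.toMonoidHom) hx
          simp only [Subgroup.map_commutator, Subgroup.map_sup, MonoidHom.map_zpowers, Subgroup.map_bot,
            Subgroup.map_map] at h
          rw [show e.symm.toMonoidHom.comp e.toMonoidHom = MonoidHom.id _ from
            MonoidHom.ext fun z => e.symm_apply_apply z, Subgroup.map_id] at h
          exact h) b' hb'
        show e b' * x = x * e b'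
        simpa using congrArg e h
    exact ⟨_, hch ⟨a', ha', rfl⟩, by simp⟩
  -- `D` lies in the `p`-core
  have hDQ : D ≤ Cfsg.pCore p G := by
    intro z hz
    have h := mem_of_quadratic_stable (hst _ (isPGroup_pCore p G)) hDab
      ((pCore_le_sylow S).trans hDnorm) hz
    refine le_pCore (N := (Cfsg.pCore p (G ⧸ Subgroup.centralizer (Cfsg.pCore p G : Set G))).comap
      (QuotientGroup.mk' _)) ?_ h
    exact (isPGroup_pCore p _).comap_of_ker_isPGroup (QuotientGroup.mk' _)
      (by rw [QuotientGroup.ker_mk']; exact (isPGroup_pCore p G).to_le hc)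
  have hQS : Cfsg.pCore p G ≤ S0 := pCore_le_sylow S
  -- conjugates of `D` commute
  have hcomm : ∀ g, cj D g ≤ Subgroup.centralizer (D : Set G) := by
    intro g y hy
    have hgQ : cj D g ≤ Cfsg.pCore p G := (cj_mono hDQ g).trans (cj_of_normal _ g).le
    have hQE : Cfsg.pCore p G ≤ Subgroup.normalizer (cj D g : Set G) := by
      rw [← cj_normalizer]
      exact (cj_of_normal _ g).ge.trans (cj_mono (hQS.trans hDnorm) g)
    set X := D ⊔ cj D g with hX
    have hXQ : X ≤ Cfsg.pCore p G := sup_le hDQ hgQ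
    have hgab : IsMulCommutative (cj D g) := by rw [cj]; infer_instance
    have hI : D ⊓ cj D g ≤ Subgroup.centralizer (X : Set G) := by
      rw [Subgroup.le_centralizer_iff]
      exact sup_le (Subgroup.le_centralizer_iff.1 (inf_le_left.trans (Subgroup.le_centralizer_iff_isMulCommutative.2 hDab)))
        (Subgroup.le_centralizer_iff.1 (inf_le_right.trans (Subgroup.le_centralizer_iff_isMulCommutative.2 hgab)))
    have hIn : X ≤ Subgroup.normalizer ((D ⊓ cj D g : Subgroup G) : Set G) := fun x hx =>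
      mem_normalizer_of_cj_le (by
        rw [cj_inf, cj_eq_self ((hQS.trans hDnorm) (hXQ hx)), cj_eq_self (hQE (hXQ hx))])
    have hXX : ⁅X, X⁆ ≤ D ⊓ cj D g := by
      rw [Subgroup.commutator_le]
      intro u hu v hv
      rw [hX, ← SetLike.mem_coe, Subgroup.coe_mul_of_left_le_normalizer_right D (cj D g) (hDQ.trans hQE),
        Set.mem_mul] at hu hv
      obtain ⟨d, hd, e, he, rfl⟩ := hu
      obtain ⟨d', hd', e', he', rfl⟩ := hv
      have hDD : ∀ {a b : G}, a ∈ D → b ∈ D → ⁅a, b⁆ = 1 := fun {a b} ha hb =>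
        commutatorElement_eq_one_iff_mul_comm.2 (congrArg Subtype.val (hDab.1.1 ⟨a, ha⟩ ⟨b, hb⟩))
      have hEE : ∀ {a b : G}, a ∈ cj D g → b ∈ cj D g → ⁅a, b⁆ = 1 := fun {a b} ha hb =>
        commutatorElement_eq_one_iff_mul_comm.2 (congrArg Subtype.val (hgab.1.1 ⟨a, ha⟩ ⟨b, hb⟩))
      have hDE : ∀ {a b : G}, a ∈ D → b ∈ cj D g → ⁅a, b⁆ ∈ D ⊓ cj D g := fun {a b} ha hb => by
        refine ⟨?_, ?_⟩
        · rw [commutatorElement_def, mul_assoc, mul_assoc, ← mul_assoc b]
          exact mul_mem ha ((Subgroup.mem_normalizer_iff.1 (hDnorm (hQS (hgQ hb))) _).1 (inv_mem ha))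
        · show ⁅a, b⁆ ∈ cj D g
          rw [commutatorElement_def]
          exact mul_mem ((Subgroup.mem_normalizer_iff.1 (hQE (hDQ ha)) _).1 hb) (inv_mem hb)
      have hfix : ∀ {a k : G}, a ∈ X → k ∈ D ⊓ cj D g → a * k * a⁻¹ = k := fun {a k} ha hk => by
        rw [Subgroup.mem_centralizer_iff.1 (hI hk) a ha, mul_inv_cancel_right]
      have hdX : d ∈ X := Subgroup.mem_sup_left hd
      have hd'X : d' ∈ X := Subgroup.mem_sup_left hd'
      have hed : ⁅e, d'⁆ ∈ D ⊓ cj D g := by rw [← commutatorElement_inv d' e]; exact inv_mem (hDE hd' he)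
      rw [show ⁅d * e, d' * e'⁆ = d * (⁅e, d'⁆ * (d' * ⁅e, e'⁆ * d'⁻¹)) * d⁻¹ * (⁅d, d'⁆ * (d' * ⁅d, e'⁆ * d'⁻¹)) by
        simp only [commutatorElement_def]; group, hEE he he', hDD hd hd', mul_one, mul_inv_cancel,
        mul_one, one_mul, hfix hdX hed, hfix hd'X (hDE hd he')]
      exact mul_mem hed (hDE hd he')
    refine Subgroup.mem_centralizer_iff.2 fun a ha => hDcen y (hQS (hgQ hy)) (le_bot_iff.1 ?_) a ha
    have h1 : D ⊔ Subgroup.zpowers y ≤ X := sup_le le_sup_left (Subgroup.zpowers_le.2 (Subgroup.mem_sup_right hy))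
    refine (Subgroup.commutator_mono (Subgroup.commutator_mono h1 h1) h1).trans ?_
    rw [le_bot_iff, Subgroup.commutator_eq_bot_iff_le_centralizer]
    exact hXX.trans hI
  -- the normal closure
  set W := ⨆ g, cj D g with hW
  haveI hWn : W.Normal := normal_iff_cj.2 fun g => cj_eq_of_cj_le (by
    rw [cj_le_iff]
    refine iSup_le fun h => ?_
    rw [← cj_le_iff, cj_cj]
    exact le_iSup (fun g => cj D g) (g * h))
  have hDW : D ≤ W := (cj_one D).ge.trans (le_iSup (fun g => cj D g) 1)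
  have hWab : IsMulCommutative W := by
    rw [← Subgroup.le_centralizer_iff_isMulCommutative, hW]
    refine iSup_le fun g => ?_
    rw [Subgroup.le_centralizer_iff]
    refine iSup_le fun h => ?_
    rw [Subgroup.le_centralizer_iff, ← cj_le_cj (g := h⁻¹), cj_cj, cj_centralizer, cj_cj_inv]
    exact hcomm _
  have hWQ : W ≤ Cfsg.pCore p G := iSup_le fun g => (cj_mono hDQ g).trans (cj_of_normal _ g).le
  have hWp : IsPGroup p W := (isPGroup_pCore p G).to_le hWQ
  suffices hsuff : W ≤ D by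
    rw [show D = W from le_antisymm hDW hsuff]; exact hWn
  -- `W` belongs to the family
  have hWfam : ∀ x ∈ S0, ⁅⁅W ⊔ Subgroup.zpowers x, W ⊔ Subgroup.zpowers x⁆, W ⊔ Subgroup.zpowers x⁆ = ⊥ →
      ∀ a ∈ W, a * x = x * a := by
    intro x hx hX
    set C := Subgroup.centralizer (W : Set G) with hC
    set K := (Cfsg.pCore p (G ⧸ C)).comap (QuotientGroup.mk' C)
    haveI : (Cfsg.pCore p (G ⧸ C)).Normal := pCore_normal p _
    haveI : K.Normal := Subgroup.Normal.comap inferInstance _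
    have hxK : x ∈ K := hst W hWp x (le_bot_iff.1 ((Subgroup.commutator_mono
      (Subgroup.commutator_mono le_sup_left le_sup_right) le_sup_right).trans hX.le))
    set T := S0 ⊓ K
    have hT : SylIn p T K := (sylIn_top S).inf_normal le_top (by rw [Subgroup.normalizer_eq_top])
    have hCK : C ≤ K := fun c hc => by
      refine Subgroup.mem_comap.2 ?_
      rw [show (QuotientGroup.mk' C) c = 1 from (QuotientGroup.eq_one_iff c).2 hc]
      exact one_mem _
    have hCT : C ⊔ T = K := by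
      refine le_antisymm (sup_le hCK inf_le_right) (Subgroup.relIndex_eq_one.1 ?_)
      have h1 : (C ⊔ T).relIndex K ∣ T.relIndex K :=
        ⟨T.relIndex (C ⊔ T), by rw [mul_comm, Subgroup.relIndex_mul_relIndex T (C ⊔ T) K le_sup_right (sup_le hCK inf_le_right)]⟩
      have h2 : (C ⊔ T).relIndex K ∣ C.relIndex K :=
        ⟨C.relIndex (C ⊔ T), by rw [mul_comm, Subgroup.relIndex_mul_relIndex C (C ⊔ T) K le_sup_left (sup_le hCK inf_le_right)]⟩
      have h3 : C.relIndex K = Nat.card (K.map (QuotientGroup.mk' C)) := by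
        rw [← Subgroup.relIndex_bot_left, ← Subgroup.relIndex_comap, MonoidHom.comap_bot, QuotientGroup.ker_mk']
      obtain ⟨n, hn⟩ := IsPGroup.iff_card.1
        ((isPGroup_pCore p (G ⧸ C)).to_le (Subgroup.map_comap_le _ _ : K.map (QuotientGroup.mk' C) ≤ _))
      rw [h3, hn] at h2
      exact Nat.eq_one_of_dvd_coprimes (((Nat.Prime.coprime_iff_not_dvd Fact.out).2 hT.not_dvd).symm.pow_right n) h1 h2
    suffices h : W ≤ Subgroup.centralizer ({x} : Set G) from fun a ha =>
      Subgroup.mem_centralizer_singleton_iff.1 (h ha)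
    refine iSup_le fun g => ?_
    obtain ⟨n, hn, hm⟩ := frattini_conj (H := ⊤) hT (by rw [Subgroup.normalizer_eq_top]) (Subgroup.mem_top g⁻¹)
    rw [← hCT, sup_comm, ← SetLike.mem_coe, Subgroup.mul_normal, Set.mem_mul] at hn
    obtain ⟨t, ht, c, hc', htc⟩ := hn
    have hm' : (n * g⁻¹)⁻¹ * t ∈ Subgroup.normalizer (T : Set G) :=
      mul_mem (inv_mem hm) (Subgroup.le_normalizer ht)
    have hg : g = ((n * g⁻¹)⁻¹ * t) * c := by rw [mul_assoc, htc]; group
    have hcD : cj D c = D := cj_eq_self (Subgroup.mem_normalizer_iff.2 fun a => by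
      have hh := fun b (hb : b ∈ D) => (mem_centralizer_set.1 hc') b (hDW hb)
      refine ⟨fun ha => by rwa [hh a ha], fun ha => ?_⟩
      have h' := (mem_centralizer_set.1 (inv_mem hc')) _ (hDW ha)
      rw [show c⁻¹ * (c * a * c⁻¹) * c⁻¹⁻¹ = a by group] at h'
      rwa [h'])
    set m := (n * g⁻¹)⁻¹ * t
    rw [hg, ← cj_cj, hcD, cj_le_iff]
    intro a ha
    have hx' : m⁻¹ * x * m ∈ T := by
      have := (Subgroup.mem_normalizer_iff.1 (inv_mem hm') x).1 ⟨hx, hxK⟩
      rwa [inv_inv] at this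
    have hX' : ⁅⁅D ⊔ Subgroup.zpowers (m⁻¹ * x * m), D ⊔ Subgroup.zpowers (m⁻¹ * x * m)⁆,
        D ⊔ Subgroup.zpowers (m⁻¹ * x * m)⁆ = ⊥ := by
      have h := congrArg (fun K => cj K m⁻¹) hX
      simp only [cj_commutator, cj_sup, cj_bot, cj_of_normal W] at h
      rw [show cj (Subgroup.zpowers x) m⁻¹ = Subgroup.zpowers (m⁻¹ * x * m) by
        rw [cj, MonoidHom.map_zpowers]; simp] at h
      have h1 : D ⊔ Subgroup.zpowers (m⁻¹ * x * m) ≤ W ⊔ Subgroup.zpowers (m⁻¹ * x * m) := sup_le_sup_right hDW _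
      exact le_bot_iff.1 ((Subgroup.commutator_mono (Subgroup.commutator_mono h1 h1) h1).trans h.le)
    rw [mem_cj, inv_inv, Subgroup.mem_centralizer_singleton_iff]
    have h := hDcen _ hx'.1 hX' a ha
    calc m * a * m⁻¹ * x = m * (a * (m⁻¹ * x * m)) * m⁻¹ := by group
      _ = m * (m⁻¹ * x * m * a) * m⁻¹ := by rw [h]
      _ = x * (m * a * m⁻¹) := by group
  intro w hw
  have hWS : W ≤ S0 := hWQ.trans hQS
  refine ⟨⟨w, hWS hw⟩, ?_, rfl⟩
  refine (le_sSup (a := W.subgroupOf S0) (s := Cfsg.dStarFamily S0) ⟨?_, fun x hx a ha => ?_⟩) hw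
  · exact ⟨⟨fun a b => Subtype.ext (Subtype.ext (show ((a : S0) : G) * (b : S0) = (b : S0) * (a : S0) from congrArg Subtype.val (hWab.1.1 ⟨((a : S0) : G), a.2⟩ ⟨((b : S0) : G), b.2⟩)))⟩⟩
  · refine Subtype.ext ?_
    have h := (hbot _ x).1 hx
    rw [Subgroup.map_subgroupOf_eq_of_le hWS] at h
    exact hWfam x x.2 h a ha

end Cfsg.Agent.S3060
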