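import Cfsg.Statements.S3063
import Cfsg.Agent.Lib.Fusion.Replacement
import Cfsg.Agent.Lib.Solv.Coprime
-- import your own Cfsg.Agent.* helpers here

set_option autoImplicit false
open Cfsg

open Cfsg.Agent Cfsg.Agent.Fusion
open scoped commutatorElement

namespace Cfsg.Agent.S3063

/-- A weak replacement Theorem for metabelian p-groups: let S be a finite p-group whose derived subgroup is abelian and A an abelian subgroup of S of largest possible order. Then the normal closure of A in S contains an abelian subgroup B of the same order as A that is normal in S. -/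
theorem result {S : Type*} [Group S] [Finite S] {p : ℕ} [Fact p.Prime]
    (hS : IsPGroup p S) (hmeta : IsMulCommutative ↥(commutator S))
    (A : Subgroup S) (hA : A ∈ Cfsg.maxAbelianSubgroups S) :
    ∃ B ∈ Cfsg.maxAbelianSubgroups S, B.Normal ∧ B ≤ Subgroup.normalClosure (A : Set S) := by
  classical
  haveI : Group.IsNilpotent S := hS.isNilpotent
  letI : Fintype (Subgroup S) := Fintype.ofFinite _
  set W := commutator S with hW
  haveI : W.Normal := Subgroup.commutator_normal _ _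
  set NC := Subgroup.normalClosure (A : Set S) with hNC
  obtain ⟨B, hB, hBmax⟩ := Finset.exists_max_image
    (Finset.univ.filter fun X : Subgroup S => X ∈ Cfsg.maxAbelianSubgroups S ∧ X ≤ NC)
    (fun X : Subgroup S => Nat.card ↥(X ⊓ W))
    ⟨A, Finset.mem_filter.2 ⟨Finset.mem_univ _, hA, Subgroup.le_normalClosure⟩⟩
  obtain ⟨hBm, hBNC⟩ := (Finset.mem_filter.1 hB).2
  have hbest : ∀ X ∈ Cfsg.maxAbelianSubgroups S, X ≤ NC → Nat.card ↥(X ⊓ W) ≤ Nat.card ↥(B ⊓ W) :=
    fun X h1 h2 => hBmax X (Finset.mem_filter.2 ⟨Finset.mem_univ _, h1, h2⟩)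
  haveI hNCn : NC.Normal := Subgroup.normalClosure_normal
  refine ⟨B, hBm, ?_, hBNC⟩
  have hWN : W ≤ Subgroup.normalizer (B : Set S) := by
    by_contra hnot
    obtain ⟨b, hb, hbN, hbA⟩ := exists_normalizing_normalizer W B hnot
    have hWW : ⁅W, W⁆ ≤ B := by
      rw [Subgroup.commutator_eq_bot_iff_le_centralizer.2 (Subgroup.le_centralizer_iff_isMulCommutative.2 hmeta)]
      exact bot_le
    obtain ⟨hcard, hab, -, hlt, -, -, -, -, -, -, hRle⟩ := replSub_spec hS (fun _ => hmeta) hBm.1 hWW hb hbN hbA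
    have hR : replSub B b ≤ NC := hRle.trans (sup_le hBNC ((Subgroup.map_mono hBNC).trans (cj_of_normal NC b⁻¹).le))
    refine absurd (hbest _ ⟨hab, fun C hC => hcard ▸ hBm.2 C hC⟩ hR) (Nat.not_le.2 ?_)
    by_contra hle
    exact hlt.ne (Subgroup.eq_of_le_of_card_ge hlt.le (Nat.not_lt.1 hle))
  set N := Subgroup.normalizer (B : Set S)
  haveI hNn : N.Normal := ⟨fun n hn x => by
    have h : ⁅x, n⁆ * n ∈ N := mul_mem (hWN (Subgroup.commutator_mem_commutator (Subgroup.mem_top x) (Subgroup.mem_top n))) hn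
    rwa [show ⁅x, n⁆ * n = x * n * x⁻¹ by rw [commutatorElement_def]; group] at h⟩
  refine Subgroup.normalizer_eq_top_iff.1 (eq_top_iff.2 fun x _ => ?_)
  by_contra hxN
  set b := x with hb
  set B' := cj B b⁻¹ with hB'
  set D := B ⊓ B' with hD
  have hcard' : Nat.card B' = Nat.card B := card_cj B b⁻¹
  have hB'c : IsMulCommutative B' := by
    have := hBm.1
    rw [hB', cj]; infer_instance
  have hne : B' ≠ B := fun h => hxN (by simpa [b] using inv_mem (mem_normalizer_iff_cj.2 h))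
  have hB'N : B' ≤ N := (cj_mono Subgroup.le_normalizer b⁻¹).trans (cj_of_normal N b⁻¹).le
  have hNB' : N ≤ Subgroup.normalizer (B' : Set S) := by
    rw [hB', ← cj_normalizer, cj_of_normal N b⁻¹]
  have hσ : ∀ {a}, a ∈ B → b⁻¹ * a * b ∈ B' := fun {a} ha => by
    rw [mem_cj, inv_inv, show b * (b⁻¹ * a * b) * b⁻¹ = a by group]; exact ha
  have hDc : ∀ {d}, d ∈ D → ∀ {m}, m ∈ B ⊔ B' → d * m = m * d := by
    intro d hd m hm
    have hle : B ⊔ B' ≤ Subgroup.centralizer {d} := sup_le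
      (fun y hy => Subgroup.mem_centralizer_singleton_iff.2 (repl_comm hBm.1 hy hd.1))
      (fun y hy => Subgroup.mem_centralizer_singleton_iff.2 (repl_comm hB'c hy hd.2))
    exact (Subgroup.mem_centralizer_singleton_iff.1 (hle hm)).symm
  set g : S → S := fun a => a * b⁻¹ * a⁻¹ * b with hg
  have hgdef : ∀ a, g a = a * (b⁻¹ * a⁻¹ * b) := fun a => by simp only [g]; group
  have hgW : ∀ a, g a ∈ W := fun a => by
    have := Subgroup.commutator_mem_commutator (Subgroup.mem_top a) (Subgroup.mem_top b⁻¹)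
    rw [hW, commutator_def]
    simpa [commutatorElement_def, g] using this
  have hgM : ∀ a ∈ B, g a ∈ B ⊔ B' := fun a ha => by
    rw [hgdef]; exact mul_mem (Subgroup.mem_sup_left ha) (Subgroup.mem_sup_right (hσ (inv_mem ha)))
  have hcross : ∀ {a c}, a ∈ B → c ∈ B' → ⁅c, a⁆ ∈ D := by
    intro a c ha hc
    refine ⟨?_, ?_⟩
    · show ⁅c, a⁆ ∈ B
      rw [commutatorElement_def]
      exact mul_mem ((Subgroup.mem_normalizer_iff.1 (hB'N hc) a).1 ha) (inv_mem ha)
    · show ⁅c, a⁆ ∈ B'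
      rw [commutatorElement_def, show c * a * c⁻¹ * a⁻¹ = c * (a * c⁻¹ * a⁻¹) by group]
      exact mul_mem hc ((Subgroup.mem_normalizer_iff.1 (hNB' (Subgroup.le_normalizer ha)) _).1 (inv_mem hc))
  have hgg : ∀ a ∈ B, ∀ a' ∈ B, g a * g a' = g (a * a') * ⁅b⁻¹ * a⁻¹ * b, a'⁆ := by
    intro a ha a' ha'
    have hd := hcross ha' (hσ (inv_mem ha))
    have hc := repl_comm hB'c (hσ (inv_mem ha)) (hσ (inv_mem ha'))
    set u := b⁻¹ * a⁻¹ * b
    set u' := b⁻¹ * a'⁻¹ * b
    set d := ⁅u, a'⁆ with hd'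
    calc g a * g a' = a * (u * a') * u' := by rw [hgdef, hgdef]; simp only [u, u']; group
      _ = a * (d * (a' * u)) * u' := by rw [hd', commutatorElement_def]; group
      _ = a * (d * (a' * (u * u'))) := by group
      _ = a * ((a' * (u * u')) * d) := by
          rw [hDc hd (mul_mem (Subgroup.mem_sup_left ha')
            (Subgroup.mem_sup_right (mul_mem (hσ (inv_mem ha)) (hσ (inv_mem ha')))))]
      _ = (a * a') * (u' * u) * d := by rw [hc]; group
      _ = g (a * a') * d := by rw [hgdef]; simp only [u, u']; group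
  have hgD : ∀ a ∈ B, g a ∈ D → a ∈ D := by
    intro a ha hga
    have h : b⁻¹ * a * b ∈ D := by
      refine ⟨?_, hσ ha⟩
      show b⁻¹ * a * b ∈ B
      rw [show b⁻¹ * a * b = (g a)⁻¹ * a by rw [hgdef]; group]
      exact mul_mem (inv_mem hga.1) ha
    refine ⟨ha, ?_⟩
    show a ∈ B'
    rw [show a = g a * (b⁻¹ * a * b) by rw [hgdef]; group]
    exact mul_mem hga.2 h.2
  -- the replacement
  set R := Subgroup.closure ((D : Set S) ∪ g '' B) with hR
  have hWc : ∀ {a c}, a ∈ W → c ∈ W → a * c = c * a := fun ha hc => repl_comm hmeta ha hc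
  have hRc : IsMulCommutative R := by
    refine Subgroup.isMulCommutative_closure ?_
    rintro u (hu | ⟨a, ha, rfl⟩) v (hv | ⟨a', ha', rfl⟩)
    · exact repl_comm hBm.1 hu.1 hv.1
    · exact hDc hu (hgM a' ha')
    · exact (hDc hv (hgM a ha)).symm
    · exact hWc (hgW a) (hgW a')
  have hRNC : R ≤ NC := (Subgroup.closure_le _).2 (Set.union_subset (fun d hd => hBNC hd.1) (by
    rintro _ ⟨a, ha, rfl⟩
    exact sup_le hBNC ((cj_mono hBNC b⁻¹).trans (cj_of_normal NC b⁻¹).le) (hgM a ha)))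
  have hDR : D ≤ R := fun d hd => Subgroup.subset_closure (Or.inl hd)
  have hcard : Nat.card B ≤ Nat.card R := by
    set rep : S → S := fun a => (QuotientGroup.mk a : S ⧸ D).out
    have hrep : ∀ a, (rep a)⁻¹ * a ∈ D := fun a => QuotientGroup.eq.1 (QuotientGroup.out_eq' _)
    have hrepB : ∀ a ∈ B, rep a ∈ B := fun a ha => by
      have h0 : (rep a)⁻¹ * a ∈ B := (hrep a).1
      have h := mul_mem ha (inv_mem h0)
      rwa [show a * ((rep a)⁻¹ * a)⁻¹ = rep a by group] at h
    let f : B → R := fun a => ⟨g (rep a) * ((rep a)⁻¹ * (a : S)),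
      mul_mem (Subgroup.subset_closure (Or.inr ⟨_, hrepB a a.2, rfl⟩)) (hDR (hrep a))⟩
    refine Nat.card_le_card_of_injective f fun a a' h => ?_
    have h' : g (rep a) * ((rep a)⁻¹ * (a : S)) = g (rep a') * ((rep a')⁻¹ * (a' : S)) := congrArg Subtype.val h
    have hrr : g (rep a) = g (rep a') * (((rep a')⁻¹ * (a' : S)) * ((rep a)⁻¹ * (a : S))⁻¹) := by
      rw [← mul_assoc, ← h', mul_inv_cancel_right]
    have hrB := hrepB a a.2
    have hr'B := hrepB a' a'.2
    have hxB : rep a * (rep a')⁻¹ ∈ B := mul_mem hrB (inv_mem hr'B)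
    have hx : rep a * (rep a')⁻¹ ∈ D := by
      refine hgD _ hxB ?_
      have h1 := hgg (rep a * (rep a')⁻¹) hxB (rep a') hr'B
      rw [inv_mul_cancel_right] at h1
      set δ := ⁅b⁻¹ * (rep a * (rep a')⁻¹)⁻¹ * b, rep a'⁆
      have hδ : δ ∈ D := hcross hr'B (hσ (inv_mem hxB))
      set e := ((rep a')⁻¹ * (a' : S)) * ((rep a)⁻¹ * (a : S))⁻¹
      have he : e * δ ∈ D := mul_mem (mul_mem (hrep a') (inv_mem (hrep a))) hδ
      have h2 : g (rep a * (rep a')⁻¹) = g (rep a') * (e * δ) * (g (rep a'))⁻¹ := by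
        rw [← mul_assoc, ← hrr, ← h1, mul_inv_cancel_right]
      rw [h2, ← hDc he (hgM _ hr'B), mul_inv_cancel_right]
      exact he
    have hmid : (rep a)⁻¹ * rep a' ∈ D := by
      have := inv_mem hx
      rwa [mul_inv_rev, inv_inv, repl_comm hBm.1 hr'B (inv_mem hrB)] at this
    have hKeq : (QuotientGroup.mk (a : S) : S ⧸ D) = QuotientGroup.mk (a' : S) := by
      refine QuotientGroup.eq.2 ?_
      rw [show (a : S)⁻¹ * a' = ((rep a)⁻¹ * (a : S))⁻¹ * (((rep a)⁻¹ * rep a') * ((rep a')⁻¹ * a')) by group]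
      exact mul_mem (inv_mem (hrep a)) (mul_mem hmid (hrep a'))
    have heq : rep a = rep a' := congrArg Quotient.out hKeq
    rw [heq] at h'
    exact Subtype.ext (mul_left_cancel (mul_left_cancel h'))
  have hRm : R ∈ Cfsg.maxAbelianSubgroups S := ⟨hRc, fun C hC => (hBm.2 C hC).trans hcard⟩
  -- the intersection with the derived subgroup grows
  have hle := hbest R hRm hRNC
  have hWnorm : ∀ X : Subgroup S, X ≤ Subgroup.normalizer (W : Set S) := fun X => by
    rw [Subgroup.normalizer_eq_top]; exact le_top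
  have e1 := Cfsg.Agent.Solv.card_sup_mul_card_inf' W R (hWnorm R)
  have e2 := Cfsg.Agent.Solv.card_sup_mul_card_inf' W B (hWnorm B)
  rw [inf_comm] at e1 e2
  have hRW : R ≤ W ⊔ D := (Subgroup.closure_le _).2 (Set.union_subset (fun d hd => Subgroup.mem_sup_right hd) (by
    rintro _ ⟨a, -, rfl⟩; exact Subgroup.mem_sup_left (hgW a)))
  have hWD : W ⊔ D = W ⊔ B := by
    refine Subgroup.eq_of_le_of_card_ge (sup_le_sup_left inf_le_left W) ?_
    have h3 : Nat.card (W ⊔ R : Subgroup S) ≤ Nat.card (W ⊔ D : Subgroup S) :=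
      Subgroup.card_le_of_le (sup_le le_sup_left hRW)
    refine le_trans ?_ h3
    refine Nat.le_of_mul_le_mul_right ?_ (Nat.card_pos : 0 < Nat.card ↥(B ⊓ W))
    rw [e2]
    calc Nat.card W * Nat.card B ≤ Nat.card W * Nat.card R := Nat.mul_le_mul_left _ hcard
      _ = Nat.card (W ⊔ R : Subgroup S) * Nat.card ↥(R ⊓ W) := e1.symm
      _ ≤ Nat.card (W ⊔ R : Subgroup S) * Nat.card ↥(B ⊓ W) := Nat.mul_le_mul_left _ hle
  -- but then `B` and its conjugate commute
  have hdecomp : ∀ a ∈ B, ∃ d ∈ D, ∃ w ∈ B ⊓ W, a = w * d := by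
    intro a ha
    have h := hWD.ge (Subgroup.mem_sup_right ha : a ∈ W ⊔ B)
    rw [Subgroup.mem_sup_of_normal_left] at h
    obtain ⟨w, hw, d, hd, rfl⟩ := h
    exact ⟨d, hd, w, ⟨(B.mul_mem_cancel_right hd.1).1 ha, hw⟩, rfl⟩
  have hcent : ∀ a ∈ B, ∀ c ∈ B', a * c = c * a := by
    intro a ha c hc
    obtain ⟨d, hd, w, hw, rfl⟩ := hdecomp a ha
    rw [mem_cj, inv_inv] at hc
    obtain ⟨d', hd', w', hw', he⟩ := hdecomp _ hc
    have hd'' : b⁻¹ * d' * b ∈ B' := hσ hd'.1
    have hw'W : b⁻¹ * w' * b ∈ W := by simpa using (inferInstance : W.Normal).conj_mem _ hw'.2 b⁻¹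
    have hce : c = (b⁻¹ * w' * b) * (b⁻¹ * d' * b) := by
      calc c = b⁻¹ * (b * c * b⁻¹) * b := by group
        _ = _ := by rw [he]; group
    have h1 : Commute d c := hDc hd (Subgroup.mem_sup_right (by rw [mem_cj, inv_inv, he]; exact mul_mem hw'.1 hd'.1))
    have h2 : Commute w (b⁻¹ * w' * b) := hWc hw.2 hw'W
    -- `b⁻¹ d' b` is a product of an element of `D` and an element of `W`
    have h3 : Commute w (b⁻¹ * d' * b) := by
      have h4 : b⁻¹ * d' * b = (g d')⁻¹ * d' := by rw [hgdef]; group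
      rw [h4]
      exact (show Commute w (g d')⁻¹ from hWc hw.2 (inv_mem (hgW d'))).mul_right (repl_comm hBm.1 hw.1 hd'.1)
    rw [hce] at h1 ⊢
    exact ((h2.mul_right h3).mul_left h1).eq
  have hBB' : IsMulCommutative (B ⊔ B' : Subgroup S) := by
    rw [← Subgroup.le_centralizer_iff_isMulCommutative]
    refine sup_le ?_ ?_ <;> rw [Subgroup.le_centralizer_iff] <;> refine sup_le ?_ ?_
    · exact Subgroup.le_centralizer_iff_isMulCommutative.2 hBm.1
    · exact fun c hc => Subgroup.mem_centralizer_iff.2 fun a ha => hcent a ha c hc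
    · exact fun a ha => Subgroup.mem_centralizer_iff.2 fun c hc => (hcent a ha c hc).symm
    · exact Subgroup.le_centralizer_iff_isMulCommutative.2 hB'c
  have heq := Subgroup.eq_of_le_of_card_ge (le_sup_left : B ≤ B ⊔ B') (hBm.2 _ hBB')
  exact hne (Subgroup.eq_of_le_of_card_ge (le_sup_right.trans heq.ge) hcard'.ge)

end Cfsg.Agent.S3063
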