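import Cfsg.Statements.S3064
import Cfsg.Agent.Lib.Solv.Frobenius
-- import your own Cfsg.Agent.* helpers here

set_option autoImplicit false
open Cfsg

open Cfsg.Agent

namespace Cfsg.Agent.S3064

universe u

theorem aux {p : ℕ} [Fact p.Prime] : ∀ (n : ℕ) (G : Type u) [Group G] [Finite G], Nat.card G ≤ n →
    ∀ x : G, IsPGroup p ↥(Subgroup.zpowers x) →
      (∀ g : G, IsPGroup p ↥(Subgroup.closure {x, g⁻¹ * x * g}) → g⁻¹ * x * g = x) →
      (∀ H : Subgroup G, (Nat.card H).Coprime p → (∀ h ∈ H, x * h * x⁻¹ ∈ H) → ∀ h ∈ H, x * h = h * x) →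
      ∀ g : G, g * x = x * g := by
  intro n
  induction n with
  | zero =>
    intro G _ _ h
    exact absurd h (Nat.not_le.2 Nat.card_pos)
  | succ n ih =>
    intro G _ _ hn x hxp hU hb
    have hpair : ∀ g : G, IsPGroup p ↥(Subgroup.zpowers (g⁻¹ * x * g)) := fun g => by
      have h := hxp.map (MulAut.conj g⁻¹).toMonoidHom
      rwa [MonoidHom.map_zpowers, MulEquiv.coe_toMonoidHom, MulAut.conj_apply, inv_inv] at h
    have hcomm : ∀ g : G, Commute x (g⁻¹ * x * g) → g⁻¹ * x * g = x := fun g hc => by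
      refine hU g ?_
      have hle : Subgroup.zpowers (g⁻¹ * x * g) ≤
          Subgroup.normalizer (Subgroup.zpowers x : Set G) := by
        refine le_trans ?_ (Subgroup.centralizer_le_normalizer _)
        rw [Subgroup.zpowers_le, Subgroup.mem_centralizer_iff]
        rintro _ ⟨k, rfl⟩
        exact (hc.zpow_left k).eq
      have h := hxp.to_sup_of_normal_left' (hpair g) hle
      refine h.to_le ((Subgroup.closure_le _).2 ?_)
      rintro a (rfl | rfl)
      · exact Subgroup.mem_sup_left (Subgroup.mem_zpowers _)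
      · exact Subgroup.mem_sup_right (Subgroup.mem_zpowers _)
    have hsub : ∀ K : Subgroup G, x ∈ K → K ≠ ⊤ → ∀ k ∈ K, k * x = x * k := by
      intro K hxK hK k hk
      have hlt : Nat.card K ≤ n := by
        have h := K.card_mul_index
        have h1 : K.index ≠ 1 := fun h => hK (Subgroup.index_eq_one.1 h)
        have h2 : K.index ≠ 0 := Subgroup.index_ne_zero_of_finite
        have h3 : 0 < Nat.card K := Nat.card_pos
        nlinarith [show 2 ≤ K.index by omega]
      refine congrArg Subtype.val (ih ↥K hlt ⟨x, hxK⟩ ?_ ?_ ?_ ⟨k, hk⟩)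
      · exact hxp.of_injective
          ((K.subtype.comp (Subgroup.zpowers (⟨x, hxK⟩ : ↥K)).subtype).codRestrict (Subgroup.zpowers x)
            (by rintro ⟨_, i, rfl⟩; exact ⟨i, rfl⟩))
          (fun a b h => Subtype.ext (Subtype.ext (congrArg (fun w : ↥(Subgroup.zpowers x) => (w : G)) h :)))
      · intro g hg
        refine Subtype.ext (hU g ?_)
        have h := hg.map K.subtype
        rwa [MonoidHom.map_closure, Set.image_pair] at h
      · intro M hM hMx m hm
        refine Subtype.ext (hb (M.map K.subtype) ?_ ?_ m (Subgroup.mem_map_of_mem K.subtype hm))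
        · rwa [Subgroup.card_map_of_injective K.subtype_injective]
        · rintro _ ⟨a, ha, rfl⟩
          exact ⟨_, hMx a ha, rfl⟩
    by_contra hcon
    set H := Subgroup.centralizer ({x} : Set G) with hH
    have hmemH : ∀ g : G, g ∈ H ↔ g * x = x * g := fun g => Subgroup.mem_centralizer_singleton_iff
    have hHtop : H ≠ ⊤ := fun h => hcon fun g => (hmemH g).1 (h ▸ Subgroup.mem_top g)
    set Z := Subgroup.center G with hZ
    have hZH : Z ≤ H := fun z hz => (hmemH z).2 (Subgroup.mem_center_iff.1 hz x).symm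
    have hTI : ∀ g : G, g ∉ H → ∀ c ∈ H, g⁻¹ * c * g ∈ H → c ∈ Z := by
      intro g hg c hc hc'
      have hne : ¬ Commute x (g⁻¹⁻¹ * x * g⁻¹) := fun h => hg ((hmemH g).2 (by
        have h1 := hcomm _ h
        rw [inv_inv] at h1
        calc g * x = g * x * g⁻¹ * g := by group
          _ = x * g := by rw [h1]))
      rw [inv_inv] at hne
      set L := Subgroup.closure ({x, g * x * g⁻¹} : Set G) with hL
      have hLtop : L = ⊤ := by
        by_contra h
        exact hne (hsub L (Subgroup.subset_closure (Or.inl rfl)) h _ (Subgroup.subset_closure (Or.inr rfl))).symm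
      have h1 : L ≤ Subgroup.centralizer ({c} : Set G) := by
        refine (Subgroup.closure_le _).2 ?_
        rintro a (rfl | rfl)
        · exact Subgroup.mem_centralizer_singleton_iff.2 ((hmemH c).1 hc).symm
        · refine Subgroup.mem_centralizer_singleton_iff.2 ?_
          have h2 := (hmemH _).1 hc'
          calc g * x * g⁻¹ * c = g * (x * (g⁻¹ * c * g)) * g⁻¹ := by group
            _ = g * (g⁻¹ * c * g * x) * g⁻¹ := by rw [h2]
            _ = c * (g * x * g⁻¹) := by group
      exact Subgroup.mem_center_iff.2 fun a =>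
        Subgroup.mem_centralizer_singleton_iff.1 (h1 (hLtop ▸ Subgroup.mem_top a))
    -- the quotient by the centre
    set π := QuotientGroup.mk' Z with hπ
    have hπ1 : ∀ a : G, π a = 1 ↔ a ∈ Z := fun a => QuotientGroup.eq_one_iff a
    have hπH : ∀ a : G, π a ∈ H.map π ↔ a ∈ H := fun a => by
      rw [← Subgroup.mem_comap, Subgroup.comap_map_eq, hπ, QuotientGroup.ker_mk', sup_eq_left.2 hZH]
    have hfc : IsFrobeniusComplement (H.map π) := by
      refine ⟨fun h => hcon fun g => ?_, fun h => hHtop (top_le_iff.1 fun a _ => (hπH a).1 (h ▸ Subgroup.mem_top _)),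
        fun a ha => ?_⟩
      · have hxZ : x ∈ Z := (hπ1 x).1 (Subgroup.mem_bot.1 (h ▸ Subgroup.mem_map_of_mem π ((hmemH x).2 rfl)))
        exact Subgroup.mem_center_iff.1 hxZ g
      · obtain ⟨g, rfl⟩ := QuotientGroup.mk'_surjective Z a
        rw [eq_bot_iff]
        rintro _ ⟨⟨c, hc, rfl⟩, hc'⟩
        refine Subgroup.mem_bot.2 ((hπ1 c).2 (hTI g (fun h => ha ((hπH g).2 h)) c hc ((hπH _).1 ?_)))
        have := Solv.mem_conj_smul.1 hc'
        rw [map_mul, map_mul, map_inv]
        exact this
    obtain ⟨N, -, hNn, hNc⟩ := Solv.frobenius_theorem hfc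
    haveI := hNn
    -- the index of `H` is prime to `p`
    have hidx : ¬ p ∣ H.index := by
      obtain ⟨S, hS⟩ := hxp.exists_le_sylow
      have hSH : (S : Subgroup G) ≤ H := fun s hs => (hmemH s).2 (by
        have hxS : x ∈ (S : Subgroup G) := hS (Subgroup.mem_zpowers x)
        have h1 := hU s (S.isPGroup'.to_le ((Subgroup.closure_le _).2 (by
          rintro a (rfl | rfl)
          · exact hxS
          · exact mul_mem (mul_mem (inv_mem hs) hxS) hs)))
        calc s * x = s * (s⁻¹ * x * s) := by rw [h1]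
          _ = x * s := by group)
      exact fun hd => S.not_dvd_index' Subgroup.index_ne_zero_of_finite (hd.trans (Subgroup.index_dvd_of_le hSH))
    have hNcard : Nat.card N = H.index := by
      have h1 := hNc.index_eq_card
      rw [← h1, Subgroup.index_map, hπ, QuotientGroup.ker_mk', sup_eq_left.2 hZH,
        (QuotientGroup.mk' Z).range_eq_top.2 (QuotientGroup.mk'_surjective Z), Subgroup.index_top, mul_one]
    set K := N.comap π with hK
    have hKn : K.Normal := inferInstance
    -- the Sylow subgroups of `K` are central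
    obtain ⟨P⟩ : Nonempty (Sylow p ↥K) := inferInstance
    have hPZ : ∀ a : ↥K, a ∈ (P : Subgroup ↥K) → (a : G) ∈ Z := by
      intro a ha
      obtain ⟨i, hi⟩ := P.isPGroup' ⟨a, ha⟩
      have hi' : (a : G) ^ p ^ i = 1 := congrArg (fun w : ↥(P : Subgroup ↥K) => ((w : ↥K) : G)) hi
      rw [← hπ1, ← orderOf_eq_one_iff]
      refine Nat.eq_one_of_dvd_coprimes
        (((Fact.out : p.Prime).coprime_iff_not_dvd.2 (hNcard ▸ hidx)).pow_left i) ?_ ?_
      · exact orderOf_dvd_of_pow_eq_one (by rw [← map_pow, hi', map_one])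
      · have := orderOf_dvd_natCard (⟨π a, a.2⟩ : ↥N)
        rwa [← Subgroup.orderOf_coe] at this
    have hPn : Subgroup.normalizer ((P : Subgroup ↥K) : Set ↥K) ≤ Subgroup.centralizer ((P : Subgroup ↥K) : Set ↥K) :=
      fun b _ => Subgroup.mem_centralizer_iff.2 fun a ha =>
        Subtype.ext (Subgroup.mem_center_iff.1 (hPZ a ha) b).symm
    have hcompl := MonoidHom.ker_transferSylow_isComplement' P hPn
    set K0 := (MonoidHom.transferSylow P hPn).ker with hK0
    have hK0c : (Nat.card K0).Coprime p := by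
      have h := hcompl.card_mul
      have h2 := P.not_dvd_index' Subgroup.index_ne_zero_of_finite
      rw [hcompl.index_eq_card] at h2
      exact ((Fact.out : p.Prime).coprime_iff_not_dvd.2 h2).symm
    have hK0mem : ∀ b : ↥K, (orderOf b).Coprime p → b ∈ K0 := fun b hbo => by
      rw [hK0, MonoidHom.mem_ker, ← orderOf_eq_one_iff]
      obtain ⟨i, hi⟩ := IsPGroup.iff_card.1 P.isPGroup'
      exact Nat.eq_one_of_dvd_coprimes (hbo.pow_right i) (orderOf_map_dvd _ b)
        (hi ▸ orderOf_dvd_natCard _)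
    have hxK0 : ∀ b : ↥K, b ∈ K0 → x * b = b * x := fun b hb' => by
      refine hb (K0.map K.subtype) (by rwa [Subgroup.card_map_of_injective K.subtype_injective]) ?_ b
        (Subgroup.mem_map_of_mem K.subtype hb')
      rintro _ ⟨a, ha, rfl⟩
      refine ⟨⟨x * a * x⁻¹, hKn.conj_mem _ a.2 x⟩, hK0mem _ ?_, rfl⟩
      have ho : orderOf (⟨x * a * x⁻¹, hKn.conj_mem _ a.2 x⟩ : ↥K) = orderOf a := by
        rw [← Subgroup.orderOf_coe, ← Subgroup.orderOf_coe a, Subgroup.coe_mk, ← MulAut.conj_apply,
          MulEquiv.orderOf_eq]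
      rw [ho]
      exact hK0c.coprime_dvd_left (by
        have := orderOf_dvd_natCard (⟨a, ha⟩ : ↥K0)
        rwa [Subgroup.orderOf_mk] at this)
    have hKH : K ≤ H := by
      intro k hk
      have htop : K0 ⊔ (P : Subgroup ↥K) = ⊤ := hcompl.sup_eq_top
      obtain ⟨a, ha, b, hb', hab⟩ := Subgroup.mem_sup_of_normal_left.1
        (htop ▸ Subgroup.mem_top (⟨k, hk⟩ : ↥K))
      rw [show k = (a : G) * b from (congrArg Subtype.val hab).symm]
      exact mul_mem ((hmemH _).2 (hxK0 a ha).symm) (hZH (hPZ b hb'))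
    refine hHtop (Subgroup.index_eq_one.1 (hNcard ▸ ?_))
    rw [Subgroup.card_eq_one]
    refine le_antisymm (fun a ha => ?_) bot_le
    obtain ⟨g, rfl⟩ := QuotientGroup.mk'_surjective Z a
    exact hNc.disjoint.le_bot ⟨ha, (hπH g).2 (hKH ha)⟩



/-- Let S be a Sylow p-subgroup of the finite group G and x an element of S such that (i) x is the only G-conjugate of x lying in S, and (ii) x centralizes every subgroup of order prime to p that it normalizes. Then x lies in the centre of G. -/
theorem result {G : Type*} [Group G] [Finite G] {p : ℕ} [Fact p.Prime]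
    (S : Sylow p G) (x : G) (hx : x ∈ S)
    (hU : ∀ g : G, g⁻¹ * x * g ∈ S → g⁻¹ * x * g = x)
    (hb : ∀ H : Subgroup G, (Nat.card H).Coprime p → (∀ h ∈ H, x * h * x⁻¹ ∈ H) → ∀ h ∈ H, x * h = h * x) :
    x ∈ Subgroup.center G := by
  rw [Subgroup.mem_center_iff]
  refine aux (p := p) _ G le_rfl x (S.isPGroup'.to_le (Subgroup.zpowers_le.2 hx)) (fun g hg => ?_) hb
  obtain ⟨T, hT⟩ := hg.exists_le_sylow
  obtain ⟨t, ht⟩ := MulAction.exists_smul_eq G T S
  have hmem : ∀ a ∈ (T : Subgroup G), t * a * t⁻¹ ∈ (S : Subgroup G) := fun a ha => by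
    rw [← ht]; exact Subgroup.mem_map_of_mem (MulAut.conj t).toMonoidHom ha
  have h1 := hU t⁻¹ (by rw [inv_inv]; exact hmem x (hT (Subgroup.subset_closure (Or.inl rfl))))
  have h2 := hU (g * t⁻¹) (by
    have := hmem _ (hT (Subgroup.subset_closure (Or.inr rfl : g⁻¹ * x * g ∈ ({x, g⁻¹ * x * g} : Set G))))
    show (g * t⁻¹)⁻¹ * x * (g * t⁻¹) ∈ (S : Subgroup G)
    simpa [mul_assoc] using this)
  rw [inv_inv] at h1
  calc g⁻¹ * x * g = t⁻¹ * ((g * t⁻¹)⁻¹ * x * (g * t⁻¹)) * t := by group
    _ = t⁻¹ * (t * x * t⁻¹) * t := by rw [h2, h1]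
    _ = x := by group

end Cfsg.Agent.S3064
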