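import Cfsg.Statements.S3065
import Cfsg.Agent.Lib.Solv.OddGated.OutSolvable
import Cfsg.Agent.S0205

set_option autoImplicit false
open Cfsg

namespace Cfsg.Agent.S3065

/-- Let G be a finite non-abelian simple group with a nontrivial Sylow 2-subgroup S (that is, G has even order). If the automorphism group of S is solvable, then the outer automorphism group Out(G) = Aut(G)/Inn(G) is solvable. -/
theorem result {G : Type*} [Group G] [Finite G] [IsSimpleGroup G]
    (hG : ¬ IsMulCommutative G) (S : Sylow 2 G) (hS1 : (S : Subgroup G) ≠ ⊥) (hS : Group.IsSolvable (MulAut ↥S)) :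
    Group.IsSolvable (Cfsg.Out G) := by
  refine Cfsg.Agent.Solv.OddGated.Outer.out_solvable (fun X _ _ hX => Cfsg.Agent.S0205.result hX)
    (fun N hN hodd => (hN.eq_bot_or_eq_top).resolve_right fun h => hS1 ?_) S hS
  subst h
  rw [Subgroup.card_top] at hodd
  have : Fact (Nat.Prime 2) := ⟨Nat.prime_two⟩
  obtain ⟨k, hk⟩ := IsPGroup.iff_card.1 S.isPGroup'
  rcases Nat.eq_zero_or_pos k with rfl | hk0
  · exact Subgroup.card_eq_one.1 (by rw [hk, pow_zero])
  · exact absurd (even_iff_two_dvd.2 ((dvd_pow_self 2 hk0.ne').trans (hk ▸ Subgroup.card_subgroup_dvd_card (S : Subgroup G))))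
      (Nat.not_even_iff_odd.2 hodd)

end Cfsg.Agent.S3065
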