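import Cfsg.Statements.S3066
import Cfsg.Agent.Lib.Fusion.OutSylowStab
import Cfsg.Agent.Lib.Fusion.OmegaOneFixer
import Cfsg.Agent.Lib.Fusion.TransitiveAutQuot

set_option autoImplicit false
set_option linter.style.haveILetI false
open Cfsg

namespace Cfsg.Agent.S3066

open OutStab
open scoped Pointwise

universe u

/-- Elements of exponent two commute. -/
theorem comm_of_sq {Q : Type*} [Group Q] (hQ : ∀ q : Q, q * q = 1) (a b : Q) : a * b = b * a := by
  calc a * b = (a * b)⁻¹ := (inv_eq_of_mul_eq_one_right (hQ _)).symm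
    _ = b⁻¹ * a⁻¹ := mul_inv_rev a b
    _ = b * a := by rw [inv_eq_of_mul_eq_one_right (hQ a), inv_eq_of_mul_eq_one_right (hQ b)]

theorem card_sup_zpowers {Q : Type*} [Group Q] [Finite Q] (hQ : ∀ q : Q, q * q = 1) (H : Subgroup Q) (a : Q) :
    Nat.card ↥(H ⊔ Subgroup.zpowers a) ≤ Nat.card H * 2 := by
  haveI : (Subgroup.zpowers a).Normal := ⟨fun z hz g => by
    rw [comm_of_sq hQ g z, mul_inv_cancel_right]; exact hz⟩
  have h2 : Nat.card (Subgroup.zpowers a) ≤ 2 := by
    rw [Nat.card_zpowers]
    exact orderOf_le_of_pow_eq_one two_pos (by rw [pow_two, hQ])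
  refine (Nat.card_le_card_of_surjective
    (fun z : H × Subgroup.zpowers a => (⟨(z.1 : Q) * z.2,
      mul_mem (Subgroup.mem_sup_left z.1.2) (Subgroup.mem_sup_right z.2.2)⟩ : ↥(H ⊔ Subgroup.zpowers a))) ?_).trans
    ((Nat.card_prod _ _).trans_le (Nat.mul_le_mul_left _ h2))
  rintro ⟨x, hx⟩
  obtain ⟨h, hh, z, hz, rfl⟩ := Subgroup.mem_sup_of_normal_right.1 hx
  exact ⟨(⟨h, hh⟩, ⟨z, hz⟩), rfl⟩

theorem card_two_generated {Q : Type*} [Group Q] [Finite Q] (hQ : ∀ q : Q, q * q = 1) (a b : Q)
    (h : Subgroup.closure ({a, b} : Set Q) = ⊤) : Nat.card Q ≤ 4 := by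
  rw [Set.insert_eq, Subgroup.closure_union, ← Subgroup.zpowers_eq_closure, ← Subgroup.zpowers_eq_closure] at h
  have h1 := card_sup_zpowers hQ (Subgroup.zpowers a) b
  have h2 := card_sup_zpowers hQ (⊥ : Subgroup Q) a
  rw [h, Subgroup.card_top] at h1
  rw [bot_sup_eq, Subgroup.card_bot] at h2
  omega

theorem card_three_generated {Q : Type*} [Group Q] [Finite Q] (hQ : ∀ q : Q, q * q = 1) (a b c : Q)
    (h : Subgroup.closure ({a, b, c} : Set Q) = ⊤) : Nat.card Q ≤ 8 := by
  rw [Set.insert_eq, Set.insert_eq, ← Set.union_assoc, Subgroup.closure_union, Subgroup.closure_union,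
    ← Subgroup.zpowers_eq_closure, ← Subgroup.zpowers_eq_closure, ← Subgroup.zpowers_eq_closure] at h
  have h1 := card_sup_zpowers hQ (Subgroup.zpowers a ⊔ Subgroup.zpowers b) c
  have h2 := card_sup_zpowers hQ (Subgroup.zpowers a) b
  have h3 := card_sup_zpowers hQ (⊥ : Subgroup Q) a
  rw [h, Subgroup.card_top] at h1
  rw [bot_sup_eq, Subgroup.card_bot] at h3
  omega

/-- A group of automorphisms of `2³` with a nontrivial odd normal subgroup is solvable. -/
theorem isSolvable_eight {Q : Type*} [Group Q] [Finite Q] (hQ : ∀ q : Q, q * q = 1) (h8 : Nat.card Q = 8)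
    (J : Subgroup (MulAut Q)) (I : Subgroup J) [I.Normal] (hodd : Odd (Nat.card I)) (hne : I ≠ ⊥) :
    Group.IsSolvable J := by
  haveI : Group.IsSolvable I := Cfsg.Agent.S0205.result hodd
  let W : Subgroup Q :=
    { carrier := {x | ∀ i ∈ I, (i : MulAut Q) x = x}
      one_mem' := fun i _ => map_one _
      mul_mem' := fun {a b} ha hb i hi => by rw [map_mul, ha i hi, hb i hi]
      inv_mem' := fun {a} ha i hi => by rw [map_inv, ha i hi] }
  have hWJ : ∀ j : J, ∀ x ∈ W, (j : MulAut Q) x ∈ W := fun j x hx i hi => by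
    have h := hx (j⁻¹ * i * j) (by simpa using (inferInstance : I.Normal).conj_mem i hi j⁻¹)
    have h' : (j : MulAut Q)⁻¹ ((i : MulAut Q) ((j : MulAut Q) x)) = x := h
    calc (i : MulAut Q) ((j : MulAut Q) x)
        = (j : MulAut Q) ((j : MulAut Q)⁻¹ ((i : MulAut Q) ((j : MulAut Q) x))) :=
          (MulAut.apply_inv_self _ _ _).symm
      _ = (j : MulAut Q) x := by rw [h']
  by_cases hW : W = ⊥
  · -- transitive case
    letI : CommGroup Q := { (inferInstance : Group Q) with mul_comm := comm_of_sq hQ }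
    letI : DistribMulAction J (Additive Q) :=
      { smul := fun j w => Additive.ofMul ((j : MulAut Q) w.toMul)
        one_smul := fun w => rfl
        mul_smul := fun j k w => rfl
        smul_zero := fun j => congrArg Additive.ofMul (map_one (j : MulAut Q))
        smul_add := fun j v w => congrArg Additive.ofMul (map_mul (j : MulAut Q) v.toMul w.toMul) }
    haveI : FaithfulSMul J (Additive Q) :=
      ⟨fun h => Subtype.ext (MulEquiv.ext fun x => congrArg Additive.toMul (h (Additive.ofMul x)))⟩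
    have hodd' : ∀ v : Additive Q, v ≠ 0 →
        Odd (Nat.card (MulAction.orbit I v)) ∧ 2 ≤ Nat.card (MulAction.orbit I v) ∧
          MulAction.orbit I v ⊆ {0}ᶜ := by
      intro v hv
      refine ⟨hodd.of_dvd_nat ?_, ?_, ?_⟩
      · rw [Nat.card_congr (MulAction.orbitEquivQuotientStabilizer I v), ← Subgroup.index_eq_card]
        exact Subgroup.index_dvd_card _
      · by_contra hlt
        have hpos : 0 < Nat.card (MulAction.orbit I v) :=
          Nat.card_pos_iff.2 ⟨⟨⟨v, MulAction.mem_orbit_self v⟩⟩, inferInstance⟩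
        have h1 : Nat.card (MulAction.orbit I v) = 1 := by omega
        obtain ⟨hs, -⟩ := Nat.card_eq_one_iff_unique.1 h1
        refine hv (congrArg Additive.ofMul (show v.toMul = 1 from ?_))
        have hmem : v.toMul ∈ W := fun i hi => congrArg Additive.toMul (congrArg Subtype.val
          (hs.elim ⟨(⟨i, hi⟩ : I) • v, MulAction.mem_orbit v _⟩ ⟨v, MulAction.mem_orbit_self v⟩))
        rwa [hW, Subgroup.mem_bot] at hmem
      · rintro w ⟨i, rfl⟩ h0
        exact hv ((smul_eq_zero_iff_eq ((i : J))).1 h0)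
    have htr : ∀ a b : Additive Q, a ≠ 0 → b ≠ 0 → ∃ i ∈ I, i • a = b := by
      intro a b ha hb
      by_contra hno
      have hdis : Disjoint (MulAction.orbit I a) (MulAction.orbit I b) :=
        (MulAction.orbit.eq_or_disjoint a b).resolve_left fun e => hno (by
          obtain ⟨i, hi⟩ := e ▸ MulAction.mem_orbit_self b
          exact ⟨i, i.2, hi⟩)
      obtain ⟨oa, la, sa⟩ := hodd' a ha
      obtain ⟨ob, lb, sb⟩ := hodd' b hb
      have h7 : Set.ncard ({0}ᶜ : Set (Additive Q)) = 7 := by
        rw [Set.ncard_compl, Set.ncard_singleton, Nat.card_congr Additive.toMul, h8]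
      have hu := Set.ncard_union_eq hdis
      rw [Nat.card_coe_set_eq] at oa la ob lb
      obtain ⟨ka, hka⟩ := oa
      obtain ⟨kb, hkb⟩ := ob
      have hle := Set.ncard_le_ncard (Set.union_subset sa sb)
      obtain ⟨c, hc, hcn⟩ : ∃ c ∈ ({0}ᶜ : Set (Additive Q)), c ∉ MulAction.orbit I a ∪ MulAction.orbit I b := by
        by_contra hall
        push Not at hall
        have : MulAction.orbit I a ∪ MulAction.orbit I b = {0}ᶜ := Set.Subset.antisymm (Set.union_subset sa sb) hall
        rw [this] at hu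
        omega
      obtain ⟨oc, lc, sc⟩ := hodd' c hc
      rw [Nat.card_coe_set_eq] at oc lc
      obtain ⟨kc, hkc⟩ := oc
      have hdc : Disjoint (MulAction.orbit I a ∪ MulAction.orbit I b) (MulAction.orbit I c) :=
        Set.disjoint_union_left.2
          ⟨(MulAction.orbit.eq_or_disjoint a c).resolve_left fun e =>
              hcn (Or.inl (e.symm ▸ MulAction.mem_orbit_self c)),
            (MulAction.orbit.eq_or_disjoint b c).resolve_left fun e =>
              hcn (Or.inr (e.symm ▸ MulAction.mem_orbit_self c))⟩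
      have hu2 := Set.ncard_union_eq hdc
      have hle2 := Set.ncard_le_ncard (Set.union_subset (Set.union_subset sa sb) sc)
      omega
    haveI := TransAut.solvable_quotient (J := J) (E := Additive Q) (fun v => hQ v.toMul) I htr
    exact Group.isSolvable_of_ker_le_range I.subtype (QuotientGroup.mk' I)
      (by rw [QuotientGroup.ker_mk', Subgroup.range_subtype])
  · -- a proper invariant subgroup
    have hWtop : W ≠ ⊤ := fun e => hne ((Subgroup.eq_bot_iff_forall _).2 fun i hi =>
      Subtype.ext (MulEquiv.ext fun x => (show x ∈ W from e ▸ Subgroup.mem_top x) i hi))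
    haveI : W.Normal := ⟨fun z hz g => by rw [comm_of_sq hQ g z, mul_inv_cancel_right]; exact hz⟩
    obtain ⟨w, hw, hw'⟩ := (Nat.dvd_prime_pow Nat.prime_two (m := 3)).1
      ((W.card_subgroup_dvd_card.trans h8.dvd).trans (by norm_num))
    have hw0 : w ≠ 0 := fun e => hW (Subgroup.card_eq_one.1 (by rw [hw', e, pow_zero]))
    have hw3 : w ≠ 3 := fun e => hWtop (Subgroup.eq_top_of_card_eq _ (by rw [hw', e, h8]; norm_num))
    have hWc : Nat.card W ≤ 4 := by
      have : w = 1 ∨ w = 2 := by omega
      rcases this with rfl | rfl <;> rw [hw'] <;> norm_num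
    have hQW : Nat.card (Q ⧸ W) ≤ 4 := by
      have h := Subgroup.card_mul_index W
      rw [h8, hw'] at h
      rw [← Subgroup.index_eq_card]
      have : w = 1 ∨ w = 2 := by omega
      rcases this with rfl | rfl <;> norm_num at h ⊢ <;> omega
    have hiff : ∀ j : J, ∀ x, (j : MulAut Q) x ∈ W ↔ x ∈ W := fun j x => by
      refine ⟨fun h => ?_, hWJ j x⟩
      have := hWJ j⁻¹ _ h
      rwa [show (((j⁻¹ : J) : MulAut Q)) ((j : MulAut Q) x) = x from MulAut.inv_apply_self _ _ _] at this
    let ρ : J →* stab W := (J.subtype).codRestrict (stab W) hiff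
    haveI : Group.IsSolvable (MulAut W) := OutStab.isSolvable_mulAut_le_four hWc
    haveI : Group.IsSolvable (MulAut (Q ⧸ W)) := OutStab.isSolvable_mulAut_le_four hQW
    set r := (res W).comp ρ
    have hmap : ∀ j : J, W.map (((j : MulAut Q) : Q ≃* Q) : Q →* Q) = W := fun j => by
      ext x
      exact ⟨fun ⟨z, hz, e⟩ => e ▸ hWJ j z hz, fun hx => ⟨(j : MulAut Q)⁻¹ x,
        (hiff j _).1 (by rwa [MulAut.apply_inv_self]), MulAut.apply_inv_self _ _ _⟩⟩
    let q : J →* MulAut (Q ⧸ W) :=
      { toFun := fun j => QuotientGroup.congr W W (j : MulAut Q) (hmap j)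
        map_one' := by ext z; induction z using QuotientGroup.induction_on; rfl
        map_mul' := fun a b => by ext z; induction z using QuotientGroup.induction_on; rfl }
    haveI : Group.IsSolvable (r.prod q).ker := Group.isSolvable_of_comm fun a b => by
      refine comm_of_sq (fun k => Subtype.ext (Subtype.ext (MulEquiv.ext fun x => ?_))) a b
      have hk := MonoidHom.mem_ker.1 k.2
      have h1 : ∀ z ∈ W, ((k : J) : MulAut Q) z = z := fun z hz =>
        congrArg (fun e : MulAut W => ((e ⟨z, hz⟩ : W) : Q)) (congrArg Prod.fst hk)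
      have h2 : ((((k : J) : MulAut Q) x : Q) : Q ⧸ W) = x :=
        congrArg (fun e : MulAut (Q ⧸ W) => e (x : Q ⧸ W)) (congrArg Prod.snd hk)
      set d := x⁻¹ * ((k : J) : MulAut Q) x
      have hd : d ∈ W := by rw [← QuotientGroup.eq]; exact h2.symm
      show ((k : J) : MulAut Q) (((k : J) : MulAut Q) x) = x
      have e : ((k : J) : MulAut Q) x = x * d := (mul_inv_cancel_left _ _).symm
      rw [e, map_mul, h1 d hd, e, mul_assoc, hQ, mul_one]
    haveI : Group.IsSolvable (r.prod q).range :=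
      Group.isSolvable_of_isSolvable_injective (f := (r.prod q).range.subtype) (Subgroup.subtype_injective _)
    exact OutStab.isSolvable_of_ker (r.prod q)

variable {G : Type u} [Group G] [Finite G]

/-- Two generators. -/
theorem case_two (hO : ∀ N : Subgroup G, N.Normal → Odd (Nat.card N) → N = ⊥) (S : Sylow 2 G)
    (h : Nat.card ((S : Subgroup G) ⧸ frattini (S : Subgroup G)) ≤ 4) :
    Group.IsSolvable (stab (S : Subgroup G)) := by
  haveI : Fact (Nat.Prime 2) := ⟨Nat.prime_two⟩
  haveI := OutStab.isSolvable_mulAut_le_four h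
  haveI := (isPGroup_frat_ker S.isPGroup').isNilpotent
  exact isSolvable_stab hO S (frat _) inferInstance
    (Group.isSolvable_of_isSolvable_injective (f := ((frat _).comp (res (S : Subgroup G))).range.subtype)
      (Subgroup.subtype_injective _))

/-- Three generators and an odd element of the normaliser. -/
theorem case_three (hO : ∀ N : Subgroup G, N.Normal → Odd (Nat.card N) → N = ⊥) (S : Sylow 2 G)
    (h : Nat.card ((S : Subgroup G) ⧸ frattini (S : Subgroup G)) ≤ 8) {g : G}
    (hg : g ∈ Subgroup.normalizer ((S : Subgroup G) : Set G)) (hgo : Odd (orderOf g))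
    (hgC : g ∉ Subgroup.centralizer ((S : Subgroup G) : Set G)) :
    Group.IsSolvable (stab (S : Subgroup G)) := by
  haveI : Fact (Nat.Prime 2) := ⟨Nat.prime_two⟩
  obtain ⟨n, hn⟩ := (S.isPGroup'.to_quotient (frattini (S : Subgroup G))).exists_card_eq
  rcases le_or_gt n 2 with hn2 | hn2
  · exact case_two hO S (by
      rw [hn]; exact (Nat.pow_le_pow_right two_pos hn2).trans (by norm_num))
  have h8 : Nat.card ((S : Subgroup G) ⧸ frattini (S : Subgroup G)) = 8 := by
    have : 2 ^ 3 ≤ 2 ^ n := Nat.pow_le_pow_right two_pos hn2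
    omega
  have hQ := frat_exponent_two (P := (S : Subgroup G)) S.isPGroup'
  set f := (frat (S : Subgroup G)).comp (res (S : Subgroup G))
  set N := Subgroup.normalizer ((S : Subgroup G) : Set G)
  set κ := f.rangeRestrict.comp (inner (S : Subgroup G))
  haveI : κ.range.Normal := by
    have e : κ.range = (inner (S : Subgroup G)).range.map f.rangeRestrict := MonoidHom.range_comp _ _
    rw [e]
    exact (inner_range_normal (S : Subgroup G)).map _ f.rangeRestrict_surjective
  have hSker : (S : Subgroup G).subgroupOf N ≤ κ.ker := fun s hs => by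
    refine Subtype.ext (MulEquiv.ext fun q => ?_)
    induction q using QuotientGroup.induction_on with
    | _ z =>
      show (((⟨(s : G) * z * (s : G)⁻¹, _⟩ : (S : Subgroup G))) : (S : Subgroup G) ⧸ frattini (S : Subgroup G)) = z
      rw [show (⟨(s : G) * z * (s : G)⁻¹, _⟩ : (S : Subgroup G)) = ⟨(s : G), hs⟩ * z * (⟨(s : G), hs⟩)⁻¹ from rfl,
        QuotientGroup.mk_mul, QuotientGroup.mk_mul, QuotientGroup.mk_inv, comm_of_sq hQ _ (z : _ ⧸ _),
        mul_inv_cancel_right]
  have hodd : Odd (Nat.card κ.range) := by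
    rw [← Subgroup.index_ker]
    refine Odd.of_dvd_nat ?_ (Subgroup.index_dvd_of_le hSker)
    have h1 := Subgroup.relIndex_mul_index (Subgroup.le_normalizer : (S : Subgroup G) ≤ N)
    have h2 : Odd (S : Subgroup G).index := Nat.not_even_iff_odd.1 fun he => S.not_dvd_index (even_iff_two_dvd.1 he)
    exact h2.of_dvd_nat (Dvd.intro _ h1)
  have hne : κ.range ≠ ⊥ := fun e => by
    have h1 : res (S : Subgroup G) (inner (S : Subgroup G) ⟨g, hg⟩) ∈ (frat (S : Subgroup G)).ker := by
      have := (Subgroup.eq_bot_iff_forall _).1 e _ ⟨⟨g, hg⟩, rfl⟩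
      exact congrArg Subtype.val this
    obtain ⟨k, hk⟩ := (isPGroup_frat_ker S.isPGroup') ⟨_, h1⟩
    have h2 : orderOf (res (S : Subgroup G) (inner (S : Subgroup G) ⟨g, hg⟩)) ∣ 2 ^ k :=
      orderOf_dvd_of_pow_eq_one (congrArg Subtype.val hk)
    have h3 : orderOf (res (S : Subgroup G) (inner (S : Subgroup G) ⟨g, hg⟩)) ∣ orderOf g :=
      (orderOf_map_dvd ((res (S : Subgroup G)).comp (inner (S : Subgroup G))) ⟨g, hg⟩).trans
        (by rw [Subgroup.orderOf_mk])
    have h4 : res (S : Subgroup G) (inner (S : Subgroup G) ⟨g, hg⟩) = 1 :=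
      orderOf_eq_one_iff.1 (Nat.eq_one_of_dvd_coprimes
        (Nat.Coprime.pow_left k (Nat.coprime_two_left.2 hgo)) h2 h3)
    refine hgC (Subgroup.mem_centralizer_iff.2 fun s hs => ?_)
    have h5 : g * s * g⁻¹ = s := congrArg (fun e : MulAut (S : Subgroup G) => ((e ⟨s, hs⟩ : (S : Subgroup G)) : G)) h4
    calc s * g = g * s * g⁻¹ * g := by rw [h5]
      _ = g * s := by rw [inv_mul_cancel_right]
  haveI := (isPGroup_frat_ker (P := (S : Subgroup G)) S.isPGroup').isNilpotent
  exact isSolvable_stab hO S (frat _) inferInstance (isSolvable_eight hQ h8 f.range κ.range hodd hne)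

/-- Commuting, conjugate involutions. -/
theorem case_involutions (hO : ∀ N : Subgroup G, N.Normal → Odd (Nat.card N) → N = ⊥) (S : Sylow 2 G)
    (hc : ∀ s ∈ S, ∀ t ∈ S, orderOf s = 2 → orderOf t = 2 → s * t = t * s)
    (hconj : ∀ s ∈ S, ∀ t ∈ S, orderOf s = 2 → orderOf t = 2 → ∃ g : G, g * s * g⁻¹ = t) :
    Group.IsSolvable (stab (S : Subgroup G)) := by
  haveI : Fact (Nat.Prime 2) := ⟨Nat.prime_two⟩
  have hord : ∀ x : G, x ^ 2 = 1 → x ≠ 1 → orderOf x = 2 := fun x h h' => orderOf_eq_prime h h'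
  have hcomm : ∀ s ∈ S, ∀ t ∈ S, s ^ 2 = 1 → t ^ 2 = 1 → s * t = t * s := fun s hs t ht h1 h2 => by
    by_cases e : s = 1
    · subst e; simp
    by_cases e' : t = 1
    · subst e'; simp
    exact hc s hs t ht (hord s h1 e) (hord t h2 e')
  -- the subgroup of involutions
  set P := (S : Subgroup G)
  let E : Subgroup G :=
    { carrier := {x | x ∈ S ∧ x ^ 2 = 1}
      one_mem' := ⟨one_mem _, one_pow 2⟩
      mul_mem' := fun {a b} ha hb => ⟨mul_mem ha.1 hb.1, by
        rw [(show Commute a b from hcomm a ha.1 b hb.1 ha.2 hb.2).mul_pow, ha.2, hb.2, one_mul]⟩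
      inv_mem' := fun {a} ha => ⟨inv_mem ha.1, by rw [inv_pow, ha.2, inv_one]⟩ }
  have hES : E ≤ (S : Subgroup G) := fun x hx => hx.1
  have hmem : ∀ φ ∈ stab (S : Subgroup G), ∀ x, φ x ∈ E ↔ x ∈ E := fun φ hφ x => by
    refine and_congr (hφ x) ?_
    rw [← map_pow, MulEquiv.map_eq_one_iff]
  let hA : stab (S : Subgroup G) →* stab E := (stab (S : Subgroup G)).subtype.codRestrict (stab E)
    fun φ => hmem φ φ.2
  -- restriction from `S` to `E`
  let ES : Subgroup P := E.subgroupOf (S : Subgroup G)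
  have hchar : ∀ (α : MulAut (S : Subgroup G)) (x : (S : Subgroup G)), α x ∈ ES ↔ x ∈ ES := fun α x => by
    show ((α x : (S : Subgroup G)) : G) ∈ E ↔ (x : G) ∈ E
    refine and_congr ⟨fun _ => x.2, fun _ => (α x).2⟩ ?_
    rw [← Subgroup.coe_pow, ← Subgroup.coe_pow, OneMemClass.coe_eq_one, OneMemClass.coe_eq_one, ← map_pow,
      MulEquiv.map_eq_one_iff]
  let θ : MulAut (S : Subgroup G) →* MulAut E := (MulAut.congr (Subgroup.subgroupOfEquivOfLe hES)).toMonoidHom.comp
    ((res ES).comp ((MonoidHom.id (MulAut (S : Subgroup G))).codRestrict (stab ES) fun α => hchar α))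
  have hθ : ∀ φ : stab (S : Subgroup G), θ (res (S : Subgroup G) φ) = res E (hA φ) := fun φ =>
    MulEquiv.ext fun x => Subtype.ext rfl
  -- the kernel
  have hK : Group.IsSolvable θ.ker := by
    have hfix : ∀ α : θ.ker, ∀ x : P, x ^ 2 = 1 → (α : MulAut P) x = x := fun α x hx => by
      have hxE : (x : G) ∈ E := ⟨x.2, by rw [← Subgroup.coe_pow, hx, Subgroup.coe_one]⟩
      exact Subtype.ext (congrArg (fun e : MulAut E => ((e ⟨x, hxE⟩ : E) : G)) (MonoidHom.mem_ker.1 α.2))
    set P₀ := Subgroup.centralizer {x : P | x ^ 2 = 1}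
    have hP₀ : ∀ (α : MulAut P) (x : P), α x ∈ P₀ ↔ x ∈ P₀ := by
      have key : ∀ (α : MulAut P) (x : P), x ∈ P₀ → α x ∈ P₀ := fun α x hx => by
        refine Subgroup.mem_centralizer_iff.2 fun e he => ?_
        have he' : (α⁻¹ e) ^ 2 = 1 := by rw [← map_pow, he, map_one]
        have := congrArg α (Subgroup.mem_centralizer_iff.1 hx _ he')
        rwa [map_mul, map_mul, MulAut.apply_inv_self] at this
      intro α x
      refine ⟨fun h => ?_, key α x⟩
      have := key α⁻¹ _ h
      rwa [MulAut.inv_apply_self] at this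
    let r : θ.ker →* MulAut P₀ := (res P₀).comp (θ.ker.subtype.codRestrict (stab P₀) fun α => hP₀ α)
    have hP₀c : ∀ x : P₀, x ^ 2 = 1 → x ∈ Subgroup.center P₀ := fun x hx => by
      refine Subgroup.mem_center_iff.2 fun z => Subtype.ext ?_
      exact (Subgroup.mem_centralizer_iff.1 z.2 (x : P)
        (show (x : P) ^ 2 = 1 by rw [← Subgroup.coe_pow, hx, Subgroup.coe_one])).symm
    haveI : Group.IsSolvable r.range := OmegaFixer.isSolvable (S.isPGroup'.to_subgroup P₀) hP₀c r.range (by
      rintro _ ⟨α, rfl⟩ x hx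
      exact Subtype.ext (hfix α x (by rw [← Subgroup.coe_pow, hx, Subgroup.coe_one])))
    have hker : IsPGroup 2 r.ker := by
      obtain ⟨n, hn⟩ := S.isPGroup'.exists_card_eq
      intro α
      refine ⟨n, Subtype.ext (Subtype.ext (MulEquiv.ext fun x => ?_))⟩
      show (((α : θ.ker) : MulAut P) ^ 2 ^ n) x = x
      have h0 : ∀ z ∈ P₀, ((α : θ.ker) : MulAut P) z = z := fun z hz =>
        congrArg (fun e : MulAut P₀ => ((e ⟨z, hz⟩ : P₀) : P)) (MonoidHom.mem_ker.1 α.2)
      set d := x⁻¹ * ((α : θ.ker) : MulAut P) x with hd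
      have hdP : d ∈ P₀ := by
        refine Subgroup.mem_centralizer_iff.2 fun e (he : e ^ 2 = 1) => ?_
        have he' : (x * e * x⁻¹) ^ 2 = 1 := by rw [conj_pow, he, mul_one, mul_inv_cancel]
        have h1 := hfix α.1 _ he'
        rw [map_mul, map_mul, map_inv, hfix α.1 e he] at h1
        set y := ((α : θ.ker) : MulAut P) x
        calc e * d = x⁻¹ * (x * e * x⁻¹) * y := by rw [hd]; group
          _ = x⁻¹ * (y * e * y⁻¹) * y := by rw [h1]
          _ = d * e := by rw [hd]; group
      have hk : ∀ k : ℕ, (((α : θ.ker) : MulAut P) ^ k) x = x * d ^ k := by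
        intro k
        induction k with
        | zero => simp
        | succ k ih =>
          rw [pow_succ', MulAut.mul_apply, ih, map_mul, map_pow, h0 d hdP, pow_succ', ← mul_assoc,
            show x * d = ((α : θ.ker) : MulAut P) x by rw [hd, mul_inv_cancel_left]]
      rw [hk, show d ^ 2 ^ n = 1 by rw [← hn]; exact pow_card_eq_one', mul_one]
    haveI := hker.isNilpotent
    exact OutStab.isSolvable_of_ker r
  refine isSolvable_stab hO S θ hK ?_
  -- the image
  set ψ := (res E).rangeRestrict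
  set L := ((res E).comp hA).range with hLdef
  suffices hL : Group.IsSolvable L by
    have e : (θ.comp (res (S : Subgroup G))).range = L := by
      rw [hLdef]; exact congrArg MonoidHom.range (MonoidHom.ext hθ)
    rw [e]; exact hL
  set N := Subgroup.normalizer (E : Set G)
  set κ := ψ.comp (OutStab.inner E)
  haveI : κ.range.Normal := by
    have e : κ.range = (OutStab.inner E).range.map ψ := MonoidHom.range_comp _ _
    rw [e]
    exact (inner_range_normal E).map _ (res E).rangeRestrict_surjective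
  letI : CommGroup E := { (inferInstance : Group E) with
    mul_comm := fun a b => Subtype.ext (hcomm a a.2.1 b b.2.1 a.2.2 b.2.2) }
  letI : DistribMulAction (res E).range (Additive E) :=
    { smul := fun j w => Additive.ofMul ((j : MulAut E) w.toMul)
      one_smul := fun w => rfl
      mul_smul := fun j k w => rfl
      smul_zero := fun j => congrArg Additive.ofMul (map_one (j : MulAut E))
      smul_add := fun j v w => congrArg Additive.ofMul (map_mul (j : MulAut E) v.toMul w.toMul) }
  haveI : FaithfulSMul (res E).range (Additive E) :=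
    ⟨fun h => Subtype.ext (MulEquiv.ext fun x => congrArg Additive.toMul (h (Additive.ofMul x)))⟩
  -- fusion of involutions in the normaliser
  have hfus : ∀ s ∈ E, ∀ t ∈ E, s ≠ 1 → t ≠ 1 → ∃ g ∈ Subgroup.normalizer (E : Set G), g * s * g⁻¹ = t := by
    intro s hs t ht hs1 ht1
    obtain ⟨g, hg⟩ := hconj s hs.1 t ht.1 (hord s hs.2 hs1) (hord t ht.2 ht1)
    set C := Subgroup.centralizer ({t} : Set G)
    have hEC : E ≤ C := fun x hx => Subgroup.mem_centralizer_singleton_iff.2 (hcomm x hx.1 t ht.1 hx.2 ht.2)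
    set E' := E.map (MulAut.conj g).toMonoidHom
    have hE'C : E' ≤ C := by
      rintro _ ⟨x, hx, rfl⟩
      refine Subgroup.mem_centralizer_singleton_iff.2 ?_
      show g * x * g⁻¹ * t = t * (g * x * g⁻¹)
      rw [← hg]
      calc g * x * g⁻¹ * (g * s * g⁻¹) = g * (x * s) * g⁻¹ := by group
        _ = g * (s * x) * g⁻¹ := by rw [hcomm x hx.1 s hs.1 hx.2 hs.2]
        _ = g * s * g⁻¹ * (g * x * g⁻¹) := by group
    have hEp : IsPGroup 2 E := S.isPGroup'.to_le hES
    obtain ⟨P, hP⟩ := (hEp.comap_of_injective C.subtype C.subtype_injective : IsPGroup 2 (E.subgroupOf C)).exists_le_sylow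
    obtain ⟨P', hP'⟩ := ((hEp.map (MulAut.conj g).toMonoidHom).comap_of_injective C.subtype C.subtype_injective :
      IsPGroup 2 (E'.subgroupOf C)).exists_le_sylow
    obtain ⟨c, hcP⟩ := MulAction.exists_smul_eq C P' P
    set E'' := E.map (MulAut.conj ((c : G) * g)).toMonoidHom
    obtain ⟨T, hT⟩ := (P.isPGroup'.map C.subtype).exists_le_sylow
    have h1 : E ≤ T := fun x hx => hT ⟨⟨x, hEC hx⟩, hP hx, rfl⟩
    have h2 : E'' ≤ T := by
      rintro _ ⟨x, hx, rfl⟩
      have hx' : g * x * g⁻¹ ∈ E' := ⟨x, hx, rfl⟩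
      have h := Subgroup.smul_mem_pointwise_smul _ (MulAut.conj c) _ (hP' (show (⟨_, hE'C hx'⟩ : C) ∈ E'.subgroupOf C from hx'))
      have hP2 : MulAut.conj c • ((P' : Subgroup C)) = (P : Subgroup C) := by
        rw [← hcP]; rfl
      rw [hP2] at h
      refine hT ⟨_, h, ?_⟩
      show (c : G) * (g * x * g⁻¹) * (c : G)⁻¹ = (c : G) * g * x * ((c : G) * g)⁻¹
      group
    obtain ⟨d, hd⟩ := MulAction.exists_smul_eq G S T
    have hTS : ∀ x, x ∈ T → x ^ 2 = 1 → x ∈ E.map (MulAut.conj d).toMonoidHom := fun x hx hx2 => by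
      rw [← hd] at hx
      have hx : x ∈ MulAut.conj d • (S : Subgroup G) := hx
      rw [Subgroup.mem_pointwise_smul_iff_inv_smul_mem] at hx
      refine ⟨(MulAut.conj d)⁻¹ x, ⟨hx, by rw [← map_pow, hx2, map_one]⟩, MulAut.apply_inv_self _ _ _⟩
    have hsq : ∀ k : G, ∀ x ∈ E.map (MulAut.conj k).toMonoidHom, x ^ 2 = 1 := by
      rintro k _ ⟨z, hz, rfl⟩
      rw [← map_pow, hz.2, map_one]
    have hcard : ∀ k : G, Nat.card ↥(E.map (MulAut.conj k).toMonoidHom) = Nat.card E := fun k =>
      Subgroup.card_map_of_injective (MulAut.conj k).injective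
    have hEd : E = E.map (MulAut.conj d).toMonoidHom :=
      Subgroup.eq_of_le_of_card_ge (fun x hx => hTS x (h1 hx) hx.2) (by rw [hcard])
    have hEc : E'' = E.map (MulAut.conj d).toMonoidHom :=
      Subgroup.eq_of_le_of_card_ge (fun x hx => hTS x (h2 hx) (hsq _ x hx)) (by rw [hcard, hcard])
    refine ⟨(c : G) * g, Subgroup.mem_normalizer_fintype fun x hx => ?_, ?_⟩
    · have : (c : G) * g * x * ((c : G) * g)⁻¹ ∈ E'' := ⟨x, hx, rfl⟩
      rwa [hEc, ← hEd] at this
    · have hct := Subgroup.mem_centralizer_singleton_iff.1 c.2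
      calc (c : G) * g * s * ((c : G) * g)⁻¹ = (c : G) * (g * s * g⁻¹) * (c : G)⁻¹ := by group
        _ = (c : G) * t * (c : G)⁻¹ := by rw [hg]
        _ = t := by rw [hct, mul_inv_cancel_right]
  have hquot : Group.IsSolvable ((res E).range ⧸ κ.range) := TransAut.solvable_quotient (E := Additive E)
    (fun v => congrArg Additive.ofMul (show v.toMul * v.toMul = 1 from Subtype.ext (by
      rw [Subgroup.coe_mul, Subgroup.coe_one, ← pow_two]; exact v.toMul.2.2))) κ.range
    fun a b ha hb => by
      obtain ⟨g, hgN, hg⟩ := hfus a.toMul a.toMul.2 b.toMul b.toMul.2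
        (fun e => ha (congrArg Additive.ofMul (Subtype.ext e))) (fun e => hb (congrArg Additive.ofMul (Subtype.ext e)))
      exact ⟨κ ⟨g, hgN⟩, ⟨_, rfl⟩, congrArg Additive.ofMul (Subtype.ext hg)⟩
  -- the part inside the transitive subgroup
  let ι : L →* (res E).range := Subgroup.inclusion (by rintro _ ⟨φ, rfl⟩; exact ⟨hA φ, rfl⟩)
  have hι : Function.Injective ι := Subgroup.inclusion_injective _
  let π : L →* (res E).range ⧸ κ.range := (QuotientGroup.mk' κ.range).comp ι
  haveI := hquot
  haveI : Group.IsSolvable π.range :=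
    Group.isSolvable_of_isSolvable_injective (f := π.range.subtype) (Subgroup.subtype_injective _)
  -- the image of `S`
  have hSN : (S : Subgroup G) ≤ N := fun s hs => Subgroup.mem_normalizer_fintype fun x hx =>
    ⟨mul_mem (mul_mem hs hx.1) (inv_mem hs), by rw [conj_pow, hx.2, mul_one, mul_inv_cancel]⟩
  set κr := κ.rangeRestrict
  set TS : Subgroup κ.range := ((S : Subgroup G).subgroupOf N).map κr
  have hTS2 : IsPGroup 2 TS := (S.isPGroup'.comap_of_injective N.subtype N.subtype_injective).map κr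
  have hTSo : Odd TS.index := by
    refine Odd.of_dvd_nat ?_ (Subgroup.index_map_dvd _ κ.rangeRestrict_surjective)
    have h1 := Subgroup.relIndex_mul_index hSN
    have h2 : Odd (S : Subgroup G).index := Nat.not_even_iff_odd.1 fun he => S.not_dvd_index (even_iff_two_dvd.1 he)
    exact h2.of_dvd_nat (Dvd.intro _ h1)
  set NT := Subgroup.normalizer (TS : Set κ.range)
  haveI : Group.IsSolvable NT := by
    haveI : (TS.subgroupOf NT).Normal := Subgroup.normal_in_normalizer
    haveI : Group.IsSolvable (NT ⧸ TS.subgroupOf NT) := Cfsg.Agent.S0205.result (by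
      rw [← Subgroup.index_eq_card]
      exact hTSo.of_dvd_nat (Dvd.intro _ (Subgroup.relIndex_mul_index Subgroup.le_normalizer)))
    have hp : IsPGroup 2 (TS.subgroupOf NT) := hTS2.comap_of_injective NT.subtype NT.subtype_injective
    haveI : Group.IsNilpotent (TS.subgroupOf NT) := hp.isNilpotent
    exact Group.isSolvable_of_ker_le_range (TS.subgroupOf NT).subtype (QuotientGroup.mk' (TS.subgroupOf NT))
      (by rw [QuotientGroup.ker_mk', Subgroup.range_subtype])
  have hin : ∀ l : π.ker, ι l ∈ κ.range := fun l => (QuotientGroup.eq_one_iff _).1 (MonoidHom.mem_ker.1 l.2)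
  have hnorm : ∀ l : π.ker, (⟨ι l, hin l⟩ : κ.range) ∈ NT := by
    intro l
    refine Subgroup.mem_normalizer_fintype ?_
    rintro _ ⟨s, hs, rfl⟩
    obtain ⟨φ, hφ⟩ := (l : L).2
    have hφs : (φ : MulAut G) (s : G) ∈ (S : Subgroup G) := (φ.2 _).2 hs
    refine ⟨⟨(φ : MulAut G) (s : G), hSN hφs⟩, hφs, Subtype.ext (Subtype.ext (MulEquiv.ext fun x => ?_))⟩
    apply Subtype.ext
    show (φ : MulAut G) (s : G) * (x : G) * ((φ : MulAut G) (s : G))⁻¹ =
      (((((l : L) : MulAut E) * res E (OutStab.inner E s) * ((l : L) : MulAut E)⁻¹) x : E) : G)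
    rw [← hφ]
    show (φ : MulAut G) (s : G) * (x : G) * ((φ : MulAut G) (s : G))⁻¹ =
      (φ : MulAut G) ((s : G) * (φ : MulAut G)⁻¹ (x : G) * (s : G)⁻¹)
    rw [map_mul, map_mul, map_inv, MulAut.apply_inv_self]
  haveI : Group.IsSolvable π.ker := Group.isSolvable_of_isSolvable_injective
    (f := (((ι.comp π.ker.subtype).codRestrict κ.range hin).codRestrict NT hnorm))
    fun a b h => Subtype.ext (hι (congrArg (fun z : NT => ((z : κ.range) : (res E).range)) h))
  exact OutStab.isSolvable_of_ker π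

/-- Let G be a finite non-abelian simple group with a nontrivial Sylow 2-subgroup S (that is, G has even order). Then Out(G) = Aut(G)/Inn(G) is solvable provided one of the following holds: (a) S is generated by two elements; (b) S is generated by three elements and N_G(S)/C_G(S) is not a 2-group (some element of N_G(S) of odd order does not centralize S); (c) the involutions of S commute pairwise and are all conjugate in G. -/
theorem result {G : Type*} [Group G] [Finite G] [IsSimpleGroup G]
    (hG : ¬ IsMulCommutative G) (S : Sylow 2 G) (hS1 : (S : Subgroup G) ≠ ⊥)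
    (h : (∃ a b : ↥S, Subgroup.closure ({a, b} : Set ↥S) = ⊤) ∨
      ((∃ a b c : ↥S, Subgroup.closure ({a, b, c} : Set ↥S) = ⊤) ∧
        ∃ g ∈ Subgroup.normalizer ((S : Subgroup G) : Set G), Odd (orderOf g) ∧ g ∉ Subgroup.centralizer ((S : Subgroup G) : Set G)) ∨
      ((∀ s ∈ S, ∀ t ∈ S, orderOf s = 2 → orderOf t = 2 → s * t = t * s) ∧
        (∀ s ∈ S, ∀ t ∈ S, orderOf s = 2 → orderOf t = 2 → ∃ g : G, g * s * g⁻¹ = t))) :
    Group.IsSolvable (Cfsg.Out G) := by
  haveI : Fact (Nat.Prime 2) := ⟨Nat.prime_two⟩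
  have hO : ∀ N : Subgroup G, N.Normal → Odd (Nat.card N) → N = ⊥ := fun N hN hodd =>
    hN.eq_bot_or_eq_top.resolve_right fun e => hS1 (by
      subst e
      rw [Subgroup.card_top] at hodd
      refine Subgroup.card_eq_one.1 ?_
      obtain ⟨k, hk⟩ := IsPGroup.iff_card.1 S.isPGroup'
      rcases Nat.eq_zero_or_pos k with rfl | hk0
      · rw [hk, pow_zero]
      · exact absurd (even_iff_two_dvd.2 ((dvd_pow_self 2 hk0.ne').trans
          (hk ▸ Subgroup.card_subgroup_dvd_card (S : Subgroup G)))) (Nat.not_even_iff_odd.2 hodd))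
  have hQ := frat_exponent_two (P := (S : Subgroup G)) S.isPGroup'
  have himg : ∀ s : Set (S : Subgroup G), Subgroup.closure s = ⊤ →
      Subgroup.closure (QuotientGroup.mk' (frattini (S : Subgroup G)) '' s) = ⊤ := fun s hs => by
    rw [← MonoidHom.map_closure, hs, Subgroup.map_top_of_surjective _ (QuotientGroup.mk'_surjective _)]
  refine OutStab.out_solvable S ?_
  rcases h with ⟨a, b, hab⟩ | ⟨⟨a, b, c, habc⟩, g, hg, hgo, hgC⟩ | ⟨hc, hconj⟩
  · have h2 := himg _ hab
    rw [Set.image_insert_eq, Set.image_singleton] at h2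
    exact case_two hO S (card_two_generated hQ _ _ h2)
  · have h3 := himg _ habc
    rw [Set.image_insert_eq, Set.image_insert_eq, Set.image_singleton] at h3
    exact case_three hO S (card_three_generated hQ _ _ _ h3) hg hgo hgC
  · exact case_involutions hO S hc hconj

end Cfsg.Agent.S3066
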