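import Cfsg.Statements.S3067
import Cfsg.Agent.Lib.Lead.CopCentTau.Main

set_option autoImplicit false
open Cfsg

namespace Cfsg.Agent.S3067

open Cfsg.Agent.Lead.CopCentTau in
/-- Let G be a finite non-abelian simple group, τ an involution of G, and α a nontrivial automorphism of G whose order is coprime to the order of G. Then α moves some element of the centralizer of τ: α does not fix C_G(τ) elementwise. -/
theorem result {G : Type*} [Group G] [Finite G] [IsSimpleGroup G]
    (hG : ¬ IsMulCommutative G) (τ : G) (hτ : orderOf τ = 2) (α : MulAut G) (hα : α ≠ 1)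
    (hcop : (orderOf α).Coprime (Nat.card G)) :
    ∃ c ∈ Subgroup.centralizer ({τ} : Set G), α c ≠ c := by
  classical
  haveI : Fact (Nat.Prime 2) := ⟨Nat.prime_two⟩
  by_contra hcon
  push Not at hcon
  have hC : ∀ g : G, Commute g τ → α g = g := fun g hg =>
    hcon g (Subgroup.mem_centralizer_singleton_iff.mpr hg)
  have hCtop : fix α ≠ ⊤ := fun h => hα (MulEquiv.ext fun g => by
    show α g = g
    exact mem_fix.mp (h ▸ Subgroup.mem_top g))
  set C := fix α with hCdef
  set n := C.index with hn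
  haveI : Fintype (cls τ) := Fintype.ofFinite _
  set I0 := {y : cls τ // (y : G) ∈ C}
  set m := Nat.card I0 with hm
  have hτI : τ ∈ cls τ := ⟨1, by group⟩
  have hτC : τ ∈ C := hC τ (Commute.refl τ)
  have hm1 : 1 < m := by
    by_contra hle
    haveI : Subsingleton I0 := Finite.card_le_one_iff_subsingleton.mp (Nat.not_lt.mp hle)
    obtain ⟨S, hS, hτS, hSi⟩ := exists_inv_sylow hcop ⊤ (Subgroup.zpowers τ) le_top
      (IsPGroup.of_card (n := 1) (by rw [Nat.card_zpowers, hτ, pow_one]))
      (fun x hx => by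
        obtain ⟨k, rfl⟩ := hx
        simp only [map_zpow, hC τ (Commute.refl τ)]
        exact zpow_mem (Subgroup.mem_zpowers τ) k)
      (fun _ _ => Subgroup.mem_top _)
    have hSfix : S ≤ C := two_le_fix hcop hτ hC S hS.isPGroup hSi
    set P : Sylow 2 G := Sylow.ofCard S (by rw [hS.2, Subgroup.card_top]) with hP
    have hPS : (P : Subgroup G) = S := Sylow.coe_ofCard _ _
    have hiso : ∀ g : G, g * τ * g⁻¹ ∈ P → g * τ * g⁻¹ = τ := fun g hg => by
      have hgC : g * τ * g⁻¹ ∈ C := hSfix (SetLike.le_def.mp hPS.le hg)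
      exact congrArg (fun y : I0 => (y.1 : G))
        (Subsingleton.elim (⟨⟨_, g, rfl⟩, hgC⟩ : I0) ⟨⟨τ, hτI⟩, hτC⟩)
    have hOI := Cfsg.Agent.Char.oddInvol_of_isolated_sylow hτ
      (P := P) (SetLike.le_def.mp hPS.ge (hτS (Subgroup.mem_zpowers τ))) hiso
    have hev : 2 ∣ Nat.card G := hτ ▸ orderOf_dvd_natCard τ
    haveI : (Cfsg.oddCore G).Normal := inferInstance
    have hO : Cfsg.oddCore G = ⊥ := by
      refine (Subgroup.Normal.eq_bot_or_eq_top (inferInstance : (Cfsg.oddCore G).Normal)).resolve_right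
        fun h => ?_
      have := Cfsg.Agent.Fusion.card_pPrimeCore_coprime 2 G
      rw [show Cfsg.pPrimeCore 2 G = ⊤ from h, Subgroup.card_top] at this
      have hev : (Nat.card G).Coprime 2 := this
      exact absurd (Nat.Coprime.eq_one_of_dvd hev.symm ‹2 ∣ Nat.card G›) (by norm_num)
    have hc := Cfsg.Agent.Char.zStar_central hOI hO
    have hcen : τ ∈ Subgroup.center G := Subgroup.mem_center_iff.mpr fun g => (hc g).symm
    rcases Subgroup.Normal.eq_bot_or_eq_top (inferInstance : (Subgroup.center G).Normal) with h | h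
    · rw [h, Subgroup.mem_bot] at hcen
      rw [hcen, orderOf_one] at hτ
      norm_num at hτ
    · exact hG ⟨⟨fun a b => (Subgroup.mem_center_iff.mp (h ▸ Subgroup.mem_top b) a)⟩⟩
  -- the double count
  set Pr := {p : cls τ × cls τ // (p.1 : G) * p.2 ∈ C}
  have hlow : n * m ^ 2 ≤ Nat.card Pr := by
    haveI : Fintype (G ⧸ C) := Fintype.ofFinite _
    set f : cls τ → G ⧸ C := fun y => QuotientGroup.mk (y : G)
    have h1 : Nat.card Pr = ∑ q : G ⧸ C, (Nat.card {y : cls τ // f y = q}) ^ 2 := by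
      have e : Pr ≃ Σ q : G ⧸ C, {y : cls τ // f y = q} × {y : cls τ // f y = q} :=
        { toFun := fun p => ⟨f p.1.1, ⟨p.1.1, rfl⟩, ⟨p.1.2, by
            refine QuotientGroup.eq.mpr ?_
            have h := C.inv_mem p.2
            rw [mul_inv_rev, inv_eq_of_mul_eq_one_right (cls_mul_self hτ p.1.1.2)] at h
            exact h⟩⟩
          invFun := fun s => ⟨(s.2.1.1, s.2.2.1), by
            have h := QuotientGroup.eq.mp (s.2.1.2.trans s.2.2.2.symm)
            rwa [inv_eq_of_mul_eq_one_right (cls_mul_self hτ s.2.1.1.2)] at h⟩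
          left_inv := fun p => rfl
          right_inv := by rintro ⟨q, ⟨a, rfl⟩, ⟨b, hb⟩⟩; rfl }
      rw [Nat.card_congr e, Nat.card_sigma]
      exact Finset.sum_congr rfl fun q _ => by rw [Nat.card_prod, pow_two]
    have h2 : ∑ q : G ⧸ C, Nat.card {y : cls τ // f y = q} = n * m := by
      rw [← Nat.card_sigma, Nat.card_congr (Equiv.sigmaFiberEquiv f), card_cls hcop hτ hC]
    have h3 := sq_sum_le_card_mul_sum_sq (s := (Finset.univ : Finset (G ⧸ C)))
      (f := fun q => Nat.card {y : cls τ // f y = q})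
    rw [h2, Finset.card_univ, ← Nat.card_eq_fintype_card, ← h1] at h3
    have hnpos : 0 < n := Nat.pos_of_ne_zero Subgroup.index_ne_zero_of_finite
    refine Nat.le_of_mul_le_mul_left ?_ hnpos
    calc n * (n * m ^ 2) = (n * m) ^ 2 := by ring
      _ ≤ n * Nat.card Pr := h3
  haveI : Fintype C := Fintype.ofFinite _
  have hup : Nat.card Pr = ∑ j : C, Nat.card (wSet τ (j : G)) := by
    rw [← Nat.card_sigma]
    refine Nat.card_congr (α := Pr) (β := (j : C) × wSet τ (j : G))
      { toFun := fun p => ⟨⟨(p.1.1 : G) * p.1.2, p.2⟩, ⟨(p.1.1 : G), p.1.1.2, by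
          show (p.1.1 : G) * ((p.1.1 : G) * p.1.2) ∈ cls τ
          rw [← mul_assoc, cls_mul_self hτ p.1.1.2, one_mul]
          exact p.1.2.2⟩⟩
        invFun := fun s => ⟨(⟨(s.2 : G), s.2.2.1⟩, ⟨(s.2 : G) * (s.1 : G), s.2.2.2⟩), by
          show s.2.1 * (s.2.1 * (s.1 : G)) ∈ C
          rw [← mul_assoc, cls_mul_self hτ s.2.2.1, one_mul]
          exact s.1.2⟩
        left_inv := ?_
        right_inv := ?_ }
    · rintro ⟨⟨a, b⟩, h⟩
      apply Subtype.ext
      refine Prod.ext rfl (Subtype.ext ?_)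
      show (a : G) * ((a : G) * b) = b
      rw [← mul_assoc, cls_mul_self hτ a.2, one_mul]
    · rintro ⟨⟨j, hj⟩, ⟨y, hy⟩⟩
      refine Sigma.subtype_ext (Subtype.ext ?_) rfl
      show y * (y * j) = j
      rw [← mul_assoc, cls_mul_self hτ hy.1, one_mul]
  have hin : ∑ j : C, Nat.card {y : wSet τ (j : G) // (y : G) ∈ C} = m * m := by
    rw [← Nat.card_sigma, hm, ← Nat.card_prod]
    refine Nat.card_eq_of_bijective
      (fun s : (j : C) × {y : wSet τ (j : G) // (y : G) ∈ C} =>
        ((⟨⟨(s.2.1 : G), s.2.1.2.1⟩, s.2.2⟩,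
          ⟨⟨(s.2.1 : G) * (s.1 : G), s.2.1.2.2⟩, C.mul_mem s.2.2 s.1.2⟩) : I0 × I0)) ⟨?_, ?_⟩
    · rintro ⟨⟨j, hj⟩, ⟨⟨y, hy⟩, hyC⟩⟩ ⟨⟨k, hk⟩, ⟨⟨z, hz⟩, hzC⟩⟩ h
      have h1 : y = z := congrArg (fun p : I0 × I0 => (p.1.1 : G)) h
      have h2 : y * j = z * k := congrArg (fun p : I0 × I0 => (p.2.1 : G)) h
      subst h1
      obtain rfl := mul_left_cancel h2
      rfl
    · rintro ⟨⟨⟨a, ha⟩, haC⟩, ⟨⟨b, hb⟩, hbC⟩⟩
      have he : a * (a * b) = b := by rw [← mul_assoc, cls_mul_self hτ ha, one_mul]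
      refine ⟨⟨⟨a * b, C.mul_mem haC hbC⟩, ⟨⟨a, ha, he.symm ▸ hb⟩, haC⟩⟩, ?_⟩
      exact Prod.ext rfl (Subtype.ext (Subtype.ext he))
  have hone : Nat.card (wSet τ ((1 : C) : G)) = n * m := by
    rw [← card_cls hcop hτ hC]
    exact Nat.card_congr (Equiv.setCongr (Set.ext fun y => by simp [wSet]))
  have hone' : Nat.card {y : wSet τ ((1 : C) : G) // (y : G) ∈ C} = m :=
    Nat.card_congr
      { toFun := fun y => ⟨⟨_, y.1.2.1⟩, y.2⟩
        invFun := fun y => ⟨⟨(y.1 : G), y.1.2, by simpa using y.1.2⟩, y.2⟩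
        left_inv := fun _ => rfl
        right_inv := fun _ => rfl }
  have hrest : ∀ j : C, j ≠ 1 → Nat.card (wSet τ (j : G)) ≤
      (n - 1) * Nat.card {y : wSet τ (j : G) // (y : G) ∈ C} := by
    intro j hj
    refine (wSet_bound hcop hτ hC j.2).trans (Nat.mul_le_mul_right _ ?_)
    set U := Subgroup.centralizer ({(j : G)} : Set G) with hU
    set f : U ⧸ C.subgroupOf U → G ⧸ C := Quotient.map' (fun u : U => (u : G)) (fun a b h => by
        rw [QuotientGroup.leftRel_apply] at h ⊢
        exact h) with hf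
    have hinj : Function.Injective f := by
      intro a b h
      induction a using QuotientGroup.induction_on with
      | H a =>
        induction b using QuotientGroup.induction_on with
        | H b =>
          have h' : ((a : G) : G ⧸ C) = ((b : G) : G ⧸ C) := h
          have h'' : (a : G)⁻¹ * (b : G) ∈ C := QuotientGroup.eq.mp h'
          exact QuotientGroup.eq.mpr (Subgroup.mem_subgroupOf.mpr h'')
    have hle : C.relIndex U ≤ n := Nat.card_le_card_of_injective f hinj
    rcases lt_or_eq_of_le hle with h | h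
    · show C.relIndex U ≤ n - 1
      omega
    · exfalso
      have hbij : Function.Bijective f := hinj.bijective_of_nat_card_le h.ge
      have hall : ∀ g : G, g * (j : G) * g⁻¹ ∈ C := fun g => by
        obtain ⟨q, hq⟩ := hbij.2 (QuotientGroup.mk g⁻¹)
        induction q using QuotientGroup.induction_on with
        | H u =>
          have hgu : (u : G)⁻¹ * g⁻¹ ∈ C := QuotientGroup.eq.mp hq
          have hju : (u : G) * j = j * u := Subgroup.mem_centralizer_singleton_iff.mp u.2
          have := mul_mem (mul_mem (inv_mem hgu) j.2) hgu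
          rwa [show ((u : G)⁻¹ * g⁻¹)⁻¹ * j * ((u : G)⁻¹ * g⁻¹) = g * ((u : G) * j) * (u : G)⁻¹ * g⁻¹ by
            group, hju, show g * ((j : G) * u) * (u : G)⁻¹ * g⁻¹ = g * j * g⁻¹ by group] at this
      have hnc : Subgroup.normalClosure {(j : G)} ≤ C := by
        refine (Subgroup.closure_le _).mpr ?_
        intro x hx
        obtain ⟨a, ha, hax⟩ := Group.mem_conjugatesOfSet_iff.mp hx
        obtain ⟨g, rfl⟩ := isConj_iff.mp hax
        rw [Set.mem_singleton_iff.mp ha]
        exact hall g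
      rcases Subgroup.Normal.eq_bot_or_eq_top
          (inferInstance : (Subgroup.normalClosure {(j : G)}).Normal) with h | h
      · exact hj (Subtype.ext (Subgroup.mem_bot.mp
          (h ▸ Subgroup.subset_normalClosure (Set.mem_singleton (j : G)))))
      · exact hCtop (top_le_iff.mp (h ▸ hnc))
  have hsum := Finset.add_sum_erase Finset.univ (fun j : C => Nat.card (wSet τ (j : G)))
    (Finset.mem_univ 1)
  have hsum' := Finset.add_sum_erase Finset.univ
    (fun j : C => Nat.card {y : wSet τ (j : G) // (y : G) ∈ C}) (Finset.mem_univ 1)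
  have hb := Finset.sum_le_sum (s := Finset.univ.erase (1 : C)) fun j hj =>
    hrest j (Finset.ne_of_mem_erase hj)
  rw [← Finset.mul_sum] at hb
  rw [hone, ← hup] at hsum
  rw [hone', hin] at hsum'
  obtain ⟨k, hk⟩ : ∃ k, n = k + 1 := ⟨n - 1, by
    have := Subgroup.index_ne_zero_of_finite (H := C); omega⟩
  rw [hk] at hlow hsum hb
  simp only [Nat.add_sub_cancel] at hb
  nlinarith [hlow, hsum, hsum', hb, hm1]

end Cfsg.Agent.S3067
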