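import Cfsg.Statements.S3070
import Cfsg.Agent.Lib.Solv.JNPC.Main

set_option autoImplicit false
set_option linter.style.haveILetI false
open Cfsg

namespace Cfsg.Agent.S3070

/-- Let p ≥ 5 be a prime, S a Sylow p-subgroup of the finite group G and J(S) the subgroup generated by the abelian subgroups of S of largest order. Then G has a normal p-complement if and only if N_G(J(S))/C_G(J(S)) is a p-group (every element of N_G(J(S)) of order prime to p centralizes J(S)). -/
theorem result {G : Type*} [Group G] [Finite G] {p : ℕ} [Fact p.Prime]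
    (hp : 5 ≤ p) (S : Sylow p G) :
    Cfsg.HasNormalPComplement p G ↔
      ∀ g ∈ Subgroup.normalizer (Cfsg.thompsonSubgroupAOf (S : Subgroup G) : Set G), (orderOf g).Coprime p →
        g ∈ Subgroup.centralizer (Cfsg.thompsonSubgroupAOf (S : Subgroup G) : Set G) := by
  have e : Cfsg.thompsonSubgroupAOf (S : Subgroup G) =
      Cfsg.inducedFunctor Cfsg.Agent.Local.FS.wJA (S : Subgroup G) := rfl
  set J := Cfsg.thompsonSubgroupAOf (S : Subgroup G) with hJdef
  have hJS : J ≤ S := Subgroup.map_subtype_le _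
  have hJp : IsPGroup p J := S.isPGroup'.to_le hJS
  constructor
  · exact fun h g hg hgp => Fusion.hnpc_centralize h hJp hg hgp
  intro hcen
  refine Solv.JNPC.hnpc_of_thompsonA hp S ?_
  rw [← e]
  set N := Subgroup.normalizer (J : Set G) with hN
  have hSN : (S : Subgroup G) ≤ N := by
    have := Fusion.sylow_le_normalizer_functor
      (Fusion.isConjugacyFunctor_induced (G := G) (Local.FS.isCharPFunctor_wJA (p := p))) S.isPGroup'
    rwa [← e] at this
  have hSJ : ∀ x ∈ (S : Subgroup G), x ∈ Subgroup.centralizer (J : Set G) → x ∈ J := by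
    intro x hxS hx
    have e2 : J = sSup (Fusion.maxIn (fun A : Subgroup G => IsMulCommutative A) (S : Subgroup G)) := by
      rw [hJdef, Cfsg.thompsonSubgroupAOf, Cfsg.thompsonSubgroupA, Fusion.map_sSup_subtype,
        Fusion.image_maxAbelian]
    obtain ⟨A, hA⟩ := Fusion.replFamily_comm.maxIn_nonempty (S : Subgroup G)
    have hAJ : A ≤ J := e2 ▸ le_sSup hA
    have hc : IsMulCommutative A := hA.2.1
    haveI hB : IsMulCommutative (Subgroup.closure (insert x (A : Set G))) :=
      Subgroup.isMulCommutative_closure (by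
        rintro a (rfl | ha) b (rfl | hb)
        · rfl
        · exact (Subgroup.mem_centralizer_iff.1 hx b (hAJ hb)).symm
        · exact Subgroup.mem_centralizer_iff.1 hx a (hAJ ha)
        · exact congrArg Subtype.val (hc.is_comm.comm (⟨a, ha⟩ : A) ⟨b, hb⟩))
    have hle : A ≤ Subgroup.closure (insert x (A : Set G)) :=
      fun a ha => Subgroup.subset_closure (Set.mem_insert_of_mem _ ha)
    have hcard := hA.2.2 _ ((Subgroup.closure_le _).2 (by
      rintro a (rfl | ha)
      · exact hxS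
      · exact hA.1 ha)) hB
    rw [Subgroup.eq_of_le_of_card_ge hle hcard] at hAJ
    exact hAJ (Subgroup.subset_closure (Set.mem_insert _ _))
  obtain ⟨P, hP⟩ := ((Fusion.sylIn_top S).mono hSN le_top).exists_sylow_subgroupOf
  refine Fusion.hnpc_of_centralize (Fusion.sylIn_top P) fun Q hQ g hg hgp => ?_
  rw [Subgroup.mem_centralizer_iff]
  intro q hq
  have hgC := hcen (g : G) g.2 (by rwa [Subgroup.orderOf_coe])
  set c : N := g * q * g⁻¹ * q⁻¹ with hc
  have hcQ : c ∈ Q := Q.mul_mem ((Subgroup.mem_normalizer_iff.1 hg q).1 hq) (Q.inv_mem hq)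
  have hcS : (c : G) ∈ (S : Subgroup G) := by
    have := hQ hcQ
    rw [hP] at this
    exact this
  have hcC : (c : G) ∈ Subgroup.centralizer (J : Set G) := by
    have h1 : (q : G) * (g : G)⁻¹ * (q : G)⁻¹ ∈ Subgroup.centralizer (J : Set G) := by
      rw [Subgroup.mem_centralizer_iff]
      intro x hx
      have h2 : (q : G)⁻¹ * x * q ∈ J := by
        simpa using (Subgroup.mem_normalizer_iff.1 (inv_mem q.2 : (q : G)⁻¹ ∈ N) x).1 hx
      have h3 := Subgroup.mem_centralizer_iff.1 (inv_mem hgC) _ h2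
      calc x * ((q : G) * (g : G)⁻¹ * (q : G)⁻¹)
          = q * ((q : G)⁻¹ * x * q * (g : G)⁻¹) * (q : G)⁻¹ := by group
        _ = q * ((g : G)⁻¹ * ((q : G)⁻¹ * x * q)) * (q : G)⁻¹ := by rw [h3]
        _ = _ := by group
    have h4 := Subgroup.mul_mem _ hgC h1
    show (g : G) * q * (g : G)⁻¹ * (q : G)⁻¹ ∈ _
    rwa [show (g : G) * ((q : G) * (g : G)⁻¹ * (q : G)⁻¹) =
      (g : G) * q * (g : G)⁻¹ * (q : G)⁻¹ by group] at h4
  have hgc : Commute (g : G) (c : G) :=
    (Subgroup.mem_centralizer_iff.1 hgC (c : G) (hSJ _ hcS hcC)).symm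
  have hpow : ∀ n : ℕ, (g : G) ^ n * q * ((g : G) ^ n)⁻¹ = (c : G) ^ n * q := by
    intro n
    induction n with
    | zero => simp
    | succ n ih =>
      calc (g : G) ^ (n + 1) * q * ((g : G) ^ (n + 1))⁻¹
          = g * ((g : G) ^ n * q * ((g : G) ^ n)⁻¹) * (g : G)⁻¹ := by rw [pow_succ']; group
        _ = ((g : G) * (c : G) ^ n) * q * (g : G)⁻¹ := by rw [ih]; group
        _ = (c : G) ^ n * ((g : G) * q * (g : G)⁻¹) := by rw [(hgc.pow_right n).eq]; group
        _ = (c : G) ^ (n + 1) * q := by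
          rw [pow_succ, show (c : G) = (g : G) * q * (g : G)⁻¹ * (q : G)⁻¹ from rfl]; group
  have h1 := hpow (orderOf g)
  rw [← Subgroup.orderOf_coe, pow_orderOf_eq_one, inv_one, mul_one, one_mul,
    Subgroup.orderOf_coe] at h1
  have h2 : (c : G) ^ orderOf g = 1 := (right_eq_mul.1 h1)
  obtain ⟨j, hj⟩ := IsPGroup.iff_orderOf.1 S.isPGroup' ⟨(c : G), hcS⟩
  rw [Subgroup.orderOf_mk] at hj
  have h3 : (c : G) = 1 := orderOf_eq_one_iff.1 (Nat.eq_one_of_dvd_coprimes (hgp.pow_right j)
    (orderOf_dvd_of_pow_eq_one h2) (hj ▸ dvd_rfl))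
  have h4 : g * q * g⁻¹ * q⁻¹ = 1 := Subtype.ext h3
  exact (mul_inv_eq_iff_eq_mul.1 (mul_inv_eq_one.1 h4)).symm

end Cfsg.Agent.S3070
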