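import Cfsg.Statements.S3071
import Cfsg.Agent.Lib.Local.FS.LocalControl

set_option autoImplicit false
open Cfsg

namespace Cfsg.Agent.S3071

theorem result {G : Type*} [Group G] [Finite G] {p : ℕ} [Fact p.Prime]
    (hp : p ≠ 2) (S : Sylow p G)
    (hfree : ∀ P : Subgroup G, (S : Subgroup G) ⊓ Subgroup.centralizer ((S : Subgroup G) : Set G) ≤ P → P ≤ S →
      ¬ ∃ (H K : Subgroup G) (hK : (K.subgroupOf H).Normal), H ≤ Subgroup.normalizer (P : Set G) ∧
        Nonempty ((H ⧸ K.subgroupOf H) ≃* Matrix.SpecialLinearGroup (Fin 2) (ZMod p))) :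
    ∀ x ∈ S, ∀ y ∈ S, (∃ g : G, g * x * g⁻¹ = y) ↔
      ∃ n ∈ Subgroup.normalizer (Cfsg.centerThompsonAOf (S : Subgroup G) : Set G), n * x * n⁻¹ = y := by
  open Cfsg.Agent.Local.FS Cfsg.Agent.Fusion in
  intro x hx y hy
  refine ⟨fun ⟨g, hg⟩ => ?_, fun ⟨n, _, hn⟩ => ⟨n, hn⟩⟩
  by_cases hS1 : (S : Subgroup G) = ⊥
  · replace hx : x = 1 := Subgroup.mem_bot.1 (hS1.le hx)
    replace hy : y = 1 := Subgroup.mem_bot.1 (hS1.le hy)
    subst hx hy
    exact ⟨1, one_mem _, by simp⟩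
  have h := controls_of_isNormal (isNormal_zja_of_local_sl2 hp (sylIn_top S) hS1 fun U hU hUS => ?_)
    {x} (Set.singleton_subset_iff.2 hx)
  · obtain ⟨n, hn, hna⟩ := h.2 g (by rintro _ ⟨a, ha, rfl⟩; rw [Set.mem_singleton_iff] at ha; subst ha; show g * a * g⁻¹ ∈ (S : Subgroup G); rw [hg]; exact hy)
    exact ⟨n, hn, (hna x rfl).symm.trans hg⟩
  · intro hinv
    set N := Subgroup.normalizer (U : Set G)
    obtain ⟨K, R, hR, ⟨e⟩⟩ := hinv
    haveI := hR
    have hi := N.subtype_injective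
    let φ : K ≃* K.map N.subtype := Subgroup.equivMapOfInjective K N.subtype hi
    have hRmap : (R.subgroupOf K).map φ.toMonoidHom = (R.map N.subtype).subgroupOf (K.map N.subtype) := by
      ext z
      constructor
      · rintro ⟨k, hk, rfl⟩
        exact ⟨_, hk, rfl⟩
      · rintro ⟨r, hr, he⟩
        refine ⟨φ.symm z, ?_, φ.apply_symm_apply z⟩
        show ((φ.symm z : K) : N) ∈ R
        have : ((φ.symm z : K) : N) = r := hi (by
          rw [he]; exact congrArg Subtype.val (φ.apply_symm_apply z))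
        rwa [this]
    haveI hn : ((R.map N.subtype).subgroupOf (K.map N.subtype)).Normal :=
      hRmap ▸ hR.map φ.toMonoidHom φ.surjective
    exact hfree U hU hUS ⟨K.map N.subtype, R.map N.subtype, hn, Subgroup.map_subtype_le K,
      ⟨(QuotientGroup.congr _ _ φ hRmap).symm.trans e⟩⟩

end Cfsg.Agent.S3071
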