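import Cfsg.Statements.S3073
import Cfsg.Agent.Lib.Fusion.ZJControl
import Cfsg.Agent.Lib.Fusion.StableFusion
import Cfsg.Agent.Lib.Fusion.KInfMap
import Cfsg.Agent.Lib.Fusion.AB

set_option autoImplicit false
universe u
open Cfsg
open Cfsg.Agent.Fusion

namespace Cfsg.Agent.S3073


/-- If the elements of order prime to `p` of `N(K)` centralize a self-centralizing `K` of a Sylow
subgroup, then `N(K)` has a normal `p`-complement. -/
theorem hnpc_normalizer_of_centralize {G : Type u} [Group G] [Finite G] {p : ℕ} [Fact p.Prime]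
    (P : Sylow p G) {K : Subgroup G} (hKP : K ≤ (P : Subgroup G))
    (hn : (P : Subgroup G) ≤ Subgroup.normalizer (K : Set G))
    (hc : ∀ q ∈ (P : Subgroup G), (∀ t ∈ K, q * t = t * q) → q ∈ K)
    (h : ∀ g ∈ Subgroup.normalizer (K : Set G), (orderOf g).Coprime p →
      g ∈ Subgroup.centralizer (K : Set G)) :
    HasNormalPComplement p (Subgroup.normalizer (K : Set G)) := by
  set N := Subgroup.normalizer (K : Set G)
  obtain ⟨T, hT⟩ := ((sylIn_top P).mono hn le_top).exists_sylow_subgroupOf
  refine hnpc_of_centralize (sylIn_top T) fun Q hQ g hg hgp => ?_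
  have hQP : Q.map N.subtype ≤ (P : Subgroup G) := by
    rintro _ ⟨q, hq, rfl⟩
    have h1 := hQ hq
    rw [hT] at h1
    exact h1
  have hgK : ∀ t ∈ K, (g : G) * t = t * g := fun t ht =>
    (Subgroup.mem_centralizer_iff.1 (h g g.2 (by rwa [Subgroup.orderOf_coe])) t ht).symm
  set Q' := Q.map N.subtype ⊔ K
  have hQ'P : Q' ≤ (P : Subgroup G) := sup_le hQP hKP
  have hgQ : (g : G) ∈ Subgroup.normalizer (Q.map N.subtype : Set G) :=
    Subgroup.le_normalizer_map N.subtype (Subgroup.mem_map_of_mem _ hg)
  have hgQ' : (g : G) ∈ Subgroup.normalizer (Q' : Set G) := by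
    apply mem_normalizer_of_cj_le
    rw [cj_sup, cj_eq_self hgQ, cj_eq_self g.2]
  have := mem_centralizer_of_AB (Q := Q') (T := K) (P.isPGroup'.to_le hQ'P)
    (P.isPGroup'.to_le hKP) (le_sup_right.trans Subgroup.le_normalizer) hgQ' hgK
    (by rwa [Subgroup.orderOf_coe]) (fun q hq hqt => hgK q (hc q (hQ'P hq) hqt))
  rw [Subgroup.mem_centralizer_iff] at this ⊢
  exact fun q hq => Subtype.ext (this q (Subgroup.mem_sup_left ⟨q, hq, rfl⟩))

/-- For an odd prime p, every finite p-group S has a characteristic subgroup K with C_S(K) ≤ K such that, whenever S is (isomorphic to) a Sylow p-subgroup of a finite group G, G has a normal p-complement if and only if N_G(K)/C_G(K) is a p-group, i.e. every element of N_G(K) of order prime to p centralizes K (K transported into G along the isomorphism). -/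
theorem result (p : ℕ) [Fact p.Prime] (hp : p ≠ 2)
    (S : Type u) [Group S] [Finite S] (hS : IsPGroup p S) :
    ∃ K : Subgroup S, K.Characteristic ∧ Subgroup.centralizer (K : Set S) ≤ K ∧
      ∀ (G : Type u) [Group G] [Finite G] (P : Sylow p G) (e : ↥(P : Subgroup G) ≃* S),
        Cfsg.HasNormalPComplement p G ↔
          ∀ g ∈ Subgroup.normalizer (((K.comap (e : ↥(P : Subgroup G) →* S)).map (P : Subgroup G).subtype : Subgroup G) : Set G),
            (orderOf g).Coprime p →
              g ∈ Subgroup.centralizer (((K.comap (e : ↥(P : Subgroup G) →* S)).map (P : Subgroup G).subtype : Subgroup G) : Set G) := by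
  have hW := isCharPFunctor_kInfUpper.{u} p
  haveI : Group.IsNilpotent S := hS.isNilpotent
  refine ⟨kInfUpper S, Subgroup.characteristic_iff_map_eq.2 fun φ => hW.2 S S hS φ,
    centralizer_kInfUpper_le, fun G _ _ P e => ?_⟩
  have hK : ((kInfUpper S).comap (e : ↥(P : Subgroup G) →* S)).map (P : Subgroup G).subtype =
      inducedFunctor kInfUpper (P : Subgroup G) := by
    rw [← hW.2 _ _ P.isPGroup' e]
    exact congrArg _ (Subgroup.comap_map_eq_self_of_injective e.injective _)
  rw [hK]
  have hWf := isConjugacyFunctor_induced (G := G) hW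
  set K := inducedFunctor (kInfUpper.{u}) (P : Subgroup G) with hKdef
  have hKP : K ≤ (P : Subgroup G) := inducedFunctor_le _ _
  haveI : Group.IsNilpotent ↥(P : Subgroup G) := P.isPGroup'.isNilpotent
  constructor
  · exact fun h g hg hgp => hnpc_centralize h (P.isPGroup'.to_le hKP) hg hgp
  intro h
  refine hnpc_of_functor_sections hW (G := G) (fun X _ _ _ hc hq T hT =>
    (kInf_normal_of_stable (sylIn_top T) hc fun N _ =>
      ((isAbelianLayered_of_coatom hq (sylIn_top T) hT).surjective (QuotientGroup.mk' N)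
        (QuotientGroup.mk'_surjective N)).stable hp).2) G involves_refl P ?_
  refine hnpc_normalizer_of_centralize P hKP (sylow_le_normalizer_functor hWf P.isPGroup')
    (fun q hq hqt => ?_) h
  refine ⟨⟨q, hq⟩, centralizer_kInfUpper_le ?_, rfl⟩
  exact fun t ht => Subtype.ext (hqt t ⟨t, ht, rfl⟩).symm

end Cfsg.Agent.S3073
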