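import Cfsg.Statements.S3074
import Cfsg.Agent.Lib.Fusion.QdNoControl
import Cfsg.Agent.Lib.Solv.Extraspecial
-- import your own Cfsg.Agent.* helpers here

set_option autoImplicit false
open Cfsg

namespace Cfsg.Agent.S3074

open Cfsg.Agent.Fusion

open scoped commutatorElement

theorem heisenberg {E : Type} [Group E] [Finite E] {p : ℕ} [Fact p.Prime] (hp : p ≠ 2)
    (m : ZMod p → ZMod p → ZMod p → E) (hsurj : ∀ x, ∃ a b c, m a b c = x)
    (hinj : ∀ a b c a' b' c', m a b c = m a' b' c' → a = a' ∧ b = b' ∧ c = c')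
    (hmul : ∀ a b c a' b' c', m a b c * m a' b' c' = m (a + a') (b + b') (c + c' + a * b')) :
    Cfsg.IsExtraspecial p E ∧ Nat.card E = p ^ 3 ∧ Monoid.exponent E = p := by
  have h1 : m 0 0 0 = 1 := by
    have := hmul 0 0 0 0 0 0
    simpa using this
  have hinv : ∀ a b c, (m a b c)⁻¹ = m (-a) (-b) (-c + a * b) := fun a b c =>
    inv_eq_of_mul_eq_one_right (by rw [hmul, ← h1]; congr 1 <;> ring)
  have hcard : Nat.card E = p ^ 3 := by
    rw [← Nat.card_congr (Equiv.ofBijective (fun q : ZMod p × ZMod p × ZMod p => m q.1 q.2.1 q.2.2)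
      ⟨fun q r h => by
        obtain ⟨e1, e2, e3⟩ := hinj _ _ _ _ _ _ h
        exact Prod.ext e1 (Prod.ext e2 e3),
      fun x => by obtain ⟨a, b, c, h⟩ := hsurj x; exact ⟨(a, b, c), h⟩⟩),
      Nat.card_prod, Nat.card_prod, Nat.card_zmod]
    ring
  have hpow : ∀ (n : ℕ) a b c, m a b c ^ n = m (n * a) (n * b) (n * c + (n.choose 2 : ℕ) * (a * b)) := by
    intro n a b c
    induction n with
    | zero => simp [h1]
    | succ n ih =>
      rw [pow_succ, ih, hmul, Nat.choose_succ_succ, Nat.choose_one_right]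
      push_cast
      congr 1 <;> ring
  have hexp : ∀ x : E, x ^ p = 1 := by
    intro x
    obtain ⟨a, b, c, rfl⟩ := hsurj x
    have hd : p ∣ p.choose 2 := Nat.Prime.dvd_choose_self Fact.out two_ne_zero (lt_of_le_of_ne (Fact.out (p := p.Prime)).two_le (Ne.symm hp))
    rw [hpow, ← h1, ZMod.natCast_self, (ZMod.natCast_eq_zero_iff _ _).2 hd]
    congr 1 <;> ring
  have hcen : ∀ x, x ∈ Subgroup.center E ↔ ∃ c, m 0 0 c = x := by
    intro x
    constructor
    · intro hx
      obtain ⟨a, b, c, rfl⟩ := hsurj x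
      have ha := Subgroup.mem_center_iff.1 hx (m 0 1 0)
      have hb := Subgroup.mem_center_iff.1 hx (m 1 0 0)
      rw [hmul, hmul] at ha hb
      have ea := (hinj _ _ _ _ _ _ ha).2.2
      have eb := (hinj _ _ _ _ _ _ hb).2.2
      simp at ea eb
      exact ⟨c, by rw [ea, eb]⟩
    · rintro ⟨c, rfl⟩
      rw [Subgroup.mem_center_iff]
      intro g
      obtain ⟨a, b, c', rfl⟩ := hsurj g
      rw [hmul, hmul]
      congr 1 <;> ring
  have hcard' : Nat.card (Subgroup.center E) = p := by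
    rw [← Nat.card_congr (Equiv.ofBijective (fun c : ZMod p => (⟨m 0 0 c, (hcen _).2 ⟨c, rfl⟩⟩ : Subgroup.center E))
      ⟨fun c d h => (hinj _ _ _ _ _ _ (congrArg Subtype.val h)).2.2,
      fun ⟨x, hx⟩ => by obtain ⟨c, rfl⟩ := (hcen x).1 hx; exact ⟨c, rfl⟩⟩), Nat.card_zmod]
  have hder : commutator E = Subgroup.center E := by
    refine le_antisymm ?_ fun x hx => ?_
    · rw [commutator_def, Subgroup.commutator_le]
      intro x _ y _
      obtain ⟨a, b, c, rfl⟩ := hsurj x
      obtain ⟨a', b', c', rfl⟩ := hsurj y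
      rw [hcen, commutatorElement_def, hinv, hinv, hmul, hmul, hmul]
      exact ⟨a * b' - a' * b, by congr 1 <;> ring⟩
    · obtain ⟨c, rfl⟩ := (hcen x).1 hx
      have e : ⁅m c 0 0, m 0 1 0⁆ = m 0 0 c := by
        rw [commutatorElement_def, hinv, hinv, hmul, hmul, hmul]
        congr 1 <;> ring
      rw [← e, commutator_def]
      exact Subgroup.commutator_mem_commutator trivial trivial
  have hpE : IsPGroup p E := IsPGroup.of_card hcard
  refine ⟨Cfsg.Agent.Solv.isExtraspecial_of hpE hcard' hder fun x => by rw [hexp x]; exact one_mem _, hcard, ?_⟩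
  refine ((Nat.dvd_prime Fact.out).1 (Monoid.exponent_dvd_of_forall_pow_eq_one hexp)).resolve_left ?_
  intro h
  haveI := Monoid.exp_eq_one_iff.1 h
  have := Nat.card_unique (α := E)
  rw [hcard] at this
  exact absurd this (Nat.one_lt_pow (by norm_num) (Fact.out (p := p.Prime)).one_lt).ne'

/-- Let p be an odd prime. A Sylow p-subgroup of Qd(p), the split extension of an elementary abelian group of order p² by SL₂(p) acting naturally, is extraspecial of order p³ and exponent p. -/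
theorem result (p : ℕ) [Fact p.Prime] (hp : p ≠ 2) (P : Sylow p ↥(Cfsg.qd p)) :
    Cfsg.IsExtraspecial p ↥P ∧ Nat.card P = p ^ 3 ∧ Monoid.exponent ↥P = p := by
  let e := MulEquiv.refl ↥(Cfsg.qd p)
  obtain ⟨Q, hQ⟩ := (isPGroup_qdT e).exists_le_sylow
  have hQe : (Q : Subgroup ↥(Cfsg.qd p)) = qdT e := qdT_maximal e Q.isPGroup' hQ
  let ψ : ↥(qdT e) ≃* ↥P := (MulEquiv.subgroupCongr hQe.symm).trans (Sylow.equiv Q P)
  let m : ZMod p → ZMod p → ZMod p → ↥P := fun a b c => ψ ⟨qdElt e (Dickson.upU a) ![c, b], a, ![c, b], rfl⟩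
  refine heisenberg hp m (fun x => ?_) (fun a b c a' b' c' h => ?_) (fun a b c a' b' c' => ?_)
  · obtain ⟨y, rfl⟩ := ψ.surjective x
    obtain ⟨a, v, hv⟩ := y.2
    refine ⟨a, v 1, v 0, congrArg ψ (Subtype.ext ?_)⟩
    rw [← hv]
    exact congrArg (qdElt e (Dickson.upU a)) (funext fun i => by fin_cases i <;> rfl)
  · obtain ⟨h1, h2⟩ := qdElt_inj e (congrArg Subtype.val (ψ.injective h))
    exact ⟨congrArg (fun M : Matrix.SpecialLinearGroup (Fin 2) (ZMod p) => M.1 0 1) h1, congrFun h2 1, congrFun h2 0⟩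
  · rw [← map_mul]
    refine congrArg ψ (Subtype.ext ?_)
    change qdElt e _ _ * qdElt e _ _ = qdElt e _ _
    rw [qdElt_mul, Dickson.upU_mul]
    refine congrArg (qdElt e (Dickson.upU (a + a'))) (funext fun i => ?_)
    fin_cases i <;> simp [Matrix.mulVec, dotProduct, Fin.sum_univ_two] <;> ring

end Cfsg.Agent.S3074
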