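import Cfsg.Statements.S3075
import Mathlib
-- import your own Cfsg.Agent.* helpers here

set_option autoImplicit false
open Cfsg



namespace Cfsg.Agent.S3075

/-- Let p be an odd prime and N a finite group with a normal elementary abelian subgroup A of order p² that is its own centralizer in N, such that N/A is isomorphic to SL₂(p) (over any field F with p elements). Then N splits over A: some subgroup U of N satisfies A ∩ U = 1 and AU = N. -/
theorem result {N : Type*} [Group N] [Finite N] {p : ℕ} [Fact p.Prime] (hp : p ≠ 2)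
    (A : Subgroup N) [A.Normal] (hAcomm : IsMulCommutative A) (hAcard : Nat.card A = p ^ 2) (hAexp : Monoid.exponent ↥A = p)
    (hAself : Subgroup.centralizer (A : Set N) = A)
    {F : Type*} [Field F] [Fintype F] (hF : Fintype.card F = p) (e : N ⧸ A ≃* Matrix.SpecialLinearGroup (Fin 2) F) :
    ∃ U : Subgroup N, A ⊓ U = ⊥ ∧ A ⊔ U = ⊤ := by
  classical
  have hAc : ∀ a ∈ A, ∀ b ∈ A, a * b = b * a := fun a ha b hb =>
    congrArg Subtype.val (hAcomm.is_comm.comm ⟨a, ha⟩ ⟨b, hb⟩)
  have hAp : ∀ a ∈ A, a ^ p = 1 := fun a ha => by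
    have := Monoid.pow_exponent_eq_one (⟨a, ha⟩ : ↥A)
    rw [hAexp] at this
    exact congrArg Subtype.val this
  obtain ⟨k, hk⟩ : ∃ k, p = 2 * k + 1 := (Fact.out : p.Prime).odd_of_ne_two hp
  have h2F : (1 : F) ≠ -1 := by
    intro h
    have h2 : (2 : F) = 0 := by linear_combination h
    haveI : CharP F (ringChar F) := ringChar.charP F
    obtain ⟨m, hprime, hcard⟩ := FiniteField.card F (ringChar F)
    rw [hF] at hcard
    have hd : ringChar F = p := by
      have : ringChar F ∣ p := hcard ▸ dvd_pow_self _ (PNat.ne_zero m)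
      exact (Nat.prime_dvd_prime_iff_eq hprime Fact.out).1 this
    have : (ringChar F : ℕ) ∣ 2 := (CharP.cast_eq_zero_iff F (ringChar F) 2).1 (by exact_mod_cast h2)
    rw [hd] at this
    exact hp ((Nat.prime_dvd_prime_iff_eq Fact.out Nat.prime_two).1 this)
  obtain ⟨t0, ht0⟩ := QuotientGroup.mk_surjective (e.symm (-1))
  set t := t0 ^ p with htdef
  have hmk : (QuotientGroup.mk t : N ⧸ A) = e.symm (-1) := by
    rw [htdef, QuotientGroup.mk_pow, ht0, ← map_pow, hk, pow_add, pow_mul, pow_one]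
    simp
  have ht2 : t * t = 1 := by
    have hmem : t0 * t0 ∈ A := by
      rw [← QuotientGroup.eq_one_iff, QuotientGroup.mk_mul, ht0, ← map_mul]
      simp
    have := hAp _ hmem
    rw [htdef, ← pow_add]
    rw [← pow_two, ← pow_mul] at this
    rwa [← two_mul]
  have htA : t ∉ A := fun h => by
    rw [← QuotientGroup.eq_one_iff, hmk, MulEquiv.map_eq_one_iff] at h
    have := congrArg (fun M : Matrix.SpecialLinearGroup (Fin 2) F => (M : Matrix (Fin 2) (Fin 2) F) 0 0) h
    simp at this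
    exact h2F this.symm
  have hconj : ∀ a ∈ A, t * a * t ∈ A := fun a ha => by
    have h := (inferInstance : A.Normal).conj_mem a ha t
    rwa [inv_eq_of_mul_eq_one_right ht2] at h
  have htcent : ∀ n : N, n * t * n⁻¹ * t ∈ A := fun n => by
    rw [← QuotientGroup.eq_one_iff]
    simp only [QuotientGroup.mk_mul, QuotientGroup.mk_inv, hmk]
    have hc : (QuotientGroup.mk n : N ⧸ A) * e.symm (-1) = e.symm (-1) * QuotientGroup.mk n := by
      apply e.injective
      simp
    rw [hc]
    simp [← map_mul]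
  -- conjugation commutes with t on A
  have hcomm : ∀ n : N, ∀ a ∈ A, t * (n * a * n⁻¹) * t = n * (t * a * t) * n⁻¹ := by
    intro n a ha
    obtain ⟨b, hb⟩ : ∃ b, b = n * t * n⁻¹ * t := ⟨_, rfl⟩
    have hbA : b ∈ A := hb ▸ htcent n
    have hnt : n * t * n⁻¹ = b * t := by rw [hb, mul_assoc _ t t, ht2, mul_one]
    have hti := inv_eq_of_mul_eq_one_right ht2
    have hy : t * (n * a * n⁻¹) * t ∈ A := hconj _ ((inferInstance : A.Normal).conj_mem a ha n)
    calc t * (n * a * n⁻¹) * t = b * (t * (n * a * n⁻¹) * t) * b⁻¹ := by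
          rw [hAc b hbA _ hy, mul_inv_cancel_right]
      _ = (b * t) * (n * a * n⁻¹) * (b * t)⁻¹ := by rw [mul_inv_rev, hti]; simp only [mul_assoc]
      _ = n * (t * a * t) * n⁻¹ := by
          rw [← hnt, mul_inv_rev, mul_inv_rev, inv_inv, hti]
          group
  let W : Subgroup N :=
    { carrier := {a | a ∈ A ∧ t * a * t = a}
      one_mem' := ⟨one_mem _, by simp [ht2]⟩
      mul_mem' := fun {a b} ha hb => ⟨mul_mem ha.1 hb.1, by
        calc t * (a * b) * t = (t * a * t) * (t * b * t) := by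
              simp only [mul_assoc]; rw [← mul_assoc t t, ht2, one_mul]
          _ = a * b := by rw [ha.2, hb.2]⟩
      inv_mem' := fun {a} ha => ⟨inv_mem ha.1, by
        have hti := inv_eq_of_mul_eq_one_right ht2
        calc t * a⁻¹ * t = (t * a * t)⁻¹ := by rw [mul_inv_rev, mul_inv_rev, hti]; simp only [mul_assoc]
          _ = a⁻¹ := by rw [ha.2]⟩ }
  let I : Subgroup N :=
    { carrier := {a | a ∈ A ∧ t * a * t = a⁻¹}
      one_mem' := ⟨one_mem _, by simp [ht2]⟩
      mul_mem' := fun {a b} ha hb => ⟨mul_mem ha.1 hb.1, by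
        calc t * (a * b) * t = (t * a * t) * (t * b * t) := by
              simp only [mul_assoc]; rw [← mul_assoc t t, ht2, one_mul]
          _ = (a * b)⁻¹ := by rw [ha.2, hb.2, mul_inv_rev, hAc _ (inv_mem ha.1) _ (inv_mem hb.1)]⟩
      inv_mem' := fun {a} ha => ⟨inv_mem ha.1, by
        have hti := inv_eq_of_mul_eq_one_right ht2
        calc t * a⁻¹ * t = (t * a * t)⁻¹ := by rw [mul_inv_rev, mul_inv_rev, hti]; simp only [mul_assoc]
          _ = a⁻¹⁻¹ := by rw [ha.2]⟩ }
  -- t inverts A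
  have hinv : ∀ a ∈ A, t * a * t = a⁻¹ := by
    by_contra hcon
    push Not at hcon
    obtain ⟨a, ha, hat⟩ := hcon
    have hW : W ≠ ⊥ := fun h => hat (by
      have hm : a * (t * a * t) ∈ W := ⟨mul_mem ha (hconj a ha), by
        calc t * (a * (t * a * t)) * t = (t * a * t) * ((t * t) * a * (t * t)) := by
              simp only [mul_assoc]; rw [← mul_assoc t t (a * _), ht2, one_mul]
          _ = (t * a * t) * a := by rw [ht2, one_mul, mul_one]
          _ = a * (t * a * t) := hAc _ (hconj a ha) _ ha⟩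
      rw [h, Subgroup.mem_bot] at hm
      exact eq_inv_of_mul_eq_one_right hm)
    have hI : I ≠ ⊥ := by
      intro h
      refine htA ?_
      rw [← hAself, Subgroup.mem_centralizer_iff]
      intro b hb
      have hm : b⁻¹ * (t * b * t) ∈ I := ⟨mul_mem (inv_mem hb) (hconj b hb), by
        have hti := inv_eq_of_mul_eq_one_right ht2
        calc t * (b⁻¹ * (t * b * t)) * t = (t * b⁻¹ * t) * b * (t * t) := by simp only [mul_assoc]
          _ = (b⁻¹ * (t * b * t))⁻¹ := by
              rw [ht2, mul_one, mul_inv_rev, inv_inv, mul_inv_rev, mul_inv_rev, hti]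
              simp only [mul_assoc]⟩
      rw [h, Subgroup.mem_bot, inv_mul_eq_one] at hm
      calc b * t = (t * b * t) * t := by rw [← hm]
        _ = t * b := by rw [mul_assoc, ht2, mul_one]
    have hWI : W ⊓ I = ⊥ := by
      rw [eq_bot_iff]
      rintro w ⟨hw, hw'⟩
      have h2 : w * w = 1 := by
        have := hw.2.symm.trans hw'.2
        nth_rewrite 1 [this]
        exact inv_mul_cancel w
      rw [Subgroup.mem_bot, ← hAp w hw.1, hk, pow_add, pow_mul, pow_two, h2, one_pow, one_mul, pow_one]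
    have hle : ∀ X : Subgroup N, X ≤ A → X ≠ ⊥ → ∃ j, 1 ≤ j ∧ Nat.card X = p ^ j := by
      intro X hX hne
      obtain ⟨j, hj2, hj⟩ := (Nat.dvd_prime_pow Fact.out).1 (hAcard ▸ Subgroup.card_dvd_of_le hX)
      refine ⟨j, ?_, hj⟩
      rcases j with _ | j
      · exact absurd (Subgroup.eq_bot_of_card_eq X (by simpa using hj)) hne
      · simp
    obtain ⟨i, hi, hWc⟩ := hle W (fun w hw => hw.1) hW
    obtain ⟨j, hj, hIc⟩ := hle I (fun w hw => hw.1) hI
    set f : W × I → A := fun q => ⟨q.1 * q.2, mul_mem q.1.2.1 q.2.2.1⟩ with hf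
    have hfi : Function.Injective f := by
      rintro ⟨w, u⟩ ⟨w', u'⟩ h
      have h' : (w : N) * u = w' * u' := congrArg Subtype.val h
      have hm : (w' : N)⁻¹ * w = u' * (u : N)⁻¹ := by
        rw [eq_mul_inv_iff_mul_eq, mul_assoc, inv_mul_eq_iff_eq_mul]; exact h'
      have h0 : (w' : N)⁻¹ * w ∈ W ⊓ I := Subgroup.mem_inf.2 ⟨mul_mem (inv_mem w'.2) w.2, hm ▸ mul_mem u'.2 (inv_mem u.2)⟩
      rw [hWI, Subgroup.mem_bot, inv_mul_eq_one] at h0
      refine Prod.ext (Subtype.ext h0.symm) (Subtype.ext ?_)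
      show (u : N) = u'
      rwa [h0, mul_right_inj] at h'
    have hcard : Nat.card (W × I) ≤ p ^ 2 := hAcard ▸ Nat.card_le_card_of_injective f hfi
    rw [Nat.card_prod, hWc, hIc, ← pow_add] at hcard
    have hij := (Nat.pow_le_pow_iff_right (Fact.out : p.Prime).one_lt).1 hcard
    obtain ⟨rfl, rfl⟩ : i = 1 ∧ j = 1 := by omega
    rw [pow_one] at hWc hIc
    have hfs : Function.Surjective f := by
      refine ((Nat.bijective_iff_injective_and_card f).2 ⟨hfi, ?_⟩).2
      rw [Nat.card_prod, hWc, hIc, hAcard, pow_two]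
    haveI : IsCyclic W := isCyclic_of_prime_card hWc
    haveI : IsCyclic I := isCyclic_of_prime_card hIc
    -- the quotient would be abelian
    have hab : ∀ X : Subgroup N, IsCyclic X → (∀ n : N, ∀ a ∈ X, n * a * n⁻¹ ∈ X) →
        ∀ m n : N, ∀ a ∈ X, m * (n * a * n⁻¹) * m⁻¹ = n * (m * a * m⁻¹) * n⁻¹ := by
      intro X hX hXn m n a ha
      haveI := hX
      obtain ⟨g, hg⟩ := IsCyclic.exists_generator (α := X)
      have hpow : ∀ n : N, ∃ z : ℤ, ∀ b ∈ X, n * b * n⁻¹ = b ^ z := by
        intro n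
        obtain ⟨z, hz⟩ := Subgroup.mem_zpowers_iff.1 (hg ⟨_, hXn n g g.2⟩)
        refine ⟨z, fun b hb => ?_⟩
        obtain ⟨i, hi⟩ := Subgroup.mem_zpowers_iff.1 (hg ⟨b, hb⟩)
        have hb' : b = (g : N) ^ i := (congrArg Subtype.val hi).symm
        have hz' : (g : N) ^ z = n * g * n⁻¹ := congrArg Subtype.val hz
        rw [hb', ← conj_zpow, ← hz', ← zpow_mul, ← zpow_mul, mul_comm]
      obtain ⟨u, hu⟩ := hpow m
      obtain ⟨v, hv⟩ := hpow n
      rw [hv a ha, hu a ha, hu _ (zpow_mem ha v), hv _ (zpow_mem ha u), ← zpow_mul, ← zpow_mul, mul_comm]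
    have hWn : ∀ n : N, ∀ a ∈ W, n * a * n⁻¹ ∈ W := fun n a ha =>
      ⟨(inferInstance : A.Normal).conj_mem a ha.1 n, by rw [hcomm n a ha.1, ha.2]⟩
    have hIn : ∀ n : N, ∀ a ∈ I, n * a * n⁻¹ ∈ I := fun n a ha =>
      ⟨(inferInstance : A.Normal).conj_mem a ha.1 n, by rw [hcomm n a ha.1, ha.2]; group⟩
    have habel : ∀ x y : N ⧸ A, x * y = y * x := by
      intro x y
      obtain ⟨m, rfl⟩ := QuotientGroup.mk_surjective x
      obtain ⟨n, rfl⟩ := QuotientGroup.mk_surjective y
      rw [← QuotientGroup.mk_mul, ← QuotientGroup.mk_mul, QuotientGroup.eq, ← hAself,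
        Subgroup.mem_centralizer_iff]
      intro a ha
      obtain ⟨⟨w, u⟩, hwu⟩ := hfs ⟨a, ha⟩
      have ha' : a = (w : N) * u := (congrArg Subtype.val hwu).symm
      have h3 : m * (n * a * n⁻¹) * m⁻¹ = n * (m * a * m⁻¹) * n⁻¹ := by
        rw [ha']
        calc m * (n * (w * u) * n⁻¹) * m⁻¹
            = (m * (n * w * n⁻¹) * m⁻¹) * (m * (n * u * n⁻¹) * m⁻¹) := by group
          _ = (n * (m * w * m⁻¹) * n⁻¹) * (n * (m * u * m⁻¹) * n⁻¹) := by
              rw [hab W inferInstance hWn m n w w.2, hab I inferInstance hIn m n u u.2]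
          _ = n * (m * (w * u) * m⁻¹) * n⁻¹ := by group
      calc a * ((m * n)⁻¹ * (n * m)) = (m * n)⁻¹ * (m * (n * a * n⁻¹) * m⁻¹) * (n * m) := by group
        _ = (m * n)⁻¹ * (n * (m * a * m⁻¹) * n⁻¹) * (n * m) := by rw [h3]
        _ = (m * n)⁻¹ * (n * m) * a := by group
    let U₁ : Matrix.SpecialLinearGroup (Fin 2) F := ⟨!![1, 1; 0, 1], by simp [Matrix.det_fin_two]⟩
    let L₁ : Matrix.SpecialLinearGroup (Fin 2) F := ⟨!![1, 0; 1, 1], by simp [Matrix.det_fin_two]⟩
    have h := congrArg e (habel (e.symm U₁) (e.symm L₁))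
    rw [map_mul, map_mul, e.apply_symm_apply, e.apply_symm_apply] at h
    have := congrArg (fun M : Matrix.SpecialLinearGroup (Fin 2) F => (M : Matrix (Fin 2) (Fin 2) F) 0 0) h
    simp only [Matrix.SpecialLinearGroup.coe_mul] at this
    simp [U₁, L₁, Matrix.mul_apply, Fin.sum_univ_two] at this
  refine ⟨Subgroup.centralizer {t}, ?_, ?_⟩
  · rw [eq_bot_iff]
    rintro a ⟨ha, hat⟩
    have h1 := Subgroup.mem_centralizer_singleton_iff.1 hat
    have h2 : a * a = 1 := by
      have := hinv a ha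
      rw [← h1, mul_assoc, ht2, mul_one] at this
      nth_rewrite 1 [this]
      exact inv_mul_cancel a
    rw [Subgroup.mem_bot, ← hAp a ha, hk, pow_add, pow_mul, pow_two, h2, one_pow, one_mul, pow_one]
  · rw [eq_top_iff]
    intro n _
    obtain ⟨a, ha⟩ : ∃ a, a = n * t * n⁻¹ * t := ⟨_, rfl⟩
    have haA : a ∈ A := ha ▸ htcent n
    have hnt : n * t * n⁻¹ = a * t := by rw [ha, mul_assoc _ t t, ht2, mul_one]
    set b := a ^ k with hb
    have hbA : b ∈ A := pow_mem haA k
    have hbn : b * n ∈ Subgroup.centralizer ({t} : Set N) := by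
      rw [Subgroup.mem_centralizer_singleton_iff]
      have h2 : b * a * b = 1 := by
        rw [hb, ← pow_succ, ← pow_add, show k + 1 + k = 2 * k + 1 by omega, ← hk, hAp a haA]
      calc b * n * t = b * (n * t * n⁻¹) * n := by group
        _ = b * a * (t * b⁻¹) * (b * n) := by rw [hnt]; group
        _ = b * a * (b * t) * (b * n) := by
            congr 2
            calc t * b⁻¹ = (t * b⁻¹ * t) * t := by rw [mul_assoc _ t t, ht2, mul_one]
              _ = b * t := by rw [hinv _ (inv_mem hbA), inv_inv]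
        _ = (b * a * b) * t * (b * n) := by group
        _ = t * (b * n) := by rw [h2, one_mul]
    rw [show n = b⁻¹ * (b * n) by group]
    exact mul_mem (Subgroup.mem_sup_left (inv_mem hbA)) (Subgroup.mem_sup_right hbn)

end Cfsg.Agent.S3075
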