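import Cfsg.Statements.S3076
import Cfsg.Agent.Lib.Fusion.PConstrained
-- import your own Cfsg.Agent.* helpers here

set_option autoImplicit false
open Cfsg

namespace Cfsg.Agent.S3076

open Cfsg.Agent.Fusion

/-- Let P be a Sylow p-subgroup of the finite group G and H ≤ P a subgroup with N_P(H) a Sylow p-subgroup of N_G(H). Let N be the preimage in N_G(H) of O_p(N_G(H)/C_G(H)). Then H is a Sylow p-subgroup of N if and only if C_P(H) ≤ H and O_{p',p}(N_G(H)) = H·C_G(H). -/
theorem local_criterion {X : Type*} [Group X] [Finite X] {p : ℕ} [Fact p.Prime] {T H : Subgroup X} [H.Normal]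
    (hT : SylIn p T ⊤) (hHT : H ≤ T) (C : Subgroup X) [C.Normal] (hC : C = Subgroup.centralizer (H : Set X)) :
    (H ≤ (Cfsg.pCore p (X ⧸ C)).comap (QuotientGroup.mk' C) ∧
      ¬ p ∣ H.relIndex ((Cfsg.pCore p (X ⧸ C)).comap (QuotientGroup.mk' C))) ↔
    (T ⊓ C ≤ H ∧ Cfsg.pPrimePCore p X = H ⊔ C) := by
  set π := QuotientGroup.mk' C
  set K := (Cfsg.pCore p (X ⧸ C)).comap π
  have hHp : IsPGroup p H := hT.isPGroup.to_le hHT
  have hHK : H ≤ K := by
    haveI : (H.map π).Normal := Subgroup.Normal.map inferInstance π (QuotientGroup.mk'_surjective C)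
    exact fun h hh => Subgroup.mem_comap.2 (le_pCore (hHp.map π) (Subgroup.mem_map_of_mem π hh))
  have hCK : C ≤ K := fun c hc => Subgroup.mem_comap.2 (by
    rw [show π c = 1 from (QuotientGroup.eq_one_iff c).2 hc]; exact one_mem _)
  -- the odd core centralises `H`
  set D := Cfsg.pPrimeCore p X
  have hDC : D ≤ C := by
    intro d hd
    rw [hC, Subgroup.mem_centralizer_iff]
    intro h hh
    exact (Subgroup.commute_of_normal_of_disjoint _ _ inferInstance inferInstance
      (disjoint_iff.2 (coprime_inf_pGroup (card_pPrimeCore_coprime p X) hHp)) d h hd hh).symm.eq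
  have hsub : Cfsg.pPrimePCore p X ≤ K := by
    intro x hx
    haveI : (Cfsg.pPrimePCore p X).Normal := pPrimePCore_normal
    haveI : ((Cfsg.pPrimePCore p X).map π).Normal := Subgroup.Normal.map inferInstance π (QuotientGroup.mk'_surjective C)
    refine Subgroup.mem_comap.2 (le_pCore ?_ (Subgroup.mem_map_of_mem π hx))
    rintro ⟨_, y, hy, rfl⟩
    obtain ⟨k, hk⟩ := (isPGroup_pCore p (X ⧸ D)) ⟨_, Subgroup.mem_comap.1 hy⟩
    refine ⟨k, Subtype.ext ?_⟩
    have h1 : QuotientGroup.mk' D (y ^ p ^ k) = 1 := by rw [map_pow]; exact congrArg Subtype.val hk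
    change π y ^ p ^ k = 1
    rw [← map_pow]
    exact (QuotientGroup.eq_one_iff _).2 (hDC ((QuotientGroup.eq_one_iff _).1 h1))
  have hsup : T ⊓ C ≤ H → H ⊔ C ≤ Cfsg.pPrimePCore p X := by
    intro hTC
    refine sup_le ?_ ?_
    · intro h hh
      haveI : (H.map (QuotientGroup.mk' D)).Normal :=
        Subgroup.Normal.map inferInstance _ (QuotientGroup.mk'_surjective D)
      exact Subgroup.mem_comap.2 (le_pCore (hHp.map _) (Subgroup.mem_map_of_mem _ hh))
    · have hS : SylIn p (T ⊓ C) C := hT.inf_normal le_top (by rw [Subgroup.normalizer_eq_top])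
      have hn : Cfsg.HasNormalPComplement p ↥C := by
        obtain ⟨Q⟩ : Nonempty (Sylow p C) := inferInstance
        refine hnpc_of_normalizer_le_centralizer Q fun c _ => ?_
        obtain ⟨x, hx, he⟩ := hS.conj_eq (sylIn_map C Q)
        refine Subgroup.mem_centralizer_iff.2 fun y hy => Subtype.ext ?_
        have hy' : (y : X) ∈ cj (T ⊓ C) x := he.symm ▸ Subgroup.mem_map_of_mem _ hy
        have hyH : (y : X) ∈ H := (cj_of_normal H x) ▸ cj_mono hTC x hy'
        have hc : (c : X) ∈ Subgroup.centralizer (H : Set X) := hC ▸ c.2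
        exact Subgroup.mem_centralizer_iff.1 hc _ hyH
      rw [hnpc_iff] at hn
      haveI : ((Cfsg.pResidual p ↥C).map C.subtype).Normal := inferInstance
      have hR : (Cfsg.pResidual p ↥C).map C.subtype ≤ D := by
        refine le_pPrimeCore ?_
        rwa [Subgroup.card_map_of_injective C.subtype_injective]
      intro c hc
      haveI : (C.map (QuotientGroup.mk' D)).Normal :=
        Subgroup.Normal.map inferInstance _ (QuotientGroup.mk'_surjective D)
      refine Subgroup.mem_comap.2 (le_pCore ?_ (Subgroup.mem_map_of_mem _ hc))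
      rintro ⟨_, y, hy, rfl⟩
      obtain ⟨k, hk⟩ := (isPGroup_quotient_pResidual (p := p) (G := C)) (QuotientGroup.mk ⟨y, hy⟩)
      refine ⟨k, Subtype.ext ?_⟩
      change QuotientGroup.mk' D y ^ p ^ k = 1
      rw [← map_pow]
      refine (QuotientGroup.eq_one_iff _).2 (hR ?_)
      exact ⟨⟨y, hy⟩ ^ p ^ k, (QuotientGroup.eq_one_iff _).1 (by rw [QuotientGroup.mk_pow]; exact hk), rfl⟩
  constructor
  · rintro ⟨-, hnd⟩
    have hHs : SylIn p H K := ⟨hHK, hHp, hnd⟩
    have hTC : T ⊓ C ≤ H := by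
      obtain ⟨x, -, hx⟩ := hHs.conj_le hT.isPGroup.to_inf_left (inf_le_right.trans hCK)
      rw [cj_le_iff, cj_of_normal] at hx
      exact hx
    refine ⟨hTC, le_antisymm ?_ (hsup hTC)⟩
    intro x hx
    -- `K = H C`
    have hdim : K ≤ H ⊔ C := by
      have h1 : (H ⊔ C).relIndex K ∣ H.relIndex K := Subgroup.relIndex_dvd_of_le_left _ le_sup_left
      have h2 : (H ⊔ C).relIndex K ∣ Nat.card (Cfsg.pCore p (X ⧸ C)) := by
        refine dvd_trans (Subgroup.relIndex_dvd_of_le_left K (le_sup_right : C ≤ H ⊔ C)) ?_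
        have h3 := Subgroup.relIndex_ker (f := π) (K := K)
        rw [QuotientGroup.ker_mk', Subgroup.map_comap_eq_self_of_surjective (QuotientGroup.mk'_surjective C)] at h3
        rw [h3]
      obtain ⟨k, hk⟩ := IsPGroup.iff_card.1 (isPGroup_pCore p (X ⧸ C))
      rw [hk] at h2
      obtain ⟨j, -, hj⟩ := (Nat.dvd_prime_pow Fact.out).1 h2
      rw [← Subgroup.relIndex_eq_one]
      rcases j with _ | j
      · simpa using hj
      · exact absurd ((hj ▸ dvd_pow_self p (Nat.succ_ne_zero j)).trans h1) hnd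
    exact hdim (hsub hx)
  · rintro ⟨hTC, heq⟩
    refine ⟨hHK, fun hd => ?_⟩
    have hKP : K ≤ H ⊔ C := by
      rw [← heq]
      haveI : (K.map (QuotientGroup.mk' D)).Normal :=
        Subgroup.Normal.map inferInstance _ (QuotientGroup.mk'_surjective D)
      intro x hx
      refine Subgroup.mem_comap.2 (le_pCore ?_ (Subgroup.mem_map_of_mem _ hx))
      rintro ⟨_, y, hy, rfl⟩
      obtain ⟨k, hk⟩ := (isPGroup_pCore p (X ⧸ C)) ⟨_, Subgroup.mem_comap.1 hy⟩
      have h1 : y ^ p ^ k ∈ C := (QuotientGroup.eq_one_iff _).1 (show π (y ^ p ^ k) = 1 by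
        rw [map_pow]; exact congrArg Subtype.val hk)
      obtain ⟨j, hj⟩ := (isPGroup_pCore p (X ⧸ D)) ⟨_, Subgroup.mem_comap.1 (hsup hTC (Subgroup.mem_sup_right h1))⟩
      refine ⟨k + j, Subtype.ext ?_⟩
      change QuotientGroup.mk' D y ^ p ^ (k + j) = 1
      rw [pow_add, pow_mul, ← map_pow]
      exact congrArg Subtype.val hj
    have hS : SylIn p (T ⊓ C) C := hT.inf_normal le_top (by rw [Subgroup.normalizer_eq_top])
    refine hS.not_dvd ?_
    have e : H.relIndex K ∣ (T ⊓ C).relIndex C := by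
      rw [show K = H ⊔ C from le_antisymm hKP (sup_le hHK hCK), Subgroup.relIndex_sup_left]
      exact Subgroup.relIndex_dvd_of_le_left C hTC
    exact hd.trans e

theorem result {G : Type*} [Group G] [Finite G] {p : ℕ} [Fact p.Prime]
    (P : Sylow p G) (H : Subgroup G) (hHP : H ≤ (P : Subgroup G))
    (hSyl : ¬ p ∣ ((P : Subgroup G) ⊓ Subgroup.normalizer (H : Set G)).relIndex (Subgroup.normalizer (H : Set G)))
    [hC : ((Subgroup.centralizer (H : Set G)).subgroupOf (Subgroup.normalizer (H : Set G))).Normal] :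
    (H ≤ ((Cfsg.pCore p (↥(Subgroup.normalizer (H : Set G)) ⧸
              (Subgroup.centralizer (H : Set G)).subgroupOf (Subgroup.normalizer (H : Set G)))).comap
            (QuotientGroup.mk' _)).map (Subgroup.normalizer (H : Set G)).subtype ∧
      ¬ p ∣ H.relIndex (((Cfsg.pCore p (↥(Subgroup.normalizer (H : Set G)) ⧸
              (Subgroup.centralizer (H : Set G)).subgroupOf (Subgroup.normalizer (H : Set G)))).comap
            (QuotientGroup.mk' _)).map (Subgroup.normalizer (H : Set G)).subtype)) ↔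
    ((P : Subgroup G) ⊓ Subgroup.centralizer (H : Set G) ≤ H ∧
      (Cfsg.pPrimePCore p ↥(Subgroup.normalizer (H : Set G))).map (Subgroup.normalizer (H : Set G)).subtype =
        H ⊔ Subgroup.centralizer (H : Set G)) := by
  set N := Subgroup.normalizer (H : Set G)
  set C := Subgroup.centralizer (H : Set G)
  have hHN : H ≤ N := Subgroup.le_normalizer
  have hCN : C ≤ N := Subgroup.centralizer_le_normalizer _
  set H' := H.subgroupOf N
  set C' := C.subgroupOf N with hC'
  set T := ((P : Subgroup G) ⊓ N).subgroupOf N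
  haveI hH'n : H'.Normal := Subgroup.normal_subgroupOf_of_le_normalizer le_rfl
  have hT : SylIn p T ⊤ := ⟨le_top, (P.isPGroup'.to_inf_left).comap_subtype, by rwa [Subgroup.relIndex_top_right]⟩
  have hcent : C' = Subgroup.centralizer (H' : Set ↥N) := by
    ext c
    rw [Subgroup.mem_subgroupOf, Subgroup.mem_centralizer_iff, Subgroup.mem_centralizer_iff]
    exact ⟨fun h y hy => Subtype.ext (h _ hy), fun h y hy => congrArg Subtype.val (h ⟨y, hHN hy⟩ hy)⟩
  have hHT : H' ≤ T := fun x hx => ⟨hHP hx, x.2⟩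
  have key := local_criterion hT hHT C' hcent
  set K := (Cfsg.pCore p (↥N ⧸ C')).comap (QuotientGroup.mk' C')
  have e1 : ∀ X : Subgroup ↥N, H ≤ X.map N.subtype ↔ H' ≤ X := by
    intro X
    constructor
    · intro h x hx
      obtain ⟨y, hy, hyx⟩ := h hx
      rwa [← Subtype.ext (show (y : G) = x from hyx)]
    · intro h x hx
      exact ⟨⟨x, hHN hx⟩, h hx, rfl⟩
  have e2 : H.relIndex (K.map N.subtype) = H'.relIndex K := by
    conv_lhs => rw [← Subgroup.map_subgroupOf_eq_of_le hHN]
    exact Subgroup.relIndex_map_map_of_injective _ _ N.subtype_injective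
  have e3 : (P : Subgroup G) ⊓ C ≤ H ↔ T ⊓ C' ≤ H' := by
    constructor
    · exact fun h x hx => h ⟨hx.1.1, hx.2⟩
    · exact fun h x hx => h (show (⟨x, hCN hx.2⟩ : ↥N) ∈ T ⊓ C' from ⟨⟨hx.1, hCN hx.2⟩, hx.2⟩)
  have e4 : (Cfsg.pPrimePCore p ↥N).map N.subtype = H ⊔ C ↔ Cfsg.pPrimePCore p ↥N = H' ⊔ C' := by
    conv_lhs => rw [← Subgroup.map_subgroupOf_eq_of_le hHN, ← Subgroup.map_subgroupOf_eq_of_le hCN, ← Subgroup.map_sup]
    exact (Subgroup.map_injective N.subtype_injective).eq_iff
  rw [e1, e2, e3, e4]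
  exact key

end Cfsg.Agent.S3076
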