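import Cfsg.Statements.S3078
import Cfsg.Agent.Lib.Fusion.Replacement
-- import your own Cfsg.Agent.* helpers here

set_option autoImplicit false
open Cfsg

open Cfsg.Agent Cfsg.Agent.Fusion
open scoped commutatorElement

namespace Cfsg.Agent.S3078

/-- In an abelian subgroup the first omega is the set of elements killed by `p`. -/
theorem mem_omega_abelian {G : Type*} [Group G] {p : ℕ} {A : Subgroup G} (hA : IsMulCommutative A) {x : G} :
    x ∈ Cfsg.omegaOne p A ↔ x ∈ A ∧ x ^ p = 1 := by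
  refine ⟨fun hx => ?_, fun hx => Subgroup.subset_closure hx⟩
  induction hx using Subgroup.closure_induction with
  | mem y hy => exact hy
  | one => exact ⟨one_mem _, one_pow _⟩
  | mul a b _ _ ha hb =>
    exact ⟨mul_mem ha.1 hb.1, by rw [(show Commute a b from repl_comm hA ha.1 hb.1).mul_pow, ha.2, hb.2, one_mul]⟩
  | inv a _ ha => exact ⟨inv_mem ha.1, by rw [inv_pow, ha.2, inv_one]⟩

/-- The replacement does not lower the rank. -/
theorem card_omega_le {S : Type*} [Group S] [Finite S] {p : ℕ} [Fact p.Prime] (hp2 : p ≠ 2)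
    {B : Subgroup S} [B.Normal] {A : Subgroup S} (hA : IsMulCommutative A) (hBA : ⁅B, B⁆ ≤ A) {b : S}
    (hb : b ∈ B) (hbN : b ∈ Subgroup.normalizer ((Subgroup.normalizer (A : Set S)) : Set S))
    (hR : IsMulCommutative (replSub A b)) :
    Nat.card (Cfsg.omegaOne p A) ≤ Nat.card (Cfsg.omegaOne p (replSub A b)) := by
  classical
  set A' := A.map (MulAut.conj (b⁻¹)).toMonoidHom with hA'
  set D := A ⊓ A'
  set g : S → S := fun a => a * b⁻¹ * a⁻¹ * b with hg
  have hmemA' : ∀ x, x ∈ A' ↔ b * x * b⁻¹ ∈ A := fun x => by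
    rw [hA', Subgroup.mem_map_equiv, MulAut.conj_symm_apply, inv_inv]
  have hσ : ∀ {x}, x ∈ A → b⁻¹ * x * b ∈ A' := fun {x} hx => by
    rw [hmemA', show b * (b⁻¹ * x * b) * b⁻¹ = x by group]; exact hx
  have hA'comm : ∀ {x y}, x ∈ A' → y ∈ A' → x * y = y * x := by
    intro x y hx hy
    have h := repl_comm hA ((hmemA' x).1 hx) ((hmemA' y).1 hy)
    calc x * y = b⁻¹ * (b * x * b⁻¹ * (b * y * b⁻¹)) * b := by group
      _ = b⁻¹ * (b * y * b⁻¹ * (b * x * b⁻¹)) * b := by rw [h]
      _ = y * x := by group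
  have hDc : ∀ {d}, d ∈ D → ∀ {m}, m ∈ A ⊔ A' → d * m = m * d := by
    intro d hd m hm
    have hle : A ⊔ A' ≤ Subgroup.centralizer {d} := sup_le
      (fun x hx => Subgroup.mem_centralizer_singleton_iff.2 (repl_comm hA hx hd.1))
      (fun x hx => Subgroup.mem_centralizer_singleton_iff.2 (hA'comm hx hd.2))
    exact (Subgroup.mem_centralizer_singleton_iff.1 (hle hm)).symm
  -- commutators between `A` and its conjugate
  have hcross : ∀ {x y}, x ∈ A → y ∈ A' → ⁅y, x⁆ ∈ D := by
    intro x y hx hy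
    refine ⟨?_, ?_⟩
    · show ⁅y, x⁆ ∈ A
      have hyN : y ∈ Subgroup.normalizer (A : Set S) :=
        (Subgroup.mem_normalizer_iff.1 hbN y).2 (Subgroup.le_normalizer ((hmemA' y).1 hy))
      rw [commutatorElement_def]
      exact mul_mem ((Subgroup.mem_normalizer_iff.1 hyN x).1 hx) (inv_mem hx)
    · show ⁅y, x⁆ ∈ A'
      rw [hmemA', commutatorElement_def, show b * (y * x * y⁻¹ * x⁻¹) * b⁻¹ =
        (b * y * b⁻¹) * ((b * x * b⁻¹) * (b * y * b⁻¹)⁻¹ * (b * x * b⁻¹)⁻¹) by group]
      exact mul_mem ((hmemA' y).1 hy) ((Subgroup.mem_normalizer_iff.1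
        ((Subgroup.mem_normalizer_iff.1 hbN x).1 (Subgroup.le_normalizer hx)) _).1 (inv_mem ((hmemA' y).1 hy)))
  have hgdef : ∀ a, g a = a * (b⁻¹ * a⁻¹ * b) := fun a => by simp only [g]; group
  have hgM : ∀ a ∈ A, g a ∈ A ⊔ A' := fun a ha => by
    rw [hgdef]
    exact mul_mem (Subgroup.mem_sup_left ha) (Subgroup.mem_sup_right (hσ (inv_mem ha)))
  have hgg : ∀ a ∈ A, ∀ a' ∈ A, g a * g a' = g (a * a') * ⁅b⁻¹ * a⁻¹ * b, a'⁆ := by
    intro a ha a' ha'
    have hd := hcross ha' (hσ (inv_mem ha))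
    have hc := hA'comm (hσ (inv_mem ha)) (hσ (inv_mem ha'))
    set u := b⁻¹ * a⁻¹ * b
    set u' := b⁻¹ * a'⁻¹ * b
    set d := ⁅u, a'⁆ with hd'
    calc g a * g a' = a * (u * a') * u' := by rw [hgdef, hgdef]; simp only [u, u']; group
      _ = a * (d * (a' * u)) * u' := by rw [hd', commutatorElement_def]; group
      _ = a * (d * (a' * (u * u'))) := by group
      _ = a * ((a' * (u * u')) * d) := by
          rw [hDc hd (mul_mem (Subgroup.mem_sup_left ha')
            (Subgroup.mem_sup_right (mul_mem (hσ (inv_mem ha)) (hσ (inv_mem ha')))))]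
      _ = (a * a') * (u' * u) * d := by rw [hc]; group
      _ = g (a * a') * d := by rw [hgdef]; simp only [u, u']; group
  have hmemR : ∀ a ∈ A, g a ∈ replSub A b := fun a ha =>
    Subgroup.mem_sup_right (Subgroup.subset_closure ⟨a, ha, rfl⟩)
  -- only elements of `D` are sent into `D`
  have hgD : ∀ x ∈ A, g x ∈ D → x ∈ D := by
    intro x hx hgx
    have h : b⁻¹ * x * b ∈ D := by
      refine ⟨?_, hσ hx⟩
      show b⁻¹ * x * b ∈ A
      rw [show b⁻¹ * x * b = (g x)⁻¹ * x by rw [hgdef]; group]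
      exact mul_mem (inv_mem hgx.1) hx
    refine ⟨hx, ?_⟩
    show x ∈ A'
    rw [show x = g x * (b⁻¹ * x * b) by rw [hgdef]; group]
    exact mul_mem hgx.2 h.2
  -- the `p`th power
  have hgp : ∀ a ∈ A, a ^ p = 1 → g a ^ p = 1 := by
    intro a ha hap
    set u := b⁻¹ * a⁻¹ * b with hu
    have huA' : u ∈ A' := hσ (inv_mem ha)
    have huE : u ^ p = 1 := by
      rw [hu, show b⁻¹ * a⁻¹ * b = b⁻¹ * a⁻¹ * b⁻¹⁻¹ by rw [inv_inv], conj_pow, inv_pow, hap]
      group
    set δ := ⁅u, a⁆ with hδ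
    have hδD : δ ∈ D := hcross ha huA'
    have hua : ∀ i : ℕ, u ^ i * a = a * u ^ i * δ ^ i := by
      intro i
      induction i with
      | zero => simp
      | succ i ih =>
        have hc1 : δ * u = u * δ := hDc hδD (Subgroup.mem_sup_right huA')
        calc u ^ (i + 1) * a = u ^ i * (δ * a * u) := by
              rw [pow_succ, hδ, commutatorElement_def]; group
          _ = u ^ i * (a * δ * u) := by rw [hDc hδD (Subgroup.mem_sup_left ha)]
          _ = (u ^ i * a) * (δ * u) := by group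
          _ = a * u ^ i * (δ ^ i * (u * δ)) := by rw [ih, hc1]; group
          _ = a * u ^ i * ((u * δ) * δ ^ i) := by
              rw [(hDc (pow_mem hδD i) (mul_mem (Subgroup.mem_sup_right huA') (Subgroup.mem_sup_left hδD.1)))]
          _ = a * u ^ (i + 1) * δ ^ (i + 1) := by rw [pow_succ u, pow_succ' δ]; group
    have hpow : ∀ n : ℕ, (a * u) ^ n = a ^ n * u ^ n * δ ^ (n * (n - 1) / 2) := by
      intro n
      induction n with
      | zero => simp
      | succ n ih =>
        have htri : (n + 1) * (n + 1 - 1) / 2 = n + n * (n - 1) / 2 := by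
          rw [← Finset.sum_range_id_mul_two (n + 1), Nat.mul_div_cancel _ two_pos,
            ← Finset.sum_range_id_mul_two n, Nat.mul_div_cancel _ two_pos, Finset.sum_range_succ,
            add_comm]
        calc (a * u) ^ (n + 1) = a ^ n * u ^ n * (δ ^ (n * (n - 1) / 2) * (a * u)) := by
              rw [pow_succ, ih]; group
          _ = a ^ n * u ^ n * ((a * u) * δ ^ (n * (n - 1) / 2)) := by
              rw [hDc (pow_mem hδD _) (mul_mem (Subgroup.mem_sup_left ha) (Subgroup.mem_sup_right huA'))]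
          _ = a ^ n * (u ^ n * a) * u * δ ^ (n * (n - 1) / 2) := by group
          _ = a ^ n * a * u ^ n * (δ ^ n * u) * δ ^ (n * (n - 1) / 2) := by rw [hua n]; group
          _ = a ^ n * a * u ^ n * (u * δ ^ n) * δ ^ (n * (n - 1) / 2) := by
              rw [hDc (pow_mem hδD n) (Subgroup.mem_sup_right huA')]
          _ = a ^ (n + 1) * u ^ (n + 1) * δ ^ ((n + 1) * (n + 1 - 1) / 2) := by
              rw [htri, pow_succ, pow_succ u, pow_add δ]; group
    have hδp : δ ^ p = 1 := by
      have h := hua p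
      rw [huE, one_mul, mul_one] at h
      exact mul_eq_left.1 h.symm
    obtain ⟨t, ht⟩ : p ∣ p * (p - 1) / 2 := by
      obtain ⟨t, ht⟩ := (Fact.out : p.Prime).odd_of_ne_two hp2
      refine ⟨t, ?_⟩
      rw [show p - 1 = 2 * t by omega, show p * (2 * t) = p * t * 2 by ring, Nat.mul_div_cancel _ two_pos]
    rw [hgdef, ← hu, hpow, hap, huE, ht, pow_mul, hδp]
    simp
  set P := Cfsg.omegaOne p A with hP
  set Q := Cfsg.omegaOne p (replSub A b) with hQ
  set K := P ⊓ D with hK
  set rep : S → S := fun a => (QuotientGroup.mk a : S ⧸ K).out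
  have hrep : ∀ a, (rep a)⁻¹ * a ∈ K := fun a => QuotientGroup.eq.1 (QuotientGroup.out_eq' _)
  have hrepP : ∀ a ∈ P, rep a ∈ P := fun a ha => by
    have h0 : (rep a)⁻¹ * a ∈ P := (hrep a).1
    have h := mul_mem ha (inv_mem h0)
    rwa [show a * ((rep a)⁻¹ * a)⁻¹ = rep a by group] at h
  let f : P → Q := fun a => ⟨g (rep a) * ((rep a)⁻¹ * (a : S)), by
    obtain ⟨hrA, hrp⟩ := (mem_omega_abelian hA).1 (hrepP a a.2)
    obtain ⟨hdP, hdD⟩ := hrep a
    obtain ⟨-, hdp⟩ := (mem_omega_abelian hA).1 hdP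
    refine mul_mem (Subgroup.subset_closure ⟨hmemR _ hrA, hgp _ hrA hrp⟩)
      (Subgroup.subset_closure ⟨Subgroup.mem_sup_left hdD, hdp⟩)⟩
  refine Nat.card_le_card_of_injective f fun a a' h => ?_
  have h' : g (rep a) * ((rep a)⁻¹ * (a : S)) = g (rep a') * ((rep a')⁻¹ * (a' : S)) := congrArg Subtype.val h
  obtain ⟨r, hr⟩ : ∃ r, r = rep a := ⟨_, rfl⟩
  obtain ⟨r', hr'⟩ : ∃ r', r' = rep a' := ⟨_, rfl⟩
  have hrP := hr ▸ hrepP a a.2
  have hr'P := hr' ▸ hrepP a' a'.2
  have hrA := ((mem_omega_abelian hA).1 hrP).1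
  have hr'A := ((mem_omega_abelian hA).1 hr'P).1
  rw [← hr, ← hr'] at h'
  have hd : r⁻¹ * (a : S) ∈ D := hr ▸ (hrep a).2
  have hd' : r'⁻¹ * (a' : S) ∈ D := hr' ▸ (hrep a').2
  have hrr : g r = g r' * ((r'⁻¹ * (a' : S)) * (r⁻¹ * (a : S))⁻¹) := by
    rw [← mul_assoc, ← h', mul_inv_cancel_right]
  have hx : r * r'⁻¹ ∈ K := by
    refine Subgroup.mem_inf.2 ⟨mul_mem hrP (inv_mem hr'P), hgD _ (mul_mem hrA (inv_mem hr'A)) ?_⟩
    have h1 := hgg (r * r'⁻¹) (mul_mem hrA (inv_mem hr'A)) r' hr'A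
    rw [inv_mul_cancel_right] at h1
    set δ := ⁅b⁻¹ * (r * r'⁻¹)⁻¹ * b, r'⁆
    have hδ : δ ∈ D := hcross hr'A (hσ (inv_mem (mul_mem hrA (inv_mem hr'A))))
    set e := (r'⁻¹ * (a' : S)) * (r⁻¹ * (a : S))⁻¹
    have he : e * δ ∈ D := mul_mem (mul_mem hd' (inv_mem hd)) hδ
    have h2 : g (r * r'⁻¹) = g r' * (e * δ) * (g r')⁻¹ := by
      rw [← mul_assoc, ← hrr, ← h1, mul_inv_cancel_right]
    rw [h2, ← hDc he (hgM r' hr'A), mul_inv_cancel_right]
    exact he
  have heq : r = r' := by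
    have hKeq : (QuotientGroup.mk (a : S) : S ⧸ K) = QuotientGroup.mk (a' : S) := by
      refine QuotientGroup.eq.2 ?_
      have hc : ∀ {u v : S}, u ∈ P → v ∈ P → Commute u v := fun hu hv =>
        repl_comm hA ((mem_omega_abelian hA).1 hu).1 ((mem_omega_abelian hA).1 hv).1
      have e1 : (a : S)⁻¹ * a' = (r⁻¹ * (a : S))⁻¹ * ((r⁻¹ * r') * (r'⁻¹ * a')) := by group
      have hmid : r⁻¹ * r' ∈ K := by
        have := inv_mem hx
        rw [mul_inv_rev, inv_inv, (hc (hr'P) (inv_mem hrP)).eq] at this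
        exact this
      rw [e1]
      exact mul_mem (inv_mem (hr ▸ hrep a)) (mul_mem hmid (hr' ▸ hrep a'))
    rw [hr, hr']
    show (QuotientGroup.mk (a : S) : S ⧸ K).out = _
    rw [hKeq]
  subst heq
  exact Subtype.ext (mul_left_cancel (mul_left_cancel h'))

/-- A replacement Theorem for abelian subgroups of p-groups, p odd. Let G be a finite p-group with p odd, A an abelian subgroup of G, and B a subgroup of nilpotency class at most 2 with [B, B] ≤ A, such that A normalizes B but B does not normalize A. Then there is an abelian subgroup A* of G of the same order as A with A ∩ B strictly contained in A* ∩ B, A* contained in N_G(A) and in the normal closure of A, the exponent of A* dividing the exponent of A, and with the subgroup generated by the elements of order dividing p in A of order at most that of the corresponding subgroup of A* (the rank of A is at most the rank of A*). -/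
theorem result {G : Type*} [Group G] [Finite G] {p : ℕ} [Fact p.Prime] (hp : p ≠ 2) (hG : IsPGroup p G) (A B : Subgroup G) (hA : IsMulCommutative A) (hB2 : ⁅⁅B, B⁆, B⁆ = ⊥) (hBA : ⁅B, B⁆ ≤ A) (hAB : A ≤ Subgroup.normalizer (B : Set G)) (hBnA : ¬ B ≤ Subgroup.normalizer (A : Set G)) : ∃ Astar : Subgroup G, IsMulCommutative Astar ∧ Nat.card Astar = Nat.card A ∧ A ⊓ B < Astar ⊓ B ∧ Astar ≤ Subgroup.normalizer (A : Set G) ∧ Astar ≤ Subgroup.normalClosure (A : Set G) ∧ Monoid.exponent Astar ∣ Monoid.exponent A ∧ Nat.card (Cfsg.omegaOne p A) ≤ Nat.card (Cfsg.omegaOne p Astar) := by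
  classical
  set K := A ⊔ B with hK
  have hAK : A ≤ K := le_sup_left
  have hBK : B ≤ K := le_sup_right
  set A₁ := A.subgroupOf K with hA₁
  set B₁ := B.subgroupOf K with hB₁
  haveI : B₁.Normal := Subgroup.normal_subgroupOf_of_le_normalizer (sup_le hAB Subgroup.le_normalizer)
  have hKp : IsPGroup p K := hG.to_subgroup K
  have hA₁c : IsMulCommutative A₁ :=
    ⟨⟨fun a b => Subtype.ext (Subtype.ext (show ((a : K) : G) * (b : K) = (b : K) * (a : K) from repl_comm hA a.2 b.2))⟩⟩
  have hmapA : A₁.map K.subtype = A := Subgroup.map_subgroupOf_eq_of_le hAK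
  have hmapB : B₁.map K.subtype = B := Subgroup.map_subgroupOf_eq_of_le hBK
  have hBA₁ : ⁅B₁, B₁⁆ ≤ A₁ := by
    rw [← Subgroup.map_le_map_iff_of_injective K.subtype_injective, Subgroup.map_commutator, hmapA, hmapB]
    exact hBA
  have hnot : ¬ B₁ ≤ Subgroup.normalizer (A₁ : Set K) := fun h => hBnA (by
    rw [← hmapB, ← hmapA]
    exact (Subgroup.map_mono h).trans (Subgroup.le_normalizer_map _))
  haveI := hKp.isNilpotent
  obtain ⟨b, hb, hbN, hbA⟩ := exists_normalizing_normalizer B₁ A₁ hnot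
  obtain ⟨hcard, hab, -, hlt, -, -, hRN, -, -, hexp, hRle⟩ :=
    replSub_spec hKp (fun h => absurd h hp) hA₁c hBA₁ hb hbN hbA
  set R := replSub A₁ b
  have hωmap : ∀ X : Subgroup K, IsMulCommutative X → (Cfsg.omegaOne p X).map K.subtype = Cfsg.omegaOne p (X.map K.subtype) := by
    intro X hX
    have hX' : IsMulCommutative (X.map K.subtype) := inferInstance
    ext y
    rw [mem_omega_abelian hX']
    constructor
    · rintro ⟨x, hx, rfl⟩
      exact ⟨⟨x, ((mem_omega_abelian hX).1 hx).1, rfl⟩, by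
        rw [← map_pow, ((mem_omega_abelian hX).1 hx).2, map_one]⟩
    · rintro ⟨⟨x, hx, rfl⟩, hxp⟩
      exact ⟨x, (mem_omega_abelian hX).2 ⟨hx, Subtype.ext (by simpa using hxp)⟩, rfl⟩
  refine ⟨R.map K.subtype, inferInstance, ?_, ?_, ?_, ?_, ?_, ?_⟩
  · rw [Subgroup.card_map_of_injective K.subtype_injective, hcard, ← hmapA, Subgroup.card_map_of_injective K.subtype_injective]
  · rw [← hmapA, ← hmapB, ← Subgroup.map_inf _ _ _ K.subtype_injective, ← Subgroup.map_inf _ _ _ K.subtype_injective]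
    exact lt_of_le_of_ne (Subgroup.map_mono hlt.le) fun h => hlt.ne (Subgroup.map_injective K.subtype_injective h)
  · rw [← hmapA]
    exact (Subgroup.map_mono hRN).trans (Subgroup.le_normalizer_map _)
  · refine (Subgroup.map_mono hRle).trans ?_
    rw [Subgroup.map_sup, hmapA]
    refine sup_le Subgroup.le_normalClosure ?_
    rintro _ ⟨_, ⟨a, ha, rfl⟩, rfl⟩
    have hn : (Subgroup.normalClosure (A : Set G)).Normal := Subgroup.normalClosure_normal
    simpa using hn.conj_mem _ (Subgroup.subset_normalClosure ha) (b : G)⁻¹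
  · rw [← hmapA, ← Monoid.exponent_eq_of_mulEquiv (R.equivMapOfInjective _ K.subtype_injective),
      ← Monoid.exponent_eq_of_mulEquiv (A₁.equivMapOfInjective _ K.subtype_injective)]
    exact hexp hp
  · rw [← hmapA, ← hωmap _ hA₁c, ← hωmap _ hab, Subgroup.card_map_of_injective K.subtype_injective,
      Subgroup.card_map_of_injective K.subtype_injective]
    exact card_omega_le hp hA₁c hBA₁ hb hbN hab

end Cfsg.Agent.S3078
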