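import Cfsg.Statements.S3079
import Cfsg.Agent.Lib.Local.FS.ClosedFamily

set_option autoImplicit false
open Cfsg

namespace Cfsg.Agent.S3079

theorem result {G : Type*} [Group G] [Finite G] {p : ℕ} [Fact p.Prime] (hp : p ≠ 2) (P : Sylow p G) (D : Subgroup G) (hD : Cfsg.IsStronglyClosed D (P : Subgroup G)) (hst : Cfsg.IsNormalizerPStable p G) (hc : Subgroup.centralizer ((Cfsg.pCore p G : Subgroup G) : Set G) ≤ Cfsg.pCore p G) : (Cfsg.centerThompsonAOf D).Normal ∧ (Cfsg.omegaOne p (Cfsg.centerThompsonOf p D)).Normal := by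
  open Cfsg.Agent.Local.FS Cfsg.Agent.Fusion in
  have h1 := zIn_normal P (glaubFamily_maxIn hp replFamily_comm P.2 hD) hc
    (fun R _ hR => isPStableOn_of_normalizerPStable hst R hR)
  have h2 := zIn_normal P (glaubFamily_maxIn hp (replFamily_elementary p) P.2 hD) hc
    (fun R _ hR => isPStableOn_of_normalizerPStable hst R hR)
  rw [zIn_maxIn replFamily_comm hD.1, zFam_comm_eq] at h1
  rw [zIn_maxIn (replFamily_elementary p) hD.1, zFam_elementary_omega] at h2
  exact ⟨h1, h2⟩

end Cfsg.Agent.S3079
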