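import Cfsg.Statements.S3080
import Cfsg.Agent.Lib.Local.FS.ControlFamilyStable

set_option autoImplicit false
open Cfsg

namespace Cfsg.Agent.S3080

theorem result {G : Type*} [Group G] [Finite G] {p : ℕ} [Fact p.Prime] (hp : p ≠ 2) (P : Sylow p G) (D : Subgroup G) (hD : Cfsg.IsStronglyClosed D (P : Subgroup G)) (hst : Cfsg.IsNormalizerPStable p G) (hc : ∀ U : Subgroup G, U ≤ (P : Subgroup G) → U ≠ ⊥ → Cfsg.IsPConstrained p ↥(Subgroup.normalizer (U : Set G))) : (∀ A : Set G, A ⊆ (P : Subgroup G) → Cfsg.ControlsStrongFusionOf (Subgroup.normalizer ((Cfsg.centerThompsonAOf D) : Set G)) (P : Subgroup G) A) ∧ (∀ A : Set G, A ⊆ (P : Subgroup G) → Cfsg.ControlsStrongFusionOf (Subgroup.normalizer ((Cfsg.omegaOne p (Cfsg.centerThompsonOf p D)) : Set G)) (P : Subgroup G) A) := by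
  open Cfsg.Agent.Local.FS Cfsg.Agent.Fusion in
  have h1 := controls_zFam_of_local hp replFamily_comm (sylIn_top P) hst hD (fun _ => zFam_comm_ne_bot) hc
  have h2 := controls_zFam_of_local hp (replFamily_elementary p) (sylIn_top P) hst hD (fun _ => zFam_elementary_ne_bot) hc
  rw [zFam_comm_eq] at h1
  rw [zFam_elementary_omega] at h2
  exact ⟨h1, h2⟩

end Cfsg.Agent.S3080
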