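import Cfsg.Statements.S3084
import Cfsg.Agent.Lib.Solv.ExtraspecialLift
import Cfsg.Agent.Lib.Spor.AffineLarge

set_option autoImplicit false
open Cfsg
open Cfsg.Agent.Spor.ExtOut Cfsg.Agent.Solv.ExtLift

namespace Cfsg.Agent.S3084

/-- Let K be a group acting faithfully and linearly on a finite-dimensional vector space U of dimension 2n ≥ 2 over the field with two elements, preserving a quadratic form q whose polar bilinear form is non-degenerate and which vanishes on some n-dimensional subspace (a non-singular form of plus type). Then there is a finite group R with a normal extraspecial 2-subgroup Q of order 2^(2n+1), an isomorphism of R/Q with K, and a surjective homomorphism χ from Q onto (the additive group of) U with kernel the centre of Q, such that χ carries conjugation by any r in R to the action of the image of r in K, and an element a of Q squares to the identity exactly when q vanishes at χ(a). -/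
theorem result {K : Type*} [Group K] {U : Type*} [AddCommGroup U] [Module (ZMod 2) U] [Module.Finite (ZMod 2) U] (n : ℕ) (hn1 : 1 ≤ n) (hn : Module.finrank (ZMod 2) U = 2 * n) (ρ : Representation (ZMod 2) K U) (hρ : Function.Injective ρ) (q : QuadraticForm (ZMod 2) U) (hq : ∀ (k : K) (u : U), q (ρ k u) = q u) (hnd : (QuadraticMap.polarBilin q).Nondegenerate) (hplus : ∃ W : Submodule (ZMod 2) U, Module.finrank (ZMod 2) ↥W = n ∧ ∀ w ∈ W, q w = 0) : ∃ (R : Type) (_ : Group R) (_ : Finite R) (Q : Subgroup R) (hN : Q.Normal) (e : R ⧸ Q ≃* K) (χ : ↥Q →* Multiplicative U), Cfsg.IsExtraspecial 2 ↥Q ∧ Nat.card ↥Q = 2 ^ (2 * n + 1) ∧ Function.Surjective χ ∧ χ.ker = Subgroup.center ↥Q ∧ (∀ (r : R) (a : ↥Q), χ ⟨r * a * r⁻¹, hN.conj_mem (a : R) a.2 r⟩ = Multiplicative.ofAdd (ρ (e (r : R ⧸ Q)) (Multiplicative.toAdd (χ a)))) ∧ ∀ a : ↥Q, a * a = 1 ↔ q (Multiplicative.toAdd (χ a)) = 0 := by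
  classical
  obtain ⟨ec, hec⟩ := exists_coord hn1 hn q hnd hplus
  obtain ⟨Qm, hQm⟩ : ∃ Qm : QuadraticForm (ZMod 2) (Fin n ⊕ Fin n → ZMod 2),
      Qm = q.comp (ec.symm : (Fin n ⊕ Fin n → ZMod 2) →ₗ[ZMod 2] U) := ⟨_, rfl⟩
  have hβ : ∀ v, betaPlus n v v = Qm v := fun v => by
    rw [hQm]
    show _ = q (ec.symm v)
    rw [← hec (ec.symm v), LinearEquiv.apply_symm_apply]
  have hQ : Cfsg.Agent.Classical.OCount.PND Qm := fun v hv => by
    apply ec.symm.injective
    rw [map_zero]
    refine hnd.1 _ fun w => ?_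
    have := hv (ec w)
    rw [hQm] at this
    rw [QuadraticMap.polarBilin_apply_apply]
    simpa [QuadraticMap.polar] using this
  haveI : Nonempty (Fin n) := ⟨⟨0, by omega⟩⟩
  haveI : Nonempty (Fin n ⊕ Fin n) := ⟨.inl ⟨0, by omega⟩⟩
  let V := (Fin n → ZMod 2) → ZMod 3
  let σ : M (betaPlus n) →* Module.End (ZMod 3) V := weil n
  have hz : σ (zz (betaPlus n)) = -1 := weil_zz n
  have hd : Module.finrank (ZMod 3) (Module.End (ZMod 3) V) = 2 ^ Fintype.card (Fin n ⊕ Fin n) := finrank_weil n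
  have hinj : Function.Injective σ := sigma_injective σ hz hβ hQ
  let N : Subgroup ((Module.End (ZMod 3) V)ˣ × MulAut (M (betaPlus n))) :=
    { carrier := {p | ∀ x, (p.1 : Module.End (ZMod 3) V) * σ x = σ (p.2 x) * p.1}
      one_mem' := fun x => by simp
      mul_mem' := fun {a b} ha hb x => by
        show ((a.1 * b.1 : (Module.End (ZMod 3) V)ˣ) : Module.End (ZMod 3) V) * σ x =
          σ (a.2 (b.2 x)) * ((a.1 * b.1 : (Module.End (ZMod 3) V)ˣ) : Module.End (ZMod 3) V)
        rw [Units.val_mul, mul_assoc, hb, ← mul_assoc, ha, mul_assoc]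
      inv_mem' := fun {a} ha x => by
        show ((a.1⁻¹ : (Module.End (ZMod 3) V)ˣ) : Module.End (ZMod 3) V) * σ x =
          σ (a.2⁻¹ x) * ((a.1⁻¹ : (Module.End (ZMod 3) V)ˣ) : Module.End (ZMod 3) V)
        rw [Units.inv_mul_eq_iff_eq_mul, ← mul_assoc, ha, MulAut.apply_inv_self, mul_assoc, Units.mul_inv, mul_one] }
  -- the image of `K` among the isometries
  let ρe : K → (U ≃ₗ[ZMod 2] U) := fun k =>
    { ρ k with
      invFun := ρ k⁻¹
      left_inv := fun u => by
        show ρ k⁻¹ (ρ k u) = u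
        rw [← Module.End.mul_apply, ← map_mul, inv_mul_cancel, map_one]; rfl
      right_inv := fun u => by
        show ρ k (ρ k⁻¹ u) = u
        rw [← Module.End.mul_apply, ← map_mul, mul_inv_cancel, map_one]; rfl }
  have hmemI : ∀ k, (ec.symm.trans ((ρe k).trans ec)) ∈
      Cfsg.Agent.Classical.ORefl.Iso Qm := fun k v => by
    rw [hQm]
    show q (ec.symm (ec (ρ k (ec.symm v)))) = q (ec.symm v)
    rw [LinearEquiv.symm_apply_apply, hq]
  let j : K →* Cfsg.Agent.Classical.ORefl.Iso Qm :=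
    { toFun := fun k => ⟨_, hmemI k⟩
      map_one' := Subtype.ext (LinearEquiv.ext fun v => by
        show ec (ρ 1 (ec.symm v)) = v
        simp)
      map_mul' := fun k l => Subtype.ext (LinearEquiv.ext fun v => by
        show ec (ρ (k * l) (ec.symm v)) = ec (ρ k (ec.symm (ec (ρ l (ec.symm v)))))
        simp) }
  have hj : Function.Injective j := fun k l h => hρ (LinearMap.ext fun u => by
    have := LinearEquiv.congr_fun (congrArg Subtype.val h) (ec u)
    simpa [j, ρe] using this)
  let R : Subgroup N :=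
    Subgroup.comap ((linHom hβ hQ).comp ((MonoidHom.snd _ _).comp N.subtype)) j.range
  let Ψ : R →* j.range :=
    (((linHom hβ hQ).comp ((MonoidHom.snd _ _).comp N.subtype)).comp R.subtype).codRestrict j.range (fun r => r.2)
  have hΨ : Function.Surjective Ψ := by
    rintro ⟨g, hg⟩
    obtain ⟨φ, hφ⟩ := linHom_surjective hβ hQ g
    obtain ⟨T, hT⟩ := intertwiner σ (σ.comp φ.toMonoidHom) hz
      (show σ (φ (zz (betaPlus n))) = -1 by rw [zz_fixed hβ hQ, hz]) hβ hQ hd
    refine ⟨⟨⟨(T, φ), hT⟩, ?_⟩, Subtype.ext hφ⟩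
    show linHom hβ hQ φ ∈ j.range
    rw [hφ]; exact hg
  let e : R ⧸ Ψ.ker ≃* K :=
    (QuotientGroup.quotientKerEquivOfSurjective Ψ hΨ).trans (MonoidHom.ofInjective hj).symm
  -- the model is the kernel
  let ι₀ : M (betaPlus n) → N := fun x => ⟨(σ.toHomUnits x, MulAut.conj x), fun y => by
    show σ x * σ y = σ (x * y * x⁻¹) * σ x
    rw [← map_mul, ← map_mul, inv_mul_cancel_right]⟩
  have hι₀ : ∀ x, ι₀ x ∈ R := fun x => by
    show linHom hβ hQ (MulAut.conj x) ∈ j.range
    have : MulAut.conj x ∈ (linHom hβ hQ).ker := by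
      rw [linHom_ker]; exact ⟨x, rfl⟩
    rw [MonoidHom.mem_ker.1 this]
    exact one_mem _
  let ι₁ : M (betaPlus n) →* Ψ.ker :=
    { toFun := fun x => ⟨⟨ι₀ x, hι₀ x⟩, Subtype.ext (by
        show linHom hβ hQ (MulAut.conj x) = 1
        exact MonoidHom.mem_ker.1 (by rw [linHom_ker]; exact ⟨x, rfl⟩))⟩
      map_one' := Subtype.ext (Subtype.ext (Subtype.ext (Prod.ext (map_one _) (map_one _))))
      map_mul' := fun x y => Subtype.ext (Subtype.ext (Subtype.ext (Prod.ext (map_mul _ x y) (map_mul _ x y)))) }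
  have hι : Function.Bijective ι₁ := by
    constructor
    · intro x y h
      refine hinj ?_
      exact congrArg (fun r : Ψ.ker => ((((r : R) : N) : (Module.End (ZMod 3) V)ˣ × MulAut (M (betaPlus n))).1 :
        Module.End (ZMod 3) V)) h
    · rintro ⟨⟨⟨⟨T, φ⟩, hN⟩, hR⟩, hk⟩
      have hφ : linHom hβ hQ φ = 1 := congrArg Subtype.val hk
      obtain ⟨a, rfl⟩ : φ ∈ Cfsg.Inn (M (betaPlus n)) := by
        rw [← linHom_ker hβ hQ, MonoidHom.mem_ker]; exact hφ
      have hsc : ∀ x, σ a⁻¹ * (T : Module.End (ZMod 3) V) * σ x = σ x * (σ a⁻¹ * T) := fun x => by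
        have h1 : (T : Module.End (ZMod 3) V) * σ x = σ (a * x * a⁻¹) * T := hN x
        rw [mul_assoc, h1, ← mul_assoc, ← map_mul, ← mul_assoc (σ x), ← map_mul]
        congr 2
        group
      have hc := scalar_of_commute σ hz hβ hQ hd (σ a⁻¹ * T) hsc
      obtain ⟨c, hc'⟩ : ∃ c : ZMod 3, σ a⁻¹ * (T : Module.End (ZMod 3) V) = c • 1 := by
        have hcen : σ a⁻¹ * (T : Module.End (ZMod 3) V) ∈ Subalgebra.center (ZMod 3) (Module.End (ZMod 3) V) :=
          Subalgebra.mem_center_iff.2 fun X => (hc X).symm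
        rw [Algebra.IsCentral.center_eq_bot, Algebra.mem_bot] at hcen
        obtain ⟨c, hc'⟩ := hcen
        exact ⟨c, by rw [← hc', Algebra.algebraMap_eq_smul_one]⟩
      have hT : (T : Module.End (ZMod 3) V) = c • σ a := by
        have h2 := congrArg (fun X => σ a * X) hc'
        simp only [← mul_assoc, ← map_mul, mul_inv_cancel, map_one, one_mul, mul_smul_comm, mul_one] at h2
        exact h2
      have h3 : ∀ c : ZMod 3, c = 0 ∨ c = 1 ∨ c = -1 := by decide
      have hzz : ∀ y, MulAut.conj (a * zz (betaPlus n)) y = MulAut.conj a y := fun y => by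
        simp only [MulAut.conj_apply]
        have := ((ext2 hβ hQ).central y).eq
        calc a * zz (betaPlus n) * y * (a * zz (betaPlus n))⁻¹
            = a * (zz (betaPlus n) * y) * (zz (betaPlus n))⁻¹ * a⁻¹ := by group
          _ = a * y * a⁻¹ := by rw [this]; group
      rcases h3 c with rfl | rfl | rfl
      · rw [zero_smul] at hT
        exact absurd hT T.ne_zero
      · refine ⟨a, Subtype.ext (Subtype.ext (Subtype.ext (Prod.ext (Units.ext ?_) rfl)))⟩
        show σ a = T
        rw [hT, one_smul]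
      · refine ⟨a * zz (betaPlus n), Subtype.ext (Subtype.ext (Subtype.ext (Prod.ext (Units.ext ?_) (MulEquiv.ext hzz))))⟩
        show σ (a * zz (betaPlus n)) = T
        rw [hT, map_mul, hz]
        exact LinearMap.ext fun f => (map_neg (σ a) f).trans (neg_one_smul (ZMod 3) _).symm
  let eQ : M (betaPlus n) ≃* Ψ.ker := MulEquiv.ofBijective ι₁ hι
  let χ₀ : M (betaPlus n) →* Multiplicative U :=
    { toFun := fun x => Multiplicative.ofAdd (ec.symm x.vec)
      map_one' := by
        show Multiplicative.ofAdd (ec.symm 0) = 1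
        rw [map_zero]; rfl
      map_mul' := fun x y => by
        show Multiplicative.ofAdd (ec.symm (x.vec + y.vec)) = _
        rw [map_add]; rfl }
  let χ : Ψ.ker →* Multiplicative U := χ₀.comp eQ.symm.toMonoidHom
  obtain ⟨hext, hcen⟩ := isExtraspecial_M hβ hQ
  have hQc : Nat.card Ψ.ker = 2 ^ (2 * n + 1) := by
    rw [← Nat.card_congr eQ.toEquiv, card_M]
    congr 1
    simp; omega
  haveI : Finite (Module.End (ZMod 3) V) := Module.finite_of_finite (ZMod 3)
  haveI : Finite (M (betaPlus n)) := inferInstance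
  haveI : Finite (MulAut (M (betaPlus n))) :=
    Finite.of_injective (fun φ : MulAut (M (betaPlus n)) => (φ : M (betaPlus n) → M (betaPlus n))) DFunLike.coe_injective
  refine ⟨R, inferInstance, inferInstance, Ψ.ker, inferInstance, e, χ, ?_, hQc, ?_, ?_, ?_, ?_⟩
  · haveI : Fact (Nat.Prime 2) := ⟨Nat.prime_two⟩
    exact Cfsg.Agent.Spor.AffineLarge.extraspecial_equiv eQ hext
  · intro u
    refine ⟨eQ ⟨ec (Multiplicative.toAdd u), 0⟩, ?_⟩
    show χ₀ (eQ.symm (eQ _)) = u
    rw [MulEquiv.symm_apply_apply]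
    exact congrArg Multiplicative.ofAdd (ec.symm_apply_apply _)
  · ext a
    obtain ⟨x, rfl⟩ := eQ.surjective a
    rw [MonoidHom.mem_ker]
    show χ₀ (eQ.symm (eQ x)) = 1 ↔ _
    rw [MulEquiv.symm_apply_apply]
    have : eQ x ∈ Subgroup.center Ψ.ker ↔ x ∈ Subgroup.center (M (betaPlus n)) := by
      simp only [Subgroup.mem_center_iff]
      constructor
      · exact fun h g => eQ.injective (by rw [map_mul, map_mul]; exact h _)
      · intro h g
        obtain ⟨g, rfl⟩ := eQ.surjective g
        rw [← map_mul, ← map_mul, h g]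
    rw [this, hcen]
    show Multiplicative.ofAdd (ec.symm x.vec) = Multiplicative.ofAdd 0 ↔ _
    rw [Multiplicative.ofAdd.injective.eq_iff]
    exact ⟨fun h => by rw [← ec.apply_symm_apply x.vec, h, map_zero], fun h => by rw [h, map_zero]⟩
  · intro r a
    obtain ⟨x, rfl⟩ := eQ.surjective a
    obtain ⟨k, hk⟩ : ∃ k, k = e (r : R ⧸ Ψ.ker) := ⟨_, rfl⟩
    have hk' : j k = linHom hβ hQ ((r : N) : (Module.End (ZMod 3) V)ˣ × MulAut (M (betaPlus n))).2 := by
      rw [hk]
      exact congrArg Subtype.val ((MonoidHom.ofInjective hj).apply_symm_apply (Ψ r))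
    obtain ⟨φ, hφ⟩ : ∃ φ, φ = ((r : N) : (Module.End (ZMod 3) V)ˣ × MulAut (M (betaPlus n))).2 := ⟨_, rfl⟩
    have hconj : (⟨r * (eQ x : R) * r⁻¹, (inferInstance : Ψ.ker.Normal).conj_mem _ (eQ x).2 r⟩ : Ψ.ker) = eQ (φ x) := by
      refine Subtype.ext (Subtype.ext (Subtype.ext (Prod.ext ?_ ?_)))
      · refine Units.ext ?_
        show ((r : N).1.1 : Module.End (ZMod 3) V) * σ x * (((r : N).1.1)⁻¹ : (Module.End (ZMod 3) V)ˣ) = σ (φ x)
        rw [(r : N).2 x, hφ, mul_assoc, Units.mul_inv, mul_one]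
      · show (r : N).1.2 * MulAut.conj x * ((r : N).1.2)⁻¹ = MulAut.conj (φ x)
        rw [hφ]
        exact MulEquiv.ext fun y => by simp
    rw [hconj, ← hk]
    show χ₀ (eQ.symm (eQ (φ x))) = Multiplicative.ofAdd (ρ k (Multiplicative.toAdd (χ₀ (eQ.symm (eQ x)))))
    rw [MulEquiv.symm_apply_apply, MulEquiv.symm_apply_apply]
    refine congrArg Multiplicative.ofAdd ?_
    have h2 := LinearEquiv.congr_fun (congrArg Subtype.val hk') x.vec
    show ec.symm (φ x).vec = ρ k (ec.symm x.vec)
    apply ec.injective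
    rw [LinearEquiv.apply_symm_apply, vec_apply hβ hQ, hφ]
    exact h2.symm
  · intro a
    obtain ⟨x, rfl⟩ := eQ.surjective a
    rw [← map_mul, MulEquiv.map_eq_one_iff]
    show _ ↔ q (Multiplicative.toAdd (χ₀ (eQ.symm (eQ x)))) = 0
    rw [MulEquiv.symm_apply_apply]
    show _ ↔ q (ec.symm x.vec) = 0
    rw [← hec, LinearEquiv.apply_symm_apply]
    constructor
    · intro h
      have h2 := congrArg M.bit h
      rwa [mul_bit, one_bit, ZModModule.add_self, zero_add] at h2
    · intro h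
      apply M.ext
      · rw [mul_vec, one_vec, ZModModule.add_self]
      · rw [mul_bit, one_bit, h, ZModModule.add_self, add_zero]

end Cfsg.Agent.S3084
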