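import Cfsg.Statements.S3085
import Cfsg.Agent.Lib.Local.ExtraspecialNonsplit

set_option autoImplicit false
open Cfsg

namespace Cfsg.Agent.S3085

theorem result {Q : Type*} [Group Q] [Finite Q] (n : ℕ) (hn : 3 ≤ n) (hQ : Cfsg.IsExtraspecial 2 Q) (hcard : Nat.card Q = 2 ^ (2 * n + 1)) (hplus : ∃ E : Subgroup Q, Cfsg.IsElementaryAbelian 2 E ∧ Nat.card ↥E = 2 ^ (n + 1)) (L : Subgroup (MulAut Q)) : ¬ (Cfsg.Inn Q).IsComplement' L := by
  exact Cfsg.Agent.Local.XNonsplit.main n hn hQ hplus L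

end Cfsg.Agent.S3085
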