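import Cfsg.Statements.S3086
import Cfsg.Agent.Lib.Lead.PGV.Main
import Cfsg.Agent.Lib.Solv.Component

set_option autoImplicit false
open Cfsg

namespace Cfsg.Agent.S3086

/-- The P(G,V)-theorem. Let p be a prime, G a finite group acting faithfully and linearly on a finite vector space V over the field with p elements, and A a nontrivial elementary abelian p-subgroup of G such that |A|·|C_V(A)| ≥ |B|·|C_V(B)| for every subgroup B of A. Then A normalizes every component (subnormal quasisimple subgroup) of G. -/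
theorem result {G V : Type*} [Group G] [Finite G] [AddCommGroup V] [Finite V] (p : ℕ) [Fact p.Prime] [Module (ZMod p) V]
    (ρ : Representation (ZMod p) G V) (hρ : Function.Injective ρ)
    (A : Subgroup G) (hA : A ≠ ⊥) (hAel : Cfsg.IsElementaryAbelian p A)
    (hP : ∀ B : Subgroup G, B ≤ A →
      Nat.card ↥B * Nat.card {v : V // ∀ b ∈ B, ρ b v = v} ≤ Nat.card ↥A * Nat.card {v : V // ∀ a ∈ A, ρ a v = v}) :
    ∀ K : Subgroup G, Cfsg.IsComponent K → A ≤ Subgroup.normalizer (K : Set G) := by
  intro K hK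
  let φ : G →* AddMonoid.End V :=
    { toFun := fun g => (ρ g).toAddMonoidHom
      map_one' := by rw [map_one]; rfl
      map_mul' := fun g h => by rw [map_mul]; rfl }
  have hfix : ∀ B : Subgroup G, Nat.card (Cfsg.Agent.PGV.fixSet φ (B : Set G)) =
      Nat.card {v : V // ∀ b ∈ B, ρ b v = v} := fun B => rfl
  have hbest : Cfsg.Agent.PGV.IsBest φ A := fun B hB => by
    simp only [Cfsg.Agent.PGV.meas, hfix]; exact hP B hB
  have hq : Cfsg.Agent.PGV.QS K := by
    have hperf : ⁅K, K⁆ = K := by
      haveI := hK.2.1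
      have h := congrArg (Subgroup.map K.subtype) (Group.IsPerfect.commutator_eq_top (G := K))
      rwa [commutator_def, Subgroup.map_commutator, ← MonoidHom.range_eq_map, Subgroup.range_subtype] at h
    refine ⟨hperf, fun hle => ?_, fun N hNK hinv => ?_⟩
    · refine Cfsg.Agent.Solv.qs_center_ne_top hK.2 (eq_top_iff.2 fun x _ => Subgroup.mem_center_iff.2 fun y => ?_)
      exact Subtype.ext (Subgroup.mem_centralizer_iff.1 (hle x.2) (y : G) y.2)
    · haveI : (N.subgroupOf K).Normal := ⟨fun x hx g => hinv g g.2 x hx⟩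
      rcases Cfsg.Agent.Solv.qs_normal_le_center_or_top hK.2 (N.subgroupOf K) with h | h
      · exact Or.inr (le_antisymm hNK (Subgroup.subgroupOf_eq_top.1 h))
      · refine Or.inl fun x hx => Subgroup.mem_centralizer_iff.2 fun y hy => ?_
        exact congrArg Subtype.val
          (Subgroup.mem_center_iff.1 (h (show (⟨x, hNK hx⟩ : K) ∈ N.subgroupOf K from hx)) ⟨y, hy⟩)
  refine Cfsg.Agent.PGV.best_normalizes _ φ A K (p := p) (fun v => ?_) ?_ hAel.2 hbest hq ?_ ?_ rfl
  · rw [← Nat.cast_smul_eq_nsmul (ZMod p), ZMod.natCast_self, zero_smul]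
  · intro a ha b hb
    exact congrArg Subtype.val (hAel.1.1.1 ⟨a, ha⟩ ⟨b, hb⟩)
  · obtain ⟨k, hk, hk'⟩ := SetLike.not_le_iff_exists.1 hq.noncomm
    refine ⟨k, hk, fun h => hk' ?_⟩
    have h1 : k = 1 := hρ (by rw [map_one]; exact LinearMap.ext fun v => DFunLike.congr_fun h v)
    rw [h1]; exact one_mem _
  · intro a _
    by_cases h : K.map (MulAut.conj a).toMonoidHom = K
    · refine Or.inl (Subgroup.mem_normalizer_iff.2 fun x => ?_)
      conv_rhs => rw [← h]
      exact (Subgroup.mem_map_iff_mem (MulAut.conj a).injective).symm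
    · refine Or.inr fun x hx y hy => ?_
      have hc := Cfsg.Agent.Solv.components_commute (Cfsg.Agent.Solv.component_conj hK a) hK h
      rw [Subgroup.commutator_eq_bot_iff_le_centralizer] at hc
      exact (Subgroup.mem_centralizer_iff.1 (hc ⟨x, hx, rfl⟩) y hy).symm

end Cfsg.Agent.S3086
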