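import Cfsg.Statements.S3087
-- import your own Cfsg.Agent.* helpers here

set_option autoImplicit false
open Cfsg

namespace Cfsg.Agent.S3087


/-- Let p be a prime, G a finite group acting linearly on a finite vector space V over the field with p elements, W a G-invariant subspace, and A a subgroup of G with |A|·|C_V(A)| ≥ |B|·|C_V(B)| for every subgroup B of A. Then |A|·|C_W(A)| ≥ |B|·|C_W(B)| for every subgroup B of A that contains C_A(W); that is, the image of A in the group induced on W satisfies the same maximality condition. -/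
theorem card_sup_inf_submodule {p : ℕ} [Fact p.Prime] {V : Type*} [AddCommGroup V] [Finite V] [Module (ZMod p) V]
    (a b : Submodule (ZMod p) V) :
    Nat.card ↥(a ⊔ b) * Nat.card ↥(a ⊓ b) = Nat.card a * Nat.card b := by
  have e := Nat.card_congr (LinearMap.quotientInfEquivSupQuotient a b).toEquiv
  have h1 := Submodule.card_eq_card_quotient_mul_card (Submodule.comap a.subtype (a ⊓ b))
  have h2 := Submodule.card_eq_card_quotient_mul_card (Submodule.comap (a ⊔ b).subtype b)
  have c1 : Nat.card ↥(Submodule.comap a.subtype (a ⊓ b)) = Nat.card ↥(a ⊓ b) :=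
    Nat.card_congr (Submodule.comapSubtypeEquivOfLe inf_le_left).toEquiv
  have c2 : Nat.card ↥(Submodule.comap (a ⊔ b).subtype b) = Nat.card b :=
    Nat.card_congr (Submodule.comapSubtypeEquivOfLe le_sup_right).toEquiv
  rw [h1, h2, c1, c2, Submodule.comap_inf, e]
  ring

theorem result {G V : Type*} [Group G] [Finite G] [AddCommGroup V] [Finite V] (p : ℕ) [Fact p.Prime] [Module (ZMod p) V]
    (ρ : Representation (ZMod p) G V) (W : Submodule (ZMod p) V) (hW : ∀ g : G, ∀ w ∈ W, ρ g w ∈ W)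
    (A : Subgroup G)
    (hP : ∀ B : Subgroup G, B ≤ A →
      Nat.card ↥B * Nat.card {v : V // ∀ b ∈ B, ρ b v = v} ≤ Nat.card ↥A * Nat.card {v : V // ∀ a ∈ A, ρ a v = v})
    (B : Subgroup G) (hBA : B ≤ A) (hCB : ∀ a ∈ A, (∀ w ∈ W, ρ a w = w) → a ∈ B) :
    Nat.card ↥B * Nat.card {w : W // ∀ b ∈ B, ρ b w = w} ≤ Nat.card ↥A * Nat.card {w : W // ∀ a ∈ A, ρ a w = w} := by
  classical
  have _ := hCB
  let fixV : Subgroup G → Submodule (ZMod p) V := fun X =>
    { carrier := {v | ∀ b ∈ X, ρ b v = v}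
      add_mem' := fun {u v} hu hv b hb => by rw [map_add, hu b hb, hv b hb]
      zero_mem' := fun b _ => map_zero _
      smul_mem' := fun c v hv b hb => by rw [map_smul, hv b hb] }
  have hVc : ∀ X : Subgroup G, Nat.card {v : V // ∀ b ∈ X, ρ b v = v} = Nat.card (fixV X) := fun X => rfl
  have hWc : ∀ X : Subgroup G,
      Nat.card {w : W // ∀ b ∈ X, ρ b w = w} = Nat.card ↥(fixV X ⊓ W) := fun X =>
    Nat.card_congr ⟨fun w => ⟨w.1.1, w.2, w.1.2⟩, fun v => ⟨⟨v.1, v.2.2⟩, v.2.1⟩, fun _ => rfl, fun _ => rfl⟩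
  have hfix : fixV A ≤ fixV B := fun v hv b hb => hv b (hBA hb)
  set a := fixV A with ha
  set b := fixV B ⊓ W with hb
  have h1 := card_sup_inf_submodule a b
  have h2 : Nat.card ↥(a ⊔ b) ≤ Nat.card (fixV B) :=
    Nat.card_mono (Set.toFinite _) (show ((a ⊔ b : Submodule (ZMod p) V) : Set V) ⊆ (fixV B : Set V) from
      (sup_le hfix inf_le_left : a ⊔ b ≤ fixV B))
  have h3 : a ⊓ b = fixV A ⊓ W := by
    rw [ha, hb, ← inf_assoc, inf_eq_left.2 hfix]
  rw [hWc, hWc]
  have h4 := hP B hBA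
  rw [hVc, hVc] at h4
  rw [h3] at h1
  refine Nat.le_of_mul_le_mul_left (c := Nat.card (fixV A)) ?_ Nat.card_pos
  calc Nat.card (fixV A) * (Nat.card B * Nat.card ↥b)
      = Nat.card B * (Nat.card ↥(a ⊔ b) * Nat.card ↥(fixV A ⊓ W)) := by rw [h1, ha]; ring
    _ ≤ Nat.card B * (Nat.card (fixV B) * Nat.card ↥(fixV A ⊓ W)) :=
        Nat.mul_le_mul_left _ (Nat.mul_le_mul_right _ h2)
    _ = Nat.card B * Nat.card (fixV B) * Nat.card ↥(fixV A ⊓ W) := by ring
    _ ≤ Nat.card A * Nat.card (fixV A) * Nat.card ↥(fixV A ⊓ W) := Nat.mul_le_mul_right _ h4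
    _ = Nat.card (fixV A) * (Nat.card A * Nat.card ↥(fixV A ⊓ W)) := by ring

end Cfsg.Agent.S3087
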