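import Cfsg.Statements.S3104
import Cfsg.Agent.Lib.Lie.ConstrainedEight
import Cfsg.Agent.Lib.Lie.ConstrainedRank.Classify
import Cfsg.Agent.Lib.Lie.ConstrainedRank.RankFive
-- import your own Cfsg.Agent.* helpers here

set_option autoImplicit false
open Cfsg

namespace Cfsg.Agent.S3104

/-- Let X be a finite nonsolvable 2-constrained group with no nontrivial normal subgroup of odd order such that O₂(X) has sectional 2-rank at most 4, and write Q for X/O₂(X). Then Q is isomorphic to the projective special linear group of dimension 3 over the field with 2 elements, to an alternating group of degree n with 5 ≤ n ≤ 8, to a symmetric group of degree n with 5 ≤ n ≤ 7, or else O₃(Q) has order 3 and Q/O₃(Q) is isomorphic to the alternating or the symmetric group of degree 5 (so Q is the direct product of a group of order 3 with the alternating group of degree 5, or an extension of that direct product by a group of order 2). If moreover X itself has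 sectional 2-rank at most 4, then Q is not isomorphic to the symmetric group of degree 6 or 7 nor to the alternating group of degree 8. -/
theorem result {X : Type*} [Group X] [Finite X] (hns : ¬ Group.IsSolvable X) (hc : Cfsg.IsPConstrained 2 X) (hO : Cfsg.oddCore X = ⊥)
    (h4 : Cfsg.SectionalPRankLE 2 4 ↥(Cfsg.pCore 2 X)) :
    ((∃ (F : Type) (_ : Field F) (_ : Fintype F), Fintype.card F = 2 ∧
          Nonempty (X ⧸ Cfsg.pCore 2 X ≃* Matrix.ProjectiveSpecialLinearGroup (Fin 3) F)) ∨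
        (∃ n : ℕ, 5 ≤ n ∧ n ≤ 8 ∧ Nonempty (X ⧸ Cfsg.pCore 2 X ≃* ↥(alternatingGroup (Fin n)))) ∨
        (∃ n : ℕ, 5 ≤ n ∧ n ≤ 7 ∧ Nonempty (X ⧸ Cfsg.pCore 2 X ≃* Equiv.Perm (Fin n))) ∨
        (Nat.card ↥(Cfsg.pCore 3 (X ⧸ Cfsg.pCore 2 X)) = 3 ∧
          (Nonempty ((X ⧸ Cfsg.pCore 2 X) ⧸ Cfsg.pCore 3 (X ⧸ Cfsg.pCore 2 X) ≃* ↥(alternatingGroup (Fin 5))) ∨
            Nonempty ((X ⧸ Cfsg.pCore 2 X) ⧸ Cfsg.pCore 3 (X ⧸ Cfsg.pCore 2 X) ≃* Equiv.Perm (Fin 5))))) ∧
      (Cfsg.SectionalPRankLE 2 4 X →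
        ¬ (Nonempty (X ⧸ Cfsg.pCore 2 X ≃* Equiv.Perm (Fin 6)) ∨ Nonempty (X ⧸ Cfsg.pCore 2 X ≃* Equiv.Perm (Fin 7)) ∨
            Nonempty (X ⧸ Cfsg.pCore 2 X ≃* ↥(alternatingGroup (Fin 8))))) := by
  haveI : Fact (Nat.Prime 2) := ⟨Nat.prime_two⟩
  haveI : (Cfsg.pCore 2 X).Normal := Cfsg.Agent.Solv.pCore_normal 2
  obtain ⟨f, hf⟩ := Cfsg.Agent.Lie.ConstrainedEight.embed_quotient hc hO h4
  set Q := X ⧸ Cfsg.pCore 2 X
  have hR : IsPGroup 2 (Cfsg.pCore 2 X) := Cfsg.Agent.Solv.pCore_isPGroup 2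
  have hns' : ¬ Group.IsSolvable Q := fun h => hns (by
    haveI : Group.IsSolvable (Cfsg.pCore 2 X) := by
      haveI := hR.isNilpotent
      infer_instance
    haveI : Group.IsSolvable (X ⧸ Cfsg.pCore 2 X) := h
    exact Group.isSolvable_of_ker_le_range (Cfsg.pCore 2 X).subtype (QuotientGroup.mk' (Cfsg.pCore 2 X))
      (by simp [QuotientGroup.ker_mk']))
  have h2 : ∀ N : Subgroup Q, N.Normal → IsPGroup 2 N → N = ⊥ := fun N hN hp =>
    le_bot_iff.1 ((@Cfsg.Agent.Fusion.le_pCore _ _ _ N hN hp).trans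
      (le_of_eq Cfsg.Agent.Fusion.pCore_quotient_eq_bot))
  let f' := (alternatingGroup (Fin 8)).subtype.comp f
  have hf' : Function.Injective f' := Subtype.val_injective.comp hf
  refine ⟨Cfsg.Agent.Lie.ConstrainedRank.classify f' hf' (fun x => (f x).2) hns' h2, fun hX h => ?_⟩
  obtain ⟨j, hj⟩ := Cfsg.Agent.Lie.ConstrainedRank.six_in_eight
  rcases h with ⟨⟨e⟩⟩ | h7 | ⟨⟨e⟩⟩
  · exact Cfsg.Agent.Lie.ConstrainedRank.rank_five hc hO h4 hX e.symm.toMonoidHom e.symm.injective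
  · exact Cfsg.Agent.Lie.ConstrainedRank.not_seven f' hf' (fun x => (f x).2) h7
  · exact Cfsg.Agent.Lie.ConstrainedRank.rank_five hc hO h4 hX (e.symm.toMonoidHom.comp j)
      (e.symm.injective.comp hj)

end Cfsg.Agent.S3104
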