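import Cfsg.Statements.S3105
import Cfsg.Agent.Lib.Lie.ConstrainedLTwo.Main
import Cfsg.Agent.Lib.Lie.ConstrainedRank.RankFive
import Cfsg.Agent.Lib.Small.PSLThreeTwo

set_option autoImplicit false
open Cfsg

namespace Cfsg.Agent.S3105

/-- Let X be a finite nonsolvable 2-constrained group with no nontrivial normal subgroup of odd order and of sectional 2-rank at most 4, and suppose X/O₂(X) is isomorphic to the projective special linear group of dimension 3 over the field with 2 elements. Then O₂(X) is elementary abelian of order 8 or 16, or is isomorphic to the direct product of a cyclic group of order 4 and an elementary abelian group of order 8. -/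
theorem result {X : Type*} [Group X] [Finite X] (hns : ¬ Group.IsSolvable X) (hc : Cfsg.IsPConstrained 2 X) (hO : Cfsg.oddCore X = ⊥)
    (h4 : Cfsg.SectionalPRankLE 2 4 X) {F : Type*} [Field F] [Fintype F] (hF : Fintype.card F = 2)
    (hQ : Nonempty (X ⧸ Cfsg.pCore 2 X ≃* Matrix.ProjectiveSpecialLinearGroup (Fin 3) F)) :
    (Cfsg.IsElementaryAbelian 2 (Cfsg.pCore 2 X) ∧ (Nat.card ↥(Cfsg.pCore 2 X) = 8 ∨ Nat.card ↥(Cfsg.pCore 2 X) = 16)) ∨
      Nonempty (↥(Cfsg.pCore 2 X) ≃* Multiplicative (ZMod 4) × (Fin 3 → Multiplicative (ZMod 2))) := by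
  classical
  set R := Cfsg.pCore 2 X with hR
  haveI : R.Normal := Solv.pCore_normal 2
  obtain ⟨e⟩ := hQ
  obtain ⟨hsimp, hcard⟩ := Small.PSLThreeTwo.psl_three_two hF
  haveI := hsimp
  have hT : Lie.ConstrainedLTwo.Top X R :=
    ⟨Solv.pCore_isPGroup 2, e.isSimpleGroup, (Nat.card_congr e.toEquiv).trans hcard, h4⟩
  have hmove : ∃ g : X, ∃ a ∈ R, g * a * g⁻¹ * a⁻¹ ∉ Lie.ConstrainedLTwo.Sq R := by
    by_contra h
    push Not at h
    obtain ⟨a, b, hab⟩ := hT.exists_noncomm
    have hsq : Lie.ConstrainedLTwo.Sq R ≤ (frattini R).map R.subtype :=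
      Lie.ConstrainedLTwo.sq_le_iff.2 fun r hr => ⟨(⟨r, hr⟩ : R) ^ 2,
        Solv.pow_mem_frattini hT.twoGroup _, by simp [pow_two]⟩
    have hall : ∀ g : X, g ∈ R := fun g =>
      Lie.ConstrainedRank.frattini_faithful hc hO g fun r hr => hsq (h g r hr)
    exact hab (hall _)
  rcases Lie.ConstrainedLTwo.classify (Nat.card X) X R rfl hT hmove with
    ⟨hall, h816⟩ | ⟨h32, hcomm, z, hz1, hz2, hsq, x, hx, hxz⟩
  · refine Or.inl ⟨⟨⟨⟨fun a b => Subtype.ext ?_⟩⟩, fun a ha => ?_⟩, h816⟩
    · calc (a : X) * b = ((a : X) * b)⁻¹ :=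
            (inv_eq_of_mul_eq_one_right (hall _ (mul_mem a.2 b.2))).symm
        _ = (b : X) * a := by
          rw [mul_inv_rev, inv_eq_of_mul_eq_one_right (hall a a.2), inv_eq_of_mul_eq_one_right (hall b b.2)]
    · rw [pow_two]
      exact hall a ha
  · refine Or.inr ?_
    letI : CommGroup R :=
      { (inferInstance : Group R) with mul_comm := fun a b => Subtype.ext (hcomm a a.2 b b.2) }
    refine Lie.ConstrainedLTwo.four_two_type h32 (⟨x, hx⟩ : R) ?_ (Subtype.ext ?_) fun a => ?_
    · exact fun h => hz1 (hxz.symm.trans (congrArg Subtype.val h))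
    · show x * x * (x * x) = 1
      rw [hxz, hz2]
    · rcases hsq a a.2 with h | h
      · exact Or.inl (Subtype.ext h)
      · exact Or.inr (Subtype.ext (h.trans hxz.symm))

end Cfsg.Agent.S3105
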