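import Cfsg.Statements.S3106
import Cfsg.Agent.Lib.Lie.ConstrainedFive.Main
import Cfsg.Agent.Lib.Lie.ConstrainedRank.RankFive
import Cfsg.Agent.Lib.Solv.Cores

set_option autoImplicit false
set_option linter.style.haveILetI false
open Cfsg

namespace Cfsg.Agent.S3106

open Subgroup Cfsg.Agent.Lie.ConstrainedFive

theorem sectional_of_injective {p k : ℕ} {H G : Type*} [Group H] [Group G] (f : H →* G)
    (hf : Function.Injective f) (h : Cfsg.SectionalPRankLE p k G) : Cfsg.SectionalPRankLE p k H := by
  intro K N hN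
  let ψ : ↥(K.map f) →* ↥K ⧸ N :=
    (QuotientGroup.mk' N).comp (K.equivMapOfInjective f hf).symm.toMonoidHom
  have hψ : Function.Surjective ψ :=
    (QuotientGroup.mk'_surjective N).comp (K.equivMapOfInjective f hf).symm.surjective
  exact Perm.SectionalTwo.pRankLE_congr (QuotientGroup.quotientKerEquivOfSurjective ψ hψ) (h _ ψ.ker)

theorem transfer {G H : Type*} [Group G] [Group H] (e : G ≃* H) {z : G} (C : SmallDerived G z) :
    SmallDerived H (e z) where
  ne h := C.ne (e.map_eq_one_iff.1 h)
  sq := by rw [← map_mul, C.sq, map_one]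
  central r := by
    obtain ⟨r, rfl⟩ := e.surjective r
    rw [← map_mul, ← map_mul, C.central]
  squares r := by
    obtain ⟨r, rfl⟩ := e.surjective r
    rw [← map_mul]
    exact (C.squares r).imp (fun h => by rw [h, map_one]) fun h => by rw [h]
  comm a b := by
    obtain ⟨a, rfl⟩ := e.surjective a
    obtain ⟨b, rfl⟩ := e.surjective b
    exact (C.comm a b).imp (fun h => by rw [← map_mul, ← map_mul, h])
      fun h => by rw [← map_mul, ← map_mul, ← map_mul, h]
  cen r hr := by
    obtain ⟨r, rfl⟩ := e.surjective r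
    refine (C.cen r fun a => e.injective ?_).imp (fun h => by rw [h, map_one]) fun h => by rw [h]
    rw [map_mul, map_mul, hr]

/-- Let X be a finite nonsolvable 2-constrained group with no nontrivial normal subgroup of odd order and of sectional 2-rank at most 4, and suppose X/O₂(X) contains a subgroup isomorphic to the alternating group of degree 5. Then O₂(X) is elementary abelian of order 16, or O₂(X) is a central product of a quaternion group of order 8 and a dihedral group of order 8 (it has order 32 and is generated by two elementwise-commuting subgroups, one quaternion of order 8 and one dihedral of order 8, meeting in the centre). -/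
theorem result {X : Type*} [Group X] [Finite X] (hns : ¬ Group.IsSolvable X) (hc : Cfsg.IsPConstrained 2 X) (hO : Cfsg.oddCore X = ⊥)
    (h4 : Cfsg.SectionalPRankLE 2 4 X)
    (hQ : ∃ A : Subgroup (X ⧸ Cfsg.pCore 2 X), Nonempty (↥A ≃* ↥(alternatingGroup (Fin 5)))) :
    (Cfsg.IsElementaryAbelian 2 (Cfsg.pCore 2 X) ∧ Nat.card ↥(Cfsg.pCore 2 X) = 16) ∨
      (Nat.card ↥(Cfsg.pCore 2 X) = 32 ∧ ∃ A B : Subgroup ↥(Cfsg.pCore 2 X),
        Nonempty (↥A ≃* QuaternionGroup 2) ∧ Nonempty (↥B ≃* DihedralGroup 4) ∧ (∀ a ∈ A, ∀ b ∈ B, a * b = b * a) ∧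
          A ⊔ B = ⊤ ∧ A ⊓ B = Subgroup.center ↥(Cfsg.pCore 2 X)) := by
  haveI : Fact (Nat.Prime 2) := ⟨Nat.prime_two⟩
  set R := Cfsg.pCore 2 X with hR
  haveI : R.Normal := Solv.pCore_normal 2
  have hRp : IsPGroup 2 R := Solv.pCore_isPGroup 2
  obtain ⟨A, ⟨eA⟩⟩ := hQ
  set π := QuotientGroup.mk' R with hπ
  set S := A.comap π with hS
  have hRS : R ≤ S := fun r hr => by
    show π r ∈ A
    rw [show π r = 1 from (QuotientGroup.eq_one_iff r).2 hr]
    exact A.one_mem
  let φ : S →* A := π.subgroupComap A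
  have hφ : Function.Surjective φ :=
    MonoidHom.subgroupComap_surjective_of_surjective π A (QuotientGroup.mk'_surjective R)
  set RY := R.subgroupOf S with hRY
  have T : Top S RY :=
    { f := eA.toMonoidHom.comp φ
      surj := eA.surjective.comp hφ
      ker := by
        ext y
        rw [MonoidHom.mem_ker, hRY, mem_subgroupOf]
        show eA (φ y) = 1 ↔ _
        rw [MulEquiv.map_eq_one_iff, Subtype.ext_iff]
        exact QuotientGroup.eq_one_iff _
      twoGroup := hRp.of_equiv (subgroupOfEquivOfLe hRS).symm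
      rank := sectional_of_injective S.subtype S.subtype_injective h4 }
  set F := (frattini R).map R.subtype with hF
  haveI : F.Normal := inferInstance
  have hFR : F ≤ R := map_subtype_le _
  have hcases := T.core_cases (F.subgroupOf S) (fun x hx => hFR hx) (fun r hr => by
    show ((r : X) * r) ∈ F
    exact ⟨(⟨r, hr⟩ : R) * ⟨r, hr⟩, by rw [← pow_two]; exact Solv.pow_mem_frattini hRp _, rfl⟩)
    (fun y hy => Lie.ConstrainedRank.frattini_faithful hc hO (y : X) fun r hr =>
      hy ⟨r, hRS hr⟩ hr)
  let e : RY ≃* R := subgroupOfEquivOfLe hRS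
  rcases hcases with ⟨h16, hexp⟩ | ⟨h32, z, C, h12⟩
  · left
    have hexp' : ∀ r ∈ R, r * r = 1 := fun r hr => congrArg Subtype.val (hexp ⟨r, hRS hr⟩ hr)
    refine ⟨⟨⟨⟨fun a b => Subtype.ext ?_⟩⟩, fun a ha => by rw [pow_two]; exact hexp' a ha⟩, ?_⟩
    · show (a : X) * b = b * a
      calc (a : X) * b = ((a : X) * b)⁻¹ :=
            (inv_eq_of_mul_eq_one_right (hexp' _ (R.mul_mem a.2 b.2))).symm
        _ = (b : X) * a := by rw [mul_inv_rev, inv_eq_of_mul_eq_one_right (hexp' a a.2),
          inv_eq_of_mul_eq_one_right (hexp' b b.2)]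
    · rw [← Nat.card_congr e.toEquiv, h16]
  · right
    have hcR : Nat.card R = 32 := by rw [← Nat.card_congr e.toEquiv, h32]
    refine ⟨hcR, central_product (transfer e C) hcR ?_⟩
    rw [← h12]
    refine (Nat.card_congr (e.toEquiv.subtypeEquiv fun r => ?_)).symm
    show r * r = 1 ↔ e r * e r = 1
    rw [← map_mul, MulEquiv.map_eq_one_iff]

end Cfsg.Agent.S3106
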