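import Cfsg.Statements.S3109
import Cfsg.Agent.Lib.Lead.CoreFreeScn

set_option autoImplicit false
open Cfsg

namespace Cfsg.Agent.S3109

/-- Let G be a non-abelian finite simple group in which every 2-local subgroup is 2-constrained, and suppose some Sylow 2-subgroup S of G has a self-centralizing abelian normal subgroup A (C_S(A) = A) of 2-rank at least 3. Then the centralizer of every involution of G has no nontrivial normal subgroup of odd order. -/
theorem result {G : Type*} [Group G] [Finite G] [IsSimpleGroup G] (hG : ¬ IsMulCommutative G)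
    (h2c : ∀ T : Subgroup G, IsPGroup 2 T → T ≠ ⊥ → Cfsg.IsPConstrained 2 ↥(Subgroup.normalizer (T : Set G)))
    (S : Sylow 2 G) (A : Subgroup ↥(S : Subgroup G)) (hAn : A.Normal) (hAab : IsMulCommutative ↥A)
    (hAC : Subgroup.centralizer (A : Set ↥(S : Subgroup G)) = A) (hA3 : ¬ Cfsg.PRankLE 2 2 ↥A) :
    ∀ t : G, orderOf t = 2 → Cfsg.centralizerPPrimeCore 2 t = ⊥ := by
  refine Scn3.cores_trivial h2c ?_ S A hAn hAab hAC hA3
  rcases (inferInstance : (Cfsg.oddCore G).Normal).eq_bot_or_eq_top with h | h
  · exact h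
  · exfalso
    apply hG
    haveI : Group.IsSolvable G := Lie.CoreFun.solvable_of_odd (by
      have h2 := Fusion.card_pPrimeCore_coprime 2 G
      rw [show Cfsg.pPrimeCore 2 G = ⊤ from h, Subgroup.card_top] at h2
      exact Nat.coprime_two_right.1 h2)
    exact ⟨⟨IsSimpleGroup.comm_iff_isSolvable.2 inferInstance⟩⟩

end Cfsg.Agent.S3109
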