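import Cfsg.Statements.S3110
import Cfsg.Agent.Lib.Lie.CoreFunctor

set_option autoImplicit false
open Cfsg Cfsg.Agent Cfsg.Agent.Fusion

namespace Cfsg.Agent.S3110

theorem result {G : Type*} [Group G] [Finite G]
    (h2c : ∀ T : Subgroup G, IsPGroup 2 T → T ≠ ⊥ → Cfsg.IsPConstrained 2 ↥(Subgroup.normalizer (T : Set G)))
    (S : Sylow 2 G) (A : Subgroup ↥(S : Subgroup G)) (hAn : A.Normal) (hAab : IsMulCommutative ↥A)
    (hAC : Subgroup.centralizer (A : Set ↥(S : Subgroup G)) = A) (hA3 : ¬ Cfsg.PRankLE 2 2 ↥A) (S' : Sylow 2 G) :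
    ∃ W : Subgroup G, Odd (Nat.card ↥W) ∧
      ∀ B : Subgroup G, B ≤ (S' : Subgroup G) → ¬ Cfsg.PRankLE 2 1 ↥B →
        W = (⨆ b : {b : G // b ∈ B ∧ b ≠ 1}, Cfsg.centralizerPPrimeCore 2 (b : G)) ∧
        Subgroup.normalizer (B : Set G) ≤ Subgroup.normalizer (W : Set G) := by
  classical
  haveI : Fact (Nat.Prime 2) := ⟨Nat.prime_two⟩
  -- the involutions of A form a normal elementary subgroup of order at least eight
  obtain ⟨A', e⟩ : ∃ A' : Subgroup ↥(S' : Subgroup G), A' = A.map (S.equiv S').toMonoidHom := ⟨_, rfl⟩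
  have hA'n : A'.Normal := by
    rw [e]; exact hAn.map _ (S.equiv S').surjective
  have hA'c : IsMulCommutative ↥A' := e ▸ Fusion.isMulCommutative_map _ hAab
  obtain ⟨E, hEd⟩ : ∃ E : Subgroup ↥(S' : Subgroup G), ∀ x, x ∈ E ↔ x ∈ A' ∧ x ^ 2 = 1 :=
    ⟨{ carrier := {x | x ∈ A' ∧ x ^ 2 = 1}
       one_mem' := ⟨A'.one_mem, one_pow 2⟩
       mul_mem' := fun {x y} hx hy => ⟨A'.mul_mem hx.1 hy.1, by
         have hc : Commute x y := congrArg Subtype.val (hA'c.is_comm.comm ⟨x, hx.1⟩ ⟨y, hy.1⟩)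
         rw [hc.mul_pow, hx.2, hy.2, mul_one]⟩
       inv_mem' := fun {x} hx => ⟨A'.inv_mem hx.1, by rw [inv_pow, hx.2, inv_one]⟩ }, fun _ => Iff.rfl⟩
  haveI hEn : E.Normal := ⟨fun x hx g => (hEd _).2 ⟨hA'n.conj_mem x ((hEd x).1 hx).1 g, by
    rw [conj_pow, ((hEd x).1 hx).2, mul_one, mul_inv_cancel]⟩⟩
  have hE : Cfsg.IsElementaryAbelian 2 E := by
    refine ⟨⟨⟨fun x y => Subtype.ext ?_⟩⟩, fun x hx => ((hEd x).1 hx).2⟩
    have h := congrArg (fun w : ↥A' => (w : ↥(S' : Subgroup G)))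
      (hA'c.is_comm.comm ⟨x.1, ((hEd _).1 x.2).1⟩ ⟨y.1, ((hEd _).1 y.2).1⟩)
    simpa using h
  have hE8 : 8 ≤ Nat.card E := by
    have hA3' := hA3
    simp only [Cfsg.PRankLE, not_forall] at hA3'
    obtain ⟨B, hBc, hB2, hBcard⟩ := hA3'
    obtain ⟨k, hk⟩ := Local.elemAb_card_pow (⟨hBc, hB2⟩ : Cfsg.IsElementaryAbelian 2 B)
    have hB8 : 8 ≤ Nat.card B := by
      rw [hk] at hBcard ⊢
      exact (by norm_num : 8 ≤ 2 ^ 3).trans (Nat.pow_le_pow_right (by norm_num) (by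
        by_contra h
        exact hBcard (Nat.pow_le_pow_right (by norm_num) (by omega))))
    refine hB8.trans (Nat.card_le_card_of_injective
      (fun b : ↥B => (⟨(S.equiv S') (b.1 : ↥(S : Subgroup G)), (hEd _).2 ⟨?_, ?_⟩⟩ : ↥E)) ?_)
    · rw [e]; exact ⟨_, b.1.2, rfl⟩
    · rw [← map_pow, show (b.1 : ↥(S : Subgroup G)) ^ 2 = 1 from congrArg Subtype.val (hB2 _ b.2), map_one]
    · exact fun b c hbc => Subtype.ext (Subtype.ext ((S.equiv S').injective (congrArg Subtype.val hbc)))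
  have hEm : Cfsg.IsElementaryAbelian 2 (E.map (S' : Subgroup G).subtype) := by
    refine ⟨Fusion.isMulCommutative_map _ hE.1, ?_⟩
    rintro _ ⟨x, hx, rfl⟩
    rw [← map_pow, hE.2 x hx, map_one]
  refine ⟨Lie.CoreFun.Wc (E.map (S' : Subgroup G).subtype), Lie.CoreFun.Wc_odd h2c hEm (by
    rw [Subgroup.card_map_of_injective (S' : Subgroup G).subtype_injective]; exact hE8), fun B hB hB1 => ?_⟩
  have hB1' := hB1
  simp only [Cfsg.PRankLE, not_forall] at hB1'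
  obtain ⟨U₀, hUc, hU2, hUcard⟩ := hB1'
  obtain ⟨k, hk⟩ := Local.elemAb_card_pow (⟨hUc, hU2⟩ : Cfsg.IsElementaryAbelian 2 U₀)
  obtain ⟨U₁, -, hU10, hU14⟩ := Local.exists_subgroup_two_pow (⟨hUc, hU2⟩ : Cfsg.IsElementaryAbelian 2 U₀)
    (S := ⊥) bot_le (n := 0) (m := 2) (by simp) (by norm_num) (by
      rw [hk] at hUcard ⊢
      exact Nat.pow_le_pow_right (by norm_num) (by
        by_contra h
        exact hUcard (Nat.pow_le_pow_right (by norm_num) (by omega))))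
  obtain ⟨U, hUd⟩ : ∃ U : Subgroup ↥(S' : Subgroup G), U = U₁.map (Subgroup.inclusion hB) := ⟨_, rfl⟩
  have hUK : IsKleinFour U := by
    refine Local.elemAb_isKleinFour ⟨hUd ▸ Fusion.isMulCommutative_map _
      (Local.elemAb_mono (⟨hUc, hU2⟩ : Cfsg.IsElementaryAbelian 2 U₀) hU10).1, ?_⟩ ?_
    · rw [hUd]
      rintro _ ⟨x, hx, rfl⟩
      rw [← map_pow, hU2 x (hU10 hx), map_one]
    · rw [hUd, Subgroup.card_map_of_injective (Subgroup.inclusion_injective hB)]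
      simpa using hU14
  have hW : Lie.CoreFun.Wc (E.map (S' : Subgroup G).subtype) =
      ⨆ b : {b : G // b ∈ B ∧ b ≠ 1}, Cfsg.centralizerPPrimeCore 2 (b : G) := by
    refine le_antisymm ?_ (iSup_le fun b => ?_)
    · rw [← Lie.CoreFun.Wc_four h2c _ S'.isPGroup' E hE hE8 U hUK]
      refine iSup_le fun u => le_iSup_of_le ⟨u.1, ?_, u.2.2⟩ le_rfl
      obtain ⟨_, hx, hxu⟩ := u.2.1
      rw [hUd] at hx
      obtain ⟨y, -, rfl⟩ := hx
      rw [← hxu]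
      exact y.2
    · obtain ⟨b, hbB, hb1⟩ := b
      obtain ⟨n, hn⟩ : ∃ n, orderOf b = 2 ^ n := by
        obtain ⟨n, hn⟩ := IsPGroup.iff_orderOf.1 S'.isPGroup' ⟨b, hB hbB⟩
        exact ⟨n, by rw [← hn, Subgroup.orderOf_mk]⟩
      obtain ⟨m, rfl⟩ : ∃ m, n = m + 1 := Nat.exists_eq_succ_of_ne_zero (by
        rintro rfl; exact hb1 (orderOf_eq_one_iff.1 (by simpa using hn)))
      have hj : orderOf (b ^ 2 ^ m) = 2 := by
        rw [orderOf_pow, hn, Nat.gcd_eq_right (pow_dvd_pow 2 (Nat.le_succ m)), pow_succ,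
          Nat.mul_div_cancel_left _ (Nat.two_pow_pos m)]
      have hcb : b * b ^ 2 ^ m = b ^ 2 ^ m * b := (Commute.refl b).pow_right _ |>.eq
      have hle : Cfsg.centralizerPPrimeCore 2 b ≤ Cfsg.centralizerPPrimeCore 2 (b ^ 2 ^ m) := by
        intro x hx
        refine Lie.CoreFun.core_balance_two h2c ⟨_, hn⟩ hj hcb ⟨hx, ?_⟩
        exact Subgroup.mem_centralizer_singleton_iff.2 ((show Commute x b from
          Subgroup.mem_centralizer_singleton_iff.1 (SSF.Opc_le 2 _ hx)).pow_right _).eq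
      exact hle.trans (Lie.CoreFun.core_le_Wc h2c _ S'.isPGroup' E hE hE8
        ⟨b ^ 2 ^ m, (S' : Subgroup G).pow_mem (hB hbB) _⟩ (by rw [Subgroup.orderOf_mk]; exact hj))
  refine ⟨hW, fun n hn => ?_⟩
  rw [hW]
  refine mem_normalizer_of_cj_le ?_
  rw [cj, Subgroup.map_iSup]
  refine iSup_le fun b => ?_
  rw [← Lie.CoreFun.core_equivariant]
  exact le_iSup (fun c : {c : G // c ∈ B ∧ c ≠ 1} => Cfsg.centralizerPPrimeCore 2 (c : G))
    ⟨n * b.1 * n⁻¹, (Subgroup.mem_normalizer_iff.1 hn _).1 b.2.1, fun h => b.2.2 (conj_eq_one_iff.1 h)⟩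

end Cfsg.Agent.S3110
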