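import Cfsg.Statements.S3113
import Cfsg.Agent.Lib.Fusion.Product.DihFourMain

set_option autoImplicit false
open Cfsg

namespace Cfsg.Agent.S3113

open StrongProd

universe u

variable {G : Type u} [Group G] [Finite G]

theorem four_of_dih {D : Subgroup G} {m : ℕ} (hm : m = 2) (φ : D ≃* DihedralGroup m) :
    Nat.card D = 4 ∧ ∀ v ∈ D, v * v = 1 := by
  subst hm
  refine ⟨by rw [Nat.card_congr φ.toEquiv, DihedralGroup.nat_card], fun v hv => ?_⟩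
  have h : (⟨v, hv⟩ : D) * ⟨v, hv⟩ = 1 := φ.injective (by
    rw [map_mul, map_one]
    generalize φ ⟨v, hv⟩ = x
    revert x
    decide)
  exact congrArg Subtype.val h

theorem mixed (hO : Cfsg.oddCore G = ⊥) (h2 : ∀ N : Subgroup G, N.Normal → N.index ≠ 2) (S : Sylow 2 G)
    {D V : Subgroup G} (hD : Cfsg.IsInternalDirectProduct D V (S : Subgroup G)) {m k : ℕ} (hm : 3 ≤ m)
    (φ : D ≃* DihedralGroup m) (hk : k = 2) (ψ : V ≃* DihedralGroup k) :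
    ∃ S₁ S₂ : Subgroup G, Cfsg.IsInternalDirectProduct S₁ S₂ (S : Subgroup G) ∧
      Nonempty (S₁ ≃* D) ∧ Nonempty (S₂ ≃* V) ∧
      Cfsg.IsStronglyClosed S₁ (S : Subgroup G) ∧ Cfsg.IsStronglyClosed S₂ (S : Subgroup G) := by
  obtain ⟨r, n, h⟩ := exists_dih (S.isPGroup'.to_le hD.1) hm φ
  obtain ⟨hcard, hsq⟩ := four_of_dih hk ψ
  exact FFrame.exists_closed (⟨hD, h, hcard, hsq, h2⟩ : FFrame S D V r n) hO

theorem swap_prod {A B S : Subgroup G} (h : Cfsg.IsInternalDirectProduct A B S) :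
    Cfsg.IsInternalDirectProduct B A S :=
  ⟨h.2.1, h.1, fun a ha b hb => (h.2.2.1 b hb a ha).symm, by rw [inf_comm]; exact h.2.2.2.1,
    by rw [sup_comm]; exact h.2.2.2.2⟩

theorem closed_factors (hO : Cfsg.oddCore G = ⊥) (h2 : ∀ N : Subgroup G, N.Normal → N.index ≠ 2)
    (S : Sylow 2 G) (hS : ¬ IsMulCommutative ↥(S : Subgroup G)) {D₁ D₂ : Subgroup G}
    (hD : Cfsg.IsInternalDirectProduct D₁ D₂ (S : Subgroup G)) {m₁ m₂ : ℕ} (hm₁ : 2 ≤ m₁) (hm₂ : 2 ≤ m₂)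
    (φ₁ : D₁ ≃* DihedralGroup m₁) (φ₂ : D₂ ≃* DihedralGroup m₂) :
    ∃ S₁ S₂ : Subgroup G, Cfsg.IsInternalDirectProduct S₁ S₂ (S : Subgroup G) ∧
      Nonempty (S₁ ≃* D₁) ∧ Nonempty (S₂ ≃* D₂) ∧
      Cfsg.IsStronglyClosed S₁ (S : Subgroup G) ∧ Cfsg.IsStronglyClosed S₂ (S : Subgroup G) := by
  rcases eq_or_lt_of_le hm₁ with e₁ | e₁ <;> rcases eq_or_lt_of_le hm₂ with e₂ | e₂
  · exfalso
    obtain ⟨-, hs₁⟩ := four_of_dih e₁.symm φ₁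
    obtain ⟨-, hs₂⟩ := four_of_dih e₂.symm φ₂
    refine hS ⟨⟨fun a b => Subtype.ext ?_⟩⟩
    have hle : (S : Subgroup G) ≤ Subgroup.centralizer ((S : Subgroup G) : Set G) := by
      rw [← hD.2.2.2.2]
      refine sup_le ?_ ?_
      · rw [Subgroup.le_centralizer_iff]
        refine sup_le (fun x hx => Subgroup.mem_centralizer_iff.2 fun y hy => ?_)
          fun x hx => Subgroup.mem_centralizer_iff.2 fun y hy => hD.2.2.1 y hy x hx
        exact commute_of_sq hs₁ hy hx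
      · rw [Subgroup.le_centralizer_iff]
        refine sup_le (fun x hx => Subgroup.mem_centralizer_iff.2 fun y hy => (hD.2.2.1 x hx y hy).symm)
          fun x hx => Subgroup.mem_centralizer_iff.2 fun y hy => ?_
        exact commute_of_sq hs₂ hy hx
    exact (Subgroup.mem_centralizer_iff.1 (hle b.2) a a.2)
  · obtain ⟨S₁, S₂, h, i₁, i₂, c₁, c₂⟩ := mixed hO h2 S (swap_prod hD) e₂ φ₂ e₁.symm φ₁
    exact ⟨S₂, S₁, swap_prod h, i₂, i₁, c₂, c₁⟩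
  · exact mixed hO h2 S hD e₁ φ₁ e₂.symm φ₂
  · obtain ⟨r₁, n₁, h₁⟩ := exists_dih (S.isPGroup'.to_le hD.1) e₁ φ₁
    obtain ⟨r₂, n₂, h₂'⟩ := exists_dih (S.isPGroup'.to_le hD.2.1) e₂ φ₂
    exact Frame.exists_closed (⟨hD, h₁, h₂', h2⟩ : Frame S D₁ D₂ r₁ r₂ n₁ n₂)

/-- Let G be a finite group with no nontrivial normal subgroup of odd order, no proper normal subgroup of odd index and no normal subgroup of index 2, whose Sylow 2-subgroup S is non-abelian and is the internal direct product of two dihedral subgroups (each of order at least 4). Then G is the internal direct product of two normal subgroups G₁ and G₂, and for a suitable such factorization of S into dihedral subgroups S₁ × S₂ the factor Sᵢ is a Sylow 2-subgroup of Gᵢ for i = 1, 2. -/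
theorem result {G : Type*} [Group G] [Finite G] (hO : Cfsg.oddCore G = ⊥) (hidx : ∀ N : Subgroup G, N.Normal → Odd N.index → N = ⊤)
    (h2 : ∀ N : Subgroup G, N.Normal → N.index ≠ 2)
    (S : Sylow 2 G) (hS : ¬ IsMulCommutative ↥(S : Subgroup G))
    (D₁ D₂ : Subgroup G) (hD : Cfsg.IsInternalDirectProduct D₁ D₂ (S : Subgroup G))
    (hD₁ : ∃ m : ℕ, 2 ≤ m ∧ Nonempty (↥D₁ ≃* DihedralGroup m)) (hD₂ : ∃ m : ℕ, 2 ≤ m ∧ Nonempty (↥D₂ ≃* DihedralGroup m)) :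
    ∃ G₁ G₂ : Subgroup G, G₁.Normal ∧ G₂.Normal ∧ Cfsg.IsInternalDirectProduct G₁ G₂ ⊤ ∧
      ∃ S₁ S₂ : Subgroup G, Cfsg.IsInternalDirectProduct S₁ S₂ (S : Subgroup G) ∧
        (∃ m : ℕ, 2 ≤ m ∧ Nonempty (↥S₁ ≃* DihedralGroup m)) ∧ (∃ m : ℕ, 2 ≤ m ∧ Nonempty (↥S₂ ≃* DihedralGroup m)) ∧
        S₁ ≤ G₁ ∧ S₂ ≤ G₂ ∧ ¬ (2 ∣ (S₁.subgroupOf G₁).index) ∧ ¬ (2 ∣ (S₂.subgroupOf G₂).index) := by
  obtain ⟨m₁, hm₁, ⟨φ₁⟩⟩ := hD₁
  obtain ⟨m₂, hm₂, ⟨φ₂⟩⟩ := hD₂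
  obtain ⟨S₁, S₂, hS', ⟨i₁⟩, ⟨i₂⟩, c₁, c₂⟩ := closed_factors hO h2 S hS hD hm₁ hm₂ φ₁ φ₂
  obtain ⟨hprod, o₁, o₂⟩ := internal_product hO hidx c₁ c₂ hS'.2.2.2.1 hS'.2.2.2.2
  refine ⟨_, _, Subgroup.normalClosure_normal, Subgroup.normalClosure_normal, hprod, S₁, S₂, hS',
    ⟨m₁, hm₁, ⟨i₁.trans φ₁⟩⟩, ⟨m₂, hm₂, ⟨i₂.trans φ₂⟩⟩, Subgroup.subset_normalClosure,
    Subgroup.subset_normalClosure, ?_, ?_⟩
  · exact fun h => (Nat.not_even_iff_odd.2 o₁) (even_iff_two_dvd.2 h)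
  · exact fun h => (Nat.not_even_iff_odd.2 o₂) (even_iff_two_dvd.2 h)

end Cfsg.Agent.S3113
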