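import Cfsg.Statements.S3116
import Cfsg.Agent.Lib.Small.AutTwoGroup
-- import your own Cfsg.Agent.* helpers here

set_option autoImplicit false
open Cfsg

namespace Cfsg.Agent.S3116

/-- The automorphism group of a dihedral 2-group of order at least 8, or of a quasi-dihedral (semidihedral) 2-group of order at least 16, is a 2-group. -/
theorem result {X : Type*} [Group X] [Finite X] (h2 : IsPGroup 2 X)
    (h : (∃ n : ℕ, 4 ≤ n ∧ Nonempty (X ≃* DihedralGroup n)) ∨ Cfsg.IsQuasiDihedral X) : IsPGroup 2 (MulAut X) := by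
  have : Fact (Nat.Prime 2) := ⟨Nat.prime_two⟩
  rcases h with ⟨n, hn, ⟨e⟩⟩ | ⟨n, hn, hcard, x, y, hx, hy, hxy⟩
  · have : NeZero n := ⟨by omega⟩
    obtain ⟨t, ht⟩ := IsPGroup.iff_card.1 h2
    rw [Nat.card_congr e.toEquiv, DihedralGroup.nat_card] at ht
    obtain ⟨k, rfl⟩ : ∃ k, t = k + 1 := ⟨t - 1, by
      rcases t with _ | t
      · simp at ht
      · simp⟩
    have hnk : n = 2 ^ k := by rw [pow_succ] at ht; omega
    have hk : 1 ≤ k := by
      rcases k with _ | k
      · simp at hnk; omega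
      · omega
    refine Cfsg.Agent.Small.AutTwoGroup.isPGroup_mulAut (e.symm (DihedralGroup.r 1)) hk ?_ ?_ ?_
    · rw [MulEquiv.orderOf_eq, DihedralGroup.orderOf_r_one, hnk]
    · rw [Nat.card_congr e.toEquiv, DihedralGroup.nat_card, hnk, pow_succ]; ring
    · intro z hz
      rw [← e.orderOf_eq] at hz
      rcases hez : e z with i | i
      · refine ⟨(i.val : ℤ), ?_⟩
        show e.symm (DihedralGroup.r 1) ^ (i.val : ℤ) = z
        rw [zpow_natCast, ← map_pow, DihedralGroup.r_one_pow, ZMod.natCast_zmod_val, ← hez,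
          MulEquiv.symm_apply_apply]
      · rw [hez, DihedralGroup.orderOf_sr, ← hnk] at hz
        omega
  · refine Cfsg.Agent.Small.AutTwoGroup.isPGroup_mulAut x (by omega) hx hcard ?_
    intro z hz
    by_contra hzx
    have hyi : y⁻¹ = y := inv_eq_of_mul_eq_one_right (by rw [← pow_two, ← hy, pow_orderOf_eq_one])
    have hidx : (Subgroup.zpowers x).index = 2 := by
      have h := (Subgroup.zpowers x).card_mul_index
      rw [Nat.card_zpowers, hx, hcard, pow_succ] at h
      exact Nat.eq_of_mul_eq_mul_left (by positivity) h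
    have hlow : 4 ≤ 2 ^ (n - 1) := le_trans (by norm_num) (Nat.pow_le_pow_right (show 0 < 2 by norm_num) (show 2 ≤ n - 1 by omega))
    have hsplit : 2 ^ n = 2 ^ (n - 1) * 2 := by rw [← pow_succ]; congr 1; omega
    have hyx : y ∉ Subgroup.zpowers x := by
      rintro ⟨j, rfl⟩
      have h' : x ^ 1 = x ^ (2 ^ (n - 1) - 1) := by
        rw [pow_one, ← hxy]
        exact (mul_inv_eq_of_eq_mul ((Commute.self_zpow x j).eq.symm)).symm
      have := Nat.ModEq.eq_of_lt_of_lt (pow_eq_pow_iff_modEq.1 h') (by rw [hx, hsplit]; omega)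
        (by rw [hx, hsplit]; omega)
      omega
    have hmem : y * z ∈ Subgroup.zpowers x := by
      rw [Subgroup.mul_mem_iff_of_index_two hidx]
      exact ⟨fun h => absurd h hyx, fun h => absurd h hzx⟩
    obtain ⟨j, hj⟩ := hmem
    simp only at hj
    have hz' : z = y * x ^ j := by
      rw [hj, ← mul_assoc]
      nth_rw 1 [← hyi]
      rw [inv_mul_cancel, one_mul]
    have h4 : z ^ 4 = 1 := by
      have hsq : z * z = x ^ (((2 ^ (n - 1) : ℕ) : ℤ) * j) := by
        have hconj : y * x ^ j * y⁻¹ = (x ^ (2 ^ (n - 1) - 1)) ^ j := by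
          rw [← hxy, ← MulAut.conj_apply, map_zpow, MulAut.conj_apply]
        calc z * z = y * x ^ j * y⁻¹ * x ^ j := by rw [hz', hyi, mul_assoc (y * x ^ j) y]
          _ = x ^ (((2 ^ (n - 1) : ℕ) : ℤ) * j) := by
              rw [hconj, ← zpow_natCast x, ← zpow_mul, ← _root_.zpow_add, Nat.cast_sub (by omega)]
              congr 1
              push_cast
              ring
      have : z ^ 4 = (z * z) * (z * z) := by simp only [pow_succ, pow_zero, one_mul, mul_assoc]
      rw [this, hsq, ← _root_.zpow_add, show ((2 ^ (n - 1) : ℕ) : ℤ) * j + ((2 ^ (n - 1) : ℕ) : ℤ) * j =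
        ((2 ^ n : ℕ) : ℤ) * j by rw [hsplit]; push_cast; ring, zpow_mul, zpow_natCast, ← hx,
        pow_orderOf_eq_one, one_zpow]
    have := Nat.le_of_dvd (by norm_num) (orderOf_dvd_of_pow_eq_one h4)
    rw [hz] at this
    omega

end Cfsg.Agent.S3116
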