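import Cfsg.Statements.S3117
import Cfsg.Agent.Lib.Lie.ThreeInvolutionsAut

set_option autoImplicit false
open Cfsg

namespace Cfsg.Agent.S3117

/-- If X is a finite 2-group containing exactly three involutions, then the automorphism group of X is solvable. -/
theorem result {X : Type*} [Group X] [Finite X] (h2 : IsPGroup 2 X) (h3 : Nat.card {x : X // orderOf x = 2} = 3) : Group.IsSolvable (MulAut X) := by
  classical
  refine Cfsg.Agent.Lie.ThreeInv.solvable_mulAut h2 ?_
  refine le_trans (Nat.card_le_card_of_injective (β := Option {x : X // orderOf x = 2})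
    (fun x : {x : X // x * x = 1} => if h : orderOf x.1 = 2 then some ⟨x.1, h⟩ else none) ?_)
    (by rw [Finite.card_option, h3])
  intro a b e
  have hone : ∀ c : {x : X // x * x = 1}, ¬ orderOf c.1 = 2 → c.1 = 1 := fun c hc => by
    rcases (Nat.dvd_prime Nat.prime_two).1 (orderOf_dvd_of_pow_eq_one (show c.1 ^ 2 = 1 by rw [pow_two]; exact c.2)) with h | h
    · exact orderOf_eq_one_iff.1 h
    · exact absurd h hc
  by_cases ha : orderOf a.1 = 2 <;> by_cases hb : orderOf b.1 = 2 <;> simp [ha, hb] at e
  · exact Subtype.ext e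
  · exact Subtype.ext ((hone a ha).trans (hone b hb).symm)

end Cfsg.Agent.S3117
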