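import Cfsg.Statements.S3149
import Cfsg.Agent.Lib.Spor.RuStandard.Fusion

set_option autoImplicit false
open Cfsg

namespace Cfsg.Agent.S3149

/-- Let G be a finite group with no nontrivial normal subgroup of odd order and A a standard subgroup of G which is a double cover of the Rudvalis group (the centre of A has order 2 and A modulo its centre is isomorphic to the Rudvalis group). If the centralizer of A in G has cyclic Sylow 2-subgroups, then A is normal in G. -/
theorem result {G : Type*} [Group G] [Finite G] (hO : Cfsg.oddCore G = ⊥) (A : Subgroup G) (hA : Cfsg.IsStandardSubgroup A)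
    (hZ : Nat.card ↥(Subgroup.center ↥A) = 2) (hAX : Cfsg.Spor.IsoRu (↥A ⧸ Subgroup.center ↥A))
    (hR : ∀ R : Sylow 2 ↥(Subgroup.centralizer (A : Set G)), IsCyclic ↥(R : Subgroup ↥(Subgroup.centralizer (A : Set G)))) : A.Normal := by
  obtain ⟨e⟩ := Cfsg.Agent.Spor.RuStandard.exists_equiv hA.1.1 hZ hAX
  obtain ⟨S, -, hnz⟩ := Cfsg.Agent.Spor.DoubleCoverStandard.exists_comp A hA
    Cfsg.Agent.Spor.RuStandard.zEl_centre Cfsg.Agent.Spor.RuStandard.dcov_aut_inner e hR
  obtain ⟨g, hg⟩ := Cfsg.Agent.Spor.RuMult.exists_acts Cfsg.Agent.Spor.RuMult.two_dvalid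
  exact S.normal_of_isolated hO hnz fun y hy => Cfsg.Agent.Spor.RuStandard.fused_eq hg S hy

end Cfsg.Agent.S3149
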