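import Cfsg.Statements.S3150
import Cfsg.Agent.Lib.Spor.CoZeroStandard.Fusion
import Cfsg.Agent.Lib.Fusion.IsolatedInvolution
import Cfsg.Agent.Lib.Fusion.Cores
import Cfsg.Agent.S0215

set_option autoImplicit false
open Cfsg

namespace Cfsg.Agent.S3150

/-- Let G be a finite group with no nontrivial normal subgroup of odd order and A a standard subgroup of G isomorphic to the automorphism group of the Leech lattice (the double cover of the first Conway group). If the centralizer of A in G has cyclic Sylow 2-subgroups, then A is normal in G. -/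
theorem result {G : Type*} [Group G] [Finite G] (hO : Cfsg.oddCore G = ⊥) (A : Subgroup G) (hA : Cfsg.IsStandardSubgroup A)
    (hAX : Nonempty (↥A ≃* ↥Cfsg.Co0)) (hR : ∀ R : Sylow 2 ↥(Subgroup.centralizer (A : Set G)), IsCyclic ↥(R : Subgroup ↥(Subgroup.centralizer (A : Set G)))) : A.Normal := by
  obtain ⟨e⟩ := hAX
  obtain ⟨S, -, hnz⟩ := Cfsg.Agent.Spor.CoZeroStandard.exists_comp A hA e hR
  have hz : Cfsg.IsIsolatedInvolution S.z := by
    haveI : Fact (Nat.Prime 2) := ⟨Nat.prime_two⟩
    exact ⟨orderOf_eq_prime (by rw [sq, S.z_sq]) S.z_ne, fun g hg => S.isolated g hg⟩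
  obtain ⟨P, hP, hiso⟩ := Cfsg.Agent.Fusion.isolated_sylow hz
  obtain ⟨N, hN, hodd, hcomm⟩ := Cfsg.Agent.S0215.result P S.z hz.1 hP hiso
  have hbot : N = ⊥ := by
    haveI := hN
    have h := Cfsg.Agent.Fusion.le_pPrimeCore (p := 2) (N := N) hodd.coprime_two_right
    exact le_bot_iff.1 (h.trans hO.le)
  rw [← Subgroup.normalizer_eq_top_iff]
  refine eq_top_iff.2 fun g _ => hnz g ?_
  have h := hcomm g
  rw [hbot, Subgroup.mem_bot] at h
  show g * S.z = S.z * g
  have h2 : S.z * g = g * S.z := by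
    calc S.z * g = (S.z * g * S.z⁻¹ * g⁻¹) * (g * S.z) := by group
      _ = g * S.z := by rw [h, one_mul]
  exact h2.symm

end Cfsg.Agent.S3150
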