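import Cfsg.Statements.S3154
import Cfsg.Agent.Lib.Lie.TwoCoverSixteen

set_option autoImplicit false
open Cfsg

namespace Cfsg.Agent.S3154

open Cfsg.Agent.Small Cfsg.Agent.Lie.TwoCoverSixteen

/-- Let X be a finite quasisimple group whose centre is an elementary abelian 2-group and whose central quotient is isomorphic to the projective special linear group of dimension 3 over the field with 4 elements. Let T be a Sylow 2-subgroup of X and H ≠ K subgroups of T containing the centre Z(X) whose images in X/Z(X) are elementary abelian of order 16 (the two such subgroups of a Sylow 2-subgroup of the quotient). Then H and K are elementary abelian, H ∩ K is the centre of the subgroup they generate, and each of N_X(H), N_X(K) is a split extension of H, respectively K, by the projective special linear group of dimension 2 over the field with 4 elements (there is a complement isomorphic to that group). -/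
theorem result {X : Type*} [Group X] [Finite X] (hq : Cfsg.IsQuasisimple X) (hZ : Cfsg.IsElementaryAbelian 2 (Subgroup.center X))
    {F : Type*} [Field F] [Fintype F] (hF : Fintype.card F = 4) (hXL : Nonempty ((X ⧸ Subgroup.center X) ≃* Matrix.ProjectiveSpecialLinearGroup (Fin 3) F))
    (T : Sylow 2 X) (H K : Subgroup X) (hHK : H ≠ K) (hHT : H ≤ T) (hKT : K ≤ T) (hZH : Subgroup.center X ≤ H) (hZK : Subgroup.center X ≤ K)
    (hH : Cfsg.IsElementaryAbelian 2 (H.map (QuotientGroup.mk' (Subgroup.center X))) ∧ Nat.card ↥(H.map (QuotientGroup.mk' (Subgroup.center X))) = 16)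
    (hK : Cfsg.IsElementaryAbelian 2 (K.map (QuotientGroup.mk' (Subgroup.center X))) ∧ Nat.card ↥(K.map (QuotientGroup.mk' (Subgroup.center X))) = 16) :
    Cfsg.IsElementaryAbelian 2 H ∧ Cfsg.IsElementaryAbelian 2 K ∧
      H ⊓ K = (Subgroup.center ↥(H ⊔ K)).map (H ⊔ K).subtype ∧
      (∃ C : Subgroup X, C ≤ Subgroup.normalizer (H : Set X) ∧ C ⊓ H = ⊥ ∧ H ⊔ C = Subgroup.normalizer (H : Set X) ∧
        Nonempty (↥C ≃* Matrix.ProjectiveSpecialLinearGroup (Fin 2) F)) ∧
      (∃ C : Subgroup X, C ≤ Subgroup.normalizer (K : Set X) ∧ C ⊓ K = ⊥ ∧ K ⊔ C = Subgroup.normalizer (K : Set X) ∧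
        Nonempty (↥C ≃* Matrix.ProjectiveSpecialLinearGroup (Fin 2) F)) := by
  classical
  obtain ⟨e⟩ := hXL
  haveI : Finite (Matrix.ProjectiveSpecialLinearGroup (Fin 3) F) := Finite.of_equiv _ e.toEquiv
  haveI : Fact (Nat.Prime 2) := ⟨Nat.prime_two⟩
  have hF' : Fintype.card F = 2 ^ 2 := by rw [hF]; norm_num
  let π₀ : X →* Matrix.ProjectiveSpecialLinearGroup (Fin 3) F :=
    e.toMonoidHom.comp (QuotientGroup.mk' (Subgroup.center X))
  have hs₀ : Function.Surjective π₀ := e.surjective.comp (QuotientGroup.mk'_surjective _)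
  obtain ⟨g, hg⟩ := MulAction.exists_smul_eq (Matrix.ProjectiveSpecialLinearGroup (Fin 3) F)
    (T.mapSurjective hs₀) (PSLn.sylU (n := 3) (p := 2) (f := 2) one_le_two hF')
  let ε : (X ⧸ Subgroup.center X) ≃* Matrix.ProjectiveSpecialLinearGroup (Fin 3) F :=
    e.trans (MulAut.conj g)
  let π : X →* Matrix.ProjectiveSpecialLinearGroup (Fin 3) F :=
    ε.toMonoidHom.comp (QuotientGroup.mk' (Subgroup.center X))
  have hs : Function.Surjective π := ε.surjective.comp (QuotientGroup.mk'_surjective _)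
  have hker : π.ker = Subgroup.center X := by
    ext x
    simp [π, MonoidHom.mem_ker]
  have hT : (T : Subgroup X).map π = PSLn.U 3 F := by
    have h : ((T.mapSurjective hs₀ : Sylow 2 (Matrix.ProjectiveSpecialLinearGroup (Fin 3) F)) :
        Subgroup (Matrix.ProjectiveSpecialLinearGroup (Fin 3) F)).map (MulAut.conj g).toMonoidHom =
        PSLn.U 3 F :=
      congrArg (fun S : Sylow 2 (Matrix.ProjectiveSpecialLinearGroup (Fin 3) F) =>
        (S : Subgroup (Matrix.ProjectiveSpecialLinearGroup (Fin 3) F))) hg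
    rw [← h, Sylow.coe_mapSurjective, Subgroup.map_map]
    rfl
  have hc : π.ker ≤ Subgroup.center X := hker.le
  have h2 : ∀ z ∈ π.ker, z * z = 1 := fun z hz => by
    rw [← pow_two]; exact hZ.2 z (hker ▸ hz)
  have hkH : π.ker ≤ H := hker ▸ hZH
  have hkK : π.ker ≤ K := hker ▸ hZK
  have hkT : π.ker ≤ (T : Subgroup X) := hkH.trans hHT
  have himage : ∀ L : Subgroup X, L ≤ (T : Subgroup X) →
      (Cfsg.IsElementaryAbelian 2 (L.map (QuotientGroup.mk' (Subgroup.center X))) ∧
        Nat.card ↥(L.map (QuotientGroup.mk' (Subgroup.center X))) = 16) →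
      L.map π = R F ∨ L.map π = (R F).map (theta F).toMonoidHom := by
    intro L hLT hL
    refine classify hF _ (hT ▸ Subgroup.map_mono hLT) ?_ ?_
    · rintro _ ⟨x, hx, rfl⟩
      have := congrArg ε (hL.1.2 _ (Subgroup.mem_map_of_mem _ hx))
      rwa [map_pow, map_one] at this
    · rw [show L.map π = (L.map (QuotientGroup.mk' (Subgroup.center X))).map ε.toMonoidHom from
        (Subgroup.map_map _ _ _).symm,
        ← Nat.card_congr (Subgroup.equivMapOfInjective _ _ ε.injective).toEquiv]
      exact hL.2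
  have hinj : H.map π ≠ K.map π := fun h => hHK (by
    rw [← Subgroup.comap_map_eq_self hkH, h, Subgroup.comap_map_eq_self hkK])
  -- one of the two has image `R`
  wlog hHR : H.map π = R F generalizing H K with key
  · have hKR : K.map π = R F := by
      rcases himage K hKT hK with h | h
      · exact h
      · exact absurd ((himage H hHT hH).resolve_left hHR) (fun h' => hinj (h'.trans h.symm))
    obtain ⟨a, b, c, d, f⟩ := key K H hHK.symm hKT hHT hZK hZH hK hH hkK hkH hinj.symm hKR
    exact ⟨b, a, by rw [inf_comm, sup_comm H K]; exact c, f, d⟩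
  have hKC : K.map π = (R F).map (theta F).toMonoidHom :=
    (himage K hKT hK).resolve_left (fun h => hinj (hHR.trans h.symm))
  let π' : X →* Matrix.ProjectiveSpecialLinearGroup (Fin 3) F := (theta F).toMonoidHom.comp π
  have hker' : π'.ker = π.ker := by
    ext x
    simp [π', MonoidHom.mem_ker]
  have hs' : Function.Surjective π' := (theta F).surjective.comp hs
  have hc' : π'.ker ≤ Subgroup.center X := hker' ▸ hc
  have h2' : ∀ z ∈ π'.ker, z * z = 1 := hker' ▸ h2
  have hT' : (T : Subgroup X).map π' = PSLn.U 3 F := by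
    rw [← Subgroup.map_map, hT, map_theta_U hF]
  have hK' : K.map π' = R F := by rw [← Subgroup.map_map, hKC, map_theta_theta_R hF]
  have hH' : H.map π' = (R F).map (theta F).toMonoidHom := by rw [← Subgroup.map_map, hHR]
  obtain ⟨habH, hsqH⟩ := elementary hF π hs hc h2 H hkH hHR
  obtain ⟨habK, hsqK⟩ := elementary hF π' hs' hc' h2' K (hker' ▸ hkK) hK'
  refine ⟨⟨⟨⟨fun a b => Subtype.ext (habH _ a.2 _ b.2)⟩⟩, hsqH⟩,
    ⟨⟨⟨fun a b => Subtype.ext (habK _ a.2 _ b.2)⟩⟩, hsqK⟩, ?_,
    split hF π hs hc h2 H hkH hHR T hT hkT K hkK hKC habK,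
    split hF π' hs' hc' h2' K (hker' ▸ hkK) hK' T hT' (hker' ▸ hkT) H (hker' ▸ hkH) hH' habH⟩
  apply le_antisymm
  · rintro x ⟨hxH, hxK⟩
    have hcen : H ⊔ K ≤ Subgroup.centralizer {x} := sup_le
      (fun y hy => Subgroup.mem_centralizer_singleton_iff.2 (habH _ hy _ hxH))
      (fun y hy => Subgroup.mem_centralizer_singleton_iff.2 (habK _ hy _ hxK))
    refine ⟨⟨x, Subgroup.mem_sup_left hxH⟩, Subgroup.mem_center_iff.2 fun y => Subtype.ext ?_, rfl⟩
    exact Subgroup.mem_centralizer_singleton_iff.1 (hcen y.2)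
  · rintro _ ⟨⟨x, hx⟩, hxc, rfl⟩
    obtain ⟨l, n, m, e'⟩ := (mem_U_iff (π x)).1 (hT ▸ ⟨x, sup_le hHT hKT hx, rfl⟩)
    have hcomm : ∀ y ∈ H ⊔ K, π y * π x = π x * π y := fun y hy => by
      rw [← map_mul, ← map_mul]
      exact congrArg π (congrArg Subtype.val (Subgroup.mem_center_iff.1 hxc ⟨y, hy⟩))
    obtain ⟨a, haH, ha⟩ : pU (1 : F) 0 0 ∈ H.map π := by rw [hHR]; exact ⟨1, 0, rfl⟩
    obtain ⟨b, hbK, hb⟩ : pU (0 : F) 0 1 ∈ K.map π := by
      rw [hKC]; exact (mem_map_theta_R hF).2 ⟨0, 1, rfl⟩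
    have h1 := hcomm a (Subgroup.mem_sup_left haH)
    have h3 := hcomm b (Subgroup.mem_sup_right hbK)
    rw [ha, e', pU_mul, pU_mul] at h1
    rw [hb, e', pU_mul, pU_mul] at h3
    have hm : m = 0 := by linear_combination (pU_inj h1).2.1
    have hl : l = 0 := by linear_combination -(pU_inj h3).2.1
    refine ⟨(mem_H π H hkH hHR).2 ?_, (mem_H π' K (hker' ▸ hkK) hK').2 ?_⟩
    · exact ⟨0, n, by show π x = _; rw [e', hl, hm]⟩
    · exact ⟨0, n, by show theta F (π x) = _; rw [e', hl, hm, theta_pU' hF]; simp⟩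

end Cfsg.Agent.S3154
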