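import Cfsg.Statements.S3155
import Mathlib
-- import your own Cfsg.Agent.* helpers here

set_option autoImplicit false
open Cfsg

namespace Cfsg.Agent.S3155

/-- Let B be the direct product of three cyclic groups of order 4. Then the automorphism of B inverting every element is not the square of any automorphism of B. -/
theorem result {B : Type*} [CommGroup B] [Finite B] (hB : Nonempty (B ≃* Multiplicative (ZMod 4 × ZMod 4 × ZMod 4)))
    (τ : B ≃* B) : τ.trans τ ≠ MulEquiv.inv B := by
  obtain ⟨e⟩ := hB
  intro hτ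
  let τ' : Multiplicative (ZMod 4 × ZMod 4 × ZMod 4) ≃* Multiplicative (ZMod 4 × ZMod 4 × ZMod 4) :=
    (e.symm.trans τ).trans e
  let f : (ZMod 4 × ZMod 4 × ZMod 4) →ₗ[ZMod 4] (ZMod 4 × ZMod 4 × ZMod 4) :=
    AddMonoidHom.toZModLinearMap 4 (AddMonoidHom.mk'
      (fun v => Multiplicative.toAdd (τ' (Multiplicative.ofAdd v))) (fun a b => by simp [ofAdd_add]))
  have hf : f.comp f = (-1 : ZMod 4) • LinearMap.id := by
    apply LinearMap.ext
    intro v
    have h1 : τ (τ (e.symm (Multiplicative.ofAdd v))) = (e.symm (Multiplicative.ofAdd v))⁻¹ :=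
      congrArg (fun g : B ≃* B => g (e.symm (Multiplicative.ofAdd v))) hτ
    show Multiplicative.toAdd (τ' (τ' (Multiplicative.ofAdd v))) = (-1 : ZMod 4) • v
    rw [neg_one_smul]
    simp only [τ', MulEquiv.trans_apply, MulEquiv.symm_apply_apply]
    rw [h1, map_inv, MulEquiv.apply_symm_apply]
    rfl
  have : Nontrivial (ZMod 4) := ⟨⟨0, 1, by decide⟩⟩
  have hd := congrArg LinearMap.det hf
  rw [LinearMap.det_comp, LinearMap.det_smul, LinearMap.det_id, mul_one] at hd
  have hrank : Module.finrank (ZMod 4) (ZMod 4 × ZMod 4 × ZMod 4) = 3 := by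
    rw [Module.finrank_prod, Module.finrank_prod, Module.finrank_self]
  rw [hrank] at hd
  generalize LinearMap.det f = d at hd
  revert d
  decide

end Cfsg.Agent.S3155
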