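import Cfsg.Statements.S3156
import Cfsg.Agent.Lib.Lie.UnitarySylowAutOrder

set_option autoImplicit false
open Cfsg

namespace Cfsg.Agent.S3156

/-- If a finite group T is isomorphic to a Sylow 2-subgroup of the projective special unitary group of dimension 3 with parameter 4 (realised over the field with 16 elements), then no subgroup of the automorphism group of T is isomorphic to the symmetric group of degree 3. -/
theorem result {T : Type*} [Group T] [Finite T] (hT : (∃ (F : Type) (_ : Field F) (_ : Fintype F), Fintype.card F = 16 ∧ ∃ S : Sylow 2 (Cfsg.PSU 3 F 4), Nonempty (T ≃* ↥(S : Subgroup (Cfsg.PSU 3 F 4))))) (H : Subgroup (MulAut T)) : ¬ Nonempty (↥H ≃* Equiv.Perm (Fin 3)) := by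
  classical
  rintro ⟨eH⟩
  obtain ⟨F, iF, iFt, hF, S, ⟨e⟩⟩ := hT
  haveI : Fact (Nat.Prime 2) := ⟨Nat.prime_two⟩
  haveI : CharP F 2 := charP_of_card_eq_prime_pow (f := 4) (by rw [hF]; norm_num)
  obtain ⟨τ, hτ⟩ := Cfsg.Agent.Lie.UnitarySylow.sigma_props (n := 2) (by norm_num) (by rw [hF]; norm_num)
  obtain ⟨e'⟩ : Nonempty (Cfsg.Agent.Lie.UnitarySylow.UT hτ ≃* ↥(S : Subgroup (Cfsg.PSU 3 F 4))) :=
    Cfsg.Agent.Lie.UnitarySylow.sylow_PSU hτ (n := 2) (by norm_num) rfl S
  let E : T ≃* Cfsg.Agent.Lie.UnitarySylow.UT hτ := e.trans e'.symm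
  exact Cfsg.Agent.Lie.UnitarySylow.no_symmetric_three (hσ := hτ)
    ((MulAut.congr E).toMonoidHom.comp (H.subtype.comp eH.symm.toMonoidHom))
    ((MulAut.congr E).injective.comp (H.subtype_injective.comp eH.symm.injective))

end Cfsg.Agent.S3156
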