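import Cfsg.Statements.S3158
import Mathlib
-- import your own Cfsg.Agent.* helpers here

set_option autoImplicit false
open Cfsg

namespace Cfsg.Agent.S3158

/-- Let U be a group of order q² with q = 2^n ≥ 2, and y an automorphism of U of order q − 1 all of whose nontrivial powers fix only the identity. Let V be a proper normal y-invariant subgroup of U such that V and U/V are elementary abelian 2-groups and there is an isomorphism from V to U/V commuting with the actions of y. Then U is abelian. -/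
theorem result {U : Type*} [Group U] [Finite U] (n : ℕ) (hn : 1 ≤ n) (hU : Nat.card U = (2 ^ n) ^ 2)
    (y : MulAut U) (hy : orderOf y = 2 ^ n - 1) (hfp : ∀ k : ℕ, y ^ k ≠ 1 → ∀ u : U, (y ^ k) u = u → u = 1)
    (V : Subgroup U) [V.Normal] (hV : V ≠ ⊤) (hyV : ∀ v ∈ V, y v ∈ V)
    (hVe : ∀ v ∈ V, v ^ 2 = 1) (hQe : ∀ u : U, u ^ 2 ∈ V) (hQc : ∀ u w : U, u * w * u⁻¹ * w⁻¹ ∈ V)
    (φ : ↥V ≃* U ⧸ V) (hφ : ∀ (v : ↥V) (u : U), (QuotientGroup.mk u : U ⧸ V) = φ v → φ ⟨y v, hyV v v.2⟩ = QuotientGroup.mk (y u)) :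
    IsMulCommutative U := by
  classical
  have hq : 2 ≤ 2 ^ n := by
    calc 2 = 2 ^ 1 := (pow_one 2).symm
      _ ≤ 2 ^ n := Nat.pow_le_pow_right two_pos hn
  have hUp : IsPGroup 2 U := IsPGroup.of_card (by rw [hU, ← pow_mul])
  have hVcard : Nat.card V = 2 ^ n := by
    have h := V.card_eq_card_quotient_mul_card_subgroup
    rw [← Nat.card_congr φ.toEquiv, hU, sq] at h
    exact (Nat.mul_self_inj.1 h).symm
  have hpowV : ∀ (k : ℕ), ∀ v ∈ V, (y ^ k) v ∈ V := by
    intro k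
    induction k with
    | zero => intro v hv; simpa using hv
    | succ k ih => intro v hv; rw [pow_succ']; exact hyV _ (ih v hv)
  have hyfix : ∀ (k : ℕ), ∀ v : U, v ≠ 1 → (y ^ k) v = v → orderOf y ∣ k := fun k v hv h => by
    by_contra hd
    exact hv (hfp k (fun h1 => hd (orderOf_dvd_of_pow_eq_one h1)) v h)
  -- transitivity
  have htr : ∀ v0 ∈ V, v0 ≠ 1 → ∀ v ∈ V, v ≠ 1 → ∃ k : ℕ, (y ^ k) v0 = v := by
    intro v0 h0 h01 v hv hv1
    let f : Fin (2 ^ n - 1) → {x : V // x ≠ 1} := fun k => ⟨⟨(y ^ (k : ℕ)) v0, hpowV k v0 h0⟩, fun h => h01 (by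
      have h' : (y ^ (k : ℕ)) v0 = 1 := congrArg Subtype.val h
      rwa [map_eq_one_iff _ (y ^ (k : ℕ)).injective] at h')⟩
    have hf : Function.Injective f := by
      intro i j hij
      have h : (y ^ (i : ℕ)) v0 = (y ^ (j : ℕ)) v0 := congrArg (fun a : {x : V // x ≠ 1} => ((a : V) : U)) hij
      wlog hle : (i : ℕ) ≤ j generalizing i j
      · exact (this hij.symm h.symm (le_of_not_ge hle)).symm
      rw [show (j : ℕ) = i + (j - i) by omega, pow_add, MulAut.mul_apply] at h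
      have hd := hyfix _ v0 h01 ((y ^ (i : ℕ)).injective h).symm
      rw [hy] at hd
      have := Nat.eq_zero_of_dvd_of_lt hd (by omega)
      exact Fin.ext (by omega)
    letI := Fintype.ofFinite V
    have hsurj : Function.Surjective f := ((Fintype.bijective_iff_injective_and_card f).2 ⟨hf, by
      have := Fintype.card_subtype_compl (fun x : V => x = 1)
      rw [Fintype.card_subtype_eq, ← Nat.card_eq_fintype_card (α := V), hVcard] at this
      rw [Fintype.card_fin]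
      exact this.symm⟩).2
    obtain ⟨k, hk⟩ := hsurj ⟨⟨v, hv⟩, fun h => hv1 (congrArg Subtype.val h)⟩
    exact ⟨k, congrArg (fun a : {x : V // x ≠ 1} => ((a : V) : U)) hk⟩
  haveI : Nontrivial V := Finite.one_lt_card_iff_nontrivial.1 (by rw [hVcard]; omega)
  obtain ⟨v0, hv01⟩ := exists_ne (1 : V)
  have hv0 : (v0 : U) ≠ 1 := fun h => hv01 (Subtype.ext h)
  -- V is central
  have hcen : ∀ v ∈ V, ∀ u : U, u * v = v * u := by
    haveI : Nontrivial U := ⟨⟨v0, 1, hv0⟩⟩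
    obtain ⟨z, hz, hz1, hzV⟩ : ∃ z ∈ Subgroup.center U, z ≠ 1 ∧ z ∈ V := by
      obtain ⟨z, hz1, hz⟩ := (hUp.of_equiv (ConjAct.toConjAct : U ≃* ConjAct U)).exists_fixed_point_of_prime_dvd_card_of_fixed_point V
        (by rw [hVcard]; exact dvd_pow_self 2 (by omega)) (a := (1 : V)) (fun g => smul_one g)
      refine ⟨z, Subgroup.mem_center_iff.2 fun g => ?_, fun h => hz.symm (Subtype.ext h), z.2⟩
      have := congrArg Subtype.val (hz1 (ConjAct.toConjAct g))
      rw [ConjAct.Subgroup.val_conj_smul, ConjAct.toConjAct_smul] at this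
      exact mul_inv_eq_iff_eq_mul.1 this
    intro v hv u
    by_cases hv1 : v = 1
    · rw [hv1, mul_one, one_mul]
    obtain ⟨k, rfl⟩ := htr z hzV hz1 v hv hv1
    obtain ⟨u', rfl⟩ := (y ^ k).surjective u
    rw [← map_mul, ← map_mul, Subgroup.mem_center_iff.1 hz u']
  have hsq : ∀ u : U, ∀ v ∈ V, (u * v) ^ 2 = u ^ 2 := fun u v hv => by
    rw [(show Commute u v from hcen v hv u).mul_pow, hVe v hv, mul_one]
  -- equivariance of squaring
  obtain ⟨u0, hu0⟩ := QuotientGroup.mk_surjective (φ v0)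
  have hit : ∀ k : ℕ, (QuotientGroup.mk ((y ^ k) u0) : U ⧸ V) = φ ⟨(y ^ k) v0, hpowV k v0 v0.2⟩ := by
    intro k
    induction k with
    | zero => simpa using hu0
    | succ k ih =>
      have h := hφ _ _ ih
      rw [show (y ^ (k + 1)) u0 = y ((y ^ k) u0) by rw [pow_succ']; rfl]
      rw [← h]
      exact congrArg φ (Subtype.ext (show y ((y ^ k) (v0 : U)) = (y ^ (k + 1)) (v0 : U) by rw [pow_succ']; rfl))
  have hval : ∀ (u : U) (v : V), (QuotientGroup.mk u : U ⧸ V) = φ v →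
      (v = 1 ∧ u ^ 2 = 1) ∨ ∃ k : ℕ, (v : U) = (y ^ k) v0 ∧ u ^ 2 = (y ^ k) (u0 ^ 2) := by
    intro u v h
    by_cases hv1 : v = 1
    · rw [hv1, map_one, QuotientGroup.eq_one_iff] at h
      exact Or.inl ⟨hv1, hVe u h⟩
    obtain ⟨k, hk⟩ := htr v0 v0.2 hv0 v v.2 fun hh => hv1 (Subtype.ext hh)
    refine Or.inr ⟨k, hk.symm, ?_⟩
    have hmem : ((y ^ k) u0)⁻¹ * u ∈ V := by
      rw [← QuotientGroup.eq, hit k, h]
      exact congrArg φ (Subtype.ext hk)
    rw [map_pow, ← hsq ((y ^ k) u0) _ hmem, mul_inv_cancel_left]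
  obtain ⟨g, hg⟩ : ∃ g : V →* U, ∀ (u : U) (v : V), (QuotientGroup.mk u : U ⧸ V) = φ v → u ^ 2 = g v := by
    by_cases ha : u0 ^ 2 = 1
    · refine ⟨1, fun u v h => ?_⟩
      rcases hval u v h with ⟨-, h2⟩ | ⟨k, -, h2⟩
      · exact h2
      · rw [h2, ha, map_one]; rfl
    obtain ⟨m, hm⟩ := htr v0 v0.2 hv0 _ (hQe u0) ha
    refine ⟨(y ^ m).toMonoidHom.comp V.subtype, fun u v h => ?_⟩
    show u ^ 2 = (y ^ m) (v : U)
    rcases hval u v h with ⟨hv1, h2⟩ | ⟨k, hk, h2⟩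
    · rw [h2, hv1, Subgroup.coe_one, map_one]
    · rw [h2, hk, ← hm, ← MulAut.mul_apply, ← MulAut.mul_apply, ← pow_add, ← pow_add, add_comm]
  refine ⟨⟨fun a b => ?_⟩⟩
  obtain ⟨va, hva⟩ := φ.surjective (QuotientGroup.mk a)
  obtain ⟨vb, hvb⟩ := φ.surjective (QuotientGroup.mk b)
  have h := hg (a * b) (va * vb) (by rw [QuotientGroup.mk_mul, map_mul, hva, hvb])
  rw [map_mul, ← hg a va hva.symm, ← hg b vb hvb.symm, pow_two, pow_two, pow_two, mul_assoc, mul_assoc] at h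
  have h1 := mul_left_cancel h
  rw [← mul_assoc, ← mul_assoc] at h1
  exact (mul_right_cancel h1).symm

end Cfsg.Agent.S3158
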