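import Cfsg.Statements.S3162
import Cfsg.Agent.Lib.Lie.UnitarySylowAutOrder

set_option autoImplicit false
open Cfsg

namespace Cfsg.Agent.S3162

/-- Let S be a Sylow 2-subgroup of the special unitary group of dimension 3 with parameter q = 2^n (n ≥ 2; realised over the field with q² elements). Then the largest normal 2-subgroup of the automorphism group of S is elementary abelian of order 2^(2n²), and the automorphism group has order 2^(2n²) · 2n(q² − 1). -/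
theorem result {S : Type*} [Group S] [Finite S] (n : ℕ) (hn : 2 ≤ n) {F : Type*} [Field F] [Fintype F] (hF : Fintype.card F = 4 ^ n)
    (P : Sylow 2 ↥(Cfsg.SU 3 F (2 ^ n))) (hS : Nonempty (S ≃* ↥(P : Subgroup ↥(Cfsg.SU 3 F (2 ^ n))))) :
    Cfsg.IsElementaryAbelian 2 (Cfsg.pCore 2 (MulAut S)) ∧ Nat.card ↥(Cfsg.pCore 2 (MulAut S)) = 2 ^ (2 * n ^ 2) ∧
      Nat.card (MulAut S) = 2 ^ (2 * n ^ 2) * (2 * n * ((2 ^ n) ^ 2 - 1)) := by
  classical
  have hF' : Fintype.card F = (2 ^ n) ^ 2 := by rw [hF, ← pow_mul, mul_comm n, pow_mul]; norm_num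
  haveI : Fact (Nat.Prime 2) := ⟨Nat.prime_two⟩
  haveI : CharP F 2 := charP_of_card_eq_prime_pow (f := 2 * n) (by rw [hF', ← pow_mul, mul_comm])
  obtain ⟨τ, hτ⟩ := Cfsg.Agent.Lie.UnitarySylow.sigma_props (by omega : 1 ≤ n) hF'
  obtain ⟨e⟩ := hS
  obtain ⟨e'⟩ : Nonempty (Cfsg.Agent.Lie.UnitarySylow.UT hτ ≃* ↥(P : Subgroup ↥(Cfsg.SU 3 F (2 ^ n)))) :=
    Cfsg.Agent.Lie.UnitarySylow.sylow_SU hτ (by omega : 1 ≤ n) rfl P
  let E : S ≃* Cfsg.Agent.Lie.UnitarySylow.UT hτ := e.trans e'.symm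
  let A : MulAut S ≃* MulAut (Cfsg.Agent.Lie.UnitarySylow.UT hτ) := MulAut.congr E
  haveI : Finite (MulAut S) := Finite.of_injective (fun e => e.toEquiv) MulEquiv.toEquiv_injective
  obtain ⟨hE, hc, ho⟩ := Cfsg.Agent.Lie.UnitarySylow.aut_structure (hσ := hτ) (by omega : 1 ≤ n) rfl
  have hmap := Cfsg.Agent.Fusion.map_pCore_equiv (p := 2) A
  refine ⟨⟨⟨⟨fun a b => ?_⟩⟩, fun a ha => ?_⟩, ?_, ?_⟩
  · have h := hE.1.is_comm.comm ⟨A a, hmap ▸ Subgroup.mem_map_of_mem _ a.2⟩ ⟨A b, hmap ▸ Subgroup.mem_map_of_mem _ b.2⟩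
    refine Subtype.ext (A.injective ?_)
    rw [Subgroup.coe_mul, Subgroup.coe_mul, map_mul, map_mul]
    exact congrArg Subtype.val h
  · exact A.injective (by rw [map_pow, map_one]; exact hE.2 _ (hmap ▸ Subgroup.mem_map_of_mem _ ha))
  · rw [← hc, ← hmap]
    exact Nat.card_congr (Subgroup.equivMapOfInjective _ _ A.injective).toEquiv
  · rw [Nat.card_congr A.toEquiv, ho]

end Cfsg.Agent.S3162
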