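import Cfsg.Statements.S3163
import Mathlib
-- import your own Cfsg.Agent.* helpers here

set_option autoImplicit false
open Cfsg

namespace Cfsg.Agent.S3163

/-- Let S be a non-abelian finite 2-group which is the product S = AB of two elementary abelian subgroups A and B, and suppose that the centralizer in S of every element of A outside B is exactly A. Then the centralizer of every element of B outside A is exactly B; A and B are maximal elementary abelian subgroups of S and the only ones; the centre of S is A ∩ B; and every element of S outside A ∪ B has centralizer of order at most min(|A|, |B|). -/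
theorem result {S : Type*} [Group S] [Finite S] (hS : IsPGroup 2 S) (hna : ¬ IsMulCommutative S) (A B : Subgroup S)
    (hA : Cfsg.IsElementaryAbelian 2 A) (hB : Cfsg.IsElementaryAbelian 2 B) (hAB : ∀ s : S, ∃ a ∈ A, ∃ b ∈ B, s = a * b)
    (hC : ∀ a ∈ A, a ∉ B → Subgroup.centralizer ({a} : Set S) = A) :
    (∀ b ∈ B, b ∉ A → Subgroup.centralizer ({b} : Set S) = B) ∧
      (∀ E : Subgroup S, Cfsg.IsElementaryAbelian 2 E → (∀ E' : Subgroup S, Cfsg.IsElementaryAbelian 2 E' → E ≤ E' → E' = E) → E = A ∨ E = B) ∧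
      (∀ E' : Subgroup S, Cfsg.IsElementaryAbelian 2 E' → A ≤ E' → E' = A) ∧ (∀ E' : Subgroup S, Cfsg.IsElementaryAbelian 2 E' → B ≤ E' → E' = B) ∧
      Subgroup.center S = A ⊓ B ∧
      (∀ x : S, x ∉ A → x ∉ B → Nat.card ↥(Subgroup.centralizer ({x} : Set S)) ≤ min (Nat.card ↥A) (Nat.card ↥B)) := by
  obtain ⟨hAc, hA2⟩ := hA
  obtain ⟨hBc, hB2⟩ := hB
  have ca : ∀ x ∈ A, ∀ y ∈ A, x * y = y * x := fun x hx y hy =>
    congrArg Subtype.val (hAc.is_comm.comm (⟨x, hx⟩ : A) ⟨y, hy⟩)
  have cb : ∀ x ∈ B, ∀ y ∈ B, x * y = y * x := fun x hx y hy =>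
    congrArg Subtype.val (hBc.is_comm.comm (⟨x, hx⟩ : B) ⟨y, hy⟩)
  have inC : ∀ a ∈ A, a ∉ B → ∀ x, x * a = a * x → x ∈ A := fun a ha haB x hx => by
    rw [← hC a ha haB]
    exact Subgroup.mem_centralizer_singleton_iff.2 hx
  have hAB' : ¬ A ≤ B := fun h => hna ⟨⟨fun s t => by
    obtain ⟨a, ha, b, hb, rfl⟩ := hAB s
    obtain ⟨a', ha', b', hb', rfl⟩ := hAB t
    exact cb _ (B.mul_mem (h ha) hb) _ (B.mul_mem (h ha') hb')⟩⟩
  have hBA' : ¬ B ≤ A := fun h => hna ⟨⟨fun s t => by
    obtain ⟨a, ha, b, hb, rfl⟩ := hAB s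
    obtain ⟨a', ha', b', hb', rfl⟩ := hAB t
    exact ca _ (A.mul_mem ha (h hb)) _ (A.mul_mem ha' (h hb'))⟩⟩
  have hI : ∀ z ∈ A, z ∈ B → ∀ s : S, s * z = z * s := by
    intro z hzA hzB s
    obtain ⟨a, ha, b, hb, rfl⟩ := hAB s
    rw [mul_assoc, cb b hb z hzB, ← mul_assoc, ca a ha z hzA, mul_assoc]
  have h1 : ∀ b ∈ B, b ∉ A → Subgroup.centralizer ({b} : Set S) = B := by
    intro b hb hbA
    ext x
    rw [Subgroup.mem_centralizer_singleton_iff]
    refine ⟨fun hx => ?_, fun hx => cb x hx b hb⟩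
    obtain ⟨a, ha, b', hb', rfl⟩ := hAB x
    have hab : a * b = b * a := by
      have : a * b * b' = b * a * b' := by
        calc a * b * b' = a * (b * b') := mul_assoc _ _ _
          _ = a * (b' * b) := by rw [cb b hb b' hb']
          _ = b * (a * b') := by rw [← mul_assoc]; exact hx
          _ = b * a * b' := (mul_assoc _ _ _).symm
      exact mul_right_cancel this
    by_cases haB : a ∈ B
    · exact B.mul_mem haB hb'
    · exact absurd (inC a ha haB b hab.symm) hbA
  have hcent : ∀ x : S, x ∉ A → x ∉ B → ∀ y ∈ A, x * y = y * x → y ∈ B := by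
    intro x hxA hxB y hy hxy
    by_contra hyB
    exact hxA (inC y hy hyB x hxy)
  have hinv : ∀ x : S, x * x = 1 → x ∈ A ∨ x ∈ B := by
    intro x hx
    obtain ⟨a, ha, b, hb, rfl⟩ := hAB x
    by_cases haB : a ∈ B
    · exact Or.inr (B.mul_mem haB hb)
    by_cases hbA : b ∈ A
    · exact Or.inl (A.mul_mem ha hbA)
    exfalso
    refine hbA (inC a ha haB b ?_)
    have ea : a * a = 1 := by rw [← pow_two]; exact hA2 a ha
    have eb : b * b = 1 := by rw [← pow_two]; exact hB2 b hb
    calc b * a = a * (a * b * (a * b)) * b := by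
          rw [show a * (a * b * (a * b)) * b = a * a * (b * a) * (b * b) by group, ea, eb, one_mul, mul_one]
      _ = a * b := by rw [hx, mul_one]
  have hsub : ∀ E : Subgroup S, Cfsg.IsElementaryAbelian 2 E → E ≤ A ∨ E ≤ B := by
    intro E hE
    by_contra hc
    push Not at hc
    obtain ⟨u, hu, huA⟩ := SetLike.not_le_iff_exists.1 hc.1
    obtain ⟨v, hv, hvB⟩ := SetLike.not_le_iff_exists.1 hc.2
    have huB : u ∈ B := (hinv u (by rw [← pow_two]; exact hE.2 u hu)).resolve_left huA
    have hvA : v ∈ A := (hinv v (by rw [← pow_two]; exact hE.2 v hv)).resolve_right hvB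
    rcases hinv (u * v) (by rw [← pow_two]; exact hE.2 _ (E.mul_mem hu hv)) with h | h
    · exact huA ((A.mul_mem_cancel_right hvA).1 h)
    · exact hvB ((B.mul_mem_cancel_left huB).1 h)
  have hmaxA : ∀ E' : Subgroup S, Cfsg.IsElementaryAbelian 2 E' → A ≤ E' → E' = A := fun E hE hle =>
    (hsub E hE).elim (fun h => le_antisymm h hle) fun h => absurd (hle.trans h) hAB'
  have hmaxB : ∀ E' : Subgroup S, Cfsg.IsElementaryAbelian 2 E' → B ≤ E' → E' = B := fun E hE hle =>
    (hsub E hE).elim (fun h => absurd (hle.trans h) hBA') fun h => le_antisymm h hle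
  refine ⟨h1, fun E hE hmax => ?_, hmaxA, hmaxB, ?_, fun x hxA hxB => ?_⟩
  · rcases hsub E hE with h | h
    · exact Or.inl (hmax A ⟨hAc, hA2⟩ h).symm
    · exact Or.inr (hmax B ⟨hBc, hB2⟩ h).symm
  · ext z
    rw [Subgroup.mem_center_iff]
    refine ⟨fun hz => ?_, fun hz s => hI z hz.1 hz.2 s⟩
    obtain ⟨a, ha, haB⟩ := SetLike.not_le_iff_exists.1 hAB'
    obtain ⟨b, hb, hbA⟩ := SetLike.not_le_iff_exists.1 hBA'
    refine ⟨inC a ha haB z (hz a).symm, ?_⟩
    rw [← h1 b hb hbA]
    exact Subgroup.mem_centralizer_singleton_iff.2 (hz b).symm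
  · set C := Subgroup.centralizer ({x} : Set S) with hCdef
    have hCA : A ⊓ C ≤ B := fun y hy =>
      hcent x hxA hxB y hy.1 (Subgroup.mem_centralizer_singleton_iff.1 hy.2).symm
    have hCB : B ⊓ C ≤ A := by
      intro y hy
      by_contra hyA
      have : x ∈ Subgroup.centralizer ({y} : Set S) :=
        Subgroup.mem_centralizer_singleton_iff.2 (Subgroup.mem_centralizer_singleton_iff.1 hy.2).symm
      rw [h1 y hy.1 hyA] at this
      exact hxB this
    have hBA : ∀ s : S, ∃ b ∈ B, ∃ a ∈ A, s = b * a := fun s => by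
      obtain ⟨a, ha, b, hb, h⟩ := hAB s⁻¹
      exact ⟨b⁻¹, B.inv_mem hb, a⁻¹, A.inv_mem ha, by rw [← inv_inv s, h, mul_inv_rev]⟩
    have bound : ∀ X Y : Subgroup S, (∀ s : S, ∃ y ∈ Y, ∃ z ∈ X, s = y * z) → X ⊓ C ≤ Y →
        Nat.card C ≤ Nat.card Y := by
      intro X Y hdec hXC
      have e1 : Nat.card ↥(X ⊓ C) * X.relIndex C = Nat.card C := by
        rw [← Nat.card_congr (Subgroup.subgroupOfEquivOfLe (inf_le_right : X ⊓ C ≤ C)).toEquiv,
          Subgroup.inf_subgroupOf_right]
        exact Subgroup.card_mul_index _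
      have e2 : Nat.card ↥(X ⊓ Y) * X.relIndex Y = Nat.card Y := by
        rw [← Nat.card_congr (Subgroup.subgroupOfEquivOfLe (inf_le_right : X ⊓ Y ≤ Y)).toEquiv,
          Subgroup.inf_subgroupOf_right]
        exact Subgroup.card_mul_index _
      have e3 : Nat.card ↥(X ⊓ C) ≤ Nat.card ↥(X ⊓ Y) :=
        Nat.card_le_card_of_injective _ (Subgroup.inclusion_injective (le_inf inf_le_left hXC))
      have e4 : X.index ≤ X.relIndex Y := by
        rw [Subgroup.relIndex, Subgroup.index_eq_card, Subgroup.index_eq_card]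
        refine Nat.card_le_card_of_surjective
          (Quotient.map' (fun y : Y => (y : S)) fun y y' h => ?_) ?_
        · rw [QuotientGroup.leftRel_apply] at h ⊢
          exact h
        · intro q
          induction q using QuotientGroup.induction_on with | H s => ?_
          obtain ⟨y, hy, z, hz, rfl⟩ := hdec s
          refine ⟨QuotientGroup.mk ⟨y, hy⟩, ?_⟩
          show (QuotientGroup.mk y : S ⧸ X) = QuotientGroup.mk (y * z)
          rw [QuotientGroup.eq, inv_mul_cancel_left]
          exact hz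
      have e5 : X.relIndex C ≤ X.index := by
        have hne : X.relIndex (⊤ : Subgroup S) ≠ 0 := by
          rw [Subgroup.relIndex_top_right]; exact Subgroup.index_ne_zero_of_finite
        rw [← Subgroup.relIndex_top_right X]
        exact Subgroup.relIndex_le_of_le_right le_top hne
      calc Nat.card C = Nat.card ↥(X ⊓ C) * X.relIndex C := e1.symm
        _ ≤ Nat.card ↥(X ⊓ Y) * X.relIndex Y := Nat.mul_le_mul e3 (e5.trans e4)
        _ = Nat.card Y := e2
    exact le_min (bound B A (fun s => by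
      obtain ⟨a, ha, b, hb, h⟩ := hAB s; exact ⟨a, ha, b, hb, h⟩) hCB) (bound A B hBA hCA)

end Cfsg.Agent.S3163
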