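import Cfsg.Statements.S3164
import Cfsg.Agent.Lib.Solv.Component
import Cfsg.Agent.Lib.Fusion.Involutions
import Cfsg.Agent.Lib.Fusion.OrderFormula
-- import your own Cfsg.Agent.* helpers here

set_option autoImplicit false
open Cfsg

namespace Cfsg.Agent.S3164

open scoped commutatorElement

variable {G : Type*} [Group G] [Finite G]

/-- commuting involutions `t`, `a` on an odd set: if `a` fixes the fixed points of `t` and of `a * t`,
then `a` fixes everything -/
theorem four_fix {N : Subgroup G} [hN : N.Normal] (hodd : Odd (Nat.card N)) {t a : G}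
    (ht : t * t = 1) (ha : a * a = 1) (hta : t * a = a * t)
    (h1 : ∀ x ∈ N, t * x = x * t → a * x = x * a)
    (h2 : ∀ x ∈ N, a * t * x = x * (a * t) → a * x = x * a) :
    ∀ y ∈ N, a * y = y * a := by
  have hti : t⁻¹ = t := inv_eq_of_mul_eq_one_right ht
  have hai : a⁻¹ = a := inv_eq_of_mul_eq_one_right ha
  have hpar : ∀ z ∈ N, Odd (orderOf z) := fun z hz => hodd.of_dvd_nat (N.orderOf_dvd_natCard hz)
  have key : ∀ x ∈ N, a * x * a = x⁻¹ → x = 1 := by
    intro x hx hax
    obtain ⟨z, hz⟩ : ∃ z, z = t * x⁻¹ * t * x := ⟨_, rfl⟩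
    have hzN : z ∈ N := by
      rw [hz]
      have := hN.conj_mem _ (inv_mem hx) t
      rw [hti] at this
      exact mul_mem this hx
    obtain ⟨k, hk⟩ := hpar z hzN
    obtain ⟨j, hj⟩ : ∃ j, j = z ^ (k + 1) := ⟨_, rfl⟩
    have hjN : j ∈ N := hj ▸ pow_mem hzN _
    have hj2 : j * j = z := by
      rw [hj, ← pow_add, show k + 1 + (k + 1) = (2 * k + 1) + 1 by omega, pow_succ, ← hk,
        pow_orderOf_eq_one, one_mul]
    have hzt : t * z * t = z⁻¹ := by
      rw [hz]
      simp only [mul_inv_rev, inv_inv, hti, mul_assoc]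
      rw [← mul_assoc t t, ht, one_mul]
    have hjt : t * j * t = j⁻¹ := by
      rw [hj, ← inv_pow, ← hzt]
      conv_rhs => rw [show t * z * t = t * z * t⁻¹ by rw [hti]]
      rw [conj_pow, hti]
    obtain ⟨c, hc⟩ : ∃ c, c = x * j⁻¹ := ⟨_, rfl⟩
    have hcN : c ∈ N := hc ▸ mul_mem hx (inv_mem hjN)
    have hct : t * c * t = c := by
      have e1 : t * x * t = x * z⁻¹ := by
        rw [hz]; simp [mul_assoc, hti]
      calc t * c * t = (t * x * t) * (t * j * t)⁻¹ := by
            rw [hc]; simp [mul_assoc, hti, ← mul_assoc t t, ht]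
        _ = x * z⁻¹ * j := by rw [e1, hjt, inv_inv]
        _ = c := by rw [← hj2, hc]; group
    have hca : a * c * a = c := by
      have := h1 c hcN (by
        calc t * c = t * c * (t * t) := by rw [ht, mul_one]
          _ = t * c * t * t := by simp [mul_assoc]
          _ = c * t := by rw [hct])
      rw [this, mul_assoc, ha, mul_one]
    have hx' : x = c * j := by rw [hc]; group
    have haj : a * j * a = c⁻¹ * j⁻¹ * c⁻¹ := by
      have e : c * (a * j * a) = j⁻¹ * c⁻¹ := by
        calc c * (a * j * a) = (a * c * a) * (a * j * a) := by rw [hca]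
          _ = a * x * a := by
            rw [hx']; simp [mul_assoc, ← mul_assoc a a, ha]
          _ = j⁻¹ * c⁻¹ := by rw [hax, hx', mul_inv_rev]
      calc a * j * a = c⁻¹ * (c * (a * j * a)) := by group
        _ = c⁻¹ * j⁻¹ * c⁻¹ := by rw [e]; group
    have hcomm : ∀ y, t * (a * y * a) * t = a * (t * y * t) * a := fun y => by
      simp only [← mul_assoc]
      rw [hta, mul_assoc _ a t, mul_assoc _ t a, hta]
    have e2 : c⁻¹ * j * c⁻¹ = c * j * c := by
      have e3 := hcomm j
      rw [haj, hjt] at e3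
      have e4 : a * j⁻¹ * a = (a * j * a)⁻¹ := by simp [mul_assoc, hai]
      have e5 : t * (c⁻¹ * j⁻¹ * c⁻¹) * t = (t * c * t)⁻¹ * (t * j * t)⁻¹ * (t * c * t)⁻¹ := by
        simp [mul_assoc, hti, ← mul_assoc t t, ht]
      rw [e4, haj, e5, hct, hjt, inv_inv] at e3
      rw [e3]; group
    -- `j` inverts `c ^ 2`
    have e6 : j * (c * c) * j⁻¹ = (c * c)⁻¹ := by
      calc j * (c * c) * j⁻¹ = c⁻¹ * (c * j * c) * (c * j⁻¹) := by group
        _ = (c * c)⁻¹ := by rw [← e2]; group
    have e7 : Commute (j * j) (c * c) := by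
      show j * j * (c * c) = c * c * (j * j)
      calc j * j * (c * c) = j * (j * (c * c) * j⁻¹) * j := by group
        _ = j * (c * c)⁻¹ * j := by rw [e6]
        _ = (j * (c * c) * j⁻¹)⁻¹ * (j * j) := by group
        _ = c * c * (j * j) := by rw [e6, inv_inv]
    obtain ⟨m, hm⟩ := hpar j hjN
    have e8 : Commute j (c * c) := by
      have := e7.pow_left (m + 1)
      rwa [← sq, ← pow_mul, show 2 * (m + 1) = (2 * m + 1) + 1 by omega, pow_succ, ← hm,
        pow_orderOf_eq_one, one_mul] at this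
    have e9 : (c * c) = (c * c)⁻¹ := by
      rw [← e6, e8.eq, mul_inv_cancel_right]
    obtain ⟨n, hn⟩ := hpar c hcN
    have hc1 : c = 1 := by
      have h4 : c ^ 4 = 1 := by
        rw [show (4 : ℕ) = 2 + 2 from rfl, pow_add, sq]
        exact eq_inv_iff_mul_eq_one.1 e9
      have hd := orderOf_dvd_of_pow_eq_one h4
      rw [← orderOf_eq_one_iff]
      have hle := Nat.le_of_dvd (by norm_num) hd
      interval_cases h : orderOf c <;> omega
    rw [hc1, one_mul] at hx'
    subst hx'
    have hat : a * t * x = x * (a * t) := by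
      have e10 : a * t * x * (t * a) = x := by
        calc a * t * x * (t * a) = a * (t * x * t) * a := by group
          _ = (a * x * a)⁻¹ := by rw [hjt]; simp [mul_assoc, hai]
          _ = x := by rw [hax, inv_inv]
      calc a * t * x = a * t * x * (t * a) * (a * t) := by
            simp [mul_assoc, ← mul_assoc a a, ha, ht]
        _ = x * (a * t) := by rw [e10]
    have h5 := h2 x hx hat
    rw [h5, mul_assoc, ha, mul_one] at hax
    have h6 : x ^ 2 = 1 := by rw [sq]; exact eq_inv_iff_mul_eq_one.1 hax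
    have hd := orderOf_dvd_of_pow_eq_one h6
    rw [← orderOf_eq_one_iff]
    obtain ⟨n, hn⟩ := hpar x hx
    have hle := Nat.le_of_dvd (by norm_num) hd
    interval_cases h : orderOf x <;> omega
  intro y hy
  have hyN : y⁻¹ * (a * y * a) ∈ N := mul_mem (inv_mem hy) (by
    have := hN.conj_mem y hy a
    rwa [hai] at this)
  have h := key _ hyN (by simp [mul_assoc, hai, ← mul_assoc a a, ha])
  have h7 : a * y * a = y := (inv_mul_eq_one.1 h).symm
  calc a * y = a * y * (a * a) := by rw [ha, mul_one]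
    _ = a * y * a * a := by simp [mul_assoc]
    _ = y * a := by rw [h7]

/-- elements that normalize a perfect group and act through the center act trivially -/
theorem commute_of_commutator_central {A : Subgroup G} (hA : ⁅A, A⁆ = A) {c : G}
    (h : ∀ x ∈ A, c * x * c⁻¹ * x⁻¹ ∈ (Subgroup.center A).map A.subtype) :
    ∀ x ∈ A, c * x = x * c := by
  have hz : ∀ z ∈ (Subgroup.center A).map A.subtype, ∀ x ∈ A, z * x = x * z := by
    rintro _ ⟨z, hz, rfl⟩ x hx
    exact (congrArg Subtype.val (Subgroup.mem_center_iff.1 hz ⟨x, hx⟩)).symm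
  have hle : A ≤ Subgroup.centralizer {c} := by
    conv_lhs => rw [← hA]
    rw [Subgroup.commutator_le]
    intro x hx y hy
    rw [Subgroup.mem_centralizer_singleton_iff]
    obtain ⟨u, hu, hue⟩ : ∃ u, u ∈ (Subgroup.center A).map A.subtype ∧ c * x * c⁻¹ = u * x :=
      ⟨_, h x hx, by group⟩
    obtain ⟨v, hv, hve⟩ : ∃ v, v ∈ (Subgroup.center A).map A.subtype ∧ c * y * c⁻¹ = v * y :=
      ⟨_, h y hy, by group⟩
    have hvA : v ∈ A := Subgroup.map_subtype_le _ hv
    have huA : u ∈ A := Subgroup.map_subtype_le _ hu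
    have e : c * ⁅x, y⁆ * c⁻¹ = ⁅x, y⁆ := by
      rw [commutatorElement_def]
      calc c * (x * y * x⁻¹ * y⁻¹) * c⁻¹
          = (c * x * c⁻¹) * (c * y * c⁻¹) * (c * x * c⁻¹)⁻¹ * (c * y * c⁻¹)⁻¹ := by group
        _ = (u * x) * (v * y) * (x⁻¹ * u⁻¹) * (y⁻¹ * v⁻¹) := by rw [hue, hve, mul_inv_rev, mul_inv_rev]
        _ = u * (x * v) * y * (x⁻¹ * u⁻¹) * (y⁻¹ * v⁻¹) := by simp [mul_assoc]
        _ = u * (v * x) * y * (u⁻¹ * x⁻¹) * (y⁻¹ * v⁻¹) := by
            rw [← hz v hv x hx, ← hz u⁻¹ (inv_mem hu) x⁻¹ (inv_mem hx)]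
        _ = u * v * (x * y * u⁻¹) * x⁻¹ * y⁻¹ * v⁻¹ := by simp [mul_assoc]
        _ = u * v * (u⁻¹ * (x * y)) * x⁻¹ * y⁻¹ * v⁻¹ := by
            rw [← hz u⁻¹ (inv_mem hu) (x * y) (mul_mem hx hy)]
        _ = (u * v * u⁻¹) * ((x * y * x⁻¹ * y⁻¹) * v⁻¹) := by simp [mul_assoc]
        _ = v * (v⁻¹ * (x * y * x⁻¹ * y⁻¹)) := by
            rw [hz u hu v hvA, mul_inv_cancel_right, ← hz v⁻¹ (inv_mem hv) _ (mul_mem (mul_mem
              (mul_mem hx hy) (inv_mem hx)) (inv_mem hy))]
        _ = x * y * x⁻¹ * y⁻¹ := mul_inv_cancel_left _ _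
    calc ⁅x, y⁆ * c = c * ⁅x, y⁆ * c⁻¹ * c := by rw [e]
      _ = c * ⁅x, y⁆ := by group
  intro x hx
  exact (Subgroup.mem_centralizer_singleton_iff.1 (hle hx)).symm


theorem exists_fixed_invol {N : Subgroup G} [hN : N.Normal] (h2 : 2 ∣ Nat.card N) {t : G}
    (ht : t * t = 1) : ∃ i ∈ N, orderOf i = 2 ∧ i * t = t * i := by
  classical
  haveI := Fintype.ofFinite N
  haveI : Fact (Nat.Prime 2) := ⟨Nat.prime_two⟩
  have hti : t⁻¹ = t := inv_eq_of_mul_eq_one_right ht
  obtain ⟨σ, hσ⟩ : ∃ σ : Function.End N, ∀ x : N, (σ x : G) = t * x * t :=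
    ⟨fun x : N => ⟨t * x * t, by
      have := hN.conj_mem _ x.2 t; rwa [hti] at this⟩, fun x => rfl⟩
  have hσ2 : σ ^ 2 ^ 1 = 1 := by
    rw [pow_one, sq]
    funext x
    refine Subtype.ext ?_
    show ((σ (σ x) : N) : G) = x
    simp [hσ, mul_assoc, ← mul_assoc t t, ht]
  have hmod : Fintype.card ↥(Function.fixedPoints (σ : N → N)) % 2 = 0 := by
    have := (Equiv.Perm.card_fixedPoints_modEq (p := 2) hσ2).symm
    rw [Nat.ModEq] at this
    refine (Eq.trans (by congr; exact Subsingleton.elim _ _) (this.trans ?_))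
    rw [← Nat.card_eq_fintype_card]
    exact Nat.mod_eq_zero_of_dvd h2
  obtain ⟨i, hi⟩ := exists_prime_orderOf_dvd_card' (G := ↥(N ⊓ Subgroup.centralizer {t})) 2 (by
    have e : ↥(Function.fixedPoints (σ : N → N)) ≃ ↥(N ⊓ Subgroup.centralizer {t}) :=
      { toFun := fun x => ⟨x.1.1, x.1.2, Subgroup.mem_centralizer_singleton_iff.2 (by
          have h : t * (x.1 : G) * t = x.1 := by rw [← hσ]; exact congrArg Subtype.val x.2
          calc (x.1 : G) * t = t * (x.1 : G) * t * t := by rw [h]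
            _ = t * (x.1 : G) := by rw [mul_assoc _ t t, ht, mul_one])⟩
        invFun := fun x => ⟨⟨x.1, x.2.1⟩, Subtype.ext (by
          rw [hσ, ← Subgroup.mem_centralizer_singleton_iff.1 x.2.2, mul_assoc _ t t, ht, mul_one])⟩
        left_inv := fun x => rfl
        right_inv := fun x => rfl }
    rw [← Nat.card_congr e, Nat.card_eq_fintype_card]
    exact Nat.dvd_of_mod_eq_zero hmod)
  exact ⟨i.1, i.2.1, by rw [Subgroup.orderOf_coe, hi],
    Subgroup.mem_centralizer_singleton_iff.1 i.2.2⟩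

theorem layer_char {H : Type*} [Group H] [Finite H] : (Cfsg.layer H).Characteristic := by
  refine Subgroup.characteristic_iff_map_le.2 fun φ => ?_
  rw [Cfsg.layer, Subgroup.map_le_iff_le_comap]
  refine sSup_le fun K hK => ?_
  rw [← Subgroup.map_le_iff_le_comap]
  exact le_sSup ⟨Subgroup.IsSubnormal.map (f := φ.toMonoidHom) φ.surjective hK.1,
    Local.isQuasisimple_congr (K.equivMapOfInjective _ φ.injective) hK.2⟩

theorem fitting_char {H : Type*} [Group H] [Finite H] :
    (Cfsg.fittingSubgroup H).Characteristic := Solv.fitting_characteristic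

/-- Let A be a standard subgroup of a finite group G whose centralizer has cyclic Sylow 2-subgroups, t an involution centralizing A, and X the normal closure of A in G. If X has a t-invariant 2-subgroup R with [R, t] nontrivial and contained in A, then X is semisimple (X equals its own layer, a central product of quasisimple groups) and the centre of X has odd order. -/
theorem result {G : Type*} [Group G] [Finite G] (A : Subgroup G) (hA : Cfsg.IsStandardSubgroup A)
    (hcyc : ∀ R : Sylow 2 ↥(Subgroup.centralizer (A : Set G)), IsCyclic ↥(R : Subgroup ↥(Subgroup.centralizer (A : Set G)))) (t : G) (ht : orderOf t = 2) (htA : t ∈ Subgroup.centralizer (A : Set G))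
    (R : Subgroup G) (hR2 : IsPGroup 2 ↥R) (hRX : R ≤ Subgroup.normalClosure (A : Set G)) (hRt : ∀ r ∈ R, t * r * t⁻¹ ∈ R)
    (hc1 : ⁅R, Subgroup.zpowers t⁆ ≠ ⊥) (hc2 : ⁅R, Subgroup.zpowers t⁆ ≤ A) :
    Cfsg.layer ↥(Subgroup.normalClosure (A : Set G)) = ⊤ ∧ Odd (Nat.card ↥(Subgroup.center ↥(Subgroup.normalClosure (A : Set G)))) := by
  classical
  obtain ⟨hqs, ⟨-, htight⟩, -, hnorm⟩ := hA
  have hAA : ⁅A, A⁆ = A := Solv.qs_self_commutator hqs
  obtain ⟨Z, hZ⟩ : ∃ Z : Subgroup G, Z = (Subgroup.center A).map A.subtype := ⟨_, rfl⟩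
  have hZC : Z ≤ Subgroup.centralizer (A : Set G) := by
    rintro z hz
    rw [hZ] at hz
    obtain ⟨z, hz, rfl⟩ := hz
    exact Subgroup.mem_centralizer_iff.2 fun x hx =>
      congrArg Subtype.val (Subgroup.mem_center_iff.1 hz ⟨x, hx⟩)
  -- the only involution of the centralizer commuting with `t`
  have huniq : ∀ i : G, i ∈ Subgroup.centralizer (A : Set G) → orderOf i = 2 → i * t = t * i →
      i = t := by
    intro i hi hi2 hit
    obtain ⟨x, hx⟩ : ∃ x : ↥(Subgroup.centralizer (A : Set G)), x = ⟨i, hi⟩ := ⟨_, rfl⟩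
    obtain ⟨y, hy⟩ : ∃ y : ↥(Subgroup.centralizer (A : Set G)), y = ⟨t, htA⟩ := ⟨_, rfl⟩
    have hx2 : orderOf x = 2 := by rw [hx, Subgroup.orderOf_mk, hi2]
    have hy2 : orderOf y = 2 := by rw [hy, Subgroup.orderOf_mk, ht]
    have hP := Fusion.isPGroup_closure_commuting hx2 hy2 (by
      rw [hx, hy]; exact Subtype.ext hit)
    obtain ⟨P, hP'⟩ := hP.exists_le_sylow
    haveI := hcyc P
    have hxP : x ∈ (P : Subgroup ↥(Subgroup.centralizer (A : Set G))) :=
      hP' (Subgroup.subset_closure (by simp))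
    have hyP : y ∈ (P : Subgroup ↥(Subgroup.centralizer (A : Set G))) :=
      hP' (Subgroup.subset_closure (by simp))
    obtain ⟨g, hg⟩ := IsCyclic.exists_generator (α := ↥(P : Subgroup ↥(Subgroup.centralizer (A : Set G))))
    have e1 := Fusion.invol_unique_in_zpowers (r := g) (x := ⟨x, hxP⟩)
      (by rw [Subgroup.orderOf_mk, hx2]) (hg _)
    have e2 := Fusion.invol_unique_in_zpowers (r := g) (x := ⟨y, hyP⟩)
      (by rw [Subgroup.orderOf_mk, hy2]) (hg _)
    have e3 := congrArg Subtype.val (congrArg Subtype.val (e1.trans e2.symm))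
    simpa [hx, hy] using e3
  -- centralizer of `t` normalizes `A`
  have hCt : ∀ g : G, g * t = t * g → g ∈ Subgroup.normalizer (A : Set G) := by
    intro g hg
    rw [hnorm]
    by_contra hgn
    have := htight g hgn
    have hev : 2 ∣ Nat.card ↥(Subgroup.centralizer (A : Set G) ⊓
        (Subgroup.centralizer (A : Set G)).map (MulAut.conj g).toMonoidHom) := by
      rw [← ht]
      refine Subgroup.orderOf_dvd_natCard _ ⟨htA, ⟨t, htA, ?_⟩⟩
      show g * t * g⁻¹ = t
      rw [hg, mul_inv_cancel_right]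
    exact (Nat.not_even_iff_odd.2 this) (even_iff_two_dvd.2 hev)
  -- the element `a`
  have ht1 : t * t = 1 := by
    have h := pow_orderOf_eq_one t
    rwa [ht, sq] at h
  have hti : t⁻¹ = t := inv_eq_of_mul_eq_one_right ht1
  obtain ⟨r, hr, hrt⟩ : ∃ r ∈ R, r * t ≠ t * r := by
    by_contra hno
    push Not at hno
    refine hc1 (Subgroup.commutator_eq_bot_iff_le_centralizer.2 fun r hr => ?_)
    refine Subgroup.mem_centralizer_iff.2 fun y hy => ?_
    obtain ⟨k, rfl⟩ := Subgroup.mem_zpowers_iff.1 hy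
    exact ((Commute.zpow_right (hno r hr) k).eq).symm
  obtain ⟨a, ha⟩ : ∃ a, a = r * t * r⁻¹ * t := ⟨_, rfl⟩
  have htz : t ∈ Subgroup.zpowers t := Subgroup.mem_zpowers t
  have haA : a ∈ A := by
    have := hc2 (Subgroup.commutator_mem_commutator hr htz)
    rwa [commutatorElement_def, hti, ← ha] at this
  have hra : r⁻¹ * a * r ∈ A := by
    have := inv_mem (hc2 (Subgroup.commutator_mem_commutator (inv_mem hr) htz))
    rw [commutatorElement_def] at this
    convert this using 1
    rw [ha]; simp [mul_assoc, hti]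
  have hta : t * a = a * t := (Subgroup.mem_centralizer_iff.1 htA a haA).symm
  have hat : a * t = r * t * r⁻¹ := by rw [ha, mul_assoc _ t t, ht1, mul_one]
  have ha1 : a * a = 1 := by
    have h2 : (a * t) * (a * t) = 1 := by
      rw [hat]; calc r * t * r⁻¹ * (r * t * r⁻¹) = r * (t * t) * r⁻¹ := by group
        _ = 1 := by rw [ht1]; group
    calc a * a = a * a * (t * t) := by rw [ht1, mul_one]
      _ = a * (a * t) * t := by simp [mul_assoc]
      _ = a * (t * a) * t := by rw [hta]
      _ = 1 := by rw [← h2]; simp [mul_assoc]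
  have hane : a ≠ 1 := by
    intro h
    rw [h, one_mul] at hat
    apply hrt
    conv_rhs => rw [hat]
    group
  have haZ : a ∉ Z := by
    intro haz
    have h2 : orderOf a = 2 := orderOf_eq_prime (by rw [sq]; exact ha1) hane
    have he := huniq a (hZC haz) h2 hta.symm
    rw [he, ht1] at hat
    have h1 : t = 1 := by
      calc t = r⁻¹ * (r * t * r⁻¹) * r := by group
        _ = 1 := by rw [← hat]; group
    rw [h1, orderOf_one] at ht
    omega
  -- normal subgroups
  have hmain : ∀ N : Subgroup G, N.Normal → A ≤ N ∨ (Odd (Nat.card N) ∧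
      Subgroup.normalClosure (A : Set G) ≤ Subgroup.centralizer (N : Set G)) := by
    intro N hN
    haveI := hN
    rcases Solv.qs_normal_le_center_or_top hqs (N.subgroupOf A) with h | h
    · exact Or.inl (Subgroup.subgroupOf_eq_top.1 h)
    refine Or.inr ?_
    have hint : ∀ x ∈ A, x ∈ N → x ∈ Z := fun x hx hxN => by
      rw [hZ]; exact ⟨⟨x, hx⟩, h hxN, rfl⟩
    have hfix : ∀ c ∈ N, c * t = t * c → c ∈ Subgroup.centralizer (A : Set G) := by
      intro c hc hct
      refine Subgroup.mem_centralizer_iff.2 fun x hx => (commute_of_commutator_central hAA ?_ x hx).symm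
      intro y hy
      rw [← hZ]
      refine hint _ (mul_mem ((Subgroup.mem_normalizer_iff.1 (hCt c hct) y).1 hy) (inv_mem hy)) ?_
      rw [mul_assoc c y, mul_assoc c]
      exact mul_mem hc (hN.conj_mem _ (inv_mem hc) y)
    have hodd : Odd (Nat.card N) := by
      rw [← Nat.not_even_iff_odd, even_iff_two_dvd]
      intro h2
      obtain ⟨i, hiN, hi2, hit⟩ := exists_fixed_invol (N := N) h2 ht1
      have hie := huniq i (hfix i hiN hit) hi2 hit
      subst hie
      refine haZ (hint a haA ?_)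
      rw [ha]
      exact mul_mem (hN.conj_mem _ hiN r) hiN
    refine ⟨hodd, ?_⟩
    have hcen := four_fix hodd ht1 ha1 hta (fun x hx hxt =>
      (Subgroup.mem_centralizer_iff.1 (hfix x hx hxt.symm) a haA)) (fun x hx hxt => by
      have hy : r⁻¹ * x * r ∈ N := by
        have := hN.conj_mem x hx r⁻¹
        rwa [inv_inv] at this
      have hyt : r⁻¹ * x * r * t = t * (r⁻¹ * x * r) := by
        calc r⁻¹ * x * r * t = r⁻¹ * (x * (r * t * r⁻¹)) * r := by group
          _ = r⁻¹ * ((r * t * r⁻¹) * x) * r := by rw [← hat, hxt]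
          _ = t * (r⁻¹ * x * r) := by group
      have := Subgroup.mem_centralizer_iff.1 (hfix _ hy hyt) _ hra
      calc a * x = r * ((r⁻¹ * a * r) * (r⁻¹ * x * r)) * r⁻¹ := by group
        _ = r * ((r⁻¹ * x * r) * (r⁻¹ * a * r)) * r⁻¹ := by rw [this]
        _ = x * a := by group)
    haveI := Solv.centralizer_normal_of_normal N
    rcases Solv.qs_normal_le_center_or_top hqs ((Subgroup.centralizer (N : Set G)).subgroupOf A) with h' | h'
    · exact Subgroup.normalClosure_le_normal (Subgroup.subgroupOf_eq_top.1 h')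
    · exfalso
      refine haZ ?_
      rw [hZ]
      exact ⟨⟨a, haA⟩, h' (Subgroup.mem_centralizer_iff.2 fun n hn => (hcen n hn).symm), rfl⟩
  obtain ⟨X, hX⟩ : ∃ X, X = Subgroup.normalClosure (A : Set G) := ⟨_, rfl⟩
  haveI hXn : X.Normal := hX ▸ Subgroup.normalClosure_normal
  have hAX : A ≤ X := hX ▸ Subgroup.le_normalClosure
  rw [← hX] at hmain ⊢
  have hnc : ∀ M : Subgroup ↥X, M.Characteristic → M = ⊤ ∨
      (Odd (Nat.card M) ∧ M ≤ Subgroup.center ↥X) := by
    intro M hM
    haveI := hM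
    haveI hn : (M.map X.subtype).Normal := inferInstance
    rcases hmain _ hn with h | ⟨h1, h2⟩
    · left
      have hXM : X ≤ M.map X.subtype := by
        conv_lhs => rw [hX]
        exact Subgroup.normalClosure_le_normal h
      refine eq_top_iff.2 fun x _ => ?_
      obtain ⟨y, hy, hyx⟩ := hXM x.2
      rwa [← Subtype.ext hyx]
    · refine Or.inr ⟨by rwa [Subgroup.card_subtype] at h1, fun m hm => ?_⟩
      refine Subgroup.mem_center_iff.2 fun x => Subtype.ext ?_
      exact (Subgroup.mem_centralizer_iff.1 (h2 x.2) _ (Subgroup.mem_map_of_mem _ hm)).symm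
  have hXc : Subgroup.center ↥X ≠ ⊤ := by
    intro h
    refine haZ ?_
    rw [hZ]
    refine ⟨⟨a, haA⟩, Subgroup.mem_center_iff.2 fun y => Subtype.ext ?_, rfl⟩
    have hm : (⟨a, hAX haA⟩ : ↥X) ∈ Subgroup.center ↥X := h ▸ Subgroup.mem_top _
    have hh := congrArg Subtype.val (Subgroup.mem_center_iff.1 hm ⟨y, hAX y.2⟩)
    exact hh
  refine ⟨?_, ((hnc (Subgroup.center ↥X) inferInstance).resolve_left hXc).1⟩
  rcases hnc (Cfsg.layer ↥X) layer_char with h | ⟨-, h⟩
  · exact h
  exfalso
  have hbot : Cfsg.layer ↥X = ⊥ := by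
    rw [← Solv.layer_perfect, eq_bot_iff]
    rw [Subgroup.commutator_le]
    intro x hx y hy
    rw [Subgroup.mem_bot, commutatorElement_eq_one_iff_mul_comm]
    exact Subgroup.mem_center_iff.1 (h hy) x
  have hF : Cfsg.fittingSubgroup ↥X ≤ Subgroup.center ↥X := by
    rcases hnc (Cfsg.fittingSubgroup ↥X) fitting_char with h' | ⟨-, h'⟩
    · exfalso
      haveI := Solv.fittingSubgroup_nilpotent (G := ↥X)
      rw [h'] at this
      haveI : Group.IsNilpotent ↥X := (Group.isNilpotent_congr Subgroup.topEquiv).1 this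
      haveI := hqs.1
      haveI := Solv.qs_nontrivial hqs
      exact Group.IsPerfect.not_isSolvable (G := A)
        (Group.isSolvable_of_isSolvable_injective (Subgroup.inclusion_injective hAX))
    · exact h'
  refine hXc (eq_top_iff.2 fun x _ => hF ?_)
  have hg : Cfsg.generalizedFittingSubgroup ↥X = Cfsg.fittingSubgroup ↥X := by
    rw [Cfsg.generalizedFittingSubgroup, hbot, bot_sup_eq]
  have := Solv.centralizer_gfit_le (G := ↥X)
  rw [hg] at this
  refine this (Subgroup.mem_centralizer_iff.2 fun y hy => ?_)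
  exact (Subgroup.mem_center_iff.1 (hF hy) x).symm

end Cfsg.Agent.S3164
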