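import Cfsg.Statements.S3166
import Mathlib
-- import your own Cfsg.Agent.* helpers here

set_option autoImplicit false
open Cfsg

namespace Cfsg.Agent.S3166

/-- Let q = 2^n with n ≥ 1. If q⁴ − q³ + q² − q + 1 is a power p^m of a prime p, then m = 1: the value is never a prime power with exponent greater than 1. -/
theorem result (n p m : ℕ) (hn : 1 ≤ n) (hp : p.Prime) (h : (2 ^ n) ^ 4 - (2 ^ n) ^ 3 + (2 ^ n) ^ 2 - 2 ^ n + 1 = p ^ m) : m = 1 := by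
  obtain ⟨q, hq⟩ : ∃ q, q = 2 ^ n := ⟨_, rfl⟩
  have hq2 : 2 ≤ q := hq ▸ Nat.le_self_pow (by omega) 2
  rw [← hq] at h
  have hv : (q : ℤ) ^ 4 - (q : ℤ) ^ 3 + (q : ℤ) ^ 2 - q + 1 = (p : ℤ) ^ m := by
    have e1 : q ^ 3 ≤ q ^ 4 := Nat.pow_le_pow_right (by omega) (by norm_num)
    have e2 : q ≤ q ^ 4 - q ^ 3 + q ^ 2 := le_add_left (Nat.le_self_pow (by norm_num) q)
    have := congrArg (Nat.cast : ℕ → ℤ) h
    push_cast [Nat.cast_sub e1, Nat.cast_sub e2] at this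
    linarith
  have hq2' : (2 : ℤ) ≤ q := by exact_mod_cast hq2
  have hsq : ∀ s : ℤ, s ^ 2 ≠ (q : ℤ) ^ 4 - (q : ℤ) ^ 3 + (q : ℤ) ^ 2 - q + 1 := by
    intro s hs
    rcases le_or_gt (2 * |s|) (2 * (q : ℤ) ^ 2 - q) with hle | hgt
    · nlinarith [mul_self_le_mul_self (by positivity) hle, abs_mul_abs_self s]
    · have hge : 2 * (q : ℤ) ^ 2 - q + 1 ≤ 2 * |s| := by omega
      nlinarith [mul_self_le_mul_self (by nlinarith) hge, abs_mul_abs_self s]
  rcases Nat.even_or_odd m with ⟨k, hk⟩ | ⟨k, hk⟩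
  · exfalso
    refine hsq ((p : ℤ) ^ k) ?_
    rw [hv, hk, pow_two, ← pow_add]
  rcases Nat.eq_zero_or_pos k with hk0 | hk0
  · omega
  exfalso
  have hp2 := hp.two_le
  -- the 2-part of `p ^ m - 1` divides `p - 1`
  have hfac : ((∑ i ∈ Finset.range m, (p : ℤ) ^ i)) * ((p : ℤ) - 1) = (p : ℤ) ^ m - 1 := geom_sum_mul _ _
  have hodd_p : Odd p := by
    have he : Even (q : ℤ) := by
      rw [hq]; push_cast; exact Int.even_pow.2 ⟨even_two, by omega⟩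
    have : Odd ((p : ℤ) ^ m) := by
      rw [← hv]
      obtain ⟨r, hr⟩ := he
      exact ⟨8 * r ^ 4 - 4 * r ^ 3 + 2 * r ^ 2 - r, by rw [hr]; ring⟩
    exact_mod_cast (Int.odd_pow' (by omega)).1 this
  have hsum : Odd (∑ i ∈ Finset.range m, p ^ i) := by
    rw [Finset.odd_sum_iff_odd_card_odd]
    have : (Finset.range m).filter (fun i => Odd (p ^ i)) = Finset.range m :=
      Finset.filter_true_of_mem fun i _ => hodd_p.pow
    rw [this, Finset.card_range, hk]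
    exact ⟨k, rfl⟩
  have hd : (q : ℤ) ∣ (p : ℤ) - 1 := by
    have h1 : (q : ℤ) ∣ (∑ i ∈ Finset.range m, (p : ℤ) ^ i) * ((p : ℤ) - 1) := by
      rw [hfac, ← hv]; exact ⟨(q : ℤ) ^ 3 - (q : ℤ) ^ 2 + q - 1, by ring⟩
    have hco : IsCoprime (q : ℤ) (∑ i ∈ Finset.range m, (p : ℤ) ^ i) := by
      have h2 : Nat.Coprime q (∑ i ∈ Finset.range m, p ^ i) := by
        rw [hq]; exact (Nat.coprime_two_left.2 hsum).pow_left n
      exact_mod_cast Nat.isCoprime_iff_coprime.2 h2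
    exact hco.dvd_of_dvd_mul_left h1
  obtain ⟨t, ht⟩ := hd
  have hp' : (p : ℤ) = 1 + q * t := by linarith
  have hp2' : (2 : ℤ) ≤ p := by exact_mod_cast hp2
  have ht1 : 1 ≤ t := by nlinarith
  have hlt : (q : ℤ) ^ 4 - (q : ℤ) ^ 3 + (q : ℤ) ^ 2 - q + 1 < (q : ℤ) ^ 4 := by
    nlinarith [mul_le_mul_of_nonneg_left hq2' (by positivity : (0 : ℤ) ≤ (q : ℤ) ^ 2)]
  have hm3 : m = 3 := by
    by_contra hne
    have h5 : (p : ℤ) ^ 4 ≤ (p : ℤ) ^ m := pow_le_pow_right₀ (by linarith) (by omega)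
    have h6 : (q : ℤ) ^ 4 ≤ (p : ℤ) ^ 4 := pow_le_pow_left₀ (by positivity) (by nlinarith) 4
    linarith
  subst hm3
  rw [hp'] at hv
  have hE : t * (3 + 3 * t * q + t ^ 2 * (q : ℤ) ^ 2) = (q : ℤ) ^ 3 - (q : ℤ) ^ 2 + q - 1 :=
    mul_left_cancel₀ (show (q : ℤ) ≠ 0 by linarith) (by linear_combination -hv)
  have hdiv : (q : ℤ) ∣ 3 * t + 1 := ⟨(q : ℤ) ^ 2 - q + 1 - 3 * t ^ 2 - t ^ 3 * q, by linear_combination hE⟩
  have hle := Int.le_of_dvd (by linarith) hdiv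
  have ht2 : t = 1 := by
    by_contra h1
    have h2 : 2 ≤ t := by omega
    have hcube : t ^ 3 < (q : ℤ) := by
      by_contra hc
      push Not at hc
      nlinarith [mul_le_mul_of_nonneg_right hc (by positivity : (0 : ℤ) ≤ (q : ℤ) ^ 2)]
    nlinarith [mul_le_mul h2 h2 (by norm_num) (by linarith)]
  subst ht2
  have hq4 : q ≤ 4 := by exact_mod_cast hle
  interval_cases q <;> norm_num at hE

end Cfsg.Agent.S3166
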