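import Cfsg.Statements.S3174
import Cfsg.Agent.Lib.Lie.RegularLayerFusion
open scoped commutatorElement
-- import your own Cfsg.Agent.* helpers here

set_option autoImplicit false
open Cfsg

namespace Cfsg.Agent.S3174

/-- Let T be a finite 2-group of order at least 2^14 in which the fourth term of the upper central series has order 16. Let W be the centralizer in T of the third term Z₃(T), and suppose the Frattini subgroup of W has order at most 8 and lies in every subgroup of W of index at most 16. Then T has order exactly 2^14; the derived subgroup of W and the Frattini subgroup of W both equal Z₃(T), which is elementary abelian of order 8; the centre of W has order 8; W is normal in T with quotient dihedral of order 8; and W modulo its derived subgroup is elementary abelian of order 2^8. -/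
theorem result {T : Type*} [Group T] [Finite T]
    (hT : IsPGroup 2 T) (ha : 2 ^ 14 ≤ Nat.card T) (hb : Nat.card ↥(Subgroup.upperCentralSeries T 4) = 16)
    (W : Subgroup T) (hW : W = Subgroup.centralizer ((Subgroup.upperCentralSeries T 3 : Subgroup T) : Set T))
    (hc : Nat.card ↥(frattini ↥W) ≤ 8) (hd : ∀ U : Subgroup ↥W, U.index ≤ 16 → frattini ↥W ≤ U) :
    Nat.card T = 2 ^ 14 ∧
      (commutator ↥W).map W.subtype = Subgroup.upperCentralSeries T 3 ∧
      (frattini ↥W).map W.subtype = Subgroup.upperCentralSeries T 3 ∧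
      Nat.card ↥(Subgroup.center ↥W) = 8 ∧
      Nat.card ↥(Subgroup.upperCentralSeries T 3) = 8 ∧ (∀ z ∈ Subgroup.upperCentralSeries T 3, z ^ 2 = 1) ∧
      (∃ (_ : W.Normal), Nonempty (T ⧸ W ≃* DihedralGroup 4)) ∧
      Nat.card (↥W ⧸ commutator ↥W) = 2 ^ 8 ∧ (∀ x : ↥W ⧸ commutator ↥W, x ^ 2 = 1) := by
  subst hW
  have H := Lie.RegularLayer.hyp_of hT ha hb hc hd
  obtain ⟨M⟩ := H.model
  have hcm : (commutator ↥(Lie.RegularLayer.W T)).map (Lie.RegularLayer.W T).subtype = Subgroup.upperCentralSeries T 3 := by
    rw [commutator_def, Subgroup.map_commutator, ← MonoidHom.range_eq_map, Subgroup.range_subtype]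
    exact H.comm_eq
  have h8 : Nat.card ↥(Subgroup.upperCentralSeries T 3) = 8 := by rw [H.card_Z 3 (by omega)]; norm_num
  refine ⟨H.sizes.2.2, hcm, H.phi_eq, ?_, h8, fun z hz => by rw [sq]; exact H.elementary hz, ⟨inferInstance, ?_⟩, ?_, ?_⟩
  · rw [← Subgroup.card_map_of_injective (Lie.RegularLayer.W T).subtype_injective, ← h8]
    congr 1
    refine congrArg (fun S : Subgroup T => ↥S) (le_antisymm ?_ fun z hz => ?_)
    · rintro _ ⟨w, hw, rfl⟩
      exact H.center_eq M w.2 fun x hx => congrArg Subtype.val (Subgroup.mem_center_iff.1 hw ⟨x, hx⟩).symm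
    · exact ⟨⟨z, H.Z3_le_W hz⟩, Subgroup.mem_center_iff.2 fun g => Subtype.ext (H.comm_W_Z3 g.2 hz).symm.eq, rfl⟩
  · have hk : M.π.ker = Lie.RegularLayer.W T := Subgroup.ext fun g => MonoidHom.mem_ker.trans (M.π_ker g)
    exact ⟨(QuotientGroup.quotientMulEquivOfEq hk.symm).trans (QuotientGroup.quotientKerEquivOfSurjective M.π M.π_surj)⟩
  · have h := (commutator ↥(Lie.RegularLayer.W T)).card_eq_card_quotient_mul_card_subgroup
    rw [H.sizes.2.1, ← Subgroup.card_map_of_injective (K := commutator ↥(Lie.RegularLayer.W T))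
      (Lie.RegularLayer.W T).subtype_injective, hcm, h8] at h
    have h' : Nat.card (↥(Lie.RegularLayer.W T) ⧸ commutator ↥(Lie.RegularLayer.W T)) * 8 = 2 ^ 8 * 8 := by
      rw [← h]; norm_num
    exact Nat.eq_of_mul_eq_mul_right (by norm_num) h'
  · intro x
    induction x using QuotientGroup.induction_on with | _ w
    rw [← QuotientGroup.mk_pow, QuotientGroup.eq_one_iff]
    obtain ⟨v, hv, he⟩ := hcm.ge (H.phi_sq w.2)
    rw [show w ^ 2 = v from Subtype.ext (by rw [Subgroup.coe_pow, sq]; exact he.symm)]
    exact hv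

end Cfsg.Agent.S3174
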