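import Cfsg.Statements.S3175
import Cfsg.Agent.Lib.Lie.RegularLayerFusion
open scoped commutatorElement
-- import your own Cfsg.Agent.* helpers here

set_option autoImplicit false
open Cfsg

namespace Cfsg.Agent.S3175

/-- Let G be a finite group whose Sylow 2-subgroup T has order at least 2^14 and whose upper central series has fourth term of order 16; let W be the centralizer in T of the third term, and suppose the Frattini subgroup of W has order at most 8 and lies in every subgroup of W of index at most 16. Then the normalizer of T in G has a normal 2-complement, and W is weakly closed in T with respect to G. -/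
theorem result {G : Type*} [Group G] [Finite G]
    (T : Sylow 2 G) (ha : 2 ^ 14 ≤ Nat.card ↥(T : Subgroup G))
    (hb : Nat.card ↥(Subgroup.upperCentralSeries ↥(T : Subgroup G) 4) = 16)
    (W : Subgroup ↥(T : Subgroup G))
    (hW : W = Subgroup.centralizer ((Subgroup.upperCentralSeries ↥(T : Subgroup G) 3 : Subgroup ↥(T : Subgroup G)) : Set ↥(T : Subgroup G)))
    (hc : Nat.card ↥(frattini ↥W) ≤ 8)
    (hd : ∀ U : Subgroup ↥W, U.index ≤ 16 → frattini ↥W ≤ U) :
    Cfsg.HasNormalPComplement 2 ↥(Subgroup.normalizer ((T : Subgroup G) : Set G)) ∧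
      Cfsg.IsWeaklyClosed (W.map (T : Subgroup G).subtype) (T : Subgroup G) := by
  classical
  haveI : Fact (Nat.Prime 2) := ⟨Nat.prime_two⟩
  subst hW
  have H := Lie.RegularLayer.hyp_of T.2 ha hb hc hd
  obtain ⟨M⟩ := H.model
  set N := Subgroup.normalizer ((T : Subgroup G) : Set G) with hN
  have hTN : (T : Subgroup G) ≤ N := Subgroup.le_normalizer
  refine ⟨?_, ?_, fun g hg => ?_⟩
  · let P : Sylow 2 N := T.subtype hTN
    have hPn : (P : Subgroup N).Normal := Subgroup.normal_in_normalizer
    obtain ⟨O, hO⟩ := Subgroup.exists_left_complement'_of_coprime (N := (P : Subgroup N)) P.card_coprime_index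
    have hodd : Odd (Nat.card O) := by
      rw [← Nat.not_even_iff_odd, even_iff_two_dvd]
      intro h
      have hidx : (P : Subgroup N).index = Nat.card O := (Subgroup.IsComplement'.index_eq_card hO)
      exact P.not_dvd_index (hidx.symm ▸ h)
    have hcent : ∀ n ∈ O, ∀ p ∈ (P : Subgroup N), Commute n p := by
      intro n hn p hp
      have hmem : ∀ (k : G), k ∈ N → ∀ x : ↥(T : Subgroup G), k * x * k⁻¹ ∈ (T : Subgroup G) := fun k hk x =>
        (Subgroup.mem_normalizer_iff.1 hk x).1 x.2
      let α : ↥(T : Subgroup G) ≃* ↥(T : Subgroup G) :=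
        { toFun := fun x => ⟨(n : G) * x * (n : G)⁻¹, hmem _ n.2 x⟩
          invFun := fun x => ⟨(n : G)⁻¹ * x * (n : G)⁻¹⁻¹, hmem _ (N.inv_mem n.2) x⟩
          left_inv := fun x => Subtype.ext (by simp [mul_assoc])
          right_inv := fun x => Subtype.ext (by simp [mul_assoc])
          map_mul' := fun x y => Subtype.ext (by simp [mul_assoc]) }
      have hit : ∀ (k : ℕ) (x : ↥(T : Subgroup G)), (((α : _ → _)^[k] x : ↥(T : Subgroup G)) : G) = (n : G) ^ k * x * ((n : G) ^ k)⁻¹ := by
        intro k
        induction k with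
        | zero => intro x; simp
        | succ k ih =>
          intro x
          rw [Function.iterate_succ_apply']
          show (n : G) * _ * (n : G)⁻¹ = _
          rw [ih, pow_succ']
          group
      have hn1 : (n : G) ^ Nat.card O = 1 := by
        have h := pow_card_eq_one' (x := (⟨n, hn⟩ : O))
        exact congrArg (fun v : O => ((v : N) : G)) h
      have hfix := H.odd_trivial M α hodd (fun x => Subtype.ext (by rw [hit, hn1]; simp)) ⟨p, hp⟩
      refine Subtype.ext ?_
      exact mul_inv_eq_iff_eq_mul.1 (congrArg Subtype.val hfix)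
    refine ⟨P, O, ?_, hO⟩
    rw [← Subgroup.normalizer_eq_top_iff, eq_top_iff, ← hO.sup_eq_top]
    refine sup_le Subgroup.le_normalizer fun p hp => Subgroup.mem_normalizer_iff.2 fun x => ?_
    constructor
    · intro hx
      rwa [show p * x * p⁻¹ = x by rw [← (hcent x hx p hp).eq, mul_inv_cancel_right]]
    · intro hx
      have h := hcent _ hx p⁻¹ (Subgroup.inv_mem _ hp)
      have e : x = p⁻¹ * (p * x * p⁻¹) * p := by group
      rw [e, ← h.eq, inv_mul_cancel_right]
      exact hx
  · exact Subgroup.map_subtype_le _
  · set X := ((Lie.RegularLayer.W ↥(T : Subgroup G)).map (T : Subgroup G).subtype).map (MulAut.conj g).toMonoidHom with hX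
    let e : ↥(Lie.RegularLayer.W ↥(T : Subgroup G)) ≃* ↥(X.subgroupOf (T : Subgroup G)) :=
      ((Subgroup.equivMapOfInjective _ (T : Subgroup G).subtype (Subgroup.subtype_injective _)).trans
        (Subgroup.equivMapOfInjective _ (MulAut.conj g).toMonoidHom (MulEquiv.injective _))).trans
        (Subgroup.subgroupOfEquivOfLe hg).symm
    show X = _
    rw [← Subgroup.map_subgroupOf_eq_of_le (show X ≤ (T : Subgroup G) from hg), H.iso_eq M _ e]

end Cfsg.Agent.S3175
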