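import Cfsg.Statements.S3176
import Cfsg.Agent.Lib.UFour.Simple

set_option autoImplicit false
open Cfsg

namespace Cfsg.Agent.S3176

open Cfsg.Agent

/-- Let G be a finite group whose Sylow 2-subgroups are isomorphic to those of PSU(3, 4), realised over the field with 16 elements. If G has no nontrivial normal subgroup of odd order and no proper normal subgroup of odd index, then either G is isomorphic to PSU(3, 4) or G is itself a 2-group, that is, a Sylow 2-subgroup of G is all of G. -/
theorem result {G : Type*} [Group G] [Finite G]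
    {F : Type*} [Field F] [Fintype F] (hF : Fintype.card F = 16) (S : Sylow 2 G) (P : Sylow 2 (Cfsg.PSU 3 F 4))
    (hS : Nonempty (↥(S : Subgroup G) ≃* ↥(P : Subgroup (Cfsg.PSU 3 F 4))))
    (hO : Cfsg.oddCore G = ⊥) (hO' : ∀ N : Subgroup G, N.Normal → Odd N.index → N = ⊤) :
    Nonempty (G ≃* Cfsg.PSU 3 F 4) ∨ (S : Subgroup G) = ⊤ := by
  obtain ⟨e⟩ := hS
  have h : UFour.U4 (S : Subgroup G) := (UFour.u4_psu hF P).of_equiv e.symm
  haveI : Fact (Nat.Prime 2) := ⟨Nat.prime_two⟩
  have hodd : ∀ N : Subgroup G, (S : Subgroup G) ≤ N → Odd N.index := fun N hN =>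
    (Nat.not_even_iff_odd.1 fun he => S.not_dvd_index (even_iff_two_dvd.1 he)).of_dvd_nat (Subgroup.index_dvd_of_le hN)
  rcases UFour.structure_of_core_bot h hO with hn | ⟨T, hT, hTs, -, hST⟩
  · exact Or.inr (hO' _ hn (hodd _ le_rfl))
  · left
    obtain rfl := hO' T hT (hodd _ hST)
    haveI : IsSimpleGroup G := (MulEquiv.isSimpleGroup_congr Subgroup.topEquiv).1 hTs
    exact UFour.psu_of_simple hF S h

end Cfsg.Agent.S3176
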