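import Cfsg.Statements.S3179
import Mathlib
import Cfsg.Agent.S0243
import Cfsg.Agent.S0280
import Cfsg.Agent.S1163
-- import your own Cfsg.Agent.* helpers here

set_option autoImplicit false
open Cfsg

namespace Cfsg.Agent.S3179

theorem card_gl : Nat.card (GL (Fin 5) (ZMod 2)) = 9999360 := by
  haveI : Fact (Nat.Prime 2) := ⟨Nat.prime_two⟩
  rw [Matrix.card_GL_field, ZMod.card]
  decide

abbrev A5 : Matrix (Fin 5) (Fin 5) (ZMod 2) :=
  !![0, 1, 0, 0, 0; 1, 1, 0, 0, 0; 0, 0, 1, 0, 0; 0, 0, 0, 1, 0; 0, 0, 0, 0, 1]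

abbrev B5 : Matrix (Fin 5) (Fin 5) (ZMod 2) :=
  !![1, 0, 0, 0, 0; 0, 1, 0, 0, 0; 0, 0, 0, 1, 0; 0, 0, 1, 1, 0; 0, 0, 0, 0, 1]

theorem mat_facts : A5 * (A5 * A5) = 1 ∧ B5 * (B5 * B5) = 1 ∧ A5 * B5 = B5 * A5 ∧
    A5 ≠ 1 ∧ B5 ≠ 1 ∧ A5 * A5 ≠ 1 ∧ A5 ≠ B5 ∧ A5 * A5 ≠ B5 ∧ A5 * A5 ≠ A5 := by
  decide +kernel

theorem no_order_nine (g : GL (Fin 5) (ZMod 2)) : orderOf g ≠ 9 := by
  classical
  haveI : Fact (Nat.Prime 2) := ⟨Nat.prime_two⟩
  haveI : Fact (Nat.Prime 3) := ⟨Nat.prime_three⟩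
  intro hg
  obtain ⟨ha, hb, hab, h1, h2, h3, h4, h5, h6⟩ := mat_facts
  let a : GL (Fin 5) (ZMod 2) := ⟨A5, A5 * A5, ha, by rw [mul_assoc]; exact ha⟩
  let b : GL (Fin 5) (ZMod 2) := ⟨B5, B5 * B5, hb, by rw [mul_assoc]; exact hb⟩
  have hc : Commute a b := Units.ext hab
  have ha3 : a ^ 3 = 1 := Units.ext (by rw [Units.val_pow_eq_pow_val, pow_succ', pow_two]; exact ha)
  have hb3 : b ^ 3 = 1 := Units.ext (by rw [Units.val_pow_eq_pow_val, pow_succ', pow_two]; exact hb)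
  let W : Subgroup (GL (Fin 5) (ZMod 2)) :=
    { carrier := {x | ∃ i j : ℕ, x = a ^ i * b ^ j}
      one_mem' := ⟨0, 0, by simp⟩
      mul_mem' := by
        rintro _ _ ⟨i, j, rfl⟩ ⟨k, l, rfl⟩
        refine ⟨i + k, j + l, ?_⟩
        rw [mul_assoc, ← mul_assoc (b ^ j), ((hc.pow_pow k j).eq).symm, pow_add, pow_add]
        group
      inv_mem' := by
        rintro _ ⟨i, j, rfl⟩
        refine ⟨2 * i, 2 * j, inv_eq_of_mul_eq_one_right ?_⟩
        rw [mul_assoc, ← mul_assoc (b ^ j), ((hc.pow_pow (2 * i) j).eq).symm,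
          show a ^ i * (a ^ (2 * i) * b ^ j * b ^ (2 * j)) = (a ^ i * a ^ (2 * i)) * (b ^ j * b ^ (2 * j)) by group,
          ← pow_add, ← pow_add, show i + 2 * i = 3 * i by omega, show j + 2 * j = 3 * j by omega, pow_mul, pow_mul, ha3, hb3, one_pow, one_pow, one_mul] }
  have hW : IsPGroup 3 W := by
    rintro ⟨_, i, j, rfl⟩
    refine ⟨1, Subtype.ext ?_⟩
    show (a ^ i * b ^ j) ^ (3 ^ 1) = 1
    rw [pow_one, (hc.pow_pow i j).mul_pow, ← pow_mul, ← pow_mul, mul_comm i, mul_comm j, pow_mul, pow_mul, ha3, hb3, one_pow, one_pow, one_mul]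
  obtain ⟨S, hS⟩ := hW.exists_le_sylow
  have hgp : IsPGroup 3 (Subgroup.zpowers g) := IsPGroup.of_card (n := 2) (by rw [Nat.card_zpowers, hg]; norm_num)
  obtain ⟨T, hT⟩ := hgp.exists_le_sylow
  have hcardS : ∀ P : Sylow 3 (GL (Fin 5) (ZMod 2)), Nat.card ↥(P : Subgroup (GL (Fin 5) (ZMod 2))) = 9 := fun P => by
    have h : (9999360 : ℕ).factorization 3 = 2 := by
      rw [show (9999360 : ℕ) = 3 ^ 2 * 1111040 by norm_num, Nat.factorization_mul (by norm_num) (by norm_num)]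
      rw [Finsupp.add_apply, Nat.prime_three.factorization_pow, Finsupp.single_eq_same,
        Nat.factorization_eq_zero_of_not_dvd (show ¬ 3 ∣ 1111040 by norm_num)]
    rw [P.card_eq_multiplicity, card_gl, h]
    norm_num
  haveI : IsCyclic ↥(T : Subgroup (GL (Fin 5) (ZMod 2))) :=
    isCyclic_of_orderOf_eq_card ⟨g, hT (Subgroup.mem_zpowers g)⟩ (by rw [Subgroup.orderOf_mk, hg, hcardS])
  haveI : IsCyclic ↥(S : Subgroup (GL (Fin 5) (ZMod 2))) :=
    isCyclic_of_surjective (T.equiv S) (T.equiv S).surjective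
  letI := Fintype.ofFinite ↥(S : Subgroup (GL (Fin 5) (ZMod 2)))
  let one' : ↥(S : Subgroup (GL (Fin 5) (ZMod 2))) := 1
  let a' : ↥(S : Subgroup (GL (Fin 5) (ZMod 2))) := ⟨a, hS ⟨1, 0, by simp⟩⟩
  let b' : ↥(S : Subgroup (GL (Fin 5) (ZMod 2))) := ⟨b, hS ⟨0, 1, by simp⟩⟩
  have hle := IsCyclic.card_pow_eq_one_le (α := ↥(S : Subgroup (GL (Fin 5) (ZMod 2)))) (show 0 < 3 by norm_num)
  have hsub : ({one', a', a' ^ 2, b'} : Finset _) ⊆ Finset.univ.filter (fun x => x ^ 3 = 1) := by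
    have ea : a' ^ 3 = 1 := Subtype.ext ha3
    have eb : b' ^ 3 = 1 := Subtype.ext hb3
    intro x hx
    simp only [Finset.mem_insert, Finset.mem_singleton] at hx
    simp only [Finset.mem_filter, Finset.mem_univ, true_and]
    rcases hx with rfl | rfl | rfl | rfl
    · exact one_pow _
    · exact ea
    · rw [← pow_mul, mul_comm, pow_mul, ea, one_pow]
    · exact eb
  have hinj : ∀ x y : ↥(S : Subgroup (GL (Fin 5) (ZMod 2))),
      ((x : GL (Fin 5) (ZMod 2)) : Matrix (Fin 5) (Fin 5) (ZMod 2)) ≠ ((y : GL (Fin 5) (ZMod 2)) : Matrix (Fin 5) (Fin 5) (ZMod 2)) → x ≠ y :=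
    fun x y h e => h (e ▸ rfl)
  have e2 : ((((a' ^ 2 : ↥(S : Subgroup (GL (Fin 5) (ZMod 2))))) : GL (Fin 5) (ZMod 2)) : Matrix (Fin 5) (Fin 5) (ZMod 2)) = A5 * A5 := by
    rw [pow_two]; rfl
  have n1 : one' ≠ a' := hinj _ _ (fun e => h1 e.symm)
  have n2 : one' ≠ a' ^ 2 := hinj _ _ (fun e => h3 (e2.symm.trans e.symm))
  have n3 : one' ≠ b' := hinj _ _ (fun e => h2 e.symm)
  have n4 : a' ≠ a' ^ 2 := hinj _ _ (fun e => h6 (e2.symm.trans e.symm))
  have n5 : a' ≠ b' := hinj _ _ h4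
  have n6 : a' ^ 2 ≠ b' := hinj _ _ (fun e => h5 (e2.symm.trans e))
  have hc4 := (Finset.card_le_card hsub).trans hle
  rw [Finset.card_insert_of_notMem (by simp [n1, n2, n3]), Finset.card_insert_of_notMem (by simp [n4, n5]),
    Finset.card_pair n6] at hc4
  omega

theorem psl8_order_nine {F : Type*} [Field F] [Fintype F] (hF : Fintype.card F = 8) :
    ∃ x : Matrix.ProjectiveSpecialLinearGroup (Fin 2) F, orderOf x = 9 := by
  classical
  haveI : Fact (Nat.Prime 3) := ⟨Nat.prime_three⟩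
  haveI : Fact (Nat.Prime 2) := ⟨Nat.prime_two⟩
  haveI : CharP F 2 := charP_of_card_eq_prime_pow (p := 2) (f := 3) (by simpa using hF)
  have h2 : (2 : F) = 0 := CharTwo.two_eq_zero
  obtain ⟨t, ht⟩ : ∃ t : F, t ^ 3 + t + 1 = 0 := by
    obtain ⟨a, ha0, ha1⟩ : ∃ a : F, a ≠ 0 ∧ a ≠ 1 := by
      obtain ⟨a, ha⟩ := Finset.exists_mem_notMem_of_card_lt_card (s := ({0, 1} : Finset F)) (t := Finset.univ)
        (by rw [Finset.card_univ, hF]; exact lt_of_le_of_lt (Finset.card_le_two) (by norm_num))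
      simp at ha
      exact ⟨a, ha.1, ha.2⟩
    have h7 : a ^ 7 = 1 := by
      have := FiniteField.pow_card_sub_one_eq_one a ha0
      rwa [hF] at this
    have hprod : (a ^ 3 + a + 1) * (a ^ 3 + a ^ 2 + 1) * (a - 1) = 0 := by
      linear_combination h7 + (a ^ 4 - a ^ 3) * h2
    rcases mul_eq_zero.1 hprod with h | h
    · rcases mul_eq_zero.1 h with h | h
      · exact ⟨a, h⟩
      · refine ⟨a⁻¹, ?_⟩
        field_simp
        linear_combination h
    · exact absurd (sub_eq_zero.1 h) ha1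
  let M : Matrix.SpecialLinearGroup (Fin 2) F := ⟨!![0, 1; 1, t], by
    rw [Matrix.det_fin_two_of]; linear_combination (-1 : F) * h2⟩
  have hM : (M : Matrix (Fin 2) (Fin 2) F) = !![0, 1; 1, t] := rfl
  have hM3 : ((M ^ 3 : Matrix.SpecialLinearGroup (Fin 2) F) : Matrix (Fin 2) (Fin 2) F) = !![t, t * t + 1; t * t + 1, t * t * t] := by
    rw [pow_succ', pow_two, Matrix.SpecialLinearGroup.coe_mul, Matrix.SpecialLinearGroup.coe_mul, hM]
    ext i j
    fin_cases i <;> fin_cases j <;>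
      simp only [Matrix.mul_apply, Fin.sum_univ_two, Matrix.of_apply, Matrix.cons_val', Matrix.cons_val_zero, Matrix.cons_val_one,
        Matrix.empty_val', Fin.zero_eta, Fin.mk_one, Fin.isValue]
    · ring
    · ring
    · ring
    · linear_combination t * h2
  have hM9 : M ^ 9 = 1 := by
    rw [show (9 : ℕ) = 3 * 3 from rfl, pow_mul]
    refine Subtype.ext ?_
    rw [pow_succ' (M ^ 3), pow_two, Matrix.SpecialLinearGroup.coe_mul, Matrix.SpecialLinearGroup.coe_mul, hM3, Matrix.SpecialLinearGroup.coe_one]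
    ext i j
    fin_cases i <;> fin_cases j <;>
      simp only [Matrix.mul_apply, Fin.sum_univ_two, Matrix.of_apply, Matrix.cons_val', Matrix.cons_val_zero, Matrix.cons_val_one,
        Matrix.empty_val', Fin.zero_eta, Fin.mk_one, Fin.isValue, Matrix.one_apply, if_true, if_false, Fin.reduceEq, zero_ne_one, one_ne_zero]
    · linear_combination ((1) * t ^ 4 + (3) * t ^ 2 + (-1) * t ^ 1 + (3) * t ^ 0) * ht + ((-1) * t ^ 2 + (-2) * t ^ 0) * h2
    · linear_combination ((1) * t ^ 5 + (2) * t ^ 3 + (-1) * t ^ 2 + (3) * t ^ 1 + (-1) * t ^ 0) * ht + ((1) * t ^ 2 + (-1) * t ^ 1 + (1) * t ^ 0) * h2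
    · linear_combination ((1) * t ^ 5 + (2) * t ^ 3 + (-1) * t ^ 2 + (3) * t ^ 1 + (-1) * t ^ 0) * ht + ((1) * t ^ 2 + (-1) * t ^ 1 + (1) * t ^ 0) * h2
    · linear_combination ((1) * t ^ 6 + (1) * t ^ 4 + (-1) * t ^ 3 + (4) * t ^ 2 + (1) * t ^ 0) * ht + ((-2) * t ^ 2 + (-1) * t ^ 0) * h2
  refine ⟨QuotientGroup.mk M, orderOf_eq_prime_pow (p := 3) (n := 1) ?_ ?_⟩
  · rw [pow_one, ← QuotientGroup.mk_pow, QuotientGroup.eq_one_iff, Subgroup.mem_center_iff]
    intro h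
    let U : Matrix.SpecialLinearGroup (Fin 2) F := ⟨!![1, 1; 0, 1], by rw [Matrix.det_fin_two_of]; ring⟩
    have hU : (U : Matrix (Fin 2) (Fin 2) F) = !![1, 1; 0, 1] := rfl
    have hm := congrArg (fun z : Matrix.SpecialLinearGroup (Fin 2) F => (z : Matrix (Fin 2) (Fin 2) F)) (h U)
    simp only [Matrix.SpecialLinearGroup.coe_mul, hM3, hU] at hm
    have this := congrFun (congrFun hm 0) 0
    simp [Matrix.mul_apply, Matrix.vecMul, dotProduct, Fin.sum_univ_two] at this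
    have h1 : t * t + 1 = 0 := by linear_combination this
    have h2' : t = 1 := by
      have : (t + 1) * (t + 1) = 0 := by linear_combination h1 + t * h2
      have := mul_self_eq_zero.1 this
      linear_combination this - h2
    rw [h2'] at ht
    exact one_ne_zero (α := F) (by linear_combination ht - h2)
  · rw [← QuotientGroup.mk_pow, show (3 : ℕ) ^ (1 + 1) = 9 from rfl, hM9]; rfl


/-- Let X be a section of the general linear group GL(5, 2), that is, a quotient of a subgroup of it. If X is isomorphic to PSL(2, 2^n) for some n ≥ 2, to a Suzuki group over the field with 2^(2m+1) elements for some m ≥ 1, or to PSU(3, 2^n) for some n ≥ 2, then X is isomorphic to PSL(2, 4). -/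
theorem result {H : Subgroup (GL (Fin 5) (ZMod 2))}
    {K : Subgroup ↥H} [K.Normal]
    (hX : (∃ (n : ℕ) (F : Type) (_ : Field F) (_ : Fintype F), 2 ≤ n ∧ Fintype.card F = 2 ^ n ∧
        Nonempty (↥H ⧸ K ≃* Matrix.ProjectiveSpecialLinearGroup (Fin 2) F)) ∨
      (∃ (m : ℕ) (F : Type) (_ : Field F) (_ : Fintype F), 1 ≤ m ∧ Fintype.card F = 2 ^ (2 * m + 1) ∧
        Nonempty (↥H ⧸ K ≃* ↥(Cfsg.Lie.Sz F (2 ^ (m + 1))))) ∨
      (∃ (n : ℕ) (F : Type) (_ : Field F) (_ : Fintype F), 2 ≤ n ∧ Fintype.card F = 4 ^ n ∧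
        Nonempty (↥H ⧸ K ≃* Cfsg.PSU 3 F (2 ^ n)))) :
    ∃ (F : Type) (_ : Field F) (_ : Fintype F), Fintype.card F = 4 ∧
      Nonempty (↥H ⧸ K ≃* Matrix.ProjectiveSpecialLinearGroup (Fin 2) F) := by
  classical
  have hdvd : Nat.card (↥H ⧸ K) ∣ 9999360 := by
    rw [← card_gl]
    exact (Subgroup.card_quotient_dvd_card K).trans (Subgroup.card_subgroup_dvd_card H)
  rcases hX with ⟨n, F, _, _, hn, hF, ⟨e⟩⟩ | ⟨m, F, _, _, hm, hF, ⟨e⟩⟩ | ⟨n, F, _, _, hn, hF, ⟨e⟩⟩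
  · have hq4 : 4 ≤ 2 ^ n := le_trans (by norm_num) (Nat.pow_le_pow_right two_pos hn)
    have hc : Nat.card (↥H ⧸ K) * (2 ^ n - 1) = (2 ^ n) * (2 ^ n - 1) * ((2 ^ n) ^ 2 - 1) := by
      have h := Cfsg.Agent.S0243.result hF 2 le_rfl
      rw [← Nat.card_congr e.toEquiv, Fin.prod_univ_two] at h
      simp only [Fin.val_zero, Fin.val_one, pow_zero, pow_one] at h
      have hodd : Nat.gcd 2 (2 ^ n - 1) = 1 := (Nat.Prime.coprime_iff_not_dvd Nat.prime_two).2 (by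
        intro hd
        have h1 : 2 ∣ 2 ^ n := dvd_pow_self 2 (by omega)
        omega)
      have h3 : (2 ^ n) ^ 2 - 2 ^ n = 2 ^ n * (2 ^ n - 1) := by rw [Nat.mul_sub_one, pow_two]
      rw [hodd, one_mul, h3] at h
      rw [mul_comm, h, mul_comm]
    have hc' : Nat.card (↥H ⧸ K) = 2 ^ n * ((2 ^ n) ^ 2 - 1) :=
      Nat.eq_of_mul_eq_mul_right (show 0 < 2 ^ n - 1 by omega) (by rw [hc]; ring)
    have hle : n ≤ 7 := by
      by_contra h
      push Not at h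
      have h8 : 2 ^ 8 ≤ 2 ^ n := Nat.pow_le_pow_right two_pos h
      have := Nat.le_of_dvd (by norm_num) hdvd
      rw [hc'] at this
      have : 2 ^ 8 * ((2 ^ 8) ^ 2 - 1) ≤ 2 ^ n * ((2 ^ n) ^ 2 - 1) :=
        Nat.mul_le_mul h8 (Nat.sub_le_sub_right (Nat.pow_le_pow_left h8 2) 1)
      omega
    rw [hc'] at hdvd
    interval_cases n <;> (try (revert hdvd; norm_num; done)) <;> norm_num at hF
    · exact ⟨F, inferInstance, inferInstance, hF, ⟨e⟩⟩
    · exfalso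
      obtain ⟨x, hx⟩ := psl8_order_nine hF
      obtain ⟨h, hh⟩ := QuotientGroup.mk_surjective (e.symm x)
      have h9 : 9 ∣ orderOf (h : GL (Fin 5) (ZMod 2)) := by
        rw [Subgroup.orderOf_coe, ← hx, ← MulEquiv.orderOf_eq e.symm x, ← hh]
        exact orderOf_map_dvd (QuotientGroup.mk' K) h
      refine no_order_nine ((h : GL (Fin 5) (ZMod 2)) ^ (orderOf (h : GL (Fin 5) (ZMod 2)) / 9)) ?_
      exact orderOf_pow_orderOf_div (orderOf_pos _).ne' h9
  · exfalso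
    rw [Nat.card_congr e.toEquiv, (Cfsg.Agent.S1163.result hm hF).1] at hdvd
    have hle : m ≤ 2 := by
      by_contra h
      push Not at h
      have h7 : 2 ^ 7 ≤ 2 ^ (2 * m + 1) := Nat.pow_le_pow_right two_pos (by omega)
      have := Nat.le_of_dvd (by norm_num) hdvd
      have : (2 ^ 7) ^ 2 * (2 ^ 7 - 1) * ((2 ^ 7) ^ 2 + 1) ≤ (2 ^ (2 * m + 1)) ^ 2 * (2 ^ (2 * m + 1) - 1) * ((2 ^ (2 * m + 1)) ^ 2 + 1) :=
        Nat.mul_le_mul (Nat.mul_le_mul (Nat.pow_le_pow_left h7 2) (Nat.sub_le_sub_right h7 1)) (Nat.add_le_add_right (Nat.pow_le_pow_left h7 2) 1)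
      omega
    interval_cases m <;> norm_num at hdvd
  · exfalso
    have hF' : Fintype.card F = (2 ^ n) ^ 2 := by rw [hF, ← pow_mul, mul_comm, pow_mul]; norm_num
    have h := Cfsg.Agent.S0280.result hF' 3 (by norm_num)
    rw [← Nat.card_congr e.toEquiv] at h
    simp only [Finset.prod_range_succ, Finset.prod_range_zero, one_mul] at h
    have e1 : ¬ Even 1 := by decide
    simp only [show Even 0 from ⟨0, rfl⟩, e1, show Even 2 from ⟨1, rfl⟩, if_true, if_false] at h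
    norm_num [-Nat.card_eq_fintype_card] at h
    have hbound := Nat.mul_dvd_mul_left (Nat.gcd 3 (2 ^ n + 1) * (2 ^ n + 1)) hdvd
    rw [mul_assoc, h] at hbound
    have hle : n ≤ 4 := by
      by_contra hh
      push Not at hh
      have h4 : 2 ^ 5 ≤ 2 ^ n := Nat.pow_le_pow_right two_pos hh
      have hg : Nat.gcd 3 (2 ^ n + 1) ≤ 3 := Nat.gcd_le_left _ (by norm_num)
      have hpos : 0 < Nat.gcd 3 (2 ^ n + 1) * (2 ^ n + 1) * 9999360 := by positivity
      have hb := (Nat.le_of_dvd hpos hbound).trans (Nat.mul_le_mul_right _ (Nat.mul_le_mul_right _ hg))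
      norm_num at h4
      generalize 2 ^ n = q at hb h4
      have hA : 32 ^ 3 * (32 ^ 2 - 1) ≤ q ^ 3 * (q ^ 2 - 1) :=
        Nat.mul_le_mul (Nat.pow_le_pow_left h4 3) (Nat.sub_le_sub_right (Nat.pow_le_pow_left h4 2) 1)
      have h5 : (q + 1) * (32 ^ 3 * (32 ^ 2 - 1)) ≤ (q + 1) * (3 * 9999360) :=
        calc (q + 1) * (32 ^ 3 * (32 ^ 2 - 1)) ≤ (q + 1) * (q ^ 3 * (q ^ 2 - 1)) := Nat.mul_le_mul_left _ hA
          _ ≤ (q + 1) * (q ^ 3 * (q ^ 2 - 1)) * (q ^ 3 + 1) := Nat.le_mul_of_pos_right _ (Nat.succ_pos _)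
          _ = q ^ 3 * ((q + 1) * (q ^ 2 - 1) * (q ^ 3 + 1)) := by ring
          _ ≤ 3 * (q + 1) * 9999360 := hb
          _ = (q + 1) * (3 * 9999360) := by ring
      have := Nat.le_of_mul_le_mul_left h5 (Nat.succ_pos q)
      norm_num at this
    interval_cases n <;> norm_num at hbound

end Cfsg.Agent.S3179
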