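import Cfsg.Statements.S3180

-- import your own Cfsg.Agent.* helpers here

set_option autoImplicit false
open Cfsg

namespace Cfsg.Agent.S3180

/-- Let P be a Sylow p-subgroup of a finite group J and P₁ a subgroup of P that is weakly closed in P with respect to J. If J acts on a set and two points, each fixed by every element of P₁, lie in one J-orbit, then they lie in one orbit of the normalizer of P₁ in J. -/
theorem result {J : Type*} [Group J] [Finite J]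
    {p : ℕ} [Fact p.Prime] (P : Sylow p J) (P₁ : Subgroup J) (hW : Cfsg.IsWeaklyClosed P₁ (P : Subgroup J))
    {Ω : Type*} [MulAction J Ω] (x y : Ω) (hx : ∀ g ∈ P₁, g • x = x) (hy : ∀ g ∈ P₁, g • y = y)
    (hc : ∃ g : J, g • x = y) :
    ∃ g ∈ Subgroup.normalizer (P₁ : Set J), g • x = y := by
  obtain ⟨hle, hwc⟩ := hW
  obtain ⟨g, hg⟩ := hc
  let K := MulAction.stabilizer J x
  let P₂ : Subgroup J := P₁.map (MulAut.conj g⁻¹).toMonoidHom
  have h1K : P₁ ≤ K := fun q hq => hx q hq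
  have h2K : P₂ ≤ K := by
    rintro _ ⟨q, hq, rfl⟩
    show (g⁻¹ * q * g⁻¹⁻¹) • x = x
    rw [inv_inv, mul_smul, mul_smul, hg, hy q hq, ← hg, inv_smul_smul]
  have hp1 : IsPGroup p P₁ := P.2.to_le hle
  have hp2 : IsPGroup p P₂ := hp1.map _
  obtain ⟨Q, hQ⟩ := (hp1.comap_of_injective K.subtype K.subtype_injective).exists_le_sylow
  obtain ⟨Q', hQ'⟩ := (hp2.comap_of_injective K.subtype K.subtype_injective).exists_le_sylow
  obtain ⟨k, hk⟩ := MulAction.exists_smul_eq K Q' Q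
  have hQp : IsPGroup p ((Q : Subgroup K).map K.subtype) := Q.2.map _
  obtain ⟨R, hR⟩ := hQp.exists_le_sylow
  obtain ⟨a, ha⟩ := MulAction.exists_smul_eq J R P
  have hmap : ∀ q ∈ (Q : Subgroup K).map K.subtype, a * q * a⁻¹ ∈ (P : Subgroup J) := by
    intro q hq
    rw [← ha]
    exact Subgroup.smul_mem_pointwise_smul q (MulAut.conj a) _ (hR hq)
  have hcl : ∀ q ∈ P₁, a * q * a⁻¹ ∈ (P : Subgroup J) := fun q hq =>
    hmap q ⟨⟨q, h1K hq⟩, hQ hq, rfl⟩
  have hcl2 : ∀ q ∈ P₂, a * ((k : J) * q * (k : J)⁻¹) * a⁻¹ ∈ (P : Subgroup J) := fun q hq => by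
    refine hmap _ ⟨k * ⟨q, h2K hq⟩ * k⁻¹, ?_, rfl⟩
    rw [← hk]
    exact Subgroup.smul_mem_pointwise_smul _ (MulAut.conj k) _ (hQ' hq)
  have e1 : P₁.map (MulAut.conj a).toMonoidHom = P₁ := hwc a (by
    rintro _ ⟨q, hq, rfl⟩; exact hcl q hq)
  have e2 : P₁.map (MulAut.conj (a * (k : J) * g⁻¹)).toMonoidHom = P₁ := hwc _ (by
    rintro _ ⟨q, hq, rfl⟩
    show a * (k : J) * g⁻¹ * q * (a * (k : J) * g⁻¹)⁻¹ ∈ _
    have := hcl2 (g⁻¹ * q * g⁻¹⁻¹) ⟨q, hq, rfl⟩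
    simpa [mul_assoc] using this)
  have hn : ∀ b : J, P₁.map (MulAut.conj b).toMonoidHom = P₁ → b ∈ Subgroup.normalizer (P₁ : Set J) := by
    intro b hb
    rw [Subgroup.mem_set_normalizer_iff]
    intro q
    constructor
    · intro hq
      have : b * q * b⁻¹ ∈ P₁.map (MulAut.conj b).toMonoidHom := ⟨q, hq, rfl⟩
      rwa [hb] at this
    · intro hq
      rw [SetLike.mem_coe, ← hb] at hq
      obtain ⟨q', hq', e⟩ := hq
      rwa [(MulAut.conj b).injective (a₁ := q') (a₂ := q) e] at hq'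
  refine ⟨(a * (k : J) * g⁻¹)⁻¹ * a, Subgroup.mul_mem _ (Subgroup.inv_mem _ (hn _ e2)) (hn _ e1), ?_⟩
  have hkx : (k : J)⁻¹ • x = x := inv_smul_eq_iff.2 k.2.symm
  rw [show (a * (k : J) * g⁻¹)⁻¹ * a = g * (k : J)⁻¹ by group, mul_smul, hkx, hg]

end Cfsg.Agent.S3180
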