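import Cfsg.Statements.S3183
import Cfsg.Agent.Lib.Small.SylowInside
-- import your own Cfsg.Agent.* helpers here

set_option autoImplicit false
open Cfsg

namespace Cfsg.Agent.S3183

/-- Let G be a finite group in which the intersection of any two distinct Sylow 2-subgroups is contained in the centre of some Sylow 2-subgroup, and let S be a Sylow 2-subgroup. Then for every x in S the centralizer of x in S is a Sylow 2-subgroup of the centralizer of x in G (no 2-subgroup centralizing x is larger), and for every other Sylow 2-subgroup T the intersection S ∩ T lies in both the centre of S and the centre of T. -/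
theorem result {G : Type*} [Group G] [Finite G]
    (hCI : ∀ S T : Sylow 2 G, S ≠ T → ∃ U : Sylow 2 G,
      (S : Subgroup G) ⊓ (T : Subgroup G) ≤ (Subgroup.center ↥(U : Subgroup G)).map (U : Subgroup G).subtype)
    (S : Sylow 2 G) :
    (∀ x ∈ (S : Subgroup G), ∀ P : Subgroup G, IsPGroup 2 ↥P → P ≤ Subgroup.centralizer ({x} : Set G) →
        Nat.card ↥P ≤ Nat.card ↥((S : Subgroup G) ⊓ Subgroup.centralizer ({x} : Set G))) ∧
    (∀ T : Sylow 2 G, T ≠ S →
        (S : Subgroup G) ⊓ (T : Subgroup G) ≤
          (Subgroup.center ↥(S : Subgroup G)).map (S : Subgroup G).subtype ⊓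
            (Subgroup.center ↥(T : Subgroup G)).map (T : Subgroup G).subtype) := by
  have : Fact (Nat.Prime 2) := ⟨Nat.prime_two⟩
  have memZ : ∀ (U : Sylow 2 G) (d : G), d ∈ (Subgroup.center ↥(U : Subgroup G)).map (U : Subgroup G).subtype ↔
      d ∈ (U : Subgroup G) ∧ ∀ u ∈ (U : Subgroup G), u * d = d * u := by
    intro U d
    constructor
    · rintro ⟨c, hc, rfl⟩
      exact ⟨c.2, fun u hu => congrArg Subtype.val (Subgroup.mem_center_iff.1 hc ⟨u, hu⟩)⟩
    · rintro ⟨h1, h2⟩
      exact ⟨⟨d, h1⟩, Subgroup.mem_center_iff.2 fun u => Subtype.ext (h2 u u.2), rfl⟩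
  have main : ∀ (n : ℕ) (S T : Sylow 2 G), S ≠ T →
      Nat.card G - Nat.card ↥((S : Subgroup G) ⊓ (T : Subgroup G)) = n →
      (S : Subgroup G) ⊓ (T : Subgroup G) ≤ (Subgroup.center ↥(S : Subgroup G)).map (S : Subgroup G).subtype := by
    intro n
    induction n using Nat.strong_induction_on with
    | _ n ih => ?_
    intro S T hST hn
    obtain ⟨U, hU⟩ := hCI S T hST
    obtain ⟨D, hDdef⟩ : ∃ D : Subgroup G, D = (S : Subgroup G) ⊓ (T : Subgroup G) := ⟨_, rfl⟩
    rw [← hDdef] at hU hn ⊢
    have hDS : D ≤ (S : Subgroup G) := hDdef ▸ inf_le_left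
    have hUC : (U : Subgroup G) ≤ Subgroup.centralizer (D : Set G) := fun u hu =>
      Subgroup.mem_centralizer_iff.2 fun d hd => (((memZ U d).1 (hU hd)).2 u hu).symm
    have hDC : D ≤ Subgroup.centralizer (D : Set G) := fun d hd => hUC ((memZ U d).1 (hU hd)).1
    by_cases hall : (S : Subgroup G) ≤ Subgroup.centralizer (D : Set G)
    · exact fun d hd => (memZ S d).2 ⟨hDS hd, fun u hu => (Subgroup.mem_centralizer_iff.1 (hall hu) d hd).symm⟩
    obtain ⟨k, hk, hkU⟩ := Cfsg.Agent.Small.exists_smul_sylow_ge_inside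
      ((S : Subgroup G) ⊓ Subgroup.centralizer (D : Set G)) (S.2.to_le inf_le_left) inf_le_right U hUC
    have hkC : ((k • U : Sylow 2 G) : Subgroup G) ≤ Subgroup.centralizer (D : Set G) := by
      intro x hx
      rw [Cfsg.Agent.Small.sylow_smul_mem_iff] at hx
      have := Subgroup.mul_mem _ (Subgroup.mul_mem _ hk (hUC hx)) (Subgroup.inv_mem _ hk)
      simpa [mul_assoc] using this
    have hne : S ≠ k • U := fun h => hall (h ▸ hkC)
    have hDle : D ≤ (S : Subgroup G) ⊓ ((k • U : Sylow 2 G) : Subgroup G) :=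
      le_inf hDS fun d hd => hkU ⟨hDS hd, hDC hd⟩
    by_cases hcard : Nat.card D < Nat.card ↥((S : Subgroup G) ⊓ ((k • U : Sylow 2 G) : Subgroup G))
    · refine hDle.trans (ih _ ?_ S _ hne rfl)
      have := Subgroup.card_le_card_group ((S : Subgroup G) ⊓ ((k • U : Sylow 2 G) : Subgroup G))
      omega
    have hDeq := Subgroup.eq_of_le_of_card_ge hDle (not_lt.1 hcard)
    have hSC : (S : Subgroup G) ⊓ Subgroup.centralizer (D : Set G) ≤ D := by
      intro d hd
      rw [hDeq]
      exact ⟨hd.1, hkU hd⟩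
    exfalso
    have hSnil : Group.IsNilpotent (S : Subgroup G) := S.2.isNilpotent
    have hlt : D.subgroupOf (S : Subgroup G) < ⊤ := by
      refine lt_top_iff_ne_top.2 fun h => hST ?_
      rw [Subgroup.subgroupOf_eq_top, hDdef] at h
      have : (S : Subgroup G) ≤ T := h.trans inf_le_right
      exact Sylow.ext (Subgroup.eq_of_le_of_card_ge this
        (le_of_eq ((Sylow.card_eq_multiplicity T).trans (Sylow.card_eq_multiplicity S).symm)))
    obtain ⟨⟨x, hxS⟩, hxN, hxD⟩ := SetLike.exists_of_lt
      (Group.normalizerCondition_of_isNilpotent (G := (S : Subgroup G)) _ hlt)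
    rw [Subgroup.mem_set_normalizer_iff] at hxN
    have hxN' : x ∈ Subgroup.normalizer (D : Set G) := by
      rw [Subgroup.mem_set_normalizer_iff]
      intro d
      constructor
      · intro hd; exact (hxN ⟨d, hDS hd⟩).1 hd
      · intro hd
        have hdS : d ∈ (S : Subgroup G) := by
          have := (S : Subgroup G).mul_mem ((S : Subgroup G).mul_mem ((S : Subgroup G).inv_mem hxS) (hDS hd)) hxS
          simpa [mul_assoc] using this
        exact (hxN ⟨d, hdS⟩).2 hd
    have hCN : Subgroup.centralizer (D : Set G) ≤ Subgroup.normalizer (D : Set G) :=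
      (Subgroup.centralizer_le_normalizer _)
    obtain ⟨a, ha, haU⟩ := Cfsg.Agent.Small.exists_smul_sylow_ge_inside
      ((S : Subgroup G) ⊓ Subgroup.normalizer (D : Set G)) (S.2.to_le inf_le_left) inf_le_right U
      (hUC.trans hCN)
    have hxU := haU ⟨hxS, hxN'⟩
    rw [Cfsg.Agent.Small.sylow_smul_mem_iff] at hxU
    have hxC : x ∈ Subgroup.centralizer (D : Set G) := by
      rw [Subgroup.mem_centralizer_iff]
      intro d hd
      have hd' : a⁻¹ * d * a ∈ D := by
        have := (Subgroup.mem_set_normalizer_iff.1 (Subgroup.inv_mem _ ha) d).1 hd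
        simpa using this
      have h := Subgroup.mem_centralizer_iff.1 (hUC hxU) _ hd'
      calc d * x = a * ((a⁻¹ * d * a) * (a⁻¹ * x * a)) * a⁻¹ := by group
        _ = a * ((a⁻¹ * x * a) * (a⁻¹ * d * a)) * a⁻¹ := by rw [h]
        _ = x * d := by group
    exact hxD (hSC ⟨hxS, hxC⟩)
  have hb : ∀ T : Sylow 2 G, T ≠ S →
      (S : Subgroup G) ⊓ (T : Subgroup G) ≤
        (Subgroup.center ↥(S : Subgroup G)).map (S : Subgroup G).subtype ⊓
          (Subgroup.center ↥(T : Subgroup G)).map (T : Subgroup G).subtype := fun T hT =>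
    le_inf (main _ S T hT.symm rfl) (inf_comm (T : Subgroup G) (S : Subgroup G) ▸ main _ T S hT rfl)
  refine ⟨fun x hx P hP hPC => ?_, hb⟩
  have hzx : IsPGroup 2 (Subgroup.zpowers x) := S.2.to_le (Subgroup.zpowers_le.2 hx)
  have hnorm : P ≤ Subgroup.normalizer ((Subgroup.zpowers x : Subgroup G) : Set G) := by
    refine hPC.trans ?_
    refine le_trans ?_ (Subgroup.centralizer_le_normalizer _)
    rw [← Subgroup.centralizer_closure, Subgroup.zpowers_eq_closure]
  obtain ⟨T, hT⟩ := (hP.to_sup_of_normal_right' hzx hnorm).exists_le_sylow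
  by_cases hTS : T = S
  · subst hTS
    exact Nat.card_le_card_of_injective _
      (Subgroup.inclusion_injective (le_inf (le_sup_left.trans hT) hPC))
  · have hxT : x ∈ (T : Subgroup G) := hT (le_sup_right (a := P) (Subgroup.mem_zpowers x))
    have hcx := ((memZ S x).1 (hb T hTS ⟨hx, hxT⟩).1).2
    have hall : (S : Subgroup G) ≤ Subgroup.centralizer ({x} : Set G) := fun u hu =>
      Subgroup.mem_centralizer_singleton_iff.2 (hcx u hu)
    rw [inf_eq_left.2 hall, Sylow.card_eq_multiplicity S, ← Sylow.card_eq_multiplicity T]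
    exact Nat.card_le_card_of_injective _ (Subgroup.inclusion_injective (le_sup_left.trans hT))

end Cfsg.Agent.S3183
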