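import Cfsg.Statements.S3184
import Cfsg.Agent.Lib.Char.ZStar

set_option autoImplicit false
open Cfsg
open scoped ComplexConjugate

namespace Cfsg.Agent.S3184

/-- Let G be a finite group in which the intersection of any two distinct Sylow 2-subgroups is contained in the centre of some Sylow 2-subgroup, and let S be a Sylow 2-subgroup. If C is a nontrivial cyclic characteristic subgroup of S, then the involution of C is central modulo the largest normal subgroup of odd order of G: each of its conjugates has the same image in G/O(G). -/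
theorem result {G : Type*} [Group G] [Finite G]
    (hCI : ∀ S T : Sylow 2 G, S ≠ T → ∃ U : Sylow 2 G,
      (S : Subgroup G) ⊓ (T : Subgroup G) ≤ (Subgroup.center ↥(U : Subgroup G)).map (U : Subgroup G).subtype)
    (S : Sylow 2 G) (C : Subgroup ↥(S : Subgroup G)) (hC : C ≠ ⊥) (hCc : IsCyclic ↥C) (hCh : C.Characteristic)
    (c : ↥(S : Subgroup G)) (hc : c ∈ C) (hc2 : orderOf c = 2) :
    ∀ g : G, (QuotientGroup.mk (s := Cfsg.oddCore G) (g * (c : G) * g⁻¹)) =
      QuotientGroup.mk (s := Cfsg.oddCore G) (c : G) := by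
  classical
  haveI : Fact (Nat.Prime 2) := ⟨Nat.prime_two⟩
  have hmapc : ∀ (V : Sylow 2 G) (w : G),
      w ∈ (Subgroup.center ↥(V : Subgroup G)).map (V : Subgroup G).subtype ↔
        w ∈ (V : Subgroup G) ∧ ∀ v ∈ (V : Subgroup G), v * w = w * v := by
    intro V w
    constructor
    · rintro ⟨a, ha, rfl⟩
      exact ⟨a.2, fun v hv => congrArg Subtype.val (Subgroup.mem_center_iff.mp ha ⟨v, hv⟩)⟩
    · rintro ⟨hw, hcomm⟩
      exact ⟨⟨w, hw⟩, Subgroup.mem_center_iff.mpr fun v => Subtype.ext (hcomm v v.2), rfl⟩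
  -- an element of `S` central in some Sylow subgroup is central in `S`
  have key : ∀ x ∈ (S : Subgroup G), (∃ R : Sylow 2 G, x ∈ (R : Subgroup G) ∧
      ∀ v ∈ (R : Subgroup G), v * x = x * v) → ∀ s ∈ (S : Subgroup G), s * x = x * s := by
    rintro x hxS ⟨R, hxR, hR⟩
    set K := Subgroup.centralizer ({x} : Set G) with hK
    have hRK : (R : Subgroup G) ≤ K := fun v hv =>
      Subgroup.mem_centralizer_singleton_iff.mpr (hR v hv)
    set D := (S : Subgroup G) ⊓ K with hD
    obtain ⟨Q, hQ⟩ := (IsPGroup.comap_subtype (K := K)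
      (S.2.to_le inf_le_left : IsPGroup 2 D)).exists_le_sylow
    obtain ⟨a, ha⟩ := MulAction.exists_smul_eq K (R.subtype hRK) Q
    obtain ⟨T, hTK, hDT⟩ : ∃ T : Sylow 2 G, (T : Subgroup G) ≤ K ∧ D ≤ (T : Subgroup G) := by
      refine ⟨(a : G) • R, ?_, ?_⟩
      · rintro _ ⟨v, hv, rfl⟩
        exact mul_mem (mul_mem a.2 (hRK hv)) (inv_mem a.2)
      · intro d hd
        have h1 : (⟨d, hd.2⟩ : K) ∈ (Q : Subgroup K) := hQ (Subgroup.mem_subgroupOf.mpr hd)
        rw [← ha] at h1
        obtain ⟨v, hv, he⟩ := h1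
        exact ⟨v, hv, congrArg Subtype.val he⟩
    intro s hs
    by_contra hne
    have hTS : S ≠ T := by
      rintro rfl
      exact hne (Subgroup.mem_centralizer_singleton_iff.mp (hTK hs))
    obtain ⟨U, hU⟩ := hCI S T hTS
    have hDU : ∀ d ∈ D, d ∈ (U : Subgroup G) ∧ ∀ v ∈ (U : Subgroup G), v * d = d * v :=
      fun d hd => (hmapc U d).mp (hU ⟨hd.1, hDT hd⟩)
    have hsD : D ≠ (S : Subgroup G) := fun e => hne (Subgroup.mem_centralizer_singleton_iff.mp
      ((hD ▸ e ▸ hs : s ∈ (S : Subgroup G) ⊓ K).2))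
    obtain ⟨y, hy, hyD⟩ := SetLike.exists_of_lt
      (Cfsg.Agent.Fusion.SylIn.normalizer_growth (T := D) inf_le_left hsD S.2)
    set CD := Subgroup.centralizer (D : Set G) with hCD
    set ND := Subgroup.normalizer (D : Set G) with hND
    have hUC : (U : Subgroup G) ≤ CD := fun v hv =>
      Subgroup.mem_centralizer_iff.mpr fun d hd => ((hDU d hd).2 v hv).symm
    have hUN : (U : Subgroup G) ≤ ND := hUC.trans (Subgroup.centralizer_le_normalizer _)
    obtain ⟨Q', hQ'⟩ := (IsPGroup.comap_subtype (K := ND) (S.2.to_le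
      (Subgroup.zpowers_le.mpr hy.1) : IsPGroup 2 (Subgroup.zpowers y))).exists_le_sylow
    obtain ⟨b, hb⟩ := MulAction.exists_smul_eq ND (U.subtype hUN) Q'
    have hyCD : y ∈ CD := by
      have h1 : (⟨y, hy.2⟩ : ND) ∈ (Q' : Subgroup ND) :=
        hQ' (Subgroup.mem_subgroupOf.mpr (Subgroup.mem_zpowers y))
      rw [← hb] at h1
      obtain ⟨v, hv, he⟩ := h1
      have he' : (b : G) * (v : G) * (b : G)⁻¹ = y := congrArg Subtype.val he
      rw [← he', hCD, Subgroup.mem_centralizer_iff]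
      intro d hd
      have hd' : (b : G)⁻¹ * d * b ∈ D := (Subgroup.mem_normalizer_iff''.mp b.2 d).mp hd
      have h2 := (hDU _ hd').2 (v : G) hv
      calc d * ((b : G) * v * (b : G)⁻¹) = b * ((b : G)⁻¹ * d * b * v) * (b : G)⁻¹ := by group
        _ = _ := by rw [← h2]; group
    have hxD : x ∈ D := ⟨hxS, Subgroup.mem_centralizer_singleton_iff.mpr rfl⟩
    exact hyD ⟨hy.1, Subgroup.mem_centralizer_singleton_iff.mpr
      ((Subgroup.mem_centralizer_iff.mp hyCD x hxD).symm)⟩
  -- the involution is fixed by automorphisms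
  have huniq : ∀ d ∈ C, orderOf d = 2 → d = c := by
    intro d hd hd2
    haveI := Fintype.ofFinite C
    have hdvd : 2 ∣ Fintype.card C := by
      rw [← Nat.card_eq_fintype_card]
      exact hc2.symm.dvd.trans (Subgroup.orderOf_dvd_natCard C hc)
    have h2 := IsCyclic.card_orderOf_eq_totient (α := C) hdvd
    rw [Nat.totient_two, Finset.card_eq_one] at h2
    obtain ⟨w, hw⟩ := h2
    have e1 : (⟨d, hd⟩ : C) ∈ ({w} : Finset C) := by
      rw [← hw, Finset.mem_filter, Subgroup.orderOf_mk]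
      exact ⟨Finset.mem_univ _, hd2⟩
    have e2 : (⟨c, hc⟩ : C) ∈ ({w} : Finset C) := by
      rw [← hw, Finset.mem_filter, Subgroup.orderOf_mk]
      exact ⟨Finset.mem_univ _, hc2⟩
    rw [Finset.mem_singleton] at e1 e2
    exact congrArg Subtype.val (e1.trans e2.symm)
  have hfix : ∀ φ : (S : Subgroup G) ≃* (S : Subgroup G), φ c = c := fun φ =>
    huniq _ ((SetLike.ext_iff.mp (hCh.fixed φ) c).mpr hc)
      ((MulEquiv.orderOf_eq φ c).trans hc2)
  have hcen : ∀ s ∈ (S : Subgroup G), s * (c : G) = (c : G) * s := by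
    intro s hs
    have h1 := congrArg Subtype.val (hfix (MulAut.conj (⟨s, hs⟩ : (S : Subgroup G))))
    exact mul_inv_eq_iff_eq_mul.mp (by simpa using h1)
  have hiso : ∀ g : G, g * (c : G) * g⁻¹ ∈ (S : Subgroup G) → g * (c : G) * g⁻¹ = c := by
    intro g hg
    have hcc := key _ hg ⟨g • S, ⟨c, c.2, rfl⟩, by
      rintro _ ⟨v, hv, rfl⟩
      show g * v * g⁻¹ * (g * (c : G) * g⁻¹) = g * (c : G) * g⁻¹ * (g * v * g⁻¹)
      calc g * v * g⁻¹ * (g * (c : G) * g⁻¹) = g * (v * c) * g⁻¹ := by group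
        _ = g * ((c : G) * v) * g⁻¹ := by rw [hcen v hv]
        _ = _ := by group⟩
    obtain ⟨n, hn, hnc⟩ := Sylow.conj_eq_normalizer_conj_of_mem_centralizer S (c : G) g⁻¹
      (Subgroup.mem_centralizer_iff.mpr fun s hs => hcen s hs)
      (by rw [inv_inv]; exact Subgroup.mem_centralizer_iff.mpr fun s hs => hcc s hs)
    rw [inv_inv] at hnc
    rw [hnc]
    have h1 := congrArg Subtype.val (hfix ((S : Subgroup G).normalizerMonoidHom
      ⟨n⁻¹, inv_mem hn⟩))
    have h2 : (n⁻¹ : G) * (c : G) * (n⁻¹ : G)⁻¹ = c := h1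
    rwa [inv_inv] at h2
  intro g
  have hz := Cfsg.Agent.Char.zStar (Cfsg.Agent.Char.oddInvol_of_isolated_sylow
    (by rw [Subgroup.orderOf_coe]; exact hc2) c.2 hiso) g
  rw [← QuotientGroup.eq_one_iff (N := Cfsg.oddCore G)] at hz
  simp only [QuotientGroup.mk_mul, QuotientGroup.mk_inv] at hz ⊢
  rw [mul_inv_eq_one, mul_inv_eq_iff_eq_mul] at hz
  rw [← hz, mul_inv_cancel_right]

end Cfsg.Agent.S3184
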