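import Cfsg.Statements.S3190
import Cfsg.Agent.Lib.Small.SylowInside
-- import your own Cfsg.Agent.* helpers here

set_option autoImplicit false
open Cfsg

namespace Cfsg.Agent.S3190

/-- Let p be an odd prime and, inside a finite group, let P be a p-subgroup normalized by a Klein four-group T. Let R be a subgroup of P, normal in P and normalized by T, such that P is the product of R with the centralizer of T in P. If T centralizes the centre of P, then T centralizes the centre of R. -/
theorem result {X : Type*} [Group X] [Finite X]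
    {p : ℕ} (hp : p.Prime) (hodd : Odd p) (P T R : Subgroup X) (hP : IsPGroup p ↥P) (hT : IsKleinFour ↥T)
    (hTP : T ≤ Subgroup.normalizer (P : Set X)) (hRP : R ≤ P) (hRn : (R.subgroupOf P).Normal)
    (hTR : T ≤ Subgroup.normalizer (R : Set X)) (hfac : R ⊔ (P ⊓ Subgroup.centralizer (T : Set X)) = P)
    (hZ : T ≤ Subgroup.centralizer (((Subgroup.center ↥P).map P.subtype : Subgroup X) : Set X)) :
    T ≤ Subgroup.centralizer (((Subgroup.center ↥R).map R.subtype : Subgroup X) : Set X) := by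
  have : Fact p.Prime := ⟨hp⟩
  intro t ht
  rw [Subgroup.mem_centralizer_iff]
  have ht2 : t * t = 1 := by
    have := Monoid.pow_exponent_eq_one (⟨t, ht⟩ : T)
    rw [hT.exponent_two, pow_two] at this
    exact congrArg Subtype.val this
  have hti : t⁻¹ = t := inv_eq_of_mul_eq_one_right ht2
  have memZ : ∀ (K : Subgroup X) (z : X), z ∈ (Subgroup.center ↥K).map K.subtype ↔
      z ∈ K ∧ ∀ u ∈ K, u * z = z * u := by
    intro K z
    constructor
    · rintro ⟨c, hc, rfl⟩
      exact ⟨c.2, fun u hu => congrArg Subtype.val (Subgroup.mem_center_iff.1 hc ⟨u, hu⟩)⟩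
    · rintro ⟨h1, h2⟩
      exact ⟨⟨z, h1⟩, Subgroup.mem_center_iff.2 fun u => Subtype.ext (h2 u u.2), rfl⟩
  have hnR : ∀ g ∈ Subgroup.normalizer (R : Set X), ∀ u ∈ R, g * u * g⁻¹ ∈ R := fun g hg u hu =>
    (Subgroup.mem_set_normalizer_iff.1 hg u).1 hu
  have hPR : P ≤ Subgroup.normalizer (R : Set X) := (Subgroup.normal_subgroupOf_iff_le_normalizer hRP).1 hRn
  have hconj : ∀ g ∈ Subgroup.normalizer (R : Set X), ∀ z, (z ∈ R ∧ ∀ u ∈ R, u * z = z * u) →
      (g * z * g⁻¹ ∈ R ∧ ∀ u ∈ R, u * (g * z * g⁻¹) = g * z * g⁻¹ * u) := by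
    rintro g hg z ⟨hz1, hz2⟩
    refine ⟨hnR g hg z hz1, fun u hu => ?_⟩
    have h := hz2 _ (hnR g⁻¹ (Subgroup.inv_mem _ hg) u hu)
    calc u * (g * z * g⁻¹) = g * ((g⁻¹ * u * g⁻¹⁻¹) * z) * g⁻¹ := by group
      _ = g * (z * (g⁻¹ * u * g⁻¹⁻¹)) * g⁻¹ := by rw [h]
      _ = g * z * g⁻¹ * u := by group
  let I : Subgroup X :=
    { carrier := {y | (y ∈ R ∧ ∀ u ∈ R, u * y = y * u) ∧ t * y * t = y⁻¹}
      one_mem' := ⟨⟨R.one_mem, fun u _ => by rw [mul_one, one_mul]⟩, by rw [mul_one, ht2, inv_one]⟩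
      mul_mem' := by
        rintro a b ⟨⟨ha, ha'⟩, hta⟩ ⟨⟨hb, hb'⟩, htb⟩
        refine ⟨⟨R.mul_mem ha hb, fun u hu => by rw [← mul_assoc, ha' u hu, mul_assoc, hb' u hu, mul_assoc]⟩, ?_⟩
        calc t * (a * b) * t = (t * a * t) * (t * b * t) := by
              rw [show t * a * t * (t * b * t) = t * a * (t * t) * (b * t) by group, ht2]; group
          _ = a⁻¹ * b⁻¹ := by rw [hta, htb]
          _ = (a * b)⁻¹ := by rw [← mul_inv_rev, hb' a ha]
      inv_mem' := by
        rintro a ⟨⟨ha, ha'⟩, hta⟩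
        refine ⟨⟨R.inv_mem ha, fun u hu => ((show Commute u a from ha' u hu).inv_right).eq⟩, ?_⟩
        calc t * a⁻¹ * t = (t * a * t)⁻¹ := by rw [mul_inv_rev, mul_inv_rev, hti, mul_assoc]
          _ = a⁻¹⁻¹ := by rw [hta] }
  have hI : I = ⊥ := by
    by_contra hne
    have hIP : I ≤ P := fun y hy => hRP hy.1.1
    have hnorm : ∀ g ∈ P, ∀ y ∈ I, g * y * g⁻¹ ∈ I := by
      have hle : P ≤ Subgroup.normalizer (I : Set X) := by
        rw [← hfac]
        refine sup_le ?_ ?_
        · intro r hr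
          rw [Subgroup.mem_set_normalizer_iff]
          intro y
          constructor
          · intro hy
            have : r * y * r⁻¹ = y := by rw [hy.1.2 r hr, mul_inv_cancel_right]
            rw [SetLike.mem_coe, this]; exact hy
          · intro hy
            have hr' := hy.1.2 r hr
            have : r * y * r⁻¹ = y := by
              calc r * y * r⁻¹ = r⁻¹ * (r * (r * y * r⁻¹)) := by group
                _ = r⁻¹ * ((r * y * r⁻¹) * r) := by rw [hr']
                _ = y := by group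
            rw [SetLike.mem_coe, ← this]; exact hy
        · rintro c ⟨hcP, hcT⟩
          have hct : ∀ c' : X, t * c' = c' * t → ∀ y ∈ I, c' ∈ P → c' * y * c'⁻¹ ∈ I := by
            intro c' hc y hy hc'
            refine ⟨hconj c' (hPR hc') y hy.1, ?_⟩
            have hc2 : c'⁻¹ * t = t * c'⁻¹ := ((show Commute t c' from hc).inv_right).eq.symm
            calc t * (c' * y * c'⁻¹) * t = (t * c') * y * (c'⁻¹ * t) := by group
              _ = c' * (t * y * t) * c'⁻¹ := by rw [hc, hc2]; group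
              _ = (c' * y * c'⁻¹)⁻¹ := by rw [hy.2]; group
          have hc := Subgroup.mem_centralizer_iff.1 hcT t ht
          rw [Subgroup.mem_set_normalizer_iff]
          intro y
          constructor
          · exact fun hy => hct c hc y hy hcP
          · intro hy
            have := hct c⁻¹ ((show Commute t c from hc).inv_right).eq _ hy (P.inv_mem hcP)
            rwa [show c⁻¹ * (c * y * c⁻¹) * c⁻¹⁻¹ = y by group] at this
      exact fun g hg y hy => (Subgroup.mem_set_normalizer_iff.1 (hle hg) y).1 hy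
    have hIn : (I.subgroupOf P).Normal := ⟨fun y hy g => hnorm g g.2 y hy⟩
    have hne' : I.subgroupOf P ≠ ⊥ := by
      rw [Ne, Subgroup.subgroupOf_eq_bot, disjoint_iff, inf_eq_left.2 hIP]
      exact hne
    have := Cfsg.Agent.Small.normal_meets_center hP hIn hne'
    apply this
    rw [eq_bot_iff]
    rintro ⟨y, hyP⟩ ⟨hyI, hyZ⟩
    have hty : y * t = t * y := Subgroup.mem_centralizer_iff.1 (hZ ht) y ⟨⟨y, hyP⟩, hyZ, rfl⟩
    have hy2 : y * y = 1 := by
      have h1 : t * y * t = y⁻¹ := hyI.2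
      rw [← hty, mul_assoc, ht2, mul_one] at h1
      nth_rw 2 [h1]
      exact mul_inv_cancel y
    obtain ⟨k, hk⟩ := hP ⟨y, hyP⟩
    have hyk : y ^ (p ^ k) = 1 := congrArg Subtype.val hk
    obtain ⟨s, hs⟩ := hodd.pow (n := k)
    rw [hs, pow_succ, pow_mul, pow_two, hy2, one_pow, one_mul] at hyk
    exact Subgroup.mem_bot.2 (Subtype.ext hyk)
  intro y hy
  obtain ⟨hy1, hy2⟩ := (memZ R y).1 hy
  have hty := hconj t (hTR ht) y ⟨hy1, hy2⟩
  rw [hti] at hty
  have hmem : y⁻¹ * (t * y * t) ∈ I := by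
    refine ⟨⟨R.mul_mem (R.inv_mem hy1) hty.1, fun u hu => ?_⟩, ?_⟩
    · exact ((show Commute u y from hy2 u hu).inv_right.mul_right
        (show Commute u (t * y * t) from hty.2 u hu)).eq
    · rw [mul_inv_rev, inv_inv, mul_inv_rev, mul_inv_rev, hti]
      calc t * (y⁻¹ * (t * y * t)) * t = t * y⁻¹ * t * y * (t * t) := by group
        _ = t * (y⁻¹ * t) * y := by rw [ht2]; group
  rw [hI, Subgroup.mem_bot, inv_mul_eq_one] at hmem
  calc y * t = t * y * t * t := by rw [← hmem]
    _ = t * y := by rw [mul_assoc, ht2, mul_one]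

end Cfsg.Agent.S3190
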