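import Cfsg.Statements.S3192
import Cfsg.Agent.Lib.Lie.RankThree.Comparable
import Cfsg.Agent.Lib.Lie.RankThree.Incomparable
import Cfsg.Agent.Lib.Lie.RankThree.PSL
-- import your own Cfsg.Agent.* helpers here

set_option autoImplicit false
open Cfsg

namespace Cfsg.Agent.S3192

/-- Simple groups of conjugate type rank three. For a finite group G consider the set of indices of the centralizers of the non-central elements of G. Then G is a non-abelian simple group for which this set has exactly three members if and only if G is isomorphic to PSL(2, 2^m) for some m ≥ 2. -/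
theorem result (G : Type*) [Group G] [Finite G] :
    (IsSimpleGroup G ∧ ¬ IsMulCommutative G ∧
        Set.ncard {m : ℕ | ∃ x : G, x ∉ Subgroup.center G ∧ m = (Subgroup.centralizer ({x} : Set G)).index} = 3) ↔
      ∃ (m : ℕ) (F : Type) (_ : Field F) (_ : Fintype F), 2 ≤ m ∧ Fintype.card F = 2 ^ m ∧
        Nonempty (G ≃* Matrix.ProjectiveSpecialLinearGroup (Fin 2) F) := by
  classical
  constructor
  · rintro ⟨hs, hna, h3⟩
    haveI := hs
    obtain ⟨p, q, r, hpq, hpr, hqr, hS⟩ := Set.ncard_eq_three.1 h3
    have hz := Cfsg.Agent.Lie.RankThree.center_eq_bot hna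
    have hval : ∀ x : G, x ≠ 1 → Cfsg.Agent.Lie.RankThree.cidx x = p ∨
        Cfsg.Agent.Lie.RankThree.cidx x = q ∨ Cfsg.Agent.Lie.RankThree.cidx x = r := by
      intro x hx
      have hm : Cfsg.Agent.Lie.RankThree.cidx x ∈ ({p, q, r} : Set ℕ) := by
        rw [← hS]
        exact ⟨x, by rwa [hz, Subgroup.mem_bot], rfl⟩
      simpa using hm
    have hex : ∀ n ∈ ({p, q, r} : Set ℕ), ∃ x : G, x ≠ 1 ∧ Cfsg.Agent.Lie.RankThree.cidx x = n := by
      intro n hn
      rw [← hS] at hn
      obtain ⟨x, hx, hn⟩ := hn
      exact ⟨x, by rwa [hz, Subgroup.mem_bot] at hx, hn.symm⟩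
    have hF : Cfsg.Agent.Lie.RankThree.Incomparable G := by
      intro x y hx hy hd
      by_contra hne
      obtain ⟨w, hw, hwx, hwy⟩ : ∃ w ∈ ({p, q, r} : Set ℕ),
          w ≠ Cfsg.Agent.Lie.RankThree.cidx x ∧ w ≠ Cfsg.Agent.Lie.RankThree.cidx y := by
        rcases hval x hx with e | e | e <;> rcases hval y hy with e' | e' | e' <;> rw [e, e'] <;>
          first
          | exact absurd (e.trans e'.symm) hne
          | exact ⟨p, by simp, by assumption, by assumption⟩
          | exact ⟨q, by simp, by first | assumption | exact Ne.symm (by assumption),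
              by first | assumption | exact Ne.symm (by assumption)⟩
          | exact ⟨r, by simp, Ne.symm (by assumption), Ne.symm (by assumption)⟩
      refine Cfsg.Agent.Lie.RankThree.Comp.false (a := Cfsg.Agent.Lie.RankThree.cidx x)
        (b := Cfsg.Agent.Lie.RankThree.cidx y) (c := w) ⟨hna, ?_, ⟨x, hx, rfl⟩, hex w hw, hd, hne, hwx.symm, hwy.symm⟩
      intro v hv
      have hx' := hval x hx
      have hy' := hval y hy
      have hv' := hval v hv
      simp only [Set.mem_insert_iff, Set.mem_singleton_iff] at hw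
      omega
    exact hF.psl hna
  · rintro ⟨m, F, _, _, hm, hF, ⟨e⟩⟩
    haveI : CharP F 2 := charP_of_card_eq_prime_pow hF
    exact Cfsg.Agent.Lie.RankThree.ncard_cidx
      (hF ▸ (le_trans (by norm_num : 4 ≤ 2 ^ 2) (Nat.pow_le_pow_right (by norm_num) hm))) e

end Cfsg.Agent.S3192
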