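import Cfsg.Statements.S3195
import Mathlib
import Cfsg.Agent.Lib.Solv.Zipper
-- import your own Cfsg.Agent.* helpers here

set_option autoImplicit false
open Cfsg

namespace Cfsg.Agent.S3195

/-- Let A be a Klein four-subgroup of a finite group G. If every G-conjugate of every involution of A commutes with some involution of A (its centralizer meets A nontrivially), then A meets the largest normal 2-subgroup O₂(G) nontrivially. -/
theorem result {G : Type*} [Group G] [Finite G]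
    (A : Subgroup G) (hA : IsKleinFour ↥A)
    (h : ∀ a ∈ A, a ≠ 1 → ∀ g : G, A ⊓ Subgroup.centralizer ({g * a * g⁻¹} : Set G) ≠ ⊥) :
    A ⊓ Cfsg.pCore 2 G ≠ ⊥ := by
  classical
  intro hbot
  haveI := hA
  have hsq : ∀ a ∈ A, a * a = 1 := fun a ha =>
    congrArg Subtype.val (IsKleinFour.mul_self (⟨a, ha⟩ : A))
  have hinv : ∀ a ∈ A, a⁻¹ = a := fun a ha => inv_eq_of_mul_eq_one_right (hsq a ha)
  have hcm : ∀ a ∈ A, ∀ b ∈ A, Commute a b := fun a ha b hb => by
    have h1 := hinv _ (mul_mem ha hb)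
    rw [mul_inv_rev, hinv a ha, hinv b hb] at h1
    exact h1.symm
  have halve : ∀ x : G, Odd (orderOf x) → ∀ u : G, Commute u (x ^ 2) → Commute u x := by
    intro x hx u hu
    obtain ⟨r, hr⟩ := hx
    have h1 := hu.pow_right (r + 1)
    rwa [← pow_mul, show 2 * (r + 1) = orderOf x + 1 by omega, pow_succ, pow_orderOf_eq_one, one_mul] at h1
  have hodd2 : ∀ x : G, Odd (orderOf x) → x ^ 2 = 1 → x = 1 := by
    intro x hx h2
    obtain ⟨r, hr⟩ := hx
    calc x = x ^ (orderOf x + 1) := by rw [pow_succ, pow_orderOf_eq_one, one_mul]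
      _ = (x ^ 2) ^ (r + 1) := by rw [← pow_mul]; congr 1; omega
      _ = 1 := by rw [h2, one_pow]
  have hflip : ∀ t x : G, t * t = 1 → t * x * t⁻¹ = x⁻¹ → Odd (orderOf x) → Commute t x → x = 1 := by
    intro t x _ hx ho hc
    rw [hc.eq, mul_inv_cancel_right] at hx
    exact hodd2 x ho (by rw [pow_two]; nth_rw 1 [hx]; exact inv_mul_cancel x)
  have hconj : ∀ t x : G, t * t = 1 → t * x * t⁻¹ = x⁻¹ → x * t * x⁻¹ = x ^ 2 * t := by
    intro t x ht hx
    have h1 : t * x⁻¹ = x * t := by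
      have h2 := congrArg (fun w => w⁻¹) hx
      simp only [mul_inv_rev, inv_inv] at h2
      rw [inv_eq_of_mul_eq_one_right ht] at h2
      calc t * x⁻¹ = t * x⁻¹ * (t * t) := by rw [ht, mul_one]
        _ = t * (x⁻¹ * t) * t := by group
        _ = x * t := by rw [h2]
    rw [mul_assoc, h1, pow_two, mul_assoc]
  have P : ∀ a ∈ A, a ≠ 1 → ∃ y : G, ∃ b ∈ A, y ≠ 1 ∧ Odd (orderOf y) ∧ a * y * a⁻¹ = y⁻¹ ∧
      b ≠ 1 ∧ b ≠ a ∧ Commute b y := by
    intro a ha ha1
    have hnot : a ∉ Cfsg.pCore 2 G := fun h' => ha1 (Subgroup.mem_bot.1 (hbot.le ⟨ha, h'⟩))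
    have hord : orderOf a = 2 := orderOf_eq_prime (by rw [pow_two]; exact hsq a ha) ha1
    obtain ⟨y, hy1, hyo, hay⟩ := Cfsg.Agent.Solv.exists_odd_inverted hord hnot
    obtain ⟨b, hb, hb1⟩ := (Subgroup.bot_or_exists_ne_one _).resolve_left (h a ha ha1 y)
    obtain ⟨hbA, hbC⟩ := hb
    have hbc : Commute b (y ^ 2 * a) := by
      rw [← hconj a y (hsq a ha) hay]
      exact Subgroup.mem_centralizer_singleton_iff.1 hbC
    have hby : Commute b y := by
      refine halve y hyo b ?_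
      have := hbc.mul_right (hcm b hbA a ha)
      rwa [mul_assoc, hsq a ha, mul_one] at this
    refine ⟨y, b, hbA, hy1, hyo, hay, hb1, fun e => hy1 ?_, hby⟩
    exact hflip a y (hsq a ha) hay hyo (e ▸ hby)
  obtain ⟨a₀, ha₀⟩ : ∃ a₀ : A, a₀ ≠ 1 := by
    haveI : Nontrivial A := Finite.one_lt_card_iff_nontrivial.1 (by rw [IsKleinFour.card_four]; norm_num)
    exact exists_ne 1
  obtain ⟨a, ha, rfl⟩ : ∃ a, ∃ ha : a ∈ A, a₀ = ⟨a, ha⟩ := ⟨a₀.1, a₀.2, rfl⟩
  have ha1 : a ≠ 1 := fun e => ha₀ (Subtype.ext e)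
  obtain ⟨y, b, hb, hy1, hyo, hay, hb1, hba, hby⟩ := P a ha ha1
  obtain ⟨z, b', hb', hz1, hzo, hbz, hb'1, hb'b, hb'z⟩ := P b hb hb1
  have hcA : a * b ∈ A := mul_mem ha hb
  have hc1 : a * b ≠ 1 := fun e => hba ((eq_inv_of_mul_eq_one_left e).trans (hinv b hb)).symm
  have hall : ∀ k ∈ A, k = 1 ∨ k = a ∨ k = b ∨ k = a * b := by
    intro k hk
    have hset : ({1, a, b, a * b} : Set G) = (A : Set G) := by
      refine Set.eq_of_subset_of_ncard_le ?_ ?_
      · rintro x (rfl | rfl | rfl | rfl)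
        exacts [one_mem A, ha, hb, hcA]
      · rw [← Nat.card_coe_set_eq]
        show Nat.card A ≤ _
        rw [IsKleinFour.card_four]
        have n1 : a ≠ a * b := fun e => hb1 (left_eq_mul.1 e)
        have n2 : b ≠ a * b := fun e => ha1 (right_eq_mul.1 e)
        rw [Set.ncard_insert_of_notMem (by simp [ha1.symm, hb1.symm, hc1.symm]),
          Set.ncard_insert_of_notMem (by simp [hba.symm, n1]), Set.ncard_pair n2]
    have := hset.ge hk
    simpa using this
  have hu : y * a * y⁻¹ = y ^ 2 * a := hconj a y (hsq a ha) hay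
  have hnoa : ¬ Commute (y ^ 2 * a) a := by
    intro hc
    have hc2 : Commute a (y ^ 2) := by
      have := hc.symm.mul_right (Commute.refl a)
      rwa [mul_assoc, hsq a ha, mul_one] at this
    exact hy1 (hflip a y (hsq a ha) hay hyo (halve y hyo a hc2))
  have hub : Commute (y ^ 2 * a) b := ((hby.pow_right 2).mul_right (hcm b hb a ha)).symm
  have hnoc : ¬ Commute (y ^ 2 * a) (a * b) := fun hc => hnoa (by
    have := hc.mul_right hub
    rwa [mul_assoc, hsq b hb, mul_one] at this)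
  have hcases : b' = a ∨ b' = a * b := by
    rcases hall b' hb' with rfl | rfl | rfl | rfl
    exacts [absurd rfl hb'1, Or.inl rfl, absurd rfl hb'b, Or.inr rfl]
  have hbzz : z⁻¹ * b * z = z⁻¹ ^ 2 * b := by
    have h1 : b * z⁻¹ * b⁻¹ = z⁻¹⁻¹ := by
      rw [← conj_inv, hbz]
    have := hconj b z⁻¹ (hsq b hb) h1
    rwa [inv_inv] at this
  have hzi : Odd (orderOf z⁻¹) := by rwa [orderOf_inv]
  have hpowc : ∀ t w : G, t * t = 1 → Commute w t → Odd (orderOf w) → (w * t) ^ orderOf w = t := by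
    intro t w ht hwt ho
    obtain ⟨r, hr⟩ := ho
    rw [hwt.mul_pow, pow_orderOf_eq_one, one_mul, hr, pow_succ, pow_mul, pow_two, ht, one_pow, one_mul]
  have hodd_pow : ∀ w : G, Odd (orderOf w) → Odd (orderOf (w ^ 2)) := by
    intro w ho
    have hd : orderOf (w ^ 2) ∣ orderOf w := orderOf_pow_dvd 2
    exact ho.of_dvd_nat hd
  -- the translate of `u` commutes with some involution of `A`
  obtain ⟨k, hk, hk1⟩ := (Subgroup.bot_or_exists_ne_one _).resolve_left (h a ha ha1 (z * y))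
  obtain ⟨hkA, hkC⟩ := hk
  have hkz : Commute (y ^ 2 * a) (z⁻¹ * k * z) := by
    have h1 : k * (z * y * a * (z * y)⁻¹) = z * y * a * (z * y)⁻¹ * k :=
      Subgroup.mem_centralizer_singleton_iff.1 hkC
    rw [← hu]
    show y * a * y⁻¹ * (z⁻¹ * k * z) = z⁻¹ * k * z * (y * a * y⁻¹)
    calc y * a * y⁻¹ * (z⁻¹ * k * z) = z⁻¹ * (z * y * a * (z * y)⁻¹ * k) * z := by group
      _ = z⁻¹ * (k * (z * y * a * (z * y)⁻¹)) * z := by rw [h1]
      _ = z⁻¹ * k * z * (y * a * y⁻¹) := by group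
  have huz : Commute (y ^ 2 * a) z := by
    rcases hcases with e | e <;> subst e
    · -- `a` commutes with `z`
      rcases hall k hkA with e' | e' | e' | e' <;> subst e'
      · exact absurd rfl hk1
      · exfalso; rw [mul_assoc, hb'z.eq, inv_mul_cancel_left] at hkz; exact hnoa hkz
      · rw [hbzz] at hkz
        have := hkz.mul_right hub
        rw [mul_assoc, hsq k hb, mul_one] at this
        exact (Commute.inv_right_iff).1 (halve z⁻¹ hzi _ this)
      · exfalso
        have e1 : z⁻¹ * (b' * b) * z = z⁻¹ ^ 2 * b' * b := by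
          rw [show z⁻¹ * (b' * b) * z = (z⁻¹ * b') * b * z by group, ← hb'z.inv_right.eq,
            show b' * z⁻¹ * b * z = b' * (z⁻¹ * b * z) by group, hbzz,
            ← mul_assoc, (hb'z.inv_right.pow_right 2).eq]
        rw [e1] at hkz
        have := hkz.mul_right hub
        rw [mul_assoc (z⁻¹ ^ 2 * b'), hsq b hb, mul_one] at this
        have h2 := this.pow_right (orderOf (z⁻¹ ^ 2))
        rw [hpowc b' _ (hsq b' ha) ((hb'z.inv_right.pow_right 2).symm) (hodd_pow _ hzi)] at h2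
        exact hnoa h2
    · -- `a * b` commutes with `z`
      rcases hall k hkA with e' | e' | e' | e' <;> subst e'
      · exact absurd rfl hk1
      · exfalso
        have e1 : z⁻¹ * k * z = z⁻¹ ^ 2 * (k * b) * b := by
          rw [mul_assoc (z⁻¹ ^ 2), mul_assoc k, hsq b hb, mul_one]
          have : z⁻¹ * k * z = (z⁻¹ * (k * b)) * (b * z) := by
            rw [show z⁻¹ * (k * b) * (b * z) = z⁻¹ * k * (b * b) * z by group, hsq b hb, mul_one]
          rw [this, ← hb'z.inv_right.eq, show k * b * z⁻¹ * (b * z) = (k * b) * (z⁻¹ * b * z) by group, hbzz,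
            ← mul_assoc, (hb'z.inv_right.pow_right 2).eq, mul_assoc, mul_assoc k, hsq b hb, mul_one]
        rw [e1] at hkz
        have := hkz.mul_right hub
        rw [mul_assoc (z⁻¹ ^ 2 * (k * b)), hsq b hb, mul_one] at this
        have h2 := this.pow_right (orderOf (z⁻¹ ^ 2))
        rw [hpowc (k * b) _ (hsq _ hcA) ((hb'z.inv_right.pow_right 2).symm) (hodd_pow _ hzi)] at h2
        exact hnoc h2
      · rw [hbzz] at hkz
        have := hkz.mul_right hub
        rw [mul_assoc, hsq k hb, mul_one] at this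
        exact (Commute.inv_right_iff).1 (halve z⁻¹ hzi _ this)
      · exfalso; rw [mul_assoc, hb'z.eq, inv_mul_cancel_left] at hkz; exact hnoc hkz
  rcases hcases with e | e <;> subst e
  · -- now `y` and `z` commute
    have hy2z : Commute (y ^ 2) z := by
      have := huz.mul_left hb'z
      rwa [mul_assoc, hsq b' ha, mul_one] at this
    have hyz : Commute y z := (halve y hyo z hy2z.symm).symm
    have hcy : b' * b * y * (b' * b)⁻¹ = y⁻¹ := by
      rw [show b' * b * y * (b' * b)⁻¹ = b' * (b * y * b⁻¹) * b'⁻¹ by group, hby.eq, mul_inv_cancel_right, hay]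
    have hcz : b' * b * z * (b' * b)⁻¹ = z⁻¹ := by
      rw [show b' * b * z * (b' * b)⁻¹ = b' * (b * z * b⁻¹) * b'⁻¹ by group, hbz, (hb'z.inv_right).eq,
        mul_inv_cancel_right]
    obtain ⟨k, hk, hk1⟩ := (Subgroup.bot_or_exists_ne_one _).resolve_left (h (b' * b) hcA hc1 (y * z))
    obtain ⟨hkA, hkC⟩ := hk
    have e1 : y * z * (b' * b) * (y * z)⁻¹ = y ^ 2 * z ^ 2 * (b' * b) := by
      rw [hconj (b' * b) (y * z) (hsq _ hcA) (by
        rw [show b' * b * (y * z) * (b' * b)⁻¹ = (b' * b * y * (b' * b)⁻¹) * (b' * b * z * (b' * b)⁻¹) by group,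
          hcy, hcz, mul_inv_rev, hyz.inv_inv.eq]), hyz.mul_pow]
    have hkc : Commute k (y ^ 2 * z ^ 2 * (b' * b)) := by
      rw [← e1]; exact Subgroup.mem_centralizer_singleton_iff.1 hkC
    have hkw : Commute k (y ^ 2 * z ^ 2) := by
      have := hkc.mul_right (hcm k hkA _ hcA)
      rwa [mul_assoc, hsq _ hcA, mul_one] at this
    rcases hall k hkA with e' | e' | e' | e' <;> subst e'
    · exact hk1 rfl
    · have h1 : Commute k (y ^ 2) := by
        have := hkw.mul_right (hb'z.inv_right.pow_right 2)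
        rwa [mul_assoc, inv_pow, mul_inv_cancel, mul_one] at this
      exact hy1 (hflip k y (hsq k ha) hay hyo (halve y hyo k h1))
    · have h1 : Commute k (z ^ 2) := by
        have := (hby.inv_right.pow_right 2).mul_right hkw
        rwa [← mul_assoc, inv_pow, inv_mul_cancel, one_mul] at this
      exact hz1 (hflip k z (hsq k hb) hbz hzo (halve z hzo k h1))
    · have h1 : (y ^ 2 * z ^ 2) ^ 2 = 1 := by
        have h2 : b' * b * (y ^ 2 * z ^ 2) * (b' * b)⁻¹ = (y ^ 2 * z ^ 2)⁻¹ := by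
          rw [show b' * b * (y ^ 2 * z ^ 2) * (b' * b)⁻¹ =
            (b' * b * y ^ 2 * (b' * b)⁻¹) * (b' * b * z ^ 2 * (b' * b)⁻¹) by group,
            ← conj_pow, ← conj_pow, hcy, hcz, mul_inv_rev, inv_pow, inv_pow,
            (hyz.pow_pow 2 2).inv_inv.eq]
        rw [hkw.eq, mul_inv_cancel_right] at h2
        rw [pow_two]; nth_rw 1 [h2]; exact inv_mul_cancel _
      have h3 : (y * z) ^ 2 = y ^ 2 * z ^ 2 := hyz.mul_pow 2
      have hoy : Odd (orderOf (y * z)) := by
        refine (Odd.mul hyo hzo).of_dvd_nat ?_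
        exact hyz.orderOf_mul_dvd_mul_orderOf
      rw [← h3] at h1
      have h4 := hodd2 (y * z) hoy (hodd2 ((y * z) ^ 2) (hodd_pow _ hoy) h1)
      -- `y = z⁻¹` is both inverted and centralised by `b'`
      have h5 : y = z⁻¹ := eq_inv_of_mul_eq_one_left h4
      exact hy1 (hflip b' y (hsq b' ha) hay hyo (h5 ▸ hb'z.inv_right))
  · -- here `a` inverts `z`, so `y ^ 2` inverts `z`
    have haz : a * z * a⁻¹ = z⁻¹ := by
      have e : a = a * b * b := by rw [mul_assoc, hsq b hb, mul_one]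
      rw [e, show a * b * b * z * (a * b * b)⁻¹ = a * b * (b * z * b⁻¹) * (a * b)⁻¹ by group, hbz,
        hb'z.inv_right.eq, mul_inv_cancel_right]
    have h1 : y ^ 2 * z⁻¹ * (y ^ 2)⁻¹ = z := by
      calc y ^ 2 * z⁻¹ * (y ^ 2)⁻¹ = y ^ 2 * (a * z * a⁻¹) * (y ^ 2)⁻¹ := by rw [haz]
        _ = (y ^ 2 * a) * z * (y ^ 2 * a)⁻¹ := by group
        _ = z := by rw [huz.eq, mul_inv_cancel_right]
    have h2 : ∀ j : ℕ, (y ^ 2) ^ j * z * ((y ^ 2) ^ j)⁻¹ = z ^ ((-1 : ℤ) ^ j) := by
      intro j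
      induction j with
      | zero => simp
      | succ j ih =>
        rw [pow_succ' (y ^ 2), show y ^ 2 * (y ^ 2) ^ j * z * (y ^ 2 * (y ^ 2) ^ j)⁻¹ =
          y ^ 2 * ((y ^ 2) ^ j * z * ((y ^ 2) ^ j)⁻¹) * (y ^ 2)⁻¹ by group, ih, ← conj_zpow,
          pow_succ' (-1 : ℤ), zpow_mul, zpow_neg_one]
        congr 1
        have h3 := congrArg (fun w => w⁻¹) h1
        simp only [mul_inv_rev, inv_inv] at h3
        rwa [← mul_assoc] at h3
    have h3 := h2 (orderOf y)
    rw [← pow_mul, mul_comm 2, pow_mul, pow_orderOf_eq_one, one_pow, hyo.neg_one_pow, one_mul, inv_one,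
      mul_one, zpow_neg_one] at h3
    exact hz1 (hodd2 z hzo (by rw [pow_two]; nth_rw 1 [h3]; exact inv_mul_cancel z))

end Cfsg.Agent.S3195
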