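import Cfsg.Statements.S3196
import Mathlib
import Cfsg.Prelude.Def_Solvable
-- import your own Cfsg.Agent.* helpers here

set_option autoImplicit false
open Cfsg

namespace Cfsg.Agent.S3196

/-- Let p be a prime and K a set of subgroups of order p of a finite group G, closed under conjugation, such that at least two distinct members of K commute elementwise, and whenever two distinct members X, Y of K commute: every subgroup of order p of the group XY they generate belongs to K, and every member W of K has centralizer meeting XY nontrivially. Then some member V of K commutes elementwise with every member of K and lies in O_p(G); in particular G is not simple. -/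
theorem result {G : Type*} [Group G] [Finite G]
    {p : ℕ} (hp : p.Prime) (K : Set (Subgroup G)) (hK : ∀ X ∈ K, Nat.card ↥X = p)
    (hKc : ∀ X ∈ K, ∀ g : G, X.map (MulAut.conj g).toMonoidHom ∈ K)
    (hex : ∃ X ∈ K, ∃ Y ∈ K, X ≠ Y ∧ ∀ x ∈ X, ∀ y ∈ Y, x * y = y * x)
    (ha : ∀ X ∈ K, ∀ Y ∈ K, X ≠ Y → (∀ x ∈ X, ∀ y ∈ Y, x * y = y * x) →
      ∀ Z : Subgroup G, Z ≤ X ⊔ Y → Nat.card ↥Z = p → Z ∈ K)
    (hb : ∀ X ∈ K, ∀ Y ∈ K, X ≠ Y → (∀ x ∈ X, ∀ y ∈ Y, x * y = y * x) →
      ∀ W ∈ K, (X ⊔ Y) ⊓ Subgroup.centralizer (W : Set G) ≠ ⊥) :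
    (∃ V ∈ K, (∀ W ∈ K, ∀ v ∈ V, ∀ w ∈ W, v * w = w * v) ∧ V ≤ Cfsg.pCore p G) ∧ ¬ IsSimpleGroup G := by
  classical
  haveI := Fact.mk hp
  let perp : Subgroup G → Subgroup G → Prop := fun X Y => ∀ x ∈ X, ∀ y ∈ Y, x * y = y * x
  have psymm : ∀ {X Y}, perp X Y → perp Y X := fun h y hy x hx => (h x hx y hy).symm
  have gen : ∀ X ∈ K, ∀ x ∈ X, x ≠ 1 → Subgroup.zpowers x = X := fun X hX x hx hx1 => by
    refine Subgroup.eq_of_le_of_card_ge (Subgroup.zpowers_le.2 hx) ?_
    rw [hK X hX, Nat.card_zpowers]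
    have hdvd : orderOf x ∣ p := hK X hX ▸ (Subgroup.orderOf_coe (⟨x, hx⟩ : X)).symm ▸ orderOf_dvd_natCard _
    rcases hp.eq_one_or_self_of_dvd _ hdvd with h | h
    · exact absurd (orderOf_eq_one_iff.1 h) hx1
    · exact h.ge
  have pself : ∀ X ∈ K, perp X X := fun X hX => by
    haveI : IsCyclic X := isCyclic_of_prime_card (hK X hX)
    exact fun x hx y hy => congrArg Subtype.val (IsMulCommutative.is_comm.comm (⟨x, hx⟩ : X) ⟨y, hy⟩)
  have pgen : ∀ X ∈ K, ∀ x ∈ X, x ≠ 1 → ∀ y : G, x * y = y * x → ∀ z ∈ X, z * y = y * z := by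
    intro X hX x hx hx1 y hxy z hz
    rw [← gen X hX x hx hx1, Subgroup.mem_zpowers_iff] at hz
    obtain ⟨n, rfl⟩ := hz
    exact (Commute.zpow_left hxy n)
  have psup : ∀ {X Y T}, perp X T → perp Y T → perp (X ⊔ Y) T := by
    intro X Y T h1 h2 x hx t ht
    have hle : X ⊔ Y ≤ Subgroup.centralizer {t} :=
      sup_le (fun a ha => Subgroup.mem_centralizer_singleton_iff.2 (h1 a ha t ht))
        (fun a ha => Subgroup.mem_centralizer_singleton_iff.2 (h2 a ha t ht))
    exact Subgroup.mem_centralizer_singleton_iff.1 (hle hx)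
  have hdec : ∀ {X Y}, perp X Y → ∀ z ∈ X ⊔ Y, ∃ a ∈ X, ∃ b ∈ Y, a * b = z := by
    intro X Y h z hz
    let S : Subgroup G :=
      { carrier := {z | ∃ a ∈ X, ∃ b ∈ Y, a * b = z}
        one_mem' := ⟨1, X.one_mem, 1, Y.one_mem, one_mul 1⟩
        mul_mem' := by
          rintro _ _ ⟨a, ha, b, hb, rfl⟩ ⟨a', ha', b', hb', rfl⟩
          exact ⟨a * a', X.mul_mem ha ha', b * b', Y.mul_mem hb hb',
            (Commute.mul_mul_mul_comm ((h a' ha' b hb).symm) a b').symm⟩
        inv_mem' := by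
          rintro _ ⟨a, ha, b, hb, rfl⟩
          exact ⟨a⁻¹, X.inv_mem ha, b⁻¹, Y.inv_mem hb, by rw [mul_inv_rev, h a⁻¹ (X.inv_mem ha) b⁻¹ (Y.inv_mem hb)]⟩ }
    exact (sup_le (fun a ha => ⟨a, ha, 1, Y.one_mem, mul_one a⟩)
      (fun b hb => ⟨1, X.one_mem, b, hb, one_mul b⟩) : X ⊔ Y ≤ S) hz
  have hpw : ∀ X ∈ K, ∀ x ∈ X, x ^ p = 1 := fun X hX x hx =>
    congrArg Subtype.val ((hK X hX) ▸ pow_card_eq_one' : (⟨x, hx⟩ : X) ^ p = 1)
  have sup_eq : ∀ X ∈ K, ∀ Y ∈ K, ∀ Z ∈ K, perp X Y → Z ≤ X ⊔ Y → Z ≠ Y → X ≤ Z ⊔ Y := by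
    intro X hX Y hY Z hZ hXY hle hne
    obtain ⟨z, hz, hz1⟩ := Z.bot_or_exists_ne_one.resolve_left (fun h => by
      have := hK Z hZ
      rw [h, Subgroup.card_bot] at this
      exact hp.ne_one this.symm)
    obtain ⟨a, ha', b, hb', hab⟩ := hdec hXY z (hle hz)
    have ha1 : a ≠ 1 := fun h => hne (by
      rw [h, one_mul] at hab
      rw [← gen Z hZ z hz hz1, ← gen Y hY b hb' (hab ▸ hz1), hab])
    rw [← gen X hX a ha' ha1, Subgroup.zpowers_le]
    rw [eq_mul_inv_of_mul_eq hab]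
    exact Subgroup.mul_mem_sup hz (Y.inv_mem hb')
  have hb' : ∀ X ∈ K, ∀ Y ∈ K, X ≠ Y → perp X Y → ∀ W ∈ K, ∃ Z ∈ K, Z ≤ X ⊔ Y ∧ perp Z W := by
    intro X hX Y hY hne hXY W hW
    obtain ⟨z, hz, hz1⟩ := ((X ⊔ Y) ⊓ Subgroup.centralizer (W : Set G)).bot_or_exists_ne_one.resolve_left
      (hb X hX Y hY hne hXY W hW)
    obtain ⟨a, haX, b, hbY, rfl⟩ := hdec hXY z hz.1
    have hzp : (a * b) ^ p = 1 := by
      rw [Commute.mul_pow (hXY a haX b hbY), hpw X hX a haX, hpw Y hY b hbY, one_mul]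
    have hle : Subgroup.zpowers (a * b) ≤ X ⊔ Y := Subgroup.zpowers_le.2 (Subgroup.mul_mem_sup haX hbY)
    have hc : Nat.card (Subgroup.zpowers (a * b)) = p := by rw [Nat.card_zpowers]; exact orderOf_eq_prime hzp hz1
    have hZ := ha X hX Y hY hne hXY _ hle hc
    exact ⟨_, hZ, hle, fun c hc' w hw => pgen _ hZ _ (Subgroup.mem_zpowers _) hz1 w
      ((Subgroup.mem_centralizer_iff.1 hz.2 w hw).symm) c hc'⟩
  suffices hmain : ∀ n : ℕ, ∀ K' : Set (Subgroup G), K'.ncard = n → K' ⊆ K →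
      (∀ X ∈ K', ∀ W ∈ K', ∀ w ∈ W, X.map (MulAut.conj w).toMonoidHom ∈ K') →
      (∀ X ∈ K', ∀ Y ∈ K', X ≠ Y → perp X Y → ∀ Z ∈ K, Z ≤ X ⊔ Y → Z ∈ K') →
      (∃ X ∈ K', ∃ Y ∈ K', X ≠ Y ∧ perp X Y) → ∃ V ∈ K', ∀ W ∈ K', perp V W by
    obtain ⟨V, hV, hVW⟩ := hmain _ K rfl subset_rfl (fun X hX W _ w _ => hKc X hX w)
      (fun X _ Y _ _ _ Z hZ _ => hZ) hex
    have hN : ∀ x ∈ Group.conjugatesOfSet (V : Set G), ∃ W ∈ K, x ∈ W ∧ perp W W ∧ ∀ T ∈ K, perp W T := by
      intro x hx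
      obtain ⟨v, hv, hvx⟩ := Group.mem_conjugatesOfSet_iff.1 hx
      obtain ⟨g, rfl⟩ := isConj_iff.1 hvx
      refine ⟨_, hKc V hV g, Subgroup.mem_map.2 ⟨v, hv, rfl⟩, pself _ (hKc V hV g), fun T hT => ?_⟩
      rintro _ ⟨v', hv', rfl⟩ t ht
      have := hVW _ (hKc T hT g⁻¹) v' hv' _ (Subgroup.mem_map.2 ⟨t, ht, rfl⟩)
      have := congrArg (MulAut.conj g) this
      simpa [mul_assoc] using this
    let N := Subgroup.normalClosure (V : Set G)
    have hcomm : IsMulCommutative N := Subgroup.isMulCommutative_closure fun x hx y hy => by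
      obtain ⟨W, hW, hxW, -, hWT⟩ := hN x hx
      obtain ⟨W', hW', hyW, -, -⟩ := hN y hy
      exact hWT W' hW' x hxW y hyW
    have hpow : ∀ x ∈ N, x ^ p = 1 := fun x hx => by
      induction hx using Subgroup.closure_induction with
      | mem x hx =>
        obtain ⟨W, hW, hxW, -, -⟩ := hN x hx
        exact hpw W hW x hxW
      | one => exact one_pow p
      | inv x _ h => rw [inv_pow, h, inv_one]
      | mul x y hx hy h1 h2 =>
        have : Commute x y := congrArg Subtype.val (IsMulCommutative.is_comm.comm (⟨x, hx⟩ : N) ⟨y, hy⟩)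
        rw [this.mul_pow, h1, h2, one_mul]
    have hNp : IsPGroup p N := fun x => ⟨1, Subtype.ext (by rw [pow_one]; exact hpow x x.2)⟩
    have hle : V ≤ Cfsg.pCore p G := le_trans Subgroup.subset_normalClosure
      (le_sSup (show N ∈ {N : Subgroup G | N.Normal ∧ IsPGroup p N} from ⟨Subgroup.normalClosure_normal, hNp⟩))
    refine ⟨⟨V, hV, hVW, hle⟩, fun hs => ?_⟩
    have hbot : N ≠ ⊥ := fun h => by
      have := hK V hV
      rw [le_bot_iff.1 (h ▸ Subgroup.subset_normalClosure : (V : Subgroup G) ≤ ⊥), Subgroup.card_bot] at this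
      exact hp.ne_one this.symm
    have htop : N = ⊤ := (Subgroup.Normal.eq_bot_or_eq_top Subgroup.normalClosure_normal).resolve_left hbot
    have hG : IsMulCommutative G := ⟨⟨fun a b => congrArg Subtype.val
      (IsMulCommutative.is_comm.comm (⟨a, htop ▸ Subgroup.mem_top a⟩ : N) ⟨b, htop ▸ Subgroup.mem_top b⟩)⟩⟩
    letI : CommGroup G := { ‹Group G› with mul_comm := hG.is_comm.comm }
    have hprime : (Nat.card G).Prime := IsSimpleGroup.prime_card
    obtain ⟨X, hX, Y, hY, hne, -⟩ := hex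
    have hfull : ∀ Z ∈ K, Z = ⊤ := fun Z hZ => Z.eq_top_of_card_eq (by
      rcases hprime.eq_one_or_self_of_dvd _ Z.card_subgroup_dvd_card with h | h
      · exact absurd h (hK Z hZ ▸ hp.ne_one)
      · exact h)
    exact hne ((hfull X hX).trans (hfull Y hY).symm)
  intro n
  induction n using Nat.strong_induction_on with
  | _ n ih =>
    intro K' hn hsub hconj hlines hex'
    by_contra hcon
    push Not at hcon
    obtain ⟨L₁, hL₁, L₂, hL₂, hLne, hL⟩ := hex'
    -- every point has a neighbour on every line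
    have hpt : ∀ X ∈ K', ∀ Y ∈ K', X ≠ Y → perp X Y → ∀ W ∈ K', ∃ Z ∈ K', Z ≤ X ⊔ Y ∧ perp Z W := by
      intro X hX Y hY hne hXY W hW
      obtain ⟨Z, hZ, hle, hp'⟩ := hb' X (hsub hX) Y (hsub hY) hne hXY W (hsub hW)
      exact ⟨Z, hlines X hX Y hY hne hXY Z hZ hle, hle, hp'⟩
    obtain ⟨W, hW, hXW⟩ := hcon L₁ hL₁
    let M : Set (Subgroup G) := {U ∈ K' | perp U L₁ ∧ perp U W}
    have hL₁M : L₁ ∉ M := fun h => hXW h.2.2
    -- a point of the small set which is radical there is radical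
    have hrad : ∀ V ∈ M, ∃ U ∈ M, ¬ perp V U := by
      intro V hV
      by_contra hVM
      push Not at hVM
      have side : ∀ X W, X ∈ K' → W ∈ K' → ¬ perp X W → (∀ U ∈ K', perp U X → perp U W → perp V U) →
          perp V X → ∀ A ∈ K', perp A X → perp V A := by
        intro X W hX hW hXW hM hVX A hA hAX
        by_cases hne : A = X
        · rw [hne]; exact hVX
        obtain ⟨U, hU, hle, hUW⟩ := hpt A hA X hX hne hAX W hW
        have hUne : U ≠ X := fun h => hXW (h ▸ hUW)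
        have hVU := hM U hU (fun u hu x hx => psup hAX (pself X (hsub hX)) u (hle hu) x hx) hUW
        have := sup_eq A (hsub hA) X (hsub hX) U (hsub hU) hAX hle hUne
        exact fun v hv a ha => (psup (psymm hVU) (psymm hVX) a (this ha) v hv).symm
      have hLside := side L₁ W hL₁ hW hXW (fun U hU h1 h2 => hVM U ⟨hU, h1, h2⟩) hV.2.1
      have hWside := side W L₁ hW hL₁ (fun h => hXW (psymm h))
        (fun U hU h1 h2 => hVM U ⟨hU, h2, h1⟩) hV.2.2
      obtain ⟨T, hT, hVT⟩ := hcon V hV.1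
      have hVne : V ≠ L₁ := fun h => hL₁M (h ▸ hV)
      obtain ⟨A, hA, hle, hAT⟩ := hpt V hV.1 L₁ hL₁ hVne hV.2.1 T hT
      have hAV : A ≠ V := fun h => hVT (h ▸ hAT)
      have hVA : perp V A := fun v hv a ha =>
        (psup (pself V (hsub hV.1)) (psymm hV.2.1) a (hle ha) v hv).symm
      have hAW : ¬ perp A W := fun hAW => hXW (fun x hx w hw => by
        have := sup_eq L₁ (hsub hL₁) V (hsub hV.1) A (hsub hA) (psymm hV.2.1) (sup_comm V L₁ ▸ hle) hAV
        exact psup hAW hV.2.2 x (this hx) w hw)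
      have hTA : T ≠ A := fun h => hVT (h ▸ hVA)
      obtain ⟨B, hB, hleB, hBW⟩ := hpt T hT A hA hTA (psymm hAT) W hW
      have hVB := hWside B hB hBW
      have hBA : B ≠ A := fun h => hAW (h ▸ hBW)
      have := sup_eq T (hsub hT) A (hsub hA) B (hsub hB) (psymm hAT) hleB hBA
      exact hVT fun v hv t ht => (psup (psymm hVB) (psymm hVA) t (this ht) v hv).symm
    by_cases hexM : ∃ X ∈ M, ∃ Y ∈ M, X ≠ Y ∧ perp X Y
    · have hlt : M.ncard < n := hn ▸ Set.ncard_lt_ncard ⟨fun U hU => hU.1, fun h => hL₁M (h hL₁)⟩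
      obtain ⟨V, hV, hVM⟩ := ih _ hlt M rfl (fun U hU => hsub hU.1) (fun U hU T hT t ht => by
        refine ⟨hconj U hU.1 T hT.1 t ht, ?_, ?_⟩
        · rintro _ ⟨u, hu, rfl⟩ x hx
          have e := congrArg (MulAut.conj t) (hU.2.1 u hu x hx)
          rw [map_mul, map_mul, show MulAut.conj t x = x from by
            rw [MulAut.conj_apply, hT.2.1 t ht x hx, mul_inv_cancel_right]] at e
          exact e
        · rintro _ ⟨u, hu, rfl⟩ x hx
          have e := congrArg (MulAut.conj t) (hU.2.2 u hu x hx)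
          rw [map_mul, map_mul, show MulAut.conj t x = x from by
            rw [MulAut.conj_apply, hT.2.2 t ht x hx, mul_inv_cancel_right]] at e
          exact e)
        (fun X hX Y hY hne hXY Z hZ hle => ⟨hlines X hX.1 Y hY.1 hne hXY Z hZ hle,
          fun z hz => psup hX.2.1 hY.2.1 z (hle hz), fun z hz => psup hX.2.2 hY.2.2 z (hle hz)⟩) hexM
      obtain ⟨U, hU, hVU⟩ := hrad V hV
      exact hVU (hVM U hU)
    push Not at hexM
    obtain ⟨U, hU⟩ : M.Nonempty := by
      obtain ⟨A, hA, hAne, hAL⟩ : ∃ A ∈ K', A ≠ L₁ ∧ perp A L₁ := ⟨L₂, hL₂, hLne.symm, psymm hL⟩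
      obtain ⟨U, hU, hle, hUW⟩ := hpt A hA L₁ hL₁ hAne hAL W hW
      exact ⟨U, hU, fun u hu => psup hAL (pself L₁ (hsub hL₁)) u (hle hu), hUW⟩
    obtain ⟨U', hU', hUU'⟩ := hrad U hU
    have hLU : L₁ ≠ U := fun h => hL₁M (h ▸ hU)
    have hWU' : W ≠ U' := fun h => hXW (psymm (h ▸ hU'.2.1))
    obtain ⟨x, hx, hx1⟩ := L₁.bot_or_exists_ne_one.resolve_left (fun h => hXW (by
      intro a ha b _
      rw [h, Subgroup.mem_bot] at ha
      rw [ha, one_mul, mul_one]))
    obtain ⟨u, hu, hu1⟩ := U.bot_or_exists_ne_one.resolve_left (fun h => hUU' (by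
      intro a ha b _
      rw [h, Subgroup.mem_bot] at ha
      rw [ha, one_mul, mul_one]))
    have hxu : x * u = u * x := (hU.2.1 u hu x hx).symm
    have hxu1 : x * u ≠ 1 := fun h => hLU (by
      rw [← gen L₁ (hsub hL₁) x hx hx1, eq_inv_of_mul_eq_one_left h, Subgroup.zpowers_inv,
        gen U (hsub hU.1) u hu hu1])
    have hxup : (x * u) ^ p = 1 := by
      rw [Commute.mul_pow hxu, hpw L₁ (hsub hL₁) x hx, hpw U (hsub hU.1) u hu, one_mul]
    let Z := Subgroup.zpowers (x * u)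
    have hZc : Nat.card Z = p := by
      rw [Nat.card_zpowers]; exact orderOf_eq_prime hxup hxu1
    have hZle : Z ≤ L₁ ⊔ U := Subgroup.zpowers_le.2 (Subgroup.mul_mem_sup hx hu)
    have hZ : Z ∈ K' := hlines L₁ hL₁ U hU.1 hLU (psymm hU.2.1) Z
      (ha L₁ (hsub hL₁) U (hsub hU.1) hLU (psymm hU.2.1) Z hZle hZc) hZle
    obtain ⟨T, hT, hTle, hTZ⟩ := hpt W hW U' hU'.1 hWU' (psymm hU'.2.2) Z hZ
    obtain ⟨t, ht, ht1⟩ := T.bot_or_exists_ne_one.resolve_left (fun h => by
      have := hK T (hsub hT)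
      rw [h, Subgroup.card_bot] at this
      exact hp.ne_one this.symm)
    obtain ⟨w, hw, v, hv, rfl⟩ := hdec (psymm hU'.2.2) t (hTle ht)
    have hcomm : (x * u) * (w * v) = (w * v) * (x * u) :=
      (hTZ _ ht _ (Subgroup.mem_zpowers _)).symm
    have hxv : x * v = v * x := (hU'.2.1 v hv x hx).symm
    have huw : u * w = w * u := hU.2.2 u hu w hw
    have hw1 : w ≠ 1 := by
      rintro rfl
      rw [one_mul] at hcomm ht1
      refine hUU' fun a ha b hb => pgen U (hsub hU.1) u hu hu1 b ?_ a ha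
      refine (pgen U' (hsub hU'.1) v hv ht1 u ?_ b hb).symm
      rw [← mul_assoc, ← hxv, mul_assoc, mul_assoc] at hcomm
      exact (mul_left_cancel hcomm).symm
    let c := x * w * x⁻¹ * w⁻¹
    have hc : c = v * u * v⁻¹ * u⁻¹ := by
      have : x * w * (u * v) = w * x * (v * u) :=
        calc x * w * (u * v) = (x * u) * (w * v) := by
              rw [mul_assoc, mul_assoc x u, ← mul_assoc u w, huw, mul_assoc w u]
          _ = (w * v) * (x * u) := hcomm
          _ = w * x * (v * u) := by rw [mul_assoc, mul_assoc w x, ← mul_assoc v x, ← hxv, mul_assoc x v]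
      have cx : Commute x (v * u * v⁻¹ * u⁻¹) :=
        (((Commute.mul_right hxv hxu).mul_right (Commute.inv_right hxv)).mul_right (Commute.inv_right hxu))
      have cw : Commute w (v * u * v⁻¹ * u⁻¹) := by
        have h1 : Commute w v := (hU'.2.2 v hv w hw).symm
        have h2 : Commute w u := huw.symm
        exact (((h1.mul_right h2).mul_right h1.inv_right).mul_right h2.inv_right)
      have h3 : x * w = v * u * v⁻¹ * u⁻¹ * (w * x) := by
        rw [((cw.mul_left cx).symm).eq]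
        apply mul_right_cancel (b := u * v)
        rw [this]; group
      show x * w * x⁻¹ * w⁻¹ = _
      rw [h3]; group
    have hcx : Commute c x := by
      rw [hc]
      exact (((Commute.mul_right hxv hxu).mul_right (Commute.inv_right hxv)).mul_right (Commute.inv_right hxu)).symm
    have hcw : Commute c w := by
      rw [hc]
      have h1 : Commute w v := (hU'.2.2 v hv w hw).symm
      have h2 : Commute w u := huw.symm
      exact (((h1.mul_right h2).mul_right h1.inv_right).mul_right h2.inv_right).symm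
    have hc1 : c ≠ 1 := fun h => hXW fun a ha b hb =>
      pgen L₁ (hsub hL₁) x hx hx1 b (pgen W (hsub hW) w hw hw1 x (by
        have : x * w = w * x := by
          calc x * w = c * (w * x) := by simp only [c]; group
            _ = w * x := by rw [h, one_mul]
        exact this.symm) b hb).symm a ha
    let X' := L₁.map (MulAut.conj w⁻¹).toMonoidHom
    have hX' : X' ∈ K' := hconj L₁ hL₁ W hW w⁻¹ (W.inv_mem hw)
    let x' := w⁻¹ * x * w
    have hx' : x' ∈ X' := Subgroup.mem_map.2 ⟨x, hx, by simp [x']⟩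
    have hx'c : x' = c * x := by
      calc x' = w⁻¹ * (x * w * x⁻¹ * w⁻¹) * (w * x) := by simp only [x']; group
        _ = w⁻¹ * (c * w) * x := by simp only [c, mul_assoc]
        _ = c * x := by rw [hcw.eq, inv_mul_cancel_left]
    have hx'1 : x' ≠ 1 := fun h => hx1 (by
      rw [show x = w * x' * w⁻¹ by simp only [x']; group, h, mul_one, mul_inv_cancel])
    have hX'X : perp X' L₁ := fun a ha b hb => pgen X' (hsub hX') x' hx' hx'1 b
      (pgen L₁ (hsub hL₁) x hx hx1 x' (by rw [hx'c]; exact (hcx.symm.mul_right (Commute.refl x)).eq) b hb).symm a ha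
    have hne' : X' ≠ L₁ := fun h => hXW fun a ha b hb => by
      have hcL : c ∈ L₁ := by
        have := h ▸ hx'
        rw [hx'c] at this
        simpa using L₁.mul_mem this (L₁.inv_mem hx)
      exact pgen L₁ (hsub hL₁) c hcL hc1 b (pgen W (hsub hW) w hw hw1 c hcw.symm.eq b hb).symm a ha
    have hcle : Subgroup.zpowers c ≤ X' ⊔ L₁ := Subgroup.zpowers_le.2 (by
      rw [show c = x' * x⁻¹ by rw [hx'c, mul_inv_cancel_right]]
      exact Subgroup.mul_mem_sup hx' (L₁.inv_mem hx))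
    have hcc : Nat.card (Subgroup.zpowers c) = p := by
      rw [Nat.card_zpowers]
      refine orderOf_eq_prime ?_ hc1
      rw [show c = x' * x⁻¹ by rw [hx'c, mul_inv_cancel_right],
        (Commute.inv_right (hX'X x' hx' x hx)).mul_pow, inv_pow, hpw X' (hsub hX') x' hx',
        hpw L₁ (hsub hL₁) x hx, inv_one, one_mul]
    let C := Subgroup.zpowers c
    have hC : C ∈ K' := hlines X' hX' L₁ hL₁ hne' hX'X C
      (ha X' (hsub hX') L₁ (hsub hL₁) hne' hX'X C hcle hcc) hcle
    have hCM : C ∈ M := ⟨hC, fun a ha => psup hX'X (pself L₁ (hsub hL₁)) a (hcle ha), by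
      intro a ha b hb
      exact pgen C (hsub hC) c (Subgroup.mem_zpowers c) hc1 b
        (pgen W (hsub hW) w hw hw1 c hcw.symm.eq b hb).symm a ha⟩
    have hperp : ∀ Q ∈ M, perp C Q := fun Q hQ a ha q hq => by
      refine pgen C (hsub hC) c (Subgroup.mem_zpowers c) hc1 q ?_ a ha
      have h1 : Commute x q := (hQ.2.1 q hq x hx).symm
      have h2 : Commute w q := (hQ.2.2 q hq w hw).symm
      exact (((h1.mul_left h2).mul_left h1.inv_left).mul_left h2.inv_left).eq
    by_cases hCU : C = U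
    · exact hUU' (hCU ▸ hperp U' hU')
    · exact hexM C hCM U hU hCU (hperp U hU)

end Cfsg.Agent.S3196
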