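import Cfsg.Statements.S3197
import Cfsg.Agent.Lib.Fusion.AEightClosed.Main
import Cfsg.Agent.Lib.Fusion.AEightClosed.SylowEight

set_option autoImplicit false
open Cfsg

namespace Cfsg.Agent.S3197

/-- Let G be a finite group whose Sylow 2-subgroups are isomorphic to those of the alternating group of degree 8, with exactly three conjugacy classes of involutions, and containing an elementary abelian subgroup A of order 16 whose normalizer N satisfies: A·O(N) is normal in N with quotient N/(A·O(N)) isomorphic to the alternating group of degree 5, O(N) being the largest normal subgroup of odd order of N. Then A·O(G) is a normal subgroup of G. -/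
theorem result {G : Type*} [Group G] [Finite G]
    (S : Sylow 2 G) (P : Sylow 2 ↥(alternatingGroup (Fin 8)))
    (hS : Nonempty (↥(S : Subgroup G) ≃* ↥(P : Subgroup ↥(alternatingGroup (Fin 8)))))
    (h3 : Nat.card {c : ConjClasses G // ∃ x ∈ c.carrier, orderOf x = 2} = 3)
    (A : Subgroup G) (hA : Cfsg.IsElementaryAbelian 2 A) (hA16 : Nat.card ↥A = 16)
    (N : Subgroup G) (hN : N = Subgroup.normalizer (A : Set G))
    (hNA : ∃ (_ : (A.subgroupOf N ⊔ Cfsg.oddCore ↥N).Normal),
      Nonempty (↥N ⧸ (A.subgroupOf N ⊔ Cfsg.oddCore ↥N) ≃* ↥(alternatingGroup (Fin 5)))) :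
    (A ⊔ Cfsg.oddCore G).Normal := by
  classical
  subst hN
  obtain ⟨e0⟩ := hS
  obtain ⟨hK, ⟨e⟩⟩ := hNA
  haveI := hK
  haveI : Fact (Nat.Prime 2) := ⟨Nat.prime_two⟩
  let φ : ∀ Q : Sylow 2 G, ↥(Q : Subgroup G) ≃* ↥(P : Subgroup ↥(alternatingGroup (Fin 8))) :=
    fun Q => (Sylow.equiv Q S).trans e0
  let D : AEightClosed.Data G :=
    { A := A
      sq := fun a ha => (pow_two a).symm.trans (hA.2 a ha)
      h16 := hA16
      ψ := e.toMonoidHom.comp (QuotientGroup.mk' _)
      surj := e.surjective.comp (QuotientGroup.mk'_surjective _)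
      ker := by rw [← MonoidHom.comap_ker, (MonoidHom.ker_eq_bot_iff _).2 e.injective, MonoidHom.comap_bot,
        QuotientGroup.ker_mk']
      h64 := fun Q => (Nat.card_congr (φ Q).toEquiv).trans (AEightClosed.card_sylow_eight P)
      ncen := fun Q Z hZ => AEightClosed.no_central_index_four P (φ Q) Z hZ
      h3 := h3 }
  exact D.main

end Cfsg.Agent.S3197
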