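import Cfsg.Statements.S3200
import Mathlib
import Cfsg.Agent.Lib.Solv.Hall
import Cfsg.Agent.Lib.Solv.ClassPow
-- import your own Cfsg.Agent.* helpers here

set_option autoImplicit false
open Cfsg

namespace Cfsg.Agent.S3200

/-- Let H be a finite group in which a Sylow 2-subgroup has an abelian complement (an abelian subgroup meeting it trivially whose product with it is all of H). Then H is solvable, and every subgroup and every quotient group of H again has a Sylow 2-subgroup with an abelian complement. -/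
theorem result {H : Type*} [Group H] [Finite H]
    (S : Sylow 2 H) (C : Subgroup H) (hC : IsMulCommutative ↥C) (hSC : Subgroup.IsComplement' (S : Subgroup H) C) :
    Group.IsSolvable H ∧
    (∀ L : Subgroup H, ∃ (P : Sylow 2 ↥L) (D : Subgroup ↥L), IsMulCommutative ↥D ∧ Subgroup.IsComplement' (P : Subgroup ↥L) D) ∧
    (∀ (N : Subgroup H) [N.Normal], ∃ (P : Sylow 2 (H ⧸ N)) (D : Subgroup (H ⧸ N)),
      IsMulCommutative ↥D ∧ Subgroup.IsComplement' (P : Subgroup (H ⧸ N)) D) := by
  classical
  haveI : Fact (Nat.Prime 2) := ⟨Nat.prime_two⟩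
  obtain ⟨k, hk⟩ := IsPGroup.iff_card.1 S.isPGroup'
  have hidxC : C.index = 2 ^ k := by rw [← hk]; exact (hSC.index_eq_card).trans rfl
  have hsol : Group.IsSolvable H :=
    Cfsg.Agent.Solv.isSolvable_of_abelian_pow_index Nat.prime_two _ H rfl C hC ⟨k, hidxC⟩
  have hcard : Nat.card H = Nat.card C * 2 ^ k := by rw [← hidxC]; exact C.card_mul_index.symm
  have hoddC : (Nat.card C).Coprime (2 ^ k) := by
    refine Nat.Coprime.pow_right k (Nat.Coprime.symm ((Nat.prime_two.coprime_iff_not_dvd).2 ?_))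
    have hi : (S : Subgroup H).index = Nat.card C := hSC.symm.index_eq_card
    exact hi ▸ S.not_dvd_index
  refine ⟨hsol, fun L => ?_, fun N _ => ?_⟩
  · obtain ⟨P⟩ := (inferInstance : Nonempty (Sylow 2 L))
    have hLs : Group.IsSolvable L := inferInstance
    obtain ⟨j, hj⟩ := IsPGroup.iff_card.1 P.isPGroup'
    have hodd : (P : Subgroup L).index.Coprime (2 ^ j) :=
      Nat.Coprime.pow_right j (Nat.Coprime.symm ((Nat.prime_two.coprime_iff_not_dvd).2 P.not_dvd_index))
    have hc : Nat.card L = (P : Subgroup L).index * 2 ^ j := by rw [← hj, mul_comm]; exact (Subgroup.card_mul_index _).symm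
    obtain ⟨D, hD⟩ := Cfsg.Agent.Solv.hall_exists hLs hc hodd
    refine ⟨P, D, ?_, Subgroup.isComplement'_of_card_mul_and_disjoint ?_ ?_⟩
    · have hco : (Nat.card (D.map L.subtype)).Coprime (2 ^ k) := by
        rw [Subgroup.card_map_of_injective L.subtype_injective, hD]
        exact Nat.Coprime.pow_right k (Nat.Coprime.symm ((Nat.prime_two.coprime_iff_not_dvd).2 P.not_dvd_index))
      obtain ⟨g, hg⟩ := Cfsg.Agent.Solv.hall_contain hsol hcard hoddC (D.map L.subtype) C hco rfl
      refine ⟨⟨fun a b => Subtype.ext (L.subtype_injective ?_)⟩⟩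
      obtain ⟨c, hc', hce⟩ := hg (Subgroup.mem_map_of_mem L.subtype a.2)
      obtain ⟨d, hd', hde⟩ := hg (Subgroup.mem_map_of_mem L.subtype b.2)
      rw [Subgroup.coe_mul, Subgroup.coe_mul, map_mul, map_mul, ← hce, ← hde]
      change MulAut.conj g c * MulAut.conj g d = MulAut.conj g d * MulAut.conj g c
      rw [← map_mul, ← map_mul]
      exact congrArg _ (congrArg Subtype.val (hC.is_comm.comm (⟨c, hc'⟩ : C) ⟨d, hd'⟩))
    · rw [hD, hc, hj, mul_comm]
    · rw [disjoint_iff]
      exact Cfsg.Agent.Solv.coprime_inf (by rw [hj, hD]; exact hodd.symm)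
  · obtain ⟨P⟩ := (inferInstance : Nonempty (Sylow 2 (H ⧸ N)))
    let f := QuotientGroup.mk' N
    have hfs : Function.Surjective f := QuotientGroup.mk'_surjective N
    let S' := Sylow.mapSurjective hfs S
    refine ⟨S', C.map f, ⟨⟨fun a b => Subtype.ext ?_⟩⟩, Subgroup.isComplement'_of_coprime ?_ ?_⟩
    · obtain ⟨c, hc', hce⟩ := a.2
      obtain ⟨d, hd', hde⟩ := b.2
      rw [Subgroup.coe_mul, Subgroup.coe_mul, ← hce, ← hde, ← map_mul, ← map_mul]
      exact congrArg _ (congrArg Subtype.val (hC.is_comm.comm (⟨c, hc'⟩ : C) ⟨d, hd'⟩))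
    · have h1 : Nat.card S' ∣ 2 ^ k := hk ▸ Subgroup.card_map_dvd (S : Subgroup H) f
      have h2 : Nat.card (C.map f) ∣ Nat.card C := Subgroup.card_map_dvd C f
      have hco : (Nat.card S').Coprime (Nat.card (C.map f)) :=
        (hoddC.symm.coprime_dvd_left h1).coprime_dvd_right h2
      refine Nat.dvd_antisymm (hco.mul_dvd_of_dvd_of_dvd (Subgroup.card_subgroup_dvd_card _) (Subgroup.card_subgroup_dvd_card _)) ?_
      obtain ⟨j, hj⟩ := IsPGroup.iff_card.1 S'.isPGroup'
      have h3 : (C.map f).index ∣ 2 ^ k := hidxC ▸ Subgroup.index_map_dvd C hfs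
      rw [← (C.map f).card_mul_index, mul_comm (Nat.card S')]
      refine mul_dvd_mul_left _ ?_
      have hn : Nat.card (H ⧸ N) = Nat.card S' * (S' : Subgroup (H ⧸ N)).index := (Subgroup.card_mul_index _).symm
      have h4 : (C.map f).index ∣ Nat.card S' * (S' : Subgroup (H ⧸ N)).index :=
        hn ▸ Subgroup.index_dvd_card _
      exact (Nat.Coprime.coprime_dvd_left h3 (Nat.Coprime.pow_left k ((Nat.prime_two.coprime_iff_not_dvd).2 S'.not_dvd_index))).dvd_of_dvd_mul_right h4
    · exact (hoddC.symm.coprime_dvd_left (hk ▸ Subgroup.card_map_dvd (S : Subgroup H) f)).coprime_dvd_right (Subgroup.card_map_dvd C f)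

end Cfsg.Agent.S3200
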