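import Cfsg.Statements.S3201
import Mathlib
import Cfsg.Agent.Lib.Solv.UniqueSub
import Cfsg.Agent.Lib.Solv.PGroupPhi
-- import your own Cfsg.Agent.* helpers here

set_option autoImplicit false
open Cfsg

namespace Cfsg.Agent.S3201

/-- Let S be a finite 2-group whose centre Z(S) has n ≥ 2 distinct maximal subgroups C₁, …, Cₙ with trivial intersection such that each quotient S/Cᵢ is a non-abelian group with exactly one involution (a generalized quaternion group). Then S is the internal direct product of an elementary abelian subgroup and a non-abelian subgroup with exactly one involution. -/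
theorem result {S : Type*} [Group S] [Finite S]
    (hS : IsPGroup 2 S) (n : ℕ) (hn : 2 ≤ n) (C : Fin n → Subgroup ↥(Subgroup.center S))
    (hCmax : ∀ i, IsCoatom (C i)) (hCinj : Function.Injective C) (hCint : ⨅ i, C i = ⊥)
    (hCq : ∀ i, ∃ (_ : ((C i).map (Subgroup.center S).subtype).Normal),
      ¬ IsMulCommutative (S ⧸ (C i).map (Subgroup.center S).subtype) ∧
      ∃! x : S ⧸ (C i).map (Subgroup.center S).subtype, orderOf x = 2) :
    ∃ E Q : Subgroup S, Cfsg.IsInternalDirectProduct E Q ⊤ ∧ Cfsg.IsElementaryAbelian 2 E ∧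
      ¬ IsMulCommutative ↥Q ∧ ∃! x : ↥Q, orderOf x = 2 := by
  classical
  haveI : Fact (Nat.Prime 2) := ⟨Nat.prime_two⟩
  let Z : Subgroup S := Subgroup.center S
  let C' : Fin n → Subgroup S := fun i => (C i).map Z.subtype
  have hCle : ∀ i, C' i ≤ Z := fun i => Subgroup.map_subtype_le _
  haveI hC'n : ∀ i, (C' i).Normal := fun i => (hCq i).elim fun h _ => h
  have hmem : ∀ i (x : S) (hx : x ∈ Z), x ∈ C' i ↔ (⟨x, hx⟩ : Z) ∈ C i := fun i x hx =>
    ⟨fun ⟨y, hy, e⟩ => by rwa [show (⟨x, hx⟩ : Z) = y from Subtype.ext e.symm], fun h => ⟨_, h, rfl⟩⟩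
  have hidx : ∀ i, (C i).index = 2 := by
    intro i
    have hpZ : IsPGroup 2 Z := hS.to_subgroup Z
    exact Cfsg.Agent.Solv.coatom_index hpZ (hCmax i)
  have hall : ∀ x ∈ Z, (∀ i, x ∈ C' i) → x = 1 := fun x hx h => by
    have : (⟨x, hx⟩ : Z) ∈ ⨅ i, C i := Subgroup.mem_iInf.2 fun i => (hmem i x hx).1 (h i)
    rw [hCint, Subgroup.mem_bot] at this
    exact congrArg Subtype.val this
  -- the quotient facts in terms of elements
  have hQ : ∀ i (x : S), x ∉ Z → x ^ 2 ∉ C' i := by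
    intro i x hx hx2
    obtain ⟨hn', -, u, hu, huniq⟩ := hCq i
    obtain ⟨z, hz⟩ : ∃ z : Z, z ∉ C i := by
      by_contra h
      push Not at h
      exact (hCmax i).1 (eq_top_iff.2 fun z _ => h z)
    have hz' : (z : S) ∉ C' i := fun h => hz ((hmem i z z.2).1 h)
    have key : ∀ w : S, w ∉ C' i → w ^ 2 ∈ C' i → orderOf (QuotientGroup.mk w : S ⧸ C' i) = 2 := fun w h1 h2 =>
      orderOf_eq_prime (by rw [← QuotientGroup.mk_pow]; exact (QuotientGroup.eq_one_iff _).2 h2) fun h => h1 ((QuotientGroup.eq_one_iff _).1 h)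
    have hzz : (z : S) ^ 2 ∈ C' i := (hmem i _ (Z.pow_mem z.2 2)).2 (by
      have := Subgroup.mul_mem_iff_of_index_two (hidx i) (a := z) (b := z)
      rw [show (⟨(z : S) ^ 2, Z.pow_mem z.2 2⟩ : Z) = z * z from Subtype.ext (pow_two _)]
      exact this.2 Iff.rfl)
    have e := (huniq _ (key x (fun h => hx (hCle i h)) hx2)).trans (huniq _ (key z hz' hzz)).symm
    exact hx (by
      have := QuotientGroup.eq.1 e
      have h2 := Z.mul_mem z.2 (Z.inv_mem (hCle i this))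
      rwa [mul_inv_rev, inv_inv, mul_inv_cancel_left] at h2)
  have hzuniq : ∀ x y : S, x ∈ Z → y ∈ Z → (∀ i, x ∉ C' i) → (∀ i, y ∉ C' i) → x = y := fun x y hx hy h1 h2 => by
    refine mul_inv_eq_one.1 (hall _ (Z.mul_mem hx (Z.inv_mem hy)) fun i => (hmem i (x * y⁻¹) (Z.mul_mem hx (Z.inv_mem hy))).2
      ((Subgroup.mul_mem_iff_of_index_two (hidx i) (a := ⟨x, hx⟩) (b := ⟨y⁻¹, Z.inv_mem hy⟩)).2 ?_))
    simp only [← hmem i]
    exact ⟨fun h => absurd h (h1 i), fun h => absurd (inv_mem_iff.1 h) (h2 i)⟩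
  have hsq : ∀ x y : S, x ∉ Z → x ^ 2 ∈ Z → y ∉ Z → y ^ 2 ∈ Z → x ^ 2 = y ^ 2 := fun x y h1 h2 h3 h4 =>
    hzuniq _ _ h2 h4 (fun i => hQ i x h1) (fun i => hQ i y h3)
  -- structure of the first quotient
  let i₀ : Fin n := ⟨0, by omega⟩
  obtain ⟨hn₀, hnc, u₀, hu₀, huniq₀⟩ := hCq i₀
  have huo : Cfsg.Agent.Solv.UniqueOrderP 2 (S ⧸ C' i₀) := by
    intro x y hx hy hy1
    by_cases hx1 : x = 1
    · rw [hx1]; exact Subgroup.one_mem _
    · rw [(huniq₀ x (orderOf_eq_prime hx hx1)).trans (huniq₀ y (orderOf_eq_prime hy hy1)).symm]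
      exact Subgroup.mem_zpowers y
  obtain ⟨-, k, ⟨e⟩⟩ : 2 = 2 ∧ ∃ k : ℕ, Nonempty ((S ⧸ C' i₀) ≃* QuaternionGroup (2 ^ k)) := by
    rcases Cfsg.Agent.Solv.cyclic_or_quaternion (hS.to_quotient _) huo with h | h
    · exact absurd (⟨⟨fun x y => by
        obtain ⟨g, hg⟩ := h.exists_generator
        obtain ⟨a, rfl⟩ := hg x
        obtain ⟨b, rfl⟩ := hg y
        exact (Commute.refl g).zpow_zpow a b⟩⟩ : IsMulCommutative (S ⧸ C' i₀)) hnc
    · exact h
  haveI : NeZero (2 ^ k) := ⟨by positivity⟩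
  have hk : 1 ≤ k := by
    by_contra h
    refine hnc ⟨⟨fun x y => e.injective ?_⟩⟩
    rw [map_mul, map_mul]
    have hk0 : (2 : ℕ) ^ k = 1 := by rw [show k = 0 by omega, pow_zero]
    generalize e x = p
    generalize e y = q
    revert p q
    rw [hk0]
    decide
  obtain ⟨a, ha⟩ := QuotientGroup.mk_surjective (e.symm (QuaternionGroup.a 1))
  obtain ⟨b, hb⟩ := QuotientGroup.mk_surjective (e.symm (QuaternionGroup.xa 0))
  let f : S →* QuaternionGroup (2 ^ k) := e.toMonoidHom.comp (QuotientGroup.mk' (C' i₀))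
  have hfa : f a = QuaternionGroup.a 1 := by show e (QuotientGroup.mk a) = _; rw [ha, e.apply_symm_apply]
  have hfb : f b = QuaternionGroup.xa 0 := by show e (QuotientGroup.mk b) = _; rw [hb, e.apply_symm_apply]
  have hker : ∀ x, f x = 1 ↔ x ∈ C' i₀ := fun x => by
    show e (QuotientGroup.mk x) = 1 ↔ _
    rw [MulEquiv.map_eq_one_iff, QuotientGroup.eq_one_iff]
  -- Z maps onto the order two centre
  have hfZ : ∀ x, f x = QuaternionGroup.a ((2 ^ k : ℕ) : ZMod (2 * 2 ^ k)) → x ∈ Z := by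
    intro x hx
    by_contra hxZ
    refine hQ i₀ x hxZ ((hker _).1 ?_)
    rw [map_pow, hx, pow_two, QuaternionGroup.a_mul_a, ← Nat.cast_add, ← two_mul, ZMod.natCast_self]
    rfl
  have hfnZ : ∀ x, f x ^ 2 ≠ 1 → x ∉ Z := fun x hx hxZ => hx (by
    rw [← map_pow, hker]
    refine (hmem i₀ _ (Z.pow_mem hxZ 2)).2 ?_
    rw [show (⟨x ^ 2, Z.pow_mem hxZ 2⟩ : Z) = ⟨x, hxZ⟩ * ⟨x, hxZ⟩ from Subtype.ext (pow_two _)]
    exact (Subgroup.mul_mem_iff_of_index_two (hidx i₀)).2 Iff.rfl)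
  have hpowa : ∀ m : ℕ, f (a ^ m) = QuaternionGroup.a (m : ZMod (2 * 2 ^ k)) := fun m => by
    rw [map_pow, hfa, QuaternionGroup.a_one_pow]
  have hne1 : QuaternionGroup.a ((2 ^ k : ℕ) : ZMod (2 * 2 ^ k)) ≠ 1 := by
    intro h
    have h1 := (ZMod.natCast_eq_zero_iff (2 ^ k) (2 * 2 ^ k)).1 (QuaternionGroup.a.inj h)
    have := Nat.le_of_dvd (by positivity) h1
    have := Nat.two_pow_pos k
    omega
  set z := a ^ 2 ^ k with hzdef
  have hzZ : z ∈ Z := hfZ _ (by rw [hzdef, hpowa])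
  have hb2 : b ^ 2 ∈ Z := hfZ _ (by rw [map_pow, hfb, pow_two, QuaternionGroup.xa_mul_xa]; simp)
  have hbZ : b ∉ Z := hfnZ b (by
    rw [hfb, pow_two, QuaternionGroup.xa_mul_xa, add_sub_cancel_right]
    exact hne1)
  have hab : f (a * b) = QuaternionGroup.xa (-1) := by rw [map_mul, hfa, hfb, QuaternionGroup.a_mul_xa, zero_sub]
  have hab2 : (a * b) ^ 2 ∈ Z := hfZ _ (by rw [map_pow, hab, pow_two, QuaternionGroup.xa_mul_xa]; simp)
  have habZ : a * b ∉ Z := hfnZ _ (by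
    rw [hab, pow_two, QuaternionGroup.xa_mul_xa, add_sub_cancel_right]
    exact hne1)
  have hy : (a ^ 2 ^ (k - 1)) ∉ Z ∧ (a ^ 2 ^ (k - 1)) ^ 2 = z := by
    have e2 : (a ^ 2 ^ (k - 1)) ^ 2 = z := by rw [← pow_mul, ← pow_succ, Nat.sub_add_cancel hk]
    refine ⟨hfnZ _ ?_, e2⟩
    rw [← map_pow, e2, hzdef, hpowa]
    exact hne1
  have hbz : b ^ 2 = z := hy.2 ▸ hsq b _ hbZ hb2 hy.1 (hy.2 ▸ hzZ)
  have habz : (a * b) ^ 2 = z := hbz ▸ hsq _ b habZ hab2 hbZ hb2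
  have hrel : b * a = a⁻¹ * b := by
    have h1 : a * b * (a * b) = b * b := by rw [← pow_two, ← pow_two, habz, hbz]
    have h2 : a * b * a = b := mul_right_cancel (b := b) (by rw [← h1]; group)
    calc b * a = a⁻¹ * (a * b * a) := by group
      _ = a⁻¹ * b := by rw [h2]
  have hrelz : ∀ m : ℤ, b * a ^ m = a ^ (-m) * b := by
    intro m
    induction m using Int.induction_on with
    | zero => simp
    | succ m ih => rw [zpow_add, zpow_one, ← mul_assoc, ih, mul_assoc, hrel, ← mul_assoc, ← zpow_neg_one, ← zpow_add, neg_add]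
    | pred m ih =>
      have h' : b * a⁻¹ = a * b := by
        rw [mul_inv_eq_iff_eq_mul, mul_assoc, hrel, mul_inv_cancel_left]
      rw [zpow_sub_one, ← mul_assoc, ih, mul_assoc, h', ← mul_assoc]
      nth_rw 2 [← zpow_one a]
      rw [← zpow_add]
      congr 2
      ring
  have hbb : b * b = a ^ ((2 ^ k : ℕ) : ℤ) := by rw [← pow_two, hbz, zpow_natCast]
  let Q : Subgroup S :=
    { carrier := {x | ∃ m : ℤ, x = a ^ m ∨ x = a ^ m * b}
      one_mem' := ⟨0, Or.inl (zpow_zero a).symm⟩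
      mul_mem' := by
        rintro x y ⟨m, hm⟩ ⟨l, hl⟩
        rcases hm with rfl | rfl <;> rcases hl with rfl | rfl
        · exact ⟨m + l, Or.inl (zpow_add a m l).symm⟩
        · exact ⟨m + l, Or.inr (by rw [← mul_assoc, ← zpow_add])⟩
        · exact ⟨m - l, Or.inr (by rw [mul_assoc, hrelz, ← mul_assoc, ← zpow_add, sub_eq_add_neg])⟩
        · exact ⟨m - l + ((2 ^ k : ℕ) : ℤ), Or.inl (by
            rw [mul_assoc, ← mul_assoc b, hrelz, mul_assoc, hbb, ← zpow_add, ← zpow_add]; congr 1; ring)⟩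
      inv_mem' := by
        rintro x ⟨m, rfl | rfl⟩
        · exact ⟨-m, Or.inl (zpow_neg a m).symm⟩
        · refine ⟨m - ((2 ^ k : ℕ) : ℤ), Or.inr (inv_eq_of_mul_eq_one_right ?_)⟩
          rw [mul_assoc, ← mul_assoc b, hrelz, mul_assoc, hbb, ← zpow_add, ← zpow_add]
          rw [show m + (-(m - ((2 ^ k : ℕ) : ℤ)) + ((2 ^ k : ℕ) : ℤ)) = ((2 ^ k : ℕ) : ℤ) + ((2 ^ k : ℕ) : ℤ) by ring,
            zpow_add, zpow_natCast, ← hzdef]
          rw [← pow_two]
          refine hall _ (Z.pow_mem hzZ 2) fun i => ?_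
          refine (hmem i _ (Z.pow_mem hzZ 2)).2 ?_
          rw [show (⟨z ^ 2, Z.pow_mem hzZ 2⟩ : Z) = ⟨z, hzZ⟩ * ⟨z, hzZ⟩ from Subtype.ext (pow_two _)]
          exact (Subgroup.mul_mem_iff_of_index_two (hidx i)).2 Iff.rfl }
  have hinter : ∀ x ∈ Q, f x = 1 → x = 1 := by
    rintro x ⟨m, rfl | rfl⟩ h
    · obtain ⟨l, rfl⟩ : ((2 * 2 ^ k : ℕ) : ℤ) ∣ m := by
        rw [map_zpow, hfa] at h
        have := orderOf_dvd_iff_zpow_eq_one.2 h
        rwa [QuaternionGroup.orderOf_a_one] at this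
      rw [zpow_mul, zpow_natCast, mul_comm, pow_mul, ← hzdef]
      have : z ^ 2 = 1 := hall _ (Z.pow_mem hzZ 2) fun i => (hmem i _ (Z.pow_mem hzZ 2)).2 (by
        rw [show (⟨z ^ 2, Z.pow_mem hzZ 2⟩ : Z) = ⟨z, hzZ⟩ * ⟨z, hzZ⟩ from Subtype.ext (pow_two _)]
        exact (Subgroup.mul_mem_iff_of_index_two (hidx i)).2 Iff.rfl)
      rw [this, one_zpow]
    · exfalso
      rw [map_mul, map_zpow, hfa, hfb] at h
      obtain ⟨t, ht⟩ : ∃ t, (QuaternionGroup.a 1 : QuaternionGroup (2 ^ k)) ^ m = QuaternionGroup.a t := by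
        obtain ⟨j, hj⟩ := (mem_powers_iff_mem_zpowers.2 ⟨m, rfl⟩ : _ ∈ Submonoid.powers (QuaternionGroup.a 1 : QuaternionGroup (2 ^ k)))
        exact ⟨j, hj.symm.trans (QuaternionGroup.a_one_pow j)⟩
      rw [ht, QuaternionGroup.a_mul_xa] at h
      cases h
  let g : Q →* S ⧸ C' i₀ := (QuotientGroup.mk' (C' i₀)).comp Q.subtype
  have hgi : Function.Injective g := (injective_iff_map_eq_one g).2 fun x hx => Subtype.ext (hinter x x.2 (by
    show e (QuotientGroup.mk (x : S)) = 1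
    rw [show (QuotientGroup.mk (x : S) : S ⧸ C' i₀) = 1 from hx, map_one]))
  have hgs : Function.Surjective g := by
    intro s
    obtain ⟨q, hq⟩ : ∃ q, q = e s := ⟨_, rfl⟩
    cases q with
    | a t =>
      refine ⟨⟨a ^ t.val, (t.val : ℤ), Or.inl (zpow_natCast a _).symm⟩, e.injective ?_⟩
      show f (a ^ t.val) = _
      rw [hpowa, ZMod.natCast_zmod_val, hq]
    | xa t =>
      refine ⟨⟨a ^ (-t).val * b, ((-t).val : ℤ), Or.inr (by rw [zpow_natCast])⟩, e.injective ?_⟩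
      show f (a ^ (-t).val * b) = _
      rw [map_mul, hpowa, hfb, QuaternionGroup.a_mul_xa, ZMod.natCast_zmod_val, ← hq]
      simp
  let E : Q ≃* S ⧸ C' i₀ := MulEquiv.ofBijective g ⟨hgi, hgs⟩
  refine ⟨C' i₀, Q, ⟨le_top, le_top, fun c hc x _ => (Subgroup.mem_center_iff.1 (hCle i₀ hc) x).symm, ?_, ?_⟩, ⟨⟨⟨fun x y => Subtype.ext (Subgroup.mem_center_iff.1 (hCle i₀ y.2) x)⟩⟩, fun c hc => ?_⟩, ?_, ?_⟩
  · exact (Subgroup.eq_bot_iff_forall _).2 fun x hx => hinter x hx.2 ((hker x).2 hx.1)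
  · rw [eq_top_iff]
    intro s _
    obtain ⟨x, hx⟩ := hgs (QuotientGroup.mk s)
    have : (x : S)⁻¹ * s ∈ C' i₀ := QuotientGroup.eq.1 hx
    have h2 := Subgroup.mul_mem _ (Subgroup.mem_sup_right (S := C' i₀) x.2) (Subgroup.mem_sup_left (T := Q) this)
    rwa [mul_inv_cancel_left] at h2
  · refine hall _ (Z.pow_mem (hCle i₀ hc) 2) fun i => (hmem i _ (Z.pow_mem (hCle i₀ hc) 2)).2 ?_
    rw [show (⟨c ^ 2, Z.pow_mem (hCle i₀ hc) 2⟩ : Z) = ⟨c, hCle i₀ hc⟩ * ⟨c, hCle i₀ hc⟩ from Subtype.ext (pow_two _)]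
    exact (Subgroup.mul_mem_iff_of_index_two (hidx i)).2 Iff.rfl
  · exact fun h => hnc ⟨⟨fun x y => E.symm.injective (by rw [map_mul, map_mul]; exact h.is_comm.comm _ _)⟩⟩
  · refine ⟨E.symm u₀, by show orderOf _ = 2; rw [MulEquiv.orderOf_eq]; exact hu₀, fun x hx => E.injective ?_⟩
    rw [MulEquiv.apply_symm_apply]
    exact huniq₀ _ (by show orderOf (E x) = 2; rw [MulEquiv.orderOf_eq]; exact hx)

end Cfsg.Agent.S3201
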