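import Cfsg.Statements.S3202
import Mathlib
import Cfsg.Agent.Lib.Solv.UniqueSub
-- import your own Cfsg.Agent.* helpers here

set_option autoImplicit false
open Cfsg

namespace Cfsg.Agent.S3202

open scoped commutatorElement

/-- Let S be a finite 2-group of 2-rank exactly 2 and D a maximal subgroup of the centre of S such that S/D is a non-abelian group with exactly one involution (a generalized quaternion group). Then S has a nontrivial cyclic characteristic subgroup. -/
theorem result {S : Type*} [Group S]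
    [Finite S] (hS : IsPGroup 2 S) (hr2 : Cfsg.PRankLE 2 2 S) (hr1 : ¬ Cfsg.PRankLE 2 1 S)
    (D : Subgroup ↥(Subgroup.center S)) (hD : IsCoatom D)
    (hq : ∃ (_ : (D.map (Subgroup.center S).subtype).Normal),
      ¬ IsMulCommutative (S ⧸ D.map (Subgroup.center S).subtype) ∧
      ∃! x : S ⧸ D.map (Subgroup.center S).subtype, orderOf x = 2) :
    ∃ C : Subgroup S, C ≠ ⊥ ∧ IsCyclic ↥C ∧ C.Characteristic := by
  classical
  haveI : Fact (Nat.Prime 2) := ⟨Nat.prime_two⟩
  obtain ⟨hn', hnc, u, hu, huniq⟩ := hq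
  let D' : Subgroup S := D.map (Subgroup.center S).subtype
  haveI : D'.Normal := hn'
  have hDle : D' ≤ Subgroup.center S := Subgroup.map_subtype_le _
  have huo : Cfsg.Agent.Solv.UniqueOrderP 2 (S ⧸ D') := by
    intro x y hx hy hy1
    by_cases hx1 : x = 1
    · rw [hx1]; exact Subgroup.one_mem _
    · rw [(huniq x (orderOf_eq_prime hx hx1)).trans (huniq y (orderOf_eq_prime hy hy1)).symm]
      exact Subgroup.mem_zpowers y
  obtain ⟨-, k, ⟨e⟩⟩ : 2 = 2 ∧ ∃ k : ℕ, Nonempty ((S ⧸ D') ≃* QuaternionGroup (2 ^ k)) := by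
    rcases Cfsg.Agent.Solv.cyclic_or_quaternion (hS.to_quotient _) huo with h | h
    · exact absurd (⟨⟨fun x y => by
        obtain ⟨g, hg⟩ := h.exists_generator
        obtain ⟨a, rfl⟩ := hg x
        obtain ⟨b, rfl⟩ := hg y
        exact (Commute.refl g).zpow_zpow a b⟩⟩ : IsMulCommutative (S ⧸ D')) hnc
    · exact h
  haveI : NeZero (2 ^ k) := ⟨by positivity⟩
  obtain ⟨a, ha⟩ := QuotientGroup.mk_surjective (e.symm (QuaternionGroup.a 1))
  obtain ⟨b, hb⟩ := QuotientGroup.mk_surjective (e.symm (QuaternionGroup.xa 0))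
  let f : S →* QuaternionGroup (2 ^ k) := e.toMonoidHom.comp (QuotientGroup.mk' D')
  have hfa : f a = QuaternionGroup.a 1 := by show e (QuotientGroup.mk a) = _; rw [ha, e.apply_symm_apply]
  have hfb : f b = QuaternionGroup.xa 0 := by show e (QuotientGroup.mk b) = _; rw [hb, e.apply_symm_apply]
  have hker : ∀ x, f x = 1 → x ∈ D' := fun x hx => by
    have : e (QuotientGroup.mk x) = 1 := hx
    rwa [MulEquiv.map_eq_one_iff, QuotientGroup.eq_one_iff] at this
  have hw : b * a * b⁻¹ * a ∈ Subgroup.center S := hDle (hker _ (by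
    rw [map_mul, map_mul, map_mul, map_inv, hfa, hfb]
    rw [QuaternionGroup.xa_mul_a, zero_add]
    show QuaternionGroup.xa (1 : ZMod (2 * 2 ^ k)) * (QuaternionGroup.xa 0)⁻¹ * QuaternionGroup.a 1 = 1
    rw [← eq_mul_inv_iff_mul_eq, one_mul, mul_inv_eq_iff_eq_mul]
    rw [inv_eq_of_mul_eq_one_right (show QuaternionGroup.a (1 : ZMod (2 * 2 ^ k)) * QuaternionGroup.a (-1) = 1 by
      rw [QuaternionGroup.a_mul_a, add_neg_cancel]; rfl), QuaternionGroup.a_mul_xa, zero_sub, neg_neg]))
  set w := b * a * b⁻¹ * a with hwdef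
  have hwc : ∀ x, x * w = w * x := fun x => Subgroup.mem_center_iff.1 hw x
  set c := w * a⁻¹ * a⁻¹ with hc
  have hac : a * c * a⁻¹ = c := by
    rw [hc, ← mul_assoc, ← mul_assoc, hwc a]; group
  have hbc : b * c * b⁻¹ = c⁻¹ := by
    calc b * c * b⁻¹ = (b * w * b⁻¹) * (b * a * b⁻¹)⁻¹ * (b * a * b⁻¹)⁻¹ := by rw [hc]; group
      _ = w * (w * a⁻¹)⁻¹ * (w * a⁻¹)⁻¹ := by rw [hwc b, mul_inv_cancel_right, hwdef, mul_inv_cancel_right]
      _ = w * a * (w⁻¹ * a) * w⁻¹ := by group
      _ = w * a * (a * w⁻¹) * w⁻¹ := by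
        rw [show w⁻¹ * a = a * w⁻¹ from ((Commute.inv_right (hwc a : Commute a w)).eq).symm]
      _ = w * (a * a) * (w⁻¹ * w⁻¹) := by group
      _ = (a * a) * w * (w⁻¹ * w⁻¹) := by rw [hwc (a * a)]
      _ = c⁻¹ := by
        simp only [hc, mul_inv_rev, inv_inv, ← mul_assoc, mul_inv_cancel_right]
  let C := Subgroup.zpowers c
  have hgen : ∀ H : Subgroup S, a ∈ H → b ∈ H → Subgroup.center S ≤ H → H = ⊤ := by
    intro H haH hbH hZH
    rw [eq_top_iff]
    intro x _
    obtain ⟨y, hy, hxy⟩ : ∃ y ∈ H, f x = f y := by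
      cases hfx : f x with
      | a t => exact ⟨a ^ t.val, H.pow_mem haH _, by rw [map_pow, hfa, QuaternionGroup.a_one_pow, ZMod.natCast_zmod_val]⟩
      | xa t =>
        exact ⟨b * a ^ t.val, H.mul_mem hbH (H.pow_mem haH _), by
          rw [map_mul, map_pow, hfa, hfb, QuaternionGroup.a_one_pow, ZMod.natCast_zmod_val, QuaternionGroup.xa_mul_a, zero_add]⟩
    have : y⁻¹ * x ∈ H := hZH (hDle (hker _ (by rw [map_mul, map_inv, hxy, inv_mul_cancel])))
    have := H.mul_mem hy this
    rwa [mul_inv_cancel_left] at this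
  have hmapC : ∀ g, g * c * g⁻¹ ∈ C → g ∈ Subgroup.normalizer (C : Set S) := fun g hg => by
    rw [Subgroup.mem_normalizer_iff_map_conj_eq]
    refine Subgroup.eq_of_le_of_card_ge ?_ (Subgroup.card_map_of_injective (MulAut.conj g).injective).ge
    rw [MonoidHom.map_zpowers, Subgroup.zpowers_le]
    exact hg
  haveI hCn : C.Normal := Subgroup.normalizer_eq_top_iff.1 (hgen _ (hmapC a (by rw [hac]; exact Subgroup.mem_zpowers c))
    (hmapC b (by rw [hbc]; exact Subgroup.inv_mem _ (Subgroup.mem_zpowers c)))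
    (fun z hz => hmapC z (by rw [← Subgroup.mem_center_iff.1 hz c, mul_inv_cancel_right]; exact Subgroup.mem_zpowers c)))
  have hab : (QuotientGroup.mk (b * a) : S ⧸ C) = QuotientGroup.mk (a * b) := by
    refine (QuotientGroup.eq.2 ?_).symm
    have : (a * b)⁻¹ * (b * a) = b⁻¹ * (a⁻¹ * (b * a * b⁻¹ * a) * a⁻¹) * b := by group
    rw [this, ← hwdef, show a⁻¹ * w * a⁻¹ = w * a⁻¹ * a⁻¹ by rw [hwc a⁻¹], ← hc]
    simpa using hCn.conj_mem c (Subgroup.mem_zpowers c) b⁻¹
  let q := QuotientGroup.mk' C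
  have hcen : ∀ x, x = a ∨ x = b → q x ∈ Subgroup.center (S ⧸ C) := by
    intro x hx
    rw [Subgroup.mem_center_iff]
    intro y
    obtain ⟨y, rfl⟩ := QuotientGroup.mk'_surjective C y
    have hH : (Subgroup.centralizer {q x}).comap q = ⊤ := by
      refine hgen _ ?_ ?_ (fun z hz => ?_)
      · rw [Subgroup.mem_comap, Subgroup.mem_centralizer_singleton_iff]
        rcases hx with rfl | rfl
        · rfl
        · exact ((map_mul q a x).symm.trans (hab.symm : q (a * x) = q (x * a))).trans (map_mul q x a)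
      · rw [Subgroup.mem_comap, Subgroup.mem_centralizer_singleton_iff]
        rcases hx with rfl | rfl
        · exact ((map_mul q b x).symm.trans (hab : q (b * x) = q (x * b))).trans (map_mul q x b)
        · rfl
      · rw [Subgroup.mem_comap, Subgroup.mem_centralizer_singleton_iff, ← map_mul, ← map_mul,
          Subgroup.mem_center_iff.1 hz x]
    have := hH ▸ Subgroup.mem_top y
    rw [Subgroup.mem_comap, Subgroup.mem_centralizer_singleton_iff] at this
    exact this
  have hle : commutator S ≤ C := by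
    haveI : IsMulCommutative (S ⧸ C) := ⟨⟨fun x y => by
      obtain ⟨x, rfl⟩ := QuotientGroup.mk'_surjective C x
      have hH : (Subgroup.center (S ⧸ C)).comap q = ⊤ := hgen _ (hcen a (Or.inl rfl)) (hcen b (Or.inr rfl))
        (fun z hz => Subgroup.mem_center_iff.2 fun t => by
          obtain ⟨t, rfl⟩ := QuotientGroup.mk'_surjective C t
          rw [← map_mul, ← map_mul, Subgroup.mem_center_iff.1 hz t])
      exact (Subgroup.mem_center_iff.1 (show q x ∈ Subgroup.center (S ⧸ C) from
        Subgroup.mem_comap.1 (hH ▸ Subgroup.mem_top x)) y).symm⟩⟩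
    refine Subgroup.commutator_le.2 fun x _ y _ => (QuotientGroup.eq_one_iff _).1 ?_
    show q ⁅x, y⁆ = 1
    rw [map_commutatorElement]
    exact commutatorElement_eq_one_iff_mul_comm.2 (IsMulCommutative.is_comm.comm _ _)
  refine ⟨commutator S, fun h => hnc ⟨⟨fun x y => ?_⟩⟩, ?_, inferInstance⟩
  · obtain ⟨x, rfl⟩ := QuotientGroup.mk_surjective x
    obtain ⟨y, rfl⟩ := QuotientGroup.mk_surjective y
    have : ⁅x, y⁆ ∈ commutator S := Subgroup.commutator_mem_commutator (Subgroup.mem_top x) (Subgroup.mem_top y)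
    rw [h, Subgroup.mem_bot, commutatorElement_eq_one_iff_mul_comm] at this
    rw [← QuotientGroup.mk_mul, ← QuotientGroup.mk_mul, this]
  · exact isCyclic_of_injective (Subgroup.inclusion hle) (Subgroup.inclusion_injective hle)

end Cfsg.Agent.S3202
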