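import Cfsg.Statements.S3203
import Cfsg.Agent.Lib.Small.SylowInside
-- import your own Cfsg.Agent.* helpers here

set_option autoImplicit false
open Cfsg

namespace Cfsg.Agent.S3203

/-- Let S be a Sylow 2-subgroup of a finite group G having exactly two subgroups A ≠ B that are maximal among its elementary abelian subgroups, with S = AB. Then A and B are each weakly closed in S with respect to G, and the normalizer of S normalizes both A and B. -/
theorem result {G : Type*} [Group G] [Finite G] (S : Sylow 2 G)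
    (A B : Subgroup ↥(S : Subgroup G)) (hAB : A ≠ B)
    (hA : Cfsg.IsElementaryAbelian 2 A ∧ ∀ C : Subgroup ↥(S : Subgroup G), Cfsg.IsElementaryAbelian 2 C → A ≤ C → C = A)
    (hB : Cfsg.IsElementaryAbelian 2 B ∧ ∀ C : Subgroup ↥(S : Subgroup G), Cfsg.IsElementaryAbelian 2 C → B ≤ C → C = B)
    (honly : ∀ C : Subgroup ↥(S : Subgroup G), Cfsg.IsElementaryAbelian 2 C →
      (∀ D : Subgroup ↥(S : Subgroup G), Cfsg.IsElementaryAbelian 2 D → C ≤ D → D = C) → C = A ∨ C = B)
    (hprod : ∀ s : ↥(S : Subgroup G), ∃ a ∈ A, ∃ b ∈ B, a * b = s)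
    (A' B' : Subgroup G) (hA' : A' = A.map (S : Subgroup G).subtype) (hB' : B' = B.map (S : Subgroup G).subtype) :
    Cfsg.IsWeaklyClosed A' (S : Subgroup G) ∧ Cfsg.IsWeaklyClosed B' (S : Subgroup G) ∧
      Subgroup.normalizer ((S : Subgroup G) : Set G) ≤ Subgroup.normalizer (A' : Set G) ⊓ Subgroup.normalizer (B' : Set G) := by
  classical
  have : Fact (Nat.Prime 2) := ⟨Nat.prime_two⟩
  obtain ⟨Φ, hΦ⟩ : ∃ Φ : Subgroup G → G → Subgroup G, ∀ X g, Φ X g = X.map (MulAut.conj g).toMonoidHom :=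
    ⟨_, fun _ _ => rfl⟩
  have cmem : ∀ (X : Subgroup G) (g u : G), u ∈ Φ X g ↔ g⁻¹ * u * g ∈ X := by
    intro X g u
    rw [hΦ]
    constructor
    · rintro ⟨v, hv, rfl⟩
      show g⁻¹ * (g * v * g⁻¹) * g ∈ X
      rwa [show g⁻¹ * (g * v * g⁻¹) * g = v by group]
    · intro h
      exact ⟨_, h, show g * (g⁻¹ * u * g) * g⁻¹ = u by group⟩
  have cone : ∀ X : Subgroup G, Φ X 1 = X := fun X => by ext u; rw [cmem]; simp
  have cmul : ∀ (X : Subgroup G) (g k : G), Φ (Φ X g) k = Φ X (k * g) := by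
    intro X g k
    ext u
    rw [cmem, cmem, cmem, show g⁻¹ * (k⁻¹ * u * k) * g = (k * g)⁻¹ * u * (k * g) by group]
  have cmono : ∀ (X Y : Subgroup G) (g : G), X ≤ Y → Φ X g ≤ Φ Y g := fun X Y g h u hu => by
    rw [cmem] at hu ⊢; exact h hu
  have ccard : ∀ (X : Subgroup G) (g : G), Nat.card ↥(Φ X g) = Nat.card X := fun X g => by
    rw [hΦ]; exact Subgroup.card_map_of_injective (MulAut.conj g).injective
  have cback : ∀ (X Y : Subgroup G) (g : G), Φ X g = Y → Φ Y g⁻¹ = X := by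
    rintro X _ g rfl; rw [cmul, inv_mul_cancel, cone]
  have cnorm : ∀ (X : Subgroup G) (g : G), g ∈ Subgroup.normalizer (X : Set G) ↔ Φ X g = X := by
    intro X g
    constructor
    · intro hg
      ext u
      rw [cmem]
      have := Subgroup.mem_set_normalizer_iff.1 hg (g⁻¹ * u * g)
      rw [show g * (g⁻¹ * u * g) * g⁻¹ = u by group] at this
      exact this
    · intro h
      rw [Subgroup.mem_set_normalizer_iff]
      intro u
      have := cmem X g (g * u * g⁻¹)
      rw [h, show g⁻¹ * (g * u * g⁻¹) * g = u by group] at this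
      exact this.symm
  have hEcomm : ∀ X : Subgroup G, Cfsg.IsElementaryAbelian 2 X → ∀ u ∈ X, ∀ v ∈ X, u * v = v * u :=
    fun X hX u hu v hv => congrArg Subtype.val (hX.1.is_comm.comm (⟨u, hu⟩ : X) ⟨v, hv⟩)
  have hEconj : ∀ (X : Subgroup G) (g : G), Cfsg.IsElementaryAbelian 2 X → Cfsg.IsElementaryAbelian 2 (Φ X g) := by
    intro X g hX
    refine ⟨⟨⟨fun u v => Subtype.ext ?_⟩⟩, fun u hu => ?_⟩
    · have hu := (cmem X g u).1 u.2
      have hv := (cmem X g v).1 v.2
      have := hEcomm X hX _ hu _ hv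
      show (u : G) * v = v * u
      calc (u : G) * v = g * (g⁻¹ * u * g * (g⁻¹ * v * g)) * g⁻¹ := by group
        _ = g * (g⁻¹ * v * g * (g⁻¹ * u * g)) * g⁻¹ := by rw [this]
        _ = v * u := by group
    · have := hX.2 _ ((cmem X g u).1 hu)
      rw [pow_two] at this ⊢
      calc u * u = g * (g⁻¹ * u * g * (g⁻¹ * u * g)) * g⁻¹ := by group
        _ = 1 := by rw [this]; group
  -- transfer between subgroups of `S` and subgroups of `G` contained in `S`
  have hEsub : ∀ X : Subgroup G, Cfsg.IsElementaryAbelian 2 X →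
      Cfsg.IsElementaryAbelian 2 (X.subgroupOf (S : Subgroup G)) := fun X hX =>
    ⟨⟨⟨fun u v => Subtype.ext (Subtype.ext (hEcomm X hX _ u.2 _ v.2))⟩⟩,
      fun u hu => Subtype.ext (hX.2 _ hu)⟩
  have hEmap : ∀ X : Subgroup ↥(S : Subgroup G), Cfsg.IsElementaryAbelian 2 X →
      Cfsg.IsElementaryAbelian 2 (X.map (S : Subgroup G).subtype) := by
    intro X hX
    refine ⟨⟨⟨?_⟩⟩, ?_⟩
    · rintro ⟨_, u, hu, rfl⟩ ⟨_, v, hv, rfl⟩
      apply Subtype.ext
      have := congrArg Subtype.val (hX.1.is_comm.comm (⟨u, hu⟩ : X) ⟨v, hv⟩)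
      exact congrArg (fun w : ↥(S : Subgroup G) => (w : G)) this
    · rintro _ ⟨u, hu, rfl⟩
      rw [← map_pow, hX.2 u hu, map_one]
  have hAe : Cfsg.IsElementaryAbelian 2 A' := hA' ▸ hEmap A hA.1
  have hBe : Cfsg.IsElementaryAbelian 2 B' := hB' ▸ hEmap B hB.1
  have hA'S : A' ≤ (S : Subgroup G) := hA' ▸ Subgroup.map_subtype_le A
  have hB'S : B' ≤ (S : Subgroup G) := hB' ▸ Subgroup.map_subtype_le B
  have hAs : A'.subgroupOf (S : Subgroup G) = A := by
    rw [hA', Subgroup.subgroupOf, Subgroup.comap_map_eq_self_of_injective (S : Subgroup G).subtype_injective]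
  have hBs : B'.subgroupOf (S : Subgroup G) = B := by
    rw [hB', Subgroup.subgroupOf, Subgroup.comap_map_eq_self_of_injective (S : Subgroup G).subtype_injective]
  have hmaxA : ∀ E : Subgroup G, Cfsg.IsElementaryAbelian 2 E → E ≤ (S : Subgroup G) → A' ≤ E → E = A' := by
    intro E hE hES hle
    rw [← Subgroup.map_subgroupOf_eq_of_le hES, hA', hA.2 _ (hEsub E hE)]
    exact hAs ▸ Subgroup.comap_mono hle
  have hmaxB : ∀ E : Subgroup G, Cfsg.IsElementaryAbelian 2 E → E ≤ (S : Subgroup G) → B' ≤ E → E = B' := by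
    intro E hE hES hle
    rw [← Subgroup.map_subgroupOf_eq_of_le hES, hB', hB.2 _ (hEsub E hE)]
    exact hBs ▸ Subgroup.comap_mono hle
  have hcover : ∀ E : Subgroup G, Cfsg.IsElementaryAbelian 2 E → E ≤ (S : Subgroup G) → E ≤ A' ∨ E ≤ B' := by
    intro E hE hES
    obtain ⟨C, ⟨hC1, hC2⟩, hCmax⟩ := Set.Finite.exists_maximal
      (s := {C : Subgroup ↥(S : Subgroup G) | Cfsg.IsElementaryAbelian 2 C ∧ E.subgroupOf (S : Subgroup G) ≤ C})
      (Set.toFinite _) ⟨_, hEsub E hE, le_rfl⟩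
    have hCm : ∀ D, Cfsg.IsElementaryAbelian 2 D → C ≤ D → D = C := fun D hD hCD =>
      le_antisymm (hCmax ⟨hD, hC2.trans hCD⟩ hCD) hCD
    rw [← Subgroup.map_subgroupOf_eq_of_le hES, hA', hB']
    rcases honly C hC1 hCm with rfl | rfl
    · exact Or.inl (Subgroup.map_mono hC2)
    · exact Or.inr (Subgroup.map_mono hC2)
  have hA'B' : A' ≠ B' := fun h => hAB (by rw [← hAs, h, hBs])
  have hstep : ∀ g : G, g ∈ Subgroup.normalizer ((S : Subgroup G) : Set G) →
      (Φ A' g = A' ∨ Φ A' g = B') ∧ (Φ B' g = A' ∨ Φ B' g = B') := by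
    intro g hg
    have hgS := (cnorm _ g).1 hg
    have hgS' := (cnorm _ _).1 (Subgroup.inv_mem _ hg)
    have hin : ∀ X : Subgroup G, X ≤ (S : Subgroup G) → Φ X g ≤ (S : Subgroup G) :=
      fun X hX => (cmono X _ g hX).trans hgS.le
    have hin' : ∀ X : Subgroup G, X ≤ (S : Subgroup G) → Φ X g⁻¹ ≤ (S : Subgroup G) :=
      fun X hX => (cmono X _ g⁻¹ hX).trans hgS'.le
    have main : ∀ X : Subgroup G, (X = A' ∨ X = B') → (Φ X g = A' ∨ Φ X g = B') := by
      intro X hX
      have hXe : Cfsg.IsElementaryAbelian 2 X ∧ X ≤ (S : Subgroup G) ∧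
          ∀ E : Subgroup G, Cfsg.IsElementaryAbelian 2 E → E ≤ (S : Subgroup G) → X ≤ E → E = X := by
        rcases hX with rfl | rfl
        · exact ⟨hAe, hA'S, hmaxA⟩
        · exact ⟨hBe, hB'S, hmaxB⟩
      have hback : ∀ Y : Subgroup G, Cfsg.IsElementaryAbelian 2 Y → Y ≤ (S : Subgroup G) →
          Φ X g ≤ Y → Φ X g = Y := by
        intro Y hY hYS hle
        have h1 : X ≤ Φ Y g⁻¹ := by
          have := cmono _ _ g⁻¹ hle
          rwa [cmul, inv_mul_cancel, cone] at this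
        have h2 := hXe.2.2 _ (hEconj Y g⁻¹ hY) (hin' Y hYS) h1
        rw [← h2, cmul, mul_inv_cancel, cone]
      rcases hcover _ (hEconj X g hXe.1) (hin X hXe.2.1) with h | h
      · exact Or.inl (hback A' hAe hA'S h)
      · exact Or.inr (hback B' hBe hB'S h)
    exact ⟨main A' (Or.inl rfl), main B' (Or.inr rfl)⟩
  have noswap : ∀ g : G, g ∈ Subgroup.normalizer ((S : Subgroup G) : Set G) → Φ A' g = A' ∧ Φ B' g = B' := by
    have hS : ∀ s ∈ (S : Subgroup G), Φ A' s = A' := by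
      intro s hs
      obtain ⟨a, ha, b, hb, hab⟩ := hprod ⟨s, hs⟩
      have hb' : (b : G) ∈ B' := hB' ▸ ⟨b, hb, rfl⟩
      have ha' : (a : G) ∈ A' := hA' ▸ ⟨a, ha, rfl⟩
      have hbB : Φ B' (b : G) = B' := (cnorm _ _).1 (Subgroup.le_normalizer hb')
      have haA : Φ A' (a : G) = A' := (cnorm _ _).1 (Subgroup.le_normalizer ha')
      rcases (hstep (b : G) (Subgroup.le_normalizer b.2)).1 with h | h
      · have hs' : (a : G) * b = s := congrArg Subtype.val hab
        rw [← hs', ← cmul, h, haA]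
      · exfalso
        apply hA'B'
        rw [← cback _ _ _ h, cback _ _ _ hbB]
    intro g hg
    have hA1 : Φ A' g = A' := by
      rcases (hstep g hg).1 with h | h
      · exact h
      exfalso
      have hgB : Φ B' g = A' := by
        rcases (hstep g hg).2 with h' | h'
        · exact h'
        · exact absurd ((cback _ _ _ h).symm.trans (cback _ _ _ h')) hA'B'
      have hpow : ∀ j : ℕ, Φ A' (g ^ (2 * j + 1)) = B' := by
        intro j
        induction j with
        | zero => simpa using h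
        | succ j ih =>
          rw [show 2 * (j + 1) + 1 = 2 + (2 * j + 1) by ring, pow_add, ← cmul, ih, pow_two, ← cmul, hgB, h]
      obtain ⟨e, o, ho, heo⟩ := Nat.exists_eq_pow_mul_and_not_dvd (orderOf_pos g).ne' 2 (by norm_num)
      obtain ⟨j, hj⟩ : Odd o := Nat.odd_iff.2 (Nat.two_dvd_ne_zero.1 ho)
      have hu : IsPGroup 2 (Subgroup.zpowers (g ^ o)) := by
        refine IsPGroup.of_card (n := e) ?_
        rw [Nat.card_zpowers, orderOf_pow_of_dvd (by omega) (heo ▸ dvd_mul_left o _), heo]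
        exact Nat.mul_div_cancel _ (by omega)
      have hmem : g ^ o ∈ (S : Subgroup G) := by
        have h1 : g ^ o ∈ Subgroup.zpowers (g ^ o) ⊓ Subgroup.normalizer ((S : Subgroup G) : Set G) :=
          ⟨Subgroup.mem_zpowers _, Subgroup.pow_mem _ hg _⟩
        exact ((hu.inf_normalizer_sylow S).le h1).2
      have := hS _ hmem
      rw [hj, hpow j] at this
      exact hA'B' this.symm
    refine ⟨hA1, ?_⟩
    rcases (hstep g hg).2 with h | h
    · exact absurd ((cback _ _ _ hA1).symm.trans (cback _ _ _ h)) hA'B'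
    · exact h
  have wc : ∀ X Y : Subgroup G, Cfsg.IsElementaryAbelian 2 X → X ≤ (S : Subgroup G) →
      Cfsg.IsElementaryAbelian 2 Y → Y ≤ (S : Subgroup G) → X ≠ Y →
      (∀ E : Subgroup G, Cfsg.IsElementaryAbelian 2 E → E ≤ (S : Subgroup G) → X ≤ E → E = X) →
      (∀ E : Subgroup G, Cfsg.IsElementaryAbelian 2 E → E ≤ (S : Subgroup G) → E ≤ X ∨ E ≤ Y) →
      (∀ g ∈ Subgroup.normalizer ((S : Subgroup G) : Set G), Φ X g = X ∧ Φ Y g = Y) →
      Cfsg.IsWeaklyClosed X (S : Subgroup G) := by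
    intro X Y hX hXS hY hYS hne hXmax hcov hfix
    refine ⟨hXS, fun g hg => ?_⟩
    rw [← hΦ] at hg ⊢
    rcases hcov _ (hEconj X g hX) hg with h | h
    · exact Subgroup.eq_of_le_of_card_ge h (ccard X g).ge
    exfalso
    have hSX : (S : Subgroup G) ≤ Subgroup.normalizer (X : Set G) := fun s hs =>
      (cnorm _ _).2 (hfix s (Subgroup.le_normalizer hs)).1
    have hSY : (S : Subgroup G) ≤ Subgroup.normalizer (Y : Set G) := fun s hs =>
      (cnorm _ _).2 (hfix s (Subgroup.le_normalizer hs)).2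
    have hTN : ((g • S : Sylow 2 G) : Subgroup G) ≤ Subgroup.normalizer ((Φ X g : Subgroup G) : Set G) := by
      intro t ht
      rw [Cfsg.Agent.Small.sylow_smul_mem_iff] at ht
      rw [cnorm, cmul]
      have := (cnorm _ _).1 (hSX ht)
      conv_rhs => rw [← this, cmul]
      congr 1
      group
    have hYN : Y ≤ Subgroup.normalizer ((Φ X g : Subgroup G) : Set G) := by
      refine le_trans (fun y hy => ?_) (Subgroup.centralizer_le_normalizer _)
      rw [Subgroup.mem_centralizer_iff]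
      exact fun u hu => hEcomm Y hY u (h hu) y hy
    obtain ⟨k, hk, hkT⟩ := Cfsg.Agent.Small.exists_smul_sylow_ge_inside Y (S.2.to_le hYS) hYN (g • S) hTN
    obtain ⟨z, hz⟩ : ∃ z, z = g⁻¹ * k⁻¹ := ⟨_, rfl⟩
    have hYz : Φ Y z ≤ (S : Subgroup G) := by
      intro u hu
      rw [cmem] at hu
      have h1 := hkT hu
      rw [Cfsg.Agent.Small.sylow_smul_mem_iff, Cfsg.Agent.Small.sylow_smul_mem_iff] at h1
      rwa [hz, show g⁻¹ * (k⁻¹ * ((g⁻¹ * k⁻¹)⁻¹ * u * (g⁻¹ * k⁻¹)) * k) * g = u by group] at h1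
    have hXz : X ≤ Φ Y z := by
      have h1 : Φ (Φ X g) k⁻¹ = Φ X g := (cnorm _ _).1 (Subgroup.inv_mem _ hk)
      have h2 : Φ (Φ X g) z = X := by
        rw [hz, ← cmul, h1, cmul, inv_mul_cancel, cone]
      exact h2.ge.trans (cmono _ _ z h)
    have hYzX : Φ Y z = X := hXmax _ (hEconj Y z hY) hYz hXz
    have hXgY : Φ X g = Y := Subgroup.eq_of_le_of_card_ge h (by rw [ccard X g, ← hYzX, ccard Y z])
    -- two Sylow subgroups in the normaliser of `Y`
    rw [hXgY] at hTN
    obtain ⟨w, hw, hwS⟩ := Cfsg.Agent.Small.exists_smul_sylow_ge_inside (S : Subgroup G) S.2 hSY (g • S) hTN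
    have hTS : w • g • S = S := by
      refine Sylow.ext (Subgroup.eq_of_le_of_card_ge hwS ?_).symm
      rw [Sylow.card_eq_multiplicity, Sylow.card_eq_multiplicity]
    have hn : w * g ∈ Subgroup.normalizer ((S : Subgroup G) : Set G) := by
      rw [smul_smul] at hTS
      exact Sylow.smul_eq_iff_mem_normalizer.1 hTS
    have h3 := (hfix _ hn).1
    rw [← cmul, hXgY, (cnorm _ _).1 hw] at h3
    exact hne h3.symm
  refine ⟨wc A' B' hAe hA'S hBe hB'S hA'B' hmaxA hcover noswap,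
    wc B' A' hBe hB'S hAe hA'S hA'B'.symm hmaxB (fun E hE hES => (hcover E hE hES).symm)
      (fun g hg => (noswap g hg).symm), ?_⟩
  intro g hg
  exact ⟨(cnorm _ _).2 (noswap g hg).1, (cnorm _ _).2 (noswap g hg).2⟩

end Cfsg.Agent.S3203
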