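import Cfsg.Statements.S3206
import Cfsg.Agent.Lib.Lead.JankoRee.Main

set_option autoImplicit false
open Cfsg

namespace Cfsg.Agent.S3206

/-- Let G be a non-abelian finite simple group with abelian Sylow 2-subgroups, and let t be an involution of G whose centralizer is a maximal subgroup of G and is the direct product of the subgroup generated by t with a subgroup E having a normal subgroup isomorphic to PSL(2, q), q odd and greater than 3, with trivial centralizer in E. Then every finite perfect group having a central 2-subgroup with quotient isomorphic to G has that central subgroup trivial (G has no nontrivial perfect central extension by a 2-group), and every automorphism of G of 2-power order that fixes every element of some Sylow 2-subgroup of G is inner. -/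
theorem result {G : Type*} [Group G] [Finite G] [IsSimpleGroup G]
    (hG : ¬ IsMulCommutative G) (hab : ∀ S : Sylow 2 G, IsMulCommutative ↥(S : Subgroup G))
    (t : G) (ht : orderOf t = 2) (hmax : IsCoatom (Subgroup.centralizer ({t} : Set G)))
    (E : Subgroup G) (hE : Cfsg.IsInternalDirectProduct (Subgroup.zpowers t) E (Subgroup.centralizer ({t} : Set G)))
    {F : Type*} [Field F] [Fintype F] (hFo : Odd (Fintype.card F)) (hF3 : 3 < Fintype.card F)
    (N : Subgroup ↥E) [N.Normal] (hN : Nonempty (↥N ≃* Matrix.ProjectiveSpecialLinearGroup (Fin 2) F))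
    (hNc : Subgroup.centralizer (N : Set ↥E) = ⊥) :
    (∀ (L : Type) (_ : Group L) (_ : Finite L) (Z : Subgroup L) (_ : Z.Normal), commutator L = ⊤ → Z ≤ Subgroup.center L →
        IsPGroup 2 ↥Z → Nonempty (L ⧸ Z ≃* G) → Z = ⊥) ∧
    (∀ (φ : G ≃* G) (k : ℕ), φ ^ (2 ^ k) = 1 → (∃ S : Sylow 2 G, ∀ s ∈ (S : Subgroup G), φ s = s) →
        ∃ g : G, ∀ x : G, φ x = g * x * g⁻¹) := by
  classical
  haveI : Fact (Nat.Prime 2) := ⟨Nat.prime_two⟩
  obtain ⟨e⟩ := hN
  let mk : ∀ (S : Sylow 2 G), t ∈ (S : Subgroup G) → Cfsg.Agent.Lead.JankoRee.RCtx G F := fun S htS =>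
    { hG := hG
      hab := hab
      t := t
      ht := ht
      hne := hmax.1
      E := E
      hE := hE
      hFo := hFo
      hF3 := hF3.le
      N := N.map E.subtype
      N_le := Subgroup.map_subtype_le _
      N_conj := by
        rintro x hx _ ⟨n, hn, rfl⟩
        exact ⟨⟨x, hx⟩ * n * ⟨x, hx⟩⁻¹, Subgroup.Normal.conj_mem ‹N.Normal› n hn _, rfl⟩
      iso := (Subgroup.equivMapOfInjective N E.subtype E.subtype_injective).symm.trans e
      faithful := by
        intro x hx h
        have hmem : (⟨x, hx⟩ : E) ∈ Subgroup.centralizer (N : Set ↥E) :=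
          Subgroup.mem_centralizer_iff.2 fun n hn => Subtype.ext (h n ⟨n, hn, rfl⟩).symm
        rw [hNc, Subgroup.mem_bot] at hmem
        exact congrArg Subtype.val hmem
      S := S
      t_mem := htS }
  have hz : IsPGroup 2 (Subgroup.zpowers t) :=
    IsPGroup.of_card (n := 1) (by rw [Nat.card_zpowers, ht, pow_one])
  obtain ⟨S0, hS0⟩ := hz.exists_le_sylow
  have htS0 : t ∈ (S0 : Subgroup G) := hS0 (Subgroup.mem_zpowers t)
  refine ⟨fun L _ _ Z hZn hperf hZc hZp hiso => ?_, fun φ k hφ hS => ?_⟩
  · obtain ⟨f⟩ := hiso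
    let σ : L →* G := f.toMonoidHom.comp (QuotientGroup.mk' Z)
    have hker : σ.ker = Z := by
      ext x
      show f (QuotientGroup.mk x) = 1 ↔ x ∈ Z
      rw [MulEquiv.map_eq_one_iff, QuotientGroup.eq_one_iff]
    rw [← hker]
    exact (mk S0 htS0).no_cover σ (f.surjective.comp (QuotientGroup.mk'_surjective Z)) hperf
      (hker.symm ▸ hZc) (by rw [hker]; exact hZp)
  · obtain ⟨S, hS⟩ := hS
    obtain ⟨g, hg⟩ := MulAction.exists_smul_eq G S0 S
    let c : MulAut G := MulAut.conj g
    have hmem : ∀ s ∈ (S0 : Subgroup G), c s ∈ (S : Subgroup G) := fun s hs => by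
      rw [← hg, Sylow.coe_subgroup_smul]
      exact Subgroup.smul_mem_pointwise_smul _ (MulAut.conj g) _ hs
    let φ' : MulAut G := c⁻¹ * φ * c
    have hpow : ∀ i : ℕ, φ' ^ i = c⁻¹ * φ ^ i * c := by
      intro i
      induction i with
      | zero => simp
      | succ i ih =>
        rw [pow_succ, pow_succ, ih]
        show c⁻¹ * φ ^ i * c * (c⁻¹ * φ * c) = _
        group
    obtain ⟨u, hu⟩ := (mk S0 htS0).inner hmax hF3 φ' k (by rw [hpow, hφ]; simp) (fun s hs => by
      show c⁻¹ (φ (c s)) = s
      rw [hS _ (hmem s hs), MulAut.inv_apply_self])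
    refine ⟨g * u * g⁻¹, fun x => ?_⟩
    have h := congrArg c (hu (g⁻¹ * x * g))
    change c (c⁻¹ (φ (c (g⁻¹ * x * g)))) = c (u * (g⁻¹ * x * g) * u⁻¹) at h
    rw [MulAut.apply_inv_self] at h
    simp only [c, MulAut.conj_apply] at h
    rw [show g * (g⁻¹ * x * g) * g⁻¹ = x by group] at h
    rw [h]
    group

end Cfsg.Agent.S3206
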