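import Cfsg.Statements.S3208
import Mathlib
-- import your own Cfsg.Agent.* helpers here

set_option autoImplicit false
open Cfsg

namespace Cfsg.Agent.S3208

/-- Let j be an involution of a finite group G, H a subgroup of G, and T a Sylow 2-subgroup of H ∩ C_G(j) containing j such that ⟨j⟩ is a characteristic subgroup of T. Then T is a Sylow 2-subgroup of H. -/
theorem result {G : Type*} [Group G] [Finite G]
    (j : G) (hj : orderOf j = 2) (H T : Subgroup G) (hT : T ≤ H ⊓ Subgroup.centralizer ({j} : Set G)) (h2 : IsPGroup 2 ↥T)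
    (hSyl : ¬ 2 ∣ T.relIndex (H ⊓ Subgroup.centralizer ({j} : Set G))) (hjT : j ∈ T)
    (hchar : ((Subgroup.zpowers j).subgroupOf T).Characteristic) :
    ¬ 2 ∣ T.relIndex H := by
  have : Fact (Nat.Prime 2) := ⟨Nat.prime_two⟩
  obtain ⟨S, hS⟩ := (h2.comap_of_injective H.subtype H.subtype_injective).exists_le_sylow
  let S' : Subgroup G := (S : Subgroup H).map H.subtype
  have hTS : T ≤ S' := fun t ht => ⟨⟨t, (hT ht).1⟩, hS ht, rfl⟩
  suffices heq : T = S' by
    rw [Subgroup.relIndex, show T.subgroupOf H = (S : Subgroup H) from ?_]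
    · exact S.not_dvd_index
    · rw [heq, Subgroup.subgroupOf, Subgroup.comap_map_eq_self_of_injective H.subtype_injective]
  by_contra hne
  have hS'p : IsPGroup 2 S' := S.2.map _
  have : Group.IsNilpotent S' := hS'p.isNilpotent
  have hlt : T.subgroupOf S' < ⊤ := by
    refine lt_top_iff_ne_top.2 fun h => hne (le_antisymm hTS ?_)
    exact Subgroup.subgroupOf_eq_top.1 h
  obtain ⟨⟨x, hxS⟩, hxN, hxT⟩ := SetLike.exists_of_lt (Group.normalizerCondition_of_isNilpotent (G := S') _ hlt)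
  rw [Subgroup.mem_set_normalizer_iff] at hxN
  have hxT' : ∀ t ∈ T, x * t * x⁻¹ ∈ T := fun t ht => (hxN ⟨t, hTS ht⟩).1 ht
  have hxH : x ∈ H := by obtain ⟨y, -, rfl⟩ := hxS; exact y.2
  let e : T ≃* T := MulEquiv.ofBijective
    (MonoidHom.mk' (fun t : T => (⟨x * t * x⁻¹, hxT' t t.2⟩ : T))
      (fun a b => Subtype.ext (by simp [mul_assoc])))
    (Finite.injective_iff_bijective.1 fun a b hab => Subtype.ext (by
      simpa using congrArg Subtype.val hab))
  have hfix := hchar.fixed e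
  have hxj : x * j * x⁻¹ ∈ Subgroup.zpowers j := by
    have : (⟨j, hjT⟩ : T) ∈ ((Subgroup.zpowers j).subgroupOf T).comap e.toMonoidHom := by
      rw [hfix]; exact Subgroup.mem_zpowers j
    exact this
  have hj2 : j * j = 1 := by rw [← pow_two, ← hj, pow_orderOf_eq_one]
  have hxc : x * j = j * x := by
    obtain ⟨k, hk⟩ := hxj
    simp only at hk
    rw [← Int.mul_ediv_add_emod k 2, _root_.zpow_add, zpow_mul, zpow_two, hj2, one_zpow, one_mul] at hk
    rcases Int.emod_two_eq_zero_or_one k with h | h <;> rw [h] at hk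
    · rw [zpow_zero, eq_comm, mul_inv_eq_one] at hk
      rw [mul_eq_left] at hk
      rw [hk, mul_one, one_mul]
    · rw [zpow_one] at hk
      exact mul_inv_eq_iff_eq_mul.1 hk.symm
  let M : Subgroup G := T ⊔ Subgroup.zpowers x
  have hMS : M ≤ S' := sup_le hTS (Subgroup.zpowers_le.2 hxS)
  have hMK : M ≤ H ⊓ Subgroup.centralizer ({j} : Set G) :=
    sup_le hT (Subgroup.zpowers_le.2 ⟨hxH, Subgroup.mem_centralizer_singleton_iff.2 hxc⟩)
  have hmul := Subgroup.relIndex_mul_relIndex T M (H ⊓ Subgroup.centralizer ({j} : Set G)) le_sup_left hMK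
  have hne1 : T.relIndex M ≠ 1 := fun h =>
    hxT (Subgroup.relIndex_eq_one.1 h (le_sup_right (a := T) (Subgroup.mem_zpowers x)))
  obtain ⟨n, hn⟩ := IsPGroup.iff_card.1 (hS'p.to_le hMS)
  have hdvd : T.relIndex M ∣ 2 ^ n := hn ▸ Subgroup.index_dvd_card _
  obtain ⟨k, -, hk⟩ := (Nat.dvd_prime_pow Nat.prime_two).1 hdvd
  rcases k with _ | k
  · exact hne1 (by simpa using hk)
  · exact hSyl (hmul ▸ Dvd.dvd.mul_right (hk ▸ dvd_pow_self 2 (Nat.succ_ne_zero k)) _)

end Cfsg.Agent.S3208
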