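import Cfsg.Statements.S3209
import Mathlib
import Cfsg.Agent.Lib.Classical.SL2FourSylow
-- import your own Cfsg.Agent.* helpers here

set_option autoImplicit false
open Cfsg

namespace Cfsg.Agent.S3209

theorem key {F : Type*} [Field F] [Fintype F] (h2 : (2 : F) ≠ 0) (a : Matrix.SpecialLinearGroup (Fin 2) F)
    (h1 : a * a ≠ 1) (h4 : (a * a) * (a * a) = 1) : (a : Matrix (Fin 2) (Fin 2) F).trace = 0 := by
  rcases Cfsg.Agent.Small.SL2C.sq_one_cases h2 h4 with h | h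
  · exact absurd (Subtype.ext h) h1
  · rw [Matrix.SpecialLinearGroup.coe_mul, Cfsg.Agent.Small.SL2C.sq_eq, sub_eq_neg_self, smul_eq_zero] at h
    refine h.resolve_right fun h0 => ?_
    have := a.2
    rw [h0, Matrix.det_zero] at this
    exact zero_ne_one this

theorem side {G : Type*} [Group G] {j : G} {F : Type*} [Field F] [Fintype F] (h2 : (2 : F) ≠ 0) (L : Subgroup G)
    (e : ↥L ≃* Matrix.SpecialLinearGroup (Fin 2) F) (hjL : j ∈ L) (hjj : j * j = 1) (hj1 : j ≠ 1) :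
    (∃ a₀ ∈ L, a₀ * a₀ = j) ∧ (∀ a ∈ L, a * a = 1 → a = 1 ∨ a = j) ∧
      (∀ a ∈ L, ∀ b ∈ L, a * a = j → b * b = j → ∃ g ∈ L, g * a * g⁻¹ = b) := by
  have hinv : ∀ a ∈ L, a * a = 1 → a = 1 ∨ a = j := fun a ha h => by
    by_cases ha1 : a = 1
    · exact Or.inl ha1
    · refine Or.inr (congrArg Subtype.val (e.injective (Cfsg.Agent.Classical.SL2Four.unique_involution h2
        (x := e ⟨a, ha⟩) (y := e ⟨j, hjL⟩) ?_ ?_ ?_ ?_)))
      · rw [← map_mul, ← map_one e]; exact congrArg e (Subtype.ext h)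
      · exact fun h' => ha1 (congrArg Subtype.val (e.map_eq_one_iff.1 h'))
      · rw [← map_mul, ← map_one e]; exact congrArg e (Subtype.ext hjj)
      · exact fun h' => hj1 (congrArg Subtype.val (e.map_eq_one_iff.1 h'))
  refine ⟨?_, hinv, ?_⟩
  · let w : Matrix.SpecialLinearGroup (Fin 2) F := ⟨!![0, 1; -1, 0], by simp [Matrix.det_fin_two]⟩
    have hw : (w : Matrix (Fin 2) (Fin 2) F) * (w : Matrix (Fin 2) (Fin 2) F) = -1 := by
      ext i k; fin_cases i <;> fin_cases k <;> simp [w, Matrix.mul_apply, Fin.sum_univ_two]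
    refine ⟨(e.symm w : G), (e.symm w).2, (hinv _ (L.mul_mem (e.symm w).2 (e.symm w).2) ?_).resolve_left fun h => ?_⟩
    · rw [← Subgroup.coe_mul, ← Subgroup.coe_mul, ← map_mul, ← map_mul]
      rw [show w * w * (w * w) = 1 from Subtype.ext (by
        rw [Matrix.SpecialLinearGroup.coe_mul, Matrix.SpecialLinearGroup.coe_mul, hw, neg_mul_neg, one_mul]
        rfl), map_one]
      rfl
    · have h' : w * w = 1 := e.symm.injective (Subtype.ext (by rw [map_mul, map_one]; exact h))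
      have h3 := congrArg Subtype.val h'
      have h4 : (-1 : Matrix (Fin 2) (Fin 2) F) = 1 := by rw [← hw]; exact h3
      have := congrFun (congrFun h4 0) 0
      simp only [Matrix.neg_apply, Matrix.one_apply_eq] at this
      exact h2 (by linear_combination -this)
  · intro a ha b hb ha2 hb2
    have htr : ∀ c (hc : c ∈ L), c * c = j → (e ⟨c, hc⟩ : Matrix (Fin 2) (Fin 2) F).trace = 0 := fun c hc h => by
      refine key h2 _ ?_ ?_
      · rw [← map_mul]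
        exact fun h' => hj1 (h.symm.trans (congrArg Subtype.val (e.map_eq_one_iff.1 h')))
      · rw [← map_mul, ← map_mul, ← map_one e]
        exact congrArg e (Subtype.ext (by simp only [Subgroup.coe_mul, h, hjj, Subgroup.coe_one]))
    obtain ⟨c, hc⟩ := isConj_iff.1 (Cfsg.Agent.Small.SL2C.isConj_of_trace
      (Cfsg.Agent.Classical.SL2Four.not_isSc_of_trace_zero h2 (htr a ha ha2))
      (Cfsg.Agent.Classical.SL2Four.not_isSc_of_trace_zero h2 (htr b hb hb2)) ((htr a ha ha2).trans (htr b hb hb2).symm)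
      (Or.inr (Cfsg.Agent.Classical.SL2Four.trace_sq_ne_four h2 (htr a ha ha2))))
    refine ⟨(e.symm c : G), (e.symm c).2, ?_⟩
    have := congrArg (fun z => ((e.symm z : L) : G)) hc
    simpa using this


/-- Let L₁ ≅ SL₂(q₁) and L₂ ≅ SL₂(q₂), q₁ and q₂ odd, be elementwise-commuting subgroups of a finite group meeting in ⟨j⟩ for an involution j. Then L₁L₂ has exactly two conjugacy classes of involutions: the central involution j, and one further class (there is an involution x ≠ j in L₁L₂, and every involution of L₁L₂ other than j is conjugate to x by an element of L₁L₂). -/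
theorem result {G : Type*} [Group G] [Finite G]
    {F₁ : Type*} [Field F₁] [Fintype F₁] {F₂ : Type*} [Field F₂] [Fintype F₂]
    (hF₁ : Odd (Fintype.card F₁)) (hF₂ : Odd (Fintype.card F₂)) (L₁ L₂ : Subgroup G)
    (e₁ : ↥L₁ ≃* Matrix.SpecialLinearGroup (Fin 2) F₁) (e₂ : ↥L₂ ≃* Matrix.SpecialLinearGroup (Fin 2) F₂)
    (hc : ∀ x ∈ L₁, ∀ y ∈ L₂, x * y = y * x) (j : G) (hj : orderOf j = 2) (hm : L₁ ⊓ L₂ = Subgroup.zpowers j) :
    ∃ x ∈ L₁ ⊔ L₂, orderOf x = 2 ∧ x ≠ j ∧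
      ∀ y ∈ L₁ ⊔ L₂, orderOf y = 2 → y = j ∨ ∃ g ∈ L₁ ⊔ L₂, g * x * g⁻¹ = y := by
  classical
  have h2₁ : (2 : F₁) ≠ 0 := Ring.two_ne_zero fun h => by
    have := FiniteField.even_card_of_char_two h
    rw [Nat.odd_iff] at hF₁
    omega
  have h2₂ : (2 : F₂) ≠ 0 := Ring.two_ne_zero fun h => by
    have := FiniteField.even_card_of_char_two h
    rw [Nat.odd_iff] at hF₂
    omega
  have hjm : j ∈ L₁ ⊓ L₂ := by rw [hm]; exact Subgroup.mem_zpowers j
  have hj1 : j ≠ 1 := fun h => by simp [h] at hj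
  have hjj : j * j = 1 := by rw [← pow_two, ← hj, pow_orderOf_eq_one]
  obtain ⟨⟨a₀, ha₀, ha₀2⟩, hinv₁, hconj₁⟩ := side h2₁ L₁ e₁ hjm.1 hjj hj1
  obtain ⟨⟨b₀, hb₀, hb₀2⟩, hinv₂, hconj₂⟩ := side h2₂ L₂ e₂ hjm.2 hjj hj1
  have hsq : ∀ a ∈ L₁, ∀ b ∈ L₂, (a * b) * (a * b) = (a * a) * (b * b) := fun a ha b hb =>
    Commute.mul_mul_mul_comm ((hc a ha b hb).symm) a b
  have hmem12 : ∀ x, x ∈ L₁ → x ∈ L₂ → x = 1 ∨ x = j := fun x h1 h2 => hinv₁ x h1 (by
    have : x ∈ Subgroup.zpowers j := hm ▸ ⟨h1, h2⟩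
    obtain ⟨k, rfl⟩ := this
    show j ^ k * j ^ k = 1
    rw [← (Commute.refl j).mul_zpow, hjj, one_zpow])
  refine ⟨a₀ * b₀, Subgroup.mul_mem_sup ha₀ hb₀, orderOf_eq_prime ?_ ?_, ?_, fun y hy hy2 => ?_⟩
  · rw [pow_two, hsq a₀ ha₀ b₀ hb₀, ha₀2, hb₀2, hjj]
  · intro h
    have : a₀ ∈ L₂ := eq_inv_of_mul_eq_one_left h ▸ L₂.inv_mem hb₀
    rcases hmem12 a₀ ha₀ this with h' | h' <;> rw [h'] at ha₀2
    · rw [one_mul] at ha₀2; exact hj1 ha₀2.symm
    · rw [hjj] at ha₀2; exact hj1 ha₀2.symm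
  · intro h
    have hb : b₀ = a₀⁻¹ * j := by rw [← h, inv_mul_cancel_left]
    have : b₀ ∈ L₁ := hb ▸ L₁.mul_mem (L₁.inv_mem ha₀) hjm.1
    rcases hmem12 b₀ this hb₀ with h' | h' <;> rw [h'] at hb₀2
    · rw [one_mul] at hb₀2; exact hj1 hb₀2.symm
    · rw [hjj] at hb₀2; exact hj1 hb₀2.symm
  · let S : Subgroup G :=
      { carrier := {z | ∃ a ∈ L₁, ∃ b ∈ L₂, a * b = z}
        one_mem' := ⟨1, L₁.one_mem, 1, L₂.one_mem, one_mul 1⟩
        mul_mem' := by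
          rintro _ _ ⟨a, ha, b, hb, rfl⟩ ⟨a', ha', b', hb', rfl⟩
          exact ⟨a * a', L₁.mul_mem ha ha', b * b', L₂.mul_mem hb hb',
            (Commute.mul_mul_mul_comm ((hc a' ha' b hb).symm) a b').symm⟩
        inv_mem' := by
          rintro _ ⟨a, ha, b, hb, rfl⟩
          exact ⟨a⁻¹, L₁.inv_mem ha, b⁻¹, L₂.inv_mem hb, by rw [mul_inv_rev, hc a⁻¹ (L₁.inv_mem ha) b⁻¹ (L₂.inv_mem hb)]⟩ }
    obtain ⟨a, ha, b, hb, rfl⟩ := (sup_le (fun a ha => ⟨a, ha, 1, L₂.one_mem, mul_one a⟩)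
      (fun b hb => ⟨1, L₁.one_mem, b, hb, one_mul b⟩) : L₁ ⊔ L₂ ≤ S) hy
    have h1 : (a * a) * (b * b) = 1 := by rw [← hsq a ha b hb, ← pow_two, ← hy2, pow_orderOf_eq_one]
    have haa : a * a ∈ L₂ := eq_inv_of_mul_eq_one_left h1 ▸ L₂.inv_mem (L₂.mul_mem hb hb)
    rcases hmem12 (a * a) (L₁.mul_mem ha ha) haa with h' | h'
    · left
      rw [h', one_mul] at h1
      rcases hinv₁ a ha h' with rfl | rfl <;> rcases hinv₂ b hb h1 with rfl | rfl
      · simp at hy2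
      · rw [one_mul]
      · rw [mul_one]
      · rw [hjj] at hy2; simp at hy2
    · right
      have hbb : b * b = j := by
        rw [h'] at h1
        exact mul_left_cancel (h1.trans hjj.symm)
      obtain ⟨g₁, hg₁, e1⟩ := hconj₁ a₀ ha₀ a ha ha₀2 h'
      obtain ⟨g₂, hg₂, e2⟩ := hconj₂ b₀ hb₀ b hb hb₀2 hbb
      refine ⟨g₁ * g₂, Subgroup.mul_mem_sup hg₁ hg₂, ?_⟩
      have c1 : g₂ * a₀ * g₂⁻¹ = a₀ := by rw [← hc a₀ ha₀ g₂ hg₂, mul_inv_cancel_right]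
      have c2 : g₁ * b * g₁⁻¹ = b := by rw [hc g₁ hg₁ b hb, mul_inv_cancel_right]
      calc g₁ * g₂ * (a₀ * b₀) * (g₁ * g₂)⁻¹
          = g₁ * ((g₂ * a₀ * g₂⁻¹) * (g₂ * b₀ * g₂⁻¹)) * g₁⁻¹ := by group
        _ = (g₁ * a₀ * g₁⁻¹) * (g₁ * b * g₁⁻¹) := by rw [c1, e2]; group
        _ = a * b := by rw [e1, c2]

end Cfsg.Agent.S3209
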