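import Cfsg.Statements.S3210
import Mathlib
import Cfsg.Agent.Lib.Small.SL2.Classes
-- import your own Cfsg.Agent.* helpers here

set_option autoImplicit false
open Cfsg

namespace Cfsg.Agent.S3210

section SL2
variable {F : Type*} [Field F]
local notation "SLF" => Matrix.SpecialLinearGroup (Fin 2) F

/-- upper transvection -/
def up (t : F) : SLF := ⟨!![1, t; 0, 1], by simp [Matrix.det_fin_two_of]⟩

/-- lower transvection -/
def lo (t : F) : SLF := ⟨!![1, 0; t, 1], by simp [Matrix.det_fin_two_of]⟩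

theorem up_coe (t : F) : ((up t : SLF) : Matrix (Fin 2) (Fin 2) F) = !![1, t; 0, 1] := rfl

theorem lo_coe (t : F) : ((lo t : SLF) : Matrix (Fin 2) (Fin 2) F) = !![1, 0; t, 1] := rfl

theorem up_inv (t : F) : (up t : SLF)⁻¹ = up (-t) := inv_eq_of_mul_eq_one_right (Subtype.ext (by
  show ((up t : SLF) : Matrix (Fin 2) (Fin 2) F) * (up (-t) : SLF) = 1
  rw [up_coe, up_coe]; ext i j; fin_cases i <;> fin_cases j <;> simp [Matrix.mul_apply, Fin.sum_univ_two]))

theorem lo_inv (t : F) : (lo t : SLF)⁻¹ = lo (-t) := inv_eq_of_mul_eq_one_right (Subtype.ext (by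
  show ((lo t : SLF) : Matrix (Fin 2) (Fin 2) F) * (lo (-t) : SLF) = 1
  rw [lo_coe, lo_coe]; ext i j; fin_cases i <;> fin_cases j <;> simp [Matrix.mul_apply, Fin.sum_univ_two]))

/-- the three equations of commuting -/
theorem commute_iff (a b : SLF) : a * b = b * a ↔
    (a 0 1 * b 1 0 = a 1 0 * b 0 1 ∧ a 0 1 * (b 0 0 - b 1 1) = (a 0 0 - a 1 1) * b 0 1 ∧
      a 1 0 * (b 0 0 - b 1 1) = (a 0 0 - a 1 1) * b 1 0) := by
  constructor
  · intro h'
    have h : (a : Matrix (Fin 2) (Fin 2) F) * b = (b : Matrix (Fin 2) (Fin 2) F) * a := congrArg Subtype.val h'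
    have h00 := congrFun (congrFun h 0) 0
    have h01 := congrFun (congrFun h 0) 1
    have h10 := congrFun (congrFun h 1) 0
    simp only [Matrix.mul_apply, Fin.sum_univ_two] at h00 h01 h10
    exact ⟨by linear_combination h00, by linear_combination -h01, by linear_combination h10⟩
  · rintro ⟨e1, e2, e3⟩
    refine Subtype.ext (show (a : Matrix (Fin 2) (Fin 2) F) * b = (b : Matrix (Fin 2) (Fin 2) F) * a from ?_)
    ext i j
    simp only [Matrix.mul_apply, Fin.sum_univ_two]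
    fin_cases i <;> fin_cases j <;> simp only [Fin.zero_eta, Fin.mk_one]
    · linear_combination e1
    · linear_combination -e2
    · linear_combination e3
    · linear_combination -e1

theorem nonscalar_of_not_center {a : SLF} (h : a ∉ Subgroup.center SLF) : a 0 1 ≠ 0 ∨ a 1 0 ≠ 0 ∨ a 0 0 - a 1 1 ≠ 0 := by
  by_contra hc
  push Not at hc
  exact h (Subgroup.mem_center_iff.2 fun g => ((commute_iff a g).2 ⟨by rw [hc.1, hc.2.1]; simp, by rw [hc.1, hc.2.2]; simp, by rw [hc.2.1, hc.2.2]; simp⟩).symm)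

/-- commuting is transitive off the centre -/
theorem commute_trans {a b c : SLF} (ha : a ∉ Subgroup.center SLF) (h1 : a * b = b * a) (h2 : a * c = c * a) :
    b * c = c * b := by
  rw [commute_iff] at h1 h2 ⊢
  obtain ⟨p1, p2, p3⟩ := h1
  obtain ⟨q1, q2, q3⟩ := h2
  rcases nonscalar_of_not_center ha with h | h | h
  · refine ⟨mul_left_cancel₀ h ?_, mul_left_cancel₀ h ?_, mul_left_cancel₀ h ?_⟩
    · linear_combination b 0 1 * q1 - c 0 1 * p1
    · linear_combination b 0 1 * q2 - c 0 1 * p2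
    · linear_combination b 1 0 * q2 - c 1 0 * p2 + (a 0 0 - a 1 1) * (mul_left_cancel₀ h (show a 0 1 * (b 1 0 * c 0 1) = a 0 1 * (b 0 1 * c 1 0) by linear_combination c 0 1 * p1 - b 0 1 * q1))
  · refine ⟨mul_left_cancel₀ h ?_, mul_left_cancel₀ h ?_, mul_left_cancel₀ h ?_⟩
    · linear_combination b 1 0 * q1 - c 1 0 * p1
    · linear_combination b 0 1 * q3 - c 0 1 * p3 + (a 0 0 - a 1 1) * (mul_left_cancel₀ h (show a 1 0 * (b 0 1 * c 1 0) = a 1 0 * (b 1 0 * c 0 1) by linear_combination b 1 0 * q1 - c 1 0 * p1))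
    · linear_combination b 1 0 * q3 - c 1 0 * p3
  · refine ⟨mul_left_cancel₀ h ?_, mul_left_cancel₀ h ?_, mul_left_cancel₀ h ?_⟩
    · linear_combination c 0 1 * p3 - b 0 1 * q3 + a 1 0 * (mul_left_cancel₀ h (show (a 0 0 - a 1 1) * (b 0 1 * (c 0 0 - c 1 1)) = (a 0 0 - a 1 1) * ((b 0 0 - b 1 1) * c 0 1) by linear_combination (b 0 0 - b 1 1) * q2 - (c 0 0 - c 1 1) * p2))
    · linear_combination (b 0 0 - b 1 1) * q2 - (c 0 0 - c 1 1) * p2
    · linear_combination (b 0 0 - b 1 1) * q3 - (c 0 0 - c 1 1) * p3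

/-- every non-central element is moved by a transvection conjugation to a non-commuting element -/
theorem exists_conj_not_commute (h2 : (2 : F) ≠ 0) {b : SLF} (hb : b ∉ Subgroup.center SLF) :
    ∃ x : SLF, (x * b * x⁻¹) * b ≠ b * (x * b * x⁻¹) := by
  by_contra h
  push Not at h
  have hu := (commute_iff _ _).1 (h (up 1))
  have hl := (commute_iff _ _).1 (h (lo 1))
  rw [up_inv, Matrix.SpecialLinearGroup.coe_mul, Matrix.SpecialLinearGroup.coe_mul, up_coe, up_coe] at hu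
  rw [lo_inv, Matrix.SpecialLinearGroup.coe_mul, Matrix.SpecialLinearGroup.coe_mul, lo_coe, lo_coe] at hl
  simp [Matrix.mul_apply, Matrix.vecMul, dotProduct, Fin.sum_univ_two] at hu hl
  obtain ⟨u1, u2, u3⟩ := hu
  obtain ⟨l1, l2, l3⟩ := hl
  have hr : b 1 0 = 0 := by
    have : (2 : F) * (b 1 0 * b 1 0) = 0 := by linear_combination (-1 : F) * u3
    simpa [h2] using this
  have hq : b 0 1 = 0 := by
    have : (2 : F) * (b 0 1 * b 0 1) = 0 := by linear_combination l2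
    simpa [h2] using this
  rw [hr, hq] at u2
  rcases nonscalar_of_not_center hb with h' | h' | h'
  · exact h' hq
  · exact h' hr
  · exact h' (mul_self_eq_zero.1 (by linear_combination -u2))

/-- two elements, one commuting with all conjugates of the other -/
theorem central_of_commute_conj (h2 : (2 : F) ≠ 0) {a b : SLF} (hb : b ∉ Subgroup.center SLF)
    (h : ∀ x : SLF, a * (x * b * x⁻¹) = (x * b * x⁻¹) * a) : a ∈ Subgroup.center SLF := by
  by_contra ha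
  obtain ⟨x, hx⟩ := exists_conj_not_commute h2 hb
  exact hx (commute_trans ha (h x) (by simpa using h 1))

/-- a non-central element has a non-central commutator -/
theorem exists_commutator_not_central (h2 : (2 : F) ≠ 0) {b : SLF} (hb : b ∉ Subgroup.center SLF) :
    ∃ x : SLF, b⁻¹ * (x * b * x⁻¹) ∉ Subgroup.center SLF := by
  by_contra h
  push Not at h
  obtain ⟨x, hx⟩ := exists_conj_not_commute h2 hb
  apply hx
  have hc := Subgroup.mem_center_iff.1 (h x) b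
  rw [← mul_assoc, mul_inv_cancel, one_mul] at hc
  conv_rhs => rw [hc]
  group

theorem center_two (h2 : (2 : F) ≠ 0) [Fintype F] : ∀ z w : SLF, z ∈ Subgroup.center SLF → w ∈ Subgroup.center SLF →
    z ≠ 1 → w ≠ 1 → z = w := by
  intro z w hz hw hz1 hw1
  have key : ∀ y : SLF, y ∈ Subgroup.center SLF → y ≠ 1 → y 0 0 = -1 ∧ y 1 1 = -1 ∧ y 0 1 = 0 ∧ y 1 0 = 0 := by
    intro y hy hy1
    have hu := (commute_iff _ _).1 ((Subgroup.mem_center_iff.1 hy (up 1)).symm)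
    have hl := (commute_iff _ _).1 ((Subgroup.mem_center_iff.1 hy (lo 1)).symm)
    rw [up_coe] at hu
    rw [lo_coe] at hl
    simp at hu hl
    have h01 : y 0 1 = 0 := by first | exact hl.1 | exact hl.1.symm | linear_combination hl.1 | linear_combination -hl.1
    have h10 : y 1 0 = 0 := by first | exact hu.1 | exact hu.1.symm | linear_combination hu.1 | linear_combination -hu.1
    have hd : y 0 0 - y 1 1 = 0 := by first | exact hu.2 | exact hu.2.1 | exact hu.2.symm | exact hu.2.1.symm | linear_combination hu.2.1 | linear_combination -hu.2.1 | linear_combination hu.2 | linear_combination -hu.2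
    rw [sub_eq_zero] at hd
    have hdet := y.2
    rw [Matrix.det_fin_two, h01, h10, ← hd, mul_zero, sub_zero] at hdet
    rcases mul_self_eq_one_iff.1 hdet with h | h
    · exfalso
      refine hy1 (Subtype.ext ?_)
      have h' : y 1 1 = 1 := hd ▸ h
      ext i j
      fin_cases i <;> fin_cases j <;> simp [h01, h10, h, h']
    · exact ⟨h, hd ▸ h, h01, h10⟩
  obtain ⟨a1, a2, a3, a4⟩ := key z hz hz1
  obtain ⟨b1, b2, b3, b4⟩ := key w hw hw1
  refine Subtype.ext ?_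
  ext i j
  fin_cases i <;> fin_cases j <;> simp [a1, a2, a3, a4, b1, b2, b3, b4]

theorem two_lt_card [Fintype F] : 2 < Nat.card SLF := by
  rw [Cfsg.Agent.Small.SL2C.card_SL2]
  have h2 : 2 ≤ Fintype.card F := Fintype.one_lt_card
  have : 2 * 2 ≤ Fintype.card F ^ 2 := by rw [pow_two]; exact Nat.mul_le_mul h2 h2
  have : 2 * 3 ≤ Fintype.card F * (Fintype.card F ^ 2 - 1) := Nat.mul_le_mul h2 (by omega)
  omega

theorem card_inj {F₁ F₂ : Type*} [Field F₁] [Fintype F₁] [Field F₂] [Fintype F₂]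
    (h : Nat.card (Matrix.SpecialLinearGroup (Fin 2) F₁) = Nat.card (Matrix.SpecialLinearGroup (Fin 2) F₂)) :
    Fintype.card F₁ = Fintype.card F₂ := by
  rw [Cfsg.Agent.Small.SL2C.card_SL2, Cfsg.Agent.Small.SL2C.card_SL2] at h
  have key : ∀ a b : ℕ, 1 ≤ a → a < b → a * (a ^ 2 - 1) < b * (b ^ 2 - 1) := by
    intro a b ha hab
    have : a ^ 2 < b ^ 2 := Nat.pow_lt_pow_left hab two_ne_zero
    have : 1 ≤ a ^ 2 := Nat.one_le_pow _ _ ha
    exact Nat.mul_lt_mul_of_lt_of_le hab (by omega) (by omega)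
  rcases lt_trichotomy (Fintype.card F₁) (Fintype.card F₂) with hl | he | hl
  · exact absurd h (key _ _ Fintype.card_pos hl).ne
  · exact he
  · exact absurd h (key _ _ Fintype.card_pos hl).ne'

/-- projections of two commuting subgroups normalised by `L` onto a copy `L` of `SL₂` -/
theorem proj_trivial {G : Type*} [Group G] [Fintype F] (h2 : (2 : F) ≠ 0) (L K : Subgroup G) (e : ↥L ≃* SLF)
    (j : G) (hjL : j ∈ L) (hjK : j ∈ K) (hj : j ≠ 1) (hjc : ∀ x ∈ L, x * j = j * x)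
    (hc : ∀ x ∈ L, ∀ y ∈ K, x * y = y * x)
    (M M' : Subgroup G) (hM : ∀ m ∈ M, ∃ a ∈ L, ∃ b ∈ K, m = a * b) (hM' : ∀ m ∈ M', ∃ a ∈ L, ∃ b ∈ K, m = a * b)
    (hn : ∀ x ∈ L, ∀ m ∈ M', x * m * x⁻¹ ∈ M') (hcM : ∀ m ∈ M, ∀ m' ∈ M', m * m' = m' * m) :
    M ≤ K ∨ M' ≤ K := by
  by_contra h
  push Not at h
  obtain ⟨hMK, hM'K⟩ := h
  have hcen : ∀ a : L, e a ∈ Subgroup.center SLF → (a : G) ∈ K := by
    intro a ha
    by_cases ha1 : a = 1
    · rw [ha1, Subgroup.coe_one]; exact K.one_mem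
    have hjj : e ⟨j, hjL⟩ ∈ Subgroup.center SLF := Subgroup.mem_center_iff.2 fun g => by
      obtain ⟨g, rfl⟩ := e.surjective g
      rw [← map_mul, ← map_mul]
      exact congrArg e (Subtype.ext (hjc g g.2))
    have hej : e a = e ⟨j, hjL⟩ := center_two h2 _ _ ha hjj (fun hh => ha1 (e.injective (hh.trans e.map_one.symm)))
      (fun hh => hj (congrArg Subtype.val (e.injective (hh.trans e.map_one.symm))))
    rw [e.injective hej]
    exact hjK
  obtain ⟨m, hm, hmK⟩ := SetLike.not_le_iff_exists.1 hMK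
  obtain ⟨m', hm', hm'K⟩ := SetLike.not_le_iff_exists.1 hM'K
  obtain ⟨a, ha, b, hb, rfl⟩ := hM m hm
  obtain ⟨a', ha', b', hb', rfl⟩ := hM' m' hm'
  have hane : e ⟨a, ha⟩ ∉ Subgroup.center SLF := fun hh => hmK (K.mul_mem (hcen ⟨a, ha⟩ hh) hb)
  have ha'ne : e ⟨a', ha'⟩ ∉ Subgroup.center SLF := fun hh => hm'K (K.mul_mem (hcen ⟨a', ha'⟩ hh) hb')
  obtain ⟨x, hx⟩ := exists_commutator_not_central h2 ha'ne
  obtain ⟨x, rfl⟩ := e.surjective x
  have hw : (a'⁻¹ * ((x : G) * a' * (x : G)⁻¹)) ∈ M' := by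
    have h1 := M'.mul_mem (M'.inv_mem hm') (hn x x.2 _ hm')
    rw [show (a' * b')⁻¹ * ((x : G) * (a' * b') * (x : G)⁻¹) = a'⁻¹ * ((x : G) * a' * (x : G)⁻¹) by
      rw [show (x : G) * (a' * b') * (x : G)⁻¹ = ((x : G) * a' * (x : G)⁻¹) * b' by
            rw [mul_assoc (x : G), mul_assoc a', ← hc _ (L.inv_mem x.2) _ hb']; group,
          mul_inv_rev, mul_assoc, ← mul_assoc a'⁻¹, hc (a'⁻¹ * ((x : G) * a' * (x : G)⁻¹))
            (L.mul_mem (L.inv_mem ha') (L.mul_mem (L.mul_mem x.2 ha') (L.inv_mem x.2))) _ hb', inv_mul_cancel_left]] at h1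
    exact h1
  refine hane (central_of_commute_conj h2 hx fun y => ?_)
  obtain ⟨y, rfl⟩ := e.surjective y
  simp only [← map_inv, ← map_mul]
  refine congrArg e (Subtype.ext ?_)
  simp only [Subgroup.coe_mul, InvMemClass.coe_inv]
  have hwy := hn y y.2 _ hw
  have hwL : (y : G) * (a'⁻¹ * ((x : G) * a' * (x : G)⁻¹)) * (y : G)⁻¹ ∈ L :=
    L.mul_mem (L.mul_mem y.2 (L.mul_mem (L.inv_mem ha') (L.mul_mem (L.mul_mem x.2 ha') (L.inv_mem x.2)))) (L.inv_mem y.2)
  generalize (y : G) * (a'⁻¹ * ((x : G) * a' * (x : G)⁻¹)) * (y : G)⁻¹ = w at hwy hwL ⊢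
  have := hcM _ hm _ hwy
  rw [mul_assoc, ← hc w hwL b hb, ← mul_assoc, ← mul_assoc] at this
  exact mul_right_cancel this

end SL2


/-- Let G be a finite group with subgroups L₁ ≅ SL₂(q₁) and L₂ ≅ SL₂(q₂), q₁ and q₂ odd prime powers, which commute elementwise and meet in ⟨j⟩ for an involution j, and suppose L₁L₂ has index 2 in C_G(j). Then every element n of C_G(j) outside L₁L₂ either normalizes both L₁ and L₂, or conjugates L₁ onto L₂; in the second case q₁ = q₂ and there is an element n′ of C_G(j) outside L₁L₂ conjugating L₁ onto L₂ with n′² ∈ ⟨j⟩. -/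
theorem result {G : Type*} [Group G] [Finite G]
    {F₁ : Type*} [Field F₁] [Fintype F₁] {F₂ : Type*} [Field F₂] [Fintype F₂]
    (hF₁ : Odd (Fintype.card F₁)) (hF₂ : Odd (Fintype.card F₂)) (L₁ L₂ : Subgroup G)
    (e₁ : ↥L₁ ≃* Matrix.SpecialLinearGroup (Fin 2) F₁) (e₂ : ↥L₂ ≃* Matrix.SpecialLinearGroup (Fin 2) F₂)
    (hc : ∀ x ∈ L₁, ∀ y ∈ L₂, x * y = y * x) (j : G) (hj : orderOf j = 2) (hm : L₁ ⊓ L₂ = Subgroup.zpowers j)
    (hle : L₁ ⊔ L₂ ≤ Subgroup.centralizer ({j} : Set G)) (hi : (L₁ ⊔ L₂).relIndex (Subgroup.centralizer ({j} : Set G)) = 2) (n : G) (hn : n ∈ Subgroup.centralizer ({j} : Set G)) (hn' : n ∉ L₁ ⊔ L₂) :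
    (L₁.map (MulAut.conj n).toMonoidHom = L₁ ∧ L₂.map (MulAut.conj n).toMonoidHom = L₂) ∨
      (L₁.map (MulAut.conj n).toMonoidHom = L₂ ∧ Fintype.card F₁ = Fintype.card F₂ ∧
        ∃ n' ∈ Subgroup.centralizer ({j} : Set G), n' ∉ L₁ ⊔ L₂ ∧ L₁.map (MulAut.conj n').toMonoidHom = L₂ ∧ n' ^ 2 ∈ Subgroup.zpowers j) := by
  classical
  have h21 : (2 : F₁) ≠ 0 := Ring.two_ne_zero fun h => by
    haveI : Fact (Nat.Prime 2) := ⟨Nat.prime_two⟩
    exact Nat.not_even_iff_odd.2 hF₁ (even_iff_two_dvd.2 (FiniteField.even_card_of_char_two h |> Nat.dvd_of_mod_eq_zero))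
  have h22 : (2 : F₂) ≠ 0 := Ring.two_ne_zero fun h => by
    haveI : Fact (Nat.Prime 2) := ⟨Nat.prime_two⟩
    exact Nat.not_even_iff_odd.2 hF₂ (even_iff_two_dvd.2 (FiniteField.even_card_of_char_two h |> Nat.dvd_of_mod_eq_zero))
  set C := Subgroup.centralizer ({j} : Set G) with hC
  have hj1 : j ≠ 1 := fun h => by rw [h, orderOf_one] at hj; norm_num at hj
  have hjm : j ∈ L₁ ⊓ L₂ := hm ▸ Subgroup.mem_zpowers j
  have hjc : ∀ x ∈ C, x * j = j * x := fun x hx => Subgroup.mem_centralizer_singleton_iff.1 hx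
  haveI hHn : ((L₁ ⊔ L₂).subgroupOf C).Normal := Subgroup.normal_of_index_eq_two hi
  have hH : ∀ g ∈ L₁ ⊔ L₂, ∃ a ∈ L₁, ∃ b ∈ L₂, g = a * b := by
    intro g hg
    rw [sup_comm] at hg
    have hnorm : L₁ ≤ Subgroup.normalizer (L₂ : Set G) := fun x hx => Subgroup.mem_normalizer_iff.2 fun y => by
      constructor
      · intro hy; rw [hc x hx y hy, mul_inv_cancel_right]; exact hy
      · intro hy
        have := hc x⁻¹ (L₁.inv_mem hx) _ hy
        rw [show x⁻¹ * (x * y * x⁻¹) = y * x⁻¹ by group] at this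
        rw [mul_right_cancel this]
        exact hy
    rw [← SetLike.mem_coe, Subgroup.coe_mul_of_right_le_normalizer_left L₂ L₁ hnorm] at hg
    obtain ⟨b, hb, a, ha, rfl⟩ := hg
    exact ⟨a, ha, b, hb, (hc a ha b hb).symm⟩
  let φ := (MulAut.conj n).toMonoidHom
  have hφ : Function.Injective φ := (MulAut.conj n).injective
  have hconj : ∀ g ∈ L₁ ⊔ L₂, φ g ∈ L₁ ⊔ L₂ := fun g hg => hHn.conj_mem ⟨g, hle hg⟩ hg ⟨n, hn⟩
  have hconj' : ∀ g ∈ L₁ ⊔ L₂, n⁻¹ * g * n ∈ L₁ ⊔ L₂ := fun g hg => by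
    have := hHn.conj_mem ⟨g, hle hg⟩ hg ⟨n⁻¹, C.inv_mem hn⟩
    simpa [Subgroup.mem_subgroupOf] using this
  -- the images
  have hcM : ∀ m ∈ L₁.map φ, ∀ m' ∈ L₂.map φ, m * m' = m' * m := by
    rintro _ ⟨a, ha, rfl⟩ _ ⟨b, hb, rfl⟩; rw [← map_mul, ← map_mul, hc a ha b hb]
  have hdec : ∀ {L : Subgroup G}, L ≤ L₁ ⊔ L₂ → ∀ m ∈ L.map φ, ∃ a ∈ L₁, ∃ b ∈ L₂, m = a * b := by
    rintro L hL _ ⟨a, ha, rfl⟩; exact hH _ (hconj a (hL ha))
  have hnorm : ∀ {L : Subgroup G}, (L = L₁ ∨ L = L₂) → ∀ x ∈ L₁ ⊔ L₂, ∀ m ∈ L.map φ, x * m * x⁻¹ ∈ L.map φ := by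
    rintro L hL x hx _ ⟨l, hl, rfl⟩
    obtain ⟨a, ha, b, hb, hab⟩ := hH _ (hconj' x hx)
    refine ⟨(n⁻¹ * x * n) * l * (n⁻¹ * x * n)⁻¹, ?_, by simp only [φ, MulEquiv.coe_toMonoidHom, MulAut.conj_apply]; group⟩
    rw [hab]
    rcases hL with hL | hL <;> rw [hL] at hl ⊢
    · rw [show a * b * l * (a * b)⁻¹ = a * (b * l * b⁻¹) * a⁻¹ by group, ← hc l hl b hb, mul_inv_cancel_right]
      exact L₁.mul_mem (L₁.mul_mem ha hl) (L₁.inv_mem ha)
    · have hbl : b * l * b⁻¹ ∈ L₂ := L₂.mul_mem (L₂.mul_mem hb hl) (L₂.inv_mem hb)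
      rw [show a * b * l * (a * b)⁻¹ = a * (b * l * b⁻¹) * a⁻¹ by group, hc a ha _ hbl, mul_inv_cancel_right]
      exact hbl
  have hs := proj_trivial h21 L₁ L₂ e₁ j hjm.1 hjm.2 hj1 (fun x hx => hjc x (hle (Subgroup.mem_sup_left hx))) hc
    (L₁.map φ) (L₂.map φ) (hdec le_sup_left) (hdec le_sup_right) (fun x hx => hnorm (Or.inr rfl) x (Subgroup.mem_sup_left hx)) hcM
  have hs' := proj_trivial h22 L₂ L₁ e₂ j hjm.2 hjm.1 hj1 (fun x hx => hjc x (hle (Subgroup.mem_sup_right hx)))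
    (fun x hx y hy => (hc y hy x hx).symm)
    (L₁.map φ) (L₂.map φ)
    (fun m hm' => by obtain ⟨a, ha, b, hb, rfl⟩ := hdec le_sup_left m hm'; exact ⟨b, hb, a, ha, hc a ha b hb⟩)
    (fun m hm' => by obtain ⟨a, ha, b, hb, rfl⟩ := hdec le_sup_right m hm'; exact ⟨b, hb, a, ha, hc a ha b hb⟩)
    (fun x hx => hnorm (Or.inr rfl) x (Subgroup.mem_sup_right hx)) hcM
  have hcard : ∀ L : Subgroup G, Nat.card (L.map φ) = Nat.card L := fun L => Subgroup.card_map_of_injective hφ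
  have hc1 : 2 < Nat.card L₁ := by rw [Nat.card_congr e₁.toEquiv]; exact two_lt_card
  have hc2 : 2 < Nat.card L₂ := by rw [Nat.card_congr e₂.toEquiv]; exact two_lt_card
  have hmeet : ∀ L : Subgroup G, 2 < Nat.card L → ¬ (L.map φ ≤ L₁ ∧ L.map φ ≤ L₂) := fun L hL h => by
    have := Subgroup.card_le_of_le (show L.map φ ≤ L₁ ⊓ L₂ from le_inf h.1 h.2)
    rw [hcard, hm, Nat.card_zpowers, hj] at this
    omega
  rcases hs with h | h <;> rcases hs' with h' | h'
  · exact absurd ⟨h', h⟩ (hmeet L₁ hc1)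
  · right
    have e12 : Nat.card L₁ = Nat.card L₂ := le_antisymm (hcard L₁ ▸ Subgroup.card_le_of_le h) (hcard L₂ ▸ Subgroup.card_le_of_le h')
    have heq : L₁.map φ = L₂ := Subgroup.eq_of_le_of_card_ge h (by rw [hcard, e12])
    have heq' : L₂.map φ = L₁ := Subgroup.eq_of_le_of_card_ge h' (by rw [hcard, e12])
    refine ⟨heq, card_inj (by rw [← Nat.card_congr e₁.toEquiv, ← Nat.card_congr e₂.toEquiv, e12]), ?_⟩
    have hn2 : n * n ∈ L₁ ⊔ L₂ := by
      have := Subgroup.mul_self_mem_of_index_two hi (⟨n, hn⟩ : C)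
      simpa [Subgroup.mem_subgroupOf] using this
    obtain ⟨a, ha, b, hb, hab⟩ := hH _ hn2
    have haC : a ∈ C := hle (Subgroup.mem_sup_left ha)
    refine ⟨n * a⁻¹, C.mul_mem hn (C.inv_mem haC), fun h0 => hn' ?_, ?_, ?_⟩
    · have := (L₁ ⊔ L₂).mul_mem h0 (Subgroup.mem_sup_left (T := L₂) ha)
      rwa [inv_mul_cancel_right] at this
    · refine Eq.trans ?_ heq
      ext y
      simp only [Subgroup.mem_map, MulEquiv.coe_toMonoidHom, MulAut.conj_apply, φ]
      constructor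
      · rintro ⟨x, hx, rfl⟩; exact ⟨a⁻¹ * x * a, L₁.mul_mem (L₁.mul_mem (L₁.inv_mem ha) hx) ha, by group⟩
      · rintro ⟨x, hx, rfl⟩; exact ⟨a * x * a⁻¹, L₁.mul_mem (L₁.mul_mem ha hx) (L₁.inv_mem ha), by group⟩
    · have hfa : φ a ∈ L₂ := heq ▸ ⟨a, ha, rfl⟩
      have hfb : φ b ∈ L₁ := heq' ▸ ⟨b, hb, rfl⟩
      have e1 : φ a * φ b = a * b := by
        rw [← map_mul, ← hab]
        simp only [φ, MulEquiv.coe_toMonoidHom, MulAut.conj_apply]; group
      have e2 : φ a⁻¹ * b = a⁻¹ * φ b := by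
        have h3 : φ a⁻¹ ∈ L₂ := by rw [map_inv]; exact L₂.inv_mem hfa
        have : φ b = φ a⁻¹ * (a * b) := by rw [← e1, map_inv, inv_mul_cancel_left]
        rw [this, show a⁻¹ * (φ a⁻¹ * (a * b)) = a⁻¹ * (φ a⁻¹ * a) * b by group, ← hc a ha _ h3, inv_mul_cancel_left]
      rw [← hm]
      have e3 : (n * a⁻¹) ^ 2 = φ a⁻¹ * b := by
        calc (n * a⁻¹) ^ 2 = φ a⁻¹ * (n * n) * a⁻¹ := by simp only [φ, MulEquiv.coe_toMonoidHom, MulAut.conj_apply, pow_two]; group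
          _ = φ a⁻¹ * (a * b * a⁻¹) := by rw [hab]; group
          _ = φ a⁻¹ * b := by rw [hc a ha b hb, mul_inv_cancel_right]
      rw [e3]
      exact Subgroup.mem_inf.2 ⟨e2 ▸ L₁.mul_mem (L₁.inv_mem ha) hfb, L₂.mul_mem (by rw [map_inv]; exact L₂.inv_mem hfa) hb⟩
  · left
    exact ⟨Subgroup.eq_of_le_of_card_ge h' (by rw [hcard]), Subgroup.eq_of_le_of_card_ge h (by rw [hcard])⟩
  · exact absurd ⟨h', h⟩ (hmeet L₂ hc2)

end Cfsg.Agent.S3210
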