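import Cfsg.Statements.S3211
import Mathlib
import Cfsg.Agent.S3209
import Cfsg.Agent.Lib.Classical.SL2FourSylow
import Cfsg.Agent.Lib.Fusion.IsolatedInvolution
import Cfsg.Agent.Lib.Char.ZStar

set_option autoImplicit false
open Cfsg

namespace Cfsg.Agent.S3211

open Cfsg.Agent.Small Cfsg.Agent.Small.SL2C

/-- the two-part of the torus centralising an element of order four -/
theorem torus {G : Type*} [Group G] {j : G} {F : Type*} [Field F] [Fintype F] (h2 : (2 : F) ≠ 0)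
    (L : Subgroup G) (e : ↥L ≃* Matrix.SpecialLinearGroup (Fin 2) F) (hjL : j ∈ L) (hjj : j * j = 1)
    (hj1 : j ≠ 1) {a : G} (ha : a ∈ L) (ha2 : a * a = j) :
    (∀ u ∈ L, u * a * u⁻¹ = a * j → u * u = j) ∧ (∃ f ∈ L, f * a * f⁻¹ = a * j) ∧
      ∃ k : ℕ, 2 ≤ k ∧ (∃ c ∈ L, orderOf c = 2 ^ k ∧ c * a = a * c) ∧
        ∀ u ∈ L, u * a = a * u → ∀ m : ℕ, u ^ (2 ^ m) = 1 → u ^ (2 ^ k) = 1 := by
  obtain ⟨-, hinv, -⟩ := Cfsg.Agent.S3209.side h2 L e hjL hjj hj1
  set A := e ⟨a, ha⟩ with hA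
  have htr : A.1.trace = 0 := Cfsg.Agent.S3209.key h2 A
    (by
      rw [hA, ← map_mul]
      exact fun h' => hj1 (ha2.symm.trans (congrArg Subtype.val (e.map_eq_one_iff.1 h'))))
    (by
      rw [hA, ← map_mul, ← map_mul, ← map_one e]
      exact congrArg e (Subtype.ext (by simp only [Subgroup.coe_mul, ha2, hjj, Subgroup.coe_one])))
  have hns := Cfsg.Agent.Classical.SL2Four.not_isSc_of_trace_zero h2 htr
  have ht := Cfsg.Agent.Classical.SL2Four.trace_sq_ne_four h2 htr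
  have hainv : a * j = a⁻¹ := eq_inv_of_mul_eq_one_right (by rw [← mul_assoc, ha2, hjj])
  refine ⟨fun u hu hua => ?_, ?_, ?_⟩
  · have hU : e ⟨u, hu⟩ * A = A⁻¹ * e ⟨u, hu⟩ := by
      rw [hA, ← map_inv, ← map_mul, ← map_mul]
      exact congrArg e (Subtype.ext (mul_inv_eq_iff_eq_mul.1 (hua.trans hainv)))
    have h4 := sq_of_inverter ht hU
    refine (hinv _ (L.mul_mem hu hu) ?_).resolve_left fun h => ?_
    · have h5 : e ⟨u, hu⟩ * e ⟨u, hu⟩ * (e ⟨u, hu⟩ * e ⟨u, hu⟩) = 1 := Subtype.ext (by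
        rw [val_mul', val_mul', h4, neg_mul_neg, one_mul]; rfl)
      rw [← map_mul, ← map_mul] at h5
      exact congrArg Subtype.val (e.map_eq_one_iff.1 h5)
    · have h5 : e ⟨u, hu⟩ * e ⟨u, hu⟩ = 1 := by
        rw [← map_mul]; exact e.map_eq_one_iff.2 (Subtype.ext h)
      have h6 : (-1 : Matrix (Fin 2) (Fin 2) F) = 1 := by rw [← h4, ← val_mul', h5]; rfl
      have := congrFun (congrFun h6 0) 0
      simp only [Matrix.neg_apply, Matrix.one_apply_eq] at this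
      exact h2 (by linear_combination -this)
  · obtain ⟨J, hJ⟩ := exists_anticomm hns h2 htr
    have hJ' : J * A = A⁻¹ * J := Subtype.ext (by
      rw [val_mul', val_mul', Cfsg.Agent.Classical.SL2Four.inv_of_trace_zero htr, hJ, Matrix.neg_mul])
    refine ⟨(e.symm J : G), (e.symm J).2, ?_⟩
    rw [hainv, mul_inv_eq_iff_eq_mul]
    have h7 := congrArg (fun z => ((e.symm z : L) : G)) hJ'
    simpa [hA] using h7
  · set T := Subgroup.centralizer ({A} : Set (Matrix.SpecialLinearGroup (Fin 2) F)) with hT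
    have : IsCyclic T := isCyclic_centralizer ht
    obtain ⟨x, hx⟩ := IsCyclic.exists_ofOrder_eq_natCard (α := T)
    have hN : Nat.card T ≠ 0 := Nat.card_pos.ne'
    set k := (Nat.card T).factorization 2 with hk
    have hdiv : 2 ^ k ∣ Nat.card T := Nat.ordProj_dvd _ 2
    have hbound : ∀ u ∈ L, u * a = a * u → ∀ m : ℕ, u ^ (2 ^ m) = 1 → u ^ (2 ^ k) = 1 := by
      intro u hu hua m hm
      obtain ⟨i, -, hi⟩ := (Nat.dvd_prime_pow Nat.prime_two).1 (orderOf_dvd_of_pow_eq_one hm)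
      have hUT : e ⟨u, hu⟩ ∈ T := Subgroup.mem_centralizer_singleton_iff.2 (by
        rw [hA, ← map_mul, ← map_mul]
        exact congrArg e (Subtype.ext hua))
      have hd : 2 ^ i ∣ Nat.card T := by
        have := orderOf_dvd_natCard (G := T) ⟨_, hUT⟩
        rwa [Subgroup.orderOf_mk, MulEquiv.orderOf_eq, Subgroup.orderOf_mk, hi] at this
      rw [← orderOf_dvd_iff_pow_eq_one, hi]
      exact Nat.pow_dvd_pow 2 ((Nat.Prime.pow_dvd_iff_le_factorization Nat.prime_two hN).1 hd)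
    refine ⟨k, ?_, ⟨(e.symm ((x ^ (Nat.card T / 2 ^ k) : T) : Matrix.SpecialLinearGroup (Fin 2) F) : G),
      (e.symm _).2, ?_, ?_⟩, hbound⟩
    · have h8 := hbound a ha rfl 2 (by
        rw [show (2 : ℕ) ^ 2 = 2 + 2 from rfl, pow_add, pow_two, ha2, hjj])
      rcases Nat.lt_or_ge k 2 with h9 | h9
      · exfalso
        interval_cases k
        · rw [pow_zero, pow_one] at h8
          rw [h8, one_mul] at ha2
          exact hj1 ha2.symm
        · rw [pow_one, pow_two, ha2] at h8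
          exact hj1 h8
      · exact h9
    · rw [Subgroup.orderOf_coe, MulEquiv.orderOf_eq, Subgroup.orderOf_coe, ← hx]
      exact orderOf_pow_orderOf_div (hx ▸ hN) (hx ▸ hdiv)
    · have h9 := Subgroup.mem_centralizer_singleton_iff.1 (x ^ (Nat.card T / 2 ^ k) : T).2
      have h10 := congrArg (fun z => ((e.symm z : L) : G)) h9
      simpa [hA] using h10


/-- Let G be a finite group with subgroups L₁ ≅ SL₂(q₁) and L₂ ≅ SL₂(q₂), q₁ and q₂ odd prime powers, which commute elementwise and meet in ⟨j⟩ for an involution j, and suppose L₁L₂ has index 2 in C_G(j). If some n ∈ C_G(j) with n² = j interchanges L₁ and L₂ under conjugation (so that C_G(j) = L₁L₂⟨n⟩), then G = C_G(j)O(G). -/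
theorem result {G : Type*} [Group G] [Finite G]
    {F₁ : Type*} [Field F₁] [Fintype F₁] {F₂ : Type*} [Field F₂] [Fintype F₂]
    (hF₁ : Odd (Fintype.card F₁)) (hF₂ : Odd (Fintype.card F₂)) (L₁ L₂ : Subgroup G)
    (e₁ : ↥L₁ ≃* Matrix.SpecialLinearGroup (Fin 2) F₁) (e₂ : ↥L₂ ≃* Matrix.SpecialLinearGroup (Fin 2) F₂)
    (hc : ∀ x ∈ L₁, ∀ y ∈ L₂, x * y = y * x) (j : G) (hj : orderOf j = 2) (hm : L₁ ⊓ L₂ = Subgroup.zpowers j)
    (hle : L₁ ⊔ L₂ ≤ Subgroup.centralizer ({j} : Set G)) (hi : (L₁ ⊔ L₂).relIndex (Subgroup.centralizer ({j} : Set G)) = 2) (n : G) (hn : n ∈ Subgroup.centralizer ({j} : Set G))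
    (hn2 : n ^ 2 = j) (hswap : L₁.map (MulAut.conj n).toMonoidHom = L₂) :
    Subgroup.centralizer ({j} : Set G) ⊔ Cfsg.oddCore G = ⊤ := by
  classical
  have two_ne : ∀ {F : Type _} [Field F] [Fintype F], Odd (Fintype.card F) → (2 : F) ≠ 0 :=
    fun {F} _ _ h => Ring.two_ne_zero fun hc2 => by
      have := FiniteField.even_card_of_char_two hc2
      rw [Nat.odd_iff] at h
      omega
  have h2₁ : (2 : F₁) ≠ 0 := two_ne hF₁
  have h2₂ : (2 : F₂) ≠ 0 := Ring.two_ne_zero fun hc2 => by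
    have := FiniteField.even_card_of_char_two hc2
    rw [Nat.odd_iff] at hF₂
    omega
  have hjm : j ∈ L₁ ⊓ L₂ := by rw [hm]; exact Subgroup.mem_zpowers j
  have hj1 : j ≠ 1 := fun h => by simp [h] at hj
  have hjj : j * j = 1 := by rw [← pow_two, ← hj, pow_orderOf_eq_one]
  obtain ⟨⟨a₀, ha₀, ha₀2⟩, hinv₁, hconj₁⟩ := Cfsg.Agent.S3209.side h2₁ L₁ e₁ hjm.1 hjj hj1
  obtain ⟨-, hinv₂, -⟩ := Cfsg.Agent.S3209.side h2₂ L₂ e₂ hjm.2 hjj hj1
  set K := L₁ ⊔ L₂ with hKdef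
  set C := Subgroup.centralizer ({j} : Set G) with hCdef
  have hKC : ∀ x ∈ K, x * j = j * x := fun x hx => Subgroup.mem_centralizer_singleton_iff.1 (hle hx)
  have hmem12 : ∀ x, x ∈ L₁ → x ∈ L₂ → x = 1 ∨ x = j := fun x h1 h2 => hinv₁ x h1 (by
    have : x ∈ Subgroup.zpowers j := hm ▸ ⟨h1, h2⟩
    obtain ⟨k, rfl⟩ := this
    show j ^ k * j ^ k = 1
    rw [← (Commute.refl j).mul_zpow, hjj, one_zpow])
  have hdec : ∀ x ∈ K, ∃ a ∈ L₁, ∃ b ∈ L₂, a * b = x := by
    let S : Subgroup G :=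
      { carrier := {z | ∃ a ∈ L₁, ∃ b ∈ L₂, a * b = z}
        one_mem' := ⟨1, L₁.one_mem, 1, L₂.one_mem, one_mul 1⟩
        mul_mem' := by
          rintro _ _ ⟨a, ha, b, hb, rfl⟩ ⟨a', ha', b', hb', rfl⟩
          exact ⟨a * a', L₁.mul_mem ha ha', b * b', L₂.mul_mem hb hb',
            (Commute.mul_mul_mul_comm ((hc a' ha' b hb).symm) a b').symm⟩
        inv_mem' := by
          rintro _ ⟨a, ha, b, hb, rfl⟩
          exact ⟨a⁻¹, L₁.inv_mem ha, b⁻¹, L₂.inv_mem hb, by rw [mul_inv_rev, hc a⁻¹ (L₁.inv_mem ha) b⁻¹ (L₂.inv_mem hb)]⟩ }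
    exact fun x hx => (sup_le (fun a ha => ⟨a, ha, 1, L₂.one_mem, mul_one a⟩)
      (fun b hb => ⟨1, L₁.one_mem, b, hb, one_mul b⟩) : K ≤ S) hx
  have hnL : ∀ a ∈ L₁, n * a * n⁻¹ ∈ L₂ := fun a ha => hswap ▸ Subgroup.mem_map_of_mem _ ha
  have hnj : n * j = j * n := Subgroup.mem_centralizer_singleton_iff.1 hn
  have hnn : ∀ x ∈ K, n * (n * x * n⁻¹) * n⁻¹ = x := fun x hx => by
    rw [show n * (n * x * n⁻¹) * n⁻¹ = n ^ 2 * x * (n ^ 2)⁻¹ by rw [pow_two]; group, hn2, ← hKC x hx,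
      mul_inv_cancel_right]
  have hnL' : ∀ b ∈ L₂, n * b * n⁻¹ ∈ L₁ := fun b hb => by
    obtain ⟨a, ha, rfl⟩ := (hswap ▸ hb : b ∈ L₁.map (MulAut.conj n).toMonoidHom)
    show n * (n * a * n⁻¹) * n⁻¹ ∈ L₁
    rwa [hnn a (Subgroup.mem_sup_left ha)]
  -- `n` lies outside `K`
  have hnK : n ∉ K := by
    intro h
    obtain ⟨u, hu, v, hv, rfl⟩ := hdec n h
    have h1 := hnL a₀ ha₀
    have e1 : u * v * a₀ * (u * v)⁻¹ = u * a₀ * u⁻¹ := by
      rw [mul_assoc u v a₀, ← hc a₀ ha₀ v hv]; group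
    rw [e1] at h1
    have ha' : u * a₀ * u⁻¹ ∈ L₁ := L₁.mul_mem (L₁.mul_mem hu ha₀) (L₁.inv_mem hu)
    have e2 : (u * a₀ * u⁻¹) * (u * a₀ * u⁻¹) = j := by
      rw [show (u * a₀ * u⁻¹) * (u * a₀ * u⁻¹) = u * (a₀ * a₀) * u⁻¹ by group, ha₀2,
        hKC u (Subgroup.mem_sup_left hu), mul_inv_cancel_right]
    rcases hmem12 _ ha' h1 with h' | h' <;> rw [h'] at e2
    · rw [one_mul] at e2; exact hj1 e2.symm
    · rw [hjj] at e2; exact hj1 e2.symm
  -- involutions of `C` lie in `K`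
  have hinK : ∀ x ∈ C, x * x = 1 → x ∈ K := by
    intro x hxC hxx
    by_contra hxK
    have hk : n⁻¹ * x ∈ K := by
      have hx2 := Subgroup.mul_mem_iff_of_index_two (H := K.subgroupOf C) hi
        (a := (⟨n, hn⟩ : C)⁻¹) (b := ⟨x, hxC⟩)
      simp only [Subgroup.mem_subgroupOf, Subgroup.coe_mul, Subgroup.coe_inv, inv_mem_iff] at hx2
      exact hx2.2 (iff_of_false hnK hxK)
    obtain ⟨a, ha, b, hb, hab⟩ := hdec _ hk
    obtain rfl : x = n * (a * b) := by rw [hab, mul_inv_cancel_left]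
    set a' := n * a * n⁻¹ with ha'
    set b' := n * b * n⁻¹ with hb'
    have ha'L : a' ∈ L₂ := hnL a ha
    have hb'L : b' ∈ L₁ := hnL' b hb
    have hjK : j * (a * b) = (a * b) * j := (hKC _ (Subgroup.mul_mem_sup ha hb)).symm
    have e : (b' * a) * (a' * b) * j = 1 := by
      rw [← hxx]
      calc (b' * a) * (a' * b) * j = b' * (a * a') * (b * j) := by group
        _ = b' * a' * ((a * b) * j) := by rw [hc a ha a' ha'L]; group
        _ = (a' * b') * (j * (a * b)) := by rw [hc b' hb'L a' ha'L, hjK]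
        _ = n * (a * b) * (n * (a * b)) := by rw [← hn2, ha', hb', pow_two]; group
    have h12 : (b' * a) * (a' * b) = j := by
      rw [mul_eq_one_iff_eq_inv] at e
      rw [e]
      exact inv_eq_of_mul_eq_one_left hjj
    have h1 : b' * a ∈ L₂ := by
      rw [eq_mul_inv_of_mul_eq h12]
      exact L₂.mul_mem hjm.2 (L₂.inv_mem (L₂.mul_mem ha'L hb))
    have h2 : n * (a' * b) * n⁻¹ = b'⁻¹ * (b' * a) * b' := by
      calc n * (a' * b) * n⁻¹ = (n * a' * n⁻¹) * (n * b * n⁻¹) := by group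
        _ = b'⁻¹ * (b' * a) * b' := by rw [ha', hnn a (Subgroup.mem_sup_left ha), ← hb']; group
    have h3 : ∀ z, z = 1 ∨ z = j → ∀ y, y * j = j * y → y * z * y⁻¹ = z := by
      rintro z (rfl | rfl) y hy
      · group
      · rw [hy, mul_inv_cancel_right]
    have h4 := hmem12 _ (L₁.mul_mem hb'L ha) h1
    have h5 : a' * b = 1 ∨ a' * b = j := by
      rcases h4 with h | h <;> rw [h] at h12
      · right; rwa [one_mul] at h12
      · left; exact mul_eq_left.1 h12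
    rw [h3 _ h5 n hnj, show b'⁻¹ * (b' * a) * b' = b'⁻¹ * (b' * a) * b'⁻¹⁻¹ by rw [inv_inv],
      h3 _ h4 b'⁻¹ (hKC _ (Subgroup.mem_sup_left (L₁.inv_mem hb'L)))] at h2
    rw [h2] at h12
    rcases h4 with h | h <;> rw [h] at h12
    · rw [one_mul] at h12; exact hj1 h12.symm
    · rw [hjj] at h12; exact hj1 h12.symm
  -- `j` is isolated
  have hiso : Cfsg.IsIsolatedInvolution j := by
    refine ⟨hj, fun g₀ hcomm => ?_⟩
    by_contra hne
    set i := g₀ * j * g₀⁻¹ with hidef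
    set i' := g₀⁻¹ * j * g₀ with hi'def
    have hii : i * i = 1 := by
      rw [hidef, show g₀ * j * g₀⁻¹ * (g₀ * j * g₀⁻¹) = g₀ * (j * j) * g₀⁻¹ by group, hjj]; group
    have hi'i' : i' * i' = 1 := by
      rw [hi'def, show g₀⁻¹ * j * g₀ * (g₀⁻¹ * j * g₀) = g₀⁻¹ * (j * j) * g₀ by group, hjj]; group
    have hi'ne : i' ≠ j := fun h => hne (by
      have h' : g₀ * i' * g₀⁻¹ = g₀ * j * g₀⁻¹ := by rw [h]
      rw [hi'def, show g₀ * (g₀⁻¹ * j * g₀) * g₀⁻¹ = j by group] at h'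
      exact h'.symm)
    have hi'C : i' * j = j * i' := by
      have h' : g₀⁻¹ * (j * i) * g₀ = g₀⁻¹ * (i * j) * g₀ := by rw [hcomm.eq]
      rw [hidef, hi'def] at *
      simpa [mul_assoc] using h'
    have hiK : i ∈ K := hinK i (Subgroup.mem_centralizer_singleton_iff.2 hcomm.eq.symm) hii
    have hi'K : i' ∈ K := hinK i' (Subgroup.mem_centralizer_singleton_iff.2 hi'C) hi'i'
    have hord : ∀ z : G, z * z = 1 → z ≠ 1 → orderOf z = 2 := fun z hz hz1 =>
      orderOf_eq_prime (by rw [pow_two, hz]) hz1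
    have hi1 : i ≠ 1 := fun h => hj1 (conj_eq_one_iff.1 h)
    have hi'1 : i' ≠ 1 := fun h => hj1 (by
      have h' : g₀ * i' * g₀⁻¹ = 1 := by rw [h]; group
      rwa [hi'def, show g₀ * (g₀⁻¹ * j * g₀) * g₀⁻¹ = j by group] at h')
    obtain ⟨x, -, -, -, hx⟩ := Cfsg.Agent.S3209.result hF₁ hF₂ L₁ L₂ e₁ e₂ hc j hj hm
    obtain ⟨h₁, hh₁, e1⟩ := (hx i hiK (hord _ hii hi1)).resolve_left hne
    obtain ⟨h₂, hh₂, e2⟩ := (hx i' hi'K (hord _ hi'i' hi'1)).resolve_left hi'ne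
    set w := g₀ * (h₂ * h₁⁻¹) with hwdef
    have hwj : w * j * w⁻¹ = i := by
      have := hKC _ (K.mul_mem hh₂ (K.inv_mem hh₁))
      calc w * j * w⁻¹ = g₀ * ((h₂ * h₁⁻¹) * j * (h₂ * h₁⁻¹)⁻¹) * g₀⁻¹ := by rw [hwdef]; group
        _ = i := by rw [this, mul_inv_cancel_right]
    have hwi : w * i * w⁻¹ = j := by
      calc w * i * w⁻¹ = g₀ * (h₂ * (h₁⁻¹ * i * h₁) * h₂⁻¹) * g₀⁻¹ := by rw [hwdef]; group
        _ = g₀ * i' * g₀⁻¹ := by rw [← e1, ← e2]; group
        _ = j := by rw [hi'def]; group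
    clear_value i
    obtain ⟨a, ha, b, hb, rfl⟩ := hdec i hiK
    have hab : a * a = j ∧ b * b = j := by
      have h1 : (a * a) * (b * b) = 1 := by
        rw [← Commute.mul_mul_mul_comm ((hc a ha b hb).symm) a b]; exact hii
      have haa : a * a ∈ L₂ := eq_inv_of_mul_eq_one_left h1 ▸ L₂.inv_mem (L₂.mul_mem hb hb)
      rcases hmem12 _ (L₁.mul_mem ha ha) haa with h' | h'
      · exfalso
        rw [h', one_mul] at h1
        rcases hinv₁ a ha h' with rfl | rfl <;> rcases hinv₂ b hb h1 with rfl | rfl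
        · exact hi1 (one_mul _)
        · exact hne (one_mul _)
        · exact hne (mul_one _)
        · exact hi1 hjj
      · exact ⟨h', mul_left_cancel ((h' ▸ h1).trans hjj.symm)⟩
    obtain ⟨hsq₁, ⟨f, hf, hfa⟩, k, hk, ⟨c, hcL, hco, hca⟩, hbd⟩ :=
      torus h2₁ L₁ e₁ hjm.1 hjj hj1 ha hab.1
    obtain ⟨hsq₂, ⟨g, hg, hgb⟩, -⟩ := torus h2₂ L₂ e₂ hjm.2 hjj hj1 hb hab.2
    -- transport the bound to `L₂`
    have hbd' : ∀ v ∈ L₂, v * b = b * v → ∀ m : ℕ, v ^ (2 ^ m) = 1 → v ^ (2 ^ k) = 1 := by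
      intro v hv hvb m hvm
      have hbn : (n * b * n⁻¹) * (n * b * n⁻¹) = j := by
        rw [show (n * b * n⁻¹) * (n * b * n⁻¹) = n * (b * b) * n⁻¹ by group, hab.2, hnj,
          mul_inv_cancel_right]
      obtain ⟨g₁, hg₁, he⟩ := hconj₁ _ (hnL' b hb) a ha hbn hab.1
      have hv1 : MulAut.conj (g₁ * n) v ∈ L₁ := by
        rw [MulAut.conj_apply, show g₁ * n * v * (g₁ * n)⁻¹ = g₁ * (n * v * n⁻¹) * g₁⁻¹ by group]
        exact L₁.mul_mem (L₁.mul_mem hg₁ (hnL' v hv)) (L₁.inv_mem hg₁)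
      have hva : MulAut.conj (g₁ * n) b = a := by rw [MulAut.conj_apply, ← he]; group
      have := hbd _ hv1 (by rw [← hva, ← map_mul, ← map_mul, hvb]) m (by rw [← map_pow, hvm, map_one])
      rw [← map_pow] at this
      exact (MulAut.conj (g₁ * n)).map_eq_one_iff.1 this
    have hpow4 : ∀ u : G, u * u = j → u ^ (2 ^ k) = 1 := fun u hu => by
      obtain ⟨k', rfl⟩ := Nat.exists_eq_add_of_le hk
      rw [pow_add, show (2 : ℕ) ^ 2 = 2 + 2 from rfl, pow_mul, pow_add, pow_two, hu, hjj, one_pow]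
    -- the bound on `C(V)`
    have hkey : ∀ x ∈ K, x * (a * b) = (a * b) * x → ∀ m : ℕ, x ^ (2 ^ m) = 1 →
        x ^ (2 ^ (k - 1)) = 1 ∨ x ^ (2 ^ (k - 1)) = j := by
      intro x hxK hxi m hxm
      obtain ⟨u, hu, v, hv, rfl⟩ := hdec x hxK
      have e : (u * a * u⁻¹) * (v * b * v⁻¹) = a * b := by
        calc (u * a * u⁻¹) * (v * b * v⁻¹) = u * a * ((u⁻¹ * v) * b * v⁻¹) := by group
          _ = (u * (a * v)) * (u⁻¹ * b) * v⁻¹ := by rw [hc u⁻¹ (L₁.inv_mem hu) v hv]; group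
          _ = (u * v) * (a * b) * (u⁻¹ * v⁻¹) := by
            rw [hc a ha v hv, hc u⁻¹ (L₁.inv_mem hu) b hb]; group
          _ = a * b := by
            rw [hxi, hc u⁻¹ (L₁.inv_mem hu) v⁻¹ (L₂.inv_mem hv)]; group
      set z := a⁻¹ * (u * a * u⁻¹) with hz
      have hz2 : z = b * (v * b * v⁻¹)⁻¹ := by
        rw [hz, eq_mul_inv_iff_mul_eq, mul_assoc, e, inv_mul_cancel_left]
      have hcase := hmem12 z (L₁.mul_mem (L₁.inv_mem ha) (L₁.mul_mem (L₁.mul_mem hu ha) (L₁.inv_mem hu)))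
        (hz2 ▸ L₂.mul_mem hb (L₂.inv_mem (L₂.mul_mem (L₂.mul_mem hv hb) (L₂.inv_mem hv))))
      have hpm : u ^ (2 ^ (m + 1)) = 1 ∧ v ^ (2 ^ (m + 1)) = 1 := by
        rw [Commute.mul_pow (hc u hu v hv)] at hxm
        have h1 : u ^ 2 ^ m ∈ L₂ := eq_inv_of_mul_eq_one_left hxm ▸ L₂.inv_mem (L₂.pow_mem hv _)
        rw [pow_succ, pow_mul, pow_mul, eq_inv_of_mul_eq_one_right hxm, inv_pow]
        rcases hmem12 _ (L₁.pow_mem hu _) h1 with h' | h' <;> rw [h', pow_two]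
        · simp
        · rw [hjj]; simp
      obtain ⟨hu', hv'⟩ : u ^ (2 ^ k) = 1 ∧ v ^ (2 ^ k) = 1 := by
        rcases hcase with h | h
        · refine ⟨hbd u hu ?_ _ hpm.1, hbd' v hv ?_ _ hpm.2⟩
          · rw [hz, inv_mul_eq_one] at h
            exact mul_inv_eq_iff_eq_mul.1 h.symm
          · rw [hz2, mul_inv_eq_one] at h
            exact mul_inv_eq_iff_eq_mul.1 h.symm
        · refine ⟨hpow4 u (hsq₁ u hu ?_), hpow4 v (hsq₂ v hv ?_)⟩
          · rw [← h, hz]; group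
          · rw [hz2, mul_inv_eq_iff_eq_mul] at h
            calc v * b * v⁻¹ = j * (j * (v * b * v⁻¹)) := by rw [← mul_assoc, hjj, one_mul]
              _ = b * j := by rw [← h, hKC b (Subgroup.mem_sup_right hb)]
      have hhalf : ∀ z : G, z ^ (2 ^ k) = 1 → z ^ (2 ^ (k - 1)) * z ^ (2 ^ (k - 1)) = 1 := fun z hz' => by
        rw [← pow_add, ← two_mul, ← pow_succ', show k - 1 + 1 = k by omega, hz']
      rw [Commute.mul_pow (hc u hu v hv)]
      rcases hinv₁ _ (L₁.pow_mem hu _) (hhalf u hu') with h | h <;>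
        rcases hinv₂ _ (L₂.pow_mem hv _) (hhalf v hv') with h' | h' <;> rw [h, h']
      · left; rw [one_mul]
      · right; rw [one_mul]
      · right; rw [mul_one]
      · left; exact hjj
    -- the two involutions with product `c`
    have hfc : f * c * a * (f * c)⁻¹ = a * j := by
      rw [mul_assoc f c a, hca, ← hfa]; group
    have hff := hsq₁ f hf hfa
    have hff' := hsq₁ (f * c) (L₁.mul_mem hf hcL) hfc
    have hgg := hsq₂ g hg hgb
    have hinvol : ∀ u ∈ L₁, u * u = j → u * a * u⁻¹ = a * j →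
        (u * g) * (u * g) = 1 ∧ (u * g) * (a * b) * (u * g)⁻¹ = a * b := by
      intro u hu huu hua
      constructor
      · rw [Commute.mul_mul_mul_comm ((hc u hu g hg).symm) u g, huu, hgg, hjj]
      · calc (u * g) * (a * b) * (u * g)⁻¹ = u * (g * a) * b * (g⁻¹ * u⁻¹) := by group
          _ = u * a * (g * b * g⁻¹) * u⁻¹ := by rw [← hc a ha g hg]; group
          _ = u * a * (u⁻¹ * (g * b * g⁻¹)) := by
            rw [hc u⁻¹ (L₁.inv_mem hu) _ (L₂.mul_mem (L₂.mul_mem hg hb) (L₂.inv_mem hg))]; group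
          _ = (u * a * u⁻¹) * (g * b * g⁻¹) := by group
          _ = a * (j * b) * j := by rw [hua, hgb]; group
          _ = a * b := by rw [← hKC b (Subgroup.mem_sup_right hb), mul_assoc, mul_assoc, hjj, mul_one]
    have hwK : ∀ y, y * y = 1 → y * (a * b) * y⁻¹ = a * b → y * j = j * y →
        w * y * w⁻¹ ∈ K ∧ (w * y * w⁻¹) * (a * b) = (a * b) * (w * y * w⁻¹) := by
      intro y hyy hyi hyj
      rw [mul_inv_eq_iff_eq_mul] at hyi
      refine ⟨hinK _ (Subgroup.mem_centralizer_singleton_iff.2 ?_) ?_, ?_⟩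
      · calc w * y * w⁻¹ * j = w * (y * (a * b)) * w⁻¹ := by rw [← hwi]; group
          _ = j * (w * y * w⁻¹) := by rw [hyi, ← hwi]; group
      · rw [show w * y * w⁻¹ * (w * y * w⁻¹) = w * (y * y) * w⁻¹ by group, hyy]; group
      · calc w * y * w⁻¹ * (a * b) = w * (y * j) * w⁻¹ := by rw [← hwj]; group
          _ = (a * b) * (w * y * w⁻¹) := by rw [hyj, ← hwj]; group
    have hy₁ := hwK _ (hinvol f hf hff hfa).1 (hinvol f hf hff hfa).2
      (hKC _ (Subgroup.mul_mem_sup hf hg))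
    have hy₂ := hwK _ (hinvol _ (L₁.mul_mem hf hcL) hff' hfc).1
      (hinvol _ (L₁.mul_mem hf hcL) hff' hfc).2 (hKC _ (Subgroup.mul_mem_sup (L₁.mul_mem hf hcL) hg))
    have hprod : (f * g) * (f * c * g) = c := by
      calc (f * g) * (f * c * g) = f * (g * f) * c * g := by group
        _ = f * f * (g * c) * g := by rw [← hc f hf g hg]; group
        _ = f * f * c * (g * g) := by rw [← hc c hcL g hg]; group
        _ = c := by rw [hff, hgg, ← hKC c (Subgroup.mem_sup_left hcL), mul_assoc, hjj, mul_one]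
    have hwc : w * c * w⁻¹ = (w * (f * g) * w⁻¹) * (w * (f * c * g) * w⁻¹) := by
      rw [show (w * (f * g) * w⁻¹) * (w * (f * c * g) * w⁻¹) = w * ((f * g) * (f * c * g)) * w⁻¹ by group,
        hprod]
    have hcj : c ^ (2 ^ (k - 1)) = j := by
      refine (hinv₁ _ (L₁.pow_mem hcL _) ?_).resolve_left fun h => ?_
      · rw [← pow_add, ← two_mul, ← pow_succ', show k - 1 + 1 = k by omega, ← hco, pow_orderOf_eq_one]
      · have h' := Nat.le_of_dvd (by positivity) (orderOf_dvd_of_pow_eq_one h)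
        rw [hco] at h'
        exact absurd ((Nat.pow_le_pow_iff_right (by norm_num)).1 h') (by omega)
    have hfin := hkey (w * c * w⁻¹) (hwc ▸ K.mul_mem hy₁.1 hy₂.1)
      (by rw [hwc, mul_assoc, hy₂.2, ← mul_assoc, hy₁.2, mul_assoc]) k
      (by rw [conj_pow, ← hco, pow_orderOf_eq_one]; group)
    rw [conj_pow, hcj, hwj] at hfin
    exact hfin.elim hi1 hne
  -- conclusion
  refine eq_top_iff.2 fun g _ => ?_
  obtain ⟨s, hs, hsv⟩ := Cfsg.Agent.Fusion.isolated_exists_zpowers hiso g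
  have hsO : s ∈ Cfsg.oddCore G := by
    refine (Subgroup.zpowers_le.2 ?_) hs
    have := Cfsg.Agent.Char.zStar_isolated hiso g
    rw [inv_eq_of_mul_eq_one_left hjj] at this
    simpa only [mul_assoc] using this
  have hsg : s * g ∈ C := by
    rw [hCdef, Subgroup.mem_centralizer_singleton_iff, ← mul_inv_eq_iff_eq_mul, mul_inv_rev]
    simpa only [mul_assoc] using hsv
  rw [show g = s⁻¹ * (s * g) by group]
  exact Subgroup.mul_mem _ (Subgroup.mem_sup_right (inv_mem hsO)) (Subgroup.mem_sup_left hsg)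

end Cfsg.Agent.S3211
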