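import Cfsg.Statements.S3213
import Mathlib
-- import your own Cfsg.Agent.* helpers here

set_option autoImplicit false
open Cfsg

namespace Cfsg.Agent.S3213

set_option synthInstance.maxSize 3000 in
set_option synthInstance.maxHeartbeats 200000 in
theorem fin5 : ∀ a b c d : ZMod 5, a * d - b * c = 1 →
    (a * (a * a + b * c) + b * (c * a + d * c) = 1 ∧ a * (a * b + b * d) + b * (c * b + d * d) = 0 ∧
      c * (a * a + b * c) + d * (c * a + d * c) = 0 ∧ c * (a * b + b * d) + d * (c * b + d * d) = 1) →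
    ∃ p q r : ZMod 5, p * -p - q * r = 1 ∧
      (a * p + b * r) * a + (a * q + b * -p) * c = p ∧ (a * p + b * r) * b + (a * q + b * -p) * d = q ∧
      (c * p + d * r) * a + (c * q + d * -p) * c = r ∧ (c * p + d * r) * b + (c * q + d * -p) * d = -p := by
  decide +kernel

open Matrix in
theorem exists_inverter {K : Type*} [Field K] [Fintype K] (hK : Fintype.card K = 5)
    (x : Matrix.SpecialLinearGroup (Fin 2) K) (hx : x ^ 3 = 1) : ∃ y, x * y * x = y := by
  haveI : Fact (Nat.Prime 5) := ⟨by norm_num⟩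
  haveI : CharP K 5 := charP_of_card_eq_prime hK
  let e : ZMod 5 ≃+* K := ZMod.ringEquiv K hK
  have key : ∀ x' : Matrix.SpecialLinearGroup (Fin 2) (ZMod 5), x' ^ 3 = 1 → ∃ y, x' * y * x' = y := by
    intro x' h
    have hd := x'.2
    rw [Matrix.det_fin_two] at hd
    have h3 : (x' : Matrix (Fin 2) (Fin 2) (ZMod 5)) * ((x' : Matrix (Fin 2) (Fin 2) (ZMod 5)) * x') = 1 := by
      have := congrArg Subtype.val h
      rwa [pow_succ', pow_two] at this
    have e00 := congrFun (congrFun h3 0) 0
    have e01 := congrFun (congrFun h3 0) 1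
    have e10 := congrFun (congrFun h3 1) 0
    have e11 := congrFun (congrFun h3 1) 1
    simp only [Matrix.mul_apply, Fin.sum_univ_two, Matrix.one_apply_eq, Matrix.one_apply_ne (show (0 : Fin 2) ≠ 1 by decide),
      Matrix.one_apply_ne (show (1 : Fin 2) ≠ 0 by decide)] at e00 e01 e10 e11
    obtain ⟨p, q, r, h0, h1, h2, h3, h4⟩ := fin5 _ _ _ _ hd ⟨e00, e01, e10, e11⟩
    refine ⟨⟨!![p, q; r, -p], by rw [Matrix.det_fin_two_of]; exact h0⟩, Subtype.ext ?_⟩
    show (x' : Matrix (Fin 2) (Fin 2) (ZMod 5)) * !![p, q; r, -p] * (x' : Matrix (Fin 2) (Fin 2) (ZMod 5)) = !![p, q; r, -p]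
    simp only [mul_neg] at h1 h2 h3 h4
    ext i j
    fin_cases i <;> fin_cases j <;>
      simp [Matrix.mul_apply, Fin.sum_univ_two, h1, h2, h3, h4]
  let f := Matrix.SpecialLinearGroup.map (n := Fin 2) e.toRingHom
  let g := Matrix.SpecialLinearGroup.map (n := Fin 2) e.symm.toRingHom
  have hfg : f (g x) = x := by ext i j; exact e.apply_symm_apply _
  obtain ⟨y, hy⟩ := key (g x) (by rw [← map_pow, hx, map_one])
  exact ⟨f y, by have := congrArg f hy; rwa [map_mul, map_mul, hfg] at this⟩

theorem fin3 : ∀ d : ZMod 3, d = 0 ∨ d * d = 1 := by decide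


/-- Let F be the field with 3 elements and K the field with 5 elements. For every injective homomorphism φ from SL₂(K) into the symplectic group Sp₄(F) (4 × 4 matrices g with g J gᵀ = J for the standard alternating matrix J) and every element x of order 3 of SL₂(K), the vectors of F⁴ fixed by φ(x) form a 2-dimensional subspace that is totally isotropic for the alternating form defined by J. -/
theorem result {F : Type*} [Field F] [Fintype F] (hF : Fintype.card F = 3)
    {K : Type*} [Field K] [Fintype K] (hK : Fintype.card K = 5)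
    (φ : Matrix.SpecialLinearGroup (Fin 2) K →* ↥(Matrix.symplecticGroup (Fin 2) F)) (hφ : Function.Injective φ)
    (x : Matrix.SpecialLinearGroup (Fin 2) K) (hx : orderOf x = 3) :
    Module.finrank F ↥(LinearMap.ker (Matrix.toLin' ((φ x : Matrix (Fin 2 ⊕ Fin 2) (Fin 2 ⊕ Fin 2) F)) - LinearMap.id)) = 2 ∧
      ∀ v w : Fin 2 ⊕ Fin 2 → F, (φ x : Matrix (Fin 2 ⊕ Fin 2) (Fin 2 ⊕ Fin 2) F).mulVec v = v →
        (φ x : Matrix (Fin 2 ⊕ Fin 2) (Fin 2 ⊕ Fin 2) F).mulVec w = w →
          dotProduct v ((Matrix.J (Fin 2) F).mulVec w) = 0 := by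
  classical
  haveI : Fact (Nat.Prime 3) := ⟨by norm_num⟩
  haveI : CharP F 3 := charP_of_card_eq_prime hF
  have hall : ∀ c : F, c = 0 ∨ c * c = 1 := by
    intro c
    let e : ZMod 3 ≃+* F := ZMod.ringEquiv F hF
    obtain ⟨d, rfl⟩ := e.surjective c
    rcases fin3 d with h | h
    · exact Or.inl (by rw [h, map_zero])
    · exact Or.inr (by rw [← map_mul, h, map_one])
  have h30 : (3 : F) = 0 := by exact_mod_cast CharP.cast_eq_zero F 3
  have h20 : (2 : F) ≠ 0 := fun h => one_ne_zero (α := F) (by linear_combination h30 - h)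
  have hm1 : (-1 : F) ≠ 1 := fun h => h20 (by linear_combination -h)
  have hx3 : x ^ 3 = 1 := hx ▸ pow_orderOf_eq_one x
  obtain ⟨y, hy⟩ := exists_inverter hK x hx3
  set A : Matrix (Fin 2 ⊕ Fin 2) (Fin 2 ⊕ Fin 2) F := (φ x : Matrix (Fin 2 ⊕ Fin 2) (Fin 2 ⊕ Fin 2) F) with hAdef
  let Y : Matrix (Fin 2 ⊕ Fin 2) (Fin 2 ⊕ Fin 2) F := (φ y : Matrix (Fin 2 ⊕ Fin 2) (Fin 2 ⊕ Fin 2) F)
  have hA3 : A * (A * A) = 1 := by
    have h : x * (x * x) = 1 := by rw [← hx3, pow_succ', pow_two]
    have := congrArg (fun z => (φ z : Matrix (Fin 2 ⊕ Fin 2) (Fin 2 ⊕ Fin 2) F)) h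
    simpa using this
  have hAY : A * Y * A = Y := by
    have := congrArg (fun z => (φ z : Matrix (Fin 2 ⊕ Fin 2) (Fin 2 ⊕ Fin 2) F)) hy
    simpa using this
  have hAne : A ≠ 1 := fun h => by
    have : x = 1 := hφ (Subtype.ext (by rw [map_one]; exact h))
    rw [this, orderOf_one] at hx; norm_num at hx
  have hYA : Y * A = A * A * Y := by
    calc Y * A = (A * (A * A)) * (Y * A) := by rw [hA3, one_mul]
      _ = A * A * (A * Y * A) := by noncomm_ring
      _ = A * A * Y := by rw [hAY]
  let J := Matrix.J (Fin 2) F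
  let B : (Fin 2 ⊕ Fin 2 → F) → (Fin 2 ⊕ Fin 2 → F) → F := fun v w => dotProduct v (J.mulVec w)
  have hB : ∀ M : Matrix (Fin 2 ⊕ Fin 2) (Fin 2 ⊕ Fin 2) F, M ∈ Matrix.symplecticGroup (Fin 2) F → ∀ v w, B (M.mulVec v) (M.mulVec w) = B v w := by
    intro M hM v w
    show dotProduct (M.mulVec v) (J.mulVec (M.mulVec w)) = dotProduct v (J.mulVec w)
    rw [Matrix.mulVec_mulVec, ← Matrix.vecMul_transpose, ← Matrix.dotProduct_mulVec, Matrix.mulVec_mulVec, ← Matrix.mul_assoc, SymplecticGroup.mem_iff'.1 hM]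
  have hanti : ∀ v w, B v w = -B w v := by
    intro v w
    show dotProduct v (J.mulVec w) = -dotProduct w (J.mulVec v)
    rw [Matrix.dotProduct_mulVec, dotProduct_comm, ← Matrix.mulVec_transpose, Matrix.J_transpose, Matrix.neg_mulVec, dotProduct_neg]
  have hzero : ∀ a : F, a = -a → a = 0 := fun a h =>
    (mul_eq_zero.1 (show (2 : F) * a = 0 by linear_combination h)).resolve_left h20
  have halt : ∀ v, B v v = 0 := fun v => hzero _ (hanti v v)
  have hnd : ∀ v, v ≠ 0 → ∃ w, B v w = 1 := by
    intro v hv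
    have h1 : Matrix.vecMul v J ≠ 0 := fun h => hv (by
      have := congrArg (fun z => Matrix.vecMul z J) h
      simp only [Matrix.vecMul_vecMul, J, Matrix.J_squared, Matrix.vecMul_neg, Matrix.vecMul_one, Matrix.zero_vecMul, neg_eq_zero] at this
      exact this)
    obtain ⟨i, hi⟩ := Function.ne_iff.1 h1
    refine ⟨Pi.single i (Matrix.vecMul v J i)⁻¹, ?_⟩
    show dotProduct v (J.mulVec _) = 1
    rw [Matrix.dotProduct_mulVec, dotProduct_single, mul_inv_cancel₀ hi]
  let a := Matrix.toLin' A
  let yl := Matrix.toLin' Y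
  let N : (Fin 2 ⊕ Fin 2 → F) →ₗ[F] (Fin 2 ⊕ Fin 2 → F) := a - LinearMap.id
  have hNv : ∀ v, N v = A.mulVec v - v := fun v => rfl
  have ha3 : ∀ v, A.mulVec (A.mulVec (A.mulVec v)) = v := fun v => by
    rw [Matrix.mulVec_mulVec, Matrix.mulVec_mulVec, mul_assoc, hA3, Matrix.one_mulVec]
  have hN2v : ∀ v, N (N v) = A.mulVec (A.mulVec v) - A.mulVec v - A.mulVec v + v := fun v => by
    rw [hNv, hNv, Matrix.mulVec_sub]; abel
  have hN3 : ∀ v, N (N (N v)) = 0 := fun v => by
    rw [hNv, hN2v, Matrix.mulVec_add, Matrix.mulVec_sub, Matrix.mulVec_sub, ha3]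
    have : (3 : F) • (A.mulVec v - A.mulVec (A.mulVec v)) = 0 := by rw [h30, zero_smul]
    rw [← this]; module
  have hadj : ∀ v w, B (N v) w = B v (N (N w)) - B v (N w) := by
    intro v w
    have h1 : B (A.mulVec v) w = B v (A.mulVec (A.mulVec w)) := by
      conv_lhs => rw [← ha3 w]
      exact hB A (φ x).2 _ _
    have e1 : B (N v) w = B (A.mulVec v) w - B v w := by
      show dotProduct (N v) _ = _
      rw [hNv, sub_dotProduct]
    have e2 : B v (N (N w)) - B v (N w) = B v (A.mulVec (A.mulVec w)) - 3 * B v (A.mulVec w) + 2 * B v w := by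
      show dotProduct v (J.mulVec (N (N w))) - dotProduct v (J.mulVec (N w)) = _
      rw [hN2v, hNv]
      simp only [Matrix.mulVec_sub, Matrix.mulVec_add, dotProduct_sub, dotProduct_add, B]
      ring
    rw [e1, e2, h1]
    linear_combination (B v (A.mulVec w) - B v w) * h30
  have hB0 : ∀ v, B v 0 = 0 := fun v => by
    show dotProduct v (J.mulVec 0) = 0
    rw [Matrix.mulVec_zero, dotProduct_zero]
  have hS : ∀ v w, B (N (N v)) w = B v (N (N w)) := by
    intro v w
    rw [hadj (N v) w, hadj v (N (N w)), hadj v (N w), hN3 w, map_zero, hB0]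
    ring
  have hN2 : ∀ v, N (N v) = 0 := by
    intro v
    by_contra hv
    obtain ⟨u, hu⟩ := hnd _ hv
    have hvv : B (N (N v)) v = 0 := hzero _ (by rw [← hanti v, hS v v])
    have hli : LinearIndependent F ![N (N v), N (N u), N v, N u, v] := by
      rw [Fintype.linearIndependent_iff]
      intro g hg
      simp only [Fin.sum_univ_five, Matrix.cons_val] at hg
      have h5 := congrArg (fun z => N (N z)) hg
      simp only [map_add, map_smul, hN3, map_zero, smul_zero, zero_add] at h5
      have g4 : g 4 = 0 := (smul_eq_zero.1 h5).resolve_right hv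
      rw [g4, zero_smul, add_zero] at hg
      have hind : ∀ c d : F, c • N (N v) + d • N (N u) = 0 → c = 0 ∧ d = 0 := by
        intro c d h
        have hh : ∀ s, c * B (N (N v)) s + d * B (N (N u)) s = 0 := fun s => by
          have := congrArg (fun z => B z s) h
          simpa [B, add_dotProduct, smul_dotProduct] using this
        have h1 := hh u
        have huu : B (N (N u)) u = 0 := hzero _ (by rw [← hanti u, hS u u])
        rw [hu, huu, mul_one, mul_zero, add_zero] at h1
        have h2 := hh v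
        rw [hvv, mul_zero, zero_add, hS u v, hanti u, hu, mul_neg_one, neg_eq_zero] at h2
        exact ⟨h1, h2⟩
      have h4 := congrArg N hg
      simp only [map_add, map_smul, hN3, map_zero, smul_zero, zero_add] at h4
      obtain ⟨g2, g3⟩ := hind _ _ h4
      rw [g2, g3, zero_smul, zero_smul, add_zero, add_zero] at hg
      obtain ⟨g0, g1⟩ := hind _ _ hg
      intro i; fin_cases i <;> assumption
    have h := hli.fintype_card_le_finrank
    simp at h
  have hskew : ∀ v w, B (N v) w = -B v (N w) := fun v w => by rw [hadj, hN2, hB0, zero_sub]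
  -- the image has dimension at least two
  have him : 2 ≤ Module.finrank F (LinearMap.range N) := by
    by_contra h
    obtain ⟨⟨w0, hw0⟩, hspan⟩ := finrank_le_one_iff.1 (show Module.finrank F (LinearMap.range N) ≤ 1 by omega)
    have hl : ∀ v, ∃ c : F, c • w0 = N v := fun v => by
      obtain ⟨c, hc⟩ := hspan ⟨N v, LinearMap.mem_range_self N v⟩
      exact ⟨c, congrArg Subtype.val hc⟩
    have hw : w0 ≠ 0 := fun hw => hAne (Matrix.toLin'.injective (LinearMap.ext fun v => by
      obtain ⟨c, hc⟩ := hl v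
      rw [hw, smul_zero, hNv] at hc
      rw [Matrix.toLin'_apply, Matrix.toLin'_one]
      exact sub_eq_zero.1 hc.symm))
    obtain ⟨u, hu⟩ := hnd w0 hw
    obtain ⟨k, hk⟩ := hl u
    have hform : ∀ v, N v = (k * B w0 v) • w0 := by
      intro v
      obtain ⟨c, hc⟩ := hl v
      have := hskew v u
      rw [← hc, ← hk] at this
      simp only [B, smul_dotProduct, Matrix.mulVec_smul, dotProduct_smul, smul_eq_mul] at this
      change c * B w0 u = -(k * B v w0) at this
      rw [hu, mul_one, hanti v w0] at this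
      rw [← hc, this, mul_neg, neg_neg]
    have hk0 : k ≠ 0 := fun h0 => hw (by
      exfalso
      exact hAne (Matrix.toLin'.injective (LinearMap.ext fun v => by
        have := hform v
        rw [h0, zero_mul, zero_smul, hNv] at this
        rw [Matrix.toLin'_apply, Matrix.toLin'_one]
        exact sub_eq_zero.1 this)))
    -- conjugate by Y
    have hYN : Y.mulVec (N u) = -N (Y.mulVec u) := by
      have e : Y.mulVec (A.mulVec u) = A.mulVec (A.mulVec (Y.mulVec u)) := by
        rw [Matrix.mulVec_mulVec, hYA, Matrix.mulVec_mulVec, Matrix.mulVec_mulVec, mul_assoc]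
      have e2 := hN2 (Y.mulVec u)
      rw [hN2v] at e2
      rw [hNv, hNv, Matrix.mulVec_sub, e]
      have e3 : (3 : F) • (A.mulVec (Y.mulVec u) - Y.mulVec u) = 0 := by rw [h30, zero_smul]
      linear_combination (norm := module) e2 + e3
    rw [hform, hform, hu, mul_one, Matrix.mulVec_smul, ← neg_smul, show -(k * B w0 (Y.mulVec u)) = k * -B w0 (Y.mulVec u) by ring, ← smul_smul] at hYN
    have hY' : Y.mulVec w0 = (-B w0 (Y.mulVec u)) • w0 := smul_right_injective _ hk0 hYN
    have := hB Y (φ y).2 w0 u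
    rw [hY', hu] at this
    simp only [B, smul_dotProduct, smul_eq_mul] at this
    rcases hall (B w0 (Y.mulVec u)) with h0 | h1
    · simp only [B] at h0
      rw [h0, mul_zero] at this
      exact zero_ne_one this
    · simp only [B] at h1
      rw [neg_mul, h1] at this
      exact hm1 this
  have hle : LinearMap.range N ≤ LinearMap.ker N := by
    rintro _ ⟨v, rfl⟩; exact hN2 v
  have hsum := N.finrank_range_add_finrank_ker
  rw [Module.finrank_fintype_fun_eq_card, show Fintype.card (Fin 2 ⊕ Fin 2) = 4 from rfl] at hsum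
  have hmono := Submodule.finrank_mono hle
  refine ⟨by show Module.finrank F (LinearMap.ker N) = 2; omega, fun v w hv hw => ?_⟩
  have heq : LinearMap.range N = LinearMap.ker N := Submodule.eq_of_le_of_finrank_eq hle (by omega)
  have hvk : v ∈ LinearMap.ker N := by rw [LinearMap.mem_ker, hNv, hv, sub_self]
  rw [← heq] at hvk
  obtain ⟨v', rfl⟩ := hvk
  show B (N v') w = 0
  rw [hskew, hNv, hw, sub_self, hB0, neg_zero]

end Cfsg.Agent.S3213
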