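import Cfsg.Statements.S3214
import Cfsg.Agent.Lib.Fusion.TwoNilpCent.Main
-- import your own Cfsg.Agent.* helpers here

set_option autoImplicit false
open Cfsg

namespace Cfsg.Agent.S3214

/-- Let G be a finite non-abelian simple group in which the centralizer of every involution has a normal 2-complement. Then G is isomorphic to PSL₂(q) for some prime power q > 3, to a Suzuki group Sz(2ⁿ) with n ≥ 3 odd, to the alternating group A₇, or to PSL₃(4). -/
theorem result {G : Type*} [Group G] [Finite G] [IsSimpleGroup G]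
    (hG : ¬ IsMulCommutative G)
    (hI : ∀ t : G, orderOf t = 2 → Cfsg.HasNormalPComplement 2 ↥(Subgroup.centralizer ({t} : Set G))) :
    (∃ (F : Type) (_ : Field F) (_ : Fintype F), 3 < Fintype.card F ∧
        Nonempty (G ≃* Matrix.ProjectiveSpecialLinearGroup (Fin 2) F)) ∨
      Cfsg.Lie.IsoSuzuki G ∨ Nonempty (G ≃* ↥(alternatingGroup (Fin 7))) ∨
      (∃ (F : Type) (_ : Field F) (_ : Fintype F), Fintype.card F = 4 ∧
        Nonempty (G ≃* Matrix.ProjectiveSpecialLinearGroup (Fin 3) F)) := by
  exact Cfsg.Agent.TwoNilpCent.classify hG hI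

end Cfsg.Agent.S3214
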