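import Cfsg.Statements.S3215
import Mathlib
import Cfsg.Agent.Lib.Solv.FrobeniusGK
import Cfsg.Agent.Lib.Solv.UniqueSub
import Cfsg.Agent.Lib.Solv.Kulakoff
import Cfsg.Agent.Lib.Solv.Coprime
import Cfsg.Agent.Lib.Solv.Subnormal
import Cfsg.Agent.Lib.Fusion.PLayerBasics
-- import your own Cfsg.Agent.* helpers here

set_option autoImplicit false
open Cfsg

namespace Cfsg.Agent.S3215

/-- Let H be a finite solvable group with no nontrivial normal subgroup of odd order in which the centralizer of every involution has a normal 2-complement. Let X be a Hall 2'-subgroup of H (odd order, index a power of 2) and Y = O₂(H). Then no non-identity element of X commutes with a non-identity element of Y (so for X ≠ 1 the group XY is a Frobenius group with kernel Y), every Sylow subgroup of X is cyclic, XY is normal in H, and H/XY is a cyclic 2-group. -/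
theorem result {H : Type*} [Group H] [Finite H] (hsol : Group.IsSolvable H)
    (hO : Cfsg.oddCore H = ⊥)
    (hI : ∀ t : H, orderOf t = 2 → Cfsg.HasNormalPComplement 2 ↥(Subgroup.centralizer ({t} : Set H)))
    (X : Subgroup H) (hXodd : Odd (Nat.card X)) (hXidx : ∃ k : ℕ, X.index = 2 ^ k) :
    (∀ x ∈ X, x ≠ 1 → ∀ y ∈ Cfsg.pCore 2 H, y ≠ 1 → x * y ≠ y * x) ∧
      (∀ (p : ℕ) [Fact p.Prime] (P : Sylow p ↥X), IsCyclic ↥(P : Subgroup ↥X)) ∧
      (X ⊔ Cfsg.pCore 2 H).Normal ∧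
      ∀ hN : (X ⊔ Cfsg.pCore 2 H).Normal, IsCyclic (H ⧸ (X ⊔ Cfsg.pCore 2 H)) ∧ IsPGroup 2 (H ⧸ (X ⊔ Cfsg.pCore 2 H)) := by
  classical
  haveI h2f : Fact (Nat.Prime 2) := ⟨Nat.prime_two⟩
  set P := Cfsg.pCore 2 H with hPdef
  have hP2 : IsPGroup 2 P := Cfsg.Agent.Fusion.isPGroup_pCore 2 H
  haveI hPn : P.Normal := Cfsg.Agent.Solv.pCore_normal 2
  have hPC : Subgroup.centralizer (P : Set H) ≤ P := by
    have h := Cfsg.Agent.Solv.centralizer_fitting_le hsol
    rwa [Cfsg.Agent.Fusion.fitting_eq_pCore (p := 2) hO] at h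
  have hXo : ∀ x ∈ X, Odd (orderOf x) := fun x hx =>
    hXodd.of_dvd_nat (Subgroup.orderOf_mk x hx ▸ orderOf_dvd_natCard (⟨x, hx⟩ : X))
  have hodd2 : ∀ g : H, Odd (orderOf g) → g ∈ P → g = 1 := fun g ho hg => by
    obtain ⟨k, hk⟩ := hP2 ⟨g, hg⟩
    exact orderOf_eq_one_iff.1 (Nat.eq_one_of_dvd_coprimes (ho.coprime_two_right.pow_right k) dvd_rfl
      (orderOf_dvd_of_pow_eq_one (congrArg Subtype.val hk)))
  have hkey : ∀ u : H, orderOf u = 2 → ∀ x y : H, Commute x u → Commute y u → Odd (orderOf x) → y ∈ P → Commute x y := by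
    intro u hu x y hxu hyu hxo hy
    set C := Subgroup.centralizer ({u} : Set H) with hC
    obtain ⟨S, N, hN, hNS⟩ := hI u hu
    obtain ⟨j, hj⟩ := IsPGroup.iff_card.1 S.isPGroup'
    have hNidx : N.index = 2 ^ j := hj ▸ hNS.symm.index_eq_card
    have hNodd : Odd (Nat.card N) := by
      rw [← hNS.index_eq_card, ← Nat.not_even_iff_odd, even_iff_two_dvd]
      exact S.not_dvd_index
    let x' : C := ⟨x, Subgroup.mem_centralizer_singleton_iff.2 hxu⟩
    let y' : C := ⟨y, Subgroup.mem_centralizer_singleton_iff.2 hyu⟩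
    have hxN : x' ∈ N := by
      have ho : (orderOf x').Coprime N.index := by
        rw [hNidx, ← Subgroup.orderOf_coe]; exact hxo.coprime_two_right.pow_right j
      obtain ⟨m, hm⟩ := exists_pow_eq_self_of_coprime ho.symm
      rw [← hm]
      exact N.pow_mem (N.pow_index_mem x') m
    let w : C := x' * y' * x'⁻¹ * y'⁻¹
    have hwN : w ∈ N := by
      rw [show w = x' * (y' * x'⁻¹ * y'⁻¹) by simp only [w]; group]
      exact N.mul_mem hxN (hN.conj_mem _ (N.inv_mem hxN) y')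
    have hwP : (w : H) ∈ P := P.mul_mem (hPn.conj_mem y hy x) (P.inv_mem hy)
    have hw1 : (w : H) = 1 := hodd2 _ (by
      rw [Subgroup.orderOf_coe]
      exact hNodd.of_dvd_nat (Subgroup.orderOf_mk w hwN ▸ orderOf_dvd_natCard (⟨w, hwN⟩ : N))) hwP
    exact mul_inv_eq_iff_eq_mul.1 (mul_inv_eq_one.1 hw1)
  -- an involution among the powers
  have hinvo : ∀ g : H, g ≠ 1 → (∃ k : ℕ, g ^ 2 ^ k = 1) → ∃ m : ℕ, orderOf (g ^ m) = 2 := by
    intro g hg ⟨k, hk⟩
    obtain ⟨j, -, hj⟩ := (Nat.dvd_prime_pow Nat.prime_two).1 (orderOf_dvd_of_pow_eq_one hk)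
    rcases j with _ | j
    · exact absurd (orderOf_eq_one_iff.1 (by simpa using hj)) hg
    · refine ⟨2 ^ j, ?_⟩
      rw [orderOf_pow_of_dvd (pow_ne_zero _ two_ne_zero) (hj ▸ pow_dvd_pow 2 j.le_succ), hj, Nat.pow_div j.le_succ two_pos]
      simp
  have h1 : ∀ x ∈ X, x ≠ 1 → ∀ y ∈ P, y ≠ 1 → x * y ≠ y * x := by
    intro x hx hx1 y hy hy1 hxy
    obtain ⟨k, hk⟩ := hP2 ⟨y, hy⟩
    obtain ⟨m, hm⟩ := hinvo y hy1 ⟨k, congrArg Subtype.val hk⟩
    haveI : Nontrivial P := nontrivial_of_ne (⟨y, hy⟩ : P) 1 fun h => hy1 (congrArg Subtype.val h)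
    obtain ⟨z, -, hzc, hzo⟩ := Cfsg.Agent.Solv.exists_central_order hP2 (⊤ : Subgroup P) top_ne_bot
    have hzq : ∀ q ∈ P, Commute q (z : H) := fun q hq =>
      congrArg Subtype.val (Subgroup.mem_center_iff.1 hzc ⟨q, hq⟩)
    have hxz : Commute x (z : H) := hkey _ hm x z ((show Commute x y from hxy).pow_right m)
      ((hzq _ (P.pow_mem hy m)).symm) (hXo x hx) z.2
    have hxP : x ∈ Subgroup.centralizer (P : Set H) := Subgroup.mem_centralizer_iff.2 fun q hq =>
      (hkey _ (by rw [Subgroup.orderOf_coe, hzo]) x q hxz (hzq q hq) (hXo x hx) hq).eq.symm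
    exact hx1 (hodd2 x (hXo x hx) (hPC hxP))
  have hdis : ∀ x ∈ X, x ∈ P → x = 1 := fun x hx hxP => hodd2 x (hXo x hx) hxP
  have h2 : ∀ (p : ℕ) [Fact p.Prime] (Q : Sylow p ↥X), IsCyclic ↥(Q : Subgroup ↥X) := by
    intro p _ Q
    rcases subsingleton_or_nontrivial ↥(Q : Subgroup ↥X) with hQ | hQ
    · infer_instance
    have hPbot : P ≠ ⊥ := fun h => by
      have hsub : Subgroup.centralizer (P : Set H) = ⊤ := eq_top_iff.2 fun g _ => Subgroup.mem_centralizer_iff.2 fun q hq => by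
        rw [h] at hq
        rw [Subgroup.mem_bot.1 hq, one_mul, mul_one]
      obtain ⟨g, hg⟩ := exists_ne (1 : (Q : Subgroup ↥X))
      exact hg (Subtype.ext (Subtype.ext (hdis _ (g : X).2 (hPC (hsub ▸ Subgroup.mem_top _)))))
    let V : Subgroup H := (Subgroup.center P).map P.subtype
    haveI : IsMulCommutative V := ⟨⟨fun a b => by
      obtain ⟨a', ha', hae⟩ := a.2
      obtain ⟨b', -, hbe⟩ := b.2
      refine Subtype.ext ?_
      rw [Subgroup.coe_mul, Subgroup.coe_mul, ← hae, ← hbe, ← map_mul, ← map_mul, Subgroup.mem_center_iff.1 ha' b']⟩⟩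
    haveI : V.Normal := ConjAct.normal_of_characteristic_of_normal
    have hV : V ≠ ⊥ := fun h => by
      haveI : Nontrivial P := (Subgroup.nontrivial_iff_ne_bot P).2 hPbot
      haveI := hP2.center_nontrivial
      exact Subgroup.ne_bot_iff_exists_ne_one.2 (exists_ne 1) ((Subgroup.map_eq_bot_iff_of_injective _ P.subtype_injective).1 h)
    let A : Subgroup H := (Q : Subgroup ↥X).map X.subtype
    have hfpf : ∀ a ∈ A, a ≠ 1 → V ⊓ Subgroup.centralizer {a} = ⊥ := by
      rintro _ ⟨a, -, rfl⟩ ha1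
      refine (Subgroup.eq_bot_iff_forall _).2 fun v hv => ?_
      by_contra hv1
      exact h1 a a.2 ha1 v (Subgroup.map_subtype_le _ hv.1) hv1 (Subgroup.mem_centralizer_singleton_iff.1 hv.2).symm
    have hu : Cfsg.Agent.Solv.UniqueOrderP p ↥(Q : Subgroup ↥X) := by
      intro x y hx hy hy1
      obtain ⟨z, -, hzc, hzo⟩ := Cfsg.Agent.Solv.exists_central_order Q.isPGroup' (⊤ : Subgroup ↥(Q : Subgroup ↥X)) top_ne_bot
      have hmem : ∀ w : ↥(Q : Subgroup ↥X), w ^ p = 1 → w ∈ Subgroup.zpowers z := by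
        intro w hw
        let f : ↥(Q : Subgroup ↥X) →* H := X.subtype.comp (Q : Subgroup ↥X).subtype
        have hf : Function.Injective f := X.subtype_injective.comp (Q : Subgroup ↥X).subtype_injective
        have := Cfsg.Agent.Solv.fpf_unique_order (A := A) hV (fun g _ => by rw [Subgroup.normalizer_eq_top]; trivial) hfpf (p := p)
          (x := f w) (y := f z) ⟨_, w.2, rfl⟩ ⟨_, z.2, rfl⟩ ((show Commute w z from Subgroup.mem_center_iff.1 hzc w).map f)
          (by rw [← map_pow, hw, map_one]) (by rw [← map_pow, orderOf_dvd_iff_pow_eq_one.1 hzo.dvd, map_one])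
          (fun h => by
            rw [← map_one f] at h
            rw [hf h, orderOf_one] at hzo
            exact (Fact.out : p.Prime).ne_one hzo.symm)
        obtain ⟨i, hi⟩ := this
        exact ⟨i, hf (by show f (z ^ i) = f w; rw [map_zpow]; exact hi)⟩
      have hle : Subgroup.zpowers y = Subgroup.zpowers z := Subgroup.eq_of_le_of_card_ge (Subgroup.zpowers_le.2 (hmem y hy))
        (by rw [Nat.card_zpowers, Nat.card_zpowers, hzo, orderOf_eq_prime hy hy1])
      exact hle ▸ hmem x hx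
    rcases Cfsg.Agent.Solv.cyclic_or_quaternion Q.isPGroup' hu with h | ⟨rfl, -⟩
    · exact h
    · exfalso
      obtain ⟨k, hk0, hk⟩ := Q.isPGroup'.nontrivial_iff_card.1 hQ
      have := hXodd.of_dvd_nat (Subgroup.card_subgroup_dvd_card (Q : Subgroup ↥X))
      rw [hk, Nat.odd_pow_iff hk0.ne'] at this
      exact Nat.not_odd_iff_even.2 even_two this
  haveI hXZ : IsZGroup X := ⟨fun p hp Q => by haveI := Fact.mk hp; exact h2 p Q⟩
  -- the quotient by P
  let π := QuotientGroup.mk' P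
  have hπs : Function.Surjective π := QuotientGroup.mk'_surjective P
  set Xb := X.map π with hXb
  haveI : IsZGroup Xb := IsZGroup.of_surjective (f := π.subgroupMap X) (π.subgroupMap_surjective X)
  set F := Cfsg.fittingSubgroup (H ⧸ P) with hF
  haveI hFn : F.Normal := Cfsg.Agent.Solv.fittingSubgroup_normal
  have hFnil : Group.IsNilpotent F := Cfsg.Agent.Solv.fittingSubgroup_nilpotent
  haveI : Group.IsSolvable (H ⧸ P) := Group.isSolvable_of_surjective hπs
  have hFX : F ≤ Xb := by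
    refine Cfsg.Agent.Solv.normal_le_of_coprime_index F Xb ?_
    obtain ⟨k, hk⟩ := hXidx
    obtain ⟨i, -, hi⟩ := (Nat.dvd_prime_pow Nat.prime_two).1 (hk ▸ X.index_map_dvd hπs : Xb.index ∣ 2 ^ k)
    rw [hi]
    refine Nat.Coprime.pow_right i ((Nat.Prime.coprime_iff_not_dvd Nat.prime_two).2 fun hd => ?_).symm
    obtain ⟨S⟩ := (inferInstance : Nonempty (Sylow 2 F))
    haveI : (S : Subgroup F).Normal := by
      have h03 : Group.IsNilpotent F ↔ ∀ (p : ℕ), Fact p.Prime → ∀ S : Sylow p F, (S : Subgroup F).Normal :=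
        (Group.isNilpotent_of_finite_tfae (G := F)).out 0 3
      exact h03.1 hFnil 2 h2f S
    haveI : (S : Subgroup F).Characteristic := Sylow.characteristic_of_normal S inferInstance
    haveI : ((S : Subgroup F).map F.subtype).Normal := ConjAct.normal_of_characteristic_of_normal
    have hle : (S : Subgroup F).map F.subtype ≤ Cfsg.pCore 2 (H ⧸ P) :=
      Cfsg.Agent.Fusion.le_pCore (S.isPGroup'.map F.subtype)
    have hbot : Cfsg.pCore 2 (H ⧸ P) = ⊥ := Cfsg.Agent.Fusion.pCore_quotient_eq_bot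
    rw [hbot, le_bot_iff, Subgroup.map_eq_bot_iff_of_injective _ F.subtype_injective] at hle
    have := S.not_dvd_index
    rw [hle, Subgroup.index_bot] at this
    exact this hd
  haveI : IsZGroup F := IsZGroup.of_injective (Subgroup.inclusion_injective hFX)
  haveI hFc : IsCyclic F := inferInstance
  have hFC : Subgroup.centralizer (F : Set (H ⧸ P)) ≤ F := Cfsg.Agent.Solv.centralizer_fitting_le inferInstance
  have hcomm : ∀ a b : H ⧸ P, a * b * a⁻¹ * b⁻¹ ∈ F := by
    intro a b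
    refine hFC (Subgroup.mem_centralizer_iff.2 fun f hf => ?_)
    let φ := MulAut.conjNormal (H := F) (G := H ⧸ P)
    haveI : IsMulCommutative (MulAut F) := by
      exact ⟨⟨fun s t => (IsCyclic.mulAutMulEquiv F).injective (by rw [map_mul, map_mul, mul_comm])⟩⟩
    have h : φ (a * b * a⁻¹ * b⁻¹) = 1 := by
      rw [map_mul, map_mul, map_mul, map_inv, map_inv, mul_comm' (φ a) (φ b), mul_inv_cancel_right, mul_inv_cancel]
    have := congrArg Subtype.val (MulEquiv.congr_fun h ⟨f, hf⟩)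
    rw [MulAut.conjNormal_apply, MulAut.one_apply] at this
    exact (mul_inv_eq_iff_eq_mul.1 this).symm
  haveI hXbn : Xb.Normal := ⟨fun x hx g => by
    have := Xb.mul_mem (hFX (hcomm g x)) hx
    rwa [inv_mul_cancel_right] at this⟩
  have hsup : X ⊔ P = Xb.comap π := by rw [hXb, Subgroup.comap_map_eq, QuotientGroup.ker_mk']
  have hN : (X ⊔ P).Normal := hsup ▸ inferInstance
  refine ⟨h1, h2, hN, fun _ => ?_⟩
  haveI := hN
  have hQ2 : IsPGroup 2 (H ⧸ (X ⊔ P)) := by
    obtain ⟨k, hk⟩ := hXidx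
    obtain ⟨i, -, hi⟩ := (Nat.dvd_prime_pow Nat.prime_two).1 (hk ▸ Subgroup.index_dvd_of_le le_sup_left : (X ⊔ P).index ∣ 2 ^ k)
    exact IsPGroup.of_card ((Subgroup.index_eq_card _).symm.trans hi)
  refine ⟨?_, hQ2⟩
  set q := QuotientGroup.mk' (X ⊔ P) with hq
  have hQc : ∀ a b : H ⧸ (X ⊔ P), a * b = b * a := by
    intro a b
    obtain ⟨a, rfl⟩ := QuotientGroup.mk'_surjective _ a
    obtain ⟨b, rfl⟩ := QuotientGroup.mk'_surjective _ b
    have : a * b * a⁻¹ * b⁻¹ ∈ X ⊔ P := by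
      rw [hsup, Subgroup.mem_comap, map_mul, map_mul, map_mul, map_inv, map_inv]
      exact hFX (hcomm _ _)
    have h := (QuotientGroup.eq_one_iff _).2 this
    change q (a * b * a⁻¹ * b⁻¹) = 1 at h
    rw [map_mul, map_mul, map_mul, map_inv, map_inv] at h
    exact mul_inv_eq_iff_eq_mul.1 (mul_inv_eq_one.1 h)
  by_contra hnc
  have hu : ¬ Cfsg.Agent.Solv.UniqueOrderP 2 (H ⧸ (X ⊔ P)) := fun hu => hnc (by
    obtain ⟨g, -, hg⟩ := Cfsg.Agent.Solv.abelian_cyclic_of_unique hQ2 hu ⊤ (fun a _ b _ => hQc a b)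
    exact ⟨⟨g, fun x => by show x ∈ Subgroup.zpowers g; rw [← hg]; trivial⟩⟩)
  simp only [Cfsg.Agent.Solv.UniqueOrderP, not_forall] at hu
  obtain ⟨A, B, hA2, hB2, hB1, hAB⟩ := hu
  -- lift into a Sylow 2-subgroup
  obtain ⟨S⟩ := (inferInstance : Nonempty (Sylow 2 H))
  have hPS : P ≤ S := Cfsg.Agent.Fusion.pCore_le_sylow S
  have hlift : ∀ g : H ⧸ (X ⊔ P), ∃ s ∈ (S : Subgroup H), q s = g := by
    intro g
    have htop : (S : Subgroup H).map q = ⊤ := by
      let T := Sylow.mapSurjective (QuotientGroup.mk'_surjective (X ⊔ P)) S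
      have hT : (T : Subgroup (H ⧸ (X ⊔ P))) = ⊤ :=
        (T.is_maximal' (hQ2.to_subgroup ⊤) le_top).symm
      rwa [Sylow.coe_mapSurjective] at hT
    exact (htop ▸ Subgroup.mem_top g : g ∈ (S : Subgroup H).map q)
  have hsq : ∀ s ∈ (S : Subgroup H), q s ^ 2 = 1 → s ^ 2 ∈ P := by
    intro s hs h
    rw [← map_pow] at h
    have h' : s ^ 2 ∈ X ⊔ P := (QuotientGroup.eq_one_iff _).1 h
    obtain ⟨x, hx, p, hp, hxp⟩ := (Subgroup.mem_sup_of_normal_right (s := X) (t := P)).1 h'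
    have hxS : x ∈ (S : Subgroup H) := by
      rw [eq_mul_inv_of_mul_eq hxp]
      exact S.mul_mem (S.pow_mem hs 2) (S.inv_mem (hPS hp))
    obtain ⟨k, hk⟩ := S.isPGroup' ⟨x, hxS⟩
    have hx1 : x = 1 := orderOf_eq_one_iff.1 (Nat.eq_one_of_dvd_coprimes ((hXo x hx).coprime_two_right.pow_right k) dvd_rfl
      (orderOf_dvd_of_pow_eq_one (congrArg Subtype.val hk)))
    rw [← hxp, hx1, one_mul]
    exact hp
  have hA1 : A ≠ 1 := fun h => hAB (h ▸ Subgroup.one_mem _)
  have hAB' : A * B ≠ 1 := fun h => hAB (by rw [eq_inv_of_mul_eq_one_left h]; exact Subgroup.inv_mem _ (Subgroup.mem_zpowers B))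
  obtain ⟨a, ha, haq⟩ := hlift A
  obtain ⟨b, hb, hbq⟩ := hlift B
  -- a nontrivial element of prime order in F
  haveI : Nontrivial F := by
    rw [Subgroup.nontrivial_iff_ne_bot]
    intro h
    apply hA1
    have h2 : π a ∈ F := hFC (Subgroup.mem_centralizer_iff.2 fun f hf => by rw [h] at hf; rw [Subgroup.mem_bot.1 hf, one_mul, mul_one])
    rw [h, Subgroup.mem_bot] at h2
    rw [← haq]
    exact (QuotientGroup.eq_one_iff _).2 (Subgroup.mem_sup_right ((QuotientGroup.eq_one_iff a).1 h2))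
  obtain ⟨p, hp, hpd⟩ := Nat.exists_prime_and_dvd (Finite.one_lt_card (α := F)).ne'
  haveI := Fact.mk hp
  obtain ⟨f, hf⟩ := exists_prime_orderOf_dvd_card' p hpd
  -- each involution fixes or inverts f
  have hpm : ∀ s ∈ (S : Subgroup H), s ^ 2 ∈ P → π s * (f : H ⧸ P) * (π s)⁻¹ = f ∨ π s * (f : H ⧸ P) * (π s)⁻¹ = (f : H ⧸ P)⁻¹ := by
    intro s hs h
    let φ := MulAut.conjNormal (H := F) (G := H ⧸ P)
    obtain ⟨m, hm⟩ := MonoidHom.map_cyclic (φ (π s)).toMonoidHom
    have hm' : ∀ g : F, φ (π s) g = g ^ m := hm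
    have hss : φ (π s) (φ (π s) f) = f := by
      rw [← MulAut.mul_apply, ← map_mul, ← map_mul, ← pow_two, show π (s ^ 2) = 1 from (QuotientGroup.eq_one_iff _).2 h, map_one]
      rfl
    rw [hm', hm', ← zpow_mul] at hss
    have hd : (p : ℤ) ∣ (m - 1) * (m + 1) := by
      have : f ^ (m * m - 1) = 1 := by rw [zpow_sub, hss, zpow_one, mul_inv_cancel]
      rw [← orderOf_dvd_iff_zpow_eq_one, hf] at this
      rwa [show (m - 1) * (m + 1) = m * m - 1 by ring]
    have hval : π s * (f : H ⧸ P) * (π s)⁻¹ = ((f ^ m : F) : H ⧸ P) := by rw [← hm' f, MulAut.conjNormal_apply]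
    rcases (Nat.prime_iff_prime_int.1 hp).dvd_mul.1 hd with h' | h'
    · left
      have : f ^ (m - 1) = 1 := by rw [← orderOf_dvd_iff_zpow_eq_one, hf]; exact h'
      rw [hval, show f ^ m = f by rw [← sub_add_cancel m 1, zpow_add, this, one_mul, zpow_one]]
    · right
      have : f ^ (m + 1) = 1 := by rw [← orderOf_dvd_iff_zpow_eq_one, hf]; exact h'
      rw [hval, show f ^ m = f⁻¹ by rw [← add_sub_cancel_right m 1, zpow_sub, this, one_mul, zpow_one]]
      rfl
  obtain ⟨v, hv, hvq, hv2, hvf⟩ : ∃ v ∈ (S : Subgroup H), q v ≠ 1 ∧ v ^ 2 ∈ P ∧ π v * (f : H ⧸ P) * (π v)⁻¹ = f := by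
    have ha2 : a ^ 2 ∈ P := hsq a ha (by rw [haq, hA2])
    have hb2 : b ^ 2 ∈ P := hsq b hb (by rw [hbq, hB2])
    have hab2 : (a * b) ^ 2 ∈ P := hsq _ (S.mul_mem ha hb) (by
      rw [map_mul, haq, hbq, (show Commute A B from hQc A B).mul_pow, hA2, hB2, one_mul])
    rcases hpm a ha ha2 with h | h
    · exact ⟨a, ha, haq ▸ hA1, ha2, h⟩
    rcases hpm b hb hb2 with h' | h'
    · exact ⟨b, hb, hbq ▸ hB1, hb2, h'⟩
    refine ⟨a * b, S.mul_mem ha hb, by rw [map_mul, haq, hbq]; exact hAB', hab2, ?_⟩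
    calc π (a * b) * (f : H ⧸ P) * (π (a * b))⁻¹ = π a * (π b * (f : H ⧸ P) * (π b)⁻¹) * (π a)⁻¹ := by rw [map_mul]; group
      _ = (π a * (f : H ⧸ P) * (π a)⁻¹)⁻¹ := by rw [h']; group
      _ = f := by rw [h, inv_inv]
  obtain ⟨x, hx, hxf⟩ := hFX f.2
  have hx1 : x ≠ 1 := fun h => by
    rw [h, map_one] at hxf
    have : f = 1 := Subtype.ext hxf.symm
    rw [this, orderOf_one] at hf
    exact hp.ne_one hf.symm
  let W := Subgroup.zpowers v ⊔ P
  have hWS : W ≤ S := sup_le (Subgroup.zpowers_le.2 hv) hPS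
  have hvx : v⁻¹ * (x * v * x⁻¹) ∈ P := by
    rw [← QuotientGroup.eq_one_iff]
    change π (v⁻¹ * (x * v * x⁻¹)) = 1
    rw [map_mul, map_inv, map_mul, map_mul, map_inv, hxf, ← mul_inv_eq_iff_eq_mul.1 hvf]
    group
  have hAK : Subgroup.zpowers x ≤ Subgroup.normalizer (W : Set H) := by
    rw [Subgroup.zpowers_le, Subgroup.mem_normalizer_iff_map_conj_eq]
    refine Subgroup.eq_of_le_of_card_ge ?_ (Subgroup.card_map_of_injective (MulAut.conj x).injective).ge
    rw [Subgroup.map_sup, MonoidHom.map_zpowers]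
    refine sup_le (Subgroup.zpowers_le.2 ?_) (le_trans (Subgroup.Normal.map_conj_eq P x).le le_sup_right)
    show x * v * x⁻¹ ∈ W
    rw [← mul_inv_cancel_left v (x * v * x⁻¹)]
    exact Subgroup.mul_mem_sup (Subgroup.mem_zpowers v) hvx
  obtain ⟨jW, hjW⟩ := IsPGroup.iff_card.1 (S.isPGroup'.to_le hWS)
  obtain ⟨c, hc, hcv⟩ := Cfsg.Agent.Solv.exists_fixed_in_coset' (Subgroup.zpowers x) W P hAK
    (by rw [Nat.card_zpowers, hjW]; exact (hXo x hx).coprime_two_right.pow_right jW)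
    (Or.inl (Group.isSolvable_of_comm fun ⟨_, i, hi⟩ ⟨_, j, hj⟩ => Subtype.ext (by subst hi hj; exact ((Commute.refl x).zpow_zpow i j).eq))) le_sup_right
    (by rw [Subgroup.normalizer_eq_top]; exact le_top) (Subgroup.mem_sup_left (Subgroup.mem_zpowers v))
    (by
      rintro _ ⟨n, rfl⟩
      rw [← QuotientGroup.eq_one_iff]
      change π (v⁻¹ * (x ^ n * v * (x ^ n)⁻¹)) = 1
      rw [map_mul, map_inv, map_mul, map_mul, map_inv, map_zpow, hxf]
      have : Commute (π v) (f : H ⧸ P) := mul_inv_eq_iff_eq_mul.1 hvf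
      rw [← (this.zpow_right n).eq]
      group)
  have hcx : Commute x c := Subgroup.mem_centralizer_iff.1 hc.2 x (Subgroup.mem_zpowers x)
  have hcP : c ∉ P := fun h => hvq ((QuotientGroup.eq_one_iff v).2 (Subgroup.mem_sup_right (by
    have := P.mul_mem h (P.inv_mem hcv)
    rwa [mul_inv_rev, inv_inv, mul_inv_cancel_left] at this)))
  obtain ⟨kc, hkc⟩ := S.isPGroup' ⟨c, hWS hc.1⟩
  obtain ⟨m, hm⟩ := hinvo c (fun h => hcP (h ▸ P.one_mem)) ⟨kc, congrArg Subtype.val hkc⟩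
  have hum : c ^ m ≠ 1 := fun h => by rw [h, orderOf_one] at hm; omega
  by_cases huP : c ^ m ∈ P
  · exact h1 x hx hx1 _ huP hum (hcx.pow_right m).eq
  have hPbot : P ≠ ⊥ := fun h => huP (hPC (Subgroup.mem_centralizer_iff.2 fun y hy => by
    rw [h] at hy
    rw [Subgroup.mem_bot.1 hy, one_mul, mul_one]))
  obtain ⟨z, hzP, hzc, hzo⟩ := Cfsg.Agent.Solv.exists_central_order S.isPGroup' (P.subgroupOf S) (fun h => hPbot (by
    rwa [Subgroup.subgroupOf_eq_bot, disjoint_iff, inf_eq_left.2 hPS] at h))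
  have hzu : Commute (z : H) (c ^ m) := (congrArg Subtype.val
    (Subgroup.mem_center_iff.1 hzc ⟨c ^ m, S.pow_mem (hWS hc.1) m⟩)).symm
  exact h1 x hx hx1 z hzP (fun h => by
    have : z = 1 := Subtype.ext h
    rw [this, orderOf_one] at hzo; omega)
    (hkey _ hm x z (hcx.pow_right m) hzu (hXo x hx) hzP).eq

end Cfsg.Agent.S3215
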