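import Cfsg.Statements.S3222
import Cfsg.Agent.Lib.Lead.CentTwoSFour
import Cfsg.Agent.Lib.Perm.Fpf.Solvable

set_option autoImplicit false
open Cfsg

namespace Cfsg.Agent.S3222

open Cfsg.Agent.Lead.CentTwoSFour

/-- Let G be a finite group of even order such that (1) some involution t lying in the centre of a Sylow 2-subgroup of G has C_G(t) ≅ Z₂ × S₄, and (2) every Sylow 2-subgroup S of G satisfies C_G(S′) = S, where S′ is the derived subgroup of S. Then G = C_G(t) if G is solvable, and G ≅ S₆ otherwise. -/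
theorem result {G : Type*} [Group G] [Finite G] (hev : Even (Nat.card G))
    (t : G) (ht : orderOf t = 2) (T : Sylow 2 G) (htT : t ∈ (T : Subgroup G)) (htc : ∀ s ∈ (T : Subgroup G), s * t = t * s)
    (e : ↥(Subgroup.centralizer ({t} : Set G)) ≃* (Multiplicative (ZMod 2) × Equiv.Perm (Fin 4)))
    (h2 : ∀ S : Sylow 2 G, Subgroup.centralizer ((⁅(S : Subgroup G), (S : Subgroup G)⁆ : Subgroup G) : Set G) = (S : Subgroup G)) :
    (Group.IsSolvable G → Subgroup.centralizer ({t} : Set G) = ⊤) ∧
      (¬ Group.IsSolvable G → Nonempty (G ≃* Equiv.Perm (Fin 6))) := by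
  classical
  haveI : Fact (Nat.Prime 2) := ⟨Nat.prime_two⟩
  set C := Subgroup.centralizer ({t} : Set G) with hC
  have htC : t ∈ C := Subgroup.mem_centralizer_singleton_iff.2 rfl
  have hca : e ⟨t, htC⟩ = ca := by
    refine (central_eq _ fun c => ?_).resolve_left fun h => ?_
    · rw [← e.apply_symm_apply c, ← map_mul, ← map_mul]
      exact congrArg e (Subtype.ext (Subgroup.mem_centralizer_singleton_iff.1 (e.symm c).2))
    · have h1 : t = 1 := congrArg Subtype.val (e.map_eq_one_iff.1 h)
      rw [h1, orderOf_one] at ht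
      omega
  have hC48 : Nat.card C = 48 := by
    rw [Nat.card_congr e.toEquiv, Nat.card_eq_fintype_card]
    simp [Fintype.card_perm]
    rfl
  have hTC : (T : Subgroup G) ≤ C := fun s hs => Subgroup.mem_centralizer_singleton_iff.2 (htc s hs)
  have h16 : ∀ S : Sylow 2 G, Nat.card (S : Subgroup G) = 16 := by
    intro S
    rw [S.card_eq_multiplicity, ← T.card_eq_multiplicity]
    obtain ⟨k, hk⟩ := IsPGroup.iff_card.1 T.2
    have hd : 2 ^ k ∣ 48 := hk ▸ hC48 ▸ Subgroup.card_dvd_of_le hTC
    have h16G : 2 ^ 4 ∣ Nat.card G :=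
      (show 2 ^ 4 ∣ 48 by norm_num).trans (hC48 ▸ Subgroup.card_subgroup_dvd_card C)
    have h4 : 2 ^ 4 ∣ 2 ^ k := hk ▸ T.pow_dvd_card_of_pow_dvd_card h16G
    rw [Nat.pow_dvd_pow_iff_le_right (by norm_num)] at h4
    have h5 : k ≤ 4 := by
      by_contra hlt
      have := (pow_dvd_pow 2 (show 5 ≤ k by omega)).trans hd
      norm_num at this
    rw [hk, show k = 4 by omega]
    rfl
  let K : Ctx G :=
    { t := t
      ι := C.subtype.comp e.symm.toMonoidHom
      ht := ht
      hι := C.subtype_injective.comp e.symm.injective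
      hmem := fun g => ⟨fun h => ⟨e ⟨g, Subgroup.mem_centralizer_singleton_iff.2 h⟩, by simp⟩, by
        rintro ⟨q, rfl⟩
        exact Subgroup.mem_centralizer_singleton_iff.1 (e.symm q).2⟩
      hca := by
        rw [← hca]
        simp
      h16 := h16
      hself := h2 }
  rcases K.dichotomy with h | ⟨⟨f⟩⟩
  · refine ⟨fun _ => h, fun hns => absurd ?_ hns⟩
    have : Group.IsSolvable (Multiplicative (ZMod 2) × Equiv.Perm (Fin 4)) := by
      have : Group.IsSolvable (Equiv.Perm (Fin 4)) := Cfsg.Agent.Perm.Fpf.solvable_perm_four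
      infer_instance
    let f : G ≃* (Multiplicative (ZMod 2) × Equiv.Perm (Fin 4)) :=
      (Subgroup.topEquiv.symm.trans (MulEquiv.subgroupCongr h.symm)).trans e
    exact Group.isSolvable_of_isSolvable_injective (f := f.toMonoidHom) f.injective
  · refine ⟨fun hs => absurd ?_ (Equiv.Perm.not_isSolvable_fin_5), fun _ => ⟨f⟩⟩
    have : Group.IsSolvable (Equiv.Perm (Fin 6)) := Group.isSolvable_of_surjective (f := f.toMonoidHom) f.surjective
    exact Group.isSolvable_of_isSolvable_injective
      (Equiv.Perm.viaEmbeddingHom_injective (Fin.castLEEmb (by norm_num : 5 ≤ 6)))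

end Cfsg.Agent.S3222
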