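import Cfsg.Statements.S3225
import Mathlib
-- import your own Cfsg.Agent.* helpers here

set_option autoImplicit false
open Cfsg

namespace Cfsg.Agent.S3225

/-- Let G be a finite group of even order with no subgroup of index 2, S a Sylow 2-subgroup of G and M a subgroup of index 2 in S such that, for some n ≥ 1, every element of S outside M has order greater than 2^(n−1). Then every element of S of order 2ⁿ is conjugate in G to an element of M. -/
theorem result {G : Type*} [Group G] [Finite G] (hev : Even (Nat.card G))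
    (hG : ∀ H : Subgroup G, H.index ≠ 2) (S : Sylow 2 G) (M : Subgroup G) (hMS : M ≤ (S : Subgroup G)) (hM : M.relIndex (S : Subgroup G) = 2)
    (n : ℕ) (hn : 1 ≤ n) (hord : ∀ y ∈ (S : Subgroup G), y ∉ M → 2 ^ (n - 1) < orderOf y)
    (x : G) (hx : x ∈ (S : Subgroup G)) (hxn : orderOf x = 2 ^ n) :
    ∃ g : G, g * x * g⁻¹ ∈ M := by
  classical
  have _ := hev
  have _ := hMS
  haveI : Fact (Nat.Prime 2) := ⟨Nat.prime_two⟩
  by_contra hcon
  push Not at hcon
  have hMi : (M.subgroupOf (S : Subgroup G)).index = 2 := hM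
  let ϕ : (S : Subgroup G) →* ℤˣ :=
    { toFun := fun s => if s ∈ M.subgroupOf (S : Subgroup G) then 1 else -1
      map_one' := if_pos (one_mem _)
      map_mul' := fun a b => by
        have h := Subgroup.mul_mem_iff_of_index_two hMi (a := a) (b := b)
        by_cases ha : a ∈ M.subgroupOf (S : Subgroup G) <;>
          by_cases hb : b ∈ M.subgroupOf (S : Subgroup G) <;>
          simp [ha, hb, h] }
  letI := Fintype.ofFinite (Quotient (MulAction.orbitRel (Subgroup.zpowers x) (G ⧸ (S : Subgroup G))))
  let L : Quotient (MulAction.orbitRel (Subgroup.zpowers x) (G ⧸ (S : Subgroup G))) → ℕ :=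
    fun q => Function.minimalPeriod (x • ·) q.out
  have hL : ∀ q, L q ∣ 2 ^ n := fun q =>
    Function.IsPeriodicPt.minimalPeriod_dvd (by
      show (x • ·)^[2 ^ n] q.out = q.out
      rw [smul_iterate, ← hxn, pow_orderOf_eq_one]; exact one_smul _ _)
  have hfac : ∀ q, ϕ ⟨q.out.out⁻¹ * x ^ L q * q.out.out, QuotientGroup.out_conj_pow_minimalPeriod_mem _ x q.out⟩ =
      if L q = 1 then -1 else 1 := by
    intro q
    show (if _ then (1 : ℤˣ) else -1) = _
    simp only [Subgroup.mem_subgroupOf]
    by_cases h1 : L q = 1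
    · rw [if_pos h1, if_neg]
      have := hcon q.out.out⁻¹
      rw [inv_inv] at this
      rwa [h1, pow_one]
    · rw [if_neg h1, if_pos]
      by_contra hnot
      have h2 := hord _ (QuotientGroup.out_conj_pow_minimalPeriod_mem _ x q.out) hnot
      have h3 : (q.out.out⁻¹ * x ^ L q * q.out.out) ^ 2 ^ (n - 1) = 1 := by
        obtain ⟨j, hj, hj'⟩ := (Nat.dvd_prime_pow Nat.prime_two).1 (hL q)
        have e : q.out.out⁻¹ * x ^ L q * q.out.out = MulAut.conj q.out.out⁻¹ (x ^ L q) := by simp
        rw [e, ← map_pow, ← pow_mul]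
        refine (congrArg _ (orderOf_dvd_iff_pow_eq_one.1 ?_)).trans (map_one _)
        rw [hxn, hj', ← pow_add]
        have : j ≠ 0 := fun h => h1 (by rw [hj', h, pow_zero])
        exact pow_dvd_pow 2 (by omega)
      have := orderOf_le_of_pow_eq_one (pow_pos two_pos _) h3
      exact absurd h2 (not_lt.2 this)
  have hodd : Odd (Finset.univ.filter fun q => L q = 1).card := by
    have hsum : (S : Subgroup G).index = ∑ q, L q := by
      rw [Subgroup.index, Nat.card_congr (Subgroup.quotientEquivSigmaZMod (S : Subgroup G) x), Nat.card_sigma]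
      exact Finset.sum_congr rfl fun q _ => Nat.card_zmod _
    have h := S.not_dvd_index
    rw [hsum, Nat.two_dvd_ne_zero] at h
    suffices e : (Finset.univ.filter fun q => L q = 1).card % 2 = (∑ q, L q) % 2 by
      rw [Nat.odd_iff, e, h]
    rw [Finset.card_filter, Finset.sum_nat_mod]
    conv_rhs => rw [Finset.sum_nat_mod]
    congr 1
    refine Finset.sum_congr rfl fun q _ => ?_
    obtain ⟨j, hj, hj'⟩ := (Nat.dvd_prime_pow Nat.prime_two).1 (hL q)
    by_cases h1 : L q = 1
    · rw [if_pos h1, h1]
    · rw [if_neg h1, hj']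
      rcases j with _ | j
      · exact absurd (by rw [hj', pow_zero]) h1
      · rw [pow_succ]; simp
  have hτ : MonoidHom.transfer ϕ x = -1 := by
    rw [MonoidHom.transfer_eq_prod_quotient_orbitRel_zpowers_quot]
    rw [Finset.prod_congr rfl fun q _ => hfac q, Finset.prod_ite, Finset.prod_const, Finset.prod_const_one,
      mul_one, hodd.neg_one_pow]
  refine hG (MonoidHom.transfer ϕ).ker ?_
  have hsurj : Function.Surjective (MonoidHom.transfer ϕ) := by
    intro u
    rcases Int.units_eq_one_or u with rfl | rfl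
    · exact ⟨1, map_one _⟩
    · exact ⟨x, hτ⟩
  rw [Subgroup.index_ker, MonoidHom.range_eq_top.2 hsurj, Subgroup.card_top, Nat.card_eq_fintype_card]
  rfl

end Cfsg.Agent.S3225
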