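import Cfsg.Statements.S3231
import Cfsg.Agent.Lib.Spor.CHZ.XMain

set_option autoImplicit false
open Cfsg

namespace Cfsg.Agent.S3231

/-- Let G be a finite group with an involution z, H = C_G(z), such that J = O₂(H) is extraspecial of order 2⁹ with C_H(J) ≤ J and H/J ≅ Aut(PSp₄(3)). Then either G has a subgroup G₀ of index 2 with G₀ ≅ U₆(2) and C_G(G₀) = 1 (so that G embeds in Aut(G₀)), or G = H·O(G). -/
theorem result {G : Type*} [Group G] [Finite G] (z : G) (hz : orderOf z = 2)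
    {F : Type*} [Field F] [Fintype F] (hF : Fintype.card F = 3) {K : Type*} [Field K] [Fintype K] (hK : Fintype.card K = 4)
    (hJ : Cfsg.IsExtraspecial 2 ↥(Cfsg.pCore 2 ↥(Subgroup.centralizer ({z} : Set G)))) (hJc : Nat.card ↥(Cfsg.pCore 2 ↥(Subgroup.centralizer ({z} : Set G))) = 2 ^ 9)
    (hCJ : Subgroup.centralizer ((Cfsg.pCore 2 ↥(Subgroup.centralizer ({z} : Set G))) : Set ↥(Subgroup.centralizer ({z} : Set G))) ≤ Cfsg.pCore 2 ↥(Subgroup.centralizer ({z} : Set G))) [hJn : (Cfsg.pCore 2 ↥(Subgroup.centralizer ({z} : Set G))).Normal]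
    (e : (↥(Subgroup.centralizer ({z} : Set G)) ⧸ Cfsg.pCore 2 ↥(Subgroup.centralizer ({z} : Set G))) ≃* MulAut (Cfsg.PSp 2 F)) :
    (∃ G₀ : Subgroup G, G₀.index = 2 ∧ Nonempty (↥G₀ ≃* Cfsg.PSU 6 K 2) ∧ Subgroup.centralizer (G₀ : Set G) = ⊥) ∨
      Subgroup.centralizer ({z} : Set G) ⊔ Cfsg.oddCore G = ⊤ := by
  classical
  obtain ⟨C, hC⟩ : ∃ C, C = Subgroup.centralizer ({z} : Set G) := ⟨_, rfl⟩
  obtain ⟨v⟩ := Cfsg.Agent.Spor.CHZ.exists_autIso (F := F) hF
  let θ : (↥(Subgroup.centralizer ({z} : Set G)) ⧸ Cfsg.pCore 2 ↥(Subgroup.centralizer ({z} : Set G))) ≃*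
      ↥Cfsg.Agent.Spor.CHZ.Gam := e.trans v
  have hsub := hJ.1.2.2
  have hzcent : ∀ c : ↥(Subgroup.centralizer ({z} : Set G)), Commute (c : G) z := fun c =>
    Subgroup.mem_centralizer_singleton_iff.mp c.2
  obtain ⟨zC, hzC⟩ : ∃ zC : ↥(Subgroup.centralizer ({z} : Set G)), (zC : G) = z :=
    ⟨⟨z, Subgroup.mem_centralizer_singleton_iff.mpr rfl⟩, rfl⟩
  have hzall : ∀ c : ↥(Subgroup.centralizer ({z} : Set G)), c * zC = zC * c := fun c => Subtype.ext (by
    rw [Subgroup.coe_mul, Subgroup.coe_mul, hzC]; exact (hzcent c).eq)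
  have hzJ : zC ∈ Cfsg.pCore 2 ↥(Subgroup.centralizer ({z} : Set G)) :=
    hCJ (Subgroup.mem_centralizer_iff.mpr fun x _ => hzall x)
  generalize hJdef : Cfsg.pCore 2 ↥(Subgroup.centralizer ({z} : Set G)) = J at hJ hJc hCJ hJn e θ hsub hzJ
  have hz1 : z ≠ 1 := fun h => by rw [h, orderOf_one] at hz; omega
  have hz2 : z * z = 1 := by rw [← pow_two, ← hz, pow_orderOf_eq_one]
  have hcJ : ∀ x : ↥J, x ∈ Subgroup.center ↥J → x = 1 ∨ x = ⟨zC, hzJ⟩ := by
    intro x hx
    have hzc : (⟨zC, hzJ⟩ : ↥J) ∈ Subgroup.center ↥J :=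
      Subgroup.mem_center_iff.mpr fun y => Subtype.ext (hzall y)
    obtain ⟨a, b, hab, huniv⟩ := Nat.card_eq_two_iff.mp hJ.2
    have hmem : ∀ y : Subgroup.center ↥J, y = a ∨ y = b := fun y => by
      have := huniv ▸ Set.mem_univ y
      simpa using this
    have hne : (⟨_, hzc⟩ : Subgroup.center ↥J) ≠ 1 := fun h => hz1 (by
      rw [← hzC]; exact congrArg (fun q : Subgroup.center ↥J => (((q : ↥J) : ↥(Subgroup.centralizer ({z} : Set G))) : G)) h)
    rcases hmem ⟨x, hx⟩ with h | h <;> rcases hmem 1 with h1 | h1 <;> rcases hmem ⟨_, hzc⟩ with h2 | h2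
    all_goals first
      | exact Or.inl (congrArg Subtype.val (h.trans h1.symm))
      | exact Or.inr (congrArg Subtype.val (h.trans h2.symm))
      | exact absurd (h2.trans h1.symm) hne
  have hcommJ : ∀ x y : ↥J, x * y * x⁻¹ * y⁻¹ ∈ Subgroup.center ↥J := fun x y => by
    rw [← hsub]
    exact Subgroup.commutator_mem_commutator (Subgroup.mem_top x) (Subgroup.mem_top y)
  obtain ⟨Q, hQ⟩ : ∃ Q : Subgroup G, Q = J.map (Subgroup.centralizer ({z} : Set G)).subtype := ⟨_, rfl⟩
  have hmemQ : ∀ {x}, x ∈ Q → ∃ a : ↥J, ((a : ↥(Subgroup.centralizer ({z} : Set G))) : G) = x := fun hx => by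
    obtain ⟨a, ha, rfl⟩ := hQ ▸ hx
    exact ⟨⟨a, ha⟩, rfl⟩
  have hQmem : ∀ a : ↥J, ((a : ↥(Subgroup.centralizer ({z} : Set G))) : G) ∈ Q := fun a =>
    hQ ▸ ⟨(a : ↥(Subgroup.centralizer ({z} : Set G))), a.2, rfl⟩
  refine Cfsg.Agent.Spor.CHZ.main_xcore
    { Q := Q
      ψ := θ.toMonoidHom.comp (QuotientGroup.mk' J)
      ψ_surj := θ.surjective.comp (QuotientGroup.mk'_surjective J)
      ψ_ker := fun c => by
        rw [MonoidHom.comp_apply]
        show θ _ = 1 ↔ _
        rw [MulEquiv.map_eq_one_iff, QuotientGroup.mk'_apply, QuotientGroup.eq_one_iff, hQ]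
        exact ⟨fun h => ⟨c, h, rfl⟩, fun ⟨a, ha, h⟩ => Subtype.ext h ▸ ha⟩
      z1 := hz1
      z2 := hz2
      cent := fun x hx => by obtain ⟨a, rfl⟩ := hmemQ hx; exact hzcent a
      normal := fun c hc x hx => by
        obtain ⟨a, rfl⟩ := hmemQ hx
        exact hQmem ⟨(⟨c, Subgroup.mem_centralizer_singleton_iff.mpr hc.eq⟩ :
          ↥(Subgroup.centralizer ({z} : Set G))) * a * (⟨c, Subgroup.mem_centralizer_singleton_iff.mpr hc.eq⟩ :
          ↥(Subgroup.centralizer ({z} : Set G)))⁻¹, hJn.conj_mem _ a.2 _⟩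
      zQ := hzC ▸ hQmem ⟨zC, hzJ⟩
      card := by
        rw [hQ, Subgroup.card_map_of_injective Subtype.val_injective, hJc]
        norm_num
      comm := fun x hx y hy => by
        obtain ⟨a, rfl⟩ := hmemQ hx
        obtain ⟨b, rfl⟩ := hmemQ hy
        rcases hcJ _ (hcommJ a b) with h | h
        · exact Or.inl (congrArg (fun q : ↥J => ((q : ↥(Subgroup.centralizer ({z} : Set G))) : G)) h)
        · exact Or.inr ((congrArg (fun q : ↥J => ((q : ↥(Subgroup.centralizer ({z} : Set G))) : G)) h).trans hzC)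
      sq := fun x hx => by
        obtain ⟨a, rfl⟩ := hmemQ hx
        have hc : a * a ∈ Subgroup.center ↥J := Subgroup.mem_center_iff.mpr fun b => by
          have hk : ∀ q : ↥J, q ∈ Subgroup.center ↥J → q * q = 1 := fun q hq => by
            rcases hcJ q hq with rfl | rfl
            · exact one_mul _
            · exact Subtype.ext (Subtype.ext (by
                show (zC : G) * zC = 1
                rw [hzC, hz2]))
          obtain ⟨k, hk'⟩ : ∃ k, k = a * b * a⁻¹ * b⁻¹ := ⟨_, rfl⟩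
          have hkc := hcommJ a b
          rw [← hk'] at hkc
          have e1 : a * b * a⁻¹ = k * b := by rw [hk']; group
          symm
          calc a * a * b = a * (a * b * a⁻¹) * a⁻¹ * (a * a) := by group
            _ = a * (k * b) * a⁻¹ * (a * a) := by rw [e1]
            _ = a * k * a⁻¹ * (a * b * a⁻¹) * (a * a) := by group
            _ = k * (k * b) * (a * a) := by rw [e1, Subgroup.mem_center_iff.mp hkc a, mul_inv_cancel_right]
            _ = b * (a * a) := by rw [← mul_assoc k, hk k hkc, one_mul]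
        rcases hcJ _ hc with h | h
        · exact Or.inl (congrArg (fun q : ↥J => ((q : ↥(Subgroup.centralizer ({z} : Set G))) : G)) h)
        · exact Or.inr ((congrArg (fun q : ↥J => ((q : ↥(Subgroup.centralizer ({z} : Set G))) : G)) h).trans hzC)
      center := fun x hx h => by
        obtain ⟨a, rfl⟩ := hmemQ hx
        rcases hcJ a (Subgroup.mem_center_iff.mpr fun b =>
          Subtype.ext (Subtype.ext (h _ (hQmem b)).symm.eq)) with h' | h'
        · exact Or.inl (by rw [h']; rfl)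
        · exact Or.inr (by rw [h']; exact hzC)
      self := fun c hc h => by
        exact hQmem ⟨⟨c, Subgroup.mem_centralizer_singleton_iff.mpr hc.eq⟩, hCJ
          (Subgroup.mem_centralizer_iff.mpr fun a ha => Subtype.ext (h _ (hQmem ⟨a, ha⟩)).symm.eq)⟩ } hz hK

end Cfsg.Agent.S3231
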