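import Cfsg.Statements.S3237
import Cfsg.Agent.Lib.Spor.AutPSLFour.Fused
import Cfsg.Agent.Lib.Spor.AutPSLFour.Simple
import Cfsg.Agent.Lib.Spor.AutPSLFour.Ident
-- import your own Cfsg.Agent.* helpers here

set_option autoImplicit false
open Cfsg

namespace Cfsg.Agent.S3237

/-- Let G be a finite group of even order with an involution z, H = C_G(z), such that H has a normal subgroup E of order 32 that is extraspecial and contains no elementary abelian subgroup of order 8 (the central product of a dihedral group of order 8 with a quaternion group), C_H(E) ≤ E, and H/E ≅ S₄. Then O(G) is abelian, and if G is not solvable then G is isomorphic to the automorphism group of PGL₃(4). -/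
theorem result {G : Type*} [Group G] [Finite G]
    (hev : Even (Nat.card G)) (z : G) (hz : orderOf z = 2)
    (E : Subgroup ↥(Subgroup.centralizer ({z} : Set G))) [hEn : E.Normal] (hE : Cfsg.IsExtraspecial 2 ↥E) (hE32 : Nat.card ↥E = 32)
    (hEminus : ∀ A : Subgroup ↥E, Cfsg.IsElementaryAbelian 2 A → Nat.card ↥A ≠ 8)
    (hCE : Subgroup.centralizer (E : Set ↥(Subgroup.centralizer ({z} : Set G))) ≤ E)
    (e : (↥(Subgroup.centralizer ({z} : Set G)) ⧸ E) ≃* Equiv.Perm (Fin 4)) {F : Type*} [Field F] [Fintype F] (hF : Fintype.card F = 4) :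
    IsMulCommutative ↥(Cfsg.oddCore G) ∧
      (¬ Group.IsSolvable G → Nonempty (G ≃* MulAut (GL (Fin 3) F ⧸ Subgroup.center (GL (Fin 3) F)))) := by
  have hzz : z * z = 1 := by rw [← pow_two, ← hz, pow_orderOf_eq_one]
  have hz1 : z ≠ 1 := fun h => by rw [h, orderOf_one] at hz; norm_num at hz
  have hfix : ∀ x ∈ Cfsg.oddCore G, Commute x z → x = 1 :=
    fun x hx hc => Cfsg.Agent.Spor.AutPSLFour.core_fixed z E hE32 hCE hx hc
  refine ⟨Cfsg.Agent.Spor.AutPSLFour.core_comm z hzz hfix, fun hns => ?_⟩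
  have hH := Cfsg.Agent.Spor.AutPSLFour.centralizer_solvable z E hE32 e
  obtain ⟨v, ⟨Φ⟩⟩ := Cfsg.Agent.Spor.AutPSLFour.exists_frame z hz E hE hE32 hEminus hCE e
  have hex : ∃ g : G, Commute z (g * z * g⁻¹) ∧ g * z * g⁻¹ ≠ z := by
    by_contra h
    simp only [not_exists, not_and, not_not] at h
    exact hns (Cfsg.Agent.Spor.AutPSLFour.solvable_of_isolated z hzz hz1 hfix hH h)
  obtain ⟨rfl, h15, hno⟩ := Φ.fused hex
  obtain ⟨M, hM, hM4, hmem⟩ := Φ.exists_kernel h15 hno
  have K : Cfsg.Agent.Spor.AutPSLFour.Kern Φ M := ⟨hM, hmem, h15, hno⟩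
  obtain ⟨h160, hcount⟩ := (K.split hH).resolve_left hns
  have B : Cfsg.Agent.Spor.AutPSLFour.Big Φ M := ⟨K, hM4, h160, hcount⟩
  obtain ⟨K0, iF, iT, hK0, ⟨φ⟩⟩ := B.R_iso
  exact Cfsg.Agent.Spor.AutPSLFour.ident B.card_G _ B.faithful hK0 φ hF

end Cfsg.Agent.S3237
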