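import Cfsg.Statements.S3240
import Cfsg.Agent.Lib.Lie.ThreeCC.Families
import Cfsg.Agent.Lib.Lie.ThreeCC.Involutions
import Cfsg.Agent.Lib.Lie.ThreeCC.PrimeClasses
import Cfsg.Agent.Lib.Lie.ThreeCC.Arith
import Cfsg.Agent.Lib.Lie.ThreeCC.Exclude

set_option autoImplicit false
open Cfsg

namespace Cfsg.Agent.S3240

open Cfsg.Agent.Lie.ThreeCC

universe u

/-- An element whose order divides none of the three orders lies in an outside class. -/
theorem outside_of_order {G : Type u} [Group G] [Finite G] {A₁ A₂ A₃ : Subgroup G} {x : G}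
    (h1 : x ≠ 1) (d1 : ¬ orderOf x ∣ Nat.card A₁) (d2 : ¬ orderOf x ∣ Nat.card A₂)
    (d3 : ¬ orderOf x ∣ Nat.card A₃) : Outside A₁ A₂ A₃ x := by
  refine ⟨h1, fun g => ⟨fun h => d1 ?_, fun h => d2 ?_, fun h => d3 ?_⟩⟩ <;>
    · rw [← MulEquiv.orderOf_eq (MulAut.conj g) x]
      exact Subgroup.orderOf_dvd_natCard _ h

/-- Outside elements in pairwise different classes bound the number of outside classes. -/
theorem le_outClass {G : Type u} [Group G] [Finite G] {A₁ A₂ A₃ : Subgroup G} {n : ℕ} (x : Fin n → G)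
    (hout : ∀ i, Outside A₁ A₂ A₃ (x i)) (hinj : ∀ i j, IsConj (x i) (x j) → i = j) :
    n ≤ Nat.card (OutClass A₁ A₂ A₃) := by
  have h := Nat.card_le_card_of_injective
    (fun i : Fin n => (⟨ConjClasses.mk (x i), x i, ConjClasses.mem_carrier_mk, hout i⟩ : OutClass A₁ A₂ A₃))
    (fun i j hij => hinj i j (ConjClasses.mk_eq_mk_iff_isConj.1 (congrArg Subtype.val hij)))
  rwa [Nat.card_eq_fintype_card, Fintype.card_fin] at h

/-- The centralizer of an involution is a 2-group. -/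
theorem cit {G : Type u} [Group G] [Fintype G] {A₁ A₂ A₃ : Subgroup G} (H : Hyp A₁ A₂ A₃)
    (hord : Nat.card G ≤ 3 * (Nat.card A₁ * Nat.card A₂ * Nat.card A₃) ^ 2) :
    Cfsg.Agent.Solv.CITGroups.CIT G := by
  classical
  intro t ht
  by_contra hnot
  -- an element of odd prime order centralizing the involution
  obtain ⟨r, hr, hr2, hrC⟩ : ∃ r : ℕ, r.Prime ∧ r ≠ 2 ∧ r ∣ Nat.card (Subgroup.centralizer ({t} : Set G)) := by
    by_contra! hall
    refine hnot (IsPGroup.of_card (n := (Nat.card (Subgroup.centralizer ({t} : Set G))).primeFactorsList.length) ?_)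
    refine Nat.eq_prime_pow_of_unique_prime_dvd Nat.card_pos.ne' fun {d} hd hdvd => ?_
    by_contra h2
    exact hall d hd h2 hdvd
  haveI := Fact.mk hr
  obtain ⟨u, hu⟩ := exists_prime_orderOf_dvd_card' r hrC
  rw [← Subgroup.orderOf_coe] at hu
  have hc : Commute (u : G) t := Subgroup.mem_centralizer_singleton_iff.1 u.2
  obtain ⟨y, hy⟩ := H.cc₂.exists_four (by have := H.n₂; omega)
  -- parameters
  have hn1 := H.n₁
  have hn2 := H.n₂
  have hn3 := H.n₃
  have o1 := H.cc₁.odd (dvd_refl _)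
  have o2 := H.cc₂.odd (by norm_num)
  have o3 := H.cc₃.odd (by norm_num)
  obtain ⟨w₁, hw₁⟩ : ∃ w, Nat.card A₁ = 2 * w + 1 := id o1
  obtain ⟨w₂, hw₂⟩ : ∃ w, Nat.card A₂ = 4 * w + 1 := by
    obtain ⟨k, hk⟩ := H.cc₂.dvd_sub_one; exact ⟨k, by omega⟩
  obtain ⟨w₃, hw₃⟩ : ∃ w, Nat.card A₃ = 4 * w + 1 := by
    obtain ⟨k, hk⟩ := H.cc₃.dvd_sub_one; exact ⟨k, by omega⟩
  obtain ⟨g₀, hg⟩ := H.dvd_card_G
  set N := Nat.card A₁ * Nat.card A₂ * Nat.card A₃ with hN
  have hN1 : 1 < N := by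
    have : 5 * 6 * 6 ≤ N := Nat.mul_le_mul (Nat.mul_le_mul hn1 hn2) hn3
    omega
  obtain ⟨h4, hcop⟩ := H.four hg
  -- even order gives an outside element
  have heven : ∀ x : G, 2 ∣ orderOf x → Outside A₁ A₂ A₃ x := fun x h2 =>
    outside_of_order (fun e => by rw [e, orderOf_one] at h2; exact absurd h2 (by norm_num))
      (fun h => o1.not_two_dvd_nat (h2.trans h)) (fun h => o2.not_two_dvd_nat (h2.trans h))
      (fun h => o3.not_two_dvd_nat (h2.trans h))
  have huout : Outside A₁ A₂ A₃ (u : G) := by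
    have ht2 : ∀ g : G, ∀ {A : Subgroup G} {e : ℕ}, CCSub A e → Odd (Nat.card A) →
        g * u * g⁻¹ ∉ A := by
      intro g A e hA hoA hgu
      have hgu1 : g * u * g⁻¹ ≠ 1 := fun e1 => hr.ne_one (by rw [← hu, conj_eq_one_iff.1 e1, orderOf_one])
      have h1 : g * t * g⁻¹ ∈ A := hA.mem_of_commute hgu hgu1 (by
        rw [show g * t * g⁻¹ * (g * u * g⁻¹) = g * (t * u) * g⁻¹ by group,
          show g * u * g⁻¹ * (g * t * g⁻¹) = g * (u * t) * g⁻¹ by group, hc.eq])
      refine hoA.not_two_dvd_nat ?_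
      rw [← ht, ← MulEquiv.orderOf_eq (MulAut.conj g) t]
      exact Subgroup.orderOf_dvd_natCard _ h1
    exact ⟨fun e1 => hr.ne_one (by rw [← hu, e1, orderOf_one]),
      fun g => ⟨ht2 g H.cc₁ o1, ht2 g H.cc₂ o2, ht2 g H.cc₃ o3⟩⟩
  have htu : orderOf (t * u) = 2 * r := by
    rw [hc.symm.orderOf_mul_eq_mul_orderOf_of_coprime (by
      rw [ht, hu]; exact (Nat.coprime_primes Nat.prime_two hr).2 hr2.symm), ht, hu]
  have hr3 : 3 ≤ r := by have := hr.two_le; omega
  have hr4 : r ≠ 4 := fun e => by rw [e] at hr; exact absurd hr (by norm_num)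
  have hconj : ∀ {a b : G}, IsConj a b → orderOf a = orderOf b := fun {a b} h => by
    obtain ⟨c, hc⟩ := isConj_iff.1 h
    rw [← hc]; exact (MulEquiv.orderOf_eq (MulAut.conj c) a).symm
  have hx4 : 4 ≤ Nat.card (OutClass A₁ A₂ A₃) := by
    refine le_outClass ![t, y, (u : G), t * u] ?_ ?_
    · intro i
      fin_cases i
      · exact heven t (by rw [ht])
      · exact heven y (by rw [hy]; norm_num)
      · exact huout
      · exact heven (t * u) (by rw [htu]; exact dvd_mul_right _ _)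
    · intro i j h
      have := hconj h
      have e : ∀ i : Fin 4, orderOf (![t, y, (u : G), t * u] i) = ![2, 4, r, 2 * r] i := by
        intro i; fin_cases i <;> [exact ht; exact hy; exact hu; exact htu]
      rw [e, e] at this
      have hinj : Function.Injective ![2, 4, r, 2 * r] := by
        intro a b hab
        fin_cases a <;> fin_cases b <;>
          first
            | rfl
            | (exfalso; simp at hab; omega)
            | (exfalso; simp at hab)
      exact hinj this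
  -- the characters vanishing on the three subgroups
  obtain ⟨Z, hZc, hZd⟩ := H.exists_vanishing hw₁ hw₂ hw₃
  have hk := H.card_classes hw₁ hw₂ hw₃
  rw [← Char.card_irr, Nat.card_eq_fintype_card] at hk
  have hsq : ∑ χ : IrrCharacter G, Char.deg (χ : G → ℂ) ^ 2 = Nat.card G := by
    have h := Char.sum_sq_deg (G := G)
    rw [Finset.sum_congr rfl fun χ _ => by rw [Char.char_one_eq_deg (Char.irr_isCharacter χ.2)]] at h
    exact_mod_cast h
  have hdeg1 : Char.deg ((triv G : IrrCharacter G) : G → ℂ) = 1 := by simp [Char.deg]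
  have htZ : triv G ∉ Z := fun h => by
    have := Nat.le_of_dvd (by rw [hdeg1]; norm_num) (hZd _ h)
    rw [hdeg1] at this
    omega
  have hZsum : ∑ χ ∈ Z, Char.deg (χ : G → ℂ) ^ 2 + 1 ≤ Nat.card G := by
    rw [← hsq]
    refine le_trans (le_of_eq ?_) (Finset.sum_le_sum_of_subset (Finset.subset_univ (insert (triv G) Z)))
    rw [Finset.sum_insert htZ, hdeg1, one_pow, Nat.add_comm]
  have hge : ∀ χ ∈ Z, N ≤ Char.deg (χ : G → ℂ) := fun χ hχ =>
    Nat.le_of_dvd (Char.deg_pos χ.2) (hZd χ hχ)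
  have hzN : Z.card * N ^ 2 + 1 ≤ Nat.card G := by
    refine le_trans ?_ hZsum
    rw [← smul_eq_mul, ← Finset.sum_const]
    exact Nat.add_le_add_right (Finset.sum_le_sum fun χ hχ => Nat.pow_le_pow_left (hge χ hχ) 2) 1
  have hNN : 0 < N ^ 2 := pow_pos (by omega) 2
  have hz2 : Z.card ≤ 2 := by
    by_contra hgt
    have := Nat.mul_le_mul_right (N ^ 2) (show 3 ≤ Z.card by omega)
    omega
  have hdegN : ∀ χ ∈ Z, (χ : G → ℂ) 1 = (N : ℂ) := by
    intro χ hχ
    obtain ⟨m, hm⟩ := hZd χ hχ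
    have hm1 : m = 1 := by
      by_contra hne
      have hm0 : m ≠ 0 := fun e => by
        have := Char.deg_pos χ.2
        rw [hm, e, mul_zero] at this
        exact lt_irrefl 0 this
      have h1 := Finset.single_le_sum (f := fun ψ : IrrCharacter G => Char.deg (ψ : G → ℂ) ^ 2)
        (fun _ _ => Nat.zero_le _) hχ
      have h2 : 4 * N ^ 2 ≤ Char.deg (χ : G → ℂ) ^ 2 := by
        rw [hm, ← hN]
        calc 4 * N ^ 2 ≤ m ^ 2 * N ^ 2 := Nat.mul_le_mul_right _ (Nat.pow_le_pow_left (show 2 ≤ m by omega) 2)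
          _ = (N * m) ^ 2 := by ring
      omega
    rw [Char.char_one_eq_deg (Char.irr_isCharacter χ.2), hm, hm1, mul_one]
  obtain ⟨j, hj⟩ := H.dvd_invol
  rw [← hN] at hj
  have hpairs := H.pairs_bound hw₁ hw₂ hw₃
  have hdegs := invol_degree_bound (G := G) N (by omega) Z hdegN
  rw [hj] at hpairs hdegs
  have hNum : Num w₁ w₂ w₃ g₀ j Z.card := by
    have eN : (2 * w₁ + 1) * (4 * w₂ + 1) * (4 * w₃ + 1) = N := by rw [hN, hw₁, hw₂, hw₃]
    refine ⟨by omega, by omega, by omega, hw₁ ▸ hw₂ ▸ H.cop₁₂, hw₁ ▸ hw₃ ▸ H.cop₁₃,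
      hw₂ ▸ hw₃ ▸ H.cop₂₃, h4, ?_, by omega, ?_, ?_, H.out_count hw₁ hw₂ hw₃ hg, ?_, ?_⟩
    · rw [eN]; exact hcop
    · rw [eN]
      rw [hg, pow_two, ← mul_assoc, Nat.mul_comm N g₀] at hzN
      exact Nat.lt_of_mul_lt_mul_right (Nat.lt_of_succ_le hzN)
    · rw [eN]
      rw [hg] at hord
      exact Nat.le_of_mul_le_mul_left (hord.trans_eq (by ring)) (by omega : 0 < N)
    · rw [eN]
      rw [hg] at hpairs
      exact (Nat.mul_le_mul_left_iff (by omega : 0 < N)).1 (by rw [← mul_assoc]; exact hpairs.trans_eq (by ring))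
    · rw [eN]
      rcases hdegs with h | h
      · refine Or.inl ((Nat.mul_le_mul_left_iff (by omega : 0 < N)).1 ?_)
        rw [Nat.mul_comm N Z.card]
        omega
      · refine Or.inr ((Nat.mul_le_mul_left_iff (by omega : 0 < N)).1 ?_)
        have h' := h.trans (Nat.mul_le_mul_right _ (show Fintype.card (IrrCharacter G) - 1 - Z.card ≤
          w₁ + w₂ + w₃ + 3 by omega))
        rw [Nat.mul_comm N j, ← Nat.sub_mul, hg, show Z.card * N ^ 2 = N * (Z.card * N) by ring,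
          ← Nat.mul_sub] at h'
        calc N * ((j - Z.card) ^ 2 * N) = ((j - Z.card) * N) ^ 2 := by ring
          _ ≤ (w₁ + w₂ + w₃ + 3) * (N * (g₀ - Z.card * N)) := h'
          _ = N * ((w₁ + w₂ + w₃ + 3) * (g₀ - Z.card * N)) := by ring
  -- three classes of elements of a suitable prime order
  obtain ⟨hz1, p, hp, hp2, hpd, hd⟩ := hNum.exists_prime
  rw [← hw₁, ← hw₂, ← hw₃] at hd
  obtain ⟨x, hx, hxinj⟩ := exists_three_prime_elements H hg hcop hp hp2 hpd hd
  have hpn : ∀ {n : ℕ}, n ∣ N → ¬ p ∣ n := fun hn h =>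
    hp.ne_one (Nat.eq_one_of_dvd_coprimes hcop hpd (h.trans hn))
  have hxout : ∀ i, Outside A₁ A₂ A₃ (x i) := fun i =>
    outside_of_order (fun e => hp.ne_one (by rw [← hx i, e, orderOf_one]))
      (by rw [hx i]; exact hpn ((dvd_mul_right _ _).trans (dvd_mul_right _ _)))
      (by rw [hx i]; exact hpn ((dvd_mul_left _ _).trans (dvd_mul_right _ _)))
      (by rw [hx i]; exact hpn (dvd_mul_left _ _))
  have hxe : ∀ i : Fin 3, ![x 0, x 1, x 2] i = x i := fun i => by fin_cases i <;> rfl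
  have hxj : ∀ i : Fin 3, orderOf (![x 0, x 1, x 2] i) = p := fun i => by rw [hxe]; exact hx i
  have hp4 : p ≠ 4 := fun e => by rw [e] at hp; exact absurd hp (by norm_num)
  have hx5 : 5 ≤ Nat.card (OutClass A₁ A₂ A₃) := by
    refine le_outClass ![t, y, x 0, x 1, x 2] ?_ ?_
    · intro i
      fin_cases i
      · exact heven t (by rw [ht])
      · exact heven y (by rw [hy]; norm_num)
      · exact hxout 0
      · exact hxout 1
      · exact hxout 2
    · intro i j
      refine Fin.cases ?_ (Fin.cases ?_ fun i => ?_) i <;> refine Fin.cases ?_ (Fin.cases ?_ fun j => ?_) j <;>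
        intro h <;> have h0 := hconj h
      · rfl
      · change orderOf t = orderOf y at h0; omega
      · change orderOf t = orderOf (![x 0, x 1, x 2] j) at h0; rw [hxj] at h0; omega
      · change orderOf y = orderOf t at h0; omega
      · rfl
      · change orderOf y = orderOf (![x 0, x 1, x 2] j) at h0; rw [hxj] at h0; omega
      · change orderOf (![x 0, x 1, x 2] i) = orderOf t at h0; rw [hxj] at h0; omega
      · change orderOf (![x 0, x 1, x 2] i) = orderOf y at h0; rw [hxj] at h0; omega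
      · change IsConj (![x 0, x 1, x 2] i) (![x 0, x 1, x 2] j) at h
        rw [hxe, hxe] at h
        rw [hxinj _ _ h]
  omega


/-- Call a subgroup A of a finite group G strongly self-centralizing if C_G(a) = A for every non-identity a ∈ A. Let G be a finite non-abelian simple group with three pairwise non-conjugate strongly self-centralizing subgroups A₁, A₂, A₃ with [N_G(A₁) : A₁] = 2, [N_G(A₂) : A₂] = [N_G(A₃) : A₃] = 4, |A₁| = n₁ ≥ 5, |A₂| = n₂ > 5, |A₃| = n₃ > 5, such that |G| ≤ 3 n₁² n₂² n₃² and the Sylow r-subgroups of G are abelian for every odd prime r not dividing n₁n₂n₃. Then G is isomorphic to a Suzuki group. -/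
theorem result {G : Type*} [Group G] [Finite G] [IsSimpleGroup G] (hG : ¬ IsMulCommutative G)
    (A₁ A₂ A₃ : Subgroup G)
    (hsc : ∀ A ∈ ({A₁, A₂, A₃} : Set (Subgroup G)), ∀ a ∈ A, a ≠ 1 → Subgroup.centralizer ({a} : Set G) = A)
    (hnc : ∀ g : G, A₁.map (MulAut.conj g).toMonoidHom ≠ A₂ ∧ A₁.map (MulAut.conj g).toMonoidHom ≠ A₃ ∧ A₂.map (MulAut.conj g).toMonoidHom ≠ A₃)
    (h₁ : A₁.relIndex (Subgroup.normalizer (A₁ : Set G)) = 2) (h₂ : A₂.relIndex (Subgroup.normalizer (A₂ : Set G)) = 4)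
    (h₃ : A₃.relIndex (Subgroup.normalizer (A₃ : Set G)) = 4)
    (hn₁ : 5 ≤ Nat.card ↥A₁) (hn₂ : 5 < Nat.card ↥A₂) (hn₃ : 5 < Nat.card ↥A₃)
    (hord : Nat.card G ≤ 3 * Nat.card ↥A₁ ^ 2 * Nat.card ↥A₂ ^ 2 * Nat.card ↥A₃ ^ 2)
    (hab : ∀ r : ℕ, r.Prime → r ≠ 2 → ¬ r ∣ Nat.card ↥A₁ * Nat.card ↥A₂ * Nat.card ↥A₃ →
      ∀ P : Sylow r G, IsMulCommutative ↥(P : Subgroup G)) :
    Cfsg.Lie.IsoSuzuki G := by
  haveI : Fintype G := Fintype.ofFinite G
  have c₁ : CCSub A₁ 2 := ⟨hsc A₁ (by simp), h₁⟩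
  have c₂ : CCSub A₂ 4 := ⟨hsc A₂ (by simp), h₂⟩
  have c₃ : CCSub A₃ 4 := ⟨hsc A₃ (by simp), h₃⟩
  have H : Hyp A₁ A₂ A₃ := ⟨c₁, c₂, c₃, hn₁, hn₂, hn₃, c₁.coprime_of_not_conj c₂ fun g => (hnc g).1,
    c₁.coprime_of_not_conj c₃ fun g => (hnc g).2.1, c₂.coprime_of_not_conj c₃ fun g => (hnc g).2.2⟩
  refine iso_suzuki_of_cit ?_ H (cit H (hord.trans_eq (by ring)))
  by_contra! h
  exact hG ⟨⟨h⟩⟩

end Cfsg.Agent.S3240
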