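import Cfsg.Statements.S3244
import Cfsg.Agent.Lib.Lie.CoreFunctor
import Cfsg.Agent.Lib.Char.ZStar
import Cfsg.Agent.Lib.Fusion.WeakClosureFunctor

set_option autoImplicit false
open Cfsg

namespace Cfsg.Agent.S3244


set_option linter.style.haveILetI false
open Cfsg.Agent Cfsg.Agent.Fusion Cfsg.Agent.Lie

universe v

variable {G : Type v} [Group G] [Finite G]

theorem exists_elem {S A : Subgroup G} (hA : Cfsg.IsSCN S A) (hA3 : ¬ Cfsg.PRankLE 2 2 ↥A) :
    ∃ E : Subgroup ↥S, E.Normal ∧ Cfsg.IsElementaryAbelian 2 E ∧ 8 ≤ Nat.card E := by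
  haveI : Fact (Nat.Prime 2) := ⟨Nat.prime_two⟩
  obtain ⟨hAS, hSA, hAc⟩ := hA
  have hcomm : ∀ a ∈ A, ∀ b ∈ A, a * b = b * a := fun a ha b hb =>
    Subgroup.mem_centralizer_iff.1 (hAc.symm.le hb).2 a ha
  obtain ⟨B, hBA, hB, hB8⟩ := SSF.exists_big hA3
  let E : Subgroup ↥S :=
    { carrier := {s | (s : G) ∈ A ∧ s ^ 2 = 1}
      mul_mem' := fun {a b} ha hb => ⟨mul_mem ha.1 hb.1, by
        have h : Commute a b := Subtype.ext (hcomm _ ha.1 _ hb.1)
        rw [h.mul_pow, ha.2, hb.2, one_mul]⟩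
      one_mem' := ⟨one_mem A, one_pow 2⟩
      inv_mem' := fun {a} ha => ⟨inv_mem ha.1, by rw [inv_pow, ha.2, inv_one]⟩ }
  refine ⟨E, ⟨fun a ha g => ⟨?_, ?_⟩⟩, ⟨⟨⟨fun a b => ?_⟩⟩, fun a ha => ha.2⟩, ?_⟩
  · exact (Subgroup.mem_normalizer_iff.1 (hSA g.2) _).1 ha.1
  · rw [conj_pow, ha.2, mul_one, mul_inv_cancel]
  · exact Subtype.ext (Subtype.ext (hcomm _ a.2.1 _ b.2.1))
  · refine le_trans (le_trans (by norm_num) hB8) ?_
    rw [← Nat.card_congr (Subgroup.subgroupOfEquivOfLe (hBA.trans hAS)).toEquiv]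
    exact Subgroup.card_le_of_le fun x hx => ⟨hBA hx, Subtype.ext (hB.2 _ hx)⟩

theorem core_bot (hl : CoreFun.LocCons G) (S : Sylow 2 G)
    (hinv : ∀ X : Subgroup G, Odd (Nat.card ↥X) → (S : Subgroup G) ≤ Subgroup.normalizer (X : Set G) → X = ⊥)
    (E : Subgroup ↥(S : Subgroup G)) [E.Normal] (hE : Cfsg.IsElementaryAbelian 2 E) (h8 : 8 ≤ Nat.card E)
    {j : G} (hj : orderOf j = 2) : Cfsg.centralizerPPrimeCore 2 j = ⊥ := by
  haveI : Fact (Nat.Prime 2) := ⟨Nat.prime_two⟩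
  obtain ⟨F, hF⟩ : ∃ F, F = E.map (S : Subgroup G).subtype := ⟨_, rfl⟩
  have hFe : Cfsg.IsElementaryAbelian 2 F := by
    refine hF ▸ ⟨Fusion.isMulCommutative_map _ hE.1, ?_⟩
    rintro _ ⟨e, he, rfl⟩
    rw [← map_pow, hE.2 e he, map_one]
  have hW : CoreFun.Wc F = ⊥ := by
    refine hinv _ (CoreFun.Wc_odd hl hFe ?_) fun s hs => ?_
    · rwa [hF, Subgroup.card_map_of_injective (S : Subgroup G).subtype_injective]
    refine mem_normalizer_of_cj_le ?_
    unfold CoreFun.Wc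
    show Subgroup.map _ _ ≤ _
    rw [Subgroup.map_iSup]
    refine iSup_le fun e => ?_
    rw [← CoreFun.core_equivariant]
    refine le_iSup_of_le (ι := {e : G // e ∈ F ∧ e ≠ 1}) ⟨s * e.1 * s⁻¹, ?_, ?_⟩ le_rfl
    · have he : (e : G) ∈ E.map (S : Subgroup G).subtype := hF ▸ e.2.1
      obtain ⟨e', he', hee⟩ := he
      rw [← hee]
      refine hF.symm.le ?_
      exact ⟨⟨s, hs⟩ * e' * (⟨s, hs⟩ : ↥(S : Subgroup G))⁻¹,
        (inferInstance : E.Normal).conj_mem _ he' _, rfl⟩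
    · exact fun h => e.2.2 (conj_eq_one_iff.1 h)
  obtain ⟨P, hP⟩ := (IsPGroup.of_card (n := 1)
    (by rw [Nat.card_zpowers, hj, pow_one] : Nat.card ↥(Subgroup.zpowers j) = 2 ^ 1)).exists_le_sylow
  obtain ⟨g, rfl⟩ := MulAction.exists_smul_eq G S P
  have hjg : g⁻¹ * j * g ∈ (S : Subgroup G) := by
    have := hP (Subgroup.mem_zpowers j)
    rwa [Sylow.coe_subgroup_smul, Subgroup.mem_pointwise_smul_iff_inv_smul_mem,
      ← map_inv, MulAut.smul_def, MulAut.conj_apply, inv_inv] at this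
  have h := CoreFun.core_le_Wc hl (S : Subgroup G) S.isPGroup' E hE h8 ⟨_, hjg⟩ (by
    rw [Subgroup.orderOf_mk, show g⁻¹ * j * g = MulAut.conj g⁻¹ j by simp, MulEquiv.orderOf_eq, hj])
  rw [← hF, hW, le_bot_iff] at h
  rw [show j = g * (g⁻¹ * j * g) * g⁻¹ by group, CoreFun.core_equivariant, h, Subgroup.map_bot]

theorem exists_invol {T : Subgroup G} (hT : IsPGroup 2 ↥T) (hne : T ≠ ⊥) :
    ∃ t ∈ T, (∀ x ∈ T, t * x = x * t) ∧ orderOf t = 2 := by
  haveI : Fact (Nat.Prime 2) := ⟨Nat.prime_two⟩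
  haveI : Nontrivial ↥T := (Subgroup.nontrivial_iff_ne_bot T).2 hne
  haveI := hT.center_nontrivial
  obtain ⟨k, hk⟩ := IsPGroup.iff_card.1 (hT.to_subgroup (Subgroup.center ↥T))
  have h2 : 2 ∣ Nat.card ↥(Subgroup.center ↥T) := by
    rw [hk]
    refine dvd_pow_self 2 fun h0 => ?_
    have := Finite.one_lt_card (α := ↥(Subgroup.center ↥T))
    rw [hk, h0] at this
    omega
  obtain ⟨t, ht⟩ := exists_prime_orderOf_dvd_card' 2 h2
  refine ⟨((t : ↥T) : G), (t : ↥T).2, fun x hx => ?_, by rw [Subgroup.orderOf_coe, Subgroup.orderOf_coe, ht]⟩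
  exact (congrArg Subtype.val (Subgroup.mem_center_iff.1 t.2 ⟨x, hx⟩)).symm

/-- Every 2-local is of characteristic two. -/
theorem local_char (hl : CoreFun.LocCons G) (hcore : ∀ j : G, orderOf j = 2 → Cfsg.centralizerPPrimeCore 2 j = ⊥)
    {T : Subgroup G} (hT : IsPGroup 2 ↥T) (hne : T ≠ ⊥) {x : G}
    (hxN : x ∈ Subgroup.normalizer (T : Set G))
    (hx : x ∈ Subgroup.centralizer (Cfsg.pCoreOf 2 (Subgroup.normalizer (T : Set G)) : Set G)) :
    x ∈ Cfsg.pCoreOf 2 (Subgroup.normalizer (T : Set G)) := by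
  haveI : Fact (Nat.Prime 2) := ⟨Nat.prime_two⟩
  set N := Subgroup.normalizer (T : Set G) with hN
  have hO : Cfsg.pPrimeCore 2 ↥N = ⊥ := by
    obtain ⟨t, htT, htc, ht⟩ := exists_invol hT hne
    haveI : (T.subgroupOf N).Normal :=
      (Subgroup.normal_subgroupOf_iff_le_normalizer Subgroup.le_normalizer).2 le_rfl
    obtain ⟨W, hW⟩ : ∃ W, W = SSF.Opc 2 N := ⟨_, rfl⟩
    have hWT : W ≤ Subgroup.centralizer (T : Set G) := by
      rw [hW]
      rintro _ ⟨w, hw, rfl⟩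
      refine Subgroup.mem_centralizer_iff.2 fun y hy => ?_
      exact congrArg Subtype.val (Subgroup.mem_centralizer_iff.1 (pPrimeCore_commutes_pCore hw) ⟨y, Subgroup.le_normalizer hy⟩
        (le_pCore (N := T.subgroupOf N) (hT.comap_subtype (K := N)) hy))
    have hWC : W ≤ Subgroup.centralizer ({t} : Set G) :=
      hWT.trans (Subgroup.centralizer_le (by simpa using htT))
    have hTC : T ≤ Subgroup.centralizer ({t} : Set G) := fun y hy =>
      Subgroup.mem_centralizer_singleton_iff.2 (htc y hy).symm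
    have hle : W.subgroupOf (Subgroup.centralizer ({t} : Set G)) ≤
        Cfsg.pPrimeCore 2 ↥(Subgroup.centralizer ({t} : Set G)) := by
      refine SSF.le_core_of_cent (CoreFun.layer_bot hl ht) (P := T.subgroupOf _)
        (hT.comap_subtype) ?_ (fun y hy => ?_) fun y hy => ?_
      · rw [Nat.card_congr (Subgroup.subgroupOfEquivOfLe hWC).toEquiv, hW]
        exact SSF.Opc_coprime 2 N
      · exact Subgroup.mem_centralizer_iff.2 fun z hz =>
          Subtype.ext (Subgroup.mem_centralizer_iff.1 (hWT (Subgroup.mem_subgroupOf.1 hy)) _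
            (Subgroup.mem_subgroupOf.1 hz))
      · have hyT : (y : G) ∈ Subgroup.centralizer (T : Set G) := Subgroup.mem_centralizer_iff.2 fun z hz =>
          congrArg Subtype.val (Subgroup.mem_centralizer_iff.1 hy ⟨z, hTC hz⟩ hz)
        rw [← Subgroup.subgroupOf_normalizer_eq hWC, Subgroup.mem_subgroupOf, hW]
        exact SSF.self_le_normalizer_Opc 2 N (Subgroup.centralizer_le_normalizer _ hyT)
    refine (Subgroup.eq_bot_iff_forall _).2 fun w hw => Subtype.ext ?_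
    have hwW : (w : G) ∈ W := hW ▸ ⟨w, hw, rfl⟩
    have : (w : G) ∈ Cfsg.centralizerPPrimeCore 2 t :=
      ⟨⟨w, hWC hwW⟩, hle (Subgroup.mem_subgroupOf.2 hwW), rfl⟩
    rwa [hcore t ht, Subgroup.mem_bot] at this
  refine ⟨⟨x, hxN⟩, (isPConstrained_iff_of_core_eq_bot hO).1 (hl T hT hne) ?_, rfl⟩
  exact Subgroup.mem_centralizer_iff.2 fun y hy =>
    Subtype.ext (Subgroup.mem_centralizer_iff.1 hx _ ⟨y, hy, rfl⟩)

/-- With cyclic centres, every maximal 2-local is the centraliser of an involution, which is the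
only involution centralising its 2-core. -/
theorem max_spec (hl : CoreFun.LocCons G) (hcore : ∀ j : G, orderOf j = 2 → Cfsg.centralizerPPrimeCore 2 j = ⊥)
    (hcyc : ∀ M : Subgroup G, Cfsg.IsMaximalTwoLocal M → IsCyclic ↥(Subgroup.center ↥(Cfsg.pCore 2 ↥M)))
    {M : Subgroup G} (hM : Cfsg.IsMaximalTwoLocal M) :
    ∃ z : G, orderOf z = 2 ∧ M = Subgroup.centralizer ({z} : Set G) ∧
      ∀ x : G, orderOf x = 2 → x ∈ Subgroup.centralizer (Cfsg.pCoreOf 2 M : Set G) → x = z := by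
  haveI : Fact (Nat.Prime 2) := ⟨Nat.prime_two⟩
  haveI := hcyc M hM
  obtain ⟨T, hT, hTne, hMT⟩ := hM.1
  have hTM : T ≤ M := hMT ▸ Subgroup.le_normalizer
  have hTQ : T ≤ Cfsg.pCoreOf 2 M := le_pCoreOf hTM hMT.le hT
  have hQ : IsPGroup 2 ↥(Cfsg.pCoreOf 2 M) := pCoreOf_isPGroup M
  have hQne : Cfsg.pCoreOf 2 M ≠ ⊥ := fun e => hTne (le_bot_iff.1 (e ▸ hTQ))
  have hNQ : Subgroup.normalizer (Cfsg.pCoreOf 2 M : Set G) = M :=
    hM.2 _ ⟨_, hQ, hQne, rfl⟩ (le_normalizer_pCoreOf M)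
  have hin : ∀ x ∈ Subgroup.centralizer (Cfsg.pCoreOf 2 M : Set G), x ∈ Cfsg.pCoreOf 2 M := by
    intro x hx
    have hxM : x ∈ M := hNQ ▸ Subgroup.centralizer_le_normalizer _ hx
    rw [hMT] at hxM hx ⊢
    exact local_char hl hcore hT hTne hxM hx
  obtain ⟨z, hzQ, hzc, hz⟩ := exists_invol hQ hQne
  have huniq : ∀ x : G, orderOf x = 2 → x ∈ Subgroup.centralizer (Cfsg.pCoreOf 2 M : Set G) → x = z := by
    intro x hx hxc
    have key : ∀ y ∈ Cfsg.pCoreOf 2 M, (∀ q ∈ Cfsg.pCoreOf 2 M, y * q = q * y) →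
        ∃ c : ↥(Subgroup.center ↥(Cfsg.pCore 2 ↥M)), ((c : ↥(Cfsg.pCore 2 ↥M)) : ↥M) = (y : G) := by
      rintro _ ⟨y, hy, rfl⟩ hyc
      exact ⟨⟨⟨y, hy⟩, Subgroup.mem_center_iff.2 fun q =>
        Subtype.ext (Subtype.ext (hyc _ ⟨q, q.2, rfl⟩).symm)⟩, rfl⟩
    obtain ⟨c, hc⟩ := key x (hin x hxc) fun q hq => (Subgroup.mem_centralizer_iff.1 hxc q hq).symm
    obtain ⟨d, hd⟩ := key z hzQ hzc
    rw [← hc, Subgroup.orderOf_coe, Subgroup.orderOf_coe, Subgroup.orderOf_coe] at hx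
    rw [← hd, Subgroup.orderOf_coe, Subgroup.orderOf_coe, Subgroup.orderOf_coe] at hz
    rw [← hc, ← hd, Local.eq_of_orderOf_eq_two hx hz]
  refine ⟨z, hz, ?_, huniq⟩
  have hMz : M ≤ Subgroup.centralizer ({z} : Set G) := by
    intro m hm
    have hn := le_normalizer_pCoreOf (p := 2) M hm
    have h1 : m * z * m⁻¹ = z := by
      refine huniq _ (by rw [show m * z * m⁻¹ = MulAut.conj m z from rfl, MulEquiv.orderOf_eq, hz])
        (Subgroup.mem_centralizer_iff.2 fun q hq => ?_)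
      have h2 : m⁻¹ * q * m ∈ Cfsg.pCoreOf 2 M := (Subgroup.mem_normalizer_iff''.1 hn q).1 hq
      calc q * (m * z * m⁻¹) = m * ((m⁻¹ * q * m) * z) * m⁻¹ := by group
        _ = m * (z * (m⁻¹ * q * m)) * m⁻¹ := by rw [hzc _ h2]
        _ = m * z * m⁻¹ * q := by group
    exact Subgroup.mem_centralizer_singleton_iff.2 (mul_inv_eq_iff_eq_mul.1 h1)
  refine (hM.2 _ ⟨Subgroup.zpowers z, IsPGroup.of_card (n := 1) (by rw [Nat.card_zpowers, hz, pow_one]),
    Subgroup.zpowers_ne_bot.2 (fun e => by simp [e] at hz), le_antisymm (fun g hg => ?_) fun g hg => ?_⟩ hMz).symm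
  · refine Subgroup.centralizer_le_normalizer _ (Subgroup.mem_centralizer_iff.2 fun y hy => ?_)
    obtain ⟨i, rfl⟩ := Subgroup.mem_zpowers_iff.1 hy
    exact ((show Commute g z from Subgroup.mem_centralizer_singleton_iff.1 hg).zpow_right i).symm.eq
  · have h1 : g * z * g⁻¹ ∈ Subgroup.zpowers z :=
      (Subgroup.mem_normalizer_iff.1 hg z).1 (Subgroup.mem_zpowers z)
    have h2 : g * z * g⁻¹ = z := by
      have := Local.eq_of_orderOf_eq_two (H := ↥(Subgroup.zpowers z)) (a := ⟨_, h1⟩)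
        (b := ⟨z, Subgroup.mem_zpowers z⟩)
        (by rw [Subgroup.orderOf_mk, show g * z * g⁻¹ = MulAut.conj g z from rfl, MulEquiv.orderOf_eq, hz])
        (by rw [Subgroup.orderOf_mk, hz])
      exact congrArg Subtype.val this
    exact Subgroup.mem_centralizer_singleton_iff.2 (mul_inv_eq_iff_eq_mul.1 h2)

theorem exists_max [IsSimpleGroup G] {T : Subgroup G} (hT : IsPGroup 2 ↥T) (hne : T ≠ ⊥) :
    ∃ M : Subgroup G, Cfsg.IsMaximalTwoLocal M ∧ Subgroup.normalizer (T : Set G) ≤ M := by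
  obtain ⟨M, hle, hM⟩ := (Set.toFinite {M : Subgroup G | Cfsg.IsTwoLocal M}).exists_le_maximal
    (show Subgroup.normalizer (T : Set G) ∈ {M : Subgroup G | Cfsg.IsTwoLocal M} from ⟨T, hT, hne, rfl⟩)
  exact ⟨M, ⟨hM.1, fun N hN hMN => le_antisymm (hM.2 hN hMN) hMN⟩, hle⟩

theorem false_of_cyclic [IsSimpleGroup G] (hG : ¬ IsMulCommutative G) (hl : CoreFun.LocCons G) (S : Sylow 2 G)
    (hcore : ∀ j : G, orderOf j = 2 → Cfsg.centralizerPPrimeCore 2 j = ⊥) (hSne : (S : Subgroup G) ≠ ⊥)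
    (hcyc : ∀ M : Subgroup G, Cfsg.IsMaximalTwoLocal M → IsCyclic ↥(Subgroup.center ↥(Cfsg.pCore 2 ↥M))) :
    False := by
  classical
  haveI : Fact (Nat.Prime 2) := ⟨Nat.prime_two⟩
  -- the two Sylow facts
  have hsyl : ∀ M : Subgroup G, Cfsg.IsMaximalTwoLocal M → ∀ R : Sylow 2 G, (R : Subgroup G) ≤ M →
      ∀ z : G, M = Subgroup.centralizer ({z} : Set G) → orderOf z = 2 →
      (∀ x : G, orderOf x = 2 → x ∈ Subgroup.centralizer (Cfsg.pCoreOf 2 M : Set G) → x = z) →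
      ∀ x : G, orderOf x = 2 → (∀ r ∈ (R : Subgroup G), x * r = r * x) → x = z := by
    intro M hM R hRM z hMz hz hzu x hx hxc
    refine hzu x hx (Subgroup.mem_centralizer_iff.2 fun q hq => (hxc q ?_).symm)
    exact pCoreOf_le_sylIn ((sylIn_top R).mono hRM le_top) hq
  have hfull : ∀ M : Subgroup G, Cfsg.IsMaximalTwoLocal M → ∃ R : Sylow 2 G, (R : Subgroup G) ≤ M := by
    intro M hM
    obtain ⟨z, hz, hMz, hzu⟩ := max_spec hl hcore hcyc hM
    obtain ⟨R, hR⟩ := (pCoreOf_isPGroup (p := 2) M).exists_le_sylow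
    obtain ⟨t, htR, htc, ht⟩ := exists_invol R.isPGroup' (fun e => hSne (by
      obtain ⟨g, hg⟩ := MulAction.exists_smul_eq G R S
      rw [← hg, Sylow.coe_subgroup_smul, e, Subgroup.smul_bot]))
    have htz : t = z := hzu t ht (Subgroup.mem_centralizer_iff.2 fun q hq => (htc q (hR hq)).symm)
    exact ⟨R, fun r hr => hMz ▸ Subgroup.mem_centralizer_singleton_iff.2 (htz ▸ htc r hr).symm⟩
  obtain ⟨z, hzS, hzc, hz⟩ := exists_invol S.isPGroup' hSne
  have hzp : IsPGroup 2 ↥(Subgroup.zpowers z) := IsPGroup.of_card (n := 1) (by rw [Nat.card_zpowers, hz, pow_one])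
  have hzne : Subgroup.zpowers z ≠ ⊥ := Subgroup.zpowers_ne_bot.2 (fun e => by simp [e] at hz)
  -- every maximal 2-local over a 2-central involution `x` is its centraliser
  have hcent : ∀ g : G, ∃ M : Subgroup G, Cfsg.IsMaximalTwoLocal M ∧
      M = Subgroup.centralizer ({g * z * g⁻¹} : Set G) := by
    intro g
    have hgp : IsPGroup 2 ↥((Subgroup.zpowers z).map (MulAut.conj g).toMonoidHom) := hzp.map _
    obtain ⟨M, hM, hle⟩ := exists_max hgp (fun e => hzne ((Subgroup.map_eq_bot_iff_of_injective _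
      (MulAut.conj g).injective).1 e))
    obtain ⟨x, hx, hMx, hxu⟩ := max_spec hl hcore hcyc hM
    refine ⟨M, hM, hMx.trans ?_⟩
    have hR : ((g • S : Sylow 2 G) : Subgroup G) ≤ M := by
      refine le_trans (fun r hr => ?_) hle
      rw [Sylow.coe_subgroup_smul] at hr
      obtain ⟨r, hr, rfl⟩ := hr
      refine Subgroup.centralizer_le_normalizer _ (Subgroup.mem_centralizer_iff.2 ?_)
      rintro _ ⟨y, hy, rfl⟩
      obtain ⟨i, rfl⟩ := Subgroup.mem_zpowers_iff.1 hy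
      show MulAut.conj g (z ^ i) * MulAut.conj g r = MulAut.conj g r * MulAut.conj g (z ^ i)
      rw [← map_mul, ← map_mul, ((show Commute z r from hzc r hr).zpow_left i).eq]
    have := hsyl M hM _ hR x hMx hx hxu (g * z * g⁻¹)
      (by rw [show g * z * g⁻¹ = MulAut.conj g z from rfl, MulEquiv.orderOf_eq, hz]) (fun r hr => by
        rw [Sylow.coe_subgroup_smul] at hr
        obtain ⟨r, hr, rfl⟩ := hr
        show MulAut.conj g z * MulAut.conj g r = MulAut.conj g r * MulAut.conj g z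
        rw [← map_mul, ← map_mul, hzc r hr])
    exact congrArg (fun y => Subgroup.centralizer ({y} : Set G)) this.symm
  -- two maximal 2-locals with a common nontrivial 2-subgroup
  have hex : ∃ n : ℕ, ∃ M₁ M₂ P : Subgroup G, Cfsg.IsMaximalTwoLocal M₁ ∧ Cfsg.IsMaximalTwoLocal M₂ ∧
      M₁ ≠ M₂ ∧ IsPGroup 2 ↥P ∧ P ≠ ⊥ ∧ P ≤ M₁ ∧ P ≤ M₂ ∧ Nat.card G - Nat.card P = n := by
    obtain ⟨g, hgS, hgne⟩ : ∃ g : G, g * z * g⁻¹ ∈ (S : Subgroup G) ∧ g * z * g⁻¹ ≠ z := by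
      by_contra hc
      push Not at hc
      have hO : Cfsg.oddCore G = ⊥ := by
        refine ((inferInstance : (Cfsg.oddCore G).Normal).eq_bot_or_eq_top).resolve_right fun e => ?_
        have h := card_pPrimeCore_coprime 2 G
        rw [show Cfsg.pPrimeCore 2 G = ⊤ from e, Subgroup.card_top] at h
        exact (Nat.Prime.coprime_iff_not_dvd Nat.prime_two).1 h.symm (hz ▸ orderOf_dvd_natCard z)
      have hzz := Char.zStar_central (Char.oddInvol_of_isolated_sylow hz hzS hc) hO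
      have hZ : z ∈ Subgroup.center G := Subgroup.mem_center_iff.2 fun x => (hzz x).symm
      rcases (inferInstance : (Subgroup.center G).Normal).eq_bot_or_eq_top with e | e
      · rw [e, Subgroup.mem_bot] at hZ
        simp [hZ] at hz
      · exact hG ⟨⟨fun a b => Subgroup.mem_center_iff.1 (e.symm ▸ Subgroup.mem_top b : b ∈ Subgroup.center G) a⟩⟩
    obtain ⟨M₁, hM₁, h1⟩ := hcent 1
    obtain ⟨M₂, hM₂, h2⟩ := hcent g
    simp only [one_mul, inv_one, mul_one] at h1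
    refine ⟨_, M₁, M₂, Subgroup.zpowers z, hM₁, hM₂, fun e => ?_, hzp, hzne, ?_, ?_, rfl⟩
    · obtain ⟨x, hx, hMx, hxu⟩ := max_spec hl hcore hcyc hM₁
      obtain ⟨R, hR⟩ := hfull M₁ hM₁
      have hu : ∀ y : G, orderOf y = 2 → M₁ = Subgroup.centralizer ({y} : Set G) → y = x :=
        fun y hy hMy => hsyl M₁ hM₁ R hR x hMx hx hxu y hy fun r hr =>
          (Subgroup.mem_centralizer_singleton_iff.1 (hMy ▸ hR hr)).symm
      refine hgne ?_
      exact (hu _ (by rw [show g * z * g⁻¹ = MulAut.conj g z from rfl, MulEquiv.orderOf_eq, hz])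
        (e.trans h2)).trans (hu z hz h1).symm
    · rw [h1, Subgroup.zpowers_le]
      exact Subgroup.mem_centralizer_singleton_iff.2 rfl
    · rw [h2, Subgroup.zpowers_le]
      exact Subgroup.mem_centralizer_singleton_iff.2 (hzc _ hgS)
  obtain ⟨M₁, M₂, P, hM₁, hM₂, hne, hP, hPne, hP1, hP2, hn⟩ := Nat.find_spec hex
  obtain ⟨M₃, hM₃, hN3⟩ := exists_max hP hPne
  refine hne ?_
  have key : ∀ M : Subgroup G, Cfsg.IsMaximalTwoLocal M → P ≤ M →
      (∀ R : Sylow 2 G, (R : Subgroup G) ≤ M → P ≠ (R : Subgroup G)) → M = M₃ := by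
    intro M hM hPM hnot
    obtain ⟨R, hR⟩ := hfull M hM
    obtain ⟨R', hR'M, hPR'⟩ : ∃ R' : Sylow 2 G, (R' : Subgroup G) ≤ M ∧ P ≤ (R' : Subgroup G) := by
      obtain ⟨T, hT, hPT⟩ := exists_sylIn_ge hP hPM
      obtain ⟨d, hd, hdT⟩ := hT.conj_le R.isPGroup' hR
      obtain ⟨R', hR'⟩ := hT.isPGroup.exists_le_sylow
      refine ⟨R', ?_, hPT.trans hR'⟩
      have hTcard : Nat.card ↥(R' : Subgroup G) ≤ Nat.card T := by
        rw [← R.card_eq_multiplicity.trans R'.card_eq_multiplicity.symm, ← card_cj (R : Subgroup G) d]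
        exact Subgroup.card_le_of_le hdT
      rw [← Subgroup.eq_of_le_of_card_ge hR' hTcard]
      exact hT.le
    by_contra hMM
    haveI : Group.IsNilpotent ↥(R' : Subgroup G) := R'.isPGroup'.isNilpotent
    have hlt : P.subgroupOf (R' : Subgroup G) < ⊤ := by
      refine lt_top_iff_ne_top.2 fun e => hnot R' hR'M (le_antisymm hPR' ?_)
      exact Subgroup.subgroupOf_eq_top.1 e
    have hgrow := Group.normalizerCondition_of_isNilpotent _ hlt
    rw [← Subgroup.subgroupOf_normalizer_eq hPR'] at hgrow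
    obtain ⟨P', hP'⟩ : ∃ P', P' = Subgroup.normalizer (P : Set G) ⊓ (R' : Subgroup G) := ⟨_, rfl⟩
    have hlt' : P < P' := by
      refine hP' ▸ lt_of_le_not_ge (le_inf Subgroup.le_normalizer hPR') fun h => hgrow.not_ge ?_
      exact fun x hx => h ⟨hx, x.2⟩
    have hmin := Nat.find_min' hex ⟨M, M₃, P', hM, hM₃, hMM,
      hP' ▸ R'.isPGroup'.to_le inf_le_right, fun e => not_lt_bot (e ▸ hlt'),
      hP' ▸ inf_le_right.trans hR'M, hP' ▸ inf_le_left.trans hN3, rfl⟩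
    have hc1 : Nat.card P < Nat.card P' := Set.ncard_lt_ncard hlt'
    have hc2 : Nat.card P' ≤ Nat.card G := Subgroup.card_le_card_group P'
    omega
  have hnot : ∀ Ma Mb : Subgroup G, Cfsg.IsMaximalTwoLocal Ma → Cfsg.IsMaximalTwoLocal Mb → P ≤ Mb → Ma ≠ Mb →
      ∀ R : Sylow 2 G, (R : Subgroup G) ≤ Ma → P ≠ (R : Subgroup G) := by
    intro Ma Mb ha hb hPb hab R hR e
    obtain ⟨x, hx, hMx, hxu⟩ := max_spec hl hcore hcyc ha
    obtain ⟨y, hy, hMy, -⟩ := max_spec hl hcore hcyc hb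
    have : y = x := hsyl Ma ha R hR x hMx hx hxu y hy fun r hr =>
      (Subgroup.mem_centralizer_singleton_iff.1 (hMy ▸ hPb (e.symm ▸ hr))).symm
    exact hab (by rw [hMx, hMy, this])
  exact (key M₁ hM₁ hP1 (hnot M₁ M₂ hM₁ hM₂ hP2 hne)).trans
    (key M₂ hM₂ hP2 (hnot M₂ M₁ hM₂ hM₁ hP1 hne.symm)).symm

/-- Say that a finite group G is of characteristic 2 type in the early sense when a Sylow 2-subgroup S of G has a self-centralizing normal subgroup of rank at least 3, S normalizes no nontrivial subgroup of odd order, and every 2-local subgroup of G is 2-constrained. If G is a non-abelian simple group of characteristic 2 type in this sense, then for some maximal 2-local subgroup M of G the centre of O₂(M) is not cyclic. -/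
theorem result {G : Type*} [Group G] [Finite G] [IsSimpleGroup G]
    (hG : ¬ IsMulCommutative G) (S : Sylow 2 G) (A : Subgroup G) (hA : Cfsg.IsSCN (S : Subgroup G) A) (hA3 : ¬ Cfsg.PRankLE 2 2 ↥A)
    (hinv : ∀ X : Subgroup G, Odd (Nat.card ↥X) → (S : Subgroup G) ≤ Subgroup.normalizer (X : Set G) → X = ⊥)
    (hcon : ∀ T : Subgroup G, IsPGroup 2 ↥T → T ≠ ⊥ → Cfsg.IsPConstrained 2 ↥(Subgroup.normalizer (T : Set G))) :
    ∃ M : Subgroup G, Cfsg.IsMaximalTwoLocal M ∧ ¬ IsCyclic ↥(Subgroup.center ↥(Cfsg.pCore 2 ↥M)) := by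
  by_contra hno
  push Not at hno
  obtain ⟨E, hEn, hE, h8⟩ := exists_elem hA hA3
  refine false_of_cyclic hG hcon S (fun j hj => core_bot hcon S hinv E hE h8 hj) (fun e => ?_) hno
  have h := h8.trans (Subgroup.card_le_card_group E)
  rw [e, Subgroup.card_bot] at h
  omega

end Cfsg.Agent.S3244
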