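import Cfsg.Statements.S3245
import Cfsg.Agent.Lib.Lead.OneClassLocal
import Cfsg.Agent.Lib.Bender.SolSimple
import Cfsg.Agent.Lib.Bender.Solvable.Main
-- import your own Cfsg.Agent.* helpers here

set_option autoImplicit false
set_option linter.style.haveILetI false
open Cfsg

namespace Cfsg.Agent.S3245

open Cfsg.Agent

/-- A finite non-abelian simple group in which all maximal 2-local subgroups are conjugate is isomorphic to L₂(2ⁿ), Sz(2ⁿ) or U₃(2ⁿ) for some n ≥ 2. -/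
theorem result {G : Type*} [Group G] [Finite G] [IsSimpleGroup G] (hG : ¬ IsMulCommutative G)
    (h1 : ∀ M M' : Subgroup G, Cfsg.IsMaximalTwoLocal M → Cfsg.IsMaximalTwoLocal M' → ∃ g : G, M' = M.map (MulAut.conj g).toMonoidHom) :
    (∃ (F : Type) (_ : Field F) (_ : Fintype F) (n : ℕ), 2 ≤ n ∧ Fintype.card F = 2 ^ n ∧
        Nonempty (G ≃* Matrix.ProjectiveSpecialLinearGroup (Fin 2) F)) ∨
      Cfsg.Lie.IsoSuzuki G ∨
      (∃ (F : Type) (_ : Field F) (_ : Fintype F) (n : ℕ), 2 ≤ n ∧ Fintype.card F = (2 ^ n) ^ 2 ∧ Nonempty (G ≃* Cfsg.PSU 3 F (2 ^ n))) := by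
  haveI : Fact (Nat.Prime 2) := ⟨Nat.prime_two⟩
  have hna : ∃ a b : G, a * b ≠ b * a := by
    by_contra h
    push Not at h
    exact hG ⟨⟨h⟩⟩
  have hns : ¬ Group.IsSolvable G := fun hs => by
    obtain ⟨a, b, hab⟩ := hna
    exact hab (IsSimpleGroup.comm_iff_isSolvable.2 hs a b)
  have h2 : 2 ∣ Nat.card G := by
    by_contra h
    exact hns (Bender.AbelianSolvable.odd_solvable' (Nat.odd_iff.2 (Nat.two_dvd_ne_zero.1 h)))
  have hloc : ∀ M : Subgroup G, Cfsg.IsMaximalTwoLocal M → M ≠ ⊤ := by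
    rintro M ⟨⟨T, hT, hT1, rfl⟩, -⟩ htop
    haveI : T.Normal := Subgroup.normalizer_eq_top_iff.1 htop
    rcases (inferInstance : T.Normal).eq_bot_or_eq_top with h | h
    · exact hT1 h
    · haveI := (hT.of_equiv ((MulEquiv.subgroupCongr h).trans Subgroup.topEquiv)).isNilpotent
      exact hns inferInstance
  obtain ⟨M, hM, hspe⟩ := OneClassLocal.exists_spe h1 h2 hloc
  exact (Bender.classify_of_sol SEB.sol_all hna hM hspe).1

end Cfsg.Agent.S3245
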