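import Cfsg.Statements.S3246
import Mathlib
import Cfsg.Agent.Lib.Fusion.LocalConstrained
import Cfsg.Agent.Lib.Solv.Generation
import Cfsg.Agent.Lib.Solv.Kulakoff
-- import your own Cfsg.Agent.* helpers here

set_option autoImplicit false
open Cfsg

namespace Cfsg.Agent.S3246

set_option maxHeartbeats 1600000 in
/-- Let G be a finite group whose Sylow 2-subgroup S has a self-centralizing normal subgroup of rank at least 3. Suppose that either every maximal 2-local subgroup of G is 2-constrained with no nontrivial normal subgroup of odd order, or the centralizer of every involution of G is 2-constrained with no nontrivial normal subgroup of odd order. Then S normalizes no nontrivial subgroup of G of odd order and every 2-local subgroup of G is 2-constrained. -/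
theorem result {G : Type*} [Group G] [Finite G]
    (S : Sylow 2 G) (A : Subgroup G) (hA : Cfsg.IsSCN (S : Subgroup G) A) (hA3 : ¬ Cfsg.PRankLE 2 2 ↥A)
    (h : (∀ M : Subgroup G, Cfsg.IsMaximalTwoLocal M → Cfsg.IsPConstrained 2 ↥M ∧ Cfsg.oddCore ↥M = ⊥) ∨
      (∀ t : G, orderOf t = 2 → Cfsg.IsPConstrained 2 ↥(Subgroup.centralizer ({t} : Set G)) ∧
        Cfsg.oddCore ↥(Subgroup.centralizer ({t} : Set G)) = ⊥)) :
    (∀ X : Subgroup G, Odd (Nat.card ↥X) → (S : Subgroup G) ≤ Subgroup.normalizer (X : Set G) → X = ⊥) ∧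
      (∀ T : Subgroup G, IsPGroup 2 ↥T → T ≠ ⊥ → Cfsg.IsPConstrained 2 ↥(Subgroup.normalizer (T : Set G))) := by
  classical
  haveI : Fact (Nat.Prime 2) := ⟨Nat.prime_two⟩
  -- invariance under isomorphisms
  have congr' : ∀ {X Y : Subgroup G} {A : Subgroup X}, A.map X.subtype = Y → Cfsg.IsPConstrained 2 ↥A → Cfsg.IsPConstrained 2 ↥Y := by
    intro X Y A hA hAc
    let e : ↥A ≃* ↥Y := (A.equivMapOfInjective X.subtype X.subtype_injective).trans (MulEquiv.subgroupCongr hA)
    rw [Cfsg.Agent.Fusion.isPConstrained_iff] at hAc ⊢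
    exact Cfsg.Agent.Fusion.centralizer_pCore_equiv
      (QuotientGroup.congr _ _ e (Cfsg.Agent.Fusion.map_pPrimeCore_equiv e)).symm hAc
  -- in both cases every involution centraliser is constrained
  have hloc : (∀ M : Subgroup G, Cfsg.IsMaximalTwoLocal M → Cfsg.IsPConstrained 2 ↥M ∧ Cfsg.oddCore ↥M = ⊥) →
      ∀ T : Subgroup G, IsPGroup 2 ↥T → T ≠ ⊥ →
        Cfsg.IsPConstrained 2 ↥(Subgroup.normalizer (T : Set G)) ∧ Cfsg.oddCore ↥(Subgroup.normalizer (T : Set G)) = ⊥ := by
    intro hM T hT hT1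
    obtain ⟨M, hle, hMloc, hMmax⟩ := Finite.exists_le_maximal
      (p := fun M : Subgroup G => Cfsg.IsTwoLocal M) (a := Subgroup.normalizer (T : Set G)) ⟨T, hT, hT1, rfl⟩
    obtain ⟨hMc, hMO⟩ := hM M ⟨hMloc, fun N hN hle => le_antisymm (hMmax hN hle) hle⟩
    have hTM : T ≤ M := Subgroup.le_normalizer.trans hle
    have hC := (Cfsg.Agent.Fusion.isPConstrained_iff_of_core_eq_bot hMO).1 hMc
    obtain ⟨hO1, hC1⟩ := Cfsg.Agent.Fusion.normalizer_constrained hC (P := T.subgroupOf M) hT.comap_subtype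
    have hmap : (Subgroup.normalizer ((T.subgroupOf M : Subgroup M) : Set M)).map M.subtype = Subgroup.normalizer (T : Set G) := by
      ext x
      constructor
      · rintro ⟨y, hy, rfl⟩
        refine Subgroup.mem_normalizer_iff.2 fun z => ⟨fun hz => ?_, fun hz => ?_⟩
        · exact (Subgroup.mem_normalizer_iff.1 hy ⟨z, hTM hz⟩).1 hz
        · have hzM : z ∈ M := by
            have := M.mul_mem (M.mul_mem (M.inv_mem y.2) (hTM hz)) y.2
            simpa [mul_assoc] using this
          exact (Subgroup.mem_normalizer_iff.1 hy ⟨z, hzM⟩).2 hz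
      · intro hx
        exact ⟨⟨x, hle hx⟩, Subgroup.mem_normalizer_iff.2 fun z => Subgroup.mem_normalizer_iff.1 hx z, rfl⟩
    let e : ↥(Subgroup.normalizer ((T.subgroupOf M : Subgroup M) : Set M)) ≃* ↥(Subgroup.normalizer (T : Set G)) :=
      ((Subgroup.normalizer ((T.subgroupOf M : Subgroup M) : Set M)).equivMapOfInjective M.subtype M.subtype_injective).trans (MulEquiv.subgroupCongr hmap)
    refine ⟨congr' hmap ((Cfsg.Agent.Fusion.isPConstrained_iff_of_core_eq_bot hO1).2 hC1), ?_⟩
    show Cfsg.pPrimeCore 2 _ = ⊥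
    rw [← Cfsg.Agent.Fusion.map_pPrimeCore_equiv e, hO1, Subgroup.map_bot]
  have hinv : ∀ t : G, orderOf t = 2 → Cfsg.IsPConstrained 2 ↥(Subgroup.centralizer ({t} : Set G)) ∧
      Cfsg.oddCore ↥(Subgroup.centralizer ({t} : Set G)) = ⊥ := by
    rcases h with hM | hC
    · intro t ht
      have hN : Subgroup.normalizer ((Subgroup.zpowers t : Subgroup G) : Set G) = Subgroup.centralizer {t} := by
        have hmem : ∀ w : G, w ∈ Subgroup.zpowers t ↔ w = 1 ∨ w = t := fun w => by
          constructor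
          · rintro ⟨k, rfl⟩
            show t ^ k = 1 ∨ t ^ k = t
            rw [← zpow_mod_orderOf, ht]
            rcases Int.emod_two_eq_zero_or_one k with h | h <;> simp [h]
          · rintro (rfl | rfl)
            exacts [Subgroup.one_mem _, Subgroup.mem_zpowers _]
        have ht1 : t ≠ 1 := fun h => by simp [h] at ht
        ext x
        rw [Subgroup.mem_centralizer_singleton_iff, Subgroup.mem_normalizer_iff]
        constructor
        · intro hx
          rcases (hmem _).1 ((hx t).1 ((hmem t).2 (Or.inr rfl))) with h | h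
          · exact absurd (by rwa [mul_inv_eq_one, mul_eq_left] at h) ht1
          · exact mul_inv_eq_iff_eq_mul.1 h
        · intro hx w
          have hxt : x * t * x⁻¹ = t := by rw [hx, mul_inv_cancel_right]
          rw [hmem, hmem]
          constructor
          · rintro (rfl | rfl)
            exacts [Or.inl (by simp), Or.inr hxt]
          · rintro (h | h)
            · exact Or.inl (by simpa using h)
            · refine Or.inr (mul_right_cancel (b := x⁻¹) (mul_left_cancel (a := x) ?_))
              rw [← mul_assoc, ← mul_assoc, h, hxt]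
      have := hloc hM (Subgroup.zpowers t) (IsPGroup.of_card (n := 1) (by rw [Nat.card_zpowers, ht, pow_one]))
        (fun h => by
          have := Subgroup.mem_bot.1 (h ▸ Subgroup.mem_zpowers t)
          simp [this] at ht)
      rw [hN] at this
      exact this
    · exact hC
  refine ⟨fun X hX hSX => ?_, fun T hT hT1 => ?_⟩
  · -- odd subgroups normalised by S
    obtain ⟨hAS, hSA, hAC⟩ := hA
    obtain ⟨A₁, hA₁e, hA₁c⟩ : ∃ A₁ : Subgroup A, (IsMulCommutative A₁ ∧ ∀ a ∈ A₁, a ^ 2 = 1) ∧ 4 < Nat.card A₁ := by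
      rw [Cfsg.PRankLE] at hA3
      push Not at hA3
      obtain ⟨B, h1, h2, h3⟩ := hA3
      exact ⟨B, ⟨h1, h2⟩, by simpa using h3⟩
    have hAab : ∀ a ∈ A, ∀ b ∈ A, a * b = b * a := fun a ha b hb =>
      (Subgroup.mem_centralizer_iff.1 ((hAC.symm ▸ hb : b ∈ (S : Subgroup G) ⊓ Subgroup.centralizer (A : Set G))).2 a ha)
    -- the involutions of A
    let W : Subgroup G :=
      { carrier := {a | a ∈ A ∧ a ^ 2 = 1}
        one_mem' := ⟨A.one_mem, one_pow 2⟩
        mul_mem' := fun {a b} ha hb => ⟨A.mul_mem ha.1 hb.1, by rw [Commute.mul_pow (hAab a ha.1 b hb.1), ha.2, hb.2, one_mul]⟩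
        inv_mem' := fun {a} ha => ⟨A.inv_mem ha.1, by rw [inv_pow, ha.2, inv_one]⟩ }
    have hWn : ∀ s ∈ (S : Subgroup G), ∀ w ∈ W, s * w * s⁻¹ ∈ W := fun s hs w hw =>
      ⟨(Subgroup.mem_normalizer_iff.1 (hSA hs) w).1 hw.1, by rw [conj_pow, hw.2, mul_one, mul_inv_cancel]⟩
    have hW4 : 4 < Nat.card W := by
      refine hA₁c.trans_le (le_of_eq_of_le (Subgroup.card_map_of_injective A.subtype_injective).symm
        (Subgroup.card_le_of_le ?_))
      rintro _ ⟨a, ha, rfl⟩
      exact ⟨a.2, by rw [← map_pow, hA₁e.2 a ha, map_one]⟩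
    have hWS : W ≤ S := fun w hw => hAS hw.1
    let W' : Subgroup S := W.subgroupOf S
    haveI hW'n : W'.Normal := ⟨fun w hw s => hWn s s.2 w hw⟩
    have hW'c : Nat.card W' = Nat.card W := Nat.card_congr (Subgroup.subgroupOfEquivOfLe hWS).toEquiv
    obtain ⟨z, hzW, hzc, hzo⟩ := Cfsg.Agent.Solv.exists_central_order S.isPGroup' W' (fun h => by
      rw [h, Subgroup.card_bot] at hW'c; omega)
    let Z' := Subgroup.zpowers z
    haveI : Z'.Normal := ⟨fun w hw s => by
      rw [Subgroup.mem_center_iff.1 ((Subgroup.zpowers_le.2 hzc : Z' ≤ Subgroup.center S) hw) s, mul_inv_cancel_right]; exact hw⟩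
    haveI : (W'.map (QuotientGroup.mk' Z')).Normal := Subgroup.Normal.map hW'n _ (QuotientGroup.mk'_surjective Z')
    obtain ⟨-, ⟨w, hw, rfl⟩, hwc, hwo⟩ := Cfsg.Agent.Solv.exists_central_order (S.isPGroup'.to_quotient Z') (W'.map (QuotientGroup.mk' Z')) (fun h => by
      rw [Subgroup.map_eq_bot_iff, QuotientGroup.ker_mk'] at h
      have := Subgroup.card_le_of_le h
      rw [Nat.card_zpowers, hzo, hW'c] at this
      omega)
    have hzw : w ∉ Z' := fun h => by
      rw [QuotientGroup.mk'_apply, (QuotientGroup.eq_one_iff w).2 h, orderOf_one] at hwo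
      omega
    set z₀ : G := (z : G) with hz₀
    set w₀ : G := (w : G) with hw₀
    have hz₀W : z₀ ∈ W := hzW
    have hw₀W : w₀ ∈ W := hw
    have hz₀c : ∀ s ∈ (S : Subgroup G), s * z₀ = z₀ * s := fun s hs =>
      congrArg Subtype.val (Subgroup.mem_center_iff.1 hzc ⟨s, hs⟩)
    have hw₀c : ∀ s ∈ (S : Subgroup G), s * w₀ * s⁻¹ = w₀ ∨ s * w₀ * s⁻¹ = w₀ * z₀ := by
      intro s hs
      have h1 := Subgroup.mem_center_iff.1 hwc (QuotientGroup.mk' Z' ⟨s, hs⟩)
      rw [← map_mul, ← map_mul] at h1
      obtain ⟨k, hk⟩ := QuotientGroup.eq.1 h1.symm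
      have hk' : z ^ k = 1 ∨ z ^ k = z := by
        rw [← zpow_mod_orderOf, hzo]
        rcases Int.emod_two_eq_zero_or_one k with h | h <;> simp [h]
      have hk2 : z₀ ^ k = (w₀ * s)⁻¹ * (s * w₀) := congrArg Subtype.val hk
      have hk3 : s * w₀ * s⁻¹ = w₀ * z₀ ^ k := by
        have hc : s * z₀ ^ k = z₀ ^ k * s := (Commute.zpow_right (hz₀c s hs) k).eq
        have e : s * w₀ = w₀ * s * z₀ ^ k := by rw [hk2]; group
        rw [e, mul_assoc w₀, hc, ← mul_assoc, mul_inv_cancel_right]
      rcases hk' with h | h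
      · left; rw [hk3, show z₀ ^ k = 1 from congrArg Subtype.val h, mul_one]
      · right; rw [hk3, show z₀ ^ k = z₀ from congrArg Subtype.val h]
    let E : Subgroup G := Subgroup.closure {z₀, w₀}
    have hEW : E ≤ W := (Subgroup.closure_le W).2 (by
      rintro x (rfl | rfl)
      exacts [hz₀W, hw₀W])
    have hzE : z₀ ∈ E := Subgroup.subset_closure (Set.mem_insert _ _)
    have hwE : w₀ ∈ E := Subgroup.subset_closure (Set.mem_insert_of_mem _ rfl)
    have horb : ∀ e ∈ E, ∀ s ∈ (S : Subgroup G), s * e * s⁻¹ = e ∨ s * e * s⁻¹ = e * z₀ := by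
      intro e he s hs
      induction he using Subgroup.closure_induction with
      | mem x hx =>
        rcases hx with rfl | rfl
        · left; rw [hz₀c s hs, mul_inv_cancel_right]
        · exact hw₀c s hs
      | one => left; simp
      | mul x y hx hy h1 h2 =>
        have hzz : z₀ * z₀ = 1 := by rw [← pow_two]; exact hz₀W.2
        have hyz : y * z₀ = z₀ * y := hAab y (hEW hy).1 z₀ hz₀W.1
        rw [show s * (x * y) * s⁻¹ = (s * x * s⁻¹) * (s * y * s⁻¹) by group]
        rcases h1 with h1 | h1 <;> rcases h2 with h2 | h2 <;> rw [h1, h2]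
        · exact Or.inl rfl
        · exact Or.inr (mul_assoc x y z₀).symm
        · exact Or.inr (by rw [mul_assoc, ← hyz, ← mul_assoc])
        · exact Or.inl (by rw [mul_assoc x, ← mul_assoc z₀, ← hyz, mul_assoc y, hzz, mul_one])
      | inv x hx h1 =>
        have hxx : x⁻¹ = x := inv_eq_of_mul_eq_one_right (by rw [← pow_two]; exact (hEW hx).2)
        rw [hxx]; exact h1
    -- key: the fixed points of each involution of E in X
    have hkey : ∀ e ∈ E, e ≠ 1 → X ⊓ Subgroup.centralizer {e} = ⊥ := by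
      intro e he he1
      have heo : orderOf e = 2 := orderOf_eq_prime (hEW he).2 he1
      obtain ⟨hCc, hCO⟩ := hinv e heo
      have hCC := (Cfsg.Agent.Fusion.isPConstrained_iff_of_core_eq_bot hCO).1 hCc
      -- C_S(e) has index at most two in S
      let Se : Subgroup G := (S : Subgroup G) ⊓ Subgroup.centralizer {e}
      have hidx : ∀ a ∈ (S : Subgroup G), ∀ b ∈ (S : Subgroup G), a ∉ Se → b ∉ Se → a⁻¹ * b ∈ Se := by
        intro a ha b hb hae hbe
        have hmove : ∀ c ∈ (S : Subgroup G), c ∉ Se → c * e * c⁻¹ = e * z₀ := fun c hc hce =>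
          (horb e he c hc).resolve_left fun h => hce ⟨hc, Subgroup.mem_centralizer_singleton_iff.2 (mul_inv_eq_iff_eq_mul.1 h)⟩
        refine ⟨S.mul_mem (S.inv_mem ha) hb, Subgroup.mem_centralizer_singleton_iff.2 ?_⟩
        have h1 : b * e * b⁻¹ = a * e * a⁻¹ := (hmove b hb hbe).trans (hmove a ha hae).symm
        calc a⁻¹ * b * e = a⁻¹ * (b * e * b⁻¹) * b := by group
          _ = e * (a⁻¹ * b) := by rw [h1]; group
      have hcardS : Nat.card (S : Subgroup G) ≤ 2 * Nat.card Se := by
        by_cases hle : (S : Subgroup G) ≤ Se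
        · have := Subgroup.card_le_of_le hle
          omega
        obtain ⟨a, ha, hae⟩ := SetLike.not_le_iff_exists.1 hle
        have hsub : ((S : Subgroup G) : Set G) ⊆ (Se : Set G) ∪ (fun x => a * x) '' (Se : Set G) := fun b hb => by
          by_cases hbe : b ∈ Se
          · exact Or.inl hbe
          · exact Or.inr ⟨a⁻¹ * b, hidx a ha b hb hae hbe, mul_inv_cancel_left a b⟩
        have h1 := (Set.ncard_le_ncard hsub).trans (Set.ncard_union_le _ _)
        rw [Set.ncard_image_of_injective _ (mul_right_injective a), ← Nat.card_coe_set_eq, ← Nat.card_coe_set_eq] at h1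
        rw [two_mul]
        exact h1
      set Cs := Subgroup.centralizer ({e} : Set G) with hCs
      have hSeC : Se ≤ Cs := inf_le_right
      have hSep : IsPGroup 2 Se := S.isPGroup'.to_le inf_le_left
      obtain ⟨T', hT'⟩ := (hSep.comap_subtype : IsPGroup 2 (Se.subgroupOf Cs)).exists_le_sylow
      let Se' : Subgroup (T' : Subgroup Cs) := (Se.subgroupOf Cs).subgroupOf T'
      have hidx2 : ∀ x y : Cs, x ∈ (T' : Subgroup Cs) → y ∈ (T' : Subgroup Cs) → (x : G) ∉ Se → (y : G) ∉ Se → (x : G) * y ∈ Se := by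
        intro x y hx hy hxe hye
        have hc1 : Nat.card Se' = Nat.card Se := by
          exact (Nat.card_congr (Subgroup.subgroupOfEquivOfLe hT').toEquiv).trans (Nat.card_congr (Subgroup.subgroupOfEquivOfLe hSeC).toEquiv)
        have hc2 : Nat.card (T' : Subgroup Cs) ≤ Nat.card (S : Subgroup G) := by
          rw [← Subgroup.card_map_of_injective Cs.subtype_injective]
          obtain ⟨T'', hT''⟩ := (T'.isPGroup'.map Cs.subtype).exists_le_sylow
          exact (Subgroup.card_le_of_le hT'').trans (Sylow.card_eq_multiplicity T'' ▸ (Sylow.card_eq_multiplicity S).ge)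
        have hi : Se'.index ≤ 2 := by
          by_contra h
          have h3 : 3 * Nat.card Se' ≤ Se'.index * Nat.card Se' := Nat.mul_le_mul_right _ (by omega)
          rw [mul_comm Se'.index, Se'.card_mul_index, hc1] at h3
          have := Nat.card_pos (α := Se)
          omega
        rcases Nat.lt_or_ge Se'.index 2 with h | h
        · have h1 : Se'.index = 1 := by have := Subgroup.FiniteIndex.index_ne_zero (H := Se'); omega
          have : (⟨x, hx⟩ : (T' : Subgroup Cs)) ∈ Se' := by rw [Subgroup.index_eq_one.1 h1]; exact Subgroup.mem_top _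
          exact absurd this hxe
        · exact (Subgroup.mul_mem_iff_of_index_two (hi.antisymm h) (a := ⟨x, hx⟩) (b := ⟨y, hy⟩)).2 (iff_of_false hxe hye)
      set Q := Cfsg.pCore 2 ↥Cs with hQ
      rw [Subgroup.eq_bot_iff_forall]
      intro y₀ hy₀
      obtain ⟨hyX, hyC⟩ := hy₀
      have hodd : ∀ g ∈ X, Odd (orderOf g) := fun g hg => hX.of_dvd_nat (Subgroup.orderOf_mk g hg ▸ orderOf_dvd_natCard (⟨g, hg⟩ : X))
      have h2el : ∀ g : Cs, g ∈ Q → (g : G) ∈ X → g = 1 := fun g hg hgX => by
        obtain ⟨k, hk⟩ := (Cfsg.Agent.Fusion.isPGroup_pCore 2 ↥Cs) ⟨g, hg⟩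
        have hk' : g ^ 2 ^ k = 1 := congrArg Subtype.val hk
        obtain ⟨j, -, hj⟩ := (Nat.dvd_prime_pow Nat.prime_two).1 (orderOf_dvd_of_pow_eq_one hk')
        have ho := hodd _ hgX
        rw [Subgroup.orderOf_coe, hj] at ho
        rcases Nat.eq_zero_or_pos j with h | h
        · rw [h, pow_zero] at hj; exact orderOf_eq_one_iff.1 hj
        · exact absurd ho (Nat.not_odd_iff_even.2 ((Nat.even_pow).2 ⟨even_two, h.ne'⟩))
      let y : Cs := ⟨y₀, hyC⟩
      have hQn : Q.Normal := inferInstance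
      -- y centralises Q ⊓ Se
      have hfix : ∀ q : Cs, q ∈ Q → (q : G) ∈ Se → ∀ m : ℕ, y ^ m * q = q * y ^ m := by
        intro q hq hqe m
        have hsubX : ((y ^ m : Cs) : G) ∈ X := by rw [SubmonoidClass.coe_pow]; exact X.pow_mem hyX m
        have h1 : q * y ^ m * q⁻¹ * (y ^ m)⁻¹ = 1 := h2el _ (by
            rw [show q * y ^ m * q⁻¹ * (y ^ m)⁻¹ = q * (y ^ m * q⁻¹ * (y ^ m)⁻¹) by group]
            exact Q.mul_mem hq (hQn.conj_mem _ (Q.inv_mem hq) _)) (by
            simp only [Subgroup.coe_mul, Subgroup.coe_inv]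
            exact X.mul_mem ((Subgroup.mem_normalizer_iff.1 (hSX hqe.1) _).1 hsubX) (X.inv_mem hsubX))
        exact (mul_inv_eq_iff_eq_mul.1 (mul_inv_eq_one.1 h1)).symm
      have hy1 : y ∈ Q := hCC (Subgroup.mem_centralizer_iff.2 fun q hq => by
        by_cases hqe : (q : G) ∈ Se
        · have := hfix q hq hqe 1
          rw [pow_one] at this
          exact this.symm
        have hqc : y * q * y⁻¹ ∈ Q := hQn.conj_mem q hq y
        have hqce : ((y * q * y⁻¹ : Cs) : G) ∉ Se := fun h => hqe (by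
          have h' := hfix (y * q * y⁻¹) hqc h 1
          rw [pow_one] at h'
          rwa [show q = y * q * y⁻¹ from mul_left_cancel (a := y) (by rw [h']; group)])
        let w : Cs := y * q * y⁻¹ * q⁻¹
        have hwQ : w ∈ Q := Q.mul_mem hqc (Q.inv_mem hq)
        have hQT : Q ≤ (T' : Subgroup Cs) := Cfsg.Agent.Fusion.pCore_le_sylow T'
        have hwe : (w : G) ∈ Se := hidx2 _ q⁻¹ (hQT hqc) (hQT (Q.inv_mem hq)) hqce
          (fun h => hqe (inv_mem_iff.1 h))
        have hiter : ∀ m : ℕ, y ^ m * q * (y ^ m)⁻¹ = w ^ m * q := by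
          intro m
          induction m with
          | zero => simp
          | succ m ih =>
            have hw : y ^ m * w * (y ^ m)⁻¹ = w := by rw [hfix w hwQ hwe m, mul_inv_cancel_right]
            calc y ^ (m + 1) * q * (y ^ (m + 1))⁻¹ = (y ^ m * w * (y ^ m)⁻¹) * (y ^ m * q * (y ^ m)⁻¹) := by
                  simp only [w, pow_succ]; group
              _ = w ^ (m + 1) * q := by rw [hw, ih, ← mul_assoc, ← pow_succ']
        have h1 := hiter (orderOf y)
        rw [pow_orderOf_eq_one, one_mul, inv_one, mul_one, right_eq_mul] at h1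
        obtain ⟨k, hk⟩ := (Cfsg.Agent.Fusion.isPGroup_pCore 2 ↥Cs) ⟨w, hwQ⟩
        have hk' : w ^ 2 ^ k = 1 := congrArg Subtype.val hk
        have hy2 : Odd (orderOf y) := by rw [← Subgroup.orderOf_coe]; exact hodd _ hyX
        have hw1 : w = 1 := by
          have := Nat.eq_one_of_dvd_coprimes (hy2.coprime_two_right.pow_right k)
            (orderOf_dvd_of_pow_eq_one h1) (orderOf_dvd_of_pow_eq_one hk')
          exact orderOf_eq_one_iff.1 this
        exact (mul_inv_eq_iff_eq_mul.1 (mul_inv_eq_one.1 hw1)).symm)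
      exact congrArg Subtype.val (h2el y hy1 hyX)
    have hEc : IsMulCommutative E := ⟨⟨fun a b => Subtype.ext (hAab a (hEW a.2).1 b (hEW b.2).1)⟩⟩
    have hE2 : IsPGroup 2 E := fun x => ⟨1, Subtype.ext (by rw [pow_one]; exact (hEW x.2).2)⟩
    have hEX : E ≤ Subgroup.normalizer (X : Set G) := fun x hx => hSX (hWS (hEW hx))
    obtain ⟨k, hk⟩ := IsPGroup.iff_card.1 hE2
    rw [← Cfsg.Agent.Solv.gen_eq E X hEc hEX (by
      rw [hk]; exact (hX.coprime_two_left).pow_left k), eq_bot_iff]
    refine iSup₂_le fun B hB => ?_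
    obtain ⟨hBE, a, haE, hBa⟩ := hB
    obtain ⟨b, hbB, hb1⟩ : ∃ b ∈ B, b ≠ 1 := B.bot_or_exists_ne_one.resolve_left fun hB0 => by
      rw [hB0, bot_sup_eq] at hBa
      have hz' : z₀ ∈ Subgroup.zpowers a := by rw [hBa]; exact hzE
      have hw' : w₀ ∈ Subgroup.zpowers a := by rw [hBa]; exact hwE
      have hpow : ∀ x ∈ Subgroup.zpowers a, x = 1 ∨ x = a := by
        rintro _ ⟨k, rfl⟩
        show a ^ k = 1 ∨ a ^ k = a
        have h2 : a ^ (2 : ℤ) = 1 := by rw [zpow_two, ← pow_two]; exact (hEW haE).2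
        rw [← Int.mul_ediv_add_emod k 2, zpow_add, zpow_mul, h2, one_zpow, one_mul]
        rcases Int.emod_two_eq_zero_or_one k with h | h <;> simp [h]
      have hz1 : z₀ ≠ 1 := fun h => by
        have : z = 1 := Subtype.ext h
        rw [this, orderOf_one] at hzo; omega
      have hwz : w₀ ≠ 1 ∧ w₀ ≠ z₀ := by
        refine ⟨fun h => hzw ?_, fun h => hzw ?_⟩
        · rw [show w = 1 from Subtype.ext h]; exact Subgroup.one_mem _
        · rw [show w = z from Subtype.ext h]; exact Subgroup.mem_zpowers z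
      exact hwz.2 (((hpow _ hw').resolve_left hwz.1).trans ((hpow _ hz').resolve_left hz1).symm)
    intro x hx
    have : x ∈ X ⊓ Subgroup.centralizer {b} := ⟨hx.1,
      Subgroup.mem_centralizer_singleton_iff.2 (Subgroup.mem_centralizer_iff.1 hx.2 b hbB).symm⟩
    rwa [hkey b (hBE hbB) hb1] at this
  · -- locals
    rcases h with hM | hC
    · exact (hloc hM T hT hT1).1
    have hCT : Cfsg.IsPConstrained 2 ↥(Subgroup.centralizer (T : Set G)) := by
      haveI : Nontrivial T := (Subgroup.nontrivial_iff_ne_bot T).2 hT1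
      haveI := hT.center_nontrivial
      obtain ⟨k, hk0, hk⟩ := (hT.to_subgroup (Subgroup.center T)).nontrivial_iff_card.1 inferInstance
      obtain ⟨z, hz⟩ := exists_prime_orderOf_dvd_card' 2 (G := Subgroup.center T) (hk ▸ dvd_pow_self 2 hk0.ne')
      have hz' : orderOf ((z : T) : G) = 2 := by rw [Subgroup.orderOf_coe, Subgroup.orderOf_coe, hz]
      set H := Subgroup.centralizer ({((z : T) : G)} : Set G) with hH
      have hTH : T ≤ H := fun t ht => Subgroup.mem_centralizer_singleton_iff.2
        (congrArg Subtype.val (Subgroup.mem_center_iff.1 z.2 ⟨t, ht⟩))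
      refine congr' (X := H) ?_ (Cfsg.Agent.Fusion.centralizer_pConstrained (hC _ hz').1
        (P := T.subgroupOf H) hT.comap_subtype)
      ext x
      constructor
      · rintro ⟨y, hy, rfl⟩
        exact Subgroup.mem_centralizer_iff.2 fun t ht => congrArg Subtype.val (Subgroup.mem_centralizer_iff.1 hy ⟨t, hTH ht⟩ ht)
      · intro hx
        exact ⟨⟨x, Subgroup.mem_centralizer_singleton_iff.2 ((Subgroup.mem_centralizer_iff.1 hx _ (z : T).2).symm)⟩,
          Subgroup.mem_centralizer_iff.2 fun t ht => Subtype.ext (Subgroup.mem_centralizer_iff.1 hx t ht), rfl⟩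
    set N := Subgroup.normalizer (T : Set G) with hN
    let T' : Subgroup N := T.subgroupOf N
    haveI : T'.Normal := Subgroup.normal_in_normalizer
    have hT' : IsPGroup 2 T' := hT.comap_subtype
    let C : Subgroup N := Subgroup.centralizer (T' : Set N)
    haveI : C.Normal := Subgroup.normal_centralizer
    have hCc : Cfsg.IsPConstrained 2 ↥C := by
      let e : ↥C ≃* ↥(Subgroup.centralizer (T : Set G)) := (C.equivMapOfInjective N.subtype N.subtype_injective).trans
        (MulEquiv.subgroupCongr (by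
          ext x
          constructor
          · rintro ⟨y, hy, rfl⟩
            exact Subgroup.mem_centralizer_iff.2 fun t ht =>
              congrArg Subtype.val (Subgroup.mem_centralizer_iff.1 hy ⟨t, Subgroup.le_normalizer ht⟩ ht)
          · intro hx
            exact ⟨⟨x, Subgroup.mem_normalizer_iff.2 fun t => ⟨fun ht => by
                rw [← Subgroup.mem_centralizer_iff.1 hx t ht, mul_inv_cancel_right]; exact ht, fun ht => by
                have e := Subgroup.mem_centralizer_iff.1 hx _ ht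
                rw [inv_mul_cancel_right] at e
                rwa [mul_left_cancel e]⟩⟩,
              Subgroup.mem_centralizer_iff.2 fun t ht => Subtype.ext (Subgroup.mem_centralizer_iff.1 hx t ht), rfl⟩))
      rw [Cfsg.Agent.Fusion.isPConstrained_iff] at hCT ⊢
      exact Cfsg.Agent.Fusion.centralizer_pCore_equiv
        (QuotientGroup.congr _ _ e (Cfsg.Agent.Fusion.map_pPrimeCore_equiv e)) hCT
    rw [Cfsg.Agent.Fusion.isPConstrained_iff] at hCc ⊢
    set R := Cfsg.pPrimeCore 2 ↥N with hR
    have hTR : T' ⊓ R = ⊥ := by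
      rw [inf_comm]; exact Cfsg.Agent.Fusion.coprime_inf_pGroup (Cfsg.Agent.Fusion.card_pPrimeCore_coprime 2 _) hT'
    have hRC : R ≤ C := fun r hr => Subgroup.mem_centralizer_iff.2 fun t ht =>
      (Subgroup.commute_of_normal_of_disjoint T' R inferInstance inferInstance (disjoint_iff.2 hTR) t r ht hr).eq
    set RC := Cfsg.pPrimeCore 2 ↥C with hRCdef
    have hRmap : RC.map C.subtype = R := by
      refine le_antisymm (Cfsg.Agent.Fusion.le_pPrimeCore ?_) ?_
      · rw [Subgroup.card_map_of_injective C.subtype_injective]; exact Cfsg.Agent.Fusion.card_pPrimeCore_coprime 2 _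
      · intro r hr
        refine ⟨⟨r, hRC hr⟩, ?_, rfl⟩
        have : R.subgroupOf C ≤ RC := Cfsg.Agent.Fusion.le_pPrimeCore (by
          rw [Nat.card_congr (Subgroup.subgroupOfEquivOfLe hRC).toEquiv]; exact Cfsg.Agent.Fusion.card_pPrimeCore_coprime 2 _)
        exact this (show (⟨r, hRC hr⟩ : C) ∈ R.subgroupOf C from hr)
    let π := QuotientGroup.mk' R
    let f : ↥C ⧸ RC →* ↥N ⧸ R := QuotientGroup.lift RC (π.comp C.subtype) fun x hx =>
      (QuotientGroup.eq_one_iff (x : N)).2 (hRmap ▸ Subgroup.mem_map_of_mem C.subtype hx)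
    have hf : Function.Injective f := (injective_iff_map_eq_one f).2 fun x hx => by
      obtain ⟨c, rfl⟩ := QuotientGroup.mk'_surjective RC x
      obtain ⟨c', hc', e⟩ := hRmap.symm ▸ ((QuotientGroup.eq_one_iff (c : N)).1 hx)
      exact (QuotientGroup.eq_one_iff c).2 (C.subtype_injective e ▸ hc')
    set O := Cfsg.pCore 2 (↥C ⧸ RC) with hO
    haveI hOn : (O.comap (QuotientGroup.mk' RC)).Characteristic := by
      refine Subgroup.characteristic_iff_map_le.2 fun φ => ?_
      rintro _ ⟨c, hc, rfl⟩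
      let φ' := QuotientGroup.congr RC RC φ (Cfsg.Agent.Fusion.map_pPrimeCore_equiv φ)
      have := Cfsg.Agent.Fusion.map_pCore_le (p := 2) φ'
      exact this ⟨_, hc, rfl⟩
    let O' : Subgroup N := (O.comap (QuotientGroup.mk' RC)).map C.subtype
    have hOle : O.map f ≤ Cfsg.pCore 2 (↥N ⧸ R) := by
      have hmap : O.map f = O'.map π := by
        rw [Subgroup.map_map]
        conv_lhs => rw [← Subgroup.map_comap_eq_self_of_surjective (QuotientGroup.mk'_surjective RC) O, Subgroup.map_map]
        rfl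
      haveI : O'.Normal := ConjAct.normal_of_characteristic_of_normal
      haveI : (O.map f).Normal := hmap ▸ Subgroup.Normal.map inferInstance π (QuotientGroup.mk'_surjective R)
      exact Cfsg.Agent.Fusion.le_pCore ((Cfsg.Agent.Fusion.isPGroup_pCore 2 _).map f)
    intro x hx
    obtain ⟨n, rfl⟩ := QuotientGroup.mk'_surjective R x
    have hTle : T'.map π ≤ Cfsg.pCore 2 (↥N ⧸ R) := by
      haveI : (T'.map π).Normal := Subgroup.Normal.map inferInstance π (QuotientGroup.mk'_surjective R)
      exact Cfsg.Agent.Fusion.le_pCore (hT'.map π)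
    have hnC : n ∈ C := Subgroup.mem_centralizer_iff.2 fun t ht => by
      have h1 : π (t * n) = π (n * t) := by
        rw [map_mul, map_mul]; exact Subgroup.mem_centralizer_iff.1 hx _ (hTle (Subgroup.mem_map_of_mem π ht))
      have h2 : (n * t)⁻¹ * (t * n) ∈ R := QuotientGroup.eq.1 h1.symm
      have h3 : (n * t)⁻¹ * (t * n) ∈ T' := by
        rw [show (n * t)⁻¹ * (t * n) = t⁻¹ * (n⁻¹ * t * n⁻¹⁻¹) by group]
        exact T'.mul_mem (T'.inv_mem ht) (Subgroup.Normal.conj_mem inferInstance t ht n⁻¹)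
      exact (inv_mul_eq_one.1 (Subgroup.mem_bot.1 (hTR ▸ ⟨h3, h2⟩ : (n * t)⁻¹ * (t * n) ∈ (⊥ : Subgroup N)))).symm
    let y : ↥C ⧸ RC := QuotientGroup.mk' RC ⟨n, hnC⟩
    have hy : y ∈ O := hCc (Subgroup.mem_centralizer_iff.2 fun o ho => hf (by
      rw [map_mul, map_mul]
      exact Subgroup.mem_centralizer_iff.1 hx _ (hOle (Subgroup.mem_map_of_mem f ho))))
    exact hOle (Subgroup.mem_map_of_mem f hy)

end Cfsg.Agent.S3246
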