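import Cfsg.Statements.S3247
import Mathlib
import Cfsg.Agent.Lib.Fusion.LocalConstrained
-- import your own Cfsg.Agent.* helpers here

set_option autoImplicit false
open Cfsg

namespace Cfsg.Agent.S3247

/-- Let G be a finite group and p a prime; here a p-local subgroup means the normalizer of a nontrivial p-subgroup, other than G itself. If every p-local subgroup of G that is maximal among p-local subgroups is p-constrained, or if the centralizer of every element of order p of G is p-constrained, then every p-local subgroup of G is p-constrained. -/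
theorem result {G : Type*} [Group G] [Finite G] (p : ℕ) [hp : Fact p.Prime]
    (h : (∀ M : Subgroup G, (∃ T : Subgroup G, IsPGroup p ↥T ∧ T ≠ ⊥ ∧ M = Subgroup.normalizer (T : Set G)) → M ≠ ⊤ →
        (∀ M' : Subgroup G, (∃ T' : Subgroup G, IsPGroup p ↥T' ∧ T' ≠ ⊥ ∧ M' = Subgroup.normalizer (T' : Set G)) → M' ≠ ⊤ → M ≤ M' → M = M') →
        Cfsg.IsPConstrained p ↥M) ∨
      (∀ x : G, orderOf x = p → Cfsg.IsPConstrained p ↥(Subgroup.centralizer ({x} : Set G))))
    (T : Subgroup G) (hT : IsPGroup p ↥T) (hT1 : T ≠ ⊥) (hTG : Subgroup.normalizer (T : Set G) ≠ ⊤) :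
    Cfsg.IsPConstrained p ↥(Subgroup.normalizer (T : Set G)) := by
  classical
  -- invariance under isomorphisms
  have congr' : ∀ {X Y : Subgroup G} {A : Subgroup X}, A.map X.subtype = Y → Cfsg.IsPConstrained p ↥A → Cfsg.IsPConstrained p ↥Y := by
    intro X Y A hA hAc
    let e : ↥A ≃* ↥Y := (A.equivMapOfInjective X.subtype X.subtype_injective).trans (MulEquiv.subgroupCongr hA)
    rw [Cfsg.Agent.Fusion.isPConstrained_iff] at hAc ⊢
    exact Cfsg.Agent.Fusion.centralizer_pCore_equiv
      (QuotientGroup.congr _ _ e (Cfsg.Agent.Fusion.map_pPrimeCore_equiv e)).symm hAc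
  rcases h with hM | hC
  · obtain ⟨M, hle, ⟨hMloc, hMne⟩, hMmax⟩ := Finite.exists_le_maximal
      (p := fun M : Subgroup G => (∃ T : Subgroup G, IsPGroup p ↥T ∧ T ≠ ⊥ ∧ M = Subgroup.normalizer (T : Set G)) ∧ M ≠ ⊤)
      (a := Subgroup.normalizer (T : Set G)) ⟨⟨T, hT, hT1, rfl⟩, hTG⟩
    have hMc := hM M hMloc hMne fun M' h1 h2 h3 => le_antisymm h3 (hMmax ⟨h1, h2⟩ h3)
    have hTM : T ≤ M := Subgroup.le_normalizer.trans hle
    refine congr' (X := M) ?_ (Cfsg.Agent.Fusion.normalizer_pConstrained hMc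
      (P := T.subgroupOf M) (hT.comap_subtype)).1
    ext x
    constructor
    · rintro ⟨y, hy, rfl⟩
      refine Subgroup.mem_normalizer_iff.2 fun z => ⟨fun hz => ?_, fun hz => ?_⟩
      · exact (Subgroup.mem_normalizer_iff.1 hy ⟨z, hTM hz⟩).1 hz
      · have hzM : z ∈ M := by
          have := M.mul_mem (M.mul_mem (M.inv_mem y.2) (hTM hz)) y.2
          simpa [mul_assoc] using this
        exact (Subgroup.mem_normalizer_iff.1 hy ⟨z, hzM⟩).2 hz
    · intro hx
      exact ⟨⟨x, hle hx⟩, Subgroup.mem_normalizer_iff.2 fun z => Subgroup.mem_normalizer_iff.1 hx z, rfl⟩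
  -- centralisers
  have hCT : Cfsg.IsPConstrained p ↥(Subgroup.centralizer (T : Set G)) := by
    haveI : Nontrivial T := (Subgroup.nontrivial_iff_ne_bot T).2 hT1
    haveI := hT.center_nontrivial
    obtain ⟨k, hk0, hk⟩ := (hT.to_subgroup (Subgroup.center T)).nontrivial_iff_card.1 inferInstance
    obtain ⟨z, hz⟩ := exists_prime_orderOf_dvd_card' p (G := Subgroup.center T) (hk ▸ dvd_pow_self p hk0.ne')
    have hz' : orderOf ((z : T) : G) = p := by rw [Subgroup.orderOf_coe, Subgroup.orderOf_coe, hz]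
    set H := Subgroup.centralizer ({((z : T) : G)} : Set G) with hH
    have hTH : T ≤ H := fun t ht => Subgroup.mem_centralizer_singleton_iff.2
      (congrArg Subtype.val (Subgroup.mem_center_iff.1 z.2 ⟨t, ht⟩))
    refine congr' (X := H) ?_ (Cfsg.Agent.Fusion.centralizer_pConstrained (hC _ hz')
      (P := T.subgroupOf H) hT.comap_subtype)
    ext x
    constructor
    · rintro ⟨y, hy, rfl⟩
      exact Subgroup.mem_centralizer_iff.2 fun t ht => congrArg Subtype.val (Subgroup.mem_centralizer_iff.1 hy ⟨t, hTH ht⟩ ht)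
    · intro hx
      exact ⟨⟨x, Subgroup.mem_centralizer_singleton_iff.2 ((Subgroup.mem_centralizer_iff.1 hx _ (z : T).2).symm)⟩,
        Subgroup.mem_centralizer_iff.2 fun t ht => Subtype.ext (Subgroup.mem_centralizer_iff.1 hx t ht), rfl⟩
  set N := Subgroup.normalizer (T : Set G) with hN
  let T' : Subgroup N := T.subgroupOf N
  haveI : T'.Normal := Subgroup.normal_in_normalizer
  have hT' : IsPGroup p T' := hT.comap_subtype
  let C : Subgroup N := Subgroup.centralizer (T' : Set N)
  haveI : C.Normal := Subgroup.normal_centralizer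
  have hCc : Cfsg.IsPConstrained p ↥C := by
    let e : ↥C ≃* ↥(Subgroup.centralizer (T : Set G)) := (C.equivMapOfInjective N.subtype N.subtype_injective).trans
      (MulEquiv.subgroupCongr (by
        ext x
        constructor
        · rintro ⟨y, hy, rfl⟩
          exact Subgroup.mem_centralizer_iff.2 fun t ht =>
            congrArg Subtype.val (Subgroup.mem_centralizer_iff.1 hy ⟨t, Subgroup.le_normalizer ht⟩ ht)
        · intro hx
          exact ⟨⟨x, Subgroup.mem_normalizer_iff.2 fun t => ⟨fun ht => by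
              rw [← Subgroup.mem_centralizer_iff.1 hx t ht, mul_inv_cancel_right]; exact ht, fun ht => by
              have e := Subgroup.mem_centralizer_iff.1 hx _ ht
              rw [inv_mul_cancel_right] at e
              rwa [mul_left_cancel e]⟩⟩,
            Subgroup.mem_centralizer_iff.2 fun t ht => Subtype.ext (Subgroup.mem_centralizer_iff.1 hx t ht), rfl⟩))
    rw [Cfsg.Agent.Fusion.isPConstrained_iff] at hCT ⊢
    exact Cfsg.Agent.Fusion.centralizer_pCore_equiv
      (QuotientGroup.congr _ _ e (Cfsg.Agent.Fusion.map_pPrimeCore_equiv e)) hCT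
  rw [Cfsg.Agent.Fusion.isPConstrained_iff] at hCc ⊢
  set R := Cfsg.pPrimeCore p ↥N with hR
  have hTR : T' ⊓ R = ⊥ := by
    rw [inf_comm]; exact Cfsg.Agent.Fusion.coprime_inf_pGroup (Cfsg.Agent.Fusion.card_pPrimeCore_coprime p _) hT'
  have hRC : R ≤ C := fun r hr => Subgroup.mem_centralizer_iff.2 fun t ht =>
    (Subgroup.commute_of_normal_of_disjoint T' R inferInstance inferInstance (disjoint_iff.2 hTR) t r ht hr).eq
  set RC := Cfsg.pPrimeCore p ↥C with hRCdef
  have hRmap : RC.map C.subtype = R := by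
    refine le_antisymm (Cfsg.Agent.Fusion.le_pPrimeCore ?_) ?_
    · rw [Subgroup.card_map_of_injective C.subtype_injective]; exact Cfsg.Agent.Fusion.card_pPrimeCore_coprime p _
    · intro r hr
      refine ⟨⟨r, hRC hr⟩, ?_, rfl⟩
      have : R.subgroupOf C ≤ RC := Cfsg.Agent.Fusion.le_pPrimeCore (by
        rw [Nat.card_congr (Subgroup.subgroupOfEquivOfLe hRC).toEquiv]; exact Cfsg.Agent.Fusion.card_pPrimeCore_coprime p _)
      exact this (show (⟨r, hRC hr⟩ : C) ∈ R.subgroupOf C from hr)
  let π := QuotientGroup.mk' R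
  let f : ↥C ⧸ RC →* ↥N ⧸ R := QuotientGroup.lift RC (π.comp C.subtype) fun x hx =>
    (QuotientGroup.eq_one_iff (x : N)).2 (hRmap ▸ Subgroup.mem_map_of_mem C.subtype hx)
  have hf : Function.Injective f := (injective_iff_map_eq_one f).2 fun x hx => by
    obtain ⟨c, rfl⟩ := QuotientGroup.mk'_surjective RC x
    obtain ⟨c', hc', e⟩ := hRmap.symm ▸ ((QuotientGroup.eq_one_iff (c : N)).1 hx)
    exact (QuotientGroup.eq_one_iff c).2 (C.subtype_injective e ▸ hc')
  set O := Cfsg.pCore p (↥C ⧸ RC) with hO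
  haveI hOn : (O.comap (QuotientGroup.mk' RC)).Characteristic := by
    refine Subgroup.characteristic_iff_map_le.2 fun φ => ?_
    rintro _ ⟨c, hc, rfl⟩
    let φ' := QuotientGroup.congr RC RC φ (Cfsg.Agent.Fusion.map_pPrimeCore_equiv φ)
    have := Cfsg.Agent.Fusion.map_pCore_le (p := p) φ'
    exact this ⟨_, hc, rfl⟩
  let O' : Subgroup N := (O.comap (QuotientGroup.mk' RC)).map C.subtype
  have hOle : O.map f ≤ Cfsg.pCore p (↥N ⧸ R) := by
    have hmap : O.map f = O'.map π := by
      rw [Subgroup.map_map]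
      conv_lhs => rw [← Subgroup.map_comap_eq_self_of_surjective (QuotientGroup.mk'_surjective RC) O, Subgroup.map_map]
      rfl
    haveI : O'.Normal := ConjAct.normal_of_characteristic_of_normal
    haveI : (O.map f).Normal := hmap ▸ Subgroup.Normal.map inferInstance π (QuotientGroup.mk'_surjective R)
    exact Cfsg.Agent.Fusion.le_pCore ((Cfsg.Agent.Fusion.isPGroup_pCore p _).map f)
  intro x hx
  obtain ⟨n, rfl⟩ := QuotientGroup.mk'_surjective R x
  have hTle : T'.map π ≤ Cfsg.pCore p (↥N ⧸ R) := by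
    haveI : (T'.map π).Normal := Subgroup.Normal.map inferInstance π (QuotientGroup.mk'_surjective R)
    exact Cfsg.Agent.Fusion.le_pCore (hT'.map π)
  have hnC : n ∈ C := Subgroup.mem_centralizer_iff.2 fun t ht => by
    have h1 : π (t * n) = π (n * t) := by
      rw [map_mul, map_mul]; exact Subgroup.mem_centralizer_iff.1 hx _ (hTle (Subgroup.mem_map_of_mem π ht))
    have h2 : (n * t)⁻¹ * (t * n) ∈ R := QuotientGroup.eq.1 h1.symm
    have h3 : (n * t)⁻¹ * (t * n) ∈ T' := by
      rw [show (n * t)⁻¹ * (t * n) = t⁻¹ * (n⁻¹ * t * n⁻¹⁻¹) by group]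
      exact T'.mul_mem (T'.inv_mem ht) (Subgroup.Normal.conj_mem inferInstance t ht n⁻¹)
    exact (inv_mul_eq_one.1 (Subgroup.mem_bot.1 (hTR ▸ ⟨h3, h2⟩ : (n * t)⁻¹ * (t * n) ∈ (⊥ : Subgroup N)))).symm
  let y : ↥C ⧸ RC := QuotientGroup.mk' RC ⟨n, hnC⟩
  have hy : y ∈ O := hCc (Subgroup.mem_centralizer_iff.2 fun o ho => hf (by
    rw [map_mul, map_mul]
    exact Subgroup.mem_centralizer_iff.1 hx _ (hOle (Subgroup.mem_map_of_mem f ho))))
  exact hOle (Subgroup.mem_map_of_mem f hy)

end Cfsg.Agent.S3247
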