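import Cfsg.Statements.S3252
import Cfsg.Agent.Lib.Perm.CyclicTimesZ.Reduce
-- import your own Cfsg.Agent.* helpers here

set_option autoImplicit false
open Cfsg

namespace Cfsg.Agent.S3252

/-- Let G be a finite non-solvable group that is the product G = AB of a cyclic subgroup A and a subgroup B all of whose Sylow subgroups are cyclic. Then the quotient of G by its largest solvable normal subgroup is isomorphic to PGL₂(p) for some prime p > 3. -/
theorem result {G : Type*} [Group G] [Finite G] (hG : ¬ Group.IsSolvable G)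
    (A B : Subgroup G) (hA : IsCyclic ↥A) (hB : ∀ (q : ℕ) [Fact q.Prime] (Q : Sylow q ↥B), IsCyclic ↥(Q : Subgroup ↥B))
    (hAB : ∀ g : G, ∃ a ∈ A, ∃ b ∈ B, g = a * b)
    (R : Subgroup G) [hR : R.Normal] (hRs : Group.IsSolvable ↥R) (hRmax : ∀ N : Subgroup G, N.Normal → Group.IsSolvable ↥N → N ≤ R) :
    ∃ (F : Type) (_ : Field F) (_ : Fintype F) (p : ℕ), p.Prime ∧ 3 < p ∧ Fintype.card F = p ∧
      Nonempty ((G ⧸ R) ≃* (GL (Fin 2) F ⧸ Subgroup.center (GL (Fin 2) F))) := by
  have hBz : IsZGroup B := ⟨fun q hq Q => by haveI := Fact.mk hq; exact hB q Q⟩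
  obtain ⟨F, iF, iFF, hp, h3, π, hπ, hker⟩ :=
    Cfsg.Agent.Perm.CyclicTimesZ.main_aux _ G rfl hG A B hA hBz hAB
  have hle : π.ker ≤ R := hRmax _ inferInstance hker
  haveI : (R.map π).Normal := hR.map π hπ
  have hRb : R.map π = ⊥ := Cfsg.Agent.Perm.CyclicTimesZ.Model.no_solvable_normal h3 _ (by
    haveI := hRs
    exact Group.isSolvable_of_surjective (f := π.subgroupMap R) (π.subgroupMap_surjective R))
  have hge : R ≤ π.ker := fun x hx => by
    rw [MonoidHom.mem_ker, ← Subgroup.mem_bot, ← hRb]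
    exact Subgroup.mem_map_of_mem π hx
  exact ⟨F, iF, iFF, Fintype.card F, hp, h3, rfl,
    ⟨(QuotientGroup.quotientMulEquivOfEq (le_antisymm hge hle)).trans
      (QuotientGroup.quotientKerEquivOfSurjective π hπ)⟩⟩

end Cfsg.Agent.S3252
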