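import Cfsg.Statements.S3261
import Cfsg.Agent.Lib.Lead.CentDEightSix

set_option autoImplicit false
open Cfsg

namespace Cfsg.Agent.S3261

/-- Let α̃ be an involution of the alternating group A₆ that is a product of two disjoint transpositions (it lies in the centre of a Sylow 2-subgroup of A₆; its centralizer is dihedral of order 8). Let G be a finite group that has no subgroup of index 2 and contains an involution α, central in some Sylow 2-subgroup of G, with C_G(α) ≅ C_{A₆}(α̃). Then G is isomorphic to A₆ or to PSL₂(7). -/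
theorem result {G : Type*} [Group G] [Finite G]
    (hG : ∀ H : Subgroup G, H.index ≠ 2)
    (αt : ↥(alternatingGroup (Fin 6))) (hαt : orderOf αt = 2) (hsupp : (αt : Equiv.Perm (Fin 6)).support.card = 4)
    (α : G) (hα : orderOf α = 2) (S : Sylow 2 G) (hαS : α ∈ (S : Subgroup G)) (hαc : ∀ s ∈ (S : Subgroup G), s * α = α * s)
    (e : ↥(Subgroup.centralizer ({α} : Set G)) ≃* ↥(Subgroup.centralizer ({αt} : Set ↥(alternatingGroup (Fin 6))))) :
    Nonempty (G ≃* ↥(alternatingGroup (Fin 6))) ∨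
      (∃ (F : Type) (_ : Field F) (_ : Fintype F), Fintype.card F = 7 ∧ Nonempty (G ≃* Matrix.ProjectiveSpecialLinearGroup (Fin 2) F)) := by
  obtain ⟨f⟩ := Cfsg.Agent.Lead.CentDEightSix.centralizer_equiv αt hαt hsupp
  have noInd : ∀ {n : ℕ}, 2 ≤ n → IsEmpty (G ≃* Equiv.Perm (Fin n)) := fun {n} hn => ⟨fun g => by
    haveI : Nontrivial (Fin n) := Fin.nontrivial_iff_two_le.2 hn
    refine hG ((alternatingGroup (Fin n)).comap g.toMonoidHom) ?_
    rw [Subgroup.index_comap_of_surjective _ g.surjective, alternatingGroup.index_eq_two]⟩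
  rcases Cfsg.Agent.Lead.CentDEight.classification hα (e.trans f) with h | ⟨⟨g⟩⟩ | ⟨⟨g⟩⟩ | ⟨⟨g⟩⟩ | h
  · exfalso
    set C := Subgroup.centralizer ({α} : Set G)
    haveI : Fact (Nat.Prime 2) := ⟨Nat.prime_two⟩
    have hidx : (oddCore G).index ∣ 8 := by
      have h1 := Subgroup.relIndex_mul_index (le_sup_right : oddCore G ≤ C ⊔ oddCore G)
      rw [h, Subgroup.index_top, mul_one] at h1
      rw [← h1, Subgroup.relIndex_top_right, ← Subgroup.relIndex_top_right, ← h, Subgroup.relIndex_sup_right,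
        ← Cfsg.Agent.Lead.CentDEight.card_C hα (e.trans f)]
      exact Subgroup.relIndex_dvd_card _ _
    obtain ⟨k, -, hk⟩ := (Nat.dvd_prime_pow Nat.prime_two).1 (show (oddCore G).index ∣ 2 ^ 3 from hidx)
    have hpg : IsPGroup 2 (G ⧸ oddCore G) := IsPGroup.of_card (by rw [← Subgroup.index_eq_card, hk])
    rcases k with _ | k
    · have hodd := Cfsg.Agent.Char.card_oddCore_odd G
      rw [Subgroup.index_eq_one.1 (hk.trans (pow_zero 2)), Subgroup.card_top] at hodd
      exact Nat.not_even_iff_odd.2 hodd (even_iff_two_dvd.2 (hα ▸ orderOf_dvd_natCard α))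
    · obtain ⟨K, hK⟩ := Sylow.exists_subgroup_card_pow_prime (G := G ⧸ oddCore G) 2 (n := k)
        (by rw [← Subgroup.index_eq_card, hk]; exact pow_dvd_pow 2 (Nat.le_succ k))
      refine hG (K.comap (QuotientGroup.mk' (oddCore G))) ?_
      rw [Subgroup.index_comap_of_surjective _ (QuotientGroup.mk'_surjective _)]
      have h2 := K.card_mul_index
      rw [hK, ← Subgroup.index_eq_card, hk, pow_succ] at h2
      exact mul_left_cancel₀ (pow_ne_zero _ two_ne_zero) h2
  · exact ((noInd (n := 4) (by norm_num)).false g).elim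
  · exact ((noInd (n := 5) (by norm_num)).false g).elim
  · right
    haveI : Fact (Nat.Prime 7) := ⟨by norm_num⟩
    haveI : Fact (Nat.Prime 2) := ⟨Nat.prime_two⟩
    haveI : Finite (Matrix.SpecialLinearGroup (Fin 3) (ZMod 2)) := Subtype.finite
    haveI : Finite (Matrix.SpecialLinearGroup (Fin 2) (ZMod 7)) := Subtype.finite
    obtain ⟨hs, hc⟩ := Cfsg.Agent.Small.PSLThreeTwo.psl_three_two (F := ZMod 2) (ZMod.card 2)
    obtain ⟨hs', hc'⟩ := Cfsg.Agent.Small.PSLThreeTwo.psl_two_seven (F := ZMod 7) (ZMod.card 7)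
    haveI := hs
    haveI := hs'
    obtain ⟨p⟩ := Cfsg.Agent.Small.Order168Iso.iso hc hc'
    exact ⟨ZMod 7, inferInstance, inferInstance, ZMod.card 7,
      ⟨g.trans (Cfsg.Agent.Lead.CentDEight.sl_three_two.symm.trans p)⟩⟩
  · exact Or.inl h

end Cfsg.Agent.S3261
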