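import Cfsg.Statements.S3265
import Cfsg.Agent.Lib.Lead.OddGraph.Solve

set_option autoImplicit false
open Cfsg

namespace Cfsg.Agent.S3265

open Cfsg.Agent.Lead.OddGraph

open Equiv Cfsg.Agent.Lead.OddGraph in
lemma ne_one_comm {n : ℕ} (hn : 5 ≤ n) (t : Perm (Fin n)) (ht : orderOf t = 2) :
    ∃ u : Perm (Fin n), IsConj t u ∧ u ≠ t ∧ orderOf (t * u) = 2 := by
  have ht2 : t * t = 1 := by rw [← pow_two, ← ht, pow_orderOf_eq_one]
  have hti : Inv t := Inv.of_mul_self ht2
  have ht1 : t ≠ 1 := fun h => by rw [h, orderOf_one] at ht; omega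
  obtain ⟨a, ha⟩ : ∃ a, t a ≠ a := by
    by_contra h; push_neg at h; exact ht1 (Equiv.ext h)
  set b := t a with hb
  have ab : a ≠ b := Ne.symm ha
  have tb : t b = a := hti a
  have fin2 : ∀ u : Perm (Fin n), u ≠ t → u * u = 1 → Commute t u → orderOf (t * u) = 2 := by
    intro u hne hu hcom
    refine orderOf_eq_prime ?_ ?_
    · rw [hcom.mul_pow, pow_two, pow_two, ht2, hu, one_mul]
    · intro h
      apply hne
      calc u = t * t * u := by rw [ht2, one_mul]
        _ = t := by rw [mul_assoc, h, mul_one]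
  by_cases hmore : ∃ c, c ≠ a ∧ c ≠ b ∧ t c ≠ c
  · obtain ⟨c, ca, cb, hc⟩ := hmore
    set d := t c with hd
    have td : t d = c := hti c
    have cd : c ≠ d := Ne.symm hc
    have ad : a ≠ d := fun h => cb (t.injective (tb.trans h)).symm
    have bd : b ≠ d := fun h => ca (t.injective (hb.symm.trans (h.trans hd))).symm
    set u := swap b c * t * swap b c with hu
    have ua : u a = c := by
      simp [hu, Perm.mul_apply, swap_apply_of_ne_of_ne ab ca.symm, ← hb]
    have ub : u b = d := by
      simp [hu, Perm.mul_apply, ← hd, swap_apply_of_ne_of_ne bd.symm cd.symm]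
    have uc : u c = a := by
      simp [hu, Perm.mul_apply, tb, swap_apply_of_ne_of_ne ab ca.symm]
    have ud : u d = b := by
      simp [hu, Perm.mul_apply, swap_apply_of_ne_of_ne bd.symm cd.symm, td]
    have uo : ∀ v, v ≠ a → v ≠ b → v ≠ c → v ≠ d → u v = t v := by
      intro v h1 h2 h3 h4
      have e1 : t v ≠ b := fun h => h1 (t.injective (h.trans hb))
      have e2 : t v ≠ c := fun h => h4 (t.injective (h.trans td.symm))
      simp [hu, Perm.mul_apply, swap_apply_of_ne_of_ne h2 h3, swap_apply_of_ne_of_ne e1 e2]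
    have hne : u ≠ t := fun h => cb (by rw [← ua, h])
    refine ⟨u, isConj_iff.2 ⟨swap b c, by rw [swap_inv]⟩, hne, fin2 u hne ?_ ?_⟩
    · rw [hu, show swap b c * t * swap b c * (swap b c * t * swap b c) =
        swap b c * t * (swap b c * swap b c) * t * swap b c from by group, swap_mul_self, mul_one,
        mul_assoc _ t t, ht2, mul_one, swap_mul_self]
    · clear_value u
      refine Equiv.ext fun v => ?_
      rw [Perm.mul_apply, Perm.mul_apply]
      by_cases h1 : v = a
      · rw [h1, ua, ← hb, ub, ← hd]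
      by_cases h2 : v = b
      · rw [h2, ub, td, tb, ua]
      by_cases h3 : v = c
      · rw [h3, uc, ← hb, ← hd, ud]
      by_cases h4 : v = d
      · rw [h4, ud, tb, td, uc]
      rw [uo v h1 h2 h3 h4]
      have e1 : t v ≠ a := fun h => h2 (t.injective (h.trans tb.symm))
      have e2 : t v ≠ b := fun h => h1 (t.injective (h.trans hb))
      have e3 : t v ≠ c := fun h => h4 (t.injective (h.trans td.symm))
      have e4 : t v ≠ d := fun h => h3 (t.injective (h.trans hd))
      rw [uo _ e1 e2 e3 e4]
  · push_neg at hmore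
    have htab : t = swap a b := by
      refine Equiv.ext fun v => ?_
      by_cases h1 : v = a
      · rw [h1, swap_apply_left]
      by_cases h2 : v = b
      · rw [h2, tb, swap_apply_right]
      rw [hmore v h1 h2, swap_apply_of_ne_of_ne h1 h2]
    obtain ⟨c, hc⟩ : (Finset.univ \ ({a, b} : Finset (Fin n))).Nonempty := by
      rw [← Finset.card_pos, Finset.card_sdiff_of_subset (Finset.subset_univ _), Finset.card_univ,
        Fintype.card_fin, Finset.card_pair ab]; omega
    obtain ⟨d, hd⟩ : ((Finset.univ \ ({a, b} : Finset (Fin n))).erase c).Nonempty := by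
      rw [← Finset.card_pos, Finset.card_erase_of_mem hc,
        Finset.card_sdiff_of_subset (Finset.subset_univ _), Finset.card_univ,
        Fintype.card_fin, Finset.card_pair ab]; omega
    simp only [Finset.mem_erase, Finset.mem_sdiff, Finset.mem_univ, true_and, Finset.mem_insert,
      Finset.mem_singleton, not_or] at hc hd
    have hne : swap c d ≠ t := fun h => by
      have := congrArg (fun f : Perm (Fin n) => f a) h
      simp only [swap_apply_of_ne_of_ne (Ne.symm hc.1) (Ne.symm hd.2.1)] at this
      exact ab this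
    refine ⟨swap c d, ?_, hne, fin2 _ hne (swap_mul_self c d) ?_⟩
    · rw [Perm.isConj_iff_cycleType_eq, htab,
        Perm.IsCycle.cycleType (Perm.isCycle_swap ab),
        Perm.IsCycle.cycleType (Perm.isCycle_swap (Ne.symm hd.1)),
        Perm.card_support_swap ab, Perm.card_support_swap (Ne.symm hd.1)]
    · rw [htab]
      refine Perm.Disjoint.commute fun v => ?_
      by_cases h1 : v = a
      · exact Or.inr (swap_apply_of_ne_of_ne (h1 ▸ Ne.symm hc.1) (h1 ▸ Ne.symm hd.2.1))
      by_cases h2 : v = b
      · exact Or.inr (swap_apply_of_ne_of_ne (h2 ▸ Ne.symm hc.2) (h2 ▸ Ne.symm hd.2.2))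
      exact Or.inl (swap_apply_of_ne_of_ne h1 h2)


/-- Let n ≥ 5 and let X be a conjugacy class of involutions of the symmetric group of degree n. The graph on X joining two distinct involutions whose product has odd order is connected and has diameter exactly 2. -/
theorem result (n : ℕ) (hn : 5 ≤ n) (t : Equiv.Perm (Fin n)) (ht : orderOf t = 2) :
    (SimpleGraph.fromRel fun x y : {x : Equiv.Perm (Fin n) // IsConj t x} =>
        Odd (orderOf (x.1 * y.1))).Connected ∧
      (SimpleGraph.fromRel fun x y : {x : Equiv.Perm (Fin n) // IsConj t x} =>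
        Odd (orderOf (x.1 * y.1))).diam = 2 := by
  classical
  set X := {x : Equiv.Perm (Fin n) // IsConj t x}
  set Gr := SimpleGraph.fromRel fun x y : X => Odd (orderOf (x.1 * y.1)) with hGr
  have hord : ∀ x : X, orderOf x.1 = 2 := fun x => by
    obtain ⟨c, hc⟩ := isConj_iff.1 x.2
    rw [← hc, ← ht]
    exact orderOf_injective (MulAut.conj c).toMonoidHom (MulAut.conj c).injective t
  have hinv : ∀ x : X, Inv x.1 := fun x => Inv.of_mul_self (by
    rw [← pow_two, ← hord x, pow_orderOf_eq_one])
  have hsupp : ∀ x : X, x.1.support.card = t.support.card := fun x => by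
    rw [← Equiv.Perm.sum_cycleType, ← Equiv.Perm.sum_cycleType,
      Equiv.Perm.isConj_iff_cycleType_eq.1 x.2]
  have key : ∀ x y : X, x ≠ y → ¬ Gr.Adj x y → ∃ z : X, Gr.Adj x z ∧ Gr.Adj z y := by
    intro x y hxy hnad
    have hnot : ¬ Odd (orderOf (x.1 * y.1)) := fun h => hnad ⟨hxy, Or.inl h⟩
    have huniv : ∀ w : Equiv.Perm (Fin n), FixOff Finset.univ w := fun w a ha =>
      absurd (Finset.mem_univ a) ha
    obtain ⟨z, hz, -, hzc, h1, h2⟩ := exists_middle n Finset.univ (by simp) x.1 y.1
      ⟨hinv x, hinv y, huniv _, huniv _, (hsupp x).trans (hsupp y).symm⟩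
      (fun h => by have := h.1; simp at this; omega)
    rw [hsupp x] at hzc
    have ht1 : t ≠ 1 := fun h => by rw [h, orderOf_one] at ht; omega
    have hz1 : z ≠ 1 := fun h => by
      rw [h, Equiv.Perm.support_one, Finset.card_empty] at hzc
      exact ht1 (Equiv.Perm.support_eq_empty_iff.1 (Finset.card_eq_zero.1 hzc.symm))
    have hzo : orderOf z = 2 := orderOf_eq_prime (by rw [pow_two, hz.mul_self]) hz1
    have hconj : IsConj t z := by
      rw [Equiv.Perm.isConj_iff_cycleType_eq]
      obtain ⟨m, hm⟩ := Equiv.Perm.cycleType_prime_order (σ := t) (by rw [ht]; exact Nat.prime_two)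
      obtain ⟨k, hk⟩ := Equiv.Perm.cycleType_prime_order (σ := z) (by rw [hzo]; exact Nat.prime_two)
      rw [ht] at hm
      rw [hzo] at hk
      have h3 := Equiv.Perm.sum_cycleType t
      have h4 := Equiv.Perm.sum_cycleType z
      rw [hm, Multiset.sum_replicate, smul_eq_mul] at h3
      rw [hk, Multiset.sum_replicate, smul_eq_mul] at h4
      rw [hm, hk, show m + 1 = k + 1 by omega]
    refine ⟨⟨z, hconj⟩, ⟨?_, Or.inl h1.odd_orderOf⟩, ⟨?_, Or.inl h2.odd_orderOf⟩⟩
    · intro h
      exact hnot (by rw [show x.1 = z from congrArg Subtype.val h]; exact h2.odd_orderOf)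
    · intro h
      exact hnot (by rw [← show z = y.1 from congrArg Subtype.val h]; exact h1.odd_orderOf)
  have hle : ∀ x y : X, Gr.edist x y ≤ 2 := by
    intro x y
    by_cases hxy : x = y
    · subst hxy; simp
    by_cases had : Gr.Adj x y
    · exact (SimpleGraph.edist_le had.toWalk).trans (by simp)
    · obtain ⟨z, h1, h2⟩ := key x y hxy had
      exact (SimpleGraph.edist_le (SimpleGraph.Walk.cons h1 (SimpleGraph.Walk.cons h2 .nil))).trans
        (le_of_eq rfl)
  haveI : Nonempty X := ⟨⟨t, IsConj.refl t⟩⟩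
  have hdia : Gr.ediam ≤ 2 := SimpleGraph.ediam_le_of_edist_le hle
  have htop : Gr.ediam ≠ ⊤ := ne_top_of_le_ne_top (by simp) hdia
  haveI : Finite X := inferInstance
  refine ⟨SimpleGraph.connected_iff_ediam_ne_top.2 htop, ?_⟩
  obtain ⟨u, hu, hne, ho⟩ := ne_one_comm hn t ht
  set x : X := ⟨t, IsConj.refl t⟩
  set y : X := ⟨u, hu⟩
  have hxy : x ≠ y := fun h => hne (congrArg Subtype.val h).symm
  have hnad : ¬ Gr.Adj x y := by
    rintro ⟨-, h | h⟩
    · have h' : Odd (orderOf (t * u)) := h
      rw [ho] at h'; exact absurd h' (by decide)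
    · have h' : Odd (orderOf (u * t)) := h
      rw [show u * t = u * (t * u) * u⁻¹ from by group, ← MulAut.conj_apply] at h'
      rw [show orderOf (MulAut.conj u (t * u)) = orderOf (t * u) from
        orderOf_injective (MulAut.conj u).toMonoidHom (MulAut.conj u).injective _, ho] at h'
      exact absurd h' (by decide)
  have hgt : ¬ Gr.ediam ≤ 1 := fun h => by
    rcases SimpleGraph.edist_le_one_iff_adj_or_eq.1 (SimpleGraph.edist_le_ediam.trans h) with h' | h'
    · exact hnad h'
    · exact hxy h'
  have heq : Gr.ediam = 2 := le_antisymm hdia (by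
    have h1 : (1 : ℕ∞) < Gr.ediam := not_le.1 hgt
    have := Order.add_one_le_of_lt h1
    simpa [one_add_one_eq_two] using this)
  show Gr.diam = 2
  rw [SimpleGraph.diam, heq]
  rfl

end Cfsg.Agent.S3265
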