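import Cfsg.Statements.S3266
import Mathlib
import Cfsg.Agent.Lib.Lie.OddGraphPSL2
-- import your own Cfsg.Agent.* helpers here

set_option autoImplicit false
open Cfsg

namespace Cfsg.Agent.S3266

/-- Let F be a finite field with at least 4 elements and let X be a conjugacy class of involutions of PSL(2, F). The graph on X joining two distinct involutions whose product has odd order is connected and has diameter exactly 2. -/
theorem result {F : Type*} [Field F] [Fintype F] (hF : 4 ≤ Fintype.card F)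
    (t : Matrix.ProjectiveSpecialLinearGroup (Fin 2) F) (ht : orderOf t = 2) :
    (SimpleGraph.fromRel fun x y : {x : Matrix.ProjectiveSpecialLinearGroup (Fin 2) F // IsConj t x} =>
        Odd (orderOf (x.1 * y.1))).Connected ∧
      (SimpleGraph.fromRel fun x y : {x : Matrix.ProjectiveSpecialLinearGroup (Fin 2) F // IsConj t x} =>
        Odd (orderOf (x.1 * y.1))).diam = 2 := by
  classical
  set Γ := SimpleGraph.fromRel fun x y : {x : Matrix.ProjectiveSpecialLinearGroup (Fin 2) F // IsConj t x} =>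
      Odd (orderOf (x.1 * y.1)) with hΓ
  have hord : ∀ x : {x : Matrix.ProjectiveSpecialLinearGroup (Fin 2) F // IsConj t x}, orderOf x.1 = 2 := fun x => by
    obtain ⟨c, hc⟩ := isConj_iff.mp x.2
    rw [← hc]
    refine Eq.trans ?_ ht
    exact orderOf_injective (MulAut.conj c).toMonoidHom (MulAut.conj c).injective t
  have hadj : ∀ x y, Γ.Adj x y ↔ x ≠ y ∧ Odd (orderOf (x.1 * y.1)) := fun x y => by
    rw [hΓ, SimpleGraph.fromRel_adj, Cfsg.Agent.Lie.OddGraphPSL2.orderOf_mul_comm' y.1 x.1, or_self]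
  have hwalk : ∀ x y, ∃ w : Γ.Walk x y, w.length ≤ 2 := fun x y => by
    by_cases hxy : x = y
    · subst hxy; exact ⟨.nil, by simp⟩
    by_cases ho : Odd (orderOf (x.1 * y.1))
    · exact ⟨((hadj x y).2 ⟨hxy, ho⟩).toWalk, by simp⟩
    obtain ⟨z, hz, hxz, hyz⟩ := Cfsg.Agent.Lie.OddGraphPSL2.exists_mid hF (hord x) (hord y) ho
    have hzc : IsConj t z := Cfsg.Agent.Lie.OddGraphPSL2.involutions_isConj ht hz
    have e1 : Γ.Adj x ⟨z, hzc⟩ := (hadj _ _).2 ⟨fun h => ho (by
      rw [h, Cfsg.Agent.Lie.OddGraphPSL2.orderOf_mul_comm']; exact hyz), hxz⟩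
    have e2 : Γ.Adj y ⟨z, hzc⟩ := (hadj _ _).2 ⟨fun h => ho (by rw [h]; exact hxz), hyz⟩
    exact ⟨.cons e1 e2.symm.toWalk, by simp⟩
  have he : ∀ x y, Γ.edist x y ≤ 2 := fun x y => by
    obtain ⟨w, hw⟩ := hwalk x y
    exact le_trans (SimpleGraph.edist_le w) (by exact_mod_cast hw)
  haveI : Nonempty {x : Matrix.ProjectiveSpecialLinearGroup (Fin 2) F // IsConj t x} := ⟨⟨t, IsConj.refl t⟩⟩
  refine ⟨⟨fun x y => ⟨(hwalk x y).choose⟩⟩, ?_⟩
  obtain ⟨a, b, ha, hb, hab⟩ := Cfsg.Agent.Lie.OddGraphPSL2.exists_commuting (F := F) hF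
  let A : {x : Matrix.ProjectiveSpecialLinearGroup (Fin 2) F // IsConj t x} := ⟨a, Cfsg.Agent.Lie.OddGraphPSL2.involutions_isConj ht ha⟩
  let B : {x : Matrix.ProjectiveSpecialLinearGroup (Fin 2) F // IsConj t x} := ⟨b, Cfsg.Agent.Lie.OddGraphPSL2.involutions_isConj ht hb⟩
  have hne : A ≠ B := fun h => by
    have : a = b := congrArg Subtype.val h
    subst this
    rw [show a * a = 1 from (pow_two a).symm.trans (orderOf_eq_iff (by omega)|>.1 ha).1, orderOf_one] at hab
    omega
  have hna : ¬ Γ.Adj A B := fun h => by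
    have := ((hadj A B).1 h).2
    rw [show orderOf (A.1 * B.1) = 2 from hab] at this
    exact absurd this (by decide)
  have hlow : (2 : ℕ∞) ≤ Γ.edist A B := by
    by_contra h
    rw [not_le, show (2 : ℕ∞) = 1 + 1 by rfl, ENat.lt_add_one_iff (by simp)] at h
    rcases le_iff_lt_or_eq.1 h with h | h
    · rw [Order.lt_one_iff, SimpleGraph.edist_eq_zero_iff] at h; exact hne h
    · rw [SimpleGraph.edist_eq_one_iff_adj] at h; exact hna h
  have : Γ.ediam = 2 := le_antisymm (SimpleGraph.ediam_le_of_edist_le he) (hlow.trans SimpleGraph.edist_le_ediam)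
  rw [SimpleGraph.diam, this]
  rfl

end Cfsg.Agent.S3266
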