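import Cfsg.Statements.S3269
import Mathlib
import Cfsg.Agent.S0215
-- import your own Cfsg.Agent.* helpers here

set_option autoImplicit false
open Cfsg

namespace Cfsg.Agent.S3269

section Aux

open scoped IsMulCommutative

theorem quat_sq_eq_one {n : ℕ} (x : QuaternionGroup (2 ^ n)) (h : x ^ 2 = 1) :
    x = 1 ∨ x = QuaternionGroup.a ((2 ^ n : ℕ) : ZMod (2 * 2 ^ n)) := by
  haveI : NeZero (2 ^ n) := ⟨(Nat.two_pow_pos n).ne'⟩
  cases x with
  | a i =>
    rw [pow_two, QuaternionGroup.a_mul_a, QuaternionGroup.one_def] at h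
    have h' : i + i = 0 := QuaternionGroup.a.inj h
    rw [← ZMod.natCast_zmod_val i, ← Nat.cast_add, ZMod.natCast_eq_zero_iff] at h'
    have hlt := ZMod.val_lt i
    obtain ⟨c, hc⟩ := h'
    have hc2 : c < 2 := by
      by_contra hc2
      have := Nat.mul_le_mul_left (2 * 2 ^ n) (Nat.le_of_not_lt hc2)
      omega
    interval_cases c
    · left
      have : i.val = 0 := by omega
      rw [QuaternionGroup.one_def, (ZMod.val_eq_zero i).1 this]
    · right
      rw [← ZMod.natCast_zmod_val i]
      congr 2
      omega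
  | xa i =>
    exfalso
    rw [pow_two, QuaternionGroup.xa_mul_xa, QuaternionGroup.one_def] at h
    have h' := QuaternionGroup.a.inj h
    rw [add_sub_assoc, sub_self, add_zero, ZMod.natCast_eq_zero_iff] at h'
    have := Nat.le_of_dvd (Nat.two_pow_pos n) h'
    have := Nat.two_pow_pos n
    omega

theorem quat_invol_ne {n : ℕ} :
    (QuaternionGroup.a ((2 ^ n : ℕ) : ZMod (2 * 2 ^ n)) : QuaternionGroup (2 ^ n)) ≠ 1 := by
  intro h
  rw [QuaternionGroup.one_def] at h
  have h' := QuaternionGroup.a.inj h
  rw [ZMod.natCast_eq_zero_iff] at h'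
  have := Nat.le_of_dvd (Nat.two_pow_pos n) h'
  have := Nat.two_pow_pos n
  omega

theorem quat_invol_sq {n : ℕ} :
    (QuaternionGroup.a ((2 ^ n : ℕ) : ZMod (2 * 2 ^ n)) : QuaternionGroup (2 ^ n)) ^ 2 = 1 := by
  rw [pow_two, QuaternionGroup.a_mul_a, QuaternionGroup.one_def, ← Nat.cast_add]
  congr 1
  rw [ZMod.natCast_eq_zero_iff, two_mul]

theorem quat_invol_central {n : ℕ} :
    (QuaternionGroup.a ((2 ^ n : ℕ) : ZMod (2 * 2 ^ n)) : QuaternionGroup (2 ^ n)) ∈
      Subgroup.center (QuaternionGroup (2 ^ n)) := by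
  rw [Subgroup.mem_center_iff]
  intro x
  have h2 : ((2 ^ n : ℕ) : ZMod (2 * 2 ^ n)) + ((2 ^ n : ℕ) : ZMod (2 * 2 ^ n)) = 0 := by
    rw [← Nat.cast_add, ZMod.natCast_eq_zero_iff, two_mul]
  cases x with
  | a i => rw [QuaternionGroup.a_mul_a, QuaternionGroup.a_mul_a, add_comm]
  | xa i =>
    rw [QuaternionGroup.xa_mul_a, QuaternionGroup.a_mul_xa]
    congr 1
    linear_combination h2

theorem quat_invol_commutator {n : ℕ} (hn : 1 ≤ n) :
    (QuaternionGroup.a ((2 ^ n : ℕ) : ZMod (2 * 2 ^ n)) : QuaternionGroup (2 ^ n)) ∈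
      commutator (QuaternionGroup (2 ^ n)) := by
  obtain ⟨m, rfl⟩ := Nat.exists_eq_add_of_le hn
  set i : ZMod (2 * 2 ^ (1 + m)) := ((2 ^ m : ℕ) : ZMod (2 * 2 ^ (1 + m))) with hi
  have hi2 : ((2 ^ (1 + m) : ℕ) : ZMod (2 * 2 ^ (1 + m))) = i + i := by
    rw [hi, ← Nat.cast_add]; congr 1; rw [pow_add]; omega
  have : (QuaternionGroup.a ((2 ^ (1 + m) : ℕ) : ZMod (2 * 2 ^ (1 + m))) : QuaternionGroup (2 ^ (1 + m))) =
      QuaternionGroup.a i * QuaternionGroup.xa 0 * (QuaternionGroup.xa 0 * QuaternionGroup.a i)⁻¹ := by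
    rw [eq_mul_inv_iff_mul_eq, QuaternionGroup.xa_mul_a, QuaternionGroup.a_mul_xa, QuaternionGroup.a_mul_xa, hi2]
    congr 1
    abel
  rw [this]
  rw [mul_inv_rev, ← mul_assoc]
  exact Subgroup.commutator_mem_commutator (Subgroup.mem_top _) (Subgroup.mem_top _)

/-- A fixed involution in the centre of a product of a quaternion group and `R`, under a group of odd order. -/
theorem exists_fixed_invol {S : Type*} [Group S] [Finite S] {n : ℕ} (hn : 1 ≤ n) {R : Type*} [Group R]
    (e : S ≃* QuaternionGroup (2 ^ n) × R) {K : Type*} [Group K] [Finite K] (hK : Odd (Nat.card K))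
    (σ : K →* MulAut S) :
    ∃ u : S, u ∈ Subgroup.center S ∧ orderOf u = 2 ∧ ∀ k : K, σ k u = u := by
  classical
  haveI := Fintype.ofFinite K
  haveI : Fact (Nat.Prime 2) := ⟨Nat.prime_two⟩
  haveI : NeZero (2 ^ n) := ⟨(Nat.two_pow_pos n).ne'⟩
  set z₀ : QuaternionGroup (2 ^ n) := QuaternionGroup.a ((2 ^ n : ℕ) : ZMod (2 * 2 ^ n)) with hz₀
  let q : S →* QuaternionGroup (2 ^ n) := (MonoidHom.fst _ _).comp e.toMonoidHom
  let ι : QuaternionGroup (2 ^ n) →* S := e.symm.toMonoidHom.comp (MonoidHom.inl _ _)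
  let κ : R →* S := e.symm.toMonoidHom.comp (MonoidHom.inr _ _)
  let r : S →* R := (MonoidHom.snd _ _).comp e.toMonoidHom
  have hdec : ∀ x : S, x = ι (q x) * κ (r x) := fun x => by
    apply e.injective
    simp [ι, κ, q, r, Prod.ext_iff]
  have hqι : ∀ y, q (ι y) = y := fun y => by simp [q, ι]
  set z : S := ι z₀ with hz
  have hzc : z ∈ Subgroup.center S := by
    rw [Subgroup.mem_center_iff]
    intro x
    apply e.injective
    simp [hz, ι, Prod.ext_iff, (Subgroup.mem_center_iff.1 (quat_invol_central (n := n)) (e x).1)]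
    exact Subgroup.mem_center_iff.1 (quat_invol_central (n := n)) (e x).1
  have hz2 : z ^ 2 = 1 := by rw [hz, ← map_pow, quat_invol_sq, map_one]
  have hzd : z ∈ commutator S := by
    have := Subgroup.mem_map_of_mem ι (quat_invol_commutator hn)
    rw [commutator_def, Subgroup.map_commutator] at this
    exact Subgroup.commutator_mono le_top le_top this
  have hsq : ∀ k : K, q (σ k z) = 1 ∨ q (σ k z) = z₀ := fun k =>
    quat_sq_eq_one _ (by rw [← map_pow, ← map_pow, hz2, map_one, map_one])
  -- if the image of `z` is the involution then `R` goes to the centre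
  have key : ∀ k : K, q (σ k z) = z₀ → ∀ x ∈ commutator S, x ^ 2 = 1 → q (σ k x) = q x := by
    intro k hk x hx hx2
    let φ : S →* QuaternionGroup (2 ^ n) := q.comp (σ k).toMonoidHom
    have hinj : Function.Injective (φ.comp ι) := by
      rw [← MonoidHom.ker_eq_bot_iff]
      by_contra hne
      have h2 : 2 ∣ Nat.card (φ.comp ι).ker := by
        have hp : IsPGroup 2 (QuaternionGroup (2 ^ n)) := IsPGroup.of_card (n := n + 2) (by
          rw [Nat.card_eq_fintype_card, QuaternionGroup.card]; ring)
        obtain ⟨j, hj⟩ := IsPGroup.iff_card.1 (hp.to_subgroup (φ.comp ι).ker)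
        rcases j with _ | j
        · exact absurd (Subgroup.card_eq_one.1 (by simpa using hj)) hne
        · exact ⟨2 ^ j, by rw [hj, pow_succ, mul_comm]⟩
      obtain ⟨⟨y, hy⟩, hy2⟩ := exists_prime_orderOf_dvd_card' 2 h2
      rw [Subgroup.orderOf_mk, orderOf_eq_prime_iff] at hy2
      rcases quat_sq_eq_one y hy2.1 with rfl | rfl
      · exact hy2.2 rfl
      · exact quat_invol_ne (hk.symm.trans hy)
    have hbij := Finite.injective_iff_bijective.1 hinj
    have hcen : ∀ a : R, φ (κ a) ∈ Subgroup.center (QuaternionGroup (2 ^ n)) := fun a => by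
      rw [Subgroup.mem_center_iff]
      intro y
      obtain ⟨y', rfl⟩ := hbij.2 y
      show φ (ι y') * φ (κ a) = φ (κ a) * φ (ι y')
      rw [← map_mul, ← map_mul]
      congr 1
      apply e.injective
      simp [ι, κ, Prod.ext_iff]
    have hrd : r x ∈ commutator R := by
      have := Subgroup.mem_map_of_mem r hx
      rw [commutator_def, Subgroup.map_commutator] at this
      exact Subgroup.commutator_mono le_top le_top this
    have hκ1 : φ (κ (r x)) = 1 := by
      have hle : commutator R ≤ (φ.comp κ).ker := by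
        rw [commutator_def, Subgroup.commutator_le]
        intro p _ p' _
        rw [MonoidHom.mem_ker, map_commutatorElement, commutatorElement_eq_one_iff_mul_comm]
        exact (Subgroup.mem_center_iff.1 (hcen p) _).symm
      exact hle hrd
    show φ x = q x
    conv_lhs => rw [hdec x]
    rw [map_mul, hκ1, mul_one]
    rcases quat_sq_eq_one (q x) (by rw [← map_pow, hx2, map_one]) with h | h
    · rw [h, map_one, map_one]
    · rw [h]; exact hk
  -- the stabilizer
  let T0 : Submonoid K :=
    { carrier := {k | q (σ k z) = z₀}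
      one_mem' := by simp [q, hz, ι]
      mul_mem' := fun {a b} ha hb => by
        show q (σ (a * b) z) = z₀
        rw [map_mul, MulAut.mul_apply, key a ha _ ?_ (by rw [← map_pow, hz2, map_one])]
        · exact hb
        · have := Subgroup.mem_map_of_mem (σ b).toMonoidHom hzd
          rw [commutator_def, Subgroup.map_commutator] at this
          exact Subgroup.commutator_mono le_top le_top this }
  let T : Subgroup K :=
    { T0 with
      inv_mem' := fun {a} ha => Submonoid.powers_le.2 ha
        ((isOfFinOrder_of_finite a).mem_powers_iff_mem_zpowers.2 (inv_mem (Subgroup.mem_zpowers a))) }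
  have hT : ∀ k, k ∈ T ↔ q (σ k z) = z₀ := fun k => Iff.rfl
  have hToddc : Odd (Finset.univ.filter fun k : K => q (σ k z) = z₀).card := by
    have : Nat.card T = (Finset.univ.filter fun k : K => q (σ k z) = z₀).card := by
      rw [Nat.card_eq_fintype_card]
      exact Fintype.card_of_subtype _ (fun k => by simp [hT])
    rw [← this]
    exact hK.of_dvd_nat (Subgroup.card_subgroup_dvd_card T)
  let zc : K → Subgroup.center S := fun k => ⟨σ k z, by
    rw [Subgroup.mem_center_iff]
    intro x
    obtain ⟨x', rfl⟩ := (σ k).surjective x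
    rw [← map_mul, ← map_mul, Subgroup.mem_center_iff.1 hzc x']⟩
  refine ⟨((∏ k, zc k : Subgroup.center S) : S), SetLike.coe_mem _, ?_, ?_⟩
  · have h1 : (∏ k, zc k) ^ 2 = 1 := by
      rw [← Finset.prod_pow]
      exact Finset.prod_eq_one fun k _ => Subtype.ext (by
        show (σ k z) ^ 2 = 1
        rw [← map_pow, hz2, map_one])
    refine orderOf_eq_prime (by simpa using congrArg Subtype.val h1) fun h => ?_
    -- image in the centre of the quaternion group
    let qc : Subgroup.center S →* Subgroup.center (QuaternionGroup (2 ^ n)) :=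
      (q.comp (Subgroup.center S).subtype).codRestrict _ (fun x => by
        rw [Subgroup.mem_center_iff]
        intro y
        have := congrArg q (Subgroup.mem_center_iff.1 x.2 (ι y))
        simpa [map_mul, hqι] using this)
    let z₁ : Subgroup.center (QuaternionGroup (2 ^ n)) := ⟨z₀, quat_invol_central⟩
    have hq : qc (∏ k, zc k) = z₁ ^ (Finset.univ.filter fun k : K => q (σ k z) = z₀).card := by
      rw [map_prod, ← Finset.prod_const, Finset.prod_filter]
      refine Finset.prod_congr rfl fun k _ => Subtype.ext ?_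
      show q (σ k z) = _
      split_ifs with hk
      · exact hk
      · exact (hsq k).resolve_right hk
    obtain ⟨c, hc⟩ := hToddc
    have h0 : (∏ k, zc k) = 1 := Subtype.ext h
    rw [h0, map_one, hc, pow_succ, pow_mul] at hq
    have hz12 : z₁ ^ 2 = 1 := Subtype.ext quat_invol_sq
    rw [hz12, one_pow, one_mul] at hq
    exact quat_invol_ne (congrArg Subtype.val hq).symm
  · intro j
    have : (σ j) ((∏ k, zc k : Subgroup.center S) : S) =
        ((∏ k, zc (j * k) : Subgroup.center S) : S) := by
      let c : Subgroup.center S →* Subgroup.center S :=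
        ((σ j).toMonoidHom.comp (Subgroup.center S).subtype).codRestrict _ (fun x => by
          rw [Subgroup.mem_center_iff]
          intro y
          obtain ⟨y', rfl⟩ := (σ j).surjective y
          show σ j y' * σ j (x : S) = σ j (x : S) * σ j y'
          rw [← map_mul, ← map_mul, Subgroup.mem_center_iff.1 x.2 y'])
      show ((c (∏ k, zc k) : Subgroup.center S) : S) = _
      rw [map_prod]
      congr 1
      refine Finset.prod_congr rfl fun k _ => Subtype.ext ?_
      show σ j (σ k z) = σ (j * k) z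
      rw [map_mul, MulAut.mul_apply]
    rw [this]
    congr 1
    exact Fintype.prod_equiv (Equiv.mulLeft j) _ _ (fun _ => rfl)

end Aux


/-- Let G be a finite group whose Sylow 2-subgroup S is an internal direct product Q × R with Q generalized quaternion (of order at least 8) and R a subgroup all of whose involutions are central in R. Then G is not simple. In particular no finite simple group has a Sylow 2-subgroup that is a direct product of one or more generalized quaternion groups. -/
theorem result {G : Type*} [Group G] [Finite G]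
    (S : Sylow 2 G) (Q R : Subgroup G) (hQR : Cfsg.IsInternalDirectProduct Q R (S : Subgroup G))
    (n : ℕ) (hn : 1 ≤ n) (eQ : ↥Q ≃* QuaternionGroup (2 ^ n))
    (hR : ∀ r ∈ R, orderOf r = 2 → ∀ s ∈ R, r * s = s * r) :
    ¬ IsSimpleGroup G := by
  classical
  intro hsimp
  obtain ⟨hQS, hRS, hcomm, hinf, hsup⟩ := hQR
  set P : Subgroup G := (S : Subgroup G) with hP
  haveI : Fact (Nat.Prime 2) := ⟨Nat.prime_two⟩
  let f : ↥Q × ↥R →* ↥P := MonoidHom.noncommCoprod (Subgroup.inclusion hQS) (Subgroup.inclusion hRS)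
    (fun a b => Subtype.ext (hcomm a a.2 b b.2))
  have hf : Function.Bijective f := by
    constructor
    · rw [← MonoidHom.ker_eq_bot_iff, Subgroup.eq_bot_iff_forall]
      rintro ⟨a, b⟩ hab
      have h : (a : G) * b = 1 := congrArg Subtype.val (MonoidHom.mem_ker.1 hab)
      have ha : (a : G) ∈ Q ⊓ R := ⟨a.2, by rw [eq_inv_of_mul_eq_one_left h]; exact R.inv_mem b.2⟩
      rw [hinf, Subgroup.mem_bot] at ha
      rw [ha, one_mul] at h
      exact Prod.ext (Subtype.ext ha) (Subtype.ext h)
    · intro x
      have : (x : G) ∈ Q ⊔ R := by rw [hsup]; exact x.2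
      have hle : Q ⊔ R ≤ (P.subtype.comp f).range := sup_le
        (fun a ha => ⟨(⟨a, ha⟩, 1), mul_one a⟩) (fun b hb => ⟨(1, ⟨b, hb⟩), one_mul b⟩)
      obtain ⟨y, hy⟩ := hle this
      exact ⟨y, Subtype.ext hy⟩
  let e : ↥P ≃* QuaternionGroup (2 ^ n) × ↥R :=
    (MulEquiv.ofBijective f hf).symm.trans (eQ.prodCongr (MulEquiv.refl _))
  -- all involutions of `P` are central
  have hcen : ∀ x : ↥P, x ^ 2 = 1 → x ∈ Subgroup.center ↥P := by
    intro x hx
    rw [Subgroup.mem_center_iff]
    intro y
    apply e.injective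
    have h2 := congrArg e hx
    rw [map_pow, map_one] at h2
    rw [map_mul, map_mul]
    refine Prod.ext ?_ ?_
    · show (e y).1 * (e x).1 = (e x).1 * (e y).1
      rcases quat_sq_eq_one (e x).1 (congrArg Prod.fst h2) with h | h <;> rw [h]
      · simp
      · exact Subgroup.mem_center_iff.1 quat_invol_central _
    · show (e y).2 * (e x).2 = (e x).2 * (e y).2
      by_cases h1 : (e x).2 = 1
      · rw [h1]; simp
      · have ho : orderOf ((e x).2 : G) = 2 :=
          (Subgroup.orderOf_coe _).trans (orderOf_eq_prime (congrArg Prod.snd h2) h1)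
        exact Subtype.ext (hR _ (e x).2.2 ho _ (e y).2.2).symm
  -- complement in the normalizer
  set N : Subgroup G := Subgroup.normalizer (P : Set G) with hN
  haveI : (P.subgroupOf N).Normal := Subgroup.normal_in_normalizer
  have hodd : Odd (P.subgroupOf N).index := by
    rw [← Nat.not_even_iff_odd, even_iff_two_dvd]
    intro h2
    exact S.not_dvd_index (h2.trans (Subgroup.relIndex_dvd_index_of_le Subgroup.le_normalizer))
  have hcop : (Nat.card (P.subgroupOf N)).Coprime (P.subgroupOf N).index := by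
    rw [Nat.card_congr (Subgroup.subgroupOfEquivOfLe Subgroup.le_normalizer).toEquiv]
    obtain ⟨k, hk⟩ := IsPGroup.iff_card.1 S.2
    rw [hk]
    exact Nat.Coprime.pow_left _ (Nat.coprime_two_left.2 hodd)
  obtain ⟨K, hK⟩ := Subgroup.exists_right_complement'_of_coprime hcop
  have hKodd : Odd (Nat.card K) := by
    rwa [← (Subgroup.IsComplement'.symm hK).index_eq_card]
  let σ : ↥K →* MulAut ↥P := (Subgroup.normalizerMonoidHom P).comp K.subtype
  obtain ⟨u, huc, hu2, hfix⟩ := exists_fixed_invol hn e hKodd σ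
  have hNfix : ∀ m ∈ N, m * (u : G) * m⁻¹ = u := by
    intro m hm
    have := hK.2 (⟨m, hm⟩ : ↥N)
    obtain ⟨⟨⟨p, hp⟩, k⟩, hpk⟩ := this
    have hm' : m = (p : G) * ((k : ↥N) : G) := congrArg Subtype.val hpk.symm
    have hk : ((k : ↥N) : G) * u * ((k : ↥N) : G)⁻¹ = u := congrArg Subtype.val (hfix k)
    have hpu : (p : G) * u = u * p :=
      congrArg Subtype.val (Subgroup.mem_center_iff.1 huc ⟨(p : G), hp⟩)
    calc m * (u : G) * m⁻¹ = (p : G) * (((k : ↥N) : G) * u * ((k : ↥N) : G)⁻¹) * (p : G)⁻¹ := by
          rw [hm']; group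
      _ = u := by rw [hk, hpu]; group
  have hiso : ∀ g : G, g * (u : G) * g⁻¹ ∈ S → g * (u : G) * g⁻¹ = u := by
    intro g hg
    have h2 : ((⟨_, hg⟩ : ↥P)) ^ 2 = 1 := Subtype.ext (by
      show (g * (u : G) * g⁻¹) ^ 2 = 1
      rw [conj_pow, ← Subgroup.coe_pow, show u ^ 2 = 1 from hu2 ▸ pow_orderOf_eq_one u]
      simp)
    have hcg : g * (u : G) * g⁻¹ ∈ Subgroup.centralizer (P : Set G) := fun y hy =>
      congrArg Subtype.val (Subgroup.mem_center_iff.1 (hcen _ h2) ⟨y, hy⟩)
    have hcu : (u : G) ∈ Subgroup.centralizer (P : Set G) := fun y hy =>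
      congrArg Subtype.val (Subgroup.mem_center_iff.1 huc ⟨y, hy⟩)
    obtain ⟨m, hm, he⟩ := Sylow.conj_eq_normalizer_conj_of_mem_centralizer S (u : G) g⁻¹ hcu
      (by rw [inv_inv]; exact hcg)
    rw [inv_inv] at he
    rw [he]
    simpa using hNfix m⁻¹ (inv_mem hm)
  obtain ⟨M, hMn, hModd, hM⟩ := S0215.result S (u : G) (by rw [Subgroup.orderOf_coe]; exact hu2) u.2 hiso
  haveI := hMn
  rcases hMn.eq_bot_or_eq_top with h | h
  · have huZ : (u : G) ∈ Subgroup.center G := by
      rw [Subgroup.mem_center_iff]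
      intro g
      have := hM g
      rw [h, Subgroup.mem_bot, mul_inv_eq_one, mul_inv_eq_iff_eq_mul] at this
      exact this.symm
    rcases (inferInstance : (Subgroup.center G).Normal).eq_bot_or_eq_top with hb | ht
    · rw [hb, Subgroup.mem_bot] at huZ
      rw [OneMemClass.coe_eq_one] at huZ
      rw [huZ, orderOf_one] at hu2
      omega
    · have hx : ∀ x y : QuaternionGroup (2 ^ n), x * y = y * x := fun x y => by
        apply eQ.symm.injective
        rw [map_mul, map_mul]
        exact Subtype.ext ((Subgroup.mem_center_iff.1 (ht ▸ Subgroup.mem_top _) _))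
      have hmem := quat_invol_commutator hn
      have hbot : commutator (QuaternionGroup (2 ^ n)) = ⊥ := by
        rw [commutator_def, Subgroup.commutator_eq_bot_iff_le_centralizer]
        intro x _ y _
        exact hx y x
      rw [hbot, Subgroup.mem_bot] at hmem
      exact quat_invol_ne hmem
  · rw [h, Subgroup.card_top] at hModd
    have : 2 ∣ Nat.card G := by
      have := orderOf_dvd_natCard (u : G)
      rwa [Subgroup.orderOf_coe, hu2] at this
    exact Nat.not_even_iff_odd.2 hModd (even_iff_two_dvd.2 this)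

end Cfsg.Agent.S3269
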