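import Cfsg.Statements.S3276
import Mathlib
-- import your own Cfsg.Agent.* helpers here

set_option autoImplicit false
open Cfsg

namespace Cfsg.Agent.S3276

/-- Let x and y be commuting, non-conjugate involutions of a finite group G, and suppose that for every involution u commuting with x, each conjugate of y that commutes with u also commutes with y. Then the normal closure of y is a proper, normal, elementary abelian 2-subgroup of G; and if y is the only involution of that normal closure commuting with x, it has order at most 4. -/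
theorem result {G : Type*} [Group G] [Finite G] (x y : G) (hx : orderOf x = 2) (hy : orderOf y = 2)
    (hxy : Commute x y) (hnc : ¬ IsConj x y)
    (hstar : ∀ u : G, orderOf u = 2 → Commute u x → ∀ g : G, Commute (g * y * g⁻¹) u → Commute (g * y * g⁻¹) y) :
    Subgroup.normalClosure ({y} : Set G) ≠ ⊤ ∧ Cfsg.IsElementaryAbelian 2 (Subgroup.normalClosure ({y} : Set G)) ∧
      ((∀ u ∈ Subgroup.normalClosure ({y} : Set G), orderOf u = 2 → Commute u x → u = y) →
        Nat.card ↥(Subgroup.normalClosure ({y} : Set G)) ≤ 4) := by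
  have hx2 : x * x = 1 := by rw [← pow_two, ← hx, pow_orderOf_eq_one]
  have hy2 : y * y = 1 := by rw [← pow_two, ← hy, pow_orderOf_eq_one]
  have hxi : x⁻¹ = x := inv_eq_of_mul_eq_one_right hx2
  have hconj2 : ∀ g : G, (g * y * g⁻¹) * (g * y * g⁻¹) = 1 := fun g => by
    rw [show (g * y * g⁻¹) * (g * y * g⁻¹) = g * (y * y) * g⁻¹ by group, hy2, mul_one, mul_inv_cancel]
  have hcomm : ∀ g : G, Commute (g * y * g⁻¹) y := by
    intro g
    obtain ⟨z, hz⟩ : ∃ z, z = g * y * g⁻¹ := ⟨_, rfl⟩
    have hz2 : z * z = 1 := hz ▸ hconj2 g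
    have hzi : z⁻¹ = z := inv_eq_of_mul_eq_one_right hz2
    have hxr : x * (x * z) * x⁻¹ = (x * z)⁻¹ := by
      rw [mul_inv_rev, hzi, hxi, ← mul_assoc x x z, hx2, one_mul]
    have hxpow : ∀ j : ℤ, x * (x * z) ^ j * x⁻¹ = (x * z) ^ (-j) := fun j => by
      rw [← MulAut.conj_apply, map_zpow, MulAut.conj_apply, hxr, inv_zpow, zpow_neg]
    rw [← hz]
    rcases Nat.even_or_odd (orderOf (x * z)) with ⟨k, hk⟩ | ⟨k, hk⟩
    · obtain ⟨u, hu⟩ : ∃ u, u = (x * z) ^ k := ⟨_, rfl⟩
      have hk0 : k ≠ 0 := fun h => (orderOf_pos (x * z)).ne' (by omega)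
      have hu2 : u * u = 1 := by rw [hu, ← pow_add, ← hk, pow_orderOf_eq_one]
      have hu1 : u ≠ 1 := fun h => by
        rw [hu] at h
        have := Nat.le_of_dvd (Nat.pos_of_ne_zero hk0) (orderOf_dvd_of_pow_eq_one h)
        omega
      have hxu : Commute u x := by
        have h := hxpow k
        rw [zpow_neg, zpow_natCast, ← hu, inv_eq_of_mul_eq_one_right hu2] at h
        exact (mul_inv_eq_iff_eq_mul.1 h).symm
      have hzu : Commute z u := by
        have h1 : Commute (x * z) u := by rw [hu]; exact Commute.self_pow _ _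
        have := (hxu.symm).mul_left h1
        rwa [← mul_assoc, hx2, one_mul] at this
      have hord : orderOf u = 2 := orderOf_eq_prime (by rw [pow_two, hu2]) hu1
      rw [hz] at hzu ⊢
      exact hstar u hord hxu g hzu
    · exfalso
      refine hnc ?_
      have hxz : IsConj x z := by
        refine isConj_iff.2 ⟨(x * z) ^ k, ?_⟩
        have h := hxpow (-(k : ℤ))
        rw [neg_neg, zpow_neg, zpow_natCast] at h
        have h' : x * ((x * z) ^ k)⁻¹ = (x * z) ^ k * x := mul_inv_eq_iff_eq_mul.1 h
        calc (x * z) ^ k * x * ((x * z) ^ k)⁻¹ = x * (((x * z) ^ k)⁻¹ * ((x * z) ^ k)⁻¹) := by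
              rw [← h']; group
          _ = x * (x * z) := by
              congr 1
              rw [← mul_inv_rev, ← pow_add, inv_eq_iff_mul_eq_one, ← pow_succ,
                show k + k + 1 = orderOf (x * z) by omega, pow_orderOf_eq_one]
          _ = z := by rw [← mul_assoc, hx2, one_mul]
      exact hxz.trans (isConj_iff.2 ⟨g, hz.symm⟩).symm
  have hall : ∀ a ∈ Group.conjugatesOfSet ({y} : Set G), ∀ b ∈ Group.conjugatesOfSet ({y} : Set G),
      a * b = b * a := by
    intro a ha b hb
    simp only [Group.mem_conjugatesOfSet_iff, Set.mem_singleton_iff,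
      exists_eq_left, isConj_iff] at ha hb
    obtain ⟨g, rfl⟩ := ha
    obtain ⟨g', rfl⟩ := hb
    have h := hcomm (g'⁻¹ * g)
    have h' := h.map (MulAut.conj g').toMonoidHom
    simp only [MulEquiv.coe_toMonoidHom, MulAut.conj_apply] at h'
    rw [show g' * (g'⁻¹ * g * y * (g'⁻¹ * g)⁻¹) * g'⁻¹ = g * y * g⁻¹ by group] at h'
    exact h'.eq
  have hab : IsMulCommutative ↥(Subgroup.normalClosure ({y} : Set G)) :=
    Subgroup.isMulCommutative_closure hall
  have hexp : ∀ a ∈ Subgroup.normalClosure ({y} : Set G), a ^ 2 = 1 := by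
    intro a ha
    unfold Subgroup.normalClosure at ha
    induction ha using Subgroup.closure_induction with
    | mem b hb =>
      simp only [Group.mem_conjugatesOfSet_iff, Set.mem_singleton_iff,
        exists_eq_left, isConj_iff] at hb
      obtain ⟨g, rfl⟩ := hb
      rw [pow_two]; exact hconj2 g
    | one => exact one_pow 2
    | mul b c hb hc ihb ihc =>
      have : Commute b c := congrArg Subtype.val (hab.is_comm.comm (⟨b, hb⟩ : Subgroup.normalClosure ({y} : Set G)) ⟨c, hc⟩)
      rw [this.mul_pow, ihb, ihc, one_mul]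
    | inv b hb ihb => rw [inv_pow, ihb, inv_one]
  refine ⟨fun htop => ?_, ⟨hab, hexp⟩, fun huniq => ?_⟩
  · have hG : ∀ a b : G, a * b = b * a := fun a b =>
      congrArg Subtype.val (hab.is_comm.comm (⟨a, htop ▸ Subgroup.mem_top a⟩ : Subgroup.normalClosure ({y} : Set G))
        ⟨b, htop ▸ Subgroup.mem_top b⟩)
    have hle : Subgroup.normalClosure ({y} : Set G) ≤ Subgroup.zpowers y := by
      have : (Subgroup.zpowers y).Normal := ⟨fun a ha g => by rw [hG g a, mul_inv_cancel_right]; exact ha⟩
      exact Subgroup.normalClosure_le_normal (Set.singleton_subset_iff.2 (Subgroup.mem_zpowers y))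
    obtain ⟨j, hj⟩ := hle (htop ▸ Subgroup.mem_top x : x ∈ Subgroup.normalClosure ({y} : Set G))
    simp only at hj
    rw [← Int.mul_ediv_add_emod j 2, _root_.zpow_add, zpow_mul, zpow_two, hy2, one_zpow, one_mul] at hj
    rcases Int.emod_two_eq_zero_or_one j with h | h <;> rw [h] at hj
    · rw [zpow_zero] at hj
      rw [← hj, orderOf_one] at hx
      omega
    · rw [zpow_one] at hj
      exact hnc (hj ▸ IsConj.refl y)
  · classical
    set N := Subgroup.normalClosure ({y} : Set G) with hN
    have hc : ∀ a ∈ N, ∀ b ∈ N, a * b = b * a := fun a ha b hb =>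
      congrArg Subtype.val (hab.is_comm.comm (⟨a, ha⟩ : N) ⟨b, hb⟩)
    have hsq : ∀ a ∈ N, a * a = 1 := fun a ha => by rw [← pow_two]; exact hexp a ha
    have hnorm : N.Normal := Subgroup.normalClosure_normal
    have hxN : ∀ a ∈ N, x * a * x ∈ N := fun a ha => by
      have := hnorm.conj_mem a ha x
      rwa [hxi] at this
    let ψ : N →* N := MonoidHom.mk' (fun a => ⟨a * (x * a * x), N.mul_mem a.2 (hxN a a.2)⟩) fun a b => by
      apply Subtype.ext
      show (a : G) * b * (x * (a * b) * x) = a * (x * a * x) * (b * (x * b * x))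
      calc (a : G) * b * (x * (a * b) * x) = a * (b * (x * a * x)) * (x⁻¹ * x⁻¹) * (x * x) * (x * b * x) := by
            rw [hxi, hx2]; simp only [mul_one]
            calc (a : G) * b * (x * (a * b) * x) = a * b * (x * a * (x * x) * b * x) := by rw [hx2]; group
              _ = _ := by group
        _ = a * ((x * a * x) * b) * (x * b * x) := by
            rw [hxi, hx2, mul_one, mul_one, hc b b.2 _ (hxN a a.2)]
        _ = a * (x * a * x) * (b * (x * b * x)) := by group
    have hfixed : ∀ a : N, (a : G) * x = x * a → (a : G) = 1 ∨ (a : G) = y := by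
      intro a ha
      by_cases h1 : (a : G) = 1
      · exact Or.inl h1
      · exact Or.inr (huniq a a.2 (orderOf_eq_prime (hexp a a.2) h1) ha)
    have hsmall : ∀ H : Subgroup N, (∀ a ∈ H, (a : G) * x = x * a) → Nat.card H ≤ 2 := by
      intro H hH
      have hinj : Function.Injective fun a : H => decide ((((a : N)) : G) = 1) := by
        intro a b hab'
        apply Subtype.ext; apply Subtype.ext
        rcases hfixed a (hH a a.2) with ha | ha <;> rcases hfixed b (hH b b.2) with hb | hb
        · rw [ha, hb]
        · exfalso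
          simp only [ha, hb, decide_true] at hab'
          have : y = 1 := of_decide_eq_true hab'.symm
          rw [this, orderOf_one] at hy; omega
        · exfalso
          simp only [ha, hb, decide_true] at hab'
          have : y = 1 := of_decide_eq_true hab'
          rw [this, orderOf_one] at hy; omega
        · rw [ha, hb]
      exact (Nat.card_le_card_of_injective _ hinj).trans (le_of_eq (by simp))
    have hrange : ∀ a ∈ ψ.range, (a : G) * x = x * a := by
      rintro _ ⟨a, rfl⟩
      show (a : G) * (x * a * x) * x = x * (a * (x * a * x))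
      rw [hc a a.2 _ (hxN a a.2)]
      calc x * a * x * a * x = x * a * x * a * x := rfl
        _ = x * (a * (x * (a : G) * x)) := by group
        _ = x * (x * a * x * a) := by rw [hc a a.2 _ (hxN a a.2)]
    have hker : ∀ a ∈ ψ.ker, (a : G) * x = x * a := by
      intro a ha
      have h : (a : G) * (x * a * x) = 1 := congrArg Subtype.val ha
      have h2 : x * (a : G) * x = a := by
        calc x * (a : G) * x = ((a : G) * a) * (x * a * x) := by rw [hsq a a.2, one_mul]
          _ = (a : G) * ((a : G) * (x * a * x)) := mul_assoc _ _ _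
          _ = a := by rw [h, mul_one]
      calc (a : G) * x = x * a * x * x := by rw [h2]
        _ = x * a := by rw [mul_assoc, hx2, mul_one]
    rw [← ψ.ker.card_mul_index, Subgroup.index_ker]
    exact Nat.mul_le_mul (hsmall _ hker) (hsmall _ hrange)

end Cfsg.Agent.S3276
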