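import Cfsg.Statements.S3279
import Mathlib

set_option autoImplicit false
open Cfsg
open scoped commutatorElement

namespace Cfsg.Agent.S3279

variable {G : Type*} [Group G] [Finite G]

/-- Non-conjugate involutions commute with an involution in the dihedral group they generate. -/
theorem exists_between {x y : G} (hx : orderOf x = 2) (hy : orderOf y = 2) (hne : ¬ IsConj x y) :
    ∃ u : G, orderOf u = 2 ∧ Commute u x ∧ Commute u y ∧ (IsConj (x * u) x ∨ IsConj (x * u) y) := by
  have hxx : x * x = 1 := by rw [← pow_two, ← hx, pow_orderOf_eq_one]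
  have hyy : y * y = 1 := by rw [← pow_two, ← hy, pow_orderOf_eq_one]
  have hxi : x⁻¹ = x := inv_eq_of_mul_eq_one_right hxx
  have hyi : y⁻¹ = y := inv_eq_of_mul_eq_one_right hyy
  set d := x * y with hd
  have hinv : x * d * x⁻¹ = d⁻¹ := by
    rw [hd, mul_inv_rev, hyi, hxi, ← mul_assoc, hxx, one_mul]
  have hpow : ∀ i : ℕ, x * d ^ i * x⁻¹ = (d ^ i)⁻¹ := by
    intro i; rw [← conj_pow, hinv, inv_pow]
  have hconj : ∀ i : ℕ, IsConj x (x * d ^ (2 * i)) := by
    intro i
    refine isConj_iff.2 ⟨(d ^ i)⁻¹, ?_⟩
    have h := hpow i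
    rw [hxi] at h
    calc (d ^ i)⁻¹ * x * (d ^ i)⁻¹⁻¹ = x * d ^ i * x * x * d ^ i := by rw [← h, h, inv_inv]
      _ = x * d ^ (2 * i) := by
        rw [mul_assoc (x * d ^ i), hxx, mul_one, mul_assoc, ← pow_add, two_mul]
  have hy_eq : x * d = y := by rw [hd, ← mul_assoc, hxx, one_mul]
  have hconj' : ∀ i : ℕ, IsConj y (x * d ^ (2 * i + 1)) := by
    intro i
    refine isConj_iff.2 ⟨(d ^ i)⁻¹, ?_⟩
    have h := hpow i
    rw [hxi] at h
    calc (d ^ i)⁻¹ * y * (d ^ i)⁻¹⁻¹ = x * d ^ i * x * (x * d) * d ^ i := by rw [← h, h, inv_inv, hy_eq]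
      _ = x * d ^ (2 * i + 1) := by
        rw [← mul_assoc (x * d ^ i * x), mul_assoc (x * d ^ i) x x, hxx, mul_one, mul_assoc x,
          mul_assoc x, ← pow_succ, ← pow_add]
        congr 2; omega
  rcases Nat.even_or_odd (orderOf d) with ⟨k, hk⟩ | ⟨k, hk⟩
  · have hk0 : 0 < k := by have := orderOf_pos d; omega
    have hu : orderOf (d ^ k) = 2 := by
      rw [orderOf_pow_of_dvd (by omega) (by rw [hk]; exact ⟨2, by ring⟩), hk, ← two_mul,
        Nat.mul_div_cancel _ hk0]
    have huu : (d ^ k)⁻¹ = d ^ k := inv_eq_of_mul_eq_one_right (by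
      rw [← pow_two, ← hu, pow_orderOf_eq_one])
    have hcx : Commute (d ^ k) x := by
      have h := hpow k
      rw [huu, mul_inv_eq_iff_eq_mul] at h
      exact h.symm
    have hcy : Commute (d ^ k) y := by
      rw [← hy_eq]
      exact hcx.mul_right ((Commute.refl d).pow_left k)
    refine ⟨d ^ k, hu, hcx, hcy, ?_⟩
    rcases Nat.even_or_odd k with ⟨i, hi⟩ | ⟨i, hi⟩
    · left; rw [hi, ← two_mul]; exact (hconj i).symm
    · right; rw [hi]; exact (hconj' i).symm
  · refine absurd ?_ hne
    have h := hconj (k + 1)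
    rwa [show 2 * (k + 1) = orderOf d + 1 by omega, pow_succ, pow_orderOf_eq_one, one_mul, hy_eq] at h

theorem orderOf_isConj {u v : G} (h : IsConj u v) : orderOf u = orderOf v := by
  obtain ⟨c, rfl⟩ := isConj_iff.1 h
  exact (MulEquiv.orderOf_eq (MulAut.conj c) u).symm

theorem orderOf_conj_two {x : G} (hx : orderOf x = 2) (g : G) : orderOf (g * x * g⁻¹) = 2 := by
  rw [← hx]; exact (orderOf_isConj (isConj_iff.2 ⟨g, rfl⟩)).symm

/-- A set of pairwise commuting conjugates cannot generate a non-abelian simple group. -/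
theorem no_central_class [IsSimpleGroup G] (hna : ¬ IsMulCommutative G) {a b : G} (ha : a ≠ 1)
    (hb : b ≠ 1) (h : ∀ g : G, Commute b (g * a * g⁻¹)) : False := by
  have hgen : Subgroup.normalClosure ({a} : Set G) = ⊤ := by
    rcases (Subgroup.normalClosure_normal (s := ({a} : Set G))).eq_bot_or_eq_top with h1 | h1
    · exact absurd (Subgroup.mem_bot.1 (h1 ▸ Subgroup.subset_normalClosure (Set.mem_singleton a))) ha
    · exact h1
  have hle : Subgroup.normalClosure ({a} : Set G) ≤ Subgroup.centralizer ({b} : Set G) := by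
    refine (Subgroup.closure_le _).2 fun z hz => ?_
    obtain ⟨w, rfl, hw⟩ := Group.mem_conjugatesOfSet_iff.1 hz
    obtain ⟨g, rfl⟩ := isConj_iff.1 hw
    exact Subgroup.mem_centralizer_singleton_iff.2 (h g).eq.symm
  rw [hgen] at hle
  have hbc : b ∈ Subgroup.center G := Subgroup.mem_center_iff.2 fun g =>
    Subgroup.mem_centralizer_singleton_iff.1 (hle (Subgroup.mem_top g))
  rcases (inferInstance : (Subgroup.center G).Normal).eq_bot_or_eq_top with h1 | h1
  · exact hb (Subgroup.mem_bot.1 (h1 ▸ hbc))
  · exact hna ⟨⟨fun u v => (Subgroup.mem_center_iff.1 (h1 ▸ Subgroup.mem_top v) u)⟩⟩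

theorem nonabelian_case [IsSimpleGroup G] (hna : ¬ IsMulCommutative G) (x : G) (hx : orderOf x = 2)
    (h3 : Nat.card {u : ↥(Subgroup.centralizer ({x} : Set G)) // orderOf u = 2} ≤ 3) :
    (∃ S : Sylow 2 G, (S : Subgroup G) ≤ Subgroup.centralizer ({x} : Set G)) ∧
      ∀ u : G, orderOf u = 2 → IsConj x u := by
  classical
  haveI : Fact (Nat.Prime 2) := ⟨Nat.prime_two⟩
  -- the involutions commuting with `x`
  have three : ∀ a w : G, orderOf a = 2 → a ≠ x → Commute a x → orderOf w = 2 → Commute w x →
      w = x ∨ w = a ∨ w = x * a := by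
    intro a w ha hax hca hw hcw
    have hxa2 : orderOf (x * a) = 2 := by
      have hs : (x * a) ^ 2 = 1 := by
        rw [hca.symm.mul_pow]
        conv_lhs => rw [show x ^ 2 = 1 by rw [← hx, pow_orderOf_eq_one],
          show a ^ 2 = 1 by rw [← ha, pow_orderOf_eq_one]]
        rw [one_mul]
      refine orderOf_eq_prime hs ?_
      intro h1
      apply hax
      rw [eq_inv_of_mul_eq_one_right h1]
      exact inv_eq_of_mul_eq_one_right (by rw [← pow_two, ← hx, pow_orderOf_eq_one])
    by_contra hall
    push Not at hall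
    let mk : (w : G) → orderOf w = 2 → Commute w x →
        {u : ↥(Subgroup.centralizer ({x} : Set G)) // orderOf u = 2} :=
      fun w hw hc => ⟨⟨w, Subgroup.mem_centralizer_singleton_iff.2 hc.eq⟩,
        by rw [← Subgroup.orderOf_coe]; exact hw⟩
    let f : Fin 4 → {u : ↥(Subgroup.centralizer ({x} : Set G)) // orderOf u = 2} :=
      ![mk x hx (Commute.refl x), mk a ha hca, mk (x * a) hxa2 ((Commute.refl x).mul_left hca),
        mk w hw hcw]
    have hxa : x * a ≠ x := by
      intro h; rw [mul_eq_left] at h; rw [h, orderOf_one] at ha; norm_num at ha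
    have hxa' : x * a ≠ a := by
      intro h; rw [mul_eq_right] at h; rw [h, orderOf_one] at hx; norm_num at hx
    have hinj : Function.Injective f := by
      intro i j hij
      have h := congrArg (fun t : {u : ↥(Subgroup.centralizer ({x} : Set G)) // orderOf u = 2} =>
        ((t.1 : G))) hij
      fin_cases i <;> fin_cases j <;>
        simp_all [f, mk, Ne.symm hax, Ne.symm hxa, Ne.symm hxa', Ne.symm hall.1, Ne.symm hall.2.1,
          Ne.symm hall.2.2]
    have := Nat.card_le_card_of_injective f hinj
    simp at this; omega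
  have hxne : x ≠ 1 := by rintro rfl; simp at hx
  -- a Sylow subgroup centralising `x`
  obtain ⟨S, hS⟩ : ∃ S : Sylow 2 G, (S : Subgroup G) ≤ Subgroup.centralizer ({x} : Set G) := by
    by_contra hno
    push Not at hno
    obtain ⟨S, hS⟩ := (IsPGroup.of_card (n := 1) (p := 2)
      (show Nat.card (Subgroup.zpowers x) = 2 ^ 1 by rw [Nat.card_zpowers, hx]; rfl)).exists_le_sylow
    have hxS : x ∈ (S : Subgroup G) := hS (Subgroup.mem_zpowers x)
    haveI : Nontrivial (S : Subgroup G) := ⟨⟨⟨x, hxS⟩, 1, fun h => hxne (congrArg Subtype.val h)⟩⟩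
    haveI := S.2.center_nontrivial
    obtain ⟨k, hk, hcard⟩ := (S.2.to_subgroup (Subgroup.center (S : Subgroup G))).nontrivial_iff_card.1
      inferInstance
    obtain ⟨z0, hz0⟩ := exists_prime_orderOf_dvd_card' (G := Subgroup.center (S : Subgroup G)) 2
      (hcard ▸ dvd_pow_self 2 hk.ne')
    set z : G := ((z0 : (S : Subgroup G)) : G) with hzdef
    have hz : orderOf z = 2 := by rw [hzdef, Subgroup.orderOf_coe, Subgroup.orderOf_coe, hz0]
    have hzc : ∀ s ∈ (S : Subgroup G), Commute s z := fun s hs =>
      congrArg Subtype.val (Subgroup.mem_center_iff.1 z0.2 ⟨s, hs⟩)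
    have hzx : z ≠ x := by
      intro h
      exact hno S fun s hs => Subgroup.mem_centralizer_singleton_iff.2 (h ▸ hzc s hs).eq
    have hzconj : ¬ IsConj x z := by
      intro h
      obtain ⟨g, hg⟩ := isConj_iff.1 h
      refine hno (g⁻¹ • S) fun s hs => ?_
      rw [Sylow.coe_subgroup_smul, Subgroup.mem_pointwise_smul_iff_inv_smul_mem, ← map_inv, inv_inv,
        MulAut.smul_def, MulAut.conj_apply] at hs
      have h1 := hzc _ hs
      rw [← hg] at h1
      refine Subgroup.mem_centralizer_singleton_iff.2 ?_
      have h2 := h1.map (MulAut.conj g⁻¹)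
      simpa [Commute, SemiconjBy, mul_assoc] using h2.eq
    have hzC : Commute z x := (hzc x hxS).symm
    obtain ⟨s, hsS, hsC, hsn⟩ : ∃ s ∈ (S : Subgroup G), ¬ Commute s x ∧
        Commute (s * x * s⁻¹) x := by
      let C : Subgroup (S : Subgroup G) := (Subgroup.centralizer ({x} : Set G)).subgroupOf S
      haveI := S.2.isNilpotent
      have hC : C < ⊤ := lt_top_iff_ne_top.2 fun h => hno S fun s hs => by
        have : (⟨s, hs⟩ : (S : Subgroup G)) ∈ C := h ▸ Subgroup.mem_top _
        exact this
      obtain ⟨⟨s, hs⟩, hsN, hsC⟩ := SetLike.exists_of_lt (normalizerCondition_of_isNilpotent C hC)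
      refine ⟨s, hs, fun h => hsC (Subgroup.mem_centralizer_singleton_iff.2 h.eq), ?_⟩
      have hxC : (⟨x, hxS⟩ : (S : Subgroup G)) ∈ C := Subgroup.mem_centralizer_singleton_iff.2 rfl
      exact Subgroup.mem_centralizer_singleton_iff.1
        ((Subgroup.mem_normalizer_iff.1 hsN ⟨x, hxS⟩).1 hxC)
    have hsx : s * x * s⁻¹ = x * z := by
      rcases three z _ hz hzx hzC (orderOf_conj_two hx s) hsn with h | h | h
      · exact absurd (mul_inv_eq_iff_eq_mul.1 h : Commute s x) hsC
      · exact absurd (isConj_iff.2 ⟨s, h⟩) hzconj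
      · exact h
    have hall : ∀ y : G, orderOf y = 2 → ¬ IsConj x y → Commute z y := by
      intro y hy hxy
      obtain ⟨u, hu, hux, huy, -⟩ := exists_between hx hy hxy
      rcases three z u hz hzx hzC hu hux with rfl | rfl | rfl
      · rcases three z y hz hzx hzC hy huy.symm with rfl | rfl | rfl
        · exact absurd (IsConj.refl _) hxy
        · exact Commute.refl _
        · exact hzC.mul_right (Commute.refl z)
      · exact huy
      · -- conjugate back into the centraliser of `x`
        have hc : Commute (s⁻¹ * y * s) x := by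
          have h2 := huy.map (MulAut.conj s⁻¹)
          rw [← hsx] at h2
          simpa [mul_assoc] using h2.symm
        have hne : ¬ IsConj x (s⁻¹ * y * s) := fun h =>
          hxy (h.trans (isConj_iff.2 ⟨s, by group⟩))
        rcases three z _ hz hzx hzC (by simpa using orderOf_conj_two hy s⁻¹) hc with h | h | h
        · exact absurd (h ▸ IsConj.refl _) hne
        · have : y = s * z * s⁻¹ := by rw [← h]; group
          rw [this, (hzc s hsS).eq, mul_inv_cancel_right]
        · exact absurd (h ▸ isConj_iff.2 ⟨s, hsx⟩) hne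
    refine no_central_class hna (a := z) (b := z) (by rintro h; rw [h] at hz; simp at hz)
      (by rintro h; rw [h] at hz; simp at hz) fun g => hall _ (orderOf_conj_two hz g) fun h =>
        hzconj (h.trans (isConj_iff.2 ⟨g⁻¹, by group⟩))
  refine ⟨⟨S, hS⟩, fun y hy => ?_⟩
  by_contra hxy
  -- a non-conjugate involution commuting with `x`
  obtain ⟨a, ha, hca, hxa⟩ : ∃ a, orderOf a = 2 ∧ Commute a x ∧ ¬ IsConj x a := by
    obtain ⟨u, hu, hux, huy, hcase⟩ := exists_between hx hy hxy
    by_cases hcu : IsConj x u
    · rcases eq_or_ne u x with rfl | hne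
      · exact ⟨y, hy, huy.symm, hxy⟩
      rcases hcase with h | h
      · exfalso
        obtain ⟨g, hg⟩ := isConj_iff.1 hcu
        have hc : Commute (g⁻¹ * y * g) x := by
          have h2 := huy.map (MulAut.conj g⁻¹)
          rw [← hg] at h2
          simpa [mul_assoc] using h2.symm
        have hne' : ¬ IsConj x (g⁻¹ * y * g) := fun h' =>
          hxy (h'.trans (isConj_iff.2 ⟨g, by group⟩))
        rcases three u _ hu hne hux (by simpa using orderOf_conj_two hy g⁻¹) hc with h' | h' | h'
        · exact hne' (h' ▸ IsConj.refl _)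
        · exact hne' (h' ▸ hcu)
        · exact hne' (h' ▸ h.symm)
      · refine ⟨x * u, (orderOf_isConj h).trans hy, (Commute.refl x).mul_left hux, fun h' => ?_⟩
        exact hxy (h'.trans h)
    · exact ⟨u, hu, hux, hcu⟩
  have hax : a ≠ x := by rintro rfl; exact hxa (IsConj.refl _)
  have hane : a ≠ 1 := by rintro h; rw [h] at ha; simp at ha
  have hxane : x * a ≠ 1 := by
    intro h; apply hax
    rw [eq_inv_of_mul_eq_one_right h]
    exact inv_eq_of_mul_eq_one_right (by rw [← pow_two, ← hx, pow_orderOf_eq_one])
  by_cases h1 : IsConj x (x * a)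
  · obtain ⟨g, hg⟩ := isConj_iff.1 h1
    refine no_central_class hna hane hane fun h => ?_
    have hy' := orderOf_conj_two ha h
    have hny : ¬ IsConj x (h * a * h⁻¹) := fun hh =>
      hxa (hh.trans (isConj_iff.2 ⟨h⁻¹, by group⟩))
    generalize h * a * h⁻¹ = y' at hy' hny ⊢
    obtain ⟨u, hu, hux, huy, -⟩ := exists_between hx hy' hny
    rcases three a u ha hax hca hu hux with rfl | rfl | rfl
    · rcases three a y' ha hax hca hy' huy.symm with rfl | rfl | rfl
      · exact absurd (IsConj.refl _) hny
      · exact Commute.refl _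
      · exact absurd h1 hny
    · exact huy
    · have hc : Commute (g⁻¹ * y' * g) x := by
        have h2 := huy.map (MulAut.conj g⁻¹)
        rw [← hg] at h2
        simpa [mul_assoc] using h2.symm
      have hne' : ¬ IsConj x (g⁻¹ * y' * g) := fun hh =>
        hny (hh.trans (isConj_iff.2 ⟨g, by group⟩))
      have hca' : Commute (g⁻¹ * a * g) x := by
        have h2 := ((hca.mul_right (Commute.refl a))).map (MulAut.conj g⁻¹)
        rw [← hg] at h2
        simpa [mul_assoc] using h2
      have hne'' : ¬ IsConj x (g⁻¹ * a * g) := fun hh =>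
        hxa (hh.trans (isConj_iff.2 ⟨g, by group⟩))
      have key : ∀ w, orderOf w = 2 → Commute w x → ¬ IsConj x w → w = a := by
        intro w hw hwc hwn
        rcases three a w ha hax hca hw hwc with rfl | rfl | rfl
        · exact absurd (IsConj.refl _) hwn
        · rfl
        · exact absurd h1 hwn
      have e1 := key _ (by simpa using orderOf_conj_two hy' g⁻¹) hc hne'
      have e2 := key _ (by simpa using orderOf_conj_two ha g⁻¹) hca' hne''
      have : y' = a := by
        have := e1.trans e2.symm
        simpa using this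
      rw [this]
  by_cases h2 : IsConj a (x * a)
  · -- the focal subgroup of `S` is proper
    obtain ⟨g, hg⟩ := isConj_iff.1 h2
    have hxa2 : orderOf (x * a) = 2 := (orderOf_isConj h2).symm.trans ha
    have hxS : x ∈ (S : Subgroup G) := by
      have hp : IsPGroup 2 ((S : Subgroup G) ⊔ Subgroup.zpowers x : Subgroup G) :=
        IsPGroup.to_sup_of_normal_right' S.2 (IsPGroup.of_card (n := 1)
          (by rw [Nat.card_zpowers, hx]; rfl)) (fun s hs => by
          refine Subgroup.mem_normalizer_iff.2 fun z => ?_
          have hcs : Commute s x := Subgroup.mem_centralizer_singleton_iff.1 (hS hs)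
          constructor
          · rintro ⟨i, rfl⟩; exact ⟨i, by rw [(hcs.zpow_right i).eq, mul_inv_cancel_right]⟩
          · rintro ⟨i, hi⟩
            refine ⟨i, ?_⟩
            have hi' : x ^ i = s * z * s⁻¹ := hi
            show x ^ i = z
            have := congrArg (fun t => s⁻¹ * t * s) hi'
            rw [show s⁻¹ * (x ^ i) * s = x ^ i by
              rw [← ((hcs.zpow_right i).inv_left).eq.symm, inv_mul_cancel_right]] at this
            rw [this]; group)
      exact (S.3 hp le_sup_left).le ((le_sup_right : Subgroup.zpowers x ≤ (S : Subgroup G) ⊔ Subgroup.zpowers x) (Subgroup.mem_zpowers x))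
    have hpair : ∀ c : G, Commute c x → c * a * c⁻¹ = a ∨ c * a * c⁻¹ = x * a := by
      intro c hc
      have hcc : Commute (c * a * c⁻¹) x := by
        have h := hca.map (MulAut.conj c)
        simp only [MulAut.conj_apply] at h
        rwa [hc.eq, mul_inv_cancel_right] at h
      rcases three a _ ha hax hca (orderOf_conj_two ha c) hcc with h | h | h
      · exact absurd (isConj_iff.2 ⟨c⁻¹, by rw [← h]; group⟩ : IsConj x a) hxa
      · exact Or.inl h
      · exact Or.inr h
    have hfix : ∀ c : G, Commute c x → c * a * c⁻¹ = a → c * (x * a) * c⁻¹ = x * a := by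
      intro c hc h
      calc c * (x * a) * c⁻¹ = (c * x * c⁻¹) * (c * a * c⁻¹) := by group
        _ = x * a := by rw [h, hc.eq, mul_inv_cancel_right]
    have hswap : ∀ c : G, Commute c x → c * a * c⁻¹ = x * a → c * (x * a) * c⁻¹ = a := by
      intro c hc h
      calc c * (x * a) * c⁻¹ = (c * x * c⁻¹) * (c * a * c⁻¹) := by group
        _ = a := by
          rw [h, hc.eq, mul_inv_cancel_right, ← mul_assoc, ← pow_two, ← hx, pow_orderOf_eq_one,
            one_mul]
    have hxa_ne : x * a ≠ a := by intro h; exact hxne (mul_eq_right.1 h)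
    -- some element of `S` moves `a`
    obtain ⟨s₀, hs₀, hs₀a⟩ : ∃ s ∈ (S : Subgroup G), s * a * s⁻¹ ≠ a := by
      by_contra hno
      push Not at hno
      have hSa : (S : Subgroup G) ≤ Subgroup.centralizer ({x * a} : Set G) := fun s hs =>
        Subgroup.mem_centralizer_singleton_iff.2
          (mul_inv_eq_iff_eq_mul.1 (hfix s (Subgroup.mem_centralizer_singleton_iff.1 (hS hs)) (hno s hs)))
      have hgS : ((g • S : Sylow 2 G) : Subgroup G) ≤ Subgroup.centralizer ({x * a} : Set G) := by
        intro s hs
        rw [Sylow.coe_subgroup_smul, Subgroup.mem_pointwise_smul_iff_inv_smul_mem, ← map_inv,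
          MulAut.smul_def, MulAut.conj_apply, inv_inv] at hs
        refine Subgroup.mem_centralizer_singleton_iff.2 (mul_inv_eq_iff_eq_mul.1 ?_)
        rw [← hg]
        calc s * (g * a * g⁻¹) * s⁻¹ = g * ((g⁻¹ * s * g) * a * (g⁻¹ * s * g)⁻¹) * g⁻¹ := by group
          _ = _ := by rw [hno _ hs]
      obtain ⟨⟨c, hc⟩, hcS⟩ := MulAction.exists_smul_eq (Subgroup.centralizer ({x * a} : Set G))
        ((g • S).subtype hgS) (S.subtype hSa)
      rw [Sylow.smul_subtype] at hcS
      have hn : (c * g) • S = S := by rw [mul_smul]; exact Sylow.subtype_injective hcS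
      have hnN : c * g ∈ Subgroup.normalizer ((S : Subgroup G) : Set G) :=
        Sylow.smul_eq_iff_mem_normalizer.1 hn
      have hna' : (c * g) * a * (c * g)⁻¹ = x * a := by
        rw [mul_inv_rev, ← mul_assoc, mul_assoc c g a, mul_assoc c (g * a), hg,
          (Subgroup.mem_centralizer_singleton_iff.1 hc), mul_inv_cancel_right]
      set nn := c * g with hnn
      have hnx : Commute nn x := by
        have hm := (Subgroup.mem_normalizer_iff.1 hnN x).1 hxS
        have hcm : Commute (nn * x * nn⁻¹) x := Subgroup.mem_centralizer_singleton_iff.1 (hS hm)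
        rcases three a _ ha hax hca (orderOf_conj_two hx nn) hcm with h | h | h
        · exact mul_inv_eq_iff_eq_mul.1 h
        · exact absurd (isConj_iff.2 ⟨nn, h⟩) hxa
        · exact absurd (isConj_iff.2 ⟨nn, h⟩) h1
      -- the odd part of `nn` would swap, its two-part lies in `S`
      obtain ⟨k, m, hm, hkm⟩ := Nat.exists_eq_pow_mul_and_not_dvd (orderOf_pos nn).ne' 2 (by norm_num)
      have hparity : ∀ i : ℕ, nn ^ i * a * (nn ^ i)⁻¹ = if Even i then a else x * a := by
        intro i
        induction i with
        | zero => simp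
        | succ i ih =>
          rw [pow_succ', mul_inv_rev, ← mul_assoc, mul_assoc nn (nn ^ i) a, mul_assoc nn (nn ^ i * a),
            ih]
          by_cases hi : Even i
          · rw [if_pos hi, if_neg (by simp [Nat.even_add_one, hi]), hna']
          · rw [if_neg hi, if_pos (by simp [Nat.even_add_one, hi]), hswap nn hnx hna']
      have hmodd : ¬ Even m := fun h => hm h.two_dvd
      have hmem : nn ^ m ∈ (S : Subgroup G) := by
        have hp : IsPGroup 2 (Subgroup.zpowers (nn ^ m)) := by
          refine IsPGroup.of_card (n := k) ?_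
          rw [Nat.card_zpowers, orderOf_pow, hkm, Nat.gcd_mul_left_left,
            Nat.mul_div_cancel _ (Nat.pos_of_ne_zero fun h => by simp [h] at hm)]
        have hle : Subgroup.zpowers (nn ^ m) ≤
            Subgroup.normalizer ((S : Subgroup G) : Set G) := by
          rw [Subgroup.zpowers_le]; exact pow_mem hnN m
        have hp2 : IsPGroup 2 ((S : Subgroup G) ⊔ Subgroup.zpowers (nn ^ m) : Subgroup G) :=
          IsPGroup.to_sup_of_normal_left' S.2 hp hle
        exact (S.3 hp2 le_sup_left).le ((le_sup_right : Subgroup.zpowers (nn ^ m) ≤ (S : Subgroup G) ⊔ Subgroup.zpowers (nn ^ m)) (Subgroup.mem_zpowers _))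
      have := hno _ hmem
      rw [hparity m, if_neg hmodd] at this
      exact hxa_ne this
    -- fusion preserves fixing `a`
    have hsame : ∀ s ∈ (S : Subgroup G), ∀ h : G, h * s * h⁻¹ ∈ (S : Subgroup G) →
        (s * a * s⁻¹ = a ↔ (h * s * h⁻¹) * a * (h * s * h⁻¹)⁻¹ = a) := by
      intro s hs h hh
      rcases eq_or_ne s 1 with rfl | hs1
      · simp
      obtain ⟨k, hk⟩ : ∃ k, orderOf s = 2 ^ (k + 1) := by
        obtain ⟨j, hj⟩ := S.2 ⟨s, hs⟩
        obtain ⟨i, -, hi⟩ := (Nat.dvd_prime_pow Nat.prime_two).1
          (orderOf_dvd_of_pow_eq_one (congrArg Subtype.val hj : s ^ 2 ^ j = 1))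
        rcases i with _ | i
        · exact absurd (orderOf_eq_one_iff.1 hi) hs1
        · exact ⟨i, hi⟩
      set i := s ^ 2 ^ k with hi
      have hi2 : orderOf i = 2 := by
        rw [hi, orderOf_pow_of_dvd (by positivity) (by rw [hk]; exact pow_dvd_pow 2 (by omega)), hk,
          pow_succ, Nat.mul_div_cancel_left _ (Nat.two_pow_pos k)]
      have hsx : Commute s x := Subgroup.mem_centralizer_singleton_iff.1 (hS hs)
      have hhx : Commute (h * s * h⁻¹) x := Subgroup.mem_centralizer_singleton_iff.1 (hS hh)
      have hi' : (h * s * h⁻¹) ^ 2 ^ k = h * i * h⁻¹ := by rw [conj_pow]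
      have hic : Commute i x := hsx.pow_left _
      have hhic : Commute (h * i * h⁻¹) x := hi' ▸ hhx.pow_left _
      have hfixes : ∀ t : G, Commute t x → (Commute t a ∨ Commute t (x * a)) → t * a * t⁻¹ = a := by
        intro t htx ht
        have hta : Commute t a := by
          rcases ht with ht | ht
          · exact ht
          · have := htx.inv_right.mul_right ht
            rwa [inv_mul_cancel_left] at this
        rw [hta.eq, mul_inv_cancel_right]
      rcases three a i ha hax hca hi2 hic with hix | hia | hixa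
      · -- top involution `x`: the conjugating element centralises `x`
        have hhc : Commute h x := by
          rcases three a _ ha hax hca (orderOf_conj_two hi2 h) hhic with h' | h' | h'
          · rw [hix] at h'; exact mul_inv_eq_iff_eq_mul.1 h'
          · rw [hix] at h'; exact absurd (isConj_iff.2 ⟨h, h'⟩) hxa
          · rw [hix] at h'; exact absurd (isConj_iff.2 ⟨h, h'⟩) h1
        have key : (h * s * h⁻¹) * a * (h * s * h⁻¹)⁻¹ = h * (s * (h⁻¹ * a * h) * s⁻¹) * h⁻¹ := by group
        rw [key]
        rcases hpair h⁻¹ hhc.inv_left with h' | h' <;> rw [inv_inv] at h' <;> rw [h']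
        · constructor
          · intro h''; rw [h'']
            have := congrArg (fun t => h * t * h⁻¹) h'; simpa [mul_assoc] using this.symm
          · intro h''
            have := congrArg (fun t => h⁻¹ * t * h) h''; rw [h'] at this; simpa [mul_assoc] using this
        · have hh' : h * (x * a) * h⁻¹ = a := by rw [← h']; group
          constructor
          · intro h''; rw [hfix s hsx h'', hh']
          · intro h''
            rcases hpair s hsx with h3 | h3
            · exact h3
            · rw [hswap s hsx h3] at h''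
              exact absurd (by
                have := congrArg (fun t => h⁻¹ * t * h) h''
                rw [h'] at this
                simpa [mul_assoc] using this : a = x * a) hxa_ne.symm
      all_goals
        have hsfix : s * a * s⁻¹ = a := hfixes s hsx (by
          first
            | exact Or.inl (hia ▸ (Commute.refl s).pow_right _)
            | exact Or.inr (hixa ▸ (Commute.refl s).pow_right _))
        have hhfix : (h * s * h⁻¹) * a * (h * s * h⁻¹)⁻¹ = a := hfixes _ hhx (by
          have hnx : ¬ IsConj x (h * i * h⁻¹) := fun hh' => by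
            have := hh'.trans (isConj_iff.2 ⟨h⁻¹, by group⟩ : IsConj (h * i * h⁻¹) i)
            first
              | exact hxa (hia ▸ this)
              | exact h1 (hixa ▸ this)
          have hcm : Commute (h * s * h⁻¹) (h * i * h⁻¹) := hi' ▸ (Commute.refl _).pow_right _
          rcases three a _ ha hax hca (orderOf_conj_two hi2 h) hhic with h' | h' | h'
          · exact absurd (h' ▸ IsConj.refl _) hnx
          · exact Or.inl (h' ▸ hcm)
          · exact Or.inr (h' ▸ hcm))
        exact ⟨fun _ => hhfix, fun _ => hsfix⟩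
    have htop : commutator G = ⊤ := by
      rcases (inferInstance : (commutator G).Normal).eq_bot_or_eq_top with h | h
      · exact absurd ⟨⟨fun u v => by
          have : ⁅u, v⁆ ∈ (⊥ : Subgroup G) := h ▸ Subgroup.commutator_mem_commutator
            (Subgroup.mem_top u) (Subgroup.mem_top v)
          exact commutatorElement_eq_one_iff_mul_comm.1 (Subgroup.mem_bot.1 this)⟩⟩ hna
      · exact h
    let T : Subgroup G :=
      { carrier := {t | t ∈ (S : Subgroup G) ∧ t * a * t⁻¹ = a}
        one_mem' := ⟨one_mem _, by simp⟩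
        mul_mem' := fun {u v} hu hv => ⟨mul_mem hu.1 hv.1, by
          calc u * v * a * (u * v)⁻¹ = u * (v * a * v⁻¹) * u⁻¹ := by group
            _ = a := by rw [hv.2, hu.2]⟩
        inv_mem' := fun {u} hu => ⟨inv_mem hu.1, by
          have := congrArg (fun t => u⁻¹ * t * u) hu.2
          simpa [mul_assoc] using this.symm⟩ }
    have hfocal : (S : Subgroup G).focalSubgroup ≤ T := by
      rw [Subgroup.focalSubgroup_def]
      refine (Subgroup.closure_le _).2 ?_
      rintro w ⟨hw, u, hu, v, rfl⟩
      have hu' : u * (v * u⁻¹ * v⁻¹) ∈ (S : Subgroup G) := by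
        simpa [commutatorElement_def, mul_assoc] using hw
      have hv : v * u⁻¹ * v⁻¹ ∈ (S : Subgroup G) := by simpa using mul_mem (inv_mem hu) hu'
      refine ⟨hw, ?_⟩
      have hs := hsame u⁻¹ (inv_mem hu) v hv
      have hux : Commute u x := Subgroup.mem_centralizer_singleton_iff.1 (hS hu)
      have hvx : Commute (v * u⁻¹ * v⁻¹) x := Subgroup.mem_centralizer_singleton_iff.1 (hS hv)
      have key : ⁅u, v⁆ * a * ⁅u, v⁆⁻¹ = u * ((v * u⁻¹ * v⁻¹) * a * (v * u⁻¹ * v⁻¹)⁻¹) * u⁻¹ := by
        rw [commutatorElement_def]; group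
      rw [key]
      by_cases hfu : u * a * u⁻¹ = a
      · have : u⁻¹ * a * u⁻¹⁻¹ = a := by
          have := congrArg (fun t => u⁻¹ * t * u) hfu
          simpa [mul_assoc] using this.symm
        rw [hs.1 this, hfu]
      · have hsw := (hpair _ hux).resolve_left hfu
        have : ¬ u⁻¹ * a * u⁻¹⁻¹ = a := fun hh => hfu (by
          have := congrArg (fun t => u * t * u⁻¹) hh
          simpa [mul_assoc] using this.symm)
        rw [(hpair _ hvx).resolve_left (fun hh => this (hs.2 hh)), hswap u hux hsw]
    have hle : (S : Subgroup G) ≤ T := by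
      intro s hs
      refine hfocal ?_
      rw [← Subgroup.commutator_inf_eq_focalSubgroup]
      exact ⟨htop ▸ Subgroup.mem_top s, hs⟩
    exact hs₀a (hle hs₀).2
  · -- three classes
    refine no_central_class hna hane hxane fun h => ?_
    have hy' := orderOf_conj_two ha h
    have hya : IsConj a (h * a * h⁻¹) := isConj_iff.2 ⟨h, rfl⟩
    have hny : ¬ IsConj x (h * a * h⁻¹) := fun hh => hxa (hh.trans hya.symm)
    generalize h * a * h⁻¹ = y' at hy' hny hya ⊢
    obtain ⟨u, hu, hux, huy, hcase⟩ := exists_between hx hy' hny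
    rcases three a u ha hax hca hu hux with rfl | rfl | rfl
    · rcases three a y' ha hax hca hy' huy.symm with rfl | rfl | rfl
      · exact absurd (IsConj.refl _) hny
      · exact hca.symm.mul_left (Commute.refl _)
      · exact Commute.refl _
    · rcases hcase with hh | hh
      · exact absurd hh.symm h1
      · exact absurd (hya.trans hh.symm) h2
    · exact huy

/-- Let G be a finite simple group and x an involution of G whose centralizer contains at most three involutions. Then C_G(x) contains a Sylow 2-subgroup of G, and all involutions of G are conjugate. -/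
theorem result {G : Type*} [Group G] [Finite G] [IsSimpleGroup G] (x : G) (hx : orderOf x = 2)
    (h3 : Nat.card {u : ↥(Subgroup.centralizer ({x} : Set G)) // orderOf u = 2} ≤ 3) :
    (∃ S : Sylow 2 G, (S : Subgroup G) ≤ Subgroup.centralizer ({x} : Set G)) ∧
      ∀ u v : G, orderOf u = 2 → orderOf v = 2 → IsConj u v := by
  by_cases hna : IsMulCommutative G
  · haveI := hna
    letI : CommGroup G := { (inferInstance : Group G) with mul_comm := mul_comm' }
    obtain ⟨S⟩ := (inferInstance : Nonempty (Sylow 2 G))
    refine ⟨⟨S, fun s _ => Subgroup.mem_centralizer_singleton_iff.2 (mul_comm s x)⟩,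
      fun u v hu hv => ?_⟩
    have key : ∀ w : G, orderOf w = 2 → w = x := by
      intro w hw
      have h := (inferInstance : (Subgroup.zpowers x).Normal).eq_bot_or_eq_top
      rcases h with h | h
      · rw [Subgroup.zpowers_eq_bot] at h; rw [h, orderOf_one] at hx; norm_num at hx
      · obtain ⟨i, rfl⟩ : w ∈ Subgroup.zpowers x := h ▸ Subgroup.mem_top w
        rcases Int.even_or_odd i with ⟨j, rfl⟩ | ⟨j, rfl⟩
        · have h2 : x ^ (2 : ℤ) = 1 := by
            rw [zpow_ofNat, ← hx, pow_orderOf_eq_one]
          simp only [← two_mul, zpow_mul, h2, one_zpow, orderOf_one] at hw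
          norm_num at hw
        · have h2 : x ^ (2 : ℤ) = 1 := by
            rw [zpow_ofNat, ← hx, pow_orderOf_eq_one]
          show x ^ (2 * j + 1) = x
          rw [zpow_add, zpow_mul, h2, one_zpow, one_mul, zpow_one]
    rw [key u hu, key v hv]
  · obtain ⟨hS, hc⟩ := nonabelian_case hna x hx h3
    exact ⟨hS, fun u v hu hv => (hc u hu).symm.trans (hc v hv)⟩

end Cfsg.Agent.S3279
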