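import Cfsg.Statements.S3283
import Cfsg.Agent.Lib.Spor.ExtraS3A6.Assemble
import Cfsg.Agent.Lib.Spor.ExtraS3A6.AlphaS

set_option autoImplicit false
open Cfsg

namespace Cfsg.Agent.S3283

/-- Let G be a finite group with an involution z whose centralizer M has Q = O₂(M) extraspecial of order 2⁹ with C_M(Q) ≤ Q, and M/Q isomorphic to S₃ × A₆ or to S₃ × S₆. Then G is not simple. -/
theorem result {G : Type*} [Group G] [Finite G] (z : G) (hz : orderOf z = 2)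
    (hQ : Cfsg.IsExtraspecial 2 ↥(Cfsg.pCore 2 ↥(Subgroup.centralizer ({z} : Set G)))) (hQ9 : Nat.card ↥(Cfsg.pCore 2 ↥(Subgroup.centralizer ({z} : Set G))) = 2 ^ 9)
    (hCQ : Subgroup.centralizer ((Cfsg.pCore 2 ↥(Subgroup.centralizer ({z} : Set G))) : Set ↥(Subgroup.centralizer ({z} : Set G))) ≤ Cfsg.pCore 2 ↥(Subgroup.centralizer ({z} : Set G)))
    (hMQ : Nonempty (↥(Subgroup.centralizer ({z} : Set G)) ⧸ Cfsg.pCore 2 ↥(Subgroup.centralizer ({z} : Set G)) ≃* (Equiv.Perm (Fin 3) × ↥(alternatingGroup (Fin 6)))) ∨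
      Nonempty (↥(Subgroup.centralizer ({z} : Set G)) ⧸ Cfsg.pCore 2 ↥(Subgroup.centralizer ({z} : Set G)) ≃* (Equiv.Perm (Fin 3) × Equiv.Perm (Fin 6)))) :
    ¬ IsSimpleGroup G := by
  intro hS
  haveI := hS
  haveI := Cfsg.Agent.Solv.pCore_normal (G := ↥(Subgroup.centralizer ({z} : Set G))) 2
  rcases hMQ with h | h
  · obtain ⟨e⟩ := h
    let i : (Equiv.Perm (Fin 3) × ↥(alternatingGroup (Fin 6))) ≃* ↥Cfsg.Agent.Spor.XS.KA :=
      (MulEquiv.prodCongr Subgroup.topEquiv.symm (MulEquiv.refl _)).trans (Subgroup.prodEquiv _ _).symm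
    obtain ⟨hG, ⟨H⟩⟩ := Cfsg.Agent.Spor.XS.reduce z hz _ hQ hQ9 hCQ Cfsg.Agent.Spor.XS.kind_KA (e.trans i)
    exact Cfsg.Agent.Spor.XS.main_of hG Cfsg.Agent.Spor.XS.kind_KA H
      (fun S => Cfsg.Agent.Spor.XS.alpha_S hG S)
  · obtain ⟨e⟩ := h
    obtain ⟨hG, ⟨H⟩⟩ := Cfsg.Agent.Spor.XS.reduce z hz _ hQ hQ9 hCQ Cfsg.Agent.Spor.XS.kind_top
      (e.trans Subgroup.topEquiv.symm)
    exact Cfsg.Agent.Spor.XS.main_of hG Cfsg.Agent.Spor.XS.kind_top H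
      (fun S => Cfsg.Agent.Spor.XS.alpha_S hG S)

end Cfsg.Agent.S3283
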