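import Cfsg.Statements.S3286
import Cfsg.Agent.Lib.Spor.MTwelve.Index
-- import your own Cfsg.Agent.* helpers here

set_option autoImplicit false
open Cfsg

namespace Cfsg.Agent.S3286

/-- Let G be a non-abelian finite simple group containing an involution whose centralizer is isomorphic to the centralizer, in the Mathieu group M₁₂, of an involution lying in the centre of a Sylow 2-subgroup of M₁₂. Then G is isomorphic to M₁₂. -/
theorem result {G : Type*} [Group G] [Finite G] [IsSimpleGroup G] (hG : ¬ IsMulCommutative G)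
    (u : ↥Cfsg.Spor.M12) (hu : Cfsg.IsTwoCentralInvolution u)
    (t : G) (ht : orderOf t = 2) (e : ↥(Subgroup.centralizer ({t} : Set G)) ≃* ↥(Subgroup.centralizer ({u} : Set ↥Cfsg.Spor.M12))) :
    Cfsg.Spor.IsoM12 G := by
  obtain ⟨f⟩ := Cfsg.Agent.MTwelve.realCent u hu
  let φ := e.trans f
  let ι : Cfsg.Agent.MTwelve.C0 →* G := (Subgroup.centralizer ({t} : Set G)).subtype.comp φ.symm.toMonoidHom
  have hinj : Function.Injective ι :=
    (Subgroup.subtype_injective _).comp φ.symm.injective
  have hrange : ι.range = Subgroup.centralizer ({t} : Set G) := by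
    refine le_antisymm ?_ fun g hg => ⟨φ ⟨g, hg⟩, ?_⟩
    · rintro _ ⟨c, rfl⟩; exact (φ.symm c).2
    · show ((φ.symm (φ ⟨g, hg⟩) : Subgroup.centralizer ({t} : Set G)) : G) = g
      rw [φ.symm_apply_apply]
  let t' : Subgroup.centralizer ({t} : Set G) := ⟨t, Subgroup.mem_centralizer_singleton_iff.2 rfl⟩
  have ht1 : φ t' ≠ 1 := fun h => by
    have h1 : t' = 1 := φ.injective (h.trans (map_one φ).symm)
    rw [show t = 1 from congrArg Subtype.val h1, orderOf_one] at ht
    omega
  have hcen : ∀ c, c * φ t' = φ t' * c := fun c => by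
    obtain ⟨g, rfl⟩ := φ.surjective c
    rw [← map_mul, ← map_mul]
    exact congrArg φ (Subtype.ext (Subgroup.mem_centralizer_singleton_iff.1 g.2))
  have hz : φ t' = Cfsg.Agent.MTwelve.C0.z0 := by
    have h := Cfsg.Agent.MTwelve.C0.forall_of_all (p := fun x => x == 1 || x == Cfsg.Agent.MTwelve.C0.z0 ||
      !(Cfsg.Agent.MTwelve.allEl.all fun c => c * x == x * c)) (by decide +kernel) (φ t')
    have hall : (Cfsg.Agent.MTwelve.allEl.all fun c => c * φ t' == φ t' * c) = true :=
      List.all_eq_true.2 fun c _ => beq_iff_eq.2 (hcen c)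
    simpa [hall, ht1] using h
  refine Cfsg.Agent.MTwelve.isoM12_of_setup hG ⟨t, ι, hinj, hrange, ?_⟩
  rw [← hz]
  show ((φ.symm (φ t') : Subgroup.centralizer ({t} : Set G)) : G) = t
  rw [φ.symm_apply_apply]

end Cfsg.Agent.S3286
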