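import Cfsg.Statements.S3294
import Mathlib
import Cfsg.Agent.Lib.Fusion.SolvableBalance
import Cfsg.Agent.Lib.Solv.PConj
-- import your own Cfsg.Agent.* helpers here

set_option autoImplicit false
open Cfsg

namespace Cfsg.Agent.S3294

/-- A finite solvable group whose Sylow 2-subgroups are generalized quaternion of order at least 32 has a normal 2-complement. -/
theorem result {G : Type*} [Group G] [Finite G] (hsol : Group.IsSolvable G) (T : Sylow 2 G) (n : ℕ) (hn : 3 ≤ n) (hT : Nonempty ((T : Subgroup G) ≃* QuaternionGroup (2 ^ n))) : Cfsg.HasNormalPComplement 2 G := by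
  classical
  haveI := Fact.mk Nat.prime_two
  set O := Cfsg.pPrimeCore 2 G with hOdef
  haveI hOn : O.Normal := Cfsg.Agent.Solv.pPrimeCore_normal 2
  have hOc : (Nat.card O).Coprime 2 := Cfsg.Agent.Fusion.card_pPrimeCore_coprime 2 G
  set f := QuotientGroup.mk' O with hf
  have hfs : Function.Surjective f := QuotientGroup.mk'_surjective O
  set T' := T.mapSurjective hfs with hT'
  obtain ⟨e⟩ := hT
  have hinj : ∀ x ∈ (T : Subgroup G), f x = 1 → x = 1 := by
    intro x hx h1
    have hxO : x ∈ O := (QuotientGroup.eq_one_iff x).1 h1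
    obtain ⟨k, hk⟩ := IsPGroup.iff_orderOf.1 T.isPGroup' ⟨x, hx⟩
    rw [Subgroup.orderOf_mk] at hk
    have h2 : orderOf x ∣ Nat.card O := Subgroup.orderOf_dvd_natCard _ hxO
    rw [hk] at h2
    rcases k with _ | k
    · simpa using hk
    · exact absurd (Nat.eq_one_of_dvd_coprimes hOc ((dvd_pow_self 2 k.succ_ne_zero).trans h2) dvd_rfl) (by norm_num)
  let g₀ : QuaternionGroup (2 ^ n) →* (G ⧸ O) := f.comp ((T : Subgroup G).subtype.comp e.symm.toMonoidHom)
  have hg₀ : Function.Injective g₀ := by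
    rw [← MonoidHom.ker_eq_bot_iff, eq_bot_iff]
    intro q hq
    have := hinj _ (e.symm q).2 hq
    rw [Subgroup.mem_bot]
    exact e.symm.map_eq_one_iff.1 (Subtype.ext this)
  have hT'r : (T' : Subgroup (G ⧸ O)) = g₀.range := by
    show (T : Subgroup G).map f = _
    ext y
    constructor
    · rintro ⟨x, hx, rfl⟩; exact ⟨e ⟨x, hx⟩, by simp [g₀]⟩
    · rintro ⟨q, rfl⟩; exact ⟨e.symm q, (e.symm q).2, rfl⟩
  set R := Cfsg.pCore 2 (G ⧸ O) with hR
  haveI hRn : R.Normal := Cfsg.Agent.Solv.pCore_normal 2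
  have hRT : R ≤ g₀.range := hT'r ▸ Cfsg.Agent.Fusion.pCore_le_sylow T'
  have hsolq : Group.IsSolvable (G ⧸ O) := Group.isSolvable_of_surjective hfs
  have hCR : Subgroup.centralizer (R : Set (G ⧸ O)) ≤ R :=
    Cfsg.Agent.Fusion.centralizer_pCore_le_of_solvable hsolq
      (Cfsg.Agent.Fusion.pPrimeCore_quotient_eq_bot)
  have hN : NeZero (2 ^ n) := ⟨by positivity⟩
  -- the cyclic part
  set A : Subgroup (G ⧸ O) := Subgroup.zpowers (g₀ (QuaternionGroup.a 1)) with hA
  set C := R ⊓ A with hC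
  haveI hCcyc : IsCyclic C := isCyclic_of_injective (Subgroup.inclusion (inf_le_right : C ≤ A)) (Subgroup.inclusion_injective _)
  have hAmem : ∀ i, g₀ (QuaternionGroup.a i) ∈ A := fun i => by
    refine ⟨(i.val : ℤ), ?_⟩
    show g₀ (QuaternionGroup.a 1) ^ (i.val : ℤ) = _
    rw [zpow_natCast, ← map_pow, QuaternionGroup.a_one_pow, ZMod.natCast_zmod_val]
  have hxa : ∀ i, orderOf (g₀ (QuaternionGroup.xa i)) = 4 := fun i => by
    rw [orderOf_injective g₀ hg₀, QuaternionGroup.orderOf_xa]
  obtain ⟨⟨c, hcC⟩, hcgen⟩ := IsCyclic.exists_generator (α := C)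
  have hCle : ∀ y ∈ C, y ∈ Subgroup.zpowers c := by
    intro y hy
    obtain ⟨k, hk⟩ := Subgroup.mem_zpowers_iff.1 (hcgen ⟨y, hy⟩)
    exact ⟨k, by simpa using congrArg Subtype.val hk⟩
  -- conjugation keeps the cyclic part
  have hconj : ∀ g : G ⧸ O, g * c * g⁻¹ ∈ C := by
    intro g
    have hgR : g * c * g⁻¹ ∈ R := hRn.conj_mem c hcC.1 g
    refine ⟨hgR, ?_⟩
    obtain ⟨q, hq⟩ := hRT hgR
    rcases q with i | i
    · rw [← hq]; exact hAmem i
    · exfalso
      have hin : g₀ (QuaternionGroup.xa i) ∈ R := hq ▸ hgR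
      have h2 : g₀ ((QuaternionGroup.xa i)⁻¹ * ((QuaternionGroup.a 1)⁻¹ * QuaternionGroup.xa i * QuaternionGroup.a 1)) ∈ R := by
        simp only [map_mul, map_inv]
        exact mul_mem (inv_mem hin) (by simpa using hRn.conj_mem _ hin (g₀ (QuaternionGroup.a 1))⁻¹)
      have hcalc : (QuaternionGroup.xa i)⁻¹ * ((QuaternionGroup.a 1)⁻¹ * QuaternionGroup.xa i * QuaternionGroup.a 1) = (QuaternionGroup.a 2 : QuaternionGroup (2 ^ n)) := by
        rw [show (QuaternionGroup.a (1 : ZMod (2 * 2 ^ n)))⁻¹ = QuaternionGroup.a (-1) from rfl,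
          QuaternionGroup.a_mul_xa, QuaternionGroup.xa_mul_a, inv_mul_eq_iff_eq_mul, QuaternionGroup.xa_mul_a]
        congr 1; ring
      rw [hcalc] at h2
      have h2C : g₀ (QuaternionGroup.a 2) ∈ C := ⟨h2, hAmem 2⟩
      have hd := (dvd_of_eq (orderOf_injective g₀ hg₀ (QuaternionGroup.a 2)).symm).trans
        (orderOf_dvd_of_mem_zpowers (hCle _ h2C))
      have hoc : orderOf c = 4 := by
        rw [← hxa i, hq]
        exact (orderOf_injective (MulAut.conj g).toMonoidHom (MulAut.conj g).injective c).symm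
      rw [hoc, QuaternionGroup.orderOf_a] at hd
      have h8 : 8 ≤ 2 ^ n := le_trans (by norm_num) (Nat.pow_le_pow_right (by norm_num) hn)
      rw [show (2 : ZMod (2 * 2 ^ n)).val = 2 by
        rw [show (2 : ZMod (2 * 2 ^ n)) = ((2 : ℕ) : ZMod (2 * 2 ^ n)) by norm_cast,
          ZMod.val_natCast, Nat.mod_eq_of_lt (by omega)],
        Nat.gcd_eq_right (dvd_mul_right 2 (2 ^ n)), Nat.mul_div_cancel_left _ (by norm_num)] at hd
      have := Nat.le_of_dvd (by norm_num) hd
      omega
  have hnorm : ∀ g : G ⧸ O, ∀ y ∈ C, g * y * g⁻¹ ∈ C := by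
    intro g y hy
    obtain ⟨k, rfl⟩ := hCle y hy
    show g * c ^ k * g⁻¹ ∈ C
    rw [← conj_zpow]
    exact zpow_mem (hconj g) k
  -- an element of odd order centralises R
  have hodd : ∀ g : G ⧸ O, (orderOf g).Coprime 2 → g = 1 := by
    intro g hg
    have hCp : IsPGroup 2 C := (Cfsg.Agent.Fusion.isPGroup_pCore 2 (G ⧸ O)).to_le inf_le_left
    have hgC : ∀ y ∈ C, g * y = y * g := by
      by_cases hc1 : c = 1
      · intro y hy
        obtain ⟨k, rfl⟩ := hCle y hy
        simp [hc1]
      obtain ⟨s, hs⟩ := IsPGroup.iff_orderOf.1 hCp ⟨c, hcC⟩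
      rw [Subgroup.orderOf_mk] at hs
      obtain ⟨s, rfl⟩ : ∃ t, s = t + 1 := by
        rcases s with _ | t
        · exact absurd (orderOf_eq_one_iff.1 (by simpa using hs)) hc1
        · exact ⟨t, rfl⟩
      set x := c ^ 2 ^ s with hx
      have hx2 : orderOf x = 2 := by
        rw [hx, orderOf_pow_of_dvd (by positivity) (by rw [hs]; exact pow_dvd_pow 2 (Nat.le_succ s)), hs,
          pow_succ, Nat.mul_div_cancel_left _ (by positivity)]
      have hxC : x ∈ C := pow_mem hcC _
      refine Cfsg.Agent.Solv.centralizes_cyclic hCp inferInstance ?_ hg hxC (fun e => by simp [e] at hx2) ?_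
      · rw [Subgroup.mem_normalizer_iff]
        refine fun y => ⟨hnorm g y, fun hy => ?_⟩
        simpa [mul_assoc] using hnorm g⁻¹ _ hy
      · have hy : g * x * g⁻¹ ∈ C := hnorm g x hxC
        have hy2 : orderOf (g * x * g⁻¹) = 2 :=
          (orderOf_injective (MulAut.conj g).toMonoidHom (MulAut.conj g).injective x).trans hx2
        -- a cyclic group has one involution
        obtain ⟨k, hk⟩ := hCle _ hy
        have hk : c ^ k = g * x * g⁻¹ := hk
        have hdiv : ((2 : ℤ) ^ (s + 1)) ∣ k * 2 := by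
          have h1 : c ^ (k * 2) = 1 := by
            rw [zpow_mul, hk]; exact_mod_cast (hy2 ▸ pow_orderOf_eq_one (g * x * g⁻¹))
          have := orderOf_dvd_iff_zpow_eq_one.2 h1
          rw [hs] at this
          exact_mod_cast this
        obtain ⟨j, hj⟩ := hdiv
        have hkj : k = 2 ^ s * j := by rw [pow_succ] at hj; linarith
        have e1 : g * x * g⁻¹ = x ^ j := by
          rw [← hk, hkj, zpow_mul, hx]
          norm_cast
        rcases Int.even_or_odd j with ⟨i, hi⟩ | ⟨i, hi⟩
        · rw [hi, ← two_mul, zpow_mul, show x ^ (2 : ℤ) = 1 by exact_mod_cast (hx2 ▸ pow_orderOf_eq_one x), one_zpow] at e1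
          rw [e1, orderOf_one] at hy2
          omega
        · rw [hi, zpow_add, zpow_mul, show x ^ (2 : ℤ) = 1 by exact_mod_cast (hx2 ▸ pow_orderOf_eq_one x), one_zpow, one_mul, zpow_one] at e1
          exact mul_inv_eq_iff_eq_mul.1 e1
    have hgR : g ∈ R := by
      apply hCR
      rw [Subgroup.mem_centralizer_iff]
      intro y hy
      by_cases hyC : y ∈ C
      · exact (hgC y hyC).symm
      · have hy' : g * y * g⁻¹ ∈ R := hRn.conj_mem y hy g
        -- both lie outside the cyclic part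
        have hd : y⁻¹ * (g * y * g⁻¹) ∈ C := by
          refine ⟨R.mul_mem (R.inv_mem hy) hy', ?_⟩
          obtain ⟨q, hq⟩ := hRT hy
          obtain ⟨q', hq'⟩ := hRT hy'
          rcases q with i | i
          · exact absurd ⟨hy, hq ▸ hAmem i⟩ hyC
          rcases q' with j | j
          · refine absurd ?_ hyC
            have := hnorm g⁻¹ (g * y * g⁻¹) ⟨hy', hq' ▸ hAmem j⟩
            simpa [mul_assoc] using this
          rw [← hq', ← hq, ← map_inv, ← map_mul]
          rw [show (QuaternionGroup.xa i)⁻¹ = (QuaternionGroup.xa ((2 ^ n : ℕ) + i) : QuaternionGroup (2 ^ n)) from rfl,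
            QuaternionGroup.xa_mul_xa]
          exact hAmem _
        set z := y⁻¹ * (g * y * g⁻¹) with hz
        have hstep : ∀ k : ℕ, g ^ k * y * (g ^ k)⁻¹ = y * z ^ k := by
          intro k
          induction k with
          | zero => simp
          | succ k ih =>
            have hgz : g * z ^ k = z ^ k * g := (Commute.pow_right (hgC z hd) k).eq
            calc g ^ (k + 1) * y * (g ^ (k + 1))⁻¹ = g * (g ^ k * y * (g ^ k)⁻¹) * g⁻¹ := by
                  rw [pow_succ']; group
              _ = g * y * (z ^ k * g⁻¹) := by rw [ih]; group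
              _ = g * y * (g⁻¹ * z ^ k) := by
                  rw [(Commute.inv_left (show Commute g (z ^ k) from hgz)).eq]
              _ = y * z * z ^ k := by rw [hz]; group
              _ = y * z ^ (k + 1) := by rw [pow_succ', mul_assoc]
        have h1 := hstep (orderOf g)
        rw [pow_orderOf_eq_one, one_mul, inv_one, mul_one, left_eq_mul, ← orderOf_dvd_iff_pow_eq_one] at h1
        obtain ⟨s, hs⟩ := IsPGroup.iff_orderOf.1 hCp ⟨z, hd⟩
        rw [Subgroup.orderOf_mk] at hs
        have hz1 : z = 1 := by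
          rcases s with _ | s
          · simpa using hs
          · exact absurd (Nat.eq_one_of_dvd_coprimes hg ((dvd_pow_self 2 s.succ_ne_zero).trans (hs ▸ h1)) dvd_rfl) (by norm_num)
        rw [hz, inv_mul_eq_one, eq_mul_inv_iff_mul_eq] at hz1
        exact hz1
    obtain ⟨s, hs⟩ := IsPGroup.iff_orderOf.1 (Cfsg.Agent.Fusion.isPGroup_pCore 2 (G ⧸ O)) ⟨g, hgR⟩
    rw [Subgroup.orderOf_mk] at hs
    rcases s with _ | s
    · simpa using hs
    · rw [hs] at hg
      exact absurd (Nat.eq_one_of_dvd_coprimes hg (dvd_pow_self 2 s.succ_ne_zero) dvd_rfl) (by norm_num)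
  have hp : IsPGroup 2 (G ⧸ O) := by
    intro g
    obtain ⟨a, m, hm, hord⟩ := Nat.exists_eq_two_pow_mul_odd (show orderOf g ≠ 0 from (orderOf_pos g).ne')
    refine ⟨a, hodd _ ?_⟩
    rw [orderOf_pow_of_dvd (by positivity) (hord ▸ dvd_mul_right _ _), hord, Nat.mul_div_cancel_left _ (by positivity)]
    exact Nat.coprime_two_right.2 hm
  refine ⟨T, O, hOn, ?_⟩
  obtain ⟨k, hk⟩ := IsPGroup.iff_card.1 T.isPGroup'
  have hcop : (Nat.card O).Coprime (Nat.card (T : Subgroup G)) := by
    rw [hk]; exact hOc.pow_right k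
  refine Subgroup.isComplement'_of_coprime ?_ hcop
  have hT'top : (T' : Subgroup (G ⧸ O)) = ⊤ := by
    refine eq_top_iff.2 ?_
    have := T'.is_maximal' (Q := ⊤) (hp.to_subgroup ⊤) le_top
    exact this.le
  have h1 : Nat.card (T : Subgroup G) = Nat.card (G ⧸ O) := by
    have h2 : Nat.card g₀.range = Nat.card (T : Subgroup G) := by
      rw [← Nat.card_congr (MonoidHom.ofInjective hg₀).toEquiv]
      exact Nat.card_congr e.symm.toEquiv
    rw [← h2, ← hT'r, hT'top, Subgroup.card_top]
  rw [h1, mul_comm]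
  exact (Subgroup.card_eq_card_quotient_mul_card_subgroup O).symm

end Cfsg.Agent.S3294
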