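import Cfsg.Statements.S3298
import Cfsg.Agent.Lib.Spor.Yamaki.Trivial
import Cfsg.Agent.Lib.Spor.Yamaki.WholeTop
import Cfsg.Agent.Lib.Spor.Yamaki.SevenWhole
import Cfsg.Agent.Lib.Lie.SymplecticSix.Points

set_option autoImplicit false
open Cfsg

namespace Cfsg.Agent.S3298

/-- Let G be a finite group with an involution α lying in the centre of some Sylow 2-subgroup of G, whose centralizer C_G(α) is isomorphic to the centralizer in the alternating group of degree 12 of a fixed-point-free involution (a product of six disjoint transpositions). Then G is isomorphic to the alternating group of degree 12 or 13, or to the symplectic group Sp₆(2), or G = O(G)·C_G(α) with O(G), the largest normal subgroup of odd order, abelian. -/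
theorem result {G : Type*} [Group G] [Finite G] (α : G) (hα : orderOf α = 2) (S : Sylow 2 G)
    (hαS : α ∈ (S : Subgroup G) ⊓ Subgroup.centralizer ((S : Subgroup G) : Set G))
    (hC : Nonempty (↥(Subgroup.centralizer ({α} : Set G)) ≃*
      ↥(alternatingGroup (Fin 12) ⊓ Subgroup.centralizer ({(Equiv.swap (0 : Fin 12) 1 * Equiv.swap (2 : Fin 12) 3 * Equiv.swap (4 : Fin 12) 5 * Equiv.swap (6 : Fin 12) 7 * Equiv.swap (8 : Fin 12) 9 * Equiv.swap (10 : Fin 12) 11)} : Set (Equiv.Perm (Fin 12))))))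
    : Nonempty (G ≃* ↥(alternatingGroup (Fin 12))) ∨ Nonempty (G ≃* ↥(alternatingGroup (Fin 13))) ∨
      (∃ (F : Type) (_ : Field F) (_ : Fintype F), Fintype.card F = 2 ∧ Nonempty (G ≃* Cfsg.PSp 3 F)) ∨
      (Cfsg.oddCore G ⊔ Subgroup.centralizer ({α} : Set G) = ⊤ ∧ IsMulCommutative ↥(Cfsg.oddCore G)) := by
  obtain ⟨D, hD⟩ := Cfsg.Agent.Spor.Yamaki.exists_ctx α hα S hαS hC
  subst hD
  rcases D.trichotomy with h | ⟨D', -, h7 | h27⟩
  · exact Or.inr (Or.inr (Or.inr (D.isolated_case h)))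
  · refine Or.inr (Or.inr (Or.inl ⟨ZMod 2, inferInstance, inferInstance, ZMod.card 2, ?_⟩))
    have hO : ∀ v : Fin 64, D'.O v ↔ v.val ∈ Cfsg.Agent.Spor.Yamaki.seven7 := fun v => by
      rw [h7 v, Cfsg.Agent.Spor.Yamaki.inMask, Cfsg.Agent.Spor.Yamaki.seven_mask, List.contains_iff_mem]
    obtain ⟨E, -⟩ := Cfsg.Agent.Spor.Yamaki.Pre7.normalise ⟨D', hO⟩
    obtain ⟨e⟩ := E.classification
    have hc := Cfsg.Agent.Lie.SymplecticSix.center_eq_bot (F := ZMod 2) (ZMod.card 2)
    exact ⟨e.trans ((QuotientGroup.quotientMulEquivOfEq hc).trans QuotientGroup.quotientBot).symm⟩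
  · have hO : ∀ v : Fin 64, D'.O v ↔ Cfsg.Agent.Spor.Yamaki.τn v.val = 3 := fun v => by
      rw [h27 v, Cfsg.Agent.Spor.Yamaki.inMask_27]
    rcases (⟨D', hO⟩ : Cfsg.Agent.Spor.Yamaki.Data27 G).classification with h | h
    · exact Or.inl h
    · exact Or.inr (Or.inl h)

end Cfsg.Agent.S3298
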