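import Cfsg.Statements.S3300
import Cfsg.Agent.Lib.Lead.ExtTransfer.Setup

set_option autoImplicit false
open Cfsg

namespace Cfsg.Agent.S3300

open Cfsg.Agent.Lead.ExtTransfer

/-- Let G be a finite group with no nontrivial 2-group quotient (O^2(G) = G), z an involution of G with H = C_G(z), and suppose E = O_2(H) is extraspecial with C_G(E) ≤ E and of order 2^(2n+1) with n ≥ 3. If H has a normal subgroup of index 2, then z is conjugate in G to an element of E other than z. -/
theorem result {G : Type*} [Group G] [Finite G] (hres : Cfsg.pResidual 2 G = ⊤) (z : G) (hz : orderOf z = 2)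
    (E : Subgroup G) (hE : E = (Cfsg.pCore 2 ↥(Subgroup.centralizer ({z} : Set G))).map (Subgroup.centralizer ({z} : Set G)).subtype)
    (hext : Cfsg.IsExtraspecial 2 ↥E) (hcent : Subgroup.centralizer (E : Set G) ≤ E) (n : ℕ) (hn : 3 ≤ n) (hcard : Nat.card ↥E = 2 ^ (2 * n + 1))
    (K : Subgroup G) (hKH : K ≤ Subgroup.centralizer ({z} : Set G))
    (hKn : ∀ h ∈ Subgroup.centralizer ({z} : Set G), K.map (MulAut.conj h).toMonoidHom = K)
    (hKi : K.relIndex (Subgroup.centralizer ({z} : Set G)) = 2) :
    ∃ g : G, g * z * g⁻¹ ∈ E ∧ g * z * g⁻¹ ≠ z := by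
  classical
  by_contra hcon
  push_neg at hcon
  set H := Subgroup.centralizer ({z} : Set G) with hH
  have S : Setting z E := ⟨hz, hE, hext, hcent⟩
  have D := S.data
  have hnormK : ∀ a ∈ H, ∀ k ∈ K, a * k * a⁻¹ ∈ K := fun a ha k hk => by
    rw [← hKn a ha]; exact ⟨k, hk, rfl⟩
  let KH : Subgroup H := K.subgroupOf H
  have hKH2 : KH.index = 2 := hKi
  set ψ : G → ZMod 2 := fun h => if h ∈ K then 0 else 1 with hψdef
  have hψ : ∀ a ∈ H, ∀ b ∈ H, ψ (a * b) = ψ a + ψ b := fun a ha b hb => by
    have hiff : a * b ∈ K ↔ (a ∈ K ↔ b ∈ K) :=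
      Subgroup.mul_mem_iff_of_index_two hKH2 (a := ⟨a, ha⟩) (b := ⟨b, hb⟩)
    by_cases h1 : a ∈ K <;> by_cases h2 : b ∈ K <;> simp only [hψdef, hiff, h1, h2, if_true,
      if_false, iff_self, iff_false, iff_true, not_true, add_zero, zero_add]
    exact (two_eq_zero 1).symm
  have hx : ∃ x ∈ H, x ∉ K := by
    by_contra hc
    push_neg at hc
    have : KH = ⊤ := by
      rw [eq_top_iff]; exact fun a _ => hc a a.2
    rw [this, Subgroup.index_top] at hKH2
    omega
  obtain ⟨x, hxH, hxK⟩ := hx
  have hcommψ : ∀ a ∈ H, ∀ b ∈ H, ψ (a * b * a⁻¹ * b⁻¹) = 0 := fun a ha b hb => by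
    rw [hψ _ (mul_mem (mul_mem ha hb) (inv_mem ha)) _ (inv_mem hb),
      hψ _ (mul_mem ha hb) _ (inv_mem ha), hψ _ ha _ hb]
    have e : ∀ c ∈ H, ψ c + ψ c⁻¹ = 0 := fun c hc => by
      rw [← hψ _ hc _ (inv_mem hc), mul_inv_cancel, hψdef]; simp
    linear_combination e a ha + e b hb
  have hE128 : 128 ≤ Nat.card E := by
    rw [hcard]
    calc 128 = 2 ^ 7 := by norm_num
      _ ≤ _ := Nat.pow_le_pow_right (by norm_num) (by omega)
  obtain ⟨V, hV, hVx⟩ := transfer_eq D ψ hψ (by
    intro g hgH hgz
    set C := MulAction.stabilizer ↥E (g : G ⧸ H) with hC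
    obtain ⟨k, hk⟩ := S.index_pow C
    set z' := g * z * g⁻¹ with hz'def
    have hz'z : z' ≠ z := fun h => hgH (by
      show g ∈ Subgroup.centralizer ({z} : Set G)
      rw [Subgroup.mem_centralizer_singleton_iff]
      calc g * z = g * z * g⁻¹ * g := by group
        _ = z * g := by rw [← hz'def, h])
    have hCcomm : ∀ e : E, e ∈ C ↔ z' * e = e * z' := fun e => by
      rw [hC, mem_stab_iff, hH, Subgroup.mem_centralizer_singleton_iff, hz'def]
      constructor
      · intro h
        calc g * z * g⁻¹ * e = g * (z * (g⁻¹ * e * g)) * g⁻¹ := by group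
          _ = g * ((g⁻¹ * e * g) * z) * g⁻¹ := by rw [h]
          _ = (e : G) * (g * z * g⁻¹) := by group
      · intro h
        calc g⁻¹ * e * g * z = g⁻¹ * ((e : G) * (g * z * g⁻¹)) * g := by group
          _ = g⁻¹ * (g * z * g⁻¹ * e) * g := by rw [h]
          _ = z * (g⁻¹ * e * g) := by group
    have hz'H : z' ∈ H := by
      have h1 : (⟨z, D.hzE⟩ : E) ∈ C := (mem_stab_iff H g _).2 hgz
      exact Subgroup.mem_centralizer_singleton_iff.2 ((hCcomm _).1 h1)
    have hk2 : 2 ≤ k := by
      by_contra hlt
      interval_cases k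
      · -- index one: `E` centralises `z'`
        rw [pow_zero, Subgroup.index_eq_one] at hk
        exact hgH (D.hfix g fun e he => (mem_stab_iff H g ⟨e, he⟩).1
          (show _ ∈ C by rw [hk]; exact Subgroup.mem_top _))
      · -- index two: `z'` lies in `E`
        rw [pow_one] at hk
        have hz'2 : z' * z' = 1 := by
          rw [hz'def, show g * z * g⁻¹ * (g * z * g⁻¹) = g * (z * z) * g⁻¹ by group, D.hz2]; group
        have hz'i : z'⁻¹ = z' := inv_eq_of_mul_eq_one_right hz'2
        let φ : E ≃* E :=
          { toFun := fun e => ⟨z' * e * z', by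
              have := D.hnorm z' hz'H e e.2; rwa [hz'i] at this⟩
            invFun := fun e => ⟨z' * e * z', by
              have := D.hnorm z' hz'H e e.2; rwa [hz'i] at this⟩
            left_inv := fun e => Subtype.ext (by
              show z' * (z' * e * z') * z' = e
              rw [show z' * (z' * (e : G) * z') * z' = (z' * z') * e * (z' * z') by group, hz'2,
                one_mul, mul_one])
            right_inv := fun e => Subtype.ext (by
              show z' * (z' * e * z') * z' = e
              rw [show z' * (z' * (e : G) * z') * z' = (z' * z') * e * (z' * z') by group, hz'2,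
                one_mul, mul_one])
            map_mul' := fun a b => Subtype.ext (by
              show z' * ((a : G) * b) * z' = z' * a * z' * (z' * b * z')
              rw [show z' * (a : G) * z' * (z' * b * z') = z' * a * (z' * z') * b * z' by group,
                hz'2, mul_one]; group) }
        have hφC : ∀ e ∈ C, φ e = e := fun e he => Subtype.ext (by
          show z' * e * z' = e
          rw [(hCcomm e).1 he, mul_assoc, hz'2, mul_one])
        obtain ⟨u, hu⟩ := Cfsg.Agent.Spor.inner_of_central hext φ (fun e => by
          by_cases he : e ∈ C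
          · rw [hφC e he, mul_inv_cancel]; exact one_mem _
          have hfe : φ e ∉ C := fun h => he (by
            have := hφC _ h
            rw [← φ.injective this]; exact h)
          set c := e⁻¹ * φ e with hc
          have hcC : c ∈ C := by
            rw [hc, Subgroup.mul_mem_iff_of_index_two hk, inv_mem_iff]
            exact iff_of_false he hfe
          have hfe2 : φ e = e * c := by simp [hc]
          have hinv : φ (φ e) = e := φ.left_inv e
          have hc2 : c * c = 1 := by
            rw [hfe2, map_mul, hfe2, hφC c hcC, mul_assoc] at hinv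
            exact mul_eq_left.1 hinv
          have hcCc : ∀ d ∈ C, c * d = d * c := fun d hd => by
            have hdn : e * d * e⁻¹ ∈ C := by
              haveI := Subgroup.normal_of_index_eq_two hk
              exact (inferInstance : C.Normal).conj_mem d hd e
            have h1 := hφC _ hdn
            rw [map_mul, map_mul, map_inv, hφC d hd, hfe2] at h1
            have h2 : c * d * c⁻¹ = d := by
              have := congrArg (fun t => e⁻¹ * t * e) h1
              simpa [mul_assoc] using this
            calc c * d = c * d * c⁻¹ * c := by group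
              _ = d * c := by rw [h2]
          have hesq : φ (e * e) = e * e := by
            refine hφC _ ?_
            rw [Subgroup.mul_mem_iff_of_index_two hk]
          have hec : c * e = e * c := by
            rw [map_mul, hfe2] at hesq
            have h3 : c * e * c = e := by
              have := congrArg (fun t => e⁻¹ * t) hesq
              simpa [mul_assoc] using this
            calc c * e = c * e * (c * c) := by rw [hc2, mul_one]
              _ = c * e * c * c := by group
              _ = e * c := by rw [h3]
          have hcz : c ∈ Subgroup.center E := Subgroup.mem_center_iff.2 fun y => by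
            by_cases hy : y ∈ C
            · exact (hcCc y hy).symm
            have hey : e⁻¹ * y ∈ C := by
              rw [Subgroup.mul_mem_iff_of_index_two hk, inv_mem_iff]
              exact iff_of_false he hy
            calc y * c = e * ((e⁻¹ * y) * c) := by group
              _ = e * (c * (e⁻¹ * y)) := by rw [hcCc _ hey]
              _ = (e * c) * (e⁻¹ * y) := by group
              _ = (c * e) * (e⁻¹ * y) := by rw [hec]
              _ = c * y := by group
          rw [hfe2, Subgroup.mem_center_iff.1 hcz e, mul_inv_cancel_right]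
          exact hcz)
        have hcen : (u : G)⁻¹ * z' ∈ Subgroup.centralizer (E : Set G) :=
          Subgroup.mem_centralizer_iff.2 fun e he => by
            have h1 : z' * e * z' = (u : G) * e * (u : G)⁻¹ := congrArg Subtype.val (hu ⟨e, he⟩)
            calc e * ((u : G)⁻¹ * z') = (u : G)⁻¹ * ((u : G) * e * (u : G)⁻¹) * z' := by group
              _ = (u : G)⁻¹ * (z' * e * z') * z' := by rw [h1]
              _ = (u : G)⁻¹ * z' * e * (z' * z') := by group
              _ = (u : G)⁻¹ * z' * e := by rw [hz'2, mul_one]
        have hz'E : z' ∈ E := by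
          have := mul_mem u.2 (hcent hcen)
          rwa [mul_inv_cancel_left] at this
        exact hz'z (hcon g hz'E)
    by_cases h3 : 3 ≤ k
    · left
      rw [hk]
      calc 8 = 2 ^ 3 := by norm_num
        _ ≤ _ := Nat.pow_le_pow_right (by norm_num) h3
    have hk4 : C.index = 4 := by rw [hk, show k = 2 by omega]; norm_num
    refine Or.inr (Or.inl ⟨hk4.ge, ?_⟩)
    obtain ⟨a, ha, b, hb, hab⟩ : ∃ a ∈ C, ∃ b ∈ C, a * b ≠ b * a := by
      by_contra hab
      push_neg at hab
      have := S.abelian_bound C hab 4 hk4
      norm_num at this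
      omega
    have h1 : (a : G) * b * (a : G)⁻¹ * (b : G)⁻¹ = z := (D.hcomm a a.2 b b.2).resolve_left
      fun h => hab (Subtype.ext (by
        show (a : G) * b = b * a
        calc (a : G) * b = (a : G) * b * (a : G)⁻¹ * (b : G)⁻¹ * (b * a) := by group
          _ = b * a := by rw [h, one_mul]))
    rw [← h1, show g⁻¹ * ((a : G) * b * (a : G)⁻¹ * (b : G)⁻¹) * g = (g⁻¹ * a * g) * (g⁻¹ * b * g) *
      (g⁻¹ * a * g)⁻¹ * (g⁻¹ * b * g)⁻¹ by group]
    exact hcommψ _ ((mem_stab_iff H g a).1 ha) _ ((mem_stab_iff H g b).1 hb))
  have h1 := hVx x hxH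
  rw [eq_zero_of_residual hres V hV x, hψdef] at h1
  simp [hxK] at h1

end Cfsg.Agent.S3300
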