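import Cfsg.Statements.S3301
import Cfsg.Agent.Lib.Lead.ExtTransfer.Setup

set_option autoImplicit false
set_option maxHeartbeats 1000000
open Cfsg

namespace Cfsg.Agent.S3301

open Cfsg.Agent.Lead.ExtTransfer

/-- The smallest case: in the abelianisation, squares of two-elements of the centralizer vanish. -/
theorem sq_eight {G : Type*} [Group G] [Finite G] {z : G} {E : Subgroup G} (S : Setting z E)
    (hE8 : Nat.card E = 8) {H : Subgroup G} (hH : H = Subgroup.centralizer ({z} : Set G))
    (x : H) (k : ℕ) (hx : x ^ (2 ^ k) = 1) : Abelianization.of x * Abelianization.of x = 1 := by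
  classical
  have D := S.data
  rw [← hH] at D
  haveI : Fact (Nat.Prime 2) := ⟨Nat.prime_two⟩
  let A : H →* MulAut E :=
    { toFun := fun h =>
        { toFun := fun e => ⟨h * e * (h : G)⁻¹, D.hnorm h h.2 e e.2⟩
          invFun := fun e => ⟨(h : G)⁻¹ * e * h, by
            have := D.hnorm _ (inv_mem h.2) e e.2; rwa [inv_inv] at this⟩
          left_inv := fun e => Subtype.ext (by show (h : G)⁻¹ * (h * e * (h : G)⁻¹) * h = e; group)
          right_inv := fun e => Subtype.ext (by show (h : G) * ((h : G)⁻¹ * e * h) * (h : G)⁻¹ = e; group)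
          map_mul' := fun a b => Subtype.ext (by
            show (h : G) * ((a : G) * b) * (h : G)⁻¹ = h * a * (h : G)⁻¹ * (h * b * (h : G)⁻¹)
            group) }
      map_one' := by ext e; simp
      map_mul' := fun a b => by
        ext e
        show ((a * b : H) : G) * e * ((a * b : H) : G)⁻¹ = _
        show _ = (a : G) * ((b : G) * e * (b : G)⁻¹) * (a : G)⁻¹
        rw [Subgroup.coe_mul]; group }
  have hinner : ∀ y : H, (∀ e : E, (A y e) * e⁻¹ ∈ Subgroup.center E) → (y : G) ∈ E := by
    intro y hy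
    obtain ⟨u, hu⟩ := Cfsg.Agent.Spor.inner_of_central S.hext (A y) hy
    have hcen : (u : G)⁻¹ * y ∈ Subgroup.centralizer (E : Set G) :=
      Subgroup.mem_centralizer_iff.2 fun e he => by
        have h1 : (y : G) * e * (y : G)⁻¹ = (u : G) * e * (u : G)⁻¹ :=
          congrArg Subtype.val (hu ⟨e, he⟩)
        calc e * ((u : G)⁻¹ * y) = (u : G)⁻¹ * ((u : G) * e * (u : G)⁻¹) * y := by group
          _ = (u : G)⁻¹ * ((y : G) * e * (y : G)⁻¹) * y := by rw [h1]
          _ = (u : G)⁻¹ * y * e := by group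
    have := mul_mem u.2 (S.hcent hcen)
    rwa [mul_inv_cancel_left] at this
  -- the action on the four group `E/Z`
  set W := E ⧸ Subgroup.center E
  haveI : Fintype W := Fintype.ofFinite _
  have hW4 : Fintype.card W = 4 := by
    have := Subgroup.card_eq_card_quotient_mul_card_subgroup (Subgroup.center E)
    rw [hE8, S.hext.2, Nat.card_eq_fintype_card] at this
    show Fintype.card (E ⧸ Subgroup.center E) = 4
    omega
  let σ : W →* W := QuotientGroup.lift (Subgroup.center E)
    ((QuotientGroup.mk' (Subgroup.center E)).comp (A x).toMonoidHom) (fun c hc => by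
      rw [MonoidHom.mem_ker]
      show ((A x c : E) : W) = 1
      rw [QuotientGroup.eq_one_iff, Subgroup.mem_center_iff]
      intro y
      obtain ⟨y', rfl⟩ := (A x).surjective y
      rw [← map_mul, ← map_mul, Subgroup.mem_center_iff.1 hc y'])
  have hσmk : ∀ e : E, σ (e : W) = ((A x e : E) : W) := fun e => rfl
  have hiter : ∀ (j : ℕ) (e : E), σ^[j] (e : W) = ((A (x ^ j) e : E) : W) := by
    intro j
    induction j with
    | zero => intro e; simp
    | succ j ih =>
      intro e
      rw [Function.iterate_succ_apply', ih, hσmk, pow_succ' x, map_mul]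
      rfl
  have hsurj : ∀ w : W, ∃ e : E, (e : W) = w := Quotient.exists_rep
  let σ3 : Equiv.Perm {w : W // w ≠ 1} :=
    { toFun := fun w => ⟨σ w, fun h => w.2 (by
        obtain ⟨e, he⟩ := hsurj w
        rw [← he, hσmk, QuotientGroup.eq_one_iff] at h
        rw [← he, QuotientGroup.eq_one_iff, Subgroup.mem_center_iff]
        intro y
        apply (A x).injective
        rw [map_mul, map_mul, Subgroup.mem_center_iff.1 h (A x y)])⟩
      invFun := fun w => ⟨σ^[2 ^ k - 1] w, fun h => w.2 (by
        obtain ⟨e, he⟩ := hsurj w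
        have h2 : σ^[2 ^ k] (w : W) = w := by
          rw [← he, hiter, hx, map_one]; rfl
        rw [← h2, show 2 ^ k = 2 ^ k - 1 + 1 from (Nat.succ_pred_eq_of_pos (by positivity)).symm,
          Function.iterate_succ_apply', h, map_one])⟩
      left_inv := fun w => Subtype.ext (by
        obtain ⟨e, he⟩ := hsurj w
        show σ^[2 ^ k - 1] (σ w) = w
        rw [← Function.iterate_succ_apply (⇑σ), Nat.succ_eq_add_one,
          Nat.sub_add_cancel Nat.one_le_two_pow, ← he, hiter, hx, map_one]; rfl)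
      right_inv := fun w => Subtype.ext (by
        obtain ⟨e, he⟩ := hsurj w
        show σ (σ^[2 ^ k - 1] w) = w
        rw [← Function.iterate_succ_apply' (⇑σ), Nat.succ_eq_add_one,
          Nat.sub_add_cancel Nat.one_le_two_pow, ← he, hiter, hx, map_one]; rfl) }
  have hσ3 : ∀ (j : ℕ) (w : {w : W // w ≠ 1}), (((σ3 ^ j) w : {w : W // w ≠ 1}) : W) = σ^[j] w := by
    intro j
    induction j with
    | zero => intro w; rfl
    | succ j ih =>
      intro w
      rw [pow_succ', Equiv.Perm.mul_apply, Function.iterate_succ_apply', ← ih]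
      rfl
  have hord : orderOf σ3 ∣ 2 := by
    have h1 : σ3 ^ (2 ^ k) = 1 := Equiv.ext fun w => Subtype.ext (by
      obtain ⟨e, he⟩ := hsurj w
      rw [hσ3, ← he, hiter, hx, map_one]
      exact he)
    have h2 : orderOf σ3 ∣ 6 := by
      have := orderOf_dvd_natCard σ3
      rwa [Nat.card_perm, Nat.card_eq_fintype_card, Fintype.card_subtype_compl,
        Fintype.card_subtype_eq, hW4] at this
    obtain ⟨j, -, hj⟩ := (Nat.dvd_prime_pow Nat.prime_two).1 (orderOf_dvd_of_pow_eq_one h1)
    rw [hj] at h2 ⊢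
    rcases j with _ | _ | j
    · norm_num
    · norm_num
    · exfalso
      have h4 : 4 ∣ 6 := dvd_trans ⟨2 ^ j, by ring⟩ h2
      omega
  have hinvol : ∀ w : W, σ (σ w) = w := by
    intro w
    by_cases hw : w = 1
    · rw [hw, map_one, map_one]
    · have h2 := hσ3 2 ⟨w, hw⟩
      rw [orderOf_dvd_iff_pow_eq_one.1 hord] at h2
      exact h2.symm
  have hx2 : ((x * x : H) : G) ∈ E := hinner (x * x) fun e => by
    have h := hinvol (e : W)
    rw [hσmk, hσmk, QuotientGroup.eq] at h
    rw [map_mul, MulAut.mul_apply]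
    have h' := Subgroup.mem_center_iff.1 (inv_mem h) e
    simp only [mul_inv_rev, inv_inv] at h'
    have e1 : A x (A x e) * e⁻¹ = e⁻¹ * A x (A x e) := by
      have := congrArg (fun t => e⁻¹ * t * e⁻¹) h'
      simpa [mul_assoc] using this
    rw [e1]
    have hh := inv_mem h
    simpa using hh
  set e : E := ⟨_, hx2⟩ with he
  -- the kernel of the abelianisation contains `z`
  have hzH : z ∈ H := D.hEH D.hzE
  have hof : ∀ a b : H, Abelianization.of (a * b * a⁻¹ * b⁻¹) = 1 := fun a b => by
    simp only [map_mul, map_inv]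
    rw [mul_comm (Abelianization.of a), mul_inv_cancel_right, mul_inv_cancel]
  have hzab : Abelianization.of (⟨z, hzH⟩ : H) = 1 := by
    obtain ⟨a, b, hab⟩ : ∃ a b : E, a * b ≠ b * a := by
      by_contra hc
      push_neg at hc
      have : Subgroup.center E = ⊤ := eq_top_iff.2 fun a _ => Subgroup.mem_center_iff.2 fun b => hc b a
      have h2 := S.hext.2
      rw [this, Subgroup.card_top, hE8] at h2
      omega
    have h1 : (a : G) * b * (a : G)⁻¹ * (b : G)⁻¹ = z := (D.hcomm a a.2 b b.2).resolve_left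
      fun h => hab (Subtype.ext (by
        show (a : G) * b = b * a
        calc (a : G) * b = (a : G) * b * (a : G)⁻¹ * (b : G)⁻¹ * (b * a) := by group
          _ = b * a := by rw [h, one_mul]))
    rw [← hof ⟨a, D.hEH a.2⟩ ⟨b, D.hEH b.2⟩]
    congr 1
    exact Subtype.ext h1.symm
  have hcase : ∀ c : E, c ∈ Subgroup.center E →
      Abelianization.of (⟨c, D.hEH c.2⟩ : H) = 1 := fun c hc => by
    rcases S.center c hc with h | h
    · rw [show (⟨(c : G), D.hEH c.2⟩ : H) = 1 from Subtype.ext h, map_one]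
    · rw [show (⟨(c : G), D.hEH c.2⟩ : H) = ⟨z, hzH⟩ from Subtype.ext h, hzab]
  rw [← map_mul, show x * x = ⟨(e : G), D.hEH e.2⟩ from rfl]
  by_cases heZ : e ∈ Subgroup.center E
  · exact hcase e heZ
  obtain ⟨f, hf⟩ : ∃ f : E, σ (f : W) ≠ (f : W) := by
    by_contra hall
    push_neg at hall
    refine heZ ?_
    have hxE : (x : G) ∈ E := hinner x fun d => by
      have h := hall d
      rw [hσmk, QuotientGroup.eq] at h
      have h1 := Subgroup.mem_center_iff.1 h d
      have h2 : (A x d)⁻¹ * d = d * (A x d)⁻¹ := by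
        have := congrArg (fun t => t * d⁻¹) h1
        simpa [mul_assoc] using this.symm
      rw [h2] at h
      simpa using inv_mem h
    have := Cfsg.Agent.Solv.extraspecial_pow_mem_center S.hext (⟨(x : G), hxE⟩ : E)
    rw [pow_two] at this
    rwa [show e = ⟨(x : G), hxE⟩ * ⟨(x : G), hxE⟩ from Subtype.ext rfl]
  have hsq : ∀ w : W, w * w = 1 := fun w => by
    obtain ⟨d, rfl⟩ := hsurj w
    rw [← QuotientGroup.mk_mul, QuotientGroup.eq_one_iff]
    have := Cfsg.Agent.Solv.extraspecial_pow_mem_center S.hext d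
    rwa [pow_two] at this
  set w0 : W := (e : W) with hw0
  set w1 : W := (f : W) with hw1
  set w2 : W := σ w1 with hw2
  set d := w1 * w2 with hd
  have n0 : w0 ≠ 1 := fun h => heZ ((QuotientGroup.eq_one_iff e).1 h)
  have n1 : w1 ≠ 1 := fun h => hf (by rw [hw2, h, map_one])
  have n2 : w2 ≠ 1 := fun h => n1 (by
    have := hinvol w1
    rw [← hw2, h, map_one] at this
    exact this.symm)
  have n12 : w1 ≠ w2 := fun h => hf h.symm
  have fix0 : σ w0 = w0 := by
    rw [hw0, hσmk]
    congr 1
    apply Subtype.ext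
    show (x : G) * ((x * x : H) : G) * (x : G)⁻¹ = ((x * x : H) : G)
    rw [Subgroup.coe_mul]; group
  have n01 : w0 ≠ w1 := fun h => hf (by rw [hw2, ← h, fix0])
  have n02 : w0 ≠ w2 := fun h => n12 (by
    have := congrArg σ h
    rw [fix0, hw2, hinvol] at this
    exact this.symm.trans h)
  have huniv : ({1, w0, w1, w2} : Finset W) = Finset.univ := by
    apply Finset.eq_univ_of_card
    rw [hW4, Finset.card_insert_of_notMem (by simp [n0.symm, n1.symm, n2.symm]),
      Finset.card_insert_of_notMem (by simp [n01, n02]), Finset.card_pair n12]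
  have hdm : d ∈ ({1, w0, w1, w2} : Finset W) := huniv ▸ Finset.mem_univ d
  simp only [Finset.mem_insert, Finset.mem_singleton] at hdm
  have hd0 : d = w0 := by
    rcases hdm with h | h | h | h
    · exact absurd (mul_left_cancel ((hsq w1).trans h.symm)) n12
    · exact h
    · exact absurd (mul_eq_left.1 h) n2
    · exact absurd (mul_eq_right.1 h) n1
  rw [hd, hw2, hw1, hσmk, ← QuotientGroup.mk_mul, hw0, QuotientGroup.eq] at hd0
  have h3 := hcase _ hd0
  have h4 : Abelianization.of (⟨((f * A x f : E) : G), D.hEH (f * A x f).2⟩ : H) = 1 := by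
    have : (⟨((f * A x f : E) : G), D.hEH (f * A x f).2⟩ : H) =
        (⟨f, D.hEH f.2⟩ * ⟨f, D.hEH f.2⟩) *
          (⟨f, D.hEH f.2⟩⁻¹ * x * ⟨f, D.hEH f.2⟩ * x⁻¹) := Subtype.ext (by
      show (f : G) * (x * f * (x : G)⁻¹) = f * f * ((f : G)⁻¹ * x * f * (x : G)⁻¹)
      group)
    have hff : (f * f : E) ∈ Subgroup.center E := by
      have := Cfsg.Agent.Solv.extraspecial_pow_mem_center S.hext f
      rwa [pow_two] at this
    rw [this, map_mul, show (⟨f, D.hEH f.2⟩ * ⟨f, D.hEH f.2⟩ : H) =
      ⟨((f * f : E) : G), D.hEH (f * f).2⟩ from rfl, hcase _ hff, one_mul]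
    simp only [map_mul, map_inv]
    rw [mul_comm ((Abelianization.of (⟨f, D.hEH f.2⟩ : H))⁻¹) (Abelianization.of x)]
    group
  have h5 : (⟨(e : G), D.hEH e.2⟩ : H) = ⟨((f * A x f : E) : G), D.hEH (f * A x f).2⟩ *
      ⟨(((f * A x f)⁻¹ * e : E) : G), D.hEH ((f * A x f)⁻¹ * e).2⟩ := Subtype.ext (by
    show (e : G) = ((f * A x f : E) : G) * (((f * A x f : E) : G)⁻¹ * e)
    group)
  rw [h5, map_mul, h4, h3, one_mul]


/-- A finite abelian group with an element of order at least four has a character of order two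
killing all involutions. -/
theorem exists_char {A : Type*} [CommGroup A] [Finite A] (q : A) (k : ℕ) (hk : orderOf q = 2 ^ k)
    (hq : q * q ≠ 1) : ∃ f : A → ZMod 2, (∀ a b, f (a * b) = f a + f b) ∧
      (∀ a, a * a = 1 → f a = 0) ∧ ∃ a, f a = 1 := by
  classical
  haveI : Fact (Nat.Prime 2) := ⟨Nat.prime_two⟩
  set sqH : A →* A := powMonoidHom 2 with hsqH
  set T := sqH.range ⊔ sqH.ker with hT
  have hTne : T ≠ ⊤ := by
    intro htop
    have hinj : ∀ a ∈ sqH.range, ∃ b ∈ sqH.range, sqH b = a := by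
      rintro a ⟨w, rfl⟩
      obtain ⟨b, hb, c, hc, rfl⟩ := Subgroup.mem_sup.1 (htop ▸ Subgroup.mem_top w : w ∈ T)
      exact ⟨b, hb, by rw [map_mul, MonoidHom.mem_ker.1 hc, mul_one]⟩
    have hbij : Function.Injective (fun a : sqH.range => (⟨sqH a, ⟨a, rfl⟩⟩ : sqH.range)) := by
      rw [Finite.injective_iff_surjective]
      intro a
      obtain ⟨b, hb, hba⟩ := hinj a a.2
      exact ⟨⟨b, hb⟩, Subtype.ext hba⟩
    have hmem : q * q ∈ sqH.range := ⟨q, pow_two q⟩
    have hpow : (q * q) ^ (2 ^ k) = 1 := by rw [mul_pow, ← hk, pow_orderOf_eq_one, mul_one]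
    have hzero : ∀ j : ℕ, ∀ a ∈ sqH.range, a ^ (2 ^ j) = 1 → a = 1 := by
      intro j
      induction j with
      | zero => intro a _ ha; simpa using ha
      | succ j ih =>
        intro a ha h
        have h' : (sqH a) ^ (2 ^ j) = 1 := by
          rw [hsqH, powMonoidHom_apply, ← pow_mul, ← pow_succ']; exact h
        have h1 := ih _ ⟨a, rfl⟩ h'
        have h2 := @hbij ⟨a, ha⟩ ⟨1, one_mem _⟩ (Subtype.ext (by
          show sqH a = sqH 1
          rw [h1, map_one]))
        exact congrArg Subtype.val h2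
    exact hq (hzero k _ hmem hpow)
  have hidx : 1 < Nat.card (A ⧸ T) := by
    rw [← Subgroup.index]; exact Subgroup.one_lt_index_of_ne_top hTne
  have hW : IsPGroup 2 (A ⧸ T) := fun a => ⟨1, by
    obtain ⟨w, rfl⟩ := QuotientGroup.mk_surjective a
    rw [pow_one, ← QuotientGroup.mk_pow, QuotientGroup.eq_one_iff]
    exact Subgroup.mem_sup_left ⟨w, rfl⟩⟩
  obtain ⟨d, hd⟩ := IsPGroup.iff_card.1 hW
  have hd0 : d ≠ 0 := fun h => by rw [hd, h, pow_zero] at hidx; omega
  obtain ⟨K, hK⟩ := Sylow.exists_subgroup_card_pow_prime 2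
    (show 2 ^ (d - 1) ∣ Nat.card (A ⧸ T) by rw [hd]; exact pow_dvd_pow 2 (Nat.sub_le d 1))
  have hKi : K.index = 2 := by
    have h1 := Subgroup.card_mul_index K
    rw [hK, hd, show d = d - 1 + 1 by omega, pow_succ] at h1
    simpa using h1
  refine ⟨fun a => if (a : A ⧸ T) ∈ K then 0 else 1, fun a b => ?_, fun a ha => ?_, ?_⟩
  · show (if ((a * b : A) : A ⧸ T) ∈ K then (0 : ZMod 2) else 1) = _
    rw [QuotientGroup.mk_mul]
    have hiff := Subgroup.mul_mem_iff_of_index_two hKi (a := (a : A ⧸ T)) (b := (b : A ⧸ T))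
    by_cases h1 : (a : A ⧸ T) ∈ K <;> by_cases h2 : (b : A ⧸ T) ∈ K <;> simp only [hiff, h1, h2,
      if_true, if_false, iff_self, iff_false, iff_true, not_true, add_zero, zero_add]
    exact (two_eq_zero 1).symm
  · show (if (a : A ⧸ T) ∈ K then (0 : ZMod 2) else 1) = 0
    rw [if_pos]
    rw [(QuotientGroup.eq_one_iff a).2 (Subgroup.mem_sup_right (MonoidHom.mem_ker.2
      (show sqH a = 1 by rw [hsqH, powMonoidHom_apply, pow_two]; exact ha)))]
    exact one_mem K
  · by_contra hc
    push_neg at hc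
    have htop : K = ⊤ := eq_top_iff.2 fun w _ => by
      obtain ⟨a, rfl⟩ := QuotientGroup.mk_surjective w
      by_contra h
      exact hc a (if_neg h)
    rw [htop, Subgroup.index_top] at hKi
    omega

/-- Let G be a finite group with no nontrivial 2-group quotient (O^2(G) = G), z an involution of G with H = C_G(z), and suppose E = O_2(H) is extraspecial with C_G(E) ≤ E. Then the Sylow 2-subgroups of H/[H, H] are elementary abelian: every element of 2-power order of the abelianization of H has order at most 2. -/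
theorem result {G : Type*} [Group G] [Finite G] (hres : Cfsg.pResidual 2 G = ⊤) (z : G) (hz : orderOf z = 2)
    (E : Subgroup G) (hE : E = (Cfsg.pCore 2 ↥(Subgroup.centralizer ({z} : Set G))).map (Subgroup.centralizer ({z} : Set G)).subtype)
    (hext : Cfsg.IsExtraspecial 2 ↥E) (hcent : Subgroup.centralizer (E : Set G) ≤ E) :
    ∀ q : Abelianization ↥(Subgroup.centralizer ({z} : Set G)), (∃ k : ℕ, orderOf q = 2 ^ k) → q ^ 2 = 1 := by
  classical
  set H := Subgroup.centralizer ({z} : Set G) with hH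
  intro q ⟨k, hk⟩
  have S : Setting z E := ⟨hz, hE, hext, hcent⟩
  have D := S.data
  haveI : Fact (Nat.Prime 2) := ⟨Nat.prime_two⟩
  rw [pow_two]
  by_cases hE8 : Nat.card E ≤ 8
  · have h8 : Nat.card E = 8 := by
      obtain ⟨j, hj⟩ := IsPGroup.iff_card.1 hext.1.1
      have hlt : 4 < Nat.card E := by
        by_contra hle
        push_neg at hle
        have hcen : Subgroup.center E = ⊤ := by
          have hc := Subgroup.card_eq_card_quotient_mul_card_subgroup (Subgroup.center E)
          rw [hext.2] at hc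
          haveI : IsCyclic (E ⧸ Subgroup.center E) := by
            have hq : Nat.card (E ⧸ Subgroup.center E) ≤ 2 := by omega
            have hp : 0 < Nat.card (E ⧸ Subgroup.center E) := Nat.card_pos
            interval_cases h : Nat.card (E ⧸ Subgroup.center E)
            · haveI := (Nat.card_eq_one_iff_unique.1 h).1
              exact isCyclic_of_subsingleton
            · exact isCyclic_of_prime_card h
          exact eq_top_iff.2 fun a _ => Subgroup.mem_center_iff.2 fun b =>
            commutative_of_cyclic_center_quotient (QuotientGroup.mk' (Subgroup.center E))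
              (by simp) b a
        have h1 := hext.1.2.2
        have h2 := hext.2
        rw [hcen] at h1
        have hbot : commutator E = ⊥ := by
          rw [commutator_def, eq_bot_iff, Subgroup.commutator_le]
          intro a _ b _
          rw [Subgroup.mem_bot, commutatorElement_eq_one_iff_mul_comm]
          exact (Subgroup.mem_center_iff.1 (hcen ▸ Subgroup.mem_top a) b).symm
        rw [hcen, ← h1, hbot, Subgroup.card_bot] at h2
        omega
      rw [hj] at hlt hE8 ⊢
      have hj3 : j = 3 := by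
        rcases Nat.lt_trichotomy j 3 with h | h | h
        · have : 2 ^ j ≤ 2 ^ 2 := Nat.pow_le_pow_right (by norm_num) (by omega)
          omega
        · exact h
        · have : 2 ^ 4 ≤ 2 ^ j := Nat.pow_le_pow_right (by norm_num) (by omega)
          omega
      rw [hj3]; norm_num
    obtain ⟨x, rfl⟩ : ∃ x, Abelianization.of x = q := QuotientGroup.mk'_surjective _ q
    -- pass to the two-part of `x`
    set o := orderOf x
    set m := o / 2 ^ o.factorization 2 with hm
    have hm' : ¬ 2 ∣ m := Nat.not_dvd_ordCompl Nat.prime_two (orderOf_pos x).ne'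
    have hxm : (x ^ m) ^ (2 ^ o.factorization 2) = 1 := by
      rw [← pow_mul, hm, mul_comm, Nat.ordProj_mul_ordCompl_eq_self, pow_orderOf_eq_one]
    have h := sq_eight S h8 hH (x ^ m) _ hxm
    set q' := Abelianization.of x with hq'
    rw [map_pow, ← mul_pow] at h
    have h2 : (q' * q') ^ (2 ^ k) = 1 := by
      rw [mul_pow, ← hk]; simp [pow_orderOf_eq_one]
    rw [← orderOf_eq_one_iff]
    exact Nat.eq_one_of_dvd_coprimes (((Nat.prime_two.coprime_iff_not_dvd.2 hm').pow_left k))
      (orderOf_dvd_of_pow_eq_one h2) (orderOf_dvd_of_pow_eq_one h)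
  push_neg at hE8
  by_contra hq
  obtain ⟨f, hf, hfk, a0, ha0⟩ := exists_char q k hk hq
  set ψ : G → ZMod 2 := fun h => if hh : h ∈ H then f (Abelianization.of ⟨h, hh⟩) else 0
    with hψdef
  have hψ : ∀ a ∈ H, ∀ b ∈ H, ψ (a * b) = ψ a + ψ b := fun a ha b hb => by
    simp only [hψdef, dif_pos ha, dif_pos hb, dif_pos (mul_mem ha hb)]
    rw [← hf, ← map_mul]
    rfl
  have hkill : ∀ (h : G) (hh : h ∈ H),
      Abelianization.of (⟨h, hh⟩ : H) * Abelianization.of ⟨h, hh⟩ = 1 → ψ h = 0 := by
    intro h hh h2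
    simp only [hψdef, dif_pos hh]
    exact hfk _ h2
  obtain ⟨V, hV, hVx⟩ := transfer_eq D ψ hψ (by
    intro g hgH hgz
    set C := MulAction.stabilizer ↥E (g : G ⧸ H) with hC
    obtain ⟨j, hj⟩ := S.index_pow C
    have hlz : ψ (g⁻¹ * z * g) = 0 := hkill _ hgz (by
      rw [← map_mul, ← map_one (Abelianization.of (G := H))]
      congr 1
      apply Subtype.ext
      show g⁻¹ * z * g * (g⁻¹ * z * g) = 1
      rw [show g⁻¹ * z * g * (g⁻¹ * z * g) = g⁻¹ * (z * z) * g by group, D.hz2]; group)
    by_cases h2 : 2 ≤ j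
    · exact Or.inr (Or.inl ⟨by
        rw [hj]
        calc 4 = 2 ^ 2 := by norm_num
          _ ≤ _ := Nat.pow_le_pow_right (by norm_num) h2, hlz⟩)
    refine Or.inr (Or.inr fun e he hge => hkill _ hge ?_)
    obtain ⟨a, ha, b, hb, hab⟩ : ∃ a ∈ C, ∃ b ∈ C, a * b ≠ b * a := by
      by_contra hab
      push_neg at hab
      have := S.abelian_bound C hab _ hj
      interval_cases j <;> norm_num at this <;> omega
    have h1 : (a : G) * b * (a : G)⁻¹ * (b : G)⁻¹ = z := (D.hcomm a a.2 b b.2).resolve_left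
      fun h => hab (Subtype.ext (by
        show (a : G) * b = b * a
        calc (a : G) * b = (a : G) * b * (a : G)⁻¹ * (b : G)⁻¹ * (b * a) := by group
          _ = b * a := by rw [h, one_mul]))
    have hzab : Abelianization.of (⟨g⁻¹ * z * g, hgz⟩ : H) = 1 := by
      have : (⟨g⁻¹ * z * g, hgz⟩ : H) = ⟨g⁻¹ * a * g, (mem_stab_iff H g a).1 ha⟩ *
          ⟨g⁻¹ * b * g, (mem_stab_iff H g b).1 hb⟩ *
          (⟨g⁻¹ * a * g, (mem_stab_iff H g a).1 ha⟩ : H)⁻¹ *
          (⟨g⁻¹ * b * g, (mem_stab_iff H g b).1 hb⟩ : H)⁻¹ := Subtype.ext (by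
        show g⁻¹ * z * g = g⁻¹ * a * g * (g⁻¹ * b * g) * (g⁻¹ * a * g)⁻¹ * (g⁻¹ * b * g)⁻¹
        rw [← h1]; group)
      rw [this]
      simp only [map_mul, map_inv]
      rw [mul_comm (Abelianization.of _), mul_inv_cancel_right, mul_inv_cancel]
    rw [← map_mul]
    rcases D.hsq e he with h | h
    · rw [show (⟨g⁻¹ * e * g, hge⟩ : H) * ⟨g⁻¹ * e * g, hge⟩ = 1 from Subtype.ext (by
        show g⁻¹ * e * g * (g⁻¹ * e * g) = 1
        rw [show g⁻¹ * e * g * (g⁻¹ * e * g) = g⁻¹ * (e * e) * g by group, h]; group), map_one]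
    · rw [show (⟨g⁻¹ * e * g, hge⟩ : H) * ⟨g⁻¹ * e * g, hge⟩ = ⟨g⁻¹ * z * g, hgz⟩ from
        Subtype.ext (by
        show g⁻¹ * e * g * (g⁻¹ * e * g) = g⁻¹ * z * g
        rw [show g⁻¹ * e * g * (g⁻¹ * e * g) = g⁻¹ * (e * e) * g by group, h]), hzab])
  obtain ⟨y, rfl⟩ : ∃ y, Abelianization.of y = a0 := QuotientGroup.mk'_surjective _ a0
  have h1 := hVx y y.2
  rw [eq_zero_of_residual hres V hV] at h1
  simp only [hψdef, dif_pos y.2] at h1
  exact zero_ne_one (h1.trans ha0)

end Cfsg.Agent.S3301
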