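import Cfsg.Statements.S3303
import Mathlib
import Cfsg.Agent.Lib.Fusion.Cores
import Cfsg.Agent.Lib.Fusion.SolvableBalance
-- import your own Cfsg.Agent.* helpers here

set_option autoImplicit false
open Cfsg

namespace Cfsg.Agent.S3303

/-- Sylow subgroups of a quotient meet in the image of a meet of two Sylow subgroups. -/
theorem exists_meet {G : Type*} [Group G] [Finite G] (N : Subgroup G) [N.Normal] (S T : Sylow 2 (G ⧸ N))
    (hST : S ≠ T) : ∃ S1 T1 : Sylow 2 G, S1 ≠ T1 ∧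
      (S : Subgroup (G ⧸ N)) ⊓ T ≤ ((S1 : Subgroup G) ⊓ T1).map (QuotientGroup.mk' N) := by
  haveI : Fact (Nat.Prime 2) := ⟨Nat.prime_two⟩
  set π := QuotientGroup.mk' N with hπ
  have hπs : Function.Surjective π := QuotientGroup.mk'_surjective N
  -- a two-subgroup over a subgroup of a Sylow subgroup of the quotient lies in a lift of that Sylow
  have hlift : ∀ (U : Sylow 2 (G ⧸ N)) (R : Subgroup G), IsPGroup 2 R → R.map π ≤ U →
      ∃ U1 : Sylow 2 G, R ≤ U1 ∧ (U1 : Subgroup G).map π = U := by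
    intro U R hR hRU
    let M : Subgroup G := (U : Subgroup (G ⧸ N)).comap π
    have hRM : R ≤ M := Subgroup.map_le_iff_le_comap.1 hRU
    obtain ⟨U', hU'⟩ := (hR.comap_subtype (K := M)).exists_le_sylow
    let f : ↥M →* ↥(U : Subgroup (G ⧸ N)) := π.subgroupComap (U : Subgroup (G ⧸ N))
    have hf : Function.Surjective f := MonoidHom.subgroupComap_surjective_of_surjective π _ hπs
    have hfull : (U' : Subgroup ↥M).map f = ⊤ :=
      ((U'.mapSurjective hf).is_maximal' (U.2.to_subgroup ⊤) le_top).symm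
    obtain ⟨U1, hU1⟩ := (U'.2.map M.subtype).exists_le_sylow
    refine ⟨U1, fun r hr => hU1 ⟨⟨r, hRM hr⟩, hU' hr, rfl⟩, ?_⟩
    refine U.is_maximal' (U1.2.map π) fun u hu => ?_
    have : (⟨u, hu⟩ : ↥(U : Subgroup (G ⧸ N))) ∈ (U' : Subgroup ↥M).map f := by rw [hfull]; trivial
    obtain ⟨m, hm, hmu⟩ := this
    exact ⟨m, hU1 ⟨m, hm, rfl⟩, congrArg Subtype.val hmu⟩
  let D : Subgroup G := ((S : Subgroup (G ⧸ N)) ⊓ T).comap π
  let f : ↥D →* ↥((S : Subgroup (G ⧸ N)) ⊓ T) := π.subgroupComap _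
  have hf : Function.Surjective f := MonoidHom.subgroupComap_surjective_of_surjective π _ hπs
  obtain ⟨R⟩ : Nonempty (Sylow 2 ↥D) := inferInstance
  have hD2 : IsPGroup 2 ↥((S : Subgroup (G ⧸ N)) ⊓ T) := S.2.to_le inf_le_left
  have hfull : (R : Subgroup ↥D).map f = ⊤ :=
    ((R.mapSurjective hf).is_maximal' (hD2.to_subgroup ⊤) le_top).symm
  have hRD : ((R : Subgroup ↥D).map D.subtype).map π ≤ (S : Subgroup (G ⧸ N)) ⊓ T := by
    rintro _ ⟨_, ⟨r, -, rfl⟩, rfl⟩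
    exact r.2
  obtain ⟨S1, hS1, hS1m⟩ := hlift S _ (R.2.map D.subtype) (hRD.trans inf_le_left)
  obtain ⟨T1, hT1, hT1m⟩ := hlift T _ (R.2.map D.subtype) (hRD.trans inf_le_right)
  refine ⟨S1, T1, fun h => hST (Sylow.ext (by rw [← hS1m, ← hT1m, h])), fun u hu => ?_⟩
  have : (⟨u, hu⟩ : ↥((S : Subgroup (G ⧸ N)) ⊓ T)) ∈ (R : Subgroup ↥D).map f := by rw [hfull]; trivial
  obtain ⟨m, hm, hmu⟩ := this
  exact ⟨m, ⟨hS1 ⟨m, hm, rfl⟩, hT1 ⟨m, hm, rfl⟩⟩, congrArg Subtype.val hmu⟩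

/-- Let G be a finite solvable group in which the intersection of any two distinct Sylow 2-subgroups is cyclic. Then G/O(G) has a normal Sylow 2-subgroup, where O(G) is the largest normal subgroup of odd order. -/
theorem result {G : Type*} [Group G] [Finite G] (hs : Group.IsSolvable G)
    (hC : ∀ S T : Sylow 2 G, S ≠ T → IsCyclic ↥((S : Subgroup G) ⊓ (T : Subgroup G))) :
    ∃ P : Sylow 2 (G ⧸ Cfsg.oddCore G), (P : Subgroup (G ⧸ Cfsg.oddCore G)).Normal := by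
  classical
  haveI : Fact (Nat.Prime 2) := ⟨Nat.prime_two⟩
  haveI := hs
  let Q := G ⧸ Cfsg.oddCore G
  have hQs : Group.IsSolvable Q := inferInstance
  have h0 : Cfsg.pPrimeCore 2 Q = ⊥ := Cfsg.Agent.Fusion.pPrimeCore_quotient_eq_bot
  obtain ⟨P⟩ : Nonempty (Sylow 2 Q) := inferInstance
  refine ⟨P, ?_⟩
  by_cases huniq : ∀ T : Sylow 2 Q, T = P
  · haveI : Subsingleton (Sylow 2 Q) := ⟨fun a b => (huniq a).trans (huniq b).symm⟩
    exact Sylow.normal_of_subsingleton P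
  exfalso
  push Not at huniq
  obtain ⟨T, hT⟩ := huniq
  obtain ⟨S1, T1, hne, hle⟩ := exists_meet (Cfsg.oddCore G) T P hT
  haveI := hC S1 T1 hne
  haveI : IsCyclic ↥(((S1 : Subgroup G) ⊓ T1).map (QuotientGroup.mk' (Cfsg.oddCore G))) :=
    isCyclic_of_surjective _ (MonoidHom.subgroupMap_surjective (QuotientGroup.mk' (Cfsg.oddCore G)) ((S1 : Subgroup G) ⊓ T1))
  have hle' : Cfsg.pCore 2 Q ≤ ((S1 : Subgroup G) ⊓ T1).map (QuotientGroup.mk' (Cfsg.oddCore G)) :=
    (le_inf (Cfsg.Agent.Fusion.pCore_le_sylow T) (Cfsg.Agent.Fusion.pCore_le_sylow P)).trans hle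
  haveI : IsCyclic ↥(Cfsg.pCore 2 Q) := isCyclic_of_injective (Subgroup.inclusion hle') (Subgroup.inclusion_injective hle')
  haveI hn : (Cfsg.pCore 2 Q).Normal := inferInstance
  have hp : IsPGroup 2 ↥(Cfsg.pCore 2 Q) := P.2.to_le (Cfsg.Agent.Fusion.pCore_le_sylow P)
  have hc := Cfsg.Agent.Fusion.centralizer_pCore_le_of_solvable hQs h0
  let φ : Q →* MulAut ↥(Cfsg.pCore 2 Q) := MulAut.conjNormal
  have hker : IsPGroup 2 ↥φ.ker := hp.to_le (fun x hx => hc (Subgroup.mem_centralizer_iff.2 fun y hy => by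
    have h := congrArg Subtype.val (DFunLike.congr_fun (MonoidHom.mem_ker.1 hx) ⟨y, hy⟩)
    rw [MulAut.conjNormal_apply] at h
    simp only [MulAut.one_apply] at h
    exact (mul_inv_eq_iff_eq_mul.1 h).symm))
  have haut : IsPGroup 2 (MulAut ↥(Cfsg.pCore 2 Q)) := by
    obtain ⟨k, hk⟩ := IsPGroup.iff_card.1 hp
    refine IsPGroup.of_card (n := k - 1) ?_
    rw [IsCyclic.card_mulAut, hk]
    rcases Nat.eq_zero_or_pos k with rfl | h
    · rfl
    · rw [Nat.totient_prime_pow Nat.prime_two h]; simp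
  have hall : IsPGroup 2 ↥((⊤ : Subgroup (MulAut ↥(Cfsg.pCore 2 Q))).comap φ) :=
    (haut.to_subgroup ⊤).comap_of_ker_isPGroup φ hker
  rw [Subgroup.comap_top] at hall
  have hP := P.is_maximal' hall le_top
  have hT' := T.is_maximal' hall le_top
  exact hT (Sylow.ext (hT'.symm.trans hP))

end Cfsg.Agent.S3303
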