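import Cfsg.Statements.S3305
import Mathlib
import Cfsg.Agent.Lib.Small.SylowInside
-- import your own Cfsg.Agent.* helpers here

set_option autoImplicit false
open Cfsg

namespace Cfsg.Agent.S3305

/-- If any two distinct Sylow 2-subgroups of the finite group G intersect in a cyclic group, then the same holds in every quotient group G/H, H a normal subgroup of G. -/
theorem result {G : Type*} [Group G] [Finite G]
    (hC : ∀ S T : Sylow 2 G, S ≠ T → IsCyclic ↥((S : Subgroup G) ⊓ (T : Subgroup G))) (H : Subgroup G) [H.Normal] :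
    ∀ S T : Sylow 2 (G ⧸ H), S ≠ T → IsCyclic ↥((S : Subgroup (G ⧸ H)) ⊓ (T : Subgroup (G ⧸ H))) := by
  haveI : Fact (Nat.Prime 2) := ⟨Nat.prime_two⟩
  intro S T hST
  set π := QuotientGroup.mk' H with hπdef
  have hπ : Function.Surjective π := QuotientGroup.mk'_surjective H
  set U : Subgroup G := ((S : Subgroup (G ⧸ H)) ⊓ (T : Subgroup (G ⧸ H))).comap π with hUdef
  obtain ⟨P⟩ := (inferInstance : Nonempty (Sylow 2 U))
  have key : ∀ X : Sylow 2 (G ⧸ H), U ≤ (X : Subgroup (G ⧸ H)).comap π →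
      ∃ Q : Sylow 2 G, (P : Subgroup U).map U.subtype ≤ (Q : Subgroup G) ∧ Q.mapSurjective hπ = X := by
    intro X hX
    obtain ⟨Q₀, hQ₀⟩ := Sylow.mapSurjective_surjective hπ 2 X
    have hQ₀X : (Q₀ : Subgroup G) ≤ (X : Subgroup (G ⧸ H)).comap π := by
      rw [← Subgroup.map_le_iff_le_comap, ← hQ₀, Sylow.coe_mapSurjective]
    obtain ⟨k, hk, hle⟩ := Cfsg.Agent.Small.exists_smul_sylow_ge_inside _ (P.2.map U.subtype)
      ((Subgroup.map_subtype_le _).trans hX) Q₀ hQ₀X
    refine ⟨k • Q₀, hle, ?_⟩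
    have hsub : ((k • Q₀).mapSurjective hπ : Subgroup (G ⧸ H)) ≤ (X : Subgroup (G ⧸ H)) := by
      rw [Sylow.coe_mapSurjective, Subgroup.map_le_iff_le_comap]
      intro x hx
      rw [Cfsg.Agent.Small.sylow_smul_mem_iff] at hx
      have h1 := hQ₀X hx
      have h2 := mul_mem (mul_mem hk h1) (inv_mem hk)
      rwa [show k * (k⁻¹ * x * k) * k⁻¹ = x by group] at h2
    exact Sylow.ext (((k • Q₀).mapSurjective hπ).is_maximal' X.2 hsub).symm
  obtain ⟨Q, hQ, eQ⟩ := key S (Subgroup.comap_mono inf_le_left)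
  obtain ⟨R, hR, eR⟩ := key T (Subgroup.comap_mono inf_le_right)
  have hne : Q ≠ R := by
    rintro rfl
    exact hST (eQ.symm.trans eR)
  haveI := hC Q R hne
  have hPcyc : IsCyclic ((P : Subgroup U).map U.subtype) := by
    exact isCyclic_of_injective (Subgroup.inclusion (le_inf hQ hR)) (Subgroup.inclusion_injective _)
  let f : U →* ((S : Subgroup (G ⧸ H)) ⊓ (T : Subgroup (G ⧸ H)) : Subgroup (G ⧸ H)) :=
    π.subgroupComap _
  have hf : Function.Surjective f := MonoidHom.subgroupComap_surjective_of_surjective π _ hπ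
  have hI : IsPGroup 2 ((S : Subgroup (G ⧸ H)) ⊓ (T : Subgroup (G ⧸ H)) : Subgroup (G ⧸ H)) :=
    S.2.to_le inf_le_left
  have htop : (P : Subgroup U).map f = ⊤ := by
    exact ((P.mapSurjective hf).is_maximal' (hI.to_subgroup ⊤) le_top).symm
  haveI : IsCyclic (P : Subgroup U) :=
    isCyclic_of_injective (U.subtype.subgroupMap (P : Subgroup U))
      (fun a b hab => Subtype.ext (Subtype.ext (congrArg Subtype.val hab :)))
  refine isCyclic_of_surjective (f.comp (P : Subgroup U).subtype) ?_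
  intro y
  obtain ⟨x, hx, rfl⟩ := htop.ge (Subgroup.mem_top y)
  exact ⟨⟨x, hx⟩, rfl⟩

end Cfsg.Agent.S3305
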