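import Cfsg.Statements.S3306
import Cfsg.Agent.Lib.Lie.CyclicCapTop
import Cfsg.Agent.Lib.OddChar.FT.NoMinimal
import Cfsg.Agent.Lib.OddChar.FT.Final

set_option autoImplicit false
open Cfsg Cfsg.Agent
open scoped Pointwise

namespace Cfsg.Agent.S3306

/-- Let G be a finite nonsolvable group in which any two distinct Sylow 2-subgroups intersect in a cyclic group, and let N be a solvable normal subgroup of G. Then the image of N in G/O(G) is a cyclic 2-group contained in the centre of G/O(G) (O(G) the largest normal subgroup of odd order). In other words the solvable radical of G is V·O(G) with V a cyclic 2-group central modulo O(G). -/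
theorem result {G : Type*} [Group G] [Finite G] (hns : ¬ Group.IsSolvable G)
    (hC : ∀ S T : Sylow 2 G, S ≠ T → IsCyclic ↥((S : Subgroup G) ⊓ (T : Subgroup G)))
    (N : Subgroup G) [N.Normal] (hN : Group.IsSolvable ↥N) :
    IsCyclic ↥(N.map (QuotientGroup.mk' (Cfsg.oddCore G))) ∧ IsPGroup 2 ↥(N.map (QuotientGroup.mk' (Cfsg.oddCore G))) ∧
      N.map (QuotientGroup.mk' (Cfsg.oddCore G)) ≤ Subgroup.center (G ⧸ Cfsg.oddCore G) := by
  haveI : Fact (Nat.Prime 2) := ⟨Nat.prime_two⟩
  haveI hOn : (oddCore G).Normal := Solv.pPrimeCore_normal 2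
  have hFT : ∀ (H : Type _) [Group H] [Finite H], Odd (Nat.card H) → Group.IsSolvable H :=
    fun H _ _ h => OddFT.odd_solvable_of_no_min OddFT.no_minSimple h
  have hOodd : Odd (Nat.card (oddCore G)) :=
    Nat.coprime_two_right.1 (Fusion.card_pPrimeCore_coprime 2 G)
  have hns' : ¬ Group.IsSolvable (G ⧸ oddCore G) := fun h =>
    hns (Solv.isSolvable_of_normal_quotient (oddCore G) (hFT _ hOodd) h)
  set f := QuotientGroup.mk' (oddCore G) with hf
  have hsurj : Function.Surjective f := QuotientGroup.mk'_surjective _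
  haveI : (N.map f).Normal := Subgroup.Normal.map inferInstance f hsurj
  have hNs : Group.IsSolvable ↥(N.map f) := Group.isSolvable_of_surjective (f.subgroupMap_surjective N)
  refine Lie.CyclicCapTop.main hFT Fusion.pPrimeCore_quotient_eq_bot hns' ?_ _ hNs
  intro A B hAB
  obtain ⟨S, rfl⟩ := Sylow.mapSurjective_surjective hsurj 2 A
  obtain ⟨T, rfl⟩ := Sylow.mapSurjective_surjective hsurj 2 B
  set X : Subgroup G := ((S : Subgroup G).map f ⊓ (T : Subgroup G).map f).comap f with hX
  set R : Subgroup G := (S : Subgroup G) ⊓ X with hR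
  have hRmap : (S : Subgroup G).map f ⊓ (T : Subgroup G).map f ≤ R.map f := by
    intro q hq
    obtain ⟨s, hs, rfl⟩ := hq.1
    exact ⟨s, ⟨hs, hq⟩, rfl⟩
  have hker : ∀ x : G, f x = 1 ↔ x ∈ oddCore G := fun x => QuotientGroup.eq_one_iff x
  -- `R` and `T ⊓ X` are Sylow subgroups of `X`
  have hidx : ∀ U : Sylow 2 G, (∀ q ∈ (S : Subgroup G).map f ⊓ (T : Subgroup G).map f,
      q ∈ (U : Subgroup G).map f) → ¬ 2 ∣ (((U : Subgroup G) ⊓ X).subgroupOf X).index := by
    intro U hU h2
    haveI : ((oddCore G).subgroupOf X).Normal := hOn.subgroupOf X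
    have hsup : (oddCore G).subgroupOf X ⊔ ((U : Subgroup G) ⊓ X).subgroupOf X = ⊤ := by
      rw [eq_top_iff]
      rintro ⟨x, hx⟩ -
      obtain ⟨u, hu, e⟩ := hU _ hx
      have huX : u ∈ X := by show f u ∈ (S : Subgroup G).map f ⊓ (T : Subgroup G).map f; rw [e]; exact hx
      have hxu : x * u⁻¹ ∈ oddCore G := (hker _).1 (by rw [map_mul, map_inv, e, mul_inv_cancel])
      have hxuX : x * u⁻¹ ∈ X := mul_mem hx (inv_mem huX)
      have e2 : (⟨x, hx⟩ : ↥X) = ⟨x * u⁻¹, hxuX⟩ * ⟨u, huX⟩ :=
        Subtype.ext (show x = x * u⁻¹ * u by group)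
      rw [e2]
      exact Subgroup.mul_mem_sup hxu ⟨hu, huX⟩
    have hd : (((U : Subgroup G) ⊓ X).subgroupOf X).index ∣ Nat.card ((oddCore G).subgroupOf X) := by
      have h1 := Fusion.card_sup_dvd ((oddCore G).subgroupOf X) (((U : Subgroup G) ⊓ X).subgroupOf X)
      rw [sup_comm, hsup, Subgroup.card_top,
        ← Subgroup.card_mul_index (((U : Subgroup G) ⊓ X).subgroupOf X)] at h1
      exact Nat.dvd_of_mul_dvd_mul_left Nat.card_pos h1
    have hle : oddCore G ≤ X := fun z hz => by
      show f z ∈ (S : Subgroup G).map f ⊓ (T : Subgroup G).map f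
      rw [(hker z).2 hz]; exact one_mem _
    rw [Nat.card_congr (Subgroup.subgroupOfEquivOfLe hle).toEquiv] at hd
    exact Nat.not_even_iff_odd.2 hOodd (even_iff_two_dvd.2 (h2.trans hd))
  let R1 : Sylow 2 X := (((S.2.to_le inf_le_left) : IsPGroup 2 ↥R).comap_subtype (K := X)).toSylow
    (hidx S fun q hq => hq.1)
  let R2 : Sylow 2 X :=
    (((T.2.to_le inf_le_left) : IsPGroup 2 ↥((T : Subgroup G) ⊓ X)).comap_subtype (K := X)).toSylow
      (hidx T fun q hq => hq.2)
  obtain ⟨x, hx⟩ := MulAction.exists_smul_eq X R2 R1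
  -- conjugate `T` by an element of the core
  obtain ⟨u, hu, hue⟩ := x.2.2
  have ho : (x : G) * u⁻¹ ∈ oddCore G :=
    (hker _).1 (by rw [map_mul, map_inv, hue, mul_inv_cancel])
  set o := (x : G) * u⁻¹ with hodef
  have hox : (x : G) • T = o • T := by
    rw [show (x : G) = o * u by rw [hodef]; group, mul_smul,
      Lie.CyclicCapTop.smul_sylow_of_mem hu]
  have hRT : R ≤ ((o • T : Sylow 2 G) : Subgroup G) := by
    intro r hr
    rw [← hox, Sylow.coe_subgroup_smul]
    have h1 : (⟨r, hr.2⟩ : X) ∈ (R1 : Subgroup X) := hr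
    rw [← hx, Sylow.coe_subgroup_smul] at h1
    change (⟨r, hr.2⟩ : X) ∈ MulAut.conj x • (R2 : Subgroup X) at h1
    rw [Subgroup.mem_pointwise_smul_iff_inv_smul_mem] at h1
    show r ∈ MulAut.conj (x : G) • (T : Subgroup G)
    rw [Subgroup.mem_pointwise_smul_iff_inv_smul_mem]
    exact h1.1
  have hne : S ≠ o • T := by
    intro e
    refine hAB (Sylow.ext ?_)
    rw [Sylow.coe_mapSurjective, Sylow.coe_mapSurjective]
    have e' : (S : Subgroup G) = MulAut.conj o • (T : Subgroup G) := by
      conv_lhs => rw [e]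
      rfl
    rw [e']
    ext q
    constructor
    · rintro ⟨z, hz, rfl⟩
      rw [SetLike.mem_coe, Subgroup.mem_pointwise_smul_iff_inv_smul_mem] at hz
      refine ⟨_, hz, ?_⟩
      rw [MulAut.smul_def, MulAut.conj_inv_apply, map_mul, map_mul, map_inv, (hker o).2 ho]; group
    · rintro ⟨z, hz, rfl⟩
      refine ⟨o * z * o⁻¹, Subgroup.smul_mem_pointwise_smul z (MulAut.conj o) _ hz, ?_⟩
      rw [map_mul, map_mul, map_inv, (hker o).2 ho]; group
  haveI := hC S (o • T) hne
  haveI : IsCyclic R := isCyclic_of_injective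
    (Subgroup.inclusion (show R ≤ (S : Subgroup G) ⊓ ((o • T : Sylow 2 G) : Subgroup G) from
      le_inf inf_le_left hRT)) (Subgroup.inclusion_injective _)
  haveI : IsCyclic ↥(R.map f) := isCyclic_of_surjective _ (f.subgroupMap_surjective R)
  exact isCyclic_of_injective (Subgroup.inclusion hRmap) (Subgroup.inclusion_injective _)

end Cfsg.Agent.S3306
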