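import Cfsg.Statements.S3309
import Mathlib
import Cfsg.Agent.Lib.Fusion.ThompsonTransferCyclic
-- import your own Cfsg.Agent.* helpers here

set_option autoImplicit false
open Cfsg

namespace Cfsg.Agent.S3309

theorem sq_model : ∀ d : DihedralGroup 4, d * d = 1 ∨ d * d = DihedralGroup.r 2 := by decide
theorem central_model : ∀ d : DihedralGroup 4, (∀ x, d * x = x * d) → d = 1 ∨ d = DihedralGroup.r 2 := by decide
theorem r1_sq : (DihedralGroup.r 1 : DihedralGroup 4) * DihedralGroup.r 1 = DihedralGroup.r 2 := by decide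
theorem r2_ne : (DihedralGroup.r 2 : DihedralGroup 4) ≠ 1 := by decide
theorem c2_sq : ∀ a : Multiplicative (ZMod 2), a * a = 1 := by decide


/-- A finite group whose Sylow 2-subgroups are isomorphic to the direct product of a group of order 2 and the dihedral group of order 8 is not a non-abelian simple group. -/
theorem result {G : Type*} [Group G] [Finite G] (S : Sylow 2 G) (hS : Nonempty (↥(S : Subgroup G) ≃* Multiplicative (ZMod 2) × DihedralGroup 4))
    [IsSimpleGroup G] (hG : ¬ IsMulCommutative G) : False := by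
  classical
  obtain ⟨e⟩ := hS
  have hperf : commutator G = ⊤ := by
    rcases IsSimpleGroup.eq_bot_or_eq_top_of_normal (commutator G) inferInstance with h | h
    · exact absurd ⟨⟨fun a b => by
        have hm : a * b * a⁻¹ * b⁻¹ ∈ commutator G := by rw [← commutatorElement_def]; exact Subgroup.commutator_mem_commutator (Subgroup.mem_top a) (Subgroup.mem_top b)
        rw [h, Subgroup.mem_bot] at hm
        exact mul_inv_eq_iff_eq_mul.1 (mul_inv_eq_one.1 hm)⟩⟩ hG
    · exact h
  let χ : ↥(S : Subgroup G) →* Multiplicative (ZMod 2) := (MonoidHom.fst _ _).comp e.toMonoidHom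
  let T : Subgroup G := χ.ker.map (S : Subgroup G).subtype
  have hTS : T ≤ (S : Subgroup G) := Subgroup.map_subtype_le _
  have hTk : T.subgroupOf (S : Subgroup G) = χ.ker :=
    Subgroup.comap_map_eq_self_of_injective (S : Subgroup G).subtype_injective _
  haveI : (T.subgroupOf (S : Subgroup G)).Normal := by rw [hTk]; infer_instance
  have hcyc : IsCyclic (↥(S : Subgroup G) ⧸ T.subgroupOf (S : Subgroup G)) := by
    haveI : IsCyclic χ.range := inferInstance
    have e1 : (↥(S : Subgroup G) ⧸ χ.ker) ≃* χ.range := QuotientGroup.quotientKerEquivRange χ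
    have e2 := (QuotientGroup.quotientMulEquivOfEq hTk).trans e1
    exact isCyclic_of_surjective e2.symm e2.symm.surjective
  let c : ↥(S : Subgroup G) := e.symm (Multiplicative.ofAdd 1, 1)
  let z : ↥(S : Subgroup G) := e.symm (1, DihedralGroup.r 2)
  have hne : (Multiplicative.ofAdd (1 : ZMod 2)) ≠ 1 := fun h => one_ne_zero (α := ZMod 2) (Multiplicative.ofAdd.injective h)
  have hc : orderOf (c : G) = 2 := by
    rw [Subgroup.orderOf_coe]
    refine orderOf_eq_prime ?_ fun h => hne (congrArg Prod.fst (e.symm.injective (h.trans e.symm.map_one.symm)))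
    rw [pow_two, ← map_mul, Prod.mk_mul_mk, c2_sq, one_mul]
    exact e.symm.map_one
  have hcT : (c : G) ∉ T := by
    intro h
    obtain ⟨c', hc', hcc⟩ := h
    rw [(S : Subgroup G).subtype_injective hcc, SetLike.mem_coe, MonoidHom.mem_ker] at hc'
    exact hne (by simpa [χ, c] using hc')
  obtain ⟨g, hgT, -, hmap⟩ := Cfsg.Agent.Fusion.extremal_transfer_cyclic hperf S T hTS hcyc hc c.2 hcT
  have hccen : ∀ s ∈ (S : Subgroup G), s * (c : G) = (c : G) * s := fun s hs => by
    refine congrArg Subtype.val (show (⟨s, hs⟩ : ↥(S : Subgroup G)) * c = c * ⟨s, hs⟩ from e.injective ?_)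
    simp only [map_mul, c, MulEquiv.apply_symm_apply]
    exact Prod.ext (mul_comm _ _) (by simp)
  rw [inf_eq_left.2 (fun s hs => Subgroup.mem_centralizer_singleton_iff.2 (hccen s hs))] at hmap
  have hgS : ∀ s ∈ (S : Subgroup G), g * s * g⁻¹ ∈ (S : Subgroup G) ∧ (g * s * g⁻¹) * (g * c * g⁻¹) = (g * c * g⁻¹) * (g * s * g⁻¹) := fun s hs => by
    have h := hmap ⟨s, hs, rfl⟩
    exact ⟨h.1, Subgroup.mem_centralizer_singleton_iff.1 h.2⟩
  let x : ↥(S : Subgroup G) := ⟨g * c * g⁻¹, hTS hgT⟩
  have hx2 : (e x).1 = 1 := by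
    obtain ⟨x', hx', hxx⟩ := hgT
    rw [SetLike.mem_coe, MonoidHom.mem_ker] at hx'
    rw [show x = x' from Subtype.ext hxx.symm]
    exact hx'
  have hxc : ∀ s : ↥(S : Subgroup G), x * s = s * x := by
    intro s
    -- conjugation by g maps S onto S
    obtain ⟨s', hs'⟩ : ∃ s' : ↥(S : Subgroup G), g * (s' : G) * g⁻¹ = s := by
      obtain ⟨s', hs'⟩ := Finite.surjective_of_injective
        (f := fun t : ↥(S : Subgroup G) => (⟨g * (t : G) * g⁻¹, (hgS t t.2).1⟩ : ↥(S : Subgroup G)))
        (fun a b h => Subtype.ext (by simpa using congrArg Subtype.val h)) s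
      exact ⟨s', congrArg Subtype.val hs'⟩
    refine Subtype.ext ?_
    show g * c * g⁻¹ * (s : G) = (s : G) * (g * c * g⁻¹)
    rw [← hs']
    exact (hgS s' s'.2).2.symm
  have hxz : x = z := by
    rcases central_model (e x).2 (fun d => by
      have h := congrArg Prod.snd (congrArg e (hxc (e.symm (1, d))))
      simpa using h) with h | h
    · exfalso
      have hx1 : x = 1 := e.injective (by rw [map_one]; exact Prod.ext hx2 h)
      have h1 : g * c * g⁻¹ = 1 := congrArg Subtype.val hx1
      rw [conj_eq_one_iff] at h1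
      rw [h1, orderOf_one] at hc
      omega
    · exact e.injective (by rw [MulEquiv.apply_symm_apply]; exact Prod.ext hx2 h)
  -- z is a square, so g fixes it
  let r : ↥(S : Subgroup G) := e.symm (1, DihedralGroup.r 1)
  have hr : r * r = z := by rw [← map_mul, Prod.mk_mul_mk, one_mul, r1_sq]
  let r' : ↥(S : Subgroup G) := ⟨g * r * g⁻¹, (hgS r r.2).1⟩
  have hr' : ((r' * r' : ↥(S : Subgroup G)) : G) = g * (z : G) * g⁻¹ := by
    rw [← hr]; show g * r * g⁻¹ * (g * r * g⁻¹) = g * ((r : G) * r) * g⁻¹; group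
  have hz : g * (z : G) * g⁻¹ = z := by
    rw [← hr']
    rcases sq_model (e r').2 with h | h
    · exfalso
      have : r' * r' = 1 := e.injective (by rw [map_mul, map_one]; exact Prod.ext (c2_sq _) h)
      rw [this, Subgroup.coe_one, eq_comm, conj_eq_one_iff] at hr'
      have hz1 : z = 1 := Subtype.ext hr'
      exact r2_ne (congrArg Prod.snd (e.symm.injective (hz1.trans e.symm.map_one.symm)))
    · exact congrArg Subtype.val (e.injective (by rw [map_mul, MulEquiv.apply_symm_apply]; exact Prod.ext (c2_sq _) h))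
  have hzc : (z : G) = c := mul_left_cancel (mul_right_cancel (hz.trans (congrArg Subtype.val hxz).symm))
  exact hne (congrArg Prod.fst (e.symm.injective (Subtype.ext hzc))).symm

end Cfsg.Agent.S3309
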