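import Cfsg.Statements.S3312
import Cfsg.Agent.Lib.Solv.BlockProduct
import Cfsg.Agent.Lib.Fusion.PConstrained

set_option autoImplicit false
open Cfsg

namespace Cfsg.Agent.S3312

open Cfsg.Agent.Char Cfsg.Agent.Solv.BlockProd

universe u

variable {G : Type u} [Group G] [Finite G]

/-- A weakly closed central subgroup is strongly closed, element by element. -/
theorem strong (T : Sylow 2 G) {W : Subgroup G}
    (hWZ : W ≤ (T : Subgroup G) ⊓ Subgroup.centralizer ((T : Subgroup G) : Set G))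
    (hwc : Cfsg.IsWeaklyClosed W (T : Subgroup G)) {w g : G} (hw : w ∈ W)
    (hg : g * w * g⁻¹ ∈ (T : Subgroup G)) : g * w * g⁻¹ ∈ W := by
  haveI : Fact (Nat.Prime 2) := ⟨Nat.prime_two⟩
  set u := g * w * g⁻¹ with hu
  set C := Subgroup.centralizer ({u} : Set G)
  have hWC : W ≤ C := fun a ha => Subgroup.mem_centralizer_singleton_iff.mpr
    (Subgroup.mem_centralizer_iff.mp (hWZ ha).2 u hg).symm
  have hTg : ((MulAut.conj g • T : Sylow 2 G) : Subgroup G) ≤ C := by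
    rintro _ ⟨a, ha, rfl⟩
    refine Subgroup.mem_centralizer_singleton_iff.mpr ?_
    have := Subgroup.mem_centralizer_iff.mp (hWZ hw).2 a ha
    simp only [hu]
    show g * a * g⁻¹ * (g * w * g⁻¹) = g * w * g⁻¹ * (g * a * g⁻¹)
    calc g * a * g⁻¹ * (g * w * g⁻¹) = g * (a * w) * g⁻¹ := by group
      _ = g * (w * a) * g⁻¹ := by rw [this]
      _ = _ := by group
  have hWp : IsPGroup 2 ↥(W.subgroupOf C) :=
    (T.2.to_le (hWZ.trans inf_le_left)).of_equiv (Subgroup.subgroupOfEquivOfLe hWC).symm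
  obtain ⟨P, hP⟩ := hWp.exists_le_sylow
  obtain ⟨c, hc⟩ := MulAction.exists_smul_eq C P ((MulAut.conj g • T : Sylow 2 G).subtype hTg)
  have hcW : ∀ a ∈ W, (c : G) * a * (c : G)⁻¹ ∈ ((MulAut.conj g • T : Sylow 2 G) : Subgroup G) := by
    intro a ha
    have h1 : (c * ⟨a, hWC ha⟩ * c⁻¹ : C) ∈ (c • P : Sylow 2 C) :=
      Subgroup.mem_map_of_mem _ (hP (show (⟨a, hWC ha⟩ : C) ∈ W.subgroupOf C from ha))
    rw [hc] at h1
    exact h1
  have hle : W.map (MulAut.conj (g⁻¹ * (c : G))).toMonoidHom ≤ (T : Subgroup G) := by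
    rintro _ ⟨a, ha, rfl⟩
    obtain ⟨b, hb, hbe⟩ := hcW a ha
    have hbe' : g * b * g⁻¹ = (c : G) * a * (c : G)⁻¹ := hbe
    show g⁻¹ * (c : G) * a * (g⁻¹ * (c : G))⁻¹ ∈ (T : Subgroup G)
    rw [show g⁻¹ * (c : G) * a * (g⁻¹ * (c : G))⁻¹ = g⁻¹ * ((c : G) * a * (c : G)⁻¹) * g by group,
      ← hbe', show g⁻¹ * (g * b * g⁻¹) * g = b by group]
    exact hb
  have heq := hwc.2 _ hle
  have hw' : w ∈ W.map (MulAut.conj (g⁻¹ * (c : G))).toMonoidHom := heq.symm ▸ hw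
  obtain ⟨a, ha, hae⟩ := hw'
  have hae' : g⁻¹ * (c : G) * a * (g⁻¹ * (c : G))⁻¹ = w := hae
  have hcu : (c : G) * u = u * (c : G) := Subgroup.mem_centralizer_singleton_iff.mp c.2
  have : a = u := by
    apply mul_left_cancel (a := (c : G))
    rw [hcu, hu, ← hae']
    group
  exact this ▸ ha

/-- The involutions of the coset of `W` through `t`. -/
def coset (W : Subgroup G) (t : G) : Set G := {x | (∃ w ∈ W, w * t = x) ∧ orderOf x = 2}

/-- The key step: products of coset involutions with conjugates of an involution of `W`. -/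
theorem step [Fintype G] {M : Ideal AlgInt} (hM : IsPModular 2 M) (T : Sylow 2 G) (W : Subgroup G)
    (hWZ : W ≤ (T : Subgroup G) ⊓ Subgroup.centralizer ((T : Subgroup G) : Set G))
    (hwc : Cfsg.IsWeaklyClosed W (T : Subgroup G)) (t : G) (htT : t ∈ (T : Subgroup G)) (htW : t ∉ W)
    (hcos : ∀ w ∈ W, orderOf (w * t) = 2 →
      W.subgroupOf (Subgroup.centralizer ({w * t} : Set G)) ≤
        Cfsg.pPrimePCore 2 ↥(Subgroup.centralizer ({w * t} : Set G)))
    {w₀ : G} (hw₀ : w₀ ∈ W) (hw₀2 : orderOf w₀ = 2) {x : G} (hx : x ∈ coset W t) (s : G) :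
    ∃ z ∈ coset W t, ∀ χ : IrrCharacter G, χ ∈ principalBlock M G →
      (χ : G → ℂ) (x * (s * w₀ * s⁻¹)) = (χ : G → ℂ) z := by
  classical
  haveI : Fact (Nat.Prime 2) := ⟨Nat.prime_two⟩
  obtain ⟨⟨w₁, hw₁, hw₁x⟩, hx2⟩ := hx
  have hxT : x ∈ (T : Subgroup G) := hw₁x ▸ mul_mem (hWZ hw₁).1 htT
  have hxW : x ∉ W := fun h => htW (by
    have := mul_mem (inv_mem hw₁) h
    rwa [← hw₁x, inv_mul_cancel_left] at this)
  have hxx : x * x = 1 := by rw [← pow_two, ← hx2, pow_orderOf_eq_one]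
  set u := s * w₀ * s⁻¹ with hu
  have huu : u * u = 1 := by
    rw [hu, show s * w₀ * s⁻¹ * (s * w₀ * s⁻¹) = s * (w₀ * w₀) * s⁻¹ by group,
      show w₀ * w₀ = 1 by rw [← pow_two, ← hw₀2, pow_orderOf_eq_one]]
    group
  have hui : u⁻¹ = u := inv_eq_of_mul_eq_one_left huu
  set d := x * u with hd
  -- the product has even order
  have hodd' : ¬ Odd (orderOf d) := fun ho => by
    obtain ⟨c, -, hc⟩ := exists_zpowers_conj hxx huu ho
    refine hxW ?_
    have e : (c⁻¹ * s) * w₀ * (c⁻¹ * s)⁻¹ = x := by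
      rw [show (c⁻¹ * s) * w₀ * (c⁻¹ * s)⁻¹ = c⁻¹ * (s * w₀ * s⁻¹) * c by group, ← hu, ← hc]
      group
    rw [← e] at hxT ⊢
    exact strong T hWZ hwc hw₀ hxT
  rw [Nat.not_odd_iff_even, even_iff_two_dvd] at hodd'
  have hinv : ∀ j : ℕ, u * d ^ j * u⁻¹ = (d ^ j)⁻¹ := fun j => by
    have h1 : u * d * u⁻¹ = d⁻¹ := by
      have h2 : (x * u)⁻¹ = u * x :=
        inv_eq_of_mul_eq_one_left (by rw [mul_assoc, ← mul_assoc x x u, hxx, one_mul, huu])
      rw [hd, h2, hui, mul_assoc u (x * u) u, mul_assoc x u u, huu, mul_one]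
    rw [← conj_pow, h1, inv_pow]
  -- the odd part `m` of the order
  obtain ⟨k, m, hmo, hn⟩ := Nat.exists_eq_two_pow_mul_odd (orderOf_pos d).ne'
  have hk : 1 ≤ k := by
    rcases Nat.eq_zero_or_pos k with rfl | h
    · rw [pow_zero, one_mul] at hn
      rw [hn] at hodd'
      exact absurd hmo (Nat.not_odd_iff_even.mpr (even_iff_two_dvd.mpr hodd'))
    · exact h
  set z := d ^ m with hz
  have hzp : IsPGroup 2 ↥(Subgroup.zpowers z) := by
    refine IsPGroup.of_card (n := k) ?_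
    rw [Nat.card_zpowers, hz, orderOf_pow_of_dvd (by rintro rfl; simp at hmo) ⟨2 ^ k, by rw [hn, mul_comm]⟩,
      hn, Nat.mul_div_cancel _ hmo.pos]
  have hup : IsPGroup 2 ↥(Subgroup.zpowers u) := by
    refine IsPGroup.of_card (n := 1) ?_
    rw [Nat.card_zpowers, pow_one, ← hw₀2, hu, ← MulAut.conj_apply, MulEquiv.orderOf_eq]
  have hun : Subgroup.zpowers u ≤ Subgroup.normalizer (Subgroup.zpowers z : Set G) := by
    rw [Subgroup.zpowers_le, Subgroup.mem_normalizer_iff]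
    have hone : ∀ a ∈ Subgroup.zpowers z, u * a * u⁻¹ ∈ Subgroup.zpowers z := by
      rintro _ ⟨i, rfl⟩
      show u * z ^ i * u⁻¹ ∈ _
      rw [← conj_zpow, hz, hinv m]
      exact zpow_mem (inv_mem (Subgroup.mem_zpowers _)) _
    refine fun a => ⟨hone a, fun h => ?_⟩
    have := hone _ h
    rwa [show u * (u * a * u⁻¹) * u⁻¹ = (u * u) * a * (u * u)⁻¹ by group, huu, one_mul, inv_one,
      mul_one] at this
  obtain ⟨P, hP⟩ := (hup.to_sup_of_normal_right' hzp hun).exists_le_sylow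
  obtain ⟨h, hh⟩ := MulAction.exists_smul_eq G T P
  have hmemP : ∀ a : G, a ∈ (P : Subgroup G) → h⁻¹ * a * h ∈ (T : Subgroup G) := by
    intro a ha
    rw [← hh] at ha
    obtain ⟨b, hb, hbe⟩ := ha
    have hbe' : h * b * h⁻¹ = a := hbe
    rw [← hbe', show h⁻¹ * (h * b * h⁻¹) * h = b by group]
    exact hb
  have hh1 : h⁻¹ * u * h ∈ W := by
    have h0 := hmemP u (hP (Subgroup.mem_sup_left (Subgroup.mem_zpowers u)))
    rw [hu, show h⁻¹ * (s * w₀ * s⁻¹) * h = (h⁻¹ * s) * w₀ * (h⁻¹ * s)⁻¹ by group] at h0 ⊢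
    exact strong T hWZ hwc hw₀ h0
  -- `u` commutes with `z`, so `z` is an involution
  have huz : u * z = z * u := by
    have h0 := hmemP z (hP (Subgroup.mem_sup_right (Subgroup.mem_zpowers z)))
    have h1 := Subgroup.mem_centralizer_iff.mp (hWZ hh1).2 _ h0
    apply mul_left_cancel (a := h⁻¹)
    apply mul_right_cancel (b := h)
    calc h⁻¹ * (u * z) * h = (h⁻¹ * u * h) * (h⁻¹ * z * h) := by group
      _ = (h⁻¹ * z * h) * (h⁻¹ * u * h) := h1.symm
      _ = _ := by group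
  have hz2 : z * z = 1 := by
    have e := hinv m
    rw [← hz, huz, mul_inv_cancel_right] at e
    nth_rewrite 1 [e]
    exact inv_mul_cancel z
  have hzd : Commute d z := Commute.self_pow d m
  set e := d ^ (m + 1) with he
  have hde : z * e = d := by
    rw [hz, he, pow_succ, ← mul_assoc, ← pow_add, ← pow_two, ← two_mul] at *
    rw [hz2, one_mul]
  have heodd : Odd (orderOf e) := by
    refine Odd.of_dvd_nat hmo (orderOf_dvd_of_pow_eq_one ?_)
    obtain ⟨j, hj⟩ := hmo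
    rw [he, ← pow_mul, show (m + 1) * m = m * 2 * (j + 1) by rw [hj]; ring, pow_mul,
      show d ^ (m * 2) = 1 by rw [pow_mul, ← hz, pow_two, hz2], one_pow]
  -- the involution `u * z` is conjugate to `x`
  obtain ⟨j, hj⟩ := hmo
  set c₀ := (d ^ j)⁻¹ * u with hc₀
  have hx1 : c₀ * x * c₀⁻¹ = u * z := by
    have h1 : (d ^ j)⁻¹ = u * d ^ j * u := by rw [← hinv j, hui]
    calc c₀ * x * c₀⁻¹ = (d ^ j)⁻¹ * (u * x * u) * d ^ j := by rw [hc₀, mul_inv_rev, inv_inv, hui]; group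
      _ = u * d ^ j * u * (u * x * u) * d ^ j := by rw [h1]
      _ = u * d ^ j * ((u * u) * x * u) * d ^ j := by group
      _ = u * d ^ j * d * d ^ j := by rw [huu, one_mul, ← hd]
      _ = u * z := by rw [hz, hj, mul_assoc u, ← pow_succ, mul_assoc u, ← pow_add]; congr 2; omega
  -- `u₁` is a conjugate of `w₀` centralizing `x`
  set u₁ := c₀⁻¹ * u * c₀ with hu₁
  have hu₁C : u₁ ∈ Subgroup.centralizer ({x} : Set G) := by
    refine Subgroup.mem_centralizer_singleton_iff.mpr ?_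
    have hc : Commute u (u * z) := (Commute.refl u).mul_right huz
    rw [← hx1] at hc
    have h2 := hc.map (MulAut.conj c₀⁻¹)
    simp only [MulAut.conj_apply, inv_inv] at h2
    rw [show c₀⁻¹ * (c₀ * x * c₀⁻¹) * c₀ = x by group] at h2
    exact h2.eq
  have hWC : W ≤ Subgroup.centralizer ({x} : Set G) := fun a ha =>
    Subgroup.mem_centralizer_singleton_iff.mpr (Subgroup.mem_centralizer_iff.mp (hWZ ha).2 x hxT).symm
  have hu₁p : IsPGroup 2 ↥((Subgroup.zpowers u₁).subgroupOf (Subgroup.centralizer ({x} : Set G))) := by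
    refine IsPGroup.of_equiv ?_ (Subgroup.subgroupOfEquivOfLe (Subgroup.zpowers_le.mpr hu₁C)).symm
    refine IsPGroup.of_card (n := 1) ?_
    rw [Nat.card_zpowers, pow_one, ← hw₀2, hu₁, hu,
      show c₀⁻¹ * (s * w₀ * s⁻¹) * c₀ = MulAut.conj (c₀⁻¹ * s) w₀ by rw [MulAut.conj_apply]; group,
      MulEquiv.orderOf_eq]
  obtain ⟨P₁, hP₁⟩ := hu₁p.exists_le_sylow
  have hWp : IsPGroup 2 ↥(W.subgroupOf (Subgroup.centralizer ({x} : Set G))) :=
    (T.2.to_le (hWZ.trans inf_le_left)).of_equiv (Subgroup.subgroupOfEquivOfLe hWC).symm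
  obtain ⟨P₂, hP₂⟩ := hWp.exists_le_sylow
  obtain ⟨o, ho⟩ := MulAction.exists_smul_eq (Subgroup.centralizer ({x} : Set G)) P₂ P₁
  have hP₁p : IsPGroup 2 ↥((P₁ : Subgroup (Subgroup.centralizer ({x} : Set G))).map
      (Subgroup.centralizer ({x} : Set G)).subtype) := P₁.2.map _
  obtain ⟨P₃, hP₃⟩ := hP₁p.exists_le_sylow
  obtain ⟨h₃, hh₃⟩ := MulAction.exists_smul_eq G T P₃
  have hT₃ : ∀ a : Subgroup.centralizer ({x} : Set G), a ∈ P₁ →
      h₃⁻¹ * (a : G) * h₃ ∈ (T : Subgroup G) := by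
    intro a ha
    have h' : (a : G) ∈ (P₃ : Subgroup G) := hP₃ (Subgroup.mem_map_of_mem _ ha)
    rw [← hh₃] at h'
    obtain ⟨b, hb, hbe⟩ := h'
    have hbe' : h₃ * b * h₃⁻¹ = (a : G) := hbe
    rw [← hbe', show h₃⁻¹ * (h₃ * b * h₃⁻¹) * h₃ = b by group]
    exact hb
  have hWo : W.map (MulAut.conj (h₃⁻¹ * (o : G))).toMonoidHom = W := by
    refine hwc.2 _ ?_
    rintro _ ⟨a, ha, rfl⟩
    have h1 : (o * ⟨a, hWC ha⟩ * o⁻¹ : Subgroup.centralizer ({x} : Set G)) ∈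
        (o • P₂ : Sylow 2 (Subgroup.centralizer ({x} : Set G))) :=
      Subgroup.mem_map_of_mem _ (hP₂ (show (⟨a, hWC ha⟩ :
        Subgroup.centralizer ({x} : Set G)) ∈ W.subgroupOf _ from ha))
    rw [ho] at h1
    have h2 := hT₃ _ h1
    show h₃⁻¹ * (o : G) * a * (h₃⁻¹ * (o : G))⁻¹ ∈ (T : Subgroup G)
    simpa [mul_assoc] using h2
  have hu₁W : h₃⁻¹ * u₁ * h₃ ∈ W := by
    have h2 := hT₃ _ (hP₁ (show (⟨u₁, hu₁C⟩ : Subgroup.centralizer ({x} : Set G)) ∈
      (Subgroup.zpowers u₁).subgroupOf _ from Subgroup.mem_zpowers u₁))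
    have e' : h₃⁻¹ * u₁ * h₃ = (h₃⁻¹ * c₀⁻¹ * s) * w₀ * (h₃⁻¹ * c₀⁻¹ * s)⁻¹ := by
      rw [hu₁, hu]; group
    simp only at h2
    rw [e'] at h2 ⊢
    exact strong T hWZ hwc hw₀ h2
  rw [← hWo] at hu₁W
  obtain ⟨w', hw', hw'e⟩ := hu₁W
  have hw'e' : h₃⁻¹ * (o : G) * w' * (h₃⁻¹ * (o : G))⁻¹ = h₃⁻¹ * u₁ * h₃ := hw'e
  have hou : (o : G) * w' * (o : G)⁻¹ = u₁ := by
    calc (o : G) * w' * (o : G)⁻¹ = h₃ * (h₃⁻¹ * (o : G) * w' * (h₃⁻¹ * (o : G))⁻¹) * h₃⁻¹ := by group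
      _ = u₁ := by rw [hw'e']; group
  set g := c₀ * (o : G) with hg
  have hgu : g * w' * g⁻¹ = u := by
    rw [hg, show c₀ * (o : G) * w' * (c₀ * (o : G))⁻¹ = c₀ * ((o : G) * w' * (o : G)⁻¹) * c₀⁻¹ by group,
      hou, hu₁]
    group
  have hgx : g * x * g⁻¹ = u * z := by
    have hox : (o : G) * x * (o : G)⁻¹ = x := by
      rw [Subgroup.mem_centralizer_singleton_iff.mp o.2, mul_inv_cancel_right]
    rw [hg, show c₀ * (o : G) * x * (c₀ * (o : G))⁻¹ = c₀ * ((o : G) * x * (o : G)⁻¹) * c₀⁻¹ by group,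
      hox, hx1]
  set z' := w' * x with hz'
  have hgz : g * z' * g⁻¹ = z := by
    rw [hz', show g * (w' * x) * g⁻¹ = (g * w' * g⁻¹) * (g * x * g⁻¹) by group, hgu, hgx,
      ← mul_assoc, huu, one_mul]
  have hw'2 : w' * w' = 1 := by
    have : g * (w' * w') * g⁻¹ = 1 := by
      rw [show g * (w' * w') * g⁻¹ = (g * w' * g⁻¹) * (g * w' * g⁻¹) by group, hgu, huu]
    exact conj_eq_one_iff.mp this
  have hw'x : w' * x = x * w' :=
    (Subgroup.mem_centralizer_iff.mp (hWZ hw').2 x hxT).symm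
  have hz'2 : orderOf z' = 2 := by
    refine orderOf_eq_prime ?_ ?_
    · rw [pow_two, hz', show w' * x * (w' * x) = w' * (x * w') * x by group, ← hw'x,
        show w' * (w' * x) * x = (w' * w') * (x * x) by group, hw'2, hxx, one_mul]
    · intro e'
      refine hxW ?_
      rw [hz', mul_eq_one_iff_inv_eq] at e'
      exact e' ▸ inv_mem hw'
  have hzX : z' ∈ coset W t :=
    ⟨⟨w' * w₁, mul_mem hw' hw₁, by rw [mul_assoc, hw₁x]⟩, hz'2⟩
  refine ⟨z', hzX, fun χ hχ => ?_⟩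
  -- the odd part lies in the odd core of `C(z')`
  set C := Subgroup.centralizer ({z'} : Set G) with hC
  set e' := g⁻¹ * e * g with he'
  have hze : z * e = e * z := (Commute.pow_left hzd (m + 1)).eq.symm
  have he'C : e' ∈ C := by
    refine Subgroup.mem_centralizer_singleton_iff.mpr ?_
    rw [he', ← mul_left_cancel_iff (a := g), ← mul_right_cancel_iff (a := g⁻¹)]
    calc g * (g⁻¹ * e * g * z') * g⁻¹ = e * (g * z' * g⁻¹) := by group
      _ = (g * z' * g⁻¹) * e := by rw [hgz, hze]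
      _ = _ := by group
  have hw'C : w' ∈ C := by
    refine Subgroup.mem_centralizer_singleton_iff.mpr ?_
    rw [hz', mul_assoc, ← hw'x]
  have hcon : w' * e' * w'⁻¹ = e'⁻¹ := by
    have h1 : u * e * u⁻¹ = e⁻¹ := hinv (m + 1)
    rw [← hgu] at h1
    rw [he', ← mul_left_cancel_iff (a := g), ← mul_right_cancel_iff (a := g⁻¹)]
    calc g * (w' * (g⁻¹ * e * g) * w'⁻¹) * g⁻¹ = g * w' * g⁻¹ * e * (g * w' * g⁻¹)⁻¹ := by group
      _ = e⁻¹ := h1
      _ = _ := by group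
  have he'odd : Odd (orderOf e') := by
    rw [he', show g⁻¹ * e * g = MulAut.conj g⁻¹ e by simp [MulAut.conj_apply], MulEquiv.orderOf_eq]
    exact heodd
  set ec : C := ⟨e', he'C⟩ with hec
  set wc : C := ⟨w', hw'C⟩ with hwcdef
  have hz'X := hcos (w' * w₁) (mul_mem hw' hw₁) (by rw [mul_assoc, hw₁x]; exact hz'2)
  rw [show w' * w₁ * t = z' by rw [mul_assoc, hw₁x]] at hz'X
  have hwN : wc ∈ Cfsg.pPrimePCore 2 C := hz'X (show wc ∈ W.subgroupOf C from hw')
  haveI hPn : (Cfsg.pPrimePCore 2 C).Normal := Fusion.pPrimePCore_normal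
  have hsq : ec * ec ∈ Cfsg.pPrimePCore 2 C := by
    have h1 : wc * (ec * wc⁻¹ * ec⁻¹) ∈ Cfsg.pPrimePCore 2 C :=
      mul_mem hwN (hPn.conj_mem _ (inv_mem hwN) ec)
    have h2 : wc * (ec * wc⁻¹ * ec⁻¹) = (ec * ec)⁻¹ := Subtype.ext (by
      simp only [Subgroup.coe_mul, Subgroup.coe_inv, hec, hwcdef, mul_inv_rev]
      rw [← hcon]
      group)
    rw [h2] at h1
    exact inv_mem_iff.mp h1
  have hordec : Odd (orderOf ec) := by rw [← Subgroup.orderOf_coe]; exact he'odd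
  have hecO : ec ∈ oddCore C := by
    have hq : QuotientGroup.mk' (Cfsg.pPrimeCore 2 C) (ec * ec) ∈ Cfsg.pCore 2 (C ⧸ Cfsg.pPrimeCore 2 C) :=
      hsq
    obtain ⟨i, hi⟩ := (Fusion.isPGroup_pCore 2 (C ⧸ Cfsg.pPrimeCore 2 C)) ⟨_, hq⟩
    have hi' := congrArg Subtype.val hi
    rw [SubgroupClass.coe_pow, OneMemClass.coe_one, ← map_pow, QuotientGroup.mk'_apply,
      QuotientGroup.eq_one_iff, ← pow_two, ← pow_mul] at hi'
    have hcop : Nat.Coprime (2 * 2 ^ i) (orderOf ec) := by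
      rw [← pow_succ']
      exact Nat.Coprime.pow_left _ (Nat.prime_two.coprime_iff_not_dvd.mpr
        (fun hd => (Nat.not_even_iff_odd.mpr hordec) (even_iff_two_dvd.mpr hd)))
    obtain ⟨a, ha⟩ := exists_pow_eq_self_of_coprime hcop
    rw [← ha]
    exact pow_mem hi' a
  have hsec := principal_section_const hM (x := z') ⟨1, by rw [hz'2, pow_one]⟩ (oddCore C)
    (fun hd => (Nat.not_even_iff_odd.mpr (card_oddCore_odd C)) (even_iff_two_dvd.mpr hd))
    χ hχ 1 ec hecO (by simp)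
    (by
      rw [mul_one]
      exact fun hd => (Nat.not_even_iff_odd.mpr hordec) (even_iff_two_dvd.mpr hd))
  simp only [mul_one, Subgroup.coe_one, hec] at hsec
  rw [← hsec, ← hde]
  have hcf := isClassFunction_character (irr_isCharacter χ.2)
  rw [← hcf (z' * e') g]
  congr 1
  rw [he', ← hgz]
  group


/-- A non-simplicity criterion by weak closure. Let T be a Sylow 2-subgroup of a finite group G, W a nontrivial subgroup of the centre of T that is weakly closed in T with respect to G, and t an involution of T outside W. Suppose that for every involution x in the coset Wt, W lies in O_{2',2}(C_G(x)), the preimage of O₂ of C_G(x)/O_{2'}(C_G(x)). Then G is not simple. -/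
theorem result {G : Type*} [Group G] [Finite G]
    (T : Sylow 2 G) (W : Subgroup G) (hW1 : W ≠ ⊥) (hWZ : W ≤ (T : Subgroup G) ⊓ Subgroup.centralizer ((T : Subgroup G) : Set G))
    (hwc : Cfsg.IsWeaklyClosed W (T : Subgroup G)) (t : G) (ht : orderOf t = 2) (htT : t ∈ (T : Subgroup G)) (htW : t ∉ W)
    (hcos : ∀ w ∈ W, orderOf (w * t) = 2 →
      W.subgroupOf (Subgroup.centralizer ({w * t} : Set G)) ≤ Cfsg.pPrimePCore 2 ↥(Subgroup.centralizer ({w * t} : Set G))) :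
    ¬ IsSimpleGroup G := by
  intro hsimp
  classical
  letI := Fintype.ofFinite G
  haveI : Fact (Nat.Prime 2) := ⟨Nat.prime_two⟩
  haveI : Nontrivial W := W.nontrivial_iff_ne_bot.2 hW1
  obtain ⟨k, hk⟩ := (T.2.to_le (hWZ.trans inf_le_left)).exists_card_eq
  have h2 : 2 ∣ Nat.card W := by
    have h1 : 1 < Nat.card W := Finite.one_lt_card
    rcases Nat.eq_zero_or_pos k with rfl | hk0
    · rw [hk, pow_zero] at h1
      exact absurd h1 (lt_irrefl 1)
    · exact hk ▸ dvd_pow_self 2 hk0.ne'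
  obtain ⟨w, hw⟩ := exists_prime_orderOf_dvd_card' 2 h2
  rw [← Subgroup.orderOf_coe] at hw
  obtain ⟨M, hM⟩ := exists_pModular Nat.prime_two
  obtain ⟨χ, hne, hχ⟩ := exists_kernel_char hM (w : G) t (coset W t)
    ⟨⟨1, one_mem W, one_mul t⟩, ht⟩ (fun x hx => hx.2)
    (fun x hx s => step hM T W hWZ hwc t htT htW hcos w.2 hw hx s)
  have := eq_one_of_kernel hne hχ
  rw [this, orderOf_one] at hw
  exact absurd hw (by decide)


end Cfsg.Agent.S3312
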