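import Cfsg.Statements.S3315
import Mathlib
import Cfsg.Agent.Lib.Lie.UnitarySylow
-- import your own Cfsg.Agent.* helpers here

set_option autoImplicit false
open Cfsg

namespace Cfsg.Agent.S3315

open Cfsg.Agent.Lie.UnitarySylow in
theorem solve_as {F : Type*} [Field F] [Finite F] [CharP F 2] (σ : F ≃+* F) (f : F → F)
    (hadd : ∀ a b, σ a = a → σ b = b → f (a + b) = f a + f b)
    (hmul : ∀ a b, σ a = a → σ b = b → f (a * b) = f a * f b)
    (hff : ∀ a, σ a = a → f (f a) = a) (hfK : ∀ a, σ a = a → σ (f a) = f a) (hf1 : f 1 = 1)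
    {l : F} (hlσ : σ l = l) (hl : f l ≠ l) {k : F} (hkσ : σ k = k) (hk : f k = k) :
    ∃ w, σ w = w ∧ w * w + w = k := by
  classical
  haveI := Fintype.ofFinite F
  have hs : f l + l ≠ 0 := fun h => hl (CharTwo.add_eq_zero.1 h)
  set s := f l + l with hsdef
  have hsσ : σ s = s := by rw [hsdef, map_add, hfK l hlσ, hlσ]
  have hfs : f s = s := by rw [hsdef, hadd _ _ (hfK l hlσ) hlσ, hff l hlσ, add_comm]
  set e := l / s with hedef
  have heσ : σ e = e := by rw [hedef, map_div₀, hlσ, hsσ]
  have hfe : f e = e + 1 := by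
    have h1 : f e * f s = f l := by rw [← hmul e s heσ hsσ, hedef, div_mul_cancel₀ _ hs]
    rw [hfs] at h1
    rw [eq_div_iff hs |>.2 h1, hedef, div_add_one hs, hsdef]
    congr 1
    linear_combination (-l) * (CharTwo.two_eq_zero (R := F))
  let Y : Finset F := Finset.univ.filter fun y => σ y = y ∧ (f y + y = 0 ∨ f y + y = 1)
  let F0 : Finset F := Finset.univ.filter fun y => σ y = y ∧ f y = y
  let P : F → F := fun y => y * y + y
  have hP : ∀ y ∈ Y, P y ∈ F0 := fun y hy => by
    simp only [Y, F0, P, Finset.mem_filter, Finset.mem_univ, true_and] at hy ⊢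
    obtain ⟨hyσ, hy⟩ := hy
    refine ⟨by rw [map_add, map_mul, hyσ], ?_⟩
    rw [hadd _ _ (by rw [map_mul, hyσ]) hyσ, hmul _ _ hyσ hyσ]
    rcases hy with h | h
    · rw [CharTwo.add_eq_zero.1 h]
    · rw [show f y = y + 1 by linear_combination h - y * (CharTwo.two_eq_zero (R := F))]
      linear_combination (y + 1) * (CharTwo.two_eq_zero (R := F))
  have h2 : 2 * F0.card ≤ Y.card := by
    have hd : Disjoint F0 (F0.image (· + e)) := by
      rw [Finset.disjoint_left]
      intro a ha ha'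
      simp only [F0, Finset.mem_image, Finset.mem_filter, Finset.mem_univ, true_and] at ha ha'
      obtain ⟨b, ⟨hbσ, hb⟩, rfl⟩ := ha'
      have := ha.2
      rw [hadd _ _ hbσ heσ, hb, hfe] at this
      exact one_ne_zero (α := F) (by linear_combination this)
    have hsub : F0 ∪ F0.image (· + e) ⊆ Y := by
      intro a ha
      simp only [Y, F0, Finset.mem_union, Finset.mem_image, Finset.mem_filter, Finset.mem_univ, true_and] at ha ⊢
      rcases ha with ⟨haσ, ha⟩ | ⟨b, ⟨hbσ, hb⟩, rfl⟩
      · exact ⟨haσ, Or.inl (by rw [ha, CharTwo.add_self_eq_zero])⟩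
      · refine ⟨by rw [map_add, hbσ, heσ], Or.inr ?_⟩
        rw [hadd _ _ hbσ heσ, hb, hfe]
        linear_combination (b + e) * (CharTwo.two_eq_zero (R := F))
    have := Finset.card_le_card hsub
    rw [Finset.card_union_of_disjoint hd, Finset.card_image_of_injective _ (add_left_injective e)] at this
    omega
  have h3 : Y.card ≤ 2 * (Y.image P).card := by
    refine Finset.card_le_mul_card_image Y 2 fun b hb => ?_
    obtain ⟨a, -, rfl⟩ := Finset.mem_image.1 hb
    refine le_trans (Finset.card_le_card (t := {a, a + 1}) fun c hc => ?_) Finset.card_le_two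
    simp only [P, Finset.mem_filter] at hc
    have hz : (c + a) * (c + a + 1) = 0 := by
      linear_combination hc.2 + (c * a + a * a + a) * (CharTwo.two_eq_zero (R := F))
    rw [Finset.mem_insert, Finset.mem_singleton]
    rcases mul_eq_zero.1 hz with h | h
    · exact Or.inl (CharTwo.add_eq_zero.1 h)
    · exact Or.inr (CharTwo.add_eq_zero.1 (by linear_combination h))
  have himg : Y.image P = F0 :=
    Finset.eq_of_subset_of_card_le (Finset.image_subset_iff.2 hP) (by omega)
  have hk' : k ∈ Y.image P := by rw [himg]; simp [F0, hkσ, hk]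
  obtain ⟨w, hw, rfl⟩ := Finset.mem_image.1 hk'
  simp only [Y, Finset.mem_filter] at hw
  exact ⟨w, hw.2.1, rfl⟩

theorem field_core {F : Type*} [Field F] [Finite F] [CharP F 2] (σ : F ≃+* F)
    (hinv : ∀ a, σ (σ a) = a) (hne : ∃ c, σ c ≠ c) (α β : F → F)
    (hα : ∀ a b, α (a + b) = α a + α b) (hα2 : ∀ a, α (α a) = a)
    (hβadd : ∀ a b, σ a = a → σ b = b → β (a + b) = β a + β b)
    (hN : ∀ a, β (a * σ a) = α a * σ (α a)) : ∀ z, σ z = z → β z = z := by
  classical
  have h2 : (2 : F) = 0 := CharTwo.two_eq_zero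
  have hα0 : α 0 = 0 := by simpa using hα 0 0
  have hαinj : Function.Injective α := Function.LeftInverse.injective hα2
  have hαne : ∀ a, a ≠ 0 → α a ≠ 0 := fun a ha h => ha (hαinj (by rw [h, hα0]))
  have hN0 : ∀ a, σ (a * σ a) = a * σ a := fun a => by rw [map_mul, hinv, mul_comm]
  let B : F → F → F := fun a b => σ a * b + σ b * a
  have hB0 : ∀ a b, σ (B a b) = B a b := fun a b => by
    simp only [B, map_add, map_mul, hinv]; ring
  have hNadd : ∀ a b, (a + b) * σ (a + b) = a * σ a + b * σ b + B a b := fun a b => by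
    simp only [B, map_add]; ring
  have hBα : ∀ a b, B (α a) (α b) = β (B a b) := fun a b => by
    have h := hN (a + b)
    rw [hNadd, hβadd _ _ (by rw [map_add, hN0, hN0]) (hB0 a b), hβadd _ _ (hN0 a) (hN0 b), hN, hN, hα, hNadd] at h
    linear_combination -h
  have hβ0 : β 0 = 0 := by simpa using hβadd 0 0 (map_zero σ) (map_zero σ)
  have key : ∀ u v, u ≠ 0 → B u v = 0 → σ (v / u) = v / u := fun u v hu h => by
    have hu' : σ u ≠ 0 := fun h0 => hu ((map_eq_zero σ).1 h0)
    rw [map_div₀, div_eq_div_iff hu' hu]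
    simp only [B] at h
    linear_combination h - σ u * v * h2
  -- the coefficient function
  let f : F → F := fun a => α a / α 1
  have hα1 : α 1 ≠ 0 := hαne 1 one_ne_zero
  have hsm : ∀ l x, σ l = l → ∃ t, σ t = t ∧ α (l * x) = t * α x := fun l x hl => by
    by_cases hx : x = 0
    · exact ⟨0, map_zero σ, by rw [hx, mul_zero, hα0, zero_mul]⟩
    · refine ⟨α (l * x) / α x, key _ _ (hαne x hx) ?_, (div_mul_cancel₀ _ (hαne x hx)).symm⟩
      rw [hBα]
      rw [show B x (l * x) = 0 by simp only [B, map_mul, hl]; linear_combination (σ x * l * x) * h2, hβ0]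
  have hf1 : ∀ l, α l = f l * α 1 := fun l => (div_mul_cancel₀ _ hα1).symm
  have hfK : ∀ l, σ l = l → σ (f l) = f l := fun l hl => by
    refine key _ _ hα1 ?_
    rw [hBα, show B 1 l = 0 by simp only [B, map_one, hl]; linear_combination l * h2, hβ0]
  have hfadd : ∀ a b, σ a = a → σ b = b → f (a + b) = f a + f b := fun a b _ _ => by
    simp only [f, hα, add_div]
  obtain ⟨c, hc⟩ := hne
  have hind : ∀ s t, σ s = s → σ t = t → s * α 1 + t * α c = 0 → s = 0 ∧ t = 0 := fun s t hs ht h => by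
    by_cases ht0 : t = 0
    · rw [ht0, zero_mul, add_zero] at h
      exact ⟨(mul_eq_zero.1 h).resolve_right hα1, ht0⟩
    · exfalso
      have hc' : α c = (s / t) * α 1 := by
        field_simp
        linear_combination h - (s * α 1) * h2
      have hst : σ (s / t) = s / t := by rw [map_div₀, hs, ht]
      have hBz : B (α 1) (α c) = 0 := by
        rw [hc']; simp only [B, map_mul, hst]; linear_combination ((s / t) * σ (α 1) * α 1) * h2
      have hb : B 1 c ≠ 0 := fun h0 => hc (by
        simp only [B, map_one] at h0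
        linear_combination h0 - c * h2)
      rw [hBα] at hBz
      obtain ⟨w, hw⟩ : ∃ w : F, w * w = B 1 c := by
        have hinj : Function.Injective (fun l : F => l * l) := fun a b hab => by
          have hab' : a * a = b * b := hab
          have : (a + b) * (a + b) = 0 := by linear_combination hab' + (b * b + a * b) * h2
          exact CharTwo.add_eq_zero.1 (mul_self_eq_zero.1 this)
        exact Finite.surjective_of_injective hinj _
      have hwσ : σ w = w := by
        have : (σ w + w) * (σ w + w) = 0 := by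
          have h1 : σ w * σ w = w * w := by rw [← map_mul, hw, hB0]
          linear_combination h1 + (w * w + σ w * w) * h2
        exact CharTwo.add_eq_zero.1 (mul_self_eq_zero.1 this)
      rw [← hw, show w * w = w * σ w by rw [hwσ], hN, mul_eq_zero, map_eq_zero, or_self] at hBz
      exact hb (by rw [← hw, hαinj (hBz.trans hα0.symm), mul_zero])
  have hfc : ∀ l, σ l = l → α (l * c) = f l * α c := fun l hl => by
    obtain ⟨t, ht, htc⟩ := hsm l c hl
    obtain ⟨u, hu, huc⟩ := hsm l (1 + c) hl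
    rw [mul_add, mul_one, hα, hα, htc, hf1 l] at huc
    have h := hind (f l + u) (t + u) (by rw [map_add, hfK l hl, hu]) (by rw [map_add, ht, hu])
      (by linear_combination huc + (u * α 1 + u * α c) * h2)
    rw [CharTwo.add_eq_zero, CharTwo.add_eq_zero] at h
    rw [htc, h.2, h.1]
  have hf11 : f 1 = 1 := div_self hα1
  have hfmul : ∀ a b, σ a = a → σ b = b → f (a * b) = f a * f b := fun a b ha hb => by
    obtain ⟨t, ht, htx⟩ := hsm a (b + c) ha
    rw [mul_add, hα, hα, hfc a ha, hf1 (a * b), hf1 b] at htx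
    have h := hind (f (a * b) + t * f b) (f a + t) (by rw [map_add, map_mul, hfK _ (by rw [map_mul, ha, hb]), ht, hfK b hb])
      (by rw [map_add, hfK a ha, ht]) (by linear_combination htx + (t * f b * α 1 + t * α c) * h2)
    rw [CharTwo.add_eq_zero, CharTwo.add_eq_zero] at h
    rw [h.1, h.2]
  -- decomposition over the fixed field
  have hdec : ∀ x : F, ∃ a b, σ a = a ∧ σ b = b ∧ x = a + b * c := fun x => by
    have hd : σ c + c ≠ 0 := fun h => hc (CharTwo.add_eq_zero.1 h)
    have hb : σ ((σ x + x) / (σ c + c)) = (σ x + x) / (σ c + c) := by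
      rw [map_div₀, map_add, map_add, hinv, hinv, add_comm x, add_comm c]
    refine ⟨x + (σ x + x) / (σ c + c) * c, _, ?_, hb, ?_⟩
    · rw [map_add, map_mul, hb]
      have hbd := div_mul_cancel₀ (σ x + x) hd
      linear_combination hbd + (σ x - (σ x + x) / (σ c + c) * c) * h2
    · linear_combination (-((σ x + x) / (σ c + c) * c)) * h2
  have hsemi : ∀ l x, σ l = l → α (l * x) = f l * α x := fun l x hl => by
    obtain ⟨a, b, ha, hb, rfl⟩ := hdec x
    rw [mul_add, hα, hα, ← mul_assoc, hfc _ (by rw [map_mul, hl, hb]), hfc b hb, hf1 (l * a), hf1 a,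
      hfmul l a hl ha, hfmul l b hl hb]
    ring
  have hff : ∀ a, σ a = a → f (f a) = a := fun a ha => by
    have h := hα2 a
    rw [hf1 a, hsemi _ _ (hfK a ha), hα2, mul_one] at h
    exact h
  have hsqK : ∀ z, σ z = z → ∃ s, σ s = s ∧ s * s = z := fun z hz => by
    have hinj : Function.Injective (fun l : F => l * l) := fun a b hab => by
      have hab' : a * a = b * b := hab
      have : (a + b) * (a + b) = 0 := by linear_combination hab' + (b * b + a * b) * h2
      exact CharTwo.add_eq_zero.1 (mul_self_eq_zero.1 this)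
    obtain ⟨s, hs⟩ := Finite.surjective_of_injective hinj z
    have hs' : s * s = z := hs
    refine ⟨s, ?_, hs'⟩
    have : (σ s + s) * (σ s + s) = 0 := by
      have h1 : σ s * σ s = s * s := by rw [← map_mul, hs', hz]
      linear_combination h1 + (s * s + σ s * s) * h2
    exact CharTwo.add_eq_zero.1 (mul_self_eq_zero.1 this)
  have hβ : ∀ z, σ z = z → β z = f z * (α 1 * σ (α 1)) := fun z hz => by
    obtain ⟨s, hs, rfl⟩ := hsqK z hz
    rw [hfmul s s hs hs, show s * s = s * σ s by rw [hs], hN, hf1 s, map_mul, hfK s hs]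
    ring
  set c0 := α 1 * σ (α 1) with hc0
  have hc0σ : σ c0 = c0 := hN0 _
  have hc02 : f c0 * c0 = 1 := by
    rw [← hβ c0 hc0σ, hc0, hN, hα2, map_one, one_mul]
  by_cases hid : ∀ l, σ l = l → f l = l
  · intro z hz
    have : (c0 + 1) * (c0 + 1) = 0 := by
      rw [hid c0 hc0σ] at hc02
      linear_combination hc02 + (c0 + 1) * h2
    rw [hβ z hz, hid z hz, CharTwo.add_eq_zero.1 (mul_self_eq_zero.1 this), mul_one]
  exfalso
  push Not at hid
  obtain ⟨l, hl, hfl⟩ := hid
  have hfix : ∀ y, α (y + α y) = y + α y := fun y => by rw [hα, hα2, add_comm]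
  obtain ⟨x1, hd1⟩ : ∃ x, x + α x ≠ 0 := by
    by_contra h
    push Not at h
    exact hfl (by
      show α l / α 1 = l
      rw [← CharTwo.add_eq_zero.1 (h l), ← CharTwo.add_eq_zero.1 (h 1), div_one])
  set d1 := x1 + α x1 with hd1def
  obtain ⟨x2, hd2⟩ : ∃ x, σ ((x + α x) / d1) ≠ (x + α x) / d1 := by
    by_contra h
    push Not at h
    have hx := h (c * d1)
    have hlx := h (l * (c * d1))
    have hne' : l + f l ≠ 0 := fun h0 => hfl (CharTwo.add_eq_zero.1 h0).symm
    have : σ c = c := by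
      have hval : c = ((l * (c * d1) + α (l * (c * d1))) / d1 + f l * ((c * d1 + α (c * d1)) / d1)) / (l + f l) := by
        rw [hsemi l _ hl]
        field_simp
        linear_combination (-(d1 * c * 0)) * h2 - (f l * α (c * d1)) * h2
      conv_lhs => rw [hval]
      conv_rhs => rw [hval]
      simp only [map_div₀, map_add, map_mul, hl, hfK l hl] at hx hlx ⊢
      rw [hx, hlx]
    exact hc this
  set d2 := x2 + α x2 with hd2def
  have hdd1 : α d1 = d1 := hfix x1
  have hdd2 : α d2 = d2 := hfix x2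
  set A := d1 * σ d1 with hA
  set D := d2 * σ d2 with hD
  set Bv := B d1 d2 with hBv
  have hA0 : A ≠ 0 := mul_ne_zero hd1 fun h => hd1 ((map_eq_zero σ).1 h)
  have hB00 : Bv ≠ 0 := fun h => hd2 (key _ _ hd1 h)
  have eA : f A * c0 = A := by rw [← hβ A (hN0 _), hA, hN, hdd1]
  have eD : f D * c0 = D := by rw [← hβ D (hN0 _), hD, hN, hdd2]
  have eB : f Bv * c0 = Bv := by rw [← hβ Bv (hB0 _ _), hBv, ← hBα, hdd1, hdd2]
  have hc00 : c0 ≠ 0 := fun h => by rw [h, mul_zero] at hc02; exact zero_ne_one hc02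
  have hBB : σ (Bv * Bv) = Bv * Bv := by rw [map_mul, hB0]
  have hkσ : σ (A * D / (Bv * Bv)) = A * D / (Bv * Bv) := by rw [map_div₀, map_mul, hN0, hN0, hBB]
  have hk : f (A * D / (Bv * Bv)) = A * D / (Bv * Bv) := by
    have hAD : σ (A * D) = A * D := by rw [map_mul, hN0, hN0]
    have h := hfmul _ _ hkσ hBB
    rw [div_mul_cancel₀ _ (mul_ne_zero hB00 hB00), hfmul _ _ (hN0 _) (hN0 _), hfmul _ _ (hB0 _ _) (hB0 _ _)] at h
    rw [eq_div_iff (mul_ne_zero hB00 hB00)]
    refine mul_right_cancel₀ (mul_ne_zero hc00 hc00) ?_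
    calc f (A * D / (Bv * Bv)) * (Bv * Bv) * (c0 * c0)
        = f (A * D / (Bv * Bv)) * ((f Bv * c0) * (f Bv * c0)) * (c0 * c0) := by rw [eB]
      _ = f A * c0 * (f D * c0) * (c0 * c0) := by linear_combination (-(c0 * c0 * (c0 * c0))) * h
      _ = A * D * (c0 * c0) := by rw [eA, eD]
  obtain ⟨w, hwσ, hw⟩ := solve_as σ f hfadd hfmul hff hfK hf11 hl hfl hkσ hk
  have hy : σ (Bv / A * w) = Bv / A * w := by rw [map_mul, map_div₀, hB0, hN0, hwσ]
  have hz0 : (Bv / A * w) * d1 + d2 ≠ 0 := fun h => hd2 (by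
    have : d2 / d1 = Bv / A * w := by
      rw [div_eq_iff hd1]
      linear_combination h - (Bv / A * w * d1) * h2
    rw [this, hy])
  refine mul_ne_zero hz0 (fun h => hz0 ((map_eq_zero σ).1 h)) ?_
  rw [hNadd, map_mul, hy]
  have hBy : B (Bv / A * w * d1) d2 = Bv / A * w * Bv := by
    simp only [hBv, B, map_mul, map_div₀, map_add] at hy ⊢
    rw [hy]; ring
  rw [hBy]
  calc Bv / A * w * d1 * (Bv / A * w * σ d1) + d2 * σ d2 + Bv / A * w * Bv
      = Bv * Bv / A * (w * w + w) + D := by rw [hA, hD]; field_simp; ring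
    _ = 0 := by
      rw [hw]; field_simp
      linear_combination D * h2

/-- Let S be a Sylow 2-subgroup of SU₃(2ⁿ), n ≥ 2 (realised over the field with 4ⁿ elements). If a finite 2-group R contains a subgroup S' of index 2 isomorphic to S, then the centre of S' is contained in the centre of R. -/
theorem result {R : Type*} [Group R] [Finite R]
    (hR : IsPGroup 2 R) (n : ℕ) (hn : 2 ≤ n) {F : Type*} [Field F] [Fintype F] (hF : Fintype.card F = 4 ^ n)
    (P : Sylow 2 ↥(Cfsg.SU 3 F (2 ^ n))) (S' : Subgroup R) (hS : Nonempty (↥S' ≃* ↥(P : Subgroup ↥(Cfsg.SU 3 F (2 ^ n)))))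
    (hidx : S'.index = 2) :
    (Subgroup.center ↥S').map S'.subtype ≤ Subgroup.center R := by
  classical
  haveI : Fact (Nat.Prime 2) := ⟨Nat.prime_two⟩
  haveI : CharP F 2 := charP_of_card_eq_prime_pow (p := 2) (f := 2 * n) (by rw [hF, pow_mul]; norm_num)
  have hF' : Fintype.card F = (2 ^ n) ^ 2 := by rw [hF, ← pow_mul, mul_comm, pow_mul]; norm_num
  obtain ⟨σ, hσ⟩ := Cfsg.Agent.Lie.UnitarySylow.sigma_props (by omega : 1 ≤ n) hF'
  letI := Cfsg.Agent.Lie.UnitarySylow.uGroup hσ
  obtain ⟨e0⟩ := Cfsg.Agent.Lie.UnitarySylow.sylow_SU hσ (by omega : 1 ≤ n) rfl P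
  obtain ⟨e1⟩ := hS
  let e := e0.trans e1.symm
  haveI hN : S'.Normal := Subgroup.normal_of_index_eq_two hidx
  rintro _ ⟨c, hc, rfl⟩
  rw [Subgroup.mem_center_iff]
  intro r
  by_cases hr : r ∈ S'
  · exact congrArg Subtype.val (Subgroup.mem_center_iff.1 hc ⟨r, hr⟩)
  have hr2 : r * r ∈ S' := Subgroup.mul_self_mem_of_index_two hidx r
  let ψ : Cfsg.Agent.Lie.UnitarySylow.U σ ≃* Cfsg.Agent.Lie.UnitarySylow.U σ :=
    e.trans ((MulAut.conjNormal r).trans e.symm)
  have hψ : ∀ g, e (ψ g) = MulAut.conjNormal r (e g) := fun g => e.apply_symm_apply _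
  have hψ0 : ∀ g, g.x = 0 → (ψ g).x = 0 := fun g hg =>
    (Cfsg.Agent.Lie.UnitarySylow.sq_eq_one_iff hσ _).1 (by
      rw [← map_mul, (Cfsg.Agent.Lie.UnitarySylow.sq_eq_one_iff hσ g).2 hg, map_one])
  have hψx : ∀ g h, g.x = h.x → (ψ g).x = (ψ h).x := fun g h hgh => by
    have h1 : (g⁻¹ * h).x = 0 := by
      show g.x + h.x = 0
      rw [hgh, CharTwo.add_self_eq_zero]
    have h2 := hψ0 _ h1
    rw [map_mul, map_inv] at h2
    exact CharTwo.add_eq_zero.1 h2
  choose pick hpick using Cfsg.Agent.Lie.UnitarySylow.exists_z hσ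
  let α : F → F := fun x => (ψ (pick x)).x
  have hαg : ∀ g, (ψ g).x = α g.x := fun g => hψx _ _ (hpick _).symm
  have hα : ∀ a b, α (a + b) = α a + α b := fun a b => by
    have h := hαg (pick a * pick b)
    rw [map_mul, Cfsg.Agent.Lie.UnitarySylow.mul_x hσ, Cfsg.Agent.Lie.UnitarySylow.mul_x hσ, hpick, hpick] at h
    exact h.symm
  have hα2 : ∀ a, α (α a) = a := fun a => by
    rw [← hαg (ψ (pick a))]
    have h2 : e (ψ (ψ (pick a))) = e (e.symm ⟨r * r, hr2⟩ * pick a * (e.symm ⟨r * r, hr2⟩)⁻¹) := by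
      rw [hψ, hψ, map_mul, map_mul, map_inv, e.apply_symm_apply]
      refine Subtype.ext ?_
      simp [mul_assoc]
    rw [e.injective h2]
    show (e.symm ⟨r * r, hr2⟩).x + (pick a).x + (e.symm ⟨r * r, hr2⟩).x = a
    rw [hpick]
    linear_combination (e.symm ⟨r * r, hr2⟩).x * (CharTwo.two_eq_zero (R := F))
  let β : F → F := fun z => if hz : σ z = z then (ψ (Cfsg.Agent.Lie.UnitarySylow.central z hz)).z else 0
  have hβg : ∀ g, g.x = 0 → (ψ g).z = β g.z := fun g hg => by
    simp only [β, dif_pos (Cfsg.Agent.Lie.UnitarySylow.z_fixed hg)]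
    exact congrArg (fun u => (ψ u).z) (Cfsg.Agent.Lie.UnitarySylow.U.ext hg rfl)
  have hβadd : ∀ a b, σ a = a → σ b = b → β (a + b) = β a + β b := fun a b ha hb => by
    let ga := Cfsg.Agent.Lie.UnitarySylow.central a ha
    let gb := Cfsg.Agent.Lie.UnitarySylow.central b hb
    have hx : (ga * gb).x = 0 := by show (0 : F) + 0 = 0; rw [add_zero]
    have hz : (ga * gb).z = a + b := by show a + b + σ 0 * 0 = a + b; rw [mul_zero, add_zero]
    have h := hβg _ hx
    rw [hz, map_mul, Cfsg.Agent.Lie.UnitarySylow.mul_z hσ, hψ0 ga rfl, hψ0 gb rfl, mul_zero, add_zero,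
      hβg ga rfl, hβg gb rfl] at h
    exact h.symm
  have hNN : ∀ a, β (a * σ a) = α a * σ (α a) := fun a => by
    have h := hβg (pick a * pick a) (Cfsg.Agent.Lie.UnitarySylow.sq_x hσ _)
    rw [map_mul, Cfsg.Agent.Lie.UnitarySylow.sq_z hσ, Cfsg.Agent.Lie.UnitarySylow.sq_z hσ, hαg, hpick] at h
    exact h.symm
  have hne : ∃ t, σ t ≠ t := by
    by_contra h
    push Not at h
    exact hσ.ne_refl (RingEquiv.ext h)
  have hfix := field_core σ hσ.involutive hne α β hα hα2 hβadd hNN
  have hg : (e.symm c).x = 0 := by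
    rw [← Cfsg.Agent.Lie.UnitarySylow.mem_center_iff hσ, Subgroup.mem_center_iff]
    intro k
    apply e.injective
    rw [map_mul, map_mul, e.apply_symm_apply]
    exact Subgroup.mem_center_iff.1 hc (e k)
  have hfc : ψ (e.symm c) = e.symm c := by
    refine Cfsg.Agent.Lie.UnitarySylow.U.ext ?_ ?_
    · rw [hψ0 _ hg, hg]
    · rw [hβg _ hg, hfix _ (Cfsg.Agent.Lie.UnitarySylow.z_fixed hg)]
  have h := hψ (e.symm c)
  rw [hfc, e.apply_symm_apply] at h
  have h' : (c : R) = r * c * r⁻¹ := congrArg Subtype.val h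
  exact (eq_mul_inv_iff_mul_eq.1 h').symm

end Cfsg.Agent.S3315
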