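import Cfsg.Statements.S3332
import Cfsg.Agent.Lib.Lead.CoreFreeScn

set_option autoImplicit false
open Cfsg

namespace Cfsg.Agent.S3332

/-- Let G be a finite group of 2-rank at least 4 with O_{2'}(G) = 1 whose Sylow 2-subgroup S has a normal abelian subgroup of rank at least 3 that is its own centralizer in S. If the centralizer of every involution of G is solvable, then O_{2'}(C_G(t)) = 1 for every involution t of G. -/
theorem result {G : Type*} [Group G] [Finite G]
    (hrank : ¬ Cfsg.PRankLE 2 3 G) (hO : Cfsg.oddCore G = ⊥) (S : Sylow 2 G)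
    (A : Subgroup G) (hAS : A ≤ S) (hAn : (A.subgroupOf S).Normal) (hAc : IsMulCommutative A)
    (hAself : (S : Subgroup G) ⊓ Subgroup.centralizer (A : Set G) = A) (hA3 : ¬ Cfsg.PRankLE 2 2 A)
    (hsol : ∀ t : G, orderOf t = 2 → Group.IsSolvable (Subgroup.centralizer ({t} : Set G))) :
    ∀ t : G, orderOf t = 2 → Cfsg.oddCore (Subgroup.centralizer ({t} : Set G)) = ⊥ := by
  intro t ht
  have h := Scn3.cores_trivial (Scn3.locCons_of_solvable hsol) hO S (A.subgroupOf (S : Subgroup G)) hAn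
    ⟨⟨fun x y => Subtype.ext (Subtype.ext (congrArg Subtype.val
      (hAc.is_comm.comm ⟨_, x.2⟩ ⟨_, y.2⟩) :))⟩⟩ ?_ ?_ t ht
  · exact (Subgroup.map_eq_bot_iff_of_injective _ (Subgroup.subtype_injective _)).1 h
  · ext x
    rw [Subgroup.mem_centralizer_iff, Subgroup.mem_subgroupOf]
    refine ⟨fun hx => hAself ▸ ⟨x.2, Subgroup.mem_centralizer_iff.2 fun a ha =>
      congrArg Subtype.val (hx ⟨a, hAS ha⟩ ha)⟩, fun hx a ha => Subtype.ext ?_⟩
    exact (congrArg Subtype.val (hAc.is_comm.comm ⟨_, ha⟩ ⟨_, hx⟩) :)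
  · intro h
    apply hA3
    intro B hBc hB2
    let e : ↥A ≃* ↥(A.subgroupOf (S : Subgroup G)) := (Subgroup.subgroupOfEquivOfLe hAS).symm
    rw [← Subgroup.card_map_of_injective (f := e.toMonoidHom) e.injective]
    refine h _ (Fusion.isMulCommutative_map _ hBc) ?_
    rintro _ ⟨b, hb, rfl⟩
    rw [← map_pow, hB2 b hb, map_one]

end Cfsg.Agent.S3332
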