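import Cfsg.Statements.S3335
import Mathlib
import Cfsg.Agent.Lib.Lie.SymCoxeter

set_option autoImplicit false
open Cfsg

namespace Cfsg.Agent.S3335

open Cfsg.Agent.Lie

variable {n : ℕ}

/-- The adjacent transposition of `k` and `k + 1`. -/
def sw (n k : ℕ) : Equiv.Perm (Fin n) :=
  if h : k + 1 < n then Equiv.swap ⟨k, by omega⟩ ⟨k + 1, h⟩ else 1

theorem sw_sq (k : ℕ) : sw n k * sw n k = 1 := by
  unfold sw; split_ifs <;> simp

theorem sign_sw {k : ℕ} (h : k + 1 < n) : Equiv.Perm.sign (sw n k) = -1 := by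
  rw [sw, dif_pos h]; exact Equiv.Perm.sign_swap (by simp [Fin.ext_iff])

theorem sw_three {k : ℕ} (h : k + 1 + 1 < n) : (sw n k * sw n (k + 1)) ^ 3 = 1 := by
  rw [sw, sw, dif_pos h, dif_pos (by omega : k + 1 < n)]
  rw [Equiv.swap_comm (⟨k, by omega⟩ : Fin n)]
  have h3 := (Equiv.Perm.isThreeCycle_swap_mul_swap_same (a := (⟨k + 1, by omega⟩ : Fin n))
    (b := ⟨k, by omega⟩) (c := ⟨k + 1 + 1, h⟩) (by simp [Fin.ext_iff]) (by simp [Fin.ext_iff])
    (by simp [Fin.ext_iff]; omega)).orderOf
  rw [← h3]; exact pow_orderOf_eq_one _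

theorem sw_comm {i j : ℕ} (h : i + 1 < j) : Commute (sw n i) (sw n j) := by
  unfold sw
  split_ifs with h1 h2
  · refine Equiv.Perm.Disjoint.commute fun x => ?_
    by_cases hx : (x : ℕ) = i ∨ (x : ℕ) = i + 1
    · right
      refine Equiv.swap_apply_of_ne_of_ne ?_ ?_ <;> simp [Fin.ext_iff] <;> omega
    · left
      refine Equiv.swap_apply_of_ne_of_ne ?_ ?_ <;> simp [Fin.ext_iff] <;> omega
  all_goals first | exact Commute.one_right _ | exact Commute.one_left _

/-- The image of a generator. -/
def gen (n k : ℕ) : Equiv.Perm (Fin n) := sw n 0 * sw n (k + 1)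

/-- The relators. -/
def rels (n : ℕ) : Set (FreeGroup (Fin (n - 2))) :=
      ({g : FreeGroup (Fin (n - 2)) | ∃ i : Fin (n - 2), i.val = 0 ∧ g = FreeGroup.of i ^ 3} ∪
       {g | ∃ i : Fin (n - 2), 1 ≤ i.val ∧ g = FreeGroup.of i ^ 2} ∪
       {g | ∃ i j : Fin (n - 2), j.val = i.val + 1 ∧ g = (FreeGroup.of i * FreeGroup.of j) ^ 3} ∪
       {g | ∃ i j : Fin (n - 2), i.val + 1 < j.val ∧ g = (FreeGroup.of i * FreeGroup.of j) ^ 2})

/-- The relations on a family of elements. -/
structure Sat {G : Type*} [Group G] (v : Fin (n - 2) → G) : Prop where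
  cube : ∀ i : Fin (n - 2), i.val = 0 → v i ^ 3 = 1
  sq : ∀ i : Fin (n - 2), 1 ≤ i.val → v i ^ 2 = 1
  three : ∀ i j : Fin (n - 2), j.val = i.val + 1 → (v i * v j) ^ 3 = 1
  two : ∀ i j : Fin (n - 2), i.val + 1 < j.val → (v i * v j) ^ 2 = 1

theorem Sat.lift {G : Type*} [Group G] {v : Fin (n - 2) → G} (h : Sat v) :
    ∀ r ∈ rels n, FreeGroup.lift v r = 1 := by
  rintro r (((⟨i, hi, rfl⟩ | ⟨i, hi, rfl⟩) | ⟨i, j, hij, rfl⟩) | ⟨i, j, hij, rfl⟩) <;>
    simp only [map_pow, map_mul, FreeGroup.lift_apply_of]
  · exact h.cube i hi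
  · exact h.sq i hi
  · exact h.three i j hij
  · exact h.two i j hij

theorem sat_of : Sat (fun i => (PresentedGroup.of i : PresentedGroup (rels n))) := by
  have e : ∀ r ∈ rels n, PresentedGroup.mk (rels n) r = 1 := fun r hr =>
    PresentedGroup.one_of_mem hr
  refine ⟨fun i h => ?_, fun i h => ?_, fun i j h => ?_, fun i j h => ?_⟩
  · exact (map_pow _ _ _).symm.trans (e _ (Or.inl (Or.inl (Or.inl ⟨i, h, rfl⟩))))
  · exact (map_pow _ _ _).symm.trans (e _ (Or.inl (Or.inl (Or.inr ⟨i, h, rfl⟩))))
  · have := e _ (Or.inl (Or.inr ⟨i, j, h, rfl⟩))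
    rwa [map_pow, map_mul] at this
  · have := e _ (Or.inr ⟨i, j, h, rfl⟩)
    rwa [map_pow, map_mul] at this

theorem inv_self {G : Type*} [Group G] {a : G} (ha : a ^ 2 = 1) : a⁻¹ = a :=
  inv_eq_of_mul_eq_one_right (by rw [← _root_.sq, ha])

theorem swap_pow {G : Type*} [Group G] {a b : G} {r : ℕ} (hb : b ^ 2 = 1) (h : (a * b) ^ r = 1) :
    (a⁻¹ * b) ^ r = 1 := by
  have hc := Commute.refl a
  have h' : (b * a) ^ r = 1 := by
    rw [show b * a = b * (a * b) * b⁻¹ by group, conj_pow, h]; group
  rw [← inv_eq_one, ← inv_pow, _root_.mul_inv_rev, inv_inv, inv_self hb]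
  exact h'

/-- The twisted generators. -/
def tw {G : Type*} [Group G] (v : Fin (n - 2) → G) : Fin (n - 2) → G :=
  fun i => if i.val = 0 then (v i)⁻¹ else v i

theorem Sat.twist {G : Type*} [Group G] {v : Fin (n - 2) → G} (h : Sat v) : Sat (tw v) := by
  refine ⟨fun i hi => ?_, fun i hi => ?_, fun i j hij => ?_, fun i j hij => ?_⟩
  · simp only [tw, hi, if_true]; rw [inv_pow, h.cube i hi, inv_one]
  · simp only [tw, show i.val ≠ 0 by omega, if_false]; exact h.sq i hi
  · simp only [tw, show j.val ≠ 0 by omega, if_false]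
    split_ifs with h0
    · exact swap_pow (h.sq j (by omega)) (h.three i j hij)
    · exact h.three i j hij
  · simp only [tw, show j.val ≠ 0 by omega, if_false]
    split_ifs with h0
    · exact swap_pow (h.sq j (by omega)) (h.two i j hij)
    · exact h.two i j hij

/-- The outer automorphism of the presented group. -/
def θ : MulAut (PresentedGroup (rels n)) :=
  let f : PresentedGroup (rels n) →* PresentedGroup (rels n) :=
    PresentedGroup.toGroup (f := tw fun i => PresentedGroup.of i) sat_of.twist.lift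
  have hf : f.comp f = MonoidHom.id _ := PresentedGroup.ext fun i => by
    simp only [f, MonoidHom.comp_apply, PresentedGroup.toGroup.of, MonoidHom.id_apply, tw]
    split_ifs with h <;> simp [tw, h]
  MonoidHom.toMulEquiv f f hf hf

theorem θ_of (i : Fin (n - 2)) :
    θ (PresentedGroup.of i : PresentedGroup (rels n)) = tw (fun i => PresentedGroup.of i) i := by
  simp [θ]

theorem θ_sq : θ * θ = (1 : MulAut (PresentedGroup (rels n))) := by
  refine MulEquiv.ext fun x => ?_
  exact (θ (n := n)).left_inv x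

/-- The action of the sign group. -/
noncomputable def act : ℤˣ →* MulAut (PresentedGroup (rels n)) where
  toFun u := if u = 1 then 1 else θ
  map_one' := if_pos rfl
  map_mul' a b := by
    rcases Int.units_eq_one_or a with rfl | rfl <;> rcases Int.units_eq_one_or b with rfl | rfl <;>
      simp [θ_sq]

theorem act_neg : act (n := n) (-1) = θ := by simp [act]

/-- A presentation of the alternating group of degree n ≥ 3 on generators x_1, …, x_{n−2} (indexed here by 0, …, n−3): the first generator cubes to 1, every other generator squares to 1, the product of two consecutive generators has order dividing 3, and the product of two generators at distance at least 2 has order dividing 2. The group so presented is isomorphic to the alternating group of degree n. -/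
theorem result (n : ℕ) (hn : 3 ≤ n) :
    Nonempty (PresentedGroup
      ({g : FreeGroup (Fin (n - 2)) | ∃ i : Fin (n - 2), i.val = 0 ∧ g = FreeGroup.of i ^ 3} ∪
       {g | ∃ i : Fin (n - 2), 1 ≤ i.val ∧ g = FreeGroup.of i ^ 2} ∪
       {g | ∃ i j : Fin (n - 2), j.val = i.val + 1 ∧ g = (FreeGroup.of i * FreeGroup.of j) ^ 3} ∪
       {g | ∃ i j : Fin (n - 2), i.val + 1 < j.val ∧ g = (FreeGroup.of i * FreeGroup.of j) ^ 2})
      ≃* alternatingGroup (Fin n)) := by
  classical
  let E := PresentedGroup (rels n) ⋊[act] ℤˣ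
  let t : E := SemidirectProduct.inr (-1)
  let X : ℕ → PresentedGroup (rels n) := fun k =>
    if h : k < n - 2 then PresentedGroup.of ⟨k, h⟩ else 1
  have hX : ∀ k (h : k < n - 2), X k = PresentedGroup.of ⟨k, h⟩ := fun k h => dif_pos h
  let s : ℕ → E := fun k => if k = 0 then t else t * SemidirectProduct.inl (X (k - 1))
  have ht : t * t = 1 := by rw [← map_mul]; simp
  have hconj : ∀ g, t * SemidirectProduct.inl g * t = (SemidirectProduct.inl (θ g) : E) := by
    intro g
    have hinv : t⁻¹ = t := inv_eq_of_mul_eq_one_right ht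
    have := SemidirectProduct.inl_aut (φ := act) (-1 : ℤˣ) g
    rw [act_neg, map_inv] at this
    rw [this, show (SemidirectProduct.inr (-1) : E)⁻¹ = t from hinv]
  have hsd : ∀ i j, s (i + 1) * s (j + 1) = (SemidirectProduct.inl (θ (X i) * X j) : E) := by
    intro i j
    show (t * SemidirectProduct.inl (X i)) * (t * SemidirectProduct.inl (X j)) = _
    rw [← mul_assoc, hconj, ← map_mul]
  have hs0 : ∀ j, s 0 * s (j + 1) = (SemidirectProduct.inl (X j) : E) := by
    intro j
    show t * (t * SemidirectProduct.inl (X j)) = _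
    rw [← mul_assoc, ht, one_mul]
  have hθX : ∀ i (h : i < n - 2), θ (X i) = tw (fun i => (PresentedGroup.of i : PresentedGroup (rels n))) ⟨i, h⟩ :=
    fun i h => by rw [hX i h, θ_of]
  have hsq : ∀ i < n - 1, s i * s i = 1 := by
    intro i hi
    rcases i with _ | i
    · exact ht
    · rw [hsd, hθX i (by omega), hX i (by omega), tw]
      split_ifs with h
      · simp
      · have := (sat_of (n := n)).sq ⟨i, by omega⟩ (show 1 ≤ i by simp at h; omega)
        rw [_root_.sq] at this
        rw [this, map_one]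
  have hrel : SymRels s (n - 1) := by
    refine ⟨hsq, fun i hi => ?_, fun i j hij hj => ?_⟩
    · refine braid_of_pow_three (hsq i (by omega)) (hsq _ hi) ?_
      rcases i with _ | i
      · rw [hs0, ← map_pow, hX 0 (by omega), (sat_of (n := n)).cube ⟨0, by omega⟩ rfl, map_one]
      · rw [hsd, ← map_pow, hθX i (by omega), hX (i + 1) (by omega)]
        have h3 := (sat_of (n := n)).twist.three ⟨i, by omega⟩ ⟨i + 1, by omega⟩ rfl
        rw [show tw (fun i => (PresentedGroup.of i : PresentedGroup (rels n))) ⟨i + 1, by omega⟩ =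
          PresentedGroup.of ⟨i + 1, by omega⟩ by simp [tw]] at h3
        rw [h3, map_one]
    · refine comm_of_pow_two (hsq i (by omega)) (hsq _ hj) ?_
      obtain ⟨j, rfl⟩ : ∃ j', j = j' + 1 := ⟨j - 1, by omega⟩
      rcases i with _ | i
      · rw [hs0, ← map_pow, hX j (by omega), (sat_of (n := n)).sq ⟨j, by omega⟩ (show 1 ≤ j by omega), map_one]
      · rw [hsd, ← map_pow, hθX i (by omega), hX j (by omega)]
        have h3 := (sat_of (n := n)).twist.two ⟨i, by omega⟩ ⟨j, by omega⟩ (show i + 1 < j by omega)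
        rw [show tw (fun i => (PresentedGroup.of i : PresentedGroup (rels n))) ⟨j, by omega⟩ =
          PresentedGroup.of ⟨j, by omega⟩ by simp [tw, show j ≠ 0 by omega]] at h3
        rw [h3, map_one]
  have hgen : Subgroup.closure (s '' {i | i < n - 1}) = ⊤ := by
    set L := Subgroup.closure (s '' {i | i < n - 1})
    have htL : t ∈ L := Subgroup.subset_closure ⟨0, (by omega : 0 < n - 1), rfl⟩
    have hXL : ∀ k < n - 2, (SemidirectProduct.inl (X k) : E) ∈ L := fun k hk => by
      rw [← hs0]
      exact mul_mem htL (Subgroup.subset_closure ⟨k + 1, (by omega : k + 1 < n - 1), rfl⟩)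
    have hinl : L.comap SemidirectProduct.inl = ⊤ := by
      rw [eq_top_iff, ← PresentedGroup.closure_range_of, Subgroup.closure_le]
      rintro _ ⟨i, rfl⟩
      rw [SetLike.mem_coe, Subgroup.mem_comap, show PresentedGroup.of i = X i from (hX i i.2).symm]
      exact hXL i i.2
    refine eq_top_iff.2 fun e _ => ?_
    rw [← SemidirectProduct.inl_left_mul_inr_right e]
    refine mul_mem (Subgroup.mem_comap.1 (hinl ▸ Subgroup.mem_top _)) ?_
    rcases Int.units_eq_one_or e.right with h | h <;> rw [h]
    · rw [map_one]; exact one_mem _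
    · exact htL
  obtain ⟨hEfin, hEle⟩ := hrel.card_le hgen
  haveI : Finite (PresentedGroup (rels n)) :=
    Finite.of_injective (SemidirectProduct.inl : _ →* E) SemidirectProduct.inl_injective
  have hcE : Nat.card E = Nat.card (PresentedGroup (rels n)) * 2 := by
    rw [SemidirectProduct.card, Nat.card_eq_fintype_card (α := ℤˣ), Fintype.card_units_int]
  -- the map to the symmetric group
  let v : Fin (n - 2) → Equiv.Perm (Fin n) := fun i => gen n i
  have h02 : ∀ k, 2 ≤ k → Commute (sw n 0) (sw n k) := fun k hk => sw_comm (by omega)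
  have hv : Sat v := by
    refine ⟨fun i hi => ?_, fun i hi => ?_, fun i j hij => ?_, fun i j hij => ?_⟩
    · simp only [v, gen, hi]; exact sw_three (by omega)
    · simp only [v, gen]
      rw [(h02 _ (by omega)).mul_pow, _root_.sq, _root_.sq, sw_sq, sw_sq, one_mul]
    · simp only [v, gen]
      rcases Nat.eq_zero_or_pos i.val with h | h
      · rw [hij, h]
        have hc := (h02 (0 + 1 + 1) (by omega)).eq
        rw [show sw n 0 * sw n (0 + 1) * (sw n 0 * sw n (0 + 1 + 1)) =
          sw n 0 * (sw n (0 + 1) * sw n (0 + 1 + 1)) * (sw n 0)⁻¹ by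
            rw [inv_eq_of_mul_eq_one_right (sw_sq 0)]; simp only [mul_assoc, hc],
          conj_pow, sw_three (by omega), mul_one, mul_inv_cancel]
      · rw [hij, show sw n 0 * sw n (↑i + 1) * (sw n 0 * sw n (↑i + 1 + 1)) =
          sw n (↑i + 1) * sw n (↑i + 1 + 1) by
            rw [(h02 (i + 1) (by omega)).eq]
            simp only [mul_assoc]; rw [← mul_assoc (sw n 0), sw_sq, one_mul]]
        exact sw_three (by omega)
    · simp only [v, gen]
      have hc := (h02 (j + 1) (by omega)).eq
      have hc' : Commute (sw n (i + 1)) (sw n (j + 1)) := sw_comm (by omega)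
      rw [show sw n 0 * sw n (↑i + 1) * (sw n 0 * sw n (↑j + 1)) =
        sw n 0 * (sw n (↑i + 1) * sw n (↑j + 1)) * (sw n 0)⁻¹ by
          rw [inv_eq_of_mul_eq_one_right (sw_sq 0)]; simp only [mul_assoc, hc],
        conj_pow, hc'.mul_pow, _root_.sq, _root_.sq, sw_sq, sw_sq, one_mul, mul_one, mul_inv_cancel]
  let φ : PresentedGroup (rels n) →* Equiv.Perm (Fin n) := PresentedGroup.toGroup (f := v) hv.lift
  have hφ : ∀ i, φ (PresentedGroup.of i) = v i := fun i => PresentedGroup.toGroup.of hv.lift
  let ψ : ℤˣ →* Equiv.Perm (Fin n) :=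
    { toFun := fun u => if u = 1 then 1 else sw n 0
      map_one' := if_pos rfl
      map_mul' := fun a b => by
        rcases Int.units_eq_one_or a with rfl | rfl <;> rcases Int.units_eq_one_or b with rfl | rfl <;>
          simp [sw_sq] }
  have hψ : ψ (-1) = sw n 0 := by simp [ψ]
  let Φ : E →* Equiv.Perm (Fin n) := SemidirectProduct.lift φ ψ fun u => by
    rcases Int.units_eq_one_or u with rfl | rfl
    · ext g; simp
    · refine PresentedGroup.ext fun i => ?_
      simp only [MonoidHom.comp_apply, MulEquiv.coe_toMonoidHom, act_neg, θ_of, hψ, MulAut.conj_apply,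
        hφ, tw]
      rw [inv_eq_of_mul_eq_one_right (sw_sq 0)]
      split_ifs with h
      · rw [map_inv, hφ]
        simp only [v, gen, _root_.mul_inv_rev, inv_eq_of_mul_eq_one_right (sw_sq _), h, ← mul_assoc,
          sw_sq, one_mul]
      · simp only [hφ, v, gen]
        rw [mul_assoc (sw n 0) (sw n 0 * _), mul_assoc (sw n 0) (sw n _), ← (h02 _ (by omega)).eq,
          ← mul_assoc (sw n 0) (sw n 0), sw_sq, one_mul]
  have hΦt : Φ t = sw n 0 := (SemidirectProduct.lift_inr _ _ _ (-1)).trans hψ
  have hΦs : ∀ k < n - 1, Φ (s k) = sw n k := by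
    intro k hk
    rcases k with _ | k
    · exact hΦt
    · show Φ (t * SemidirectProduct.inl (X k)) = _
      rw [map_mul, hΦt, SemidirectProduct.lift_inl, hX k (by omega), hφ]
      simp only [v, gen]
      rw [← mul_assoc, sw_sq, one_mul]
  have hsur : Function.Surjective Φ := by
    rw [← MonoidHom.range_eq_top, eq_top_iff]
    obtain ⟨m, rfl⟩ : ∃ m, n = m + 1 := ⟨n - 1, by omega⟩
    intro g hgt
    clear hgt
    have hg : g ∈ Submonoid.closure (Set.range fun i : Fin m => Equiv.swap i.castSucc i.succ) :=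
      (Equiv.Perm.mclosure_swap_castSucc_succ m) ▸ Submonoid.mem_top g
    induction hg using Submonoid.closure_induction with
    | mem x hx =>
      obtain ⟨i, rfl⟩ := hx
      refine ⟨s i, ?_⟩
      rw [hΦs i (by omega), sw, dif_pos (by omega)]
      rfl
    | one => exact one_mem _
    | mul a b _ _ ha hb => exact mul_mem ha hb
  have hcS : Nat.card (Equiv.Perm (Fin n)) = n.factorial := by rw [Nat.card_perm, Nat.card_fin]
  rw [show n - 1 + 1 = n by omega] at hEle
  have hEeq : Nat.card E = n.factorial :=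
    le_antisymm hEle (hcS ▸ Nat.card_le_card_of_surjective Φ hsur)
  have hbij : Function.Bijective Φ :=
    (Nat.bijective_iff_surjective_and_card Φ).2 ⟨hsur, hEeq.trans hcS.symm⟩
  have hev : ∀ g, φ g ∈ alternatingGroup (Fin n) := fun g => by
    rw [Equiv.Perm.mem_alternatingGroup]
    have : (Equiv.Perm.sign.comp φ) = 1 := PresentedGroup.ext fun i => by
      simp only [MonoidHom.comp_apply, hφ, v, gen, map_mul, sign_sw (show 0 + 1 < n by omega),
        sign_sw (show i.val + 1 + 1 < n by omega), MonoidHom.one_apply]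
      decide
    exact DFunLike.congr_fun this g
  let F : PresentedGroup (rels n) →* alternatingGroup (Fin n) := φ.codRestrict _ hev
  have hinj : Function.Injective F := fun a b h => by
    have h' : Φ (SemidirectProduct.inl a) = Φ (SemidirectProduct.inl b) := by
      simp only [Φ, SemidirectProduct.lift_inl]; exact congrArg Subtype.val h
    exact SemidirectProduct.inl_injective (hbij.1 h')
  haveI : Nontrivial (Fin n) := Fin.nontrivial_iff_two_le.2 (by omega)
  have hcA : Nat.card (PresentedGroup (rels n)) = Nat.card (alternatingGroup (Fin n)) := by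
    rw [nat_card_alternatingGroup, Nat.card_fin, ← hEeq, hcE, Nat.mul_div_cancel _ (by norm_num)]
  exact ⟨MulEquiv.ofBijective F
    ((Nat.bijective_iff_injective_and_card F).2 ⟨hinj, hcA⟩)⟩

end Cfsg.Agent.S3335
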