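import Cfsg.Statements.S3348
import Cfsg.Agent.Lib.Spor.MTwelveAmal.Final

set_option autoImplicit false
open Cfsg

namespace Cfsg.Agent.S3348

/-- Let G be a finite group generated by isomorphic subgroups A and B such that C = A ∩ B contains a Sylow 3-subgroup of each of A and B and no non-trivial subgroup of C is normalized by both A and B. Suppose A/O₃(A) and B/O₃(B) are isomorphic to GL(2,3), that O₃(A) and O₃(B) are elementary abelian of order 9 and self-centralizing in A and B respectively (natural modules), and that for a Sylow 3-subgroup S of C the normalizer N_G(Z(S)) lies in A ∩ B. Then G is isomorphic to the Mathieu group M₁₂ or to PSL(3,3). -/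
theorem result {G : Type*} [Group G] [Finite G]
    (A B : Subgroup G) (eAB : Nonempty (A ≃* B)) (hgen : A ⊔ B = ⊤)
    (hSylA : ¬ 3 ∣ ((A ⊓ B).subgroupOf A).index) (hSylB : ¬ 3 ∣ ((A ⊓ B).subgroupOf B).index)
    (hcore : ∀ N : Subgroup G, N ≤ A ⊓ B → (∀ a ∈ A, N.map (MulAut.conj a).toMonoidHom = N) →
      (∀ b ∈ B, N.map (MulAut.conj b).toMonoidHom = N) → N = ⊥)
    (eA : A ⧸ Cfsg.pCore 3 A ≃* GL (Fin 2) (ZMod 3)) (eB : B ⧸ Cfsg.pCore 3 B ≃* GL (Fin 2) (ZMod 3))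
    (hOA : IsMulCommutative (Cfsg.pCore 3 A) ∧ (∀ x ∈ Cfsg.pCore 3 A, x ^ 3 = 1) ∧ Nat.card (Cfsg.pCore 3 A) = 9 ∧
      Subgroup.centralizer ((Cfsg.pCore 3 A : Subgroup A) : Set A) = Cfsg.pCore 3 A)
    (hOB : IsMulCommutative (Cfsg.pCore 3 B) ∧ (∀ x ∈ Cfsg.pCore 3 B, x ^ 3 = 1) ∧ Nat.card (Cfsg.pCore 3 B) = 9 ∧
      Subgroup.centralizer ((Cfsg.pCore 3 B : Subgroup B) : Set B) = Cfsg.pCore 3 B)
    (S : Sylow 3 ↥(A ⊓ B)) (Z : Subgroup G)
    (hZ : Z = ((S : Subgroup ↥(A ⊓ B)) ⊓ Subgroup.centralizer ((S : Subgroup ↥(A ⊓ B)) : Set ↥(A ⊓ B))).map (A ⊓ B).subtype)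
    (hNZ : Subgroup.normalizer (Z : Set G) ≤ A ⊓ B) :
    Cfsg.Spor.IsoM12 G ∨ Nonempty (G ≃* Matrix.ProjectiveSpecialLinearGroup (Fin 3) (ZMod 3)) := by
  obtain ⟨D⟩ := Cfsg.Agent.MTwelveAmal.exists_amalgam A B hSylA hSylB hcore eA eB hOA hOB S Z hZ hNZ
  refine Cfsg.Agent.MTwelveAmal.m12_or_psl33 D hgen ?_
  rintro rfl
  obtain ⟨e⟩ := eAB
  have hB : B = ⊤ := Subgroup.eq_top_of_card_eq B
    (by rw [← Nat.card_congr e.toEquiv, Subgroup.card_top])
  subst hB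
  have hN : (Cfsg.pCore 3 (⊤ : Subgroup G)).map (⊤ : Subgroup G).subtype = ⊥ := by
    haveI : (Cfsg.pCore 3 (⊤ : Subgroup G)).Normal := by infer_instance
    haveI hn : ((Cfsg.pCore 3 (⊤ : Subgroup G)).map (⊤ : Subgroup G).subtype).Normal :=
      Subgroup.Normal.map inferInstance _ (fun x => ⟨⟨x, Subgroup.mem_top x⟩, rfl⟩)
    have hconj : ∀ g : G, ((Cfsg.pCore 3 (⊤ : Subgroup G)).map (⊤ : Subgroup G).subtype).map
        (MulAut.conj g).toMonoidHom = (Cfsg.pCore 3 (⊤ : Subgroup G)).map (⊤ : Subgroup G).subtype := by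
      intro g
      ext x
      constructor
      · rintro ⟨y, hy, rfl⟩
        exact hn.conj_mem y hy g
      · intro hx
        refine ⟨g⁻¹ * x * g, by simpa using hn.conj_mem x hx g⁻¹, ?_⟩
        simp [MulAut.conj_apply, mul_assoc]
    exact hcore _ (by simp) (fun a _ => hconj a) (fun b _ => hconj b)
  rw [Subgroup.map_eq_bot_iff_of_injective _ (Subgroup.subtype_injective _)] at hN
  have h9 := hOA.2.2.1
  rw [hN, Subgroup.card_bot] at h9
  omega

end Cfsg.Agent.S3348
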