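import Cfsg.Statements.S3349
import Mathlib
-- import your own Cfsg.Agent.* helpers here

set_option autoImplicit false
open Cfsg

namespace Cfsg.Agent.S3349

/-- Let Q be a finite extraspecial p-group and α an automorphism of Q fixing every element of some maximal abelian subgroup of Q. Then the order of α is a power of p. -/
theorem result {Q : Type*} [Group Q] [Finite Q]
    (p : ℕ) [Fact p.Prime] (hQ : Cfsg.IsExtraspecial p Q) (α : MulAut Q)
    (A : Subgroup Q) (hA : IsMulCommutative A) (hmax : ∀ B : Subgroup Q, A ≤ B → IsMulCommutative B → B = A)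
    (hfix : ∀ a ∈ A, α a = a) :
    ∃ k : ℕ, orderOf α = p ^ k := by
  obtain ⟨⟨hp, hfr, hcomm⟩, hcard⟩ := hQ
  have cA : ∀ x ∈ A, ∀ y ∈ A, x * y = y * x := fun x hx y hy =>
    congrArg Subtype.val (hA.is_comm.comm (⟨x, hx⟩ : A) ⟨y, hy⟩)
  have hcen : ∀ x : Q, (∀ a ∈ A, x * a = a * x) → x ∈ A := by
    intro x hx
    have : IsMulCommutative ↥(Subgroup.closure ((A : Set Q) ∪ {x})) := by
      apply Subgroup.isMulCommutative_closure
      rintro u (hu | rfl) v (hv | rfl)
      · exact cA u hu v hv
      · exact (hx u hu).symm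
      · exact hx v hv
      · rfl
    have h := hmax _ (fun a ha => Subgroup.subset_closure (Or.inl ha)) this
    rw [← h]
    exact Subgroup.subset_closure (Or.inr rfl)
  have hZ : Subgroup.center Q ≤ A := fun z hz => hcen z fun a _ => (Subgroup.mem_center_iff.1 hz a).symm
  have hn : ∀ x : Q, ∀ a ∈ A, x * a * x⁻¹ ∈ A := by
    intro x a ha
    have h : x * a * x⁻¹ * a⁻¹ ∈ commutator Q := by
      have := Subgroup.commutator_mem_commutator (Subgroup.mem_top x) (Subgroup.mem_top a)
      rw [commutatorElement_def] at this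
      exact this
    rw [hcomm] at h
    have := A.mul_mem (hZ h) ha
    rwa [inv_mul_cancel_right] at this
  have hc : ∀ x : Q, α x * x⁻¹ ∈ A := by
    intro x
    refine hcen _ fun a ha => ?_
    have hb : x⁻¹ * a * x ∈ A := by simpa using hn x⁻¹ a ha
    have h := hfix _ hb
    rw [map_mul, map_mul, map_inv, hfix a ha] at h
    calc α x * x⁻¹ * a = α x * (x⁻¹ * a * x) * x⁻¹ := by group
      _ = α x * ((α x)⁻¹ * a * α x) * x⁻¹ := by rw [← h]
      _ = a * (α x * x⁻¹) := by group
  obtain ⟨k, hk⟩ := IsPGroup.iff_card.1 (hp.to_subgroup A)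
  have hpow : ∀ (j : ℕ) (x : Q), (α ^ j) x = (α x * x⁻¹) ^ j * x := by
    intro j
    induction j with
    | zero => intro x; simp
    | succ j ih =>
      intro x
      rw [pow_succ', MulAut.mul_apply, ih, map_mul, map_pow, hfix _ (hc x), pow_succ, mul_assoc,
        inv_mul_cancel_right]
  have hone : α ^ Nat.card A = 1 := by
    refine MulEquiv.ext fun x => ?_
    have h1 : (α x * x⁻¹) ^ Nat.card A = 1 :=
      congrArg Subtype.val (pow_card_eq_one' (x := (⟨_, hc x⟩ : A)))
    rw [hpow, h1, one_mul, MulAut.one_apply]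
  have hd := orderOf_dvd_of_pow_eq_one hone
  rw [hk] at hd
  obtain ⟨i, -, hi⟩ := (Nat.dvd_prime_pow (Fact.out (p := p.Prime))).1 hd
  exact ⟨i, hi⟩

end Cfsg.Agent.S3349
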