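import Cfsg.Statements.S3356
import Mathlib
import Cfsg.Agent.Lib.Lie.HalfTransitive
import Cfsg.Agent.Lib.Perm.Primitive
open scoped Pointwise
-- import your own Cfsg.Agent.* helpers here

set_option autoImplicit false
open Cfsg

namespace Cfsg.Agent.S3356

/-- Let G be a finite 3/2-transitive permutation group: G acts faithfully and transitively on a finite set, the point stabilizers are non-trivial, and for each point a all orbits of G_a on the remaining points have the same size. Suppose G has a regular normal subgroup N and G is not a Frobenius group (some two-point stabilizer is non-trivial). Then N is an elementary abelian p-group for some prime p, and every non-trivial normal subgroup of G contains N (so N is the unique minimal normal subgroup). -/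
theorem result {G Ω : Type*} [Group G] [Finite G]
    [MulAction G Ω] [FaithfulSMul G Ω] [Finite Ω] (htrans : MulAction.IsPretransitive G Ω)
    (hne : ∀ a : Ω, MulAction.stabilizer G a ≠ ⊥)
    (hhalf : ∀ a b c : Ω, b ≠ a → c ≠ a →
      Nat.card (MulAction.orbit (MulAction.stabilizer G a) b) = Nat.card (MulAction.orbit (MulAction.stabilizer G a) c))
    (N : Subgroup G) [hN : N.Normal] (hNt : MulAction.IsPretransitive N Ω) (hNr : ∀ a : Ω, MulAction.stabilizer N a = ⊥)
    (hnotF : ∃ a b : Ω, a ≠ b ∧ MulAction.stabilizer G a ⊓ MulAction.stabilizer G b ≠ ⊥) :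
    (∃ p : ℕ, p.Prime ∧ IsMulCommutative N ∧ ∀ x ∈ N, x ^ p = 1) ∧
    (∀ M : Subgroup G, M.Normal → M ≠ ⊥ → N ≤ M) := by
  classical
  haveI := htrans
  haveI := hNt
  obtain ⟨a₁, b₁, hab₁, hne₁⟩ := hnotF
  haveI hprim : MulAction.IsPreprimitive G Ω := by
    refine ⟨fun {B} hB => ?_⟩
    by_contra hnt
    rw [MulAction.IsTrivialBlock, not_or, Set.not_subsingleton_iff] at hnt
    exact hne₁ (Cfsg.Agent.Lie.HalfTransitive.stabilizer_inf_eq_bot hhalf hB hnt.1 hnt.2 a₁ b₁ hab₁)
  have reg : ∀ (n m : G), n ∈ N → m ∈ N → ∀ x : Ω, n • x = m • x → n = m := by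
    intro n m hn hm x h
    have h1 : (⟨m⁻¹ * n, mul_mem (inv_mem hm) hn⟩ : N) ∈ MulAction.stabilizer N x := by
      show (m⁻¹ * n) • x = x
      rw [mul_smul, h, inv_smul_smul]
    rw [hNr x, Subgroup.mem_bot] at h1
    exact (inv_mul_eq_one.1 (congrArg Subtype.val h1)).symm
  let H := MulAction.stabilizer G a₁
  letI : MulDistribMulAction H N :=
    MulDistribMulAction.compHom N ((MulAut.conjNormal (H := N)).comp H.subtype)
  have hsmul : ∀ (h : H) (x : N), ((h • x : N) : G) = (h : G) * x * (h : G)⁻¹ := fun h x =>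
    MulAut.conjNormal_apply (h : G) x
  haveI : FaithfulSMul H N := ⟨fun {h h'} heq => by
    have h1 : (h : G)⁻¹ * h' ∈ Subgroup.centralizer (N : Set G) := by
      rw [Subgroup.mem_centralizer_iff]
      intro n hn
      have e := congrArg Subtype.val (heq ⟨n, hn⟩)
      rw [hsmul, hsmul] at e
      calc n * ((h : G)⁻¹ * h') = (h : G)⁻¹ * ((h : G) * n * (h : G)⁻¹) * h' := by group
        _ = (h : G)⁻¹ * ((h' : G) * n * (h' : G)⁻¹) * h' := by rw [e]
        _ = (h : G)⁻¹ * h' * n := by group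
    have h2 := Cfsg.Agent.Perm.eq_one_of_centralizes (M := N) h1 (ω := a₁) ((h⁻¹ * h' : H)).2
    exact Subtype.ext (inv_mul_eq_one.1 h2)⟩
  have hstab : ∀ (x : N) (h : H), h ∈ MulAction.stabilizer H x ↔ (h : G) • ((x : G) • a₁) = (x : G) • a₁ := by
    intro x h
    rw [MulAction.mem_stabilizer_iff, ← Subtype.coe_inj, hsmul]
    have hh : (h : G) • a₁ = a₁ := h.2
    have hi : (h : G)⁻¹ • a₁ = a₁ := inv_smul_eq_iff.2 hh.symm
    constructor
    · intro e
      conv_rhs => rw [← e, mul_smul, mul_smul, hi]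
    · intro e
      refine reg _ _ ((hN.conj_mem _ x.2 (h : G))) x.2 a₁ ?_
      rw [mul_smul, mul_smul, hi, e]
  have hcardst : ∀ x : N, x ≠ 1 → Nat.card (MulAction.stabilizer H x) =
      Nat.card (MulAction.stabilizer G a₁ ⊓ MulAction.stabilizer G ((x : G) • a₁) : Subgroup G) := by
    intro x _
    refine Nat.card_congr ⟨fun h => ⟨(h : H), (h : H).2, (hstab x h).1 h.2⟩,
      fun g => ⟨⟨g.1, g.2.1⟩, (hstab x _).2 g.2.2⟩, fun h => rfl, fun g => rfl⟩
  have hmove : ∀ x : N, x ≠ 1 → (x : G) • a₁ ≠ a₁ := fun x hx h =>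
    hx (Subtype.ext (reg x 1 x.2 (one_mem N) a₁ (by rw [h, one_smul])))
  have hpair : ∀ b, b ≠ a₁ → Nat.card (MulAction.stabilizer G a₁ ⊓ MulAction.stabilizer G b : Subgroup G) =
      Nat.card (MulAction.stabilizer G a₁ ⊓ MulAction.stabilizer G b₁ : Subgroup G) := by
    intro b hb
    have key : ∀ d : Ω, Nat.card (MulAction.stabilizer G a₁ ⊓ MulAction.stabilizer G d : Subgroup G) *
        Nat.card (MulAction.orbit (MulAction.stabilizer G a₁) d) = Nat.card (MulAction.stabilizer G a₁) := by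
      intro d
      rw [Nat.card_coe_set_eq, ← MulAction.index_stabilizer,
        ← Nat.card_congr (Subgroup.subgroupOfEquivOfLe
          (inf_le_left : MulAction.stabilizer G a₁ ⊓ MulAction.stabilizer G d ≤ _)).toEquiv,
        show MulAction.stabilizer (MulAction.stabilizer G a₁) d =
          (MulAction.stabilizer G a₁ ⊓ MulAction.stabilizer G d).subgroupOf (MulAction.stabilizer G a₁) by
          ext g; exact ⟨fun h => ⟨g.2, h⟩, fun h => h.2⟩]
      exact Subgroup.card_mul_index _
    have h1 := key b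
    rw [hhalf a₁ b b₁ hb hab₁.symm, ← key b₁] at h1
    haveI := (MulAction.nonempty_orbit (M := MulAction.stabilizer G a₁) b₁).to_subtype
    exact Nat.eq_of_mul_eq_mul_right Nat.card_pos h1
  have hc : 1 < Nat.card (MulAction.stabilizer G a₁ ⊓ MulAction.stabilizer G b₁ : Subgroup G) :=
    (Subgroup.one_lt_card_iff_ne_bot _).2 hne₁
  have hcomm : ∀ a b : N, a * b = b * a :=
    Cfsg.Agent.Lie.HalfTransitive.mul_comm_of_halfTransitive (H := H) _ hc fun x hx => by
      rw [hcardst x hx, hpair _ (hmove x hx)]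
  haveI hNc : IsMulCommutative N := ⟨⟨hcomm⟩⟩
  have huniq : ∀ M : Subgroup G, M.Normal → M ≠ ⊥ → N ≤ M := by
    intro M hM hMne
    haveI := hM
    by_cases h0 : M ⊓ N = ⊥
    · exfalso
      refine hMne ((Subgroup.eq_bot_iff_forall _).2 fun m hm => ?_)
      have hmc : ∀ n ∈ N, Commute m n := fun n hn =>
        Subgroup.commute_of_normal_of_disjoint M N hM hN (disjoint_iff.2 h0) m n hm hn
      obtain ⟨n, hn⟩ := MulAction.exists_smul_eq N a₁ (m • a₁)
      have h1 : (n : G)⁻¹ * m ∈ Subgroup.centralizer (N : Set G) := by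
        rw [Subgroup.mem_centralizer_iff]
        intro y hy
        have e : Commute y (n : G) := congrArg Subtype.val (hcomm ⟨y, hy⟩ n)
        exact (e.inv_right.mul_right (hmc y hy).symm).eq
      have h2 := Cfsg.Agent.Perm.eq_one_of_centralizes (M := N) h1 (ω := a₁)
        (by rw [mul_smul, ← hn]; exact inv_smul_smul (n : G) a₁)
      rw [inv_mul_eq_one] at h2
      exact Subgroup.mem_bot.1 (h0.le ⟨hm, h2 ▸ n.2⟩)
    · haveI := Cfsg.Agent.Perm.normal_isPretransitive (Ω := Ω) (M ⊓ N) h0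
      intro n hn
      obtain ⟨m, hm⟩ := MulAction.exists_smul_eq (M ⊓ N : Subgroup G) a₁ (n • a₁)
      have : (m : G) = n := reg m n m.2.2 hn a₁ hm
      exact this ▸ m.2.1
  refine ⟨?_, huniq⟩
  haveI : Nontrivial N := by
    rw [Subgroup.nontrivial_iff_ne_bot]
    intro h
    obtain ⟨n, hn⟩ := MulAction.exists_smul_eq N a₁ b₁
    have h1 : (n : G) = 1 := Subgroup.mem_bot.1 (h ▸ n.2)
    exact hab₁ (by rw [← hn]; show a₁ = (n : G) • a₁; rw [h1, one_smul])
  set p := (Nat.card N).minFac with hp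
  have hpp : p.Prime := Nat.minFac_prime Finite.one_lt_card.ne'
  haveI := Fact.mk hpp
  let T : Subgroup G :=
    { carrier := {x | x ∈ N ∧ x ^ p = 1}
      one_mem' := ⟨one_mem N, one_pow p⟩
      mul_mem' := fun {x y} hx hy => ⟨mul_mem hx.1 hy.1, by
        have e : Commute x y := congrArg Subtype.val (hcomm ⟨x, hx.1⟩ ⟨y, hy.1⟩)
        rw [e.mul_pow, hx.2, hy.2, one_mul]⟩
      inv_mem' := fun {x} hx => ⟨inv_mem hx.1, by rw [inv_pow, hx.2, inv_one]⟩ }
  have hTn : T.Normal := ⟨fun x hx g => ⟨hN.conj_mem x hx.1 g, by rw [conj_pow, hx.2]; group⟩⟩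
  obtain ⟨z, hz⟩ := exists_prime_orderOf_dvd_card' p (Nat.minFac_dvd (Nat.card N))
  have hzT : (z : G) ∈ T := ⟨z.2, by rw [← Subgroup.coe_pow, ← hz, pow_orderOf_eq_one]; rfl⟩
  have hTne : T ≠ ⊥ := fun h => by
    rw [h, Subgroup.mem_bot] at hzT
    rw [← Subgroup.orderOf_coe, hzT, orderOf_one] at hz
    exact hpp.one_lt.ne hz
  exact ⟨p, hpp, hNc, fun x hx => (huniq T hTn hTne hx).2⟩

end Cfsg.Agent.S3356
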