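import Cfsg.Statements.S3357
import Mathlib
import Cfsg.Agent.Lib.Perm.Fpf.Integral
-- import your own Cfsg.Agent.* helpers here

set_option autoImplicit false
open Cfsg

namespace Cfsg.Agent.S3357

/-- Let G be a finite group that occurs as a Frobenius complement. Then G has a faithful irreducible representation over an algebraic closure of the rationals in which no non-identity element of G has 1 as an eigenvalue: there are n ≥ 1 and an injective homomorphism ρ from G to GL(n) over that field, with no invariant subspace other than 0 and the whole space, such that for g ≠ 1 the only vector fixed by ρ(g) is 0. -/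
theorem result {G : Type*} [Group G] [Finite G]
    (hFC : ∃ (L : Type) (_ : Group L) (_ : Finite L) (H : Subgroup L), Cfsg.IsFrobeniusComplement H ∧ Nonempty (G ≃* H)) :
    ∃ (n : ℕ) (ρ : G →* GL (Fin n) (AlgebraicClosure ℚ)), 0 < n ∧ Function.Injective ρ ∧
      (∀ W : Submodule (AlgebraicClosure ℚ) (Fin n → AlgebraicClosure ℚ),
        (∀ g : G, ∀ w ∈ W, ((ρ g : GL (Fin n) (AlgebraicClosure ℚ)) : Matrix (Fin n) (Fin n) (AlgebraicClosure ℚ)).mulVec w ∈ W) → W = ⊥ ∨ W = ⊤) ∧
      ∀ g : G, g ≠ 1 → ∀ v : Fin n → AlgebraicClosure ℚ,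
        ((ρ g : GL (Fin n) (AlgebraicClosure ℚ)) : Matrix (Fin n) (Fin n) (AlgebraicClosure ℚ)).mulVec v = v → v = 0 := by
  classical
  obtain ⟨n, μ, hn, hμ⟩ := (Cfsg.Agent.Perm.Fpf.hasFpf_of_iso_frobenius hFC).hasIntFpf
  let φ : ℤ →+* AlgebraicClosure ℚ := Int.castRingHom _
  let ν : G →* Module.End (AlgebraicClosure ℚ) (Fin n → AlgebraicClosure ℚ) :=
    (Matrix.toLinAlgEquiv' (R := AlgebraicClosure ℚ) (n := Fin n)).toAlgHom.toMonoidHom.comp
      ((φ.mapMatrix (m := Fin n)).toMonoidHom.comp μ)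
  have hν : ∀ g : G, g ≠ 1 → ∀ x, ν g x = x → x = 0 := by
    intro g hg x hx
    have hdet : (μ g - 1).det ≠ 0 := fun h => by
      obtain ⟨v, hv, hv'⟩ := Matrix.exists_mulVec_eq_zero_iff.2 h
      rw [Matrix.sub_mulVec, Matrix.one_mulVec, sub_eq_zero] at hv'
      exact hv (hμ g hg v hv')
    by_contra hx0
    have hx' : (φ.mapMatrix (μ g)).mulVec x = x := by simpa [ν] using hx
    have : ((φ.mapMatrix (μ g - 1)).det) = 0 := Matrix.exists_mulVec_eq_zero_iff.1 ⟨x, hx0, by
      rw [map_sub, map_one, Matrix.sub_mulVec, Matrix.one_mulVec, hx', sub_self]⟩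
    rw [← RingHom.map_det] at this
    exact hdet (Int.cast_eq_zero.1 this)
  let inv : Submodule (AlgebraicClosure ℚ) (Fin n → AlgebraicClosure ℚ) → Prop := fun W => ∀ g, ∀ w ∈ W, ν g w ∈ W
  haveI : Nontrivial (Fin n → AlgebraicClosure ℚ) := by
    haveI : Nonempty (Fin n) := ⟨⟨0, hn⟩⟩
    infer_instance
  obtain ⟨W, hW, hmin⟩ := (wellFounded_lt : WellFounded (fun W W' : Submodule (AlgebraicClosure ℚ) (Fin n → AlgebraicClosure ℚ) => W < W')).has_min
    {W | W ≠ ⊥ ∧ inv W} ⟨⊤, top_ne_bot, fun _ _ _ => trivial⟩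
  set d := Module.finrank (AlgebraicClosure ℚ) W with hd
  have hd0 : 0 < d := by
    haveI := Submodule.nontrivial_iff_ne_bot.2 hW.1
    exact Module.finrank_pos
  let b : Module.Basis (Fin d) (AlgebraicClosure ℚ) W := Module.finBasis _ W
  let σ : G →* Module.End (AlgebraicClosure ℚ) W :=
    { toFun := fun g => (ν g).restrict (hW.2 g)
      map_one' := LinearMap.ext fun w => Subtype.ext (by simp)
      map_mul' := fun g h => LinearMap.ext fun w => Subtype.ext (by simp) }
  let M : G →* Matrix (Fin d) (Fin d) (AlgebraicClosure ℚ) := (LinearMap.toMatrixAlgEquiv b).toAlgHom.toMonoidHom.comp σ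
  have hM : ∀ g v, (M g).mulVec v = b.equivFun (σ g (b.equivFun.symm v)) := by
    intro g v
    have := LinearMap.toMatrix_mulVec_repr b b (σ g) (b.equivFun.symm v)
    simp only [← Module.Basis.equivFun_apply, LinearEquiv.apply_symm_apply] at this
    exact this
  have hfix : ∀ g : G, g ≠ 1 → ∀ v, (M g).mulVec v = v → v = 0 := by
    intro g hg v hv
    rw [hM] at hv
    have h2 : σ g (b.equivFun.symm v) = b.equivFun.symm v := (LinearEquiv.eq_symm_apply _).2 hv
    have h3 := hν g hg _ (congrArg Subtype.val h2)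
    exact (LinearEquiv.map_eq_zero_iff b.equivFun.symm).1 (Subtype.ext h3)
  refine ⟨d, M.toHomUnits, hd0, ?_, fun U hU => ?_, hfix⟩
  · refine (injective_iff_map_eq_one _).2 fun g hg => ?_
    by_contra hne
    haveI : Nonempty (Fin d) := ⟨⟨0, hd0⟩⟩
    obtain ⟨v, hv⟩ := exists_ne (0 : Fin d → AlgebraicClosure ℚ)
    refine hv (hfix g hne v ?_)
    rw [show M g = 1 from congrArg Units.val hg, Matrix.one_mulVec]
  · let e : (Fin d → AlgebraicClosure ℚ) →ₗ[AlgebraicClosure ℚ] (Fin n → AlgebraicClosure ℚ) :=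
      W.subtype.comp b.equivFun.symm.toLinearMap
    have he : Function.Injective e := W.injective_subtype.comp b.equivFun.symm.injective
    by_cases h0 : U = ⊥
    · exact Or.inl h0
    refine Or.inr ?_
    have hle : U.map e ≤ W := by rintro x ⟨u, -, rfl⟩; exact (b.equivFun.symm u).2
    have hne : U.map e ≠ ⊥ := fun h => h0 (Submodule.map_injective_of_injective he (h.trans (Submodule.map_bot e).symm))
    have hinv : inv (U.map e) := by
      rintro g x ⟨u, hu, rfl⟩
      refine ⟨(M g).mulVec u, hU g u hu, ?_⟩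
      show ((b.equivFun.symm ((M g).mulVec u) : W) : Fin n → AlgebraicClosure ℚ) = _
      rw [hM, LinearEquiv.symm_apply_apply]
      rfl
    have heq : U.map e = W := hle.eq_of_not_lt (hmin _ ⟨hne, hinv⟩)
    refine eq_top_iff.2 fun u _ => ?_
    obtain ⟨u', hu', h'⟩ : e u ∈ U.map e := heq.symm ▸ (b.equivFun.symm u).2
    rwa [← he h']

end Cfsg.Agent.S3357
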