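import Cfsg.Statements.S4291
import Cfsg.Agent.Lib.Perm.Fpf.Solvable

set_option autoImplicit false
set_option linter.style.haveILetI false
set_option linter.unusedVariables false
set_option linter.unusedSectionVars false
open Cfsg

namespace Cfsg.Agent.S4291

open Cfsg.Agent.Perm.Fpf

universe u

variable {G : Type u} [Group G]

/-- A Klein group with an element of order three permuting its involutions. -/
def Witness (Q : Type*) [Group Q] : Prop :=
  ∃ a b c : Q, a * a = 1 ∧ b * b = 1 ∧ a * b = b * a ∧ a ≠ 1 ∧ b ≠ 1 ∧ a ≠ b ∧ c * c * c = 1 ∧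
    c * a * c⁻¹ = b ∧ c * b * c⁻¹ = a * b

theorem Witness.map {Q R : Type*} [Group Q] [Group R] (h : Witness Q) (f : Q →* R)
    (hf : Function.Injective f) : Witness R := by
  obtain ⟨a, b, c, h1, h2, h3, h4, h5, h6, h7, h8, h9⟩ := h
  refine ⟨f a, f b, f c, by rw [← map_mul, h1, map_one], by rw [← map_mul, h2, map_one],
    by rw [← map_mul, ← map_mul, h3], (map_ne_one_iff f hf).2 h4, (map_ne_one_iff f hf).2 h5,
    fun e => h6 (hf e), by rw [← map_mul, ← map_mul, h7, map_one],
    by rw [← map_inv, ← map_mul, ← map_mul, h8],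
    by rw [← map_inv, ← map_mul, ← map_mul, h9, map_mul]⟩

theorem not_zgroup_of_klein {Q : Type*} [Group Q] [Finite Q] [hz : IsZGroup Q] {a b : Q}
    (ha : a * a = 1) (hb : b * b = 1) (hab : a * b = b * a) (ha1 : a ≠ 1) (hb1 : b ≠ 1)
    (hne : a ≠ b) : False := by
  classical
  let A := Subgroup.closure ({a, b} : Set Q)
  letI : CommGroup A := Subgroup.closureCommGroupOfComm (by
    intro x hx y hy
    rcases hx with rfl | rfl <;> rcases hy with rfl | rfl <;> first | rfl | exact hab | exact hab.symm)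
  haveI : IsCyclic A := inferInstance
  haveI := Fintype.ofFinite A
  have := IsCyclic.card_pow_eq_one_le (α := A) (n := 2) (by norm_num)
  have hsub : ({1, ⟨a, Subgroup.subset_closure (Set.mem_insert _ _)⟩,
      ⟨b, Subgroup.subset_closure (Set.mem_insert_of_mem _ rfl)⟩} : Finset A) ⊆
      Finset.univ.filter (fun x => x ^ 2 = 1) := by
    intro x hx
    simp only [Finset.mem_insert, Finset.mem_singleton] at hx
    simp only [Finset.mem_filter, Finset.mem_univ, true_and]
    rcases hx with rfl | rfl | rfl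
    · exact one_pow 2
    · exact Subtype.ext (by rw [SubgroupClass.coe_pow, sq]; exact ha)
    · exact Subtype.ext (by rw [SubgroupClass.coe_pow, sq]; exact hb)
  have h3 := (Finset.card_le_card hsub).trans this
  rw [Finset.card_insert_of_notMem, Finset.card_pair] at h3
  · omega
  · exact fun e => hne (congrArg Subtype.val e)
  · simp only [Finset.mem_insert, Finset.mem_singleton, not_or]
    exact ⟨fun e => ha1 (congrArg Subtype.val e).symm, fun e => hb1 (congrArg Subtype.val e).symm⟩

theorem Witness.not_hnpc {Q : Type*} [Group Q] [Finite Q] (h : Witness Q) :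
    ¬ Cfsg.HasNormalPComplement 2 Q := by
  intro hn
  haveI := Fact.mk Nat.prime_two
  obtain ⟨a, b, c, ha, hb, hab, ha1, hb1, hne, hc, hca, hcb⟩ := h
  let V : Subgroup Q :=
    { carrier := {x | x = 1 ∨ x = a ∨ x = b ∨ x = a * b}
      one_mem' := Or.inl rfl
      mul_mem' := by
        have e1 : a * (a * b) = b := by rw [← mul_assoc, ha, one_mul]
        have e2 : a * b * a = b := by rw [hab, mul_assoc, ha, mul_one]
        have e3 : b * (a * b) = a := by rw [hab, ← mul_assoc, hb, one_mul]
        have e4 : a * b * b = a := by rw [mul_assoc, hb, mul_one]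
        have e5 : a * b * (a * b) = 1 := by rw [← mul_assoc, e2, hb]
        rintro x y (rfl | rfl | rfl | rfl) (rfl | rfl | rfl | rfl) <;>
          simp [ha, hb, hab.symm, e1, e2, e3, e4, e5]
      inv_mem' := by
        rintro x (rfl | rfl | rfl | rfl)
        · exact Or.inl inv_one
        · exact Or.inr (Or.inl (inv_eq_of_mul_eq_one_right ha))
        · exact Or.inr (Or.inr (Or.inl (inv_eq_of_mul_eq_one_right hb)))
        · refine Or.inr (Or.inr (Or.inr ?_))
          rw [mul_inv_rev, inv_eq_of_mul_eq_one_right ha, inv_eq_of_mul_eq_one_right hb, hab] }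
  have hV : IsPGroup 2 V := fun x => ⟨1, Subtype.ext (by
    show (x : Q) ^ 2 ^ 1 = 1
    rw [pow_one, sq]
    have hm : (x : Q) = 1 ∨ (x : Q) = a ∨ (x : Q) = b ∨ (x : Q) = a * b := x.2
    rcases hm with e | e | e | e <;> rw [e]
    · exact one_mul 1
    · exact ha
    · exact hb
    · rw [show a * b * (a * b) = a * (b * a) * b by group, ← hab,
        show a * (a * b) * b = (a * a) * (b * b) by group, ha, hb, one_mul])⟩
  have hcN : c ∈ Subgroup.normalizer (V : Set Q) := by
    have key : ∀ x ∈ V, c * x * c⁻¹ ∈ V := by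
      have hab' : c * (a * b) * c⁻¹ = b * (a * b) := by
        rw [show c * (a * b) * c⁻¹ = (c * a * c⁻¹) * (c * b * c⁻¹) by group, hca, hcb]
      rintro x (rfl | rfl | rfl | rfl)
      · exact Or.inl (by group)
      · exact Or.inr (Or.inr (Or.inl hca))
      · exact Or.inr (Or.inr (Or.inr hcb))
      · exact Or.inr (Or.inl (by rw [hab', hab, ← mul_assoc, hb, one_mul]))
    rw [Subgroup.mem_normalizer_iff]
    refine fun x => ⟨key x, fun hx => ?_⟩
    have h1 := key _ (key _ hx)
    rwa [show c * (c * (c * x * c⁻¹) * c⁻¹) * c⁻¹ = (c * c * c) * x * (c * c * c)⁻¹ by group, hc,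
      one_mul, inv_one, mul_one] at h1
  have hco : (orderOf c).Coprime 2 :=
    (show Nat.Coprime 3 2 by norm_num).coprime_dvd_left
      (orderOf_dvd_of_pow_eq_one (by rw [pow_three']; exact hc))
  have h1 := Cfsg.Agent.Fusion.hnpc_centralize hn hV hcN hco
  have e : a * c = c * a := Subgroup.mem_centralizer_iff.1 h1 a (Or.inr (Or.inl rfl))
  exact hne (by rw [← hca, ← e, mul_inv_cancel_right])

theorem witness_four : Witness (alternatingGroup (Fin 4)) := by
  refine ⟨⟨Equiv.swap 0 1 * Equiv.swap 2 3, Equiv.Perm.mem_alternatingGroup.2 (by decide +kernel)⟩,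
    ⟨Equiv.swap 0 2 * Equiv.swap 1 3, Equiv.Perm.mem_alternatingGroup.2 (by decide +kernel)⟩,
    ⟨Equiv.swap 1 2 * Equiv.swap 2 3, Equiv.Perm.mem_alternatingGroup.2 (by decide +kernel)⟩, ?_⟩
  decide +kernel

theorem witness_five : Witness (alternatingGroup (Fin 5)) := by
  refine ⟨⟨Equiv.swap 0 1 * Equiv.swap 2 3, Equiv.Perm.mem_alternatingGroup.2 (by decide +kernel)⟩,
    ⟨Equiv.swap 0 2 * Equiv.swap 1 3, Equiv.Perm.mem_alternatingGroup.2 (by decide +kernel)⟩,
    ⟨Equiv.swap 1 2 * Equiv.swap 2 3, Equiv.Perm.mem_alternatingGroup.2 (by decide +kernel)⟩, ?_⟩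
  decide +kernel

theorem quaternion_noncomm : (QuaternionGroup.a 1 : QuaternionGroup 2) * QuaternionGroup.xa 0 ≠
    (QuaternionGroup.xa 0 : QuaternionGroup 2) * QuaternionGroup.a 1 := by decide +kernel

theorem four_normal : ∀ x : Equiv.Perm (Fin 4), x ≠ 1 → ∃ g h : Equiv.Perm (Fin 4),
    Equiv.Perm.sign g = 1 ∧ Equiv.Perm.sign h = 1 ∧
      (g * x * g⁻¹ * x⁻¹) * (g * x * g⁻¹ * x⁻¹) = 1 ∧ g * x * g⁻¹ * x⁻¹ ≠ 1 ∧
      h * (g * x * g⁻¹ * x⁻¹) * h⁻¹ ≠ g * x * g⁻¹ * x⁻¹ ∧
      g * x * g⁻¹ * x⁻¹ * (h * (g * x * g⁻¹ * x⁻¹) * h⁻¹) =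
        h * (g * x * g⁻¹ * x⁻¹) * h⁻¹ * (g * x * g⁻¹ * x⁻¹) := by decide +kernel

theorem central_four : ∀ x : Equiv.Perm (Fin 4),
    x * (Equiv.swap 1 2 * Equiv.swap 2 3) = Equiv.swap 1 2 * Equiv.swap 2 3 * x →
    x * (Equiv.swap 0 1 * Equiv.swap 1 2) = Equiv.swap 0 1 * Equiv.swap 1 2 * x → x = 1 := by
  decide +kernel

theorem central_five : ∀ x : Equiv.Perm (Fin 5),
    x * (Equiv.swap 1 2 * Equiv.swap 2 3) = Equiv.swap 1 2 * Equiv.swap 2 3 * x →
    x * (Equiv.swap 0 1 * Equiv.swap 1 4) = Equiv.swap 0 1 * Equiv.swap 1 4 * x → x = 1 := by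
  decide +kernel

theorem even_facts : Equiv.Perm.sign (Equiv.swap 1 2 * Equiv.swap 2 3 : Equiv.Perm (Fin 4)) = 1 ∧
    Equiv.Perm.sign (Equiv.swap 0 1 * Equiv.swap 1 2 : Equiv.Perm (Fin 4)) = 1 ∧
    Equiv.Perm.sign (Equiv.swap 1 2 * Equiv.swap 2 3 : Equiv.Perm (Fin 5)) = 1 ∧
    Equiv.Perm.sign (Equiv.swap 0 1 * Equiv.swap 1 4 : Equiv.Perm (Fin 5)) = 1 := by decide +kernel

variable [Finite G]

/-- The admissible quotient of the tetrahedral and octahedral type. -/
def Type34 (N : Subgroup G) : Prop :=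
  (∃ f : G →* alternatingGroup (Fin 4), Function.Surjective f ∧ f.ker = N) ∨
    (∃ f : G →* Equiv.Perm (Fin 4), Function.Surjective f ∧ f.ker = N)

/-- The admissible quotient of the icosahedral type. -/
def Type56 (N : Subgroup G) : Prop :=
  (∃ f : G →* alternatingGroup (Fin 5), Function.Surjective f ∧ f.ker = N) ∨
    (∃ f : G →* Equiv.Perm (Fin 5), Function.Surjective f ∧ f.ker = N)

theorem Type34.not_hnpc {N : Subgroup G} (h : Type34 N) : ¬ Cfsg.HasNormalPComplement 2 G := by
  haveI := Fact.mk Nat.prime_two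
  rcases h with ⟨f, hf, -⟩ | ⟨f, hf, -⟩
  · exact fun hn => witness_four.not_hnpc (Cfsg.Agent.Fusion.hnpc_of_surjective f hf hn)
  · exact fun hn => (witness_four.map (alternatingGroup (Fin 4)).subtype
      (alternatingGroup (Fin 4)).subtype_injective).not_hnpc
        (Cfsg.Agent.Fusion.hnpc_of_surjective f hf hn)

theorem Type56.not_solvable {N : Subgroup G} (h : Type56 N) : ¬ Group.IsSolvable G := by
  intro hs
  rcases h with ⟨f, hf, -⟩ | ⟨f, hf, -⟩
  · have hsol := Group.isSolvable_of_surjective hf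
    haveI : IsSimpleGroup (alternatingGroup (Fin 5)) := alternatingGroup.isSimpleGroup_five
    have hc := IsSimpleGroup.comm_iff_isSolvable.2 hsol
    obtain ⟨a, b, c, -, -, -, -, -, hne, -, hca, -⟩ := witness_five
    exact hne (by rw [← hca, hc c a, mul_inv_cancel_right])
  · haveI := Group.isSolvable_of_surjective hf
    exact Equiv.Perm.fin_5_not_solvable this

theorem zgroup_hnpc (h : HasFpf G) [IsZGroup G] : Cfsg.HasNormalPComplement 2 G := by
  haveI := Fact.mk Nat.prime_two
  refine h.elim fun ρ hρ => ?_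
  obtain ⟨P⟩ : Nonempty (Sylow 2 G) := inferInstance
  refine Cfsg.Agent.Fusion.hnpc_of_centralize (Cfsg.Agent.Fusion.sylIn_top P) fun Q hQ g hg hgo => ?_
  refine hρ.odd_centralizes (P.isPGroup'.to_le hQ) hg
    (Nat.odd_iff.2 (by have := (Nat.prime_two.coprime_iff_not_dvd).1 hgo.symm; omega))
    (pow_orderOf_eq_one g) (Or.inr ?_)
  rintro ⟨e⟩
  haveI : IsCyclic Q := by
    haveI : IsCyclic (P : Subgroup G) := inferInstance
    exact isCyclic_of_injective (Subgroup.inclusion hQ) (Subgroup.inclusion_injective hQ)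
  haveI : IsCyclic (QuaternionGroup 2) := isCyclic_of_surjective e.toMonoidHom e.surjective
  letI : CommGroup (QuaternionGroup 2) := IsCyclic.commGroup
  exact quaternion_noncomm (mul_comm _ _)

theorem normal_le_kernel {n : ℕ} (f : G →* Equiv.Perm (Fin n)) (N : Subgroup G) [N.Normal]
    (hA : alternatingGroup (Fin n) ≤ f.range)
    (key : ∀ L : Subgroup (Equiv.Perm (Fin n)),
      (∀ x ∈ L, ∀ g, Equiv.Perm.sign g = 1 → g * x * g⁻¹ ∈ L) → L = N.map f → L = ⊥) :
    N ≤ f.ker := by
  rw [← Subgroup.map_eq_bot_iff]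
  refine key _ (fun x hx g hg => ?_) rfl
  obtain ⟨m, hm, rfl⟩ := hx
  obtain ⟨y, rfl⟩ := hA (Equiv.Perm.mem_alternatingGroup.2 hg)
  exact ⟨y * m * y⁻¹, ‹N.Normal›.conj_mem m hm y, by rw [map_mul, map_mul, map_inv]⟩

theorem centerless_eq {Q : Type*} [Group Q] (f : G →* Q) (hf : Function.Surjective f)
    (hQ : ∀ x : Q, (∀ g, g * x = x * g) → x = 1) (N C : Subgroup G) [C.Normal] (hfN : f.ker = N)
    (hNC : N ≤ C) (hrel : N.relIndex C ∣ 2) : N = C := by
  subst hfN
  refine le_antisymm hNC fun x hx => ?_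
  rw [MonoidHom.mem_ker]
  refine hQ _ fun q => ?_
  obtain ⟨g, rfl⟩ := hf q
  have hmem : g * x * g⁻¹ ∈ C := ‹C.Normal›.conj_mem x hx g
  rcases Nat.prime_two.eq_one_or_self_of_dvd _ hrel with e | e
  · have hle := Subgroup.relIndex_eq_one.1 e
    rw [MonoidHom.mem_ker.1 (hle hx), mul_one, one_mul]
  · by_cases hxN : x ∈ f.ker
    · rw [MonoidHom.mem_ker.1 hxN, mul_one, one_mul]
    have hnot : g * x * g⁻¹ ∉ f.ker := fun h' => hxN (by
      have := f.normal_ker.conj_mem _ h' g⁻¹
      simpa [mul_assoc] using this)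
    have hprod : g * x * g⁻¹ * x⁻¹ ∈ f.ker := by
      have hiff := Subgroup.mul_mem_iff_of_index_two (H := f.ker.subgroupOf C) e
        (a := ⟨_, hmem⟩) (b := ⟨x⁻¹, inv_mem hx⟩)
      simp only [Subgroup.mem_subgroupOf] at hiff
      exact hiff.2 (iff_of_false hnot fun h' => hxN (by simpa using inv_mem h'))
    have := MonoidHom.mem_ker.1 hprod
    rw [map_mul, map_inv, mul_inv_eq_one] at this
    calc f g * f x = f (g * x * g⁻¹ * g) := by rw [inv_mul_cancel_right, map_mul]
      _ = f x * f g := by rw [map_mul, this]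

theorem eq_of_types (h : HasFpf G) {N C : Subgroup G} [N.Normal] [C.Normal] [IsZGroup N]
    (hN : Type34 N) {f : G →* Equiv.Perm (Fin 4)} (hfC : f.ker = C)
    (hA : alternatingGroup (Fin 4) ≤ f.range) (hidx : C.index = 12 ∨ C.index = 24) : N = C := by
  have hle : N ≤ C := hfC ▸ normal_le_kernel f N hA (fun L hL hLN => by
    rw [eq_bot_iff]
    intro x hx
    by_contra hx1
    obtain ⟨g, k, hg, hk, h1, h2, h3, h4⟩ := four_normal x hx1
    have hy : g * x * g⁻¹ * x⁻¹ ∈ L := mul_mem (hL x hx g hg) (inv_mem hx)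
    haveI : IsZGroup L := by
      rw [hLN]
      exact IsZGroup.of_surjective (f := f.subgroupMap N) (f.subgroupMap_surjective N)
    refine not_zgroup_of_klein (Q := L) (a := ⟨_, hy⟩) (b := ⟨_, hL _ hy k hk⟩) (Subtype.ext h1)
      (Subtype.ext (by
        show k * (g * x * g⁻¹ * x⁻¹) * k⁻¹ * (k * (g * x * g⁻¹ * x⁻¹) * k⁻¹) = 1
        rw [show k * (g * x * g⁻¹ * x⁻¹) * k⁻¹ * (k * (g * x * g⁻¹ * x⁻¹) * k⁻¹) =
          k * ((g * x * g⁻¹ * x⁻¹) * (g * x * g⁻¹ * x⁻¹)) * k⁻¹ by group, h1, mul_one,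
          mul_inv_cancel]))
      (Subtype.ext h4) (fun e => h2 (congrArg Subtype.val e)) (fun e => h2 ?_)
      (fun e => h3 (congrArg Subtype.val e).symm)
    have e' : k * (g * x * g⁻¹ * x⁻¹) * k⁻¹ = 1 := congrArg Subtype.val e
    rwa [mul_inv_eq_one, mul_eq_left] at e')
  have hidxN : N.index = 12 ∨ N.index = 24 := by
    rcases hN with ⟨g, hg, hgN⟩ | ⟨g, hg, hgN⟩
    · left
      rw [← hgN, Subgroup.index_ker, MonoidHom.range_eq_top.2 hg, Subgroup.card_top,
        Nat.card_eq_fintype_card, card_alternatingGroup, Fintype.card_fin]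
      rfl
    · right
      rw [← hgN, Subgroup.index_ker, MonoidHom.range_eq_top.2 hg, Subgroup.card_top,
        Nat.card_perm, Nat.card_eq_fintype_card, Fintype.card_fin]
      rfl
  have hrel : N.relIndex C ∣ 2 := by
    have := Subgroup.relIndex_mul_index hle
    rcases hidxN with e | e <;> rcases hidx with e' | e' <;> rw [e, e'] at this
    · exact ⟨2, by omega⟩
    · omega
    · exact ⟨1, by omega⟩
    · exact ⟨2, by omega⟩
  rcases hN with ⟨g, hg, hgN⟩ | ⟨g, hg, hgN⟩
  · refine centerless_eq g hg (fun x hx => Subtype.ext ?_) N C hgN hle hrel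
    exact central_four x.1
      (congrArg Subtype.val (hx ⟨_, Equiv.Perm.mem_alternatingGroup.2 even_facts.1⟩)).symm
      (congrArg Subtype.val (hx ⟨_, Equiv.Perm.mem_alternatingGroup.2 even_facts.2.1⟩)).symm
  · exact centerless_eq g hg (fun x hx => central_four x (hx _).symm (hx _).symm) N C hgN hle hrel

theorem eq_of_types_five (h : HasFpf G) {N C : Subgroup G} [N.Normal] [C.Normal] [IsZGroup N]
    (hN : Type56 N) {f : G →* Equiv.Perm (Fin 5)} (hfC : f.ker = C)
    (hA : alternatingGroup (Fin 5) ≤ f.range) (hidx : C.index = 60 ∨ C.index = 120) : N = C := by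
  have hle : N ≤ C := hfC ▸ normal_le_kernel f N hA (fun L hL hLN => by
    haveI : IsSimpleGroup (alternatingGroup (Fin 5)) := alternatingGroup.isSimpleGroup_five
    haveI : (L.subgroupOf (alternatingGroup (Fin 5))).Normal :=
      ⟨fun x hx g => hL _ hx g.1 (Equiv.Perm.mem_alternatingGroup.1 g.2)⟩
    haveI : IsZGroup L := by
      rw [hLN]
      exact IsZGroup.of_surjective (f := f.subgroupMap N) (f.subgroupMap_surjective N)
    rcases IsSimpleGroup.eq_bot_or_eq_top_of_normal
      (L.subgroupOf (alternatingGroup (Fin 5))) inferInstance with e | e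
    · rw [eq_bot_iff]
      intro x hx
      have hc : ∀ g, Equiv.Perm.sign g = 1 → x * g = g * x := by
        intro g hg
        have hm : g * x * g⁻¹ * x⁻¹ ∈ L := mul_mem (hL x hx g hg) (inv_mem hx)
        have hev : g * x * g⁻¹ * x⁻¹ ∈ alternatingGroup (Fin 5) :=
          Equiv.Perm.mem_alternatingGroup.2 (by
            simp only [map_mul, map_inv, hg, one_mul, inv_one, mul_one, mul_inv_cancel])
        have e1 : (⟨_, hev⟩ : alternatingGroup (Fin 5)) ∈
            L.subgroupOf (alternatingGroup (Fin 5)) := hm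
        rw [e, Subgroup.mem_bot] at e1
        have e2 : g * x * g⁻¹ * x⁻¹ = 1 := congrArg Subtype.val e1
        rw [mul_inv_eq_one, mul_inv_eq_iff_eq_mul] at e2
        exact e2.symm
      exact central_five x (hc _ even_facts.2.2.1) (hc _ even_facts.2.2.2)
    · exfalso
      have hAL : alternatingGroup (Fin 5) ≤ L := Subgroup.subgroupOf_eq_top.1 e
      haveI : Group.IsSolvable (alternatingGroup (Fin 5)) :=
        Group.isSolvable_of_isSolvable_injective (Subgroup.inclusion_injective hAL)
      have hc := IsSimpleGroup.comm_iff_isSolvable.2 this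
      obtain ⟨a, b, c, -, -, -, -, -, hne, -, hca, -⟩ := witness_five
      exact hne (by rw [← hca, hc c a, mul_inv_cancel_right]))
  have hidxN : N.index = 60 ∨ N.index = 120 := by
    rcases hN with ⟨g, hg, hgN⟩ | ⟨g, hg, hgN⟩
    · left
      rw [← hgN, Subgroup.index_ker, MonoidHom.range_eq_top.2 hg, Subgroup.card_top,
        Nat.card_eq_fintype_card, card_alternatingGroup, Fintype.card_fin]
      rfl
    · right
      rw [← hgN, Subgroup.index_ker, MonoidHom.range_eq_top.2 hg, Subgroup.card_top,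
        Nat.card_perm, Nat.card_eq_fintype_card, Fintype.card_fin]
      rfl
  have hrel : N.relIndex C ∣ 2 := by
    have := Subgroup.relIndex_mul_index hle
    rcases hidxN with e | e <;> rcases hidx with e' | e' <;> rw [e, e'] at this
    · exact ⟨2, by omega⟩
    · omega
    · exact ⟨1, by omega⟩
    · exact ⟨2, by omega⟩
  rcases hN with ⟨g, hg, hgN⟩ | ⟨g, hg, hgN⟩
  · refine centerless_eq g hg (fun x hx => Subtype.ext ?_) N C hgN hle hrel
    exact central_five x.1
      (congrArg Subtype.val (hx ⟨_, Equiv.Perm.mem_alternatingGroup.2 even_facts.2.2.1⟩)).symm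
      (congrArg Subtype.val (hx ⟨_, Equiv.Perm.mem_alternatingGroup.2 even_facts.2.2.2⟩)).symm
  · exact centerless_eq g hg (fun x hx => central_five x (hx _).symm (hx _).symm) N C hgN hle hrel

theorem type_of_range {n : ℕ} (hn : 2 ≤ n) (f : G →* Equiv.Perm (Fin n))
    (hidx : f.range.index = 1 ∨ f.range.index = 2) :
    alternatingGroup (Fin n) ≤ f.range ∧
    ((∃ g : G →* alternatingGroup (Fin n), Function.Surjective g ∧ g.ker = f.ker) ∨
      (∃ g : G →* Equiv.Perm (Fin n), Function.Surjective g ∧ g.ker = f.ker)) ∧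
    ∃ d, (d = 1 ∨ d = 2) ∧ f.ker.index * d = n.factorial := by
  have hi : f.ker.index * f.range.index = n.factorial := by
    rw [Subgroup.index_ker, Subgroup.card_mul_index, Nat.card_perm, Nat.card_eq_fintype_card,
      Fintype.card_fin]
  refine ⟨?_, ?_, _, hidx, hi⟩
  · rcases hidx with e | e
    · rw [Subgroup.index_eq_one.1 e]; exact le_top
    · rw [Equiv.Perm.eq_alternatingGroup_of_index_eq_two e]
  · rcases hidx with e | e
    · exact Or.inr ⟨f, MonoidHom.range_eq_top.1 (Subgroup.index_eq_one.1 e), rfl⟩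
    · have he := Equiv.Perm.eq_alternatingGroup_of_index_eq_two e
      refine Or.inl ⟨f.codRestrict _ (fun x => he ▸ ⟨x, rfl⟩), fun y => ?_, f.ker_codRestrict _ _⟩
      have hy : (y : Equiv.Perm (Fin n)) ∈ f.range := he.symm ▸ y.2
      obtain ⟨x, hx⟩ := hy
      exact ⟨x, Subtype.ext hx⟩

/-- The map of a quaternion group onto the Klein group. -/
def klein (n : ℕ) (hn : Even n) : QuaternionGroup n →* DihedralGroup 2 where
  toFun
    | .a i => .r (ZMod.castHom (dvd_mul_right 2 n) (ZMod 2) i)
    | .xa i => .sr (ZMod.castHom (dvd_mul_right 2 n) (ZMod 2) i)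
  map_one' := by rw [QuaternionGroup.one_def]; simp only [map_zero]; rfl
  map_mul' x y := by
    cases x <;> cases y <;>
      simp only [QuaternionGroup.a_mul_a, QuaternionGroup.a_mul_xa, QuaternionGroup.xa_mul_a,
        QuaternionGroup.xa_mul_xa, DihedralGroup.r_mul_r, DihedralGroup.r_mul_sr,
        DihedralGroup.sr_mul_r, DihedralGroup.sr_mul_sr, map_add, map_sub, map_natCast]
    congr 1
    rw [show (n : ZMod 2) = 0 from (ZMod.natCast_eq_zero_iff_even).2 hn, zero_add]

theorem klein_surjective (n : ℕ) [NeZero n] (hn : Even n) : Function.Surjective (klein n hn) := by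
  rintro (i | i)
  · refine ⟨.a (i.val : ℕ), ?_⟩
    show DihedralGroup.r _ = _
    rw [map_natCast, ZMod.natCast_zmod_val]
  · refine ⟨.xa (i.val : ℕ), ?_⟩
    show DihedralGroup.sr _ = _
    rw [map_natCast, ZMod.natCast_zmod_val]

theorem klein_ker (n : ℕ) [NeZero n] (hn : Even n) {x : QuaternionGroup n}
    (hx : klein n hn x = 1) : ∃ y, x = y * y := by
  cases x with
  | xa i =>
    have h' : DihedralGroup.sr (ZMod.castHom (dvd_mul_right 2 n) (ZMod 2) i) =
      DihedralGroup.r 0 := hx
    cases h'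
  | a i =>
    have h' : DihedralGroup.r (ZMod.castHom (dvd_mul_right 2 n) (ZMod 2) i) =
      DihedralGroup.r 0 := hx
    have h0 := DihedralGroup.r.inj h'
    rw [← ZMod.natCast_zmod_val i, map_natCast, ZMod.natCast_eq_zero_iff_even] at h0
    obtain ⟨j, hj⟩ := h0
    exact ⟨.a (j : ℕ), by rw [QuaternionGroup.a_mul_a, ← Nat.cast_add, ← hj,
      ZMod.natCast_zmod_val]⟩

theorem card_dihedral : Nat.card (DihedralGroup 2) = 4 := by
  rw [Nat.card_eq_fintype_card, DihedralGroup.card]

theorem sq_dihedral : ∀ x : DihedralGroup 2, x * x = 1 := by decide +kernel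

theorem klein_dihedral : (DihedralGroup.r 1 : DihedralGroup 2) * .sr 0 =
    (DihedralGroup.sr 0 : DihedralGroup 2) * .r 1 ∧
    (DihedralGroup.r 1 : DihedralGroup 2) ≠ 1 ∧ (DihedralGroup.sr 0 : DihedralGroup 2) ≠ 1 ∧
    (DihedralGroup.r 1 : DihedralGroup 2) ≠ .sr 0 := by decide +kernel

theorem not_zgroup_of_dihedral (f : G →* DihedralGroup 2) (hf : Function.Surjective f) :
    ¬ IsZGroup G := fun hz => by
  haveI := hz
  haveI := IsZGroup.of_surjective hf
  exact not_zgroup_of_klein (sq_dihedral _) (sq_dihedral _) klein_dihedral.1 klein_dihedral.2.1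
    klein_dihedral.2.2.1 klein_dihedral.2.2.2

theorem main (h : HasFpf G) :
    ∃! N : Subgroup G, N.Normal ∧ (∀ (p : ℕ) [Fact p.Prime] (P : Sylow p N), IsCyclic P) ∧
      (N = ⊤ ∨
        (∃ f : G →* DihedralGroup 2, Function.Surjective f ∧ f.ker = N) ∨
        (∃ f : G →* alternatingGroup (Fin 4), Function.Surjective f ∧ f.ker = N) ∨
        (∃ f : G →* Equiv.Perm (Fin 4), Function.Surjective f ∧ f.ker = N) ∨
        (∃ f : G →* alternatingGroup (Fin 5), Function.Surjective f ∧ f.ker = N) ∨
        (∃ f : G →* Equiv.Perm (Fin 5), Function.Surjective f ∧ f.ker = N)) := by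
  classical
  haveI := Fact.mk Nat.prime_two
  have hzof : ∀ {N : Subgroup G}, (∀ (p : ℕ) [Fact p.Prime] (P : Sylow p N), IsCyclic P) →
      IsZGroup N := fun hN => ⟨fun p hp P => @hN p ⟨hp⟩ P⟩
  have hofz : ∀ {N : Subgroup G}, IsZGroup N →
      ∀ (p : ℕ) [Fact p.Prime] (P : Sylow p N), IsCyclic P := fun hN p _ P => by
    haveI := hN; infer_instance
  have hdih : ∀ {N : Subgroup G}, N.Normal → IsZGroup N →
      (∃ f : G →* DihedralGroup 2, Function.Surjective f ∧ f.ker = N) →
      Cfsg.HasNormalPComplement 2 G ∧ Group.IsSolvable G := by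
    rintro N hNn hNz ⟨f, hf, rfl⟩
    haveI := hNz
    have hZ := zgroup_hnpc (h.comp f.ker.subtype f.ker.subtype_injective)
    set R := (Cfsg.pResidual 2 f.ker).map f.ker.subtype with hR
    haveI : R.Normal := pResidual_map_normal f.ker
    have hRc : (Nat.card R).Coprime 2 := by
      rw [hR, Subgroup.card_map_of_injective f.ker.subtype_injective]
      exact Cfsg.Agent.Fusion.hnpc_iff.1 hZ
    obtain ⟨P⟩ : Nonempty (Sylow 2 f.ker) := inferInstance
    obtain ⟨k, hk⟩ := IsPGroup.iff_card.1 P.isPGroup'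
    have hidx : R.index = 2 ^ k * 4 := by
      rw [hR, Subgroup.index_map_subtype, Subgroup.index_ker, MonoidHom.range_eq_top.2 hf,
        Subgroup.card_top, card_dihedral, (Cfsg.Agent.Fusion.isComplement'_of_coprime_card P
          (Cfsg.Agent.Fusion.hnpc_iff.1 hZ)).symm.index_eq_card, hk]
    have hq : IsPGroup 2 (G ⧸ R) :=
      IsPGroup.of_card (n := k + 2) (by rw [← Subgroup.index_eq_card, hidx, pow_add]; norm_num)
    refine ⟨Cfsg.Agent.Fusion.hnpc_of_coprime_normal_pgroup_quotient hRc hq, ?_⟩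
    haveI := hq.isNilpotent
    haveI : IsZGroup R := IsZGroup.of_injective
      (Subgroup.inclusion_injective (Subgroup.map_subtype_le _ : R ≤ f.ker))
    exact (Group.isSolvable_iff_subgroup_quotient R).2 ⟨inferInstance, inferInstance⟩
  by_cases hZ : IsZGroup G
  · haveI := hZ
    refine ⟨⊤, ⟨inferInstance, hofz inferInstance, Or.inl rfl⟩, ?_⟩
    rintro N ⟨hNn, -, hN⟩
    rcases hN with e | ⟨f, hf, -⟩ | hN | hN | hN | hN
    · exact e
    · exact absurd hZ (not_zgroup_of_dihedral f hf)
    · exact absurd (zgroup_hnpc h) (Type34.not_hnpc (N := N) (Or.inl hN))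
    · exact absurd (zgroup_hnpc h) (Type34.not_hnpc (N := N) (Or.inr hN))
    · exact absurd (inferInstance : Group.IsSolvable G) (Type56.not_solvable (N := N) (Or.inl hN))
    · exact absurd (inferInstance : Group.IsSolvable G) (Type56.not_solvable (N := N) (Or.inr hN))
  have htop : ∀ {N : Subgroup G}, IsZGroup N → N ≠ ⊤ := by
    rintro N hN rfl
    haveI := hN
    exact hZ (IsZGroup.of_injective (f := (Subgroup.topEquiv : (⊤ : Subgroup G) ≃* G).symm.toMonoidHom)
      (Subgroup.topEquiv : (⊤ : Subgroup G) ≃* G).symm.injective)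
  by_cases hs : Group.IsSolvable G
  swap
  · refine h.elim fun ρ hρ => ?_
    have hS := hρ.triSub_iso hs
    obtain ⟨f, hfk, hfS⟩ := hρ.five_hom (triSub G) hS
    obtain ⟨hno4, -, -⟩ := hρ.centralizer_facts (triSub G) hS rfl
    set C := Subgroup.centralizer (triSub G : Set G) with hC
    haveI hCn : C.Normal := hfk ▸ f.normal_ker
    haveI : IsZGroup C := (hρ.comp C.subtype C.subtype_injective).isZGroup_of_no_four fun g hg =>
      hno4 g g.2 ⟨congrArg Subtype.val hg.1, fun e => hg.2 (Subtype.ext e)⟩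
    have hrange : f.range.index = 1 ∨ f.range.index = 2 := by
      have hle : alternatingGroup (Fin 5) ≤ f.range := hfS ▸ Subgroup.map_le_range _ _
      exact Nat.prime_two.eq_one_or_self_of_dvd _
        (alternatingGroup.index_eq_two (α := Fin 5) ▸ Subgroup.index_dvd_of_le hle)
    obtain ⟨hA, htype, d, hd, hidx⟩ := type_of_range (by norm_num) f hrange
    rw [hfk] at htype hidx
    refine ⟨C, ⟨hCn, hofz inferInstance, Or.inr (Or.inr (Or.inr (Or.inr htype)))⟩, ?_⟩
    rintro N ⟨hNn, hNc, hN⟩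
    haveI := hNn
    haveI := hzof hNc
    have hNd : Type56 N := by
      rcases hN with e | e | hN | hN | hN | hN
      · exact absurd e (htop inferInstance)
      · exact absurd (hdih hNn inferInstance e).2 hs
      · obtain ⟨g, hg, rfl⟩ := hN
        haveI := solvable_perm_four
        exact absurd (Group.isSolvable_of_ker_le_range g.ker.subtype g
          (by rw [Subgroup.range_subtype])) hs
      · obtain ⟨g, hg, rfl⟩ := hN
        haveI := solvable_perm_four
        exact absurd (Group.isSolvable_of_ker_le_range g.ker.subtype g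
          (by rw [Subgroup.range_subtype])) hs
      · exact Or.inl hN
      · exact Or.inr hN
    refine eq_of_types_five h hNd hfk hA ?_
    rw [show Nat.factorial 5 = 120 from rfl] at hidx
    rcases hd with rfl | rfl <;> omega
  haveI := hs
  by_cases hn : Cfsg.HasNormalPComplement 2 G
  swap
  · refine h.elim fun ρ hρ => ?_
    obtain ⟨hQ, g, hgo, hg⟩ := hρ.core_quaternion hn
    haveI : (Cfsg.pCore 2 G).Normal := Cfsg.Agent.Solv.pCore_normal 2
    obtain ⟨hCz, f, hfk, -, hrange⟩ := hρ.four_hom (Cfsg.pCore 2 G) hQ hgo hg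
    set C := Subgroup.centralizer (Cfsg.pCore 2 G : Set G) with hC
    haveI hCn : C.Normal := hfk ▸ f.normal_ker
    obtain ⟨hA, htype, d, hd, hidx⟩ := type_of_range (by norm_num) f hrange
    rw [hfk] at htype hidx
    refine ⟨C, ⟨hCn, hofz hCz, ?_⟩, ?_⟩
    · rcases htype with e | e
      exacts [Or.inr (Or.inr (Or.inl e)), Or.inr (Or.inr (Or.inr (Or.inl e)))]
    rintro N ⟨hNn, hNc, hN⟩
    haveI := hNn
    haveI := hzof hNc
    have hNd : Type34 N := by
      rcases hN with e | e | hN | hN | hN | hN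
      · exact absurd e (htop inferInstance)
      · exact absurd (hdih hNn inferInstance e).1 hn
      · exact Or.inl hN
      · exact Or.inr hN
      · exact absurd hs (Type56.not_solvable (N := N) (Or.inl hN))
      · exact absurd hs (Type56.not_solvable (N := N) (Or.inr hN))
    refine eq_of_types h hNd hfk hA ?_
    rw [show Nat.factorial 4 = 24 from rfl] at hidx
    rcases hd with rfl | rfl <;> omega
  -- a two-nilpotent group with a quaternion Sylow subgroup
  obtain ⟨P⟩ : Nonempty (Sylow 2 G) := inferInstance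
  set R := Cfsg.pResidual 2 G with hR
  have hc := Cfsg.Agent.Fusion.hnpc_iff.1 hn
  have hcomp := Cfsg.Agent.Fusion.isComplement'_of_coprime_card P hc
  refine h.elim fun ρ hρ => ?_
  obtain ⟨k, hk0, ⟨e⟩⟩ : ∃ k : ℕ, 1 ≤ k ∧ Nonempty ((P : Subgroup G) ≃* QuaternionGroup (2 ^ k)) := by
    rcases hρ.isCyclic_or_quaternion (P : Subgroup G) P.isPGroup' with hcy | ⟨-, k, ⟨e⟩⟩
    · exfalso
      refine hZ ⟨fun p hp Q => ?_⟩
      haveI := Fact.mk hp
      by_cases h2 : p = 2
      · subst h2
        haveI := hcy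
        exact isCyclic_of_surjective (Sylow.equiv P Q).toMonoidHom (Sylow.equiv P Q).surjective
      · exact hρ.isCyclic_of_odd h2 (Q : Subgroup G) Q.isPGroup'
    · refine ⟨k, Nat.one_le_iff_ne_zero.2 fun hk => ?_, ⟨e⟩⟩
      subst hk
      refine hZ ⟨fun p hp Q => ?_⟩
      haveI := Fact.mk hp
      by_cases h2 : p = 2
      · subst h2
        haveI : IsCyclic (QuaternionGroup (2 ^ 0)) := QuaternionGroup.quaternionGroup_one_isCyclic
        haveI : IsCyclic (P : Subgroup G) :=
          isCyclic_of_surjective e.symm.toMonoidHom e.symm.surjective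
        exact isCyclic_of_surjective (Sylow.equiv P Q).toMonoidHom (Sylow.equiv P Q).surjective
      · exact hρ.isCyclic_of_odd h2 (Q : Subgroup G) Q.isPGroup'
  haveI : NeZero (2 ^ k) := ⟨pow_ne_zero k two_ne_zero⟩
  have hev : Even (2 ^ k) := Nat.even_pow.2 ⟨even_two, by omega⟩
  let π : G →* QuaternionGroup (2 ^ k) :=
    (hcomp.symm.QuotientMulEquiv.trans e).toMonoidHom.comp (QuotientGroup.mk' R)
  have hπ : Function.Surjective π :=
    (hcomp.symm.QuotientMulEquiv.trans e).surjective.comp (QuotientGroup.mk'_surjective R)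
  have hπk : ∀ x, π x = 1 → x ∈ R := fun x hx =>
    (QuotientGroup.eq_one_iff x).1 ((hcomp.symm.QuotientMulEquiv.trans e).map_eq_one_iff.1 hx)
  set f₀ := (klein _ hev).comp π with hf₀
  have hf₀s : Function.Surjective f₀ := (klein_surjective _ hev).comp hπ
  have hz₀ : IsZGroup f₀.ker := by
    refine ⟨fun p hp Q => ?_⟩
    haveI := Fact.mk hp
    by_cases h2 : p = 2
    · subst h2
      let ι : Q →* Subgroup.zpowers (QuaternionGroup.a 1 : QuaternionGroup (2 ^ k)) :=
        (π.comp (f₀.ker.subtype.comp (Q : Subgroup f₀.ker).subtype)).codRestrict _ (fun x => by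
          obtain ⟨y, hy⟩ := klein_ker _ hev (MonoidHom.mem_ker.1 (x : f₀.ker).2)
          show π ((x : f₀.ker) : G) ∈ _
          rw [hy]
          cases y with
          | a i =>
            rw [QuatAut.a_pow i, ← pow_add]
            exact Subgroup.npow_mem_zpowers _ _
          | xa i =>
            have e := QuatAut.a_pow ((2 ^ k : ℕ) + i - i : ZMod (2 * 2 ^ k))
            rw [QuaternionGroup.xa_mul_xa]
            exact e ▸ Subgroup.npow_mem_zpowers _ _)
      refine isCyclic_of_injective ι ((injective_iff_map_eq_one ι).2 fun x hx => ?_)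
      have hxR : ((x : f₀.ker) : G) ∈ R := hπk _ (congrArg Subtype.val hx)
      obtain ⟨j, hj⟩ := Q.isPGroup' x
      have hj' : ((x : f₀.ker) : G) ^ 2 ^ j = 1 :=
        congrArg (fun z : (Q : Subgroup f₀.ker) => ((z : f₀.ker) : G)) hj
      have h1 : orderOf ((x : f₀.ker) : G) = 1 := Nat.eq_one_of_dvd_coprimes
        (Nat.Coprime.pow_right j hc)
        (Subgroup.orderOf_mk _ hxR ▸ orderOf_dvd_natCard _)
        (orderOf_dvd_of_pow_eq_one hj')
      exact Subtype.ext (Subtype.ext (orderOf_eq_one_iff.1 h1))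
    · exact (hρ.comp f₀.ker.subtype f₀.ker.subtype_injective).isCyclic_of_odd h2
        (Q : Subgroup f₀.ker) Q.isPGroup'
  refine ⟨f₀.ker, ⟨inferInstance, hofz hz₀, Or.inr (Or.inl ⟨f₀, hf₀s, rfl⟩)⟩, ?_⟩
  rintro N ⟨hNn, hNc, hN⟩
  haveI := hNn
  haveI := hzof hNc
  rcases hN with e' | hN | hN | hN | hN | hN
  · exact absurd e' (htop inferInstance)
  · obtain ⟨g, hg, rfl⟩ := hN
    have hle : f₀.ker ≤ g.ker := by
      intro x hx
      obtain ⟨y, hy⟩ := klein_ker _ hev (MonoidHom.mem_ker.1 hx)
      obtain ⟨z, rfl⟩ := hπ y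
      rw [← map_mul] at hy
      have hr : x * (z * z)⁻¹ ∈ R := hπk _ (by rw [map_mul, map_inv, hy, mul_inv_cancel])
      have hRle : R ≤ g.ker := (Subgroup.closure_le _).2 fun w hw => by
        show g w = 1
        have h1 : orderOf (g w) ∣ 2 := orderOf_dvd_of_pow_eq_one (by rw [sq]; exact sq_dihedral _)
        have h2 : orderOf (g w) ∣ orderOf w := orderOf_map_dvd g w
        exact orderOf_eq_one_iff.1 (Nat.eq_one_of_dvd_coprimes hw h2 h1)
      have : g (x * (z * z)⁻¹) = 1 := MonoidHom.mem_ker.1 (hRle hr)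
      rw [map_mul, map_inv, map_mul, sq_dihedral, inv_one, mul_one] at this
      exact this
    refine (Subgroup.eq_of_le_of_card_ge hle ?_).symm
    have e1 := f₀.ker.card_mul_index
    have e2 := g.ker.card_mul_index
    rw [Subgroup.index_ker, MonoidHom.range_eq_top.2 hf₀s, Subgroup.card_top, card_dihedral] at e1
    rw [Subgroup.index_ker, MonoidHom.range_eq_top.2 hg, Subgroup.card_top, card_dihedral] at e2
    omega
  · exact absurd hn (Type34.not_hnpc (N := N) (Or.inl hN))
  · exact absurd hn (Type34.not_hnpc (N := N) (Or.inr hN))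
  · exact absurd hs (Type56.not_solvable (N := N) (Or.inl hN))
  · exact absurd hs (Type56.not_solvable (N := N) (Or.inr hN))


/-- Let G be a finite group that occurs as a Frobenius complement. Then G has exactly one normal subgroup N such that every Sylow subgroup of N is cyclic and the quotient of G by N is trivial or isomorphic to one of the following five groups: the Klein four-group, the alternating group of degree 4, the symmetric group of degree 4, the alternating group of degree 5, the symmetric group of degree 5. (The quotient is described by a surjective homomorphism with kernel N; the Klein four-group is written as the dihedral group of order 4.) -/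
theorem result {G : Type*} [Group G] [Finite G]
    (hFC : (∃ (L : Type) (_ : Group L) (_ : Finite L) (H : Subgroup L), Cfsg.IsFrobeniusComplement H ∧ Nonempty (G ≃* H))) :
    ∃! N : Subgroup G, N.Normal ∧ (∀ (p : ℕ) [Fact p.Prime] (P : Sylow p N), IsCyclic P) ∧
      (N = ⊤ ∨
        (∃ f : G →* DihedralGroup 2, Function.Surjective f ∧ f.ker = N) ∨
        (∃ f : G →* alternatingGroup (Fin 4), Function.Surjective f ∧ f.ker = N) ∨
        (∃ f : G →* Equiv.Perm (Fin 4), Function.Surjective f ∧ f.ker = N) ∨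
        (∃ f : G →* alternatingGroup (Fin 5), Function.Surjective f ∧ f.ker = N) ∨
        (∃ f : G →* Equiv.Perm (Fin 5), Function.Surjective f ∧ f.ker = N)) := by
  exact main (hasFpf_of_iso_frobenius hFC)

end Cfsg.Agent.S4291
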