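import Cfsg.Statements.S3358
import Cfsg.Agent.S4291
import Cfsg.Agent.Lib.Solv.ZPresent
-- import your own Cfsg.Agent.* helpers here

set_option autoImplicit false
open Cfsg

namespace Cfsg.Agent.S3358

/-- Structure of solvable Frobenius complements. Let G be a finite solvable group that occurs as a Frobenius complement. Then G has a normal subgroup G₀ such that G/G₀ is isomorphic to a subgroup of Sym(4) (G₀ is the kernel of a homomorphism to Sym(4)), all Sylow subgroups of G₀ are cyclic, and G₀ has a presentation ⟨x, y | x^n = 1, y^m = 1, x⁻¹ y x = y^r⟩ with n, m ≥ 1, gcd(r − 1, m) = gcd(n, m) = 1 and r^(n/n′) ≡ 1 (mod m), where n′ is the product of the distinct primes dividing n. -/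
theorem result {G : Type*} [Group G] [Finite G] (hsol : Group.IsSolvable G)
    (hFC : ∃ (L : Type) (_ : Group L) (_ : Finite L) (H : Subgroup L), Cfsg.IsFrobeniusComplement H ∧ Nonempty (G ≃* H)) :
    ∃ G₀ : Subgroup G, G₀.Normal ∧
      (∃ f : G →* Equiv.Perm (Fin 4), f.ker = G₀) ∧
      (∀ (p : ℕ) [Fact p.Prime] (P : Sylow p G₀), IsCyclic P) ∧
      ∃ n m r : ℕ, 0 < n ∧ 0 < m ∧ Nat.Coprime (r - 1) m ∧ Nat.Coprime n m ∧ 1 ≤ r ∧
        r ^ (n / ∏ p ∈ n.primeFactors, p) % m = 1 % m ∧
        Nonempty (G₀ ≃* PresentedGroup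
          ({FreeGroup.of (0 : Fin 2) ^ n, FreeGroup.of (1 : Fin 2) ^ m,
            (FreeGroup.of (0 : Fin 2))⁻¹ * FreeGroup.of 1 * FreeGroup.of 0 * (FreeGroup.of (1 : Fin 2) ^ r)⁻¹} :
            Set (FreeGroup (Fin 2)))) := by
  classical
  obtain ⟨N, ⟨hNn, hNcyc, hq⟩, -⟩ := S4291.result hFC
  haveI := hsol
  refine ⟨N, hNn, ?_, fun p _ P => hNcyc p P, ?_⟩
  · rcases hq with rfl | ⟨f, -, hf⟩ | ⟨f, -, hf⟩ | ⟨f, -, hf⟩ | ⟨f, hfs, -⟩ | ⟨f, hfs, -⟩
    · exact ⟨1, MonoidHom.ker_one⟩
    · have hcard : Fintype.card (DihedralGroup 2) = 4 := by rw [DihedralGroup.card]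
      refine ⟨((Fintype.equivFinOfCardEq hcard).permCongrHom.toMonoidHom.comp
        (MulAction.toPermHom (DihedralGroup 2) (DihedralGroup 2))).comp f, ?_⟩
      rw [← hf]
      ext g
      simp only [MonoidHom.mem_ker, MonoidHom.comp_apply]
      constructor
      · intro h
        have h2 := (Fintype.equivFinOfCardEq hcard).permCongrHom.injective (h.trans (map_one _).symm)
        exact MulAction.toPerm_injective (h2.trans (map_one (MulAction.toPermHom (DihedralGroup 2) (DihedralGroup 2))).symm)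
      · intro h
        rw [h, map_one]
        exact map_one _
    · refine ⟨(alternatingGroup (Fin 4)).subtype.comp f, ?_⟩
      rw [← hf]
      ext g
      simp only [MonoidHom.mem_ker, MonoidHom.comp_apply, Subgroup.coe_subtype, OneMemClass.coe_eq_one]
    · exact ⟨f, hf⟩
    · exfalso
      haveI : Group.IsSolvable (alternatingGroup (Fin 5)) := Group.isSolvable_of_surjective hfs
      exact Equiv.Perm.fin_5_not_solvable
        (Group.isSolvable_of_ker_le_range (alternatingGroup (Fin 5)).subtype (Equiv.Perm.sign (α := Fin 5))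
          (by rw [Subgroup.range_subtype]; exact le_rfl))
    · exfalso
      exact Equiv.Perm.fin_5_not_solvable (Group.isSolvable_of_surjective hfs)
  · haveI : IsZGroup N := ⟨fun p hp P => by haveI := Fact.mk hp; exact hNcyc p P⟩
    exact Solv.ZPresent.presentation
      ((Perm.Fpf.hasFpf_of_iso_frobenius hFC).comp N.subtype N.subtype_injective)

end Cfsg.Agent.S3358
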