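import Cfsg.Statements.S3362
import Mathlib
import Cfsg.Agent.Lib.Lie.M12Chain
-- import your own Cfsg.Agent.* helpers here

set_option autoImplicit false
open Cfsg

namespace Cfsg.Agent.S3362

/-- An explicit construction of the Mathieu groups of degrees 11 and 12. On the points 0, …, 11 let s = (3 4 5)(6 7 8)(9 10 11), t = (3 6 9)(4 7 10)(5 8 11), u = (4 6 5 9)(7 8 11 10), v = (4 7 5 11)(6 10 9 8), w = (4 10 5 8)(6 11 9 7), x₁ = (0 3)(6 7)(8 10)(9 11), x₂ = (0 1)(6 9)(7 10)(8 11), x₃ = (1 2)(6 11)(7 9)(8 10) (each written as a product of transpositions). Then the group M₁₂ generated by all eight permutations is sharply 5-transitive on the 12 points and has order 95040, and the group M₁₁ generated by the first seven has order 7920 and is the stabilizer of the point 2 in M₁₂. -/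
theorem result
    (s t u v w x₁ x₂ x₃ : Equiv.Perm (Fin 12))
    (hs : s = Equiv.swap (3 : Fin 12) 5 * Equiv.swap (3 : Fin 12) 4 * Equiv.swap (6 : Fin 12) 8 * Equiv.swap (6 : Fin 12) 7 * Equiv.swap (9 : Fin 12) 11 * Equiv.swap (9 : Fin 12) 10) (ht : t = Equiv.swap (3 : Fin 12) 9 * Equiv.swap (3 : Fin 12) 6 * Equiv.swap (4 : Fin 12) 10 * Equiv.swap (4 : Fin 12) 7 * Equiv.swap (5 : Fin 12) 11 * Equiv.swap (5 : Fin 12) 8)
    (hu : u = Equiv.swap (4 : Fin 12) 9 * Equiv.swap (4 : Fin 12) 5 * Equiv.swap (4 : Fin 12) 6 * Equiv.swap (7 : Fin 12) 10 * Equiv.swap (7 : Fin 12) 11 * Equiv.swap (7 : Fin 12) 8) (hv : v = Equiv.swap (4 : Fin 12) 11 * Equiv.swap (4 : Fin 12) 5 * Equiv.swap (4 : Fin 12) 7 * Equiv.swap (6 : Fin 12) 8 * Equiv.swap (6 : Fin 12) 9 * Equiv.swap (6 : Fin 12) 10) (hw : w = Equiv.swap (4 : Fin 12) 8 * Equiv.swap (4 : Fin 12) 5 * Equiv.swap (4 : Fin 12) 10 * Equiv.swap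 (6 : Fin 12) 7 * Equiv.swap (6 : Fin 12) 9 * Equiv.swap (6 : Fin 12) 11)
    (hx₁ : x₁ = Equiv.swap (0 : Fin 12) 3 * Equiv.swap (6 : Fin 12) 7 * Equiv.swap (8 : Fin 12) 10 * Equiv.swap (9 : Fin 12) 11) (hx₂ : x₂ = Equiv.swap (0 : Fin 12) 1 * Equiv.swap (6 : Fin 12) 9 * Equiv.swap (7 : Fin 12) 10 * Equiv.swap (8 : Fin 12) 11)
    (hx₃ : x₃ = Equiv.swap (1 : Fin 12) 2 * Equiv.swap (6 : Fin 12) 11 * Equiv.swap (7 : Fin 12) 9 * Equiv.swap (8 : Fin 12) 10)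
    (M₁₂ M₁₁ : Subgroup (Equiv.Perm (Fin 12))) (hM₁₂ : M₁₂ = Subgroup.closure {s, t, u, v, w, x₁, x₂, x₃})
    (hM₁₁ : M₁₁ = Subgroup.closure {s, t, u, v, w, x₁, x₂}) :
    MulAction.IsMultiplyPretransitive M₁₂ (Fin 12) 5 ∧ (∀ y : Fin 5 ↪ Fin 12, MulAction.stabilizer M₁₂ y = ⊥) ∧
    Nat.card M₁₂ = 95040 ∧ Nat.card M₁₁ = 7920 ∧
    M₁₁ = M₁₂ ⊓ MulAction.stabilizer (Equiv.Perm (Fin 12)) (2 : Fin 12) := by
  classical
  open Cfsg.Agent.Lie.M12Chain in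
  have hP : s = P 0 ∧ t = P 1 ∧ u = P 2 ∧ v = P 3 ∧ w = P 4 ∧ x₁ = P 5 ∧ x₂ = P 6 ∧ x₃ = P 7 := by
    subst hs ht hu hv hw hx₁ hx₂ hx₃
    refine ⟨?_, ?_, ?_, ?_, ?_, ?_, ?_, ?_⟩ <;> refine Equiv.ext fun x => ?_ <;> revert x <;> decide +kernel
  obtain ⟨es, et, eu, ev', ew, e1, e2, e3⟩ := hP
  have h12 : M₁₂ = Cfsg.Agent.Lie.M12Chain.gen [0, 1, 2, 3, 4, 5, 6, 7] := by
    rw [hM₁₂, es, et, eu, ev', ew, e1, e2, e3, Cfsg.Agent.Lie.M12Chain.gen]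
    congr 1
    ext p
    simp [eq_comm]
  have h11 : M₁₁ = Cfsg.Agent.Lie.M12Chain.gen [0, 1, 2, 3, 4, 5, 6] := by
    rw [hM₁₁, es, et, eu, ev', ew, e1, e2, Cfsg.Agent.Lie.M12Chain.gen]
    congr 1
    ext p
    simp [eq_comm]
  have hc12 : Nat.card M₁₂ = 95040 := by rw [h12]; exact Cfsg.Agent.Lie.M12Chain.card_twelve
  let y₀ : Fin 5 ↪ Fin 12 := ⟨![2, 1, 0, 3, 4], by decide +kernel⟩
  have hst0 : MulAction.stabilizer M₁₂ y₀ = ⊥ := by
    refine eq_bot_iff.2 fun g hg => ?_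
    have hfix : ∀ i, (g : Equiv.Perm (Fin 12)) (y₀ i) = y₀ i := fun i =>
      congrArg (fun e : Fin 5 ↪ Fin 12 => e i) (MulAction.mem_stabilizer_iff.1 hg)
    rw [Subgroup.mem_bot]
    exact Subtype.ext (Cfsg.Agent.Lie.M12Chain.eq_one_of_fix (h12 ▸ g.2) (hfix 0) (hfix 1) (hfix 2) (hfix 3) (hfix 4))
  have horb : MulAction.orbit M₁₂ y₀ = Set.univ := by
    refine Set.eq_of_subset_of_ncard_le (Set.subset_univ _) ?_ (Set.toFinite _)
    have h := MulAction.index_stabilizer M₁₂ y₀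
    rw [hst0, Subgroup.index_bot, hc12] at h
    rw [Set.ncard_univ, ← Nat.card_coe_set_eq, show Nat.card (MulAction.orbit M₁₂ y₀) = 95040 by rw [Nat.card_coe_set_eq]; exact h.symm, Nat.card_eq_fintype_card, Fintype.card_embedding_eq, Fintype.card_fin, Fintype.card_fin]
    rfl
  have hpt : MulAction.IsPretransitive M₁₂ (Fin 5 ↪ Fin 12) := by
    refine ⟨fun a b => ?_⟩
    obtain ⟨g, hg⟩ := (horb.symm ▸ Set.mem_univ a : a ∈ MulAction.orbit M₁₂ y₀)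
    obtain ⟨k, hk⟩ := (horb.symm ▸ Set.mem_univ b : b ∈ MulAction.orbit M₁₂ y₀)
    refine ⟨k * g⁻¹, ?_⟩
    show (k * g⁻¹) • a = b
    rw [← hg, ← hk]
    show (k * g⁻¹) • (g • y₀) = k • y₀
    exact (smul_smul (k * g⁻¹) g y₀).trans (congrArg (· • y₀) (inv_mul_cancel_right k g))
  refine ⟨⟨hpt.1⟩, fun y => ?_, hc12, by rw [h11]; exact Cfsg.Agent.Lie.M12Chain.card_eleven, ?_⟩
  · apply Subgroup.card_eq_one.1
    have h := Subgroup.card_mul_index (MulAction.stabilizer M₁₂ y)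
    have hi : (MulAction.stabilizer M₁₂ y).index = Nat.card (Fin 5 ↪ Fin 12) :=
      (MulAction.index_stabilizer M₁₂ y).trans
        ((congrArg Set.ncard (Set.eq_univ_of_forall fun z => hpt.1 y z)).trans (Set.ncard_univ _))
    rw [hi, hc12, Nat.card_eq_fintype_card (α := Fin 5 ↪ Fin 12),
      Fintype.card_embedding_eq, Fintype.card_fin, Fintype.card_fin] at h
    rw [show Nat.descFactorial 12 5 = 95040 from rfl] at h
    omega
  · rw [h11, h12]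
    exact (Cfsg.Agent.Lie.M12Chain.level Cfsg.Agent.Lie.M12Chain.ok0).1.symm

end Cfsg.Agent.S3362
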