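import Cfsg.Statements.S3365
import Cfsg.Agent.Lib.Perm.FixFour.Main

set_option autoImplicit false
open Cfsg

namespace Cfsg.Agent.S3365

/-- Finite simple groups acting with fixity 4. Let G be a finite non-abelian simple group acting faithfully and transitively on a finite set so that every non-identity element fixes at most 4 points and some non-identity element fixes exactly 4 (fixity 4). Let P be a Sylow 3-subgroup, S a Sylow 2-subgroup, f the largest number of fixed points of an involution of G, and a a point. Then one of the following holds: (1) f ≥ 1 and G has a strongly embedded subgroup; (2) 1 ≤ f ≤ 3 and S is dihedral or semidihedral; (3) f = 4 and G has sectional 2-rank at most 4; (4) the point stabilizer G_a has odd order divisible by 3 and either G has a strongly 3-embedded subgroup (a proper subgroup H of order divisible by 3 such that H ∩ gHg⁻¹ has order prime to 3 for every element g outside H), or |P| = 3 and a Sylow 2-subgroup of N_G(P) has order at most 4, or P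 is elementary abelian of order 9, or P is extraspecial of order 27 and exponent 3, or P is isomorphic to a Sylow 3-subgroup of Sym(9) (the wreath product C₃ ≀ C₃); (5) G_a has order prime to 6. -/
theorem result {G Ω : Type*} [Group G] [Finite G] [IsSimpleGroup G] (hna : ¬ IsMulCommutative G)
    [MulAction G Ω] [FaithfulSMul G Ω] [Finite Ω] (htrans : MulAction.IsPretransitive G Ω)
    (hfix : ∀ g : G, g ≠ 1 → Nat.card (MulAction.fixedBy Ω g) ≤ 4)
    (hfix4 : ∃ g : G, g ≠ 1 ∧ Nat.card (MulAction.fixedBy Ω g) = 4)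
    (P : Sylow 3 G) (S : Sylow 2 G) (f : ℕ)
    (hf : ∀ g : G, orderOf g = 2 → Nat.card (MulAction.fixedBy Ω g) ≤ f)
    (hf' : ∃ g : G, orderOf g = 2 ∧ Nat.card (MulAction.fixedBy Ω g) = f) (a : Ω) :
    (1 ≤ f ∧ ∃ H : Subgroup G, Cfsg.IsStronglyEmbedded H) ∨
    (1 ≤ f ∧ f ≤ 3 ∧ ((∃ n : ℕ, Nonempty ((S : Subgroup G) ≃* DihedralGroup n)) ∨ Cfsg.IsQuasiDihedral (S : Subgroup G))) ∨
    (f = 4 ∧ Cfsg.SectionalPRankLE 2 4 G) ∨
    (Odd (Nat.card (MulAction.stabilizer G a)) ∧ 3 ∣ Nat.card (MulAction.stabilizer G a) ∧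
      ((∃ H : Subgroup G, H ≠ ⊤ ∧ 3 ∣ Nat.card H ∧ ∀ g : G, g ∉ H → ¬ 3 ∣ Nat.card ↥(H ⊓ H.map (MulAut.conj g).toMonoidHom)) ∨
       (Nat.card P = 3 ∧ ∀ T : Sylow 2 (Subgroup.normalizer ((P : Subgroup G) : Set G)), Nat.card T ≤ 4) ∨
       (Nat.card P = 9 ∧ ∀ x ∈ (P : Subgroup G), x ^ 3 = 1) ∨
       (Nat.card P = 27 ∧ Cfsg.IsExtraspecial 3 (P : Subgroup G) ∧ ∀ x ∈ (P : Subgroup G), x ^ 3 = 1) ∨
       (∃ T : Sylow 3 (Equiv.Perm (Fin 9)), Nonempty ((P : Subgroup G) ≃* (T : Subgroup (Equiv.Perm (Fin 9))))))) ∨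
    (Nat.card (MulAction.stabilizer G a)).Coprime 6 := by
  classical
  have hs : IsSimpleGroup G := inferInstance
  have hS : Agent.Perm.FixFour.Setting G Ω :=
    ⟨hs, hna, inferInstance, htrans, fun g hg => by
      rw [← Nat.card_coe_set_eq]; exact hfix g hg,
      Agent.Perm.FixFour.big_of_simple hs hna inferInstance⟩
  obtain ⟨t, ht, htf⟩ := hf'
  rcases Nat.eq_zero_or_pos f with hf0 | hpos
  · refine Or.inr (Or.inr (Or.inr ?_))
    have ho : Agent.Perm.FixFour.OddStab G Ω := fun x => by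
      rw [← Nat.not_even_iff_odd, even_iff_two_dvd]
      intro hd
      haveI := Fact.mk Nat.prime_two
      obtain ⟨⟨g, hg⟩, hg2⟩ := exists_prime_orderOf_dvd_card' 2 hd
      rw [Subgroup.orderOf_mk] at hg2
      have h0 := hf g hg2
      rw [hf0, Nat.card_coe_set_eq] at h0
      have hpos' : 0 < (MulAction.fixedBy Ω g).ncard :=
        (Set.ncard_pos (Set.toFinite _)).2 ⟨x, MulAction.mem_stabilizer_iff.1 hg⟩
      omega
    by_cases h3 : 3 ∣ Nat.card (MulAction.stabilizer G a)
    · left
      refine ⟨ho a, h3, ?_⟩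
      rcases Agent.Perm.FixFour.odd_case hS ho h3 with h | h
      · exact Or.inl h
      · exact Or.inr (Or.inr (Or.inl (h P)))
    · right
      rw [show 6 = 2 * 3 from rfl]
      exact Nat.Coprime.mul_right (Nat.coprime_two_right.2 (ho a))
        (((Nat.prime_three).coprime_iff_not_dvd.2 h3).symm)
  · have hT : Agent.Perm.FixFour.Top G (MulAction.fixedBy Ω t) f t :=
      ⟨hpos, fun g hg => by rw [← Nat.card_coe_set_eq]; exact hf g hg, ht, rfl,
        by rw [← Nat.card_coe_set_eq]; exact htf⟩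
    have hf4 : f ≤ 4 := hT.le_four hS
    rcases (show f ≤ 3 ∨ f = 4 by omega) with hf3 | rfl
    · rcases Agent.Perm.FixFour.small_case_f hS hT hf3 S with h | h
      · exact Or.inl ⟨hpos, h⟩
      · exact Or.inr (Or.inl ⟨hpos, hf3, h⟩)
    · rcases Agent.Perm.FixFour.four_case hS hT with h | h
      · exact Or.inl ⟨hpos, h⟩
      · exact Or.inr (Or.inr (Or.inl ⟨rfl, h⟩))

end Cfsg.Agent.S3365
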