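import Cfsg.Statements.S3366
import Cfsg.Agent.Lib.Small.ShapeThree.Recognise
import Cfsg.Agent.Lib.Small.ShapeThree.InPSp
-- import your own Cfsg.Agent.* helpers here

set_option autoImplicit false
open Cfsg

namespace Cfsg.Agent.S3366

/-- Let X be a finite group with O₃(X) extraspecial of order 27 and exponent 3, X/O₃(X) isomorphic to SL(2,3), O₂(X) = 1, and a Sylow 3-subgroup of X containing an elementary abelian subgroup of order 27. Then X is isomorphic to the centralizer in PSp(4,3) of a 3-central element of order 3 (an element of order 3 in the centre of a Sylow 3-subgroup). -/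
theorem result {X : Type*} [Group X] [Finite X]
    (hR : Cfsg.IsExtraspecial 3 (Cfsg.pCore 3 X)) (hRcard : Nat.card (Cfsg.pCore 3 X) = 27)
    (hRexp : ∀ r ∈ Cfsg.pCore 3 X, r ^ 3 = 1)
    (e : X ⧸ Cfsg.pCore 3 X ≃* Matrix.SpecialLinearGroup (Fin 2) (ZMod 3))
    (hO2 : Cfsg.pCore 2 X = ⊥)
    (hE : ∃ E : Subgroup X, IsMulCommutative E ∧ (∀ a ∈ E, a ^ 3 = 1) ∧ Nat.card E = 27)
    (F : Type*) [Field F] [Fintype F] (hF : Fintype.card F = 3) :
    ∃ (c : Cfsg.PSp 2 F) (S : Sylow 3 (Cfsg.PSp 2 F)), orderOf c = 3 ∧ c ∈ (S : Subgroup (Cfsg.PSp 2 F)) ∧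
      c ∈ Subgroup.centralizer ((S : Subgroup (Cfsg.PSp 2 F)) : Set (Cfsg.PSp 2 F)) ∧
      Nonempty (X ≃* Subgroup.centralizer ({c} : Set (Cfsg.PSp 2 F))) := by
  open Cfsg.Agent.Small.ShapeThree in
  have hsq : ∀ i : ZMod 3, i ≠ 0 → i * i = 1 := by clear * -; decide
  classical
  haveI : Fact (Nat.Prime 3) := ⟨Nat.prime_three⟩
  haveI : CharP F 3 := by
    obtain ⟨n, hp, hn⟩ := FiniteField.card F (ringChar F)
    have h3 : ringChar F = 3 := (Nat.prime_dvd_prime_iff_eq hp Nat.prime_three).1 (by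
      rw [← hF, hn]; exact dvd_pow_self _ n.2.ne')
    exact h3 ▸ ringChar.charP F
  obtain ⟨eX⟩ := recognise hR hRcard hRexp (e.toMonoidHom.comp (QuotientGroup.mk' _))
    (by ext x; simp) (e.surjective.comp (QuotientGroup.mk'_surjective _)) hO2 hE
  let ι : ZMod 3 →+* F := ZMod.castHom dvd_rfl F
  have hι : Function.Bijective ι :=
    (Fintype.bijective_iff_injective_and_card _).2 ⟨ι.injective, by rw [ZMod.card, hF]⟩
  have hF3 : (3 : F) = 0 := by exact_mod_cast CharP.cast_eq_zero F 3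
  have hle := centralizer_le ι hι.2 hF3
  have hinj := pspHom_inj ι
  have hrange : (pspHom ι).range = Subgroup.centralizer ({pspHom ι M.c} : Set (Cfsg.PSp 2 F)) := by
    refine le_antisymm ?_ hle
    rintro _ ⟨m, rfl⟩
    have hm : m * M.c = M.c * m := by
      refine M.ext ?_ ?_ ?_
      · simp [M.mul_k, M.c, omega]; ring
      · simp [M.mul_v, M.c]
      · simp [M.mul_g, M.c]
    rw [Subgroup.mem_centralizer_singleton_iff, ← map_mul, ← map_mul, hm]
  have hord : orderOf (pspHom ι M.c) = 3 := by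
    rw [orderOf_injective _ hinj]
    exact orderOf_eq_prime M.c_cube M.c_ne_one
  have hPp : IsPGroup 3 (M.P.map (pspHom ι)) := IsPGroup.of_card (n := 4) (by
    rw [Subgroup.card_map_of_injective hinj, M.card_P]; rfl)
  obtain ⟨T, hPT⟩ := hPp.exists_le_sylow
  have hcP : M.c ∈ M.P := ⟨rfl, rfl, rfl⟩
  have hcT : pspHom ι M.c ∈ (T : Subgroup (Cfsg.PSp 2 F)) := hPT ⟨_, hcP, rfl⟩
  refine ⟨pspHom ι M.c, T, hord, hcT, ?_, ⟨eX.symm.trans ((MonoidHom.ofInjective hinj).trans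
    (MulEquiv.subgroupCongr hrange))⟩⟩
  -- the centre of the Sylow subgroup meets the model in `⟨c⟩`
  haveI hnt : Nontrivial (Subgroup.center (T : Subgroup (Cfsg.PSp 2 F))) := by
    haveI : Nontrivial (T : Subgroup (Cfsg.PSp 2 F)) := ⟨⟨_, hcT⟩, 1, fun h => by
      have : pspHom ι M.c = 1 := congrArg Subtype.val h
      rw [this, orderOf_one] at hord
      omega⟩
    exact T.isPGroup'.center_nontrivial
  obtain ⟨⟨⟨w, hwT⟩, hwc⟩, hw1⟩ := exists_ne (1 : Subgroup.center (T : Subgroup (Cfsg.PSp 2 F)))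
  have hwcomm : ∀ y ∈ (T : Subgroup (Cfsg.PSp 2 F)), y * w = w * y := fun y hy =>
    congrArg Subtype.val (Subgroup.mem_center_iff.1 hwc ⟨y, hy⟩)
  obtain ⟨m, rfl⟩ := hle (Subgroup.mem_centralizer_singleton_iff.2 (hwcomm _ hcT).symm)
  have hmP : m ∈ M.P := by
    have hcomap : IsPGroup 3 ((T : Subgroup (Cfsg.PSp 2 F)).comap (pspHom ι)) :=
      T.isPGroup'.comap_of_injective _ hinj
    have hle' : M.P ≤ (T : Subgroup (Cfsg.PSp 2 F)).comap (pspHom ι) :=
      Subgroup.map_le_iff_le_comap.1 hPT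
    obtain ⟨n, hn⟩ := hcomap.exists_card_eq
    have hd : 3 ^ n ∣ 648 := hn ▸ M.card_eq ▸ Subgroup.card_subgroup_dvd_card _
    have hn4 : n ≤ 4 := by
      by_contra hc
      exact absurd ((pow_dvd_pow 3 (by omega : 5 ≤ n)).trans hd) (by norm_num)
    rw [Subgroup.eq_of_le_of_card_ge hle' (by
      rw [hn, M.card_P]; exact Nat.pow_le_pow_right (by norm_num) hn4)]
    exact hwT
  have hmc : ∀ x ∈ M.P, x * m = m * x := fun x hx => hinj (by
    rw [map_mul, map_mul]; exact hwcomm _ (hPT ⟨x, hx, rfl⟩))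
  obtain ⟨k, rfl⟩ := M.center_P m hmP hmc
  have hk : k ≠ 0 := fun h => hw1 (Subtype.ext (Subtype.ext (by subst h; exact map_one (pspHom ι))))
  have hgen : M.c = (⟨k, 0, 1⟩ : M) ^ k.val := by
    rw [M.c_pow k, ← pow_mul, M.c_pow_nat, Nat.cast_mul, ZMod.natCast_zmod_val]
    refine M.ext ?_ rfl rfl
    show (1 : ZMod 3) = k * k
    exact (hsq k hk).symm
  rw [Subgroup.mem_centralizer_iff]
  intro y hy
  rw [hgen, map_pow]
  exact (Commute.pow_right (hwcomm y hy : Commute y _) _).eq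


end Cfsg.Agent.S3366
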