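import Cfsg.Statements.S3370
import Mathlib
import Cfsg.Agent.Lib.Solv.UniqueSub
-- import your own Cfsg.Agent.* helpers here

set_option autoImplicit false
open Cfsg

namespace Cfsg.Agent.S3370

/-- An element of order `8` of `GL 2 3`. -/
def gx : GL (Fin 2) (ZMod 3) := ⟨!![1, 1; 2, 1], !![2, 1; 2, 2], by decide, by decide⟩

/-- An involution of `GL 2 3` inducing `x ↦ x ^ 3` on `gx`. -/
def gy : GL (Fin 2) (ZMod 3) := ⟨!![0, 1; 1, 0], !![0, 1; 1, 0], by decide, by decide⟩

theorem gl2three : orderOf gx = 2 ^ 3 ∧ orderOf gy = 2 ∧ gy * gx * gy⁻¹ = gx ^ (2 ^ (3 - 1) - 1) := by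
  haveI : Fact (Nat.Prime 2) := ⟨Nat.prime_two⟩
  refine ⟨orderOf_eq_prime_pow (n := 2) ?_ ?_, orderOf_eq_prime ?_ ?_, ?_⟩ <;> decide +kernel


/-- Let q be a prime, V a non-trivial finite vector space over the field with q elements, and G a non-trivial finite p-group (p prime) acting faithfully and linearly on V and transitively on the non-zero vectors. Then either q = 2 and G has prime order p = |V| − 1; or p = 2, V has q elements with q = 2^m + 1 and G is cyclic of order 2^m; or p = 2, q = 3, V has 9 elements and G is cyclic of order 8, quaternion of order 8, or semidihedral of order 16. -/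
theorem result (q : ℕ) [Fact q.Prime] {V : Type*} [AddCommGroup V] [Module (ZMod q) V] [Finite V] [Nontrivial V]
    {G : Type*} [Group G] [Finite G] [Nontrivial G] (p : ℕ) [Fact p.Prime] (hG : IsPGroup p G)
    (ρ : G →* (V ≃ₗ[ZMod q] V)) (hρ : Function.Injective ρ)
    (htrans : ∀ v w : V, v ≠ 0 → w ≠ 0 → ∃ g : G, ρ g v = w) :
    (q = 2 ∧ p = Nat.card V - 1 ∧ Nat.card G = p) ∨
    (p = 2 ∧ Nat.card V = q ∧ (∃ m : ℕ, q = 2 ^ m + 1 ∧ Nat.card G = 2 ^ m) ∧ IsCyclic G) ∨
    (p = 2 ∧ q = 3 ∧ Nat.card V = 9 ∧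
      ((IsCyclic G ∧ Nat.card G = 8) ∨ Nonempty (G ≃* QuaternionGroup 2) ∨ (Cfsg.IsQuasiDihedral G ∧ Nat.card G = 16))) := by
  classical
  haveI := Fintype.ofFinite V
  haveI := Fintype.ofFinite G
  have hq : q.Prime := Fact.out
  have hp : p.Prime := Fact.out
  set n := Module.finrank (ZMod q) V with hn
  have hV : Nat.card V = q ^ n := by rw [Module.natCard_eq_pow_finrank (K := ZMod q), Nat.card_zmod]
  have hn1 : 1 ≤ n := Module.finrank_pos
  let b : Module.Basis (Fin n) (ZMod q) V := Module.finBasis (ZMod q) V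
  let ψ : G →* GL (Fin n) (ZMod q) :=
    ((Units.mapEquiv (LinearMap.toMatrixAlgEquiv b).toMulEquiv).toMonoidHom.comp
      (LinearMap.GeneralLinearGroup.generalLinearEquiv (ZMod q) V).symm.toMonoidHom).comp ρ
  have hψ : Function.Injective ψ :=
    ((Units.mapEquiv (LinearMap.toMatrixAlgEquiv b).toMulEquiv).injective.comp
      (LinearMap.GeneralLinearGroup.generalLinearEquiv (ZMod q) V).symm.injective).comp hρ
  have hρ0 : ∀ g : G, ρ g 0 = 0 := fun g => map_zero _
  -- the orbit
  obtain ⟨v₀, hv₀⟩ := exists_ne (0 : V)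
  let St : Subgroup G :=
    { carrier := {g | ρ g v₀ = v₀}
      one_mem' := by simp
      mul_mem' := fun {a c} (ha : ρ a v₀ = v₀) (hc : ρ c v₀ = v₀) => by
        show ρ (a * c) v₀ = v₀
        rw [map_mul, LinearEquiv.mul_apply, hc, ha]
      inv_mem' := fun {a} (ha : ρ a v₀ = v₀) => by
        show ρ a⁻¹ v₀ = v₀
        conv_lhs => rw [← ha]
        rw [← LinearEquiv.mul_apply, ← map_mul, inv_mul_cancel, map_one]
        rfl }
  have horb : Nat.card (G ⧸ St) = Nat.card V - 1 := by
    rw [Nat.card_eq_fintype_card (α := V), ← Finset.card_univ, ← Finset.card_erase_of_mem (Finset.mem_univ (0 : V)),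
      ← Nat.card_eq_finsetCard]
    refine Nat.card_congr (Equiv.ofBijective (fun c => Quotient.liftOn' c (fun g : G => (⟨ρ g v₀, Finset.mem_erase.2 ⟨fun h => hv₀ ((ρ g).map_eq_zero_iff.1 h), Finset.mem_univ _⟩⟩ : ↥((Finset.univ : Finset V).erase 0))) ?_) ⟨?_, ?_⟩)
    · intro a c h
      have h' : ρ (a⁻¹ * c) v₀ = v₀ := QuotientGroup.leftRel_apply.1 h
      refine Subtype.ext ?_
      show ρ a v₀ = ρ c v₀
      conv_lhs => rw [← h']
      rw [← LinearEquiv.mul_apply, ← map_mul, mul_inv_cancel_left]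
    · intro x y h
      induction x using QuotientGroup.induction_on
      induction y using QuotientGroup.induction_on
      rename_i a c
      have h' : ρ a v₀ = ρ c v₀ := congrArg Subtype.val h
      refine QuotientGroup.eq.2 ?_
      show ρ (a⁻¹ * c) v₀ = v₀
      rw [map_mul, LinearEquiv.mul_apply, ← h', ← LinearEquiv.mul_apply, ← map_mul, inv_mul_cancel, map_one]
      rfl
    · intro w
      obtain ⟨g, hg⟩ := htrans v₀ w.1 hv₀ (Finset.mem_erase.1 w.2).1
      exact ⟨QuotientGroup.mk g, Subtype.ext hg⟩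
  obtain ⟨k, hk⟩ := IsPGroup.iff_card.1 hG
  have hk1 : 1 ≤ k := by
    by_contra h
    rw [show k = 0 by omega, pow_zero] at hk
    exact absurd hk Finite.one_lt_card.ne'
  have hdvd : q ^ n - 1 ∣ Nat.card G := by
    rw [← hV, ← horb]; exact ⟨Nat.card St, Subgroup.card_eq_card_quotient_mul_card_subgroup St⟩
  obtain ⟨a, hak, ha⟩ := (Nat.dvd_prime_pow hp).1 (hk ▸ hdvd)
  rcases hq.eq_two_or_odd' with hq2 | hqodd
  · -- characteristic two
    left
    refine ⟨hq2, ?_⟩
    subst hq2
    have hdet : Nat.card G ∣ ∏ i : Fin n, (2 ^ n - 2 ^ (i : ℕ)) := by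
      have := Subgroup.card_dvd_of_injective ψ hψ
      rwa [Matrix.card_GL_field, ZMod.card] at this
    have hn2 : 2 ≤ n := by
      by_contra h
      have hn' : n = 1 := by omega
      rw [hn'] at hdet
      rw [show (∏ i : Fin 1, (2 ^ 1 - 2 ^ (i : ℕ))) = 1 by simp, Nat.dvd_one] at hdet
      have := Finite.one_lt_card (α := G)
      omega
    have h4 : 4 ∣ 2 ^ n := (by simpa using Nat.pow_dvd_pow 2 hn2)
    have h4' : 4 ≤ 2 ^ n := Nat.le_of_dvd (by positivity) h4
    have hp2 : Odd p := hp.odd_of_ne_two fun h => by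
      rw [h] at ha
      rcases a with _ | a
      · simp at ha; omega
      · rw [pow_succ] at ha; omega
    have ha1 : a = 1 := by
      rcases Nat.even_or_odd a with ⟨c, hc⟩ | hodd
      · rcases c with _ | c
        · rw [hc] at ha; simp at ha; omega
        exfalso
        obtain ⟨j, hj⟩ := hp2.pow (n := c + 1)
        rw [hc, ← two_mul, pow_mul', hj] at ha
        have : (2 * j + 1) ^ 2 = 4 * (j * j + j) + 1 := by ring
        omega
      · have hd : p + 1 ∣ 2 ^ n := by
          have h := hodd.nat_add_dvd_pow_add_pow p 1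
          rw [one_pow, ← ha] at h
          rwa [Nat.sub_add_cancel (by omega)] at h
        by_contra hne
        have ha3 : 2 ≤ a := by rcases hodd with ⟨c, hc⟩; omega
        obtain ⟨j, hj1, hj⟩ := (Nat.dvd_prime_pow Nat.prime_two).1 hd
        have hd2 : 2 * (p + 1) ∣ p ^ a + 1 := by
          rw [← ha, Nat.sub_add_cancel (by omega), hj]
          have hlt : j < n := by
            by_contra h
            have h1 : p + 1 = p ^ a + 1 := by rw [hj, show j = n by omega, ← ha, Nat.sub_add_cancel (by omega)]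
            have h2 : p ^ 1 < p ^ a := Nat.pow_lt_pow_right hp.one_lt (by omega)
            rw [pow_one] at h2
            omega
          rw [← pow_succ']; exact Nat.pow_dvd_pow 2 hlt
        -- modulo 2 (p + 1), p ^ a + 1 is p + 1
        have key : ∀ c, p ^ (2 * c + 1) % (2 * (p + 1)) = p % (2 * (p + 1)) := by
          intro c
          induction c with
          | zero => simp
          | succ c ih =>
            rw [show 2 * (c + 1) + 1 = (2 * c + 1) + 2 by ring, pow_add, Nat.mul_mod, ih, ← Nat.mul_mod]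
            obtain ⟨t, ht⟩ := hp2
            rw [show p * p ^ 2 = p + (p * t) * (2 * (p + 1)) by rw [ht]; ring, Nat.add_mul_mod_self_right]
        obtain ⟨c, hc⟩ := hodd
        have e := Nat.dvd_iff_mod_eq_zero.1 hd2
        rw [hc, Nat.add_mod, key c, ← Nat.add_mod, Nat.mod_eq_of_lt (by omega)] at e
        omega
    rw [ha1, pow_one] at ha
    refine ⟨by rw [hV]; exact ha.symm, ?_⟩
    rw [hk]
    suffices k = 1 by rw [this, pow_one]
    by_contra hne
    have hp2d : p ^ 2 ∣ ∏ i : Fin n, (2 ^ n - 2 ^ (i : ℕ)) :=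
      (Nat.pow_dvd_pow p (show 2 ≤ k by omega)).trans (hk ▸ hdet)
    obtain ⟨m, hm⟩ : ∃ m, n = m + 1 := ⟨n - 1, by omega⟩
    rw [hm, Fin.prod_univ_succ] at hp2d
    simp only [Fin.val_zero, pow_zero, Fin.val_succ] at hp2d
    rw [← hm, ha, pow_two] at hp2d
    obtain ⟨i, -, hi⟩ := (Prime.dvd_finsetProd_iff hp.prime _).1 (Nat.dvd_of_mul_dvd_mul_left hp.pos hp2d)
    have hin : (i : ℕ) + 1 < n := by omega
    rw [show 2 ^ n - 2 ^ ((i : ℕ) + 1) = 2 ^ ((i : ℕ) + 1) * (2 ^ (n - ((i : ℕ) + 1)) - 1) by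
      rw [Nat.mul_sub, ← pow_add, mul_one, Nat.add_sub_cancel' hin.le]] at hi
    rcases hp.dvd_mul.1 hi with h | h
    · have := (Nat.prime_dvd_prime_iff_eq hp Nat.prime_two).1 (hp.dvd_of_dvd_pow h)
      obtain ⟨t, ht⟩ := hp2; omega
    · have h1 : 2 ^ (n - ((i : ℕ) + 1)) < 2 ^ n := Nat.pow_lt_pow_right (by norm_num) (by omega)
      have h2 : 2 ≤ 2 ^ (n - ((i : ℕ) + 1)) := le_self_pow₀ (by norm_num) (by omega)
      have := Nat.le_of_dvd (by omega) h
      omega
  -- odd characteristic
  right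
  have hqn : Odd (q ^ n) := hqodd.pow
  have hq3 : 3 ≤ q := by have := hq.two_le; rcases hqodd with ⟨t, ht⟩; omega
  have hqn3 : 3 ≤ q ^ n := hq3.trans (le_self_pow₀ (by omega) (by omega))
  have hp2 : p = 2 := by
    obtain ⟨t, ht⟩ := hqn
    have h2 : 2 ∣ p ^ a := ha ▸ ⟨t, by omega⟩
    exact ((Nat.prime_dvd_prime_iff_eq Nat.prime_two hp).1 (Nat.prime_two.dvd_of_dvd_pow h2)).symm
  subst hp2
  have hcases : n = 1 ∨ (q = 3 ∧ n = 2) := by
    rcases Nat.even_or_odd n with ⟨c, hc⟩ | hodd
    · right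
      have hc1 : 1 ≤ c := by omega
      have hc3 : 3 ≤ q ^ c := hq3.trans (le_self_pow₀ (by omega) (by omega))
      have hmul : (q ^ c - 1) * (q ^ c + 1) = 2 ^ a := by
        rw [← ha, hc, pow_add, mul_comm, ← Nat.sq_sub_sq, one_pow, pow_two]
      obtain ⟨i, -, hi⟩ := (Nat.dvd_prime_pow Nat.prime_two).1 (Dvd.intro _ hmul : q ^ c - 1 ∣ 2 ^ a)
      obtain ⟨j, -, hj⟩ := (Nat.dvd_prime_pow Nat.prime_two).1 (Dvd.intro_left _ hmul : q ^ c + 1 ∣ 2 ^ a)
      have hi1 : 1 ≤ i := by
        by_contra h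
        rw [show i = 0 by omega, pow_zero] at hi
        omega
      have hij : i < j := (Nat.pow_lt_pow_iff_right (le_refl 2)).1 (by omega)
      have hi2 : i = 1 := by
        by_contra hne
        have h1 : 4 ∣ 2 ^ i := Nat.pow_dvd_pow 2 (show 2 ≤ i by omega)
        have h2 : 4 ∣ 2 ^ j := Nat.pow_dvd_pow 2 (show 2 ≤ j by omega)
        omega
      rw [hi2, pow_one] at hi
      have hqc : q ^ c = 3 := by omega
      have hc' : c = 1 := by
        by_contra hne
        have : q ^ 2 ≤ q ^ c := Nat.pow_le_pow_right (by omega) (by omega)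
        nlinarith
      subst hc'
      exact ⟨by simpa using hqc, by omega⟩
    · left
      have hsum : (q - 1) * ∑ i ∈ Finset.range n, q ^ i = 2 ^ a := by
        have h := geom_sum_mul_add (q - 1) n
        rw [show q - 1 + 1 = q by omega] at h
        rw [← ha, mul_comm]
        omega
      obtain ⟨j, -, hj⟩ := (Nat.dvd_prime_pow Nat.prime_two).1 (Dvd.intro_left _ hsum : (∑ i ∈ Finset.range n, q ^ i) ∣ 2 ^ a)
      have hoddsum : (∑ i ∈ Finset.range n, q ^ i) % 2 = n % 2 := by
        rw [Finset.sum_nat_mod, Finset.sum_congr rfl fun i _ => Nat.odd_iff.1 hqodd.pow, Finset.sum_const, Finset.card_range,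
          smul_eq_mul, mul_one]
      rcases j with _ | j
      · rw [pow_zero] at hj
        by_contra hne
        have : ∑ i ∈ Finset.range 2, q ^ i ≤ ∑ i ∈ Finset.range n, q ^ i :=
          Finset.sum_le_sum_of_subset (Finset.range_mono (by omega))
        rw [Finset.sum_range_succ, Finset.sum_range_one, pow_zero, pow_one] at this
        omega
      · rw [hj, pow_succ, Nat.mul_mod_left] at hoddsum
        rw [Nat.odd_iff] at hodd
        omega
  rcases hcases with h1 | ⟨h3, h2⟩
  · left
    rw [h1, pow_one] at ha hV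
    have hinj : Function.Injective ((Matrix.GeneralLinearGroup.det).comp ψ) := by
      intro x y h
      apply hψ
      have h' := congrArg Units.val h
      change ((ψ x : GL (Fin n) (ZMod q)) : Matrix (Fin n) (Fin n) (ZMod q)).det = ((ψ y : GL (Fin n) (ZMod q)) : Matrix (Fin n) (Fin n) (ZMod q)).det at h'
      haveI : Subsingleton (Fin n) := by rw [h1]; infer_instance
      refine Units.ext (Matrix.ext fun i j => ?_)
      rw [Subsingleton.elim j i]
      rw [Matrix.det_eq_elem_of_subsingleton _ i, Matrix.det_eq_elem_of_subsingleton _ i] at h'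
      exact h'
    haveI : IsCyclic G := isCyclic_of_injective _ hinj
    refine ⟨rfl, hV, ⟨a, by omega, ?_⟩, ‹IsCyclic G›⟩
    have hd := Subgroup.card_dvd_of_injective _ hinj
    rw [Nat.card_eq_fintype_card (α := (ZMod q)ˣ), ZMod.card_units, ha] at hd
    rw [h1, pow_one, ha] at hdvd
    exact Nat.dvd_antisymm hd hdvd
  · right
    subst h3
    rw [h2] at hV
    refine ⟨rfl, rfl, by rw [hV]; norm_num, ?_⟩
    have hd : Nat.card G ∣ 48 := by
      have h := Subgroup.card_dvd_of_injective ψ hψ
      rw [Matrix.card_GL_field, ZMod.card, h2] at h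
      simpa [Fin.prod_univ_two] using h
    have h8 : 8 ∣ Nat.card G := by rw [h2] at hdvd; simpa using hdvd
    rw [hk] at hd h8
    have hk3 : k = 3 ∨ k = 4 := by
      have h1 : 8 ≤ 2 ^ k := Nat.le_of_dvd (by positivity) h8
      have h3 : 3 ≤ k := by
        by_contra h
        have := Nat.pow_le_pow_right (show 0 < 2 by omega) (show k ≤ 2 by omega)
        norm_num at this
        omega
      have h4 : k < 5 := by
        by_contra h
        have : (2 : ℕ) ^ 5 ∣ 48 := (Nat.pow_dvd_pow 2 (show 5 ≤ k by omega)).trans hd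
        norm_num at this
      omega
    rcases hk3 with rfl | rfl
    · -- regular
      have hSt : Nat.card St = 1 := by
        have h := Subgroup.card_eq_card_quotient_mul_card_subgroup St
        rw [horb, hV, hk] at h
        have h' : 8 = 8 * Nat.card St := h
        omega
      have hfree : ∀ (g : G) (v : V), v ≠ 0 → ρ g v = v → g = 1 := by
        intro g v hv hgv
        obtain ⟨t, ht⟩ := htrans v₀ v hv₀ hv
        have hmem : t⁻¹ * g * t ∈ St := by
          show ρ (t⁻¹ * g * t) v₀ = v₀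
          rw [map_mul, map_mul, LinearEquiv.mul_apply, LinearEquiv.mul_apply, ht, hgv]
          rw [← ht, ← LinearEquiv.mul_apply, ← map_mul, inv_mul_cancel, map_one]
          rfl
        rw [Subgroup.eq_bot_of_card_eq St hSt, Subgroup.mem_bot] at hmem
        calc g = t * (t⁻¹ * g * t) * t⁻¹ := by group
          _ = 1 := by rw [hmem, mul_one, mul_inv_cancel]
      have hneg : ∀ g : G, g ^ 2 = 1 → g ≠ 1 → ∀ v, ρ g v = -v := by
        intro g hg hg1 v
        by_contra hne
        refine hg1 (hfree g (v + ρ g v) (fun h => hne (eq_neg_of_add_eq_zero_right h)) ?_)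
        rw [map_add, ← LinearEquiv.mul_apply, ← map_mul, ← pow_two, hg, map_one]
        exact add_comm _ _
      have hu : Cfsg.Agent.Solv.UniqueOrderP 2 G := by
        intro x y hx hy hy1
        by_cases hx1 : x = 1
        · rw [hx1]; exact Subgroup.one_mem _
        · rw [hρ (LinearEquiv.ext fun v => (hneg x hx hx1 v).trans (hneg y hy hy1 v).symm)]
          exact Subgroup.mem_zpowers y
      rcases Cfsg.Agent.Solv.cyclic_or_quaternion hG hu with hc | ⟨-, m, ⟨e⟩⟩
      · exact Or.inl ⟨hc, by rw [hk]; norm_num⟩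
      · refine Or.inr (Or.inl ?_)
        haveI : NeZero (2 ^ m) := ⟨by positivity⟩
        have hm := Nat.card_congr e.toEquiv
        rw [hk, Nat.card_eq_fintype_card, QuaternionGroup.card] at hm
        have : 2 ^ m = 2 := by omega
        exact ⟨e.trans (by rw [this])⟩
    · -- a Sylow subgroup
      refine Or.inr (Or.inr ⟨?_, by rw [hk]; norm_num⟩)
      haveI : Fact (Nat.Prime 2) := ⟨Nat.prime_two⟩
      haveI : Fact (Nat.Prime 3) := ⟨Nat.prime_three⟩
      let b2 : Module.Basis (Fin 2) (ZMod 3) V := b.reindex (finCongr h2)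
      let ψ2 : G →* GL (Fin 2) (ZMod 3) :=
        ((Units.mapEquiv (LinearMap.toMatrixAlgEquiv b2).toMulEquiv).toMonoidHom.comp
          (LinearMap.GeneralLinearGroup.generalLinearEquiv (ZMod 3) V).symm.toMonoidHom).comp ρ
      have hψ2 : Function.Injective ψ2 :=
        ((Units.mapEquiv (LinearMap.toMatrixAlgEquiv b2).toMulEquiv).injective.comp
          (LinearMap.GeneralLinearGroup.generalLinearEquiv (ZMod 3) V).symm.injective).comp hρ
      let Q : Sylow 2 (GL (Fin 2) (ZMod 3)) := Sylow.ofCard ψ2.range (by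
        rw [← Nat.card_congr (MonoidHom.ofInjective hψ2).toEquiv, hk, Matrix.card_GL_field, ZMod.card]
        congr 1
        simp [Fin.prod_univ_two]
        rw [show (48 : ℕ) = 2 ^ 4 * 3 by norm_num, Nat.factorization_mul (by norm_num) (by norm_num), Finsupp.add_apply,
          Nat.prime_two.factorization_pow, Nat.prime_three.factorization]
        simp)
      obtain ⟨hx, hy, hxy⟩ := gl2three
      set x := gx with hxdef
      set y := gy with hydef
      have hP : IsPGroup 2 (Subgroup.zpowers y ⊔ Subgroup.zpowers x : Subgroup (GL (Fin 2) (ZMod 3))) := by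
        refine IsPGroup.to_sup_of_normal_right' (IsPGroup.of_card (n := 1) ?_) (IsPGroup.of_card (n := 3) ?_) ?_
        · rw [Nat.card_zpowers, hy, pow_one]
        · rw [Nat.card_zpowers, hx]
        · rw [Subgroup.zpowers_le, Subgroup.mem_normalizer_iff_map_conj_eq]
          refine Subgroup.eq_of_le_of_card_ge ?_ (Subgroup.card_map_of_injective (MulAut.conj y).injective).ge
          rw [MonoidHom.map_zpowers, Subgroup.zpowers_le]
          show y * x * y⁻¹ ∈ Subgroup.zpowers x
          rw [hxy]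
          exact Subgroup.pow_mem _ (Subgroup.mem_zpowers x) _
      obtain ⟨P, hle⟩ := hP.exists_le_sylow
      obtain ⟨g, hg⟩ := MulAction.exists_smul_eq (GL (Fin 2) (ZMod 3)) P Q
      have hmem : ∀ z ∈ (Subgroup.zpowers y ⊔ Subgroup.zpowers x : Subgroup (GL (Fin 2) (ZMod 3))), ∃ t : G, ψ2 t = g * z * g⁻¹ := by
        intro z hz
        have hin : g * z * g⁻¹ ∈ (Q : Subgroup (GL (Fin 2) (ZMod 3))) := by
          rw [← hg, Sylow.coe_subgroup_smul, Subgroup.mem_pointwise_smul_iff_inv_smul_mem]
          simpa [MulAut.conj_apply, mul_assoc] using hle hz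
        exact hin
      obtain ⟨x', hx'⟩ := hmem x (Subgroup.mem_sup_right (Subgroup.mem_zpowers x))
      obtain ⟨y', hy'⟩ := hmem y (Subgroup.mem_sup_left (Subgroup.mem_zpowers y))
      have hord : ∀ (t : G) z, ψ2 t = g * z * g⁻¹ → orderOf t = orderOf z := fun t z h => by
        rw [← orderOf_injective ψ2 hψ2, h, ← MulAut.conj_apply]
        exact MulEquiv.orderOf_eq (MulAut.conj g) z
      refine ⟨3, le_rfl, by rw [hk], x', y', (hord _ _ hx').trans hx, (hord _ _ hy').trans hy, hψ2 ?_⟩
      rw [map_mul, map_mul, map_inv, map_pow, hx', hy', conj_pow, ← hxy]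
      group

end Cfsg.Agent.S3370
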