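import Cfsg.Statements.S3374
import Cfsg.Agent.Lib.Perm.Fpf.Entry

set_option autoImplicit false
set_option linter.style.haveILetI false
open Cfsg

namespace Cfsg.Agent.S3374

open Cfsg.Agent.Perm.Fpf
open scoped Pointwise

theorem facts29 : ((6 : ZMod 29) * 6 = 6 + 1) ∧ ((12 : ZMod 29) * 12 = -1) ∧
    ((2 : ZMod 29) ≠ 0) ∧ ((3 : ZMod 29) ≠ 0) ∧ ((5 : ZMod 29) ≠ 0) := by decide

instance fact29 : Fact (Nat.Prime 29) := ⟨by norm_num⟩

/-- The action on the plane over the field with 29 elements. -/
noncomputable def act : SL25.SL →* MulAut (Multiplicative (Fin 2 → ZMod 29)) where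
  toFun g :=
    { toFun := fun v => Multiplicative.ofAdd
        ((SL25.psi facts29.1 facts29.2.1 g).mulVec (Multiplicative.toAdd v))
      invFun := fun v => Multiplicative.ofAdd
        ((SL25.psi facts29.1 facts29.2.1 g⁻¹).mulVec (Multiplicative.toAdd v))
      left_inv := fun v => by
        simp only [toAdd_ofAdd, Matrix.mulVec_mulVec, ← map_mul, inv_mul_cancel, map_one,
          Matrix.one_mulVec, ofAdd_toAdd]
      right_inv := fun v => by
        simp only [toAdd_ofAdd, Matrix.mulVec_mulVec, ← map_mul, mul_inv_cancel, map_one,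
          Matrix.one_mulVec, ofAdd_toAdd]
      map_mul' := fun v w => by
        simp only [toAdd_mul, Matrix.mulVec_add, ofAdd_add] }
  map_one' := MulEquiv.ext fun v => by simp
  map_mul' a b := MulEquiv.ext fun v => by
    show Multiplicative.ofAdd
        ((SL25.psi facts29.1 facts29.2.1 (a * b)).mulVec (Multiplicative.toAdd v)) =
      Multiplicative.ofAdd ((SL25.psi facts29.1 facts29.2.1 a).mulVec
        ((SL25.psi facts29.1 facts29.2.1 b).mulVec (Multiplicative.toAdd v)))
    rw [map_mul, Matrix.mulVec_mulVec]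

theorem act_fpf {g : SL25.SL} (hg : g ≠ 1) {v : Multiplicative (Fin 2 → ZMod 29)}
    (hv : act g v = v) : v = 1 := by
  obtain ⟨h1, h2, h3, h4, h5⟩ := facts29
  by_contra hne
  have hd : (SL25.psi facts29.1 facts29.2.1 g - 1).det = 0 :=
    Matrix.exists_mulVec_eq_zero_iff.1 ⟨Multiplicative.toAdd v, fun e => hne e, by
      rw [Matrix.sub_mulVec, Matrix.one_mulVec, sub_eq_zero]
      exact congrArg Multiplicative.toAdd hv⟩
  refine SL25.psi_trace h1 h2 h3 h4 h5 g hg ?_
  have hdet := SL25.psi_det h1 h2 g
  rw [Matrix.det_fin_two] at hdet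
  simp [Matrix.det_fin_two] at hd
  rw [Matrix.trace_fin_two]
  linear_combination hdet - hd


/-- SL(2,5) occurs as a Frobenius complement: there is a finite group L with a subgroup H isomorphic to SL(2,5) which is a non-trivial proper subgroup meeting each conjugate gHg⁻¹ with g outside H trivially. -/
theorem result :
    ∃ (L : Type) (_ : Group L) (_ : Finite L) (H : Subgroup L),
      Cfsg.IsFrobeniusComplement H ∧ Nonempty (H ≃* Matrix.SpecialLinearGroup (Fin 2) (ZMod 5)) := by
  let L := Multiplicative (Fin 2 → ZMod 29) ⋊[act] SL25.SL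
  haveI : Finite L := Finite.of_equiv _ SemidirectProduct.equivProd.symm
  set H := (SemidirectProduct.inr : SL25.SL →* L).range with hH
  refine ⟨L, inferInstance, inferInstance, H, ⟨?_, ?_, fun g hg => ?_⟩,
    ⟨(MonoidHom.ofInjective SemidirectProduct.inr_injective).symm⟩⟩
  · intro e
    have hc : Nat.card H = 120 := by
      rw [← Nat.card_congr
        (MonoidHom.ofInjective (f := (SemidirectProduct.inr : SL25.SL →* L))
          SemidirectProduct.inr_injective).toEquiv, SL25.card_SL]
    rw [e, Subgroup.card_bot] at hc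
    omega
  · intro e
    have hm : (SemidirectProduct.inl (Multiplicative.ofAdd (fun _ => (1 : ZMod 29))) : L) ∈ H :=
      e ▸ Subgroup.mem_top _
    obtain ⟨x, hx⟩ := hm
    have h1 : (1 : Multiplicative (Fin 2 → ZMod 29)) = Multiplicative.ofAdd (fun _ => (1 : ZMod 29)) :=
      congrArg SemidirectProduct.left hx
    exact zero_ne_one (congrFun (congrArg Multiplicative.toAdd h1) 0)
  rw [eq_bot_iff]
  rintro _ ⟨⟨x, rfl⟩, hc⟩
  rw [Subgroup.mem_bot]
  have hc' : (MulAut.conj g)⁻¹ • (SemidirectProduct.inr x : L) ∈ H :=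
    Subgroup.mem_pointwise_smul_iff_inv_smul_mem.1 hc
  obtain ⟨y, hy⟩ := hc'
  have hy' : g * SemidirectProduct.inr y = SemidirectProduct.inr x * g := by
    rw [hy]; simp [MulAut.smul_def, mul_assoc]
  have hl := congrArg SemidirectProduct.left hy'
  rw [SemidirectProduct.mul_left, SemidirectProduct.mul_left, SemidirectProduct.left_inr,
    SemidirectProduct.left_inr, SemidirectProduct.right_inr, map_one, mul_one, one_mul] at hl
  by_contra hx1
  refine hg ⟨g.right, ?_⟩
  have hx0 : x ≠ 1 := fun e => hx1 (by rw [e, map_one])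
  exact SemidirectProduct.ext (by simp [act_fpf hx0 hl.symm]) (by simp)

end Cfsg.Agent.S3374
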