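import Cfsg.Statements.S3375
import Mathlib
-- import your own Cfsg.Agent.* helpers here

set_option autoImplicit false
open Cfsg

namespace Cfsg.Agent.S3375

/-- Let γ be an automorphism of order 2 of a finite group H. (i) If γ fixes only the identity, then H is abelian and γ inverts every element. (ii) If γ has exactly two fixed points and H has a subgroup of index 2, then H has a γ-invariant abelian subgroup of index 2 on which γ acts by inversion. -/
theorem result {H : Type*} [Group H] [Finite H] (γ : MulAut H) (hγ : orderOf γ = 2) :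
    ((∀ h : H, γ h = h → h = 1) → (∀ a b : H, a * b = b * a) ∧ ∀ h : H, γ h = h⁻¹) ∧
    ((Nat.card {h : H // γ h = h} = 2 ∧ ∃ M : Subgroup H, M.index = 2) →
      ∃ A : Subgroup H, A.index = 2 ∧ IsMulCommutative A ∧ (∀ a ∈ A, γ a ∈ A) ∧ ∀ a ∈ A, γ a = a⁻¹) := by
  classical
  have hγγ : ∀ h : H, γ (γ h) = h := by
    intro h
    have h2 : γ * γ = 1 := by rw [← pow_two, ← hγ, pow_orderOf_eq_one]
    exact congrArg (fun f : MulAut H => f h) h2
  let φ : H → H := fun h => h⁻¹ * γ h
  have hinvert : ∀ h : H, γ (φ h) = (φ h)⁻¹ := by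
    intro h
    simp [φ, map_mul, map_inv, hγγ]
  have hfib : ∀ a b : H, φ a = φ b → γ (b * a⁻¹) = b * a⁻¹ := by
    intro a b hab
    rw [map_mul, map_inv]
    calc γ b * (γ a)⁻¹ = b * (b⁻¹ * γ b) * (a⁻¹ * γ a)⁻¹ * a⁻¹ := by group
      _ = b * a⁻¹ := by rw [show b⁻¹ * γ b = a⁻¹ * γ a from hab.symm]; group
  refine ⟨fun hfree => ?_, ?_⟩
  · have hsurj : Function.Surjective φ := Finite.injective_iff_surjective.1 fun a b hab =>
      (mul_inv_eq_one.1 (hfree _ (hfib a b hab))).symm
    have hall : ∀ h : H, γ h = h⁻¹ := fun h => by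
      obtain ⟨a, rfl⟩ := hsurj h
      exact hinvert a
    refine ⟨fun a b => ?_, hall⟩
    have := hall (a * b)
    rw [map_mul, hall, hall, ← mul_inv_rev, inv_inj] at this
    exact this.symm
  · rintro ⟨hfix, M, hM⟩
    have key : ∃ A : Subgroup H, A.index = 2 ∧ ∀ a ∈ A, γ a ∈ A := by
      by_cases hinv : ∀ a ∈ M, γ a ∈ M
      · exact ⟨M, hM, hinv⟩
      push Not at hinv
      obtain ⟨a₀, ha₀, ha₀'⟩ := hinv
      let A : Subgroup H :=
        { carrier := {h | h ∈ M ↔ γ h ∈ M}
          one_mem' := by simp
          mul_mem' := by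
            intro a b ha hb
            simp only [Set.mem_setOf_eq, map_mul, Subgroup.mul_mem_iff_of_index_two hM] at *
            rw [ha, hb]
          inv_mem' := by
            intro a ha
            simpa only [Set.mem_setOf_eq, map_inv, inv_mem_iff] using ha }
      refine ⟨A, Subgroup.index_eq_two_iff.2 ⟨a₀, fun b => ?_⟩, fun a ha => ?_⟩
      · have hA : ∀ h, h ∈ A ↔ (h ∈ M ↔ γ h ∈ M) := fun h => Iff.rfl
        rw [hA, hA, map_mul, Subgroup.mul_mem_iff_of_index_two hM, Subgroup.mul_mem_iff_of_index_two hM]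
        unfold Xor
        tauto
      · show γ a ∈ M ↔ γ (γ a) ∈ M
        rw [hγγ]
        exact (show a ∈ M ↔ γ a ∈ M from ha).symm
    obtain ⟨A, hA, hAinv⟩ := key
    have hmem : ∀ h : H, φ h ∈ A := by
      intro h
      simp only [φ, Subgroup.mul_mem_iff_of_index_two hA, inv_mem_iff]
      exact ⟨hAinv h, fun h' => hγγ h ▸ hAinv _ h'⟩
    have hall : ∀ a ∈ A, γ a = a⁻¹ := by
      have hcardA : 2 * Nat.card A = Nat.card H := by
        rw [← A.card_mul_index, hA, mul_comm]
      let ψ : H → A := fun h => ⟨φ h, hmem h⟩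
      have hsurj : Function.Surjective ψ := by
        have := Fintype.ofFinite H
        have := Fintype.ofFinite A
        let I : Finset A := (Finset.univ : Finset H).image ψ
        have hI : (Finset.univ : Finset H).card ≤ 2 * I.card := by
          refine Finset.card_le_mul_card_image _ 2 fun a _ => ?_
          rcases Finset.eq_empty_or_nonempty ((Finset.univ : Finset H).filter fun h => ψ h = a) with he | ⟨a₁, ha₁⟩
          · rw [he]; simp
          · rw [← hfix, Nat.card_eq_fintype_card, Fintype.card_subtype]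
            refine Finset.card_le_card_of_injOn (fun b => b * a₁⁻¹) (fun b hb => ?_)
              (fun b _ c _ hbc => mul_right_cancel hbc)
            simp only [Finset.mem_filter, Finset.mem_univ, true_and, Finset.coe_filter,
              Set.mem_setOf_eq] at hb ha₁ ⊢
            exact hfib a₁ b (congrArg Subtype.val (ha₁.trans hb.symm))
        have hIu : I = Finset.univ := by
          refine Finset.eq_univ_of_card _ (le_antisymm (Finset.card_le_univ _) ?_)
          rw [Nat.card_eq_fintype_card, Nat.card_eq_fintype_card] at hcardA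
          rw [Finset.card_univ] at hI
          omega
        intro a
        have ha : a ∈ I := hIu ▸ Finset.mem_univ a
        obtain ⟨x, -, hx⟩ := Finset.mem_image.1 ha
        exact ⟨x, hx⟩
      intro a ha
      obtain ⟨h, hh⟩ := hsurj ⟨a, ha⟩
      have : φ h = a := congrArg Subtype.val hh
      rw [← this]
      exact hinvert h
    refine ⟨A, hA, ⟨⟨fun a b => Subtype.ext ?_⟩⟩, hAinv, hall⟩
    have := hall ((a : H) * b) (A.mul_mem a.2 b.2)
    rw [map_mul, hall a a.2, hall b b.2, ← mul_inv_rev, inv_inj] at this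
    exact this.symm

end Cfsg.Agent.S3375
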