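import Cfsg.Statements.S3377
import Mathlib
-- import your own Cfsg.Agent.* helpers here

set_option autoImplicit false
open Cfsg

namespace Cfsg.Agent.S3377

universe u

open scoped Pointwise in
/-- Coset enumeration. -/
theorem bound {G : Type u} [Group G] {x y : G} (hx : x ^ 3 = 1) (hy : y ^ 5 = 1) (hxy : (x * y) ^ 2 = 1)
    (hgen : Subgroup.closure ({x, y} : Set G) = ⊤) : Finite G ∧ Nat.card G ≤ 60 := by
  set H := Subgroup.zpowers y with hH
  have hrel : ∀ d : G ⧸ H, x • y • x • d = y⁻¹ • d := by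
    intro d
    have := one_smul G (y⁻¹ • d)
    rw [← hxy, sq] at this
    simpa [mul_smul] using this
  have hA : ∀ d : G ⧸ H, y • x • d = x⁻¹ • y⁻¹ • d := fun d => by
    rw [← hrel d, inv_smul_smul]
  have hB : ∀ d : G ⧸ H, x • y • d = y⁻¹ • x⁻¹ • d := fun d => by
    have := hrel (x⁻¹ • d)
    rwa [smul_inv_smul] at this
  have hx3 : ∀ d : G ⧸ H, x • x • x • d = d := fun d => by
    rw [smul_smul, smul_smul, ← pow_three', hx, one_smul]
  have hy5 : ∀ d : G ⧸ H, y • y • y • y • y • d = d := fun d => by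
    rw [smul_smul, smul_smul, smul_smul, smul_smul,
      show y * y * y * y * y = y ^ 5 by simp [pow_succ], hy, one_smul]
  have ix : ∀ {a b : G ⧸ H}, x • a = b → x⁻¹ • b = a := fun h => by rw [← h, inv_smul_smul]
  have iy : ∀ {a b : G ⧸ H}, y • a = b → y⁻¹ • b = a := fun h => by rw [← h, inv_smul_smul]
  let c0 : G ⧸ H := ((1 : G) : G ⧸ H)
  have y0 : y • c0 = c0 := by
    rw [MulAction.Quotient.smul_mk, QuotientGroup.eq]
    simp [H]
  let c1 := x • c0
  let c2 := x • c1
  let c3 := y • c2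
  let c4 := y • c3
  let c5 := y • c4
  let c6 := x • c5
  let c7 := x • c4
  let c8 := y • c6
  let c9 := y • c8
  let c10 := y • c9
  let c11 := x • c10
  have x2 : x • c2 = c0 := hx3 c0
  have y1 : y • c1 = c2 := by
    rw [hA c0, iy y0, ix x2]
  have y5 : y • c5 = c1 := by
    have := hy5 c1
    rwa [y1] at this
  have x3 : x • c3 = c5 := by
    show x • y • c2 = c5
    rw [hB c2, ix (rfl : x • c1 = c2), iy y5]
  have x6 : x • c6 = c3 := by
    have := hx3 c3
    rwa [x3] at this
  have x8 : x • c8 = c4 := by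
    show x • y • c6 = c4
    rw [hB c6, ix (rfl : x • c5 = c6), iy (rfl : y • c4 = c5)]
  have x7 : x • c7 = c8 := by
    have := hx3 c8
    rwa [x8] at this
  have y7 : y • c7 = c6 := by
    show y • x • c4 = c6
    rw [hA c4, iy (rfl : y • c3 = c4), ix x6]
  have y10 : y • c10 = c7 := by
    have := hy5 c7
    rwa [y7] at this
  have x9 : x • c9 = c10 := by
    show x • y • c8 = c10
    rw [hB c8, ix x7, iy y10]
  have x11 : x • c11 = c9 := by
    have := hx3 c9
    rwa [x9] at this
  have y11 : y • c11 = c11 := by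
    show y • x • c10 = c11
    rw [hA c10, iy (rfl : y • c9 = c10), ix x11]
  let L : List (G ⧸ H) := [c0, c1, c2, c3, c4, c5, c6, c7, c8, c9, c10, c11]
  let S : Set (G ⧸ H) := {c | c ∈ L}
  have hS : S.Finite := L.finite_toSet
  have hstab : ∀ g ∈ ({x, y} : Set G), g ∈ MulAction.stabilizer G S := by
    intro g hg
    rw [MulAction.mem_stabilizer_iff]
    refine Set.eq_of_subset_of_ncard_le ?_ ?_ hS
    · rintro _ ⟨c, hc, rfl⟩
      simp only [S, L, List.mem_cons, List.not_mem_nil, or_false, Set.mem_setOf_eq] at hc ⊢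
      rcases hg with rfl | rfl <;> rcases hc with e | e | e | e | e | e | e | e | e | e | e | e <;>
        subst e <;>
        simp [y0, y1, y5, y7, y10, y11, x2, x3, x6, x7, x8, x9, x11, c1, c2, c3, c4, c5, c6, c7,
          c8, c9, c10, c11]
    · rw [← Set.image_smul, Set.ncard_image_of_injective _ (MulAction.injective g)]
  have hall : ∀ c : G ⧸ H, c ∈ S := by
    intro c
    induction c using QuotientGroup.induction_on with
    | H g =>
      have hg : g ∈ MulAction.stabilizer G S :=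
        (Subgroup.closure_le _).2 hstab (hgen ▸ Subgroup.mem_top g)
      rw [← MulAction.mem_stabilizer_iff.1 hg]
      exact ⟨c0, by simp [S, L], by simp [c0]⟩
  haveI : Finite (G ⧸ H) := Set.finite_univ_iff.1 (hS.subset fun c _ => hall c)
  have ho : orderOf y ∣ 5 := orderOf_dvd_of_pow_eq_one hy
  have hfin : Finite H := finite_zpowers.2 (isOfFinOrder_iff_pow_eq_one.2 ⟨5, by norm_num, hy⟩)
  have hle : Nat.card H ≤ 5 := by rw [Nat.card_zpowers]; exact Nat.le_of_dvd (by norm_num) ho
  have hq : Nat.card (G ⧸ H) ≤ 12 := by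
    have hsur : Function.Surjective (fun i : Fin 12 => L.get ⟨i, by simp [L]⟩) := by
      intro c
      obtain ⟨i, hi⟩ := List.get_of_mem (show c ∈ L from hall c)
      exact ⟨⟨(i : ℕ), lt_of_lt_of_eq i.2 (by simp [L])⟩, by simpa using hi⟩
    simpa using Nat.card_le_card_of_surjective _ hsur
  haveI : Finite G := Finite.of_subgroup_quotient H
  refine ⟨this, ?_⟩
  rw [Subgroup.card_eq_card_quotient_mul_card_subgroup H]
  exact (Nat.mul_le_mul hq hle).trans (by norm_num)

/-- The image of the first generator. -/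
def pa : alternatingGroup (Fin 5) :=
  ⟨Equiv.swap 0 3 * Equiv.swap 3 1, Equiv.Perm.mem_alternatingGroup.2 (by decide +kernel)⟩

/-- The image of the second generator. -/
def pb : alternatingGroup (Fin 5) :=
  ⟨Equiv.swap 0 4 * Equiv.swap 0 3 * Equiv.swap 0 2 * Equiv.swap 0 1,
    Equiv.Perm.mem_alternatingGroup.2 (by decide +kernel)⟩

theorem facts : pa ^ 3 = 1 ∧ pb ^ 5 = 1 ∧ (pa * pb) ^ 2 = 1 ∧ pa ≠ 1 ∧ pb ≠ 1 ∧ pa * pb ≠ 1 := by
  decide +kernel

theorem gen : Subgroup.closure ({pa, pb} : Set (alternatingGroup (Fin 5))) = ⊤ := by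
  obtain ⟨h3, h5, h2, ha, hb, hab⟩ := facts
  haveI : Fact (Nat.Prime 2) := ⟨Nat.prime_two⟩
  haveI : Fact (Nat.Prime 3) := ⟨by norm_num⟩
  haveI : Fact (Nat.Prime 5) := ⟨by norm_num⟩
  set H := Subgroup.closure ({pa, pb} : Set (alternatingGroup (Fin 5)))
  have hA : pa ∈ H := Subgroup.subset_closure (Set.mem_insert _ _)
  have hB : pb ∈ H := Subgroup.subset_closure (Set.mem_insert_of_mem _ rfl)
  have d3 := (dvd_of_eq (orderOf_eq_prime h3 ha).symm).trans (Subgroup.orderOf_dvd_natCard _ hA)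
  have d5 := (dvd_of_eq (orderOf_eq_prime h5 hb).symm).trans (Subgroup.orderOf_dvd_natCard _ hB)
  have d2 := (dvd_of_eq (orderOf_eq_prime h2 hab).symm).trans
    (Subgroup.orderOf_dvd_natCard _ (mul_mem hA hB))
  have d30 : 30 ∣ Nat.card H := Nat.Coprime.mul_dvd_of_dvd_of_dvd (by norm_num : Nat.Coprime 6 5)
    (Nat.Coprime.mul_dvd_of_dvd_of_dvd (by norm_num : Nat.Coprime 2 3) d2 d3) d5
  have hmul := H.card_mul_index
  rw [nat_card_alternatingGroup, Nat.card_fin, show Nat.factorial 5 = 120 from rfl] at hmul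
  obtain ⟨d, hd⟩ := d30
  have hd2 : d * H.index = 2 := by rw [hd] at hmul; norm_num at hmul; nlinarith
  have hi : H.index ∣ 2 := ⟨d, by rw [mul_comm]; exact hd2.symm⟩
  rcases (Nat.dvd_prime Nat.prime_two).1 hi with e | e
  · exact Subgroup.index_eq_one.1 e
  · haveI : H.Normal := Subgroup.normal_of_index_eq_two e
    haveI := alternatingGroup.isSimpleGroup (α := Fin 5) (by simp)
    rcases Subgroup.Normal.eq_bot_or_eq_top (inferInstance : H.Normal) with h | h
    · exact absurd (Subgroup.mem_bot.1 (h ▸ hA)) ha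
    · exact h

/-- The alternating group of degree 5 has the presentation ⟨x, y | x³ = 1, y⁵ = 1, (xy)² = 1⟩: the group so presented is isomorphic to Alt(5). -/
theorem result :
    Nonempty (PresentedGroup ({FreeGroup.of (0 : Fin 2) ^ 3, FreeGroup.of (1 : Fin 2) ^ 5,
        (FreeGroup.of (0 : Fin 2) * FreeGroup.of 1) ^ 2} : Set (FreeGroup (Fin 2))) ≃* alternatingGroup (Fin 5)) := by
  set R : Set (FreeGroup (Fin 2)) := {FreeGroup.of (0 : Fin 2) ^ 3, FreeGroup.of (1 : Fin 2) ^ 5,
        (FreeGroup.of (0 : Fin 2) * FreeGroup.of 1) ^ 2} with hR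
  let a : PresentedGroup R := PresentedGroup.of 0
  let b : PresentedGroup R := PresentedGroup.of 1
  have h1 : ∀ r ∈ R, PresentedGroup.mk R r = 1 := fun r hr => PresentedGroup.one_of_mem hr
  have ha : a ^ 3 = 1 := (map_pow _ _ 3).symm.trans (h1 (FreeGroup.of 0 ^ 3) (by simp [R]))
  have hb : b ^ 5 = 1 := (map_pow _ _ 5).symm.trans (h1 (FreeGroup.of 1 ^ 5) (by simp [R]))
  have hab : (a * b) ^ 2 = 1 := by
    have := h1 ((FreeGroup.of 0 * FreeGroup.of 1) ^ 2) (by simp [R])
    rwa [map_pow, map_mul] at this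
  have hgen : Subgroup.closure ({a, b} : Set (PresentedGroup R)) = ⊤ := by
    rw [eq_top_iff, ← PresentedGroup.closure_range_of, Subgroup.closure_le]
    rintro _ ⟨i, rfl⟩
    match i with
    | ⟨0, _⟩ => exact Subgroup.subset_closure (Set.mem_insert _ _)
    | ⟨1, _⟩ => exact Subgroup.subset_closure (Set.mem_insert_of_mem _ rfl)
  obtain ⟨_, hP⟩ := bound ha hb hab hgen
  obtain ⟨f3, f5, f2, -⟩ := facts
  let v : Fin 2 → alternatingGroup (Fin 5) := ![pa, pb]
  let φ : PresentedGroup R →* alternatingGroup (Fin 5) := PresentedGroup.toGroup (f := v) (fun r hr => by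
    simp only [R, Set.mem_insert_iff, Set.mem_singleton_iff] at hr
    rcases hr with rfl | rfl | rfl <;> simp [v, f3, f5, f2])
  have hφ : Function.Surjective φ := by
    rw [← MonoidHom.range_eq_top, eq_top_iff, ← gen, Subgroup.closure_le]
    rintro w (rfl | rfl)
    · exact ⟨a, by simp [φ, a, v]⟩
    · exact ⟨b, by simp [φ, b, v]⟩
  have hc : Nat.card (alternatingGroup (Fin 5)) = 60 := by
    rw [nat_card_alternatingGroup, Nat.card_fin]; rfl
  have hbij := Nat.bijective_iff_surjective_and_card φ |>.2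
    ⟨hφ, le_antisymm (hP.trans hc.ge) (Nat.card_le_card_of_surjective φ hφ)⟩
  exact ⟨MulEquiv.ofBijective φ hbij⟩

end Cfsg.Agent.S3377
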