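import Cfsg.Statements.S3379
import Mathlib
-- import your own Cfsg.Agent.* helpers here

set_option autoImplicit false
open Cfsg

namespace Cfsg.Agent.S3379

/-- Let G be a finite group all of whose Sylow subgroups are cyclic. Then G is generated by two elements x and y of coprime orders n and m with x⁻¹yx = y^r, where gcd(r − 1, m) = 1 and r^n ≡ 1 (mod m). -/
theorem result {G : Type*} [Group G] [Finite G]
    (hZ : ∀ (p : ℕ) [Fact p.Prime] (P : Sylow p G), IsCyclic (P : Subgroup G)) :
    ∃ (x y : G) (n m r : ℕ), Subgroup.closure {x, y} = ⊤ ∧ orderOf x = n ∧ orderOf y = m ∧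
      x⁻¹ * y * x = y ^ r ∧ Nat.Coprime (r - 1) m ∧ Nat.Coprime n m ∧ 1 ≤ r ∧ r ^ n % m = 1 % m := by
  classical
  haveI : IsZGroup G := ⟨fun p hp P => by haveI := Fact.mk hp; exact hZ p P⟩
  haveI hNc : IsCyclic (commutator G) := IsZGroup.isCyclic_commutator G
  haveI hQc : IsCyclic (G ⧸ commutator G) := IsZGroup.isCyclic_abelianization (G := G)
  obtain ⟨H, hH⟩ := Subgroup.exists_right_complement'_of_coprime (IsZGroup.coprime_commutator_index G)
  haveI : IsCyclic H := by
    refine isCyclic_of_injective ((QuotientGroup.mk' (commutator G)).comp H.subtype) ?_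
    intro a b hab
    refine Subtype.ext ?_
    have h1 : (a : G)⁻¹ * b ∈ commutator G := QuotientGroup.eq.1 hab
    have h2 : (a : G)⁻¹ * b ∈ H := H.mul_mem (H.inv_mem a.2) b.2
    exact inv_mul_eq_one.1 (Subgroup.mem_bot.1 (hH.disjoint.le_bot ⟨h1, h2⟩))
  obtain ⟨x, hx⟩ := IsCyclic.exists_generator (α := H)
  obtain ⟨y, hy⟩ := IsCyclic.exists_generator (α := commutator G)
  have hzx : Subgroup.zpowers (x : G) = H := by
    refine le_antisymm (Subgroup.zpowers_le.2 x.2) fun h hh => ?_
    obtain ⟨k, hk⟩ := Subgroup.mem_zpowers_iff.1 (hx ⟨h, hh⟩)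
    exact ⟨k, congrArg Subtype.val hk⟩
  have hzy : Subgroup.zpowers (y : G) = commutator G := by
    refine le_antisymm (Subgroup.zpowers_le.2 y.2) fun h hh => ?_
    obtain ⟨k, hk⟩ := Subgroup.mem_zpowers_iff.1 (hy ⟨h, hh⟩)
    exact ⟨k, congrArg Subtype.val hk⟩
  have hox : orderOf (x : G) = Nat.card H := by rw [← Nat.card_zpowers, hzx]
  have hoy : orderOf (y : G) = Nat.card (commutator G) := by rw [← Nat.card_zpowers, hzy]
  have hgen : Subgroup.closure {(x : G), (y : G)} = ⊤ := by
    have h1 : Subgroup.zpowers (x : G) ⊔ Subgroup.zpowers (y : G) = ⊤ := by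
      rw [hzx, hzy]; exact hH.symm.sup_eq_top
    rw [← h1, Set.insert_eq, Subgroup.closure_union,
      Subgroup.zpowers_eq_closure, Subgroup.zpowers_eq_closure]
  have hmem : (x : G)⁻¹ * y * x ∈ Subgroup.zpowers (y : G) := by
    rw [hzy]
    have h := (inferInstance : (commutator G).Normal).conj_mem _ y.2 (x : G)⁻¹
    rwa [inv_inv] at h
  obtain ⟨r₀, hr₀'⟩ := (mem_zpowers_iff_mem_range_orderOf).1 hmem |> Finset.mem_image.1
  set r := r₀ + orderOf (y : G) with hr
  have hr1 : 1 ≤ r := by have := orderOf_pos (y : G); omega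
  have hconj : (x : G)⁻¹ * y * x = (y : G) ^ r := by
    rw [hr, pow_add, pow_orderOf_eq_one, mul_one]; exact hr₀'.2.symm
  refine ⟨x, y, orderOf (x : G), orderOf (y : G), r, hgen, rfl, rfl, hconj, ?_, ?_, hr1, ?_⟩
  · have hcomm : commutator G ≤ Subgroup.zpowers ((y : G) ^ (r - 1)) := by
      set M := Subgroup.zpowers ((y : G) ^ (r - 1)) with hM
      have hconjx : ∀ k : ℕ, (x : G)⁻¹ * (y : G) ^ k * x = (y : G) ^ (r * k) := by
        intro k
        rw [pow_mul, ← hconj]
        have h := map_pow (MulAut.conj (x : G)⁻¹) (y : G) k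
        simpa using h
      haveI hMn : M.Normal := by
        rw [← Subgroup.normalizer_eq_top_iff, eq_top_iff, ← hgen, Subgroup.closure_le]
        rintro g (rfl | rfl)
        · refine SetLike.mem_coe.2 ?_
          rw [← inv_mem_iff]
          refine Subgroup.mem_normalizer_fintype ?_
          intro z hz
          obtain ⟨j, -, rfl⟩ := (mem_zpowers_iff_mem_range_orderOf.1 hz |> Finset.mem_image.1)
          skip
          rw [inv_inv, ← pow_mul, hconjx, ← mul_assoc, mul_comm r, mul_assoc, pow_mul, hM]
          exact pow_mem (Subgroup.mem_zpowers _) _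
        · refine SetLike.mem_coe.2 (Subgroup.mem_normalizer_fintype ?_)
          intro z hz
          obtain ⟨j, rfl⟩ := Subgroup.mem_zpowers_iff.1 hz
          have hc : Commute (y : G) (((y : G) ^ (r - 1)) ^ j) := ((Commute.refl _).pow_right _).zpow_right _
          rw [hc.eq, mul_inv_cancel_right]
          exact hz
      have hone : ∀ g : G ⧸ M, g ∈ Subgroup.closure ({QuotientGroup.mk' M x, QuotientGroup.mk' M y} : Set (G ⧸ M)) := by
        intro g
        obtain ⟨a, rfl⟩ := QuotientGroup.mk'_surjective M g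
        rw [← Set.image_pair, ← MonoidHom.map_closure, hgen]
        exact ⟨a, trivial, rfl⟩
      have hxy : Commute (QuotientGroup.mk' M x) (QuotientGroup.mk' M y) := by
        rw [Commute, SemiconjBy, ← map_mul, ← map_mul, QuotientGroup.mk'_apply, QuotientGroup.mk'_apply,
          eq_comm, QuotientGroup.eq]
        have e : ((y : G) * x)⁻¹ * (x * y) = (x : G)⁻¹ * (y : G)⁻¹ * x * y := by group
        have e2 : (x : G)⁻¹ * (y : G)⁻¹ * x = ((y : G) ^ r)⁻¹ := by
          rw [← hconj]; group
        rw [e, e2, hM, show ((y : G) ^ r)⁻¹ * y = ((y : G) ^ (r - 1))⁻¹ by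
          nth_rw 1 [show r = 1 + (r - 1) by omega]
          rw [pow_add, pow_one]; group]
        exact inv_mem (Subgroup.mem_zpowers _)
      rw [Subgroup.Normal.quotient_commutative_iff_commutator_le.symm]
      refine ⟨⟨fun a b => ?_⟩⟩
      have ha := hone a
      have hb := hone b
      have := Subgroup.closure_le_centralizer_centralizer ({QuotientGroup.mk' M x, QuotientGroup.mk' M y} : Set (G ⧸ M)) hb
      refine (Subgroup.mem_centralizer_iff.1 this a ?_)
      induction ha using Subgroup.closure_induction with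
      | mem u hu =>
        rw [SetLike.mem_coe, Subgroup.mem_centralizer_iff]
        intro v hv
        rcases hu with rfl | rfl <;> rcases hv with rfl | rfl
        exacts [rfl, hxy.symm.eq, hxy.eq, rfl]
      | one => exact one_mem _
      | mul u v _ _ hu hv => exact mul_mem hu hv
      | inv u _ hu => exact inv_mem hu
    have hzle : Subgroup.zpowers ((y : G) ^ (r - 1)) = Subgroup.zpowers (y : G) :=
      le_antisymm (Subgroup.zpowers_le.2 (pow_mem (Subgroup.mem_zpowers _) _))
        (hzy.le.trans hcomm)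
    have h := congrArg (fun S : Subgroup G => Nat.card S) hzle
    simp only [Nat.card_zpowers, orderOf_pow' _ (show orderOf (y : G) ≠ 0 from (orderOf_pos _).ne')] at h
    by_cases hr' : r - 1 = 0
    · rw [hr', pow_zero] at hzle
      rw [hr', Nat.coprime_zero_left, ← Nat.card_zpowers, ← hzle, Subgroup.zpowers_one_eq_bot, Subgroup.card_bot]
    · rw [orderOf_pow' _ hr'] at *
      exact Nat.coprime_comm.1 ((Nat.div_eq_self.1 h).resolve_left (orderOf_pos _).ne')
  · rw [hox, hoy]
    have h := IsZGroup.coprime_commutator_index G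
    rw [hH.symm.index_eq_card] at h
    exact h.symm
  · have key : ∀ k : ℕ, ((x : G) ^ k)⁻¹ * y * (x : G) ^ k = (y : G) ^ (r ^ k) := by
      intro k
      induction k with
      | zero => simp
      | succ k ih =>
        have h2 := map_pow (MulAut.conj (x : G)⁻¹) (y : G) (r ^ k)
        simp only [MulAut.conj_apply, inv_inv, hconj] at h2
        rw [pow_succ (x : G), mul_inv_rev, show (x : G)⁻¹ * ((x : G) ^ k)⁻¹ * y * ((x : G) ^ k * x) =
          (x : G)⁻¹ * (((x : G) ^ k)⁻¹ * y * (x : G) ^ k) * x by group, ih, h2, ← pow_mul, ← pow_succ']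
    have h := key (orderOf (x : G))
    rw [pow_orderOf_eq_one, inv_one, one_mul, mul_one] at h
    exact pow_eq_pow_iff_modEq.1 (h.symm.trans (pow_one (y : G)).symm)

end Cfsg.Agent.S3379
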