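import Cfsg.Statements.S3381
import Mathlib
-- import your own Cfsg.Agent.* helpers here

set_option autoImplicit false
open Cfsg

namespace Cfsg.Agent.S3381

/-- Let G be a finite group acting faithfully and linearly on a non-trivial finite vector space V over the field with q elements (q prime) so that every non-zero vector has a stabilizer of order 2, and suppose G has a central involution. Then V has q^(2r) elements for some r and G contains exactly q^r + 1 non-central involutions. -/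
theorem result
    (q : ℕ) [Fact q.Prime] {V : Type*} [AddCommGroup V] [Module (ZMod q) V] [Finite V] [Nontrivial V]
    {G : Type*} [Group G] [Finite G] (ρ : G →* (V ≃ₗ[ZMod q] V)) (hρ : Function.Injective ρ)
    (hstab : ∀ v : V, v ≠ 0 → Nat.card {g : G // ρ g v = v} = 2)
    (z : G) (hz : orderOf z = 2) (hzc : z ∈ Subgroup.center G) :
    ∃ r : ℕ, Nat.card V = q ^ (2 * r) ∧
      Nat.card {g : G // orderOf g = 2 ∧ g ∉ Subgroup.center G} = q ^ r + 1 := by
  classical
  haveI : Fintype V := Fintype.ofFinite V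
  haveI : Fintype G := Fintype.ofFinite G
  have hmul : ∀ a b : G, ∀ v : V, ρ (a * b) v = ρ a (ρ b v) := fun a b v => by rw [map_mul]; rfl
  have hone : ∀ v : V, ρ 1 v = v := fun v => by rw [map_one]; rfl
  -- stabilisers of non-zero vectors
  have hst : ∀ v : V, v ≠ 0 → ∀ a b : G, ρ a v = v → a ≠ 1 → ρ b v = v → b ≠ 1 → a = b := by
    intro v hv a b ha ha1 hb hb1
    by_contra hab
    have h := hstab v hv
    let f : Fin 3 → {g : G // ρ g v = v} := ![⟨1, hone v⟩, ⟨a, ha⟩, ⟨b, hb⟩]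
    have hf : Function.Injective f := by
      intro i j hij
      have hij' := congrArg Subtype.val hij
      fin_cases i <;> fin_cases j <;> simp [f] at hij' <;> grind
    have := Nat.card_le_card_of_injective f hf
    rw [h, Nat.card_fin] at this
    omega
  have hex : ∀ v : V, v ≠ 0 → ∃ t : G, ρ t v = v ∧ orderOf t = 2 := by
    intro v hv
    haveI : Nontrivial {g : G // ρ g v = v} := Finite.one_lt_card_iff_nontrivial.1 (by rw [hstab v hv]; norm_num)
    obtain ⟨⟨t, ht⟩, ht1⟩ := exists_ne (⟨1, hone v⟩ : {g : G // ρ g v = v})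
    have ht1' : t ≠ 1 := fun h => ht1 (Subtype.ext h)
    refine ⟨t, ht, orderOf_eq_prime ?_ ht1'⟩
    by_contra h2
    have := hst v hv (t * t) t (by rw [hmul, ht, ht]) (by rwa [← pow_two]) ht ht1'
    exact ht1' (mul_eq_left.1 this)
  -- a central involution is fixed point free
  have hfree : ∀ y : G, orderOf y = 2 → y ∈ Subgroup.center G → ∀ v : V, v ≠ 0 → ρ y v ≠ v := by
    intro y hy hyc v hv hfix
    have hy1 : y ≠ 1 := fun h => by rw [h, orderOf_one] at hy; norm_num at hy
    obtain ⟨u, hu⟩ : ∃ u, ρ y u ≠ u := by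
      by_contra h
      push Not at h
      exact hy1 (hρ (by rw [map_one]; exact LinearEquiv.ext h))
    have hu0 : u ≠ 0 := fun h => hu (by rw [h, map_zero])
    obtain ⟨t, ht, ho⟩ := hex u hu0
    have ht1 : t ≠ 1 := fun h => by rw [h, orderOf_one] at ho; norm_num at ho
    have hd : ρ y u - u ≠ 0 := sub_ne_zero.2 hu
    have hcm : ∀ a : G, ∀ w, ρ a (ρ y w) = ρ y (ρ a w) := fun a w => by
      rw [← hmul, ← hmul, Subgroup.mem_center_iff.1 hyc a]
    have htd : ρ t (ρ y u - u) = ρ y u - u := by rw [map_sub, hcm, ht]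
    have hvu : v + u ≠ 0 := fun h => hu (by
      rw [show u = -v from eq_neg_of_add_eq_zero_right h, map_neg, hfix])
    obtain ⟨s, hs, hso⟩ := hex (v + u) hvu
    have hs1 : s ≠ 1 := fun h => by rw [h, orderOf_one] at hso; norm_num at hso
    have hsd : ρ s (ρ y u - u) = ρ y u - u := by
      have h2 : ρ s (ρ y (v + u)) = ρ y (v + u) := by rw [hcm, hs]
      rw [show ρ y u - u = ρ y (v + u) - (v + u) by rw [map_add, hfix]; abel, map_sub, h2, hs]
    have hst' := hst _ hd s t hsd hs1 htd ht1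
    rw [hst', map_add, ht, add_left_inj] at hs
    exact hu (hst v hv t y hs ht1 hfix hy1 ▸ ht)
  have hneg : ∀ v, ρ z v = -v := by
    intro v
    by_contra h
    refine hfree z hz hzc (ρ z v + v) (fun h0 => h (eq_neg_of_add_eq_zero_left h0)) ?_
    rw [map_add, ← hmul, ← pow_two, orderOf_dvd_iff_pow_eq_one.1 hz.dvd, hone, add_comm]
  obtain ⟨v₀, hv₀⟩ := exists_ne (0 : V)
  have hq2 : (2 : ZMod q) ≠ 0 := fun h => by
    refine hfree z hz hzc v₀ hv₀ ?_
    rw [hneg, neg_eq_iff_add_eq_zero, ← two_smul (ZMod q), h, zero_smul]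
  let Fx : G → Submodule (ZMod q) V := fun t => LinearMap.ker ((ρ t : V →ₗ[ZMod q] V) - LinearMap.id)
  have hFx : ∀ t v, v ∈ Fx t ↔ ρ t v = v := fun t v => by
    rw [LinearMap.mem_ker, LinearMap.sub_apply, sub_eq_zero]; rfl
  let I := {t : G // orderOf t = 2 ∧ t ≠ z}
  have hne1 : ∀ t : I, (t : G) ≠ 1 := fun t h => by
    have := t.2.1; rw [h, orderOf_one] at this; norm_num at this
  have hnz : ∀ t : I, ∃ v ∈ Fx t.1, v ≠ 0 := by
    intro t
    by_contra h
    push Not at h
    refine t.2.2 (hρ (LinearEquiv.ext fun v => ?_))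
    have := h (ρ t.1 v + v) ((hFx _ _).2 (by
      rw [map_add, ← hmul, ← pow_two, orderOf_dvd_iff_pow_eq_one.1 t.2.1.dvd, hone, add_comm]))
    rw [hneg]
    exact eq_neg_of_add_eq_zero_left this
  have hdisj : ∀ s t : I, s ≠ t → Disjoint (Fx s.1) (Fx t.1) := by
    intro s t hst'
    rw [Submodule.disjoint_def]
    intro v hs ht
    by_contra hv
    exact hst' (Subtype.ext (hst v hv s t ((hFx _ _).1 hs) (hne1 s) ((hFx _ _).1 ht) (hne1 t)))
  -- the partner of an involution
  let p : I → I := fun t => ⟨t.1 * z, by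
    have hc : Commute t.1 z := Subgroup.mem_center_iff.1 hzc t.1
    refine ⟨orderOf_eq_prime (by rw [hc.mul_pow, orderOf_dvd_iff_pow_eq_one.1 t.2.1.dvd,
      orderOf_dvd_iff_pow_eq_one.1 hz.dvd, one_mul]) fun h => t.2.2 ?_, fun h => hne1 t (mul_eq_right.1 h)⟩
    rw [eq_inv_of_mul_eq_one_left h, inv_eq_of_mul_eq_one_right]
    rw [← pow_two, orderOf_dvd_iff_pow_eq_one.1 hz.dvd]⟩
  have hpne : ∀ t, p t ≠ t := fun t h => by
    have : z = 1 := mul_eq_left.1 (congrArg Subtype.val h)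
    rw [this, orderOf_one] at hz; norm_num at hz
  have hpv : ∀ (t : I) v, ρ (p t).1 v = -ρ t.1 v := fun t v => by
    show ρ (t.1 * z) v = _
    rw [hmul, hneg, map_neg]
  let d : I → ℕ := fun t => Module.finrank (ZMod q) (Fx t.1)
  let N := Module.finrank (ZMod q) V
  have hsum : ∀ t, d t + d (p t) = N := by
    intro t
    refine Submodule.finrank_add_eq_of_isCompl ⟨hdisj t (p t) (hpne t).symm, ?_⟩
    rw [codisjoint_iff, eq_top_iff]
    intro v _
    have ht2 : ρ t.1 (ρ t.1 v) = v := by rw [← hmul, ← pow_two, orderOf_dvd_iff_pow_eq_one.1 t.2.1.dvd, hone]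
    rw [show v = (2 : ZMod q)⁻¹ • (ρ t.1 v + v) + (2 : ZMod q)⁻¹ • (v - ρ t.1 v) by
      rw [← smul_add, show ρ t.1 v + v + (v - ρ t.1 v) = (2 : ZMod q) • v by rw [two_smul]; abel, smul_smul, inv_mul_cancel₀ hq2, one_smul]]
    refine Submodule.add_mem_sup (Submodule.smul_mem _ _ ((hFx _ _).2 ?_)) (Submodule.smul_mem _ _ ((hFx _ _).2 ?_))
    · rw [map_add, ht2, add_comm]
    · rw [hpv, map_sub, ht2, neg_sub]
  have hle : ∀ s t : I, s ≠ t → d s + d t ≤ N := fun s t h =>
    (Submodule.finrank_add_finrank_le_of_disjoint (hdisj s t h))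
  have hhalf : ∀ t, 2 * d t = N := by
    intro t
    obtain ⟨a, ha, ha0⟩ := hnz t
    obtain ⟨b, hb, hb0⟩ := hnz (p t)
    have hab : a + b ≠ 0 := fun h => by
      have hh := Submodule.disjoint_def.1 (hdisj t (p t) (hpne t).symm) a ha
        (by rw [eq_neg_of_add_eq_zero_left h]; exact neg_mem hb)
      exact ha0 hh
    obtain ⟨s₀, hs, hso⟩ := hex (a + b) hab
    have hsz : s₀ ≠ z := fun h => hfree z hz hzc _ hab (h ▸ hs)
    let s : I := ⟨s₀, hso, hsz⟩
    have hs1 : s ≠ t := fun h => by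
      have hm : a + b ∈ Fx t.1 := (hFx _ _).2 (by rw [← h]; exact hs)
      have : b ∈ Fx t.1 := by have := sub_mem hm ha; rwa [add_sub_cancel_left] at this
      exact hb0 (Submodule.disjoint_def.1 (hdisj t (p t) (hpne t).symm) b this hb)
    have hs2 : s ≠ p t := fun h => by
      have hm : a + b ∈ Fx (p t).1 := (hFx _ _).2 (by rw [← h]; exact hs)
      have : a ∈ Fx (p t).1 := by have := sub_mem hm hb; rwa [add_sub_cancel_right] at this
      exact ha0 (Submodule.disjoint_def.1 (hdisj t (p t) (hpne t).symm) a ha this)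
    have hpp : ∀ u : I, p (p u) = u := fun u => Subtype.ext (by
      show u.1 * z * z = u.1
      rw [mul_assoc, ← pow_two, orderOf_dvd_iff_pow_eq_one.1 hz.dvd, mul_one])
    have e1 := hle s t hs1
    have e2 := hle s (p t) hs2
    have e3 := hle (p s) t (fun h => hs2 (by rw [← h, hpp]))
    have e4 := hle (p s) (p t) (fun h => hs1 (by rw [← hpp s, h, hpp]))
    have := hsum s
    have := hsum t
    omega
  obtain ⟨t₀, ht₀, ho₀⟩ := hex v₀ hv₀
  let T₀ : I := ⟨t₀, ho₀, fun h => hfree z hz hzc v₀ hv₀ (h ▸ ht₀)⟩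
  refine ⟨d T₀, ?_, ?_⟩
  · rw [hhalf, Module.natCard_eq_pow_finrank (K := ZMod q), Nat.card_zmod]
  · have hall : ∀ t : I, d t = d T₀ := fun t => by have := hhalf t; have := hhalf T₀; omega
    have heq : Nat.card {g : G // orderOf g = 2 ∧ g ∉ Subgroup.center G} = Nat.card I :=
      Nat.card_congr (Equiv.subtypeEquivRight fun g => ⟨fun h => ⟨h.1, fun hh => h.2 (hh ▸ hzc)⟩, fun h => ⟨h.1, fun hgc => by
        obtain ⟨v, hv, hv0⟩ := hnz ⟨g, h⟩
        exact hfree g h.1 hgc v hv0 ((hFx _ _).1 hv)⟩⟩)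
    let e : (Σ t : I, {v : Fx t.1 // v ≠ 0}) → {v : V // v ≠ 0} := fun x => ⟨x.2.1.1, fun h => x.2.2 (Subtype.ext h)⟩
    have he : Function.Bijective e := by
      constructor
      · rintro ⟨s, ⟨⟨v, hv⟩, hv0⟩⟩ ⟨t, ⟨⟨w, hw⟩, hw0⟩⟩ h
        have hvw : v = w := congrArg Subtype.val h
        subst hvw
        by_cases hst' : s = t
        · subst hst'; rfl
        · exact absurd (Submodule.disjoint_def.1 (hdisj s t hst') v hv hw) fun hh => hv0 (Subtype.ext hh)
      · rintro ⟨v, hv⟩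
        obtain ⟨t, ht, hto⟩ := hex v hv
        exact ⟨⟨⟨t, hto, fun h => hfree z hz hzc v hv (h ▸ ht)⟩, ⟨⟨v, (hFx _ _).2 ht⟩, fun h => hv (congrArg Subtype.val h)⟩⟩, rfl⟩
    have hnz' : ∀ (W : Type _) [Finite W] [Zero W], Nat.card {x : W // x ≠ 0} = Nat.card W - 1 := by
      intro W _ _
      letI := Fintype.ofFinite W
      rw [Nat.card_eq_fintype_card, Nat.card_eq_fintype_card, Fintype.card_subtype_compl, Fintype.card_subtype_eq]
    have hc := Nat.card_eq_of_bijective e he
    letI : Fintype I := Fintype.ofFinite I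
    rw [Nat.card_sigma, hnz' V, Module.natCard_eq_pow_finrank (K := ZMod q) (V := V), Nat.card_zmod,
      Finset.sum_congr rfl (fun t _ => show Nat.card {v : Fx t.1 // v ≠ 0} = q ^ d T₀ - 1 by
        rw [hnz', Module.natCard_eq_pow_finrank (K := ZMod q), Nat.card_zmod, ← hall t]),
      Finset.sum_const, smul_eq_mul, Finset.card_univ, ← Nat.card_eq_fintype_card] at hc
    rw [heq]
    have hr : d T₀ ≠ 0 := fun h => by
      obtain ⟨v, hv, hv0⟩ := hnz T₀
      exact hv0 (by rwa [Submodule.finrank_eq_zero.1 h, Submodule.mem_bot] at hv)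
    have h1 : 1 < q ^ d T₀ := Nat.one_lt_pow hr (Fact.out : q.Prime).one_lt
    have hNN : q ^ Module.finrank (ZMod q) V = q ^ d T₀ * q ^ d T₀ := by
      rw [← pow_add, ← two_mul, hhalf]
    rw [hNN] at hc
    refine Nat.eq_of_mul_eq_mul_right (show 0 < q ^ d T₀ - 1 by omega) ?_
    rw [hc]
    obtain ⟨k, hk⟩ : ∃ k, q ^ d T₀ = k + 1 := ⟨q ^ d T₀ - 1, by omega⟩
    rw [hk, Nat.add_sub_cancel]
    ring_nf
    omega

end Cfsg.Agent.S3381
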