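import Cfsg.Statements.S3382
import Mathlib

set_option autoImplicit false
open Cfsg

namespace Cfsg.Agent.S3382

attribute [local simp] Units.val_inv_eq_inv_val
attribute [-simp] ZMod.inv_coe_unit

variable {q : ℕ} [Fact q.Prime]

theorem three_units : ∀ a : (ZMod 3)ˣ, a = 1 ∨ a = -1 := by decide +kernel

/-- A diagonal map. -/
def dg (a b : (ZMod q)ˣ) : (Fin 2 → ZMod q) ≃ₗ[ZMod q] (Fin 2 → ZMod q) where
  toFun v := ![(a : ZMod q) * v 0, (b : ZMod q) * v 1]
  invFun v := ![((a⁻¹ : (ZMod q)ˣ) : ZMod q) * v 0, ((b⁻¹ : (ZMod q)ˣ) : ZMod q) * v 1]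
  map_add' v w := by ext i; fin_cases i <;> simp [mul_add]
  map_smul' c v := by ext i; fin_cases i <;> simp [mul_left_comm]
  left_inv v := by ext i; fin_cases i <;> simp [← mul_assoc]
  right_inv v := by ext i; fin_cases i <;> simp [← mul_assoc]

/-- The exchange of the two coordinates. -/
def sw : (Fin 2 → ZMod q) ≃ₗ[ZMod q] (Fin 2 → ZMod q) where
  toFun v := ![v 1, v 0]
  invFun v := ![v 1, v 0]
  map_add' v w := by ext i; fin_cases i <;> simp
  map_smul' c v := by ext i; fin_cases i <;> simp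
  left_inv v := by ext i; fin_cases i <;> simp
  right_inv v := by ext i; fin_cases i <;> simp

theorem dg_mul (a b c d : (ZMod q)ˣ) : dg a b * dg c d = dg (a * c) (b * d) := by
  refine LinearEquiv.ext fun v => ?_
  rw [LinearEquiv.mul_apply]
  ext i; fin_cases i <;> simp [dg, mul_assoc]

theorem dg_one : dg (1 : (ZMod q)ˣ) 1 = 1 := by
  refine LinearEquiv.ext fun v => ?_
  ext i; fin_cases i <;> simp [dg]

theorem dg_inj {a b c d : (ZMod q)ˣ} (h : dg a b = dg c d) : a = c ∧ b = d := by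
  have h0 := congrFun (LinearEquiv.congr_fun h (fun _ => 1)) 0
  have h1 := congrFun (LinearEquiv.congr_fun h (fun _ => 1)) 1
  simp [dg] at h0 h1
  exact ⟨Units.ext h0, Units.ext h1⟩

theorem sw_mul_sw : (sw : (Fin 2 → ZMod q) ≃ₗ[ZMod q] _) * sw = 1 := by
  refine LinearEquiv.ext fun v => ?_
  rw [LinearEquiv.mul_apply]
  ext i; fin_cases i <;> simp [sw]

theorem sw_dg (a b : (ZMod q)ˣ) : sw * dg a b = dg b a * sw := by
  refine LinearEquiv.ext fun v => ?_
  rw [LinearEquiv.mul_apply, LinearEquiv.mul_apply]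
  ext i; fin_cases i <;> simp [sw, dg]

theorem dg_sw_ne (a b c d : (ZMod q)ˣ) : dg a b * sw ≠ dg c d := by
  intro h
  have h0 := congrFun (LinearEquiv.congr_fun h ![1, 0]) 0
  rw [LinearEquiv.mul_apply] at h0
  simp [sw, dg] at h0
  exact c.ne_zero h0.symm

universe u

variable {T : Type u} [Group T]

/-- An automorphism of odd order fixes the powers of an element it sends into them, when that
element has order a power of two. -/
theorem fixed_of_mem_zpowers {φ : MulAut T} {r : ℕ} (hr : φ ^ r = 1) (hodd : Odd r) {d : T}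
    {k : ℕ} (hd : orderOf d = 2 ^ k) (h : φ d ∈ Subgroup.zpowers d) : φ d = d := by
  obtain ⟨j, hj⟩ := h
  have hj : d ^ j = φ d := hj
  have hit : ∀ i : ℕ, (φ ^ i) d = d ^ (j ^ i) := by
    intro i
    induction i with
    | zero => simp
    | succ i ih => rw [pow_succ', MulAut.mul_apply, ih, map_zpow, ← hj, ← zpow_mul, pow_succ']
  have hone : d ^ (j ^ r) = d ^ (1 : ℤ) := by rw [← hit, hr, zpow_one]; rfl
  rw [zpow_eq_zpow_iff_modEq, hd, ← ZMod.intCast_eq_intCast_iff, Int.cast_pow, Int.cast_one] at hone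
  set u : ZMod (2 ^ k) := (j : ZMod (2 ^ k))
  obtain ⟨w, hw⟩ := IsUnit.of_pow_eq_one hone hodd.pos.ne'
  have hw1 : w ^ r = 1 := Units.ext (by rw [Units.val_pow_eq_pow_val, hw]; exact hone)
  have hcard : Nat.card (ZMod (2 ^ k))ˣ ∣ 2 ^ k := by
    rw [Nat.card_eq_fintype_card, ZMod.card_units_eq_totient]
    rcases k with _ | k
    · simp
    · rw [Nat.totient_prime_pow Nat.prime_two k.succ_pos]
      simpa using pow_dvd_pow 2 (Nat.le_succ k)
  have ho : orderOf w = 1 :=
    Nat.eq_one_of_dvd_coprimes ((Nat.coprime_two_left.2 hodd).pow_left k)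
      ((orderOf_dvd_natCard w).trans hcard) (orderOf_dvd_of_pow_eq_one hw1)
  have hu : u = 1 := by rw [← hw, orderOf_eq_one_iff.1 ho, Units.val_one]
  rw [← hj]
  conv_rhs => rw [← zpow_one d]
  rw [zpow_eq_zpow_iff_modEq, hd, ← ZMod.intCast_eq_intCast_iff, Int.cast_one]
  exact hu

/-- If all of a set is fixed and `w` goes to a translate by one of its elements, `w` is fixed. -/
theorem fixed_of_translate {φ : MulAut T} {r : ℕ} (hr : φ ^ r = 1) (hodd : Odd r) {w t : T}
    {k : ℕ} (ht : φ t = t) (h : φ w = t * w) (hk : t ^ 2 ^ k = 1) : φ w = w := by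
  have hit : ∀ i : ℕ, (φ ^ i) w = t ^ i * w := by
    intro i
    induction i with
    | zero => simp
    | succ i ih =>
      rw [pow_succ', MulAut.mul_apply, ih, map_mul, map_pow, ht, h, ← mul_assoc, ← pow_succ]
  have := hit r
  rw [hr, MulAut.one_apply, right_eq_mul] at this
  have ho : orderOf t = 1 := Nat.eq_one_of_dvd_coprimes ((Nat.coprime_two_left.2 hodd).pow_left k)
    (orderOf_dvd_of_pow_eq_one hk) (orderOf_dvd_of_pow_eq_one this)
  rw [h, orderOf_eq_one_iff.1 ho, one_mul]

/-- Let q = 2^m + 1 be a prime other than 5. Then the automorphism group of the group of linear maps of F_q² of the forms (x, y) ↦ (a x, ± a⁻¹ y) and (x, y) ↦ (± a⁻¹ y, a x) with a ≠ 0 is itself a 2-group. -/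
theorem result (q m : ℕ) [Fact q.Prime] (hq : q = 2 ^ m + 1) (hq5 : q ≠ 5)
    (T : Subgroup ((Fin 2 → ZMod q) ≃ₗ[ZMod q] (Fin 2 → ZMod q)))
    (hT : ∀ f, f ∈ T ↔ ∃ a s : ZMod q, a ≠ 0 ∧ (s = 1 ∨ s = -1) ∧
      ((∀ v, f v = ![a * v 0, s * a⁻¹ * v 1]) ∨ (∀ v, f v = ![s * a⁻¹ * v 1, a * v 0]))) :
    IsPGroup 2 (MulAut T) := by
  classical
  have hq' : q.Prime := Fact.out
  have hneg : ∀ s : (ZMod q)ˣ, ((s : ZMod q) = 1 ∨ (s : ZMod q) = -1) ↔ (s = 1 ∨ s = -1) := fun s => by
    simp only [Units.ext_iff, Units.val_one, Units.val_neg]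
  have hmem : ∀ a s : (ZMod q)ˣ, (s = 1 ∨ s = -1) → dg a (s * a⁻¹) ∈ T ∧ dg a (s * a⁻¹) * sw ∈ T := by
    intro a s hs
    refine ⟨(hT _).2 ⟨a, s, a.ne_zero, (hneg s).2 hs, Or.inl fun v => ?_⟩, (hT _).2 ⟨(s * a⁻¹ : (ZMod q)ˣ), s, Units.ne_zero _, (hneg s).2 hs, Or.inr fun v => ?_⟩⟩
    · simp [dg]
    · have h2 : (s : ZMod q) * ((s * a⁻¹ : (ZMod q)ˣ) : ZMod q)⁻¹ = a := by
        rw [Units.val_mul, mul_inv_rev, Units.val_inv_eq_inv_val, inv_inv, mul_comm, mul_assoc,
          inv_mul_cancel₀ s.ne_zero, mul_one]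
      rw [LinearEquiv.mul_apply, h2]
      simp [dg, sw]
  have hform : ∀ f ∈ T, ∃ a s : (ZMod q)ˣ, (s = 1 ∨ s = -1) ∧ (f = dg a (s * a⁻¹) ∨ f = dg a (s * a⁻¹) * sw) := by
    intro f hf
    obtain ⟨a, s, ha, hs, h | h⟩ := (hT f).1 hf
    · have hs0 : s ≠ 0 := by rcases hs with rfl | rfl <;> simp
      refine ⟨Units.mk0 a ha, Units.mk0 s hs0, (hneg _).1 hs, Or.inl (LinearEquiv.ext fun v => ?_)⟩
      rw [h v]
      simp [dg]
    · have hs0 : s ≠ 0 := by rcases hs with rfl | rfl <;> simp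
      refine ⟨Units.mk0 s hs0 * (Units.mk0 a ha)⁻¹, Units.mk0 s hs0, (hneg _).1 hs, Or.inr (LinearEquiv.ext fun v => ?_)⟩
      rw [h v, LinearEquiv.mul_apply, _root_.mul_inv_rev, inv_inv, mul_comm (Units.mk0 a ha), ← mul_assoc,
        mul_inv_cancel, one_mul]
      simp [dg, sw]
  have hsq : ∀ s : (ZMod q)ˣ, (s = 1 ∨ s = -1) → s * s = 1 := by rintro s (rfl | rfl) <;> simp
  have hcardU : Nat.card (ZMod q)ˣ = 2 ^ m := by
    rw [Nat.card_units, Nat.card_zmod, Nat.sub_eq_iff_eq_add hq'.one_le]; exact hq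
  have hpowU : ∀ a : (ZMod q)ˣ, a ^ 2 ^ m = 1 := fun a => hcardU ▸ pow_card_eq_one'
  haveI : Finite ((Fin 2 → ZMod q) ≃ₗ[ZMod q] (Fin 2 → ZMod q)) :=
    Finite.of_injective (fun f => (f : (Fin 2 → ZMod q) → (Fin 2 → ZMod q))) DFunLike.coe_injective
  haveI : Finite (MulAut T) :=
    Finite.of_injective (fun f => (f : T → T)) DFunLike.coe_injective
  intro φ
  obtain ⟨k, r, hr, hkr⟩ := Nat.exists_eq_two_pow_mul_odd (show orderOf φ ≠ 0 from (orderOf_pos φ).ne')
  refine ⟨k, ?_⟩
  set ψ := φ ^ 2 ^ k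
  have hψ : ψ ^ r = 1 := by rw [← pow_mul, ← hkr, pow_orderOf_eq_one]
  -- the elements
  let D : ∀ a s : (ZMod q)ˣ, (s = 1 ∨ s = -1) → T := fun a s hs => ⟨dg a (s * a⁻¹), (hmem a s hs).1⟩
  let w : T := ⟨sw, by simpa [dg_one] using (hmem 1 1 (Or.inl rfl)).2⟩
  have hw2 : w * w = 1 := Subtype.ext sw_mul_sw
  have hTform : ∀ x : T, ∃ (a s : (ZMod q)ˣ) (hs : s = 1 ∨ s = -1), x = D a s hs ∨ x = D a s hs * w := by
    intro x
    obtain ⟨a, s, hs, h | h⟩ := hform x x.2
    · exact ⟨a, s, hs, Or.inl (Subtype.ext h)⟩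
    · exact ⟨a, s, hs, Or.inr (Subtype.ext h)⟩
  have hDpow : ∀ a s hs, ∀ n : ℕ, ((D a s hs) ^ n : T).1 = dg (a ^ n) ((s * a⁻¹) ^ n) := by
    intro a s hs n
    induction n with
    | zero => simp [dg_one]
    | succ n ih => rw [pow_succ, Subgroup.coe_mul, ih, pow_succ, pow_succ]; exact dg_mul ..
  have hDord : ∀ a s hs, (D a s hs) ^ 2 ^ m = 1 := fun a s hs =>
    Subtype.ext (by rw [hDpow a s hs, hpowU, hpowU, dg_one]; rfl)
  -- it suffices that the diagonal maps are fixed
  suffices hfix : ∀ a s hs, ψ (D a s hs) = D a s hs by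
    have hw : ψ w = w := by
      obtain ⟨a, s, hs, h | h⟩ := hTform (ψ w)
      · have e : w = D a s hs := ψ.injective (h.trans (hfix a s hs).symm)
        have e' : dg (1 : (ZMod q)ˣ) 1 * sw = dg a (s * a⁻¹) := by
          rw [dg_one, one_mul]; exact congrArg Subtype.val e
        exact (dg_sw_ne _ _ _ _ e').elim
      · exact fixed_of_translate hψ hr (hfix a s hs) h (hDord a s hs)
    refine MulEquiv.ext fun x => ?_
    obtain ⟨a, s, hs, rfl | rfl⟩ := hTform x
    · exact hfix a s hs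
    · rw [map_mul, hw, hfix a s hs]; rfl
  rcases Nat.eq_zero_or_pos m with hm0 | hm1
  · intro a s hs
    have h : D a s hs = 1 := by
      subst hm0
      have ha : ∀ a : (ZMod q)ˣ, a = 1 := fun a => by simpa using hpowU a
      refine Subtype.ext ?_
      show dg a (s * a⁻¹) = 1
      rw [ha a, ha (s * 1⁻¹), dg_one]
    rw [h, map_one]
  obtain ⟨g, hg⟩ := IsCyclic.exists_generator (α := (ZMod q)ˣ)
  have hgo : orderOf g = 2 ^ m := by
    rw [orderOf_eq_card_of_forall_mem_zpowers hg, hcardU]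
  have hne1 : (-1 : (ZMod q)ˣ) ≠ 1 := by
    intro e
    have h2 : (2 : ZMod q) = 0 := by
      have := congrArg Units.val e
      simp at this
      linear_combination -this
    have : q ∣ 2 := (ZMod.natCast_eq_zero_iff 2 q).1 (by exact_mod_cast h2)
    have := Nat.le_of_dvd (by norm_num) this
    have : 2 ≤ 2 ^ m := by simpa using Nat.pow_le_pow_right (show 0 < 2 by norm_num) hm1
    omega
  have hgen : ∀ a : (ZMod q)ˣ, ∃ n : ℕ, g ^ n = a := fun a => by
    obtain ⟨n, hn⟩ := mem_powers_iff_mem_zpowers.2 (hg a)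
    exact ⟨n, hn⟩
  set d := D g 1 (Or.inl rfl) with hd
  set d' := D g (-1) (Or.inr rfl) with hd'
  have hord : ∀ x : T, (∃ a s hs, x = D a s hs) → orderOf x = 2 ^ m → x ^ 2 ^ (m - 1) ≠ 1 := by
    intro x _ hx e
    have := orderOf_dvd_of_pow_eq_one e
    rw [hx, Nat.pow_dvd_pow_iff_le_right (by norm_num)] at this
    omega
  have hdo : ∀ s hs, orderOf (D g s hs) = 2 ^ m := by
    intro s hs
    refine Nat.dvd_antisymm (orderOf_dvd_of_pow_eq_one (hDord g s hs)) ?_
    rw [← hgo, orderOf_dvd_iff_pow_eq_one]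
    have h := congrArg Subtype.val (pow_orderOf_eq_one (D g s hs))
    rw [hDpow g s hs] at h
    exact (dg_inj (h.trans dg_one.symm)).1
  by_cases hm : m = 1
  · -- the dihedral group of order eight
    subst hm
    have hq3 : q = 3 := by simpa using hq
    subst hq3
    set e := D 1 (-1) (Or.inr rfl)
    set R := e * w
    have hR4 : orderOf R = 2 ^ 2 := by
      haveI := Fact.mk Nat.prime_two
      refine orderOf_eq_prime_pow (n := 1) ?_ ?_
      · intro h
        have h' := congrArg Subtype.val h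
        rw [pow_one, pow_two, Subgroup.coe_mul, Subgroup.coe_mul] at h'
        have : dg (1 : (ZMod 3)ˣ) (-1 * 1⁻¹) * sw * (dg (1 : (ZMod 3)ˣ) (-1 * 1⁻¹) * sw) = 1 := h'
        rw [mul_assoc, ← mul_assoc sw, sw_dg, mul_assoc (dg _ _) sw sw, sw_mul_sw, mul_one, dg_mul, ← dg_one] at this
        have := (dg_inj this).1
        simp at this
        exact hne1 this
      · refine Subtype.ext ?_
        show (dg (1 : (ZMod 3)ˣ) (-1 * 1⁻¹) * sw) ^ (2 ^ (1 + 1)) = 1
        rw [show (2 : ℕ) ^ (1 + 1) = 2 * 2 from rfl, pow_mul, pow_two (_ * sw), mul_assoc, ← mul_assoc sw,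
          sw_dg, mul_assoc (dg _ _) sw sw, sw_mul_sw, mul_one, dg_mul, pow_two, dg_mul, ← dg_one]
        congr 1 <;> simp
    have hR2 : R * R = D (-1) 1 (Or.inl rfl) := by
      refine Subtype.ext ?_
      show dg (1 : (ZMod 3)ˣ) (-1 * 1⁻¹) * sw * (dg (1 : (ZMod 3)ˣ) (-1 * 1⁻¹) * sw) = _
      rw [mul_assoc, ← mul_assoc sw, sw_dg, mul_assoc (dg _ _) sw sw, sw_mul_sw, mul_one, dg_mul]
      congr 1 <;> simp
    have hu := three_units
    have hRfix : ψ R = R := by
      refine fixed_of_mem_zpowers hψ hr hR4 ?_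
      have ho : orderOf (ψ R) = 2 ^ 2 := (orderOf_injective ψ.toMonoidHom ψ.injective R).trans hR4
      obtain ⟨a, s, hs, h | h⟩ := hTform (ψ R)
      · have := orderOf_dvd_of_pow_eq_one (hDord a s hs)
        rw [← h, ho] at this
        norm_num at this
      · rcases hu a with rfl | rfl <;> rcases hs with rfl | rfl
        · exfalso
          rw [h] at ho
          have : (D 1 1 (Or.inl rfl) * w) ^ 2 = 1 := Subtype.ext (by
            show (dg (1 : (ZMod 3)ˣ) (1 * 1⁻¹) * sw) ^ 2 = 1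
            rw [inv_one, one_mul, dg_one, one_mul, pow_two, sw_mul_sw])
          have := orderOf_dvd_of_pow_eq_one this
          rw [ho] at this
          norm_num at this
        · rw [h]; exact Subgroup.mem_zpowers R
        · exfalso
          rw [h] at ho
          have : (D (-1) 1 (Or.inl rfl) * w) ^ 2 = 1 := Subtype.ext (by
            show (dg (-1 : (ZMod 3)ˣ) (1 * (-1)⁻¹) * sw) ^ 2 = 1
            rw [pow_two, mul_assoc, ← mul_assoc sw, sw_dg, mul_assoc (dg _ _) sw sw, sw_mul_sw, mul_one,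
              dg_mul, ← dg_one]
            congr 1 <;> simp)
          have := orderOf_dvd_of_pow_eq_one this
          rw [ho] at this
          norm_num at this
        · rw [h]
          refine ⟨3, ?_⟩
          show R ^ (3 : ℤ) = _
          rw [show ((3 : ℤ)) = ((3 : ℕ) : ℤ) from rfl, zpow_natCast, pow_succ, pow_two, hR2]
          refine Subtype.ext ?_
          show dg (-1 : (ZMod 3)ˣ) (1 * (-1)⁻¹) * (dg 1 (-1 * 1⁻¹) * sw) = dg (-1) (-1 * (-1)⁻¹) * sw
          rw [← mul_assoc, dg_mul]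
          congr 2 <;> simp
    intro a s hs
    have hfm1 : ψ (D (-1) 1 (Or.inl rfl)) = D (-1) 1 (Or.inl rfl) := by rw [← hR2, map_mul, hRfix]
    have hf1 : ψ (D 1 1 (Or.inl rfl)) = D 1 1 (Or.inl rfl) := by
      rw [show D 1 1 (Or.inl rfl) = (1 : T) from Subtype.ext (by simpa [D] using dg_one), map_one]
    have hfw : ψ w = w := by
      have hneR : ∀ x : T, x = R * w ∨ x = R * R * R * w ∨ x = R * R ∨ x = R * R * R ∨
          x = R ∨ x = 1 ∨ x = w ∨ x = R * R * w := by
        intro x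
        have h1 : D 1 1 (Or.inl rfl) = (1 : T) := Subtype.ext (by simpa [D] using dg_one)
        have hRw : R * w = e := by rw [show R = e * w from rfl, mul_assoc, hw2, mul_one]
        have h3 : R * R * e = D (-1) (-1) (Or.inr rfl) := by
          rw [hR2]; refine Subtype.ext ?_
          show dg (-1 : (ZMod 3)ˣ) (1 * (-1)⁻¹) * dg 1 (-1 * 1⁻¹) = _
          rw [dg_mul]; congr 1 <;> simp
        obtain ⟨a, s, hs, h | h⟩ := hTform x <;> rcases hu a with rfl | rfl <;> rcases hs with rfl | rfl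
        · exact Or.inr (Or.inr (Or.inr (Or.inr (Or.inr (Or.inl (h.trans h1))))))
        · exact Or.inl (h.trans hRw.symm)
        · exact Or.inr (Or.inr (Or.inl (h.trans hR2.symm)))
        · exact Or.inr (Or.inl (by rw [h, ← h3, ← hRw]; simp only [mul_assoc]))
        · exact Or.inr (Or.inr (Or.inr (Or.inr (Or.inr (Or.inr (Or.inl (by rw [h, h1, one_mul])))))))
        · exact Or.inr (Or.inr (Or.inr (Or.inr (Or.inl h))))
        · exact Or.inr (Or.inr (Or.inr (Or.inr (Or.inr (Or.inr (Or.inr (by rw [h, hR2])))))))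
        · exact Or.inr (Or.inr (Or.inr (Or.inl (by rw [h, ← h3, mul_assoc (R * R)]))))
      have hR4' : R ^ 2 ^ 2 = 1 := hR4 ▸ pow_orderOf_eq_one R
      have hbad : ∀ i : ℕ, ψ w = R ^ i → False := fun i e' => by
        have h' : w = R ^ i := ψ.injective (by rw [e', map_pow, hRfix])
        have h2 : orderOf w = 2 := orderOf_eq_prime (p := 2) (by rw [pow_two, hw2]) (fun e1 => by
          have e2 : dg (1 : (ZMod 3)ˣ) 1 * sw = dg 1 1 := by rw [dg_one, one_mul]; exact congrArg Subtype.val e1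
          exact dg_sw_ne _ _ _ _ e2)
        have hc : w * R = R * w := by rw [h', ← pow_succ, ← pow_succ']
        have hd2 : R ^ 2 = 1 := by
          rw [show R = e * w from rfl, ← mul_assoc, mul_assoc e w w, hw2, mul_one] at hc
          have hc' : w * e = e * w := by
            have := congrArg (· * w) hc
            simpa [mul_assoc, hw2] using this
          rw [pow_two, show R = e * w from rfl, mul_assoc, ← mul_assoc w e w, hc', mul_assoc e w w, hw2,
            mul_one]
          refine Subtype.ext ?_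
          show dg (1 : (ZMod 3)ˣ) (-1 * 1⁻¹) * dg 1 (-1 * 1⁻¹) = 1
          rw [dg_mul, ← dg_one]; congr 1 <;> simp
        have := orderOf_dvd_of_pow_eq_one hd2
        rw [hR4] at this
        norm_num at this
      rcases hneR (ψ w) with h | h | h | h | h | h | h | h
      · exact fixed_of_translate hψ hr hRfix h hR4'
      · exact fixed_of_translate hψ hr (t := R * R * R) (by rw [map_mul, map_mul, hRfix]) h (k := 2) (by
          rw [show R * R * R = R ^ 3 by rw [pow_succ, pow_two], ← pow_mul, mul_comm, pow_mul, hR4', one_pow])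
      · exact (hbad 2 (by rw [h, pow_two])).elim
      · exact (hbad 3 (by rw [h, pow_succ, pow_two])).elim
      · exact (hbad 1 (by rw [h, pow_one])).elim
      · exact (hbad 0 (by rw [h, pow_zero])).elim
      · exact h
      · exact fixed_of_translate hψ hr (t := R * R) (by rw [map_mul, hRfix]) h (k := 2) (by
          rw [show R * R = R ^ 2 from (pow_two R).symm, ← pow_mul, mul_comm, pow_mul, hR4', one_pow])
    have hfe : ψ e = e := by
      rw [show e = R * w by rw [show R = e * w from rfl, mul_assoc, hw2, mul_one], map_mul, hRfix, hfw]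
    rcases hu a with rfl | rfl <;> rcases hs with rfl | rfl
    · exact hf1
    · exact hfe
    · exact hfm1
    · rw [show D (-1) (-1) (Or.inr rfl) = D (-1) 1 (Or.inl rfl) * e from Subtype.ext (by
        show _ = dg (-1 : (ZMod 3)ˣ) (1 * (-1)⁻¹) * dg 1 (-1 * 1⁻¹)
        rw [dg_mul]; congr 1 <;> simp), map_mul, hfm1, hfe]
  · have hm2 : m ≠ 2 := fun e => hq5 (by rw [hq, e]; rfl)
    have hC : ∀ x : T, orderOf x = 2 ^ m → x ∈ Subgroup.zpowers d ∨ x ∈ Subgroup.zpowers d' := by
      intro x hx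
      obtain ⟨a, s, hs, rfl | rfl⟩ := hTform x
      · obtain ⟨n, rfl⟩ := hgen a
        rcases hs with rfl | rfl
        · left
          refine ⟨n, ?_⟩
          show d ^ (n : ℤ) = _
          refine Subtype.ext ?_
          rw [zpow_natCast, hDpow g 1 (Or.inl rfl)]; simp [D]
        · rcases Nat.even_or_odd n with he | ho
          · exfalso
            refine hord _ ⟨g ^ n, -1, Or.inr rfl, rfl⟩ hx (Subtype.ext ?_)
            rw [hDpow (g ^ n) (-1) (Or.inr rfl)]
            have h1 : (g ^ n) ^ 2 ^ (m - 1) = 1 := by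
              obtain ⟨j, rfl⟩ := he
              rw [← pow_mul, show (j + j) * 2 ^ (m - 1) = j * 2 ^ m by
                conv_rhs => rw [show m = (m - 1) + 1 by omega, pow_succ]
                ring, mul_comm, pow_mul, hpowU, one_pow]
            rw [mul_pow, inv_pow, h1, inv_one, mul_one,
              Even.neg_one_pow ((Nat.even_pow).2 ⟨even_two, by omega⟩), dg_one]
            rfl
          · right
            refine ⟨n, ?_⟩
            show d' ^ (n : ℤ) = _
            refine Subtype.ext ?_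
            rw [zpow_natCast, hDpow g (-1) (Or.inr rfl)]
            simp [D, ho.neg_pow]
      · exfalso
        have h4 : (D a s hs * w) ^ 2 ^ 2 = 1 := Subtype.ext (by
          show (dg a (s * a⁻¹) * sw) ^ (2 * 2) = 1
          rw [pow_mul, pow_two (_ * sw), mul_assoc, ← mul_assoc sw, sw_dg, mul_assoc (dg _ _) sw sw,
            sw_mul_sw, mul_one, dg_mul, pow_two, dg_mul, ← dg_one]
          congr 1
          · calc a * (s * a⁻¹) * (a * (s * a⁻¹)) = s * s := by simp [mul_comm, mul_left_comm]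
              _ = 1 := hsq s hs
          · calc s * a⁻¹ * a * (s * a⁻¹ * a) = s * s := by simp
              _ = 1 := hsq s hs)
        have := orderOf_dvd_of_pow_eq_one h4
        rw [hx, Nat.pow_dvd_pow_iff_le_right (by norm_num)] at this
        omega
    have hdne : d' ∉ Subgroup.zpowers d := by
      rintro ⟨j, hj⟩
      have hj' : d ^ j = d' := hj
      have hk : ∀ j : ℤ, ((d ^ j : T) : (Fin 2 → ZMod q) ≃ₗ[ZMod q] (Fin 2 → ZMod q)) = dg (g ^ j) (g ^ j)⁻¹ := by
        intro j
        obtain ⟨n, rfl | rfl⟩ := Int.eq_nat_or_neg j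
        · rw [zpow_natCast, hDpow g 1 (Or.inl rfl), zpow_natCast]; simp
        · rw [zpow_neg, zpow_natCast, zpow_neg, zpow_natCast, Subgroup.coe_inv, hDpow g 1 (Or.inl rfl)]
          refine inv_eq_of_mul_eq_one_right ?_
          rw [dg_mul, ← dg_one]; congr 1 <;> simp
      have := congrArg Subtype.val hj'
      rw [hk] at this
      obtain ⟨h1, h2⟩ := dg_inj (this.trans (show (d' : _) = dg g (-1 * g⁻¹) from rfl))
      rw [h1] at h2
      exact hne1 (mul_right_cancel (b := g⁻¹) (by rw [one_mul]; exact h2.symm))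
    have ho : ∀ x : T, orderOf x = 2 ^ m → orderOf (ψ x) = 2 ^ m := fun x hx =>
      (orderOf_injective ψ.toMonoidHom ψ.injective x).trans hx
    have hstep : ∀ c c' : T, orderOf c = 2 ^ m → orderOf c' = 2 ^ m → c' ∉ Subgroup.zpowers c →
        (∀ x : T, orderOf x = 2 ^ m → x ∈ Subgroup.zpowers c ∨ x ∈ Subgroup.zpowers c') → ψ c = c := by
      intro c c' hc hc' hne hall
      rcases hall _ (ho c hc) with h | h
      · exact fixed_of_mem_zpowers hψ hr hc h
      · have hz : Subgroup.zpowers (ψ c) = Subgroup.zpowers c' :=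
          Subgroup.eq_of_le_of_card_ge (Subgroup.zpowers_le.2 h) (by
            rw [Nat.card_zpowers, Nat.card_zpowers, hc', ho c hc])
        rcases hall _ (ho c' hc') with h' | h'
        · have h2 : (ψ ^ 2) c ∈ Subgroup.zpowers c := by
            obtain ⟨j, hj⟩ := h
            obtain ⟨i, hi⟩ := h'
            refine ⟨i * j, ?_⟩
            have hj : c' ^ j = ψ c := hj
            have hi : c ^ i = ψ c' := hi
            show c ^ (i * j) = _
            rw [pow_two, MulAut.mul_apply, ← hj, map_zpow, ← hi, zpow_mul]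
          have hfix2 : (ψ ^ 2) c = c :=
            fixed_of_mem_zpowers (r := r) (by rw [← pow_mul, mul_comm, pow_mul, hψ, one_pow]) hr hc h2
          obtain ⟨i, hi⟩ := hr
          have hψ' : ψ = (ψ ^ 2) ^ (i + 1) := by
            rw [← pow_mul, show 2 * (i + 1) = r + 1 by omega, pow_succ, hψ, one_mul]
          rw [hψ']
          clear hψ'
          generalize i + 1 = n
          induction n with
          | zero => simp
          | succ n ih => rw [pow_succ, MulAut.mul_apply, hfix2, ih]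
        · exfalso
          apply hne
          have h3 : Subgroup.zpowers (ψ c') = Subgroup.zpowers c' :=
            Subgroup.eq_of_le_of_card_ge (Subgroup.zpowers_le.2 h') (by
              rw [Nat.card_zpowers, Nat.card_zpowers, hc', ho c' hc'])
          obtain ⟨j, hj⟩ : ψ c' ∈ Subgroup.zpowers (ψ c) := by rw [hz, ← h3]; exact Subgroup.mem_zpowers _
          exact ⟨j, ψ.injective (by show ψ (c ^ j) = _; rw [map_zpow]; exact hj)⟩
    have hdne' : d ∉ Subgroup.zpowers d' := by
      intro h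
      have : Subgroup.zpowers d = Subgroup.zpowers d' :=
        Subgroup.eq_of_le_of_card_ge (Subgroup.zpowers_le.2 h) (by
          rw [Nat.card_zpowers, Nat.card_zpowers, hdo 1 (Or.inl rfl), hdo (-1) (Or.inr rfl)])
      exact hdne (this ▸ Subgroup.mem_zpowers d')
    have hfd : ψ d = d := hstep d d' (hdo 1 (Or.inl rfl)) (hdo (-1) (Or.inr rfl)) hdne hC
    have hfd' : ψ d' = d' := hstep d' d (hdo (-1) (Or.inr rfl)) (hdo 1 (Or.inl rfl)) hdne' fun x hx => (hC x hx).symm
    intro a s hs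
    obtain ⟨n, rfl⟩ := hgen a
    have h1 : D (g ^ n) 1 (Or.inl rfl) = d ^ n := Subtype.ext (by rw [hDpow g 1 (Or.inl rfl)]; simp [D])
    rcases hs with rfl | rfl
    · rw [h1, map_pow, hfd]
    · have h2 : D (g ^ n) (-1) (Or.inr rfl) = d ^ n * (d⁻¹ * d') := Subtype.ext (by
        have hinv : ((d⁻¹ : T) : (Fin 2 → ZMod q) ≃ₗ[ZMod q] (Fin 2 → ZMod q)) = dg g⁻¹ g :=
          inv_eq_of_mul_eq_one_right (by
            show dg g (1 * g⁻¹) * dg g⁻¹ g = 1
            rw [dg_mul, ← dg_one]; congr 1 <;> simp)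
        rw [Subgroup.coe_mul, Subgroup.coe_mul, hDpow g 1 (Or.inl rfl), hinv]
        show dg (g ^ n) (-1 * (g ^ n)⁻¹) = _ * (_ * dg g (-1 * g⁻¹))
        rw [dg_mul, dg_mul]
        congr 1 <;> simp)
      rw [h2, map_mul, map_mul, map_pow, map_inv, hfd, hfd']

end Cfsg.Agent.S3382
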