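import Cfsg.Statements.S3383
import Cfsg.Agent.Lib.Solv.FrobeniusFPF
-- import your own Cfsg.Agent.* helpers here

set_option autoImplicit false
open Cfsg

namespace Cfsg.Agent.S3383

/-- Let H be a Frobenius complement in a finite group L and K the Frobenius kernel (as a subgroup). Then K is characteristic in L, and every normal subgroup of L either contains K or is contained in K. -/
theorem result {L : Type*} [Group L] [Finite L]
    (H : Subgroup L) (hH : Cfsg.IsFrobeniusComplement H)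
    (K : Subgroup L) (hK : (K : Set L) = Cfsg.frobeniusKernel H) :
    K.Characteristic ∧ ∀ N : Subgroup L, N.Normal → K ≤ N ∨ N ≤ K := by
  obtain ⟨K', hK', hK'n, hcompl⟩ := Cfsg.Agent.Solv.frobenius_theorem hH
  have hKK : K' = K := SetLike.coe_injective (hK'.trans hK.symm)
  subst hKK
  have hco := Cfsg.Agent.Solv.frob_coprime hH
  have hcardK : Nat.card K' = H.index := by
    apply Nat.eq_of_mul_eq_mul_right (Nat.card_pos (α := H))
    rw [hcompl.card_mul, mul_comm, Subgroup.card_mul_index]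
  have hiK : K'.index = Nat.card H := by
    apply Nat.eq_of_mul_eq_mul_left (Nat.card_pos (α := K'))
    rw [Subgroup.card_mul_index, hcompl.card_mul]
  have hchar : ∀ x, x ∈ K' ↔ x ^ H.index = 1 := by
    intro x
    constructor
    · intro hx
      rw [← hcardK]
      exact congrArg Subtype.val (pow_card_eq_one' (x := (⟨x, hx⟩ : K')))
    · intro hx
      rw [← QuotientGroup.eq_one_iff]
      have h1 : (QuotientGroup.mk x : L ⧸ K') ^ H.index = 1 := by
        rw [← QuotientGroup.mk_pow, hx, QuotientGroup.mk_one]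
      have h2 : (QuotientGroup.mk x : L ⧸ K') ^ Nat.card H = 1 := by
        rw [← hiK, Subgroup.index_eq_card]; exact pow_card_eq_one'
      have := pow_gcd_eq_one.2 (And.intro h2 h1)
      rwa [Nat.Coprime.gcd_eq_one hco, pow_one] at this
  refine ⟨⟨fun φ => ?_⟩, fun N hN => ?_⟩
  · ext x
    show φ x ∈ K' ↔ x ∈ K'
    rw [hchar, hchar, ← map_pow, map_eq_one_iff φ φ.injective]
  by_cases hNK : N ≤ K'
  · exact Or.inr hNK
  left
  obtain ⟨x, hxN, hxK⟩ := SetLike.not_le_iff_exists.1 hNK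
  have hx' : x ∉ Cfsg.frobeniusKernel H := by rw [← hK]; exact hxK
  simp only [Cfsg.frobeniusKernel, Set.mem_setOf_eq, not_or, not_forall, not_not] at hx'
  obtain ⟨hx1, c, hc⟩ := hx'
  have hxc : c⁻¹ * x * c ∈ H := by
    obtain ⟨h, hh, rfl⟩ := hc
    simpa [MulAut.smul_def, mul_assoc] using hh
  obtain ⟨y, hy⟩ : ∃ y, y = c⁻¹ * x * c := ⟨_, rfl⟩
  have hyN : y ∈ N := by rw [hy]; simpa using hN.conj_mem x hxN c⁻¹
  rw [← hy] at hxc
  have hy1 : y ≠ 1 := fun h => hx1 (by
    rw [hy] at h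
    calc x = c * (c⁻¹ * x * c) * c⁻¹ := by group
      _ = 1 := by rw [h]; group)
  have hfpf := Cfsg.Agent.Solv.frob_fpf hH (N := K') hcompl.disjoint.eq_bot hxc hy1
  let f : K' → K' := fun k => ⟨y * (k : L) * y⁻¹ * (k : L)⁻¹,
    K'.mul_mem (hK'n.conj_mem _ k.2 y) (K'.inv_mem k.2)⟩
  have hinj : Function.Injective f := by
    intro k l hkl
    have h' : y * (k : L) * y⁻¹ * (k : L)⁻¹ = y * (l : L) * y⁻¹ * (l : L)⁻¹ := congrArg Subtype.val hkl
    have hmem : (l : L)⁻¹ * (k : L) ∈ K' ⊓ Subgroup.centralizer {y} := by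
      refine ⟨K'.mul_mem (K'.inv_mem l.2) k.2, Subgroup.mem_centralizer_singleton_iff.2 ?_⟩
      calc (l : L)⁻¹ * k * y = (l : L)⁻¹ * ((y * k * y⁻¹ * (k : L)⁻¹)⁻¹ * (y * k)) := by group
        _ = (l : L)⁻¹ * ((y * l * y⁻¹ * (l : L)⁻¹)⁻¹ * (y * k)) := by rw [h']
        _ = y * ((l : L)⁻¹ * k) := by group
    rw [hfpf, Subgroup.mem_bot, inv_mul_eq_one] at hmem
    exact Subtype.ext hmem.symm
  intro k hk
  obtain ⟨z, hz⟩ := (Finite.injective_iff_surjective.1 hinj) ⟨k, hk⟩
  have hz' : y * (z : L) * y⁻¹ * (z : L)⁻¹ = k := congrArg Subtype.val hz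
  rw [← hz', mul_assoc (y * (z : L)), mul_assoc y]
  refine N.mul_mem hyN ?_
  rw [← mul_assoc]
  exact hN.conj_mem _ (N.inv_mem hyN) z

end Cfsg.Agent.S3383
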