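import Cfsg.Statements.S3389
import Mathlib
-- import your own Cfsg.Agent.* helpers here

set_option autoImplicit false
open Cfsg

namespace Cfsg.Agent.S3389

/-- Let G be a finite group acting faithfully and transitively on a finite set Ω with fixity k ≥ 1: every non-identity element fixes at most k points and some non-identity element fixes exactly k points. Then |Z(G)| divides k; if k = 2 then |G| is even; and for every prime p > k dividing |G| and every point α, either p does not divide |G_α| or G_α contains a Sylow p-subgroup of G. -/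
theorem result {G : Type*} [Group G] [Finite G] {Ω : Type*} [Fintype Ω] [MulAction G Ω] [FaithfulSMul G Ω]
    (htr : MulAction.IsPretransitive G Ω) (k : ℕ) (hk : 1 ≤ k)
    (hfix : ∀ g : G, g ≠ 1 → Nat.card (MulAction.fixedBy Ω g) ≤ k) (hex : ∃ g : G, g ≠ 1 ∧ Nat.card (MulAction.fixedBy Ω g) = k) :
    Nat.card (Subgroup.center G) ∣ k ∧ (k = 2 → 2 ∣ Nat.card G) ∧
      ∀ (p : ℕ), p.Prime → k < p → p ∣ Nat.card G → ∀ α : Ω,
        ¬ p ∣ Nat.card (MulAction.stabilizer G α) ∨ ¬ p ∣ (MulAction.stabilizer G α).index := by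
  classical
  have hp' : ∀ (p : ℕ), p.Prime → k < p → ∀ x : G, orderOf x = p → ∀ P : Sylow p G, x ∈ (P : Subgroup G) →
      ∀ α : Ω, x • α = α → ∀ h ∈ (P : Subgroup G), h • α = α := by
    intro p hp hkp x hx P hxP α hxα
    have : Fact p.Prime := ⟨hp⟩
    have hperm : ∀ (u : G), u ≠ 1 → ∀ (K : Subgroup G), IsPGroup p K → (∀ h ∈ K, h * u = u * h) →
        ∀ w : Ω, u • w = w → ∀ h ∈ K, h • w = w := by
      intro u hu K hK hcomm w hw h hh
      have hsub : MulAction.orbit K w ⊆ MulAction.fixedBy Ω u := by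
        rintro _ ⟨⟨h', hh'⟩, rfl⟩
        show u • (h' • w) = h' • w
        rw [smul_smul, ← hcomm h' hh', mul_smul, hw]
      obtain ⟨n, hn⟩ := hK.card_orbit w
      have hle : Nat.card (MulAction.orbit K w) ≤ k :=
        le_trans (Nat.card_le_card_of_injective _ (Set.inclusion_injective hsub)) (hfix u hu)
      have hn0 : n = 0 := by
        rcases Nat.eq_zero_or_pos n with h0 | h0
        · exact h0
        · exfalso
          have : p ≤ p ^ n := Nat.le_self_pow h0.ne' p
          omega
      rw [hn0, pow_zero, Nat.card_eq_one_iff_unique] at hn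
      exact congrArg Subtype.val
        (hn.1.elim ⟨h • w, ⟨h, hh⟩, rfl⟩ ⟨w, MulAction.mem_orbit_self w⟩)
    have hx1 : x ≠ 1 := fun h => hp.one_lt.ne (by rw [← hx, h, orderOf_one])
    have hPnt : Nontrivial (P : Subgroup G) :=
      ⟨⟨x, hxP⟩, 1, fun h => hx1 (congrArg Subtype.val h)⟩
    have hnt : Nontrivial (Subgroup.center (P : Subgroup G)) := P.2.center_nontrivial
    obtain ⟨z, hz⟩ := exists_ne (1 : Subgroup.center (P : Subgroup G))
    have hzc : ∀ h ∈ (P : Subgroup G), h * ((z : (P : Subgroup G)) : G) = ((z : (P : Subgroup G)) : G) * h := by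
      intro h hh
      exact congrArg Subtype.val (Subgroup.mem_center_iff.1 z.2 ⟨h, hh⟩)
    have hz1 : ((z : (P : Subgroup G)) : G) ≠ 1 := fun h => hz (Subtype.ext (Subtype.ext h))
    have hzα : ((z : (P : Subgroup G)) : G) • α = α :=
      hperm x hx1 (Subgroup.zpowers ((z : (P : Subgroup G)) : G))
        (P.2.to_le (Subgroup.zpowers_le.2 (z : (P : Subgroup G)).2))
        (fun h hh => by
          obtain ⟨j, rfl⟩ := hh
          exact ((show Commute ((z : (P : Subgroup G)) : G) x from (hzc x hxP).symm).zpow_left j).eq)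
        α hxα _ (Subgroup.mem_zpowers _)
    exact hperm _ hz1 P P.2 hzc α hzα
  have hc : ∀ (p : ℕ), p.Prime → k < p → p ∣ Nat.card G → ∀ α : Ω,
      ¬ p ∣ Nat.card (MulAction.stabilizer G α) ∨ ¬ p ∣ (MulAction.stabilizer G α).index := by
    intro p hp hkp _ α
    by_contra hcon
    push Not at hcon
    have : Fact p.Prime := ⟨hp⟩
    obtain ⟨⟨x, hxα⟩, hx⟩ := exists_prime_orderOf_dvd_card' p hcon.1
    rw [Subgroup.orderOf_mk] at hx
    obtain ⟨P, hP⟩ := (IsPGroup.of_card (p := p) (n := 1) (G := Subgroup.zpowers x)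
      (by rw [Nat.card_zpowers, hx, pow_one])).exists_le_sylow
    have hle : (P : Subgroup G) ≤ MulAction.stabilizer G α :=
      fun h hh => hp' p hp hkp x hx P (hP (Subgroup.mem_zpowers x)) α hxα h hh
    exact P.not_dvd_index (hcon.2.trans (Subgroup.index_dvd_of_le hle))
  refine ⟨?_, ?_, hc⟩
  · obtain ⟨g, hg, hgk⟩ := hex
    let Z := Subgroup.center G
    have hZfix : ∀ (z : Z) (w : Ω), g • w = w → g • ((z : G) • w) = (z : G) • w := by
      intro z w hw
      rw [smul_smul, Subgroup.mem_center_iff.1 z.2 g, mul_smul, hw]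
    letI : MulAction Z (MulAction.fixedBy Ω g) :=
      { smul := fun z w => ⟨(z : G) • (w : Ω), hZfix z w w.2⟩
        one_smul := fun w => Subtype.ext (one_smul G (w : Ω))
        mul_smul := fun z z' w => Subtype.ext (mul_smul (z : G) (z' : G) (w : Ω)) }
    have hfree : ∀ w : MulAction.fixedBy Ω g, MulAction.stabilizer Z w = ⊥ := by
      intro w
      rw [eq_bot_iff]
      intro z hz
      rw [Subgroup.mem_bot]
      refine Subtype.ext (FaithfulSMul.eq_of_smul_eq_smul (α := Ω) fun y => ?_)
      obtain ⟨t, rfl⟩ := MulAction.exists_smul_eq G (w : Ω) y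
      have hz' : (z : G) • (w : Ω) = w := congrArg Subtype.val hz
      rw [OneMemClass.coe_one, one_smul, smul_smul, ← Subgroup.mem_center_iff.1 z.2 t, mul_smul, hz']
    have e := MulAction.selfEquivOrbitsQuotientProd (G := Z) (X := MulAction.fixedBy Ω g) hfree
    rw [← hgk, Nat.card_congr e, Nat.card_prod]
    exact dvd_mul_left _ _
  · intro hk2
    by_contra hodd
    obtain ⟨g, hg, hgk⟩ := hex
    obtain ⟨a, b, hab, hset⟩ := Set.ncard_eq_two.1 ((Nat.card_coe_set_eq _).symm.trans (hgk.trans hk2))
    obtain ⟨p, hp, hpd⟩ := Nat.exists_prime_and_dvd (mt orderOf_eq_one_iff.1 hg)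
    have : Fact p.Prime := ⟨hp⟩
    have hpG : p ∣ Nat.card G := hpd.trans (orderOf_dvd_natCard g)
    have hkp : k < p := by
      rcases eq_or_ne p 2 with rfl | h
      · exact absurd hpG hodd
      · have := hp.two_le; omega
    obtain ⟨x, hxdef⟩ : ∃ x, x = g ^ (orderOf g / p) := ⟨_, rfl⟩
    have hx : orderOf x = p := by rw [hxdef, orderOf_pow_orderOf_div (orderOf_pos g).ne' hpd]
    have hga : g ∈ MulAction.stabilizer G a :=
      show a ∈ MulAction.fixedBy Ω g by rw [hset]; simp
    have hgb : g ∈ MulAction.stabilizer G b :=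
      show b ∈ MulAction.fixedBy Ω g by rw [hset]; simp
    have hxa : x • a = a := by
      rw [hxdef]; exact Subgroup.pow_mem _ hga _
    have hxb : x • b = b := by
      rw [hxdef]; exact Subgroup.pow_mem _ hgb _
    obtain ⟨P, hP⟩ := (IsPGroup.of_card (p := p) (n := 1) (G := Subgroup.zpowers x)
      (by rw [Nat.card_zpowers, hx, pow_one])).exists_le_sylow
    have hPa : (P : Subgroup G) ≤ MulAction.stabilizer G a :=
      fun h hh => hp' p hp hkp x hx P (hP (Subgroup.mem_zpowers x)) a hxa h hh
    have hPb : (P : Subgroup G) ≤ MulAction.stabilizer G b :=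
      fun h hh => hp' p hp hkp x hx P (hP (Subgroup.mem_zpowers x)) b hxb h hh
    obtain ⟨t, ht⟩ := MulAction.exists_smul_eq G a b
    have hP' : ((t⁻¹ • P : Sylow p G) : Subgroup G) ≤ MulAction.stabilizer G a := by
      rintro _ ⟨q, hq, rfl⟩
      show (t⁻¹ * q * t⁻¹⁻¹) • a = a
      rw [inv_inv, mul_smul, mul_smul, ht, hPb hq, ← ht, inv_smul_smul]
    obtain ⟨s, hs⟩ := MulAction.exists_smul_eq (MulAction.stabilizer G a)
      ((t⁻¹ • P).subtype hP') (P.subtype hPa)
    rw [Sylow.smul_subtype] at hs
    have hs' : (s : G) • t⁻¹ • P = P := Sylow.subtype_injective hs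
    rw [smul_smul] at hs'
    let u : G := t * (s : G)⁻¹
    have hu : u • a = b := by
      show (t * (s : G)⁻¹) • a = b
      rw [mul_smul, show (s : G)⁻¹ • a = a from inv_smul_eq_iff.2 s.2.symm, ht]
    have huP : u • P = P := by
      conv_lhs => rw [← hs', smul_smul]
      rw [show u * ((s : G) * t⁻¹) = 1 by simp [u, mul_assoc], one_smul]
    have hx1 : x ≠ 1 := fun h => hp.one_lt.ne (by rw [← hx, h, orderOf_one])
    have hfx : MulAction.fixedBy Ω x = {a, b} := by
      refine (Set.eq_of_subset_of_ncard_le ?_ ?_).symm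
      · rintro _ (rfl | rfl)
        · exact hxa
        · exact hxb
      · rw [Set.ncard_pair hab]
        have := hfix x hx1
        rw [Nat.card_coe_set_eq] at this
        omega
    have hub : u • b = a := by
      have hmem : u • b ∈ MulAction.fixedBy Ω x := by
        show x • u • b = u • b
        have h1 : u⁻¹ * x * u ∈ (P : Subgroup G) := by
          have hxP : x ∈ ((u • P : Sylow p G) : Subgroup G) := by
            rw [huP]; exact hP (Subgroup.mem_zpowers x)
          obtain ⟨q, hq, rfl⟩ := hxP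
          show u⁻¹ * (u * q * u⁻¹) * u ∈ (P : Subgroup G)
          rw [show u⁻¹ * (u * q * u⁻¹) * u = q by group]
          exact hq
        have h2 : (u⁻¹ * x * u) • b = b := hPb h1
        rw [mul_smul, mul_smul, inv_smul_eq_iff] at h2
        exact h2
      rw [hfx] at hmem
      rcases hmem with h | h
      · exact h
      · exact absurd (smul_left_cancel u ((Set.mem_singleton_iff.1 h).trans hu.symm)) (Ne.symm hab)
    have hsq : ∀ j : ℕ, (u ^ (2 * j + 1)) • a = b := by
      intro j
      induction j with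
      | zero => rw [Nat.mul_zero, Nat.zero_add, pow_one, hu]
      | succ j ih =>
        rw [show 2 * (j + 1) + 1 = 2 + (2 * j + 1) by ring, pow_add, mul_smul, ih, pow_two, mul_smul,
          hub, hu]
    have hodd' : Odd (orderOf u) := by
      rw [← Nat.not_even_iff_odd, even_iff_two_dvd]
      exact fun h => hodd (h.trans (orderOf_dvd_natCard u))
    obtain ⟨j, hj⟩ := hodd'
    have := hsq j
    rw [← hj, pow_orderOf_eq_one, one_smul] at this
    exact hab this

end Cfsg.Agent.S3389
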