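import Cfsg.Statements.S3391
import Mathlib
import Cfsg.Agent.Lib.Lie.SuzukiFixityTwo
import Cfsg.Agent.Lib.Lie.SuzukiSp4
-- import your own Cfsg.Agent.* helpers here

set_option autoImplicit false
open Cfsg

namespace Cfsg.Agent.S3391

/-- Let q = 2^{2m+1} ≥ 8 and let G be isomorphic to the Suzuki group Sz(q). If G acts faithfully and transitively on a finite set Ω with fixity 2 (every non-identity element fixes at most two points, and some fixes exactly two), then either |Ω| = q² + 1 and the action is 2-transitive, or |Ω| = q²(q² + 1) and the point stabilizers have order q − 1. -/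
theorem result {G : Type*} [Group G] [Finite G] (F : Type) [Field F] [Fintype F] (m : ℕ) (hm : 1 ≤ m) (hF : Fintype.card F = 2 ^ (2 * m + 1))
    (e : G ≃* ↥(Cfsg.Lie.Sz F (2 ^ (m + 1)))) {Ω : Type*} [Fintype Ω] [MulAction G Ω] [FaithfulSMul G Ω] (htr : MulAction.IsPretransitive G Ω)
    (hfix : ∀ g : G, g ≠ 1 → Nat.card (MulAction.fixedBy Ω g) ≤ 2) (hex : ∃ g : G, g ≠ 1 ∧ Nat.card (MulAction.fixedBy Ω g) = 2) :
    (Fintype.card Ω = Fintype.card F ^ 2 + 1 ∧ MulAction.IsMultiplyPretransitive G Ω 2) ∨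
    (Fintype.card Ω = Fintype.card F ^ 2 * (Fintype.card F ^ 2 + 1) ∧ ∀ α : Ω, Nat.card (MulAction.stabilizer G α) = Fintype.card F - 1) := by
  obtain ⟨f⟩ := Cfsg.Agent.Lie.Suzuki.lie_sz_equiv (m := m) hF hm
  let ψ : Cfsg.Sz F m ≃* G := f.trans e.symm
  letI : MulAction (Cfsg.Sz F m) Ω := MulAction.compHom Ω ψ.toMonoidHom
  have hsmul : ∀ (g : Cfsg.Sz F m) (w : Ω), g • w = ψ g • w := fun _ _ => rfl
  haveI : FaithfulSMul (Cfsg.Sz F m) Ω := ⟨fun {a b} h => ψ.injective (FaithfulSMul.eq_of_smul_eq_smul h)⟩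
  have htr' : MulAction.IsPretransitive (Cfsg.Sz F m) Ω := ⟨fun a b => by
    obtain ⟨g, hg⟩ := htr.exists_smul_eq a b
    exact ⟨ψ.symm g, by rw [hsmul, MulEquiv.apply_symm_apply, hg]⟩⟩
  have hfix' : ∀ g : Cfsg.Sz F m, g ≠ 1 → Nat.card (MulAction.fixedBy Ω g) ≤ 2 := fun g hg =>
    hfix (ψ g) (fun h => hg (ψ.injective (h.trans (map_one ψ).symm)))
  have hex' : ∃ g : Cfsg.Sz F m, g ≠ 1 ∧ Nat.card (MulAction.fixedBy Ω g) = 2 := by
    obtain ⟨g, hg1, hg2⟩ := hex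
    refine ⟨ψ.symm g, fun h => hg1 ?_, ?_⟩
    · rw [← ψ.apply_symm_apply g, h, map_one]
    · have e' : MulAction.fixedBy Ω (ψ.symm g) = MulAction.fixedBy Ω g := Set.ext fun w => by
        rw [MulAction.mem_fixedBy, MulAction.mem_fixedBy, hsmul, MulEquiv.apply_symm_apply]
      rw [e', hg2]
  rcases Cfsg.Agent.Lie.Suzuki.fixity_two hF hm htr' hfix' hex' with ⟨h1, h2⟩ | ⟨h1, h2⟩
  · refine Or.inl ⟨h1, ?_⟩
    rw [MulAction.is_two_pretransitive_iff] at h2 ⊢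
    intro a b c d hab hcd
    obtain ⟨g, ha, hb⟩ := h2 hab hcd
    exact ⟨ψ g, ha, hb⟩
  · refine Or.inr ⟨h1, fun α => ?_⟩
    rw [← h2 α]
    exact Nat.card_congr ⟨fun g => ⟨ψ.symm g.1, by
        rw [MulAction.mem_stabilizer_iff, hsmul, MulEquiv.apply_symm_apply]; exact g.2⟩,
      fun g => ⟨ψ g.1, g.2⟩, fun g => Subtype.ext (ψ.apply_symm_apply _), fun g => Subtype.ext (ψ.symm_apply_apply _)⟩

end Cfsg.Agent.S3391
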