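import Cfsg.Statements.S3399
import Cfsg.Agent.Lib.Perm.ProFix.Jump

set_option autoImplicit false
open Cfsg

namespace Cfsg.Agent.S3399

/-- Let G be a transitive permutation group of finite degree n and K a nontrivial subgroup of G that is pronormal in G (K and gKg⁻¹ are conjugate inside ⟨K, gKg⁻¹⟩ for every g ∈ G). If K fixes exactly f points, then f ≤ (n − 1)/2, that is, 2f + 1 ≤ n. -/
theorem result (n : ℕ) (G : Subgroup (Equiv.Perm (Fin n)))
    (htrans : ∀ a b : Fin n, ∃ g ∈ G, g a = b)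
    (K : Subgroup (Equiv.Perm (Fin n))) (hKG : K ≤ G) (hK : K ≠ ⊥)
    (hpro : ∀ g ∈ G, ∃ w ∈ K ⊔ K.map (MulAut.conj g).toMonoidHom,
      K.map (MulAut.conj w).toMonoidHom = K.map (MulAut.conj g).toMonoidHom) :
    2 * Nat.card {a : Fin n // ∀ k ∈ K, k a = a} + 1 ≤ n := by
  haveI : MulAction.IsPretransitive G (Fin n) := ⟨fun a b => by
    obtain ⟨g, hg, e⟩ := htrans a b
    exact ⟨⟨g, hg⟩, e⟩⟩
  have hp : Cfsg.IsPronormal (K.subgroupOf G) := fun g => by
    have e : ∀ a : G, ((K.subgroupOf G).map (MulAut.conj a).toMonoidHom).map G.subtype =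
        K.map (MulAut.conj (a : Equiv.Perm (Fin n))).toMonoidHom := fun a => by
      rw [show (K.subgroupOf G).map (MulAut.conj a).toMonoidHom =
        Cfsg.Agent.Perm.Pronormal.cj a (K.subgroupOf G) from rfl, Cfsg.Agent.Perm.Pronormal.map_cj,
        Subgroup.subgroupOf_map_subtype, inf_eq_left.2 hKG]
      rfl
    obtain ⟨w, hw, he⟩ := hpro g g.2
    have hwG : w ∈ G := sup_le hKG (Cfsg.Agent.Perm.Pronormal.cj_le_of_mem g.2 hKG) hw
    refine ⟨⟨w, hwG⟩, ?_, Subgroup.map_injective (Subgroup.subtype_injective G) ?_⟩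
    · rw [← Subgroup.mem_map_iff_mem (Subgroup.subtype_injective G) (x := (⟨w, hwG⟩ : G)),
        Subgroup.map_sup, e, Subgroup.subgroupOf_map_subtype, inf_eq_left.2 hKG]
      exact hw
    · rw [e, e]; exact he.symm
  obtain ⟨⟨k, hk⟩, hk1'⟩ := K.ne_bot_iff_exists_ne_one.1 hK
  have hk1 : k ≠ 1 := fun e => hk1' (Subtype.ext e)
  have hmoved : ∃ x : Fin n, ∃ y ∈ K.subgroupOf G, y • x ≠ x := by
    by_contra hc
    push_neg at hc
    exact hk1 (Equiv.ext fun x => hc x ⟨k, hKG hk⟩ hk)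
  have h := Cfsg.Agent.ProFix.small (Fintype.card (Fin n)) (Fin n) G (K.subgroupOf G) rfl
    inferInstance hp hmoved
  have he : Nat.card {x : Fin n // ∀ y ∈ K.subgroupOf G, y • x = x} =
      Nat.card {a : Fin n // ∀ k ∈ K, k a = a} :=
    Nat.card_congr (Equiv.subtypeEquivRight fun x =>
      ⟨fun h k hk => h ⟨k, hKG hk⟩ hk, fun h y hy => h y hy⟩)
  rw [he, Nat.card_fin] at h
  exact h

end Cfsg.Agent.S3399
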