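import Cfsg.Statements.S3706
import Cfsg.Agent.Lib.Perm.AxialDesign.OfGroup
import Cfsg.Agent.Lib.Perm.AxialDesign.Solvable
-- import your own Cfsg.Agent.* helpers here

set_option autoImplicit false
open Cfsg

namespace Cfsg.Agent.S3706

/-- Let G be a finite group acting faithfully and 2-transitively on a finite set Ω of size n, and let H be a subgroup of index n in G which is not transitive on Ω and fixes no point of Ω. Suppose H acts unfaithfully on one of its orbits: some non-identity element of H fixes every point of that orbit. Then there are an integer m ≥ 2 and a finite field F with #Ω = (#F^(m+1) − 1)/(#F − 1), and G has a normal subgroup isomorphic to PSL_{m+1}(F) whose centralizer in G is trivial (so that G lies between PSL_{m+1}(F) and its automorphism group). -/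
theorem result {G Ω : Type*} [Group G] [Finite G] [MulAction G Ω] [FaithfulSMul G Ω] [Finite Ω] (h2 : MulAction.IsMultiplyPretransitive G Ω 2) (H : Subgroup G) (hidx : H.index = Nat.card Ω) (hnt : ¬ MulAction.IsPretransitive H Ω) (hfix : ∀ a : Ω, ∃ h : H, h • a ≠ a) (hunf : ∃ a : Ω, ∃ h : H, h ≠ 1 ∧ ∀ b ∈ MulAction.orbit H a, h • b = b) : ∃ (m : ℕ) (F : Type) (_ : Field F) (_ : Fintype F), 2 ≤ m ∧ Nat.card Ω = (Fintype.card F ^ (m + 1) - 1) / (Fintype.card F - 1) ∧ ∃ N : Subgroup G, N.Normal ∧ Nonempty (N ≃* Matrix.ProjectiveSpecialLinearGroup (Fin (m + 1)) F) ∧ Subgroup.centralizer (N : Set G) = ⊥ := by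
  classical
  letI : Fintype Ω := Fintype.ofFinite Ω
  obtain ⟨a, h, hh1, hh⟩ := hunf
  obtain ⟨P⟩ := Cfsg.Agent.Perm.AxialDesign.exists_pre h2 H hidx hnt hfix a
  obtain ⟨X, q, hq, hXq, hX1, hXH, hXn, hXfix⟩ := P.exists_pgroup hfix
    (w := (h : G)) (fun e => hh1 (Subtype.ext e))
    (fun c hc => hh c (by
      obtain ⟨h', rfl⟩ := (P.memΔ c).1 hc
      exact MulAction.mem_orbit a h'))
  haveI : (X.subgroupOf H).Normal := ⟨fun x hx g => hXn g g.2 _ hx⟩
  haveI : Fact q.Prime := ⟨hq⟩
  haveI : Group.IsNilpotent X := hXq.isNilpotent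
  refine Cfsg.Agent.Perm.AxialDesign.of_solvable h2 H hidx hnt hfix (X.subgroupOf H) ?_ ?_ a ?_
  · intro e
    exact hX1 (by rw [← Subgroup.map_subgroupOf_eq_of_le hXH, e, Subgroup.map_bot])
  · exact Cfsg.Agent.Solv.isSolvable_subgroupOf hXH inferInstance
  · intro x hx
    exact hXfix _ hx a ((P.memΔ a).2 ⟨1, one_smul _ _⟩)

end Cfsg.Agent.S3706
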