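import Cfsg.Statements.S3410
import Cfsg.Agent.Lib.Perm.ElationTI.Hyperplane
import Cfsg.Agent.Lib.Spor.M24RelPairGfit
import Cfsg.Agent.S3706
import Cfsg.Agent.S0249

set_option autoImplicit false
open Cfsg

namespace Cfsg.Agent.S3410

/-- Let a finite group G act faithfully and 2-transitively on a finite set X, and let N be an abelian normal subgroup of the stabilizer of a point x which is not semiregular on the remaining points (some non-identity element of N fixes a second point). Then the generalized Fitting subgroup of G is isomorphic to PSL_n(F) for some n ≥ 3 and some finite field F. -/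
theorem result {G X : Type*} [Group G] [Finite G] [Fintype X]
    [MulAction G X] [FaithfulSMul G X] (h2 : MulAction.IsMultiplyPretransitive G X 2) (x : X)
    (N : Subgroup G) (hNle : N ≤ MulAction.stabilizer G x)
    (hNnormal : ∀ g ∈ MulAction.stabilizer G x, ∀ n ∈ N, g * n * g⁻¹ ∈ N) (hNab : IsMulCommutative N)
    (hnsr : ∃ n ∈ N, n ≠ 1 ∧ ∃ y : X, y ≠ x ∧ n • y = y) :
    ∃ (F : Type) (_ : Field F) (_ : Fintype F) (n : ℕ), 3 ≤ n ∧
      Nonempty (↥(Cfsg.generalizedFittingSubgroup G) ≃* Matrix.ProjectiveSpecialLinearGroup (Fin n) F) := by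
  classical
  obtain ⟨n, hnN, hn1, y, hyx, hny⟩ := hnsr
  rw [MulAction.is_two_pretransitive_iff] at h2
  have ho : orderOf n ≠ 1 := fun h => hn1 (orderOf_eq_one_iff.1 h)
  set p := (orderOf n).minFac with hpdef
  have hp : p.Prime := Nat.minFac_prime ho
  set n₁ := n ^ (orderOf n / p) with hn₁
  have hn₁p : n₁ ^ p = 1 := by
    rw [hn₁, ← pow_mul, Nat.div_mul_cancel (Nat.minFac_dvd _), pow_orderOf_eq_one]
  have hn₁1 : n₁ ≠ 1 := fun h => absurd
    (Nat.le_of_dvd (Nat.div_pos (Nat.minFac_le (orderOf_pos n)) hp.pos) (orderOf_dvd_of_pow_eq_one h))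
    (not_le.2 (Nat.div_lt_self (orderOf_pos n) hp.one_lt))
  have hn₁y : n₁ • y = y := MulAction.mem_stabilizer_iff.1
    (pow_mem (MulAction.mem_stabilizer_iff.2 hny : n ∈ MulAction.stabilizer G y) _)
  have hab : ∀ a ∈ N, ∀ b ∈ N, Commute a b := fun a ha b hb =>
    congrArg Subtype.val (hNab.is_comm.comm (⟨a, ha⟩ : N) ⟨b, hb⟩)
  let N₀ : Subgroup G :=
    { carrier := {g | g ∈ N ∧ g ^ p = 1}
      one_mem' := ⟨N.one_mem, one_pow _⟩
      mul_mem' := fun {a b} ha hb =>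
        ⟨N.mul_mem ha.1 hb.1, by rw [(hab a ha.1 b hb.1).mul_pow, ha.2, hb.2, one_mul]⟩
      inv_mem' := fun {a} ha => ⟨N.inv_mem ha.1, by rw [inv_pow, ha.2, inv_one]⟩ }
  have hN₀ : ∀ g : G, g • x = x → ∀ a ∈ N₀, g * a * g⁻¹ ∈ N₀ := fun g hg a ha =>
    ⟨hNnormal g (MulAction.mem_stabilizer_iff.2 hg) a ha.1,
      by rw [conj_pow, ha.2, mul_one, mul_inv_cancel]⟩
  have htr : ∀ z : X, ∃ g : G, g • x = z := fun z => by
    by_cases hz : x = z
    · exact ⟨1, by rw [one_smul, hz]⟩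
    · obtain ⟨g, hg, -⟩ := h2 (Ne.symm hyx) (Ne.symm hz)
      exact ⟨g, hg⟩
  choose c hc using htr
  let F' : X → Subgroup G := fun z => N₀.map (MulAut.conj (c z)).toMonoidHom
  have hmem : ∀ z (g : G), g ∈ F' z ↔ ∃ a ∈ N₀, c z * a * (c z)⁻¹ = g := fun z g => Iff.rfl
  have hxmem : n₁ ∈ F' x := by
    refine (hmem x n₁).2 ⟨(c x)⁻¹ * n₁ * ((c x)⁻¹)⁻¹, hN₀ _ ?_ _ ⟨pow_mem hnN _, hn₁p⟩, by group⟩
    rw [inv_smul_eq_iff, hc]
  have hconj : ∀ (g : G) (z : X), ∀ a ∈ F' z, g * a * g⁻¹ ∈ F' (g • z) := by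
    intro g z a ha
    obtain ⟨b, hb, rfl⟩ := (hmem z a).1 ha
    refine (hmem (g • z) _).2 ⟨_, hN₀ ((c (g • z))⁻¹ * g * c z) ?_ b hb, by group⟩
    rw [mul_smul, mul_smul, hc, inv_smul_eq_iff, hc]
  let C : Cfsg.Agent.Perm.ElationTI.Cfg G X :=
    { N := F'
      p := p
      hp := hp
      fix := by
        intro z a ha
        obtain ⟨b, hb, rfl⟩ := (hmem z a).1 ha
        have hbx : b • x = x := MulAction.mem_stabilizer_iff.1 (hNle hb.1)
        rw [mul_smul, mul_smul, inv_smul_eq_iff.2 (hc z).symm, hbx, hc]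
      comm := by
        intro z a ha b hb
        obtain ⟨a', ha', rfl⟩ := (hmem z a).1 ha
        obtain ⟨b', hb', rfl⟩ := (hmem z b).1 hb
        exact (hab a' ha'.1 b' hb'.1).map (MulAut.conj (c z)).toMonoidHom
      pow := by
        intro z a ha
        obtain ⟨b, hb, rfl⟩ := (hmem z a).1 ha
        rw [conj_pow, hb.2, mul_one, mul_inv_cancel]
      conj := hconj
      nsr := by
        intro z w hzw
        obtain ⟨g, hgx, hgy⟩ := h2 (Ne.symm hyx) hzw
        refine ⟨g * n₁ * g⁻¹, hgx ▸ hconj g x n₁ hxmem, ?_, ?_⟩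
        · intro h
          exact hn₁1 (by rwa [mul_inv_eq_one, mul_eq_left] at h)
        · rw [← hgy, mul_smul, mul_smul, inv_smul_smul, hn₁y]
      two := fun a b a' b' h h' => h2 h h'
      faith := fun g hg => eq_of_smul_eq_smul fun z : X => by rw [hg, one_smul] }
  obtain ⟨K, hKidx, hKnt, hKfix, hKunf⟩ := C.exists_subgroup (Ne.symm hyx)
  obtain ⟨m, F, hF, hFfin, hm, -, M, hMn, ⟨e⟩, hMc⟩ :=
    Cfsg.Agent.S3706.result (MulAction.is_two_pretransitive_iff.2 h2) K
      (by rw [hKidx, Nat.card_eq_fintype_card]) hKnt hKfix hKunf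
  haveI := hMn
  haveI : IsSimpleGroup (Matrix.ProjectiveSpecialLinearGroup (Fin (m + 1)) F) :=
    Cfsg.Agent.S0249.result (F := F) (m + 1) (by omega)
  haveI hMs : IsSimpleGroup M := e.isSimpleGroup
  have hMp : ¬ (Nat.card M).Prime := fun hpr => by
    haveI := Fact.mk hpr
    haveI : IsCyclic M := isCyclic_of_prime_card rfl
    have hle : M ≤ Subgroup.centralizer (M : Set G) := fun a ha =>
      Subgroup.mem_centralizer_iff.2 fun b hb =>
        congrArg Subtype.val (IsCyclic.commGroup.mul_comm (⟨b, hb⟩ : M) ⟨a, ha⟩)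
    rw [hMc, le_bot_iff] at hle
    subst hle
    simp [Nat.not_prime_one] at hpr
  refine ⟨F, hF, hFfin, m + 1, by omega, ?_⟩
  rw [Cfsg.Agent.Spor.M24Rel.Pair.gfit_eq M hMs hMp hMc]
  exact ⟨e⟩

end Cfsg.Agent.S3410
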