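import Cfsg.Statements.S3412
import Cfsg.Agent.Lib.Lead.CommGraph.Main
-- import your own Cfsg.Agent.* helpers here

set_option autoImplicit false
open Cfsg

namespace Cfsg.Agent.S3412

/-- Let H be a finite group whose commuting graph (vertices the non-identity elements, two joined when they commute) is isomorphic to that of PSL_3(3): there is a bijection between the non-identity elements of H and of PSL_3(3) under which two elements commute exactly when their images do. Then H ≅ PSL_3(3). -/
theorem result {H : Type*} [Group H] [Finite H]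
    (f : {h : H // h ≠ 1} ≃ {g : Matrix.ProjectiveSpecialLinearGroup (Fin 3) (ZMod 3) // g ≠ 1})
    (hf : ∀ x y : {h : H // h ≠ 1}, (x : H) * y = y * x ↔ ((f x) : Matrix.ProjectiveSpecialLinearGroup (Fin 3) (ZMod 3)) * (f y) = (f y) * (f x)) :
    Nonempty (H ≃* Matrix.ProjectiveSpecialLinearGroup (Fin 3) (ZMod 3)) := by
  classical
  let L := Matrix.ProjectiveSpecialLinearGroup (Fin 3) (ZMod 3)
  let φ := Cfsg.Agent.Lead.CommGraph.toPSL
  let e₀ : H ≃ L :=
    { toFun := fun x => if h : x = 1 then 1 else (f ⟨x, h⟩ : L)
      invFun := fun g => if h : g = 1 then 1 else (f.symm ⟨g, h⟩ : H)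
      left_inv := fun x => by
        by_cases h : x = 1
        · simp [h]
        · simp [h, (f ⟨x, h⟩).2]
      right_inv := fun g => by
        by_cases h : g = 1
        · simp [h]
        · simp [h, (f.symm ⟨g, h⟩).2] }
  have h1 : e₀ 1 = 1 := by simp [e₀]
  have hc : ∀ x y : H, Commute (e₀ x) (e₀ y) ↔ Commute x y := by
    intro x y
    by_cases hx : x = 1
    · subst hx; rw [h1]; simp
    by_cases hy : y = 1
    · subst hy; rw [h1]; simp
    have ex : e₀ x = (f ⟨x, hx⟩ : L) := dif_neg hx
    have ey : e₀ y = (f ⟨y, hy⟩ : L) := dif_neg hy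
    rw [ex, ey]
    exact (hf ⟨x, hx⟩ ⟨y, hy⟩).symm
  obtain ⟨i⟩ := Cfsg.Agent.Lead.CommGraph.iso_of_commEquiv
    (H := H) { e := e₀.trans φ.symm.toEquiv
               e_one := by simp [h1]
               comm := fun x y => by
                 refine Iff.trans ?_ (hc x y)
                 constructor
                 · intro h
                   simpa using h.map φ.toMonoidHom
                 · exact fun h => h.map φ.symm.toMonoidHom }
  exact ⟨i.trans φ⟩

end Cfsg.Agent.S3412
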