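import Cfsg.Statements.S3419
import Mathlib
import Cfsg.Agent.Lib.Lie.PrimePairs
import Cfsg.Agent.Lib.Solv.Hall
-- import your own Cfsg.Agent.* helpers here

set_option autoImplicit false
open Cfsg

namespace Cfsg.Agent.S3419

/-- Let n ≥ 5 and let G be a finite group with the same order and the same set of element orders as the alternating group of degree n. Then G is not solvable. -/
theorem result {G : Type*} [Group G] [Finite G] (n : ℕ) (hn : 5 ≤ n)
    (hcard : Nat.card G = Nat.card ↥(alternatingGroup (Fin n)))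
    (hspec : Set.range (orderOf : G → ℕ) = Set.range (orderOf : ↥(alternatingGroup (Fin n)) → ℕ)) :
    ¬ Group.IsSolvable G := by
  classical
  intro hsolv
  obtain ⟨r, s, hr, hs, hne, hlt, hr1, hr2, hs1, hs2, hd, hj⟩ : ∃ r s : ℕ, r.Prime ∧ s.Prime ∧ r ≠ s ∧ n < r + s ∧
      n < 2 * r ∧ r ≤ n ∧ 3 ≤ s ∧ s ≤ n ∧ ¬ s ∣ r - 1 ∧
      ∀ j, j ≤ (n.factorial).factorization s → s ^ j % r = 1 → j = 0 := by
    rcases lt_or_ge n 11 with h | h
    · interval_cases n
      · exact ⟨5, 3, by norm_num, by norm_num, by omega, by omega, by omega, by omega, by omega, by omega, by norm_num, fun j hj => by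
          have hv : j ≤ 2 := hj.trans (Nat.le_of_not_lt fun hv => by
            have := (Nat.Prime.pow_dvd_iff_le_factorization (by norm_num : Nat.Prime 3) (Nat.factorial_ne_zero _)).2 (show 3 ≤ _ from hv)
            norm_num [Nat.factorial] at this)
          interval_cases j <;> simp⟩
      · exact ⟨5, 3, by norm_num, by norm_num, by omega, by omega, by omega, by omega, by omega, by omega, by norm_num, fun j hj => by
          have hv : j ≤ 2 := hj.trans (Nat.le_of_not_lt fun hv => by
            have := (Nat.Prime.pow_dvd_iff_le_factorization (by norm_num : Nat.Prime 3) (Nat.factorial_ne_zero _)).2 (show 3 ≤ _ from hv)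
            norm_num [Nat.factorial] at this)
          interval_cases j <;> simp⟩
      all_goals
        refine ⟨7, 5, by norm_num, by norm_num, by omega, by omega, by omega, by omega, by omega, by omega, by norm_num, fun j hj => ?_⟩
        have hv : j ≤ 2 := hj.trans (Nat.le_of_not_lt fun hv => by
          have := (Nat.Prime.pow_dvd_iff_le_factorization (by norm_num : Nat.Prime 5) (Nat.factorial_ne_zero _)).2 (show 3 ≤ _ from hv)
          norm_num [Nat.factorial] at this)
        interval_cases j <;> simp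
    · obtain ⟨r, s, hr, hs, hsr, hns, hrn⟩ := Cfsg.Agent.Lie.PrimePairs.two_primes h
      refine ⟨r, s, hr, hs, by omega, by omega, by omega, hrn, by omega, by omega, fun hd => ?_, fun j hj hmod => ?_⟩
      · obtain ⟨k, hk⟩ := hd
        rcases (show k = 0 ∨ k = 1 ∨ 2 ≤ k by omega) with rfl | rfl | hk2
        · have := hr.two_le; omega
        · rcases hr.eq_two_or_odd with h2 | h2
          · omega
          · rcases hs.eq_two_or_odd with h3 | h3 <;> omega
        · have := Nat.mul_le_mul_left s hk2
          omega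
      · obtain ⟨-, h2⟩ := Cfsg.Agent.Lie.PrimePairs.factorization_factorial_half hs (n := n) hns (by omega)
        have : (n.factorial).factorization s < 2 := Nat.lt_of_not_le fun h' =>
          h2 ((hs.pow_dvd_iff_le_factorization (Nat.factorial_ne_zero n)).2 h')
        have hj2 : j < 2 := by omega
        interval_cases j
        · rfl
        · rw [pow_one, Nat.mod_eq_of_lt hsr] at hmod
          exact absurd hmod hs.ne_one
  haveI := Fact.mk hr
  haveI := Fact.mk hs
  obtain ⟨hrd, hr2d⟩ := Cfsg.Agent.Lie.PrimePairs.large_prime hr hr1 hr2 hn hcard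
  have hdvd : Nat.card G ∣ n.factorial := ⟨2, by rw [hcard, mul_comm, Cfsg.Agent.Lie.PrimePairs.card_alt (by omega)]⟩
  have hsd : s ∣ Nat.card G := by
    have : s ∣ 2 * Nat.card G := by
      rw [hcard, Cfsg.Agent.Lie.PrimePairs.card_alt (by omega)]; exact hs.dvd_factorial.2 hs2
    refine (hs.dvd_mul.1 this).resolve_left fun h => ?_
    have := Nat.le_of_dvd two_pos h
    omega
  let v := (Nat.card G).factorization s
  have hvle : v ≤ (n.factorial).factorization s :=
    Finsupp.le_def.1 ((Nat.factorization_le_iff_dvd Nat.card_pos.ne' (Nat.factorial_ne_zero n)).2 hdvd) s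
  have hv : 0 < v := hs.factorization_pos_of_dvd Nat.card_pos.ne' hsd
  obtain ⟨k, hk⟩ : r * s ^ v ∣ Nat.card G :=
    ((Nat.coprime_primes hr hs).2 hne |>.pow_right v).mul_dvd_of_dvd_of_dvd hrd (Nat.ordProj_dvd _ _)
  have hco : (r * s ^ v).Coprime k := by
    refine Nat.Coprime.mul_left ((hr.coprime_iff_not_dvd).2 fun h => hr2d ?_) (Nat.Coprime.pow_left v ((hs.coprime_iff_not_dvd).2 fun h => ?_))
    · obtain ⟨l, rfl⟩ := h
      exact ⟨s ^ v * l, by rw [hk]; ring⟩
    · obtain ⟨l, rfl⟩ := h
      have e : Nat.card G = s ^ (v + 1) * (r * l) := by rw [hk]; ring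
      exact Nat.pow_succ_factorization_not_dvd Nat.card_pos.ne' hs ⟨r * l, e⟩
  obtain ⟨H, hH⟩ := Cfsg.Agent.Solv.hall_exists hsolv hk hco
  obtain ⟨R⟩ := (inferInstance : Nonempty (Sylow r H))
  have hR : Nat.card R = r := by
    rw [Sylow.card_eq_multiplicity, hH, Nat.factorization_mul hr.ne_zero (pow_ne_zero _ hs.ne_zero), Finsupp.add_apply,
      hr.factorization, hs.factorization_pow, Finsupp.single_eq_same, Finsupp.single_eq_of_ne hne, add_zero, pow_one]
  have hidx : (R : Subgroup H).index = s ^ v := by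
    have := (R : Subgroup H).card_mul_index
    rw [hR, hH] at this
    exact Nat.eq_of_mul_eq_mul_left hr.pos this
  obtain ⟨j, hjv, hj'⟩ := (Nat.dvd_prime_pow hs).1 (hidx ▸ R.card_dvd_index)
  have hmod : s ^ j % r = 1 := by
    have := card_sylow_modEq_one r H
    rw [hj'] at this
    exact Eq.trans this (Nat.one_mod_eq_one.2 hr.ne_one)
  have hN : Nat.card (Sylow r H) = 1 := by rw [hj', hj j (hjv.trans hvle) hmod, pow_zero]
  haveI : Subsingleton (Sylow r H) := (Nat.card_eq_one_iff_unique.1 hN).1
  haveI hnorm := Sylow.normal_of_subsingleton R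
  obtain ⟨y, hy⟩ := exists_prime_orderOf_dvd_card' s (G := H) (hH ▸ (dvd_pow_self s hv.ne').mul_left r)
  obtain ⟨g, hg⟩ := Cfsg.Agent.Lie.PrimePairs.exists_orderOf_mul hne hd (R : Subgroup H) hR y
    (by rw [Subgroup.normalizer_eq_top]; trivial) hy
  exact Cfsg.Agent.Lie.PrimePairs.spectrum_ne_mul hr hs hne hlt hspec (g : G) (by rw [Subgroup.orderOf_coe, hg])

end Cfsg.Agent.S3419
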