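import Cfsg.Statements.S3420
import Mathlib
import Cfsg.Agent.Lib.Lie.PrimePairs
import Cfsg.Agent.Lib.Solv.Coprime
-- import your own Cfsg.Agent.* helpers here

set_option autoImplicit false
open Cfsg

namespace Cfsg.Agent.S3420

/-- Let n ≥ 11 and let G be a finite group with the same order and the same set of element orders as the alternating group of degree n. Then G has normal subgroups N < H such that H/N is a non-abelian simple group whose order is divisible by every prime p with n/2 < p ≤ n. -/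
theorem result {G : Type*} [Group G] [Finite G] (n : ℕ) (hn : 11 ≤ n)
    (hcard : Nat.card G = Nat.card ↥(alternatingGroup (Fin n)))
    (hspec : Set.range (orderOf : G → ℕ) = Set.range (orderOf : ↥(alternatingGroup (Fin n)) → ℕ)) :
    ∃ (N H : Subgroup G) (_ : N.Normal), H.Normal ∧ N < H ∧
      IsSimpleGroup (↥H ⧸ N.subgroupOf H) ∧ ¬ IsMulCommutative (↥H ⧸ N.subgroupOf H) ∧
      ∀ p : ℕ, p.Prime → n < 2 * p → p ≤ n → p ∣ Nat.card (↥H ⧸ N.subgroupOf H) := by
  classical
  obtain ⟨r, s, hr, hs, hsr, hns, hrn⟩ := Cfsg.Agent.Lie.PrimePairs.two_primes hn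
  -- large primes
  let P : Set ℕ := {p | p.Prime ∧ n < 2 * p ∧ p ≤ n}
  have hodd : ∀ p ∈ P, ∀ q ∈ P, ¬ q ∣ p - 1 := by
    rintro p ⟨hp, hp1, hp2⟩ q ⟨hq, hq1, hq2⟩ ⟨k, hk⟩
    rcases (show k = 0 ∨ k = 1 ∨ 2 ≤ k by omega) with rfl | rfl | hk2
    · have := hp.two_le; omega
    · rcases hp.eq_two_or_odd with h2 | h2
      · omega
      · rcases hq.eq_two_or_odd with h3 | h3 <;> omega
    · have := Nat.mul_le_mul_left q hk2
      omega
  have hrP : r ∈ P := ⟨hr, by omega, hrn⟩
  have hsP : s ∈ P := ⟨hs, hns, by omega⟩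
  -- Frattini: a large prime dividing a normal subgroup's index forbids another inside it
  have hfrat : ∀ p ∈ P, ∀ q ∈ P, p ≠ q → ∀ H : Subgroup G, H.Normal → p ∣ Nat.card H → q ∣ Nat.card H := by
    intro p hp q hq hpq H hHn hpH
    by_contra hqH
    haveI := Fact.mk hp.1
    haveI := Fact.mk hq.1
    obtain ⟨hpG, hp2⟩ := Cfsg.Agent.Lie.PrimePairs.large_prime hp.1 hp.2.1 hp.2.2 (by omega) hcard
    obtain ⟨hqG, -⟩ := Cfsg.Agent.Lie.PrimePairs.large_prime hq.1 hq.2.1 hq.2.2 (by omega) hcard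
    obtain ⟨R⟩ := (inferInstance : Nonempty (Sylow p H))
    have hR : Nat.card R = p := by
      rw [Sylow.card_eq_multiplicity]
      have h1 := hp.1.factorization_pos_of_dvd Nat.card_pos.ne' hpH
      have h2 : (Nat.card H).factorization p < 2 := Nat.lt_of_not_le fun h =>
        hp2 (((hp.1.pow_dvd_iff_le_factorization Nat.card_pos.ne').2 h).trans H.card_subgroup_dvd_card)
      rw [show (Nat.card H).factorization p = 1 by omega, pow_one]
    let R' := (R : Subgroup H).map H.subtype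
    have hR' : Nat.card R' = p := by rw [Subgroup.card_map_of_injective H.subtype_injective]; exact hR
    have htop : Subgroup.normalizer (R' : Set G) ⊔ H = ⊤ := Sylow.normalizer_sup_eq_top R
    have hqN : q ∣ Nat.card (Subgroup.normalizer (R' : Set G)) := by
      have := Cfsg.Agent.Solv.card_sup_mul_card_inf' H (Subgroup.normalizer (R' : Set G))
        ((Subgroup.normalizer_eq_top (H := H)).symm ▸ le_top)
      rw [sup_comm, htop, Subgroup.card_top] at this
      exact (hq.1.dvd_mul.1 (this ▸ hqG.mul_right _)).resolve_left hqH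
    obtain ⟨y, hy⟩ := exists_prime_orderOf_dvd_card' q hqN
    obtain ⟨g, hg⟩ := Cfsg.Agent.Lie.PrimePairs.exists_orderOf_mul hpq (hodd p hp q hq) R' hR' (y : G) y.2
      (by rw [Subgroup.orderOf_coe, hy])
    exact Cfsg.Agent.Lie.PrimePairs.spectrum_ne_mul hp.1 hq.1 hpq (by have := hp.2.1; have := hq.2.1; omega) hspec g hg
  have hP : ∀ H : Subgroup G, H.Normal → r ∣ Nat.card H → ∀ q ∈ P, q ∣ Nat.card H := fun H hH hrH q hq => by
    by_cases h : r = q
    · exact h ▸ hrH
    · exact hfrat r hrP q hq h H hH hrH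
  haveI := Fact.mk hr
  obtain ⟨hrG, hr2⟩ := Cfsg.Agent.Lie.PrimePairs.large_prime hr hrP.2.1 hrn (by omega) hcard
  -- the normal r'-core and a minimal normal subgroup above it
  obtain ⟨N, ⟨hN, hNr⟩, hNmax⟩ := (Set.toFinite {K : Subgroup G | K.Normal ∧ ¬ r ∣ Nat.card K}).exists_maximal
    ⟨⊥, inferInstance, by rw [Subgroup.card_bot]; exact hr.not_dvd_one⟩
  haveI := hN
  have hNtop : N < ⊤ := lt_top_iff_ne_top.2 fun h => hNr (by rw [h, Subgroup.card_top]; exact hrG)
  obtain ⟨H, ⟨hH, hNH⟩, hHmin⟩ := (Set.toFinite {K : Subgroup G | K.Normal ∧ N < K}).exists_minimal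
    ⟨⊤, inferInstance, hNtop⟩
  haveI := hH
  have hHr : r ∣ Nat.card H := by_contra fun h => hNH.not_ge (hNmax ⟨hH, h⟩ hNH.le)
  -- subgroups between
  let S : Set (Subgroup G) := {K | N ≤ K ∧ K ≤ H ∧ H ≤ Subgroup.normalizer (K : Set G)}
  have hsup : ∀ K ∈ S, ∀ L ∈ S, K ⊔ L ∈ S := fun K hK L hL =>
    ⟨hK.1.trans le_sup_left, sup_le hK.2.1 hL.2.1,
      le_trans (le_inf hK.2.2 hL.2.2) (Subgroup.normalizer_inf_normalizer_le_normalizer_sup _ _)⟩
  have hconj : ∀ K ∈ S, ∀ g : G, K.map (MulAut.conj g).toMonoidHom ∈ S := by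
    intro K hK g
    have hNg : N.map (MulAut.conj g).toMonoidHom = N := Subgroup.Normal.map_conj_eq N g
    have hHg : H.map (MulAut.conj g).toMonoidHom = H := Subgroup.Normal.map_conj_eq H g
    refine ⟨hNg ▸ Subgroup.map_mono hK.1, hHg ▸ Subgroup.map_mono hK.2.1, ?_⟩
    rw [← hHg]
    exact le_trans (Subgroup.map_mono hK.2.2) (Subgroup.le_normalizer_map _)
  have hcard' : ∀ K (g : G), Nat.card (K.map (MulAut.conj g).toMonoidHom) = Nat.card (K : Subgroup G) := fun K g =>
    Subgroup.card_map_of_injective (MulAut.conj g).injective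
  have hnormal : ∀ K : Subgroup G, (∀ g : G, K.map (MulAut.conj g).toMonoidHom ≤ K) → K.Normal := fun K h =>
    ⟨fun a ha g => h g (Subgroup.mem_map.2 ⟨a, ha, rfl⟩)⟩
  have hN' : ∀ K ∈ S, ¬ r ∣ Nat.card K → K = N := by
    intro K hK hKr
    obtain ⟨M, hKM, hM⟩ := (Set.toFinite {L | L ∈ S ∧ ¬ r ∣ Nat.card L}).exists_le_maximal ⟨hK, hKr⟩
    have hMn : M.Normal := hnormal M fun g => by
      have h1 := hconj M hM.1.1 g
      have h2 := hsup M hM.1.1 _ h1
      have h3 : ¬ r ∣ Nat.card (M ⊔ M.map (MulAut.conj g).toMonoidHom : Subgroup G) := fun h => by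
        have e := Cfsg.Agent.Solv.card_sup_mul_card_inf' M (M.map (MulAut.conj g).toMonoidHom) (h1.2.1.trans hM.1.1.2.2)
        rcases hr.dvd_mul.1 (e ▸ h.mul_right _) with h' | h'
        · exact hM.1.2 h'
        · exact hM.1.2 (hcard' M g ▸ h')
      exact le_sup_right.trans (hM.2 ⟨h2, h3⟩ le_sup_left)
    have hMN : M ≤ N := hNmax ⟨hMn, hM.1.2⟩ hM.1.1.1
    exact le_antisymm (hKM.trans hMN) hK.1
  have hS : ∀ K ∈ S, K = N ∨ K = H := by
    intro K hK
    by_cases hKr : r ∣ Nat.card K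
    · right
      obtain ⟨L, hLK, hL⟩ := (Set.toFinite {L | L ∈ S ∧ r ∣ Nat.card L}).exists_le_minimal ⟨hK, hKr⟩
      have hLn : L.Normal := hnormal L fun g => by
        have h1 := hconj L hL.1.1 g
        have hI : L ⊓ L.map (MulAut.conj g).toMonoidHom ∈ S := by
          refine ⟨le_inf hL.1.1.1 h1.1, inf_le_left.trans hL.1.1.2.1, fun x hx => Subgroup.mem_normalizer_iff.2 fun y => ?_⟩
          simp only [Subgroup.mem_inf]
          exact and_congr (Subgroup.mem_normalizer_iff.1 (hL.1.1.2.2 hx) y) (Subgroup.mem_normalizer_iff.1 (h1.2.2 hx) y)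
        by_cases hIr : r ∣ Nat.card (L ⊓ L.map (MulAut.conj g).toMonoidHom : Subgroup G)
        · exact (Subgroup.eq_of_le_of_card_ge ((hL.2 ⟨hI, hIr⟩ inf_le_left).trans inf_le_right) (hcard' L g).le).ge
        · have e := Cfsg.Agent.Solv.card_sup_mul_card_inf' L (L.map (MulAut.conj g).toMonoidHom) (h1.2.1.trans hL.1.1.2.2)
          have h4 : r ^ 2 ∣ Nat.card (L ⊔ L.map (MulAut.conj g).toMonoidHom : Subgroup G) *
              Nat.card (L ⊓ L.map (MulAut.conj g).toMonoidHom : Subgroup G) := by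
            rw [e, hcard', pow_two]; exact mul_dvd_mul hL.1.2 hL.1.2
          exact (hr2 (((Nat.Coprime.pow_left 2 ((hr.coprime_iff_not_dvd).2 hIr)).dvd_of_dvd_mul_right h4).trans
            (Subgroup.card_subgroup_dvd_card _))).elim
      have hHL : H ≤ L := hHmin ⟨hLn, lt_of_le_of_ne hL.1.1.1 (fun h => hNr (h ▸ hL.1.2))⟩ hL.1.1.2.1
      exact le_antisymm hK.2.1 (hHL.trans hLK)
    · exact Or.inl (hN' K hK hKr)
  have hidx : ∀ p ∈ P, p ∣ Nat.card (↥H ⧸ N.subgroupOf H) := by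
    intro p hp
    have hpN : ¬ p ∣ Nat.card N := fun h => by
      by_cases e : p = r
      · exact hNr (e ▸ h)
      · exact hNr (hfrat p hp r hrP e N hN h)
    have e := (N.subgroupOf H).card_eq_card_quotient_mul_card_subgroup
    rw [Nat.card_congr (Subgroup.subgroupOfEquivOfLe hNH.le).toEquiv] at e
    exact (hp.1.dvd_mul.1 (e ▸ hP H hH hHr p hp)).resolve_right hpN
  have hnt : Nontrivial (↥H ⧸ N.subgroupOf H) := Finite.one_lt_card_iff_nontrivial.1
    (lt_of_lt_of_le hr.one_lt (Nat.le_of_dvd Nat.card_pos (hidx r hrP)))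
  haveI hsimple : IsSimpleGroup (↥H ⧸ N.subgroupOf H) := by
    refine ⟨fun K' hK' => ?_⟩
    let K := (K'.comap (QuotientGroup.mk' (N.subgroupOf H))).map H.subtype
    have hKS : K ∈ S := by
      refine ⟨fun x hx => ⟨⟨x, hNH.le hx⟩, ?_, rfl⟩, Subgroup.map_subtype_le _, fun h hh => ?_⟩
      · show QuotientGroup.mk' (N.subgroupOf H) ⟨x, hNH.le hx⟩ ∈ K'
        rw [QuotientGroup.mk'_apply, (QuotientGroup.eq_one_iff _).2 (show (⟨x, hNH.le hx⟩ : H) ∈ N.subgroupOf H from hx)]
        exact K'.one_mem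
      · refine Subgroup.le_normalizer_map H.subtype ?_
        rw [Subgroup.normalizer_eq_top (H := K'.comap (QuotientGroup.mk' (N.subgroupOf H)))]
        exact Subgroup.mem_map.2 ⟨⟨h, hh⟩, trivial, rfl⟩
    rcases hS K hKS with e | e
    · left
      rw [eq_bot_iff]
      intro x hx
      obtain ⟨y, rfl⟩ := QuotientGroup.mk'_surjective _ x
      have : (y : G) ∈ N := e ▸ Subgroup.mem_map_of_mem H.subtype (Subgroup.mem_comap.2 hx)
      exact Subgroup.mem_bot.2 ((QuotientGroup.eq_one_iff _).2 (show y ∈ N.subgroupOf H from this))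
    · right
      rw [eq_top_iff]
      intro x _
      obtain ⟨y, rfl⟩ := QuotientGroup.mk'_surjective _ x
      obtain ⟨z, hz, hzy⟩ := Subgroup.mem_map.1 (e.symm ▸ y.2 : (y : G) ∈ K)
      rw [← Subtype.ext hzy]
      exact hz
  refine ⟨N, H, hN, hH, hNH, hsimple, fun hcomm => ?_, fun p hp h1 h2 => hidx p ⟨hp, h1, h2⟩⟩
  letI : CommGroup (↥H ⧸ N.subgroupOf H) := { (inferInstance : Group (↥H ⧸ N.subgroupOf H)) with mul_comm := hcomm.is_comm.comm }
  have hprime : (Nat.card (↥H ⧸ N.subgroupOf H)).Prime := IsSimpleGroup.prime_card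
  have := (Nat.prime_dvd_prime_iff_eq hr hprime).1 (hidx r hrP)
  have := (Nat.prime_dvd_prime_iff_eq hs hprime).1 (hidx s hsP)
  omega

end Cfsg.Agent.S3420
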