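import Cfsg.Statements.S3421
import Cfsg.Agent.Lib.Lead.PSLSpectrum.Odd
import Cfsg.Agent.S2475
import Cfsg.Agent.S1230
-- import your own Cfsg.Agent.* helpers here

set_option autoImplicit false
open Cfsg

namespace Cfsg.Agent.S3421

/-- Let F be a finite field with more than 3 elements. A finite group G is isomorphic to PSL(2, F) if and only if G has the same set of element orders and the same order as PSL(2, F). -/
theorem result {G : Type*} [Group G] [Finite G] {F : Type*} [Field F] [Fintype F] (hF : 3 < Fintype.card F) :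
    Nonempty (G ≃* Matrix.ProjectiveSpecialLinearGroup (Fin 2) F) ↔
      (Set.range (orderOf : G → ℕ) = Set.range (orderOf : Matrix.ProjectiveSpecialLinearGroup (Fin 2) F → ℕ) ∧
        Nat.card G = Nat.card (Matrix.ProjectiveSpecialLinearGroup (Fin 2) F)) := by
  classical
  refine ⟨fun ⟨φ⟩ => ⟨?_, Nat.card_congr φ.toEquiv⟩, fun ⟨hspec, hcard⟩ => ?_⟩
  · ext m
    constructor
    · rintro ⟨g, rfl⟩; exact ⟨φ g, φ.orderOf_eq g⟩
    · rintro ⟨g, rfl⟩; exact ⟨φ.symm g, φ.symm.orderOf_eq g⟩
  haveI := Fintype.ofFinite G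
  obtain ⟨p, hp⟩ := CharP.exists F
  haveI hpp : Fact p.Prime := ⟨CharP.char_is_prime F p⟩
  obtain ⟨f, -, hf⟩ := FiniteField.card F p
  set q := Fintype.card F with hq
  have hS := Cfsg.Agent.S2475.result (F := F) p (show 4 ≤ q by omega)
  rw [← hspec] at hS
  have hord : ∀ g : G, orderOf g ∈ Set.range (orderOf : G → ℕ) := fun g => ⟨g, rfl⟩
  have hcp := Cfsg.Agent.Classical.Dickson.card_psl F
  rw [← hcard] at hcp
  have hfinish : ∀ (K : Type) (_ : Field K) (_ : Fintype K), Fintype.card K = q →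
      Nonempty (G ≃* Matrix.ProjectiveSpecialLinearGroup (Fin 2) K) →
      Nonempty (G ≃* Matrix.ProjectiveSpecialLinearGroup (Fin 2) F) := by
    rintro K iK iKF hK ⟨φ⟩
    exact ⟨φ.trans (Cfsg.Agent.Classical.Dickson.pslCongr (FiniteField.ringEquivOfCardEq hK))⟩
  rcases hpp.out.eq_two_or_odd' with rfl | hpodd
  · -- even characteristic
    have h2 : (2 : F) = 0 := by
      have : ((2 : ℕ) : F) = 0 := CharP.cast_eq_zero F 2
      rwa [Nat.cast_ofNat] at this
    have hd : Nat.gcd 2 (q - 1) = 1 := Cfsg.Agent.Classical.Dickson.gcd_eq_one_of_even h2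
    rw [← hq, hd, mul_one] at hcp
    rw [← hq, hd, Nat.div_one, Nat.div_one] at hS
    have hkind : ∀ g : G, orderOf g ∣ 2 ∨ orderOf g ∣ q - 1 ∨ orderOf g ∣ q + 1 := fun g =>
      (Set.ext_iff.1 hS _).1 (hord g)
    have hqe : Even q := by rw [hf]; exact Nat.even_pow.2 ⟨even_two, f.ne_zero⟩
    obtain ⟨i, hi⟩ := hqe
    have hqm : Odd (q - 1) := ⟨i - 1, by omega⟩
    have hqp : Odd (q + 1) := ⟨i, by omega⟩
    obtain ⟨T⟩ := (inferInstance : Nonempty (Sylow 2 G))
    have hT : Nat.card (T : Subgroup G) = q := by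
      have hodd : ¬ 2 ∣ q ^ 2 - 1 := by
        have : q ^ 2 - 1 = (q - 1) * (q + 1) := by
          obtain ⟨y, hy⟩ := Nat.exists_eq_add_of_le (show 1 ≤ q by omega)
          rw [hy, Nat.add_sub_cancel_left, show (1 + y) ^ 2 = 1 + y * (1 + y + 1) by ring,
            Nat.add_sub_cancel_left]
        rw [this]
        exact (hqm.mul hqp).not_two_dvd_nat
      have hpow : 0 < q ^ 2 - 1 := by
        have : 4 ≤ q ^ 2 := by nlinarith
        omega
      rw [T.card_eq_multiplicity, hcp, Nat.factorization_mul (by omega) hpow.ne', Finsupp.add_apply,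
        Nat.factorization_eq_zero_of_not_dvd hodd, add_zero, hf, Nat.prime_two.factorization_pow,
        Finsupp.single_eq_same]
    have hord2 : ∀ t c : G, orderOf t = 2 → Commute c t → c ^ 2 = 1 := by
      intro t c ht hc
      rcases hkind c with h | h | h
      · exact orderOf_dvd_iff_pow_eq_one.1 h
      all_goals
        have hodd : Odd (orderOf c) := (by assumption : Odd _).of_dvd_nat h
        have hm := hc.orderOf_mul_eq_mul_orderOf_of_coprime (ht.symm ▸ Nat.coprime_two_right.2 hodd)
        rw [ht] at hm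
        rcases hkind (c * t) with h' | h' | h' <;> rw [hm] at h'
        · have h1 : orderOf c = 1 := Nat.dvd_one.1
            (Nat.dvd_of_mul_dvd_mul_right two_pos (by simpa using h'))
          rw [orderOf_eq_one_iff.1 h1, one_pow]
        · exact absurd ((dvd_mul_left 2 _).trans h') hqm.not_two_dvd_nat
        · exact absurd ((dvd_mul_left 2 _).trans h') hqp.not_two_dvd_nat
    have hnc : ¬ IsCyclic (T : Subgroup G) := by
      intro hc
      obtain ⟨g, hg⟩ := IsCyclic.exists_ofOrder_eq_natCard (α := (T : Subgroup G))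
      rw [hT, ← Subgroup.orderOf_coe] at hg
      rcases hkind g with h | h | h <;> rw [hg] at h
      · have := Nat.le_of_dvd two_pos h; omega
      · exact absurd ((show 2 ∣ q by omega).trans h) hqm.not_two_dvd_nat
      · exact absurd ((show 2 ∣ q by omega).trans h) hqp.not_two_dvd_nat
    have hnn : ¬ (T : Subgroup G).Normal := by
      intro hn
      obtain ⟨x, hx⟩ := (Set.ext_iff.1 hS (q + 1)).2 (Or.inr (Or.inr dvd_rfl))
      have hTn : Nontrivial (T : Subgroup G) := by
        rw [← Finite.one_lt_card_iff_nontrivial, hT]; omega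
      obtain ⟨a, ha⟩ := exists_ne (1 : (T : Subgroup G))
      have ha2 : orderOf (a : G) = 2 := by
        have h1 : orderOf (a : G) ∣ q := hT ▸ Subgroup.orderOf_dvd_natCard _ a.2
        rcases hkind a with h | h | h
        · refine ((Nat.dvd_prime Nat.prime_two).1 h).resolve_left fun h' => ha ?_
          exact Subtype.ext (orderOf_eq_one_iff.1 h')
        all_goals
          refine absurd (Nat.eq_one_of_dvd_coprimes ?_ h1 h) fun h' =>
            ha (Subtype.ext (orderOf_eq_one_iff.1 h'))
          rw [hf]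
          exact (Nat.coprime_two_left.2 (by first | exact (hf ▸ hqm) | exact (hf ▸ hqp))).pow_left _
      have hconj : ∀ c : Subgroup.zpowers x, (c : G) * a * (c : G)⁻¹ ∈ (T : Subgroup G) :=
        fun c => hn.conj_mem _ a.2 _
      let φ : Subgroup.zpowers x → {b : (T : Subgroup G) // b ≠ 1} := fun c =>
        ⟨⟨_, hconj c⟩, fun h => ha (Subtype.ext (conj_eq_one_iff.1 (congrArg Subtype.val h)))⟩
      have hinj : Function.Injective φ := by
        intro c d h
        have h' : (c : G) * a * (c : G)⁻¹ = (d : G) * a * (d : G)⁻¹ :=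
          congrArg (fun b : {b : (T : Subgroup G) // b ≠ 1} => ((b : (T : Subgroup G)) : G)) h
        have hc : Commute ((d : G)⁻¹ * c) (a : G) := by
          show _ = _
          calc (d : G)⁻¹ * c * a = (d : G)⁻¹ * ((c : G) * a * (c : G)⁻¹) * c := by group
            _ = a * ((d : G)⁻¹ * c) := by rw [h']; group
        have h2' := hord2 a _ ha2 hc
        have hmem : (d : G)⁻¹ * c ∈ Subgroup.zpowers x := mul_mem (inv_mem d.2) c.2
        have h3 : orderOf ((d : G)⁻¹ * c) ∣ q + 1 := by
          rw [← hx, ← Nat.card_zpowers x]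
          exact Subgroup.orderOf_dvd_natCard _ hmem
        have h4 := Nat.eq_one_of_dvd_coprimes (Nat.coprime_two_left.2 hqp)
          (orderOf_dvd_of_pow_eq_one h2') h3
        exact Subtype.ext (inv_mul_eq_one.1 (orderOf_eq_one_iff.1 h4)).symm
      have hle := Nat.card_le_card_of_injective φ hinj
      haveI := Fintype.ofFinite (T : Subgroup G)
      rw [Nat.card_zpowers, hx, Nat.card_eq_fintype_card (α := {b : (T : Subgroup G) // b ≠ 1}),
        Fintype.card_subtype_compl, Fintype.card_subtype_eq, ← Nat.card_eq_fintype_card, hT] at hle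
      omega
    obtain ⟨K, iK, iKF, hK, hiso⟩ := Cfsg.Agent.S1230.result T hnc hnn fun t ht => by
      have hsq : ∀ c ∈ Subgroup.centralizer ({t} : Set G), c ^ 2 = 1 := fun c hc =>
        hord2 t c ht (Subgroup.mem_centralizer_singleton_iff.1 hc)
      refine ⟨⟨⟨fun a b => Subtype.ext ?_⟩⟩, hsq⟩
      have inv' : ∀ c ∈ Subgroup.centralizer ({t} : Set G), c⁻¹ = c := fun c hc =>
        inv_eq_of_mul_eq_one_right (by rw [← sq, hsq c hc])
      show (a : G) * b = b * a
      rw [← inv' _ (mul_mem a.2 b.2), mul_inv_rev, inv' _ a.2, inv' _ b.2]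
    exact hfinish K iK iKF (hK.trans hT) hiso
  · -- odd characteristic
    have hp2 : p ≠ 2 := fun h => by rw [h] at hpodd; exact absurd hpodd (by decide)
    have hd : Nat.gcd 2 (q - 1) = 2 := Cfsg.Agent.Classical.Dickson.two_dvd_pred
      (Cfsg.Agent.Small.SL2C.two_ne_zero_of_char p hp2)
    obtain ⟨m, hm⟩ : Odd q := hf ▸ hpodd.pow
    rw [← hq, hd] at hcp
    rw [← hq, hd, show (q - 1) / 2 = m by omega, show (q + 1) / 2 = m + 1 by omega] at hS
    have hkind : ∀ g : G, orderOf g ∣ p ∨ orderOf g ∣ m ∨ orderOf g ∣ m + 1 := fun g =>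
      (Set.ext_iff.1 hS _).1 (hord g)
    have hcard' : Nat.card G = q * (2 * (m * (m + 1))) := by
      rw [hm, show (2 * m + 1) ^ 2 - 1 = 4 * (m * (m + 1)) from
        Nat.sub_eq_of_eq_add (by ring)] at hcp
      rw [hm]
      nlinarith
    have hexm := (Set.ext_iff.1 hS m).2 (Or.inr (Or.inl dvd_rfl))
    have hexm1 := (Set.ext_iff.1 hS (m + 1)).2 (Or.inr (Or.inr dvd_rfl))
    obtain ⟨k, e, S⟩ : ∃ k e, Lead.PSLSpectrum.Spec G p f q k e := by
      rcases Nat.even_or_odd m with he | ho
      · exact ⟨m + 1, m, hpp.out, hp2, hf, f.pos, he.add_one, by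
          obtain ⟨j, hj⟩ := he; omega, he, Or.inr ⟨by omega, rfl⟩, by rw [hcard']; ring,
          fun g => (hkind g).imp_right Or.symm, hexm1, hexm⟩
      · exact ⟨m, m + 1, hpp.out, hp2, hf, f.pos, ho, by
          obtain ⟨j, hj⟩ := ho; omega, ho.add_one, Or.inl ⟨hm, rfl⟩, by rw [hcard']; ring,
          hkind, hexm, hexm1⟩
    obtain ⟨K, iK, iKF, hK, hiso⟩ := Lead.PSLSpectrum.recognise (Lead.PSLSpectrum.facts S) S
    exact hfinish K iK iKF hK hiso

end Cfsg.Agent.S3421
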