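import Cfsg.Statements.S3427
import Cfsg.Agent.Lib.Char.GTwoSpectrum.Main

set_option autoImplicit false
open Cfsg

namespace Cfsg.Agent.S3427

/-- Let F be the field with 2 elements and let M be the Chevalley group of type G₂ over F (a non-simple group of order 12096 whose derived subgroup, of index 2, is isomorphic to PSU(3, 3)). A finite group G is isomorphic to M if and only if G has the same set of element orders and the same order as M. -/
theorem result {G : Type*} [Group G] [Finite G] {F : Type*} [Field F] [Fintype F] (hF : Fintype.card F = 2) :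
    Nonempty (G ≃* ↥(Cfsg.Lie.chevG2.group F)) ↔
      (Set.range (orderOf : G → ℕ) = Set.range (orderOf : ↥(Cfsg.Lie.chevG2.group F) → ℕ) ∧ Nat.card G = Nat.card ↥(Cfsg.Lie.chevG2.group F)) := by
  constructor
  · rintro ⟨e⟩
    refine ⟨?_, Nat.card_congr e.toEquiv⟩
    rw [← e.surjective.range_comp]
    exact congrArg Set.range (funext fun g => (e.orderOf_eq g).symm)
  · rintro ⟨hr, hc⟩
    have hcard := Cfsg.Agent.Lie.G2Two.card_G2 hF
    haveI : Finite ↥(Cfsg.Lie.chevG2.group F) := Nat.finite_of_card_ne_zero (by rw [hcard]; norm_num)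
    have hM := Cfsg.Agent.Char.GTwoSpectrum.gap_G2 hF
    have hG : Cfsg.Agent.Char.GTwoSpectrum.Gap G := fun g => by
      obtain ⟨m, hm⟩ : orderOf g ∈ Set.range (orderOf : ↥(Cfsg.Lie.chevG2.group F) → ℕ) :=
        hr ▸ ⟨g, rfl⟩
      rw [← hm]
      exact hM m
    obtain ⟨i⟩ := Cfsg.Agent.Char.GTwoSpectrum.exists_iso_aut hG (hc.trans hcard)
    obtain ⟨j⟩ := Cfsg.Agent.Char.GTwoSpectrum.exists_iso_aut hM hcard
    exact ⟨i.trans j.symm⟩

end Cfsg.Agent.S3427
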