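import Cfsg.Agent.Lib.Perm.PrimitivePart

set_option autoImplicit false
open Cfsg

namespace Cfsg.Agent.S3430

/-- Let q, n ≥ 2 be integers. Unless (n = 2 and q + 1 = 2^s·3^t for some s ≥ 0 and t ≤ 1), or (q = 2 and n ∈ {4, 6, 10, 12, 18}), or (q = 3 and n ∈ {4, 6}), or (q, n) = (5, 6), there is a prime p dividing q^n − 1 but no q^i − 1 with 1 ≤ i < n (a primitive prime divisor), such that p > n + 1 or p² divides q^n − 1. -/
theorem result (q n : ℕ) (hq : 2 ≤ q) (hn : 2 ≤ n)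
    (h1 : ¬ (n = 2 ∧ ∃ s t : ℕ, t ≤ 1 ∧ q + 1 = 2 ^ s * 3 ^ t))
    (h2 : ¬ (q = 2 ∧ (n = 4 ∨ n = 6 ∨ n = 10 ∨ n = 12 ∨ n = 18)))
    (h3 : ¬ (q = 3 ∧ (n = 4 ∨ n = 6))) (h4 : ¬ (q = 5 ∧ n = 6)) :
    ∃ p : ℕ, p.Prime ∧ p ∣ q ^ n - 1 ∧ (∀ i : ℕ, 1 ≤ i → i < n → ¬ p ∣ q ^ i - 1) ∧ (n + 1 < p ∨ p ^ 2 ∣ q ^ n - 1) := by
  rcases Nat.eq_or_lt_of_le hn with rfl | hn3
  · have h3 : ∀ p : ℕ, p.Prime → p ∣ q + 1 → p ≠ 2 → ¬ p ∣ q ^ 1 - 1 := by
      intro p hp hpd hp2 hd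
      rw [pow_one] at hd
      have h := Nat.dvd_sub hpd hd
      rw [show q + 1 - (q - 1) = 2 by omega] at h
      exact hp2 ((Nat.prime_dvd_prime_iff_eq hp Nat.prime_two).1 h)
    have hfac : q ^ 2 - 1 = (q + 1) * (q - 1) := by simpa using Nat.sq_sub_sq q 1
    have hall : ∀ p : ℕ, p.Prime → p ∣ q + 1 → p ≠ 2 → (3 < p ∨ p ^ 2 ∣ q + 1) →
        ∃ p : ℕ, p.Prime ∧ p ∣ q ^ 2 - 1 ∧ (∀ i : ℕ, 1 ≤ i → i < 2 → ¬ p ∣ q ^ i - 1) ∧ (2 + 1 < p ∨ p ^ 2 ∣ q ^ 2 - 1) := by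
      intro p hp hpd hp2 h
      refine ⟨p, hp, hfac ▸ hpd.mul_right _, fun i hi hi2 => ?_, h.imp_right fun h => hfac ▸ h.mul_right _⟩
      rw [show i = 1 by omega]
      exact h3 p hp hpd hp2
    obtain ⟨s, u, hu, hsu⟩ := Nat.exists_eq_pow_mul_and_not_dvd (show q + 1 ≠ 0 by omega) 2 (by norm_num)
    by_cases hbig : ∃ p : ℕ, p.Prime ∧ 3 < p ∧ p ∣ q + 1
    · obtain ⟨p, hp, hp3, hpd⟩ := hbig
      exact hall p hp hpd (by omega) (Or.inl hp3)
    push Not at hbig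
    have hu0 : u ≠ 0 := fun h => hu (h ▸ dvd_zero 2)
    obtain ⟨t, w, hw, htw⟩ := Nat.exists_eq_pow_mul_and_not_dvd hu0 3 (by norm_num)
    have hw1 : w = 1 := by
      by_contra hne
      obtain ⟨p, hp, hpw⟩ := Nat.exists_prime_and_dvd hne
      have hpu : p ∣ u := htw ▸ hpw.mul_left _
      have := hp.two_le
      rcases le_or_gt p 3 with h | h
      · interval_cases p
        · exact hu hpu
        · exact hw hpw
      · exact hbig p hp h (hsu ▸ hpu.mul_left _)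
    have ht2 : 2 ≤ t := by
      by_contra h
      exact h1 ⟨rfl, s, t, by omega, by rw [hsu, htw, hw1, mul_one]⟩
    exact hall 3 Nat.prime_three (hsu ▸ (htw ▸ (dvd_pow_self 3 (by omega : t ≠ 0)).mul_right w).mul_left _) (by norm_num)
      (Or.inr (hsu ▸ (htw ▸ (pow_dvd_pow 3 ht2).mul_right w).mul_left _))
  rcases PrimPart.good (q := q) (e := n) hq with h5 | h5 | ⟨m, hm, hcop, hbig⟩
  · omega
  · simp only [PrimPart.excs, List.mem_cons, List.not_mem_nil, or_false, Prod.mk.injEq] at h5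
    rcases h5 with ⟨rfl, rfl⟩ | ⟨rfl, rfl⟩ | ⟨rfl, rfl⟩ | ⟨rfl, rfl⟩ | ⟨rfl, rfl⟩ | ⟨rfl, rfl⟩ | ⟨rfl, rfl⟩ | ⟨rfl, rfl⟩ | ⟨rfl, rfl⟩ | ⟨rfl, rfl⟩ | ⟨rfl, rfl⟩ | ⟨rfl, rfl⟩ | ⟨rfl, rfl⟩
    · exact absurd trivial fun _ => h2 ⟨rfl, by norm_num⟩
    · exact absurd trivial fun _ => h2 ⟨rfl, by norm_num⟩
    · exact absurd trivial fun _ => h2 ⟨rfl, by norm_num⟩
    · exact absurd trivial fun _ => h2 ⟨rfl, by norm_num⟩
    · exact absurd trivial fun _ => h2 ⟨rfl, by norm_num⟩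
    · exact absurd trivial fun _ => h3 ⟨rfl, by norm_num⟩
    · exact absurd trivial fun _ => h3 ⟨rfl, by norm_num⟩
    · exact absurd trivial fun _ => h4 ⟨rfl, by norm_num⟩
    · exact ⟨7, by norm_num, by decide +kernel, fun i hi hi' => by interval_cases i <;> decide +kernel, Or.inl (by norm_num)⟩
    · exact ⟨17, by norm_num, by decide +kernel, fun i hi hi' => by interval_cases i <;> decide +kernel, Or.inl (by norm_num)⟩
    · exact ⟨41, by norm_num, by decide +kernel, fun i hi hi' => by interval_cases i <;> decide +kernel, Or.inl (by norm_num)⟩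
    · exact ⟨7, by norm_num, by decide +kernel, fun i hi hi' => by interval_cases i <;> decide +kernel, Or.inl (by norm_num)⟩
    · exact ⟨13, by norm_num, by decide +kernel, fun i hi hi' => by interval_cases i <;> decide +kernel, Or.inl (by norm_num)⟩
  · have hprim : ∀ p : ℕ, p.Prime → p ∣ m → p ∣ q ^ n - 1 ∧ ∀ i : ℕ, 1 ≤ i → i < n → ¬ p ∣ q ^ i - 1 :=
      fun p hp hpm => ⟨hpm.trans hm, fun i hi hin hd => hp.ne_one
        (Nat.eq_one_of_dvd_coprimes (hcop i (Finset.mem_range.2 hin) (by omega)) hpm hd)⟩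
    have hmod : ∀ p : ℕ, p.Prime → p ∣ m → n + 1 ≤ p := by
      intro p hp hpm
      obtain ⟨hd, hall⟩ := hprim p hp hpm
      have := Fact.mk hp
      have hq1 : ∀ j, 1 ≤ q ^ j := fun j => Nat.one_le_pow _ _ (by omega)
      have h0 : (q : ZMod p) ≠ 0 := fun h0 => by
        have h := (ZMod.natCast_eq_zero_iff _ p).2 hd
        rw [Nat.cast_sub (hq1 n), Nat.cast_pow, Nat.cast_one, h0, zero_pow (by omega)] at h
        norm_num at h
      by_contra hlt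
      refine hall (p - 1) (by have := hp.two_le; omega) (by omega) ?_
      rw [← ZMod.natCast_eq_zero_iff, Nat.cast_sub (hq1 _), Nat.cast_pow, Nat.cast_one,
        ZMod.pow_card_sub_one_eq_one h0, sub_self]
    by_cases hex : ∃ p : ℕ, p.Prime ∧ p ∣ m ∧ n + 1 < p
    · obtain ⟨p, hp, hpm, hlt⟩ := hex
      exact ⟨p, hp, (hprim p hp hpm).1, (hprim p hp hpm).2, Or.inl hlt⟩
    push Not at hex
    have heq : ∀ p : ℕ, p.Prime → p ∣ m → p = n + 1 := fun p hp hpm => le_antisymm (hex p hp hpm) (hmod p hp hpm)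
    have hm0 : m ≠ 0 := by omega
    obtain ⟨p, hp, hpm⟩ := Nat.exists_prime_and_dvd (show m ≠ 1 by omega)
    obtain ⟨j, u, hu, hju⟩ := Nat.exists_eq_pow_mul_and_not_dvd hm0 p hp.ne_one
    have hu1 : u = 1 := by
      by_contra hne
      obtain ⟨s, hs, hsu⟩ := Nat.exists_prime_and_dvd hne
      exact hu ((heq s hs (hju ▸ hsu.mul_left _)).trans (heq p hp hpm).symm ▸ hsu)
    rw [hu1, mul_one] at hju
    have hj : 2 ≤ j := by
      by_contra hj
      have hp' := heq p hp hpm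
      interval_cases j <;> simp at hju <;> omega
    exact ⟨p, hp, (hprim p hp hpm).1, (hprim p hp hpm).2, Or.inr ((pow_dvd_pow p hj).trans (hju ▸ hm))⟩

end Cfsg.Agent.S3430
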