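import Cfsg.Statements.S3437
import Mathlib
import Cfsg.Agent.Lib.Lie.Frob13
-- import your own Cfsg.Agent.* helpers here

set_option autoImplicit false
open Cfsg

namespace Cfsg.Agent.S3437

/-- There is a finite solvable group with exactly the same set of element orders as the simple group PSL(3,3). -/
theorem steps : ∀ a b : ZMod 3, ∃ k ∈ ([13, 6, 8] : List ℕ),
    (Cfsg.Agent.Lie.UnitFrobenius.step a b)^[k] (1, 0, 0) = (1, 0, 0) := by decide +kernel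

/-- Witnesses. -/
def ws : List (Matrix.SpecialLinearGroup (Fin 3) (ZMod 3)) := [
    ⟨!![0, 0, 1; 0, 1, 0; 2, 0, 1], by decide⟩,
    ⟨!![0, 0, 1; 0, 2, 0; 1, 0, 1], by decide⟩,
    ⟨!![0, 0, 1; 1, 0, 0; 0, 1, 2], by decide⟩]

theorem wit_list : ∀ k ∈ ([13, 6, 8] : List ℕ), ∃ x ∈ ws, x ^ k = 1 ∧
    ∀ j < k, 0 < j → ∃ y ∈ ws, y * x ^ j ≠ x ^ j * y := by decide +kernel

theorem wit (k : ℕ) (hk : k ∈ ([13, 6, 8] : List ℕ)) : ∃ x : Matrix.SpecialLinearGroup (Fin 3) (ZMod 3), x ^ k = 1 ∧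
    ∀ j < k, 0 < j → ∃ y, y * x ^ j ≠ x ^ j * y := by
  obtain ⟨x, -, h1, h2⟩ := wit_list k hk
  exact ⟨x, h1, fun j hj hj0 => let ⟨y, _, hy⟩ := h2 j hj hj0; ⟨y, hy⟩⟩

theorem result {F : Type*} [Field F] [Fintype F] (hF : Fintype.card F = 3) :
    ∃ (H : Type) (_ : Group H) (_ : Fintype H), Group.IsSolvable H ∧
      Set.range (orderOf : H → ℕ) = Set.range (orderOf : Matrix.ProjectiveSpecialLinearGroup (Fin 3) F → ℕ) := by
  classical
  haveI : Fact (Nat.Prime 3) := ⟨by norm_num⟩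
  haveI : CharP F 3 := charP_of_card_eq_prime hF
  let φ : ZMod 3 →+* F := ZMod.castHom dvd_rfl F
  have hinj : Function.Injective φ := φ.injective
  have hsur : Function.Surjective φ :=
    ((Fintype.bijective_iff_injective_and_card φ).2 ⟨hinj, by rw [ZMod.card, hF]⟩).2
  let Φ : Matrix.SpecialLinearGroup (Fin 3) (ZMod 3) →* Matrix.SpecialLinearGroup (Fin 3) F := Matrix.SpecialLinearGroup.map φ
  have hΦ : Function.Injective Φ := fun a b h => Subtype.ext (Matrix.map_injective hinj (congrArg Subtype.val h))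
  obtain ⟨H, iH, fH, hs, hr⟩ := Cfsg.Agent.Lie.Frob13.exists_solvable
  refine ⟨H, iH, fH, hs, hr.trans (Eq.symm ?_)⟩
  rw [show ({m : ℕ | ∃ k ∈ ([13, 6, 8] : List ℕ), m ∣ k}) = {m | ∃ k ∈ ([13, 6, 8] : List ℕ), m ∣ k} from rfl]
  refine Cfsg.Agent.Lie.UnitFrobenius.spectrum_eq _ (fun g => ?_) (fun k hk => ?_) (by decide)
  · obtain ⟨M, rfl⟩ := QuotientGroup.mk_surjective g
    obtain ⟨a, ha⟩ := hsur (M : Matrix (Fin 3) (Fin 3) F).trace
    obtain ⟨b, hb⟩ := hsur (M : Matrix (Fin 3) (Fin 3) F).adjugate.trace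
    obtain ⟨k, hk, h⟩ := steps a b
    refine ⟨k, hk, ?_⟩
    have hM : M ^ k = 1 := Subtype.ext (by
      rw [Matrix.SpecialLinearGroup.coe_pow, Cfsg.Agent.Lie.UnitFrobenius.pow_eq_one_of_step φ _ M.2 ha hb h,
        Matrix.SpecialLinearGroup.coe_one])
    rw [← QuotientGroup.mk_pow, hM, QuotientGroup.mk_one]
  · obtain ⟨x, hx1, hxj⟩ := wit k hk
    refine ⟨QuotientGroup.mk (Φ x), Cfsg.Agent.Lie.UnitFrobenius.orderOf_mk_center (Φ x) ?_ (by rw [← map_pow, hx1, map_one]) fun j hj hj0 => ?_⟩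
    · exact (show ∀ k ∈ ([13, 6, 8] : List ℕ), 0 < k by decide) k hk
    · obtain ⟨y, hy⟩ := hxj j hj hj0
      exact ⟨Φ y, fun e => hy (hΦ (by rw [map_mul, map_mul, map_pow]; exact e))⟩

end Cfsg.Agent.S3437
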