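import Cfsg.Statements.S3438
import Mathlib
import Cfsg.Agent.Lib.Lie.Frob7
import Cfsg.Agent.Lib.Lie.SU3Three
-- import your own Cfsg.Agent.* helpers here

set_option autoImplicit false
open Cfsg

namespace Cfsg.Agent.S3438

/-- There is a finite solvable group with exactly the same set of element orders as the simple group PSU(3,3) (realised over the field with 9 elements). -/
theorem steps : ∀ a : Cfsg.Agent.Lie.SU3Three.R9, ∃ k ∈ ([7, 6, 8, 12] : List ℕ),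
    (Cfsg.Agent.Lie.UnitFrobenius.step a (a * a * a))^[k] (1, 0, 0) = (1, 0, 0) := by
  have h : ∀ x y : ZMod 3, ∃ k ∈ ([7, 6, 8, 12] : List ℕ),
      (Cfsg.Agent.Lie.UnitFrobenius.step (⟨x, y⟩ : Cfsg.Agent.Lie.SU3Three.R9) (⟨x, y⟩ * ⟨x, y⟩ * ⟨x, y⟩))^[k] (1, 0, 0) = (1, 0, 0) := by
    decide +kernel
  exact fun a => h a.re a.im

theorem inv_ex (a : Cfsg.Agent.Lie.SU3Three.R9) (ha : a ≠ 0) : ∃ s, a * s = 1 := by
  have h : ∀ x y : ZMod 3, (⟨x, y⟩ : Cfsg.Agent.Lie.SU3Three.R9) ≠ 0 → ∃ u v : ZMod 3,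
      (⟨x, y⟩ : Cfsg.Agent.Lie.SU3Three.R9) * ⟨u, v⟩ = 1 := by decide +kernel
  obtain ⟨u, v, huv⟩ := h a.re a.im ha
  exact ⟨_, huv⟩

/-- Witnesses. -/
def ws : List (Matrix.SpecialLinearGroup (Fin 3) Cfsg.Agent.Lie.SU3Three.R9) := [
    ⟨!![⟨1, 0⟩, ⟨0, 0⟩, ⟨0, 0⟩; ⟨0, 0⟩, ⟨2, 1⟩, ⟨2, 1⟩; ⟨0, 0⟩, ⟨1, 1⟩, ⟨2, 2⟩], by decide +kernel⟩,
    ⟨!![⟨0, 0⟩, ⟨1, 1⟩, ⟨1, 1⟩; ⟨0, 0⟩, ⟨1, 1⟩, ⟨2, 2⟩; ⟨0, 1⟩, ⟨0, 0⟩, ⟨0, 0⟩], by decide +kernel⟩,
    ⟨!![⟨0, 0⟩, ⟨0, 0⟩, ⟨1, 0⟩; ⟨0, 0⟩, ⟨0, 1⟩, ⟨0, 0⟩; ⟨0, 1⟩, ⟨0, 0⟩, ⟨0, 0⟩], by decide +kernel⟩,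
    ⟨!![⟨0, 0⟩, ⟨1, 1⟩, ⟨1, 2⟩; ⟨0, 0⟩, ⟨2, 1⟩, ⟨2, 2⟩; ⟨0, 1⟩, ⟨0, 0⟩, ⟨0, 0⟩], by decide +kernel⟩]

theorem wit_list : ∀ k ∈ ([7, 6, 8, 12] : List ℕ), ∃ x ∈ ws, x ^ k = 1 ∧
    ∀ j < k, 0 < j → ∃ y ∈ ws, y * x ^ j ≠ x ^ j * y := by decide +kernel

theorem ws_unitary : ∀ x ∈ ws, (x : Matrix (Fin 3) (Fin 3) Cfsg.Agent.Lie.SU3Three.R9).transpose *
    (x : Matrix (Fin 3) (Fin 3) Cfsg.Agent.Lie.SU3Three.R9).map (fun r => r * r * r) = 1 := by decide +kernel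

theorem result {F : Type*} [Field F] [Fintype F] (hF : Fintype.card F = 9) :
    ∃ (H : Type) (_ : Group H) (_ : Fintype H), Group.IsSolvable H ∧ Set.range (orderOf : H → ℕ) = Set.range (orderOf : Cfsg.PSU 3 F 3 → ℕ) := by
  classical
  haveI : Fact (Nat.Prime 3) := ⟨by norm_num⟩
  haveI : CharP F 3 := charP_of_card_eq_prime_pow (f := 2) (by rw [hF]; norm_num)
  obtain ⟨i, hi⟩ : IsSquare (-1 : F) := FiniteField.isSquare_neg_one_iff.2 (by rw [hF]; norm_num)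
  let c : ZMod 3 →+* F := ZMod.castHom dvd_rfl F
  have hc2 : i * i = c 2 := by
    rw [← hi, show (2 : ZMod 3) = -1 from rfl, map_neg, map_one]
  let φ : Cfsg.Agent.Lie.SU3Three.R9 →+* F :=
    { toFun := fun r => c r.re + c r.im * i
      map_one' := by show c 1 + c 0 * i = 1; simp
      map_zero' := by show c 0 + c 0 * i = 0; simp
      map_add' := fun r s => by simp; ring
      map_mul' := fun r s => by
        simp only [QuadraticAlgebra.re_mul, QuadraticAlgebra.im_mul, map_add, map_mul, map_zero, zero_mul, add_zero]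
        linear_combination -(c r.im * c s.im) * hc2 }
  have hinj : Function.Injective φ := (injective_iff_map_eq_zero φ).2 fun r hr => by
    by_contra hne
    obtain ⟨s, hs⟩ := inv_ex r hne
    simpa [hr] using (congrArg φ hs)
  have hsur : Function.Surjective φ := by
    haveI : Fintype Cfsg.Agent.Lie.SU3Three.R9 := Fintype.ofEquiv _ (QuadraticAlgebra.equivProd (2 : ZMod 3) 0).symm
    refine ((Fintype.bijective_iff_injective_and_card φ).2 ⟨hinj, ?_⟩).2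
    rw [hF, ← Fintype.card_congr (QuadraticAlgebra.equivProd (2 : ZMod 3) 0).symm, Fintype.card_prod, ZMod.card]
  let Φ : Matrix.SpecialLinearGroup (Fin 3) Cfsg.Agent.Lie.SU3Three.R9 →* Matrix.SpecialLinearGroup (Fin 3) F :=
    Matrix.SpecialLinearGroup.map φ
  have hΦ : Function.Injective Φ := fun a b h => Subtype.ext (Matrix.map_injective hinj (congrArg Subtype.val h))
  have hmem : ∀ x ∈ ws, Φ x ∈ Cfsg.SU 3 F 3 := fun x hx => by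
    rw [Cfsg.Agent.Lie.SU3Three.mem_SU_iff]
    have h := congrArg (fun A : Matrix (Fin 3) (Fin 3) Cfsg.Agent.Lie.SU3Three.R9 => A.map φ) (ws_unitary x hx)
    simp only [Matrix.map_mul, Matrix.map_one φ (map_zero φ) (map_one φ), ← Matrix.transpose_map, Matrix.map_map] at h
    rw [show (Φ x : Matrix (Fin 3) (Fin 3) F) = (x : Matrix (Fin 3) (Fin 3) Cfsg.Agent.Lie.SU3Three.R9).map φ from rfl,
      Matrix.map_map]
    rw [show ((frobenius F 3) ∘ φ) = (φ ∘ fun r => r * r * r) from funext fun r => by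
      show (φ r) ^ 3 = φ (r * r * r)
      rw [map_mul, map_mul, pow_succ, pow_two]]
    exact h
  obtain ⟨H, iH, fH, hs, hr⟩ := Cfsg.Agent.Lie.Frob7.exists_solvable
  refine ⟨H, iH, fH, hs, hr.trans (Eq.symm ?_)⟩
  have hset : {m : ℕ | ∃ k ∈ ([7, 8, 12] : List ℕ), m ∣ k} = {m | ∃ k ∈ ([7, 6, 8, 12] : List ℕ), m ∣ k} := by
    ext m
    constructor
    · rintro ⟨k, hk, hm⟩
      exact ⟨k, (show ∀ k ∈ ([7, 8, 12] : List ℕ), k ∈ ([7, 6, 8, 12] : List ℕ) by decide) k hk, hm⟩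
    · rintro ⟨k, hk, hm⟩
      obtain ⟨k', hk', hd⟩ := (show ∀ k ∈ ([7, 6, 8, 12] : List ℕ), ∃ k' ∈ ([7, 8, 12] : List ℕ), k ∣ k' by decide) k hk
      exact ⟨k', hk', hm.trans hd⟩
  rw [hset]
  refine Cfsg.Agent.Lie.UnitFrobenius.spectrum_eq _ (fun g => ?_) (fun k hk => ?_) (by decide)
  · obtain ⟨M, rfl⟩ := QuotientGroup.mk_surjective g
    obtain ⟨a, ha⟩ := hsur ((M : Matrix.SpecialLinearGroup (Fin 3) F) : Matrix (Fin 3) (Fin 3) F).trace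
    obtain ⟨k, hk, h⟩ := steps a
    refine ⟨k, hk, ?_⟩
    have hM : M ^ k = 1 := Subtype.ext (Subtype.ext (by
      rw [SubgroupClass.coe_pow, Matrix.SpecialLinearGroup.coe_pow,
        Cfsg.Agent.Lie.UnitFrobenius.pow_eq_one_of_step φ _ (M : Matrix.SpecialLinearGroup (Fin 3) F).2 ha
          (b := a * a * a) (by rw [map_mul, map_mul, ha, Cfsg.Agent.Lie.SU3Three.adjugate_trace M.2, pow_succ, pow_two]) h,
        OneMemClass.coe_one, Matrix.SpecialLinearGroup.coe_one]))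
    rw [← QuotientGroup.mk_pow, hM, QuotientGroup.mk_one]
  · obtain ⟨x, hx, hx1, hxj⟩ := wit_list k hk
    refine ⟨QuotientGroup.mk (⟨Φ x, hmem x hx⟩ : Cfsg.SU 3 F 3), Cfsg.Agent.Lie.UnitFrobenius.orderOf_mk_center _
      ((show ∀ k ∈ ([7, 6, 8, 12] : List ℕ), 0 < k by decide) k hk)
      (Subtype.ext (by rw [SubgroupClass.coe_pow, OneMemClass.coe_one, ← map_pow, hx1, map_one])) fun j hj hj0 => ?_⟩
    obtain ⟨y, hy', hy⟩ := hxj j hj hj0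
    refine ⟨⟨Φ y, hmem y hy'⟩, fun e => hy (hΦ ?_)⟩
    have := congrArg Subtype.val e
    simpa only [Subgroup.coe_mul, SubgroupClass.coe_pow, map_mul, map_pow] using this

end Cfsg.Agent.S3438
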