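import Cfsg.Statements.S3439
import Cfsg.Agent.Lib.Classical.SpectrumSolvable

set_option autoImplicit false
open Cfsg

namespace Cfsg.Agent.S3439

/-- There is a finite solvable group with exactly the same set of element orders as the simple group PSp(4,3). -/
theorem result {F : Type*} [Field F] [Fintype F] (hF : Fintype.card F = 3) :
    ∃ (H : Type) (_ : Group H) (_ : Fintype H), Group.IsSolvable H ∧ Set.range (orderOf : H → ℕ) = Set.range (orderOf : Cfsg.PSp 2 F → ℕ) := by
  haveI : Fact (Nat.Prime 3) := ⟨Nat.prime_three⟩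
  haveI : Fintype (GaloisField 3 4) := Fintype.ofFinite _
  have h81 : Fintype.card (GaloisField 3 4) = 81 := by
    rw [← Nat.card_eq_fintype_card, GaloisField.card 3 4 (by norm_num)]
    norm_num
  obtain ⟨h5, h9, h12⟩ := Cfsg.Agent.Classical.SpectrumSolvable.exists_orders h81
  refine ⟨Cfsg.Agent.Classical.SpectrumSolvable.Grp (GaloisField 3 4), inferInstance,
    Fintype.ofFinite _, Cfsg.Agent.Classical.SpectrumSolvable.solvable_grp h81, ?_⟩
  rw [Cfsg.Agent.Classical.SpectrumPSpFour.psp_spectrum hF,
    Cfsg.Agent.Classical.SpectrumPSpFour.range_orderOf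
      (Cfsg.Agent.Classical.SpectrumSolvable.pow_cases h81) h5 h9 h12]

end Cfsg.Agent.S3439
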