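import Cfsg.Statements.S3443
import Mathlib
-- import your own Cfsg.Agent.* helpers here

set_option autoImplicit false
open Cfsg

namespace Cfsg.Agent.S3443

/-- Let G be a finite group and V a normal elementary abelian subgroup of G (abelian of prime exponent p, possibly trivial). Then the semidirect product V ⋊ G, with G acting on V by conjugation, has exactly the same set of element orders as G. -/
theorem result {G : Type*} [Group G] [Finite G] (V : Subgroup G) [V.Normal] (p : ℕ) (hp : p.Prime)
    (hcomm : ∀ x y : V, x * y = y * x) (hexp : ∀ x : V, x ^ p = 1) :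
    Set.range (orderOf : V ⋊[MulAut.conjNormal] G → ℕ) = Set.range (orderOf : G → ℕ) := by
  have hφ : ∀ x : V ⋊[MulAut.conjNormal] G, ∀ k : ℕ,
      ((x ^ k).left : G) * (x ^ k).right = ((x.left : G) * x.right) ^ k ∧ (x ^ k).right = x.right ^ k := by
    intro x k
    induction k with
    | zero => simp
    | succ k ih =>
      refine ⟨?_, by rw [pow_succ, SemidirectProduct.mul_right, ih.2, pow_succ]⟩
      rw [pow_succ ((x.left : G) * x.right), ← ih.1, pow_succ x]
      simp [SemidirectProduct.mul_left, SemidirectProduct.mul_right, MulAut.conjNormal_apply]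
      group
  ext n
  constructor
  · rintro ⟨x, rfl⟩
    let a : G := (x.left : G) * x.right
    let b : G := x.right
    have hab : orderOf x = Nat.lcm (orderOf a) (orderOf b) := by
      refine Nat.dvd_antisymm (orderOf_dvd_of_pow_eq_one ?_) (Nat.lcm_dvd ?_ ?_)
      · have h := hφ x (Nat.lcm (orderOf a) (orderOf b))
        have ha : a ^ Nat.lcm (orderOf a) (orderOf b) = 1 :=
          orderOf_dvd_iff_pow_eq_one.1 (Nat.dvd_lcm_left _ _)
        have hb : b ^ Nat.lcm (orderOf a) (orderOf b) = 1 :=
          orderOf_dvd_iff_pow_eq_one.1 (Nat.dvd_lcm_right _ _)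
        have hr := h.2.trans hb
        have hl := h.1.trans ha
        rw [hr, mul_one] at hl
        exact SemidirectProduct.ext (Subtype.ext hl) hr
      · refine orderOf_dvd_of_pow_eq_one ?_
        rw [← (hφ x (orderOf x)).1, pow_orderOf_eq_one]
        simp
      · refine orderOf_dvd_of_pow_eq_one ?_
        rw [← (hφ x (orderOf x)).2, pow_orderOf_eq_one]
        simp
    let k := orderOf (QuotientGroup.mk b : G ⧸ V)
    have hq : (QuotientGroup.mk a : G ⧸ V) = QuotientGroup.mk b := by
      show QuotientGroup.mk' V a = QuotientGroup.mk' V b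
      rw [map_mul, show QuotientGroup.mk' V (x.left : G) = 1 from
        (QuotientGroup.eq_one_iff _).2 x.left.2, one_mul]
    have hbound : ∀ c : G, (QuotientGroup.mk c : G ⧸ V) = QuotientGroup.mk b →
        k ∣ orderOf c ∧ orderOf c ∣ k * p := by
      intro c hc
      constructor
      · show orderOf (QuotientGroup.mk b : G ⧸ V) ∣ _
        rw [← hc]
        exact orderOf_map_dvd (QuotientGroup.mk' V) c
      · refine orderOf_dvd_of_pow_eq_one ?_
        have hmem : c ^ k ∈ V := by
          rw [← QuotientGroup.eq_one_iff, QuotientGroup.mk_pow, hc, pow_orderOf_eq_one]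
        rw [pow_mul]
        exact congrArg Subtype.val (hexp ⟨_, hmem⟩)
    obtain ⟨ha1, ha2⟩ := hbound a hq
    obtain ⟨hb1, hb2⟩ := hbound b rfl
    have hk0 : 0 < k := orderOf_pos _
    have hcase : ∀ o, k ∣ o → o ∣ k * p → o = k ∨ o = k * p := by
      rintro o ⟨s, rfl⟩ h2
      rcases (Nat.dvd_prime hp).1 (Nat.dvd_of_mul_dvd_mul_left hk0 h2) with rfl | rfl
      · exact Or.inl (mul_one k)
      · exact Or.inr rfl
    rcases hcase _ ha1 ha2 with h | h
    · exact ⟨b, by rw [hab, Nat.lcm_eq_right (h ▸ hb1)]⟩
    · exact ⟨a, by rw [hab, Nat.lcm_eq_left (h ▸ hb2)]⟩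
  · rintro ⟨g, rfl⟩
    exact ⟨SemidirectProduct.inr g, orderOf_injective _ SemidirectProduct.inr_injective g⟩

end Cfsg.Agent.S3443
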