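import Cfsg.Statements.S3449
import Cfsg.Agent.Lib.Small.A5Orders
-- import your own Cfsg.Agent.* helpers here

set_option autoImplicit false
open Cfsg

namespace Cfsg.Agent.S3449

/-- The direct product of three copies of the alternating group of degree 5 has exactly the same set of element orders as the cyclic group of order 30, namely the divisors of 30; in particular a direct power of a non-abelian simple group need not be determined by its element orders. -/
theorem result : Set.range (orderOf : alternatingGroup (Fin 5) × alternatingGroup (Fin 5) × alternatingGroup (Fin 5) → ℕ) =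
      Set.range (orderOf : Multiplicative (ZMod 30) → ℕ) := by
  have h : Set.range (orderOf : Multiplicative (ZMod 30) → ℕ) = {d | d ∣ 30} := by
    ext d
    constructor
    · rintro ⟨g, rfl⟩
      exact (orderOf_dvd_natCard g).trans (by simp)
    · intro hd
      refine ⟨Multiplicative.ofAdd ((30 / d : ℕ) : ZMod 30), ?_⟩
      rw [orderOf_ofAdd_eq_addOrderOf, ZMod.addOrderOf_coe _ (by norm_num),
        Nat.gcd_eq_right (Nat.div_dvd_of_dvd hd), Nat.div_div_self hd (by norm_num)]
  rw [h, Cfsg.Agent.Small.A5Orders.range_orderOf_prod, Cfsg.Agent.Small.A5Orders.range_orderOf_a5_sq,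
    Cfsg.Agent.Small.A5Orders.range_orderOf_a5]
  ext n
  simp only [Set.mem_image2, Set.mem_insert_iff, Set.mem_singleton_iff, Set.mem_setOf_eq]
  constructor
  · rintro ⟨a, (rfl | rfl | rfl | rfl), b, (rfl | rfl | rfl | rfl | rfl | rfl | rfl), rfl⟩ <;> norm_num
  · intro hn
    have hn' : n ∈ Nat.divisors 30 := Nat.mem_divisors.2 ⟨hn, by norm_num⟩
    rw [show Nat.divisors 30 = {1, 2, 3, 5, 6, 10, 15, 30} by decide] at hn'
    simp only [Finset.mem_insert, Finset.mem_singleton] at hn'
    rcases hn' with rfl | rfl | rfl | rfl | rfl | rfl | rfl | rfl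
    · exact ⟨1, by simp, 1, by simp, rfl⟩
    · exact ⟨2, by simp, 1, by simp, rfl⟩
    · exact ⟨3, by simp, 1, by simp, rfl⟩
    · exact ⟨5, by simp, 1, by simp, rfl⟩
    · exact ⟨1, by simp, 6, by simp, rfl⟩
    · exact ⟨1, by simp, 10, by simp, rfl⟩
    · exact ⟨1, by simp, 15, by simp, rfl⟩
    · exact ⟨2, by simp, 15, by simp, rfl⟩

end Cfsg.Agent.S3449
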