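import Cfsg.Statements.S3452
import Cfsg.Agent.Lib.Lead.PSL2TwoModule
import Cfsg.Agent.Lib.Lead.PGLOrders
import Cfsg.Agent.Lib.Lead.SemiSpec
import Cfsg.Agent.Lib.Lead.FpfNine
import Cfsg.Agent.Lib.Lie.FibrePower

set_option autoImplicit false
open Cfsg

namespace Cfsg.Agent.S3452


theorem range_large {F : Type*} [Field F] [Fintype F] (p : ℕ) [Fact p.Prime] [CharP F p]
    (h5 : 4 < p) (hcard : Fintype.card F = p) (N : ℕ) :
    ∃ (H : Type) (_ : Group H) (_ : Fintype H), N < Fintype.card H ∧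
      Set.range (orderOf : H → ℕ) = PGLOrders.spec p p := by
  classical
  have hp : p.Prime := Fact.out
  have hp2 : p ≠ 2 := by omega
  have hodd := Nat.odd_iff.1 (hp.odd_of_ne_two hp2)
  obtain ⟨g1, f1, hg1, hn1⟩ := TwoModule.split_norm (F := F) p hp2 hcard
  obtain ⟨g2, f2, hg2, hn2⟩ := TwoModule.nonsplit_norm (F := F) p hp2 hcard h5
  have hgcd : Nat.gcd 2 (p - 1) = 2 := Nat.gcd_eq_left (by omega)
  let P2 := Matrix.ProjectiveSpecialLinearGroup (Fin 2) F
  let V := TwoModule.Mod F p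
  have hexp : ∀ v : V, 2 • v = 0 := TwoModule.two_nsmul_eq p
  have : Finite (SemiSpec.Semi P2 V) := SemiSpec.finite_semi _ _
  have : Nontrivial V := ⟨⟨f1, 0, fun h => hn1 (by simp [h])⟩⟩
  have := SemiSpec.base_normal P2 V
  obtain ⟨H, i1, i2, h1, h2⟩ := Cfsg.Agent.Lie.exists_large_isospectral (SemiSpec.base P2 V)
    (SemiSpec.base_ne_bot P2 V) Nat.prime_two (SemiSpec.base_pow P2 V hexp) N
  refine ⟨H, i1, i2, h1, h2.trans (Set.eq_of_subset_of_subset ?_ ?_)⟩
  · rintro m ⟨x, rfl⟩
    have hd := SemiSpec.orderOf_dvd_mul hexp x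
    have ho := Cfsg.Agent.Small.SL2C.orderOf_dvd p (x.right : P2)
    rw [hcard, hgcd] at ho
    rcases ho with h | h | h
    · rcases (Nat.dvd_prime hp).1 h with h | h
      · rw [h, mul_one] at hd
        exact Or.inr (Or.inl (hd.trans (by omega)))
      · rw [SemiSpec.orderOf_eq_of_fpf x (fun v hv => TwoModule.fixed_eq_zero p hp2 _ h v hv)]
        exact Or.inl h.dvd
    · exact Or.inr (Or.inl (hd.trans ((Nat.mul_dvd_mul_left 2 h).trans
        (by rw [show 2 * ((p - 1) / 2) = p - 1 by omega]))))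
    · exact Or.inr (Or.inr (hd.trans ((Nat.mul_dvd_mul_left 2 h).trans
        (by rw [show 2 * ((p + 1) / 2) = p + 1 by omega]))))
  · rintro m (hm | hm | hm)
    · obtain ⟨u, hu⟩ := Cfsg.Agent.Small.SL2C.order_exists (F := F) p (by omega) p (Or.inl dvd_rfl)
      exact PGLOrders.exists_of_dvd ((SemiSpec.orderOf_el_zero (V := V) u).trans hu) hp.ne_zero hm
    · refine PGLOrders.exists_of_dvd ((SemiSpec.orderOf_el Nat.prime_two hexp f1 g1 hn1).trans ?_)
        (by omega) hm
      rw [hg1]; omega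
    · refine PGLOrders.exists_of_dvd ((SemiSpec.orderOf_el Nat.prime_two hexp f2 g2 hn2).trans ?_)
        (by omega) hm
      rw [hg2]; omega

theorem range_nine (N : ℕ) :
    ∃ (H : Type) (_ : Group H) (_ : Fintype H), N < Fintype.card H ∧
      Set.range (orderOf : H → ℕ) = PGLOrders.spec 3 9 := by
  classical
  have : Finite (SemiSpec.Semi ↥FpfNine.grp FpfNine.Vec) := SemiSpec.finite_semi _ _
  have := SemiSpec.base_normal ↥FpfNine.grp FpfNine.Vec
  obtain ⟨H, i1, i2, h1, h2⟩ := Cfsg.Agent.Lie.exists_large_isospectral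
    (SemiSpec.base ↥FpfNine.grp FpfNine.Vec) (SemiSpec.base_ne_bot _ _) Nat.prime_three
    (SemiSpec.base_pow _ _ FpfNine.three_nsmul) N
  refine ⟨H, i1, i2, h1, h2.trans (Set.eq_of_subset_of_subset ?_ ?_)⟩
  · rintro m ⟨x, rfl⟩
    by_cases h : x.right = 1
    · have hd := SemiSpec.orderOf_dvd_mul FpfNine.three_nsmul x
      rw [h, orderOf_one, mul_one] at hd
      exact Or.inl hd
    · rw [SemiSpec.orderOf_eq_of_fpf x (FpfNine.fpf _ h)]
      rcases FpfNine.pow_eight_or_ten x.right with e | e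
      · exact Or.inr (Or.inl (orderOf_dvd_of_pow_eq_one e))
      · exact Or.inr (Or.inr (orderOf_dvd_of_pow_eq_one e))
  · rintro m (hm | hm | hm)
    · exact PGLOrders.exists_of_dvd (SemiSpec.orderOf_el_one (H := ↥FpfNine.grp) Nat.prime_three
        FpfNine.three_nsmul (fun _ => (1 : ZMod 3)) (fun h => one_ne_zero (congrFun h 0))) (by norm_num) hm
    · obtain ⟨g, hg⟩ := FpfNine.exists_eight
      exact PGLOrders.exists_of_dvd ((SemiSpec.orderOf_el_zero (V := FpfNine.Vec) g).trans hg) (by norm_num) hm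
    · obtain ⟨g, hg⟩ := FpfNine.exists_ten
      exact PGLOrders.exists_of_dvd ((SemiSpec.orderOf_el_zero (V := FpfNine.Vec) g).trans hg) (by norm_num) hm

/-- The Klein subgroup. -/
def klein : Subgroup (Equiv.Perm (Fin 4)) where
  carrier := {g | g * g = 1 ∧ Equiv.Perm.sign g = 1}
  one_mem' := by simp
  mul_mem' {a b} ha hb :=
    (show ∀ a b : Equiv.Perm (Fin 4), a * a = 1 ∧ Equiv.Perm.sign a = 1 →
      b * b = 1 ∧ Equiv.Perm.sign b = 1 → (a * b) * (a * b) = 1 ∧ Equiv.Perm.sign (a * b) = 1 by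
        decide +kernel) a b ha hb
  inv_mem' {a} ha := ⟨by rw [← mul_inv_rev, ha.1, inv_one], by rw [Equiv.Perm.sign_inv, ha.2]⟩

theorem klein_normal : klein.Normal := by
  refine ⟨fun n hn g => ⟨?_, ?_⟩⟩
  · rw [show g * n * g⁻¹ * (g * n * g⁻¹) = g * (n * n) * g⁻¹ by group, hn.1]; group
  · rw [map_mul, map_mul, hn.2, mul_one, map_inv, mul_inv_cancel]

theorem range_three (N : ℕ) :
    ∃ (H : Type) (_ : Group H) (_ : Fintype H), N < Fintype.card H ∧
      Set.range (orderOf : H → ℕ) = PGLOrders.spec 3 3 := by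
  have := klein_normal
  have hne : klein ≠ ⊥ := fun h => by
    have : Equiv.swap (0 : Fin 4) 1 * Equiv.swap 2 3 ∈ klein := ⟨by decide, by decide⟩
    rw [h, Subgroup.mem_bot] at this
    exact absurd this (by decide)
  obtain ⟨H, i1, i2, h1, h2⟩ := Cfsg.Agent.Lie.exists_large_isospectral klein
    hne Nat.prime_two (fun x hx => by rw [pow_two]; exact hx.1) N
  refine ⟨H, i1, i2, h1, h2.trans (Set.eq_of_subset_of_subset ?_ ?_)⟩
  · rintro m ⟨x, rfl⟩
    rcases (show ∀ x : Equiv.Perm (Fin 4), x ^ 4 = 1 ∨ x ^ 3 = 1 by decide +kernel) x with e | e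
    · exact Or.inr (Or.inr (orderOf_dvd_of_pow_eq_one e))
    · exact Or.inl (orderOf_dvd_of_pow_eq_one e)
  · rintro m (hm | hm | hm)
    · exact PGLOrders.exists_of_dvd (x := Equiv.swap (0 : Fin 4) 1 * Equiv.swap 1 2)
        (orderOf_eq_prime (p := 3) (hp := ⟨Nat.prime_three⟩) (by decide) (by decide)) (by norm_num) hm
    · exact PGLOrders.exists_of_dvd (x := Equiv.swap (0 : Fin 4) 1)
        (orderOf_eq_prime (p := 2) (by decide) (by decide)) (by norm_num) hm
    · have : Fact (Nat.Prime 2) := ⟨Nat.prime_two⟩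
      exact PGLOrders.exists_of_dvd (x := Equiv.swap (0 : Fin 4) 1 * Equiv.swap 1 2 * Equiv.swap 2 3)
        (orderOf_eq_prime_pow (p := 2) (n := 1) (by decide) (by decide)) (by norm_num) hm

theorem range_perm_three (N : ℕ) :
    ∃ (H : Type) (_ : Group H) (_ : Fintype H), N < Fintype.card H ∧
      Set.range (orderOf : H → ℕ) = {m | m ∣ 2 ∨ m ∣ 3} := by
  have hne : alternatingGroup (Fin 3) ≠ ⊥ := fun h => by
    have : Equiv.swap (0 : Fin 3) 1 * Equiv.swap 1 2 ∈ alternatingGroup (Fin 3) := by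
      rw [Equiv.Perm.mem_alternatingGroup]; decide
    rw [h, Subgroup.mem_bot] at this
    exact absurd this (by decide)
  obtain ⟨H, i1, i2, h1, h2⟩ := Cfsg.Agent.Lie.exists_large_isospectral (alternatingGroup (Fin 3))
    hne Nat.prime_three (fun x hx => (show ∀ x : Equiv.Perm (Fin 3), Equiv.Perm.sign x = 1 → x ^ 3 = 1
      by decide +kernel) x (Equiv.Perm.mem_alternatingGroup.1 hx)) N
  refine ⟨H, i1, i2, h1, h2.trans (Set.eq_of_subset_of_subset ?_ ?_)⟩
  · rintro m ⟨x, rfl⟩
    exact ((show ∀ x : Equiv.Perm (Fin 3), x ^ 2 = 1 ∨ x ^ 3 = 1 by decide +kernel) x).imp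
      orderOf_dvd_of_pow_eq_one orderOf_dvd_of_pow_eq_one
  · rintro m (hm | hm)
    · exact PGLOrders.exists_of_dvd (x := Equiv.swap (0 : Fin 3) 1)
        (orderOf_eq_prime (p := 2) (by decide) (by decide)) (by norm_num) hm
    · exact PGLOrders.exists_of_dvd (x := Equiv.swap (0 : Fin 3) 1 * Equiv.swap 1 2)
        (orderOf_eq_prime (p := 3) (hp := ⟨Nat.prime_three⟩) (by decide) (by decide)) (by norm_num) hm

theorem gl_center : ∀ a : GL (Fin 2) (ZMod 2), (∀ b : GL (Fin 2) (ZMod 2), b * a = a * b) → a = 1 := by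
  decide +kernel

theorem gl_pows : ∀ a : GL (Fin 2) (ZMod 2), a ^ 2 = 1 ∨ a ^ 3 = 1 := by
  decide +kernel

theorem gl_two : ∃ a : GL (Fin 2) (ZMod 2), a ^ 2 = 1 ∧ a ≠ 1 := by decide +kernel

theorem gl_three : ∃ a : GL (Fin 2) (ZMod 2), a ^ 3 = 1 ∧ a ≠ 1 := by decide +kernel

theorem range_two {F : Type*} [Field F] [Fintype F] (hcard : Fintype.card F = 2) :
    Set.range (orderOf : Matrix.GeneralLinearGroup (Fin 2) F ⧸
      Subgroup.center (Matrix.GeneralLinearGroup (Fin 2) F) → ℕ) = {m | m ∣ 2 ∨ m ∣ 3} := by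
  let : Fact (Nat.Prime 2) := ⟨Nat.prime_two⟩
  let e : ZMod 2 ≃+* F := ZMod.ringEquivOfPrime F Nat.prime_two hcard
  let E : GL (Fin 2) (ZMod 2) ≃* GL (Fin 2) F := Units.mapEquiv e.mapMatrix.toMulEquiv
  have hz : ∀ g : GL (Fin 2) F, g ∈ Subgroup.center (GL (Fin 2) F) → g = 1 := by
    intro g hg
    obtain ⟨a, rfl⟩ := E.surjective g
    have ha : ∀ b : GL (Fin 2) (ZMod 2), b * a = a * b := fun b => E.injective (by
      rw [map_mul, map_mul]; exact Subgroup.mem_center_iff.1 hg (E b))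
    rw [gl_center a ha, map_one]
  have hinj : Function.Injective ((QuotientGroup.mk' (Subgroup.center (GL (Fin 2) F))).comp
      E.toMonoidHom) := by
    rw [injective_iff_map_eq_one]
    intro a ha
    exact E.injective ((hz _ ((QuotientGroup.eq_one_iff _).1 ha)).trans (map_one E).symm)
  have hsurj : Function.Surjective ((QuotientGroup.mk' (Subgroup.center (GL (Fin 2) F))).comp
      E.toMonoidHom) := (QuotientGroup.mk'_surjective _).comp E.surjective
  refine Set.eq_of_subset_of_subset ?_ ?_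
  · rintro m ⟨x, rfl⟩
    obtain ⟨a, rfl⟩ := hsurj x
    rw [orderOf_injective _ hinj a]
    exact (gl_pows a).imp
      orderOf_dvd_of_pow_eq_one orderOf_dvd_of_pow_eq_one
  · rintro m (hm | hm)
    · obtain ⟨a, h1, h2⟩ := gl_two
      exact PGLOrders.exists_of_dvd ((orderOf_injective _ hinj a).trans (orderOf_eq_prime h1 h2))
        (by norm_num) hm
    · obtain ⟨a, h1, h2⟩ := gl_three
      exact PGLOrders.exists_of_dvd ((orderOf_injective _ hinj a).trans
        (orderOf_eq_prime (hp := ⟨Nat.prime_three⟩) h1 h2)) (by norm_num) hm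


/-- For F a finite field whose number of elements is a prime or equals 9, the group PGL(2,F) = GL(2,F)/Z(GL(2,F)) is not determined by its set of element orders: for every bound N there is a finite group of order greater than N with exactly the same set of element orders as PGL(2,F). -/
theorem result {F : Type*} [Field F] [Fintype F] (hF : (Fintype.card F).Prime ∨ Fintype.card F = 9) (N : ℕ) :
    ∃ (H : Type) (_ : Group H) (_ : Fintype H), N < Fintype.card H ∧
      Set.range (orderOf : H → ℕ) = Set.range (orderOf : Matrix.GeneralLinearGroup (Fin 2) F ⧸ Subgroup.center (Matrix.GeneralLinearGroup (Fin 2) F) → ℕ) := by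
  rcases hF with hp | h9
  · obtain ⟨p, hcard⟩ : ∃ p, Fintype.card F = p := ⟨_, rfl⟩
    rw [hcard] at hp
    have : Fact p.Prime := ⟨hp⟩
    have : CharP F p := charP_of_card_eq_prime_pow (f := 1) (by rw [Fintype.card_eq_nat_card] at hcard; simpa using hcard)
    rcases Nat.lt_or_ge 4 p with h | h
    · rw [PGLOrders.range_eq p (by omega), hcard]
      exact range_large p h hcard N
    · have := hp.two_le
      interval_cases p
      · rw [range_two hcard]; exact range_perm_three N
      · rw [PGLOrders.range_eq 3 (by omega), hcard]; exact range_three N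
      · norm_num at hp
  · have : Fact (Nat.Prime 3) := ⟨Nat.prime_three⟩
    have : CharP F 3 := charP_of_card_eq_prime_pow (f := 2) (by rw [Fintype.card_eq_nat_card] at h9; simpa using h9)
    rw [PGLOrders.range_eq 3 (by omega), h9]
    exact range_nine N

end Cfsg.Agent.S3452
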