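import Cfsg.Statements.S3466
import Cfsg.Agent.Lib.Lead.SpFourSpectrum.ModThree
import Cfsg.Agent.S3439
import Cfsg.Agent.S3444
-- import your own Cfsg.Agent.* helpers here

set_option autoImplicit false
open Cfsg

namespace Cfsg.Agent.S3466

/-- Let F be a finite field with q ≥ 3 elements such that q is not of the form 3^(2t+1) with t ≥ 1. Then PSp(4,F) is not determined by its set of element orders, not even up to finitely many groups: for every bound N there is a finite group of order greater than N with exactly the same set of element orders as PSp(4,F). -/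
theorem result {F : Type*} [Field F] [Fintype F] (h3 : 3 ≤ Fintype.card F) (hq : ∀ t : ℕ, 1 ≤ t → Fintype.card F ≠ 3 ^ (2 * t + 1)) (N : ℕ) :
    ∃ (H : Type) (_ : Group H) (_ : Fintype H), N < Fintype.card H ∧ Set.range (orderOf : H → ℕ) = Set.range (orderOf : Cfsg.PSp 2 F → ℕ) := by
  classical
  obtain ⟨p, hp, f, hpp, hF⟩ := FiniteField.card' F
  haveI : Fact p.Prime := ⟨hpp⟩
  suffices h : ∃ (G : Type) (_ : Group G) (_ : Finite G) (K : Subgroup G), K.Normal ∧ K ≠ ⊥ ∧
      Group.IsSolvable K ∧ Set.range (orderOf : G → ℕ) = Set.range (orderOf : Cfsg.PSp 2 F → ℕ) by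
    obtain ⟨G, _, _, K, hK, hK1, hK2, hr⟩ := h
    obtain ⟨H, i1, i2, hN, hH⟩ := S3444.result (G := G) K hK1 hK2 N
    exact ⟨H, i1, i2, hN, hH.trans hr⟩
  by_cases h33 : Fintype.card F = 3
  · obtain ⟨H, i1, i2, hs, hr⟩ := S3439.result h33
    refine ⟨H, i1, Finite.of_fintype H, ⊤, inferInstance, fun h => ?_, ?_, hr⟩
    · haveI : Subsingleton H := Subgroup.subsingleton_iff.1 (subsingleton_of_bot_eq_top h.symm)
      obtain ⟨x, hx⟩ := Lead.SpFourSpectrum.psp_exists_order (F := F) p (p ^ (f : ℕ)) f rfl hF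
        (n := p * (p ^ (f : ℕ) + 1)) (Or.inr (Or.inr (Or.inr (Or.inr rfl))))
      obtain ⟨y, hy⟩ : p * (p ^ (f : ℕ) + 1) ∈ Set.range (orderOf : H → ℕ) := by
        rw [hr]; exact ⟨x, hx⟩
      rw [Subsingleton.elim y 1, orderOf_one] at hy
      have h2 := Nat.mul_le_mul (show 2 ≤ p from hpp.two_le) (show 1 ≤ p ^ (f : ℕ) + 1 by omega)
      omega
    · haveI := hs
      infer_instance
  obtain ⟨q, hqd⟩ : ∃ q, q = p ^ (f : ℕ) := ⟨_, rfl⟩
  have hrange := Lead.SpFourSpectrum.psp_range (F := F) p q f hqd (hF.trans hqd.symm)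
  let E := GaloisField p (2 * (f : ℕ))
  haveI : Fintype E := Fintype.ofFinite E
  have hf0 : 2 * (f : ℕ) ≠ 0 := Nat.mul_ne_zero two_ne_zero f.pos.ne'
  have hE : Fintype.card E = q ^ 2 := by
    rw [Fintype.card_eq_nat_card, GaloisField.card p _ hf0, hqd, ← pow_mul, Nat.mul_comm]
  rw [hrange]
  by_cases h2 : p = 2
  · obtain ⟨K, hK⟩ := Lead.SpFourSpectrum.exists_abelian_normal
      (Γ := (Lead.SpFourSpectrum.rho (E := E) p f).range)
    exact ⟨_, inferInstance, inferInstance, K, hK.1, hK.2.1, hK.2.2,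
      Lead.SpFourSpectrum.range_even p f hqd hE h2⟩
  by_cases hp3 : p = 3
  · subst hp3
    have hev : Even (f : ℕ) := by
      rcases Nat.even_or_odd (f : ℕ) with h | ⟨t, ht⟩
      · exact h
      · exfalso
        rcases Nat.eq_zero_or_pos t with rfl | h0
        · exact h33 (by rw [hF, ht]; norm_num)
        · exact hq t h0 (by rw [hF, ht])
    haveI : CharP E 3 := inferInstance
    obtain ⟨K, hK⟩ := Lead.SpFourSpectrum.exists_abelian_normal
      (Γ := (Lead.SpFourSpectrum.rhoThree (E := E) f).range)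
    exact ⟨_, inferInstance, inferInstance, K, hK.1, hK.2.1, hK.2.2,
      Lead.SpFourSpectrum.range_three f hqd hev hE⟩
  · have h5 : 5 ≤ p := by
      have := hpp.two_le
      have h4' : p ≠ 4 := fun h => absurd (h ▸ hpp) (by decide)
      omega
    obtain ⟨K, hK⟩ := Lead.SpFourSpectrum.exists_abelian_normal
      (Γ := Lead.SpFourSpectrum.outerGroup (E := E) p f hqd hE)
    exact ⟨_, inferInstance, inferInstance, K, hK.1, hK.2.1, hK.2.2,
      Lead.SpFourSpectrum.range_outer p f hqd hE h5⟩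

end Cfsg.Agent.S3466
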