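import Cfsg.Statements.S3489
import Cfsg.Agent.Lib.Lead.A10Spec

set_option autoImplicit false
open Cfsg

namespace Cfsg.Agent.S3489

open Cfsg.Agent.A10Spec

/-- The common spectrum: divisors of one of 8, 9, 10, 12, 15, 21. -/
def specA10 : Set ℕ := {n | ∃ m ∈ ([8, 9, 10, 12, 15, 21] : List ℕ), n ∣ m}

/-- The cycle types on at most ten points. -/
def types : List (Multiset ℕ) := [0, {10}, {9}, {8}, {8, 2}, {7}, {7, 3}, {7, 2}, {6}, {6, 4}, {6, 3}, {6, 2}, {6, 2, 2}, {5}, {5, 5}, {5, 4}, {5, 3}, {5, 3, 2}, {5, 2}, {5, 2, 2}, {4}, {4, 4}, {4, 4, 2}, {4, 3}, {4, 3, 3}, {4, 3, 2}, {4, 2}, {4, 2, 2}, {4, 2, 2, 2}, {3}, {3, 3}, {3, 3, 3}, {3, 3, 2}, {3, 3, 2, 2}, {3, 2}, {3, 2, 2}, {3, 2, 2, 2}, {2}, {2, 2}, {2, 2, 2}, {2, 2, 2, 2}, {2, 2, 2, 2, 2}]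

theorem types_step : ∀ m ∈ types, ∀ a ∈ List.range 11, 2 ≤ a → a + m.sum ≤ 10 → (a ::ₘ m) ∈ types := by
  decide +kernel

theorem mem_types (m : Multiset ℕ) : (∀ a ∈ m, 2 ≤ a) → m.sum ≤ 10 → m ∈ types := by
  induction m using Multiset.induction with
  | empty => intro _ _; decide +kernel
  | cons a s ih =>
    intro h2 hs
    rw [Multiset.sum_cons] at hs
    exact types_step s (ih (fun b hb => h2 b (Multiset.mem_cons_of_mem hb)) (by omega)) a
      (List.mem_range.2 (by omega)) (h2 a (Multiset.mem_cons_self a s)) hs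

theorem types_lcm : ∀ m ∈ types, Even (m.sum + Multiset.card m) →
    ∃ k ∈ ([8, 9, 10, 12, 15, 21] : List ℕ), m.lcm ∣ k := by
  decide +kernel

theorem range_subset {G : Type*} [Group G] (h : ∀ x : G, orderOf x ∈ specA10)
    (hw : ∀ m ∈ ([8, 9, 10, 12, 15, 21] : List ℕ), ∃ x : G, orderOf x = m) :
    Set.range (orderOf : G → ℕ) = specA10 := by
  refine Set.eq_of_subset_of_subset (Set.range_subset_iff.2 h) ?_
  rintro n ⟨m, hm, hn⟩
  obtain ⟨x, rfl⟩ := hw m hm
  have h0 : orderOf x ≠ 0 := by intro h0; rw [h0] at hm; simp at hm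
  refine ⟨x ^ (orderOf x / n), ?_⟩
  show orderOf (x ^ (orderOf x / n)) = n
  obtain ⟨c, hc⟩ := hn
  have hn0 : n ≠ 0 := by rintro rfl; simp [hc] at h0
  have hdiv : orderOf x / n = c := by rw [hc, Nat.mul_div_cancel_left _ (Nat.pos_of_ne_zero hn0)]
  rw [hdiv, orderOf_pow' x (by rintro rfl; simp [hc] at h0), Nat.gcd_eq_right ⟨n, by rw [hc, mul_comm]⟩]
  exact Nat.div_eq_of_eq_mul_left (Nat.pos_of_ne_zero (by rintro rfl; simp [hc] at h0)) hc

theorem spectrum_alt :
    Set.range (orderOf : alternatingGroup (Fin 10) → ℕ) = specA10 := by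
  refine range_subset (fun x => ?_) ?_
  · rw [← Subgroup.orderOf_coe, ← Equiv.Perm.lcm_cycleType]
    refine types_lcm _ (mem_types _ (fun a ha => Equiv.Perm.two_le_of_mem_cycleType ha) ?_) ?_
    · rw [Equiv.Perm.sum_cycleType]
      exact (Finset.card_le_univ _).trans (by simp)
    · have h := Equiv.Perm.mem_alternatingGroup.1 x.2
      rw [Equiv.Perm.sign_of_cycleType] at h
      rcases Nat.even_or_odd ((x : Equiv.Perm (Fin 10)).cycleType.sum +
        Multiset.card (x : Equiv.Perm (Fin 10)).cycleType) with he | ho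
      · exact he
      · rw [ho.neg_one_pow] at h
        exact absurd h (by decide)
  · have mk : ∀ (m : ℕ) (σ : Equiv.Perm (Fin 10)), 0 < m → Equiv.Perm.sign σ = 1 → σ ^ m = 1 →
        (∀ k < m, 0 < k → σ ^ k ≠ 1) → ∃ x : alternatingGroup (Fin 10), orderOf x = m :=
      fun m σ hm hs h1 h2 => ⟨⟨σ, Equiv.Perm.mem_alternatingGroup.2 hs⟩, by
        rw [← Subgroup.orderOf_coe]; exact (orderOf_eq_iff hm).2 ⟨h1, h2⟩⟩
    intro m hm
    simp only [List.mem_cons, List.not_mem_nil, or_false] at hm
    rcases hm with rfl | rfl | rfl | rfl | rfl | rfl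
    · exact mk _ (List.formPerm [0, 1, 2, 3, 4, 5, 6, 7] * List.formPerm [8, 9]) (by norm_num)
        (by decide +kernel) (by decide +kernel) (by decide +kernel)
    · exact mk _ (List.formPerm [0, 1, 2, 3, 4, 5, 6, 7, 8]) (by norm_num)
        (by decide +kernel) (by decide +kernel) (by decide +kernel)
    · exact mk _ (List.formPerm [0, 1, 2, 3, 4] * List.formPerm [5, 6] * List.formPerm [7, 8])
        (by norm_num) (by decide +kernel) (by decide +kernel) (by decide +kernel)
    · exact mk _ (List.formPerm [0, 1, 2, 3, 4, 5] * List.formPerm [6, 7, 8, 9]) (by norm_num)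
        (by decide +kernel) (by decide +kernel) (by decide +kernel)
    · exact mk _ (List.formPerm [0, 1, 2, 3, 4] * List.formPerm [5, 6, 7]) (by norm_num)
        (by decide +kernel) (by decide +kernel) (by decide +kernel)
    · exact mk _ (List.formPerm [0, 1, 2, 3, 4, 5, 6] * List.formPerm [7, 8, 9]) (by norm_num)
        (by decide +kernel) (by decide +kernel) (by decide +kernel)

/-- The central involution of `H`. -/
def zc : ↥H := ⟨gB, Subgroup.subset_closure (by simp)⟩ ^ 4

theorem zc_val : ((zc : GL (Fin 4) (ZMod 7)) : Matrix (Fin 4) (Fin 4) (ZMod 7)) = -1 := by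
  rw [zc, Subgroup.coe_pow, pow_eq_of_powA (a := 5595792263002) rfl, ← toMat_neg_one]
  congr 1

theorem zc_comm (h : ↥H) : h * zc = zc * h := by
  refine Subtype.ext (Units.ext ?_)
  simp [zc_val]

theorem zc_ne_one : zc ≠ 1 := by
  intro h
  have := zc_val
  rw [h] at this
  simp only [OneMemClass.coe_one, Units.val_one] at this
  exact absurd this (by decide +kernel)

/-- Sign-twisted functions on `H`. -/
def sgnFun : AddSubgroup (↥H → ZMod 3) where
  carrier := {f | ∀ x, f (x * zc) = -f x}
  add_mem' {f g} hf hg x := by simp only [Pi.add_apply, hf x, hg x]; ring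
  zero_mem' x := by simp
  neg_mem' {f} hf x := by simp only [Pi.neg_apply, hf x]

/-- The abelian kernel. -/
abbrev Ker (k : ℕ) : Type := (Fin k → Fin 4 → ZMod 7) × ↥sgnFun

/-- The action of `H` on the kernel. -/
def act (k : ℕ) (h : ↥H) : Ker k →+ Ker k where
  toFun n := (fun i => ((h : GL (Fin 4) (ZMod 7)) : Matrix (Fin 4) (Fin 4) (ZMod 7)).mulVec (n.1 i),
    ⟨fun x => (n.2 : ↥H → ZMod 3) (h⁻¹ * x), fun x => by
      show (n.2 : ↥H → ZMod 3) (h⁻¹ * (x * zc)) = -(n.2 : ↥H → ZMod 3) (h⁻¹ * x)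
      rw [← mul_assoc]; exact n.2.2 _⟩)
  map_zero' := by ext <;> simp
  map_add' a b := by ext <;> simp [Matrix.mulVec_add]

theorem act_one (k : ℕ) (n : Ker k) : act k 1 n = n := by
  ext <;> simp [act]

theorem act_mul (k : ℕ) (g h : ↥H) (n : Ker k) : act k (g * h) n = act k g (act k h n) := by
  ext <;> simp [act, Matrix.mulVec_mulVec, mul_assoc]

theorem act_zc (k : ℕ) (n : Ker k) : act k zc n = -n := by
  ext x
  · simp [act, zc_val, Matrix.neg_mulVec]
  · show (n.2 : ↥H → ZMod 3) (zc⁻¹ * x) = -(n.2 : ↥H → ZMod 3) x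
    have h1 := n.2.2 (zc⁻¹ * x)
    rw [mul_assoc, zc_comm, inv_mul_cancel_left] at h1
    rw [h1, neg_neg]

/-- The action as automorphisms of the multiplicative kernel. -/
def autHom (k : ℕ) : ↥H →* MulAut (Multiplicative (Ker k)) where
  toFun h :=
    { toFun := fun m => Multiplicative.ofAdd (act k h m.toAdd)
      invFun := fun m => Multiplicative.ofAdd (act k h⁻¹ m.toAdd)
      left_inv := fun m => by simp [← act_mul, act_one]
      right_inv := fun m => by simp [← act_mul, act_one]
      map_mul' := fun a b => by simp }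
  map_one' := MulEquiv.ext fun m => by simp [act_one]
  map_mul' g h := MulEquiv.ext fun m => by simp [act_mul]

/-- The groups isospectral with `A₁₀`. -/
abbrev Big (k : ℕ) : Type := Multiplicative (Ker k) ⋊[autHom k] ↥H

theorem pow_spec (k : ℕ) (x : Big k) (m : ℕ) :
    (x ^ m).right = x.right ^ m ∧
      (x ^ m).left.toAdd = ∑ i ∈ Finset.range m, act k (x.right ^ i) x.left.toAdd := by
  induction m with
  | zero => simp
  | succ m ih =>
    rw [pow_succ, SemidirectProduct.mul_right, SemidirectProduct.mul_left, ih.1, ← pow_succ,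
      Finset.sum_range_succ, ← ih.2]
    exact ⟨rfl, rfl⟩

theorem pow_eq_one_iff_spec (k : ℕ) (x : Big k) (m : ℕ) :
    x ^ m = 1 ↔ x.right ^ m = 1 ∧ ∑ i ∈ Finset.range m, act k (x.right ^ i) x.left.toAdd = 0 := by
  rw [SemidirectProduct.ext_iff, SemidirectProduct.one_left, SemidirectProduct.one_right,
    (pow_spec k x m).1, ← toAdd_eq_zero (x := (x ^ m).left), (pow_spec k x m).2, and_comm]

theorem sum_period (k : ℕ) (h : ↥H) (n : Ker k) (d : ℕ) (hd : h ^ d = 1) (j : ℕ) :
    ∑ i ∈ Finset.range (j * d), act k (h ^ i) n = j • ∑ i ∈ Finset.range d, act k (h ^ i) n := by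
  induction j with
  | zero => simp
  | succ j ih =>
    rw [Nat.succ_mul, Finset.sum_range_add, ih, succ_nsmul]
    congr 1
    refine Finset.sum_congr rfl fun i _ => ?_
    rw [pow_add, mul_comm j d, pow_mul, hd, one_pow, one_mul]

theorem left_zero (k : ℕ) (h : ↥H) (hne : h ≠ 1) (n : Ker k) (d : ℕ) (hd : h ^ d = 1) :
    (∑ i ∈ Finset.range d, act k (h ^ i) n).1 = 0 := by
  set S := ∑ i ∈ Finset.range d, act k (h ^ i) n with hS
  have hfix : act k h S = S := by
    rw [hS, map_sum]
    simp only [← act_mul, ← pow_succ']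
    have e1 := Finset.sum_range_succ (fun i => act k (h ^ i) n) d
    have e2 := Finset.sum_range_succ' (fun i => act k (h ^ i) n) d
    rw [e1] at e2
    simp only [hd, pow_zero] at e2
    exact (add_right_cancel e2).symm
  funext i
  refine (spec h h.2 fun h0 => hne (Subtype.ext h0)).1 _ ?_
  exact congrFun (congrArg Prod.fst hfix) i

theorem order_mem (k : ℕ) (x : Big k) : orderOf x ∈ specA10 := by
  have key : ∀ m : ℕ, x ^ m = 1 → ∀ M ∈ ([8, 9, 10, 12, 15, 21] : List ℕ), m ∣ M →
      orderOf x ∈ specA10 :=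
    fun m h M hM hd => ⟨M, hM, (orderOf_dvd_of_pow_eq_one h).trans hd⟩
  by_cases h1 : x.right = 1
  · refine key 21 ((pow_eq_one_iff_spec k x 21).2 ⟨by rw [h1, one_pow], ?_⟩) 21 (by simp) dvd_rfl
    simp only [h1, one_pow, act_one, Finset.sum_const, Finset.card_range]
    ext i
    · simp only [Prod.smul_fst, Pi.smul_apply, Prod.fst_zero, Pi.zero_apply, nsmul_eq_mul]
      rw [show ((21 : ℕ) : ZMod 7) = 0 by decide, zero_mul]
    · simp only [Prod.smul_snd, AddSubgroup.coe_nsmul, Pi.smul_apply, Prod.snd_zero,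
        ZeroMemClass.coe_zero, Pi.zero_apply, nsmul_eq_mul]
      rw [show ((21 : ℕ) : ZMod 3) = 0 by decide, zero_mul]
  obtain ⟨-, h3 | h5 | ⟨c, hc1, hc6, hc⟩⟩ := spec x.right x.right.2 fun h0 => h1 (Subtype.ext h0)
  · have h3' : x.right ^ 3 = 1 := Subtype.ext h3
    refine key (3 * 3) ((pow_eq_one_iff_spec k x _).2 ⟨by rw [pow_mul, h3', one_pow], ?_⟩)
      9 (by simp) (by norm_num)
    rw [sum_period k _ _ 3 h3' 3]
    ext i
    · simp [left_zero k _ h1 _ 3 h3']
    · simp only [Prod.smul_snd, AddSubgroup.coe_nsmul, Pi.smul_apply, Prod.snd_zero,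
        ZeroMemClass.coe_zero, Pi.zero_apply, nsmul_eq_mul]
      rw [show ((3 : ℕ) : ZMod 3) = 0 by decide, zero_mul]
  · have h5' : x.right ^ 5 = 1 := Subtype.ext h5
    refine key (3 * 5) ((pow_eq_one_iff_spec k x _).2 ⟨by rw [mul_comm, pow_mul, h5', one_pow], ?_⟩)
      15 (by simp) (by norm_num)
    rw [sum_period k _ _ 5 h5' 3]
    ext i
    · simp [left_zero k _ h1 _ 5 h5']
    · simp only [Prod.smul_snd, AddSubgroup.coe_nsmul, Pi.smul_apply, Prod.snd_zero,
        ZeroMemClass.coe_zero, Pi.zero_apply, nsmul_eq_mul]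
      rw [show ((3 : ℕ) : ZMod 3) = 0 by decide, zero_mul]
  · have hz : x.right ^ c = zc := Subtype.ext (Units.ext (by rw [Subgroup.coe_pow, hc, zc_val]))
    have hz2 : zc * zc = 1 := Subtype.ext (Units.ext (by simp [zc_val]))
    have hsum : x ^ (c + c) = 1 := by
      refine (pow_eq_one_iff_spec k x _).2 ⟨by rw [pow_add, hz, hz2], ?_⟩
      rw [Finset.sum_range_add]
      simp only [pow_add, hz, act_mul, act_zc]
      rw [Finset.sum_neg_distrib, add_neg_cancel]
    obtain ⟨M, hM, hd⟩ : ∃ M ∈ ([8, 9, 10, 12, 15, 21] : List ℕ), c + c ∣ M := by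
      interval_cases c <;> decide
    exact key _ hsum M hM hd

theorem exists_word {a : ℕ} (u : ↥H) (hu : ((u : GL (Fin 4) (ZMod 7)) :
      Matrix (Fin 4) (Fin 4) (ZMod 7)) = toMat (ofCode a)) (m : ℕ) (hm : 0 < m)
    (h1 : powA (ofCode a) m = ofCode 4747844002000)
    (h2 : ∀ j < m, 0 < j → toMat (powA (ofCode a) j) ≠ 1) : orderOf u = m := by
  refine (orderOf_eq_iff hm).2 ⟨Subtype.ext (Units.ext ?_), fun j hj hj0 hne => h2 j hj hj0 ?_⟩
  · rw [Subgroup.coe_pow, pow_eq_of_powA hu, h1, toMat_one]; rfl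
  · rw [← pow_eq_of_powA hu, ← Subgroup.coe_pow, hne]; rfl

theorem order_witness (k : ℕ) (hk : 0 < k) :
    ∀ m ∈ ([8, 9, 10, 12, 15, 21] : List ℕ), ∃ x : Big k, orderOf x = m := by
  classical
  let a : ↥H := ⟨gA, Subgroup.subset_closure (by simp)⟩
  let b : ↥H := ⟨gB, Subgroup.subset_closure (by simp)⟩
  have hmul : ∀ {u v : ↥H} {x y : ℕ}, ((u : GL (Fin 4) (ZMod 7)) :
      Matrix (Fin 4) (Fin 4) (ZMod 7)) = toMat (ofCode x) → ((v : GL (Fin 4) (ZMod 7)) :
      Matrix (Fin 4) (Fin 4) (ZMod 7)) = toMat (ofCode y) → ∀ {w : ℕ},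
      mulA (ofCode x) (ofCode y) = ofCode w → ((↑(u * v) : GL (Fin 4) (ZMod 7)) :
      Matrix (Fin 4) (Fin 4) (ZMod 7)) = toMat (ofCode w) := by
    intro u v x y hu hv w hw
    rw [Subgroup.coe_mul, Units.val_mul, hu, hv, ← toMat_mulA, hw]
  have ha : ((a : GL (Fin 4) (ZMod 7)) : Matrix (Fin 4) (Fin 4) (ZMod 7)) =
    toMat (ofCode 4071315766280) := rfl
  have hb : ((b : GL (Fin 4) (ZMod 7)) : Matrix (Fin 4) (Fin 4) (ZMod 7)) =
    toMat (ofCode 5595792263002) := rfl
  have o8 : orderOf b = 8 := exists_word _ hb 8 (by norm_num)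
    (by decide +kernel) (by decide +kernel)
  have o3 : orderOf ((((a * a) * a) * b) * b) = 3 := exists_word _ (hmul (hmul (hmul (hmul ha ha (w := 28487064012000) (by decide +kernel)) ha (w := 690087047720) (by decide +kernel)) hb (w := 9398208958985) (by decide +kernel)) hb (w := 14658998157058) (by decide +kernel)) 3 (by norm_num)
    (by decide +kernel) (by decide +kernel)
  have o10 : orderOf (((((a * b) * a) * b) * b) * b) = 10 := exists_word _ (hmul (hmul (hmul (hmul (hmul ha hb (w := 29373543254559) (by decide +kernel)) ha (w := 6038562863106) (by decide +kernel)) hb (w := 21393930249654) (by decide +kernel)) hb (w := 31234221385051) (by decide +kernel)) hb (w := 10753340641290) (by decide +kernel)) 10 (by norm_num)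
    (by decide +kernel) (by decide +kernel)
  have o12 : orderOf (a * b) = 12 := exists_word _ (hmul ha hb (w := 29373543254559) (by decide +kernel)) 12 (by norm_num)
    (by decide +kernel) (by decide +kernel)
  have o5 : orderOf (((((((a * a) * a) * b) * a) * b) * b) * b) = 5 := exists_word _ (hmul (hmul (hmul (hmul (hmul (hmul (hmul ha ha (w := 28487064012000) (by decide +kernel)) ha (w := 690087047720) (by decide +kernel)) hb (w := 9398208958985) (by decide +kernel)) ha (w := 32733189451238) (by decide +kernel)) hb (w := 17377822081546) (by decide +kernel)) hb (w := 6859266693749) (by decide +kernel)) hb (w := 28018411689910) (by decide +kernel)) 5 (by norm_num)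
    (by decide +kernel) (by decide +kernel)
  have plain : ∀ (h : ↥H) (m : ℕ), orderOf h = m → ∃ x : Big k, orderOf x = m :=
    fun h m hm => ⟨SemidirectProduct.inr h,
      (orderOf_injective _ SemidirectProduct.inr_injective h).trans hm⟩
  let f : ↥sgnFun := ⟨fun x => (if x = 1 then 1 else 0) - (if x = zc then 1 else 0), fun x => by
    have hz2 : zc * zc = 1 := Subtype.ext (Units.ext (by simp [zc_val]))
    have e1 : x * zc = 1 ↔ x = zc := by
      rw [mul_eq_one_iff_eq_inv, inv_eq_of_mul_eq_one_right hz2]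
    have e2 : x * zc = zc ↔ x = 1 := by simp
    simp only [e1, e2, neg_sub]⟩
  have twist : ∀ (h : ↥H) (p : ℕ), p = 3 ∨ p = 5 → orderOf h = p →
      ∃ x : Big k, x.right = h ∧ x ^ p ≠ 1 ∧ x ^ (3 * p) = 1 := by
    intro h p hp ho
    have hhp : h ^ p = 1 := by rw [← ho]; exact pow_orderOf_eq_one h
    have hne : h ≠ 1 := by rintro rfl; rw [orderOf_one] at ho; omega
    refine ⟨⟨Multiplicative.ofAdd (0, f), h⟩, rfl, ?_, ?_⟩
    · intro hc
      have h2 := ((pow_eq_one_iff_spec k _ p).1 hc).2
      have h3 := congrFun (congrArg (fun q : Ker k => (q.2 : ↥H → ZMod 3)) h2) 1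
      have hval : ∀ i ∈ Finset.range p,
          ((act k (h ^ i) (0, f)).2 : ↥H → ZMod 3) 1 = if i = 0 then 1 else 0 := by
        intro i hi
        show (if (h ^ i)⁻¹ * 1 = 1 then (1 : ZMod 3) else 0) -
          (if (h ^ i)⁻¹ * 1 = zc then 1 else 0) = _
        have hzne : (h ^ i)⁻¹ * 1 ≠ zc := by
          intro he
          have h4 : orderOf zc ∣ p := by
            rw [← he, mul_one, orderOf_inv]
            exact orderOf_dvd_of_pow_eq_one (by rw [← pow_mul, mul_comm, pow_mul, hhp, one_pow])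
          have h5 : orderOf zc ∣ 2 := orderOf_dvd_of_pow_eq_one
            (Subtype.ext (Units.ext (by simp [zc_val, sq])))
          have h6 : orderOf zc ∣ Nat.gcd p 2 := Nat.dvd_gcd h4 h5
          rcases hp with rfl | rfl <;>
            exact zc_ne_one (orderOf_eq_one_iff.1 (Nat.dvd_one.1 h6))
        rw [if_neg hzne, sub_zero]
        congr 1
        rw [mul_one, inv_eq_one, ← orderOf_dvd_iff_pow_eq_one, ho]
        exact propext ⟨fun hd => Nat.eq_zero_of_dvd_of_lt hd (Finset.mem_range.1 hi),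
          fun hd => hd ▸ dvd_zero p⟩
      simp only [toAdd_ofAdd, Prod.snd_sum,
        AddSubgroup.val_finsetSum, Finset.sum_apply] at h3
      rw [Finset.sum_congr rfl (fun i hi => hval i hi), Finset.sum_ite_eq',
        if_pos (Finset.mem_range.2 (by omega))] at h3
      exact one_ne_zero h3
    · refine (pow_eq_one_iff_spec k _ _).2 ⟨?_, ?_⟩
      · show h ^ (3 * p) = 1
        rw [mul_comm, pow_mul, hhp, one_pow]
      rw [sum_period k _ _ p hhp 3]
      ext i
      · simp [left_zero k _ hne _ p hhp]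
      · simp only [Prod.smul_snd, AddSubgroup.coe_nsmul, Pi.smul_apply, Prod.snd_zero,
          ZeroMemClass.coe_zero, Pi.zero_apply, nsmul_eq_mul]
        rw [show ((3 : ℕ) : ZMod 3) = 0 by decide, zero_mul]
  intro m hm
  simp only [List.mem_cons, List.not_mem_nil, or_false] at hm
  rcases hm with rfl | rfl | rfl | rfl | rfl | rfl
  · exact plain _ 8 o8
  · obtain ⟨x, hx, hne, h9⟩ := twist _ 3 (Or.inl rfl) o3
    have : Fact (Nat.Prime 3) := ⟨Nat.prime_three⟩
    exact ⟨x, orderOf_eq_prime_pow (n := 1) (by simpa using hne) (by simpa using h9)⟩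
  · exact plain _ 10 o10
  · exact plain _ 12 o12
  · obtain ⟨x, hx, hne, h15⟩ := twist _ 5 (Or.inr rfl) o5
    refine ⟨x, ?_⟩
    have hd := orderOf_dvd_of_pow_eq_one h15
    have h5 : 5 ∣ orderOf x := by
      have := orderOf_map_dvd (SemidirectProduct.rightHom : Big k →* ↥H) x
      rwa [show SemidirectProduct.rightHom x = x.right from rfl, hx, o5] at this
    obtain ⟨c, hc⟩ := h5
    rw [hc] at hd ⊢
    have hc3 : c ∣ 3 := (Nat.mul_dvd_mul_iff_left (by norm_num : 0 < 5)).1 (by simpa using hd)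
    rcases (Nat.dvd_prime Nat.prime_three).1 hc3 with rfl | rfl
    · rw [mul_one] at hc
      exact absurd (by rw [← hc]; exact pow_orderOf_eq_one x) hne
    · rfl
  · let v : Fin k → Fin 4 → ZMod 7 := fun _ _ => 1
    refine ⟨SemidirectProduct.inl (Multiplicative.ofAdd (v, f)), ?_⟩
    rw [orderOf_injective _ SemidirectProduct.inl_injective, orderOf_ofAdd_eq_addOrderOf, Prod.addOrderOf_mk]
    have h7 : addOrderOf v = 7 := by
      have : Fact (Nat.Prime 7) := ⟨by norm_num⟩
      refine addOrderOf_eq_prime ?_ ?_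
      · ext i j
        show (7 : ℕ) • (1 : ZMod 7) = 0
        rw [nsmul_one]; exact ZMod.natCast_self 7
      · intro h; exact one_ne_zero (congrFun (congrFun h ⟨0, hk⟩) 0)
    have h3 : addOrderOf f = 3 := by
      have : Fact (Nat.Prime 3) := ⟨Nat.prime_three⟩
      refine addOrderOf_eq_prime ?_ ?_
      · ext x
        simp only [AddSubgroup.coe_nsmul, Pi.smul_apply, ZeroMemClass.coe_zero, Pi.zero_apply,
          nsmul_eq_mul]
        rw [ZMod.natCast_self, zero_mul]
      · intro h
        have := congrFun (congrArg Subtype.val h) 1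
        simp [f, zc_ne_one.symm] at this
    rw [h7, h3]; rfl


/-- The alternating group of degree 10 is not determined by its set of element orders, not even up to finitely many groups: for every bound N there is a finite group of order greater than N with exactly the same set of element orders as the alternating group of degree 10. -/
theorem result (N : ℕ) : ∃ (H : Type) (_ : Group H) (_ : Fintype H), N < Fintype.card H ∧ Set.range (orderOf : H → ℕ) = Set.range (orderOf : alternatingGroup (Fin 10) → ℕ) := by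
  classical
  have : Finite (Big (N + 1)) := Finite.of_equiv _ SemidirectProduct.equivProd.symm
  refine ⟨Big (N + 1), inferInstance, Fintype.ofFinite _, ?_, ?_⟩
  · let emb : (Fin (N + 1) → ZMod 7) → Big (N + 1) := fun v =>
      SemidirectProduct.inl (Multiplicative.ofAdd ((fun i _ => v i), 0))
    have hinj : Function.Injective emb := by
      intro v w hvw
      have := congrArg Prod.fst (Multiplicative.ofAdd.injective
        (SemidirectProduct.inl_injective hvw))
      exact funext fun i => congrFun (congrFun this i) 0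
    let := Fintype.ofFinite (Big (N + 1))
    refine lt_of_lt_of_le ?_ (Fintype.card_le_of_injective emb hinj)
    simp only [Fintype.card_fun, ZMod.card, Fintype.card_fin]
    exact (Nat.lt_succ_self N).trans (Nat.lt_pow_self (by norm_num))
  · rw [spectrum_alt]
    exact range_subset (order_mem _) (order_witness _ N.succ_pos)

end Cfsg.Agent.S3489
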