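import Cfsg.Statements.S3493
import Cfsg.Agent.Lib.Lead.ExtremelyPrimitiveReduce

set_option autoImplicit false
open Cfsg

namespace Cfsg.Agent.S3493

/-- An extremely primitive permutation group is of affine type or almost simple. Let a finite group G act faithfully and primitively on a finite set Ω with at least two points, in such a way that every point stabilizer acts primitively on each of its own orbits in Ω (an orbit of size one counts as primitive). Then either G has a non-trivial abelian normal subgroup whose elements other than the identity fix no point (affine type), or G has a non-abelian simple normal subgroup with trivial centralizer (almost simple). -/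
theorem result {G : Type*} [Group G] [Finite G] {Ω : Type*} [Fintype Ω] [MulAction G Ω] [FaithfulSMul G Ω] (hΩ : 2 ≤ Fintype.card Ω) (hprim : MulAction.IsPreprimitive G Ω) (hep : ∀ (α : Ω) (ω : Ω), MulAction.IsPreprimitive (MulAction.stabilizer G α) (MulAction.orbit (MulAction.stabilizer G α) ω)) :
    (∃ N : Subgroup G, N.Normal ∧ N ≠ ⊥ ∧ IsMulCommutative N ∧ ∀ ω : Ω, MulAction.stabilizer N ω = ⊥) ∨ (∃ T : Subgroup G, T.Normal ∧ IsSimpleGroup T ∧ ¬ IsMulCommutative T ∧ Subgroup.centralizer (T : Set G) = ⊥) := by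
  classical
  haveI := hprim
  haveI : Nontrivial Ω := Fintype.one_lt_card_iff_nontrivial.1 hΩ
  obtain ⟨a, b, hab⟩ := exists_pair_ne Ω
  haveI : Nontrivial G := by
    obtain ⟨g, hg⟩ := MulAction.exists_smul_eq G a b
    exact ⟨g, 1, fun e => hab (by rw [← hg, e, one_smul])⟩
  obtain ⟨N, hN⟩ := Cfsg.Agent.Perm.exists_isMinNormal (G := G)
  haveI := hN.1
  haveI := Cfsg.Agent.Perm.normal_isPretransitive (Ω := Ω) N hN.2.1
  by_cases hc : IsMulCommutative N
  · exact Or.inl ⟨N, hN.1, hN.2.1, hc, fun ω =>
      Cfsg.Agent.Perm.stabilizer_eq_bot_of_isMulCommutative hc ω⟩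
  · have hne : ∀ x : Ω, MulAction.stabilizer G x ≠ ⊥ := by
      intro x hx
      refine hc ⟨⟨fun u v => Subtype.ext ?_⟩⟩
      by_cases hu : (u : G) = 1
      · simp [hu]
      have hco := MulAction.IsPreprimitive.isCoatom_stabilizer_of_isPreprimitive (G := G) x
      rw [hx] at hco
      have ht : Subgroup.zpowers (u : G) = ⊤ := hco.2 _ (bot_lt_iff_ne_bot.2 fun e =>
        hu (by simpa [Subgroup.zpowers_eq_bot] using e))
      have hv : (v : G) ∈ Subgroup.zpowers (u : G) := ht ▸ Subgroup.mem_top _
      obtain ⟨i, hi⟩ := hv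
      simpa [← hi] using ((Commute.refl (u : G)).zpow_right i).eq
    obtain ⟨hs, hcent⟩ := Cfsg.Agent.Lead.ExtPrimReduce.main
      (⟨hprim, hep, hne⟩ : Cfsg.Agent.Lie.ExtPrim.Hyp G Ω) a N hN hc
    exact Or.inr ⟨N, hN.1, hs, hc, hcent⟩

end Cfsg.Agent.S3493
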