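import Cfsg.Statements.S3494
import Mathlib
-- import your own Cfsg.Agent.* helpers here

set_option autoImplicit false
open Cfsg

namespace Cfsg.Agent.S3494

open scoped Pointwise

/-- Manning's Theorem on extremely primitive groups. Let a finite group G act faithfully and primitively on a finite set Ω with non-trivial point stabilizers, and suppose every point stabilizer G_α acts primitively on each of its orbits. Then G_α acts faithfully on each of its orbits other than {α}: an element of G_α fixing every point of one such orbit is the identity. -/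
theorem result {G : Type*} [Group G] [Finite G] {Ω : Type*} [Fintype Ω] [MulAction G Ω] [FaithfulSMul G Ω] (hprim : MulAction.IsPreprimitive G Ω) (hH : ∀ α : Ω, MulAction.stabilizer G α ≠ ⊥) (hep : ∀ (α : Ω) (ω : Ω), MulAction.IsPreprimitive (MulAction.stabilizer G α) (MulAction.orbit (MulAction.stabilizer G α) ω))
    (α ω : Ω) (hω : ω ≠ α) (h : MulAction.stabilizer G α) (hfix : ∀ x ∈ MulAction.orbit (MulAction.stabilizer G α) ω, h • x = x) : h = 1 := by
  classical
  by_contra h1
  haveI := hprim
  haveI : Nontrivial Ω := ⟨⟨ω, α, hω⟩⟩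
  haveI : MulAction.IsPretransitive G Ω := hprim.toIsPretransitive
  let St : Ω → Subgroup G := fun a => MulAction.stabilizer G a
  let sz : Ω → Ω → ℕ := fun a b => Nat.card (MulAction.orbit (St a) b)
  -- the kernel on the suborbit of ω
  let K : Subgroup (St α) := (MulAction.toPermHom (St α) (MulAction.orbit (St α) ω)).ker
  have hKω : ∀ k : K, ((k : St α) : G) • ω = ω := fun k => by
    have := congrArg (fun s : Equiv.Perm (MulAction.orbit (St α) ω) => ((s ⟨ω, MulAction.mem_orbit_self ω⟩) : Ω)) (MonoidHom.mem_ker.1 k.2)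
    exact this
  have hhK : h ∈ K := by
    refine Equiv.ext fun x => Subtype.ext ?_
    exact hfix x.1 x.2
  let moved : Ω → Prop := fun x => ∃ k : K, ((k : St α) : G) • x ≠ x
  obtain ⟨x₀, hx₀⟩ : ∃ x, moved x := by
    by_contra hcon
    push Not at hcon
    refine h1 (Subtype.ext ?_)
    exact eq_of_smul_eq_smul (α := Ω) fun z => by
      have := not_exists.1 (hcon z)
      rw [OneMemClass.coe_one, one_smul]
      by_contra hz
      exact this ⟨h, hhK⟩ hz
  obtain ⟨δ, hδ, hmax⟩ := (Finset.univ.filter moved).exists_max_image (fun x => sz α x)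
    ⟨x₀, Finset.mem_filter.2 ⟨Finset.mem_univ _, hx₀⟩⟩
  rw [Finset.mem_filter] at hδ
  set m := sz α δ with hm
  let Λ : Ω → Set Ω := fun a => {b | m < sz a b}
  have hαδ : α ≠ δ := fun e => by
    obtain ⟨k, hk⟩ := hδ.2
    exact hk (e ▸ (k : St α).2)
  -- K is transitive on the orbit of δ
  have hKorb : ∀ x ∈ MulAction.orbit (St α) δ, ∃ k : K, ((k : St α) : G) • δ = x := by
    intro x hx
    haveI : K.Normal := MonoidHom.normal_ker _
    haveI := hep α δ
    let d : MulAction.orbit (St α) δ := ⟨δ, MulAction.mem_orbit_self δ⟩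
    have hb : MulAction.IsBlock (St α) (MulAction.orbit K d) := MulAction.IsBlock.orbit_of_normal d
    rcases hb.subsingleton_or_eq_univ with hs | hu
    · exfalso
      obtain ⟨k, hk⟩ := hδ.2
      exact hk (congrArg Subtype.val (hs (MulAction.mem_orbit d k) (MulAction.mem_orbit_self d)))
    · obtain ⟨k, hk⟩ : (⟨x, hx⟩ : MulAction.orbit (St α) δ) ∈ MulAction.orbit K d := hu ▸ Set.mem_univ _
      exact ⟨k, congrArg Subtype.val hk⟩
  -- sizes
  have htr : ∀ (g : G) (a b : Ω), sz (g • a) (g • b) = sz a b := by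
    intro g a b
    refine (Nat.card_congr (Equiv.ofBijective (fun x : MulAction.orbit (St a) b => (⟨g • (x : Ω), ?_⟩ :
      MulAction.orbit (St (g • a)) (g • b))) ⟨fun x y e => Subtype.ext (MulAction.injective g (congrArg Subtype.val e)), fun y => ?_⟩)).symm
    · obtain ⟨s, hs⟩ := x.2
      refine ⟨⟨g * s * g⁻¹, ?_⟩, ?_⟩
      · show (g * s * g⁻¹) • g • a = g • a
        rw [smul_smul, inv_mul_cancel_right, mul_smul, s.2]
      · show (g * s * g⁻¹) • g • b = g • (x : Ω)
        rw [smul_smul, inv_mul_cancel_right, mul_smul, ← hs]; rfl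
    · obtain ⟨s, hs⟩ := y.2
      refine ⟨⟨(g⁻¹ * s * g) • b, ⟨⟨g⁻¹ * s * g, ?_⟩, rfl⟩⟩, Subtype.ext ?_⟩
      · show (g⁻¹ * s * g) • a = a
        rw [mul_smul, mul_smul, s.2, inv_smul_smul]
      · show g • (g⁻¹ * s * g) • b = _
        rw [← hs, smul_smul, ← mul_assoc, mul_inv_cancel_left, mul_smul]; rfl
  have hsymm : ∀ a b, sz a b = sz b a := by
    intro a b
    have e : ∀ a b, sz a b * Nat.card (St a ⊓ St b : Subgroup G) = Nat.card (St a) := by
      intro a b
      have h2 : Nat.card (MulAction.stabilizer (St a) b) = Nat.card (St a ⊓ St b : Subgroup G) := by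
        rw [← Subgroup.card_map_of_injective (St a).subtype_injective]
        congr 2
        ext g
        simp only [Subgroup.mem_map, Subgroup.mem_inf]
        exact ⟨fun ⟨s, hs, e⟩ => e ▸ ⟨s.2, hs⟩, fun ⟨h1, h2⟩ => ⟨⟨g, h1⟩, h2, rfl⟩⟩
      show Nat.card (MulAction.orbit (St a) b) * _ = _
      rw [← h2, Nat.card_congr (MulAction.orbitEquivQuotientStabilizer (St a) b), mul_comm]
      exact (MulAction.stabilizer (St a) b).card_mul_index
    have hc : ∀ a, Nat.card (St a) * Nat.card Ω = Nat.card G := fun a => by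
      rw [← MulAction.index_stabilizer_of_transitive G a]; exact (St a).card_mul_index
    have e1 := e a b
    have e2 := e b a
    rw [inf_comm] at e2
    have h3 : Nat.card (St a) = Nat.card (St b) :=
      Nat.eq_of_mul_eq_mul_right Nat.card_pos ((hc a).trans (hc b).symm)
    exact Nat.eq_of_mul_eq_mul_right Nat.card_pos (e1.trans (h3.trans e2.symm))
  have hcoatom : ∀ a, IsCoatom (St a) := fun a => MulAction.IsPreprimitive.isCoatom_stabilizer_of_isPreprimitive G a
  have hne : ∀ a b, a ≠ b → St a ≠ St b := by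
    intro a b hab e
    let B : Set Ω := {x | St x = St a}
    have hB : MulAction.IsBlock G B := by
      rw [MulAction.isBlock_iff_smul_eq_of_nonempty]
      intro g ⟨y, hy1, hy2⟩
      obtain ⟨x, hx, rfl⟩ := hy1
      have key : ∀ z, St z = St a ↔ St (g • z) = St a := fun z => by
        show St z = St a ↔ MulAction.stabilizer G (g • z) = St a
        rw [MulAction.stabilizer_smul_eq_stabilizer_map_conj]
        have h' : (St x).map (MulAut.conj g).toMonoidHom = St a := by
          rw [← MulAction.stabilizer_smul_eq_stabilizer_map_conj]; exact hy2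
        rw [show St x = St a from hx] at h'
        constructor
        · intro h; show (St z).map _ = _; rw [h]; exact h'
        · intro h
          exact Subgroup.map_injective (MulAut.conj g).injective ((show (St z).map _ = _ from h).trans h'.symm)
      ext z
      rw [Set.mem_smul_set_iff_inv_smul_mem]
      show St (g⁻¹ • z) = St a ↔ St z = St a
      rw [key (g⁻¹ • z), smul_inv_smul]
    rcases hB.subsingleton_or_eq_univ with hs | hu
    · exact hab (hs (show a ∈ B from rfl) (show b ∈ B from e.symm))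
    · refine hH a ((Subgroup.eq_bot_iff_forall _).2 fun g hg => eq_of_smul_eq_smul (α := Ω) fun z => ?_)
      rw [one_smul]
      have hz : St z = St a := by have : z ∈ B := hu ▸ Set.mem_univ z; exact this
      exact (hz ▸ hg : g ∈ St z)
  -- neighbours fixed by K are common neighbours
  have hcommon : ∀ γ, γ ≠ α → (∀ k : K, ((k : St α) : G) • γ = γ) → γ ≠ δ → m < sz γ δ := by
    intro γ hγ hKγ _
    have hsub : MulAction.orbit (St α) δ ⊆ MulAction.orbit (St γ) δ := fun x hx => by
      obtain ⟨k, hk⟩ := hKorb x hx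
      exact ⟨⟨((k : St α) : G), hKγ k⟩, hk⟩
    have hproper : MulAction.orbit (St α) δ ≠ MulAction.orbit (St γ) δ := by
      intro e
      have hinv : ∀ (H : Subgroup G) (g : G), g ∈ H → ∀ x, g • x ∈ MulAction.orbit H δ ↔ x ∈ MulAction.orbit H δ := by
        intro H g hg x
        constructor
        · rintro ⟨s, hs⟩
          refine ⟨⟨g, hg⟩⁻¹ * s, ?_⟩
          show (g⁻¹ * (s : G)) • δ = x
          rw [mul_smul, show (s : G) • δ = g • x from hs, inv_smul_smul]
        · rintro ⟨s, hs⟩
          refine ⟨⟨g, hg⟩ * s, ?_⟩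
          show (g * (s : G)) • δ = g • x
          rw [mul_smul, show (s : G) • δ = x from hs]
      have hle : St α ⊔ St γ ≤ MulAction.stabilizer G (MulAction.orbit (St α) δ) := by
        refine sup_le (fun g hg => ?_) (fun g hg => ?_)
        · rw [MulAction.mem_stabilizer_set]
          exact hinv _ g hg
        · rw [MulAction.mem_stabilizer_set, e]
          exact hinv _ g hg
      have htop : St α ⊔ St γ = ⊤ := (hcoatom α).2 _ (lt_of_le_of_ne le_sup_left fun e' => by
        have hle' : St γ ≤ St α := e'.symm ▸ le_sup_right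
        exact hne γ α hγ ((hcoatom γ).le_iff.1 hle' |>.resolve_left (hcoatom α).1).symm)
      obtain ⟨g, hg⟩ := MulAction.exists_smul_eq G δ α
      have := (MulAction.mem_stabilizer_set.1 (hle (htop ▸ Subgroup.mem_top g)) δ).2 (MulAction.mem_orbit_self δ)
      rw [hg] at this
      obtain ⟨s, hs⟩ := this
      exact hαδ (MulAction.injective (s : G) ((s.2 : (s : G) • α = α).trans hs.symm))
    exact Set.ncard_lt_ncard (ssubset_of_subset_of_ne hsub hproper) |> fun h => by
      rwa [← Nat.card_coe_set_eq, ← Nat.card_coe_set_eq] at h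
  have hfixΛ : ∀ γ ∈ Λ α, ∀ k : K, ((k : St α) : G) • γ = γ := by
    intro γ hγ k
    by_contra hk
    exact absurd (hmax γ (Finset.mem_filter.2 ⟨Finset.mem_univ _, k, hk⟩)) (not_le.2 hγ)
  haveI : Nonempty (MulAction.orbit (St α) δ) := ⟨⟨δ, MulAction.mem_orbit_self δ⟩⟩
  have hm1 : 1 ≤ m := Nat.card_pos
  have hself : ∀ a, sz a a = 1 := fun a => by
    show Nat.card (MulAction.orbit (St a) a) = 1
    rw [Nat.card_eq_one_iff_unique]
    refine ⟨⟨fun x y => ?_⟩, ⟨⟨a, MulAction.mem_orbit_self a⟩⟩⟩
    obtain ⟨s, hs⟩ := x.2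
    obtain ⟨t, ht⟩ := y.2
    exact Subtype.ext (hs.symm.trans ((s.2 : (s : G) • a = a).trans ((t.2 : (t : G) • a = a).symm.trans ht)))
  have hωδ : ω ≠ δ := fun e => by
    obtain ⟨k, hk⟩ := hδ.2
    exact hk (e ▸ hKω k)
  have hΛne : ∀ a, (Λ a).Nonempty := fun a => by
    obtain ⟨g, rfl⟩ := MulAction.exists_smul_eq G ω a
    exact ⟨g • δ, show m < sz (g • ω) (g • δ) by rw [htr]; exact hcommon ω hω hKω hωδ⟩
  have hsub : Λ α ⊆ Λ δ := fun γ hγ => by
    have hγα : γ ≠ α := fun e => by
      rw [e] at hγ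
      have h' : m < sz α α := hγ
      rw [hself] at h'
      omega
    have hγδ : γ ≠ δ := fun e => by
      rw [e] at hγ
      have h' : m < sz α δ := hγ
      omega
    show m < sz δ γ
    rw [hsymm]
    exact hcommon γ hγα (hfixΛ γ hγ) hγδ
  have hΛsmul : ∀ (g : G) a, g • Λ a = Λ (g • a) := fun g a => by
    ext z
    rw [Set.mem_smul_set_iff_inv_smul_mem]
    show m < sz a (g⁻¹ • z) ↔ m < sz (g • a) z
    rw [← htr g a (g⁻¹ • z), smul_inv_smul]
  have heq : Λ α = Λ δ := by
    obtain ⟨g, hg⟩ := MulAction.exists_smul_eq G α δ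
    refine Set.eq_of_subset_of_ncard_le hsub ?_
    rw [← hg, ← hΛsmul, Set.ncard_smul_set]
  let B : Set Ω := {x | Λ x = Λ α}
  have hB : MulAction.IsBlock G B := by
    rw [MulAction.isBlock_iff_smul_eq_of_nonempty]
    intro g ⟨y, hy1, hy2⟩
    obtain ⟨x, hx, rfl⟩ := hy1
    have h' : g • Λ α = Λ α := by rw [← show Λ x = Λ α from hx, hΛsmul]; exact hy2.trans hx.symm
    ext z
    rw [Set.mem_smul_set_iff_inv_smul_mem]
    show Λ (g⁻¹ • z) = Λ α ↔ Λ z = Λ α
    rw [← hΛsmul]
    constructor
    · intro e; rw [← smul_inv_smul g (Λ z), e, h']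
    · intro e; rw [e]; nth_rw 1 [← h']; rw [inv_smul_smul]
  rcases hB.subsingleton_or_eq_univ with hs | hu
  · exact hαδ (hs (show α ∈ B from rfl) (show δ ∈ B from heq.symm))
  · obtain ⟨γ, hγ⟩ := hΛne α
    have hB' : Λ γ = Λ α := by have : γ ∈ B := hu ▸ Set.mem_univ γ; exact this
    have : γ ∈ Λ γ := by rw [hB']; exact hγ
    replace this : m < sz γ γ := this
    rw [hself] at this
    omega

end Cfsg.Agent.S3494
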