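import Cfsg.Statements.S3495
import Cfsg.Agent.Lib.Perm.Primitive
-- import your own Cfsg.Agent.* helpers here

set_option autoImplicit false
open Cfsg

namespace Cfsg.Agent.S3495

/-- Let a finite group G act faithfully and primitively on a finite set Ω with non-trivial point stabilizers, each acting primitively on every one of its orbits (an extremely primitive group), and suppose G has an elementary abelian normal p-subgroup N acting regularly on Ω (affine type). Then every non-trivial subgroup M of a point stabilizer G_α that is normal in G_α has the same orbits on Ω as G_α, and normalizes no subgroup of N other than 1 and N. -/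
theorem result {G : Type*} [Group G] [Finite G] {Ω : Type*} [Fintype Ω] [MulAction G Ω] [FaithfulSMul G Ω] (hprim : MulAction.IsPreprimitive G Ω) (hH : ∀ α : Ω, MulAction.stabilizer G α ≠ ⊥) (hep : ∀ (α : Ω) (ω : Ω), MulAction.IsPreprimitive (MulAction.stabilizer G α) (MulAction.orbit (MulAction.stabilizer G α) ω))
    (N : Subgroup G) [N.Normal] (hNc : IsMulCommutative N) (p : ℕ) (hp : p.Prime) (hNp : ∀ n ∈ N, n ^ p = 1)
    (hNtr : MulAction.IsPretransitive N Ω) (hNreg : ∀ ω : Ω, MulAction.stabilizer N ω = ⊥) (α : Ω) (M : Subgroup G) (hM : M ≠ ⊥) (hMle : M ≤ MulAction.stabilizer G α)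
    (hMn : MulAction.stabilizer G α ≤ Subgroup.normalizer (M : Set G)) :
    (∀ ω : Ω, MulAction.orbit M ω = MulAction.orbit (MulAction.stabilizer G α) ω) ∧
    (∀ L : Subgroup G, L ≤ N → M ≤ Subgroup.normalizer (L : Set G) → L = ⊥ ∨ L = N) := by
  classical
  obtain ⟨H, hH'⟩ : ∃ H, H = MulAction.stabilizer G α := ⟨_, rfl⟩
  have hcomm : ∀ a ∈ N, ∀ b ∈ N, a * b = b * a := fun a ha b hb =>
    congrArg Subtype.val (hNc.is_comm.comm (⟨a, ha⟩ : N) ⟨b, hb⟩)
  have hreg : ∀ a ∈ N, ∀ b ∈ N, a • α = b • α → a = b := by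
    intro a ha b hb hab
    have hm : (⟨b⁻¹ * a, N.mul_mem (N.inv_mem hb) ha⟩ : N) ∈ MulAction.stabilizer N α := by
      show (b⁻¹ * a) • α = α
      rw [mul_smul, hab, inv_smul_smul]
    rw [hNreg α, Subgroup.mem_bot] at hm
    exact (inv_mul_eq_one.1 (congrArg Subtype.val hm)).symm
  have irred : ∀ L : Subgroup G, L ≤ N →
      (∀ h ∈ MulAction.stabilizer G α, ∀ l ∈ L, h * l * h⁻¹ ∈ L) → L = ⊥ ∨ L = N := by
    intro L hLN hinv
    by_cases hL : L = ⊥
    · exact Or.inl hL
    right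
    have hLn : L.Normal := ⟨fun l hl g => by
      obtain ⟨⟨n, hn⟩, hnα⟩ := MulAction.exists_smul_eq N α (g • α)
      have hst : n⁻¹ * g ∈ MulAction.stabilizer G α := by
        rw [MulAction.mem_stabilizer_iff, mul_smul, inv_smul_eq_iff]; exact hnα.symm
      have h1 := hinv _ hst l hl
      have h2 : n * (n⁻¹ * g * l * (n⁻¹ * g)⁻¹) * n⁻¹ = n⁻¹ * g * l * (n⁻¹ * g)⁻¹ := by
        rw [hcomm n hn _ (hLN h1)]; group
      rw [show g * l * g⁻¹ = n * (n⁻¹ * g * l * (n⁻¹ * g)⁻¹) * n⁻¹ by group, h2]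
      exact h1⟩
    have := Cfsg.Agent.Perm.normal_isPretransitive (Ω := Ω) L hL
    refine le_antisymm hLN fun n hn => ?_
    obtain ⟨⟨l, hl⟩, hlα⟩ := MulAction.exists_smul_eq L α (n • α)
    rw [← hreg l (hLN hl) n hn hlα]
    exact hl
  have hfixed : ∀ ω : Ω, (∀ x ∈ M, x • ω = ω) → ω = α := by
    intro ω hω
    let C : Subgroup G := N ⊓ Subgroup.centralizer (M : Set G)
    obtain ⟨⟨n, hn⟩, hnω⟩ := MulAction.exists_smul_eq N α ω
    have hnC : n ∈ C := by
      refine ⟨hn, Subgroup.mem_centralizer_iff.2 fun x hx => ?_⟩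
      have h1 : (x * n * x⁻¹) • α = n • α := by
        have hxi : x⁻¹ • α = α := inv_smul_eq_iff.2 (MulAction.mem_stabilizer_iff.1 (hMle hx)).symm
        rw [mul_smul, mul_smul, hxi, show n • α = ω from hnω]
        exact hω x hx
      exact mul_inv_eq_iff_eq_mul.1 (hreg _ (Subgroup.Normal.conj_mem ‹_› n hn x) n hn h1)
    have hCinv : ∀ h ∈ MulAction.stabilizer G α, ∀ l ∈ C, h * l * h⁻¹ ∈ C := by
      intro h hh l hl
      refine ⟨Subgroup.Normal.conj_mem ‹_› l hl.1 h, Subgroup.mem_centralizer_iff.2 fun x hx => ?_⟩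
      have hx' : h⁻¹ * x * h ∈ M := by
        have := (Subgroup.mem_set_normalizer_iff.1 (hMn ((MulAction.stabilizer G α).inv_mem hh)) x).1 hx
        simpa using this
      have := Subgroup.mem_centralizer_iff.1 hl.2 _ hx'
      calc x * (h * l * h⁻¹) = h * ((h⁻¹ * x * h) * l) * h⁻¹ := by group
        _ = h * (l * (h⁻¹ * x * h)) * h⁻¹ := by rw [this]
        _ = h * l * h⁻¹ * x := by group
    rcases irred C inf_le_left hCinv with hC | hC
    · rw [hC, Subgroup.mem_bot] at hnC
      rw [← show n • α = ω from hnω, hnC, one_smul]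
    · exfalso
      apply hM
      rw [eq_bot_iff]
      intro x hx
      refine Subgroup.mem_bot.2 (Cfsg.Agent.Perm.eq_one_of_centralizes (Ω := Ω) (M := N) ?_
        (MulAction.mem_stabilizer_iff.1 (hMle hx)))
      rw [Subgroup.mem_centralizer_iff]
      intro k hk
      have hkC : k ∈ C := by rw [hC]; exact hk
      exact (Subgroup.mem_centralizer_iff.1 hkC.2 x hx).symm
  have horb : ∀ ω : Ω, MulAction.orbit M ω = MulAction.orbit (MulAction.stabilizer G α) ω := by
    intro ω
    refine Set.Subset.antisymm ?_ ?_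
    · rintro _ ⟨⟨x, hx⟩, rfl⟩
      exact ⟨⟨x, hMle hx⟩, rfl⟩
    by_cases hωα : ω = α
    · subst hωα
      rintro _ ⟨⟨h, hh⟩, rfl⟩
      exact ⟨1, (one_smul _ _).trans (MulAction.mem_stabilizer_iff.1 hh).symm⟩
    have := hep α ω
    have hMs : (M.subgroupOf (MulAction.stabilizer G α)).Normal :=
      (Subgroup.normal_subgroupOf_iff_le_normalizer hMle).2 hMn
    have htrans : MulAction.IsPretransitive (M.subgroupOf (MulAction.stabilizer G α))
        (MulAction.orbit (MulAction.stabilizer G α) ω) := by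
      refine MulAction.IsQuasiPreprimitive.isPretransitive_of_normal fun huniv => hωα (hfixed ω fun x hx => ?_)
      have hmem : (⟨ω, MulAction.mem_orbit_self ω⟩ : MulAction.orbit (MulAction.stabilizer G α) ω) ∈
          MulAction.fixedPoints (M.subgroupOf (MulAction.stabilizer G α))
            (MulAction.orbit (MulAction.stabilizer G α) ω) := huniv ▸ Set.mem_univ _
      exact congrArg Subtype.val (MulAction.mem_fixedPoints.1 hmem ⟨⟨x, hMle hx⟩, hx⟩)
    intro y hy
    obtain ⟨⟨⟨x, _⟩, hx⟩, hxy⟩ := htrans.exists_smul_eq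
      (⟨ω, MulAction.mem_orbit_self ω⟩ : MulAction.orbit (MulAction.stabilizer G α) ω) ⟨y, hy⟩
    exact ⟨⟨x, hx⟩, congrArg Subtype.val hxy⟩
  refine ⟨horb, fun L hLN hML => irred L hLN fun h hh l hl => ?_⟩
  have h1 : (h * l * h⁻¹) • α ∈ MulAction.orbit M (l • α) := by
    rw [horb]
    refine ⟨⟨h, hh⟩, ?_⟩
    show h • l • α = _
    rw [mul_smul, mul_smul, inv_smul_eq_iff.2 (MulAction.mem_stabilizer_iff.1 hh).symm]
  obtain ⟨⟨x, hx⟩, hxl⟩ := h1
  have hxconj : x * l * x⁻¹ ∈ L := (Subgroup.mem_set_normalizer_iff.1 (hML hx) l).1 hl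
  have e : (x * l * x⁻¹) • α = (h * l * h⁻¹) • α := by
    rw [← hxl]
    show _ = x • l • α
    rw [mul_smul, mul_smul, inv_smul_eq_iff.2 (MulAction.mem_stabilizer_iff.1 (hMle hx)).symm]
  rw [← hreg _ (hLN hxconj) _ (Subgroup.Normal.conj_mem ‹_› l (hLN hl) h) e]
  exact hxconj

end Cfsg.Agent.S3495
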