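import Cfsg.Statements.S3497
import Cfsg.Agent.Lib.Lie.ExtremelyPrimitive.Main
-- import your own Cfsg.Agent.* helpers here

set_option autoImplicit false
open Cfsg

namespace Cfsg.Agent.S3497

/-- Restrictions on the point stabilizer of an extremely primitive group. Let a finite group G act faithfully and primitively on a finite set Ω with point stabilizers H = G_α whose order is neither 1 nor a prime, each acting primitively on every one of its orbits. Then H has trivial center, the Fitting subgroup F(H) is an elementary abelian p-group for some prime p, and if F(H) ≠ 1 has order p ^ e then p ^ e divides the number of points minus one and H / F(H) embeds in GL_e(p) (there is a homomorphism from H to GL_e(p) with kernel exactly F(H)). -/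
theorem result {G : Type*} [Group G] [Finite G] {Ω : Type*} [Fintype Ω] [MulAction G Ω] [FaithfulSMul G Ω] (hprim : MulAction.IsPreprimitive G Ω) (hep : ∀ (α : Ω) (ω : Ω), MulAction.IsPreprimitive (MulAction.stabilizer G α) (MulAction.orbit (MulAction.stabilizer G α) ω)) (α : Ω)
    (hH1 : MulAction.stabilizer G α ≠ ⊥) (hHp : ¬ (Nat.card (MulAction.stabilizer G α)).Prime) :
    Subgroup.center (MulAction.stabilizer G α) = ⊥ ∧
    IsMulCommutative (Cfsg.fittingSubgroup (MulAction.stabilizer G α)) ∧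
    ∃ p e : ℕ, p.Prime ∧ Nat.card (Cfsg.fittingSubgroup (MulAction.stabilizer G α)) = p ^ e ∧
      (∀ x ∈ Cfsg.fittingSubgroup (MulAction.stabilizer G α), x ^ p = 1) ∧
      (Cfsg.fittingSubgroup (MulAction.stabilizer G α) ≠ ⊥ →
        p ^ e ∣ Fintype.card Ω - 1 ∧
        ∃ φ : MulAction.stabilizer G α →* GL (Fin e) (ZMod p), φ.ker = Cfsg.fittingSubgroup (MulAction.stabilizer G α)) := by
  classical
  haveI := hprim.toIsPretransitive
  have hne : ∀ b : Ω, MulAction.stabilizer G b ≠ ⊥ := by
    intro b e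
    obtain ⟨g, hg⟩ := MulAction.exists_smul_eq G α b
    apply hH1
    have := Nat.card_congr (MulAction.stabilizerEquivStabilizer (g := g) (a := α) (b := b) hg.symm).toEquiv
    rw [e, Subgroup.card_bot] at this
    exact Subgroup.card_eq_one.1 this
  let h : Cfsg.Agent.Lie.ExtPrim.Hyp G Ω := ⟨hprim, hep, hne⟩
  set H := MulAction.stabilizer G α with hH
  have hc := Cfsg.Agent.Lie.ExtPrim.fitting_comm h α
  refine ⟨Cfsg.Agent.Lie.ExtPrim.center_bot h α hHp, ⟨⟨fun x y => Subtype.ext (hc x x.2 y y.2)⟩⟩, ?_⟩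
  obtain ⟨p, hp, he⟩ := Cfsg.Agent.Lie.ExtPrim.fitting_eq h α
  haveI := Fact.mk hp
  have hexp : ∀ x ∈ Cfsg.fittingSubgroup H, x ^ p = 1 := fun x hx =>
    Subtype.ext ((Cfsg.Agent.Lie.ExtPrim.core_abelian p h α).2 _ (he ▸ Subgroup.mem_map_of_mem _ hx))
  obtain ⟨e, hcard⟩ : ∃ e, Nat.card (Cfsg.fittingSubgroup H) = p ^ e :=
    IsPGroup.iff_card.1 fun x => ⟨1, Subtype.ext (by rw [pow_one]; exact hexp x x.2)⟩
  refine ⟨p, e, hp, hcard, hexp, fun hFne => ⟨?_, ?_⟩⟩
  · rw [← hcard, ← Nat.card_eq_fintype_card]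
    exact Cfsg.Agent.Lie.ExtPrim.dvd_card_sub_one h α
  · haveI : (Cfsg.fittingSubgroup H).Normal := Cfsg.Agent.Solv.fittingSubgroup_normal
    obtain ⟨φ, hφ⟩ := Cfsg.Agent.Lie.ExtPrim.exists_linear (Cfsg.fittingSubgroup H) hc hexp hcard
    refine ⟨φ, hφ.trans (le_antisymm (Cfsg.Agent.Lie.ExtPrim.centralizer_fitting h α hFne) ?_)⟩
    intro x hx
    rw [Subgroup.mem_centralizer_iff]
    exact fun y hy => hc y hy x hx

end Cfsg.Agent.S3497
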