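import Cfsg.Statements.S3498
import Cfsg.Agent.Lib.Solv.ThompsonFPF
-- import your own Cfsg.Agent.* helpers here

set_option autoImplicit false
open Cfsg

namespace Cfsg.Agent.S3498

/-- A maximal subgroup of a finite almost simple group does not have prime order. Here G is almost simple in the sense that it has a non-abelian simple normal subgroup T with trivial centralizer. -/
theorem result {G : Type*} [Group G] [Finite G] (T : Subgroup G) [T.Normal] (hT : IsSimpleGroup T) (hTc : ¬ IsMulCommutative T)
    (hC : Subgroup.centralizer (T : Set G) = ⊥) (H : Subgroup G) (hmax : IsCoatom H) : ¬ (Nat.card H).Prime := by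
  intro hr
  obtain ⟨r, hcard⟩ : ∃ r, r = Nat.card H := ⟨_, rfl⟩
  rw [← hcard] at hr
  have : Fact r.Prime := ⟨hr⟩
  have hHne : H ≠ ⊥ := fun h => by
    rw [h, Subgroup.card_bot] at hcard
    exact hr.one_lt.ne hcard.symm
  have hTne : T ≠ ⊥ := fun h => by
    have := hT.toNontrivial
    exact (Subgroup.nontrivial_iff_ne_bot T).1 this h
  have sub : ∀ K : Subgroup G, K ≤ H → K = ⊥ ∨ K = H := by
    intro K hK
    rcases (Nat.dvd_prime hr).1 (hcard ▸ Subgroup.card_dvd_of_le hK) with h | h
    · exact Or.inl (Subgroup.card_eq_one.1 h)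
    · exact Or.inr (Subgroup.eq_of_le_of_card_ge hK (hcard ▸ h.ge))
  have hHc : IsCyclic H := isCyclic_of_prime_card hcard.symm
  have hHcomm : ∀ a ∈ H, ∀ b ∈ H, a * b = b * a := fun a ha b hb =>
    congrArg Subtype.val (IsCyclic.commGroup.mul_comm (⟨a, ha⟩ : H) ⟨b, hb⟩)
  have hnorm : ∀ b : G, b ∈ Subgroup.centralizer (H : Set G) → b ∈ Subgroup.normalizer (H : Set G) :=
    fun b hb => Subgroup.centralizer_le_normalizer _ hb
  -- a normal `H` is impossible
  have hHn : ¬ H.Normal := by
    intro hn
    have hI : H ⊓ T = ⊥ ∨ H ⊓ T = H := sub _ inf_le_left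
    rcases hI with hI | hI
    · apply hHne
      rw [eq_bot_iff, ← hC]
      exact fun h hh => Subgroup.mem_centralizer_iff.2 fun t ht =>
        Subgroup.commute_of_normal_of_disjoint T H ‹T.Normal› hn (disjoint_iff.2 (inf_comm H T ▸ hI)) t h ht hh
    · have hHT : H ≤ T := inf_eq_left.1 hI
      rcases hT.eq_bot_or_eq_top_of_normal (H.subgroupOf T) inferInstance with h | h
      · rw [Subgroup.subgroupOf_eq_bot, disjoint_iff, inf_eq_left.2 hHT] at h
        exact hHne h
      · rw [Subgroup.subgroupOf_eq_top] at h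
        have hTH := le_antisymm h hHT
        exact hTc ⟨⟨fun a b => Subtype.ext (hHcomm a (hTH.le a.2) b (hTH.le b.2))⟩⟩
  have hN : Subgroup.normalizer (H : Set G) = H := by
    by_contra hne
    exact hHn (Subgroup.normalizer_eq_top_iff.1 (hmax.2 _ (lt_of_le_of_ne Subgroup.le_normalizer (Ne.symm hne))))
  rcases sub (H ⊓ T) inf_le_left with hI | hI
  · obtain ⟨⟨x, hx⟩, hgen⟩ := IsCyclic.exists_generator (α := H)
    have hxH : ∀ h ∈ H, h ∈ Subgroup.zpowers x := by
      intro h hh
      obtain ⟨k, hk⟩ := hgen ⟨h, hh⟩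
      exact ⟨k, congrArg Subtype.val hk⟩
    have hxr : x ^ r = 1 := by
      have := pow_card_eq_one' (x := (⟨x, hx⟩ : H))
      rw [← hcard] at this
      exact congrArg Subtype.val this
    have hfix : T ⊓ Subgroup.centralizer {x} = ⊥ := by
      rw [eq_bot_iff, ← hI]
      intro t ht
      refine ⟨hN.le (hnorm t (Subgroup.mem_centralizer_iff.2 fun h hh => ?_)), ht.1⟩
      obtain ⟨k, rfl⟩ := hxH h hh
      exact ((show Commute t x from Subgroup.mem_centralizer_singleton_iff.1 ht.2).symm.zpow_left k).eq
    have hnil : Group.IsNilpotent T :=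
      Cfsg.Agent.Solv.fpf_nilpotent T x hr hxr (by rw [Subgroup.normalizer_eq_top]; exact Subgroup.mem_top x) hfix
    have := hT.toNontrivial
    rcases hT.eq_bot_or_eq_top_of_normal (Subgroup.center T) inferInstance with h | h
    · exact absurd h (Group.IsNilpotent.center_ne_bot T)
    · exact hTc ⟨⟨fun a b => (Subgroup.mem_center_iff.1 (h ▸ Subgroup.mem_top b) a)⟩⟩
  · have hHT : H ≤ T := inf_eq_left.1 hI
    have hlt : H < T := lt_of_le_of_ne hHT fun h => hHn (h ▸ ‹T.Normal›)
    have htop : T = ⊤ := hmax.2 T hlt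
    have hPG : IsPGroup r H := IsPGroup.of_card (n := 1) (by rw [pow_one, ← hcard])
    obtain ⟨P, hP⟩ := hPG.exists_le_sylow
    have hPH : (P : Subgroup G) = H := by
      by_contra hne
      have hnil : Group.IsNilpotent (P : Subgroup G) := P.2.isNilpotent
      have hlt' : H.subgroupOf (P : Subgroup G) < ⊤ := lt_top_iff_ne_top.2 fun h =>
        hne (le_antisymm (Subgroup.subgroupOf_eq_top.1 h) hP)
      obtain ⟨⟨y, hy⟩, hyN, hyH⟩ := SetLike.exists_of_lt
        (Group.normalizerCondition_of_isNilpotent (G := (P : Subgroup G)) _ hlt')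
      rw [Subgroup.mem_set_normalizer_iff] at hyN
      refine hyH (hN.le ?_)
      refine Subgroup.mem_normalizer_fintype fun h hh => ?_
      exact (hyN ⟨h, hP hh⟩).1 hh
    have hle : Subgroup.normalizer ((P : Subgroup G) : Set G) ≤ Subgroup.centralizer ((P : Subgroup G) : Set G) := by
      rw [hPH, hN]
      exact fun a ha => Subgroup.mem_centralizer_iff.2 fun b hb => hHcomm b hb a ha
    have hcompl := MonoidHom.ker_transferSylow_isComplement' P hle
    have : Nontrivial G := ⟨⟨_, _, fun e : (1 : G) = _ => (Subgroup.bot_or_exists_ne_one H).resolve_left hHne |>.choose_spec.2 e.symm⟩⟩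
    have hT' : IsSimpleGroup G := by
      subst htop
      exact IsSimpleGroup.isSimpleGroup_of_surjective (H := G) (Subgroup.topEquiv : (⊤ : Subgroup G) ≃* G).toMonoidHom
        (Subgroup.topEquiv : (⊤ : Subgroup G) ≃* G).surjective
    rcases hT'.eq_bot_or_eq_top_of_normal _ (MonoidHom.normal_ker (MonoidHom.transferSylow P hle)) with h | h
    · rw [h] at hcompl
      have := Subgroup.isComplement'_bot_left.1 hcompl
      rw [hPH] at this
      exact hmax.1 this
    · rw [h] at hcompl
      have := Subgroup.isComplement'_top_left.1 hcompl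
      rw [hPH] at this
      exact hHne this

end Cfsg.Agent.S3498
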