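import Cfsg.Statements.S3501
import Cfsg.Agent.Lib.Lie.OneDerangementClass
-- import your own Cfsg.Agent.* helpers here

set_option autoImplicit false
open Cfsg

namespace Cfsg.Agent.S3501

/-- Let a finite group G act faithfully and primitively on a finite set Ω with at least two points, and suppose G is not almost simple (it has no non-abelian simple normal subgroup with trivial centralizer). Then the derangements of G form a single conjugacy class if and only if G is sharply 2-transitive (2-transitive, and no non-identity element fixes two points). -/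
theorem result {G : Type*} [Group G] [Finite G] {Ω : Type*} [Fintype Ω] [MulAction G Ω] [FaithfulSMul G Ω] (hΩ : 2 ≤ Fintype.card Ω) (hprim : MulAction.IsPreprimitive G Ω) (hnas : ¬ ∃ T : Subgroup G, T.Normal ∧ IsSimpleGroup T ∧ ¬ IsMulCommutative T ∧ Subgroup.centralizer (T : Set G) = ⊥) :
    Nat.card {c : ConjClasses G // ∃ g : G, ConjClasses.mk g = c ∧ ∀ ω : Ω, g • ω ≠ ω} = 1 ↔ (MulAction.IsMultiplyPretransitive G Ω 2 ∧ ∀ g : G, g ≠ 1 → ∀ a b : Ω, a ≠ b → g • a = a → g • b ≠ b) := by
  have hn : 2 ≤ Nat.card Ω := by rwa [Nat.card_eq_fintype_card]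
  rw [Cfsg.Agent.Lie.OneDer.oneClass_iff]
  exact ⟨fun h => Cfsg.Agent.Lie.OneDer.sharp_of_oneClass hn hprim hnas h,
    fun ⟨a, b⟩ => Cfsg.Agent.Lie.OneDer.oneClass_of_sharp hn a b⟩

end Cfsg.Agent.S3501
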