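import Cfsg.Statements.S3508
import Cfsg.Agent.Lib.Perm.Primitive
import Cfsg.Agent.Lib.Perm.UnipotentBound
-- import your own Cfsg.Agent.* helpers here

set_option autoImplicit false
open Cfsg

namespace Cfsg.Agent.S3508

/-- Let a finite group G act faithfully on a set Ω with p ^ m points (p prime) and have an elementary abelian normal p-subgroup N acting regularly on Ω (so G is a group of affine transformations of an m-dimensional space over the field with p elements). If G contains an element of order p ^ r with r ≥ 1, then p ^ (r − 1) ≤ m. In particular an element of order p ^ m forces m ≤ 2, and m ≤ 1 when p is odd. -/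
theorem result {G : Type*} [Group G] [Finite G] {Ω : Type*} [Fintype Ω] [MulAction G Ω] [FaithfulSMul G Ω] (p m : ℕ) (hp : p.Prime) (hcard : Fintype.card Ω = p ^ m)
    (N : Subgroup G) [N.Normal] (hNc : IsMulCommutative N) (hNp : ∀ n ∈ N, n ^ p = 1)
    (hNtr : MulAction.IsPretransitive N Ω) (hNreg : ∀ ω : Ω, MulAction.stabilizer N ω = ⊥)
    (g : G) (r : ℕ) (hr : 1 ≤ r) (hg : orderOf g = p ^ r) :
    p ^ (r - 1) ≤ m ∧ (r = m → m ≤ 2 ∧ (2 < p → m ≤ 1)) := by
  classical
  have : Fact p.Prime := ⟨hp⟩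
  have hΩ : Nonempty Ω := Fintype.card_pos_iff.1 (hcard ▸ pow_pos hp.pos m)
  obtain ⟨α⟩ := hΩ
  have hNcard : Nat.card N = p ^ m := by
    rw [← Cfsg.Agent.Perm.card_eq_of_regular α (hNreg α), Nat.card_eq_fintype_card, hcard]
  letI : CommGroup N := { (inferInstance : Group N) with mul_comm := hNc.is_comm.comm }
  obtain ⟨⟨n, hn⟩, hnα⟩ := MulAction.exists_smul_eq N α (g • α)
  obtain ⟨h, hh⟩ : ∃ h, h = n⁻¹ * g := ⟨_, rfl⟩
  have hhα : h • α = α := by rw [hh, mul_smul, inv_smul_eq_iff]; exact hnα.symm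
  let f : Additive N →+ Additive N := MonoidHom.toAdditive (MulAut.conjNormal (H := N) h).toMonoidHom
  have hf : ∀ (k : ℕ) (x : Additive N),
      ((Additive.toMul (f^[k] x) : N) : G) = h ^ k * ((Additive.toMul x : N) : G) * (h ^ k)⁻¹ := by
    intro k
    induction k with
    | zero => intro x; simp
    | succ k ih =>
      intro x
      rw [Function.iterate_succ_apply',
        show ((Additive.toMul (f (f^[k] x)) : N) : G) = h * ((Additive.toMul (f^[k] x) : N) : G) * h⁻¹ from
          MulAut.conjNormal_apply h _, ih, pow_succ']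
      group
  have hsum : ∀ k : ℕ, g ^ k =
      ((Additive.toMul (∑ i ∈ Finset.range k, f^[i] (Additive.ofMul (⟨n, hn⟩ : N))) : N) : G) * h ^ k := by
    intro k
    induction k with
    | zero => simp
    | succ k ih =>
      rw [pow_succ, ih, Finset.sum_range_succ, toMul_add, Subgroup.coe_mul, hf,
        toMul_ofMul, show g = n * h by rw [hh, mul_inv_cancel_left], pow_succ]
      simp only [mul_assoc, inv_mul_cancel_left]
  have hgN : g ^ p ^ r = 1 := by rw [← hg, pow_orderOf_eq_one]
  have hhr : ∀ x : Additive N, f^[p ^ r] x = x := by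
    intro x
    apply Additive.toMul.injective
    apply Subtype.ext
    rw [hf]
    obtain ⟨s, hs⟩ : ∃ s : N, s = Additive.toMul (∑ i ∈ Finset.range (p ^ r), f^[i] (Additive.ofMul (⟨n, hn⟩ : N))) :=
      ⟨_, rfl⟩
    have h1 : h ^ p ^ r = (s : G)⁻¹ :=
      eq_inv_of_mul_eq_one_right (hs ▸ (hsum _).symm.trans hgN)
    rw [h1, inv_inv, ← Subgroup.coe_inv, ← Subgroup.coe_mul, ← Subgroup.coe_mul]
    congr 1
    rw [mul_comm s⁻¹, inv_mul_cancel_right]
  have hmain : p ^ (r - 1) ≤ m := by
    by_contra hlt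
    push Not at hlt
    have hA : Nat.card (Additive N) = p ^ m := by
      rw [← hNcard]; exact Nat.card_congr Additive.toMul
    have hexp : ∀ x : Additive N, p • x = 0 := fun x => by
      apply Additive.toMul.injective
      rw [toMul_nsmul, toMul_zero]
      exact Subtype.ext (hNp _ (Additive.toMul x).2)
    have key := fun x => Cfsg.Agent.Perm.UnipotentBound.iterate_and_sum hexp hA f hhr hlt x
    have hcen : h ^ p ^ (r - 1) ∈ Subgroup.centralizer (N : Set G) := by
      rw [Subgroup.mem_centralizer_iff]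
      intro x hx
      have := hf (p ^ (r - 1)) (Additive.ofMul (⟨x, hx⟩ : N))
      rw [(key _).1] at this
      have h' : x = h ^ p ^ (r - 1) * x * (h ^ p ^ (r - 1))⁻¹ := this
      nth_rw 1 [h']
      group
    have hhP : h ^ p ^ (r - 1) = 1 := by
      refine Cfsg.Agent.Perm.eq_one_of_centralizes (Ω := Ω) hcen (ω := α) ?_
      exact Subgroup.pow_mem (MulAction.stabilizer G α) hhα _
    have hgP : g ^ p ^ (r - 1) = 1 := by
      rw [hsum, (key _).2, hhP]
      simp
    have hd := orderOf_dvd_of_pow_eq_one hgP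
    rw [hg, Nat.pow_dvd_pow_iff_le_right hp.one_lt] at hd
    omega
  refine ⟨hmain, fun hrm => ?_⟩
  subst hrm
  refine ⟨?_, fun hp2 => ?_⟩
  · by_contra hc
    obtain ⟨s, rfl⟩ : ∃ s, r = s + 3 := ⟨r - 3, by omega⟩
    have h2 : s + 4 ≤ 2 ^ (s + 2) := by
      have := Nat.lt_two_pow_self (n := s)
      calc s + 4 ≤ 4 * (s + 1) := by omega
        _ ≤ 4 * 2 ^ s := by omega
        _ = 2 ^ (s + 2) := by rw [pow_add]; ring
    have h3 := Nat.pow_le_pow_left hp.two_le (s + 2)
    rw [show s + 3 - 1 = s + 2 by omega] at hmain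
    omega
  · by_contra hc
    obtain ⟨s, rfl⟩ : ∃ s, r = s + 2 := ⟨r - 2, by omega⟩
    have h2 : s + 3 ≤ 3 ^ (s + 1) := by
      have := Nat.lt_pow_self (n := s) (a := 3) (by norm_num)
      rw [pow_succ]
      omega
    have h3 := Nat.pow_le_pow_left (show 3 ≤ p by omega) (s + 1)
    rw [show s + 2 - 1 = s + 1 by omega] at hmain
    omega

end Cfsg.Agent.S3508
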