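import Cfsg.Statements.S3511

-- import your own Cfsg.Agent.* helpers here

set_option autoImplicit false
open Cfsg

namespace Cfsg.Agent.S3511

/-- Let a finite group G act faithfully on a set Ω. If every element of G of square-free order has a regular cycle (an orbit of the cyclic group it generates with trivial stabilizer), then every element of G has a regular cycle. -/
theorem result {G : Type*} [Group G] [Finite G] {Ω : Type*} [MulAction G Ω] [FaithfulSMul G Ω]
    (h : ∀ g : G, Squarefree (orderOf g) → ∃ ω : Ω, MulAction.stabilizer (Subgroup.zpowers g) ω = ⊥) (g : G) :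
    ∃ ω : Ω, MulAction.stabilizer (Subgroup.zpowers g) ω = ⊥ := by
  classical
  let n := orderOf g
  have hn : 0 < n := orderOf_pos g
  let r := ∏ p ∈ n.primeFactors, p
  have hrn : r ∣ n := Nat.prod_primeFactors_dvd n
  have hr0 : 0 < r := Finset.prod_pos fun p hp => (Nat.prime_of_mem_primeFactors hp).pos
  have hrsq : Squarefree r := by
    refine Finset.squarefree_prod_of_pairwise_isCoprime (fun p hp q hq hpq => ?_) fun p hp => ?_
    · exact Nat.coprime_iff_isRelPrime.1 ((Nat.coprime_primes (Nat.prime_of_mem_primeFactors hp)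
        (Nat.prime_of_mem_primeFactors hq)).2 hpq)
    · exact (Nat.prime_of_mem_primeFactors hp).squarefree
  have hord : orderOf (g ^ (n / r)) = r := by
    rw [orderOf_pow_of_dvd (Nat.div_pos (Nat.le_of_dvd hn hrn) hr0).ne' (Nat.div_dvd_of_dvd hrn)]
    exact Nat.div_div_self hrn hn.ne'
  obtain ⟨ω, hω⟩ := h (g ^ (n / r)) (hord.symm ▸ hrsq)
  refine ⟨ω, ?_⟩
  by_contra hne
  let K := MulAction.stabilizer (Subgroup.zpowers g) ω
  have hK : 1 < Nat.card K := by
    have := (Subgroup.one_lt_card_iff_ne_bot K).2 hne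
    exact this
  obtain ⟨p, hp, hpd⟩ := Nat.exists_prime_and_dvd (Nat.ne_of_gt hK)
  have : Fact p.Prime := ⟨hp⟩
  obtain ⟨⟨⟨x, hx⟩, hxω⟩, hxp⟩ := exists_prime_orderOf_dvd_card' p hpd
  rw [Subgroup.orderOf_mk, Subgroup.orderOf_mk] at hxp
  obtain ⟨j, hj⟩ := mem_powers_iff_mem_zpowers.2 hx
  simp only at hj
  subst hj
  have hpn : p ∣ n := hxp ▸ (orderOf_pow_dvd j)
  have hpr : p ∣ r := Finset.dvd_prod_of_mem _ (Nat.mem_primeFactors.2 ⟨hp, hpn, hn.ne'⟩)
  have hd : n ∣ j * p := by
    rw [show n = orderOf g from rfl]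
    apply orderOf_dvd_of_pow_eq_one
    rw [pow_mul, ← hxp, pow_orderOf_eq_one]
  have hdj : n / r ∣ j := by
    obtain ⟨s, hs⟩ := hrn
    obtain ⟨t, ht⟩ := hpr
    rw [hs, Nat.mul_div_cancel_left _ hr0]
    rw [hs, ht, mul_assoc, mul_comm j p] at hd
    exact (Dvd.intro_left t rfl).trans (Nat.dvd_of_mul_dvd_mul_left hp.pos hd)
  obtain ⟨u, hu⟩ := hdj
  have hmem : g ^ j ∈ Subgroup.zpowers (g ^ (n / r)) := by
    rw [hu, pow_mul]
    exact Subgroup.pow_mem _ (Subgroup.mem_zpowers _) u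
  have hst : (⟨g ^ j, hmem⟩ : Subgroup.zpowers (g ^ (n / r))) ∈
      MulAction.stabilizer (Subgroup.zpowers (g ^ (n / r))) ω := hxω
  rw [hω, Subgroup.mem_bot] at hst
  have h1 : g ^ j = 1 := congrArg Subtype.val hst
  rw [h1, orderOf_one] at hxp
  exact hp.one_lt.ne hxp

end Cfsg.Agent.S3511
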