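import Cfsg.Statements.S3514
import Mathlib
-- import your own Cfsg.Agent.* helpers here

set_option autoImplicit false
open Cfsg

namespace Cfsg.Agent.S3514

/-- Let p be a prime, V a finite vector space over the field with p elements, and H a group of linear transformations of V all of whose orbits on V have size coprime to p. (i) Every normal subgroup K of H has all its orbits on V of size coprime to p. (ii) If N is a group of linear transformations of V of order coprime to p that is normalized by H, then the group generated by N and H has all its orbits on V of size coprime to p. -/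
theorem result (p : ℕ) [Fact p.Prime] {V : Type*} [AddCommGroup V] [Module (ZMod p) V] [Finite V]
    (H : Subgroup (V ≃ₗ[ZMod p] V)) (hH : ∀ v : V, ¬ p ∣ Nat.card {u : V | ∃ h ∈ H, h v = u}) :
    (∀ K : Subgroup (V ≃ₗ[ZMod p] V), K ≤ H → H ≤ Subgroup.normalizer (K : Set (V ≃ₗ[ZMod p] V)) →
        ∀ v : V, ¬ p ∣ Nat.card {u : V | ∃ k ∈ K, k v = u}) ∧
    (∀ N : Subgroup (V ≃ₗ[ZMod p] V), ¬ p ∣ Nat.card N → H ≤ Subgroup.normalizer (N : Set (V ≃ₗ[ZMod p] V)) →
        ∀ v : V, ¬ p ∣ Nat.card {u : V | ∃ x ∈ N ⊔ H, x v = u}) := by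
  classical
  have : Finite (V ≃ₗ[ZMod p] V) := Finite.of_injective (fun e => (e : V → V)) DFunLike.coe_injective
  have hp : p.Prime := Fact.out
  have horb : ∀ (H : Subgroup (V ≃ₗ[ZMod p] V)) (v : V),
      Nat.card {u : V | ∃ h ∈ H, h v = u} = (MulAction.stabilizer (V ≃ₗ[ZMod p] V) v).relIndex H := by
    intro H v
    have e : {u : V | ∃ h ∈ H, h v = u} = MulAction.orbit H v := by
      ext u
      constructor
      · rintro ⟨h, hh, rfl⟩; exact ⟨⟨h, hh⟩, rfl⟩
      · rintro ⟨⟨h, hh⟩, rfl⟩; exact ⟨h, hh, rfl⟩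
    rw [e, Nat.card_coe_set_eq, ← MulAction.index_stabilizer]
    rfl
  have key : ∀ {L : Type _} [Group L] [Finite L] (A K : Subgroup L), K.Normal →
      A.relIndex (A ⊔ K) = A.relIndex K := by
    intro L _ _ A K hK
    have hinf : ∀ X Y : Subgroup L, Nat.card ↥(X ⊓ Y) * X.relIndex Y = Nat.card Y := fun X Y => by
      rw [← Nat.card_congr (Subgroup.subgroupOfEquivOfLe (inf_le_right : X ⊓ Y ≤ Y)).toEquiv,
        Subgroup.inf_subgroupOf_right]
      exact Subgroup.card_mul_index _
    have e1 := hinf A K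
    have e2 := hinf K A
    have e3 := hinf A (A ⊔ K)
    have e4 := hinf K (A ⊔ K)
    rw [inf_comm K A] at e2
    rw [inf_eq_left.2 (le_sup_left : A ≤ A ⊔ K)] at e3
    rw [inf_eq_left.2 (le_sup_right : K ≤ A ⊔ K), Subgroup.relIndex_sup_right] at e4
    have hr : K.relIndex A ≠ 0 := fun h => by
      rw [h, Nat.mul_zero] at e2; exact (Nat.card_pos (α := A)).ne' e2.symm
    apply Nat.eq_of_mul_eq_mul_left (show 0 < Nat.card ↥(A ⊓ K) * K.relIndex A from
      Nat.mul_pos Nat.card_pos (Nat.pos_of_ne_zero hr))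
    rw [e2, e3, ← e4, ← e2, ← e1]
    ring
  refine ⟨fun K hKH hnK v => ?_, fun N hN hnN v => ?_⟩
  · intro hd
    refine hH v (hd.trans ?_)
    rw [horb, horb]
    have hKn : (K.subgroupOf H).Normal := (Subgroup.normal_subgroupOf_iff_le_normalizer hKH).2 hnK
    obtain ⟨S, hS⟩ : ∃ S, S = MulAction.stabilizer (V ≃ₗ[ZMod p] V) v := ⟨_, rfl⟩
    rw [← hS]
    have h1 : S.relIndex K = (S.subgroupOf H).relIndex (K.subgroupOf H) :=
      (Subgroup.relIndex_subgroupOf hKH).symm
    have h2 : (S.subgroupOf H).relIndex (K.subgroupOf H) ∣ (S.subgroupOf H).index := by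
      rw [← key _ _ hKn]
      exact Dvd.intro _ (Subgroup.relIndex_mul_index le_sup_left)
    rw [h1]
    exact h2
  · rw [horb]
    obtain ⟨S, hS⟩ : ∃ S, S = MulAction.stabilizer (V ≃ₗ[ZMod p] V) v := ⟨_, rfl⟩
    rw [← hS]
    obtain ⟨L, hL⟩ : ∃ L, L = N ⊔ H := ⟨_, rfl⟩
    rw [← hL]
    have hHL : H ≤ L := hL ▸ le_sup_right
    have hNL : N ≤ L := hL ▸ le_sup_left
    have hnn : (N.subgroupOf L).Normal := (Subgroup.normal_subgroupOf_iff_le_normalizer hNL).2
      (hL ▸ sup_le Subgroup.le_normalizer hnN)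
    intro hd
    obtain ⟨A, hA⟩ : ∃ A, A = S.subgroupOf L := ⟨_, rfl⟩
    have hd' : p ∣ A.index := hA ▸ hd
    rw [← Subgroup.relIndex_mul_index (le_sup_left : A ≤ A ⊔ N.subgroupOf L), key _ _ hnn] at hd'
    rcases (hp.dvd_mul).1 hd' with h | h
    · have h' : p ∣ Nat.card (N.subgroupOf L) := h.trans (Subgroup.index_dvd_card _)
      rw [Nat.card_congr (Subgroup.subgroupOfEquivOfLe hNL).toEquiv] at h'
      exact hN h'
    · obtain ⟨M, hM⟩ : ∃ M, M = A ⊔ N.subgroupOf L := ⟨_, rfl⟩
      rw [← hM] at h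
      have htr : MulAction.IsPretransitive (H.subgroupOf L) (L ⧸ M) := by
        rw [MulAction.isPretransitive_iff_base (QuotientGroup.mk 1)]
        intro q
        induction q using QuotientGroup.induction_on with | H l => ?_
        have hl : l ∈ H.subgroupOf L ⊔ N.subgroupOf L := by
          rw [← Subgroup.subgroupOf_sup hHL hNL, sup_comm, ← hL, Subgroup.subgroupOf_self]
          trivial
        obtain ⟨a, ha, b, hb, rfl⟩ := Subgroup.mem_sup_of_normal_right.1 hl
        refine ⟨⟨a, ha⟩, ?_⟩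
        show (QuotientGroup.mk (a * 1) : L ⧸ M) = QuotientGroup.mk (a * b)
        rw [mul_one, QuotientGroup.eq, inv_mul_cancel_left, hM]
        exact le_sup_right (a := A) hb
      have hidx : M.index = M.relIndex (H.subgroupOf L) := by
        rw [Subgroup.index_eq_card,
          ← MulAction.index_stabilizer_of_transitive (H.subgroupOf L) (QuotientGroup.mk (1 : L) : L ⧸ M)]
        unfold Subgroup.relIndex
        congr 1
        ext a
        rw [MulAction.mem_stabilizer_iff, Subgroup.mem_subgroupOf]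
        show (QuotientGroup.mk ((a : L) * 1) : L ⧸ M) = QuotientGroup.mk 1 ↔ _
        rw [mul_one, QuotientGroup.eq, mul_one, inv_mem_iff]
      rw [hidx] at h
      apply hH v
      rw [horb, ← hS]
      refine h.trans ((Subgroup.relIndex_dvd_of_le_left (H.subgroupOf L) (hM ▸ le_sup_left : A ≤ M)).trans ?_)
      rw [hA, Subgroup.relIndex_subgroupOf hHL]

end Cfsg.Agent.S3514
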