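import Cfsg.Statements.S3515
import Cfsg.Agent.Lib.Perm.AffineClosure
-- import your own Cfsg.Agent.* helpers here

set_option autoImplicit false
open Cfsg

namespace Cfsg.Agent.S3515

/-- Every primitive affine permutation group of degree p² is 3-closed. Let p be a prime and G a group of permutations of the plane V = F_p² consisting of affine maps x ↦ Ax + b, containing all translations, and acting primitively on V. Then any permutation σ of V that agrees on every triple of points with some element of G (σ preserves every G-orbit on ordered triples) already lies in G. -/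
theorem result (p : ℕ) [Fact p.Prime] (G : Subgroup (Equiv.Perm (Fin 2 → ZMod p)))
    (haff : (G : Set (Equiv.Perm (Fin 2 → ZMod p))) ⊆ {τ : Equiv.Perm (Fin 2 → ZMod p) | ∃ (A : (Fin 2 → ZMod p) ≃ₗ[ZMod p] (Fin 2 → ZMod p)) (b : Fin 2 → ZMod p), ∀ x, τ x = A x + b})
    (htrans : ∀ b : Fin 2 → ZMod p, ∃ g ∈ G, ∀ x, g x = x + b) (hprim : MulAction.IsPreprimitive G (Fin 2 → ZMod p))
    (σ : Equiv.Perm (Fin 2 → ZMod p)) (hσ : (∀ t : Fin 3 → (Fin 2 → ZMod p), ∃ g ∈ G, ∀ i, σ (t i) = g (t i))) : σ ∈ G := by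
  classical
  obtain ⟨g, hg, hgt⟩ := hσ ![0, Pi.single 0 1, Pi.single 1 1]
  have h0 : σ 0 = g 0 := hgt 0
  have h1 : σ (Pi.single 0 1) = g (Pi.single 0 1) := hgt 1
  have h2 : σ (Pi.single 1 1) = g (Pi.single 1 1) := hgt 2
  suffices σ = g by rwa [this]
  rcases eq_or_ne p 2 with rfl | hp
  · refine Cfsg.Agent.Perm.AffineClosure.perm_eq_of_agree_card_four (by simp) σ g 0 (Pi.single 0 1)
      (Pi.single 1 1) ?_ ?_ ?_ h0 h1 h2 <;> intro hh <;> first | exact one_ne_zero (congrFun hh 0).symm | exact one_ne_zero (congrFun hh 1).symm | exact one_ne_zero (congrFun hh 0)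
  obtain ⟨A, b, hA⟩ := Cfsg.Agent.Perm.AffineClosure.isAffine_of_triples hp σ fun t => by
    obtain ⟨k, hk, hkt⟩ := hσ t
    exact ⟨k, haff hk, hkt⟩
  obtain ⟨B, c, hB⟩ := haff hg
  have hbc : b = c := by
    have := h0
    rwa [hA, hB, map_zero, map_zero, zero_add, zero_add] at this
  have hAB : (A : (Fin 2 → ZMod p) →ₗ[ZMod p] (Fin 2 → ZMod p)) = B := by
    refine (Pi.basisFun (ZMod p) (Fin 2)).ext fun i => ?_
    rw [Pi.basisFun_apply]
    fin_cases i
    · have := h1
      rw [hA, hB, hbc] at this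
      exact add_right_cancel this
    · have := h2
      rw [hA, hB, hbc] at this
      exact add_right_cancel this
  refine Equiv.ext fun x => ?_
  rw [hA, hB, hbc]
  exact congrArg (· + c) (LinearMap.congr_fun hAB x)

end Cfsg.Agent.S3515
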