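import Cfsg.Statements.S3516
import Cfsg.Agent.Lib.Perm.AffineClosure
-- import your own Cfsg.Agent.* helpers here

set_option autoImplicit false
open Cfsg

namespace Cfsg.Agent.S3516

/-- Let p be an odd prime, d ≥ 3, and G a group of affine permutations x ↦ Ax + b of V = F_p^d containing all translations and all maps x ↦ Ax with A of determinant 1. Then the 3-closure of G is the full affine group: a permutation σ of V agrees on every triple of points with some element of G if and only if σ is an affine map. -/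
theorem result (p : ℕ) [Fact p.Prime] (hp : p ≠ 2) (d : ℕ) (hd : 3 ≤ d) (G : Subgroup (Equiv.Perm (Fin d → ZMod p)))
    (haff : (G : Set (Equiv.Perm (Fin d → ZMod p))) ⊆ {τ : Equiv.Perm (Fin d → ZMod p) | ∃ (A : (Fin d → ZMod p) ≃ₗ[ZMod p] (Fin d → ZMod p)) (b : Fin d → ZMod p), ∀ x, τ x = A x + b})
    (htrans : ∀ b : Fin d → ZMod p, ∃ g ∈ G, ∀ x, g x = x + b)
    (hsl : ∀ A : (Fin d → ZMod p) ≃ₗ[ZMod p] (Fin d → ZMod p), LinearMap.det (A : (Fin d → ZMod p) →ₗ[ZMod p] (Fin d → ZMod p)) = 1 → ∃ g ∈ G, ∀ x, g x = A x)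
    (σ : Equiv.Perm (Fin d → ZMod p)) :
    (∀ t : Fin 3 → (Fin d → ZMod p), ∃ g ∈ G, ∀ i, σ (t i) = g (t i)) ↔ σ ∈ {τ : Equiv.Perm (Fin d → ZMod p) | ∃ (A : (Fin d → ZMod p) ≃ₗ[ZMod p] (Fin d → ZMod p)) (b : Fin d → ZMod p), ∀ x, τ x = A x + b} := by
  constructor
  · intro h
    refine Cfsg.Agent.Perm.AffineClosure.isAffine_of_triples hp σ fun t => ?_
    obtain ⟨g, hg, hgt⟩ := h t
    exact ⟨g, haff hg, hgt⟩
  · rintro ⟨A, b, hAb⟩ t
    obtain ⟨W, hWdef⟩ : ∃ W, W = Submodule.span (ZMod p) ({t 1 - t 0, t 2 - t 0} : Set (Fin d → ZMod p)) :=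
      ⟨_, rfl⟩
    have hW : W ≠ ⊤ := by
      classical
      intro htop
      have h1 := finrank_span_le_card (R := ZMod p) ({t 1 - t 0, t 2 - t 0} : Set (Fin d → ZMod p))
      rw [← hWdef, htop, finrank_top, Module.finrank_fin_fun, Set.toFinset_insert, Set.toFinset_singleton] at h1
      have := h1.trans Finset.card_le_two
      omega
    obtain ⟨A₀, hdet, hA₀⟩ := Cfsg.Agent.Perm.AffineClosure.exists_det_one A W hW
    obtain ⟨g₁, hg₁, hg₁'⟩ := hsl A₀ hdet
    obtain ⟨g₀, hg₀, hg₀'⟩ := htrans (A (t 0) - A₀ (t 0) + b)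
    refine ⟨g₀ * g₁, G.mul_mem hg₀ hg₁, fun i => ?_⟩
    rw [Equiv.Perm.mul_apply, hg₀', hg₁', hAb]
    have hmem : t i - t 0 ∈ W := by
      fin_cases i
      · simp
      · rw [hWdef]; exact Submodule.subset_span (by simp)
      · rw [hWdef]; exact Submodule.subset_span (by simp)
    have := hA₀ _ hmem
    rw [map_sub, map_sub] at this
    rw [← sub_add_cancel (A (t i)) (A (t 0)), ← this]
    abel

end Cfsg.Agent.S3516
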