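import Cfsg.Statements.S3517
import Mathlib
-- import your own Cfsg.Agent.* helpers here

set_option autoImplicit false
open Cfsg

namespace Cfsg.Agent.S3517

/-- For d ≥ 3, the 3-closure of the affine group AGL_d(2) acting on F_2^d is the full symmetric group: every permutation of F_2^d agrees on every ordered triple of points with some affine map (AGL_d(2) is 3-transitive). -/
theorem result (d : ℕ) (hd : 3 ≤ d) (σ : Equiv.Perm (Fin d → ZMod 2)) (t : Fin 3 → (Fin d → ZMod 2)) :
    ∃ (A : (Fin d → ZMod 2) ≃ₗ[ZMod 2] (Fin d → ZMod 2)) (b : Fin d → ZMod 2), ∀ i, σ (t i) = A (t i) + b := by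
  classical
  have h2 : ∀ x : Fin d → ZMod 2, x + x = 0 := fun x => funext fun i => CharTwo.add_self_eq_zero (x i)
  have move : ∀ v u w : Fin d → ZMod 2, u ∉ Submodule.span (ZMod 2) {v, u + w} →
      ∃ A : (Fin d → ZMod 2) ≃ₗ[ZMod 2] (Fin d → ZMod 2), A v = v ∧ A u = w := by
    intro v u w hu
    obtain ⟨φ, hφu, hφ⟩ := Submodule.exists_dual_map_eq_bot_of_notMem hu inferInstance
    have hker : ∀ z ∈ Submodule.span (ZMod 2) {v, u + w}, φ z = 0 := fun z hz => by
      have hz' : φ z ∈ (Submodule.span (ZMod 2) {v, u + w}).map φ := ⟨z, hz, rfl⟩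
      rw [hφ] at hz'
      exact (Submodule.mem_bot _).1 hz'
    have hv : φ v = 0 := hker v (Submodule.subset_span (by simp))
    have huw : φ (u + w) = 0 := hker _ (Submodule.subset_span (by simp))
    have hu1 : φ u = 1 := by
      generalize φ u = c at hφu
      revert hφu; revert c; decide
    let f : (Fin d → ZMod 2) →ₗ[ZMod 2] (Fin d → ZMod 2) :=
      LinearMap.id + φ.smulRight (u + w)
    have hinv : ∀ x, f (f x) = x := by
      intro x
      show x + φ x • (u + w) + φ (x + φ x • (u + w)) • (u + w) = x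
      rw [map_add, map_smul, huw, smul_zero, add_zero, add_assoc, h2, add_zero]
    refine ⟨LinearEquiv.ofBijective f (Function.Involutive.bijective hinv), ?_, ?_⟩
    · show v + φ v • (u + w) = v
      simp [hv]
    · show u + φ u • (u + w) = w
      rw [hu1, one_smul, ← add_assoc, h2, zero_add]
  have zmod2 : ∀ c : ZMod 2, c = 0 ∨ c = 1 := by decide
  have eqz : ∀ x y : Fin d → ZMod 2, x + y = 0 ↔ x = y := fun x y => by
    constructor
    · intro h; rw [← add_zero x, ← h2 y, ← add_assoc, h, zero_add]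
    · rintro rfl; exact h2 x
  have one : ∀ v u w : Fin d → ZMod 2, u ≠ 0 → w ≠ 0 → u ≠ v → w ≠ v →
      ∃ A : (Fin d → ZMod 2) ≃ₗ[ZMod 2] (Fin d → ZMod 2), A v = v ∧ A u = w := by
    intro v u w hu hw huv hwv
    refine move v u w fun h => ?_
    obtain ⟨a, b, hab⟩ := Submodule.mem_span_pair.1 h
    rcases zmod2 a with rfl | rfl <;> rcases zmod2 b with rfl | rfl
    · simp at hab; exact hu hab.symm
    · simp at hab; exact hw hab
    · simp at hab; exact huv hab.symm
    · simp only [one_smul] at hab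
      apply hwv
      have : v + w = 0 := by
        have h' : v + (u + w) + u = 0 := by rw [hab]; exact h2 u
        rw [show v + (u + w) + u = v + w + (u + u) by abel, h2, add_zero] at h'
        exact h'
      exact ((eqz v w).1 this).symm
  -- linear equivalence for two vectors with the same equality pattern
  have two : ∀ u u' w w' : Fin d → ZMod 2, (u = 0 ↔ w = 0) → (u' = 0 ↔ w' = 0) → (u = u' ↔ w = w') →
      ∃ A : (Fin d → ZMod 2) ≃ₗ[ZMod 2] (Fin d → ZMod 2), A u = w ∧ A u' = w' := by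
    intro u u' w w' e1 e2 e3
    obtain ⟨A, hA⟩ : ∃ A : (Fin d → ZMod 2) ≃ₗ[ZMod 2] (Fin d → ZMod 2), A u = w := by
      by_cases hu : u = 0
      · exact ⟨LinearEquiv.refl _ _, by simp [hu, e1.1 hu]⟩
      · obtain ⟨A, -, hA⟩ := one 0 u w hu (fun h => hu (e1.2 h)) hu (fun h => hu (e1.2 h))
        exact ⟨A, hA⟩
    have i1 : A u' = 0 ↔ w' = 0 := (map_eq_zero_iff A A.injective).trans e2
    have i2 : A u' = w ↔ w' = w := by
      rw [← hA, A.injective.eq_iff, eq_comm, e3, eq_comm, hA]
    by_cases hu' : w' = 0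
    · exact ⟨A, hA, by rw [i1.2 hu', hu']⟩
    by_cases hww : w' = w
    · exact ⟨A, hA, by rw [i2.2 hww, hww]⟩
    obtain ⟨B, hBw, hB⟩ := one w (A u') w' (fun h => hu' (i1.1 h)) hu' (fun h => hww (i2.1 h)) hww
    exact ⟨A.trans B, by simp [hA, hBw], by simp [hB]⟩
  obtain ⟨A, hA1, hA2⟩ := two (t 1 + t 0) (t 2 + t 0) (σ (t 1) + σ (t 0)) (σ (t 2) + σ (t 0))
    (by rw [eqz, eqz, σ.injective.eq_iff]) (by rw [eqz, eqz, σ.injective.eq_iff])
    (by rw [add_left_inj, add_left_inj, σ.injective.eq_iff])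
  refine ⟨A, A (t 0) + σ (t 0), fun i => ?_⟩
  fin_cases i
  · show σ (t 0) = A (t 0) + (A (t 0) + σ (t 0))
    rw [← add_assoc, h2, zero_add]
  · show σ (t 1) = A (t 1) + (A (t 0) + σ (t 0))
    rw [← add_assoc, ← map_add, hA1, add_assoc, h2, add_zero]
  · show σ (t 2) = A (t 2) + (A (t 0) + σ (t 0))
    rw [← add_assoc, ← map_add, hA2, add_assoc, h2, add_zero]

end Cfsg.Agent.S3517
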