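import Cfsg.Statements.S3518
import Mathlib
import Cfsg.Agent.Lib.Perm.PrimeDegree
-- import your own Cfsg.Agent.* helpers here

set_option autoImplicit false
open Cfsg

namespace Cfsg.Agent.S3518

/-- Closures of subgroups of the one-dimensional affine group. Let p be a prime and G a group of permutations of F_p lying in the affine group AGL₁(p) = {x ↦ ax + b, a ≠ 0} and containing all translations. (1) If G is a proper subgroup of AGL₁(p), then G is 2-closed: a permutation of F_p agreeing on every ordered pair of points with some element of G lies in G. (2) Every permutation of F_p agrees on every ordered pair with some element of AGL₁(p) (the 2-closure of AGL₁(p) is the symmetric group). (3) AGL₁(p) is 3-closed: a permutation agreeing on every ordered triple with some affine map is affine. -/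
theorem result (p : ℕ) [Fact p.Prime] (G : Subgroup (Equiv.Perm (ZMod p))) (hG : G ≤ Cfsg.affineGroup (ZMod p))
    (htrans : ∀ b : ZMod p, ∃ g ∈ G, ∀ x, g x = x + b) :
    (G ≠ Cfsg.affineGroup (ZMod p) → ∀ σ : Equiv.Perm (ZMod p), (∀ t : Fin 2 → ZMod p, ∃ g ∈ G, ∀ i, σ (t i) = g (t i)) → σ ∈ G) ∧
    (∀ σ : Equiv.Perm (ZMod p), (∀ t : Fin 2 → ZMod p, ∃ g ∈ Cfsg.affineGroup (ZMod p), ∀ i, σ (t i) = g (t i))) ∧
    (∀ σ : Equiv.Perm (ZMod p), (∀ t : Fin 3 → ZMod p, ∃ g ∈ Cfsg.affineGroup (ZMod p), ∀ i, σ (t i) = g (t i)) → σ ∈ Cfsg.affineGroup (ZMod p)) := by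
  have hp : p.Prime := Fact.out
  have mk : ∀ (a b : ZMod p), a ≠ 0 → ∃ g ∈ Cfsg.affineGroup (ZMod p), ∀ x, g x = a * x + b := by
    intro a b ha
    refine ⟨⟨fun x => a * x + b, fun y => a⁻¹ * (y - b), fun x => ?_, fun y => ?_⟩,
      ⟨Units.mk0 a ha, b, fun x => rfl⟩, fun x => rfl⟩
    · field_simp; ring
    · field_simp; ring
  refine ⟨?_, ?_, ?_⟩
  · intro hne σ hσ
    let K : Subgroup (ZMod p)ˣ :=
      { carrier := {a | ∃ g ∈ G, ∃ b, ∀ x, g x = (a : ZMod p) * x + b}
        one_mem' := ⟨1, G.one_mem, 0, fun x => by simp⟩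
        mul_mem' := by
          rintro a c ⟨g, hg, b, e⟩ ⟨h, hh, d, e'⟩
          refine ⟨g * h, G.mul_mem hg hh, (a : ZMod p) * d + b, fun x => ?_⟩
          rw [Equiv.Perm.mul_apply, e, e', Units.val_mul]
          ring
        inv_mem' := by
          rintro a ⟨g, hg, b, e⟩
          refine ⟨g⁻¹, G.inv_mem hg, -((a⁻¹ : (ZMod p)ˣ) : ZMod p) * b, fun x => ?_⟩
          rw [Equiv.Perm.inv_eq_iff_eq, e]
          linear_combination (x - b) * (a.mul_inv).symm }
    have hmem : ∀ (g : Equiv.Perm (ZMod p)) (a : (ZMod p)ˣ) (b : ZMod p), a ∈ K →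
        (∀ x, g x = (a : ZMod p) * x + b) → g ∈ G := by
      rintro g a b ⟨h, hh, d, e⟩ hg
      obtain ⟨τ, hτ, eτ⟩ := htrans (b - d)
      have : g = τ * h := Equiv.ext fun x => by rw [hg, Equiv.Perm.mul_apply, eτ, e]; ring
      exact this ▸ G.mul_mem hτ hh
    have hK : K ≠ ⊤ := by
      intro h
      apply hne
      refine le_antisymm hG ?_
      rintro g ⟨a, b, hg⟩
      exact hmem g a b (h ▸ Subgroup.mem_top a) hg
    have hcard : 2 * Nat.card K < p := by
      have h1 := K.card_mul_index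
      have h2 : K.index ≠ 1 := fun h => hK (Subgroup.index_eq_one.1 h)
      have h3 : K.index ≠ 0 := Subgroup.index_ne_zero_of_finite
      rw [Nat.card_units (ZMod p), Nat.card_zmod] at h1
      have h4 : Nat.card K * 2 ≤ Nat.card K * K.index := Nat.mul_le_mul_left _ (by omega)
      have := hp.pos
      omega
    classical
    let U : Finset (ZMod p) := (Finset.univ.filter fun a : (ZMod p)ˣ => a ∈ K).image Units.val
    have hU : U.card = Nat.card K := by
      rw [Finset.card_image_of_injective _ Units.val_injective, Nat.card_eq_fintype_card,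
        Fintype.card_subtype]
    have hUmem : ∀ a : ZMod p, a ∈ U ↔ ∃ u : (ZMod p)ˣ, u ∈ K ∧ (u : ZMod p) = a := fun a => by
      simp [U, Units.exists_iff_ne_zero]
    have hdiff : ∀ i, ∀ u ∈ U, σ (i + u) - σ i ∈ U := by
      intro i u hu
      obtain ⟨u', hu', rfl⟩ := (hUmem u).1 hu
      obtain ⟨g, hg, e⟩ := hσ ![i + (u' : ZMod p), i]
      obtain ⟨a, b, hab⟩ := hG hg
      have e0 := e 0
      have e1 := e 1
      simp only [Matrix.cons_val_zero, Matrix.cons_val_one] at e0 e1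
      refine (hUmem _).2 ⟨a * u', K.mul_mem ⟨g, hg, b, hab⟩ hu', ?_⟩
      rw [e0, e1, hab, hab, Units.val_mul]
      ring
    have h1U : (1 : ZMod p) ∈ U := (hUmem 1).2 ⟨1, K.one_mem, rfl⟩
    have hlin := Cfsg.Agent.Perm.muller σ U (fun h => by
      obtain ⟨u, -, hu⟩ := (hUmem 0).1 h
      exact u.ne_zero hu) ⟨1, h1U⟩ (by rw [hU]; exact hcard) hdiff σ.injective
    obtain ⟨a, ha, ea⟩ := (hUmem _).1 (hdiff 0 1 h1U)
    rw [zero_add] at ea
    exact hmem σ a (σ 0) ha fun x => by rw [hlin x, ea]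
  · intro σ t
    by_cases h : t 0 = t 1
    · obtain ⟨g, hg, e⟩ := mk 1 (σ (t 0) - t 0) one_ne_zero
      refine ⟨g, hg, Fin.forall_fin_two.2 ⟨?_, ?_⟩⟩
      · rw [e]; ring
      · rw [← h, e]; ring
    · have hd : t 1 - t 0 ≠ 0 := sub_ne_zero.2 (Ne.symm h)
      obtain ⟨g, hg, e⟩ := mk ((σ (t 1) - σ (t 0)) / (t 1 - t 0))
        (σ (t 0) - (σ (t 1) - σ (t 0)) / (t 1 - t 0) * t 0)
        (div_ne_zero (sub_ne_zero.2 fun he => h (σ.injective he).symm) hd)
      refine ⟨g, hg, Fin.forall_fin_two.2 ⟨?_, ?_⟩⟩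
      · rw [e]; ring
      · rw [e]
        have h5 : (σ (t 1) - σ (t 0)) / (t 1 - t 0) * (t 1 - t 0) = σ (t 1) - σ (t 0) :=
          div_mul_cancel₀ _ hd
        linear_combination -h5
  · intro σ hσ
    obtain ⟨g, hg, e⟩ := mk (σ 1 - σ 0) (σ 0)
      (sub_ne_zero.2 fun h => one_ne_zero (σ.injective h))
    have : σ = g := Equiv.ext fun x => by
      obtain ⟨k, hk, ek⟩ := hσ ![0, 1, x]
      obtain ⟨a, b, hab⟩ := hk
      have e0 := ek 0
      have e1 := ek 1
      have e2 := ek 2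
      simp only [Matrix.cons_val, hab] at e0 e1 e2
      rw [e]
      linear_combination e2 - x * e1 - (1 - x) * e0
    exact this ▸ hg

end Cfsg.Agent.S3518
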