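import Cfsg.Statements.S3521
import Cfsg.Agent.Lib.Perm.ExtremelyPrimitive.Comp
import Mathlib.GroupTheory.GroupAction.Primitive

set_option autoImplicit false
open Cfsg

namespace Cfsg.Agent.S3521

/-- Let a finite group G that is not solvable act faithfully and primitively on a finite set with p ^ d points (p prime), with a non-trivial abelian normal subgroup acting regularly (affine type) and with non-trivial point stabilizers each acting primitively on every one of its orbits (an insoluble extremely primitive group of affine type). Then p = 2; and if moreover G is not 2-transitive, then a point stabilizer is almost simple (it has a non-abelian simple normal subgroup with trivial centralizer). -/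
theorem result {G : Type*} [Group G] [Finite G] {Ω : Type*} [Fintype Ω] [MulAction G Ω] [FaithfulSMul G Ω] (p d : ℕ) (hp : p.Prime) (hcard : Fintype.card Ω = p ^ d) (hsol : ¬ Group.IsSolvable G)
    (N : Subgroup G) [N.Normal] (hN : N ≠ ⊥) (hNc : IsMulCommutative N) (hNreg : ∀ ω : Ω, MulAction.stabilizer N ω = ⊥)
    (hprim : MulAction.IsPreprimitive G Ω) (hH : ∀ α : Ω, MulAction.stabilizer G α ≠ ⊥) (hep : ∀ (α : Ω) (ω : Ω), MulAction.IsPreprimitive (MulAction.stabilizer G α) (MulAction.orbit (MulAction.stabilizer G α) ω)) (α : Ω) :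
    p = 2 ∧ (¬ MulAction.IsMultiplyPretransitive G Ω 2 → ∃ T : Subgroup (MulAction.stabilizer G α), T.Normal ∧ IsSimpleGroup T ∧ ¬ IsMulCommutative T ∧ Subgroup.centralizer (T : Set (MulAction.stabilizer G α)) = ⊥) := by
  classical
  haveI := hprim
  have hreg : ∀ n : ↥N, ∀ ω : Ω, (n : G) • ω = ω → n = 1 := fun n ω h =>
    Subgroup.mem_bot.1 (hNreg ω ▸ (show n ∈ MulAction.stabilizer N ω from h))
  have htransN : ∀ M : Subgroup G, M.Normal → M ≠ ⊥ → MulAction.IsPretransitive ↥M Ω := fun M hM hne => by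
    refine MulAction.IsQuasiPreprimitive.isPretransitive_of_normal fun h => hne ((Subgroup.eq_bot_iff_forall M).2
      fun m hm => FaithfulSMul.eq_of_smul_eq_smul fun ω : Ω => ?_)
    rw [one_smul]
    exact (Set.eq_univ_iff_forall.1 h ω) ⟨m, hm⟩
  haveI := htransN N ‹_› hN
  have hdec : ∀ g : G, ∃ n : ↥N, ∃ h : ↥(MulAction.stabilizer G α), g = n * h := fun g => by
    obtain ⟨n, hn⟩ := MulAction.exists_smul_eq ↥N α (g • α)
    refine ⟨n, ⟨(n : G)⁻¹ * g, ?_⟩, (mul_inv_cancel_left _ _).symm⟩
    rw [MulAction.mem_stabilizer_iff, mul_smul, ← hn, Subgroup.smul_def, inv_smul_smul]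
  letI : CommGroup ↥N := { (inferInstance : Group ↥N) with mul_comm := fun a b => hNc.is_comm.comm a b }
  let ρ : ↥(MulAction.stabilizer G α) →* MulAut ↥N :=
    (MulAut.conjNormal : G →* MulAut ↥N).comp (MulAction.stabilizer G α).subtype
  have hρ : ∀ (h : ↥(MulAction.stabilizer G α)) (w : ↥N), ((ρ h w : ↥N) : G) = h * w * (h : G)⁻¹ := fun h w =>
    MulAut.conjNormal_apply _ _
  have hact : ∀ (h : ↥(MulAction.stabilizer G α)) (w : ↥N), ((ρ h w : ↥N) : G) • α = (h : G) • (w : G) • α :=
    fun h w => by rw [hρ, mul_smul, mul_smul, inv_smul_eq_iff.2 (h.2 : (h : G) • α = α).symm]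
  have hfaith : ∀ h, (∀ w, ρ h w = w) → h = 1 := fun h hh => Subtype.ext (FaithfulSMul.eq_of_smul_eq_smul
    fun ω : Ω => by
      obtain ⟨n, hn⟩ := MulAction.exists_smul_eq ↥N α ω
      rw [OneMemClass.coe_one, one_smul, ← hn, Subgroup.smul_def, ← hact, hh])
  have hirred : ∀ W : Subgroup ↥N, (∀ h, ∀ w ∈ W, ρ h w ∈ W) → W = ⊥ ∨ W = ⊤ := fun W hW => by
    rcases eq_or_ne W ⊥ with e | e
    · exact Or.inl e
    refine Or.inr (eq_top_iff.2 fun n _ => ?_)
    haveI := htransN (W.map N.subtype) ⟨fun x hx g => by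
      obtain ⟨w, hw, rfl⟩ := hx
      obtain ⟨m, h, rfl⟩ := hdec g
      refine ⟨m * ρ h w * m⁻¹, by rw [mul_comm m, mul_inv_cancel_right]; exact hW h w hw, ?_⟩
      rw [Subgroup.subtype_apply, Subgroup.subtype_apply, Subgroup.coe_mul, Subgroup.coe_mul, hρ, Subgroup.coe_inv]
      group⟩ (fun h => e ((Subgroup.map_eq_bot_iff_of_injective W N.subtype_injective).1 h))
    obtain ⟨⟨w, v, hv, rfl⟩, hwn⟩ := MulAction.exists_smul_eq ↥(W.map N.subtype) α ((n : G) • α)
    have h1 : n⁻¹ * v = 1 := hreg _ α (by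
      rw [Subgroup.coe_mul, mul_smul, show (v : G) • α = (n : G) • α from hwn, Subgroup.coe_inv, inv_smul_smul])
    rw [inv_mul_eq_one.1 h1]
    exact hv
  have hexp : ∀ w : ↥N, w ^ p = 1 := by
    haveI : Fact p.Prime := ⟨hp⟩
    have hbij : Function.Bijective fun n : ↥N => (n : G) • α := ⟨fun a b hab => by
      refine (inv_mul_eq_one.1 (hreg (a⁻¹ * b) α ?_))
      rw [Subgroup.coe_mul, mul_smul, show (b : G) • α = (a : G) • α from hab.symm, Subgroup.coe_inv, inv_smul_smul],
      fun ω => MulAction.exists_smul_eq ↥N α ω⟩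
    have hc : Nat.card ↥N = p ^ d := by rw [Nat.card_eq_of_bijective _ hbij, Nat.card_eq_fintype_card, hcard]
    have hdvd : p ∣ Nat.card ↥N := by
      rw [hc]
      refine dvd_pow_self p fun e => hN (Subgroup.card_eq_one.1 ?_)
      rw [hc, e, pow_zero]
    obtain ⟨n0, hn0⟩ := exists_prime_orderOf_dvd_card' p hdvd
    let W : Subgroup ↥N := (powMonoidHom p).ker
    rcases hirred W (fun h w hw => by
      show (ρ h w) ^ p = 1
      rw [← map_pow, show w ^ p = 1 from hw, map_one]) with e | e
    · have h1 : n0 ∈ W := show n0 ^ p = 1 from hn0 ▸ pow_orderOf_eq_one n0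
      rw [e, Subgroup.mem_bot] at h1
      rw [h1, orderOf_one] at hn0
      exact absurd hn0.symm hp.ne_one
    · exact fun w => (e ▸ Subgroup.mem_top w : w ∈ W)
  have hinsol : ¬ Group.IsSolvable ↥(MulAction.stabilizer G α) := fun hs => hsol (by
    haveI : Group.IsSolvable ↥N := Group.isSolvable_of_comm fun a b => mul_comm a b
    haveI : Group.IsSolvable (G ⧸ N) :=
      Group.isSolvable_of_surjective (f := (QuotientGroup.mk' N).comp (MulAction.stabilizer G α).subtype) fun q => by
        obtain ⟨g, rfl⟩ := QuotientGroup.mk_surjective q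
        obtain ⟨n, h, rfl⟩ := hdec g
        refine ⟨h, ?_⟩
        show ((h : G) : G ⧸ N) = ((n : G) * h : G)
        rw [QuotientGroup.eq]
        simpa [mul_assoc] using (inferInstance : N.Normal).conj_mem _ n.2 (h : G)⁻¹
    exact Group.isSolvable_of_ker_le_range N.subtype (QuotientGroup.mk' N) (by
      rw [QuotientGroup.ker_mk', Subgroup.range_subtype]))
  have hmaxl : ∀ w : ↥N, w ≠ 1 → ∀ K : Subgroup ↥(MulAction.stabilizer G α), (∀ h, ρ h w = w → h ∈ K) →
      (∀ h ∈ K, ρ h w = w) ∨ K = ⊤ := fun w _ K hK => by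
    have hiff : ∀ h, ρ h w = w ↔ h • ((w : G) • α) = (w : G) • α := fun h => by
      rw [Subgroup.smul_def]
      refine ⟨fun e => by rw [← hact, e], fun e => ?_⟩
      have h1 : w⁻¹ * ρ h w = 1 := hreg _ α (by
        rw [Subgroup.coe_mul, mul_smul, hact, e, Subgroup.coe_inv, inv_smul_smul])
      exact (inv_mul_eq_one.1 h1).symm
    by_cases hfix : ∀ h, ρ h w = w
    · exact Or.inl fun h _ => hfix h
    push Not at hfix
    obtain ⟨h0, hh0⟩ := hfix
    haveI := hep α ((w : G) • α)
    let o : MulAction.orbit ↥(MulAction.stabilizer G α) ((w : G) • α) := ⟨_, MulAction.mem_orbit_self _⟩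
    haveI : Nontrivial (MulAction.orbit ↥(MulAction.stabilizer G α) ((w : G) • α)) :=
      ⟨⟨h0 • o, o, fun e => hh0 ((hiff h0).2 (congrArg Subtype.val e))⟩⟩
    have hco := (MulAction.isCoatom_stabilizer_iff_preprimitive
      (G := ↥(MulAction.stabilizer G α)) o).2 inferInstance
    have hle : MulAction.stabilizer ↥(MulAction.stabilizer G α) o ≤ K := fun h hh =>
      hK h ((hiff h).2 (congrArg Subtype.val hh))
    rcases hco.le_iff.1 hle with e | e
    · exact Or.inr e
    · refine Or.inl fun h hh => (hiff h).2 ?_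
      rw [e] at hh
      exact congrArg Subtype.val hh
  let D : Cfsg.Agent.Perm.ExtPrim.Mdl ↥(MulAction.stabilizer G α) ↥N := ⟨ρ, hfaith, hirred, hmaxl, hinsol⟩
  have hp2 : p = 2 := D.char_two hp hexp
  exact ⟨hp2, fun _ => D.almost_simple fun w => by rw [← pow_two, ← hp2]; exact hexp w⟩

end Cfsg.Agent.S3521
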