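import Cfsg.Statements.S3524

-- import your own Cfsg.Agent.* helpers here

set_option autoImplicit false
open Cfsg

namespace Cfsg.Agent.S3524

/-- A permutation group with a base is closed at one level above the base size. Let G be a group of permutations of a set Ω and suppose some k points α₁, …, α_k are fixed simultaneously only by the identity of G (a base of size k). Then G is (k+1)-closed: a permutation of Ω that agrees on every (k+1)-tuple of points with some element of G belongs to G. -/
theorem result {Ω : Type*} (G : Subgroup (Equiv.Perm Ω)) (k : ℕ) (α : Fin k → Ω)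
    (hbase : ∀ g ∈ G, (∀ i, g (α i) = α i) → g = 1) (σ : Equiv.Perm Ω)
    (hσ : ∀ t : Fin (k + 1) → Ω, ∃ g ∈ G, ∀ i, σ (t i) = g (t i)) : σ ∈ G := by
  rcases isEmpty_or_nonempty Ω with hΩ | hΩ
  · rw [Subsingleton.elim σ 1]
    exact G.one_mem
  obtain ⟨ω⟩ := hΩ
  have H : ∀ x : Ω, ∃ g ∈ G, (∀ i, σ (α i) = g (α i)) ∧ σ x = g x := by
    intro x
    obtain ⟨g, hg, h⟩ := hσ (Fin.cons x α)
    exact ⟨g, hg, fun i => by simpa using h i.succ, by simpa using h 0⟩
  obtain ⟨g, hg, hgα, -⟩ := H ω
  suffices σ = g by rwa [this]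
  ext x
  obtain ⟨k', hk', hkα, hx⟩ := H x
  have : g⁻¹ * k' = 1 := hbase _ (Subgroup.mul_mem _ (Subgroup.inv_mem _ hg) hk') fun i => by
    rw [Equiv.Perm.mul_apply, ← hkα i, hgα i]
    exact g.symm_apply_apply _
  rw [hx, ← inv_mul_eq_one.1 this]

end Cfsg.Agent.S3524
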