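import Cfsg.Statements.S3532
import Mathlib
import Cfsg.Agent.Lib.Lie.FieldFrobenius
import Cfsg.Agent.Lib.Small.SL2.Orders
-- import your own Cfsg.Agent.* helpers here

set_option autoImplicit false
open Cfsg

namespace Cfsg.Agent.S3532

/-- Let q ≥ 4 be a prime power and L = PSL(2,q). There is a finite solvable group with the same set of element orders as L × L (so L × L is not determined by its spectrum). -/
theorem result {F : Type*} [Field F] [Fintype F] (hF : 4 ≤ Fintype.card F) :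
    ∃ (H : Type) (_ : Group H) (_ : Finite H), Group.IsSolvable H ∧
      Set.range (orderOf : H → ℕ) = Set.range (orderOf : Matrix.ProjectiveSpecialLinearGroup (Fin 2) F × Matrix.ProjectiveSpecialLinearGroup (Fin 2) F → ℕ) := by
  classical
  obtain ⟨p, hchar⟩ := CharP.exists F
  haveI := hchar
  obtain ⟨n, hp, hcard⟩ := FiniteField.card F p
  haveI : Fact p.Prime := ⟨hp⟩
  have hn : (n : ℕ) ≠ 0 := n.pos.ne'
  have hE1 : Nat.card (GaloisField p n) - 1 = Fintype.card F - 1 := by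
    rw [GaloisField.card p n hn, hcard]
  have hE2 : Nat.card (GaloisField p (2 * n)) - 1 = Fintype.card F ^ 2 - 1 := by
    rw [GaloisField.card p (2 * n) (by omega), hcard, ← pow_mul, mul_comm]
  set d := Nat.gcd 2 (Fintype.card F - 1) with hddef
  set A := (Fintype.card F - 1) / d with hA
  set B := (Fintype.card F + 1) / d with hB
  have hd2 : d ∣ 2 := Nat.gcd_dvd_left _ _
  have hdA : d ∣ Fintype.card F - 1 := Nat.gcd_dvd_right _ _
  have hdB : d ∣ Fintype.card F + 1 := by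
    rw [show Fintype.card F + 1 = (Fintype.card F - 1) + 2 by omega]
    exact Nat.dvd_add hdA hd2
  obtain ⟨c₁, hc₁⟩ := Cfsg.Agent.Lie.FieldFrobenius.exists_unit (E := GaloisField p n) (d := A)
    (by rw [hE1]; exact Nat.div_dvd_of_dvd hdA)
  obtain ⟨c₂, hc₂⟩ := Cfsg.Agent.Lie.FieldFrobenius.exists_unit (E := GaloisField p (2 * n)) (d := B)
    (by
      rw [hE2]
      refine (Nat.div_dvd_of_dvd hdB).trans ⟨Fintype.card F - 1, ?_⟩
      rw [show Fintype.card F ^ 2 - 1 = Fintype.card F ^ 2 - 1 ^ 2 by rw [one_pow], Nat.sq_sub_sq])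
  haveI := Cfsg.Agent.Lie.FieldFrobenius.solvable (Subgroup.zpowers c₁)
  haveI := Cfsg.Agent.Lie.FieldFrobenius.solvable (Subgroup.zpowers c₂)
  refine ⟨Cfsg.Agent.Lie.FieldFrobenius.Grp (Subgroup.zpowers c₁) ×
    Cfsg.Agent.Lie.FieldFrobenius.Grp (Subgroup.zpowers c₂), inferInstance, inferInstance, inferInstance, ?_⟩
  have hy := Cfsg.Agent.Small.SL2C.orderOf_dvd (F := F) p
  have hx := Cfsg.Agent.Small.SL2C.order_exists (F := F) p hF
  rw [← hA, ← hB] at hy hx
  have ex : ∀ a b : ℕ, (a ∣ p ∨ a ∣ A) → (b ∣ p ∨ b ∣ B) →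
      ∃ z : Cfsg.Agent.Lie.FieldFrobenius.Grp (Subgroup.zpowers c₁) ×
        Cfsg.Agent.Lie.FieldFrobenius.Grp (Subgroup.zpowers c₂), orderOf z = Nat.lcm a b := by
    intro a b ha hb
    obtain ⟨x, hx⟩ := Cfsg.Agent.Lie.FieldFrobenius.order_exists p c₁ (d := a) (hc₁ ▸ ha)
    obtain ⟨y, hy⟩ := Cfsg.Agent.Lie.FieldFrobenius.order_exists p c₂ (d := b) (hc₂ ▸ hb)
    exact ⟨(x, y), by rw [Prod.orderOf, hx, hy]⟩
  ext k
  constructor
  · rintro ⟨⟨x, y⟩, rfl⟩
    rw [Prod.orderOf]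
    have ha := Cfsg.Agent.Lie.FieldFrobenius.orderOf_dvd p x
    have hb := Cfsg.Agent.Lie.FieldFrobenius.orderOf_dvd p y
    rw [Nat.card_zpowers, hc₁] at ha
    rw [Nat.card_zpowers, hc₂] at hb
    obtain ⟨u, hu⟩ := hx _ (ha.elim Or.inl fun h => Or.inr (Or.inl h))
    obtain ⟨v, hv⟩ := hx _ (hb.elim Or.inl fun h => Or.inr (Or.inr h))
    exact ⟨(u, v), by rw [Prod.orderOf, hu, hv]⟩
  · rintro ⟨⟨u, v⟩, rfl⟩
    rw [Prod.orderOf]
    show ∃ z, orderOf z = Nat.lcm (orderOf u) (orderOf v)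
    generalize hu : orderOf u = a
    generalize hv : orderOf v = b
    have ha := hu ▸ hy u
    have hb := hv ▸ hy v
    rcases ha with ha | ha | ha <;> rcases hb with hb | hb | hb
    · simpa using ex (Nat.lcm a b) 1 (Or.inl (Nat.lcm_dvd ha hb)) (Or.inl (one_dvd _))
    · simpa [Nat.lcm_comm] using ex b a (Or.inr hb) (Or.inl ha)
    · exact ex a b (Or.inl ha) (Or.inr hb)
    · exact ex a b (Or.inr ha) (Or.inl hb)
    · simpa using ex (Nat.lcm a b) 1 (Or.inr (Nat.lcm_dvd ha hb)) (Or.inl (one_dvd _))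
    · exact ex a b (Or.inr ha) (Or.inr hb)
    · simpa [Nat.lcm_comm] using ex b a (Or.inl hb) (Or.inr ha)
    · simpa [Nat.lcm_comm] using ex b a (Or.inr hb) (Or.inr ha)
    · simpa using ex 1 (Nat.lcm a b) (Or.inl (one_dvd _)) (Or.inr (Nat.lcm_dvd ha hb))

end Cfsg.Agent.S3532
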