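import Cfsg.Statements.S3549
import Mathlib
import Cfsg.Agent.Lib.Lie.DerangementIndex
open scoped Pointwise
-- import your own Cfsg.Agent.* helpers here

set_option autoImplicit false
open Cfsg

namespace Cfsg.Agent.S3549

/-- Let G act faithfully, transitively but imprimitively on a finite set with n points, and let D be the subgroup generated by the derangements. Then the index of D in G is at most √n − 1. -/
theorem result {G Ω : Type*} [Group G] [Finite G] [MulAction G Ω] [FaithfulSMul G Ω] [Finite Ω]
    (htrans : MulAction.IsPretransitive G Ω) (himp : ¬ MulAction.IsPreprimitive G Ω) :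
    ((Subgroup.closure {g : G | ∀ ω : Ω, g • ω ≠ ω}).index : ℝ) ≤ Real.sqrt (Nat.card Ω) - 1 := by
  haveI := htrans
  obtain ⟨B, hB, hBtriv⟩ : ∃ B : Set Ω, MulAction.IsBlock G B ∧ ¬ MulAction.IsTrivialBlock B := by
    by_contra h
    push Not at h
    exact himp ⟨fun {B} hB => h B hB⟩
  rw [MulAction.IsTrivialBlock, not_or] at hBtriv
  obtain ⟨hBs, hBu⟩ := hBtriv
  rw [Set.not_subsingleton_iff] at hBs
  obtain ⟨α, hα⟩ := hBs.nonempty
  have hmul := hB.ncard_block_mul_ncard_orbit_eq ⟨α, hα⟩
  set b := B.ncard with hb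
  set m := (MulAction.orbit G B).ncard with hm
  have hb2 : 2 ≤ b := Set.one_lt_ncard_iff_nontrivial.2 hBs
  have hm2 : 2 ≤ m := by
    rcases Nat.lt_or_ge m 2 with h | h
    · exfalso
      apply hBu
      have hm0 : m ≠ 0 := by
        intro h0
        rw [h0, mul_zero] at hmul
        haveI : Nonempty Ω := ⟨α⟩
        exact Nat.card_pos.ne' hmul.symm
      have hm1 : m = 1 := by omega
      rw [hm1, mul_one] at hmul
      exact Set.eq_univ_of_forall fun x => by
        have : B = Set.univ := Set.eq_of_subset_of_ncard_le (Set.subset_univ B)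
          (by rw [Set.ncard_univ]; exact hmul.ge)
        rw [this]; trivial
    · exact h
  have hn : 2 ≤ Nat.card Ω := by
    rw [← hmul]; exact le_trans hb2 (Nat.le_mul_of_pos_right _ (by omega))
  set i := (Subgroup.closure {g : G | ∀ ω : Ω, g • ω ≠ ω}).index with hi
  have h1 : i ∣ b - 1 := by
    have h := Cfsg.Agent.Lie.DerangementIndex.index_dvd_card htrans α (B \ {α}) (fun h => h.2 rfl)
      fun g hg β hβ => by
        refine ⟨?_, fun h => hβ.2 ?_⟩
        · have hne : ¬ Disjoint (g • B) B :=
            Set.not_disjoint_iff.2 ⟨α, ⟨α, hα, hg⟩, hα⟩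
          rw [← (MulAction.isBlock_iff_smul_eq_or_disjoint.1 hB g).resolve_right hne]
          exact Set.smul_mem_smul_set hβ.1
        · rw [Set.mem_singleton_iff] at h ⊢
          exact MulAction.injective g (h.trans hg.symm)
    rwa [Nat.card_coe_set_eq, Set.ncard_diff_singleton_of_mem hα] at h
  have h2 : i ∣ b * m - 1 := hmul.symm ▸ Cfsg.Agent.Lie.DerangementIndex.index_dvd htrans hn
  have h3 : i ∣ m - 1 := by
    have e : b * m - 1 = (b - 1) * m + (m - 1) := by
      have : b ≤ b * m := Nat.le_mul_of_pos_right _ (by omega)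
      have : m ≤ b * m := Nat.le_mul_of_pos_left _ (by omega)
      rw [Nat.sub_mul, one_mul]; omega
    rw [e] at h2
    exact (Nat.dvd_add_right (h1.mul_right m)).1 h2
  have h4 : i + 1 ≤ b := by have := Nat.le_of_dvd (by omega) h1; omega
  have h5 : i + 1 ≤ m := by have := Nat.le_of_dvd (by omega) h3; omega
  rw [le_sub_iff_add_le, Real.le_sqrt (by positivity) (by positivity), pow_two, ← hmul]
  exact_mod_cast Nat.mul_le_mul h4 h5

end Cfsg.Agent.S3549
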