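import Cfsg.Statements.S3554
import Mathlib
-- import your own Cfsg.Agent.* helpers here

set_option autoImplicit false
open Cfsg

namespace Cfsg.Agent.S3554

/-- Let G act faithfully and transitively on a finite set and suppose G has a non-trivial cyclic normal subgroup. Then some element of G of prime order fixes no point. -/
theorem result {G Ω : Type*} [Group G] [Finite G] [MulAction G Ω] [FaithfulSMul G Ω] [Finite Ω]
    (htrans : MulAction.IsPretransitive G Ω) (C : Subgroup G) (hC : C.Normal) (hC1 : C ≠ ⊥) (hcyc : IsCyclic ↥C) :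
    ∃ g : G, (orderOf g).Prime ∧ ∀ ω : Ω, g • ω ≠ ω := by
  have : Finite C := inferInstance
  obtain ⟨p, hp, hpd⟩ := Nat.exists_prime_and_dvd (Ne.symm (Nat.ne_of_lt
    ((Subgroup.one_lt_card_iff_ne_bot C).2 hC1)))
  have : Fact p.Prime := ⟨hp⟩
  obtain ⟨⟨g, hgC⟩, hg⟩ := exists_prime_orderOf_dvd_card' p hpd
  rw [Subgroup.orderOf_mk] at hg
  refine ⟨g, hg ▸ hp, fun ω hω => ?_⟩
  have hn : ∀ h : G, h * g * h⁻¹ ∈ Subgroup.zpowers g := by
    intro h
    have hmem : h * g * h⁻¹ ∈ C := hC.conj_mem g hgC h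
    have ho : orderOf (⟨h * g * h⁻¹, hmem⟩ : C) = orderOf (⟨g, hgC⟩ : C) := by
      rw [Subgroup.orderOf_mk, Subgroup.orderOf_mk]
      exact (MulAut.conj h).orderOf_eq g
    letI : CommGroup C := IsCyclic.commGroup
    have hker : ∀ u : C, orderOf u = p → Subgroup.zpowers u = (powMonoidHom p : C →* C).ker := by
      intro u hu
      refine Subgroup.eq_of_le_of_card_ge (Subgroup.zpowers_le.2 ?_) ?_
      · show u ^ p = 1
        rw [← hu, pow_orderOf_eq_one]
      · rw [IsCyclic.card_powMonoidHom_ker, Nat.card_zpowers, hu]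
        exact Nat.le_of_dvd hp.pos (Nat.gcd_dvd_right _ _)
    have hg' : orderOf (⟨g, hgC⟩ : C) = p := by rw [Subgroup.orderOf_mk]; exact hg
    have hz : Subgroup.zpowers (⟨h * g * h⁻¹, hmem⟩ : C) = Subgroup.zpowers ⟨g, hgC⟩ := by
      rw [hker _ (ho.trans hg'), hker _ hg']
    have := Subgroup.mem_zpowers (⟨h * g * h⁻¹, hmem⟩ : C)
    rw [hz] at this
    obtain ⟨j, hj⟩ := this
    exact ⟨j, congrArg Subtype.val hj⟩
  have hg1 : g ≠ 1 := fun h => hp.one_lt.ne (by rw [← hg, h, orderOf_one])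
  refine hg1 (FaithfulSMul.eq_of_smul_eq_smul (α := Ω) fun x => ?_)
  obtain ⟨t, rfl⟩ := MulAction.exists_smul_eq G ω x
  obtain ⟨j, hj⟩ := hn t⁻¹
  simp only [inv_inv] at hj
  have hz : (g ^ j) • ω = ω := by
    have hmem : g ∈ MulAction.stabilizer G ω := hω
    exact Subgroup.zpow_mem _ hmem j
  rw [one_smul, smul_smul, show g * t = t * (t⁻¹ * g * t) by group, ← hj, mul_smul, hz]

end Cfsg.Agent.S3554
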