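import Cfsg.Statements.S3555
import Cfsg.Agent.Lib.Solv.Frobenius
import Mathlib.GroupTheory.GroupAction.Quotient
-- import your own Cfsg.Agent.* helpers here

set_option autoImplicit false
open Cfsg

namespace Cfsg.Agent.S3555

open scoped Pointwise

section

variable {G Ω : Type*} [Group G] [Fintype G] [MulAction G Ω] [Fintype Ω] [DecidableEq Ω]
  [DecidableEq G]

/-- Number of fixed points. -/
def fixCard (Ω : Type*) [MulAction G Ω] [Fintype Ω] [DecidableEq Ω] (g : G) : ℕ :=
  (Finset.univ.filter fun a : Ω => g • a = a).card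

omit [Fintype G] [DecidableEq G] in
theorem fixCard_le_sq (g : G) : fixCard Ω g ≤ fixCard Ω (g * g) := by
  refine Finset.card_le_card fun a ha => ?_
  simp only [Finset.mem_filter, Finset.mem_univ, true_and] at ha ⊢
  rw [mul_smul, ha, ha]

omit [Fintype G] [DecidableEq G] in
theorem fixCard_le (g : G) : fixCard Ω g ≤ Fintype.card Ω := Finset.card_le_univ _

/-- The number of pairs swapped is at most the number of pairs fixed. -/
theorem sum_fixCard_mul_self_le :
    ∑ g : G, fixCard Ω (g * g) ≤ ∑ g : G, fixCard Ω g * fixCard Ω g := by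
  have h1 : ∑ g : G, fixCard Ω (g * g) =
      ∑ a : Ω, ∑ b : Ω, (Finset.univ.filter fun g : G => g • a = b ∧ g • b = a).card := by
    simp only [fixCard, Finset.card_filter]
    rw [Finset.sum_comm]
    refine Finset.sum_congr rfl fun a _ => ?_
    rw [Finset.sum_comm]
    refine Finset.sum_congr rfl fun g _ => ?_
    rw [Finset.sum_eq_single (g • a) (fun b _ hb => if_neg fun h => hb h.1.symm)
      (fun h => absurd (Finset.mem_univ _) h)]
    simp [mul_smul]
  have h2 : ∑ g : G, fixCard Ω g * fixCard Ω g =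
      ∑ a : Ω, ∑ b : Ω, (Finset.univ.filter fun g : G => g • a = a ∧ g • b = b).card := by
    simp only [fixCard, Finset.card_filter]
    simp only [Finset.sum_mul_sum]
    rw [Finset.sum_comm]
    refine Finset.sum_congr rfl fun a _ => ?_
    rw [Finset.sum_comm]
    refine Finset.sum_congr rfl fun b _ => Finset.sum_congr rfl fun g _ => ?_
    split_ifs <;> simp_all
  rw [h1, h2]
  refine Finset.sum_le_sum fun a _ => Finset.sum_le_sum fun b _ => ?_
  rcases (Finset.univ.filter fun g : G => g • a = b ∧ g • b = a).eq_empty_or_nonempty with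
    he | ⟨g0, hg0⟩
  · simp [he]
  simp only [Finset.mem_filter, Finset.mem_univ, true_and] at hg0
  refine Finset.card_le_card_of_injOn (fun g => g0⁻¹ * g) (fun g hg => ?_)
    (fun x _ y _ h => mul_left_cancel h)
  simp only [Finset.coe_filter, Finset.mem_univ, true_and, Set.mem_setOf_eq] at hg ⊢
  constructor
  · rw [mul_smul, hg.1, inv_smul_eq_iff, hg0.1]
  · rw [mul_smul, hg.2, inv_smul_eq_iff, hg0.2]

omit [DecidableEq G] in
theorem sum_fixCard [MulAction.IsPretransitive G Ω] [Nonempty Ω] :
    ∑ g : G, fixCard Ω g = Fintype.card G := by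
  classical
  have h := MulAction.sum_card_fixedBy_eq_card_orbits_mul_card_group G Ω
  have h1 : Fintype.card (MulAction.orbitRel.Quotient G Ω) = 1 := by
    rw [Fintype.card_eq_one_iff]
    obtain ⟨a⟩ := (inferInstance : Nonempty Ω)
    refine ⟨Quotient.mk'' a, fun q => ?_⟩
    induction q using Quotient.inductionOn' with
    | h b => exact Quotient.sound' (MulAction.exists_smul_eq G a b)
  rw [h1, one_mul] at h
  rw [← h]
  refine Finset.sum_congr rfl fun g _ => ?_
  rw [fixCard, ← Fintype.card_subtype]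
  exact Fintype.card_congr (Equiv.subtypeEquivRight fun a => Iff.rfl)

theorem fixCard_cases [MulAction.IsPretransitive G Ω] [Nonempty Ω]
    (hinv : ∀ g : G, (∀ ω : Ω, g • ω ≠ ω) → orderOf g = 2) (g : G) :
    fixCard Ω g ≤ 1 ∨ fixCard Ω g = Fintype.card Ω := by
  set n : ℤ := (Fintype.card Ω : ℤ) with hn
  let p : G → ℤ := fun x => (fixCard Ω x : ℤ)
  let q : G → ℤ := fun x => (fixCard Ω (x * x) : ℤ)
  have hd : ∀ x, p x = 0 → q x = n := by
    intro x hx
    have h0 : (Finset.univ.filter fun a : Ω => x • a = a).card = 0 := by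
      have hx' : (fixCard Ω x : ℤ) = 0 := hx
      exact Int.natCast_eq_zero.1 hx'
    rw [Finset.card_eq_zero, Finset.filter_eq_empty_iff] at h0
    have h2 := hinv x fun a => h0 (Finset.mem_univ a)
    have h3 : x * x = 1 := by
      rw [← pow_two, ← h2, pow_orderOf_eq_one]
    simp [q, h3, fixCard, hn]
  have hterm : ∀ x, 0 ≤ q x - p x * p x + n * (p x - 1) := by
    intro x
    rcases eq_or_ne (p x) 0 with h | h
    · rw [hd x h, h]; ring_nf; exact le_refl _
    · have h1 : 1 ≤ p x := by
        have : (0 : ℤ) ≤ p x := Int.natCast_nonneg _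
        omega
      have h2 : p x ≤ n := Int.ofNat_le.2 (fixCard_le (Ω := Ω) x)
      have h3 : p x ≤ q x := Int.ofNat_le.2 (fixCard_le_sq (Ω := Ω) x)
      nlinarith [mul_nonneg (sub_nonneg.2 h1) (sub_nonneg.2 h2)]
  have hsum : ∑ x : G, (q x - p x * p x + n * (p x - 1)) ≤ 0 := by
    have a1 : ∑ x : G, q x ≤ ∑ x : G, p x * p x := by
      simp only [p, q]
      exact_mod_cast sum_fixCard_mul_self_le (G := G) (Ω := Ω)
    have a2 : ∑ x : G, p x = (Fintype.card G : ℤ) := by
      simp only [p]
      exact_mod_cast sum_fixCard (G := G) (Ω := Ω)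
    rw [Finset.sum_add_distrib, Finset.sum_sub_distrib, ← Finset.mul_sum,
      Finset.sum_sub_distrib, a2, Finset.sum_const, Finset.card_univ, nsmul_eq_mul, mul_one,
      sub_self, mul_zero, add_zero]
    linarith
  have hz := (Finset.sum_eq_zero_iff_of_nonneg fun x _ => hterm x).1
    (le_antisymm hsum (Finset.sum_nonneg fun x _ => hterm x)) g (Finset.mem_univ g)
  by_contra hc
  push Not at hc
  have h1 : 2 ≤ p g := by
    have : (2 : ℕ) ≤ fixCard Ω g := hc.1
    simp only [p]
    exact_mod_cast this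
  have h2 : p g + 1 ≤ n := by
    have : fixCard Ω g + 1 ≤ Fintype.card Ω := lt_of_le_of_ne (fixCard_le g) hc.2
    simp only [p, hn]
    exact_mod_cast this
  have h3 : p g ≤ q g := Int.ofNat_le.2 (fixCard_le_sq (Ω := Ω) g)
  nlinarith [mul_le_mul (show (1 : ℤ) ≤ p g - 1 by linarith) (show (1 : ℤ) ≤ n - p g by linarith)
    zero_le_one (by linarith)]

end

/-- Let G act faithfully and transitively on a finite set and suppose every element of G fixing no point is an involution. Then either G is an elementary abelian 2-group, or G is a Frobenius group whose Frobenius kernel is an elementary abelian 2-group: G has a Frobenius complement H, and the elements lying in no conjugate of H, together with the identity, pairwise commute and square to the identity. -/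
theorem result {G Ω : Type*} [Group G] [Finite G] [MulAction G Ω] [FaithfulSMul G Ω] [Finite Ω]
    (htrans : MulAction.IsPretransitive G Ω) (hinv : ∀ g : G, (∀ ω : Ω, g • ω ≠ ω) → orderOf g = 2) :
    (IsMulCommutative G ∧ ∀ g : G, g ^ 2 = 1) ∨
    (∃ H : Subgroup G, Cfsg.IsFrobeniusComplement H ∧
      (∀ x ∈ Cfsg.frobeniusKernel H, x ^ 2 = 1) ∧
      ∀ x ∈ Cfsg.frobeniusKernel H, ∀ y ∈ Cfsg.frobeniusKernel H, x * y = y * x) := by
  classical
  have := Fintype.ofFinite G
  have := Fintype.ofFinite Ω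
  rcases isEmpty_or_nonempty Ω with he | hne
  · have h1 : ∀ g : G, g = 1 := fun g => eq_of_smul_eq_smul fun a : Ω => isEmptyElim a
    exact Or.inl ⟨⟨⟨fun x y => by rw [h1 x, h1 y]⟩⟩, fun g => by rw [h1 g, one_pow]⟩
  have := hne
  obtain ⟨a⟩ := id hne
  set H : Subgroup G := MulAction.stabilizer G a with hH
  have hmem : ∀ g x : G, x ∈ MulAut.conj g • H ↔ x • g • a = g • a := by
    intro g x
    rw [Cfsg.Agent.Solv.mem_conj_smul, hH, MulAction.mem_stabilizer_iff, mul_smul, mul_smul,
      inv_smul_eq_iff]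
  have hsq : ∀ x : G, (∀ ω : Ω, x • ω ≠ ω) → x ^ 2 = 1 := fun x hx => by
    rw [← hinv x hx, pow_orderOf_eq_one]
  have htwo : ∀ (x : G) (b c : Ω), b ≠ c → x • b = b → x • c = c → x = 1 := by
    intro x b c hbc hb hc
    rcases fixCard_cases (Ω := Ω) hinv x with h | h
    · refine absurd (Finset.card_le_one.1 h b (by simp [hb]) c (by simp [hc])) hbc
    · refine eq_of_smul_eq_smul fun d : Ω => ?_
      rw [fixCard, ← Finset.card_univ] at h
      rw [one_smul]
      exact Finset.card_filter_eq_iff.1 h d (Finset.mem_univ d)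
  by_cases hb : H = ⊥
  · left
    have h2 : ∀ g : G, g ^ 2 = 1 := by
      intro g
      rcases eq_or_ne g 1 with rfl | hg
      · exact one_pow 2
      refine hsq g fun ω hω => hg ?_
      obtain ⟨c, rfl⟩ := MulAction.exists_smul_eq G a ω
      have : g ∈ MulAut.conj c • H := (hmem c g).2 hω
      rw [hb, Subgroup.smul_bot, Subgroup.mem_bot] at this
      exact this
    refine ⟨⟨⟨fun x y => ?_⟩⟩, h2⟩
    have hi : ∀ g : G, g⁻¹ = g := fun g => inv_eq_of_mul_eq_one_right (by rw [← pow_two]; exact h2 g)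
    calc x * y = (x * y)⁻¹ := (hi _).symm
      _ = y * x := by rw [mul_inv_rev, hi, hi]
  right
  have htop : H ≠ ⊤ := by
    intro ht
    refine hb ((Subgroup.eq_bot_iff_forall _).2 fun g _ => eq_of_smul_eq_smul fun ω : Ω => ?_)
    obtain ⟨c, rfl⟩ := MulAction.exists_smul_eq G a ω
    have : ∀ d : G, d • a = a := fun d =>
      MulAction.mem_stabilizer_iff.1 (show d ∈ H by rw [ht]; exact Subgroup.mem_top d)
    rw [one_smul, this c, this g]
  have hF : Cfsg.IsFrobeniusComplement H := by
    refine ⟨hb, htop, fun g hg => (Subgroup.eq_bot_iff_forall _).2 fun x hx => ?_⟩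
    exact htwo x a (g • a) (fun e => hg (MulAction.mem_stabilizer_iff.2 e.symm))
      (MulAction.mem_stabilizer_iff.1 hx.1) ((hmem g x).1 hx.2)
  have hk : ∀ x ∈ Cfsg.frobeniusKernel H, x ^ 2 = 1 := by
    rintro x (rfl | hx)
    · exact one_pow 2
    refine hsq x fun ω hω => ?_
    obtain ⟨c, rfl⟩ := MulAction.exists_smul_eq G a ω
    exact hx c ((hmem c x).2 hω)
  refine ⟨H, hF, hk, fun x hx y hy => ?_⟩
  obtain ⟨N, hN, -, -⟩ := Cfsg.Agent.Solv.frobenius_theorem hF
  have hxy : x * y ∈ Cfsg.frobeniusKernel H := by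
    rw [← hN] at hx hy ⊢
    exact N.mul_mem hx hy
  have hi : ∀ g ∈ Cfsg.frobeniusKernel H, g⁻¹ = g := fun g hg =>
    inv_eq_of_mul_eq_one_right (by rw [← pow_two]; exact hk g hg)
  calc x * y = (x * y)⁻¹ := (hi _ hxy).symm
    _ = y * x := by rw [mul_inv_rev, hi y hy, hi x hx]

end Cfsg.Agent.S3555
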