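import Cfsg.Statements.S3557
import Mathlib
open MulAction
-- import your own Cfsg.Agent.* helpers here

set_option autoImplicit false
open Cfsg

namespace Cfsg.Agent.S3557

/-- Let G act faithfully and transitively on a finite set with 2p² points, p a prime, and suppose G is 2-closed: every permutation of the set which, on each ordered pair of points, agrees with some element of G, is itself induced by an element of G. Then some element of G of prime order fixes no point. -/
theorem result {G Ω : Type*} [Group G] [Finite G] [MulAction G Ω] [FaithfulSMul G Ω] [Finite Ω]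
    (htrans : MulAction.IsPretransitive G Ω) (p : ℕ) (hp : p.Prime) (hcard : Nat.card Ω = 2 * p ^ 2)
    (hcl : ∀ σ : Equiv.Perm Ω, (∀ a b : Ω, ∃ g : G, σ a = g • a ∧ σ b = g • b) → ∃ g : G, ∀ a : Ω, σ a = g • a) :
    ∃ g : G, (orderOf g).Prime ∧ ∀ ω : Ω, g • ω ≠ ω := by
  classical
  haveI : Fact p.Prime := ⟨hp⟩
  haveI := Fintype.ofFinite Ω
  haveI := Fintype.ofFinite G
  obtain ⟨P⟩ : Nonempty (Sylow p G) := inferInstance
  set S := (P : Subgroup G) with hS
  have hPp : IsPGroup p S := P.2
  have hcard' : Nat.card Ω = 2 * p ^ 2 := hcard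
  -- orbit sizes
  have hpow : ∀ a : Ω, ∃ k, 2 ≤ k ∧ Nat.card (orbit S a) = p ^ k := by
    intro a
    obtain ⟨k, hk⟩ := hPp.card_orbit a
    refine ⟨k, ?_, hk⟩
    have h1 : Nat.card (orbit G a) * Nat.card (stabilizer G a) = Nat.card G := by
      rw [← Nat.card_prod]; exact Nat.card_congr (MulAction.orbitProdStabilizerEquivGroup G a)
    rw [show Nat.card (orbit G a) = 2 * p ^ 2 by rw [MulAction.orbit_eq_univ, Nat.card_univ]; exact hcard] at h1
    have h2 : Nat.card (orbit S a) * Nat.card (stabilizer S a) = Nat.card S := by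
      rw [← Nat.card_prod]; exact Nat.card_congr (MulAction.orbitProdStabilizerEquivGroup S a)
    have h3 : Nat.card (stabilizer S a) ∣ Nat.card (stabilizer G a) := by
      have : Nat.card (stabilizer S a) = Nat.card ((stabilizer S a).map S.subtype) :=
        (Subgroup.card_map_of_injective S.subtype_injective).symm
      rw [this]
      refine Subgroup.card_dvd_of_le ?_
      rintro _ ⟨s, hs, rfl⟩
      exact hs
    obtain ⟨j, hj⟩ := (hPp.to_subgroup (stabilizer S a)).exists_card_eq
    obtain ⟨i, hi⟩ := hPp.exists_card_eq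
    rw [hk, hj, hi, ← pow_add] at h2
    have hkj : k + j = i := Nat.pow_right_injective hp.two_le h2
    have hfac : i = (Nat.card G).factorization p := by
      have := P.card_eq_multiplicity
      rw [← hS, hi] at this
      exact Nat.pow_right_injective hp.two_le this
    have hd : p ^ (j + 2) ∣ Nat.card G := by
      rw [← h1, pow_add, mul_comm (p ^ j)]
      exact mul_dvd_mul (Dvd.intro_left 2 rfl) (hj ▸ h3)
    have := (hp.pow_dvd_iff_le_factorization Nat.card_pos.ne').1 hd
    omega
  -- semiregularity of central elements on orbits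
  have hsemi : ∀ (z : S), (∀ s : S, s * z = z * s) → ∀ a b : Ω, b ∈ orbit S a → z • a = a → z • b = b := by
    rintro z hz a _ ⟨s, rfl⟩ ha
    show z • s • a = s • a
    rw [← mul_smul, ← hz s, mul_smul, ha]
  haveI : Nontrivial S := by
    obtain ⟨a⟩ : Nonempty Ω := (Nat.card_pos_iff.1 (by rw [hcard]; have := hp.pos; positivity)).1
    obtain ⟨k, hk, hka⟩ := hpow a
    by_contra hnt
    rw [not_nontrivial_iff_subsingleton] at hnt
    haveI : Subsingleton (orbit S a) := ⟨fun ⟨x, s, hs⟩ ⟨y, t, ht⟩ => Subtype.ext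
      (hs.symm.trans ((congrArg (fun m : S => m • a) (Subsingleton.elim s t)).trans ht))⟩
    rw [Nat.card_of_subsingleton ⟨a, mem_orbit_self a⟩] at hka
    have h4 := Nat.pow_le_pow_right hp.pos hk
    rw [← hka] at h4
    nlinarith [hp.two_le]
  obtain ⟨z, hzc, hzo⟩ : ∃ z : S, z ∈ Subgroup.center S ∧ orderOf z = p := by
    haveI : Nontrivial (Subgroup.center S) := hPp.center_nontrivial
    obtain ⟨k, hk⟩ := (hPp.to_subgroup (Subgroup.center S)).exists_card_eq
    have hk0 : k ≠ 0 := fun e => by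
      rw [e, pow_zero, Nat.card_eq_one_iff_unique] at hk
      exact not_subsingleton (Subgroup.center S) hk.1
    obtain ⟨z, hz⟩ := exists_prime_orderOf_dvd_card' (G := Subgroup.center S) p (hk ▸ dvd_pow_self p hk0)
    exact ⟨z, z.2, by rw [Subgroup.orderOf_coe, hz]⟩
  have hzs : ∀ s : S, s * z = z * s := Subgroup.mem_center_iff.1 hzc
  have hzp : z ^ p = 1 := hzo ▸ pow_orderOf_eq_one z
  by_cases hzall : ∀ ω : Ω, z • ω ≠ ω
  · exact ⟨(z : G), by rw [Subgroup.orderOf_coe, hzo]; exact hp, hzall⟩
  push Not at hzall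
  obtain ⟨a₀, ha₀⟩ := hzall
  set O := orbit S a₀ with hO
  obtain ⟨b₀, hb₀⟩ : ∃ b : Ω, z • b ≠ b := by
    by_contra! hall
    have h1 : (z : G) = 1 := eq_of_smul_eq_smul (α := Ω) fun b => by rw [one_smul]; exact hall b
    rw [← Subgroup.orderOf_coe, h1, orderOf_one] at hzo
    exact hp.one_lt.ne hzo
  have hb₀O : b₀ ∉ O := fun h => hb₀ (hsemi z hzs a₀ b₀ h ha₀)
  -- exactly two orbits, of size p^2
  have hdisj : Disjoint O (orbit S b₀) := by
    rw [Set.disjoint_left]
    intro x hx hx'
    exact hb₀O (by rw [hO, ← orbit_eq_iff.2 hx, orbit_eq_iff.2 hx']; exact mem_orbit_self b₀)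
  obtain ⟨k, hk, hka⟩ := hpow a₀
  obtain ⟨l, hl, hlb⟩ := hpow b₀
  have hsum : Nat.card O + Nat.card (orbit S b₀) = (O ∪ orbit S b₀).ncard := by
    rw [Nat.card_coe_set_eq, Nat.card_coe_set_eq, Set.ncard_union_eq hdisj]
  have hk2 := Nat.pow_le_pow_right hp.pos hk
  have hl2 := Nat.pow_le_pow_right hp.pos hl
  have huniv : O ∪ orbit S b₀ = Set.univ := by
    refine Set.eq_of_subset_of_ncard_le (Set.subset_univ _) ?_
    rw [Set.ncard_univ, hcard, ← hsum, hO, hka, hlb]
    omega
  have hle : (O ∪ orbit S b₀).ncard = 2 * p ^ 2 := by rw [huniv, Set.ncard_univ, hcard]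
  rw [← hsum, hO, hka, hlb] at hle
  have hA : Nat.card O = p ^ 2 := by rw [hO, hka]; omega
  have hB : Nat.card (orbit S b₀) = p ^ 2 := by rw [hlb]; omega
  have hnotO : ∀ x, x ∉ O → x ∈ orbit S b₀ := fun x hx => by
    have : x ∈ O ∪ orbit S b₀ := huniv ▸ Set.mem_univ x
    exact this.resolve_left hx
  have hzfix : ∀ x ∈ O, z • x = x := fun x hx => hsemi z hzs a₀ x hx ha₀
  have hzmove : ∀ x, x ∉ O → z • x ≠ x := fun x hx e =>
    hb₀ (hsemi z hzs x b₀ (by rw [orbit_eq_iff.2 (hnotO x hx)]; exact mem_orbit_self b₀) e)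
  have hinv : ∀ (s : S) x, s • x ∈ O ↔ x ∈ O := fun s x => by
    rw [hO, ← orbit_eq_iff, orbit_smul, orbit_eq_iff]
  -- a partner on the first orbit
  obtain ⟨y, hyc, hyp, hya, hyorb⟩ : ∃ y : S, (∀ s : S, ∀ x ∈ O, (s * y) • x = (y * s) • x) ∧
      (∀ x ∈ O, (y ^ p) • x = x) ∧ y • a₀ ≠ a₀ ∧
      ∀ a ∈ O, ∀ b, b ∉ O → ∃ h : S, h • a = a ∧ h • (y • b) = z • b := by
    -- central elements of a normal subgroup acting nontrivially on the first orbit
    have hpick : ∀ Q : Subgroup S, Q.Normal → ¬ Q ≤ stabilizer S a₀ →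
        ∃ y ∈ Q, (∀ s : S, ∀ x ∈ O, (s * y) • x = (y * s) • x) ∧ (∀ x ∈ O, (y ^ p) • x = x) ∧ y • a₀ ≠ a₀ := by
      intro Q hQ hQa
      let ρ : S →* Equiv.Perm O := MulAction.toPermHom S (orbit S a₀)
      have hρ : ∀ (s : S) (x : O), ((ρ s x : O) : Ω) = s • (x : Ω) := fun s x => rfl
      let R := ρ.range
      have hRp : IsPGroup p R := hPp.of_surjective ρ.rangeRestrict ρ.rangeRestrict_surjective
      let Q' : Subgroup R := Q.map ρ.rangeRestrict
      have hQ'n : Q'.Normal := hQ.map _ ρ.rangeRestrict_surjective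
      have hQ'ne : Q' ≠ ⊥ := by
        intro e
        refine hQa fun q hq => ?_
        have h1 : ρ.rangeRestrict q ∈ Q' := ⟨q, hq, rfl⟩
        rw [e, Subgroup.mem_bot] at h1
        have h2 : ρ q = 1 := congrArg Subtype.val h1
        have h3 := hρ q ⟨a₀, mem_orbit_self a₀⟩
        rw [h2] at h3
        exact h3.symm
      haveI := hQ'n
      have hne : (Q' ⊓ Subgroup.center R) ≠ ⊥ := by
        haveI : Group.IsNilpotent R := hRp.isNilpotent
        haveI : Nontrivial Q' := (Subgroup.nontrivial_iff_ne_bot Q').2 hQ'ne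
        obtain ⟨k, hk⟩ := (hRp.to_subgroup Q').exists_card_eq
        have hk0 : k ≠ 0 := fun e => by
          rw [e, pow_zero, Nat.card_eq_one_iff_unique] at hk
          exact not_subsingleton Q' hk.1
        have hdvd : p ∣ Nat.card Q' := hk ▸ dvd_pow_self p hk0
        haveI := Fintype.ofFinite R
        letI : MulAction (ConjAct R) Q' := inferInstance
        obtain ⟨c, hc, hc1⟩ := (hRp.of_equiv ConjAct.toConjAct).exists_fixed_point_of_prime_dvd_card_of_fixed_point
          (α := Q') hdvd (a := 1) (fun g => smul_one g)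
        intro e
        have hmem : (c : R) ∈ Q' ⊓ Subgroup.center R := ⟨c.2, Subgroup.mem_center_iff.2 fun g => by
          have h := congrArg Subtype.val (hc (ConjAct.toConjAct g))
          rw [ConjAct.Subgroup.val_conj_smul, ConjAct.smul_def, ConjAct.ofConjAct_toConjAct] at h
          exact mul_inv_eq_iff_eq_mul.1 h⟩
        rw [e, Subgroup.mem_bot] at hmem
        exact hc1 (Subtype.ext hmem.symm)
      haveI : Nontrivial ↥(Q' ⊓ Subgroup.center R) := (Subgroup.nontrivial_iff_ne_bot _).2 hne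
      obtain ⟨k, hk⟩ := (hRp.to_subgroup (Q' ⊓ Subgroup.center R)).exists_card_eq
      have hk0 : k ≠ 0 := fun e => by
        rw [e, pow_zero, Nat.card_eq_one_iff_unique] at hk
        exact not_subsingleton _ hk.1
      obtain ⟨⟨c, hcQ, hcc⟩, hco⟩ := exists_prime_orderOf_dvd_card' (G := ↥(Q' ⊓ Subgroup.center R)) p (hk ▸ dvd_pow_self p hk0)
      obtain ⟨y, hy, rfl⟩ := hcQ
      have hcc' : ∀ s : S, ρ (s * y) = ρ (y * s) := fun s => by
        have h := congrArg Subtype.val (Subgroup.mem_center_iff.1 hcc (ρ.rangeRestrict s))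
        rw [map_mul, map_mul]; exact h
      have hcp : (ρ y) ^ p = 1 := by
        have h := pow_orderOf_eq_one (⟨ρ.rangeRestrict y, ⟨y, hy, rfl⟩, hcc⟩ : ↥(Q' ⊓ Subgroup.center R))
        rw [hco] at h
        exact congrArg (fun v : ↥(Q' ⊓ Subgroup.center R) => ((v : R) : Equiv.Perm O)) h
      refine ⟨y, hy, fun s x hx => ?_, fun x hx => ?_, fun e => ?_⟩
      · rw [← hρ _ ⟨x, hx⟩, ← hρ _ ⟨x, hx⟩, hcc' s]
      · rw [← hρ _ ⟨x, hx⟩, map_pow, hcp]; rfl
      · have hy1 : ρ y = 1 := by
          ext ⟨x, s, hs⟩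
          rw [hρ]
          show y • x = x
          rw [← hs]
          show y • s • a₀ = s • a₀
          have h2 := hρ (y * s) ⟨a₀, mem_orbit_self a₀⟩
          rw [← hcc' s, hρ, mul_smul, mul_smul] at h2
          simp only at h2
          rw [← h2, e]
        have : (⟨ρ.rangeRestrict y, ⟨y, hy, rfl⟩, hcc⟩ : ↥(Q' ⊓ Subgroup.center R)) = 1 :=
          Subtype.ext (Subtype.ext hy1)
        rw [this, orderOf_one] at hco
        exact hp.one_lt.ne hco
    -- orbits of stabilisers
    by_cases hwhole : ∀ a ∈ O, ∀ b, b ∉ O → ∀ b' ∉ O, ∃ h : S, h • a = a ∧ h • b = b'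
    · obtain ⟨y, -, h1, h2, h3⟩ := hpick ⊤ inferInstance (fun hle => by
        have : O ⊆ {a₀} := by
          rintro _ ⟨s, rfl⟩
          exact hle (Subgroup.mem_top s)
        have h := Nat.card_mono (Set.finite_singleton a₀) this
        rw [hA, Nat.card_unique] at h
        nlinarith [hp.two_le])
      refine ⟨y, h1, h2, h3, fun a ha b hb => hwhole a ha _ ((hinv y b).not.2 hb) _ ((hinv z b).not.2 hb)⟩
    push Not at hwhole
    obtain ⟨a₁, ha₁, b₁, hb₁, b₂, hb₂, hno⟩ := hwhole
    -- then stabiliser orbits are the orbits of z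
    have hsmall : ∀ a ∈ O, ∀ b, b ∉ O → ∀ h : S, h • a = a → ∃ i : ℕ, h • b = (z ^ i) • b := by
      -- size of the stabiliser orbit at the special pair
      have hcardT : ∀ a b : Ω, b ∉ O → a ∈ O → ¬ (∀ b' ∉ O, ∃ h : S, h • a = a ∧ h • b = b') →
          ∀ h : S, h • a = a → ∃ i : ℕ, h • b = (z ^ i) • b := by
        intro a b hb ha hnot h hha
        let Sa := stabilizer S a
        have hzSa : z ∈ Sa := hzfix a ha
        have hsub : orbit Sa b ⊆ orbit S b₀ := by
          rintro _ ⟨s, rfl⟩; exact hnotO _ ((hinv (s : S) b).not.2 hb)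
        obtain ⟨j, hj⟩ := (hPp.to_subgroup Sa).card_orbit b
        have hne : orbit Sa b ≠ orbit S b₀ := fun e => hnot fun b' hb' => by
          obtain ⟨s, hs⟩ : b' ∈ orbit Sa b := e ▸ hnotO b' hb'
          exact ⟨s, s.2, hs⟩
        have hlt : Nat.card (orbit Sa b) < p ^ 2 := by
          rw [← hB, Nat.card_coe_set_eq, Nat.card_coe_set_eq]
          exact Set.ncard_lt_ncard (lt_of_le_of_ne hsub hne)
        rw [hj] at hlt
        have hj2 : j < 2 := (Nat.pow_lt_pow_iff_right hp.one_lt).1 hlt
        let Zo : Finset Ω := (Finset.range p).image fun i => (z ^ i) • b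
        have hZo : Zo.card = p := by
          rw [Finset.card_image_of_injOn, Finset.card_range]
          intro i hi i' hi' e
          simp only [Finset.coe_range, Set.mem_Iio] at hi hi'
          by_contra hne'
          wlog hii : i < i' generalizing i i'
          · exact this e.symm hi' hi (Ne.symm hne') (by omega)
          have e' : (z ^ (i' - i)) • b = b := by
            apply MulAction.injective (z ^ i)
            show (z ^ i) • (z ^ (i' - i)) • b = (z ^ i) • b
            rw [← mul_smul, ← pow_add, show i + (i' - i) = i' by omega]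
            exact e.symm
          have hg : (z ^ (i' - i)) ∈ stabilizer S b := e'
          have hco : Nat.Coprime (i' - i) p := (Nat.coprime_comm).1 ((Nat.Prime.coprime_iff_not_dvd hp).2
            (Nat.not_dvd_of_pos_of_lt (by omega) (by omega)))
          obtain ⟨m, hm⟩ := exists_pow_eq_self_of_coprime (hzo.symm ▸ hco)
          exact hzmove b hb (by
            have := Subgroup.pow_mem _ hg m
            rw [hm] at this; exact this)
        have hZsub : (Zo : Set Ω) ⊆ orbit Sa b := by
          intro x hx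
          obtain ⟨i, -, rfl⟩ := Finset.mem_image.1 (Finset.mem_coe.1 hx)
          exact ⟨⟨z ^ i, Sa.pow_mem hzSa i⟩, rfl⟩
        have heq : (Zo : Set Ω) = orbit Sa b := by
          refine Set.eq_of_subset_of_ncard_le hZsub ?_
          rw [Set.ncard_coe_finset, hZo, ← Nat.card_coe_set_eq, hj]
          exact (Nat.pow_le_pow_right hp.pos (show j ≤ 1 by omega)).trans_eq (pow_one p)
        obtain ⟨i, -, hi⟩ := Finset.mem_image.1 (Finset.mem_coe.1 (heq.ge ⟨⟨h, hha⟩, rfl⟩))
        exact ⟨i, hi.symm⟩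
      have h1 := hcardT a₁ b₁ hb₁ ha₁ (fun hall => by
        obtain ⟨h, h1, h2⟩ := hall b₂ hb₂
        exact hno h h1 h2)
      intro a ha b hb
      refine hcardT a b hb ha fun hall => ?_
      -- transport to the stabiliser of a₁
      obtain ⟨s, rfl⟩ : a₁ ∈ orbit S a := by rw [orbit_eq_iff.2 ha]; exact ha₁
      have hcover : ∀ b', b' ∉ O → ∃ h : S, h • (s • a) = s • a ∧ h • (s • b) = b' := fun b' hb' => by
        obtain ⟨h, h1, h2⟩ := hall (s⁻¹ • b') ((hinv _ b').not.2 hb')
        refine ⟨s * h * s⁻¹, ?_, ?_⟩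
        · rw [mul_smul, mul_smul, inv_smul_smul, h1]
        · rw [mul_smul, mul_smul, inv_smul_smul, h2, smul_inv_smul]
      obtain ⟨u, hu1, hu2⟩ := hcover b₁ hb₁
      obtain ⟨v, hv1, hv2⟩ := hcover b₂ hb₂
      refine hno (v * u⁻¹) ?_ ?_
      · have hu1' : u⁻¹ • s • a = s • a := inv_smul_eq_iff.2 hu1.symm
        rw [mul_smul, hu1', hv1]
      · rw [mul_smul, ← hu2, inv_smul_smul, hv2]
    -- the kernel on the z-orbits
    let Q : Subgroup S :=
      { carrier := {g | ∀ b, b ∉ O → ∃ i : ℕ, g • b = (z ^ i) • b}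
        one_mem' := fun b _ => ⟨0, by rw [pow_zero]⟩
        mul_mem' := by
          intro g g' hg hg' b hb
          obtain ⟨i, hi⟩ := hg' b hb
          obtain ⟨j, hj⟩ := hg ((z ^ i) • b) ((hinv _ b).not.2 hb)
          exact ⟨j + i, by rw [mul_smul, hi, hj, ← mul_smul, ← pow_add]⟩
        inv_mem' := by
          intro g hg b hb
          obtain ⟨i, hi⟩ := hg (g⁻¹ • b) ((hinv _ b).not.2 hb)
          rw [smul_inv_smul] at hi
          have hfin : ∃ i' : ℕ, (z ^ i)⁻¹ = z ^ i' := ⟨(p - 1) * i, inv_eq_of_mul_eq_one_right (by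
            rw [← pow_add, add_comm, ← Nat.succ_mul, Nat.succ_eq_add_one, Nat.sub_add_cancel hp.one_le, pow_mul,
              hzp, one_pow])⟩
          obtain ⟨i', hi'⟩ := hfin
          exact ⟨i', by rw [← hi', eq_inv_smul_iff]; exact hi.symm⟩ }
    have hQn : Q.Normal := ⟨fun g hg s b hb => by
      obtain ⟨i, hi⟩ := hg (s⁻¹ • b) ((hinv _ b).not.2 hb)
      refine ⟨i, ?_⟩
      rw [mul_smul, mul_smul, hi, ← mul_smul s, (show Commute s z from hzs s).pow_right i, mul_smul, smul_inv_smul]⟩
    have hSaQ : ∀ a ∈ O, ∀ g : S, g • a = a → g ∈ Q := fun a ha g hg b hb => hsmall a ha b hb g hg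
    have hQne : ¬ Q ≤ stabilizer S a₀ := by
      intro hle
      have heq : Q = stabilizer S a₀ := le_antisymm hle fun g hg => hSaQ a₀ (mem_orbit_self a₀) g hg
      -- p blocks
      let OB := {x : Ω // x ∉ O}
      let r : Setoid OB :=
        { r := fun x y => ∃ i : ℕ, (y : Ω) = (z ^ i) • (x : Ω)
          iseqv := ⟨fun x => ⟨0, by rw [pow_zero, one_smul]⟩, fun {x y} ⟨i, hi⟩ => by
              refine ⟨(p - 1) * i, ?_⟩
              rw [hi, ← mul_smul, ← pow_add, ← Nat.succ_mul, Nat.succ_eq_add_one, Nat.sub_add_cancel hp.one_le, pow_mul,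
                hzp, one_pow, one_smul],
            fun {x y w} ⟨i, hi⟩ ⟨j, hj⟩ => ⟨j + i, by rw [hj, hi, ← mul_smul, ← pow_add]⟩⟩ }
      letI : MulAction S (Quotient r) :=
        { smul := fun g => Quotient.map' (fun x => (⟨g • (x : Ω), (hinv g x).not.2 x.2⟩ : OB)) fun x y ⟨i, hi⟩ =>
            ⟨i, show g • (y : Ω) = (z ^ i) • g • (x : Ω) by
              rw [hi, ← mul_smul, ← mul_smul, ((show Commute g z from hzs g).pow_right i).eq]⟩
          one_smul := fun q => Quotient.inductionOn q fun x => congrArg (Quotient.mk r) (Subtype.ext (one_smul S (x : Ω)))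
          mul_smul := fun g g' q => Quotient.inductionOn q fun x =>
            congrArg (Quotient.mk r) (Subtype.ext (mul_smul g g' (x : Ω))) }
      let ρ := MulAction.toPermHom S (Quotient r)
      have hker : ρ.ker ≤ Q := fun g hg b hb => by
        have h := DFunLike.congr_fun (MonoidHom.mem_ker.1 hg) (Quotient.mk r ⟨b, hb⟩)
        obtain ⟨i, hi⟩ := Quotient.exact (s := r) h.symm
        exact ⟨i, hi⟩
      have hq : Nat.card (Quotient r) ≤ p := by
        haveI := Fintype.ofFinite (Quotient r)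
        rw [Nat.card_eq_fintype_card]
        by_contra! hlt
        have hinj : Function.Injective fun x : Quotient r × Fin p => (z ^ (x.2 : ℕ)) • ((x.1.out : OB) : Ω) := by
          rintro ⟨q, i⟩ ⟨q', i'⟩ e
          have e' : (z ^ (i : ℕ)) • ((q.out : OB) : Ω) = (z ^ (i' : ℕ)) • ((q'.out : OB) : Ω) := e
          have hqq : q = q' := by
            rw [← Quotient.out_eq q, ← Quotient.out_eq q']
            refine Quotient.sound ?_
            refine ⟨(p - 1) * (i' : ℕ) + i, ?_⟩
            rw [pow_add, mul_smul, e', ← mul_smul, ← pow_add, ← Nat.succ_mul, Nat.succ_eq_add_one,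
              Nat.sub_add_cancel hp.one_le, pow_mul, hzp, one_pow, one_smul]
          subst hqq
          refine Prod.ext rfl (Fin.ext ?_)
          by_contra hne'
          have hgen : ∀ i j : ℕ, i < j → j < p → (z ^ i) • ((q.out : OB) : Ω) ≠ (z ^ j) • ((q.out : OB) : Ω) := by
            intro i j hij hj e
            have e'' : (z ^ (j - i)) • ((q.out : OB) : Ω) = ((q.out : OB) : Ω) := by
              apply MulAction.injective (z ^ i)
              show (z ^ i) • (z ^ (j - i)) • ((q.out : OB) : Ω) = (z ^ i) • ((q.out : OB) : Ω)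
              rw [← mul_smul, ← pow_add, show i + (j - i) = j by omega]
              exact e.symm
            have hg : (z ^ (j - i)) ∈ stabilizer S ((q.out : OB) : Ω) := e''
            have hco : Nat.Coprime (j - i) p := (Nat.coprime_comm).1 ((Nat.Prime.coprime_iff_not_dvd hp).2
              (Nat.not_dvd_of_pos_of_lt (by omega) (by omega)))
            obtain ⟨m, hm⟩ := exists_pow_eq_self_of_coprime (hzo.symm ▸ hco)
            exact hzmove _ (q.out).2 (by
              have := Subgroup.pow_mem _ hg m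
              rw [hm] at this; exact this)
          rcases lt_or_gt_of_ne hne' with h | h
          · exact hgen _ _ h i'.2 e'
          · exact hgen _ _ h i.2 e'.symm
        have hinj' : Function.Injective fun x : Quotient r × Fin p =>
            (⟨(z ^ (x.2 : ℕ)) • ((x.1.out : OB) : Ω), hnotO _ ((hinv _ _).not.2 (x.1.out).2)⟩ : orbit S b₀) :=
          fun x y e => hinj (congrArg Subtype.val e)
        have h := Nat.card_le_card_of_injective _ hinj'
        rw [Nat.card_prod, Nat.card_eq_fintype_card (α := Quotient r), Nat.card_fin, hB] at h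
        nlinarith [hp.pos]
      obtain ⟨k, hk⟩ := (hPp.of_surjective ρ.rangeRestrict ρ.rangeRestrict_surjective).exists_card_eq
      have hdvd : p ^ k ∣ Nat.factorial (Nat.card (Quotient r)) := by
        rw [← hk, ← Nat.card_perm]; exact Subgroup.card_subgroup_dvd_card _
      have hk1 : k ≤ 1 := by
        by_contra hk2
        have h2 : p ^ 2 ∣ p.factorial := (pow_dvd_pow p (by omega)).trans (hdvd.trans (Nat.factorial_dvd_factorial hq))
        rw [← Nat.mul_factorial_pred hp.ne_zero, sq] at h2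
        have h3 := Nat.dvd_of_mul_dvd_mul_left hp.pos h2
        rw [hp.dvd_factorial] at h3
        have := hp.two_le
        omega
      have h1 := Subgroup.index_dvd_of_le (hker.trans heq.le)
      rw [Subgroup.index_ker, hk, MulAction.index_stabilizer, ← Nat.card_coe_set_eq, ← hO, hA] at h1
      have := Nat.le_of_dvd (pow_pos hp.pos _) h1
      have := Nat.pow_le_pow_right hp.pos hk1
      nlinarith [hp.two_le]
    obtain ⟨y, hyQ, h1, h2, h3⟩ := hpick Q hQn hQne
    refine ⟨y, h1, h2, h3, fun a ha b hb => ?_⟩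
    obtain ⟨i, hi⟩ := hyQ b hb
    refine ⟨z * (z ^ i)⁻¹, ?_, ?_⟩
    · have hzi : (z ^ i) ∈ stabilizer S a := Subgroup.pow_mem _ (hzfix a ha) i
      have hz' : (z * (z ^ i)⁻¹) ∈ stabilizer S a := Subgroup.mul_mem _ (hzfix a ha) (Subgroup.inv_mem _ hzi)
      exact hz'
    · rw [hi, mul_smul, inv_smul_smul]
  -- glue
  let σ : Equiv.Perm Ω :=
    { toFun := fun x => if x ∈ O then y • x else z • x
      invFun := fun x => if x ∈ O then y⁻¹ • x else z⁻¹ • x
      left_inv := fun x => by
        by_cases hx : x ∈ O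
        · simp [hx, (hinv y x).2 hx]
        · simp [hx, (hinv z x).not.2 hx]
      right_inv := fun x => by
        by_cases hx : x ∈ O
        · simp [hx, (hinv y⁻¹ x).2 hx]
        · simp [hx, (hinv z⁻¹ x).not.2 hx] }
  have hσO : ∀ x ∈ O, σ x = y • x := fun x hx => if_pos hx
  have hσB : ∀ x, x ∉ O → σ x = z • x := fun x hx => if_neg hx
  have hcross : ∀ a ∈ O, ∀ b, b ∉ O → ∃ g : G, σ a = g • a ∧ σ b = g • b := by
    intro a ha b hb
    obtain ⟨h, h1, h2⟩ := hyorb a ha b hb
    have hhy : h • (y • a) = y • a := by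
      rw [← mul_smul, hyc h a ha, mul_smul, h1]
    refine ⟨((h * y : S) : G), ?_, ?_⟩
    · rw [hσO a ha]; show y • a = (h * y) • a; rw [mul_smul, hhy]
    · rw [hσB b hb]; show z • b = (h * y) • b; rw [mul_smul, h2]
  obtain ⟨g, hg⟩ := hcl σ fun a b => by
    by_cases ha : a ∈ O <;> by_cases hb : b ∈ O
    · exact ⟨(y : G), hσO a ha, hσO b hb⟩
    · exact hcross a ha b hb
    · obtain ⟨g, h1, h2⟩ := hcross b hb a ha
      exact ⟨g, h2, h1⟩
    · exact ⟨(z : G), hσB a ha, hσB b hb⟩
  have hmove : ∀ ω : Ω, g • ω ≠ ω := by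
    intro ω
    rw [← hg]
    by_cases hω : ω ∈ O
    · rw [hσO ω hω]
      intro e
      obtain ⟨s, hs⟩ : ω ∈ orbit S a₀ := hω
      have hs' : ω = s • a₀ := hs.symm
      subst hs'
      rw [← mul_smul, ← hyc s a₀ (mem_orbit_self a₀), mul_smul] at e
      exact hya (MulAction.injective s e)
    · rw [hσB ω hω]; exact hzmove ω hω
  refine ⟨g, ?_, hmove⟩
  have hiter : ∀ (m : ℕ) (x : Ω), g ^ m • x = if x ∈ O then (y ^ m) • x else (z ^ m) • x := by
    intro m
    induction m with
    | zero => intro x; simp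
    | succ m ih =>
      intro x
      rw [pow_succ, mul_smul, ← hg]
      by_cases hx : x ∈ O
      · rw [hσO x hx, ih, if_pos ((hinv y x).2 hx), if_pos hx, pow_succ, mul_smul]
      · rw [hσB x hx, ih, if_neg ((hinv z x).not.2 hx), if_neg hx, pow_succ, mul_smul]
  have hgp : g ^ p = 1 := eq_of_smul_eq_smul (α := Ω) fun x => by
    rw [hiter, one_smul]
    split_ifs with hx
    · exact hyp x hx
    · rw [hzp, one_smul]
  rw [orderOf_eq_prime hgp fun e => hmove a₀ (by rw [e, one_smul])]
  exact hp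

end Cfsg.Agent.S3557
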