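import Cfsg.Statements.S3559
import Mathlib
-- import your own Cfsg.Agent.* helpers here

set_option autoImplicit false
open Cfsg

namespace Cfsg.Agent.S3559

open MulAction in
open scoped Pointwise in
/-- Schur's theorem on primitive groups with a regular cyclic subgroup, in coordinates. -/
theorem schur_core {G Ω : Type*} [Group G] [MulAction G Ω] [Finite Ω] {C : Type*} [CommGroup C] [Finite C]
    [IsCyclic C] (ι : C →* G) (a : Ω) (e : C ≃ Ω) (he : ∀ c, e c = ι c • a)
    (hprim : IsPreprimitive G Ω) (htr : IsPretransitive G Ω) {p q : ℕ} (hp : p.Prime) (hq : q.Prime)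
    (hpq : p ≠ q) (hpd : p ∣ Nat.card C) (hqd : q ∣ Nat.card C) :
    IsMultiplyPretransitive G Ω 2 := by
  classical
  letI := Fintype.ofFinite C
  letI := Fintype.ofFinite Ω
  have hιe : ∀ c d, ι c • e d = e (c * d) := fun c d => by rw [he, he, smul_smul, ← map_mul]
  have he1 : e 1 = a := by rw [he, map_one, one_smul]
  have key : ∀ (X : Finset C) (r : ℕ), r.Prime → r ∣ Nat.card C →
      (∀ g : G, g • a = a → ∀ x ∈ X, ∃ y ∈ X, g • e x = e y) →
      ∀ x ∈ X, x ^ r ≠ 1 → ∀ u : C, u ^ r = 1 → x * u ∈ X := by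
    intro X r hr hrd hX x hx hxr u hu
    haveI : Fact r.Prime := ⟨hr⟩
    -- invariance of the adjacency relation
    have hN : ∀ (g : G) (c d : C), g • e c = e d → (Finset.image (fun z => e (d * z)) X) =
        Finset.image (fun z => g • e (c * z)) X := by
      intro g c d hgd
      have hstab : ((ι d)⁻¹ * g * ι c) • a = a := by
        rw [mul_smul, mul_smul, ← he, hgd, he, inv_smul_smul]
      symm
      refine Finset.eq_of_subset_of_card_le (fun w hw => ?_) ?_
      · obtain ⟨z, hz, rfl⟩ := Finset.mem_image.1 hw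
        obtain ⟨y, hy, hgy⟩ := hX _ hstab z hz
        refine Finset.mem_image.2 ⟨y, hy, ?_⟩
        rw [← hιe, ← hgy, mul_smul, mul_smul, hιe, smul_inv_smul]
      · rw [Finset.card_image_of_injective _ (fun z w h => mul_left_cancel (e.injective h)),
          Finset.card_image_of_injective _ (fun z w h => mul_left_cancel (e.injective (smul_left_cancel g h)))]
    let S : C →* Module.End (ZMod r) (Ω → ZMod r) :=
      { toFun := fun c => LinearMap.funLeft (ZMod r) (ZMod r) (fun ω => ι c • ω)
        map_one' := by ext φ ω; simp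
        map_mul' := fun c d => by
          apply LinearMap.ext; intro φ; funext ω
          show φ (ι (c * d) • ω) = φ (ι d • ι c • ω)
          rw [smul_smul, ← map_mul, mul_comm] }
    let L := MonoidAlgebra.lift (ZMod r) (Module.End (ZMod r) (Ω → ZMod r)) C S
    haveI : CharP (MonoidAlgebra (ZMod r) C) r :=
      charP_of_injective_algebraMap (FaithfulSMul.algebraMap_injective (ZMod r) (MonoidAlgebra (ZMod r) C)) r
    let T : Module.End (ZMod r) (Ω → ZMod r) := ∑ z ∈ X, S z
    have hTr : T ^ r = ∑ z ∈ X, S (z ^ r) := by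
      have h1 : T = L (∑ z ∈ X, MonoidAlgebra.of (ZMod r) C z) := by
        rw [map_sum]; exact Finset.sum_congr rfl fun z _ => (MonoidAlgebra.lift_of _ _).symm
      rw [h1, ← map_pow, sum_pow_char r, map_sum]
      refine Finset.sum_congr rfl fun z _ => ?_
      rw [← map_pow]
      exact MonoidAlgebra.lift_of _ _
    have hT : ∀ φ c, T φ (e c) = ∑ z ∈ X, φ (e (c * z)) := fun φ c => by
      simp only [T, LinearMap.sum_apply, Finset.sum_apply]
      refine Finset.sum_congr rfl fun z _ => ?_
      show φ (ι z • e c) = _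
      rw [hιe, mul_comm]
    have hTg : ∀ (g : G) φ ω, T (fun δ => φ (g • δ)) ω = T φ (g • ω) := by
      intro g φ ω
      obtain ⟨c, rfl⟩ := e.surjective ω
      obtain ⟨d, hd⟩ := e.surjective (g • e c)
      rw [← hd, hT, hT]
      have h := congrArg (fun s : Finset Ω => ∑ w ∈ s, φ w) (hN g c d hd.symm)
      rw [Finset.sum_image (fun z _ w _ h => mul_left_cancel (e.injective h)),
        Finset.sum_image (fun z _ w _ h => mul_left_cancel (e.injective (smul_left_cancel g h)))] at h
      exact h.symm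
    have hTgn : ∀ n (g : G) φ ω, (T ^ n) (fun δ => φ (g • δ)) ω = (T ^ n) φ (g • ω) := by
      intro n
      induction n with
      | zero => intro g φ ω; rfl
      | succ n ih =>
        intro g φ ω
        rw [pow_succ, Module.End.mul_apply, Module.End.mul_apply]
        rw [show T (fun δ => φ (g • δ)) = fun δ => T φ (g • δ) from funext (hTg g φ)]
        exact ih g (T φ) ω
    let M : Ω → Ω → ZMod r := fun ω δ => (T ^ r) (Pi.single δ 1) ω
    have hMg : ∀ (g : G) ω δ, M (g • ω) (g • δ) = M ω δ := fun g ω δ => by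
      show (T ^ r) (Pi.single (g • δ) 1) (g • ω) = _
      rw [← hTgn]
      exact congrArg (fun ψ : Ω → ZMod r => (T ^ r) ψ ω) (funext fun w => by simp [Pi.single_apply, smul_left_cancel_iff])
    have hM : ∀ c d, M (e c) (e d) = ((X.filter fun z => c * z ^ r = d).card : ZMod r) := fun c d => by
      show (T ^ r) (Pi.single (e d) 1) (e c) = _
      rw [hTr]
      simp only [LinearMap.sum_apply, Finset.sum_apply]
      have : ∀ z, S (z ^ r) (Pi.single (e d) (1 : ZMod r)) (e c) = if c * z ^ r = d then 1 else 0 := fun z => by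
        show (Pi.single (e d) (1 : ZMod r) : Ω → ZMod r) (ι (z ^ r) • e c) = _
        rw [hιe, Pi.single_apply, mul_comm]
        simp [e.injective.eq_iff]
      simp only [this, Finset.sum_boole]
    -- the block generated by the relation
    let R : Ω → Ω → Prop := fun ω δ => M ω δ ≠ 0
    have hsub : ∀ ω δ, Relation.EqvGen R ω δ → (e.symm ω)⁻¹ * e.symm δ ∈ (powMonoidHom r : C →* C).range := by
      intro ω δ h
      induction h with
      | rel ω δ h =>
        obtain ⟨c, rfl⟩ := e.surjective ω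
        obtain ⟨d, rfl⟩ := e.surjective δ
        rw [e.symm_apply_apply, e.symm_apply_apply]
        change M (e c) (e d) ≠ 0 at h
        rw [hM] at h
        have hne : (X.filter fun z => c * z ^ r = d).Nonempty := by
          rw [Finset.nonempty_iff_ne_empty]; intro h0; rw [h0] at h; simp at h
        obtain ⟨z, hz⟩ := hne
        exact ⟨z, by rw [powMonoidHom_apply, ← (Finset.mem_filter.1 hz).2, inv_mul_cancel_left]⟩
      | refl ω => rw [inv_mul_cancel]; exact one_mem _
      | symm ω δ _ ih => rw [← inv_mem_iff, mul_inv_rev, inv_inv]; exact ih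
      | trans ω δ ε _ _ ih1 ih2 =>
        have := mul_mem ih1 ih2
        rwa [mul_assoc, mul_inv_cancel_left] at this
    have hEg : ∀ (g : G) ω δ, Relation.EqvGen R ω δ → Relation.EqvGen R (g • ω) (g • δ) := by
      intro g ω δ h
      induction h with
      | rel ω δ h => exact .rel _ _ (show M (g • ω) (g • δ) ≠ 0 by rw [hMg]; exact h)
      | refl ω => exact .refl _
      | symm ω δ _ ih => exact .symm _ _ ih
      | trans ω δ ε _ _ ih1 ih2 => exact .trans _ _ _ ih1 ih2
    let B : Set Ω := {δ | Relation.EqvGen R a δ}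
    have hB : IsBlock G B := by
      rw [isBlock_iff_smul_eq_of_mem]
      intro g δ hδ hgδ
      have hga : Relation.EqvGen R a (g • a) := .trans _ _ _ hgδ (.symm _ _ (hEg g _ _ hδ))
      refine Set.Subset.antisymm ?_ fun w hw => ?_
      · rintro _ ⟨w, hw, rfl⟩
        exact .trans _ _ _ hga (hEg g _ _ hw)
      · refine ⟨g⁻¹ • w, ?_, smul_inv_smul _ _⟩
        show Relation.EqvGen R a (g⁻¹ • w)
        have h' := hEg g⁻¹ _ _ (Relation.EqvGen.trans _ _ _ (Relation.EqvGen.symm _ _ hga) hw)
        rwa [inv_smul_smul] at h'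
    -- the coefficient at `x ^ r` vanishes modulo `r`
    have hzero : M a (e (x ^ r)) = 0 := by
      by_contra h
      have hin : e (x ^ r) ∈ B := .rel _ _ h
      rcases hprim.isTrivialBlock_of_isBlock hB with hs | hu'
      · have := hs hin (.refl a : a ∈ B)
        rw [← he1] at this
        exact hxr (e.injective this)
      · have hsurj : Function.Surjective (powMonoidHom r : C →* C) := fun c => by
          have := hsub a (e c) (show e c ∈ B by rw [hu']; trivial)
          rwa [← he1, e.symm_apply_apply, e.symm_apply_apply, inv_one, one_mul] at this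
        obtain ⟨y, hy⟩ := exists_prime_orderOf_dvd_card' r hrd
        have := Finite.injective_iff_surjective.2 hsurj (a₁ := y) (a₂ := 1)
          (by rw [powMonoidHom_apply, powMonoidHom_apply, ← hy, pow_orderOf_eq_one, one_pow])
        rw [this, orderOf_one] at hy
        exact hr.one_lt.ne hy
    rw [← he1, hM, ZMod.natCast_eq_zero_iff] at hzero
    simp only [one_mul] at hzero
    -- the fibre is the whole coset of the subgroup of order `r`
    have hU : (Finset.univ.filter fun z : C => z ^ r = x ^ r).card ≤ r := by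
      refine le_trans (le_of_eq ?_) (IsCyclic.card_pow_eq_one_le (α := C) hr.pos)
      refine Finset.card_bij (fun z _ => z * x⁻¹) ?_ (fun _ _ _ _ h => mul_right_cancel h) ?_
      · intro z hz
        simp only [Finset.mem_filter, Finset.mem_univ, true_and] at hz ⊢
        rw [mul_pow, hz, inv_pow, mul_inv_cancel]
      · intro z hz
        simp only [Finset.mem_filter, Finset.mem_univ, true_and] at hz ⊢
        exact ⟨z * x, by rw [mul_pow, hz, one_mul], mul_inv_cancel_right z x⟩
    have hsubF : (X.filter fun z => z ^ r = x ^ r) ⊆ Finset.univ.filter fun z : C => z ^ r = x ^ r :=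
      Finset.filter_subset_filter _ (Finset.subset_univ _)
    have hpos : 0 < (X.filter fun z => z ^ r = x ^ r).card := Finset.card_pos.2 ⟨x, Finset.mem_filter.2 ⟨hx, rfl⟩⟩
    have hge := Nat.le_of_dvd hpos hzero
    have hall := Finset.eq_of_subset_of_card_le hsubF (by omega)
    have hmem : x * u ∈ X.filter fun z => z ^ r = x ^ r := by
      rw [hall]; simp [mul_pow, hu]
    exact (Finset.mem_filter.1 hmem).1
  -- the suborbits
  let X : C → Finset C := fun w => Finset.univ.filter fun z => ∃ g : G, g • a = a ∧ g • e w = e z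
  have hXinv : ∀ w (g : G), g • a = a → ∀ x ∈ X w, ∃ y ∈ X w, g • e x = e y := by
    intro w g hg x hx
    obtain ⟨y, hy⟩ := e.surjective (g • e x)
    obtain ⟨h, hh1, hh2⟩ := (Finset.mem_filter.1 hx).2
    exact ⟨y, Finset.mem_filter.2 ⟨Finset.mem_univ _, g * h, by rw [mul_smul, hh1, hg], by rw [mul_smul, hh2, hy]⟩, hy.symm⟩
  have kp : ∀ w x u, x ∈ X w → x ^ p ≠ 1 → u ^ p = 1 → x * u ∈ X w := fun w x u hx hxp hu =>
    key _ p hp hpd (hXinv w) x hx hxp u hu
  have kq : ∀ w x u, x ∈ X w → x ^ q ≠ 1 → u ^ q = 1 → x * u ∈ X w := fun w x u hx hxq hu =>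
    key _ q hq hqd (hXinv w) x hx hxq u hu
  have hself : ∀ w, w ∈ X w := fun w => Finset.mem_filter.2 ⟨Finset.mem_univ _, 1, one_smul _ _, one_smul _ _⟩
  haveI : Fact p.Prime := ⟨hp⟩
  haveI : Fact q.Prime := ⟨hq⟩
  obtain ⟨u0, hu0⟩ := exists_prime_orderOf_dvd_card' p hpd
  obtain ⟨v0, hv0⟩ := exists_prime_orderOf_dvd_card' q hqd
  have hne : ∀ z : C, ∀ r s : ℕ, r.Prime → s.Prime → r ≠ s → z ^ r = 1 → z ^ s = 1 → z = 1 := by
    intro z r s hr hs hrs h1 h2
    have := Nat.dvd_gcd (orderOf_dvd_of_pow_eq_one h1) (orderOf_dvd_of_pow_eq_one h2)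
    rw [(Nat.coprime_primes hr hs).2 hrs, Nat.dvd_one, orderOf_eq_one_iff] at this
    exact this
  -- the suborbit of `u0` contains all elements of order `p`
  have hPall : ∀ w, w ^ p = 1 → w ≠ 1 → u0 ∈ X w := by
    intro w hwp hw1
    have hu0p : u0 ^ p = 1 := by rw [← hu0, pow_orderOf_eq_one]
    have hv0q : v0 ^ q = 1 := by rw [← hv0, pow_orderOf_eq_one]
    have hv1 : v0 ≠ 1 := fun h => by rw [h, orderOf_one] at hv0; exact hq.one_lt.ne hv0
    have hu1 : u0 ≠ 1 := fun h => by rw [h, orderOf_one] at hu0; exact hp.one_lt.ne hu0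
    have hwv : w * v0 ∈ X w := kq w w v0 (hself w) (fun h => hw1 (hne w p q hp hq hpq hwp h)) hv0q
    have h1 : (w * v0) ^ p ≠ 1 := fun h => by
      rw [mul_pow, hwp, one_mul] at h
      exact hv1 (hne v0 p q hp hq hpq h hv0q)
    have h2 : w * v0 * (w⁻¹ * u0) ∈ X w := kp w _ _ hwv h1 (by rw [mul_pow, inv_pow, hwp, hu0p, inv_one, one_mul])
    have h3 : (w * v0 * (w⁻¹ * u0)) ^ q ≠ 1 := fun h => by
      rw [show w * v0 * (w⁻¹ * u0) = v0 * u0 by rw [mul_comm w v0, mul_assoc, mul_inv_cancel_left],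
        mul_pow, hv0q, one_mul] at h
      exact hu1 (hne u0 p q hp hq hpq hu0p h)
    have h4 := kq w _ v0⁻¹ h2 h3 (by rw [inv_pow, hv0q, inv_one])
    rwa [show w * v0 * (w⁻¹ * u0) * v0⁻¹ = u0 by
      rw [mul_comm w v0, mul_assoc v0 w, mul_inv_cancel_left, mul_comm v0, mul_inv_cancel_right]] at h4
  -- every suborbit meets the elements of order `p`
  have hmeet : ∀ w, w ≠ 1 → ∃ z ∈ X w, z ^ p = 1 := by
    intro w hw
    by_contra hno
    push Not at hno
    have h1 : (1 : C) ∉ X w := fun h => hno 1 h (one_pow p)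
    let N : Ω → Set Ω := fun ω => {δ | ∃ g : G, g • a = ω ∧ ∃ z ∈ X w, g • e z = δ}
    have hNc : ∀ c, N (e c) = (fun z => e (c * z)) '' (X w : Set C) := by
      intro c
      ext δ
      constructor
      · rintro ⟨g, hg, z, hz, rfl⟩
        have hstab : ((ι c)⁻¹ * g) • a = a := by rw [mul_smul, hg, he, inv_smul_smul]
        obtain ⟨y, hy, hgy⟩ := hXinv w _ hstab z hz
        refine ⟨y, hy, ?_⟩
        show e (c * y) = _
        rw [← hιe, ← hgy, mul_smul, smul_inv_smul]
      · rintro ⟨z, hz, rfl⟩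
        exact ⟨ι c, (he c).symm, z, hz, hιe c z⟩
    have hNg : ∀ (g : G) ω, N (g • ω) = g • N ω := by
      intro g ω
      ext δ
      constructor
      · rintro ⟨h, hh, z, hz, rfl⟩
        exact ⟨g⁻¹ • h • e z, ⟨g⁻¹ * h, by rw [mul_smul, hh, inv_smul_smul], z, hz, mul_smul _ _ _⟩, smul_inv_smul _ _⟩
      · rintro ⟨_, ⟨h, hh, z, hz, rfl⟩, rfl⟩
        exact ⟨g * h, by rw [mul_smul, hh], z, hz, mul_smul _ _ _⟩
    let B : Set Ω := {ω | N ω = N a}
    have hB : IsBlock G B := by
      rw [isBlock_iff_smul_eq_of_mem]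
      intro g δ hδ hgδ
      have hga : g • N a = N a := by
        have e1 : N δ = N a := hδ
        have e2 : N (g • δ) = N a := hgδ
        rw [hNg, e1] at e2; exact e2
      refine Set.Subset.antisymm ?_ fun v hv => ?_
      · rintro _ ⟨v, hv, rfl⟩
        show N (g • v) = N a
        rw [hNg, show N v = N a from hv, hga]
      · refine ⟨g⁻¹ • v, ?_, smul_inv_smul _ _⟩
        show N (g⁻¹ • v) = N a
        rw [hNg, show N v = N a from hv, inv_smul_eq_iff, hga]
    have hu0p : u0 ^ p = 1 := by rw [← hu0, pow_orderOf_eq_one]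
    have hu0B : e u0 ∈ B := by
      show N (e u0) = N a
      rw [← he1, hNc, hNc]
      ext δ
      constructor
      · rintro ⟨z, hz, rfl⟩
        exact ⟨z * u0, kp w z u0 hz (hno z hz) hu0p, by simp [mul_comm]⟩
      · rintro ⟨z, hz, rfl⟩
        refine ⟨z * u0⁻¹, kp w z _ hz (hno z hz) (by rw [inv_pow, hu0p, inv_one]), ?_⟩
        show e (u0 * (z * u0⁻¹)) = e (1 * z)
        rw [one_mul, mul_comm z, mul_inv_cancel_left]
    rcases hprim.isTrivialBlock_of_isBlock hB with hs | hall
    · have := hs hu0B (show a ∈ B from rfl)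
      rw [← he1] at this
      rw [e.injective this, orderOf_one] at hu0
      exact hp.one_lt.ne hu0
    · have hall' : ∀ c, N (e c) = N a := fun c => (by rw [hall]; trivial : e c ∈ B)
      have h := hall' w⁻¹
      rw [← he1, hNc, hNc] at h
      have : e 1 ∈ (fun z => e (1 * z)) '' (X w : Set C) := by
        rw [← h]; exact ⟨w, hself w, by simp⟩
      obtain ⟨z, hz, hz1⟩ := this
      have hz1' : 1 * z = 1 := e.injective hz1
      rw [one_mul] at hz1'
      exact h1 (hz1' ▸ hz)
  have hfix : ∀ w, w ≠ 1 → ∀ z ∈ X w, z ≠ 1 := by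
    intro w hw z hz h
    obtain ⟨g, hg1, hg2⟩ := (Finset.mem_filter.1 hz).2
    rw [h, he1, ← hg1, smul_left_cancel_iff, ← he1] at hg2
    exact hw (e.injective hg2)
  have hto : ∀ w, w ≠ 1 → ∃ g : G, g • a = a ∧ g • e w = e u0 := by
    intro w hw
    obtain ⟨z, hz, hzp⟩ := hmeet w hw
    obtain ⟨g, hg1, hg2⟩ := (Finset.mem_filter.1 hz).2
    obtain ⟨h, hh1, hh2⟩ := (Finset.mem_filter.1 (hPall z hzp (hfix w hw z hz))).2
    exact ⟨h * g, by rw [mul_smul, hg1, hh1], by rw [mul_smul, hg2, hh2]⟩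
  have hstab : ∀ δ, δ ≠ a → ∃ g : G, g • a = a ∧ g • δ = e u0 := by
    intro δ hδ
    obtain ⟨w, rfl⟩ := e.surjective δ
    exact hto w fun h => hδ (by rw [h, he1])
  rw [is_two_pretransitive_iff]
  intro x y x' y' hxy hxy'
  obtain ⟨g, hg⟩ := htr.exists_smul_eq x a
  obtain ⟨g', hg'⟩ := htr.exists_smul_eq x' a
  obtain ⟨h, hh1, hh2⟩ := hstab (g • y) fun h => hxy (smul_left_cancel g (by rw [hg, h]))
  obtain ⟨h', hh1', hh2'⟩ := hstab (g' • y') fun h => hxy' (smul_left_cancel g' (by rw [hg', h]))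
  refine ⟨g'⁻¹ * h'⁻¹ * h * g, ?_, ?_⟩
  · rw [mul_smul, mul_smul, mul_smul, hg, hh1, inv_smul_eq_iff.2 hh1'.symm, inv_smul_eq_iff]; exact hg'.symm
  · rw [mul_smul, mul_smul, mul_smul, hh2, ← hh2', inv_smul_smul, inv_smul_smul]

/-- Let G act faithfully and transitively on a finite set whose number of points n ≥ 2 is not a prime power, and suppose G has a cyclic subgroup acting regularly (transitively with trivial point stabilizers). Then G is imprimitive or doubly transitive. -/
theorem result {G Ω : Type*} [Group G] [Finite G] [MulAction G Ω] [FaithfulSMul G Ω] [Finite Ω]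
    (htrans : MulAction.IsPretransitive G Ω) (hn : 2 ≤ Nat.card Ω) (hnp : ¬ IsPrimePow (Nat.card Ω))
    (C : Subgroup G) (hcyc : IsCyclic ↥C) (hC : MulAction.IsPretransitive ↥C Ω ∧ ∀ a : Ω, MulAction.stabilizer ↥C a = ⊥) :
    ¬ MulAction.IsPreprimitive G Ω ∨ MulAction.IsMultiplyPretransitive G Ω 2 := by
  classical
  refine or_iff_not_imp_left.2 fun hprim => ?_
  push Not at hprim
  obtain ⟨a⟩ : Nonempty Ω := (Nat.card_pos_iff.1 (by omega : 0 < Nat.card Ω)).1
  obtain ⟨hCt, hCs⟩ := hC
  haveI := hcyc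
  letI : CommGroup ↥C := IsCyclic.commGroup
  have hinj : Function.Injective fun c : ↥C => c • a := fun c d h => by
    have : d⁻¹ * c ∈ MulAction.stabilizer ↥C a := by
      rw [MulAction.mem_stabilizer_iff, mul_smul, inv_smul_eq_iff]; exact h
    rw [hCs a, Subgroup.mem_bot, inv_mul_eq_one] at this
    exact this.symm
  let e : ↥C ≃ Ω := Equiv.ofBijective _ ⟨hinj, fun ω => hCt.exists_smul_eq a ω⟩
  have hcard : Nat.card ↥C = Nat.card Ω := Nat.card_congr e
  obtain ⟨p, q, hp, hq, hpq, hpd, hqd⟩ : ∃ p q, Nat.Prime p ∧ Nat.Prime q ∧ p ≠ q ∧ p ∣ Nat.card Ω ∧ q ∣ Nat.card Ω := by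
    set n := Nat.card Ω with hn'
    refine ⟨n.minFac, ?_⟩
    by_contra h
    push Not at h
    refine hnp ((isPrimePow_iff_unique_prime_dvd).2 ⟨n.minFac, ⟨Nat.minFac_prime (by omega), Nat.minFac_dvd n⟩, fun r hr => ?_⟩)
    by_contra hne
    exact h r (Nat.minFac_prime (by omega)) hr.1 (fun hh => hne hh.symm) (Nat.minFac_dvd n) hr.2
  exact schur_core C.subtype a e (fun c => rfl) hprim htrans hp hq hpq (hcard ▸ hpd) (hcard ▸ hqd)

end Cfsg.Agent.S3559
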