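import Cfsg.Statements.S3560
import Mathlib
import Cfsg.Agent.Lib.Lie.HammingScheme
-- import your own Cfsg.Agent.* helpers here

set_option autoImplicit false
open Cfsg

namespace Cfsg.Agent.S3560

/-- Let K be a finite group isomorphic to a direct product of r ≥ 2 groups all of the same order m ≥ 3. Then K is not a B-group: there is a primitive but not doubly transitive permutation group (on some finite set) containing a regular subgroup isomorphic to K. -/
theorem result {K : Type*} [Group K] [Finite K] {ι : Type*} [Fintype ι] (F : ι → Type*) [∀ i, Group (F i)]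
    (hr : 2 ≤ Fintype.card ι) (m : ℕ) (hm : 3 ≤ m) (hcard : ∀ i, Nat.card (F i) = m) (e : K ≃* (∀ i, F i)) :
    ∃ (n : ℕ) (G R : Subgroup (Equiv.Perm (Fin n))), R ≤ G ∧ Nonempty (↥R ≃* K) ∧
      MulAction.IsPretransitive ↥R (Fin n) ∧ (∀ a : Fin n, MulAction.stabilizer ↥R a = ⊥) ∧
      MulAction.IsPreprimitive ↥G (Fin n) ∧ ¬ MulAction.IsMultiplyPretransitive ↥G (Fin n) 2 := by
  classical
  have hm0 : m ≠ 0 := by omega
  haveI : ∀ i, Finite (F i) := fun i => Nat.finite_of_card_ne_zero (by rw [hcard i]; exact hm0)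
  let φ : ∀ i, F i ≃ Fin m := fun i => (Finite.equivFin (F i)).trans (finCongr (hcard i))
  let ε : (ι → Fin m) ≃ Fin (Fintype.card (ι → Fin m)) := Fintype.equivFin _
  let f : K →* Equiv.Perm (Fin (Fintype.card (ι → Fin m))) :=
    { toFun := fun k => ε.permCongr (Cfsg.Agent.Lie.HammingScheme.move 1 fun i =>
        ((φ i).symm.trans (Equiv.mulLeft (e k i))).trans (φ i))
      map_one' := by
        ext a
        simp [Equiv.permCongr_apply, Cfsg.Agent.Lie.HammingScheme.move]
      map_mul' := fun k l => by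
        ext a
        simp [Equiv.permCongr_apply, Cfsg.Agent.Lie.HammingScheme.move, mul_assoc] }
  have hval : ∀ k a, f k a = ε fun i => φ i (e k i * (φ i).symm (ε.symm a i)) := fun k a => rfl
  have hfix : ∀ k a, f k a = a → k = 1 := by
    intro k a h
    rw [hval, ← ε.eq_symm_apply] at h
    refine e.injective (funext fun i => ?_)
    have h1 := congrArg (φ i).symm (congrFun h i)
    rw [Equiv.symm_apply_apply] at h1
    rw [map_one]
    exact mul_eq_right.1 h1
  have hinj : Function.Injective f := (injective_iff_map_eq_one f).2 fun k hk =>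
    hfix k (ε fun _ => ⟨0, by omega⟩) (by rw [hk]; rfl)
  refine ⟨_, Cfsg.Agent.Lie.HammingScheme.isom ε, f.range, ?_, ⟨(MonoidHom.ofInjective hinj).symm⟩, ?_, ?_,
    Cfsg.Agent.Lie.HammingScheme.isPreprimitive ε hm,
    Cfsg.Agent.Lie.HammingScheme.not_two_transitive ε (by omega) hr⟩
  · rintro _ ⟨k, rfl⟩
    exact Cfsg.Agent.Lie.HammingScheme.move_mem ε 1 _
  · refine ⟨fun a b => ⟨⟨f (e.symm fun i => (φ i).symm (ε.symm b i) * ((φ i).symm (ε.symm a i))⁻¹),
      ⟨_, rfl⟩⟩, ?_⟩⟩
    show f _ a = b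
    rw [hval, ← ε.eq_symm_apply]
    funext i
    simp
  · intro a
    rw [Subgroup.eq_bot_iff_forall]
    rintro ⟨_, k, rfl⟩ hk
    refine Subtype.ext ?_
    show f k = 1
    rw [hfix k a hk, map_one]

end Cfsg.Agent.S3560
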