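import Cfsg.Statements.S3572
import Cfsg.Agent.Lib.Perm.DihedralB.Main

set_option autoImplicit false
open Cfsg

namespace Cfsg.Agent.S3572

/-- A finite primitive permutation group containing a dihedral subgroup that acts regularly (transitively with trivial point stabilizers) is doubly transitive. -/
theorem result {G Ω : Type*} [Group G] [Finite G] [MulAction G Ω] [FaithfulSMul G Ω] [Finite Ω]
    (hprim : MulAction.IsPreprimitive G Ω) (D : Subgroup G) (m : ℕ) (hD : Nonempty (↥D ≃* DihedralGroup m))
    (hDreg : MulAction.IsPretransitive ↥D Ω ∧ ∀ a : Ω, MulAction.stabilizer ↥D a = ⊥) :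
    MulAction.IsMultiplyPretransitive G Ω 2 := by
  classical
  obtain ⟨φ⟩ := hD
  obtain ⟨htr, hst⟩ := hDreg
  haveI : Finite (DihedralGroup m) := Finite.of_equiv _ φ.toEquiv
  haveI : NeZero m := ⟨by
    rintro rfl
    exact not_finite (DihedralGroup 0)⟩
  refine Cfsg.Agent.Perm.DihedralB.two_transitive hprim (D.subtype.comp φ.symm.toMonoidHom)
    fun b => ⟨?_, ?_⟩
  · intro x y h
    have h' : (φ.symm x : ↥D) • b = (φ.symm y : ↥D) • b := h
    have h'' : ((φ.symm y)⁻¹ * φ.symm x : ↥D) ∈ MulAction.stabilizer ↥D b := by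
      rw [MulAction.mem_stabilizer_iff, mul_smul, h', inv_smul_smul]
    rw [hst b, Subgroup.mem_bot, inv_mul_eq_one] at h''
    exact φ.symm.injective h''.symm
  · intro c
    obtain ⟨d, hd⟩ := MulAction.exists_smul_eq ↥D b c
    exact ⟨φ d, by simpa [Subgroup.smul_def] using hd⟩

end Cfsg.Agent.S3572
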