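import Cfsg.Statements.S3598
import Cfsg.Agent.Lib.Char.PSLSquare
import Cfsg.Agent.Lib.Lie.PSLSquare.Recognition

set_option autoImplicit false
open Cfsg Cfsg.Agent Cfsg.Agent.Char

namespace Cfsg.Agent.S3598

/-- Let p be a prime and F a field with p² elements. If a finite group G has, for every d, the same number of irreducible complex characters of degree d as PSL(2,F) (the same first column of the character table, with multiplicities), then G is isomorphic to PSL(2,F). -/
theorem result {F : Type*} [Field F] [Fintype F] (p : ℕ) (hp : p.Prime)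
    (hF : Fintype.card F = p ^ 2) {G : Type*} [Group G] [Finite G]
    (h : ∀ d : ℕ, Nat.card {χ : Cfsg.IrrCharacter G // (χ : G → ℂ) 1 = (d : ℂ)} =
      Nat.card {χ : Cfsg.IrrCharacter (Matrix.ProjectiveSpecialLinearGroup (Fin 2) F) // (χ : Matrix.ProjectiveSpecialLinearGroup (Fin 2) F → ℂ) 1 = (d : ℂ)}) :
    Nonempty (G ≃* Matrix.ProjectiveSpecialLinearGroup (Fin 2) F) := by
  classical
  haveI : Fact p.Prime := ⟨hp⟩
  haveI := Fintype.ofFinite G
  haveI := Fintype.ofFinite (Matrix.ProjectiveSpecialLinearGroup (Fin 2) F)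
  set P := Matrix.ProjectiveSpecialLinearGroup (Fin 2) F
  have hd : ∀ (χ : IrrCharacter G) (d : ℕ),
      (χ : G → ℂ) 1 = (d : ℂ) ↔ deg (χ : G → ℂ) = d := fun χ d => by
    rw [char_one_eq_deg (irr_isCharacter χ.2), Nat.cast_inj]
  have hd' : ∀ (χ : IrrCharacter P) (d : ℕ),
      (χ : P → ℂ) 1 = (d : ℂ) ↔ deg (χ : P → ℂ) = d := fun χ d => by
    rw [char_one_eq_deg (irr_isCharacter χ.2), Nat.cast_inj]
  have hcnt : ∀ d : ℕ, Nat.card {χ : IrrCharacter G // deg (χ : G → ℂ) = d} =
      Nat.card {χ : IrrCharacter P // deg (χ : P → ℂ) = d} := fun d => by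
    refine Eq.trans ?_ ((h d).trans ?_)
    · exact Nat.card_congr (Equiv.subtypeEquivRight fun χ => (hd χ d).symm)
    · exact Nat.card_congr (Equiv.subtypeEquivRight fun χ => hd' χ d)
  have hmem : ∀ χ : IrrCharacter G, ∃ ψ : IrrCharacter P, deg (ψ : P → ℂ) = deg (χ : G → ℂ) := by
    intro χ
    obtain ⟨⟨ψ, hψ⟩⟩ := (Nat.card_ne_zero.mp (show Nat.card {ψ : IrrCharacter P //
      deg (ψ : P → ℂ) = deg (χ : G → ℂ)} ≠ 0 by
        rw [← hcnt]; exact Nat.card_ne_zero.mpr ⟨⟨⟨χ, rfl⟩⟩, inferInstance⟩)).1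
    exact ⟨ψ, hψ⟩
  have hcard : Nat.card G = Nat.card P := by
    have h1 := sum_sq_deg (G := G)
    have h2 := sum_sq_deg (G := P)
    have h3 : ∀ d : ℕ, ((Finset.univ.filter fun χ : IrrCharacter G => deg (χ : G → ℂ) = d)).card =
        ((Finset.univ.filter fun χ : IrrCharacter P => deg (χ : P → ℂ) = d)).card := fun d => by
      have := hcnt d
      simpa only [Nat.card_eq_fintype_card, Fintype.card_subtype] using this
    have hG : Nat.card G = ∑ χ : IrrCharacter G, deg (χ : G → ℂ) ^ 2 := by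
      apply Nat.cast_injective (R := ℂ)
      rw [← h1, Nat.cast_sum]
      exact Finset.sum_congr rfl fun χ _ => by
        rw [Nat.cast_pow, char_one_eq_deg (irr_isCharacter χ.2)]
    have hP : Nat.card P = ∑ χ : IrrCharacter P, deg (χ : P → ℂ) ^ 2 := by
      apply Nat.cast_injective (R := ℂ)
      rw [← h2, Nat.cast_sum]
      exact Finset.sum_congr rfl fun χ _ => by
        rw [Nat.cast_pow, char_one_eq_deg (irr_isCharacter χ.2)]
    set T := Finset.univ.image (fun χ : IrrCharacter P => deg (χ : P → ℂ))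
    rw [hG, hP, ← Finset.sum_fiberwise_of_maps_to (t := T)
        (g := fun χ : IrrCharacter G => deg (χ : G → ℂ)) (fun χ _ => by
          obtain ⟨ψ, hψ⟩ := hmem χ
          exact Finset.mem_image.mpr ⟨ψ, Finset.mem_univ _, hψ⟩),
      ← Finset.sum_fiberwise_of_maps_to (t := T) (g := fun χ : IrrCharacter P => deg (χ : P → ℂ))
        (fun χ _ => Finset.mem_image_of_mem _ (Finset.mem_univ χ))]
    refine Finset.sum_congr rfl fun d _ => ?_
    rw [Finset.sum_congr rfl (g := fun _ => d ^ 2) fun χ hχ => by rw [(Finset.mem_filter.mp hχ).2],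
      Finset.sum_const, h3, ← Finset.sum_const]
    exact Finset.sum_congr rfl fun χ hχ => by rw [(Finset.mem_filter.mp hχ).2]
  have hone : ∀ χ : IrrCharacter G, deg (χ : G → ℂ) = 1 → (χ : G → ℂ) = fun _ => 1 := by
    intro χ hχ
    have hS : Nat.card {χ : IrrCharacter (Matrix.SpecialLinearGroup (Fin 2) F) //
        (χ : Matrix.SpecialLinearGroup (Fin 2) F → ℂ) 1 = (1 : ℂ)} = 1 := by
      have hq4 : 4 ≤ Fintype.card F := by rw [hF]; nlinarith [hp.two_le]
      rcases Nat.even_or_odd (Fintype.card F) with he | ho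
      · haveI : CharP F 2 :=
          ringChar.eq_iff.mp (FiniteField.even_card_iff_char_two.2 (Nat.even_iff.mp he))
        exact ((Cfsg.Agent.S2300.result (F := F)).2 hq4).1
      · exact ((Cfsg.Agent.S2299.result (F := F) ho).2 (by obtain ⟨i, hi⟩ := ho; omega)).1
    have h1 : Nat.card {χ : IrrCharacter G // deg (χ : G → ℂ) = 1} ≤ 1 := by
      rw [hcnt]
      exact le_trans (le_of_eq (Nat.card_congr (Equiv.subtypeEquivRight fun χ => Iff.rfl)))
        ((PSLSquare.card_one (F := F)).trans hS.le)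
    haveI := Finite.card_le_one_iff_subsingleton.mp h1
    have := congrArg Subtype.val (Subsingleton.elim (⟨χ, hχ⟩ : {χ : IrrCharacter G // deg (χ : G → ℂ) = 1})
      ⟨⟨_, isIrrCharacter_one⟩, by
        rw [← Nat.cast_inj (R := ℂ), ← char_one_eq_deg (irr_isCharacter isIrrCharacter_one)]
        simp⟩)
    exact congrArg Subtype.val this
  have hdeg : ∀ χ : IrrCharacter G, deg (χ : G → ℂ) = 1 ∨ deg (χ : G → ℂ) = p ^ 2 ∨
      deg (χ : G → ℂ) = p ^ 2 + 1 ∨ deg (χ : G → ℂ) = p ^ 2 - 1 ∨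
      (Odd p ∧ deg (χ : G → ℂ) = (p ^ 2 + 1) / 2) := by
    intro χ
    obtain ⟨ψ, hψ⟩ := hmem χ
    rw [← hψ, ← charDegree_eq_deg]
    exact PSLSquare.degree_cases hp hF ψ
  have hcp := Cfsg.Agent.Classical.Dickson.card_psl F
  rw [← hcard, hF] at hcp
  exact Lie.PSLSquare.psl_of_square hF hcard
    (fun g hg r hr hrg => PSLSquare.no_mixed rfl hcp hdeg hone g hg r hr hrg)

end Cfsg.Agent.S3598
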