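import Cfsg.Statements.S3599
import Mathlib
import Cfsg.Agent.Lib.Lie.CriticalPairs

set_option autoImplicit false
open Cfsg

namespace Cfsg.Agent.S3599

/-- Properties of the factors. -/
structure Fam {s : ℕ} (B : Fin s → Type) [∀ j, Group (B j)] (P Q k : Fin s → ℕ) : Prop where
  primeP : ∀ j, (P j).Prime
  primeQ : ∀ j, (Q j).Prime
  ne : ∀ j, P j ≠ Q j
  sep : ∀ i j, i ≠ j → P i ≠ P j ∧ P i ≠ Q j ∧ Q i ≠ P j ∧ Q i ≠ Q j
  kpos : ∀ j, 0 < k j
  range_eq : ∀ j, Set.range (orderOf : B j → ℕ) = {1, P j, Q j}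
  card_eq : ∀ j, Nat.card (B j) = Q j ^ k j * P j
  top : ∀ j (H : Subgroup (B j)), P j ∣ Nat.card H → Q j ∣ Nat.card H → H = ⊤
  center : ∀ j (x : B j), (∀ b, x * b = b * x) → x = 1
  normal : ∀ j (N : Subgroup (B j)), N.Normal → N ≠ ⊥ → Q j ^ k j ∣ Nat.card N

variable {s : ℕ} {B : Fin s → Type} [∀ j, Group (B j)] [∀ j, Finite (B j)] {P Q k : Fin s → ℕ}

theorem Fam.cases (hB : Fam B P Q k) (j : Fin s) (x : B j) :
    orderOf x = 1 ∨ orderOf x = P j ∨ orderOf x = Q j := by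
  have : orderOf x ∈ Set.range (orderOf : B j → ℕ) := ⟨x, rfl⟩
  rw [hB.range_eq] at this
  simpa using this

theorem Fam.coord_eq_one (hB : Fam B P Q k) {j i : Fin s} (hij : i ≠ j) {r : ℕ}
    (hr : r = P j ∨ r = Q j) (x : B i) (h : orderOf x ∣ r) : x = 1 := by
  obtain ⟨h1, h2, h3, h4⟩ := hB.sep i j hij
  rcases hB.cases i x with e | e | e
  · exact orderOf_eq_one_iff.1 e
  all_goals
    rw [e] at h
    rcases hr with rfl | rfl
    · have := (Nat.prime_dvd_prime_iff_eq (by first | exact hB.primeP i | exact hB.primeQ i) (hB.primeP j)).1 h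
      first | exact absurd this h1 | exact absurd this h3
    · have := (Nat.prime_dvd_prime_iff_eq (by first | exact hB.primeP i | exact hB.primeQ i) (hB.primeQ j)).1 h
      first | exact absurd this h2 | exact absurd this h4

theorem Fam.orderOf_eq (hB : Fam B P Q k) (x : ∀ j, B j) : orderOf x = ∏ j, orderOf (x j) := by
  refine Nat.dvd_antisymm (orderOf_dvd_of_pow_eq_one (funext fun j => ?_))
    (Finset.prod_dvd_of_isRelPrime ?_ fun j _ => orderOf_map_dvd (Pi.evalMonoidHom B j) x)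
  · rw [Pi.pow_apply]
    exact orderOf_dvd_iff_pow_eq_one.1
      (Finset.dvd_prod_of_mem (fun i => orderOf (x i)) (Finset.mem_univ j))
  · intro i _ j _ hij
    obtain ⟨h1, h2, h3, h4⟩ := hB.sep i j hij
    have c1 := (Nat.coprime_primes (hB.primeP i) (hB.primeP j)).2 h1
    have c2 := (Nat.coprime_primes (hB.primeP i) (hB.primeQ j)).2 h2
    have c3 := (Nat.coprime_primes (hB.primeQ i) (hB.primeP j)).2 h3
    have c4 := (Nat.coprime_primes (hB.primeQ i) (hB.primeQ j)).2 h4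
    rcases hB.cases i (x i) with e | e | e <;> rcases hB.cases j (x j) with e' | e' | e' <;>
      simp only [Function.onFun, ← Nat.coprime_iff_isRelPrime, e, e'] <;>
      first | exact c1 | exact c2 | exact c3 | exact c4 | exact Nat.coprime_one_left _ | exact Nat.coprime_one_right _

theorem Fam.spec (hB : Fam B P Q k) : Set.range (orderOf : (∀ j, B j) → ℕ) =
    {m : ℕ | ∃ c : Fin s → ℕ, (∀ j, c j = 1 ∨ c j = P j ∨ c j = Q j) ∧ m = ∏ j, c j} := by
  ext m
  constructor
  · rintro ⟨x, rfl⟩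
    exact ⟨fun j => orderOf (x j), fun j => hB.cases j (x j), hB.orderOf_eq x⟩
  · rintro ⟨c, hc, rfl⟩
    have : ∀ j, ∃ y : B j, orderOf y = c j := fun j => by
      have : c j ∈ Set.range (orderOf : B j → ℕ) := by rw [hB.range_eq]; simpa using hc j
      exact this
    choose y hy using this
    exact ⟨y, by rw [hB.orderOf_eq]; simp [hy]⟩

set_option maxHeartbeats 1000000 in
theorem Fam.critical (hB : Fam B P Q k) (H : Subgroup (∀ j, B j)) (N : Subgroup H) [hN : N.Normal]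
    (hne : H ≠ ⊤ ∨ N ≠ ⊥) :
    Set.range (orderOf : (H ⧸ N) → ℕ) ≠ Set.range (orderOf : (∀ j, B j) → ℕ) := by
  classical
  intro hEq
  have hdvdH : ∀ j r, (r = P j ∨ r = Q j) → r ∣ Nat.card (H ⧸ N) := by
    intro j r hr
    have : r ∈ Set.range (orderOf : (∀ j, B j) → ℕ) := by
      rw [hB.spec]
      refine ⟨fun i => if i = j then r else 1, fun i => ?_, by simp⟩
      dsimp only
      split_ifs with h
      · subst h; exact Or.inr hr
      · exact Or.inl rfl
    rw [← hEq] at this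
    obtain ⟨x, hx⟩ := this
    rw [← hx]; exact orderOf_dvd_natCard x
  have hsingle : ∀ j r, (r = P j ∨ r = Q j) →
      ∃ y : B j, (Pi.mulSingle j y : ∀ j, B j) ∈ H ∧ orderOf y = r := by
    intro j r hr
    haveI : Fact r.Prime := ⟨by rcases hr with rfl | rfl; exacts [hB.primeP j, hB.primeQ j]⟩
    obtain ⟨h, hh⟩ := exists_prime_orderOf_dvd_card' r
      ((hdvdH j r hr).trans (Subgroup.card_quotient_dvd_card N))
    rw [← Subgroup.orderOf_coe] at hh
    have heq : (Pi.mulSingle j ((h : ∀ j, B j) j) : ∀ j, B j) = h := funext fun i => by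
      by_cases hi : i = j
      · subst hi; rw [Pi.mulSingle_eq_same]
      · rw [Pi.mulSingle_eq_of_ne hi, hB.coord_eq_one hi hr ((h : ∀ j, B j) i)
          ((orderOf_map_dvd (Pi.evalMonoidHom B i) (h : ∀ j, B j)).trans (dvd_of_eq hh))]
    refine ⟨(h : ∀ j, B j) j, by rw [heq]; exact h.2, ?_⟩
    rw [← hh]
    conv_rhs => rw [← heq]
    exact (orderOf_injective (MonoidHom.mulSingle B j) (Pi.mulSingle_injective j) _).symm
  have hHtop : H = ⊤ := by
    refine eq_top_iff.2 fun x _ => Subgroup.pi_mem_of_mulSingle_mem x fun j => ?_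
    have hdvd : ∀ r, (r = P j ∨ r = Q j) → r ∣ Nat.card (H.comap (MonoidHom.mulSingle B j)) := fun r hr => by
      obtain ⟨y, hy, hyo⟩ := hsingle j r hr
      exact hyo ▸ Subgroup.orderOf_dvd_natCard _ (show y ∈ H.comap (MonoidHom.mulSingle B j) from hy)
    have := hB.top j _ (hdvd _ (Or.inl rfl)) (hdvd _ (Or.inr rfl))
    exact (show x j ∈ H.comap (MonoidHom.mulSingle B j) from this ▸ Subgroup.mem_top _)
  have hNne : N ≠ ⊥ := hne.resolve_left (not_not.2 hHtop)
  subst hHtop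
  let N' : Subgroup (∀ j, B j) := N.map (⊤ : Subgroup (∀ j, B j)).subtype
  have hN' : N'.Normal := by
    constructor
    rintro _ ⟨n, hn, rfl⟩ g
    exact ⟨⟨g, trivial⟩ * n * ⟨g, trivial⟩⁻¹, hN.conj_mem n hn _, rfl⟩
  obtain ⟨⟨x, hx⟩, hx1⟩ := Subgroup.ne_bot_iff_exists_ne_one.1 hNne
  obtain ⟨j, hj⟩ : ∃ j, (x : ∀ j, B j) j ≠ 1 := by
    by_contra hcon
    exact hx1 (Subtype.ext (Subtype.ext (funext fun j => not_not.1 fun h => hcon ⟨j, h⟩)))
  let Nj := N'.comap (MonoidHom.mulSingle B j)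
  have hNjne : Nj ≠ ⊥ := by
    intro h
    refine hj (hB.center j _ fun b => ?_)
    have hxN : (x : ∀ j, B j) ∈ N' := ⟨x, hx, rfl⟩
    set u : ∀ j, B j := Pi.mulSingle j b
    have hc : (x : ∀ j, B j) * u * (x : ∀ j, B j)⁻¹ * u⁻¹ ∈ N' := by
      rw [show (x : ∀ j, B j) * u * (x : ∀ j, B j)⁻¹ * u⁻¹ = x * (u * (x : ∀ j, B j)⁻¹ * u⁻¹) by group]
      exact mul_mem hxN (hN'.conj_mem _ (inv_mem hxN) _)
    have : (x : ∀ j, B j) j * b * ((x : ∀ j, B j) j)⁻¹ * b⁻¹ ∈ Nj := by
      show (Pi.mulSingle j _ : ∀ j, B j) ∈ N'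
      convert hc using 1
      funext i
      by_cases hi : i = j
      · subst hi; simp [u]
      · simp [u, Pi.mulSingle_eq_of_ne hi]
    rw [h, Subgroup.mem_bot, mul_inv_eq_one, mul_inv_eq_iff_eq_mul] at this
    exact this
  have hNjn : Nj.Normal := Subgroup.Normal.comap hN' (MonoidHom.mulSingle B j)
  have hinj1 : Function.Injective (MonoidHom.mulSingle B j) := fun u v e => by
    have := congrFun e j
    simpa using this
  have a1 : Nat.card Nj ∣ Nat.card N' :=
    Subgroup.card_comap_dvd_of_injective N' (MonoidHom.mulSingle B j) hinj1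
  have a2 : Nat.card N' ∣ Nat.card N :=
    Subgroup.card_map_dvd N (⊤ : Subgroup (∀ j, B j)).subtype
  have a0 : Q j ^ k j ∣ Nat.card Nj := hB.normal j Nj hNjn hNjne
  have h1 : Q j ^ k j ∣ Nat.card N := a0.trans (a1.trans a2)
  have h3 := Nat.mul_dvd_mul h1 (hdvdH j (Q j) (Or.inr rfl))
  rw [mul_comm (Nat.card N), ← Subgroup.card_eq_card_quotient_mul_card_subgroup, ← pow_succ,
    Subgroup.card_top, Nat.card_pi, ← Finset.mul_prod_erase _ _ (Finset.mem_univ j)] at h3
  have hco : Nat.Coprime (Q j) (∏ i ∈ Finset.univ.erase j, Nat.card (B i)) := by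
    refine Nat.Coprime.prod_right fun i hi => ?_
    obtain ⟨-, -, h3, h4⟩ := hB.sep j i (Finset.mem_erase.1 hi).1.symm
    rw [hB.card_eq i]
    exact (((Nat.coprime_primes (hB.primeQ j) (hB.primeQ i)).2 h4).pow_right _).mul_right
      ((Nat.coprime_primes (hB.primeQ j) (hB.primeP i)).2 h3)
  have h4 := (hco.pow_left _).dvd_of_dvd_mul_right h3
  rw [hB.card_eq j, pow_succ] at h4
  have h5 := Nat.dvd_of_mul_dvd_mul_left (pow_pos (hB.primeQ j).pos _) h4
  exact hB.ne j ((Nat.prime_dvd_prime_iff_eq (hB.primeQ j) (hB.primeP j)).1 h5).symm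

variable {B' : Fin s → Type} [∀ j, Group (B' j)] [∀ j, Finite (B' j)] {P' Q' k' : Fin s → ℕ}

set_option maxHeartbeats 1000000 in
theorem Fam.not_iso (hB : Fam B P Q k) (hB' : Fam B' P' Q' k') {j : Fin s}
    (hQ : Q j = P' j) (V : Subgroup (B j)) [hV : V.Normal] (hVc : Nat.card V = Q j ^ k j)
    (f : (∀ i, B i) ≃* (∀ i, B' i)) : False := by
  classical
  let φ : B j →* B' j := (Pi.evalMonoidHom B' j).comp (f.toMonoidHom.comp (MonoidHom.mulSingle B j))
  have hMn : (V.map φ).Normal := by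
    constructor
    rintro _ ⟨v, hv, rfl⟩ g
    obtain ⟨g', rfl⟩ : ∃ g', f g' j = g := ⟨f.symm (Pi.mulSingle j g), by simp⟩
    refine ⟨g' j * v * (g' j)⁻¹, hV.conj_mem v hv (g' j), ?_⟩
    show f (Pi.mulSingle j (g' j * v * (g' j)⁻¹)) j = _
    rw [show (Pi.mulSingle j (g' j * v * (g' j)⁻¹) : ∀ i, B i) = g' * Pi.mulSingle j v * g'⁻¹ from
      funext fun i => by
        by_cases hi : i = j
        · subst hi; simp
        · simp [Pi.mulSingle_eq_of_ne hi]]
    rw [map_mul, map_mul, map_inv]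
    rfl
  have hMne : V.map φ ≠ ⊥ := by
    intro h
    haveI : Fact (Q j).Prime := ⟨hB.primeQ j⟩
    obtain ⟨⟨v, hv⟩, hvo⟩ := exists_prime_orderOf_dvd_card' (G := V) (Q j)
      (hVc ▸ dvd_pow_self _ (hB.kpos j).ne')
    rw [Subgroup.orderOf_mk] at hvo
    have hcoord : f (Pi.mulSingle j v) = 1 := funext fun i => by
      by_cases hi : i = j
      · subst hi
        have : φ v ∈ V.map φ := Subgroup.mem_map_of_mem _ hv
        rw [h, Subgroup.mem_bot] at this
        exact this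
      · refine hB'.coord_eq_one hi (Or.inl hQ) _ ?_
        have hd : orderOf (f (Pi.mulSingle j v) i) ∣ orderOf v :=
          orderOf_map_dvd ((Pi.evalMonoidHom B' i).comp (f.toMonoidHom.comp (MonoidHom.mulSingle B j))) v
        rw [hvo] at hd
        exact hd
    have h2 := congrFun ((map_eq_one_iff f f.injective).1 hcoord) j
    rw [Pi.mulSingle_eq_same] at h2
    rw [h2, Pi.one_apply, orderOf_one] at hvo
    exact (hB.primeQ j).one_lt.ne' hvo.symm
  have h2 := (hB'.normal j _ hMn hMne).trans (Subgroup.card_map_dvd V φ)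
  rw [hVc] at h2
  have h3 := (hB'.primeQ j).dvd_of_dvd_pow ((dvd_pow_self _ (hB'.kpos j).ne').trans h2)
  exact hB'.ne j (hQ.symm.trans ((Nat.prime_dvd_prime_iff_eq (hB'.primeQ j) (hB.primeQ j)).1 h3).symm)

/-- A finite group is critical with respect to a set Ω of natural numbers when its set of element orders is Ω while no proper section H/N (H a subgroup, N normal in H, (H, N) ≠ (whole group, 1)) has Ω as its set of element orders. Let s ≥ 1 and let p(j,0), p(j,1) (j < s) be 2s pairwise distinct primes, and let Ω be the set of all products c(0)·…·c(s−1) with each c(j) ∈ {1, p(j,0), p(j,1)}. Then there are 2^s pairwise non-isomorphic finite groups critical with respect to Ω. -/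
theorem result (s : ℕ) (hs : 1 ≤ s) (p : Fin s → Fin 2 → ℕ)
    (hp : ∀ j i, (p j i).Prime) (hinj : ∀ j i j' i', p j i = p j' i' → j = j' ∧ i = i') :
    ∃ (G : Fin (2 ^ s) → Type) (_ : ∀ a, Group (G a)) (_ : ∀ a, Fintype (G a)),
      (∀ a b, a ≠ b → ¬ Nonempty (G a ≃* G b)) ∧
      ∀ a, Set.range (orderOf : (G a) → ℕ) = {m : ℕ | ∃ c : Fin s → ℕ, (∀ j, c j = 1 ∨ c j = p j 0 ∨ c j = p j 1) ∧ m = ∏ j, c j} ∧
      ∀ (H : Subgroup (G a)) (N : Subgroup ↥H) [N.Normal], (H ≠ ⊤ ∨ N ≠ ⊥) → Set.range (orderOf : (↥H ⧸ N) → ℕ) ≠ {m : ℕ | ∃ c : Fin s → ℕ, (∀ j, c j = 1 ∨ c j = p j 0 ∨ c j = p j 1) ∧ m = ∏ j, c j} := by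
  classical
  obtain ⟨e⟩ : Nonempty (Fin (2 ^ s) ≃ (Fin s → Fin 2)) := ⟨finFunctionFinEquiv.symm⟩
  haveI : ∀ j i, Fact (p j i).Prime := fun j i => ⟨hp j i⟩
  let sw : Fin 2 → Fin 2 := fun i => 1 - i
  have hsw : ∀ i, sw i ≠ i := by decide
  let P : Fin (2 ^ s) → Fin s → ℕ := fun a j => p j (e a j)
  let Q : Fin (2 ^ s) → Fin s → ℕ := fun a j => p j (sw (e a j))
  have hPQ : ∀ a j, P a j ≠ Q a j := fun a j h => hsw _ (hinj _ _ _ _ h).2.symm
  let B : Fin (2 ^ s) → Fin s → Type := fun a j => Cfsg.Agent.Lie.CritPair.B (P a j) (Q a j)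
  let k : Fin (2 ^ s) → Fin s → ℕ := fun a j => Cfsg.Agent.Lie.CritPair.dimK (P a j) (Q a j)
  letI hgrp : ∀ a j, Group (B a j) := fun a j => inferInstanceAs (Group (Cfsg.Agent.Lie.CritPair.B _ _))
  haveI : ∀ a j, Finite (B a j) := fun a j => inferInstanceAs (Finite (Cfsg.Agent.Lie.CritPair.B _ _))
  have hB : ∀ a, Fam (B a) (P a) (Q a) (k a) := fun a =>
    { primeP := fun j => hp _ _
      primeQ := fun j => hp _ _
      ne := hPQ a
      sep := fun i j hij => by
        refine ⟨?_, ?_, ?_, ?_⟩ <;> exact fun h => hij (hinj _ _ _ _ h).1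
      kpos := fun j => Cfsg.Agent.Lie.CritPair.dimK_pos _ _
      range_eq := fun j => Cfsg.Agent.Lie.CritPair.range_orderOf (hPQ a j)
      card_eq := fun j => Cfsg.Agent.Lie.CritPair.card_B (hPQ a j)
      top := fun j => Cfsg.Agent.Lie.CritPair.eq_top_of_dvd (hPQ a j)
      center := fun j => Cfsg.Agent.Lie.CritPair.center_trivial (hPQ a j)
      normal := fun j N hN => Cfsg.Agent.Lie.CritPair.dvd_normal (hPQ a j) N }
  refine ⟨fun a => ∀ j, B a j, fun a => Pi.group, fun a => Fintype.ofFinite _, ?_, fun a => ?_⟩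
  · rintro a b hab ⟨f⟩
    obtain ⟨j, hj⟩ : ∃ j, e a j ≠ e b j := by
      by_contra hcon
      exact hab (e.injective (funext fun j => not_not.1 fun h => hcon ⟨j, h⟩))
    refine (hB a).not_iso (hB b) (j := j) (congrArg (p j) ?_)
      (V := (SemidirectProduct.rightHom (φ := Cfsg.Agent.Lie.CritPair.act (P a j) (Q a j))).ker) ?_ f
    · revert hj; generalize e a j = x; generalize e b j = y; revert x y; decide
    · rw [← SemidirectProduct.range_inl_eq_ker_rightHom,
        ← Nat.card_congr (MonoidHom.ofInjective SemidirectProduct.inl_injective).toEquiv,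
        Nat.card_congr Multiplicative.toAdd, Cfsg.Agent.Lie.CritPair.card_K]
  · have hset : {m : ℕ | ∃ c : Fin s → ℕ, (∀ j, c j = 1 ∨ c j = p j 0 ∨ c j = p j 1) ∧ m = ∏ j, c j} =
        {m : ℕ | ∃ c : Fin s → ℕ, (∀ j, c j = 1 ∨ c j = P a j ∨ c j = Q a j) ∧ m = ∏ j, c j} := by
      have h : ∀ (c : Fin s → ℕ) j, (c j = 1 ∨ c j = p j 0 ∨ c j = p j 1) ↔
          (c j = 1 ∨ c j = P a j ∨ c j = Q a j) := by
        intro c j
        have : e a j = 0 ∨ e a j = 1 := by generalize e a j = x; revert x; decide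
        rcases this with h | h
        · simp [P, Q, sw, h]
        · simp [P, Q, sw, h, or_comm, or_left_comm]
      simp only [h]
    rw [hset, ← (hB a).spec]
    exact ⟨rfl, fun H N hN hne => (hB a).critical H N (hN := hN) hne⟩

end Cfsg.Agent.S3599
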