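import Cfsg.Statements.S3600
import Cfsg.Agent.Lib.Lie.CritFive
-- import your own Cfsg.Agent.* helpers here

set_option autoImplicit false
open Cfsg

namespace Cfsg.Agent.S3600

/-- A finite group is critical with respect to a set Ω of natural numbers when its set of element orders is Ω while no proper section has Ω as its set of element orders. A finite group critical with respect to {1, 2, 3, 4, 5} (the set of element orders of the alternating group of degree 6) is isomorphic either to the alternating group of degree 6 or to the affine group F² ⋊ SL(2,F) over the field F with four elements (realised as the matrices of SL(3,F) with last row (0, 0, 1)). -/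
theorem result {G : Type*} [Group G] [Finite G]
    (hcrit : Set.range (orderOf : G → ℕ) = ({1, 2, 3, 4, 5} : Set ℕ) ∧
      ∀ (H : Subgroup G) (N : Subgroup ↥H) [N.Normal], (H ≠ ⊤ ∨ N ≠ ⊥) → Set.range (orderOf : (↥H ⧸ N) → ℕ) ≠ ({1, 2, 3, 4, 5} : Set ℕ)) :
    Nonempty (G ≃* alternatingGroup (Fin 6)) ∨
      ∃ (F : Type) (_ : Field F) (_ : Fintype F), Fintype.card F = 4 ∧
        Nonempty (G ≃* ↥(Subgroup.closure {M : Matrix.SpecialLinearGroup (Fin 3) F |
          (M : Matrix (Fin 3) (Fin 3) F) 2 0 = 0 ∧ (M : Matrix (Fin 3) (Fin 3) F) 2 1 = 0 ∧ (M : Matrix (Fin 3) (Fin 3) F) 2 2 = 1})) := by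
  obtain ⟨hrange, hno⟩ := hcrit
  rcases Cfsg.Agent.Lie.CritFive.critical_structure hrange (fun M hM hM1 => by
    haveI := hM
    have hne : M.subgroupOf (⊤ : Subgroup G) ≠ ⊥ := fun e =>
      hM1 ((Subgroup.subgroupOf_eq_bot.1 e).eq_bot_of_le le_top)
    have hq := hno ⊤ (M.subgroupOf (⊤ : Subgroup G)) (Or.inr hne)
    let e : ((⊤ : Subgroup G) ⧸ M.subgroupOf (⊤ : Subgroup G)) ≃* G ⧸ M :=
      QuotientGroup.congr _ _ Subgroup.topEquiv (by
        ext y
        constructor
        · rintro ⟨z, hz, rfl⟩; exact hz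
        · intro hy; exact ⟨⟨y, Subgroup.mem_top y⟩, hy, rfl⟩)
    intro hr
    refine hq ?_
    rw [← hr]
    ext k
    constructor
    · rintro ⟨y, rfl⟩; exact ⟨e y, MulEquiv.orderOf_eq e y⟩
    · rintro ⟨y, rfl⟩; exact ⟨e.symm y, MulEquiv.orderOf_eq e.symm y⟩) with h | h
  · exact Or.inl h
  · exact Or.inr ⟨Cfsg.Agent.Spor.SpFour.F4, inferInstance, inferInstance, Cfsg.Agent.Spor.SpFour.F4.card, h⟩
end Cfsg.Agent.S3600
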