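import Cfsg.Statements.S3611
import Cfsg.Agent.Lib.Lie.HalfNormalizer.Orbits
-- import your own Cfsg.Agent.* helpers here

set_option autoImplicit false
open Cfsg

namespace Cfsg.Agent.S3611

/-- Let G be an insoluble group acting faithfully and transitively on a finite set of prime size p, and suppose the normalizer of a Sylow p-subgroup of G has order p(p-1)/2. If p ≡ 3 (mod 4), then G is triply transitive, or for any two distinct points the stabilizer of both has exactly four orbits on the set (the two fixed points and exactly two orbits on the remaining p - 2 points). -/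
theorem result {G Ω : Type*} [Group G] [Finite G] [MulAction G Ω] [FaithfulSMul G Ω] [Finite Ω]
    (p : ℕ) (hp : p.Prime) (hΩ : Nat.card Ω = p) (htrans : MulAction.IsPretransitive G Ω)
    (hins : ¬ Group.IsSolvable G) (P : Sylow p G)
    (hN : 2 * Nat.card ↥(Subgroup.normalizer ((P : Subgroup G) : Set G)) = p * (p - 1))
    (hp3 : p % 4 = 3) :
    MulAction.IsMultiplyPretransitive G Ω 3 ∨
    ∀ α β : Ω, α ≠ β →
      Nat.card (MulAction.orbitRel.Quotient ↥(MulAction.stabilizer G α ⊓ MulAction.stabilizer G β) Ω) = 4 := by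
  classical
  haveI := Fact.mk hp
  haveI := htrans
  haveI : Fintype Ω := Fintype.ofFinite Ω
  have hΩ' : Fintype.card Ω = p := by rw [← Nat.card_eq_fintype_card, hΩ]
  have h5 := Cfsg.Agent.Lie.HalfNormalizer.five_le hΩ hins P hN
  obtain ⟨C⟩ := Cfsg.Agent.Lie.HalfNormalizer.exists_coords hΩ (by omega) P hN
  have h2 := Cfsg.Agent.Lie.HalfNormalizer.two_transitive (G := G) hΩ hins
  rw [or_iff_not_imp_left]
  intro h3 a b hab
  refine le_antisymm
    (Cfsg.Agent.Lie.HalfNormalizer.card_orbits_le_four hΩ' h2 hins (by omega) C hab) ?_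
  by_contra hlt
  apply h3
  refine Cfsg.Agent.Lie.HalfNormalizer.three_transitive_of h2 hab fun x y hxa hxb hya hyb => ?_
  by_contra hno
  set H := MulAction.stabilizer G a ⊓ MulAction.stabilizer G b with hH
  have key : ∀ u w : Ω, (Quotient.mk'' u : MulAction.orbitRel.Quotient H Ω) = Quotient.mk'' w →
      ∃ g : G, g • a = a ∧ g • b = b ∧ g • w = u := by
    intro u w h
    obtain ⟨⟨g, hga, hgb⟩, hg⟩ := Quotient.exact' h
    exact ⟨g, hga, hgb, hg⟩
  have sep : ∀ u w : Ω, (u = a ∨ u = b) → u ≠ w →
      (Quotient.mk'' w : MulAction.orbitRel.Quotient H Ω) ≠ Quotient.mk'' u := by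
    intro u w hu huw h
    obtain ⟨g, hga, hgb, hg⟩ := key w u h
    rcases hu with rfl | rfl
    · exact huw (by rw [← hg, hga])
    · exact huw (by rw [← hg, hgb])
  have e6 : (Quotient.mk'' y : MulAction.orbitRel.Quotient H Ω) ≠ Quotient.mk'' x := by
    intro h
    obtain ⟨g, hga, hgb, hg⟩ := key y x h
    exact hno ⟨g, hga, hgb, hg⟩
  have e1 := sep a b (Or.inl rfl) hab
  have e2 := sep a x (Or.inl rfl) (Ne.symm hxa)
  have e3 := sep a y (Or.inl rfl) (Ne.symm hya)
  have e4 := sep b x (Or.inr rfl) (Ne.symm hxb)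
  have e5 := sep b y (Or.inr rfl) (Ne.symm hyb)
  have hinj : Function.Injective (![Quotient.mk'' a, Quotient.mk'' b, Quotient.mk'' x,
      Quotient.mk'' y] : Fin 4 → MulAction.orbitRel.Quotient H Ω) := by
    intro i j hij
    fin_cases i <;> fin_cases j <;> first
      | rfl
      | (exfalso; simp at hij; first
          | exact e1 hij | exact e2 hij | exact e3 hij | exact e4 hij | exact e5 hij | exact e6 hij
          | exact e1 hij.symm | exact e2 hij.symm | exact e3 hij.symm | exact e4 hij.symm
          | exact e5 hij.symm | exact e6 hij.symm)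
  have := Nat.card_le_card_of_injective _ hinj
  rw [Nat.card_eq_fintype_card, Fintype.card_fin] at this
  exact hlt this

end Cfsg.Agent.S3611
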