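import Cfsg.Statements.S3612
import Cfsg.Agent.Lib.Lie.HalfNormalizer.Block
-- import your own Cfsg.Agent.* helpers here

set_option autoImplicit false
open Cfsg

open scoped Pointwise

namespace Cfsg.Agent.S3612

/-- Let G be an insoluble group acting faithfully and transitively on a finite set of prime size p, and suppose the normalizer of a Sylow p-subgroup of G has order p(p-1)/2. If p > 7, then the stabilizer of a point acts primitively on the remaining p - 1 points. -/
theorem result {G Ω : Type*} [Group G] [Finite G] [MulAction G Ω] [FaithfulSMul G Ω] [Finite Ω]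
    (p : ℕ) (hp : p.Prime) (hΩ : Nat.card Ω = p) (htrans : MulAction.IsPretransitive G Ω)
    (hins : ¬ Group.IsSolvable G) (P : Sylow p G)
    (hN : 2 * Nat.card ↥(Subgroup.normalizer ((P : Subgroup G) : Set G)) = p * (p - 1))
    (hp7 : 7 < p) (α : Ω) :
    MulAction.IsPreprimitive ↥(MulAction.stabilizer G α) ↥(SubMulAction.ofStabilizer G α) := by
  classical
  haveI := Fact.mk hp
  haveI := htrans
  haveI : Fintype Ω := Fintype.ofFinite Ω
  have hΩ' : Fintype.card Ω = p := by rw [← Nat.card_eq_fintype_card, hΩ]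
  obtain ⟨C⟩ := Cfsg.Agent.Lie.HalfNormalizer.exists_coords hΩ (by omega) P hN
  have h2 := Cfsg.Agent.Lie.HalfNormalizer.two_transitive (G := G) hΩ hins
  rw [MulAction.is_two_pretransitive_iff] at h2
  haveI : MulAction.IsPretransitive ↥(MulAction.stabilizer G α) ↥(SubMulAction.ofStabilizer G α) :=
    ⟨fun ⟨x, hx⟩ ⟨y, hy⟩ => by
      have hxa : x ≠ α := hx
      have hya : y ≠ α := hy
      obtain ⟨g, ga, gx⟩ := h2 hxa.symm hya.symm
      exact ⟨⟨g, ga⟩, Subtype.ext gx⟩⟩
  constructor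
  intro B hB
  by_contra hcon
  rw [MulAction.IsTrivialBlock, not_or] at hcon
  obtain ⟨hsub, huniv⟩ := hcon
  rw [Set.not_subsingleton_iff] at hsub
  obtain ⟨⟨b, hb⟩, hbB, ⟨b', hb'⟩, hb'B, hbb⟩ := hsub
  obtain ⟨⟨x, hx⟩, hxB⟩ := (Set.ne_univ_iff_exists_notMem B).1 huniv
  refine Cfsg.Agent.Lie.HalfNormalizer.no_block hΩ' hins hp7 C (a := α) (b := b) (b' := b')
    (Ne.symm hb) (fun h => hbb (Subtype.ext h))
    { B := Subtype.val '' B
      hb := ⟨_, hbB, rfl⟩
      hb' := ⟨_, hb'B, rfl⟩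
      ha := fun ⟨⟨z, hz⟩, _, e⟩ => hz e
      x := x
      hxa := hx
      hxB := fun ⟨z, hz, e⟩ => hxB (by rwa [show z = (⟨x, hx⟩ : ↥(SubMulAction.ofStabilizer G α)) from Subtype.ext e] at hz)
      block := ?_ }
  rintro g ga _ ⟨z, hz, rfl⟩ hgz _ ⟨w, hw, rfl⟩
  obtain ⟨z', hz', ez⟩ := hgz
  set γ : MulAction.stabilizer G α := ⟨g, ga⟩ with hγ
  have hmeet : γ • z ∈ γ • B ∧ γ • z ∈ B := by
    refine ⟨Set.smul_mem_smul_set hz, ?_⟩
    rwa [show γ • z = z' from Subtype.ext ez.symm]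
  have heq : γ • B = B := by
    by_contra hne
    exact Set.disjoint_left.1 ((MulAction.isBlock_iff_disjoint_smul_of_ne.1 hB) hne) hmeet.1 hmeet.2
  exact ⟨γ • w, heq ▸ Set.smul_mem_smul_set hw, rfl⟩

end Cfsg.Agent.S3612
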