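import Cfsg.Statements.S3619
import Mathlib
-- import your own Cfsg.Agent.* helpers here

set_option autoImplicit false
open Cfsg

namespace Cfsg.Agent.S3619

/-- Let G act faithfully on a finite set in such a way that every non-trivial normal subgroup of G is transitive (G is quasiprimitive). Let Γ be a subset with more than one point and not the whole set, such that the pointwise stabilizer of the complement of Γ acts transitively on Γ (a Jordan set). If that pointwise stabilizer acts primitively on Γ, then G is k-fold transitive where k is one more than the number of points outside Γ (the Jordan set is a trivial one). -/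
theorem result {G Ω : Type*} [Group G] [Finite G] [MulAction G Ω] [FaithfulSMul G Ω] [Finite Ω]
    (hqp : ∀ N : Subgroup G, N.Normal → N ≠ ⊥ → MulAction.IsPretransitive ↥N Ω)
    (Γ : Set Ω) (hΓ1 : 1 < Γ.ncard) (hΓ2 : Γ.ncard < Nat.card Ω)
    (hJ : MulAction.IsPretransitive ↥(fixingSubgroup G Γᶜ) ↥(SubMulAction.ofFixingSubgroup G Γᶜ))
    (hJp : MulAction.IsPreprimitive ↥(fixingSubgroup G Γᶜ) ↥(SubMulAction.ofFixingSubgroup G Γᶜ)) :
    MulAction.IsMultiplyPretransitive G Ω (Nat.card Ω - Γ.ncard + 1) := by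
  classical
  open MulAction Pointwise in
  have hprim : IsPreprimitive G Ω := by
    haveI hpt : IsPretransitive G Ω := by
      obtain ⟨γ, hγ⟩ : Γ.Nonempty := (Set.ncard_pos (Set.toFinite _)).1 (by omega)
      obtain ⟨δ, hδ, hne⟩ := Set.exists_ne_of_one_lt_ncard hΓ1 γ
      obtain ⟨k, hk⟩ := hJ.1 ⟨γ, by simpa [SubMulAction.mem_ofFixingSubgroup_iff] using hγ⟩
        ⟨δ, by simpa [SubMulAction.mem_ofFixingSubgroup_iff] using hδ⟩
      have htop : (⊤ : Subgroup G) ≠ ⊥ := by
        intro h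
        have h1 : (k : G) = 1 := Subgroup.mem_bot.1 (h ▸ Subgroup.mem_top _)
        have h2 : (k : G) • γ = δ := congrArg Subtype.val hk
        rw [h1, one_smul] at h2
        exact hne h2.symm
      have := hqp ⊤ inferInstance htop
      exact ⟨fun x y => by obtain ⟨g, hg⟩ := this.1 x y; exact ⟨(g : G), hg⟩⟩
    refine ⟨fun {B} hB => ?_⟩
    by_contra htriv
    rw [IsTrivialBlock, not_or] at htriv
    obtain ⟨hsub, hBuniv⟩ := htriv
    obtain ⟨b₀, hb₀⟩ : B.Nonempty := by
      by_contra h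
      exact hsub (Set.not_nonempty_iff_eq_empty.1 h ▸ Set.subsingleton_empty)
    -- facts about the pointwise stabiliser
    have hfix : ∀ k ∈ fixingSubgroup G Γᶜ, ∀ z ∉ Γ, k • z = z := fun k hk z hz =>
      (mem_fixingSubgroup_iff G).1 hk z hz
    have htr : ∀ x ∈ Γ, ∀ y ∈ Γ, ∃ k ∈ fixingSubgroup G Γᶜ, k • x = y := by
      intro x hx y hy
      obtain ⟨k, hk⟩ := hJ.1 ⟨x, by simpa [SubMulAction.mem_ofFixingSubgroup_iff] using hx⟩
        ⟨y, by simpa [SubMulAction.mem_ofFixingSubgroup_iff] using hy⟩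
      exact ⟨k, k.2, congrArg Subtype.val hk⟩
    have hcov : ∀ x : Ω, ∃ g : G, x ∈ g • B := fun x => by
      obtain ⟨g, hg⟩ := exists_smul_eq G b₀ x
      exact ⟨g, ⟨b₀, hb₀, hg⟩⟩
    -- a translate of the block containing two points of Γ contains Γ
    have htwo : ∀ g : G, ∀ x ∈ Γ, ∀ y ∈ Γ, x ≠ y → x ∈ g • B → y ∈ g • B → Γ ⊆ g • B := by
      intro g x hx y hy hxy hxB hyB
      let S := SubMulAction.ofFixingSubgroup G Γᶜ
      let B' : Set S := Subtype.val ⁻¹' (g • B)
      have hB' : IsBlock (fixingSubgroup G Γᶜ) B' := by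
        rw [isBlock_iff_smul_eq_of_nonempty]
        rintro k ⟨z, ⟨w, hw, rfl⟩, hz2⟩
        have hk : (k : G) • (g • B) = g • B :=
          isBlock_iff_smul_eq_of_nonempty.1 (hB.translate g) ⟨_, ⟨(w : Ω), hw, rfl⟩, hz2⟩
        ext v
        rw [Set.mem_smul_set_iff_inv_smul_mem]
        show ((k⁻¹ • v : S) : Ω) ∈ g • B ↔ (v : Ω) ∈ g • B
        conv_rhs => rw [← hk, Set.mem_smul_set_iff_inv_smul_mem]
        rfl
      rcases hJp.isTrivialBlock_of_isBlock hB' with h | h
      · have := h (show (⟨x, by simpa [S, SubMulAction.mem_ofFixingSubgroup_iff] using hx⟩ : S) ∈ B' from hxB)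
          (show (⟨y, by simpa [S, SubMulAction.mem_ofFixingSubgroup_iff] using hy⟩ : S) ∈ B' from hyB)
        exact absurd (congrArg Subtype.val this) hxy
      · intro z hz
        exact (show (⟨z, by simpa [S, SubMulAction.mem_ofFixingSubgroup_iff] using hz⟩ : S) ∈ B' from h ▸ Set.mem_univ _)
    -- a translate meeting Γ and its complement contains Γ
    have hout : ∀ g : G, ∀ x ∈ Γ, ∀ z ∉ Γ, x ∈ g • B → z ∈ g • B → Γ ⊆ g • B := by
      intro g x hx z hz hxB hzB
      obtain ⟨y, hy, hyx⟩ := Set.exists_ne_of_one_lt_ncard hΓ1 x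
      obtain ⟨k, hk, hkx⟩ := htr x hx y hy
      have he : k • (g • B) = g • B :=
        isBlock_iff_smul_eq_of_nonempty.1 (hB.translate g) ⟨z, ⟨z, hzB, hfix k hk z hz⟩, hzB⟩
      exact htwo g x hx y hy hyx.symm hxB (he ▸ ⟨x, hxB, hkx⟩)
    -- Γ lies in a block
    have hin : ∃ g : G, Γ ⊆ g • B := by
      obtain ⟨γ, hγ⟩ : Γ.Nonempty := (Set.ncard_pos (Set.toFinite _)).1 (by omega)
      obtain ⟨g, hg⟩ := hcov γ
      have hns : ¬ (g • B).Subsingleton := fun h => hsub fun u hu v hv =>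
        MulAction.injective g (h ⟨u, hu, rfl⟩ ⟨v, hv, rfl⟩)
      obtain ⟨z, hz, hzγ⟩ : ∃ z ∈ g • B, z ≠ γ := by
        by_contra hcon
        exact hns fun u hu v hv => (not_not.1 fun h => hcon ⟨u, hu, h⟩).trans (not_not.1 fun h => hcon ⟨v, hv, h⟩).symm
      by_cases hzΓ : z ∈ Γ
      · exact ⟨g, htwo g γ hγ z hzΓ hzγ.symm hg hz⟩
      · exact ⟨g, hout g γ hγ z hzΓ hg hz⟩
    obtain ⟨g₀, hg₀⟩ := hin
    obtain ⟨γ, hγ⟩ : Γ.Nonempty := (Set.ncard_pos (Set.toFinite _)).1 (by omega)
    -- the kernel of the action on the translates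
    let N : Subgroup G := ⨅ g : G, stabilizer G (g • B)
    have hN : N.Normal := by
      constructor
      intro n hn u
      rw [Subgroup.mem_iInf] at hn ⊢
      intro g
      have := mem_stabilizer_iff.1 (hn (u⁻¹ * g))
      rw [mem_stabilizer_iff, mul_smul, mul_smul, ← mul_smul u⁻¹ g B, this, ← mul_smul, mul_inv_cancel_left]
    obtain ⟨δ, hδ, hδγ⟩ := Set.exists_ne_of_one_lt_ncard hΓ1 γ
    obtain ⟨k, hk, hkγ⟩ := htr γ hγ δ hδ
    have hkN : k ∈ N := by
      rw [Subgroup.mem_iInf]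
      intro g
      rw [mem_stabilizer_iff]
      by_cases hmeet : (g • B ∩ Γ).Nonempty
      · obtain ⟨w, hw1, hw2⟩ := hmeet
        have heq : g • B = g₀ • B := by
          rcases hB.smul_eq_smul_or_disjoint g g₀ with h | h
          · exact h
          · exact absurd (hg₀ hw2) (Set.disjoint_left.1 h hw1)
        rw [heq]
        exact isBlock_iff_smul_eq_of_nonempty.1 (hB.translate g₀) ⟨δ, ⟨γ, hg₀ hγ, hkγ⟩, hg₀ hδ⟩
      · refine Set.ext fun v => ?_
        rw [Set.mem_smul_set_iff_inv_smul_mem]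
        by_cases hv : v ∈ Γ
        · constructor
          · intro h
            exfalso
            by_cases hv' : k⁻¹ • v ∈ Γ
            · exact hmeet ⟨_, h, hv'⟩
            · have := hfix k hk _ hv'
              rw [smul_inv_smul] at this
              exact hv' (this ▸ hv)
          · intro h; exact absurd ⟨v, h, hv⟩ hmeet
        · rw [hfix k⁻¹ (inv_mem hk) v hv]
    have hNne : N ≠ ⊥ := fun h => hδγ (by
      have h1 : k = 1 := Subgroup.mem_bot.1 (h ▸ hkN)
      rw [← hkγ, h1, one_smul])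
    obtain ⟨z, hz⟩ : ∃ z, z ∉ B := by
      by_contra hcon
      exact hBuniv (Set.eq_univ_of_forall fun z => not_not.1 fun h => hcon ⟨z, h⟩)
    obtain ⟨n, hn⟩ := (hqp N hN hNne).1 b₀ z
    have hn' := mem_stabilizer_iff.1 ((Subgroup.mem_iInf.1 n.2) 1)
    rw [one_smul] at hn'
    refine hz (hn' ▸ ⟨b₀, hb₀, hn⟩)
  obtain ⟨n, hn⟩ : ∃ n, Γᶜ.ncard = n + 1 := ⟨Γᶜ.ncard - 1, by
    have := Set.ncard_compl Γ; omega⟩
  have hc := Set.ncard_compl Γ
  have h := hprim.isMultiplyPreprimitive hn (by omega) hJp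
  rw [show Nat.card Ω - Γ.ncard + 1 = n + 2 by omega]
  exact h.isMultiplyPretransitive

end Cfsg.Agent.S3619
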