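import Cfsg.Statements.S3626
import Cfsg.Agent.Lib.Small.Ree.Orders
import Cfsg.Agent.Lib.Small.SpectrumFibre
import Cfsg.Agent.S2514
import Cfsg.Agent.S2515
-- import your own Cfsg.Agent.* helpers here

set_option autoImplicit false
open Cfsg

namespace Cfsg.Agent.S3626

/-- Let R be the small Ree group over the field with q = 3^(2m+1) ≥ 27 elements. Then there are finite groups of arbitrarily large order with exactly the same set of element orders as R × R × R. -/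
theorem result {K : Type*} [Field K] [Fintype K] {m : ℕ} (hm : 1 ≤ m) (hK : Fintype.card K = 3 ^ (2 * m + 1)) (N : ℕ) :
    ∃ (H : Type) (_ : Group H) (_ : Fintype H), N < Fintype.card H ∧
      Set.range (orderOf : H → ℕ) = Set.range (orderOf : ↥(Cfsg.Lie.twistedG2 K (3 ^ m)) × ↥(Cfsg.Lie.twistedG2 K (3 ^ m)) × ↥(Cfsg.Lie.twistedG2 K (3 ^ m)) → ℕ) := by
  classical
  obtain ⟨T⟩ := Cfsg.Agent.Lie.G2.nonempty_setup hK
  have h27 := Small.Ree.large_card T hm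
  obtain ⟨x₁, x₂, hx₁, hx₂, e₁, e₂, -, -, hp, -, hall⟩ := Small.Ree.two_tori T h27
  have horders := Small.Ree.orders_iff T h27 hx₁ hx₂ hall
  have hg1 := Small.Ree.tor_ge T h27 hx₁
  have hg2 := Small.Ree.tor_ge T h27 hx₂
  have h8 := Small.Ree.card_mod_eight T
  rw [hK] at h27 h8 e₁ e₂
  simp only [hK] at horders
  obtain ⟨t₁, ht₁⟩ : ∃ t, Nat.card ↥(Small.Ree.Tor T x₁) = t := ⟨_, rfl⟩
  obtain ⟨t₂, ht₂⟩ : ∃ t, Nat.card ↥(Small.Ree.Tor T x₂) = t := ⟨_, rfl⟩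
  rw [ht₁] at hp e₁ hg1
  rw [ht₂] at hp e₂ hg2
  simp only [ht₁, ht₂] at horders
  obtain ⟨H, hHg, hHf, ⟨P, hPn, hPne, hP3⟩, hμ⟩ :=
    Cfsg.Agent.S2515.result (2 * m + 1) (by omega) ⟨m, rfl⟩
  have : Fact (Nat.Prime 3) := ⟨Nat.prime_three⟩
  have := hPn
  have hfib := Small.SpectrumFibre.range_fib P hP3 N
  have hq3 : 3 ^ (2 * m + 1) % 3 = 0 := by rw [pow_succ]; simp
  have hKp3 : Small.Ree.Kp K % 3 = 1 := by
    rw [Small.Ree.Kp, hK, pow_two]
    have h1 : 3 ^ (2 * m + 1) ≤ 3 ^ (2 * m + 1) * 3 ^ (2 * m + 1) := Nat.le_mul_self _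
    have h2 : 3 ^ (2 * m + 1) * 3 ^ (2 * m + 1) % 3 = 0 := by rw [Nat.mul_mod, hq3]
    omega
  have hKp2 : Odd (Small.Ree.Kp K) := Small.Ree.odd_sextic T
  have d₁ : t₁ ∣ Small.Ree.Kp K := Dvd.intro _ hp
  have d₂ : t₂ ∣ Small.Ree.Kp K := Dvd.intro_left _ hp
  obtain ⟨o₁, c₁⟩ : Odd t₁ ∧ ¬ 3 ∣ t₁ := ⟨hKp2.of_dvd_nat d₁, fun h => by have := h.trans d₁; omega⟩
  obtain ⟨o₂, c₂⟩ : Odd t₂ ∧ ¬ 3 ∣ t₂ := ⟨hKp2.of_dvd_nat d₂, fun h => by have := h.trans d₂; omega⟩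
  obtain ⟨q, hq⟩ : ∃ q, q = 3 ^ (2 * m + 1) := ⟨_, rfl⟩
  rw [← hq] at horders hμ h27 h8 hq3
  have n3 : ¬ 3 ∣ q - 1 := by omega
  have n3' : ¬ 3 ∣ (q + 1) / 2 := by omega
  have hev : 2 ∣ (q + 1) / 2 := by omega
  have hev1 : 2 ∣ q - 1 := by omega
  have no : ∀ k a b : ℕ, k ∣ a → ¬ k ∣ b → ¬ a ∣ b := fun k a b h1 h2 h => h2 (h1.trans h)
  have hle : ∀ a b : ℕ, 0 < b → b < a → ¬ a ∣ b := fun a b h0 h1 h => absurd (Nat.le_of_dvd h0 h) (by omega)
  have hodd : ∀ t : ℕ, Odd t → ¬ 2 ∣ t := fun t h h' => by rw [Nat.odd_iff] at h; omega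
  have hg : ¬ (q + 1) / 2 ∣ q - 1 := fun h => by
    have h' : (q + 1) / 2 ∣ q + 1 - (q - 1) := Nat.dvd_sub (Nat.div_dvd_of_dvd (by omega)) h
    rw [show q + 1 - (q - 1) = 2 by omega] at h'
    exact absurd (Nat.le_of_dvd (by norm_num) h') (by omega)
  obtain ⟨μR, hμR⟩ : ∃ S : Set ℕ, S = {n : ℕ | n ∈ Set.range (orderOf : ↥(Cfsg.Lie.twistedG2 K (3 ^ m)) → ℕ) ∧
      ∀ k ∈ Set.range (orderOf : ↥(Cfsg.Lie.twistedG2 K (3 ^ m)) → ℕ), n ∣ k → k = n} := ⟨_, rfl⟩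
  have hmax : ∀ n ∈ ({6, 9, q - 1, (q + 1) / 2} : Set ℕ), n ∈ μR := by
    intro n hn
    rw [hμR]
    refine ⟨(horders n).2 ?_, fun k hk hd => ?_⟩
    · rcases hn with rfl | rfl | rfl | rfl <;> simp
    · rcases hn with rfl | rfl | rfl | rfl <;> rcases (horders k).1 hk with h | h | h | h | h | h
      · exact Nat.dvd_antisymm h hd
      · exact absurd (hd.trans h) (by decide)
      · exact absurd (hd.trans h) (no 3 _ _ (by norm_num) n3)
      · exact absurd (hd.trans h) (no 3 _ _ (by norm_num) n3')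
      · exact absurd (hd.trans h) (no 3 _ _ (by norm_num) c₁)
      · exact absurd (hd.trans h) (no 3 _ _ (by norm_num) c₂)
      · exact absurd (hd.trans h) (by decide)
      · exact Nat.dvd_antisymm h hd
      · exact absurd (hd.trans h) (no 3 _ _ (by norm_num) n3)
      · exact absurd (hd.trans h) (no 3 _ _ (by norm_num) n3')
      · exact absurd (hd.trans h) (no 3 _ _ (by norm_num) c₁)
      · exact absurd (hd.trans h) (no 3 _ _ (by norm_num) c₂)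
      · exact absurd (hd.trans h) (hle _ _ (by norm_num) (by omega))
      · exact absurd (hd.trans h) (hle _ _ (by norm_num) (by omega))
      · exact Nat.dvd_antisymm h hd
      · exact absurd (hd.trans h) (hle _ _ (by omega) (by omega))
      · exact absurd (hd.trans h) (no 2 _ _ hev1 (hodd _ o₁))
      · exact absurd (hd.trans h) (no 2 _ _ hev1 (hodd _ o₂))
      · exact absurd (hd.trans h) (hle _ _ (by norm_num) (by omega))
      · exact absurd (hd.trans h) (hle _ _ (by norm_num) (by omega))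
      · exact absurd (hd.trans h) hg
      · exact Nat.dvd_antisymm h hd
      · exact absurd (hd.trans h) (no 2 _ _ hev (hodd _ o₁))
      · exact absurd (hd.trans h) (no 2 _ _ hev (hodd _ o₂))
  have hdiff : μR \ ({6, 9, q - 1, (q + 1) / 2} : Set ℕ) ⊆ {t₁, t₂} := by
    rintro n ⟨hn, hnot⟩
    rw [hμR] at hn
    obtain ⟨hn, hmx⟩ := hn
    have hin : ∀ k, (k ∣ 6 ∨ k ∣ 9 ∨ k ∣ q - 1 ∨ k ∣ (q + 1) / 2 ∨ k ∣ t₁ ∨ k ∣ t₂) → n ∣ k → k = n :=
      fun k hk => hmx k ((horders k).2 hk)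
    rcases (horders n).1 hn with h | h | h | h | h | h
    · exact absurd (show n ∈ _ from Or.inl (hin 6 (by simp) h).symm) hnot
    · exact absurd (show n ∈ _ from Or.inr (Or.inl (hin 9 (by simp) h).symm)) hnot
    · exact absurd (show n ∈ _ from Or.inr (Or.inr (Or.inl (hin _ (by simp) h).symm))) hnot
    · exact absurd (show n ∈ _ from Or.inr (Or.inr (Or.inr (hin _ (by simp) h).symm))) hnot
    · exact Or.inl (hin _ (by simp) h).symm
    · exact Or.inr (hin _ (by simp) h).symm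
  subst hμR
  have hcube := Cfsg.Agent.S2514.result (G := ↥(Cfsg.Lie.twistedG2 K (3 ^ m)))
    (H := ↥(Small.SpectrumFibre.fib P (N + 1))) 3 (by norm_num)
    (by rw [hfib, hμ]; exact hmax)
    (by
      rw [hfib, hμ]
      exact lt_of_le_of_lt (Set.ncard_le_ncard hdiff (Set.toFinite _))
        (lt_of_le_of_lt ((Set.ncard_insert_le _ _).trans (Nat.succ_le_succ (Set.ncard_singleton _).le)) (by norm_num)))
  obtain ⟨X, hX⟩ : ∃ X : ℕ, X = Nat.card ((Fin (3 - 1) → ↥(Cfsg.Lie.twistedG2 K (3 ^ m))) ×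
      ↥(Small.SpectrumFibre.fib P (N + 1))) := ⟨_, rfl⟩
  let e : Small.SpectrumFibre.Carrier X ≃ ((Fin (3 - 1) → ↥(Cfsg.Lie.twistedG2 K (3 ^ m))) × ↥(Small.SpectrumFibre.fib P (N + 1))) :=
    (Small.SpectrumFibre.carrierEquiv X).trans (hX ▸ (Finite.equivFin _).symm)
  let _ : Group (Small.SpectrumFibre.Carrier X) := e.group
  refine ⟨Small.SpectrumFibre.Carrier X, inferInstance, inferInstance, ?_, ?_⟩
  · have h1 := Small.SpectrumFibre.card_fib P hPne N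
    rw [Small.SpectrumFibre.card_carrier, hX, Nat.card_prod]
    exact lt_of_lt_of_le h1 (Nat.le_mul_of_pos_left _ Nat.card_pos)
  · have e1 : Set.range (orderOf : Small.SpectrumFibre.Carrier X → ℕ) = Set.range (orderOf :
        (Fin (3 - 1) → ↥(Cfsg.Lie.twistedG2 K (3 ^ m))) × ↥(Small.SpectrumFibre.fib P (N + 1)) → ℕ) := by
      ext d
      constructor
      · rintro ⟨x, rfl⟩; exact ⟨e.mulEquiv x, MulEquiv.orderOf_eq _ _⟩
      · rintro ⟨x, rfl⟩; exact ⟨e.mulEquiv.symm x, MulEquiv.orderOf_eq _ _⟩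
    let e3 : (Fin 3 → ↥(Cfsg.Lie.twistedG2 K (3 ^ m))) ≃* ↥(Cfsg.Lie.twistedG2 K (3 ^ m)) ×
        ↥(Cfsg.Lie.twistedG2 K (3 ^ m)) × ↥(Cfsg.Lie.twistedG2 K (3 ^ m)) :=
      { toFun := fun f => (f 0, f 1, f 2)
        invFun := fun x => ![x.1, x.2.1, x.2.2]
        left_inv := fun f => by funext i; fin_cases i <;> rfl
        right_inv := fun _ => rfl
        map_mul' := fun _ _ => rfl }
    rw [e1, ← hcube]
    ext d
    constructor
    · rintro ⟨x, rfl⟩; exact ⟨e3 x, MulEquiv.orderOf_eq _ _⟩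
    · rintro ⟨x, rfl⟩; exact ⟨e3.symm x, MulEquiv.orderOf_eq _ _⟩

end Cfsg.Agent.S3626
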