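import Cfsg.Statements.S3627
import Cfsg.Agent.Lib.Lie.JankoSpectrum
import Cfsg.Agent.Lib.Lie.FieldFrobenius
import Cfsg.Agent.Lib.Lie.FibrePower

set_option autoImplicit false
open Cfsg

namespace Cfsg.Agent.S3627

private def sJ : List ℕ := [1, 2, 3, 5, 6, 7, 10, 11, 15, 19]

private theorem lcm_le : ∀ a ∈ sJ, ∀ b ∈ sJ, ∀ c ∈ sJ, ∀ e ∈ sJ,
    Nat.lcm a (Nat.lcm b (Nat.lcm c e)) ∣ 43890 ∧ Nat.lcm a (Nat.lcm b (Nat.lcm c e)) ≠ 43890 := by
  decide +kernel

private theorem lcm_ge : ((List.range' 1 64).map fun i => (List.range 6).foldl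
      (fun acc j => if i.testBit j then acc * [2, 3, 5, 7, 11, 19].getD j 1 else acc) 1).all (fun d =>
    decide (d = 43890) || ((sJ.filter (· ∣ d)).any fun a => (sJ.filter (· ∣ d)).any fun b =>
      (sJ.filter (· ∣ d)).any fun c => (sJ.filter (· ∣ d)).any fun e =>
        Nat.lcm a (Nat.lcm b (Nat.lcm c e)) == d)) = true := by
  decide +kernel

private theorem frob_le : ∀ a ∈ [1, 2, 3], ∀ b ∈ [1, 2, 5], ∀ c ∈ [1, 2, 7], ∀ d ∈ [1, 2, 11], ∀ e ∈ [1, 2, 19],
    Nat.lcm a (Nat.lcm b (Nat.lcm c (Nat.lcm d e))) ∣ 43890 ∧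
      Nat.lcm a (Nat.lcm b (Nat.lcm c (Nat.lcm d e))) ≠ 43890 := by
  decide +kernel

private theorem frob_ge : ((List.range' 1 64).map fun i => (List.range 6).foldl
      (fun acc j => if i.testBit j then acc * [2, 3, 5, 7, 11, 19].getD j 1 else acc) 1).all (fun d =>
    decide (d = 43890) || ([1, 2, 3].any fun a => [1, 2, 5].any fun b => [1, 2, 7].any fun c =>
      [1, 2, 11].any fun d' => [1, 2, 19].any fun e =>
        Nat.lcm a (Nat.lcm b (Nat.lcm c (Nat.lcm d' e))) == d)) = true := by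
  decide +kernel

private theorem divisors_list : ∀ d ∈ Nat.divisors 43890, d ∈ ((List.range' 1 64).map fun i => (List.range 6).foldl
      (fun acc j => if i.testBit j then acc * [2, 3, 5, 7, 11, 19].getD j 1 else acc) 1) := by
  decide +kernel

open Cfsg.Agent.Lie in
/-- A Frobenius group with element orders `1, 2, p`. -/
private theorem exists_frob (k p : ℕ) (hk : k ≠ 0) (hp : p.Prime) (hpk : p ∣ 2 ^ k - 1) :
    ∃ (P : Type) (_ : Group P) (_ : Finite P) (V : Subgroup P), V.Normal ∧ V ≠ ⊥ ∧ (∀ x ∈ V, x ^ 2 = 1) ∧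
      Set.range (orderOf : P → ℕ) = {1, 2, p} := by
  haveI : Fact (Nat.Prime 2) := ⟨Nat.prime_two⟩
  obtain ⟨c, hc⟩ := FieldFrobenius.exists_unit (E := GaloisField 2 k) (d := p) (by rwa [GaloisField.card 2 k hk])
  refine ⟨FieldFrobenius.Grp (Subgroup.zpowers c), inferInstance, inferInstance,
    (SemidirectProduct.inl (φ := FieldFrobenius.act (Subgroup.zpowers c))).range, ?_, ?_, ?_, ?_⟩
  · rw [SemidirectProduct.range_inl_eq_ker_rightHom]
    infer_instance
  · intro h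
    have h1 : SemidirectProduct.inl (φ := FieldFrobenius.act (Subgroup.zpowers c))
        (Multiplicative.ofAdd (1 : GaloisField 2 k)) = 1 := by
      rw [← Subgroup.mem_bot, ← h]
      exact ⟨_, rfl⟩
    exact one_ne_zero (congrArg (fun x => Multiplicative.toAdd x.left) h1)
  · rintro _ ⟨x, rfl⟩
    rw [← map_pow, sq, show x * x = 1 from Multiplicative.toAdd.injective (CharTwo.add_self_eq_zero x.toAdd),
      map_one]
  · ext d
    constructor
    · rintro ⟨x, rfl⟩
      rcases FieldFrobenius.orderOf_dvd 2 x with h | h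
      · rcases (Nat.dvd_prime Nat.prime_two).1 h with h | h <;> simp [h]
      · rw [Nat.card_zpowers, hc] at h
        rcases (Nat.dvd_prime hp).1 h with h | h <;> simp [h]
    · intro hd
      simp only [Set.mem_insert_iff, Set.mem_singleton_iff] at hd
      obtain ⟨x, hx⟩ := FieldFrobenius.order_exists (E := GaloisField 2 k) 2 c (d := d) (by
        rcases hd with rfl | rfl | rfl
        · exact Or.inl (one_dvd _)
        · exact Or.inl dvd_rfl
        · exact Or.inr (by rw [hc]))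
      exact ⟨x, hx⟩

/-- Let J be the first Janko group. Then there are finite groups of arbitrarily large order with exactly the same set of element orders as J × J × J × J. -/
theorem result (N : ℕ) : ∃ (H : Type) (_ : Group H) (_ : Fintype H), N < Fintype.card H ∧
      Set.range (orderOf : H → ℕ) = Set.range (orderOf : ↥Cfsg.Spor.J1 × ↥Cfsg.Spor.J1 × ↥Cfsg.Spor.J1 × ↥Cfsg.Spor.J1 → ℕ) := by
  obtain ⟨P₃, g₃, f₃, V, hVn, hV, hV2, h₃⟩ := exists_frob 2 3 (by norm_num) (by norm_num) (by norm_num)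
  obtain ⟨P₅, g₅, f₅, -, -, -, -, h₅⟩ := exists_frob 4 5 (by norm_num) (by norm_num) (by norm_num)
  obtain ⟨P₇, g₇, f₇, -, -, -, -, h₇⟩ := exists_frob 3 7 (by norm_num) (by norm_num) (by norm_num)
  obtain ⟨P₁, g₁, f₁, -, -, -, -, h₁⟩ := exists_frob 10 11 (by norm_num) (by norm_num) (by norm_num)
  obtain ⟨P₉, g₉, f₉, -, -, -, -, h₉⟩ := exists_frob 18 19 (by norm_num) (by norm_num) (by norm_num)
  letI := g₃; letI := g₅; letI := g₇; letI := g₁; letI := g₉
  haveI := hVn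
  let W : Subgroup (P₃ × P₅ × P₇ × P₁ × P₉) := V.prod ⊥
  haveI : W.Normal := Subgroup.prod_normal V ⊥
  have hW : W ≠ ⊥ := fun h => hV (by
    refine (Subgroup.eq_bot_iff_forall V).2 fun x hx => ?_
    have : ((x, 1) : P₃ × P₅ × P₇ × P₁ × P₉) ∈ W := ⟨hx, rfl⟩
    rw [h, Subgroup.mem_bot] at this
    exact congrArg Prod.fst this)
  have hW2 : ∀ x ∈ W, x ^ 2 = 1 := fun x hx => by
    obtain ⟨h1, h2⟩ := hx
    exact Prod.ext (hV2 _ h1) (by rw [Prod.pow_snd, show x.2 = 1 from h2, one_pow, Prod.snd_one])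
  obtain ⟨H, iG, iF, hlt, hH⟩ := Cfsg.Agent.Lie.exists_large_isospectral W hW Nat.prime_two hW2 N
  refine ⟨H, iG, iF, hlt, hH.trans ?_⟩
  have mem : ∀ {X : Type} [Group X] {s : Set ℕ}, Set.range (orderOf : X → ℕ) = s → ∀ x : X, orderOf x ∈ s :=
    fun h x => h ▸ ⟨x, rfl⟩
  have ex : ∀ {X : Type} [Group X] {s : Set ℕ}, Set.range (orderOf : X → ℕ) = s → ∀ d ∈ s, ∃ x : X, orderOf x = d :=
    fun h d hd => by rw [← h] at hd; exact hd
  have hJ := Cfsg.Agent.Lie.Janko.range_orderOf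
  have leftSet : Set.range (orderOf : P₃ × P₅ × P₇ × P₁ × P₉ → ℕ) = {d | d ∣ 43890 ∧ d ≠ 43890} := by
    ext d
    constructor
    · rintro ⟨⟨a, b, c, e, f⟩, rfl⟩
      simp only [Prod.orderOf_mk, Set.mem_setOf_eq]
      exact frob_le _ (by simpa using mem h₃ a) _ (by simpa using mem h₅ b) _ (by simpa using mem h₇ c) _
        (by simpa using mem h₁ e) _ (by simpa using mem h₉ f)
    · rintro ⟨hd, hne⟩
      have h := List.all_eq_true.1 frob_ge d (divisors_list d (Nat.mem_divisors.2 ⟨hd, by norm_num⟩))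
      simp only [Bool.or_eq_true, decide_eq_true_eq, hne, false_or, List.any_eq_true, beq_iff_eq] at h
      obtain ⟨a, ha, b, hb, c, hc, e, he, f, hf, hlcm⟩ := h
      obtain ⟨xa, rfl⟩ := ex h₃ a (by simpa using ha)
      obtain ⟨xb, rfl⟩ := ex h₅ b (by simpa using hb)
      obtain ⟨xc, rfl⟩ := ex h₇ c (by simpa using hc)
      obtain ⟨xe, rfl⟩ := ex h₁ e (by simpa using he)
      obtain ⟨xf, rfl⟩ := ex h₉ f (by simpa using hf)
      exact ⟨(xa, xb, xc, xe, xf), by simp only [Prod.orderOf_mk]; exact hlcm⟩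
  rw [leftSet]
  ext d
  constructor
  · rintro ⟨hd, hne⟩
    have h := List.all_eq_true.1 lcm_ge d (divisors_list d (Nat.mem_divisors.2 ⟨hd, by norm_num⟩))
    simp only [Bool.or_eq_true, decide_eq_true_eq, hne, false_or, List.any_eq_true, beq_iff_eq] at h
    obtain ⟨a, ha, b, hb, c, hc, e, he, hlcm⟩ := h
    have hS : ∀ {x}, x ∈ sJ.filter (· ∣ d) → x ∈ ({1, 2, 3, 5, 6, 7, 10, 11, 15, 19} : Set ℕ) := fun hx => by
      simpa [sJ] using List.mem_of_mem_filter hx
    obtain ⟨xa, rfl⟩ := ex hJ a (hS ha)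
    obtain ⟨xb, rfl⟩ := ex hJ b (hS hb)
    obtain ⟨xc, rfl⟩ := ex hJ c (hS hc)
    obtain ⟨xe, rfl⟩ := ex hJ e (hS he)
    exact ⟨(xa, xb, xc, xe), by simp only [Prod.orderOf_mk]; exact hlcm⟩
  · rintro ⟨⟨a, b, c, e⟩, rfl⟩
    simp only [Prod.orderOf_mk, Set.mem_setOf_eq]
    exact lcm_le _ (by simpa [sJ] using mem hJ a) _ (by simpa [sJ] using mem hJ b) _
      (by simpa [sJ] using mem hJ c) _ (by simpa [sJ] using mem hJ e)

end Cfsg.Agent.S3627
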