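import Cfsg.Statements.S3633
import Mathlib
import Cfsg.Agent.Lib.Lie.SupSolvable
import Cfsg.Agent.Lib.Solv.ThreePrimeLemma
-- import your own Cfsg.Agent.* helpers here

set_option autoImplicit false
open Cfsg

namespace Cfsg.Agent.S3633

/-- Let G be a finite group and ρ a set of at least three prime divisors of the order of G that are pairwise non-adjacent in the prime graph (no element of order rs for distinct r, s ∈ ρ). Then at most one prime of ρ divides the order of any given solvable normal subgroup of G; in particular G is not solvable. -/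
theorem result {G : Type*} [Group G] [Finite G] (ρ : Finset ℕ) (hρ : 3 ≤ ρ.card) (hc : ((∀ r ∈ ρ, r.Prime ∧ r ∣ Nat.card G) ∧ (∀ r ∈ ρ, ∀ s ∈ ρ, r ≠ s → ¬ ∃ x : G, orderOf x = r * s)))
    (K : Subgroup G) [K.Normal] (hK : Group.IsSolvable ↥K) :
    (∀ r ∈ ρ, ∀ s ∈ ρ, r ∣ Nat.card ↥K → s ∣ Nat.card ↥K → r = s) ∧ ¬ Group.IsSolvable G := by
  classical
  obtain ⟨hd, hap⟩ := hc
  have hA : Cfsg.Agent.Solv.Apart G ρ := fun a ha b hb hab g hg => hap a ha b hb hab ⟨g, hg⟩
  refine ⟨?_, ?_⟩
  · intro r hr s hs hrK hsK
    by_contra hrs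
    obtain ⟨t, ht, htr, hts⟩ : ∃ t ∈ ρ, t ≠ r ∧ t ≠ s := by
      by_contra h
      push Not at h
      have : ρ ⊆ {r, s} := fun t ht => by
        simp only [Finset.mem_insert, Finset.mem_singleton]
        by_cases h1 : t = r
        · exact Or.inl h1
        · exact Or.inr (h t ht h1)
      have := Finset.card_le_card this
      have := Finset.card_le_two (a := r) (b := s)
      omega
    haveI : Fact t.Prime := ⟨(hd t ht).1⟩
    obtain ⟨z, hz⟩ := exists_prime_orderOf_dvd_card' t (hd t ht).2
    have solZ : Group.IsSolvable (Subgroup.zpowers z) := Group.isSolvable_of_comm fun a b => mul_comm' a b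
    have hsol := Cfsg.Agent.Lie.isSolvable_sup_of_le_normalizer hK solZ
      (by rw [Subgroup.normalizer_eq_top_iff.2 inferInstance]; exact le_top)
    refine Cfsg.Agent.Solv.not_solvable_of_three_apart (σ := {r, s, t})
      (Finset.card_eq_three.2 ⟨r, s, t, hrs, htr.symm, hts.symm, rfl⟩) ?_ ?_ ?_ hsol
    · intro a ha
      simp only [Finset.mem_insert, Finset.mem_singleton] at ha
      rcases ha with rfl | rfl | rfl
      exacts [(hd _ hr).1, (hd _ hs).1, (hd _ ht).1]
    · intro a ha
      simp only [Finset.mem_insert, Finset.mem_singleton] at ha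
      rcases ha with rfl | rfl | rfl
      · exact hrK.trans (Subgroup.card_dvd_of_le le_sup_left)
      · exact hsK.trans (Subgroup.card_dvd_of_le le_sup_left)
      · rw [← hz, ← Nat.card_zpowers]
        exact Subgroup.card_dvd_of_le le_sup_right
    · refine Cfsg.Agent.Solv.Apart.of_injective ?_ _ (Subgroup.subtype_injective _)
      intro a ha b hb hab
      have hsub : ∀ c ∈ ({r, s, t} : Finset ℕ), c ∈ ρ := by
        intro c hc
        simp only [Finset.mem_insert, Finset.mem_singleton] at hc
        rcases hc with rfl | rfl | rfl <;> assumption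
      exact hA a (hsub a ha) b (hsub b hb) hab
  · intro hsol
    obtain ⟨σ, hσ, hσc⟩ := Finset.exists_subset_card_eq (s := ρ) (n := 3) hρ
    exact Cfsg.Agent.Solv.not_solvable_of_three_apart hσc (fun a ha => (hd a (hσ ha)).1)
      (fun a ha => (hd a (hσ ha)).2) (fun a ha b hb => hA a (hσ ha) b (hσ hb)) hsol

end Cfsg.Agent.S3633
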