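import Cfsg.Statements.S3634
import Mathlib
import Cfsg.Agent.Lib.Lie.SupSolvable
import Cfsg.Agent.Lib.Solv.ThreePrimeLemma
-- import your own Cfsg.Agent.* helpers here

set_option autoImplicit false
open Cfsg

namespace Cfsg.Agent.S3634

/-- Let G be a finite group with normal subgroups K ≤ M, and let p, q, r be distinct primes with p dividing the order of K, q dividing the order of M/K and r dividing the order of G/M. Then p, q, r are not pairwise non-adjacent in the prime graph of G: G has an element of order pq, pr or qr. -/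
theorem result {G : Type*} [Group G] [Finite G] (K M : Subgroup G) [K.Normal] [M.Normal] (hKM : K ≤ M)
    (p q r : ℕ) (hp : p.Prime) (hq : q.Prime) (hr : r.Prime) (hpq : p ≠ q) (hpr : p ≠ r) (hqr : q ≠ r)
    (hpK : p ∣ Nat.card ↥K) (hqM : q ∣ Nat.card ↥M / Nat.card ↥K) (hrG : r ∣ Nat.card G / Nat.card ↥M) :
    (∃ x : G, orderOf x = p * q) ∨ (∃ x : G, orderOf x = p * r) ∨ (∃ x : G, orderOf x = q * r) := by
  classical
  by_contra hcon
  push Not at hcon
  obtain ⟨hc1, hc2, hc3⟩ := hcon
  haveI : Fact p.Prime := ⟨hp⟩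
  haveI : Fact q.Prime := ⟨hq⟩
  haveI : Fact r.Prime := ⟨hr⟩
  obtain ⟨P⟩ := (inferInstance : Nonempty (Sylow p K))
  set P' : Subgroup G := (P : Subgroup K).map K.subtype with hP'
  set N : Subgroup G := Subgroup.normalizer (P' : Set G) with hNdef
  have hNK : N ⊔ K = ⊤ := Sylow.normalizer_sup_eq_top P
  set L : Subgroup N := M.subgroupOf N with hLdef
  have hMN : K ⊔ (M ⊓ N) = M := by
    refine le_antisymm (sup_le hKM inf_le_left) fun m hm => ?_
    obtain ⟨k, hk, n, hn, e⟩ := Subgroup.mem_sup_of_normal_left.1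
      ((sup_comm K N).trans hNK ▸ Subgroup.mem_top m)
    have hnM : n ∈ M := by
      rw [show n = k⁻¹ * m by rw [← e]; group]
      exact mul_mem (inv_mem (hKM hk)) hm
    exact Subgroup.mem_sup_of_normal_left.2 ⟨k, hk, n, ⟨hnM, hn⟩, e⟩
  have hqL : q ∣ Nat.card L := by
    have h1 := Cfsg.Agent.Solv.card_sup_mul_card_inf K (M ⊓ N)
    rw [hMN] at h1
    have h2 : Nat.card L = Nat.card (M ⊓ N : Subgroup G) := by
      rw [← Cfsg.Agent.Solv.card_map_subtype (L := N) L, hLdef, Subgroup.subgroupOf_map_subtype]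
    obtain ⟨c, hc⟩ := Subgroup.card_dvd_of_le hKM
    rw [hc, Nat.mul_div_cancel_left _ Nat.card_pos] at hqM
    rw [h2]
    refine hqM.trans ⟨Nat.card (K ⊓ (M ⊓ N) : Subgroup G), ?_⟩
    refine Nat.eq_of_mul_eq_mul_left (Nat.card_pos (α := K)) ?_
    rw [← mul_assoc, ← hc, h1]
  obtain ⟨Q⟩ := (inferInstance : Nonempty (Sylow q L))
  set Q₀ : Subgroup N := (Q : Subgroup L).map L.subtype with hQ₀
  set Q' : Subgroup G := Q₀.map N.subtype with hQ'
  set A : Subgroup G := (Subgroup.normalizer (Q₀ : Set N)).map N.subtype with hA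
  have hAQ : A ≤ Subgroup.normalizer (Q' : Set G) := Subgroup.le_normalizer_map N.subtype
  have hAN : A ≤ N := Subgroup.map_subtype_le _
  have hAM : A ⊔ M = ⊤ := by
    rw [eq_top_iff, ← hNK]
    refine sup_le (fun n hn => ?_) (hKM.trans le_sup_right)
    have h1 : Subgroup.normalizer (Q₀ : Set N) ⊔ L = ⊤ := Sylow.normalizer_sup_eq_top Q
    have h2 : n ∈ (Subgroup.normalizer (Q₀ : Set N) ⊔ L).map N.subtype :=
      ⟨⟨n, hn⟩, h1 ▸ Subgroup.mem_top _, rfl⟩
    rw [Subgroup.map_sup, hLdef, Subgroup.subgroupOf_map_subtype] at h2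
    exact (sup_le_sup_left inf_le_left A) h2
  have hrA : r ∣ Nat.card A := by
    have h1 := Cfsg.Agent.Solv.card_sup_mul_card_inf M A
    rw [sup_comm, hAM, Subgroup.card_top] at h1
    obtain ⟨c, hc⟩ := M.card_subgroup_dvd_card
    rw [hc, Nat.mul_div_cancel_left _ Nat.card_pos] at hrG
    refine hrG.trans ⟨Nat.card (M ⊓ A : Subgroup G), ?_⟩
    refine Nat.eq_of_mul_eq_mul_left (Nat.card_pos (α := M)) ?_
    rw [← mul_assoc, ← hc, h1]
  obtain ⟨z, hz⟩ := exists_prime_orderOf_dvd_card' r hrA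
  set Z : Subgroup G := Subgroup.zpowers (z : G) with hZ
  have hzr : orderOf (z : G) = r := by rw [Subgroup.orderOf_coe, hz]
  have hZA : Z ≤ A := Subgroup.zpowers_le.2 z.2
  have hQN : Q' ≤ N := Subgroup.map_subtype_le _
  have solP : Group.IsSolvable P' := by
    haveI := (P.2.map K.subtype).isNilpotent
    show Group.IsSolvable P'
    infer_instance
  have solQ : Group.IsSolvable Q' := by
    haveI := ((Q.2.map L.subtype).map N.subtype).isNilpotent
    show Group.IsSolvable Q'
    infer_instance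
  have solZ : Group.IsSolvable Z := Group.isSolvable_of_comm fun a b => mul_comm' a b
  have solQZ := Cfsg.Agent.Lie.isSolvable_sup_of_le_normalizer solQ solZ (hZA.trans hAQ)
  have hle : Q' ⊔ Z ≤ N := sup_le hQN (hZA.trans hAN)
  have solH := Cfsg.Agent.Lie.isSolvable_sup_of_le_normalizer solP solQZ hle
  have hpH : p ∣ Nat.card (P' ⊔ (Q' ⊔ Z) : Subgroup G) := by
    refine (P.dvd_card_of_dvd_card hpK).trans ?_
    rw [← Cfsg.Agent.Solv.card_map_subtype (P : Subgroup K)]
    exact Subgroup.card_dvd_of_le le_sup_left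
  have hqH : q ∣ Nat.card (P' ⊔ (Q' ⊔ Z) : Subgroup G) := by
    refine (Q.dvd_card_of_dvd_card hqL).trans ?_
    rw [← Cfsg.Agent.Solv.card_map_subtype (Q : Subgroup L),
      ← Cfsg.Agent.Solv.card_map_subtype Q₀]
    exact Subgroup.card_dvd_of_le (le_sup_left.trans le_sup_right)
  have hrH : r ∣ Nat.card (P' ⊔ (Q' ⊔ Z) : Subgroup G) := by
    rw [← hzr, ← Nat.card_zpowers]
    exact Subgroup.card_dvd_of_le (le_sup_right.trans le_sup_right)
  refine Cfsg.Agent.Solv.not_solvable_of_three_apart (σ := {p, q, r})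
    (Finset.card_eq_three.2 ⟨p, q, r, hpq, hpr, hqr, rfl⟩) ?_ ?_ ?_ solH
  · intro a ha
    simp only [Finset.mem_insert, Finset.mem_singleton] at ha
    rcases ha with rfl | rfl | rfl <;> assumption
  · intro a ha
    simp only [Finset.mem_insert, Finset.mem_singleton] at ha
    rcases ha with rfl | rfl | rfl <;> assumption
  · refine Cfsg.Agent.Solv.Apart.of_injective ?_ _ (Subgroup.subtype_injective _)
    intro a ha b hb hab g
    simp only [Finset.mem_insert, Finset.mem_singleton] at ha hb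
    rcases ha with rfl | rfl | rfl <;> rcases hb with rfl | rfl | rfl <;>
      first
        | exact absurd rfl hab
        | exact hc1 g
        | exact hc2 g
        | exact hc3 g
        | exact fun h => hc1 g (h.trans (mul_comm _ _))
        | exact fun h => hc2 g (h.trans (mul_comm _ _))
        | exact fun h => hc3 g (h.trans (mul_comm _ _))

end Cfsg.Agent.S3634
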