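import Cfsg.Statements.S3641
import Cfsg.Agent.Lib.Lie.DegreeEighteen

set_option autoImplicit false
open Cfsg

namespace Cfsg.Agent.S3641

private theorem sylow_quot {G Q : Type*} [Group G] [Finite G] [Group Q] (f : G →* Q) (hf : Function.Surjective f)
    (r : ℕ) [Fact r.Prime] :
    Nat.card (Sylow r Q) ∣ Nat.card (Sylow r G) ∧
      (Nat.card (Sylow r Q) = Nat.card (Sylow r G) → ∀ R : Sylow r G, f.ker ≤ Subgroup.normalizer ((R : Subgroup G) : Set G)) := by
  haveI : Finite Q := Finite.of_surjective f hf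
  have key : ∀ R : Sylow r G,
      Subgroup.normalizer ((R : Subgroup G) : Set G) ≤
        (Subgroup.normalizer ((R.mapSurjective hf : Subgroup Q) : Set Q)).comap f ∧
      ((Subgroup.normalizer ((R.mapSurjective hf : Subgroup Q) : Set Q)).comap f).index = Nat.card (Sylow r Q) := by
    intro R
    refine ⟨?_, ?_⟩
    · rw [← Subgroup.map_le_iff_le_comap]
      exact Subgroup.le_normalizer_map f
    · rw [Subgroup.index_comap_of_surjective _ hf]
      exact (R.mapSurjective hf).card_eq_index_normalizer.symm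
  refine ⟨?_, fun he R => ?_⟩
  · obtain ⟨R⟩ : Nonempty (Sylow r G) := inferInstance
    obtain ⟨h1, h2⟩ := key R
    rw [← h2, R.card_eq_index_normalizer]
    exact Subgroup.index_dvd_of_le h1
  · obtain ⟨h1, h2⟩ := key R
    intro k hk
    have h3 : ((Subgroup.normalizer ((R.mapSurjective hf : Subgroup Q) : Set Q)).comap f) =
        Subgroup.normalizer ((R : Subgroup G) : Set G) := by
      refine (Subgroup.eq_of_le_of_card_ge h1 ?_).symm
      have e1 := ((Subgroup.normalizer ((R.mapSurjective hf : Subgroup Q) : Set Q)).comap f).card_mul_index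
      have e2 := (Subgroup.normalizer ((R : Subgroup G) : Set G)).card_mul_index
      rw [h2, he] at e1
      rw [show (Subgroup.normalizer ((R : Subgroup G) : Set G)).index = Nat.card (Sylow r G) from
        R.card_eq_index_normalizer.symm, ← e1] at e2
      exact (Nat.eq_of_mul_eq_mul_right Nat.card_pos e2).ge
    rw [← h3, Subgroup.mem_comap, hk]
    exact one_mem _

/-- A prime `r ≠ s` whose Sylow subgroups normalise all Sylow `s`-subgroups has no `s ^ t ≢ 1` part in its Sylow number. -/
private theorem count_obstruction {G : Type*} [Group G] [Finite G] {r s : ℕ} [hr : Fact r.Prime] [hs : Fact s.Prime]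
    (hrs : r ≠ s) (K : Subgroup G) (hK : ∀ R : Sylow r G, (R : Subgroup G) ≤ K)
    (hKS : ∀ S : Sylow s G, K ≤ Subgroup.normalizer ((S : Subgroup G) : Set G)) :
    s ^ ((Nat.card (Sylow r G)).factorization s) % r = 1 := by
  classical
  obtain ⟨R⟩ : Nonempty (Sylow r G) := inferInstance
  set N := Subgroup.normalizer ((R : Subgroup G) : Set G) with hN
  obtain ⟨S₀⟩ : Nonempty (Sylow s N) := inferInstance
  obtain ⟨S, hS⟩ := (S₀.2.map N.subtype).exists_le_sylow
  have hRS : (R : Subgroup G) ≤ Subgroup.normalizer ((S : Subgroup G) : Set G) := (hK R).trans (hKS S)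
  -- the Sylow subgroup `R` permutes the cosets of `S ⊓ N` in `S`
  let φ : (R : Subgroup G) →* MulAut (S : Subgroup G) :=
    (Subgroup.normalizerMonoidHom (S : Subgroup G)).comp (Subgroup.inclusion hRS)
  set T := N.subgroupOf (S : Subgroup G) with hT
  have hφT : ∀ (g : (R : Subgroup G)) (x : (S : Subgroup G)), x ∈ T → φ g x ∈ T := by
    intro g x hx
    show (g : G) * (x : G) * (g : G)⁻¹ ∈ N
    exact mul_mem (mul_mem (Subgroup.le_normalizer g.2) hx) (inv_mem (Subgroup.le_normalizer g.2))
  let act : ↥(R : Subgroup G) → ↥(S : Subgroup G) ⧸ T → ↥(S : Subgroup G) ⧸ T := fun g =>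
    Quotient.map' (φ g) (fun x y h => by
      rw [QuotientGroup.leftRel_apply] at h ⊢
      rw [← map_inv, ← map_mul]
      exact hφT g _ h)
  letI : MulAction (R : Subgroup G) ((S : Subgroup G) ⧸ T) :=
    { smul := act
      one_smul := fun q => Quotient.inductionOn' q fun x => by
        show (QuotientGroup.mk (φ 1 x) : (S : Subgroup G) ⧸ T) = QuotientGroup.mk x
        rw [map_one]; rfl
      mul_smul := fun g g' q => Quotient.inductionOn' q fun x => by
        show (QuotientGroup.mk (φ (g * g') x) : (S : Subgroup G) ⧸ T) = QuotientGroup.mk (φ g (φ g' x))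
        rw [map_mul]; rfl }
  have hmod := R.2.card_modEq_card_fixedPoints ((S : Subgroup G) ⧸ T)
  have hfix : Nat.card (MulAction.fixedPoints (R : Subgroup G) ((S : Subgroup G) ⧸ T)) = 1 := by
    refine Nat.card_eq_one_iff_unique.2 ⟨⟨?_⟩, ⟨⟨QuotientGroup.mk 1, fun g => ?_⟩⟩⟩
    · suffices h : ∀ q ∈ MulAction.fixedPoints (R : Subgroup G) ((S : Subgroup G) ⧸ T), q = QuotientGroup.mk 1 by
        rintro ⟨x, hx⟩ ⟨y, hy⟩
        exact Subtype.ext ((h x hx).trans (h y hy).symm)
      intro q
      refine Quotient.inductionOn' q fun x hx => ?_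
      have hcomm : ∀ g : (R : Subgroup G), (x : G)⁻¹ * g * x ∈ N := fun g => by
        have e : (QuotientGroup.mk (φ g⁻¹ x) : (S : Subgroup G) ⧸ T) = QuotientGroup.mk x := hx g⁻¹
        rw [eq_comm, QuotientGroup.eq] at e
        have e' : (x : G)⁻¹ * ((g : G)⁻¹ * x * ((g : G)⁻¹)⁻¹) ∈ N := e
        have := inv_mem (mul_mem e' (inv_mem (Subgroup.le_normalizer g.2)))
        have e2 : ((x : G)⁻¹ * ((g : G)⁻¹ * x * ((g : G)⁻¹)⁻¹) * (g : G)⁻¹)⁻¹ = (x : G)⁻¹ * g * x := by group
        rwa [e2] at this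
      have hsub : (R : Subgroup G).map (MulAut.conj (x : G)⁻¹).toMonoidHom ≤ N := by
        rintro _ ⟨g, hg, rfl⟩
        show (x : G)⁻¹ * g * ((x : G)⁻¹)⁻¹ ∈ N
        rw [inv_inv]
        exact hcomm ⟨g, hg⟩
      have hp := R.2.map (MulAut.conj (x : G)⁻¹).toMonoidHom
      have hle : (R : Subgroup G).map (MulAut.conj (x : G)⁻¹).toMonoidHom ≤ (R : Subgroup G) :=
        le_sup_right.trans (R.3 (R.2.to_sup_of_normal_left' hp hsub) le_sup_left).le
      have heq := Subgroup.eq_of_le_of_card_ge hle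
        (by rw [Subgroup.card_map_of_injective (MulEquiv.injective _)])
      have hxN : (x : G)⁻¹ ∈ N := by
        rw [hN, Subgroup.mem_normalizer_iff]
        intro h
        constructor
        · intro hh
          exact heq.le ⟨h, hh, by simp⟩
        · intro hh
          obtain ⟨k, hk, e⟩ := heq.ge hh
          have : k = h := (MulAut.conj (x : G)⁻¹).injective (e.trans (by simp))
          exact this ▸ hk
      exact QuotientGroup.eq.2 (by
        show ((x : G)⁻¹ * ((1 : (S : Subgroup G)) : G)) ∈ N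
        simpa using hxN)
    · show (QuotientGroup.mk (φ g 1) : (S : Subgroup G) ⧸ T) = QuotientGroup.mk 1
      rw [map_one]
  rw [hfix] at hmod
  -- the index of `T` is the `s`-part of the Sylow number
  have hTcard : Nat.card T = s ^ (Nat.card N).factorization s := by
    rw [← S₀.card_eq_multiplicity]
    refine le_antisymm ?_ ?_
    · have hp : IsPGroup s ↥(((S : Subgroup G) ⊓ N).subgroupOf N) :=
        (S.2.to_le inf_le_left).of_equiv (Subgroup.subgroupOfEquivOfLe inf_le_right).symm
      obtain ⟨S₁, hS₁⟩ := hp.exists_le_sylow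
      calc Nat.card T = Nat.card ↥(((S : Subgroup G) ⊓ N).subgroupOf N) := by
            rw [Nat.card_congr (Subgroup.subgroupOfEquivOfLe inf_le_right).toEquiv, hT,
              ← Subgroup.inf_subgroupOf_left, Nat.card_congr (Subgroup.subgroupOfEquivOfLe inf_le_left).toEquiv]
        _ ≤ Nat.card (S₁ : Subgroup N) := Subgroup.card_le_of_le hS₁
        _ = Nat.card (S₀ : Subgroup N) := by rw [S₁.card_eq_multiplicity, S₀.card_eq_multiplicity]
    · refine Nat.card_le_card_of_injective (fun x => (⟨⟨((x : N) : G), hS ⟨_, x.2, rfl⟩⟩, (x : N).2⟩ : T)) ?_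
      intro x y e
      exact Subtype.ext (Subtype.ext (congrArg (fun z : T => ((z : (S : Subgroup G)) : G)) e))
  have hcard : Nat.card ((S : Subgroup G) ⧸ T) = s ^ (Nat.card (Sylow r G)).factorization s := by
    have h1 := T.card_eq_card_quotient_mul_card_subgroup
    rw [S.card_eq_multiplicity, hTcard] at h1
    have h2 : (Nat.card G).factorization s = (Nat.card (Sylow r G)).factorization s + (Nat.card N).factorization s := by
      rw [← N.card_mul_index, show N.index = Nat.card (Sylow r G) from R.card_eq_index_normalizer.symm,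
        Nat.factorization_mul Nat.card_pos.ne' Nat.card_pos.ne']
      simp only [Finsupp.coe_add, Pi.add_apply]
      ring
    rw [h2, pow_add] at h1
    exact (Nat.eq_of_mul_eq_mul_right (Nat.pow_pos hs.out.pos) h1).symm
  rw [hcard] at hmod
  unfold Nat.ModEq at hmod
  rw [hmod, Nat.one_mod_eq_one.2 hr.out.ne_one]


/-- Let G be a finite group with trivial centre whose set of Sylow numbers (numbers of Sylow r-subgroups, r over the prime divisors of its order) is exactly {18, 136, 153}. Then G is isomorphic to PSL(2, 17) or to PGL(2, 17). -/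
theorem result {G : Type*} [Group G] [Finite G] (hZ : Subgroup.center G = ⊥) (hNS : {c : ℕ | ∃ r : ℕ, r.Prime ∧ r ∣ Nat.card G ∧ c = Nat.card (Sylow r G)} = ({18, 136, 153} : Set ℕ))
    {F : Type*} [Field F] [Fintype F] (hF : Fintype.card F = 17) :
    Nonempty (G ≃* Matrix.ProjectiveSpecialLinearGroup (Fin 2) F) ∨ Nonempty (G ≃* (GL (Fin 2) F ⧸ Subgroup.center (GL (Fin 2) F))) := by
  classical
  haveI : Fact (Nat.Prime 2) := ⟨Nat.prime_two⟩
  haveI : Fact (Nat.Prime 3) := ⟨Nat.prime_three⟩
  haveI : Fact (Nat.Prime 17) := ⟨by norm_num⟩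
  have mem : ∀ r : ℕ, r.Prime → r ∣ Nat.card G →
      Nat.card (Sylow r G) = 18 ∨ Nat.card (Sylow r G) = 136 ∨ Nat.card (Sylow r G) = 153 := fun r hr hd => by
    have h : Nat.card (Sylow r G) ∈ ({18, 136, 153} : Set ℕ) := hNS ▸ ⟨r, hr, hd, rfl⟩
    simpa using h
  have modone : ∀ r : ℕ, r.Prime → Nat.card (Sylow r G) % r = 1 := fun r hr => by
    haveI := Fact.mk hr
    exact Eq.trans (card_sylow_modEq_one r G) (Nat.one_mod_eq_one.2 hr.ne_one)
  have pred_dvd : ∀ r n : ℕ, r.Prime → n % r = 1 → r ∣ n - 1 := fun r n hr h => by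
    refine Nat.dvd_of_mod_eq_zero (Nat.sub_mod_eq_zero_of_mod_eq ?_)
    rw [h, Nat.one_mod_eq_one.2 hr.ne_one]
  -- the prime 17
  obtain ⟨r, hr, hrd, he⟩ : (18 : ℕ) ∈ {c : ℕ | ∃ r : ℕ, r.Prime ∧ r ∣ Nat.card G ∧ c = Nat.card (Sylow r G)} :=
    hNS ▸ by simp
  have hr17 : r = 17 := by
    have h1 := pred_dvd r _ hr (modone r hr)
    rw [← he] at h1
    exact (Nat.prime_dvd_prime_iff_eq hr (by norm_num)).1 h1
  subst hr17
  have h2G : 2 ∣ Nat.card G := by
    obtain ⟨P⟩ : Nonempty (Sylow 17 G) := inferInstance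
    exact (he ▸ (by norm_num : 2 ∣ 18)).trans (P.card_dvd_index.trans (Subgroup.index_dvd_card _))
  have h3G : 3 ∣ Nat.card G := by
    obtain ⟨P⟩ : Nonempty (Sylow 17 G) := inferInstance
    exact (he ▸ (by norm_num : 3 ∣ 18)).trans (P.card_dvd_index.trans (Subgroup.index_dvd_card _))
  have hn2 : Nat.card (Sylow 2 G) = 153 := by
    have := modone 2 Nat.prime_two
    rcases mem 2 Nat.prime_two h2G with h | h | h <;> omega
  have hn3 : Nat.card (Sylow 3 G) = 136 := by
    have := modone 3 Nat.prime_three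
    rcases mem 3 Nat.prime_three h3G with h | h | h <;> omega
  -- the action
  set f := (MulAction.toPermHom G (Sylow 17 G)).rangeRestrict with hfdef
  have hf : Function.Surjective f := MonoidHom.rangeRestrict_surjective _
  have hsmul : ∀ (g : G) (P : Sylow 17 G), f g • P = g • P := fun g P => rfl
  have hK17 : ∀ P : Sylow 17 G, f.ker ≤ Subgroup.normalizer ((P : Subgroup G) : Set G) := fun P k hk => by
    refine Sylow.smul_eq_iff_mem_normalizer.1 ?_
    rw [← hsmul, show f k = 1 from hk, one_smul]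
  have C : Cfsg.Agent.Lie.DegreeEighteen.Ctx (MulAction.toPermHom G (Sylow 17 G)).range (Sylow 17 G) := by
    refine ⟨he.symm, ⟨fun P P' => ?_⟩, fun P => ?_⟩
    · obtain ⟨g, hg⟩ := MulAction.exists_smul_eq G P P'
      exact ⟨f g, hg⟩
    · refine ⟨(P : Subgroup G).map f, fun hbot => ?_, P.2.map f, ?_, ?_⟩
      · -- otherwise all Sylow subgroups coincide
        have hPK : (P : Subgroup G) ≤ f.ker := (Subgroup.map_eq_bot_iff _).1 hbot
        have hall : ∀ P' : Sylow 17 G, P' = P := fun P' => Sylow.ext (by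
          have hle : (P : Subgroup G) ≤ (P' : Subgroup G) :=
            le_sup_right.trans (P'.3 (P'.2.to_sup_of_normal_left' P.2 (hPK.trans (hK17 P'))) le_sup_left).le
          exact P.3 P'.2 hle)
        haveI : Subsingleton (Sylow 17 G) := ⟨fun x y => (hall x).trans (hall y).symm⟩
        have := Nat.card_of_subsingleton P
        omega
      · rintro _ ⟨x, hx, rfl⟩
        exact (hsmul x P).trans (Sylow.smul_eq_iff_mem_normalizer.2 (Subgroup.le_normalizer hx))
      · intro q hq
        obtain ⟨g, rfl⟩ := hf q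
        exact Subgroup.le_normalizer_map f ⟨g, Sylow.smul_eq_iff_mem_normalizer.1 ((hsmul g P).symm.trans hq), rfl⟩
  have hQ3 := (sylow_quot f hf 3).1
  rw [hn3] at hQ3
  have hQ3' := Cfsg.Agent.Lie.DegreeEighteen.sylow_three C hQ3
  have hQ2 := (sylow_quot f hf 2).1
  rw [hn2] at hQ2
  have hQ2' := Cfsg.Agent.Lie.DegreeEighteen.sylow_two C hQ3 hQ2
  have hnorm : ∀ s : ℕ, s = 2 ∨ s = 3 ∨ s = 17 → ∀ S : Sylow s G, f.ker ≤ Subgroup.normalizer ((S : Subgroup G) : Set G) := by
    rintro s (rfl | rfl | rfl) S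
    · exact (sylow_quot f hf 2).2 (hQ2'.trans hn2.symm) S
    · exact (sylow_quot f hf 3).2 (hQ3'.trans hn3.symm) S
    · exact hK17 S
  -- only three primes divide the order
  have hprimes : ∀ r : ℕ, r.Prime → r ∣ Nat.card G → r = 2 ∨ r = 3 ∨ r = 17 := by
    intro r hr hrd
    haveI := Fact.mk hr
    by_contra hno
    push Not at hno
    have hRK : ∀ R : Sylow r G, (R : Subgroup G) ≤ f.ker := fun R => by
      intro x hx
      have hd : orderOf (f x) ∣ Nat.card (MulAction.toPermHom G (Sylow 17 G)).range := orderOf_dvd_natCard _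
      obtain ⟨k, hk⟩ := R.2 ⟨x, hx⟩
      have hd2 : orderOf (f x) ∣ r ^ k := orderOf_dvd_of_pow_eq_one (by
        rw [← map_pow, show x ^ r ^ k = 1 from congrArg Subtype.val hk, map_one])
      haveI : Nontrivial (Sylow 17 G) := Finite.one_lt_card_iff_nontrivial.1 (by omega)
      obtain ⟨a, b, hab⟩ := exists_pair_ne (Sylow 17 G)
      rw [Cfsg.Agent.Lie.DegreeEighteen.card_group C hab] at hd
      obtain ⟨j, -, hj⟩ := (Nat.dvd_prime_pow hr).1 hd2
      rcases Nat.eq_zero_or_pos j with h0 | hpos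
      · rw [h0, pow_zero, orderOf_eq_one_iff] at hj
        exact hj
      · exfalso
        have h1 : r ∣ 306 * 16 := ((dvd_pow_self r hpos.ne').trans (hj ▸ hd)).trans
          (Nat.mul_dvd_mul_left 306 (Cfsg.Agent.Lie.DegreeEighteen.card_two_dvd C hab))
        rcases (Nat.Prime.dvd_mul hr).1 h1 with h | h
        · have hm : r ∈ Nat.primeFactors 306 := Nat.mem_primeFactors.2 ⟨hr, h, by norm_num⟩
          rw [show Nat.primeFactors 306 = {2, 3, 17} by decide +kernel] at hm
          simp at hm
          omega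
        · exact hno.1 ((Nat.prime_dvd_prime_iff_eq hr Nat.prime_two).1 (hr.dvd_of_dvd_pow (show r ∣ 2 ^ 4 from h)))
    have h2 := pred_dvd r _ hr (modone r hr)
    have hc2 := count_obstruction (s := 2) hno.1 f.ker hRK (hnorm 2 (Or.inl rfl))
    have hc3 := count_obstruction (s := 3) hno.2.1 f.ker hRK (hnorm 3 (Or.inr (Or.inl rfl)))
    rcases mem r hr hrd with h | h | h <;> rw [h] at h2
    · exact hno.2.2 ((Nat.prime_dvd_prime_iff_eq hr (by norm_num)).1 h2)
    · have hr5 : r ∈ Nat.primeFactors 135 := Nat.mem_primeFactors.2 ⟨hr, h2, by norm_num⟩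
      rw [show Nat.primeFactors 135 = {3, 5} by decide +kernel] at hr5
      simp at hr5
      have e : (136 : ℕ).factorization 2 = 3 := by
        rw [show (136 : ℕ) = 2 ^ 3 * 17 from rfl, Nat.factorization_mul (by norm_num) (by norm_num),
          Finsupp.add_apply, Nat.Prime.factorization_pow Nat.prime_two, Finsupp.single_eq_same,
          Nat.factorization_eq_zero_of_not_dvd (by norm_num : ¬ 2 ∣ 17)]
      rw [h, e] at hc2
      rcases hr5 with rfl | rfl <;> omega
    · have hr5 : r ∈ Nat.primeFactors 152 := Nat.mem_primeFactors.2 ⟨hr, h2, by norm_num⟩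
      rw [show Nat.primeFactors 152 = {2, 19} by decide +kernel] at hr5
      simp at hr5
      have e : (153 : ℕ).factorization 3 = 2 := by
        rw [show (153 : ℕ) = 3 ^ 2 * 17 from rfl, Nat.factorization_mul (by norm_num) (by norm_num),
          Finsupp.add_apply, Nat.Prime.factorization_pow Nat.prime_three, Finsupp.single_eq_same,
          Nat.factorization_eq_zero_of_not_dvd (by norm_num : ¬ 3 ∣ 17)]
      rw [h, e] at hc3
      rcases hr5 with rfl | rfl <;> omega
  -- the kernel is trivial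
  have hker : f.ker = ⊥ := by
    by_contra hne
    obtain ⟨r, hr, hrd⟩ := Nat.exists_prime_and_dvd
      (fun h1 : Nat.card f.ker = 1 => hne (Subgroup.card_eq_one.1 h1))
    haveI := Fact.mk hr
    have hrG : r ∣ Nat.card G := hrd.trans (Subgroup.card_subgroup_dvd_card _)
    obtain ⟨R⟩ : Nonempty (Sylow r G) := inferInstance
    obtain ⟨x, hx⟩ := exists_prime_orderOf_dvd_card' (G := f.ker) r hrd
    have hnR : ∀ S : Sylow r G, f.ker ≤ Subgroup.normalizer ((S : Subgroup G) : Set G) := hnorm r (hprimes r hr hrG)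
    set V := f.ker ⊓ (R : Subgroup G) with hV
    have hxG : orderOf (x : G) = r := by rw [Subgroup.orderOf_coe, hx]
    have hpart : ∀ (p : ℕ) (S : Sylow r G) (k : G), k ∈ f.ker → orderOf k = r ^ p → k ∈ (S : Subgroup G) := by
      intro p S k hk ho
      have hp : IsPGroup r (Subgroup.zpowers k) := IsPGroup.of_card (n := p) (by rw [Nat.card_zpowers, ho])
      exact (S.3 (S.2.to_sup_of_normal_left' hp (Subgroup.zpowers_le.2 (hnR S hk))) le_sup_left).le
        (Subgroup.mem_sup_right (Subgroup.mem_zpowers k))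
    have hxV : (x : G) ∈ V := ⟨x.2, hpart 1 R x x.2 (by rw [hxG, pow_one])⟩
    haveI hVn : V.Normal := ⟨fun k hk g => by
      refine ⟨(inferInstance : f.ker.Normal).conj_mem k hk.1 g, ?_⟩
      obtain ⟨p, hp⟩ := IsPGroup.iff_orderOf.1 R.2 ⟨k, hk.2⟩
      rw [Subgroup.orderOf_mk] at hp
      refine hpart p R _ ((inferInstance : f.ker.Normal).conj_mem k hk.1 g) ?_
      rw [← hp]
      exact MulEquiv.orderOf_eq (MulAut.conj g) k⟩
    -- a central element in `V`
    letI : MulAction (R : Subgroup G) V := MulAction.compHom _ ((MulAut.conjNormal (H := V)).comp (R : Subgroup G).subtype)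
    have hVp : r ∣ Nat.card V := by
      rw [← hxG, ← Subgroup.orderOf_mk (x : G) hxV]
      exact orderOf_dvd_natCard _
    have h1 : (1 : V) ∈ MulAction.fixedPoints (R : Subgroup G) V := fun g => Subtype.ext (by
      show (g : G) * ((1 : V) : G) * (g : G)⁻¹ = 1
      simp)
    obtain ⟨z, hz, hz1⟩ := R.2.exists_fixed_point_of_prime_dvd_card_of_fixed_point V hVp h1
    have hcz : ∀ s : ℕ, s.Prime → ∀ S : Sylow s G, s ∣ Nat.card G →
        ∃ S' : Sylow s G, (S' : Subgroup G) ≤ Subgroup.centralizer ({(z : G)} : Set G) := by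
      intro s hs S hsd
      haveI := Fact.mk hs
      by_cases hsr : s = r
      · subst hsr
        refine ⟨R, fun g hg => Subgroup.mem_centralizer_singleton_iff.2 ?_⟩
        exact mul_inv_eq_iff_eq_mul.1 (congrArg Subtype.val (hz ⟨g, hg⟩))
      · refine ⟨S, fun g hg => Subgroup.mem_centralizer_singleton_iff.2 ?_⟩
        have hzS : (z : G) ∈ Subgroup.normalizer ((S : Subgroup G) : Set G) := hnorm s (hprimes s hs hsd) S z.2.1
        have e1 : g * (z : G) * g⁻¹ * (z : G)⁻¹ ∈ V := mul_mem (hVn.conj_mem z z.2 g) (inv_mem z.2)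
        have e2 : g * (z : G) * g⁻¹ * (z : G)⁻¹ ∈ (S : Subgroup G) := by
          have := mul_mem hg ((Subgroup.mem_normalizer_iff.1 hzS g⁻¹).1 (inv_mem hg))
          simpa [mul_assoc] using this
        have hpV : IsPGroup r V := R.2.to_le inf_le_right
        have hdisj := IsPGroup.disjoint_of_ne r s (Ne.symm hsr) V S hpV S.2
        have e3 := Subgroup.mem_bot.1 (hdisj.le_bot (Subgroup.mem_inf.2 ⟨e1, e2⟩))
        rw [mul_inv_eq_one, mul_inv_eq_iff_eq_mul] at e3
        exact e3
    have htop : Subgroup.centralizer ({(z : G)} : Set G) = ⊤ := by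
      refine Subgroup.eq_top_of_card_eq _ ?_
      refine Nat.dvd_antisymm (Subgroup.card_subgroup_dvd_card _) ?_
      rw [← Nat.factorization_prime_le_iff_dvd Nat.card_pos.ne' Nat.card_pos.ne']
      intro s hs
      by_cases hsd : s ∣ Nat.card G
      · haveI := Fact.mk hs
        obtain ⟨S⟩ : Nonempty (Sylow s G) := inferInstance
        obtain ⟨S', hS'⟩ := hcz s hs S hsd
        have hdvd := Subgroup.card_dvd_of_le hS'
        rw [S'.card_eq_multiplicity] at hdvd
        exact (Nat.Prime.pow_dvd_iff_le_factorization hs Nat.card_pos.ne').1 hdvd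
      · rw [Nat.factorization_eq_zero_of_not_dvd hsd]
        exact Nat.zero_le _
    refine hz1 (Subtype.ext ?_)
    have : (z : G) ∈ Subgroup.center G := Subgroup.mem_center_iff.2 fun g =>
      Subgroup.mem_centralizer_singleton_iff.1 (htop ▸ Subgroup.mem_top g)
    rw [hZ, Subgroup.mem_bot] at this
    exact this.symm
  have hinj : Function.Injective f := (MonoidHom.ker_eq_bot_iff f).1 hker
  let e := MulEquiv.ofBijective f ⟨hinj, hf⟩
  rcases Cfsg.Agent.Lie.DegreeEighteen.recognise C hQ3 hF with h | h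
  · obtain ⟨iso⟩ := h
    exact Or.inl ⟨e.trans iso⟩
  · obtain ⟨iso⟩ := h
    exact Or.inr ⟨e.trans iso⟩

end Cfsg.Agent.S3641
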