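-- Solution for statement S3648.
import Cfsg.Statements.S3648
import Cfsg.Agent.Lib.Lie.PGLNse.Model
import Cfsg.Agent.Lib.Lie.PGLNse.Main

set_option autoImplicit false
open Cfsg

namespace Cfsg.Agent.S3648

open Cfsg.Agent.Solv.CV

/-- For a finite group X let nse(X) be the set of values of the function 'number of elements of order k' over the element orders k that occur. Let F be a finite field of odd order q > 3 and P = PGL(2, F) = GL(2, F) modulo its centre. If G is a finite group with the same order as P and nse(G) = nse(P), then G is isomorphic to P. -/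
theorem result {F : Type*} [Field F] [Fintype F] (hodd : Odd (Fintype.card F)) (h3 : 3 < Fintype.card F)
    {G : Type*} [Group G] [Finite G] (hcard : Nat.card G = Nat.card (GL (Fin 2) F ⧸ Subgroup.center (GL (Fin 2) F)))
    (hnse : {c : ℕ | 0 < c ∧ ∃ n : ℕ, c = Nat.card {g : G // orderOf g = n}} = {c : ℕ | 0 < c ∧ ∃ n : ℕ, c = Nat.card {g : (GL (Fin 2) F ⧸ Subgroup.center (GL (Fin 2) F)) // orderOf g = n}}) :
    Nonempty (G ≃* (GL (Fin 2) F ⧸ Subgroup.center (GL (Fin 2) F))) := by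
  classical
  obtain ⟨p, hcp⟩ := CharP.exists F
  obtain ⟨k, hpp, hk⟩ := FiniteField.card F p
  haveI := Fact.mk hpp
  have hp : p ≠ 2 := by
    rintro rfl
    exact Nat.not_even_iff_odd.2 hodd (hk ▸ (Nat.even_pow.2 ⟨even_two, k.ne_zero⟩))
  have hfwd : ∀ n, cnt G n ≠ 0 → ∃ m, cnt G n = cnt (GL (Fin 2) F ⧸ Subgroup.center (GL (Fin 2) F)) m := by
    intro n hn
    obtain ⟨-, m, hm⟩ := (Set.ext_iff.1 hnse (cnt G n)).1 ⟨Nat.pos_of_ne_zero hn, n, rfl⟩
    exact ⟨m, hm⟩
  have hq : 0 < Fintype.card F := Fintype.card_pos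
  have hval : ∀ m, cnt (GL (Fin 2) F ⧸ Subgroup.center (GL (Fin 2) F)) m = 1 ∨
      cnt (GL (Fin 2) F ⧸ Subgroup.center (GL (Fin 2) F)) m = Fintype.card F ^ 2 - 1 ∨
      Fintype.card F ∣ cnt (GL (Fin 2) F ⧸ Subgroup.center (GL (Fin 2) F)) m := by
    intro m
    by_cases h1 : m = 1
    · exact Or.inl (by rw [h1]; exact cnt_one)
    by_cases h2 : m = p
    · exact Or.inr (Or.inl (h2 ▸ Lie.PGLNse.cnt_p hp))
    exact Or.inr (Or.inr (Lie.PGLNse.dvd_cnt hp h1 h2))
  have C : Lie.PGLNse.Counts G p k (Fintype.card F) :=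
    { hq := hk
      hk := k.ne_zero
      q3 := h3
      hp := hp
      card := hcard.trans Lie.PGLNse.card_model
      val := fun n hn => by
        obtain ⟨m, hm⟩ := hfwd n hn
        rw [hm]; exact hval m
      odd := fun n hn ho => by
        obtain ⟨m, hm⟩ := hfwd n hn
        rw [hm] at ho hn ⊢
        by_cases h1 : m = 1
        · exact Or.inl (by rw [h1]; exact cnt_one)
        by_cases h2 : m = 2
        · exact Or.inr (h2 ▸ Lie.PGLNse.cnt_two hp)
        exfalso
        obtain ⟨g, hg⟩ := cnt_ne_zero.1 hn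
        have hm0 : 0 < m := hg ▸ orderOf_pos g
        exact Nat.not_even_iff_odd.2 ho (even_iff_two_dvd.2
          ((Nat.totient_even (show 2 < m by omega)).two_dvd.trans (totient_dvd_cnt m)))
      sq := by
        have hpos : 0 < cnt (GL (Fin 2) F ⧸ Subgroup.center (GL (Fin 2) F)) 2 := by
          rw [Lie.PGLNse.cnt_two hp]; positivity
        obtain ⟨-, n, hn⟩ := (Set.ext_iff.1 hnse _).2 ⟨hpos, 2, rfl⟩
        exact ⟨n, hn.symm.trans (Lie.PGLNse.cnt_two hp)⟩ }
  obtain ⟨K, iK, iKF, hK, ⟨e⟩⟩ := C.iso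
  exact ⟨e.trans (Classical.Dickson.pglCongr (FiniteField.ringEquivOfCardEq hK))⟩

end Cfsg.Agent.S3648
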