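import Cfsg.Statements.S3664
-- import your own Cfsg.Agent.* helpers here
import Cfsg.Agent.Lib.Small.SuzukiEightModule
import Cfsg.Agent.Lib.Small.SpSixThreeGraph

set_option autoImplicit false
set_option linter.unusedSectionVars false
open Cfsg

namespace Cfsg.Agent.S3664

open Matrix Cfsg.Agent.Lie.Suzuki Small.SuzukiEight

/-! ### Two groups with the same graph -/

/-- The prime graph with vertices `2, 3, 5, 7, 13` and edges `6, 10, 14, 15`. -/
def HasGraph (G : Type*) [Group G] : Prop :=
  (∀ p : ℕ, p.Prime → (p ∣ Nat.card G ↔ p ∈ ({2, 3, 5, 7, 13} : Finset ℕ))) ∧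
    (∀ n ∈ ({6, 10, 14, 15} : Finset ℕ), ∃ x : G, orderOf x = n) ∧
    ∀ n ∈ ({21, 26, 35, 39, 65, 91} : Finset ℕ), ∀ x : G, orderOf x ≠ n

theorem edge_of_edge {G H : Type*} [Group G] [Finite G] [Group H] (hG : HasGraph G) (hH : HasGraph H)
    {p q : ℕ} (hp : p.Prime) (hq : q.Prime) (hne : p ≠ q) (hx : ∃ x : G, orderOf x = p * q) :
    ∃ x : H, orderOf x = p * q := by
  obtain ⟨x, hx⟩ := hx
  have h1 := (hG.1 p hp).1 ((dvd_mul_right p q).trans (hx ▸ orderOf_dvd_natCard x))
  have h2 := (hG.1 q hq).1 ((dvd_mul_left q p).trans (hx ▸ orderOf_dvd_natCard x))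
  refine hH.2.1 _ ?_
  have h3 : p * q ∈ ({6, 10, 14, 15} : Finset ℕ) ∨ p * q ∈ ({21, 26, 35, 39, 65, 91} : Finset ℕ) := by
    simp only [Finset.mem_insert, Finset.mem_singleton] at h1 h2
    rcases h1 with rfl | rfl | rfl | rfl | rfl <;> rcases h2 with rfl | rfl | rfl | rfl | rfl <;>
      first | exact absurd rfl hne | decide
  exact h3.resolve_right fun h => hG.2.2 _ h x hx

/-! ### The module -/

section Model

variable {F : Type} [Field F] [Fintype F] (hF : Fintype.card F = 2 ^ (2 * 1 + 1)) (n : ℕ)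

/-- The module. -/
abbrev Mo : Type := ↥(A hF) → Fin n → Matrix (Fin 4) (Fin 4) F

/-- The operator of an element of `Sz(8)`. -/
noncomputable def op (g : Cfsg.Sz F 1) (M : Mo hF n) : Mo hF n :=
  fun τ i => mat (φ hF τ g) * M τ i * (mat (φ hF (s hF * τ) g))ᵀ

theorem op_op (g h : Cfsg.Sz F 1) (M : Mo hF n) : op hF n g (op hF n h M) = op hF n (g * h) M := by
  funext τ i
  simp only [op, map_mul (φ hF τ), map_mul (φ hF (s hF * τ)), mat_mul, Matrix.transpose_mul,
    Matrix.mul_assoc]

theorem op_one (M : Mo hF n) : op hF n 1 M = M := by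
  funext τ i
  simp [op, mat_one]

/-- The action of `Sz(8)`. -/
noncomputable def actG : Cfsg.Sz F 1 →* MulAut (Multiplicative (Mo hF n)) where
  toFun g :=
    { toFun := fun v => Multiplicative.ofAdd (op hF n g v.toAdd)
      invFun := fun v => Multiplicative.ofAdd (op hF n g⁻¹ v.toAdd)
      left_inv := fun v => by simp [op_op, op_one]
      right_inv := fun v => by simp [op_op, op_one]
      map_mul' := fun v w => by
        apply Multiplicative.toAdd.injective
        funext τ i
        simp [op, Matrix.mul_add, Matrix.add_mul] }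
  map_one' := MulEquiv.ext fun v => by simp [op_one]
  map_mul' g h := MulEquiv.ext fun v => by simp [op_op]

/-- The action of the field automorphisms. -/
noncomputable def actA : ↥(A hF) →* MulAut (Multiplicative (Mo hF n)) where
  toFun a :=
    { toFun := fun v => Multiplicative.ofAdd fun τ i => v.toAdd (τ * a) i
      invFun := fun v => Multiplicative.ofAdd fun τ i => v.toAdd (τ * a⁻¹) i
      left_inv := fun v => by simp
      right_inv := fun v => by simp
      map_mul' := fun v w => rfl }
  map_one' := MulEquiv.ext fun v => by simp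
  map_mul' a b := MulEquiv.ext fun v => by simp [mul_assoc]

theorem compat (a : ↥(A hF)) : (actG hF n).comp (φ hF a).toMonoidHom =
    (MulAut.conj (actA hF n a)).toMonoidHom.comp (actG hF n) := by
  refine MonoidHom.ext fun g => MulEquiv.ext fun v => ?_
  apply Multiplicative.toAdd.injective
  funext τ i
  simp only [MonoidHom.comp_apply, MulEquiv.coe_toMonoidHom, MulAut.conj_apply, MulAut.mul_apply, ← map_inv]
  show mat (φ hF τ (φ hF a g)) * v.toAdd τ i * (mat (φ hF (s hF * τ) (φ hF a g)))ᵀ =
    mat (φ hF (τ * a) g) * v.toAdd (τ * a * a⁻¹) i * (mat (φ hF (s hF * (τ * a)) g))ᵀ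
  rw [← φ_mul, ← φ_mul, mul_inv_cancel_right, mul_assoc (s hF) τ a]

/-- The action of `Sz(8):3`. -/
noncomputable def ρ : L hF →* MulAut (Multiplicative (Mo hF n)) :=
  SemidirectProduct.lift (actG hF n) (actA hF n) (compat hF n)

/-- The group. -/
noncomputable abbrev X := Multiplicative (Mo hF n) ⋊[ρ hF n] L hF

instance finite_X : Finite (X hF n) := Finite.of_equiv _ SemidirectProduct.equivProd.symm

theorem ρ_inl (g : Cfsg.Sz F 1) : ρ hF n (SemidirectProduct.inl g) = actG hF n g :=
  SemidirectProduct.lift_inl _ _ _ g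

theorem card_X : Nat.card (X hF n) = 2 ^ (144 * n) * 87360 := by
  rw [SemidirectProduct.card, card_L hF]
  congr 1
  show Nat.card (↥(A hF) → Fin n → Fin 4 → Fin 4 → F) = _
  rw [Nat.card_fun, Nat.card_fun, Nat.card_fun, Nat.card_fun, card_A hF, Nat.card_fin, Nat.card_fin,
    Nat.card_eq_fintype_card, hF, ← pow_mul, ← pow_mul, ← pow_mul, ← pow_mul]
  congr 1
  ring

theorem sq_eq_one (v : Multiplicative (Mo hF n)) : v * v = 1 := by
  haveI := charTwo hF
  apply Multiplicative.toAdd.injective
  funext τ i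
  ext r c
  exact CharTwo.add_self_eq_zero _

theorem dvd_twice_image (x : X hF n) : orderOf x ∣ 2 * orderOf (SemidirectProduct.rightHom x) := by
  rw [orderOf_dvd_iff_pow_eq_one, mul_comm, pow_mul]
  have h : (x ^ orderOf (SemidirectProduct.rightHom x)).right = 1 := by
    rw [← SemidirectProduct.rightHom_eq_right, map_pow, pow_orderOf_eq_one]
  obtain ⟨v, hv⟩ : x ^ orderOf (SemidirectProduct.rightHom x) ∈ (SemidirectProduct.inl (φ := ρ hF n)).range := by
    rw [SemidirectProduct.range_inl_eq_ker_rightHom]; exact h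
  rw [← hv, ← map_pow, pow_two, sq_eq_one, map_one]

theorem no_odd {k : ℕ} (hk : k.Coprime 2) (hL : ∀ y : L hF, orderOf y ≠ k) (x : X hF n) : orderOf x ≠ k := by
  intro hx
  refine hL (SemidirectProduct.rightHom x) (Nat.dvd_antisymm (hx ▸ orderOf_map_dvd _ x) ?_)
  exact hk.dvd_of_dvd_mul_left (hx ▸ dvd_twice_image hF n x)

theorem fixed_of_commute {x : X hF n} {v : Multiplicative (Mo hF n)}
    (h : Commute x (SemidirectProduct.inl v)) : ρ hF n x.right v = v := by
  have := congrArg SemidirectProduct.left h.eq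
  simp only [SemidirectProduct.mul_left, SemidirectProduct.left_inl, SemidirectProduct.right_inl, map_one,
    MulAut.one_apply] at this
  exact mul_left_cancel (this.trans (mul_comm v x.left))

theorem no_twenty_six (x : X hF n) : orderOf x ≠ 26 := by
  intro hx
  have hd := hx ▸ orderOf_map_dvd (SemidirectProduct.rightHom (φ := ρ hF n)) x
  have hd' := hx ▸ dvd_twice_image hF n x
  obtain ⟨q, hqdef⟩ : ∃ q, q = SemidirectProduct.rightHom x := ⟨_, rfl⟩
  rw [← hqdef] at hd hd'
  have hq : orderOf q = 13 := by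
    have h13 : 13 ∣ orderOf q := Nat.dvd_of_mul_dvd_mul_left two_pos (show 2 * 13 ∣ 2 * orderOf q from hd')
    obtain ⟨c, hc⟩ := h13
    rw [hc] at hd
    have hc2 : c ∣ 2 := Nat.dvd_of_mul_dvd_mul_left (by norm_num : 0 < 13) (show 13 * c ∣ 13 * 2 from hd)
    rcases Nat.prime_two.eq_one_or_self_of_dvd c hc2 with rfl | rfl
    · exact hc
    · exact absurd hc (no_order hF (r := 2) (p := 13) (Or.inl rfl) (Or.inr rfl) (by norm_num) q)
  obtain ⟨he, hg⟩ := eq_inl hF hq (by norm_num)
  have h : (x ^ 13).right = 1 := by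
    rw [← SemidirectProduct.rightHom_eq_right, map_pow, ← hqdef, ← hq, pow_orderOf_eq_one]
  obtain ⟨v, hv⟩ : x ^ 13 ∈ (SemidirectProduct.inl (φ := ρ hF n)).range := by
    rw [SemidirectProduct.range_inl_eq_ker_rightHom]; exact h
  have hfix : ρ hF n x.right v = v :=
    fixed_of_commute hF n (by rw [hv]; exact Commute.self_pow x 13)
  rw [← SemidirectProduct.rightHom_eq_right, ← hqdef, he, ρ_inl] at hfix
  have hv0 : v.toAdd = 0 := by
    funext τ i
    have e : op hF n q.left v.toAdd τ i = v.toAdd τ i :=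
      congrFun (congrFun (congrArg Multiplicative.toAdd hfix) τ) i
    refine fixed_thirteen hF (g := φ hF τ q.left) ((MulEquiv.orderOf_eq _ _).trans hg) ?_
    rwa [op, φ_mul, mat_φ hF (s hF)] at e
  have h13 : x ^ 13 = 1 := by
    rw [← hv, show v = 1 from Multiplicative.toAdd.injective hv0, map_one]
  have := orderOf_dvd_of_pow_eq_one h13
  rw [hx] at this
  norm_num at this

/-! ### Witnesses -/

include hF in
theorem form_fix (g : Cfsg.Sz F 1) : mat g * Cfsg.suzukiForm F * (mat g)ᵀ = Cfsg.suzukiForm F := by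
  have h1 : (mat g)ᵀ * Cfsg.suzukiForm F * mat g = Cfsg.suzukiForm F := form_preserved hF le_rfl g.2
  have hJJ : Cfsg.suzukiForm F * Cfsg.suzukiForm F = 1 := by
    haveI := charTwo hF
    ext i j
    fin_cases i <;> fin_cases j <;> simp [Cfsg.suzukiForm, Matrix.mul_apply, Fin.sum_univ_four]
  have h2 : (Cfsg.suzukiForm F * (mat g)ᵀ * Cfsg.suzukiForm F) * mat g = 1 := by
    rw [Matrix.mul_assoc (Cfsg.suzukiForm F), Matrix.mul_assoc (Cfsg.suzukiForm F), h1, hJJ]
  have h3 := mul_eq_one_comm.1 h2
  calc mat g * Cfsg.suzukiForm F * (mat g)ᵀ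
      = mat g * (Cfsg.suzukiForm F * (mat g)ᵀ * Cfsg.suzukiForm F) * Cfsg.suzukiForm F := by
        simp only [Matrix.mul_assoc, hJJ, mul_one]
    _ = Cfsg.suzukiForm F := by rw [h3, one_mul]

/-- An element of order five defined over the prime field. -/
noncomputable def g5 : Cfsg.Sz F 1 := tS hF 0 1 * wS hF

theorem φ_g5 (a : ↥(A hF)) : φ hF a (g5 hF) = g5 hF := by
  show Small.SuzukiAut.fieldAut hF le_rfl (a : F ≃+* F) (tS hF 0 1 * wS hF) = _
  rw [map_mul, Small.SuzukiAut.fieldAut_tS, Small.SuzukiAut.fieldAut_wS, map_zero, map_one]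
  rfl

theorem orderOf_g5 : orderOf (g5 hF) = 5 := by
  haveI := charTwo hF
  haveI : Fact (Nat.Prime 5) := ⟨by norm_num⟩
  let Mz : Matrix (Fin 4) (Fin 4) (ZMod 2) := !![1, 1, 0, 1; 1, 0, 1, 0; 0, 1, 0, 0; 1, 0, 0, 0]
  have hm : mat (g5 hF) = Mz.map (ZMod.castHom (dvd_refl 2) F) := by
    rw [g5, mat_mul]
    ext i j
    fin_cases i <;> fin_cases j <;>
      simp [Mz, mat, tS, wS, tM, tMat, wM, fv, Matrix.mul_apply, Fin.sum_univ_four]
  refine orderOf_eq_prime (Subtype.ext (Subtype.ext ?_)) fun h => ?_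
  · show mat (g5 hF ^ 5) = mat 1
    have h5 : Mz ^ 5 = 1 := by decide +kernel
    rw [mat_pow, hm, ← Matrix.map_pow, h5, Matrix.map_one _ (map_zero _) (map_one _), mat_one]
  · have := congrFun (congrFun (congrArg mat h) 0) 1
    rw [hm, mat_one] at this
    simp [Mz] at this

theorem orderOf_t : orderOf (tS (m := 1) hF (0 : F) 1) = 2 := by
  haveI := charTwo hF
  haveI : Fact (Nat.Prime 2) := ⟨Nat.prime_two⟩
  refine orderOf_eq_prime ?_ fun h => ?_
  · rw [pow_two, tS_mul hF, add_zero, mul_zero, add_zero, CharTwo.add_self_eq_zero, tS_zero hF]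
  · have := congrFun (congrFun (congrArg mat h) 1) 3
    simp [mat, tS, tM, tMat] at this

theorem exists_three_mul {g : Cfsg.Sz F 1} {k : ℕ} (hg : orderOf g = k) (hk : k.Coprime 3)
    (hfix : φ hF (s hF) g = g) : ∃ x : X hF n, orderOf x = k * 3 := by
  haveI : Fact (Nat.Prime 3) := ⟨Nat.prime_three⟩
  have hs : orderOf (s hF) = 3 := by
    rw [← orderOf_injective (A hF).subtype (A hF).subtype_injective]
    exact orderOf_eq_prime (frob_pow_three hF) (frob_ne_one hF)
  have hs' : orderOf (SemidirectProduct.inr (s hF) : L hF) = 3 :=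
    (orderOf_injective _ SemidirectProduct.inr_injective _).trans hs
  have hg' : orderOf (SemidirectProduct.inl g : L hF) = k :=
    (orderOf_injective _ SemidirectProduct.inl_injective _).trans hg
  have hc : Commute (SemidirectProduct.inl g : L hF) (SemidirectProduct.inr (s hF)) :=
    SemidirectProduct.ext (by simp [hfix]) (by simp)
  refine ⟨SemidirectProduct.inr (SemidirectProduct.inl g * SemidirectProduct.inr (s hF)), ?_⟩
  rw [orderOf_injective _ SemidirectProduct.inr_injective,
    hc.orderOf_mul_eq_mul_orderOf_of_coprime (by rw [hg', hs']; exact hk), hg', hs']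

theorem exists_two_mul {g : Cfsg.Sz F 1} {k : ℕ} (hg : orderOf g = k) (hk : k.Coprime 2)
    {M : Mo hF n} (hM : M ≠ 0) (hfix : op hF n g M = M) : ∃ x : X hF n, orderOf x = 2 * k := by
  haveI : Fact (Nat.Prime 2) := ⟨Nat.prime_two⟩
  obtain ⟨v, hvdef⟩ : ∃ v, v = Multiplicative.ofAdd M := ⟨_, rfl⟩
  have hv1 : v ≠ 1 := fun h => hM (by rw [hvdef] at h; exact h)
  have hv : orderOf (SemidirectProduct.inl v : X hF n) = 2 :=
    (orderOf_injective _ SemidirectProduct.inl_injective _).trans
      (orderOf_eq_prime (by rw [pow_two, sq_eq_one]) hv1)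
  have hg' : orderOf (SemidirectProduct.inr (SemidirectProduct.inl g) : X hF n) = k :=
    (orderOf_injective _ SemidirectProduct.inr_injective _).trans
      ((orderOf_injective _ SemidirectProduct.inl_injective _).trans hg)
  have hρ : actG hF n g v = v := by
    rw [hvdef]; exact congrArg Multiplicative.ofAdd hfix
  have hc : Commute (SemidirectProduct.inl v : X hF n) (SemidirectProduct.inr (SemidirectProduct.inl g)) :=
    SemidirectProduct.ext (by simp [ρ_inl, hρ]) (by simp)
  refine ⟨_, (hc.orderOf_mul_eq_mul_orderOf_of_coprime ?_).trans (by rw [hv, hg'])⟩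
  rw [hv, hg']; exact hk.symm

theorem hasGraph_X (hn : 1 ≤ n) : HasGraph (X hF n) := by
  haveI := charTwo hF
  refine ⟨fun p hp => ⟨fun h => ?_, fun h => ?_⟩, fun m hm => ?_, fun m hm x => ?_⟩
  · rw [card_X, show (87360 : ℕ) = 2 ^ 6 * (3 * (5 * (7 * 13))) from rfl] at h
    have hq : ∀ q : ℕ, q.Prime → p ∣ q → p = q := fun q hq hd => (Nat.prime_dvd_prime_iff_eq hp hq).1 hd
    simp only [Finset.mem_insert, Finset.mem_singleton]
    rcases hp.dvd_mul.1 h with d | d
    · exact Or.inl (hq 2 Nat.prime_two (hp.dvd_of_dvd_pow d))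
    rcases hp.dvd_mul.1 d with d | d
    · exact Or.inl (hq 2 Nat.prime_two (hp.dvd_of_dvd_pow d))
    rcases hp.dvd_mul.1 d with d | d
    · exact Or.inr (Or.inl (hq 3 Nat.prime_three d))
    rcases hp.dvd_mul.1 d with d | d
    · exact Or.inr (Or.inr (Or.inl (hq 5 (by norm_num) d)))
    rcases hp.dvd_mul.1 d with d | d
    · exact Or.inr (Or.inr (Or.inr (Or.inl (hq 7 (by norm_num) d))))
    · exact Or.inr (Or.inr (Or.inr (Or.inr (hq 13 (by norm_num) d))))
  · rw [card_X]
    refine dvd_mul_of_dvd_right ?_ _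
    simp only [Finset.mem_insert, Finset.mem_singleton] at h
    rcases h with rfl | rfl | rfl | rfl | rfl <;> norm_num
  · simp only [Finset.mem_insert, Finset.mem_singleton] at hm
    rcases hm with rfl | rfl | rfl | rfl
    · refine exists_three_mul hF n (orderOf_t hF) (by norm_num) ?_
      show Small.SuzukiAut.fieldAut hF le_rfl (frob hF) _ = _
      rw [Small.SuzukiAut.fieldAut_tS, map_zero, map_one]
    · refine exists_two_mul hF n (orderOf_g5 hF) (by norm_num) (M := fun _ _ => Cfsg.suzukiForm F)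
        (fun h => ?_) ?_
      · have := congrFun (congrFun (congrFun (congrFun h 1) ⟨0, hn⟩) 0) 3
        simp [Cfsg.suzukiForm] at this
      · funext τ i
        show mat (φ hF τ (g5 hF)) * _ * (mat (φ hF (s hF * τ) (g5 hF)))ᵀ = _
        rw [φ_g5, φ_g5]
        exact form_fix hF _
    · obtain ⟨k, hk⟩ := exists_unit_ne_one (m := 1) hF le_rfl
      haveI : Fact (Nat.Prime 7) := ⟨by norm_num⟩
      have h7 : ∀ u : Fˣ, (u : F) ^ 7 = 1 := fun u => by
        have := FiniteField.pow_card_sub_one_eq_one (u : F) u.ne_zero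
        rwa [hF] at this
      have ho : orderOf (dS (m := 1) hF k) = 7 := by
        refine orderOf_eq_prime ?_ fun h => hk ?_
        · rw [← map_pow, show k ^ 7 = 1 from Units.ext (by simpa using h7 k), map_one]
        · have h3 : (k : F) ^ 3 = 1 := by
            have := congrFun (congrFun (congrArg mat h) 0) 0
            simpa [mat, dS, dM] using this
          calc (k : F) = k * ((k : F) ^ 3) ^ 2 := by rw [h3, one_pow, mul_one]
            _ = (k : F) ^ 7 := by ring
            _ = 1 := h7 k
      refine exists_two_mul hF n ho (by norm_num) (M := fun _ _ => Matrix.single 0 1 1) (fun h => ?_) ?_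
      · have := congrFun (congrFun (congrFun (congrFun h 1) ⟨0, hn⟩) 0) 1
        simp at this
      · funext τ i
        show mat (φ hF τ (dS hF k)) * _ * (mat (φ hF (s hF * τ) (dS hF k)))ᵀ = _
        obtain ⟨k', hk'⟩ : ∃ k' : Fˣ, φ hF τ (dS hF k) = dS hF k' := ⟨_, Small.SuzukiAut.fieldAut_dS hF le_rfl _ k⟩
        rw [φ_mul, hk', mat_φ hF (s hF)]
        have hd : mat (dS hF k') = Matrix.diagonal ![(k' : F) ^ (2 ^ 1 + 1), (k' : F) ^ (2 ^ 1),
            ((k' : F) ^ (2 ^ 1))⁻¹, ((k' : F) ^ (2 ^ 1 + 1))⁻¹] := rfl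
        rw [hd, Matrix.diagonal_map (map_zero _), Matrix.diagonal_transpose]
        ext r c
        rw [Matrix.mul_diagonal, Matrix.diagonal_mul]
        by_cases hrc : r = 0 ∧ c = 1
        · obtain ⟨rfl, rfl⟩ := hrc
          simp only [Matrix.single_apply_same, mul_one, Function.comp_apply, Matrix.cons_val_zero,
            Matrix.cons_val_one]
          show (k' : F) ^ 3 * ((k' : F) ^ 2) ^ 2 = 1
          rw [← pow_mul, ← pow_add]
          exact h7 k'
        · have e : (Matrix.single 0 1 1 : Matrix (Fin 4) (Fin 4) F) r c = 0 := by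
            rw [Matrix.single_apply, if_neg]
            exact fun e => hrc ⟨e.1.symm, e.2.symm⟩
          simp [e]
    · exact exists_three_mul hF n (orderOf_g5 hF) (by norm_num) (φ_g5 hF _)
  · simp only [Finset.mem_insert, Finset.mem_singleton] at hm
    rcases hm with rfl | rfl | rfl | rfl | rfl | rfl
    · exact no_odd hF n (by norm_num) (fun y => no_order_three hF (r := 7) (Or.inl rfl) y) x
    · exact no_twenty_six hF n x
    · exact no_odd hF n (by norm_num)
        (fun y => no_order hF (r := 7) (p := 5) (Or.inr (Or.inr rfl)) (Or.inl rfl) (by norm_num) y) x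
    · exact no_odd hF n (by norm_num) (fun y => no_order_three hF (r := 13) (Or.inr rfl) y) x
    · exact no_odd hF n (by norm_num)
        (fun y => no_order hF (r := 5) (p := 13) (Or.inr (Or.inl rfl)) (Or.inr rfl) (by norm_num) y) x
    · exact no_odd hF n (by norm_num)
        (fun y => no_order hF (r := 7) (p := 13) (Or.inr (Or.inr rfl)) (Or.inr rfl) (by norm_num) y) x

end Model

theorem hasGraph_psp {F : Type*} [Field F] [Fintype F] (hF : Fintype.card F = 3) :
    HasGraph (Cfsg.PSp 3 F) := by
  obtain ⟨e6, e10, e14, e15⟩ := Small.SpSixThree.exists_edges hF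
  refine ⟨fun p hp => ⟨fun h => ?_, fun h => ?_⟩, fun m hm => ?_, fun m hm x => ?_⟩
  · have := Small.SpSixThree.card_eq hF p hp h
    simpa using this
  · simp only [Finset.mem_insert, Finset.mem_singleton] at h
    obtain ⟨a, ha⟩ := e6
    obtain ⟨b, hb⟩ := e15
    obtain ⟨c, hc⟩ := e14
    rcases h with rfl | rfl | rfl | rfl | rfl
    · exact (dvd_mul_right 2 3).trans (ha ▸ orderOf_dvd_natCard a)
    · exact (dvd_mul_right 3 5).trans (hb ▸ orderOf_dvd_natCard b)
    · exact (dvd_mul_left 5 3).trans (hb ▸ orderOf_dvd_natCard b)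
    · exact (dvd_mul_left 7 2).trans (hc ▸ orderOf_dvd_natCard c)
    · exact Small.SpSixThree.thirteen_dvd hF
  · simp only [Finset.mem_insert, Finset.mem_singleton] at hm
    rcases hm with rfl | rfl | rfl | rfl
    exacts [e6, e10, e14, e15]
  · simp only [Finset.mem_insert, Finset.mem_singleton] at hm
    rcases hm with rfl | rfl | rfl | rfl | rfl | rfl
    · exact Small.SpSixThree.non_edges hF 3 7 (by simp) x
    · exact Small.SpSixThree.no_twenty_six hF x
    · exact Small.SpSixThree.non_edges hF 5 7 (by simp) x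
    · exact Small.SpSixThree.non_edges hF 3 13 (by simp) x
    · exact Small.SpSixThree.non_edges hF 5 13 (by simp) x
    · exact Small.SpSixThree.non_edges hF 7 13 (by simp) x

/-- The prime graph of a finite group has the prime divisors of its order as vertices, two distinct primes p, q being joined when the group has an element of order pq; two groups have the same prime graph when they have the same prime divisors and the same joined pairs. Let F be the field with 3 elements and L = PSp(6,F). There are finite groups of arbitrarily large order with the same prime graph as L (a prime graph shared by the orthogonal groups Ω₇(3) and PΩ⁺₈(3)). -/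
theorem result {F : Type*} [Field F] [Fintype F] (hF : Fintype.card F = 3) (N : ℕ) :
    ∃ (H : Type) (_ : Group H) (_ : Finite H), N < Nat.card H ∧
      ((∀ p : ℕ, p.Prime → (p ∣ Nat.card (Cfsg.PSp 3 F) ↔ p ∣ Nat.card H)) ∧
      (∀ p q : ℕ, p.Prime → q.Prime → p ≠ q → ((∃ g : (Cfsg.PSp 3 F), orderOf g = p * q) ↔ (∃ g : H, orderOf g = p * q)))) := by
  haveI : Fact (Nat.Prime 2) := ⟨Nat.prime_two⟩
  haveI : Fintype (GaloisField 2 3) := Fintype.ofFinite _
  have hK : Fintype.card (GaloisField 2 3) = 2 ^ (2 * 1 + 1) := by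
    rw [← Nat.card_eq_fintype_card, GaloisField.card 2 3 (by norm_num)]
  have hX := hasGraph_X hK (N + 1) (by omega)
  have hP := hasGraph_psp hF
  refine ⟨X hK (N + 1), inferInstance, inferInstance, ?_,
    fun p hp => (hP.1 p hp).trans (hX.1 p hp).symm,
    fun p q hp hq hne => ⟨edge_of_edge hP hX hp hq hne, edge_of_edge hX hP hp hq hne⟩⟩
  rw [card_X]
  calc N < 2 ^ N := Nat.lt_two_pow_self
    _ ≤ 2 ^ (144 * (N + 1)) := Nat.pow_le_pow_right two_pos (by omega)
    _ ≤ _ := Nat.le_mul_of_pos_right _ (by norm_num)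

end Cfsg.Agent.S3664
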