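import Cfsg.Statements.S3668
import Cfsg.Agent.Lib.Char.SmallOrderGraph.Split.Main
import Cfsg.Agent.Lib.Char.SmallOrderGraph.ThreeThree.Main
import Cfsg.Agent.S0494
import Cfsg.Agent.S1020

set_option autoImplicit false
open Cfsg

namespace Cfsg.Agent.S3668

open Cfsg.Agent.Char.SmallOrderGraph

universe u v

theorem iso_of_order {S : Type u} [Group S] [Finite S] [IsSimpleGroup S] {G : Type v} [Group G]
    [Finite G] [IsSimpleGroup G] (hS : ¬ IsMulCommutative S) (hlt : Nat.card S < 6000)
    (hcard : Nat.card G = Nat.card S) : Nonempty (G ≃* S) := by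
  obtain ⟨N, hN⟩ : ∃ N, Nat.card S = N := ⟨_, rfl⟩
  have hNo : N ∈ orders := hN ▸ card_mem_orders hS hlt
  rw [hN] at hcard
  simp only [orders, List.mem_cons, List.not_mem_nil, or_false] at hNo
  haveI : Fact (Nat.Prime 2) := ⟨Nat.prime_two⟩
  haveI : Fact (Nat.Prime 7) := ⟨by norm_num⟩
  haveI : Fact (Nat.Prime 11) := ⟨by norm_num⟩
  haveI : Fact (Nat.Prime 13) := ⟨by norm_num⟩
  haveI : Fact (Nat.Prime 17) := ⟨by norm_num⟩
  haveI : Fact (Nat.Prime 19) := ⟨by norm_num⟩
  letI : Fintype (GaloisField 2 3) := Fintype.ofFinite _
  letI : Fintype (GaloisField 2 4) := Fintype.ofFinite _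
  have h8 : Fintype.card (GaloisField 2 3) = 8 := by
    rw [← Nat.card_eq_fintype_card, GaloisField.card 2 3 (by norm_num)]; norm_num
  have h16 : Fintype.card (GaloisField 2 4) = 16 := by
    rw [← Nat.card_eq_fintype_card, GaloisField.card 2 4 (by norm_num)]; norm_num
  rcases hNo with rfl | rfl | rfl | rfl | rfl | rfl | rfl | rfl | rfl | rfl | rfl
  · exact ⟨(S0494.result hcard).some.trans (S0494.result hN).some.symm⟩
  · exact ⟨(S0495.result hcard (ZMod.card 7)).some.trans (S0495.result hN (ZMod.card 7)).some.symm⟩
  · exact ⟨(S0497.result hcard).some.trans (S0497.result hN).some.symm⟩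
  · exact ⟨(S1011.result hcard h8).some.trans (S1011.result hN h8).some.symm⟩
  · exact ⟨(S0498.result 11 (Or.inl rfl) (by rw [hcard]; norm_num) (ZMod.card 11)).some.trans
      (S0498.result 11 (Or.inl rfl) (by rw [hN]; norm_num) (ZMod.card 11)).some.symm⟩
  · exact ⟨(S0498.result 13 (Or.inr rfl) (by rw [hcard]; norm_num) (ZMod.card 13)).some.trans
      (S0498.result 13 (Or.inr rfl) (by rw [hN]; norm_num) (ZMod.card 13)).some.symm⟩
  · exact ⟨(S1020.result hcard (ZMod.card 17)).some.trans (S1020.result hN (ZMod.card 17)).some.symm⟩
  · exact ⟨(S0984.result hcard).some.trans (S0984.result hN).some.symm⟩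
  · exact ⟨(S1021.result hcard (ZMod.card 19)).some.trans (S1021.result hN (ZMod.card 19)).some.symm⟩
  · exact ⟨(S0981.result hcard h16).some.trans (S0981.result hN h16).some.symm⟩
  · have hG : ¬ IsMulCommutative G := fun h => by
      letI : CommGroup G := { (inferInstance : Group G) with mul_comm := h.is_comm.comm }
      have h1 := IsSimpleGroup.prime_card (α := G)
      rw [hcard] at h1
      norm_num at h1
    exact ⟨(ThreeThree.iso_SLThree hG hcard).some.trans
      (ThreeThree.iso_SLThree hS hN).some.symm⟩

/-- The character degree graph of a finite group has as vertices the primes dividing some irreducible complex character degree, two distinct primes being joined when their product divides some irreducible character degree; two groups have the same character degree graph when they have the same vertices and the same joined pairs. Let S be a finite non-abelian simple group of order less than 6000. If a finite group G has the same order as S and the same character degree graph as S, then G is isomorphic to S. -/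
theorem result {S : Type*} [Group S] [Finite S] [IsSimpleGroup S] (hS : ¬ IsMulCommutative S)
    (hlt : Nat.card S < 6000) {G : Type*} [Group G] [Finite G] (hcard : Nat.card G = Nat.card S) (hΓ : Cfsg.degreePrimes G = Cfsg.degreePrimes S ∧ Cfsg.degreeGraph G = Cfsg.degreeGraph S) :
    Nonempty (G ≃* S) := by
  haveI := Split.isSimple_of_graph hS hlt hcard hΓ.1 hΓ.2
  exact iso_of_order hS hlt hcard

end Cfsg.Agent.S3668
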