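import Cfsg.Statements.S3669
import Mathlib
import Cfsg.Agent.Lib.Char.Linear
import Cfsg.Agent.Lib.Char.DegreeDvd
import Cfsg.Agent.Lib.Small.SylowTricks
import Cfsg.Agent.Lib.Lie.OrderSixty
import Cfsg.Agent.S3378
import Cfsg.Agent.Lib.Solv.Basic

set_option autoImplicit false
open Cfsg

namespace Cfsg.Agent.S3669

open Cfsg.Agent.Char
open scoped commutatorElement

universe u

theorem five_tuples : ∀ a ∈ Finset.Icc 2 6, ∀ b ∈ Finset.Icc 2 6, ∀ c ∈ Finset.Icc 2 6,
    ∀ d ∈ Finset.Icc 2 6, a * a + b * b + c * c + d * d = 59 →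
      (a = 5 ∨ b = 5 ∨ c = 5 ∨ d = 5) ∧ (a = 3 ∨ b = 3 ∨ c = 3 ∨ d = 3) ∧
        (a = 4 ∨ b = 4 ∨ c = 4 ∨ d = 4) := by decide +kernel

theorem classes_five : Fintype.card (ConjClasses (alternatingGroup (Fin 5))) = 5 := by decide +kernel

/-- The primes three and five divide degrees of the alternating group of degree five. -/
theorem alt_primes :
    2 ∈ Cfsg.degreePrimes (alternatingGroup (Fin 5)) ∧
    3 ∈ Cfsg.degreePrimes (alternatingGroup (Fin 5)) ∧ 5 ∈ Cfsg.degreePrimes (alternatingGroup (Fin 5)) := by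
  classical
  set A := alternatingGroup (Fin 5)
  haveI : IsSimpleGroup A := alternatingGroup.isSimpleGroup (α := Fin 5) (by simp)
  have hA : Nat.card A = 60 := by rw [nat_card_alternatingGroup, Nat.card_fin]; rfl
  have hcomm : commutator A = ⊤ := by
    rcases Subgroup.Normal.eq_bot_or_eq_top (inferInstance : (commutator A).Normal) with h | h
    · exfalso
      have hab : ∀ x y : A, x * y = y * x := fun x y => by
        have : ⁅x, y⁆ ∈ commutator A := Subgroup.commutator_mem_commutator (Subgroup.mem_top x) (Subgroup.mem_top y)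
        rw [h, Subgroup.mem_bot] at this
        exact commutatorElement_eq_one_iff_mul_comm.1 this
      let x : A := ⟨Equiv.swap 0 1 * Equiv.swap 0 2, Equiv.Perm.mem_alternatingGroup.2 (by decide +kernel)⟩
      let y : A := ⟨Equiv.swap 0 3 * Equiv.swap 0 4, Equiv.Perm.mem_alternatingGroup.2 (by decide +kernel)⟩
      exact absurd (congrArg Subtype.val (hab x y)) (by decide +kernel)
    · exact h
  have h1 : Nat.card {χ : IrrCharacter A // (χ : A → ℂ) 1 = 1} = 1 := by
    rw [card_linear, hcomm, Subgroup.index_top]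
  have hn : Nat.card (IrrCharacter A) = 5 := by
    rw [card_irr, Nat.card_eq_fintype_card, classes_five]
  rw [Nat.card_eq_fintype_card] at h1 hn
  have hn' : Fintype.card {χ : IrrCharacter A // ¬ (χ : A → ℂ) 1 = 1} = 4 := by
    rw [Fintype.card_subtype_compl, hn, h1]
  let e := (Fintype.equivFinOfCardEq hn').symm
  have hsum : ∑ χ : IrrCharacter A, deg (χ : A → ℂ) * deg (χ : A → ℂ) = 60 := by
    have := sum_sq_deg (G := A)
    rw [hA] at this
    have h2 : ∀ χ : IrrCharacter A, (χ : A → ℂ) 1 ^ 2 = ((deg (χ : A → ℂ) * deg (χ : A → ℂ) : ℕ) : ℂ) :=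
      fun χ => by rw [char_one_eq_deg (irr_isCharacter χ.2), Nat.cast_mul, sq]
    rw [Finset.sum_congr rfl fun χ _ => h2 χ, ← Nat.cast_sum] at this
    exact_mod_cast this
  rw [← Fintype.sum_subtype_add_sum_subtype (fun χ : IrrCharacter A => (χ : A → ℂ) 1 = 1)] at hsum
  have hlin : ∑ χ : {χ : IrrCharacter A // (χ : A → ℂ) 1 = 1},
      deg (χ.1 : A → ℂ) * deg (χ.1 : A → ℂ) = 1 := by
    rw [Finset.sum_congr rfl (g := fun _ => 1) fun χ _ => by simp [deg, χ.2]]
    simp [h1]
  rw [hlin, ← e.sum_comp, Fin.sum_univ_four] at hsum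
  have hb : ∀ i, deg ((e i).1 : A → ℂ) ∈ Finset.Icc 2 6 := by
    intro i
    have hd := deg_dvd_card (e i).1.2
    rw [hA] at hd
    have h0 := deg_pos (e i).1.2
    have hne : deg ((e i).1 : A → ℂ) ≠ 1 := fun h => (e i).2 (by
      rw [char_one_eq_deg (irr_isCharacter (e i).1.2), h, Nat.cast_one])
    have hle : deg ((e i).1 : A → ℂ) * deg ((e i).1 : A → ℂ) ≤ 59 := by
      fin_cases i <;> simp only [Fin.mk_one, Fin.zero_eta, Fin.reduceFinMk] at * <;> nlinarith
    rw [Finset.mem_Icc]
    refine ⟨by omega, ?_⟩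
    by_contra hgt
    push Not at hgt
    have h7 : deg ((e i).1 : A → ℂ) = 7 := by
      by_contra h7
      nlinarith [Nat.mul_le_mul (show 8 ≤ deg ((e i).1 : A → ℂ) by omega) (show 8 ≤ deg ((e i).1 : A → ℂ) by omega)]
    rw [h7] at hd
    norm_num at hd
  have hle : ∀ i, deg ((e i).1 : A → ℂ) ≠ 7 := fun i h => by
    have := hb i; rw [h] at this; simp at this
  obtain ⟨h5, h3, h4⟩ := five_tuples _ (hb 0) _ (hb 1) _ (hb 2) _ (hb 3) (by omega)
  refine ⟨⟨by norm_num, ?_⟩, ⟨by norm_num, ?_⟩, ⟨by norm_num, ?_⟩⟩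
  · rcases h4 with h | h | h | h <;> exact ⟨4, ⟨_, h⟩, by norm_num⟩
  · rcases h3 with h | h | h | h <;> exact ⟨3, ⟨_, h⟩, dvd_rfl⟩
  · rcases h5 with h | h | h | h <;> exact ⟨5, ⟨_, h⟩, dvd_rfl⟩

/-- The character degree graph of a finite group has as vertices the primes dividing some irreducible complex character degree, two distinct primes being joined when their product divides some irreducible character degree; two groups have the same character degree graph when they have the same vertices and the same joined pairs. A finite group of order 60 with the same character degree graph as the alternating group A₅ (whose character degrees are 1, 3, 4, 5, so the graph has vertices 2, 3, 5 and no edges) is isomorphic to A₅. -/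
theorem result {G : Type*} [Group G] [Finite G] (hcard : Nat.card G = 60)
    (hΓ : Cfsg.degreePrimes G = Cfsg.degreePrimes (alternatingGroup (Fin 5)) ∧ Cfsg.degreeGraph G = Cfsg.degreeGraph (alternatingGroup (Fin 5))) : Nonempty (G ≃* alternatingGroup (Fin 5)) := by
  classical
  haveI h5f : Fact (Nat.Prime 5) := ⟨by norm_num⟩
  obtain ⟨hp2, hp3, hp5⟩ : 2 ∈ Cfsg.degreePrimes G ∧ 3 ∈ Cfsg.degreePrimes G ∧ 5 ∈ Cfsg.degreePrimes G :=
    hΓ.1 ▸ alt_primes
  have hindex : ∀ (A : Subgroup G), A.Normal → (∀ a b : A, a * b = b * a) →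
      3 ∣ A.index ∧ 5 ∣ A.index := by
    intro A hA hab
    haveI := hA
    obtain ⟨-, _, ⟨χ, rfl⟩, h3⟩ := hp3
    obtain ⟨-, _, ⟨ψ, rfl⟩, h5⟩ := hp5
    exact ⟨h3.trans (deg_dvd_index_abelian_normal χ.2 A hab), h5.trans (deg_dvd_index_abelian_normal ψ.2 A hab)⟩
  have hns : ¬ Group.IsSolvable G := by
    intro hs
    haveI := hs
    haveI : Nontrivial G := Finite.one_lt_card_iff_nontrivial.1 (show 1 < Nat.card G by omega)
    obtain ⟨N, hNn, hNab, hNne⟩ : ∃ N : Subgroup G, N.Normal ∧ (∀ a b : N, a * b = b * a) ∧ N ≠ ⊥ := by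
      obtain ⟨N, hN, hne, hmin⟩ := Cfsg.Agent.Solv.exists_minimal_normal (G := G)
      haveI := hN
      have hab := (Cfsg.Agent.Solv.minimal_normal_elementaryAbelian N inferInstance hne hmin).1
      exact ⟨N, hN, fun a b => hab.is_comm.comm a b, hne⟩
    haveI := hNn
    obtain ⟨h3, h5⟩ := hindex N hNn hNab
    have hmul := N.card_mul_index
    rw [hcard] at hmul
    obtain ⟨k, hk⟩ := Nat.Coprime.mul_dvd_of_dvd_of_dvd (by norm_num : Nat.Coprime 3 5) h3 h5
    rw [hk] at hmul
    have hN4 : Nat.card N * k = 4 := by nlinarith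
    have hN1 : 1 < Nat.card N := Finite.one_lt_card_iff_nontrivial.2 (Subgroup.nontrivial_iff_ne_bot N |>.2 hNne)
    have hNle : Nat.card N ≤ 4 := Nat.le_of_dvd (by norm_num) (Dvd.intro _ hN4)
    have hNd : Nat.card N ∣ 4 := Dvd.intro _ hN4
    have hN24 : Nat.card N = 2 ∨ Nat.card N = 4 := by
      obtain ⟨r, hr⟩ : ∃ r, Nat.card N = r := ⟨_, rfl⟩
      rw [hr] at hN1 hNle hNd ⊢
      interval_cases r <;> norm_num at *
    rcases hN24 with hN2 | hN2
    · -- a central subgroup of order two: the Sylow five-subgroup is normal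
      obtain ⟨P⟩ : Nonempty (Sylow 5 G) := inferInstance
      have hq : Nat.card (G ⧸ N) = 2 * 3 * 5 := by
        have := Subgroup.card_eq_card_quotient_mul_card_subgroup N
        rw [hcard, hN2] at this; omega
      obtain ⟨R⟩ : Nonempty (Sylow 5 (G ⧸ N)) := inferInstance
      have hR := Cfsg.Agent.Small.SylowTricks.normal_of_pqr 2 3 5 Nat.prime_two (by norm_num) (by norm_num) (by norm_num) hq R
      haveI := hR
      set M := (R : Subgroup (G ⧸ N)).comap (QuotientGroup.mk' N)
      haveI hMn : M.Normal := Subgroup.Normal.comap hR _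
      have hNM : N ≤ M := fun x hx => by
        rw [Subgroup.mem_comap, QuotientGroup.mk'_apply, (QuotientGroup.eq_one_iff x).2 hx]
        exact one_mem _
      have hRc : Nat.card (R : Subgroup (G ⧸ N)) = 5 := by
        rw [R.card_eq_multiplicity, hq, show (2 * 3 * 5 : ℕ) = 5 ^ 1 * 6 by norm_num,
          Nat.factorization_mul (by norm_num) (by norm_num), Finsupp.add_apply,
          Nat.factorization_pow_self (by norm_num),
          Nat.factorization_eq_zero_of_not_dvd (by norm_num : ¬ 5 ∣ 6)]
        rfl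
      have hMi : M.index = 6 := by
        rw [Subgroup.index_comap_of_surjective _ (QuotientGroup.mk'_surjective N)]
        have := (R : Subgroup (G ⧸ N)).card_mul_index
        rw [hRc, hq] at this
        omega
      have hMc : Nat.card M = 10 := by
        have := M.card_mul_index; rw [hMi, hcard] at this; omega
      have hcen : ∀ n ∈ N, ∀ g : G, g * n = n * g := by
        intro n hn g
        have hconj := hNn.conj_mem n hn g
        obtain ⟨a, b, hab, huniv⟩ := Nat.card_eq_two_iff.1 hN2
        have hall : ∀ u : N, u = a ∨ u = b := fun u => by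
          have : u ∈ ({a, b} : Set N) := huniv ▸ Set.mem_univ u
          simpa using this
        by_cases h1 : n = 1
        · subst h1; simp
        · have hne : g * n * g⁻¹ ≠ 1 := fun e => h1 (by rwa [mul_inv_eq_one, mul_eq_left] at e)
          have : (⟨g * n * g⁻¹, hconj⟩ : N) = ⟨n, hn⟩ := by
            rcases hall ⟨g * n * g⁻¹, hconj⟩ with e | e <;> rcases hall ⟨n, hn⟩ with e' | e' <;>
              rcases hall 1 with e'' | e'' <;>
              first
              | exact e.trans e'.symm
              | exact absurd (congrArg Subtype.val (e'.trans e''.symm)) h1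
              | exact absurd (congrArg Subtype.val (e.trans e''.symm)) hne
          exact mul_inv_eq_iff_eq_mul.1 (congrArg Subtype.val this)
      have hMab : ∀ a b : M, a * b = b * a := by
        haveI : IsCyclic (R : Subgroup (G ⧸ N)) := isCyclic_of_prime_card hRc
        obtain ⟨r, hr⟩ := IsCyclic.exists_generator (α := (R : Subgroup (G ⧸ N)))
        obtain ⟨g, hg⟩ := QuotientGroup.mk'_surjective N (r : G ⧸ N)
        have key : ∀ a : M, ∃ (i : ℤ) (n : G), n ∈ N ∧ (a : G) = g ^ i * n := by
          intro a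
          obtain ⟨i, hi⟩ := Subgroup.mem_zpowers_iff.1 (hr ⟨QuotientGroup.mk' N a, a.2⟩)
          refine ⟨i, (g ^ i)⁻¹ * a, ?_, by group⟩
          rw [← QuotientGroup.eq]
          have hi' := congrArg Subtype.val hi
          simp only [SubgroupClass.coe_zpow, QuotientGroup.mk'_apply] at hi'
          rw [← hi', ← hg, QuotientGroup.mk'_apply, ← QuotientGroup.mk_zpow]
        intro a b
        obtain ⟨i, n, hn, ha⟩ := key a
        obtain ⟨j, m, hm, hb⟩ := key b
        refine Subtype.ext ?_
        rw [Subgroup.coe_mul, Subgroup.coe_mul, ha, hb]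
        have c1 : Commute n (g ^ j * m) := (hcen n hn _).symm
        have c2 : Commute (g ^ i) (g ^ j * m) :=
          ((Commute.refl g).zpow_zpow i j).mul_right (hcen m hm _)
        exact (c2.mul_left c1).eq
      have := (hindex M hMn hMab).2
      rw [hMi] at this
      norm_num at this
    · have : N.index = 15 := by rw [hN2] at hN4; omega
      obtain ⟨-, _, ⟨χ, rfl⟩, h2⟩ := hp2
      have := h2.trans (deg_dvd_index_abelian_normal χ.2 N hNab)
      rw [‹N.index = 15›] at this
      norm_num at this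
  haveI : Nontrivial G := Finite.one_lt_card_iff_nontrivial.1 (show 1 < Nat.card G by omega)
  haveI : IsSimpleGroup G := ⟨fun N hN => by
    by_contra hne
    push Not at hne
    haveI := hN
    have hmul := N.card_mul_index
    rw [hcard] at hmul
    have h1 : N.index ≠ 1 := fun e => hne.2 (Subgroup.index_eq_one.1 e)
    have h2 : Nat.card N ≠ 1 := fun e => hne.1 (Subgroup.card_eq_one.1 e)
    have key : ∀ n : ℕ, n ∣ 60 → n ≠ 60 → n ∣ 24 ∨ n ∣ 20 ∨ n ∣ 40 ∨ n ∣ 30 := by
      intro n hn hne
      have hm : n ∈ Nat.divisors 60 := Nat.mem_divisors.2 ⟨hn, by norm_num⟩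
      have : ∀ n ∈ Nat.divisors 60, n ≠ 60 → n ∣ 24 ∨ n ∣ 20 ∨ n ∣ 40 ∨ n ∣ 30 := by decide +kernel
      exact this n hm hne
    refine hns ((Group.isSolvable_iff_subgroup_quotient N).2
      ⟨Cfsg.Agent.S3378.solvable_small (Nat.card N) rfl (key _ (Dvd.intro _ hmul) fun e => h1 (by rw [e] at hmul; omega)),
       Cfsg.Agent.S3378.solvable_small (Nat.card (G ⧸ N)) rfl (key _ ?_ fun e => h2 ?_)⟩)
    · rw [← Subgroup.index_eq_card]; exact Dvd.intro_left _ hmul
    · rw [← Subgroup.index_eq_card] at e; rw [e] at hmul; omega⟩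
  exact Cfsg.Agent.Lie.simple_sixty hcard

end Cfsg.Agent.S3669
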