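import Cfsg.Statements.S3670
import Cfsg.Agent.Lib.Lie.SU33Borel
import Cfsg.Agent.Lib.Lie.SolvableDegreeGroup
-- import your own Cfsg.Agent.* helpers here

set_option autoImplicit false
open Cfsg

namespace Cfsg.Agent.S3670

/-- The character degree graph of a finite group has as vertices the primes dividing some irreducible complex character degree, two distinct primes being joined when their product divides some irreducible character degree; two groups have the same character degree graph when they have the same vertices and the same joined pairs. Let F be the field with 9 elements and L = PSU(3,3) realised over F (order 6048). There is a finite solvable group of order 6048 with the same character degree graph as L; so L is not determined by its order together with its character degree graph. -/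
theorem result {F : Type*} [Field F] [Fintype F] (hF : Fintype.card F = 9) :
    ∃ (H : Type) (_ : Group H) (_ : Fintype H), Group.IsSolvable H ∧ Nat.card H = 6048 ∧ Cfsg.degreePrimes H = Cfsg.degreePrimes (Cfsg.PSU 3 F 3) ∧ Cfsg.degreeGraph H = Cfsg.degreeGraph (Cfsg.PSU 3 F 3) := by
  obtain ⟨hcard, ⟨a, ha, ha'⟩, ⟨b, hb, hb'⟩, ⟨c, hc, hc'⟩⟩ := Cfsg.Agent.Lie.SU33.psu_degrees hF
  refine ⟨Cfsg.Agent.Lie.SolvableDeg.H, inferInstance, inferInstance, Cfsg.Agent.Lie.SolvableDeg.solvable_H,
    Cfsg.Agent.Lie.SolvableDeg.card_H, ?_⟩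
  haveI : Finite (Cfsg.PSU 3 F 3) := Nat.finite_of_card_ne_zero (by rw [hcard]; norm_num)
  have h42 := Cfsg.Agent.Lie.SolvableDeg.exists_deg_42
  obtain ⟨e1, e2⟩ := Cfsg.Agent.Lie.SolvableDeg.graph_complete Cfsg.Agent.Lie.SolvableDeg.card_H
    ⟨42, h42, by norm_num⟩ ⟨42, h42, by norm_num⟩ ⟨42, h42, by norm_num⟩
  obtain ⟨f1, f2⟩ := Cfsg.Agent.Lie.SolvableDeg.graph_complete hcard ⟨a, ha, ha'⟩ ⟨b, hb, hb'⟩ ⟨c, hc, hc'⟩
  exact ⟨e1.trans f1.symm, SimpleGraph.ext (funext fun p => funext fun q => propext ((e2 p q).trans (f2 p q).symm))⟩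

end Cfsg.Agent.S3670
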