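import Cfsg.Statements.S3678
import Mathlib
import Cfsg.Agent.Lib.Lie.AffineSpectrum
-- import your own Cfsg.Agent.* helpers here

set_option autoImplicit false
open Cfsg

namespace Cfsg.Agent.S3678

/-- The prime graph of a finite group has the prime divisors of its order as vertices, two distinct primes p, q being joined when the group has an element of order pq; two groups have the same prime graph when they have the same prime divisors and the same joined pairs. Let F be the field with 7 elements. There are finite groups of arbitrarily large order with the same prime graph as PSL(2,F) (the graph on {2, 3, 7} with no edges, which is also the prime graph of PSL(2,8)). -/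
theorem result {F : Type*} [Field F] [Fintype F] (hF : Fintype.card F = 7) (N : ℕ) :
    ∃ (H : Type) (_ : Group H) (_ : Finite H), N < Nat.card H ∧
      ((∀ p : ℕ, p.Prime → (p ∣ Nat.card (Matrix.ProjectiveSpecialLinearGroup (Fin 2) F) ↔ p ∣ Nat.card H)) ∧
      (∀ p q : ℕ, p.Prime → q.Prime → p ≠ q → ((∃ g : (Matrix.ProjectiveSpecialLinearGroup (Fin 2) F), orderOf g = p * q) ↔ (∃ g : H, orderOf g = p * q)))) := by
  haveI : Fact (Nat.Prime 7) := ⟨by norm_num⟩
  haveI : Fact (Nat.Prime 2) := ⟨Nat.prime_two⟩
  haveI : CharP F 7 := charP_of_card_eq_prime hF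
  haveI : Fintype (GaloisField 2 3) := Fintype.ofFinite _
  have hE : Fintype.card (GaloisField 2 3) = 8 := by
    rw [Fintype.card_eq_nat_card, GaloisField.card 2 3 three_ne_zero]
    rfl
  obtain ⟨H, iG, iF, hN, h1, h2⟩ :=
    Cfsg.Agent.Lie.AffineSL2.exists_large_graph (F := GaloisField 2 3) (by omega) N
  have hy7 := Cfsg.Agent.Small.SL2C.orderOf_dvd (F := F) 7
  have hy8 := Cfsg.Agent.Small.SL2C.orderOf_dvd (F := GaloisField 2 3) 2
  have hx7 := Cfsg.Agent.Small.SL2C.order_exists (F := F) 7 (by omega)
  have hx8 := Cfsg.Agent.Small.SL2C.order_exists (F := GaloisField 2 3) 2 (by omega)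
  rw [hF] at hy7 hx7
  rw [hE] at hy8 hx8
  norm_num at hy7 hx7 hy8 hx8
  have small : ∀ p q d : ℕ, p.Prime → q.Prime → p ≠ q → p * q ∣ d → d ∈ [2, 3, 4, 7, 9] → False := by
    intro p q d hp hq hpq hd hmem
    have hle : p * q ≤ 9 := (Nat.le_of_dvd (by simp at hmem; omega) hd).trans (by simp at hmem; omega)
    have hp2 := hp.two_le
    have hq2 := hq.two_le
    have hp4 : p ≤ 4 := by nlinarith
    have hq4 : q ≤ 4 := by nlinarith
    have e : ∀ r : ℕ, r.Prime → r ≤ 4 → r = 2 ∨ r = 3 := by
      intro r hr hr4
      have := hr.two_le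
      rcases (show r = 2 ∨ r = 3 ∨ r = 4 by omega) with rfl | rfl | rfl
      · exact Or.inl rfl
      · exact Or.inr rfl
      · norm_num at hr
    simp at hmem
    obtain ⟨c, rfl⟩ := hd
    rcases e p hp hp4 with rfl | rfl <;> rcases e q hq hq4 with rfl | rfl <;> omega
  have g := Cfsg.Agent.Lie.AffineSL2.graph_eq (G := Matrix.ProjectiveSpecialLinearGroup (Fin 2) F) (H := H) ?_ ?_
  · exact ⟨H, iG, iF, hN, g⟩
  · intro p hp
    rw [← h1 p hp]
    constructor
    · rintro ⟨y, rfl⟩
      refine hx8 _ ?_
      rcases hy7 y with h | h | h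
      · exact Or.inr (Or.inl h)
      · exact Or.inr (Or.inr (h.trans (by norm_num)))
      · exact Or.inl (hp.dvd_of_dvd_pow (show orderOf y ∣ 2 ^ 2 from h))
    · rintro ⟨y, rfl⟩
      refine hx7 _ ?_
      rcases hy8 y with h | h | h
      · exact Or.inr (Or.inr (h.trans (by norm_num)))
      · exact Or.inl h
      · exact Or.inr (Or.inl (hp.dvd_of_dvd_pow (show orderOf y ∣ 3 ^ 2 from h)))
  · intro p q hp hq hpq
    rw [← h2 p q hp hq hpq]
    constructor
    · rintro ⟨y, hy⟩
      rcases hy7 y with h | h | h <;> rw [hy] at h <;>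
        exact (small p q _ hp hq hpq h (by simp)).elim
    · rintro ⟨y, hy⟩
      rcases hy8 y with h | h | h <;> rw [hy] at h <;>
        exact (small p q _ hp hq hpq h (by simp)).elim

end Cfsg.Agent.S3678
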