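import Cfsg.Statements.S3680
import Mathlib
import Cfsg.Agent.Lib.Perm.Primitive
import Cfsg.Agent.Lib.Perm.CharSimple
import Cfsg.Agent.Lib.Solv.Basic
-- import your own Cfsg.Agent.* helpers here

set_option autoImplicit false
open Cfsg

namespace Cfsg.Agent.S3680

/-- The socle of a finite primitive permutation group. Let a finite group G act faithfully and primitively on a set Ω, and let N be the subgroup generated by the minimal normal subgroups of G. Then either N is an elementary abelian p-group for some prime p and acts regularly on Ω (transitively with trivial point stabilizers), or N is isomorphic to a direct product of m ≥ 1 copies of a non-abelian simple group. -/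
theorem result {G Ω : Type*} [Group G] [Finite G] [MulAction G Ω] [FaithfulSMul G Ω] [Finite Ω]
    (hprim : MulAction.IsPreprimitive G Ω) (N : Subgroup G)
    (hN : N = sSup {V : Subgroup G | V.Normal ∧ V ≠ ⊥ ∧ ∀ M : Subgroup G, M.Normal → M ≤ V → M = ⊥ ∨ M = V}) :
    (∃ p : ℕ, p.Prime ∧ IsMulCommutative N ∧ (∀ x : N, x ^ p = 1) ∧
      MulAction.IsPretransitive N Ω ∧ ∀ ω : Ω, MulAction.stabilizer N ω = ⊥) ∨
    (∃ (T : Type) (_ : Group T) (m : ℕ), 1 ≤ m ∧ IsSimpleGroup T ∧ ¬ IsMulCommutative T ∧ Nonempty (N ≃* (Fin m → T))) := by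
  classical
  haveI := hprim
  let O : Set (Subgroup G) := {V : Subgroup G | V.Normal ∧ V ≠ ⊥ ∧ ∀ M : Subgroup G, M.Normal → M ≤ V → M = ⊥ ∨ M = V}
  rcases subsingleton_or_nontrivial G with hG | hG
  · left
    refine ⟨2, Nat.prime_two, ⟨⟨fun a b => Subsingleton.elim _ _⟩⟩, fun x => Subsingleton.elim _ _, ⟨fun a b => ?_⟩, fun ω => Subsingleton.elim _ _⟩
    obtain ⟨g, hg⟩ := MulAction.exists_smul_eq G a b
    exact ⟨1, by rw [one_smul, ← hg, Subsingleton.elim g 1, one_smul]⟩
  haveI : Nonempty Ω := by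
    by_contra h
    rw [not_nonempty_iff] at h
    obtain ⟨g, hg⟩ := exists_ne (1 : G)
    exact hg (eq_of_smul_eq_smul (α := Ω) fun z => h.elim z)
  obtain ⟨ω⟩ := (inferInstance : Nonempty Ω)
  obtain ⟨V, hVn, hV0, hVmin⟩ := Cfsg.Agent.Solv.exists_minimal_normal (G := G)
  haveI := hVn
  haveI htrV := Cfsg.Agent.Perm.normal_isPretransitive (Ω := Ω) V hV0
  have hVO : V ∈ O := ⟨hVn, hV0, hVmin⟩
  have hdis : ∀ A ∈ O, ∀ B ∈ O, A ≠ B → B ≤ Subgroup.centralizer (A : Set G) := by
    intro A hA B hB hne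
    haveI := hA.1
    haveI := hB.1
    have hd : Disjoint A B := by
      rw [disjoint_iff]
      rcases hA.2.2 (A ⊓ B) inferInstance inf_le_left with h | h
      · exact h
      · exfalso
        rcases hB.2.2 A hA.1 (h ▸ inf_le_right) with h' | h'
        · exact hA.2.1 h'
        · exact hne h'
    intro b hb
    rw [Subgroup.mem_centralizer_iff]
    exact fun a ha => (Subgroup.commute_of_normal_of_disjoint A B hA.1 hB.1 hd a b ha hb).eq
  by_cases hab : ∃ A ∈ O, IsMulCommutative A
  · left
    obtain ⟨A, hA, hAc⟩ := hab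
    haveI := hA.1
    haveI htrA := Cfsg.Agent.Perm.normal_isPretransitive (Ω := Ω) A hA.2.1
    have hCA : ∀ c ∈ Subgroup.centralizer (A : Set G), c ∈ A := by
      intro c hc
      obtain ⟨a, ha⟩ := MulAction.exists_smul_eq A ω (c • ω)
      have h1 : (a : G)⁻¹ * c ∈ Subgroup.centralizer (A : Set G) :=
        Subgroup.mul_mem _ (Subgroup.inv_mem _ (Subgroup.mem_centralizer_iff.2 fun x hx =>
          congrArg Subtype.val (hAc.is_comm.comm (⟨x, hx⟩ : A) a))) hc
      have h2 : ((a : G)⁻¹ * c) • ω = ω := by rw [mul_smul, ← ha, Subgroup.smul_def, inv_smul_smul]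
      rw [← inv_mul_eq_one.1 (Cfsg.Agent.Perm.eq_one_of_centralizes (M := A) h1 h2)]
      exact a.2
    have hNA : N = A := by
      rw [hN]
      refine le_antisymm (sSup_le fun B hB => ?_) (le_sSup hA)
      by_cases h : A = B
      · exact h.ge
      · exact fun b hb => hCA b (hdis A hA B hB h hb)
    subst hNA
    obtain ⟨-, p, hp, hpow, -⟩ := Cfsg.Agent.Solv.minimal_normal_elementaryAbelian N
      (Group.isSolvable_of_comm fun a b => hAc.is_comm.comm a b) hA.2.1 hA.2.2
    exact ⟨p, hp, hAc, fun x => Subtype.ext (hpow x x.2), htrA, fun x => Cfsg.Agent.Perm.stabilizer_eq_bot_of_isMulCommutative hAc x⟩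
  right
  push Not at hab
  obtain ⟨T, hTg, m, hTs, hm, ⟨eV⟩⟩ := Cfsg.Agent.Perm.minimal_normal_power V hV0 hVmin
  have hTnc : ¬ IsMulCommutative T := fun h => hab V hVO ⟨⟨fun a b => eV.injective (by
    rw [map_mul, map_mul]; funext i; exact h.is_comm.comm _ _)⟩⟩
  by_cases huniq : ∀ B ∈ O, B = V
  · have hNV : N = V := by
      rw [hN]; exact le_antisymm (sSup_le fun B hB => (huniq B hB).le) (le_sSup hVO)
    subst hNV
    exact ⟨T, hTg, m, hm, hTs, hTnc, ⟨eV⟩⟩
  push Not at huniq
  obtain ⟨W, hW, hWV⟩ := huniq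
  haveI := hW.1
  haveI htrW := Cfsg.Agent.Perm.normal_isPretransitive (Ω := Ω) W hW.2.1
  have hWC : W ≤ Subgroup.centralizer (V : Set G) := hdis V hVO W hW (Ne.symm hWV)
  have hCW : ∀ c ∈ Subgroup.centralizer (V : Set G), c ∈ W := by
    intro c hc
    obtain ⟨w, hw⟩ := MulAction.exists_smul_eq W ω (c • ω)
    have h1 : (w : G)⁻¹ * c ∈ Subgroup.centralizer (V : Set G) := Subgroup.mul_mem _ (Subgroup.inv_mem _ (hWC w.2)) hc
    have h2 : ((w : G)⁻¹ * c) • ω = ω := by rw [mul_smul, ← hw, Subgroup.smul_def, inv_smul_smul]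
    rw [← inv_mul_eq_one.1 (Cfsg.Agent.Perm.eq_one_of_centralizes (M := V) h1 h2)]
    exact w.2
  have hNVW : N = V ⊔ W := by
    rw [hN]
    refine le_antisymm (sSup_le fun B hB => ?_) (sup_le (le_sSup hVO) (le_sSup hW))
    by_cases h : B = V
    · exact h ▸ le_sup_left
    · exact le_trans (fun b hb => hCW b (hdis V hVO B hB (Ne.symm h) hb)) le_sup_right
  have hVC : V ≤ Subgroup.centralizer (W : Set G) := hdis W hW V hVO hWV
  have hcomm : ∀ (v : V) (w : W), Commute (v : G) (w : G) := fun v w => Subgroup.mem_centralizer_iff.1 (hWC w.2) v v.2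
  -- regularity
  have hregW : ∀ w w' : W, (w : G) • ω = (w' : G) • ω → w = w' := fun w w' h => by
    have h2 : ((w' : G)⁻¹ * w) • ω = ω := by rw [mul_smul, h, inv_smul_smul]
    exact Subtype.ext (inv_mul_eq_one.1 (Cfsg.Agent.Perm.eq_one_of_centralizes (M := V)
      (Subgroup.mul_mem _ (Subgroup.inv_mem _ (hWC w'.2)) (hWC w.2)) h2)).symm
  have hregV : ∀ v v' : V, (v : G) • ω = (v' : G) • ω → v = v' := fun v v' h => by
    have h2 : ((v' : G)⁻¹ * v) • ω = ω := by rw [mul_smul, h, inv_smul_smul]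
    exact Subtype.ext (inv_mul_eq_one.1 (Cfsg.Agent.Perm.eq_one_of_centralizes (M := W)
      (Subgroup.mul_mem _ (Subgroup.inv_mem _ (hVC v'.2)) (hVC v.2)) h2)).symm
  have hex : ∀ v : V, ∃ w : W, (w : G) • ω = (v : G)⁻¹ • ω := fun v => MulAction.exists_smul_eq W ω ((v : G)⁻¹ • ω)
  choose f hf using hex
  let φ : V →* W := MonoidHom.mk' f fun a b => hregW _ _ (by
    rw [hf, Subgroup.coe_mul, mul_inv_rev, mul_smul, ← hf a, Subgroup.coe_mul, mul_smul (f a : G), hf b, ← mul_smul,
      ← mul_smul, ((hcomm b (f a)).inv_left).eq])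
  have hφ : Function.Bijective φ := by
    constructor
    · intro a b h
      have h' : (a⁻¹ : V).1 • ω = (b⁻¹ : V).1 • ω := by
        rw [Subgroup.coe_inv, Subgroup.coe_inv, ← hf a, ← hf b, show f a = f b from h]
      exact inv_inj.1 (hregV _ _ h')
    · intro w
      obtain ⟨v, hv⟩ := MulAction.exists_smul_eq V ω ((w : G) • ω)
      exact ⟨v⁻¹, hregW _ _ (by show (f v⁻¹ : G) • ω = _; rw [hf, Subgroup.coe_inv, inv_inv]; exact hv)⟩
  let eW : V ≃* W := MulEquiv.ofBijective φ hφ
  have hd : V ⊓ W = ⊥ := (hVmin (V ⊓ W) inferInstance inf_le_left).resolve_right fun h =>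
    hab V hVO ⟨⟨fun a b => Subtype.ext (Subgroup.mem_centralizer_iff.1 (hWC ((h ▸ inf_le_right : V ≤ W) b.2)) a a.2)⟩⟩
  have hcomm' : ∀ (v : V) (w : W), Commute (V.subtype v) (W.subtype w) := hcomm
  let g : V × W →* G := MonoidHom.noncommCoprod V.subtype W.subtype hcomm'
  have hg : Function.Injective g := by
    simp only [g]
    rw [MonoidHom.noncommCoprod_injective]
    refine ⟨V.subtype_injective, W.subtype_injective, ?_⟩
    rw [Subgroup.range_subtype, Subgroup.range_subtype, disjoint_iff]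
    exact hd
  have hr : g.range = N := by
    simp only [g]
    rw [hNVW, MonoidHom.noncommCoprod_range, Subgroup.range_subtype, Subgroup.range_subtype]
  let P : (Fin m → T) × (Fin m → T) ≃* (Fin (m + m) → T) :=
    { toFun := fun x => Fin.append x.1 x.2
      invFun := fun h => (fun i => h (Fin.castAdd m i), fun i => h (Fin.natAdd m i))
      left_inv := fun x => Prod.ext (funext fun i => Fin.append_left x.1 x.2 i) (funext fun i => Fin.append_right x.1 x.2 i)
      right_inv := fun h => by
        funext i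
        induction i using Fin.addCases with
        | left i => exact Fin.append_left _ _ i
        | right i => exact Fin.append_right _ _ i
      map_mul' := fun x y => by
        funext i
        induction i using Fin.addCases with
        | left i => simp only [Pi.mul_apply, Fin.append_left, Prod.fst_mul]
        | right i => simp only [Pi.mul_apply, Fin.append_right, Prod.snd_mul] }
  exact ⟨T, hTg, m + m, by omega, hTs, hTnc, ⟨(((MulEquiv.subgroupCongr hr.symm).trans (MonoidHom.ofInjective hg).symm).trans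
    (eV.prodCongr (eW.symm.trans eV))).trans P⟩⟩

end Cfsg.Agent.S3680
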