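import Cfsg.Statements.S3681
import Mathlib
import Cfsg.Agent.Lib.Lie.JordanAlt
-- import your own Cfsg.Agent.* helpers here

set_option autoImplicit false
open Cfsg

namespace Cfsg.Agent.S3681

/-- Bochert's bound for primitive groups. Let a finite group G act faithfully and primitively on a finite set Ω with n elements, and suppose the image of G in the symmetric group of Ω does not contain the alternating group of Ω. Then |G| · ⌊(n + 1)/2⌋! ≤ n!, that is, the index of G in the symmetric group is at least ⌊(n + 1)/2⌋!. -/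
theorem result {G Ω : Type*} [Group G] [Finite G] [MulAction G Ω] [FaithfulSMul G Ω] [Fintype Ω] [DecidableEq Ω]
    (hprim : MulAction.IsPreprimitive G Ω) (hA : ¬ alternatingGroup Ω ≤ (MulAction.toPermHom G Ω).range) :
    Nat.card G * Nat.factorial ((Fintype.card Ω + 1) / 2) ≤ Nat.factorial (Fintype.card Ω) := by
  classical
  let φ := MulAction.toPermHom G Ω
  let IsBase : Finset Ω → Prop := fun s => ∀ g : G, (∀ z ∈ s, g • z = z) → g = 1
  have huniv : IsBase Finset.univ := fun g hg => by
    refine eq_of_smul_eq_smul (α := Ω) fun z => ?_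
    rw [hg z (Finset.mem_univ z), one_smul]
  obtain ⟨D, hD, hmin⟩ := (Finset.univ.filter IsBase : Finset (Finset Ω)).exists_min_image Finset.card
    ⟨Finset.univ, by simpa using huniv⟩
  rw [Finset.mem_filter] at hD
  have hnot : ∀ s : Finset Ω, s.card < D.card → ∃ g : G, (∀ z ∈ s, g • z = z) ∧ g ≠ 1 := by
    intro s hs
    by_contra hcon
    push Not at hcon
    have := hmin s (by simpa using hcon)
    omega
  have hsmall : 2 * D.card ≤ Fintype.card Ω := by
    by_contra hbig
    obtain ⟨h, hh, hh1⟩ := hnot Dᶜ (by rw [Finset.card_compl]; omega)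
    obtain ⟨x, hxh⟩ : ∃ x, h • x ≠ x := by
      by_contra hcon
      push Not at hcon
      exact hh1 (eq_of_smul_eq_smul (α := Ω) fun z => by rw [hcon z, one_smul])
    have hxD : x ∈ D := not_not.1 fun hx => hxh (hh x (Finset.mem_compl.2 hx))
    obtain ⟨g, hg, hg1⟩ := hnot (D.erase x) (Finset.card_erase_lt_of_mem hxD)
    have hgx : g • x ≠ x := fun hgx => hg1 (hD.2 g fun z hz => by
      by_cases hzx : z = x
      · rw [hzx]; exact hgx
      · exact hg z (Finset.mem_erase.2 ⟨hzx, hz⟩))
    have h3 : ((φ g) * (φ h) * (φ g)⁻¹ * (φ h)⁻¹).IsThreeCycle := by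
      refine Cfsg.Agent.Lie.JordanAlt.isThreeCycle_commutator _ _ (p := x) hgx hxh fun z hzg hzh => ?_
      by_contra hzx
      have hzD : z ∈ D := not_not.1 fun hz => hzh (hh z (Finset.mem_compl.2 hz))
      exact hzg (hg z (Finset.mem_erase.2 ⟨hzx, hzD⟩))
    refine hA (Equiv.Perm.alternatingGroup_le_of_isPreprimitive_of_isThreeCycle_mem ?_ h3 ⟨g * h * g⁻¹ * h⁻¹, show φ (g * h * g⁻¹ * h⁻¹) = _ by rw [map_mul, map_mul, map_mul, map_inv, map_inv]⟩)
    haveI := hprim
    let f : Ω →ₑ[φ.rangeRestrict] Ω := ⟨id, fun g a => rfl⟩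
    exact MulAction.IsPreprimitive.of_surjective (f := f) Function.surjective_id
  let P := {z : Ω // z ∉ D}
  let F : G × Equiv.Perm P → Equiv.Perm Ω := fun p => φ p.1 * Equiv.Perm.ofSubtype p.2
  have hF : Function.Injective F := by
    rintro ⟨a, s⟩ ⟨b, t⟩ e
    have e' : φ (b⁻¹ * a) = Equiv.Perm.ofSubtype t * (Equiv.Perm.ofSubtype s)⁻¹ := by
      rw [map_mul, map_inv, inv_mul_eq_iff_eq_mul, ← mul_assoc, eq_mul_inv_iff_mul_eq]
      exact e
    have hab : b⁻¹ * a = 1 := hD.2 _ fun z hz => by
      show φ (b⁻¹ * a) z = z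
      rw [e', ← map_inv, ← map_mul, Equiv.Perm.ofSubtype_apply_of_not_mem]
      exact fun h => h hz
    have hab' : a = b := (inv_mul_eq_one.1 hab).symm
    subst hab'
    exact Prod.ext rfl (Equiv.Perm.ofSubtype_injective (mul_left_cancel e))
  have hcount := Nat.card_le_card_of_injective F hF
  rw [Nat.card_prod, Nat.card_perm, Nat.card_perm, Nat.card_eq_fintype_card (α := P),
    Fintype.card_subtype_compl, Fintype.card_coe, Nat.card_eq_fintype_card (α := Ω)] at hcount
  exact le_trans (Nat.mul_le_mul_left _ (Nat.factorial_le (by omega))) hcount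

end Cfsg.Agent.S3681
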