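import Cfsg.Statements.S3683
import Cfsg.Agent.Lib.Perm.Primitive
-- import your own Cfsg.Agent.* helpers here

set_option autoImplicit false
open Cfsg

namespace Cfsg.Agent.S3683

/-- Let a finite group G act faithfully and primitively on a set Ω, and suppose the stabilizer of a point a fixes a second point b ≠ a (a suborbit of length 1 other than {a}). Then the stabilizer of a is trivial and G is cyclic of prime order. -/
theorem result {G Ω : Type*} [Group G] [Finite G] [MulAction G Ω] [FaithfulSMul G Ω] [Finite Ω]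
    (hprim : MulAction.IsPreprimitive G Ω) (a b : Ω) (hab : a ≠ b) (hfix : ∀ g : G, g • a = a → g • b = b) :
    MulAction.stabilizer G a = ⊥ ∧ IsCyclic G ∧ (Nat.card G).Prime := by
  have : Nontrivial Ω := ⟨a, b, hab⟩
  have hco := MulAction.IsPreprimitive.isCoatom_stabilizer_of_isPreprimitive G a
  obtain ⟨g, hg⟩ := MulAction.exists_smul_eq G a b
  have hle : MulAction.stabilizer G a ≤ MulAction.stabilizer G b := fun h hh => hfix h hh
  have heq : MulAction.stabilizer G a = MulAction.stabilizer G b := by
    refine Subgroup.eq_of_le_of_card_ge hle (le_of_eq ?_)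
    exact (Nat.card_congr (MulAction.stabilizerEquivStabilizer hg.symm).toEquiv).symm
  have hconj : ∀ h : G, h ∈ MulAction.stabilizer G a ↔ g * h * g⁻¹ ∈ MulAction.stabilizer G a := by
    intro h
    conv_rhs => rw [heq, ← hg, MulAction.mem_stabilizer_iff, mul_smul, mul_smul, inv_smul_smul,
      smul_left_cancel_iff]
    rfl
  have hN : Subgroup.normalizer ((MulAction.stabilizer G a : Subgroup G) : Set G) = ⊤ := by
    refine (hco.2 _ (lt_of_le_of_ne Subgroup.le_normalizer fun h => ?_))
    have : g ∈ MulAction.stabilizer G a := by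
      rw [h, Subgroup.mem_set_normalizer_iff]; exact hconj
    exact hab (((MulAction.mem_stabilizer_iff).1 this).symm.trans hg)
  have hnorm : (MulAction.stabilizer G a).Normal := Subgroup.normalizer_eq_top_iff.1 hN
  have hbot : MulAction.stabilizer G a = ⊥ := by
    by_contra hne
    have := Cfsg.Agent.Perm.normal_isPretransitive (Ω := Ω) (MulAction.stabilizer G a) hne
    obtain ⟨⟨h, hh⟩, hh'⟩ := MulAction.exists_smul_eq (MulAction.stabilizer G a) a b
    exact hab ((MulAction.mem_stabilizer_iff.1 hh).symm.trans hh')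
  refine ⟨hbot, ?_⟩
  have hg1 : g ≠ 1 := fun h => hab (by rw [← hg, h, one_smul])
  have : Nontrivial G := ⟨g, 1, hg1⟩
  obtain ⟨p, hp, hpd⟩ := Nat.exists_prime_and_dvd (Finite.one_lt_card (α := G)).ne'
  have : Fact p.Prime := ⟨hp⟩
  obtain ⟨x, hx⟩ := exists_prime_orderOf_dvd_card' p hpd
  have htop : Subgroup.zpowers x = ⊤ := by
    rw [hbot] at hco
    refine hco.2 _ (bot_lt_iff_ne_bot.2 ?_)
    rw [Subgroup.zpowers_ne_bot]
    intro h
    rw [h, orderOf_one] at hx
    exact hp.one_lt.ne hx
  refine ⟨⟨⟨x, fun y => (Subgroup.eq_top_iff' _).1 htop y⟩⟩, ?_⟩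
  rw [← Nat.card_congr (Equiv.subtypeUnivEquiv fun y => (Subgroup.eq_top_iff' _).1 htop y),
    Nat.card_zpowers, hx]
  exact hp

end Cfsg.Agent.S3683
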