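import Cfsg.Statements.S3684
import Cfsg.Agent.Lib.Perm.Primitive
import Cfsg.Agent.Lib.Fusion.Dihedral
-- import your own Cfsg.Agent.* helpers here

set_option autoImplicit false
open Cfsg

namespace Cfsg.Agent.S3684

/-- Let a finite group G act faithfully and primitively on a set Ω, and suppose the stabilizer of a point a has an orbit of length 2. Then the stabilizer of a has order 2 and G is isomorphic to the dihedral group of order 2p for some prime p. -/
theorem result {G Ω : Type*} [Group G] [Finite G] [MulAction G Ω] [FaithfulSMul G Ω] [Finite Ω]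
    (hprim : MulAction.IsPreprimitive G Ω) (a b : Ω) (h2 : Nat.card (MulAction.orbit (MulAction.stabilizer G a) b) = 2) :
    Nat.card (MulAction.stabilizer G a) = 2 ∧ ∃ p : ℕ, p.Prime ∧ Nonempty (G ≃* DihedralGroup p) := by
  have hab : a ≠ b := by
    rintro rfl
    have : MulAction.orbit (MulAction.stabilizer G a) a = {a} := by
      ext x
      constructor
      · rintro ⟨⟨h, hh⟩, rfl⟩; exact hh
      · rintro rfl; exact MulAction.mem_orbit_self _
    rw [this, Nat.card_coe_set_eq, Set.ncard_singleton] at h2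
    omega
  have : Nontrivial Ω := ⟨a, b, hab⟩
  have hcoa := MulAction.IsPreprimitive.isCoatom_stabilizer_of_isPreprimitive G a
  set A := MulAction.stabilizer G a with hA
  set B := MulAction.stabilizer G b with hB
  obtain ⟨g, hg⟩ := MulAction.exists_smul_eq G a b
  have hAB : Nat.card A = Nat.card B := by
    rw [hA, hB]
    exact Nat.card_congr (MulAction.stabilizerEquivStabilizer hg.symm).toEquiv
  have hidx : (B.subgroupOf A).index = 2 := by
    have e : MulAction.stabilizer A b = B.subgroupOf A := rfl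
    rw [← e, MulAction.index_stabilizer, ← h2]
    rfl
  have hidx' : (A.subgroupOf B).index = 2 := by
    have e1 := (B.subgroupOf A).card_mul_index
    have e2 := (A.subgroupOf B).card_mul_index
    have i1 : Nat.card (B.subgroupOf A) = Nat.card ↥(B ⊓ A) := by
      rw [← Subgroup.inf_subgroupOf_right, Nat.card_congr (Subgroup.subgroupOfEquivOfLe inf_le_right).toEquiv]
    have i2 : Nat.card (A.subgroupOf B) = Nat.card ↥(B ⊓ A) := by
      rw [← Subgroup.inf_subgroupOf_right, Nat.card_congr (Subgroup.subgroupOfEquivOfLe inf_le_right).toEquiv, inf_comm]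
    rw [hidx, i1, hAB, ← e2, i2] at e1
    exact (Nat.eq_of_mul_eq_mul_left Nat.card_pos e1).symm
  have hnorm : ∀ X Y : Subgroup G, (Y.subgroupOf X).index = 2 →
      X ≤ Subgroup.normalizer ((Y ⊓ X : Subgroup G) : Set G) := by
    intro X Y h x hx
    have hn := Subgroup.normal_of_index_eq_two h
    rw [Subgroup.mem_set_normalizer_iff]
    intro y
    constructor
    · rintro ⟨hyY, hyX⟩
      exact ⟨hn.conj_mem ⟨y, hyX⟩ hyY ⟨x, hx⟩, X.mul_mem (X.mul_mem hx hyX) (X.inv_mem hx)⟩
    · rintro ⟨hyY, hyX⟩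
      have hyX' : y ∈ X := by
        have := X.mul_mem (X.mul_mem (X.inv_mem hx) hyX) hx
        simpa [mul_assoc] using this
      refine ⟨?_, hyX'⟩
      have := hn.conj_mem ⟨_, hyX⟩ hyY ⟨x⁻¹, X.inv_mem hx⟩
      simpa [Subgroup.mem_subgroupOf, mul_assoc] using this
  have hN1 := hnorm A B hidx
  have hN2 := hnorm B A hidx'
  rw [inf_comm] at hN2
  have hne : A ≠ B := by
    intro h
    rw [h, Subgroup.subgroupOf_self, Subgroup.index_top] at hidx
    omega
  have htop : A ⊔ B = ⊤ := by
    refine hcoa.2 _ (lt_of_le_of_ne le_sup_left fun h => ?_)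
    have hle : B ≤ A := by rw [h]; exact le_sup_right
    exact hne (Subgroup.eq_of_le_of_card_ge hle hAB.le).symm
  have hKn : (B ⊓ A).Normal := Subgroup.normalizer_eq_top_iff.1 (by
    rw [eq_top_iff, ← htop]; exact sup_le hN1 hN2)
  have hK : B ⊓ A = ⊥ := by
    by_contra h
    have := Cfsg.Agent.Perm.normal_isPretransitive (Ω := Ω) (B ⊓ A) h
    obtain ⟨⟨t, ht⟩, ht'⟩ := MulAction.exists_smul_eq ↥(B ⊓ A) a b
    exact hab ((MulAction.mem_stabilizer_iff.1 ht.2).symm.trans ht')
  have hcA : Nat.card A = 2 := by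
    have e1 := (B.subgroupOf A).card_mul_index
    rw [hidx, ← Subgroup.inf_subgroupOf_right,
      Nat.card_congr (Subgroup.subgroupOfEquivOfLe inf_le_right).toEquiv, hK, Subgroup.card_bot] at e1
    omega
  refine ⟨hcA, ?_⟩
  obtain ⟨x, hxA, hx1⟩ := (Subgroup.bot_or_exists_ne_one A).resolve_left fun h => by
    rw [h, Subgroup.card_bot] at hcA; omega
  obtain ⟨y, hyB, hy1⟩ := (Subgroup.bot_or_exists_ne_one B).resolve_left fun h => by
    rw [hAB, h, Subgroup.card_bot] at hcA; omega
  have hsq : ∀ (X : Subgroup G), Nat.card X = 2 → ∀ z ∈ X, z ≠ 1 → orderOf z = 2 ∧ ∀ w ∈ X, w = 1 ∨ w = z := by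
    intro X hX z hz hz1
    have : Fact (Nat.Prime 2) := ⟨Nat.prime_two⟩
    constructor
    · refine orderOf_eq_prime ?_ hz1
      have := pow_card_eq_one' (x := (⟨z, hz⟩ : X))
      rw [hX] at this
      exact congrArg Subtype.val this
    · intro w hw
      by_contra hc
      push Not at hc
      have hsub : ({⟨1, X.one_mem⟩, ⟨z, hz⟩, ⟨w, hw⟩} : Set X).ncard ≤ Nat.card X := by
        rw [← Set.ncard_univ]
        exact Set.ncard_le_ncard (Set.subset_univ _)
      rw [hX, Set.ncard_insert_of_notMem (by simp [hz1.symm, hc.1.symm]),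
        Set.ncard_pair (by simp [Ne.symm hc.2])] at hsub
      omega
  obtain ⟨hx2, hxu⟩ := hsq A hcA x hxA hx1
  obtain ⟨hy2, hyu⟩ := hsq B (hAB ▸ hcA) y hyB hy1
  have hxy : x ≠ y := by
    rintro rfl
    have : x ∈ B ⊓ A := ⟨hyB, hxA⟩
    rw [hK, Subgroup.mem_bot] at this
    exact hx1 this
  have hgen : Subgroup.closure ({x, y} : Set G) = ⊤ := by
    rw [eq_top_iff, ← htop]
    refine sup_le (fun w hw => ?_) (fun w hw => ?_)
    · rcases hxu w hw with rfl | rfl
      · exact Subgroup.one_mem _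
      · exact Subgroup.subset_closure (by simp)
    · rcases hyu w hw with rfl | rfl
      · exact Subgroup.one_mem _
      · exact Subgroup.subset_closure (by simp)
  obtain ⟨e⟩ := Cfsg.Agent.Fusion.closure_pair_equiv_dihedral hx2 hy2 hxy
  rw [hgen] at e
  have e' : G ≃* DihedralGroup (orderOf (x * y)) := Subgroup.topEquiv.symm.trans e
  refine ⟨orderOf (x * y), ?_, ⟨e'⟩⟩
  set r := x * y with hr
  have hcardG : Nat.card G = 2 * orderOf r := by
    rw [Nat.card_congr e'.toEquiv, DihedralGroup.nat_card]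
  have hn : Nat.card Ω = orderOf r := by
    have := A.card_mul_index
    rw [MulAction.index_stabilizer_of_transitive, hcA, hcardG] at this
    omega
  have hxx : x * x = 1 := by rw [← pow_two, ← hx2, pow_orderOf_eq_one]
  have hyy : y * y = 1 := by rw [← pow_two, ← hy2, pow_orderOf_eq_one]
  have hinv : ∀ (t : G), t = x ∨ t = y → t * r * t⁻¹ = r⁻¹ := by
    rintro t (rfl | rfl)
    · rw [inv_eq_of_mul_eq_one_right hxx, hr, mul_inv_rev, inv_eq_of_mul_eq_one_right hxx,
        inv_eq_of_mul_eq_one_right hyy, ← mul_assoc, hxx, one_mul]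
    · rw [inv_eq_of_mul_eq_one_right hyy, hr, mul_inv_rev, inv_eq_of_mul_eq_one_right hxx,
        inv_eq_of_mul_eq_one_right hyy, mul_assoc, mul_assoc, hyy, mul_one]
  have hnt : orderOf r ≠ 1 := fun h => hxy (by
    rw [orderOf_eq_one_iff, hr, mul_eq_one_iff_eq_inv, inv_eq_of_mul_eq_one_right hyy] at h
    exact h)
  obtain ⟨q, hq, hqd⟩ := Nat.exists_prime_and_dvd hnt
  have hD : (Subgroup.zpowers (r ^ (orderOf r / q))).Normal := by
    refine Subgroup.normalizer_eq_top_iff.1 ?_
    rw [eq_top_iff, ← hgen, Subgroup.closure_le]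
    intro t ht
    rw [SetLike.mem_coe, Subgroup.mem_set_normalizer_iff]
    intro w
    have key : ∀ j : ℤ, t * (r ^ (orderOf r / q)) ^ j * t⁻¹ = (r ^ (orderOf r / q)) ^ (-j) := by
      intro j
      rw [← MulAut.conj_apply, map_zpow, map_pow, MulAut.conj_apply,
        hinv t (by simpa using ht), inv_pow, inv_zpow, zpow_neg]
    constructor
    · rintro ⟨j, rfl⟩
      exact ⟨-j, (key j).symm⟩
    · rintro ⟨j, hj⟩
      refine ⟨-j, (MulAut.conj t).injective ?_⟩
      show t * (r ^ (orderOf r / q)) ^ (-j) * t⁻¹ = t * w * t⁻¹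
      rw [key, neg_neg]
      exact hj
  have hD1 : Subgroup.zpowers (r ^ (orderOf r / q)) ≠ ⊥ := by
    rw [Subgroup.zpowers_ne_bot]
    intro h
    rw [← orderOf_eq_one_iff, orderOf_pow_orderOf_div (orderOf_pos r).ne' hqd] at h
    exact hq.one_lt.ne' h
  have := Cfsg.Agent.Perm.normal_isPretransitive (Ω := Ω) _ hD1
  have hdvd : Nat.card Ω ∣ q := by
    rw [← MulAction.index_stabilizer_of_transitive ↥(Subgroup.zpowers (r ^ (orderOf r / q))) a]
    refine (Subgroup.index_dvd_card _).trans (dvd_of_eq ?_)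
    rw [Nat.card_zpowers, orderOf_pow_orderOf_div (orderOf_pos r).ne' hqd]
  rw [hn] at hdvd
  rw [(Nat.dvd_prime hq).1 hdvd |>.resolve_left hnt]
  exact hq

end Cfsg.Agent.S3684
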