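import Cfsg.Statements.S3702
import Cfsg.Agent.Lib.Solv.Special.Embed648
-- import your own Cfsg.Agent.* helpers here

set_option autoImplicit false
open Cfsg

namespace Cfsg.Agent.S3702

/-- Let K ≤ Sym(9) be generated by (1 2 3), (1 4 7)(2 5 8)(3 6 9), (1 2)(4 5) and (1 4)(2 5)(3 6)(7 8) (the normalizer in Alt(9) of the elementary abelian group generated by (1 2 3), (4 5 6), (7 8 9)). Let G be a finite group with a subgroup H ≅ K and J = O₃(H). If C_G(j) ≤ H for every j ≠ 1 in J and J is strongly closed in H with respect to G (a G-conjugate of an element of J lying in H lies in J), then G = H. -/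
theorem result {G : Type*} [Group G] [Finite G] (H : Subgroup G)
    (hH : Nonempty (↥H ≃* ↥(Subgroup.closure ({Equiv.swap (0 : Fin 9) 1 * Equiv.swap 1 2,
        Equiv.swap (0 : Fin 9) 3 * Equiv.swap 3 6 * (Equiv.swap (1 : Fin 9) 4 * Equiv.swap 4 7) * (Equiv.swap (2 : Fin 9) 5 * Equiv.swap 5 8),
        Equiv.swap (0 : Fin 9) 1 * Equiv.swap 3 4, Equiv.swap (0 : Fin 9) 3 * Equiv.swap 1 4 * Equiv.swap 2 5 * Equiv.swap 6 7} : Set (Equiv.Perm (Fin 9))))))
    (J : Subgroup G) (hJ : J = (Cfsg.pCore 3 ↥H).map H.subtype)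
    (hC : ∀ j ∈ J, j ≠ 1 → Subgroup.centralizer ({j} : Set G) ≤ H) (hsc : Cfsg.IsStronglyClosed J H) : H = ⊤ := by
  classical
  obtain ⟨ψ⟩ := hH
  have key : (⊤ : Subgroup Cfsg.Agent.Solv.Special.W648.M648).map Cfsg.Agent.Solv.Special.W648.emb9 =
      Subgroup.closure ({Equiv.swap (0 : Fin 9) 1 * Equiv.swap 1 2,
        Equiv.swap (0 : Fin 9) 3 * Equiv.swap 3 6 * (Equiv.swap (1 : Fin 9) 4 * Equiv.swap 4 7) * (Equiv.swap (2 : Fin 9) 5 * Equiv.swap 5 8),
        Equiv.swap (0 : Fin 9) 1 * Equiv.swap 3 4, Equiv.swap (0 : Fin 9) 3 * Equiv.swap 1 4 * Equiv.swap 2 5 * Equiv.swap 6 7} : Set (Equiv.Perm (Fin 9))) := by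
    rw [← Cfsg.Agent.Solv.Special.W648.closure_eq, MonoidHom.map_closure]
    simp only [Set.image_insert_eq, Set.image_singleton]
    rw [show Cfsg.Agent.Solv.Special.W648.emb9 Cfsg.Agent.Solv.Special.W648.gA =
          Equiv.swap (0 : Fin 9) 1 * Equiv.swap 1 2 by decide +kernel,
      show Cfsg.Agent.Solv.Special.W648.emb9 Cfsg.Agent.Solv.Special.W648.gB =
          Equiv.swap (0 : Fin 9) 3 * Equiv.swap 3 6 * (Equiv.swap (1 : Fin 9) 4 * Equiv.swap 4 7) * (Equiv.swap (2 : Fin 9) 5 * Equiv.swap 5 8) by decide +kernel,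
      show Cfsg.Agent.Solv.Special.W648.emb9 Cfsg.Agent.Solv.Special.W648.gC =
          Equiv.swap (0 : Fin 9) 1 * Equiv.swap 3 4 by decide +kernel,
      show Cfsg.Agent.Solv.Special.W648.emb9 Cfsg.Agent.Solv.Special.W648.gD =
          Equiv.swap (0 : Fin 9) 3 * Equiv.swap 1 4 * Equiv.swap 2 5 * Equiv.swap 6 7 by decide +kernel]
  let e := ψ.trans ((MulEquiv.subgroupCongr key.symm).trans
    (((⊤ : Subgroup Cfsg.Agent.Solv.Special.W648.M648).equivMapOfInjective _
      Cfsg.Agent.Solv.Special.W648.emb9_inj).symm.trans Subgroup.topEquiv))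
  subst hJ
  refine Cfsg.Agent.Solv.Special.W648.Emb.eq_top (e := e)
    ⟨Subgroup.map_subtype_le _, fun x => ?_, hC⟩
  rw [← Cfsg.Agent.Solv.Special.W648.mem_core e x]
  exact Subgroup.mem_map_iff_mem H.subtype_injective

end Cfsg.Agent.S3702
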