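import Cfsg.Statements.S3703
import Mathlib
import Cfsg.Agent.Lib.Solv.Frobenius
import Cfsg.Agent.Lib.Solv.HallHigman
import Cfsg.Agent.Lib.Solv.Cores
import Cfsg.Agent.Lib.Solv.Coprime
open scoped Pointwise commutatorElement IsMulCommutative
-- import your own Cfsg.Agent.* helpers here

set_option autoImplicit false
open Cfsg

namespace Cfsg.Agent.S3703

/-- Let N be a normal subgroup of the finite group G such that G/N is a Frobenius group with kernel F and cyclic complement H, where the order of F is coprime to that of N and F is not contained in the image of C_G(N) in G/N. Then G has an element of order p·#H for some prime p dividing the order of N. (A standard tool in recognising groups by their element orders.) -/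
theorem result {G : Type*} [Group G] [Finite G] (N : Subgroup G) [N.Normal]
    (Fb Hb : Subgroup (G ⧸ N)) [Fb.Normal] (hHb : Cfsg.IsFrobeniusComplement Hb) (hker : Cfsg.frobeniusKernel Hb = (Fb : Set (G ⧸ N)))
    (hcyc : IsCyclic Hb) (hcop : (Nat.card Fb).Coprime (Nat.card N))
    (hnot : ¬ Fb ≤ (Subgroup.centralizer (N : Set G)).map (QuotientGroup.mk' N)) :
    ∃ p : ℕ, p.Prime ∧ p ∣ Nat.card N ∧ ∃ g : G, orderOf g = p * Nat.card Hb := by
  classical
  obtain ⟨h, hh⟩ := hcyc.exists_generator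
  set π := QuotientGroup.mk' N with hπ
  set n := Nat.card Hb with hn
  have hord : orderOf (h : G ⧸ N) = n := by
    rw [Subgroup.orderOf_coe, ← Nat.card_zpowers,
      (Subgroup.eq_top_iff' _).2 hh, Subgroup.card_top]
  by_cases hex : ∃ g : G, (∃ c : G ⧸ N, π g = c * h * c⁻¹) ∧ g ^ n ≠ 1
  · obtain ⟨g, ⟨c, hc⟩, hg⟩ := hex
    have ho : orderOf (π g) = n := by
      rw [hc, ← hord]; exact orderOf_injective (MulAut.conj c).toMonoidHom (MulAut.conj c).injective _
    have hd : n ∣ orderOf g := ho ▸ orderOf_map_dvd π g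
    obtain ⟨k, hk⟩ := hd
    have hk1 : k ≠ 1 := by
      rintro rfl
      exact hg (orderOf_dvd_iff_pow_eq_one.1 (by rw [hk, mul_one]))
    obtain ⟨p, hp, hpk⟩ := Nat.exists_prime_and_dvd hk1
    refine ⟨p, hp, ?_, ?_⟩
    · have hmem : g ^ n ∈ N := by
        rw [← QuotientGroup.eq_one_iff, QuotientGroup.mk_pow, ← QuotientGroup.mk'_apply, ← hπ, ← ho,
          pow_orderOf_eq_one]
      have h2 := Subgroup.orderOf_dvd_natCard N hmem
      rw [orderOf_pow' _ (Nat.card_pos (α := Hb)).ne', hk, Nat.gcd_eq_right (dvd_mul_right _ _),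
        Nat.mul_div_cancel_left _ (Nat.card_pos (α := Hb))] at h2
      exact hpk.trans h2
    · exact ⟨g ^ (orderOf g / (p * n)), orderOf_pow_orderOf_div (orderOf_pos g).ne'
        (by rw [hk, mul_comm p]; exact mul_dvd_mul_left n hpk)⟩
  push Not at hex
  exfalso
  apply hnot
  obtain ⟨K, hKset, -, hKc⟩ := Cfsg.Agent.Solv.frobenius_theorem hHb
  have hKF : K = Fb := SetLike.coe_injective (hKset.trans hker)
  rw [hKF] at hKc
  set M : Subgroup G := Fb.comap π with hM
  have hNM : N ≤ M := fun x hx => by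
    show π x ∈ Fb
    rw [show π x = 1 from (QuotientGroup.eq_one_iff x).2 hx]; exact one_mem _
  -- conjugates of the generator are exactly the elements of the coset
  have hcoset : ∀ f ∈ Fb, ∃ c : G ⧸ N, f * h = c * h * c⁻¹ := by
    intro f hf
    by_cases hh1 : (h : G ⧸ N) = 1
    · exfalso
      apply hHb.1
      rw [← Subgroup.card_eq_one, ← hn, ← hord, hh1, orderOf_one]
    have hnk : f * h ∉ (Fb : Set (G ⧸ N)) := fun hc => hh1 (by
      have h1 : (h : G ⧸ N) ∈ Fb := by
        have := Fb.mul_mem (Fb.inv_mem hf) hc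
        rwa [inv_mul_cancel_left] at this
      exact Subgroup.mem_bot.1 (hKc.disjoint.le_bot ⟨h1, h.2⟩))
    rw [← hker] at hnk
    simp only [Cfsg.frobeniusKernel, Set.mem_setOf_eq, not_or, not_forall, not_not] at hnk
    obtain ⟨-, c, hc⟩ := hnk
    obtain ⟨k, hk, hkeq⟩ := hc
    replace hkeq : c * k * c⁻¹ = f * h := hkeq
    refine ⟨c, ?_⟩
    suffices e : k = h by rw [← hkeq, e]
    obtain ⟨⟨c₁, c₂⟩, hc12⟩ := hKc.2 c
    replace hc12 : (c₁ : G ⧸ N) * c₂ = c := hc12
    have hcom : (c₂ : G ⧸ N) * k = k * c₂ := by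
      haveI := hcyc
      exact congrArg Subtype.val (mul_comm' c₂ (⟨k, hk⟩ : Hb))
    have h1 : (k : G ⧸ N) * ((h : G ⧸ N))⁻¹ ∈ Fb := by
      have e1 : (c₁ : G ⧸ N) * k * (c₁ : G ⧸ N)⁻¹ = f * h := by
        rw [← hkeq, ← hc12, show (c₁ : G ⧸ N) * c₂ * k * ((c₁ : G ⧸ N) * c₂)⁻¹ =
          c₁ * (c₂ * k) * (c₂ : G ⧸ N)⁻¹ * (c₁ : G ⧸ N)⁻¹ by group, hcom]
        group
      have e2 : k * (h : G ⧸ N)⁻¹ = (c₁ : G ⧸ N)⁻¹ * f * ((h : G ⧸ N) * c₁ * (h : G ⧸ N)⁻¹) := by
        rw [show k = (c₁ : G ⧸ N)⁻¹ * (c₁ * k * (c₁ : G ⧸ N)⁻¹) * c₁ by group, e1]; group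
      rw [e2]
      exact Fb.mul_mem (Fb.mul_mem (Fb.inv_mem c₁.2) hf)
        ((inferInstance : Fb.Normal).conj_mem _ c₁.2 _)
    have h2 : (k : G ⧸ N) * ((h : G ⧸ N))⁻¹ ∈ Hb := mul_mem hk (inv_mem h.2)
    exact mul_inv_eq_one.1 (Subgroup.mem_bot.1 (hKc.disjoint.le_bot ⟨h1, h2⟩))
  have hfix : ∀ c : G ⧸ N, ∀ i : ℕ, ¬ n ∣ i → ∀ f ∈ Fb, Commute f ((c * h * c⁻¹) ^ i) → f = 1 := by
    intro c i hi f hf hcomm
    set f' := c⁻¹ * f * c with hf'
    have hf'F : f' ∈ Fb := by
      have := (inferInstance : Fb.Normal).conj_mem _ hf c⁻¹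
      rwa [inv_inv] at this
    have hc' : f' * (h : G ⧸ N) ^ i * f'⁻¹ = (h : G ⧸ N) ^ i := by
      rw [conj_pow] at hcomm
      have h1 : f * (c * (h : G ⧸ N) ^ i * c⁻¹) * f⁻¹ = c * (h : G ⧸ N) ^ i * c⁻¹ := by
        rw [hcomm.eq, mul_inv_cancel_right]
      rw [hf', show c⁻¹ * f * c * (h : G ⧸ N) ^ i * (c⁻¹ * f * c)⁻¹ =
        c⁻¹ * (f * (c * (h : G ⧸ N) ^ i * c⁻¹) * f⁻¹) * c by group, h1]
      group
    by_contra hf1
    have hnot' : f' ∉ Hb := fun hm => hf1 (by
      have h1 := Subgroup.mem_bot.1 (hKc.disjoint.le_bot ⟨hf'F, hm⟩)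
      rw [hf'] at h1
      calc f = c * (c⁻¹ * f * c) * c⁻¹ := by group
        _ = 1 := by rw [h1]; group)
    have h3 : (h : G ⧸ N) ^ i ∈ Hb ⊓ MulAut.conj f' • Hb :=
      ⟨pow_mem h.2 i, ⟨(h : G ⧸ N) ^ i, pow_mem h.2 i, hc'⟩⟩
    rw [hHb.2.2 f' hnot', Subgroup.mem_bot] at h3
    exact hi (hord ▸ orderOf_dvd_of_pow_eq_one h3)
  -- every Sylow subgroup of `M` of order prime to `N` centralises `N`
  have key : ∀ r : ℕ, ∀ [Fact r.Prime], ¬ r ∣ Nat.card N → ∀ R₀ : Sylow r M,
      (R₀ : Subgroup M).map M.subtype ≤ Subgroup.centralizer (N : Set G) := by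
    intro r _ hrN R₀
    have hr : r.Prime := Fact.out
    set R := (R₀ : Subgroup M).map M.subtype with hRdef
    have hRM : R ≤ M := Subgroup.map_subtype_le _
    have hRr : IsPGroup r R := R₀.2.map _
    obtain ⟨a, ha⟩ := hRr.exists_card_eq
    have hco : (Nat.card R).Coprime (Nat.card N) := by
      rw [ha]; exact Nat.Coprime.pow_left _ (hr.coprime_iff_not_dvd.2 hrN)
    have hRinf : R ⊓ N = ⊥ := Cfsg.Agent.Solv.coprime_inf hco
    haveI := hRr.isNilpotent
    have hRsol : Group.IsSolvable R ∨ Group.IsSolvable N := Or.inl inferInstance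
    intro f hf
    suffices htop : (Subgroup.centralizer ({f} : Set G)).subgroupOf N = ⊤ by
      rw [Subgroup.mem_centralizer_iff]
      intro y hy
      have h1 : y ∈ Subgroup.centralizer ({f} : Set G) := by
        have : (⟨y, hy⟩ : N) ∈ (Subgroup.centralizer ({f} : Set G)).subgroupOf N := by rw [htop]; trivial
        exact this
      exact Subgroup.mem_centralizer_singleton_iff.1 h1
    refine Cfsg.Agent.Solv.eq_top_of_forall_sylow_le _ fun p _ => ?_
    obtain ⟨P, hPsyl, hRP⟩ := Cfsg.Agent.Solv.exists_invariant_sylow (A := R) (K := N)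
      (by rw [Subgroup.normalizer_eq_top_iff.2 inferInstance]; exact le_top) hco hRsol p
    obtain ⟨P₀, hP₀⟩ := hPsyl.exists_sylow
    refine ⟨P₀, fun y hy => ?_⟩
    rw [Subgroup.mem_subgroupOf, Subgroup.mem_centralizer_singleton_iff]
    suffices hcent : f ∈ Subgroup.centralizer (P : Set G) from
      Subgroup.mem_centralizer_iff.1 hcent _ (hP₀ ▸ ⟨y, hy, rfl⟩)
    have hPp : IsPGroup p P := hPsyl.isPGroup
    by_cases hpN : p ∣ Nat.card N
    swap
    · have hPbot : P = ⊥ := by
        rw [← Subgroup.card_eq_one, hPsyl.2, Nat.factorization_eq_zero_of_not_dvd hpN, pow_zero]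
      rw [hPbot, Subgroup.mem_centralizer_iff]
      intro z hz
      rw [SetLike.mem_coe, Subgroup.mem_bot] at hz
      rw [hz, one_mul, mul_one]
    have hrp : r ≠ p := fun e => hrN (e ▸ hpN)
    -- an element of the coset normalising both `P` and `R`
    obtain ⟨x₀, hx₀⟩ := QuotientGroup.mk'_surjective N (h : G ⧸ N)
    obtain ⟨n₁, hn₁, hn₁P⟩ := (hPsyl.conj (g := x₀)
      (by rw [Subgroup.normalizer_eq_top_iff.2 inferInstance]; trivial)).exists_conj hPsyl
    rw [Cfsg.Agent.Solv.conj_smul_conj] at hn₁P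
    set x₁ := n₁ * x₀ with hx₁
    have hx₁P : x₁ ∈ Subgroup.normalizer (P : Set G) := Cfsg.Agent.Solv.mem_normalizer_of_conj_smul hn₁P
    have hMn : M.Normal := (inferInstance : Fb.Normal).comap π
    have hRS : Cfsg.Agent.Solv.IsSylIn r R (M ⊓ Subgroup.normalizer (P : Set G)) := by
      refine ⟨le_inf hRM hRP, ?_⟩
      have h1 := (Cfsg.Agent.Solv.IsSylIn.of_sylow R₀).2
      refine le_antisymm ?_ ?_
      · have h2 := Subgroup.card_dvd_of_le (le_inf hRM hRP)
        rw [ha] at h2 ⊢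
        exact Nat.pow_le_pow_right hr.pos ((hr.pow_dvd_iff_le_factorization Nat.card_pos.ne').1 h2)
      · rw [hRdef, h1]
        exact Nat.pow_le_pow_right hr.pos ((Nat.factorization_le_iff_dvd Nat.card_pos.ne' Nat.card_pos.ne').2
          (Subgroup.card_dvd_of_le inf_le_left) r)
    have hx₁n : x₁ ∈ Subgroup.normalizer ((M ⊓ Subgroup.normalizer (P : Set G) : Subgroup G) : Set G) := by
      refine Cfsg.Agent.Solv.mem_normalizer_of_conj_smul ?_
      rw [Subgroup.smul_inf, Cfsg.Agent.Solv.conj_smul_of_mem_normalizer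
        (show x₁ ∈ Subgroup.normalizer (M : Set G) by rw [Subgroup.normalizer_eq_top_iff.2 hMn]; trivial),
        Subgroup.conj_smul_eq_self_of_mem (Subgroup.le_normalizer (H := Subgroup.normalizer (P : Set G)) hx₁P |> fun _ => hx₁P)]
    obtain ⟨m, hm, hmR⟩ := (hRS.conj hx₁n).exists_conj hRS
    rw [Cfsg.Agent.Solv.conj_smul_conj] at hmR
    set x := m * x₁ with hx
    have hxP : x ∈ Subgroup.normalizer (P : Set G) := mul_mem hm.2 hx₁P
    have hxR : x ∈ Subgroup.normalizer (R : Set G) := Cfsg.Agent.Solv.mem_normalizer_of_conj_smul hmR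
    obtain ⟨c, hc⟩ : ∃ c, π x = c * h * c⁻¹ := by
      have e : π x = π m * h := by
        rw [hx, hx₁, map_mul, map_mul, hx₀, show π n₁ = 1 from (QuotientGroup.eq_one_iff n₁).2 hn₁, one_mul]
      obtain ⟨c, hc⟩ := hcoset (π m) hm.1
      exact ⟨c, e.trans hc⟩
    have hxn : x ^ n = 1 := hex x ⟨c, hc⟩
    have hxord : ∀ i : ℕ, ¬ n ∣ i → ∀ u ∈ R, Commute u (x ^ i) → u = 1 := by
      intro i hi u hu huc
      have h1 : π u = 1 := hfix c i hi (π u) (hRM hu) (by rw [← hc, ← map_pow]; exact huc.map π)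
      exact Subgroup.mem_bot.1 (hRinf.le ⟨hu, (QuotientGroup.eq_one_iff u).1 h1⟩)
    -- action on the Frattini quotient of `P`
    let V := P ⧸ frattini P
    have hPf : IsPGroup p P := hPp
    have hVcomm : ∀ a b : V, a * b = b * a := by
      intro a b
      obtain ⟨a, rfl⟩ := QuotientGroup.mk'_surjective _ a
      obtain ⟨b, rfl⟩ := QuotientGroup.mk'_surjective _ b
      rw [← commutatorElement_eq_one_iff_mul_comm, ← map_commutatorElement]
      exact (QuotientGroup.eq_one_iff _).2 (Cfsg.Agent.Solv.commutatorElement_mem_frattini hPf a b)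
    letI : CommGroup V := { (inferInstance : Group V) with mul_comm := hVcomm }
    let α : Subgroup.normalizer (P : Set G) → V →* V := fun g =>
      QuotientGroup.map (frattini P) (frattini P) (Subgroup.normalizerMonoidHom P g).toMonoidHom
        (by
          rw [← Subgroup.map_le_iff_le_comap,
            Subgroup.characteristic_iff_map_eq.1 (inferInstance : (frattini ↥P).Characteristic)])
    have hα : ∀ g (v : P), α g (QuotientGroup.mk v) =
        QuotientGroup.mk (Subgroup.normalizerMonoidHom P g v) := fun g v => rfl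
    have hαmul : ∀ g g' (v : V), α (g * g') v = α g (α g' v) := by
      intro g g' v
      obtain ⟨v, rfl⟩ := QuotientGroup.mk'_surjective _ v
      show α (g * g') (QuotientGroup.mk v) = α g (α g' (QuotientGroup.mk v))
      rw [hα, hα, hα, map_mul]
      rfl
    have hαone : ∀ v : V, α 1 v = v := by
      intro v
      obtain ⟨v, rfl⟩ := QuotientGroup.mk'_surjective _ v
      show α 1 (QuotientGroup.mk v) = _
      rw [hα, map_one]
      rfl
    let X : Subgroup.normalizer (P : Set G) := ⟨x, hxP⟩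
    have htrace : ∀ v : V, ∏ i ∈ Finset.range n, α (X ^ i) v = 1 := by
      intro v
      obtain ⟨w, rfl⟩ := QuotientGroup.mk'_surjective _ v
      have hprod : ∀ k : ℕ, ∃ hk : ((w : G) * x) ^ k * (x ^ k)⁻¹ ∈ P,
          ∏ i ∈ Finset.range k, α (X ^ i) (QuotientGroup.mk' (frattini P) w) =
            QuotientGroup.mk' (frattini P) ⟨_, hk⟩ := by
        intro k
        induction k with
        | zero =>
          refine ⟨by simp, ?_⟩
          rw [Finset.prod_range_zero, eq_comm]
          exact (congrArg _ (Subtype.ext (by simp))).trans (map_one _)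
        | succ k ih =>
          obtain ⟨hk, e⟩ := ih
          have hk' : x ^ k * w * (x ^ k)⁻¹ ∈ P :=
            ((Subgroup.mem_set_normalizer_iff.1 (pow_mem hxP k)) (w : G)).1 w.2
          have e' : ((w : G) * x) ^ (k + 1) * (x ^ (k + 1))⁻¹ =
              (((w : G) * x) ^ k * (x ^ k)⁻¹) * (x ^ k * w * (x ^ k)⁻¹) := by
            rw [pow_succ, pow_succ x]; group
          refine ⟨e' ▸ mul_mem hk hk', ?_⟩
          rw [Finset.prod_range_succ, e]
          show QuotientGroup.mk' (frattini P) ⟨_, hk⟩ * QuotientGroup.mk' (frattini P) _ = _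
          rw [← map_mul]
          refine congrArg _ (Subtype.ext ?_)
          exact e'.symm
      obtain ⟨hk, e⟩ := hprod n
      rw [e]
      refine (congrArg _ (Subtype.ext ?_)).trans (map_one _)
      show ((w : G) * x) ^ n * (x ^ n)⁻¹ = 1
      have h1 : ((w : G) * x) ^ n = 1 := hex _ ⟨c, by
        rw [map_mul, hc, show π (w : G) = 1 from (QuotientGroup.eq_one_iff _).2 (hPsyl.1 w.2), one_mul]⟩
      rw [h1, hxn, inv_one, mul_one]
    -- averaging over `R`
    letI : Fintype R := Fintype.ofFinite _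
    let inc : R →* Subgroup.normalizer (P : Set G) := Subgroup.inclusion hRP
    let S : V → V := fun v => ∏ u : R, α (inc u) v
    have hS : ∀ (u : R) (v : V), α (inc u) (S v) = S v := by
      intro u v
      show α (inc u) (∏ w : R, α (inc w) v) = _
      rw [map_prod]
      refine Fintype.prod_equiv (Equiv.mulLeft u) _ _ fun w => ?_
      rw [← hαmul, ← map_mul]; rfl
    have hshift : ∀ i : ℕ, ¬ n ∣ i → ∀ v : V,
        ∏ u : R, α (inc u * X ^ i * (inc u)⁻¹) v = S (α (X ^ i) v) := by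
      intro i hi v
      have hxi : ∀ u : R, x ^ i * ((u : G))⁻¹ * (x ^ i)⁻¹ ∈ R := fun u =>
        (Subgroup.mem_set_normalizer_iff.1 (pow_mem hxR i) _).1 (inv_mem u.2)
      let φ : R → R := fun u => u * ⟨_, hxi u⟩
      have hφinj : Function.Injective φ := by
        intro u u' he
        have he' : (u : G) * (x ^ i * ((u : G))⁻¹ * (x ^ i)⁻¹) = u' * (x ^ i * ((u' : G))⁻¹ * (x ^ i)⁻¹) :=
          congrArg Subtype.val he
        have hcm : Commute ((u' : G)⁻¹ * u) (x ^ i) := by
          show (u' : G)⁻¹ * u * x ^ i = x ^ i * ((u' : G)⁻¹ * u)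
          calc (u' : G)⁻¹ * u * x ^ i
              = (u' : G)⁻¹ * ((u : G) * (x ^ i * ((u : G))⁻¹ * (x ^ i)⁻¹)) * x ^ i * u := by group
            _ = _ := by rw [he']; group
        exact (inv_mul_eq_one.1 (Subtype.ext (hxord i hi _ (mul_mem (inv_mem u'.2) u.2) hcm) :
          u'⁻¹ * u = 1)).symm
      refine Fintype.prod_bijective φ ⟨hφinj, Finite.surjective_of_injective hφinj⟩ _ _ fun u => ?_
      rw [← hαmul]
      refine congrArg (fun g => α g v) (Subtype.ext ?_)
      show (u : G) * x ^ i * (u : G)⁻¹ = (u : G) * (x ^ i * ((u : G))⁻¹ * (x ^ i)⁻¹) * x ^ i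
      group
    have hn0 : 0 < n := Nat.card_pos
    have hpowS : ∀ v : V, v ^ Fintype.card R = S v := by
      intro v
      have hA : ∏ i ∈ Finset.range n, S (α (X ^ i) v) = 1 := by
        show ∏ i ∈ Finset.range n, ∏ u : R, α (inc u) (α (X ^ i) v) = 1
        rw [Finset.prod_comm]
        refine Finset.prod_eq_one fun u _ => ?_
        rw [← map_prod, htrace, map_one]
      have hB : ∏ i ∈ Finset.range n, ∏ u : R, α (inc u * X ^ i * (inc u)⁻¹) v = 1 := by
        rw [Finset.prod_comm]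
        refine Finset.prod_eq_one fun u _ => ?_
        simp only [hαmul]
        rw [← map_prod, htrace, map_one]
      obtain ⟨k, hk⟩ : ∃ k, n = k + 1 := ⟨n - 1, by omega⟩
      rw [hk, Finset.prod_range_succ'] at hA hB
      have e : ∏ i ∈ Finset.range k, ∏ u : R, α (inc u * X ^ (i + 1) * (inc u)⁻¹) v =
          ∏ i ∈ Finset.range k, S (α (X ^ (i + 1)) v) := by
        refine Finset.prod_congr rfl fun i hi => hshift (i + 1) (fun hd => ?_) v
        rw [Finset.mem_range] at hi
        have := Nat.le_of_dvd (by omega) hd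
        omega
      rw [e] at hB
      simp only [pow_zero, mul_one, mul_inv_cancel, hαone, Finset.prod_const, Finset.card_univ] at hA hB
      exact mul_left_cancel (hB.trans hA.symm)
    have hcoR : (Fintype.card R).Coprime (Nat.card V) := by
      obtain ⟨b, hb⟩ := (hPp.to_quotient (frattini P)).exists_card_eq
      rw [Fintype.card_eq_nat_card, ha, hb]
      exact ((Nat.coprime_primes hr Fact.out).2 hrp).pow a b
    have hfixV : ∀ (u : R) (v : V), α (inc u) v = v := by
      intro u v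
      obtain ⟨w, rfl⟩ := (powCoprime hcoR.symm).surjective v
      show α (inc u) (w ^ Fintype.card R) = w ^ Fintype.card R
      rw [hpowS, hS]
    refine Cfsg.Agent.Solv.centralizes_of_frattini P hPp f (hRP hf) ?_ ?_
    · refine Nat.Coprime.coprime_dvd_left (Subgroup.orderOf_dvd_natCard R hf) ?_
      rw [ha]; exact ((Nat.coprime_primes hr Fact.out).2 hrp).pow_left a
    · intro w hw
      have h1 := hfixV ⟨f, hf⟩ (QuotientGroup.mk (⟨w, hw⟩ : P))
      rw [hα, QuotientGroup.eq] at h1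
      have hnorm : (frattini ↥P).Normal := inferInstance
      refine ⟨_, hnorm.mem_comm h1, ?_⟩
      show (w : G) * (f * w * f⁻¹)⁻¹ = ⁅w, f⁆
      simp only [commutatorElement_def]; group
  intro y hy
  obtain ⟨g, rfl⟩ := QuotientGroup.mk'_surjective N y
  suffices htop : (Subgroup.centralizer (N : Set G) ⊔ N).subgroupOf M = ⊤ by
    have h1 : g ∈ Subgroup.centralizer (N : Set G) ⊔ N := by
      have : (⟨g, hy⟩ : M) ∈ (Subgroup.centralizer (N : Set G) ⊔ N).subgroupOf M := by rw [htop]; trivial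
      exact this
    have h2 := Subgroup.mem_map_of_mem π h1
    rwa [Subgroup.map_sup, hπ, (Subgroup.map_eq_bot_iff N).2 (QuotientGroup.ker_mk' N).ge, sup_bot_eq] at h2
  refine Cfsg.Agent.Solv.eq_top_of_forall_sylow_le _ fun r _ => ?_
  obtain ⟨R₀⟩ : Nonempty (Sylow r M) := inferInstance
  refine ⟨R₀, fun u hu => ?_⟩
  rw [Subgroup.mem_subgroupOf]
  have hr : r.Prime := Fact.out
  by_cases hrN : r ∣ Nat.card N
  · refine Subgroup.mem_sup_right ?_
    have hrF : ¬ r ∣ Nat.card Fb := fun h =>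
      hr.ne_one (Nat.dvd_one.1 (hcop ▸ Nat.dvd_gcd h hrN))
    obtain ⟨a, ha⟩ := IsPGroup.iff_card.1 R₀.2
    have h1 : orderOf (π (u : G)) ∣ r ^ a := by
      refine (orderOf_map_dvd π (u : G)).trans ?_
      rw [Subgroup.orderOf_coe, ← ha]
      exact Subgroup.orderOf_dvd_natCard _ hu
    have h2 : orderOf (π (u : G)) ∣ Nat.card Fb := Subgroup.orderOf_dvd_natCard Fb u.2
    rw [← QuotientGroup.eq_one_iff]
    exact orderOf_eq_one_iff.1 (Nat.eq_one_of_dvd_coprimes ((hr.coprime_iff_not_dvd.2 hrF).pow_left a) h1 h2)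
  · exact Subgroup.mem_sup_left (key r hrN R₀ ⟨u, hu, rfl⟩)

end Cfsg.Agent.S3703
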