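import Cfsg.Statements.S3704
import Mathlib
-- import your own Cfsg.Agent.* helpers here

set_option autoImplicit false
open Cfsg

namespace Cfsg.Agent.S3704

/-- Let G be a finite group acting faithfully and 2-transitively on a finite set Ω of size n, and let H be a subgroup of index n in G which is not transitive on Ω and fixes no point of Ω. Then H has exactly two orbits on Ω. -/
theorem result {G Ω : Type*} [Group G] [Finite G] [MulAction G Ω] [FaithfulSMul G Ω] [Finite Ω] (h2 : MulAction.IsMultiplyPretransitive G Ω 2) (H : Subgroup G) (hidx : H.index = Nat.card Ω) (hnt : ¬ MulAction.IsPretransitive H Ω) (hfix : ∀ a : Ω, ∃ h : H, h • a ≠ a) : Nat.card (MulAction.orbitRel.Quotient H Ω) = 2 := by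
  classical
  have _ := hfix
  haveI := h2
  haveI : MulAction.IsPretransitive G Ω := MulAction.isPretransitive_of_is_two_pretransitive
  let K := MulAction.orbitRel.Quotient H Ω
  let Q : G ⧸ H → Ω → K := fun δ x => Quotient.mk (MulAction.orbitRel H Ω) (δ.out⁻¹ • x)
  haveI : Fintype Ω := Fintype.ofFinite Ω
  haveI : Fintype (G ⧸ H) := Fintype.ofFinite _
  have hQ : ∀ (g : G) δ x, Q (g • δ) (g • x) = Q δ x := by
    intro g δ x
    obtain ⟨h, hh⟩ := QuotientGroup.mk_out_eq_mul H (g * δ.out)
    have e : g • δ = QuotientGroup.mk (g * δ.out) := by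
      rw [← smul_eq_mul, ← MulAction.Quotient.smul_mk, QuotientGroup.out_eq']
    refine Quotient.sound ⟨h⁻¹, ?_⟩
    show ((h⁻¹ : H) : G) • δ.out⁻¹ • x = (g • δ).out⁻¹ • g • x
    rw [e, hh, smul_smul, smul_smul]
    congr 1
    rw [InvMemClass.coe_inv]
    group
  let S : K → K → Ω → Ω → ℚ := fun i j x y =>
    ∑ δ : G ⧸ H, (if Q δ x = i then (1 : ℚ) else 0) * (if Q δ y = j then (1 : ℚ) else 0)
  have hS : ∀ (g : G) i j x y, S i j (g • x) (g • y) = S i j x y := by
    intro g i j x y
    simp only [S]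
    rw [← Equiv.sum_comp (MulAction.toPerm g : Equiv.Perm (G ⧸ H))]
    simp only [MulAction.toPerm_apply, hQ]
  have hlist : ∀ i j x y x' y', x ≠ y → x' ≠ y' → S i j x y = S i j x' y' := by
    intro i j x y x' y' h h'
    obtain ⟨g, rfl, rfl⟩ := MulAction.is_two_pretransitive_iff.1 h2 h h'
    exact (hS g i j x y).symm
  have hdiag : ∀ i j x x', S i j x x = S i j x' x' := by
    intro i j x x'
    obtain ⟨g, rfl⟩ := MulAction.exists_smul_eq G x x'
    exact (hS g i j x x).symm
  have hcardΩ : Fintype.card Ω = Fintype.card (G ⧸ H) := by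
    rw [← Nat.card_eq_fintype_card, ← Nat.card_eq_fintype_card, ← hidx, Subgroup.index]
  let e : Ω ≃ G ⧸ H := Fintype.equivOfCardEq hcardΩ
  let A : K → Matrix Ω Ω ℚ := fun i u x => if Q (e u) x = i then 1 else 0
  have hAA : ∀ i j x y, ((A i).transpose * A j) x y = S i j x y := by
    intro i j x y
    simp only [Matrix.mul_apply, Matrix.transpose_apply, A, S]
    exact Fintype.sum_equiv e _ _ fun u => rfl
  obtain ⟨x₀, y₀, hxy⟩ : ∃ x y : Ω, x ≠ y := by
    by_contra h
    push Not at h
    exact hnt ⟨fun x y => ⟨1, (one_smul _ _).trans (h x y)⟩⟩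
  have hne : ∀ i : K, S i i x₀ y₀ < S i i x₀ x₀ := by
    intro i
    have hle : ∀ δ ∈ (Finset.univ : Finset (G ⧸ H)),
        (if Q δ x₀ = i then (1 : ℚ) else 0) * (if Q δ y₀ = i then (1 : ℚ) else 0) ≤
        (if Q δ x₀ = i then (1 : ℚ) else 0) * (if Q δ x₀ = i then (1 : ℚ) else 0) := fun δ _ => by
      by_cases h : Q δ x₀ = i <;> by_cases h' : Q δ y₀ = i <;> simp [h, h']
    refine lt_of_le_of_ne (Finset.sum_le_sum hle) fun heq => hnt ⟨fun x y => ?_⟩
    have h1 : ∀ δ, Q δ x₀ = i → Q δ y₀ = i := fun δ hδ => by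
      have := (Finset.sum_eq_sum_iff_of_le hle).1 heq δ (Finset.mem_univ _)
      by_contra h'
      rw [if_pos hδ, if_neg h'] at this
      norm_num at this
    have h2' : ∀ δ a b, Q δ a = i → Q δ b = i := by
      intro δ a b ha
      by_cases hab : a = b
      · exact hab ▸ ha
      · obtain ⟨g, rfl, rfl⟩ := MulAction.is_two_pretransitive_iff.1 h2 hxy hab
        rw [← smul_inv_smul g δ, hQ] at ha ⊢
        exact h1 _ ha
    obtain ⟨z, hz⟩ := Quotient.exists_rep i
    have hi : ∀ a, Quotient.mk (MulAction.orbitRel H Ω) a = i := by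
      intro a
      have h3 := h2' ((1 : G) : G ⧸ H) (((1 : G) : G ⧸ H).out • z) (((1 : G) : G ⧸ H).out • a)
        (by show Quotient.mk _ _ = i; rw [inv_smul_smul]; exact hz)
      simpa [Q, inv_smul_smul] using h3
    obtain ⟨h, hh⟩ := Quotient.exact ((hi y).trans (hi x).symm)
    exact ⟨h, hh⟩
  have hinj : ∀ i, Function.Injective (A i).transpose.mulVec := by
    intro i
    rw [Matrix.mulVec_injective_iff_isUnit, Matrix.isUnit_iff_isUnit_det, isUnit_iff_ne_zero,
      Matrix.det_transpose]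
    intro hdet
    have hdet2 : ((A i).transpose * A i).det = 0 := by rw [Matrix.det_mul, hdet, mul_zero]
    obtain ⟨v, hv0, hv⟩ := Matrix.exists_mulVec_eq_zero_iff.2 hdet2
    refine hv0 (funext fun x => ?_)
    set l := S i i x₀ y₀ with hl
    set c := S i i x₀ x₀ - l with hc
    have hc0 : 0 < c := sub_pos.2 (hne i)
    have hl0 : 0 ≤ l := Finset.sum_nonneg fun δ _ => by positivity
    have hrow : ∀ a, c * v a + l * ∑ b, v b = 0 := by
      intro a
      have h := congrFun hv a
      simp only [Matrix.mulVec, dotProduct, hAA, Pi.zero_apply] at h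
      have hterm : ∀ b, S i i a b * v b = l * v b + (if b = a then c * v b else 0) := by
        intro b
        by_cases hb : b = a
        · subst hb
          rw [if_pos rfl, hdiag i i b x₀, hc]; ring
        · rw [if_neg hb, hlist i i a b x₀ y₀ (Ne.symm hb) hxy, add_zero]
      simp only [hterm, Finset.sum_add_distrib, ← Finset.mul_sum, Finset.sum_ite_eq',
        Finset.mem_univ, if_true] at h
      linarith
    have hsum : (c + Fintype.card Ω * l) * ∑ b, v b = 0 := by
      have h := Finset.sum_eq_zero (s := Finset.univ) fun a _ => hrow a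
      rw [Finset.sum_add_distrib, ← Finset.mul_sum, Finset.sum_const, nsmul_eq_mul] at h
      rw [Finset.card_univ] at h
      linarith
    have hpos : (0 : ℚ) < c + Fintype.card Ω * l := by positivity
    have h0 := (mul_eq_zero.1 hsum).resolve_left hpos.ne'
    have h1 := hrow x
    rw [h0, mul_zero, add_zero] at h1
    exact (mul_eq_zero.1 h1).resolve_left hc0.ne'
  have hcol : ∀ i j, ∃ r : ℚ, ∀ u x y, A j u x - r * A i u x = A j u y - r * A i u y := by
    intro i j
    set c := S i i x₀ x₀ - S i i x₀ y₀ with hc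
    have hc0 : c ≠ 0 := (sub_pos.2 (hne i)).ne'
    refine ⟨(S i j x₀ x₀ - S i j x₀ y₀) / c, fun u x y => ?_⟩
    suffices hh : (A i).transpose.mulVec (fun u => A j u x - (S i j x₀ x₀ - S i j x₀ y₀) / c * A i u x) =
        (A i).transpose.mulVec (fun u => A j u y - (S i j x₀ x₀ - S i j x₀ y₀) / c * A i u y) from
      congrFun (hinj i hh) u
    have key : ∀ a b, ∑ u, A i u a * (A j u b - (S i j x₀ x₀ - S i j x₀ y₀) / c * A i u b) =
        S i j x₀ y₀ - (S i j x₀ x₀ - S i j x₀ y₀) / c * S i i x₀ y₀ := by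
      intro a b
      have h1 : ∑ u, A i u a * (A j u b - (S i j x₀ x₀ - S i j x₀ y₀) / c * A i u b) =
          S i j a b - (S i j x₀ x₀ - S i j x₀ y₀) / c * S i i a b := by
        rw [← hAA i j a b, ← hAA i i a b]
        generalize (S i j x₀ x₀ - S i j x₀ y₀) / c = t
        simp only [Matrix.mul_apply, Matrix.transpose_apply, mul_sub, Finset.sum_sub_distrib, Finset.mul_sum]
        congr 1
        exact Finset.sum_congr rfl fun u _ => by ring
      rw [h1]
      by_cases hab : a = b
      · subst hab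
        rw [hdiag i j a x₀, hdiag i i a x₀]
        have h2 : (S i j x₀ x₀ - S i j x₀ y₀) / c * c = S i j x₀ x₀ - S i j x₀ y₀ := div_mul_cancel₀ _ hc0
        linear_combination -h2 + (S i j x₀ x₀ - S i j x₀ y₀) / c * hc
      · rw [hlist i j a b x₀ y₀ hab hxy, hlist i i a b x₀ y₀ hab hxy]
    funext a
    simp only [Matrix.mulVec, dotProduct, Matrix.transpose_apply, key]
  rw [Nat.card_eq_two_iff]
  by_contra hcon
  push Not at hcon
  obtain ⟨i, j, hij⟩ : ∃ i j : K, i ≠ j := by
    by_contra h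
    push Not at h
    exact hnt ⟨fun x y => by
      obtain ⟨g, hg⟩ := Quotient.exact (h (Quotient.mk _ y) (Quotient.mk (MulAction.orbitRel H Ω) x))
      exact ⟨g, hg⟩⟩
  obtain ⟨k, hki, hkj⟩ : ∃ k : K, k ≠ i ∧ k ≠ j := by
    have h := hcon i j hij
    rw [Ne, Set.eq_univ_iff_forall] at h
    push Not at h
    obtain ⟨k, hk⟩ := h
    simp only [Set.mem_insert_iff, Set.mem_singleton_iff, not_or] at hk
    exact ⟨k, hk⟩
  obtain ⟨r, hr⟩ := hcol i j
  have hsurj : ∀ q : K, ∃ x, Q (e x₀) x = q := by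
    intro q
    obtain ⟨z, hz⟩ := Quotient.exists_rep q
    exact ⟨(e x₀).out • z, by show Quotient.mk _ _ = q; rw [inv_smul_smul]; exact hz⟩
  obtain ⟨x, hx⟩ := hsurj i
  obtain ⟨y, hy⟩ := hsurj j
  obtain ⟨w, hw⟩ := hsurj k
  have e1 := hr x₀ x y
  have e2 := hr x₀ y w
  simp only [A, hx, hy, hw] at e1 e2
  simp only [if_pos rfl, if_neg hij, if_neg hij.symm, if_neg hki, if_neg hkj, if_true] at e1 e2
  linarith

end Cfsg.Agent.S3704
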