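import Cfsg.Statements.S3708
import Cfsg.Agent.Lib.Small.Phan.Pair
-- import your own Cfsg.Agent.* helpers here

set_option autoImplicit false
open Cfsg

namespace Cfsg.Agent.S3708

/-- Phan's recognition of unitary groups. Let F be a finite field with q² elements, q > 4, and n ≥ 2. Let G be a group generated by subgroups U_0, …, U_{n−1}, each isomorphic to the special unitary group SU(2, q²) (determinant-one isometries of the standard Hermitian form in two variables over F), and let D_i ≤ U_i be cyclic subgroups of order q + 1. Suppose that U_i and U_j commute elementwise whenever the indices differ by at least 2, that the subgroup generated by U_i and U_{i+1} is isomorphic to SU(3, q²) for each i, and that D_i and D_j commute elementwise for all i, j. Then G is a homomorphic image of SU(n+1, q²). (Generation of G by the U_i is part of the hypothesis; G is not assumed finite.) -/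
theorem result {G : Type*} [Group G] (n : ℕ) (hn : 2 ≤ n)
    (F : Type*) [Field F] [Fintype F] (q : ℕ) (hq : 4 < q) (hF : Fintype.card F = q ^ 2)
    (U : Fin n → Subgroup G) (e : ∀ i, ↥(Cfsg.SU 2 F q) ≃* ↥(U i)) (hgen : ⨆ i, U i = ⊤)
    (D : Fin n → Subgroup G) (hD : ∀ i, D i ≤ U i ∧ IsCyclic ↥(D i) ∧ Nat.card ↥(D i) = q + 1)
    (h1 : ∀ i j : Fin n, (i : ℕ) + 2 ≤ j → ∀ x ∈ U i, ∀ y ∈ U j, x * y = y * x)
    (h2 : ∀ i j : Fin n, (i : ℕ) + 1 = j → Nonempty (↥(U i ⊔ U j) ≃* ↥(Cfsg.SU 3 F q)))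
    (h3 : ∀ i j : Fin n, i ≠ j → ∀ x ∈ D i, ∀ y ∈ D j, x * y = y * x) :
    ∃ f : ↥(Cfsg.SU (n + 1) F q) →* G, Function.Surjective f := by
  classical
  obtain ⟨S, hstar⟩ := Cfsg.Agent.Small.Phan.exists_conjugation hF
  letI := S
  rcases Nat.lt_or_ge n 3 with hn3 | hn3
  · obtain rfl : n = 2 := by omega
    obtain ⟨θ⟩ := h2 0 1 rfl
    refine ⟨(U 0 ⊔ U 1).subtype.comp θ.symm.toMonoidHom, MonoidHom.range_eq_top.1 ?_⟩
    rw [MonoidHom.range_comp, MonoidHom.range_eq_top.2 θ.symm.surjective, ← MonoidHom.range_eq_map,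
      Subgroup.range_subtype, eq_top_iff, ← hgen]
    refine iSup_le fun i => ?_
    fin_cases i
    · exact le_sup_left
    · exact le_sup_right
  have hgenD : ∀ i, ∃ d : G, d ∈ D i ∧ orderOf d = q + 1 := by
    intro i
    obtain ⟨-, hc, hcard⟩ := hD i
    obtain ⟨d, hd⟩ := IsCyclic.exists_ofOrder_eq_natCard (α := ↥(D i))
    exact ⟨d.1, d.2, by rw [Subgroup.orderOf_coe, hd, hcard]⟩
  have hp : ∀ i, i + 1 < n → ∃ ψ : Cfsg.SU 3 F q →* G,
      Cfsg.Agent.Small.Phan.IsWindow hstar (fun i => if h : i < n then U ⟨i, h⟩ else ⊥) i ψ := by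
    intro i hi
    obtain ⟨θ⟩ := h2 ⟨i, by omega⟩ ⟨i + 1, hi⟩ rfl
    obtain ⟨d, hd, hdo⟩ := hgenD ⟨i, by omega⟩
    obtain ⟨d', hd', hdo'⟩ := hgenD ⟨i + 1, hi⟩
    obtain ⟨ψ, hk, hA, hB⟩ := Cfsg.Agent.Small.Phan.exists_window_of_iso hstar hF (by omega)
      (e ⟨i, by omega⟩) (e ⟨i + 1, hi⟩) θ ((hD _).1 hd) ((hD _).1 hd') hdo hdo'
      (h3 _ _ (fun h => by simpa using congrArg Fin.val h) d hd d' hd')
    refine ⟨ψ, hk, ?_, ?_⟩
    · rw [hA]; exact (dif_pos (show i < n by omega) : (if h : i < n then U ⟨i, h⟩ else ⊥) = _).symm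
    · rw [hB]; exact (dif_pos hi : (if h : i + 1 < n then U ⟨i + 1, h⟩ else ⊥) = _).symm
  let φ : ℕ → (Cfsg.SU 3 F q →* G) := fun i => if h : i + 1 < n then (hp i h).choose else 1
  refine Cfsg.Agent.Small.Phan.exists_surjection hstar (fun i => if h : i < n then U ⟨i, h⟩ else ⊥) hF
    (by omega) (by omega) φ (fun i hi => ?_) (fun i j hij hj x hx y hy => ?_) (fun M hM => ?_)
  · have hi' : i + 1 < n := by omega
    rw [show φ i = (hp i hi').choose from dif_pos hi']
    exact (hp i hi').choose_spec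
  · rw [dif_pos (show i < n by omega)] at hx
    rw [dif_pos (show j < n by omega)] at hy
    exact h1 ⟨i, by omega⟩ ⟨j, by omega⟩ hij x hx y hy
  · rw [eq_top_iff, ← hgen]
    refine iSup_le fun i => ?_
    have := hM i (by omega)
    rwa [dif_pos i.2] at this

end Cfsg.Agent.S3708
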