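import Cfsg.Statements.S3709
import Cfsg.Agent.Lib.Small.Phan.Standard
-- import your own Cfsg.Agent.* helpers here

set_option autoImplicit false
open Cfsg

namespace Cfsg.Agent.S3709

/-- Recognition of unitary groups from a weak Phan system. Let F be a finite field with q² elements, q > 3, and n ≥ 3. Let G be a group with subgroups U_0, …, U_{n−1}, each isomorphic to SU(2, q²), and, for each pair of consecutive indices, a subgroup V_{i,i+1} in which U_i and U_{i+1} form a standard pair (some isomorphism from SU(3, q²), or from its central quotient PSU(3, q²), onto V_{i,i+1} carries the two block-diagonal SU(2, q²) subgroups, or their images, onto U_i and U_{i+1}). Suppose that U_i and U_j commute elementwise whenever the indices differ by at least 2, and that G is generated by the U_i together with the V_{i,i+1}. Then G is a homomorphic image of SU(n+1, q²). (G is not assumed finite.) -/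
theorem result {G : Type*} [Group G] (n : ℕ) (hn : 3 ≤ n)
    (F : Type*) [Field F] [Fintype F] (q : ℕ) (hq : 3 < q) (hF : Fintype.card F = q ^ 2)
    (U : Fin n → Subgroup G) (e : ∀ i, ↥(Cfsg.SU 2 F q) ≃* ↥(U i))
    (V : Fin n → Fin n → Subgroup G)
    (h1 : ∀ i j : Fin n, (i : ℕ) + 2 ≤ j → ∀ x ∈ U i, ∀ y ∈ U j, x * y = y * x)
    (h2 : ∀ i j : Fin n, (i : ℕ) + 1 = j → Cfsg.IsStandardUnitaryPair (V i j) (U i) (U j) F q)
    (hgen : (⨆ i, U i) ⊔ (⨆ (i : Fin n) (j : Fin n) (_ : (i : ℕ) + 1 = j), V i j) = ⊤) :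
    ∃ f : ↥(Cfsg.SU (n + 1) F q) →* G, Function.Surjective f := by
  classical
  obtain ⟨S, hstar⟩ := Cfsg.Agent.Small.Phan.exists_conjugation hF
  letI := S
  have hW : ∀ (i : ℕ) (h : i < n), (fun i => if h : i < n then U ⟨i, h⟩ else ⊥) i = U ⟨i, h⟩ :=
    fun i h => dif_pos h
  have hp : ∀ i, i + 1 < n → ∃ ψ : Cfsg.SU 3 F q →* G,
      Cfsg.Agent.Small.Phan.IsWindow hstar (fun i => if h : i < n then U ⟨i, h⟩ else ⊥) i ψ := by
    intro i hi
    obtain ⟨ψ, hk, hA, hB, -⟩ := Cfsg.Agent.Small.Phan.exists_window hstar hF (by omega)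
      (h2 ⟨i, by omega⟩ ⟨i + 1, hi⟩ rfl)
    exact ⟨ψ, hk, hA.trans (hW i (by omega)).symm, hB.trans (hW (i + 1) hi).symm⟩
  let φ : ℕ → (Cfsg.SU 3 F q →* G) := fun i => if h : i + 1 < n then (hp i h).choose else 1
  refine Cfsg.Agent.Small.Phan.exists_surjection hstar (fun i => if h : i < n then U ⟨i, h⟩ else ⊥) hF
    (by omega) (by omega) φ (fun i hi => ?_) (fun i j hij hj x hx y hy => ?_) (fun M hM => ?_)
  · have hi' : i + 1 < n := by omega
    rw [show φ i = (hp i hi').choose from dif_pos hi']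
    exact (hp i hi').choose_spec
  · rw [dif_pos (show i < n by omega)] at hx
    rw [dif_pos (show j < n by omega)] at hy
    exact h1 ⟨i, by omega⟩ ⟨j, by omega⟩ hij x hx y hy
  · have hU : ∀ i : Fin n, U i ≤ M := fun i => le_trans (hW i i.2).symm.le (hM i (by omega))
    rw [eq_top_iff, ← hgen]
    refine sup_le (iSup_le hU) (iSup_le fun i => iSup_le fun j => iSup_le fun hij => ?_)
    obtain ⟨ψ, -, -, -, hV⟩ := Cfsg.Agent.Small.Phan.exists_window hstar hF (by omega) (h2 i j hij)
    exact hV.trans (sup_le (hU i) (hU j))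

end Cfsg.Agent.S3709
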