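import Cfsg.Statements.S3710
import Cfsg.Agent.Lib.Small.Phan.Four
-- import your own Cfsg.Agent.* helpers here

set_option autoImplicit false
open Cfsg

namespace Cfsg.Agent.S3710

/-- Recognition of unitary groups over the field with 9 elements from a weak Phan system. Let F be a field with 9 elements and n ≥ 4. Let G be a group with subgroups U_0, …, U_{n−1}, each isomorphic to SU(2, 9), and, for consecutive indices, subgroups V_{i,i+1} in which U_i and U_{i+1} form a standard pair (via an isomorphism from SU(3, 9) or PSU(3, 9) carrying the block-diagonal subgroups, or their images, onto U_i and U_{i+1}); suppose U_i and U_j commute elementwise whenever the indices differ by at least 2, that G is generated by the U_i and the V_{i,i+1}, and moreover that for each i the subgroup generated by V_{i,i+1} and V_{i+1,i+2} is a homomorphic image of SU(4, 9). Then G is a homomorphic image of SU(n+1, 9). (G is not assumed finite.) -/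
theorem result {G : Type*} [Group G] (n : ℕ) (hn : 4 ≤ n)
    (F : Type*) [Field F] [Fintype F] (hF : Fintype.card F = 9)
    (U : Fin n → Subgroup G) (e : ∀ i, ↥(Cfsg.SU 2 F 3) ≃* ↥(U i))
    (V : Fin n → Fin n → Subgroup G)
    (h1 : ∀ i j : Fin n, (i : ℕ) + 2 ≤ j → ∀ x ∈ U i, ∀ y ∈ U j, x * y = y * x)
    (h2 : ∀ i j : Fin n, (i : ℕ) + 1 = j → Cfsg.IsStandardUnitaryPair (V i j) (U i) (U j) F 3)
    (hgen : (⨆ i, U i) ⊔ (⨆ (i : Fin n) (j : Fin n) (_ : (i : ℕ) + 1 = j), V i j) = ⊤)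
    (h4 : ∀ i j k : Fin n, (i : ℕ) + 1 = j → (j : ℕ) + 1 = k →
      ∃ g : ↥(Cfsg.SU 4 F 3) →* ↥(V i j ⊔ V j k), Function.Surjective g) :
    ∃ f : ↥(Cfsg.SU (n + 1) F 3) →* G, Function.Surjective f := by
  classical
  obtain ⟨S, hstar⟩ := Cfsg.Agent.Small.Phan.exists_conjugation (q := 3) (hF.trans (by norm_num))
  letI := S
  have hF' : Fintype.card F = 3 ^ 2 := hF.trans (by norm_num)
  have hAB : ∀ {V A B : Subgroup G}, Cfsg.IsStandardUnitaryPair V A B F 3 → A ≤ V ∧ B ≤ V := by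
    rintro V A B (⟨ψ, rfl, rfl⟩ | ⟨ψ, rfl, rfl⟩) <;> constructor <;> rintro _ ⟨x, -, rfl⟩ <;>
      exact Subtype.coe_prop _
  have hp : ∀ i, i + 1 < n → ∃ ψ : Cfsg.SU 3 F 3 →* G,
      Cfsg.Agent.Small.Phan.IsWindow hstar (fun i => if h : i < n then U ⟨i, h⟩ else ⊥) i ψ := by
    intro i hi
    obtain ⟨ψ, hk, hA, hB, -⟩ := Cfsg.Agent.Small.Phan.exists_window hstar hF' le_rfl
      (h2 ⟨i, by omega⟩ ⟨i + 1, hi⟩ rfl)
    refine ⟨ψ, hk, ?_, ?_⟩
    · rw [hA]; exact (dif_pos (show i < n by omega) : (if h : i < n then U ⟨i, h⟩ else ⊥) = _).symm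
    · rw [hB]; exact (dif_pos hi : (if h : i + 1 < n then U ⟨i + 1, h⟩ else ⊥) = _).symm
  let φ : ℕ → (Cfsg.SU 3 F 3 →* G) := fun i => if h : i + 1 < n then (hp i h).choose else 1
  obtain ⟨C, hw, hCW⟩ := Cfsg.Agent.Small.Phan.exists_chain hstar (fun i => if h : i < n then U ⟨i, h⟩ else ⊥)
    hF' le_rfl (n := n + 1) (by omega) φ
    (fun i hi => by
      have hi' : i + 1 < n := by omega
      rw [show φ i = (hp i hi').choose from dif_pos hi']
      exact (hp i hi').choose_spec)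
    (fun i j hij hj x hx y hy => by
      rw [dif_pos (show i < n by omega)] at hx
      rw [dif_pos (show j < n by omega)] at hy
      exact h1 ⟨i, by omega⟩ ⟨j, by omega⟩ hij x hx y hy)
  obtain ⟨g, hg⟩ := h4 ⟨0, by omega⟩ ⟨1, by omega⟩ ⟨2, by omega⟩ rfl rfl
  have hrange : ∀ {K : Subgroup G} (f : Cfsg.SU 4 F 3 →* K), Function.Surjective f →
      (K.subtype.comp f).range = K := fun {K} f hf => by
    rw [MonoidHom.range_comp, MonoidHom.range_eq_top.2 hf, ← MonoidHom.range_eq_map, Subgroup.range_subtype]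
  have hle : ∀ i, i ≤ 1 → (C.ψ i).range ≤ ((Subgroup.subtype _).comp g).range := by
    intro i hi
    obtain ⟨-, hA, hB⟩ := hw i (by omega)
    rw [hrange g hg, MonoidHom.range_eq_map, ← Cfsg.Agent.Small.Phan.gen_three hstar hF' le_rfl, Subgroup.map_sup,
      ← MonoidHom.range_comp, ← MonoidHom.range_comp, hA, hB]
    beta_reduce
    rw [dif_pos (show i < n by omega), dif_pos (show i + 1 < n by omega)]
    obtain ⟨u0, u1⟩ := hAB (h2 ⟨0, by omega⟩ ⟨1, by omega⟩ rfl)
    obtain ⟨u1', u2⟩ := hAB (h2 ⟨1, by omega⟩ ⟨2, by omega⟩ rfl)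
    rcases (by omega : i = 0 ∨ i = 1) with rfl | rfl
    · exact sup_le (u0.trans le_sup_left) (u1.trans le_sup_left)
    · exact sup_le (u1'.trans le_sup_right) (u2.trans le_sup_right)
  obtain ⟨f, hf⟩ := C.exists_hom hF' le_rfl (by omega) (Or.inr (Cfsg.Agent.Small.Phan.good_four hF' C (by omega)
    ((Subgroup.subtype _).comp g) (hw 0 (by omega)).1 (hw 1 (by omega)).1 (hle 0 (by omega)) (hle 1 le_rfl)))
  have hU : ∀ i : Fin n, U i ≤ f.range := fun i =>
    le_trans (le_of_eq (dif_pos i.2 : (if h : (i : ℕ) < n then U ⟨i, h⟩ else ⊥) = _).symm)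
      ((hCW i (by omega)).trans (hf i (by omega)))
  refine ⟨f, MonoidHom.range_eq_top.1 ?_⟩
  rw [eq_top_iff, ← hgen]
  refine sup_le (iSup_le hU) (iSup_le fun i => iSup_le fun j => iSup_le fun hij => ?_)
  obtain ⟨ψ, -, -, -, hV⟩ := Cfsg.Agent.Small.Phan.exists_window hstar hF' le_rfl (h2 i j hij)
  exact hV.trans (sup_le (hU i) (hU j))

end Cfsg.Agent.S3710
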