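import Cfsg.Statements.S3711
import Cfsg.Agent.Lib.Small.Phan.TwoGlue

set_option autoImplicit false
open Cfsg

namespace Cfsg.Agent.S3711

/-- Recognition of unitary groups over the field with 4 elements from a weak Phan system. Let F be a field with 4 elements and n ≥ 4. Let G be a group with subgroups U_0, …, U_{n−1}, each isomorphic to SU(2, 4), and, for consecutive indices, subgroups V_{i,i+1} in which U_i and U_{i+1} form a standard pair (via an isomorphism from SU(3, 4) or PSU(3, 4) carrying the block-diagonal subgroups, or their images, onto U_i and U_{i+1}); suppose U_i and U_j commute elementwise whenever the indices differ by at least 2, that G is generated by the U_i and the V_{i,i+1}, that for each i the subgroup generated by V_{i,i+1} and V_{i+1,i+2} is a homomorphic image of SU(4, 4), that U_i and V_{j,j+1} commute elementwise whenever i ≤ j − 2 or i ≥ j + 3, and that V_{i,i+1} and V_{k,k+1} commute elementwise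 whenever k ≥ i + 3. Then G is a homomorphic image of SU(n+1, 4). (G is not assumed finite.) -/
theorem result {G : Type*} [Group G] (n : ℕ) (hn : 4 ≤ n)
    (F : Type*) [Field F] [Fintype F] (hF : Fintype.card F = 4)
    (U : Fin n → Subgroup G) (e : ∀ i, ↥(Cfsg.SU 2 F 2) ≃* ↥(U i))
    (V : Fin n → Fin n → Subgroup G)
    (h1 : ∀ i j : Fin n, (i : ℕ) + 2 ≤ j → ∀ x ∈ U i, ∀ y ∈ U j, x * y = y * x)
    (h2 : ∀ i j : Fin n, (i : ℕ) + 1 = j → Cfsg.IsStandardUnitaryPair (V i j) (U i) (U j) F 2)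
    (hgen : (⨆ i, U i) ⊔ (⨆ (i : Fin n) (j : Fin n) (_ : (i : ℕ) + 1 = j), V i j) = ⊤)
    (h4 : ∀ i j k : Fin n, (i : ℕ) + 1 = j → (j : ℕ) + 1 = k →
      ∃ g : ↥(Cfsg.SU 4 F 2) →* ↥(V i j ⊔ V j k), Function.Surjective g)
    (h5 : ∀ i j k : Fin n, (j : ℕ) + 1 = k → ((i : ℕ) + 2 ≤ j ∨ (k : ℕ) + 2 ≤ i) →
      ∀ x ∈ U i, ∀ y ∈ V j k, x * y = y * x)
    (h6 : ∀ i j k l : Fin n, (i : ℕ) + 1 = j → (k : ℕ) + 1 = l → (j : ℕ) + 2 ≤ k →
      ∀ x ∈ V i j, ∀ y ∈ V k l, x * y = y * x) :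
    ∃ f : ↥(Cfsg.SU (n + 1) F 2) →* G, Function.Surjective f := by
  classical
  obtain ⟨S, hstar⟩ := Cfsg.Agent.Small.Phan.exists_conjugation (q := 2) (hF.trans (by norm_num))
  letI := S
  have hF' : Fintype.card F = 2 ^ 2 := hF.trans (by norm_num)
  let W : ℕ → Subgroup G := fun i => if h : i < n then U ⟨i, h⟩ else ⊥
  let V' : ℕ → Subgroup G := fun i => if h : i + 1 < n then V ⟨i, by omega⟩ ⟨i + 1, h⟩ else ⊥
  have eW : ∀ i (h : i < n), W i = U ⟨i, h⟩ := fun i h => dif_pos h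
  have eV : ∀ i (h : i + 1 < n), V' i = V ⟨i, by omega⟩ ⟨i + 1, h⟩ := fun i h => dif_pos h
  have hp : ∀ i, i + 3 ≤ n + 1 → ∃ ψ : Cfsg.SU 3 F 2 →* G,
      Cfsg.Agent.Small.Phan.IsWindow hstar W i ψ ∧ ψ.range = V' i := by
    intro i hi
    have hi' : i + 1 < n := by omega
    obtain ⟨ψ, hk, hA, hB, hV⟩ := Cfsg.Agent.Small.Phan.exists_window_two (hstar := hstar) hF'
      (h2 ⟨i, by omega⟩ ⟨i + 1, hi'⟩ rfl)
    exact ⟨ψ, ⟨hk, by rw [hA, eW], by rw [hB, eW]⟩, by rw [hV, eV]⟩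
  let φ : ℕ → (Cfsg.SU 3 F 2 →* G) := fun i => if h : i + 3 ≤ n + 1 then (hp i h).choose else 1
  obtain ⟨C, hψ, hu⟩ := Cfsg.Agent.Small.Phan.exists_chain_two (hstar := hstar) hF' W V' (n := n + 1) (by omega) φ
    (fun i hi => by
      rw [show φ i = (hp i hi).choose from dif_pos hi]
      exact (hp i hi).choose_spec)
    (fun i j hij hj x hx y hy => by
      rw [eW i (by omega)] at hx
      rw [eW j (by omega)] at hy
      exact h1 ⟨i, by omega⟩ ⟨j, by omega⟩ hij x hx y hy)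
  obtain ⟨f, hf⟩ := Cfsg.Agent.Small.Phan.exists_glue (hstar := hstar) hF' (by omega : 5 ≤ n + 1) C V' hψ
    (fun i hi => by
      obtain ⟨g, hg⟩ := h4 ⟨i, by omega⟩ ⟨i + 1, by omega⟩ ⟨i + 1 + 1, by omega⟩ rfl rfl
      refine ⟨(Subgroup.subtype _).comp g, ?_⟩
      rw [MonoidHom.range_comp, MonoidHom.range_eq_top.2 hg, ← MonoidHom.range_eq_map, Subgroup.range_subtype,
        eV i (by omega), eV (i + 1) (by omega)])
    (fun i j hi hj hij x y hy => by
      rw [eV j (by omega)] at hy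
      have hx : C.u i x ∈ U ⟨i, by omega⟩ := by
        rw [← eW i (by omega), ← hu i hi]
        exact ⟨x, rfl⟩
      exact h5 ⟨i, by omega⟩ ⟨j, by omega⟩ ⟨j + 1, by omega⟩ rfl
        (by rcases hij with h | h
            · exact Or.inl h
            · exact Or.inr (show j + 1 + 2 ≤ i by omega)) _ hx y hy)
    (fun i k hik hk x hx y hy => by
      rw [eV i (by omega)] at hx
      rw [eV k (by omega)] at hy
      exact h6 ⟨i, by omega⟩ ⟨i + 1, by omega⟩ ⟨k, by omega⟩ ⟨k + 1, by omega⟩ rfl rfl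
        (show i + 1 + 2 ≤ k by omega) x hx y hy)
  have hAB : ∀ {V A B : Subgroup G}, Cfsg.IsStandardUnitaryPair V A B F 2 → A ≤ V ∧ B ≤ V := by
    rintro V A B (⟨ψ, rfl, rfl⟩ | ⟨ψ, rfl, rfl⟩) <;> constructor <;> rintro _ ⟨x, -, rfl⟩ <;>
      exact Subtype.coe_prop _
  have hV : ∀ i j : Fin n, (i : ℕ) + 1 = j → V i j ≤ f.range := by
    intro i j hij
    have := hf i (by omega)
    rwa [eV i (by omega), show (⟨(i : ℕ), by omega⟩ : Fin n) = i from rfl,
      show (⟨(i : ℕ) + 1, by omega⟩ : Fin n) = j from Fin.ext hij] at this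
  refine ⟨f, MonoidHom.range_eq_top.1 ?_⟩
  rw [eq_top_iff, ← hgen]
  refine sup_le (iSup_le fun i => ?_) (iSup_le fun i => iSup_le fun j => iSup_le fun hij => hV i j hij)
  by_cases h : (i : ℕ) + 1 < n
  · exact (hAB (h2 i ⟨(i : ℕ) + 1, h⟩ rfl)).1.trans (hV _ _ rfl)
  · have h0 : ((⟨(i : ℕ) - 1, by omega⟩ : Fin n) : ℕ) + 1 = (i : ℕ) := by
      show (i : ℕ) - 1 + 1 = i
      omega
    exact (hAB (h2 _ i h0)).2.trans (hV _ _ h0)

end Cfsg.Agent.S3711
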