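import Cfsg.Statements.S3713
import Cfsg.Agent.Lib.Lie.SpAmalgam.Completion

set_option autoImplicit false
open Cfsg

namespace Cfsg.Agent.S3713

open Cfsg.Agent.Lie.SpAmalgam

section
variable {n : ℕ} {F : Type*} [Field F] {H : Type*} [Group H]

/-- The graph of a homomorphism defined on a subgroup. -/
def graph {K : Subgroup (Sp n F)} (φ : ↥K →* H) : Subgroup (Sp n F × H) :=
  (K.subtype.prod φ).range

theorem mem_graph {K : Subgroup (Sp n F)} {φ : ↥K →* H} {x : Sp n F × H} :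
    x ∈ graph φ ↔ ∃ h : x.1 ∈ K, φ ⟨x.1, h⟩ = x.2 := by
  constructor
  · rintro ⟨k, rfl⟩
    exact ⟨k.2, rfl⟩
  · rintro ⟨h, e⟩
    exact ⟨⟨x.1, h⟩, Prod.ext rfl e⟩

theorem inj_sup_graph {K L : Subgroup (Sp n F)} (φ : ↥K →* H) (ψ : ↥L →* H)
    (Ψ : ↥(K ⊔ L) →* H)
    (h1 : ∀ (g : Sp n F) (hg : g ∈ K), Ψ ⟨g, Subgroup.mem_sup_left hg⟩ = φ ⟨g, hg⟩)
    (h2 : ∀ (g : Sp n F) (hg : g ∈ L), Ψ ⟨g, Subgroup.mem_sup_right hg⟩ = ψ ⟨g, hg⟩) :
    Inj (graph φ ⊔ graph ψ) := by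
  have hle : graph φ ⊔ graph ψ ≤ graph Ψ := by
    refine sup_le (fun x hx => ?_) fun x hx => ?_ <;> obtain ⟨h, e⟩ := mem_graph.1 hx
    · exact mem_graph.2 ⟨Subgroup.mem_sup_left h, (h1 _ h).trans e⟩
    · exact mem_graph.2 ⟨Subgroup.mem_sup_right h, (h2 _ h).trans e⟩
  intro x hx y hy he
  obtain ⟨h, e⟩ := mem_graph.1 (hle hx)
  obtain ⟨h', e'⟩ := mem_graph.1 (hle hy)
  refine Prod.ext he ?_
  rw [← e, ← e']
  congr 1
  exact Subtype.ext he

/-- `EdgeFix` as a subgroup. -/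
def edgeSub (i : Fin n) : Subgroup (Sp n F) where
  carrier := {g | EdgeFix i g}
  one_mem' := ⟨fun _ => act_one _, fun _ _ _ => act_one _⟩
  mul_mem' := fun hg hh => hg.mul hh
  inv_mem' := fun {g} hg =>
    ⟨fun k => by
      conv_lhs => rw [← hg.1 k]
      exact act_inv_act g _,
     fun k h1 h2 => by
      conv_lhs => rw [← hg.2 k h1 h2]
      exact act_inv_act g _⟩

/-- `PairFix` as a subgroup. -/
def pairSub (j : Fin n) : Subgroup (Sp n F) where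
  carrier := {g | PairFix j g}
  one_mem' := fun _ _ => ⟨act_one _, act_one _⟩
  mul_mem' := fun hg hh k hk =>
    ⟨by rw [act_mul, (hh k hk).1, (hg k hk).1], by rw [act_mul, (hh k hk).2, (hg k hk).2]⟩
  inv_mem' := fun {g} hg k hk =>
    ⟨by conv_lhs => rw [← (hg k hk).1]
        exact act_inv_act g _,
     by conv_lhs => rw [← (hg k hk).2]
        exact act_inv_act g _⟩

end

/-- A presentation of the symplectic group as the universal completion of an amalgam of small subgroups. Let F be a field with more than two elements, n ≥ 2, and Sp the group of 2n × 2n matrices over F preserving the standard alternating form, acting on column vectors; write e_k, f_k for the standard basis vectors of the two halves (a hyperbolic basis). For each k let S_k be the subgroup of Sp fixing e_l and f_l for all l ≠ k (a copy of SL(2, F) on the plane of e_k, f_k), and for each i with i + 1 < n let M_i be the subgroup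 fixing every e_l and fixing f_l for all l other than i, i+1 (an abelian group isomorphic to the additive group of F³). Then Sp is the universal completion of the amalgam formed by the S_k, the M_i and the subgroups generated by two of them: for every group H and homomorphisms σ_k : S_k → H, μ_i : M_i → H such that for each pair of these subgroups some homomorphism on the subgroup they generate restricts to the given ones, there is exactly one homomorphism Sp → H restricting to every σ_k and μ_i. -/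
theorem result
    (F : Type*) [Field F] (hF : ∃ a : F, a ≠ 0 ∧ a ≠ 1) (n : ℕ) (hn : 2 ≤ n)
    (S M : Fin n → Subgroup ↥(Matrix.symplecticGroup (Fin n) F))
    (hS : ∀ j : Fin n, S j = Subgroup.closure {A : ↥(Matrix.symplecticGroup (Fin n) F) | ∀ k : Fin n, k ≠ j →
      ((A : ↥(Matrix.symplecticGroup (Fin n) F)) : Matrix (Fin n ⊕ Fin n) (Fin n ⊕ Fin n) F).mulVec (Pi.single (Sum.inl k) (1 : F)) = (Pi.single (Sum.inl k) (1 : F)) ∧ ((A : ↥(Matrix.symplecticGroup (Fin n) F)) : Matrix (Fin n ⊕ Fin n) (Fin n ⊕ Fin n) F).mulVec (Pi.single (Sum.inr k) (1 : F)) = (Pi.single (Sum.inr k) (1 : F))})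
    (hM : ∀ i : Fin n, (i : ℕ) + 1 < n → M i = Subgroup.closure {A : ↥(Matrix.symplecticGroup (Fin n) F) |
      (∀ k : Fin n, ((A : ↥(Matrix.symplecticGroup (Fin n) F)) : Matrix (Fin n ⊕ Fin n) (Fin n ⊕ Fin n) F).mulVec (Pi.single (Sum.inl k) (1 : F)) = (Pi.single (Sum.inl k) (1 : F))) ∧
        ∀ k : Fin n, (k : ℕ) ≠ i → (k : ℕ) ≠ (i : ℕ) + 1 → ((A : ↥(Matrix.symplecticGroup (Fin n) F)) : Matrix (Fin n ⊕ Fin n) (Fin n ⊕ Fin n) F).mulVec (Pi.single (Sum.inr k) (1 : F)) = (Pi.single (Sum.inr k) (1 : F))})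
    {H : Type*} [Group H] (σ : ∀ j : Fin n, ↥(S j) →* H) (μ : ∀ i : Fin n, ↥(M i) →* H)
    (hSS : ∀ j l : Fin n, j ≠ l → ∃ Ψ : ↥(S j ⊔ S l) →* H,
      (∀ (g : ↥(Matrix.symplecticGroup (Fin n) F)) (hg : g ∈ S j), Ψ ⟨g, Subgroup.mem_sup_left hg⟩ = σ j ⟨g, hg⟩) ∧
        (∀ (g : ↥(Matrix.symplecticGroup (Fin n) F)) (hg : g ∈ S l), Ψ ⟨g, Subgroup.mem_sup_right hg⟩ = σ l ⟨g, hg⟩))
    (hMM : ∀ i i' : Fin n, i ≠ i' → (i : ℕ) + 1 < n → (i' : ℕ) + 1 < n → ∃ Ψ : ↥(M i ⊔ M i') →* H,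
      (∀ (g : ↥(Matrix.symplecticGroup (Fin n) F)) (hg : g ∈ M i), Ψ ⟨g, Subgroup.mem_sup_left hg⟩ = μ i ⟨g, hg⟩) ∧
        (∀ (g : ↥(Matrix.symplecticGroup (Fin n) F)) (hg : g ∈ M i'), Ψ ⟨g, Subgroup.mem_sup_right hg⟩ = μ i' ⟨g, hg⟩))
    (hMS : ∀ i j : Fin n, (i : ℕ) + 1 < n → ∃ Ψ : ↥(M i ⊔ S j) →* H,
      (∀ (g : ↥(Matrix.symplecticGroup (Fin n) F)) (hg : g ∈ M i), Ψ ⟨g, Subgroup.mem_sup_left hg⟩ = μ i ⟨g, hg⟩) ∧
        (∀ (g : ↥(Matrix.symplecticGroup (Fin n) F)) (hg : g ∈ S j), Ψ ⟨g, Subgroup.mem_sup_right hg⟩ = σ j ⟨g, hg⟩)) :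
    ∃! Φ : ↥(Matrix.symplecticGroup (Fin n) F) →* H,
      (∀ (j : Fin n) (g : ↥(Matrix.symplecticGroup (Fin n) F)) (hg : g ∈ S j), Φ g = σ j ⟨g, hg⟩) ∧
        (∀ (i : Fin n), (i : ℕ) + 1 < n → ∀ (g : ↥(Matrix.symplecticGroup (Fin n) F)) (hg : g ∈ M i), Φ g = μ i ⟨g, hg⟩) := by
  have hSmem : ∀ j g, g ∈ S j ↔ PairFix j g := by
    intro j g
    rw [hS j]
    exact ⟨fun h => (Subgroup.closure_le (K := pairSub j)).2 (fun A hA => hA) h,
      fun h => Subgroup.subset_closure h⟩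
  have hMmem : ∀ i : Fin n, (i : ℕ) + 1 < n → ∀ g, g ∈ M i ↔ EdgeFix i g := by
    intro i hi g
    rw [hM i hi]
    exact ⟨fun h => (Subgroup.closure_le (K := edgeSub i)).2 (fun A hA => hA) h,
      fun h => Subgroup.subset_closure h⟩
  let 𝒜 : Amalgam n F H :=
    { A := fun j => graph (σ j)
      M := fun i => graph (μ i)
      A_fix := fun j x hx => (hSmem j _).1 (mem_graph.1 hx).1
      A_surj := fun j g hg =>
        ⟨(g, σ j ⟨g, (hSmem j g).2 hg⟩), mem_graph.2 ⟨(hSmem j g).2 hg, rfl⟩, rfl⟩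
      M_fix := fun i hi x hx => (hMmem i hi _).1 (mem_graph.1 hx).1
      M_surj := fun i hi g hg =>
        ⟨(g, μ i ⟨g, (hMmem i hi g).2 hg⟩), mem_graph.2 ⟨(hMmem i hi g).2 hg, rfl⟩, rfl⟩
      injAA := fun j l h => by
        obtain ⟨Ψ, h1, h2⟩ := hSS j l h
        exact inj_sup_graph _ _ Ψ h1 h2
      injMM := fun i i' h hi hi' => by
        obtain ⟨Ψ, h1, h2⟩ := hMM i i' h hi hi'
        exact inj_sup_graph _ _ Ψ h1 h2
      injMA := fun i j hi => by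
        obtain ⟨Ψ, h1, h2⟩ := hMS i j hi
        exact inj_sup_graph _ _ Ψ h1 h2
      two := hn
      hF := Or.inl hF }
  obtain ⟨Φ, hΦ⟩ := 𝒜.exists_hom
  refine ⟨Φ, ⟨fun j g hg => ?_, fun i hi g hg => ?_⟩, ?_⟩
  · exact hΦ (g, σ j ⟨g, hg⟩) (𝒜.A_le_Gam j.isLt (mem_graph.2 ⟨hg, rfl⟩))
  · exact hΦ (g, μ i ⟨g, hg⟩) (𝒜.M_le_Gam hi hi (mem_graph.2 ⟨hg, rfl⟩))
  · rintro Φ' ⟨hA', hM'⟩
    refine 𝒜.hom_unique (fun j x hx => ?_) fun i hi x hx => ?_
    · obtain ⟨h, e⟩ := mem_graph.1 hx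
      rw [hA' j x.1 h, e]
      exact (hΦ x (𝒜.A_le_Gam j.isLt hx)).symm
    · obtain ⟨h, e⟩ := mem_graph.1 hx
      rw [hM' i hi x.1 h, e]
      exact (hΦ x (𝒜.M_le_Gam hi hi hx)).symm

end Cfsg.Agent.S3713
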