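import Cfsg.Statements.S3716
import Cfsg.Agent.Lib.Solv.ThreeLocal.DihSimple
import Cfsg.Agent.Lib.Solv.ThreeLocal.DihMake
import Cfsg.Agent.Lib.Solv.ThreeLocal.Make

set_option autoImplicit false
open Cfsg

namespace Cfsg.Agent.S3716

/-- Let G be a finite group with an elementary abelian Sylow 3-subgroup M of order 9 which is self-centralizing (C_G(M) = M), let N = N_G(M), and suppose C_G(g) ≤ N for every nonidentity g ∈ M. If the Sylow 2-subgroups of N are dihedral of order 8, then G is not simple. -/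
theorem result {G : Type*} [Group G] [Finite G] (M : Sylow 3 G) (hM9 : Nat.card ↥(M : Subgroup G) = 9)
    (hMel : ∀ m ∈ (M : Subgroup G), m ^ 3 = 1)
    (hCM : Subgroup.centralizer ((M : Subgroup G) : Set G) = (M : Subgroup G))
    (N : Subgroup G) (hN : N = Subgroup.normalizer ((M : Subgroup G) : Set G))
    (hCg : ∀ g ∈ (M : Subgroup G), g ≠ 1 → Subgroup.centralizer ({g} : Set G) ≤ N)
    (hS : ∀ S : Sylow 2 ↥N, Nonempty (↥(S : Subgroup ↥N) ≃* DihedralGroup 4)) :
    ¬ IsSimpleGroup G := by
  classical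
  intro hsimple
  haveI := Fintype.ofFinite G
  haveI : Fact (Nat.Prime 2) := ⟨Nat.prime_two⟩
  subst hN
  obtain ⟨X, hX⟩ := Solv.ThreeLocal.exists_ctx M rfl hM9 hMel hCg
  have hcent : Subgroup.centralizer (X.S : Set G) = X.S := by rw [hX]; exact hCM
  revert hS
  rw [← hX]
  intro hS
  obtain ⟨S2⟩ : Nonempty (Sylow 2 ↥(Subgroup.normalizer (X.S : Set G))) := inferInstance
  obtain ⟨e⟩ := hS S2
  have h8 : Nat.card S2 = 8 := by
    show Nat.card (S2 : Subgroup ↥(Subgroup.normalizer (X.S : Set G))) = 8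
    rw [Nat.card_congr e.toEquiv, DihedralGroup.nat_card]
  have h72 := X.card_normalizer_72 M hX.symm hcent S2 h8
  let φ : DihedralGroup 4 →* G :=
    ((Subgroup.subtype _).comp (S2 : Subgroup ↥(Subgroup.normalizer (X.S : Set G))).subtype).comp
      e.symm.toMonoidHom
  have hφ : Function.Injective φ :=
    (Subtype.val_injective.comp Subtype.val_injective).comp e.symm.injective
  obtain ⟨Y, -, D, -, -⟩ := Solv.ThreeLocal.exists_dih X hcent φ hφ (fun x => Subtype.coe_prop _) h72
  refine Solv.ThreeLocal.not_simple_of_dih ?_ D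
  intro hc
  have htop : Subgroup.centralizer ((M : Subgroup G) : Set G) = ⊤ :=
    eq_top_iff.2 fun g _ => Subgroup.mem_centralizer_iff.2 fun s _ => hc.is_comm.comm s g
  have hn : Subgroup.normalizer (X.S : Set G) = X.S := by
    rw [hX]
    exact le_antisymm (by rw [← hCM, htop]; exact le_top) Subgroup.le_normalizer
  rw [hn, X.card_S] at h72
  norm_num at h72

end Cfsg.Agent.S3716
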