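import Cfsg.Statements.S3733
import Cfsg.Agent.Lib.Solv.Coprime

set_option autoImplicit false
open Cfsg

open scoped Pointwise commutatorElement

namespace Cfsg.Agent.S3733

open scoped IsMulCommutative in
theorem norm_trick {G : Type*} [Group G] [Finite G] (A V : Subgroup G) (hVab : IsMulCommutative V)
    (hV : V ≠ ⊥) (hAV : A ≤ Subgroup.normalizer (V : Set G)) (𝒜 : Finset (Subgroup G))
    (hne : 𝒜.Nonempty) (hprop : ∀ B ∈ 𝒜, B < A)
    (hpart : ∀ a ∈ A, a ≠ 1 → ∃! B, B ∈ 𝒜 ∧ a ∈ B) (hk : (𝒜.card - 1).Coprime (Nat.card V)) :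
    ∃ B ∈ 𝒜, V ⊓ Subgroup.centralizer (B : Set G) ≠ ⊥ := by
  classical
  have : Fintype G := Fintype.ofFinite G
  by_contra hcon
  simp only [not_exists, not_and, not_not] at hcon
  let c : G → V → V := fun a v => if h : a ∈ A then
    ⟨a * v * a⁻¹, Solv.conj_mem_of_mem_normalizer (hAV h) v.2⟩ else 1
  let f : Subgroup G → V → V := fun B v => ∏ a ∈ Finset.univ.filter (fun a => a ∈ B), c a v
  have hc : ∀ a ∈ A, ∀ v : V, ((c a v : V) : G) = a * v * a⁻¹ := fun a ha v => by simp [c, dif_pos ha]
  have hfix : ∀ B : Subgroup G, B ≤ A → ∀ v : V, ∀ b ∈ B, c b (f B v) = f B v := by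
    intro B hB v b hb
    let cb : V →* V :=
      { toFun := c b
        map_one' := Subtype.ext (by rw [hc b (hB hb)]; simp)
        map_mul' := fun x y => Subtype.ext (by
          rw [hc b (hB hb), Subgroup.coe_mul, Subgroup.coe_mul, hc b (hB hb), hc b (hB hb)]; group) }
    show cb (f B v) = f B v
    simp only [f, map_prod]
    refine Finset.prod_equiv (Equiv.mulLeft b) (fun a => ?_) (fun a ha => ?_)
    · simp [B.mul_mem_cancel_left hb]
    · simp only [Finset.mem_filter, Finset.mem_univ, true_and] at ha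
      refine Subtype.ext ?_
      show ((c b (c a v) : V) : G) = (c (b * a) v : V)
      rw [hc b (hB hb), hc a (hB ha), hc (b * a) (hB (B.mul_mem hb ha))]
      group
  have htriv : ∀ B ∈ 𝒜, ∀ v : V, f B v = 1 := by
    intro B hB v
    have : ((f B v : V) : G) ∈ V ⊓ Subgroup.centralizer (B : Set G) := by
      refine ⟨(f B v).2, Subgroup.mem_centralizer_iff.2 fun b hb => ?_⟩
      have := congrArg Subtype.val (hfix B (hprop B hB).le v b hb)
      rw [hc b ((hprop B hB).le hb)] at this
      exact mul_inv_eq_iff_eq_mul.1 this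
    rw [hcon B hB, Subgroup.mem_bot] at this
    exact Subtype.ext this
  have htrivA : ∀ v : V, f A v = 1 := by
    intro v
    obtain ⟨B, hB⟩ := hne
    have : ((f A v : V) : G) ∈ V ⊓ Subgroup.centralizer (B : Set G) := by
      refine ⟨(f A v).2, Subgroup.mem_centralizer_iff.2 fun b hb => ?_⟩
      have := congrArg Subtype.val (hfix A le_rfl v b ((hprop B hB).le hb))
      rw [hc b ((hprop B hB).le hb)] at this
      exact mul_inv_eq_iff_eq_mul.1 this
    rw [hcon B hB, Subgroup.mem_bot] at this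
    exact Subtype.ext this
  refine hV (eq_bot_iff.2 fun x hx => ?_)
  set v : V := ⟨x, hx⟩
  let S : Subgroup G → Finset G := fun B => (Finset.univ.filter fun a => a ∈ B).erase 1
  have hc1 : c 1 v = v := Subtype.ext (by rw [hc 1 A.one_mem]; simp)
  have hsplit : ∀ B : Subgroup G, f B v = v * ∏ a ∈ S B, c a v := fun B => by
    simp only [f, S]
    rw [← Finset.mul_prod_erase _ _ (show (1 : G) ∈ _ by simp [B.one_mem]), hc1]
  have hdisj : (↑𝒜 : Set (Subgroup G)).PairwiseDisjoint S := by
    intro B hB C hC hBC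
    rw [Function.onFun, Finset.disjoint_left]
    intro a haB haC
    simp only [S, Finset.mem_erase, Finset.mem_filter, Finset.mem_univ, true_and] at haB haC
    exact hBC ((hpart a ((hprop B hB).le haB.2) haB.1).unique ⟨hB, haB.2⟩ ⟨hC, haC.2⟩)
  have hunion : S A = 𝒜.biUnion S := by
    ext a
    simp only [S, Finset.mem_biUnion, Finset.mem_erase, Finset.mem_filter, Finset.mem_univ, true_and]
    constructor
    · rintro ⟨h1, ha⟩
      obtain ⟨B, hB, -⟩ := hpart a ha h1
      exact ⟨B, hB.1, h1, hB.2⟩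
    · rintro ⟨B, hB, h1, ha⟩
      exact ⟨h1, (hprop B hB).le ha⟩
  have key : v ^ 𝒜.card * (∏ a ∈ S A, c a v) = 1 := by
    rw [hunion, Finset.prod_biUnion hdisj, ← Finset.prod_const, ← Finset.prod_mul_distrib]
    exact Finset.prod_eq_one fun B hB => by rw [← hsplit]; exact htriv B hB v
  have hA' := hsplit A
  rw [htrivA v] at hA'
  obtain ⟨k, hkc⟩ : ∃ k, 𝒜.card = k + 1 := ⟨𝒜.card - 1, by have := hne.card_pos; omega⟩
  rw [hkc, pow_succ, mul_assoc, ← hA', mul_one] at key
  rw [hkc, Nat.add_sub_cancel] at hk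
  have h1 : orderOf v = 1 :=
    Nat.eq_one_of_dvd_coprimes hk (orderOf_dvd_of_pow_eq_one key) (orderOf_dvd_natCard v)
  rw [orderOf_eq_one_iff] at h1
  exact Subgroup.mem_bot.2 (congrArg Subtype.val h1)

/-- Let A and V be subgroups of a finite group with V abelian and nontrivial and A normalizing V. Suppose a nonempty finite family of proper subgroups of A partitions A: every non-identity element of A lies in exactly one member. If the number of members minus one is coprime to the order of V, then some member B of the family has a non-identity fixed point on V, that is V ∩ C(B) ≠ 1. -/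
theorem result {G : Type*} [Group G] [Finite G] (A V : Subgroup G) (hVab : IsMulCommutative V) (hV : V ≠ ⊥) (hAV : A ≤ Subgroup.normalizer (V : Set G)) (𝒜 : Finset (Subgroup G)) (hne : 𝒜.Nonempty) (hprop : ∀ B ∈ 𝒜, B < A) (hpart : ∀ a ∈ A, a ≠ 1 → ∃! B, B ∈ 𝒜 ∧ a ∈ B) (hk : (𝒜.card - 1).Coprime (Nat.card V)) : ∃ B ∈ 𝒜, V ⊓ Subgroup.centralizer (B : Set G) ≠ ⊥ := by
  exact norm_trick A V hVab hV hAV 𝒜 hne hprop hpart hk

end Cfsg.Agent.S3733
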