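import Cfsg.Statements.S3735
import Cfsg.Agent.Lib.Solv.Basic

set_option autoImplicit false
open Cfsg

open scoped Pointwise commutatorElement

namespace Cfsg.Agent.S3735

/-- Clifford's Theorem for actions on finite abelian groups, first part. Let H and V be subgroups of a finite group with V abelian and H normalizing V, and let A be a normal subgroup of H. If every H-invariant subgroup of V has an H-invariant complement in V, then every A-invariant subgroup of V has an A-invariant complement in V. -/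
theorem result {G : Type*} [Group G] [Finite G] (H A V : Subgroup G) (hVab : IsMulCommutative V) (hHV : H ≤ Subgroup.normalizer (V : Set G)) (hAH : A ≤ H) (hAn : H ≤ Subgroup.normalizer (A : Set G)) (hss : ∀ U : Subgroup G, U ≤ V → H ≤ Subgroup.normalizer (U : Set G) → ∃ W : Subgroup G, W ≤ V ∧ H ≤ Subgroup.normalizer (W : Set G) ∧ U ⊓ W = ⊥ ∧ U ⊔ W = V) (U : Subgroup G) (hUV : U ≤ V) (hAU : A ≤ Subgroup.normalizer (U : Set G)) : ∃ W : Subgroup G, W ≤ V ∧ A ≤ Subgroup.normalizer (W : Set G) ∧ U ⊓ W = ⊥ ∧ U ⊔ W = V := by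
  classical
  let Inv : Subgroup G → Prop := fun M => M ≤ V ∧ A ≤ Subgroup.normalizer (M : Set G)
  have hsupV : ∀ M N : Subgroup G, Inv M → Inv N → Inv (M ⊔ N) := fun M N hM hN =>
    ⟨sup_le hM.1 hN.1, fun a ha => Solv.mem_normalizer_of_conj_smul (by
      rw [Subgroup.smul_sup, Solv.conj_smul_of_mem_normalizer (hM.2 ha),
        Solv.conj_smul_of_mem_normalizer (hN.2 ha)])⟩
  have hbot : ∀ X : Subgroup G, X ≤ Subgroup.normalizer ((⊥ : Subgroup G) : Set G) := fun X x _ =>
    Subgroup.mem_normalizer_iff.2 fun y => by simp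
  let IsMin : Subgroup G → Prop := fun M => Inv M ∧ M ≠ ⊥ ∧
    ∀ N : Subgroup G, Inv N → N ≤ M → N = ⊥ ∨ N = M
  have hexmin : ∀ N : Subgroup G, Inv N → N ≠ ⊥ → ∃ M, IsMin M ∧ M ≤ N := by
    intro N hN hNb
    obtain ⟨M, ⟨hM, hMN, hMb⟩, hmin⟩ := Set.Finite.exists_minimal
      (s := {M : Subgroup G | Inv M ∧ M ≤ N ∧ M ≠ ⊥}) (Set.toFinite _) ⟨N, hN, le_rfl, hNb⟩
    refine ⟨M, ⟨hM, hMb, fun K hK hKM => ?_⟩, hMN⟩
    rcases eq_or_ne K ⊥ with h | h
    · exact Or.inl h
    · exact Or.inr (le_antisymm hKM (hmin ⟨hK, hKM.trans hMN, h⟩ hKM))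
  set S : Subgroup G := sSup {M | IsMin M} with hS
  have hSV : S ≤ V := sSup_le fun M hM => hM.1.1
  have hSH : H ≤ Subgroup.normalizer (S : Set G) := by
    have hconj : ∀ h ∈ H, ∀ M, IsMin M → IsMin (MulAut.conj h • M) := by
      intro h hh M hM
      have hA : MulAut.conj h • A = A := Solv.conj_smul_of_mem_normalizer (hAn hh)
      have hV : MulAut.conj h • V = V := Solv.conj_smul_of_mem_normalizer (hHV hh)
      have tr : ∀ (g : G) (N : Subgroup G), MulAut.conj g • A = A → MulAut.conj g • V = V →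
          Inv N → Inv (MulAut.conj g • N) := by
        intro g N hgA hgV hN
        refine ⟨hgV ▸ Subgroup.pointwise_smul_le_pointwise_smul_iff.2 hN.1, fun a ha => ?_⟩
        obtain ⟨b, hb, rfl⟩ := (hgA.ge ha : a ∈ MulAut.conj g • A)
        refine Solv.mem_normalizer_of_conj_smul ?_
        show MulAut.conj (g * b * g⁻¹) • (MulAut.conj g • N) = MulAut.conj g • N
        rw [map_mul, map_mul, map_inv, mul_smul, mul_smul, inv_smul_smul,
          Solv.conj_smul_of_mem_normalizer (hN.2 hb)]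
      refine ⟨tr h M hA hV hM.1, fun e => hM.2.1 ?_, fun N hN hNM => ?_⟩
      · have := congrArg (fun K => (MulAut.conj h)⁻¹ • K) e
        simpa using this
      have h1 := tr h⁻¹ N (by rw [map_inv, inv_smul_eq_iff, hA]) (by rw [map_inv, inv_smul_eq_iff, hV]) hN
      rcases hM.2.2 _ h1 (by rw [map_inv]; exact Subgroup.pointwise_smul_subset_iff.2 (by simpa using hNM)) with e | e
      · left
        rw [map_inv, inv_smul_eq_iff] at e
        rw [e]; simp
      · right
        rw [map_inv, inv_smul_eq_iff] at e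
        exact e
    have hle : ∀ h ∈ H, MulAut.conj h • S ≤ S := fun h hh => by
      rw [Subgroup.pointwise_smul_subset_iff]
      refine sSup_le fun M hM => ?_
      rw [← Subgroup.pointwise_smul_le_pointwise_smul_iff (a := MulAut.conj h), smul_inv_smul]
      exact le_sSup (hconj h hh M hM)
    intro h hh
    refine Solv.mem_normalizer_of_conj_smul (le_antisymm (hle h hh) ?_)
    have h2 := hle h⁻¹ (inv_mem hh)
    rw [map_inv, Subgroup.pointwise_smul_subset_iff, inv_inv] at h2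
    exact h2
  have hSeq : S = V := by
    obtain ⟨W', hW'V, hW'H, hi, hs⟩ := hss S hSV hSH
    rcases eq_or_ne W' ⊥ with h | h
    · rwa [h, sup_bot_eq] at hs
    obtain ⟨M, hM, hMW⟩ := hexmin W' ⟨hW'V, hAH.trans hW'H⟩ h
    exact absurd (eq_bot_iff.2 (hi ▸ le_inf (le_sSup hM) hMW)) hM.2.1
  obtain ⟨W, ⟨hW, hWU⟩, hmax⟩ := Set.Finite.exists_maximal
    (s := {W : Subgroup G | Inv W ∧ U ⊓ W = ⊥}) (Set.toFinite _)
    ⟨⊥, ⟨bot_le, hbot A⟩, inf_bot_eq U⟩
  refine ⟨W, hW.1, hW.2, hWU, le_antisymm (sup_le hUV hW.1) ?_⟩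
  rw [← hSeq]
  refine sSup_le fun M hM => ?_
  by_contra hMX
  have hX : Inv (U ⊔ W) := hsupV U W ⟨hUV, hAU⟩ hW
  have hMi : M ⊓ (U ⊔ W) = ⊥ := by
    refine (hM.2.2 _ ⟨inf_le_left.trans hM.1.1, fun a ha => Solv.mem_normalizer_of_conj_smul (by
      rw [Subgroup.smul_inf, Solv.conj_smul_of_mem_normalizer (hM.1.2 ha),
        Solv.conj_smul_of_mem_normalizer (hX.2 ha)])⟩ inf_le_left).resolve_right fun e => hMX ?_
    rw [← e]; exact inf_le_right
  have hWM : U ⊓ (W ⊔ M) = ⊥ := by
    rw [eq_bot_iff]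
    intro u hu
    obtain ⟨huU, huWM⟩ := Subgroup.mem_inf.1 hu
    have hnorm : W ≤ Subgroup.normalizer (M : Set G) := fun w hw => by
      refine Subgroup.centralizer_le_normalizer _ (Subgroup.mem_centralizer_iff.2 fun m hm => ?_)
      exact setLike_mul_comm (hM.1.1 hm) (hW.1 hw)
    have : u ∈ ((W : Set G) * (M : Set G)) := by
      rw [← Subgroup.coe_mul_of_left_le_normalizer_right W M hnorm]; exact huWM
    obtain ⟨w, hw, m, hm, rfl⟩ := this
    have h1 : m ∈ M ⊓ (U ⊔ W) := ⟨hm, by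
      have := mul_mem (Subgroup.mem_sup_right (S := U) (inv_mem (show w ∈ W from hw)))
        (Subgroup.mem_sup_left (T := W) huU)
      simpa using this⟩
    rw [hMi, Subgroup.mem_bot] at h1
    subst h1
    show w * 1 ∈ (⊥ : Subgroup G)
    rw [mul_one, ← hWU]
    exact ⟨by simpa using huU, hw⟩
  exact hMX ((le_sup_right.trans (hmax ⟨hsupV W M hW hM.1, hWM⟩ le_sup_left)).trans le_sup_right)

end Cfsg.Agent.S3735
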