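import Cfsg.Statements.S3737
import Cfsg.Agent.Lib.Solv.Baer
import Cfsg.Agent.Lib.Solv.Basic
import Cfsg.Agent.Lib.Char.Glauberman
import Cfsg.Agent.Lib.Fusion.NPC
import Mathlib

set_option autoImplicit false
set_option linter.style.haveILetI false
open Cfsg

open scoped Pointwise commutatorElement

namespace Cfsg.Agent.S3737

theorem aux {X : Type*} [Group X] [Finite X] {p : ℕ} [Fact p.Prime] (hp : p ≠ 2) (P Q : Subgroup X)
    (hP : IsPGroup p P) (hQ : (Nat.card Q).Coprime p) (hPQ : P ≤ Subgroup.normalizer (Q : Set X)) :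
    ∀ (N : ℕ) (G : Subgroup X), Nat.card G = N → IsPGroup p G →
      P ≤ Subgroup.normalizer (G : Set X) → Q ≤ Subgroup.normalizer (G : Set X) →
      G ⊓ Subgroup.centralizer (P : Set X) ≤ Subgroup.centralizer (Q : Set X) →
      G ≤ Subgroup.centralizer (Q : Set X) := by
  intro N
  induction N using Nat.strong_induction_on with
  | _ N ih =>
  intro G hN hG hPG hQG hC
  obtain ⟨k, hk⟩ := IsPGroup.iff_card.1 hG
  have hconj : ∀ (H : Subgroup X) (x : X), x ∈ Subgroup.normalizer (H : Set X) →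
      MulAut.conj x • H = H := fun H x hx => Solv.conj_smul_of_mem_normalizer hx
  have hcomm_inv : ∀ (A B : Subgroup X) (x : X), x ∈ Subgroup.normalizer (A : Set X) →
      x ∈ Subgroup.normalizer (B : Set X) → x ∈ Subgroup.normalizer ((⁅A, B⁆ : Subgroup X) : Set X) := by
    intro A B x hA hB
    refine Solv.mem_normalizer_of_conj_smul ?_
    rw [Solv.conj_smul_eq_map, Subgroup.map_commutator, ← Solv.conj_smul_eq_map,
      ← Solv.conj_smul_eq_map, hconj A x hA, hconj B x hB]
  have hrec : ∀ H : Subgroup X, H ≤ G → H ≠ G → P ≤ Subgroup.normalizer (H : Set X) →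
      Q ≤ Subgroup.normalizer (H : Set X) → H ≤ Subgroup.centralizer (Q : Set X) := fun H hH hne hPH hQH =>
    ih _ (hN ▸ Solv.card_lt_of_lt (lt_of_le_of_ne hH hne)) H rfl (hG.to_le hH) hPH hQH
      ((inf_le_inf_right _ hH).trans hC)
  set D := ⁅G, Q⁆ with hD
  have hDG : D ≤ G := Subgroup.commutator_le.2 fun g hg q hq => by
    rw [commutatorElement_def, mul_assoc, mul_assoc, ← mul_assoc q]
    exact mul_mem hg ((Subgroup.mem_normalizer_iff.1 (hQG hq) _).1 (inv_mem hg))
  by_cases hDe : D = G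
  swap
  · have hDc : D ≤ Subgroup.centralizer (Q : Set X) := hrec D hDG hDe
      (fun x hx => hcomm_inv G Q x (hPG hx) (hPQ hx))
      (fun x hx => hcomm_inv G Q x (hQG hx) (Subgroup.le_normalizer hx))
    intro g hg
    rw [Subgroup.mem_centralizer_iff]
    intro q hq
    set c := ⁅g, q⁆ with hc
    have hcD : c ∈ D := Subgroup.commutator_mem_commutator hg hq
    have hcq : Commute q c := Subgroup.mem_centralizer_iff.1 (hDc hcD) q hq
    have hpow : ∀ j : ℕ, q ^ j * g * (q ^ j)⁻¹ = c⁻¹ ^ j * g := by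
      intro j
      induction j with
      | zero => simp
      | succ j ihj =>
        rw [pow_succ' q, show q * q ^ j * g * (q * q ^ j)⁻¹ = q * (q ^ j * g * (q ^ j)⁻¹) * q⁻¹ by group,
          ihj, ← mul_assoc q, (hcq.inv_right.pow_right j).eq, pow_succ,
          hc, commutatorElement_def]
        group
    have h1 : c ^ orderOf q = 1 := by
      have h := hpow (orderOf q)
      rw [pow_orderOf_eq_one, one_mul, inv_one, mul_one, inv_pow] at h
      exact inv_eq_one.1 (mul_eq_right.1 h.symm)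
    have h2 : c ^ Nat.card G = 1 := orderOf_dvd_iff_pow_eq_one.1
      (Subgroup.orderOf_dvd_natCard G (hDG hcD))
    have h3 := pow_gcd_eq_one.2 ⟨h1, h2⟩
    rw [hk, Nat.Coprime.gcd_eq_one ((hQ.coprime_dvd_left
      (Subgroup.orderOf_dvd_natCard Q hq)).pow_right k), pow_one] at h3
    exact (commutatorElement_eq_one_iff_mul_comm.1 h3).symm
  -- `[G, Q] = G`
  set G' := ⁅G, G⁆ with hG'
  have hG'G : G' ≤ G := Subgroup.commutator_le_self G
  by_cases hGb : G = ⊥
  · rw [hGb]; exact bot_le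
  have hG'ne : G' ≠ G := by
    intro h
    haveI := hG.isNilpotent
    refine hGb ?_
    have ht : (⊤ : Subgroup G) = ⊥ := Fusion.eq_bot_of_le_commutator_top (G := G) (by
      rw [← Subgroup.map_le_map_iff_of_injective G.subtype_injective, Subgroup.map_commutator,
        ← MonoidHom.range_eq_map, Subgroup.range_subtype]
      exact h.ge)
    rw [← G.range_subtype, MonoidHom.range_eq_map, ht, Subgroup.map_bot]
  have hG'C : G' ≤ Subgroup.centralizer (Q : Set X) := hrec G' hG'G hG'ne
    (fun x hx => hcomm_inv G G x (hPG hx) (hPG hx))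
    (fun x hx => hcomm_inv G G x (hQG hx) (hQG hx))
  have hcentral : ⁅⁅Q, G⁆, G'⁆ = ⊥ := by
    refine Subgroup.commutator_commutator_eq_bot_of_rotate ?_ ?_
    · rw [eq_bot_iff]
      refine (Subgroup.commutator_mono (H₂ := Q) (K₁ := G') ?_ le_rfl).trans
        (Subgroup.commutator_eq_bot_iff_le_centralizer.2 hG'C).le
      exact Subgroup.commutator_mono le_rfl hG'G
    · rw [Subgroup.commutator_eq_bot_iff_le_centralizer.2 hG'C]
      exact Subgroup.commutator_bot_left _
  rw [Subgroup.commutator_comm Q G, ← hD, hDe, Subgroup.commutator_eq_bot_iff_le_centralizer] at hcentral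
  have hz : ∀ a b c : G, Commute ⁅a, b⁆ c := fun a b c => Subtype.ext
    ((Subgroup.mem_centralizer_iff.1 (hcentral c.2) _
      (Subgroup.commutator_mem_commutator a.2 b.2)))
  have hodd : Odd (Nat.card G) := hk ▸ ((Fact.out : p.Prime).odd_of_ne_two hp).pow
  obtain ⟨m, hm⟩ := hodd
  letI : CommGroup (Solv.Baer G) := Solv.baerGroup hz (m + 1) fun a b => by
    rw [show 2 * (m + 1) = Nat.card G + 1 by omega, pow_succ, pow_card_eq_one', one_mul]
  have := Fintype.ofFinite Q
  have : Finite (Solv.Baer G) := Finite.of_equiv G ⟨fun g => ⟨g⟩, fun b => b.val, fun _ => rfl, fun _ => rfl⟩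
  let act : ∀ x : X, x ∈ Subgroup.normalizer (G : Set X) → (G →* G) := fun x hx =>
    { toFun := fun g => ⟨x * g * x⁻¹, (Subgroup.mem_normalizer_iff.1 hx g).1 g.2⟩
      map_one' := Subtype.ext (by simp)
      map_mul' := fun a b => Subtype.ext (show x * ((a : X) * b) * x⁻¹ = (x * a * x⁻¹) * (x * b * x⁻¹) by group) }
  let σ : ∀ x : X, x ∈ Subgroup.normalizer (G : Set X) → (Solv.Baer G →* Solv.Baer G) := fun x hx =>
    MonoidHom.mk' (fun b => ⟨act x hx b.val⟩) fun a b => Solv.Baer.ext (by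
      show act x hx (a.val * b.val * ⁅b.val, a.val⁆ ^ (m + 1)) =
        act x hx a.val * act x hx b.val * ⁅act x hx b.val, act x hx a.val⁆ ^ (m + 1)
      rw [map_mul, map_mul, map_pow, map_commutatorElement])
  have hval : ∀ x hx (b : Solv.Baer G), ((σ x hx b).val : X) = x * (b.val : X) * x⁻¹ := fun x hx b => rfl
  let τ : Solv.Baer G →* Solv.Baer G := ∏ q : Q, σ q (hQG q.2)
  have hτ : ∀ b, τ b = ∏ q : Q, σ q (hQG q.2) b := fun b => MonoidHom.finsetProd_apply _ _ b
  have hτfix : ∀ (q₀ : Q) b, σ q₀ (hQG q₀.2) (τ b) = τ b := by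
    intro q₀ b
    rw [hτ, map_prod]
    refine Fintype.prod_equiv (Equiv.mulLeft q₀) _ _ fun q => Solv.Baer.ext (Subtype.ext ?_)
    simp only [hval, Equiv.coe_mulLeft, Subgroup.coe_mul]
    group
  have hker : τ.ker = ⊥ := by
    by_contra hne
    set K := τ.ker with hK
    set A : Set X := {g | ∃ h : g ∈ G, (⟨⟨g, h⟩⟩ : Solv.Baer G) ∈ K ∧ g ≠ 1} with hA
    have hcardA : ¬ p ∣ Nat.card A := by
      have e : Nat.card A = Nat.card {b : K // b ≠ 1} := by
        refine Nat.card_congr ⟨fun a => ⟨⟨⟨⟨a.1, a.2.1⟩⟩, a.2.2.1⟩, fun h => a.2.2.2 ?_⟩,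
          fun b => ⟨(b.1.1.val : X), (b.1.1.val).2, b.1.2, fun h => b.2 ?_⟩, fun a => rfl, fun b => rfl⟩
        · exact congrArg (fun b : K => ((b : Solv.Baer G).val : X)) h
        · exact Subtype.ext (Solv.Baer.ext (Subtype.ext h))
      classical
      have := Fintype.ofFinite K
      rw [e, Nat.card_eq_fintype_card, Fintype.card_subtype_compl, Fintype.card_subtype_eq,
        ← Nat.card_eq_fintype_card]
      have hBc : Nat.card (Solv.Baer G) = p ^ k := by
        rw [← hk]; exact Nat.card_congr ⟨fun b => b.val, fun g => ⟨g⟩, fun _ => rfl, fun _ => rfl⟩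
      obtain ⟨j, -, hj⟩ := (Nat.dvd_prime_pow Fact.out).1 (hBc ▸ K.card_subgroup_dvd_card)
      have hj0 : j ≠ 0 := by
        rintro rfl
        exact hne (Subgroup.card_eq_one.1 (by rw [hj, pow_zero]))
      rw [hj]
      intro hd
      have h11 : p ∣ p ^ j - (p ^ j - 1) := Nat.dvd_sub (dvd_pow_self p hj0) hd
      rw [Nat.sub_sub_self (Nat.one_le_pow _ _ (Fact.out : p.Prime).pos)] at h11
      exact (Fact.out : p.Prime).ne_one (Nat.dvd_one.1 h11)
    obtain ⟨a, ⟨haG, haK, ha1⟩, hfix⟩ := Char.exists_fixed_of_card (S := P)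
      ((MulAut.conj : X →* MulAut X).comp P.subtype) Fact.out hP A (by
        rintro s a ⟨haG, haK, ha1⟩
        refine ⟨(Subgroup.mem_normalizer_iff.1 (hPG s.2) a).1 haG, ?_, fun h => ha1
          ((map_eq_one_iff _ (MulEquiv.injective _)).1 h)⟩
        have h1 : τ (σ s (hPG s.2) ⟨⟨a, haG⟩⟩) = σ s (hPG s.2) (τ ⟨⟨a, haG⟩⟩) := by
          rw [hτ, hτ, map_prod]
          let e : Q ≃ Q :=
            { toFun := fun q => ⟨(s : X)⁻¹ * q * s, by
                simpa using (Subgroup.mem_normalizer_iff.1 (hPQ (inv_mem s.2)) q).1 q.2⟩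
              invFun := fun q => ⟨s * q * (s : X)⁻¹, (Subgroup.mem_normalizer_iff.1 (hPQ s.2) q).1 q.2⟩
              left_inv := fun q => Subtype.ext (show (s : X) * ((s : X)⁻¹ * q * s) * (s : X)⁻¹ = q by group)
              right_inv := fun q => Subtype.ext (show (s : X)⁻¹ * (s * q * (s : X)⁻¹) * s = q by group) }
          refine Fintype.prod_equiv e _ _ fun q => Solv.Baer.ext (Subtype.ext ?_)
          show (q : X) * ((s : X) * a * (s : X)⁻¹) * (q : X)⁻¹ =
            (s : X) * (((s : X)⁻¹ * q * s) * a * ((s : X)⁻¹ * q * s)⁻¹) * (s : X)⁻¹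
          group
        show τ (σ s (hPG s.2) ⟨⟨a, haG⟩⟩) = 1
        rw [h1, MonoidHom.mem_ker.1 haK, map_one]) hcardA
    have haQ : a ∈ Subgroup.centralizer (Q : Set X) := hC ⟨haG, Subgroup.mem_centralizer_iff.2 fun s hs =>
      mul_inv_eq_iff_eq_mul.1 (hfix ⟨s, hs⟩)⟩
    have h2 : (⟨⟨a, haG⟩⟩ : Solv.Baer G) ^ Nat.card Q = 1 := by
      rw [← MonoidHom.mem_ker.1 haK, hτ, Finset.prod_eq_pow_card (b := (⟨⟨a, haG⟩⟩ : Solv.Baer G))]
      · rw [Finset.card_univ, Nat.card_eq_fintype_card]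
      · intro q _
        refine Solv.Baer.ext (Subtype.ext ?_)
        show (q : X) * a * (q : X)⁻¹ = a
        rw [Subgroup.mem_centralizer_iff.1 haQ q q.2, mul_inv_cancel_right]
    have h3 := pow_gcd_eq_one.2 ⟨h2, pow_card_eq_one'⟩
    rw [show Nat.card (Solv.Baer G) = p ^ k from hk ▸ Nat.card_congr
      ⟨fun b => b.val, fun g => ⟨g⟩, fun _ => rfl, fun _ => rfl⟩,
      Nat.Coprime.gcd_eq_one (hQ.pow_right k), pow_one] at h3
    exact ha1 (congrArg (fun b : Solv.Baer G => (b.val : X)) h3)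
  have hsurj : Function.Surjective τ :=
    Finite.injective_iff_surjective.1 ((MonoidHom.ker_eq_bot_iff τ).1 hker)
  intro g hg
  rw [Subgroup.mem_centralizer_iff]
  intro q hq
  obtain ⟨b, hb⟩ := hsurj ⟨⟨g, hg⟩⟩
  have h4 := hτfix ⟨q, hq⟩ b
  rw [hb] at h4
  exact mul_inv_eq_iff_eq_mul.1 (congrArg (fun b : Solv.Baer G => (b.val : X)) h4)

/-- Thompson's strengthening of the P × Q lemma for odd primes. Let p be an odd prime and let P, Q and G be subgroups of a finite group with P a p-group, Q of order prime to p and normalized by P, and G a p-group normalized by both P and Q. If every element of G centralized by P is centralized by Q, then Q centralizes G. -/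
theorem result {X : Type*} [Group X] [Finite X] {p : ℕ} [Fact p.Prime] (hp : p ≠ 2) (P Q G : Subgroup X) (hP : IsPGroup p P) (hQ : (Nat.card Q).Coprime p) (hPQ : P ≤ Subgroup.normalizer (Q : Set X)) (hG : IsPGroup p G) (hPG : P ≤ Subgroup.normalizer (G : Set X)) (hQG : Q ≤ Subgroup.normalizer (G : Set X)) (hC : G ⊓ Subgroup.centralizer (P : Set X) ≤ Subgroup.centralizer (Q : Set X)) : Q ≤ Subgroup.centralizer (G : Set X) := by
  exact Subgroup.le_centralizer_iff.1 (aux hp P Q hP hQ hPQ _ G rfl hG hPG hQG hC)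

end Cfsg.Agent.S3737
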