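import Cfsg.Statements.S3738
import Cfsg.Agent.S3736
import Cfsg.Agent.Lib.Solv.Quad
import Cfsg.Agent.Lib.Solv.PGroupPhi

set_option autoImplicit false
set_option linter.style.haveILetI false
open Cfsg

open scoped Pointwise commutatorElement

namespace Cfsg.Agent.S3738

universe u

theorem free_card_dvd {H : Type*} {Y : Type*} [Group H] [MulAction H Y] [Finite Y]
    (h : ∀ (g : H) (y : Y), g • y = y → g = 1) : Nat.card H ∣ Nat.card Y := by
  have e := MulAction.selfEquivOrbitsQuotientProd (G := H) (X := Y) fun y =>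
    (Subgroup.eq_bot_iff_forall _).2 fun g hg => h g y hg
  exact ⟨_, by rw [Nat.card_congr e, Nat.card_prod, mul_comm]⟩

theorem pow_fixed_dvd {Y : Type*} {n : ℕ} (σ : Equiv.Perm Y) (hσ : σ ^ (3 ^ (n + 1)) = 1) (y : Y)
    (hy : (σ ^ (3 ^ n)) y ≠ y) (a : ℕ) (ha : (σ ^ a) y = y) : 3 ^ (n + 1) ∣ a := by
  have h1 : Function.IsPeriodicPt σ (3 ^ (n + 1)) y := by
    show σ^[3 ^ (n + 1)] y = y
    rw [← Equiv.Perm.coe_pow, hσ]; rfl
  obtain ⟨j, hj, hjm⟩ := (Nat.dvd_prime_pow Nat.prime_three).1 h1.minimalPeriod_dvd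
  have hj' : j = n + 1 := by
    by_contra hne
    refine hy ?_
    rw [Equiv.Perm.coe_pow]
    refine Function.isPeriodicPt_iff_minimalPeriod_dvd.2 ?_
    rw [hjm]
    exact pow_dvd_pow 3 (by omega)
  rw [← hj', ← hjm]
  refine Function.IsPeriodicPt.minimalPeriod_dvd ?_
  show σ^[a] y = y
  rw [← Equiv.Perm.coe_pow, ha]

theorem pow_le_card {Y : Type*} [Finite Y] {n : ℕ} (σ : Equiv.Perm Y) (hσ : σ ^ (3 ^ (n + 1)) = 1)
    (y : Y) (hy : (σ ^ (3 ^ n)) y ≠ y) : 3 ^ (n + 1) ≤ Nat.card Y := by
  haveI := Fintype.ofFinite Y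
  rw [Nat.card_eq_fintype_card, ← Fintype.card_fin (3 ^ (n + 1))]
  refine Fintype.card_le_of_injective (fun a : Fin (3 ^ (n + 1)) => (σ ^ (a : ℕ)) y) ?_
  suffices key : ∀ a b : Fin (3 ^ (n + 1)), (a : ℕ) ≤ b →
      (σ ^ (a : ℕ)) y = (σ ^ (b : ℕ)) y → a = b by
    intro a b hab
    rcases le_total (a : ℕ) b with h | h
    · exact key a b h hab
    · exact (key b a h hab.symm).symm
  intro a b hle hab
  obtain ⟨c, hc⟩ := Nat.exists_eq_add_of_le hle
  have h1 : (σ ^ c) y = y := by
    apply (σ ^ (a : ℕ)).injective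
    rw [← Equiv.Perm.mul_apply, ← pow_add, ← hc]
    exact hab.symm
  have h2 := pow_fixed_dvd σ hσ y hy c h1
  have h3 : c = 0 := Nat.eq_zero_of_dvd_of_lt h2 (by omega)
  exact Fin.ext (by omega)

theorem pow_dvd_card {Y : Type*} [Finite Y] {n : ℕ} (σ : Equiv.Perm Y) (hσ : σ ^ (3 ^ (n + 1)) = 1)
    (hfree : ∀ y, (σ ^ (3 ^ n)) y ≠ y) : 3 ^ (n + 1) ∣ Nat.card Y := by
  rcases isEmpty_or_nonempty Y with hY | ⟨⟨y₀⟩⟩
  · simp
  have hord : orderOf σ = 3 ^ (n + 1) := by
    refine Nat.dvd_antisymm (orderOf_dvd_of_pow_eq_one hσ)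
      (pow_fixed_dvd σ hσ y₀ (hfree y₀) _ ?_)
    rw [pow_orderOf_eq_one]; rfl
  have h := free_card_dvd (H := Subgroup.zpowers σ) (Y := Y) ?_
  · rwa [Nat.card_zpowers, hord] at h
  rintro ⟨g, hg⟩ y hgy
  obtain ⟨a, rfl⟩ := (IsOfFinOrder.mem_powers_iff_mem_zpowers (isOfFinOrder_of_finite σ)).2 hg
  obtain ⟨k, rfl⟩ := pow_fixed_dvd σ hσ y (hfree y) a hgy
  refine Subtype.ext ?_
  show σ ^ (3 ^ (n + 1) * k) = 1
  rw [pow_mul, hσ, one_pow]

/-- The permutation of `P ⧸ K` induced by an automorphism, for a characteristic subgroup `K`. -/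
def permQuot {P : Type u} [Group P] (K : Subgroup P) [K.Normal] [K.Characteristic] :
    MulAut P →* Equiv.Perm (P ⧸ K) where
  toFun φ := (QuotientGroup.congr K K φ (Subgroup.characteristic_iff_map_eq.1 inferInstance φ)).toEquiv
  map_one' := by
    refine Equiv.ext fun w => ?_
    induction w using QuotientGroup.induction_on with | _ z => rfl
  map_mul' φ ψ := by
    refine Equiv.ext fun w => ?_
    induction w using QuotientGroup.induction_on with | _ z => rfl

theorem permQuot_mk {P : Type u} [Group P] (K : Subgroup P) [K.Normal] [K.Characteristic]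
    (φ : MulAut P) (z : P) : permQuot K φ (z : P ⧸ K) = ((φ z : P) : P ⧸ K) := rfl

theorem rank_card {X : Type u} [Group X] {P : Subgroup X}
    (hrank : ∀ V : Subgroup X, V ≤ P → IsMulCommutative V → Cfsg.PRankLE 2 2 V)
    (P0 : Subgroup X) (h0 : P0 ≤ P) (V : Subgroup ↥P0)
    (hVc : ∀ a ∈ V, ∀ b ∈ V, a * b = b * a) (hV2 : ∀ a ∈ V, a ^ 2 = 1) : Nat.card V ≤ 4 := by
  obtain ⟨W, hW⟩ : ∃ W, W = V.map P0.subtype := ⟨_, rfl⟩
  have hWc : IsMulCommutative W := ⟨⟨fun a b => by
    obtain ⟨a, ha⟩ := a; obtain ⟨b, hb⟩ := b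
    rw [hW] at ha hb
    obtain ⟨a', ha', rfl⟩ := ha
    obtain ⟨b', hb', rfl⟩ := hb
    exact Subtype.ext (congrArg P0.subtype (hVc a' ha' b' hb'))⟩⟩
  have h := hrank W (hW ▸ (Subgroup.map_subtype_le V).trans h0) hWc ⊤ inferInstance ?_
  · rw [Subgroup.card_top, hW, Subgroup.card_map_of_injective P0.subtype_injective] at h
    exact h
  rintro ⟨a, ha⟩ -
  rw [hW] at ha
  obtain ⟨a', ha', rfl⟩ := ha
  refine Subtype.ext ?_
  show P0.subtype a' ^ 2 = 1
  rw [← map_pow, hV2 a' ha', map_one]

/-- Let d be a non-identity 3-element of a finite group and P a 2-subgroup normalized by d on which ⟨d⟩ acts faithfully (no non-identity power of d centralizes P) and without non-identity fixed points (C_P(d) = 1). If every abelian subgroup of P has 2-rank at most 2, then d has order 3. -/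
theorem result {X : Type*} [Group X] [Finite X] (d : X) (n : ℕ) (hn : 1 ≤ n) (hd : orderOf d = 3 ^ n) (P : Subgroup X) (hP : IsPGroup 2 P) (hdP : d ∈ Subgroup.normalizer (P : Set X)) (hfaith : Subgroup.zpowers d ⊓ Subgroup.centralizer (P : Set X) = ⊥) (hfpf : P ⊓ Subgroup.centralizer {d} = ⊥) (hrank : ∀ V : Subgroup X, V ≤ P → IsMulCommutative V → Cfsg.PRankLE 2 2 V) : orderOf d = 3 := by
  by_contra hcon
  obtain ⟨n, rfl⟩ : ∃ k, n = k + 1 := ⟨n - 1, by omega⟩
  have hn2 : 1 ≤ n := by
    rcases Nat.eq_zero_or_pos n with rfl | h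
    · exact absurd (by simpa using hd) hcon
    · exact h
  have h9 : 9 ≤ 3 ^ (n + 1) := by
    calc 9 = 3 ^ 2 := by norm_num
      _ ≤ _ := Nat.pow_le_pow_right (by norm_num) (by omega)
  obtain ⟨e, he⟩ : ∃ e, e = d ^ (3 ^ n) := ⟨_, rfl⟩
  have heord : orderOf e = 3 := by
    rw [he, orderOf_pow' d (by positivity), hd, Nat.gcd_eq_right (pow_dvd_pow 3 (Nat.le_succ n)),
      pow_succ, Nat.mul_div_cancel_left 3 (by positivity)]
  have heB : e ∈ Subgroup.zpowers d := he ▸ Subgroup.npow_mem_zpowers d _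
  have hPe : ⁅P, Subgroup.zpowers e⁆ ≠ ⊥ := by
    intro h
    have hec : e ∈ Subgroup.centralizer (P : Set X) := by
      refine Subgroup.mem_centralizer_iff.2 fun x hx => ?_
      rw [← commutatorElement_eq_one_iff_mul_comm, ← Subgroup.mem_bot, ← h]
      exact Subgroup.commutator_mem_commutator hx (Subgroup.mem_zpowers e)
    have : e = 1 := by
      rw [← Subgroup.mem_bot, ← hfaith]; exact Subgroup.mem_inf.2 ⟨heB, hec⟩
    rw [this, orderOf_one] at heord
    exact absurd heord (by norm_num)
  obtain ⟨P0, hP0P, ⟨hdP0, hne⟩, hmin⟩ := Finite.exists_le_minimal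
    (p := fun U : Subgroup X => Subgroup.zpowers d ≤ Subgroup.normalizer (U : Set X) ∧
      ⁅U, Subgroup.zpowers e⁆ ≠ ⊥) (a := P) ⟨(Subgroup.zpowers_le).2 hdP, hPe⟩
  have hBA : Subgroup.zpowers d ≤ Subgroup.normalizer (Subgroup.zpowers e : Set X) := by
    intro b hb
    obtain ⟨a, rfl⟩ := Subgroup.mem_zpowers_iff.1 hb
    rw [Subgroup.mem_normalizer_iff]
    intro x
    have hc : ∀ y ∈ Subgroup.zpowers e, d ^ a * y * (d ^ a)⁻¹ = y := by
      intro y hy
      obtain ⟨k, rfl⟩ := Subgroup.mem_zpowers_iff.1 hy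
      rw [he, mul_inv_eq_iff_eq_mul]
      exact ((Commute.refl d).zpow_left a).pow_right _ |>.zpow_right k
    constructor
    · intro hx
      rw [hc x hx]; exact hx
    · intro hx
      have h1 := hc _ hx
      have h2 : x = d ^ a * x * (d ^ a)⁻¹ := by
        have := congrArg (fun z => (d ^ a)⁻¹ * z * d ^ a) h1
        simp only [mul_assoc, inv_mul_cancel_left, inv_mul_cancel, mul_one] at this
        rw [← mul_assoc (d ^ a)] at this
        exact this.symm
      rw [h2]; exact hx
  have hP0 : IsPGroup 2 P0 := hP.to_le hP0P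
  have hAco : (Nat.card (Subgroup.zpowers e)).Coprime 2 := by rw [Nat.card_zpowers, heord]; norm_num
  obtain ⟨hcomm, hshape, hirr, -⟩ := Cfsg.Agent.S3736.result (p := 2) (Subgroup.zpowers d)
    (Subgroup.zpowers e) P0 hP0 hdP0 ((Subgroup.zpowers_le).2 heB) hBA hAco hne
    (fun U hU hUB => by
      by_contra h
      exact hU.not_ge (hmin ⟨hUB, h⟩ hU.le))
  obtain ⟨δ, hδ⟩ : ∃ δ : MulAut P0, ∀ z : P0, ((δ z : P0) : X) = d * z * d⁻¹ :=
    ⟨Subgroup.normalizerMonoidHom P0 ⟨d, hdP0 (Subgroup.mem_zpowers d)⟩, fun z => rfl⟩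
  have hδpow : ∀ (a : ℕ) (z : P0), (((δ ^ a) z : P0) : X) = d ^ a * z * (d ^ a)⁻¹ := by
    intro a
    induction a with
    | zero => intro z; simp
    | succ a ih =>
      intro z
      rw [pow_succ, MulAut.mul_apply, ih, hδ, pow_succ]
      group
  have hδ1 : δ ^ (3 ^ (n + 1)) = 1 := by
    refine MulEquiv.ext fun z => Subtype.ext ?_
    rw [hδpow, ← hd, pow_orderOf_eq_one]
    simp
  rcases hshape with hel | hsp
  · -- elementary abelian case
    have h4 : Nat.card P0 ≤ 4 := by
      rw [← Subgroup.card_top]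
      refine rank_card hrank P0 hP0P ⊤ (fun a _ b _ => ?_) fun a _ => Subtype.ext ?_
      · haveI := hel.1
        exact IsMulCommutative.is_comm.comm a b
      · rw [SubmonoidClass.coe_pow]; exact hel.2 a a.2
    obtain ⟨z, hz⟩ : ∃ z : P0, (δ ^ (3 ^ n)) z ≠ z := by
      by_contra h
      push Not at h
      refine hne (Subgroup.commutator_eq_bot_iff_le_centralizer.2 ?_)
      refine Subgroup.le_centralizer_iff.1 ((Subgroup.zpowers_le).2 ?_)
      refine Subgroup.mem_centralizer_iff.2 fun x hx => ?_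
      have h1 := congrArg Subtype.val (h ⟨x, hx⟩)
      rw [hδpow, ← he, mul_inv_eq_iff_eq_mul] at h1
      exact h1.symm
    obtain ⟨τ, hτ⟩ : ∃ τ : MulAut P0 →* Equiv.Perm P0, ∀ (φ : MulAut P0) (w : P0), τ φ w = φ w :=
      ⟨{ toFun := fun φ => φ.toEquiv, map_one' := rfl, map_mul' := fun _ _ => rfl }, fun _ _ => rfl⟩
    have h := pow_le_card (τ δ) (by rw [← map_pow, hδ1, map_one]) z
      (by rw [← map_pow, hτ]; exact hz)
    omega
  · -- special case
    obtain ⟨-, hfr, hco⟩ := hsp
    by_cases habel : ∀ a b : P0, a * b = b * a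
    · refine hne ?_
      have : Subgroup.center P0 = ⊤ :=
        (Subgroup.eq_top_iff' _).2 fun a => Subgroup.mem_center_iff.2 fun g => habel g a
      have h2 : commutator P0 = ⊥ := by
        rw [commutator_def, Subgroup.commutator_eq_bot_iff_le_centralizer]
        intro a _
        exact Subgroup.mem_centralizer_iff.2 fun g _ => habel g a
      have hsub : (⊤ : Subgroup P0) = ⊥ := by rw [← this, ← hco, h2]
      have hb : P0 = ⊥ := by
        rw [Subgroup.eq_bot_iff_forall]
        intro x hx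
        have hm : (⟨x, hx⟩ : P0) ∈ (⊥ : Subgroup P0) := hsub ▸ Subgroup.mem_top _
        exact congrArg Subtype.val (Subgroup.mem_bot.1 hm)
      rw [hb, Subgroup.commutator_bot_left]
    obtain ⟨Z, hZ⟩ : ∃ Z, Z = Subgroup.center P0 := ⟨_, rfl⟩
    have hcc : ∀ a b : P0, ⁅a, b⁆ ∈ Subgroup.center P0 := fun a b => by
      rw [← hco, commutator_def]
      exact Subgroup.commutator_mem_commutator (Subgroup.mem_top a) (Subgroup.mem_top b)
    have hsqc : ∀ a : P0, a ^ 2 ∈ Subgroup.center P0 := fun a => by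
      rw [← hfr]; exact Cfsg.Agent.Solv.pow_mem_frattini hP0 a
    have hZ2 : ∀ a ∈ Subgroup.center P0, a ^ 2 = 1 := by
      have hgen : ∀ a b : P0, ⁅a, b⁆ ^ 2 = 1 := by
        intro a b
        rw [sq, ← Cfsg.Agent.Solv.commutatorElement_mul_right_of_central (hcc a b), ← sq,
          commutatorElement_eq_one_iff_mul_comm]
        exact Subgroup.mem_center_iff.1 (hsqc b) a
      intro a ha
      rw [← hco, commutator_eq_closure] at ha
      induction ha using Subgroup.closure_induction with
      | mem x hx => obtain ⟨u, v, rfl⟩ := hx; exact hgen u v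
      | one => exact one_pow 2
      | mul x y hx hy ihx ihy =>
        have hxc : x ∈ Subgroup.center P0 := by rwa [← hco, commutator_eq_closure]
        rw [Commute.mul_pow (Subgroup.mem_center_iff.1 hxc y).symm, ihx, ihy, one_mul]
      | inv x _ ih => rw [inv_pow, ih, inv_one]
    have hZ4 : Nat.card (Subgroup.center P0) ≤ 4 :=
      rank_card hrank P0 hP0P _ (fun a ha b _ => (Subgroup.mem_center_iff.1 ha b).symm) hZ2
    have hinv : ∀ x : P0, x ^ 2 = 1 → x ∈ Subgroup.center P0 := by
      intro x hx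
      by_contra hxc
      obtain ⟨V, hVdef⟩ : ∃ V, V = Subgroup.center P0 ⊔ Subgroup.zpowers x := ⟨_, rfl⟩
      have hmem : ∀ a ∈ V, ∃ c ∈ Subgroup.center P0, ∃ k : ℤ, a = c * x ^ k := by
        intro a ha
        rw [hVdef] at ha
        obtain ⟨c, hc, b, hb, rfl⟩ := Subgroup.mem_sup_of_normal_left.1 ha
        obtain ⟨k, rfl⟩ := Subgroup.mem_zpowers_iff.1 hb
        exact ⟨c, hc, k, rfl⟩
      have hV4 : Nat.card V ≤ 4 := by
        refine rank_card hrank P0 hP0P V (fun a ha b hb => ?_) fun a ha => ?_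
        · obtain ⟨c, hc, k, rfl⟩ := hmem a ha
          obtain ⟨c', hc', k', rfl⟩ := hmem b hb
          have h1 : ∀ g : P0, Commute c g := fun g => (Subgroup.mem_center_iff.1 hc g).symm
          have h2 : ∀ g : P0, Commute c' g := fun g => (Subgroup.mem_center_iff.1 hc' g).symm
          exact ((h1 _).mul_left (((h2 _).symm).mul_right ((Commute.refl x).zpow_zpow k k')))
        · obtain ⟨c, hc, k, rfl⟩ := hmem a ha
          have h1 : Commute c (x ^ k) := (Subgroup.mem_center_iff.1 hc _).symm
          rw [h1.mul_pow, hZ2 c hc, one_mul, ← zpow_natCast, ← zpow_mul, mul_comm, zpow_mul,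
            zpow_natCast, hx, one_zpow]
      have hlt : Subgroup.center P0 < V := by
        refine lt_of_le_of_ne (hVdef ▸ le_sup_left) fun h => hxc ?_
        rw [h, hVdef]
        exact Subgroup.mem_sup_right (Subgroup.mem_zpowers x)
      have h2le : 2 * Nat.card (Subgroup.center P0) ≤ Nat.card V := by
        obtain ⟨a, ha⟩ := (hP0.to_subgroup (Subgroup.center P0)).exists_card_eq
        obtain ⟨b, hb⟩ := (hP0.to_subgroup V).exists_card_eq
        have hl : Nat.card (Subgroup.center P0) < Nat.card V := by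
          by_contra hh
          exact hlt.ne (Subgroup.eq_of_le_of_card_ge hlt.le (not_lt.1 hh))
        rw [ha, hb] at hl ⊢
        rw [← pow_succ']
        exact Nat.pow_le_pow_right two_pos ((Nat.pow_lt_pow_iff_right one_lt_two).1 hl)
      -- the centre has order two, so `d` centralizes it
      obtain ⟨a, ha⟩ := (hP0.to_subgroup (Subgroup.center P0)).exists_card_eq
      have hcne : Subgroup.center P0 ≠ ⊥ := by
        intro h
        refine habel fun u v => ?_
        rw [← commutatorElement_eq_one_iff_mul_comm, ← Subgroup.mem_bot, ← h]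
        exact hcc u v
      have hc2 : Nat.card (Subgroup.center P0) = 2 := by
        have h1 : 1 < Nat.card (Subgroup.center P0) :=
          (Subgroup.one_lt_card_iff_ne_bot _).2 hcne
        have h3 : Nat.card (Subgroup.center P0) ≤ 2 := by omega
        omega
      obtain ⟨t, htc, ht1⟩ : ∃ t : P0, t ∈ Subgroup.center P0 ∧ t ≠ 1 :=
        (Subgroup.bot_or_exists_ne_one _).resolve_left hcne
      have hδt : δ t = t := by
        have hmemδ : δ t ∈ Subgroup.center P0 := by
          rw [← Subgroup.characteristic_iff_map_eq.1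
            (inferInstance : (Subgroup.center P0).Characteristic) δ]
          exact ⟨t, htc, rfl⟩
        have hδne : δ t ≠ 1 := fun h => ht1 (δ.injective (h.trans (map_one δ).symm))
        obtain ⟨u, hu, huu⟩ := Nat.card_eq_two_iff' (1 : Subgroup.center P0) |>.1 hc2
        have e1 := huu ⟨δ t, hmemδ⟩ (fun h => hδne (congrArg Subtype.val h))
        have e2 := huu ⟨t, htc⟩ (fun h => ht1 (congrArg Subtype.val h))
        exact congrArg Subtype.val (e1.trans e2.symm)
      have ht : (t : X) ∈ P ⊓ Subgroup.centralizer {d} := by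
        refine Subgroup.mem_inf.2 ⟨hP0P t.2, Subgroup.mem_centralizer_singleton_iff.2 ?_⟩
        have h1 := congrArg Subtype.val hδt
        rw [hδ, mul_inv_eq_iff_eq_mul] at h1
        exact h1.symm
      rw [hfpf, Subgroup.mem_bot] at ht
      exact ht1 (Subtype.ext ht)
    -- `|P0 / Z| ≤ 16`
    have hW16 : Nat.card (P0 ⧸ Subgroup.center P0) ≤ 16 := by
      obtain ⟨q, hq⟩ : ∃ q : P0 ⧸ Subgroup.center P0 → Subgroup.center P0,
          ∀ x : P0, ((q x : Subgroup.center P0) : P0) = x ^ 2 :=
        ⟨fun w => ⟨w.out ^ 2, hsqc _⟩, fun x => by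
          obtain ⟨z, hz⟩ := QuotientGroup.mk_out_eq_mul (Subgroup.center P0) x
          show _ ^ 2 = _
          rw [hz, Commute.mul_pow (Subgroup.mem_center_iff.1 z.2 x), hZ2 z z.2, mul_one]⟩
      obtain ⟨c, hc⟩ : ∃ c : P0 ⧸ Subgroup.center P0 → P0 ⧸ Subgroup.center P0 → Subgroup.center P0,
          ∀ x y : P0, ((c x y : Subgroup.center P0) : P0) = ⁅y, x⁆ :=
        ⟨fun w v => ⟨⁅v.out, w.out⁆, hcc _ _⟩, fun x y => by
          obtain ⟨z, hz⟩ := QuotientGroup.mk_out_eq_mul (Subgroup.center P0) x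
          obtain ⟨z', hz'⟩ := QuotientGroup.mk_out_eq_mul (Subgroup.center P0) y
          show ⁅_, _⁆ = _
          have e1 : ∀ g : P0, ⁅g, (z : P0)⁆ = 1 := fun g =>
            commutatorElement_eq_one_iff_mul_comm.2 (Subgroup.mem_center_iff.1 z.2 g)
          have e2 : ∀ g : P0, ⁅(z' : P0), g⁆ = 1 := fun g =>
            commutatorElement_eq_one_iff_mul_comm.2 (Subgroup.mem_center_iff.1 z'.2 g).symm
          rw [hz, hz', Cfsg.Agent.Solv.commutatorElement_mul_left_of_central (hcc _ _),
            Cfsg.Agent.Solv.commutatorElement_mul_right_of_central (hcc _ _), e2, e1, mul_one,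
            mul_one]⟩
      have hE2 : ∀ v : Subgroup.center P0, v ^ 2 = 1 := fun v => Subtype.ext (hZ2 v v.2)
      have hWp : IsPGroup 2 (P0 ⧸ Subgroup.center P0) := hP0.to_quotient _
      have h := Cfsg.Agent.Solv.quad_bound hWp hE2 q c ?_ ?_ ?_ ⊥ ?_ ?_
      · rw [Subgroup.card_bot, one_mul] at h
        nlinarith
      · intro w v
        induction w using QuotientGroup.induction_on with | _ x => ?_
        induction v using QuotientGroup.induction_on with | _ y => ?_
        refine Subtype.ext ?_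
        rw [← QuotientGroup.mk_mul, Subgroup.coe_mul, Subgroup.coe_mul, hq, hq, hq, hc]
        exact Cfsg.Agent.Solv.mul_sq_of_central (hcc y x)
      · intro w v u
        induction w using QuotientGroup.induction_on with | _ x => ?_
        induction v using QuotientGroup.induction_on with | _ x' => ?_
        induction u using QuotientGroup.induction_on with | _ y => ?_
        refine Subtype.ext ?_
        rw [← QuotientGroup.mk_mul, Subgroup.coe_mul, hc, hc, hc]
        exact Cfsg.Agent.Solv.commutatorElement_mul_right_of_central (hcc _ _)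
      · intro w v u
        induction w using QuotientGroup.induction_on with | _ x => ?_
        induction v using QuotientGroup.induction_on with | _ x' => ?_
        induction u using QuotientGroup.induction_on with | _ y => ?_
        refine Subtype.ext ?_
        rw [← QuotientGroup.mk_mul, Subgroup.coe_mul, hc, hc, hc]
        exact Cfsg.Agent.Solv.commutatorElement_mul_left_of_central (hcc _ _)
      · intro w
        induction w using QuotientGroup.induction_on with | _ x => ?_
        rw [Subgroup.mem_bot, QuotientGroup.eq_one_iff, Subtype.ext_iff, hq, OneMemClass.coe_one]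
        exact ⟨hinv x, hZ2 x⟩
      · intro w b hb
        rw [Subgroup.mem_bot.1 hb]
        induction w using QuotientGroup.induction_on with | _ x => ?_
        refine Subtype.ext ?_
        rw [← QuotientGroup.mk_one, hc, commutatorElement_one_left]
        rfl
    -- `e` acts without fixed points on `P0 / Z`
    obtain ⟨σ, hσ⟩ : ∃ σ, σ = permQuot (Subgroup.center P0) δ := ⟨_, rfl⟩
    have hσpow : ∀ (a : ℕ) (x : P0), (σ ^ a) (x : P0 ⧸ Subgroup.center P0) = ((δ ^ a) x : P0) := by
      intro a x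
      rw [hσ, ← map_pow, permQuot_mk]
    have hσ1 : σ ^ (3 ^ (n + 1)) = 1 := by rw [hσ, ← map_pow, hδ1, map_one]
    have hfix : ∀ x : P0, (σ ^ (3 ^ n)) (x : P0 ⧸ Subgroup.center P0) = x →
        (x : P0 ⧸ Subgroup.center P0) = 1 := by
      intro x hx
      obtain ⟨U0, hU0⟩ : ∃ U0 : Subgroup P0, ∀ z : P0, z ∈ U0 ↔
          (((δ ^ (3 ^ n)) z : P0) : P0 ⧸ Subgroup.center P0) = z :=
        ⟨MonoidHom.eqLocus ((QuotientGroup.mk' _).comp (δ ^ (3 ^ n)).toMonoidHom)
          (QuotientGroup.mk' _), fun z => Iff.rfl⟩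
      have hδU : ∀ z ∈ U0, δ z ∈ U0 := by
        intro z hz
        rw [hU0] at hz ⊢
        have h1 : (δ ^ (3 ^ n)) (δ z) = δ ((δ ^ (3 ^ n)) z) := by
          rw [← MulAut.mul_apply, ← MulAut.mul_apply, ← pow_succ, ← pow_succ']
        rw [h1, ← permQuot_mk, hz, permQuot_mk]
      have hUB : Subgroup.zpowers d ≤ Subgroup.normalizer (U0.map P0.subtype : Set X) := by
        refine (Subgroup.zpowers_le).2 (Subgroup.mem_normalizer_fintype ?_)
        rintro _ ⟨z, hz, rfl⟩
        exact ⟨δ z, hδU z hz, hδ z⟩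
      have hΦU : (frattini P0).map P0.subtype ≤ U0.map P0.subtype := by
        refine Subgroup.map_mono fun z hz => ?_
        rw [hfr] at hz
        rw [hU0, (QuotientGroup.eq_one_iff z).2 hz, QuotientGroup.eq_one_iff,
          ← Subgroup.characteristic_iff_map_eq.1
            (inferInstance : (Subgroup.center P0).Characteristic) (δ ^ (3 ^ n))]
        exact ⟨z, hz, rfl⟩
      rcases hirr _ hΦU (Subgroup.map_subtype_le _) hUB with h | h
      · have h1 : U0 = frattini P0 := Subgroup.map_injective P0.subtype_injective h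
        rw [QuotientGroup.eq_one_iff, ← hfr, ← h1, hU0, ← hσpow]
        exact hx
      · exfalso
        have h1 : U0 = ⊤ := by
          apply Subgroup.map_injective P0.subtype_injective
          rw [h, ← MonoidHom.range_eq_map, Subgroup.range_subtype]
        have hall : ∀ z : P0, (σ ^ (3 ^ n)) (z : P0 ⧸ Subgroup.center P0) = z := fun z => by
          rw [hσpow, ← hU0, h1]; exact Subgroup.mem_top z
        have hσn : σ ^ (3 ^ n) = 1 := Equiv.ext fun w => by
          induction w using QuotientGroup.induction_on with | _ z => exact hall z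
        have hle : ⁅P0, Subgroup.zpowers e⁆ ≤ (Subgroup.center P0).map P0.subtype := by
          refine Subgroup.commutator_le.2 fun y hy a ha => ?_
          obtain ⟨k, rfl⟩ := (IsOfFinOrder.mem_powers_iff_mem_zpowers (isOfFinOrder_of_finite e)).2 ha
          refine ⟨⟨y, hy⟩ * ((δ ^ (3 ^ n * k)) ⟨y, hy⟩)⁻¹, ?_, ?_⟩
          · have h2 : (((δ ^ (3 ^ n * k)) ⟨y, hy⟩ : P0) : P0 ⧸ Subgroup.center P0) =
                (⟨y, hy⟩ : P0) := by
              rw [← hσpow, pow_mul, hσn, one_pow]; rfl
            rw [SetLike.mem_coe, ← QuotientGroup.eq_one_iff, QuotientGroup.mk_mul,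
              QuotientGroup.mk_inv, h2, mul_inv_cancel]
          · simp only [Subgroup.coe_subtype, Subgroup.coe_mul, Subgroup.coe_inv, hδpow, he,
              commutatorElement_def, ← pow_mul]
            group
        rw [hcomm] at hle
        refine habel fun u v => ?_
        obtain ⟨u', hu', huu⟩ := hle u.2
        have huc : u ∈ Subgroup.center P0 := by
          rw [← show u' = u from Subtype.ext huu]; exact hu'
        exact (Subgroup.mem_center_iff.1 huc v).symm
    obtain ⟨σY, hσY⟩ : ∃ σY : Equiv.Perm {w : P0 ⧸ Subgroup.center P0 // w ≠ 1},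
        ∀ (a : ℕ) (y : {w : P0 ⧸ Subgroup.center P0 // w ≠ 1}),
          (((σY ^ a) y : {w : P0 ⧸ Subgroup.center P0 // w ≠ 1}) : P0 ⧸ Subgroup.center P0) =
            (σ ^ a) y.1 := by
      have hs : ∀ w, σ w ≠ 1 ↔ w ≠ 1 := by
        intro w
        rw [hσ]
        exact (map_ne_one_iff (QuotientGroup.congr (Subgroup.center P0) (Subgroup.center P0) δ
          (Subgroup.characteristic_iff_map_eq.1 inferInstance δ))
          (MulEquiv.injective _))
      exact ⟨σ.subtypePerm hs, fun a y => by rw [Equiv.Perm.subtypePerm_pow]; rfl⟩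
    have hdvd := pow_dvd_card σY
      (Equiv.ext fun y => Subtype.ext (by rw [hσY, hσ1]; rfl))
      (fun y hy => by
        have h1 := congrArg Subtype.val hy
        rw [hσY] at h1
        obtain ⟨x, hx⟩ := QuotientGroup.mk_surjective y.1
        rw [← hx] at h1
        exact y.2 (hx ▸ hfix x h1))
    haveI := Fintype.ofFinite (P0 ⧸ Subgroup.center P0)
    classical
    have hcard : Nat.card {w : P0 ⧸ Subgroup.center P0 // w ≠ 1} =
        Nat.card (P0 ⧸ Subgroup.center P0) - 1 := by
      rw [Nat.card_eq_fintype_card, Nat.card_eq_fintype_card]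
      simp [Fintype.card_subtype_compl]
    rw [hcard] at hdvd
    have h9d : 9 ∣ Nat.card (P0 ⧸ Subgroup.center P0) - 1 :=
      Dvd.dvd.trans (show 3 ^ 2 ∣ 3 ^ (n + 1) from pow_dvd_pow 3 (by omega)) hdvd
    obtain ⟨m, hm⟩ := (hP0.to_quotient (Subgroup.center P0)).exists_card_eq
    rw [hm] at h9d hW16
    have hm4 : m ≤ 4 := (Nat.pow_le_pow_iff_right one_lt_two).1 (le_trans hW16 (by norm_num))
    have hm1 : m ≠ 0 := by
      rintro rfl
      rw [pow_zero] at hm
      refine habel fun u v => ?_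
      haveI := (Nat.card_eq_one_iff_unique.1 hm).1
      have huc : u ∈ Subgroup.center P0 :=
        (QuotientGroup.eq_one_iff u).1 (Subsingleton.elim _ _)
      exact (Subgroup.mem_center_iff.1 huc v).symm
    interval_cases m
    all_goals first | exact absurd rfl hm1 | norm_num at h9d

end Cfsg.Agent.S3738
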