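import Cfsg.Statements.S3739
import Cfsg.Agent.Lib.Solv.Cores
import Cfsg.Agent.Lib.Fusion.Critical

set_option autoImplicit false
open Cfsg
open Cfsg.Agent

namespace Cfsg.Agent.S3739
open scoped commutatorElement

/-- There is no anisotropic map with three equally frequent values admitting a non-trivial
automorphism of order three. -/
theorem no_form {V K : Type*} [Group V] [Finite V] [Group K] [Finite K] (hK : ∀ k : K, k * k = 1)
    (hK4 : Nat.card K = 4) (q : V → K) (h1 : q 1 = 1) (haniso : ∀ v, q v = 1 → v = 1)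
    (hbil : ∀ u₁ u₂ w, q (u₁ * u₂ * w) * q (u₁ * u₂) * q w =
      (q (u₁ * w) * q u₁ * q w) * (q (u₂ * w) * q u₂ * q w))
    (δK : K → K) (hδ : ∀ k, δK k = k → k = 1) (hδi : Function.Injective δK) (hδ1 : δK 1 = 1)
    (δV : V ≃ V) (hq : ∀ v, q (δV v) = δK (q v))
    (σ : MulAut V) (hσ : σ ^ 3 = 1) (hσq : ∀ v, q (σ v) = q v) : σ = 1 := by
  classical
  haveI : Fintype V := Fintype.ofFinite V
  haveI : Fintype K := Fintype.ofFinite K
  have hcomm : ∀ a b : K, a * b = b * a := fun a b => by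
    have ha : a⁻¹ = a := inv_eq_of_mul_eq_one_right (hK a)
    have hb : b⁻¹ = b := inv_eq_of_mul_eq_one_right (hK b)
    have hab : (a * b)⁻¹ = a * b := inv_eq_of_mul_eq_one_right (hK _)
    rw [← hab, mul_inv_rev, ha, hb]
  obtain ⟨a, ha⟩ : ∃ a : K, a ≠ 1 := by
    haveI : Nontrivial K := Finite.one_lt_card_iff_nontrivial.1 (by omega)
    exact exists_ne 1
  have hab : δK a ≠ a := fun e => ha (hδ a e)
  have hb1 : δK a ≠ 1 := fun e => ha (hδi (e.trans hδ1.symm))
  have huniv : (Finset.univ : Finset K) = {1, a, δK a, a * δK a} := by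
    refine (Finset.eq_univ_of_card _ ?_).symm
    rw [← Nat.card_eq_fintype_card, hK4]
    have h3 : a * δK a ≠ 1 := fun e => hab (mul_left_cancel (a := a) (e.trans (hK a).symm))
    have h4 : a * δK a ≠ a := fun e => hb1 (mul_eq_left.1 e)
    have h5 : a * δK a ≠ δK a := fun e => ha (mul_eq_right.1 e)
    simp [Finset.card_insert_of_notMem, ha.symm, hb1.symm, hab.symm, h3.symm, h4.symm, h5.symm]
  have hall : ∀ k : K, k = 1 ∨ k = a ∨ k = δK a ∨ k = a * δK a := fun k => by
    simpa [huniv] using Finset.mem_univ k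
  have hbc : δK (δK a) = a * δK a := by
    rcases hall (δK (δK a)) with e | e | e | e
    · exact absurd (hδi (e.trans hδ1.symm)) hb1
    · exfalso
      obtain ⟨c, hc⟩ : ∃ c, c = a * δK a := ⟨_, rfl⟩
      refine (?_ : c ≠ 1) (hδ c ?_)
      · rw [hc]; exact fun e' => hab (mul_left_cancel (a := a) (e'.trans (hK a).symm))
      rcases hall (δK c) with e2 | e2 | e2 | e2
      · exfalso
        have := hδi (e2.trans hδ1.symm)
        exact hab (mul_left_cancel (a := a) ((hc ▸ this).trans (hK a).symm))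
      · exfalso
        have := hδi (e2.trans e.symm)
        exact ha (mul_eq_right.1 (hc ▸ this))
      · exfalso
        have := hδi e2
        exact hb1 (mul_eq_left.1 (hc ▸ this))
      · rw [hc] at e2 ⊢; exact e2
    · exact absurd (hδi e) hab
    · exact e
  -- the three values are equally frequent
  obtain ⟨N, hN⟩ : ∃ N, N = (Finset.univ.filter fun v => q v = a).card := ⟨_, rfl⟩
  have hshift : ∀ k, (Finset.univ.filter fun v => q v = δK k).card = (Finset.univ.filter fun v => q v = k).card := by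
    intro k
    refine (Finset.card_bij (fun v _ => δV v) (fun v hv => ?_) (fun _ _ _ _ e => δV.injective e) ?_).symm
    · simp only [Finset.mem_filter, Finset.mem_univ, true_and] at hv ⊢
      rw [hq, hv]
    · intro v hv
      simp only [Finset.mem_filter, Finset.mem_univ, true_and] at hv ⊢
      obtain ⟨u, rfl⟩ := δV.surjective v
      exact ⟨u, hδi (hq u ▸ hv), rfl⟩
  have hone : (Finset.univ.filter fun v => q v = 1).card = 1 := by
    rw [Finset.card_eq_one]
    exact ⟨1, Finset.ext fun v => by simp only [Finset.mem_filter, Finset.mem_univ, true_and, Finset.mem_singleton]; exact ⟨haniso v, fun e => e ▸ h1⟩⟩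
  have hNb : (Finset.univ.filter fun v => q v = δK a).card = N := hN ▸ hshift a
  have hNc : (Finset.univ.filter fun v => q v = a * δK a).card = N := by rw [← hbc, hshift, hNb]
  have hfour : ∀ F : K → ℤ, ∑ k, F k = F 1 + F a + F (δK a) + F (a * δK a) := by
    intro F
    have h3 : a * δK a ≠ 1 := fun e => hab (mul_left_cancel (a := a) (e.trans (hK a).symm))
    have h4 : a * δK a ≠ a := fun e => hb1 (mul_eq_left.1 e)
    have h5 : a * δK a ≠ δK a := fun e => ha (mul_eq_right.1 e)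
    rw [huniv]
    simp [Finset.sum_insert, ha.symm, hb1.symm, hab.symm, h3.symm, h4.symm, h5.symm]
    ring
  -- a character of the four-group
  obtain ⟨χ, hχ⟩ : ∃ χ : K → ℤ, ∀ k, χ k = if k = 1 ∨ k = a then 1 else -1 := ⟨_, fun _ => rfl⟩
  have hχm : ∀ k l, χ (k * l) = χ k * χ l := by
    have h3 : a * δK a ≠ 1 := fun e => hab (mul_left_cancel (a := a) (e.trans (hK a).symm))
    have h4 : a * δK a ≠ a := fun e => hb1 (mul_eq_left.1 e)
    have h5 : a * δK a ≠ δK a := fun e => ha (mul_eq_right.1 e)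
    have c1 : δK a * a = a * δK a := hcomm _ _
    have m1 : a * (a * δK a) = δK a := by rw [← mul_assoc, hK, one_mul]
    have m2 : δK a * (a * δK a) = a := by rw [hcomm a, ← mul_assoc, hK, one_mul]
    have m3 : a * δK a * a = δK a := by rw [hcomm (a * δK a), m1]
    have m4 : a * δK a * δK a = a := by rw [mul_assoc, hK, mul_one]
    intro k l
    rcases hall k with rfl | rfl | rfl | rfl <;> rcases hall l with rfl | rfl | rfl | rfl <;>
      simp [hχ, hK, c1, m1, m2, m3, m4, ha, hb1, hab, h3, h4, h5]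
  obtain ⟨f, hf⟩ : ∃ f : V → ℤ, ∀ v, f v = χ (q v) := ⟨_, fun _ => rfl⟩
  have hcard : (Fintype.card V : ℤ) = 3 * N + 1 := by
    have e : Fintype.card V = ∑ k : K, (Finset.univ.filter fun v => q v = k).card :=
      Finset.card_eq_sum_card_fiberwise (fun v _ => Finset.mem_univ (q v))
    rw [e, Nat.cast_sum, hfour, hone, hNb, hNc, ← hN]
    push_cast; ring
  have hsum : ∑ v, f v = 1 - N := by
    rw [← Finset.sum_fiberwise Finset.univ q f]
    have e : ∀ k, ∑ v ∈ Finset.univ.filter (fun v => q v = k), f v =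
        ((Finset.univ.filter fun v => q v = k).card : ℤ) * χ k := fun k => by
      rw [Finset.sum_congr rfl (g := fun _ => χ k) (fun v hv => by rw [hf, (Finset.mem_filter.1 hv).2]),
        Finset.sum_const, nsmul_eq_mul]
    simp only [e]
    have h3 : a * δK a ≠ 1 := fun e => hab (mul_left_cancel (a := a) (e.trans (hK a).symm))
    have h4 : a * δK a ≠ a := fun e => hb1 (mul_eq_left.1 e)
    rw [hfour, hone, hNb, hNc, ← hN]
    simp [hχ, hb1, hab, h3, h4]
    ring
  have hdiv : (Fintype.card V : ℤ) ∣ (1 - (N : ℤ)) ^ 2 := by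
    rw [← hsum, pow_two, Finset.sum_mul_sum]
    have e : ∀ u w, f u * f (u * w) = f w * χ (q (u * w) * q u * q w) := by
      intro u w
      have hsq : ∀ k, χ k * χ k = 1 := fun k => by rw [← hχm, hK, hχ]; simp
      rw [hχm, hχm, hf, hf, hf]
      calc χ (q u) * χ (q (u * w)) = χ (q (u * w)) * χ (q u) * (χ (q w) * χ (q w)) := by rw [hsq]; ring
        _ = _ := by ring
    have e2 : ∀ u, ∑ j, f u * f j = ∑ w, f u * f (u * w) := fun u =>
      (Equiv.sum_comp (Equiv.mulLeft u) (fun j => f u * f j)).symm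
    simp only [e2, e]
    rw [Finset.sum_comm]
    refine Finset.dvd_sum fun w _ => ?_
    rw [← Finset.mul_sum]
    refine dvd_mul_of_dvd_right ?_ _
    by_cases hall1 : ∀ u, χ (q (u * w) * q u * q w) = 1
    · simp [hall1]
    push Not at hall1
    obtain ⟨u₀, hu₀⟩ := hall1
    have hm : χ (q (u₀ * w) * q u₀ * q w) = -1 := by
      have := hχ (q (u₀ * w) * q u₀ * q w)
      split at this
      · exact absurd this hu₀
      · exact this
    have h0 : ∑ u, χ (q (u * w) * q u * q w) = -∑ u, χ (q (u * w) * q u * q w) := by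
      conv_lhs => rw [← Equiv.sum_comp (Equiv.mulLeft u₀)]
      rw [← Finset.sum_neg_distrib]
      refine Finset.sum_congr rfl fun u _ => ?_
      rw [Equiv.coe_mulLeft, hbil u₀ u w, hχm, hm, neg_one_mul]
    rw [show ∑ u, χ (q (u * w) * q u * q w) = 0 by linarith]
    exact dvd_zero _
  have h16 : 3 * N + 1 ∣ 16 := by
    have h9 : (3 * (N : ℤ) + 1) ∣ 16 := by
      rw [hcard] at hdiv
      have h := dvd_mul_of_dvd_right hdiv 9
      have e : (16 : ℤ) = 9 * (1 - (N : ℤ)) ^ 2 - (3 * N + 1) * (3 * N + 1 - 8) := by ring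
      rw [e]
      exact dvd_sub h (dvd_mul_right _ _)
    exact_mod_cast h9
  have hN5 : N ≤ 5 := by
    have := Nat.le_of_dvd (by norm_num) h16
    omega
  -- fixed points of the automorphism
  have hfix : ∀ k : K, k ≠ 1 → (Finset.univ.filter fun v => q v = k).card % 3 =
      (Finset.univ.filter fun v => q v = k ∧ σ v = v).card % 3 := by
    intro k _
    let g : Function.End {v : V // q v = k} := fun v => ⟨σ v, (hσq v).trans v.2⟩
    have hg : g ^ 3 ^ 1 = 1 := by
      funext v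
      apply Subtype.ext
      show (σ (σ (σ (v : V)))) = v
      have e := congrArg (fun τ : MulAut V => τ (v : V)) hσ
      simpa [pow_succ, MulAut.mul_apply] using e
    have h := Equiv.Perm.card_fixedPoints_modEq (p := 3) (n := 1) hg
    rw [Fintype.card_subtype] at h
    refine h.trans ?_
    rw [← Fintype.card_subtype]
    refine congrArg (· % 3) (Fintype.card_congr
      { toFun := fun v => ⟨v.1, v.1.2, congrArg Subtype.val v.2⟩
        invFun := fun v => ⟨⟨v.1, v.2.1⟩, Subtype.ext v.2.2⟩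
        left_inv := fun _ => rfl
        right_inv := fun _ => rfl })
  obtain ⟨F, hF⟩ : ∃ F : Subgroup V, F = (σ : V →* V).eqLocus (MonoidHom.id V) := ⟨_, rfl⟩
  have hcardV : Nat.card V = 3 * N + 1 := by rw [Nat.card_eq_fintype_card]; exact_mod_cast hcard
  suffices hF' : F = ⊤ by
    ext v
    have : v ∈ F := hF' ▸ Subgroup.mem_top v
    rw [hF] at this
    exact this
  have hFcard : Nat.card F = 1 + (Finset.univ.filter fun v => q v = a ∧ σ v = v).card +
      (Finset.univ.filter fun v => q v = δK a ∧ σ v = v).card +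
      (Finset.univ.filter fun v => q v = a * δK a ∧ σ v = v).card := by
    have e : Nat.card F = (Finset.univ.filter fun v => σ v = v).card := by
      rw [← Fintype.card_subtype, ← Nat.card_eq_fintype_card, hF]
      exact Nat.card_congr (Equiv.subtypeEquivRight fun v => Iff.rfl)
    rw [e, Finset.card_eq_sum_card_fiberwise (fun v _ => Finset.mem_univ (q v))]
    zify
    rw [hfour]
    simp only [Finset.filter_filter]
    have e1 : ∀ k, (Finset.univ.filter fun v => σ v = v ∧ q v = k) = Finset.univ.filter fun v => q v = k ∧ σ v = v :=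
      fun k => Finset.ext fun v => by simp [and_comm]
    simp only [e1]
    have : (Finset.univ.filter fun v => q v = 1 ∧ σ v = v) = {1} := Finset.ext fun v => by
      simp only [Finset.mem_filter, Finset.mem_univ, true_and, Finset.mem_singleton]
      exact ⟨fun h => haniso v h.1, fun e => e ▸ ⟨h1, map_one σ⟩⟩
    rw [this]; simp
  have hsub : ∀ k, (Finset.univ.filter fun v => q v = k ∧ σ v = v).card ≤ (Finset.univ.filter fun v => q v = k).card :=
    fun k => Finset.card_le_card fun v hv => by simp_all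
  have ma := hfix a ha
  have mb := hfix _ hb1
  have mc := hfix (a * δK a) fun e => hab (mul_left_cancel (a := a) (e.trans (hK a).symm))
  have sa := hsub a
  have sb := hsub (δK a)
  have sc := hsub (a * δK a)
  rw [← hN] at ma sa
  rw [hNb] at mb sb
  rw [hNc] at mc sc
  have hdvd : Nat.card F ∣ Nat.card V := F.card_subgroup_dvd_card
  refine Subgroup.eq_top_of_card_eq F ?_
  rw [hFcard, hcardV] at hdvd ⊢
  generalize (Finset.univ.filter fun v => q v = a ∧ σ v = v).card = A' at *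
  generalize (Finset.univ.filter fun v => q v = δK a ∧ σ v = v).card = B' at *
  generalize (Finset.univ.filter fun v => q v = a * δK a ∧ σ v = v).card = C' at *
  interval_cases N <;> first
    | omega
    | (obtain ⟨t, ht⟩ := hdvd
       have : 7 ≤ 1 + A' + B' + C' := by omega
       have : t ≤ 2 := by nlinarith
       interval_cases t <;> omega)
    | (exfalso; norm_num at h16; done)

variable {G : Type*} [Group G] [Finite G]

/-- An involution centralizing a four-group lies in it, if there is no elementary subgroup of order eight. -/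
theorem mem_four (hno : ∀ E : Subgroup G, Cfsg.IsElementaryAbelian 2 E → Nat.card E ≠ 8) {A : Subgroup G}
    (hA : Cfsg.IsElementaryAbelian 2 A) (h4 : Nat.card A = 4) {u : G} (hu : u * u = 1)
    (hc : ∀ a ∈ A, a * u = u * a) : u ∈ A := by
  classical
  by_contra huA
  have hui : u⁻¹ = u := inv_eq_of_mul_eq_one_right hu
  let E : Subgroup G :=
    { carrier := {y | y ∈ A ∨ y * u ∈ A}
      one_mem' := Or.inl (one_mem _)
      mul_mem' := by
        rintro x y (hx | hx) (hy | hy)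
        · exact Or.inl (mul_mem hx hy)
        · exact Or.inr (by rw [mul_assoc]; exact mul_mem hx hy)
        · exact Or.inr (by
            rw [show x * y * u = (x * u) * (u⁻¹ * (y * u)) by group, ← mul_assoc u⁻¹, hui, ← hc y hy, mul_assoc y, hu, mul_one]
            exact mul_mem hx hy)
        · exact Or.inl (by
            have e : x * y = (x * u) * (y * u) := by
              calc x * y = x * ((y * u) * u) := by rw [mul_assoc y, hu, mul_one]
                _ = x * (u * (y * u)) := by rw [hc _ hy]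
                _ = _ := by group
            rw [e]; exact mul_mem hx hy)
      inv_mem' := by
        rintro x (hx | hx)
        · exact Or.inl (inv_mem hx)
        · refine Or.inr ?_
          have e : x⁻¹ * u = (x * u)⁻¹ := by
            rw [mul_inv_rev, hui]
            have := hc _ (inv_mem hx)
            rw [mul_inv_rev, hui] at this
            calc x⁻¹ * u = u * (u * x⁻¹) * u := by rw [← mul_assoc u u, hu, one_mul]
              _ = u * (u * x⁻¹ * u) := by group
              _ = u * (u * (u * x⁻¹)) := by rw [this]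
              _ = u * x⁻¹ := by rw [← mul_assoc u u, hu, one_mul]
          rw [e]; exact inv_mem hx }
  have hEA : ∀ y : G, y ∈ E ↔ y ∈ A ∨ y * u ∈ A := fun y => Iff.rfl
  have hcA : ∀ a ∈ A, ∀ b ∈ A, a * b = b * a := fun a ha b hb =>
    congrArg Subtype.val (hA.1.is_comm.comm ⟨a, ha⟩ ⟨b, hb⟩)
  have hform : ∀ y ∈ E, ∃ a ∈ A, y = a ∨ y = a * u := by
    rintro y (h | h)
    · exact ⟨y, h, Or.inl rfl⟩
    · exact ⟨_, h, Or.inr (by rw [mul_assoc, hu, mul_one])⟩
  refine hno E ⟨⟨⟨?_⟩⟩, ?_⟩ ?_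
  · rintro ⟨x, hx⟩ ⟨y, hy⟩
    apply Subtype.ext
    obtain ⟨a, ha, ea⟩ := hform x hx
    obtain ⟨b, hb, eb⟩ := hform y hy
    have hab : Commute a b := hcA a ha b hb
    have hau : Commute a u := hc a ha
    have hbu : Commute b u := hc b hb
    show x * y = y * x
    rcases ea with rfl | rfl <;> rcases eb with rfl | rfl
    · exact hab
    · exact hab.mul_right hau
    · exact hab.mul_left hbu.symm
    · exact (hab.mul_right hau).mul_left ((hbu.symm).mul_right (Commute.refl u))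
  · intro x hx
    obtain ⟨a, ha, ea⟩ := hform x hx
    have h2 : a * a = 1 := by rw [← pow_two]; exact hA.2 a ha
    rcases ea with rfl | rfl
    · rw [pow_two, h2]
    · rw [pow_two, show a * u * (a * u) = a * (u * a) * u by group, ← hc a ha, show a * (a * u) * u = (a * a) * (u * u) by group,
        h2, hu, one_mul]
  · have hset : (E : Set G) = (A : Set G) ∪ (fun a => a * u) '' (A : Set G) := by
      ext y
      constructor
      · intro hy
        obtain ⟨a, ha, rfl | rfl⟩ := hform y hy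
        exacts [Or.inl ha, Or.inr ⟨a, ha, rfl⟩]
      · rintro (h | ⟨a, ha, rfl⟩)
        · exact Or.inl h
        · exact Or.inr (show a * u * u ∈ A by rwa [mul_assoc, hu, mul_one])
    have hd : Disjoint (A : Set G) ((fun a => a * u) '' (A : Set G)) := by
      rw [Set.disjoint_left]
      rintro _ h ⟨a, ha, rfl⟩
      exact huA (by simpa [← mul_assoc] using mul_mem (inv_mem ha) h)
    rw [← SetLike.coe_sort_coe, Nat.card_coe_set_eq, hset, Set.ncard_union_eq hd,
      Set.ncard_image_of_injective _ (mul_left_injective u), ← Nat.card_coe_set_eq, SetLike.coe_sort_coe, h4]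

/-- A permutation of three points of order dividing three with a fixed point is trivial. -/
theorem three_fix {α : Type*} [Finite α] (h3 : Nat.card α = 3) {f : α → α} (hf : ∀ x, f (f (f x)) = x)
    {c : α} (hc : f c = c) : ∀ x, f x = x := by
  intro x
  by_contra hx
  have h1 : f x ≠ c := fun e => hx (by
    have h := hf x
    rw [e, hc, hc] at h
    rw [e, h])
  have h2 : f (f x) ≠ c := fun e => by
    have h := hf x
    rw [e, hc] at h
    exact hx (h ▸ hc)
  have h4 : f (f x) ≠ x := fun e => by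
    have h := hf x
    rw [e] at h
    exact hx h
  have h5 : f (f x) ≠ f x := fun e => by
    have h := hf x
    rw [e] at h
    exact h4 h
  have hxc : x ≠ c := fun e => hx (e ▸ hc)
  have : ({c, x, f x, f (f x)} : Set α).ncard = 4 := by
    rw [Set.ncard_insert_of_notMem (by simp [hxc.symm, h1.symm, h2.symm]),
      Set.ncard_insert_of_notMem (by simp [Ne.symm hx, Ne.symm h4]), Set.ncard_pair (Ne.symm h5)]
  have hle := Set.ncard_le_ncard (Set.subset_univ ({c, x, f x, f (f x)} : Set α))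
  rw [Set.ncard_univ, h3, this] at hle
  omega

/-- Let G be a finite group with C_G(O₂(G)) ≤ O₂(G) containing an element of order 6, and let d be a non-identity 3-element of G normalizing a nontrivial elementary abelian 2-subgroup W with C_W(d) = 1. Then G has an elementary abelian subgroup of order 8. -/
theorem result {G : Type*} [Group G] [Finite G] (hchar : Subgroup.centralizer (Cfsg.pCore 2 G : Set G) ≤ Cfsg.pCore 2 G) (hsix : ∃ g : G, orderOf g = 6) (d : G) (hd1 : d ≠ 1) (hd : IsPGroup 3 ↥(Subgroup.zpowers d)) (W : Subgroup G) (hW : Cfsg.IsElementaryAbelian 2 W) (hW1 : W ≠ ⊥) (hdW : d ∈ Subgroup.normalizer (W : Set G)) (hfpf : W ⊓ Subgroup.centralizer {d} = ⊥) : ∃ E : Subgroup G, Cfsg.IsElementaryAbelian 2 E ∧ Nat.card E = 8 := by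
  classical
  by_contra hcon
  have hno : ∀ E : Subgroup G, Cfsg.IsElementaryAbelian 2 E → Nat.card E ≠ 8 := fun E h1 h2 => hcon ⟨E, h1, h2⟩
  obtain ⟨Q, hQ⟩ : ∃ Q, Q = Cfsg.pCore 2 G := ⟨_, rfl⟩
  rw [← hQ] at hchar
  haveI : Q.Normal := hQ ▸ Solv.pCore_normal 2
  haveI : Fact (Nat.Prime 2) := ⟨Nat.prime_two⟩
  have hQp : IsPGroup 2 Q := hQ ▸ Solv.pCore_isPGroup 2
  obtain ⟨g₆, hg₆⟩ := hsix
  obtain ⟨x, hx⟩ : ∃ x, x = g₆ ^ 2 := ⟨_, rfl⟩
  obtain ⟨z, hz⟩ : ∃ z, z = g₆ ^ 3 := ⟨_, rfl⟩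
  have hx3 : orderOf x = 3 := by rw [hx, orderOf_pow_of_dvd (by norm_num) (by rw [hg₆]; norm_num), hg₆]
  have hz2 : orderOf z = 2 := by rw [hz, orderOf_pow_of_dvd (by norm_num) (by rw [hg₆]; norm_num), hg₆]
  have hxz : Commute x z := hx ▸ hz ▸ Commute.pow_pow_self g₆ 2 3
  have hzz : z * z = 1 := by rw [← pow_two, ← hz2, pow_orderOf_eq_one]
  -- `W` is a four-group
  obtain ⟨k, hk⟩ := IsPGroup.iff_card.1 (show IsPGroup 2 W from fun w => ⟨1, Subtype.ext (by simpa using hW.2 w w.2)⟩)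
  have hWc : ∀ a ∈ W, ∀ b ∈ W, a * b = b * a := fun a ha b hb =>
    congrArg Subtype.val (hW.1.is_comm.comm ⟨a, ha⟩ ⟨b, hb⟩)
  have hWd : ∀ w ∈ W, d * w * d⁻¹ ∈ W := fun w hw => (Subgroup.mem_normalizer_iff.1 hdW w).1 hw
  have hWfix : ∀ w ∈ W, d * w * d⁻¹ = w → w = 1 := fun w hw e =>
    Subgroup.mem_bot.1 (hfpf.le ⟨hw, Subgroup.mem_centralizer_singleton_iff.2 (mul_inv_eq_iff_eq_mul.1 e).symm⟩)
  have hW4 : Nat.card W = 4 := by
    rcases k with _ | _ | _ | k
    · exact absurd (Subgroup.card_eq_one.1 (by rw [hk, pow_zero])) hW1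
    · exfalso
      obtain ⟨w, hw, hw1⟩ := W.ne_bot_iff_exists_ne_one.1 hW1 |>.elim fun w hw => (⟨w, w.2, fun e => hw (Subtype.ext e)⟩ : ∃ w : G, w ∈ W ∧ w ≠ 1)
      have huniv : ∀ v ∈ W, v = 1 ∨ v = w := by
        intro v hv
        by_contra hc
        push Not at hc
        have h3 : ({1, w, v} : Set G).ncard = 3 := by
          rw [Set.ncard_insert_of_notMem (by simp [hw1.symm, hc.1.symm]), Set.ncard_pair (Ne.symm hc.2)]
        have := Set.ncard_le_ncard (show ({1, w, v} : Set G) ⊆ W by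
          rintro _ (rfl | rfl | rfl)
          exacts [one_mem _, hw, hv])
        rw [h3, ← Nat.card_coe_set_eq, SetLike.coe_sort_coe, hk] at this
        norm_num at this
      rcases huniv _ (hWd w hw) with e | e
      · exact hw1 (by simpa using e)
      · exact hw1 (hWfix w hw e)
    · rw [hk]; norm_num
    · exfalso
      obtain ⟨E, hE⟩ := Sylow.exists_subgroup_card_pow_prime (G := W) 2 (n := 3)
        (by rw [hk]; exact pow_dvd_pow 2 (by omega))
      refine hno (E.map W.subtype) ⟨⟨⟨fun a b => Subtype.ext (hWc _ (Subgroup.map_subtype_le _ a.2) _ (Subgroup.map_subtype_le _ b.2))⟩⟩,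
        fun a ha => hW.2 a (Subgroup.map_subtype_le _ ha)⟩ ?_
      rw [Subgroup.card_map_of_injective W.subtype_injective, hE]; norm_num
  -- the involutions in the centre of `Q`
  let Z : Subgroup G :=
    { carrier := {y | y ∈ Q ∧ y * y = 1 ∧ ∀ q ∈ Q, y * q = q * y}
      one_mem' := ⟨one_mem _, one_mul 1, fun q _ => by simp⟩
      mul_mem' := fun {a b} ha hb => ⟨mul_mem ha.1 hb.1, by
          rw [show a * b * (a * b) = a * (b * a) * b by group, hb.2.2 a ha.1,
            show a * (a * b) * b = (a * a) * (b * b) by group, ha.2.1, hb.2.1, one_mul],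
        fun q hq => Commute.mul_left (ha.2.2 q hq) (hb.2.2 q hq)⟩
      inv_mem' := fun {a} ha => ⟨inv_mem ha.1, by rw [← mul_inv_rev, ha.2.1, inv_one],
        fun q hq => Commute.inv_left (ha.2.2 q hq)⟩ }
  have hZmem : ∀ y, y ∈ Z ↔ (y ∈ Q ∧ y * y = 1 ∧ ∀ q ∈ Q, y * q = q * y) := fun y => Iff.rfl
  have hZel : Cfsg.IsElementaryAbelian 2 Z := ⟨⟨⟨fun a b => Subtype.ext (a.2.2.2 _ b.2.1)⟩⟩,
    fun a ha => by rw [pow_two]; exact ha.2.1⟩
  have hZn : ∀ g y, y ∈ Z → g * y * g⁻¹ ∈ Z := by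
    intro g y hy
    refine ⟨Subgroup.Normal.conj_mem inferInstance y hy.1 g, by rw [show g * y * g⁻¹ * (g * y * g⁻¹) = g * (y * y) * g⁻¹ by group, hy.2.1]; group, fun q hq => ?_⟩
    have h := hy.2.2 (g⁻¹ * q * g) (by simpa using Subgroup.Normal.conj_mem inferInstance q hq g⁻¹)
    calc g * y * g⁻¹ * q = g * (y * (g⁻¹ * q * g)) * g⁻¹ := by group
      _ = g * (g⁻¹ * q * g * y) * g⁻¹ := by rw [h]
      _ = _ := by group
  haveI : Nontrivial Q := by
    rw [Subgroup.nontrivial_iff_ne_bot]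
    intro hb
    refine hd1 (Subgroup.mem_bot.1 (hb ▸ hchar (Subgroup.mem_centralizer_iff.2 fun y hy => ?_)))
    rw [SetLike.mem_coe, hb, Subgroup.mem_bot] at hy
    rw [hy, one_mul, mul_one]
  obtain ⟨z₀, hz₀, hz₀1⟩ : ∃ z₀ ∈ Z, z₀ ≠ 1 := by
    haveI := hQp.center_nontrivial
    obtain ⟨⟨c, hc⟩, hc1⟩ := exists_ne (1 : Subgroup.center Q)
    obtain ⟨i, hi⟩ := hQp c
    have hexi : ∃ i, c ^ 2 ^ i = 1 := ⟨i, hi⟩
    obtain ⟨m, hm⟩ : ∃ m, Nat.find hexi = m + 1 := Nat.exists_eq_succ_of_ne_zero fun e => by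
      have := Nat.find_spec hexi
      rw [e, pow_zero, pow_one] at this
      exact hc1 (Subtype.ext this)
    have h1 := Nat.find_spec hexi
    have h2 := Nat.find_min hexi (m := m) (by omega)
    rw [hm, pow_succ, pow_mul, pow_two] at h1
    refine ⟨((c ^ 2 ^ m : Q) : G), ⟨(c ^ 2 ^ m).2, congrArg Subtype.val h1, fun q hq => ?_⟩,
      fun e => h2 (Subtype.ext e)⟩
    exact (congrArg Subtype.val (Subgroup.mem_center_iff.1 (pow_mem hc (2 ^ m)) ⟨q, hq⟩)).symm
  have hZ4 : Nat.card Z = 4 := by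
    obtain ⟨j, hj⟩ := IsPGroup.iff_card.1 (show IsPGroup 2 Z from fun w => ⟨1, Subtype.ext (by simpa using hZel.2 w w.2)⟩)
    rcases j with _ | _ | _ | j
    · rw [pow_zero, Subgroup.card_eq_one] at hj
      exact absurd (Subgroup.mem_bot.1 (hj ▸ hz₀)) hz₀1
    · exfalso
      have huniq : ∀ y ∈ Z, y ≠ 1 → y = z₀ := by
        intro y hy hy1
        by_contra hne
        have h3 : ({1, z₀, y} : Set G).ncard = 3 := by
          rw [Set.ncard_insert_of_notMem (by simp [hz₀1.symm, hy1.symm]), Set.ncard_pair (Ne.symm hne)]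
        have := Set.ncard_le_ncard (show ({1, z₀, y} : Set G) ⊆ Z by
          rintro _ (rfl | rfl | rfl)
          exacts [one_mem _, hz₀, hy])
        rw [h3, ← Nat.card_coe_set_eq, SetLike.coe_sort_coe, hj] at this
        norm_num at this
      have hcen : ∀ g, g * z₀ * g⁻¹ = z₀ := fun g => huniq _ (hZn g z₀ hz₀) (fun e => hz₀1 (by simpa using e))
      exact hz₀1 (hWfix z₀ (mem_four hno hW hW4 hz₀.2.1 fun w _ => mul_inv_eq_iff_eq_mul.1 (hcen w)) (hcen d))
    · rw [hj]; norm_num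
    · exfalso
      obtain ⟨E, hE⟩ := Sylow.exists_subgroup_card_pow_prime (G := Z) 2 (n := 3)
        (by rw [hj]; exact pow_dvd_pow 2 (by omega))
      refine hno (E.map Z.subtype) ⟨⟨⟨fun a b => Subtype.ext ((Subgroup.map_subtype_le _ a.2).2.2 _ (Subgroup.map_subtype_le _ b.2).1)⟩⟩,
        fun a ha => hZel.2 a (Subgroup.map_subtype_le _ ha)⟩ ?_
      rw [Subgroup.card_map_of_injective Z.subtype_injective, hE]; norm_num
  have hthree : Nat.card {y : G // y ∈ Z ∧ y ≠ 1} = 3 := by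
    show Nat.card ↑((Z : Set G) \ {1}) = 3
    rw [Nat.card_coe_set_eq, Set.ncard_sdiff_singleton_of_mem (one_mem Z),
      ← Nat.card_coe_set_eq, SetLike.coe_sort_coe, hZ4]
  -- an element of order dividing three fixing one involution of `Z` fixes all
  have hfix3 : ∀ g : G, g * (g * g) = 1 → ∀ c ∈ Z, c ≠ 1 → g * c * g⁻¹ = c → ∀ y ∈ Z, g * y * g⁻¹ = y := by
    intro g hg c hc hc1 hgc y hy
    rcases eq_or_ne y 1 with rfl | hy1
    · simp
    have h := three_fix hthree
      (f := fun w : {y : G // y ∈ Z ∧ y ≠ 1} => (⟨g * w.1 * g⁻¹, hZn g _ w.2.1,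
        fun e => w.2.2 (by simpa using e)⟩ : {y : G // y ∈ Z ∧ y ≠ 1}))
      (fun w => Subtype.ext (by
        show g * (g * (g * w.1 * g⁻¹) * g⁻¹) * g⁻¹ = w.1
        rw [show g * (g * (g * w.1 * g⁻¹) * g⁻¹) * g⁻¹ = (g * (g * g)) * w.1 * (g * (g * g))⁻¹ by group, hg, one_mul, inv_one, mul_one]))
      (c := ⟨c, hc, hc1⟩) (Subtype.ext hgc) ⟨y, hy, hy1⟩
    exact congrArg Subtype.val h
  -- `W = Z`
  have hWZ : W = Z := by
    letI : MulAction W {y : G // y ∈ Z ∧ y ≠ 1} :=
      { smul := fun w y => ⟨w * y.1 * (w : G)⁻¹, hZn w _ y.2.1, fun e => y.2.2 (by simpa using e)⟩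
        one_smul := fun y => Subtype.ext (show (1 : G) * y.1 * (1 : G)⁻¹ = y.1 by simp)
        mul_smul := fun v w y => Subtype.ext (show ((v : G) * w) * y.1 * ((v : G) * w)⁻¹ = v * (w * y.1 * (w : G)⁻¹) * (v : G)⁻¹ by group) }
    obtain ⟨⟨a, ha, ha1⟩, hafix⟩ := (show IsPGroup 2 W from fun w => ⟨1, Subtype.ext (by simpa using hW.2 w w.2)⟩).nonempty_fixed_point_of_prime_not_dvd_card {y : G // y ∈ Z ∧ y ≠ 1} (by rw [hthree]; norm_num)
    have haW : a ∈ W := mem_four hno hW hW4 ha.2.1 fun w hw =>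
      mul_inv_eq_iff_eq_mul.1 (congrArg Subtype.val (hafix ⟨w, hw⟩) : w * a * w⁻¹ = a)
    have hbW := hWd a haW
    have hbZ := hZn d a ha
    have hb : d * a * d⁻¹ ≠ a := fun e => ha1 (hWfix a haW e)
    have hb1 : d * a * d⁻¹ ≠ 1 := fun e => ha1 (by simpa using e)
    have h4 : ∀ H : Subgroup G, Nat.card H = 4 → a ∈ H → d * a * d⁻¹ ∈ H →
        (H : Set G) = {1, a, d * a * d⁻¹, a * (d * a * d⁻¹)} := by
      intro H hH h1 h2
      refine (Set.eq_of_subset_of_ncard_le ?_ ?_).symm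
      · rintro _ (rfl | rfl | rfl | rfl)
        exacts [one_mem _, h1, h2, mul_mem h1 h2]
      · have e1 : a * (d * a * d⁻¹) ≠ 1 := fun e => hb (mul_left_cancel (a := a) (e.trans ha.2.1.symm))
        rw [← Nat.card_coe_set_eq, SetLike.coe_sort_coe, hH, Set.ncard_insert_of_notMem (by simp [ha1.symm, hb1.symm, e1.symm]),
          Set.ncard_insert_of_notMem (by simp [hb.symm, hb1]), Set.ncard_pair (by simpa using ha1)]
    exact SetLike.coe_injective ((h4 W hW4 haW hbW).trans (h4 Z hZ4 ha hbZ).symm)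
  -- `x` centralizes `Z`
  have hx33 : x * (x * x) = 1 := by
    rw [← pow_two, ← pow_succ']
    show x ^ 3 = 1
    rw [← hx3, pow_orderOf_eq_one]
  have hxZ : ∀ y ∈ Z, x * y * x⁻¹ = y := by
    by_cases hzc : ∀ y ∈ Z, y * z = z * y
    · have hzZ : z ∈ Z := mem_four hno hZel hZ4 hzz hzc
      exact hfix3 x hx33 z hzZ (fun e => by rw [e, orderOf_one] at hz2; norm_num at hz2) (mul_inv_eq_iff_eq_mul.2 hxz.eq)
    push Not at hzc
    obtain ⟨p₀, hp₀, hp₀z⟩ := hzc
    obtain ⟨c, hc⟩ : ∃ c, c = p₀ * (z * p₀ * z⁻¹) := ⟨_, rfl⟩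
    have hq₀ : z * p₀ * z⁻¹ ∈ Z := hZn z _ hp₀
    have hne : z * p₀ * z⁻¹ ≠ p₀ := fun e => hp₀z (mul_inv_eq_iff_eq_mul.1 e).symm
    have hcZ : c ∈ Z := hc ▸ mul_mem hp₀ hq₀
    have hc1 : c ≠ 1 := fun e => hne (mul_left_cancel (a := p₀) ((hc ▸ e).trans hp₀.2.1.symm))
    have hzc' : z * c * z⁻¹ = c := by
      rw [hc, show z * (p₀ * (z * p₀ * z⁻¹)) * z⁻¹ = (z * p₀ * z⁻¹) * ((z * z) * p₀ * (z * z)⁻¹) by group, hzz,
        one_mul, inv_one, mul_one, hq₀.2.2 p₀ hp₀.1]
    -- the only involution of `Z` fixed by `z` is `c`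
    have huniq : ∀ y ∈ Z, y ≠ 1 → z * y * z⁻¹ = y → y = c := by
      intro y hy hy1 hzy
      by_contra hne2
      have hp1 : p₀ ≠ 1 := fun e => hp₀z (by rw [e, one_mul, mul_one])
      have hq1 : z * p₀ * z⁻¹ ≠ 1 := fun e => hp1 (by simpa using e)
      have hcp : c ≠ p₀ := fun e => hq1 (mul_eq_left.1 (hc ▸ e))
      have hcq : c ≠ z * p₀ * z⁻¹ := fun e => hp1 (mul_eq_right.1 (hc ▸ e))
      have hyp : y ≠ p₀ := fun e => hne (e ▸ hzy)
      have hyq : y ≠ z * p₀ * z⁻¹ := fun e => hyp (by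
        rw [e, show z * (z * p₀ * z⁻¹) * z⁻¹ = (z * z) * p₀ * (z * z)⁻¹ by group, hzz, one_mul, inv_one, mul_one] at hzy
        rw [e, ← hzy])
      have h5 : ({1, c, y, p₀, z * p₀ * z⁻¹} : Set G).ncard = 5 := by
        rw [Set.ncard_insert_of_notMem (by simp [hc1.symm, hy1.symm, hp1.symm, hq1.symm]),
          Set.ncard_insert_of_notMem (by simp [Ne.symm hne2, hcp, hcq]),
          Set.ncard_insert_of_notMem (by simp [hyp, hyq]), Set.ncard_pair (Ne.symm hne)]
      have := Set.ncard_le_ncard (show ({1, c, y, p₀, z * p₀ * z⁻¹} : Set G) ⊆ Z by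
        rintro _ (rfl | rfl | rfl | rfl | rfl)
        exacts [one_mem _, hcZ, hy, hp₀, hq₀])
      rw [h5, ← Nat.card_coe_set_eq, SetLike.coe_sort_coe, hZ4] at this
      omega
    refine hfix3 x hx33 c hcZ hc1 (huniq _ (hZn x c hcZ) (fun e => hc1 (by simpa using e)) ?_)
    rw [show z * (x * c * x⁻¹) * z⁻¹ = (z * x) * c * (z * x)⁻¹ by group, ← hxz.eq,
      show (x * z) * c * (x * z)⁻¹ = x * (z * c * z⁻¹) * x⁻¹ by group, hzc']
  -- work inside `Q`
  have hinv : ∀ u : Q, u * u = 1 → (u : G) ∈ Z := fun u hu =>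
    mem_four hno hZel hZ4 (congrArg Subtype.val hu) fun a ha => ha.2.2 u u.2
  obtain ⟨α, hα⟩ : ∃ α : MulAut Q, α = MulAut.conjNormal x := ⟨_, rfl⟩
  obtain ⟨δ, hδ⟩ : ∃ δ : MulAut Q, δ = MulAut.conjNormal d := ⟨_, rfl⟩
  have hαv : ∀ u : Q, (α u : G) = x * u * x⁻¹ := fun u => by rw [hα]; exact MulAut.conjNormal_apply x u
  have hδv : ∀ u : Q, (δ u : G) = d * u * d⁻¹ := fun u => by rw [hδ]; exact MulAut.conjNormal_apply d u
  have hαinv : ∀ u : Q, u * u = 1 → α u = u := fun u hu =>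
    Subtype.ext ((hαv u).trans (hxZ _ (hinv u hu)))
  have hδinv : ∀ u : Q, u * u = 1 → δ u = u → u = 1 := fun u hu e =>
    Subtype.ext (hWfix _ (hWZ ▸ hinv u hu) ((hδv u).symm.trans (congrArg Subtype.val e)))
  have hcent : ∀ u : Q, u * u = 1 → ∀ v : Q, u * v = v * u := fun u hu v => Subtype.ext ((hinv u hu).2.2 v v.2)
  have hα3 : α ^ 3 = 1 := by rw [hα, ← map_pow, ← hx3, pow_orderOf_eq_one, map_one]
  have hα3' : ∀ u : Q, α (α (α u)) = u := fun u => by
    have e := congrArg (fun τ : MulAut Q => τ u) hα3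
    simpa [pow_succ, MulAut.mul_apply] using e
  obtain ⟨C, hCchar, hCsq, hCcomm, hCcent⟩ := Fusion.exists_critical hQp
  haveI := hCchar
  have hCinv : ∀ (τ : MulAut Q) (u : Q), u ∈ C → τ u ∈ C := fun τ u hu =>
    Subgroup.characteristic_iff_map_eq.1 hCchar τ ▸ Subgroup.mem_map_of_mem τ.toMonoidHom hu
  obtain ⟨A, hA⟩ : ∃ A, A = Fusion.zOf C := ⟨_, rfl⟩
  have hAmem : ∀ u, u ∈ A ↔ u ∈ C ∧ ∀ c ∈ C, c * u = u * c := fun u => by
    rw [hA, Subgroup.mem_inf, Subgroup.mem_centralizer_iff]; rfl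
  have hAinv : ∀ (τ : MulAut Q) (u : Q), u ∈ A → τ u ∈ A := by
    intro τ u hu
    rw [hAmem] at hu ⊢
    refine ⟨hCinv τ u hu.1, fun c hc => ?_⟩
    have h := hu.2 _ (hCinv τ⁻¹ c hc)
    have h2 := congrArg τ h
    rwa [map_mul, map_mul, MulAut.apply_inv_self] at h2
  have hAA : ∀ a ∈ A, ∀ b ∈ A, a * b = b * a := fun a ha b hb => ((hAmem b).1 hb).2 a ((hAmem a).1 ha).1
  have hZA : ∀ u : Q, u * u = 1 → u ∈ A := fun u hu => (hAmem u).2
    ⟨hCcent (Subgroup.mem_centralizer_iff.2 fun v _ => (hcent u hu v).symm), fun c _ => (hcent u hu c).symm⟩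
  -- `α` is trivial on `A`
  have hαA : ∀ u ∈ A, α u = u := by
    have key : ∀ i : ℕ, ∀ u ∈ A, u ^ 2 ^ i = 1 → α u = u := by
      intro i
      induction i with
      | zero => intro u _ h; rw [pow_zero, pow_one] at h; rw [h, map_one]
      | succ i ih =>
        intro u hu hu2
        have h2 := ih (u * u) (mul_mem hu hu) (by rw [← pow_two, ← pow_mul, ← pow_succ', hu2])
        obtain ⟨w, hw⟩ : ∃ w, w = u⁻¹ * α u := ⟨_, rfl⟩
        have hau : α u = u * w := by rw [hw, mul_inv_cancel_left]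
        have hwu : w * u = u * w := hAA w (hw ▸ mul_mem (inv_mem hu) (hAinv α u hu)) u hu
        have hww : w * w = 1 := by
          rw [map_mul, hau, show u * w * (u * w) = u * (w * u) * w by group, hwu,
            show u * (u * w) * w = (u * u) * (w * w) by group, mul_eq_left] at h2
          exact h2
        have hfw := hαinv w hww
        have h3 := hα3' u
        rw [hau, map_mul, hau, hfw, map_mul, map_mul, hau, hfw, mul_assoc (u * w), hww, mul_one, mul_eq_left] at h3
        rw [hau, h3, mul_one]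
    intro u hu
    obtain ⟨i, hi⟩ := hQp u
    exact key i u hu hi
  -- the squaring map
  let A' : Subgroup C := A.subgroupOf C
  haveI : A'.Normal := ⟨fun a ha c => by
    have e : c * a * c⁻¹ = a := Subtype.ext (by
      have hca : (c : Q) * (a : Q) = (a : Q) * c := ((hAmem _).1 ha).2 c c.2
      rw [Subgroup.coe_mul, Subgroup.coe_mul, InvMemClass.coe_inv, hca, mul_inv_cancel_right])
    rw [e]; exact ha⟩
  let sq : A →* A := MonoidHom.mk' (fun a => a * a) fun a b => by
    have h : (b : A) * a = a * b := Subtype.ext (hAA b b.2 a a.2)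
    calc a * b * (a * b) = a * (b * a) * b := by group
      _ = _ := by rw [h]; group
  let S : Subgroup A := sq.range
  haveI : S.Normal := ⟨fun s hs a => by
    have e : a * s * a⁻¹ = s := by rw [show a * s = s * a from Subtype.ext (hAA a a.2 s s.2), mul_inv_cancel_right]
    rw [e]; exact hs⟩
  have hK : ∀ k : A ⧸ S, k * k = 1 := fun k => by
    obtain ⟨a, rfl⟩ := QuotientGroup.mk_surjective k
    rw [← QuotientGroup.mk_mul, QuotientGroup.eq_one_iff]
    exact ⟨a, rfl⟩
  have hK4 : Nat.card (A ⧸ S) = 4 := by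
    have hker : Nat.card sq.ker = 4 := by
      rw [← hZ4]
      refine Nat.card_congr ⟨fun a => ⟨((a : A) : Q), hinv _ (congrArg Subtype.val a.2)⟩,
        fun y => ⟨⟨⟨y, y.2.1⟩, hZA _ (Subtype.ext y.2.2.1)⟩, Subtype.ext (Subtype.ext y.2.2.1)⟩,
        fun a => rfl, fun y => rfl⟩
    have h1 := Subgroup.card_eq_card_quotient_mul_card_subgroup S
    have h2 := Subgroup.card_eq_card_quotient_mul_card_subgroup sq.ker
    rw [Nat.card_congr (QuotientGroup.quotientKerEquivRange sq).toEquiv, hker] at h2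
    have hpos : 0 < Nat.card S := Nat.card_pos
    nlinarith
  have hsqA : ∀ c : C, (c : Q) * c ∈ A := fun c => by rw [hA, ← pow_two]; exact hCsq c c.2
  have hcomA : ∀ c e : C, ⁅(c : Q), (e : Q)⁆ ∈ A := fun c e => hA ▸ hCcomm
    (Subgroup.commutator_mem_commutator c.2 (Subgroup.mem_top _))
  obtain ⟨q₀, hq₀⟩ : ∃ q₀ : C → A ⧸ S, ∀ c : C, q₀ c = QuotientGroup.mk (⟨_, hsqA c⟩ : A) := ⟨_, fun _ => rfl⟩
  have hwd : ∀ c e : C, c⁻¹ * e ∈ A' → q₀ c = q₀ e := by
    intro c e h
    rw [hq₀, hq₀, QuotientGroup.eq]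
    refine ⟨⟨_, h⟩, Subtype.ext ?_⟩
    show ((c : Q)⁻¹ * e) * ((c : Q)⁻¹ * e) = ((c : Q) * c)⁻¹ * ((e : Q) * e)
    have hce : (c : Q) * ((c : Q)⁻¹ * e) = ((c : Q)⁻¹ * e) * c := ((hAmem _).1 h).2 c c.2
    calc ((c : Q)⁻¹ * e) * ((c : Q)⁻¹ * e) = (c : Q)⁻¹ * (c : Q)⁻¹ * ((c : Q) * ((c : Q)⁻¹ * e)) * ((c : Q) * ((c : Q)⁻¹ * e)) := by
          rw [show (c : Q)⁻¹ * (c : Q)⁻¹ * ((c : Q) * ((c : Q)⁻¹ * e)) * ((c : Q) * ((c : Q)⁻¹ * e)) =
            (c : Q)⁻¹ * (((c : Q)⁻¹ * e) * (c : Q)) * ((c : Q)⁻¹ * e) by group, ← hce]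
          group
      _ = _ := by group
  obtain ⟨qf, hqf⟩ : ∃ qf : C ⧸ A' → A ⧸ S, ∀ c : C, qf (QuotientGroup.mk c) = q₀ c :=
    ⟨Quotient.lift q₀ (fun c e h => hwd c e (QuotientGroup.leftRel_apply.1 h)), fun _ => rfl⟩
  have haniso : ∀ v, qf v = 1 → v = 1 := by
    intro v hv
    obtain ⟨c, rfl⟩ := QuotientGroup.mk_surjective v
    rw [hqf, hq₀, QuotientGroup.eq_one_iff] at hv
    obtain ⟨a, ha⟩ := hv
    have ha' : ((a : A) : Q) * a = (c : Q) * c := congrArg Subtype.val ha
    have hca : (c : Q) * (a : Q) = (a : Q) * c := ((hAmem _).1 a.2).2 c c.2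
    have h1 : ((a : Q)⁻¹ * c) * ((a : Q)⁻¹ * c) = 1 := by
      calc ((a : Q)⁻¹ * c) * ((a : Q)⁻¹ * c) = (a : Q)⁻¹ * (a : Q)⁻¹ * ((c : Q) * c) := by
            rw [show ((a : Q)⁻¹ * c) * ((a : Q)⁻¹ * c) = (a : Q)⁻¹ * ((c : Q) * (a : Q)⁻¹) * c by group,
              (Commute.inv_right hca : Commute (c : Q) (a : Q)⁻¹).eq]
            group
        _ = 1 := by rw [← ha']; group
    have h2 := mul_mem a.2 (hZA _ h1)
    rw [mul_inv_cancel_left] at h2
    exact (QuotientGroup.eq_one_iff c).2 h2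
  obtain ⟨κ, hκ⟩ : ∃ κ : C → C → Q, ∀ c e, κ c e = ((c : Q) * e)⁻¹ * ((e : Q) * c) := ⟨_, fun _ _ => rfl⟩
  have hκA : ∀ c e, κ c e ∈ A := fun c e => by
    have := hcomA e⁻¹ c⁻¹
    rw [commutatorElement_def, InvMemClass.coe_inv, InvMemClass.coe_inv, inv_inv, inv_inv] at this
    rw [hκ, show ((c : Q) * e)⁻¹ * ((e : Q) * c) = (e : Q)⁻¹ * (c : Q)⁻¹ * e * c by group]
    exact this
  have hmul : ∀ c e : C, qf (QuotientGroup.mk (c * e)) * qf (QuotientGroup.mk c) * qf (QuotientGroup.mk e) =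
      QuotientGroup.mk (⟨_, hκA c e⟩ : A) := by
    intro c e
    have hKc : ∀ k l : A ⧸ S, k * l = l * k := fun k l => by
      obtain ⟨k, rfl⟩ := QuotientGroup.mk_surjective k
      obtain ⟨l, rfl⟩ := QuotientGroup.mk_surjective l
      rw [← QuotientGroup.mk_mul, ← QuotientGroup.mk_mul]
      exact congrArg _ (Subtype.ext (hAA k k.2 l l.2))
    rw [hqf, hqf, hqf, hq₀, hq₀, hq₀]
    have e1 : (⟨_, hsqA (c * e)⟩ : A) = ⟨_, hsqA c⟩ * ⟨_, hsqA e⟩ * ⟨_, hκA c e⟩ := by
      apply Subtype.ext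
      show ((c : Q) * e) * ((c : Q) * e) = ((c : Q) * c) * ((e : Q) * e) * κ c e
      have hk := ((hAmem _).1 (hκA c e)).2 e e.2
      have he : (e : Q) * c = (c : Q) * e * κ c e := by rw [hκ]; group
      calc ((c : Q) * e) * ((c : Q) * e) = (c : Q) * ((e : Q) * c) * e := by group
        _ = (c : Q) * c * e * (κ c e * e) := by rw [he]; group
        _ = _ := by rw [← hk]; group
    rw [e1, QuotientGroup.mk_mul, QuotientGroup.mk_mul]
    generalize (QuotientGroup.mk (⟨_, hsqA c⟩ : A) : A ⧸ S) = u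
    generalize (QuotientGroup.mk (⟨_, hsqA e⟩ : A) : A ⧸ S) = v
    generalize (QuotientGroup.mk (⟨_, hκA c e⟩ : A) : A ⧸ S) = w
    calc u * v * w * u * v = (u * v * w) * (u * v) := by rw [mul_assoc]
      _ = (u * v) * ((u * v) * w) := by rw [hKc (u * v * w)]
      _ = w := by rw [← mul_assoc, hK, one_mul]
  have hbil : ∀ u₁ u₂ w, qf (u₁ * u₂ * w) * qf (u₁ * u₂) * qf w =
      (qf (u₁ * w) * qf u₁ * qf w) * (qf (u₂ * w) * qf u₂ * qf w) := by
    intro u₁ u₂ w
    obtain ⟨c₁, rfl⟩ := QuotientGroup.mk_surjective u₁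
    obtain ⟨c₂, rfl⟩ := QuotientGroup.mk_surjective u₂
    obtain ⟨e, rfl⟩ := QuotientGroup.mk_surjective w
    simp only [← QuotientGroup.mk_mul, hmul]
    congr 1
    apply Subtype.ext
    show κ (c₁ * c₂) e = κ c₁ e * κ c₂ e
    have h1 : (e : Q) * c₁ = (c₁ : Q) * e * κ c₁ e := by rw [hκ]; group
    have h2 : (e : Q) * c₂ = (c₂ : Q) * e * κ c₂ e := by rw [hκ]; group
    have k1 := ((hAmem _).1 (hκA c₁ e)).2 c₂ c₂.2
    have k2 : κ c₁ e * κ c₂ e = κ c₂ e * κ c₁ e := hAA _ (hκA c₁ e) _ (hκA c₂ e)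
    rw [hκ (c₁ * c₂), Subgroup.coe_mul,
      show (e : Q) * ((c₁ : Q) * c₂) = (e : Q) * c₁ * c₂ by group, h1,
      show (c₁ : Q) * e * κ c₁ e * c₂ = (c₁ : Q) * e * (κ c₁ e * c₂) by group, ← k1,
      show (c₁ : Q) * e * ((c₂ : Q) * κ c₁ e) = (c₁ : Q) * ((e : Q) * c₂) * κ c₁ e by group, h2, k2]
    group
  -- the two automorphisms
  obtain ⟨δA, hδA⟩ : ∃ δA : A ≃* A, ∀ a : A, (δA a : Q) = δ a :=
    ⟨{ toFun := fun a => ⟨δ a, hAinv δ a a.2⟩
       invFun := fun a => ⟨δ⁻¹ a, hAinv δ⁻¹ a a.2⟩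
       left_inv := fun a => Subtype.ext (MulAut.inv_apply_self _ δ a)
       right_inv := fun a => Subtype.ext (MulAut.apply_inv_self _ δ a)
       map_mul' := fun a b => Subtype.ext (map_mul δ _ _) }, fun _ => rfl⟩
  have hSδ : S.map δA.toMonoidHom = S := by
    ext s
    constructor
    · rintro ⟨_, ⟨a, rfl⟩, rfl⟩
      exact ⟨δA a, (map_mul δA a a).symm⟩
    · rintro ⟨a, rfl⟩
      exact ⟨_, ⟨δA.symm a, rfl⟩, by
        show δA (δA.symm a * δA.symm a) = a * a
        rw [map_mul, δA.apply_symm_apply]⟩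
  obtain ⟨δK, hδK⟩ : ∃ δK : A ⧸ S ≃* A ⧸ S, ∀ a : A, δK (QuotientGroup.mk a) = QuotientGroup.mk (δA a) :=
    ⟨QuotientGroup.congr S S δA hSδ, fun _ => rfl⟩
  have hδKfix : ∀ k, δK k = k → k = 1 := by
    intro k hk'
    obtain ⟨a, rfl⟩ := QuotientGroup.mk_surjective k
    rw [hδK] at hk'
    by_contra hne
    letI : MulAction (Subgroup.zpowers d) {b : A // (QuotientGroup.mk b : A ⧸ S) = QuotientGroup.mk a} :=
      { smul := fun g b => ⟨⟨MulAut.conjNormal (g : G) ((b.1 : A) : Q), hAinv _ _ b.1.2⟩, by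
          have key : ∀ g : G, g ∈ Subgroup.zpowers d → ∀ b : A, (QuotientGroup.mk b : A ⧸ S) = QuotientGroup.mk a →
              (QuotientGroup.mk (⟨MulAut.conjNormal g ((b : A) : Q), hAinv _ _ b.2⟩ : A) : A ⧸ S) = QuotientGroup.mk a := by
            intro g hg
            obtain ⟨n, rfl⟩ := (mem_powers_iff_mem_zpowers.2 hg)
            clear hg
            dsimp only
            induction n with
            | zero => intro b hb; simpa using hb
            | succ n ih =>
              intro b hb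
              have h1 := ih (δA b) (by rw [← hδK, hb, hδK, hk'])
              refine Eq.trans (congrArg _ (Subtype.ext ?_)) h1
              show MulAut.conjNormal (d ^ (n + 1)) (b : Q) = MulAut.conjNormal (d ^ n) ((δA b : A) : Q)
              rw [hδA, hδ, pow_succ, map_mul, MulAut.mul_apply]
          exact key g g.2 b.1 b.2⟩
        one_smul := fun b => Subtype.ext (Subtype.ext (by
          show MulAut.conjNormal (1 : G) ((b.1 : A) : Q) = _
          rw [map_one]; rfl))
        mul_smul := fun g g' b => Subtype.ext (Subtype.ext (by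
          show MulAut.conjNormal ((g : G) * g') ((b.1 : A) : Q) = MulAut.conjNormal (g : G) (MulAut.conjNormal (g' : G) ((b.1 : A) : Q))
          rw [map_mul]; rfl)) }
    haveI : Fact (Nat.Prime 3) := ⟨Nat.prime_three⟩
    have hcardcoset : Nat.card {b : A // (QuotientGroup.mk b : A ⧸ S) = QuotientGroup.mk a} = Nat.card S :=
      Nat.card_congr
        ⟨fun b => ⟨a⁻¹ * b.1, QuotientGroup.eq.1 b.2.symm⟩,
          fun s => ⟨a * s.1, (QuotientGroup.eq.2 (by rw [inv_mul_cancel_left]; exact s.2)).symm⟩,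
          fun b => Subtype.ext (mul_inv_cancel_left a b.1), fun s => Subtype.ext (inv_mul_cancel_left a s.1)⟩
    obtain ⟨i, hi⟩ := IsPGroup.iff_card.1 (((hQp.to_subgroup A).to_subgroup S))
    obtain ⟨b, hb⟩ := hd.nonempty_fixed_point_of_prime_not_dvd_card
      {b : A // (QuotientGroup.mk b : A ⧸ S) = QuotientGroup.mk a} (by
        rw [hcardcoset, hi]
        exact fun h => absurd ((Nat.prime_dvd_prime_iff_eq Nat.prime_three Nat.prime_two).1 (Nat.prime_three.dvd_of_dvd_pow h)) (by norm_num))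
    have hbfix : δ ((b.1 : A) : Q) = (b.1 : A) := by
      rw [hδ]
      exact congrArg (fun b' => ((b'.1 : A) : Q)) (hb ⟨d, Subgroup.mem_zpowers d⟩)
    obtain ⟨j, hj⟩ := hQp ((b.1 : A) : Q)
    have hall : ∀ j : ℕ, ((b.1 : A) : Q) ^ 2 ^ j = 1 → ((b.1 : A) : Q) = 1 := by
      intro j
      induction j with
      | zero => intro h; rwa [pow_zero, pow_one] at h
      | succ j ih =>
        intro h
        refine ih (hδinv _ (by rw [← pow_two, ← pow_mul, ← pow_succ, h]) (by rw [map_pow, hbfix]))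
    apply hne
    rw [← b.2, show b.1 = 1 from Subtype.ext (hall j hj)]
    rfl
  obtain ⟨δC, hδC⟩ : ∃ δC : C ≃* C, ∀ c : C, (δC c : Q) = δ c :=
    ⟨{ toFun := fun a => ⟨δ a, hCinv δ a a.2⟩
       invFun := fun a => ⟨δ⁻¹ a, hCinv δ⁻¹ a a.2⟩
       left_inv := fun a => Subtype.ext (MulAut.inv_apply_self _ δ a)
       right_inv := fun a => Subtype.ext (MulAut.apply_inv_self _ δ a)
       map_mul' := fun a b => Subtype.ext (map_mul δ _ _) }, fun _ => rfl⟩
  obtain ⟨αC, hαC⟩ : ∃ αC : C ≃* C, ∀ c : C, (αC c : Q) = α c :=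
    ⟨{ toFun := fun a => ⟨α a, hCinv α a a.2⟩
       invFun := fun a => ⟨α⁻¹ a, hCinv α⁻¹ a a.2⟩
       left_inv := fun a => Subtype.ext (MulAut.inv_apply_self _ α a)
       right_inv := fun a => Subtype.ext (MulAut.apply_inv_self _ α a)
       map_mul' := fun a b => Subtype.ext (map_mul α _ _) }, fun _ => rfl⟩
  have hmapA : ∀ (τ : MulAut Q) (τC : C ≃* C), (∀ c : C, (τC c : Q) = τ c) → A'.map τC.toMonoidHom = A' := by
    intro τ τC hτ
    ext c
    constructor
    · rintro ⟨b, hb, rfl⟩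
      show (τC b : Q) ∈ A
      rw [hτ]; exact hAinv τ _ hb
    · intro hc
      refine ⟨τC.symm c, ?_, τC.apply_symm_apply c⟩
      show (τC.symm c : Q) ∈ A
      have h := hτ (τC.symm c)
      rw [τC.apply_symm_apply] at h
      have h2 : τ⁻¹ (c : Q) ∈ A := hAinv τ⁻¹ _ hc
      rwa [h, MulAut.inv_apply_self] at h2
  have hσ1 := no_form hK hK4 qf (by
      rw [← QuotientGroup.mk_one, hqf, hq₀, QuotientGroup.eq_one_iff]
      exact ⟨1, Subtype.ext rfl⟩)
    haniso hbil δK hδKfix δK.injective (map_one δK)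
    (QuotientGroup.congr A' A' δC (hmapA δ δC hδC)).toEquiv (fun v => by
      obtain ⟨c, rfl⟩ := QuotientGroup.mk_surjective v
      show qf (QuotientGroup.mk (δC c)) = δK (qf (QuotientGroup.mk c))
      rw [hqf, hqf, hq₀, hq₀, hδK]
      exact congrArg _ (Subtype.ext (by rw [hδA]; show (δC c : Q) * δC c = δ ((c : Q) * c); rw [hδC, map_mul])))
    (QuotientGroup.congr A' A' αC (hmapA α αC hαC)) (by
      ext v
      obtain ⟨c, rfl⟩ := QuotientGroup.mk_surjective v
      show (QuotientGroup.mk (αC (αC (αC c))) : C ⧸ A') = QuotientGroup.mk c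
      exact congrArg _ (Subtype.ext (by rw [hαC, hαC, hαC, hα3'])))
    (fun v => by
      obtain ⟨c, rfl⟩ := QuotientGroup.mk_surjective v
      show qf (QuotientGroup.mk (αC c)) = qf (QuotientGroup.mk c)
      rw [hqf, hqf, hq₀, hq₀]
      exact congrArg _ (Subtype.ext (by show (αC c : Q) * αC c = (c : Q) * c; rw [hαC, ← map_mul, hαA _ (hsqA c)])))
  -- so `x` centralizes `C`, hence `Q`
  have hαfix : ∀ c ∈ C, α c = c := by
    intro c hc
    have h : (QuotientGroup.mk (αC ⟨c, hc⟩) : C ⧸ A') = QuotientGroup.mk (⟨c, hc⟩ : C) :=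
      congrArg (fun τ : MulAut (C ⧸ A') => τ (QuotientGroup.mk (⟨c, hc⟩ : C))) hσ1
    have h2 := QuotientGroup.eq.1 h.symm
    have hw : c⁻¹ * α c ∈ A := by
      have h3 : ((⟨c, hc⟩ : C)⁻¹ * αC ⟨c, hc⟩ : C).1 ∈ A := h2
      rwa [Subgroup.coe_mul, InvMemClass.coe_inv, hαC] at h3
    obtain ⟨w, hw'⟩ : ∃ w, w = c⁻¹ * α c := ⟨_, rfl⟩
    rw [← hw'] at hw
    have hau : α c = c * w := by rw [hw', mul_inv_cancel_left]
    have h3 := hα3' c
    rw [hau, map_mul, hau, hαA w hw, map_mul, map_mul, hau, hαA w hw, mul_assoc, mul_assoc, mul_eq_left] at h3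
    obtain ⟨i, hi⟩ := hQp w
    have hw1 : w = 1 := orderOf_eq_one_iff.1 (Nat.eq_one_of_dvd_coprimes
      ((((Nat.coprime_primes Nat.prime_three Nat.prime_two).2 (by norm_num)).pow_right i))
      (orderOf_dvd_of_pow_eq_one (by rw [pow_succ, pow_two, mul_assoc, h3])) (orderOf_dvd_of_pow_eq_one hi))
    rw [hau, hw1, mul_one]
  have hα1 := Fusion.aut_eq_one_of_fix hQp hCcent α
    ((Nat.Coprime.coprime_dvd_left (orderOf_dvd_of_pow_eq_one hα3) (by norm_num))) hαfix
  have hxQ : x ∈ Q := hchar (Subgroup.mem_centralizer_iff.2 fun u hu => by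
    have h := (hαv ⟨u, hu⟩).symm
    rw [hα1] at h
    exact (mul_inv_eq_iff_eq_mul.1 h).symm)
  obtain ⟨i, hi⟩ := hQp ⟨x, hxQ⟩
  have h32 : 3 ∣ 2 ^ i := hx3 ▸ orderOf_dvd_of_pow_eq_one (congrArg Subtype.val hi)
  exact absurd ((Nat.prime_dvd_prime_iff_eq Nat.prime_three Nat.prime_two).1 (Nat.prime_three.dvd_of_dvd_pow h32)) (by norm_num)

end Cfsg.Agent.S3739
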