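import Cfsg.Statements.S3740
import Cfsg.Agent.Lib.Fusion.Dickson
import Cfsg.Agent.Lib.Classical.SL2FourSylow
import Cfsg.Agent.Lib.Solv.Coprime

set_option autoImplicit false
set_option linter.style.haveILetI false
set_option linter.style.setOption false
open Cfsg

open scoped Pointwise commutatorElement
open Cfsg.Agent Cfsg.Agent.Solv Cfsg.Agent.Small Cfsg.Agent.Small.SL2C

namespace Cfsg.Agent.S3740

/-- A nontrivial unipotent element normalises no torus of a nonsplit or split semisimple element. -/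
theorem key {F : Type} [Field F] [Fintype F] {p : ℕ} [Fact p.Prime] [CharP F p] (hp : p ≠ 2)
    {a c : Matrix.SpecialLinearGroup (Fin 2) F} (ha : a ^ p = 1) (ha1 : a ≠ 1)
    (hc : ¬ IsSc c.1) (ht : c.1.trace * c.1.trace ≠ 4) (hm : a * c * a⁻¹ ∈ tor c) : False := by
  have htr : (a * c * a⁻¹).1.trace = c.1.trace :=
    (trace_conj (isConj_iff.mpr ⟨a, rfl⟩)).symm
  have hX := (tor_eq ht hm (not_isSc_of_trace (by rw [htr]; exact ht))).1
  have hn : a ∈ Subgroup.normalizer (tor c : Set (Matrix.SpecialLinearGroup (Fin 2) F)) := by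
    rw [Subgroup.mem_normalizer_iff]
    intro y
    conv_rhs => rw [← hX]
    simp only [Subgroup.mem_centralizer_singleton_iff]
    constructor
    · intro h
      calc a * y * a⁻¹ * (a * c * a⁻¹) = a * (y * c) * a⁻¹ := by group
        _ = a * c * a⁻¹ * (a * y * a⁻¹) := by rw [h]; group
    · intro h
      have := congrArg (fun z => a⁻¹ * z * a) h
      simpa [mul_assoc] using this
  obtain ⟨m, hm2⟩ : ∃ m, p = 2 * m + 1 := by
    rcases (Fact.out : p.Prime).eq_two_or_odd with h | h
    · exact absurd h hp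
    · exact ⟨p / 2, by omega⟩
  have hat : a ∈ tor c := by
    rcases normalizer_cases ht hn with h | h
    · exact h
    · have h2 : a * a ∈ tor c := by
        rw [Subgroup.mem_centralizer_singleton_iff]
        have h' : a * c⁻¹ = c * a := by
          calc a * c⁻¹ = c * (c⁻¹ * a) * c⁻¹ := by group
            _ = c * a := by rw [← h]; group
        rw [mul_assoc, h, ← mul_assoc, h', mul_assoc]
      have : a = (a * a) ^ (m + 1) := by
        rw [← pow_two, ← pow_mul, show 2 * (m + 1) = p + 1 by omega, pow_succ, ha, one_mul]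
      rw [this]
      exact pow_mem h2 _
  have hns : ¬ IsSc a.1 := by
    intro hs
    rcases isSc_SL hs with h | h
    · exact ha1 (Subtype.ext h)
    · have e : (-1 : Matrix (Fin 2) (Fin 2) F) = 1 := by
        have := congrArg (fun z : Matrix.SpecialLinearGroup (Fin 2) F => z.1) ha
        simp only [Matrix.SpecialLinearGroup.coe_pow, Matrix.SpecialLinearGroup.coe_one, h] at this
        rwa [Odd.neg_one_pow ⟨m, hm2⟩] at this
      exact ha1 (Subtype.ext (h.trans e))
  refine (tor_eq ht hat hns).2 ?_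
  have h2 : Cfsg.Agent.Fusion.Dickson.tr a = 2 :=
    Cfsg.Agent.Fusion.Dickson.tr_of_pow_eq_one p (j := 1) (by rw [pow_one]; exact ha)
  rw [Cfsg.Agent.Fusion.Dickson.tr] at h2
  rw [Matrix.trace_fin_two, h2]; norm_num

/-- Let F be a finite field of odd characteristic p and let a be a p-element of SL₂(F) normalizing a subgroup R of order prime to p with [R, a] ≠ 1. Then p = 3, R is a quaternion group of order 8, and R⟨a⟩ is isomorphic to SL₂(3). -/
theorem result (F : Type) [Field F] [Fintype F] {p : ℕ} [Fact p.Prime] [CharP F p] (hp : p ≠ 2) (a : Matrix.SpecialLinearGroup (Fin 2) F) (ha : IsPGroup p ↥(Subgroup.zpowers a)) (R : Subgroup (Matrix.SpecialLinearGroup (Fin 2) F)) (hR : (Nat.card R).Coprime p) (haR : a ∈ Subgroup.normalizer (R : Set (Matrix.SpecialLinearGroup (Fin 2) F))) (hnt : ⁅R, Subgroup.zpowers a⁆ ≠ ⊥) : p = 3 ∧ Nonempty (↥R ≃* QuaternionGroup 2) ∧ Nonempty (↥(R ⊔ Subgroup.zpowers a) ≃* Matrix.SpecialLinearGroup (Fin 2) (ZMod 3)) := by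
  classical
  have hp' : p.Prime := Fact.out
  have h2 : (2 : F) ≠ 0 := two_ne_zero_of_char p hp
  haveI : Group.IsSolvable (Subgroup.zpowers a) := inferInstance
  -- `a` has order `p`
  have hap : a ^ p = 1 := by
    obtain ⟨j, hj⟩ := ha ⟨a, Subgroup.mem_zpowers a⟩
    exact Fusion.Dickson.pow_eq_one_of_tr p
      (Fusion.Dickson.tr_of_pow_eq_one p (congrArg Subtype.val hj))
  have ha1 : a ≠ 1 := fun h => hnt (by
    rw [h, Subgroup.zpowers_one_eq_bot, Subgroup.commutator_bot_right])
  have hcA : Nat.card (Subgroup.zpowers a) = p := by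
    rw [Nat.card_zpowers]; exact orderOf_eq_prime hap ha1
  have hAR : Subgroup.zpowers a ≤ Subgroup.normalizer (R : Set (Matrix.SpecialLinearGroup (Fin 2) F)) :=
    Subgroup.zpowers_le.mpr haR
  have hcop : ∀ x ∈ R, x ^ p = 1 → x = 1 := by
    intro x hx h
    have h1 : x ^ Nat.card R = 1 := congrArg Subtype.val (pow_card_eq_one' (x := (⟨x, hx⟩ : R)))
    have := pow_gcd_eq_one.mpr ⟨h1, h⟩
    rwa [Nat.coprime_iff_gcd_eq_one.mp hR, pow_one] at this
  have key' : ∀ c ∈ R, ¬ IsSc c.1 → a * c * a⁻¹ ∉ Subgroup.zpowers c := by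
    intro c hc hns hm
    refine key hp hap ha1 hns ?_ (Subgroup.zpowers_le.mpr (self_mem_tor c) hm)
    intro h4
    have h5 : (c * c) ^ p = 1 := by
      refine Fusion.Dickson.pow_eq_one_of_tr p ?_
      have : (c * c).1.trace = 2 := by
        rw [val_mul', sq_eq, Matrix.trace_sub, Matrix.trace_smul, smul_eq_mul, h4, Matrix.trace_one,
          Fintype.card_fin]
        norm_num
      rwa [Matrix.trace_fin_two] at this
    rcases sq_one_cases h2 (hcop _ (mul_mem hc hc) h5) with h | h
    · exact hns ⟨1, by rw [h, one_smul]⟩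
    · exact hns ⟨-1, by rw [h, neg_one_smul]⟩
  -- `R` is a `2`-group
  have hR2 : IsPGroup 2 R := by
    have hR2' : ∀ r : ℕ, r.Prime → r ∣ Nat.card R → r = 2 := by
      intro r hr hdvd
      by_contra hne
      haveI := Fact.mk hr
      obtain ⟨P, hP, hPinv⟩ := exists_invariant_sylow hAR (by rw [hcA]; exact hR.symm)
        (Or.inl inferInstance) r
      obtain ⟨S, hS⟩ := hP.isPGroup.exists_le_sylow
      have hrp : r ≠ p := by
        rintro rfl
        exact hr.ne_one (Nat.eq_one_of_dvd_coprimes hR hdvd dvd_rfl)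
      haveI := Classical.SL2Four.sylow_odd_cyclic p r hne hrp S
      haveI : IsCyclic P :=
        isCyclic_of_injective (Subgroup.inclusion hS) (Subgroup.inclusion_injective hS)
      obtain ⟨c, hc⟩ := IsCyclic.exists_generator (α := P)
      have hc1 : (c : Matrix.SpecialLinearGroup (Fin 2) F) ≠ 1 := by
        intro h
        have hPbot : Nat.card P = 1 := by
          haveI : Subsingleton P := ⟨fun x y => by
            obtain ⟨i, hi⟩ := hc x; obtain ⟨j, hj⟩ := hc y
            rw [← hi, ← hj, Subtype.ext h (a2 := (1 : P))]; simp⟩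
          exact Nat.card_of_subsingleton 1
        rw [hP.2] at hPbot
        have := hr.factorization_pos_of_dvd Nat.card_pos.ne' hdvd
        exact absurd hPbot (Nat.one_lt_pow this.ne' hr.one_lt).ne'
      have hns : ¬ IsSc c.1.1 := by
        intro hs
        obtain ⟨i, hi⟩ := hP.isPGroup c
        have h' : c.1 * c.1 = 1 := by
          apply Subtype.ext
          rcases isSc_SL hs with h | h <;> simp [val_mul', h]
        have h1 : (c : Matrix.SpecialLinearGroup (Fin 2) F) ^ r ^ i = 1 := congrArg Subtype.val hi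
        have := pow_gcd_eq_one.mpr ⟨h1, (pow_two c.1).trans h'⟩
        rw [Nat.coprime_iff_gcd_eq_one.mp
          (((Nat.coprime_primes hr Nat.prime_two).mpr hne).pow_left i), pow_one] at this
        exact hc1 this
      refine key' c.1 (hP.1 c.2) hns ?_
      obtain ⟨i, hi⟩ := hc ⟨a * c.1 * a⁻¹,
        (Subgroup.mem_normalizer_iff.mp (hPinv (Subgroup.mem_zpowers a)) c.1).mp c.2⟩
      exact ⟨i, congrArg Subtype.val hi⟩
    refine IsPGroup.of_card (n := (Nat.card R).primeFactorsList.length) ?_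
    exact Nat.eq_prime_pow_of_unique_prime_dvd Nat.card_pos.ne' @hR2'
  -- `R` is quaternion of order eight
  have hnR : ∀ x ∈ R, a * x * a⁻¹ ∈ R := fun x hx => (Subgroup.mem_normalizer_iff.mp haR x).mp hx
  have hnc : ¬ IsCyclic R := by
    intro hcyc
    obtain ⟨c, hc⟩ := hcyc.exists_generator
    by_cases hs : IsSc c.1.1
    · refine hnt (Subgroup.commutator_eq_bot_iff_le_centralizer.mpr fun x hx => ?_)
      refine Subgroup.center_le_centralizer _ ?_
      obtain ⟨i, hi⟩ := hc ⟨x, hx⟩
      rw [show x = c.1 ^ i from (congrArg Subtype.val hi).symm]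
      exact zpow_mem (mem_center_iff.mpr hs) i
    · obtain ⟨i, hi⟩ := hc ⟨_, hnR _ c.2⟩
      exact key' c.1 c.2 hs ⟨i, congrArg Subtype.val hi⟩
  obtain ⟨k, hk, ⟨e⟩⟩ := Classical.SL2Four.quaternion_of_not_cyclic h2 R hR2 hnc
  have hk1 : k = 1 := by
    by_contra hne
    have h4 : 2 ^ 2 ≤ 2 ^ k := Nat.pow_le_pow_right two_pos (by omega)
    set c : R := e.symm (QuaternionGroup.a 1) with hcdef
    have hoc : orderOf c = 2 * 2 ^ k := by
      rw [hcdef, MulEquiv.orderOf_eq]; exact QuaternionGroup.orderOf_a_one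
    have hns : ¬ IsSc c.1.1 := by
      intro hs
      have h' : c.1 * c.1 = 1 := by
        apply Subtype.ext
        rcases isSc_SL hs with h | h <;> simp [val_mul', h]
      have := orderOf_dvd_of_pow_eq_one ((pow_two c).trans (Subtype.ext h'))
      rw [hoc] at this
      have := Nat.le_of_dvd two_pos this
      omega
    refine key' c.1 c.2 hns ?_
    set d : R := ⟨_, hnR _ c.2⟩ with hddef
    have hod : orderOf d = 2 * 2 ^ k := by
      rw [← hoc, ← Subgroup.orderOf_coe, ← Subgroup.orderOf_coe c]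
      exact MulEquiv.orderOf_eq (MulAut.conj a) c.1
    have hd' : orderOf (e d) = 2 * 2 ^ k := by rw [MulEquiv.orderOf_eq, hod]
    rcases hed : e d with i | i
    · have h1 : c ^ i.val = d := by
        apply e.injective
        rw [map_pow, hcdef, MulEquiv.apply_symm_apply, hed, QuaternionGroup.a_one_pow,
          ZMod.natCast_zmod_val]
      exact ⟨i.val, by simp only [zpow_natCast]; exact congrArg Subtype.val h1⟩
    · rw [hed, QuaternionGroup.orderOf_xa] at hd'
      omega
  subst hk1
  have hR8 : Nat.card R = 8 := by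
    rw [Nat.card_congr e.toEquiv, Nat.card_eq_fintype_card, QuaternionGroup.card]; norm_num
  -- Dickson's theorem
  set H := R ⊔ Subgroup.zpowers a with hH
  have hcH : Nat.card H = 8 * p := by
    have h := card_sup_mul_card_inf' R (Subgroup.zpowers a) hAR
    rwa [coprime_inf (by rw [hcA]; exact hR), Subgroup.card_bot, mul_one, hR8, hcA] at h
  have haH : a ∈ H := Subgroup.mem_sup_right (Subgroup.mem_zpowers a)
  obtain ⟨r, hr, hra⟩ : ∃ r ∈ R, r * a * r⁻¹ * a ≠ a * (r * a * r⁻¹) := by
    by_contra! h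
    refine hnt (Subgroup.commutator_eq_bot_iff_le_centralizer.mpr fun x hx => ?_)
    have hy : (x * a * x⁻¹ * a⁻¹) ^ p = 1 := by
      rw [(Commute.inv_right (h x hx : Commute (x * a * x⁻¹) a)).mul_pow, conj_pow, hap,
        inv_pow, hap]
      group
    have hmem : x * a * x⁻¹ * a⁻¹ ∈ R := by
      rw [show x * a * x⁻¹ * a⁻¹ = x * (a * x⁻¹ * a⁻¹) by group]
      exact mul_mem hx (hnR _ (inv_mem hx))
    have hxa : x * a = a * x := by
      have := hcop _ hmem hy
      calc x * a = x * a * x⁻¹ * a⁻¹ * a * x := by group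
        _ = a * x := by rw [this, one_mul]
    rw [Subgroup.zpowers_eq_closure, Subgroup.centralizer_closure]
    exact Subgroup.mem_centralizer_singleton_iff.mpr hxa
  obtain ⟨L, hLH, ⟨eL⟩⟩ := Fusion.Dickson.exists_sl2_le p hp H
    ⟨r * a * r⁻¹, mul_mem (mul_mem (Subgroup.mem_sup_left hr) haH)
      (inv_mem (Subgroup.mem_sup_left hr)), a, haH, by rw [conj_pow, hap, mul_one, mul_inv_cancel],
      hap, hra⟩
  have hcL : Nat.card L = p * (p ^ 2 - 1) := by
    rw [Nat.card_congr eL.toEquiv, card_SL2, ZMod.card]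
  have hdvd : p * (p ^ 2 - 1) ∣ p * 8 := by
    rw [mul_comm p 8, ← hcH, ← hcL]; exact Subgroup.card_dvd_of_le hLH
  have h8 := Nat.le_of_dvd (by norm_num) (Nat.dvd_of_mul_dvd_mul_left hp'.pos hdvd)
  have hp3 : p = 3 := by
    have := hp'.two_le
    by_contra h
    have h4 : 4 ≤ p := by omega
    have := Nat.pow_le_pow_left h4 2
    omega
  subst hp3
  have hLH' : L = H := Subgroup.eq_of_le_of_card_ge hLH (by rw [hcH, hcL]; norm_num)
  subst hLH'
  exact ⟨rfl, ⟨e⟩, ⟨eL⟩⟩

end Cfsg.Agent.S3740
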