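import Cfsg.Statements.S3741
import Cfsg.Agent.Lib.Solv.Basic

set_option autoImplicit false
open Cfsg

open scoped Pointwise commutatorElement

namespace Cfsg.Agent.S3741

theorem half_le {G : Type*} [Group G] [Finite G] {p : ℕ} [Fact p.Prime] (hG : IsPGroup p G)
    (A B : Subgroup G) (hAB : ⁅A, B⁆ ≤ A ⊓ B) (hcard : Nat.card ↥⁅A, B⁆ ≤ p) :
    (B ⊓ Subgroup.centralizer (A : Set G)).relIndex B ≤
      (A ⊓ Subgroup.centralizer (B : Set G)).relIndex A := by
  have hp : p.Prime := Fact.out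
  set Z := ⁅A, B⁆ with hZ
  have hZn : A ⊔ B ≤ Subgroup.normalizer (Z : Set G) := sup_le (Subgroup.normalizer_commutator_ge_left A B) (Subgroup.normalizer_commutator_ge_right A B)
  -- the commutator is centralized by `B`
  have hZc : ∀ z ∈ Z, ∀ b ∈ B, b * z * b⁻¹ = z := by
    intro z hz b hb
    letI : MulAction (B : Subgroup G) Z :=
      { smul := fun c y => ⟨(c : G) * y * (c : G)⁻¹,
          (Subgroup.mem_normalizer_iff.1 (hZn (Subgroup.mem_sup_right c.2)) _).1 y.2⟩
        one_smul := fun y => Subtype.ext (by show ((1 : B) : G) * y * ((1 : B) : G)⁻¹ = y; simp)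
        mul_smul := fun c d y => Subtype.ext (by
          show ((c * d : B) : G) * y * ((c * d : B) : G)⁻¹ = c * (d * y * (d : G)⁻¹) * (c : G)⁻¹
          rw [Subgroup.coe_mul]; group) }
    by_contra hne
    -- the orbit of `z` is too large
    have hne' : (⟨b, hb⟩ : B) • (⟨z, hz⟩ : Z) ≠ ⟨z, hz⟩ := fun e => hne (congrArg Subtype.val e)
    obtain ⟨k, hk⟩ := (hG.to_subgroup B).card_orbit (⟨z, hz⟩ : Z)
    have hk0 : k ≠ 0 := by
      rintro rfl
      rw [pow_zero, Nat.card_eq_one_iff_unique] at hk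
      exact hne' (congrArg Subtype.val (hk.1.elim ⟨_, MulAction.mem_orbit _ _⟩
        ⟨_, MulAction.mem_orbit_self _⟩))
    have hsub : MulAction.orbit B (⟨z, hz⟩ : Z) ⊆ {y | y ≠ 1} := by
      rintro _ ⟨c, rfl⟩ e
      have h1 : (c : G) * z * (c : G)⁻¹ = 1 := congrArg Subtype.val e
      rw [conj_eq_one_iff] at h1
      exact hne (by rw [h1]; simp)
    have h2 := Set.ncard_le_ncard hsub (Set.toFinite _)
    rw [← Nat.card_coe_set_eq, hk] at h2
    have h3 : ({y | y ≠ 1} : Set Z).ncard = Nat.card Z - 1 := by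
      rw [show ({y | y ≠ 1} : Set Z) = ({1} : Set Z)ᶜ from rfl, Set.ncard_compl, Set.ncard_singleton]
    have h4 : p ≤ p ^ k := Nat.le_self_pow hk0 p
    have := hp.two_le
    omega
  set C := A ⊓ Subgroup.centralizer (B : Set G) with hC
  suffices h : ∀ n, ∀ A' : Subgroup G, Nat.card A' = n → C ≤ A' → A' ≤ A →
      (B ⊓ Subgroup.centralizer (A' : Set G)).relIndex B ≤ C.relIndex A' from h _ A rfl inf_le_left le_rfl
  intro n
  induction n using Nat.strong_induction_on with
  | _ n ih =>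
    intro A' hn hCA' hA'
    rcases hCA'.eq_or_lt with h | hlt
    · have : B ⊓ Subgroup.centralizer (A' : Set G) = B := inf_eq_left.2 (Subgroup.le_centralizer_iff.1
        (h.ge.trans inf_le_right))
      rw [this, Subgroup.relIndex_self, ← h, Subgroup.relIndex_self]
    obtain ⟨A₀, hA₀, hmax⟩ := Finite.exists_le_maximal (p := fun D : Subgroup G => C ≤ D ∧ D < A')
      (a := C) ⟨le_rfl, hlt⟩
    obtain ⟨a, haA, ha⟩ := SetLike.exists_of_lt hmax.1.2
    have htop : A₀ ⊔ Subgroup.zpowers a = A' := by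
      refine (sup_le hmax.1.2.le (Subgroup.zpowers_le.2 haA)).eq_or_lt.resolve_right fun h => ha ?_
      exact hmax.2 ⟨hA₀.trans le_sup_left, h⟩ le_sup_left (Subgroup.mem_sup_right (Subgroup.mem_zpowers a))
    let φ : B →* Z := MonoidHom.mk'
      (fun b => ⟨⁅a, (b : G)⁆, Subgroup.commutator_mem_commutator (hA' haA) b.2⟩) (fun b c => by
        refine Subtype.ext ?_
        show ⁅a, ((b * c : B) : G)⁆ = ⁅a, (b : G)⁆ * ⁅a, (c : G)⁆
        rw [Subgroup.coe_mul]
        conv_rhs => rw [← hZc _ (Subgroup.commutator_mem_commutator (hA' haA) c.2) b b.2]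
        rw [commutatorElement_def, commutatorElement_def, commutatorElement_def]
        group)
    have hker : (B ⊓ Subgroup.centralizer (A₀ : Set G)) ⊓ φ.ker.map B.subtype ≤
        B ⊓ Subgroup.centralizer (A' : Set G) := by
      rintro x ⟨⟨hxB, hxC⟩, ⟨b, hb, rfl⟩⟩
      refine ⟨hxB, ?_⟩
      rw [← htop]
      have h1 : (b : G) ∈ Subgroup.centralizer ({a} : Set G) := by
        have h2 : ⁅a, (b : G)⁆ = 1 := congrArg Subtype.val hb
        exact Subgroup.mem_centralizer_singleton_iff.2 (commutatorElement_eq_one_iff_mul_comm.1 h2).symm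
      refine Subgroup.mem_centralizer_iff.2 fun y hy => ?_
      have hle : A₀ ⊔ Subgroup.zpowers a ≤ Subgroup.centralizer ({(b : G)} : Set G) := by
        refine sup_le (fun t ht => Subgroup.mem_centralizer_singleton_iff.2 ?_)
          (Subgroup.zpowers_le.2 (Subgroup.mem_centralizer_singleton_iff.2
            (Subgroup.mem_centralizer_singleton_iff.1 h1).symm))
        exact Subgroup.mem_centralizer_iff.1 hxC t ht
      exact Subgroup.mem_centralizer_singleton_iff.1 (hle hy)
    have hidx : (φ.ker.map B.subtype).relIndex B ≤ p := by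
      rw [Subgroup.relIndex, Subgroup.subgroupOf, Subgroup.comap_map_eq_self_of_injective B.subtype_injective,
        Subgroup.index_ker]
      exact (Subgroup.card_le_card_group _).trans hcard
    have h1 := ih _ (hn ▸ Solv.card_lt_of_lt hmax.1.2) A₀ rfl hmax.1.1 (hmax.1.2.le.trans hA')
    have hle : ((B ⊓ Subgroup.centralizer (A₀ : Set G)) ⊓ φ.ker.map B.subtype).relIndex B ≠ 0 :=
      Subgroup.index_ne_zero_of_finite
    have h2 : (B ⊓ Subgroup.centralizer (A' : Set G)).relIndex B ≤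
        C.relIndex A₀ * p := by
      refine le_trans ?_ (Nat.mul_le_mul h1 hidx)
      refine le_trans ?_ (Subgroup.relIndex_inf_le)
      exact Nat.le_of_dvd (Nat.pos_of_ne_zero hle) (Subgroup.relIndex_dvd_of_le_left B hker)
    refine h2.trans ?_
    rw [← Subgroup.relIndex_mul_relIndex C A₀ A' hmax.1.1 hmax.1.2.le]
    refine Nat.mul_le_mul_left _ ?_
    obtain ⟨k, hk⟩ : ∃ k, A₀.relIndex A' = p ^ k := (hG.to_subgroup A').index (A₀.subgroupOf A')
    rw [hk]
    refine Nat.le_self_pow ?_ p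
    rintro rfl
    exact hmax.1.2.not_ge (Subgroup.relIndex_eq_one.1 (by rw [hk, pow_zero]))

/-- Let A and B be subgroups of a finite p-group with [A, B] ≤ A ∩ B and [A, B] of order at most p. Then |A : C_A(B)| = |B : C_B(A)|. -/
theorem result {G : Type*} [Group G] [Finite G] {p : ℕ} [Fact p.Prime] (hG : IsPGroup p G) (A B : Subgroup G) (hAB : ⁅A, B⁆ ≤ A ⊓ B) (hcard : Nat.card ↥⁅A, B⁆ ≤ p) : (A ⊓ Subgroup.centralizer (B : Set G)).relIndex A = (B ⊓ Subgroup.centralizer (A : Set G)).relIndex B := by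
  have key : ∀ A B : Subgroup G, ⁅A, B⁆ ≤ A ⊓ B → Nat.card ↥⁅A, B⁆ ≤ p →
      (B ⊓ Subgroup.centralizer (A : Set G)).relIndex B ≤
        (A ⊓ Subgroup.centralizer (B : Set G)).relIndex A :=
    fun A B h1 h2 => half_le hG A B h1 h2
  exact le_antisymm (key B A (by rw [Subgroup.commutator_comm, inf_comm]; exact hAB)
    (by rw [Subgroup.commutator_comm]; exact hcard)) (key A B hAB hcard)

end Cfsg.Agent.S3741
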