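import Cfsg.Statements.S3744
import Cfsg.Agent.Lib.Solv.PSolvHall

set_option autoImplicit false
set_option linter.style.haveILetI false
open Cfsg

open scoped Pointwise commutatorElement

namespace Cfsg.Agent.S3744

/-- A finite p-soluble group has a p-complement, all its p-complements are conjugate, and every subgroup of order prime to p lies in one of them. Here a p-complement is a subgroup of order prime to p whose index is a power of p. -/
theorem result {G : Type*} [Group G] [Finite G] {p : ℕ} [Fact p.Prime] (hG : Cfsg.IsPSolvable p G) : (∃ H : Subgroup G, (Nat.card H).Coprime p ∧ ∃ n : ℕ, H.index = p ^ n) ∧ (∀ H₁ H₂ : Subgroup G, (Nat.card H₁).Coprime p → (∃ n : ℕ, H₁.index = p ^ n) → (Nat.card H₂).Coprime p → (∃ n : ℕ, H₂.index = p ^ n) → ∃ g : G, H₂ = H₁.map (MulAut.conj g).toMonoidHom) ∧ (∀ U : Subgroup G, (Nat.card U).Coprime p → ∃ H : Subgroup G, (Nat.card H).Coprime p ∧ (∃ n : ℕ, H.index = p ^ n) ∧ ∃ g : G, U.map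 (MulAut.conj g).toMonoidHom ≤ H) := by
  have hp : p.Prime := Fact.out
  obtain ⟨⟨H₀, hc, hi⟩, hcont⟩ := Solv.psolv_hall hp hG
  refine ⟨⟨H₀, hc, hi⟩, fun H₁ H₂ h1 hi1 h2 hi2 => ?_, fun U hU => ⟨H₀, hc, hi, ?_⟩⟩
  · obtain ⟨g, hg⟩ := hcont H₁ H₂ h1 h2 hi2
    obtain ⟨g', hg'⟩ := hcont H₂ H₁ h2 h1 hi1
    refine ⟨g, (Subgroup.eq_of_le_of_card_ge (K := H₂) (H := MulAut.conj g • H₁) hg ?_).symm.trans
      (Solv.conj_smul_eq_map g H₁)⟩
    rw [Solv.card_conj_smul, ← Solv.card_conj_smul g' H₂]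
    exact Subgroup.card_le_of_le hg'
  · obtain ⟨g, hg⟩ := hcont U H₀ hU hc hi
    exact ⟨g, Solv.conj_smul_eq_map g U ▸ hg⟩

end Cfsg.Agent.S3744
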