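import Cfsg.Statements.S3745
import Cfsg.Agent.Lib.Solv.CoprimeHall

set_option autoImplicit false
open Cfsg

open scoped Pointwise commutatorElement

namespace Cfsg.Agent.S3745

/-- Coprime action on a solvable group and Hall subgroups. Let A and G be subgroups of a finite group with A normalizing G, the orders of A and G coprime, and G solvable, and let π be a set of primes. Then (a) G has an A-invariant Hall π-subgroup; (b) any two A-invariant Hall π-subgroups of G are conjugate by an element of C_G(A); (c) every A-invariant π-subgroup of G lies in an A-invariant Hall π-subgroup of G. -/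
theorem result {X : Type*} [Group X] [Finite X] (A G : Subgroup X) (hAG : A ≤ Subgroup.normalizer (G : Set X)) (hcop : (Nat.card A).Coprime (Nat.card G)) (hsolv : Group.IsSolvable G) (π : Set ℕ) : (∃ H : Subgroup X, Cfsg.IsPiHallOf π H G ∧ A ≤ Subgroup.normalizer (H : Set X)) ∧ (∀ H₁ H₂ : Subgroup X, Cfsg.IsPiHallOf π H₁ G → A ≤ Subgroup.normalizer (H₁ : Set X) → Cfsg.IsPiHallOf π H₂ G → A ≤ Subgroup.normalizer (H₂ : Set X) → ∃ c ∈ G ⊓ Subgroup.centralizer (A : Set X), H₂ = H₁.map (MulAut.conj c).toMonoidHom) ∧ (∀ U : Subgroup X, U ≤ G → A ≤ Subgroup.normalizer (U : Set X) → (∀ p : ℕ, p.Prime → p ∣ Nat.card U → p ∈ π) → ∃ H : Subgroup X, Cfsg.IsPiHallOf π H G ∧ A ≤ Subgroup.normalizer (H : Set X) ∧ U ≤ H) := by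
  obtain ⟨m, n, hmn, hcmn, hm, hn⟩ :=
    Solv.exists_pi_split π (Nat.card G) (Nat.card_pos (α := G)).ne'
  have hmul : ∀ H : Subgroup X, H ≤ G → Nat.card H * H.relIndex G = Nat.card G := fun H hH => by
    rw [← Solv.card_subgroupOf hH]; exact (H.subgroupOf G).card_mul_index
  have to_m : ∀ H : Subgroup X, Cfsg.IsPiHallOf π H G → Nat.card H = m := by
    rintro H ⟨hH, h1, h2⟩
    have e := hmul H hH
    refine Nat.dvd_antisymm ?_ ?_
    · exact (Solv.coprime_of_pi h1 hn).dvd_of_dvd_mul_right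
        (hmn ▸ Subgroup.card_dvd_of_le hH)
    · refine (Solv.coprime_of_pi hm fun p hp hd hπ => h2 p hp hπ hd).dvd_of_dvd_mul_right ?_
      exact e ▸ hmn ▸ dvd_mul_right m n
  have of_m : ∀ H : Subgroup X, H ≤ G → Nat.card H = m → Cfsg.IsPiHallOf π H G := by
    intro H hH hc
    refine ⟨hH, fun p hp hd => hm p hp (hc ▸ hd), fun p hp hπ hd => hn p hp ?_ hπ⟩
    have e := hmul H hH
    rw [hc, hmn] at e
    rwa [Nat.eq_of_mul_eq_mul_left (hc ▸ Nat.card_pos) e] at hd
  refine ⟨?_, ?_, ?_⟩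
  · obtain ⟨H, h1, h2, h3⟩ := Solv.exists_invariant_hall hAG hcop hsolv hmn hcmn
    exact ⟨H, of_m H h1 h2, h3⟩
  · intro H₁ H₂ h₁ a₁ h₂ a₂
    obtain ⟨c, hc, e⟩ := Solv.invariant_hall_conj hAG hcop hsolv hmn hcmn h₁.1 (to_m _ h₁) a₁ h₂.1
      (to_m _ h₂) a₂
    exact ⟨c, hc, e.symm⟩
  · intro U hU hAU hπ
    obtain ⟨H, h1, h2, h3, h4⟩ := Solv.invariant_hall_contain hAG hcop hsolv hmn hcmn U hU hAU
      (Solv.coprime_of_pi hπ hn)
    exact ⟨H, of_m H h1 h2, h3, h4⟩

end Cfsg.Agent.S3745
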