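import Cfsg.Statements.S3746
import Cfsg.Agent.Lib.Solv.Component

set_option autoImplicit false
set_option linter.style.haveILetI false
open Cfsg

open scoped Pointwise commutatorElement

namespace Cfsg.Agent.S3746

/-- Let Z ≤ Z(G) be a central subgroup of a finite group G and E a subgroup of G containing Z whose image E/Z is a component of G/Z (subnormal and quasisimple). Then the derived subgroup [E, E] is a component of G. -/
theorem result {G : Type*} [Group G] [Finite G] (Z : Subgroup G) (hZ : Z ≤ Subgroup.center G) [Z.Normal] (E : Subgroup G) (hZE : Z ≤ E) (hE : Cfsg.IsComponent (E.map (QuotientGroup.mk' Z))) : Cfsg.IsComponent ⁅E, E⁆ := by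
  obtain ⟨Eb, hEb⟩ : ∃ Eb, Eb = E.map (QuotientGroup.mk' Z) := ⟨_, rfl⟩
  rw [← hEb] at hE
  obtain ⟨hsn, hP, hS⟩ := hE
  haveI := hP
  haveI := hS
  obtain ⟨T, hT⟩ : ∃ T, T = ⁅E, E⁆ := ⟨_, rfl⟩
  rw [← hT]
  have hTE : T ≤ E := hT ▸ Subgroup.commutator_le_self E
  have hEbEb : ⁅Eb, Eb⁆ = Eb := Subgroup.isPerfect_iff.1 hP
  have hmapT : T.map (QuotientGroup.mk' Z) = Eb := by
    rw [hT, Subgroup.map_commutator, ← hEb, hEbEb]
  have hsup : E = T ⊔ Z := by
    conv_lhs => rw [← sup_eq_left.2 hZE, ← QuotientGroup.ker_mk' Z, ← Subgroup.comap_map_eq, ← hEb,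
      ← hmapT, Subgroup.comap_map_eq, QuotientGroup.ker_mk']
  have hTperf : ⁅T, T⁆ = T := by
    refine le_antisymm (Subgroup.commutator_le_self T) ?_
    conv_lhs => rw [hT]
    rw [Subgroup.commutator_le]
    intro x hx y hy
    rw [hsup] at hx hy
    obtain ⟨a, ha, z, hz, rfl⟩ := Subgroup.mem_sup_of_normal_right.1 hx
    obtain ⟨b, hb, w, hw, rfl⟩ := Subgroup.mem_sup_of_normal_right.1 hy
    have e1 : ∀ u v c : G, c ∈ Z → ⁅u * c, v⁆ = ⁅u, v⁆ := fun u v c hc => by
      rw [show ⁅u * c, v⁆ = u * (c * v) * c⁻¹ * u⁻¹ * v⁻¹ by simp [commutatorElement_def]; group,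
        ← Subgroup.mem_center_iff.1 (hZ hc) v, commutatorElement_def]
      group
    rw [e1 _ _ _ hz, ← commutatorElement_inv, e1 _ _ _ hw, commutatorElement_inv]
    exact Subgroup.commutator_mem_commutator ha hb
  have hEsn : E.IsSubnormal := by
    have h := hsn.comap (QuotientGroup.mk' Z)
    rwa [hEb, Subgroup.comap_map_eq, QuotientGroup.ker_mk', sup_eq_left.2 hZE] at h
  have hn : (T.subgroupOf E).Normal := (Subgroup.normal_subgroupOf_iff_le_normalizer hTE).2
    fun t ht => Subgroup.mem_normalizer_iff.2 fun x => by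
      have key : ∀ t ∈ E, ∀ x ∈ T, t * x * t⁻¹ ∈ T := fun t ht x hx => by
        have h1 : ⁅t, x⁆ ∈ T := hT ▸ Subgroup.commutator_mem_commutator ht (hTE hx)
        have := mul_mem h1 hx
        rwa [commutatorElement_def, inv_mul_cancel_right] at this
      refine ⟨key t ht x, fun hx => ?_⟩
      have := key t⁻¹ (inv_mem ht) _ hx
      rwa [inv_inv, ← mul_assoc, ← mul_assoc, inv_mul_cancel, one_mul, inv_mul_cancel_right] at this
  have hTsn : T.IsSubnormal := Subgroup.IsSubnormal.step _ E hTE hEsn hn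
  have hne : T ≠ ⊥ := fun h => Solv.qs_ne_bot (K := Eb) ⟨hP, hS⟩ (by
    rw [← hmapT, h, Subgroup.map_bot])
  refine Solv.isComponent_of_minimal hTsn hne hTperf fun M hM hMtop => ?_
  let q : T →* Eb := ((QuotientGroup.mk' Z).comp T.subtype).codRestrict Eb fun t => by
    rw [← hmapT]; exact ⟨t, t.2, rfl⟩
  have hq : Function.Surjective q := by
    rintro ⟨x, hx⟩
    rw [← hmapT] at hx
    obtain ⟨t, ht, rfl⟩ := hx
    exact ⟨⟨t, ht⟩, rfl⟩
  have hker : q.ker ≤ Subgroup.center T := fun t ht => Subgroup.mem_center_iff.2 fun u => Subtype.ext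
    (Subgroup.mem_center_iff.1 (hZ ((QuotientGroup.eq_one_iff _).1 (congrArg Subtype.val ht))) u)
  haveI := hM.map q hq
  rcases Solv.qs_normal_le_center_or_top (⟨hP, hS⟩ : Cfsg.IsQuasisimple Eb) (M.map q) with h | h
  · refine absurd (eq_top_iff.2 ?_) hMtop
    have h2 : M ⊔ q.ker = ⊤ := by rw [← Subgroup.comap_map_eq, h, Subgroup.comap_top]
    haveI : Group.IsPerfect T := Subgroup.isPerfect_iff.2 hTperf
    rw [← Group.IsPerfect.commutator_eq_top (G := T), commutator_def, Subgroup.commutator_le]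
    intro x _ y _
    have hx : x ∈ M ⊔ q.ker := h2 ▸ Subgroup.mem_top x
    obtain ⟨m, hm, z, hz, rfl⟩ := Subgroup.mem_sup_of_normal_left.1 hx
    have e : ⁅m * z, y⁆ = ⁅m, y⁆ := by
      rw [show ⁅m * z, y⁆ = m * (z * y) * z⁻¹ * m⁻¹ * y⁻¹ by simp [commutatorElement_def]; group,
        ← Subgroup.mem_center_iff.1 (hker hz) y, commutatorElement_def]
      group
    rw [e, commutatorElement_def, mul_assoc m y, mul_assoc m]
    exact mul_mem hm (hM.conj_mem _ (inv_mem hm) y)
  · intro m hm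
    have hqm : q m ∈ Subgroup.center Eb := h (Subgroup.mem_map_of_mem q hm)
    let ψ : T →* Subgroup.center T := MonoidHom.mk' (fun x => ⟨⁅m, x⁆, hker (by
        rw [MonoidHom.mem_ker, map_commutatorElement, commutatorElement_eq_one_iff_mul_comm]
        exact (Subgroup.mem_center_iff.1 hqm (q x)).symm)⟩)
      fun a b => Subtype.ext (by
        have hb : ⁅m, b⁆ ∈ Subgroup.center T := hker (by
          rw [MonoidHom.mem_ker, map_commutatorElement, commutatorElement_eq_one_iff_mul_comm]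
          exact (Subgroup.mem_center_iff.1 hqm (q b)).symm)
        show ⁅m, a * b⁆ = ⁅m, a⁆ * ⁅m, b⁆
        rw [show ⁅m, a * b⁆ = ⁅m, a⁆ * (a * ⁅m, b⁆) * a⁻¹ by simp [commutatorElement_def]; group,
          Subgroup.mem_center_iff.1 hb a]
        group)
    refine Subgroup.mem_center_iff.2 fun x => ?_
    haveI : Group.IsPerfect T := Subgroup.isPerfect_iff.2 hTperf
    have hle : commutator T ≤ ψ.ker := by
      rw [commutator_def, Subgroup.commutator_le]
      intro a _ b _
      rw [MonoidHom.mem_ker, map_commutatorElement, commutatorElement_eq_one_iff_mul_comm]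
      exact Subtype.ext (Subgroup.mem_center_iff.1 (ψ b).2 _)
    have hx : ⁅m, x⁆ = 1 := congrArg Subtype.val (hle (Group.IsPerfect.mem_commutator (g := x)))
    exact (commutatorElement_eq_one_iff_mul_comm.1 hx).symm

end Cfsg.Agent.S3746
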