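import Cfsg.Statements.S3747
import Cfsg.Agent.Lib.Solv.Component

set_option autoImplicit false
set_option linter.style.haveILetI false
open Cfsg

open scoped Pointwise commutatorElement

namespace Cfsg.Agent.S3747

/-- Let G be a finite group. (a) If K is a component of G with trivial centre, then the normal closure of K in G is a minimal normal subgroup of G. (b) If the Fitting subgroup of G is trivial, then the layer E(G) is generated by the minimal normal subgroups of G. -/
theorem result {G : Type*} [Group G] [Finite G] : (∀ K : Subgroup G, Cfsg.IsComponent K → Subgroup.center ↥K = ⊥ → (Subgroup.normalClosure (K : Set G) ≠ ⊥ ∧ ∀ N : Subgroup G, N.Normal → N ≤ Subgroup.normalClosure (K : Set G) → N = ⊥ ∨ N = Subgroup.normalClosure (K : Set G))) ∧ (Cfsg.fittingSubgroup G = ⊥ → sSup {N : Subgroup G | N ≠ ⊥ ∧ N.Normal ∧ ∀ N' : Subgroup G, N'.Normal → N' ≤ N → N' = ⊥ ∨ N' = N} = Cfsg.layer G) := by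
  classical
  have ha : ∀ K : Subgroup G, Cfsg.IsComponent K → Subgroup.center ↥K = ⊥ →
      (Subgroup.normalClosure (K : Set G) ≠ ⊥ ∧ ∀ N : Subgroup G, N.Normal →
        N ≤ Subgroup.normalClosure (K : Set G) →
          N = ⊥ ∨ N = Subgroup.normalClosure (K : Set G)) := by
    intro K hK hKc
    have hKle : K ≤ Subgroup.normalClosure (K : Set G) := Subgroup.le_normalClosure
    refine ⟨fun h => Solv.qs_ne_bot hK.2 (le_bot_iff.1 (h ▸ hKle)), fun N hN hNle => ?_⟩
    rcases Solv.component_normal_dichotomy hK N with h | h
    · exact Or.inr (le_antisymm hNle (Subgroup.normalClosure_le_normal h))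
    · refine Or.inl (eq_bot_iff.2 fun z hz => ?_)
      obtain ⟨s, hs⟩ : ∃ s, s = {L : Subgroup G | ∃ g : G, L = K.map (MulAut.conj g).toMonoidHom} :=
        ⟨_, rfl⟩
      have hle : Subgroup.normalClosure (K : Set G) ≤ sSup s := by
        refine Subgroup.closure_le _ |>.2 fun x hx => ?_
        obtain ⟨a, ha, hax⟩ := Group.mem_conjugatesOfSet_iff.1 hx
        obtain ⟨g, rfl⟩ := isConj_iff.1 hax
        exact Subgroup.mem_sSup_of_mem (show K.map (MulAut.conj g).toMonoidHom ∈ s by
          rw [hs]; exact ⟨g, rfl⟩) ⟨a, ha, rfl⟩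
      refine Solv.eq_one_of_central_in_commuting s ?_ ?_ (hle (hNle hz)) ?_
      · rw [hs]
        rintro _ ⟨g, rfl⟩ _ ⟨g', rfl⟩ hne
        exact Solv.components_commute (Solv.component_conj hK g) (Solv.component_conj hK g') hne
      · rw [hs]
        rintro _ ⟨g, rfl⟩
        refine eq_bot_iff.2 fun x hx => ?_
        obtain ⟨y, rfl⟩ := (K.equivMapOfInjective (MulAut.conj g).toMonoidHom
          (MulAut.conj g).injective).surjective x
        have hy : y ∈ Subgroup.center K := Subgroup.mem_center_iff.2 fun w => by
          apply (K.equivMapOfInjective (MulAut.conj g).toMonoidHom (MulAut.conj g).injective).injective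
          rw [map_mul, map_mul]
          exact Subgroup.mem_center_iff.1 hx _
        rw [hKc, Subgroup.mem_bot] at hy
        rw [Subgroup.mem_bot, hy, map_one]
      · rw [hs]
        rintro _ ⟨g, rfl⟩ _ ⟨k, hk, rfl⟩
        rw [Subgroup.commutator_eq_bot_iff_le_centralizer] at h
        have h1 := Subgroup.mem_centralizer_iff.1 (h hk) (g⁻¹ * z * g) (by
          simpa using hN.conj_mem z hz g⁻¹)
        show g * k * g⁻¹ * z = z * (g * k * g⁻¹)
        calc g * k * g⁻¹ * z = g * (k * (g⁻¹ * z * g)) * g⁻¹ := by group
          _ = g * ((g⁻¹ * z * g) * k) * g⁻¹ := by rw [h1]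
          _ = z * (g * k * g⁻¹) := by group
  refine ⟨ha, fun hF => ?_⟩
  have hcen : ∀ K : Subgroup G, Cfsg.IsComponent K → Subgroup.center K = ⊥ := fun K hK => by
    have h := Solv.center_component_le_fitting hK
    rw [hF] at h
    refine eq_bot_iff.2 fun x hx => ?_
    exact Subtype.ext (h (Subgroup.mem_map_of_mem _ hx))
  refine le_antisymm (sSup_le fun N hN => ?_) (sSup_le fun K hK => ?_)
  · obtain ⟨hNne, hNn, hNmin⟩ := hN
    by_cases hex : ∃ K : Subgroup G, Cfsg.IsComponent K ∧ K ≤ N
    · obtain ⟨K, hK, hKN⟩ := hex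
      haveI := hNn
      rcases hNmin _ Subgroup.normalClosure_normal (Subgroup.normalClosure_le_normal hKN) with h | h
      · exact absurd h (ha K hK (hcen K hK)).1
      · rw [← h]
        haveI : (Cfsg.layer G).Normal := Local.layer_normal
        exact Subgroup.normalClosure_le_normal (Solv.component_le_layer hK)
    · exfalso
      haveI := hNn
      have hc : N ≤ Subgroup.centralizer (Cfsg.generalizedFittingSubgroup G : Set G) := by
        rw [← Subgroup.commutator_eq_bot_iff_le_centralizer, Subgroup.commutator_comm,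
          Subgroup.commutator_eq_bot_iff_le_centralizer, Cfsg.generalizedFittingSubgroup, hF,
          sup_bot_eq, Cfsg.layer]
        refine sSup_le fun K hK => ?_
        rw [← Subgroup.commutator_eq_bot_iff_le_centralizer]
        exact (Solv.component_normal_dichotomy hK N).resolve_left fun h => hex ⟨K, hK, h⟩
      have hNF : N ≤ Cfsg.fittingSubgroup G := by
        refine Solv.subnormal_nilpotent_le_fitting hNn.isSubnormal ?_
        letI : CommGroup N :=
          { (inferInstance : Group N) with
            mul_comm := fun a b => Subtype.ext (Subgroup.mem_centralizer_iff.1 (hc b.2) a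
              (Solv.centralizer_gfit_le (hc a.2))) }
        infer_instance
      rw [hF, le_bot_iff] at hNF
      exact hNne hNF
  · refine le_trans Subgroup.le_normalClosure (le_sSup ?_)
    exact ⟨(ha K hK (hcen K hK)).1, Subgroup.normalClosure_normal, (ha K hK (hcen K hK)).2⟩

end Cfsg.Agent.S3747
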