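import Cfsg.Statements.S3748
import Cfsg.Agent.Lib.Solv.Subnormal

set_option autoImplicit false
open Cfsg

open scoped Pointwise commutatorElement

namespace Cfsg.Agent.S3748

/-- Call a proper subgroup M of G primitive when M = N_G(N) for every non-trivial normal subgroup N of M. If M is a primitive subgroup of the finite group G, then no non-trivial subnormal subgroup of G is contained in M; in particular M ∩ F(G) = 1. -/
theorem result {G : Type*} [Group G] [Finite G] (M : Subgroup G) (hM : M ≠ ⊤) (hprim : ∀ N : Subgroup G, N ≤ M → M ≤ Subgroup.normalizer (N : Set G) → N ≠ ⊥ → Subgroup.normalizer (N : Set G) = M) : (∀ L : Subgroup G, L.IsSubnormal → L ≤ M → L = ⊥) ∧ M ⊓ Cfsg.fittingSubgroup G = ⊥ := by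
  have key : ∀ L : Subgroup G, L.IsSubnormal → L ≤ M → L = ⊥ := by
    intro L hL hLM
    obtain ⟨R, hR, hLR, hRM, hMR, hmax⟩ := Solv.exists_maximal_subnormal_le hL hLM
    by_contra hne
    have hRne : R ≠ ⊥ := fun h => hne (eq_bot_iff.2 (h ▸ hLR))
    rcases Subgroup.IsSubnormal.iff_eq_top_or_exists.1 hR with h | ⟨K, hlt, hK, hKn⟩
    · exact hM (top_le_iff.1 (h ▸ hRM))
    · have h1 : K ≤ Subgroup.normalizer (R : Set G) :=
        (Subgroup.normal_subgroupOf_iff_le_normalizer hlt.le).1 hKn
      exact hlt.ne' (hmax K hK hlt.le (h1.trans (hprim R hRM hMR hRne).le))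
  exact ⟨key, key _ (Solv.isSubnormal_of_le_fitting inf_le_right) inf_le_left⟩

end Cfsg.Agent.S3748
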