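import Cfsg.Statements.S3749
import Cfsg.Agent.Lib.Solv.Coprime
import Cfsg.Agent.Lib.Solv.Cores

set_option autoImplicit false
set_option linter.style.haveILetI false
open Cfsg

open scoped Pointwise commutatorElement

namespace Cfsg.Agent.S3749

/-- Call a proper subgroup M of G primitive when M = N_G(N) for every non-trivial normal subgroup N of M. Let M be a primitive subgroup of the finite group G, p a prime with O_p(M) ≠ 1, and N a normal subgroup of G with M ∩ N = 1. Then p does not divide the order of N; for every prime q there is exactly one Sylow q-subgroup of N normalized by M; and if the order of N has at least two prime divisors then M is not a maximal subgroup of G. -/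
theorem result {G : Type*} [Group G] [Finite G] (M : Subgroup G) (hM : M ≠ ⊤) (hprim : ∀ N : Subgroup G, N ≤ M → M ≤ Subgroup.normalizer (N : Set G) → N ≠ ⊥ → Subgroup.normalizer (N : Set G) = M) {p : ℕ} [Fact p.Prime] (hOp : Cfsg.pCore p ↥M ≠ ⊥) (N : Subgroup G) [N.Normal] (hMN : M ⊓ N = ⊥) : ¬ p ∣ Nat.card N ∧ (∀ q : ℕ, [Fact q.Prime] → ∃! Q : Sylow q ↥N, M ≤ Subgroup.normalizer ((Q : Subgroup ↥N).map N.subtype : Set G)) ∧ ((∃ q r : ℕ, q.Prime ∧ r.Prime ∧ q ≠ r ∧ q ∣ Nat.card N ∧ r ∣ Nat.card N) → ¬ IsCoatom M) := by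
  obtain ⟨P, hP⟩ : ∃ P, P = (Cfsg.pCore p ↥M).map M.subtype := ⟨_, rfl⟩
  have hPM : P ≤ M := hP ▸ Subgroup.map_subtype_le _
  have hPne : P ≠ ⊥ := by
    rw [hP, Ne, Subgroup.map_eq_bot_iff_of_injective _ M.subtype_injective]
    exact hOp
  have hPp : IsPGroup p P := hP ▸ (Solv.pCore_isPGroup p).map _
  have hMP : M ≤ Subgroup.normalizer (P : Set G) := by
    haveI := Solv.pCore_normal (G := ↥M) p
    rw [hP]
    refine le_trans (le_of_eq ?_) (Subgroup.le_normalizer_map M.subtype)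
    rw [Subgroup.normalizer_eq_top, ← MonoidHom.range_eq_map, Subgroup.range_subtype]
  have hNP : Subgroup.normalizer (P : Set G) = M := hprim P hPM hMP hPne
  have hCN : ∀ x ∈ N, x ∈ Subgroup.normalizer (P : Set G) → x = 1 := fun x hxN hxn => by
    have h : x ∈ M ⊓ N := Subgroup.mem_inf.2 ⟨hNP ▸ hxn, hxN⟩
    rwa [hMN, Subgroup.mem_bot] at h
  have hcen : Subgroup.centralizer (P : Set G) ≤ Subgroup.normalizer (P : Set G) := fun c hc => by
    refine Solv.mem_normalizer_of_conj_smul (le_antisymm ?_ ?_)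
    · intro x hx
      obtain ⟨y, hy, rfl⟩ := hx
      show c * y * c⁻¹ ∈ P
      rwa [← Subgroup.mem_centralizer_iff.1 hc y hy, mul_inv_cancel_right]
    · intro y hy
      refine ⟨y, hy, ?_⟩
      show c * y * c⁻¹ = y
      rw [← Subgroup.mem_centralizer_iff.1 hc y hy, mul_inv_cancel_right]
  have hNn : ∀ g : G, g ∈ Subgroup.normalizer (N : Set G) := fun g => by
    rw [Subgroup.normalizer_eq_top_iff.2 inferInstance]; trivial
  have hpN : ¬ p ∣ Nat.card N := by
    intro hdvd
    classical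
    letI : MulAction P N := MulAction.compHom N ((MulAut.conjNormal (H := N)).comp P.subtype)
    obtain ⟨y, hy, hy1⟩ := hPp.exists_fixed_point_of_prime_dvd_card_of_fixed_point N hdvd
      (a := (1 : N)) (fun x => map_one (MulAut.conjNormal (x : G)))
    refine hy1 (Subtype.ext (hCN y y.2 (hcen ?_)).symm)
    refine Subgroup.mem_centralizer_iff.2 fun x hx => ?_
    have h : ((MulAut.conjNormal x y : N) : G) = (y : G) := congrArg Subtype.val (hy ⟨x, hx⟩)
    rw [MulAut.conjNormal_apply, mul_inv_eq_iff_eq_mul] at h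
    exact h
  have hco : (Nat.card P).Coprime (Nat.card N) := by
    obtain ⟨k, hk⟩ := IsPGroup.iff_card.1 hPp
    rw [hk]
    exact ((Nat.Prime.coprime_iff_not_dvd Fact.out).2 hpN).pow_left k
  haveI := hPp.isNilpotent
  have hsol : Group.IsSolvable P ∨ Group.IsSolvable N := Or.inl inferInstance
  have hPN : P ≤ Subgroup.normalizer (N : Set G) := fun g _ => hNn g
  have main : ∀ q : ℕ, [Fact q.Prime] → ∃ Q : Subgroup G, Solv.IsSylIn q Q N ∧
      M ≤ Subgroup.normalizer (Q : Set G) ∧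
      ∀ Q' : Subgroup G, Solv.IsSylIn q Q' N → P ≤ Subgroup.normalizer (Q' : Set G) → Q' = Q := by
    intro q _
    obtain ⟨Q, hQ, hQP⟩ := Solv.exists_invariant_sylow hPN hco hsol q
    have huniq : ∀ Q' : Subgroup G, Solv.IsSylIn q Q' N →
        P ≤ Subgroup.normalizer (Q' : Set G) → Q' = Q := fun Q' hQ' hQ'P => by
      obtain ⟨c, hc, hcQ⟩ := Solv.invariant_sylow_conj hPN hco hsol hQ hQ' hQP hQ'P
      obtain ⟨hcN, hcC⟩ := Subgroup.mem_inf.1 hc
      rw [← hcQ, hCN c hcN (hcen hcC), Solv.conj_one_smul]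
    refine ⟨Q, hQ, fun m hm => Solv.mem_normalizer_of_conj_smul (huniq _ (hQ.conj (hNn m))
      fun x hx => Solv.mem_normalizer_of_conj_smul ?_), huniq⟩
    have h1 : m⁻¹ * x * m ∈ P := by
      simpa using Solv.conj_mem_of_mem_normalizer (hMP (inv_mem hm)) hx
    rw [Solv.conj_smul_conj, show x * m = m * (m⁻¹ * x * m) by group, ← Solv.conj_smul_conj,
      Solv.conj_smul_of_mem_normalizer (hQP h1)]
  refine ⟨hpN, ?_, ?_⟩
  · intro q _
    obtain ⟨Q, hQ, hQM, huniq⟩ := main q
    obtain ⟨Q0, hQ0⟩ := hQ.exists_sylow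
    refine ⟨Q0, by beta_reduce; rw [hQ0]; exact hQM, fun Q1 hQ1 => ?_⟩
    refine Sylow.ext (Subgroup.map_injective N.subtype_injective ?_)
    rw [hQ0]
    exact huniq _ (Solv.IsSylIn.of_sylow Q1) (hPM.trans hQ1)
  · rintro ⟨q, r, hq, hr, hqr, hqN, hrN⟩ hmax
    haveI := Fact.mk hq
    obtain ⟨Q, hQ, hQM, -⟩ := main q
    have hQpos : Q ≠ ⊥ := fun h => by
      have h1 := hQ.2
      rw [h, Subgroup.card_bot] at h1
      have h2 := hq.factorization_pos_of_dvd Nat.card_pos.ne' hqN
      exact absurd h1.symm (Nat.one_lt_pow h2.ne' hq.one_lt).ne'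
    have hQMi : Q ⊓ M = ⊥ := le_bot_iff.1 (hMN ▸ le_inf inf_le_right (inf_le_left.trans hQ.1))
    have hlt : M < Q ⊔ M := lt_of_le_of_ne le_sup_right fun h => hQpos (by
      rw [← le_bot_iff, ← hQMi]
      exact le_inf le_rfl (le_sup_left.trans_eq h.symm))
    have hcard := Solv.card_sup_mul_card_inf' Q M hQM
    rw [hQMi, Subgroup.card_bot, mul_one, hmax.2 _ hlt, Subgroup.card_top] at hcard
    have hcard2 := Solv.card_sup_of_inf_eq_bot N M (by rw [inf_comm]; exact hMN)
    have hle : Nat.card N * Nat.card M ≤ Nat.card G :=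
      hcard2 ▸ Nat.le_of_dvd Nat.card_pos (Subgroup.card_subgroup_dvd_card _)
    rw [hcard] at hle
    have hQN : Q = N :=
      Subgroup.eq_of_le_of_card_ge hQ.1 (Nat.le_of_mul_le_mul_right hle Nat.card_pos)
    rw [← hQN, hQ.2] at hrN
    exact hqr ((Nat.prime_dvd_prime_iff_eq hr hq).1 (hr.dvd_of_dvd_pow hrN)).symm

end Cfsg.Agent.S3749
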