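import Cfsg.Statements.S3750
import Cfsg.Agent.Lib.Solv.Component
import Cfsg.Agent.Lib.Solv.Engel

set_option autoImplicit false
set_option linter.style.haveILetI false
open Cfsg

open scoped Pointwise commutatorElement

namespace Cfsg.Agent.S3750

theorem cen_le_norm {G : Type*} [Group G] (S : Subgroup G) :
    Subgroup.centralizer (S : Set G) ≤ Subgroup.normalizer (S : Set G) := fun c hc => by
  refine Subgroup.mem_normalizer_iff.2 fun x => ⟨fun hx => ?_, fun hx => ?_⟩
  · rwa [← Subgroup.mem_centralizer_iff.1 hc x hx, mul_inv_cancel_right]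
  · have h := Subgroup.mem_centralizer_iff.1 hc _ hx
    rw [inv_mul_cancel_right] at h
    rw [← mul_left_cancel h] at hx
    exact hx

/-- Call a proper subgroup M of G primitive when M = N_G(N) for every non-trivial normal subgroup N of M. Let M be a primitive subgroup of the finite group G and N a normal subgroup of G with M ∩ F*(N) ≠ 1. Then F(G) = 1 and F*(N) = F*(G) = E(G); in particular every minimal normal subgroup of G is contained in N. -/
theorem result {G : Type*} [Group G] [Finite G] (M : Subgroup G) (hM : M ≠ ⊤) (hprim : ∀ N : Subgroup G, N ≤ M → M ≤ Subgroup.normalizer (N : Set G) → N ≠ ⊥ → Subgroup.normalizer (N : Set G) = M) (N : Subgroup G) [N.Normal] (hMF : M ⊓ (Cfsg.generalizedFittingSubgroup ↥N).map N.subtype ≠ ⊥) : Cfsg.fittingSubgroup G = ⊥ ∧ (Cfsg.generalizedFittingSubgroup ↥N).map N.subtype = Cfsg.generalizedFittingSubgroup G ∧ Cfsg.generalizedFittingSubgroup G = Cfsg.layer G ∧ ∀ K : Subgroup G, K.Normal → K ≠ ⊥ → (∀ K' : Subgroup G, K'.Normal → K'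 ≤ K → K' = ⊥ ∨ K' = K) → K ≤ N := by
  obtain ⟨F0, hF0⟩ : ∃ F0, F0 = (Cfsg.generalizedFittingSubgroup ↥N).map N.subtype := ⟨_, rfl⟩
  obtain ⟨L0, hL0⟩ : ∃ L0, L0 = (Cfsg.layer ↥N).map N.subtype := ⟨_, rfl⟩
  obtain ⟨Φ0, hΦ0⟩ : ∃ Φ0, Φ0 = (Cfsg.fittingSubgroup ↥N).map N.subtype := ⟨_, rfl⟩
  rw [← hF0] at hMF ⊢
  have hF0eq : F0 = L0 ⊔ Φ0 := by
    rw [hF0, hL0, hΦ0, Cfsg.generalizedFittingSubgroup, Subgroup.map_sup]
  have hchar : ∀ K : Subgroup N, (∀ α : MulAut N, K.map α.toMonoidHom ≤ K) → K.Characteristic :=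
    fun K h => Subgroup.characteristic_iff_map_le.2 h
  haveI hΦchar : (Cfsg.fittingSubgroup ↥N).Characteristic := Solv.fitting_characteristic
  haveI hLchar : (Cfsg.layer ↥N).Characteristic := hchar _ fun α => by
    rw [Subgroup.map_le_iff_le_comap, Cfsg.layer]
    refine sSup_le fun K hK => ?_
    rw [← Subgroup.map_le_iff_le_comap]
    exact le_sSup ⟨Subgroup.IsSubnormal.map (f := α.toMonoidHom) α.surjective hK.1,
      Local.isQuasisimple_congr (K.equivMapOfInjective _ α.injective) hK.2⟩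
  haveI hL0n : L0.Normal := hL0 ▸ inferInstance
  haveI hΦ0n : Φ0.Normal := hΦ0 ▸ inferInstance
  haveI hF0n : F0.Normal := hF0eq ▸ Subgroup.sup_normal _ _
  have hF0N : F0 ≤ N := hF0 ▸ Subgroup.map_subtype_le _
  have hL0E : L0 ≤ Cfsg.layer G := by
    rw [hL0, Cfsg.layer, Subgroup.map_le_iff_le_comap]
    refine sSup_le fun K hK => ?_
    rw [← Subgroup.map_le_iff_le_comap]
    exact le_sSup ⟨hK.1.trans' (Subgroup.Normal.isSubnormal inferInstance),
      Local.isQuasisimple_congr (K.equivMapOfInjective _ N.subtype_injective) hK.2⟩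
  have hΦ0F : Φ0 ≤ Cfsg.fittingSubgroup G := by
    refine Solv.normal_le_fitting ?_
    rw [hΦ0]
    haveI := Solv.fittingSubgroup_nilpotent (G := ↥N)
    exact (Group.isNilpotent_congr ((Cfsg.fittingSubgroup ↥N).equivMapOfInjective N.subtype
      N.subtype_injective)).1 inferInstance
  obtain ⟨A, hA⟩ : ∃ A, A = M ⊓ F0 := ⟨_, rfl⟩
  rw [← hA] at hMF
  have hAM : A ≤ M := hA ▸ inf_le_left
  have hnorm : ∀ T : Subgroup G, T.Normal → M ≤ Subgroup.normalizer ((M ⊓ T : Subgroup G) : Set G) :=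
    fun T hT m hm => Subgroup.mem_normalizer_iff.2 fun x => by
      refine ⟨fun hx => Subgroup.mem_inf.2 ⟨mul_mem (mul_mem hm (Subgroup.mem_inf.1 hx).1)
        (inv_mem hm), hT.conj_mem _ (Subgroup.mem_inf.1 hx).2 m⟩, fun hx => ?_⟩
      have h1 := mul_mem (mul_mem (inv_mem hm) (Subgroup.mem_inf.1 hx).1) hm
      have h2 := hT.conj_mem _ (Subgroup.mem_inf.1 hx).2 m⁻¹
      simp only [inv_inv, mul_assoc, inv_mul_cancel, mul_one, inv_mul_cancel_left] at h1 h2
      exact Subgroup.mem_inf.2 ⟨h1, h2⟩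
  have hNA : Subgroup.normalizer (A : Set G) = M := hprim A hAM (hA ▸ hnorm F0 hF0n) hMF
  have hnotnormal : ∀ T : Subgroup G, T.Normal → T ≤ M → T = ⊥ := fun T hT hTM => by
    by_contra hne
    exact hM ((hprim T hTM (by rw [Subgroup.normalizer_eq_top_iff.2 hT]; exact le_top) hne).symm.trans
      (Subgroup.normalizer_eq_top_iff.2 hT))
  have hC : Subgroup.centralizer (F0 : Set G) = ⊥ := by
    refine hnotnormal _ (Solv.centralizer_normal_of_normal F0) ?_
    intro c hc
    rw [← hNA]
    exact cen_le_norm A (Subgroup.centralizer_le (hA ▸ inf_le_right : A ≤ F0) hc)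
  have hmeet : ∀ K : Subgroup G, K.Normal → K ≠ ⊥ →
      (∀ K' : Subgroup G, K'.Normal → K' ≤ K → K' = ⊥ ∨ K' = K) → K ≤ N := fun K hK hKne hmin => by
    haveI := hK
    rcases hmin (K ⊓ N) inferInstance inf_le_left with h | h
    · refine absurd (eq_bot_iff.2 fun k hk => ?_) hKne
      rw [← hC]
      refine Subgroup.mem_centralizer_iff.2 fun x hx => ?_
      exact (Subgroup.commute_of_normal_of_disjoint K N hK inferInstance (disjoint_iff.2 h) k x hk
        (hF0N hx)).symm
    · exact h ▸ inf_le_right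
  have hFG : Cfsg.fittingSubgroup G = ⊥ := by
    by_contra hne
    haveI := Solv.fittingSubgroup_normal (G := G)
    obtain ⟨Z, hZn, hZne, hZF, hZmin⟩ := Solv.exists_minimal_normal_le (Cfsg.fittingSubgroup G) hne
    haveI := hZn
    haveI hFnil := Solv.fittingSubgroup_nilpotent (G := G)
    have hZnil : Group.IsNilpotent Z := Solv.isNilpotent_of_le hZF hFnil
    obtain ⟨hZab, p, hp, hZp, hZpg⟩ :=
      Solv.minimal_normal_elementaryAbelian Z inferInstance hZne hZmin
    haveI := Fact.mk hp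
    have hMZ : M ⊓ Z = ⊥ := by
      by_contra h
      have hN' : Subgroup.normalizer ((M ⊓ Z : Subgroup G) : Set G) = M :=
        hprim _ inf_le_left (hnorm Z hZn) h
      refine hZne (hnotnormal Z hZn fun z hz => ?_)
      rw [← hN']
      refine cen_le_norm _ (Subgroup.mem_centralizer_iff.2 fun x hx => ?_)
      exact congrArg Subtype.val (hZab.is_comm.comm ⟨x, (Subgroup.mem_inf.1 hx).2⟩ ⟨z, hz⟩)
    have hLZ : ∀ e ∈ L0, ∀ z ∈ Z, Commute e z := fun e he z hz => by
      have h := Solv.layer_commutator_solvable hZn.isSubnormal (inferInstance : Group.IsSolvable Z)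
      rw [Subgroup.commutator_eq_bot_iff_le_centralizer] at h
      exact (Subgroup.mem_centralizer_iff.1 (h (hL0E he)) z hz).symm
    -- elements of `A` of order prime to `p` centralise `Z`
    have hcen : ∀ a ∈ A, (orderOf a).Coprime p → ∀ z ∈ Z, Commute a z := by
      intro a ha hcop z hz
      have haF : a ∈ L0 ⊔ Φ0 := by rw [← hF0eq]; exact (hA ▸ inf_le_right : A ≤ F0) ha
      obtain ⟨e, he, f, hf, rfl⟩ := Subgroup.mem_sup_of_normal_left.1 haF
      have hef : Commute e f := by
        have h := Solv.layer_commutator_fitting (G := G)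
        rw [Subgroup.commutator_eq_bot_iff_le_centralizer] at h
        exact (Subgroup.mem_centralizer_iff.1 (h (hL0E he)) f (hΦ0F hf)).symm
      obtain ⟨i, m, hpm, hfm⟩ :=
        Nat.exists_eq_pow_mul_and_not_dvd (orderOf_pos f).ne' p hp.ne_one
      obtain ⟨k, hk1, hk2⟩ := Nat.chineseRemainder (hcop.pow_right i) 1 0
      have hak : (e * f) ^ k = e * f := by
        rw [(pow_eq_pow_iff_modEq (n := k) (m := 1)).2 hk1, pow_one]
      rw [← hak, hef.mul_pow]
      refine Commute.mul_left ((hLZ e he z hz).pow_left k) ?_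
      obtain ⟨j, hj⟩ := Nat.modEq_zero_iff_dvd.1 hk2
      have hord : (orderOf (f ^ k)).Coprime p := by
        refine Nat.Coprime.coprime_dvd_left (orderOf_dvd_of_pow_eq_one ?_)
          (Nat.Coprime.symm ((Nat.Prime.coprime_iff_not_dvd hp).2 hpm))
        rw [← pow_mul, hj, mul_right_comm, ← hfm, pow_mul, pow_orderOf_eq_one, one_pow]
      obtain ⟨l, hl⟩ := IsPGroup.iff_orderOf.1 hZpg ⟨z, hz⟩
      have := Solv.commute_of_coprime_nilpotent (G := Cfsg.fittingSubgroup G)
        (u := ⟨z, hZF hz⟩) (v := ⟨f ^ k, pow_mem (hΦ0F hf) k⟩) (p := p) (k := l)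
        (by rw [← Subgroup.orderOf_coe, ← hl, ← Subgroup.orderOf_coe])
        (by rw [← Subgroup.orderOf_coe]; exact hord)
      exact (congrArg Subtype.val this.eq).symm
    have hApg : IsPGroup p A := by
      rw [IsPGroup.iff_card]
      by_contra hnp
      obtain ⟨q, hq, hqA, hqp⟩ : ∃ q : ℕ, q.Prime ∧ q ∣ Nat.card A ∧ q ≠ p := by
        by_contra hall
        simp only [not_exists, not_and, not_not] at hall
        exact hnp ⟨_, Nat.eq_prime_pow_of_unique_prime_dvd Nat.card_pos.ne'
          fun {q} hq hqd => hall q hq hqd⟩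
      haveI := Fact.mk hq
      obtain ⟨a, ha⟩ := exists_prime_orderOf_dvd_card' q hqA
      obtain ⟨T, hT⟩ : ∃ T, T = M ⊓ (F0 ⊓ Subgroup.centralizer (Z : Set G)) := ⟨_, rfl⟩
      haveI := Solv.centralizer_normal_of_normal Z
      have hTne : T ≠ ⊥ := fun h => by
        have hmem : (a : G) ∈ T := by
          rw [hT]
          refine Subgroup.mem_inf.2 ⟨hAM a.2, Subgroup.mem_inf.2 ⟨?_, ?_⟩⟩
          · exact (hA ▸ inf_le_right : A ≤ F0) a.2
          · refine Subgroup.mem_centralizer_iff.2 fun z hz => (hcen a a.2 ?_ z hz).symm.eq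
            rw [Subgroup.orderOf_coe, ha]
            exact (Nat.coprime_primes hq hp).2 hqp
        rw [h, Subgroup.mem_bot] at hmem
        rw [show a = 1 from Subtype.ext hmem, orderOf_one] at ha
        exact hq.one_lt.ne ha
      have hNT : Subgroup.normalizer (T : Set G) = M := by
        refine hprim T (hT ▸ inf_le_left) ?_ hTne
        rw [hT]
        exact hnorm _ inferInstance
      refine hZne (le_antisymm ?_ bot_le)
      rw [← hMZ]
      refine le_inf (fun z hz => ?_) le_rfl
      rw [← hNT]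
      refine cen_le_norm _ (Subgroup.mem_centralizer_iff.2 fun x hx => ?_)
      rw [hT] at hx
      exact (Subgroup.mem_centralizer_iff.1 (Subgroup.mem_inf.1 (Subgroup.mem_inf.1 hx).2).2 z hz).symm
    -- a `p`-group argument
    have hlt : A < Z ⊔ A := lt_of_le_of_ne le_sup_right fun h => hZne (by
      have hZA : Z ≤ A := by rw [h]; exact le_sup_left
      exact le_bot_iff.1 (hMZ ▸ le_inf (hZA.trans hAM) le_rfl))
    have hZA : IsPGroup p (Z ⊔ A : Subgroup G) := hZpg.to_sup_of_normal_left hApg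
    haveI := hZA.isNilpotent
    have hlt' : A.subgroupOf (Z ⊔ A) < ⊤ := lt_top_iff_ne_top.2 fun h =>
      hlt.not_ge (Subgroup.subgroupOf_eq_top.1 h)
    have hgrow := Group.normalizerCondition_of_isNilpotent _ hlt'
    obtain ⟨x, hx, hxA⟩ := SetLike.exists_of_lt hgrow
    have hxM : (x : G) ∈ M := by
      rw [← hNA]
      refine Subgroup.mem_normalizer_iff.2 fun y => ?_
      constructor
      · intro hy
        exact (Subgroup.mem_normalizer_iff.1 hx ⟨y, Subgroup.mem_sup_right hy⟩).1 hy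
      · intro hy
        have h1 : y ∈ (Z ⊔ A : Subgroup G) := by
          have := mul_mem (mul_mem (inv_mem x.2) (Subgroup.mem_sup_right (S := Z) hy)) x.2
          simpa [mul_assoc] using this
        exact (Subgroup.mem_normalizer_iff.1 hx ⟨y, h1⟩).2 hy
    obtain ⟨z, hz, a, ha, hza⟩ := Subgroup.mem_sup_of_normal_left.1 x.2
    have hz1 : z ∈ M ⊓ Z := Subgroup.mem_inf.2 ⟨by
      have := mul_mem hxM (inv_mem (hAM ha))
      rwa [← hza, mul_inv_cancel_right] at this, hz⟩
    rw [hMZ, Subgroup.mem_bot] at hz1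
    refine hxA (Subgroup.mem_subgroupOf.2 ?_)
    rw [← hza, hz1, one_mul]
    exact ha
  have hΦbot : Φ0 = ⊥ := le_bot_iff.1 (hFG ▸ hΦ0F)
  have hF0L : F0 = L0 := by rw [hF0eq, hΦbot, sup_bot_eq]
  have hgf : Cfsg.generalizedFittingSubgroup G = Cfsg.layer G := by
    rw [Cfsg.generalizedFittingSubgroup, hFG, sup_bot_eq]
  refine ⟨hFG, ?_, hgf, hmeet⟩
  rw [hgf, hF0L]
  refine le_antisymm hL0E ?_
  refine sSup_le fun K hK => ?_
  rcases Solv.component_normal_dichotomy hK N with h | h
  · rw [hL0, ← Subgroup.map_subgroupOf_eq_of_le h]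
    exact Subgroup.map_mono (Solv.component_le_layer (Solv.component_subgroupOf hK h))
  · exfalso
    refine Solv.qs_ne_bot hK.2 (le_bot_iff.1 ?_)
    rw [← hC]
    rw [Subgroup.commutator_eq_bot_iff_le_centralizer] at h
    exact h.trans (Subgroup.centralizer_le hF0N)

end Cfsg.Agent.S3750
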