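import Cfsg.Statements.S3751
import Cfsg.Agent.Lib.LocalEven.CharP
import Cfsg.Agent.Lib.Fusion.Cores

set_option autoImplicit false
open Cfsg
open Cfsg.Agent Cfsg.Agent.Fusion

namespace Cfsg.Agent.S3751
open scoped commutatorElement

variable {G : Type*} [Group G] [Finite G] {p : ℕ} [Fact p.Prime]

/-- A `p`-local subgroup. -/
abbrev Local' (p : ℕ) (M : Subgroup G) : Prop :=
  ∃ T : Subgroup G, IsPGroup p T ∧ T ≠ ⊥ ∧ M = Subgroup.normalizer (T : Set G)

/-- A maximal `p`-local subgroup. -/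
abbrev MaxLocal (p : ℕ) (M : Subgroup G) : Prop :=
  Local' p M ∧ ∀ L : Subgroup G, Local' p L → M ≤ L → L = M

/-- `O_p(M)` inside `G`. -/
abbrev core (p : ℕ) (M : Subgroup G) : Subgroup G := (Cfsg.pCore p ↥M).map M.subtype

theorem core_isPGroup (M : Subgroup G) : IsPGroup p (core p M) := (isPGroup_pCore p ↥M).map _

theorem exists_max {T : Subgroup G} (hT : IsPGroup p T) (h : T ≠ ⊥) :
    ∃ L, MaxLocal p L ∧ Subgroup.normalizer (T : Set G) ≤ L := by
  obtain ⟨L, hTL, hL⟩ := Finite.exists_le_maximal (p := fun L : Subgroup G => Local' p L)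
    (a := Subgroup.normalizer (T : Set G)) ⟨T, hT, h, rfl⟩
  exact ⟨L, ⟨hL.1, fun K hK hLK => le_antisymm (hL.2 hK hLK) hLK⟩, hTL⟩

theorem le_core {M B : Subgroup G} (hBM : B ≤ M) (hB : IsPGroup p B)
    (hn : M ≤ Subgroup.normalizer (B : Set G)) : B ≤ core p M := fun x hx => by
  haveI : (B.subgroupOf M).Normal := (Subgroup.normal_subgroupOf_iff_le_normalizer hBM).2 hn
  exact ⟨⟨x, hBM hx⟩, le_pCore (N := B.subgroupOf M) hB.comap_subtype hx, rfl⟩

theorem core_ne_bot {M : Subgroup G} (hM : MaxLocal p M) : core p M ≠ ⊥ := by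
  obtain ⟨T, hT, hT1, rfl⟩ := hM.1
  intro h
  exact hT1 (le_bot_iff.1 (h ▸ le_core Subgroup.le_normalizer hT le_rfl))

theorem normalizer_core {M : Subgroup G} (hM : MaxLocal p M) :
    Subgroup.normalizer (core p M : Set G) = M :=
  hM.2 _ ⟨_, core_isPGroup M, core_ne_bot hM, rfl⟩
    (Subgroup.le_normalizer.trans (LocalEven.normalizer_le_char M _))

theorem mem_of_cj_eq {M : Subgroup G} (hM : MaxLocal p M) {g : G} (h : cj M g = M) : g ∈ M := by
  rw [← normalizer_core hM]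
  exact LocalEven.normalizer_le_char M _ (mem_normalizer_iff_cj.2 h)

theorem maxLocal_cj {M : Subgroup G} (hM : MaxLocal p M) (g : G) : MaxLocal p (cj M g) := by
  have loc : ∀ (L : Subgroup G) (a : G), Local' p L → Local' p (cj L a) := by
    rintro _ a ⟨T, hT, hT1, rfl⟩
    refine ⟨cj T a, isPGroup_cj hT a, fun h => hT1 ?_, cj_normalizer T a⟩
    rw [← cj_cj_inv T a, h, cj_bot]
  refine ⟨loc M g hM.1, fun L hL hle => ?_⟩
  have := hM.2 _ (loc L g⁻¹ hL) (by rw [← cj_cj_inv M g]; exact cj_mono hle _)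
  rw [← this, cj_inv_cj]

theorem core_le_syl {M T : Subgroup G} (hT : SylIn p T M) : core p M ≤ T := by
  obtain ⟨P, hP⟩ := hT.exists_sylow_subgroupOf
  rintro _ ⟨y, hy, rfl⟩
  have := pCore_le_sylow P hy
  rw [hP] at this
  exact this

theorem normalizer_eq_of_normal (hloc : Cfsg.IsOfLocalCharacteristic p G) {M A : Subgroup G}
    (hM : MaxLocal p M) (hA : A ≠ ⊥) (hAM : A ≤ M) (hn : M ≤ Subgroup.normalizer (A : Set G)) :
    Subgroup.normalizer (A : Set G) = M := by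
  have hch : LocalEven.CharP p M := by
    obtain ⟨T, hT, hT1, rfl⟩ := hM.1
    exact hloc.2 T hT hT1
  have hne : core p A ≠ ⊥ := by
    intro h
    refine hA ?_
    haveI : (A.subgroupOf M).Normal := (Subgroup.normal_subgroupOf_iff_le_normalizer hAM).2 hn
    have hint : A.subgroupOf M ⊓ Cfsg.pCore p ↥M = ⊥ := by
      rw [eq_bot_iff]
      intro x hx
      have hnor : A ≤ Subgroup.normalizer ((core p M ⊓ A : Subgroup G) : Set G) := fun a ha => by
        have ha' : a ∈ Subgroup.normalizer (core p M : Set G) :=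
          LocalEven.normalizer_le_char M _ (Subgroup.le_normalizer (hAM ha))
        rw [mem_normalizer_iff_cj, cj_inf, cj_eq_self ha', cj_eq_self_of_mem ha]
      have h1 : (x : G) ∈ core p A :=
        le_core inf_le_right (core_isPGroup M).to_inf_left hnor ⟨⟨x, hx.2, rfl⟩, hx.1⟩
      rw [h, Subgroup.mem_bot] at h1
      exact Subgroup.mem_bot.2 (Subtype.ext h1)
    have hcomm : A.subgroupOf M ≤ Cfsg.pCore p ↥M := fun x hx => hch (Subgroup.mem_centralizer_iff.2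
      fun y hy => commutatorElement_eq_one_iff_mul_comm.1 (Subgroup.mem_bot.1 (hint.le
        ⟨Subgroup.commutator_le_right _ _ (Subgroup.commutator_mem_commutator hy hx),
          Subgroup.commutator_le_left _ _ (Subgroup.commutator_mem_commutator hy hx)⟩)))
    rw [inf_eq_left.2 hcomm] at hint
    exact disjoint_self.1 ((Subgroup.subgroupOf_eq_bot.1 hint).mono_right hAM)
  have h1 : Subgroup.normalizer (A : Set G) ≤ Subgroup.normalizer (core p A : Set G) :=
    LocalEven.normalizer_le_char A _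
  exact le_antisymm (h1.trans (hM.2 _ ⟨_, core_isPGroup A, hne, rfl⟩ (hn.trans h1)).le) hn

/-- Two distinct subgroups M₁, M₂ of G form a primitive pair when, for {i, j} = {1, 2}, every non-trivial normal subgroup A of M_i contained in M₁ ∩ M₂ satisfies N_{M_j}(A) = M₁ ∩ M₂; the pair has characteristic p when moreover C_{M_i}(O_p(M_i)) ≤ O_p(M_i) for both i and O_p(M₁)O_p(M₂) ≤ M₁ ∩ M₂. Let G be a finite group, p a prime dividing its order, with O_p(G) = 1 and every p-local subgroup of characteristic p. Then either G has a primitive pair of characteristic p, or every maximal p-local subgroup M of G is strongly p-embedded in G: M is a proper subgroup, p divides its order, and for every g ∉ M the order of M ∩ gMg⁻¹ is prime to p. -/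
theorem result {G : Type*} [Group G] [Finite G] {p : ℕ} [Fact p.Prime] (hloc : Cfsg.IsOfLocalCharacteristic p G) (hOp : Cfsg.pCore p G = ⊥) : (∃ M₁ M₂ : Subgroup G, M₁ ≠ M₂ ∧ (∀ A : Subgroup G, A ≠ ⊥ → A ≤ M₁ ⊓ M₂ → (M₁ ≤ Subgroup.normalizer (A : Set G) → M₂ ⊓ Subgroup.normalizer (A : Set G) = M₁ ⊓ M₂) ∧ (M₂ ≤ Subgroup.normalizer (A : Set G) → M₁ ⊓ Subgroup.normalizer (A : Set G) = M₁ ⊓ M₂)) ∧ Subgroup.centralizer (Cfsg.pCore p ↥M₁ : Set ↥M₁) ≤ Cfsg.pCore p ↥M₁ ∧ Subgroup.centralizer (Cfsg.pCore p ↥M₂ : Set ↥M₂) ≤ Cfsg.pCore p ↥M₂ ∧ (Cfsg.pCore p ↥M₁).map M₁.subtype ⊔ (Cfsg.pCore p ↥M₂).map M₂.subtype ≤ M₁ ⊓ M₂) ∨ (∀ M : Subgroup G, (∃ T : Subgroup G, IsPGroup p T ∧ T ≠ ⊥ ∧ M = Subgroup.normalizer (T : Set G)) → (∀ L : Subgroup G, (∃ T : Subgroup G, IsPGroup p T ∧ T ≠ ⊥ ∧ L = Subgroup.normalizer (T : Set G)) → M ≤ L → L = M) → M ≠ ⊤ ∧ p ∣ Nat.card M ∧ ∀ g : G, g ∉ M → ¬ p ∣ Nat.card ↥(M ⊓ M.map (MulAut.conj g).toMonoidHom))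 := by
  classical
  by_contra hcon
  push Not at hcon
  obtain ⟨hno, M, hMl, hMmax, hbad⟩ := hcon
  have hM : MaxLocal p M := ⟨hMl, hMmax⟩
  -- there is no pair of maximal locals with a common Sylow subgroup
  have hpair : ∀ L₁ L₂ T : Subgroup G, MaxLocal p L₁ → MaxLocal p L₂ → L₁ ≠ L₂ →
      SylIn p T L₁ → SylIn p T L₂ → False := by
    intro L₁ L₂ T h₁ h₂ hne hT₁ hT₂
    have hch : ∀ L : Subgroup G, MaxLocal p L → LocalEven.CharP p L := fun L hL => by
      obtain ⟨U, hU, hU1, rfl⟩ := hL.1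
      exact hloc.2 U hU hU1
    refine hno L₁ L₂ hne (fun A hA hA12 => ⟨fun hn => ?_, fun hn => ?_⟩) (hch L₁ h₁) (hch L₂ h₂) ?_
    · rw [normalizer_eq_of_normal hloc h₁ hA (hA12.trans inf_le_left) hn, inf_comm]
    · rw [normalizer_eq_of_normal hloc h₂ hA (hA12.trans inf_le_right) hn]
    · exact sup_le ((core_le_syl hT₁).trans (le_inf hT₁.le hT₂.le))
        ((core_le_syl hT₂).trans (le_inf hT₁.le hT₂.le))
  have hMtop : M ≠ ⊤ := by
    intro h
    obtain ⟨T, hT, hT1, rfl⟩ := hM.1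
    haveI : T.Normal := Subgroup.normalizer_eq_top_iff.1 h
    exact hT1 (le_bot_iff.1 (hOp ▸ le_pCore hT))
  have hpM : p ∣ Nat.card M := by
    obtain ⟨T, hT, hT1, rfl⟩ := hM.1
    obtain ⟨k, hk⟩ := IsPGroup.iff_card.1 hT
    refine (dvd_trans ?_ (hk ▸ Subgroup.card_dvd_of_le Subgroup.le_normalizer))
    exact dvd_pow_self p fun h0 => hT1 (Subgroup.card_eq_one.1 (by rw [hk, h0, pow_zero]))
  obtain ⟨g, hg, hpg⟩ := hbad hMtop hpM
  -- a largest p-subgroup in two maximal locals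
  obtain ⟨T, ⟨hTp, L₁, L₂, h₁, h₂, hne, hTle⟩, hTmax⟩ := Set.exists_max_image
    {T : Subgroup G | IsPGroup p T ∧ ∃ L₁ L₂, MaxLocal p L₁ ∧ MaxLocal p L₂ ∧ L₁ ≠ L₂ ∧ T ≤ L₁ ⊓ L₂}
    (fun T => Nat.card T) (Set.toFinite _)
    ⟨⊥, IsPGroup.of_bot, M, cj M g, hM, maxLocal_cj hM g, fun h => hg (mem_of_cj_eq hM h.symm), bot_le⟩
  have hT1 : T ≠ ⊥ := by
    intro h
    obtain ⟨U, hU⟩ := exists_sylIn (p := p) (M ⊓ cj M g)
    have hle := hTmax U ⟨hU.isPGroup, M, cj M g, hM, maxLocal_cj hM g,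
      fun h => hg (mem_of_cj_eq hM h.symm), hU.le⟩
    rw [h, Subgroup.card_bot] at hle
    have hU1 : Nat.card U = 1 := le_antisymm hle Nat.card_pos
    refine hU.not_dvd ?_
    rw [Subgroup.card_eq_one.1 hU1, Subgroup.relIndex_bot_left]
    exact hpg
  obtain ⟨L, hL, hNL⟩ := exists_max hTp hT1
  -- `T` is a Sylow subgroup of one of them
  have grow : ∀ K S : Subgroup G, MaxLocal p K → T ≤ K → SylIn p S K → T ≤ S → T ≠ S → L = K := by
    intro K S hK _ hS hTS hne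
    by_contra hLK
    refine (SylIn.normalizer_growth hTS hne hS.isPGroup).ne' (Subgroup.eq_of_le_of_card_ge
      (le_inf hTS Subgroup.le_normalizer) (hTmax _ ⟨hS.isPGroup.to_inf_left, L, K, hL, hK, hLK,
        le_inf (inf_le_right.trans hNL) (inf_le_left.trans hS.le)⟩)).symm
  have main : ∀ K K' : Subgroup G, MaxLocal p K → MaxLocal p K' → K ≠ K' → T ≤ K ⊓ K' → SylIn p T K → False := by
    intro K K' hK hK' hne hTK hTs
    obtain ⟨S, hS, hTS⟩ := exists_sylIn_ge hTp (hTK.trans inf_le_right)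
    by_cases hTS' : T = S
    · exact hpair K K' T hK hK' hne hTs (hTS' ▸ hS)
    obtain ⟨y, hy, hyT⟩ := SetLike.exists_of_lt (SylIn.normalizer_growth hTS hTS' hS.isPGroup)
    have hyK : y ∉ K := by
      intro hyK
      refine hyT ((hTs.eq_of_le ((hS.isPGroup.to_inf_left (K := Subgroup.normalizer (T : Set G))).to_inf_left
        (K := K)) (le_inf (le_inf hTS Subgroup.le_normalizer) hTs.le) inf_le_right).le ⟨hy, hyK⟩)
    have hT' : SylIn p T (cj K y) := by
      rw [← cj_eq_self hy.2]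
      exact hTs.cj y
    exact hpair K (cj K y) T hK (maxLocal_cj hK y) (fun h => hyK (mem_of_cj_eq hK h.symm)) hTs hT'
  obtain ⟨S₁, hS₁, hTS₁⟩ := exists_sylIn_ge hTp (hTle.trans inf_le_left)
  obtain ⟨S₂, hS₂, hTS₂⟩ := exists_sylIn_ge hTp (hTle.trans inf_le_right)
  by_cases e₁ : T = S₁
  · exact main L₁ L₂ h₁ h₂ hne hTle (e₁ ▸ hS₁)
  by_cases e₂ : T = S₂
  · exact main L₂ L₁ h₂ h₁ hne.symm (inf_comm L₁ L₂ ▸ hTle) (e₂ ▸ hS₂)
  exact hne ((grow L₁ S₁ h₁ (hTle.trans inf_le_left) hS₁ hTS₁ e₁).symm.trans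
    (grow L₂ S₂ h₂ (hTle.trans inf_le_right) hS₂ hTS₂ e₂))

end Cfsg.Agent.S3751
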