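import Cfsg.Statements.S3752
import Cfsg.Agent.Lib.Solv.Component
import Cfsg.Agent.Lib.Solv.Cores
import Cfsg.Agent.Lib.Fusion.Cores
import Cfsg.Agent.Lib.LocalEven.CharP

set_option autoImplicit false
open Cfsg
open Cfsg.Agent

namespace Cfsg.Agent.S3752
open scoped commutatorElement

variable {G : Type*} [Group G] [Finite G]

/-- A characteristic-like part of `M`, inside `G`. -/
abbrev core (r : ℕ) (M : Subgroup G) : Subgroup G := (Cfsg.pCore r ↥M).map M.subtype

/-- The layer of `M`, inside `G`. -/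
abbrev lay (M : Subgroup G) : Subgroup G := (Cfsg.layer ↥M).map M.subtype

/-- The Fitting subgroup of `M`, inside `G`. -/
abbrev fit (M : Subgroup G) : Subgroup G := (Cfsg.fittingSubgroup ↥M).map M.subtype

omit [Finite G] in
theorem le_normalizer_map {M : Subgroup G} (C : Subgroup ↥M) [hC : C.Normal] :
    M ≤ Subgroup.normalizer (C.map M.subtype : Set G) := by
  intro g hg
  refine Subgroup.mem_normalizer_iff.2 fun x => ⟨?_, ?_⟩
  · rintro ⟨c, hc, rfl⟩
    exact ⟨⟨g, hg⟩ * c * ⟨g, hg⟩⁻¹, hC.conj_mem c hc _, rfl⟩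
  · rintro ⟨c, hc, he⟩
    refine ⟨⟨g, hg⟩⁻¹ * c * ⟨g, hg⟩, by simpa using hC.conj_mem c hc ⟨g, hg⟩⁻¹, ?_⟩
    change (c : G) = g * x * g⁻¹ at he
    show g⁻¹ * (c : G) * g = x
    rw [he]; group

theorem norm_core (r : ℕ) (M : Subgroup G) : M ≤ Subgroup.normalizer (core r M : Set G) :=
  haveI := Solv.pCore_normal (G := ↥M) r
  le_normalizer_map _

omit [Finite G] in
theorem norm_lay (M : Subgroup G) : M ≤ Subgroup.normalizer (lay M : Set G) :=
  haveI := Local.layer_normal (H := ↥M)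
  le_normalizer_map _

theorem norm_fit (M : Subgroup G) : M ≤ Subgroup.normalizer (fit M : Set G) :=
  haveI := Solv.fittingSubgroup_normal (G := ↥M)
  le_normalizer_map _

theorem gfit_eq (M : Subgroup G) :
    (Cfsg.generalizedFittingSubgroup ↥M).map M.subtype = lay M ⊔ fit M :=
  Subgroup.map_sup _ _ _

theorem fit_centralizer {M : Subgroup G} (hE : lay M = ⊥) {x : G} (hx : x ∈ M)
    (hc : ∀ y ∈ fit M, x * y = y * x) : x ∈ fit M := by
  have hb : Cfsg.layer ↥M = ⊥ := (Subgroup.map_eq_bot_iff_of_injective _ M.subtype_injective).1 hE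
  have h := Solv.centralizer_gfit_le (G := ↥M) (x := ⟨x, hx⟩)
  rw [Cfsg.generalizedFittingSubgroup, hb, bot_sup_eq] at h
  exact ⟨⟨x, hx⟩, h (Subgroup.mem_centralizer_iff.2 fun y hy =>
    Subtype.ext (hc y ⟨y, hy, rfl⟩).symm), rfl⟩

theorem mem_core_of_fit {M : Subgroup G} {r : ℕ} [Fact r.Prime] {x : G} (hx : x ∈ fit M)
    (hxp : ∃ k, x ^ r ^ k = 1) : x ∈ core r M := by
  obtain ⟨y, hy, rfl⟩ := hx
  refine ⟨y, ?_, rfl⟩
  obtain ⟨F, hF⟩ : ∃ F, F = Cfsg.fittingSubgroup ↥M := ⟨_, rfl⟩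
  haveI : F.Normal := hF ▸ Solv.fittingSubgroup_normal
  haveI : Group.IsNilpotent F := hF ▸ Solv.fittingSubgroup_nilpotent
  rw [← hF] at hy
  obtain ⟨k, hk⟩ := hxp
  have hk' : (⟨y, hy⟩ : F) ^ r ^ k = 1 := Subtype.ext (M.subtype_injective (by simpa using hk))
  have hz : IsPGroup r (Subgroup.zpowers (⟨y, hy⟩ : F)) := by
    rintro ⟨_, j, rfl⟩
    refine ⟨k, Subtype.ext ?_⟩
    show ((⟨y, hy⟩ : F) ^ j) ^ r ^ k = 1
    rw [← zpow_natCast, ← zpow_mul, mul_comm, zpow_mul, zpow_natCast, hk', one_zpow]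
  obtain ⟨P, hP⟩ := hz.exists_le_sylow
  have hPn : (P : Subgroup F).Normal := by
    have h3 := (Group.isNilpotent_of_finite_tfae (G := F)).out 0 3
    exact h3.1 (by assumption) r (by assumption) P
  haveI := P.characteristic_of_normal hPn
  haveI := Solv.map_subtype_normal_of_characteristic F (P : Subgroup F)
  exact Solv.normal_le_pCore (P.isPGroup'.map F.subtype)
    (Subgroup.mem_map_of_mem _ (hP (Subgroup.mem_zpowers _)))

theorem fit_le_of_cores {M H : Subgroup G} (h : ∀ r : ℕ, r.Prime → core r M ≤ H) : fit M ≤ H := by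
  rw [fit, Solv.fitting_eq_iSup_pCore, Subgroup.map_iSup]
  exact iSup_le fun r => h r r.2

theorem core_le_fit (r : ℕ) [Fact r.Prime] (M : Subgroup G) : core r M ≤ fit M :=
  Subgroup.map_mono (Solv.pCore_le_fitting r)

theorem core_isPGroup (r : ℕ) [Fact r.Prime] (M : Subgroup G) : IsPGroup r (core r M) :=
  (Solv.pCore_isPGroup r).map _

theorem fit_normal_isSubnormal (M : Subgroup G) : Group.IsSolvable (fit M) := by
  haveI := Solv.fittingSubgroup_nilpotent (G := ↥M)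
  exact Solv.isSolvable_map M.subtype (inferInstance : Group.IsSolvable (Cfsg.fittingSubgroup ↥M))

theorem lay_fit_commute (A B : Subgroup G) (hA : lay A ≤ A ⊓ B) (hB : fit B ≤ A ⊓ B) :
    ⁅lay A, fit B⁆ = ⊥ := by
  obtain ⟨D, hD⟩ : ∃ D, D = ⁅lay A, fit B⁆ := ⟨_, rfl⟩
  have hDA : D ≤ lay A := by
    rw [hD, Subgroup.commutator_comm]
    exact Subgroup.le_normalizer_iff_commutator_le_right.1 ((hB.trans inf_le_left).trans (norm_lay A))
  have hDB : D ≤ fit B := hD ▸
    Subgroup.le_normalizer_iff_commutator_le_right.1 ((hA.trans inf_le_right).trans (norm_fit B))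
  have hAD : lay A ≤ Subgroup.normalizer (D : Set G) := by
    rw [hD]; exact Subgroup.normalizer_commutator_ge_left (lay A) (fit B)
  have hDM : D ≤ A := hDA.trans (Subgroup.map_subtype_le _)
  haveI := Local.layer_normal (H := ↥A)
  have hsn : (D.subgroupOf A).IsSubnormal := by
    have hle : D.subgroupOf A ≤ Cfsg.layer ↥A := fun x hx => by
      obtain ⟨y, hy, hyx⟩ := hDA hx
      rwa [← A.subtype_injective hyx]
    refine Subgroup.IsSubnormal.step _ _ hle (inferInstance : (Cfsg.layer ↥A).Normal).isSubnormal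
      ((Subgroup.normal_subgroupOf_iff_le_normalizer hle).2 fun x hx => ?_)
    rw [← Subgroup.subgroupOf_normalizer_eq hDM]
    exact hAD (Subgroup.mem_map_of_mem _ hx)
  have h1 := congrArg (Subgroup.map A.subtype) (Solv.layer_commutator_solvable hsn
    (Solv.isSolvable_subgroupOf hDM (Solv.isSolvable_of_le hDB (fit_normal_isSubnormal B))))
  rw [Subgroup.map_commutator, Subgroup.map_subgroupOf_eq_of_le hDM, Subgroup.map_bot] at h1
  refine Solv.commutator_eq_bot_of_perfect ?_ ?_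
  · rw [← Subgroup.map_commutator, Solv.layer_perfect]
  · rw [← hD, Subgroup.commutator_comm]; exact h1

theorem lay_le (A B : Subgroup G) (hA : lay A ≤ A ⊓ B) (hB : lay B ≤ A ⊓ B) (hBf : fit B ≤ A ⊓ B) :
    lay A ≤ lay B := by
  rw [lay, Cfsg.layer, Subgroup.map_le_iff_le_comap]
  refine sSup_le fun K hK => ?_
  have hKA : K.map A.subtype ≤ lay A := Subgroup.map_mono (Solv.component_le_layer hK)
  obtain ⟨J, hJ⟩ : ∃ J, J = lay A ⊓ lay B := ⟨_, rfl⟩
  have hJA : J ≤ A := hJ ▸ inf_le_left.trans (Subgroup.map_subtype_le _)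
  have hAJ : lay A ≤ Subgroup.normalizer (J : Set G) := fun a ha => by
    rw [hJ, Fusion.mem_normalizer_iff_cj, Fusion.cj_inf,
      Fusion.cj_eq_self_of_mem ha, Fusion.cj_eq_self (norm_lay B (hA ha).2)]
  haveI := Local.layer_normal (H := ↥A)
  have hsn : (J.subgroupOf A).IsSubnormal := by
    have hle : J.subgroupOf A ≤ Cfsg.layer ↥A := fun x hx => by
      obtain ⟨y, hy, hyx⟩ := (hJ ▸ hx : (x : G) ∈ lay A ⊓ lay B).1
      rwa [← A.subtype_injective hyx]
    refine Subgroup.IsSubnormal.step _ _ hle (inferInstance : (Cfsg.layer ↥A).Normal).isSubnormal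
      ((Subgroup.normal_subgroupOf_iff_le_normalizer hle).2 fun x hx => ?_)
    rw [← Subgroup.subgroupOf_normalizer_eq hJA]
    exact hAJ (Subgroup.mem_map_of_mem _ hx)
  rcases Solv.component_subnormal_dichotomy hK hsn with h | h
  · exact fun k hk => (hJ ▸ h hk : (k : G) ∈ lay A ⊓ lay B).2
  exfalso
  have h1 := congrArg (Subgroup.map A.subtype) h
  rw [Subgroup.map_commutator, Subgroup.map_subgroupOf_eq_of_le hJA, Subgroup.map_bot] at h1
  have hperf : ⁅K.map A.subtype, K.map A.subtype⁆ = K.map A.subtype := by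
    rw [← Subgroup.map_commutator, Solv.qs_self_commutator hK.2]
  have hle : ⁅K.map A.subtype, lay B⁆ ≤ J := by
    refine (Subgroup.commutator_mono hKA le_rfl).trans ?_
    rw [hJ]
    refine le_inf ?_ (Subgroup.le_normalizer_iff_commutator_le_right.1 ((hA.trans inf_le_right).trans (norm_lay B)))
    rw [Subgroup.commutator_comm]
    exact Subgroup.le_normalizer_iff_commutator_le_right.1 ((hB.trans inf_le_left).trans (norm_lay A))
  have hKB : ⁅K.map A.subtype, lay B⁆ = ⊥ := by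
    refine Solv.commutator_eq_bot_of_perfect hperf ?_
    rw [eq_bot_iff, ← h1, Subgroup.commutator_comm]
    exact Subgroup.commutator_mono le_rfl hle
  have hKF : ⁅K.map A.subtype, fit B⁆ = ⊥ :=
    eq_bot_iff.2 ((Subgroup.commutator_mono hKA le_rfl).trans (lay_fit_commute A B hA hBf).le)
  have hcg : K.map A.subtype ≤ Subgroup.centralizer ((lay B ⊔ fit B : Subgroup G) : Set G) :=
    Subgroup.le_centralizer_iff.1 (sup_le
      (Subgroup.le_centralizer_iff.1 (Subgroup.commutator_eq_bot_iff_le_centralizer.1 hKB))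
      (Subgroup.le_centralizer_iff.1 (Subgroup.commutator_eq_bot_iff_le_centralizer.1 hKF)))
  refine Solv.qs_ne_bot hK.2 ((Subgroup.map_eq_bot_iff_of_injective _ A.subtype_injective).1 ?_)
  rw [← hperf, Subgroup.commutator_eq_bot_iff_le_centralizer]
  intro u hu
  refine Subgroup.mem_centralizer_iff.2 fun v hv => ?_
  have hvB : v ∈ B := (hA (hKA hv)).2
  have hvg : v ∈ lay B ⊔ fit B := by
    rw [← gfit_eq]
    exact ⟨⟨v, hvB⟩, Solv.centralizer_gfit_le (Subgroup.mem_centralizer_iff.2 fun y hy =>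
      Subtype.ext (Subgroup.mem_centralizer_iff.1 (hcg hv) y
        (gfit_eq B ▸ Subgroup.mem_map_of_mem B.subtype hy))), rfl⟩
  exact Subgroup.mem_centralizer_iff.1 (hcg hu) v hvg

/-- Cores for different primes commute. -/
theorem cores_commute {A B : Subgroup G} {q r : ℕ} [Fact q.Prime] [Fact r.Prime] (hqr : q ≠ r)
    (hA : core q A ≤ B) (hB : core r B ≤ A) {x y : G} (hx : x ∈ core q A) (hy : y ∈ core r B) :
    x * y = y * x := by
  obtain ⟨i, hi⟩ := IsPGroup.iff_card.1 (core_isPGroup q A)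
  obtain ⟨j, hj⟩ := IsPGroup.iff_card.1 (core_isPGroup r B)
  have hint : core q A ⊓ core r B = ⊥ := Subgroup.inf_eq_bot_of_coprime (by
    rw [hi, hj]; exact (((Nat.coprime_primes Fact.out Fact.out).2 hqr).pow i j))
  refine commutatorElement_eq_one_iff_mul_comm.1 (Subgroup.mem_bot.1 (hint.le ⟨?_, ?_⟩))
  · rw [commutatorElement_def, show x * y * x⁻¹ * y⁻¹ = x * (y * x⁻¹ * y⁻¹) by group]
    exact mul_mem hx ((Subgroup.mem_normalizer_iff.1 (norm_core q A (hB hy)) _).1 (inv_mem hx))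
  · rw [commutatorElement_def]
    exact mul_mem ((Subgroup.mem_normalizer_iff.1 (norm_core r B (hA hx)) _).1 hy) ((core r B).inv_mem hy)

/-- The key step: elements of order prime to `p` centralizing one core centralize the other. -/
theorem transfer {p : ℕ} [hp : Fact p.Prime] {A B : Subgroup G} (hEA : lay A = ⊥)
    (hfA : fit A ≤ B) (hfB : fit B ≤ A) {x : G} (hx : x ∈ A) (hxp : (orderOf x).Coprime p)
    (hxc : ∀ a ∈ core p A, x * a = a * x) : ∀ u ∈ core p B, x * u = u * x := by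
  intro u hu
  have huA : u ∈ A := hfB (core_le_fit p B hu)
  obtain ⟨z, hz⟩ : ∃ z, z = ⁅x, u⁆ := ⟨_, rfl⟩
  obtain ⟨P, hP⟩ : ∃ P, P = core p A := ⟨_, rfl⟩
  have hzA : z ∈ A := hz ▸ mul_mem (mul_mem (mul_mem hx huA) (inv_mem hx)) (inv_mem huA)
  have hconj : ∀ {r : ℕ} {g a : G}, g ∈ A → a ∈ core r A → g⁻¹ * a * g ∈ core r A := fun hg ha => by
    simpa using (Subgroup.mem_normalizer_iff.1 (norm_core _ A (inv_mem hg)) _).1 ha
  have huother : ∀ r : ℕ, r.Prime → r ≠ p → ∀ a ∈ core r A, a * u = u * a := by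
    intro r hr hne a ha
    haveI := Fact.mk hr
    exact cores_commute hne ((core_le_fit r A).trans hfA) ((core_le_fit p B).trans hfB) ha hu
  -- `z` centralizes the Fitting subgroup
  have hzc : ∀ y ∈ fit A, z * y = y * z := by
    have hle : fit A ≤ Subgroup.centralizer ({z} : Set G) := fit_le_of_cores fun r hr a ha => by
      rw [Subgroup.mem_centralizer_singleton_iff]
      rcases eq_or_ne r p with rfl | hne
      · have h1 : ∀ b ∈ core r A, x⁻¹ * b = b * x⁻¹ := fun b hb => (Commute.inv_left (hxc b hb) : Commute x⁻¹ b)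
        calc a * z = a * x * (u * x⁻¹ * u⁻¹) := by rw [hz, commutatorElement_def]; group
          _ = x * u * ((u⁻¹ * a * u) * x⁻¹) * u⁻¹ := by rw [← hxc a ha]; group
          _ = x * u * (x⁻¹ * (u⁻¹ * a * u)) * u⁻¹ := by rw [h1 _ (hconj huA ha)]
          _ = z * a := by rw [hz, commutatorElement_def]; group
      · have h1 := huother r hr hne _ (hconj hx ha)
        have h2 : Commute a u⁻¹ := Commute.inv_right (huother r hr hne a ha)
        calc a * z = x * ((x⁻¹ * a * x) * u) * x⁻¹ * u⁻¹ := by rw [hz, commutatorElement_def]; group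
          _ = x * (u * (x⁻¹ * a * x)) * x⁻¹ * u⁻¹ := by rw [h1]
          _ = x * u * x⁻¹ * (a * u⁻¹) := by group
          _ = x * u * x⁻¹ * (u⁻¹ * a) := by rw [h2.eq]
          _ = z * a := by rw [hz, commutatorElement_def]; group
    exact fun y hy => (Subgroup.mem_centralizer_singleton_iff.1 (hle hy)).symm
  have hzfit : z ∈ fit A := fit_centralizer hEA hzA hzc
  -- split off the `p`-part
  obtain ⟨B', hB'⟩ : ∃ B', B' = fit A ⊓ Subgroup.centralizer ({u} : Set G) := ⟨_, rfl⟩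
  have hsplit : fit A ≤ P ⊔ B' := fit_le_of_cores fun r hr => by
    rcases eq_or_ne r p with rfl | hne
    · exact hP ▸ le_sup_left
    · haveI := Fact.mk hr
      exact le_sup_of_le_right fun a ha => hB' ▸ ⟨core_le_fit r A ha,
        Subgroup.mem_centralizer_singleton_iff.2 (huother r hr hne a ha)⟩
  have hB'P : B' ≤ Subgroup.normalizer (P : Set G) :=
    hB' ▸ hP ▸ inf_le_left.trans ((Subgroup.map_subtype_le _).trans (norm_core p A))
  have h2 := hsplit hzfit
  rw [← SetLike.mem_coe, Subgroup.coe_mul_of_right_le_normalizer_left P B' hB'P] at h2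
  obtain ⟨a, ha, b, hb, hab⟩ := h2
  rw [hB'] at hb
  rw [hP] at ha
  have hab' : z = a * b := hab.symm
  have hza : z * a = a * z := hzc a (core_le_fit p A ha)
  have hba : Commute b a := by
    show b * a = a * b
    rw [eq_inv_mul_iff_mul_eq.2 hab'.symm, mul_assoc, hza, inv_mul_cancel_left, mul_inv_cancel_left]
  have hbu : Commute b u := Subgroup.mem_centralizer_singleton_iff.1 hb.2
  have hup : ∃ k, u ^ p ^ k = 1 := by
    obtain ⟨k, hk⟩ := core_isPGroup p B ⟨u, hu⟩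
    exact ⟨k, congrArg Subtype.val hk⟩
  have hzu : z * u = x * u * x⁻¹ := by rw [hz, commutatorElement_def]; group
  obtain ⟨k, hk⟩ := hup
  -- `a * u` is a `p`-element
  have hau : ∃ m, (a * u) ^ p ^ m = 1 := by
    have hsup : IsPGroup p (core p A ⊔ Subgroup.zpowers u : Subgroup G) := by
      refine (core_isPGroup p A).to_sup_of_normal_left' ?_ ((Subgroup.zpowers_le).2 (norm_core p A huA))
      rintro ⟨_, j, rfl⟩
      refine ⟨k, Subtype.ext ?_⟩
      show (u ^ j) ^ p ^ k = 1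
      rw [← zpow_natCast, ← zpow_mul, mul_comm, zpow_mul, zpow_natCast, hk, one_zpow]
    obtain ⟨m, hm⟩ := hsup ⟨a * u, mul_mem (Subgroup.mem_sup_left ha) (Subgroup.mem_sup_right (Subgroup.mem_zpowers u))⟩
    exact ⟨m, congrArg Subtype.val hm⟩
  obtain ⟨m, hm⟩ := hau
  have hbp : b ^ p ^ (k + m) = 1 := by
    have e : z * u = b * (a * u) := by rw [hab', ← mul_assoc, hba.eq]
    have e1 : (z * u) ^ p ^ (k + m) = 1 := by
      rw [hzu, conj_pow, pow_add, pow_mul, hk, one_pow, mul_one, mul_inv_cancel]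
    rw [e, (hba.mul_right hbu).mul_pow, show (a * u) ^ p ^ (k + m) = 1 by
      rw [add_comm, pow_add, pow_mul, hm, one_pow], mul_one] at e1
    exact e1
  have hzP : z ∈ core p A := hab' ▸ mul_mem ha (mem_core_of_fit hb.1 ⟨_, hbp⟩)
  have hstep : ∀ n : ℕ, x ^ n * u * (x ^ n)⁻¹ = z ^ n * u := by
    intro n
    induction n with
    | zero => simp
    | succ n ih =>
      have hxz : Commute x (z ^ n) := Commute.pow_right (hxc z hzP) n
      calc x ^ (n + 1) * u * (x ^ (n + 1))⁻¹ = x * (x ^ n * u * (x ^ n)⁻¹) * x⁻¹ := by rw [pow_succ']; group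
        _ = (x * z ^ n) * (u * x⁻¹) := by rw [ih]; group
        _ = z ^ n * (x * u * x⁻¹) := by rw [hxz.eq]; group
        _ = _ := by rw [← hzu, pow_succ]; group
  have hzord : z ^ orderOf x = 1 := by
    have := hstep (orderOf x)
    rwa [pow_orderOf_eq_one, one_mul, inv_one, mul_one, right_eq_mul] at this
  obtain ⟨i, hi⟩ := core_isPGroup p A ⟨z, hzP⟩
  have hz1 : z = 1 := orderOf_eq_one_iff.1 (Nat.eq_one_of_dvd_coprimes (hxp.pow_right i)
    (orderOf_dvd_of_pow_eq_one hzord) (orderOf_dvd_of_pow_eq_one (congrArg Subtype.val hi)))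
  rw [hz] at hz1
  exact commutatorElement_eq_one_iff_mul_comm.1 hz1

/-- Bender's Theorem on primitive pairs. Two distinct subgroups M₁, M₂ of G form a primitive pair when, for {i, j} = {1, 2}, every non-trivial normal subgroup A of M_i contained in M₁ ∩ M₂ satisfies N_{M_j}(A) = M₁ ∩ M₂; the pair has characteristic p when moreover C_{M_i}(O_p(M_i)) ≤ O_p(M_i) for both i and O_p(M₁)O_p(M₂) ≤ M₁ ∩ M₂. If (M₁, M₂) is a primitive pair of the finite group G with F*(M₁) ≤ M₂ and F*(M₂) ≤ M₁, then for some prime p the pair has characteristic p. -/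
theorem result {G : Type*} [Group G] [Finite G] (M₁ M₂ : Subgroup G) (hne : M₁ ≠ M₂) (hP : ∀ A : Subgroup G, A ≠ ⊥ → A ≤ M₁ ⊓ M₂ → (M₁ ≤ Subgroup.normalizer (A : Set G) → M₂ ⊓ Subgroup.normalizer (A : Set G) = M₁ ⊓ M₂) ∧ (M₂ ≤ Subgroup.normalizer (A : Set G) → M₁ ⊓ Subgroup.normalizer (A : Set G) = M₁ ⊓ M₂)) (h₁ : (Cfsg.generalizedFittingSubgroup ↥M₁).map M₁.subtype ≤ M₂) (h₂ : (Cfsg.generalizedFittingSubgroup ↥M₂).map M₂.subtype ≤ M₁) : ∃ p : ℕ, p.Prime ∧ Subgroup.centralizer (Cfsg.pCore p ↥M₁ : Set ↥M₁) ≤ Cfsg.pCore p ↥M₁ ∧ Subgroup.centralizer (Cfsg.pCore p ↥M₂ : Set ↥M₂) ≤ Cfsg.pCore p ↥M₂ ∧ (Cfsg.pCore p ↥M₁).map M₁.subtype ⊔ (Cfsg.pCore p ↥M₂).map M₂.subtype ≤ M₁ ⊓ M₂ := by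
  classical
  rw [gfit_eq, sup_le_iff] at h₁ h₂
  have hlay₁ : lay M₁ ≤ M₁ ⊓ M₂ := le_inf (Subgroup.map_subtype_le _) h₁.1
  have hlay₂ : lay M₂ ≤ M₁ ⊓ M₂ := le_inf h₂.1 (Subgroup.map_subtype_le _)
  have hfit₁ : fit M₁ ≤ M₁ ⊓ M₂ := le_inf (Subgroup.map_subtype_le _) h₁.2
  have hfit₂ : fit M₂ ≤ M₁ ⊓ M₂ := le_inf h₂.2 (Subgroup.map_subtype_le _)
  have hsame : ∀ A : Subgroup G, A ≤ M₁ ⊓ M₂ → M₁ ≤ Subgroup.normalizer (A : Set G) →
      M₂ ≤ Subgroup.normalizer (A : Set G) → A = ⊥ := by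
    intro A hA hn1 hn2
    by_contra hne0
    obtain ⟨e1, e2⟩ := hP A hne0 hA
    have f1 := e1 hn1
    have f2 := e2 hn2
    rw [inf_eq_left.2 hn2] at f1
    rw [inf_eq_left.2 hn1] at f2
    exact hne (f2.trans f1.symm)
  have hE : lay M₁ = lay M₂ := le_antisymm (lay_le M₁ M₂ hlay₁ hlay₂ hfit₂)
    (lay_le M₂ M₁ (inf_comm M₁ M₂ ▸ hlay₂) (inf_comm M₁ M₂ ▸ hlay₁) (inf_comm M₁ M₂ ▸ hfit₁))
  have hE1 : lay M₁ = ⊥ := hsame _ hlay₁ (norm_lay M₁) (hE ▸ norm_lay M₂)
  have hE2 : lay M₂ = ⊥ := hE ▸ hE1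
  -- a prime occurring in the first Fitting subgroup occurs in the second
  have hiff : ∀ A B : Subgroup G, lay B = ⊥ → fit A ≤ B → fit B ≤ A → ∀ r : ℕ, r.Prime →
      core r A ≠ ⊥ → core r B ≠ ⊥ := by
    intro A B hEB hfA hfB r hr hne0 hb
    haveI := Fact.mk hr
    refine hne0 (le_bot_iff.1 fun a ha => ?_)
    have haf : a ∈ fit B := fit_centralizer hEB (hfA (core_le_fit r A ha)) (by
      have hle : fit B ≤ Subgroup.centralizer ({a} : Set G) := fit_le_of_cores fun q hq y hy => by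
        rw [Subgroup.mem_centralizer_singleton_iff]
        haveI := Fact.mk hq
        rcases eq_or_ne r q with rfl | hrq
        · rw [hb, Subgroup.mem_bot] at hy
          rw [hy, one_mul, mul_one]
        · exact (cores_commute hrq ((core_le_fit r A).trans hfA) ((core_le_fit q B).trans hfB) ha hy).symm
      exact fun y hy => (Subgroup.mem_centralizer_singleton_iff.1 (hle hy)).symm)
    obtain ⟨k, hk⟩ := core_isPGroup r A ⟨a, ha⟩
    exact hb.le (mem_core_of_fit haf ⟨k, congrArg Subtype.val hk⟩)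
  have hbot : ∀ M : Subgroup G, lay M = ⊥ → fit M = ⊥ → M = ⊥ := fun M hEM h0 => by
    refine le_bot_iff.1 fun x hx => ?_
    rw [← h0]
    exact fit_centralizer hEM hx fun y hy => by
      rw [h0, Subgroup.mem_bot] at hy
      rw [hy, mul_one, one_mul]
  obtain ⟨p, hp, hp1⟩ : ∃ p : ℕ, p.Prime ∧ core p M₁ ≠ ⊥ := by
    by_contra hc
    push Not at hc
    have hf1 : fit M₁ = ⊥ := le_bot_iff.1 (fit_le_of_cores fun r hr => (hc r hr).le)
    have hM1 := hbot M₁ hE1 hf1
    have hf2 : fit M₂ = ⊥ := le_bot_iff.1 (hM1 ▸ h₂.2)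
    exact hne (hM1.trans (hbot M₂ hE2 hf2).symm)
  haveI := Fact.mk hp
  have hp2 : core p M₂ ≠ ⊥ := hiff M₁ M₂ hE2 h₁.2 h₂.2 p hp hp1
  have hcoreM : ∀ r : ℕ, [Fact r.Prime] → core r M₁ ≤ M₁ ⊓ M₂ ∧ core r M₂ ≤ M₁ ⊓ M₂ := fun r _ =>
    ⟨(core_le_fit r M₁).trans hfit₁, (core_le_fit r M₂).trans hfit₂⟩
  obtain ⟨K, hK⟩ : ∃ K : Subgroup G, K = Subgroup.closure
      {x : G | x ∈ M₁ ∧ (orderOf x).Coprime p ∧ ∀ a ∈ core p M₁, x * a = a * x} := ⟨_, rfl⟩
  have hset : ∀ x : G, (x ∈ M₁ ∧ (orderOf x).Coprime p ∧ ∀ a ∈ core p M₁, x * a = a * x) ↔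
      (x ∈ M₂ ∧ (orderOf x).Coprime p ∧ ∀ a ∈ core p M₂, x * a = a * x) := by
    intro x
    constructor
    · rintro ⟨hx, hxp, hxc⟩
      have hc := transfer hE1 h₁.2 h₂.2 hx hxp hxc
      have hmem : x ∈ M₁ ⊓ Subgroup.normalizer (core p M₂ : Set G) := ⟨hx,
        Subgroup.centralizer_le_normalizer _ (Subgroup.mem_centralizer_iff.2 fun a ha => (hc a ha).symm)⟩
      rw [(hP _ hp2 (hcoreM p).2).2 (norm_core p M₂)] at hmem
      exact ⟨hmem.2, hxp, hc⟩
    · rintro ⟨hx, hxp, hxc⟩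
      have hc := transfer hE2 h₂.2 h₁.2 hx hxp hxc
      have hmem : x ∈ M₂ ⊓ Subgroup.normalizer (core p M₁ : Set G) := ⟨hx,
        Subgroup.centralizer_le_normalizer _ (Subgroup.mem_centralizer_iff.2 fun a ha => (hc a ha).symm)⟩
      rw [(hP _ hp1 (hcoreM p).1).1 (norm_core p M₁)] at hmem
      exact ⟨hmem.1, hxp, hc⟩
  have hnorm : ∀ M : Subgroup G, M ≤ Subgroup.normalizer ((Subgroup.closure
      {x : G | x ∈ M ∧ (orderOf x).Coprime p ∧ ∀ a ∈ core p M, x * a = a * x} : Subgroup G) : Set G) := by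
    intro M g hg
    refine Fusion.mem_normalizer_of_cj_le ?_
    show Subgroup.map (MulAut.conj g).toMonoidHom _ ≤ _
    rw [MonoidHom.map_closure]
    refine Subgroup.closure_mono ?_
    rintro _ ⟨x, ⟨hxM, hxp, hxc⟩, rfl⟩
    refine ⟨mul_mem (mul_mem hg hxM) (inv_mem hg), by
      rw [show orderOf ((MulAut.conj g).toMonoidHom x) = orderOf x from (MulAut.conj g).orderOf_eq x]; exact hxp,
      fun a ha => ?_⟩
    have h1 := hxc _ (by simpa using (Subgroup.mem_normalizer_iff.1 (norm_core p M (inv_mem hg)) a).1 ha :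
      g⁻¹ * a * g ∈ core p M)
    show g * x * g⁻¹ * a = a * (g * x * g⁻¹)
    calc g * x * g⁻¹ * a = g * (x * (g⁻¹ * a * g)) * g⁻¹ := by group
      _ = g * ((g⁻¹ * a * g) * x) * g⁻¹ := by rw [h1]
      _ = _ := by group
  have hK2 : K = Subgroup.closure {x : G | x ∈ M₂ ∧ (orderOf x).Coprime p ∧ ∀ a ∈ core p M₂, x * a = a * x} := by
    rw [hK]; congr 1; ext x; exact hset x
  have hK0 : K = ⊥ := hsame K (hK ▸ (Subgroup.closure_le _).2 fun x hx => ⟨hx.1, ((hset x).1 hx).1⟩)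
    (hK ▸ hnorm M₁) (hK2 ▸ hnorm M₂)
  -- only one prime occurs
  have honly1 : ∀ r : ℕ, r.Prime → r ≠ p → core r M₁ = ⊥ := by
    intro r hr hrp
    haveI := Fact.mk hr
    refine le_bot_iff.1 (le_trans ?_ hK0.le)
    intro a ha
    rw [hK]
    refine Subgroup.subset_closure ⟨Subgroup.map_subtype_le _ ha, ?_, fun b hb => ?_⟩
    · obtain ⟨i, hi⟩ := core_isPGroup r M₁ ⟨a, ha⟩
      exact (((Nat.coprime_primes hr hp).2 hrp).pow_left i).coprime_dvd_left
        (orderOf_dvd_of_pow_eq_one (congrArg Subtype.val hi))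
    · exact cores_commute hrp (Subgroup.map_subtype_le _) (Subgroup.map_subtype_le _) ha hb
  have honly2 : ∀ r : ℕ, r.Prime → r ≠ p → core r M₂ = ⊥ := fun r hr hrp =>
    by_contra fun h => hiff M₂ M₁ hE1 h₂.2 h₁.2 r hr h (honly1 r hr hrp)
  have hchar : ∀ M : Subgroup G, lay M = ⊥ → (∀ r : ℕ, r.Prime → r ≠ p → core r M = ⊥) →
      Subgroup.centralizer (Cfsg.pCore p ↥M : Set ↥M) ≤ Cfsg.pCore p ↥M := by
    intro M hEM honly x hx
    have hle : fit M ≤ core p M := fit_le_of_cores fun r hr => by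
      rcases eq_or_ne r p with rfl | hne0
      · exact le_rfl
      · rw [honly r hr hne0]; exact bot_le
    obtain ⟨y, hy, hyx⟩ := hle (fit_centralizer hEM x.2 fun z hz => by
      obtain ⟨w, hw, rfl⟩ := hle hz
      exact (congrArg Subtype.val (Subgroup.mem_centralizer_iff.1 hx w hw)).symm)
    rwa [← M.subtype_injective hyx]
  exact ⟨p, hp, hchar M₁ hE1 honly1, hchar M₂ hE2 honly2, sup_le (hcoreM p).1 (hcoreM p).2⟩

end Cfsg.Agent.S3752
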