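import Cfsg.Statements.S3754
import Cfsg.Agent.Lib.Solv.HallHigman
import Cfsg.Agent.Lib.Solv.Generation
import Cfsg.Agent.Lib.Fusion.Cores
import Cfsg.Agent.S3736

open Cfsg.Agent
open scoped commutatorElement Pointwise

set_option autoImplicit false
open Cfsg

namespace Cfsg.Agent.S3754

/-- Let M be a finite p-soluble group and A a p-subgroup of M with Φ(A) ≤ O_p(M) but A ≰ O_p(M). Then there is x ∈ O_{p,p'}(M) such that L = ⟨A, xAx⁻¹⟩ satisfies: x ∈ O^p(L) and O^p(L) ≤ O_{p,p'}(M); [O^p(L), A] = O^p(L); A ∩ O_p(L) has index p in A; and [A ∩ O_p(L), L] ≤ O_p(M). Here O^p(L) is the subgroup generated by the p'-elements of L and O_{p,p'}(M) the preimage of O_{p'}(M/O_p(M)). -/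
theorem result {M : Type*} [Group M] [Finite M] {p : ℕ} [Fact p.Prime] (hM : Cfsg.IsPSolvable p M) (A : Subgroup M) (hA : IsPGroup p A) (hΦ : (frattini ↥A).map A.subtype ≤ Cfsg.pCore p M) (hnot : ¬ A ≤ Cfsg.pCore p M) : ∃ x ∈ (Cfsg.pPrimeCore p (M ⧸ Cfsg.pCore p M)).comap (QuotientGroup.mk' (Cfsg.pCore p M)), x ∈ (Cfsg.pResidual p ↥(A ⊔ A.map (MulAut.conj x).toMonoidHom)).map (A ⊔ A.map (MulAut.conj x).toMonoidHom).subtype ∧ (Cfsg.pResidual p ↥(A ⊔ A.map (MulAut.conj x).toMonoidHom)).map (A ⊔ A.map (MulAut.conj x).toMonoidHom).subtype ≤ (Cfsg.pPrimeCore p (M ⧸ Cfsg.pCore p M)).comap (QuotientGroup.mk' (Cfsg.pCore p M)) ∧ ⁅(Cfsg.pResidual p ↥(A ⊔ A.map (MulAut.conj x).toMonoidHom)).map (A ⊔ A.map (MulAut.conj x).toMonoidHom).subtype, A⁆ = (Cfsg.pResidual p ↥(A ⊔ A.map (MulAut.conj x).toMonoidHom)).map (A ⊔ A.map (MulAut.conj x).toMonoidHom).subtype ∧ (A ⊓ (Cfsg.pCore p ↥(A ⊔ A.map (MulAut.conj x).toMonoidHom)).map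 (A ⊔ A.map (MulAut.conj x).toMonoidHom).subtype).relIndex A = p ∧ ⁅A ⊓ (Cfsg.pCore p ↥(A ⊔ A.map (MulAut.conj x).toMonoidHom)).map (A ⊔ A.map (MulAut.conj x).toMonoidHom).subtype, A ⊔ A.map (MulAut.conj x).toMonoidHom⁆ ≤ Cfsg.pCore p M := by
  classical
  have hp : p.Prime := Fact.out
  haveI := Cfsg.pCore_normal p M
  obtain ⟨π, hπ⟩ : ∃ π, π = QuotientGroup.mk' (Cfsg.pCore p M) := ⟨_, rfl⟩
  have hπs : Function.Surjective π := hπ ▸ QuotientGroup.mk'_surjective _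
  have hπ1 : ∀ g, π g = 1 ↔ g ∈ Cfsg.pCore p M := fun g => by
    rw [hπ, QuotientGroup.mk'_apply, QuotientGroup.eq_one_iff]
  rw [← hπ]
  obtain ⟨R, hR⟩ : ∃ R, R = Cfsg.pPrimeCore p (M ⧸ Cfsg.pCore p M) := ⟨_, rfl⟩
  rw [← hR]
  haveI hRn : R.Normal := hR ▸ Solv.pPrimeCore_normal p
  have hRco : (Nat.card R).Coprime p := hR ▸ Solv.pPrimeCore_coprime p
  obtain ⟨Ā, hĀ⟩ : ∃ Ā, Ā = A.map π := ⟨_, rfl⟩
  have hĀp : IsPGroup p Ā := hĀ ▸ hA.map π
  have hĀexp : ∀ a ∈ Ā, a ^ p = 1 := by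
    rw [hĀ]
    rintro _ ⟨a, ha, rfl⟩
    rw [← map_pow, hπ1]
    exact hΦ ⟨⟨a, ha⟩ ^ p, Solv.pow_mem_frattini hA _, rfl⟩
  have hĀab : IsMulCommutative Ā := by
    refine ⟨⟨fun u v => Subtype.ext ?_⟩⟩
    obtain ⟨a, ha, hau⟩ := (hĀ ▸ u.2 : (u : M ⧸ Cfsg.pCore p M) ∈ A.map π)
    obtain ⟨b, hb, hbv⟩ := (hĀ ▸ v.2 : (v : M ⧸ Cfsg.pCore p M) ∈ A.map π)
    show (u : M ⧸ Cfsg.pCore p M) * v = v * u
    rw [← hau, ← hbv, ← commutatorElement_eq_one_iff_mul_comm, ← map_commutatorElement, hπ1]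
    exact hΦ ⟨_, Solv.commutatorElement_mem_frattini hA ⟨a, ha⟩ ⟨b, hb⟩, by simp [commutatorElement_def]⟩
  have hĀR : Ā ≤ Subgroup.normalizer (R : Set (M ⧸ Cfsg.pCore p M)) := by
    rw [Subgroup.normalizer_eq_top]; exact le_top
  obtain ⟨k, hk⟩ := hĀp.exists_card_eq
  have hco : (Nat.card Ā).Coprime (Nat.card R) := hk ▸ (hRco.pow_right k).symm
  -- a centralizer of a subgroup with cyclic quotient which is moved
  obtain ⟨B, hB, hBmove⟩ : ∃ B ∈ Solv.CycQuot Ā,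
      ¬ R ⊓ Subgroup.centralizer (B : Set (M ⧸ Cfsg.pCore p M)) ≤ Subgroup.centralizer (Ā : Set _) := by
    by_contra hcon
    push Not at hcon
    refine hnot fun a ha => (hπ1 a).1 ?_
    have hle : R ≤ Subgroup.centralizer (Ā : Set (M ⧸ Cfsg.pCore p M)) := by
      conv_lhs => rw [← Solv.gen_eq Ā R hĀab hĀR hco]
      exact iSup₂_le hcon
    have haR : π a ∈ R := by
      rw [hR]
      refine Solv.centralizer_pPrimeCore_le (Solv.isPSolvable_map hp hM π hπs)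
        Fusion.pCore_quotient_eq_bot (Subgroup.mem_centralizer_iff.2 fun r hr => ?_)
      exact (Subgroup.mem_centralizer_iff.1 (hle (hR ▸ hr)) (π a) (hĀ ▸ Subgroup.mem_map_of_mem π ha)).symm
    have hap : π a ^ p = 1 := hĀexp _ (hĀ ▸ Subgroup.mem_map_of_mem π ha)
    exact orderOf_eq_one_iff.1 (Nat.eq_one_of_dvd_coprimes hRco (Subgroup.orderOf_dvd_natCard R haR)
      (orderOf_dvd_of_pow_eq_one hap))
  obtain ⟨hBA, a₀, ha₀, hBa⟩ := hB
  obtain ⟨C, hC⟩ : ∃ C, C = R ⊓ Subgroup.centralizer (B : Set (M ⧸ Cfsg.pCore p M)) := ⟨_, rfl⟩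
  rw [← hC] at hBmove
  have hcĀ : ∀ u ∈ Ā, ∀ v ∈ Ā, u * v = v * u := fun u hu v hv =>
    congrArg Subtype.val (hĀab.is_comm.comm ⟨u, hu⟩ ⟨v, hv⟩)
  have hĀC : Ā ≤ Subgroup.normalizer (C : Set (M ⧸ Cfsg.pCore p M)) := fun a ha => by
    refine Solv.mem_normalizer_of_conj_smul ?_
    rw [hC, Subgroup.smul_inf, Solv.conj_smul_of_mem_normalizer (hĀR ha),
      Subgroup.conj_smul_eq_self_of_mem (Subgroup.mem_centralizer_iff.2 fun b hb => hcĀ b (hBA hb) a ha)]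
  have hcoC : (Nat.card Ā).Coprime (Nat.card C) :=
    hco.coprime_dvd_right (Subgroup.card_dvd_of_le (hC ▸ inf_le_left))
  have hsol : Group.IsSolvable Ā ∨ Group.IsSolvable C :=
    Or.inl (Group.isSolvable_of_comm fun s t => hĀab.is_comm.comm s t)
  obtain ⟨q, hq, P, hP, hPA, hPmove⟩ : ∃ (q : ℕ) (_ : Fact q.Prime) (P : Subgroup (M ⧸ Cfsg.pCore p M)),
      Solv.IsSylIn q P C ∧ Ā ≤ Subgroup.normalizer (P : Set (M ⧸ Cfsg.pCore p M)) ∧ ⁅P, Ā⁆ ≠ ⊥ := by
    by_contra hcon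
    push Not at hcon
    refine hBmove (Subgroup.subgroupOf_eq_top.1 (Solv.eq_top_of_forall_sylow_le _ fun q hq => ?_))
    obtain ⟨P, hP, hPA⟩ := Solv.exists_invariant_sylow hĀC hcoC hsol q
    have h1 := Subgroup.commutator_eq_bot_iff_le_centralizer.1 (hcon q hq P hP hPA)
    obtain ⟨S, hS⟩ := hP.exists_sylow
    refine ⟨S, fun s hs => ?_⟩
    rw [Subgroup.mem_subgroupOf]
    exact h1 (hS ▸ Subgroup.mem_map_of_mem _ hs)
  obtain ⟨U, ⟨hUP, hUA, hUne⟩, hUmin⟩ := exists_minimal_of_wellFoundedLT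
    (fun U : Subgroup (M ⧸ Cfsg.pCore p M) => U ≤ P ∧ Ā ≤ Subgroup.normalizer (U : Set (M ⧸ Cfsg.pCore p M)) ∧
      ⁅U, Ā⁆ ≠ ⊥) ⟨P, le_rfl, hPA, hPmove⟩
  have hUC : U ≤ C := hUP.trans hP.1
  have hUR : U ≤ R := hUC.trans (hC ▸ inf_le_left)
  have hUq : IsPGroup q U := hP.isPGroup.to_le hUP
  have hqp : q ≠ p := by
    rintro rfl
    obtain ⟨i, hi⟩ := hUq.exists_card_eq
    have h1 : (Nat.card U).Coprime q := hRco.coprime_dvd_left (Subgroup.card_dvd_of_le hUR)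
    rw [hi] at h1
    rcases Nat.eq_zero_or_pos i with rfl | hi0
    · rw [pow_zero, Subgroup.card_eq_one] at hi
      exact hUne (by rw [hi, Subgroup.commutator_bot_left])
    · rw [Nat.coprime_pow_left_iff hi0, Nat.coprime_self] at h1
      exact hp.ne_one h1
  obtain ⟨hUcomm, -, hUirr, -⟩ := S3736.result (p := q) Ā Ā U hUq hUA le_rfl Subgroup.le_normalizer
    (by rw [hk]; exact ((Nat.coprime_primes hp (Fact.out : q.Prime)).2 hqp.symm).pow_left k) hUne
    (fun W hW hWA => by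
      by_contra hne
      exact hW.not_ge (hUmin ⟨hW.le.trans hUP, hWA, hne⟩ hW.le))
  obtain ⟨Φ, hΦU⟩ : ∃ Φ, Φ = (frattini ↥U).map U.subtype := ⟨_, rfl⟩
  rw [← hΦU] at hUirr
  obtain ⟨xb, hxbU, a₁, ha₁, hxa⟩ : ∃ xb ∈ U, ∃ a ∈ Ā, ⁅xb, a⁆ ∉ Φ := by
    by_contra hcon
    push Not at hcon
    have hle : U ≤ Φ := by
      conv_lhs => rw [← hUcomm]
      exact Subgroup.commutator_le.2 hcon
    haveI : Nontrivial U := (Subgroup.nontrivial_iff_ne_bot U).2 fun h =>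
      hUne (by rw [h, Subgroup.commutator_bot_left])
    have h1 : frattini U = ⊤ := eq_top_iff.2 fun u _ => by
      obtain ⟨v, hv, hvu⟩ := (hΦU ▸ hle u.2 : (u : M ⧸ Cfsg.pCore p M) ∈ (frattini ↥U).map U.subtype)
      rwa [← Subtype.ext hvu]
    obtain ⟨W, hW, -⟩ := (eq_top_or_exists_le_coatom (⊥ : Subgroup U)).resolve_left bot_ne_top
    exact hW.1 (top_le_iff.1 (h1 ▸ frattini_le_coatom hW))
  have hmapconj : ∀ x : M, (A.map (MulAut.conj x).toMonoidHom).map π = Ā.map (MulAut.conj (π x)).toMonoidHom := by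
    intro x
    rw [hĀ, Subgroup.map_map, Subgroup.map_map]
    congr 1
    exact MonoidHom.ext fun a => by simp
  -- the images of the two conjugates generate a subgroup containing `U`
  have hgen : U ≤ Ā ⊔ Ā.map (MulAut.conj xb).toMonoidHom := by
    obtain ⟨D, hD⟩ : ∃ D, D = Ā ⊔ Ā.map (MulAut.conj xb).toMonoidHom := ⟨_, rfl⟩
    rw [← hD]
    have hcm : ⁅xb, a₁⁆ ∈ U ⊓ D := by
      refine ⟨?_, ?_⟩
      · rw [← hUcomm]
        exact Subgroup.commutator_mem_commutator hxbU ha₁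
      · rw [hD, commutatorElement_def]
        exact mul_mem (Subgroup.mem_sup_right ⟨a₁, ha₁, by simp⟩)
          (Subgroup.mem_sup_left (inv_mem ha₁))
    have hΦA : Ā ≤ Subgroup.normalizer (Φ : Set (M ⧸ Cfsg.pCore p M)) := fun a ha => by
      refine Subgroup.mem_normalizer_fintype fun z hz => ?_
      rw [hΦU] at hz ⊢
      obtain ⟨u, hu, rfl⟩ := hz
      refine ⟨Subgroup.normalizerMonoidHom U ⟨a, hUA ha⟩ u, ?_, rfl⟩
      rw [← Subgroup.characteristic_iff_map_eq.1 (inferInstance : (frattini ↥U).Characteristic)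
        (Subgroup.normalizerMonoidHom U ⟨a, hUA ha⟩)]
      exact ⟨u, hu, rfl⟩
    have hWA : Ā ≤ Subgroup.normalizer (((U ⊓ D) ⊔ Φ : Subgroup (M ⧸ Cfsg.pCore p M)) : Set (M ⧸ Cfsg.pCore p M)) :=
      fun a ha => by
        refine Solv.mem_normalizer_of_conj_smul ?_
        rw [Subgroup.smul_sup, Subgroup.smul_inf, Solv.conj_smul_of_mem_normalizer (hUA ha),
          Solv.conj_smul_of_mem_normalizer (hΦA ha),
          Subgroup.conj_smul_eq_self_of_mem (hD ▸ Subgroup.mem_sup_left ha : a ∈ D)]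
    rcases hUirr _ le_sup_right (sup_le inf_le_left (hΦU ▸ Subgroup.map_subtype_le _)) hWA with h | h
    · exact absurd (h ▸ Subgroup.mem_sup_left hcm) hxa
    · have h1 : (U ⊓ D).subgroupOf U = ⊤ := by
        refine frattini_nongenerating ?_
        apply Subgroup.map_injective U.subtype_injective
        rw [Subgroup.map_sup, Subgroup.subgroupOf_map_subtype, inf_eq_left.2 inf_le_left, ← hΦU,
          ← MonoidHom.range_eq_map, Subgroup.range_subtype, h]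
      exact fun u hu => ((Subgroup.mem_subgroupOf.1
        (h1 ▸ Subgroup.mem_top (⟨u, hu⟩ : U)) : u ∈ U ⊓ D)).2
  -- choose the lift with the smallest subgroup
  obtain ⟨L, hL⟩ : ∃ L : M → Subgroup M, ∀ x, L x = A ⊔ A.map (MulAut.conj x).toMonoidHom := ⟨_, fun _ => rfl⟩
  obtain ⟨Kr, hKr⟩ : ∃ Kr : M → Subgroup M,
      ∀ x, Kr x = (Cfsg.pResidual p ↥(L x)).map (L x).subtype := ⟨_, fun _ => rfl⟩
  obtain ⟨x₀, hx₀U, hx₀min⟩ := Set.exists_min_image {x : M | π x = xb}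
    (fun x => Nat.card (L x)) (Set.toFinite _) (hπs xb)
  have hUK : U ≤ (Kr x₀).map π := by
    intro u hu
    have h1 : u ∈ (L x₀).map π := by
      rw [hL, Subgroup.map_sup, hmapconj, hx₀U, ← hĀ]
      exact hgen hu
    obtain ⟨w, hw, rfl⟩ := h1
    obtain ⟨i, m', hm', hwm⟩ := Nat.exists_eq_pow_mul_and_not_dvd (orderOf_pos w).ne' p hp.ne_one
    have hco1 : Nat.Coprime (p ^ i) (orderOf (π w)) :=
      ((hRco.coprime_dvd_left (Subgroup.orderOf_dvd_natCard R (hUR hu))).pow_right i).symm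
    obtain ⟨s, hs⟩ := exists_pow_eq_self_of_coprime hco1
    refine ⟨(w ^ p ^ i) ^ s, ?_, by rw [map_pow, map_pow, hs]⟩
    rw [hKr]
    refine ⟨⟨(w ^ p ^ i) ^ s, pow_mem (pow_mem hw _) _⟩, Subgroup.subset_closure ?_, rfl⟩
    show (orderOf _).Coprime p
    rw [← Subgroup.orderOf_coe]
    refine Nat.Coprime.coprime_dvd_left ((orderOf_pow_dvd s).trans (orderOf_dvd_of_pow_eq_one ?_))
      ((hp.coprime_iff_not_dvd.2 hm').symm)
    rw [← pow_mul, ← hwm, pow_orderOf_eq_one]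
  obtain ⟨x, hxK₀, hxx⟩ := hUK hxbU
  have hxL₀ : x ∈ L x₀ := (hKr x₀ ▸ Subgroup.map_subtype_le _ : Kr x₀ ≤ L x₀) hxK₀
  have hLeq : L x = L x₀ := by
    refine Subgroup.eq_of_le_of_card_ge ?_ (hx₀min x hxx)
    rw [hL x]
    refine sup_le (hL x₀ ▸ le_sup_left) ?_
    rintro _ ⟨a, ha, rfl⟩
    show x * a * x⁻¹ ∈ L x₀
    have haL : a ∈ L x₀ := hL x₀ ▸ Subgroup.mem_sup_left ha
    exact mul_mem (mul_mem hxL₀ haL) (inv_mem hxL₀)
  obtain ⟨N, hN⟩ : ∃ N, N = L x := ⟨_, rfl⟩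
  obtain ⟨K, hK⟩ : ∃ K, K = (Cfsg.pResidual p ↥N).map N.subtype := ⟨_, rfl⟩
  have hxK : x ∈ K := by rw [hK, hN, hLeq, ← hKr]; exact hxK₀
  refine ⟨x, Subgroup.mem_comap.2 (hxx ▸ hUR hxbU), ?_⟩
  rw [← hL x, ← hN, ← hK]
  have hAN : A ≤ N := hN ▸ hL x ▸ le_sup_left
  have hKN : K ≤ N := hK ▸ Subgroup.map_subtype_le _
  haveI hKn : (K.subgroupOf N).Normal := by
    rw [hK, Subgroup.subgroupOf, Subgroup.comap_map_eq_self_of_injective N.subtype_injective]
    infer_instance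
  have hNK : N ≤ Subgroup.normalizer (K : Set M) := (Subgroup.normal_subgroupOf_iff_le_normalizer hKN).1 hKn
  have hNimg : N.map π = Ā ⊔ Ā.map (MulAut.conj xb).toMonoidHom := by
    rw [hN, hL, Subgroup.map_sup, hmapconj, hxx, hĀ]
  have hNĀU : N.map π ≤ Ā ⊔ U := by
    rw [hNimg]
    refine sup_le le_sup_left ?_
    rintro _ ⟨a, ha, rfl⟩
    exact mul_mem (mul_mem (Subgroup.mem_sup_right hxbU) (Subgroup.mem_sup_left ha))
      (inv_mem (Subgroup.mem_sup_right hxbU))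
  have hKU : K.map π ≤ U := by
    obtain ⟨V, hV⟩ : ∃ V : Subgroup N, V = (U.comap π).subgroupOf N := ⟨_, rfl⟩
    have hNU : N.map π ≤ Subgroup.normalizer (U : Set (M ⧸ Cfsg.pCore p M)) :=
      hNĀU.trans (sup_le hUA Subgroup.le_normalizer)
    haveI : V.Normal := ⟨fun v hv n => by
      rw [hV, Subgroup.mem_subgroupOf, Subgroup.mem_comap] at hv ⊢
      rw [Subgroup.coe_mul, Subgroup.coe_mul, InvMemClass.coe_inv, map_mul, map_mul, map_inv]
      exact (Subgroup.mem_normalizer_iff.1 (hNU (Subgroup.mem_map_of_mem π n.2)) _).1 hv⟩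
    have hpg : IsPGroup p (N ⧸ V) := by
      intro z
      obtain ⟨z, rfl⟩ := QuotientGroup.mk_surjective z
      obtain ⟨a, ha, u, hu, hau⟩ : ∃ a ∈ Ā, ∃ u ∈ U, a * u = π z := by
        have h := hNĀU (Subgroup.mem_map_of_mem π z.2)
        rw [← SetLike.mem_coe, Subgroup.coe_mul_of_left_le_normalizer_right Ā U hUA] at h
        exact h
      have hcoset : ∀ j : ℕ, ∃ u' ∈ U, π z ^ j = a ^ j * u' := by
        intro j
        induction j with
        | zero => exact ⟨1, one_mem _, by simp⟩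
        | succ j ih =>
          obtain ⟨u', hu', he⟩ := ih
          refine ⟨a⁻¹ * u' * a * u, mul_mem ?_ hu, ?_⟩
          · exact (Subgroup.mem_normalizer_iff.1 (hUA ha) _).2 (by simpa [mul_assoc] using hu')
          · rw [pow_succ, he, ← hau, pow_succ]; group
      obtain ⟨u', hu', he⟩ := hcoset p
      refine ⟨1, ?_⟩
      rw [← QuotientGroup.mk_pow, QuotientGroup.eq_one_iff, hV, Subgroup.mem_subgroupOf,
        Subgroup.mem_comap, SubmonoidClass.coe_pow, map_pow, pow_one, he, hĀexp a ha, one_mul]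
      exact hu'
    have h := Fusion.pResidual_le_of_isPGroup_quotient hpg
    rw [hK]
    rintro _ ⟨_, ⟨w, hw, rfl⟩, rfl⟩
    exact (hV ▸ h hw : w ∈ (U.comap π).subgroupOf N)
  have hUB : ∀ b ∈ B, ∀ u ∈ U, b * u = u * b := fun b hb u hu =>
    Subgroup.mem_centralizer_iff.1 (hC ▸ hUC hu : u ∈ R ⊓ Subgroup.centralizer (B : Set _)).2 b hb
  have hcentral : ∀ b ∈ B, ∀ z ∈ N.map π, b * z = z * b := fun b hb z hz => by
    have hle : Ā ⊔ U ≤ Subgroup.centralizer ({b} : Set _) := sup_le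
      (fun a ha => Subgroup.mem_centralizer_singleton_iff.2 (hcĀ a ha b (hBA hb)))
      (fun u hu => Subgroup.mem_centralizer_singleton_iff.2 (hUB b hb u hu).symm)
    exact (Subgroup.mem_centralizer_singleton_iff.1 (hle (hNĀU hz))).symm
  obtain ⟨O, hO⟩ : ∃ O, O = (Cfsg.pCore p ↥N).map N.subtype := ⟨_, rfl⟩
  rw [← hO]
  have hAO : ∀ a ∈ A, a ∈ O → π a ∈ B := by
    intro a ha haO
    by_contra hnB
    have hBtop : B ⊔ Subgroup.zpowers (π a) = Ā := by
      refine le_antisymm (sup_le hBA ((Subgroup.zpowers_le).2 (hĀ ▸ Subgroup.mem_map_of_mem π ha))) ?_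
      have hcomm₀ : ∀ z ∈ Subgroup.zpowers a₀, ∀ w ∈ B, z * w = w * z := fun z hz w hw =>
        hcĀ z ((Subgroup.zpowers_le).2 ha₀ hz) w (hBA hw)
      have hπa : π a ∈ B ⊔ Subgroup.zpowers a₀ := hBa ▸ hĀ ▸ Subgroup.mem_map_of_mem π ha
      rw [← SetLike.mem_coe, Subgroup.coe_mul_of_left_le_normalizer_right B (Subgroup.zpowers a₀)
        (fun b hb => Subgroup.mem_normalizer_fintype fun z hz => by
          show b * z * b⁻¹ ∈ Subgroup.zpowers a₀
          rw [← hcomm₀ z hz b hb, mul_inv_cancel_right]; exact hz)] at hπa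
      obtain ⟨b, hb, _, ⟨j, rfl⟩, hbj⟩ := hπa
      simp only at hbj
      have hj : ¬ (p : ℤ) ∣ j := fun ⟨l, hl⟩ => hnB (by
        rw [← hbj, hl, zpow_mul, zpow_natCast, hĀexp a₀ ha₀, one_zpow, mul_one]; exact hb)
      obtain ⟨s, t', hst⟩ := (Nat.prime_iff_prime_int.1 hp).coprime_iff_not_dvd.2 hj
      conv_lhs => rw [← hBa]
      refine sup_le le_sup_left ((Subgroup.zpowers_le).2 ?_)
      have hmem : a₀ ^ j ∈ B ⊔ Subgroup.zpowers (π a) := by
        rw [show a₀ ^ j = b⁻¹ * π a by rw [← hbj, inv_mul_cancel_left]]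
        exact mul_mem (Subgroup.mem_sup_left (inv_mem hb)) (Subgroup.mem_sup_right (Subgroup.mem_zpowers _))
      rw [← zpow_one a₀, ← hst, zpow_add, mul_comm s, zpow_mul, zpow_natCast, hĀexp a₀ ha₀, one_zpow,
        one_mul, mul_comm t', zpow_mul]
      exact zpow_mem hmem t'
    -- then `U` would centralize the whole of `Ā`
    refine hUne ?_
    rw [Subgroup.commutator_eq_bot_iff_le_centralizer]
    intro u hu
    refine Subgroup.mem_centralizer_iff.2 fun z hz => ?_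
    have hle : B ⊔ Subgroup.zpowers (π a) ≤ Subgroup.centralizer ({u} : Set _) := by
      refine sup_le (fun b hb => Subgroup.mem_centralizer_singleton_iff.2 (hUB b hb u hu)) ?_
      rw [Subgroup.zpowers_le, Subgroup.mem_centralizer_singleton_iff]
      obtain ⟨w, hw, rfl⟩ : u ∈ K.map π := by rw [hK, hN, hLeq, ← hKr]; exact hUK hu
      rw [← commutatorElement_eq_one_iff_mul_comm, ← map_commutatorElement]
      have hwN : w ∈ N := hKN hw
      have hcO : ⁅a, w⁆ ∈ O := by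
        rw [hO] at haO ⊢
        obtain ⟨a', ha', rfl⟩ := haO
        refine ⟨⁅a', ⟨w, hwN⟩⁆, ?_, by simp [commutatorElement_def]⟩
        haveI := Cfsg.pCore_normal p ↥N
        rw [commutatorElement_def, show a' * ⟨w, hwN⟩ * a'⁻¹ * (⟨w, hwN⟩ : N)⁻¹ =
          a' * (⟨w, hwN⟩ * a'⁻¹ * (⟨w, hwN⟩ : N)⁻¹) by group]
        exact mul_mem ha' (Subgroup.Normal.conj_mem inferInstance _ (inv_mem ha') _)
      have hcU : π ⁅a, w⁆ ∈ U := by
        rw [map_commutatorElement, commutatorElement_def]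
        exact mul_mem ((Subgroup.mem_normalizer_iff.1 (hUA (hĀ ▸ Subgroup.mem_map_of_mem π ha)) _).1 hu)
          (inv_mem hu)
      have hOp : IsPGroup p O := hO ▸ (Solv.pCore_isPGroup p).map _
      obtain ⟨i, hi⟩ := hOp ⟨_, hcO⟩
      have h1 : (⁅a, w⁆ : M) ^ p ^ i = 1 := congrArg Subtype.val hi
      exact orderOf_eq_one_iff.1 (Nat.eq_one_of_dvd_coprimes
        ((hRco.coprime_dvd_left (Subgroup.orderOf_dvd_natCard R (hUR hcU))).pow_right i) dvd_rfl
        (orderOf_dvd_of_pow_eq_one (by rw [← map_pow, h1, map_one])))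
    exact Subgroup.mem_centralizer_singleton_iff.1 (hle (hBtop ▸ hz))
  obtain ⟨A', hA'⟩ : ∃ A', A' = A ⊓ B.comap π := ⟨_, rfl⟩
  have hA'O : A' ≤ O := by
    obtain ⟨W, hW⟩ : ∃ W : Subgroup N, W = (B.comap π).subgroupOf N := ⟨_, rfl⟩
    haveI : W.Normal := ⟨fun w hw n => by
      rw [hW, Subgroup.mem_subgroupOf, Subgroup.mem_comap] at hw ⊢
      rw [Subgroup.coe_mul, Subgroup.coe_mul, InvMemClass.coe_inv, map_mul, map_mul, map_inv,
        ← hcentral _ hw _ (Subgroup.mem_map_of_mem π n.2), mul_inv_cancel_right]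
      exact hw⟩
    have hWp : IsPGroup p W := by
      intro w
      have hwB : π ((w : N) : M) ∈ B := (hW ▸ w.2 : (w : N) ∈ (B.comap π).subgroupOf N)
      have h1 : ((w : N) : M) ^ p ∈ Cfsg.pCore p M := by
        rw [← hπ1, map_pow]; exact hĀexp _ (hBA hwB)
      obtain ⟨i, hi⟩ := Solv.pCore_isPGroup p ⟨_, h1⟩
      refine ⟨1 + i, Subtype.ext (Subtype.ext ?_)⟩
      rw [pow_add, pow_one, pow_mul]
      simpa using congrArg Subtype.val hi
    intro a ha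
    rw [hA'] at ha
    rw [hO]
    exact ⟨⟨a, hAN ha.1⟩, Fusion.le_pCore hWp (hW ▸ ha.2), rfl⟩
  have hAOeq : A ⊓ O = A' := le_antisymm
    (fun a ha => hA' ▸ ⟨ha.1, hAO a ha.1 ha.2⟩) (le_inf (hA' ▸ inf_le_left) hA'O)
  refine ⟨hxK, fun w hw => hUR (hKU (Subgroup.mem_map_of_mem π hw)), ?_, ?_, ?_⟩
  · -- `[K, A] = K`
    obtain ⟨hle, hn1, hn2⟩ := Solv.commutator_normal_in (K := K) (A := A) (hAN.trans hNK)
    refine le_antisymm hle ?_
    have hNgen : N ≤ A ⊔ ⁅K, A⁆ := by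
      rw [hN, hL]
      refine sup_le le_sup_left ?_
      rintro _ ⟨a, ha, rfl⟩
      show x * a * x⁻¹ ∈ _
      rw [show x * a * x⁻¹ = ⁅x, a⁆ * a by rw [commutatorElement_def]; group]
      exact mul_mem (Subgroup.mem_sup_right (Subgroup.commutator_mem_commutator hxK ha))
        (Subgroup.mem_sup_left ha)
    obtain ⟨V, hV⟩ : ∃ V : Subgroup N, V = ⁅K, A⁆.subgroupOf N := ⟨_, rfl⟩
    haveI : V.Normal := hV ▸ (Subgroup.normal_subgroupOf_iff_le_normalizer (hle.trans hKN)).2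
      (hNgen.trans (sup_le hn2 Subgroup.le_normalizer))
    have hpg : IsPGroup p (N ⧸ V) := by
      refine (hA.comap_subtype (K := N)).of_surjective
        ((QuotientGroup.mk' V).comp (A.subgroupOf N).subtype) fun z => ?_
      obtain ⟨z, rfl⟩ := QuotientGroup.mk'_surjective V z
      have hz := hNgen z.2
      rw [← SetLike.mem_coe, Subgroup.coe_mul_of_left_le_normalizer_right A ⁅K, A⁆ hn2] at hz
      obtain ⟨a, ha, c, hc, hac⟩ := hz
      refine ⟨⟨⟨a, hAN ha⟩, ha⟩, ?_⟩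
      show QuotientGroup.mk' V ⟨a, hAN ha⟩ = QuotientGroup.mk' V z
      rw [QuotientGroup.mk'_apply, QuotientGroup.mk'_apply, QuotientGroup.eq, hV, Subgroup.mem_subgroupOf]
      simpa [← hac] using hc
    have h := Fusion.pResidual_le_of_isPGroup_quotient hpg
    intro w hw
    rw [hK] at hw
    obtain ⟨w, hw', rfl⟩ := hw
    have h2 := h hw'
    rw [hV] at h2
    exact h2
  · -- index `p`
    rw [hAOeq, hA']
    have hne : ∃ a ∈ A, π a ∉ B := by
      by_contra h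
      push Not at h
      refine hBmove (hC.le.trans (inf_le_right.trans (Subgroup.centralizer_le ?_)))
      intro z hz
      obtain ⟨a, ha, rfl⟩ := (hĀ ▸ hz : z ∈ A.map π)
      exact h a ha
    obtain ⟨a, ha, haB⟩ := hne
    rw [Subgroup.inf_relIndex_left, Subgroup.relIndex_comap, ← hĀ]
    refine ((Nat.dvd_prime hp).1 ?_).resolve_left fun h => haB
      (Subgroup.relIndex_eq_one.1 h (hĀ ▸ Subgroup.mem_map_of_mem π ha))
    -- the quotient is cyclic of exponent `p`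
    obtain ⟨V, hV⟩ : ∃ V : Subgroup Ā, V = B.subgroupOf Ā := ⟨_, rfl⟩
    haveI : V.Normal := ⟨fun v hv g => by
      have e : g * v * g⁻¹ = v := by
        rw [hĀab.is_comm.comm g v, mul_inv_cancel_right]
      rw [e]; exact hv⟩
    show B.relIndex Ā ∣ p
    rw [Subgroup.relIndex, ← hV, Subgroup.index_eq_card]
    have htop : ∀ z : Ā ⧸ V, z ∈ Subgroup.zpowers (QuotientGroup.mk' V ⟨a₀, ha₀⟩) := by
      intro z
      obtain ⟨⟨z, hz⟩, rfl⟩ := QuotientGroup.mk'_surjective V z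
      have hz' : z ∈ B ⊔ Subgroup.zpowers a₀ := hBa.symm ▸ hz
      rw [← SetLike.mem_coe, Subgroup.coe_mul_of_left_le_normalizer_right B (Subgroup.zpowers a₀)
        (fun b hb => Subgroup.mem_normalizer_fintype fun w hw => by
          show b * w * b⁻¹ ∈ Subgroup.zpowers a₀
          rw [hcĀ b (hBA hb) w ((Subgroup.zpowers_le).2 ha₀ hw), mul_inv_cancel_right]; exact hw)] at hz'
      obtain ⟨b, hb, _, ⟨j, rfl⟩, hbj⟩ := hz'
      simp only at hbj
      refine ⟨j, ?_⟩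
      show QuotientGroup.mk' V ⟨a₀, ha₀⟩ ^ j = _
      rw [← map_zpow, QuotientGroup.mk'_apply, QuotientGroup.mk'_apply, QuotientGroup.eq, hV,
        Subgroup.mem_subgroupOf]
      simp only [Subgroup.coe_mul, InvMemClass.coe_inv, SubgroupClass.coe_zpow]
      rw [← hbj, hcĀ b (hBA hb) (a₀ ^ j) (zpow_mem ha₀ j), inv_mul_cancel_left]
      exact hb
    rw [← orderOf_eq_card_of_forall_mem_zpowers htop]
    refine orderOf_dvd_of_pow_eq_one ?_
    rw [← map_pow, show (⟨a₀, ha₀⟩ : Ā) ^ p = 1 from Subtype.ext (hĀexp a₀ ha₀), map_one]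
  · rw [hAOeq, Subgroup.commutator_le]
    intro a ha w hw
    rw [hA'] at ha
    rw [← hπ1, map_commutatorElement, commutatorElement_eq_one_iff_mul_comm]
    exact hcentral _ ha.2 _ (Subgroup.mem_map_of_mem π hw)

end Cfsg.Agent.S3754
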