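import Cfsg.Statements.S3755
import Cfsg.Agent.Lib.Solv.Generation
import Cfsg.Agent.Lib.Solv.Cores
import Cfsg.Agent.Lib.Fusion.Dihedral
import Cfsg.Agent.Lib.Fusion.Sections
import Cfsg.Agent.Lib.Fusion.Cores

set_option autoImplicit false
open Cfsg
open Cfsg.Agent

namespace Cfsg.Agent.S3755
open scoped Pointwise commutatorElement

variable {X : Type*} [Group X]

/-- The symmetric group of degree three is dihedral. -/
theorem dihedral_three : Nonempty (DihedralGroup 3 ≃* Equiv.Perm (Fin 3)) := by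
  let f : DihedralGroup 3 → Equiv.Perm (Fin 3) := fun d => match d with
    | .r i => finRotate 3 ^ i.val
    | .sr i => Equiv.swap 0 1 * finRotate 3 ^ i.val
  have hmul : ∀ a b : DihedralGroup 3, f (a * b) = f a * f b := by decide
  have hinj : ∀ a b : DihedralGroup 3, f a = f b → a = b := by decide
  have hsurj : ∀ σ : Equiv.Perm (Fin 3), ∃ a, f a = σ := by decide
  exact ⟨MulEquiv.ofBijective (MonoidHom.mk' f hmul) ⟨fun a b h => hinj a b h, hsurj⟩⟩

theorem pow_trick {c : X} {r : ℕ} (hr : Odd r) (h2 : c * c = 1) (h : c ^ r = 1) : c = 1 := by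
  obtain ⟨k, rfl⟩ := hr
  rwa [pow_succ, pow_mul, pow_two, h2, one_pow, one_mul] at h

theorem conj_pow_eq {d w c : X} (h : d * w * d⁻¹ = w * c) (hc : Commute d c) :
    ∀ i : ℕ, d ^ i * w * (d ^ i)⁻¹ = w * c ^ i := by
  intro i
  induction i with
  | zero => simp
  | succ i ih =>
    calc d ^ (i + 1) * w * (d ^ (i + 1))⁻¹ = d * (d ^ i * w * (d ^ i)⁻¹) * d⁻¹ := by rw [pow_succ']; group
      _ = d * (w * c ^ i) * d⁻¹ := by rw [ih]
      _ = (d * w * d⁻¹) * (d * c ^ i * d⁻¹) := by group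
      _ = w * c * c ^ i := by rw [h, (hc.pow_right i).eq, mul_inv_cancel_right]
      _ = w * c ^ (i + 1) := by rw [pow_succ', mul_assoc]

/-- An element of odd order fixing the fixed points of a commuting set of involutions fixes everything. -/
theorem fix_all {V : Subgroup X} (hV : Cfsg.IsElementaryAbelian 2 V) {d : X} {r : ℕ} (hr : Odd r)
    (hdr : d ^ r = 1) (hdV : ∀ v ∈ V, d * v * d⁻¹ ∈ V) : ∀ s : Finset X,
    (∀ b ∈ s, b * b = 1 ∧ Commute d b ∧ ∀ v ∈ V, b * v * b⁻¹ ∈ V) → (∀ b ∈ s, ∀ c ∈ s, Commute b c) →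
    (∀ v ∈ V, (∀ b ∈ s, Commute b v) → Commute d v) → ∀ v ∈ V, Commute d v := by
  classical
  have hc : ∀ u ∈ V, ∀ v ∈ V, u * v = v * u := fun u hu v hv =>
    congrArg Subtype.val (hV.1.is_comm.comm ⟨u, hu⟩ ⟨v, hv⟩)
  have hsq : ∀ u ∈ V, u * u = 1 := fun u hu => by rw [← pow_two]; exact hV.2 u hu
  have hinv : ∀ u ∈ V, u⁻¹ = u := fun u hu => inv_eq_of_mul_eq_one_right (hsq u hu)
  intro s
  induction s using Finset.induction_on with
  | empty => intro _ _ h v hv; exact h v hv (by simp)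
  | insert b s hbs ih =>
    intro hs hcomm h
    refine ih (fun c hc' => hs c (Finset.mem_insert_of_mem hc'))
      (fun c hc' e he => hcomm c (Finset.mem_insert_of_mem hc') e (Finset.mem_insert_of_mem he)) ?_
    intro v hv hvs
    obtain ⟨hb2, hdb, hbV⟩ := hs b (Finset.mem_insert_self _ _)
    obtain ⟨f, hf⟩ : ∃ f : V → V, ∀ u : V, (f u : X) = b * u * b⁻¹ := ⟨fun u => ⟨_, hbV u u.2⟩, fun _ => rfl⟩
    have hw : b * v * b⁻¹ ∈ V := hbV v hv
    have hdv : d * v * d⁻¹ ∈ V := hdV v hv
    have hfix : ∀ u : X, Commute b u → (∀ c ∈ s, Commute c u) → ∀ c ∈ insert b s, Commute c u := by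
      intro u h1 h2 c hc'
      rcases Finset.mem_insert.1 hc' with rfl | hc'
      exacts [h1, h2 c hc']
    have hcb : ∀ c ∈ s, Commute c b := fun c hc' =>
      hcomm c (Finset.mem_insert_of_mem hc') b (Finset.mem_insert_self _ _)
    -- the sum of `v` and its image is fixed
    have hsum : Commute d (v * (b * v * b⁻¹)) := by
      refine h _ (mul_mem hv hw) (hfix _ ?_ fun c hc' => (hvs c hc').mul_right
        (((hcb c hc').mul_right (hvs c hc')).mul_right (hcb c hc').inv_right))
      have e : b * (v * (b * v * b⁻¹)) * b⁻¹ = v * (b * v * b⁻¹) := by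
        rw [show b * (v * (b * v * b⁻¹)) * b⁻¹ = (b * v * b⁻¹) * ((b * b) * v * (b * b)⁻¹) by group,
          hb2, one_mul, inv_one, mul_one, hc _ hw _ hv]
      exact mul_inv_eq_iff_eq_mul.1 e
    -- hence the commutator with `d` is fixed
    obtain ⟨u, hu⟩ : ∃ u, u = v * (d * v * d⁻¹) := ⟨_, rfl⟩
    have huV : u ∈ V := hu ▸ mul_mem hv hdv
    have hbu : Commute b u := by
      refine mul_inv_eq_iff_eq_mul.1 (?_ : b * u * b⁻¹ = u)
      have e1 : d * (v * (b * v * b⁻¹)) * d⁻¹ = v * (b * v * b⁻¹) := mul_inv_eq_iff_eq_mul.2 hsum.eq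
      have e2 : d * (b * v * b⁻¹) * d⁻¹ = b * (d * v * d⁻¹) * b⁻¹ := by
        rw [show d * (b * v * b⁻¹) * d⁻¹ = (d * b) * v * (d * b)⁻¹ by group, hdb.eq]; group
      have e3 : (d * v * d⁻¹) * (b * (d * v * d⁻¹) * b⁻¹) = v * (b * v * b⁻¹) := by
        rw [← e2, ← e1]; group
      have hdvb : b * (d * v * d⁻¹) * b⁻¹ ∈ V := hbV _ hdv
      calc b * u * b⁻¹ = (b * v * b⁻¹) * (b * (d * v * d⁻¹) * b⁻¹) := by rw [hu]; group
        _ = (v * (v * (b * v * b⁻¹))) * (b * (d * v * d⁻¹) * b⁻¹) := by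
          rw [← mul_assoc v v, hsq v hv, one_mul]
        _ = (v * ((d * v * d⁻¹) * (b * (d * v * d⁻¹) * b⁻¹))) * (b * (d * v * d⁻¹) * b⁻¹) := by rw [e3]
        _ = u * ((b * (d * v * d⁻¹) * b⁻¹) * (b * (d * v * d⁻¹) * b⁻¹)) := by rw [hu]; group
        _ = u := by rw [hsq _ hdvb, mul_one]
    have hdu : Commute d u := by
      refine h u huV (hfix _ hbu fun c hc' => ?_)
      rw [hu]
      exact (hvs c hc').mul_right ((((hs c (Finset.mem_insert_of_mem hc')).2.1.symm).mul_right
        (hvs c hc')).mul_right (hs c (Finset.mem_insert_of_mem hc')).2.1.symm.inv_right)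
    have hdv' : d * v * d⁻¹ = v * u := by rw [hu, ← mul_assoc, hsq v hv, one_mul]
    have hu1 : u = 1 := by
      have := conj_pow_eq hdv' hdu r
      rw [hdr, one_mul, inv_one, mul_one, left_eq_mul] at this
      exact pow_trick hr (hsq u huV) this
    rw [hu1, mul_one] at hdv'
    exact mul_inv_eq_iff_eq_mul.1 hdv'

theorem relIndex_le_two {V W : Subgroup X} (hV : IsPGroup 2 V) (hW : W ≤ V) (U : Subgroup X)
    [Finite X] (h : U.relIndex W < 4) : U.relIndex W ≤ 2 := by
  obtain ⟨k, hk⟩ := IsPGroup.iff_card.1 (hV.to_le hW)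
  obtain ⟨i, -, hi⟩ := (Nat.dvd_prime_pow Nat.prime_two).1 (hk ▸ Subgroup.relIndex_dvd_card U W)
  rw [hi] at h ⊢
  have : i < 2 := (Nat.pow_lt_pow_iff_right (le_refl 2)).1 (by omega : 2 ^ i < 2 ^ 2)
  exact (Nat.pow_le_pow_right (by norm_num) (by omega : i ≤ 1)).trans (by norm_num)

/-- Let M and V be subgroups of a finite group with V an elementary abelian 2-group, M normalizing V and acting faithfully on it (M ∩ C(V) = 1), and C_M(O_{2'}(M)) ≤ O_{2'}(M). If some elementary abelian 2-subgroup A of M satisfies |V : C_V(A)| < |A|², then M has a section isomorphic to the symmetric group of degree 3. -/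
theorem result {X : Type*} [Group X] [Finite X] (M V : Subgroup X) (hV : Cfsg.IsElementaryAbelian 2 V) (hMV : M ≤ Subgroup.normalizer (V : Set X)) (hfaith : M ⊓ Subgroup.centralizer (V : Set X) = ⊥) (hcon : Subgroup.centralizer (Cfsg.pPrimeCore 2 ↥M : Set ↥M) ≤ Cfsg.pPrimeCore 2 ↥M) (A : Subgroup X) (hAM : A ≤ M) (hA : Cfsg.IsElementaryAbelian 2 A) (hsmall : (V ⊓ Subgroup.centralizer (A : Set X)).relIndex V < Nat.card A ^ 2) : Cfsg.Involves (Equiv.Perm (Fin 3)) ↥M := by
  classical
  by_contra hno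
  obtain ⟨Om, hOm⟩ : ∃ Om, Om = (Cfsg.pPrimeCore 2 ↥M).map M.subtype := ⟨_, rfl⟩
  have hOM : Om ≤ M := hOm ▸ Subgroup.map_subtype_le _
  have hOodd : (Nat.card Om).Coprime 2 := by
    rw [hOm, Subgroup.card_map_of_injective M.subtype_injective]
    exact Solv.pPrimeCore_coprime 2
  have hMO : M ≤ Subgroup.normalizer (Om : Set X) := by
    haveI := Solv.pPrimeCore_normal (G := ↥M) 2
    refine (Subgroup.normal_subgroupOf_iff_le_normalizer hOM).1 ?_
    rw [hOm, Subgroup.subgroupOf, Subgroup.comap_map_eq_self_of_injective M.subtype_injective]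
    infer_instance
  have hV2 : IsPGroup 2 V := fun v => ⟨1, Subtype.ext (by simpa using hV.2 v v.2)⟩
  have hnV : ∀ m ∈ M, ∀ v ∈ V, m * v * m⁻¹ ∈ V := fun m hm v hv =>
    (Subgroup.mem_normalizer_iff.1 (hMV hm) v).1 hv
  suffices key : ∀ n : ℕ, ∀ A : Subgroup X, Nat.card A = n → A ≤ M → Cfsg.IsElementaryAbelian 2 A →
      Nat.card A ^ 2 ≤ (V ⊓ Subgroup.centralizer (A : Set X)).relIndex V from
    (key _ A rfl hAM hA).not_gt hsmall
  intro n
  induction n using Nat.strong_induction_on with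
  | _ n ih =>
    intro A hcard hAM hA
    rcases eq_or_ne A ⊥ with rfl | hA1
    · rw [Subgroup.card_bot, one_pow]
      exact Nat.one_le_iff_ne_zero.2 Subgroup.index_ne_zero_of_finite
    have hAc : ∀ u ∈ A, ∀ v ∈ A, Commute u v := fun u hu v hv =>
      congrArg Subtype.val (hA.1.is_comm.comm ⟨u, hu⟩ ⟨v, hv⟩)
    have hAsq : ∀ u ∈ A, u * u = 1 := fun u hu => by rw [← pow_two]; exact hA.2 u hu
    obtain ⟨k, hk⟩ := IsPGroup.iff_card.1 (show IsPGroup 2 A from fun u => ⟨1, Subtype.ext (by simpa using hA.2 u u.2)⟩)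
    have hco : (Nat.card A).Coprime (Nat.card Om) := hk ▸ (hOodd.pow_right k).symm
    obtain ⟨B, ⟨hBA, a, ha, hBa⟩, hB⟩ : ∃ B ∈ Solv.CycQuot A,
        ¬ Om ⊓ Subgroup.centralizer (B : Set X) ≤ Subgroup.centralizer (A : Set X) := by
      by_contra hc
      push Not at hc
      refine hA1 (le_bot_iff.1 fun u hu => ?_)
      have hle : Om ≤ Subgroup.centralizer (A : Set X) := by
        conv_lhs => rw [← Solv.gen_eq A Om hA.1 (hAM.trans hMO) hco]
        exact iSup₂_le hc
      have huO : (⟨u, hAM hu⟩ : M) ∈ Cfsg.pPrimeCore 2 ↥M := hcon (Subgroup.mem_centralizer_iff.2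
        fun y hy => Subtype.ext (Subgroup.mem_centralizer_iff.1 (hle (hOm ▸ Subgroup.mem_map_of_mem _ hy)) u hu).symm)
      refine Subgroup.mem_bot.2 (orderOf_eq_one_iff.1 (Nat.eq_one_of_dvd_coprimes hco
        (Subgroup.orderOf_dvd_natCard A hu) (Subgroup.orderOf_dvd_natCard Om ?_)))
      rw [hOm]
      exact ⟨_, huO, rfl⟩
    obtain ⟨c, ⟨hcO, hcB⟩, hcA⟩ := SetLike.not_le_iff_exists.1 hB
    have hac : a * c ≠ c * a := by
      intro e
      refine hcA (?_ : c ∈ Subgroup.centralizer (A : Set X))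
      have hle : A ≤ Subgroup.centralizer ({c} : Set X) := by
        rw [← hBa]
        refine sup_le (fun b hb => Subgroup.mem_centralizer_singleton_iff.2 (Subgroup.mem_centralizer_iff.1 hcB b hb)) ?_
        rw [Subgroup.zpowers_le]
        exact Subgroup.mem_centralizer_singleton_iff.2 e
      exact Subgroup.mem_centralizer_iff.2 fun u hu => Subgroup.mem_centralizer_singleton_iff.1 (hle hu)
    have haa : a * a = 1 := hAsq a ha
    have hainv : a⁻¹ = a := inv_eq_of_mul_eq_one_right haa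
    have hdouble : Nat.card A ≤ 2 * Nat.card B := by
      have hset : (A : Set X) ⊆ (fun x : X × Bool => if x.2 then x.1 * a else x.1) '' ((B : Set X) ×ˢ Set.univ) := by
        intro u hu
        have hu' : u ∈ B ⊔ Subgroup.zpowers a := hBa.symm ▸ hu
        rw [← SetLike.mem_coe, Subgroup.coe_mul_of_left_le_normalizer_right B (Subgroup.zpowers a)
          (fun b hb => Subgroup.centralizer_le_normalizer _ (Subgroup.mem_centralizer_iff.2 fun z hz =>
            hAc z ((Subgroup.zpowers_le).2 ha hz) b (hBA hb)))] at hu'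
        obtain ⟨b, hb, _, ⟨j, rfl⟩, rfl⟩ := hu'
        rcases Int.even_or_odd j with ⟨i, rfl⟩ | ⟨i, rfl⟩
        · exact ⟨(b, false), ⟨hb, trivial⟩, by simp [← two_mul, zpow_mul, zpow_two, pow_two, haa]⟩
        · exact ⟨(b, true), ⟨hb, trivial⟩, by simp [zpow_add, zpow_mul, zpow_two, pow_two, haa]⟩
      calc Nat.card A = (A : Set X).ncard := Nat.card_coe_set_eq _
        _ ≤ _ := Set.ncard_le_ncard hset
        _ ≤ ((B : Set X) ×ˢ (Set.univ : Set Bool)).ncard := Set.ncard_image_le
        _ = 2 * Nat.card B := by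
          rw [Set.ncard_prod, Set.ncard_univ, Nat.card_eq_fintype_card, Fintype.card_bool, mul_comm, ← Nat.card_coe_set_eq]; rfl
    have hBne : B ≠ A := by
      rintro rfl
      exact hac (Subgroup.mem_centralizer_iff.1 hcB a ha)
    have hBlt : Nat.card B < n := by
      rw [← hcard]
      exact (Subgroup.card_le_of_le hBA).lt_of_ne fun e => hBne (Subgroup.eq_of_le_of_card_ge hBA e.ge)
    have hih := ih _ hBlt B rfl (hBA.trans hAM) ⟨⟨⟨fun s t => Subtype.ext (hAc _ (hBA s.2) _ (hBA t.2))⟩⟩,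
      fun u hu => hA.2 u (hBA hu)⟩
    obtain ⟨W, hW⟩ : ∃ W, W = V ⊓ Subgroup.centralizer (B : Set X) := ⟨_, rfl⟩
    rw [← hW] at hih
    have hW1 : V ⊓ Subgroup.centralizer (A : Set X) ≤ W :=
      hW ▸ inf_le_inf_left V (Subgroup.centralizer_le hBA)
    suffices h4 : 4 ≤ (V ⊓ Subgroup.centralizer (A : Set X)).relIndex W by
      rw [← Subgroup.relIndex_mul_relIndex _ W V hW1 (hW ▸ inf_le_left)]
      calc Nat.card A ^ 2 ≤ (2 * Nat.card B) ^ 2 := Nat.pow_le_pow_left hdouble 2
        _ = 4 * Nat.card B ^ 2 := by ring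
        _ ≤ _ := Nat.mul_le_mul h4 hih
    -- an element inverted by `a` and centralizing `B`
    obtain ⟨d₀, hd₀⟩ : ∃ d₀, d₀ = c * a * c⁻¹ * a⁻¹ := ⟨_, rfl⟩
    have hd₀O : d₀ ∈ Om := by
      rw [hd₀, show c * a * c⁻¹ * a⁻¹ = c * (a * c⁻¹ * a⁻¹) by group]
      exact mul_mem hcO ((Subgroup.mem_normalizer_iff.1 (hMO (hAM ha)) _).1 (inv_mem hcO))
    have hd₀B : d₀ ∈ Subgroup.centralizer (B : Set X) := by
      have haB : a ∈ Subgroup.centralizer (B : Set X) := Subgroup.mem_centralizer_iff.2 fun b hb => hAc b (hBA hb) a ha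
      exact hd₀ ▸ mul_mem (mul_mem (mul_mem hcB haB) (inv_mem hcB)) (inv_mem haB)
    have hd₀1 : d₀ ≠ 1 := by
      intro e
      rw [hd₀, mul_inv_eq_one, mul_inv_eq_iff_eq_mul] at e
      exact hac e.symm
    have hd₀a : a * d₀ * a⁻¹ = d₀⁻¹ := by
      rw [hd₀, mul_inv_rev, mul_inv_rev, mul_inv_rev, inv_inv, inv_inv, hainv]
      calc a * (c * a * c⁻¹ * a) * a = a * (c * a * c⁻¹) * (a * a) := by group
        _ = a * (c * (a * c⁻¹)) := by rw [haa]; group
    obtain ⟨r, hr, hrd⟩ := Nat.exists_prime_and_dvd (fun e => hd₀1 (orderOf_eq_one_iff.1 e))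
    obtain ⟨m, hm⟩ := hrd
    obtain ⟨d, hd⟩ : ∃ d, d = d₀ ^ m := ⟨_, rfl⟩
    have hdord : orderOf d = r := by
      have hm0 : m ≠ 0 := fun e => (orderOf_pos d₀).ne' (by rw [hm, e, mul_zero])
      rw [hd, orderOf_pow_of_dvd hm0 (hm ▸ dvd_mul_left m r), hm,
        Nat.mul_div_cancel _ (Nat.pos_of_ne_zero hm0)]
    have hdr : d ^ r = 1 := hdord ▸ pow_orderOf_eq_one d
    have hrne : r ≠ 2 := by
      rintro rfl
      exact Nat.prime_two.ne_one (Nat.eq_one_of_dvd_coprimes hOodd
        ((hm ▸ dvd_mul_right 2 m : 2 ∣ orderOf d₀).trans (Subgroup.orderOf_dvd_natCard Om hd₀O)) dvd_rfl)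
    have hrodd : Odd r := hr.odd_of_ne_two hrne
    have hda : a * d * a⁻¹ = d⁻¹ := by rw [hd, ← conj_pow, hd₀a, inv_pow]
    have hdM : d ∈ M := hd ▸ pow_mem (hOM hd₀O) m
    have hdB : d ∈ Subgroup.centralizer (B : Set X) := hd ▸ pow_mem hd₀B m
    have hd1 : d ≠ 1 := fun e => hr.ne_one (by rw [← hdord, e, orderOf_one])
    have hr3 : r ≠ 3 := by
      rintro rfl
      obtain ⟨a', ha'⟩ : ∃ a' : M, a' = ⟨a, hAM ha⟩ := ⟨_, rfl⟩
      obtain ⟨b', hb'⟩ : ∃ b' : M, b' = ⟨a * d, mul_mem (hAM ha) hdM⟩ := ⟨_, rfl⟩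
      have ha1 : a ≠ 1 := fun e => hac (by rw [e, one_mul, mul_one])
      have hadad : a * d * (a * d) = 1 := by
        calc a * d * (a * d) = (a * d * a⁻¹) * (a * a) * d := by group
          _ = 1 := by rw [hda, haa]; group
      have hoa : orderOf a' = 2 := by
        rw [ha', Subgroup.orderOf_mk]
        exact orderOf_eq_prime (by rw [pow_two, haa]) ha1
      have hob : orderOf b' = 2 := by
        rw [hb', Subgroup.orderOf_mk]
        refine orderOf_eq_prime (by rw [pow_two, hadad]) fun e => ?_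
        have e2 : d = a := by rw [← inv_mul_cancel_left a d, e, mul_one, hainv]
        have := (orderOf_eq_prime (x := a) (by rw [pow_two, haa]) ha1)
        rw [← e2, hdord] at this
        omega
      have hne' : a' ≠ b' := fun e => hd1 (by
        rw [ha', hb'] at e
        exact mul_eq_left.1 (congrArg Subtype.val e).symm)
      have hprod : orderOf (a' * b') = 3 := by
        rw [ha', hb', ← Subgroup.orderOf_coe, Subgroup.coe_mul, ← mul_assoc, haa, one_mul, hdord]
      obtain ⟨e⟩ := Fusion.closure_pair_equiv_dihedral hoa hob hne'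
      rw [hprod] at e
      obtain ⟨e'⟩ := dihedral_three
      exact hno (Fusion.involves_of_surjective (e.trans e').toMonoidHom (e.trans e').surjective)
    have hr5 : 5 ≤ r := by
      have h4 : r ≠ 4 := by rintro rfl; exact absurd hr (by norm_num)
      have := hr.two_le
      omega
    -- `d` moves `W`, hence the index is at least four
    by_contra hlt
    have hle2 := relIndex_le_two hV2 (hW ▸ inf_le_left) _ (not_le.1 hlt)
    have hWn : ∀ w ∈ W, ∀ e ∈ M, e ∈ Subgroup.centralizer (B : Set X) → e * w * e⁻¹ ∈ W := by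
      intro w hw e heM heB
      rw [hW] at hw ⊢
      exact ⟨hnV e heM w hw.1, mul_mem (mul_mem heB hw.2) ((Subgroup.centralizer (B : Set X)).inv_mem heB)⟩
    obtain ⟨C, hC⟩ : ∃ C, C = W ⊓ Subgroup.centralizer ({a} : Set X) ⊓ Subgroup.centralizer ({d * a * d⁻¹} : Set X) := ⟨_, rfl⟩
    have hWa : V ⊓ Subgroup.centralizer (A : Set X) = W ⊓ Subgroup.centralizer ({a} : Set X) := by
      refine le_antisymm (le_inf hW1 (inf_le_right.trans (Subgroup.centralizer_le (by simpa using ha)))) ?_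
      intro w hw
      refine ⟨(hW ▸ hw.1).1, ?_⟩
      have hle : A ≤ Subgroup.centralizer ({w} : Set X) := by
        rw [← hBa]
        refine sup_le (fun b hb => Subgroup.mem_centralizer_singleton_iff.2
          (Subgroup.mem_centralizer_iff.1 (hW ▸ hw.1).2 b hb)) ?_
        rw [Subgroup.zpowers_le, Subgroup.mem_centralizer_singleton_iff]
        exact (Subgroup.mem_centralizer_singleton_iff.1 hw.2).symm
      exact Subgroup.mem_centralizer_iff.2 fun u hu => Subgroup.mem_centralizer_singleton_iff.1 (hle hu)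
    have hdC : ∀ z ∈ C, Commute d z := by
      intro z hz
      rw [hC] at hz
      have h1 : Commute z a := Subgroup.mem_centralizer_singleton_iff.1 hz.1.2
      have h2 : Commute z (d * a * d⁻¹) := Subgroup.mem_centralizer_singleton_iff.1 hz.2
      have h3 : Commute z (d * d) := by
        have e : d * a * d⁻¹ * a = d * d := by
          calc d * a * d⁻¹ * a = d * (a * d * a⁻¹)⁻¹ * (a⁻¹ * a⁻¹)⁻¹ * (a⁻¹ * a) := by group
            _ = d * d := by rw [hda, hainv, haa]; group
        exact e ▸ h2.mul_right h1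
      obtain ⟨i, hi⟩ := hrodd
      have e : d = (d * d) ^ (i + 1) := by
        rw [← pow_two, ← pow_mul, show 2 * (i + 1) = r + 1 by omega, pow_succ, hdr, one_mul]
      rw [e]
      exact (h3.pow_right _).symm
    have hC4 : C.relIndex W ≤ 4 := by
      have h1 : (W ⊓ Subgroup.centralizer ({d * a * d⁻¹} : Set X)).relIndex W ≤ 2 := by
        rw [hWa] at hle2
        refine le_of_eq_of_le ?_ hle2
        have hconjW : W.map (MulAut.conj d).toMonoidHom = W := Subgroup.eq_of_le_of_card_ge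
          (by rintro _ ⟨w, hw, rfl⟩; exact hWn w hw d hdM hdB)
          (le_of_eq (Subgroup.card_map_of_injective (MulAut.conj d).injective).symm)
        conv_rhs => rw [← Subgroup.relIndex_map_map_of_injective _ _ (f := (MulAut.conj d).toMonoidHom) (MulAut.conj d).injective]
        rw [Subgroup.map_inf_eq _ _ _ (MulAut.conj d).injective, hconjW]
        congr 2
        ext z
        rw [Subgroup.mem_map_equiv, Subgroup.mem_centralizer_singleton_iff, Subgroup.mem_centralizer_singleton_iff,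
          MulAut.conj_symm_apply]
        constructor <;> intro e
        · calc d⁻¹ * z * d * a = d⁻¹ * (z * (d * a * d⁻¹)) * d := by group
            _ = _ := by rw [e]; group
        · calc z * (d * a * d⁻¹) = d * ((d⁻¹ * z * d) * a) * d⁻¹ := by group
            _ = _ := by rw [e]; group
      rw [hC, show W ⊓ Subgroup.centralizer ({a} : Set X) ⊓ Subgroup.centralizer ({d * a * d⁻¹} : Set X) =
        (W ⊓ Subgroup.centralizer ({a} : Set X)) ⊓ (W ⊓ Subgroup.centralizer ({d * a * d⁻¹} : Set X)) by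
          ext z; simp only [Subgroup.mem_inf]; tauto]
      rw [hWa] at hle2
      exact (Subgroup.relIndex_inf_le).trans (by simpa using Nat.mul_le_mul hle2 h1)
    have hfixW : ∀ w ∈ W, Commute d w := by
      intro w hw
      let f : Fin r → W ⧸ C.subgroupOf W := fun i => QuotientGroup.mk
        ⟨d ^ (i : ℕ) * w * (d ^ (i : ℕ))⁻¹, hWn w hw _ (pow_mem hdM _) (pow_mem hdB _)⟩
      obtain ⟨i, j, hij, hne'⟩ : ∃ i j, f i = f j ∧ i ≠ j := by
        by_contra hc
        push Not at hc
        have := Nat.card_le_card_of_injective f hc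
        rw [Nat.card_fin] at this
        have h4 : Nat.card (W ⧸ C.subgroupOf W) ≤ 4 := hC4
        omega
      wlog hlt' : i < j generalizing i j
      · exact this j i hij.symm hne'.symm (lt_of_le_of_ne (not_lt.1 hlt') hne'.symm)
      have hmem := QuotientGroup.eq.1 hij
      rw [Subgroup.mem_subgroupOf] at hmem
      simp only [Subgroup.coe_mul, InvMemClass.coe_inv] at hmem
      obtain ⟨e, he⟩ : ∃ e, e = d ^ ((j : ℕ) - i) := ⟨_, rfl⟩
      have hcm := hdC _ hmem
      have hde : Commute e (w⁻¹ * (e * w * e⁻¹)) := by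
        have e1 : (d ^ (i : ℕ) * w * (d ^ (i : ℕ))⁻¹)⁻¹ * (d ^ (j : ℕ) * w * (d ^ (j : ℕ))⁻¹) =
            d ^ (i : ℕ) * (w⁻¹ * (e * w * e⁻¹)) * (d ^ (i : ℕ))⁻¹ := by
          rw [he, show (j : ℕ) = i + ((j : ℕ) - i) by have : (i : ℕ) < j := hlt'; omega, pow_add]
          simp only [Nat.add_sub_cancel_left]
          group
        rw [e1] at hcm
        have h5 := ((Commute.refl d).pow_right (i : ℕ))
        have h6 : Commute d (w⁻¹ * (e * w * e⁻¹)) := by
          have := (h5.inv_right.mul_right hcm).mul_right h5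
          simpa [mul_assoc] using this
        have h7 := h6.pow_left ((j : ℕ) - i)
        rwa [← he] at h7
      have hcz := conj_pow_eq (d := e) (w := w) (c := w⁻¹ * (e * w * e⁻¹)) (by group) hde r
      have her : e ^ r = 1 := by rw [he, ← pow_mul, mul_comm, pow_mul, hdr, one_pow]
      rw [her, one_mul, inv_one, mul_one, left_eq_mul] at hcz
      have hzV : w⁻¹ * (e * w * e⁻¹) ∈ V := by
        have hwV : w ∈ V := (hW ▸ hw).1
        exact mul_mem (inv_mem hwV) (hnV e (he ▸ pow_mem hdM _) w hwV)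
      have hz := pow_trick hrodd (by rw [← pow_two]; exact hV.2 _ hzV) hcz
      rw [inv_mul_eq_one, eq_mul_inv_iff_mul_eq] at hz
      have hec : Commute e w := hz.symm
      have hlt2 : (j : ℕ) - i < r := by omega
      have hpos : 0 < (j : ℕ) - i := by have : (i : ℕ) < j := hlt'; omega
      obtain ⟨s, hs⟩ := exists_pow_eq_self_of_coprime (x := d) (n := (j : ℕ) - i) (by
        rw [hdord]; exact ((hr.coprime_iff_not_dvd).2 fun h => absurd (Nat.le_of_dvd hpos h) (not_le.2 hlt2)).symm)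
      rw [← hs, ← he]
      exact hec.pow_left s
    haveI : Fintype X := Fintype.ofFinite X
    have hall := fix_all hV hrodd hdr (hnV d hdM) (Finset.univ.filter (· ∈ B))
      (fun b hb => by
        have hb' : b ∈ B := by simpa using hb
        exact ⟨hAsq b (hBA hb'), (Subgroup.mem_centralizer_iff.1 hdB b hb').symm, hnV b (hAM (hBA hb'))⟩)
      (fun b hb b' hb' => hAc b (hBA (by simpa using hb)) b' (hBA (by simpa using hb')))
      (fun v hv hvs => hfixW v (hW ▸ ⟨hv, Subgroup.mem_centralizer_iff.2 fun b hb => hvs b (by simpa using hb)⟩))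
    exact hd1 (Subgroup.mem_bot.1 (hfaith.le ⟨hdM, Subgroup.mem_centralizer_iff.2 fun v hv => (hall v hv).eq.symm⟩))

end Cfsg.Agent.S3755
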