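import Cfsg.Statements.S3760
import Cfsg.Agent.Lib.Solv.Basic

set_option autoImplicit false
open Cfsg

open scoped Pointwise commutatorElement

namespace Cfsg.Agent.S3760

/-- Let the group G act transitively on a set X, let x ∈ X with stabilizer H = G_x, and let K ≤ H. Then N_G(K) acts transitively on the set of fixed points of K if and only if every G-conjugate of K contained in H is already an H-conjugate of K. -/
theorem result {G : Type*} [Group G] {X : Type*} [MulAction G X] (htrans : ∀ a b : X, ∃ g : G, g • a = b) (x : X) (K : Subgroup G) (hK : K ≤ MulAction.stabilizer G x) : (∀ a b : X, (∀ k ∈ K, k • a = a) → (∀ k ∈ K, k • b = b) → ∃ g ∈ Subgroup.normalizer (K : Set G), g • a = b) ↔ ∀ g : G, K.map (MulAut.conj g).toMonoidHom ≤ MulAction.stabilizer G x → ∃ h ∈ MulAction.stabilizer G x, K.map (MulAut.conj g).toMonoidHom = K.map (MulAut.conj h).toMonoidHom := by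
  have hnorm : ∀ n : G, K.map (MulAut.conj n).toMonoidHom = K → n ∈ Subgroup.normalizer (K : Set G) :=
    fun n h => Solv.mem_normalizer_of_conj_smul ((Solv.conj_smul_eq_map n K).trans h)
  have hmap : ∀ a b : G, (K.map (MulAut.conj b).toMonoidHom).map (MulAut.conj a).toMonoidHom =
      K.map (MulAut.conj (a * b)).toMonoidHom := fun a b => by
    rw [← Solv.conj_smul_eq_map, ← Solv.conj_smul_eq_map, ← Solv.conj_smul_eq_map, Solv.conj_smul_conj]
  constructor
  · intro h g hg
    obtain ⟨n, hn, hnx⟩ := h x (g⁻¹ • x) (fun k hk => hK hk) (fun k hk => by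
      have : g * k * g⁻¹ ∈ MulAction.stabilizer G x := hg ⟨k, hk, rfl⟩
      rw [MulAction.mem_stabilizer_iff, mul_smul, mul_smul] at this
      exact eq_inv_smul_iff.2 this)
    refine ⟨g * n, ?_, ?_⟩
    · rw [MulAction.mem_stabilizer_iff, mul_smul, hnx, smul_inv_smul]
    · rw [← hmap, ← Solv.conj_smul_eq_map n, Solv.conj_smul_of_mem_normalizer hn]
  · intro h a b ha hb
    have key : ∀ a : X, (∀ k ∈ K, k • a = a) → ∃ n ∈ Subgroup.normalizer (K : Set G), n • x = a := by
      intro a ha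
      obtain ⟨g, rfl⟩ := htrans x a
      obtain ⟨t, ht, e⟩ := h g⁻¹ (by
        rintro _ ⟨k, hk, rfl⟩
        show g⁻¹ * k * g⁻¹⁻¹ ∈ MulAction.stabilizer G x
        rw [MulAction.mem_stabilizer_iff, inv_inv, mul_smul, mul_smul, ha k hk, inv_smul_smul])
      refine ⟨g * t, hnorm _ ?_, by rw [mul_smul, MulAction.mem_stabilizer_iff.1 ht]⟩
      rw [← hmap, ← e, hmap, mul_inv_cancel, ← Solv.conj_smul_eq_map, Solv.conj_one_smul]
    obtain ⟨n₁, hn₁, rfl⟩ := key a ha
    obtain ⟨n₂, hn₂, rfl⟩ := key b hb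
    exact ⟨n₂ * n₁⁻¹, mul_mem hn₂ (inv_mem hn₁), by rw [mul_smul, inv_smul_smul]⟩

end Cfsg.Agent.S3760
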