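import Cfsg.Statements.S3763
import Cfsg.Agent.Lib.Solv.ExtraspecialTwo

set_option autoImplicit false
set_option linter.style.haveILetI false
open Cfsg

open scoped Pointwise commutatorElement

namespace Cfsg.Agent.S3763


open Cfsg.Agent.Solv.ExtTwo

universe u v

theorem prank_iff {E : Type u} [Group E] [Finite E] {m : ℕ} (hm : IsRk E m) (k : ℕ) :
    Cfsg.PRankLE 2 k E ↔ m ≤ 2 ^ k := by
  constructor
  · intro h
    obtain ⟨A, hA, rfl⟩ := hm.1
    exact h A hA.1 hA.2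
  · exact fun h A hc he => (hm.2 A ⟨hc, he⟩).trans h

theorem rk_pos {E : Type u} [Group E] [Finite E] (hE : Cfsg.IsExtraspecial 2 E) (n : ℕ)
    (hn : Nat.card E = 2 ^ (2 * n + 1)) : 1 ≤ n := by
  haveI : Fact (Nat.Prime 2) := ⟨Nat.prime_two⟩
  obtain ⟨m, hm1, hm, -⟩ := Cfsg.Agent.Solv.extraspecial_card hE
  have h1 := Nat.pow_right_injective (le_refl 2) (hn.symm.trans hm)
  omega

/-- Let E be an extraspecial 2-group of order 2^(2n+1). Then the largest elementary abelian subgroups of E have order 2^n or 2^(n+1); and two extraspecial 2-groups of the same order whose largest elementary abelian subgroups have the same order are isomorphic. -/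
theorem result {E : Type*} [Group E] [Finite E] (hE : Cfsg.IsExtraspecial 2 E) (n : ℕ) (hn : Nat.card E = 2 ^ (2 * n + 1)) : ((Cfsg.PRankLE 2 n E ∧ ¬ Cfsg.PRankLE 2 (n - 1) E) ∨ (Cfsg.PRankLE 2 (n + 1) E ∧ ¬ Cfsg.PRankLE 2 n E)) ∧ ∀ (E' : Type*) [Group E'] [Finite E'], Cfsg.IsExtraspecial 2 E' → Nat.card E' = Nat.card E → (∀ k : ℕ, Cfsg.PRankLE 2 k E ↔ Cfsg.PRankLE 2 k E') → Nonempty (E ≃* E') := by
  have hn1 := rk_pos hE n hn
  obtain ⟨z, hz⟩ := of_extraspecial hE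
  refine ⟨?_, fun E' _ _ hE' hc hrk => ?_⟩
  · obtain ⟨hR, -⟩ := Solv.ExtTwo.main.{u_1, u_1} n hn1 E z hz hn
    rcases hR with hR | hR
    · left
      rw [prank_iff hR, prank_iff hR, Nat.pow_le_pow_iff_right (by norm_num), Nat.pow_le_pow_iff_right (by norm_num)]
      omega
    · right
      rw [prank_iff hR, prank_iff hR, Nat.pow_le_pow_iff_right (by norm_num), Nat.pow_le_pow_iff_right (by norm_num)]
      omega
  · obtain ⟨z', hz'⟩ := of_extraspecial hE'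
    obtain ⟨hR, hiso⟩ := Solv.ExtTwo.main n hn1 E z hz hn
    obtain ⟨hR', -⟩ := Solv.ExtTwo.main.{u_2, u_1} n hn1 E' z' hz' (hc.trans hn)
    obtain ⟨m, k, hm, hmk⟩ : ∃ m k, IsRk E m ∧ m = 2 ^ k :=
      hR.elim (fun x => ⟨_, _, x, rfl⟩) (fun x => ⟨_, _, x, rfl⟩)
    obtain ⟨m', k', hm', hmk'⟩ : ∃ m k, IsRk E' m ∧ m = 2 ^ k :=
      hR'.elim (fun x => ⟨_, _, x, rfl⟩) (fun x => ⟨_, _, x, rfl⟩)
    subst hmk hmk'
    have h1 := (hrk k).1 ((prank_iff hm k).2 le_rfl)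
    have h2 := (hrk k').2 ((prank_iff hm' k').2 le_rfl)
    rw [prank_iff hm'] at h1
    rw [prank_iff hm] at h2
    obtain ⟨e, -⟩ := hiso E' z' hz' (hc.trans hn) _ hm (le_antisymm h2 h1 ▸ hm')
    exact ⟨e⟩

end Cfsg.Agent.S3763
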