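import Cfsg.Statements.S3764
import Cfsg.Agent.Lib.Solv.CoprimeCore
import Cfsg.Agent.Lib.Solv.ConjRep

set_option autoImplicit false
set_option linter.style.haveILetI false
open Cfsg

open scoped Pointwise commutatorElement

namespace Cfsg.Agent.S3764

theorem centralizer_singleton_le {G : Type*} [Group G] [Finite G] (X : Subgroup G) (x : G)
    (hx : Subgroup.zpowers x = X) :
    Subgroup.centralizer ({x} : Set G) = Subgroup.centralizer (X : Set G) := by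
  subst hx
  refine le_antisymm (fun g hg => ?_) (Subgroup.centralizer_le (by simp))
  rw [Subgroup.mem_centralizer_singleton_iff] at hg
  refine Subgroup.mem_centralizer_iff.2 fun y hy => ?_
  obtain ⟨k, rfl⟩ := Subgroup.mem_zpowers_iff.1 hy
  exact ((show Commute x g from hg.symm).zpow_left k).eq

theorem exists_gen {G : Type*} [Group G] [Finite G] {r : ℕ} (hr : r.Prime) (X : Subgroup G)
    (hX : Nat.card X = r) : ∃ x : G, x ∈ X ∧ orderOf x = r ∧ Subgroup.zpowers x = X := by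
  haveI : Fact r.Prime := ⟨hr⟩
  haveI := isCyclic_of_prime_card hX
  obtain ⟨⟨x, hx⟩, hg⟩ := IsCyclic.exists_generator (α := X)
  have hz : Subgroup.zpowers x = X := by
    refine le_antisymm ((Subgroup.zpowers_le).2 hx) fun y hy => ?_
    obtain ⟨k, hk⟩ := Subgroup.mem_zpowers_iff.1 (hg ⟨y, hy⟩)
    exact ⟨k, by simpa using congrArg Subtype.val hk⟩
  exact ⟨x, hx, by rw [← Nat.card_zpowers, hz, hX], hz⟩

theorem fixed_of_mod {E : Type*} [Group E] [Finite E] {p h : ℕ} (δ : MulAut E) (hδ : δ ^ h = 1)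
    (hco : h.Coprime p) {g : E} (hp : (g⁻¹ * δ g) ^ p = 1) (hf : δ (g⁻¹ * δ g) = g⁻¹ * δ g) :
    δ g = g := by
  obtain ⟨f, hfd⟩ : ∃ f, f = g⁻¹ * δ g := ⟨_, rfl⟩
  rw [← hfd] at hp hf
  have hg : δ g = g * f := by rw [hfd]; group
  have hpow : ∀ k : ℕ, (δ ^ k) g = g * f ^ k := by
    intro k
    induction k with
    | zero => simp
    | succ k ih => rw [pow_succ', MulAut.mul_apply, ih, map_mul, map_pow, hf, hg, pow_succ', mul_assoc]
  have h1 := hpow h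
  rw [hδ, MulAut.one_apply, eq_comm, mul_eq_left] at h1
  have h2 : f = 1 := by
    rw [← orderOf_eq_one_iff]
    exact Nat.eq_one_of_dvd_coprimes hco (orderOf_dvd_of_pow_eq_one h1) (orderOf_dvd_of_pow_eq_one hp)
  rw [hg, h2, mul_one]

theorem exists_center_nondeg {E : Type*} [Group E] [Finite E] {q : ℕ} [Fact q.Prime]
    {F : Type*} [Field F] {V : Type*} [AddCommGroup V] [Module F V] [FiniteDimensional F V]
    (hE : Cfsg.IsExtraspecial q E) (hqF : (q : F) ≠ 0) (ρ : E →* Module.End F V)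
    (hρ : ∀ g, ρ g = 1 → g = 1) :
    ∃ (U : Submodule F V) (hU : ∀ g, ∀ w ∈ U, ρ g w ∈ U),
      Cfsg.Agent.Solv.CRep.IsSimpleRep (Cfsg.Agent.Solv.CRep.subRep ρ U hU) ∧
        ∀ g, (∀ k, Cfsg.Agent.Solv.CRep.subRep ρ U hU ⁅g, k⁆ = 1) → g ∈ Subgroup.center E := by
  obtain ⟨c, hcm, hc1⟩ : ∃ c ∈ Subgroup.center E, c ≠ 1 := by
    refine (Subgroup.bot_or_exists_ne_one _).resolve_left fun h => ?_
    have := hE.2
    rw [h, Subgroup.card_bot] at this
    exact (Fact.out : q.Prime).one_lt.ne this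
  obtain ⟨U, hU, hs, z, hz, hzU⟩ : ∃ (U : Submodule F V) (hU : ∀ g, ∀ w ∈ U, ρ g w ∈ U),
      Cfsg.Agent.Solv.CRep.IsSimpleRep (Cfsg.Agent.Solv.CRep.subRep ρ U hU) ∧
        ∃ z ∈ Subgroup.center E, Cfsg.Agent.Solv.CRep.subRep ρ U hU z ≠ 1 := by
    by_contra hcon
    push Not at hcon
    refine hc1 (hρ c (Cfsg.Agent.Solv.CRep.triv_of_simple ρ (Subgroup.center E)
      (by rw [hE.2]; exact hqF) (fun U hU hs k hk w hw => ?_) c hcm))
    have h2 := congrArg Subtype.val (LinearMap.congr_fun (hcon U hU hs k hk) ⟨w, hw⟩)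
    simpa [Cfsg.Agent.Solv.CRep.subRep_apply] using h2
  refine ⟨U, hU, hs, fun g hg => Subgroup.mem_center_iff.2 fun k => ?_⟩
  have hmem : ⁅g, k⁆ ∈ Subgroup.center E := by
    rw [← hE.1.2.2]
    exact Subgroup.commutator_mem_commutator (Subgroup.mem_top g) (Subgroup.mem_top k)
  by_contra hne
  refine hzU ?_
  have h1 : (⟨⁅g, k⁆, hmem⟩ : Subgroup.center E) ≠ 1 := fun h =>
    hne (commutatorElement_eq_one_iff_mul_comm.1 (congrArg Subtype.val h)).symm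
  have hzc : (⟨z, hz⟩ : Subgroup.center E) ∈ Subgroup.zpowers (⟨⁅g, k⁆, hmem⟩ : Subgroup.center E) := by
    rw [zpowers_eq_top_of_prime_card hE.2 h1]; exact Subgroup.mem_top _
  obtain ⟨m, hm⟩ := Subgroup.mem_zpowers_iff.1 hzc
  have h3 : ⁅g, k⁆ ^ m = z := congrArg Subtype.val hm
  rw [← h3]
  exact MonoidHom.mem_ker.1 (Subgroup.zpow_mem (Cfsg.Agent.Solv.CRep.subRep ρ U hU).ker
    (show ⁅g, k⁆ ∈ _ from hg k) m)

/-- Let p, q, r be distinct primes and let X, Q, V be subgroups of a finite group with X of order r, Q an extraspecial q-group normalized by X with C_Q(X) = Z(Q), and V an elementary abelian p-group normalized by X and Q on which XQ acts faithfully ((X ⊔ Q) ∩ C(V) = 1). If C_V(X) = 1, then q = 2, r = 2^n + 1 for some n, and Q has order 2^(2n+1). -/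
theorem result {G : Type*} [Group G] [Finite G] {p q r : ℕ} (hp : p.Prime) (hq : q.Prime) (hr : r.Prime) (hpq : p ≠ q) (hpr : p ≠ r) (hqr : q ≠ r) (X Q V : Subgroup G) (hX : Nat.card X = r) (hQ : Cfsg.IsExtraspecial q ↥Q) (hXQ : X ≤ Subgroup.normalizer (Q : Set G)) (hCQ : Q ⊓ Subgroup.centralizer (X : Set G) = (Subgroup.center ↥Q).map Q.subtype) (hV : Cfsg.IsElementaryAbelian p V) (hXV : X ≤ Subgroup.normalizer (V : Set G)) (hQV : Q ≤ Subgroup.normalizer (V : Set G)) (hfaith : (X ⊔ Q) ⊓ Subgroup.centralizer (V : Set G) = ⊥) (hCV : V ⊓ Subgroup.centralizer (X : Set G) = ⊥) : q = 2 ∧ ∃ n : ℕ, r = 2 ^ n + 1 ∧ Nat.card Q = 2 ^ (2 * n + 1) := by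
  haveI : Fact p.Prime := ⟨hp⟩
  haveI : Fact q.Prime := ⟨hq⟩
  obtain ⟨x, hxX, hxo, hxz⟩ := exists_gen hr X hX
  obtain ⟨k, ρ, hρ, hsum, -⟩ := Cfsg.Agent.Solv.CRep.exists_conjRep (X ⊔ Q) V hV (sup_le hXV hQV)
    (AlgebraicClosure (ZMod p))
  have hcast : ∀ s : ℕ, s.Prime → p ≠ s → (s : AlgebraicClosure (ZMod p)) ≠ 0 := fun s hs hps h =>
    hps ((Nat.prime_dvd_prime_iff_eq hp hs).1
      ((CharP.cast_eq_zero_iff (AlgebraicClosure (ZMod p)) p s).1 h))
  have hxH : x ∈ X ⊔ Q := Subgroup.mem_sup_left hxX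
  have hxr : (⟨x, hxH⟩ : ↥(X ⊔ Q)) ^ r = 1 := Subtype.ext (by
    show x ^ r = 1
    rw [← hxo, pow_orderOf_eq_one])
  have hinj : ∀ g, ρ g = 1 → g = 1 := fun g hg =>
    Subtype.ext (Subgroup.mem_bot.1 (hfaith ▸ Subgroup.mem_inf.2 ⟨g.2, (hρ g).1 hg⟩))
  obtain ⟨ρQ, hρQ⟩ : ∃ ρQ, ρQ = ρ.comp (Subgroup.inclusion (le_sup_right : Q ≤ X ⊔ Q)) := ⟨_, rfl⟩
  obtain ⟨δ, hδ⟩ : ∃ δ : MulAut Q, ∀ z : Q, ((δ z : Q) : G) = x * z * x⁻¹ :=
    ⟨Subgroup.normalizerMonoidHom Q ⟨x, hXQ hxX⟩, fun z => rfl⟩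
  have hδpow : ∀ (a : ℕ) (z : Q), (((δ ^ a) z : Q) : G) = x ^ a * z * (x ^ a)⁻¹ := by
    intro a
    induction a with
    | zero => intro z; simp
    | succ a ih => intro z; rw [pow_succ, MulAut.mul_apply, ih, hδ, pow_succ]; group
  have hδ1 : δ ^ r = 1 := MulEquiv.ext fun z => Subtype.ext (by
    rw [hδpow, ← hxo, pow_orderOf_eq_one]; simp)
  have hint : ∀ g : Q, ρ ⟨x, hxH⟩ * ρQ g = ρQ (δ g) * ρ ⟨x, hxH⟩ := fun g => by
    rw [hρQ, MonoidHom.comp_apply, MonoidHom.comp_apply, ← map_mul, ← map_mul]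
    congr 1
    refine Subtype.ext ?_
    show x * g = ((δ g : Q) : G) * x
    rw [hδ]; group
  have hCx : Q ⊓ Subgroup.centralizer {x} = (Subgroup.center Q).map Q.subtype := by
    rw [centralizer_singleton_le X x hxz]; exact hCQ
  have hδc : ∀ z : Q, δ z = z ↔ z ∈ Subgroup.center Q := by
    intro z
    rw [← Subgroup.mem_map_iff_mem Q.subtype_injective, ← hCx, Subgroup.mem_inf,
      Subgroup.mem_centralizer_singleton_iff, Subtype.ext_iff, hδ, mul_inv_eq_iff_eq_mul]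
    exact ⟨fun h => ⟨z.2, h.symm⟩, fun h => h.2.symm⟩
  have hfree : ∀ g, g⁻¹ * δ g ∈ Subgroup.center Q → g ∈ Subgroup.center Q := fun g hg =>
    (hδc g).1 (fixed_of_mod δ hδ1 ((Nat.coprime_primes hr hq).2 hqr.symm) (by
      have h1 := pow_card_eq_one' (x := (⟨_, hg⟩ : Subgroup.center Q))
      rw [hQ.2] at h1
      exact congrArg Subtype.val h1) ((hδc _).2 hg))
  have hne : Subgroup.center Q ≠ ⊤ := fun h => by
    refine Cfsg.Agent.Solv.extraspecial_not_comm hQ ⟨⟨fun a b => ?_⟩⟩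
    exact Subgroup.mem_center_iff.1 (h ▸ Subgroup.mem_top b : b ∈ Subgroup.center Q) a
  obtain ⟨U, hU, hs, hnd⟩ := exists_center_nondeg hQ (hcast q hq hpq) ρQ fun g hg => by
    refine Subgroup.inclusion_injective le_sup_right ((hinj _ ?_).trans (map_one _).symm)
    rw [hρQ] at hg; exact hg
  have hd : commutator Q ≤ Subgroup.center Q := hQ.1.2.2.le
  obtain ⟨h2, n, hn, hidx⟩ := Cfsg.Agent.Solv.CRep.heisenberg_fpf hr hQ.1.1 (hcast q hq hpq)
    (hcast r hr hpr) ρQ δ hδ1 (ρ ⟨x, hxH⟩) hint (by rw [← map_pow, hxr, map_one])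
    (hsum ⟨x, hxH⟩ r hxr (by rw [centralizer_singleton_le X x hxz]; exact hCV))
    U hU hs (Subgroup.center Q) le_rfl hd hnd hne (fun z hz => (hδc z).2 hz) hfree
  refine ⟨h2, n, hn, ?_⟩
  rw [← (Subgroup.center Q).card_mul_index, hQ.2, hidx, h2, ← pow_succ']

end Cfsg.Agent.S3764
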