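import Cfsg.Statements.S3765
import Cfsg.Agent.Lib.Solv.CoprimeCore
import Cfsg.Agent.Lib.Solv.ConjRep

set_option autoImplicit false
set_option linter.style.haveILetI false
open Cfsg

open scoped Pointwise commutatorElement

namespace Cfsg.Agent.S3765

theorem centralizer_singleton_le {G : Type*} [Group G] [Finite G] (X : Subgroup G) (x : G)
    (hx : Subgroup.zpowers x = X) :
    Subgroup.centralizer ({x} : Set G) = Subgroup.centralizer (X : Set G) := by
  subst hx
  refine le_antisymm (fun g hg => ?_) (Subgroup.centralizer_le (by simp))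
  rw [Subgroup.mem_centralizer_singleton_iff] at hg
  refine Subgroup.mem_centralizer_iff.2 fun y hy => ?_
  obtain ⟨k, rfl⟩ := Subgroup.mem_zpowers_iff.1 hy
  exact ((show Commute x g from hg.symm).zpow_left k).eq

theorem exists_gen {G : Type*} [Group G] [Finite G] {r : ℕ} (hr : r.Prime) (X : Subgroup G)
    (hX : Nat.card X = r) : ∃ x : G, x ∈ X ∧ orderOf x = r ∧ Subgroup.zpowers x = X := by
  haveI : Fact r.Prime := ⟨hr⟩
  haveI := isCyclic_of_prime_card hX
  obtain ⟨⟨x, hx⟩, hg⟩ := IsCyclic.exists_generator (α := X)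
  have hz : Subgroup.zpowers x = X := by
    refine le_antisymm ((Subgroup.zpowers_le).2 hx) fun y hy => ?_
    obtain ⟨k, hk⟩ := Subgroup.mem_zpowers_iff.1 (hg ⟨y, hy⟩)
    exact ⟨k, by simpa using congrArg Subtype.val hk⟩
  exact ⟨x, hx, by rw [← Nat.card_zpowers, hz, hX], hz⟩

/-- Let p, q, r be distinct primes and let X, Q, V be subgroups of a finite group with X of order r normalizing the q-group Q and acting faithfully on it (X ∩ C(Q) = 1), and V a nontrivial elementary abelian p-group normalized by X and Q on which XQ acts faithfully. If q = 2 and r has the form 2^n + 1, assume in addition that Q is abelian. Then C_V(X) ≠ 1. -/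
theorem result {G : Type*} [Group G] [Finite G] {p q r : ℕ} (hp : p.Prime) (hq : q.Prime) (hr : r.Prime) (hpq : p ≠ q) (hpr : p ≠ r) (hqr : q ≠ r) (X Q V : Subgroup G) (hX : Nat.card X = r) (hQ : IsPGroup q Q) (hXQ : X ≤ Subgroup.normalizer (Q : Set G)) (hXfaith : X ⊓ Subgroup.centralizer (Q : Set G) = ⊥) (hV : Cfsg.IsElementaryAbelian p V) (hV1 : V ≠ ⊥) (hXV : X ≤ Subgroup.normalizer (V : Set G)) (hQV : Q ≤ Subgroup.normalizer (V : Set G)) (hfaith : (X ⊔ Q) ⊓ Subgroup.centralizer (V : Set G) = ⊥) (hexc : q = 2 → (∃ n : ℕ, r = 2 ^ n + 1) → IsMulCommutative Q) : V ⊓ Subgroup.centralizer (X : Set G) ≠ ⊥ := by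
  haveI : Fact p.Prime := ⟨hp⟩
  haveI : Fact q.Prime := ⟨hq⟩
  intro hbot
  obtain ⟨x, hxX, hxo, hxz⟩ := exists_gen hr X hX
  obtain ⟨k, ρ, hρ, hsum, -⟩ := Cfsg.Agent.Solv.CRep.exists_conjRep (X ⊔ Q) V hV (sup_le hXV hQV)
    (AlgebraicClosure (ZMod p))
  have hcast : ∀ s : ℕ, s.Prime → p ≠ s → (s : AlgebraicClosure (ZMod p)) ≠ 0 := fun s hs hps h =>
    hps ((Nat.prime_dvd_prime_iff_eq hp hs).1
      ((CharP.cast_eq_zero_iff (AlgebraicClosure (ZMod p)) p s).1 h))
  have hxH : x ∈ X ⊔ Q := Subgroup.mem_sup_left hxX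
  have hxr : (⟨x, hxH⟩ : ↥(X ⊔ Q)) ^ r = 1 := Subtype.ext (by
    show x ^ r = 1
    rw [← hxo, pow_orderOf_eq_one])
  obtain ⟨h2, hn, hnab⟩ := Cfsg.Agent.Solv.CRep.core (q := q) hr hqr (hcast q hq hpq) (hcast r hr hpr) ρ
    (fun g hg => Subtype.ext (Subgroup.mem_bot.1 (hfaith ▸ Subgroup.mem_inf.2 ⟨g.2, (hρ g).1 hg⟩)))
    (Q.subgroupOf (X ⊔ Q)) ⟨x, hxH⟩
    (hQ.of_equiv (Subgroup.subgroupOfEquivOfLe le_sup_right).symm)
    (by rw [Subgroup.orderOf_mk]; exact hxo)
    (by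
      rw [Subgroup.mem_normalizer_iff]
      intro y
      simp only [Subgroup.mem_subgroupOf, Subgroup.coe_mul, Subgroup.coe_inv]
      exact Subgroup.mem_normalizer_iff.1 (hXQ hxX) y)
    (fun h => by
      have hc : x ∈ Subgroup.centralizer (Q : Set G) := by
        refine Subgroup.mem_centralizer_iff.2 fun y hy => ?_
        have hy' : (⟨y, Subgroup.mem_sup_right hy⟩ : ↥(X ⊔ Q)) ∈ Q.subgroupOf (X ⊔ Q) := hy
        have h1 := Subgroup.commutator_mem_commutator hy'
          (Subgroup.mem_zpowers (⟨x, hxH⟩ : ↥(X ⊔ Q)))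
        rw [h, Subgroup.mem_bot] at h1
        exact congrArg (fun z : ↥(X ⊔ Q) => (z : G)) (commutatorElement_eq_one_iff_mul_comm.1 h1)
      have h2 := Subgroup.mem_inf.2 ⟨hxX, hc⟩
      rw [hXfaith, Subgroup.mem_bot] at h2
      rw [h2, orderOf_one] at hxo
      exact hr.one_lt.ne hxo)
    (hsum ⟨x, hxH⟩ r hxr (by rw [centralizer_singleton_le X x hxz]; exact hbot))
  refine hnab ?_
  haveI := hexc h2 hn
  exact ⟨⟨fun a b => Subtype.ext (Subtype.ext (by
    exact congrArg (fun z : Q => (z : G))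
      (IsMulCommutative.is_comm.comm (⟨_, a.2⟩ : Q) ⟨_, b.2⟩)))⟩⟩

end Cfsg.Agent.S3765
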