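import Cfsg.Statements.S3766
import Cfsg.Agent.Lib.Solv.Cores

set_option autoImplicit false
set_option linter.style.haveILetI false
open Cfsg

open scoped Pointwise commutatorElement

namespace Cfsg.Agent.S3766

/-- Let G be a finite solvable group and N a normal subgroup of G. Call a pair V < U of normal subgroups of G a chief factor of G when no normal subgroup of G lies strictly between them; an element g centralizes the chief factor U/V when u g u⁻¹ g⁻¹ ∈ V for all u ∈ U. Then an element of G lies in the Fitting subgroup F(N) if and only if it lies in N and centralizes every chief factor of G; and also if and only if it lies in N and centralizes every chief factor U/V of G with U ≤ F(N). -/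
theorem result {G : Type*} [Group G] [Finite G] (hG : Group.IsSolvable G) (N : Subgroup G) [N.Normal] (g : G) : (g ∈ (Cfsg.fittingSubgroup ↥N).map N.subtype ↔ g ∈ N ∧ ∀ U V : Subgroup G, (U.Normal ∧ V.Normal ∧ V < U ∧ ∀ W : Subgroup G, W.Normal → V ≤ W → W ≤ U → W = V ∨ W = U) → ∀ u ∈ U, u * g * u⁻¹ * g⁻¹ ∈ V) ∧ (g ∈ (Cfsg.fittingSubgroup ↥N).map N.subtype ↔ g ∈ N ∧ ∀ U V : Subgroup G, (U.Normal ∧ V.Normal ∧ V < U ∧ ∀ W : Subgroup G, W.Normal → V ≤ W → W ≤ U → W = V ∨ W = U) → U ≤ (Cfsg.fittingSubgroup ↥N).map N.subtype → ∀ u ∈ U, u * g * u⁻¹ * g⁻¹ ∈ V) := by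
  obtain ⟨F, hF⟩ : ∃ F, F = (Cfsg.fittingSubgroup ↥N).map N.subtype := ⟨_, rfl⟩
  rw [← hF]
  haveI := Solv.fittingSubgroup_normal (G := N)
  haveI : (Cfsg.fittingSubgroup N).Characteristic := by
    refine Subgroup.characteristic_iff_map_le.2 fun e => ?_
    haveI : ((Cfsg.fittingSubgroup N).map e.toMonoidHom).Normal :=
      Subgroup.Normal.map inferInstance _ e.surjective
    refine Solv.normal_le_fitting ?_
    haveI := Solv.fittingSubgroup_nilpotent (G := N)
    exact Group.nilpotent_of_mulEquiv ((Cfsg.fittingSubgroup N).equivMapOfInjective e.toMonoidHom e.injective)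
  haveI hFn : F.Normal := hF ▸ inferInstance
  haveI hFnil : Group.IsNilpotent F := by
    rw [hF]
    haveI := Solv.fittingSubgroup_nilpotent (G := N)
    exact Group.nilpotent_of_mulEquiv ((Cfsg.fittingSubgroup N).equivMapOfInjective N.subtype N.subtype_injective)
  have hFN : F ≤ N := hF ▸ Subgroup.map_subtype_le _
  -- the Fitting subgroup centralizes every chief factor
  have hfwd : ∀ U V : Subgroup G, (U.Normal ∧ V.Normal ∧ V < U ∧ ∀ W : Subgroup G, W.Normal → V ≤ W → W ≤ U → W = V ∨ W = U) →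
      ∀ g ∈ F, ∀ u ∈ U, u * g * u⁻¹ * g⁻¹ ∈ V := by
    rintro U V ⟨hU, hV, hlt, hmax⟩ g hg u hu
    haveI := hU; haveI := hV
    rcases hmax (V ⊔ ⁅U, F⁆) inferInstance le_sup_left (sup_le hlt.le (Subgroup.commutator_le_left U F)) with h | h
    · rw [← commutatorElement_def]
      exact h ▸ Subgroup.mem_sup_right (Subgroup.commutator_mem_commutator hu hg)
    exfalso
    obtain ⟨f, hf⟩ : ∃ f, f = QuotientGroup.mk' V := ⟨_, rfl⟩
    have hVker : V.map f = ⊥ := by rw [hf, Subgroup.map_eq_bot_iff, QuotientGroup.ker_mk']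
    have hUe : U.map f = ⁅U.map f, F.map f⁆ := by
      nth_rewrite 1 [← h]
      rw [Subgroup.map_sup, hVker, bot_sup_eq, Subgroup.map_commutator]
    haveI : (F.map f).Normal := hFn.map f (hf ▸ QuotientGroup.mk'_surjective V)
    have hlcs : ∀ n, U.map f ≤ (F.lowerCentralSeries n).map f := by
      intro n
      induction n with
      | zero => rw [hUe, Subgroup.lowerCentralSeries_zero]; exact Subgroup.commutator_le_right _ _
      | succ n ih =>
        rw [hUe, Subgroup.lowerCentralSeries_succ, Subgroup.map_commutator]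
        exact Subgroup.commutator_mono ih le_rfl
    obtain ⟨n, hn⟩ := (Subgroup.isNilpotent_iff_lowerCentralSeries F).1 hFnil
    have h1 := hlcs n
    rw [hn, Subgroup.map_bot, le_bot_iff, Subgroup.map_eq_bot_iff, hf, QuotientGroup.ker_mk'] at h1
    exact hlt.ne (le_antisymm hlt.le h1)
  -- elements centralizing the chief factors below the Fitting subgroup
  obtain ⟨K, hK⟩ : ∃ K : Subgroup G, ∀ a, a ∈ K ↔ a ∈ N ∧ ∀ U V : Subgroup G, (U.Normal ∧ V.Normal ∧ V < U ∧ ∀ W : Subgroup G, W.Normal → V ≤ W → W ≤ U → W = V ∨ W = U) →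
      U ≤ F → ∀ u ∈ U, u * a * u⁻¹ * a⁻¹ ∈ V :=
    ⟨{ carrier := {a | a ∈ N ∧ ∀ U V : Subgroup G, (U.Normal ∧ V.Normal ∧ V < U ∧ ∀ W : Subgroup G, W.Normal → V ≤ W → W ≤ U → W = V ∨ W = U) →
          U ≤ F → ∀ u ∈ U, u * a * u⁻¹ * a⁻¹ ∈ V}
       one_mem' := ⟨one_mem N, fun U V _ _ u _ => by simp⟩
       mul_mem' := fun {a b} ha hb => ⟨mul_mem ha.1 hb.1, fun U V hUV hUF u hu => by
        have h1 := mul_mem (ha.2 U V hUV hUF u hu) (hUV.2.1.conj_mem _ (hb.2 U V hUV hUF u hu) a)
        convert h1 using 1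
        group⟩
       inv_mem' := fun {a} ha => ⟨inv_mem ha.1, fun U V hUV hUF u hu => by
        have h1 := hUV.2.1.conj_mem _ (inv_mem (ha.2 U V hUV hUF u hu)) a⁻¹
        convert h1 using 1
        group⟩ }, fun _ => Iff.rfl⟩
  haveI : K.Normal := ⟨fun a ha x => (hK _).2 ⟨(inferInstance : N.Normal).conj_mem a ((hK a).1 ha).1 x,
    fun U V hUV hUF u hu => by
      have h1 := hUV.2.1.conj_mem _ (((hK a).1 ha).2 U V hUV hUF (x⁻¹ * u * x)
        (by simpa using hUV.1.conj_mem u hu x⁻¹)) x
      convert h1 using 1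
      group⟩⟩
  have hKN : K ≤ N := fun a ha => ((hK a).1 ha).1
  -- a normal subgroup of `K` with derived subgroup in `F` is nilpotent
  have hnil : ∀ M : Subgroup G, M.Normal → M ≤ K → ⁅M, M⁆ ≤ F → M ≤ F := by
    intro M hM hMK hMF
    haveI := hM
    have hdown : ∀ U : Subgroup G, U.Normal → U ≤ F → ∀ n, M.lowerCentralSeries n ≤ U →
        ∃ m, M.lowerCentralSeries m = ⊥ := by
      intro U
      induction U using (wellFounded_lt (α := Subgroup G)).induction with
      | _ U ih =>
        intro hU hUF n hn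
        by_cases hUb : U = ⊥
        · exact ⟨n, le_bot_iff.1 (hUb ▸ hn)⟩
        obtain ⟨V, ⟨hV, hVU⟩, hVmax⟩ := (Set.toFinite {V : Subgroup G | V.Normal ∧ V < U}).exists_maximal
          ⟨⊥, inferInstance, bot_lt_iff_ne_bot.2 hUb⟩
        have hchief : U.Normal ∧ V.Normal ∧ V < U ∧
            ∀ W : Subgroup G, W.Normal → V ≤ W → W ≤ U → W = V ∨ W = U := by
          refine ⟨hU, hV, hVU, fun W hW hVW hWU => ?_⟩
          by_cases h : W = U
          · exact Or.inr h
          · exact Or.inl (le_antisymm (hVmax (y := W) ⟨hW, lt_of_le_of_ne hWU h⟩ hVW) hVW)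
        refine ih V hVU hV (hVU.le.trans hUF) (n + 1) ?_
        rw [Subgroup.lowerCentralSeries_succ]
        refine Subgroup.commutator_le.2 fun u hu a ha => ?_
        rw [commutatorElement_def]
        exact ((hK a).1 (hMK ha)).2 U V hchief hUF u (hn hu)
    obtain ⟨m, hm⟩ := hdown F hFn le_rfl 1 (by
      rw [Subgroup.lowerCentralSeries_succ, Subgroup.lowerCentralSeries_zero]; exact hMF)
    have hMnil : Group.IsNilpotent M := (Subgroup.isNilpotent_iff_lowerCentralSeries M).2 ⟨m, hm⟩
    have hMN : M ≤ N := hMK.trans hKN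
    haveI : Group.IsNilpotent (M.subgroupOf N) :=
      Group.nilpotent_of_mulEquiv (Subgroup.subgroupOfEquivOfLe hMN).symm
    have h1 := Subgroup.map_mono (f := N.subtype) (Solv.normal_le_fitting (N := M.subgroupOf N) inferInstance)
    rwa [Subgroup.map_subgroupOf_eq_of_le hMN, ← hF] at h1
  have hKF : K ≤ F := by
    obtain ⟨n, hn⟩ := hG.solvable
    have hdown : ∀ i, K ⊓ derivedSeries G (n - i) ≤ F := by
      intro i
      induction i with
      | zero => rw [Nat.sub_zero, hn, inf_bot_eq]; exact bot_le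
      | succ i ih =>
        rcases Nat.lt_or_ge i n with h | h
        · haveI := derivedSeries_normal G (n - (i + 1))
          refine hnil _ inferInstance inf_le_left (le_trans (le_inf ?_ ?_) ih)
          · exact (Subgroup.commutator_le_left _ _).trans inf_le_left
          · rw [show n - i = n - (i + 1) + 1 by omega, derivedSeries_succ]
            exact Subgroup.commutator_mono inf_le_right inf_le_right
        · rwa [show n - (i + 1) = n - i by omega]
    have := hdown n
    rwa [Nat.sub_self, derivedSeries_zero, inf_top_eq] at this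
  constructor
  · exact ⟨fun hg => ⟨hFN hg, fun U V hUV u hu => hfwd U V hUV g hg u hu⟩,
      fun h => hKF ((hK g).2 ⟨h.1, fun U V hUV _ => h.2 U V hUV⟩)⟩
  · exact ⟨fun hg => ⟨hFN hg, fun U V hUV _ u hu => hfwd U V hUV g hg u hu⟩,
      fun h => hKF ((hK g).2 h)⟩

end Cfsg.Agent.S3766
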