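import Cfsg.Statements.S3767
import Cfsg.Agent.Lib.Solv.Heisenberg

set_option autoImplicit false
set_option linter.style.haveILetI false
open Cfsg

open scoped Pointwise commutatorElement

namespace Cfsg.Agent.S3767

theorem fixed_of_mod {E : Type*} [Group E] [Finite E] {p h : ℕ} (δ : MulAut E) (hδ : δ ^ h = 1)
    (hco : h.Coprime p) {g : E} (hp : (g⁻¹ * δ g) ^ p = 1) (hf : δ (g⁻¹ * δ g) = g⁻¹ * δ g) :
    δ g = g := by
  obtain ⟨f, hfd⟩ : ∃ f, f = g⁻¹ * δ g := ⟨_, rfl⟩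
  rw [← hfd] at hp hf
  have hg : δ g = g * f := by rw [hfd]; group
  have hpow : ∀ k : ℕ, (δ ^ k) g = g * f ^ k := by
    intro k
    induction k with
    | zero => simp
    | succ k ih => rw [pow_succ', MulAut.mul_apply, ih, map_mul, map_pow, hf, hg, pow_succ', mul_assoc]
  have h1 := hpow h
  rw [hδ, MulAut.one_apply, eq_comm, mul_eq_left] at h1
  have h2 : f = 1 := by
    rw [← orderOf_eq_one_iff]
    exact Nat.eq_one_of_dvd_coprimes hco (orderOf_dvd_of_pow_eq_one h1) (orderOf_dvd_of_pow_eq_one hp)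
  rw [hg, h2, mul_one]

theorem exists_center_nondeg {E : Type*} [Group E] [Finite E] {q : ℕ} [Fact q.Prime]
    {F : Type*} [Field F] {V : Type*} [AddCommGroup V] [Module F V] [FiniteDimensional F V]
    (hE : Cfsg.IsExtraspecial q E) (hqF : (q : F) ≠ 0) (ρ : E →* Module.End F V)
    (hρ : ∀ g, ρ g = 1 → g = 1) :
    ∃ (U : Submodule F V) (hU : ∀ g, ∀ w ∈ U, ρ g w ∈ U),
      Cfsg.Agent.Solv.CRep.IsSimpleRep (Cfsg.Agent.Solv.CRep.subRep ρ U hU) ∧
        ∀ g, (∀ k, Cfsg.Agent.Solv.CRep.subRep ρ U hU ⁅g, k⁆ = 1) → g ∈ Subgroup.center E := by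
  obtain ⟨c, hcm, hc1⟩ : ∃ c ∈ Subgroup.center E, c ≠ 1 := by
    refine (Subgroup.bot_or_exists_ne_one _).resolve_left fun h => ?_
    have := hE.2
    rw [h, Subgroup.card_bot] at this
    exact (Fact.out : q.Prime).one_lt.ne this
  obtain ⟨U, hU, hs, z, hz, hzU⟩ : ∃ (U : Submodule F V) (hU : ∀ g, ∀ w ∈ U, ρ g w ∈ U),
      Cfsg.Agent.Solv.CRep.IsSimpleRep (Cfsg.Agent.Solv.CRep.subRep ρ U hU) ∧
        ∃ z ∈ Subgroup.center E, Cfsg.Agent.Solv.CRep.subRep ρ U hU z ≠ 1 := by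
    by_contra hcon
    push Not at hcon
    refine hc1 (hρ c (Cfsg.Agent.Solv.CRep.triv_of_simple ρ (Subgroup.center E)
      (by rw [hE.2]; exact hqF) (fun U hU hs k hk w hw => ?_) c hcm))
    have h2 := congrArg Subtype.val (LinearMap.congr_fun (hcon U hU hs k hk) ⟨w, hw⟩)
    simpa [Cfsg.Agent.Solv.CRep.subRep_apply] using h2
  refine ⟨U, hU, hs, fun g hg => Subgroup.mem_center_iff.2 fun k => ?_⟩
  have hmem : ⁅g, k⁆ ∈ Subgroup.center E := by
    rw [← hE.1.2.2]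
    exact Subgroup.commutator_mem_commutator (Subgroup.mem_top g) (Subgroup.mem_top k)
  by_contra hne
  refine hzU ?_
  have h1 : (⟨⁅g, k⁆, hmem⟩ : Subgroup.center E) ≠ 1 := fun h =>
    hne (commutatorElement_eq_one_iff_mul_comm.1 (congrArg Subtype.val h)).symm
  have hzc : (⟨z, hz⟩ : Subgroup.center E) ∈ Subgroup.zpowers (⟨⁅g, k⁆, hmem⟩ : Subgroup.center E) := by
    rw [zpowers_eq_top_of_prime_card hE.2 h1]; exact Subgroup.mem_top _
  obtain ⟨m, hm⟩ := Subgroup.mem_zpowers_iff.1 hzc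
  have h3 : ⁅g, k⁆ ^ m = z := congrArg Subtype.val hm
  rw [← h3]
  exact MonoidHom.mem_ker.1 (Subgroup.zpow_mem (Cfsg.Agent.Solv.CRep.subRep ρ U hU).ker
    (show ⁅g, k⁆ ∈ _ from hg k) m)

/-- Let P be an extraspecial p-group of order p^(2n+1) and H a cyclic group of order h prime to p acting on P (inside a common finite group: H normalizes P) so that C_P(x) = Z(P) for every non-identity x ∈ H. Then h divides p^n + 1 or h divides p^n − 1. -/
theorem result {G : Type*} [Group G] [Finite G] {p : ℕ} [Fact p.Prime] (P H : Subgroup G) (hP : Cfsg.IsExtraspecial p ↥P) (n : ℕ) (hn : Nat.card P = p ^ (2 * n + 1)) (hH : IsCyclic H) (hcop : (Nat.card H).Coprime p) (hHP : H ≤ Subgroup.normalizer (P : Set G)) (hfix : ∀ x ∈ H, x ≠ 1 → P ⊓ Subgroup.centralizer {x} = (Subgroup.center ↥P).map P.subtype) : Nat.card H ∣ p ^ n + 1 ∨ Nat.card H ∣ p ^ n - 1 := by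
  have hp : p.Prime := Fact.out
  obtain ⟨x, hxH, hxz, hxo⟩ : ∃ x : G, x ∈ H ∧ Subgroup.zpowers x = H ∧ orderOf x = Nat.card H := by
    obtain ⟨⟨x, hx⟩, hg⟩ := hH.exists_generator
    have hz : Subgroup.zpowers x = H := by
      refine le_antisymm ((Subgroup.zpowers_le).2 hx) fun y hy => ?_
      obtain ⟨k, hk⟩ := Subgroup.mem_zpowers_iff.1 (hg ⟨y, hy⟩)
      exact ⟨k, by simpa using congrArg Subtype.val hk⟩
    exact ⟨x, hx, hz, by rw [← Nat.card_zpowers, hz]⟩
  obtain ⟨h, hhd⟩ : ∃ h, h = Nat.card H := ⟨_, rfl⟩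
  rw [← hhd] at hcop hxo ⊢
  rcases Nat.lt_or_ge h 2 with hlt | hge
  · left
    have : 0 < h := hhd ▸ Nat.card_pos
    rw [show h = 1 by omega]
    exact one_dvd _
  obtain ⟨δ, hδ⟩ : ∃ δ : MulAut P, ∀ z : P, ((δ z : P) : G) = x * z * x⁻¹ :=
    ⟨Subgroup.normalizerMonoidHom P ⟨x, hHP hxH⟩, fun z => rfl⟩
  have hδpow : ∀ (a : ℕ) (z : P), (((δ ^ a) z : P) : G) = x ^ a * z * (x ^ a)⁻¹ := by
    intro a
    induction a with
    | zero => intro z; simp
    | succ a ih => intro z; rw [pow_succ, MulAut.mul_apply, ih, hδ, pow_succ]; group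
  have hδ1 : δ ^ h = 1 := MulEquiv.ext fun z => Subtype.ext (by
    rw [hδpow, ← hxo, pow_orderOf_eq_one]; simp)
  have hfixi : ∀ i, 0 < i → i < h → ∀ z : P, (δ ^ i) z = z ↔ z ∈ Subgroup.center P := by
    intro i hi0 hih z
    have hx1 : x ^ i ≠ 1 := fun e => by
      have := Nat.le_of_dvd hi0 (orderOf_dvd_of_pow_eq_one e)
      omega
    rw [← Subgroup.mem_map_iff_mem P.subtype_injective, ← hfix _ (pow_mem hxH i) hx1,
      Subgroup.mem_inf, Subgroup.mem_centralizer_singleton_iff, Subtype.ext_iff, hδpow,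
      mul_inv_eq_iff_eq_mul]
    exact ⟨fun e => ⟨z.2, e.symm⟩, fun e => e.2.symm⟩
  obtain ⟨ρ, hρdef⟩ : ∃ ρ : P →* Module.End (AlgebraicClosure ℚ) (P → AlgebraicClosure ℚ),
      ∀ g f u, ρ g f u = f (u * g) :=
    ⟨{ toFun := fun g => LinearMap.funLeft (AlgebraicClosure ℚ) (AlgebraicClosure ℚ) (· * g)
       map_one' := LinearMap.ext fun f => funext fun u => by simp [LinearMap.funLeft_apply]
       map_mul' := fun a b => LinearMap.ext fun f => funext fun u => by
        simp [LinearMap.funLeft_apply, Module.End.mul_apply, mul_assoc] }, fun g f u => rfl⟩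
  have hfaith : ∀ g, ρ g = 1 → g = 1 := by
    classical
    intro g hg
    by_contra hne
    have h1 := congrFun (LinearMap.congr_fun hg (Pi.single 1 1)) 1
    rw [hρdef, one_mul, Module.End.one_apply, Pi.single_eq_same, Pi.single_eq_of_ne hne] at h1
    exact zero_ne_one h1
  obtain ⟨U, hU, hs, hnd⟩ := exists_center_nondeg hP (Nat.cast_ne_zero.2 hp.ne_zero) ρ hfaith
  have hne : Subgroup.center P ≠ ⊤ := fun e => by
    refine Cfsg.Agent.Solv.extraspecial_not_comm hP ⟨⟨fun a b => ?_⟩⟩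
    exact Subgroup.mem_center_iff.1 (e ▸ Subgroup.mem_top b : b ∈ Subgroup.center P) a
  have hidx : (Subgroup.center P).index = p ^ (2 * n) := by
    have h1 := (Subgroup.center P).card_mul_index
    rw [hP.2, hn, pow_succ'] at h1
    exact Nat.eq_of_mul_eq_mul_left hp.pos h1
  have hN : ((Subgroup.center P).index : AlgebraicClosure ℚ) ≠ 0 :=
    Nat.cast_ne_zero.2 (by rw [hidx]; exact (pow_pos hp.pos _).ne')
  have hfree : ∀ i, 0 < i → i < h → ∀ g, g⁻¹ * (δ ^ i) g ∈ Subgroup.center P →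
      g ∈ Subgroup.center P := by
    intro i hi0 hih g hg
    refine (hfixi i hi0 hih g).1 (fixed_of_mod (δ ^ i) (h := h) (by
      rw [← pow_mul, mul_comm, pow_mul, hδ1, one_pow]) hcop (p := p) ?_ ((hfixi i hi0 hih _).2 hg))
    have h1 := pow_card_eq_one' (x := (⟨_, hg⟩ : Subgroup.center P))
    rw [hP.2] at h1
    exact congrArg Subtype.val h1
  have hd : commutator P ≤ Subgroup.center P := hP.1.2.2.le
  obtain ⟨hdiv, -⟩ := Cfsg.Agent.Solv.CRep.heisenberg_main hs le_rfl hd hnd hN δ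
    (fun z hz => by
      have := (hfixi 1 one_pos (by omega) z).2 hz
      rwa [pow_one] at this)
    hge hδ1 (Nat.cast_ne_zero.2 (by omega)) hne hfree
  have hsq := Cfsg.Agent.Solv.CRep.finrank_sq hs le_rfl hd hnd hN
  rw [hidx, show 2 * n = n + n by ring, pow_add, ← sq, ← sq] at hsq
  rwa [Nat.pow_left_injective (by norm_num : (2 : ℕ) ≠ 0) hsq] at hdiv

end Cfsg.Agent.S3767
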