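import Cfsg.Statements.S3768
import Cfsg.Agent.Lib.Solv.FrobeniusFPF

set_option autoImplicit false
set_option linter.style.haveILetI false
open Cfsg

open scoped Pointwise commutatorElement

namespace Cfsg.Agent.S3768

/-- Let G be a finite Frobenius group with Frobenius complement R and Frobenius kernel K (the identity together with the elements in no conjugate of R), and let N be a normal subgroup of G not containing K. Then G/N is a Frobenius group with Frobenius complement RN/N whose Frobenius kernel is the image of K. -/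
theorem result {G : Type*} [Group G] [Finite G] (R : Subgroup G) (hR : Cfsg.IsFrobeniusComplement R) (N : Subgroup G) [N.Normal] (hKN : ¬ Cfsg.frobeniusKernel R ⊆ N) : Cfsg.IsFrobeniusComplement (R.map (QuotientGroup.mk' N)) ∧ Cfsg.frobeniusKernel (R.map (QuotientGroup.mk' N)) = QuotientGroup.mk' N '' Cfsg.frobeniusKernel R := by
  obtain ⟨K, hK, hKn, hKc⟩ := Solv.frobenius_theorem hR
  haveI := hKn
  have hKR : K ⊓ R = ⊥ := disjoint_iff.1 hKc.disjoint
  have hfpf : ∀ r ∈ R, r ≠ 1 → ∀ a ∈ K, ∀ b ∈ K, ⁅a, r⁆ = ⁅b, r⁆ → a = b := by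
    intro r hr hr1 a ha b hb h
    have h1 : a * r * a⁻¹ = b * r * b⁻¹ := by
      rw [commutatorElement_def, commutatorElement_def] at h
      exact mul_right_cancel h
    have h2 : b⁻¹ * a ∈ K ⊓ Subgroup.centralizer {r} :=
      Subgroup.mem_inf.2 ⟨mul_mem (inv_mem hb) ha, Subgroup.mem_centralizer_singleton_iff.2 (by
        calc b⁻¹ * a * r = b⁻¹ * (a * r * a⁻¹) * a := by group
          _ = r * (b⁻¹ * a) := by rw [h1]; group)⟩
    rw [Solv.frob_fpf hR hKR hr hr1, Subgroup.mem_bot] at h2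
    exact (inv_mul_eq_one.1 h2).symm
  -- commutation with `r` permutes an invariant part of the kernel
  have hsurj : ∀ r ∈ R, r ≠ 1 → ∀ M : Subgroup G, M ≤ K → M.Normal → ∀ u ∈ M, ∃ a ∈ M, ⁅a, r⁆ = u := by
    intro r hr hr1 M hMK hM u hu
    have hmem : ∀ a : M, ⁅(a : G), r⁆ ∈ M := fun a => by
      rw [commutatorElement_def, show (a : G) * r * (a : G)⁻¹ * r⁻¹ = a * (r * (a : G)⁻¹ * r⁻¹) by group]
      exact mul_mem a.2 (hM.conj_mem _ (inv_mem a.2) r)
    obtain ⟨a, ha⟩ := (Finite.injective_iff_surjective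
      (f := fun a : M => (⟨⁅(a : G), r⁆, hmem a⟩ : M))).1 (fun a b h => Subtype.ext
        (hfpf r hr hr1 _ (hMK a.2) _ (hMK b.2) (congrArg Subtype.val h))) ⟨u, hu⟩
    exact ⟨a, a.2, congrArg Subtype.val ha⟩
  have hNK : N ≤ K := by
    intro x hx
    by_contra hxK
    have hxk : x ∉ Cfsg.frobeniusKernel R := fun h => hxK (hK.symm.le h)
    simp only [Cfsg.frobeniusKernel, Set.mem_setOf_eq, not_or, not_forall, not_not] at hxk
    obtain ⟨hx1, g, hg⟩ := hxk
    rw [Solv.mem_conj_smul] at hg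
    have hr : g⁻¹ * x * g ∈ N := by simpa using (inferInstance : N.Normal).conj_mem x hx g⁻¹
    have hr1 : g⁻¹ * x * g ≠ 1 := fun e => hx1 (by
      simpa [mul_assoc] using congrArg (fun t => g * t * g⁻¹) e)
    refine hKN fun u hu => ?_
    obtain ⟨a, -, rfl⟩ := hsurj _ hg hr1 K le_rfl hKn u (hK.ge hu)
    rw [commutatorElement_def]
    exact mul_mem ((inferInstance : N.Normal).conj_mem _ hr a) (inv_mem hr)
  have hKne : ¬ K ≤ N := fun h => hKN (hK ▸ h)
  have hRN : ∀ r ∈ R, r ∈ K → r = 1 := fun r hr hrK =>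
    Subgroup.mem_bot.1 (hKR ▸ Subgroup.mem_inf.2 ⟨hrK, hr⟩)
  have hmkK : ∀ a : G, QuotientGroup.mk' N a = 1 → a ∈ K := fun a ha =>
    hNK ((QuotientGroup.eq_one_iff a).1 ha)
  obtain ⟨R', hR'⟩ : ∃ R', R' = R.map (QuotientGroup.mk' N) := ⟨_, rfl⟩
  have hform : ∀ g : G, ∃ k ∈ K, ∃ r ∈ R, g = k * r := fun g => by
    have hg : g ∈ ((K : Set G) * (R : Set G)) := by rw [hKc.mul_eq]; trivial
    obtain ⟨k, hk, r, hr, rfl⟩ := hg
    exact ⟨k, hk, r, hr, rfl⟩
  have hinj : ∀ r ∈ R, ∀ r' ∈ R, QuotientGroup.mk' N r = QuotientGroup.mk' N r' → r = r' := by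
    intro r hr r' hr' h
    have h1 := hRN (r * r'⁻¹) (mul_mem hr (inv_mem hr')) (hmkK _ (by
      rw [map_mul, map_inv, h, mul_inv_cancel]))
    exact mul_inv_eq_one.1 h1
  have hcompl : Cfsg.IsFrobeniusComplement R' := by
    refine ⟨fun h => ?_, fun h => ?_, fun g hg => ?_⟩
    · obtain ⟨r, hr, hr1⟩ := R.bot_or_exists_ne_one.resolve_left hR.1
      have h1 : QuotientGroup.mk' N r ∈ R' := hR' ▸ ⟨r, hr, rfl⟩
      rw [h, Subgroup.mem_bot] at h1
      exact hr1 (hRN r hr (hmkK r h1))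
    · refine hKne fun k hk => ?_
      obtain ⟨r, hr, hrk⟩ : QuotientGroup.mk' N k ∈ R.map (QuotientGroup.mk' N) :=
        hR' ▸ h ▸ Subgroup.mem_top _
      have h1 : r ∈ K := by
        have h2 := hmkK (k⁻¹ * r) (by rw [map_mul, map_inv, hrk, inv_mul_cancel])
        simpa using mul_mem hk h2
      rw [hRN r hr h1, map_one, eq_comm] at hrk
      exact (QuotientGroup.eq_one_iff k).1 hrk
    · obtain ⟨g, rfl⟩ := QuotientGroup.mk'_surjective N g
      obtain ⟨k, hk, r₀, hr₀, rfl⟩ := hform g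
      rw [eq_bot_iff]
      intro t ht
      obtain ⟨ht1, ht2⟩ := Subgroup.mem_inf.1 ht
      rw [Solv.mem_conj_smul, hR'] at ht2
      rw [hR'] at ht1
      obtain ⟨r', hr', rfl⟩ := ht1
      obtain ⟨r'', hr'', h''⟩ := ht2
      rw [Subgroup.mem_bot]
      by_contra hne
      refine hg ?_
      -- conjugation by `k` fixes a nontrivial element modulo `N`
      obtain ⟨r, hr, h'⟩ : ∃ r ∈ R, QuotientGroup.mk' N (k * r * k⁻¹) = QuotientGroup.mk' N r' :=
        ⟨r₀ * r'' * r₀⁻¹, mul_mem (mul_mem hr₀ hr'') (inv_mem hr₀), by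
          simp only [map_mul, map_inv] at h'' ⊢
          rw [h'']; group⟩
      have hcK : ⁅k, r⁆ ∈ K := by
        rw [commutatorElement_def, show k * r * k⁻¹ * r⁻¹ = k * (r * k⁻¹ * r⁻¹) by group]
        exact mul_mem hk (hKn.conj_mem _ (inv_mem hk) r)
      have hrr : r = r' := by
        have h1 := hRN (r' * r⁻¹) (mul_mem hr' (inv_mem hr)) (by
          have h2 := hmkK (r' * r⁻¹ * ⁅k, r⁆⁻¹) (by
            rw [map_mul, map_inv, commutatorElement_def, map_mul (QuotientGroup.mk' N) (k * r * k⁻¹), h',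
              map_mul]
            exact mul_inv_cancel _)
          have h5 := mul_mem h2 hcK
          rwa [inv_mul_cancel_right] at h5)
        exact (mul_inv_eq_one.1 h1).symm
      subst hrr
      have hr1 : r ≠ 1 := fun e => hne (by rw [e, map_one])
      have hcN : ⁅k, r⁆ ∈ N := by
        rw [← QuotientGroup.eq_one_iff, ← QuotientGroup.mk'_apply, commutatorElement_def, map_mul, h',
          ← map_mul, mul_inv_cancel, map_one]
      obtain ⟨a, ha, hae⟩ := hsurj r hr hr1 N hNK inferInstance _ hcN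
      have hka : k = a := hfpf r hr hr1 k hk a (hNK ha) hae.symm
      rw [hR', map_mul, show QuotientGroup.mk' N k = 1 from (QuotientGroup.eq_one_iff k).2 (hka ▸ ha),
        one_mul]
      exact ⟨r₀, hr₀, rfl⟩
  rw [← hR']
  refine ⟨hcompl, ?_⟩
  have hsub : QuotientGroup.mk' N '' Cfsg.frobeniusKernel R ⊆ Cfsg.frobeniusKernel R' := by
    rintro _ ⟨k, hk, rfl⟩
    by_cases h1 : QuotientGroup.mk' N k = 1
    · exact Or.inl h1
    refine Or.inr fun g hg => h1 ?_
    obtain ⟨g, rfl⟩ := QuotientGroup.mk'_surjective N g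
    rw [Solv.mem_conj_smul, hR'] at hg
    obtain ⟨r, hr, hre⟩ := hg
    have hkK : g⁻¹ * k * g ∈ K := by simpa using hKn.conj_mem k (hK.ge hk) g⁻¹
    have hr0 : r = 1 := hRN r hr (by
      have h2 := hmkK ((g⁻¹ * k * g)⁻¹ * r) (by
        simp only [map_mul, map_inv] at hre ⊢
        rw [hre]; group)
      have h5 := mul_mem hkK h2
      rwa [mul_inv_cancel_left] at h5)
    rw [hr0, map_one] at hre
    calc QuotientGroup.mk' N k = QuotientGroup.mk' N g *
          ((QuotientGroup.mk' N g)⁻¹ * QuotientGroup.mk' N k * QuotientGroup.mk' N g) *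
          (QuotientGroup.mk' N g)⁻¹ := by group
      _ = 1 := by rw [← hre, mul_one, mul_inv_cancel]
  refine (Set.eq_of_subset_of_ncard_le hsub (le_of_eq ?_) (Set.toFinite _)).symm
  rw [← Nat.card_coe_set_eq, ← Nat.card_coe_set_eq, Solv.frob_kernel_card hcompl, ← hK]
  show R'.index = Nat.card (K.map (QuotientGroup.mk' N))
  have h1 := R'.card_mul_index
  have h2 : Nat.card R' = Nat.card R := hR' ▸ (Nat.card_congr (Equiv.ofBijective
    (fun r : R => (⟨QuotientGroup.mk' N r, r, r.2, rfl⟩ : R.map (QuotientGroup.mk' N)))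
    ⟨fun a b h => Subtype.ext (hinj _ a.2 _ b.2 (congrArg Subtype.val h)),
      fun ⟨_, r, hr, e⟩ => ⟨⟨r, hr⟩, Subtype.ext e⟩⟩)).symm
  have h3 := Solv.card_map_mk'_mul_card_inf N K
  rw [inf_eq_left.2 hNK] at h3
  have h4 := N.card_eq_card_quotient_mul_card_subgroup
  rw [h2] at h1
  refine Nat.eq_of_mul_eq_mul_right (show 0 < Nat.card N * Nat.card R from Nat.mul_pos Nat.card_pos Nat.card_pos) ?_
  calc R'.index * (Nat.card N * Nat.card R) = Nat.card G := by rw [h4, ← h1]; ring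
    _ = Nat.card K * Nat.card R := hKc.card_mul_card.symm
    _ = _ := by rw [← h3]; ring

end Cfsg.Agent.S3768
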