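import Cfsg.Statements.S3769
import Cfsg.Agent.Lib.Solv.CoprimeCore
import Cfsg.Agent.Lib.Solv.ConjRep
import Cfsg.Agent.Lib.Solv.Coprime

set_option autoImplicit false
set_option linter.style.haveILetI false
open Cfsg

open scoped Pointwise commutatorElement

namespace Cfsg.Agent.S3769

theorem centralizer_singleton_le {G : Type*} [Group G] [Finite G] (X : Subgroup G) (x : G)
    (hx : Subgroup.zpowers x = X) :
    Subgroup.centralizer ({x} : Set G) = Subgroup.centralizer (X : Set G) := by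
  subst hx
  refine le_antisymm (fun g hg => ?_) (Subgroup.centralizer_le (by simp))
  rw [Subgroup.mem_centralizer_singleton_iff] at hg
  refine Subgroup.mem_centralizer_iff.2 fun y hy => ?_
  obtain ⟨k, rfl⟩ := Subgroup.mem_zpowers_iff.1 hy
  exact ((show Commute x g from hg.symm).zpow_left k).eq

theorem exists_gen {G : Type*} [Group G] [Finite G] {r : ℕ} (hr : r.Prime) (X : Subgroup G)
    (hX : Nat.card X = r) : ∃ x : G, x ∈ X ∧ orderOf x = r ∧ Subgroup.zpowers x = X := by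
  haveI : Fact r.Prime := ⟨hr⟩
  haveI := isCyclic_of_prime_card hX
  obtain ⟨⟨x, hx⟩, hg⟩ := IsCyclic.exists_generator (α := X)
  have hz : Subgroup.zpowers x = X := by
    refine le_antisymm ((Subgroup.zpowers_le).2 hx) fun y hy => ?_
    obtain ⟨k, hk⟩ := Subgroup.mem_zpowers_iff.1 (hg ⟨y, hy⟩)
    exact ⟨k, by simpa using congrArg Subtype.val hk⟩
  exact ⟨x, hx, by rw [← Nat.card_zpowers, hz, hX], hz⟩

theorem exists_faithful {G : Type*} [Group G] {F : Type*} [Field F] {W : Type*} [AddCommGroup W]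
    [Module F W] (ρ : G →* Module.End F W) :
    ∃ ρ' : G ⧸ ρ.ker →* Module.End F W,
      (∀ g : G, ρ' (g : G ⧸ ρ.ker) = ρ g) ∧ ∀ g, ρ' g = 1 → g = 1 := by
  refine ⟨QuotientGroup.lift ρ.ker ρ le_rfl, fun g => rfl, fun g => ?_⟩
  induction g using QuotientGroup.induction_on with | _ g => ?_
  intro h
  exact (QuotientGroup.eq_one_iff g).2 h

/-- Let G and V be subgroups of a finite group with G solvable of odd order normalizing V, V an elementary abelian ℓ-group for a prime ℓ not dividing the order of G, and suppose G has a normal Hall subgroup K with a complement R of prime order. If C_V(R) = 1, then [R, K] centralizes V. -/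
theorem result {X : Type*} [Group X] [Finite X] (G : Subgroup X) (hsolv : Group.IsSolvable G) (hodd : Odd (Nat.card G)) (V : Subgroup X) {ℓ : ℕ} (hℓ : ℓ.Prime) (hV : Cfsg.IsElementaryAbelian ℓ V) (hℓG : ¬ ℓ ∣ Nat.card G) (hGV : G ≤ Subgroup.normalizer (V : Set X)) (K R : Subgroup X) (hKG : K ≤ G) (hKn : G ≤ Subgroup.normalizer (K : Set X)) (hHall : (Nat.card K).Coprime (K.relIndex G)) (hRG : R ≤ G) (hR : (Nat.card R).Prime) (hKR : K ⊓ R = ⊥) (hKRG : K ⊔ R = G) (hCV : V ⊓ Subgroup.centralizer (R : Set X) = ⊥) : ⁅R, K⁆ ≤ Subgroup.centralizer (V : Set X) := by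
  haveI : Fact ℓ.Prime := ⟨hℓ⟩
  haveI := hsolv
  obtain ⟨x, hxR, hxo, hxz⟩ := exists_gen hR R rfl
  have hRK : R ≤ Subgroup.normalizer (K : Set X) := hRG.trans hKn
  have hcard : Nat.card G = Nat.card K * Nat.card R := by
    have h := Cfsg.Agent.Solv.card_sup_mul_card_inf' K R hRK
    rw [hKR, Subgroup.card_bot, mul_one, hKRG] at h
    exact h
  have hrel : K.relIndex G = Nat.card R := by
    have h := Subgroup.relIndex_mul_relIndex ⊥ K G bot_le hKG
    rw [Subgroup.relIndex_bot_left, Subgroup.relIndex_bot_left, hcard] at h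
    exact Nat.eq_of_mul_eq_mul_left Nat.card_pos h
  have hco : (Nat.card R).Coprime (Nat.card K) := (hrel ▸ hHall).symm
  have hsolK : Group.IsSolvable K :=
    solvable_of_solvable_injective (Subgroup.inclusion_injective hKG)
  obtain ⟨k, ρ, hρ, hsum, -⟩ := Cfsg.Agent.Solv.CRep.exists_conjRep G V hV hGV
    (AlgebraicClosure (ZMod ℓ))
  have hcast : ∀ n : ℕ, n ∣ Nat.card G → (n : AlgebraicClosure (ZMod ℓ)) ≠ 0 := fun n hn h =>
    hℓG (((CharP.cast_eq_zero_iff (AlgebraicClosure (ZMod ℓ)) ℓ n).1 h).trans hn)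
  obtain ⟨ρ', hρ', hinj⟩ := exists_faithful ρ
  let π := QuotientGroup.mk' ρ.ker
  have hxG : x ∈ G := hRG hxR
  obtain ⟨K1, hK1⟩ : ∃ K1 : Subgroup G,
      K1 = K.subgroupOf G ⊓ (Subgroup.centralizer {π ⟨x, hxG⟩}).comap π := ⟨_, rfl⟩
  have hall : ∀ q : ℕ, q.Prime → q ^ (Nat.card K).factorization q ∣ Nat.card K1 := by
    intro q hq
    rcases Nat.eq_zero_or_pos ((Nat.card K).factorization q) with h0 | h0
    · rw [h0, pow_zero]; exact one_dvd _
    haveI : Fact q.Prime := ⟨hq⟩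
    have hqK : q ∣ Nat.card K := Nat.dvd_of_factorization_pos h0.ne'
    obtain ⟨Q, hQ, hRQ⟩ := Cfsg.Agent.Solv.exists_invariant_sylow hRK hco (Or.inr hsolK) q
    have hQG : Q ≤ G := hQ.1.trans hKG
    suffices hle : Q.subgroupOf G ≤ K1 by
      have h := Subgroup.card_dvd_of_le hle
      rwa [Cfsg.Agent.Solv.card_subgroupOf hQG, hQ.2] at h
    rw [hK1]
    refine le_inf (fun y hy => hQ.1 hy) ?_
    by_contra hnot
    have hqr : q ≠ Nat.card R := fun e =>
      hq.one_lt.ne' (Nat.eq_one_of_dvd_coprimes hco (e ▸ dvd_rfl) hqK)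
    have hqG : q ∣ Nat.card G := hqK.trans (Subgroup.card_dvd_of_le hKG)
    have hpi : π ⟨x, hxG⟩ ≠ 1 := fun e => hnot fun y _ => by
      rw [Subgroup.mem_comap, e, Subgroup.mem_centralizer_singleton_iff, mul_one, one_mul]
    have hord : orderOf (π ⟨x, hxG⟩) = Nat.card R := by
      refine ((Nat.dvd_prime hR).1 ?_).resolve_left fun e => hpi (orderOf_eq_one_iff.1 e)
      refine (orderOf_map_dvd π _).trans ?_
      rw [Subgroup.orderOf_mk, hxo]
    have hxQ : π ⟨x, hxG⟩ ∈ Subgroup.normalizer ((Q.subgroupOf G).map π : Set (↥G ⧸ ρ.ker)) := by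
      refine Subgroup.le_normalizer_map π ⟨⟨x, hxG⟩, ?_, rfl⟩
      rw [SetLike.mem_coe, Subgroup.mem_normalizer_iff]
      intro y
      simp only [Subgroup.mem_subgroupOf, Subgroup.coe_mul, Subgroup.coe_inv]
      exact Subgroup.mem_normalizer_iff.1 (hRQ hxR) y
    have hne : ⁅(Q.subgroupOf G).map π, Subgroup.zpowers (π ⟨x, hxG⟩)⁆ ≠ ⊥ := fun e => hnot fun y hy => by
      rw [Subgroup.mem_comap, Subgroup.mem_centralizer_singleton_iff]
      have h1 := Subgroup.commutator_mem_commutator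
        (Subgroup.mem_map_of_mem π hy) (Subgroup.mem_zpowers (π ⟨x, hxG⟩))
      rw [e, Subgroup.mem_bot] at h1
      exact commutatorElement_eq_one_iff_mul_comm.1 h1
    have hxr : (⟨x, hxG⟩ : G) ^ Nat.card R = 1 := Subtype.ext (by
      show x ^ Nat.card R = 1
      rw [← hxo, pow_orderOf_eq_one])
    have hs := hsum ⟨x, hxG⟩ (Nat.card R) hxr (by
      rw [centralizer_singleton_le R x hxz]; exact hCV)
    obtain ⟨h2, -, -⟩ := Cfsg.Agent.Solv.CRep.core (q := q) hR hqr (hcast q hqG)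
      (hcast _ (Subgroup.card_dvd_of_le hRG)) ρ' hinj ((Q.subgroupOf G).map π) (π ⟨x, hxG⟩)
      ((hQ.isPGroup.of_equiv (Subgroup.subgroupOfEquivOfLe hQG).symm).map π) hord hxQ hne
      (by
        show (∑ i ∈ Finset.range (Nat.card R), ρ' (((⟨x, hxG⟩ : G) : ↥G ⧸ ρ.ker)) ^ i) = 0
        rw [hρ']; exact hs)
    subst h2
    exact (Nat.not_even_iff_odd.2 hodd) (even_iff_two_dvd.2 hqG)
  have hfull : Nat.card K ∣ Nat.card K1 := by
    rw [← Nat.factorization_le_iff_dvd Nat.card_pos.ne' Nat.card_pos.ne']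
    intro q
    by_cases hq : q.Prime
    · exact (hq.pow_dvd_iff_le_factorization Nat.card_pos.ne').1 (hall q hq)
    · simp [Nat.factorization_eq_zero_of_not_prime _ hq]
  have hK1eq : K1 = K.subgroupOf G := by
    refine Subgroup.eq_of_le_of_card_ge (hK1 ▸ inf_le_left) ?_
    rw [Cfsg.Agent.Solv.card_subgroupOf hKG]
    exact Nat.le_of_dvd Nat.card_pos hfull
  refine Subgroup.commutator_le.2 fun a ha b hb => ?_
  have hbK : (⟨b, hKG hb⟩ : G) ∈ K1 := by rw [hK1eq]; exact hb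
  rw [hK1, Subgroup.mem_inf, Subgroup.mem_comap, Subgroup.mem_centralizer_singleton_iff] at hbK
  rw [← hxz] at ha
  obtain ⟨m, rfl⟩ := Subgroup.mem_zpowers_iff.1 ha
  have h1 : Commute (π (⟨x, hxG⟩ ^ m)) (π ⟨b, hKG hb⟩) := by
    rw [map_zpow]
    exact Commute.zpow_left (show Commute (π ⟨x, hxG⟩) (π ⟨b, hKG hb⟩) from hbK.2.symm) m
  have h2 : (⁅(⟨x, hxG⟩ : G) ^ m, (⟨b, hKG hb⟩ : G)⁆ : G) ∈ ρ.ker := by
    rw [← QuotientGroup.ker_mk' ρ.ker, MonoidHom.mem_ker, map_commutatorElement]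
    exact commutatorElement_eq_one_iff_mul_comm.2 h1
  have h3 := (hρ _).1 h2
  simpa [commutatorElement_def] using h3

end Cfsg.Agent.S3769
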