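import Cfsg.Statements.S3770
import Cfsg.Agent.Lib.Solv.ConjRep
import Cfsg.Agent.Lib.Solv.FrobeniusFPF
import Cfsg.Agent.Lib.Solv.Frobenius
import Cfsg.Agent.Lib.Solv.ThompsonFPF

set_option autoImplicit false
set_option linter.style.haveILetI false
open Cfsg

open scoped Pointwise commutatorElement

namespace Cfsg.Agent.S3770

theorem centralizer_singleton_le {G : Type*} [Group G] [Finite G] (X : Subgroup G) (x : G)
    (hx : Subgroup.zpowers x = X) :
    Subgroup.centralizer ({x} : Set G) = Subgroup.centralizer (X : Set G) := by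
  subst hx
  refine le_antisymm (fun g hg => ?_) (Subgroup.centralizer_le (by simp))
  rw [Subgroup.mem_centralizer_singleton_iff] at hg
  refine Subgroup.mem_centralizer_iff.2 fun y hy => ?_
  obtain ⟨k, rfl⟩ := Subgroup.mem_zpowers_iff.1 hy
  exact ((show Commute x g from hg.symm).zpow_left k).eq

theorem exists_gen {G : Type*} [Group G] [Finite G] {r : ℕ} (hr : r.Prime) (X : Subgroup G)
    (hX : Nat.card X = r) : ∃ x : G, x ∈ X ∧ orderOf x = r ∧ Subgroup.zpowers x = X := by
  haveI : Fact r.Prime := ⟨hr⟩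
  haveI := isCyclic_of_prime_card hX
  obtain ⟨⟨x, hx⟩, hg⟩ := IsCyclic.exists_generator (α := X)
  have hz : Subgroup.zpowers x = X := by
    refine le_antisymm ((Subgroup.zpowers_le).2 hx) fun y hy => ?_
    obtain ⟨k, hk⟩ := Subgroup.mem_zpowers_iff.1 (hg ⟨y, hy⟩)
    exact ⟨k, by simpa using congrArg Subtype.val hk⟩
  exact ⟨x, hx, by rw [← Nat.card_zpowers, hz, hX], hz⟩

/-- Let G and V be subgroups of a finite group with G a Frobenius group with complement R of prime order and kernel K, G normalizing V, and V an elementary abelian ℓ-group for a prime ℓ not dividing the order of G. If C_V(R) has order ℓ, then the derived subgroup of K centralizes V. -/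
theorem result {X : Type*} [Group X] [Finite X] (G : Subgroup X) (V : Subgroup X) {ℓ : ℕ} (hℓ : ℓ.Prime) (hV : Cfsg.IsElementaryAbelian ℓ V) (hℓG : ¬ ℓ ∣ Nat.card G) (hGV : G ≤ Subgroup.normalizer (V : Set X)) (R : Subgroup ↥G) (hR : Cfsg.IsFrobeniusComplement R) (hRp : (Nat.card R).Prime) (hCV : Nat.card ↥(V ⊓ Subgroup.centralizer ((R.map G.subtype : Subgroup X) : Set X)) = ℓ) : ⁅Subgroup.closure (Subtype.val '' Cfsg.frobeniusKernel R), Subgroup.closure (Subtype.val '' Cfsg.frobeniusKernel R)⁆ ≤ Subgroup.centralizer (V : Set X) := by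
  haveI : Fact ℓ.Prime := ⟨hℓ⟩
  obtain ⟨K, hK, hKn, hKc⟩ := Cfsg.Agent.Solv.frobenius_theorem hR
  haveI := hKn
  have hKR : K ⊓ R = ⊥ := disjoint_iff.1 hKc.disjoint
  have hcl : Subgroup.closure (Subtype.val '' Cfsg.frobeniusKernel R) = K.map G.subtype := by
    rw [← hK, ← Subgroup.coe_subtype, ← Subgroup.coe_map, Subgroup.closure_eq]
  rw [hcl, ← Subgroup.map_commutator]
  obtain ⟨x, hxR, hxo, hxz⟩ := exists_gen hRp R rfl
  have hxne : x ≠ 1 := fun e => by rw [e, orderOf_one] at hxo; exact hRp.ne_one hxo.symm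
  have hfpf : K ⊓ Subgroup.centralizer {x} = ⊥ := Cfsg.Agent.Solv.frob_fpf hR hKR hxR hxne
  haveI hnil : Group.IsNilpotent K := Cfsg.Agent.Solv.fpf_nilpotent K x hRp
    (by rw [← hxo, pow_orderOf_eq_one]) (Subgroup.normalizer_eq_top K ▸ Subgroup.mem_top x) hfpf
  obtain ⟨k, ρ, hρ, -, hsum⟩ := Cfsg.Agent.Solv.CRep.exists_conjRep G V hV hGV
    (AlgebraicClosure (ZMod ℓ))
  have hcast : ∀ n : ℕ, n ∣ Nat.card G → (n : AlgebraicClosure (ZMod ℓ)) ≠ 0 := fun n hn h =>
    hℓG (((CharP.cast_eq_zero_iff (AlgebraicClosure (ZMod ℓ)) ℓ n).1 h).trans hn)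
  have hCx : V ⊓ Subgroup.centralizer {(x : X)} =
      V ⊓ Subgroup.centralizer ((R.map G.subtype : Subgroup X) : Set X) := by
    congr 1
    refine centralizer_singleton_le _ _ ?_
    rw [← hxz, MonoidHom.map_zpowers]
    rfl
  obtain ⟨v, hv⟩ := hsum x (Nat.card R) (by rw [← hxo, pow_orderOf_eq_one]) (by rw [hCx]; exact hCV)
  obtain ⟨δ, hδ⟩ : ∃ δ : MulAut K, ∀ z : K, ((δ z : K) : G) = x * z * x⁻¹ :=
    ⟨MulAut.conjNormal x, fun z => MulAut.conjNormal_apply x z⟩
  have hδpow : ∀ (a : ℕ) (z : K), (((δ ^ a) z : K) : G) = x ^ a * z * (x ^ a)⁻¹ := by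
    intro a
    induction a with
    | zero => intro z; simp
    | succ a ih => intro z; rw [pow_succ, MulAut.mul_apply, ih, hδ, pow_succ]; group
  have hδ1 : δ ^ Nat.card R = 1 := MulEquiv.ext fun z => Subtype.ext (by
    rw [hδpow, ← hxo, pow_orderOf_eq_one]; simp)
  have hfix : ∀ z : K, δ z = z → z = 1 := fun z hz => Subtype.ext (by
    have h1 := congrArg Subtype.val hz
    rw [hδ, mul_inv_eq_iff_eq_mul] at h1
    have h2 : (z : G) ∈ K ⊓ Subgroup.centralizer {x} :=
      Subgroup.mem_inf.2 ⟨z.2, Subgroup.mem_centralizer_singleton_iff.2 h1.symm⟩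
    rw [hfpf, Subgroup.mem_bot] at h2
    exact h2)
  obtain ⟨ρK, hρK⟩ : ∃ ρK, ρK = ρ.comp K.subtype := ⟨_, rfl⟩
  have hint : ∀ g : K, ρ x * ρK g = ρK (δ g) * ρ x := fun g => by
    rw [hρK, MonoidHom.comp_apply, MonoidHom.comp_apply, ← map_mul, ← map_mul]
    congr 1
    rw [Subgroup.subtype_apply, Subgroup.subtype_apply, hδ]; group
  have hxr : ρ x ^ Nat.card R = 1 := by rw [← map_pow, ← hxo, pow_orderOf_eq_one, map_one]
  have key := Cfsg.Agent.Solv.CRep.triv_of_simple ρK (commutator K)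
    (hcast _ ((Subgroup.card_subgroup_dvd_card _).trans (Subgroup.card_subgroup_dvd_card _)))
    (fun U hU hs c hc w hw => ?_)
  · intro y hy
    obtain ⟨z, hz, rfl⟩ := hy
    have hz' : z ∈ (commutator K).map K.subtype := by
      rw [commutator_def, Subgroup.map_commutator, ← MonoidHom.range_eq_map, Subgroup.range_subtype]
      exact hz
    obtain ⟨c, hc, rfl⟩ := hz'
    have h1 := key c hc
    rw [hρK] at h1
    exact (hρ _).1 h1
  haveI := hs.1
  have hcomm : ∀ u : commutator K, Cfsg.Agent.Solv.CRep.subRep ρK U hU (u : K) = 1 := by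
    intro u
    obtain ⟨u, hu⟩ := u
    suffices hle : commutator K ≤ (Cfsg.Agent.Solv.CRep.subRep ρK U hU).ker from
      MonoidHom.mem_ker.1 (hle hu)
    obtain ⟨σ, hσ⟩ : ∃ σ, σ = Cfsg.Agent.Solv.CRep.subRep ρK U hU := ⟨_, rfl⟩
    rw [← hσ]
    suffices hc : ∀ a b : K, σ a * σ b = σ b * σ a by
      refine Subgroup.commutator_le.2 fun a _ b _ => ?_
      rw [MonoidHom.mem_ker, commutatorElement_def, map_mul, map_mul, map_mul, hc a b, mul_assoc (σ b),
        ← map_mul σ a, mul_inv_cancel, map_one, mul_one, ← map_mul, mul_inv_cancel, map_one]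
    by_cases htw : ∃ t : Module.End _ U, t ≠ 0 ∧ ∀ g, t * σ g = σ (δ g) * t
    · obtain ⟨t, ht0, hti⟩ := htw
      rw [hσ] at hti ⊢
      have hinj := Cfsg.Agent.Solv.CRep.intertwiner_injective hs t ht0
        (fun g => Cfsg.Agent.Solv.CRep.subRep ρK U hU (δ g)) fun g w => by
        rw [← Module.End.mul_apply, hti, Module.End.mul_apply]
      rw [← hσ] at hti ⊢
      have hsurj := LinearMap.injective_iff_surjective.1 hinj
      have hcancel : ∀ A B : Module.End _ U, A * t = B * t → A = B := fun A B h =>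
        LinearMap.ext fun w => by
          obtain ⟨w', rfl⟩ := hsurj w
          exact LinearMap.congr_fun h w'
      have hN : ∀ n ∈ σ.ker, δ n ∈ σ.ker := fun n hn => by
        rw [MonoidHom.mem_ker] at hn ⊢
        exact hcancel _ _ (by rw [← hti, hn, mul_one, one_mul])
      have hN1 : σ.ker = ⊤ := by
        by_contra hne
        haveI : Nontrivial (K ⧸ σ.ker) := QuotientGroup.nontrivial_iff.2 hne
        obtain ⟨gbar, hg, hg1⟩ := (Subgroup.bot_or_exists_ne_one
          (Subgroup.center (K ⧸ σ.ker))).resolve_left (Group.IsNilpotent.center_ne_bot _)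
        obtain ⟨g, rfl⟩ := QuotientGroup.mk_surjective gbar
        obtain ⟨c, hc⟩ := Cfsg.Agent.Solv.CRep.schur (hσ ▸ hs) (σ g) fun u => by
          have h1 := Subgroup.mem_center_iff.1 hg (u : K ⧸ σ.ker)
          rw [← QuotientGroup.mk_mul, ← QuotientGroup.mk_mul, QuotientGroup.eq, MonoidHom.mem_ker,
            map_mul] at h1
          rw [← map_mul, ← map_mul]
          calc σ (g * u) = σ (u * g * ((u * g)⁻¹ * (g * u))) := by group
            _ = σ (u * g) := by rw [map_mul, map_mul σ (u * g)⁻¹, h1, mul_one]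
        have h2 : σ (δ g) = σ g := hcancel _ _ (by
          rw [← hti, hc, mul_smul_comm, mul_one, smul_mul_assoc, one_mul])
        have hf : g⁻¹ * δ g ∈ σ.ker := by
          rw [MonoidHom.mem_ker, map_mul, h2, ← map_mul, inv_mul_cancel, map_one]
        obtain ⟨n, hn⟩ := (Finite.injective_iff_surjective
          (f := fun n : σ.ker => (⟨(n : K)⁻¹ * δ n, mul_mem (inv_mem n.2) (hN _ n.2)⟩ : σ.ker))).1
          (fun a b hab => by
            have h3 : (a : K)⁻¹ * δ a = (b : K)⁻¹ * δ b :=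
              congrArg (fun z : σ.ker => (z : K)) hab
            refine Subtype.ext (mul_inv_eq_one.1 (hfix _ ?_))
            rw [map_mul, map_inv, show δ a = a * ((a : K)⁻¹ * δ a) by group, h3]
            group) ⟨_, hf⟩
        have h4 : (n : K)⁻¹ * δ n = g⁻¹ * δ g := congrArg (fun z : σ.ker => (z : K)) hn
        have h5 : g * (n : K)⁻¹ = 1 := hfix _ (by
          rw [map_mul, map_inv, show δ g = g * (g⁻¹ * δ g) by group, ← h4]
          group)
        refine hg1 ((QuotientGroup.eq_one_iff g).2 ?_)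
        rw [mul_inv_eq_one.1 h5]
        exact n.2
      intro a b
      rw [show σ a = 1 from MonoidHom.mem_ker.1 (hN1 ▸ Subgroup.mem_top a),
        show σ b = 1 from MonoidHom.mem_ker.1 (hN1 ▸ Subgroup.mem_top b)]
    · subst hσ
      have hindep := Cfsg.Agent.Solv.CRep.orbit_independent ρK hRp δ hδ1 (ρ x) hint hxr U hU hs htw
      have hdim : Module.finrank (AlgebraicClosure (ZMod ℓ)) U ≤ 1 := by
        let f : U →ₗ[AlgebraicClosure (ZMod ℓ)] Submodule.span (AlgebraicClosure (ZMod ℓ)) {v} :=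
          LinearMap.codRestrict _ ((∑ i ∈ Finset.range (Nat.card R), ρ x ^ i).comp U.subtype)
            fun w => hv _
        have hf : Function.Injective f := LinearMap.ker_eq_bot.1 ((Submodule.eq_bot_iff _).2
          fun w hw => hindep w (congrArg Subtype.val (LinearMap.mem_ker.1 hw)))
        refine (LinearMap.finrank_le_finrank_of_injective hf).trans ?_
        exact (finrank_span_le_card ({v} : Set _)).trans (by simp)
      obtain ⟨u₀, hu₀⟩ := finrank_le_one_iff.1 hdim
      intro a b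
      refine LinearMap.ext fun w => ?_
      obtain ⟨cw, rfl⟩ := hu₀ w
      obtain ⟨ca, hca⟩ := hu₀ (Cfsg.Agent.Solv.CRep.subRep ρK U hU a u₀)
      obtain ⟨cb, hcb⟩ := hu₀ (Cfsg.Agent.Solv.CRep.subRep ρK U hU b u₀)
      simp only [Module.End.mul_apply, map_smul, ← hca, ← hcb, smul_smul]
      ring_nf
  have h6 := congrArg Subtype.val (LinearMap.congr_fun (hcomm ⟨c, hc⟩) ⟨w, hw⟩)
  simpa [Cfsg.Agent.Solv.CRep.subRep_apply] using h6

end Cfsg.Agent.S3770
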