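import Cfsg.Statements.S3771
import Cfsg.Agent.Lib.Solv.UniqueSub
import Cfsg.Agent.Lib.Solv.ClassPow

set_option autoImplicit false
open Cfsg

open scoped Pointwise commutatorElement

namespace Cfsg.Agent.S3771

/-- Let p be a prime and R a finite p-group of p-rank at most 2 (no elementary abelian subgroup of order p³) in which every element has order dividing p. Then R has order at most p³. -/
theorem result {R : Type*} [Group R] [Finite R] {p : ℕ} [Fact p.Prime] (hR : IsPGroup p R) (hrank : Cfsg.PRankLE p 2 R) (hexp : ∀ x : R, x ^ p = 1) : Nat.card R ≤ p ^ 3 := by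
  have hp : p.Prime := Fact.out
  obtain ⟨A, hAn, hAab, hAC⟩ := Solv.exists_maximal_abelian_normal hR
  have hA2 : Nat.card A ≤ p ^ 2 :=
    hrank A ⟨⟨fun x y => Subtype.ext (hAab x x.2 y y.2)⟩⟩ fun a _ => hexp a
  by_cases hA : A = ⊥
  · rw [hA] at hAC
    have h : (⊤ : Subgroup R) = ⊥ := by
      rw [← hAC, eq_comm, eq_top_iff]
      intro x _
      refine Subgroup.mem_centralizer_iff.2 fun y hy => ?_
      rw [Subgroup.mem_bot.1 hy, one_mul, mul_one]
    rw [← Subgroup.card_top, h, Subgroup.card_bot]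
    exact Nat.one_le_pow _ _ hp.pos
  have := (Subgroup.nontrivial_iff_ne_bot A).2 hA
  -- a central element of `A`
  have hR' : IsPGroup p (ConjAct R) := hR.of_equiv ConjAct.toConjAct
  have hd : p ∣ Nat.card A := by
    obtain ⟨k, hk⟩ := IsPGroup.iff_card.1 (hR.to_subgroup A)
    rw [hk]
    refine dvd_pow_self p fun h0 => ?_
    rw [h0, pow_zero] at hk
    have := Finite.one_lt_card (α := A)
    omega
  obtain ⟨z, hz, hz1⟩ := hR'.exists_fixed_point_of_prime_dvd_card_of_fixed_point A hd (a := (1 : A))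
    (fun g => smul_one g)
  have hzc : ∀ g : R, g * (z : R) * g⁻¹ = z := fun g =>
    congrArg Subtype.val (hz (ConjAct.toConjAct g))
  set Z := Subgroup.zpowers (z : R)
  have hZA : Z ≤ A := Subgroup.zpowers_le.2 z.2
  have hz1' : (z : R) ≠ 1 := fun e => hz1 (Subtype.ext e).symm
  have hZc : Nat.card Z = p := by rw [Nat.card_zpowers, orderOf_eq_prime (hexp _) hz1']
  rcases hZA.eq_or_lt with hZA' | hlt
  · -- `A` is central
    have h : (⊤ : Subgroup R) = A := by
      rw [← hAC, eq_comm, eq_top_iff]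
      intro x _
      refine Subgroup.mem_centralizer_iff.2 fun y hy => ?_
      obtain ⟨i, rfl⟩ := hZA'.ge hy
      exact (Commute.zpow_left (show Commute (z : R) x from (mul_inv_eq_iff_eq_mul.1 (hzc x)).symm) i).eq
    rw [← Subgroup.card_top, h, ← hZA', hZc]
    exact Nat.le_self_pow (by norm_num) p
  obtain ⟨w, hwA, hwZ⟩ := SetLike.exists_of_lt hlt
  have hAgen : Z ⊔ Subgroup.zpowers w = A := by
    refine Subgroup.eq_of_le_of_card_ge (sup_le hZA (Subgroup.zpowers_le.2 hwA)) ?_
    have h1 : Nat.card Z < Nat.card (Z ⊔ Subgroup.zpowers w : Subgroup R) :=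
      Solv.card_lt_of_lt (lt_of_le_of_ne le_sup_left fun e =>
        hwZ (e.ge (Subgroup.mem_sup_right (Subgroup.mem_zpowers w))))
    obtain ⟨k, hk⟩ := IsPGroup.iff_card.1 (hR.to_subgroup (Z ⊔ Subgroup.zpowers w))
    rw [hk, hZc] at h1
    rw [hk]
    refine hA2.trans (Nat.pow_le_pow_right hp.pos ?_)
    by_contra h
    have : p ^ k ≤ p ^ 1 := Nat.pow_le_pow_right hp.pos (by omega)
    rw [pow_one] at this
    omega
  have hCw : Subgroup.centralizer ({w} : Set R) = A := by
    refine le_antisymm (fun x hx => ?_) fun x hx => Subgroup.mem_centralizer_singleton_iff.2 (hAab x hx w hwA)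
    rw [← hAC]
    refine Subgroup.mem_centralizer_iff.2 fun y hy => ?_
    have hle : A ≤ Subgroup.centralizer ({x} : Set R) := by
      rw [← hAgen]
      exact sup_le (Subgroup.zpowers_le.2 (Subgroup.mem_centralizer_singleton_iff.2
          (mul_inv_eq_iff_eq_mul.1 (hzc x)).symm))
        (Subgroup.zpowers_le.2 (Subgroup.mem_centralizer_singleton_iff.2
          (Subgroup.mem_centralizer_singleton_iff.1 hx).symm))
    exact Subgroup.mem_centralizer_singleton_iff.1 (hle hy)
  -- the class of `w` lies in `A \ Z`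
  obtain ⟨j, hj⟩ := hR.index A
  have hAcard : Nat.card A = p ^ 2 := by
    obtain ⟨k, hk⟩ := IsPGroup.iff_card.1 (hR.to_subgroup A)
    have h1 := Solv.card_lt_of_lt hlt
    rw [hZc, hk] at h1
    rw [hk] at hA2 ⊢
    have h2 := (Nat.pow_le_pow_iff_right hp.one_lt).1 hA2
    have h3 : 1 < k := (Nat.pow_lt_pow_iff_right hp.one_lt).1 (by rwa [pow_one])
    rw [show k = 2 by omega]
  have horb : p ^ j < p ^ 2 := by
    rw [← hAcard, ← hj, ← hCw, ← Solv.class_ncard w, ← Nat.card_coe_set_eq (ConjClasses.mk w).carrier, hCw,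
      Nat.card_coe_set_eq, ← SetLike.coe_sort_coe, Nat.card_coe_set_eq]
    refine Set.ncard_lt_ncard ⟨fun y hy => ?_, fun h => ?_⟩ (Set.toFinite _)
    · rw [ConjClasses.mem_carrier_iff_mk_eq, ConjClasses.mk_eq_mk_iff_isConj, isConj_iff] at hy
      obtain ⟨c, rfl⟩ := hy
      simpa [mul_assoc] using hAn.conj_mem _ hwA c⁻¹
    · have h1 := h A.one_mem
      rw [ConjClasses.mem_carrier_iff_mk_eq, ConjClasses.mk_eq_mk_iff_isConj, isConj_iff] at h1
      obtain ⟨c, hc⟩ := h1
      rw [mul_one, mul_inv_cancel] at hc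
      exact hwZ (hc ▸ Z.one_mem)
  rw [← A.card_mul_index, hj, hAcard, ← pow_add]
  have := (Nat.pow_lt_pow_iff_right hp.one_lt).1 horb
  exact Nat.pow_le_pow_right hp.pos (by omega)

end Cfsg.Agent.S3771
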