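import Cfsg.Statements.S3772
import Cfsg.Agent.Lib.Solv.Quad

set_option autoImplicit false
set_option linter.style.haveILetI false
open Cfsg

open scoped Pointwise commutatorElement

namespace Cfsg.Agent.S3772

/-- Let G be a finite 2-group whose Frattini subgroup Φ(G) has order 2, with |G : Φ(G)| = 2^d, and let j be the number of elements x of G with x² = 1. Then j = 2^d, or j = 2^d + 2^(d−r) or j = 2^d − 2^(d−r) for some positive integer r with 2r ≤ d. Moreover if d = 2r and j is 2^d + 2^r or 2^d − 2^r, then G is extraspecial. -/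
theorem result {G : Type*} [Group G] [Finite G] (hG : IsPGroup 2 G) (hΦ : Nat.card (frattini G) = 2) (d : ℕ) (hd : (frattini G).index = 2 ^ d) : (Nat.card {x : G // x ^ 2 = 1} = 2 ^ d ∨ ∃ r : ℕ, 1 ≤ r ∧ 2 * r ≤ d ∧ (Nat.card {x : G // x ^ 2 = 1} = 2 ^ d + 2 ^ (d - r) ∨ Nat.card {x : G // x ^ 2 = 1} + 2 ^ (d - r) = 2 ^ d)) ∧ (∀ r : ℕ, d = 2 * r → (Nat.card {x : G // x ^ 2 = 1} = 2 ^ d + 2 ^ r ∨ Nat.card {x : G // x ^ 2 = 1} + 2 ^ r = 2 ^ d) → Cfsg.IsExtraspecial 2 G) := by
  classical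
  haveI := Fintype.ofFinite G
  haveI := Fact.mk Nat.prime_two
  obtain ⟨c₀, hc₀, hc1⟩ : ∃ c₀ ∈ frattini G, c₀ ≠ 1 :=
    (frattini G).bot_or_exists_ne_one.resolve_left fun h => by
      rw [h, Subgroup.card_bot] at hΦ; omega
  have hzp : Subgroup.zpowers c₀ = frattini G := by
    refine Subgroup.eq_of_le_of_card_ge (Subgroup.zpowers_le.2 hc₀) ?_
    rw [hΦ, Nat.card_zpowers]
    rcases Nat.lt_or_ge (orderOf c₀) 2 with h | h
    · have := orderOf_pos c₀
      exact absurd (orderOf_eq_one_iff.1 (show orderOf c₀ = 1 by omega)) hc1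
    · exact h
  have hco : orderOf c₀ = 2 := by rw [← Nat.card_zpowers, hzp, hΦ]
  have hmem : ∀ x ∈ frattini G, x = 1 ∨ x = c₀ := fun x hx => by
    rw [← hzp] at hx
    obtain ⟨i, hi⟩ := hx
    have h2 : c₀ ^ (i % 2) = c₀ ^ i := by
      rw [show (2 : ℤ) = (orderOf c₀ : ℤ) by rw [hco]; rfl, zpow_mod_orderOf]
    rcases Int.emod_two_eq i with h | h <;> rw [h] at h2
    · exact Or.inl (by rw [← hi]; show c₀ ^ i = 1; rw [← h2, zpow_zero])
    · exact Or.inr (by rw [← hi]; show c₀ ^ i = c₀; rw [← h2, zpow_one])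
  have hcc : c₀ ∈ Subgroup.center G := Subgroup.mem_center_iff.2 fun g => by
    rcases hmem _ ((inferInstance : (frattini G).Normal).conj_mem c₀ hc₀ g) with h | h
    · exact absurd (conj_eq_one_iff.1 h) hc1
    · rw [mul_inv_eq_iff_eq_mul] at h; exact h
  have hΦc : frattini G ≤ Subgroup.center G := fun x hx => by
    rcases hmem x hx with rfl | rfl
    · exact one_mem _
    · exact hcc
  have hsq : ∀ x : G, x ^ 2 ∈ frattini G := Solv.pow_mem_frattini hG
  have hcm : ∀ x y : G, ⁅x, y⁆ ∈ frattini G := Solv.commutatorElement_mem_frattini hG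
  obtain ⟨ε, hε⟩ : ∃ ε : G → ℤ, ∀ g, ε g = if g = 1 then 1 else -1 := ⟨_, fun _ => rfl⟩
  have hε2 : ∀ g, ε g * ε g = 1 := fun g => by rw [hε]; split_ifs <;> norm_num
  have hεm : ∀ a ∈ frattini G, ∀ b ∈ frattini G, ε (a * b) = ε a * ε b := fun a ha b hb => by
    have hcs : c₀ * c₀ = 1 := by rw [← sq, ← hco, pow_orderOf_eq_one]
    rcases hmem a ha with rfl | rfl <;> rcases hmem b hb with rfl | rfl <;> simp [hε, hcs, hc1]
  have hε1 : ∀ a, ε a = 1 ↔ a = 1 := fun a => by
    rw [hε]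
    refine ⟨fun h => ?_, fun h => if_pos h⟩
    by_contra hne
    rw [if_neg hne] at h
    norm_num at h
  have hR : ∀ y, y ∈ Subgroup.center G ↔ ∀ x, ε ⁅y, x⁆ = 1 := fun y => by
    simp only [hε1, commutatorElement_eq_one_iff_mul_comm, Subgroup.mem_center_iff, eq_comm]
  obtain ⟨J, hJ⟩ : ∃ J, J = Nat.card {x : G // x ^ 2 = 1} := ⟨_, rfl⟩
  rw [← hJ]
  have hsum : ∑ x : G, ε (x ^ 2) = 2 * (J : ℤ) - (Nat.card G : ℤ) := by
    rw [hJ, Nat.card_eq_fintype_card, Fintype.card_subtype, Nat.card_eq_fintype_card]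
    have : ∀ x : G, ε (x ^ 2) = 2 * (if x ^ 2 = 1 then 1 else 0) - 1 := fun x => by
      rw [hε]; split_ifs <;> norm_num
    simp only [this, Finset.sum_sub_distrib, ← Finset.mul_sum, Finset.sum_boole, Finset.sum_const,
      Finset.card_univ, nsmul_eq_mul, mul_one, Nat.cast_id]
  have hGd : Nat.card G = 2 ^ (d + 1) := by
    rw [← (frattini G).card_mul_index, hΦ, hd, pow_succ']
  have hgs := Solv.gauss_sum (fun x => ε (x ^ 2)) (fun x y => ε ⁅y, x⁆) (fun x => hε2 _)
    (fun x y => by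
      rw [Solv.mul_sq_of_central (hΦc (hcm y x)), hεm _ (mul_mem (hsq x) (hsq y)) _ (hcm y x),
        hεm _ (hsq x) _ (hsq y)])
    (fun x x' y => by
      rw [Solv.commutatorElement_mul_right_of_central (hΦc (hcm y x')), hεm _ (hcm y x) _ (hcm y x')])
    (Subgroup.center G) hR
  rw [hsum, hGd] at hgs
  obtain ⟨e, he⟩ := IsPGroup.iff_card.1 (hG.to_subgroup (Subgroup.center G))
  have he1 : 1 ≤ e := by
    have := Subgroup.card_le_of_le hΦc
    rw [hΦ, he] at this
    by_contra h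
    rw [show e = 0 by omega] at this
    omega
  have hP : (2 : ℤ) * 2 ^ d = ((2 ^ (d + 1) : ℕ) : ℤ) := by rw [pow_succ']; push_cast; ring
  rcases hgs with h0 | ⟨htriv, h0⟩
  · have hj : J = 2 ^ d := by
      rw [← hP] at h0
      have : (J : ℤ) = ((2 ^ d : ℕ) : ℤ) := by push_cast; linarith
      exact_mod_cast this
    refine ⟨Or.inl hj, fun r _ h => ?_⟩
    have : 0 < 2 ^ r := by positivity
    rw [hj] at h
    rcases h with h | h <;> omega
  · rw [he, ← hP] at h0
    have h4 : (2 : ℤ) ^ 2 * ((J : ℤ) - 2 ^ d) ^ 2 = 2 ^ (d + 1 + e) := by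
      rw [pow_add, pow_succ']
      calc (2 : ℤ) ^ 2 * ((J : ℤ) - 2 ^ d) ^ 2 = (2 * (J : ℤ) - 2 * 2 ^ d) ^ 2 := by ring
        _ = _ := by rw [h0]; push_cast; ring
    obtain ⟨δ, hδ⟩ : ∃ δ : ℕ, δ = ((J : ℤ) - 2 ^ d).natAbs := ⟨_, rfl⟩
    have h5 : 2 ^ 2 * δ ^ 2 = 2 ^ (d + 1 + e) := by
      have := congrArg Int.natAbs h4
      rwa [Int.natAbs_mul, Int.natAbs_pow, Int.natAbs_pow, Int.natAbs_pow, ← hδ] at this
    obtain ⟨u, hu⟩ : ∃ u, δ = 2 ^ u := by
      have hd' : δ ∣ 2 ^ (d + 1 + e) := h5 ▸ Dvd.dvd.mul_left (dvd_pow_self δ two_ne_zero) _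
      obtain ⟨u, -, hu⟩ := (Nat.dvd_prime_pow Nat.prime_two).1 hd'
      exact ⟨u, hu⟩
    rw [hu, ← pow_mul, ← pow_add] at h5
    have h6 := Nat.pow_right_injective le_rfl h5
    have hJcases : J = 2 ^ d + 2 ^ u ∨ J + 2 ^ u = 2 ^ d := by
      rw [hu] at hδ
      have hP2 : ((2 : ℤ) ^ d) = ((2 ^ d : ℕ) : ℤ) := by push_cast; rfl
      rw [hP2] at hδ
      omega
    have hed : e ≤ d := by
      by_contra hlt
      have hZt : Subgroup.center G = ⊤ := by
        refine Subgroup.eq_top_of_card_eq _ (le_antisymm (Subgroup.card_le_card_group _) ?_)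
        rw [he, hGd]
        exact Nat.pow_le_pow_right two_pos (by omega)
      have hsq1 : ∀ x : G, x ^ 2 = 1 := fun x => (hε1 _).1 (htriv x (hZt ▸ Subgroup.mem_top x))
      have hle : frattini G ≤ ⊥ := Solv.frattini_le (p := 2) ⊥ (fun a b => by
        rw [Subgroup.mem_bot, commutatorElement_eq_one_iff_mul_comm]
        exact Solv.comm_of_sq_eq_one hsq1 a b) (fun a => by rw [Subgroup.mem_bot]; exact hsq1 a)
      rw [le_bot_iff.1 hle, Subgroup.card_bot] at hΦ
      omega
    refine ⟨Or.inr ⟨d - u, by omega, by omega, ?_⟩, fun r hr hJr => ?_⟩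
    · rw [show d - (d - u) = u by omega]
      exact hJcases
    · have hur : u = r := by
        have hp := Nat.two_pow_pos u
        have hp' := Nat.two_pow_pos r
        have : (2 : ℕ) ^ u = 2 ^ r := by rcases hJcases with h | h <;> rcases hJr with h' | h' <;> omega
        exact Nat.pow_right_injective le_rfl this
      have he' : e = 1 := by omega
      rw [he', pow_one] at he
      refine Solv.isExtraspecial_of hG he ?_ fun x => hΦc (hsq x)
      have hZΦ : Subgroup.center G = frattini G :=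
        (Subgroup.eq_of_le_of_card_ge hΦc (by rw [he, hΦ])).symm
      refine Subgroup.eq_of_le_of_card_ge ((Solv.commutator_le_frattini_pgroup hG).trans hΦc) ?_
      rw [he]
      by_contra hlt
      have hbot : commutator G = ⊥ := Subgroup.eq_bot_of_card_eq _ (by
        have : 0 < Nat.card (commutator G) := Nat.card_pos
        omega)
      have hZt : Subgroup.center G = ⊤ := eq_top_iff.2 fun y _ => (hR y).2 fun x => (hε1 _).2 (by
        rw [← Subgroup.mem_bot, ← hbot]
        exact Subgroup.commutator_mem_commutator (Subgroup.mem_top _) (Subgroup.mem_top _))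
      rw [hZt, Subgroup.card_top, hGd] at he
      have := Nat.pow_right_injective le_rfl (he.trans (pow_one 2).symm)
      omega

end Cfsg.Agent.S3772
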