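import Cfsg.Statements.S3773
import Cfsg.Agent.Lib.Solv.Quad

set_option autoImplicit false
set_option linter.style.haveILetI false
open Cfsg

open scoped Pointwise commutatorElement

namespace Cfsg.Agent.S3773

/-- Let G be a finite 2-group of nilpotency class at most 2 and exponent dividing 4 in which the elements x with x² = 1 form a subgroup N. Then |G| ≤ |N|³, and |G| < |N|³ unless G is special. -/
theorem result {G : Type*} [Group G] [Finite G] (hG : IsPGroup 2 G) (hcl : (⊤ : Subgroup G).lowerCentralSeries 2 = ⊥) (hexp : ∀ x : G, x ^ 4 = 1) (hN : ∀ x y : G, x ^ 2 = 1 → y ^ 2 = 1 → (x * y) ^ 2 = 1) : Nat.card G ≤ Nat.card {x : G // x ^ 2 = 1} ^ 3 ∧ (¬ Cfsg.IsSpecial 2 G → Nat.card G < Nat.card {x : G // x ^ 2 = 1} ^ 3) := by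
  classical
  haveI := Fact.mk Nat.prime_two
  have hd : commutator G ≤ Subgroup.center G := by
    intro x hx
    refine Subgroup.mem_center_iff.2 fun g => ?_
    have h1 : ⁅x, g⁆ ∈ (⊤ : Subgroup G).lowerCentralSeries 2 := by
      rw [Subgroup.lowerCentralSeries_succ]
      refine Subgroup.commutator_mem_commutator ?_ (Subgroup.mem_top g)
      rw [Subgroup.lowerCentralSeries_succ, Subgroup.lowerCentralSeries_zero]
      exact hx
    rw [hcl, Subgroup.mem_bot, commutatorElement_eq_one_iff_mul_comm] at h1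
    exact h1.symm
  have hcm : ∀ x y : G, ⁅x, y⁆ ∈ Subgroup.center G := fun x y =>
    hd (Subgroup.commutator_mem_commutator (Subgroup.mem_top _) (Subgroup.mem_top _))
  have hc2 : ∀ x y : G, ⁅x, y⁆ ^ 2 = 1 := fun x y => by
    obtain ⟨c, hc⟩ : ∃ c, c = ⁅x, y⁆ := ⟨_, rfl⟩
    have hcc : ∀ g, Commute g c := fun g => hc ▸ Subgroup.mem_center_iff.1 (hcm x y) g
    have h4 : ((y * x) ^ 2) ^ 2 = 1 := by rw [← pow_mul]; exact hexp _
    rw [Solv.mul_sq_of_central (hcm x y), ← hc, (hcc _).mul_pow,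
      Solv.mul_sq_of_central (hcm _ _), ← pow_mul, ← pow_mul] at h4
    rw [show (2 : ℕ) * 2 = 4 from rfl, hexp, hexp, one_mul, one_mul] at h4
    have h5 : ⁅x ^ 2, y ^ 2⁆ = c ^ 4 := by
      rw [sq, Solv.commutatorElement_mul_left_of_central (hcm _ _), sq,
        Solv.commutatorElement_mul_right_of_central (hcm _ _), ← hc]
      simp only [pow_succ, pow_zero, one_mul, mul_assoc]
    have h6 : c ^ 4 = 1 := by rw [hc]; exact hexp _
    rw [h5, h6, one_mul] at h4
    exact hc ▸ h4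
  have hsqc : ∀ x : G, x ^ 2 ∈ Subgroup.center G := fun x => Subgroup.mem_center_iff.2 fun g =>
    (commutatorElement_eq_one_iff_mul_comm.1 (by
      rw [sq, Solv.commutatorElement_mul_right_of_central (hcm _ _), ← sq]; exact hc2 _ _))
  -- the subgroup of square roots of one
  obtain ⟨N, hNm⟩ : ∃ N : Subgroup G, ∀ x, x ∈ N ↔ x ^ 2 = 1 :=
    ⟨{ carrier := {x | x ^ 2 = 1}
       one_mem' := one_pow 2
       mul_mem' := fun {a b} ha hb => hN a b ha hb
       inv_mem' := fun {a} ha => by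
        show a⁻¹ ^ 2 = 1
        rw [inv_pow, show a ^ 2 = 1 from ha, inv_one] }, fun _ => Iff.rfl⟩
  rw [show Nat.card {x : G // x ^ 2 = 1} = Nat.card N from
    (Nat.card_congr (Equiv.subtypeEquivRight hNm)).symm]
  obtain ⟨E, hE⟩ : ∃ E, E = N ⊓ Subgroup.center G := ⟨_, rfl⟩
  have hEm : ∀ x, x ∈ E ↔ x ^ 2 = 1 ∧ x ∈ Subgroup.center G := fun x => by
    rw [hE, Subgroup.mem_inf, hNm]
  have hE2 : ∀ e : E, e ^ 2 = 1 := fun e => Subtype.ext ((hEm e).1 e.2).1
  have hsqE : ∀ x : G, x ^ 2 ∈ E := fun x =>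
    (hEm _).2 ⟨by rw [← pow_mul]; exact hexp x, hsqc x⟩
  have hcmE : ∀ x y : G, ⁅x, y⁆ ∈ E := fun x y => (hEm _).2 ⟨hc2 x y, hcm x y⟩
  -- the bound for a subgroup, with values in a quotient of a subgroup of `E`
  have bound : ∀ (H B : Subgroup G) (T : Type _) [Group T] [Finite T], (∀ t : T, t ^ 2 = 1) →
      ∀ (φ : G → T), (∀ a ∈ E, ∀ b ∈ E, φ (a * b) = φ a * φ b) → B ≤ H →
      (∀ x ∈ H, φ (x ^ 2) = 1 ↔ x ∈ B) → (∀ x ∈ H, ∀ b ∈ B, φ ⁅b, x⁆ = 1) →
      Nat.card H ≤ Nat.card B * Nat.card T ^ 2 := by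
    intro H B T _ _ hT φ hφ hBH hz hb
    have h := Solv.quad_bound (hG.to_subgroup H) hT (fun x : H => φ ((x : G) ^ 2))
      (fun x y => φ ⁅(y : G), (x : G)⁆)
      (fun x y => by
        rw [Subgroup.coe_mul, Solv.mul_sq_of_central (hcm _ _),
          hφ _ (mul_mem (hsqE _) (hsqE _)) _ (hcmE _ _), hφ _ (hsqE _) _ (hsqE _)])
      (fun x x' y => by
        rw [Subgroup.coe_mul, Solv.commutatorElement_mul_right_of_central (hcm _ _),
          hφ _ (hcmE _ _) _ (hcmE _ _)])
      (fun x y y' => by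
        rw [Subgroup.coe_mul, Solv.commutatorElement_mul_left_of_central (hcm _ _),
          hφ _ (hcmE _ _) _ (hcmE _ _)])
      (B.subgroupOf H) (fun x => hz x x.2) (fun x b hbB => hb x x.2 b hbB)
    rwa [Nat.card_congr (Subgroup.subgroupOfEquivOfLe hBH).toEquiv] at h
  obtain ⟨b, hb⟩ := IsPGroup.iff_card.1 (hG.to_subgroup E)
  have hEN : Nat.card E ≤ Nat.card N := Subgroup.card_le_of_le (hE ▸ inf_le_left)
  -- a complement to `N` over `E`
  obtain ⟨H, ⟨hEH, hHN⟩, hHmax⟩ := (Set.toFinite {H : Subgroup G | E ≤ H ∧ H ⊓ N ≤ E}).exists_maximal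
    ⟨E, le_rfl, inf_le_left⟩
  have hnorm : ∀ A : Subgroup G, E ≤ A → A.Normal := fun A hA => ⟨fun a ha g => by
    have h1 : g * a * g⁻¹ = ⁅g, a⁆ * a := by rw [commutatorElement_def]; group
    rw [h1]
    exact mul_mem (hA (hcmE g a)) ha⟩
  haveI hHn : H.Normal := hnorm H hEH
  have htop : H ⊔ N = ⊤ := by
    refine eq_top_iff.2 fun x _ => ?_
    by_contra hx
    have hxH : x ∉ H := fun h => hx (Subgroup.mem_sup_left h)
    refine hxH (hHmax (y := H ⊔ Subgroup.zpowers x) ⟨hEH.trans le_sup_left, fun v hv => ?_⟩ le_sup_left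
      (Subgroup.mem_sup_right (Subgroup.mem_zpowers x)))
    have hv1 : v ∈ ((H ⊔ Subgroup.zpowers x : Subgroup G) : Set G) := (Subgroup.mem_inf.1 hv).1
    rw [Subgroup.normal_mul] at hv1
    obtain ⟨a, ha, w, ⟨i, rfl⟩, rfl⟩ := hv1
    rcases Int.even_or_odd i with ⟨j, hj⟩ | ⟨j, hj⟩
    · refine hHN ⟨mul_mem ha ?_, (Subgroup.mem_inf.1 hv).2⟩
      show x ^ i ∈ H
      rw [hj, ← two_mul, zpow_mul, zpow_ofNat]
      exact zpow_mem (hEH (hsqE x)) j
    · exfalso
      refine hx ?_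
      have hx2 : x = (a * (x ^ (2 : ℕ)) ^ j)⁻¹ * (a * x ^ i) := by
        rw [hj, zpow_add_one, zpow_mul, zpow_ofNat]; group
      rw [hx2]
      exact mul_mem (Subgroup.mem_sup_left (inv_mem (mul_mem ha (zpow_mem (hEH (hsqE x)) j))))
        (Subgroup.mem_sup_right (Subgroup.mem_inf.1 hv).2)
  have hHE : H ⊓ N = E := le_antisymm hHN (le_inf hEH (hE ▸ inf_le_left))
  have hcard : Nat.card G * Nat.card E = Nat.card H * Nat.card N := by
    have := Solv.card_sup_mul_card_inf H N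
    rwa [htop, Subgroup.card_top, hHE] at this
  have hbd : Nat.card H ≤ Nat.card E * Nat.card E ^ 2 := by
    obtain ⟨φ, hφ⟩ : ∃ φ : G → E, ∀ a (ha : a ∈ E), φ a = ⟨a, ha⟩ :=
      ⟨fun a => if ha : a ∈ E then ⟨a, ha⟩ else 1, fun a ha => dif_pos ha⟩
    refine bound H E E hE2 φ (fun a ha c hc => ?_) hEH (fun x hx => ?_) fun x _ c hc => ?_
    · rw [hφ _ (mul_mem ha hc), hφ _ ha, hφ _ hc]; rfl
    · rw [hφ _ (hsqE x)]
      refine ⟨fun h => hHN ⟨hx, (hNm x).2 (congrArg Subtype.val h)⟩,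
        fun h => Subtype.ext ((hEm x).1 h).1⟩
    · have h1 : ⁅c, x⁆ = 1 := commutatorElement_eq_one_iff_mul_comm.2
        (Subgroup.mem_center_iff.1 ((hEm c).1 hc).2 x).symm
      rw [hφ _ (hcmE _ _)]
      exact Subtype.ext h1
  have hEpos : 0 < Nat.card E := Nat.card_pos
  have hGle : Nat.card G ≤ Nat.card N * Nat.card E ^ 2 := by
    refine Nat.le_of_mul_le_mul_right ?_ hEpos
    calc Nat.card G * Nat.card E = Nat.card H * Nat.card N := hcard
      _ ≤ Nat.card E * Nat.card E ^ 2 * Nat.card N := Nat.mul_le_mul_right _ hbd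
      _ = _ := by ring
  refine ⟨hGle.trans ?_, fun hns => ?_⟩
  · calc Nat.card N * Nat.card E ^ 2 ≤ Nat.card N * Nat.card N ^ 2 :=
        Nat.mul_le_mul_left _ (Nat.pow_le_pow_left hEN 2)
      _ = _ := by ring
  have hNpos : 0 < Nat.card N := Nat.card_pos
  rcases hEN.lt_or_eq with hlt | heq
  · calc Nat.card G ≤ Nat.card N * Nat.card E ^ 2 := hGle
      _ < Nat.card N * Nat.card N ^ 2 := by
        exact Nat.mul_lt_mul_of_pos_left (Nat.pow_lt_pow_left hlt two_ne_zero) hNpos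
      _ = _ := by ring
  have hEN' : E = N := Subgroup.eq_of_le_of_card_ge (hE ▸ inf_le_left) heq.ge
  have hNc : N ≤ Subgroup.center G := fun x hx => ((hEm x).1 (hEN'.symm ▸ hx)).2
  by_cases hZN : Subgroup.center G ≤ N
  · -- the derived subgroup is small
    by_cases hGN : N ≤ commutator G
    · refine absurd ⟨hG, ?_, le_antisymm hd (hZN.trans hGN)⟩ hns
      haveI := hnorm N hEN'.le
      refine le_antisymm ((Solv.frattini_le (p := 2) N (fun a c => hEN' ▸ hcmE a c)
        (fun a => hEN' ▸ hsqE a)).trans hNc) ?_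
      exact (hZN.trans hGN).trans (Solv.commutator_le_frattini_pgroup hG)
    have hGE : commutator G ≤ N := by
      rw [commutator_def, Subgroup.commutator_le]
      exact fun a _ c _ => hEN' ▸ hcmE a c
    obtain ⟨M, ⟨hMl, hMlt⟩, hMmax⟩ := (Set.toFinite {M : Subgroup G | commutator G ≤ M ∧ M < N}).exists_maximal
      ⟨commutator G, le_rfl, lt_of_le_not_ge hGE hGN⟩
    obtain ⟨u, huN, huM⟩ := SetLike.exists_of_lt hMlt
    have hu2 : u ^ 2 = 1 := (hNm u).1 huN
    haveI : M.Normal := ⟨fun a ha g => by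
      rw [Subgroup.mem_center_iff.1 (hNc (hMlt.le ha)) g, mul_inv_cancel_right]; exact ha⟩
    have hMN : N = M ⊔ Subgroup.zpowers u := by
      by_contra hne
      exact huM (hMmax (y := M ⊔ Subgroup.zpowers u) ⟨hMl.trans le_sup_left,
        lt_of_le_of_ne (sup_le hMlt.le (Subgroup.zpowers_le.2 huN)) (Ne.symm hne)⟩ le_sup_left
        (Subgroup.mem_sup_right (Subgroup.mem_zpowers u)))
    have hM2 : Nat.card N = Nat.card M * 2 := by
      rw [hMN, Solv.card_sup_of_inf_eq_bot, Nat.card_zpowers,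
        orderOf_eq_prime hu2 fun h => huM (h ▸ one_mem M)]
      haveI : Fact (Nat.card (Subgroup.zpowers u)).Prime :=
        ⟨by rw [Nat.card_zpowers, orderOf_eq_prime hu2 fun h => huM (h ▸ one_mem M)]; exact Nat.prime_two⟩
      rcases (M.subgroupOf (Subgroup.zpowers u)).eq_bot_or_eq_top_of_prime_card with h | h
      · rwa [Subgroup.subgroupOf_eq_bot, disjoint_iff] at h
      · exact absurd (Subgroup.subgroupOf_eq_top.1 h (Subgroup.mem_zpowers u)) huM
    obtain ⟨G₀, hG₀⟩ : ∃ G₀ : Subgroup G, ∀ x, x ∈ G₀ ↔ x ^ 2 ∈ M :=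
      ⟨{ carrier := {x | x ^ 2 ∈ M}
         one_mem' := by show (1 : G) ^ 2 ∈ M; rw [one_pow]; exact one_mem M
         mul_mem' := fun {a c} ha hc => by
          show (a * c) ^ 2 ∈ M
          rw [Solv.mul_sq_of_central (hcm _ _)]
          exact mul_mem (mul_mem ha hc)
            (hMl (Subgroup.commutator_mem_commutator (Subgroup.mem_top _) (Subgroup.mem_top _)))
         inv_mem' := fun {a} ha => by
          show a⁻¹ ^ 2 ∈ M
          rw [inv_pow]; exact inv_mem ha }, fun _ => Iff.rfl⟩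
    obtain ⟨φ, hφ⟩ : ∃ φ : G → M, ∀ a (ha : a ∈ M), φ a = ⟨a, ha⟩ :=
      ⟨fun a => if ha : a ∈ M then ⟨a, ha⟩ else 1, fun a ha => dif_pos ha⟩
    have hb0 : Nat.card G₀ ≤ Nat.card N * Nat.card M ^ 2 := by
      have h := Solv.quad_bound (hG.to_subgroup G₀)
        (fun t : M => Subtype.ext ((hNm t).1 (hMlt.le t.2)))
        (fun x : G₀ => φ ((x : G) ^ 2)) (fun x y => φ ⁅(y : G), (x : G)⁆)
        (fun x y => by
          rw [hφ _ ((hG₀ _).1 (x * y).2), hφ _ ((hG₀ _).1 x.2), hφ _ ((hG₀ _).1 y.2),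
            hφ _ (hMl (Subgroup.commutator_mem_commutator (Subgroup.mem_top _) (Subgroup.mem_top _)))]
          exact Subtype.ext (by simp [Solv.mul_sq_of_central (hcm _ _)]))
        (fun x x' y => by
          rw [hφ _ (hMl (Subgroup.commutator_mem_commutator (Subgroup.mem_top _) (Subgroup.mem_top _))),
            hφ _ (hMl (Subgroup.commutator_mem_commutator (Subgroup.mem_top _) (Subgroup.mem_top _))),
            hφ _ (hMl (Subgroup.commutator_mem_commutator (Subgroup.mem_top _) (Subgroup.mem_top _)))]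
          exact Subtype.ext (by simp [Solv.commutatorElement_mul_right_of_central (hcm _ _)]))
        (fun x y y' => by
          rw [hφ _ (hMl (Subgroup.commutator_mem_commutator (Subgroup.mem_top _) (Subgroup.mem_top _))),
            hφ _ (hMl (Subgroup.commutator_mem_commutator (Subgroup.mem_top _) (Subgroup.mem_top _))),
            hφ _ (hMl (Subgroup.commutator_mem_commutator (Subgroup.mem_top _) (Subgroup.mem_top _)))]
          exact Subtype.ext (by simp [Solv.commutatorElement_mul_left_of_central (hcm _ _)]))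
        (N.subgroupOf G₀) (fun x => by
          rw [hφ _ ((hG₀ _).1 x.2), Subgroup.mem_subgroupOf, hNm]
          exact ⟨fun h => congrArg Subtype.val h, fun h => Subtype.ext h⟩)
        (fun x c hc => by
          have h1 : ⁅(c : G), (x : G)⁆ = 1 := commutatorElement_eq_one_iff_mul_comm.2
            (Subgroup.mem_center_iff.1 (hNc hc) x).symm
          rw [h1, hφ _ (one_mem M)]; rfl)
      rwa [Nat.card_congr (Subgroup.subgroupOfEquivOfLe (fun x hx => (hG₀ x).2 (by
        rw [(hNm x).1 hx]; exact one_mem M) : N ≤ G₀)).toEquiv] at h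
    have hidx : Nat.card G ≤ Nat.card G₀ * 2 := by
      by_cases hall : ∀ x, x ∈ G₀
      · rw [(Subgroup.eq_top_iff' G₀).2 hall, Subgroup.card_top]; omega
      simp only [not_forall] at hall
      obtain ⟨x₀, hx₀⟩ := hall
      rw [← G₀.card_mul_index]
      refine Nat.mul_le_mul_left _ (le_of_eq (Subgroup.index_eq_two_iff.2 ⟨x₀, fun v => ?_⟩))
      have hcoset : ∀ w, w ∉ G₀ → ∃ m ∈ M, w ^ 2 = m * u := fun w hw => by
        have h1 : w ^ 2 ∈ ((M ⊔ Subgroup.zpowers u : Subgroup G) : Set G) := by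
          rw [← hMN, SetLike.mem_coe, ← hEN']; exact hsqE w
        rw [Subgroup.normal_mul] at h1
        obtain ⟨m, hm, _, ⟨i, rfl⟩, hi⟩ := h1
        refine ⟨m, hm, ?_⟩
        rcases Int.even_or_odd i with ⟨j, hj⟩ | ⟨j, hj⟩
        · refine absurd ((hG₀ w).2 ?_) hw
          rw [← hi]
          show m * u ^ i ∈ M
          rw [hj, ← two_mul, zpow_mul, zpow_ofNat, hu2, one_zpow, mul_one]
          exact hm
        · rw [← hi]
          show m * u ^ i = m * u
          rw [hj, zpow_add_one, zpow_mul, zpow_ofNat, hu2, one_zpow, one_mul]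
      by_cases hv : v ∈ G₀
      · refine Or.inr ⟨hv, fun h => hx₀ ?_⟩
        simpa using mul_mem (inv_mem hv) h
      · refine Or.inl ⟨(hG₀ _).2 ?_, hv⟩
        obtain ⟨m, hm, hme⟩ := hcoset v hv
        obtain ⟨m', hm', hme'⟩ := hcoset x₀ hx₀
        rw [Solv.mul_sq_of_central (hcm _ _), hme, hme']
        refine mul_mem ?_ (hMl (Subgroup.commutator_mem_commutator (Subgroup.mem_top _) (Subgroup.mem_top _)))
        rw [show m * u * (m' * u) = m * (u * m') * u by group,
          Subgroup.mem_center_iff.1 (hNc (hMlt.le hm')) u,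
          show m * (m' * u) * u = m * m' * u ^ 2 by simp only [sq, mul_assoc], hu2, mul_one]
        exact mul_mem hm hm'
    have hMpos : 0 < Nat.card M := Nat.card_pos
    calc Nat.card G ≤ Nat.card G₀ * 2 := hidx
      _ ≤ Nat.card N * Nat.card M ^ 2 * 2 := Nat.mul_le_mul_right _ hb0
      _ < Nat.card N * Nat.card N ^ 2 := by
        rw [hM2]
        have h3 : 0 < Nat.card M * 2 * Nat.card M ^ 2 := by positivity
        nlinarith
      _ = _ := by ring
  · -- the centre is large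
    obtain ⟨z, hz, hzN⟩ := SetLike.not_le_iff_exists.1 hZN
    obtain ⟨K, hK⟩ : ∃ K, K = (Subgroup.zpowers (z ^ 2)).subgroupOf E := ⟨_, rfl⟩
    haveI : K.Normal := ⟨fun x hx g => by
      rw [Solv.comm_of_sq_eq_one hE2 g x, mul_inv_cancel_right]; exact hx⟩
    have hT : ∀ t : E ⧸ K, t ^ 2 = 1 := fun t => by
      induction t using QuotientGroup.induction_on with | _ a
      rw [← QuotientGroup.mk'_apply, ← map_pow, hE2, map_one]
    obtain ⟨φ, hφ⟩ : ∃ φ : G → E ⧸ K, ∀ a (ha : a ∈ E), φ a = QuotientGroup.mk' K ⟨a, ha⟩ :=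
      ⟨fun a => if ha : a ∈ E then QuotientGroup.mk' K ⟨a, ha⟩ else 1, fun a ha => dif_pos ha⟩
    have hz2 : z ^ 2 ≠ 1 := fun h => hzN ((hNm z).2 h)
    obtain ⟨B, hB⟩ : ∃ B, B = N ⊔ Subgroup.zpowers z := ⟨_, rfl⟩
    haveI : N.Normal := hnorm N hEN'.le
    have hBz : ∀ x, x ∈ B → x ^ 2 ∈ Subgroup.zpowers (z ^ 2) := fun x hx => by
      replace hx : x ∈ ((N ⊔ Subgroup.zpowers z : Subgroup G) : Set G) := hB ▸ hx
      rw [Subgroup.normal_mul] at hx
      obtain ⟨a, ha, _, ⟨i, rfl⟩, rfl⟩ := hx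
      show (a * z ^ i) ^ 2 ∈ _
      rw [(show Commute a (z ^ i) from (Subgroup.mem_center_iff.1 (hNc ha) _).symm).mul_pow,
        (hNm a).1 ha, one_mul, ← zpow_natCast (z ^ i), ← zpow_mul, mul_comm, zpow_mul, zpow_natCast]
      exact ⟨i, rfl⟩
    have hbd' : Nat.card G ≤ Nat.card B * Nat.card (E ⧸ K) ^ 2 := by
      have h := bound ⊤ B (E ⧸ K) hT φ (fun a ha c hc => by
        rw [hφ _ (mul_mem ha hc), hφ _ ha, hφ _ hc, ← map_mul]; rfl) le_top
        (fun x _ => ?_) (fun x _ c hc => ?_)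
      · rwa [Subgroup.card_top] at h
      · rw [hφ _ (hsqE x), QuotientGroup.mk'_apply, QuotientGroup.eq_one_iff, hK, Subgroup.mem_subgroupOf]
        refine ⟨fun h => ?_, hBz x⟩
        obtain ⟨i, hi⟩ := h
        replace hi : (z ^ 2) ^ i = x ^ 2 := hi
        have hxN : x * (z ^ i)⁻¹ ∈ N := (hNm _).2 (by
          rw [(show Commute x (z ^ i)⁻¹ from Subgroup.mem_center_iff.1 (inv_mem (zpow_mem hz i)) x).mul_pow,
            inv_pow, ← zpow_natCast (z ^ i), ← zpow_mul, mul_comm, zpow_mul, zpow_natCast, hi,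
            mul_inv_cancel])
        rw [hB, show x = x * (z ^ i)⁻¹ * z ^ i by group]
        exact Subgroup.mul_mem_sup hxN (zpow_mem (Subgroup.mem_zpowers z) i)
      · have hBc : B ≤ Subgroup.center G := hB ▸ sup_le hNc (Subgroup.zpowers_le.2 hz)
        have h1 : ⁅c, x⁆ = 1 := commutatorElement_eq_one_iff_mul_comm.2
          (Subgroup.mem_center_iff.1 (hBc hc) x).symm
        rw [hφ _ (hcmE _ _)]
        exact (congrArg (QuotientGroup.mk' K) (Subtype.ext h1 : (⟨_, hcmE c x⟩ : E) = 1)).trans (map_one _)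
    have hKc : Nat.card K = 2 := by
      rw [hK, Nat.card_congr (Subgroup.subgroupOfEquivOfLe (Subgroup.zpowers_le.2 (hsqE z))).toEquiv,
        Nat.card_zpowers]
      exact orderOf_eq_prime (by rw [← pow_mul]; exact hexp z) hz2
    have hQ : Nat.card E = Nat.card (E ⧸ K) * 2 :=
      K.card_eq_card_quotient_mul_card_subgroup.trans (by rw [hKc])
    have hBle : Nat.card B ≤ Nat.card N * 2 := by
      have h1 := Solv.card_sup_mul_card_inf N (Subgroup.zpowers z)
      rw [← hB] at h1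
      have h4 : orderOf z = 4 := by
        have h' : orderOf z ∣ 2 ^ 2 := orderOf_dvd_of_pow_eq_one (hexp z)
        obtain ⟨j, hj, hj'⟩ := (Nat.dvd_prime_pow Nat.prime_two).1 h'
        interval_cases j
        · exact absurd (show z ^ 2 = 1 by rw [orderOf_eq_one_iff.1 (hj'.trans (pow_zero 2)), one_pow]) hz2
        · exact absurd (show z ^ 2 = 1 by rw [← hj'.trans (pow_one 2), pow_orderOf_eq_one]) hz2
        · exact hj'
      rw [Nat.card_zpowers, h4] at h1
      have h5 : 2 ≤ Nat.card (N ⊓ Subgroup.zpowers z : Subgroup G) := by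
        refine le_trans (le_of_eq ?_) (Subgroup.card_le_of_le (show Subgroup.zpowers (z ^ 2) ≤
          N ⊓ Subgroup.zpowers z from Subgroup.zpowers_le.2
            ⟨(hNm _).2 (by rw [← pow_mul]; exact hexp z), pow_mem (Subgroup.mem_zpowers z) 2⟩))
        rw [Nat.card_zpowers]
        exact (orderOf_eq_prime (by rw [← pow_mul]; exact hexp z) hz2).symm
      nlinarith
    have hQpos : 0 < Nat.card (E ⧸ K) := Nat.card_pos
    calc Nat.card G ≤ Nat.card B * Nat.card (E ⧸ K) ^ 2 := hbd'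
      _ ≤ Nat.card N * 2 * Nat.card (E ⧸ K) ^ 2 := Nat.mul_le_mul_right _ hBle
      _ < Nat.card N * Nat.card N ^ 2 := by
        rw [← heq, hQ]
        have h3 : 0 < Nat.card (E ⧸ K) * 2 * Nat.card (E ⧸ K) ^ 2 := by positivity
        nlinarith
      _ = _ := by ring

end Cfsg.Agent.S3773
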