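import Cfsg.Statements.S3774

set_option autoImplicit false
set_option linter.style.haveILetI false
open Cfsg

open scoped Pointwise commutatorElement

namespace Cfsg.Agent.S3774

/-- Let G be a nontrivial finite 2-group whose automorphism group permutes the involutions of G transitively. Then every involution of G is central, so that the involutions together with 1 form the subgroup Ω₁(Z(G)), and if this subgroup has order q then |G| is a power of q. -/
theorem result {G : Type*} [Group G] [Finite G] [Nontrivial G] (hG : IsPGroup 2 G) (htrans : ∀ x y : G, x ≠ 1 → x ^ 2 = 1 → y ≠ 1 → y ^ 2 = 1 → ∃ a : MulAut G, a x = y) : (∀ x : G, x ^ 2 = 1 → x ∈ Subgroup.center G) ∧ ∃ m : ℕ, Nat.card G = Nat.card {z : G // z ^ 2 = 1} ^ m := by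
  haveI := Fact.mk Nat.prime_two
  haveI := hG.center_nontrivial
  obtain ⟨⟨z, hzc⟩, hz⟩ := exists_prime_orderOf_dvd_card' (G := Subgroup.center G) 2 (by
    obtain ⟨k, hk⟩ := IsPGroup.iff_card.1 (hG.to_subgroup (Subgroup.center G))
    rw [hk]
    refine dvd_pow_self 2 fun h0 => ?_
    rw [h0, pow_zero] at hk
    exact Finite.one_lt_card.ne' hk)
  rw [← Subgroup.orderOf_coe] at hz
  change orderOf z = 2 at hz
  have hz2 : z ^ 2 = 1 := hz ▸ pow_orderOf_eq_one z
  have hz1 : z ≠ 1 := fun h => by rw [h, orderOf_one] at hz; omega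
  have hcen : ∀ x : G, x ^ 2 = 1 → x ∈ Subgroup.center G := by
    intro x hx
    by_cases hx1 : x = 1
    · rw [hx1]; exact one_mem _
    obtain ⟨a, ha⟩ := htrans z x hz1 hz2 hx1 hx
    refine Subgroup.mem_center_iff.2 fun g => ?_
    have := congrArg a (Subgroup.mem_center_iff.1 hzc (a.symm g))
    rwa [map_mul, map_mul, a.apply_symm_apply, ha] at this
  refine ⟨hcen, ?_⟩
  obtain ⟨E, hE⟩ : ∃ E : Subgroup G, ∀ x, x ∈ E ↔ x ^ 2 = 1 :=
    ⟨{ carrier := {x | x ^ 2 = 1}
       one_mem' := one_pow 2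
       mul_mem' := fun {a b} ha hb => by
        show (a * b) ^ 2 = 1
        rw [(show Commute a b from (Subgroup.mem_center_iff.1 (hcen a ha) b).symm).mul_pow,
          show a ^ 2 = 1 from ha, show b ^ 2 = 1 from hb, one_mul]
       inv_mem' := fun {a} ha => by
        show a⁻¹ ^ 2 = 1
        rw [inv_pow, show a ^ 2 = 1 from ha, inv_one] }, fun _ => Iff.rfl⟩
  have hEc : Nat.card {x : G // x ^ 2 = 1} = Nat.card E :=
    (Nat.card_congr (Equiv.subtypeEquivRight hE)).symm
  obtain ⟨k, hk⟩ := IsPGroup.iff_card.1 (hG.to_subgroup E)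
  obtain ⟨d, hd⟩ := IsPGroup.iff_card.1 hG
  -- each involution is the last power of the same number of elements
  classical
  haveI := Fintype.ofFinite G
  have hf : ∀ x : G, x ≠ 1 → (x ^ (orderOf x / 2)) ^ 2 = 1 ∧ x ^ (orderOf x / 2) ≠ 1 := by
    intro x hx
    obtain ⟨j, hj⟩ := (IsPGroup.iff_orderOf.1 hG) x
    have hj0 : j ≠ 0 := fun h => hx (orderOf_eq_one_iff.1 (by rw [hj, h, pow_zero]))
    obtain ⟨j, rfl⟩ := Nat.exists_eq_succ_of_ne_zero hj0
    have hdiv : orderOf x / 2 = 2 ^ j := by rw [hj, pow_succ, Nat.mul_div_cancel _ two_pos]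
    rw [hdiv]
    refine ⟨by rw [← pow_mul, ← pow_succ, ← hj, pow_orderOf_eq_one], fun h => ?_⟩
    have := Nat.le_of_dvd (by positivity) (orderOf_dvd_of_pow_eq_one h)
    rw [hj, pow_succ] at this
    have : 0 < 2 ^ j := by positivity
    omega
  obtain ⟨F, hF⟩ : ∃ F : G → Finset G, ∀ e, F e = Finset.univ.filter
      fun x => x ≠ 1 ∧ x ^ (orderOf x / 2) = e := ⟨_, fun _ => rfl⟩
  have hfib : ∀ e ∈ (Finset.univ.filter fun e : G => e ^ 2 = 1).erase 1,
      (F e).card = (F z).card := by
    intro e he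
    rw [Finset.mem_erase, Finset.mem_filter] at he
    obtain ⟨a, ha⟩ := htrans z e hz1 hz2 he.1 he.2.2
    rw [hF, hF]
    refine (Finset.card_equiv a.toEquiv fun x => ?_).symm
    simp only [Finset.mem_filter, Finset.mem_univ, true_and]
    show _ ↔ a x ≠ 1 ∧ a x ^ (orderOf (a x) / 2) = e
    rw [MulEquiv.orderOf_eq, ← map_pow, ← ha, a.injective.eq_iff]
    exact and_congr_left' (not_congr a.map_eq_one_iff.symm)
  have hcount : (Finset.univ.erase (1 : G)).card =
      ∑ e ∈ (Finset.univ.filter fun e : G => e ^ 2 = 1).erase 1, (F e).card := by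
    rw [Finset.card_eq_sum_card_fiberwise (f := fun x : G => x ^ (orderOf x / 2))
      (t := (Finset.univ.filter fun e : G => e ^ 2 = 1).erase 1)]
    · refine Finset.sum_congr rfl fun e _ => congrArg Finset.card ?_
      ext x
      simp [hF]
    · intro x hx
      have hx' : x ≠ 1 := by simpa using hx
      simpa using And.intro (hf x hx').1 (hf x hx').2
  rw [Finset.sum_congr rfl hfib, Finset.sum_const, smul_eq_mul,
    Finset.card_erase_of_mem (Finset.mem_univ _), Finset.card_univ,
    Finset.card_erase_of_mem (by simp), ← Nat.card_eq_fintype_card, ← Fintype.card_subtype,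
    ← Nat.card_eq_fintype_card, hEc, hd, hk] at hcount
  refine ⟨d / k, ?_⟩
  rw [hEc, hd, hk, ← pow_mul]
  congr 1
  have hdvd : 2 ^ k - 1 ∣ 2 ^ d - 1 := ⟨_, hcount⟩
  have h1 := Nat.pow_sub_one_gcd_pow_sub_one 2 k d
  rw [Nat.gcd_eq_left hdvd] at h1
  have h2 : 2 ^ k = 2 ^ Nat.gcd k d := by
    have := Nat.one_le_two_pow (n := k); have := Nat.one_le_two_pow (n := Nat.gcd k d)
    omega
  exact (Nat.mul_div_cancel' ((Nat.pow_right_injective le_rfl h2) ▸ Nat.gcd_dvd_right k d)).symm

end Cfsg.Agent.S3774
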