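import Cfsg.Statements.S3775
import Mathlib

set_option autoImplicit false
set_option linter.style.haveILetI false
open Cfsg

open scoped Pointwise commutatorElement

namespace Cfsg.Agent.S3775

theorem exists_compl_of_homocyclic {G : Type*} [CommGroup G] [Finite G] {p : ℕ} (hp : p.Prime)
    (e : ℕ) (he : 1 ≤ e) (hexp : ∀ a : G, a ^ p ^ e = 1) (C : Subgroup G)
    (hC : ∀ c ∈ C, c ^ p ^ (e - 1) = 1 → ∃ d ∈ C, d ^ p = c) :
    ∃ B : Subgroup G, B ⊓ C = ⊥ ∧ B ⊔ C = ⊤ := by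
  obtain ⟨B, hB, hmax⟩ := Set.exists_max_image {B : Subgroup G | B ⊓ C = ⊥}
    (fun B : Subgroup G => Nat.card B) (Set.toFinite _) ⟨⊥, bot_inf_eq C⟩
  have hB : B ⊓ C = ⊥ := hB
  refine ⟨B, hB, by_contra fun htop => ?_⟩
  obtain ⟨j, a, ha, haj⟩ : ∃ j, ∃ a : G, a ∉ B ⊔ C ∧ a ^ p ^ j ∈ B ⊔ C := by
    obtain ⟨a, -, ha⟩ := SetLike.exists_of_lt (lt_top_iff_ne_top.2 htop)
    exact ⟨e, a, ha, by rw [hexp]; exact one_mem _⟩
  obtain ⟨a, ha, hap⟩ : ∃ a : G, a ∉ B ⊔ C ∧ a ^ p ∈ B ⊔ C := by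
    induction j with
    | zero => rw [pow_zero, pow_one] at haj; exact absurd haj ha
    | succ j ih =>
      by_cases h : a ^ p ^ j ∈ B ⊔ C
      · exact ih h
      · exact ⟨a ^ p ^ j, h, by rwa [← pow_mul, ← pow_succ]⟩
  obtain ⟨b, hb, c, hc, hbc⟩ := Subgroup.mem_sup.1 hap
  have hc1 : c ^ p ^ (e - 1) = 1 := by
    have h2 : (b * c) ^ p ^ (e - 1) = 1 := by
      rw [hbc, ← pow_mul, ← pow_succ', Nat.sub_add_cancel he, hexp]
    rw [mul_pow, mul_eq_one_iff_eq_inv] at h2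
    have h3 : c ^ p ^ (e - 1) ∈ B ⊓ C := by
      refine Subgroup.mem_inf.2 ⟨?_, pow_mem hc _⟩
      rw [← inv_inv (c ^ p ^ (e - 1)), ← h2]
      exact inv_mem (pow_mem hb _)
    rwa [hB, Subgroup.mem_bot] at h3
  obtain ⟨d, hd, hdc⟩ := hC c hc hc1
  obtain ⟨a', ha'⟩ : ∃ a', a' = a * d⁻¹ := ⟨_, rfl⟩
  have ha'p : a' ^ p = b := by rw [ha', mul_pow, inv_pow, hdc, ← hbc, mul_inv_cancel_right]
  have ha'n : a' ∉ B ⊔ C := fun h => ha (by
    have := mul_mem h (Subgroup.mem_sup_right (S := B) hd)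
    rwa [ha', inv_mul_cancel_right] at this)
  have hne : (B ⊔ Subgroup.zpowers a') ⊓ C ≠ ⊥ := fun h => ha'n (by
    have hle : Nat.card (B ⊔ Subgroup.zpowers a' : Subgroup G) ≤ Nat.card B := hmax _ h
    have heq := Subgroup.eq_of_le_of_card_ge
      (le_sup_left : B ≤ B ⊔ Subgroup.zpowers a') hle
    exact Subgroup.mem_sup_left (by
      rw [heq]; exact Subgroup.mem_sup_right (Subgroup.mem_zpowers a')))
  refine hne (eq_bot_iff.2 fun z hz => ?_)
  obtain ⟨hz1, hz2⟩ := Subgroup.mem_inf.1 hz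
  obtain ⟨b0, hb0, w, hw, hbw⟩ := Subgroup.mem_sup.1 hz1
  obtain ⟨k, rfl⟩ := Subgroup.mem_zpowers_iff.1 hw
  by_cases hk : (p : ℤ) ∣ k
  · obtain ⟨m, rfl⟩ := hk
    have h4 : z ∈ B ⊓ C := by
      refine Subgroup.mem_inf.2 ⟨?_, hz2⟩
      rw [← hbw, zpow_mul, zpow_natCast, ha'p]
      exact mul_mem hb0 (zpow_mem hb m)
    rwa [hB] at h4
  · exfalso
    obtain ⟨u, v, huv⟩ := (Prime.coprime_iff_not_dvd (Nat.prime_iff_prime_int.1 hp)).2 hk
    refine ha'n ?_
    have h1 : a' ^ (p : ℤ) ∈ B ⊔ C := by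
      rw [zpow_natCast, ha'p]
      exact Subgroup.mem_sup_left hb
    have h2 : a' ^ k ∈ B ⊔ C := by
      rw [show a' ^ k = b0⁻¹ * z by rw [← hbw, inv_mul_cancel_left]]
      exact mul_mem (Subgroup.mem_sup_left (inv_mem hb0)) (Subgroup.mem_sup_right hz2)
    have := mul_mem (zpow_mem h1 u) (zpow_mem h2 v)
    rwa [← zpow_mul, ← zpow_mul, ← zpow_add, mul_comm (p : ℤ), mul_comm k, huv, zpow_one] at this

theorem exists_invariant_compl {G X : Type*} [CommGroup G] [Finite G] [Group X] [Finite X]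
    (α : X →* MulAut G) (hX : Nat.Coprime (Nat.card G) (Nat.card X)) (K B : Subgroup G)
    (hK : ∀ x, ∀ k ∈ K, α x k ∈ K) (hBK : B ⊓ K = ⊥) (hBK' : B ⊔ K = ⊤) :
    ∃ B' : Subgroup G, (∀ x, ∀ b ∈ B', α x b ∈ B') ∧ B' ⊓ K = ⊥ ∧ B' ⊔ K = ⊤ := by
  classical
  have := Fintype.ofFinite X
  have hdec : ∀ g : G, ∃ k ∈ K, k⁻¹ * g ∈ B := fun g => by
    have hg : g ∈ B ⊔ K := by rw [hBK']; exact Subgroup.mem_top g
    obtain ⟨b, hb, k, hk, rfl⟩ := Subgroup.mem_sup.1 hg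
    exact ⟨k, hk, by rw [mul_comm b, inv_mul_cancel_left]; exact hb⟩
  choose r hr1 hr2 using hdec
  have huniq : ∀ g k, k ∈ K → k⁻¹ * g ∈ B → r g = k := fun g k hk hkb => by
    have : k⁻¹ * r g ∈ B ⊓ K := by
      refine Subgroup.mem_inf.2 ⟨?_, mul_mem (inv_mem hk) (hr1 g)⟩
      have := mul_mem hkb (inv_mem (hr2 g))
      rwa [mul_inv_rev, inv_inv, mul_assoc, mul_inv_cancel_left] at this
    rw [hBK, Subgroup.mem_bot, inv_mul_eq_one] at this
    exact this.symm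
  let R : G →* G := MonoidHom.mk' r fun a b => huniq _ _ (mul_mem (hr1 a) (hr1 b)) (by
    rw [mul_inv, mul_mul_mul_comm]
    exact mul_mem (hr2 a) (hr2 b))
  let S : G →* G := ∏ x : X, ((α x).toMonoidHom.comp (R.comp (α x⁻¹).toMonoidHom))
  have hS : ∀ g, S g = ∏ x : X, α x (R (α x⁻¹ g)) := fun g => MonoidHom.finsetProd_apply _ _ g
  obtain ⟨P, hP⟩ : ∃ P : G ≃* G, ∀ g, P g = g ^ Nat.card X :=
    ⟨MulEquiv.ofBijective (powMonoidHom (Nat.card X) : G →* G) (powCoprime hX).bijective,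
      fun g => rfl⟩
  let T : G →* G := P.symm.toMonoidHom.comp S
  have hTK : ∀ k ∈ K, T k = k := fun k hk => by
    have h1 : S k = P k := by
      rw [hS, hP, Finset.prod_congr rfl (fun x _ => show α x (R (α x⁻¹ k)) = k by
        rw [show R (α x⁻¹ k) = α x⁻¹ k from huniq _ _ (hK _ k hk) (by
          rw [inv_mul_cancel]; exact one_mem _), ← MulAut.mul_apply, ← map_mul, mul_inv_cancel,
          map_one, MulAut.one_apply]), Finset.prod_const, Finset.card_univ, Nat.card_eq_fintype_card]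
    show P.symm (S k) = k
    rw [h1, P.symm_apply_apply]
  have hTin : ∀ g, T g ∈ K := fun g => by
    have h1 : S g ∈ K := by
      rw [hS]
      exact Subgroup.prod_mem _ fun x _ => hK x _ (hr1 _)
    obtain ⟨n, hn⟩ : ∃ n, T g = S g ^ n := by
      obtain ⟨n, hn⟩ := exists_pow_eq_self_of_coprime (x := T g)
        (n := Nat.card X) (hX.symm.coprime_dvd_right (orderOf_dvd_natCard _))
      refine ⟨n, hn.symm.trans (congrArg (· ^ n) ?_)⟩
      rw [← hP]
      exact P.apply_symm_apply _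
    rw [hn]
    exact pow_mem h1 n
  have heq : ∀ y g, T (α y g) = α y (T g) := fun y g => by
    have h1 : S (α y g) = α y (S g) := by
      rw [hS, hS, map_prod]
      refine Fintype.prod_equiv (Equiv.mulLeft y⁻¹) _ _ fun x => ?_
      show α x (R (α x⁻¹ (α y g))) = α y (α (y⁻¹ * x) (R (α (y⁻¹ * x)⁻¹ g)))
      rw [← MulAut.mul_apply G (α y), ← map_mul, mul_inv_cancel_left, ← MulAut.mul_apply G (α x⁻¹),
        ← map_mul, mul_inv_rev, inv_inv]
    refine P.injective ?_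
    rw [hP (α y (T g)), ← map_pow, ← hP]
    show P (P.symm (S (α y g))) = α y (P (P.symm (S g)))
    rw [P.apply_symm_apply, P.apply_symm_apply, h1]
  refine ⟨T.ker, fun x b hb => ?_, eq_bot_iff.2 fun g hg => ?_, eq_top_iff.2 fun g _ => ?_⟩
  · rw [MonoidHom.mem_ker, heq, MonoidHom.mem_ker.1 hb, map_one]
  · obtain ⟨h1, h2⟩ := Subgroup.mem_inf.1 hg
    rw [MonoidHom.mem_ker, hTK g h2] at h1
    exact h1
  · rw [show g = g * (T g)⁻¹ * T g by group]
    refine Subgroup.mul_mem_sup ?_ (hTin g)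
    rw [MonoidHom.mem_ker, map_mul, map_inv, hTK _ (hTin g), mul_inv_cancel]

variable {A : Type*} [CommGroup A] [Finite A] {p : ℕ} [hp : Fact p.Prime]

omit hp in
theorem inv_iff (B : Subgroup A) (x : MulAut A) :
    B.map x.toMonoidHom = B ↔ ∀ b ∈ B, x b ∈ B := by
  refine ⟨fun h b hb => h ▸ Subgroup.mem_map_of_mem x.toMonoidHom hb, fun h => ?_⟩
  refine Subgroup.eq_of_le_of_card_ge (Subgroup.map_le_iff_le_comap.2 h) ?_
  rw [Subgroup.card_map_of_injective x.injective]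

omit [Finite A] hp in
theorem mem_omega {i : ℕ} (a : A) :
    a ∈ (powMonoidHom (p ^ i) : A →* A).ker ↔ a ^ p ^ i = 1 := Iff.rfl

omit hp in
theorem map_omega (i : ℕ) (B : Subgroup A) (x : MulAut A) (hB : B.map x.toMonoidHom = B)
    {u : A} (hu : u ∈ B.map (powMonoidHom (p ^ i) : A →* A)) :
    x u ∈ B.map (powMonoidHom (p ^ i) : A →* A) := by
  obtain ⟨b, hb, rfl⟩ := hu
  exact ⟨x b, (inv_iff B x).1 hB b hb, (map_pow x b _).symm⟩

theorem two_of_three (hA : IsPGroup p A) (X : Subgroup (MulAut A))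
    (h3 : ∀ B : Subgroup A, (∀ x ∈ X, B.map x.toMonoidHom = B) → (∀ b ∈ B, b ^ p = 1) →
      B = ⊥ ∨ ∀ a : A, a ∈ B ↔ a ^ p = 1)
    (B : Subgroup A) (hB : ∀ x ∈ X, B.map x.toMonoidHom = B) :
    ∃ i : ℕ, ∀ a : A, a ∈ B ↔ a ^ p ^ i = 1 := by
  by_contra hne
  simp only [not_exists] at hne
  have key : ∀ i : ℕ, ∀ a : A, a ^ p ^ i = 1 → a ∈ B := by
    intro i
    induction i with
    | zero => intro a ha; rw [pow_zero, pow_one] at ha; rw [ha]; exact one_mem B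
    | succ i ih =>
      obtain ⟨b, hb, hbi⟩ : ∃ b ∈ B, b ^ p ^ i ≠ 1 := by
        by_contra hall
        simp only [not_exists, not_and, not_not] at hall
        exact hne i fun a => ⟨fun ha => hall a ha, fun ha => ih a ha⟩
      -- the invariant subgroup of `p ^ i`-th powers inside `B`
      obtain ⟨U, hU⟩ : ∃ U, U = (B ⊓ (powMonoidHom (p ^ (i + 1)) : A →* A).ker).map
          (powMonoidHom (p ^ i) : A →* A) := ⟨_, rfl⟩
      have hUinv : ∀ x ∈ X, U.map x.toMonoidHom = U := fun x hx => (inv_iff U x).2 fun u hu => by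
        rw [hU] at hu ⊢
        refine map_omega i _ x ((inv_iff _ x).2 fun c hc => ?_) hu
        obtain ⟨h1, h2⟩ := Subgroup.mem_inf.1 hc
        refine Subgroup.mem_inf.2 ⟨(inv_iff B x).1 (hB x hx) c h1, ?_⟩
        rw [mem_omega] at h2 ⊢
        rw [← map_pow, h2, map_one]
      have hUp : ∀ u ∈ U, u ^ p = 1 := by
        rw [hU]
        rintro _ ⟨c, hc, rfl⟩
        rw [powMonoidHom_apply, ← pow_mul, ← pow_succ]
        exact (Subgroup.mem_inf.1 hc).2
      have hUne : U ≠ ⊥ := by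
        obtain ⟨k, hk⟩ := IsPGroup.iff_orderOf.1 hA b
        have hik : i < k := by
          by_contra hle
          exact hbi (orderOf_dvd_iff_pow_eq_one.1 (hk ▸ pow_dvd_pow p (not_lt.1 hle)))
        intro hbot
        have hmem : (b ^ p ^ (k - 1 - i)) ^ p ^ i ∈ U := by
          rw [hU]
          refine ⟨b ^ p ^ (k - 1 - i), Subgroup.mem_inf.2 ⟨pow_mem hb _, ?_⟩, rfl⟩
          rw [mem_omega, ← pow_mul, ← pow_add, show k - 1 - i + (i + 1) = k by omega, ← hk]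
          exact pow_orderOf_eq_one b
        rw [hbot, Subgroup.mem_bot, ← pow_mul, ← pow_add, show k - 1 - i + i = k - 1 by omega,
          ← orderOf_dvd_iff_pow_eq_one, hk, Nat.pow_dvd_pow_iff_le_right hp.out.one_lt] at hmem
        omega
      intro a ha
      have h1 : a ^ p ^ i ∈ U := ((h3 U hUinv hUp).resolve_left hUne _).2 (by
        rw [← pow_mul, ← pow_succ]; exact ha)
      rw [hU] at h1
      obtain ⟨c, hc, hca⟩ := h1
      have h2 : a * c⁻¹ ∈ B := ih _ (by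
        rw [mul_pow, inv_pow, ← hca, powMonoidHom_apply, mul_inv_cancel])
      have := mul_mem h2 (Subgroup.mem_inf.1 hc).1
      rwa [inv_mul_cancel_right] at this
  obtain ⟨n, hn⟩ := IsPGroup.iff_card.1 hA
  exact hne n fun a => ⟨fun _ => by rw [← hn]; exact pow_card_eq_one',
    fun ha => key n a ha⟩

theorem three_of_one (hA : IsPGroup p A) (X : Subgroup (MulAut A))
    (hX : (Nat.card X).Coprime p)
    (h1 : ¬ ∃ B C : Subgroup A, B ≠ ⊥ ∧ C ≠ ⊥ ∧ (∀ x ∈ X, B.map x.toMonoidHom = B) ∧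
      (∀ x ∈ X, C.map x.toMonoidHom = C) ∧ B ⊓ C = ⊥ ∧ B ⊔ C = ⊤)
    (B : Subgroup A) (hB : ∀ x ∈ X, B.map x.toMonoidHom = B) (hBp : ∀ b ∈ B, b ^ p = 1) :
    B = ⊥ ∨ ∀ a : A, a ∈ B ↔ a ^ p = 1 := by
  classical
  by_cases hB1 : B = ⊥
  · exact Or.inl hB1
  refine Or.inr ?_
  obtain ⟨n, hn⟩ := IsPGroup.iff_card.1 hA
  have hcop : Nat.Coprime (Nat.card A) (Nat.card X) := hn ▸ (hX.symm.pow_left n)
  obtain ⟨e, -, hexp⟩ := (Nat.dvd_prime_pow hp.out).1
    (hn ▸ (Group.exponent_dvd_nat_card : Monoid.exponent A ∣ Nat.card A))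
  have he : 1 ≤ e := by
    by_contra h0
    obtain rfl : e = 0 := by omega
    refine hB1 (eq_bot_iff.2 fun b _ => ?_)
    have h : b ^ Monoid.exponent A = 1 := Monoid.pow_exponent_eq_one b
    rw [hexp, pow_zero, pow_one] at h
    exact h
  have hpe : ∀ a : A, a ^ p ^ e = 1 := fun a => hexp ▸ Monoid.pow_exponent_eq_one a
  obtain ⟨φ, hφ⟩ : ∃ φ, φ = (powMonoidHom (p ^ (e - 1)) : A →* A) := ⟨_, rfl⟩
  have hφp : ∀ a, (φ a) ^ p = 1 := fun a => by
    rw [hφ, powMonoidHom_apply, ← pow_mul, ← pow_succ, Nat.sub_add_cancel he, hpe]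
  have hφr : φ.range ≠ ⊥ := fun h => by
    have h' : Monoid.exponent A ∣ p ^ (e - 1) :=
      Monoid.exponent_dvd_iff_forall_pow_eq_one.2 fun a => by
        have : φ a ∈ φ.range := ⟨a, rfl⟩
        rw [h, Subgroup.mem_bot, hφ] at this
        exact this
    rw [hexp, Nat.pow_dvd_pow_iff_le_right hp.out.one_lt] at h'
    omega
  have hφinv : ∀ (x : MulAut A) a, φ (x a) = x (φ a) := fun x a => by
    rw [hφ, powMonoidHom_apply, powMonoidHom_apply, map_pow]
  obtain ⟨U, ⟨hUne, hUle, hUinv⟩, hUmin⟩ := Set.exists_min_image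
    {U : Subgroup A | U ≠ ⊥ ∧ U ≤ φ.range ∧ ∀ x ∈ X, U.map x.toMonoidHom = U}
    (fun U : Subgroup A => Nat.card U) (Set.toFinite _)
    ⟨φ.range, hφr, le_rfl, fun x _ => (inv_iff _ x).2 fun _ ⟨a, ha⟩ =>
      ⟨x a, by rw [hφinv, ha]⟩⟩
  obtain ⟨C, ⟨hCinv, hCU⟩, hCmin⟩ := Set.exists_min_image
    {C : Subgroup A | (∀ x ∈ X, C.map x.toMonoidHom = C) ∧ C.map φ = U}
    (fun C : Subgroup A => Nat.card C) (Set.toFinite _)
    ⟨U.comap φ, fun x hx => (inv_iff _ x).2 fun a ha => by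
      rw [Subgroup.mem_comap, hφinv]
      exact (inv_iff U x).1 (hUinv x hx) _ ha, Subgroup.map_comap_eq_self hUle⟩
  -- the kernel of `φ` on `C` consists of `p`-th powers
  have hker : ∀ c ∈ C, c ^ p ^ (e - 1) = 1 → ∃ d ∈ C, d ^ p = c := by
    let L : Subgroup C := (powMonoidHom p : C →* C).range
    let act : X →* MulAut C :=
      { toFun := fun x =>
          ((x : MulAut A).subgroupMap C).trans (MulEquiv.subgroupCongr (hCinv x x.2))
        map_one' := MulEquiv.ext fun c => Subtype.ext rfl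
        map_mul' := fun x y => MulEquiv.ext fun c => Subtype.ext rfl }
    have hLinv : ∀ x, L.map (act x).toMonoidHom = L := fun x => (inv_iff L (act x)).2 fun l hl => by
      obtain ⟨d, rfl⟩ := hl
      exact ⟨act x d, (map_pow (act x) d p).symm⟩
    let actq : X →* MulAut (C ⧸ L) :=
      { toFun := fun x => QuotientGroup.congr L L (act x) (hLinv x)
        map_one' := MulEquiv.ext fun c => by
          induction c using QuotientGroup.induction_on with | _ c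
          rfl
        map_mul' := fun x y => MulEquiv.ext fun c => by
          induction c using QuotientGroup.induction_on with | _ c
          rfl }
    have hq : ∀ a : C ⧸ L, a ^ p ^ 1 = 1 := fun a => by
      induction a using QuotientGroup.induction_on with | _ a
      rw [pow_one, ← QuotientGroup.mk_pow, QuotientGroup.eq_one_iff]
      exact ⟨a, rfl⟩
    have hcopq : Nat.Coprime (Nat.card (C ⧸ L)) (Nat.card X) :=
      hcop.coprime_dvd_left
        ((Subgroup.card_quotient_dvd_card L).trans (Subgroup.card_subgroup_dvd_card C))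
    let K : Subgroup (C ⧸ L) := ((φ.comp C.subtype).ker).map (QuotientGroup.mk' L)
    obtain ⟨B0, hB0, hB0'⟩ := exists_compl_of_homocyclic hp.out 1 le_rfl hq K fun c _ h => by
      rw [Nat.sub_self, pow_zero, pow_one] at h
      exact ⟨1, one_mem _, by rw [h, one_pow]⟩
    have hKinv : ∀ x, ∀ k ∈ K, actq x k ∈ K := by
      rintro x _ ⟨c, hc, rfl⟩
      refine ⟨act x c, ?_, rfl⟩
      show φ ((x : MulAut A) c) = 1
      rw [hφinv, show φ (c : A) = 1 from hc, map_one]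
    obtain ⟨Bq, hBinv, hBK, hBK'⟩ := exists_invariant_compl actq hcopq K B0 hKinv hB0 hB0'
    let C' : Subgroup A := (Bq.comap (QuotientGroup.mk' L)).map C.subtype
    have hC'C : C' ≤ C := Subgroup.map_subtype_le _
    have hC'mem : C' ∈ {C : Subgroup A | (∀ x ∈ X, C.map x.toMonoidHom = C) ∧ C.map φ = U} := by
      refine ⟨fun x hx => (inv_iff C' x).2 ?_, le_antisymm (hCU ▸ Subgroup.map_mono hC'C) ?_⟩
      · rintro _ ⟨c, hc, rfl⟩
        exact ⟨act ⟨x, hx⟩ c, hBinv ⟨x, hx⟩ _ hc, rfl⟩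
      · rw [← hCU]
        rintro _ ⟨c, hc, rfl⟩
        have hc2 : (QuotientGroup.mk ⟨c, hc⟩ : C ⧸ L) ∈ Bq ⊔ K := by
          rw [hBK']; exact Subgroup.mem_top _
        obtain ⟨bb, hbb, _, ⟨k, hk, rfl⟩, hmul⟩ := Subgroup.mem_sup.1 hc2
        refine ⟨((⟨c, hc⟩ * k⁻¹ : C) : A), ⟨⟨c, hc⟩ * k⁻¹, ?_, rfl⟩, ?_⟩
        · show (QuotientGroup.mk (⟨c, hc⟩ * k⁻¹) : C ⧸ L) ∈ Bq
          rw [QuotientGroup.mk_mul, QuotientGroup.mk_inv, ← hmul, QuotientGroup.mk'_apply,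
            mul_inv_cancel_right]
          exact hbb
        · rw [Subgroup.coe_mul, Subgroup.coe_inv, map_mul, map_inv, show φ (k : A) = 1 from hk,
            inv_one, mul_one]
    have hCC' : C' = C := Subgroup.eq_of_le_of_card_ge hC'C (hCmin C' hC'mem)
    intro c hc hc1
    have hc' : c ∈ C' := by rw [hCC']; exact hc
    obtain ⟨c0, hc0, hcc⟩ := hc'
    have hK0 : (QuotientGroup.mk c0 : C ⧸ L) ∈ Bq ⊓ K := by
      refine Subgroup.mem_inf.2 ⟨hc0, c0, ?_, rfl⟩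
      show φ (c0 : A) = 1
      rw [show (c0 : A) = c from hcc, hφ]
      exact hc1
    rw [hBK, Subgroup.mem_bot, QuotientGroup.eq_one_iff] at hK0
    obtain ⟨d, hd⟩ := hK0
    exact ⟨d, d.2, (congrArg Subtype.val hd).trans hcc⟩
  obtain ⟨B0, hB0, hB0'⟩ := exists_compl_of_homocyclic hp.out e he hpe C hker
  obtain ⟨D, hDinv, hDC, hDC'⟩ := exists_invariant_compl X.subtype hcop C B0
    (fun x c hc => (inv_iff C x).1 (hCinv x x.2) c hc) hB0 hB0'
  have hCne : C ≠ ⊥ := fun h => hUne (by rw [← hCU, h, Subgroup.map_bot])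
  have hD1 : D = ⊥ := by_contra fun hne =>
    h1 ⟨D, C, hne, hCne, fun x hx => (inv_iff D x).2 (hDinv ⟨x, hx⟩), hCinv, hDC, hDC'⟩
  have hCtop : C = ⊤ := by rw [← hDC', hD1, bot_sup_eq]
  have homega : ∀ j, j + 1 ≤ e → ∀ a : A, a ^ p ^ (j + 1) = 1 → ∃ d, d ^ p ^ (e - 1 - j) = a := by
    intro j hj
    induction hk : e - 1 - j generalizing j with
    | zero => exact fun a _ => ⟨a, by rw [pow_zero, pow_one]⟩
    | succ k ih =>
      intro a ha
      obtain ⟨d, -, hd⟩ := hker a (hCtop ▸ Subgroup.mem_top a) (by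
        rw [show e - 1 = (j + 1) + k by omega, pow_add, pow_mul, ha, one_pow])
      obtain ⟨g, hg⟩ := ih (j + 1) (by omega) (by omega) d (by
        rw [pow_succ', pow_mul, hd, ha])
      exact ⟨g, by rw [pow_succ, pow_mul, hg, hd]⟩
  have hΩU : ∀ a : A, a ^ p = 1 → a ∈ U := fun a ha => by
    obtain ⟨d, hd⟩ := homega 0 he a (by rwa [zero_add, pow_one])
    rw [← hCU, hCtop]
    exact ⟨d, Subgroup.mem_top d, by rw [hφ, powMonoidHom_apply, ← hd, Nat.sub_zero]⟩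
  have hBU : B ≤ U := fun b hb => hΩU b (hBp b hb)
  have hBeq : B = U :=
    Subgroup.eq_of_le_of_card_ge hBU (hUmin B ⟨hB1, hBU.trans hUle, hB⟩)
  intro a
  refine ⟨hBp a, fun ha => ?_⟩
  rw [hBeq]
  exact hΩU a ha

/-- Let A be a finite abelian p-group and X a group of automorphisms of A of order prime to p. Call a subgroup of A invariant when every element of X maps it onto itself. Then the following are equivalent: (i) A is not the direct product of two nontrivial invariant subgroups; (ii) every invariant subgroup of A is one of the subgroups Ω_i(A) = {a : a^(p^i) = 1}; (iii) the subgroup Ω₁(A) of elements of order dividing p has no invariant subgroups other than 1 and itself. -/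
theorem result {A : Type*} [CommGroup A] [Finite A] {p : ℕ} [Fact p.Prime] (hA : IsPGroup p A) (X : Subgroup (MulAut A)) (hX : (Nat.card X).Coprime p) : ((¬ ∃ B C : Subgroup A, B ≠ ⊥ ∧ C ≠ ⊥ ∧ (∀ x ∈ X, B.map x.toMonoidHom = B) ∧ (∀ x ∈ X, C.map x.toMonoidHom = C) ∧ B ⊓ C = ⊥ ∧ B ⊔ C = ⊤) ↔ (∀ B : Subgroup A, (∀ x ∈ X, B.map x.toMonoidHom = B) → ∃ i : ℕ, ∀ a : A, a ∈ B ↔ a ^ p ^ i = 1)) ∧ ((∀ B : Subgroup A, (∀ x ∈ X, B.map x.toMonoidHom = B) → ∃ i : ℕ, ∀ a : A, a ∈ B ↔ a ^ p ^ i = 1) ↔ (∀ B : Subgroup A, (∀ x ∈ X, B.map x.toMonoidHom = B) → (∀ b ∈ B, b ^ p = 1) → B = ⊥ ∨ ∀ a : A, a ∈ B ↔ a ^ p = 1)) := by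
  have h32 := two_of_three hA X
  have h23 : (∀ B : Subgroup A, (∀ x ∈ X, B.map x.toMonoidHom = B) →
      ∃ i : ℕ, ∀ a : A, a ∈ B ↔ a ^ p ^ i = 1) →
      (∀ B : Subgroup A, (∀ x ∈ X, B.map x.toMonoidHom = B) → (∀ b ∈ B, b ^ p = 1) →
        B = ⊥ ∨ ∀ a : A, a ∈ B ↔ a ^ p = 1) := by
    intro h B hB hBp
    obtain ⟨i, hi⟩ := h B hB
    rcases i with _ | i
    · refine Or.inl (eq_bot_iff.2 fun b hb => ?_)
      have := (hi b).1 hb
      rw [pow_zero, pow_one] at this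
      exact this
    · refine Or.inr fun a => ⟨hBp a, fun ha => (hi a).2 ?_⟩
      rw [pow_succ', pow_mul, ha, one_pow]
  refine ⟨⟨fun h1 => h32 (three_of_one hA X hX h1), ?_⟩, ⟨h23, h32⟩⟩
  rintro h2 ⟨B, C, hB, hC, hBi, hCi, hBC, -⟩
  obtain ⟨i, hi⟩ := h2 B hBi
  obtain ⟨j, hj⟩ := h2 C hCi
  rcases le_total i j with h | h
  · refine hB (le_antisymm ?_ bot_le)
    rw [← hBC]
    exact fun b hb => Subgroup.mem_inf.2 ⟨hb, (hj b).2 (by
      rw [← Nat.add_sub_cancel' h, pow_add, pow_mul, (hi b).1 hb, one_pow])⟩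
  · refine hC (le_antisymm ?_ bot_le)
    rw [← hBC]
    exact fun c hc => Subgroup.mem_inf.2 ⟨(hi c).2 (by
      rw [← Nat.add_sub_cancel' h, pow_add, pow_mul, (hj c).1 hc, one_pow]), hc⟩

end Cfsg.Agent.S3775
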