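import Cfsg.Statements.S3778
import Cfsg.Agent.Lib.Solv.Basic

set_option autoImplicit false
set_option linter.style.haveILetI false
open Cfsg

open scoped Pointwise commutatorElement

namespace Cfsg.Agent.S3778


open Cfsg.Agent.Solv

variable {G : Type*} [Group G]

/-- two-step centraliser -/
def stepC (i : ℕ) : Subgroup G :=
  (Subgroup.centralizer ((((⊤ : Subgroup G).lowerCentralSeries i).map
    (QuotientGroup.mk' ((⊤ : Subgroup G).lowerCentralSeries (i + 2))) :
      Subgroup (G ⧸ (⊤ : Subgroup G).lowerCentralSeries (i + 2))) :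
      Set (G ⧸ (⊤ : Subgroup G).lowerCentralSeries (i + 2)))).comap
    (QuotientGroup.mk' ((⊤ : Subgroup G).lowerCentralSeries (i + 2)))

theorem mem_stepC {i : ℕ} {x : G} : x ∈ stepC i ↔
    ∀ a ∈ (⊤ : Subgroup G).lowerCentralSeries i, a * x * a⁻¹ * x⁻¹ ∈ (⊤ : Subgroup G).lowerCentralSeries (i + 2) := by
  set L := (⊤ : Subgroup G).lowerCentralSeries (i + 2)
  rw [stepC, Subgroup.mem_comap, Subgroup.mem_centralizer_iff]
  constructor
  · intro h a ha
    rw [← QuotientGroup.eq_one_iff]
    show QuotientGroup.mk' L (a * x * a⁻¹ * x⁻¹) = 1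
    rw [map_mul, map_mul, map_mul, map_inv, map_inv]
    exact commutatorElement_eq_one_iff_commute.2 (h _ (Subgroup.mem_map_of_mem _ ha))
  · rintro h _ ⟨a, ha, rfl⟩
    have h1 : QuotientGroup.mk' L (a * x * a⁻¹ * x⁻¹) = 1 := (QuotientGroup.eq_one_iff _).2 (h a ha)
    rw [map_mul, map_mul, map_mul, map_inv, map_inv] at h1
    exact (commutatorElement_eq_one_iff_commute.1 h1).eq

open scoped Classical in
theorem index_bound [Finite G] {p : ℕ} [Fact p.Prime] (hG : IsPGroup p G) (x : G) (n : ℕ) :
    p ^ ((Finset.range n).filter fun i => x ∉ (stepC i : Subgroup G)).card ≤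
      (Subgroup.centralizer ({x} : Set G)).index := by
  classical
  set C := Subgroup.centralizer ({x} : Set G) with hC
  let H : ℕ → Subgroup G := fun i => (⊤ : Subgroup G).lowerCentralSeries i ⊔ C
  have hmono : ∀ i, H (i + 1) ≤ H i := fun i =>
    sup_le_sup_right (Subgroup.lowerCentralSeries_antitone (⊤ : Subgroup G) (Nat.le_succ i)) _
  have hstrict : ∀ i, x ∉ (stepC i : Subgroup G) → H (i + 1) ≠ H i := by
    intro i hx he
    apply hx
    rw [mem_stepC]
    intro a ha
    have hm : a ∈ (((⊤ : Subgroup G).lowerCentralSeries (i + 1) ⊔ C : Subgroup G) : Set G) :=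
      he.ge (Subgroup.mem_sup_left ha)
    rw [Subgroup.normal_mul] at hm
    obtain ⟨b, hb, c, hc, rfl⟩ := hm
    have hcx : x * c = c * x := Subgroup.mem_centralizer_iff.1 hc x rfl
    have e : b * c * x * (b * c)⁻¹ * x⁻¹ = b * x * b⁻¹ * x⁻¹ := by
      calc b * c * x * (b * c)⁻¹ * x⁻¹ = b * (c * x) * c⁻¹ * b⁻¹ * x⁻¹ := by group
        _ = b * x * b⁻¹ * x⁻¹ := by rw [← hcx]; group
    rw [e, show i + 2 = (i + 1) + 1 from rfl, Subgroup.lowerCentralSeries_succ, ← commutatorElement_def]
    exact Subgroup.commutator_mem_commutator hb (Subgroup.mem_top x)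
  have key : ∀ n, p ^ ((Finset.range n).filter fun i => x ∉ (stepC i : Subgroup G)).card ∣ (H n).index := by
    intro n
    induction n with
    | zero => simp
    | succ n ih =>
      rw [Finset.range_add_one, Finset.filter_insert]
      have hd : (H (n + 1)).relIndex (H n) * (H n).index = (H (n + 1)).index :=
        Subgroup.relIndex_mul_index (hmono n)
      by_cases h : x ∉ (stepC n : Subgroup G)
      · rw [if_pos h, Finset.card_insert_of_notMem (by simp), pow_succ, ← hd, mul_comm ((H (n + 1)).relIndex _)]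
        refine Nat.mul_dvd_mul ih ?_
        obtain ⟨m, hm⟩ := (hG.to_subgroup (H n)).index ((H (n + 1)).subgroupOf (H n))
        rw [Subgroup.relIndex, hm]
        rcases m with _ | m
        · rw [pow_zero, Subgroup.index_eq_one, Subgroup.subgroupOf_eq_top] at hm
          exact absurd (le_antisymm (hmono n) hm) (hstrict n h)
        · exact dvd_pow_self p (Nat.succ_ne_zero m)
      · rw [if_neg h]; exact ih.trans (Subgroup.index_dvd_of_le (hmono n))
  exact Nat.le_of_dvd (Nat.pos_of_ne_zero Subgroup.index_ne_zero_of_finite)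
    ((key n).trans (Subgroup.index_dvd_of_le le_sup_right))

/-- If G is a finite p-group in which every conjugacy class has at most p^b elements (every element has centralizer of index at most p^b), then G is abelian when b = 0, and when b ≥ 1 its nilpotency class c satisfies (c − 1)(p − 1) < bp, that is c < bp/(p − 1) + 1, and hence c ≤ 2b. -/
theorem result {G : Type*} [Group G] [Finite G] {p : ℕ} [Fact p.Prime] (hG : IsPGroup p G) (b : ℕ) (hb : ∀ x : G, (Subgroup.centralizer ({x} : Set G)).index ≤ p ^ b) : ∃ c : ℕ, (⊤ : Subgroup G).lowerCentralSeries c = ⊥ ∧ (b ≠ 0 → (c - 1) * (p - 1) < b * p ∧ c ≤ 2 * b) ∧ (b = 0 → c ≤ 1) := by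
  classical
  haveI := hG.isNilpotent
  have hp : p.Prime := Fact.out
  have hex : ∃ c : ℕ, (⊤ : Subgroup G).lowerCentralSeries c = ⊥ :=
    Subgroup.nilpotent_iff_lowerCentralSeries.1 ‹_›
  refine ⟨Nat.find hex, Nat.find_spec hex, ?_⟩
  set c := Nat.find hex with hc
  have hstep : ∀ i, i + 1 < c → (stepC i : Subgroup G) ≠ ⊤ := by
    intro i hi htop
    have h12 : (⊤ : Subgroup G).lowerCentralSeries (i + 1) = (⊤ : Subgroup G).lowerCentralSeries (i + 2) := by
      refine le_antisymm ?_ (Subgroup.lowerCentralSeries_antitone _ (Nat.le_succ _))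
      conv_lhs => rw [Subgroup.lowerCentralSeries_succ]
      rw [Subgroup.commutator_le]
      exact fun a ha b _ => mem_stepC.1 (htop.ge (Subgroup.mem_top b)) a ha
    have hall : ∀ m, (⊤ : Subgroup G).lowerCentralSeries (i + 1 + m) = (⊤ : Subgroup G).lowerCentralSeries (i + 1) := by
      intro m
      induction m with
      | zero => rfl
      | succ m ih =>
        rw [← add_assoc, Subgroup.lowerCentralSeries_succ, ih, ← Subgroup.lowerCentralSeries_succ]
        exact h12.symm
    have h := hall (c - (i + 1))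
    rw [show i + 1 + (c - (i + 1)) = c by omega, Nat.find_spec hex] at h
    exact Nat.find_min hex hi h.symm
  haveI := Fintype.ofFinite G
  have hbound : ∀ x : G, ((Finset.range (c - 1)).filter fun i => x ∉ (stepC i : Subgroup G)).card ≤ b :=
    fun x => (Nat.pow_le_pow_iff_right hp.one_lt).1 ((index_bound hG x (c - 1)).trans (hb x))
  by_cases hc1 : c ≤ 1
  · refine ⟨fun hb0 => ⟨?_, ?_⟩, fun _ => hc1⟩
    · rw [show c - 1 = 0 by omega, zero_mul]
      exact Nat.mul_pos (Nat.pos_of_ne_zero hb0) hp.pos
    · omega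
  have hS : ∀ i ∈ Finset.range (c - 1), (p - 1) * Fintype.card G ≤
      p * (Finset.univ.filter fun x : G => x ∉ (stepC i : Subgroup G)).card := by
    intro i hi
    have hne := hstep i (by have := Finset.mem_range.1 hi; omega)
    have h1 : (Finset.univ.filter fun x : G => x ∈ (stepC i : Subgroup G)).card +
        (Finset.univ.filter fun x : G => x ∉ (stepC i : Subgroup G)).card = Fintype.card G := by
      rw [Finset.card_filter_add_card_filter_not, Finset.card_univ]
    have h2 : (Finset.univ.filter fun x : G => x ∈ (stepC i : Subgroup G)).card = Nat.card (stepC i : Subgroup G) := by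
      rw [Nat.card_eq_fintype_card, Fintype.card_subtype]
    obtain ⟨m, hm⟩ := hG.index (stepC i : Subgroup G)
    have h3 : p ≤ (stepC i : Subgroup G).index := by
      rw [hm]
      rcases m with _ | m
      · rw [pow_zero, Subgroup.index_eq_one] at hm; exact absurd hm hne
      · exact Nat.le_self_pow (Nat.succ_ne_zero m) p
    have h4 : p * Nat.card (stepC i : Subgroup G) ≤ Fintype.card G := by
      rw [← Nat.card_eq_fintype_card (α := G), ← (stepC i : Subgroup G).card_mul_index, mul_comm p]
      exact Nat.mul_le_mul_left _ h3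
    rw [h2] at h1
    have h5 : (p - 1) * Fintype.card G = p * Fintype.card G - Fintype.card G := Nat.sub_one_mul _ _
    rw [h5, ← h1, mul_add]
    omega
  have hsum : ∑ i ∈ Finset.range (c - 1), (Finset.univ.filter fun x : G => x ∉ (stepC i : Subgroup G)).card
      = ∑ x : G, ((Finset.range (c - 1)).filter fun i => x ∉ (stepC i : Subgroup G)).card := by
    simp only [Finset.card_filter]
    exact Finset.sum_comm
  have hlt : ∑ x : G, ((Finset.range (c - 1)).filter fun i => x ∉ (stepC i : Subgroup G)).card + b ≤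
      Fintype.card G * b := by
    rw [← Finset.add_sum_erase _ _ (Finset.mem_univ (1 : G))]
    have h0 : ((Finset.range (c - 1)).filter fun i => (1 : G) ∉ (stepC i : Subgroup G)).card = 0 := by
      simp [one_mem]
    rw [h0, zero_add]
    have h1 := Finset.sum_le_card_nsmul (Finset.univ.erase (1 : G)) _ b fun x _ => hbound x
    rw [Finset.card_erase_of_mem (Finset.mem_univ _), Finset.card_univ, smul_eq_mul] at h1
    have hpos : 0 < Fintype.card G := Fintype.card_pos
    calc _ ≤ (Fintype.card G - 1) * b + b := Nat.add_le_add_right h1 b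
      _ = Fintype.card G * b := by
        rw [← Nat.succ_mul, Nat.succ_eq_add_one, Nat.sub_add_cancel hpos]
  have h6 := Finset.sum_le_sum hS
  rw [Finset.sum_const, Finset.card_range, smul_eq_mul, ← Finset.mul_sum, hsum] at h6
  refine ⟨fun hb0 => ?_, fun hb0 => ?_⟩
  · have h7 : (c - 1) * (p - 1) * Fintype.card G < b * p * Fintype.card G := by
      calc (c - 1) * (p - 1) * Fintype.card G = (c - 1) * ((p - 1) * Fintype.card G) := mul_assoc _ _ _
        _ ≤ p * ∑ x : G, ((Finset.range (c - 1)).filter fun i => x ∉ (stepC i : Subgroup G)).card := h6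
        _ < p * (Fintype.card G * b) := Nat.mul_lt_mul_of_pos_left (by omega) hp.pos
        _ = b * p * Fintype.card G := by ring
    have h8 := Nat.lt_of_mul_lt_mul_right h7
    refine ⟨h8, ?_⟩
    obtain ⟨r, hr⟩ : ∃ r, p = r + 2 := ⟨p - 2, by have := hp.two_le; omega⟩
    rw [hr, show r + 2 - 1 = r + 1 by omega] at h8
    nlinarith [Nat.zero_le (b * r), Nat.sub_add_cancel (show 1 ≤ c by omega)]
  · exfalso
    subst hb0
    have hz : ∑ x : G, ((Finset.range (c - 1)).filter fun i => x ∉ (stepC i : Subgroup G)).card = 0 := by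
      rw [mul_zero] at hlt; omega
    rw [hz, mul_zero] at h6
    have hp2 := hp.two_le
    have hG0 : 0 < Fintype.card G := Fintype.card_pos
    have : 0 < (c - 1) * ((p - 1) * Fintype.card G) :=
      Nat.mul_pos (by omega) (Nat.mul_pos (by omega) hG0)
    omega

end Cfsg.Agent.S3778
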