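import Cfsg.Statements.S3780
import Mathlib

set_option autoImplicit false
set_option linter.style.haveILetI false
open Cfsg

open scoped Pointwise commutatorElement

namespace Cfsg.Agent.S3780

theorem sub_one_pow_prime {R : Type*} [Ring R] {p : ℕ} (hp : p.Prime) (f : R) :
    ∃ r : R, (f - 1) ^ p = f ^ p - 1 + p * r := by
  obtain ⟨r, hr⟩ := Commute.exists_add_pow_prime_eq hp (Commute.neg_right (Commute.one_right f))
  rw [← sub_eq_add_neg] at hr
  rcases hp.eq_two_or_odd' with h | h
  · subst h
    refine ⟨f * -1 * r + 1, ?_⟩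
    rw [hr, neg_sq, one_pow, mul_assoc ((2 : ℕ) : R), mul_assoc ((2 : ℕ) : R)]
    push_cast
    noncomm_ring
  · refine ⟨f * -1 * r, ?_⟩
    rw [hr, h.neg_one_pow, mul_assoc (p : R), mul_assoc (p : R), ← sub_eq_add_neg]

/-- Let V be a finite abelian p-group and α an automorphism of V of order p whose fixed-point subgroup has order p^n. Then V can be generated by pn elements: some subset of V with at most pn elements generates V. -/
theorem result {V : Type*} [CommGroup V] [Finite V] {p : ℕ} [Fact p.Prime] (hV : IsPGroup p V) (α : MulAut V) (hα : orderOf α = p) (n : ℕ) (hfix : Nat.card {v : V // α v = v} = p ^ n) : ∃ S : Finset V, S.card ≤ p * n ∧ Subgroup.closure (S : Set V) = ⊤ := by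
  classical
  have hp : p.Prime := Fact.out
  set δ : V →* V := MonoidHom.mk' (fun v => α v / v)
    (fun a b => by simp [div_mul_div_comm]) with hδ
  have hδa : ∀ v, δ v = α v / v := fun v => rfl
  set Ω : Subgroup V := (powMonoidHom p : V →* V).ker with hΩ
  -- `δ ^ p` kills `Ω`
  have hpow : ∀ v ∈ Ω, δ^[p] v = 1 := by
    let f : AddMonoid.End (Additive V) := MonoidHom.toAdditive α.toMonoidHom
    have hf : ∀ (j : ℕ) (v : V), ((f ^ j) (Additive.ofMul v)) = Additive.ofMul ((α ^ j) v) := by
      intro j
      induction j with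
      | zero => intro v; simp
      | succ j ih =>
        intro v
        rw [pow_succ', pow_succ', AddMonoid.End.coe_mul, Function.comp_apply, ih, MulAut.mul_apply]
        rfl
    have hd : ∀ (j : ℕ) (v : V), ((f - 1) ^ j) (Additive.ofMul v) = Additive.ofMul (δ^[j] v) := by
      intro j
      induction j with
      | zero => intro v; simp
      | succ j ih =>
        intro v
        rw [pow_succ', AddMonoid.End.coe_mul, Function.comp_apply, ih, Function.iterate_succ_apply']
        rfl
    intro v hv
    obtain ⟨r, hr⟩ := sub_one_pow_prime hp f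
    have hpv : p • Additive.ofMul v = 0 := by
      rw [← ofMul_pow, show v ^ p = 1 from hv, ofMul_one]
    have h3 : (f ^ p) (Additive.ofMul v) = Additive.ofMul v := by
      rw [hf, ← hα, pow_orderOf_eq_one]; rfl
    have h2 : ((p : AddMonoid.End (Additive V)) * r) (Additive.ofMul v) = 0 := by
      rw [(Nat.cast_commute p r).eq, AddMonoid.End.coe_mul, Function.comp_apply,
        AddMonoid.End.natCast_apply, hpv, map_zero]
    have h5 : ((f - 1) ^ p) (Additive.ofMul v) = 0 := by
      rw [hr]
      show (f ^ p) (Additive.ofMul v) - Additive.ofMul v + _ = (0 : Additive V)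
      erw [h2, h3, add_zero, sub_self]
    rw [hd] at h5
    exact Additive.ofMul.injective (h5.trans ofMul_one.symm)
  let K : ℕ → Subgroup V := fun j => Nat.rec (motive := fun _ => Subgroup V) (⊥ : Subgroup V) (fun _ S => Ω ⊓ S.comap δ) j
  have hKs : ∀ j, K (j + 1) = Ω ⊓ (K j).comap δ := fun j => rfl
  have hfix' : Nat.card δ.ker = p ^ n := by
    rw [← hfix]
    exact Nat.card_congr (Equiv.subtypeEquivRight fun v => by
      rw [MonoidHom.mem_ker, hδa, div_eq_one])
  have hKc : ∀ j, Nat.card (K j) ≤ p ^ (n * j) := by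
    intro j
    induction j with
    | zero => simp [K]
    | succ j ih =>
      let ψ : K (j + 1) →* K j := (δ.comp (K (j + 1)).subtype).codRestrict (K j) fun x =>
        (Subgroup.mem_inf.1 ((hKs j).le x.2)).2
      have h1 : Nat.card ψ.ker ≤ p ^ n := by
        rw [← hfix']
        refine Nat.card_le_card_of_injective (fun x => ⟨((x : K (j + 1)) : V), ?_⟩) ?_
        · exact congrArg Subtype.val x.2
        · intro a b h; exact Subtype.ext (Subtype.ext (congrArg Subtype.val h :))
      have h2 : ψ.ker.index ≤ p ^ (n * j) := by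
        rw [Subgroup.index_ker]
        exact (Subgroup.card_le_card_group _).trans ih
      rw [← Subgroup.card_mul_index ψ.ker, Nat.mul_succ, pow_add, mul_comm (p ^ (n * j))]
      exact Nat.mul_le_mul h1 h2
  have hmemK : ∀ (j : ℕ) (v : V), v ∈ Ω → δ^[j] v = 1 → v ∈ K j := by
    intro j
    induction j with
    | zero => intro v _ h; exact Subgroup.mem_bot.2 h
    | succ j ih =>
      intro v hv h
      rw [hKs, Subgroup.mem_inf]
      refine ⟨hv, ih _ ?_ h⟩
      show (δ v) ^ p = 1
      rw [← map_pow, show v ^ p = 1 from hv, map_one]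
  have hΩc : Nat.card Ω ≤ p ^ (p * n) := by
    rw [mul_comm p n]
    exact (Subgroup.card_le_of_le fun v hv => hmemK p v hv (hpow v hv)).trans (hKc p)
  set R := (powMonoidHom p : V →* V).range with hR
  have hRi : R.index = Nat.card Ω := by
    have h1 := R.card_mul_index
    have h2 := Ω.card_mul_index
    rw [hΩ, Subgroup.index_ker, mul_comm, ← hR] at h2
    exact Nat.eq_of_mul_eq_mul_left Nat.card_pos (h1.trans h2.symm)
  have greedy : ∀ (i : ℕ) (H : Subgroup V), H.index = i →
      ∃ S : Finset V, H ⊔ Subgroup.closure (S : Set V) = ⊤ ∧ p ^ S.card ≤ H.index := by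
    intro i
    induction i using Nat.strong_induction_on with
    | _ i ih =>
      intro H hH
      by_cases hT : H = ⊤
      · exact ⟨∅, by simp [hT], by simp [hT]⟩
      obtain ⟨v, -, hv⟩ := SetLike.exists_of_lt (lt_top_iff_ne_top.2 hT)
      set H' := H ⊔ Subgroup.closure {v}
      have hle : H ≤ H' := le_sup_left
      have hmul := Subgroup.relIndex_mul_index hle
      have hne : H.relIndex H' ≠ 1 := fun h => hv
        (Subgroup.relIndex_eq_one.1 h (Subgroup.mem_sup_right (Subgroup.subset_closure rfl)))
      have hp' : p ≤ H.relIndex H' := by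
        obtain ⟨a, ha⟩ := IsPGroup.iff_card.1 hV
        obtain ⟨b, -, hb⟩ := (Nat.dvd_prime_pow hp).1
          (((Dvd.intro _ hmul).trans H.index_dvd_card).trans ha.dvd)
        rw [hb] at hne ⊢
        exact Nat.le_self_pow (fun h => hne (by rw [h, pow_zero])) p
      have hpos : H.index ≠ 0 := Subgroup.index_ne_zero_of_finite
      have hpos' : H'.index ≠ 0 := Subgroup.index_ne_zero_of_finite
      obtain ⟨S, hS, hSc⟩ := ih H'.index (by
        rw [← hH, ← hmul]
        calc H'.index < 2 * H'.index := by omega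
          _ ≤ _ := Nat.mul_le_mul_right _ (hp.two_le.trans hp')) H' rfl
      refine ⟨insert v S, ?_, ?_⟩
      · rw [Finset.coe_insert, Set.insert_eq, Subgroup.closure_union, ← sup_assoc]; exact hS
      · calc p ^ (insert v S).card ≤ p ^ (S.card + 1) :=
              Nat.pow_le_pow_right hp.pos (Finset.card_insert_le v S)
          _ = p * p ^ S.card := by rw [pow_succ']
          _ ≤ H.relIndex H' * H'.index := Nat.mul_le_mul hp' hSc
          _ = H.index := hmul
  obtain ⟨S, hS, hSc⟩ := greedy _ R rfl
  refine ⟨S, (Nat.pow_le_pow_iff_right hp.one_lt).1 (hSc.trans (hRi ▸ hΩc)), ?_⟩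
  refine top_le_iff.1 fun v _ => ?_
  obtain ⟨k, hk⟩ := IsPGroup.iff_card.1 hV
  have key : ∀ (j : ℕ) (v : V), ∃ h ∈ Subgroup.closure (S : Set V), ∃ u : V, v = h * u ^ p ^ j := by
    intro j
    induction j with
    | zero => intro v; exact ⟨1, one_mem _, v, by simp⟩
    | succ j ih =>
      intro v
      obtain ⟨h, hh, u, rfl⟩ := ih v
      have hu : u ∈ R ⊔ Subgroup.closure (S : Set V) := hS.ge (Subgroup.mem_top u)
      rw [Subgroup.mem_sup] at hu
      obtain ⟨_, ⟨w, rfl⟩, s, hs, rfl⟩ := hu
      refine ⟨h * s ^ p ^ j, mul_mem hh (pow_mem hs _), w, ?_⟩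
      rw [powMonoidHom_apply, mul_pow, ← pow_mul, ← pow_succ', mul_assoc, mul_comm (s ^ p ^ j)]
  obtain ⟨h, hh, u, rfl⟩ := key k v
  rw [← hk, pow_card_eq_one', mul_one]
  exact hh

end Cfsg.Agent.S3780
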