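import Cfsg.Statements.S3783
import Cfsg.Agent.Lib.Solv.PLength
import Cfsg.Agent.Lib.Solv.HallHigman
import Cfsg.Agent.Lib.Solv.ConjRep
import Cfsg.Agent.Lib.Char.OneBlock

set_option autoImplicit false
set_option linter.style.haveILetI false
open Cfsg

open scoped Pointwise commutatorElement

namespace Cfsg.Agent.S3783

open Cfsg.Agent.Solv Cfsg.Agent.Solv.PLen Cfsg.Agent.Solv.CRep

universe u v w

/-- Vectors with pairwise distinct characters are independent. -/
theorem sum_eq_zero_of_distinct {F : Type v} [Field F] {V : Type w} [AddCommGroup V] [Module F V]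
    {E : Type u} (ρ : E → Module.End F V) (vec : ℕ → V) (lam : ℕ → E → F)
    (heig : ∀ i e, ρ e (vec i) = lam i e • vec i) :
    ∀ S : Finset ℕ, (∀ i ∈ S, ∀ j ∈ S, lam i = lam j → i = j) →
      ∀ c : ℕ → F, (∑ i ∈ S, c i • vec i) = 0 → ∀ i ∈ S, c i • vec i = 0 := by
  intro S
  induction S using Finset.induction_on with
  | empty => intro _ c _ i hi; simp at hi
  | insert k S hk ih =>
    intro hdist c hsum
    have hdist' : ∀ i ∈ S, ∀ j ∈ S, lam i = lam j → i = j := fun i hi j hj =>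
      hdist i (Finset.mem_insert_of_mem hi) j (Finset.mem_insert_of_mem hj)
    rw [Finset.sum_insert hk] at hsum
    have hS : ∀ i ∈ S, c i • vec i = 0 := by
      intro i hi
      obtain ⟨e, he⟩ : ∃ e, lam i e ≠ lam k e := by
        by_contra hcon
        push Not at hcon
        exact hk (hdist i (Finset.mem_insert_of_mem hi) k (Finset.mem_insert_self k S)
          (funext hcon) ▸ hi)
      have h1 : (∑ j ∈ S, ((lam j e - lam k e) * c j) • vec j) = 0 := by
        have h2 := congrArg (fun v => ρ e v - lam k e • v) hsum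
        simp only [map_add, map_sum, map_smul, heig, map_zero, smul_zero, sub_zero, smul_add,
          Finset.smul_sum] at h2
        rw [← h2]
        simp only [sub_mul, sub_smul, Finset.sum_sub_distrib, smul_smul]
        simp only [mul_comm (c _)]
        abel
      have h3 := ih hdist' (fun j => (lam j e - lam k e) * c j) h1 i hi
      rw [← smul_smul] at h3
      exact (smul_eq_zero.1 h3).resolve_left (sub_ne_zero.2 he)
    intro i hi
    rcases Finset.mem_insert.1 hi with rfl | hi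
    · rw [Finset.sum_eq_zero hS, add_zero] at hsum; exact hsum
    · exact hS i hi

/-- An operator of order `p ^ (k + 1)` permuting the characters of an abelian `p'`-group has non-zero
orbit sum. -/
theorem orbit_sum_ne_zero {F : Type v} [Field F] [IsAlgClosed F] {V : Type w} [AddCommGroup V]
    [Module F V] [FiniteDimensional F V] {p k : ℕ} [Fact p.Prime] {Q : Type u} [Group Q] [Finite Q]
    (hQ : ∀ a b : Q, a * b = b * a) (hQF : ∀ K : Subgroup Q, ((Nat.card K : ℕ) : F) ≠ 0)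
    (ρ : Q →* Module.End F V) (hρ : ∀ g, ρ g = 1 → g = 1) (φ : MulAut Q)
    (hφ : φ ^ (p ^ (k + 1)) = 1) (hne : ∃ q, (φ ^ (p ^ k)) q ≠ q)
    (X : Module.End F V) (hX : ∀ g, X * ρ g = ρ (φ g) * X) :
    (∑ i ∈ Finset.range (p ^ (k + 1)), X ^ i : Module.End F V) ≠ 0 := by
  classical
  obtain ⟨U, hU, hs, q₀, hq₀⟩ : ∃ (U : Submodule F V) (hU : ∀ g, ∀ w ∈ U, ρ g w ∈ U),
      IsSimpleRep (subRep ρ U hU) ∧
        ∃ q, subRep ρ U hU ((φ ^ (p ^ k)) q) ≠ subRep ρ U hU q := by
    by_contra hcon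
    push Not at hcon
    obtain ⟨q, hq⟩ := hne
    obtain ⟨D, hD⟩ : ∃ D, D = Subgroup.closure (Set.range fun q : Q => (φ ^ (p ^ k)) q * q⁻¹) :=
      ⟨_, rfl⟩
    haveI : D.Normal := ⟨fun x hx g => by
      rw [hQ g x, mul_assoc, mul_inv_cancel, mul_one]; exact hx⟩
    have htriv := triv_of_simple ρ D (hQF D) (fun U hU hs e he w hw => by
      have hle : D ≤ (subRep ρ U hU).ker := by
        rw [hD, Subgroup.closure_le]
        rintro _ ⟨a, rfl⟩
        show subRep ρ U hU ((φ ^ (p ^ k)) a * a⁻¹) = 1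
        rw [map_mul, hcon U hU hs a, ← map_mul, mul_inv_cancel, map_one]
      have h1 := congrArg Subtype.val (LinearMap.congr_fun (MonoidHom.mem_ker.1 (hle he)) ⟨w, hw⟩)
      simpa [subRep_apply] using h1)
    exact hq (mul_inv_eq_one.1 (hρ _ (htriv _ (hD ▸ Subgroup.subset_closure ⟨q, rfl⟩))))
  haveI := hs.1
  obtain ⟨u₀, hu₀⟩ := exists_ne (0 : U)
  have hsc : ∀ q, ∃ c : F, subRep ρ U hU q = c • (1 : Module.End F U) := fun q =>
    schur hs _ fun g => by rw [← map_mul, ← map_mul, hQ]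
  choose μ hμ using hsc
  have hμu : ∀ q, ρ q (u₀ : V) = μ q • (u₀ : V) := fun q => by
    have h := congrArg Subtype.val (LinearMap.congr_fun (hμ q) u₀)
    simpa [subRep_apply] using h
  obtain ⟨S, hS⟩ : ∃ S : (Q → F) → (Q → F), ∀ f q, S f q = f (φ q) := ⟨_, fun _ _ => rfl⟩
  have hSit : ∀ (a : ℕ) (f : Q → F) (q : Q), S^[a] f q = f ((φ ^ a) q) := by
    intro a
    induction a with
    | zero => intro f q; rfl
    | succ a ih => intro f q; rw [Function.iterate_succ_apply, ih, hS, pow_succ', MulAut.mul_apply]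
  have hfull : ∀ a, S^[a] μ = μ → p ^ (k + 1) ∣ a := by
    intro a ha
    have h1 : Function.IsPeriodicPt S (p ^ (k + 1)) μ := funext fun q => by
      rw [hSit, hφ]; rfl
    obtain ⟨j, hj, hjm⟩ := (Nat.dvd_prime_pow Fact.out).1 h1.minimalPeriod_dvd
    have hjk : j = k + 1 := by
      by_contra hne'
      have h2 : Function.IsPeriodicPt S (p ^ k) μ :=
        Function.isPeriodicPt_iff_minimalPeriod_dvd.2 (by rw [hjm]; exact pow_dvd_pow p (by omega))
      have h3 : S^[p ^ k] μ = μ := h2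
      refine hq₀ ?_
      have h4 := congrFun h3 q₀
      rw [hSit] at h4
      rw [hμ, hμ, h4]
    rw [← hjk, ← hjm]
    exact Function.IsPeriodicPt.minimalPeriod_dvd ha
  have hXi := pow_intertwine ρ φ X hX
  have heig : ∀ i q, ρ q ((X ^ i) (u₀ : V)) = μ (((φ ^ i)⁻¹ : MulAut Q) q) • (X ^ i) (u₀ : V) := by
    intro i q
    have h1 := LinearMap.congr_fun (hXi i (((φ ^ i)⁻¹ : MulAut Q) q)) (u₀ : V)
    rw [Module.End.mul_apply, Module.End.mul_apply, ← MulAut.mul_apply, mul_inv_cancel,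
      MulAut.one_apply, hμu, map_smul] at h1
    exact h1.symm
  have hdist : ∀ i ∈ Finset.range (p ^ (k + 1)), ∀ j ∈ Finset.range (p ^ (k + 1)),
      (fun q => μ (((φ ^ i)⁻¹ : MulAut Q) q)) = (fun q => μ (((φ ^ j)⁻¹ : MulAut Q) q)) → i = j := by
    suffices key : ∀ i j, i ≤ j → j < p ^ (k + 1) →
        (fun q => μ (((φ ^ i)⁻¹ : MulAut Q) q)) = (fun q => μ (((φ ^ j)⁻¹ : MulAut Q) q)) → i = j by
      intro i hi j hj h
      rcases le_total i j with h' | h'
      · exact key i j h' (Finset.mem_range.1 hj) h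
      · exact (key j i h' (Finset.mem_range.1 hi) h.symm).symm
    intro i j hij hj h
    obtain ⟨d, rfl⟩ := Nat.exists_eq_add_of_le hij
    have hd : S^[d] μ = μ := funext fun q => by
      rw [hSit]
      have h1 := congrFun h ((φ ^ (i + d)) q)
      rw [← MulAut.mul_apply, ← MulAut.mul_apply, inv_mul_cancel, MulAut.one_apply, pow_add,
        inv_mul_cancel_left] at h1
      exact h1
    have := Nat.eq_zero_of_dvd_of_lt (hfull d hd) (by omega)
    omega
  intro hzero
  have h2 := sum_eq_zero_of_distinct (fun q => ρ q) (fun i => (X ^ i) (u₀ : V)) _ heig _ hdist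
    (fun _ => (1 : F)) (by simp only [one_smul]; rw [← LinearMap.sum_apply, hzero]; rfl) 0
    (Finset.mem_range.2 (pow_pos (Fact.out : p.Prime).pos _))
  rw [one_smul, pow_zero, Module.End.one_apply] at h2
  exact hu₀ (Subtype.ext h2)

/-- The exponent of a Sylow `p`-subgroup drops modulo `O_p` when the `p'`-core is trivial and the
other Sylow subgroups are abelian. -/
theorem pow_mem_pCore {G : Type u} [Group G] [Finite G] {p k : ℕ} [Fact p.Prime]
    (hG : Cfsg.IsPSolvable p G) (hbot : Cfsg.pPrimeCore p G = ⊥)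
    (hab : ∀ (q : ℕ) [Fact q.Prime], q ≠ p → ∀ Q : Sylow q G, IsMulCommutative (Q : Subgroup G))
    (P : Sylow p G) (hexp : ∀ x ∈ (P : Subgroup G), x ^ p ^ (k + 1) = 1)
    (x : G) (hx : x ∈ (P : Subgroup G)) : x ^ p ^ k ∈ Cfsg.pCore p G := by
  classical
  have hp : p.Prime := Fact.out
  obtain ⟨O, hO⟩ : ∃ O, O = Cfsg.pCore p G := ⟨_, rfl⟩
  rw [← hO]
  haveI hOn : O.Normal := hO ▸ Cfsg.pCore_normal p G
  have hOp : IsPGroup p O := hO ▸ pCore_isPGroup p
  obtain ⟨Φ, hΦ⟩ : ∃ Φ, Φ = (frattini ↥O).map O.subtype := ⟨_, rfl⟩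
  haveI : Φ.Normal := hΦ ▸ inferInstance
  obtain ⟨V, hV⟩ : ∃ V, V = O.map (QuotientGroup.mk' Φ) := ⟨_, rfl⟩
  haveI : V.Normal := hV ▸ Subgroup.Normal.map inferInstance _ (QuotientGroup.mk'_surjective _)
  have hVel : Cfsg.IsElementaryAbelian p V := by
    constructor
    · refine ⟨⟨fun a b => Subtype.ext ?_⟩⟩
      obtain ⟨a, ha⟩ := a
      obtain ⟨b, hb⟩ := b
      rw [hV] at ha hb
      obtain ⟨a, ha', rfl⟩ := ha
      obtain ⟨b, hb', rfl⟩ := hb
      show QuotientGroup.mk' Φ a * QuotientGroup.mk' Φ b = QuotientGroup.mk' Φ b * QuotientGroup.mk' Φ a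
      rw [← commutatorElement_eq_one_iff_mul_comm, ← map_commutatorElement, QuotientGroup.mk'_apply,
        QuotientGroup.eq_one_iff, hΦ]
      exact ⟨_, commutatorElement_mem_frattini hOp ⟨a, ha'⟩ ⟨b, hb'⟩, by simp [commutatorElement_def]⟩
    · intro a ha
      rw [hV] at ha
      obtain ⟨a, ha', rfl⟩ := ha
      rw [← map_pow, QuotientGroup.mk'_apply, QuotientGroup.eq_one_iff, hΦ]
      exact ⟨_, pow_mem_frattini hOp ⟨a, ha'⟩, rfl⟩
  obtain ⟨m, ρ0, hρ0, -, -, hnorm⟩ := exists_conjRep_norm (p := p) ⊤ V hVel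
    (by rw [Subgroup.normalizer_eq_top]) (AlgebraicClosure (ZMod p))
  let ι : G →* (⊤ : Subgroup (G ⧸ Φ)) := (QuotientGroup.mk' Φ).codRestrict ⊤ fun _ => Subgroup.mem_top _
  have hCO : Subgroup.centralizer (O : Set G) ≤ O := by
    rw [hO]; exact Char.centralizer_pCore_le_of_pSolvable hG hbot
  have hker : ∀ g : G, ρ0 (ι g) = 1 ↔ g ∈ O := by
    intro g
    rw [hρ0]
    constructor
    · intro hg
      obtain ⟨C, hC⟩ : ∃ C, C = (Subgroup.centralizer (V : Set (G ⧸ Φ))).comap (QuotientGroup.mk' Φ) :=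
        ⟨_, rfl⟩
      haveI : C.Normal := hC ▸ Subgroup.Normal.comap inferInstance _
      suffices hCp : IsPGroup p C by
        have hgC : g ∈ C := hC ▸ hg
        rw [hO]; exact normal_le_pCore hCp hgC
      intro c
      obtain ⟨a, m', hm', hcm⟩ := Nat.exists_eq_pow_mul_and_not_dvd (orderOf_pos (c : G)).ne' p hp.ne_one
      refine ⟨a, Subtype.ext ?_⟩
      rw [SubmonoidClass.coe_pow, OneMemClass.coe_one]
      obtain ⟨d, hd⟩ : ∃ d, d = (c : G) ^ p ^ a := ⟨_, rfl⟩
      rw [← hd]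
      have hdC : d ∈ C := hd ▸ pow_mem c.2 _
      have hdco : (orderOf d).Coprime p := by
        refine Nat.Coprime.coprime_dvd_left ?_ ((hp.coprime_iff_not_dvd.2 hm').symm)
        refine orderOf_dvd_of_pow_eq_one ?_
        rw [hd, ← pow_mul, ← hcm, pow_orderOf_eq_one]
      have hdcent : d ∈ Subgroup.centralizer (O : Set G) := by
        refine centralizes_of_frattini O hOp d (by rw [Subgroup.normalizer_eq_top]; exact Subgroup.mem_top d)
          hdco fun y hy => ?_
        rw [hC, Subgroup.mem_comap, Subgroup.mem_centralizer_iff] at hdC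
        have h1 := hdC (QuotientGroup.mk' Φ y) (hV ▸ ⟨y, hy, rfl⟩)
        rw [← commutatorElement_eq_one_iff_mul_comm, ← map_commutatorElement, QuotientGroup.mk'_apply,
          QuotientGroup.eq_one_iff] at h1
        rw [← hΦ]; exact h1
      obtain ⟨j, hj⟩ := hOp ⟨d, hCO hdcent⟩
      rw [← orderOf_eq_one_iff]
      refine Nat.eq_one_of_dvd_coprimes (hdco.pow_right j) dvd_rfl (orderOf_dvd_of_pow_eq_one ?_)
      exact congrArg (fun z : O => (z : G)) hj
    · intro hg
      refine Subgroup.mem_centralizer_iff.2 fun y hy => ?_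
      exact congrArg (fun z : V => (z : G ⧸ Φ))
        (hVel.1.is_comm.comm ⟨y, hy⟩ ⟨QuotientGroup.mk' Φ g, hV ▸ ⟨g, hg, rfl⟩⟩)
  let ρ : G ⧸ O →* Module.End (AlgebraicClosure (ZMod p)) (Fin m → AlgebraicClosure (ZMod p)) :=
    QuotientGroup.lift O (ρ0.comp ι) fun g hg => MonoidHom.mem_ker.2 ((hker g).2 hg)
  have hρmk : ∀ g : G, ρ (g : G ⧸ O) = ρ0 (ι g) := fun g => rfl
  have hρinj : ∀ y, ρ y = 1 → y = 1 := by
    intro y
    induction y using QuotientGroup.induction_on with | _ g => ?_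
    intro h
    rw [hρmk, hker] at h
    exact (QuotientGroup.eq_one_iff g).2 h
  by_contra hy
  obtain ⟨xb, hxb⟩ : ∃ xb : G ⧸ O, xb = (x : G ⧸ O) := ⟨_, rfl⟩
  have hxbN : xb ^ p ^ (k + 1) = 1 := by rw [hxb, ← QuotientGroup.mk_pow, hexp x hx]; rfl
  have hyne : xb ^ p ^ k ≠ 1 := by
    rw [hxb, ← QuotientGroup.mk_pow, Ne, QuotientGroup.eq_one_iff]; exact hy
  have hsum0 : (∑ i ∈ Finset.range (p ^ (k + 1)), ρ xb ^ i :
      Module.End (AlgebraicClosure (ZMod p)) (Fin m → AlgebraicClosure (ZMod p))) = 0 := by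
    rw [hxb, hρmk]
    refine hnorm (ι x) _ ?_ fun v hv => ?_
    · rw [← map_pow, hexp x hx, map_one]
    · rw [hV] at hv
      obtain ⟨o, ho, rfl⟩ := hv
      show (QuotientGroup.mk' Φ o * QuotientGroup.mk' Φ x) ^ p ^ (k + 1) = 1
      rw [← map_mul, ← map_pow, hexp _ (mul_mem
        (show o ∈ (P : Subgroup G) from Fusion.pCore_le_sylow P (hO ▸ ho)) hx), map_one]
  -- the `p'`-core of the quotient
  have hO1 : Cfsg.pCore p (G ⧸ O) = ⊥ := by
    subst hO
    exact Fusion.pCore_quotient_eq_bot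
  have hpsQ : Cfsg.IsPSolvable p (G ⧸ O) :=
    isPSolvable_map hp hG _ (QuotientGroup.mk'_surjective O)
  obtain ⟨E, hE⟩ : ∃ E, E = Cfsg.pPrimeCore p (G ⧸ O) := ⟨_, rfl⟩
  haveI : E.Normal := hE ▸ Cfsg.pPrimeCore_normal p (G ⧸ O)
  have hEco : (Nat.card E).Coprime p := hE ▸ pPrimeCore_coprime p
  have hcent : Subgroup.centralizer (E : Set (G ⧸ O)) ≤ E := by
    rw [hE]; exact centralizer_pPrimeCore_le hpsQ hO1
  have hAE : Subgroup.zpowers xb ≤ Subgroup.normalizer (E : Set (G ⧸ O)) := by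
    rw [Subgroup.normalizer_eq_top]; exact le_top
  have hcop : (Nat.card (Subgroup.zpowers xb)).Coprime (Nat.card E) := by
    obtain ⟨j, -, hj⟩ := (Nat.dvd_prime_pow hp).1 (orderOf_dvd_of_pow_eq_one hxbN)
    rw [Nat.card_zpowers, hj]; exact (hEco.symm).pow_left j
  have hex : ∃ (q : ℕ) (_ : Fact q.Prime) (Q : Subgroup (G ⧸ O)), IsSylIn q Q E ∧
      Subgroup.zpowers xb ≤ Subgroup.normalizer (Q : Set (G ⧸ O)) ∧
      ∃ z ∈ Q, xb ^ p ^ k * z ≠ z * xb ^ p ^ k := by
    by_contra hcon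
    push Not at hcon
    refine hyne ?_
    have hE1 : Nat.card E ∣ Nat.card ↥(E ⊓ Subgroup.centralizer {xb ^ p ^ k}) := by
      rw [← Nat.factorization_le_iff_dvd Nat.card_pos.ne' Nat.card_pos.ne']
      intro q
      by_cases hq : q.Prime
      · haveI := Fact.mk hq
        obtain ⟨Q, hQ, hxQ⟩ := exists_invariant_sylow hAE hcop (Or.inl inferInstance) q
        have hle : Q ≤ E ⊓ Subgroup.centralizer {xb ^ p ^ k} := fun z hz =>
          Subgroup.mem_inf.2 ⟨hQ.1 hz, Subgroup.mem_centralizer_singleton_iff.2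
            (hcon q inferInstance Q hQ hxQ z hz).symm⟩
        have h := Subgroup.card_dvd_of_le hle
        rw [hQ.2] at h
        exact (hq.pow_dvd_iff_le_factorization Nat.card_pos.ne').1 h
      · simp [Nat.factorization_eq_zero_of_not_prime _ hq]
    have hEq := Subgroup.eq_of_le_of_card_ge inf_le_left (Nat.le_of_dvd Nat.card_pos hE1)
    have hmem : xb ^ p ^ k ∈ E := hcent (Subgroup.mem_centralizer_iff.2 fun z hz =>
      Subgroup.mem_centralizer_singleton_iff.1 (Subgroup.mem_inf.1 (hEq.ge hz)).2)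
    have h1 : orderOf (xb ^ p ^ k) ∣ Nat.card E := by
      rw [← Subgroup.orderOf_mk _ hmem]; exact orderOf_dvd_natCard _
    have h2 : orderOf (xb ^ p ^ k) ∣ p :=
      orderOf_dvd_of_pow_eq_one (by rw [← pow_mul, ← pow_succ, hxbN])
    exact orderOf_eq_one_iff.1 (Nat.eq_one_of_dvd_coprimes hEco h1 h2)
  obtain ⟨q, hqf, Q, hQ, hxQ, z, hz, hzne⟩ := hex
  haveI := hqf
  have hqp : q ≠ p := by
    intro hqp
    subst hqp
    have hd := Subgroup.card_dvd_of_le hQ.1
    rw [hQ.2] at hd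
    have hQ1 : Nat.card Q = 1 := by
      rw [hQ.2]
      exact Nat.eq_one_of_dvd_coprimes (hEco.pow_right _) hd dvd_rfl
    rw [Subgroup.card_eq_one] at hQ1
    rw [hQ1, Subgroup.mem_bot] at hz
    rw [hz, mul_one, one_mul] at hzne
    exact hzne rfl
  have hQc : ∀ a b : Q, a * b = b * a := by
    obtain ⟨S, hS⟩ := hQ.isPGroup.exists_le_sylow
    obtain ⟨T⟩ : Nonempty (Sylow q G) := inferInstance
    haveI := hab q hqp T
    intro a b
    let e := Sylow.equiv (T.mapSurjective (QuotientGroup.mk'_surjective O)) S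
    have hsurj : Function.Surjective (e.toMonoidHom.comp ((QuotientGroup.mk' O).subgroupMap (T : Subgroup G))) :=
      e.surjective.comp (MonoidHom.subgroupMap_surjective _ _)
    obtain ⟨a', ha'⟩ := hsurj ⟨a, hS a.2⟩
    obtain ⟨b', hb'⟩ := hsurj ⟨b, hS b.2⟩
    have h1 : (⟨a, hS a.2⟩ : (S : Subgroup (G ⧸ O))) * ⟨b, hS b.2⟩ = ⟨b, hS b.2⟩ * ⟨a, hS a.2⟩ := by
      rw [← ha', ← hb', ← map_mul, ← map_mul, IsMulCommutative.is_comm.comm a' b']
    exact Subtype.ext (congrArg (fun w : (S : Subgroup (G ⧸ O)) => (w : G ⧸ O)) h1)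
  obtain ⟨φ, hφ⟩ : ∃ φ : MulAut Q, ∀ w : Q, ((φ w : Q) : G ⧸ O) = xb * w * xb⁻¹ :=
    ⟨Subgroup.normalizerMonoidHom Q ⟨xb, hxQ (Subgroup.mem_zpowers xb)⟩, fun w => rfl⟩
  have hφpow : ∀ (a : ℕ) (w : Q), (((φ ^ a) w : Q) : G ⧸ O) = xb ^ a * w * (xb ^ a)⁻¹ := by
    intro a
    induction a with
    | zero => intro w; simp
    | succ a ih => intro w; rw [pow_succ, MulAut.mul_apply, ih, hφ, pow_succ]; group
  have hQF : ∀ K : Subgroup Q, ((Nat.card K : ℕ) : AlgebraicClosure (ZMod p)) ≠ 0 := fun K => by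
    obtain ⟨j, hj⟩ := (hQ.isPGroup.to_subgroup K).exists_card_eq
    rw [hj, Ne, CharP.cast_eq_zero_iff (AlgebraicClosure (ZMod p)) p]
    intro h
    exact hqp ((Nat.prime_dvd_prime_iff_eq hp hqf.out).1 (hp.dvd_of_dvd_pow h)).symm
  refine orbit_sum_ne_zero (p := p) (k := k) hQc hQF (ρ.comp Q.subtype)
    (fun g hg => Subtype.ext (hρinj _ hg)) φ ?_ ⟨⟨z, hz⟩, fun h => hzne ?_⟩ (ρ xb) (fun g => ?_) hsum0
  · refine MulEquiv.ext fun w => Subtype.ext ?_
    rw [hφpow, hxbN]; simp
  · have h1 := congrArg (fun w : Q => (w : G ⧸ O)) h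
    dsimp only at h1
    rw [hφpow, mul_inv_eq_iff_eq_mul] at h1
    exact h1
  · rw [MonoidHom.comp_apply, MonoidHom.comp_apply, ← map_mul, ← map_mul]
    congr 1
    rw [Subgroup.subtype_apply, Subgroup.subtype_apply, hφ]; group

theorem aux {p : ℕ} [Fact p.Prime] : ∀ (c : ℕ) {G : Type u} [Group G] [Finite G], Nat.card G = c →
    Cfsg.IsPSolvable p G →
    (∀ (q : ℕ) [Fact q.Prime], q ≠ p → ∀ Q : Sylow q G, IsMulCommutative (Q : Subgroup G)) →
    ∀ n, (∀ (P : Sylow p G), ∀ x ∈ (P : Subgroup G), x ^ p ^ n = 1) → HasPSeries p n G := by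
  intro c
  induction c using Nat.strong_induction_on with
  | _ c ih =>
    intro G _ _ hc hG hab n hexp
    have hp : p.Prime := Fact.out
    haveI := pCore_normal (G := G) p
    haveI := pPrimeCore_normal (G := G) p
    have hquot : ∀ (N : Subgroup G) [N.Normal], N ≠ ⊥ → ∀ j,
        (∀ (P : Sylow p G), ∀ x ∈ (P : Subgroup G), x ^ p ^ j ∈ N) →
        HasPSeries p j (G ⧸ N) := by
      intro N _ hN j hj
      have hlt : Nat.card (G ⧸ N) < c := by
        rw [← hc, ← N.card_mul_index, Subgroup.index]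
        exact lt_mul_of_one_lt_left Nat.card_pos ((Subgroup.one_lt_card_iff_ne_bot N).2 hN)
      refine ih _ hlt rfl (isPSolvable_map hp hG _ (QuotientGroup.mk'_surjective N)) ?_ j ?_
      · intro q _ hqp Q
        obtain ⟨T⟩ : Nonempty (Sylow q G) := inferInstance
        haveI := hab q hqp T
        let e := Sylow.equiv (T.mapSurjective (QuotientGroup.mk'_surjective N)) Q
        have hsurj : Function.Surjective
            (e.toMonoidHom.comp ((QuotientGroup.mk' N).subgroupMap (T : Subgroup G))) :=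
          e.surjective.comp (MonoidHom.subgroupMap_surjective _ _)
        refine ⟨⟨fun a b => ?_⟩⟩
        obtain ⟨a', rfl⟩ := hsurj a
        obtain ⟨b', rfl⟩ := hsurj b
        rw [← map_mul, ← map_mul, IsMulCommutative.is_comm.comm a' b']
      · intro P y hy
        obtain ⟨T⟩ : Nonempty (Sylow p G) := inferInstance
        let e := Sylow.equiv (T.mapSurjective (QuotientGroup.mk'_surjective N)) P
        have hsurj : Function.Surjective
            (e.toMonoidHom.comp ((QuotientGroup.mk' N).subgroupMap (T : Subgroup G))) :=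
          e.surjective.comp (MonoidHom.subgroupMap_surjective _ _)
        obtain ⟨a, ha⟩ := hsurj ⟨y, hy⟩
        have h2 : ((QuotientGroup.mk' N).subgroupMap (T : Subgroup G)) a ^ p ^ j = 1 := by
          refine Subtype.ext ?_
          show (QuotientGroup.mk' N (a : G)) ^ p ^ j = 1
          rw [← map_pow]
          exact (QuotientGroup.eq_one_iff _).2 (hj T a a.2)
        have h3 : (⟨y, hy⟩ : (P : Subgroup (G ⧸ N))) ^ p ^ j = 1 := by
          rw [← ha, ← map_pow]
          show e.toMonoidHom ((QuotientGroup.mk' N).subgroupMap (T : Subgroup G) (a ^ p ^ j)) = 1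
          exact (congrArg e.toMonoidHom ((map_pow _ _ _).trans h2)).trans (map_one e.toMonoidHom)
        exact congrArg (fun w : (P : Subgroup (G ⧸ N)) => (w : G ⧸ N)) h3
    by_cases hbot : Cfsg.pPrimeCore p G = ⊥
    swap
    · refine HasPSeries.lift_pPrime _ (pPrimeCore_coprime p) (hquot _ hbot n fun P x hx => ?_)
      rw [hexp P x hx]; exact one_mem _
    by_cases hO : Cfsg.pCore p G = ⊥
    · refine hasPSeries_of_coprime n ?_
      have h1 := centralizer_pPrimeCore_le hG hO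
      rw [hbot, Subgroup.centralizer_eq_top_iff_subset.2 (by simp), top_le_iff] at h1
      rw [← Subgroup.card_top, ← h1, Subgroup.card_bot]
      exact Nat.coprime_one_left p
    obtain ⟨P⟩ : Nonempty (Sylow p G) := inferInstance
    obtain ⟨k, rfl⟩ : ∃ k, n = k + 1 := by
      refine Nat.exists_eq_succ_of_ne_zero ?_
      rintro rfl
      refine hO ((Subgroup.eq_bot_iff_forall _).2 fun x hx => ?_)
      have := hexp P x (Fusion.pCore_le_sylow P hx)
      rwa [pow_zero, pow_one] at this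
    exact HasPSeries.lift_p _ (pCore_isPGroup p) (hquot _ hO k fun P x hx =>
      pow_mem_pCore hG hbot hab P (hexp P) x hx)

/-- Let G be a finite p-soluble group in which, for every prime q ≠ p, the Sylow q-subgroups are abelian. If the Sylow p-subgroups of G have exponent dividing p^n, then G has p-length at most n. -/
theorem result {G : Type*} [Group G] [Finite G] {p : ℕ} [Fact p.Prime] (hG : Cfsg.IsPSolvable p G) (hab : ∀ (q : ℕ) [Fact q.Prime], q ≠ p → ∀ Q : Sylow q G, IsMulCommutative (Q : Subgroup G)) (n : ℕ) (hexp : ∀ (P : Sylow p G), ∀ x ∈ (P : Subgroup G), x ^ p ^ n = 1) : Cfsg.PLengthLE p n G := by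
  rw [pLengthLE_iff]
  exact aux _ rfl hG hab n hexp

end Cfsg.Agent.S3783
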