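import Cfsg.Statements.S3784
import Mathlib.Tactic
import Mathlib.Algebra.Order.Ring.GeomSum
import Mathlib.NumberTheory.Fermat
import Mathlib.RingTheory.Int.Basic

set_option autoImplicit false
set_option linter.style.haveILetI false
open Cfsg

open Finset

namespace Cfsg.Agent.S3784

theorem odd_sum_dvd_two_pow {x : ℤ} (hx : Odd x) {n k : ℕ} (hn : Odd n)
    (h : (∑ i ∈ Finset.range n, x ^ i).natAbs ∣ ((2 ^ k : ℕ) : ℤ).natAbs) :
    (∑ i ∈ Finset.range n, x ^ i).natAbs = 1 := by
  have h2 : Odd (∑ i ∈ Finset.range n, x ^ i) := by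
    have key : ∀ m : ℕ, Odd (∑ i ∈ Finset.range m, x ^ i) ↔ Odd m := fun m => by
      induction m with
      | zero => simp
      | succ m ih =>
        rw [Finset.sum_range_succ, Int.odd_add, ih, Nat.odd_add_one]
        exact ⟨fun h hm => Int.not_even_iff_odd.2 hx.pow (h.1 hm),
          fun h => ⟨fun hm => absurd hm h, fun he => absurd he (Int.not_even_iff_odd.2 hx.pow)⟩⟩
    exact (key n).2 hn
  rw [Int.natAbs_natCast] at h
  obtain ⟨j, -, hj⟩ := (Nat.dvd_prime_pow Nat.prime_two).1 h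
  rcases Nat.eq_zero_or_pos j with rfl | hj0
  · simpa using hj
  · exfalso
    have h3 : 2 ∣ (∑ i ∈ Finset.range n, x ^ i).natAbs := hj ▸ dvd_pow_self 2 (by omega)
    exact (Nat.not_even_iff_odd.2 (Int.natAbs_odd.2 h2)) (even_iff_two_dvd.2 h3)

/-- Let p, q be primes and a, b positive integers with p^a = q^b + 1. Then either p = 2, b = 1, a is prime and q = 2^a − 1; or q = 2, a = 1, b is a power of 2 and p = 2^b + 1; or p^a = 9 and q^b = 8. -/
theorem result (p q a b : ℕ) (hp : p.Prime) (hq : q.Prime) (ha : 1 ≤ a) (hb : 1 ≤ b) (h : p ^ a = q ^ b + 1) : (p = 2 ∧ b = 1 ∧ a.Prime ∧ q + 1 = 2 ^ a) ∨ (q = 2 ∧ a = 1 ∧ (∃ m : ℕ, b = 2 ^ m) ∧ p = 2 ^ b + 1) ∨ (p ^ a = 9 ∧ q ^ b = 8) := by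
  rcases hp.eq_two_or_odd' with hp2 | hpo
  · subst hp2
    have hqo : Odd q := by
      rcases hq.eq_two_or_odd' with hq2 | hqo
      · subst hq2
        exfalso
        have h1 : 2 ∣ 2 ^ a := dvd_pow_self 2 (by omega)
        have h2 : 2 ∣ 2 ^ b := dvd_pow_self 2 (by omega)
        omega
      · exact hqo
    rcases Nat.even_or_odd b with ⟨c, hc⟩ | hbo
    · exfalso
      obtain ⟨r, hr⟩ := hqo.pow (n := c)
      have h4 : q ^ b + 1 = 4 * (r * r + r) + 2 := by rw [hc, pow_add, hr]; ring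
      rcases Nat.lt_or_ge a 2 with ha2 | ha2
      · obtain rfl : a = 1 := by omega
        have : 2 ≤ q ^ b := hq.two_le.trans (Nat.le_self_pow (by omega) q)
        omega
      · have : 4 ∣ 2 ^ a := pow_dvd_pow 2 ha2
        omega
    · obtain rfl : b = 1 := by
        have hz : ((∑ i ∈ Finset.range b, (-(q : ℤ)) ^ i)) * ((q : ℤ) + 1) = ((2 ^ a : ℕ) : ℤ) := by
          have h1 := geom_sum_mul (-(q : ℤ)) b
          rw [hbo.neg_pow] at h1
          rw [h]; push_cast
          linarith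
        have hone := odd_sum_dvd_two_pow (x := -(q : ℤ)) (Int.odd_coe_nat q |>.2 hqo).neg hbo
          (Int.natAbs_dvd_natAbs.2 (Dvd.intro _ hz))
        have := congrArg Int.natAbs hz
        rw [Int.natAbs_mul, hone, one_mul, Int.natAbs_natCast, h] at this
        have h2 : q ^ b = q ^ 1 := by rw [pow_one]; omega
        exact Nat.pow_right_injective hq.two_le h2
      rw [pow_one] at h
      have hqm : q = 2 ^ a - 1 := by omega
      exact Or.inl ⟨rfl, rfl, (Nat.prime_of_pow_sub_one_prime (by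
        rintro rfl; simp at h; exact hq.ne_one h) (hqm ▸ hq)).2, h.symm⟩
  · have hq2 : q = 2 := by
      rcases hq.eq_two_or_odd' with hq2 | hqo
      · exact hq2
      · obtain ⟨r, hr⟩ := hqo.pow (n := b)
        obtain ⟨s, hs⟩ := hpo.pow (n := a)
        omega
    subst hq2
    rcases Nat.even_or_odd a with ⟨c, hc⟩ | hao
    · refine Or.inr (Or.inr ?_)
      obtain ⟨r, hr⟩ := hpo.pow (n := c)
      have h1 : 2 * r * (2 * r + 2) = 2 ^ b := by
        rw [hc, pow_add, hr] at h; nlinarith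
      obtain ⟨i, -, hi⟩ := (Nat.dvd_prime_pow Nat.prime_two).1 (Dvd.intro _ h1)
      obtain ⟨j, -, hj⟩ := (Nat.dvd_prime_pow Nat.prime_two).1 (Dvd.intro_left _ h1)
      rcases Nat.lt_or_ge i 2 with hi2 | hi2
      · have hr1 : r = 1 := by
          interval_cases i <;> omega
        subst hr1
        have hb3 : 2 ^ b = 2 ^ 3 := by omega
        refine ⟨?_, ?_⟩
        · omega
        · omega
      · exfalso
        have hij : i < j := by
          by_contra hh
          have := Nat.pow_le_pow_right (show 0 < 2 by norm_num) (not_lt.1 hh)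
          omega
        have h4i : 4 ∣ 2 ^ i := pow_dvd_pow 2 hi2
        have h4j : 4 ∣ 2 ^ j := pow_dvd_pow 2 (hi2.trans hij.le)
        omega
    · obtain rfl : a = 1 := by
        have hz : ((∑ i ∈ Finset.range a, (p : ℤ) ^ i)) * ((p : ℤ) - 1) = ((2 ^ b : ℕ) : ℤ) := by
          have h1 := geom_sum_mul (p : ℤ) a
          have h2 : ((p ^ a : ℕ) : ℤ) = ((2 ^ b + 1 : ℕ) : ℤ) := by rw [h]
          push_cast at h2 ⊢
          linarith
        have hone := odd_sum_dvd_two_pow (x := (p : ℤ)) (Int.odd_coe_nat p |>.2 hpo) hao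
          (Int.natAbs_dvd_natAbs.2 (Dvd.intro _ hz))
        have := congrArg Int.natAbs hz
        rw [Int.natAbs_mul, hone, one_mul, Int.natAbs_natCast] at this
        have hp1 := hp.two_le
        have h2 : p ^ a = p ^ 1 := by rw [pow_one]; omega
        exact Nat.pow_right_injective hp.two_le h2
      rw [pow_one] at h
      exact Or.inr (Or.inl ⟨rfl, rfl, Nat.pow_of_pow_add_prime (a := 2) one_lt_two (by omega) (h ▸ hp), h⟩)

end Cfsg.Agent.S3784
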