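import Cfsg.Statements.S3785
import Cfsg.Agent.Lib.Solv.Cores
import Cfsg.Agent.Lib.Solv.Parts
import Cfsg.Agent.Lib.Local.FS.Omega

set_option autoImplicit false
set_option linter.style.haveILetI false
open Cfsg

open scoped Pointwise commutatorElement

namespace Cfsg.Agent.S3785

/-- Let G be a finite solvable group whose Fitting subgroup F(G) has odd order. If an element g of G commutes with every element of prime order of F(G), then g ∈ F(G). -/
theorem result {G : Type*} [Group G] [Finite G] (hG : Group.IsSolvable G) (hodd : Odd (Nat.card (Cfsg.fittingSubgroup G))) (g : G) (hg : ∀ x ∈ Cfsg.fittingSubgroup G, (orderOf x).Prime → g * x = x * g) : g ∈ Cfsg.fittingSubgroup G := by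
  classical
  set F := Cfsg.fittingSubgroup G with hF
  haveI hFn : F.Normal := Solv.fittingSubgroup_normal
  set T : Set G := {x | x ∈ F ∧ (orderOf x).Prime} with hT
  set H := Subgroup.centralizer T with hH
  haveI hHn : H.Normal := by
    refine ⟨fun h hh y => Subgroup.mem_centralizer_iff.2 fun x hx => ?_⟩
    have hx' : y⁻¹ * x * y ∈ T := ⟨by simpa using hFn.conj_mem x hx.1 y⁻¹, by
      have : orderOf (y⁻¹ * x * y) = orderOf x := by
        simpa using MulEquiv.orderOf_eq (MulAut.conj y⁻¹) x
      rw [this]; exact hx.2⟩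
    have h1 := Subgroup.mem_centralizer_iff.1 hh _ hx'
    calc x * (y * h * y⁻¹) = y * (y⁻¹ * x * y * h) * y⁻¹ := by group
      _ = y * (h * (y⁻¹ * x * y)) * y⁻¹ := by rw [h1]
      _ = _ := by group
  have hcore : ∀ p : ℕ, p.Prime → Cfsg.pCore p G ≤ F := fun p hp => by
    haveI := Fact.mk hp
    exact Solv.pCore_le_fitting p
  -- elements of order prime to `p` in `H` centralize the `p`-core
  have hdet : ∀ (p : ℕ) [Fact p.Prime] (h : G), h ∈ H → (orderOf h).Coprime p →
      h ∈ Subgroup.centralizer (Cfsg.pCore p G : Set G) := by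
    intro p hpf h hh hhp
    have hP : IsPGroup p (Cfsg.pCore p G) := Solv.pCore_isPGroup p
    haveI := Solv.pCore_normal (G := G) p
    set α : MulAut (Cfsg.pCore p G) := MulAut.conjNormal h with hα
    obtain ⟨D, -, -, hom, hdetect⟩ := Local.FS.exists_detect hP ⊤
    have h1 : α = 1 := by
      refine hdetect α (Subgroup.mem_top _) (hhp.coprime_dvd_left (orderOf_map_dvd _ _)) fun d hd => ?_
      refine Subtype.ext ?_
      show h * (d : G) * h⁻¹ = d
      rcases hom d hd with h2 | ⟨h2, -⟩
      · rcases (Nat.dvd_prime hpf.out).1 (orderOf_dvd_of_pow_eq_one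
          (show (d : G) ^ p = 1 by rw [← Subgroup.coe_pow, h2]; rfl)) with h3 | h3
        · rw [orderOf_eq_one_iff.1 h3]; simp
        · rw [← Subgroup.mem_centralizer_iff.1 hh (d : G) ⟨hcore p hpf.out d.2, by show (orderOf (d : G)).Prime; rw [h3]; exact hpf.out⟩,
            mul_inv_cancel_right]
      · subst h2
        by_cases hbot : (d : G) = 1
        · rw [hbot]; simp
        exfalso
        obtain ⟨k, hk⟩ := IsPGroup.iff_orderOf.1 hP d
        have hd2 : 2 ∣ Nat.card F := by
          refine dvd_trans ?_ (Subgroup.orderOf_dvd_natCard F (hcore 2 Nat.prime_two d.2))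
          rw [Subgroup.orderOf_coe, hk]
          rcases k with _ | k
          · exact absurd (congrArg Subtype.val (orderOf_eq_one_iff.1 (hk.trans (pow_zero 2)))) hbot
          · exact dvd_pow_self 2 k.succ_ne_zero
        exact (Nat.not_even_iff_odd.2 hodd) (even_iff_two_dvd.2 hd2)
    rw [Subgroup.mem_centralizer_iff]
    intro x hx
    have h2 : h * x * h⁻¹ = x :=
      congrArg (fun a : MulAut (Cfsg.pCore p G) => ((a ⟨x, hx⟩ : Cfsg.pCore p G) : G)) h1
    exact (mul_inv_eq_iff_eq_mul.1 h2).symm
  have hgH : g ∈ H := Subgroup.mem_centralizer_iff.2 fun x hx => (hg x hx.1 hx.2).symm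
  -- each primary part of `g` lies in the Fitting subgroup
  have hprim : ∀ (q : ℕ) [Fact q.Prime] (h : G), h ∈ H → (∃ k, orderOf h = q ^ k) → h ∈ F := by
    intro q hqf h hh hhq
    obtain ⟨k, hk⟩ := hhq
    set E : Subgroup G :=
      H ⊓ ⨅ p : {p : ℕ // p.Prime ∧ p ≠ q}, Subgroup.centralizer (Cfsg.pCore p.1 G : Set G) with hE
    have hEC : ∀ e ∈ E, ∀ p : ℕ, p.Prime → p ≠ q →
        e ∈ Subgroup.centralizer (Cfsg.pCore p G : Set G) := fun e he p hp hpq =>
      Subgroup.mem_iInf.1 (Subgroup.mem_inf.1 he).2 ⟨p, hp, hpq⟩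
    haveI hEn : E.Normal := by
      haveI : (⨅ p : {p : ℕ // p.Prime ∧ p ≠ q},
          Subgroup.centralizer (Cfsg.pCore p.1 G : Set G)).Normal :=
        Subgroup.normal_iInf_normal fun p => by
          haveI := Solv.pCore_normal (G := G) p.1
          infer_instance
      rw [hE]; infer_instance
    have hhE : h ∈ E := Subgroup.mem_inf.2 ⟨hh, Subgroup.mem_iInf.2 fun p => by
      haveI := Fact.mk p.2.1
      exact hdet p.1 h hh (hk ▸ Nat.Coprime.pow_left k ((Nat.coprime_primes hqf.out p.2.1).2 p.2.2.symm))⟩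
    -- elements of `E` of order prime to `q` are central in `E`
    have hcentral : ∀ e : E, (orderOf e).Coprime q → e ∈ Subgroup.center E := by
      intro e he
      have heC : (e : G) ∈ Subgroup.centralizer (F : Set G) := by
        rw [hF, Solv.fitting_eq_iSup_pCore, Subgroup.mem_centralizer_iff]
        intro x hx
        revert hx
        refine fun hx => Subgroup.iSup_induction (fun r : Nat.Primes => Cfsg.pCore (r : ℕ) G)
          (C := fun x => x * (e : G) = (e : G) * x) hx (fun r x hx => ?_) (by simp) fun x y hx hy => by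
            rw [mul_assoc, hy, ← mul_assoc, hx, mul_assoc]
        by_cases hrq : (r : ℕ) = q
        · rw [hrq] at hx
          exact Subgroup.mem_centralizer_iff.1
            (hdet q (e : G) e.2.1 (by rwa [Subgroup.orderOf_coe])) x hx
        · exact Subgroup.mem_centralizer_iff.1 (hEC e e.2 r r.2 hrq) x hx
      have heF : (e : G) ∈ F := Solv.centralizer_fitting_le hG heC
      -- each primary part lies in the corresponding core, centralized by `E`
      haveI hFnil : Group.IsNilpotent F := Solv.fittingSubgroup_nilpotent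
      rw [Subgroup.mem_center_iff]
      intro y
      refine Subtype.ext ?_
      show (y : G) * e = e * y
      have hy : (y : G) ∈ Subgroup.centralizer ((Subgroup.closure {x : G | ∃ (r : ℕ), r.Prime ∧ r ≠ q ∧ x ∈ Cfsg.pCore r G}) : Set G) := by
        rw [Subgroup.centralizer_closure, Subgroup.mem_centralizer_iff]
        rintro x ⟨r, hr, hrq, hx⟩
        exact Subgroup.mem_centralizer_iff.1 (hEC y y.2 r hr hrq) x hx
      refine (Subgroup.mem_centralizer_iff.1 hy (e : G) ?_).symm
      set R := Subgroup.closure {x : G | ∃ (r : ℕ), r.Prime ∧ r ≠ q ∧ x ∈ Cfsg.pCore r G}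
      have heR : F ≤ Cfsg.pCore q G ⊔ R := by
        rw [hF, Solv.fitting_eq_iSup_pCore]
        refine iSup_le fun r => ?_
        by_cases hrq : (r : ℕ) = q
        · rw [hrq]; exact le_sup_left
        · exact fun x hx => Subgroup.mem_sup_right (Subgroup.subset_closure ⟨r, r.2, hrq, hx⟩)
      haveI := Solv.pCore_normal (G := G) q
      have hmem := heR heF
      rw [Subgroup.mem_sup_of_normal_left] at hmem
      obtain ⟨a, ha, b, hb, hab⟩ := hmem
      have hcm : Commute a b := by
        have hb' : b ∈ Subgroup.centralizer (Cfsg.pCore q G : Set G) := by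
          refine (Subgroup.closure_le _).2 ?_ hb
          rintro x ⟨r, hr, hrq, hx⟩
          refine Subgroup.mem_centralizer_iff.2 fun z hz => ?_
          haveI := Solv.pCore_normal (G := G) r
          haveI := Fact.mk hr
          refine (Subgroup.commute_of_normal_of_disjoint _ _ ‹_› ‹_› ?_ z x hz hx).eq
          exact disjoint_iff.2 (Solv.coprime_inf (by
            obtain ⟨i, hi⟩ := IsPGroup.iff_card.1 (Solv.pCore_isPGroup (G := G) q)
            obtain ⟨l, hl⟩ := IsPGroup.iff_card.1 (Solv.pCore_isPGroup (G := G) r)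
            rw [hi, hl]
            exact Nat.Coprime.pow i l ((Nat.coprime_primes hqf.out hr).2 hrq.symm)))
        exact Subgroup.mem_centralizer_iff.1 hb' a ha
      obtain ⟨i, hi⟩ := IsPGroup.iff_orderOf.1 (Solv.pCore_isPGroup (G := G) q) ⟨a, ha⟩
      rw [Subgroup.orderOf_mk] at hi
      obtain ⟨m, hm⟩ := exists_pow_eq_self_of_coprime (x := (e : G)) (n := q ^ i)
        (Nat.Coprime.pow_left i (by rw [Subgroup.orderOf_coe]; exact he.symm))
      rw [← hm, ← hab, hcm.mul_pow, ← hi, pow_orderOf_eq_one, one_mul]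
      exact pow_mem (pow_mem hb _) _
    haveI : Group.IsNilpotent E := by
      have hq' : IsPGroup q (E ⧸ Subgroup.center E) := by
        intro x
        obtain ⟨e, rfl⟩ := QuotientGroup.mk_surjective x
        obtain ⟨u, v, -, -, huv, ⟨i, hi⟩, hv⟩ := Solv.exists_ppart q e
        refine ⟨i, ?_⟩
        rw [← huv, QuotientGroup.mk_mul, (QuotientGroup.eq_one_iff v).2 (hcentral v hv), mul_one,
          ← QuotientGroup.mk_pow, ← hi, pow_orderOf_eq_one, QuotientGroup.mk_one]
      exact Group.of_quotient_center_nilpotent hq'.isNilpotent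
    exact Solv.normal_le_fitting ‹Group.IsNilpotent E› hhE
  -- induction on the order
  suffices ∀ (N : ℕ) (x : G), x ∈ H → orderOf x = N → x ∈ F from this _ g hgH rfl
  intro N
  induction N using Nat.strong_induction_on with
  | _ N ih =>
    intro x hx hN
    by_cases h1 : N = 1
    · rw [orderOf_eq_one_iff.1 (hN.trans h1)]; exact one_mem F
    obtain ⟨q, hq, hqN⟩ := Nat.exists_prime_and_dvd h1
    haveI := Fact.mk hq
    obtain ⟨u, v, hu, hv, huv, huk, hvq⟩ := Solv.exists_ppart q x
    rw [← huv]
    refine mul_mem (hprim q u ((Subgroup.zpowers_le.2 hx) hu) huk)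
      (ih (orderOf v) (lt_of_le_of_ne ?_ fun e => ?_) v ((Subgroup.zpowers_le.2 hx) hv) rfl)
    · obtain ⟨j, rfl⟩ := hv
      rw [← hN]
      exact Nat.le_of_dvd (orderOf_pos x) (orderOf_dvd_of_mem_zpowers (Subgroup.zpow_mem_zpowers x j))
    · rw [e] at hvq
      exact hq.ne_one (Nat.eq_one_of_dvd_coprimes hvq hqN dvd_rfl)

end Cfsg.Agent.S3785
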