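import Cfsg.Statements.S3786
import Cfsg.Agent.Lib.Solv.PLengthExponent

open Cfsg.Agent

set_option autoImplicit false
open Cfsg

namespace Cfsg.Agent.S3786

/-- The Hall–Higman bound on p-length. Let p be an odd prime and G a finite p-soluble group whose Sylow p-subgroups have exponent dividing p^e. (a) If p is not of the form 2^k + 1, or if the Sylow 2-subgroups of G are abelian, then G has p-length at most e. (b) In every case G has p-length at most 2e. -/
theorem result {G : Type*} [Group G] [Finite G] {p : ℕ} [Fact p.Prime] (hp : p ≠ 2) (hG : Cfsg.IsPSolvable p G) (e : ℕ) (hexp : ∀ (P : Sylow p G), ∀ x ∈ (P : Subgroup G), x ^ p ^ e = 1) : (((¬ ∃ k : ℕ, p = 2 ^ k + 1) ∨ ∀ S : Sylow 2 G, IsMulCommutative (S : Subgroup G)) → Cfsg.PLengthLE p e G) ∧ Cfsg.PLengthLE p (2 * e) G := by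
  have he : Solv.PLE.ExpLE p e G := fun g hg => by
    obtain ⟨k, hk⟩ := hg
    obtain ⟨i, -, hi⟩ := (Nat.dvd_prime_pow (Fact.out : p.Prime)).1 (orderOf_dvd_of_pow_eq_one hk)
    obtain ⟨P, hP⟩ := (IsPGroup.of_card (n := i) (by rw [Nat.card_zpowers, hi]) :
      IsPGroup p (Subgroup.zpowers g)).exists_le_sylow
    exact hexp P g (hP (Subgroup.mem_zpowers g))
  rw [Solv.PLen.pLengthLE_iff, Solv.PLen.pLengthLE_iff]
  exact ⟨fun hc => Solv.PLE.main_a hp e G hG he hc, Solv.PLE.main_b hp e G hG he⟩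

end Cfsg.Agent.S3786
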