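import Cfsg.Statements.S3787
import Cfsg.Agent.Lib.Solv.WreathSection
import Cfsg.Agent.Lib.Fusion.LinearStable

open Cfsg.Agent

set_option autoImplicit false
open Cfsg

namespace Cfsg.Agent.S3787

/-- Let G be a finite p-soluble group, p an odd prime not of the form 2^k + 1, and suppose the wreath product C_p ≀ C_p (of order p^(p+1)) is not involved in a Sylow p-subgroup of G: no section of a Sylow p-subgroup is isomorphic to it. Then G has p-length at most 1. -/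
theorem result {G : Type*} [Group G] [Finite G] {p : ℕ} [Fact p.Prime] (hp2 : p ≠ 2) (hnf : (¬ ∃ k : ℕ, p = 2 ^ k + 1)) (hG : Cfsg.IsPSolvable p G) (P : Sylow p G) (hwr : ∀ (W : Type) [Group W] [Finite W], (∃ (B : Subgroup W) (t : W), B.Normal ∧ IsMulCommutative B ∧ (∀ b ∈ B, b ^ p = 1) ∧ Nat.card B = p ^ p ∧ orderOf t = p ∧ t ∉ B ∧ Nat.card W = p ^ (p + 1) ∧ Nat.card ↥(B ⊓ Subgroup.centralizer ({t} : Set W)) = p) → ¬ Cfsg.Involves W ↥(P : Subgroup G)) : Cfsg.PLengthLE p 1 G := by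
  classical
  have hp : p.Prime := Fact.out
  haveI := Cfsg.pPrimeCore_normal p G
  rw [Solv.PLen.pLengthLE_iff]
  refine Solv.PLen.HasPSeries.lift_pPrime (Cfsg.pPrimeCore p G) (Solv.pPrimeCore_coprime p) ?_
  obtain ⟨ν, hν⟩ : ∃ ν, ν = QuotientGroup.mk' (Cfsg.pPrimeCore p G) := ⟨_, rfl⟩
  have hνs : Function.Surjective ν := hν ▸ QuotientGroup.mk'_surjective _
  have hH : Cfsg.IsPSolvable p (G ⧸ Cfsg.pPrimeCore p G) :=
    Solv.isPSolvable_map hp hG ν hνs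
  obtain ⟨P₁, hP₁⟩ : ∃ P₁ : Sylow p (G ⧸ Cfsg.pPrimeCore p G), P₁ = P.mapSurjective hνs := ⟨_, rfl⟩
  refine Solv.ThmB.hasPSeries_one_of_sylow_le P₁ ?_
  by_contra hle
  obtain ⟨Φ, hΦn, V, hVn, hΦO, hV, hVmem, hCV, hcore⟩ :=
    Solv.ThmB.exists_frattini_section hH Fusion.pPrimeCore_quotient_eq_bot
  obtain ⟨π, hπ⟩ : ∃ π, π = QuotientGroup.mk' Φ := ⟨_, rfl⟩
  rw [← hπ] at hVmem
  have hπs : Function.Surjective π := hπ ▸ QuotientGroup.mk'_surjective Φ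
  obtain ⟨P₂, hP₂⟩ : ∃ P₂ : Sylow p ((G ⧸ Cfsg.pPrimeCore p G) ⧸ Φ), P₂ = P₁.mapSurjective hπs := ⟨_, rfl⟩
  have hP₂' : (P₂ : Subgroup _) = (P₁ : Subgroup _).map π := by rw [hP₂]; exact Sylow.coe_mapSurjective hπs P₁
  have hVP : V ≤ (P₂ : Subgroup _) := fun z hz => by
    obtain ⟨o, rfl⟩ := hπs z
    rw [hP₂']
    exact ⟨o, Fusion.pCore_le_sylow P₁ ((hVmem o).1 hz), rfl⟩
  -- an element of order `p` modulo the core
  obtain ⟨a, ha, haO⟩ := SetLike.not_le_iff_exists.1 hle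
  obtain ⟨g, hg, hgV, hgp⟩ : ∃ g ∈ (P₂ : Subgroup _), g ∉ V ∧ g ^ p ∈ V := by
    have hex : ∃ i, π a ^ p ^ i ∈ V := by
      obtain ⟨i, hi⟩ := IsPGroup.iff_orderOf.1 P₁.isPGroup' ⟨a, ha⟩
      refine ⟨i, ?_⟩
      rw [← hi, Subgroup.orderOf_mk, ← map_pow, pow_orderOf_eq_one, map_one]
      exact one_mem V
    have h0 : Nat.find hex ≠ 0 := fun h => haO ((hVmem a).1 (by simpa [h] using Nat.find_spec hex))
    refine ⟨π a ^ p ^ (Nat.find hex - 1), pow_mem (hP₂' ▸ ⟨a, ha, rfl⟩) _,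
      Nat.find_min hex (by omega), ?_⟩
    rw [← pow_mul, ← pow_succ, Nat.sub_add_cancel (Nat.one_le_iff_ne_zero.2 h0)]
    exact Nat.find_spec hex
  obtain ⟨k, e, ρ, heinj, hmem, hadd, hact⟩ := Solv.ThmB.exists_module V hV
  have hab : ∀ v ∈ V, ∀ w ∈ V, v * w = w * v := fun v hv w hw =>
    congrArg Subtype.val (hV.1.is_comm.comm ⟨v, hv⟩ ⟨w, hw⟩)
  rcases Solv.ThmB.action_bound (Solv.isPSolvable_map hp hH π hπs) V hCV hcore e hmem ρ hact heinj hab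
      g 1 le_rfl (by rwa [pow_one]) (by simpa using hgV) with h | ⟨n₀, q, b, h1, h2, h3, h4, h5, -⟩
  · rw [pow_one] at h
    obtain ⟨W, hWg, hWf, hWp, hinv⟩ :=
      Solv.ThmB.exists_wreath_section P₂ V e hmem ρ heinj hadd hact hVP g hg hgV hgp h
    refine @hwr W hWg hWf hWp (Fusion.involves_trans hinv ?_)
    have e1 : (P₂ : Subgroup _) = (P : Subgroup G).map (π.comp ν) := by
      rw [hP₂', hP₁, Sylow.coe_mapSurjective, Subgroup.map_map]
    rw [e1]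
    exact Fusion.involves_surjective Fusion.involves_refl _
      ((π.comp ν).subgroupMap_surjective (P : Subgroup G))
  · exact hnf (Solv.ThmB.fermat_of_exception hp2 h3 h1 h4 h5).2

end Cfsg.Agent.S3787
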