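import Cfsg.Statements.S3788
import Cfsg.Agent.Lib.Solv.HallHigman
import Cfsg.Agent.Lib.Solv.SZ
import Cfsg.Agent.Lib.Solv.Hall
import Cfsg.Agent.Lib.Char.OneBlock
import Cfsg.Agent.Lib.Fusion.WeakClosedFour
import Cfsg.Agent.Lib.Fusion.LinearStable

set_option autoImplicit false
set_option linter.style.haveILetI false
open Cfsg

open scoped Pointwise commutatorElement

namespace Cfsg.Agent.S3788

open Cfsg.Agent.Solv

universe u

theorem aux {G : Type u} [Group G] [Finite G] {p : ℕ} [Fact p.Prime] (hG : Cfsg.IsPSolvable p G)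
    (hbot : Cfsg.pPrimeCore p G = ⊥) (P : Sylow p G) (a : G) (ha : a ∈ (P : Subgroup G))
    (hn : ∀ o ∈ (P : Subgroup G), o * a * o⁻¹ ∈ Subgroup.zpowers a)
    (h : p ≠ 2 ∨ ¬ Cfsg.Involves (Equiv.Perm (Fin 4)) G) : a ∈ Cfsg.pCore p G := by
  classical
  have hp : p.Prime := Fact.out
  obtain ⟨O, hO⟩ : ∃ O, O = Cfsg.pCore p G := ⟨_, rfl⟩
  rw [← hO]
  haveI hOn : O.Normal := hO ▸ Cfsg.pCore_normal p G
  have hOp : IsPGroup p O := hO ▸ pCore_isPGroup p
  have hOmax : ∀ N : Subgroup G, N.Normal → IsPGroup p N → N ≤ O := fun N hN hNp => by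
    haveI := hN; exact hO ▸ normal_le_pCore hNp
  have hOP : O ≤ (P : Subgroup G) := hO ▸ Fusion.pCore_le_sylow P
  by_contra haO
  obtain ⟨Φ, hΦ⟩ : ∃ Φ, Φ = (frattini ↥O).map O.subtype := ⟨_, rfl⟩
  haveI : Φ.Normal := hΦ ▸ inferInstance
  have hΦO : Φ ≤ O := hΦ ▸ Subgroup.map_subtype_le _
  obtain ⟨π, hπ⟩ : ∃ π, π = QuotientGroup.mk' Φ := ⟨_, rfl⟩
  have hπs : Function.Surjective π := hπ ▸ QuotientGroup.mk'_surjective Φ
  obtain ⟨V, hV⟩ : ∃ V, V = O.map π := ⟨_, rfl⟩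
  haveI : V.Normal := hV ▸ Subgroup.Normal.map inferInstance _ hπs
  have hmemV : ∀ g, π g ∈ V ↔ g ∈ O := by
    intro g
    rw [hV, ← Subgroup.mem_comap, Subgroup.comap_map_eq, hπ, QuotientGroup.ker_mk',
      sup_eq_left.2 hΦO]
  have hab : ∀ v ∈ V, ∀ w ∈ V, v * w = w * v := by
    intro v hv w hw
    rw [hV] at hv hw
    obtain ⟨v, hv', rfl⟩ := hv
    obtain ⟨w, hw', rfl⟩ := hw
    rw [← commutatorElement_eq_one_iff_mul_comm, ← map_commutatorElement, hπ,
      QuotientGroup.mk'_apply, QuotientGroup.eq_one_iff, hΦ]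
    exact ⟨_, commutatorElement_mem_frattini hOp ⟨v, hv'⟩ ⟨w, hw'⟩, by simp [commutatorElement_def]⟩
  have hexp : ∀ v ∈ V, v ^ p = 1 := by
    intro v hv
    rw [hV] at hv
    obtain ⟨v, hv', rfl⟩ := hv
    rw [← map_pow, hπ, QuotientGroup.mk'_apply, QuotientGroup.eq_one_iff, hΦ]
    exact ⟨_, pow_mem_frattini hOp ⟨v, hv'⟩, rfl⟩
  have hCO : Subgroup.centralizer (O : Set G) ≤ O := by
    rw [hO]; exact Char.centralizer_pCore_le_of_pSolvable hG hbot
  -- the Frattini quotient is self-centralizing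
  have hCV : ∀ z, z ∈ Subgroup.centralizer (V : Set (G ⧸ Φ)) ↔ z ∈ V := by
    intro z
    refine ⟨fun hz => ?_, fun hz => Subgroup.mem_centralizer_iff.2 fun v hv => hab v hv z hz⟩
    obtain ⟨g, rfl⟩ := hπs z
    rw [hmemV]
    obtain ⟨C, hC⟩ : ∃ C, C = (Subgroup.centralizer (V : Set (G ⧸ Φ))).comap π := ⟨_, rfl⟩
    have hCn : C.Normal := hC ▸ Subgroup.Normal.comap inferInstance _
    suffices hCp : IsPGroup p C from hOmax C hCn hCp (hC ▸ hz)
    intro c
    obtain ⟨i, m', hm', hcm⟩ := Nat.exists_eq_pow_mul_and_not_dvd (orderOf_pos (c : G)).ne' p hp.ne_one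
    refine ⟨i, Subtype.ext ?_⟩
    rw [SubmonoidClass.coe_pow, OneMemClass.coe_one]
    obtain ⟨d, hd⟩ : ∃ d, d = (c : G) ^ p ^ i := ⟨_, rfl⟩
    rw [← hd]
    have hdC : d ∈ C := hd ▸ pow_mem c.2 _
    have hdco : (orderOf d).Coprime p := by
      refine Nat.Coprime.coprime_dvd_left ?_ ((hp.coprime_iff_not_dvd.2 hm').symm)
      refine orderOf_dvd_of_pow_eq_one ?_
      rw [hd, ← pow_mul, ← hcm, pow_orderOf_eq_one]
    have hdcent : d ∈ Subgroup.centralizer (O : Set G) := by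
      refine centralizes_of_frattini O hOp d (by rw [Subgroup.normalizer_eq_top]; exact Subgroup.mem_top d)
        hdco fun y hy => ?_
      rw [hC, Subgroup.mem_comap, Subgroup.mem_centralizer_iff] at hdC
      have h1 := hdC (π y) ((hmemV y).2 hy)
      rw [← commutatorElement_eq_one_iff_mul_comm, ← map_commutatorElement, hπ,
        QuotientGroup.mk'_apply, QuotientGroup.eq_one_iff] at h1
      rw [← hΦ]; exact h1
    obtain ⟨j, hj⟩ := hOp ⟨d, hCO hdcent⟩
    rw [← orderOf_eq_one_iff]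
    exact Nat.eq_one_of_dvd_coprimes (hdco.pow_right j) dvd_rfl
      (orderOf_dvd_of_pow_eq_one (congrArg (fun z : O => (z : G)) hj))
  obtain ⟨x, hx⟩ : ∃ x, x = π a := ⟨_, rfl⟩
  have hxV : x ∉ V := fun hm => haO ((hmemV a).1 (hx ▸ hm))
  -- the commutators with `x`
  have hVn : ∀ v ∈ V, ∀ z, z * v * z⁻¹ ∈ V := fun v hv z => Subgroup.Normal.conj_mem inferInstance v hv z
  let f : V →* G ⧸ Φ := MonoidHom.mk' (fun v => x * v * x⁻¹ * (v : G ⧸ Φ)⁻¹) fun v w => by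
    have hc := hab _ (V.inv_mem v.2) _ (V.mul_mem (hVn w w.2 x) (V.inv_mem w.2))
    calc x * ((v * w : V) : G ⧸ Φ) * x⁻¹ * ((v * w : V) : G ⧸ Φ)⁻¹
        = x * v * x⁻¹ * ((x * w * x⁻¹ * (w : G ⧸ Φ)⁻¹) * (v : G ⧸ Φ)⁻¹) := by
          rw [Subgroup.coe_mul]; group
      _ = _ := by rw [← hc]; group
  have hfV : ∀ v : V, f v ∈ V := fun v => V.mul_mem (hVn v v.2 x) (V.inv_mem v.2)
  have hfA : ∀ v : V, ∃ j : ℤ, f v = x ^ j := by
    rintro ⟨v, hv⟩
    obtain ⟨o, rfl⟩ := hπs v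
    obtain ⟨j, hj⟩ := hn o (hOP ((hmemV o).1 hv))
    refine ⟨1 - j, ?_⟩
    dsimp only at hj
    show x * π o * x⁻¹ * (π o)⁻¹ = x ^ (1 - j)
    rw [hx, ← map_zpow, ← map_inv, ← map_inv, ← map_mul, ← map_mul, ← map_mul, zpow_sub, zpow_one, hj]
    congr 1
    group
  have hfx : ∀ v : V, x * f v = f v * x := fun v => by
    obtain ⟨j, hj⟩ := hfA v; rw [hj]; exact (Commute.refl x).zpow_right j
  have hconj : ∀ (v : V) (n : ℕ), x ^ n * v * (x ^ n)⁻¹ = f v ^ n * v := by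
    intro v n
    induction n with
    | zero => simp
    | succ n ih =>
      have e : x * f v ^ n = f v ^ n * x := (Commute.pow_right (hfx v) n)
      calc x ^ (n + 1) * v * (x ^ (n + 1))⁻¹ = x * (x ^ n * v * (x ^ n)⁻¹) * x⁻¹ := by
            rw [pow_succ']; group
        _ = x * f v ^ n * v * x⁻¹ := by rw [ih]; group
        _ = f v ^ n * (x * v * x⁻¹ * (v : G ⧸ Φ)⁻¹) * v := by rw [e]; group
        _ = f v ^ (n + 1) * v := by rw [pow_succ]; rfl
  have hxp : x ^ p ∈ V := (hCV _).1 (Subgroup.mem_centralizer_iff.2 fun v hv => by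
    have h1 := hconj ⟨v, hv⟩ p
    rw [hexp _ (hfV _), one_mul, mul_inv_eq_iff_eq_mul] at h1
    exact h1.symm)
  have hfL : ∀ v : V, f v ∈ Subgroup.zpowers (x ^ p) := fun v => by
    obtain ⟨j, hj⟩ := hfA v
    rw [hj]
    by_cases hdj : (p : ℤ) ∣ j
    · obtain ⟨l, rfl⟩ := hdj
      exact ⟨l, by simp [zpow_mul]⟩
    · exfalso
      obtain ⟨r, s, hrs⟩ := (((Nat.prime_iff_prime_int.1 hp).coprime_iff_not_dvd).2 hdj)
      refine hxV ?_
      rw [← zpow_one x, ← hrs, zpow_add, mul_comm r, zpow_mul, zpow_natCast, mul_comm s, zpow_mul]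
      exact V.mul_mem (V.zpow_mem hxp r) (V.zpow_mem (hj ▸ hfV v) s)
  -- the quotient has trivial `p`-core
  have hOQ : ∀ (C₀ : Subgroup (G ⧸ Φ)) [C₀.Normal], C₀ = V → Cfsg.pCore p ((G ⧸ Φ) ⧸ C₀) = ⊥ := by
    intro C₀ _ hC₀
    subst hC₀
    refine (Subgroup.eq_bot_iff_forall _).2 fun z hz => ?_
    obtain ⟨y, rfl⟩ := QuotientGroup.mk'_surjective C₀ z
    obtain ⟨g, rfl⟩ := hπs y
    refine (QuotientGroup.eq_one_iff _).2 ((hmemV g).2 ?_)
    haveI := Cfsg.pCore_normal p ((G ⧸ Φ) ⧸ C₀)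
    refine hOmax ((Cfsg.pCore p ((G ⧸ Φ) ⧸ C₀)).comap ((QuotientGroup.mk' C₀).comp π))
      (Subgroup.Normal.comap inferInstance _) ((pCore_isPGroup p).comap_of_ker_isPGroup _ ?_) hz
    have hker : ((QuotientGroup.mk' C₀).comp π).ker = O := by
      ext y
      rw [MonoidHom.mem_ker, MonoidHom.comp_apply, QuotientGroup.mk'_apply, QuotientGroup.eq_one_iff,
        hmemV]
    rw [hker]; exact hOp
  by_cases hp2 : p = 2
  · subst hp2
    refine (h.resolve_left (fun h' => h' rfl)) ?_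
    refine Fusion.involves_trans ?_ (Fusion.involves_surjective Fusion.involves_refl π hπs)
    refine Fusion.involves_four_of_transvection (E := V) hab (fun e he => by rw [← pow_two]; exact hexp e he)
      (a := x) ((hCV _).2 (by rw [← pow_two]; exact hxp)) ?_ ?_
    · have hk : (V ⊓ Subgroup.centralizer ({x} : Set (G ⧸ Φ))).subgroupOf V = f.ker := by
        ext v
        rw [Subgroup.mem_subgroupOf, Subgroup.mem_inf, Subgroup.mem_centralizer_singleton_iff,
          MonoidHom.mem_ker]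
        show _ ↔ x * v * x⁻¹ * (v : G ⧸ Φ)⁻¹ = 1
        rw [mul_inv_eq_one, mul_inv_eq_iff_eq_mul]
        exact ⟨fun h => h.2.symm, fun h => ⟨v.2, h.symm⟩⟩
      rw [Subgroup.relIndex, hk, Subgroup.index_ker]
      refine (Nat.le_of_dvd Nat.card_pos (Subgroup.card_dvd_of_le
        (K := Subgroup.zpowers (x ^ 2)) ?_)).trans ?_
      · rintro _ ⟨v, rfl⟩; exact hfL v
      · rw [Nat.card_zpowers]
        exact Nat.le_of_dvd (by norm_num) (orderOf_dvd_of_pow_eq_one (hexp _ hxp))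
    · intro hmem
      rw [hOQ _ (Subgroup.ext hCV), Subgroup.mem_bot, QuotientGroup.mk'_apply,
        QuotientGroup.eq_one_iff, hCV] at hmem
      exact hxV hmem
  -- odd `p`
  have hQ1 := hOQ V rfl
  have hpsQ : Cfsg.IsPSolvable p ((G ⧸ Φ) ⧸ V) :=
    isPSolvable_map hp (isPSolvable_map hp hG π hπs) _ (QuotientGroup.mk'_surjective V)
  obtain ⟨E, hE⟩ : ∃ E, E = Cfsg.pPrimeCore p ((G ⧸ Φ) ⧸ V) := ⟨_, rfl⟩
  haveI : E.Normal := hE ▸ Cfsg.pPrimeCore_normal p ((G ⧸ Φ) ⧸ V)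
  have hcent : Subgroup.centralizer (E : Set ((G ⧸ Φ) ⧸ V)) ≤ E := by
    rw [hE]; exact centralizer_pPrimeCore_le hpsQ hQ1
  have hEco : (Nat.card E).Coprime p := hE ▸ pPrimeCore_coprime p
  obtain ⟨M, hM⟩ : ∃ M, M = E.comap (QuotientGroup.mk' V) := ⟨_, rfl⟩
  haveI : M.Normal := hM ▸ Subgroup.Normal.comap inferInstance _
  have hVM : V ≤ M := fun v hv => by
    rw [hM, Subgroup.mem_comap, QuotientGroup.mk'_apply, (QuotientGroup.eq_one_iff _).2 hv]
    exact one_mem E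
  have hrel : V.relIndex M = Nat.card E := by
    have h1 := Subgroup.relIndex_ker M (QuotientGroup.mk' V)
    rw [QuotientGroup.ker_mk'] at h1
    rw [h1, hM, Subgroup.map_comap_eq_self_of_surjective (QuotientGroup.mk'_surjective V)]
  obtain ⟨k, hk⟩ : ∃ k, Nat.card V = p ^ k := ((hOp.map π).to_le (le_of_eq hV)).exists_card_eq
  obtain ⟨T₀, hT₀⟩ := Subgroup.exists_right_complement'_of_coprime (N := V.subgroupOf M) (by
    show (Nat.card (V.subgroupOf M)).Coprime (V.relIndex M)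
    rw [hrel, Nat.card_congr (Subgroup.subgroupOfEquivOfLe hVM).toEquiv, hk]
    exact hEco.symm.pow_left k)
  obtain ⟨T, hT⟩ : ∃ T, T = T₀.map M.subtype := ⟨_, rfl⟩
  have hTM : T ≤ M := hT ▸ Subgroup.map_subtype_le _
  have hVT : V ⊔ T = M := by
    have := congrArg (Subgroup.map M.subtype) hT₀.sup_eq_top
    rwa [Subgroup.map_sup, Subgroup.subgroupOf_map_subtype, inf_eq_left.2 hVM, ← MonoidHom.range_eq_map,
      Subgroup.range_subtype, ← hT] at this
  have hTco : (Nat.card T).Coprime p := by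
    have h1 : Nat.card T = Nat.card E := by
      rw [hT, Subgroup.card_subtype, ← hrel, Subgroup.relIndex]
      exact (hT₀.symm.index_eq_card).symm
    rw [h1]; exact hEco
  have hVTco : (Nat.card V).Coprime (Nat.card T) := hk ▸ hTco.symm.pow_left k
  have hint : ∀ z ∈ V, z ∈ T → z = 1 := fun z h1 h2 =>
    (Subgroup.eq_bot_iff_forall _).1 (coprime_inf (H := V) (K := T) hVTco) z ⟨h1, h2⟩
  -- a Frattini argument
  obtain ⟨v, hv, hvT⟩ := sz_conj_rel V T (MulAut.conj x • T) (by rw [Subgroup.normalizer_eq_top]; exact le_top)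
    (by
      rw [hVT]
      intro z hz
      obtain ⟨t, ht, rfl⟩ := hz
      exact Subgroup.Normal.conj_mem inferInstance t (hTM ht) x)
    hVTco (Nat.card_congr (Subgroup.equivSMul (MulAut.conj x) T).toEquiv).symm
    (Or.inl (by
      haveI := (IsPGroup.of_card hk).isNilpotent
      infer_instance))
  obtain ⟨c, hc⟩ : ∃ c, c = v⁻¹ * x := ⟨_, rfl⟩
  have hcT : ∀ t ∈ T, c * t * c⁻¹ ∈ T := by
    intro t ht
    have h1 : x * t * x⁻¹ ∈ MulAut.conj v • T := hvT ▸ Subgroup.mem_map.2 ⟨t, ht, rfl⟩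
    obtain ⟨t', ht', htt'⟩ := h1
    have h2 : v * t' * v⁻¹ = x * t * x⁻¹ := htt'
    have h3 : c * t * c⁻¹ = t' := by
      calc c * t * c⁻¹ = v⁻¹ * (x * t * x⁻¹) * v := by rw [hc]; group
        _ = t' := by rw [← h2]; group
    rw [h3]; exact ht'
  have hcV : ∀ w : V, c * w * c⁻¹ = f w * w := by
    intro w
    have h1 := hab _ (V.inv_mem hv) _ (hVn w w.2 x)
    calc c * w * c⁻¹ = v⁻¹ * (x * w * x⁻¹) * v := by rw [hc]; group
      _ = x * w * x⁻¹ := by rw [h1, inv_mul_cancel_right]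
      _ = x * w * x⁻¹ * (w : G ⧸ Φ)⁻¹ * w := by rw [inv_mul_cancel_right]
  have hcf : ∀ w : V, c * f w = f w * c := fun w => by
    rw [hc, mul_assoc, hfx, ← mul_assoc, hab _ (V.inv_mem hv) _ (hfV w), mul_assoc]
  have hcp : x ^ p = c ^ p := by
    obtain ⟨d, hd⟩ : ∃ d, d = f ⟨v, hv⟩ := ⟨_, rfl⟩
    have hdV : d ∈ V := hd ▸ hfV _
    have hcd : ∀ n : ℕ, c ^ n * v * (c ^ n)⁻¹ = d ^ n * v := by
      intro n
      induction n with
      | zero => simp
      | succ n ih =>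
        have e : c * d ^ n = d ^ n * c := Commute.pow_right (hd ▸ hcf _) n
        calc c ^ (n + 1) * v * (c ^ (n + 1))⁻¹ = c * (c ^ n * v * (c ^ n)⁻¹) * c⁻¹ := by
              rw [pow_succ']; group
          _ = c * d ^ n * v * c⁻¹ := by rw [ih]; group
          _ = d ^ n * (c * v * c⁻¹) := by rw [e]; group
          _ = d ^ n * (d * v) := by rw [hd, ← hcV ⟨v, hv⟩]
          _ = d ^ (n + 1) * v := by rw [← mul_assoc, pow_succ]
    have hpow : ∀ n : ℕ, (v * c) ^ n = d ^ n.choose 2 * v ^ n * c ^ n := by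
      intro n
      induction n with
      | zero => simp
      | succ n ih =>
        have hC : (n + 1).choose 2 = n.choose 2 + n := by
          rw [Nat.choose_succ_succ, Nat.choose_one_right, add_comm]
        have e : v ^ n * d ^ n = d ^ n * v ^ n := hab _ (pow_mem hv n) _ (pow_mem hdV n)
        calc (v * c) ^ (n + 1) = d ^ n.choose 2 * v ^ n * c ^ n * (v * c) := by rw [pow_succ, ih]
          _ = d ^ n.choose 2 * v ^ n * (c ^ n * v * (c ^ n)⁻¹) * (c ^ n * c) := by group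
          _ = d ^ n.choose 2 * (v ^ n * d ^ n) * v * (c ^ n * c) := by rw [hcd]; group
          _ = _ := by rw [e, hC, pow_add, pow_succ v, pow_succ c]; group
    have hxc : x = v * c := by rw [hc, mul_inv_cancel_left]
    obtain ⟨l, hl⟩ : p ∣ p.choose 2 :=
      hp.dvd_choose_self (by norm_num) (lt_of_le_of_ne hp.two_le (Ne.symm hp2))
    rw [hxc, hpow, hexp v hv, hl, pow_mul, hexp d hdV, one_pow, one_mul, one_mul]
  have hTL : ∀ (w : V), ∀ t ∈ T, Commute t (f w) := by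
    intro w t ht
    obtain ⟨j, hj⟩ := hfL w
    dsimp only at hj
    rw [← hj]
    refine Commute.zpow_right ?_ j
    rw [hcp]
    have hcn : ∀ n : ℕ, c ^ n * t * (c ^ n)⁻¹ ∈ T := by
      intro n
      induction n with
      | zero => simpa using ht
      | succ n ih =>
        have := hcT _ ih
        rwa [show c ^ (n + 1) * t * (c ^ (n + 1))⁻¹ = c * (c ^ n * t * (c ^ n)⁻¹) * c⁻¹ by
          rw [pow_succ']; group]
    have hcV' : c ^ p ∈ V := hcp ▸ hxp
    have h1 : c ^ p * t * (c ^ p)⁻¹ * t⁻¹ = 1 := by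
      refine hint _ ?_ (T.mul_mem (hcn p) (T.inv_mem ht))
      rw [show c ^ p * t * (c ^ p)⁻¹ * t⁻¹ = c ^ p * (t * (c ^ p)⁻¹ * t⁻¹) by group]
      exact V.mul_mem hcV' (hVn _ (V.inv_mem hcV') t)
    rw [mul_inv_eq_one, mul_inv_eq_iff_eq_mul] at h1
    exact h1.symm
  have hct : ∀ t ∈ T, c * t = t * c := by
    intro t ht
    obtain ⟨t', ht'⟩ : ∃ t', t' = c * t * c⁻¹ := ⟨_, rfl⟩
    have ht'T : t' ∈ T := ht' ▸ hcT t ht
    obtain ⟨s, hs⟩ : ∃ s, s = t⁻¹ * t' := ⟨_, rfl⟩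
    have hsT : s ∈ T := hs ▸ T.mul_mem (T.inv_mem ht) ht'T
    have hscent : s ∈ Subgroup.centralizer (V : Set (G ⧸ Φ)) := by
      refine Subgroup.mem_centralizer_iff.2 fun w hw => ?_
      obtain ⟨w₁, hw₁⟩ : ∃ w₁ : V, (w₁ : G ⧸ Φ) = t * w * t⁻¹ := ⟨⟨_, hVn w hw t⟩, rfl⟩
      obtain ⟨d, hd⟩ : ∃ d, d = f ⟨w, hw⟩ := ⟨_, rfl⟩
      obtain ⟨d₁, hd₁⟩ : ∃ d₁, d₁ = f w₁ := ⟨_, rfl⟩
      obtain ⟨z, hz⟩ : ∃ z, z = d⁻¹ * d₁ := ⟨_, rfl⟩
      have hzT : ∀ u ∈ T, Commute u z := fun u hu => by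
        rw [hz, hd, hd₁]; exact (hTL _ u hu).inv_right.mul_right (hTL _ u hu)
      have hzV : z ∈ V := hz ▸ V.mul_mem (V.inv_mem (hd ▸ hfV _)) (hd₁ ▸ hfV _)
      have hdt : t' * d = d * t' := hd ▸ hTL ⟨w, hw⟩ t' ht'T
      have key : d * (t' * w * t'⁻¹) = d₁ * (t * w * t⁻¹) := by
        rw [hd₁, ← hw₁, ← hcV w₁, hw₁]
        calc d * (t' * w * t'⁻¹) = t' * (d * w) * t'⁻¹ := by rw [← mul_assoc t', hdt]; group
          _ = t' * (c * w * c⁻¹) * t'⁻¹ := by rw [hd, hcV ⟨w, hw⟩]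
          _ = _ := by rw [ht']; group
      have hsw : s * w * s⁻¹ = z * w := by
        calc s * w * s⁻¹ = t⁻¹ * (d⁻¹ * (d * (t' * w * t'⁻¹))) * t := by rw [hs]; group
          _ = t⁻¹ * z * t * w := by rw [key, hz]; group
          _ = z * w := by rw [(hzT t ht).inv_left.eq, inv_mul_cancel_right]
      have hit : ∀ n : ℕ, s ^ n * w * (s ^ n)⁻¹ = z ^ n * w := by
        intro n
        induction n with
        | zero => simp
        | succ n ih =>
          have e : s * z ^ n = z ^ n * s := (hzT s hsT).pow_right n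
          calc s ^ (n + 1) * w * (s ^ (n + 1))⁻¹ = s * (s ^ n * w * (s ^ n)⁻¹) * s⁻¹ := by
                rw [pow_succ']; group
            _ = s * z ^ n * w * s⁻¹ := by rw [ih]; group
            _ = z ^ n * (s * w * s⁻¹) := by rw [e]; group
            _ = z ^ (n + 1) * w := by rw [hsw, ← mul_assoc, pow_succ]
      have h1 := hit (orderOf s)
      rw [pow_orderOf_eq_one, inv_one, mul_one, one_mul, right_eq_mul] at h1
      have hco : (orderOf s).Coprime p :=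
        hTco.coprime_dvd_left (Subgroup.orderOf_dvd_natCard T hsT)
      have hz1 : z = 1 := orderOf_eq_one_iff.1 (Nat.eq_one_of_dvd_coprimes hco
        (orderOf_dvd_of_pow_eq_one h1) (orderOf_dvd_of_pow_eq_one (hexp z hzV)))
      rw [hz1, one_mul, mul_inv_eq_iff_eq_mul] at hsw
      exact hsw.symm
    have hs1 : s = 1 := hint s ((hCV s).1 hscent) hsT
    rw [hs, inv_mul_eq_one] at hs1
    exact mul_inv_eq_iff_eq_mul.1 (ht'.symm.trans hs1.symm)
  obtain ⟨xb, hxb⟩ : ∃ xb, xb = QuotientGroup.mk' V x := ⟨_, rfl⟩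
  have hxc' : xb = QuotientGroup.mk' V c := by
    have hv1 : QuotientGroup.mk' V v = 1 := (QuotientGroup.eq_one_iff _).2 hv
    rw [hxb, hc, map_mul, map_inv, hv1, inv_one, one_mul]
  have hxE : xb ∈ E := by
    refine hcent (Subgroup.mem_centralizer_iff.2 fun e he => ?_)
    obtain ⟨m, rfl⟩ := QuotientGroup.mk'_surjective V e
    have hm : m ∈ V ⊔ T := hVT.symm ▸ (hM ▸ he : m ∈ M)
    obtain ⟨w, hw, t, ht, rfl⟩ := Subgroup.mem_sup_of_normal_left.1 hm
    rw [hxc', map_mul, (show QuotientGroup.mk' V w = 1 from (QuotientGroup.eq_one_iff _).2 hw),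
      one_mul, ← map_mul, ← map_mul, hct t ht]
  have hxord : orderOf xb ∣ p := orderOf_dvd_of_pow_eq_one (by
    rw [hxb, ← map_pow]; exact (QuotientGroup.eq_one_iff _).2 hxp)
  have hxb1 : xb = 1 := orderOf_eq_one_iff.1
    (Nat.eq_one_of_dvd_coprimes hEco (Subgroup.orderOf_dvd_natCard E hxE) hxord)
  exact hxV ((QuotientGroup.eq_one_iff x).1 (hxb.symm.trans hxb1))

/-- Let G be a finite p-soluble group, P a Sylow p-subgroup of G and A a cyclic normal subgroup of P. If p is odd, or if no section of G is isomorphic to the symmetric group of degree 4, then A ≤ O_{p',p}(G). -/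
theorem result {G : Type*} [Group G] [Finite G] {p : ℕ} [Fact p.Prime] (hG : Cfsg.IsPSolvable p G) (P : Sylow p G) (A : Subgroup G) (hAP : A ≤ (P : Subgroup G)) (hAn : (P : Subgroup G) ≤ Subgroup.normalizer (A : Set G)) (hA : IsCyclic A) (h : p ≠ 2 ∨ ¬ Cfsg.Involves (Equiv.Perm (Fin 4)) G) : A ≤ Cfsg.pPrimePCore p G := by
  classical
  haveI := Cfsg.pPrimeCore_normal p G
  obtain ⟨a, ha⟩ := hA.exists_generator
  intro b hb
  suffices h1 : QuotientGroup.mk' (Cfsg.pPrimeCore p G) (a : G) ∈ Cfsg.pCore p (G ⧸ Cfsg.pPrimeCore p G) by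
    obtain ⟨j, hj⟩ := ha ⟨b, hb⟩
    rw [← show (a : G) ^ j = b from congrArg Subtype.val hj]
    exact Subgroup.zpow_mem _ (show (a : G) ∈ Cfsg.pPrimePCore p G from h1) j
  refine aux (isPSolvable_map Fact.out hG _ (QuotientGroup.mk'_surjective _))
    Fusion.pPrimeCore_quotient_eq_bot (P.mapSurjective (QuotientGroup.mk'_surjective _)) _
    ⟨a, hAP a.2, rfl⟩ ?_ (h.imp_right fun h' hinv => h' ?_)
  · rintro _ ⟨o, ho, rfl⟩
    have h2 : o * (a : G) * o⁻¹ ∈ A :=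
      (Subgroup.mem_normalizer_iff.1 (hAn ho) _).1 a.2
    obtain ⟨j, hj⟩ := ha ⟨_, h2⟩
    refine ⟨j, ?_⟩
    have h3 : (a : G) ^ j = o * (a : G) * o⁻¹ := congrArg Subtype.val hj
    show _ ^ j = _
    rw [← map_zpow, h3, map_mul, map_mul, map_inv]
  · exact Fusion.involves_trans hinv (Fusion.involves_surjective Fusion.involves_refl _
      (QuotientGroup.mk'_surjective _))

end Cfsg.Agent.S3788
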