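import Cfsg.Statements.S3790
import Cfsg.Agent.Lib.Solv.PLength

set_option autoImplicit false
set_option linter.style.haveILetI false
open Cfsg

open scoped Pointwise commutatorElement

namespace Cfsg.Agent.S3790

open Cfsg.Agent.Solv Cfsg.Agent.Solv.PLen

universe u

theorem exists_pCore_ne_bot {G : Type u} [Group G] [Finite G] [Nontrivial G]
    (hs : Group.IsSolvable G) : ∃ p : ℕ, p.Prime ∧ Cfsg.pCore p G ≠ ⊥ := by
  by_contra hcon
  push Not at hcon
  refine fitting_ne_bot hs ?_
  rw [fitting_eq_iSup_pCore, iSup_eq_bot]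
  exact fun q => hcon q q.2

theorem card_quotient_lt {G : Type u} [Group G] [Finite G] (N : Subgroup G) (h : N ≠ ⊥) :
    Nat.card (G ⧸ N) < Nat.card G := by
  rw [← N.card_mul_index, Subgroup.index]
  exact lt_mul_of_one_lt_left Nat.card_pos ((Subgroup.one_lt_card_iff_ne_bot N).2 h)

theorem quotient_cover {G : Type u} [Group G] [Finite G] (N : Subgroup G) {s : ℕ}
    (h : s ∣ Nat.card (G ⧸ N)) : s ∣ Nat.card G :=
  h.trans (Subgroup.card_quotient_dvd_card N)

theorem aux (p : ℕ) [Fact p.Prime] : ∀ (n : ℕ) {G : Type u} [Group G] [Finite G],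
    Nat.card G = n → Group.IsSolvable G →
    ∀ (r : ℕ) (q : Fin r → ℕ), (∀ i, (q i).Prime) →
      (∀ s : ℕ, s.Prime → s ∣ Nat.card G → s ≠ p → ∃ i, q i = s) →
      ∀ (l : Fin r → ℕ), (∀ i, HasPSeries (q i) (l i) G) →
        HasPSeries p (Finset.univ.prod fun i => 1 + l i) G := by
  intro n
  induction n using Nat.strong_induction_on with
  | _ n ih =>
    intro G _ _ hn hs r q hq hcover l hl
    classical
    haveI := pCore_normal (G := G) p
    haveI := pPrimeCore_normal (G := G) p
    by_cases hbot : Cfsg.pPrimeCore p G = ⊥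
    swap
    · exact HasPSeries.lift_pPrime _ (pPrimeCore_coprime p)
        (ih _ (hn ▸ card_quotient_lt _ hbot) rfl inferInstance r q hq
          (fun s hs' hd hsp => hcover s hs' (quotient_cover _ hd) hsp) l
          fun i => by haveI := Fact.mk (hq i); exact (hl i).quotient _)
    obtain ⟨B, hB⟩ : ∃ B, (Finset.univ.prod fun i => 1 + l i) = B + 1 :=
      ⟨_, (Nat.succ_pred_eq_of_pos (Finset.prod_pos fun i _ => by omega)).symm⟩
    rw [hB]
    refine HasPSeries.lift_p _ (pCore_isPGroup p) ?_
    let K : Fin r → Subgroup (G ⧸ Cfsg.pCore p G) :=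
      fun i => Cfsg.pPrimeCore (q i) (G ⧸ Cfsg.pCore p G)
    have hKn : ∀ i, (K i).Normal := fun i =>
      Cfsg.pPrimeCore_normal (q i) (G ⧸ Cfsg.pCore p G)
    have hmeet : (⊥ : Subgroup (G ⧸ Cfsg.pCore p G)) = Finset.univ.inf K := by
      symm
      rw [← le_bot_iff, ← Fusion.pCore_quotient_eq_bot (p := p) (G := G)]
      haveI : (Finset.univ.inf K).Normal := by
        rw [Finset.inf_univ_eq_iInf]
        exact Subgroup.normal_iInf_normal hKn
      refine normal_le_pCore ?_
      refine IsPGroup.of_card (n := (Nat.card ↥(Finset.univ.inf K)).factorization p) ?_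
      rw [← Nat.prod_factorization_pow_eq_self (Nat.card_pos (α := ↥(Finset.univ.inf K))).ne']
      have hsupp : (Nat.card ↥(Finset.univ.inf K)).factorization.support ⊆ {p} := by
        intro s hsmem
        rw [Finset.mem_singleton]
        by_contra hsp
        rw [Nat.support_factorization, Nat.mem_primeFactors] at hsmem
        have hsd : s ∣ Nat.card (G ⧸ Cfsg.pCore p G) :=
          hsmem.2.1.trans (Subgroup.card_subgroup_dvd_card _)
        obtain ⟨i, rfl⟩ := hcover s hsmem.1 (quotient_cover _ hsd) hsp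
        have h1 : (Nat.card (K i)).Coprime (q i) := pPrimeCore_coprime (q i)
        exact hsmem.1.one_lt.ne' (Nat.eq_one_of_dvd_coprimes h1
          (hsmem.2.1.trans (Subgroup.card_dvd_of_le (Finset.inf_le (Finset.mem_univ i)))) dvd_rfl)
      rw [Finsupp.prod_of_support_subset _ hsupp _ (fun x _ => pow_zero x), Finset.prod_singleton,
        Nat.factorization_pow_self (Fact.out : p.Prime)]
    have hsolH : Group.IsSolvable (G ⧸ Cfsg.pCore p G) := inferInstance
    have hcoverH : ∀ s : ℕ, s.Prime → s ∣ Nat.card (G ⧸ Cfsg.pCore p G) → s ≠ p → ∃ i, q i = s :=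
      fun s hs' hd hsp => hcover s hs' (quotient_cover _ hd) hsp
    have hlH : ∀ i, HasPSeries (q i) (l i) (G ⧸ Cfsg.pCore p G) := fun i => by
      haveI := Fact.mk (hq i); exact (hl i).quotient _
    have hmain : HasPSeries p B ((G ⧸ Cfsg.pCore p G) ⧸ (⊥ : Subgroup (G ⧸ Cfsg.pCore p G))) := by
      refine HasPSeries.of_finset K hKn Finset.univ (fun i _ => ?_) ⊥ hmeet
      haveI := hKn i
      haveI := Fact.mk (hq i)
      haveI : Group.IsSolvable ((G ⧸ Cfsg.pCore p G) ⧸ K i) := inferInstance
      rcases subsingleton_or_nontrivial ((G ⧸ Cfsg.pCore p G) ⧸ K i) with hss | hnt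
      · exact hasPSeries_of_coprime _ (by rw [Nat.card_eq_one_iff_unique.2 ⟨hss, inferInstance⟩]; exact Nat.coprime_one_left p)
      have hpp : Cfsg.pPrimeCore (q i) ((G ⧸ Cfsg.pCore p G) ⧸ K i) = ⊥ := by
        exact Fusion.pPrimeCore_quotient_eq_bot (p := q i) (G := G ⧸ Cfsg.pCore p G)
      have hl0 : l i ≠ 0 := by
        intro h0
        have h1 : (Nat.card ((G ⧸ Cfsg.pCore p G) ⧸ K i)).Coprime (q i) := by
          have h2 := (hlH i).quotient (K i)
          rw [h0] at h2
          exact h2.zero
        haveI : (⊤ : Subgroup ((G ⧸ Cfsg.pCore p G) ⧸ K i)).Normal := inferInstance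
        have h3 := normal_le_pPrimeCore (N := (⊤ : Subgroup ((G ⧸ Cfsg.pCore p G) ⧸ K i)))
          (by rw [Subgroup.card_top]; exact h1)
        rw [hpp, top_le_iff] at h3
        exact bot_ne_top h3
      obtain ⟨k, hk⟩ := Nat.exists_eq_succ_of_ne_zero hl0
      haveI := pCore_normal (G := (G ⧸ Cfsg.pCore p G) ⧸ K i) (q i)
      have hqi : Cfsg.pCore (q i) ((G ⧸ Cfsg.pCore p G) ⧸ K i) ≠ ⊥ := by
        obtain ⟨s, hsp, hsne⟩ := exists_pCore_ne_bot (G := (G ⧸ Cfsg.pCore p G) ⧸ K i) inferInstance
        haveI := Fact.mk hsp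
        by_cases hsq : s = q i
        · exact hsq ▸ hsne
        · exfalso
          refine hsne (le_bot_iff.1 (hpp ▸ ?_))
          haveI := pCore_normal (G := (G ⧸ Cfsg.pCore p G) ⧸ K i) s
          refine normal_le_pPrimeCore ?_
          obtain ⟨m, hm⟩ := (pCore_isPGroup (G := (G ⧸ Cfsg.pCore p G) ⧸ K i) s).exists_card_eq
          rw [hm]
          exact ((Nat.coprime_primes hsp (hq i)).2 hsq).pow_left m
      by_cases hqp : q i = p
      · have hle : ∏ j ∈ Finset.univ.erase i, (1 + l j) ≤ B + 1 := by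
          rw [← hB]
          exact Finset.prod_le_prod_of_subset_of_one_le' (Finset.erase_subset _ _) fun j _ _ => by omega
        have h2 : Cfsg.pPrimeCore p G = ⊥ := hbot
        have h3 : 1 ≤ ∏ j ∈ Finset.univ.erase i, (1 + l j) := Finset.one_le_prod' fun j _ => Nat.le_add_right 1 _
        have hlB : l i ≤ B := by
          have h4 := Finset.mul_prod_erase Finset.univ (fun j => 1 + l j) (Finset.mem_univ i)
          rw [hB] at h4
          nlinarith
        exact (hqp ▸ (hlH i).quotient (K i)).mono hlB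
      obtain ⟨B', hB'⟩ : ∃ B', B' = Finset.univ.prod fun j => 1 + Function.update l i k j := ⟨_, rfl⟩
      have hrec : HasPSeries p B'
          (((G ⧸ Cfsg.pCore p G) ⧸ K i) ⧸ Cfsg.pCore (q i) ((G ⧸ Cfsg.pCore p G) ⧸ K i)) := by
        rw [hB']
        refine ih _ ?_ rfl inferInstance r q hq
          (fun s hs' hd hsp => hcoverH s hs' (quotient_cover _ (quotient_cover _ hd)) hsp)
          (Function.update l i k) (fun j => ?_)
        · rw [← hn]
          calc Nat.card (((G ⧸ Cfsg.pCore p G) ⧸ K i) ⧸ Cfsg.pCore (q i) ((G ⧸ Cfsg.pCore p G) ⧸ K i))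
              < Nat.card ((G ⧸ Cfsg.pCore p G) ⧸ K i) := card_quotient_lt _ hqi
            _ ≤ Nat.card G := Nat.le_of_dvd Nat.card_pos
                (quotient_cover _ (Subgroup.card_quotient_dvd_card _))
        · haveI := Fact.mk (hq j)
          by_cases hj : j = i
          · subst hj
            rw [Function.update_self]
            exact HasPSeries.quotient_pCore hpp (by have h9 := (hlH j).quotient (K j); rw [hk] at h9; exact h9)
          · rw [Function.update_of_ne hj]
            exact ((hlH j).quotient (K i)).quotient _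
      refine (HasPSeries.lift_pPrime (p := p) _ ?_ hrec).mono ?_
      · obtain ⟨m, hm⟩ := (pCore_isPGroup (G := (G ⧸ Cfsg.pCore p G) ⧸ K i) (q i)).exists_card_eq
        rw [hm]
        exact ((Nat.coprime_primes (hq i) Fact.out).2 hqp).pow_left m
      · have h4 := Finset.mul_prod_erase Finset.univ (fun j => 1 + l j) (Finset.mem_univ i)
        have h5 := Finset.mul_prod_erase Finset.univ (fun j => 1 + Function.update l i k j) (Finset.mem_univ i)
        have h3 : 1 ≤ ∏ j ∈ Finset.univ.erase i, (1 + l j) := Finset.one_le_prod' fun j _ => Nat.le_add_right 1 _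
        rw [Finset.prod_congr rfl (fun j hj => by rw [Function.update_of_ne (Finset.mem_erase.1 hj).1]),
          Function.update_self, ← hB'] at h5
        rw [hB, hk] at h4
        nlinarith
    obtain ⟨f, h0, htop, hnf, hle, hok⟩ := hmain
    refine HasPSeries.lift_pPrime (p := p) (⊥ : Subgroup (G ⧸ Cfsg.pCore p G)) ?_
      ⟨f, h0, htop, hnf, hle, hok⟩
    rw [Subgroup.card_bot]; exact Nat.coprime_one_left p

/-- Let G be a finite solvable group and p a prime. Suppose p₁, …, p_r are distinct primes, all different from p, that include every prime dividing the order of G other than p, and that G has p_i-length at most l_i for each i. Then G has p-length at most the product of the numbers 1 + l_i. -/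
theorem result {G : Type*} [Group G] [Finite G] (hG : Group.IsSolvable G) (p : ℕ) [Fact p.Prime] (r : ℕ) (q : Fin r → ℕ) (hq : ∀ i, (q i).Prime ∧ q i ≠ p) (hinj : Function.Injective q) (hcover : ∀ s : ℕ, s.Prime → s ∣ Nat.card G → s ≠ p → ∃ i, q i = s) (l : Fin r → ℕ) (hl : ∀ i, Cfsg.PLengthLE (q i) (l i) G) : Cfsg.PLengthLE p (Finset.univ.prod fun i => 1 + l i) G := by
  rw [pLengthLE_iff]
  refine aux p _ rfl hG r q (fun i => (hq i).1) hcover l fun i => ?_
  haveI := Fact.mk (hq i).1
  exact (pLengthLE_iff _).1 (hl i)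

end Cfsg.Agent.S3790
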