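import Cfsg.Statements.S3791
import Cfsg.Agent.Lib.Solv.PLength

set_option autoImplicit false
set_option linter.style.haveILetI false
open Cfsg

open scoped Pointwise commutatorElement

namespace Cfsg.Agent.S3791

open Cfsg.Agent.Solv Cfsg.Agent.Solv.PLen

universe u

theorem exists_pCore_ne_bot {G : Type u} [Group G] [Finite G] [Nontrivial G]
    (hs : Group.IsSolvable G) : ∃ p : ℕ, p.Prime ∧ Cfsg.pCore p G ≠ ⊥ := by
  by_contra hcon
  push Not at hcon
  refine fitting_ne_bot hs ?_
  rw [fitting_eq_iSup_pCore, iSup_eq_bot]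
  exact fun q => hcon q q.2

theorem card_quotient_lt {G : Type u} [Group G] [Finite G] (N : Subgroup G) (h : N ≠ ⊥) :
    Nat.card (G ⧸ N) < Nat.card G := by
  rw [← N.card_mul_index, Subgroup.index]
  exact lt_mul_of_one_lt_left Nat.card_pos ((Subgroup.one_lt_card_iff_ne_bot N).2 h)

theorem quotient_cover {G : Type u} [Group G] [Finite G] (N : Subgroup G) {s : ℕ}
    (h : s ∣ Nat.card (G ⧸ N)) : s ∣ Nat.card G :=
  h.trans (Subgroup.card_quotient_dvd_card N)

theorem derived_le_of_quotient {G : Type u} [Group G] (N : Subgroup G) [N.Normal] {n : ℕ}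
    (h : derivedSeries (G ⧸ N) n = ⊥) : derivedSeries G n ≤ N := by
  have h1 := map_derivedSeries_eq (f := QuotientGroup.mk' N) (QuotientGroup.mk'_surjective N) n
  rw [h, Subgroup.map_eq_bot_iff, QuotientGroup.ker_mk'] at h1
  exact h1

theorem derived_add_le {G : Type u} [Group G] (N : Subgroup G) {a : ℕ}
    (h : derivedSeries G a ≤ N) : ∀ b : ℕ, derivedSeries G (a + b) ≤ (derivedSeries N b).map N.subtype := by
  intro b
  induction b with
  | zero =>
    rw [derivedSeries_zero, ← MonoidHom.range_eq_map, Subgroup.range_subtype]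
    exact h
  | succ b ih =>
    rw [← Nat.add_assoc, derivedSeries_succ, derivedSeries_succ, Subgroup.map_commutator]
    exact Subgroup.commutator_mono ih ih

theorem derived_of_surjective {A : Type u} {B : Type u} [Group A] [Group B] (f : A →* B)
    (hf : Function.Surjective f) {n : ℕ} (h : derivedSeries A n = ⊥) : derivedSeries B n = ⊥ := by
  rw [← map_derivedSeries_eq hf n, h, Subgroup.map_bot]

theorem derived_of_injective {A : Type u} {B : Type u} [Group A] [Group B] (f : A →* B)
    (hf : Function.Injective f) {n : ℕ} (h : derivedSeries B n = ⊥) : derivedSeries A n = ⊥ := by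
  rw [← Subgroup.map_eq_bot_iff_of_injective _ hf, ← le_bot_iff, ← h]
  exact map_derivedSeries_le_derivedSeries f n

theorem aux : ∀ (n : ℕ) {G : Type u} [Group G] [Finite G], Nat.card G = n → Group.IsSolvable G →
    ∀ (r : ℕ) (q : Fin r → ℕ), (∀ i, (q i).Prime) →
      (∀ s : ℕ, s.Prime → s ∣ Nat.card G → ∃ i, q i = s) →
      ∀ (d l : Fin r → ℕ),
        (∀ i, ∀ (_ : Fact (q i).Prime) (S : Sylow (q i) G), derivedSeries (S : Subgroup G) (d i) = ⊥) →
        (∀ i, HasPSeries (q i) (l i) G) →
        derivedSeries G (Finset.univ.sum fun i => d i * l i) = ⊥ := by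
  intro n
  induction n using Nat.strong_induction_on with
  | _ n ih =>
    intro G _ _ hn hs r q hq hcover d l hd hl
    classical
    rcases subsingleton_or_nontrivial G with hG | hG
    · exact (Subgroup.eq_bot_iff_forall _).2 fun x _ => Subsingleton.elim _ _
    have hquot : ∀ (N : Subgroup G) [N.Normal], N ≠ ⊥ → ∀ l' : Fin r → ℕ,
        (∀ i, HasPSeries (q i) (l' i) (G ⧸ N)) →
        derivedSeries G (Finset.univ.sum fun i => d i * l' i) ≤ N := by
      intro N _ hN l' hl'
      refine derived_le_of_quotient N (ih _ (hn ▸ card_quotient_lt N hN) rfl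
        inferInstance r q hq
        (fun s hs' hd' => hcover s hs' (quotient_cover N hd')) d l' (fun i hi S => ?_) hl')
      obtain ⟨P⟩ : Nonempty (Sylow (q i) G) := inferInstance
      let P' : Sylow (q i) (G ⧸ N) := P.mapSurjective (QuotientGroup.mk'_surjective N)
      have h1 : derivedSeries (P' : Subgroup (G ⧸ N)) (d i) = ⊥ := by
        rw [Sylow.coe_mapSurjective]
        exact derived_of_surjective ((QuotientGroup.mk' N).subgroupMap (P : Subgroup G))
          (MonoidHom.subgroupMap_surjective _ _) (hd i hi P)
      exact derived_of_surjective (Sylow.equiv P' S).toMonoidHom (Sylow.equiv P' S).surjective h1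
    have hquot' : ∀ (N : Subgroup G) [N.Normal], N ≠ ⊥ →
        derivedSeries G (Finset.univ.sum fun i => d i * l i) ≤ N := fun N _ hN =>
      hquot N hN l fun i => by haveI := Fact.mk (hq i); exact (hl i).quotient N
    obtain ⟨p, hp, hpne⟩ := exists_pCore_ne_bot hs
    haveI := Fact.mk hp
    haveI := pCore_normal (G := G) p
    haveI := pPrimeCore_normal (G := G) p
    by_cases hbot : Cfsg.pPrimeCore p G = ⊥
    swap
    · refine le_bot_iff.1 (le_trans (le_inf (hquot' _ hbot) (hquot' _ hpne)) (le_of_eq ?_))
      exact Fusion.pPrimeCore_inf_pCore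
    have hpd : p ∣ Nat.card G := by
      obtain ⟨m, hm⟩ := (pCore_isPGroup (G := G) p).exists_card_eq
      have hm0 : m ≠ 0 := by
        rintro rfl
        rw [pow_zero] at hm
        exact hpne (Subgroup.card_eq_one.1 hm)
      exact (dvd_pow_self p hm0).trans (hm ▸ Subgroup.card_subgroup_dvd_card _)
    obtain ⟨i0, rfl⟩ := hcover p hp hpd
    have hl0 : l i0 ≠ 0 := by
      intro h0
      have h1 := hl i0
      rw [h0] at h1
      exact hp.one_lt.ne' (Nat.eq_one_of_dvd_coprimes h1.zero hpd dvd_rfl)
    obtain ⟨k, hk⟩ := Nat.exists_eq_succ_of_ne_zero hl0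
    have hq' : ∀ i, HasPSeries (q i) (Function.update l i0 k i) (G ⧸ Cfsg.pCore (q i0) G) := by
      intro i
      haveI := Fact.mk (hq i)
      by_cases hi : i = i0
      · subst hi
        rw [Function.update_self]
        exact HasPSeries.quotient_pCore hbot (by have h9 := hl i; rw [hk] at h9; exact h9)
      · rw [Function.update_of_ne hi]
        exact (hl i).quotient _
    have hsum : (Finset.univ.sum fun i => d i * l i) =
        (Finset.univ.sum fun i => d i * Function.update l i0 k i) + d i0 := by
      rw [← Finset.add_sum_erase _ (fun i => d i * l i) (Finset.mem_univ i0),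
        ← Finset.add_sum_erase _ (fun i => d i * Function.update l i0 k i) (Finset.mem_univ i0),
        Function.update_self,
        Finset.sum_congr rfl (fun i hi =>
          show d i * Function.update l i0 k i = d i * l i by
            rw [Function.update_of_ne (Finset.mem_erase.1 hi).1]),
        hk, Nat.mul_succ]
      omega
    rw [hsum, ← le_bot_iff]
    refine le_trans (derived_add_le _ (hquot _ hpne _ hq') (d i0)) (le_of_eq ?_)
    obtain ⟨S⟩ : Nonempty (Sylow (q i0) G) := inferInstance
    have h1 : derivedSeries (Cfsg.pCore (q i0) G) (d i0) = ⊥ :=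
      derived_of_injective (Subgroup.inclusion (Fusion.pCore_le_sylow S))
        (Subgroup.inclusion_injective _) (hd i0 inferInstance S)
    rw [h1, Subgroup.map_bot]

/-- The Hall–Higman bound on derived length: let G be a finite solvable group, let p₁, …, p_r be distinct primes that include every prime dividing the order of G, and suppose that for each i the Sylow p_i-subgroups of G have derived length at most d_i and G has p_i-length at most l_i. Then G has derived length at most Σ d_i l_i. -/
theorem result {G : Type*} [Group G] [Finite G] (hG : Group.IsSolvable G) (r : ℕ) (q : Fin r → ℕ) (hq : ∀ i, (q i).Prime) (hinj : Function.Injective q) (hcover : ∀ s : ℕ, s.Prime → s ∣ Nat.card G → ∃ i, q i = s) (d l : Fin r → ℕ) (hd : ∀ i, ∀ P : Subgroup G, (haveI := Fact.mk (hq i); ∃ S : Sylow (q i) G, (S : Subgroup G) = P) → derivedSeries ↥P (d i) = ⊥) (hl : ∀ i, Cfsg.PLengthLE (q i) (l i) G) : derivedSeries G (Finset.univ.sum fun i => d i * l i) = ⊥ := by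
  classical
  refine aux _ rfl hG r q hq hcover d l ?_ fun i => ?_
  · intro i hi S
    exact hd i (S : Subgroup G) ⟨S, rfl⟩
  · haveI := Fact.mk (hq i)
    exact (pLengthLE_iff _).1 (hl i)

end Cfsg.Agent.S3791
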