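import Cfsg.Statements.S3797
import Cfsg.Agent.Lib.Solv.InvolutionClass

set_option autoImplicit false
set_option linter.style.haveILetI false
open Cfsg

open scoped Pointwise commutatorElement

namespace Cfsg.Agent.S3797

open Solv

universe u

/-- An abelian 2-group whose automorphisms are transitive on the involutions is homocyclic. -/
theorem homocyclic {A : Type u} [CommGroup A] [Finite A] (hA : IsPGroup 2 A)
    (htr : ∀ x y : A, x ≠ 1 → x ^ 2 = 1 → y ≠ 1 → y ^ 2 = 1 → ∃ a : MulAut A, a x = y) :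
    ∃ m r : ℕ, Nonempty (A ≃* (Fin r → Multiplicative (ZMod (2 ^ m)))) := by
  classical
  obtain ⟨ι, hι, n, hn, ⟨e⟩⟩ := CommGroup.equiv_prod_multiplicative_zmod_of_finite A
  haveI := hι
  have hB : IsPGroup 2 ((i : ι) → Multiplicative (ZMod (n i))) := hA.of_equiv e
  have hexp : ∀ i, ∃ a, n i = 2 ^ (a + 1) := by
    intro i
    obtain ⟨k, hk⟩ := hB (Pi.mulSingle i (Multiplicative.ofAdd (1 : ZMod (n i))))
    have h1 := congrFun hk i
    rw [Pi.pow_apply, Pi.mulSingle_eq_same, Pi.one_apply, ← ofAdd_nsmul, ofAdd_eq_one, nsmul_one,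
      ZMod.natCast_eq_zero_iff] at h1
    obtain ⟨a, -, ha⟩ := (Nat.dvd_prime_pow Nat.prime_two).1 h1
    rcases a with - | a
    · exact absurd ha (by rw [pow_zero]; exact (hn i).ne')
    · exact ⟨a, ha⟩
  choose a ha using hexp
  have hinv : ∀ i, (((2 ^ a i : ℕ) : ZMod (n i))) ≠ 0 := by
    intro i h
    rw [ZMod.natCast_eq_zero_iff, ha i] at h
    exact absurd (Nat.le_of_dvd (pow_pos two_pos _) h) (by rw [pow_succ]; have := pow_pos (two_pos (α := ℕ)) (a i); omega)
  let z : (i : ι) → ((i : ι) → Multiplicative (ZMod (n i))) := fun i =>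
    Pi.mulSingle i (Multiplicative.ofAdd ((2 ^ a i : ℕ) : ZMod (n i)))
  have hz1 : ∀ i, z i ≠ 1 := fun i h => by
    have h1 := congrFun h i
    simp only [z, Pi.mulSingle_eq_same, Pi.one_apply, ofAdd_eq_one] at h1
    exact hinv i h1
  have hz2 : ∀ i, z i ^ 2 = 1 := fun i => by
    simp only [z]
    rw [← Pi.mulSingle_pow, Pi.mulSingle_eq_one_iff, ← ofAdd_nsmul, ofAdd_eq_one, nsmul_eq_mul, ← Nat.cast_mul,
      ← pow_succ', ← ha i, ZMod.natCast_self]
  have hle : ∀ i j, a j ≤ a i := by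
    intro i j
    by_contra hlt
    push Not at hlt
    obtain ⟨α, hα⟩ := htr (e.symm (z i)) (e.symm (z j))
      (fun h => hz1 i (e.symm.injective (by rw [h, map_one])))
      (by rw [← map_pow, hz2, map_one])
      (fun h => hz1 j (e.symm.injective (by rw [h, map_one])))
      (by rw [← map_pow, hz2, map_one])
    set w := e (α.symm (e.symm (Pi.mulSingle j (Multiplicative.ofAdd (1 : ZMod (n j)))))) with hw
    have hzj : Pi.mulSingle j (Multiplicative.ofAdd (1 : ZMod (n j))) ^ 2 ^ a j = z j := by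
      simp only [z]
      rw [← Pi.mulSingle_pow, ← ofAdd_nsmul, nsmul_one]
    have hwz : w ^ 2 ^ a j = z i := by
      rw [hw, ← map_pow, ← map_pow, ← map_pow, hzj, ← hα, MulEquiv.symm_apply_apply, MulEquiv.apply_symm_apply]
    have h1 := congrFun hwz i
    rw [Pi.pow_apply, show a j = (a i + 1) + (a j - (a i + 1)) by omega, pow_add, pow_mul, ← ha i] at h1
    simp only [z, Pi.mulSingle_eq_same] at h1
    have h2 : w i ^ n i = 1 := by
      apply Multiplicative.toAdd.injective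
      rw [toAdd_pow, toAdd_one, nsmul_eq_mul, ZMod.natCast_self, zero_mul]
    rw [h2, one_pow] at h1
    exact hinv i (ofAdd_eq_one.1 h1.symm)
  rcases isEmpty_or_nonempty ι with hem | ⟨⟨i₀⟩⟩
  · refine ⟨0, 0, ⟨e.trans ?_⟩⟩
    exact
      { toFun := fun _ => Fin.elim0
        invFun := fun _ => fun i => (hem.false i).elim
        left_inv := fun f => funext fun i => (hem.false i).elim
        right_inv := fun f => funext fun i => i.elim0
        map_mul' := fun f g => funext fun i => i.elim0 }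
  · refine ⟨a i₀ + 1, Fintype.card ι, ⟨e.trans ?_⟩⟩
    have heq : ∀ i, n i = 2 ^ (a i₀ + 1) := fun i => by rw [ha i, le_antisymm (hle i₀ i) (hle i i₀)]
    exact (MulEquiv.piCongrRight fun i => AddEquiv.toMultiplicative (ZMod.ringEquivCongr (heq i)).toAddEquiv).trans
      { Equiv.arrowCongr (Fintype.equivFin ι) (Equiv.refl _) with map_mul' := fun f g => rfl }

/-- Let G be a finite solvable group of even order whose Sylow 2-subgroups contain more than one involution, and suppose all involutions of G are conjugate. Then G has 2-length at most 1, and a Sylow 2-subgroup S of G is either homocyclic (a direct product of cyclic groups of one common order) or a non-abelian 2-group with more than one involution admitting a solvable group of automorphisms transitive on its involutions. -/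
theorem result {G : Type*} [Group G] [Finite G] (hG : Group.IsSolvable G) (heven : Even (Nat.card G)) (S : Sylow 2 G) (htwo : ∃ x y : G, x ∈ (S : Subgroup G) ∧ y ∈ (S : Subgroup G) ∧ x ≠ y ∧ x ≠ 1 ∧ x ^ 2 = 1 ∧ y ≠ 1 ∧ y ^ 2 = 1) (hconj : ∀ x y : G, x ≠ 1 → x ^ 2 = 1 → y ≠ 1 → y ^ 2 = 1 → IsConj x y) : Cfsg.PLengthLE 2 1 G ∧ ((∃ m r : ℕ, Nonempty (↥(S : Subgroup G) ≃* (Fin r → Multiplicative (ZMod (2 ^ m))))) ∨ (¬ IsMulCommutative (S : Subgroup G) ∧ ∃ Y : Subgroup (MulAut ↥(S : Subgroup G)), Group.IsSolvable Y ∧ ∀ x y : ↥(S : Subgroup G), x ≠ 1 → x ^ 2 = 1 → y ≠ 1 → y ^ 2 = 1 → ∃ a ∈ Y, a x = y)) := by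
  classical
  haveI : Fact (Nat.Prime 2) := ⟨Nat.prime_two⟩
  haveI := hG
  haveI := pPrimeCore_normal (G := G) 2
  set O := pPrimeCore 2 G with hO
  have hbot : pPrimeCore 2 (G ⧸ O) = ⊥ := Fusion.pPrimeCore_quotient_eq_bot
  have hSO : ∀ x ∈ (S : Subgroup G), x ∈ O → x = 1 := by
    intro x hxS hxO
    have h1 := Fusion.mem_pPrimeCore_orderOf (p := 2) hxO
    obtain ⟨k, hk⟩ := S.isPGroup' ⟨x, hxS⟩
    obtain ⟨i, -, hi⟩ := (Nat.dvd_prime_pow Nat.prime_two).1
      (orderOf_dvd_of_pow_eq_one (show x ^ 2 ^ k = 1 from congrArg Subtype.val hk))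
    rw [hi] at h1
    rcases i with - | i
    · exact orderOf_eq_one_iff.1 (by rw [hi, pow_zero])
    · exact absurd h1 fun h => by
        have := Nat.Coprime.coprime_dvd_left (dvd_pow_self 2 (Nat.succ_ne_zero i)) h
        norm_num at this
  have hlift : ∀ y : G ⧸ O, y ≠ 1 → y ^ 2 = 1 → ∃ x : G, x ≠ 1 ∧ x ^ 2 = 1 ∧ QuotientGroup.mk' O x = y := by
    intro y hy1 hy2
    have hyo : orderOf y = 2 := orderOf_eq_prime hy2 hy1
    have hdv : 2 ∣ Nat.card ↥((Subgroup.zpowers y).comap (QuotientGroup.mk' O)) := by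
      rw [card_comap_mk', Nat.card_zpowers, hyo]
      exact dvd_mul_right 2 _
    obtain ⟨⟨x, hxm⟩, hx⟩ := exists_prime_orderOf_dvd_card'
      (G := ↥((Subgroup.zpowers y).comap (QuotientGroup.mk' O))) 2 hdv
    rw [← Subgroup.orderOf_coe] at hx
    change orderOf x = 2 at hx
    refine ⟨x, fun h => by rw [h, orderOf_one] at hx; omega, hx ▸ pow_orderOf_eq_one x, ?_⟩
    obtain ⟨i, hi⟩ := Subgroup.mem_zpowers_iff.1 (Subgroup.mem_comap.1 hxm)
    rw [← hi]
    rcases Int.even_or_odd i with ⟨j, hj⟩ | ⟨j, hj⟩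
    · exfalso
      rw [hj, ← two_mul, zpow_mul, zpow_ofNat, hy2, one_zpow] at hi
      have h3 := Fusion.mem_pPrimeCore_orderOf (p := 2) ((QuotientGroup.eq_one_iff x).1 hi.symm)
      rw [hx] at h3
      norm_num at h3
    · rw [hj, zpow_add, zpow_mul, zpow_ofNat, hy2, one_zpow, one_mul, zpow_one]
  obtain ⟨x₁, x₂, hx₁S, hx₂S, h12, hx₁1, hx₁, hx₂1, hx₂⟩ := htwo
  have hmk1 : ∀ x ∈ (S : Subgroup G), x ≠ 1 → QuotientGroup.mk' O x ≠ 1 := fun x hx h1 h =>
    h1 (hSO x hx ((QuotientGroup.eq_one_iff x).1 h))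
  haveI : Group.IsSolvable (G ⧸ O) := inferInstance
  have hidx : (pCore 2 (G ⧸ O)).index.Coprime 2 := by
    refine InvClass.core inferInstance hbot (fun x y hx hx2 hy hy2 => ?_)
      ⟨QuotientGroup.mk' O x₁, QuotientGroup.mk' O x₂, fun h => h12 ?_, hmk1 x₁ hx₁S hx₁1,
        by rw [← map_pow, hx₁, map_one], hmk1 x₂ hx₂S hx₂1, by rw [← map_pow, hx₂, map_one]⟩
    · obtain ⟨x', hx'1, hx'2, rfl⟩ := hlift x hx hx2
      obtain ⟨y', hy'1, hy'2, rfl⟩ := hlift y hy hy2
      exact MonoidHom.map_isConj _ (hconj x' y' hx'1 hx'2 hy'1 hy'2)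
    · exact inv_mul_eq_one.1 (hSO _ (Subgroup.mul_mem _ (Subgroup.inv_mem _ hx₁S) hx₂S) (QuotientGroup.eq.1 h))
  refine ⟨?_, ?_⟩
  · rw [PLen.pLengthLE_iff]
    refine PLen.HasPSeries.lift_pPrime O (Fusion.card_pPrimeCore_coprime 2 G) ?_
    haveI := pCore_normal (G := G ⧸ O) 2
    refine PLen.HasPSeries.lift_p _ (pCore_isPGroup 2) (PLen.hasPSeries_of_coprime 0 ?_)
    rw [← Subgroup.index_eq_card]
    exact hidx
  -- the normaliser of `S` is transitive on the involutions of `S`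
  haveI := pCore_normal (G := G ⧸ O) 2
  set S' := S.mapSurjective (f := QuotientGroup.mk' O) (QuotientGroup.mk'_surjective O) with hS'
  have hS'P : (S' : Subgroup (G ⧸ O)) = pCore 2 (G ⧸ O) := by
    refine le_antisymm ?_ (Fusion.pCore_le_sylow S')
    rw [← Subgroup.relIndex_eq_one]
    obtain ⟨k, hk⟩ := IsPGroup.iff_card.1 S'.isPGroup'
    exact Nat.eq_one_of_dvd_coprimes (hidx.pow_right k) (Subgroup.relIndex_dvd_index_of_normal _ _)
      (hk ▸ Subgroup.relIndex_dvd_card _ _)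
  set J := (pCore 2 (G ⧸ O)).comap (QuotientGroup.mk' O) with hJ
  haveI : J.Normal := Subgroup.Normal.comap inferInstance _
  have hSJ : (S : Subgroup G) ≤ J := fun x hx => hS'P.le ⟨x, hx, rfl⟩
  have hJle : J ≤ O ⊔ (S : Subgroup G) := by
    intro x hx
    obtain ⟨s, hs, hsx⟩ := hS'P.ge (Subgroup.mem_comap.1 hx)
    have h1 : s⁻¹ * x ∈ O := QuotientGroup.eq.1 hsx
    have h2 := Subgroup.mul_mem (O ⊔ (S : Subgroup G)) (Subgroup.mem_sup_right hs) (Subgroup.mem_sup_left h1)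
    rwa [mul_inv_cancel_left] at h2
  have hfr : O ⊔ Subgroup.normalizer ((S : Subgroup G) : Set G) = ⊤ := by
    have h1 := Sylow.normalizer_sup_eq_top (S.subtype hSJ)
    rw [Sylow.coe_subtype, Subgroup.map_subgroupOf_eq_of_le hSJ] at h1
    refine top_le_iff.1 (h1.ge.trans (sup_le le_sup_right ?_))
    exact hJle.trans (sup_le_sup_left Subgroup.le_normalizer _)
  set φ := Subgroup.normalizerMonoidHom (S : Subgroup G) with hφ
  have htrans : ∀ x y : ↥(S : Subgroup G), x ≠ 1 → x ^ 2 = 1 → y ≠ 1 → y ^ 2 = 1 → ∃ a ∈ φ.range, a x = y := by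
    intro x y hx hx2 hy hy2
    obtain ⟨g, hg⟩ := isConj_iff.1 (hconj (x : G) y (fun h => hx (Subtype.ext h))
      (by rw [← Subgroup.coe_pow, hx2]; rfl) (fun h => hy (Subtype.ext h)) (by rw [← Subgroup.coe_pow, hy2]; rfl))
    obtain ⟨o, ho, n, hn, rfl⟩ := Subgroup.mem_sup_of_normal_left.1 (hfr.ge (Subgroup.mem_top g))
    refine ⟨φ ⟨n, hn⟩, ⟨⟨n, hn⟩, rfl⟩, Subtype.ext ?_⟩
    show n * (x : G) * n⁻¹ = y
    set v := n * (x : G) * n⁻¹ with hv
    have hvS : v ∈ (S : Subgroup G) := (Subgroup.mem_normalizer_iff.1 hn _).1 x.2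
    have hoy : o * v * o⁻¹ = y := by rw [← hg, hv]; group
    have h3 : v⁻¹ * (y : G) ∈ O := by
      rw [← hoy, show v⁻¹ * (o * v * o⁻¹) = (v⁻¹ * o * (v⁻¹)⁻¹) * o⁻¹ by group]
      exact O.mul_mem ((inferInstance : O.Normal).conj_mem o ho v⁻¹) (O.inv_mem ho)
    exact inv_mul_eq_one.1 (hSO _ (Subgroup.mul_mem _ (Subgroup.inv_mem _ hvS) y.2) h3)
  by_cases hab : IsMulCommutative (S : Subgroup G)
  · haveI := hab
    letI : CommGroup ↥(S : Subgroup G) :=
      { (inferInstance : Group ↥(S : Subgroup G)) with mul_comm := fun a b => hab.is_comm.comm a b }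
    exact Or.inl (homocyclic S.isPGroup' fun x y hx hx2 hy hy2 => by
      obtain ⟨a, -, ha⟩ := htrans x y hx hx2 hy hy2
      exact ⟨a, ha⟩)
  · refine Or.inr ⟨hab, φ.range, ?_, htrans⟩
    exact Group.isSolvable_of_surjective φ.rangeRestrict_surjective

end Cfsg.Agent.S3797
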