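import Cfsg.Statements.S3798
import Cfsg.Agent.Lib.Solv.OmegaSplit

set_option autoImplicit false
set_option linter.style.haveILetI false
open Cfsg

namespace Cfsg.Agent.S3798

open Solv Solv.OmegaSplit

universe u

theorem core {G : Type u} [Group G] [Finite G] {p : ℕ} [Fact p.Prime] (hp : p ≠ 2)
    (hG : Cfsg.IsPSolvable p G) (hbot : pPrimeCore p G = ⊥) (htr : Trans p G) :
    (pCore p G).index.Coprime p := by
  by_contra hidx
  have hpp : p.Prime := Fact.out
  haveI := pCore_normal (G := G) p
  obtain ⟨H, hHc, hH1, hHM, hdec, hnorm, hcent, -⟩ := exists_complement hG hbot hidx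
  have hfix : ∀ x ∈ pCore p G, x ^ p = 1 → x ∈ Subgroup.centralizer (H : Set G) := by
    intro x _ hx
    rcases eq_or_ne x 1 with rfl | hx1
    · exact one_mem _
    · exact exists_centralizing hG hbot htr hidx hHM hdec hnorm hcent (orderOf_eq_of_pow hx hx1)
  have hHP : H ≤ Subgroup.normalizer (pCore p G : Set G) := by
    rw [Subgroup.normalizer_eq_top_iff.2 inferInstance]
    exact le_top
  have hc := Subgroup.commutator_eq_bot_iff_le_centralizer.1
    (centralizes_of_omega hp H hHc _ _ rfl (pCore_isPGroup p) hHP hfix)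
  haveI : H.Normal := by
    rw [← Subgroup.normalizer_eq_top_iff, eq_top_iff]
    intro g _
    obtain ⟨u, hu, n, hn, rfl⟩ := hnorm g
    refine Subgroup.mul_mem _ (Subgroup.mem_normalizer_iff.2 fun h => ?_) hn
    constructor
    · intro hh
      rwa [← Subgroup.mem_centralizer_iff.1 (hc hu) h hh, mul_inv_cancel_right]
    · intro hh
      have h1 := Subgroup.mem_centralizer_iff.1 (hc hu) _ hh
      have h2 : u * h * u⁻¹ = h := by
        have h3 := congrArg (fun t => u⁻¹ * t) h1
        simpa [mul_assoc] using h3.symm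
      rwa [h2] at hh
  exact hH1 (eq_bot_iff.2 (hbot ▸ normal_le_pPrimeCore hHc))

/-- The Gaschütz–Yen Theorem: let G be a finite p-soluble group, p an odd prime dividing its order, such that the automorphism group of G permutes the subgroups of G of order p transitively. Then G has p-length at most 1. -/
theorem result {G : Type*} [Group G] [Finite G] {p : ℕ} [Fact p.Prime] (hp : p ≠ 2) (hdvd : p ∣ Nat.card G) (hG : Cfsg.IsPSolvable p G) (htrans : ∀ U V : Subgroup G, Nat.card U = p → Nat.card V = p → ∃ a : MulAut G, U.map a.toMonoidHom = V) : Cfsg.PLengthLE p 1 G := by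
  have hpp : p.Prime := Fact.out
  haveI := pPrimeCore_normal (G := G) p
  set O := pPrimeCore p G with hO
  have hbot : pPrimeCore p (G ⧸ O) = ⊥ := Fusion.pPrimeCore_quotient_eq_bot
  have hps : Cfsg.IsPSolvable p (G ⧸ O) := isPSolvable_map hpp hG (QuotientGroup.mk' O) (QuotientGroup.mk'_surjective O)
  have hlift : ∀ y : G ⧸ O, orderOf y = p → ∃ x : G, orderOf x = p ∧
      Subgroup.zpowers (QuotientGroup.mk' O x) = Subgroup.zpowers y := by
    intro y hy
    have hdv : p ∣ Nat.card ↥((Subgroup.zpowers y).comap (QuotientGroup.mk' O)) := by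
      rw [card_comap_mk', Nat.card_zpowers, hy]
      exact dvd_mul_right p _
    obtain ⟨⟨x, hxm⟩, hx⟩ := exists_prime_orderOf_dvd_card'
      (G := ↥((Subgroup.zpowers y).comap (QuotientGroup.mk' O))) p hdv
    rw [← Subgroup.orderOf_coe] at hx
    change orderOf x = p at hx
    refine ⟨x, hx, Subgroup.eq_of_le_of_card_ge (Subgroup.zpowers_le.2 hxm) ?_⟩
    rw [Nat.card_zpowers, Nat.card_zpowers, hy]
    refine (orderOf_eq_prime ?_ fun h => ?_).ge
    · rw [← map_pow, ← hx, pow_orderOf_eq_one, map_one]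
    · have h1 := (QuotientGroup.eq_one_iff x).1 h
      have h2 := Fusion.mem_pPrimeCore_orderOf (p := p) h1
      rw [hx, Nat.coprime_self] at h2
      exact hpp.one_lt.ne' h2
  have htr : Trans p (G ⧸ O) := by
    intro y z hy hz
    obtain ⟨x, hx, hxy⟩ := hlift y hy
    obtain ⟨w, hw, hwz⟩ := hlift z hz
    obtain ⟨a, ha⟩ := htrans (Subgroup.zpowers w) (Subgroup.zpowers x) (by rw [Nat.card_zpowers, hw])
      (by rw [Nat.card_zpowers, hx])
    have hmap : O.map (a : G →* G) = O := Fusion.map_pPrimeCore_equiv a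
    refine ⟨QuotientGroup.congr O O a hmap, ?_⟩
    have hz' : z ∈ Subgroup.zpowers (QuotientGroup.mk' O w) := hwz ▸ Subgroup.mem_zpowers z
    obtain ⟨i, rfl⟩ := Subgroup.mem_zpowers_iff.1 hz'
    rw [← hxy, map_zpow]
    refine Subgroup.zpow_mem _ ?_ i
    obtain ⟨j, hj⟩ := Subgroup.mem_zpowers_iff.1 (ha.le ⟨w, Subgroup.mem_zpowers w, rfl⟩ : a w ∈ Subgroup.zpowers x)
    refine Subgroup.mem_zpowers_iff.2 ⟨j, ?_⟩
    rw [← map_zpow, hj]
    exact (QuotientGroup.congr_mk O O a hmap w).symm
  rw [PLen.pLengthLE_iff]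
  refine PLen.HasPSeries.lift_pPrime O (Fusion.card_pPrimeCore_coprime p G) ?_
  haveI := pCore_normal (G := G ⧸ O) p
  refine PLen.HasPSeries.lift_p _ (pCore_isPGroup p) (PLen.hasPSeries_of_coprime 0 ?_)
  rw [← Subgroup.index_eq_card]
  exact core hp hps hbot htr

end Cfsg.Agent.S3798
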