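import Cfsg.Statements.S3799
import Cfsg.Agent.Lib.Solv.Extraspecial

set_option autoImplicit false
set_option linter.style.haveILetI false
open Cfsg

open scoped Pointwise commutatorElement

namespace Cfsg.Agent.S3799

open Matrix in
section
variable {R : Type*} [CommRing R] {n : ℕ}

/-- The middle coordinates. -/
def emb (a : Fin n → R) : Fin (n + 2) → R := Fin.cons 0 (Fin.snoc a 0)

theorem emb_zero (a : Fin n → R) : emb a 0 = 0 := Fin.cons_zero _ _

theorem emb_mid (a : Fin n → R) (i : Fin n) : emb a i.castSucc.succ = a i := by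
  simp [emb]

theorem emb_last (a : Fin n → R) : emb a (Fin.last (n + 1)) = 0 := by
  rw [← Fin.succ_last, emb, Fin.cons_succ, Fin.snoc_last]

theorem emb_dot (a b : Fin n → R) : emb a ⬝ᵥ emb b = a ⬝ᵥ b := by
  simp only [dotProduct]
  rw [Fin.sum_univ_succ, Fin.sum_univ_castSucc, emb_zero]
  simp [emb]

theorem emb_add (a b : Fin n → R) : emb (a + b) = emb a + emb b := by
  funext i
  refine Fin.cases ?_ (fun j => ?_) i
  · simp [emb]
  · refine Fin.lastCases ?_ (fun k => ?_) j <;> simp [emb]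

theorem emb_zero_vec : emb (0 : Fin n → R) = 0 := by
  funext i
  refine Fin.cases ?_ (fun j => ?_) i
  · simp [emb]
  · refine Fin.lastCases ?_ (fun k => ?_) j <;> simp [emb]

variable (R n) in
/-- The first basis vector. -/
def e0 : Fin (n + 2) → R := Pi.single 0 1

variable (R n) in
/-- The last basis vector. -/
def el : Fin (n + 2) → R := Pi.single (Fin.last (n + 1)) 1

theorem e0_dot (v : Fin (n + 2) → R) : v ⬝ᵥ e0 R n = v 0 := by simp [e0]

theorem el_dot (v : Fin (n + 2) → R) : el R n ⬝ᵥ v = v (Fin.last (n + 1)) := by simp [el]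

/-- A strictly triangular Heisenberg matrix. -/
def nil (x : (Fin n → R) × (Fin n → R) × R) : Matrix (Fin (n + 2)) (Fin (n + 2)) R :=
  vecMulVec (e0 R n) (emb x.1 + x.2.2 • el R n) + vecMulVec (emb x.2.1) (el R n)

theorem nil_mul (x y : (Fin n → R) × (Fin n → R) × R) :
    nil x * nil y = (x.1 ⬝ᵥ y.2.1) • vecMulVec (e0 R n) (el R n) := by
  have hne : (0 : Fin (n + 2)) ≠ Fin.last (n + 1) := Fin.ne_of_val_ne (by simp)
  have h1 : (emb x.1 + x.2.2 • el R n) ⬝ᵥ e0 R n = 0 := by
    rw [e0_dot, Pi.add_apply, emb_zero, Pi.smul_apply, el, Pi.single_eq_of_ne hne]; simp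
  have h2 : (emb x.1 + x.2.2 • el R n) ⬝ᵥ emb y.2.1 = x.1 ⬝ᵥ y.2.1 := by
    rw [add_dotProduct, smul_dotProduct, emb_dot, el_dot, emb_last]; simp
  have h3 : el R n ⬝ᵥ e0 R n = 0 := by
    rw [el_dot, e0, Pi.single_eq_of_ne hne.symm]
  have h4 : el R n ⬝ᵥ emb y.2.1 = 0 := by rw [el_dot, emb_last]
  simp only [nil, Matrix.add_mul, Matrix.mul_add, vecMulVec_mul_vecMulVec, h1, h2, h3, h4,
    zero_smul, vecMulVec_smul, vecMulVec_zero, add_zero, zero_add]

/-- The product of the parameters. -/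
def hmul (x y : (Fin n → R) × (Fin n → R) × R) : (Fin n → R) × (Fin n → R) × R :=
  (x.1 + y.1, x.2.1 + y.2.1, x.2.2 + y.2.2 + x.1 ⬝ᵥ y.2.1)

theorem nil_hmul (x y : (Fin n → R) × (Fin n → R) × R) :
    nil (hmul x y) = nil x + nil y + nil x * nil y := by
  rw [nil_mul]
  simp only [nil, hmul, emb_add, add_smul, vecMulVec_add, add_vecMulVec, vecMulVec_smul]
  abel

theorem one_add_mul (x y : (Fin n → R) × (Fin n → R) × R) :
    (1 + nil x) * (1 + nil y) = 1 + nil (hmul x y) := by
  rw [nil_hmul]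
  noncomm_ring

theorem nil_zero : nil (0 : (Fin n → R) × (Fin n → R) × R) = 0 := by
  simp [nil, emb_zero_vec]

/-- The inverse of the parameters. -/
def hinv (x : (Fin n → R) × (Fin n → R) × R) : (Fin n → R) × (Fin n → R) × R :=
  (-x.1, -x.2.1, -x.2.2 + x.1 ⬝ᵥ x.2.1)

theorem hmul_hinv (x : (Fin n → R) × (Fin n → R) × R) : hmul x (hinv x) = 0 := by
  simp only [hmul, hinv, dotProduct_neg, add_neg_cancel, Prod.mk_eq_zero, true_and]
  ring

theorem hinv_hmul (x : (Fin n → R) × (Fin n → R) × R) : hmul (hinv x) x = 0 := by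
  simp only [hmul, hinv, neg_dotProduct, neg_add_cancel, Prod.mk_eq_zero, true_and]
  ring

/-- The Heisenberg element. -/
def U (x : (Fin n → R) × (Fin n → R) × R) : GL (Fin (n + 2)) R :=
  ⟨1 + nil x, 1 + nil (hinv x), by rw [one_add_mul, hmul_hinv, nil_zero, add_zero],
    by rw [one_add_mul, hinv_hmul, nil_zero, add_zero]⟩

theorem U_mul (x y : (Fin n → R) × (Fin n → R) × R) : U x * U y = U (hmul x y) :=
  Units.ext (one_add_mul x y)

theorem U_zero : U (0 : (Fin n → R) × (Fin n → R) × R) = 1 := Units.ext (by simp [U, nil_zero])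

theorem U_injective : Function.Injective (U : (Fin n → R) × (Fin n → R) × R → _) := by
  intro x y h
  have h' : nil x = nil y := add_left_cancel (congrArg Units.val h)
  have hne : ∀ i : Fin n, i.castSucc.succ ≠ (0 : Fin (n + 2)) := fun i => Fin.succ_ne_zero _
  have hnl : ∀ i : Fin n, i.castSucc.succ ≠ Fin.last (n + 1) := fun i => by
    rw [← Fin.succ_last, Ne, Fin.succ_inj]; exact Fin.castSucc_ne_last i
  have hzl : (0 : Fin (n + 2)) ≠ Fin.last (n + 1) := Fin.ne_of_val_ne (by simp)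
  refine Prod.ext (funext fun i => ?_) (Prod.ext (funext fun i => ?_) ?_)
  · have := congrFun (congrFun h' 0) i.castSucc.succ
    simpa [nil, vecMulVec_apply, e0, el, emb_mid, emb_zero, Pi.single_eq_of_ne (hnl i),
      Pi.single_eq_of_ne (hne i)] using this
  · have := congrFun (congrFun h' i.castSucc.succ) (Fin.last (n + 1))
    simpa [nil, vecMulVec_apply, e0, el, emb_mid, Pi.single_eq_of_ne (hne i)] using this
  · have := congrFun (congrFun h' 0) (Fin.last (n + 1))
    simpa [nil, vecMulVec_apply, e0, el, emb_zero, emb_last, Pi.single_eq_of_ne hzl] using this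

theorem U_pow (x : (Fin n → R) × (Fin n → R) × R) (k : ℕ) :
    U x ^ k = U ((k : R) • x.1, (k : R) • x.2.1, (k : R) * x.2.2 + (k.choose 2 : R) * (x.1 ⬝ᵥ x.2.1)) := by
  induction k with
  | zero => rw [pow_zero, ← U_zero]; congr 1; simp; rfl
  | succ k ih =>
    rw [pow_succ, ih, U_mul]
    congr 1
    simp only [hmul, smul_dotProduct, smul_eq_mul, Nat.cast_succ, add_smul, one_smul,
      Nat.choose_succ_succ, Nat.choose_one_right, Nat.cast_add]
    refine Prod.ext rfl (Prod.ext rfl ?_)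
    simp only
    ring

theorem U_comm (x y : (Fin n → R) × (Fin n → R) × R) :
    ⁅U x, U y⁆ = U (0, 0, x.1 ⬝ᵥ y.2.1 - y.1 ⬝ᵥ x.2.1) := by
  rw [commutatorElement_def, mul_inv_eq_iff_eq_mul, mul_inv_eq_iff_eq_mul, U_mul, U_mul, U_mul]
  congr 1
  simp only [hmul, zero_add, zero_dotProduct, add_zero]
  refine Prod.ext (add_comm _ _) (Prod.ext (add_comm _ _) ?_)
  simp only
  ring

end

variable (p n : ℕ) [Fact p.Prime]

/-- The Heisenberg group. -/
def heis : Subgroup (Matrix.GeneralLinearGroup (Fin (n + 2)) (ZMod p)) where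
  carrier := Set.range U
  mul_mem' := by rintro _ _ ⟨x, rfl⟩ ⟨y, rfl⟩; exact ⟨_, (U_mul x y).symm⟩
  one_mem' := ⟨0, U_zero⟩
  inv_mem' := by
    rintro _ ⟨x, rfl⟩
    exact ⟨hinv x, (inv_eq_of_mul_eq_one_right (by rw [U_mul, hmul_hinv, U_zero])).symm⟩

variable {p n}

theorem card_heis : Nat.card (heis p n) = p ^ (1 + 2 * n) := by
  show Nat.card (Set.range (U (R := ZMod p) (n := n))) = _
  rw [Nat.card_range_of_injective U_injective, Nat.card_prod, Nat.card_prod, Nat.card_fun,
    Nat.card_zmod, Nat.card_fin, add_comm, two_mul, pow_succ, pow_add, mul_assoc]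

theorem pow_heis (hp : p ≠ 2) {x : Matrix.GeneralLinearGroup (Fin (n + 2)) (ZMod p)}
    (hx : x ∈ heis p n) : x ^ p = 1 := by
  obtain ⟨v, rfl⟩ := hx
  have h2 : ((p.choose 2 : ℕ) : ZMod p) = 0 := (ZMod.natCast_eq_zero_iff _ _).2
    ((Fact.out : p.Prime).dvd_choose_self two_ne_zero
      (lt_of_le_of_ne (Fact.out : p.Prime).two_le (Ne.symm hp)))
  rw [U_pow, ZMod.natCast_self, h2, ← U_zero]
  congr 1
  simp

theorem heis_extraspecial (hp : p ≠ 2) (hn : 1 ≤ n) : Cfsg.IsExtraspecial p (heis p n) := by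
  have hP : IsPGroup p (heis p n) := IsPGroup.of_card card_heis
  obtain ⟨f, hf⟩ : ∃ f : ZMod p → heis p n, ∀ c, (f c : Matrix.GeneralLinearGroup (Fin (n + 2)) (ZMod p)) = U (0, 0, c) :=
    ⟨fun c => ⟨U (0, 0, c), ⟨(0, 0, c), rfl⟩⟩, fun _ => rfl⟩
  have hfi : Function.Injective f := fun a b h => by
    have := U_injective ((hf a).symm.trans ((congrArg Subtype.val h).trans (hf b)))
    exact congrArg (fun t => t.2.2) this
  have hcomm : ∀ x y : heis p n, ⁅x, y⁆ ∈ Subgroup.closure (Set.range f) := by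
    rintro ⟨_, a, rfl⟩ ⟨_, b, rfl⟩
    exact Subgroup.subset_closure ⟨_, Subtype.ext ((hf _).trans (U_comm a b).symm)⟩
  have hfc : ∀ c, f c ∈ Subgroup.center (heis p n) := fun c => Subgroup.mem_center_iff.2 fun g => by
    obtain ⟨v, hv⟩ := g.2
    refine Subtype.ext ?_
    rw [Subgroup.coe_mul, Subgroup.coe_mul, hf, ← hv, U_mul, U_mul]
    congr 1
    simp [hmul, add_comm]
  have hcen : ∀ g ∈ Subgroup.center (heis p n), g ∈ Set.range f := by
    rintro ⟨_, v, rfl⟩ hg
    have key : ∀ w : (Fin n → ZMod p) × (Fin n → ZMod p) × ZMod p, v.1 ⬝ᵥ w.2.1 - w.1 ⬝ᵥ v.2.1 = 0 := fun w => by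
      have h1 : ⁅U v, U w⁆ = 1 := commutatorElement_eq_one_iff_mul_comm.2
        (congrArg Subtype.val (Subgroup.mem_center_iff.1 hg ⟨U w, ⟨w, rfl⟩⟩)).symm
      rw [U_comm, ← U_zero] at h1
      exact congrArg (fun t => t.2.2) (U_injective h1)
    have ha : v.1 = 0 := funext fun i => by
      have := key (0, Pi.single i 1, 0)
      simpa using this
    have hb : v.2.1 = 0 := funext fun i => by
      have := key (Pi.single i 1, 0, 0)
      simpa using this
    refine ⟨v.2.2, Subtype.ext ?_⟩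
    rw [hf]
    exact congrArg U (Prod.ext ha.symm (Prod.ext hb.symm rfl))
  have hrange : (Subgroup.center (heis p n) : Set (heis p n)) = Set.range f :=
    Set.Subset.antisymm hcen (Set.range_subset_iff.2 hfc)
  refine Solv.isExtraspecial_of hP ?_ (le_antisymm ?_ ?_) fun x => ?_
  · show Nat.card ((Subgroup.center (heis p n) : Set (heis p n))) = p
    rw [hrange, Nat.card_range_of_injective hfi, Nat.card_zmod]
  · rw [commutator_def, Subgroup.commutator_le]
    intro a _ b _
    exact (Subgroup.closure_le _).2 hrange.ge (hcomm a b)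
  · intro g hg
    obtain ⟨c, rfl⟩ := hcen g hg
    have h1 : f c = ⁅(⟨U (Pi.single ⟨0, hn⟩ c, 0, 0), ⟨_, rfl⟩⟩ : heis p n),
        ⟨U (0, Pi.single ⟨0, hn⟩ 1, 0), ⟨_, rfl⟩⟩⁆ := by
      refine Subtype.ext ((hf c).trans (Eq.trans ?_ (U_comm _ _).symm))
      simp
    rw [h1]
    exact Subgroup.commutator_mem_commutator (Subgroup.mem_top _) (Subgroup.mem_top _)
  · have h : x ^ p = 1 := Subtype.ext (pow_heis hp x.2)
    rw [h]
    exact one_mem _

/-- For every odd prime p and every n ≥ 1 there is an extraspecial p-group of order p^(1+2n) and exponent p; concretely, the general linear group of degree n + 2 over the field with p elements contains such a subgroup. -/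
theorem result (p : ℕ) [Fact p.Prime] (hp : p ≠ 2) (n : ℕ) (hn : 1 ≤ n) : ∃ E : Subgroup (Matrix.GeneralLinearGroup (Fin (n + 2)) (ZMod p)), Cfsg.IsExtraspecial p ↥E ∧ Nat.card E = p ^ (1 + 2 * n) ∧ ∀ x ∈ E, x ^ p = 1 := by
  exact ⟨heis p n, heis_extraspecial hp hn, card_heis, fun x hx => pow_heis hp hx⟩

end Cfsg.Agent.S3799
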