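import Cfsg.Statements.S3800
import Cfsg.Agent.Lib.Solv.Coprime

set_option autoImplicit false
open Cfsg

open scoped Pointwise commutatorElement

namespace Cfsg.Agent.S3800

/-- Let G be a finite group, N a normal subgroup of G whose order is prime to p, and P a p-subgroup of G. Then in G/N the normalizer of the image of P is the image of N_G(P), and the centralizer of the image of P is the image of C_G(P). -/
theorem result {G : Type*} [Group G] [Finite G] {p : ℕ} [Fact p.Prime] (N : Subgroup G) [N.Normal] (hN : (Nat.card N).Coprime p) (P : Subgroup G) (hP : IsPGroup p P) : Subgroup.normalizer ((P.map (QuotientGroup.mk' N)) : Set (G ⧸ N)) = (Subgroup.normalizer (P : Set G)).map (QuotientGroup.mk' N) ∧ Subgroup.centralizer ((P.map (QuotientGroup.mk' N)) : Set (G ⧸ N)) = (Subgroup.centralizer (P : Set G)).map (QuotientGroup.mk' N) := by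
  have hp : p.Prime := Fact.out
  set f := QuotientGroup.mk' N
  have hsyl : Solv.IsSylIn p P (N ⊔ P) := by
    refine ⟨le_sup_right, ?_⟩
    obtain ⟨k, hk⟩ := IsPGroup.iff_card.1 hP
    have hd : N ⊓ P = ⊥ := Solv.coprime_inf (hk ▸ hN.pow_right k)
    rw [Solv.card_sup_of_inf_eq_bot N P hd, hk, Nat.factorization_mul Nat.card_pos.ne'
      (pow_ne_zero _ hp.ne_zero), Finsupp.add_apply, hp.factorization_pow, Finsupp.single_eq_same,
      Nat.factorization_eq_zero_of_not_dvd (fun h => hp.ne_one (Nat.eq_one_of_dvd_coprimes hN h dvd_rfl)),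
      zero_add]
  have hn : ∀ g : G, f g ∈ Subgroup.normalizer ((P.map f : Subgroup (G ⧸ N)) : Set (G ⧸ N)) →
      ∃ n ∈ Subgroup.normalizer (P : Set G), f n = f g := by
    intro g hg
    have hc : MulAut.conj g • P ≤ N ⊔ P := by
      rw [Solv.conj_smul_eq_map]
      rintro _ ⟨x, hx, rfl⟩
      have : f g * f x * (f g)⁻¹ ∈ P.map f := (Subgroup.mem_normalizer_iff.1 hg _).1 ⟨x, hx, rfl⟩
      rw [← map_mul, ← map_inv, ← map_mul] at this
      have h2 : g * x * g⁻¹ ∈ (P.map f).comap f := this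
      rwa [Subgroup.comap_map_eq, QuotientGroup.ker_mk', sup_comm] at h2
    obtain ⟨k, hk, e⟩ := hsyl.exists_conj (P := P) (Q := MulAut.conj g • P)
      ⟨hc, by rw [Solv.card_conj_smul]; exact hsyl.2⟩
    obtain ⟨a, ha, b, hb, rfl⟩ := Subgroup.mem_sup_of_normal_left.1 hk
    refine ⟨a⁻¹ * g, Solv.mem_normalizer_of_conj_smul ?_, ?_⟩
    · rw [← Solv.conj_smul_conj, ← e, Solv.conj_smul_conj, inv_mul_cancel_left,
        Solv.conj_smul_of_mem_normalizer (Subgroup.le_normalizer hb)]
    · rw [map_mul, map_inv, show f a = 1 from (QuotientGroup.eq_one_iff a).2 ha, inv_one, one_mul]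
  constructor
  · refine le_antisymm (fun y hy => ?_) (Subgroup.le_normalizer_map f)
    obtain ⟨g, rfl⟩ := QuotientGroup.mk'_surjective N y
    obtain ⟨n, h1, h2⟩ := hn g hy
    exact ⟨n, h1, h2⟩
  · refine le_antisymm (fun y hy => ?_) ?_
    · obtain ⟨g, rfl⟩ := QuotientGroup.mk'_surjective N y
      obtain ⟨n, h1, h2⟩ := hn g (Subgroup.centralizer_le_normalizer _ hy)
      refine ⟨n, Subgroup.mem_centralizer_iff.2 fun x hx => ?_, h2⟩
      have hfc : f x * f g = f g * f x := Subgroup.mem_centralizer_iff.1 hy _ ⟨x, hx, rfl⟩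
      have h3 : n * x * n⁻¹ * x⁻¹ ∈ P ⊓ N := by
        refine ⟨P.mul_mem ((Subgroup.mem_normalizer_iff.1 h1 x).1 hx) (P.inv_mem hx), ?_⟩
        refine (QuotientGroup.eq_one_iff _).1 ?_
        show f _ = 1
        rw [map_mul, map_mul, map_mul, map_inv, map_inv, h2, ← hfc, mul_inv_cancel_right,
          mul_inv_cancel]
      obtain ⟨k, hk⟩ := IsPGroup.iff_card.1 hP
      rw [Solv.coprime_inf ((hk ▸ hN.pow_right k : (Nat.card N).Coprime (Nat.card P)).symm),
        Subgroup.mem_bot, mul_inv_eq_one, mul_inv_eq_iff_eq_mul] at h3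
      exact h3.symm
    · rintro _ ⟨c, hc, rfl⟩
      refine Subgroup.mem_centralizer_iff.2 ?_
      rintro _ ⟨x, hx, rfl⟩
      rw [← map_mul, ← map_mul, Subgroup.mem_centralizer_iff.1 hc x hx]

end Cfsg.Agent.S3800
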