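import Cfsg.Statements.S3802
import Cfsg.Agent.Lib.Solv.Subnormal

set_option autoImplicit false
open Cfsg

open scoped Pointwise commutatorElement

namespace Cfsg.Agent.S3802

/-- Let G be a finite group, M a maximal subgroup of G and N a subnormal subgroup of G contained in M. Then N is contained in every conjugate of M, that is, N lies in the core of M in G. -/
theorem result {G : Type*} [Group G] [Finite G] (M N : Subgroup G) (hM : IsCoatom M) (hN : N.IsSubnormal) (hNM : N ≤ M) :
    N ≤ Subgroup.normalCore M := by
  obtain ⟨R, hR, hNR, hRM, hMR, hmax⟩ := Solv.exists_maximal_subnormal_le hN hNM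
  have hRn : R.Normal := by
    rw [← Subgroup.normalizer_eq_top_iff]
    rcases Subgroup.IsSubnormal.iff_eq_top_or_exists.1 hR with h | ⟨K, hlt, hK, hKn⟩
    · exact absurd (top_le_iff.1 (h ▸ hRM)) hM.1
    · have h1 : K ≤ Subgroup.normalizer (R : Set G) :=
        (Subgroup.normal_subgroupOf_iff_le_normalizer hlt.le).1 hKn
      rcases eq_or_lt_of_le hMR with h | h
      · exact absurd (hmax K hK hlt.le (h1.trans h.ge)) hlt.ne'
      · exact hM.2 _ h
  exact hNR.trans (Subgroup.normal_le_normalCore.2 hRM)

end Cfsg.Agent.S3802
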