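import Cfsg.Statements.S3803
import Cfsg.Agent.Lib.Solv.Coprime
import Cfsg.Agent.Lib.Local.FS.Omega
import Mathlib

set_option autoImplicit false
set_option linter.style.haveILetI false
open Cfsg

open scoped Pointwise commutatorElement

namespace Cfsg.Agent.S3803

theorem coatom_normal_index {P : Type*} [Group P] [Finite P] {p : ℕ} [hp : Fact p.Prime] (hP : IsPGroup p P)
    {M : Subgroup P} (hM : IsCoatom M) : M.Normal ∧ M.index = p := by
  haveI := hP.isNilpotent
  have hn : M.Normal := Subgroup.NormalizerCondition.normal_of_coatom M Group.normalizerCondition_of_isNilpotent hM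
  refine ⟨hn, ?_⟩
  obtain ⟨k, hk⟩ := IsPGroup.iff_card.1 hP
  obtain ⟨i, -, hi⟩ := (Nat.dvd_prime_pow hp.out).1 (hk ▸ M.index_dvd_card)
  rcases i with _ | i
  · exact absurd (Subgroup.index_eq_one.1 (by rw [hi, pow_zero])) hM.1
  obtain ⟨x, hx⟩ := exists_prime_orderOf_dvd_card' (G := P ⧸ M) p
    (by rw [← Subgroup.index_eq_card, hi]; exact dvd_pow_self p i.succ_ne_zero)
  have htop : (Subgroup.zpowers x).comap (QuotientGroup.mk' M) = ⊤ := by
    refine hM.2 _ (lt_of_le_of_ne (fun y hy => ?_) fun e => ?_)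
    · show QuotientGroup.mk' M y ∈ Subgroup.zpowers x
      rw [QuotientGroup.mk'_apply, (QuotientGroup.eq_one_iff y).2 hy]; exact one_mem _
    · obtain ⟨y, rfl⟩ := QuotientGroup.mk_surjective x
      have hy : y ∈ M := e.ge (Subgroup.mem_zpowers _)
      rw [(QuotientGroup.eq_one_iff y).2 hy, orderOf_one] at hx
      exact hp.out.ne_one hx.symm
  have h2 : Subgroup.zpowers x = ⊤ := Subgroup.comap_injective (QuotientGroup.mk'_surjective M) (by
    rw [htop, Subgroup.comap_top])
  rw [Subgroup.index_eq_card, ← Subgroup.card_top, ← h2, Nat.card_zpowers, hx]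

theorem sq_mem_frattini {P : Type*} [Group P] [Finite P] (hP : IsPGroup 2 P) (x : P) :
    x ^ 2 ∈ frattini P := by
  haveI : Fact (Nat.Prime 2) := ⟨Nat.prime_two⟩
  rw [frattini, Order.radical, Subgroup.mem_iInf]
  intro M
  rw [Subgroup.mem_iInf]
  intro hM
  exact Subgroup.sq_mem_of_index_two (coatom_normal_index hP hM).2 x

/-- If the subgroups of a given order are stable under automorphisms of odd order, those are trivial. -/
theorem main {P : Type*} [Group P] [Finite P] (hP : IsPGroup 2 P) (d : ℕ)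
    (hd1 : 1 < d) (hd2 : d < Nat.card P) (hd : ∃ m, d = 2 ^ m) (A : Subgroup (MulAut P))
    (hA : Odd (Nat.card A))
    (hinv : ∀ E : Subgroup P, (Nat.card E = d ∨ (d = 2 ∧ Nat.card E = 4)) →
      ∀ a ∈ A, ∀ e ∈ E, a e ∈ E) :
    (∀ x : P, orderOf x ≤ d ∨ (d = 2 ∧ orderOf x ≤ 4) → ∀ a ∈ A, x⁻¹ * a x ∈ frattini P) ∧
    ((∀ a ∈ A, ∀ x : P, x⁻¹ * a x ∈ frattini P) ∨
      (∃ y : P, d < orderOf y ∧ Nat.card (frattini P) ≤ d)  ∨ d < Nat.card (frattini P)) := by
  haveI : Fact (Nat.Prime 2) := ⟨Nat.prime_two⟩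
  obtain ⟨m, rfl⟩ := hd
  obtain ⟨n, hn⟩ := IsPGroup.iff_card.1 hP
  obtain ⟨f, hf⟩ := IsPGroup.iff_card.1 (hP.to_subgroup (frattini P))
  have hdvd : (2 : ℕ) ^ m ∣ Nat.card P := by
    rw [hn] at hd2 ⊢
    exact pow_dvd_pow 2 ((Nat.pow_lt_pow_iff_right (by norm_num)).1 hd2).le
  have hfin : ∀ (H : Subgroup P) (x : P), x ∈ H → x ∉ frattini P → ∀ a ∈ A, a x ∈ H →
      (H ≤ frattini P ⊔ Subgroup.zpowers x) → x⁻¹ * a x ∈ frattini P := by
    intro H x hx hxΦ a ha hax hH
    have h1 := hH hax
    rw [Subgroup.mem_sup_of_normal_left] at h1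
    obtain ⟨c, hc, w, hw, hcw⟩ := h1
    obtain ⟨i, rfl⟩ := hw
    have hcw : c * x ^ i = a x := hcw
    rcases Int.even_or_odd' i with ⟨j, rfl | rfl⟩
    · exfalso
      refine hxΦ ?_
      have h2 : a x ∈ frattini P := by
        rw [← hcw]
        refine mul_mem hc ?_
        rw [mul_comm, zpow_mul, show ((2 : ℤ)) = ((2 : ℕ) : ℤ) from rfl, zpow_natCast]
        exact sq_mem_frattini hP _
      have h3 := (Subgroup.characteristic_iff_map_eq.1 (inferInstance : (frattini P).Characteristic) a).ge h2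
      obtain ⟨z, hz, hze⟩ := h3
      rwa [← a.injective hze]
    · rw [← hcw, show x⁻¹ * (c * x ^ (2 * j + 1)) = (x⁻¹ * c * x) * x ^ (2 * j) by
        rw [add_comm (2 * j), zpow_one_add]; group]
      refine mul_mem (by simpa using (inferInstance : (frattini P).Normal).conj_mem c hc x⁻¹) ?_
      rw [mul_comm, zpow_mul, show ((2 : ℤ)) = ((2 : ℕ) : ℤ) from rfl, zpow_natCast]
      exact sq_mem_frattini hP _
  have hsmall : ∀ x : P, orderOf x ≤ 2 ^ m ∨ (2 ^ m = 2 ∧ orderOf x ≤ 4) →
      ∀ a ∈ A, x⁻¹ * a x ∈ frattini P := by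
    intro x hx a ha
    by_cases hxΦ : x ∈ frattini P
    · exact mul_mem (inv_mem hxΦ)
        ((Subgroup.characteristic_iff_map_eq.1 (inferInstance : (frattini P).Characteristic) a).le ⟨x, hxΦ, rfl⟩)
    set H := frattini P ⊔ Subgroup.zpowers x with hH
    obtain ⟨k, hk⟩ := IsPGroup.iff_orderOf.1 hP x
    by_cases hle : orderOf x ≤ 2 ^ m
    · have hkm : k ≤ m := by rw [hk] at hle; exact (Nat.pow_le_pow_iff_right (by norm_num)).1 hle
      by_cases hbig : 2 ^ m ≤ Nat.card H
      · obtain ⟨h', hh'⟩ := IsPGroup.iff_card.1 (hP.to_subgroup H)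
        obtain ⟨K, hK, hxK⟩ := Sylow.exists_subgroup_card_pow_prime_le 2 (n := k) (m := m)
          (hh' ▸ pow_dvd_pow 2 ((Nat.pow_le_pow_iff_right (by norm_num)).1 (hh' ▸ hbig)))
          (Subgroup.zpowers (⟨x, Subgroup.mem_sup_right (Subgroup.mem_zpowers x)⟩ : H))
          (by rw [Nat.card_zpowers, Subgroup.orderOf_mk, hk]) hkm
        refine hfin (K.map H.subtype) x ⟨_, hxK (Subgroup.mem_zpowers _), rfl⟩ hxΦ a ha
          (hinv _ (Or.inl (by rw [Solv.card_map_subtype, hK])) a ha x ⟨_, hxK (Subgroup.mem_zpowers _), rfl⟩)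
          (Subgroup.map_subtype_le K)
      · push Not at hbig
        obtain ⟨h', hh'⟩ := IsPGroup.iff_card.1 (hP.to_subgroup H)
        have key : ∀ y : P, (∀ K : Subgroup P, Nat.card K = 2 ^ m → H ≤ K → y ∈ K) → y ∈ H := by
          intro y hy
          by_contra hyH
          obtain ⟨M, hM, hHM, hyM⟩ : ∃ M : Subgroup P, IsCoatom M ∧ H ≤ M ∧ y ∉ M := by
            obtain ⟨M, hHM, hM⟩ := Finite.exists_le_maximal
              (p := fun M : Subgroup P => H ≤ M ∧ y ∉ M) (a := H) ⟨le_rfl, hyH⟩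
            refine ⟨M, ⟨fun h => hM.1.2 (h.ge (Subgroup.mem_top y)), fun L hL => ?_⟩, hM.1.1, hM.1.2⟩
            have hyL : y ∈ L := by
              by_contra h
              exact hL.not_ge (hM.2 ⟨hM.1.1.trans hL.le, h⟩ hL.le)
            haveI hMn : M.Normal := by
              -- every subgroup above the Frattini subgroup is normal
              refine ⟨fun z hz w => ?_⟩
              have h2 : w * z * w⁻¹ * z⁻¹ ∈ frattini P := by
                rw [frattini, Order.radical, Subgroup.mem_iInf]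
                intro N
                rw [Subgroup.mem_iInf]
                intro hN
                obtain ⟨hNn, hNi⟩ := coatom_normal_index hP hN
                haveI := hNn
                haveI : IsCyclic (P ⧸ N) := isCyclic_of_prime_card (p := 2) (by rw [← Subgroup.index_eq_card, hNi])
                rw [← QuotientGroup.eq_one_iff]
                simp only [QuotientGroup.mk_mul, QuotientGroup.mk_inv]
                rw [mul_comm' (QuotientGroup.mk w : P ⧸ N) (QuotientGroup.mk z), mul_inv_cancel_right,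
                  mul_inv_cancel]
              have h3 := mul_mem ((le_sup_left.trans hM.1.1) h2) hz
              simpa using h3
            refine top_le_iff.1 fun z _ => ?_
            by_contra hzL
            -- `y` lies in `M ⊔ ⟨z⟩`, as `M` is maximal avoiding `y`
            have hzM : z ∉ M := fun h => hzL (hL.le h)
            have hy2 : y ∈ M ⊔ Subgroup.zpowers z := by
              by_contra h
              exact hzM (hM.2 ⟨hM.1.1.trans le_sup_left, h⟩ le_sup_left
                (Subgroup.mem_sup_right (Subgroup.mem_zpowers z)))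
            rw [Subgroup.mem_sup_of_normal_left] at hy2
            obtain ⟨c, hc, w, ⟨i, rfl⟩, hcw⟩ := hy2
            have hcw : c * z ^ i = y := hcw
            rcases Int.even_or_odd' i with ⟨j, rfl | rfl⟩
            · refine hM.1.2 (hcw ▸ mul_mem hc ?_)
              rw [mul_comm, zpow_mul, show ((2 : ℤ)) = ((2 : ℕ) : ℤ) from rfl, zpow_natCast]
              exact (le_sup_left.trans hM.1.1) (sq_mem_frattini hP _)
            · refine hzL ?_
              have h4 : z ^ (2 * j + 1) ∈ L := by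
                have := mul_mem (inv_mem (hL.le hc)) hyL
                rw [← hcw] at this
                simpa using this
              have h5 : z ^ (2 * j) ∈ L := hL.le (by
                rw [mul_comm, zpow_mul, show ((2 : ℤ)) = ((2 : ℕ) : ℤ) from rfl, zpow_natCast]
                exact (le_sup_left.trans hM.1.1) (sq_mem_frattini hP _))
              have h6 := mul_mem (inv_mem h5) h4
              rwa [← zpow_neg, ← zpow_add, neg_add_cancel_left, zpow_one] at h6
          obtain ⟨-, hMi⟩ := coatom_normal_index hP hM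
          have hMc : 2 ^ m ∣ Nat.card M := by
            have h1 := M.card_mul_index
            rw [hMi, hn] at h1
            obtain ⟨j, hj⟩ := IsPGroup.iff_card.1 (hP.to_subgroup M)
            rw [hj] at h1 ⊢
            rw [hn] at hd2
            rw [← pow_succ] at h1
            have h9 := Nat.pow_right_injective le_rfl h1
            exact pow_dvd_pow 2 (by have := (Nat.pow_lt_pow_iff_right (by norm_num : 1 < 2)).1 hd2; omega)
          obtain ⟨K, hK, hHK⟩ := Sylow.exists_subgroup_card_pow_prime_le 2 (n := h') (m := m) hMc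
            (H.subgroupOf M) (by rw [Solv.card_subgroupOf hHM, hh'])
            ((Nat.pow_le_pow_iff_right (by norm_num)).1 (hh' ▸ hbig.le))
          obtain ⟨w, hw, hwe⟩ := hy (K.map M.subtype) (by rw [Solv.card_map_subtype, hK])
            fun z hz => ⟨⟨z, hHM hz⟩, hHK hz, rfl⟩
          exact hyM (hwe ▸ w.2)
        refine hfin H x (Subgroup.mem_sup_right (Subgroup.mem_zpowers x)) hxΦ a ha
          (key _ fun K hK hHK => hinv K (Or.inl hK) a ha x (hHK (Subgroup.mem_sup_right (Subgroup.mem_zpowers x)))) le_rfl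
    · obtain ⟨hm2, hx4⟩ := hx.resolve_left hle
      have hk2 : k = 2 := by
        rw [hk] at hle hx4
        rw [hm2] at hle
        have h8 : k ≤ 2 := (Nat.pow_le_pow_iff_right (by norm_num : 1 < 2)).1 (by simpa using hx4)
        interval_cases k <;> simp_all
      refine hfin (Subgroup.zpowers x) x (Subgroup.mem_zpowers x) hxΦ a ha
        (hinv _ (Or.inr ⟨hm2, by rw [Nat.card_zpowers, hk, hk2]; norm_num⟩) a ha x (Subgroup.mem_zpowers x)) le_sup_right
  refine ⟨hsmall, ?_⟩
  by_cases hall : ∀ y : P, orderOf y ≤ 2 ^ m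
  · exact Or.inl fun a ha x => hsmall x (Or.inl (hall x)) a ha
  push Not at hall
  obtain ⟨y, hy⟩ := hall
  by_cases hΦ : Nat.card (frattini P) ≤ 2 ^ m
  · exact Or.inr (Or.inl ⟨y, hy, hΦ⟩)
  · exact Or.inr (Or.inr (not_le.1 hΦ))

theorem eq_of_frattini {X : Type*} [Group X] [Finite X] (P A : Subgroup X) (hP : IsPGroup 2 P)
    (hA : Odd (Nat.card A)) (hAP : A ≤ Subgroup.normalizer (P : Set X))
    (h : ∀ a ∈ A, ∀ x ∈ P, x⁻¹ * (a * x * a⁻¹) ∈ (frattini ↥P).map P.subtype) :
    A ≤ Subgroup.centralizer (P : Set X) := by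
  haveI : Fact (Nat.Prime 2) := ⟨Nat.prime_two⟩
  set D := (frattini ↥P).map P.subtype with hD
  have hAD : A ≤ Subgroup.normalizer (D : Set X) := by
    intro a ha
    refine Solv.mem_normalizer_of_conj_smul (Subgroup.eq_of_le_of_card_ge ?_ (by rw [Solv.card_conj_smul]))
    rintro y hy
    rw [Solv.mem_conj_smul] at hy
    obtain ⟨z, hz, hze⟩ := hy
    have hze : (z : X) = a⁻¹ * y * a := hze
    have h1 : (z : X)⁻¹ * (a * z * a⁻¹) ∈ D := h a ha z z.2
    have h2 : (z : X) ∈ D := ⟨z, hz, rfl⟩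
    have h3 := mul_mem h2 h1
    rw [hze] at h3
    simpa [mul_assoc] using h3
  obtain ⟨k, hk⟩ := IsPGroup.iff_card.1 hP
  have hco : (Nat.card A).Coprime (Nat.card P) := hk ▸ ((Nat.coprime_two_right.2 hA).pow_right k)
  haveI := hP.isNilpotent
  set S := (Subgroup.centralizer (A : Set X)).subgroupOf P with hS
  have hStop : S = ⊤ := frattini_nongenerating (top_le_iff.1 fun x _ => by
    obtain ⟨c, hc, hxc⟩ := Solv.exists_fixed_in_coset' A P D hAP hco
      (Or.inr IsNilpotent.to_isSolvable) (Subgroup.map_subtype_le _) hAD x.2 fun a ha => h a ha x x.2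
    obtain ⟨z, hz, hze⟩ := hxc
    have hze : (z : X) = (x : X)⁻¹ * c := hze
    rw [show x = (⟨c, hc.1⟩ : P) * z⁻¹ from Subtype.ext (by
      show (x : X) = c * (z : X)⁻¹
      rw [hze]; group)]
    exact mul_mem (Subgroup.mem_sup_left (show (⟨c, hc.1⟩ : P) ∈ S from hc.2)) (Subgroup.mem_sup_right (inv_mem hz)))
  intro a ha
  refine Subgroup.mem_centralizer_iff.2 fun x hx => ?_
  exact (Subgroup.mem_centralizer_iff.1 (hStop.ge (Subgroup.mem_top (⟨x, hx⟩ : P)) : x ∈ Subgroup.centralizer (A : Set X)) a ha).symm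

theorem aux {X : Type*} [Group X] [Finite X] (A : Subgroup X) (hA : Odd (Nat.card A)) (d : ℕ)
    (hd1 : 1 < d) : ∀ (N : ℕ) (P : Subgroup X), Nat.card P = N → IsPGroup 2 P →
      A ≤ Subgroup.normalizer (P : Set X) → d < Nat.card P → (∃ m, d = 2 ^ m) →
      (∀ E : Subgroup X, E ≤ P → (Nat.card E = d ∨ (d = 2 ∧ Nat.card E = 4)) →
        A ≤ Subgroup.normalizer (E : Set X)) → A ≤ Subgroup.centralizer (P : Set X) := by
  intro N
  induction N using Nat.strong_induction_on with
  | _ N ih =>
  intro P hN hP hAP hd2 hd hinv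
  haveI : Fact (Nat.Prime 2) := ⟨Nat.prime_two⟩
  let φ : A →* MulAut P := P.normalizerMonoidHom.comp (Subgroup.inclusion hAP)
  have hφ : ∀ (a : A) (x : P), ((φ a x : P) : X) = a * x * (a : X)⁻¹ := fun a x => rfl
  have hoddφ : Odd (Nat.card φ.range) := hA.of_dvd_nat (Subgroup.card_range_dvd φ)
  obtain ⟨hsmall, htri⟩ := main hP d hd1 hd2 hd φ.range hoddφ (by
    rintro E hE _ ⟨a, rfl⟩ e he
    have h1 := (Subgroup.mem_normalizer_iff.1 (hinv (E.map P.subtype) (Subgroup.map_subtype_le E)
      (by rw [Solv.card_map_subtype]; exact hE) a.2) e).1 ⟨e, he, rfl⟩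
    obtain ⟨e', he', hee⟩ := h1
    rwa [show φ a e = e' from Subtype.ext ((hφ a e).trans hee.symm)])
  -- the fixed points modulo the Frattini subgroup
  let T : Subgroup P :=
    { carrier := {x | ∀ a : A, x⁻¹ * φ a x ∈ frattini P}
      one_mem' := fun a => by simp
      mul_mem' := fun {x y} hx hy a => by
        rw [map_mul, show (x * y)⁻¹ * (φ a x * φ a y) = (y⁻¹ * (x⁻¹ * φ a x) * y) * (y⁻¹ * φ a y) by group]
        exact mul_mem (by simpa using (inferInstance : (frattini P).Normal).conj_mem _ (hx a) y⁻¹) (hy a)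
      inv_mem' := fun {x} hx a => by
        rw [map_inv, inv_inv]
        have h := (inferInstance : (frattini P).Normal).conj_mem _ (inv_mem (hx a)) x
        simpa [mul_assoc] using h }
  by_cases hT : T = ⊤
  · refine eq_of_frattini P A hP hA hAP fun a ha x hx => ?_
    have h1 : (⟨x, hx⟩ : P)⁻¹ * φ ⟨a, ha⟩ ⟨x, hx⟩ ∈ frattini P := (hT.ge (Subgroup.mem_top _) : _ ∈ T) ⟨a, ha⟩
    exact ⟨_, h1, rfl⟩
  have hΦT : frattini P ≤ T := fun x hx a => mul_mem (inv_mem hx)
    ((Subgroup.characteristic_iff_map_eq.1 (inferInstance : (frattini P).Characteristic) (φ a)).le ⟨x, hx, rfl⟩)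
  have homT : ∀ x : P, orderOf x ≤ d ∨ (d = 2 ∧ orderOf x ≤ 4) → x ∈ T :=
    fun x hx a => hsmall x hx _ ⟨a, rfl⟩
  set T' := T.map P.subtype with hT'
  have hT'P : T' ≤ P := Subgroup.map_subtype_le T
  have hTlt : Nat.card T < Nat.card P := Solv.card_lt_of_ne_top hT
  have hcentT : ∀ y : P, d < orderOf y → ∀ x ∈ T, ∀ a : A, φ a x = x := by
    intro y hy x hx a
    by_cases hTd : d < Nat.card T
    · have hAT : A ≤ Subgroup.normalizer (T' : Set X) := by
        intro b hb
        refine Solv.mem_normalizer_of_conj_smul (Subgroup.eq_of_le_of_card_ge ?_ (by rw [Solv.card_conj_smul]))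
        rintro z hz
        rw [Solv.mem_conj_smul] at hz
        obtain ⟨w, hw, hwz⟩ := hz
        refine ⟨φ ⟨b, hb⟩ w, ?_, ?_⟩
        · intro c
          have h1 : φ ⟨b, hb⟩ (w⁻¹ * φ (⟨b, hb⟩⁻¹ * c * ⟨b, hb⟩) w) ∈ frattini P :=
            (Subgroup.characteristic_iff_map_eq.1 (inferInstance : (frattini P).Characteristic) _).le
              ⟨_, hw _, rfl⟩
          rw [map_mul, map_inv, ← MulAut.mul_apply, ← map_mul φ,
            show (⟨b, hb⟩ : A) * (⟨b, hb⟩⁻¹ * c * ⟨b, hb⟩) = c * ⟨b, hb⟩ by group, map_mul φ,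
            MulAut.mul_apply] at h1
          exact h1
        · show ((φ ⟨b, hb⟩ w : P) : X) = z
          rw [hφ, show ((w : P) : X) = b⁻¹ * z * b from hwz]
          group
      have h := ih (Nat.card T') (by rw [← hN, Solv.card_map_subtype]; exact hTlt) T' rfl
        (hP.to_le hT'P) hAT (by rw [Solv.card_map_subtype]; exact hTd) hd
        fun E hE hEc => hinv E (hE.trans hT'P) hEc
      refine Subtype.ext ?_
      rw [hφ, mul_inv_eq_iff_eq_mul]
      exact (Subgroup.mem_centralizer_iff.1 (h a.2) (x : X) ⟨x, hx, rfl⟩).symm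
    · push Not at hTd
      have hy2 : y ^ 2 ∈ frattini P := sq_mem_frattini hP y
      obtain ⟨k, hk⟩ := IsPGroup.iff_orderOf.1 hP y
      obtain ⟨m, rfl⟩ := hd
      have hmk : m + 1 ≤ k := (Nat.pow_lt_pow_iff_right (by norm_num)).1 (hk ▸ hy)
      have hord : orderOf (y ^ 2) = 2 ^ (k - 1) := by
        rw [orderOf_pow, hk, Nat.gcd_eq_right (dvd_pow_self 2 (by omega : k ≠ 0))]
        rw [show (2 : ℕ) ^ k = 2 ^ (k - 1) * 2 by rw [← pow_succ, show k - 1 + 1 = k by omega]]
        simp
      have hTeq : Subgroup.zpowers (y ^ 2) = T := Subgroup.eq_of_le_of_card_ge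
        (Subgroup.zpowers_le.2 (hΦT hy2)) (by
          rw [Nat.card_zpowers, hord]
          exact hTd.trans (Nat.pow_le_pow_right (by norm_num) (by omega)))
      haveI : IsCyclic T := by rw [← hTeq]; infer_instance
      have hTinv : ∀ (b : A) (w : P), w ∈ T → φ b w ∈ T := by
        intro b w hw c
        have h1 : φ b (w⁻¹ * φ (b⁻¹ * c * b) w) ∈ frattini P :=
          (Subgroup.characteristic_iff_map_eq.1 (inferInstance : (frattini P).Characteristic) _).le
            ⟨_, hw _, rfl⟩
        rw [map_mul, map_inv, ← MulAut.mul_apply, ← map_mul φ, show b * (b⁻¹ * c * b) = c * b by group,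
          map_mul φ, MulAut.mul_apply] at h1
        exact h1
      let ψ : A →* MulAut T :=
        { toFun := fun b =>
            { toFun := fun w => ⟨φ b w, hTinv b w w.2⟩
              invFun := fun w => ⟨φ b⁻¹ w, hTinv b⁻¹ w w.2⟩
              left_inv := fun w => Subtype.ext (show φ b⁻¹ (φ b w) = (w : P) by simp)
              right_inv := fun w => Subtype.ext (show φ b (φ b⁻¹ w) = (w : P) by simp)
              map_mul' := fun u v => Subtype.ext (map_mul (φ b) (u : P) v) }
          map_one' := MulEquiv.ext fun w => Subtype.ext (show φ 1 (w : P) = w by simp)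
          map_mul' := fun b c => MulEquiv.ext fun w =>
            Subtype.ext (show φ (b * c) (w : P) = φ b (φ c w) by simp) }
      obtain ⟨t, ht⟩ := IsPGroup.iff_card.1 (hP.to_subgroup T)
      have hAut : Nat.card (MulAut T) = Nat.totient (2 ^ t) := by rw [IsCyclic.card_mulAut, ht]
      have h1 : ψ a = 1 := by
        rw [← orderOf_eq_one_iff]
        refine Nat.eq_one_of_dvd_coprimes ?_ ((orderOf_map_dvd ψ a).trans (orderOf_dvd_natCard a))
          ((orderOf_dvd_natCard (ψ a)).trans (dvd_of_eq hAut))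
        rcases t with _ | t
        · simp
        · rw [Nat.totient_prime_pow_succ Nat.prime_two, show 2 - 1 = 1 from rfl, mul_one]
          exact (Nat.coprime_two_right.2 hA).pow_right t
      exact congrArg (fun e : MulAut T => ((e ⟨x, hx⟩ : T) : P)) h1
  -- coprime automorphisms fixing the small elements are trivial
  have hfix : ∀ (a : A) (x : P), Local.FS.IsOmega 2 x → φ a x = x := by
    intro a x hx
    have h4 : x ^ 4 = 1 := by
      rcases hx with h | ⟨-, h⟩
      · rw [show 4 = 2 * 2 from rfl, pow_mul, h, one_pow]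
      · exact h
    have hxd : orderOf x ≤ d ∨ (d = 2 ∧ orderOf x ≤ 4) := by
      have h5 := Nat.le_of_dvd (by norm_num) (orderOf_dvd_of_pow_eq_one h4)
      rcases lt_or_ge d 4 with h | h
      · obtain ⟨m, rfl⟩ := hd
        refine Or.inr ⟨?_, h5⟩
        have hm : m < 2 := (Nat.pow_lt_pow_iff_right (by norm_num : 1 < 2)).1 (show 2 ^ m < 2 ^ 2 from h)
        obtain rfl | rfl : m = 0 ∨ m = 1 := by omega
        · exact absurd hd1 (by norm_num)
        · norm_num
      · exact Or.inl (h5.trans h)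
    rcases htri with h | ⟨y, hy, hΦ⟩ | hbig
    · exfalso
      exact hT (top_le_iff.1 fun z _ b => h _ ⟨b, rfl⟩ z)
    · exact hcentT y hy x (homT x hxd) a
    · by_cases hall : ∀ y : P, orderOf y ≤ d
      · exfalso
        exact hT (top_le_iff.1 fun z _ b => hsmall z (Or.inl (hall z)) _ ⟨b, rfl⟩)
      · push Not at hall
        obtain ⟨y, hy⟩ := hall
        exact hcentT y hy x (homT x hxd) a
  obtain ⟨D, -, -, hom, hdet⟩ := Local.FS.exists_detect hP φ.range
  intro a ha
  have hmem : φ ⟨a, ha⟩ ∈ φ.range := MonoidHom.mem_range.2 ⟨_, rfl⟩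
  have h1 : φ ⟨a, ha⟩ = 1 := hdet _ hmem
    ((Nat.coprime_two_right.2 hoddφ).coprime_dvd_left (Subgroup.orderOf_dvd_natCard _ hmem))
    fun z hz => hfix _ z (hom z hz)
  refine Subgroup.mem_centralizer_iff.2 fun x hx => ?_
  exact (mul_inv_eq_iff_eq_mul.1 (congrArg (fun e : MulAut P => ((e ⟨x, hx⟩ : P) : X)) h1)).symm

/-- Let P be a 2-subgroup and A a subgroup of odd order of a finite group, with A normalizing P. Let D ≤ P with 1 < |D| < |P|. If every subgroup of P of order |D|, and also every subgroup of P of order 4 in case |D| = 2, is normalized by A, then A centralizes P. -/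
theorem result {X : Type*} [Group X] [Finite X] (P A D : Subgroup X) (hP : IsPGroup 2 P) (hA : Odd (Nat.card A))
    (hAP : A ≤ Subgroup.normalizer (P : Set X)) (hDP : D ≤ P) (hD1 : 1 < Nat.card D) (hD2 : Nat.card D < Nat.card P)
    (hinv : ∀ E : Subgroup X, E ≤ P → (Nat.card E = Nat.card D ∨ (Nat.card D = 2 ∧ Nat.card E = 4)) → A ≤ Subgroup.normalizer (E : Set X)) :
    A ≤ Subgroup.centralizer (P : Set X) := by
  haveI : Fact (Nat.Prime 2) := ⟨Nat.prime_two⟩
  obtain ⟨m, hm⟩ := IsPGroup.iff_card.1 (hP.to_le hDP)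
  exact aux A hA (Nat.card D) hD1 _ P rfl hP hAP hD2 ⟨m, hm⟩ hinv

end Cfsg.Agent.S3803
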