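import Cfsg.Statements.S3804
import Cfsg.Agent.Lib.Solv.SetMul

set_option autoImplicit false
open Cfsg

open scoped Pointwise commutatorElement

namespace Cfsg.Agent.S3804

/-- Let G and H be subgroups of a finite group with G normalizing H, fix a real number α > 0, and for a subgroup A of G put m(A) = |A|^α · |C_H(A)|. Let A and B be nontrivial subgroups of G at which m attains its maximum over all nontrivial subgroups of G, and assume that A ∩ B ≠ 1 or that this maximum is at least |H|. Then AB = BA is a subgroup at which m is again maximal, C_H(A ∩ B) = C_H(A) C_H(B), and if A ∩ B ≠ 1 then m is maximal at A ∩ B as well. -/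
theorem result {X : Type*} [Group X] [Finite X] (G H : Subgroup X) (hGH : G ≤ Subgroup.normalizer (H : Set X)) (α : ℝ) (hα : 0 < α)
    (A B : Subgroup X) (hA : A ≤ G) (hB : B ≤ G) (hA1 : A ≠ ⊥) (hB1 : B ≠ ⊥)
    (hAmax : ∀ A' : Subgroup X, A' ≤ G → A' ≠ ⊥ → (fun A : Subgroup X => ((Nat.card A : ℝ) ^ α) * (Nat.card ↥(H ⊓ Subgroup.centralizer (A : Set X)) : ℝ)) A' ≤ (fun A : Subgroup X => ((Nat.card A : ℝ) ^ α) * (Nat.card ↥(H ⊓ Subgroup.centralizer (A : Set X)) : ℝ)) A)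
    (hBmax : ∀ A' : Subgroup X, A' ≤ G → A' ≠ ⊥ → (fun A : Subgroup X => ((Nat.card A : ℝ) ^ α) * (Nat.card ↥(H ⊓ Subgroup.centralizer (A : Set X)) : ℝ)) A' ≤ (fun A : Subgroup X => ((Nat.card A : ℝ) ^ α) * (Nat.card ↥(H ⊓ Subgroup.centralizer (A : Set X)) : ℝ)) B)
    (hcase : A ⊓ B ≠ ⊥ ∨ (Nat.card H : ℝ) ≤ (fun A : Subgroup X => ((Nat.card A : ℝ) ^ α) * (Nat.card ↥(H ⊓ Subgroup.centralizer (A : Set X)) : ℝ)) A) :
    (∀ a ∈ A, ∀ b ∈ B, ∃ b' ∈ B, ∃ a' ∈ A, a * b = b' * a') ∧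
    (∀ A' : Subgroup X, A' ≤ G → A' ≠ ⊥ → (fun A : Subgroup X => ((Nat.card A : ℝ) ^ α) * (Nat.card ↥(H ⊓ Subgroup.centralizer (A : Set X)) : ℝ)) A' ≤ (fun A : Subgroup X => ((Nat.card A : ℝ) ^ α) * (Nat.card ↥(H ⊓ Subgroup.centralizer (A : Set X)) : ℝ)) (A ⊔ B)) ∧
    (∀ h ∈ H ⊓ Subgroup.centralizer ((A ⊓ B : Subgroup X) : Set X), ∃ u ∈ H ⊓ Subgroup.centralizer (A : Set X), ∃ v ∈ H ⊓ Subgroup.centralizer (B : Set X), h = u * v) ∧
    (A ⊓ B ≠ ⊥ → ∀ A' : Subgroup X, A' ≤ G → A' ≠ ⊥ → (fun A : Subgroup X => ((Nat.card A : ℝ) ^ α) * (Nat.card ↥(H ⊓ Subgroup.centralizer (A : Set X)) : ℝ)) A' ≤ (fun A : Subgroup X => ((Nat.card A : ℝ) ^ α) * (Nat.card ↥(H ⊓ Subgroup.centralizer (A : Set X)) : ℝ)) (A ⊓ B)) := by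
  set m := fun A : Subgroup X => ((Nat.card A : ℝ) ^ α) *
    (Nat.card ↥(H ⊓ Subgroup.centralizer (A : Set X)) : ℝ) with hm
  set CA := H ⊓ Subgroup.centralizer (A : Set X)
  set CB := H ⊓ Subgroup.centralizer (B : Set X)
  set CI := H ⊓ Subgroup.centralizer ((A ⊓ B : Subgroup X) : Set X)
  set CS := H ⊓ Subgroup.centralizer ((A ⊔ B : Subgroup X) : Set X)
  have hCS : CS = CA ⊓ CB := by
    apply le_antisymm
    · exact le_inf (inf_le_inf_left _ (Subgroup.centralizer_le (le_sup_left : A ≤ A ⊔ B)))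
        (inf_le_inf_left _ (Subgroup.centralizer_le (le_sup_right : B ≤ A ⊔ B)))
    · rintro x ⟨⟨hxH, hxA⟩, ⟨-, hxB⟩⟩
      refine ⟨hxH, Subgroup.mem_centralizer_iff.2 fun y hy => ?_⟩
      have hle : A ⊔ B ≤ Subgroup.centralizer ({x} : Set X) :=
        sup_le (fun t ht => Subgroup.mem_centralizer_singleton_iff.2 (Subgroup.mem_centralizer_iff.1 hxA t ht))
          (fun t ht => Subgroup.mem_centralizer_singleton_iff.2 (Subgroup.mem_centralizer_iff.1 hxB t ht))
      exact Subgroup.mem_centralizer_singleton_iff.1 (hle hy)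
  -- product set estimates
  have hsA := Solv.card_mul_set_mul_card_inf A B
  have hsC := Solv.card_mul_set_mul_card_inf CA CB
  have hABsub : (A : Set X) * (B : Set X) ⊆ (A ⊔ B : Subgroup X) := by
    rintro _ ⟨a, ha, b, hb, rfl⟩; exact Subgroup.mul_mem_sup ha hb
  have hCsub : (CA : Set X) * (CB : Set X) ⊆ (CI : Subgroup X) := by
    rintro _ ⟨u, hu, v, hv, rfl⟩
    have h1 : CA ≤ CI := inf_le_inf_left _ (Subgroup.centralizer_le (inf_le_left : A ⊓ B ≤ A))
    have h2 : CB ≤ CI := inf_le_inf_left _ (Subgroup.centralizer_le (inf_le_right : A ⊓ B ≤ B))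
    exact CI.mul_mem (h1 hu) (h2 hv)
  have hn1 : Nat.card ((A : Set X) * (B : Set X) : Set X) ≤ Nat.card (A ⊔ B : Subgroup X) :=
    Nat.card_mono (Set.toFinite _) hABsub
  have hn2 : Nat.card ((CA : Set X) * (CB : Set X) : Set X) ≤ Nat.card CI :=
    Nat.card_mono (Set.toFinite _) hCsub
  rw [← hCS] at hsC
  -- in `ℝ`
  set a : ℝ := (Nat.card A : ℝ) with hra
  set b : ℝ := (Nat.card B : ℝ) with hrb
  set s : ℝ := (Nat.card (A ⊔ B : Subgroup X) : ℝ) with hrs
  set i : ℝ := (Nat.card (A ⊓ B : Subgroup X) : ℝ) with hri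
  set ab : ℝ := (Nat.card ((A : Set X) * (B : Set X) : Set X) : ℝ) with hrab
  set ca : ℝ := (Nat.card CA : ℝ) with hrca
  set cb : ℝ := (Nat.card CB : ℝ) with hrcb
  set cs : ℝ := (Nat.card CS : ℝ) with hrcs
  set ci : ℝ := (Nat.card CI : ℝ) with hrci
  set cc : ℝ := (Nat.card ((CA : Set X) * (CB : Set X) : Set X) : ℝ) with hrcc
  have hipos : 0 < i := by rw [hri]; exact_mod_cast Nat.card_pos
  have hspos : 0 < s := by rw [hrs]; exact_mod_cast Nat.card_pos
  have hcspos : 0 < cs := by rw [hrcs]; exact_mod_cast Nat.card_pos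
  have hcipos : 0 < ci := by rw [hrci]; exact_mod_cast Nat.card_pos
  have habpos : 0 ≤ ab := by rw [hrab]; positivity
  have hccpos : 0 ≤ cc := by rw [hrcc]; positivity
  have e1 : ab * i = a * b := by rw [hrab, hri, hra, hrb]; exact_mod_cast hsA
  have e2 : cc * cs = ca * cb := by rw [hrcc, hrcs, hrca, hrcb]; exact_mod_cast hsC
  have l1 : ab ≤ s := by rw [hrab, hrs]; exact_mod_cast hn1
  have l2 : cc ≤ ci := by rw [hrcc, hrci]; exact_mod_cast hn2
  have hS1 : A ⊔ B ≠ ⊥ := fun h => hA1 (le_bot_iff.1 (h ▸ (le_sup_left : A ≤ A ⊔ B)))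
  have hSle : m (A ⊔ B) ≤ m A := hAmax _ (sup_le hA hB) hS1
  have hIle : m (A ⊓ B) ≤ m A := by
    by_cases hI : A ⊓ B = ⊥
    · have hH : (Nat.card H : ℝ) ≤ m A := hcase.resolve_left (not_not.2 hI)
      refine le_trans (le_of_eq ?_) hH
      show ((Nat.card (A ⊓ B : Subgroup X) : ℝ) ^ α) * _ = _
      rw [hI, Subgroup.card_bot, Nat.cast_one, Real.one_rpow, one_mul]
      have : H ⊓ Subgroup.centralizer ((⊥ : Subgroup X) : Set X) = H := inf_eq_left.2 fun x _ =>
        Subgroup.mem_centralizer_iff.2 fun y hy => by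
          rw [Subgroup.mem_bot.1 hy, one_mul, mul_one]
      rw [this]
    · exact hAmax _ (inf_le_left.trans hA) hI
  have hBA : m B = m A := le_antisymm (hAmax B hB hB1) (hBmax A hA hA1)
  have hmA : m A = a ^ α * ca := rfl
  have hmB : m B = b ^ α * cb := rfl
  have hmS : m (A ⊔ B) = s ^ α * cs := rfl
  have hmI : m (A ⊓ B) = i ^ α * ci := rfl
  have happ : 0 < a := by rw [hra]; exact_mod_cast Nat.card_pos
  have hbpp : 0 < b := by rw [hrb]; exact_mod_cast Nat.card_pos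
  have hcapos : 0 < ca := by rw [hrca]; exact_mod_cast Nat.card_pos
  have hMpos : 0 < m A := by rw [hmA]; positivity
  have hprod : m A * m A = (ab * i) ^ α * (cc * cs) := by
    rw [e1, e2, Real.mul_rpow happ.le hbpp.le]
    nth_rw 2 [← hBA]
    rw [hmA, hmB]; ring
  have hchain : m A * m A ≤ m (A ⊔ B) * m (A ⊓ B) := by
    rw [hprod, hmS, hmI, Real.mul_rpow habpos hipos.le]
    have h1 : ab ^ α ≤ s ^ α := Real.rpow_le_rpow habpos l1 hα.le
    have h2 : ab ^ α * cc ≤ s ^ α * ci := mul_le_mul h1 l2 hccpos (Real.rpow_nonneg hspos.le α)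
    have h3 : 0 ≤ i ^ α * cs := by positivity
    nlinarith [mul_le_mul_of_nonneg_right h2 h3]
  have hSeq : m (A ⊔ B) = m A := by
    refine le_antisymm hSle ?_
    have h2 : m (A ⊔ B) * m (A ⊓ B) ≤ m (A ⊔ B) * m A :=
      mul_le_mul_of_nonneg_left hIle (by rw [hmS]; positivity)
    exact le_of_mul_le_mul_right (hchain.trans h2) hMpos
  have hIeq : m (A ⊓ B) = m A := by
    refine le_antisymm hIle ?_
    rw [hSeq] at hchain
    exact le_of_mul_le_mul_left hchain hMpos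
  have habs : ab = s := by
    by_contra hne
    have hlt : ab < s := lt_of_le_of_ne l1 hne
    have h1 : ab ^ α < s ^ α := Real.rpow_lt_rpow habpos hlt hα
    have h2 : m A * m A < m (A ⊔ B) * m (A ⊓ B) := by
      rw [hprod, hmS, hmI, Real.mul_rpow habpos hipos.le]
      have h3 : ab ^ α * cc < s ^ α * ci := by
        calc ab ^ α * cc ≤ ab ^ α * ci := mul_le_mul_of_nonneg_left l2 (Real.rpow_nonneg habpos α)
          _ < s ^ α * ci := mul_lt_mul_of_pos_right h1 hcipos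
      have h4 : 0 < i ^ α * cs := by positivity
      nlinarith [mul_lt_mul_of_pos_right h3 h4]
    rw [hSeq, hIeq] at h2
    exact lt_irrefl _ h2
  have hccs : cc = ci := by
    by_contra hne
    have hlt : cc < ci := lt_of_le_of_ne l2 hne
    have h2 : m A * m A < m (A ⊔ B) * m (A ⊓ B) := by
      rw [hprod, hmS, hmI, Real.mul_rpow habpos hipos.le, habs]
      have h3 : s ^ α * cc < s ^ α * ci := mul_lt_mul_of_pos_left hlt (Real.rpow_pos_of_pos hspos α)
      have h4 : 0 < i ^ α * cs := by positivity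
      nlinarith [mul_lt_mul_of_pos_right h3 h4]
    rw [hSeq, hIeq] at h2
    exact lt_irrefl _ h2
  refine ⟨?_, fun A' h1 h2 => (hAmax A' h1 h2).trans hSeq.ge, ?_,
    fun _ A' h1 h2 => (hAmax A' h1 h2).trans hIeq.ge⟩
  · intro x hx y hy
    have heq : (A : Set X) * (B : Set X) = ((A ⊔ B : Subgroup X) : Set X) := by
      refine Set.eq_of_subset_of_ncard_le hABsub (le_of_eq ?_) (Set.toFinite _)
      rw [← Nat.card_coe_set_eq, ← Nat.card_coe_set_eq]
      rw [hrab, hrs] at habs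
      exact_mod_cast habs.symm
    have h := (A ⊔ B).inv_mem (Subgroup.mul_mem_sup hx hy)
    rw [← SetLike.mem_coe, ← heq] at h
    obtain ⟨a', ha', b', hb', e⟩ := h
    refine ⟨b'⁻¹, B.inv_mem hb', a'⁻¹, A.inv_mem ha', ?_⟩
    rw [← mul_inv_rev, show a' * b' = (x * y)⁻¹ from e, inv_inv]
  · intro h hh
    have heq : (CA : Set X) * (CB : Set X) = (CI : Set X) := by
      refine Set.eq_of_subset_of_ncard_le hCsub (le_of_eq ?_) (Set.toFinite _)
      rw [← Nat.card_coe_set_eq, ← Nat.card_coe_set_eq]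
      rw [hrcc, hrci] at hccs
      exact_mod_cast hccs.symm
    rw [← SetLike.mem_coe, ← heq] at hh
    obtain ⟨u, hu, v, hv, e⟩ := hh
    exact ⟨u, hu, v, hv, e.symm⟩

end Cfsg.Agent.S3804
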