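import Cfsg.Statements.S3806
import Cfsg.Agent.Lib.Solv.MaxSub

set_option autoImplicit false
open Cfsg
open scoped commutatorElement

namespace Cfsg.Agent.S3806

/-- Let p be a prime and S a finite p-group of order pⁿ (n ≥ 2) of maximal nilpotency class n − 1 whose sectional p-rank is exactly k (every section has p-rank at most k, and some section has p-rank k). If p ≥ k + 2 then the order of S is at most p^(2k). -/
theorem result {S : Type*} [Group S] [Finite S] (p : ℕ) [Fact p.Prime] (hS : IsPGroup p S) [Group.IsNilpotent S]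
    (n : ℕ) (hn : 2 ≤ n) (hcard : Nat.card S = p ^ n) (hmax : Group.nilpotencyClass S = n - 1)
    (k : ℕ) (hk : 1 ≤ k) (hsr : Cfsg.SectionalPRankLE p k S ∧ ¬ Cfsg.SectionalPRankLE p (k - 1) S)
    (hpk : k + 2 ≤ p) : Nat.card S ≤ p ^ (2 * k) := by
  classical
  have h := Solv.MaxC.isMax_of_class hn hcard hmax
  rw [hcard]
  refine Nat.pow_le_pow_right (Fact.out : p.Prime).pos ?_
  by_contra hlt
  push Not at hlt
  have h3 : 3 ≤ n := by omega
  let N : ℕ → Subgroup S := Solv.PolySeq.F S
  have hker : ∀ t : Subgroup S, ∀ M : Subgroup S, M.Normal → M ≤ t → (∀ a ∈ t, ∀ b ∈ t, ⁅a, b⁆ ∈ M) →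
      (∀ a ∈ t, a ^ p ∈ M) → Nat.card t ≤ p ^ k * Nat.card M := by
    intro t M hM hMt hc hpw
    haveI : (M.subgroupOf t).Normal := hM.subgroupOf t
    have hr := hsr.1 t (M.subgroupOf t) ⊤ ⟨⟨fun a b => ?_⟩⟩ ?_
    · rw [Subgroup.card_top] at hr
      have e := (M.subgroupOf t).card_mul_index
      rw [Subgroup.index_eq_card, Nat.card_congr (Subgroup.subgroupOfEquivOfLe hMt).toEquiv] at e
      rw [← e, Nat.mul_comm]
      exact Nat.mul_le_mul_right _ hr
    · refine Subtype.ext ?_
      obtain ⟨a', ha'⟩ := QuotientGroup.mk'_surjective (M.subgroupOf t) (a : t ⧸ M.subgroupOf t)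
      obtain ⟨b', hb'⟩ := QuotientGroup.mk'_surjective (M.subgroupOf t) (b : t ⧸ M.subgroupOf t)
      show (a : t ⧸ M.subgroupOf t) * b = b * a
      rw [← ha', ← hb', ← commutatorElement_eq_one_iff_mul_comm, ← map_commutatorElement]
      exact (QuotientGroup.eq_one_iff _).2 (hc _ a'.2 _ b'.2)
    · intro a _
      obtain ⟨a', rfl⟩ := QuotientGroup.mk'_surjective (M.subgroupOf t) a
      rw [← map_pow]
      exact (QuotientGroup.eq_one_iff _).2 (hpw _ a'.2)
  rcases eq_or_lt_of_le hk with rfl | hk2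
  · have := hker ⊤ (Solv.PolySeq.F S 2) inferInstance le_top
      (fun a _ b _ => Solv.PolySeq.F_commutator (show a ∈ Solv.PolySeq.F S 1 from Subgroup.mem_top a)
        (show b ∈ Solv.PolySeq.F S 1 from Subgroup.mem_top b))
      (fun a _ => h.pow_mem_F_two h3 a)
    rw [Subgroup.card_top, h.card, h.F_card le_rfl hn, ← pow_add,
      Nat.pow_le_pow_iff_right (Fact.out : p.Prime).one_lt] at this
    omega
  · have hC : ∀ a ∈ Solv.PolySeq.F S k, ∀ b ∈ Solv.PolySeq.F S k,
        ⁅a, b⁆ ∈ Solv.PolySeq.F S (2 * k + 1) := by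
      obtain ⟨c, hc, hc'⟩ := h.exists_mem_not_mem (show 1 ≤ k by omega) (by omega)
      intro a ha b hb
      rw [h.F_gen (by omega) hc hc'] at ha hb
      have hl := Solv.MaxC.lcs_sup_le (G := S) (e := k) (m := k + 1) (by omega) (by omega) hc 1 le_rfl
      rw [Subgroup.lowerCentralSeries_succ, Subgroup.lowerCentralSeries_zero,
        show k + 1 + 1 * k = 2 * k + 1 by omega] at hl
      exact hl (Subgroup.commutator_mem_commutator ha hb)
    have := hker (Solv.PolySeq.F S k) (Solv.PolySeq.F S (2 * k + 1)) inferInstance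
      (Solv.PolySeq.F_antitone (by omega)) hC
      (fun a ha => Solv.PolySeq.F_antitone (by omega) (h.pow_mem h3 (by omega) ha))
    rw [h.F_card (by omega) (by omega), h.F_card (by omega) (by omega), ← pow_add,
      Nat.pow_le_pow_iff_right (Fact.out : p.Prime).one_lt] at this
    omega

end Cfsg.Agent.S3806
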