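import Cfsg.Statements.S3807
import Cfsg.Agent.Lib.Solv.Extraspecial

set_option autoImplicit false
set_option linter.style.haveILetI false
open Cfsg

open scoped Pointwise commutatorElement

namespace Cfsg.Agent.S3807

theorem count_prime_subgroups {W : Type*} [Group W] [Finite W] {p : ℕ} (hp : p.Prime)
    (hW : Nat.card W = p ^ 2) (hexp : ∀ w : W, w ^ p = 1) :
    Nat.card {L : Subgroup W // Nat.card L = p} = p + 1 := by
  classical
  haveI := Fintype.ofFinite W
  haveI := Fintype.ofFinite {L : Subgroup W // Nat.card L = p}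
  haveI := Fact.mk hp
  have hgen : ∀ (L : Subgroup W), Nat.card L = p → ∀ w ∈ L, w ≠ 1 → Subgroup.zpowers w = L :=
    fun L hL w hw hw1 => Subgroup.eq_of_le_of_card_ge (Subgroup.zpowers_le.2 hw) (by
      rw [Nat.card_zpowers, orderOf_eq_prime (hexp w) hw1, hL])
  let e : (Σ L : {L : Subgroup W // Nat.card L = p}, {w : L.1 // w ≠ 1}) ≃ {w : W // w ≠ 1} :=
    Equiv.ofBijective (fun x => ⟨x.2.1.1, fun h => x.2.2 (Subtype.ext h)⟩) ⟨by
      rintro ⟨⟨L, hL⟩, ⟨⟨w, hw⟩, hw1⟩⟩ ⟨⟨L', hL'⟩, ⟨⟨w', hw'⟩, hw1'⟩⟩ h
      obtain rfl : w = w' := congrArg Subtype.val h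
      have hne : w ≠ 1 := fun e => hw1 (Subtype.ext e)
      obtain rfl : L = L' := (hgen L hL w hw hne).symm.trans (hgen L' hL' w hw' hne)
      rfl, by
      rintro ⟨w, hw⟩
      refine ⟨⟨⟨Subgroup.zpowers w, by rw [Nat.card_zpowers, orderOf_eq_prime (hexp w) hw]⟩,
        ⟨⟨w, Subgroup.mem_zpowers w⟩, fun h => hw (congrArg Subtype.val h)⟩⟩, rfl⟩⟩
  have hcount := Nat.card_congr e
  have hne1 : ∀ {H : Type _} [Group H] [Finite H], Nat.card {w : H // w ≠ 1} = Nat.card H - 1 := by
    intro H _ _
    haveI := Fintype.ofFinite H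
    rw [Nat.card_eq_fintype_card, Nat.card_eq_fintype_card]
    simp
  rw [Nat.card_sigma, Finset.sum_congr rfl (fun L _ => by rw [hne1, L.2] :
    ∀ L ∈ (Finset.univ : Finset {L : Subgroup W // Nat.card L = p}), _ = p - 1),
    Finset.sum_const, Finset.card_univ, ← Nat.card_eq_fintype_card, smul_eq_mul, hne1, hW] at hcount
  obtain ⟨q, rfl⟩ : ∃ q, p = q + 1 := ⟨p - 1, by have := hp.pos; omega⟩
  have hq : 0 < q := by have := hp.two_le; omega
  rw [Nat.add_sub_cancel] at hcount
  refine Nat.eq_of_mul_eq_mul_right hq (hcount.trans ?_)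
  have : (q + 1) ^ 2 = (q + 1 + 1) * q + 1 := by ring
  omega

/-- Let S be a non-abelian finite p-group with an abelian subgroup A of index p. Then [S : Z(S)] = p·#[S,S], and either [S,S] has order p, S/Z(S) is elementary abelian of order p², and S has exactly p + 1 abelian subgroups of index p; or [S,S] has order at least p² and A is the only abelian subgroup of index p in S. -/
theorem result {S : Type*} [Group S] [Finite S] (p : ℕ) [Fact p.Prime] (hS : IsPGroup p S) (hna : ¬ IsMulCommutative S)
    (A : Subgroup S) (hA : IsMulCommutative ↥A) (hAi : A.index = p) :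
    (Subgroup.center S).index = p * Nat.card (commutator S) ∧
      ((Nat.card (commutator S) = p ∧ Cfsg.IsElementaryAbelian p (⊤ : Subgroup (S ⧸ Subgroup.center S)) ∧
          Nat.card (S ⧸ Subgroup.center S) = p ^ 2 ∧
          Nat.card {B : Subgroup S // IsMulCommutative ↥B ∧ B.index = p} = p + 1) ∨
        (p ^ 2 ≤ Nat.card (commutator S) ∧ ∀ B : Subgroup S, IsMulCommutative ↥B → B.index = p → B = A)) := by
  have hp : p.Prime := Fact.out
  haveI := Solv.normal_of_index_prime hS hAi
  have hAA : ∀ a ∈ A, ∀ b ∈ A, a * b = b * a := fun a ha b hb =>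
    congrArg Subtype.val (hA.is_comm.comm ⟨a, ha⟩ ⟨b, hb⟩)
  obtain ⟨s, hs⟩ : ∃ s, s ∉ A := by
    by_contra h
    simp only [not_exists, not_not] at h
    exact hna ⟨⟨fun a b => hAA a (h a) b (h b)⟩⟩
  have htop : A ⊔ Subgroup.zpowers s = ⊤ := by
    rcases (Nat.dvd_prime hp).1 (hAi ▸ Subgroup.index_dvd_of_le
      (le_sup_left : A ≤ A ⊔ Subgroup.zpowers s)) with h | h
    · exact Subgroup.index_eq_one.1 h
    · refine absurd ?_ hs
      have : A = A ⊔ Subgroup.zpowers s := by
        refine Subgroup.eq_of_le_of_card_ge le_sup_left (le_of_eq ?_)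
        have h1 := A.card_mul_index
        rw [hAi, ← (A ⊔ Subgroup.zpowers s).card_mul_index, h] at h1
        exact (Nat.eq_of_mul_eq_mul_right hp.pos h1).symm
      exact this ▸ Subgroup.mem_sup_right (Subgroup.mem_zpowers s)
  have hgen : ∀ (P : Subgroup S), A ≤ P → s ∈ P → ∀ g, g ∈ P := fun P h1 h2 g =>
    (sup_le h1 (Subgroup.zpowers_le.2 h2) : A ⊔ Subgroup.zpowers s ≤ P) (htop ▸ Subgroup.mem_top g)
  have hdA : commutator S ≤ A := Solv.commutator_le_of_index_prime hS hAi
  have hsa : ∀ a b, ⁅a, b⁆ ∈ A := fun a b =>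
    hdA (Subgroup.commutator_mem_commutator (Subgroup.mem_top a) (Subgroup.mem_top b))
  obtain ⟨φ, hφ⟩ : ∃ φ : A →* S, ∀ a : A, φ a = ⁅(a : S), s⁆ :=
    ⟨MonoidHom.mk' (fun a : A => ⁅(a : S), s⁆) fun a b => by
      have h1 : ⁅(a * b : S), s⁆ = (a : S) * ⁅(b : S), s⁆ * (a : S)⁻¹ * ⁅(a : S), s⁆ := by
        rw [commutatorElement_def, commutatorElement_def, commutatorElement_def]; group
      rw [Subgroup.coe_mul, h1, hAA _ a.2 _ (hsa _ _), mul_inv_cancel_right, hAA _ (hsa _ _) _ (hsa _ _)],
    fun a => rfl⟩
  have hker : φ.ker = (Subgroup.center S).subgroupOf A := Subgroup.ext fun a => by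
    rw [MonoidHom.mem_ker, hφ, commutatorElement_eq_one_iff_mul_comm, Subgroup.mem_subgroupOf]
    refine ⟨fun h => Subgroup.mem_center_iff.2 fun g => ?_,
      fun h => (Subgroup.mem_center_iff.1 h s).symm⟩
    exact Subgroup.mem_centralizer_singleton_iff.1 (hgen (Subgroup.centralizer {(a : S)})
      (fun b hb => Subgroup.mem_centralizer_singleton_iff.2 (hAA b hb a a.2))
      (Subgroup.mem_centralizer_singleton_iff.2 h.symm) g)
  have hZA : Subgroup.center S ≤ A := fun z hz => by
    by_contra hzA
    refine hs (?_ : s ∈ A)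
    exfalso
    refine hna ⟨⟨fun a b => ?_⟩⟩
    have hall : ∀ g, g ∈ Subgroup.center S := by
      have htop' : A ⊔ Subgroup.zpowers z = ⊤ := by
        rcases (Nat.dvd_prime hp).1 (hAi ▸ Subgroup.index_dvd_of_le
          (le_sup_left : A ≤ A ⊔ Subgroup.zpowers z)) with h | h
        · exact Subgroup.index_eq_one.1 h
        · refine absurd ?_ hzA
          have : A = A ⊔ Subgroup.zpowers z := by
            refine Subgroup.eq_of_le_of_card_ge le_sup_left (le_of_eq ?_)
            have h1 := A.card_mul_index
            rw [hAi, ← (A ⊔ Subgroup.zpowers z).card_mul_index, h] at h1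
            exact (Nat.eq_of_mul_eq_mul_right hp.pos h1).symm
          exact this ▸ Subgroup.mem_sup_right (Subgroup.mem_zpowers z)
      have hAc : A ≤ Subgroup.center S := fun a ha => Subgroup.mem_center_iff.2 fun g => by
        have hle : A ⊔ Subgroup.zpowers z ≤ Subgroup.centralizer {a} := sup_le
          (fun b hb => Subgroup.mem_centralizer_singleton_iff.2 (hAA b hb a ha))
          (Subgroup.zpowers_le.2 (Subgroup.mem_centralizer_singleton_iff.2
            (Subgroup.mem_center_iff.1 hz a).symm))
        exact Subgroup.mem_centralizer_singleton_iff.1 (hle (htop' ▸ Subgroup.mem_top g))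
      exact fun g => (sup_le hAc (Subgroup.zpowers_le.2 hz)) (htop' ▸ Subgroup.mem_top g)
    exact Subgroup.mem_center_iff.1 (hall b) a
  have himg : φ.range = commutator S := by
    refine le_antisymm ?_ ?_
    · rintro _ ⟨a, rfl⟩
      rw [hφ]
      exact Subgroup.commutator_mem_commutator (Subgroup.mem_top _) (Subgroup.mem_top _)
    have hRA : φ.range ≤ A := by
      rintro _ ⟨a, rfl⟩
      rw [hφ]; exact hsa _ _
    haveI : φ.range.Normal := ⟨fun r hr g => by
      have hP : g ∈ Subgroup.normalizer (φ.range : Set S) := by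
        refine hgen _ (fun b hb => ?_) ?_ g
        · refine Subgroup.mem_normalizer_fintype fun r' hr' => ?_
          show b * r' * b⁻¹ ∈ φ.range
          rw [hAA b hb r' (hRA hr'), mul_inv_cancel_right]
          exact hr'
        · refine Subgroup.mem_normalizer_fintype fun r' hr' => ?_
          obtain ⟨a, rfl⟩ := hr'
          refine ⟨⟨s * a * s⁻¹, (inferInstance : A.Normal).conj_mem _ a.2 s⟩, ?_⟩
          rw [hφ, hφ, commutatorElement_def, commutatorElement_def]; group
      exact (Subgroup.mem_normalizer_iff.1 hP r).1 hr⟩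
    rw [commutator_def, Subgroup.commutator_le]
    intro a _ b _
    rw [← QuotientGroup.eq_one_iff, ← QuotientGroup.mk'_apply, map_commutatorElement,
      commutatorElement_eq_one_iff_mul_comm]
    have key : ∀ x, x ∈ A ∨ x = s → ∀ g, g ∈ (Subgroup.centralizer
        {QuotientGroup.mk' φ.range x}).comap (QuotientGroup.mk' φ.range) := by
      intro x hx
      refine hgen _ (fun b hb => ?_) ?_
      · rw [Subgroup.mem_comap, Subgroup.mem_centralizer_singleton_iff]
        rcases hx with hx | rfl
        · rw [← map_mul, ← map_mul, hAA b hb x hx]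
        · rw [← commutatorElement_eq_one_iff_mul_comm, ← map_commutatorElement,
            QuotientGroup.mk'_apply, QuotientGroup.eq_one_iff]
          exact ⟨⟨b, hb⟩, hφ _⟩
      · rw [Subgroup.mem_comap, Subgroup.mem_centralizer_singleton_iff]
        rcases hx with hx | rfl
        · refine (?_ : QuotientGroup.mk' φ.range x * QuotientGroup.mk' φ.range s = _).symm
          rw [← commutatorElement_eq_one_iff_mul_comm, ← map_commutatorElement,
            QuotientGroup.mk'_apply, QuotientGroup.eq_one_iff]
          exact ⟨⟨x, hx⟩, hφ _⟩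
        · rfl
    have key2 : b ∈ (Subgroup.centralizer {QuotientGroup.mk' φ.range a}).comap
        (QuotientGroup.mk' φ.range) := by
      refine hgen _ (fun x hx => ?_) ?_ b
      · rw [Subgroup.mem_comap, Subgroup.mem_centralizer_singleton_iff]
        exact (Subgroup.mem_centralizer_singleton_iff.1 (key x (Or.inl hx) a)).symm
      · rw [Subgroup.mem_comap, Subgroup.mem_centralizer_singleton_iff]
        exact (Subgroup.mem_centralizer_singleton_iff.1 (key s (Or.inr rfl) a)).symm
    exact (Subgroup.mem_centralizer_singleton_iff.1 key2).symm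
  have hidx : (Subgroup.center S).index = p * Nat.card (commutator S) := by
    rw [← Subgroup.relIndex_mul_index hZA, hAi, Subgroup.relIndex, ← hker, Subgroup.index_ker,
      himg, mul_comm]
  refine ⟨hidx, ?_⟩
  obtain ⟨k, hk⟩ := IsPGroup.iff_card.1 (hS.to_subgroup (commutator S))
  have hBZ : ∀ B : Subgroup S, IsMulCommutative ↥B → B.index = p → Subgroup.center S ≤ B := by
    intro B hB hBi z hz
    by_contra hzB
    have htop' : B ⊔ Subgroup.zpowers z = ⊤ := by
      rcases (Nat.dvd_prime hp).1 (hBi ▸ Subgroup.index_dvd_of_le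
        (le_sup_left : B ≤ B ⊔ Subgroup.zpowers z)) with h | h
      · exact Subgroup.index_eq_one.1 h
      · refine absurd ?_ hzB
        have : B = B ⊔ Subgroup.zpowers z := by
          refine Subgroup.eq_of_le_of_card_ge le_sup_left (le_of_eq ?_)
          have h1 := B.card_mul_index
          rw [hBi, ← (B ⊔ Subgroup.zpowers z).card_mul_index, h] at h1
          exact (Nat.eq_of_mul_eq_mul_right hp.pos h1).symm
        exact this ▸ Subgroup.mem_sup_right (Subgroup.mem_zpowers z)
    refine hna ⟨⟨fun a b => ?_⟩⟩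
    have hBc : B ≤ Subgroup.center S := fun c hc => Subgroup.mem_center_iff.2 fun g => by
      have hle : B ⊔ Subgroup.zpowers z ≤ Subgroup.centralizer {c} := sup_le
        (fun d hd => Subgroup.mem_centralizer_singleton_iff.2
          (congrArg Subtype.val (hB.is_comm.comm ⟨d, hd⟩ ⟨c, hc⟩)))
        (Subgroup.zpowers_le.2 (Subgroup.mem_centralizer_singleton_iff.2
          (Subgroup.mem_center_iff.1 hz c).symm))
      exact Subgroup.mem_centralizer_singleton_iff.1 (hle (htop' ▸ Subgroup.mem_top g))
    exact Subgroup.mem_center_iff.1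
      ((sup_le hBc (Subgroup.zpowers_le.2 hz)) (htop' ▸ Subgroup.mem_top b)) a
  have hk0 : k ≠ 0 := fun h0 => by
    rw [h0, pow_zero] at hk
    have hbot : commutator S = ⊥ := Subgroup.eq_bot_of_card_eq _ hk
    refine hna ⟨⟨fun a b => commutatorElement_eq_one_iff_mul_comm.1 ?_⟩⟩
    rw [← Subgroup.mem_bot, ← hbot]
    exact Subgroup.commutator_mem_commutator (Subgroup.mem_top _) (Subgroup.mem_top _)
  rcases Nat.lt_or_ge k 2 with h2 | h2
  · left
    obtain rfl : k = 1 := by omega
    rw [pow_one] at hk
    have hqc : Nat.card (S ⧸ Subgroup.center S) = p ^ 2 := by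
      rw [← Subgroup.index_eq_card, hidx, hk, sq]
    have hcomm := IsPGroup.isMulCommutative_of_card_eq_prime_sq hqc
    have hexp : ∀ w : S ⧸ Subgroup.center S, w ^ p = 1 := by
      intro w
      have hd : orderOf w ∣ p ^ 2 := hqc ▸ orderOf_dvd_natCard w
      obtain ⟨j, hj, hj'⟩ := (Nat.dvd_prime_pow hp).1 hd
      rcases Nat.lt_or_ge j 2 with h | h
      · exact orderOf_dvd_iff_pow_eq_one.1 (hj' ▸ (pow_dvd_pow p (by omega : j ≤ 1)).trans (pow_one p).dvd)
      · exfalso
        haveI : IsCyclic (S ⧸ Subgroup.center S) :=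
          isCyclic_of_orderOf_eq_card w (by rw [hj', hqc, show j = 2 by omega])
        exact hna ⟨⟨fun a b => ((QuotientGroup.mk' (Subgroup.center S)).isMulCommutative_of_isCyclic_of_ker_le_center
          (QuotientGroup.ker_mk' _).le).is_comm.comm a b⟩⟩
    refine ⟨hk, ⟨⟨⟨fun a b => Subtype.ext (hcomm.is_comm.comm _ _)⟩⟩, fun w _ => hexp w⟩, hqc, ?_⟩
    have e1 : {B : Subgroup S // IsMulCommutative ↥B ∧ B.index = p} ≃
        {L : Subgroup (S ⧸ Subgroup.center S) // Nat.card L = p} :=
      { toFun := fun B => ⟨B.1.map (QuotientGroup.mk' (Subgroup.center S)), by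
          have h1 : (B.1.map (QuotientGroup.mk' (Subgroup.center S))).index = p := by
            rw [Subgroup.index_map_eq (f := QuotientGroup.mk' (Subgroup.center S))
              B.1 (QuotientGroup.mk'_surjective _) (by
                rw [QuotientGroup.ker_mk']; exact hBZ _ B.2.1 B.2.2), B.2.2]
          have h2 := (B.1.map (QuotientGroup.mk' (Subgroup.center S))).card_mul_index
          rw [h1, hqc, sq] at h2
          exact Nat.eq_of_mul_eq_mul_right hp.pos h2⟩
        invFun := fun L => ⟨L.1.comap (QuotientGroup.mk' (Subgroup.center S)), by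
          refine ⟨⟨⟨fun a b => ?_⟩⟩, ?_⟩
          · haveI : Fact (Nat.card L.1).Prime := ⟨by rw [L.2]; exact hp⟩
            haveI : IsCyclic L.1 := isCyclic_of_prime_card (α := L.1) rfl
            refine (MonoidHom.isMulCommutative_of_isCyclic_of_ker_le_center
              (((QuotientGroup.mk' (Subgroup.center S)).comp
                (L.1.comap (QuotientGroup.mk' (Subgroup.center S))).subtype).codRestrict L.1
                fun x => x.2) fun x hx => ?_).is_comm.comm a b
            have hx' : QuotientGroup.mk' (Subgroup.center S) (x : S) = 1 := congrArg Subtype.val hx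
            rw [QuotientGroup.mk'_apply, QuotientGroup.eq_one_iff] at hx'
            exact Subgroup.mem_center_iff.2 fun g => Subtype.ext (Subgroup.mem_center_iff.1 hx' g)
          · rw [Subgroup.index_comap_of_surjective _ (QuotientGroup.mk'_surjective _)]
            have h2 := L.1.card_mul_index
            rw [L.2, hqc, sq] at h2
            exact Nat.eq_of_mul_eq_mul_left hp.pos h2⟩
        left_inv := fun B => Subtype.ext (Subgroup.comap_map_eq_self (by
          rw [QuotientGroup.ker_mk']; exact hBZ _ B.2.1 B.2.2))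
        right_inv := fun L => Subtype.ext
          (Subgroup.map_comap_eq_self_of_surjective (QuotientGroup.mk'_surjective _) _) }
    rw [Nat.card_congr e1]
    exact count_prime_subgroups hp hqc hexp
  · right
    refine ⟨hk ▸ Nat.pow_le_pow_right hp.pos h2, fun B hB hBi => ?_⟩
    by_contra hne
    have hBn := Solv.normal_of_index_prime hS hBi
    have htop' : A ⊔ B = ⊤ := by
      rcases (Nat.dvd_prime hp).1 (hAi ▸ Subgroup.index_dvd_of_le
        (le_sup_left : A ≤ A ⊔ B)) with h | h
      · exact Subgroup.index_eq_one.1 h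
      · exfalso
        have hc1 : Nat.card B = Nat.card A := by
          have h1 := A.card_mul_index
          rw [hAi, ← B.card_mul_index, hBi] at h1
          exact (Nat.eq_of_mul_eq_mul_right hp.pos h1).symm
        have hc2 : Nat.card (A ⊔ B : Subgroup S) = Nat.card A := by
          have h1 := A.card_mul_index
          rw [hAi, ← (A ⊔ B).card_mul_index, h] at h1
          exact (Nat.eq_of_mul_eq_mul_right hp.pos h1).symm
        refine hne (Subgroup.eq_of_le_of_card_ge ?_ hc1.ge)
        exact le_sup_right.trans (Subgroup.eq_of_le_of_card_ge (le_sup_left : A ≤ A ⊔ B) hc2.le).ge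
    have hle : A ⊓ B ≤ Subgroup.center S := fun c hc => Subgroup.mem_center_iff.2 fun g => by
      have h1 : A ⊔ B ≤ Subgroup.centralizer {c} := sup_le
        (fun d hd => Subgroup.mem_centralizer_singleton_iff.2 (hAA d hd c hc.1))
        (fun d hd => Subgroup.mem_centralizer_singleton_iff.2
          (congrArg Subtype.val (hB.is_comm.comm ⟨d, hd⟩ ⟨c, hc.2⟩)))
      exact Subgroup.mem_centralizer_singleton_iff.1 (h1 (htop' ▸ Subgroup.mem_top g))
    have h1 : (Subgroup.center S).index ≤ p * p :=
      (Nat.le_of_dvd (Nat.pos_of_ne_zero Subgroup.index_ne_zero_of_finite)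
        (Subgroup.index_dvd_of_le hle)).trans (by
          calc (A ⊓ B).index ≤ A.index * B.index := Subgroup.index_inf_le
            _ = p * p := by rw [hAi, hBi])
    rw [hidx, hk] at h1
    have h3 := Nat.le_of_mul_le_mul_left h1 hp.pos
    have h4 := (Nat.pow_le_pow_right hp.pos h2).trans h3
    have := hp.one_lt
    nlinarith

end Cfsg.Agent.S3807
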