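import Cfsg.Statements.S3808
import Cfsg.Agent.Lib.Solv.Basic

set_option autoImplicit false
open Cfsg

open scoped Pointwise commutatorElement

namespace Cfsg.Agent.S3808

/-- Let S be a finite p-group with an extraspecial subgroup Q of index p. Then either Z(S) = Z(Q), or S = Q·Z(S) and Z(S) has order p². -/
theorem result {S : Type*} [Group S] [Finite S] (p : ℕ) [Fact p.Prime] (hS : IsPGroup p S) (Q : Subgroup S) (hQ : Cfsg.IsExtraspecial p ↥Q) (hQi : Q.index = p) :
    Subgroup.center S = (Subgroup.center ↥Q).map Q.subtype ∨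
      (Q ⊔ Subgroup.center S = ⊤ ∧ Nat.card (Subgroup.center S) = p ^ 2) := by
  have hp : p.Prime := Fact.out
  set Z₀ := (Subgroup.center ↥Q).map Q.subtype with hZ₀
  have hQn : Q.Normal := by
    have : Group.IsNilpotent S := hS.isNilpotent
    have hco : IsCoatom Q := by
      refine ⟨fun h => hp.ne_one (by rw [← hQi, h, Subgroup.index_top]), fun L hL => ?_⟩
      have h2 := Subgroup.index_dvd_of_le hL.le
      rw [hQi] at h2
      rcases (Nat.dvd_prime hp).1 h2 with h | h
      · exact Subgroup.index_eq_one.1 h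
      · exfalso
        refine hL.ne (Subgroup.eq_of_le_of_card_ge hL.le (le_of_eq ?_))
        have h3 := Q.card_mul_index
        rw [hQi, ← L.card_mul_index, h] at h3
        exact (Nat.eq_of_mul_eq_mul_right hp.pos h3).symm
    exact Subgroup.NormalizerCondition.normal_of_coatom Q Group.normalizerCondition_of_isNilpotent hco
  have hchar : Z₀.Normal := by rw [hZ₀]; infer_instance
  have hcard : Nat.card Z₀ = p := by rw [hZ₀, Solv.card_map_subtype]; exact hQ.2
  have hcz : Z₀ ≤ Subgroup.center S := by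
    intro z hz
    rw [Subgroup.mem_center_iff]
    intro g
    by_contra hne
    have hS' : IsPGroup p (ConjAct S) := hS.of_equiv ConjAct.toConjAct
    obtain ⟨f, hf, hf1⟩ := hS'.exists_fixed_point_of_prime_dvd_card_of_fixed_point Z₀ (hcard ▸ dvd_rfl)
      (a := (1 : Z₀)) (fun g => smul_one g)
    have hgen : Subgroup.zpowers (f : S) = Z₀ := by
      refine Subgroup.eq_of_le_of_card_ge (Subgroup.zpowers_le.2 f.2) ?_
      rw [hcard, Nat.card_zpowers]
      have hd : orderOf (f : S) ∣ p := hcard ▸ (Subgroup.orderOf_coe f).symm ▸ orderOf_dvd_natCard f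
      rcases (Nat.dvd_prime hp).1 hd with h | h
      · exact absurd (Subtype.ext (orderOf_eq_one_iff.1 h)).symm hf1
      · exact h.ge
    obtain ⟨i, rfl⟩ := hgen.ge hz
    have hfc : Commute g (f : S) :=
      mul_inv_eq_iff_eq_mul.1 (congrArg Subtype.val (hf (ConjAct.toConjAct g)))
    exact hne (hfc.zpow_right i).eq
  by_cases hZ : Subgroup.center S ≤ Q
  · left
    refine le_antisymm (fun z hz => ⟨⟨z, hZ hz⟩, ?_, rfl⟩) hcz
    exact Subgroup.mem_center_iff.2 fun q => Subtype.ext (Subgroup.mem_center_iff.1 hz q)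
  right
  have htop : Q ⊔ Subgroup.center S = ⊤ := by
    have h2 := Subgroup.index_dvd_of_le (le_sup_left : Q ≤ Q ⊔ Subgroup.center S)
    rw [hQi] at h2
    rcases (Nat.dvd_prime hp).1 h2 with h | h
    · exact Subgroup.index_eq_one.1 h
    · exfalso
      refine hZ ((le_sup_right : Subgroup.center S ≤ Q ⊔ Subgroup.center S).trans (le_of_eq ?_))
      refine (Subgroup.eq_of_le_of_card_ge le_sup_left (le_of_eq ?_)).symm
      have h3 := Q.card_mul_index
      rw [hQi, ← (Q ⊔ Subgroup.center S).card_mul_index, h] at h3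
      exact (Nat.eq_of_mul_eq_mul_right hp.pos h3).symm
  refine ⟨htop, ?_⟩
  have h := Solv.card_sup_mul_card_inf Q (Subgroup.center S)
  have hinf : Q ⊓ Subgroup.center S = Z₀ := by
    refine le_antisymm (fun z hz => ?_) (le_inf (Subgroup.map_subtype_le _) hcz)
    exact ⟨⟨z, hz.1⟩, Subgroup.mem_center_iff.2 fun q =>
      Subtype.ext (Subgroup.mem_center_iff.1 hz.2 q), rfl⟩
  rw [htop, Subgroup.card_top, hinf, hcard, ← Q.card_mul_index, hQi, mul_assoc] at h
  rw [pow_two]
  exact (Nat.eq_of_mul_eq_mul_left Nat.card_pos h).symm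

end Cfsg.Agent.S3808
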