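import Cfsg.Statements.S3809
import Cfsg.Agent.Lib.Solv.Extraspecial

set_option autoImplicit false
set_option linter.style.haveILetI false
open Cfsg

open scoped Pointwise commutatorElement

namespace Cfsg.Agent.S3809

/-- Let S be a finite p-group with an extraspecial subgroup of index p. Then S has order p^(2+2n) for some n ≥ 1, derived length at most 3, and exponent dividing p³. -/
theorem result {S : Type*} [Group S] [Finite S] (p : ℕ) [Fact p.Prime] (hS : IsPGroup p S) (Q : Subgroup S) (hQ : Cfsg.IsExtraspecial p ↥Q) (hQi : Q.index = p) :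
    (∃ n : ℕ, 1 ≤ n ∧ Nat.card S = p ^ (2 + 2 * n)) ∧ derivedSeries S 3 = ⊥ ∧ ∀ x : S, x ^ (p ^ 3) = 1 := by
  have hp : p.Prime := Fact.out
  obtain ⟨m, hm1, hm, -⟩ := Solv.extraspecial_card hQ
  refine ⟨⟨m, hm1, ?_⟩, ?_, fun x => ?_⟩
  · rw [← Q.card_mul_index, hm, hQi, ← pow_succ]
    congr 1; omega
  · have h1 : derivedSeries S 1 ≤ Q := by
      rw [derivedSeries_one]; exact Solv.commutator_le_of_index_prime hS hQi
    have h2 : derivedSeries S 2 ≤ (Subgroup.center ↥Q).map Q.subtype := by
      rw [derivedSeries_succ]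
      refine (Subgroup.commutator_mono h1 h1).trans ?_
      rw [← hQ.1.2.2, commutator_def, Subgroup.map_commutator, ← MonoidHom.range_eq_map,
        Subgroup.range_subtype]
    rw [derivedSeries_succ, Subgroup.commutator_eq_bot_iff_le_centralizer]
    intro a ha
    rw [Subgroup.mem_centralizer_iff]
    intro b hb
    obtain ⟨a', ha', rfl⟩ := h2 ha
    obtain ⟨b', -, rfl⟩ := h2 hb
    exact congrArg Subtype.val (Subgroup.mem_center_iff.1 ha' b')
  · haveI := Solv.normal_of_index_prime hS hQi
    have h1 : x ^ p ∈ Q := hQi ▸ Q.pow_index_mem x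
    have h2 := congrArg Subtype.val (Solv.extraspecial_pow_sq hQ ⟨x ^ p, h1⟩)
    rw [pow_succ' p 2, pow_mul]
    exact h2

end Cfsg.Agent.S3809
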