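import Cfsg.Statements.S3810
import Cfsg.Agent.Lib.Solv.Extraspecial
import Cfsg.Agent.Lib.Perm.Huppert

set_option autoImplicit false
set_option linter.style.haveILetI false
open Cfsg

open scoped Pointwise commutatorElement

namespace Cfsg.Agent.S3810

/-- Let S be a finite p-group with an extraspecial subgroup of index p. Then S has an abelian subgroup of index p if and only if S has order p⁴. -/
theorem result {S : Type*} [Group S] [Finite S] (p : ℕ) [Fact p.Prime] (hS : IsPGroup p S) (Q : Subgroup S) (hQ : Cfsg.IsExtraspecial p ↥Q) (hQi : Q.index = p) :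
    (∃ A : Subgroup S, IsMulCommutative ↥A ∧ A.index = p) ↔ Nat.card S = p ^ 4 := by
  have hp : p.Prime := Fact.out
  obtain ⟨m, hm1, hm, hb⟩ := Solv.extraspecial_card hQ
  have hS' : Nat.card S = p ^ (2 * m + 2) := by rw [← Q.card_mul_index, hm, hQi, ← pow_succ]
  constructor
  · rintro ⟨A, hA, hAi⟩
    haveI : IsMulCommutative (A.subgroupOf Q) := ⟨⟨fun a b => Subtype.ext (Subtype.ext
      (congrArg (fun t : A => (t : S)) (hA.is_comm.comm ⟨_, a.2⟩ ⟨_, b.2⟩)))⟩⟩
    have h1 := hb _ (inferInstance : IsMulCommutative (A.subgroupOf Q))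
    have h2 : (A.subgroupOf Q).index ∣ p := by
      haveI := Solv.normal_of_index_prime hS hAi
      exact hAi ▸ Subgroup.relIndex_dvd_index_of_normal A Q
    have h3 := (A.subgroupOf Q).card_mul_index
    have h4 : p ^ (2 * m + 1) ∣ p ^ (m + 2) := by
      rw [← hm, ← h3, pow_succ p (m + 1)]
      exact Nat.mul_dvd_mul h1 h2
    rw [Nat.pow_dvd_pow_iff_le_right hp.one_lt] at h4
    obtain rfl : m = 1 := by omega
    exact hS'
  · intro h4
    have hm' : m = 1 := by
      rw [hS'] at h4
      have := Nat.pow_right_injective hp.two_le h4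
      omega
    subst hm'
    haveI := Solv.normal_of_index_prime hS hQi
    obtain ⟨Z, hZ⟩ : ∃ Z, Z = (Subgroup.center ↥Q).map Q.subtype := ⟨_, rfl⟩
    haveI : Z.Normal := hZ ▸ inferInstance
    haveI : (Q.map (QuotientGroup.mk' Z)).Normal :=
      (inferInstance : Q.Normal).map _ (QuotientGroup.mk'_surjective _)
    haveI : Nontrivial (Q.map (QuotientGroup.mk' Z)) := by
      refine (Subgroup.nontrivial_iff_ne_bot _).2 fun h => ?_
      rw [Subgroup.map_eq_bot_iff, QuotientGroup.ker_mk'] at h
      refine Solv.extraspecial_not_comm hQ ⟨⟨fun a b => ?_⟩⟩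
      obtain ⟨c, hc, hcb⟩ := hZ ▸ h b.2
      exact (Subtype.ext hcb : c = b) ▸ Subgroup.mem_center_iff.1 hc a
    obtain ⟨_, ⟨v, hv, rfl⟩, hvc, hv1⟩ :=
      Perm.exists_ne_one_center (hS.to_quotient Z) (Q.map (QuotientGroup.mk' Z))
    obtain ⟨N, hN⟩ : ∃ N, N = (Subgroup.zpowers (QuotientGroup.mk' Z v)).comap (QuotientGroup.mk' Z) :=
      ⟨_, rfl⟩
    haveI : N.Normal := by
      rw [hN]
      refine Subgroup.Normal.comap ⟨fun a ha g => ?_⟩ _
      rw [Subgroup.mem_center_iff.1 (Subgroup.zpowers_le.2 hvc ha) g, mul_inv_cancel_right]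
      exact ha
    have hNQ : N ≤ Q := by
      intro n hn
      rw [hN] at hn
      obtain ⟨i, hi⟩ := hn
      have hi' : (n : S) * (v ^ i)⁻¹ ∈ Z := by
        rw [← QuotientGroup.eq_one_iff, ← QuotientGroup.mk'_apply, map_mul, map_inv, map_zpow, mul_inv_eq_one]
        exact hi.symm
      have hq : (n : S) * (v ^ i)⁻¹ ∈ Q := Subgroup.map_subtype_le _ (hZ ▸ hi')
      simpa using mul_mem hq (zpow_mem hv i)
    have hZN : Z ≤ N := fun z hz => by
      rw [hN, Subgroup.mem_comap]
      have h : QuotientGroup.mk' Z z = 1 := (QuotientGroup.eq_one_iff z).2 hz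
      rw [h]
      exact one_mem _
    have hZc : Nat.card Z = p := by rw [hZ, Solv.card_map_subtype]; exact hQ.2
    have hvo : orderOf (QuotientGroup.mk' Z v) = p := by
      refine orderOf_eq_prime ?_ hv1
      rw [← map_pow, QuotientGroup.mk'_apply, QuotientGroup.eq_one_iff, hZ]
      exact ⟨⟨v, hv⟩ ^ p, Solv.extraspecial_pow_mem_center hQ _, rfl⟩
    have hNc : Nat.card N = p ^ 2 := by
      rw [hN, Solv.card_comap_mk', Nat.card_zpowers, hvo, hZc, sq]
    have hNcomm := IsPGroup.isMulCommutative_of_card_eq_prime_sq hNc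
    have hNN : ∀ a ∈ N, ∀ b ∈ N, a * b = b * a := fun a ha b hb =>
      congrArg Subtype.val (hNcomm.is_comm.comm ⟨a, ha⟩ ⟨b, hb⟩)
    -- the centralizer of `N` has index at most `p`
    have hi : ∀ w ∈ N, ∀ g : S, ⁅g, w⁆ ∈ Z := fun w hw g => by
      rw [hN] at hw
      have hwc : QuotientGroup.mk' Z w ∈ Subgroup.center (S ⧸ Z) := Subgroup.zpowers_le.2 hvc hw
      rw [← QuotientGroup.eq_one_iff, ← QuotientGroup.mk'_apply, map_commutatorElement,
        commutatorElement_eq_one_iff_mul_comm]
      exact Subgroup.mem_center_iff.1 hwc _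
    obtain ⟨w, hw, hwZ⟩ : ∃ w ∈ N, w ∉ Z := by
      refine SetLike.not_le_iff_exists.1 fun h => ?_
      have := Subgroup.card_le_of_le h
      rw [hNc, hZc] at this
      have := hp.one_lt
      nlinarith
    obtain ⟨A, hA⟩ : ∃ A, A = Subgroup.centralizer (N : Set S) := ⟨_, rfl⟩
    have hNA : N ≤ A := hA ▸ fun a ha => Subgroup.mem_centralizer_iff.2 fun b hb => hNN b hb a ha
    have hAc : p ^ 3 ≤ Nat.card A := by
      have h5 : Nat.card (S ⧸ A) ≤ p := by
        rw [← hZc]
        refine Nat.card_le_card_of_injective (Quotient.lift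
          (fun g : S => (⟨⁅g, w⁆, hi w hw g⟩ : Z)) fun a b hab => ?_) ?_
        · obtain ⟨c, hc, hbc⟩ : ∃ c ∈ A, b = a * c := ⟨a⁻¹ * b,
            QuotientGroup.leftRel_apply.1 hab, by group⟩
          rw [hA] at hc
          have hcw : c * w * c⁻¹ = w := by
            rw [← Subgroup.mem_centralizer_iff.1 hc w hw, mul_inv_cancel_right]
          refine Subtype.ext ?_
          show ⁅a, w⁆ = ⁅b, w⁆
          rw [hbc, commutatorElement_def, commutatorElement_def,
            show a * c * w * (a * c)⁻¹ = a * (c * w * c⁻¹) * a⁻¹ by group, hcw]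
        · intro a b
          induction a using QuotientGroup.induction_on with | _ a
          induction b using QuotientGroup.induction_on with | _ b
          intro hab
          have hab' : a * w * a⁻¹ * w⁻¹ = b * w * b⁻¹ * w⁻¹ := by
            have := congrArg Subtype.val hab
            exact this
          have hw2 : w * (a⁻¹ * b) = a⁻¹ * b * w := by
            have h6 := mul_right_cancel hab'
            calc w * (a⁻¹ * b) = a⁻¹ * (a * w * a⁻¹) * b := by group
              _ = a⁻¹ * (b * w * b⁻¹) * b := by rw [h6]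
              _ = a⁻¹ * b * w := by group
          refine QuotientGroup.eq.2 ?_
          rw [hA, Subgroup.mem_centralizer_iff]
          intro n hn
          have hgen : N ≤ Subgroup.centralizer {a⁻¹ * b} := by
            have hle : Z ⊔ Subgroup.zpowers w ≤ Subgroup.centralizer {a⁻¹ * b} := sup_le
              (fun z hz => Subgroup.mem_centralizer_singleton_iff.2
                (Subgroup.mem_center_iff.1 ?_ _).symm)
              (Subgroup.zpowers_le.2 (Subgroup.mem_centralizer_singleton_iff.2 hw2))
            · refine le_trans ?_ hle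
              refine le_of_eq (Subgroup.eq_of_le_of_card_ge (sup_le hZN (Subgroup.zpowers_le.2 hw)) ?_).symm
              rw [hNc]
              have h7 : Z < Z ⊔ Subgroup.zpowers w := lt_of_le_of_ne le_sup_left fun e =>
                hwZ (e ▸ Subgroup.mem_sup_right (Subgroup.mem_zpowers w))
              have h8 := Solv.card_lt_of_lt h7
              obtain ⟨j, hj⟩ := IsPGroup.iff_card.1 (hS.to_subgroup (Z ⊔ Subgroup.zpowers w))
              rw [hj, hZc] at h8
              rw [hj]
              nth_rewrite 1 [← pow_one p] at h8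
              rw [Nat.pow_lt_pow_iff_right hp.one_lt] at h8
              exact Nat.pow_le_pow_right hp.pos (by omega)
            · -- `Z` is central in `S`
              haveI : Nontrivial Z := Finite.one_lt_card_iff_nontrivial.1 (hZc ▸ hp.one_lt)
              obtain ⟨u, hu, huc, hu1⟩ := Perm.exists_ne_one_center hS Z
              have : Subgroup.zpowers u = Z :=
                Subgroup.eq_of_le_of_card_ge (Subgroup.zpowers_le.2 hu) (by
                  rw [hZc, Nat.card_zpowers]
                  have hd : orderOf u ∣ p := hZc ▸ (Nat.card_zpowers u ▸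
                    Subgroup.card_dvd_of_le (Subgroup.zpowers_le.2 hu))
                  exact (((Nat.dvd_prime hp).1 hd).resolve_left (orderOf_eq_one_iff.not.2 hu1)).ge)
              exact Subgroup.zpowers_le.2 huc (this.ge hz)
          exact Subgroup.mem_centralizer_singleton_iff.1 (hgen hn)
      have h9 := A.card_mul_index
      rw [h4, Subgroup.index_eq_card] at h9
      have : p ^ 4 ≤ Nat.card A * p := h9 ▸ Nat.mul_le_mul_left _ h5
      rw [pow_succ p 3] at this
      exact Nat.le_of_mul_le_mul_right this hp.pos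
    obtain ⟨s, hsA, hsN⟩ : ∃ s ∈ A, s ∉ N := by
      refine SetLike.not_le_iff_exists.1 fun h => ?_
      have := (hAc.trans (Subgroup.card_le_of_le h))
      rw [hNc, Nat.pow_le_pow_iff_right hp.one_lt] at this
      omega
    obtain ⟨B, hB⟩ : ∃ B, B = N ⊔ Subgroup.zpowers s := ⟨_, rfl⟩
    have hBc : B ≤ Subgroup.centralizer (B : Set S) := by
      have hs : ∀ a ∈ N, a * s = s * a := fun a ha =>
        Subgroup.mem_centralizer_iff.1 (hA ▸ hsA) a ha
      have h1 : B ≤ Subgroup.centralizer {s} := hB ▸ sup_le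
        (fun a ha => Subgroup.mem_centralizer_singleton_iff.2 (hs a ha))
        (Subgroup.zpowers_le.2 (Subgroup.mem_centralizer_singleton_iff.2 rfl))
      have h2 : N ≤ Subgroup.centralizer (B : Set S) := by
        rw [Subgroup.le_centralizer_iff, hB]
        exact sup_le (fun a ha => Subgroup.mem_centralizer_iff.2 fun b hb => hNN b hb a ha)
          (Subgroup.zpowers_le.2 (Subgroup.mem_centralizer_iff.2 fun b hb => hs b hb))
      nth_rewrite 1 [hB]
      refine sup_le h2 (Subgroup.zpowers_le.2 (Subgroup.mem_centralizer_iff.2 fun b hb =>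
        Subgroup.mem_centralizer_singleton_iff.1 (h1 hb)))
    refine ⟨B, ⟨⟨fun a b => Subtype.ext (Subgroup.mem_centralizer_iff.1 (hBc b.2) a a.2)⟩⟩, ?_⟩
    have hlt : N < B := hB ▸ lt_of_le_of_ne le_sup_left fun e =>
      hsN (e ▸ Subgroup.mem_sup_right (Subgroup.mem_zpowers s))
    have h1 := Solv.card_lt_of_lt hlt
    obtain ⟨j, hj⟩ := IsPGroup.iff_card.1 (hS.to_subgroup B)
    rw [hNc, hj, Nat.pow_lt_pow_iff_right hp.one_lt] at h1
    have hne : B ≠ ⊤ := fun e => Solv.extraspecial_not_comm hQ ⟨⟨fun a b => Subtype.ext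
      (Subgroup.mem_centralizer_iff.1 (hBc (e ▸ Subgroup.mem_top _)) _ (e ▸ Subgroup.mem_top _))⟩⟩
    have h2 := Solv.card_lt_of_ne_top hne
    rw [hj, h4, Nat.pow_lt_pow_iff_right hp.one_lt] at h2
    have h3 := B.card_mul_index
    rw [hj, h4, show j = 3 by omega, pow_succ p 3] at h3
    exact Nat.eq_of_mul_eq_mul_left (Nat.pow_pos hp.pos) h3

end Cfsg.Agent.S3810
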