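import Cfsg.Statements.S3811
import Cfsg.Agent.Lib.Solv.SoftSubgroup

set_option autoImplicit false
open Cfsg

namespace Cfsg.Agent.S3811

/-- Let P be a finite p-group and E an abelian subgroup of P that contains its centralizer, has index p in its normalizer, and has index at least p² in P. Then the subgroups of P containing E are totally ordered by inclusion, each proper one has index p in its normalizer (so they form the normalizer tower of E, with all steps of index p), and the i-th member of the tower above E has nilpotency class i + 1 whenever it is a proper subgroup of P. -/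
theorem result {P : Type*} [Group P] [Finite P] (p : ℕ) [Fact p.Prime] (hP : IsPGroup p P)
    (E : Subgroup P) (hEab : IsMulCommutative ↥E) (hC : Subgroup.centralizer (E : Set P) ≤ E)
    (hN : (E.subgroupOf (Subgroup.normalizer (E : Set P))).index = p) (hidx : p ^ 2 ≤ E.index) :
    (∀ K L : Subgroup P, E ≤ K → E ≤ L → K ≤ L ∨ L ≤ K) ∧
      (∀ K : Subgroup P, E ≤ K → K ≠ ⊤ → (K.subgroupOf (Subgroup.normalizer (K : Set P))).index = p) ∧
      ∀ (i : ℕ) (K : Subgroup P) [Group.IsNilpotent ↥K], E ≤ K → K ≠ ⊤ → K.index * p ^ i = E.index →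
        Group.nilpotencyClass ↥K = i + 1 := by
  classical
  obtain ⟨hA, hB⟩ := Cfsg.Agent.Solv.SoftSub.main (p := p) _ (Nat.lt_succ_self _) hP E ⟨hEab, hC, hN, hidx⟩
  refine ⟨Cfsg.Agent.Solv.SoftSub.chain hP hA, hA, fun i K _ hEK hK hi => ?_⟩
  obtain ⟨h1, h2⟩ := hB i K hEK hK hi
  have hsub : ∀ n, (⊤ : Subgroup K).lowerCentralSeries n = ⊥ ↔ K.lowerCentralSeries n = ⊥ := fun n => by
    rw [← Subgroup.map_eq_bot_iff_of_injective (H := (⊤ : Subgroup K).lowerCentralSeries n) (f := K.subtype) K.subtype_injective,
      Subgroup.top_subtype_lowerCentralSeries]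
  refine le_antisymm (Subgroup.lowerCentralSeries_eq_bot_iff_nilpotencyClass_le.1 ((hsub _).2 h1)) ?_
  by_contra h
  exact h2 ((hsub _).1 (Subgroup.lowerCentralSeries_eq_bot_iff_nilpotencyClass_le.2 (by omega)))

end Cfsg.Agent.S3811
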