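import Cfsg.Statements.S3815
import Cfsg.Agent.Lib.Solv.Cores

set_option autoImplicit false
open Cfsg

open scoped Pointwise commutatorElement

namespace Cfsg.Agent.S3815

/-- Let G be a finite group, p a prime and d ∈ G an element of order prime to p. If dg has order prime to p for every element g ∈ G of order prime to p, then d ∈ O_{p'}(G). -/
theorem result {G : Type*} [Group G] [Finite G] {p : ℕ} [Fact p.Prime]
    (d : G) (hd : (orderOf d).Coprime p)
    (h : ∀ g : G, (orderOf g).Coprime p → (orderOf (d * g)).Coprime p) :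
    d ∈ Cfsg.pPrimeCore p G := by
  let S : Set G := {x | ∀ g : G, (orderOf g).Coprime p → (orderOf (x * g)).Coprime p}
  have hone : ∀ x ∈ S, (orderOf x).Coprime p := fun x hx => by
    simpa using hx 1 (by simp)
  have hmul : ∀ x ∈ S, ∀ y ∈ S, x * y ∈ S := fun x hx y hy g hg => by
    rw [mul_assoc]; exact hx _ (hy g hg)
  let M : Submonoid G :=
    { carrier := S, mul_mem' := fun ha hb => hmul _ ha _ hb
      one_mem' := fun g hg => by rwa [one_mul] }
  let K : Subgroup G := Subgroup.closure S
  have hK : ∀ x ∈ K, x ∈ S := by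
    intro x hx
    induction hx using Subgroup.closure_induction with
    | mem x hx => exact hx
    | one => exact M.one_mem
    | mul x y _ _ hx hy => exact hmul x hx y hy
    | inv x _ hx =>
      have : x⁻¹ ∈ Submonoid.powers x := by
        rw [(isOfFinOrder_of_finite x).mem_powers_iff_mem_zpowers]
        exact Subgroup.inv_mem _ (Subgroup.mem_zpowers x)
      exact (Submonoid.powers_le.2 (show x ∈ M from hx)) this
  have hord : ∀ a b : G, orderOf (a * b * a⁻¹) = orderOf b := fun a b => by
    rw [← MulAut.conj_apply]; exact MulEquiv.orderOf_eq _ b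
  have hKn : K.Normal := ⟨fun x hx g => Subgroup.subset_closure fun y hy => by
    have h2 := hK x hx (g⁻¹ * y * g) (by
      rw [show g⁻¹ * y * g = g⁻¹ * y * g⁻¹⁻¹ by group, hord]; exact hy)
    rwa [← hord g, show g * (x * (g⁻¹ * y * g)) * g⁻¹ = g * x * g⁻¹ * y by group] at h2⟩
  have hKc : (Nat.card K).Coprime p := by
    rw [Nat.coprime_comm, (Fact.out : p.Prime).coprime_iff_not_dvd]
    intro hdvd
    obtain ⟨x, hx⟩ := exists_prime_orderOf_dvd_card' p hdvd
    have := hone x (hK x x.2)
    rw [Subgroup.orderOf_coe, hx] at this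
    exact (Fact.out : p.Prime).ne_one ((Nat.coprime_self p).1 this)
  exact le_sSup (show K ∈ {N : Subgroup G | N.Normal ∧ (Nat.card N).Coprime p} from ⟨hKn, hKc⟩)
    (Subgroup.subset_closure h)

end Cfsg.Agent.S3815
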