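import Cfsg.Statements.S3818
import Cfsg.Agent.Lib.Solv.HalfFixMain

set_option autoImplicit false
open Cfsg

namespace Cfsg.Agent.S3818

/-- Let G be a finite solvable group and P a subgroup of G of prime order p > 3 whose conjugates generate G. Let V be a faithful irreducible representation of G over a field of positive characteristic, finite-dimensional. Then the subspace of V fixed by P has dimension less than half the dimension of V. -/
theorem result {G : Type*} [Group G] [Finite G] [Group.IsSolvable G]
    {p : ℕ} [Fact p.Prime] (hp : 3 < p) (P : Subgroup G) (hP : Nat.card P = p) (hgen : Subgroup.normalClosure (P : Set G) = ⊤)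
    {k : Type*} [Field k] (ℓ : ℕ) [Fact ℓ.Prime] [CharP k ℓ]
    {V : Type*} [AddCommGroup V] [Module k V] [FiniteDimensional k V]
    (ρ : Representation k G V) [ρ.IsIrreducible] (hfaith : Function.Injective ρ) :
    2 * Module.finrank k ↥(⨅ g : ↥P, LinearMap.ker (ρ (g : G) - LinearMap.id)) < Module.finrank k V := by
  classical
  obtain ⟨x, hx⟩ : ∃ x : P, x ≠ 1 := by
    haveI : Nontrivial P := Finite.one_lt_card_iff_nontrivial.1 (by rw [hP]; omega)
    exact exists_ne 1
  have hxp : (x : G) ^ p = 1 := by
    have := congrArg Subtype.val (pow_card_eq_one' (x := x))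
    rwa [hP, SubmonoidClass.coe_pow] at this
  have hgen' : Subgroup.normalClosure {(x : G)} = ⊤ := by
    rw [eq_top_iff, ← hgen]
    refine Subgroup.normalClosure_le_normal fun y hy => ?_
    obtain ⟨i, hi⟩ := mem_zpowers_of_prime_card (p := p) hP (g := x) (g' := ⟨y, hy⟩) hx
    rw [← show (x : G) ^ i = y from congrArg Subtype.val hi]
    exact Subgroup.zpow_mem (Subgroup.normalClosure {(x : G)})
      (Subgroup.subset_normalClosure (Set.mem_singleton (x : G))) i
  haveI : Nontrivial G := ⟨(x : G), 1, fun h => hx (Subtype.ext h)⟩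
  have hs : Cfsg.Agent.Solv.CRep.IsSimpleRep (ρ : G →* Module.End k V) := by
    haveI h := (inferInstance : ρ.IsIrreducible)
    refine ⟨?_, fun U hU => ?_⟩
    · by_contra hc
      rw [not_nontrivial_iff_subsingleton] at hc
      exact hx (Subtype.ext (hfaith (LinearMap.ext fun v => Subsingleton.elim _ _)))
    · rcases eq_bot_or_eq_top (⟨U, fun g v hv => hU g v hv⟩ : Subrepresentation ρ) with e | e
      · exact Or.inl (congrArg Subrepresentation.toSubmodule e)
      · exact Or.inr (congrArg Subrepresentation.toSubmodule e)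
  refine lt_of_le_of_lt (Nat.mul_le_mul_left 2 (Submodule.finrank_mono ?_))
    (Cfsg.Agent.Solv.HalfFix.half_fix (ℓ := ℓ) hp hxp hgen' ρ hs hfaith)
  exact iInf_le (fun g : ↥P => LinearMap.ker (ρ (g : G) - LinearMap.id)) x

end Cfsg.Agent.S3818
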