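import Cfsg.Statements.S3820
import Cfsg.Agent.Lib.Solv.Basic

set_option autoImplicit false
open Cfsg

open scoped Pointwise commutatorElement

namespace Cfsg.Agent.S3820

/-- Call a subgroup H of G pronormal if H and gHg⁻¹ are conjugate inside ⟨H, gHg⁻¹⟩ for every g ∈ G. Let S ≤ H ≤ G be subgroups of a finite group with S pronormal in G (for instance S a Sylow subgroup). Then H is pronormal in G if and only if H and gHg⁻¹ are conjugate inside ⟨H, gHg⁻¹⟩ for every g ∈ N_G(S). In particular H is pronormal whenever N_G(S) ≤ H. -/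
theorem result {G : Type*} [Group G] [Finite G] (S H : Subgroup G) (hSH : S ≤ H)
    (hS : Cfsg.IsPronormal S) :
    Cfsg.IsPronormal H ↔
      ∀ g ∈ Subgroup.normalizer (S : Set G), ∃ w ∈ H ⊔ H.map (MulAut.conj g).toMonoidHom,
        H.map (MulAut.conj g).toMonoidHom = H.map (MulAut.conj w).toMonoidHom := by
  refine ⟨fun h g _ => h g, fun h g => ?_⟩
  simp only [← Solv.conj_smul_eq_map] at h ⊢
  obtain ⟨x, hx, e⟩ := hS g
  simp only [← Solv.conj_smul_eq_map] at hx e
  have hxL : x ∈ H ⊔ MulAut.conj g • H := by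
    refine (sup_le_sup hSH ?_) hx
    exact Subgroup.pointwise_smul_le_pointwise_smul_iff.2 hSH
  have hn : x⁻¹ * g ∈ Subgroup.normalizer (S : Set G) := by
    refine Solv.mem_normalizer_of_conj_smul ?_
    rw [← Solv.conj_smul_conj, e, Solv.conj_smul_conj, inv_mul_cancel, Solv.conj_one_smul]
  obtain ⟨w, hw, ew⟩ := h _ hn
  refine ⟨x * w, ?_, ?_⟩
  · have hle : MulAut.conj (x⁻¹ * g) • H ≤ H ⊔ MulAut.conj g • H := ?_
    · exact mul_mem hxL (sup_le le_sup_left hle hw)
    rw [← Solv.conj_smul_conj, Solv.conj_smul_eq_map x⁻¹]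
    rintro _ ⟨y, hy, rfl⟩
    have hy' : y ∈ H ⊔ MulAut.conj g • H := Subgroup.mem_sup_right hy
    exact mul_mem (mul_mem (inv_mem hxL) hy') (inv_mem (inv_mem hxL))
  · rw [← Solv.conj_smul_conj x w H, ← ew, Solv.conj_smul_conj, mul_inv_cancel_left]

end Cfsg.Agent.S3820
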