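import Cfsg.Statements.S3821
import Cfsg.Agent.Lib.Solv.Basic

set_option autoImplicit false
open Cfsg

open scoped Pointwise commutatorElement

namespace Cfsg.Agent.S3821

/-- Let A be a normal subgroup of the finite group G and H a subgroup of A. Then H is pronormal in G (H and gHg⁻¹ conjugate inside ⟨H, gHg⁻¹⟩ for every g ∈ G) if and only if H is pronormal in A and G = A · N_G(H). -/
theorem result {G : Type*} [Group G] [Finite G] (A H : Subgroup G) [A.Normal] (hHA : H ≤ A) :
    Cfsg.IsPronormal H ↔ (Cfsg.IsPronormal (H.subgroupOf A) ∧ A ⊔ Subgroup.normalizer (H : Set G) = ⊤) := by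
  have hle : ∀ g : G, H.map (MulAut.conj g).toMonoidHom ≤ A := fun g => by
    rintro _ ⟨x, hx, rfl⟩
    exact (‹A.Normal›).conj_mem x (hHA hx) g
  have hco : ∀ a b : G, H.map (MulAut.conj (a * b)).toMonoidHom =
      (H.map (MulAut.conj b).toMonoidHom).map (MulAut.conj a).toMonoidHom := fun a b => by
    rw [← Solv.conj_smul_eq_map, ← Solv.conj_smul_eq_map, ← Solv.conj_smul_eq_map, Solv.conj_smul_conj]
  have hsub : ∀ a : A, ((H.subgroupOf A).map (MulAut.conj a).toMonoidHom).map A.subtype =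
      H.map (MulAut.conj (a : G)).toMonoidHom := fun a => by
    rw [← Solv.conj_smul_eq_map, Solv.map_conj_smul, Solv.conj_smul_eq_map,
      Subgroup.map_subgroupOf_eq_of_le hHA]
    rfl
  have hsup : ∀ a : A, (H.subgroupOf A ⊔ (H.subgroupOf A).map (MulAut.conj a).toMonoidHom).map A.subtype =
      H ⊔ H.map (MulAut.conj (a : G)).toMonoidHom := fun a => by
    rw [Subgroup.map_sup, hsub, Subgroup.map_subgroupOf_eq_of_le hHA]
  constructor
  · intro hpro
    refine ⟨fun a => ?_, eq_top_iff.2 fun g _ => ?_⟩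
    · obtain ⟨w, hw, e⟩ := hpro (a : G)
      obtain ⟨w', hw', rfl⟩ := (hsup a).ge hw
      refine ⟨w', hw', Subgroup.map_injective A.subtype_injective ?_⟩
      rw [hsub, hsub]; exact e
    · obtain ⟨w, hw, e⟩ := hpro g
      have hwA : w ∈ A := sup_le hHA (hle g) hw
      have hn : w⁻¹ * g ∈ Subgroup.normalizer (H : Set G) := by
        refine Solv.mem_normalizer_of_conj_smul ?_
        rw [← Solv.conj_smul_conj, Solv.conj_smul_eq_map g, e, ← Solv.conj_smul_eq_map w,
          Solv.conj_smul_conj, inv_mul_cancel, Solv.conj_one_smul]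
      have := Subgroup.mul_mem_sup hwA hn
      rwa [mul_inv_cancel_left] at this
  · rintro ⟨hpro, htop⟩ g
    obtain ⟨a, ha, n, hn, rfl⟩ := Subgroup.mem_sup_of_normal_left.1 (htop.ge (Subgroup.mem_top g))
    have e : H.map (MulAut.conj (a * n)).toMonoidHom = H.map (MulAut.conj a).toMonoidHom := by
      rw [hco, ← Solv.conj_smul_eq_map n, Solv.conj_smul_of_mem_normalizer hn]
    obtain ⟨w, hw, ew⟩ := hpro ⟨a, ha⟩
    refine ⟨(w : G), ?_, ?_⟩
    · rw [e]
      exact (hsup ⟨a, ha⟩).le ⟨w, hw, rfl⟩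
    · rw [e]
      have := congrArg (Subgroup.map A.subtype) ew
      rwa [hsub, hsub] at this

end Cfsg.Agent.S3821
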