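import Cfsg.Statements.S3825
import Cfsg.Agent.Lib.Solv.Basic
import Mathlib.GroupTheory.FixedPointFree

set_option autoImplicit false
set_option linter.style.haveILetI false
open Cfsg

open scoped Pointwise commutatorElement

namespace Cfsg.Agent.S3825

/-- Let U be a subgroup of a finite group H and w an involution of H normalizing U and commuting with exactly two elements of U, the identity and y. If V is a non-cyclic elementary abelian 2-subgroup of U containing y which is normal in U and invariant under w, then V is a Sylow 2-subgroup of U, V has order 4, and U/V is abelian. -/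
theorem result {H : Type*} [Group H] [Finite H] (U : Subgroup H) (w : H) (hw : orderOf w = 2)
    (hwU : w ∈ Subgroup.normalizer (U : Set H)) (y : H) (hy : y ≠ 1) (hyU : y ∈ U)
    (hfix : ∀ u ∈ U, w * u * w⁻¹ = u ↔ (u = 1 ∨ u = y))
    (V : Subgroup H) (hVU : V ≤ U) (hVn : (V.subgroupOf U).Normal) (hVw : ∀ v ∈ V, w * v * w⁻¹ ∈ V)
    (hVe : Cfsg.IsElementaryAbelian 2 V) (hVc : ¬ IsCyclic ↥V) (hyV : y ∈ V) :
    ¬ 2 ∣ V.relIndex U ∧ Nat.card ↥V = 4 ∧ ⁅U, U⁆ ≤ V := by
  haveI := Fact.mk Nat.prime_two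
  have hwi : w⁻¹ = w := inv_eq_of_mul_eq_one_right (by
    have := pow_orderOf_eq_one w; rwa [hw, sq] at this)
  have hVinv : ∀ v ∈ V, v⁻¹ = v := fun v hv => inv_eq_of_mul_eq_one_right (by
    rw [← sq]; exact hVe.2 v hv)
  have hVV : ∀ a ∈ V, ∀ b ∈ V, a * b = b * a := fun a ha b hb =>
    congrArg Subtype.val (hVe.1.is_comm.comm ⟨a, ha⟩ ⟨b, hb⟩)
  -- elements moved within `V`
  have hd : ∀ u ∈ U, u⁻¹ * (w * u * w⁻¹) ∈ V → u⁻¹ * (w * u * w⁻¹) = 1 ∨ u⁻¹ * (w * u * w⁻¹) = y := by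
    intro u hu hd
    refine (hfix _ (hVU hd)).1 ?_
    conv_rhs => rw [← hVinv _ hd]
    rw [hwi]
    have hww : w * w = 1 := by nth_rewrite 2 [← hwi]; exact mul_inv_cancel w
    calc w * (u⁻¹ * (w * u * w)) * w = w * u⁻¹ * w * u * (w * w) := by group
      _ = w⁻¹ * u⁻¹ * w⁻¹ * u := by rw [hww, hwi, mul_one]
      _ = _ := by group
  obtain ⟨T, hT⟩ : ∃ T : Set H, T = {u | u ∈ U ∧ u⁻¹ * (w * u * w⁻¹) ∈ V} := ⟨_, rfl⟩
  have hVT : (V : Set H) ⊆ T := fun v hv => hT ▸ ⟨hVU hv, mul_mem (inv_mem hv) (hVw v hv)⟩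
  have hT4 : T.ncard ≤ 4 := by
    classical
    obtain ⟨F, hF⟩ : ∃ F : H → Set H, ∀ z, F z = {u | u ∈ U ∧ u⁻¹ * (w * u * w⁻¹) = z} :=
      ⟨_, fun _ => rfl⟩
    have hfib : ∀ z, (F z).ncard ≤ 2 := fun z => by
      rcases (F z).eq_empty_or_nonempty with h | ⟨u₀, h0⟩
      · rw [h, Set.ncard_empty]; omega
      rw [hF] at h0
      have hsub : F z ⊆ (fun u => u * u₀) '' {1, y} := fun u hu => by
        rw [hF] at hu
        refine ⟨u * u₀⁻¹, ?_, inv_mul_cancel_right u u₀⟩
        refine (hfix _ (mul_mem hu.1 (inv_mem h0.1))).1 ?_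
        have h1 := hu.2.trans h0.2.symm
        rw [inv_mul_eq_iff_eq_mul] at h1
        calc w * (u * u₀⁻¹) * w⁻¹ = w * u * w⁻¹ * (w * u₀ * w⁻¹)⁻¹ := by group
          _ = u * u₀⁻¹ := by rw [h1]; group
      refine (Set.ncard_le_ncard hsub (Set.toFinite _)).trans
        ((Set.ncard_image_le (Set.toFinite _)).trans ?_)
      exact (Set.ncard_insert_le _ _).trans (by rw [Set.ncard_singleton])
    have hsub : T ⊆ F 1 ∪ F y := fun u hu => by
      rw [hT] at hu
      rcases hd u hu.1 hu.2 with h | h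
      · exact Or.inl (hF 1 ▸ ⟨hu.1, h⟩)
      · exact Or.inr (hF y ▸ ⟨hu.1, h⟩)
    have := (Set.ncard_le_ncard hsub (Set.toFinite _)).trans (Set.ncard_union_le _ _)
    have := hfib 1; have := hfib y
    omega
  have hP : IsPGroup 2 V := fun v => ⟨1, Subtype.ext (by rw [pow_one]; exact hVe.2 _ v.2)⟩
  obtain ⟨k, hk⟩ := IsPGroup.iff_card.1 hP
  have hV4 : Nat.card V = 4 := by
    have h1 : Nat.card V ≤ 4 := by
      rw [show Nat.card V = (V : Set H).ncard from Nat.card_coe_set_eq _]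
      exact (Set.ncard_le_ncard hVT (Set.toFinite _)).trans hT4
    have h2 : ¬ k ≤ 1 := fun h => hVc (by
      rcases Nat.le_one_iff_eq_zero_or_eq_one.1 h with rfl | rfl
      · haveI := (Nat.card_eq_one_iff_unique.1 hk).1
        exact isCyclic_of_subsingleton
      · rw [pow_one] at hk
        exact isCyclic_of_prime_card hk)
    rw [hk] at h1 ⊢
    have : 2 ^ k ≤ 2 ^ 2 := h1
    rw [Nat.pow_le_pow_iff_right (by norm_num)] at this
    rw [show k = 2 by omega]; rfl
  have hTV : T = (V : Set H) := (Set.eq_of_subset_of_ncard_le hVT (hT4.trans (le_of_eq (by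
    rw [← hV4]; exact Nat.card_coe_set_eq _))) (Set.toFinite _)).symm
  -- the involution inverts `U / V`
  haveI := hVn
  obtain ⟨f, hf⟩ : ∃ f : U →* U, ∀ u : U, (f u : H) = w * u * w⁻¹ :=
    ⟨MonoidHom.mk' (fun u => ⟨w * u * w⁻¹, (Subgroup.mem_normalizer_iff.1 hwU u).1 u.2⟩)
      fun a b => Subtype.ext (by simp), fun _ => rfl⟩
  obtain ⟨σ, hσ⟩ : ∃ σ : U ⧸ V.subgroupOf U →* U ⧸ V.subgroupOf U, ∀ u : U, σ u = f u :=
    ⟨QuotientGroup.map _ _ f (fun v hv => by
      rw [Subgroup.mem_comap, Subgroup.mem_subgroupOf, hf]; exact hVw _ hv), fun _ => rfl⟩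
  have hfree : MonoidHom.FixedPointFree σ := by
    intro x hx
    induction x using QuotientGroup.induction_on with | _ u
    rw [hσ] at hx
    refine (QuotientGroup.eq_one_iff u).2 ?_
    rw [Subgroup.mem_subgroupOf, ← SetLike.mem_coe, ← hTV, hT]
    refine ⟨u.2, ?_⟩
    have := QuotientGroup.eq.1 hx.symm
    rw [Subgroup.mem_subgroupOf, Subgroup.coe_mul, Subgroup.coe_inv, hf] at this
    exact this
  have hinv : Function.Involutive σ := fun x => by
    induction x using QuotientGroup.induction_on with | _ u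
    rw [hσ, hσ]
    congr 1
    refine Subtype.ext ?_
    rw [hf, hf, hwi]
    have hww : w * w = 1 := by nth_rewrite 2 [← hwi]; exact mul_inv_cancel w
    calc w * (w * u * w) * w = (w * w) * u * (w * w) := by group
      _ = u := by rw [hww, one_mul, mul_one]
  refine ⟨?_, hV4, ?_⟩
  · rw [Subgroup.relIndex, Subgroup.index_eq_card]
    exact fun h => (Nat.not_even_iff_odd.2 (hfree.odd_card_of_involutive hinv)) (even_iff_two_dvd.2 h)
  · rw [Subgroup.commutator_le]
    intro a ha b hb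
    have h := hfree.commute_all_of_involutive hinv
      (QuotientGroup.mk' (V.subgroupOf U) ⟨a, ha⟩) (QuotientGroup.mk' (V.subgroupOf U) ⟨b, hb⟩)
    have h1 : ⁅(⟨a, ha⟩ : U), ⟨b, hb⟩⁆ ∈ V.subgroupOf U := by
      rw [← QuotientGroup.eq_one_iff, ← QuotientGroup.mk'_apply, map_commutatorElement,
        commutatorElement_eq_one_iff_commute]
      exact h
    exact h1

end Cfsg.Agent.S3825
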