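import Cfsg.Statements.S3835
import Cfsg.Agent.S3074
import Cfsg.Agent.Lib.Perm.AltSylowAbelian
import Cfsg.Agent.Lib.Fusion.QdNoControl
import Cfsg.Agent.Lib.Classical.LinBasic

set_option autoImplicit false
open Cfsg

namespace Cfsg.Agent.S3835

open Matrix Cfsg.Agent.Fusion

/-- the vector as a point of the affine plane -/
def ext3 {p : ℕ} (v : Fin 2 → ZMod p) : Fin 3 → ZMod p := ![v 0, v 1, 1]

theorem qd_row {p : ℕ} [Fact p.Prime] (x : ↥(Cfsg.qd p)) (v : Fin 2 → ZMod p) :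
    ext3 ![(x.1.1 *ᵥ ext3 v) 0, (x.1.1 *ᵥ ext3 v) 1] = x.1.1 *ᵥ ext3 v := by
  obtain ⟨R, w, h⟩ := qd_elim x
  funext i
  fin_cases i <;> simp [ext3, ← h, affMat, mulVec, dotProduct, Fin.sum_univ_three]

/-- the action on the affine plane -/
def planeAction (p : ℕ) [Fact p.Prime] : MulAction ↥(Cfsg.qd p) (Fin 2 → ZMod p) where
  smul x v := ![(x.1.1 *ᵥ ext3 v) 0, (x.1.1 *ᵥ ext3 v) 1]
  one_smul v := by
    show ![(((1 : Matrix (Fin 3) (Fin 3) (ZMod p))) *ᵥ ext3 v) 0, ((1 : Matrix (Fin 3) (Fin 3) (ZMod p)) *ᵥ ext3 v) 1] = v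
    funext i
    fin_cases i <;> simp [ext3]
  mul_smul x y v := by
    show ![((x.1.1 * y.1.1) *ᵥ ext3 v) 0, ((x.1.1 * y.1.1) *ᵥ ext3 v) 1] =
      ![(x.1.1 *ᵥ ext3 ![(y.1.1 *ᵥ ext3 v) 0, (y.1.1 *ᵥ ext3 v) 1]) 0,
        (x.1.1 *ᵥ ext3 ![(y.1.1 *ᵥ ext3 v) 0, (y.1.1 *ᵥ ext3 v) 1]) 1]
    rw [qd_row, mulVec_mulVec]

theorem plane_injective (p : ℕ) [Fact p.Prime] :
    Function.Injective (@MulAction.toPermHom ↥(Cfsg.qd p) (Fin 2 → ZMod p) _ (planeAction p)) := by
  intro x y h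
  obtain ⟨R, a, hx⟩ := qd_elim x
  obtain ⟨S, b, hy⟩ := qd_elim y
  have key : ∀ v i, (R.1 *ᵥ v + a) i = (S.1 *ᵥ v + b) i := by
    intro v i
    have h1 := congrFun (Equiv.congr_fun h v) i
    change ![(x.1.1 *ᵥ ext3 v) 0, (x.1.1 *ᵥ ext3 v) 1] i = ![(y.1.1 *ᵥ ext3 v) 0, (y.1.1 *ᵥ ext3 v) 1] i at h1
    rw [← hx, ← hy] at h1
    fin_cases i <;>
      simpa [ext3, affMat, mulVec, dotProduct, Fin.sum_univ_three, Fin.sum_univ_two] using h1
  have hab : a = b := funext fun i => by simpa using key 0 i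
  have hRS : R = S := by
    refine Subtype.ext (Matrix.ext fun i j => ?_)
    have h1 := key (Pi.single j 1) i
    simpa [hab] using h1
  exact Subtype.ext (by rw [← hx, ← hy, hab, hRS])

theorem hom_trivial {p : ℕ} [Fact p.Prime] (hp : p ≠ 2) (χ : ↥(Cfsg.qd p) →* ℤˣ) (x : ↥(Cfsg.qd p)) : χ x = 1 := by
  have h2 : (2 : ZMod p) ≠ 0 := by
    intro h
    have h1 : p ∣ 2 := (ZMod.natCast_eq_zero_iff 2 p).1 (by exact_mod_cast h)
    exact hp ((Nat.prime_dvd_prime_iff_eq Fact.out Nat.prime_two).1 h1)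
  have hsq : ∀ u : ℤˣ, u * u = 1 := Int.units_mul_self
  let ψ : SpecialLinearGroup (Fin 2) (ZMod p) →* ℤˣ := χ.comp (MonoidHom.mk'
    (fun R => (⟨affMat p R 0, affMat_mem_qd p R 0⟩ : ↥(Cfsg.qd p)))
    (fun R S => Subtype.ext (by
      show affMat p (R * S) 0 = affMat p R 0 * affMat p S 0
      rw [affMat_mul, mulVec_zero, add_zero])))
  have hψ : ψ = 1 := by
    refine MonoidHom.eq_of_eqOn_dense Cfsg.Agent.Classical.sl_closure_transvections ?_
    rintro g ⟨i, j, hij, c, rfl⟩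
    have hc : SpecialLinearGroup.transvection hij c =
        SpecialLinearGroup.transvection hij (c / 2) * SpecialLinearGroup.transvection hij (c / 2) := by
      refine Subtype.ext ?_
      show (SpecialLinearGroup.transvection hij c).1 = (SpecialLinearGroup.transvection hij (c / 2)).1 * (SpecialLinearGroup.transvection hij (c / 2)).1
      rw [SpecialLinearGroup.transvection_coe, SpecialLinearGroup.transvection_coe]
      have h := Matrix.transvection_mul_transvection_same i j hij (c / 2) (c / 2)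
      rw [show c / 2 + c / 2 = c by field_simp; ring] at h
      exact h.symm
    rw [hc, map_mul, hsq]
    rfl
  obtain ⟨R, a, hx⟩ := qd_elim x
  have e : x = ⟨affMat p 1 ((2 : ZMod p)⁻¹ • a), affMat_mem_qd p _ _⟩ * ⟨affMat p 1 ((2 : ZMod p)⁻¹ • a), affMat_mem_qd p _ _⟩ *
      ⟨affMat p R 0, affMat_mem_qd p _ _⟩ := by
    refine Subtype.ext ?_
    show x.1 = affMat p 1 _ * affMat p 1 _ * affMat p R 0
    rw [affMat_mul, affMat_mul, ← hx, one_mul, mulVec_zero, zero_add,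
      show (1 : SpecialLinearGroup (Fin 2) (ZMod p)).1 = 1 from rfl, one_mulVec, ← add_smul]
    rw [show ((2 : ZMod p)⁻¹ + (2 : ZMod p)⁻¹) = 1 by rw [← two_mul, mul_inv_cancel₀ h2], one_smul, one_mul]
  rw [e, map_mul, map_mul, hsq, one_mul]
  exact DFunLike.congr_fun hψ R

/-- Let p be an odd prime and n a natural number. The alternating group of degree n has a subgroup isomorphic to Qd(p) (the natural semidirect product of an elementary abelian group of order p² by SL₂(p)) if and only if n ≥ p²; and if n < p² then Qd(p) is not even involved in it. -/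
theorem result {p : ℕ} [Fact p.Prime] (hp : p ≠ 2) (n : ℕ) : ((∃ H : Subgroup (alternatingGroup (Fin n)), Nonempty (↥H ≃* ↥(Cfsg.qd p))) ↔ p ^ 2 ≤ n) ∧ (n < p ^ 2 → ¬ Cfsg.Involves ↥(Cfsg.qd p) ↥(alternatingGroup (Fin n))) := by
  classical
  haveI : NeZero p := ⟨(Fact.out : p.Prime).ne_zero⟩
  have hno : n < p ^ 2 → ¬ Cfsg.Involves ↥(Cfsg.qd p) ↥(alternatingGroup (Fin n)) := by
    rintro hn ⟨K, R, hR, ⟨e⟩⟩
    obtain ⟨P⟩ : Nonempty (Sylow p K) := inferInstance
    let f : K →* ↥(Cfsg.qd p) := e.toMonoidHom.comp (QuotientGroup.mk' (R.subgroupOf K))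
    have hf : Function.Surjective f := e.surjective.comp (QuotientGroup.mk'_surjective _)
    let T : Sylow p ↥(Cfsg.qd p) := P.mapSurjective hf
    obtain ⟨S, hS⟩ := (P.2.map K.subtype).exists_le_sylow
    have hab := Cfsg.Agent.Perm.AltSylowAbelian.comm_of_lt hn S
    have hT : IsMulCommutative ↥(T : Subgroup ↥(Cfsg.qd p)) := ⟨⟨by
      rintro ⟨_, a, ha, rfl⟩ ⟨_, b, hb, rfl⟩
      have h1 := congrArg Subtype.val (hab.is_comm.comm ⟨_, hS ⟨a, ha, rfl⟩⟩ ⟨_, hS ⟨b, hb, rfl⟩⟩)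
      have h2 : a * b = b * a := Subtype.ext h1
      exact Subtype.ext (by show f a * f b = f b * f a; rw [← map_mul, ← map_mul, h2])⟩⟩
    obtain ⟨hex, hc, -⟩ := Cfsg.Agent.S3074.result p hp T
    exact (show ¬ IsMulCommutative ↥(T : Subgroup ↥(Cfsg.qd p)) from fun h => by
      have hz : Subgroup.center ↥(T : Subgroup ↥(Cfsg.qd p)) = ⊤ := eq_top_iff.2 fun z _ =>
        Subgroup.mem_center_iff.2 fun g => h.is_comm.comm g z
      have h3 := hex.2
      have h3' : Nat.card ↥(Subgroup.center ↥(T : Subgroup ↥(Cfsg.qd p))) = p := h3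
      rw [hz, Subgroup.card_top, hc] at h3'
      have h4 := Nat.pow_right_injective (Fact.out : p.Prime).two_le (h3'.trans (pow_one p).symm)
      omega) hT
  refine ⟨⟨?_, fun hn => ?_⟩, hno⟩
  · rintro ⟨H, ⟨e⟩⟩
    by_contra hlt
    exact hno (not_le.1 hlt) ⟨H, ⊥, inferInstance, ⟨(QuotientGroup.quotientMulEquivOfEq (Subgroup.bot_subgroupOf H)).trans
      (QuotientGroup.quotientBot.trans e)⟩⟩
  · letI := planeAction p
    obtain ⟨ι⟩ := Function.Embedding.nonempty_of_card_le (α := Fin 2 → ZMod p) (β := Fin n) (by simpa using hn)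
    let g : ↥(Cfsg.qd p) →* Equiv.Perm (Fin n) :=
      (Equiv.Perm.viaEmbeddingHom ι).comp (MulAction.toPermHom ↥(Cfsg.qd p) (Fin 2 → ZMod p))
    have hg : Function.Injective g :=
      (Equiv.Perm.viaEmbeddingHom_injective ι).comp (plane_injective p)
    let g' : ↥(Cfsg.qd p) →* ↥(alternatingGroup (Fin n)) := g.codRestrict _ fun x =>
      Equiv.Perm.mem_alternatingGroup.2 (hom_trivial hp (Equiv.Perm.sign.comp g) x)
    exact ⟨g'.range, ⟨(MonoidHom.ofInjective (f := g') fun a b h => hg (congrArg Subtype.val h)).symm⟩⟩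

end Cfsg.Agent.S3835
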