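import Cfsg.Statements.S3836
import Cfsg.Agent.Lib.Fusion.Cores

set_option autoImplicit false
open Cfsg

open scoped Pointwise commutatorElement

namespace Cfsg.Agent.S3836

/-- Let G be a finite group that is p-stable in the normalizer form: for every p-subgroup Q and every x ∈ N_G(Q) with [Q, x, x] = 1, the image of x in N_G(Q)/C_G(Q) lies in O_p(N_G(Q)/C_G(Q)). Then every subgroup of G is p-stable in the same sense. -/
theorem result {G : Type*} [Group G] [Finite G] {p : ℕ} [Fact p.Prime] (hst : Cfsg.IsNormalizerPStable p G) (H : Subgroup G) : Cfsg.IsNormalizerPStable p ↥H := by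
  intro P hP g hg hq
  set Q := P.map H.subtype with hQdef
  have hmapN : (Subgroup.normalizer (P : Set H)).map H.subtype ≤ Subgroup.normalizer (Q : Set G) :=
    Subgroup.le_normalizer_map H.subtype
  let ι : Subgroup.normalizer (P : Set H) →* Subgroup.normalizer (Q : Set G) :=
    (H.subtype.comp (Subgroup.normalizer (P : Set H)).subtype).codRestrict _
      (fun x => hmapN ⟨x, x.2, rfl⟩)
  set CP := (Subgroup.centralizer (P : Set H)).subgroupOf (Subgroup.normalizer (P : Set H))
  set CQ := (Subgroup.centralizer (Q : Set G)).subgroupOf (Subgroup.normalizer (Q : Set G))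
  have hcomap : CQ.comap ι = CP := by
    ext x
    show ((x : H) : G) ∈ Subgroup.centralizer (Q : Set G) ↔ (x : H) ∈ Subgroup.centralizer (P : Set H)
    rw [Subgroup.mem_centralizer_iff, Subgroup.mem_centralizer_iff]
    constructor
    · exact fun h y hy => Subtype.ext (h y ⟨y, hy, rfl⟩)
    · rintro h _ ⟨y, hy, rfl⟩
      exact congrArg Subtype.val (h y hy)
  let φ := QuotientGroup.map CP CQ ι hcomap.ge
  have hφ : Function.Injective φ := by
    rw [← MonoidHom.ker_eq_bot_iff, eq_bot_iff]
    intro y hy
    obtain ⟨x, rfl⟩ := QuotientGroup.mk_surjective y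
    rw [Subgroup.mem_bot, QuotientGroup.eq_one_iff, ← hcomap]
    rw [MonoidHom.mem_ker, QuotientGroup.map_mk, QuotientGroup.eq_one_iff] at hy
    exact hy
  have hmem := hst Q (hP.map H.subtype) (g : G) (hmapN ⟨g, hg, rfl⟩) (by
    have := congrArg (Subgroup.map H.subtype) hq
    rwa [Subgroup.map_commutator, Subgroup.map_commutator, Subgroup.map_bot, MonoidHom.map_zpowers] at this)
  exact Cfsg.Agent.Fusion.le_pCore (N := (pCore p _).comap φ)
    ((Cfsg.Agent.Fusion.isPGroup_pCore p _).comap_of_injective φ hφ) hmem

end Cfsg.Agent.S3836
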