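import Cfsg.Statements.S3838
import Cfsg.Agent.Lib.Fusion.NPC
import Cfsg.Agent.Lib.Solv.Coprime

set_option autoImplicit false
set_option linter.style.haveILetI false
open Cfsg

open scoped Pointwise commutatorElement

namespace Cfsg.Agent.S3838

/-- Let G be a finite group with Sylow p-subgroup P such that N_G(P) has a normal p-complement. Then N_G(Q) has a normal p-complement for every subgroup Q with [P, P] ≤ Q ≤ Φ(P). -/
theorem result {G : Type*} [Group G] [Finite G] {p : ℕ} [Fact p.Prime] (P : Sylow p G) (hN : Cfsg.HasNormalPComplement p ↥(Subgroup.normalizer ((P : Subgroup G) : Set G))) (Q : Subgroup G) (h1 : (commutator ↥(P : Subgroup G)).map (P : Subgroup G).subtype ≤ Q) (h2 : Q ≤ (frattini ↥(P : Subgroup G)).map (P : Subgroup G).subtype) : Cfsg.HasNormalPComplement p ↥(Subgroup.normalizer (Q : Set G)) := by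
  have hp : p.Prime := Fact.out
  set P' := (P : Subgroup G) with hP'
  have hQP : Q ≤ P' := h2.trans (Subgroup.map_subtype_le _)
  set M := Subgroup.normalizer (Q : Set G) with hM
  have hPM : P' ≤ M := by
    intro x hx
    refine Subgroup.mem_normalizer_iff.2 fun q => ?_
    have key : ∀ y ∈ P', ∀ q ∈ Q, y * q * y⁻¹ ∈ Q := by
      intro y hy q hq
      have hc : ⁅y, q⁆ ∈ Q := h1 ⟨⁅(⟨y, hy⟩ : P'), ⟨q, hQP hq⟩⁆,
        Subgroup.commutator_mem_commutator (Subgroup.mem_top _) (Subgroup.mem_top _), rfl⟩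
      have := mul_mem hc hq
      simpa [commutatorElement_def] using this
    refine ⟨key x hx q, fun h => ?_⟩
    have := key x⁻¹ (inv_mem hx) _ h
    simpa [mul_assoc] using this
  set PM : Sylow p M := P.subtype hPM with hPMd
  set Q' := Q.subgroupOf M with hQ'
  haveI : Q'.Normal := Subgroup.normal_subgroupOf_of_le_normalizer le_rfl
  have hQp : IsPGroup p Q' := (P.isPGroup'.to_le hQP).comap_of_injective _ M.subtype_injective
  set f := QuotientGroup.mk' Q' with hf
  have hsurj : Function.Surjective f := QuotientGroup.mk'_surjective Q'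
  set Pb : Sylow p (M ⧸ Q') := PM.mapSurjective hsurj with hPb
  have hQPM : Q' ≤ (PM : Subgroup M) := Subgroup.comap_mono hQP
  -- Burnside in the quotient
  have hab : ∀ a ∈ (Pb : Subgroup (M ⧸ Q')), ∀ b ∈ (Pb : Subgroup (M ⧸ Q')), a * b = b * a := by
    rintro _ ⟨a, ha, rfl⟩ _ ⟨b, hb, rfl⟩
    rw [← commutatorElement_eq_one_iff_mul_comm, ← map_commutatorElement, hf, QuotientGroup.mk'_apply,
      QuotientGroup.eq_one_iff]
    exact h1 ⟨⁅(⟨(a : G), ha⟩ : P'), ⟨(b : G), hb⟩⁆,
      Subgroup.commutator_mem_commutator (Subgroup.mem_top _) (Subgroup.mem_top _), rfl⟩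
  have hnN : HasNormalPComplement p ↥(Subgroup.normalizer ((PM : Subgroup M) : Set M)) := by
    refine Fusion.hnpc_of_injective (G := ↥(Subgroup.normalizer (P' : Set G)))
      ((M.subtype.comp (Subgroup.normalizer ((PM : Subgroup M) : Set M)).subtype).codRestrict _ fun x => ?_) ?_ hN
    · have := Subgroup.le_normalizer_map M.subtype ⟨x.1, x.2, rfl⟩
      have e : (PM : Subgroup M).map M.subtype = P' := Subgroup.map_subgroupOf_eq_of_le hPM
      rw [e] at this
      exact this
    · intro x y h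
      exact Subtype.ext (Subtype.ext (congrArg (fun z : ↥(Subgroup.normalizer (P' : Set G)) => (z : G)) h))
  have hnc : Subgroup.normalizer ((Pb : Subgroup (M ⧸ Q')) : Set (M ⧸ Q')) ≤
      Subgroup.centralizer ((Pb : Subgroup (M ⧸ Q')) : Set (M ⧸ Q')) := by
    intro x hx
    obtain ⟨m, rfl⟩ := hsurj x
    -- lift to the normalizer of `P`
    have hm : m ∈ Subgroup.normalizer ((PM : Subgroup M) : Set M) := by
      have hcomap : ((PM : Subgroup M).map f).comap f = (PM : Subgroup M) :=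
        Subgroup.comap_map_eq_self (by rw [hf, QuotientGroup.ker_mk']; exact hQPM)
      refine Subgroup.mem_normalizer_iff.2 fun y => ?_
      have h := Subgroup.mem_normalizer_iff.1 hx (f y)
      rw [← map_inv, ← map_mul, ← map_mul] at h
      rw [← hcomap]
      exact h
    obtain ⟨R, hR⟩ : ∃ R : Sylow p ↥(Subgroup.normalizer ((PM : Subgroup M) : Set M)),
        (R : Subgroup ↥(Subgroup.normalizer ((PM : Subgroup M) : Set M))) =
          (PM : Subgroup M).subgroupOf (Subgroup.normalizer ((PM : Subgroup M) : Set M)) :=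
      ⟨PM.subtype Subgroup.le_normalizer, rfl⟩
    obtain ⟨K, hKn, hK⟩ := Fusion.hnpc_exists_complement hnN R
    have hRn : (R : Subgroup ↥(Subgroup.normalizer ((PM : Subgroup M) : Set M))).Normal := by
      rw [hR]; exact Subgroup.normal_subgroupOf_of_le_normalizer le_rfl
    obtain ⟨⟨k, r⟩, hkr : (k : ↥(Subgroup.normalizer ((PM : Subgroup M) : Set M))) * r = ⟨m, hm⟩⟩ := hK.2 ⟨m, hm⟩
    have e : ((k : ↥(Subgroup.normalizer ((PM : Subgroup M) : Set M))) : M) * (r : ↥(Subgroup.normalizer ((PM : Subgroup M) : Set M))) = m :=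
      congrArg Subtype.val hkr
    rw [← e, map_mul]
    refine mul_mem ?_ (Subgroup.mem_centralizer_iff.2 fun y hy => ?_)
    · refine Subgroup.mem_centralizer_iff.2 ?_
      rintro _ ⟨y, hy, rfl⟩
      rw [← map_mul, ← map_mul]
      refine congrArg f ?_
      exact congrArg Subtype.val (Subgroup.commute_of_normal_of_disjoint _ _ hRn hKn hK.disjoint.symm
        (⟨y, Subgroup.le_normalizer hy⟩ : ↥(Subgroup.normalizer ((PM : Subgroup M) : Set M))) k
        (hR.ge hy) k.2).eq
    · exact hab y hy _ ⟨_, hR.le r.2, rfl⟩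
  obtain ⟨Kb, hKbn, hKb⟩ := Fusion.hnpc_exists_complement (Fusion.hnpc_of_normalizer_le_centralizer Pb hnc) Pb
  set L := Kb.comap f with hL
  haveI : L.Normal := Subgroup.Normal.comap inferInstance f
  have hKco : (Nat.card Kb).Coprime p := Fusion.coprime_card_of_isComplement' hKb
  have hQL : Q' ≤ L := fun q hq => by
    show f q ∈ Kb
    rw [hf, QuotientGroup.mk'_apply, (QuotientGroup.eq_one_iff q).2 hq]; exact one_mem _
  have hLi : (Q'.subgroupOf L).index = Nat.card Kb := by
    have h1 := Solv.card_comap_mk' Q' Kb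
    rw [← hf, ← hL] at h1
    have h2 := (Q'.subgroupOf L).card_mul_index
    rw [Solv.card_subgroupOf hQL, h1] at h2
    exact Nat.eq_of_mul_eq_mul_left Nat.card_pos (by rw [h2, mul_comm])
  obtain ⟨k, hk⟩ := IsPGroup.iff_card.1 hQp
  obtain ⟨X₀, hX₀⟩ := Subgroup.exists_right_complement'_of_coprime (N := Q'.subgroupOf L)
    (by rw [Solv.card_subgroupOf hQL, hLi, hk]; exact hKco.symm.pow_left k)
  set X := X₀.map L.subtype with hX
  have hXc : Nat.card X = Nat.card Kb := by
    rw [hX, Solv.card_map_subtype, ← hLi, hX₀.symm.index_eq_card]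
  have hXco : (Nat.card X).Coprime p := hXc ▸ hKco
  have hXL : X ≤ L := Subgroup.map_subtype_le _
  have hLX : ∀ l ∈ L, ∃ q ∈ Q', ∃ x ∈ X, q * x = l := by
    intro l hl
    obtain ⟨⟨a, b⟩, hab' : (a : L) * b = ⟨l, hl⟩⟩ := hX₀.2 ⟨l, hl⟩
    exact ⟨((a : L) : M), a.2, ((b : L) : M), ⟨b, b.2, rfl⟩, congrArg Subtype.val hab'⟩
  -- Frattini: `M = Q N(X)`
  have hQn : Q' ≤ Subgroup.normalizer (Q' : Set M) := Subgroup.le_normalizer
  have hfr : ∀ m : M, ∃ q ∈ Q', q⁻¹ * m ∈ Subgroup.normalizer (X : Set M) := by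
    intro m
    obtain ⟨q, hq, hqX⟩ := Solv.sz_conj_rel Q' X (MulAut.conj m • X)
      (le_top.trans (Subgroup.normalizer_eq_top_iff.2 inferInstance).ge)
      (by
        intro y hy
        rw [Solv.mem_conj_smul] at hy
        have hyL : y ∈ L := by
          have := (inferInstance : L.Normal).conj_mem _ (hXL hy) m
          simpa [mul_assoc] using this
        obtain ⟨a, ha, b, hb, rfl⟩ := hLX y hyL
        exact Subgroup.mul_mem_sup ha hb)
      (by rw [hk]; exact hXco.symm.pow_left k) (Solv.card_conj_smul m X)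
      (Or.inl (by haveI := hQp.isNilpotent; exact IsNilpotent.to_isSolvable))
    refine ⟨q, hq, Solv.mem_normalizer_of_conj_smul ?_⟩
    rw [← Solv.conj_smul_conj, ← hqX, Solv.conj_smul_conj, inv_mul_cancel, Solv.conj_one_smul]
  have hPX : P' ≤ (Subgroup.normalizer (X : Set M)).map M.subtype := by
    set S := ((Subgroup.normalizer (X : Set M)).map M.subtype).subgroupOf P' with hS
    suffices hStop : S = ⊤ by
      intro x hx
      exact hStop.ge (Subgroup.mem_top (⟨x, hx⟩ : P'))
    refine frattini_nongenerating (top_le_iff.1 fun x _ => ?_)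
    obtain ⟨q, hq, hqn⟩ := hfr ⟨x, hPM x.2⟩
    have hqQ : (q : G) ∈ Q := hq
    obtain ⟨q', hq', hqe⟩ := h2 hqQ
    have hqe' : (q' : G) = q := hqe
    rw [show x = q' * (q'⁻¹ * x) by rw [mul_inv_cancel_left]]
    refine mul_mem (Subgroup.mem_sup_right hq') (Subgroup.mem_sup_left ?_)
    refine ⟨_, hqn, ?_⟩
    show ((q⁻¹ * ⟨(x : G), hPM x.2⟩ : M) : G) = ((q'⁻¹ * x : P') : G)
    rw [Subgroup.coe_mul, Subgroup.coe_mul, Subgroup.coe_inv, Subgroup.coe_inv, hqe']
  have hXn : Subgroup.normalizer (X : Set M) = ⊤ := top_le_iff.1 fun m _ => by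
    obtain ⟨q, hq, hqn⟩ := hfr m
    obtain ⟨q₀, hq₀, he⟩ := hPX (hQP (show (q : G) ∈ Q from hq))
    rw [show m = q * (q⁻¹ * m) by rw [mul_inv_cancel_left], ← (Subtype.ext he : q₀ = q)]
    rw [← (Subtype.ext he : q₀ = q)] at hqn
    exact mul_mem hq₀ hqn
  haveI : X.Normal := Subgroup.normalizer_eq_top_iff.1 hXn
  refine ⟨PM, X, inferInstance, Subgroup.isComplement'_of_card_mul_and_disjoint ?_ ?_⟩
  · have h1 : Nat.card Kb * Nat.card (Pb : Subgroup (M ⧸ Q')) = Nat.card (M ⧸ Q') := hKb.card_mul_card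
    have h3 := Solv.card_map_mul_card_inf_ker f (PM : Subgroup M)
    rw [hf, QuotientGroup.ker_mk', inf_eq_left.2 hQPM, ← hf] at h3
    have h4 : Nat.card (Pb : Subgroup (M ⧸ Q')) = Nat.card ((PM : Subgroup M).map f) := rfl
    rw [hXc, ← h3, ← mul_assoc, ← h4, h1, ← Subgroup.index_eq_card, mul_comm]
    exact Q'.card_mul_index
  · obtain ⟨j, hj⟩ := IsPGroup.iff_card.1 PM.isPGroup'
    exact disjoint_iff.2 (Solv.coprime_inf (hj ▸ hXco.pow_right j))

end Cfsg.Agent.S3838
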