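import Cfsg.Statements.S3857
import Cfsg.Agent.Lib.Solv.FrobeniusGK
import Cfsg.Agent.Lib.Solv.ThompsonFPF
import Cfsg.Agent.Lib.Solv.Cores
import Cfsg.Agent.Lib.Solv.Hall
import Cfsg.Agent.Lib.Solv.SZ

set_option autoImplicit false
set_option linter.style.haveILetI false
open Cfsg

open scoped Pointwise commutatorElement

namespace Cfsg.Agent.S3857


/-- The statement when the Fitting subgroup lives in one side `π` of the separation. -/
theorem main {G : Type*} [Group G] [Finite G] (hsol : Group.IsSolvable G) (π : Set ℕ)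
    (hF : ∀ r : ℕ, r.Prime → r ∣ Nat.card ↥(Cfsg.fittingSubgroup G) → r ∈ π)
    (hout : ∃ b ∉ π, b.Prime ∧ b ∣ Nat.card G)
    (hsep : ∀ x y : G, x ≠ 1 → y ≠ 1 → (∀ r : ℕ, r.Prime → r ∣ orderOf x → r ∈ π) →
      (∀ r : ℕ, r.Prime → r ∣ orderOf y → r ∉ π) → ¬ Commute x y) :
    (∃ C : Subgroup G, Cfsg.IsFrobeniusComplement C) ∨
    (∃ (H K : Subgroup G) (_ : H.Normal), K.Normal ∧ H < K ∧
      (∃ C : Subgroup ↥K, Cfsg.IsFrobeniusComplement C ∧ Cfsg.frobeniusKernel C = (H.subgroupOf K : Set ↥K)) ∧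
      (∃ C : Subgroup (G ⧸ H), Cfsg.IsFrobeniusComplement C ∧ Cfsg.frobeniusKernel C = (K.map (QuotientGroup.mk' H) : Set (G ⧸ H)))) := by
  classical
  haveI := hsol
  obtain ⟨b, hbπ, hb, hbG⟩ := hout
  haveI := Fact.mk hb
  haveI : Nontrivial G := by
    rw [← Finite.one_lt_card_iff_nontrivial]
    exact lt_of_lt_of_le hb.one_lt (Nat.le_of_dvd Nat.card_pos hbG)
  have hFne := Solv.fitting_ne_bot (G := G) hsol
  obtain ⟨M, hFM, hM⟩ := Finite.exists_le_maximal
    (p := fun N : Subgroup G => N.Normal ∧ ∀ r : ℕ, r.Prime → r ∣ Nat.card ↥N → r ∈ π)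
    (a := Cfsg.fittingSubgroup G) ⟨Solv.fittingSubgroup_normal, hF⟩
  haveI := hM.1.1
  have hMne : M ≠ ⊥ := fun h => hFne (eq_bot_iff.2 (h ▸ hFM))
  have hMπ := hM.1.2
  have hπM : ∀ N : Subgroup G, N.Normal → (∀ r : ℕ, r.Prime → r ∣ Nat.card ↥N → r ∈ π) → N ≤ M := by
    intro N hN hNπ
    refine le_sup_right.trans (hM.2 ⟨inferInstance, fun r hr hd => ?_⟩ (le_sup_left (b := N)))
    rcases hr.dvd_mul.1 (hd.trans (Solv.card_sup_dvd M N)) with h | h
    · exact hMπ r hr h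
    · exact hNπ r hr h
  -- `π'`-elements act fixed-point-freely on `M`
  have hπ'M : ∀ y : G, y ≠ 1 → (∀ r : ℕ, r.Prime → r ∣ orderOf y → r ∉ π) →
      M ⊓ Subgroup.centralizer {y} = ⊥ := by
    intro y hy hyπ
    rw [Subgroup.eq_bot_iff_forall]
    rintro x ⟨hx, hxy⟩
    by_contra hx1
    exact hsep x y hx1 hy (fun r hr hd => hMπ r hr (hd.trans (by
      rw [← Subgroup.orderOf_mk x hx]; exact orderOf_dvd_natCard _))) hyπ
      (Subgroup.mem_centralizer_singleton_iff.1 hxy)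
  obtain ⟨x₀, hx₀⟩ := exists_prime_orderOf_dvd_card' b hbG
  have hx₀π : ∀ r : ℕ, r.Prime → r ∣ orderOf x₀ → r ∉ π := by
    intro r hr hd
    rw [hx₀] at hd
    exact ((Nat.prime_dvd_prime_iff_eq hr hb).1 hd) ▸ hbπ
  have hx₀1 : x₀ ≠ 1 := fun h => hb.ne_one (by rw [← hx₀, h, orderOf_one])
  have hMnil : Group.IsNilpotent ↥M := Solv.fpf_nilpotent M x₀ hb (hx₀ ▸ pow_orderOf_eq_one x₀)
    (by rw [Subgroup.normalizer_eq_top_iff.2 inferInstance]; trivial) (hπ'M x₀ hx₀1 hx₀π)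
  -- the `π'`-core of `G / M`
  obtain ⟨Kq, -, hKq⟩ := Finite.exists_le_maximal
    (p := fun N : Subgroup (G ⧸ M) => N.Normal ∧ ∀ r : ℕ, r.Prime → r ∣ Nat.card ↥N → r ∉ π)
    (a := ⊥) ⟨inferInstance, fun r hr hd => absurd (by
      rwa [Subgroup.card_bot, Nat.dvd_one] at hd) hr.ne_one⟩
  haveI := hKq.1.1
  have hKπ := hKq.1.2
  have hQsol : Group.IsSolvable (G ⧸ M) := Group.isSolvable_of_surjective (QuotientGroup.mk'_surjective M)
  have hQπ : ∀ N : Subgroup (G ⧸ M), N.Normal → (∀ r : ℕ, r.Prime → r ∣ Nat.card ↥N → r ∈ π) →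
      N = ⊥ := by
    intro N hN hNπ
    have h1 : N.comap (QuotientGroup.mk' M) ≤ M := hπM _ inferInstance (fun r hr hd => by
      rw [Solv.card_comap_mk'] at hd
      rcases hr.dvd_mul.1 hd with h | h
      · exact hNπ r hr h
      · exact hMπ r hr h)
    rw [eq_bot_iff, ← Subgroup.map_comap_eq_self_of_surjective (QuotientGroup.mk'_surjective M) N,
      Subgroup.map_le_iff_le_comap, MonoidHom.comap_bot, QuotientGroup.ker_mk']
    exact h1
  have hMidx : M.index ≠ 1 := by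
    intro h
    rw [Subgroup.index_eq_one] at h
    exact hbπ (hMπ b hb (by rw [h, Subgroup.card_top]; exact hbG))
  have hKqne : Kq ≠ ⊥ := by
    intro hK
    haveI : Nontrivial (G ⧸ M) := by
      rw [← Finite.one_lt_card_iff_nontrivial, ← Subgroup.index_eq_card]
      have := M.index_ne_zero_of_finite
      omega
    obtain ⟨N, hN, hNne, hNmin⟩ := Solv.exists_minimal_normal (G := G ⧸ M)
    haveI := hN
    haveI := hQsol
    obtain ⟨-, p, hp, -, hpg⟩ := Solv.minimal_normal_elementaryAbelian N inferInstance hNne hNmin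
    haveI := Fact.mk hp
    obtain ⟨k, hk⟩ := IsPGroup.iff_card.1 hpg
    have hsingle : ∀ r : ℕ, r.Prime → r ∣ Nat.card ↥N → r = p := fun r hr hd =>
      (Nat.prime_dvd_prime_iff_eq hr hp).1 (hr.dvd_of_dvd_pow (hk ▸ hd))
    by_cases hpπ : p ∈ π
    · exact hNne (hQπ N hN (fun r hr hd => hsingle r hr hd ▸ hpπ))
    · apply hNne
      rw [eq_bot_iff, ← hK]
      refine le_sup_right.trans (hKq.2 ⟨inferInstance, fun r hr hd => ?_⟩ (le_sup_left (b := N)))
      rcases hr.dvd_mul.1 (hd.trans (Solv.card_sup_dvd Kq N)) with h | h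
      · exact hKπ r hr h
      · exact hsingle r hr h ▸ hpπ
  set K : Subgroup G := Kq.comap (QuotientGroup.mk' M) with hK
  haveI : K.Normal := by rw [hK]; infer_instance
  have hMK : M ≤ K := fun x hx => by
    show (x : G ⧸ M) ∈ Kq
    rw [(QuotientGroup.eq_one_iff x).2 hx]; exact Kq.one_mem
  have hKmap : K.map (QuotientGroup.mk' M) = Kq :=
    Subgroup.map_comap_eq_self_of_surjective (QuotientGroup.mk'_surjective M) Kq
  have hKcard : Nat.card ↥K = Nat.card ↥M * Nat.card ↥Kq := by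
    rw [hK, Solv.card_comap_mk', mul_comm]
  have hcop : Nat.Coprime (Nat.card ↥M) (Nat.card ↥Kq) := Solv.coprime_of_pi hMπ hKπ
  have hsolK : Group.IsSolvable ↥K := inferInstance
  obtain ⟨J₀, hJ₀⟩ := Solv.hall_exists hsolK (m := Nat.card ↥Kq) (n := Nat.card ↥M)
    (by rw [hKcard, mul_comm]) hcop.symm
  have hMJ₀ : Subgroup.IsComplement' (M.subgroupOf K) J₀ := by
    refine Subgroup.isComplement'_of_coprime ?_ ?_
    · rw [Solv.card_subgroupOf hMK, hJ₀, hKcard]
    · rw [Solv.card_subgroupOf hMK, hJ₀]; exact hcop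
  set J : Subgroup G := J₀.map K.subtype with hJ
  have hJcard : Nat.card ↥J = Nat.card ↥Kq := by rw [hJ, Solv.card_map_subtype, hJ₀]
  have hMJ : M ⊓ J = ⊥ := Solv.coprime_inf (hJcard ▸ hcop)
  have hJK : J ≤ K := Subgroup.map_subtype_le _
  have hJπ : ∀ y ∈ J, ∀ r : ℕ, r.Prime → r ∣ orderOf y → r ∉ π := by
    intro y hy r hr hd
    exact hKπ r hr (hJcard ▸ hd.trans (by
      rw [← Subgroup.orderOf_mk y hy]; exact orderOf_dvd_natCard _))
  have hfpfJ : ∀ y ∈ J, y ≠ 1 → M ⊓ Subgroup.centralizer {y} = ⊥ :=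
    fun y hy hy1 => hπ'M y hy1 (hJπ y hy)
  -- `G = M N_G(J)`
  set N := Subgroup.normalizer (J : Set G) with hNdef
  have hGN : ∀ g : G, ∃ m ∈ M, m * g ∈ N := by
    intro g
    have h1 : MulAut.conj g • J ≤ K := fun x hx => by
      rw [Solv.mem_conj_smul] at hx
      have := (inferInstance : K.Normal).conj_mem _ (hJK hx) g
      simpa [mul_assoc] using this
    have h2 : K = M ⊔ J := by
      symm
      refine Subgroup.eq_of_le_of_card_ge (sup_le hMK hJK) ?_
      rw [Solv.card_sup_of_inf_eq_bot M J hMJ, hKcard, hJcard]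
    obtain ⟨m, hm, hmg⟩ := Solv.sz_conj_rel M J (MulAut.conj g • J)
      (by rw [Subgroup.normalizer_eq_top_iff.2 inferInstance]; exact le_top) (h2 ▸ h1)
      (hJcard ▸ hcop) (Solv.card_conj_smul g J) (Or.inl inferInstance)
    refine ⟨m⁻¹, M.inv_mem hm, Solv.mem_normalizer_of_conj_smul ?_⟩
    rw [← Solv.conj_smul_conj, ← hmg, Solv.conj_smul_conj, inv_mul_cancel, Solv.conj_one_smul]
  have hNM : N ⊓ M = ⊥ := by
    rw [Subgroup.eq_bot_iff_forall]
    rintro x ⟨hxN, hxM⟩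
    have hJne : J ≠ ⊥ := fun h => hKqne (Subgroup.card_eq_one.1 (by rw [← hJcard, h, Subgroup.card_bot]))
    obtain ⟨⟨y, hy⟩, hy1⟩ := Subgroup.ne_bot_iff_exists_ne_one.1 hJne
    have h1 : x * y * x⁻¹ * y⁻¹ ∈ M ⊓ J := by
      refine ⟨?_, J.mul_mem ((Subgroup.mem_normalizer_iff.1 hxN y).1 hy) (J.inv_mem hy)⟩
      rw [show x * y * x⁻¹ * y⁻¹ = x * (y * x⁻¹ * y⁻¹) by group]
      exact M.mul_mem hxM ((inferInstance : M.Normal).conj_mem _ (M.inv_mem hxM) y)
    rw [hMJ, Subgroup.mem_bot, mul_inv_eq_one, mul_inv_eq_iff_eq_mul] at h1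
    exact Subgroup.mem_bot.1 (hfpfJ y hy (fun h => hy1 (Subtype.ext h)) ▸
      ⟨hxM, Subgroup.mem_centralizer_singleton_iff.2 h1⟩)
  set φ : ↥N →* G ⧸ M := (QuotientGroup.mk' M).comp N.subtype with hφ
  have hφb : Function.Bijective φ := by
    constructor
    · rw [injective_iff_map_eq_one]
      intro x hx
      exact Subtype.ext (Subgroup.mem_bot.1 (hNM ▸ ⟨x.2, (QuotientGroup.eq_one_iff (x : G)).1 hx⟩))
    · intro q
      obtain ⟨g, rfl⟩ := QuotientGroup.mk_surjective q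
      obtain ⟨m, hm, hmg⟩ := hGN g
      refine ⟨⟨m * g, hmg⟩, ?_⟩
      show ((m * g : G) : G ⧸ M) = _
      rw [QuotientGroup.mk_mul, (QuotientGroup.eq_one_iff m).2 hm, one_mul]
  let ψ : G ⧸ M ≃* ↥N := (MulEquiv.ofBijective φ hφb).symm
  have hsepQ : ∀ x y : G ⧸ M, x ≠ 1 → y ≠ 1 → (∀ r : ℕ, r.Prime → r ∣ orderOf x → r ∈ π) →
      (∀ r : ℕ, r.Prime → r ∣ orderOf y → r ∉ π) → ¬ Commute x y := by
    intro x y hx hy hxπ hyπ hxy
    refine hsep (ψ x : G) (ψ y : G) ?_ ?_ ?_ ?_ ((hxy.map ψ).map N.subtype)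
    · intro h
      exact hx (ψ.injective (Subtype.ext (by rw [h, map_one]; rfl)))
    · intro h
      exact hy (ψ.injective (Subtype.ext (by rw [h, map_one]; rfl)))
    · rw [Subgroup.orderOf_coe, MulEquiv.orderOf_eq]; exact hxπ
    · rw [Subgroup.orderOf_coe, MulEquiv.orderOf_eq]; exact hyπ
  -- the Frobenius group `K`
  have hMKn : M.subgroupOf K ≠ ⊥ := fun h => hMne (by
    rw [← Subgroup.card_eq_one, ← Solv.card_subgroupOf hMK, h, Subgroup.card_bot])
  have hJ₀ne : J₀ ≠ ⊥ := fun h => hKqne (Subgroup.card_eq_one.1 (by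
    rw [← hJ₀, h, Subgroup.card_bot]))
  obtain ⟨hfrobK, hkerK⟩ := Solv.frob_of_fpf_complement hMJ₀ hMKn hJ₀ne (by
    intro h hh hh1
    rw [Subgroup.eq_bot_iff_forall]
    rintro x ⟨hx, hxh⟩
    exact Subtype.ext (Subgroup.mem_bot.1 (hfpfJ (h : G) ⟨h, hh, rfl⟩
      (fun e => hh1 (Subtype.ext e)) ▸ ⟨Subgroup.mem_subgroupOf.1 hx,
        Subgroup.mem_centralizer_singleton_iff.2
          (congrArg Subtype.val (Subgroup.mem_centralizer_singleton_iff.1 hxh))⟩)))
  by_cases hKqtop : Kq = ⊤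
  · -- a Frobenius group
    left
    refine ⟨J, ((S0039.result M J ?_ hMne (fun h => hKqne (Subgroup.card_eq_one.1 (by
      rw [← hJcard, h, Subgroup.card_bot])))).2 hfpfJ)⟩
    refine Subgroup.isComplement'_of_coprime ?_ (hJcard ▸ hcop)
    rw [hJcard, hKqtop, Subgroup.card_top, ← Subgroup.index_eq_card, Subgroup.card_mul_index]
  -- `Kq` is cyclic
  right
  obtain ⟨p, hp, hpQ, hpπ⟩ : ∃ p : ℕ, p.Prime ∧ p ∣ Nat.card (G ⧸ M) ∧ p ∈ π := by
    by_contra hno
    push Not at hno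
    exact hKqtop (eq_top_iff.2 (hKq.2 ⟨inferInstance, fun r hr hd =>
      hno r hr (by rwa [Subgroup.card_top] at hd)⟩ le_top))
  haveI := Fact.mk hp
  obtain ⟨z, hz⟩ := exists_prime_orderOf_dvd_card' p hpQ
  have hzπ : ∀ r : ℕ, r.Prime → r ∣ orderOf z → r ∈ π := by
    intro r hr hd
    rw [hz] at hd
    exact ((Nat.prime_dvd_prime_iff_eq hr hp).1 hd) ▸ hpπ
  have hπKq : ∀ z : G ⧸ M, z ≠ 1 → (∀ r : ℕ, r.Prime → r ∣ orderOf z → r ∈ π) →
      Kq ⊓ Subgroup.centralizer {z} = ⊥ := by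
    intro z hz hzπ
    rw [Subgroup.eq_bot_iff_forall]
    rintro x ⟨hx, hxz⟩
    by_contra hx1
    exact hsepQ z x hz hx1 hzπ (fun r hr hd => hKπ r hr (hd.trans (by
      rw [← Subgroup.orderOf_mk x hx]; exact orderOf_dvd_natCard _)))
      (Subgroup.mem_centralizer_singleton_iff.1 hxz).symm
  have hz1 : z ≠ 1 := fun h => hp.ne_one (by rw [← hz, h, orderOf_one])
  have hzK := hπKq z hz1 hzπ
  have hKqnil : Group.IsNilpotent ↥Kq := Solv.fpf_nilpotent Kq z hp (hz ▸ pow_orderOf_eq_one z)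
    (by rw [Subgroup.normalizer_eq_top_iff.2 inferInstance]; trivial) hzK
  haveI : Nontrivial ↥M := (Subgroup.nontrivial_iff_ne_bot M).2 hMne
  haveI := hMnil
  set Z : Subgroup G := (Subgroup.center ↥M).map M.subtype with hZ
  have hZne : Z ≠ ⊥ := by
    rw [hZ, Ne, Subgroup.map_eq_bot_iff_of_injective _ M.subtype_injective]
    exact Group.IsNilpotent.center_ne_bot ↥M
  haveI : IsMulCommutative ↥Z := by rw [hZ]; infer_instance
  haveI : Z.Normal := Solv.map_subtype_normal_of_characteristic M (Subgroup.center ↥M)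
  have hψJ : ∀ x ∈ Kq, ((ψ x : ↥N) : G) ∈ J := by
    have hJN : J ≤ N := Subgroup.le_normalizer
    have h1 : (J.subgroupOf N).map φ = Kq := by
      refine Subgroup.eq_of_le_of_card_ge ?_ ?_
      · rintro - ⟨y, hy, rfl⟩
        exact hJK (Subgroup.mem_subgroupOf.1 hy)
      · rw [Subgroup.card_map_of_injective hφb.1, Solv.card_subgroupOf hJN, hJcard]
    intro x hx
    rw [← h1] at hx
    obtain ⟨y, hy, rfl⟩ := hx
    have hψφ : ψ (φ y) = y := (MulEquiv.ofBijective φ hφb).symm_apply_apply y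
    rw [hψφ]
    exact Subgroup.mem_subgroupOf.1 hy
  obtain ⟨hKqcyc, -⟩ : IsCyclic ↥Kq ∧ Odd (Nat.card ↥Kq) := by
    refine Solv.nilpotent_cyclic_odd hKqnil ?_ (MulAut.conjNormal (H := Kq) z) ?_
    · intro q hq x y hxy hxq hyq hy1
      haveI := Fact.mk hq
      obtain ⟨k, hk⟩ := Solv.fpf_unique_order hZne
        (by rw [Subgroup.normalizer_eq_top_iff.2 inferInstance]; exact le_top)
        (A := J) (fun a ha ha1 => eq_bot_iff.2 ((inf_le_inf_right _ (Subgroup.map_subtype_le _)).trans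
          (hfpfJ a ha ha1).le))
        (hψJ _ x.2) (hψJ _ y.2) (((hxy.map Kq.subtype).map ψ).map N.subtype)
        (p := q) (by
          rw [← SubgroupClass.coe_pow, ← map_pow, show (x : G ⧸ M) ^ q = 1 from congrArg Subtype.val hxq, map_one]
          rfl)
        (by
          rw [← SubgroupClass.coe_pow, ← map_pow, show (y : G ⧸ M) ^ q = 1 from congrArg Subtype.val hyq, map_one]
          rfl)
        (fun h => hy1 (Subtype.ext (ψ.injective (Subtype.ext (by
          rw [OneMemClass.coe_one, map_one]; exact h)))))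
      refine ⟨k, Subtype.ext (ψ.injective (Subtype.ext ?_))⟩
      simp only at hk
      rw [← hk]
      simp
    · intro x hx
      have hx' := congrArg Subtype.val hx
      rw [MulAut.conjNormal_apply] at hx'
      exact Subtype.ext (Subgroup.mem_bot.1 (hzK ▸
        ⟨x.2, Subgroup.mem_centralizer_singleton_iff.2 (mul_inv_eq_iff_eq_mul.1 hx').symm⟩))
  -- `C(Kq) ≤ Kq`
  have hCKq : Subgroup.centralizer (Kq : Set (G ⧸ M)) ≤ Kq := by
    have hFq : Cfsg.fittingSubgroup (G ⧸ M) ≤ Kq := by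
      haveI := Solv.fittingSubgroup_normal (G := G ⧸ M)
      have hFπ : ∀ r : ℕ, r.Prime → r ∣ Nat.card ↥(Cfsg.fittingSubgroup (G ⧸ M)) → r ∉ π := by
        intro r hr hd hrπ
        haveI := Fact.mk hr
        haveI := Solv.fittingSubgroup_nilpotent (G := G ⧸ M)
        obtain ⟨P⟩ : Nonempty (Sylow r ↥(Cfsg.fittingSubgroup (G ⧸ M))) := inferInstance
        haveI : (P : Subgroup ↥(Cfsg.fittingSubgroup (G ⧸ M))).Normal :=
          P.normal_of_normalizerCondition Group.normalizerCondition_of_isNilpotent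
        haveI : (P : Subgroup ↥(Cfsg.fittingSubgroup (G ⧸ M))).Characteristic :=
          P.characteristic_of_normal inferInstance
        have h1 := hQπ ((P : Subgroup ↥(Cfsg.fittingSubgroup (G ⧸ M))).map (Cfsg.fittingSubgroup (G ⧸ M)).subtype)
          (Solv.map_subtype_normal_of_characteristic _ (P : Subgroup ↥(Cfsg.fittingSubgroup (G ⧸ M)))) (by
          intro s hs hsd
          rw [Solv.card_map_subtype] at hsd
          obtain ⟨k, hk⟩ := IsPGroup.iff_card.1 P.2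
          rw [hk] at hsd
          exact ((Nat.prime_dvd_prime_iff_eq hs hr).1 (hs.dvd_of_dvd_pow hsd)) ▸ hrπ)
        rw [Subgroup.map_eq_bot_iff_of_injective _ (Subgroup.subtype_injective _)] at h1
        have h2 : r ∣ Nat.card ↥(P : Subgroup ↥(Cfsg.fittingSubgroup (G ⧸ M))) := P.dvd_card_of_dvd_card hd
        rw [h1, Subgroup.card_bot] at h2
        exact hr.ne_one (Nat.dvd_one.1 h2)
      refine le_sup_right.trans (hKq.2 ⟨inferInstance, fun r hr hd => ?_⟩ le_sup_left)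
      rcases hr.dvd_mul.1 (hd.trans (Solv.card_sup_dvd Kq _)) with h | h
      · exact hKπ r hr h
      · exact hFπ r hr h
    exact (Subgroup.centralizer_le hFq).trans ((Solv.centralizer_fitting_le hQsol).trans hFq)
  have hcomm : commutator (G ⧸ M) ≤ Kq := by
    refine le_trans ?_ hCKq
    rw [commutator_def, Subgroup.commutator_le]
    intro g _ h _
    rw [Subgroup.mem_centralizer_iff]
    intro x hx
    let ρ : G ⧸ M →* MulAut ↥Kq := MulAut.conjNormal
    haveI := hKqcyc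
    have hρ : ρ (⁅g, h⁆) = 1 := by
      rw [map_commutatorElement, commutatorElement_eq_one_iff_mul_comm]
      ext k
      obtain ⟨m, hm⟩ := MonoidHom.map_cyclic ((ρ g : ↥Kq ≃* ↥Kq).toMonoidHom)
      obtain ⟨m', hm'⟩ := MonoidHom.map_cyclic ((ρ h : ↥Kq ≃* ↥Kq).toMonoidHom)
      have e1 : ∀ x, ρ g x = x ^ m := hm
      have e2 : ∀ x, ρ h x = x ^ m' := hm'
      rw [MulAut.mul_apply, MulAut.mul_apply, e1, e2, e2, e1, ← zpow_mul, ← zpow_mul, mul_comm]
    have h1 := congrArg Subtype.val (DFunLike.congr_fun hρ ⟨x, hx⟩)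
    simp only [ρ, MulAut.conjNormal_apply, MulAut.one_apply] at h1
    exact (mul_inv_eq_iff_eq_mul.1 h1).symm
  -- `G/M` modulo `Kq` is a `π`-group
  obtain ⟨m, n, hmn, hco, hmπ, hnπ⟩ := Solv.exists_pi_split π (Nat.card (G ⧸ M)) Nat.card_pos.ne'
  have hn : n = Nat.card ↥Kq := by
    obtain ⟨H', hH'⟩ := Solv.hall_exists hQsol (m := n) (n := m) (by rw [hmn, mul_comm]) hco.symm
    have hHn : (H' ⊔ Kq).Normal := by
      refine ⟨fun x hx g => ?_⟩
      have h1 : ⁅g, x⁆ ∈ H' ⊔ Kq := le_sup_right (a := H') (hcomm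
        (Subgroup.commutator_mem_commutator (Subgroup.mem_top _) (Subgroup.mem_top _)))
      rw [show g * x * g⁻¹ = ⁅g, x⁆ * x by rw [commutatorElement_def]; group]
      exact Subgroup.mul_mem _ h1 hx
    have h2 : H' ⊔ Kq ≤ Kq := hKq.2 ⟨hHn, fun r hr hd => by
      rw [sup_comm] at hd
      rcases hr.dvd_mul.1 (hd.trans (Solv.card_sup_dvd Kq H')) with h | h
      · exact hKπ r hr h
      · exact hnπ r hr (hH' ▸ h)⟩ le_sup_right
    refine Nat.dvd_antisymm (hH' ▸ Subgroup.card_dvd_of_le (le_sup_left.trans h2)) ?_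
    have h3 : Nat.card ↥Kq ∣ m * n := hmn ▸ Subgroup.card_subgroup_dvd_card Kq
    exact (Solv.coprime_of_pi hmπ hKπ).symm.dvd_of_dvd_mul_left h3
  obtain ⟨B, hB⟩ := Solv.hall_exists hQsol hmn hco
  have hKB : Subgroup.IsComplement' Kq B := by
    refine Subgroup.isComplement'_of_coprime ?_ ?_
    · rw [hB, hmn, hn, mul_comm]
    · rw [hB, ← hn]; exact hco.symm
  have hBne : B ≠ ⊥ := by
    intro h
    apply hKqtop
    rw [h, Subgroup.isComplement'_bot_right] at hKB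
    exact hKB
  obtain ⟨hfrobQ, hkerQ⟩ := Solv.frob_of_fpf_complement hKB hKqne hBne (fun h hh hh1 =>
    hπKq h hh1 (fun r hr hd => hmπ r hr (hB ▸ hd.trans (by
      rw [← Subgroup.orderOf_mk h hh]; exact orderOf_dvd_natCard _))))
  refine ⟨M, K, inferInstance, inferInstance, lt_of_le_of_ne hMK (fun h => hKqne ?_),
    ⟨J₀, hfrobK, hkerK⟩, ⟨B, hfrobQ, by rw [hkerQ, hKmap]⟩⟩
  rw [← hKmap, ← h, QuotientGroup.map_mk'_self]

/-- A finite solvable group whose prime graph (prime divisors of the order, two distinct primes joined when there is an element of order their product) is disconnected is a Frobenius group or a 2-Frobenius group (it has normal subgroups H < K with K a Frobenius group with kernel H and G/H a Frobenius group with kernel K/H). -/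
theorem result {G : Type*} [Group G] [Finite G] (hsol : Group.IsSolvable G)
    (hdisc : (∃ A : Set ℕ, (∃ a ∈ A, a.Prime ∧ a ∣ Nat.card G) ∧ (∃ b ∉ A, b.Prime ∧ b ∣ Nat.card G) ∧
      ∀ a ∈ A, ∀ b ∉ A, a.Prime → b.Prime → a ∣ Nat.card G → b ∣ Nat.card G → ¬ ∃ g : G, orderOf g = a * b)) :
    (∃ C : Subgroup G, Cfsg.IsFrobeniusComplement C) ∨
    (∃ (H K : Subgroup G) (_ : H.Normal), K.Normal ∧ H < K ∧
      (∃ C : Subgroup ↥K, Cfsg.IsFrobeniusComplement C ∧ Cfsg.frobeniusKernel C = (H.subgroupOf K : Set ↥K)) ∧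
      (∃ C : Subgroup (G ⧸ H), Cfsg.IsFrobeniusComplement C ∧ Cfsg.frobeniusKernel C = (K.map (QuotientGroup.mk' H) : Set (G ⧸ H)))) := by
  classical
  obtain ⟨A, ⟨a, haA, ha, haG⟩, ⟨b, hbA, hb, hbG⟩, hA⟩ := hdisc
  have hsep : ∀ x y : G, x ≠ 1 → y ≠ 1 → (∀ r : ℕ, r.Prime → r ∣ orderOf x → r ∈ A) →
      (∀ r : ℕ, r.Prime → r ∣ orderOf y → r ∉ A) → ¬ Commute x y := by
    intro x y hx hy hxA hyA hxy
    obtain ⟨r, hr, hrd⟩ := Nat.exists_prime_and_dvd (fun h => hx (orderOf_eq_one_iff.1 h))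
    obtain ⟨s, hs, hsd⟩ := Nat.exists_prime_and_dvd (fun h => hy (orderOf_eq_one_iff.1 h))
    have hrs : r ≠ s := fun h => hyA s hs hsd (h ▸ hxA r hr hrd)
    have hxo : orderOf (x ^ (orderOf x / r)) = r := orderOf_pow_orderOf_div (orderOf_pos x).ne' hrd
    have hyo : orderOf (y ^ (orderOf y / s)) = s := orderOf_pow_orderOf_div (orderOf_pos y).ne' hsd
    refine hA r (hxA r hr hrd) s (hyA s hs hsd) hr hs (hrd.trans (orderOf_dvd_natCard _))
      (hsd.trans (orderOf_dvd_natCard _)) ⟨x ^ (orderOf x / r) * y ^ (orderOf y / s), ?_⟩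
    rw [(hxy.pow_pow _ _).orderOf_mul_eq_mul_orderOf_of_coprime
      (by rw [hxo, hyo]; exact (Nat.coprime_primes hr hs).2 hrs), hxo, hyo]
  by_cases hFA : ∀ r : ℕ, r.Prime → r ∣ Nat.card ↥(Cfsg.fittingSubgroup G) → r ∈ A
  · exact main hsol A hFA ⟨b, hbA, hb, hbG⟩ hsep
  push Not at hFA
  obtain ⟨s, hs, hsF, hsA⟩ := hFA
  refine main hsol Aᶜ ?_ ⟨a, fun h => h haA, ha, haG⟩ ?_
  · intro r hr hrF hrA
    haveI := Fact.mk hr
    haveI := Fact.mk hs
    obtain ⟨x, hx⟩ := exists_prime_orderOf_dvd_card' r hrF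
    obtain ⟨y, hy⟩ := exists_prime_orderOf_dvd_card' s hsF
    have hrs : r ≠ s := fun h => hsA (h ▸ hrA)
    refine hA r hrA s hsA hr hs (hrF.trans (Subgroup.card_subgroup_dvd_card _))
      (hsF.trans (Subgroup.card_subgroup_dvd_card _)) ⟨((x * y : ↥(Cfsg.fittingSubgroup G)) : G), ?_⟩
    rw [Subgroup.orderOf_coe, (Solv.commute_of_nilpotent_prime Solv.fittingSubgroup_nilpotent hrs hx hy).orderOf_mul_eq_mul_orderOf_of_coprime
      (by rw [hx, hy]; exact (Nat.coprime_primes hr hs).2 hrs), hx, hy]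
  · intro x y hx hy hxA hyA hxy
    exact hsep y x hy hx (fun r hr hd => not_not.1 (hyA r hr hd)) hxA hxy.symm

end Cfsg.Agent.S3857
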