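import Cfsg.Statements.S3858
import Cfsg.Agent.Lib.Solv.Cores

set_option autoImplicit false
open Cfsg

open scoped Pointwise commutatorElement

namespace Cfsg.Agent.S3858

/-- Let G be a finite group with a normal non-abelian simple subgroup T whose centralizer is trivial (G almost simple with socle T), r a prime and R a Sylow r-subgroup of G meeting T nontrivially. Then R lies in exactly one maximal subgroup of G if and only if G has exactly one conjugacy class of maximal subgroups whose index is prime to r. -/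
theorem result {G : Type*} [Group G] [Finite G] (T : Subgroup G) [T.Normal] (hT : IsSimpleGroup T) (hna : ¬ IsMulCommutative T)
    (hC : Subgroup.centralizer (T : Set G) = ⊥) {r : ℕ} [Fact r.Prime] (R : Sylow r G) (hR0 : (R : Subgroup G) ⊓ T ≠ ⊥) :
    (∃! M : Subgroup G, IsCoatom M ∧ (R : Subgroup G) ≤ M) ↔
      ((∃ M : Subgroup G, IsCoatom M ∧ ¬ r ∣ M.index) ∧
        ∀ M₁ M₂ : Subgroup G, IsCoatom M₁ → ¬ r ∣ M₁.index → IsCoatom M₂ → ¬ r ∣ M₂.index → ∃ g : G, M₂ = M₁.map (MulAut.conj g).toMonoidHom) := by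
  have hRn : Subgroup.normalizer ((R : Subgroup G) : Set G) ≠ ⊤ := by
    intro h
    have hn : (R : Subgroup G).Normal := Subgroup.normalizer_eq_top_iff.1 h
    rcases ((inferInstance : ((R : Subgroup G).subgroupOf T).Normal)).eq_bot_or_eq_top with h' | h'
    · rw [Subgroup.subgroupOf_eq_bot] at h'
      exact hR0 h'.eq_bot
    · have hTr : IsPGroup r T := R.2.to_le (Subgroup.subgroupOf_eq_top.1 h')
      have := hTr.isNilpotent
      have hc : IsCyclic T := inferInstance
      exact hna inferInstance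
  obtain ⟨M₀, hM₀, hNM₀⟩ := (eq_top_or_exists_le_coatom _).resolve_left hRn
  constructor
  · rintro ⟨M, ⟨hM, hRM⟩, huniq⟩
    have hconj : ∀ N : Subgroup G, IsCoatom N → ¬ r ∣ N.index → ∃ g : G, N = MulAut.conj g • M := by
      intro N hN hrN
      obtain ⟨Q⟩ : Nonempty (Sylow r N) := inferInstance
      have hQ : Nat.card ((Q : Subgroup N).map N.subtype) = r ^ (Nat.card G).factorization r := by
        rw [Solv.card_map_subtype, Q.card_eq_multiplicity, ← N.card_mul_index,
          Nat.factorization_mul Nat.card_pos.ne' Subgroup.index_ne_zero_of_finite, Finsupp.add_apply,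
          Nat.factorization_eq_zero_of_not_dvd hrN, add_zero]
      obtain ⟨g, hg⟩ := MulAction.exists_smul_eq G R (Sylow.ofCard _ hQ)
      have hgR : MulAut.conj g • (R : Subgroup G) = (Q : Subgroup N).map N.subtype :=
        congrArg Sylow.toSubgroup hg
      refine ⟨g, ?_⟩
      have h1 : (R : Subgroup G) ≤ MulAut.conj g⁻¹ • N := by
        rw [map_inv, Subgroup.subset_pointwise_smul_iff, inv_inv, hgR]
        exact Subgroup.map_subtype_le _
      have h2 : IsCoatom (MulAut.conj g⁻¹ • N) := by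
        refine ⟨fun h => hN.1 ?_, fun K hK => ?_⟩
        · apply_fun (fun H : Subgroup G => MulAut.conj g • H) at h
          rw [Solv.conj_smul_conj, mul_inv_cancel, Solv.conj_one_smul] at h
          rw [h, Subgroup.Normal.conj_smul_eq_self]
        · have h3 : N < MulAut.conj g • K := by
            refine lt_of_le_of_ne ?_ fun e => hK.ne ?_
            · rw [Subgroup.subset_pointwise_smul_iff, ← map_inv]; exact hK.le
            · rw [e, Solv.conj_smul_conj, inv_mul_cancel, Solv.conj_one_smul]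
          have := congrArg (fun H : Subgroup G => MulAut.conj g⁻¹ • H) (hN.2 _ h3)
          rwa [Solv.conj_smul_conj, inv_mul_cancel, Solv.conj_one_smul,
            Subgroup.Normal.conj_smul_eq_self] at this
      rw [← huniq _ ⟨h2, h1⟩, Solv.conj_smul_conj, mul_inv_cancel, Solv.conj_one_smul]
    refine ⟨⟨M, hM, fun h => R.not_dvd_index (h.trans (Subgroup.index_dvd_of_le hRM))⟩, ?_⟩
    intro M₁ M₂ h1 hr1 h2 hr2
    obtain ⟨g₁, rfl⟩ := hconj M₁ h1 hr1
    obtain ⟨g₂, rfl⟩ := hconj M₂ h2 hr2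
    refine ⟨g₂ * g₁⁻¹, ?_⟩
    rw [← Solv.conj_smul_eq_map, Solv.conj_smul_conj, inv_mul_cancel_right]
  · rintro ⟨-, hcl⟩
    have hRM₀ : (R : Subgroup G) ≤ M₀ := Subgroup.le_normalizer.trans hNM₀
    have hr0 : ¬ r ∣ M₀.index := fun h => R.not_dvd_index (h.trans (Subgroup.index_dvd_of_le hRM₀))
    refine ⟨M₀, ⟨hM₀, hRM₀⟩, fun M ⟨hM, hRM⟩ => ?_⟩
    obtain ⟨g, hg⟩ := hcl M₀ M hM₀ hr0 hM
      (fun h => R.not_dvd_index (h.trans (Subgroup.index_dvd_of_le hRM)))
    rw [← Solv.conj_smul_eq_map] at hg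
    have h1 : MulAut.conj g⁻¹ • (R : Subgroup G) ≤ M₀ := by
      rw [map_inv, ← Subgroup.subset_pointwise_smul_iff, ← hg]; exact hRM
    obtain ⟨m, hm⟩ := MulAction.exists_smul_eq M₀ ((g⁻¹ • R).subtype h1) (R.subtype hRM₀)
    rw [Sylow.smul_subtype] at hm
    have hm' : ((m : G) * g⁻¹) • R = R := by
      rw [mul_smul]
      exact Sylow.subtype_injective hm
    have h2 : (m : G) * g⁻¹ ∈ M₀ := hNM₀ (Sylow.smul_eq_iff_mem_normalizer.1 hm')
    have h3 : g ∈ M₀ := by
      have := M₀.mul_mem (M₀.inv_mem h2) m.2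
      rwa [mul_inv_rev, inv_inv, inv_mul_cancel_right] at this
    rw [hg, Subgroup.conj_smul_eq_self_of_mem h3]

end Cfsg.Agent.S3858
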