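import Cfsg.Statements.S3859
import Cfsg.Agent.Lib.Solv.Cores

set_option autoImplicit false
open Cfsg

open scoped Pointwise commutatorElement

namespace Cfsg.Agent.S3859

/-- Let G be a finite group with a normal non-abelian simple subgroup T whose centralizer is trivial (G almost simple with socle T), r a prime and R a Sylow r-subgroup of G meeting T nontrivially. If R lies in exactly one maximal subgroup of G, then G/T is an r-group. -/
theorem result {G : Type*} [Group G] [Finite G] (T : Subgroup G) [T.Normal] (hT : IsSimpleGroup T) (hna : ¬ IsMulCommutative T)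
    (hC : Subgroup.centralizer (T : Set G) = ⊥) {r : ℕ} [Fact r.Prime] (R : Sylow r G) (hR0 : (R : Subgroup G) ⊓ T ≠ ⊥)
    (huniq : ∃! M : Subgroup G, IsCoatom M ∧ (R : Subgroup G) ≤ M) : IsPGroup r (G ⧸ T) := by
  obtain ⟨M, ⟨hM, hRM⟩, huniq⟩ := huniq
  set U := (R : Subgroup G) ⊔ T with hU
  have hUtop : U = ⊤ := by
    by_contra hne
    obtain ⟨M', hM', hUM'⟩ := (eq_top_or_exists_le_coatom _).resolve_left hne
    have hTM : T ≤ M := huniq M' ⟨hM', le_sup_left.trans hUM'⟩ ▸ le_sup_right.trans hUM'
    obtain ⟨Q, hQ⟩ : ∃ Q : Sylow r T, (Q : Subgroup T) = (R : Subgroup G).subgroupOf T := by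
      have hp : IsPGroup r ((R : Subgroup G).subgroupOf T) := R.2.comap_subtype
      refine ⟨⟨_, hp, fun {K} hK hle => ?_⟩, rfl⟩
      obtain ⟨S, hS⟩ := IsPGroup.exists_le_sylow (hK.map T.subtype)
      -- `R T` contains `K`, and `R` is Sylow in it
      set K' := K.map T.subtype
      have hmem : ∀ k ∈ K, k ∈ (R : Subgroup G).subgroupOf T := by
        intro k hk
        by_contra hkR
        have hidx : ¬ r ∣ ((R : Subgroup G).subgroupOf T).index := by
          show ¬ r ∣ (R : Subgroup G).relIndex T
          have h1 : (R : Subgroup G).relIndex T * Nat.card ((R : Subgroup G) ⊓ T : Subgroup G) =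
              Nat.card T := by
            have := Subgroup.relIndex_mul_relIndex (⊥ : Subgroup G) ((R : Subgroup G) ⊓ T) T
              bot_le inf_le_right
            rw [Subgroup.relIndex_bot_left, Subgroup.relIndex_bot_left,
              Subgroup.inf_relIndex_right] at this
            rw [mul_comm, this]
          have h2 := Solv.card_sup_mul_card_inf T (R : Subgroup G)
          rw [inf_comm T, ← h1] at h2
          have h3 : Nat.card (T ⊔ (R : Subgroup G) : Subgroup G) =
              (R : Subgroup G).relIndex T * Nat.card R := by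
            refine Nat.eq_of_mul_eq_mul_right
              (Nat.card_pos (α := ((R : Subgroup G) ⊓ T : Subgroup G))) ?_
            rw [h2]; ring
          intro hd
          have h5 : r * Nat.card R ∣ Nat.card G :=
            ((mul_dvd_mul_right hd _).trans (dvd_of_eq h3.symm)).trans (Subgroup.card_subgroup_dvd_card _)
          rw [← (R : Subgroup G).card_mul_index, mul_comm r] at h5
          exact R.not_dvd_index (Nat.dvd_of_mul_dvd_mul_left Nat.card_pos h5)
        refine hidx ?_
        have hlt : (R : Subgroup G).subgroupOf T < K := lt_of_le_of_ne hle fun e => hkR (e ▸ hk)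
        obtain ⟨a, ha⟩ := IsPGroup.iff_card.1 hK
        obtain ⟨b, hb⟩ := IsPGroup.iff_card.1 hp
        have h6 : ((R : Subgroup G).subgroupOf T).relIndex K ∣
            ((R : Subgroup G).subgroupOf T).index := Subgroup.relIndex_dvd_index_of_le hle
        have h7 : b < a := by
          have := Solv.card_lt_of_lt hlt
          rw [ha, hb] at this
          exact (Nat.pow_lt_pow_iff_right (Fact.out : r.Prime).one_lt).1 this
        have h8 := Subgroup.relIndex_mul_relIndex (⊥ : Subgroup T) _ K bot_le hle
        rw [Subgroup.relIndex_bot_left, Subgroup.relIndex_bot_left, ha, hb] at h8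
        refine dvd_trans ?_ h6
        have : r ^ b * r ∣ r ^ b * ((R : Subgroup G).subgroupOf T).relIndex K := by
          rw [h8, ← pow_succ]; exact pow_dvd_pow r h7
        exact Nat.dvd_of_mul_dvd_mul_left (pow_pos (Fact.out : r.Prime).pos b) this
      exact le_antisymm hmem hle
    have hfr := Sylow.normalizer_sup_eq_top Q
    have hne' : Subgroup.normalizer (((Q : Subgroup T).map T.subtype : Subgroup G) : Set G) ≠ ⊤ := by
      intro h
      have hn := Subgroup.normalizer_eq_top_iff.1 h
      have hn' : (Q : Subgroup T).Normal := by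
        have := hn.subgroupOf T
        rwa [Subgroup.subgroupOf, Subgroup.comap_map_eq_self_of_injective T.subtype_injective] at this
      rcases hn'.eq_bot_or_eq_top with h' | h'
      · rw [hQ, Subgroup.subgroupOf_eq_bot] at h'
        exact hR0 h'.eq_bot
      · have hTr : IsPGroup r T := R.2.to_le (Subgroup.subgroupOf_eq_top.1 (hQ ▸ h'))
        have := hTr.isNilpotent
        have hc : IsCyclic T := inferInstance
        exact hna inferInstance
    obtain ⟨M'', hM'', hNM''⟩ := (eq_top_or_exists_le_coatom _).resolve_left hne'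
    have hRN : (R : Subgroup G) ≤
        Subgroup.normalizer (((Q : Subgroup T).map T.subtype : Subgroup G) : Set G) := by
      intro x hx
      refine Solv.mem_normalizer_of_conj_smul ?_
      rw [hQ, Subgroup.subgroupOf_map_subtype, Subgroup.smul_inf,
        Subgroup.conj_smul_eq_self_of_mem hx, Subgroup.Normal.conj_smul_eq_self]
    have := huniq M'' ⟨hM'', hRN.trans hNM''⟩
    subst this
    exact hM.1 (top_le_iff.1 (hfr ▸ sup_le hNM'' hTM))
  intro q
  obtain ⟨g, rfl⟩ := QuotientGroup.mk_surjective q
  have hg : g ∈ ((U : Subgroup G) : Set G) := by rw [hUtop]; exact Subgroup.mem_top g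
  rw [hU, sup_comm, Subgroup.normal_mul] at hg
  obtain ⟨t, ht, x, hx, rfl⟩ := hg
  obtain ⟨k, hk⟩ := R.2 ⟨x, hx⟩
  refine ⟨k, ?_⟩
  rw [QuotientGroup.mk_mul, (QuotientGroup.eq_one_iff t).2 ht, one_mul, ← QuotientGroup.mk_pow]
  have : x ^ r ^ k = 1 := congrArg Subtype.val hk
  rw [this, QuotientGroup.mk_one]

end Cfsg.Agent.S3859
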