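import Cfsg.Statements.S3861
import Cfsg.Agent.Lib.Solv.Zipper
import Cfsg.Agent.Lib.Solv.SZ
import Cfsg.Agent.Lib.Solv.ClassPow
import Cfsg.Agent.Lib.Fusion.Cores

set_option autoImplicit false
open Cfsg

open scoped Pointwise commutatorElement

namespace Cfsg.Agent.S3861

/-- A finite group G has no non-identity element of odd order that is conjugate to its inverse if and only if the Sylow 2-subgroups of G are normal. -/
theorem result {G : Type*} [Group G] [Finite G] (P : Sylow 2 G) : (∀ x : G, x ≠ 1 → Odd (orderOf x) → ¬ IsConj x x⁻¹) ↔ (P : Subgroup G).Normal := by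
  have hp2 : Fact (Nat.Prime 2) := ⟨Nat.prime_two⟩
  constructor
  · intro h
    have hN := Solv.pCore_normal (G := G) 2
    have hNp := Solv.pCore_isPGroup (G := G) 2
    -- no involution in the quotient
    have hq : ¬ 2 ∣ Nat.card (G ⧸ pCore 2 G) := by
      intro hd
      obtain ⟨t, ht⟩ := exists_prime_orderOf_dvd_card' 2 hd
      obtain ⟨q, hq1, hqo, hqt⟩ := Solv.exists_odd_inverted ht (by
        rw [Fusion.pCore_quotient_eq_bot, Subgroup.mem_bot]
        intro e; rw [e, orderOf_one] at ht; norm_num at ht)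
      obtain ⟨x, hx2, rfl⟩ := Solv.exists_preg_lift (p := 2) (pCore 2 G) q
        (hqo.coprime_two_right)
      obtain ⟨t, rfl⟩ := QuotientGroup.mk'_surjective (pCore 2 G) t
      have hxo : Odd (orderOf x) := Nat.coprime_two_right.1 hx2
      refine h x (fun e => hq1 (by rw [e, map_one])) hxo ?_
      set y := t * x * t⁻¹ with hy
      have hmk : QuotientGroup.mk' (pCore 2 G) y = QuotientGroup.mk' (pCore 2 G) x⁻¹ := by
        rw [hy, map_mul, map_mul, map_inv, map_inv, hqt]
      obtain ⟨n, hn⟩ := IsPGroup.iff_card.1 hNp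
      have hcard : Nat.card (Subgroup.zpowers y) = Nat.card (Subgroup.zpowers x) := by
        rw [Nat.card_zpowers, Nat.card_zpowers, hy]
        exact orderOf_injective (MulAut.conj t).toMonoidHom (MulAut.conj t).injective x
      obtain ⟨c, hc, hcK⟩ := Solv.sz_conj_rel (pCore 2 G) (Subgroup.zpowers x) (Subgroup.zpowers y)
        (by rw [Subgroup.normalizer_eq_top]; exact le_top)
        (by
          rw [Subgroup.zpowers_le]
          rw [← SetLike.mem_coe, Subgroup.normal_mul]
          refine ⟨y * x, ?_, x⁻¹, (Subgroup.zpowers x).inv_mem (Subgroup.mem_zpowers x),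
            mul_inv_cancel_right y x⟩
          rw [SetLike.mem_coe, ← QuotientGroup.eq_one_iff]
          show QuotientGroup.mk' (pCore 2 G) (y * x) = 1
          rw [map_mul, hmk, ← map_mul, inv_mul_cancel, map_one])
        (by rw [Nat.card_zpowers, hn]; exact hx2.symm.pow_left n) hcard
        (Or.inl (Solv.isSolvable_of_isPGroup hNp))
      refine isConj_iff.2 ⟨c⁻¹ * t, ?_⟩
      have h1 : c * x⁻¹ * c⁻¹ ∈ Subgroup.zpowers y := by
        rw [← hcK, Solv.mem_conj_smul]
        simpa [mul_assoc] using (Subgroup.zpowers x).inv_mem (Subgroup.mem_zpowers x)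
      have hinf : Subgroup.zpowers y ⊓ pCore 2 G = ⊥ :=
        Fusion.coprime_inf_pGroup (by rw [hcard, Nat.card_zpowers]; exact hx2) hNp
      have hc' : QuotientGroup.mk' (pCore 2 G) c = 1 := (QuotientGroup.eq_one_iff c).2 hc
      have h2 : y⁻¹ * (c * x⁻¹ * c⁻¹) ∈ Subgroup.zpowers y ⊓ pCore 2 G := by
        refine ⟨Subgroup.mul_mem _ (Subgroup.inv_mem _ (Subgroup.mem_zpowers y)) h1, ?_⟩
        show y⁻¹ * (c * x⁻¹ * c⁻¹) ∈ pCore 2 G
        rw [← QuotientGroup.eq_one_iff]
        show QuotientGroup.mk' (pCore 2 G) _ = 1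
        rw [map_mul, map_inv, hmk, map_mul, map_mul, map_inv _ c, hc']
        group
      rw [hinf, Subgroup.mem_bot, inv_mul_eq_one] at h2
      calc c⁻¹ * t * x * (c⁻¹ * t)⁻¹ = c⁻¹ * y * c := by rw [hy]; group
        _ = x⁻¹ := by rw [h2]; group
    have : (P : Subgroup G) = pCore 2 G := by
      refine (P.3 hNp ?_).symm
      refine Solv.le_of_coprime_index _ _ ?_
      obtain ⟨n, hn⟩ := IsPGroup.iff_card.1 P.2
      rw [hn, Subgroup.index_eq_card]
      exact (Nat.prime_two.coprime_iff_not_dvd.2 hq).pow_left n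
    rw [this]; exact hN
  · intro hP x hx1 hxo hconj
    obtain ⟨g, hg⟩ := isConj_iff.1 hconj
    have hidx : Odd (Nat.card (G ⧸ (P : Subgroup G))) := by
      rw [← Subgroup.index_eq_card, ← Nat.not_even_iff_odd, even_iff_two_dvd]
      exact P.not_dvd_index
    have hg2 : ∀ k : ℕ, Odd k → g ^ k * x * (g ^ k)⁻¹ = x⁻¹ := by
      have h2 : g * (g * x * g⁻¹) * g⁻¹ = x := by
        calc g * (g * x * g⁻¹) * g⁻¹ = g * x⁻¹ * g⁻¹ := by rw [hg]
          _ = (g * x * g⁻¹)⁻¹ := by group
          _ = x := by rw [hg, inv_inv]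
      rintro k ⟨m, rfl⟩
      induction m with
      | zero => simpa using hg
      | succ m ih =>
        calc g ^ (2 * (m + 1) + 1) * x * (g ^ (2 * (m + 1) + 1))⁻¹
            = g ^ (2 * m + 1) * (g * (g * x * g⁻¹) * g⁻¹) * (g ^ (2 * m + 1))⁻¹ := by
              rw [show 2 * (m + 1) + 1 = (2 * m + 1) + 2 by ring, pow_add, pow_two]; group
          _ = x⁻¹ := by rw [h2, ih]
    -- the image of `x` in the odd order quotient is trivial
    set f := QuotientGroup.mk' (P : Subgroup G)
    have h3 : f x = (f x)⁻¹ := by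
      have h := congrArg f (hg2 _ hidx)
      rw [map_mul, map_mul, map_inv, map_pow, pow_card_eq_one', one_mul, inv_one, mul_one,
        map_inv] at h
      exact h
    have h4 : f x = 1 := by
      have h5 : f x ^ 2 = 1 := by rw [pow_two]; exact eq_inv_iff_mul_eq_one.1 h3
      exact orderOf_eq_one_iff.1 (Nat.eq_one_of_dvd_coprimes hidx.coprime_two_left
        (orderOf_dvd_of_pow_eq_one h5) (orderOf_dvd_natCard _))
    have hxP : x ∈ (P : Subgroup G) := (QuotientGroup.eq_one_iff x).1 h4
    obtain ⟨j, hj⟩ := IsPGroup.iff_orderOf.1 P.2 ⟨x, hxP⟩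
    rw [← Subgroup.orderOf_coe] at hj
    refine hx1 (orderOf_eq_one_iff.1 ?_)
    rcases Nat.eq_zero_or_pos j with rfl | hjp
    · simpa using hj
    · exfalso
      simp only at hj
      rw [hj, ← Nat.not_even_iff_odd] at hxo
      exact hxo (even_iff_two_dvd.2 (dvd_pow_self 2 hjp.ne'))

end Cfsg.Agent.S3861
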