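import Cfsg.Statements.S3862
import Cfsg.Agent.Lib.Fusion.NPC
import Cfsg.Agent.S0012
import Cfsg.Agent.Lib.Solv.Cores

set_option autoImplicit false
open Cfsg

open scoped Pointwise commutatorElement

namespace Cfsg.Agent.S3862

theorem fixes {G : Type*} [Group G] [Finite G]
    (h : ∀ x : G, (∃ j : ℕ, orderOf x = 2 ^ j) → IsConj x x⁻¹ → x ∈ Subgroup.center G)
    (a : G) (hodd : Odd (orderOf a)) :
    ∀ (n : ℕ) (Q : Subgroup G), Nat.card Q = n → IsPGroup 2 Q →
      a ∈ Subgroup.normalizer (Q : Set G) → a ∈ Subgroup.centralizer (Q : Set G) := by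
  have hp2 : Fact (Nat.Prime 2) := ⟨Nat.prime_two⟩
  intro n
  induction n using Nat.strong_induction_on with
  | _ n ih =>
    intro Q hn hQ ha
    rcases eq_or_ne Q ⊥ with rfl | hQb
    · rw [Subgroup.mem_centralizer_iff]
      intro y hy
      rw [Subgroup.mem_bot.1 hy]; simp
    set R : Subgroup G := Subgroup.closure {y | ∃ x ∈ Q, y = x * x} with hR
    have : Nontrivial Q := (Subgroup.nontrivial_iff_ne_bot Q).2 hQb
    have hRΦ : R ≤ (frattini Q).map Q.subtype := by
      rw [hR, Subgroup.closure_le]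
      rintro _ ⟨x, hx, rfl⟩
      refine ⟨⟨x, hx⟩ ^ 2, (S0012.result 2 hQ).2 _, ?_⟩
      simp [pow_two]
    have hlt : R < Q := by
      refine lt_of_le_of_ne (hRΦ.trans (Subgroup.map_subtype_le _)) fun e => ?_
      have h1 : (⊤ : Subgroup Q) ≤ frattini Q := by
        rw [← Subgroup.map_le_map_iff_of_injective Q.subtype_injective,
          ← MonoidHom.range_eq_map, Subgroup.range_subtype]
        exact e.ge.trans hRΦ
      have h2 : (⊥ : Subgroup Q) = ⊤ :=
        frattini_nongenerating (by rw [top_le_iff.1 h1, sup_top_eq])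
      exact bot_ne_top h2
    have haR : a ∈ Subgroup.normalizer (R : Set G) := by
      refine Solv.mem_normalizer_of_conj_smul (Subgroup.eq_of_le_of_card_ge ?_
        (by rw [Solv.card_conj_smul]))
      rw [Solv.conj_smul_eq_map, hR, MonoidHom.map_closure]
      refine Subgroup.closure_mono ?_
      rintro _ ⟨_, ⟨x, hx, rfl⟩, rfl⟩
      exact ⟨a * x * a⁻¹, (Subgroup.mem_normalizer_iff.1 ha x).1 hx, by simp [mul_assoc]⟩
    have hfix := Subgroup.mem_centralizer_iff.1
      (ih _ (hn ▸ Solv.card_lt_of_lt hlt) R rfl (hQ.to_le hlt.le) haR)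
    rw [Subgroup.mem_centralizer_iff]
    intro x hx
    set u := a * x * a⁻¹ with hu
    have huQ : u ∈ Q := (Subgroup.mem_normalizer_iff.1 ha x).1 hx
    have hsq : u * u = x * x := by
      have h1 : x * x * a = a * (x * x) := hfix _ (Subgroup.subset_closure ⟨x, hx, rfl⟩)
      calc u * u = a * (x * x) * a⁻¹ := by rw [hu]; group
        _ = x * x := by rw [← h1, mul_inv_cancel_right]
    set z := x⁻¹ * u with hz
    have hzQ : z ∈ Q := Q.mul_mem (Q.inv_mem hx) huQ
    have hz2 : ∃ j : ℕ, orderOf z = 2 ^ j := by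
      obtain ⟨j, hj⟩ := IsPGroup.iff_orderOf.1 hQ ⟨z, hzQ⟩
      exact ⟨j, by rwa [← Subgroup.orderOf_coe] at hj⟩
    have hzc : z ∈ Subgroup.center G := by
      refine h z hz2 (isConj_iff.2 ⟨x, ?_⟩)
      calc x * z * x⁻¹ = u⁻¹ * (u * u) * x⁻¹ := by rw [hz]; group
        _ = u⁻¹ * (x * x) * x⁻¹ := by rw [hsq]
        _ = z⁻¹ := by rw [hz]; group
    have hpow : ∀ k : ℕ, a ^ k * x * (a ^ k)⁻¹ = x * z ^ k := by
      intro k
      induction k with
      | zero => simp
      | succ k ihk =>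
        rw [pow_succ' a, mul_inv_rev, show a * a ^ k * x * ((a ^ k)⁻¹ * a⁻¹)
          = a * (a ^ k * x * (a ^ k)⁻¹) * a⁻¹ by group, ihk]
        have hc := Subgroup.mem_center_iff.1 (Subgroup.pow_mem _ hzc k) a⁻¹
        calc a * (x * z ^ k) * a⁻¹ = a * x * (z ^ k * a⁻¹) := by group
          _ = u * z ^ k := by rw [← hc, hu]; group
          _ = x * z ^ (k + 1) := by
            rw [show u = x * z by rw [hz]; group, mul_assoc, ← pow_succ']
    have hz1 : z = 1 := by
      have h1 := hpow (orderOf a)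
      rw [pow_orderOf_eq_one, one_mul, inv_one, mul_one, left_eq_mul] at h1
      obtain ⟨j, hj⟩ := hz2
      have h2 := orderOf_dvd_of_pow_eq_one h1
      rw [hj] at h2
      rcases Nat.eq_zero_or_pos j with rfl | hjp
      · exact orderOf_eq_one_iff.1 hj
      · exact absurd ((dvd_pow_self 2 hjp.ne').trans h2) (by
          rw [← even_iff_two_dvd, Nat.not_even_iff_odd]; exact hodd)
    have h3 : a * x * a⁻¹ = x := by
      rw [← hu, show u = x * z by rw [hz]; group, hz1, mul_one]
    exact (mul_inv_eq_iff_eq_mul.1 h3).symm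

/-- If every 2-element of the finite group G that is conjugate to its inverse lies in the centre of G, then G has a normal 2-complement. -/
theorem result {G : Type*} [Group G] [Finite G] (h : ∀ x : G, (∃ j : ℕ, orderOf x = 2 ^ j) → IsConj x x⁻¹ → x ∈ Subgroup.center G) : Cfsg.HasNormalPComplement 2 G := by
  have hp2 : Fact (Nat.Prime 2) := ⟨Nat.prime_two⟩
  obtain ⟨S⟩ : Nonempty (Sylow 2 G) := inferInstance
  refine Fusion.hnpc_of_centralize (S := (S : Subgroup G)) (Fusion.sylIn_top S) fun Q hQ a ha ha2 => ?_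
  have hodd : Odd (orderOf a) :=
    Nat.not_even_iff_odd.1 fun he => by
      have := Nat.le_of_dvd one_pos (ha2 ▸ Nat.dvd_gcd he.two_dvd dvd_rfl)
      omega
  exact fixes h a hodd _ Q rfl (S.2.to_le hQ) ha

end Cfsg.Agent.S3862
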