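import Cfsg.Statements.S3863
import Cfsg.Agent.Lib.Solv.ClassPow

set_option autoImplicit false
open Cfsg

open scoped Pointwise commutatorElement

namespace Cfsg.Agent.S3863

/-- Let x be an element of the finite group G that is conjugate to its inverse. Then some 2-element conjugates x to its inverse; if the conjugacy class of x has odd size then x ^ 2 = 1; and x lies in, and is conjugate to its inverse inside, every normal subgroup of odd index. -/
theorem result {G : Type*} [Group G] [Finite G] (x : G) (hx : IsConj x x⁻¹) : (∃ t : G, (∃ j : ℕ, orderOf t = 2 ^ j) ∧ t * x * t⁻¹ = x⁻¹) ∧ (Odd (Subgroup.centralizer ({x} : Set G)).index → x ^ 2 = 1) ∧ ∀ (N : Subgroup G) [N.Normal], Odd N.index → ∃ hxN : x ∈ N, IsConj (⟨x, hxN⟩ : N) (⟨x, hxN⟩ : N)⁻¹ := by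
  obtain ⟨g, hg⟩ := isConj_iff.1 hx
  obtain ⟨j, m, hm, hjm⟩ := Nat.exists_eq_two_pow_mul_odd (orderOf_pos g).ne'
  have hconj : ∀ k : ℕ, g ^ k * x * (g ^ k)⁻¹ = if Even k then x else x⁻¹ := by
    intro k
    induction k with
    | zero => simp
    | succ k ih =>
      rw [pow_succ' g, mul_inv_rev, show g * g ^ k * x * ((g ^ k)⁻¹ * g⁻¹) =
        g * (g ^ k * x * (g ^ k)⁻¹) * g⁻¹ by group, ih]
      by_cases hk : Even k
      · rw [if_pos hk, hg, if_neg]; exact Nat.not_even_iff_odd.2 hk.add_one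
      · rw [if_neg hk, if_pos (Nat.not_even_iff_odd.1 hk).add_one]
        rw [← conj_inv, hg, inv_inv]
  set t := g ^ m with ht
  have ht2 : orderOf t = 2 ^ j := by
    rw [ht, orderOf_pow_of_dvd hm.pos.ne' (hjm ▸ dvd_mul_left m _), hjm, Nat.mul_div_cancel _ hm.pos]
  have htx : t * x * t⁻¹ = x⁻¹ := by
    rw [ht, hconj, if_neg (Nat.not_even_iff_odd.2 hm)]
  refine ⟨⟨t, ⟨j, ht2⟩, htx⟩, fun hodd => ?_, fun N _ hN => ?_⟩
  · by_contra hne
    rw [← Solv.class_ncard x] at hodd
    set s := {y : G | IsConj x y} with hs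
    classical
    have := Fintype.ofFinite G
    have hsum : ∑ y ∈ s.toFinset, (1 : ZMod 2) = 0 := by
      refine Finset.sum_involution (fun y _ => y⁻¹) (fun _ _ => by decide) ?_ ?_ (fun _ _ => inv_inv _)
      · intro y hy _ he
        rw [Set.mem_toFinset] at hy
        obtain ⟨c, hc⟩ := isConj_iff.1 hy
        refine hne ?_
        have hy2 : y * y = 1 := by
          nth_rw 1 [← he]; exact inv_mul_cancel y
        rw [← hc] at hy2
        rw [show c * x * c⁻¹ * (c * x * c⁻¹) = c * x ^ 2 * c⁻¹ by rw [pow_two]; group] at hy2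
        exact conj_eq_one_iff.1 hy2
      · intro y hy
        rw [Set.mem_toFinset] at hy ⊢
        obtain ⟨c, hc⟩ := isConj_iff.1 hy
        exact hx.trans (isConj_iff.2 ⟨c, by rw [← hc]; group⟩)
    rw [Finset.sum_const, nsmul_one, ← Set.ncard_eq_toFinset_card', ZMod.natCast_eq_zero_iff] at hsum
    exact Nat.not_even_iff_odd.2 hodd (even_iff_two_dvd.2 hsum)
  · have htN : t ∈ N := by
      rw [← QuotientGroup.eq_one_iff, ← orderOf_eq_one_iff]
      refine Nat.eq_one_of_dvd_coprimes (Nat.Coprime.pow_left j hN.coprime_two_left) ?_ ?_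
        (a := 2 ^ j) (b := N.index)
      · rw [← ht2]; exact orderOf_map_dvd (QuotientGroup.mk' N) t
      · rw [Subgroup.index_eq_card]; exact orderOf_dvd_natCard _
    have hx2 : (x⁻¹) ^ 2 ∈ N := by
      have h1 := N.mul_mem htN ((‹N.Normal›).conj_mem _ (N.inv_mem htN) x)
      rw [show t * (x * t⁻¹ * x⁻¹) = t * x * t⁻¹ * x⁻¹ by group, htx] at h1
      rwa [pow_two]
    have hxN : x ∈ N := by
      rw [← QuotientGroup.eq_one_iff, ← orderOf_eq_one_iff]
      refine Nat.eq_one_of_dvd_coprimes hN.coprime_two_left ?_ ?_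
      · refine orderOf_dvd_of_pow_eq_one ?_
        rw [← QuotientGroup.mk_pow, QuotientGroup.eq_one_iff]
        rw [inv_pow] at hx2
        exact N.inv_mem_iff.1 hx2
      · rw [Subgroup.index_eq_card]; exact orderOf_dvd_natCard _
    exact ⟨hxN, isConj_iff.2 ⟨⟨t, htN⟩, Subtype.ext htx⟩⟩

end Cfsg.Agent.S3863
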