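import Cfsg.Statements.S3865
import Cfsg.Agent.Lib.Solv.MaxSub
import Cfsg.Agent.Lib.Solv.MaxCenter
import Cfsg.Agent.Lib.Solv.MaxDichotomy

set_option autoImplicit false
set_option linter.style.haveILetI false
set_option linter.unusedSectionVars false
open Cfsg
open scoped commutatorElement

namespace Cfsg.Agent.S3865

open Cfsg.Agent.Solv.MaxC Cfsg.Agent.Solv.Dichotomy Cfsg.Agent.Solv Cfsg.Agent.Solv.PolySeq

universe u

variable {R : Type u} [Group R] [Finite R] {p : ℕ} [hp : Fact p.Prime] {n : ℕ}

/-- Uniform elements generate. -/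
theorem unif_gen (h : IsMax R p n) (h3 : 3 ≤ n) (K : Subgroup R) (hK : ∀ x, Unif R n x → x ∈ K) :
    K = ⊤ := by
  rcases le_or_gt n (p + 1) with hn | hn
  · obtain ⟨x, y, hx, hy, hxy⟩ := h.exists_unif_small h3 hn
    have hF : F R 2 ≤ K := fun b hb => by
      simpa using mul_mem (inv_mem (hK x hx)) (hK _ (hx.mul_F_two hb))
    refine top_le_iff.1 ((h.gen_top hx.1 hxy).ge.trans ?_)
    exact sup_le ((Subgroup.zpowers_le).2 (hK y hy)) (sup_le ((Subgroup.zpowers_le).2 (hK x hx)) hF)
  · have := hp.out.two_le
    obtain ⟨g, hg⟩ : ∃ g, g ∉ twoStep R 2 := by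
      by_contra hh; push Not at hh
      exact h.twoStep_ne_top (by omega) (by omega) (eq_top_iff.2 fun g _ => hh g)
    refine eq_top_iff.2 fun m _ => ?_
    by_cases hm : m ∈ twoStep R 2
    · have h1 := hK _ (h.unif_of_not_mem (by omega) hg)
      have h2 : g * m ∉ twoStep R 2 := fun e => hg (by simpa using mul_mem e (inv_mem hm))
      simpa using mul_mem (inv_mem h1) (hK _ (h.unif_of_not_mem (by omega) h2))
    · exact hK _ (h.unif_of_not_mem (by omega) hm)

/-- A uniform element gives a `Good` triple. -/
theorem good {G : Type u} [Group G] [Finite G] (P : Sylow p G) (hP : Nat.card P = p ^ n) (h3 : 3 ≤ n)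
    (h : IsMax ↥(P : Subgroup G) p n) {x : ↥(P : Subgroup G)} (hx : Unif ↥(P : Subgroup G) n x) :
    Good G p n (P : Subgroup G) (x : G) := by
  refine ⟨h3, hP, fun hd => ?_, x.2, ?_⟩
  · have hf := P.card_eq_multiplicity
    rw [hP] at hf
    have := (hp.out.pow_dvd_iff_le_factorization Nat.card_pos.ne').1 hd
    have := Nat.pow_right_injective hp.out.two_le hf
    omega
  have he : Nat.card ((P : Subgroup G) ⊓ Subgroup.centralizer {(x : G)} : Subgroup G) =
      Nat.card (Subgroup.centralizer ({x} : Set ↥(P : Subgroup G))) := Nat.card_congr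
    { toFun := fun a => ⟨⟨a, a.2.1⟩, Subgroup.mem_centralizer_singleton_iff.2
        (Subtype.ext (Subgroup.mem_centralizer_singleton_iff.1 a.2.2 : (a : G) * x = x * a))⟩
      invFun := fun a => ⟨(a : ↥(P : Subgroup G)), Subgroup.mem_inf.2 ⟨(a : ↥(P : Subgroup G)).2,
        Subgroup.mem_centralizer_singleton_iff.2
          (congrArg Subtype.val (Subgroup.mem_centralizer_singleton_iff.1 a.2))⟩⟩
      left_inv := fun _ => rfl
      right_inv := fun _ => rfl }
  rw [he]
  obtain ⟨k, hk⟩ := IsPGroup.iff_card.1
    (h.isPGroup.to_subgroup (Subgroup.centralizer ({x} : Set ↥(P : Subgroup G))))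
  have hle := h.card_centralizer_le h3 hx
  rw [hk] at hle ⊢
  have hk2 : k ≤ 2 := (Nat.pow_le_pow_iff_right hp.out.one_lt).1 hle
  have hxc : Subgroup.center ↥(P : Subgroup G) < Subgroup.centralizer ({x} : Set ↥(P : Subgroup G)) := by
    refine lt_of_le_of_ne (Subgroup.center_le_centralizer _) fun e => ?_
    have hm : x ∈ Subgroup.center ↥(P : Subgroup G) :=
      e.ge (Subgroup.mem_centralizer_singleton_iff.2 rfl)
    rw [h.center_eq h3] at hm
    exact hx.1 (F_antitone (by omega) hm)
  have h1 := p_mul_card_le_of_lt h.isPGroup hxc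
  rw [h.center_eq h3, h.F_card (by omega) (by omega), hk, ← pow_succ'] at h1
  have := (Nat.pow_le_pow_iff_right hp.out.one_lt).1 h1
  congr 1
  omega

/-- Let G be a finite group whose Sylow p-subgroup P has order p ^ n with n ≥ 2 and nilpotency class n - 1 (maximal class), whose largest normal subgroup of order prime to p is trivial, and which has no proper normal subgroup of index prime to p. Then either some x ∈ P has a centralizer in G whose order has p-part p ^ 2, or G is quasisimple with centre of order at most p. -/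
theorem result {G : Type*} [Group G] [Finite G] (p : ℕ) [Fact p.Prime] (P : Sylow p G) (n : ℕ) (hP : Nat.card P = p ^ n) (hn : 2 ≤ n) (hmax : Group.nilpotencyClass ↥(P : Subgroup G) = n - 1) (hcore : Cfsg.pPrimeCore p G = ⊥) (hres : ∀ N : Subgroup G, N.Normal → (N.index).Coprime p → N = ⊤) : (∃ x ∈ (P : Subgroup G), (Nat.card (Subgroup.centralizer ({x} : Set G))).factorization p = 2) ∨ (Cfsg.IsQuasisimple G ∧ Nat.card (Subgroup.center G) ≤ p) := by
  have hpp : p.Prime := Fact.out
  rcases (show n = 2 ∨ 3 ≤ n by omega) with h2 | h3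
  · refine Or.inl ⟨1, one_mem _, ?_⟩
    have hC : Subgroup.centralizer ({1} : Set G) = ⊤ :=
      eq_top_iff.2 fun g _ => Subgroup.mem_centralizer_singleton_iff.2 (by simp)
    have hf := P.card_eq_multiplicity
    rw [hP, h2] at hf
    rw [hC, Subgroup.card_top]
    exact (Nat.pow_right_injective hpp.two_le hf).symm
  refine Classical.or_iff_not_imp_left.2 fun hno => ?_
  push Not at hno
  have hM : IsMax ↥(P : Subgroup G) p n := isMax_of_class hn hP hmax
  have hgood := fun x hx => good P hP h3 hM (x := x) hx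
  have hthree : ∀ {x : G}, Good G p n (P : Subgroup G) x →
      p ^ 3 ∣ Nat.card (Subgroup.centralizer {x} : Subgroup G) := fun {x} hg => by
    have h1 : p ^ 2 ∣ Nat.card (Subgroup.centralizer {x} : Subgroup G) :=
      hg.cent ▸ Subgroup.card_dvd_of_le inf_le_right
    have h2 := (hpp.pow_dvd_iff_le_factorization Nat.card_pos.ne').1 h1
    have h3 := hno x hg.mem
    exact (hpp.pow_dvd_iff_le_factorization Nat.card_pos.ne').2 (by omega)
  obtain ⟨x₀, hx₀⟩ := hM.exists_unif h3
  have hG0 := hgood x₀ hx₀
  have hcore' : ∀ K : Subgroup G, K.Normal → ¬ p ∣ Nat.card K → K = ⊥ := fun K hK hKp =>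
    le_bot_iff.1 (hcore ▸ le_sSup ⟨hK, ((hpp.coprime_iff_not_dvd).2 hKp).symm⟩)
  -- the normal subgroups
  have htri : ∀ N : Subgroup G, N.Normal → N = ⊥ ∨ N = zc (P : Subgroup G) ∨ N = ⊤ := fun N hN => by
    by_cases hsmall : N ⊓ P ≤ zc (P : Subgroup G)
    · by_cases hbot : N ⊓ (P : Subgroup G) = ⊥
      · left
        refine hcore' N hN fun hd => ?_
        haveI := hN
        have hd' : p ∣ Nat.card N := hd
        obtain ⟨S, hS⟩ : ∃ S : Subgroup G, Nat.card S = p ∧ S ≤ N := by
          obtain ⟨g, hg⟩ := exists_prime_orderOf_dvd_card' p hd'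
          exact ⟨Subgroup.zpowers (g : G), by rw [Nat.card_zpowers, Subgroup.orderOf_coe, hg],
            (Subgroup.zpowers_le).2 g.2⟩
        obtain ⟨Q, hQ⟩ := (IsPGroup.of_card (n := 1) (by rw [pow_one]; exact hS.1) :
          IsPGroup p S).exists_le_sylow
        obtain ⟨g, hg⟩ := MulAction.exists_smul_eq G Q P
        obtain ⟨s, hs, hs1⟩ : ∃ s ∈ S, s ≠ 1 := by
          by_contra hh; push Not at hh
          have : S = ⊥ := (Subgroup.eq_bot_iff_forall _).2 hh
          rw [this, Subgroup.card_bot] at hS
          exact hpp.ne_one hS.1.symm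
        have hm : g * s * g⁻¹ ∈ N ⊓ (P : Subgroup G) := ⟨hN.conj_mem _ (hS.2 hs) g, by
          rw [← hg]
          exact Subgroup.smul_mem_pointwise_smul s (MulAut.conj g) _ (hQ hs)⟩
        rw [hbot, Subgroup.mem_bot] at hm
        exact hs1 (conj_eq_one_iff.1 hm)
      · right; left
        haveI := hN
        refine eq_zc hG0 hcore' N (le_antisymm hsmall (le_inf ?_ inf_le_left))
        obtain ⟨y, hy, hy1⟩ : ∃ y ∈ N ⊓ (P : Subgroup G), y ≠ 1 := by
          by_contra hh; push Not at hh
          exact hbot ((Subgroup.eq_bot_iff_forall _).2 hh)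
        exact hG0.zc_le (fun c _ w hw => hN.conj_mem w hw c) ⟨y, hy.1, hy.2, hy1⟩
    · right; right
      have hPN : (P : Subgroup G) ≤ N := Subgroup.subgroupOf_eq_top.1
        (unif_gen hM h3 _ fun x hx => (hgood x hx).mem_normal (hthree (hgood x hx)) N hN hsmall)
      exact hres N hN (Nat.Coprime.symm ((hpp.coprime_iff_not_dvd).2 fun hd =>
        P.not_dvd_index (hd.trans (Subgroup.index_dvd_of_le hPN))))
  -- `Z(P)` is central when normal
  have hcentral : (zc (P : Subgroup G)).Normal → zc (P : Subgroup G) ≤ Subgroup.center G := by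
    intro hN
    haveI := hN
    have hC : Subgroup.centralizer (zc (P : Subgroup G) : Set G) = ⊤ :=
      hres _ inferInstance (Nat.Coprime.symm ((hpp.coprime_iff_not_dvd).2 fun hd =>
        P.not_dvd_index (hd.trans (Subgroup.index_dvd_of_le Good.le_centralizer_zc))))
    exact fun z hz => Subgroup.mem_center_iff.2 fun g =>
      ((Subgroup.mem_centralizer_iff.1 (hC.ge (Subgroup.mem_top g))) z hz).symm
  obtain ⟨a, ha, b, hb, hab⟩ := hG0.exists_comm_ne
  have hcne : Subgroup.center G ≠ ⊤ := fun e => hab (commutatorElement_eq_one_iff_mul_comm.2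
    ((Subgroup.mem_center_iff.1 (e.ge (Subgroup.mem_top b))) a))
  have hperf : commutator G = ⊤ := by
    rcases htri (commutator G) inferInstance with e | e | e
    · exfalso
      refine hab ?_
      have := Subgroup.commutator_mem_commutator (Subgroup.mem_top a) (Subgroup.mem_top b)
      rwa [← commutator_def, e, Subgroup.mem_bot] at this
    · exfalso
      have hPn : (P : Subgroup G).Normal := ⟨fun y hy g => by
        have h1 : ⁅g, y⁆ ∈ (P : Subgroup G) := (mem_zc.1 (e.le (by
          rw [commutator_def]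
          exact Subgroup.commutator_mem_commutator (Subgroup.mem_top g) (Subgroup.mem_top y)))).1
        rw [show g * y * g⁻¹ = ⁅g, y⁆ * y by rw [commutatorElement_def]; group]
        exact mul_mem h1 hy⟩
      have hPt := hres _ hPn (Nat.Coprime.symm ((hpp.coprime_iff_not_dvd).2 P.not_dvd_index))
      have hle := hthree hG0
      have he : (P : Subgroup G) ⊓ Subgroup.centralizer {x₀.1} = Subgroup.centralizer {x₀.1} :=
        inf_eq_right.2 fun y _ => hPt.ge (Subgroup.mem_top y)
      rw [← he, hG0.cent] at hle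
      have := (Nat.pow_dvd_pow_iff_le_right hpp.one_lt).1 hle
      omega
    · exact e
  refine ⟨⟨⟨hperf⟩, ?_⟩, ?_⟩
  · haveI : Nontrivial (G ⧸ Subgroup.center G) := by
      refine Finite.one_lt_card_iff_nontrivial.1 ?_
      rw [← Subgroup.index_eq_card]
      have h0 := (Subgroup.center G).index_ne_zero_of_finite
      have h1 : (Subgroup.center G).index ≠ 1 := fun e => hcne (Subgroup.index_eq_one.1 e)
      omega
    refine ⟨fun M hMn => ?_⟩
    have hz : ((M.comap (QuotientGroup.mk' (Subgroup.center G)))).Normal := inferInstance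
    rcases htri _ hz with e | e | e
    · left
      rw [← Subgroup.map_comap_eq_self_of_surjective (QuotientGroup.mk'_surjective _) M, e,
        Subgroup.map_bot]
    · left
      rw [← Subgroup.map_comap_eq_self_of_surjective (QuotientGroup.mk'_surjective _) M,
        Subgroup.map_eq_bot_iff, QuotientGroup.ker_mk', e]
      exact hcentral (e ▸ hz)
    · right
      rw [← Subgroup.map_comap_eq_self_of_surjective (QuotientGroup.mk'_surjective _) M, e,
        Subgroup.map_top_of_surjective _ (QuotientGroup.mk'_surjective _)]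
  · rcases htri (Subgroup.center G) inferInstance with e | e | e
    · rw [e, Subgroup.card_bot]; exact hpp.pos
    · rw [e, hG0.zc_card]
    · exact absurd e hcne

end Cfsg.Agent.S3865
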