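import Cfsg.Statements.S3866
import Cfsg.Agent.Lib.Solv.Cores

set_option autoImplicit false
open Cfsg

open scoped Pointwise commutatorElement

namespace Cfsg.Agent.S3866

theorem commutator_image {G : Type*} [Group G] [Finite G] (A : Subgroup G) [A.Normal]
    (hA : IsMulCommutative A) (x : G) (hgen : A ⊔ Subgroup.zpowers x = ⊤) :
    (∀ a ∈ A, x * a * x⁻¹ * a⁻¹ ∈ commutator G) ∧
    (∀ c ∈ commutator G, ∃ a ∈ A, x * a * x⁻¹ * a⁻¹ = c) ∧
    (∀ a ∈ A, ∀ b ∈ A, x * (a * b) * x⁻¹ * (a * b)⁻¹ =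
      (x * a * x⁻¹ * a⁻¹) * (x * b * x⁻¹ * b⁻¹)) ∧
    Nat.card (commutator G) * Nat.card ↥(A ⊓ Subgroup.centralizer ({x} : Set G)) = Nat.card A := by
  have hcm : ∀ a ∈ A, ∀ b ∈ A, a * b = b * a := fun a ha b hb =>
    congrArg Subtype.val (hA.is_comm.comm ⟨a, ha⟩ ⟨b, hb⟩)
  have hcA : ∀ a ∈ A, x * a * x⁻¹ * a⁻¹ ∈ A := fun a ha =>
    A.mul_mem ((inferInstance : A.Normal).conj_mem a ha x) (A.inv_mem ha)
  have hmul : ∀ a ∈ A, ∀ b ∈ A, x * (a * b) * x⁻¹ * (a * b)⁻¹ =
      (x * a * x⁻¹ * a⁻¹) * (x * b * x⁻¹ * b⁻¹) := by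
    intro a ha b hb
    rw [hcm _ (hcA a ha) _ (hcA b hb)]
    calc x * (a * b) * x⁻¹ * (a * b)⁻¹
        = (x * a * x⁻¹) * (x * b * x⁻¹ * b⁻¹) * a⁻¹ := by group
      _ = (x * b * x⁻¹ * b⁻¹) * (x * a * x⁻¹) * a⁻¹ := by
          rw [hcm _ ((inferInstance : A.Normal).conj_mem a ha x) _ (hcA b hb)]
      _ = _ := by group
  have hmem : ∀ a : G, x * a * x⁻¹ * a⁻¹ ∈ commutator G := fun a => by
    rw [commutator_def, ← commutatorElement_def]
    exact Subgroup.commutator_mem_commutator (Subgroup.mem_top x) (Subgroup.mem_top a)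
  let f : A →* G :=
    { toFun := fun a => x * a * x⁻¹ * (a : G)⁻¹
      map_one' := by simp
      map_mul' := fun a b => hmul a a.2 b b.2 }
  have hIn : f.range.Normal := by
    rw [← Subgroup.normalizer_eq_top_iff, ← top_le_iff, ← hgen]
    refine sup_le (fun g hg => ?_) ?_
    · rw [Subgroup.mem_normalizer_iff]
      intro y
      have hiy : ∀ y ∈ f.range, y ∈ A := by rintro _ ⟨a, rfl⟩; exact hcA a a.2
      constructor
      · intro hy
        rw [hcm g hg y (hiy y hy), mul_inv_cancel_right]; exact hy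
      · intro hy
        have h1 := hiy _ hy
        have hyA : y ∈ A := by
          have := A.mul_mem (A.mul_mem (A.inv_mem hg) h1) hg
          rwa [show g⁻¹ * (g * y * g⁻¹) * g = y by group] at this
        rwa [hcm g hg y hyA, mul_inv_cancel_right] at hy
    · rw [Subgroup.zpowers_le]
      refine Solv.mem_normalizer_of_conj_smul ?_
      refine Subgroup.eq_of_le_of_card_ge ?_ (by rw [Solv.card_conj_smul])
      intro z hz
      rw [Solv.mem_conj_smul] at hz
      obtain ⟨a, ha⟩ := hz
      refine ⟨⟨x * a * x⁻¹, (inferInstance : A.Normal).conj_mem a a.2 x⟩, ?_⟩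
      have ha' : x * (a : G) * x⁻¹ * (a : G)⁻¹ = x⁻¹ * z * x := ha
      show x * (x * a * x⁻¹) * x⁻¹ * (x * (a : G) * x⁻¹)⁻¹ = z
      calc _ = x * (x * (a : G) * x⁻¹ * (a : G)⁻¹) * x⁻¹ := by group
        _ = z := by rw [ha']; group
  have hrange : f.range = commutator G := by
    refine le_antisymm (by rintro _ ⟨a, rfl⟩; exact hmem a) ?_
    rw [commutator_def, Subgroup.commutator_le]
    intro g _ h _
    rw [← QuotientGroup.eq_one_iff (N := f.range)]
    show (QuotientGroup.mk' f.range) ⁅g, h⁆ = 1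
    rw [map_commutatorElement, commutatorElement_eq_one_iff_mul_comm, ← map_mul, ← map_mul]
    have hc : ∀ q : G, q ∈ (Subgroup.centralizer ({(QuotientGroup.mk' f.range) x} : Set (G ⧸ f.range))).comap
        (QuotientGroup.mk' f.range) := by
      intro q
      have hq := hgen.ge (Subgroup.mem_top q)
      refine (sup_le (fun a ha => ?_) (Subgroup.zpowers_le.2 ?_) : A ⊔ Subgroup.zpowers x ≤ _) hq
      · rw [Subgroup.mem_comap, Subgroup.mem_centralizer_singleton_iff, eq_comm,
          ← commutatorElement_eq_one_iff_mul_comm, ← map_commutatorElement]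
        exact (QuotientGroup.eq_one_iff _).2 ⟨⟨a, ha⟩, rfl⟩
      · rw [Subgroup.mem_comap, Subgroup.mem_centralizer_singleton_iff]
    have hcl : ∀ q : G, q ∈ (Subgroup.centralizer (((A.map (QuotientGroup.mk' f.range)) ⊔
        Subgroup.zpowers ((QuotientGroup.mk' f.range) x) : Subgroup (G ⧸ f.range)) :
          Set (G ⧸ f.range))).comap (QuotientGroup.mk' f.range) := by
      intro q
      have hq := hgen.ge (Subgroup.mem_top q)
      refine (sup_le (fun a ha => ?_) (fun y hy => ?_) : A ⊔ Subgroup.zpowers x ≤ _) hq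
      all_goals rw [Subgroup.mem_comap, Subgroup.mem_centralizer_iff]
      · intro y hy
        refine (sup_le ?_ ?_ : _ ≤ Subgroup.centralizer {(QuotientGroup.mk' f.range) a}) hy |>
          Subgroup.mem_centralizer_singleton_iff.1
        · rintro _ ⟨b, hb, rfl⟩
          rw [Subgroup.mem_centralizer_singleton_iff, ← map_mul, ← map_mul, hcm a ha b hb]
        · rw [Subgroup.zpowers_le, Subgroup.mem_centralizer_singleton_iff]
          exact (Subgroup.mem_centralizer_singleton_iff.1 (hc a)).symm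
      · intro w hw
        refine (sup_le ?_ ?_ : _ ≤ Subgroup.centralizer {(QuotientGroup.mk' f.range) y}) hw |>
          Subgroup.mem_centralizer_singleton_iff.1
        · rintro _ ⟨b, hb, rfl⟩
          rw [Subgroup.mem_centralizer_singleton_iff]
          obtain ⟨i, rfl⟩ := Subgroup.mem_zpowers_iff.1 hy
          rw [map_zpow]
          exact (Commute.zpow_right (Subgroup.mem_centralizer_singleton_iff.1 (hc b)) i).eq
        · rw [Subgroup.zpowers_le, Subgroup.mem_centralizer_singleton_iff]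
          obtain ⟨i, rfl⟩ := Subgroup.mem_zpowers_iff.1 hy
          rw [map_zpow]
          exact (Commute.zpow_right (Commute.refl _) i).eq
    have := Subgroup.mem_centralizer_iff.1 (hcl h) ((QuotientGroup.mk' f.range) g) (by
      rw [← MonoidHom.map_zpowers, ← Subgroup.map_sup, hgen]
      exact Subgroup.mem_map_of_mem _ (Subgroup.mem_top g))
    rw [map_mul, map_mul]; exact this
  refine ⟨fun a _ => hmem a, fun c hc => ?_, hmul, ?_⟩
  · rw [← hrange] at hc
    obtain ⟨a, rfl⟩ := hc
    exact ⟨a, a.2, rfl⟩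
  · have hker : Nat.card f.ker = Nat.card ↥(A ⊓ Subgroup.centralizer ({x} : Set G)) := by
      rw [← Solv.card_map_subtype]
      congr 2
      ext y
      constructor
      · rintro ⟨a, ha, rfl⟩
        refine ⟨a.2, Subgroup.mem_centralizer_singleton_iff.2 ?_⟩
        have : x * (a : G) * x⁻¹ * (a : G)⁻¹ = 1 := ha
        rw [mul_inv_eq_one, mul_inv_eq_iff_eq_mul] at this
        exact this.symm
      · rintro ⟨hy, hyc⟩
        refine ⟨⟨y, hy⟩, ?_, rfl⟩
        show x * y * x⁻¹ * y⁻¹ = 1
        rw [← Subgroup.mem_centralizer_singleton_iff.1 hyc]; group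
    rw [← hker, ← hrange, ← Subgroup.index_ker, mul_comm, Subgroup.card_mul_index]

/-- Let A be a commutative normal subgroup of the finite group G with G generated by A and an element x. Then a ↦ x a x⁻¹ a⁻¹ is a surjective homomorphism from A onto the commutator subgroup of G whose kernel is the centralizer of x in A; in particular the commutator subgroup has order equal to the index in A of that centralizer. -/
theorem result {G : Type*} [Group G] [Finite G] (A : Subgroup G) [A.Normal] (hA : IsMulCommutative A) (x : G) (hgen : A ⊔ Subgroup.zpowers x = ⊤) : (∀ a ∈ A, x * a * x⁻¹ * a⁻¹ ∈ commutator G) ∧ (∀ c ∈ commutator G, ∃ a ∈ A, x * a * x⁻¹ * a⁻¹ = c) ∧ (∀ a ∈ A, ∀ b ∈ A, x * (a * b) * x⁻¹ * (a * b)⁻¹ = (x * a * x⁻¹ * a⁻¹) * (x * b * x⁻¹ * b⁻¹)) ∧ Nat.card (commutator G) * Nat.card ↥(A ⊓ Subgroup.centralizer ({x} : Set G)) = Nat.card A := by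
  exact commutator_image A hA x hgen

end Cfsg.Agent.S3866
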