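import Cfsg.Statements.S3867
import Cfsg.Agent.Lib.Solv.Coprime
import Cfsg.Agent.Lib.Fusion.Basic
import Cfsg.Agent.Lib.Solv.SetMul

set_option autoImplicit false
open Cfsg

open scoped Pointwise commutatorElement

namespace Cfsg.Agent.S3867

theorem normalizer_map {G H : Type*} [Group G] [Finite G] [Group H] [Finite H] {p : ℕ} [Fact p.Prime]
    (f : G →* H) (hf : Function.Surjective f) (P : Sylow p G) :
    Subgroup.normalizer ((P.mapSurjective hf : Subgroup H) : Set H) =
      (Subgroup.normalizer ((P : Subgroup G) : Set G)).map f := by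
  rw [Sylow.coe_mapSurjective]
  refine le_antisymm (fun y hy => ?_) (Subgroup.le_normalizer_map f)
  obtain ⟨g, rfl⟩ := hf y
  set L := (P : Subgroup G) ⊔ f.ker with hL
  have hcj : MulAut.conj g • (P : Subgroup G) ≤ L := by
    rw [hL, ← Subgroup.comap_map_eq, Solv.conj_smul_eq_map]
    rintro _ ⟨u, hu, rfl⟩
    show f (g * u * g⁻¹) ∈ (P : Subgroup G).map f
    rw [map_mul, map_mul, map_inv]
    exact (Subgroup.mem_normalizer_iff.1 hy _).1 ⟨u, hu, rfl⟩
  obtain ⟨n, hn⟩ := IsPGroup.iff_card.1 P.isPGroup'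
  have hsy : Solv.IsSylIn p (P : Subgroup G) L := by
    refine ⟨le_sup_left, ?_⟩
    rw [hn]
    congr 1
    refine le_antisymm ((Fact.out : p.Prime).pow_dvd_iff_le_factorization Nat.card_pos.ne' |>.1
      (hn ▸ Subgroup.card_dvd_of_le le_sup_left)) ?_
    have := (Nat.factorization_le_iff_dvd Nat.card_pos.ne' Nat.card_pos.ne').2 (Subgroup.card_subgroup_dvd_card L)
    refine (this p).trans (le_of_eq ?_)
    have h := P.card_eq_multiplicity
    rw [hn] at h
    exact (Nat.pow_right_injective (Fact.out : p.Prime).two_le h).symm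
  obtain ⟨k, hk, e⟩ := hsy.exists_conj (P := (P : Subgroup G)) (Q := MulAut.conj g • (P : Subgroup G))
    ⟨hcj, by rw [Solv.card_conj_smul]; exact hsy.2⟩
  obtain ⟨a, ha, b, hb, rfl⟩ := Subgroup.mem_sup_of_normal_right.1 hk
  have h1 : (a * b)⁻¹ * g ∈ Subgroup.normalizer ((P : Subgroup G) : Set G) :=
    Solv.mem_normalizer_of_conj_smul (by
      rw [← Solv.conj_smul_conj, ← e, Solv.conj_smul_conj, inv_mul_cancel, Solv.conj_one_smul])
  refine ⟨a * ((a * b)⁻¹ * g), mul_mem (Subgroup.le_normalizer ha) h1, ?_⟩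
  rw [map_mul, map_mul, map_inv, map_mul, MonoidHom.mem_ker.1 hb, mul_one, mul_inv_cancel_left]

theorem card_sylow_quotient {G : Type*} [Group G] [Finite G] {p : ℕ} [Fact p.Prime] (P : Sylow p G)
    (X : Subgroup G) [X.Normal] :
    Nat.card (Sylow p (G ⧸ X)) = (Subgroup.normalizer ((P : Subgroup G) : Set G) ⊔ X).index := by
  rw [Sylow.card_eq_index_normalizer (P.mapSurjective (QuotientGroup.mk'_surjective X))]
  show (Subgroup.normalizer ((P.mapSurjective (QuotientGroup.mk'_surjective X) : Subgroup (G ⧸ X)) : Set (G ⧸ X))).index = _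
  rw [normalizer_map (QuotientGroup.mk' X) (QuotientGroup.mk'_surjective X) P, Subgroup.index_map, QuotientGroup.ker_mk', MonoidHom.range_eq_top.2 (QuotientGroup.mk'_surjective X),
    Subgroup.index_top, mul_one]

theorem count {G : Type*} [Group G] [Finite G] (p : ℕ) [Fact p.Prime] (M N : Subgroup G) [M.Normal]
    [N.Normal] (hMN : M ⊓ N = ⊥) :
    Nat.card (Sylow p G) * Nat.card (Sylow p (G ⧸ (M ⊔ N))) =
      Nat.card (Sylow p (G ⧸ M)) * Nat.card (Sylow p (G ⧸ N)) := by
  obtain ⟨P⟩ : Nonempty (Sylow p G) := inferInstance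
  set R := Subgroup.normalizer ((P : Subgroup G) : Set G) with hR
  rw [card_sylow_quotient P (M ⊔ N), card_sylow_quotient P M, card_sylow_quotient P N,
    Sylow.card_eq_index_normalizer P, ← hR]
  have hPN : ((P : Subgroup G) ⊔ N) ⊓ M ≤ (P : Subgroup G) := by
    set X := ((P : Subgroup G) ⊔ N) ⊓ M with hX
    have hXp : IsPGroup p X := by
      let ρ : X →* ((P : Subgroup G).map (QuotientGroup.mk' N) : Subgroup (G ⧸ N)) :=
        ((QuotientGroup.mk' N).comp X.subtype).codRestrict _ (fun x => by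
          have h := x.2.1
          rw [← QuotientGroup.ker_mk' N, ← Subgroup.comap_map_eq] at h
          exact h)
      refine (P.isPGroup'.map (QuotientGroup.mk' N)).of_injective ρ ?_
      rw [← MonoidHom.ker_eq_bot_iff, eq_bot_iff]
      intro x hx
      have hxN : (x : G) ∈ N := (QuotientGroup.eq_one_iff _).1 (congrArg Subtype.val (MonoidHom.mem_ker.1 hx))
      have hxI : (x : G) ∈ M ⊓ N := ⟨x.2.2, hxN⟩
      rw [hMN, Subgroup.mem_bot] at hxI
      exact Subgroup.mem_bot.2 (Subtype.ext hxI)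
    have hn : (P : Subgroup G) ≤ Subgroup.normalizer (X : Set G) := by
      intro u hu
      refine Solv.mem_normalizer_of_conj_smul ?_
      rw [hX, Subgroup.smul_inf, Solv.conj_smul_of_mem_normalizer (Subgroup.le_normalizer (Subgroup.mem_sup_left hu)),
        Solv.conj_smul_of_mem_normalizer (g := u) (H := M) (by rw [Subgroup.normalizer_eq_top]; trivial)]
    exact (le_sup_right : X ≤ (P : Subgroup G) ⊔ X).trans
      (P.3 (P.isPGroup'.to_sup_of_normal_right' hXp hn) le_sup_left).le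
  have hinf : (R ⊔ M) ⊓ (R ⊔ N) = R := by
    refine le_antisymm (fun g hg => ?_) (le_inf le_sup_left le_sup_left)
    obtain ⟨r, hr, m, hm, rfl⟩ := Subgroup.mem_sup_of_normal_right.1 hg.1
    have hmN : m ∈ R ⊔ N := by
      have := mul_mem (Subgroup.mem_sup_left (inv_mem hr) : r⁻¹ ∈ R ⊔ N) hg.2
      rwa [inv_mul_cancel_left] at this
    refine mul_mem hr (Fusion.mem_normalizer_of_cj_le ?_)
    rintro _ ⟨u, hu, rfl⟩
    show m * u * m⁻¹ ∈ (P : Subgroup G)
    have h1 : m * u * m⁻¹ * u⁻¹ ∈ ((P : Subgroup G) ⊔ N) ⊓ M := by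
      refine ⟨mul_mem ?_ (Subgroup.mem_sup_left ((P : Subgroup G).inv_mem hu)), ?_⟩
      · obtain ⟨r', hr', n, hn, e⟩ := Subgroup.mem_sup_of_normal_right.1 hmN
        rw [← e, show r' * n * u * (r' * n)⁻¹ = r' * (n * (u * n⁻¹ * u⁻¹) * u) * r'⁻¹ by group]
        have hl : n * (u * n⁻¹ * u⁻¹) * u ∈ (P : Subgroup G) ⊔ N :=
          mul_mem (Subgroup.mem_sup_right (N.mul_mem hn ((‹N.Normal›).conj_mem _ (N.inv_mem hn) u)))
            (Subgroup.mem_sup_left hu)
        obtain ⟨a, ha, b, hb, e2⟩ := Subgroup.mem_sup_of_normal_right.1 hl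
        rw [← e2, show r' * (a * b) * r'⁻¹ = (r' * a * r'⁻¹) * (r' * b * r'⁻¹) by group]
        exact mul_mem (Subgroup.mem_sup_left ((Subgroup.mem_normalizer_iff.1 hr' a).1 ha))
          (Subgroup.mem_sup_right ((‹N.Normal›).conj_mem b hb r'))
      · rw [show m * u * m⁻¹ * u⁻¹ = m * (u * m⁻¹ * u⁻¹) by group]
        exact M.mul_mem hm ((‹M.Normal›).conj_mem _ (M.inv_mem hm) u)
    have := (P : Subgroup G).mul_mem (hPN h1) hu
    rwa [inv_mul_cancel_right] at this
  have e : (R ⊔ M) ⊔ (R ⊔ N) = R ⊔ (M ⊔ N) := by rw [sup_sup_sup_comm, sup_idem]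
  -- `|(RM)(RN)| = |RMN|`
  have hset : ((R ⊔ M : Subgroup G) : Set G) * (R ⊔ N : Subgroup G) = ((R ⊔ (M ⊔ N) : Subgroup G) : Set G) := by
    refine Set.Subset.antisymm ?_ ?_
    · rintro _ ⟨a, ha, b, hb, rfl⟩
      rw [← e]
      exact mul_mem (Subgroup.mem_sup_left ha) (Subgroup.mem_sup_right hb)
    · intro g hg
      obtain ⟨r, hr, x, hx, rfl⟩ := Subgroup.mem_sup_of_normal_right.1 hg
      obtain ⟨a, ha, b, hb, rfl⟩ := Subgroup.mem_sup_of_normal_right.1 hx
      exact ⟨r * a, Subgroup.mul_mem_sup hr ha, b, Subgroup.mem_sup_right hb, mul_assoc r a b⟩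
  have hcard := Solv.card_mul_set_mul_card_inf (R ⊔ M) (R ⊔ N)
  rw [hset, hinf, SetLike.coe_sort_coe] at hcard
  have h1 := R.card_mul_index
  have h2 := (R ⊔ M).card_mul_index
  have h3 := (R ⊔ N).card_mul_index
  have h4 := (R ⊔ (M ⊔ N)).card_mul_index
  refine Nat.eq_of_mul_eq_mul_left
    (Nat.mul_pos (Nat.card_pos (α := R)) (Nat.card_pos (α := (R ⊔ (M ⊔ N) : Subgroup G)))) ?_
  calc Nat.card R * Nat.card (R ⊔ (M ⊔ N) : Subgroup G) * (R.index * (R ⊔ (M ⊔ N)).index)
      = (Nat.card R * R.index) * (Nat.card (R ⊔ (M ⊔ N) : Subgroup G) * (R ⊔ (M ⊔ N)).index) := by ring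
    _ = (Nat.card (R ⊔ M : Subgroup G) * (R ⊔ M).index) * (Nat.card (R ⊔ N : Subgroup G) * (R ⊔ N).index) := by
        rw [h1, h2, h3, h4]
    _ = (Nat.card (R ⊔ M : Subgroup G) * Nat.card (R ⊔ N : Subgroup G)) * ((R ⊔ M).index * (R ⊔ N).index) := by
        ring
    _ = _ := by rw [← hcard]; ring

/-- Let M and N be nontrivial normal subgroups of the finite group G with M ⊓ N trivial, and let p be a prime. Writing n(X) for the number of Sylow p-subgroups of a group X, one has n(G) · n(G/MN) = n(G/M) · n(G/N). -/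
theorem result {G : Type*} [Group G] [Finite G] (p : ℕ) [Fact p.Prime] (M N : Subgroup G) [M.Normal] [N.Normal] (hM : M ≠ ⊥) (hN : N ≠ ⊥) (hMN : M ⊓ N = ⊥) : Nat.card (Sylow p G) * Nat.card (Sylow p (G ⧸ (M ⊔ N))) = Nat.card (Sylow p (G ⧸ M)) * Nat.card (Sylow p (G ⧸ N)) := by
  exact count p M N hMN

end Cfsg.Agent.S3867
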