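import Cfsg.Statements.S3868
import Cfsg.Agent.Lib.Solv.MinNonClosed
import Cfsg.Agent.Lib.Fusion.Basic

set_option autoImplicit false
set_option linter.style.haveILetI false
open Cfsg

open scoped Pointwise commutatorElement

namespace Cfsg.Agent.S3868

/-- Structure of the non-simple minimal non-p-closed groups. Call a finite group p-closed when its Sylow p-subgroups are normal, and minimal non-p-closed when it is not p-closed but every proper subgroup and every proper quotient is. If such a group G is not simple, then there is a prime q ≠ p such that G has order p · q^e, where e is the multiplicative order of q modulo p, and G has a normal subgroup A of order q^e that is elementary abelian and is a minimal normal subgroup of G (so G is the semidirect product of A by a group of order p acting irreducibly). -/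
theorem result {G : Type*} [Group G] [Finite G] {p : ℕ} [Fact p.Prime]
    (hnc : ¬ Cfsg.IsPClosed p G) (hsub : ∀ H : Subgroup G, H ≠ ⊤ → Cfsg.IsPClosed p ↥H)
    (hquo : ∀ (N : Subgroup G) [N.Normal], N ≠ ⊥ → Cfsg.IsPClosed p (G ⧸ N)) (hns : ¬ IsSimpleGroup G) :
    ∃ q : ℕ, q.Prime ∧ q ≠ p ∧ Nat.card G = p * q ^ orderOf (q : ZMod p) ∧
      ∃ A : Subgroup G, A.Normal ∧ Nat.card ↥A = q ^ orderOf (q : ZMod p) ∧ Cfsg.IsElementaryAbelian q A ∧
        ∀ B : Subgroup G, B.Normal → B ≤ A → B = ⊥ ∨ B = A := by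
  have hp : p.Prime := Fact.out
  haveI : Nontrivial G := by
    by_contra h
    rw [not_nontrivial_iff_subsingleton] at h
    exact hnc fun P => by
      have : (P : Subgroup G) = ⊥ := Subsingleton.elim _ _
      rw [this]; infer_instance
  -- no normal p-subgroup
  have hOp : ∀ K : Subgroup G, K.Normal → IsPGroup p K → K = ⊥ := by
    intro K hKn hK
    by_contra hne
    haveI := hKn
    refine hnc fun P => ?_
    obtain ⟨P₀⟩ : Nonempty (Sylow p (G ⧸ K)) := inferInstance
    haveI := hquo K hne P₀
    set L := (P₀ : Subgroup (G ⧸ K)).comap (QuotientGroup.mk' K) with hL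
    haveI hLn : L.Normal := Subgroup.Normal.comap inferInstance _
    refine Solv.pclosed_of_normal L ?_ ?_ P
    · exact P₀.isPGroup'.comap_of_ker_isPGroup _ (by rw [QuotientGroup.ker_mk']; exact hK)
    · rw [hL, Subgroup.index_comap_of_surjective _ (QuotientGroup.mk'_surjective K)]
      exact P₀.not_dvd_index
  obtain ⟨N, hNn, hNb, hmin⟩ := Solv.exists_minimal_normal (G := G)
  haveI := hNn
  have hNt : N ≠ ⊤ := fun h => hns (IsSimpleGroup.mk fun K hK =>
    (hmin K hK (h ▸ le_top)).imp id fun e => e.trans h)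
  have hpN : ¬ p ∣ Nat.card N := by
    intro hd
    obtain ⟨S⟩ : Nonempty (Sylow p N) := inferInstance
    haveI := hsub N hNt S
    haveI : (S : Subgroup N).Characteristic := S.characteristic_of_normal inferInstance
    have h := hOp _ (inferInstance : ((S : Subgroup N).map N.subtype).Normal) (S.isPGroup'.map _)
    rw [Subgroup.map_eq_bot_iff_of_injective _ N.subtype_injective, ← Subgroup.card_eq_one,
      S.card_eq_multiplicity] at h
    exact absurd h (Nat.one_lt_pow (hp.factorization_pos_of_dvd Nat.card_pos.ne' hd).ne' hp.one_lt).ne'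
  obtain ⟨S⟩ : Nonempty (Sylow p G) := inferInstance
  -- the only subgroup `N P` with `P` a nontrivial `p`-group is `G` if `P` is not normalized
  have hnorm : ∀ H : Subgroup G, H ≠ ⊤ → ∀ P : Subgroup G, P ≤ H → IsPGroup p P →
      ∃ T : Subgroup G, IsPGroup p T ∧ T ≤ H ∧ P ≤ T ∧ H ≤ Subgroup.normalizer (T : Set G) := by
    intro H hH P hPH hP
    obtain ⟨T, hT⟩ := (hP.of_equiv (Subgroup.subgroupOfEquivOfLe hPH).symm).exists_le_sylow
    have hTn := hsub H hH T
    refine ⟨(T : Subgroup H).map H.subtype, T.isPGroup'.map _, Subgroup.map_subtype_le _, ?_, fun h hh => ?_⟩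
    · intro x hx
      exact ⟨⟨x, hPH hx⟩, hT hx, rfl⟩
    · exact Subgroup.le_normalizer_map H.subtype
        ⟨⟨h, hh⟩, (Subgroup.normalizer_eq_top_iff.2 hTn).ge (Subgroup.mem_top _), rfl⟩
  have hcent : ∀ P : Subgroup G, IsPGroup p P → N ⊔ P ≠ ⊤ → N ≤ Subgroup.centralizer (P : Set G) := by
    intro P hP hne n hn
    obtain ⟨T, hT, -, hPT, hTn⟩ := hnorm (N ⊔ P) hne P le_sup_right hP
    refine Subgroup.mem_centralizer_iff.2 fun y hy => ?_
    have h5 : n * y * n⁻¹ * y⁻¹ ∈ N ⊓ T := by
      refine Subgroup.mem_inf.2 ⟨?_, mul_mem ((Subgroup.mem_normalizer_iff.1 (hTn (Subgroup.mem_sup_left hn)) y).1 (hPT hy)) (inv_mem (hPT hy))⟩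
      rw [show n * y * n⁻¹ * y⁻¹ = n * (y * n⁻¹ * y⁻¹) by group]
      exact mul_mem hn (hNn.conj_mem _ (inv_mem hn) y)
    obtain ⟨k, hk⟩ := IsPGroup.iff_card.1 hT
    rw [Solv.coprime_inf (H := N) (K := T) (hk ▸ Nat.Coprime.pow_right k (hp.coprime_iff_not_dvd.2 hpN).symm),
      Subgroup.mem_bot] at h5
    exact (mul_inv_eq_iff_eq_mul.1 (mul_inv_eq_one.1 h5)).symm
  have hNS : N ⊔ (S : Subgroup G) = ⊤ := by
    by_contra hne
    obtain ⟨P₀⟩ : Nonempty (Sylow p (G ⧸ N)) := inferInstance
    haveI := hquo N hNb P₀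
    haveI : ((S : Subgroup G).map (QuotientGroup.mk' N)).Normal :=
      hquo N hNb (S.mapSurjective (QuotientGroup.mk'_surjective N))
    haveI hn2 : (N ⊔ (S : Subgroup G)).Normal := by
      have h : N ⊔ (S : Subgroup G) = ((S : Subgroup G).map (QuotientGroup.mk' N)).comap (QuotientGroup.mk' N) := by
        rw [Subgroup.comap_map_eq, QuotientGroup.ker_mk', sup_comm]
      rw [h]; exact Subgroup.Normal.comap inferInstance _
    obtain ⟨T, hT, hTH, hST, hTn⟩ := hnorm (N ⊔ (S : Subgroup G)) hne S le_sup_right S.isPGroup'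
    have hTS : T = (S : Subgroup G) := (S.is_maximal' hT hST)
    subst hTS
    -- Frattini
    have htop : Subgroup.normalizer ((S : Subgroup G) : Set G) = ⊤ := top_le_iff.1 fun g _ => by
      obtain ⟨n, hn, hng⟩ := Fusion.frattini_conj ((Fusion.sylIn_top S).mono le_sup_right le_top)
        (H := ⊤) (N := N ⊔ (S : Subgroup G)) (Subgroup.normalizer_eq_top_iff.2 hn2).ge (Subgroup.mem_top g)
      have h := mul_mem (inv_mem (hTn hn)) hng
      simpa using h
    haveI : (S : Subgroup G).Normal := Subgroup.normalizer_eq_top_iff.1 htop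
    exact hnc (Solv.pclosed_of_normal _ S.isPGroup' S.not_dvd_index)
  have hSb : (S : Subgroup G) ≠ ⊥ := fun h => hNt (by rwa [h, sup_bot_eq] at hNS)
  have hcardS : Nat.card (S : Subgroup G) = p := by
    haveI := (Subgroup.nontrivial_iff_ne_bot (S : Subgroup G)).2 hSb
    haveI := S.isPGroup'.isNilpotent
    obtain ⟨Z, hZ⟩ := exists_prime_orderOf_dvd_card' (G := Subgroup.center (S : Subgroup G)) p
      ((IsPGroup.iff_card.1 (S.isPGroup'.to_subgroup (Subgroup.center (S : Subgroup G)))).elim fun k hk => by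
        rcases k with _ | k
        · exact absurd (Subgroup.card_eq_one.1 (by rw [hk, pow_zero])) (Group.IsNilpotent.center_ne_bot _)
        · exact hk ▸ dvd_pow_self p k.succ_ne_zero)
    set z : G := ((Z : (S : Subgroup G)) : G) with hz
    have hzo : orderOf z = p := by rw [hz, Subgroup.orderOf_coe, Subgroup.orderOf_coe, hZ]
    have hZc : Nat.card (Subgroup.zpowers z) = p := by rw [Nat.card_zpowers, hzo]
    by_contra hne
    have hlt : N ⊔ Subgroup.zpowers z ≠ ⊤ := by
      intro h
      apply hne
      have h1 := Solv.card_sup_mul_card_inf N (Subgroup.zpowers z)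
      rw [h, Subgroup.card_top, hZc] at h1
      have h2 := Solv.card_sup_mul_card_inf N (S : Subgroup G)
      obtain ⟨k, hk⟩ := IsPGroup.iff_card.1 S.isPGroup'
      rw [hNS, Subgroup.card_top, Solv.coprime_inf (H := N) (K := (S : Subgroup G))
        (hk ▸ Nat.Coprime.pow_right k (hp.coprime_iff_not_dvd.2 hpN).symm), Subgroup.card_bot, mul_one] at h2
      rw [Solv.coprime_inf (H := N) (K := Subgroup.zpowers z)
        (by rw [hZc]; exact (hp.coprime_iff_not_dvd.2 hpN).symm), Subgroup.card_bot, mul_one, h2] at h1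
      exact Nat.eq_of_mul_eq_mul_left Nat.card_pos h1
    have hc := hcent _ (IsPGroup.of_card (n := 1) (by rw [hZc, pow_one])) hlt
    have hzn : (Subgroup.zpowers z).Normal := by
      refine Subgroup.normalizer_eq_top_iff.1 (top_le_iff.1 ?_)
      rw [← hNS]
      refine sup_le (hc.trans (Subgroup.centralizer_le_normalizer _))
        (le_trans (fun s hs => ?_) (Subgroup.centralizer_le_normalizer _))
      rw [Subgroup.zpowers_eq_closure, Subgroup.centralizer_closure, Subgroup.mem_centralizer_singleton_iff]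
      exact congrArg Subtype.val (Subgroup.mem_center_iff.1 Z.2 ⟨s, hs⟩)
    have h := hOp _ hzn (IsPGroup.of_card (n := 1) (by rw [hZc, pow_one]))
    rw [h, Subgroup.card_bot] at hZc
    exact hp.ne_one hZc.symm
  have hidx : N.index = p := by
    have h2 := Solv.card_sup_mul_card_inf N (S : Subgroup G)
    rw [hNS, Subgroup.card_top, Solv.coprime_inf (H := N) (K := (S : Subgroup G))
      (by rw [hcardS]; exact (hp.coprime_iff_not_dvd.2 hpN).symm), Subgroup.card_bot, mul_one, hcardS,
      ← N.card_mul_index] at h2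
    exact Nat.eq_of_mul_eq_mul_left Nat.card_pos h2
  refine Solv.exists_min_ext N hpN hidx hmin (fun P hP hPc => ?_) fun H hH P hPH hPc => ?_
  · have h := hOp P hP (IsPGroup.of_card (n := 1) (by rw [hPc, pow_one]))
    rw [h, Subgroup.card_bot] at hPc
    exact hp.ne_one hPc.symm
  · obtain ⟨T, hT, hTH, hPT, hTn⟩ := hnorm H hH P hPH (IsPGroup.of_card (n := 1) (by rw [hPc, pow_one]))
    obtain ⟨g, hg⟩ := MulAction.exists_smul_eq G S (hT.exists_le_sylow.choose)
    have hle : Nat.card T ≤ p := by
      rw [← hcardS]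
      calc Nat.card T ≤ Nat.card (hT.exists_le_sylow.choose : Subgroup G) :=
            Subgroup.card_le_of_le hT.exists_le_sylow.choose_spec
        _ = _ := by rw [← hg]; exact Solv.card_conj_smul g _
    rw [Subgroup.eq_of_le_of_card_ge hPT (hPc.symm ▸ hle)]
    exact hTn

end Cfsg.Agent.S3868
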