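import Cfsg.Statements.S3869
import Cfsg.Agent.Lib.Solv.MinNonClosed

set_option autoImplicit false
set_option linter.style.haveILetI false
open Cfsg

open scoped Pointwise commutatorElement

namespace Cfsg.Agent.S3869

/-- Let p and q be distinct primes and G a finite non-abelian group with a normal elementary abelian q-subgroup A that is a minimal normal subgroup of G and has index p. Then A has order q^e with e the multiplicative order of q modulo p, and G is minimal non-p-closed: its Sylow p-subgroups are not normal, while in every proper subgroup and in every proper quotient of G the Sylow p-subgroups are normal. -/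
theorem result {G : Type*} [Group G] [Finite G] {p q : ℕ} [Fact p.Prime] (hq : q.Prime) (hpq : q ≠ p)
    (hna : ¬ IsMulCommutative G) (A : Subgroup G) [A.Normal] (hA : Cfsg.IsElementaryAbelian q A) (hidx : A.index = p)
    (hmin : ∀ B : Subgroup G, B.Normal → B ≤ A → B = ⊥ ∨ B = A) :
    Nat.card ↥A = q ^ orderOf (q : ZMod p) ∧ ¬ Cfsg.IsPClosed p G ∧ (∀ H : Subgroup G, H ≠ ⊤ → Cfsg.IsPClosed p ↥H) ∧
      ∀ (N : Subgroup G) [N.Normal], N ≠ ⊥ → Cfsg.IsPClosed p (G ⧸ N) := by
  haveI := Fact.mk hq
  have hp : p.Prime := Fact.out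
  obtain ⟨hc, hnn, hH, hN⟩ := Solv.min_ext hpq A hA hidx hna hmin
  have hcardG : Nat.card G = Nat.card A * p := by rw [← hidx, A.card_mul_index]
  have hpA : ¬ p ∣ Nat.card A := fun h => by
    rw [hc] at h
    exact hpq ((Nat.prime_dvd_prime_iff_eq hp hq).1 (hp.dvd_of_dvd_pow h)).symm
  refine ⟨hc, fun hcl => ?_, fun H hHt => ?_, fun N hNn hNb => ?_⟩
  · obtain ⟨P⟩ : Nonempty (Sylow p G) := inferInstance
    refine hnn (P : Subgroup G) (hcl P) ?_
    rw [P.card_eq_multiplicity, hcardG, Nat.factorization_mul Nat.card_pos.ne' hp.ne_zero]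
    simp [Nat.factorization_eq_zero_of_not_dvd hpA, hp.factorization_self]
  · by_cases hpH : p ∣ Nat.card H
    · refine Solv.pclosed_of_normal (⊤ : Subgroup H) ?_ (by rw [Subgroup.index_top]; exact hp.not_dvd_one)
      exact IsPGroup.of_card (n := 1) (by rw [Subgroup.card_top, pow_one]; exact hH H hHt hpH)
    · exact Solv.pclosed_of_coprime hpH
  · have hd : Nat.card (G ⧸ N) ∣ p := by
      rw [← Subgroup.index_eq_card, ← hidx]
      exact Subgroup.index_dvd_of_le (hN N hNn hNb)
    refine Solv.pclosed_of_normal (⊤ : Subgroup (G ⧸ N)) ?_ (by rw [Subgroup.index_top]; exact hp.not_dvd_one)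
    obtain ⟨k, -, hk⟩ := (Nat.dvd_prime_pow hp).1 (show Nat.card (G ⧸ N) ∣ p ^ 1 by rwa [pow_one])
    exact IsPGroup.of_card (n := k) (by rw [Subgroup.card_top]; exact hk)

end Cfsg.Agent.S3869
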