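import Cfsg.Statements.S3870
import Cfsg.Agent.Lib.Solv.Basic
import Cfsg.Agent.Lib.Fusion.Basic

set_option autoImplicit false
open Cfsg

open scoped Pointwise commutatorElement

namespace Cfsg.Agent.S3870

/-- Let G be a finite simple group whose Sylow p-subgroups are not normal but such that every proper subgroup of G has a normal Sylow p-subgroup. Then any two distinct Sylow p-subgroups of G intersect trivially, and for every Sylow p-subgroup P the normalizer of every non-identity subgroup of P lies in the normalizer of P. -/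
theorem result {G : Type*} [Group G] [Finite G] [IsSimpleGroup G] {p : ℕ} [Fact p.Prime]
    (hnc : ¬ Cfsg.IsPClosed p G) (hsub : ∀ H : Subgroup G, H ≠ ⊤ → Cfsg.IsPClosed p ↥H) :
    (∀ P Q : Sylow p G, P ≠ Q → (P : Subgroup G) ⊓ (Q : Subgroup G) = ⊥) ∧
      ∀ (P : Sylow p G) (R : Subgroup G), R ≤ P → R ≠ ⊥ →
        Subgroup.normalizer (R : Set G) ≤ Subgroup.normalizer ((P : Subgroup G) : Set G) := by
  have hTI : ∀ P Q : Sylow p G, (P : Subgroup G) ⊓ Q ≠ ⊥ → P = Q := by
    intro P Q h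
    by_contra he
    obtain ⟨D, -, hDmax⟩ := Finite.exists_le_maximal (p := fun D : Subgroup G =>
      ∃ P Q : Sylow p G, P ≠ Q ∧ D = (P : Subgroup G) ⊓ Q ∧ D ≠ ⊥) (a := (P : Subgroup G) ⊓ Q)
      ⟨P, Q, he, rfl, h⟩
    obtain ⟨P, Q, hPQ, rfl, hD⟩ := hDmax.1
    have hmax := fun D' h1 h2 => hDmax.2 (y := D') h1 h2
    clear he h
    set D := (P : Subgroup G) ⊓ Q with hDdef
    set M := Subgroup.normalizer (D : Set G) with hM
    have hne : ∀ R R' : Sylow p G, R ≠ R' → (R : Subgroup G) ⊓ R' ≠ R := fun R R' hRR h =>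
      hRR (Sylow.ext (R.3 R'.isPGroup' (inf_eq_left.1 h)).symm)
    have hMt : M ≠ ⊤ := by
      intro hM'
      rcases (Subgroup.normalizer_eq_top_iff.1 hM').eq_bot_or_eq_top with h' | h'
      · exact hD h'
      · exact hne P Q hPQ (le_antisymm inf_le_left (le_trans le_top h'.ge))
    obtain ⟨T⟩ : Nonempty (Sylow p M) := inferInstance
    have hTn := hsub M hMt T
    have := Sylow.unique_of_normal T hTn
    obtain ⟨R, hR⟩ := (T.isPGroup'.map M.subtype).exists_le_sylow
    have hle : ∀ P' : Sylow p G, D ≤ P' → (P' : Subgroup G) ⊓ M ≤ R := by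
      intro P' _
      obtain ⟨T', hT'⟩ := (P'.isPGroup'.comap_of_injective M.subtype M.subtype_injective).exists_le_sylow
      rw [Subsingleton.elim T' T] at hT'
      exact fun x hx => hR ⟨⟨x, hx.2⟩, hT' hx.1, rfl⟩
    have heqR : ∀ P' Q' : Sylow p G, P' ≠ Q' → D = (P' : Subgroup G) ⊓ Q' → P' = R := by
      intro P' Q' hPQ' hD'
      by_contra hne'
      have hgrow := Fusion.SylIn.normalizer_growth (hD'.le.trans inf_le_left)
        (fun e => hne P' Q' hPQ' (hD'.symm.trans e)) P'.isPGroup'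
      have h1 : (P' : Subgroup G) ⊓ M ≤ (P' : Subgroup G) ⊓ R :=
        le_inf inf_le_left (hle P' (hD'.le.trans inf_le_left))
      have h2 := hmax ((P' : Subgroup G) ⊓ R) ⟨P', R, hne', rfl, fun h => hD (le_bot_iff.1
        (hgrow.le.trans (h1.trans h.le)))⟩ (hgrow.le.trans h1)
      exact hgrow.not_ge (h1.trans h2)
    exact hPQ ((heqR P Q hPQ rfl).trans (heqR Q P hPQ.symm (inf_comm _ _)).symm)
  refine ⟨fun P Q hPQ => by_contra fun h => hPQ (hTI P Q h), fun P R hRP hR1 g hg => ?_⟩
  refine Solv.mem_normalizer_of_conj_smul ?_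
  have hle : R ≤ (P : Subgroup G) ⊓ (g • P : Sylow p G) := by
    refine le_inf hRP ?_
    have h1 := Solv.conj_smul_of_mem_normalizer hg
    rw [← h1]
    exact Subgroup.pointwise_smul_le_pointwise_smul_iff.2 hRP
  exact (congrArg (fun S : Sylow p G => (S : Subgroup G)) (hTI P (g • P) (fun h => hR1 (le_bot_iff.1 (h ▸ hle))))).symm

end Cfsg.Agent.S3870
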