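import Cfsg.Statements.S3872
import Cfsg.Agent.Lib.Solv.PolySeq
import Cfsg.Agent.Lib.Solv.MaxClass
import Cfsg.Agent.Lib.Solv.UniqueSub

set_option autoImplicit false
set_option linter.style.haveILetI false
open Cfsg

open scoped Pointwise commutatorElement

namespace Cfsg.Agent.S3872

/-- Say that a finite group is p-exponent closed when its elements of order dividing p form a subgroup. Let G be a finite p-group that is not p-exponent closed, but all of whose proper subgroups and proper quotients are. Then G is generated by two elements, has nilpotency class at least p, has exponent p², has cyclic center, and has order at least p^(p+1). -/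
theorem result {G : Type*} [Group G] [Finite G] {p : ℕ} [Fact p.Prime] (hG : IsPGroup p G)
    (hnc : ¬ (∃ H : Subgroup G, (H : Set G) = {g : G | g ^ p = 1})) (hsub : ∀ K : Subgroup G, K ≠ ⊤ → (∃ H : Subgroup ↥K, (H : Set ↥K) = {g : ↥K | g ^ p = 1}))
    (hquo : ∀ (N : Subgroup G) [N.Normal], N ≠ ⊥ → (∃ H : Subgroup (G ⧸ N), (H : Set (G ⧸ N)) = {g : (G ⧸ N) | g ^ p = 1})) :
    (∃ x y : G, Subgroup.closure ({x, y} : Set G) = ⊤) ∧ (⊤ : Subgroup G).lowerCentralSeries (p - 1) ≠ ⊥ ∧
      Monoid.exponent G = p ^ 2 ∧ IsCyclic ↥(Subgroup.center G) ∧ p ^ (p + 1) ≤ Nat.card G := by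
  classical
  have hp : p.Prime := Fact.out
  obtain ⟨x, y, hx, hy, hxy⟩ : ∃ x y : G, x ^ p = 1 ∧ y ^ p = 1 ∧ (x * y) ^ p ≠ 1 := by
    by_contra hno
    push Not at hno
    exact hnc ⟨{ carrier := {g : G | g ^ p = 1}
                 one_mem' := one_pow p
                 mul_mem' := fun {a b} ha hb => hno a b ha hb
                 inv_mem' := fun {a} (ha : a ^ p = 1) => by
                   show a⁻¹ ^ p = 1
                   rw [inv_pow, ha, inv_one] }, rfl⟩
  have hgen : Subgroup.closure ({x, y} : Set G) = ⊤ := by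
    by_contra hne
    obtain ⟨H, hH⟩ := hsub _ hne
    have hmem : ∀ (z : G) (hz : z ∈ Subgroup.closure ({x, y} : Set G)), z ^ p = 1 →
        (⟨z, hz⟩ : ↥(Subgroup.closure ({x, y} : Set G))) ∈ H := fun z hz h => by
      rw [← SetLike.mem_coe, hH]; exact Subtype.ext (by simpa using h)
    have h := H.mul_mem (hmem x (Subgroup.subset_closure (by simp)) hx)
      (hmem y (Subgroup.subset_closure (by simp)) hy)
    rw [← SetLike.mem_coe, hH] at h
    exact hxy (by simpa using congrArg Subtype.val h)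
  have hlcs : (⊤ : Subgroup G).lowerCentralSeries (p - 1) ≠ ⊥ := fun h =>
    hxy (Solv.mul_pow_prime_of_class_lt hG h hx hy)
  -- `p`-th powers lie in every nontrivial normal subgroup
  have hpow : ∀ (N : Subgroup G) [N.Normal], N ≠ ⊥ → ∀ g : G, g ^ p ∈ N := by
    intro N _ hN g
    obtain ⟨H, hH⟩ := hquo N hN
    have hle : Subgroup.closure ({x, y} : Set G) ≤ H.comap (QuotientGroup.mk' N) := by
      rw [Subgroup.closure_le]
      rintro z (rfl | rfl) <;>
      · show (z : G ⧸ N) ∈ (H : Set (G ⧸ N))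
        rw [hH]
        show (z : G ⧸ N) ^ p = 1
        rw [← QuotientGroup.mk_pow]
        simp [hx, hy]
    rw [hgen] at hle
    have h : (g : G ⧸ N) ∈ (H : Set (G ⧸ N)) := hle (Subgroup.mem_top g)
    rw [hH] at h
    rw [← QuotientGroup.eq_one_iff, QuotientGroup.mk_pow]
    exact h
  have hcentre : ∀ z : G, z ∈ Subgroup.center G → (Subgroup.zpowers z).Normal := fun z hz =>
    ⟨fun w hw g => by
      have hwc : w ∈ Subgroup.center G := Subgroup.zpowers_le.2 hz hw
      rw [Subgroup.mem_center_iff.1 hwc g, mul_inv_cancel_right]; exact hw⟩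
  haveI : Nontrivial G := ⟨⟨(x * y) ^ p, 1, hxy⟩⟩
  haveI : Nontrivial (Subgroup.center G) := hG.center_nontrivial
  obtain ⟨z, hz⟩ : ∃ z : ↥(Subgroup.center G), orderOf z = p := by
    obtain ⟨k, hk⟩ := IsPGroup.iff_card.1 (hG.to_subgroup (Subgroup.center G))
    have h2 : 1 < Nat.card (Subgroup.center G) := Finite.one_lt_card_iff_nontrivial.2 inferInstance
    refine exists_prime_orderOf_dvd_card' p ?_
    rw [hk] at h2 ⊢
    exact dvd_pow_self p (fun h0 => by rw [h0] at h2; simp at h2)
  have hkey : ∀ w ∈ Subgroup.center G, w ^ p = 1 → w ≠ 1 → ∀ g : G, g ^ p ∈ Subgroup.zpowers w := by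
    intro w hw hwp hw1 g
    haveI := hcentre w hw
    exact hpow _ (by rwa [Ne, Subgroup.zpowers_eq_bot]) g
  have hzp : (z : G) ^ p = 1 := by
    have := pow_orderOf_eq_one z
    rw [hz] at this
    exact congrArg Subtype.val this
  have hz1 : (z : G) ≠ 1 := fun e => by
    have : z = 1 := Subtype.ext e
    rw [this, orderOf_one] at hz
    exact hp.one_lt.ne hz
  have hexp2 : ∀ g : G, g ^ p ^ 2 = 1 := by
    intro g
    obtain ⟨k, hk⟩ := hkey _ z.2 hzp hz1 g
    rw [pow_two, pow_mul]
    simp only at hk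
    rw [← hk, ← zpow_natCast, ← zpow_mul, mul_comm, zpow_mul, zpow_natCast, hzp, one_zpow]
  refine ⟨⟨x, y, hgen⟩, hlcs, ?_, ?_, ?_⟩
  · obtain ⟨k, hk, hke⟩ := (Nat.dvd_prime_pow hp).1 (Monoid.exponent_dvd_of_forall_pow_eq_one hexp2)
    rcases Nat.lt_or_ge k 2 with h | h
    · exfalso
      refine hxy (orderOf_dvd_iff_pow_eq_one.1 ((Monoid.order_dvd_exponent (x * y)).trans ?_))
      rw [hke]
      exact (pow_dvd_pow p (by omega : k ≤ 1)).trans (dvd_of_eq (pow_one p))
    · rw [hke]; congr 1; omega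
  · have huniq : Solv.UniqueOrderP p ↥(Subgroup.center G) := by
      intro u v hu hv hv1
      have hu' : (u : G) ^ p = 1 := by simpa using congrArg Subtype.val hu
      have hv' : (v : G) ^ p = 1 := by simpa using congrArg Subtype.val hv
      by_contra huv
      have hv1' : (v : G) ≠ 1 := fun e => hv1 (Subtype.ext e)
      have hu1 : (u : G) ≠ 1 := fun e => huv (by rw [show u = 1 from Subtype.ext e]; exact Subgroup.one_mem _)
      obtain ⟨i, hi⟩ := hkey _ u.2 hu' hu1 (x * y)
      obtain ⟨j, hj⟩ := hkey _ v.2 hv' hv1' (x * y)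
      have hne : u ^ i ≠ 1 := fun e => hxy (by
        rw [← hi]; simpa using congrArg Subtype.val e)
      have hmem : u ^ i ∈ Subgroup.zpowers v := ⟨j, Subtype.ext (by
        simp only [Subgroup.coe_zpow]; exact hj.trans hi.symm)⟩
      have hou : orderOf u = p := orderOf_eq_prime hu (fun e => hu1 (congrArg Subtype.val e))
      have hov : orderOf v = p := orderOf_eq_prime hv hv1
      have hoi : orderOf (u ^ i) = p := orderOf_eq_prime (by
        rw [← zpow_natCast, ← zpow_mul, mul_comm, zpow_mul, zpow_natCast, hu, one_zpow]) hne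
      have h1 : Subgroup.zpowers (u ^ i) = Subgroup.zpowers v :=
        Subgroup.eq_of_le_of_card_ge (Subgroup.zpowers_le.2 hmem) (by simp [Nat.card_zpowers, hoi, hov])
      have h2 : Subgroup.zpowers (u ^ i) = Subgroup.zpowers u :=
        Subgroup.eq_of_le_of_card_ge (Subgroup.zpowers_le.2 (zpow_mem (Subgroup.mem_zpowers u) i))
          (by simp [Nat.card_zpowers, hoi, hou])
      exact huv (h1 ▸ h2 ▸ Subgroup.mem_zpowers u)
    obtain ⟨a, -, ha⟩ := Solv.abelian_cyclic_of_unique (hG.to_subgroup _) huniq ⊤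
      (fun u _ v _ => Subtype.ext (Subgroup.mem_center_iff.1 v.2 u))
    refine ⟨a, fun w => ?_⟩
    show w ∈ Subgroup.zpowers a
    rw [← ha]; exact Subgroup.mem_top w
  · obtain ⟨n, hn⟩ := IsPGroup.iff_card.1 hG
    have h2n : 2 ≤ n := by
      by_contra hlt
      apply hxy
      have hdvd : Nat.card G ∣ p := by
        rw [hn]; exact (pow_dvd_pow p (by omega : n ≤ 1)).trans (dvd_of_eq (pow_one p))
      exact orderOf_dvd_iff_pow_eq_one.1 ((orderOf_dvd_natCard (x * y)).trans hdvd)
    rcases Solv.lcs_card_le hG hn h2n (p - 1) (by have := hp.two_le; omega) with h | h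
    · exact absurd h hlcs
    · rw [hn, show p - 1 + 1 = p by have := hp.pos; omega] at *
      refine le_trans ?_ h
      rw [pow_succ']
      refine Nat.mul_le_mul_right _ ?_
      obtain ⟨k, hk⟩ := IsPGroup.iff_card.1 (hG.to_subgroup ((⊤ : Subgroup G).lowerCentralSeries (p - 1)))
      rw [hk]
      exact Nat.le_self_pow (fun h0 => hlcs (Subgroup.card_eq_one.1 (by rw [hk, h0, pow_zero]))) p

end Cfsg.Agent.S3872
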