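import Cfsg.Statements.S3873
import Cfsg.Agent.Lib.Solv.MinNonClosed

set_option autoImplicit false
set_option linter.style.haveILetI false
open Cfsg

open scoped Pointwise commutatorElement

namespace Cfsg.Agent.S3873

/-- Say that a finite group is p-exponent closed when its elements of order dividing p form a subgroup. Let G be a finite group that is not p-exponent closed, but all of whose proper subgroups and proper quotients are, and suppose G is neither simple nor a p-group. Then there is a prime q ≠ p such that G has order p · q^e, where e is the multiplicative order of q modulo p, and G has a normal elementary abelian subgroup of order q^e that is a minimal normal subgroup of G. -/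
theorem result {G : Type*} [Group G] [Finite G] {p : ℕ} [Fact p.Prime]
    (hnc : ¬ (∃ H : Subgroup G, (H : Set G) = {g : G | g ^ p = 1})) (hsub : ∀ K : Subgroup G, K ≠ ⊤ → (∃ H : Subgroup ↥K, (H : Set ↥K) = {g : ↥K | g ^ p = 1}))
    (hquo : ∀ (N : Subgroup G) [N.Normal], N ≠ ⊥ → (∃ H : Subgroup (G ⧸ N), (H : Set (G ⧸ N)) = {g : (G ⧸ N) | g ^ p = 1}))
    (hns : ¬ IsSimpleGroup G) (hnp : ¬ IsPGroup p G) :
    ∃ q : ℕ, q.Prime ∧ q ≠ p ∧ Nat.card G = p * q ^ orderOf (q : ZMod p) ∧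
      ∃ A : Subgroup G, A.Normal ∧ Nat.card ↥A = q ^ orderOf (q : ZMod p) ∧ Cfsg.IsElementaryAbelian q A ∧
        ∀ B : Subgroup G, B.Normal → B ≤ A → B = ⊥ ∨ B = A := by
  have hp : p.Prime := Fact.out
  haveI : Nontrivial G := by
    by_contra h
    rw [not_nontrivial_iff_subsingleton] at h
    exact hnp fun g => ⟨0, Subsingleton.elim _ _⟩
  -- in a proper subgroup the solutions of `x ^ p = 1` form a subgroup normalized by it
  have hclosed : ∀ K : Subgroup G, K ≠ ⊤ → ∃ W : Subgroup G, (∀ x, x ∈ W ↔ x ∈ K ∧ x ^ p = 1) ∧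
      IsPGroup p W ∧ K ≤ Subgroup.normalizer (W : Set G) := by
    intro K hK
    obtain ⟨H, hH⟩ := hsub K hK
    have hmem : ∀ x : K, x ∈ H ↔ x ^ p = 1 := fun x => Set.ext_iff.1 hH x
    have hW : ∀ x, x ∈ H.map K.subtype ↔ x ∈ K ∧ x ^ p = 1 := by
      intro x
      constructor
      · rintro ⟨y, hy, rfl⟩
        exact ⟨y.2, congrArg Subtype.val ((hmem y).1 hy)⟩
      · rintro ⟨hx, hxp⟩
        exact ⟨⟨x, hx⟩, (hmem _).2 (Subtype.ext hxp), rfl⟩
    refine ⟨H.map K.subtype, hW, fun x => ⟨1, Subtype.ext ?_⟩, fun k hk => ?_⟩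
    · rw [pow_one, Subgroup.coe_pow]; exact ((hW x).1 x.2).2
    · refine Subgroup.mem_normalizer_iff.2 fun x => ?_
      rw [hW, hW, conj_pow, mul_inv_eq_one, mul_eq_left]
      refine and_congr_left' ⟨fun hx => mul_mem (mul_mem hk hx) (inv_mem hk), fun hx => ?_⟩
      have := mul_mem (mul_mem (inv_mem hk) hx) hk
      simpa [mul_assoc] using this
  obtain ⟨N, hNn, hNb, hmin⟩ := Solv.exists_minimal_normal (G := G)
  haveI := hNn
  have hNt : N ≠ ⊤ := fun h => hns (IsSimpleGroup.mk fun K hK =>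
    (hmin K hK (h ▸ le_top)).imp id fun e => e.trans h)
  obtain ⟨Hbar, hHbar⟩ := hquo N hNb
  set W := Hbar.comap (QuotientGroup.mk' N) with hW
  have hWall : ∀ g : G, g ^ p = 1 → g ∈ W := fun g hg => by
    show QuotientGroup.mk' N g ∈ (Hbar : Set (G ⧸ N))
    rw [hHbar]
    show (QuotientGroup.mk' N g) ^ p = 1
    rw [← map_pow, hg, map_one]
  have hWtop : W = ⊤ := by
    by_contra hne
    obtain ⟨V, hV, -, -⟩ := hclosed W hne
    refine hnc ⟨V, Set.ext fun g => ?_⟩
    show g ∈ V ↔ g ^ p = 1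
    rw [hV]
    exact ⟨fun h => h.2, fun h => ⟨hWall g h, h⟩⟩
  have hexpN : ∀ g : G, g ^ p ∈ N := fun g => by
    have h : QuotientGroup.mk' N g ∈ (Hbar : Set (G ⧸ N)) := hWtop.ge (Subgroup.mem_top g)
    rw [hHbar] at h
    rw [← QuotientGroup.eq_one_iff]
    rwa [QuotientGroup.mk_pow]
  have hpN : ¬ p ∣ Nat.card N := by
    intro hd
    obtain ⟨V, hV, hVp, hVn⟩ := hclosed N hNt
    haveI : V.Normal := ⟨fun v hv g => (hV _).2 ⟨hNn.conj_mem v ((hV v).1 hv).1 g,
      by rw [conj_pow, ((hV v).1 hv).2, mul_one, mul_inv_cancel]⟩⟩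
    have hVN : V ≤ N := fun v hv => ((hV v).1 hv).1
    rcases hmin V inferInstance hVN with h | h
    · obtain ⟨x, hx⟩ := exists_prime_orderOf_dvd_card' (G := N) p hd
      have hxV : (x : G) ∈ V := (hV _).2 ⟨x.2, by
        rw [← Subgroup.coe_pow, ← hx, pow_orderOf_eq_one]; rfl⟩
      rw [h, Subgroup.mem_bot] at hxV
      have hx1 : x = 1 := Subtype.ext hxV
      rw [hx1, orderOf_one] at hx
      exact hp.ne_one hx.symm
    · refine hnp fun g => ⟨2, ?_⟩
      rw [pow_two, pow_mul]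
      exact ((hV _).1 (h.ge (hexpN g))).2
  have hcopow : ∀ x : G, (∃ j, x ^ p ^ j = 1) → x ∈ N → x = 1 := by
    intro x ⟨j, hj⟩ hx
    have h1 : orderOf x ∣ Nat.card N := Subgroup.orderOf_dvd_natCard N hx
    refine orderOf_eq_one_iff.1 (Nat.eq_one_of_dvd_coprimes
      (Nat.Coprime.pow_left j (hp.coprime_iff_not_dvd.2 hpN)) (orderOf_dvd_of_pow_eq_one hj) h1)
  obtain ⟨S⟩ : Nonempty (Sylow p G) := inferInstance
  have hSexp : ∀ s ∈ (S : Subgroup G), s ^ p = 1 := by
    intro s hs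
    obtain ⟨j, hj⟩ := S.isPGroup' ⟨s, hs⟩
    refine hcopow _ ⟨j, ?_⟩ (hexpN s)
    rw [← pow_mul, mul_comm, pow_mul, show s ^ p ^ j = 1 from congrArg Subtype.val hj, one_pow]
  have hquot : IsPGroup p (G ⧸ N) := fun x => by
    obtain ⟨g, rfl⟩ := QuotientGroup.mk_surjective x
    exact ⟨1, by rw [pow_one, ← QuotientGroup.mk_pow, QuotientGroup.eq_one_iff]; exact hexpN g⟩
  obtain ⟨m, hm⟩ := IsPGroup.iff_card.1 hquot
  rw [← Subgroup.index_eq_card] at hm
  -- a normal subgroup `P` of exponent `p` containing a Sylow subgroup is impossible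
  have hbad : ¬ (S : Subgroup G).Normal := by
    intro h
    refine hnc ⟨S, Set.ext fun g => ⟨hSexp g, fun hg => ?_⟩⟩
    have hgp : IsPGroup p (Subgroup.zpowers g) := by
      obtain ⟨k, -, hk⟩ := (Nat.dvd_prime_pow hp).1
        (show orderOf g ∣ p ^ 1 by rw [pow_one]; exact orderOf_dvd_of_pow_eq_one hg)
      exact IsPGroup.of_card (n := k) (by rw [Nat.card_zpowers, hk])
    have hsup := hgp.to_sup_of_normal_right S.isPGroup'
    rw [← S.is_maximal' hsup le_sup_right]
    exact Subgroup.mem_sup_left (Subgroup.mem_zpowers g)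
  have hSN : N ⊔ (S : Subgroup G) = ⊤ := by
    rw [← Subgroup.index_eq_one]
    obtain ⟨k, -, hk⟩ := (Nat.dvd_prime_pow hp).1
      (hm ▸ Subgroup.index_dvd_of_le (le_sup_left (b := (S : Subgroup G)) (a := N)))
    rcases k with _ | k
    · rwa [pow_zero] at hk
    · exact absurd ((hk ▸ dvd_pow_self p k.succ_ne_zero).trans
        (Subgroup.index_dvd_of_le (le_sup_right (a := N)))) S.not_dvd_index
  have hinf : ∀ P : Subgroup G, IsPGroup p P → N ⊓ P = ⊥ := fun P hP => eq_bot_iff.2 fun x hx => by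
    obtain ⟨j, hj⟩ := hP ⟨x, hx.2⟩
    exact Subgroup.mem_bot.2 (hcopow x ⟨j, congrArg Subtype.val hj⟩ hx.1)
  have hcent : ∀ s ∈ (S : Subgroup G), N ⊔ Subgroup.zpowers s ≠ ⊤ → N ≤ Subgroup.centralizer ({s} : Set G) := by
    intro s hs hne n hn
    obtain ⟨V, hV, hVp, hVn⟩ := hclosed _ hne
    have hsV : s ∈ V := (hV s).2 ⟨Subgroup.mem_sup_right (Subgroup.mem_zpowers s), hSexp s hs⟩
    have h5 : n * s * n⁻¹ * s⁻¹ ∈ N ⊓ V := by
      refine Subgroup.mem_inf.2 ⟨?_, mul_mem ((Subgroup.mem_normalizer_iff.1 (hVn (Subgroup.mem_sup_left hn)) s).1 hsV) (inv_mem hsV)⟩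
      rw [show n * s * n⁻¹ * s⁻¹ = n * (s * n⁻¹ * s⁻¹) by group]
      exact mul_mem hn (hNn.conj_mem _ (inv_mem hn) s)
    rw [hinf V hVp, Subgroup.mem_bot] at h5
    exact Subgroup.mem_centralizer_singleton_iff.2 (mul_inv_eq_iff_eq_mul.1 (mul_inv_eq_one.1 h5))
  obtain ⟨s₀, hs₀, hfull⟩ : ∃ s ∈ (S : Subgroup G), N ⊔ Subgroup.zpowers s = ⊤ := by
    by_contra hno
    push Not at hno
    refine hbad (Subgroup.normalizer_eq_top_iff.1 (top_le_iff.1 ?_))
    rw [← hSN]
    refine sup_le (fun n hn => Subgroup.centralizer_le_normalizer _ ?_) Subgroup.le_normalizer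
    exact Subgroup.mem_centralizer_iff.2 fun s hs =>
      (Subgroup.mem_centralizer_singleton_iff.1 (hcent s hs (hno s hs) hn)).symm
  have hs₀1 : s₀ ≠ 1 := fun h => hNt (by
    rwa [h, Subgroup.zpowers_one_eq_bot, sup_bot_eq] at hfull)
  have hzc : Nat.card (Subgroup.zpowers s₀) = p := by
    rw [Nat.card_zpowers]; exact orderOf_eq_prime (hSexp s₀ hs₀) hs₀1
  have hidx : N.index = p := by
    have h2 := Solv.card_sup_mul_card_inf N (Subgroup.zpowers s₀)
    rw [hfull, Subgroup.card_top, hinf _ (IsPGroup.of_card (n := 1) (by rw [hzc, pow_one])),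
      Subgroup.card_bot, mul_one, hzc, ← N.card_mul_index] at h2
    exact Nat.eq_of_mul_eq_mul_left Nat.card_pos h2
  have hcardS : Nat.card (S : Subgroup G) = p := by
    have h2 := Solv.card_sup_mul_card_inf N (S : Subgroup G)
    rw [hSN, Subgroup.card_top, hinf _ S.isPGroup', Subgroup.card_bot, mul_one, ← N.card_mul_index, hidx] at h2
    exact (Nat.eq_of_mul_eq_mul_left Nat.card_pos h2).symm
  have hsmall : ∀ T : Subgroup G, IsPGroup p T → Nat.card T ≤ p := by
    intro T hT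
    obtain ⟨T', hT'⟩ := hT.exists_le_sylow
    calc Nat.card T ≤ Nat.card (T' : Subgroup G) := Subgroup.card_le_of_le hT'
      _ = p := by rw [T'.card_eq_multiplicity, ← S.card_eq_multiplicity, hcardS]
  refine Solv.exists_min_ext N hpN hidx hmin (fun P hP hPc => hbad ?_) fun H hH P hPH hPc => ?_
  · haveI := hP
    have hPp : IsPGroup p P := IsPGroup.of_card (n := 1) (by rw [hPc, pow_one])
    rw [← S.is_maximal' (S.isPGroup'.to_sup_of_normal_right hPp) le_sup_left]
    have h := Subgroup.eq_of_le_of_card_ge (le_sup_right : P ≤ (S : Subgroup G) ⊔ P)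
      (hPc.symm ▸ hsmall _ (S.isPGroup'.to_sup_of_normal_right hPp))
    rw [← h]; exact hP
  · obtain ⟨V, hV, hVp, hVn⟩ := hclosed H hH
    have hPV : P ≤ V := fun x hx => (hV x).2 ⟨hPH hx, orderOf_dvd_iff_pow_eq_one.1
      (hPc ▸ Subgroup.orderOf_dvd_natCard P hx)⟩
    rw [Subgroup.eq_of_le_of_card_ge hPV (hPc.symm ▸ hsmall V hVp)]
    exact hVn

end Cfsg.Agent.S3873
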