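import Cfsg.Statements.S3875
import Cfsg.Agent.Lib.Solv.SmallSimpleBound
import Cfsg.Agent.S3868
import Cfsg.Agent.Lib.Classical.Dickson.Tools

set_option autoImplicit false
open Cfsg

namespace Cfsg.Agent.S3875

open scoped commutatorElement

theorem bound_aux (p : ℕ) [hp : Fact p.Prime] (hp2 : p ≠ 2) (m : ℕ)
    (hleast : ∀ k : ℕ, IsPrimePow k → k % p = 1 → m ≤ k) :
    ∀ (n : ℕ) (H : Type) [Group H] [Finite H], Nat.card H = n → ¬ Cfsg.IsPClosed p H →
      min (p * m) (p * (p ^ 2 - 1) / 2) ≤ n := by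
  intro n
  induction n using Nat.strong_induction_on with
  | _ n IH =>
  intro H _ _ hn hnc
  by_contra hlt
  rw [not_le] at hlt
  have hsub : ∀ K : Subgroup H, K ≠ ⊤ → Cfsg.IsPClosed p ↥K := fun K hK => by
    by_contra hK'
    have hK1 : Nat.card K < n := hn ▸ lt_of_le_of_ne (Subgroup.card_le_card_group K)
      fun h => hK (Subgroup.eq_top_of_card_eq K h)
    have := IH _ hK1 K rfl hK'
    omega
  have hquo : ∀ (N : Subgroup H) [N.Normal], N ≠ ⊥ → Cfsg.IsPClosed p (H ⧸ N) := fun N _ hN => by
    by_contra hN'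
    have hK1 : Nat.card (H ⧸ N) < n := by
      have h1 := N.card_mul_index
      rw [Subgroup.index_eq_card, hn] at h1
      have h2 : 1 < Nat.card N := (Subgroup.one_lt_card_iff_ne_bot N).2 hN
      have h3 : 0 < Nat.card (H ⧸ N) := Nat.card_pos
      nlinarith
    have := IH _ hK1 (H ⧸ N) rfl hN'
    omega
  have hp3 : 3 ≤ p := by have := hp.out.two_le; omega
  obtain ⟨P, hP⟩ : ∃ P : Sylow p H, ¬ (P : Subgroup H).Normal := by
    by_contra h
    exact hnc fun P => by
      by_contra hP
      exact h ⟨P, hP⟩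
  obtain ⟨k, hk⟩ := IsPGroup.iff_card.1 P.isPGroup'
  by_cases hsimp : IsSimpleGroup H
  · by_cases hna : IsMulCommutative H
    · refine hP ⟨fun x hx g => ?_⟩
      rw [hna.is_comm.comm g x, mul_inv_cancel_right]; exact hx
    by_cases hk1 : k = 1
    · haveI := Fintype.ofFinite H
      have h := Solv.SmallSimple.false_of_first_power hna hp2 P (by rw [hk, hk1, pow_one]) hP
      rw [hn] at h
      have : p * (p ^ 2 - 1) / 2 ≤ n := Nat.div_le_of_le_mul (by omega)
      omega
    rcases Nat.eq_zero_or_pos k with hk0 | hk0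
    · rw [hk0, pow_zero, Subgroup.card_eq_one] at hk
      exact hP (by rw [hk]; infer_instance)
    set N := Subgroup.normalizer ((P : Subgroup H) : Set H) with hN
    have hi : p + 1 ≤ N.index := by
      have hmod := card_sylow_modEq_one p H
      rw [Sylow.card_eq_index_normalizer P] at hmod
      change N.index ≡ 1 [MOD p] at hmod
      have hne : N.index ≠ 1 := fun h => hP (Subgroup.normalizer_eq_top_iff.1 (Subgroup.index_eq_one.1 h))
      have hpos : 1 ≤ N.index := Nat.pos_of_ne_zero Subgroup.index_ne_zero_of_finite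
      obtain ⟨c, hc⟩ := (Nat.modEq_iff_dvd' hpos).1 hmod.symm
      rcases c with _ | c
      · omega
      · rw [Nat.mul_succ] at hc; omega
    have hc : p ^ 2 ≤ Nat.card N := by
      refine le_trans ?_ (Subgroup.card_le_of_le (Subgroup.le_normalizer (H := (P : Subgroup H))))
      rw [hk]; exact Nat.pow_le_pow_right hp.out.pos (by omega)
    have h1 : p ^ 2 * (p + 1) ≤ n := hn ▸ N.card_mul_index ▸ Nat.mul_le_mul hc hi
    have h2 : p * (p ^ 2 - 1) / 2 ≤ p ^ 2 * (p + 1) := by
      refine (Nat.div_le_self _ 2).trans ?_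
      calc p * (p ^ 2 - 1) ≤ p * p ^ 2 := by gcongr; omega
        _ ≤ p ^ 2 * (p + 1) := by ring_nf; omega
    omega
  obtain ⟨q, hq, hqp, hcard, -⟩ := S3868.result hnc hsub hquo hsimp
  set e := orderOf (q : ZMod p)
  rcases Nat.eq_zero_or_pos e with he | he
  · rw [he, pow_zero, mul_one] at hcard
    have hH : IsPGroup p H := IsPGroup.of_card (n := 1) (by rw [hcard, pow_one])
    have : (P : Subgroup H) = ⊤ := (P.is_maximal' (hH.to_subgroup ⊤) le_top).symm
    exact hP (by rw [this]; infer_instance)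
  have hmod : q ^ e % p = 1 := by
    have h : ((q ^ e : ℕ) : ZMod p) = ((1 : ℕ) : ZMod p) := by
      rw [Nat.cast_pow, Nat.cast_one]; exact pow_orderOf_eq_one _
    rw [(ZMod.natCast_eq_natCast_iff' _ _ _).1 h, Nat.mod_eq_of_lt hp.out.one_lt]
  have hle := hleast _ (hq.isPrimePow.pow (by omega)) hmod
  have : p * m ≤ n := by rw [← hn, hcard]; exact Nat.mul_le_mul_left p hle
  omega

/-- The action of the units of a field on its additive group. -/
def unitsAction (F : Type) [Field F] : Fˣ →* MulAut (Multiplicative F) where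
  toFun u := AddEquiv.toMultiplicative (DistribMulAction.toAddEquiv F u)
  map_one' := by ext x; exact one_smul Fˣ (Multiplicative.toAdd x)
  map_mul' a b := by ext x; exact mul_smul a b (Multiplicative.toAdd x)

theorem exists_affine (p : ℕ) [hp : Fact p.Prime] (m : ℕ) (hm : IsPrimePow m) (hm1 : m % p = 1) :
    ∃ (H : Type) (_ : Group H) (_ : Finite H), Nat.card H = p * m ∧ ¬ Cfsg.IsPClosed p H := by
  obtain ⟨q, e, hq, he, rfl⟩ := hm
  haveI := Fact.mk hq.nat_prime
  let F := GaloisField q e
  haveI : Finite F := Nat.finite_of_card_ne_zero (by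
    rw [GaloisField.card q e he.ne']; exact pow_ne_zero _ hq.nat_prime.pos.ne')
  obtain ⟨u, hu⟩ : ∃ u : Fˣ, orderOf u = p := by
    refine exists_prime_orderOf_dvd_card' p ?_
    rw [Nat.card_units, GaloisField.card q e he.ne']
    have h := Nat.div_add_mod (q ^ e) p
    rw [hm1] at h
    exact ⟨q ^ e / p, by omega⟩
  let U := Subgroup.zpowers u
  let φ : ↥U →* MulAut (Multiplicative F) := (unitsAction F).comp U.subtype
  let H := Multiplicative F ⋊[φ] ↥U
  haveI : Finite (Multiplicative F) := Finite.of_equiv F Multiplicative.ofAdd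
  haveI hfin : Finite H := Finite.of_equiv _ SemidirectProduct.equivProd.symm
  have hcard : Nat.card H = p * q ^ e := by
    rw [SemidirectProduct.card, Nat.card_congr Multiplicative.toAdd, GaloisField.card q e he.ne',
      Nat.card_zpowers, hu, mul_comm]
  refine ⟨H, inferInstance, hfin, hcard, fun hcl => ?_⟩
  let u' : ↥U := ⟨u, Subgroup.mem_zpowers u⟩
  let y : H := SemidirectProduct.inr u'
  let x : H := SemidirectProduct.inl (Multiplicative.ofAdd (1 : F))
  have hy : IsPGroup p (Subgroup.zpowers y) := by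
    refine IsPGroup.of_card (n := 1) ?_
    rw [Nat.card_zpowers, pow_one, orderOf_injective _ SemidirectProduct.inr_injective u', ← hu]
    exact Subgroup.orderOf_mk u _
  obtain ⟨P, hP⟩ := hy.exists_le_sylow
  haveI := hcl P
  let N : Subgroup H := (SemidirectProduct.inl : Multiplicative F →* H).range
  haveI : N.Normal := by
    show (SemidirectProduct.inl : Multiplicative F →* H).range.Normal
    rw [SemidirectProduct.range_inl_eq_ker_rightHom]
    infer_instance
  have hxy : ⁅y, x⁆ ∈ (P : Subgroup H) ⊓ N := by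
    refine ⟨?_, ?_⟩
    · have hyP := hP (Subgroup.mem_zpowers y)
      rw [commutatorElement_def, show y * x * y⁻¹ * x⁻¹ = y * (x * y⁻¹ * x⁻¹) by group]
      exact mul_mem hyP (Subgroup.Normal.conj_mem inferInstance _ (inv_mem hyP) x)
    · have hxN : x ∈ N := ⟨_, rfl⟩
      show ⁅y, x⁆ ∈ N
      rw [commutatorElement_def]
      exact N.mul_mem (Subgroup.Normal.conj_mem inferInstance _ hxN y) (N.inv_mem hxN)
  have hcop : (Nat.card (P : Subgroup H)).Coprime (Nat.card N) := by
    obtain ⟨k, hk⟩ := IsPGroup.iff_card.1 P.isPGroup'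
    have hNc : Nat.card N = q ^ e := by
      rw [← GaloisField.card q e he.ne', ← Nat.card_congr (Multiplicative.toAdd (α := F))]
      exact Nat.card_congr (MonoidHom.ofInjective SemidirectProduct.inl_injective).symm.toEquiv
    rw [hk, hNc]
    refine Nat.Coprime.pow_left _ (hp.out.coprime_iff_not_dvd.2 fun h => ?_)
    rw [Nat.mod_eq_zero_of_dvd h] at hm1 <;> exact absurd hm1 (by omega)
  rw [Subgroup.inf_eq_bot_of_coprime hcop, Subgroup.mem_bot] at hxy
  have h := commutatorElement_eq_one_iff_mul_comm.1 hxy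
  have h' := congrArg (fun z : H => Multiplicative.toAdd z.left) h
  have hu1 : ((u : F)) * 1 = 1 := by
    have e1 : (y * x).left = φ u' (Multiplicative.ofAdd (1 : F)) := by
      rw [SemidirectProduct.mul_left, SemidirectProduct.left_inr, SemidirectProduct.right_inr,
        SemidirectProduct.left_inl, one_mul]
    have e2 : (x * y).left = Multiplicative.ofAdd (1 : F) := by
      rw [SemidirectProduct.mul_left, SemidirectProduct.left_inl, SemidirectProduct.right_inl,
        SemidirectProduct.left_inr, φ.map_one, MulAut.one_apply, mul_one]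
    rw [e1, e2] at h'
    exact h'
  rw [mul_one] at hu1
  have : u = 1 := Units.ext hu1
  rw [this, orderOf_one] at hu
  exact hp.out.one_lt.ne hu

theorem exists_psl (p : ℕ) [hp : Fact p.Prime] (hp2 : p ≠ 2) :
    ∃ (H : Type) (_ : Group H) (_ : Finite H), Nat.card H = p * (p ^ 2 - 1) / 2 ∧ ¬ Cfsg.IsPClosed p H := by
  let S := Matrix.SpecialLinearGroup (Fin 2) (ZMod p)
  let H := Matrix.ProjectiveSpecialLinearGroup (Fin 2) (ZMod p)
  haveI : Finite H := Finite.of_surjective (QuotientGroup.mk' _) (QuotientGroup.mk'_surjective _)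
  have h2p : ((2 : ℕ) : ZMod p) ≠ 0 := by
    rw [Ne, ← ZMod.natCast_self p, ZMod.natCast_eq_natCast_iff']
    rw [Nat.mod_self, Nat.mod_eq_of_lt (by have := hp.out.two_le; omega)]
    norm_num
  have hc2 : Nat.card H * 2 = p * (p ^ 2 - 1) := by
    have h := Classical.Dickson.card_psl (ZMod p)
    rwa [Classical.Dickson.two_dvd_pred (by exact_mod_cast h2p), ZMod.card] at h
  refine ⟨H, inferInstance, inferInstance, by rw [← hc2, Nat.mul_div_cancel _ two_pos], fun hcl => ?_⟩
  obtain ⟨P⟩ : Nonempty (Sylow p H) := inferInstance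
  haveI := hcl P
  have hPc : Nat.card P ∣ p := by
    obtain ⟨k, hk⟩ := IsPGroup.iff_card.1 P.isPGroup'
    have h1 : p ^ k ∣ p * (p ^ 2 - 1) := hc2 ▸ hk ▸ (Subgroup.card_subgroup_dvd_card _).mul_right 2
    have hcop : Nat.Coprime (p ^ k) (p ^ 2 - 1) := by
      refine Nat.Coprime.pow_left _ (hp.out.coprime_iff_not_dvd.2 fun h => ?_)
      have h3 : p ∣ p ^ 2 := dvd_pow_self p two_ne_zero
      have := Nat.dvd_sub h3 h
      rw [Nat.sub_sub_self (Nat.one_le_pow _ _ hp.out.pos)] at this
      exact hp.out.not_dvd_one this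
    rw [hk]; exact hcop.dvd_of_dvd_mul_right h1
  have hall : ∀ g : H, g ^ p = 1 → g ∈ (P : Subgroup H) := by
    intro g hg
    have hpg : IsPGroup p (Subgroup.zpowers g) := by
      rcases (Nat.dvd_prime hp.out).1 (orderOf_dvd_of_pow_eq_one hg) with hj | hj
      · exact IsPGroup.of_card (n := 0) (by rw [Nat.card_zpowers, hj, pow_zero])
      · exact IsPGroup.of_card (n := 1) (by rw [Nat.card_zpowers, hj, pow_one])
    obtain ⟨Q, hQ⟩ := hpg.exists_le_sylow
    haveI := hcl Q
    letI := Sylow.unique_of_normal P (hcl P)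
    rw [Subsingleton.elim P Q]
    exact hQ (Subgroup.mem_zpowers g)
  let A : S := ⟨!![1, 1; 0, 1], by simp [Matrix.det_fin_two]⟩
  let B : S := ⟨!![1, 0; 1, 1], by simp [Matrix.det_fin_two]⟩
  have hA : A ^ p = 1 := by
    have key : ∀ k : ℕ, ((A ^ k : S) : Matrix (Fin 2) (Fin 2) (ZMod p)) = !![1, (k : ZMod p); 0, 1] := by
      intro k
      induction k with
      | zero => simp [Matrix.one_fin_two]
      | succ k ih =>
        rw [pow_succ, Matrix.SpecialLinearGroup.coe_mul, ih]
        simp [A, Matrix.mul_fin_two, add_comm]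
    apply Subtype.ext
    rw [key, ZMod.natCast_self]
    simp [Matrix.one_fin_two]
  have hB : B ^ p = 1 := by
    have key : ∀ k : ℕ, ((B ^ k : S) : Matrix (Fin 2) (Fin 2) (ZMod p)) = !![1, 0; (k : ZMod p), 1] := by
      intro k
      induction k with
      | zero => simp [Matrix.one_fin_two]
      | succ k ih =>
        rw [pow_succ, Matrix.SpecialLinearGroup.coe_mul, ih]
        simp [B, Matrix.mul_fin_two, add_comm]
    apply Subtype.ext
    rw [key, ZMod.natCast_self]
    simp [Matrix.one_fin_two]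
  haveI : IsCyclic (P : Subgroup H) := by
    rcases (Nat.dvd_prime hp.out).1 hPc with h | h
    · haveI : Subsingleton (P : Subgroup H) := (Nat.card_eq_one_iff_unique.1 h).1
      infer_instance
    · exact isCyclic_of_prime_card h
  letI : CommGroup (P : Subgroup H) := IsCyclic.commGroup
  have ha : (QuotientGroup.mk A : H) ∈ (P : Subgroup H) :=
    hall _ (by rw [← QuotientGroup.mk_pow, hA, QuotientGroup.mk_one])
  have hb : (QuotientGroup.mk B : H) ∈ (P : Subgroup H) :=
    hall _ (by rw [← QuotientGroup.mk_pow, hB, QuotientGroup.mk_one])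
  have hcomm : (QuotientGroup.mk (A * B) : H) = QuotientGroup.mk (B * A) :=
    congrArg Subtype.val (mul_comm (⟨_, ha⟩ : (P : Subgroup H)) ⟨_, hb⟩)
  obtain ⟨r, -, hr⟩ := Matrix.SpecialLinearGroup.mem_center_iff.1 (QuotientGroup.eq.1 hcomm)
  have hmat : ((A * B : S) : Matrix (Fin 2) (Fin 2) (ZMod p)) * Matrix.scalar (Fin 2) r =
      ((B * A : S) : Matrix (Fin 2) (Fin 2) (ZMod p)) := by
    rw [hr, ← Matrix.SpecialLinearGroup.coe_mul, mul_inv_cancel_left]
  rw [Matrix.SpecialLinearGroup.coe_mul, Matrix.SpecialLinearGroup.coe_mul] at hmat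
  have h00 := congrFun (congrFun hmat 0) 0
  have h01 := congrFun (congrFun hmat 0) 1
  simp [A, B, Matrix.mul_apply, Fin.sum_univ_two] at h00 h01
  rw [h01] at h00
  have : (1 : ZMod p) = 0 := by linear_combination h00
  exact one_ne_zero this

/-- Let p be an odd prime and let m be the least prime power congruent to 1 modulo p. Then the least order of a finite group whose Sylow p-subgroups are not normal is the smaller of p · m and p(p² − 1)/2: every finite group whose Sylow p-subgroups are not normal has at least that order, and some group of exactly that order has non-normal Sylow p-subgroups. -/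
theorem result (p : ℕ) [Fact p.Prime] (hp : p ≠ 2) (m : ℕ) (hm : IsPrimePow m) (hm1 : m % p = 1)
    (hleast : ∀ k : ℕ, IsPrimePow k → k % p = 1 → m ≤ k) :
    (∀ (H : Type) [Group H] [Finite H], ¬ Cfsg.IsPClosed p H → min (p * m) (p * (p ^ 2 - 1) / 2) ≤ Nat.card H) ∧
      ∃ (H : Type) (_ : Group H) (_ : Finite H), Nat.card H = min (p * m) (p * (p ^ 2 - 1) / 2) ∧ ¬ Cfsg.IsPClosed p H := by
  refine ⟨fun H _ _ hH => bound_aux p hp m hleast _ H rfl hH, ?_⟩
  rcases min_choice (p * m) (p * (p ^ 2 - 1) / 2) with h | h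
  · rw [h]; exact exists_affine p m hm hm1
  · rw [h]; exact exists_psl p hp

end Cfsg.Agent.S3875
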