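import Cfsg.Statements.S3878

set_option autoImplicit false
set_option linter.style.haveILetI false
open Cfsg MulAction

open scoped Pointwise commutatorElement

namespace Cfsg.Agent.S3878

universe u

theorem exists_maximal_pi {G : Type u} [Group G] [Finite G] (π : Set ℕ) (K : Subgroup G)
    (hK : Cfsg.IsPiSubgroup π K) : ∃ M, K ≤ M ∧ Maximal (Cfsg.IsPiSubgroup π) M :=
  Finite.exists_le_maximal hK

theorem epi_of_dpi {G : Type u} [Group G] [Finite G] {π : Set ℕ} (h : Cfsg.IsDPiGroup π G) :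
    Cfsg.IsEPiGroup π G := by
  obtain ⟨M, -, hM⟩ := exists_maximal_pi (G := G) π ⊥ (fun p hp hd => by
    rw [Subgroup.card_bot] at hd; exact absurd (Nat.dvd_one.1 hd) hp.ne_one)
  refine ⟨M, hM.1, fun p hp hpπ hd => ?_⟩
  haveI := Fact.mk hp
  obtain ⟨P⟩ : Nonempty (Sylow p G) := inferInstance
  obtain ⟨K, hPK, hK⟩ := exists_maximal_pi π (P : Subgroup G) (fun q hq hqd => by
    obtain ⟨k, hk⟩ := P.2.exists_card_eq
    rw [hk] at hqd
    exact (Nat.prime_dvd_prime_iff_eq hq hp).1 (hq.dvd_of_dvd_pow hqd) ▸ hpπ)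
  obtain ⟨g, rfl⟩ := h M K hM hK
  have h1 := Subgroup.card_dvd_of_le hPK
  rw [Subgroup.card_map_of_injective (MulAut.conj g).injective, P.card_eq_multiplicity] at h1
  have h2 := Nat.mul_dvd_mul h1 hd
  rw [M.card_mul_index, ← pow_succ] at h2
  exact Nat.pow_succ_factorization_not_dvd (Nat.card_pos (α := G)).ne' hp h2

theorem dpi_of_cond {π : Set ℕ}
    (h : (∀ p q : ℕ, p.Prime → q.Prime → p ∈ π → q ∈ π → p = q) ∨ ∀ p : ℕ, p.Prime → p ∈ π)
    (G : Type u) [Group G] [Finite G] : Cfsg.IsDPiGroup π G := by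
  rcases h with h | h
  · intro H K hH hK
    by_cases hex : ∃ p : ℕ, p.Prime ∧ p ∈ π
    · obtain ⟨p, hp, hpπ⟩ := hex
      haveI := Fact.mk hp
      have key : ∀ L : Subgroup G, Maximal (Cfsg.IsPiSubgroup π) L → ∃ P : Sylow p G, (P : Subgroup G) = L := by
        intro L hL
        have hLp : IsPGroup p L := IsPGroup.of_card (Nat.eq_prime_pow_of_unique_prime_dvd
          (Nat.card_pos (α := L)).ne' fun {q} hq hqd => h q p hq hp (hL.1 q hq hqd) hpπ)
        obtain ⟨P, hP⟩ := hLp.exists_le_sylow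
        refine ⟨P, le_antisymm (hL.2 (fun q hq hqd => ?_) hP) hP⟩
        obtain ⟨k, hk⟩ := P.2.exists_card_eq
        rw [hk] at hqd
        exact (Nat.prime_dvd_prime_iff_eq hq hp).1 (hq.dvd_of_dvd_pow hqd) ▸ hpπ
      obtain ⟨P, rfl⟩ := key H hH
      obtain ⟨Q, rfl⟩ := key K hK
      obtain ⟨g, hg⟩ := MulAction.exists_smul_eq G P Q
      exact ⟨g, by rw [← hg]; rfl⟩
    · push Not at hex
      have key : ∀ L : Subgroup G, Maximal (Cfsg.IsPiSubgroup π) L → L = ⊥ := fun L hL => by
        rw [← Subgroup.card_eq_one]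
        by_contra hne
        obtain ⟨q, hq, hqd⟩ := Nat.exists_prime_and_dvd hne
        exact hex q hq (hL.1 q hq hqd)
      exact ⟨1, by rw [key H hH, key K hK, Subgroup.map_bot]⟩
  · intro H K hH hK
    have key : ∀ L : Subgroup G, Maximal (Cfsg.IsPiSubgroup π) L → L = ⊤ :=
      fun L hL => top_le_iff.1 (hL.2 (fun q hq _ => h q hq) le_top)
    exact ⟨1, by rw [key H hH, key K hK, Subgroup.map_top_of_surjective _ (MulAut.conj (1 : G)).surjective]⟩

theorem dvd_descFactorial {r n : ℕ} (hr : 0 < r) : r ∣ n.descFactorial r :=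
  (Nat.dvd_factorial hr le_rfl).trans (Nat.factorial_dvd_descFactorial n r)

/-- The symmetric group of degree `q ^ a` has no Hall subgroup for a set of primes containing
`p < q` but not `r`. -/
theorem no_hall {π : Set ℕ} {p q r : ℕ} (hp : p.Prime) (hq : q.Prime) (hr : r.Prime) (hpq : p < q)
    (hpπ : p ∈ π) (hqπ : q ∈ π) (hrπ : r ∉ π) :
    ¬ ∀ (G : Type) [Group G] [Finite G], Cfsg.IsEPiGroup π G := by
  classical
  intro hall
  haveI := Fact.mk hp
  haveI := Fact.mk hq
  obtain ⟨a, ha⟩ : ∃ a, a = p + r := ⟨_, rfl⟩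
  obtain ⟨t, ht⟩ : ∃ t, t = q ^ a / p := ⟨_, rfl⟩
  obtain ⟨d, hd⟩ : ∃ d, d = q ^ a % p := ⟨_, rfl⟩
  let α := (Fin t × ZMod p) ⊕ Fin d
  have hcard : Nat.card α = q ^ a := by
    rw [Nat.card_sum, Nat.card_prod, Nat.card_fin, Nat.card_fin, Nat.card_zmod, ht, hd, mul_comm]
    exact Nat.div_add_mod (q ^ a) p
  haveI : Nonempty α := (Nat.card_pos_iff.1 (hcard ▸ pow_pos hq.pos a)).1
  obtain ⟨H, hH1, hH2⟩ := hall (Equiv.Perm α)
  -- a Sylow subgroup for a prime of `π` lies in a conjugate of `H`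
  have hSyl : ∀ (s : ℕ) [Fact s.Prime], s ∈ π → ∀ Q : Subgroup (Equiv.Perm α), IsPGroup s Q →
      ∃ g : Equiv.Perm α, ∀ z ∈ Q, g * z * g⁻¹ ∈ H := by
    intro s hs hsπ Q hQ
    obtain ⟨S, hS⟩ := hQ.exists_le_sylow
    obtain ⟨T⟩ : Nonempty (Sylow s H) := inferInstance
    have hT : IsPGroup s ((T : Subgroup H).map H.subtype) := T.2.map _
    obtain ⟨U, hU⟩ := hT.exists_le_sylow
    have hcard' : Nat.card (U : Subgroup (Equiv.Perm α)) ≤ Nat.card ((T : Subgroup H).map H.subtype) := by
      rw [Subgroup.card_subtype, U.card_eq_multiplicity, T.card_eq_multiplicity, ← H.card_mul_index,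
        Nat.factorization_mul Nat.card_pos.ne' Subgroup.index_ne_zero_of_finite, Finsupp.add_apply,
        Nat.factorization_eq_zero_of_not_dvd (hH2 s hs.out hsπ), add_zero]
    have hUH : (U : Subgroup (Equiv.Perm α)) ≤ H :=
      (Subgroup.eq_of_le_of_card_ge hU hcard').ge.trans (Subgroup.map_subtype_le _)
    obtain ⟨g, hg⟩ := MulAction.exists_smul_eq (Equiv.Perm α) S U
    refine ⟨g, fun z hz => hUH ?_⟩
    rw [← hg]
    exact ⟨z, hS hz, rfl⟩
  -- transitivity
  haveI htr : MulAction.IsPretransitive H α := by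
    obtain ⟨x₀⟩ : Nonempty α := inferInstance
    suffices horb : MulAction.orbit H x₀ = Set.univ by
      refine ⟨fun x y => ?_⟩
      obtain ⟨g, hg⟩ : x ∈ MulAction.orbit H x₀ := horb ▸ Set.mem_univ x
      obtain ⟨g', hg'⟩ : y ∈ MulAction.orbit H x₀ := horb ▸ Set.mem_univ y
      refine ⟨g' * g⁻¹, ?_⟩
      rw [← hg, ← hg', smul_smul, inv_mul_cancel_right]
    by_contra hne
    obtain ⟨Δ, hΔ⟩ : ∃ Δ : Finset α, Δ = (MulAction.orbit H x₀).toFinset := ⟨_, rfl⟩
    obtain ⟨k, hk⟩ : ∃ k, k = Δ.card := ⟨_, rfl⟩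
    let Δ' : Set.powersetCard α k := ⟨Δ, hk.symm⟩
    have hle : H ≤ MulAction.stabilizer (Equiv.Perm α) Δ' := by
      intro h hh
      rw [MulAction.mem_stabilizer_iff]
      refine Subtype.ext ?_
      show h • Δ = Δ
      ext y
      rw [← Finset.inv_smul_mem_iff, hΔ, Set.mem_toFinset, Set.mem_toFinset]
      constructor
      · rintro ⟨w, hw⟩
        refine ⟨⟨h, hh⟩ * w, ?_⟩
        dsimp only at hw ⊢
        rw [mul_smul, hw]
        exact smul_inv_smul h y
      · rintro ⟨w, rfl⟩
        exact ⟨⟨h, hh⟩⁻¹ * w, (mul_smul _ _ _)⟩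
    haveI : MulAction.IsPretransitive (Equiv.Perm α) (Set.powersetCard α k) := Set.powersetCard.isPretransitive
    have h1 := Subgroup.index_dvd_of_le hle
    rw [MulAction.index_stabilizer_of_transitive, Set.powersetCard.card, hcard] at h1
    refine hH2 q hq hqπ (dvd_trans (hq.dvd_choose_pow ?_ ?_) h1)
    · rw [hk, hΔ, Set.toFinset_card]
      haveI : Nonempty (MulAction.orbit H x₀) := ⟨⟨x₀, MulAction.mem_orbit_self x₀⟩⟩
      exact Fintype.card_pos.ne'
    · intro hk'
      refine hne (Set.eq_univ_of_forall fun y => ?_)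
      have hu : Δ = Finset.univ := Finset.eq_univ_of_card Δ (by rw [← hk, hk', ← Nat.card_eq_fintype_card, hcard])
      have := hu ▸ Finset.mem_univ y
      rwa [hΔ, Set.mem_toFinset] at this
  -- `t` commuting `p`-cycles
  let f : (Fin t → Multiplicative (ZMod p)) →* Equiv.Perm α :=
    { toFun := fun v => Equiv.sumCongr
        { toFun := fun x => (x.1, (v x.1).toAdd + x.2)
          invFun := fun x => (x.1, -(v x.1).toAdd + x.2)
          left_inv := fun x => by simp
          right_inv := fun x => by simp }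
        (Equiv.refl _)
      map_one' := by ext (x | x) <;> simp
      map_mul' := fun v w => by ext (x | x) <;> simp [add_assoc] }
  have hfp : IsPGroup p f.range := by
    refine IsPGroup.of_card_dvd_pow (n := t) (dvd_trans (Subgroup.card_range_dvd f) ?_)
    rw [Nat.card_fun, Nat.card_fin, Nat.card_eq_fintype_card, Fintype.card_multiplicative, ZMod.card]
  obtain ⟨g, hg⟩ := hSyl p hpπ f.range hfp
  obtain ⟨c, hc⟩ : ∃ c : Fin t → Equiv.Perm α,
      c = fun j => g * f (Pi.mulSingle j (Multiplicative.ofAdd 1)) * g⁻¹ := ⟨_, rfl⟩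
  have hcH : ∀ j, c j ∈ H := fun j => hc ▸ hg _ ⟨_, rfl⟩
  have hf : ∀ (v : Fin t → Multiplicative (ZMod p)) j i,
      f v (Sum.inl (j, i)) = Sum.inl (j, (v j).toAdd + i) := fun _ _ _ => rfl
  have hf' : ∀ (v : Fin t → Multiplicative (ZMod p)) x, f v (Sum.inr x) = Sum.inr x := fun _ _ => rfl
  have hcval : ∀ j i, c j (g (Sum.inl (j, i))) = g (Sum.inl (j, 1 + i)) := fun j i => by
    simp [hc, hf]
  have hcmove : ∀ j y, c j y ≠ y → ∃ i, y = g (Sum.inl (j, i)) := by
    intro j y hy
    obtain ⟨x, rfl⟩ := g.surjective y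
    rcases x with ⟨j', i⟩ | x
    · by_cases hj : j' = j
      · exact ⟨i, by rw [hj]⟩
      · exact absurd (by simp [hc, hf, hj]) hy
    · exact absurd (by simp [hc, hf']) hy
  -- primitivity
  have hprim : MulAction.IsPreprimitive H α := by
    refine ⟨fun {B} hB => ?_⟩
    by_contra hnt
    simp only [MulAction.IsTrivialBlock, not_or] at hnt
    have hBne : B.Nonempty := Set.nonempty_iff_ne_empty.2 fun h => hnt.1 (h ▸ Set.subsingleton_empty)
    have hmul := hB.ncard_block_mul_ncard_orbit_eq hBne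
    rw [hcard] at hmul
    obtain ⟨b, hb⟩ : ∃ b, b = B.ncard := ⟨_, rfl⟩
    obtain ⟨m, hm⟩ : ∃ m, m = (MulAction.orbit H B).ncard := ⟨_, rfl⟩
    rw [← hb, ← hm] at hmul
    obtain ⟨i, -, hi⟩ := (Nat.dvd_prime_pow hq).1 (Dvd.intro m hmul)
    obtain ⟨i', -, hi'⟩ := (Nat.dvd_prime_pow hq).1 (Dvd.intro_left b hmul)
    have hi1 : 1 ≤ i := by
      by_contra h
      refine hnt.1 ((Set.ncard_le_one_iff_subsingleton (s := B)).1 ?_)
      rw [← hb, hi, show i = 0 by omega, pow_zero]
    have hi'1 : 1 ≤ i' := by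
      by_contra h
      refine hnt.2 (Set.eq_univ_of_forall fun y => ?_)
      rw [hi', show i' = 0 by omega, pow_zero, mul_one] at hmul
      have : B = Set.univ := Set.eq_of_subset_of_ncard_le (Set.subset_univ _)
        (by rw [Set.ncard_univ, hcard, ← hmul, hb])
      exact this ▸ Set.mem_univ y
    have hbp : p < b := hpq.trans_le (hi ▸ Nat.le_self_pow (by omega) q)
    have hmp : p < m := hpq.trans_le (hi' ▸ Nat.le_self_pow (by omega) q)
    have hstab : ∀ (j : Fin t) (C : Set α), C ∈ MulAction.orbit H B → ∀ y ∈ C, c j y ∈ C := by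
      intro j C hC y hy
      obtain ⟨h₀, rfl⟩ := hC
      have hBl : MulAction.IsBlock H ((fun m : H => m • B) h₀) := hB.translate h₀
      obtain ⟨w, hw⟩ : ∃ w : H, w = ⟨c j, hcH j⟩ := ⟨_, rfl⟩
      by_cases heq : w • (h₀ • B) = h₀ • B
      · show c j y ∈ h₀ • B
        rw [← heq, hw]
        exact Set.smul_mem_smul_set hy
      · exfalso
        have hdis : Disjoint (w • (h₀ • B)) (h₀ • B) := by
          have := hBl (g₁ := w) (g₂ := 1) (by rwa [one_smul])
          rwa [one_smul] at this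
        have hsub : h₀ • B ⊆ Set.range fun i : ZMod p => g (Sum.inl (j, i)) := by
          intro z hz
          obtain ⟨i, hi⟩ := hcmove j z fun hfix => Set.disjoint_left.1 hdis
            (show z ∈ w • (h₀ • B) from ⟨z, hz, by rw [hw]; exact hfix⟩) hz
          exact ⟨i, hi.symm⟩
        have h1 := Set.ncard_le_ncard hsub
        rw [Set.ncard_smul_set, ← hb] at h1
        have h2 : (Set.range fun i : ZMod p => g (Sum.inl (j, i))).ncard ≤ p := by
          rw [← Nat.card_coe_set_eq]
          exact (Finite.card_range_le _).trans (le_of_eq (Nat.card_zmod p))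
        omega
    have hblock : ∀ y : α, ∃ C : MulAction.orbit H B, y ∈ (C : Set α) := by
      intro y
      obtain ⟨z, hz⟩ := hBne
      obtain ⟨h, rfl⟩ := MulAction.exists_smul_eq H z y
      exact ⟨⟨h • B, MulAction.mem_orbit _ h⟩, Set.smul_mem_smul_set hz⟩
    choose blk hblk using hblock
    haveI : Fintype (MulAction.orbit H B) := Fintype.ofFinite _
    have hfib : ∀ C : MulAction.orbit H B,
        (Finset.univ.filter fun j : Fin t => blk (g (Sum.inl (j, 0))) = C).card ≤ b / p := by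
      intro C
      rw [Nat.le_div_iff_mul_le hp.pos]
      have hmem : ∀ j, blk (g (Sum.inl (j, 0))) = C → ∀ n : ℕ, g (Sum.inl (j, (n : ZMod p))) ∈ (C : Set α) := by
        intro j hj n
        induction n with
        | zero => rw [Nat.cast_zero, ← hj]; exact hblk _
        | succ n ih =>
          rw [Nat.cast_succ, add_comm, ← hcval]
          exact hstab j C C.2 _ ih
      obtain ⟨F, hF⟩ : ∃ F, F = Finset.univ.filter fun j : Fin t => blk (g (Sum.inl (j, 0))) = C := ⟨_, rfl⟩
      rw [← hF]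
      have h1 : Nat.card (F × ZMod p) ≤ Nat.card (C : Set α) := by
        refine Nat.card_le_card_of_injective
          (fun x => (⟨g (Sum.inl (x.1, x.2)), ?_⟩ : (C : Set α))) ?_
        · have hj := (Finset.mem_filter.1 (hF.subset x.1.2)).2
          have := hmem _ hj x.2.val
          rwa [ZMod.natCast_zmod_val] at this
        · intro x y h
          have h3 : (((x.1 : Fin t), x.2) : Fin t × ZMod p) = ((y.1 : Fin t), y.2) :=
            Sum.inl_injective (g.injective (congrArg Subtype.val h :))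
          exact Prod.ext (Subtype.ext (congrArg Prod.fst h3 :)) (congrArg Prod.snd h3 :)
      rw [Nat.card_prod, Nat.card_eq_finsetCard, Nat.card_zmod] at h1
      refine h1.trans (le_of_eq ?_)
      obtain ⟨h, hh⟩ := C.2
      rw [Nat.card_coe_set_eq, ← hh, hb]
      exact Set.ncard_smul_set h B
    have htle : t ≤ m * (b / p) := by
      have h1 := Finset.card_eq_sum_card_fiberwise (f := fun j : Fin t => blk (g (Sum.inl (j, 0))))
        (s := Finset.univ) (t := Finset.univ) (fun _ _ => Finset.mem_univ _)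
      rw [Finset.card_univ, Fintype.card_fin] at h1
      rw [h1, hm, ← Nat.card_coe_set_eq, Nat.card_eq_fintype_card, ← smul_eq_mul, ← Finset.card_univ]
      exact Finset.sum_le_card_nsmul _ _ _ fun C _ => hfib C
    have hbd : 1 ≤ b % p := by
      refine Nat.one_le_iff_ne_zero.2 fun h => hpq.ne ?_
      exact (Nat.prime_dvd_prime_iff_eq hp hq).1 (hp.dvd_of_dvd_pow (hi ▸ Nat.dvd_of_mod_eq_zero h))
    have hlt : (m * (b / p) + 1) * p ≤ q ^ a := by
      rw [← hmul, add_mul, one_mul]
      calc m * (b / p) * p + p ≤ m * (b / p) * p + m * (b % p) := by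
            refine Nat.add_le_add_left (hmp.le.trans ?_) _
            exact Nat.le_mul_of_pos_right m hbd
        _ = m * (p * (b / p) + b % p) := by ring
        _ = b * m := by rw [Nat.div_add_mod, mul_comm]
    have := (Nat.le_div_iff_mul_le hp.pos).2 hlt
    omega
  -- Jordan
  have hqa : p + r ≤ q ^ a := ha ▸ (Nat.lt_pow_self hq.one_lt).le
  obtain ⟨j₀⟩ : Nonempty (Fin t) := by
    refine ⟨⟨0, ?_⟩⟩
    rw [ht]; exact Nat.div_pos (by omega) hp.pos
  have hsupp : (c j₀).support = Finset.univ.image fun i : ZMod p => g (Sum.inl (j₀, i)) := by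
    ext y
    rw [Equiv.Perm.mem_support, Finset.mem_image]
    refine ⟨fun hy => ?_, ?_⟩
    · obtain ⟨i, hi⟩ := hcmove j₀ y hy
      exact ⟨i, Finset.mem_univ i, hi.symm⟩
    · rintro ⟨i, -, rfl⟩
      rw [hcval, ne_eq, g.apply_eq_iff_eq, Sum.inl_injective.eq_iff, Prod.mk.injEq]
      simp
  have hsuppcard : (c j₀).support.card = p := by
    rw [hsupp, Finset.card_image_of_injective _ fun x y h =>
      congrArg Prod.snd (Sum.inl_injective (g.injective h)), Finset.card_univ, ZMod.card]
  have hord : orderOf (c j₀) = p := by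
    refine orderOf_eq_prime ?_ ?_
    · simp only [hc, conj_pow, ← map_pow]
      rw [← Pi.mulSingle_pow]
      have : (Multiplicative.ofAdd (1 : ZMod p)) ^ p = 1 := by
        rw [← ofAdd_nsmul, nsmul_one, ZMod.natCast_self, ofAdd_zero]
      rw [this, Pi.mulSingle_one, map_one, mul_one, mul_inv_cancel]
    · intro h1
      rw [h1] at hsuppcard
      simp at hsuppcard
      exact hp.ne_zero hsuppcard.symm
  have hcyc : (c j₀).IsCycle := Equiv.Perm.isCycle_of_prime_order (by rw [hord]; exact hp)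
    (by rw [hord, hsuppcard]; have := hp.pos; omega)
  obtain ⟨k, hk⟩ : ∃ k, q ^ a - p = k + 1 := ⟨q ^ a - p - 1, by have := hr.one_lt; omega⟩
  have hs : ((c j₀).support : Set α)ᶜ.ncard = k + 1 := by
    have := Set.ncard_add_ncard_compl ((c j₀).support : Set α)
    rw [Set.ncard_coe_finset, hsuppcard, hcard] at this
    omega
  haveI := Equiv.Perm.isPretransitive_of_isCycle_mem hcyc (hcH j₀)
  haveI : IsMultiplyPretransitive H α (k + 2) := by
    haveI := hprim.isMultiplyPreprimitive hs (by rw [hcard]; have := hp.two_le; omega)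
      (MulAction.IsPreprimitive.of_prime_card (by
        convert! hp
        rw [Nat.card_eq_fintype_card, Fintype.card_subtype]
        refine Eq.trans ?_ hsuppcard
        apply congr_arg
        ext x
        simp [SubMulAction.mem_ofFixingSubgroup_iff]))
    exact MulAction.IsMultiplyPreprimitive.isMultiplyPretransitive ..
  have hrt : IsMultiplyPretransitive H α r := MulAction.isMultiplyPretransitive_of_le (n := k + 2) (by omega)
    (by rw [hcard]; have := hp.two_le; omega)
  obtain ⟨e⟩ : Nonempty (Fin r ↪ α) := by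
    refine Function.Embedding.nonempty_of_card_le ?_
    rw [Fintype.card_fin, ← Nat.card_eq_fintype_card, hcard]; omega
  refine hrπ (hH1 r hr ?_)
  have h1 := @MulAction.index_stabilizer_of_transitive H (Fin r ↪ α) _ _ e hrt
  rw [Nat.card_eq_fintype_card, Fintype.card_embedding_eq, ← Nat.card_eq_fintype_card (α := α), hcard,
    Fintype.card_fin] at h1
  exact (dvd_descFactorial hr.pos).trans (h1 ▸ Subgroup.index_dvd_card _)

theorem cond_of_hall {π : Set ℕ} (h : ∀ (G : Type) [Group G] [Finite G], Cfsg.IsEPiGroup π G) :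
    (∀ p q : ℕ, p.Prime → q.Prime → p ∈ π → q ∈ π → p = q) ∨ ∀ p : ℕ, p.Prime → p ∈ π := by
  by_contra hcon
  push Not at hcon
  obtain ⟨⟨p, q, hp, hq, hpπ, hqπ, hne⟩, r, hr, hrπ⟩ := hcon
  rcases lt_or_gt_of_ne hne with hlt | hlt
  · exact no_hall hp hq hr hlt hpπ hqπ hrπ h
  · exact no_hall hq hp hr hlt hqπ hpπ hrπ h

/-- For a set of primes π the following are equivalent: every finite group has a Hall π-subgroup; in every finite group the maximal π-subgroups are pairwise conjugate; π contains at most one prime or contains every prime. -/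
theorem result (π : Set ℕ) :
    ((∀ (G : Type) [Group G] [Finite G], Cfsg.IsEPiGroup π G) ↔
      ((∀ p q : ℕ, p.Prime → q.Prime → p ∈ π → q ∈ π → p = q) ∨ ∀ p : ℕ, p.Prime → p ∈ π)) ∧
    ((∀ (G : Type) [Group G] [Finite G], Cfsg.IsDPiGroup π G) ↔
      ((∀ p q : ℕ, p.Prime → q.Prime → p ∈ π → q ∈ π → p = q) ∨ ∀ p : ℕ, p.Prime → p ∈ π)) := by
  refine ⟨⟨cond_of_hall, fun h G _ _ => epi_of_dpi (dpi_of_cond h G)⟩,
    ⟨fun h => cond_of_hall fun G _ _ => epi_of_dpi (h G), fun h G _ _ => dpi_of_cond h G⟩⟩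

end Cfsg.Agent.S3878
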