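import Cfsg.Statements.S3883
import Cfsg.Agent.Lib.Solv.Metacyclic

set_option autoImplicit false
set_option linter.style.haveILetI false
open Cfsg

open scoped Pointwise commutatorElement

namespace Cfsg.Agent.S3883

/-- Let p be an odd prime and G a finite metacyclic p-group (G has a cyclic normal subgroup with cyclic quotient). Suppose G is non-abelian. Then an element g of G lies outside the Frattini subgroup if and only if its centralizer C_G(g) is abelian. -/
theorem result {G : Type*} [Group G] [Finite G] {p : ℕ} [Fact p.Prime] (hp : p ≠ 2) (hG : IsPGroup p G) (hmc : Cfsg.IsMetacyclic G) (hna : ¬ IsMulCommutative G) (g : G) :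
    g ∉ frattini G ↔ IsMulCommutative ↥(Subgroup.centralizer ({g} : Set G)) := by
  obtain ⟨P⟩ := Solv.Metacyc.exists_pres hp hG hmc
  have hp' : p.Prime := Fact.out
  haveI : NeZero (p ^ P.n) := ⟨pow_ne_zero _ hp'.ne_zero⟩
  have hn : 1 ≤ P.n := by
    by_contra h
    apply hna
    have h1 := (P.abelian_iff ⊤).mpr (by
      rw [P.index_commutator, Subgroup.card_top, P.card_G, show P.n = 0 by omega])
    exact ⟨⟨fun a b => congrArg Subtype.val
      (mul_comm' (⟨a, Subgroup.mem_top a⟩ : (⊤ : Subgroup G)) ⟨b, Subgroup.mem_top b⟩)⟩⟩
  have hfr : g ∈ frattini G ↔ (Subgroup.centralizer ({g} : Set G)).index ≤ p ^ (P.n - 1) := by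
    rw [P.class_le_iff hn]
    constructor
    · intro hg
      have hdvd : p ∣ p ^ P.n := dvd_pow_self p (by omega)
      let π : ZMod (p ^ P.n) →+* ZMod p := ZMod.castHom hdvd (ZMod p)
      have hπ : ∀ x, π x = 0 → ∃ t, x = (p : ZMod (p ^ P.n)) ^ 1 * t := by
        intro x hx
        obtain ⟨x, rfl⟩ := ZMod.intCast_surjective x
        rw [map_intCast, ZMod.intCast_zmod_eq_zero_iff_dvd] at hx
        obtain ⟨t, rfl⟩ := hx
        exact ⟨(t : ZMod (p ^ P.n)), by push_cast; rw [pow_one]⟩
      have hl : ∀ x : G, π (P.lam x) = 1 := by
        intro x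
        rw [Solv.Metacyc.Pres.lam, map_add, map_one, map_mul, map_pow, map_natCast,
          ZMod.natCast_self, zero_pow (by have := P.hc; omega), zero_mul, add_zero]
      let f : G →* Multiplicative (ZMod p × ZMod p) :=
        MonoidHom.mk' (fun x => Multiplicative.ofAdd (π (P.phi x).1, π (P.phi x).2)) (by
          intro x y
          rw [← ofAdd_add, P.phi_mul]
          congr 1
          simp [hl])
      haveI : Fact (Nat.Prime (Nat.card (Multiplicative (ZMod p)))) :=
        ⟨by rw [Nat.card_congr Multiplicative.toAdd, Nat.card_zmod]; exact hp'⟩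
      have key : ∀ (F : G →* Multiplicative (ZMod p)) (g : G), g ∈ frattini G → F g = 1 := by
        intro F g hg
        by_contra hne
        have hsur : Function.Surjective F := by
          rw [← MonoidHom.range_eq_top]
          rcases (F.range).eq_bot_or_eq_top_of_prime_card with h | h
          · exfalso
            have : F g ∈ F.range := ⟨g, rfl⟩
            rw [h, Subgroup.mem_bot] at this
            exact hne this
          · exact h
        have hidx : F.ker.index = p := by
          rw [Subgroup.index_ker, MonoidHom.range_eq_top.mpr hsur, Subgroup.card_top,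
            Nat.card_congr Multiplicative.toAdd, Nat.card_zmod]
        have hco : IsCoatom F.ker := by
          refine ⟨fun h => ?_, fun K hK => ?_⟩
          · rw [h, Subgroup.index_top] at hidx
            exact hp'.one_lt.ne hidx
          · rcases hp'.eq_one_or_self_of_dvd _ (hidx ▸ Subgroup.index_dvd_of_le hK.le) with h | h
            · exact Subgroup.index_eq_one.mp h
            · exfalso
              have h1 := Subgroup.relIndex_mul_index hK.le
              rw [h, hidx] at h1
              have h2 : F.ker.relIndex K = 1 :=
                Nat.eq_of_mul_eq_mul_right hp'.pos (h1.trans (one_mul p).symm)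
              exact hK.not_ge (Subgroup.relIndex_eq_one.mp h2)
        exact hne (frattini_le_coatom hco hg)
      have e1 := key ((AddMonoidHom.fst (ZMod p) (ZMod p)).toMultiplicative.comp f) g hg
      have e2 := key ((AddMonoidHom.snd (ZMod p) (ZMod p)).toMultiplicative.comp f) g hg
      obtain ⟨t1, h1⟩ := hπ _ (congrArg Multiplicative.toAdd e1 :)
      obtain ⟨t2, h2⟩ := hπ _ (congrArg Multiplicative.toAdd e2 :)
      exact ⟨(t1, t2), Prod.ext h1 h2⟩
    · intro h
      rw [← P.pre_pow_eq hn g] at h
      refine (Subgroup.closure_le _).mpr ?_ h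
      rintro - ⟨y, rfl⟩
      have hmax : ∀ M : Subgroup G, IsCoatom M → y ^ p ^ 1 ∈ M := by
        intro M hM
        haveI : Group.IsNilpotent G := hG.isNilpotent
        haveI : M.Normal := Subgroup.NormalizerCondition.normal_of_coatom M Group.normalizerCondition_of_isNilpotent hM
        have hidx : M.index = p := by
          obtain ⟨k, hk⟩ := hG.index M
          have hne : M.index ≠ 1 := fun h => hM.1 (Subgroup.index_eq_one.mp h)
          have hdvd : p ∣ Nat.card (G ⧸ M) := by
            rw [← Subgroup.index_eq_card, hk]
            exact dvd_pow_self p (fun h0 => hne (by rw [hk, h0, pow_zero]))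
          obtain ⟨x, hx⟩ := exists_prime_orderOf_dvd_card' p hdvd
          have htop : Subgroup.zpowers x = ⊤ := by
            have h1 : (Subgroup.zpowers x).comap (QuotientGroup.mk' M) = ⊤ := by
              apply hM.2
              rw [lt_iff_le_and_ne]
              refine ⟨(QuotientGroup.ker_mk' M).ge.trans (Subgroup.ker_le_comap _ _), fun h => ?_⟩
              obtain ⟨z, rfl⟩ := QuotientGroup.mk'_surjective M x
              have hz : z ∈ M := by
                rw [h]; exact Subgroup.mem_zpowers _
              have hz1 : QuotientGroup.mk' M z = 1 := (QuotientGroup.eq_one_iff z).mpr hz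
              rw [hz1, orderOf_one] at hx
              exact hp'.one_lt.ne hx
            rw [← Subgroup.map_comap_eq_self_of_surjective (QuotientGroup.mk'_surjective M)
              (Subgroup.zpowers x), h1, Subgroup.map_top_of_surjective _
              (QuotientGroup.mk'_surjective M)]
          rw [Subgroup.index_eq_card, ← Subgroup.card_top, ← htop, Nat.card_zpowers, hx]
        rw [pow_one, ← hidx]
        exact M.pow_index_mem y
      simp only [frattini, Order.radical, Subgroup.mem_iInf, SetLike.mem_coe, Set.mem_setOf_eq]
      exact hmax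
  rw [hfr, P.abelian_iff, P.index_commutator]
  have h1 := (Subgroup.centralizer ({g} : Set G)).card_mul_index
  conv_rhs at h1 => rw [P.card_G, two_mul, pow_add, ← mul_assoc]
  have hord : addOrderOf (P.phi g) ∣ p ^ P.n := by
    apply addOrderOf_dvd_of_nsmul_eq_zero
    refine Prod.ext ?_ ?_ <;> simp only [Prod.smul_fst, Prod.smul_snd, Prod.fst_zero, Prod.snd_zero] <;>
      rw [nsmul_eq_mul, ZMod.natCast_self, zero_mul]
  obtain ⟨k, hk, hke⟩ := (Nat.dvd_prime_pow hp').mp hord
  rw [P.class_size, hke] at h1 ⊢
  rw [Nat.pow_le_pow_iff_right hp'.one_lt]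
  constructor
  · intro h
    have hkn : k = P.n := by omega
    rw [hkn] at h1
    exact (Nat.eq_of_mul_eq_mul_right (pow_pos hp'.pos _) h1).le
  · intro h hk'
    have h2 : Nat.card ↥(Subgroup.centralizer ({g} : Set G)) * p ^ k <
        Nat.card ↥(Subgroup.center G) * p ^ P.n * p ^ P.n :=
      lt_of_le_of_lt (Nat.mul_le_mul_right _ h)
        (Nat.mul_lt_mul_of_pos_left (Nat.pow_lt_pow_right hp'.one_lt (by omega))
          (Nat.mul_pos Nat.card_pos (pow_pos hp'.pos _)))
    omega

end Cfsg.Agent.S3883
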