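import Cfsg.Statements.S3886
import Cfsg.Agent.Lib.Solv.Metacyclic

set_option autoImplicit false
set_option linter.style.haveILetI false
open Cfsg

open scoped Pointwise commutatorElement

namespace Cfsg.Agent.S3886

/-- Let p be an odd prime and G a finite metacyclic p-group (G has a cyclic normal subgroup with cyclic quotient). Then the largest value of |R| · |Z(R)| over subgroups R of G is |G : G'|², and the subgroups attaining it (the centrally large subgroups) are exactly the non-abelian subgroups together with the maximal abelian subgroups of G. -/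
theorem result {G : Type*} [Group G] [Finite G] {p : ℕ} [Fact p.Prime] (hp : p ≠ 2) (hG : IsPGroup p G) (hmc : Cfsg.IsMetacyclic G) : Cfsg.maxCentralProduct G = (commutator G).index ^ 2 ∧
    ∀ R : Subgroup G, Cfsg.IsCentrallyLarge R ↔ (¬ IsMulCommutative ↥R ∨ Maximal (fun K : Subgroup G => IsMulCommutative ↥K) R) := by
  obtain ⟨P⟩ := Solv.Metacyc.exists_pres hp hG hmc
  haveI := Fintype.ofFinite G
  have hcZ : ∀ R : Subgroup G,
      Nat.card ↥(Subgroup.center ↥R) =
        Nat.card ↥(R ⊓ Subgroup.centralizer (R : Set G) : Subgroup G) := by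
    intro R
    rw [Nat.card_congr ((Subgroup.center ↥R).equivMapOfInjective R.subtype
      R.subtype_injective).toEquiv]
    congr 2
    ext x
    simp only [Subgroup.mem_map, Subgroup.mem_inf, Subgroup.mem_centralizer_iff]
    constructor
    · rintro ⟨y, hy, rfl⟩
      exact ⟨y.2, fun z hz => congrArg Subtype.val (Subgroup.mem_center_iff.mp hy ⟨z, hz⟩)⟩
    · rintro ⟨hx, hc⟩
      exact ⟨⟨x, hx⟩, Subgroup.mem_center_iff.mpr (fun z => Subtype.ext (hc z z.2)), rfl⟩
  have hab : ∀ R : Subgroup G, IsMulCommutative ↥R →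
      Nat.card ↥(Subgroup.center ↥R) = Nat.card ↥R := by
    intro R hR
    have : Subgroup.center ↥R = ⊤ := by
      rw [Subgroup.eq_top_iff']
      exact fun x => Subgroup.mem_center_iff.mpr (fun y => mul_comm' y x)
    rw [this, Subgroup.card_top]
  have hna : ∀ R : Subgroup G, ¬ IsMulCommutative ↥R →
      Nat.card ↥R * Nat.card ↥(Subgroup.center ↥R) = (commutator G).index ^ 2 := by
    intro R hR
    rw [hcZ, inf_eq_right.mpr (P.centralizer_le_of_nonabelian R hR),
      P.card_mul_card_centralizer, inf_eq_left.mpr (P.center_le_of_nonabelian R hR),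
      P.index_commutator, two_mul, pow_add]
    ring
  have hle : ∀ R : Subgroup G,
      Nat.card ↥R * Nat.card ↥(Subgroup.center ↥R) ≤ (commutator G).index ^ 2 := by
    intro R
    by_cases hR : IsMulCommutative ↥R
    · rw [hab R hR, sq]
      exact Nat.mul_le_mul ((P.abelian_iff R).mp hR) ((P.abelian_iff R).mp hR)
    · exact (hna R hR).le
  have hex : ∃ R : Subgroup G,
      Nat.card ↥R * Nat.card ↥(Subgroup.center ↥R) = (commutator G).index ^ 2 := by
    by_cases hG' : IsMulCommutative ↥(⊤ : Subgroup G)
    · refine ⟨⊤, ?_⟩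
      have h1 := (P.abelian_iff ⊤).mp hG'
      have h2 : (commutator G).index ≤ Nat.card ↥(⊤ : Subgroup G) := by
        rw [Subgroup.card_top]
        exact Nat.le_of_dvd Nat.card_pos (Subgroup.index_dvd_card _)
      rw [hab ⊤ hG', sq, le_antisymm h1 h2]
    · exact ⟨⊤, hna ⊤ hG'⟩
  have hmax : Cfsg.maxCentralProduct G = (commutator G).index ^ 2 := by
    obtain ⟨R, hR⟩ := hex
    refine IsGreatest.csSup_eq ⟨⟨R, hR⟩, ?_⟩
    rintro k ⟨R', rfl⟩
    exact hle R'
  refine ⟨hmax, fun R => ?_⟩
  rw [Cfsg.IsCentrallyLarge, hmax, P.maximal_abelian_iff]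
  constructor
  · intro h
    by_cases hR : IsMulCommutative ↥R
    · right
      rw [hab R hR, ← sq] at h
      exact Nat.pow_left_injective (by norm_num) h
    · exact Or.inl hR
  · rintro (hR | hR)
    · exact hna R hR
    · rw [hab R ((P.abelian_iff R).mpr hR.le), hR, sq]

end Cfsg.Agent.S3886
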