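import Cfsg.Statements.S3889

set_option autoImplicit false
open Cfsg

open scoped Pointwise commutatorElement

namespace Cfsg.Agent.S3889

/-- A finite abelian group that is the union of a family of proper subgroups any two of which intersect trivially is elementary abelian: its exponent is a prime. -/
theorem result {G : Type*} [CommGroup G] [Finite G] (𝓑 : Set (Subgroup G)) (hprop : ∀ B ∈ 𝓑, B ≠ ⊤)
    (hcov : ∀ g : G, ∃ B ∈ 𝓑, g ∈ B) (hdisj : ∀ B ∈ 𝓑, ∀ C ∈ 𝓑, B ≠ C → B ⊓ C = ⊥) :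
    (Monoid.exponent G).Prime := by
  have hnt : Nontrivial G := by
    by_contra h
    rw [not_nontrivial_iff_subsingleton] at h
    obtain ⟨B, hB, -⟩ := hcov 1
    exact hprop B hB (eq_top_iff.2 fun x _ => by rw [Subsingleton.elim x 1]; exact B.one_mem)
  have hkey : ∀ B ∈ 𝓑, ∀ a ∈ B, a ≠ 1 → ∀ c, c ∉ B → orderOf a = orderOf c := by
    intro B hB a ha ha1 c hc
    obtain ⟨C, hC, hcC⟩ := hcov c
    obtain ⟨D, hD, hdD⟩ := hcov (a * c)
    have hBC : B ≠ C := fun e => hc (e ▸ hcC)
    have hBD : B ≠ D := fun e => hc ((B.mul_mem_cancel_left ha).1 (e ▸ hdD))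
    have hCD : C ≠ D := fun e => by
      have h : a ∈ B ⊓ C := ⟨ha, (C.mul_mem_cancel_right hcC).1 (e ▸ hdD)⟩
      rw [hdisj B hB C hC hBC, Subgroup.mem_bot] at h
      exact ha1 h
    refine Nat.dvd_antisymm ?_ ?_
    · have h : a ^ orderOf c ∈ B ⊓ D := by
        refine ⟨B.pow_mem ha _, ?_⟩
        have := D.pow_mem hdD (orderOf c)
        rwa [mul_pow, pow_orderOf_eq_one, mul_one] at this
      rw [hdisj B hB D hD hBD, Subgroup.mem_bot] at h
      exact orderOf_dvd_of_pow_eq_one h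
    · have h : c ^ orderOf a ∈ C ⊓ D := by
        refine ⟨C.pow_mem hcC _, ?_⟩
        have := D.pow_mem hdD (orderOf a)
        rwa [mul_pow, pow_orderOf_eq_one, one_mul] at this
      rw [hdisj C hC D hD hCD, Subgroup.mem_bot] at h
      exact orderOf_dvd_of_pow_eq_one h
  obtain ⟨a, ha⟩ := exists_ne (1 : G)
  obtain ⟨B, hB, haB⟩ := hcov a
  obtain ⟨c, -, hc⟩ := SetLike.exists_of_lt (lt_top_iff_ne_top.2 (hprop B hB))
  have hc1 : c ≠ 1 := fun e => hc (e ▸ B.one_mem)
  have hall : ∀ x : G, x ≠ 1 → orderOf x = orderOf c := by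
    intro x hx
    by_cases hxB : x ∈ B
    · exact hkey B hB x hxB hx c hc
    · exact (hkey B hB a haB ha x hxB).symm.trans (hkey B hB a haB ha c hc)
  have hord : (orderOf c).Prime := by
    obtain ⟨p, hp, hpc⟩ := Nat.exists_prime_and_dvd (n := orderOf c)
      (fun h => hc1 (orderOf_eq_one_iff.1 h))
    have h1 : orderOf (c ^ (orderOf c / p)) = p :=
      orderOf_pow_orderOf_div (orderOf_pos c).ne' hpc
    have hne : c ^ (orderOf c / p) ≠ 1 := fun e => by
      rw [e, orderOf_one] at h1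
      exact hp.ne_one h1.symm
    rw [← hall _ hne, h1]
    exact hp
  have he : Monoid.exponent G = orderOf c := by
    refine Nat.dvd_antisymm (Monoid.exponent_dvd_iff_forall_pow_eq_one.2 fun x => ?_)
      (Monoid.order_dvd_exponent c)
    rcases eq_or_ne x 1 with rfl | hx
    · simp
    · rw [← hall x hx, pow_orderOf_eq_one]
  rwa [he]

end Cfsg.Agent.S3889
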