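import Cfsg.Statements.S3890
import Cfsg.Agent.Lib.Solv.NilpotentCover

set_option autoImplicit false
set_option linter.style.haveILetI false
open Cfsg

open scoped Pointwise commutatorElement

namespace Cfsg.Agent.S3890

open Cfsg.Agent.Solv.NilpotentCover

/-- A cover of a group is a finite set of proper subgroups whose union is the whole group; it is minimal when no cover has fewer members, and nilpotent when all its members are nilpotent. Let G be a finite group with trivial center admitting a nilpotent minimal cover 𝓐, and let P be an abelian Sylow p-subgroup of G that is not normal. Then either P is elementary abelian of order greater than p, or P is a Sylow p-subgroup of some member A of 𝓐, the normalizer N of P is a maximal subgroup of G, N meets each of its conjugates by elements outside N in a subgroup of order prime to p, and the centralizer of P equals A. -/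
theorem result {G : Type*} [Group G] [Finite G] (hZ : Subgroup.center G = ⊥) (𝓐 : Finset (Subgroup G))
    (h𝓐 : ((∀ A ∈ 𝓐, A ≠ ⊤) ∧ (∀ g : G, ∃ A ∈ 𝓐, g ∈ A)) ∧ (∀ 𝓑 : Finset (Subgroup G), (∀ A ∈ 𝓑, A ≠ ⊤) ∧ (∀ g : G, ∃ A ∈ 𝓑, g ∈ A) → 𝓐.card ≤ 𝓑.card) ∧ (∀ A ∈ 𝓐, Group.IsNilpotent ↥A)) {p : ℕ} [Fact p.Prime] (P : Sylow p G) (hab : IsMulCommutative ↥(P : Subgroup G))
    (hnn : ¬ (P : Subgroup G).Normal) :
    (Cfsg.IsElementaryAbelian p (P : Subgroup G) ∧ p < Nat.card ↥(P : Subgroup G)) ∨
    (∃ A ∈ 𝓐, (P : Subgroup G) ≤ A ∧ ¬ p ∣ ((P : Subgroup G).subgroupOf A).index ∧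
      IsCoatom (Subgroup.normalizer ((P : Subgroup G) : Set G)) ∧
      (∀ g : G, g ∉ Subgroup.normalizer ((P : Subgroup G) : Set G) →
        ¬ p ∣ Nat.card ↥(Subgroup.normalizer ((P : Subgroup G) : Set G) ⊓
          (Subgroup.normalizer ((P : Subgroup G) : Set G)).map (MulAut.conj g).toMonoidHom)) ∧
      Subgroup.centralizer ((P : Subgroup G) : Set G) = A) := by
  by_cases hel : Cfsg.IsElementaryAbelian p (P : Subgroup G) ∧ p < Nat.card ↥(P : Subgroup G)
  · exact Or.inl hel
  right
  have hkind : IsCyclic (P : Subgroup G) ∨ ∃ x ∈ (P : Subgroup G), x ^ p ≠ 1 := by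
    by_cases hexp : ∀ x ∈ (P : Subgroup G), x ^ p = 1
    · left
      have hle : Nat.card ↥(P : Subgroup G) ≤ p := not_lt.1 fun hlt => hel ⟨⟨hab, hexp⟩, hlt⟩
      obtain ⟨n, hn⟩ := IsPGroup.iff_card.1 P.isPGroup'
      rcases n with _ | _ | n
      · rw [pow_zero] at hn
        haveI := (Nat.card_eq_one_iff_unique.1 hn).1
        infer_instance
      · rw [pow_one] at hn
        exact isCyclic_of_prime_card hn
      · exfalso
        have h1 : p ^ 2 ≤ p := le_trans (Nat.pow_le_pow_right (Fact.out : p.Prime).pos (by omega)) (hn ▸ hle)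
        have := (Fact.out : p.Prime).two_le
        rw [pow_two] at h1
        nlinarith
    · push Not at hexp; exact Or.inr hexp
  obtain ⟨A, hA, hCA, hPA, hco, -, hTI⟩ := main h𝓐 hZ P hab hnn hkind
  refine ⟨A, hA, hPA, fun hd => P.not_dvd_index (hd.trans (Subgroup.relIndex_dvd_index_of_le hPA)), hco,
    fun g hg hd => ?_, hCA⟩
  obtain ⟨t, ht⟩ := exists_prime_orderOf_dvd_card' p hd
  obtain ⟨⟨t, htm⟩, hto⟩ : ∃ s : ↥(Subgroup.normalizer ((P : Subgroup G) : Set G) ⊓
      (Subgroup.normalizer ((P : Subgroup G) : Set G)).map (MulAut.conj g).toMonoidHom), orderOf s = p := ⟨t, ht⟩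
  obtain ⟨htN, s, hs, hst⟩ := htm
  refine hTI g hg t (by rw [← hto, ← Subgroup.orderOf_coe]) htN ?_
  rw [← hst]
  simpa [mul_assoc] using hs

end Cfsg.Agent.S3890
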