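import Cfsg.Statements.S3892
import Cfsg.Agent.Lib.Solv.NilpotentCover

set_option autoImplicit false
set_option linter.style.haveILetI false
open Cfsg

open scoped Pointwise commutatorElement

namespace Cfsg.Agent.S3892


open Cfsg.Agent.Solv Cfsg.Agent.Solv.NilpotentCover

theorem no_sq_factorial {q : ℕ} (hq : q.Prime) : ∀ n, n < 2 * q → ¬ q ^ 2 ∣ n.factorial := by
  intro n
  induction n with
  | zero =>
    intro _ hd
    rw [Nat.factorial_zero, Nat.dvd_one] at hd
    exact absurd (Nat.pow_eq_one.1 hd) (by simp [hq.ne_one])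
  | succ n ih =>
    intro hn hd
    rw [Nat.factorial_succ] at hd
    by_cases h : q ∣ n + 1
    · obtain ⟨k, hk⟩ := h
      have hk1 : k = 1 := by
        rcases k with _ | _ | k
        · simp at hk
        · rfl
        · exfalso
          rw [hk] at hn
          have := Nat.le_mul_of_pos_right q (show 0 < k + 1 + 1 by omega)
          nlinarith
      subst hk1
      rw [mul_one] at hk
      rw [hk, pow_two] at hd
      have h2 := Nat.dvd_of_mul_dvd_mul_left hq.pos hd
      rw [hq.dvd_factorial] at h2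
      omega
    · exact ih (by omega) ((Nat.Coprime.pow_left 2 ((hq.coprime_iff_not_dvd).2 h)).dvd_of_dvd_mul_left hd)

theorem perm_center (n : ℕ) (hn : 3 ≤ n) : Subgroup.center (Equiv.Perm (Fin n)) = ⊥ := by
  rw [eq_bot_iff]
  intro z hz
  rw [Subgroup.mem_bot]
  ext a
  by_contra hne
  obtain ⟨c, hca, hcb⟩ : ∃ c : Fin n, c ≠ a ∧ c ≠ z a := by
    by_contra hno
    push Not at hno
    have hsub : (Finset.univ : Finset (Fin n)) ⊆ {a, z a} := fun c _ => by
      by_cases h : c = a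
      · simp [h]
      · simp [hno c h]
    have := (Finset.card_le_card hsub).trans Finset.card_le_two
    rw [Finset.card_univ, Fintype.card_fin] at this
    omega
  have h1 := congrArg (fun f : Equiv.Perm (Fin n) => f a) (Subgroup.mem_center_iff.1 hz (Equiv.swap (z a) c))
  have hza : z a ≠ a := fun e => hne (by rw [e]; rfl)
  simp only [Equiv.Perm.mul_apply, Equiv.swap_apply_left, Equiv.swap_apply_of_ne_of_ne hza.symm hca.symm] at h1
  exact hcb h1

/-- the obstruction -/
theorem obstruction {G : Type*} [Group G] [Finite G] (hZ : Subgroup.center G = ⊥) (σ : G) (q : ℕ) (hq : q.Prime)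
    (hσ : orderOf σ = q) (hq2 : ¬ q ^ 2 ∣ Nat.card G) (M : Subgroup G) (hM : M ≠ ⊤)
    (hC : ∀ g : G, g * σ = σ * g → g ∈ M) (τ : G) (hτM : τ ∈ M) (hτ : τ * σ * τ⁻¹ ∉ Subgroup.zpowers σ) :
    ¬ ∃ 𝓐 : Finset (Subgroup G), IsCover 𝓐 := by
  rintro ⟨𝓐, h⟩
  haveI := Fact.mk hq
  obtain ⟨P, hP⟩ := (IsPGroup.of_card (p := q) (n := 1)
    (by rw [Nat.card_zpowers, hσ, pow_one]) : IsPGroup q (Subgroup.zpowers σ)).exists_le_sylow
  obtain ⟨m, hm⟩ := IsPGroup.iff_card.1 P.isPGroup'
  have hm1 : m ≤ 1 := by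
    by_contra hgt
    exact hq2 (((Nat.pow_dvd_pow q (show 2 ≤ m by omega)).trans (dvd_of_eq hm.symm)).trans
      (Subgroup.card_subgroup_dvd_card _))
  have hPz : (P : Subgroup G) = Subgroup.zpowers σ := by
    refine (Subgroup.eq_of_le_of_card_ge hP ?_).symm
    rw [hm, Nat.card_zpowers, hσ]
    exact (Nat.pow_le_pow_right hq.pos hm1).trans_eq (pow_one q)
  have hcyc : IsCyclic (P : Subgroup G) :=
    isCyclic_of_prime_card (p := q) (by rw [hPz, Nat.card_zpowers, hσ])
  have hab : IsMulCommutative (P : Subgroup G) :=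
    ⟨⟨fun a b => (IsCyclic.commGroup (α := (P : Subgroup G))).mul_comm a b⟩⟩
  have hσP : σ ∈ (P : Subgroup G) := hP (Subgroup.mem_zpowers σ)
  have hτN : τ ∉ Subgroup.normalizer ((P : Subgroup G) : Set G) := fun h' =>
    hτ (hPz ▸ (Subgroup.mem_normalizer_iff.1 h' σ).1 hσP)
  have hnn : ¬ (P : Subgroup G).Normal := fun hn => hτN (by
    rw [Subgroup.normalizer_eq_top_iff.2 hn]; exact Subgroup.mem_top τ)
  obtain ⟨A, -, hCA, -, -, huniq, -⟩ := main h hZ P hab hnn (Or.inl hcyc)
  have hAM : A ≤ M := fun g hg => hC g (by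
    rw [← hCA, Subgroup.mem_centralizer_iff] at hg
    exact (hg σ hσP).symm)
  obtain ⟨M', hM', hMM'⟩ := (eq_top_or_exists_le_coatom M).resolve_left hM
  rw [huniq M' hM' (hAM.trans hMM')] at hMM'
  exact hτN (hMM' hτM)

/-- permutations preserving the first `q` points -/
def block (n q : ℕ) : Subgroup (Equiv.Perm (Fin n)) where
  carrier := {g | ∀ i, (g i : ℕ) < q ↔ (i : ℕ) < q}
  mul_mem' {a b} ha hb i := by
    rw [Equiv.Perm.mul_apply]; exact (ha (b i)).trans (hb i)
  one_mem' i := Iff.rfl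
  inv_mem' {a} ha i := by
    conv_rhs => rw [show i = a (a⁻¹ i) by simp]
    exact (ha _).symm

theorem hnormal_free {q : ℕ} (h5 : 5 ≤ q) (r : alternatingGroup (Fin q)) (hr : r ≠ 1) (hq : q.Prime) :
    ∃ x : alternatingGroup (Fin q), x * r * x⁻¹ ∉ Subgroup.zpowers r := by
  haveI := alternatingGroup.isSimpleGroup (α := Fin q) (by rw [Nat.card_fin]; exact h5)
  by_contra hno
  push Not at hno
  have hn' : (Subgroup.zpowers r).Normal := ⟨fun y hy x => by
    obtain ⟨k, rfl⟩ := Subgroup.mem_zpowers_iff.1 hy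
    rw [← conj_zpow]; exact zpow_mem (hno x) k⟩
  rcases hn'.eq_bot_or_eq_top with h | h
  · exact hr (Subgroup.zpowers_eq_bot.1 h)
  · have hc : Subgroup.center (alternatingGroup (Fin q)) = ⊤ := eq_top_iff.2 fun y _ =>
      Subgroup.mem_center_iff.2 fun z => by
        obtain ⟨a, rfl⟩ := Subgroup.mem_zpowers_iff.1 (h.ge (Subgroup.mem_top y))
        obtain ⟨b, rfl⟩ := Subgroup.mem_zpowers_iff.1 (h.ge (Subgroup.mem_top z))
        exact ((Commute.refl r).zpow_zpow b a).eq
    rw [alternatingGroup.center_eq_bot (by rw [Nat.card_fin]; omega)] at hc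
    exact absurd hc bot_ne_top

theorem big {G : Type*} [Group G] [Finite G] (n : ℕ) (hn : 6 ≤ n) (hZ : Subgroup.center G = ⊥)
    (ι : G →* Equiv.Perm (Fin n)) (hι : Function.Injective ι) (hA : alternatingGroup (Fin n) ≤ ι.range) :
    ¬ ∃ 𝓐 : Finset (Subgroup G), IsCover 𝓐 := by
  obtain ⟨q, hq, h5, hqn, hn2⟩ : ∃ q : ℕ, q.Prime ∧ 5 ≤ q ∧ q < n ∧ n < 2 * q := by
    obtain ⟨q, hq, h1, h2⟩ := Nat.exists_prime_lt_and_le_two_mul (n / 2) (by omega)
    refine ⟨q, hq, ?_, ?_, by omega⟩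
    · by_contra hlt
      have : q = 4 := by omega
      rw [this] at hq; norm_num at hq
    · rcases lt_or_eq_of_le h2 with h | h
      · omega
      · exfalso
        have : 2 ∣ q := h ▸ dvd_mul_right 2 _
        rcases hq.eq_one_or_self_of_dvd 2 this with h' | h' <;> omega
  have hodd : Odd q := hq.odd_of_ne_two (by omega)
  set e : Fin q ↪ Fin n := Fin.castLEEmb hqn.le with he
  set V := Equiv.Perm.viaEmbeddingHom e with hV
  have hVa : ∀ (x : Equiv.Perm (Fin q)) (j : Fin q), V x (e j) = e (x j) := fun x j =>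
    Equiv.Perm.viaEmbedding_apply x e j
  have hrange : ∀ i : Fin n, (i : ℕ) < q ↔ i ∈ Set.range e := fun i =>
    ⟨fun h => ⟨⟨i, h⟩, Fin.ext rfl⟩, by rintro ⟨j, rfl⟩; exact j.2⟩
  have hVo : ∀ (x : Equiv.Perm (Fin q)) (i : Fin n), ¬ (i : ℕ) < q → V x i = i := fun x i hi =>
    Equiv.Perm.viaEmbedding_apply_of_notMem x e i fun h => hi ((hrange i).2 h)
  have hVblock : ∀ x, V x ∈ block n q := by
    intro x i
    by_cases hi : (i : ℕ) < q
    · obtain ⟨j, rfl⟩ := (hrange i).1 hi
      rw [hVa]; exact iff_of_true (x j).2 j.2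
    · rw [hVo x i hi]
  have hVinj : Function.Injective V := fun x y h => Equiv.ext fun j => e.injective (by
    rw [← hVa, ← hVa, h])
  have hVsign : ∀ x : alternatingGroup (Fin q), V x.1 ∈ ι.range := by
    intro x
    apply hA
    rw [Equiv.Perm.mem_alternatingGroup, hV, Equiv.Perm.viaEmbeddingHom_apply, Equiv.Perm.viaEmbedding,
      Equiv.Perm.sign_extendDomain]
    exact Equiv.Perm.mem_alternatingGroup.1 x.2
  set r : alternatingGroup (Fin q) := ⟨finRotate q, by
    rw [Equiv.Perm.mem_alternatingGroup, sign_finRotate]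
    obtain ⟨k, hk⟩ := hodd
    rw [hk, Nat.add_sub_cancel, pow_mul]; simp⟩ with hr
  obtain ⟨σ, hσ⟩ := hVsign r
  have hne : finRotate q ≠ 1 := by
    intro h
    have h0 := congrArg (fun f : Equiv.Perm (Fin q) => ((f ⟨0, hq.pos⟩ : Fin q) : ℕ)) h
    obtain ⟨k, rfl⟩ : ∃ k, q = k + 1 := ⟨q - 1, by omega⟩
    simp [finRotate_succ_apply, Fin.val_add] at h0
    omega
  have hrot : ∀ j : Fin q, finRotate q j ≠ j := by
    obtain ⟨k, rfl⟩ : ∃ k, q = k + 2 := ⟨q - 2, by omega⟩
    intro j h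
    have hm : j ∈ (finRotate (k + 2)).support := by rw [support_finRotate]; exact Finset.mem_univ j
    exact Equiv.Perm.mem_support.1 hm h
  have hord : orderOf σ = q := by
    rw [← orderOf_injective ι hι, hσ, orderOf_injective V hVinj]
    obtain ⟨k, rfl⟩ : ∃ k, q = k + 2 := ⟨q - 2, by omega⟩
    show orderOf (finRotate (k + 2)) = k + 2
    rw [(isCycle_finRotate).orderOf, support_finRotate, Finset.card_univ, Fintype.card_fin]
  have hfix : ∀ i : Fin n, ι σ i = i ↔ ¬ (i : ℕ) < q := by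
    intro i
    rw [hσ]
    constructor
    · intro h hi
      obtain ⟨j, rfl⟩ := (hrange i).1 hi
      rw [hVa] at h
      exact hrot j (e.injective h)
    · exact hVo _ i
  haveI := alternatingGroup.isSimpleGroup (α := Fin q) (by rw [Nat.card_fin]; exact h5)
  obtain ⟨x, hx⟩ := hnormal_free h5 r (fun h => hne (congrArg Subtype.val h)) hq
  obtain ⟨τ, hτ⟩ := hVsign x
  refine obstruction hZ σ q hq hord ?_ ((block n q).comap ι) ?_ ?_ τ ?_ ?_
  · intro hd
    apply no_sq_factorial hq n hn2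
    refine hd.trans ?_
    rw [Nat.card_congr (MonoidHom.ofInjective hι).toEquiv]
    exact (Subgroup.card_subgroup_dvd_card _).trans (by rw [Nat.card_perm, Nat.card_fin])
  · intro htop
    set a : Fin n := ⟨0, by omega⟩
    set b : Fin n := ⟨q, hqn⟩
    set c : Fin n := ⟨1, by omega⟩
    set d : Fin n := ⟨2, by omega⟩
    have hsig : Equiv.swap a b * Equiv.swap c d ∈ alternatingGroup (Fin n) := by
      rw [Equiv.Perm.mem_alternatingGroup, map_mul, Equiv.Perm.sign_swap (by simp [a, b]; omega),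
        Equiv.Perm.sign_swap (by simp [c, d])]
      rfl
    obtain ⟨g, hg⟩ := hA hsig
    have hm : ι g ∈ block n q := htop.ge (Subgroup.mem_top g)
    have h1 := (hm a).2 (show (a : ℕ) < q by simp [a]; omega)
    rw [hg, Equiv.Perm.mul_apply, Equiv.swap_apply_of_ne_of_ne (show a ≠ c by simp [a, c]) (show a ≠ d by simp [a, d]),
      Equiv.swap_apply_left] at h1
    simp [b] at h1
  · intro g hg i
    have hc : ι g * ι σ = ι σ * ι g := by rw [← map_mul, hg, map_mul]
    have h1 := congrArg (fun f : Equiv.Perm (Fin n) => f i) hc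
    simp only [Equiv.Perm.mul_apply] at h1
    constructor
    · intro h2
      by_contra h3
      exact ((hfix _).1 (by rw [← h1, (hfix i).2 h3])) h2
    · intro h2
      by_contra h3
      refine ((hfix i).1 ((ι g).injective ?_)) h2
      rw [h1, (hfix _).2 h3]
  · show ι τ ∈ block n q
    rw [hτ]; exact hVblock _
  · intro h
    obtain ⟨k, hk⟩ := Subgroup.mem_zpowers_iff.1 h
    apply hx
    refine Subgroup.mem_zpowers_iff.2 ⟨k, Subtype.ext (hVinj ?_)⟩
    rw [SubgroupClass.coe_zpow, map_zpow, ← hσ, ← map_zpow, hk, Subgroup.coe_mul, Subgroup.coe_mul,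
      InvMemClass.coe_inv, map_mul, map_mul, map_mul, map_mul, map_inv, map_inv, hσ, hτ]

theorem small_perm (n : ℕ) (hn : 3 ≤ n) (σ : Equiv.Perm (Fin n)) (q : ℕ) (hq : q.Prime) (h1 : σ ^ q = 1)
    (h2 : σ ≠ 1) (h3 : ¬ q ^ 2 ∣ n.factorial)
    (h4 : ∀ g : Equiv.Perm (Fin n), g * σ = σ * g → Equiv.Perm.sign g = 1) (τ : Equiv.Perm (Fin n))
    (h5 : Equiv.Perm.sign τ = 1) (h6 : ∀ i ∈ Finset.range q, σ ^ i ≠ τ * σ * τ⁻¹) :
    ¬ ∃ 𝓐 : Finset (Subgroup (Equiv.Perm (Fin n))), IsCover 𝓐 := by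
  haveI := Fact.mk hq
  refine obstruction (perm_center n hn) σ q hq (orderOf_eq_prime h1 h2) (by rwa [Nat.card_perm, Nat.card_fin])
    (alternatingGroup (Fin n)) ?_ (fun g hg => Equiv.Perm.mem_alternatingGroup.2 (h4 g hg)) τ
    (Equiv.Perm.mem_alternatingGroup.2 h5) fun h => ?_
  · intro htop
    have := Equiv.Perm.mem_alternatingGroup.1 (htop.ge (Subgroup.mem_top
      (Equiv.swap (⟨0, by omega⟩ : Fin n) ⟨1, by omega⟩)))
    rw [Equiv.Perm.sign_swap (by simp)] at this
    exact absurd this (by decide)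
  · classical
    rw [mem_zpowers_iff_mem_range_orderOf, orderOf_eq_prime h1 h2] at h
    simp only [Finset.mem_image] at h
    obtain ⟨i, hi, he⟩ := h
    exact h6 i hi he

theorem small_a5 : ¬ ∃ 𝓐 : Finset (Subgroup (alternatingGroup (Fin 5))), IsCover 𝓐 := by
  haveI := Fact.mk Nat.prime_three
  set s : Equiv.Perm (Fin 5) := Equiv.swap 0 1 * Equiv.swap 1 2 with hs
  set t : Equiv.Perm (Fin 5) := Equiv.swap 0 1 * Equiv.swap 2 4 with ht
  set σ : alternatingGroup (Fin 5) := ⟨s, Equiv.Perm.mem_alternatingGroup.2 (by decide +kernel)⟩ with hσ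
  have ho : orderOf σ = 3 := by
    rw [← Subgroup.orderOf_coe]
    exact orderOf_eq_prime (by decide +kernel) (by decide +kernel)
  refine obstruction (alternatingGroup.center_eq_bot (by simp)) σ 3 Nat.prime_three ho
    (by rw [nat_card_alternatingGroup, Nat.card_fin]; decide)
    ((MulAction.stabilizer (Equiv.Perm (Fin 5)) (3 : Fin 5)).subgroupOf _) ?_ ?_
    ⟨t, Equiv.Perm.mem_alternatingGroup.2 (by decide +kernel)⟩ ?_ ?_
  · intro htop
    have h := htop.ge (Subgroup.mem_top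
      (⟨Equiv.swap 0 3 * Equiv.swap 1 2, Equiv.Perm.mem_alternatingGroup.2 (by decide +kernel)⟩ : alternatingGroup (Fin 5)))
    rw [Subgroup.mem_subgroupOf, MulAction.mem_stabilizer_iff, Equiv.Perm.smul_def] at h
    exact absurd h (by decide +kernel)
  · intro g hg
    rw [Subgroup.mem_subgroupOf, MulAction.mem_stabilizer_iff, Equiv.Perm.smul_def]
    have key : ∀ x : Equiv.Perm (Fin 5), x * s = s * x → Equiv.Perm.sign x = 1 → x 3 = 3 := by decide +kernel
    exact key g (congrArg Subtype.val hg) (Equiv.Perm.mem_alternatingGroup.1 g.2)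
  · rw [Subgroup.mem_subgroupOf, MulAction.mem_stabilizer_iff, Equiv.Perm.smul_def]
    decide +kernel
  · intro h
    classical
    rw [mem_zpowers_iff_mem_range_orderOf, ho] at h
    simp only [Finset.mem_image] at h
    obtain ⟨i, hi, he⟩ := h
    have key : ∀ i ∈ Finset.range 3, s ^ i ≠ t * s * t⁻¹ := by decide +kernel
    exact key i hi (congrArg Subtype.val he)

/-- A cover of a group is a finite set of proper subgroups whose union is the whole group; it is minimal when no cover has fewer members, and nilpotent when all its members are nilpotent. The alternating groups of degree at least 5 and the symmetric groups of degree at least 4 have no nilpotent minimal cover. -/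
theorem result (n : ℕ) :
    (5 ≤ n → ¬ ∃ 𝓐 : Finset (Subgroup ↥(alternatingGroup (Fin n))), ((∀ A ∈ 𝓐, A ≠ ⊤) ∧ (∀ g : ↥(alternatingGroup (Fin n)), ∃ A ∈ 𝓐, g ∈ A)) ∧ (∀ 𝓑 : Finset (Subgroup ↥(alternatingGroup (Fin n))), (∀ A ∈ 𝓑, A ≠ ⊤) ∧ (∀ g : ↥(alternatingGroup (Fin n)), ∃ A ∈ 𝓑, g ∈ A) → 𝓐.card ≤ 𝓑.card) ∧ (∀ A ∈ 𝓐, Group.IsNilpotent ↥A)) ∧
    (4 ≤ n → ¬ ∃ 𝓐 : Finset (Subgroup (Equiv.Perm (Fin n))), ((∀ A ∈ 𝓐, A ≠ ⊤) ∧ (∀ g : (Equiv.Perm (Fin n)), ∃ A ∈ 𝓐, g ∈ A)) ∧ (∀ 𝓑 : Finset (Subgroup (Equiv.Perm (Fin n))), (∀ A ∈ 𝓑, A ≠ ⊤) ∧ (∀ g : (Equiv.Perm (Fin n)), ∃ A ∈ 𝓑, g ∈ A) → 𝓐.card ≤ 𝓑.card) ∧ (∀ A ∈ 𝓐, Group.IsNilpotent ↥A)) := by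
  refine ⟨fun hn => ?_, fun hn => ?_⟩
  · rcases lt_or_ge n 6 with h6 | h6
    · obtain rfl : n = 5 := by omega
      exact small_a5
    · exact big n h6 (alternatingGroup.center_eq_bot (by rw [Nat.card_fin]; omega))
        (alternatingGroup (Fin n)).subtype (Subgroup.subtype_injective _) (by rw [Subgroup.range_subtype])
  · rcases lt_or_ge n 6 with h6 | h6
    · obtain rfl | rfl : n = 4 ∨ n = 5 := by omega
      · exact small_perm 4 (by omega) (Equiv.swap 0 1 * Equiv.swap 1 2) 3 Nat.prime_three (by decide +kernel)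
          (by decide +kernel) (by decide +kernel) (by decide +kernel) (Equiv.swap 0 1 * Equiv.swap 2 3)
          (by decide +kernel) (by decide +kernel)
      · exact small_perm 5 (by omega) (finRotate 5) 5 (by norm_num) (by decide +kernel)
          (by decide +kernel) (by decide +kernel) (by decide +kernel) (Equiv.swap 0 1 * Equiv.swap 2 3)
          (by decide +kernel) (by decide +kernel)
    · exact big n h6 (perm_center n (by omega)) (MonoidHom.id _) Function.injective_id
        (fun x _ => ⟨x, rfl⟩)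

end Cfsg.Agent.S3892
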