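import Cfsg.Statements.S3893
import Cfsg.Agent.Lib.Solv.NilpotentCover
import Cfsg.Agent.Lib.Lie.SuzukiTori
import Cfsg.Agent.Lib.Lie.SuzukiSp4

set_option autoImplicit false
open Cfsg

namespace Cfsg.Agent.S3893

open Cfsg.Agent.Lie.Suzuki Cfsg.Agent.Solv MulAction

theorem transport {G H : Type*} [Group G] [Group H] (e : G ≃* H) {𝓐 : Finset (Subgroup H)}
    (h : NilpotentCover.IsCover 𝓐) : ∃ 𝓑 : Finset (Subgroup G), NilpotentCover.IsCover 𝓑 := by
  classical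
  refine ⟨𝓐.image fun A => A.comap e.toMonoidHom, ⟨fun B hB => ?_, fun g => ?_⟩, fun 𝓒 h𝓒 => ?_, fun B hB => ?_⟩
  · obtain ⟨A, hA, rfl⟩ := Finset.mem_image.1 hB
    intro hB
    refine h.1.1 A hA (Subgroup.comap_injective (f := e.toMonoidHom) e.surjective ?_)
    rw [hB, Subgroup.comap_top]
  · obtain ⟨A, hA, hg⟩ := h.1.2 (e g)
    exact ⟨_, Finset.mem_image_of_mem _ hA, hg⟩
  · refine Finset.card_image_le.trans ((h.2.1 (𝓒.image fun B => B.map e.toMonoidHom) ⟨fun A hA => ?_, fun x => ?_⟩).trans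
      Finset.card_image_le)
    · obtain ⟨B, hB, rfl⟩ := Finset.mem_image.1 hA
      intro hA
      refine h𝓒.1 B hB (Subgroup.map_injective (f := e.toMonoidHom) e.injective ?_)
      rw [hA, Subgroup.map_top_of_surjective _ e.surjective]
    · obtain ⟨B, hB, hx⟩ := h𝓒.2 (e.symm x)
      exact ⟨_, Finset.mem_image_of_mem _ hB, e.symm x, hx, e.apply_symm_apply x⟩
  · obtain ⟨A, hA, rfl⟩ := Finset.mem_image.1 hB
    haveI := h.2.2 A hA
    exact Group.nilpotent_of_mulEquiv (MulEquiv.subgroupMap e.symm A |>.trans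
      (MulEquiv.subgroupCongr (Subgroup.comap_equiv_eq_map_symm e A).symm))

theorem no_cover {F : Type*} [Field F] [Fintype F] (m : ℕ) (hm : 1 ≤ m) (hF : Fintype.card F = 2 ^ (2 * m + 1))
    (𝓐 : Finset (Subgroup (Cfsg.Sz F m))) (h : NilpotentCover.IsCover 𝓐) : False := by
  classical
  haveI := sz_simple (m := m) hF hm
  have hq8 := (q_facts hF hm).1
  -- an odd prime dividing q − 1
  obtain ⟨p, hp, hpd⟩ := Nat.exists_prime_and_dvd (show Fintype.card Fˣ ≠ 1 by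
    rw [Fintype.card_units]; omega)
  haveI := Fact.mk hp
  have hp2 : p ≠ 2 := by
    rintro rfl
    rw [Fintype.card_units, hF, pow_succ] at hpd
    have h1 : 1 ≤ 2 ^ (2 * m) := Nat.one_le_two_pow
    omega
  obtain ⟨k, hk⟩ := exists_prime_orderOf_dvd_card p hpd
  have hk1 : k ≠ 1 := fun e => by rw [e, orderOf_one] at hk; exact hp.ne_one hk.symm
  have hdinj : Function.Injective (dS (m := m) hF) := fun a b hab => dM_injective (congrArg Subtype.val hab)
  obtain ⟨x, hx⟩ : ∃ x, x = dS (m := m) hF k := ⟨_, rfl⟩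
  have hxo : orderOf x = p := by rw [hx, orderOf_injective _ hdinj, hk]
  have hx1 : x ≠ 1 := fun e => hp.ne_one (by rw [← hxo, e, orderOf_one])
  obtain ⟨P, hP⟩ := (IsPGroup.of_card (p := p) (n := 1) (G := Subgroup.zpowers x)
    (by rw [Nat.card_zpowers, hxo, pow_one])).exists_le_sylow
  have hxP : x ∈ (P : Subgroup (Cfsg.Sz F m)) := hP (Subgroup.mem_zpowers x)
  have hPb : (P : Subgroup (Cfsg.Sz F m)) ≠ ⊥ := fun e => hx1 (Subgroup.mem_bot.1 (e ▸ hxP))
  have hcyc := sylow_cyclic hF hm hp2 P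
  have hab : IsMulCommutative (P : Subgroup (Cfsg.Sz F m)) := IsCyclic.isMulCommutative
  have hne : ∃ a b : Cfsg.Sz F m, a * b ≠ b * a := by
    refine ⟨tS hF 1 0, dS hF k, fun e => hk1 ?_⟩
    rw [dS_mul_tS hF hm, mul_one] at e
    have e' := congrArg (fun g => g • pt m (0 : F) 0) (congrArg Subtype.val e)
    simp only [Subgroup.coe_mul, mul_smul] at e'
    change tM m 1 0 • dM m k • pt m (0 : F) 0 = tM m (k : F) _ • dM m k • pt m (0 : F) 0 at e'
    simp only [dM_pt hF, mul_zero, tM_pt_zero hF] at e'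
    exact (Units.ext (pt_inj e').1).symm
  have hZ : Subgroup.center (Cfsg.Sz F m) = ⊥ := by
    refine ((Subgroup.Normal.eq_bot_or_eq_top (inferInstance : (Subgroup.center (Cfsg.Sz F m)).Normal))).resolve_right ?_
    intro e
    obtain ⟨a, b, hab⟩ := hne
    exact hab (Subgroup.mem_center_iff.1 (e.ge (Subgroup.mem_top b)) a)
  have hnn : ¬ (P : Subgroup (Cfsg.Sz F m)).Normal := fun hn => by
    rcases hn.eq_bot_or_eq_top with e | e
    · exact hPb e
    · obtain ⟨a, b, hab'⟩ := hne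
      exact hab' (congrArg Subtype.val
        (hab.is_comm.comm (⟨a, e.ge (Subgroup.mem_top a)⟩ : (P : Subgroup _)) ⟨b, e.ge (Subgroup.mem_top b)⟩))
  obtain ⟨A, -, hCA, -, -, huniq, -⟩ := NilpotentCover.main h hZ P hab hnn (Or.inl hcyc)
  set M := stabilizer (Cfsg.Sz F m) (Cfsg.suzukiPointInfinity F) with hM
  have hwM : wS (m := m) hF ∉ M := fun e => by
    have e' : wM F • Cfsg.suzukiPointInfinity F = Cfsg.suzukiPointInfinity F := mem_stabilizer_iff.1 e
    rw [wM_inf (m := m)] at e'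
    exact pt_ne_inf 0 0 e'
  have hxinf : x • Cfsg.suzukiPointInfinity F = Cfsg.suzukiPointInfinity F := by
    rw [hx]; exact dM_inf k
  have hfix : ∀ r : Cfsg.suzukiOvoid F m, x • r = r →
      r = ⟨_, inf_mem⟩ ∨ r = ⟨_, pt_mem (0 : F) 0⟩ := by
    intro r hr
    by_contra hcon
    push Not at hcon
    have h0 : x • (⟨_, pt_mem (0 : F) 0⟩ : Cfsg.suzukiOvoid F m) = ⟨_, pt_mem (0 : F) 0⟩ := by
      refine Subtype.ext ?_
      rw [hx]
      show dM m k • pt m (0 : F) 0 = pt m 0 0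
      simp only [dM_pt hF, mul_zero]
    have hsub : ({r, ⟨_, inf_mem⟩, ⟨_, pt_mem (0 : F) 0⟩} : Set (Cfsg.suzukiOvoid F m)) ⊆
        fixedBy (Cfsg.suzukiOvoid F m) x := by
      rintro y (rfl | rfl | rfl)
      · exact hr
      · exact Subtype.ext hxinf
      · exact h0
    have h3 := Set.ncard_le_ncard hsub (Set.toFinite _)
    have h4 := fixedBy_card_le hF hm x hx1
    rw [Set.ncard_insert_of_notMem (by rintro (e | e); exacts [hcon.1 e, hcon.2 e]),
      Set.ncard_pair (fun e => pt_ne_inf (0 : F) 0 (congrArg Subtype.val e).symm)] at h3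
    omega
  have hAM : A ≤ M := by
    rw [← hCA]
    intro g hg
    have hc : x * g = g * x := Subgroup.mem_centralizer_iff.1 hg x hxP
    have hgfix : x • (g • (⟨_, inf_mem⟩ : Cfsg.suzukiOvoid F m)) = g • (⟨_, inf_mem⟩ : Cfsg.suzukiOvoid F m) := by
      rw [← mul_smul, hc, mul_smul, show x • (⟨_, inf_mem⟩ : Cfsg.suzukiOvoid F m) = ⟨_, inf_mem⟩ from Subtype.ext hxinf]
    rcases hfix _ hgfix with e | e
    · exact mem_stabilizer_iff.2 (congrArg Subtype.val e)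
    · exfalso
      have e1 : (wS hF * g) • Cfsg.suzukiPointInfinity F = Cfsg.suzukiPointInfinity F := by
        have e2 : g • Cfsg.suzukiPointInfinity F = pt m (0 : F) 0 := congrArg Subtype.val e
        rw [mul_smul, e2]
        exact wM_zero
      obtain ⟨a, b, l, hl⟩ := sz_fix hF hm _ e1
      have hwx : wS hF * x * (wS hF)⁻¹ = dS hF k⁻¹ := by
        rw [wS_inv, hx]; exact Subtype.ext (wM_dM_wM k)
      have hlx : dS hF k⁻¹ * (tS hF a b * dS hF l) = tS hF a b * dS hF l * dS hF k := by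
        rw [← hl, ← hwx, ← hx]
        calc wS hF * x * (wS hF)⁻¹ * (wS hF * g) = wS hF * (x * g) := by group
          _ = wS hF * g * x := by rw [hc, mul_assoc]
      rw [← mul_assoc, dS_mul_tS hF hm, mul_assoc, mul_assoc, ← map_mul, ← map_mul] at hlx
      have e' := congrArg (fun g => g • pt m (0 : F) 0) (congrArg Subtype.val hlx)
      simp only [Subgroup.coe_mul, mul_smul] at e'
      change tM m _ _ • dM m (k⁻¹ * l) • pt m (0 : F) 0 = tM m a b • dM m (l * k) • pt m (0 : F) 0 at e'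
      simp only [dM_pt hF, mul_zero, tM_pt_zero hF] at e'
      obtain ⟨ea, eb⟩ := pt_inj e'
      rw [ea, eb] at hlx
      have e3 := hdinj (mul_left_cancel hlx)
      rw [mul_comm, mul_left_cancel_iff] at e3
      have e4 : k ^ 2 = 1 := by rw [pow_two]; nth_rw 1 [← e3]; exact inv_mul_cancel k
      have := orderOf_dvd_of_pow_eq_one e4
      rw [hk] at this
      exact hp2 ((Nat.prime_dvd_prime_iff_eq hp Nat.prime_two).1 this)
  have hMt : M ≠ ⊤ := fun e => hwM (e.ge (Subgroup.mem_top _))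
  obtain ⟨K, hK, hMK⟩ := (eq_top_or_exists_le_coatom M).resolve_left hMt
  have hKN := huniq K hK (hAM.trans hMK)
  have htN : tS hF 1 0 ∈ Subgroup.normalizer ((P : Subgroup (Cfsg.Sz F m)) : Set (Cfsg.Sz F m)) := by
    rw [← hKN]
    exact hMK (mem_stabilizer_iff.2 (tM_inf 1 0))
  have h1 := (P : Subgroup (Cfsg.Sz F m)).mul_mem ((Subgroup.mem_normalizer_iff.1 htN x).1 hxP)
    ((P : Subgroup (Cfsg.Sz F m)).inv_mem hxP)
  have h2 : tS hF 1 0 * x * (tS hF 1 0)⁻¹ * x⁻¹ ∈ uSub hF := by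
    rw [tS_inv, hx, mul_assoc (tS hF 1 0), dS_mul_tS hF hm, ← mul_assoc, mul_inv_cancel_right]
    exact (uSub hF).mul_mem ⟨_, _, rfl⟩ ⟨_, _, rfl⟩
  have h3 : tS hF 1 0 * x * (tS hF 1 0)⁻¹ * x⁻¹ = 1 :=
    Subgroup.mem_bot.1 ((IsPGroup.disjoint_of_ne p 2 hp2 _ _ P.2 (uSub_isPGroup hF)).le_bot ⟨h1, h2⟩)
  rw [mul_inv_eq_one, mul_inv_eq_iff_eq_mul, hx, dS_mul_tS hF hm, mul_one] at h3
  have e' := congrArg (fun g => g • pt m (0 : F) 0) (congrArg Subtype.val h3)
  simp only [Subgroup.coe_mul, mul_smul] at e'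
  change tM m 1 0 • dM m k • pt m (0 : F) 0 = tM m (k : F) _ • dM m k • pt m (0 : F) 0 at e'
  simp only [dM_pt hF, mul_zero, tM_pt_zero hF] at e'
  exact hk1 (Units.ext (pt_inj e').1).symm

/-- A cover of a group is a finite set of proper subgroups whose union is the whole group; it is minimal when no cover has fewer members, and nilpotent when all its members are nilpotent. The Suzuki groups Sz(q), q = 2^(2m+1) with m ≥ 1, have no nilpotent minimal cover. -/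
theorem result {F : Type*} [Field F] [Fintype F] (m : ℕ) (hm : 1 ≤ m) (hF : Fintype.card F = 2 ^ (2 * m + 1)) :
    ¬ ∃ 𝓐 : Finset (Subgroup ↥(Cfsg.Lie.Sz F (2 ^ (m + 1)))), ((∀ A ∈ 𝓐, A ≠ ⊤) ∧ (∀ g : ↥(Cfsg.Lie.Sz F (2 ^ (m + 1))), ∃ A ∈ 𝓐, g ∈ A)) ∧ (∀ 𝓑 : Finset (Subgroup ↥(Cfsg.Lie.Sz F (2 ^ (m + 1)))), (∀ A ∈ 𝓑, A ≠ ⊤) ∧ (∀ g : ↥(Cfsg.Lie.Sz F (2 ^ (m + 1))), ∃ A ∈ 𝓑, g ∈ A) → 𝓐.card ≤ 𝓑.card) ∧ (∀ A ∈ 𝓐, Group.IsNilpotent ↥A) := by
  rintro ⟨𝓐, h𝓐⟩
  obtain ⟨e⟩ := lie_sz_equiv (m := m) hF hm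
  obtain ⟨𝓑, h𝓑⟩ := transport e (𝓐 := 𝓐) h𝓐
  exact no_cover m hm hF 𝓑 h𝓑

end Cfsg.Agent.S3893
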