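import Cfsg.Statements.S3895
import Cfsg.Agent.Lib.Solv.SZ
import Cfsg.Agent.Lib.Solv.Cores
import Cfsg.Agent.Lib.Char.ZStar
import Cfsg.Agent.Lib.Fusion.NPC

set_option autoImplicit false
set_option linter.style.haveILetI false
open Cfsg

open scoped Pointwise commutatorElement

namespace Cfsg.Agent.S3895


open Cfsg.Agent.Solv

universe u

/-- classes of 2-elements -/
abbrev K2 (G : Type u) [Group G] :=
  {c : ConjClasses G // ∀ x ∈ c.carrier, ∃ k : ℕ, orderOf x = 2 ^ k}

theorem two_of_sylow {G : Type u} [Group G] (P : Sylow 2 G) {x : G} (hx : x ∈ (P : Subgroup G)) :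
    ∃ k : ℕ, orderOf x = 2 ^ k := by
  obtain ⟨k, hk⟩ := IsPGroup.iff_orderOf.1 P.isPGroup' ⟨x, hx⟩
  exact ⟨k, by rw [← hk, ← Subgroup.orderOf_coe]⟩

theorem mk_two {G : Type u} [Group G] {x : G} (h : ∃ k : ℕ, orderOf x = 2 ^ k) :
    ∀ y ∈ (ConjClasses.mk x).carrier, ∃ k : ℕ, orderOf y = 2 ^ k := by
  intro y hy
  rw [ConjClasses.mem_carrier_iff_mk_eq, ConjClasses.mk_eq_mk_iff_isConj, isConj_iff] at hy
  obtain ⟨g, hg⟩ := hy
  rw [← hg] at h
  obtain ⟨k, hk⟩ := h
  have hcj := MulEquiv.orderOf_eq (MulAut.conj g) y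
  rw [MulAut.conj_apply] at hcj
  exact ⟨k, hcj ▸ hk⟩

def rep {G : Type u} [Group G] (P : Sylow 2 G) (x : (P : Subgroup G)) : K2 G :=
  ⟨ConjClasses.mk (x : G), mk_two (two_of_sylow P x.2)⟩

theorem rep_surjective {G : Type u} [Group G] [Finite G] (P : Sylow 2 G) :
    Function.Surjective (rep P) := by
  rintro ⟨c, hc⟩
  obtain ⟨x, rfl⟩ := ConjClasses.mk_surjective c
  obtain ⟨k, hk⟩ := hc x ConjClasses.mem_carrier_mk
  obtain ⟨Q, hQ⟩ := (IsPGroup.of_card (p := 2) (n := k)
    (by rw [Nat.card_zpowers, hk]) : IsPGroup 2 (Subgroup.zpowers x)).exists_le_sylow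
  obtain ⟨g, hg⟩ := MulAction.exists_smul_eq G Q P
  have hm : g * x * g⁻¹ ∈ (P : Subgroup G) := by
    rw [← hg, Sylow.coe_subgroup_smul, mem_conj_smul]
    simpa [mul_assoc] using hQ (Subgroup.mem_zpowers x)
  refine ⟨⟨_, hm⟩, Subtype.ext ?_⟩
  exact ConjClasses.mk_eq_mk_iff_isConj.2 (isConj_iff.2 ⟨g⁻¹, by group⟩)

theorem card_le_classes {G : Type u} [Group G] [Finite G] (P : Sylow 2 G) :
    Nat.card (K2 G) ≤ Nat.card (ConjClasses (P : Subgroup G)) := by
  refine Nat.card_le_card_of_surjective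
    (Quotient.lift (rep P) fun a b (h : IsConj a b) => Subtype.ext
      (ConjClasses.mk_eq_mk_iff_isConj.2 ((P : Subgroup G).subtype.map_isConj h))) ?_
  intro c
  obtain ⟨x, hx⟩ := rep_surjective P c
  exact ⟨ConjClasses.mk x, hx⟩

theorem classes_le_of_npc {G : Type u} [Group G] [Finite G] (P : Sylow 2 G)
    (h : Cfsg.HasNormalPComplement 2 G) :
    Nat.card (ConjClasses (P : Subgroup G)) ≤ Nat.card (K2 G) := by
  obtain ⟨N, hN, hc⟩ := Fusion.hnpc_exists_complement h P
  haveI := hN
  set f : (P : Subgroup G) →* G ⧸ N := (QuotientGroup.mk' N).comp (P : Subgroup G).subtype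
  have hinj : Function.Injective f := by
    rw [← MonoidHom.ker_eq_bot_iff, eq_bot_iff]
    intro a ha
    have h1 : (a : G) ∈ N := (QuotientGroup.eq_one_iff _).1 ha
    exact Subgroup.mem_bot.2 (Subtype.ext (Subgroup.disjoint_def.1 hc.disjoint h1 a.2))
  have hsurj : Function.Surjective f := by
    have := (Nat.bijective_iff_injective_and_card f).2 ⟨hinj, by
      rw [← Subgroup.index_eq_card]; exact hc.symm.index_eq_card.symm⟩
    exact this.2
  refine Nat.card_le_card_of_injective
    (Quotient.lift (rep P) fun a b (h : IsConj a b) => Subtype.ext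
      (ConjClasses.mk_eq_mk_iff_isConj.2 ((P : Subgroup G).subtype.map_isConj h))) ?_
  intro c d hcd
  obtain ⟨a, rfl⟩ := ConjClasses.mk_surjective c
  obtain ⟨b, rfl⟩ := ConjClasses.mk_surjective d
  have hab : IsConj (a : G) b := ConjClasses.mk_eq_mk_iff_isConj.1 (congrArg Subtype.val hcd)
  obtain ⟨g, hg⟩ := isConj_iff.1 hab
  obtain ⟨s, hs⟩ := hsurj (QuotientGroup.mk' N g)
  refine ConjClasses.mk_eq_mk_iff_isConj.2 (isConj_iff.2 ⟨s, hinj ?_⟩)
  rw [map_mul, map_mul, map_inv, hs]
  show QuotientGroup.mk' N g * QuotientGroup.mk' N (a : G) * (QuotientGroup.mk' N g)⁻¹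
    = QuotientGroup.mk' N (b : G)
  rw [← map_inv, ← map_mul, ← map_mul, hg]

theorem map_two {G : Type u} [Group G] [Finite G] (N : Subgroup G) [N.Normal] (c : K2 G) :
    ∀ x ∈ (ConjClasses.map (QuotientGroup.mk' N) c.1).carrier, ∃ k : ℕ, orderOf x = 2 ^ k := by
  obtain ⟨c, hc⟩ := c
  obtain ⟨x, rfl⟩ := ConjClasses.mk_surjective c
  obtain ⟨k, hk⟩ := hc x ConjClasses.mem_carrier_mk
  show ∀ y ∈ (ConjClasses.mk (QuotientGroup.mk' N x)).carrier, _
  refine mk_two ?_
  have h := orderOf_map_dvd (QuotientGroup.mk' N) x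
  rw [hk] at h
  obtain ⟨j, -, hj⟩ := (Nat.dvd_prime_pow Nat.prime_two).1 h
  exact ⟨j, hj⟩

/-- 2-elements congruent modulo a normal odd order subgroup are conjugate -/
theorem conj_of_cong {G : Type u} [Group G] [Finite G] (O : Subgroup G) [O.Normal]
    (hO : (Nat.card O).Coprime 2) {a b : G} (ha : ∃ k : ℕ, orderOf a = 2 ^ k)
    (hb : ∃ k : ℕ, orderOf b = 2 ^ k) (h : b⁻¹ * a ∈ O) : IsConj b a := by
  obtain ⟨i, hi⟩ := ha
  obtain ⟨j, hj⟩ := hb
  set π := QuotientGroup.mk' O with hπ
  have hab : π a = π b := ((QuotientGroup.eq).2 h).symm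
  have hone : ∀ (c : G) (k : ℕ), orderOf c = 2 ^ k → orderOf (π c) = orderOf c := by
    intro c k hk
    refine Nat.dvd_antisymm (orderOf_map_dvd π c) ?_
    have hmem : c ^ orderOf (π c) ∈ O := by
      rw [← QuotientGroup.eq_one_iff]
      show π (c ^ orderOf (π c)) = 1
      rw [map_pow, pow_orderOf_eq_one]
    have h1 : orderOf (c ^ orderOf (π c)) ∣ Nat.card O := by
      rw [← Subgroup.orderOf_mk _ hmem]; exact orderOf_dvd_natCard _
    have h2 : orderOf (c ^ orderOf (π c)) ∣ 2 ^ k := hk ▸ orderOf_pow_dvd _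
    have h3 : orderOf (c ^ orderOf (π c)) = 1 :=
      Nat.eq_one_of_dvd_coprimes (hO.pow_right k) h1 h2
    exact orderOf_dvd_of_pow_eq_one (orderOf_eq_one_iff.1 h3)
  have hij : orderOf a = orderOf b := by rw [← hone a i hi, hab, hone b j hj]
  have hn : Subgroup.zpowers b ≤ Subgroup.normalizer (O : Set G) := by
    rw [Subgroup.normalizer_eq_top_iff.2 ‹O.Normal›]; exact le_top
  have hle : Subgroup.zpowers a ≤ O ⊔ Subgroup.zpowers b := by
    rw [Subgroup.zpowers_le]
    have : a = b * (b⁻¹ * a) := by group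
    rw [this]
    exact mul_mem (Subgroup.mem_sup_right (Subgroup.mem_zpowers b)) (Subgroup.mem_sup_left h)
  obtain ⟨g, hgO, hg⟩ := sz_conj_rel O (Subgroup.zpowers b) (Subgroup.zpowers a) hn hle
    (by rw [Nat.card_zpowers, hj]; exact hO.pow_right j)
    (by rw [Nat.card_zpowers, Nat.card_zpowers, hij])
    (Or.inr (isSolvable_of_comm fun x y => mul_comm' x y))
  have hm : g * b * g⁻¹ ∈ Subgroup.zpowers a := by
    rw [← hg, mem_conj_smul]; simpa [mul_assoc] using Subgroup.mem_zpowers b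
  refine isConj_iff.2 ⟨g, ?_⟩
  obtain ⟨m, hm'⟩ := Subgroup.mem_zpowers_iff.1 hm
  have hgb : π (g * b * g⁻¹) = π a := by
    rw [map_mul, map_mul, map_inv, show π g = 1 from (QuotientGroup.eq_one_iff g).2 hgO, inv_one, one_mul,
      mul_one, hab]
  rw [← hm', map_zpow] at hgb
  have h1 : (π a) ^ (m - 1) = 1 := by rw [zpow_sub_one, hgb, mul_inv_cancel]
  rw [← orderOf_dvd_iff_zpow_eq_one, hone a i hi, orderOf_dvd_iff_zpow_eq_one, zpow_sub_one,
    mul_inv_eq_one] at h1
  rw [← hm', h1]

theorem card_le_quot_odd {G : Type u} [Group G] [Finite G] (O : Subgroup G) [O.Normal]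
    (hO : (Nat.card O).Coprime 2) : Nat.card (K2 G) ≤ Nat.card (K2 (G ⧸ O)) := by
  refine Nat.card_le_card_of_injective (fun c => ⟨_, map_two O c⟩) ?_
  rintro ⟨c, hc⟩ ⟨d, hd⟩ hcd
  obtain ⟨a, rfl⟩ := ConjClasses.mk_surjective c
  obtain ⟨b, rfl⟩ := ConjClasses.mk_surjective d
  have h : ConjClasses.mk (QuotientGroup.mk' O a) = ConjClasses.mk (QuotientGroup.mk' O b) :=
    congrArg Subtype.val hcd
  obtain ⟨q, hq⟩ := isConj_iff.1 (ConjClasses.mk_eq_mk_iff_isConj.1 h)
  obtain ⟨g, rfl⟩ := QuotientGroup.mk'_surjective O q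
  rw [← map_inv, ← map_mul, ← map_mul] at hq
  have hga : ∃ k, orderOf (g * a * g⁻¹) = 2 ^ k := by
    have h1 := MulEquiv.orderOf_eq (MulAut.conj g) a
    rw [MulAut.conj_apply] at h1
    exact h1 ▸ hc a ConjClasses.mem_carrier_mk
  have hcj := conj_of_cong O hO (hd b ConjClasses.mem_carrier_mk) hga (QuotientGroup.eq.1 hq)
  exact Subtype.ext (ConjClasses.mk_eq_mk_iff_isConj.2 ((isConj_iff.2 ⟨g, rfl⟩).trans hcj))

theorem card_le_quot_two {G : Type u} [Group G] [Finite G] {z : G} (hz : z * z = 1)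
    (hc : ∀ g : G, z * g = g * z) [(Subgroup.zpowers z).Normal] :
    Nat.card (K2 G) ≤ Nat.card (K2 (G ⧸ Subgroup.zpowers z)) * 2 := by
  classical
  set π := QuotientGroup.mk' (Subgroup.zpowers z) with hπ
  have hs : Function.Surjective fun x : G => ConjClasses.mk (π x) :=
    ConjClasses.mk_surjective.comp (QuotientGroup.mk'_surjective _)
  have hz2 : Nat.card Bool = 2 := by simp
  rw [← hz2, ← Nat.card_prod]
  refine Nat.card_le_card_of_injective (fun c => (⟨_, map_two (Subgroup.zpowers z) c⟩,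
    decide (c.1 = ConjClasses.mk (Function.surjInv hs (ConjClasses.map π c.1))))) ?_
  rintro ⟨c, hc'⟩ ⟨d, hd⟩ hcd
  simp only [Prod.mk.injEq, Subtype.mk.injEq, decide_eq_decide] at hcd
  obtain ⟨h1, h2⟩ := hcd
  rw [← h1] at h2
  apply Subtype.ext
  show c = d
  set s := Function.surjInv hs (ConjClasses.map π c) with hsd
  have hkey : ∀ e : ConjClasses G, ConjClasses.map π e = ConjClasses.map π c →
      e = ConjClasses.mk s ∨ e = ConjClasses.mk (s * z) := by
    intro e he
    obtain ⟨x, rfl⟩ := ConjClasses.mk_surjective e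
    have hsv : ConjClasses.mk (π s) = ConjClasses.map π c := Function.surjInv_eq hs _
    have hxs : IsConj (π x) (π s) := ConjClasses.mk_eq_mk_iff_isConj.1 (by rw [hsv, ← he]; rfl)
    obtain ⟨q, hq⟩ := isConj_iff.1 hxs
    obtain ⟨g, rfl⟩ := QuotientGroup.mk'_surjective _ q
    rw [← map_inv, ← map_mul, ← map_mul] at hq
    have hm : s⁻¹ * (g * x * g⁻¹) ∈ Subgroup.zpowers z := QuotientGroup.eq.1 hq.symm
    obtain ⟨m, hm⟩ := Subgroup.mem_zpowers_iff.1 hm
    have hz2' : z ^ (2 : ℤ) = 1 := by rw [show (2 : ℤ) = ((2 : ℕ) : ℤ) from rfl, zpow_natCast, pow_two, hz]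
    rcases Int.even_or_odd' m with ⟨j, rfl | rfl⟩
    · left
      rw [zpow_mul, hz2', one_zpow] at hm
      exact ConjClasses.mk_eq_mk_iff_isConj.2 (isConj_iff.2 ⟨g, (inv_mul_eq_one.1 hm.symm).symm⟩)
    · right
      rw [zpow_add, zpow_mul, hz2', one_zpow, one_mul, zpow_one] at hm
      exact ConjClasses.mk_eq_mk_iff_isConj.2 (isConj_iff.2 ⟨g, by rw [hm]; group⟩)
  rcases hkey c rfl with e | e
  · rw [e, ← h2.1 e]
  · rcases hkey d h1.symm with e' | e'
    · rw [e', ← h2.2 e']
    · rw [e, e']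

theorem npc_aux : ∀ (n : ℕ) (G : Type u) [Group G] [Finite G], Nat.card G = n → ∀ P : Sylow 2 G,
    Nat.card (P : Subgroup G) < 2 * Nat.card (K2 G) → Cfsg.HasNormalPComplement 2 G := by
  intro n
  induction n using Nat.strong_induction_on with
  | _ n ih =>
  intro G _ _ hn P hk
  classical
  by_cases hP1 : Nat.card (P : Subgroup G) = 1
  · refine Fusion.hnpc_of_coprime_normal_pgroup_quotient (N := ⊤) ?_ ?_
    · rw [Subgroup.card_top, Nat.coprime_comm]
      refine (Nat.Prime.coprime_iff_not_dvd Nat.prime_two).2 ?_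
      have h := P.not_dvd_index
      rwa [← (P : Subgroup G).card_mul_index, hP1, one_mul]
    · exact IsPGroup.of_card (n := 0) (by rw [← Subgroup.index_eq_card, Subgroup.index_top, pow_zero])
  by_cases hO : Cfsg.oddCore G = ⊥
  swap
  · haveI : (Cfsg.oddCore G).Normal := Cfsg.Agent.Solv.pPrimeCore_normal 2
    have hcop : (Nat.card (Cfsg.oddCore G)).Coprime 2 := Cfsg.Agent.Solv.pPrimeCore_coprime 2
    refine Fusion.hnpc_of_quotient _ hcop ?_
    set π := QuotientGroup.mk' (Cfsg.oddCore G)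
    refine ih _ (hn ▸ card_quotient_lt _ hO) _ rfl (P.mapSurjective (QuotientGroup.mk'_surjective _)) ?_
    calc Nat.card ((P : Subgroup G).map π) ≤ Nat.card (P : Subgroup G) :=
          Nat.le_of_dvd Nat.card_pos (card_map_mk'_dvd _ _)
      _ < 2 * Nat.card (K2 G) := hk
      _ ≤ _ := Nat.mul_le_mul_left 2 (card_le_quot_odd _ hcop)
  by_cases hcen : ∃ z : G, z ≠ 1 ∧ z * z = 1 ∧ ∀ g : G, z * g = g * z
  · obtain ⟨z, hz1, hz, hzc⟩ := hcen
    haveI hZn : (Subgroup.zpowers z).Normal := ⟨fun a ha g => by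
      obtain ⟨m, rfl⟩ := Subgroup.mem_zpowers_iff.1 ha
      rw [← ((show Commute z g from hzc g).zpow_left m).eq, mul_assoc, mul_inv_cancel, mul_one]
      exact Subgroup.mem_zpowers_iff.2 ⟨m, rfl⟩⟩
    have hzo : orderOf z = 2 := orderOf_eq_prime (by rw [pow_two, hz]) hz1
    have hcZ : Nat.card (Subgroup.zpowers z) = 2 := by rw [Nat.card_zpowers, hzo]
    set π := QuotientGroup.mk' (Subgroup.zpowers z) with hπ
    have hzP : Subgroup.zpowers z ≤ (P : Subgroup G) := by
      obtain ⟨Q, hQ⟩ := (IsPGroup.of_card (p := 2) (n := 1)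
        (by rw [hcZ, pow_one]) : IsPGroup 2 (Subgroup.zpowers z)).exists_le_sylow
      obtain ⟨g, hg⟩ := MulAction.exists_smul_eq G Q P
      rw [Subgroup.zpowers_le, ← hg, Sylow.coe_subgroup_smul, mem_conj_smul]
      have e : g⁻¹ * z * g = z := by rw [mul_assoc, hzc, inv_mul_cancel_left]
      rw [e]; exact hQ (Subgroup.mem_zpowers z)
    have hq : Cfsg.HasNormalPComplement 2 (G ⧸ Subgroup.zpowers z) := by
      refine ih _ (hn ▸ card_quotient_lt _ fun e => hz1 (Subgroup.zpowers_eq_bot.1 e)) _ rfl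
        (P.mapSurjective (QuotientGroup.mk'_surjective _)) ?_
      have hc2 := card_map_mk'_mul_card_inf (Subgroup.zpowers z) (P : Subgroup G)
      rw [inf_eq_left.2 hzP, hcZ] at hc2
      have hle := card_le_quot_two hz hzc
      show Nat.card ((P : Subgroup G).map (QuotientGroup.mk' (Subgroup.zpowers z))) < _
      omega
    rw [Fusion.hnpc_iff] at hq ⊢
    set K := (Cfsg.pResidual 2 (G ⧸ Subgroup.zpowers z)).comap π with hK
    obtain ⟨L, hL⟩ := Subgroup.exists_right_complement'_of_coprime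
      (N := (Subgroup.zpowers z).subgroupOf K) (by
        haveI : ((Subgroup.zpowers z).subgroupOf K).Normal := hZn.comap _
        have hle : Subgroup.zpowers z ≤ K := by rw [hK, hπ]; exact QuotientGroup.le_comap_mk' _ _
        have h1 : Nat.card ((Subgroup.zpowers z).subgroupOf K) = 2 := by
          rw [Nat.card_congr (Subgroup.subgroupOfEquivOfLe hle).toEquiv, hcZ]
        have h2 := ((Subgroup.zpowers z).subgroupOf K).card_mul_index
        rw [h1, hK, hπ, card_comap_mk', hcZ, mul_comm _ 2] at h2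
        rw [h1, Nat.eq_of_mul_eq_mul_left two_pos h2]
        exact hq.symm)
    have hLodd : (Nat.card L).Coprime 2 := by
      have h2 := hL.card_mul
      have hle : Subgroup.zpowers z ≤ K := by rw [hK, hπ]; exact QuotientGroup.le_comap_mk' _ _
      have hKc : Nat.card K = Nat.card (Cfsg.pResidual 2 (G ⧸ Subgroup.zpowers z)) * Nat.card (Subgroup.zpowers z) :=
        card_comap_mk' _ _
      rw [Nat.card_congr (Subgroup.subgroupOfEquivOfLe hle).toEquiv, hcZ, hKc, hcZ,
        mul_comm _ 2] at h2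
      exact (Nat.eq_of_mul_eq_mul_left two_pos h2) ▸ hq
    have hres : Cfsg.pResidual 2 G ≤ L.map K.subtype := by
      unfold Cfsg.pResidual
      rw [Subgroup.closure_le]
      intro g hg
      have hgK : g ∈ K := by
        show π g ∈ Cfsg.pResidual 2 (G ⧸ Subgroup.zpowers z)
        exact Subgroup.subset_closure (Nat.Coprime.coprime_dvd_left (orderOf_map_dvd π g) hg)
      obtain ⟨⟨⟨a, ha⟩, ⟨l, hl⟩⟩, hal⟩ := hL.2 ⟨g, hgK⟩
      have hal' : (a : G) * l = g := congrArg Subtype.val hal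
      obtain ⟨m, (hm : z ^ m = (a : G))⟩ := Subgroup.mem_zpowers_iff.1 (ha : (a : G) ∈ Subgroup.zpowers z)
      have hcom : Commute (a : G) l := hm ▸ (show Commute z (l : G) from hzc l).zpow_left m
      have ha2 : orderOf (a : G) ∣ 2 := hcZ ▸
        Subgroup.orderOf_dvd_natCard (Subgroup.zpowers z) ha
      have hl2 : (orderOf (l : G)).Coprime 2 := by
        refine Nat.Coprime.coprime_dvd_left ?_ hLodd
        rw [Subgroup.orderOf_coe, ← Subgroup.orderOf_mk _ hl]
        exact orderOf_dvd_natCard _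
      have hprod : orderOf g = orderOf (a : G) * orderOf (l : G) := by
        rw [← hal']
        exact hcom.orderOf_mul_eq_mul_orderOf_of_coprime (Nat.Coprime.coprime_dvd_left ha2 hl2.symm)
      have hg2 : (orderOf g).Coprime 2 := hg
      rw [hprod] at hg2
      have ha1 : orderOf (a : G) = 1 :=
        Nat.eq_one_of_dvd_coprimes (Nat.Coprime.coprime_dvd_left (dvd_mul_right _ _) hg2) dvd_rfl ha2
      rw [orderOf_eq_one_iff.1 ha1, one_mul] at hal'
      exact ⟨l, hl, hal'⟩
    refine Nat.Coprime.coprime_dvd_left ((Subgroup.card_dvd_of_le hres).trans ?_) hLodd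
    rw [Subgroup.card_map_of_injective K.subtype_injective]
  -- the counting case
  exfalso
  have hsol : ∀ c : K2 G, c ≠ rep P 1 → ∃ x y : (P : Subgroup G), x ≠ y ∧ rep P x = c ∧ rep P y = c := by
    intro c hc
    obtain ⟨x, hx⟩ := rep_surjective P c
    by_contra hno
    push Not at hno
    have hiso : ∀ g : G, g * x * g⁻¹ ∈ (P : Subgroup G) → g * x * g⁻¹ = (x : G) := by
      intro g hg
      by_contra hne
      refine hno x ⟨_, hg⟩ (fun e => hne (congrArg Subtype.val e).symm) hx ?_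
      rw [← hx]
      exact Subtype.ext (ConjClasses.mk_eq_mk_iff_isConj.2 (isConj_iff.2 ⟨g⁻¹, by group⟩))
    have hx1 : (x : G) ≠ 1 := fun e => hc (by rw [← hx, show x = 1 from Subtype.ext e])
    obtain ⟨k, hk'⟩ := two_of_sylow P x.2
    obtain ⟨k, rfl⟩ : ∃ j, k = j + 1 := Nat.exists_eq_succ_of_ne_zero fun e => hx1 (by
      rw [e, pow_zero, orderOf_eq_one_iff] at hk'; exact hk')
    set t := (x : G) ^ 2 ^ k with ht
    have hto : orderOf t = 2 := by
      refine orderOf_eq_prime ?_ ?_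
      · rw [ht, ← pow_mul, ← pow_succ, ← hk', pow_orderOf_eq_one]
      · intro e
        have h := orderOf_dvd_of_pow_eq_one (ht ▸ e)
        rw [hk'] at h
        exact absurd ((Nat.pow_dvd_pow_iff_le_right (by norm_num)).1 h) (by omega)
    have htP : t ∈ (P : Subgroup G) := pow_mem x.2 _
    have htiso : ∀ g : G, g * t * g⁻¹ ∈ (P : Subgroup G) → g * t * g⁻¹ = t := by
      intro g hg
      set u := g * t * g⁻¹ with hu
      set C := Subgroup.centralizer ({u} : Set G) with hC
      have h1 : g * x * g⁻¹ ∈ C := by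
        rw [hC, Subgroup.mem_centralizer_iff]
        intro a ha
        rw [Set.mem_singleton_iff.1 ha, hu]
        exact (((Commute.refl (x : G)).pow_left (2 ^ k)).map (MulAut.conj g)).eq
      have hxu : Commute (x : G) u := by
        by_contra hn'
        apply hn'
        have h2 := hiso u (mul_mem (mul_mem hg x.2) (inv_mem hg))
        exact (show u * x = x * u from mul_inv_eq_iff_eq_mul.1 h2).symm
      have hxC : (x : G) ∈ C := by
        rw [hC, Subgroup.mem_centralizer_iff]
        intro a ha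
        rw [Set.mem_singleton_iff.1 ha]; exact hxu.symm.eq
      have hP' : IsPGroup 2 (Subgroup.zpowers (⟨x, hxC⟩ : C)) :=
        IsPGroup.of_card (n := k + 1) (by rw [Nat.card_zpowers, ← Subgroup.orderOf_coe, hk'])
      have hP'' : IsPGroup 2 (Subgroup.zpowers (⟨g * x * g⁻¹, h1⟩ : C)) :=
        IsPGroup.of_card (n := k + 1) (by
          have e := MulEquiv.orderOf_eq (MulAut.conj g) (x : G)
          rw [MulAut.conj_apply] at e
          rw [Nat.card_zpowers, ← Subgroup.orderOf_coe, e, hk'])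
      obtain ⟨Q, hQ⟩ := hP'.exists_le_sylow
      obtain ⟨R, hR⟩ := hP''.exists_le_sylow
      obtain ⟨c, hcR⟩ := MulAction.exists_smul_eq C R Q
      have h3 : c * ⟨g * x * g⁻¹, h1⟩ * c⁻¹ ∈ (Q : Subgroup C) := by
        rw [← hcR, Sylow.coe_subgroup_smul, mem_conj_smul]
        simpa [mul_assoc] using hR (Subgroup.mem_zpowers _)
      obtain ⟨S, hS⟩ := ((Q.isPGroup').map C.subtype).exists_le_sylow
      obtain ⟨d, hd⟩ := MulAction.exists_smul_eq G S P
      have hmem : ∀ a ∈ (Q : Subgroup C), d * (a : G) * d⁻¹ ∈ (P : Subgroup G) := by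
        intro a ha
        rw [← hd, Sylow.coe_subgroup_smul, mem_conj_smul]
        simpa [mul_assoc] using hS (Subgroup.mem_map_of_mem C.subtype ha)
      have e1 := hiso d (hmem _ (hQ (Subgroup.mem_zpowers _)))
      have h4 := hmem _ h3
      simp only [Subgroup.coe_mul, InvMemClass.coe_inv] at h4
      have e2 := hiso (d * c * g) (by simpa [mul_assoc] using h4)
      have h5 : (x : G) = c * (g * x * g⁻¹) * (c : G)⁻¹ := by
        calc (x : G) = d⁻¹ * (d * x * d⁻¹) * d := by group
          _ = d⁻¹ * x * d := by rw [e1]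
          _ = d⁻¹ * (d * c * g * x * (d * c * g)⁻¹) * d := by rw [e2]
          _ = c * (g * x * g⁻¹) * (c : G)⁻¹ := by group
      have hcu : Commute (c : G) u := (Subgroup.mem_centralizer_iff.1 c.2 u rfl).symm
      calc u = (c : G) * u * (c : G)⁻¹ := by rw [hcu.eq, mul_assoc, mul_inv_cancel, mul_one]
        _ = (c * (g * x * g⁻¹) * (c : G)⁻¹) ^ 2 ^ k := by rw [conj_pow, conj_pow]
        _ = t := by rw [← h5]
    have hinv := Char.oddInvol_of_isolated_sylow hto htP htiso
    exact hcen ⟨t, hinv.ne_one, hinv.sq, Char.zStar_central hinv hO⟩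
  choose f g hfg hf hg using hsol
  let ι : Option {c : K2 G // c ≠ rep P 1} × Bool → Option (P : Subgroup G) := fun cb =>
    match cb.1, cb.2 with
    | none, true => none
    | none, false => some 1
    | some c, true => some (f c.1 c.2)
    | some c, false => some (g c.1 c.2)
  have hr : ∀ (c : {c : K2 G // c ≠ rep P 1}), f c.1 c.2 ≠ 1 ∧ g c.1 c.2 ≠ 1 := fun c =>
    ⟨fun e => c.2 ((hf c.1 c.2).symm.trans (congrArg (rep P) e)),
      fun e => c.2 ((hg c.1 c.2).symm.trans (congrArg (rep P) e))⟩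
  have hι : Function.Injective ι := by
    rintro ⟨c, b⟩ ⟨d, b'⟩ he
    rcases c with _ | c <;> rcases d with _ | d <;> cases b <;> cases b' <;>
      simp only [ι, Option.some.injEq, reduceCtorEq] at he ⊢
    all_goals first
      | rfl
      | exact absurd he.symm (hr _).1
      | exact absurd he.symm (hr _).2
      | exact absurd he (hr _).1
      | exact absurd he (hr _).2
      | skip
    all_goals
      have hh := congrArg (rep P) he
      simp only [hf, hg] at hh
      obtain rfl : c = d := Subtype.ext hh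
      first
        | rfl
        | exact absurd he (hfg _ _)
        | exact absurd he.symm (hfg _ _)
  have hcount := Nat.card_le_card_of_injective ι hι
  rw [Nat.card_prod, Finite.card_option, Finite.card_option, Nat.card_eq_fintype_card (α := Bool),
    Fintype.card_bool] at hcount
  have hsub : Nat.card (K2 G) = Nat.card {c : K2 G // c ≠ rep P 1} + 1 := by
    haveI := Fintype.ofFinite (K2 G)
    rw [Nat.card_eq_fintype_card, Nat.card_eq_fintype_card, Fintype.card_subtype_compl,
      Fintype.card_subtype_eq]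
    have : 0 < Fintype.card (K2 G) := Fintype.card_pos_iff.2 ⟨rep P 1⟩
    omega
  obtain ⟨m, hm⟩ := IsPGroup.iff_card.1 P.isPGroup'
  rcases m with _ | m
  · rw [pow_zero] at hm
    exact hP1 hm
  · rw [pow_succ] at hm
    omega

/-- Let G be a finite group with Sylow 2-subgroup P, and write k₂(G) for the number of conjugacy classes of G consisting of 2-elements (elements of 2-power order, the identity included). Then k₂(G) > |P|/2 if and only if G has a normal 2-complement and P has more than |P|/2 conjugacy classes. -/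
theorem result {G : Type*} [Group G] [Finite G] (P : Sylow 2 G) :
    Nat.card ↥(P : Subgroup G) < 2 * Nat.card {c : ConjClasses G // ∀ x ∈ c.carrier, ∃ k : ℕ, orderOf x = 2 ^ k} ↔
      Cfsg.HasNormalPComplement 2 G ∧ Nat.card ↥(P : Subgroup G) < 2 * Nat.card (ConjClasses ↥(P : Subgroup G)) := by
  change Nat.card ↥(P : Subgroup G) < 2 * Nat.card (K2 G) ↔ _
  constructor
  · intro h
    have hN := npc_aux _ G rfl P h
    exact ⟨hN, h.trans_le (Nat.mul_le_mul_left 2 (card_le_classes P))⟩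
  · rintro ⟨hN, h⟩
    exact h.trans_le (Nat.mul_le_mul_left 2 (classes_le_of_npc P hN))

end Cfsg.Agent.S3895
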