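import Cfsg.Statements.S3897
import Cfsg.Agent.Lib.Solv.PiClassCount

set_option autoImplicit false
open Cfsg

namespace Cfsg.Agent.S3897

/-- Let p be an odd prime and G a finite group with Sylow p-subgroup P, and write k_p(G) for the number of conjugacy classes of G consisting of p-elements (elements of p-power order, the identity included). Then k_p(G) > (p + 1)|P|/(2p) if and only if G has a normal p-complement and P is abelian. -/
theorem result {G : Type*} [Group G] [Finite G] {p : ℕ} [Fact p.Prime] (hp : p ≠ 2) (P : Sylow p G) :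
    (p + 1) * Nat.card ↥(P : Subgroup G) < 2 * p * Nat.card {c : ConjClasses G // ∀ x ∈ c.carrier, ∃ k : ℕ, orderOf x = p ^ k} ↔
      Cfsg.HasNormalPComplement p G ∧ IsMulCommutative ↥(P : Subgroup G) := by
  have hp' : p.Prime := Fact.out
  have hnum : Nat.card {c : ConjClasses G // ∀ x ∈ c.carrier, ∃ k : ℕ, orderOf x = p ^ k} =
      Cfsg.Agent.Solv.PiCl.num {p} G := by
    refine Nat.card_congr (Equiv.subtypeEquivRight fun c => ?_)
    refine forall₂_congr fun x _ => ⟨fun ⟨k, hk⟩ r hr hrx => ?_, fun h => ⟨_,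
      Nat.eq_prime_pow_of_unique_prime_dvd (orderOf_pos x).ne' fun {d} hd hdx => Finset.mem_singleton.1 (h d hd hdx)⟩⟩
    rw [hk] at hrx
    exact Finset.mem_singleton.2 ((Nat.prime_dvd_prime_iff_eq hr hp').1 (hr.dvd_of_dvd_pow hrx))
  constructor
  · intro h
    obtain ⟨⟨N, hN, hc⟩, hab⟩ := Cfsg.Agent.Solv.PiCl.complement_and_abelian P (hnum ▸ h)
    exact ⟨⟨P, N, hN, hc⟩, ⟨⟨fun a b => Subtype.ext (hab a a.2 b b.2)⟩⟩⟩
  · rintro ⟨⟨Q, N, hN, hc⟩, hab⟩
    have hQab : ∀ a b : (Q : Subgroup G), a * b = b * a := fun a b => (P.equiv Q).symm.injective (by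
      rw [map_mul, map_mul]; exact hab.is_comm.comm _ _)
    have hfin : Finite (ConjClasses G) := Finite.of_surjective _ ConjClasses.mk_surjective
    have hle : Nat.card (Q : Subgroup G) ≤
        Nat.card {c : ConjClasses G // ∀ x ∈ c.carrier, ∃ k : ℕ, orderOf x = p ^ k} := by
      refine Nat.card_le_card_of_injective (fun a => ⟨ConjClasses.mk (a : G), fun x hx => ?_⟩) ?_
      · obtain ⟨g, hg⟩ := isConj_iff.1
          (ConjClasses.mk_eq_mk_iff_isConj.1 (ConjClasses.mem_carrier_iff_mk_eq.1 hx).symm)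
        obtain ⟨k, hk⟩ := IsPGroup.iff_orderOf.1 Q.2 a
        exact ⟨k, by rw [← hg, show g * (a : G) * g⁻¹ = MulAut.conj g (a : G) from rfl, MulEquiv.orderOf_eq,
          Subgroup.orderOf_coe, hk]⟩
      · intro a b hab'
        obtain ⟨g, hg⟩ := isConj_iff.1 (ConjClasses.mk_eq_mk_iff_isConj.1 (congrArg Subtype.val hab'))
        obtain ⟨⟨m, q⟩, hmq⟩ := hc.surjective g
        change (m : G) * (q : G) = g at hmq
        rw [← hmq] at hg
        have hqa : (q : G) * a * (q : G)⁻¹ = a := by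
          rw [show (q : G) * a = a * q from congrArg Subtype.val (hQab q a), mul_inv_cancel_right]
        have h1 : (m : G) * a * (m : G)⁻¹ = b := by
          rw [← hg]; conv_lhs => rw [← hqa]
          group
        have h2 : (b : G) * (a : G)⁻¹ ∈ N := by
          rw [← h1, show (m : G) * a * (m : G)⁻¹ * (a : G)⁻¹ = (m : G) * ((a : G) * (m : G)⁻¹ * (a : G)⁻¹) by group]
          exact N.mul_mem m.2 (hN.conj_mem _ (N.inv_mem m.2) _)
        have h3 := hc.disjoint.le_bot
          (Subgroup.mem_inf.2 ⟨h2, (Q : Subgroup G).mul_mem b.2 ((Q : Subgroup G).inv_mem a.2)⟩)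
        exact Subtype.ext (mul_inv_eq_one.1 (Subgroup.mem_bot.1 h3)).symm
    have hQP : Nat.card (Q : Subgroup G) = Nat.card (P : Subgroup G) := Nat.card_congr (P.equiv Q).symm.toEquiv
    have hpos : 0 < Nat.card (P : Subgroup G) := Nat.card_pos
    calc (p + 1) * Nat.card (P : Subgroup G) < 2 * p * Nat.card (P : Subgroup G) :=
          Nat.mul_lt_mul_of_pos_right (by have := hp'.two_le; omega) hpos
      _ ≤ _ := Nat.mul_le_mul_left _ (hQP ▸ hle)

end Cfsg.Agent.S3897
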