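import Cfsg.Statements.S3898
import Cfsg.Agent.Lib.Solv.PiComplement
import Cfsg.Agent.Lib.Solv.PiClassTwo
import Cfsg.Agent.Lib.Solv.PiClassPair

set_option autoImplicit false
open Cfsg

namespace Cfsg.Agent.S3898

/-- Let π be a finite set of primes containing 2 and G a finite group. Write k_π(G) for the number of conjugacy classes of G consisting of π-elements (elements all of whose order's prime divisors lie in π) and |G|_π for the π-part of the order of G. If k_π(G) > |G|_π/2, then G has a normal π-complement (a normal subgroup of order prime to π whose index is a π-number) and an abelian Hall subgroup for the set of odd primes in π. -/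
theorem result {G : Type*} [Group G] [Finite G] (π : Finset ℕ) (hπ : ∀ r ∈ π, r.Prime) (h2 : 2 ∈ π)
    (hk : π.prod (fun r => r ^ (Nat.card G).factorization r) < 2 * Nat.card {c : ConjClasses G // ∀ x ∈ c.carrier, ∀ r : ℕ, r.Prime → r ∣ orderOf x → r ∈ π}) :
    (∃ N : Subgroup G, N.Normal ∧ (∀ r : ℕ, r.Prime → r ∣ Nat.card ↥N → r ∉ π) ∧ ∀ r : ℕ, r.Prime → r ∣ N.index → r ∈ π) ∧ ∃ H : Subgroup G, Cfsg.IsPiHall ((↑π : Set ℕ) \ {2}) H ∧ IsMulCommutative ↥H := by
  classical
  haveI : Fact (Nat.Prime 2) := ⟨Nat.prime_two⟩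
  have hlarge : ∀ q ∈ π, 1 * q ^ (Nat.card G).factorization q < 2 * Cfsg.Agent.Solv.PiCl.num {q} G :=
    fun q hq => Cfsg.Agent.Solv.PiCl.num_singleton_large π hπ hq (a := 1) (by rw [one_mul]; exact hk)
  have hodd : ∀ q ∈ π, q ≠ 2 → ∃ (P : Sylow q G) (N : Subgroup G), N.Normal ∧ N.IsComplement' (P : Subgroup G) ∧
      ∀ a ∈ (P : Subgroup G), ∀ b ∈ (P : Subgroup G), a * b = b * a := by
    intro q hq hq2
    haveI := Fact.mk (hπ q hq)
    obtain ⟨Q⟩ : Nonempty (Sylow q G) := inferInstance
    obtain ⟨hab, hsmall⟩ := Cfsg.Agent.Solv.PiCl.abelian_and_small hq2 Q (by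
      rw [Q.card_eq_multiplicity]; simpa using hlarge q hq)
    rcases hsmall.lt_or_eq with h1 | h2'
    · have hbot : (Subgroup.normalizerMonoidHom (Q : Subgroup G)).range = ⊥ :=
        Subgroup.card_eq_one.1 (by have := Nat.card_pos (α := (Subgroup.normalizerMonoidHom (Q : Subgroup G)).range); omega)
      have hle : Subgroup.normalizer ((Q : Subgroup G) : Set G) ≤ Subgroup.centralizer ((Q : Subgroup G) : Set G) :=
        fun x hx => (Cfsg.Agent.Solv.PiCl.normalizerMonoidHom_eq_one_iff _ ⟨x, hx⟩).1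
          (Subgroup.mem_bot.1 (hbot ▸ ⟨⟨x, hx⟩, rfl⟩ : _ ∈ (⊥ : Subgroup (MulAut (Q : Subgroup G)))))
      exact ⟨Q, _, inferInstance, MonoidHom.ker_transferSylow_isComplement' Q hle, hab⟩
    · exfalso
      have hfin : Finite (ConjClasses G) := inferInstance
      haveI := Fintype.ofFinite
        {c : ConjClasses G // ∀ x ∈ c.carrier, ∀ r : ℕ, r.Prime → r ∣ orderOf x → r ∈ ({2} : Finset ℕ)}
      obtain ⟨u, hu, hb⟩ := Cfsg.Agent.Solv.PiCl.exists_reps_bound hq2 Q hab h2'
      set R := (π.erase 2).erase q with hR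
      have hRπ : ∀ r ∈ R, r.Prime := fun r hr => hπ r (Finset.mem_of_mem_erase (Finset.mem_of_mem_erase hr))
      have hqe : q ∈ π.erase 2 := Finset.mem_erase.2 ⟨hq2, hq⟩
      obtain ⟨M, hM⟩ : ∃ M, M = R.prod fun r => r ^ (Nat.card G).factorization r := ⟨_, rfl⟩
      have h3 : Cfsg.Agent.Solv.PiCl.num π G ≤
          (∑ c, Cfsg.Agent.Solv.PiCl.num {q} ↥(Subgroup.centralizer ({u c} : Set G))) * M := by
        have h4 := Cfsg.Agent.Solv.PiCl.num_insert_le_sum (q := 2) (π.erase 2) (Finset.notMem_erase 2 π) u hu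
        rw [Finset.insert_erase h2] at h4
        refine h4.trans ?_
        rw [Finset.sum_mul]
        refine Finset.sum_le_sum fun c _ => ?_
        have h5 := Cfsg.Agent.Solv.PiCl.num_insert_le (q := q)
          (G := ↥(Subgroup.centralizer ({u c} : Set G))) R (Finset.notMem_erase q _) M
          (fun v => by
            refine (Cfsg.Agent.Solv.PiCl.num_le R hRπ _).trans ?_
            rw [hM]
            exact Cfsg.Agent.Solv.PiCl.prod_le_of_dvd R hRπ Nat.card_pos.ne'
              ((Subgroup.card_subgroup_dvd_card _).trans (Subgroup.card_subgroup_dvd_card _)))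
        rwa [hR, Finset.insert_erase hqe] at h5
      have h6 : π.prod (fun r => r ^ (Nat.card G).factorization r) =
          2 ^ (Nat.card G).factorization 2 * q ^ (Nat.card G).factorization q * M := by
        rw [← Finset.mul_prod_erase π _ h2, ← Finset.mul_prod_erase (π.erase 2) _ hqe, hM, mul_assoc]
      rw [h6] at hk
      have h7 : 2 * Cfsg.Agent.Solv.PiCl.num π G ≤
          2 ^ (Nat.card G).factorization 2 * q ^ (Nat.card G).factorization q * M :=
        (Nat.mul_le_mul_left 2 h3).trans (by rw [← mul_assoc]; exact Nat.mul_le_mul_right M hb)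
      exact absurd hk (not_lt.2 h7)
  refine ⟨Cfsg.Agent.Solv.PiCl.exists_pi_complement π hπ fun ⟨q, hq⟩ => ?_, ?_⟩
  · by_cases hq2 : q = 2
    · subst hq2
      obtain ⟨P⟩ : Nonempty (Sylow 2 G) := inferInstance
      obtain ⟨N, hN, hc⟩ := Cfsg.Agent.Fusion.hnpc_exists_complement
        (Cfsg.Agent.Solv.PiCl.hnpc_two (by simpa using hlarge 2 hq)) P
      exact ⟨P, N, hN, hc⟩
    · obtain ⟨P, N, hN, hc, -⟩ := hodd q hq hq2
      exact ⟨P, N, hN, hc⟩
  · have h := Cfsg.Agent.Solv.PiCl.exists_abelian_hall (G := G) (π.erase 2)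
      (fun r hr => hπ r (Finset.mem_of_mem_erase hr))
      (fun q => hodd q.1 (Finset.mem_of_mem_erase q.2) (Finset.ne_of_mem_erase q.2))
    rwa [Finset.coe_erase] at h

end Cfsg.Agent.S3898
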