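import Cfsg.Statements.S3899
import Cfsg.Agent.Lib.Solv.PiClassCount

set_option autoImplicit false
open Cfsg
open scoped commutatorElement

namespace Cfsg.Agent.S3899

/-- Let π be a finite non-empty set of odd primes with smallest member p and G a finite group. Write k_π(G) for the number of conjugacy classes of G consisting of π-elements (elements all of whose order's prime divisors lie in π) and |G|_π for the π-part of the order of G. If k_π(G) > (p + 1)|G|_π/(2p), then G has a normal π-complement (a normal subgroup of order prime to π whose index is a π-number) and an abelian Hall π-subgroup. -/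
theorem result {G : Type*} [Group G] [Finite G] (π : Finset ℕ) (hπ : ∀ r ∈ π, r.Prime) (h2 : 2 ∉ π) (p : ℕ) (hp : p ∈ π)
    (hmin : ∀ r ∈ π, p ≤ r) (hk : (p + 1) * π.prod (fun r => r ^ (Nat.card G).factorization r) < 2 * p * Nat.card {c : ConjClasses G // ∀ x ∈ c.carrier, ∀ r : ℕ, r.Prime → r ∣ orderOf x → r ∈ π}) :
    (∃ N : Subgroup G, N.Normal ∧ (∀ r : ℕ, r.Prime → r ∣ Nat.card ↥N → r ∉ π) ∧ ∀ r : ℕ, r.Prime → r ∣ N.index → r ∈ π) ∧ ∃ H : Subgroup G, Cfsg.IsPiHall (↑π : Set ℕ) H ∧ IsMulCommutative ↥H := by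
  classical
  have hall : ∀ q : {r // r ∈ π}, ∃ (P : Sylow q.1 G) (N : Subgroup G), N.Normal ∧ N.IsComplement' (P : Subgroup G) ∧
      ∀ a ∈ (P : Subgroup G), ∀ b ∈ (P : Subgroup G), a * b = b * a := by
    rintro ⟨q, hq⟩
    haveI := Fact.mk (hπ q hq)
    obtain ⟨P⟩ : Nonempty (Sylow q G) := inferInstance
    have h1 := Cfsg.Agent.Solv.PiCl.num_singleton_large π hπ hq hk
    have h2 : (q + 1) * Nat.card (P : Subgroup G) < 2 * q * Cfsg.Agent.Solv.PiCl.num {q} G := by
      rw [P.card_eq_multiplicity]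
      have hpq := hmin q hq
      refine Nat.lt_of_mul_lt_mul_left (a := p) ?_
      calc p * ((q + 1) * q ^ (Nat.card G).factorization q)
          ≤ q * ((p + 1) * q ^ (Nat.card G).factorization q) := by
            nlinarith [Nat.mul_le_mul_right (q ^ (Nat.card G).factorization q) hpq]
        _ < q * (2 * p * Cfsg.Agent.Solv.PiCl.num {q} G) := Nat.mul_lt_mul_of_pos_left h1 (hπ q hq).pos
        _ = p * (2 * q * Cfsg.Agent.Solv.PiCl.num {q} G) := by ring
    obtain ⟨⟨N, hN, hc⟩, hab⟩ := Cfsg.Agent.Solv.PiCl.complement_and_abelian P h2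
    exact ⟨P, N, hN, hc, hab⟩
  choose P K hK hc hab using hall
  haveI := hK
  obtain ⟨N, hN⟩ : ∃ N, N = ⨅ q : {r // r ∈ π}, K q := ⟨_, rfl⟩
  haveI hNn : N.Normal := hN ▸ Subgroup.normal_iInf_normal hK
  let f : G →* ((q : {r // r ∈ π}) → G ⧸ K q) := Pi.monoidHom fun q => QuotientGroup.mk' (K q)
  have hker : f.ker = N := by
    rw [hN]; ext x
    simp only [MonoidHom.mem_ker, Subgroup.mem_iInf]
    exact ⟨fun h q => (QuotientGroup.eq_one_iff x).1 (congrFun h q),
      fun h => funext fun q => (QuotientGroup.eq_one_iff x).2 (h q)⟩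
  have hqP : ∀ q, Nat.card (G ⧸ K q) = Nat.card (P q : Subgroup G) := fun q => by
    rw [← Subgroup.index_eq_card]
    exact (hc q).symm.index_eq_card
  have hNπ : ∀ r : ℕ, r.Prime → r ∣ Nat.card N → r ∉ π := by
    intro r hr hrN hrπ
    haveI := Fact.mk hr
    have h1 : r ∣ Nat.card (K ⟨r, hrπ⟩) := hrN.trans (Subgroup.card_dvd_of_le (hN ▸ iInf_le _ _))
    rw [← (hc ⟨r, hrπ⟩).index_eq_card] at h1
    exact (P ⟨r, hrπ⟩).not_dvd_index h1
  have hidx : ∀ r : ℕ, r.Prime → r ∣ N.index → r ∈ π := by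
    intro r hr hrN
    rw [← hker, Subgroup.index_ker] at hrN
    have h1 := hrN.trans (Subgroup.card_subgroup_dvd_card _)
    rw [Nat.card_pi] at h1
    obtain ⟨q, -, hq⟩ := (Prime.dvd_finsetProd_iff hr.prime _).1 h1
    haveI := Fact.mk (hπ q.1 q.2)
    rw [hqP, (P q).card_eq_multiplicity] at hq
    rw [(Nat.prime_dvd_prime_iff_eq hr (hπ q.1 q.2)).1 (hr.dvd_of_dvd_pow hq)]
    exact q.2
  refine ⟨⟨N, hNn, hNπ, hidx⟩, ?_⟩
  have hco : (Nat.card N).Coprime N.index := Nat.coprime_of_dvd fun r hr h1 h2 => hNπ r hr h1 (hidx r hr h2)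
  obtain ⟨H, hH⟩ := Subgroup.exists_right_complement'_of_coprime hco
  refine ⟨H, ⟨fun r hr hrH => ?_, fun r hr hrπ hrH => ?_⟩, ⟨⟨fun a b => ?_⟩⟩⟩
  · exact hidx r hr (by rwa [hH.symm.index_eq_card])
  · exact hNπ r hr (by rwa [← hH.index_eq_card]) hrπ
  · have hcomm : ∀ q : {r // r ∈ π}, ∀ x y : G ⧸ K q, x * y = y * x := by
      intro q x y
      obtain ⟨g, rfl⟩ := QuotientGroup.mk_surjective x
      obtain ⟨h, rfl⟩ := QuotientGroup.mk_surjective y
      obtain ⟨⟨m, u⟩, rfl⟩ := (hc q).surjective g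
      obtain ⟨⟨m', u'⟩, rfl⟩ := (hc q).surjective h
      show (((m : G) * (u : G) : G) : G ⧸ K q) * (((m' : G) * (u' : G) : G) : G ⧸ K q) = _
      rw [QuotientGroup.mk_mul, QuotientGroup.mk_mul, (QuotientGroup.eq_one_iff (m : G)).2 m.2,
        (QuotientGroup.eq_one_iff (m' : G)).2 m'.2, one_mul, one_mul, ← QuotientGroup.mk_mul, hab q _ u.2 _ u'.2,
        QuotientGroup.mk_mul]
    have h1 : ⁅(a : G), (b : G)⁆ ∈ N := by
      rw [← hker, MonoidHom.mem_ker]
      exact funext fun q => by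
        rw [map_commutatorElement]
        exact commutatorElement_eq_one_iff_mul_comm.2 (hcomm q _ _)
    have h2 : ⁅(a : G), (b : G)⁆ ∈ H := by
      rw [commutatorElement_def]
      exact H.mul_mem (H.mul_mem (H.mul_mem a.2 b.2) (H.inv_mem a.2)) (H.inv_mem b.2)
    exact Subtype.ext (commutatorElement_eq_one_iff_mul_comm.1
      (Subgroup.mem_bot.1 (hH.disjoint.le_bot ⟨h1, h2⟩)))

end Cfsg.Agent.S3899
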