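import Cfsg.Statements.S3904
import Cfsg.Agent.Lib.Solv.MaxCentralizer

set_option autoImplicit false
set_option linter.style.haveILetI false
open Cfsg

open scoped Pointwise commutatorElement

namespace Cfsg.Agent.S3904

open Cfsg.Agent.Solv Cfsg.Agent.Solv.MaxCentralizer

/-- Let G be a non-abelian finite group in which the centralizer of every non-central element is a maximal subgroup. Then G/Z(G) is either an elementary abelian p-group for some prime p, or a minimal non-abelian group (non-abelian with all proper subgroups abelian) of order p^a · q for distinct primes p, q with a normal Sylow p-subgroup. -/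
theorem result {G : Type*} [Group G] [Finite G] (hna : ¬ IsMulCommutative G)
    (h : ∀ x : G, x ∉ Subgroup.center G → IsCoatom (Subgroup.centralizer ({x} : Set G))) :
    (∃ p : ℕ, p.Prime ∧ Cfsg.IsElementaryAbelian p (⊤ : Subgroup (G ⧸ Subgroup.center G))) ∨
    (¬ IsMulCommutative (G ⧸ Subgroup.center G) ∧ (∀ H : Subgroup (G ⧸ Subgroup.center G), H ≠ ⊤ → IsMulCommutative ↥H) ∧
      ∃ p q a : ℕ, p.Prime ∧ q.Prime ∧ p ≠ q ∧ Nat.card (G ⧸ Subgroup.center G) = p ^ a * q ∧
        ∀ P : Subgroup (G ⧸ Subgroup.center G), Nat.card ↥P = p ^ a → P.Normal) := by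
  classical
  have hcz : ∀ x : G, x ∈ zc (⊤ : Subgroup G) ↔ x ∈ Subgroup.center G := fun x => by
    rw [mem_zc, Subgroup.mem_center_iff]
    exact ⟨fun h' g => (h'.2 g (Subgroup.mem_top g)).eq, fun h' => ⟨Subgroup.mem_top x, fun g _ => h' g⟩⟩
  have hH : Hyp (⊤ : Subgroup G) := fun x _ hxZ => h x fun hc => hxZ ((hcz x).2 hc)
  set π := QuotientGroup.mk' (Subgroup.center G) with hπ
  have hπ1 : ∀ a : G, π a = 1 ↔ a ∈ zc (⊤ : Subgroup G) := fun a => by
    rw [hcz]; exact QuotientGroup.eq_one_iff a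
  by_cases hnil : Group.IsNilpotent (⊤ : Subgroup G)
  · left
    obtain ⟨p, hp, hc, he⟩ := nilpotent_case _ hH hnil
    refine ⟨p, hp, ⟨⟨fun a b => Subtype.ext ?_⟩⟩, fun a _ => ?_⟩
    · obtain ⟨x, hx⟩ := QuotientGroup.mk'_surjective _ (a : G ⧸ Subgroup.center G)
      obtain ⟨y, hy⟩ := QuotientGroup.mk'_surjective _ (b : G ⧸ Subgroup.center G)
      show (a : G ⧸ Subgroup.center G) * b = b * a
      rw [← hx, ← hy]
      have h1 : π (x * y * x⁻¹ * y⁻¹) = 1 := (hπ1 _).2 (hc x (Subgroup.mem_top x) y (Subgroup.mem_top y))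
      rw [map_mul, map_mul, map_mul, map_inv, map_inv] at h1
      exact (commutatorElement_eq_one_iff_commute.1 h1).eq
    · obtain ⟨x, rfl⟩ := QuotientGroup.mk'_surjective _ a
      rw [← map_pow]
      exact (hπ1 _).2 (he x (Subgroup.mem_top x))
  right
  obtain ⟨A, p, r, hAn, hp, hr, hpr, hZA, -, hANne, hAne, hAab, hAp, hNr, hfpf, hmin⟩ :=
    structure_thm _ hH hnil
  haveI := hAn
  haveI := Fact.mk hp
  haveI := Fact.mk hr
  set K := A.map π with hK
  haveI hKn : K.Normal := Subgroup.Normal.map inferInstance π (QuotientGroup.mk'_surjective _)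
  haveI hKab : IsMulCommutative K := ⟨⟨fun a b => Subtype.ext (by
    obtain ⟨x, hx, hxa⟩ := a.2
    obtain ⟨y, hy, hyb⟩ := b.2
    show (a : G ⧸ Subgroup.center G) * b = b * a
    rw [← hxa, ← hyb, ← map_mul, ← map_mul]
    exact congrArg π (hAab _ hx _ hy).eq)⟩⟩
  have hmemK : ∀ n : G, π n ∈ K → n ∈ A := by
    rintro n ⟨a, ha, hae⟩
    have h1 : π (a⁻¹ * n) = 1 := by rw [map_mul, map_inv, hae, inv_mul_cancel]
    have e : n = a * (a⁻¹ * n) := by group
    rw [e]; exact mul_mem ha (hZA ((hπ1 _).1 h1))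
  have hKb : K ≠ ⊥ := by
    intro e
    apply hAne
    refine le_antisymm (fun a ha => ?_) hZA
    exact (hπ1 a).1 (Subgroup.mem_bot.1 (e ▸ Subgroup.mem_map_of_mem π ha))
  have hKt : K ≠ ⊤ := fun e => hANne (eq_top_iff.2 fun n _ => hmemK n (e ▸ Subgroup.mem_top _))
  have hKexp : ∀ a ∈ K, a ^ p = 1 := by
    rintro _ ⟨a, ha, rfl⟩; rw [← map_pow]; exact (hπ1 _).2 (hAp _ ha)
  have hKfpf : ∀ a ∈ K, ∀ q : G ⧸ Subgroup.center G, Commute a q → a = 1 ∨ q ∈ K := by
    rintro _ ⟨a, ha, rfl⟩ q hq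
    obtain ⟨n, rfl⟩ := QuotientGroup.mk'_surjective _ q
    have h1 : π (a * n * a⁻¹ * n⁻¹) = 1 := by
      rw [map_mul, map_mul, map_mul, map_inv, map_inv]
      exact commutatorElement_eq_one_iff_commute.2 hq
    rcases hfpf _ ha n (Subgroup.mem_top n) ((hπ1 _).1 h1) with h' | h'
    · exact Or.inl ((hπ1 a).2 h')
    · exact Or.inr (Subgroup.mem_map_of_mem π h')
  obtain ⟨E, hc, hEr, hEb, hfix⟩ := complement_prime K hp hr hpr hKb hKt hKexp
    (fun q => by
      obtain ⟨n, rfl⟩ := QuotientGroup.mk'_surjective _ q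
      exact ⟨n ^ r, hNr n (Subgroup.mem_top n), map_pow π n r⟩) hKfpf
  have hidx : K.index = r := by rw [hc.symm.index_eq_card, hEr]
  obtain ⟨k, hk⟩ := IsPGroup.iff_card.1 (show IsPGroup p K from fun x => ⟨1, Subtype.ext (by
    rw [pow_one, SubgroupClass.coe_pow]; exact hKexp x x.2)⟩)
  obtain ⟨a0, ha0, ha01⟩ := (Subgroup.bot_or_exists_ne_one K).resolve_left hKb
  obtain ⟨e0, he0, he01⟩ := (Subgroup.bot_or_exists_ne_one E).resolve_left hEb
  refine ⟨fun hab => he01 ?_, fun H hH' => ?_, p, r, k, hp, hr, hpr, ?_, fun P hP => ?_⟩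
  · rcases hKfpf a0 ha0 e0 (mul_comm' a0 e0) with h' | h'
    · exact absurd h' ha01
    · exact Subgroup.disjoint_def.1 hc.disjoint h' he0
  · by_cases hHK : H ≤ K
    · exact ⟨⟨fun a b => Subtype.ext (by exact congrArg (fun z : K => (z : G ⧸ Subgroup.center G)) (hKab.is_comm.comm ⟨a, hHK a.2⟩ ⟨b, hHK b.2⟩))⟩⟩
    have hsup : K ⊔ H = ⊤ := by
      have hne : K ⊔ H ≠ K := fun e => hHK (e ▸ le_sup_right)
      have h1 := Subgroup.relIndex_mul_index (H := K) (K := K ⊔ H) le_sup_left
      rw [hidx] at h1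
      rcases (Nat.dvd_prime hr).1 (Dvd.intro_left _ h1) with h2 | h2
      · exact Subgroup.index_eq_one.1 h2
      · exfalso
        rw [h2] at h1
        exact hne (le_antisymm (Subgroup.relIndex_eq_one.1 (mul_eq_right₀ hr.ne_zero |>.1 h1)) le_sup_left)
    haveI hn : (K ⊓ H).Normal := by
      refine normal_of_normalized hsup (fun b hb => mem_normalizer_of_conj_smul ?_) (fun c hc' =>
        mem_normalizer_of_conj_smul ?_)
      · refine Subgroup.eq_of_le_of_card_ge (fun w hw => ?_) (by rw [card_conj_smul])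
        rw [mem_conj_smul] at hw
        have hw1 := hw.1
        have e : w = b⁻¹ * w * b := by
          have hwK : w ∈ K := by
            have e' : w = b * (b⁻¹ * w * b) * b⁻¹ := by group
            rw [e']; exact mul_mem (mul_mem hb hw1) (inv_mem hb)
          have := congrArg Subtype.val (hKab.is_comm.comm ⟨b, hb⟩ ⟨w, hwK⟩)
          simp only [Subgroup.coe_mul] at this
          rw [mul_assoc, ← this, inv_mul_cancel_left]
        rw [e]; exact hw
      · refine Subgroup.eq_of_le_of_card_ge (fun w hw => ?_) (by rw [card_conj_smul])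
        rw [mem_conj_smul] at hw
        have e : w = c * (c⁻¹ * w * c) * c⁻¹ := by group
        rw [e]
        exact ⟨hKn.conj_mem _ hw.1 c, H.mul_mem (H.mul_mem hc' hw.2) (H.inv_mem hc')⟩
    have hpull : K ⊓ H = ⊥ ∨ K ⊓ H = K := by
      have h2 : ((K ⊓ H).comap π) ≤ A := fun g hg => hmemK g hg.1
      rcases hmin ((K ⊓ H).comap π) (hn.comap π) (fun z hz => by
        rw [Subgroup.mem_comap, (hπ1 z).2 hz]; exact one_mem _) h2 with h3 | h3
      · left
        rw [eq_bot_iff]
        intro q hq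
        obtain ⟨g, rfl⟩ := QuotientGroup.mk'_surjective _ q
        exact Subgroup.mem_bot.2 ((hπ1 g).2 (h3.le (Subgroup.mem_comap.2 hq)))
      · right
        refine le_antisymm inf_le_left ?_
        rintro _ ⟨a, ha, rfl⟩
        exact Subgroup.mem_comap.1 (h3.ge ha)
    rcases hpull with h3 | h3
    · have hcard : Nat.card H ∣ r := by
        have := card_map_mk'_mul_card_inf K H
        rw [h3, Subgroup.card_bot, mul_one] at this
        rw [← this, ← hidx, Subgroup.index_eq_card]
        exact Subgroup.card_subgroup_dvd_card _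
      rcases (Nat.dvd_prime hr).1 hcard with h4 | h4
      · haveI := (Nat.card_eq_one_iff_unique.1 h4).1
        exact ⟨⟨fun a b => Subsingleton.elim _ _⟩⟩
      · haveI := isCyclic_of_prime_card h4
        exact ⟨⟨fun a b => (IsCyclic.commGroup (α := H)).mul_comm a b⟩⟩
    · exact absurd (top_le_iff.1 (hsup ▸ sup_le (h3 ▸ inf_le_right) le_rfl)) hH'
  · rw [← K.card_mul_index, hk, hidx]
  · have hPK : P = K := by
      refine Subgroup.eq_of_le_of_card_ge ?_ (by rw [hP, hk])
      refine le_of_coprime_index K P ?_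
      rw [hP, hidx]
      exact ((Nat.coprime_primes hp hr).2 hpr).pow_left k
    rw [hPK]; exact hKn

end Cfsg.Agent.S3904
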