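import Cfsg.Statements.S3905
import Cfsg.Agent.Lib.Solv.MaxCentralizer
import Cfsg.Agent.Lib.Solv.FrobeniusGK

set_option autoImplicit false
set_option linter.style.haveILetI false
open Cfsg

open scoped Pointwise commutatorElement

namespace Cfsg.Agent.S3905

open Cfsg.Agent.Solv Cfsg.Agent.Solv.MaxCentralizer

/-- Let N be a normal subgroup of the finite group G such that for every element x of N outside the center of N the centralizer C_G(x) is a maximal subgroup of G. Then N/Z(N) is either an elementary abelian p-group for some prime p, or a Frobenius group whose kernel is an elementary abelian normal subgroup and whose complement has prime order. -/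
theorem result {G : Type*} [Group G] [Finite G] (N : Subgroup G) [N.Normal]
    (h : ∀ x : G, x ∈ N → x ∉ Subgroup.centralizer (N : Set G) → IsCoatom (Subgroup.centralizer ({x} : Set G))) :
    (∃ p : ℕ, p.Prime ∧ Cfsg.IsElementaryAbelian p (⊤ : Subgroup (↥N ⧸ Subgroup.center ↥N))) ∨
    (∃ (Q K : Subgroup (↥N ⧸ Subgroup.center ↥N)) (p : ℕ), p.Prime ∧ Cfsg.IsFrobeniusComplement Q ∧ (Nat.card ↥Q).Prime ∧
      K.Normal ∧ (K : Set (↥N ⧸ Subgroup.center ↥N)) = Cfsg.frobeniusKernel Q ∧ Cfsg.IsElementaryAbelian p K) := by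
  classical
  have hH : Hyp N := fun x hx hxZ => h x hx fun hc => hxZ (Subgroup.mem_inf.2 ⟨hx, hc⟩)
  set π := QuotientGroup.mk' (Subgroup.center ↥N) with hπ
  have hπ1 : ∀ a : ↥N, π a = 1 ↔ (a : G) ∈ zc N := fun a => by
    rw [← mem_center_subtype]; exact QuotientGroup.eq_one_iff a
  by_cases hnil : Group.IsNilpotent N
  · left
    obtain ⟨p, hp, hc, he⟩ := nilpotent_case N hH hnil
    refine ⟨p, hp, ⟨⟨fun a b => Subtype.ext ?_⟩⟩, fun a _ => ?_⟩
    · obtain ⟨x, hx⟩ := QuotientGroup.mk'_surjective _ (a : ↥N ⧸ Subgroup.center ↥N)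
      obtain ⟨y, hy⟩ := QuotientGroup.mk'_surjective _ (b : ↥N ⧸ Subgroup.center ↥N)
      show (a : ↥N ⧸ Subgroup.center ↥N) * b = b * a
      rw [← hx, ← hy]
      have h1 : π (x * y * x⁻¹ * y⁻¹) = 1 := (hπ1 _).2 (by simpa using hc x x.2 y y.2)
      rw [map_mul, map_mul, map_mul, map_inv, map_inv] at h1
      exact (commutatorElement_eq_one_iff_commute.1 h1).eq
    · obtain ⟨x, rfl⟩ := QuotientGroup.mk'_surjective _ a
      rw [← map_pow]
      exact (hπ1 _).2 (by simpa using he x x.2)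
  right
  obtain ⟨A, p, r, hAn, hp, hr, hpr, hZA, hAN, hANne, hAne, hAab, hAp, hNr, hfpf, -⟩ :=
    structure_thm N hH hnil
  haveI := hAn
  haveI : (A.subgroupOf N).Normal := hAn.comap _
  set K := (A.subgroupOf N).map π with hK
  haveI : K.Normal := Subgroup.Normal.map inferInstance π (QuotientGroup.mk'_surjective _)
  haveI : IsMulCommutative K := ⟨⟨fun a b => Subtype.ext (by
    obtain ⟨x, hx, hxa⟩ := a.2
    obtain ⟨y, hy, hyb⟩ := b.2
    show (a : ↥N ⧸ Subgroup.center ↥N) * b = b * a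
    rw [← hxa, ← hyb, ← map_mul, ← map_mul]
    exact congrArg π (Subtype.ext (hAab _ hx _ hy).eq))⟩⟩
  have hmemK : ∀ n : ↥N, π n ∈ K → (n : G) ∈ A := by
    rintro n ⟨a, ha, hae⟩
    have h1 : π (a⁻¹ * n) = 1 := by rw [map_mul, map_inv, hae, inv_mul_cancel]
    have h2 := hZA ((hπ1 _).1 h1)
    have e : (n : G) = (a : G) * ((a : G)⁻¹ * n) := by group
    rw [e]; exact mul_mem ha (by simpa using h2)
  have hKb : K ≠ ⊥ := by
    intro e
    apply hAne
    refine le_antisymm (fun a ha => ?_) hZA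
    exact (hπ1 ⟨a, hAN ha⟩).1 (Subgroup.mem_bot.1 (e ▸ Subgroup.mem_map_of_mem π (show (⟨a, hAN ha⟩ : ↥N) ∈ A.subgroupOf N from ha)))
  have hKt : K ≠ ⊤ := fun e => hANne (le_antisymm hAN fun n hn => hmemK ⟨n, hn⟩ (e ▸ Subgroup.mem_top _))
  obtain ⟨E, hc, hEr, hEb, hfix⟩ := complement_prime K hp hr hpr hKb hKt
    (by rintro _ ⟨a, ha, rfl⟩; rw [← map_pow]; exact (hπ1 _).2 (by simpa using hAp _ ha))
    (fun q => by
      obtain ⟨n, rfl⟩ := QuotientGroup.mk'_surjective _ q
      exact ⟨n ^ r, by simpa [Subgroup.mem_subgroupOf] using hNr n n.2, map_pow π n r⟩)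
    (by
      rintro _ ⟨a, ha, rfl⟩ q hq
      obtain ⟨n, rfl⟩ := QuotientGroup.mk'_surjective _ q
      have h1 : π (a * n * a⁻¹ * n⁻¹) = 1 := by
        rw [map_mul, map_mul, map_mul, map_inv, map_inv]
        exact commutatorElement_eq_one_iff_commute.2 hq
      rcases hfpf _ ha _ n.2 (by simpa using (hπ1 _).1 h1) with h' | h'
      · exact Or.inl ((hπ1 a).2 h')
      · exact Or.inr (Subgroup.mem_map_of_mem π h'))
  obtain ⟨hF, hker⟩ := frob_of_fpf_complement hc hKb hEb hfix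
  exact ⟨E, K, p, hp, hF, hEr ▸ hr, ‹K.Normal›, hker.symm, ‹IsMulCommutative K›, by
    rintro _ ⟨a, ha, rfl⟩; rw [← map_pow]; exact (hπ1 _).2 (by simpa using hAp _ ha)⟩

end Cfsg.Agent.S3905
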