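import Cfsg.Statements.S3908
import Cfsg.Agent.Lib.Solv.UniqueSub
import Cfsg.Agent.Lib.Solv.Coprime

set_option autoImplicit false
set_option linter.style.haveILetI false
open Cfsg

open scoped Pointwise commutatorElement

namespace Cfsg.Agent.S3908

theorem key {G : Type*} [Group G] [Finite G]
    (hB : ∀ A B : Subgroup G, IsMulCommutative ↥A → IsMulCommutative ↥B →
      Nat.card ↥A = Nat.card ↥B → ∃ g : G, B = A.map (MulAut.conj g).toMonoidHom)
    (p : ℕ) [hp : Fact p.Prime] (P : Sylow p G) :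
    IsCyclic ↥(P : Subgroup G) ∨
      (p = 2 ∧ ∃ n : ℕ, Nonempty (↥(P : Subgroup G) ≃* QuaternionGroup (2 ^ n))) ∨
      ∀ x ∈ (P : Subgroup G), x ^ p = 1 := by
  by_cases hu : Solv.UniqueOrderP p (P : Subgroup G)
  · rcases Solv.cyclic_or_quaternion P.isPGroup' hu with h | h
    · exact Or.inl h
    · exact Or.inr (Or.inl h)
  refine Or.inr (Or.inr fun g hg => ?_)
  by_contra hgp
  simp only [Solv.UniqueOrderP, not_forall] at hu
  obtain ⟨x, y, hx, hy, hy1, hxy⟩ := hu
  haveI : Nontrivial (P : Subgroup G) := ⟨⟨y, 1, hy1⟩⟩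
  haveI := P.isPGroup'.center_nontrivial
  obtain ⟨⟨z, hzc⟩, hz⟩ := exists_prime_orderOf_dvd_card' (G := Subgroup.center (P : Subgroup G)) p
    (by
      obtain ⟨n, hn⟩ := IsPGroup.iff_card.1 (P.isPGroup'.to_subgroup (Subgroup.center _))
      rw [hn]
      refine dvd_pow_self p fun h0 => ?_
      rw [h0, pow_zero] at hn
      exact Finite.one_lt_card.ne' hn)
  rw [← Subgroup.orderOf_coe] at hz
  change orderOf z = p at hz
  have hz1 : z ≠ 1 := fun h => by
    rw [h, orderOf_one] at hz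
    exact hp.out.one_lt.ne hz
  have hzp : z ^ p = 1 := orderOf_dvd_iff_pow_eq_one.1 hz.dvd
  obtain ⟨w, hw, hwz⟩ : ∃ w : (P : Subgroup G), w ^ p = 1 ∧ w ∉ Subgroup.zpowers z := by
    by_contra hall
    simp only [not_exists, not_and, not_not] at hall
    have hy' := hall y hy
    have : Subgroup.zpowers y = Subgroup.zpowers z :=
      Subgroup.eq_of_le_of_card_ge (Subgroup.zpowers_le.2 hy') (by
        rw [Nat.card_zpowers, Nat.card_zpowers, hz, orderOf_eq_prime hy hy1])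
    exact hxy (this ▸ hall x hx)
  have hw1 : w ≠ 1 := fun h => hwz (h ▸ one_mem _)
  have hwo : orderOf w = p := orderOf_eq_prime hw hw1
  have hcomm : ∀ a b : ℤ, Commute (z ^ a) (w ^ b) := fun a b =>
    Commute.zpow_zpow (show Commute z w from (Subgroup.mem_center_iff.1 hzc w).symm) a b
  have hn : Subgroup.zpowers w ≤ Subgroup.normalizer (Subgroup.zpowers z : Set _) := by
    intro v hv
    obtain ⟨b, rfl⟩ := Subgroup.mem_zpowers_iff.1 hv
    refine Solv.mem_normalizer_of_conj_smul (le_antisymm ?_ ?_)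
    · rintro _ ⟨u, hu, rfl⟩
      obtain ⟨a, rfl⟩ := Subgroup.mem_zpowers_iff.1 hu
      show w ^ b * z ^ a * (w ^ b)⁻¹ ∈ _
      rw [← (hcomm a b).eq, mul_inv_cancel_right]
      exact hu
    · intro u hu
      refine ⟨u, hu, ?_⟩
      obtain ⟨a, rfl⟩ := Subgroup.mem_zpowers_iff.1 hu
      show w ^ b * z ^ a * (w ^ b)⁻¹ = _
      rw [← (hcomm a b).eq, mul_inv_cancel_right]
  have hcard := Solv.card_sup_mul_card_inf' _ _ hn
  have hinf : Subgroup.zpowers z ⊓ Subgroup.zpowers w = ⊥ := by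
    have : Fact (Nat.card (Subgroup.zpowers w)).Prime :=
      ⟨by rw [Nat.card_zpowers, hwo]; exact hp.out⟩
    rcases ((Subgroup.zpowers z).subgroupOf
      (Subgroup.zpowers w)).eq_bot_or_eq_top_of_prime_card with h | h
    · rwa [Subgroup.subgroupOf_eq_bot, disjoint_iff] at h
    · exact absurd (Subgroup.subgroupOf_eq_top.1 h (Subgroup.mem_zpowers w)) hwz
  rw [hinf, Subgroup.card_bot, mul_one, Nat.card_zpowers, Nat.card_zpowers, hz, hwo] at hcard
  obtain ⟨E, hE⟩ : ∃ E, E = (Subgroup.zpowers z ⊔ Subgroup.zpowers w).map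
    (P : Subgroup G).subtype := ⟨_, rfl⟩
  have hEcard : Nat.card E = p * p := by
    rw [hE, Subgroup.card_map_of_injective (P : Subgroup G).subtype_injective, hcard]
  have hEmem : ∀ e ∈ E, ∃ a b : ℤ, e = ((z ^ a * w ^ b : (P : Subgroup G)) : G) := by
    rw [hE]
    rintro _ ⟨v, hv, rfl⟩
    have hv' : v ∈ ((Subgroup.zpowers z ⊔ Subgroup.zpowers w : Subgroup _) : Set _) := hv
    rw [Subgroup.coe_mul_of_right_le_normalizer_left _ _ hn] at hv'
    obtain ⟨_, ⟨a, rfl⟩, _, ⟨b, rfl⟩, rfl⟩ := hv'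
    exact ⟨a, b, rfl⟩
  have hEab : IsMulCommutative E := ⟨⟨fun e f => Subtype.ext (by
    obtain ⟨a, b, hab⟩ := hEmem e e.2
    obtain ⟨c, d, hcd⟩ := hEmem f f.2
    show (e : G) * f = f * e
    rw [hab, hcd, ← Subgroup.coe_mul, ← Subgroup.coe_mul]
    congr 1
    exact ((((Commute.refl z).zpow_zpow a c).mul_left (hcomm c b).symm).mul_right
      ((hcomm a d).mul_left ((Commute.refl w).zpow_zpow b d))).eq)⟩⟩
  have hEexp : ∀ e ∈ E, e ^ p = 1 := fun e he => by
    obtain ⟨a, b, rfl⟩ := hEmem e he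
    rw [← SubgroupClass.coe_pow, (hcomm a b).mul_pow, ← zpow_natCast, ← zpow_natCast (w ^ b),
      ← zpow_mul, ← zpow_mul, mul_comm a, mul_comm b, zpow_mul, zpow_mul, zpow_natCast,
      zpow_natCast, hzp, hw, one_zpow, one_zpow, one_mul, Subgroup.coe_one]
  obtain ⟨k, hk⟩ := IsPGroup.iff_orderOf.1 P.isPGroup' ⟨g, hg⟩
  rw [← Subgroup.orderOf_coe] at hk
  have hk2 : 2 ≤ k := by
    by_contra h
    exact hgp (orderOf_dvd_iff_pow_eq_one.1
      (hk.dvd.trans ((pow_dvd_pow p (show k ≤ 1 by omega)).trans (pow_one p).dvd)))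
  obtain ⟨g', hg'⟩ : ∃ g', g' = g ^ p ^ (k - 2) := ⟨_, rfl⟩
  have hog : orderOf g' = p * p := by
    rw [hg', orderOf_pow_of_dvd (pow_ne_zero _ hp.out.ne_zero) (hk ▸ pow_dvd_pow p (by omega)), hk,
      Nat.pow_div (by omega) hp.out.pos, show k - (k - 2) = 2 by omega, sq]
  obtain ⟨c, hc⟩ := hB E (Subgroup.zpowers g') hEab inferInstance
    (by rw [hEcard, Nat.card_zpowers, hog])
  have hgc : g' ∈ E.map (MulAut.conj c).toMonoidHom := hc ▸ Subgroup.mem_zpowers g'
  obtain ⟨e, he, heg⟩ := hgc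
  have h1 : g' ^ p = 1 := by rw [← heg, ← map_pow, hEexp e he, map_one]
  have h2 := orderOf_dvd_of_pow_eq_one h1
  rw [hog] at h2
  exact absurd (Nat.le_of_dvd hp.out.pos h2) (by nlinarith [hp.out.one_lt])

/-- Let G be a finite group in which any two abelian subgroups of the same order are conjugate. Then a Sylow 2-subgroup of G is cyclic, elementary abelian or generalized quaternion, and for an odd prime p a Sylow p-subgroup of G is cyclic or has exponent dividing p. -/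
theorem result {G : Type*} [Group G] [Finite G] (hB : ∀ A B : Subgroup G, IsMulCommutative ↥A → IsMulCommutative ↥B → Nat.card ↥A = Nat.card ↥B → ∃ g : G, B = A.map (MulAut.conj g).toMonoidHom) :
    (∀ P : Sylow 2 G, IsCyclic ↥(P : Subgroup G) ∨ Cfsg.IsElementaryAbelian 2 (P : Subgroup G) ∨ ∃ k : ℕ, Nonempty (↥(P : Subgroup G) ≃* QuaternionGroup (2 ^ k))) ∧
    ∀ (p : ℕ) [Fact p.Prime], p ≠ 2 → ∀ P : Sylow p G, IsCyclic ↥(P : Subgroup G) ∨ ∀ x ∈ (P : Subgroup G), x ^ p = 1 := by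
  refine ⟨fun P => ?_, fun p _ hp2 P => ?_⟩
  · rcases key hB 2 P with h | ⟨-, h⟩ | h
    · exact Or.inl h
    · exact Or.inr (Or.inr h)
    · refine Or.inr (Or.inl ⟨⟨⟨fun a b => Subtype.ext ?_⟩⟩, h⟩)
      show (a : G) * b = b * a
      have ha : (a : G)⁻¹ = a := inv_eq_of_mul_eq_one_left (by rw [← sq]; exact h a a.2)
      have hb : (b : G)⁻¹ = b := inv_eq_of_mul_eq_one_left (by rw [← sq]; exact h b b.2)
      have hab : ((a : G) * b)⁻¹ = a * b :=
        inv_eq_of_mul_eq_one_left (by rw [← sq]; exact h _ (mul_mem a.2 b.2))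
      rw [mul_inv_rev, ha, hb] at hab
      exact hab.symm
  · rcases key hB p P with h | ⟨h2, -⟩ | h
    · exact Or.inl h
    · exact absurd h2 hp2
    · exact Or.inr h

end Cfsg.Agent.S3908
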