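import Cfsg.Statements.S3909
import Cfsg.Agent.Lib.Solv.Basic

set_option autoImplicit false
open Cfsg

open scoped Pointwise commutatorElement

namespace Cfsg.Agent.S3909

/-- Let G be a finite group in which any two abelian subgroups of the same order are conjugate. Let M be a normal subgroup of G. If M contains an element of the same order as a ∈ G, then a ∈ M; and if M is elementary abelian of order p^t with p prime and t ≥ 2, then M is the unique Sylow p-subgroup of G. -/
theorem result {G : Type*} [Group G] [Finite G] (hB : ∀ A B : Subgroup G, IsMulCommutative ↥A → IsMulCommutative ↥B → Nat.card ↥A = Nat.card ↥B → ∃ g : G, B = A.map (MulAut.conj g).toMonoidHom) (M : Subgroup G) [M.Normal] :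
    (∀ a : G, (∃ m ∈ M, orderOf m = orderOf a) → a ∈ M) ∧
    ∀ (p t : ℕ) [Fact p.Prime], 2 ≤ t → Nat.card ↥M = p ^ t → Cfsg.IsElementaryAbelian p M → ∀ P : Sylow p G, (P : Subgroup G) = M := by
  have key : ∀ a : G, ∀ A : Subgroup G, A ≤ M → IsMulCommutative A → Nat.card A = orderOf a → a ∈ M ∧
      IsCyclic A := by
    intro a A hA hAc hcard
    obtain ⟨g, hg⟩ := hB A (Subgroup.zpowers a) hAc inferInstance (by rw [Nat.card_zpowers, hcard])
    refine ⟨?_, ?_⟩
    · obtain ⟨x, hx, e⟩ := hg.le (Subgroup.mem_zpowers a)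
      rw [← e]
      exact (‹M.Normal›).conj_mem x (hA hx) g
    · have : IsCyclic (A.map (MulAut.conj g).toMonoidHom) := hg ▸ (inferInstance : IsCyclic (Subgroup.zpowers a))
      exact (Subgroup.equivMapOfInjective A (MulAut.conj g).toMonoidHom (MulAut.conj g).injective).isCyclic.2 this
  refine ⟨fun a ⟨m, hm, he⟩ => (key a (Subgroup.zpowers m) (Subgroup.zpowers_le.2 hm) inferInstance
    (by rw [Nat.card_zpowers, he])).1, fun p t _ ht hcard hel P => ?_⟩
  have hp : p.Prime := Fact.out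
  have hMp : IsPGroup p M := IsPGroup.of_card hcard
  have hMP : M ≤ P := by
    obtain ⟨Q, hQ⟩ := hMp.exists_le_sylow
    obtain ⟨g, rfl⟩ := MulAction.exists_smul_eq G Q P
    intro x hx
    show x ∈ MulAut.conj g • (Q : Subgroup G)
    rw [Solv.mem_conj_smul]
    refine hQ ?_
    simpa using (‹M.Normal›).conj_mem x hx g⁻¹
  refine le_antisymm (fun x hx => ?_) hMP
  obtain ⟨k, hk⟩ := IsPGroup.iff_orderOf.1 P.isPGroup' ⟨x, hx⟩
  rw [Subgroup.orderOf_mk] at hk
  have hexists : ∀ j, j ≤ t → ∃ A : Subgroup G, A ≤ M ∧ IsMulCommutative A ∧ Nat.card A = p ^ j ∧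
      ∀ a ∈ A, a ^ p = 1 := by
    intro j hj
    obtain ⟨A, hA⟩ := Sylow.exists_subgroup_card_pow_prime p (G := M) (n := j) (hcard ▸ pow_dvd_pow p hj)
    exact ⟨A.map M.subtype, Subgroup.map_subtype_le A, ⟨⟨fun a b => Subtype.ext
      (congrArg (fun t : M => (t : G)) (hel.1.is_comm.comm ⟨a, Subgroup.map_subtype_le A a.2⟩
        ⟨b, Subgroup.map_subtype_le A b.2⟩))⟩⟩, by rw [Solv.card_map_subtype, hA],
      fun a ha => hel.2 a (Subgroup.map_subtype_le A ha)⟩
  rcases Nat.lt_or_ge k 2 with hk2 | hk2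
  · obtain ⟨A, hA, hAc, hAcard, -⟩ := hexists k (by omega)
    exact (key x A hA hAc (hAcard.trans hk.symm)).1
  · exfalso
    have ho : orderOf (x ^ p ^ (k - 2)) = p ^ 2 := by
      rw [orderOf_pow_of_dvd (pow_ne_zero _ hp.ne_zero) (hk ▸ pow_dvd_pow p (Nat.sub_le k 2)), hk,
        Nat.pow_div (Nat.sub_le k 2) hp.pos]
      congr 1; omega
    obtain ⟨A, hA, hAc, hAcard, hAe⟩ := hexists 2 ht
    obtain ⟨⟨c, hc⟩, hgen⟩ := (key _ A hA hAc (hAcard.trans ho.symm)).2.exists_generator
    have h1 : Nat.card A ≤ p := by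
      rw [← orderOf_eq_card_of_forall_mem_zpowers hgen, Subgroup.orderOf_mk]
      exact Nat.le_of_dvd hp.pos (orderOf_dvd_of_pow_eq_one (hAe c hc))
    rw [hAcard] at h1
    have := hp.two_le
    nlinarith

end Cfsg.Agent.S3909
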