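import Cfsg.Statements.S3910
import Cfsg.Agent.Lib.Solv.UniqueSub
import Cfsg.Agent.Lib.Solv.DirectFactor
import Cfsg.Agent.Lib.Perm.Schmidt
import Mathlib.GroupTheory.SpecificGroups.ZGroup

set_option autoImplicit false
open Cfsg

open scoped Pointwise commutatorElement

namespace Cfsg.Agent.S3910

theorem conj_in_sylow {G : Type*} [Group G] [Finite G]
    (hB : ∀ A B : Subgroup G, IsMulCommutative ↥A → IsMulCommutative ↥B → Nat.card ↥A = Nat.card ↥B →
      ∃ g : G, B = A.map (MulAut.conj g).toMonoidHom) (hnil : Group.IsNilpotent G)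
    {p : ℕ} [Fact p.Prime] (P : Sylow p G) (A B : Subgroup (P : Subgroup G)) (hA : IsMulCommutative A)
    (hB' : IsMulCommutative B) (hcard : Nat.card A = Nat.card B) :
    ∃ a : (P : Subgroup G), B = MulAut.conj a • A := by
  have htop : Group.IsNilpotent (⊤ : Subgroup G) := Group.nilpotent_of_mulEquiv Subgroup.topEquiv.symm
  obtain ⟨-, K, -, -, hs, hKc⟩ := Solv.exists_direct_factor P fun q hq hqp Q hQ => by
    have := Fact.mk hq
    exact Cfsg.Agent.Perm.commute_of_le_nilpotent htop hqp hQ P.isPGroup' le_top le_top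
  have hab : ∀ X : Subgroup (P : Subgroup G), IsMulCommutative X →
      IsMulCommutative (X.map (P : Subgroup G).subtype) := fun X hX => ⟨⟨by
    rintro ⟨_, u, hu, rfl⟩ ⟨_, v, hv, rfl⟩
    exact Subtype.ext (congrArg (fun t : X => ((t : (P : Subgroup G)) : G)) (hX.is_comm.comm ⟨u, hu⟩ ⟨v, hv⟩))⟩⟩
  obtain ⟨g, hg⟩ := hB _ _ (hab A hA) (hab B hB') (by rw [Solv.card_map_subtype, Solv.card_map_subtype, hcard])
  have hn : (P : Subgroup G).Normal := Cfsg.Agent.Perm.sylow_normal_of_nilpotent hnil P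
  obtain ⟨a, ha, k, hk, rfl⟩ := Subgroup.mem_sup_of_normal_left.1 (hs.ge (Subgroup.mem_top g))
  refine ⟨⟨a, ha⟩, Subgroup.map_injective (P : Subgroup G).subtype_injective ?_⟩
  rw [hg, Solv.map_conj_smul, ← Solv.conj_smul_eq_map, ← Solv.conj_smul_conj]
  refine congrArg (MulAut.conj a • ·) ?_
  refine Subgroup.eq_of_le_of_card_ge ?_ (by rw [Solv.card_conj_smul])
  rw [Solv.conj_smul_eq_map]
  rintro _ ⟨_, ⟨u, hu, rfl⟩, rfl⟩
  refine ⟨u, hu, ?_⟩
  show (u : G) = k * u * k⁻¹
  rw [← Subgroup.mem_centralizer_iff.1 (hKc hk) (u : G) u.2, mul_inv_cancel_right]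

theorem sylow_cyclic {G : Type*} [Group G] [Finite G]
    (hB : ∀ A B : Subgroup G, IsMulCommutative ↥A → IsMulCommutative ↥B → Nat.card ↥A = Nat.card ↥B →
      ∃ g : G, B = A.map (MulAut.conj g).toMonoidHom) (hnil : Group.IsNilpotent G)
    {p : ℕ} [Fact p.Prime] (P : Sylow p G) : IsCyclic P := by
  have hp : p.Prime := Fact.out
  rcases subsingleton_or_nontrivial (P : Subgroup G) with h | h
  · exact isCyclic_of_subsingleton
  have hnt := P.isPGroup'.center_nontrivial
  obtain ⟨z₀, hz₀⟩ := exists_prime_orderOf_dvd_card' (G := Subgroup.center (P : Subgroup G)) p (by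
    obtain ⟨k, hk⟩ := IsPGroup.iff_card.mp (P.isPGroup'.to_subgroup (Subgroup.center (P : Subgroup G)))
    rw [hk]
    refine dvd_pow_self p fun h0 => ?_
    rw [h0, pow_zero] at hk
    have := Finite.one_lt_card (α := Subgroup.center (P : Subgroup G))
    omega)
  rw [← orderOf_submonoid z₀] at hz₀
  set z : (P : Subgroup G) := (z₀ : (P : Subgroup G))
  set Z := Subgroup.zpowers z
  have hZc : ∀ a : (P : Subgroup G), MulAut.conj a • Z = Z := by
    intro a
    rw [Solv.conj_smul_eq_map, MonoidHom.map_zpowers]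
    show Subgroup.zpowers (a * z * a⁻¹) = Z
    rw [Subgroup.mem_center_iff.1 z₀.2 a, mul_inv_cancel_right]
  have hu : Solv.UniqueOrderP p (P : Subgroup G) := Solv.uniqueOrderP_of_subgroups fun H K hH hK => by
    have key : ∀ H : Subgroup (P : Subgroup G), Nat.card H = p → H = Z := by
      intro H hH
      have : IsCyclic H := isCyclic_of_prime_card hH
      obtain ⟨a, ha⟩ := conj_in_sylow hB hnil P Z H inferInstance inferInstance
        (by rw [Nat.card_zpowers, hz₀, hH])
      rw [ha, hZc]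
    rw [key H hH, key K hK]
  rcases Solv.cyclic_or_quaternion P.isPGroup' hu with h | ⟨rfl, k, ⟨e⟩⟩
  · exact h
  rcases Nat.eq_zero_or_pos k with rfl | hk
  · have : IsCyclic (QuaternionGroup (2 ^ 0)) := QuaternionGroup.quaternionGroup_one_isCyclic
    exact e.isCyclic.2 this
  exfalso
  have : NeZero (2 ^ k) := ⟨pow_ne_zero _ two_ne_zero⟩
  obtain ⟨a, ha⟩ := conj_in_sylow hB hnil P (Subgroup.zpowers (e.symm (.xa 0)))
    (Subgroup.zpowers (e.symm (.xa 1))) inferInstance inferInstance (by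
      rw [Nat.card_zpowers, Nat.card_zpowers, MulEquiv.orderOf_eq, MulEquiv.orderOf_eq,
        QuaternionGroup.orderOf_xa, QuaternionGroup.orderOf_xa])
  -- a homomorphism detecting the parity of the index
  let π : ZMod (2 * 2 ^ k) →+* ZMod 2 := ZMod.castHom (dvd_mul_right 2 _) _
  let χ₀ : QuaternionGroup (2 ^ k) → Multiplicative (ZMod 2) := fun q => match q with
    | .a i => Multiplicative.ofAdd (π i)
    | .xa i => Multiplicative.ofAdd (π i)
  have hn : π ((2 ^ k : ℕ) : ZMod (2 * 2 ^ k)) = 0 := by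
    rw [map_natCast, ZMod.natCast_eq_zero_iff]; exact dvd_pow_self 2 hk.ne'
  have hsub : ∀ u v : ZMod 2, v - u = u + v := fun u v => by
    rw [sub_eq_add_neg, ZMod.neg_eq_self_mod_two, add_comm]
  have hχ : ∀ x y, χ₀ (x * y) = χ₀ x * χ₀ y := by
    rintro (i | i) (j | j)
    · rw [QuaternionGroup.a_mul_a]; show Multiplicative.ofAdd (π (i + j)) = _; rw [map_add]; rfl
    · rw [QuaternionGroup.a_mul_xa]; show Multiplicative.ofAdd (π (j - i)) = _; rw [map_sub, hsub]; rfl
    · rw [QuaternionGroup.xa_mul_a]; show Multiplicative.ofAdd (π (i + j)) = _; rw [map_add]; rfl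
    · rw [QuaternionGroup.xa_mul_xa]; show Multiplicative.ofAdd (π (((2 ^ k : ℕ) : ZMod (2 * 2 ^ k)) + j - i)) = _
      rw [map_sub, map_add, hn, zero_add, hsub]; rfl
  let χ := (MonoidHom.mk' χ₀ hχ).comp e.toMonoidHom
  have hmem := ha.le (Subgroup.mem_zpowers (e.symm (.xa 1)))
  rw [Solv.mem_conj_smul] at hmem
  obtain ⟨i, hi⟩ := hmem
  have hi : e.symm (.xa 0) ^ i = a⁻¹ * e.symm (.xa 1) * a := hi
  have h := congrArg χ hi
  have hx : ∀ t, χ (e.symm (QuaternionGroup.xa t)) = Multiplicative.ofAdd (π t) := fun t => by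
    show χ₀ (e (e.symm (QuaternionGroup.xa t))) = _
    rw [e.apply_symm_apply]
  rw [map_mul, map_mul, map_zpow, map_inv, mul_comm (χ a)⁻¹, inv_mul_cancel_right, hx, hx, map_zero,
    map_one, show Multiplicative.ofAdd (0 : ZMod 2) = 1 from rfl, one_zpow] at h
  exact one_ne_zero (Multiplicative.ofAdd.injective (h.symm.trans ofAdd_zero.symm))

/-- A finite nilpotent group in which any two abelian subgroups of the same order are conjugate is cyclic. -/
theorem result {G : Type*} [Group G] [Finite G] (hB : ∀ A B : Subgroup G, IsMulCommutative ↥A → IsMulCommutative ↥B → Nat.card ↥A = Nat.card ↥B → ∃ g : G, B = A.map (MulAut.conj g).toMonoidHom) (hnil : Group.IsNilpotent G) : IsCyclic G := by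
  have hZ : IsZGroup G := ⟨fun q hq Q => by
    have := Fact.mk hq
    exact sylow_cyclic hB hnil Q⟩
  exact (inferInstance : IsCyclic G)

end Cfsg.Agent.S3910
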