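import Cfsg.Statements.S3917
import Cfsg.Agent.Lib.Solv.UniqueSub

set_option autoImplicit false
open Cfsg

open scoped Pointwise commutatorElement

namespace Cfsg.Agent.S3917

/-- Say that a group has self-centralizing non-cyclic subgroups when every non-cyclic subgroup H satisfies C_G(H) ≤ H. A finite abelian group with self-centralizing non-cyclic subgroups is cyclic or elementary abelian of order p² for a prime p. -/
theorem result {G : Type*} [CommGroup G] [Finite G] (hX : (∀ H : Subgroup G, ¬ IsCyclic ↥H → Subgroup.centralizer (H : Set G) ≤ H)) :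
    IsCyclic G ∨ ∃ p : ℕ, p.Prime ∧ Nat.card G = p ^ 2 ∧ Monoid.exponent G = p := by
  by_cases hc : IsCyclic G
  · exact Or.inl hc
  right
  have hprop : ∀ H : Subgroup G, ¬ IsCyclic H → H = ⊤ := fun H hH =>
    eq_top_iff.2 fun g _ => hX H hH (Subgroup.mem_centralizer_iff.2 fun h _ => mul_comm h g)
  -- a prime with more than `p` solutions
  obtain ⟨p, hp, hbig⟩ : ∃ p : ℕ, p.Prime ∧ ¬ IsCyclic (powMonoidHom p : G →* G).ker := by
    by_contra hall
    push Not at hall
    refine hc ?_
    have : Group.IsNilpotent G := CommGroup.isNilpotent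
    have : IsZGroup G := by
      refine ⟨fun q hq Q => ?_⟩
      have := Fact.mk hq
      have hu : Solv.UniqueOrderP q Q := by
        intro x y hx hy hy1
        have hcy := hall q hq
        have hxk : ((x : G)) ∈ (powMonoidHom q : G →* G).ker := congrArg Subtype.val hx
        have hyk : ((y : G)) ∈ (powMonoidHom q : G →* G).ker := congrArg Subtype.val hy
        obtain ⟨⟨c, hck⟩, hgen⟩ := hcy.exists_generator
        have hy1' : (y : G) ≠ 1 := fun e => hy1 (Subtype.ext e)
        have heq : Subgroup.zpowers (y : G) = Subgroup.zpowers c := by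
          refine Subgroup.eq_of_le_of_card_ge (Subgroup.zpowers_le.2 ?_) ?_
          · obtain ⟨i, hi⟩ := hgen ⟨_, hyk⟩; exact ⟨i, congrArg Subtype.val hi⟩
          · rw [Nat.card_zpowers, Nat.card_zpowers, orderOf_eq_prime (congrArg Subtype.val hy) hy1']
            exact Nat.le_of_dvd hq.pos (orderOf_dvd_of_pow_eq_one hck)
        obtain ⟨i, hi⟩ := hgen ⟨_, hxk⟩
        have hxm : (x : G) ∈ Subgroup.zpowers (y : G) := heq ▸ ⟨i, congrArg Subtype.val hi⟩
        obtain ⟨j, hj⟩ := hxm
        exact ⟨j, Subtype.ext hj⟩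
      obtain ⟨a, -, ha⟩ := Solv.abelian_cyclic_of_unique Q.isPGroup' hu ⊤ (fun x _ y _ => mul_comm x y)
      exact ⟨a, fun t => (ha.le (Subgroup.mem_top t) : t ∈ Subgroup.zpowers a)⟩
    infer_instance
  have := Fact.mk hp
  have hker := hprop _ hbig
  have hexp : ∀ g : G, g ^ p = 1 := fun g => hker.ge (Subgroup.mem_top g)
  have hP : IsPGroup p G := fun g => ⟨1, by rw [pow_one]; exact hexp g⟩
  obtain ⟨k, hk⟩ := IsPGroup.iff_card.1 hP
  have hk2 : 2 ≤ k := by
    by_contra h
    refine hc ?_
    interval_cases k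
    · rw [pow_zero] at hk
      have := (Nat.card_eq_one_iff_unique.1 hk).1
      infer_instance
    · rw [pow_one] at hk; exact isCyclic_of_prime_card hk
  obtain ⟨H, hH⟩ := Sylow.exists_subgroup_card_pow_prime p (n := 2) (hk ▸ pow_dvd_pow p hk2)
  have hnc : ¬ IsCyclic H := by
    intro hcy
    obtain ⟨⟨c, hcH⟩, hgen⟩ := hcy.exists_generator
    have h1 : Nat.card H ≤ p := by
      rw [← orderOf_eq_card_of_forall_mem_zpowers hgen, Subgroup.orderOf_mk]
      exact Nat.le_of_dvd hp.pos (orderOf_dvd_of_pow_eq_one (hexp c))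
    rw [hH] at h1
    have := hp.two_le
    nlinarith
  refine ⟨p, hp, by rw [← hH, hprop H hnc, Subgroup.card_top], ?_⟩
  refine ((Nat.dvd_prime hp).1 (Monoid.exponent_dvd_iff_forall_pow_eq_one.2 hexp)).resolve_left fun h => ?_
  have := Monoid.exp_eq_one_iff.1 h
  refine hc ?_
  infer_instance

end Cfsg.Agent.S3917
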