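import Cfsg.Statements.S3918
import Cfsg.Agent.Lib.Solv.UniqueSub
import Cfsg.Agent.Lib.Solv.Coprime
import Cfsg.Agent.Lib.Perm.Huppert

set_option autoImplicit false
set_option linter.style.haveILetI false
open Cfsg

open scoped Pointwise commutatorElement

namespace Cfsg.Agent.S3918

variable {G : Type*} [Group G] [Finite G] {p : ℕ} [hp : Fact p.Prime]

theorem elem_pair (hG : IsPGroup p G)
    (hsc : ∀ H : Subgroup G, ¬ IsCyclic ↥H → Subgroup.centralizer (H : Set G) ≤ H)
    {z w : G} (hz : orderOf z = p) (hzc : z ∈ Subgroup.center G) (hw : w ^ p = 1)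
    (hwz : w ∉ Subgroup.zpowers z) (A : Subgroup G)
    (hA : A = Subgroup.zpowers z ⊔ Subgroup.zpowers w) :
    Nat.card A = p ^ 2 ∧ ∀ M : Subgroup G, M ≤ Subgroup.normalizer (A : Set G) →
      Nat.card M ≤ p ^ 3 := by
  have hw1 : w ≠ 1 := fun h => hwz (h ▸ one_mem _)
  have hn : Subgroup.zpowers w ≤ Subgroup.normalizer (Subgroup.zpowers z : Set G) := fun v _ => by
    haveI : (Subgroup.zpowers z).Normal := ⟨fun x hx g => by
      rw [Subgroup.mem_center_iff.1 (Subgroup.zpowers_le.2 hzc hx) g, mul_inv_cancel_right]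
      exact hx⟩
    rw [Subgroup.normalizer_eq_top_iff.2 inferInstance]; trivial
  have hinf : Subgroup.zpowers z ⊓ Subgroup.zpowers w = ⊥ := by
    have : Fact (Nat.card (Subgroup.zpowers w)).Prime :=
      ⟨by rw [Nat.card_zpowers, orderOf_eq_prime hw hw1]; exact hp.out⟩
    rcases ((Subgroup.zpowers z).subgroupOf
      (Subgroup.zpowers w)).eq_bot_or_eq_top_of_prime_card with h | h
    · rwa [Subgroup.subgroupOf_eq_bot, disjoint_iff] at h
    · exact absurd (Subgroup.subgroupOf_eq_top.1 h (Subgroup.mem_zpowers w)) hwz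
  have hcard := Solv.card_sup_mul_card_inf' _ _ hn
  rw [hinf, Subgroup.card_bot, mul_one, Nat.card_zpowers, Nat.card_zpowers, hz,
    orderOf_eq_prime hw hw1, ← hA, ← sq] at hcard
  refine ⟨hcard, fun M hM => ?_⟩
  have hcomm : IsMulCommutative A := IsPGroup.isMulCommutative_of_card_eq_prime_sq hcard
  have hexp : ∀ a : A, a ^ p = 1 := fun a => by
    have hmem : (a : G) ∈ ((Subgroup.zpowers z ⊔ Subgroup.zpowers w : Subgroup G) : Set G) :=
      hA ▸ a.2
    rw [Subgroup.coe_mul_of_right_le_normalizer_left _ _ hn] at hmem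
    obtain ⟨_, ⟨i, rfl⟩, _, ⟨j, rfl⟩, hij⟩ := hmem
    refine Subtype.ext ?_
    rw [SubgroupClass.coe_pow, ← hij]
    show (z ^ i * w ^ j) ^ p = 1
    rw [(Commute.zpow_zpow (Subgroup.mem_center_iff.1 hzc w).symm i j).mul_pow, ← zpow_natCast,
      ← zpow_natCast (w ^ j), ← zpow_mul, ← zpow_mul, mul_comm i, mul_comm j, zpow_mul, zpow_mul,
      zpow_natCast, zpow_natCast, hw, orderOf_dvd_iff_pow_eq_one.1 hz.dvd, one_zpow, one_zpow,
      one_mul]
  have hnc : ¬ IsCyclic A := fun hc => by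
    obtain ⟨g, hg⟩ := hc.exists_generator
    have h1 : orderOf g = p ^ 2 := by rw [orderOf_eq_card_of_forall_mem_zpowers hg, hcard]
    have h2 := orderOf_dvd_of_pow_eq_one (hexp g)
    rw [h1] at h2
    have := Nat.le_of_dvd hp.out.pos h2
    nlinarith [hp.out.one_lt]
  have hwA : w ∈ A := hA ▸ Subgroup.mem_sup_right (Subgroup.mem_zpowers w)
  have hzA : z ∈ A := hA ▸ Subgroup.mem_sup_left (Subgroup.mem_zpowers z)
  letI : MulAction M G := MulAction.compHom G ((MulAut.conj (G := G)).comp M.subtype)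
  have hsm : ∀ (m : M) (x : G), m • x = (m : G) * x * (m : G)⁻¹ := fun m x => rfl
  have horb : MulAction.orbit M w ⊆ (A : Set G) \ {1} := by
    rintro _ ⟨m, rfl⟩
    refine ⟨(Subgroup.mem_normalizer_iff.1 (hM m.2) w).1 hwA, fun h => hw1 ?_⟩
    have h' : (m : G) * w * (m : G)⁻¹ = 1 := h
    rw [mul_inv_eq_one] at h'
    exact mul_eq_left.1 h'
  have hlt : Nat.card (MulAction.orbit M w) < p ^ 2 := by
    have h1 := Set.ncard_le_ncard horb (Set.toFinite _)
    rw [Set.ncard_sdiff_singleton_of_mem (one_mem A)] at h1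
    have h2 : (A : Set G).ncard = p ^ 2 := by
      rw [← Nat.card_coe_set_eq]; exact hcard
    rw [Nat.card_coe_set_eq]
    have : 0 < (A : Set G).ncard := (Set.ncard_pos (Set.toFinite _)).2 ⟨1, one_mem A⟩
    omega
  have horb2 : Nat.card (MulAction.orbit M w) = (MulAction.stabilizer M w).index :=
    Nat.card_congr (MulAction.orbitEquivQuotientStabilizer M w)
  obtain ⟨k, hk⟩ := (hG.to_subgroup M).index (MulAction.stabilizer M w)
  rw [horb2, hk, Nat.pow_lt_pow_iff_right hp.out.one_lt] at hlt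
  have hstab : Nat.card (MulAction.stabilizer M w) ≤ p ^ 2 := by
    rw [← hcard]
    refine Nat.card_le_card_of_injective (fun m => (⟨((m : M) : G), hsc A hnc ?_⟩ : A))
      fun a b hab => Subtype.ext (Subtype.ext (by exact congrArg (fun x => x.1) hab))
    refine Subgroup.mem_centralizer_iff.2 fun x hx => ?_
    have hmw : ((m : M) : G) * w = w * ((m : M) : G) := by
      have h' : ((m : M) : G) * w * ((m : M) : G)⁻¹ = w := m.2
      exact mul_inv_eq_iff_eq_mul.1 h'
    have hle : A ≤ Subgroup.centralizer {((m : M) : G)} := hA ▸ sup_le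
      (Subgroup.zpowers_le.2 (Subgroup.mem_centralizer_singleton_iff.2
        (Subgroup.mem_center_iff.1 hzc _).symm))
      (Subgroup.zpowers_le.2 (Subgroup.mem_centralizer_singleton_iff.2 hmw.symm))
    exact Subgroup.mem_centralizer_singleton_iff.1 (hle hx)
  rw [← (MulAction.stabilizer M w).card_mul_index, hk, pow_succ p 2]
  exact Nat.mul_le_mul hstab (le_of_le_of_eq (Nat.pow_le_pow_right hp.out.pos (by omega : k ≤ 1))
    (pow_one p))

omit [Finite G] hp in
theorem mul_pow_class_two {x y : G} (hc : ⁅y, x⁆ ∈ Subgroup.center G) (n : ℕ) :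
    (x * y) ^ n = x ^ n * y ^ n * ⁅y, x⁆ ^ (n.choose 2) := by
  obtain ⟨c, hcd⟩ : ∃ c, c = ⁅y, x⁆ := ⟨_, rfl⟩
  rw [← hcd] at hc ⊢
  have hcom : ∀ v : G, Commute c v := fun v => (Subgroup.mem_center_iff.1 hc v).symm
  have hyx : ∀ m : ℕ, y ^ m * x = x * y ^ m * c ^ m := by
    intro m
    induction m with
    | zero => simp
    | succ m ih =>
      have h1 : y * x = x * y * c := by
        rw [← (hcom (x * y)).eq, hcd, commutatorElement_def]; group
      calc y ^ (m + 1) * x = y * (y ^ m * x) := by rw [pow_succ', mul_assoc]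
        _ = y * x * y ^ m * c ^ m := by rw [ih]; group
        _ = x * y * (c * y ^ m) * c ^ m := by rw [h1]; group
        _ = x * y * y ^ m * (c * c ^ m) := by rw [(hcom _).eq]; group
        _ = _ := by rw [← pow_succ', mul_assoc x y, ← pow_succ']
  induction n with
  | zero => simp
  | succ n ih =>
    calc (x * y) ^ (n + 1) = x ^ n * y ^ n * (c ^ (n.choose 2) * x) * y := by
          rw [pow_succ, ih]; group
      _ = x ^ n * (y ^ n * x) * (c ^ (n.choose 2) * y) := by
          rw [((hcom x).pow_left _).eq]; group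
      _ = x ^ n * x * y ^ n * (c ^ n * y) * c ^ (n.choose 2) := by
          rw [hyx, ((hcom y).pow_left (n.choose 2)).eq]; group
      _ = x ^ n * x * (y ^ n * y) * (c ^ n * c ^ (n.choose 2)) := by
          rw [((hcom y).pow_left n).eq]; group
      _ = _ := by
          rw [← pow_succ, ← pow_succ, ← pow_add, Nat.choose_succ_succ, Nat.choose_one_right]

omit [Finite G] hp in
theorem center_sq_of_cube (hp' : p.Prime) (hcard : Nat.card G = p ^ 3) {z : G} (hz : orderOf z = p)
    (hzc : z ∈ Subgroup.center G) (a b : G) : ⁅a, b⁆ ∈ Subgroup.zpowers z := by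
  haveI := Fact.mk hp'
  haveI : (Subgroup.zpowers z).Normal := ⟨fun x hx g => by
    rw [Subgroup.mem_center_iff.1 (Subgroup.zpowers_le.2 hzc hx) g, mul_inv_cancel_right]
    exact hx⟩
  have hq : Nat.card (G ⧸ Subgroup.zpowers z) = p ^ 2 := by
    have := (Subgroup.zpowers z).card_eq_card_quotient_mul_card_subgroup
    rw [hcard, Nat.card_zpowers, hz, pow_succ p 2] at this
    exact Nat.eq_of_mul_eq_mul_right hp'.pos this.symm
  have hcomm := IsPGroup.isMulCommutative_of_card_eq_prime_sq hq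
  rw [← QuotientGroup.eq_one_iff, ← QuotientGroup.mk'_apply, map_commutatorElement,
    commutatorElement_eq_one_iff_mul_comm]
  exact hcomm.is_comm.comm _ _

/-- Say that a group has self-centralizing non-cyclic subgroups when every non-cyclic subgroup H satisfies C_G(H) ≤ H. For an odd prime p, a finite non-abelian p-group has self-centralizing non-cyclic subgroups if and only if it has order p³. -/
theorem result {G : Type*} [Group G] [Finite G] {p : ℕ} [Fact p.Prime] (hp : p ≠ 2) (hG : IsPGroup p G) (hna : ¬ IsMulCommutative G) :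
    (∀ H : Subgroup G, ¬ IsCyclic ↥H → Subgroup.centralizer (H : Set G) ≤ H) ↔ Nat.card G = p ^ 3 := by
  have hp' : p.Prime := Fact.out
  obtain ⟨n, hn⟩ := IsPGroup.iff_card.1 hG
  have hnt : Nontrivial G := by
    by_contra h
    rw [not_nontrivial_iff_subsingleton] at h
    exact hna ⟨⟨fun a b => Subsingleton.elim _ _⟩⟩
  constructor
  · intro hsc
    have hncyc : ¬ IsCyclic G := fun h => hna inferInstance
    have hu : ¬ Solv.UniqueOrderP p G := fun hu =>
      (Solv.cyclic_or_quaternion hG hu).elim hncyc fun h => hp h.1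
    simp only [Solv.UniqueOrderP, not_forall] at hu
    obtain ⟨x, y, hx, hy, hy1, hxy⟩ := hu
    haveI := hG.center_nontrivial
    obtain ⟨⟨z, hzc⟩, hz⟩ := exists_prime_orderOf_dvd_card' (G := Subgroup.center G) p (by
      obtain ⟨k, hk⟩ := IsPGroup.iff_card.1 (hG.to_subgroup (Subgroup.center G))
      rw [hk]
      refine dvd_pow_self p fun h0 => ?_
      rw [h0, pow_zero] at hk
      exact Finite.one_lt_card.ne' hk)
    rw [← Subgroup.orderOf_coe] at hz
    change orderOf z = p at hz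
    obtain ⟨w, hw, hwz⟩ : ∃ w : G, w ^ p = 1 ∧ w ∉ Subgroup.zpowers z := by
      by_contra hall
      simp only [not_exists, not_and, not_not] at hall
      have : Subgroup.zpowers y = Subgroup.zpowers z :=
        Subgroup.eq_of_le_of_card_ge (Subgroup.zpowers_le.2 (hall y hy)) (by
          rw [Nat.card_zpowers, Nat.card_zpowers, hz, orderOf_eq_prime hy hy1])
      exact hxy (this ▸ hall x hx)
    obtain ⟨E, hE⟩ : ∃ E, E = Subgroup.zpowers z ⊔ Subgroup.zpowers w := ⟨_, rfl⟩
    obtain ⟨hEc, hEb⟩ := elem_pair hG hsc hz hzc hw hwz E hE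
    obtain ⟨N, hN⟩ : ∃ N, N = Subgroup.normalizer (E : Set G) := ⟨_, rfl⟩
    have hNle : Nat.card N ≤ p ^ 3 := hEb N hN.le
    have hEN : E ≤ N := hN ▸ Subgroup.le_normalizer
    haveI := hG.isNilpotent
    have hEtop : E ≠ ⊤ := fun h => hna (by
      rw [h, Subgroup.card_top] at hEc
      exact IsPGroup.isMulCommutative_of_card_eq_prime_sq hEc)
    have hENlt : E < N := hN ▸ Group.normalizerCondition_of_isNilpotent _ hEtop.lt_top
    obtain ⟨k, hk⟩ := IsPGroup.iff_card.1 (hG.to_subgroup N)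
    have hNc : Nat.card N = p ^ 3 := by
      have h1 := Solv.card_lt_of_lt hENlt
      rw [hEc, hk, Nat.pow_lt_pow_iff_right hp'.one_lt] at h1
      rw [hk, Nat.pow_le_pow_iff_right hp'.one_lt] at hNle
      rw [hk, show k = 3 by omega]
    by_contra hne
    have hNtop : N ≠ ⊤ := fun h => hne (by rw [← Subgroup.card_top, ← h, hNc])
    obtain ⟨M, hM⟩ : ∃ M, M = Subgroup.normalizer (N : Set G) := ⟨_, rfl⟩
    have hNM : N < M := hM ▸ Group.normalizerCondition_of_isNilpotent _ hNtop.lt_top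
    -- the elements of order dividing `p` in `N`
    have hzN : z ∈ N := hEN (hE ▸ Subgroup.mem_sup_left (Subgroup.mem_zpowers z))
    have hwN : w ∈ N := hEN (hE ▸ Subgroup.mem_sup_right (Subgroup.mem_zpowers w))
    have hzp : z ^ p = 1 := orderOf_dvd_iff_pow_eq_one.1 hz.dvd
    have hcomN : ∀ a b : N, ((⁅a, b⁆ : N) : G) ∈ Subgroup.zpowers z := fun a b => by
      obtain ⟨i, hi⟩ := center_sq_of_cube hp' hNc (z := (⟨z, hzN⟩ : N))
        (by rw [← Subgroup.orderOf_coe]; exact hz)
        (Subgroup.mem_center_iff.2 fun g => Subtype.ext (Subgroup.mem_center_iff.1 hzc g)) a b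
      exact ⟨i, congrArg Subtype.val hi⟩
    have hcN : ∀ a b : N, ⁅a, b⁆ ∈ Subgroup.center N := fun a b => Subgroup.mem_center_iff.2 fun g =>
      Subtype.ext (Subgroup.mem_center_iff.1 (Subgroup.zpowers_le.2 hzc (hcomN a b)) g)
    have hmul : ∀ a b : N, (a * b) ^ p = a ^ p * b ^ p := fun a b => by
      have h3 : (⁅b, a⁆ : N) ^ p = 1 := Subtype.ext (by
        obtain ⟨i, hi⟩ := hcomN b a
        rw [SubgroupClass.coe_pow, ← hi]
        show (z ^ i) ^ p = 1
        rw [← zpow_natCast, ← zpow_mul, mul_comm, zpow_mul, zpow_natCast, hzp, one_zpow])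
      obtain ⟨q, hq⟩ := hp'.dvd_choose_self two_ne_zero (lt_of_le_of_ne hp'.two_le (Ne.symm hp))
      rw [mul_pow_class_two (hcN b a) p, hq, pow_mul, h3, one_pow, mul_one]
    obtain ⟨K, hK⟩ : ∃ K, K = (MonoidHom.mk' (fun a : N => a ^ p) hmul).ker.map N.subtype :=
      ⟨_, rfl⟩
    have hKmem : ∀ v, v ∈ K ↔ v ∈ N ∧ v ^ p = 1 := fun v => by
      rw [hK]
      constructor
      · rintro ⟨a, ha, rfl⟩
        exact ⟨a.2, congrArg Subtype.val ha⟩
      · rintro ⟨hv, hvp⟩
        exact ⟨⟨v, hv⟩, Subtype.ext hvp, rfl⟩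
    -- an `M`-normal subgroup of order `p ^ 2` inside `K`
    obtain ⟨K', hK'⟩ : ∃ K', K' = K.subgroupOf M := ⟨_, rfl⟩
    haveI : K'.Normal := ⟨fun a ha m => by
      rw [hK', Subgroup.mem_subgroupOf, hKmem] at ha ⊢
      have hm : (m : G) ∈ Subgroup.normalizer (N : Set G) := hM ▸ m.2
      refine ⟨(Subgroup.mem_normalizer_iff.1 hm _).1 ha.1, ?_⟩
      show ((m : G) * a * (m : G)⁻¹) ^ p = 1
      rw [conj_pow, ha.2, mul_one, mul_inv_cancel]⟩
    obtain ⟨z', hz'⟩ : ∃ z' : M, (z' : G) = z := ⟨⟨z, hNM.le hzN⟩, rfl⟩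
    haveI : (Subgroup.zpowers z').Normal := ⟨fun a ha m => by
      have hc : z' ∈ Subgroup.center M := Subgroup.mem_center_iff.2 fun g =>
        Subtype.ext (by rw [Subgroup.coe_mul, Subgroup.coe_mul, hz']; exact Subgroup.mem_center_iff.1 hzc g)
      rw [Subgroup.mem_center_iff.1 (Subgroup.zpowers_le.2 hc ha) m, mul_inv_cancel_right]
      exact ha⟩
    haveI := (inferInstance : K'.Normal).map (QuotientGroup.mk' (Subgroup.zpowers z'))
      (QuotientGroup.mk'_surjective _)
    have hnot : ∀ v : M, (v : G) ∉ Subgroup.zpowers z → v ∉ Subgroup.zpowers z' := fun v hv h => by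
      obtain ⟨i, hi⟩ := h
      exact hv ⟨i, by rw [← hi, SubgroupClass.coe_zpow, hz']⟩
    haveI : Nontrivial (K'.map (QuotientGroup.mk' (Subgroup.zpowers z'))) := by
      refine (Subgroup.nontrivial_iff_ne_bot _).2 fun h => ?_
      have hwK : (⟨w, hNM.le hwN⟩ : M) ∈ K' := by
        rw [hK', Subgroup.mem_subgroupOf, hKmem]; exact ⟨hwN, hw⟩
      rw [Subgroup.map_eq_bot_iff, QuotientGroup.ker_mk'] at h
      exact hnot _ hwz (h hwK)
    obtain ⟨_, ⟨v, hvK, rfl⟩, hvc, hv1⟩ := Perm.exists_ne_one_center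
      ((hG.to_subgroup M).to_quotient (Subgroup.zpowers z'))
      (K'.map (QuotientGroup.mk' (Subgroup.zpowers z')))
    rw [hK', SetLike.mem_coe, Subgroup.mem_subgroupOf, hKmem] at hvK
    have hvz : (v : G) ∉ Subgroup.zpowers z := by
      rintro ⟨i, hi⟩
      refine hv1 ((QuotientGroup.eq_one_iff v).2 ⟨i, Subtype.ext ?_⟩)
      rw [SubgroupClass.coe_zpow, hz']
      exact hi
    obtain ⟨A, hA⟩ : ∃ A, A = Subgroup.zpowers z ⊔ Subgroup.zpowers (v : G) := ⟨_, rfl⟩
    obtain ⟨-, hAb⟩ := elem_pair hG hsc hz hzc hvK.2 hvz A hA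
    have hconj : ∀ m : M, (m : G) * (v : G) * (m : G)⁻¹ ∈ A := fun m => by
      have h2 : m * v * m⁻¹ * v⁻¹ ∈ Subgroup.zpowers z' := by
        have h := Subgroup.mem_center_iff.1 hvc (QuotientGroup.mk m)
        rw [QuotientGroup.mk'_apply] at h
        rw [← QuotientGroup.eq_one_iff, QuotientGroup.mk_mul, QuotientGroup.mk_mul,
          QuotientGroup.mk_mul, QuotientGroup.mk_inv, QuotientGroup.mk_inv, h]
        group
      obtain ⟨i, hi⟩ := h2
      have h3 := congrArg Subtype.val hi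
      simp only [SubgroupClass.coe_zpow, hz', Subgroup.coe_mul, Subgroup.coe_inv] at h3
      rw [show (m : G) * (v : G) * (m : G)⁻¹ = z ^ i * (v : G) by rw [h3]; group, hA]
      exact Subgroup.mul_mem_sup (zpow_mem (Subgroup.mem_zpowers z) i) (Subgroup.mem_zpowers _)
    have hle : ∀ m : M, A.map (MulAut.conj (m : G)).toMonoidHom ≤ A := fun m => by
      conv_lhs => rw [hA, Subgroup.map_sup]
      refine sup_le (fun u hu => ?_) ?_
      · obtain ⟨u0, hu0, rfl⟩ := hu
        show (m : G) * u0 * (m : G)⁻¹ ∈ A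
        rw [Subgroup.mem_center_iff.1 (Subgroup.zpowers_le.2 hzc hu0), mul_inv_cancel_right, hA]
        exact Subgroup.mem_sup_left hu0
      · rw [MonoidHom.map_zpowers, Subgroup.zpowers_le]
        exact hconj m
    have hMA : M ≤ Subgroup.normalizer (A : Set G) := fun m hm => by
      refine Subgroup.mem_normalizer_iff.2 fun u => ⟨fun hu => ?_, fun hu => ?_⟩
      · exact hle ⟨m, hm⟩ ⟨u, hu, rfl⟩
      · have h := hle (⟨m, hm⟩ : M)⁻¹ ⟨_, hu, rfl⟩
        simpa [mul_assoc] using h
    have h4 := hAb M hMA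
    have h5 := Solv.card_lt_of_lt hNM
    omega
  · intro hcard H hH
    by_cases htop : H = ⊤
    · rw [htop]; exact le_top
    intro c hc
    by_contra hcH
    obtain ⟨k, hk⟩ := IsPGroup.iff_card.1 (hG.to_subgroup H)
    have h1 := Solv.card_lt_of_ne_top htop
    rw [hk, hcard, Nat.pow_lt_pow_iff_right hp'.one_lt] at h1
    have hk2 : k = 2 := by
      rcases Nat.lt_or_ge k 2 with h | h
      · refine absurd ?_ hH
        rcases Nat.lt_or_ge k 1 with h0 | h0
        · obtain rfl : k = 0 := by omega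
          rw [pow_zero] at hk
          haveI := (Nat.card_eq_one_iff_unique.1 hk).1
          exact isCyclic_of_subsingleton
        · obtain rfl : k = 1 := by omega
          rw [pow_one] at hk
          exact isCyclic_of_prime_card hk
      · omega
    rw [hk2] at hk
    haveI hHc := IsPGroup.isMulCommutative_of_card_eq_prime_sq hk
    obtain ⟨L, hL⟩ : ∃ L, L = H ⊔ Subgroup.zpowers c := ⟨_, rfl⟩
    have hlt : H < L := hL ▸ lt_of_le_of_ne le_sup_left fun h =>
      hcH (h ▸ Subgroup.mem_sup_right (Subgroup.mem_zpowers c))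
    have h2 := Solv.card_lt_of_lt hlt
    obtain ⟨j, hj⟩ := IsPGroup.iff_card.1 (hG.to_subgroup L)
    rw [hk, hj, Nat.pow_lt_pow_iff_right hp'.one_lt] at h2
    have h3 : Nat.card L ≤ Nat.card G := Subgroup.card_le_card_group L
    rw [hj, hcard, Nat.pow_le_pow_iff_right hp'.one_lt] at h3
    have hLtop : L = ⊤ := Subgroup.eq_top_of_card_eq L (by rw [hj, hcard, show j = 3 by omega])
    refine hna ⟨⟨fun a b => ?_⟩⟩
    have hgen : L ≤ Subgroup.centralizer (L : Set G) := by
      rw [hL, ← Subgroup.commutator_eq_bot_iff_le_centralizer]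
      have hHH : ∀ a ∈ H, ∀ b ∈ H, a * b = b * a := fun a ha b hb =>
        congrArg Subtype.val (hHc.is_comm.comm ⟨a, ha⟩ ⟨b, hb⟩)
      rw [Subgroup.commutator_eq_bot_iff_le_centralizer]
      refine sup_le ?_ (Subgroup.zpowers_le.2 ?_)
      · rw [Subgroup.le_centralizer_iff]
        refine sup_le (fun a ha => Subgroup.mem_centralizer_iff.2 fun b hb => hHH b hb a ha) ?_
        exact Subgroup.zpowers_le.2 hc
      · have h4 : H ⊔ Subgroup.zpowers c ≤ Subgroup.centralizer {c} := sup_le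
          (fun a ha => Subgroup.mem_centralizer_singleton_iff.2 (Subgroup.mem_centralizer_iff.1 hc a ha))
          (Subgroup.zpowers_le.2 (Subgroup.mem_centralizer_singleton_iff.2 rfl))
        exact Subgroup.mem_centralizer_iff.2 fun a ha => Subgroup.mem_centralizer_singleton_iff.1 (h4 ha)
    have h5 : a ∈ L := hLtop ▸ Subgroup.mem_top a
    exact (Subgroup.mem_centralizer_iff.1 (hgen h5) b (hLtop ▸ Subgroup.mem_top b)).symm

end Cfsg.Agent.S3918
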