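import Cfsg.Statements.S3919
import Cfsg.Agent.Lib.Solv.MaxClass
import Cfsg.Agent.Lib.Solv.UniqueSub
import Cfsg.Agent.Lib.Solv.Cores

set_option autoImplicit false
set_option linter.style.haveILetI false
open Cfsg

open scoped Pointwise commutatorElement

namespace Cfsg.Agent.S3919

/-- Say that a group has self-centralizing non-cyclic subgroups when every non-cyclic subgroup H satisfies C_G(H) ≤ H. A finite non-abelian 2-group G of order 2^n has self-centralizing non-cyclic subgroups if and only if G has nilpotency class n − 1 (that is, G is dihedral, semidihedral or generalized quaternion). -/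
theorem result {G : Type*} [Group G] [Finite G] (hna : ¬ IsMulCommutative G) (n : ℕ) (hG : Nat.card G = 2 ^ n) :
    (∀ H : Subgroup G, ¬ IsCyclic ↥H → Subgroup.centralizer (H : Set G) ≤ H) ↔ (⊤ : Subgroup G).lowerCentralSeries (n - 2) ≠ ⊥ := by
  classical
  haveI : Fact (Nat.Prime 2) := ⟨Nat.prime_two⟩
  have hG2 : IsPGroup 2 G := IsPGroup.of_card hG
  obtain ⟨m, rfl⟩ : ∃ m, n = m + 3 := by
    refine ⟨n - 3, (Nat.sub_add_cancel ?_).symm⟩
    by_contra hlt
    refine hna ?_
    rcases (show n ≤ 1 ∨ n = 2 by omega) with h | rfl
    · haveI : IsCyclic G := by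
        rcases (show n = 0 ∨ n = 1 by omega) with rfl | rfl
        · haveI : Subsingleton G := (Nat.card_eq_one_iff_unique.1 (by simpa using hG)).1
          infer_instance
        · exact isCyclic_of_prime_card (p := 2) (by simpa using hG)
      letI : CommGroup G := IsCyclic.commGroup
      exact ⟨⟨mul_comm⟩⟩
    · exact IsPGroup.isMulCommutative_of_card_eq_prime_sq hG
  rw [show m + 3 - 2 = m + 1 by omega]
  haveI : Nontrivial G := by
    rw [← Finite.one_lt_card_iff_nontrivial, hG]
    exact Nat.one_lt_pow (by omega) (by norm_num)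
  constructor
  · intro hsc
    refine Solv.lcs_ne_bot_of_small_centralizer (p := 2) (m + 1) hG ?_
    by_cases hu : Solv.UniqueOrderP 2 G
    · rcases Solv.cyclic_or_quaternion hG2 hu with hc | ⟨-, k, ⟨e⟩⟩
      · letI : CommGroup G := IsCyclic.commGroup
        exact absurd ⟨⟨mul_comm⟩⟩ hna
      · refine ⟨e.symm (QuaternionGroup.xa 0), ?_⟩
        haveI : NeZero (2 ^ k : ℕ) := ⟨pow_ne_zero k two_ne_zero⟩
        obtain ⟨N, hN⟩ : ∃ N : ℕ, N = 2 ^ k := ⟨_, rfl⟩
        have hsub : (Subgroup.centralizer ({e.symm (QuaternionGroup.xa 0)} : Set G) : Set G) ⊆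
            e.symm '' {QuaternionGroup.a 0, QuaternionGroup.a ((2 ^ k : ℕ) : ZMod (2 * 2 ^ k)),
              QuaternionGroup.xa 0, QuaternionGroup.xa ((2 ^ k : ℕ) : ZMod (2 * 2 ^ k))} := by
          intro g hg
          refine ⟨e g, ?_, e.symm_apply_apply g⟩
          have hc : e g * QuaternionGroup.xa 0 = QuaternionGroup.xa 0 * e g := by
            have := congrArg e (Subgroup.mem_centralizer_singleton_iff.1 hg)
            simpa using this
          have key : ∀ i : ZMod (2 * 2 ^ k), i + i = 0 → i = 0 ∨ i = ((2 ^ k : ℕ) : ZMod (2 * 2 ^ k)) := by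
            intro i hi
            rw [← ZMod.natCast_rightInverse i, ← Nat.cast_add, ZMod.natCast_eq_zero_iff] at hi
            obtain ⟨c, hc⟩ := hi
            have hlt := ZMod.val_lt i
            have h2 : c < 2 := by
              by_contra h
              have := Nat.mul_le_mul_left (2 * 2 ^ k) (not_lt.1 h)
              omega
            rcases (show c = 0 ∨ c = 1 by omega) with rfl | rfl
            · rw [mul_zero] at hc
              exact Or.inl ((ZMod.val_eq_zero i).1 (by omega))
            · rw [mul_one] at hc
              right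
              rw [← ZMod.natCast_rightInverse i, show i.val = 2 ^ k by omega]
          cases hh : e g with
          | a i =>
            rw [hh, QuaternionGroup.a_mul_xa, QuaternionGroup.xa_mul_a] at hc
            have h0 : i + i = 0 := by
              have := QuaternionGroup.xa.inj hc
              rw [zero_sub, zero_add] at this
              rw [add_eq_zero_iff_eq_neg]
              exact this.symm
            rcases key i h0 with h | h <;> simp [h]
          | xa i =>
            rw [hh, QuaternionGroup.xa_mul_xa, QuaternionGroup.xa_mul_xa] at hc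
            have h0 : i + i = 0 := by
              have := QuaternionGroup.a.inj hc
              rw [← sub_eq_zero] at this
              rw [← neg_eq_zero, ← this]
              ring
            rcases key i h0 with h | h <;> simp [h]
        calc Nat.card (Subgroup.centralizer ({e.symm (QuaternionGroup.xa 0)} : Set G))
            = (Subgroup.centralizer ({e.symm (QuaternionGroup.xa 0)} : Set G) : Set G).ncard := Nat.card_coe_set_eq _
          _ ≤ _ := (Set.ncard_le_ncard hsub).trans (Set.ncard_image_le (Set.toFinite _))
          _ ≤ 2 ^ 2 := (Set.ncard_insert_le _ _).trans (Nat.add_le_add_right ((Set.ncard_insert_le _ _).trans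
              (Nat.add_le_add_right ((Set.ncard_insert_le _ _).trans (by rw [Set.ncard_singleton])) 1)) 1)
    · simp only [Solv.UniqueOrderP, not_forall] at hu
      obtain ⟨x, y, hx, hy, hy1, hxy⟩ := hu
      haveI := hG2.center_nontrivial
      obtain ⟨z, hz⟩ := exists_prime_orderOf_dvd_card' 2 (((hG2.to_subgroup (Subgroup.center G)).card_eq_or_dvd).resolve_left
        (Finite.one_lt_card (α := Subgroup.center G)).ne')
      have hz2 : (z : G) ^ 2 = 1 := by
        rw [← SubmonoidClass.coe_pow, ← hz, pow_orderOf_eq_one]; rfl
      have hz1 : (z : G) ≠ 1 := fun h => by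
        rw [show z = 1 from Subtype.ext h, orderOf_one] at hz; norm_num at hz
      have hx1 : x ≠ 1 := fun h => hxy (h ▸ one_mem _)
      obtain ⟨t, ht, ht1, htz⟩ : ∃ t : G, t ^ 2 = 1 ∧ t ≠ 1 ∧ t ≠ z := by
        by_cases hxz : x = z
        · exact ⟨y, hy, hy1, fun hyz => hxy (hxz.trans hyz.symm ▸ Subgroup.mem_zpowers y)⟩
        · exact ⟨x, hx, hx1, hxz⟩
      obtain ⟨H, hH⟩ : ∃ H, H = Subgroup.zpowers (z : G) ⊔ Subgroup.zpowers t := ⟨_, rfl⟩
      have hzH : (z : G) ∈ H := hH ▸ Subgroup.mem_sup_left (Subgroup.mem_zpowers _)
      have htH : t ∈ H := hH ▸ Subgroup.mem_sup_right (Subgroup.mem_zpowers _)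
      have hnc : ¬ IsCyclic H := by
        intro hc
        haveI := Fintype.ofFinite H
        have h3 : ({1, ⟨z, hzH⟩, ⟨t, htH⟩} : Finset H) ⊆ (Finset.univ : Finset H).filter (fun a => a ^ 2 = 1) := by
          intro a ha
          simp only [Finset.mem_insert, Finset.mem_singleton] at ha
          simp only [Finset.mem_filter, Finset.mem_univ, true_and]
          rcases ha with rfl | rfl | rfl
          · simp
          · exact Subtype.ext hz2
          · exact Subtype.ext ht
        have h4 := Finset.card_le_card h3
        rw [Finset.card_eq_three.2 ⟨(1 : H), (⟨(z : G), hzH⟩ : H), (⟨t, htH⟩ : H), fun h => hz1 (congrArg Subtype.val h).symm,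
          fun h => ht1 (congrArg Subtype.val h).symm, fun h => htz (congrArg Subtype.val h).symm, rfl⟩] at h4
        have h5 := IsCyclic.card_pow_eq_one_le (α := H) (n := 2) (by norm_num)
        omega
      have hle0 : Subgroup.centralizer ({t} : Set G) ≤ H := by
        refine le_trans ?_ (hsc H hnc)
        intro c hc
        refine Subgroup.mem_centralizer_iff.2 fun h hh => ?_
        have hle : H ≤ Subgroup.centralizer ({c} : Set G) := by
          rw [hH]
          exact sup_le (Subgroup.zpowers_le.2 (Subgroup.mem_centralizer_singleton_iff.2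
            (Subgroup.mem_center_iff.1 z.2 c).symm))
            (Subgroup.zpowers_le.2 (Subgroup.mem_centralizer_singleton_iff.2
              (Subgroup.mem_centralizer_singleton_iff.1 hc).symm))
        exact Subgroup.mem_centralizer_singleton_iff.1 (hle hh)
      refine ⟨t, (Subgroup.card_le_of_le hle0).trans ?_⟩
      haveI : (Subgroup.zpowers (z : G)).Normal := ⟨fun w hw g => by
        rw [Subgroup.mem_center_iff.1 (Subgroup.zpowers_le.2 z.2 hw) g, mul_inv_cancel_right]; exact hw⟩
      rw [hH]
      refine (Nat.le_of_dvd (Nat.mul_pos Nat.card_pos Nat.card_pos) (Solv.card_sup_dvd _ _)).trans ?_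
      rw [Nat.card_zpowers, Nat.card_zpowers, pow_two]
      exact Nat.mul_le_mul (Nat.le_of_dvd two_pos (orderOf_dvd_of_pow_eq_one hz2))
        (Nat.le_of_dvd two_pos (orderOf_dvd_of_pow_eq_one ht))
  · intro hne H hH c hc
    obtain ⟨x, hx⟩ := Solv.exists_cyclic_index_two m hG hne
    have hidx : (Subgroup.zpowers x).index = 2 := by
      have h := (Subgroup.zpowers x).card_mul_index
      rw [Nat.card_zpowers, hx, hG, pow_succ 2 (m + 2)] at h
      exact Nat.eq_of_mul_eq_mul_left (pow_pos two_pos _) h
    obtain ⟨g, hgH, hg⟩ : ∃ g ∈ H, g ∉ Subgroup.zpowers x := by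
      by_contra hcon
      push Not at hcon
      exact hH (isCyclic_of_injective (Subgroup.inclusion hcon) (Subgroup.inclusion_injective _))
    obtain ⟨z, hzC, hzH, hz2⟩ : ∃ z, z ∈ Subgroup.zpowers x ∧ z ∈ H ∧ orderOf z = 2 := by
      have hne' : Subgroup.zpowers x ⊓ H ≠ ⊥ := by
        intro hb
        refine hH ?_
        have h1 : Nat.card H = (Subgroup.zpowers x).relIndex H := by
          rw [← Subgroup.inf_relIndex_right, hb, Subgroup.relIndex_bot_left]
        haveI := Subgroup.normal_of_index_eq_two hidx
        have h2 : Nat.card H ∣ 2 := by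
          rw [h1, ← hidx]
          exact Subgroup.relIndex_dvd_index_of_normal _ H
        rcases (Nat.dvd_prime Nat.prime_two).1 h2 with h3 | h3
        · rw [Subgroup.card_eq_one.1 h3]
          infer_instance
        · exact isCyclic_of_prime_card (p := 2) h3
      obtain ⟨⟨y, hy⟩, hy1⟩ := Subgroup.ne_bot_iff_exists_ne_one.1 hne'
      obtain ⟨hyC, hyH⟩ := Subgroup.mem_inf.1 hy
      have hd : 2 ∣ orderOf y := hG2.dvd_orderOf fun h => hy1 (Subtype.ext h)
      exact ⟨y ^ (orderOf y / 2), pow_mem hyC _, pow_mem hyH _, orderOf_pow_orderOf_div (orderOf_pos y).ne' hd⟩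
    have hsq : ∀ w ∈ Subgroup.zpowers x, Commute g w → w ∈ H := by
      intro w hw hcw
      obtain ⟨j, rfl⟩ := Subgroup.mem_zpowers_iff.1 hw
      have h2 := Solv.sq_eq_one_of_commute hG hne hx hg j hcw
      by_cases h1 : x ^ j = 1
      · rw [h1]; exact one_mem H
      · have hcyc : IsCyclic (Subgroup.zpowers x) := inferInstance
        haveI := Fintype.ofFinite (Subgroup.zpowers x)
        have hu := IsCyclic.card_pow_eq_one_le (α := Subgroup.zpowers x) (n := 2) (by norm_num)
        by_contra hnot
        have h3 : ({1, ⟨z, hzC⟩, ⟨x ^ j, hw⟩} : Finset (Subgroup.zpowers x)) ⊆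
            (Finset.univ : Finset (Subgroup.zpowers x)).filter (fun a => a ^ 2 = 1) := by
          intro a ha
          simp only [Finset.mem_insert, Finset.mem_singleton] at ha
          simp only [Finset.mem_filter, Finset.mem_univ, true_and]
          rcases ha with rfl | rfl | rfl
          · simp
          · exact Subtype.ext (hz2 ▸ pow_orderOf_eq_one z)
          · exact Subtype.ext h2
        have h4 := Finset.card_le_card h3
        rw [Finset.card_eq_three.2 ⟨1, ⟨z, hzC⟩, ⟨x ^ j, hw⟩, fun e => by
            rw [show z = 1 from (congrArg Subtype.val e).symm, orderOf_one] at hz2; norm_num at hz2,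
          fun e => h1 (congrArg Subtype.val e).symm,
          fun e => hnot (by
            have h5 : z = x ^ j := congrArg Subtype.val e
            rw [← h5]; exact hzH), rfl⟩] at h4
        omega
    have hcg : Commute g c := Subgroup.mem_centralizer_iff.1 hc g hgH
    by_cases hcx : c ∈ Subgroup.zpowers x
    · exact hsq c hcx hcg
    · have hmem : c * g ∈ Subgroup.zpowers x :=
        (Subgroup.mul_mem_iff_of_index_two hidx).2 (iff_of_false hcx hg)
      have h1 := hsq _ hmem (hcg.mul_right (Commute.refl g))
      rw [show c = c * g * g⁻¹ by group]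
      exact mul_mem h1 (inv_mem hgH)

end Cfsg.Agent.S3919
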