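import Cfsg.Statements.S3920
import Cfsg.Agent.Lib.Local.Basics

set_option autoImplicit false
set_option linter.style.haveILetI false
open Cfsg

open scoped Pointwise commutatorElement

namespace Cfsg.Agent.S3920

open DihedralGroup

theorem r_pow' {n : ℕ} (i : ZMod n) (k : ℕ) : (r i : DihedralGroup n) ^ k = r (i * (k : ZMod n)) := by
  induction k with
  | zero => rw [pow_zero, Nat.cast_zero, mul_zero]; rfl
  | succ k ih => rw [pow_succ, ih, r_mul_r, Nat.cast_succ]; ring_nf

theorem conj_sr_r {n : ℕ} (i j : ZMod n) : sr i * r j * (sr i)⁻¹ = r (-j) := by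
  rw [inv_sr, sr_mul_r, sr_mul_sr]; ring_nf

/-- The kernel of reduction of indices modulo `d`. -/
def evenPart {n : ℕ} (d : ℕ) (hd : d ∣ n) : Subgroup (DihedralGroup n) where
  carrier := {x | match x with
    | .r i => ZMod.castHom hd (ZMod d) i = 0
    | .sr i => ZMod.castHom hd (ZMod d) i = 0}
  one_mem' := map_zero _
  mul_mem' := by
    rintro (i | i) (j | j) hi hj <;>
      simp only [Set.mem_ofPred_eq, r_mul_r, r_mul_sr, sr_mul_r, sr_mul_sr] at hi hj ⊢ <;>
      simp [map_add, map_sub, hi, hj]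
  inv_mem' := by
    rintro (i | i) hi <;> simp only [Set.mem_ofPred_eq, inv_r, inv_sr] at hi ⊢ <;>
      simp [map_neg, hi]

theorem mem_r {n d : ℕ} (hd : d ∣ n) (i : ZMod n) :
    r i ∈ evenPart d hd ↔ ZMod.castHom hd (ZMod d) i = 0 := Iff.rfl

theorem mem_sr {n d : ℕ} (hd : d ∣ n) (i : ZMod n) :
    sr i ∈ evenPart d hd ↔ ZMod.castHom hd (ZMod d) i = 0 := Iff.rfl

theorem exists_sr {n : ℕ} (H : Subgroup (DihedralGroup n)) (h : ¬ IsMulCommutative H) :
    ∃ i, sr i ∈ H := by
  by_contra hn
  refine h ⟨⟨fun a b => Subtype.ext ?_⟩⟩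
  obtain ⟨a, ha⟩ := a
  obtain ⟨b, hb⟩ := b
  rcases a with i | i
  · rcases b with j | j
    · show r i * r j = r j * r i
      rw [r_mul_r, r_mul_r, add_comm]
    · exact absurd ⟨j, hb⟩ hn
  · exact absurd ⟨i, ha⟩ hn

/-- Say that a group has self-centralizing non-cyclic subgroups when every non-cyclic subgroup H satisfies C_G(H) ≤ H. For n ≥ 3, the dihedral group of order 2n has self-centralizing non-cyclic subgroups if and only if n is odd or a power of 2. -/
theorem result (n : ℕ) (hn : 3 ≤ n) : (∀ H : Subgroup (DihedralGroup n), ¬ IsCyclic ↥H → Subgroup.centralizer (H : Set (DihedralGroup n)) ≤ H) ↔ (Odd n ∨ ∃ k : ℕ, n = 2 ^ k) := by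
  haveI : NeZero n := ⟨by omega⟩
  constructor
  · intro h
    by_contra hc
    rw [not_or] at hc
    obtain ⟨k, m, hm, hkm⟩ := Nat.exists_eq_two_pow_mul_odd (show n ≠ 0 by omega)
    have hk : k ≠ 0 := fun h0 => hc.1 (by rw [hkm, h0, pow_zero, one_mul]; exact hm)
    have hm1 : m ≠ 1 := fun h1 => hc.2 ⟨k, by rw [hkm, h1, mul_one]⟩
    have hm3 : 3 ≤ m := by obtain ⟨t, ht⟩ := hm; omega
    obtain ⟨k', rfl⟩ : ∃ k', k = k' + 1 := ⟨k - 1, by omega⟩
    obtain ⟨H, hH⟩ : ∃ H, H = (evenPart (2 ^ (k' + 1)) ⟨m, hkm⟩ : Subgroup (DihedralGroup n)) :=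
      ⟨_, rfl⟩
    have hncyc : ¬ IsCyclic H := fun hcyc => by
      haveI := hcyc
      have h2 : (r ((2 ^ (k' + 1) : ℕ) : ZMod n) : DihedralGroup n) ∈ H := by
        rw [hH, mem_r, map_natCast, ZMod.natCast_self]
      have h0 : (sr 0 : DihedralGroup n) ∈ H := by rw [hH]; exact map_zero _
      have := congrArg Subtype.val ((inferInstance : IsMulCommutative H).is_comm.comm ⟨_, h2⟩ ⟨_, h0⟩)
      simp only [Subgroup.coe_mul, r_mul_sr, sr_mul_r] at this
      have h4 : ((2 * 2 ^ (k' + 1) : ℕ) : ZMod n) = 0 := by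
        push_cast
        have e := DihedralGroup.sr.inj this
        push_cast at e
        linear_combination -e
      rw [ZMod.natCast_eq_zero_iff, hkm] at h4
      have h5 := Nat.le_of_dvd (by positivity) h4
      have h6 : 0 < 2 ^ (k' + 1) := by positivity
      nlinarith
    have hz : (r ((2 ^ k' * m : ℕ) : ZMod n) : DihedralGroup n) ∉ H := by
      rw [hH, mem_r, map_natCast, ZMod.natCast_eq_zero_iff, pow_succ,
        Nat.mul_dvd_mul_iff_left (by positivity)]
      intro h2
      obtain ⟨t, ht⟩ := hm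
      omega
    refine hz (h H hncyc (Subgroup.mem_centralizer_iff.2 ?_))
    have h2z : ((2 ^ k' * m : ℕ) : ZMod n) + ((2 ^ k' * m : ℕ) : ZMod n) = 0 := by
      rw [← Nat.cast_add, ← two_mul, ← mul_assoc, ← pow_succ', ← hkm, ZMod.natCast_self]
    rintro (i | i) -
    · rw [r_mul_r, r_mul_r, add_comm]
    · rw [sr_mul_r, r_mul_sr]
      congr 1
      linear_combination h2z
  · intro hn' H hH
    have hcomm : ¬ ∃ a ∈ H, H ≤ Subgroup.zpowers a := fun ⟨a, ha, hle⟩ => hH
      ((Subgroup.isCyclic_iff_exists_zpowers_eq_top H).2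
        ⟨a, le_antisymm (Subgroup.zpowers_le.2 ha) hle⟩)
    -- a reflection of `H`
    obtain ⟨i, hi⟩ : ∃ i, sr i ∈ H := by
      by_contra hn0
      refine hH ?_
      have hle : H ≤ Subgroup.zpowers (r 1) := by
        rintro (j | j) hj
        · exact ⟨j.val, by
            show (r 1 : DihedralGroup n) ^ (j.val : ℤ) = r j
            rw [zpow_natCast, r_one_pow, ZMod.natCast_zmod_val]⟩
        · exact absurd ⟨j, hj⟩ hn0
      exact Subgroup.isCyclic_of_le hle
    -- a nontrivial rotation of `H`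
    obtain ⟨a, ha, ha0⟩ : ∃ a, r a ∈ H ∧ a ≠ 0 := by
      by_contra hn0
      refine hcomm ⟨sr i, hi, ?_⟩
      rintro (j | j) hj
      · have : j = 0 := by_contra fun h => hn0 ⟨j, hj, h⟩
        rw [this]; exact one_mem _
      · have h1 := mul_mem hi hj
        rw [sr_mul_sr] at h1
        have : j - i = 0 := by_contra fun h => hn0 ⟨j - i, h1, h⟩
        rw [sub_eq_zero.1 this]
        exact Subgroup.mem_zpowers _
    -- rotations of order two lie in `H`
    have htwo : ∀ b : ZMod n, b + b = 0 → r b ∈ H := by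
      intro b hb
      by_cases hb0 : b = 0
      · rw [hb0]; exact one_mem _
      rcases hn' with hodd | ⟨k, hk⟩
      · exfalso
        obtain ⟨t, ht⟩ := hodd
        have h0 : ((2 * t + 1 : ℕ) : ZMod n) = 0 := by rw [← ht]; exact ZMod.natCast_self n
        push_cast at h0
        exact hb0 (by linear_combination b * h0 - (t : ZMod n) * hb)
      · haveI : Fact (Nat.Prime 2) := ⟨Nat.prime_two⟩
        obtain ⟨j, -, hj⟩ := (Nat.dvd_prime_pow Nat.prime_two).1
          ((DihedralGroup.orderOf_r a).symm ▸ hk ▸ Nat.div_dvd_of_dvd (Nat.gcd_dvd_left n a.val) :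
            orderOf (r a : DihedralGroup n) ∣ 2 ^ k)
        have hj0 : j ≠ 0 := fun h0 => ha0 (by
          rw [h0, pow_zero, orderOf_eq_one_iff] at hj
          exact DihedralGroup.r.inj hj)
        obtain ⟨c, hcH, hco⟩ : ∃ c, r c ∈ H ∧ orderOf (r c : DihedralGroup n) = 2 := by
          refine ⟨a * ((2 ^ (j - 1) : ℕ) : ZMod n), ?_, ?_⟩
          · rw [← r_pow']; exact pow_mem ha _
          · rw [← r_pow', orderOf_pow_of_dvd (by positivity) (hj ▸ pow_dvd_pow 2 (by omega)), hj,
              Nat.pow_div (by omega) two_pos, show j - (j - 1) = 1 by omega, pow_one]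
        have hbo : orderOf (r b : DihedralGroup n) = 2 := orderOf_eq_prime (by
          rw [sq, r_mul_r, hb]; rfl) fun h => hb0 (DihedralGroup.r.inj h)
        have hcyc : ∀ x : ZMod n, r x ∈ Subgroup.zpowers (r 1 : DihedralGroup n) := fun x =>
          ⟨x.val, by
            show (r 1 : DihedralGroup n) ^ (x.val : ℤ) = r x
            rw [zpow_natCast, r_one_pow, ZMod.natCast_zmod_val]⟩
        have e : (⟨r b, hcyc b⟩ : Subgroup.zpowers (r 1 : DihedralGroup n)) = ⟨r c, hcyc c⟩ :=
          Local.eq_of_orderOf_eq_two (by rw [← Subgroup.orderOf_coe, hbo])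
            (by rw [← Subgroup.orderOf_coe, hco])
        rw [show (r b : DihedralGroup n) = r c from congrArg Subtype.val e]
        exact hcH
    rintro (j | j) hj
    · refine htwo j ?_
      have := Subgroup.mem_centralizer_iff.1 hj _ hi
      rw [sr_mul_r, r_mul_sr] at this
      linear_combination DihedralGroup.sr.inj this
    · have h1 := Subgroup.mem_centralizer_iff.1 hj _ hi
      rw [sr_mul_sr, sr_mul_sr] at h1
      have h2 : r (j - i) ∈ H := htwo _ (by linear_combination DihedralGroup.r.inj h1)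
      have h3 := mul_mem hi h2
      rwa [sr_mul_r, add_sub_cancel] at h3

end Cfsg.Agent.S3920
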