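import Cfsg.Statements.S3922
import Cfsg.Agent.Lib.Char.ItoRank.Flat

set_option autoImplicit false
open Cfsg

namespace Cfsg.Agent.S3922

/-- A finite group whose conjugacy classes have exactly three distinct sizes (1 and two further values) is solvable. -/
theorem result {G : Type*} [Group G] [Finite G] (n₁ n₂ : ℕ) (h12 : n₂ < n₁) (h2 : 1 < n₂)
    (h : ∀ x : G, (Subgroup.centralizer ({x} : Set G)).index = 1 ∨ (Subgroup.centralizer ({x} : Set G)).index = n₂ ∨
      (Subgroup.centralizer ({x} : Set G)).index = n₁)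
    (h₁ : ∃ x : G, (Subgroup.centralizer ({x} : Set G)).index = n₁) (h₂ : ∃ x : G, (Subgroup.centralizer ({x} : Set G)).index = n₂) :
    Group.IsSolvable G := by
  have hR : Char.ItoRank.Rank G n₁ n₂ := ⟨h12, h2, h⟩
  by_cases hn : ∃ a b : G, a ∉ Subgroup.center G ∧
      Subgroup.centralizer ({b} : Set G) < Subgroup.centralizer ({a} : Set G)
  · obtain ⟨a, b, ha, hlt⟩ := hn
    exact hR.solvable_of_nested ha hlt
  · exact hR.solvable_of_flat h₁ h₂ fun a b ha hle =>
      by_contra fun hne => hn ⟨a, b, ha, lt_of_le_of_ne hle hne⟩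

end Cfsg.Agent.S3922
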