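import Cfsg.Statements.S3927
import Cfsg.Agent.Lib.Solv.UniqueMaximal

set_option autoImplicit false
open Cfsg

open scoped Pointwise commutatorElement

namespace Cfsg.Agent.S3927

universe u

theorem aux : ∀ (n : ℕ) (G : Type u) [Group G] [Finite G], Nat.card G = n → ∀ (α : MulAut G),
    Subgroup.closure (Set.range (fun c : G => c * (α c)⁻¹)) = ⊤ → ∀ k : ℕ,
    Subgroup.closure (Set.range ((fun c : G => c * (α c)⁻¹)^[k])) = ⊤ := by
  intro n
  induction n using Nat.strong_induction_on with
  | _ n ih =>
    intro G _ _ hn α hG k
    set c : G → G := fun g => g * (α g)⁻¹ with hc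
    set H := Subgroup.closure (Set.range (c^[k])) with hH
    by_contra hne
    have hcomm : ∀ (j : ℕ) g, c^[j] (α g) = α (c^[j] g) := by
      intro j g
      induction j with
      | zero => rfl
      | succ j ihj => rw [Function.iterate_succ_apply', Function.iterate_succ_apply', ihj]; simp [hc]
    have hαH : ∀ h ∈ H, α h ∈ H := by
      intro h hh
      have : H ≤ H.comap α.toMonoidHom := (Subgroup.closure_le _).2 (by
        rintro _ ⟨g, rfl⟩
        exact Subgroup.subset_closure ⟨α g, hcomm k g⟩)
      exact this hh
    set C : Subgroup (MulAut G) := Subgroup.zpowers α with hC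
    have hpowH : ∀ (e : C), ∀ h ∈ H, (e : MulAut G) h ∈ H := by
      intro e h hh
      obtain ⟨i, hi⟩ := (mem_powers_iff_mem_zpowers.2 e.2 : (e : MulAut G) ∈ Submonoid.powers α)
      rw [← hi]
      simp only
      clear hi
      induction i with
      | zero => exact hh
      | succ i ihi => show (α ^ (i + 1)) h ∈ H; rw [pow_succ']; exact hαH _ ihi
    let α' : C := ⟨α, Subgroup.mem_zpowers α⟩
    let x : G ⋊[C.subtype] C := SemidirectProduct.inr α'
    set A := Subgroup.zpowers x with hA
    haveI : Finite (G ⋊[C.subtype] C) := Finite.of_equiv _ SemidirectProduct.equivProd.symm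
    have hinr : ∀ e : C, SemidirectProduct.inr e ∈ A := by
      rintro ⟨e, i, rfl⟩
      refine ⟨i, ?_⟩
      show (SemidirectProduct.inr α' : G ⋊[C.subtype] C) ^ i = _
      rw [← map_zpow]
      exact congrArg _ (Subtype.ext (SubgroupClass.coe_zpow α' i))
    have hconj : ∀ (a : G) (e : C),
        (SemidirectProduct.inl a : G ⋊[C.subtype] C) * SemidirectProduct.inr e *
          (SemidirectProduct.inl a)⁻¹ =
        SemidirectProduct.inl (a * ((e : MulAut G) a)⁻¹) * SemidirectProduct.inr e := by
      intro a e
      ext <;> simp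
    have hsplit : ∀ z : G ⋊[C.subtype] C,
        SemidirectProduct.inl z.left * SemidirectProduct.inr z.right = z :=
      SemidirectProduct.inl_left_mul_inr_right
    have hAH : ∀ L : Subgroup (G ⋊[C.subtype] C), A ≤ L →
        (∀ a : G, SemidirectProduct.inl (c a) ∈ L → SemidirectProduct.inl a ∈ L) →
        (∀ g, SemidirectProduct.inl (c^[k] g) ∈ L) → L = ⊤ := by
      intro L hAL hdown hk
      have : ∀ j g, SemidirectProduct.inl (c^[j] g) ∈ L → SemidirectProduct.inl g ∈ L := by
        intro j
        induction j with
        | zero => exact fun g h => h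
        | succ j ihj =>
          intro g h
          rw [Function.iterate_succ_apply] at h
          exact hdown g (ihj _ h)
      refine top_le_iff.1 fun z _ => ?_
      rw [← hsplit z]
      exact mul_mem (this k _ (hk _)) (hAL (hinr _))
    have hnc : Subgroup.normalClosure (A : Set (G ⋊[C.subtype] C)) = ⊤ := by
      set N := Subgroup.normalClosure (A : Set (G ⋊[C.subtype] C))
      have h1 : ∀ a, SemidirectProduct.inl (c a) ∈ N := by
        intro a
        have h2 := (Subgroup.normalClosure_normal (s := (A : Set (G ⋊[C.subtype] C)))).conj_mem x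
          (Subgroup.le_normalClosure (Subgroup.mem_zpowers x)) (SemidirectProduct.inl a)
        rw [hconj] at h2
        exact (Subgroup.mul_mem_cancel_right N (Subgroup.le_normalClosure (Subgroup.mem_zpowers x))).1 h2
      have h3 : (⊤ : Subgroup G) ≤ N.comap SemidirectProduct.inl := by
        rw [← hG, Subgroup.closure_le]
        rintro _ ⟨a, rfl⟩
        exact h1 a
      refine top_le_iff.1 fun z _ => ?_
      rw [← hsplit z]
      exact mul_mem (h3 (Subgroup.mem_top _)) (Subgroup.le_normalClosure (hinr _))
    let Hb : Subgroup (G ⋊[C.subtype] C) :=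
      { carrier := {z | z.left ∈ H}
        one_mem' := one_mem H
        mul_mem' := fun {a b} ha hb => by
          show (a * b).left ∈ H
          rw [SemidirectProduct.mul_left]
          exact mul_mem ha (hpowH a.right _ hb)
        inv_mem' := fun {a} ha => by
          show (a⁻¹).left ∈ H
          rw [SemidirectProduct.inv_left]
          exact hpowH a.right⁻¹ _ (inv_mem ha) }
    have hAHb : A ≤ Hb := Subgroup.zpowers_le.2 (show x.left ∈ H by simp [x])
    have hHbt : Hb ≠ ⊤ := fun e => hne (top_le_iff.1 fun g _ =>
      (show SemidirectProduct.inl g ∈ Hb from e ▸ Subgroup.mem_top _ :))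
    have hAt : A ≠ ⊤ := fun e => hHbt (top_le_iff.1 (e ▸ hAHb))
    have hY : sSup (Cfsg.Agent.Solv.UniqueMaximal.family A) ≠ ⊤ := by
      intro e
      refine hHbt (top_le_iff.1 (e.ge.trans (sSup_le ?_)))
      rintro L ⟨hAL, hLt, hgen⟩
      set K := L.comap SemidirectProduct.inl with hK
      have hmemK : ∀ z ∈ L, z.left ∈ K := by
        intro z hz
        show SemidirectProduct.inl z.left ∈ L
        rw [eq_mul_inv_of_mul_eq (hsplit z)]
        exact mul_mem hz (inv_mem (hAL (hinr z.right)))
      have hαK : ∀ a, a ∈ K ↔ α a ∈ K := by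
        intro a
        show SemidirectProduct.inl a ∈ L ↔ SemidirectProduct.inl (α a) ∈ L
        rw [show (SemidirectProduct.inl (α a) : G ⋊[C.subtype] C) =
          x * SemidirectProduct.inl a * x⁻¹ from
            (SemidirectProduct.inl_aut (φ := C.subtype) α' a).trans (by rw [map_inv])]
        have hx := hAL (Subgroup.mem_zpowers x)
        constructor
        · exact fun h => mul_mem (mul_mem hx h) (inv_mem hx)
        · intro h
          have := mul_mem (mul_mem (inv_mem hx) h) hx
          simpa [mul_assoc] using this
      let β : MulAut K :=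
        { toFun := fun a => ⟨α a, (hαK a).1 a.2⟩
          invFun := fun a => ⟨α.symm a, (hαK _).2 (by rw [MulEquiv.apply_symm_apply]; exact a.2)⟩
          left_inv := fun a => Subtype.ext (α.symm_apply_apply a)
          right_inv := fun a => Subtype.ext (α.apply_symm_apply a)
          map_mul' := fun a b => Subtype.ext (map_mul α a.1 b.1) }
      set Q := (Subgroup.closure (Set.range fun a : K => a * (β a)⁻¹)).map K.subtype with hQ
      have hQc : ∀ a ∈ K, c a ∈ Q := fun a ha =>
        ⟨_, Subgroup.subset_closure ⟨⟨a, ha⟩, rfl⟩, rfl⟩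
      have hαQ : ∀ a ∈ Q, α a ∈ Q := by
        intro a ha
        have : Q ≤ Q.comap α.toMonoidHom := by
          rw [hQ, Subgroup.map_le_iff_le_comap, Subgroup.closure_le]
          rintro _ ⟨b, rfl⟩
          show α ((b : G) * (α b)⁻¹) ∈ Q
          rw [map_mul, map_inv]
          exact hQc _ ((hαK b).1 b.2)
        exact this ha
      have hpow : ∀ (i : ℕ), (∀ a ∈ Q, (α ^ i) a ∈ Q) ∧ ∀ a ∈ K, a * ((α ^ i) a)⁻¹ ∈ Q := by
        intro i
        induction i with
        | zero => exact ⟨fun a ha => ha, fun a _ => by simp⟩
        | succ i ihi =>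
          refine ⟨fun a ha => ?_, fun a ha => ?_⟩
          · rw [pow_succ']; exact hαQ _ (ihi.1 a ha)
          · have h1 := mul_mem (ihi.2 a ha) (ihi.1 _ (hQc a ha))
            convert h1 using 1
            simp only [hc, map_mul, map_inv, pow_succ, MulAut.mul_apply]
            group
      have hpowC : ∀ e : C, (∀ a ∈ Q, (e : MulAut G) a ∈ Q) ∧
          ∀ a ∈ K, a * ((e : MulAut G) a)⁻¹ ∈ Q := by
        intro e
        obtain ⟨i, hi⟩ := (mem_powers_iff_mem_zpowers.2 e.2 : (e : MulAut G) ∈ Submonoid.powers α)
        rw [← hi]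
        exact hpow i
      let Qb : Subgroup L :=
        { carrier := {z | (z : G ⋊[C.subtype] C).left ∈ Q}
          one_mem' := one_mem Q
          mul_mem' := fun {a b} ha hb => by
            show ((a : G ⋊[C.subtype] C) * b).left ∈ Q
            rw [SemidirectProduct.mul_left]
            exact mul_mem ha ((hpowC _).1 _ hb)
          inv_mem' := fun {a} ha => by
            show ((a : G ⋊[C.subtype] C)⁻¹).left ∈ Q
            rw [SemidirectProduct.inv_left]
            exact (hpowC (a : G ⋊[C.subtype] C).right⁻¹).1 _ (inv_mem ha) }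
      have hQb : Subgroup.normalClosure ((A.subgroupOf L : Subgroup L) : Set L) ≤ Qb := by
        refine (Subgroup.closure_le _).2 ?_
        intro y hy
        obtain ⟨w, hw, hwy⟩ := Group.mem_conjugatesOfSet_iff.1 hy
        obtain ⟨z, rfl⟩ := isConj_iff.1 hwy
        show ((z : G ⋊[C.subtype] C) * w * (z : G ⋊[C.subtype] C)⁻¹).left ∈ Q
        obtain ⟨i, hi⟩ := (hw : (w : G ⋊[C.subtype] C) ∈ A)
        simp only [x, ← map_zpow, Subgroup.coe_subtype] at hi
        rw [← hi, ← hsplit (z : G ⋊[C.subtype] C)]
        have : ∀ (a : G) (e f : C),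
            ((SemidirectProduct.inl a : G ⋊[C.subtype] C) * SemidirectProduct.inr e *
              SemidirectProduct.inr f *
              (SemidirectProduct.inl a * SemidirectProduct.inr e)⁻¹).left =
            a * ((f : MulAut G) a)⁻¹ := by
          intro a e f
          have hcm : e * f = f * e := Subtype.ext (by
            obtain ⟨i, hi⟩ := e.2; obtain ⟨j, hj⟩ := f.2
            show (e : MulAut G) * f = f * e
            rw [← hi, ← hj]; exact (Commute.refl α).zpow_zpow i j)
          rw [mul_inv_rev, show (SemidirectProduct.inl a : G ⋊[C.subtype] C) *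
            SemidirectProduct.inr e * SemidirectProduct.inr f *
              ((SemidirectProduct.inr e)⁻¹ * (SemidirectProduct.inl a)⁻¹) =
            SemidirectProduct.inl a * SemidirectProduct.inr (e * f * e⁻¹) *
              (SemidirectProduct.inl a)⁻¹ by rw [map_mul, map_mul, map_inv]; group,
            hcm, mul_inv_cancel_right, hconj]
          simp
        rw [this]
        exact (hpowC _).2 _ (hmemK _ z.2)
      rw [hgen, top_le_iff] at hQb
      have hKQ : K ≤ Q := by
        intro a ha
        have := hQb.ge (Subgroup.mem_top (⟨SemidirectProduct.inl a, ha⟩ : L))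
        exact this
      have hKne : K ≠ ⊤ := by
        intro h
        refine hLt (top_le_iff.1 fun z _ => ?_)
        rw [← hsplit z]
        exact mul_mem (show z.left ∈ K from h ▸ Subgroup.mem_top _) (hAL (hinr _))
      have hβ : Subgroup.closure (Set.range fun a : K => a * (β a)⁻¹) = ⊤ := by
        refine top_le_iff.1 fun a _ => ?_
        obtain ⟨b, hb, hba⟩ := hKQ a.2
        rwa [show a = b from Subtype.ext hba.symm]
      have hK' := ih _ (hn ▸ Cfsg.Agent.Solv.card_lt_of_ne_top hKne) K rfl β hβ k
      have hiter : ∀ (j : ℕ) (a : K),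
          (((fun a : K => a * (β a)⁻¹)^[j]) a : G) = c^[j] a := by
        intro j a
        induction j with
        | zero => rfl
        | succ j ihj =>
          rw [Function.iterate_succ_apply', Function.iterate_succ_apply', ← ihj]
          rfl
      have hKH : K ≤ H := by
        have : (⊤ : Subgroup K) ≤ H.comap K.subtype := by
          rw [← hK', Subgroup.closure_le]
          rintro _ ⟨a, rfl⟩
          exact Subgroup.subset_closure ⟨a, (hiter k a).symm⟩
        exact fun a ha => this (Subgroup.mem_top ⟨a, ha⟩)
      intro z hz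
      exact hKH (hmemK z hz)
    obtain ⟨M, hM, hHM⟩ := (eq_top_or_exists_le_coatom Hb).resolve_left hHbt
    refine hM.1 (hAH M (hAHb.trans hHM) (fun a ha => ?_) fun g => hHM ?_)
    · set y : G ⋊[C.subtype] C := SemidirectProduct.inl a
      have h1 : y * x * y⁻¹ ∈ M := by
        rw [hconj]
        exact mul_mem ha (hAHb.trans hHM (Subgroup.mem_zpowers x))
      have h2 : A ≤ MulAut.conj y⁻¹ • M := by
        refine Subgroup.zpowers_le.2 ?_
        rw [Cfsg.Agent.Solv.mem_conj_smul, inv_inv]
        exact h1
      have h3 := Cfsg.Agent.Solv.UniqueMaximal.unique_maximal A hnc hAt hY _ M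
        (Cfsg.Agent.Solv.UniqueMaximal.isCoatom_conj hM y⁻¹) hM h2 (hAHb.trans hHM)
      have h4 : y⁻¹ ∈ Subgroup.normalizer (M : Set (G ⋊[C.subtype] C)) :=
        Cfsg.Agent.Solv.mem_normalizer_of_conj_smul h3
      have h5 : Subgroup.normalizer (M : Set (G ⋊[C.subtype] C)) = M := by
        rcases hM.le_iff.1 (Subgroup.le_normalizer (H := M)) with h | h
        · haveI := Subgroup.normalizer_eq_top_iff.1 h
          exact absurd (top_le_iff.1 (hnc.ge.trans
            (Subgroup.normalClosure_le_normal (hAHb.trans hHM)))) hM.1
        · exact h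
      rw [h5] at h4
      exact inv_mem_iff.1 h4
    · show (SemidirectProduct.inl (φ := C.subtype) (c^[k] g)).left ∈ H
      exact Subgroup.subset_closure ⟨g, by simp⟩

/-- Let G be a finite group and α an automorphism of G with [G, α] = G, that is, the elements g·α(g)⁻¹ generate G. Then for every k ≥ 1 the iterated commutators [g, α, …, α] with k entries α — the values of the k-th iterate of the map c ↦ c·α(c)⁻¹ — also generate G. -/
theorem result {G : Type*} [Group G] [Finite G] (α : MulAut G) (hG : Subgroup.closure (Set.range (fun c : G => c * (α c)⁻¹)) = ⊤) (k : ℕ) (hk : 1 ≤ k) :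
    Subgroup.closure (Set.range ((fun c : G => c * (α c)⁻¹)^[k])) = ⊤ := by
  exact aux _ G rfl α hG k

end Cfsg.Agent.S3927
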