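import Cfsg.Statements.S3933
import Cfsg.Agent.Lib.Solv.ThreeSolv
-- import your own Cfsg.Agent.* helpers here

set_option autoImplicit false
open Cfsg

namespace Cfsg.Agent.S3933


universe u

/-- Number of Sylow subgroups is trivial or a prime power. -/
def Hyp (G : Type u) [Group G] : Prop :=
  ∀ (r : ℕ) [Fact r.Prime], Nat.card (Sylow r G) = 1 ∨ IsPrimePow (Nat.card (Sylow r G))

theorem one_or_primePow_of_dvd {a b : ℕ} (h : a ∣ b) (hb : b = 1 ∨ IsPrimePow b) :
    a = 1 ∨ IsPrimePow a := by
  rcases hb with rfl | hb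
  · exact Or.inl (Nat.dvd_one.1 h)
  · exact (em (a = 1)).imp id fun ha => hb.dvd h ha

theorem Hyp.quotient {G : Type u} [Group G] [Finite G] (h : Hyp G) (N : Subgroup G) [N.Normal] :
    Hyp (G ⧸ N) := by
  intro r _
  obtain ⟨P⟩ := (Sylow.nonempty : Nonempty (Sylow r G))
  refine one_or_primePow_of_dvd ?_ (h r)
  have hs : Function.Surjective (QuotientGroup.mk' N) := QuotientGroup.mk'_surjective N
  rw [(P.mapSurjective hs).card_eq_index_normalizer, P.card_eq_index_normalizer]
  show (Subgroup.normalizer (((P : Subgroup G).map (QuotientGroup.mk' N) : Subgroup (G ⧸ N)) :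
    Set (G ⧸ N))).index ∣ (Subgroup.normalizer ((P : Subgroup G) : Set G)).index
  exact (Subgroup.index_dvd_of_le (Subgroup.le_normalizer_map _)).trans
    (Subgroup.index_map_dvd _ hs)

theorem Hyp.normal {G : Type u} [Group G] [Finite G] (h : Hyp G) (N : Subgroup G) [N.Normal] :
    Hyp N := by
  intro r _
  obtain ⟨R⟩ := (Sylow.nonempty : Nonempty (Sylow r N))
  obtain ⟨P, hP⟩ := Sylow.exists_comap_subtype_eq R
  refine one_or_primePow_of_dvd ?_ (h r)
  rw [R.card_eq_index_normalizer, P.card_eq_index_normalizer]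
  show (Subgroup.normalizer ((R : Subgroup N) : Set N)).index ∣
    (Subgroup.normalizer ((P : Subgroup G) : Set G)).index
  rw [← hP]
  have hle : (Subgroup.normalizer ((P : Subgroup G) : Set G)).subgroupOf N
      ≤ Subgroup.normalizer (((P : Subgroup G).comap N.subtype) : Set N) :=
    Subgroup.le_normalizer_comap _
  exact (Subgroup.index_dvd_of_le hle).trans (Solv.relIndex_dvd_index_normal _ N)

theorem isSolvable_of_simple {G : Type u} [Group G] [Finite G] [IsSimpleGroup G] (h : Hyp G) :
    Group.IsSolvable G := by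
  by_contra hns
  -- every Sylow number is a proper prime power
  have key : ∀ r : ℕ, r.Prime → r ∣ Nat.card G → ∃ (q : ℕ), q.Prime ∧ q ≠ r ∧ q ∣ Nat.card G ∧
      ∀ P : Subgroup G, ∀ _ : IsPGroup r P, ∀ _ : ¬ r ∣ P.index,
        (∃ k : ℕ, (Subgroup.normalizer (P : Set G)).index = q ^ k) ∧
          Subgroup.normalizer (P : Set G) ≠ ⊤ := by
    intro r hr hdvd
    have := Fact.mk hr
    have hprop : ∀ P : Sylow r G, Subgroup.normalizer ((P : Subgroup G) : Set G) ≠ ⊤ := by
      intro P htop
      have hn : (P : Subgroup G).Normal := Subgroup.normalizer_eq_top_iff.1 htop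
      rcases hn.eq_bot_or_eq_top with e | e
      · exact P.ne_bot_of_dvd_card hdvd e
      · have : IsPGroup r G := by
          intro g
          obtain ⟨k, hk⟩ := P.isPGroup' ⟨g, e ▸ Subgroup.mem_top g⟩
          exact ⟨k, congrArg Subtype.val hk⟩
        exact hns (Solv.isSolvable_of_isPGroup this)
    obtain ⟨P₀⟩ := (Sylow.nonempty : Nonempty (Sylow r G))
    have hne1 : Nat.card (Sylow r G) ≠ 1 := by
      intro e
      rw [P₀.card_eq_index_normalizer, Subgroup.index_eq_one] at e
      exact hprop P₀ e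
    obtain ⟨q, a, hq, ha, hqa⟩ := (h r).resolve_left hne1
    rw [← Nat.prime_iff] at hq
    refine ⟨q, hq, ?_, ?_, ?_⟩
    · rintro rfl
      exact (not_dvd_card_sylow q G) (hqa ▸ dvd_pow_self q ha.ne')
    · exact (dvd_pow_self q ha.ne').trans (hqa ▸ (P₀.card_eq_index_normalizer ▸
        (Subgroup.normalizer ((P₀ : Subgroup G) : Set G)).index_dvd_card))
    · intro P hp hi
      refine ⟨⟨a, ?_⟩, hprop (hp.toSylow hi)⟩
      rw [hqa, (hp.toSylow hi).card_eq_index_normalizer]
      rfl
  choose q hqp hqne hqdvd hqN using key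
  -- two primes suffice
  have step : ∀ v (hv : v.Prime) (hvd : v ∣ Nat.card G) w (hw : w.Prime) (hwd : w ∣ Nat.card G),
      w ≠ q v hv hvd → q w hw hwd = q v hv hvd := by
    intro v hv hvd w hw hwd hne
    by_contra hq
    have := Fact.mk hv
    have := Fact.mk hw
    obtain ⟨P⟩ := (Sylow.nonempty : Nonempty (Sylow v G))
    obtain ⟨⟨a, ha⟩, hM⟩ := hqN v hv hvd P P.isPGroup' P.not_dvd_index
    set M := Subgroup.normalizer ((P : Subgroup G) : Set G) with hMdef
    obtain ⟨U₀⟩ := (Sylow.nonempty : Nonempty (Sylow w M))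
    set U : Subgroup G := (U₀ : Subgroup M).map M.subtype
    have hUi : ¬ w ∣ U.index := by
      rw [Subgroup.index_map_subtype, ha]
      refine hw.not_dvd_mul U₀.not_dvd_index fun hd => ?_
      exact hne ((Nat.prime_dvd_prime_iff_eq hw (hqp v hv hvd)).1 (hw.dvd_of_dvd_pow hd))
    have hUp : IsPGroup w U := U₀.isPGroup'.map _
    obtain ⟨⟨b, hb⟩, -⟩ := hqN w hw hwd U hUp hUi
    have hco : (Subgroup.normalizer (U : Set G)).index.Coprime M.index := by
      rw [ha, hb]
      exact (((Nat.coprime_primes (hqp w hw hwd) (hqp v hv hvd)).2 hq).pow_left b).pow_right a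
    have hconj : ∀ g : G, ∀ x ∈ U, g * x * g⁻¹ ∈ M := by
      intro g x hx
      obtain ⟨k, hk, y, hy, rfl⟩ := Solv.exists_mul_of_coprime_index hco g
      have h1 : y * x * y⁻¹ ∈ M := Subgroup.map_subtype_le _ ((hy x).1 hx)
      have : k * y * x * (k * y)⁻¹ = k * (y * x * y⁻¹) * k⁻¹ := by group
      rw [this]
      exact M.mul_mem (M.mul_mem hk h1) (M.inv_mem hk)
    have hnc : Subgroup.normalClosure (U : Set G) ≤ M := by
      refine (Subgroup.closure_le M).2 ?_
      intro z hz
      obtain ⟨x, hx, hc⟩ := Group.mem_conjugatesOfSet_iff.1 hz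
      obtain ⟨c, rfl⟩ := isConj_iff.1 hc
      exact hconj c x hx
    rcases (Subgroup.normalClosure_normal (s := (U : Set G))).eq_bot_or_eq_top with e | e
    · refine (hUp.toSylow hUi).ne_bot_of_dvd_card hwd ?_
      exact le_bot_iff.1 (e ▸ Subgroup.le_normalClosure)
    · exact hM (top_le_iff.1 (e ▸ hnc))
  rcases subsingleton_or_nontrivial G with hG | hG
  · exact hns inferInstance
  obtain ⟨v, hv, hvd⟩ := Nat.exists_prime_and_dvd (Finite.one_lt_card (α := G)).ne'
  have hQ := hqp v hv hvd
  have hQd := hqdvd v hv hvd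
  refine hns (Char.isSolvable_of_two_primes hQ (hqp _ hQ hQd) _ rfl fun r hr hrd => ?_)
  by_contra hne
  push Not at hne
  have e1 := step v hv hvd r hr hrd hne.1
  have e2 := step _ hQ hQd r hr hrd hne.2
  exact hqne _ hQ hQd (e2.symm.trans e1)

theorem main : ∀ (n : ℕ) (G : Type u) [Group G] [Finite G], Nat.card G = n → Hyp G →
    Group.IsSolvable G := by
  intro n
  induction n using Nat.strong_induction_on with
  | _ n ih =>
    intro G _ _ hn h
    rcases subsingleton_or_nontrivial G with hG | hG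
    · infer_instance
    by_cases hs : IsSimpleGroup G
    · exact isSolvable_of_simple h
    · obtain ⟨N, hN, hNb, hNt⟩ := Solv.exists_normal_of_not_simple hs
      exact Solv.isSolvable_of_normal_quotient N
        (ih _ (hn ▸ Solv.card_lt_of_ne_top hNt) N rfl (h.normal N))
        (ih _ (hn ▸ Solv.card_quotient_lt N hNb) (G ⧸ N) rfl (h.quotient N))

/-- If for every prime r the number of Sylow r-subgroups of the finite group G is a prime power or 1, then G is solvable. -/
theorem result {G : Type*} [Group G] [Finite G] (h : ∀ (r : ℕ) [Fact r.Prime], Nat.card (Sylow r G) = 1 ∨ IsPrimePow (Nat.card (Sylow r G))) :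
    Group.IsSolvable G := by
  exact main _ G rfl h

end Cfsg.Agent.S3933
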