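import Cfsg.Statements.S3939
import Cfsg.Agent.Lib.Solv.Engel
import Cfsg.Agent.Lib.Solv.Parts
import Cfsg.Agent.Lib.Fusion.Cores

set_option autoImplicit false
set_option linter.style.haveILetI false
open Cfsg

open scoped Pointwise commutatorElement

namespace Cfsg.Agent.S3939

/-- In a finite group G the set of elements g such that the subgroup generated by g and x is nilpotent for every x ∈ G is exactly the hypercenter of G (the last term of the upper central series). -/
theorem result {G : Type*} [Group G] [Finite G] (g : G) :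
    (∀ x : G, Group.IsNilpotent ↥(Subgroup.closure ({x, g} : Set G))) ↔ g ∈ ⨆ n : ℕ, Subgroup.upperCentralSeries G n := by
  classical
  have hmono : Monotone fun n : ℕ => Subgroup.upperCentralSeries G n :=
    Subgroup.upperCentralSeries_mono G
  constructor
  · intro h
    -- `g` is an Engel element
    have hE : ∀ x : G, ∃ n : ℕ, (fun a => ⁅a, g⁆)^[n] x = 1 := by
      intro x
      haveI := h x
      set H := Subgroup.closure ({x, g} : Set G)
      have hx : x ∈ H := Subgroup.subset_closure (by simp)
      have hg : g ∈ H := Subgroup.subset_closure (by simp)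
      obtain ⟨n, hn⟩ := Solv.engel_of_mem_fitting (g := (⟨g, hg⟩ : H))
        (Solv.normal_le_fitting (N := (⊤ : Subgroup H))
          (Group.nilpotent_of_mulEquiv Subgroup.topEquiv.symm) (Subgroup.mem_top _)) ⟨x, hx⟩
      refine ⟨n, ?_⟩
      have key : ∀ (j : ℕ) (y : H),
          ((((fun a => ⁅a, (⟨g, hg⟩ : H)⁆)^[j] y) : H) : G) = (fun a => ⁅a, g⁆)^[j] (y : G) := by
        intro j
        induction j with
        | zero => intro y; rfl
        | succ j ihj => intro y; rw [Function.iterate_succ_apply, Function.iterate_succ_apply, ihj]; rfl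
      rw [← key n ⟨x, hx⟩, hn]; rfl
    have hgF := Solv.engel_mem_fitting hE
    -- each primary part is hypercentral
    have hpart : ∀ (p : ℕ) [Fact p.Prime] (u : G), u ∈ Subgroup.zpowers g →
        (∃ k, orderOf u = p ^ k) → u ∈ ⨆ n : ℕ, Subgroup.upperCentralSeries G n := by
      intro p hpf u hu ⟨k, hk⟩
      have hcomm : ∀ v : G, (orderOf v).Coprime p → Commute u v := by
        intro v hv
        haveI := h v
        set H := Subgroup.closure ({v, g} : Set G)
        have hvH : v ∈ H := Subgroup.subset_closure (by simp)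
        have huH : u ∈ H := (Subgroup.zpowers_le.2 (Subgroup.subset_closure (by simp))) hu
        have hc := Solv.commute_of_coprime_nilpotent (u := (⟨u, huH⟩ : H)) (v := ⟨v, hvH⟩)
          (p := p) (k := k) (by rw [Subgroup.orderOf_mk, hk]) (by rwa [Subgroup.orderOf_mk])
        exact congrArg Subtype.val hc.eq
      haveI hRn : (pResidual p G).Normal := inferInstance
      haveI := Solv.pCore_normal (G := G) p
      set P' := Cfsg.pCore p G ⊓ Subgroup.centralizer (pResidual p G : Set G) with hP'
      haveI hP'n : P'.Normal := by rw [hP']; infer_instance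
      have huP : u ∈ P' := by
        refine Subgroup.mem_inf.2 ⟨?_, ?_⟩
        · exact Solv.pgroup_le_pCore_of_le_fitting (Solv.isPGroup_zpowers hk)
            (Subgroup.zpowers_le.2 ((Subgroup.zpowers_le.2 hgF) hu)) (Subgroup.mem_zpowers u)
        · refine Subgroup.mem_centralizer_iff.2 ?_
          intro r hr
          have hle : pResidual p G ≤ Subgroup.centralizer ({u} : Set G) :=
            (Subgroup.closure_le _).2 fun v hv => Subgroup.mem_centralizer_singleton_iff.2 (hcomm v hv).eq.symm
          exact Subgroup.mem_centralizer_singleton_iff.1 (hle hr)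
      obtain ⟨S⟩ : Nonempty (Sylow p G) := inferInstance
      have hP'S : P' ≤ (S : Subgroup G) := inf_le_left.trans (fun x hx => by
        obtain ⟨S', hS'⟩ := (Solv.pCore_isPGroup (G := G) p).exists_le_sylow
        obtain ⟨y, hy⟩ := MulAction.exists_smul_eq G S' S
        rw [← hy]
        refine ⟨y⁻¹ * x * y, hS' (by simpa using
          (inferInstance : (Cfsg.pCore p G).Normal).conj_mem x hx y⁻¹), ?_⟩
        show y * (y⁻¹ * x * y) * y⁻¹ = x
        group)
      haveI := S.isPGroup'.isNilpotent
      obtain ⟨c, hc⟩ := Subgroup.nilpotent_iff_lowerCentralSeries.1 ‹Group.IsNilpotent (S : Subgroup G)›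
      have key : ∀ (i j : ℕ), i + j = c → ∀ a ∈ P', a ∈ ((⊤ : Subgroup (S : Subgroup G)).lowerCentralSeries j).map
          (S : Subgroup G).subtype → a ∈ Subgroup.upperCentralSeries G i := by
        intro i
        induction i with
        | zero =>
          intro j hj a _ ha
          rw [zero_add] at hj
          rw [hj, hc, Subgroup.map_bot, Subgroup.mem_bot] at ha
          rw [ha]; exact one_mem _
        | succ i ih =>
          intro j hj a haP ha
          rw [Subgroup.mem_upperCentralSeries_succ_iff]
          intro y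
          have hy : y ∈ pResidual p G ⊔ (S : Subgroup G) := by
            rw [Fusion.pResidual_sup_sylow S]; exact Subgroup.mem_top y
          rw [Subgroup.mem_sup_of_normal_left] at hy
          obtain ⟨r, hr, s, hs, rfl⟩ := hy
          obtain ⟨a', ha', rfl⟩ := ha
          have has : ⁅(a' : G), s⁆ ∈ P' := by
            rw [commutatorElement_def, mul_assoc, mul_assoc, ← mul_assoc s]
            exact mul_mem haP (hP'n.conj_mem _ (inv_mem haP) s)
          have heq : ⁅(a' : G), r * s⁆ = ⁅(a' : G), s⁆ := by
            have h1 : r * (a' : G) = a' * r := Subgroup.mem_centralizer_iff.1 (Subgroup.mem_inf.1 haP).2 r hr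
            have h2 : r * ⁅(a' : G), s⁆ = ⁅(a' : G), s⁆ * r :=
              Subgroup.mem_centralizer_iff.1 (Subgroup.mem_inf.1 has).2 r hr
            calc ⁅(a' : G), r * s⁆ = (a' * r * (a' : G)⁻¹ * r⁻¹) * (r * ⁅(a' : G), s⁆ * r⁻¹) := by
                  simp only [commutatorElement_def]; group
              _ = _ := by rw [← h1, h2]; group
          show ⁅(a' : G), r * s⁆ ∈ _
          rw [heq]
          exact ih (j + 1) (by omega) _ has ⟨⁅a', ⟨s, hs⟩⁆,
            Subgroup.commutator_mem_commutator ha' (Subgroup.mem_top _), rfl⟩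
      refine Subgroup.mem_iSup_of_mem c (key c 0 (add_zero c) u huP ?_)
      exact ⟨⟨u, hP'S huP⟩, Subgroup.mem_top _, rfl⟩
    suffices ∀ (N : ℕ) (x : G), x ∈ Subgroup.zpowers g → orderOf x = N →
        x ∈ ⨆ n : ℕ, Subgroup.upperCentralSeries G n from this _ g (Subgroup.mem_zpowers g) rfl
    intro N
    induction N using Nat.strong_induction_on with
    | _ N ih =>
      intro x hx hN
      by_cases h1 : N = 1
      · rw [orderOf_eq_one_iff.1 (hN.trans h1)]; exact one_mem _
      obtain ⟨q, hq, hqN⟩ := Nat.exists_prime_and_dvd h1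
      haveI := Fact.mk hq
      obtain ⟨u, v, hu, hv, huv, huk, hvq⟩ := Solv.exists_ppart q x
      rw [← huv]
      refine mul_mem (hpart q u ((Subgroup.zpowers_le.2 hx) hu) huk)
        (ih (orderOf v) (lt_of_le_of_ne ?_ fun e => ?_) v ((Subgroup.zpowers_le.2 hx) hv) rfl)
      · rw [← hN]
        exact Nat.le_of_dvd (orderOf_pos x) (orderOf_dvd_of_mem_zpowers hv)
      · rw [e] at hvq
        exact hq.ne_one (Nat.eq_one_of_dvd_coprimes hvq hqN dvd_rfl)
  · intro hg x
    obtain ⟨n, hn⟩ := (Subgroup.mem_iSup_of_directed hmono.directed_le).1 hg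
    set H := Subgroup.closure ({x, g} : Set G)
    have hx : x ∈ H := Subgroup.subset_closure (by simp)
    have hg' : g ∈ H := Subgroup.subset_closure (by simp)
    have key : ∀ (j : ℕ) (a : H), (a : G) ∈ Subgroup.upperCentralSeries G j →
        a ∈ Subgroup.upperCentralSeries H j := by
      intro j
      induction j with
      | zero =>
        intro a ha
        rw [Subgroup.upperCentralSeries_zero, Subgroup.mem_bot] at ha ⊢
        exact Subtype.ext ha
      | succ j ih =>
        intro a ha
        rw [Subgroup.mem_upperCentralSeries_succ_iff] at ha ⊢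
        exact fun y => ih _ (ha y)
    set Z := Subgroup.upperCentralSeries H n with hZ
    have hgZ : (⟨g, hg'⟩ : H) ∈ Z := key n _ hn
    have hall : ∀ a : H, (QuotientGroup.mk a : H ⧸ Z) ∈ Subgroup.zpowers (QuotientGroup.mk ⟨x, hx⟩ : H ⧸ Z) := by
      rintro ⟨a, ha⟩
      induction ha using Subgroup.closure_induction with
      | mem y hy =>
        rcases hy with rfl | hy
        · exact Subgroup.mem_zpowers _
        · have hyg : y = g := hy
          subst hyg
          rw [(QuotientGroup.eq_one_iff (⟨y, hg'⟩ : H)).2 hgZ]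
          exact one_mem _
      | one => exact one_mem _
      | mul a b ha hb iha ihb =>
        have hm := mul_mem iha ihb
        exact hm
      | inv a ha iha => exact inv_mem iha
    refine ⟨n + 1, ?_⟩
    refine top_le_iff.1 fun a _ => ?_
    rw [Subgroup.mem_upperCentralSeries_succ_iff]
    intro b
    rw [← QuotientGroup.eq_one_iff]
    obtain ⟨i, hi⟩ := hall a
    obtain ⟨j, hj⟩ := hall b
    have hi : (QuotientGroup.mk ⟨x, hx⟩ : H ⧸ Z) ^ i = QuotientGroup.mk a := hi
    have hj : (QuotientGroup.mk ⟨x, hx⟩ : H ⧸ Z) ^ j = QuotientGroup.mk b := hj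
    show (QuotientGroup.mk' Z) ⁅a, b⁆ = 1
    rw [map_commutatorElement, QuotientGroup.mk'_apply, QuotientGroup.mk'_apply, ← hi, ← hj,
      commutatorElement_eq_one_iff_mul_comm]
    exact (Commute.zpow_zpow_self _ i j).eq

end Cfsg.Agent.S3939
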