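import Cfsg.Statements.S3940
import Cfsg.Agent.Lib.Solv.PPrimeNilpotent.Main

set_option autoImplicit false
open Cfsg

namespace Cfsg.Agent.S3940

/-- Let p > 3 be a prime and G a finite group in which every subgroup of order prime to p is nilpotent. Then G is solvable. -/
theorem result {G : Type*} [Group G] [Finite G] (p : ℕ) (hp : p.Prime) (hp3 : 3 < p)
    (h : ∀ H : Subgroup G, (Nat.card ↥H).Coprime p → Group.IsNilpotent ↥H) : Group.IsSolvable G := by
  exact Cfsg.Agent.PPrimeNilpotent.solvable_aux hp hp3 _ G rfl h

end Cfsg.Agent.S3940
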